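import Mathlib
import Cfsg.Agent.Lib.SFTStatic
import Cfsg.Agent.Lib.SFTPair
import Cfsg.Agent.Lib.SFTPureBridge
import Cfsg.Agent.Lib.GlaubermanZJ
import Cfsg.Agent.Lib.ComponentsCores
import Cfsg.Agent.S0620

/-!
# Pure maximal members: the preimage of the Fitting subgroup and Thompson factorisation

For a maximal member `M` with the single component `q`, Thompson's factorisation holds on the
preimage `hat q M` of `F(M/O_q(M))` for every invariant `q`-subgroup between `O_q(M)` and `M`.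
-/

set_option autoImplicit false
set_option linter.unusedSectionVars false
set_option linter.style.haveILetI false

namespace Cfsg.Agent.SFTPure

open Cfsg.Agent.SignalizerCoprime Cfsg.Agent.HallCore Cfsg.Agent.SFTGroup Cfsg.Agent.SFTSigma
  Cfsg.Agent.SFTCtx Cfsg.Agent.SFTStatic
open Cfsg.Agent.SignalizerTransitivity (mem_family_of_le)
open scoped commutatorElement

universe u

section general

variable {G : Type u} [Group G] {q : ℕ}

/-- `Ω₁(Z(Y))`. -/
def omZ (q : ℕ) (Y : Subgroup G) : Subgroup G :=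
  Cfsg.omegaOne q (Y ⊓ Subgroup.centralizer (Y : Set G))

theorem omZ_le (Y : Subgroup G) : omZ q Y ≤ Y := (Offenders.omegaOne_le _).trans inf_le_left

theorem omZ_comm {Y : Subgroup G} {z y : G} (hz : z ∈ omZ q Y) (hy : y ∈ Y) : y * z = z * y :=
  (Subgroup.mem_inf.1 (Offenders.omegaOne_le _ hz)).2 y hy

theorem omZ_ea (Y : Subgroup G) : Cfsg.IsElementaryAbelian q (omZ q Y) :=
  Offenders.omegaOne_ea fun x hx y hy => (Subgroup.mem_inf.1 hy).2 x (Subgroup.mem_inf.1 hx).1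

theorem normalizer_le_omZ [Finite G] (Y : Subgroup G) :
    Subgroup.normalizer (Y : Set G) ≤ Subgroup.normalizer (omZ q Y : Set G) := by
  refine le_normalizer_of_forall fun g hg x hx => ?_
  have h : omZ q Y ≤ (omZ q Y).comap (MulAut.conj g).toMonoidHom := by
    refine (Subgroup.closure_le _).2 fun y ⟨hy, hyq⟩ => Subgroup.subset_closure ⟨?_, ?_⟩
    · exact mem_normalizer_conj (le_normalizer_inf le_rfl
        (SignalizerCoprime.le_normalizer_centralizer le_rfl) hg) hy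
    · rw [← map_pow, hyq, map_one]
  exact h hx

theorem normalizer_le_thompson [Finite G] (Y : Subgroup G) :
    Subgroup.normalizer (Y : Set G) ≤
      Subgroup.normalizer (Cfsg.thompsonSubgroupOf q Y : Set G) := fun g hg => by
  rw [Subgroup.mem_normalizer_iff_map_conj_eq]
  exact (Offenders.thompsonOf_map_conj g Y).trans
    (congrArg (Cfsg.thompsonSubgroupOf q) (Subgroup.mem_normalizer_iff_map_conj_eq.1 hg))

theorem omZ_ne_bot [Finite G] [Fact q.Prime] {Y : Subgroup G} (hY : IsPGroup q Y) (h : Y ≠ ⊥) :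
    omZ q Y ≠ ⊥ :=
  GlaubermanZJ.omegaOne_ne_bot (hY.to_le inf_le_left)
    (SFTPair.fixed_ne_bot hY hY h Subgroup.le_normalizer)

theorem thompson_ne_bot [Finite G] [Fact q.Prime] {Y : Subgroup G} (hY : IsPGroup q Y) (h : Y ≠ ⊥) :
    Cfsg.thompsonSubgroupOf q Y ≠ ⊥ := by
  classical
  intro hbot
  rw [Offenders.thompsonOf_eq] at hbot
  have hfin : {X : Subgroup G | X ≤ Y ∧ Cfsg.IsElementaryAbelian q X}.Finite := Set.toFinite _
  obtain ⟨X, hX⟩ := Set.Finite.exists_maximalFor (fun X : Subgroup G => Nat.card X) _ hfin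
    ⟨omZ q Y, omZ_le Y, omZ_ea Y⟩
  have hle : ∀ B : Subgroup G, B ≤ Y → Cfsg.IsElementaryAbelian q B → Nat.card B ≤ Nat.card X :=
    fun B hB hBe => not_lt.1 fun hlt => absurd (hX.2 ⟨hB, hBe⟩ hlt.le) (not_le.2 hlt)
  have hX0 : X ≤ ⊥ := hbot ▸ le_sSup (show X ∈ {A | Offenders.IsMaxIn q Y A} from
    ⟨hX.1.1, hX.1.2, hle⟩)
  have h1 := hle _ (omZ_le Y) (omZ_ea Y)
  rw [le_bot_iff.1 hX0, Subgroup.card_bot] at h1
  exact omZ_ne_bot hY h (Subgroup.card_eq_one.1 (le_antisymm h1 Nat.card_pos))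

/-- The preimage of `F(M/O_q(M))`. -/
def hat (q : ℕ) (M : Subgroup G) : Subgroup G :=
  (((Cfsg.fittingSubgroup ↥(img (Cfsg.pCoreOf q M) M)).map
    (img (Cfsg.pCoreOf q M) M).subtype).comap (proj (Cfsg.pCoreOf q M))).map
      (Subgroup.normalizer (Cfsg.pCoreOf q M : Set G)).subtype

variable [Finite G] [Fact q.Prime]

theorem mem_hat {M : Subgroup G} {x : G} :
    x ∈ hat q M ↔ ∃ h : x ∈ Subgroup.normalizer (Cfsg.pCoreOf q M : Set G),
      proj (Cfsg.pCoreOf q M) ⟨x, h⟩ ∈ (Cfsg.fittingSubgroup ↥(img (Cfsg.pCoreOf q M) M)).map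
        (img (Cfsg.pCoreOf q M) M).subtype := by
  constructor
  · rintro ⟨z, hz, rfl⟩
    exact ⟨z.2, hz⟩
  · rintro ⟨h, hx⟩
    exact ⟨⟨x, h⟩, hx, rfl⟩

theorem hat_le (M : Subgroup G) : hat q M ≤ M := by
  rintro _ ⟨z, hz, rfl⟩
  obtain ⟨w, hw, hwz⟩ := mem_img.1 (Subgroup.map_subtype_le _ hz)
  have h1 : proj (Cfsg.pCoreOf q M) (w⁻¹ * z) = 1 := by rw [map_mul, map_inv, hwz, inv_mul_cancel]
  have h2 : (w : G)⁻¹ * z ∈ M := oq_le q M (by simpa using proj_eq_one.1 h1)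
  simpa using mul_mem hw h2

theorem oq_le_hat (M : Subgroup G) : Cfsg.pCoreOf q M ≤ hat q M := fun x hx =>
  mem_hat.2 ⟨Subgroup.le_normalizer hx, by
    rw [proj_eq_one.2 (show ((⟨x, Subgroup.le_normalizer hx⟩ :
      ↥(Subgroup.normalizer (Cfsg.pCoreOf q M : Set G))) : G) ∈ _ from hx)]
    exact one_mem _⟩

theorem normalizer_le_hat (M : Subgroup G) :
    Subgroup.normalizer (M : Set G) ≤ Subgroup.normalizer (hat q M : Set G) := by
  refine le_normalizer_of_forall fun g hg x hx => ?_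
  obtain ⟨h, hx'⟩ := mem_hat.1 hx
  have hgP := normalizer_le_normalizer_oq q M hg
  refine mem_hat.2 ⟨mul_mem (mul_mem hgP h) (inv_mem hgP), ?_⟩
  haveI := ComponentsCores.fittingSubgroup_characteristic (G := ↥(img (Cfsg.pCoreOf q M) M))
  have hn : proj (Cfsg.pCoreOf q M) ⟨g, hgP⟩ ∈ Subgroup.normalizer
      ((img (Cfsg.pCoreOf q M) M : Subgroup _) : Set _) :=
    le_normalizer_of_forall (img_le_normalizer (Y := Subgroup.normalizer (M : Set G)) le_rfl)
      (mem_img.2 ⟨⟨g, hgP⟩, hg, rfl⟩)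
  have := conj_mem_map_of_characteristic hn hx'
  rw [← map_inv, ← map_mul, ← map_mul] at this
  exact this

theorem le_normalizer_hat (M : Subgroup G) : M ≤ Subgroup.normalizer (hat q M : Set G) :=
  Subgroup.le_normalizer.trans (normalizer_le_hat M)

theorem exists_lcs_hat (M : Subgroup G) : ∃ n, lcs (hat q M) n ≤ Cfsg.pCoreOf q M := by
  set P := Cfsg.pCoreOf q M
  set H := img P M
  haveI : Group.IsNilpotent ↥(Cfsg.fittingSubgroup ↥H) := ComponentsFitting.fittingSubgroup_isNilpotent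
  obtain ⟨n, hn⟩ := (Subgroup.isNilpotent_iff_lowerCentralSeries (Cfsg.fittingSubgroup ↥H)).1 ‹_›
  refine ⟨n, fun x hx => ?_⟩
  set K := ((Cfsg.fittingSubgroup ↥H).map H.subtype).comap (proj P) with hK
  have h1 : lcs (hat q M) n = (lcs K n).map (Subgroup.normalizer (P : Set G)).subtype :=
    lcs_map _ _ n
  rw [h1] at hx
  obtain ⟨z, hz, rfl⟩ := hx
  have h2 : lcs ((Cfsg.fittingSubgroup ↥H).map H.subtype) n = ⊥ := by
    rw [lcs_map, lcs_eq, hn, Subgroup.map_bot]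
  have h4 : proj P z ∈ lcs ((Cfsg.fittingSubgroup ↥H).map H.subtype) n := by
    have := Subgroup.mem_map_of_mem (proj P) hz
    rw [← lcs_map, Subgroup.map_comap_eq_self_of_surjective (QuotientGroup.mk'_surjective _)] at this
    exact this
  rw [h2, Subgroup.mem_bot] at h4
  exact proj_eq_one.1 h4

theorem oq_img_eq_bot (M : Subgroup G) :
    Cfsg.pCoreOf q (img (Cfsg.pCoreOf q M) M) = ⊥ := by
  set V := Cfsg.pCoreOf q M
  set L := Subgroup.normalizer (V : Set G)
  set H' := img V M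
  have hHL : M ≤ L := le_normalizer_oq q M
  rw [Subgroup.eq_bot_iff_forall]
  intro y hy
  obtain ⟨z, hz, rfl⟩ := mem_img.1 (oq_le q H' hy)
  set K := ((Cfsg.pCoreOf q H').comap (proj V)).map L.subtype with hK
  have hKH : K ≤ M := by
    rintro _ ⟨w, hw, rfl⟩
    obtain ⟨v, hv, hvw⟩ := mem_img.1 (oq_le q H' hw)
    have h1 : proj V (v⁻¹ * w) = 1 := by rw [map_mul, map_inv, hvw, inv_mul_cancel]
    have h2 : (v : G)⁻¹ * w ∈ M := oq_le q M (by simpa using proj_eq_one.1 h1)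
    simpa using mul_mem hv h2
  have hKq : IsPGroup q K := by
    rintro ⟨_, ⟨w, hw, rfl⟩⟩
    obtain ⟨i, hi⟩ := oq_isPGroup q H' ⟨proj V w, hw⟩
    have h1 : ((w ^ q ^ i : ↥L) : G) ∈ V := proj_eq_one.1 (by
      rw [map_pow]; exact congrArg Subtype.val hi)
    obtain ⟨j, hj⟩ := oq_isPGroup q M ⟨_, h1⟩
    refine ⟨i + j, Subtype.ext ?_⟩
    have h2 : ((w : G) ^ q ^ i) ^ q ^ j = 1 := by simpa using congrArg Subtype.val hj
    simpa [← pow_mul, ← pow_add] using h2
  have hHK : M ≤ Subgroup.normalizer (K : Set G) := by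
    refine le_normalizer_of_forall fun g hg _ hy => ?_
    obtain ⟨w, hw, rfl⟩ := hy
    refine ⟨⟨g, hHL hg⟩ * w * (⟨g, hHL hg⟩ : ↥L)⁻¹, ?_, by simp⟩
    simp only [SetLike.mem_coe, Subgroup.mem_comap, map_mul, map_inv] at hw ⊢
    exact mem_normalizer_conj (le_normalizer_oq q H' (mem_img.2 ⟨_, hg, rfl⟩)) hw
  exact proj_eq_one.2 (le_oq hKH hHK hKq ⟨z, hy, rfl⟩)

theorem isSolvable_img {V M : Subgroup G} (hsol : Group.IsSolvable ↥M)
    (hMV : M ≤ Subgroup.normalizer (V : Set G)) : Group.IsSolvable ↥(img V M) := by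
  haveI := hsol
  haveI : Group.IsSolvable ↥(M.subgroupOf (Subgroup.normalizer (V : Set G))) :=
    Group.isSolvable_of_isSolvable_injective
      (f := (Subgroup.subgroupOfEquivOfLe hMV).toMonoidHom) (MulEquiv.injective _)
  exact Group.isSolvable_of_surjective
    (f := (proj V).subgroupMap (M.subgroupOf (Subgroup.normalizer (V : Set G))))
    (MonoidHom.subgroupMap_surjective _ _)

/-- A `q`-element centralising `hat q M` modulo `O_q(M)` lies in `O_q(M)`. -/
theorem mem_oq_of_comm {M : Subgroup G} (hsol : Group.IsSolvable ↥M) {b : G} (hbM : b ∈ M)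
    (hbq : ∃ k, orderOf b = q ^ k) (h : ∀ x ∈ hat q M, ⁅x, b⁆ ∈ Cfsg.pCoreOf q M) :
    b ∈ Cfsg.pCoreOf q M := by
  set P := Cfsg.pCoreOf q M
  set H := img P M
  haveI : Group.IsSolvable ↥H := isSolvable_img hsol (le_normalizer_oq q M)
  set b' : ↥H := ⟨proj P ⟨b, le_normalizer_oq q M hbM⟩, mem_img.2 ⟨_, hbM, rfl⟩⟩
  have hcomm : b' ∈ Subgroup.centralizer (Cfsg.fittingSubgroup ↥H : Set ↥H) := by
    intro f hf
    obtain ⟨w, hw, hwf⟩ := mem_img.1 f.2
    have h1 : (w : G) ∈ hat q M := mem_hat.2 ⟨w.2, by rw [hwf]; exact ⟨f, hf, rfl⟩⟩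
    have h2 := proj_eq_one.2 (show ((⁅w, ⟨b, le_normalizer_oq q M hbM⟩⁆ :
      ↥(Subgroup.normalizer (P : Set G))) : G) ∈ P by
        simpa [commutatorElement_def] using h _ h1)
    rw [map_commutatorElement, hwf, commutatorElement_eq_one_iff_mul_comm] at h2
    exact Subtype.ext h2
  have hF := HallSolvable.centralizer_fitting_le hcomm
  obtain ⟨k, hk⟩ := hbq
  obtain ⟨i, -, hi⟩ := (Nat.dvd_prime_pow (Fact.out : q.Prime)).1
    (show orderOf b' ∣ q ^ k from orderOf_dvd_of_pow_eq_one (by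
      refine Subtype.ext ?_
      change (proj P ⟨b, le_normalizer_oq q M hbM⟩) ^ q ^ k = 1
      rw [← map_pow, show (⟨b, le_normalizer_oq q M hbM⟩ :
        ↥(Subgroup.normalizer (P : Set G))) ^ q ^ k = 1 from Subtype.ext (by
          rw [SubmonoidClass.coe_pow, ← hk, pow_orderOf_eq_one]; rfl), map_one]))
  have h3 := mem_oq_of_mem_fitting q hF ⟨i, hi⟩
  rw [show Cfsg.pCoreOf q H = ⊥ from oq_img_eq_bot M, Subgroup.mem_bot] at h3
  exact proj_eq_one.1 h3

/-- The `q`-subgroups of `hat q M` lie in `O_q(M)`. -/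
theorem le_oq_of_le_hat {M X : Subgroup G} (hsol : Group.IsSolvable ↥M) (hX : IsPGroup q X)
    (hXM : X ≤ hat q M) : X ≤ Cfsg.pCoreOf q M := by
  set P := Cfsg.pCoreOf q M
  set H := img P M
  haveI : Group.IsSolvable ↥H := isSolvable_img hsol (le_normalizer_oq q M)
  intro x hx
  obtain ⟨hxN, hxF⟩ := mem_hat.1 (hXM hx)
  obtain ⟨f, hf, hfx⟩ := hxF
  obtain ⟨i, hi⟩ := hX ⟨x, hx⟩
  obtain ⟨j, -, hj⟩ := (Nat.dvd_prime_pow (Fact.out : q.Prime)).1
    (show orderOf f ∣ q ^ i from orderOf_dvd_of_pow_eq_one (Subtype.ext (by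
      rw [SubmonoidClass.coe_pow, show (f : _) = proj P ⟨x, hxN⟩ from hfx, ← map_pow]
      rw [show (⟨x, hxN⟩ : ↥(Subgroup.normalizer (P : Set G))) ^ q ^ i = 1 from Subtype.ext (by
        simpa using congrArg Subtype.val hi), map_one]
      rfl)))
  have h3 := mem_oq_of_mem_fitting q hf ⟨j, hj⟩
  rw [show Cfsg.pCoreOf q H = ⊥ from oq_img_eq_bot M, Subgroup.mem_bot] at h3
  rw [show (f : _) = proj P ⟨x, hxN⟩ from hfx] at h3
  exact proj_eq_one.1 h3

theorem not_dvd_relIndex_hat {M : Subgroup G} (hsol : Group.IsSolvable ↥M) :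
    ¬ q ∣ (Cfsg.pCoreOf q M).relIndex (hat q M) := by
  obtain ⟨S, hS⟩ := ((oq_isPGroup q M).comap_of_injective (hat q M).subtype
    (hat q M).subtype_injective).exists_le_sylow
  have h1 : ((S : Subgroup ↥(hat q M)).map (hat q M).subtype) ≤ Cfsg.pCoreOf q M :=
    le_oq_of_le_hat hsol (S.2.map _) (Subgroup.map_subtype_le _)
  have h2 : (S : Subgroup ↥(hat q M)) = (Cfsg.pCoreOf q M).subgroupOf (hat q M) :=
    le_antisymm (Subgroup.map_le_iff_le_comap.1 h1) hS
  rw [Subgroup.relIndex, ← h2]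
  exact S.not_dvd_index

/-- A `q`-subgroup of `M` normalised by `hat q M` lies in `O_q(M)`. -/
theorem le_oq_of_hat_norm {M X : Subgroup G} (hsol : Group.IsSolvable ↥M) (hXM : X ≤ M)
    (hX : IsPGroup q X) (h : hat q M ≤ Subgroup.normalizer (X : Set G)) :
    X ≤ Cfsg.pCoreOf q M := by
  intro b hb
  obtain ⟨k, hk⟩ := IsPGroup.iff_orderOf.1 hX ⟨b, hb⟩
  refine mem_oq_of_comm hsol (hXM hb) ⟨k, by simpa [Subgroup.orderOf_mk] using hk⟩ fun x hx => ?_
  refine le_oq_of_le_hat hsol (hX.to_le (inf_le_left : X ⊓ hat q M ≤ X)) inf_le_right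
    (Subgroup.mem_inf.2 ⟨?_, ?_⟩)
  · exact mul_mem (mem_normalizer_conj (h hx) hb) (inv_mem hb)
  · have := mul_mem hx (mem_normalizer_conj (le_normalizer_hat M (hXM hb)) (inv_mem hx))
    simpa [commutatorElement_def, mul_assoc] using this

end general

end Cfsg.Agent.SFTPure
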