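import Mathlib
import Cfsg.Agent.Lib.SFTPureBase

/-!
# Pure maximal members: reduction and downward induction

A pure maximal member `M` equals the pure maximal member `L` containing the largest invariant
`q`-member as soon as `hat q N ≤ L` holds for the pure maximal members containing it.
-/

set_option autoImplicit false
set_option linter.unusedSectionVars false

namespace Cfsg.Agent.SFTPure

open Cfsg.Agent.SignalizerCoprime Cfsg.Agent.HallCore Cfsg.Agent.SFTGroup Cfsg.Agent.SFTSigma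
  Cfsg.Agent.SFTCtx Cfsg.Agent.SFTStatic
open Cfsg.Agent.SignalizerTransitivity (mem_family_of_le)
open scoped commutatorElement

universe u

variable {G : Type u} [Group G] [Finite G] {p : ℕ} {A : Subgroup G} {θ : G → Subgroup G} {q : ℕ}

/-- A maximal member with the single component `q`. -/
def IsPure (p : ℕ) (A : Subgroup G) (θ : G → Subgroup G) (q : ℕ) (M : Subgroup G) : Prop :=
  IsMax p A θ M ∧ ∀ t : ℕ, t.Prime → t ≠ q → Cfsg.pCoreOf t M = ⊥

/-- The maximal members containing `O_q(M)` are pure. -/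
def Closed (p : ℕ) (A : Subgroup G) (θ : G → Subgroup G) (q : ℕ) (M : Subgroup G) : Prop :=
  ∀ L, IsMax p A θ L → Cfsg.pCoreOf q M ≤ L → IsPure p A θ q L

/-- A maximal member above all members normalising a given one. -/
theorem exists_norm_max (hM : Minimal p A θ) {U : Subgroup G}
    (hU : U ∈ Cfsg.signalizerFamily p A θ) (hU1 : U ≠ ⊥)
    (hUT : Cfsg.signalizerInf A θ ≤ Subgroup.normalizer (U : Set G)) :
    ∃ L, IsMax p A θ L ∧
      ∀ X ∈ Cfsg.signalizerFamily p A θ, X ≤ Subgroup.normalizer (U : Set G) → X ≤ L := by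
  have hS := hM.toSetup
  obtain ⟨N, hN, -, hNθ⟩ := hM.exists_norm hU hU1
  have hle : ∀ X ∈ Cfsg.signalizerFamily p A θ, X ≤ Subgroup.normalizer (U : Set G) → X ≤ N :=
    fun X hX hXU => hS.member_le hX fun b hb hb1 => (le_inf (hX.2.2.2 b hb hb1)
      (inf_le_left.trans hXU)).trans (hNθ b hb hb1)
  obtain ⟨L, hL, hNL⟩ := hS.exists_max hN ((hle _ hS.T_mem hUT).trans Subgroup.le_normalizer)
  exact ⟨L, hL, fun X hX hXU => (hle X hX hXU).trans hNL⟩

variable [Fact q.Prime]

namespace IsPure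

variable {M : Subgroup G} (hP : IsPure p A θ q M)
include hP

theorem sol : Group.IsSolvable ↥M := hP.1.1.1

theorem oq_ne_bot (h : M ≠ ⊥) : Cfsg.pCoreOf q M ≠ ⊥ := fun hb => by
  obtain ⟨t, ht, htM⟩ := exists_oq_ne_bot hP.sol h
  exact htM (if htq : t = q then htq ▸ hb else hP.2 t ht htq)

theorem centralizer_le :
    M ⊓ Subgroup.centralizer (Cfsg.pCoreOf q M : Set G) ≤ Cfsg.pCoreOf q M := by
  rintro x ⟨hxM, hx⟩
  have h := mem_fitting_of_commute hP.sol hxM fun t ht y hy => by
    by_cases htq : t = q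
    · subst htq; exact hx y hy
    · rw [hP.2 t ht htq, Subgroup.mem_bot] at hy; rw [hy, one_mul, mul_one]
  refine fitting_le_of_oq_le (fun t ht => ?_) ⟨_, h, rfl⟩
  by_cases htq : t = q
  · exact htq ▸ le_rfl
  · rw [hP.2 t ht htq]; exact bot_le

end IsPure

variable (hM : Minimal p A θ)
include hM

/-- An invariant `q`-subgroup centralises the fixed points of `A` on `hat q M` modulo `O_q(M)`. -/
theorem fixed_comm {M Y : Subgroup G} (hMax : IsMax p A θ M) (hY : IsPGroup q Y) (hYM : Y ≤ M)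
    (hYT : Cfsg.signalizerInf A θ ≤ Subgroup.normalizer (Y : Set G)) {c : G} (hc : c ∈ hat q M)
    (hcA : c ∈ Subgroup.centralizer (A : Set G)) {d : G} (hd : d ∈ Y) :
    ⁅c, d⁆ ∈ Cfsg.pCoreOf q M := by
  have hS := hM.toSetup
  obtain ⟨a, ha, ha1⟩ := hS.exists_ne_one
  have hcT : c ∈ Cfsg.signalizerInf A θ := hS.mem_T ha ha1
    (hMax.1.2.2.2 a ha ha1 ⟨hat_le M hc,
      Subgroup.centralizer_le (Set.singleton_subset_iff.2 ha) hcA⟩) hcA
  refine le_oq_of_le_hat hMax.1.1 (hY.to_le (inf_le_left : Y ⊓ hat q M ≤ Y)) inf_le_right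
    (Subgroup.mem_inf.2 ⟨?_, ?_⟩)
  · exact mul_mem (mem_normalizer_conj (hYT hcT) hd) (inv_mem hd)
  · have := mul_mem hc (mem_normalizer_conj (le_normalizer_hat M (hYM hd)) (inv_mem hc))
    simpa [commutatorElement_def, mul_assoc] using this

theorem A_norm_hat {M : Subgroup G} (hMax : IsMax p A θ M) :
    A ≤ Subgroup.normalizer (hat q M : Set G) :=
  (hM.toSetup.le_normalizer hMax.1).trans (normalizer_le_hat M)

theorem hat_mem {M : Subgroup G} (hMax : IsMax p A θ M) :
    hat q M ∈ Cfsg.signalizerFamily p A θ :=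
  mem_family_of_le hMax.1 (hat_le M) (A_norm_hat hM hMax)

/-- Thompson's factorisation of `hat q M` for an intermediate invariant `q`-subgroup. -/
theorem thompson_gen {M Y : Subgroup G} (hP : IsPure p A θ q M) (hY : IsPGroup q Y)
    (hPY : Cfsg.pCoreOf q M ≤ Y) (hYM : Y ≤ M) (hYA : A ≤ Subgroup.normalizer (Y : Set G))
    (hYT : Cfsg.signalizerInf A θ ≤ Subgroup.normalizer (Y : Set G)) :
    hat q M ≤
      (hat q M ⊔ Y) ⊓ Subgroup.normalizer (Cfsg.thompsonSubgroupOf q Y : Set G) ⊔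
      (hat q M ⊔ Y) ⊓ Subgroup.normalizer (omZ q Y : Set G) := by
  haveI := Fact.mk hM.prime
  have hS := hM.toSetup
  set H := hat q M ⊔ Y with hH
  set R := H ⊓ Subgroup.normalizer (Cfsg.thompsonSubgroupOf q Y : Set G) ⊔
    H ⊓ Subgroup.normalizer (omZ q Y : Set G) with hR
  have hHM : H ≤ M := sup_le (hat_le M) hYM
  have hHA : A ≤ Subgroup.normalizer (H : Set G) := le_normalizer_sup (A_norm_hat hM hP.1) hYA
  have hHp : ¬ p ∣ Nat.card H := fun h => hP.1.1.2.1 (h.trans (Subgroup.card_dvd_of_le hHM))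
  haveI : Group.IsSolvable ↥H := @CoprimeAction.isSolvable_of_le _ _ _ _ hHM hP.sol
  -- `Y` is a Sylow subgroup
  have hidx : ¬ q ∣ Y.relIndex H := by
    rw [hH, sup_comm]
    have hYN : Y ≤ Subgroup.normalizer (hat q M : Set G) := hYM.trans (le_normalizer_hat M)
    have h1 : (Y ⊓ hat q M).relIndex (hat q M) = Y.relIndex (Y ⊔ hat q M) := by
      rw [Subgroup.inf_relIndex_right]
      have h2 := OffendersReplace.card_sup_mul_card_inf Y (hat q M) hYN
      have h4 : Nat.card ↥(Y ⊓ hat q M : Subgroup G) * Y.relIndex (hat q M) =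
          Nat.card (hat q M) := by
        rw [← Subgroup.inf_relIndex_right, ← Subgroup.relIndex_bot_left,
          ← Subgroup.relIndex_bot_left]
        exact Subgroup.relIndex_mul_relIndex _ _ _ bot_le inf_le_right
      have h5 : Nat.card Y * Y.relIndex (Y ⊔ hat q M) = Nat.card ↥(Y ⊔ hat q M) := by
        rw [← Subgroup.relIndex_bot_left, ← Subgroup.relIndex_bot_left]
        exact Subgroup.relIndex_mul_relIndex _ _ _ bot_le le_sup_left
      refine Nat.eq_of_mul_eq_mul_left
        (Nat.mul_pos (Nat.card_pos (α := ↥Y)) (Nat.card_pos (α := ↥(Y ⊓ hat q M : Subgroup G)))) ?_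
      calc _ = Nat.card Y * (Nat.card ↥(Y ⊓ hat q M : Subgroup G) * Y.relIndex (hat q M)) := by ring
        _ = Nat.card ↥(Y ⊔ hat q M) * Nat.card ↥(Y ⊓ hat q M : Subgroup G) := by rw [h4, h2]
        _ = _ := by rw [← h5]; ring
    rw [← h1]
    have hle : Cfsg.pCoreOf q M ≤ Y ⊓ hat q M := le_inf hPY (oq_le_hat M)
    exact fun h => not_dvd_relIndex_hat hP.sol
      (h.trans (Subgroup.relIndex_dvd_of_le_left (hat q M) hle))
  obtain ⟨S, hS'⟩ := (hY.comap_of_injective H.subtype H.subtype_injective).exists_le_sylow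
  have hSY : (S : Subgroup ↥H) = Y.subgroupOf H := by
    refine (Subgroup.eq_of_le_of_card_ge hS' ?_).symm
    obtain ⟨k, hk⟩ := IsPGroup.iff_card.1 S.2
    have h1 := Subgroup.relIndex_mul_relIndex (⊥ : Subgroup ↥H) (Y.subgroupOf H) S bot_le hS'
    rw [Subgroup.relIndex_bot_left, Subgroup.relIndex_bot_left] at h1
    have h2 : (Y.subgroupOf H).relIndex S ∣ Y.relIndex H := Dvd.intro _
      (Subgroup.relIndex_mul_index hS')
    rcases (Nat.dvd_prime_pow (Fact.out : q.Prime)).1 (hk ▸ Dvd.intro_left _ h1) with ⟨i, -, hi⟩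
    cases i with
    | zero => rw [hi, pow_zero, mul_one] at h1; exact h1.ge
    | succ i => exact absurd ((hi ▸ dvd_pow_self q i.succ_ne_zero).trans h2) hidx
  -- no normal `q'`-subgroup
  have hO : Cfsg.pPrimeCore q ↥H = ⊥ := by
    set N := (Cfsg.pPrimeCore q ↥H).map H.subtype with hN
    haveI := HallCore.pPrimeCore_characteristic q H
    have hNn : H ≤ Subgroup.normalizer (N : Set G) := Subgroup.le_normalizer.trans
      (le_normalizer_of_forall fun g hg x hx => conj_mem_map_of_characteristic hg hx)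
    have hPH : Cfsg.pCoreOf q M ≤ H := hPY.trans le_sup_right
    have hNq : ¬ q ∣ Nat.card N := by
      rw [hN, Subgroup.card_map_of_injective H.subtype_injective]
      exact HallCore.not_dvd_card_pPrimeCore q ↥H
    have hNc : N ≤ Subgroup.centralizer (Cfsg.pCoreOf q M : Set G) :=
      commute_subgroups (by
          rw [inf_comm]; exact inf_eq_bot_of_not_dvd (oq_isPGroup q M) hNq)
        (((Subgroup.map_subtype_le _).trans hHM).trans (le_normalizer_oq q M))
        (hPH.trans hNn)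
    have hNP := le_inf ((Subgroup.map_subtype_le _).trans hHM) hNc |>.trans hP.centralizer_le
    have h0 : N = ⊥ := by
      have h1 := inf_eq_bot_of_not_dvd (oq_isPGroup q M) hNq
      rwa [inf_eq_right.2 hNP] at h1
    exact (Subgroup.map_eq_bot_iff_of_injective _ H.subtype_injective).1 h0
  have h0620 := Cfsg.Agent.S0620.result H A hHA hM.hA hHp
    (HallSolvable.isPSolvable_of_solvable q) hO S
  have hmap : (S : Subgroup ↥H).map H.subtype = Y := by
    rw [hSY]; exact Subgroup.map_subgroupOf_eq_of_le le_sup_right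
  have hJ : (Cfsg.thompsonSubgroupOf q (S : Subgroup ↥H)).map H.subtype =
      Cfsg.thompsonSubgroupOf q Y := by
    rw [← hmap, GlaubermanZJ.thompsonSubgroupOf_eq, GlaubermanZJ.thompsonSubgroupOf_eq,
      GlaubermanZJ.thomJ_map H.subtype_injective]
  have hZ : (Cfsg.omegaOne q ((S : Subgroup ↥H) ⊓
      Subgroup.centralizer ((S : Subgroup ↥H) : Set ↥H))).map H.subtype = omZ q Y := by
    rw [← GlaubermanZJ.omegaOne_map H.subtype_injective, omZ]
    congr 1
    conv_rhs => rw [← hmap]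
    exact (GlaubermanZJ.inf_centralizer_map H.subtype_injective _).symm
  refine le_trans le_sup_left (show H ≤ R from ?_)
  intro x hx
  have htop : (⟨x, hx⟩ : ↥H) ∈ (⊤ : Subgroup ↥H) := trivial
  rw [← h0620] at htop
  have hle : ∀ (X : Subgroup ↥H) (X' : Subgroup G), X.map H.subtype = X' →
      (Subgroup.normalizer (X : Set ↥H)).map H.subtype ≤
        H ⊓ Subgroup.normalizer (X' : Set G) := by
    rintro X _ rfl
    exact le_inf (Subgroup.map_subtype_le _) (Subgroup.le_normalizer_map _)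
  have hle' : (Subgroup.normalizer (Cfsg.thompsonSubgroupOf q (S : Subgroup ↥H) : Set ↥H) ⊔
      Subgroup.centralizer (Cfsg.omegaOne q ((S : Subgroup ↥H) ⊓
        Subgroup.centralizer ((S : Subgroup ↥H) : Set ↥H)) : Set ↥H) ⊔
      (Subgroup.centralizer (A : Set G)).subgroupOf H).map H.subtype ≤ R := by
    rw [Subgroup.map_sup, Subgroup.map_sup]
    refine sup_le (sup_le ((hle _ _ hJ).trans le_sup_left) ?_) ?_
    · exact ((Subgroup.map_mono (SignalizerCoprime.centralizer_le_normalizer _)).trans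
        (hle _ _ hZ)).trans le_sup_right
    · rintro _ ⟨y, hy, rfl⟩
      obtain ⟨a, ha, ha1⟩ := hS.exists_ne_one
      have hyT : (y : G) ∈ Cfsg.signalizerInf A θ := hS.mem_T ha ha1
        (hP.1.1.2.2.2 a ha ha1 ⟨hHM y.2, Subgroup.centralizer_le (Set.singleton_subset_iff.2 ha) hy⟩)
        hy
      exact Subgroup.mem_sup_left ⟨y.2, normalizer_le_thompson Y (hYT hyT)⟩
  exact hle' ⟨_, htop, rfl⟩

/-- Pure maximal members: `hat q M ≤ L` and `O_q` inside the `q`-member `D ≤ L` give equality. -/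
theorem pure_eq_of_hat_le {M L D : Subgroup G} (hPM : IsPure p A θ q M) (hM1 : M ≠ ⊥)
    (hPL : IsPure p A θ q L) (hD : IsW p A θ {q} D) (hDL : D ≤ L) (hle : hat q M ≤ L) :
    M = L := by
  have hS := hM.toSetup
  set P := Cfsg.pCoreOf q M with hP
  set P0 := Cfsg.pCoreOf q L with hP0
  have hP1 : P ≠ ⊥ := hPM.oq_ne_bot hM1
  have hcore : ∀ {N}, IsMax p A θ N → Cfsg.pCoreOf q N ≤ D := fun {N} hN =>
    hD.2.2.2 _ (hS.oq_mem hN.1 q) (hN.2.1.trans (le_normalizer_oq q N))
      (piNat_of_isPGroup (oq_isPGroup q N) rfl)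
  have hDq : IsPGroup q D := isPGroup_of_piNat hD.2.2.1
  have hPm := hS.oq_mem hPM.1.1 q
  have hP0m := hS.oq_mem hPL.1.1 q
  have hPL' : P ≤ L := (hcore hPM.1).trans hDL
  -- `P0 ≤ P`
  set X := P0 ⊔ P with hX
  have hXq : IsPGroup q X := hDq.to_le (sup_le (hcore hPL.1) (hcore hPM.1))
  have hinf : P0 ⊓ M ≤ P := by
    refine le_oq_of_hat_norm hPM.sol inf_le_right ((oq_isPGroup q L).to_le inf_le_left) ?_
    exact le_normalizer_inf (hle.trans (le_normalizer_oq q L))
      ((hat_le M).trans Subgroup.le_normalizer)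
  have hPX : P = X := by
    by_contra hne
    obtain ⟨n, hnX, hnP, hnN⟩ := exists_normalizer_grows hXq le_sup_right hne
    have hXA : A ≤ Subgroup.normalizer (X : Set G) :=
      le_normalizer_sup (hS.le_normalizer hP0m) (hS.le_normalizer hPm)
    have hXm := mem_family_of_le hD.1 (sup_le (hcore hPL.1) (hcore hPM.1)) hXA
    have hnM : n ∈ M := hM.le_max_oq hPM.1 hP1
      (hS.member_inf hXm ((hS.le_normalizer hPm).trans Subgroup.le_normalizer)) inf_le_right
      ⟨hnX, hnN⟩
    have hPN : P ≤ Subgroup.normalizer (P0 : Set G) := hPL'.trans (le_normalizer_oq q L)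
    have hnX' : n ∈ (↑(P0 ⊔ P) : Set G) := hnX
    rw [Subgroup.coe_mul_of_right_le_normalizer_left _ _ hPN] at hnX'
    obtain ⟨y, hy, z, hz, rfl⟩ := Set.mem_mul.1 hnX'
    have hyM : y ∈ M := by
      have := mul_mem hnM (inv_mem (oq_le q M hz))
      simpa using this
    exact hnP (mul_mem (hinf ⟨hy, hyM⟩) hz)
  have hP0P : P0 ≤ P := le_sup_left.trans hPX.ge
  -- `hat q L ≤ M`
  have hPA := hS.le_normalizer hPm
  have hPT : Cfsg.signalizerInf A θ ≤ Subgroup.normalizer (P : Set G) :=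
    hPM.1.2.1.trans (le_normalizer_oq q M)
  have hgen := thompson_gen hM hPL (oq_isPGroup q M) hP0P hPL' hPA hPT
  have hin : ∀ V : Subgroup G, V ≤ M → V ≠ ⊥ →
      Subgroup.normalizer (P : Set G) ≤ Subgroup.normalizer (V : Set G) →
      (hat q L ⊔ P) ⊓ Subgroup.normalizer (V : Set G) ≤ M := fun V hV hV1 hN =>
    hM.le_max hPM.1 hV hV1 ((le_normalizer_oq q M).trans hN) (hPA.trans hN)
      (mem_family_of_le hPL.1.1 (inf_le_left.trans (sup_le (hat_le L) hPL'))
        (le_normalizer_inf (le_normalizer_sup (A_norm_hat hM hPL.1) hPA)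
          ((hPA.trans hN).trans Subgroup.le_normalizer))) inf_le_right
  have hL' : hat q L ≤ M := hgen.trans (sup_le
    (hin _ ((Offenders.thompsonOf_le P).trans (oq_le q M))
      (thompson_ne_bot (oq_isPGroup q M) hP1) (normalizer_le_thompson P))
    (hin _ ((omZ_le P).trans (oq_le q M)) (omZ_ne_bot (oq_isPGroup q M) hP1) (normalizer_le_omZ P)))
  have heq : P = P0 := le_antisymm (le_oq_of_hat_norm hPL.sol hPL' (oq_isPGroup q M)
    (hL'.trans (le_normalizer_oq q M))) hP0P
  exact hPL.1.2.2 M hPM.1.1 (hM.le_max_oq hPM.1 hP1 hPL.1.1 (by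
    show L ≤ Subgroup.normalizer (P : Set G)
    rw [heq]; exact le_normalizer_oq q L))

/-- Downward induction: every maximal member containing `O_q(M)`, `M` closed, equals `L`. -/
theorem eq_of_base {M L D : Subgroup G} (hM1 : M ≠ ⊥) (hPM : IsPure p A θ q M)
    (hclosed : Closed p A θ q M) (hPL : IsPure p A θ q L) (hD : IsW p A θ {q} D) (hDL : D ≤ L)
    (hbase : ∀ N, IsPure p A θ q N → D ≤ N → hat q N ≤ L) :
    ∀ N, IsMax p A θ N → Cfsg.pCoreOf q M ≤ N → N = L := by
  have hS := hM.toSetup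
  have hDq : IsPGroup q D := isPGroup_of_piNat hD.2.2.1
  have hcore : ∀ {N}, IsMax p A θ N → Cfsg.pCoreOf q N ≤ D := fun {N} hN =>
    hD.2.2.2 _ (hS.oq_mem hN.1 q) (hN.2.1.trans (le_normalizer_oq q N))
      (piNat_of_isPGroup (oq_isPGroup q N) rfl)
  have hMP : Cfsg.pCoreOf q M ≠ ⊥ := hPM.oq_ne_bot hM1
  suffices h : ∀ m, ∀ N, IsMax p A θ N → Cfsg.pCoreOf q M ≤ N →
      Nat.card D - Nat.card ↥(D ⊓ N) = m → N = L from fun N hN hle => h _ N hN hle rfl
  intro m
  induction m using Nat.strong_induction_on with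
  | _ m ih =>
    intro N hN hle hm
    have hPN := hclosed N hN hle
    have hN1 : N ≠ ⊥ := fun h => hMP (le_bot_iff.1 (h ▸ hle))
    refine pure_eq_of_hat_le hM hPN hN1 hPL hD hDL ?_
    by_cases hDN : D ≤ N
    · exact hbase N hPN hDN
    set Y := D ⊓ N with hY
    have hYq : IsPGroup q Y := hDq.to_le inf_le_left
    have hPY : Cfsg.pCoreOf q N ≤ Y := le_inf (hcore hN) (oq_le q N)
    have hY1 : Y ≠ ⊥ := fun h => hMP (le_bot_iff.1 (h ▸ le_inf (hcore hPM.1) hle))
    have hYA : A ≤ Subgroup.normalizer (Y : Set G) :=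
      le_normalizer_inf (hS.le_normalizer hD.1) (hS.le_normalizer hN.1)
    have hYT : Cfsg.signalizerInf A θ ≤ Subgroup.normalizer (Y : Set G) :=
      le_normalizer_inf hD.2.1 (hN.2.1.trans Subgroup.le_normalizer)
    have hYm := mem_family_of_le hD.1 inf_le_left hYA
    obtain ⟨n, hnD, hnY, hnN⟩ := exists_normalizer_grows hDq (inf_le_left : Y ≤ D)
      fun h => hDN (h ▸ inf_le_right)
    have hstep : ∀ V : Subgroup G, V ≤ Y → V ≠ ⊥ →
        Subgroup.normalizer (Y : Set G) ≤ Subgroup.normalizer (V : Set G) →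
        (hat q N ⊔ Y) ⊓ Subgroup.normalizer (V : Set G) ≤ L := by
      intro V hV hV1 hNV
      obtain ⟨K, hK, hKle⟩ := exists_norm_max hM
        (mem_family_of_le hYm hV (hYA.trans hNV)) hV1 (hYT.trans hNV)
      have hYK : Y ≤ K := hKle Y hYm (Subgroup.le_normalizer.trans hNV)
      have hnK : n ∈ K := hKle _ (hS.member_inf hD.1 (hYA.trans Subgroup.le_normalizer))
        (inf_le_right.trans hNV) ⟨hnD, hnN⟩
      have hlt : Nat.card Y < Nat.card ↥(D ⊓ K) := by
        refine lt_of_le_of_ne (Subgroup.card_le_of_le (le_inf inf_le_left hYK)) fun h => hnY ?_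
        rw [Subgroup.eq_of_le_of_card_ge (le_inf inf_le_left hYK) h.ge]
        exact ⟨hnD, hnK⟩
      have hKm := Subgroup.card_le_of_le (inf_le_left : D ⊓ K ≤ D)
      have hKL : K = L := ih _ (by rw [← hm]; omega) K hK
        ((le_inf (hcore hPM.1) hle).trans hYK) rfl
      rw [← hKL]
      exact hKle _ (mem_family_of_le hN.1 (inf_le_left.trans (sup_le (hat_le N) inf_le_right))
        (le_normalizer_inf (le_normalizer_sup (A_norm_hat hM hN) hYA)
          ((hYA.trans hNV).trans Subgroup.le_normalizer))) inf_le_right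
    exact (thompson_gen hM hPN hYq hPY inf_le_right hYA hYT).trans (sup_le
      (hstep _ (Offenders.thompsonOf_le Y) (thompson_ne_bot hYq hY1) (normalizer_le_thompson Y))
      (hstep _ (omZ_le Y) (omZ_ne_bot hYq hY1) (normalizer_le_omZ Y)))

end Cfsg.Agent.SFTPure
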