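import Mathlib
import Cfsg.Agent.Lib.SFTPureReduce
import Cfsg.Agent.Lib.SFTPureKPlus27

/-!
# Pure maximal members: the normal closure of `Ω₁(Z(D))`

For the largest invariant `q`-member `D` and a pure maximal member `L ≥ D`, the closure `U` of
`Ω₁(Z(D))` under `hat q L` admits no offenders inside `D`.
-/

set_option autoImplicit false
set_option linter.unusedSectionVars false
set_option linter.style.haveILetI false

namespace Cfsg.Agent.SFTPure

open Cfsg.Agent.SignalizerCoprime Cfsg.Agent.HallCore Cfsg.Agent.SFTGroup Cfsg.Agent.SFTSigma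
  Cfsg.Agent.SFTCtx Cfsg.Agent.SFTStatic
open Cfsg.Agent.SignalizerTransitivity (mem_family_of_le)
open scoped commutatorElement

universe u

variable {G : Type u} [Group G] {q : ℕ}

/-- The closure of `Ω₁(Z(D))` under `hat q L`. -/
def clZ (q : ℕ) (L D : Subgroup G) : Subgroup G :=
  ⨆ x : ↥(hat q L), (omZ q D).map (MulAut.conj (x : G)).toMonoidHom

theorem omZ_le_clZ (L D : Subgroup G) : omZ q D ≤ clZ q L D := fun z hz =>
  le_iSup (fun x : ↥(hat q L) => (omZ q D).map (MulAut.conj (x : G)).toMonoidHom) 1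
    ⟨z, hz, by simp⟩

/-- The image in a representation of the normalizer. -/
abbrev imOf {H : Type*} [Group H] (U : Subgroup G) (ρ : ↥(Subgroup.normalizer (U : Set G)) →* H)
    (S : Subgroup G) : Subgroup H :=
  (S.subgroupOf (Subgroup.normalizer (U : Set G))).map ρ

theorem mem_imOf {H : Type*} [Group H] {U : Subgroup G}
    {ρ : ↥(Subgroup.normalizer (U : Set G)) →* H} {S : Subgroup G} {h : H} :
    h ∈ (S.subgroupOf (Subgroup.normalizer (U : Set G))).map ρ ↔
      ∃ x : ↥(Subgroup.normalizer (U : Set G)), (x : G) ∈ S ∧ ρ x = h := by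
  simp [Subgroup.mem_map, Subgroup.mem_subgroupOf]

section general

variable [Finite G] [Fact q.Prime]

theorem clZ_normalizer {L D : Subgroup G} {g : G}
    (hg : g ∈ Subgroup.normalizer (hat q L : Set G))
    (hgD : g ∈ Subgroup.normalizer (omZ q D : Set G)) :
    g ∈ Subgroup.normalizer (clZ q L D : Set G) := by
  refine SFTSigma.mem_normalizer_of_map_conj_eq (Subgroup.eq_of_le_of_card_ge ?_
    (Subgroup.card_map_of_injective (MulAut.conj g).injective).ge)
  rw [clZ, Subgroup.map_iSup]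
  refine iSup_le fun x => ?_
  refine le_trans (le_of_eq ?_) (le_iSup (fun x : ↥(hat q L) =>
    (omZ q D).map (MulAut.conj (x : G)).toMonoidHom) ⟨g * x * g⁻¹, mem_normalizer_conj hg x.2⟩)
  conv_rhs => rw [← SFTSigma.map_conj_eq_of_mem_normalizer hgD]
  rw [Subgroup.map_map, Subgroup.map_map]
  congr 1
  ext y
  simp [mul_assoc]

theorem hat_norm_clZ (L D : Subgroup G) :
    hat q L ≤ Subgroup.normalizer (clZ q L D : Set G) := by
  intro g hg
  refine SFTSigma.mem_normalizer_of_map_conj_eq (Subgroup.eq_of_le_of_card_ge ?_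
    (Subgroup.card_map_of_injective (MulAut.conj g).injective).ge)
  rw [clZ, Subgroup.map_iSup]
  refine iSup_le fun x => ?_
  refine le_trans (le_of_eq ?_) (le_iSup (fun x : ↥(hat q L) =>
    (omZ q D).map (MulAut.conj (x : G)).toMonoidHom) ⟨g * x, mul_mem hg x.2⟩)
  rw [Subgroup.map_map]
  congr 1
  ext y
  simp [mul_assoc]

/-- The order of the image of `hat q M` in a representation killing `O_q(M)` is prime to `q`. -/
theorem not_dvd_card_imOf {U M : Subgroup G} (hsol : Group.IsSolvable ↥M) {H : Type*} [Group H]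
    (ρ : ↥(Subgroup.normalizer (U : Set G)) →* H)
    (hU : hat q M ≤ Subgroup.normalizer (U : Set G))
    (hker : ∀ x : ↥(Subgroup.normalizer (U : Set G)), (x : G) ∈ Cfsg.pCoreOf q M → ρ x = 1) :
    ¬ q ∣ Nat.card ↥((hat q M).subgroupOf (Subgroup.normalizer (U : Set G)) |>.map ρ) := by
  intro h
  have key : ∀ F P : Subgroup ↥(Subgroup.normalizer (U : Set G)), P ≤ F → P ≤ ρ.ker →
      Nat.card ↥(F.map ρ) ∣ P.relIndex F := by
    intro F P hPF hPk
    have h1 : Nat.card ↥(F.map ρ) = (F ⊓ ρ.ker).relIndex F := by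
      rw [Subgroup.inf_relIndex_left, Subgroup.relIndex, Subgroup.index]
      have h3 : F.map ρ = (ρ.comp F.subtype).range := by
        rw [MonoidHom.range_comp, Subgroup.range_subtype]
      rw [h3, ← Nat.card_congr (QuotientGroup.quotientKerEquivRange (ρ.comp F.subtype)).toEquiv]
      rfl
    rw [h1]
    exact Subgroup.relIndex_dvd_of_le_left F (le_inf hPF hPk)
  have h4 := h.trans (key _ ((Cfsg.pCoreOf q M).subgroupOf _)
    (fun x hx => oq_le_hat M hx) (fun x hx => MonoidHom.mem_ker.2 (hker x hx)))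
  rw [Subgroup.relIndex_subgroupOf hU] at h4
  exact not_dvd_relIndex_hat hsol h4

theorem exists_lcs_imOf {U M : Subgroup G} {H : Type*} [Group H]
    (ρ : ↥(Subgroup.normalizer (U : Set G)) →* H) :
    ∃ n, lcs ((hat q M).subgroupOf (Subgroup.normalizer (U : Set G)) |>.map ρ) n ≤
      ((Cfsg.pCoreOf q M).subgroupOf (Subgroup.normalizer (U : Set G))).map ρ := by
  obtain ⟨n, hn⟩ := exists_lcs_hat (q := q) M
  refine ⟨n, ?_⟩
  rw [lcs_map]
  refine Subgroup.map_mono fun x hx => hn ?_
  have h := lcs_mono (E := ((hat q M).subgroupOf (Subgroup.normalizer (U : Set G))).map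
    (Subgroup.normalizer (U : Set G)).subtype) (F := hat q M) (Subgroup.map_le_iff_le_comap.2 le_rfl) n
  rw [lcs_map] at h
  exact h ⟨x, hx, rfl⟩

end general

/-- The data of the base case. -/
structure Base (p : ℕ) (A : Subgroup G) (θ : G → Subgroup G) (q : ℕ) (D L : Subgroup G) : Prop where
  minimal : Minimal p A θ
  p_ne_two : p ≠ 2
  p_ne : p ≠ q
  W : IsW p A θ {q} D
  ne_bot : D ≠ ⊥
  pure : IsPure p A θ q L
  le : D ≤ L

namespace Base

variable [Finite G] [Fact q.Prime] {p : ℕ} {A : Subgroup G} {θ : G → Subgroup G}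
  {D L : Subgroup G} (h : Base p A θ q D L)
include h

theorem D_pgroup : IsPGroup q D := isPGroup_of_piNat h.W.2.2.1

theorem core_le {N : Subgroup G} (hN : IsMax p A θ N) : Cfsg.pCoreOf q N ≤ D :=
  h.W.2.2.2 _ (h.minimal.toSetup.oq_mem hN.1 q) (hN.2.1.trans (le_normalizer_oq q N))
    (piNat_of_isPGroup (oq_isPGroup q N) rfl)

theorem A_norm_D : A ≤ Subgroup.normalizer (D : Set G) := h.minimal.toSetup.le_normalizer h.W.1

theorem omZ_le_omZ : omZ q D ≤ omZ q (Cfsg.pCoreOf q L) := by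
  refine (Subgroup.closure_le _).2 fun z ⟨hz, hzq⟩ => Offenders.mem_omegaOne ?_ hzq
  have hc : z ∈ Subgroup.centralizer (Cfsg.pCoreOf q L : Set G) :=
    Subgroup.centralizer_le (h.core_le h.pure.1) hz.2
  exact ⟨h.pure.centralizer_le ⟨h.le hz.1, hc⟩, hc⟩

theorem clZ_le : clZ q L D ≤ omZ q (Cfsg.pCoreOf q L) := iSup_le fun x => by
  rintro _ ⟨z, hz, rfl⟩
  exact mem_normalizer_conj (normalizer_le_omZ _ (le_normalizer_oq q L (hat_le L x.2)))
    (h.omZ_le_omZ hz)

theorem clZ_ea : Cfsg.IsElementaryAbelian q (clZ q L D) :=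
  elementaryAbelian_of_le (omZ_ea _) h.clZ_le

theorem clZ_le_D : clZ q L D ≤ D := h.clZ_le.trans ((omZ_le _).trans (h.core_le h.pure.1))

theorem D_norm_clZ : D ≤ Subgroup.normalizer (clZ q L D : Set G) := fun d hd =>
  clZ_normalizer (le_normalizer_hat L (h.le hd))
    (normalizer_le_omZ D (Subgroup.le_normalizer hd))

theorem A_norm_clZ : A ≤ Subgroup.normalizer (clZ q L D : Set G) := fun a ha =>
  clZ_normalizer (A_norm_hat h.minimal h.pure.1 ha) (normalizer_le_omZ D (h.A_norm_D ha))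

theorem T_norm_clZ :
    Cfsg.signalizerInf A θ ≤ Subgroup.normalizer (clZ q L D : Set G) := fun t ht =>
  clZ_normalizer (le_normalizer_hat L (h.pure.1.2.1 ht)) (normalizer_le_omZ D (h.W.2.1 ht))

theorem oq_cent_clZ : Cfsg.pCoreOf q L ≤ Subgroup.centralizer (clZ q L D : Set G) :=
  fun _ hy _ hu => (omZ_comm (h.clZ_le hu) hy).symm

/-- A group acting like a subgroup of `D` with elementary abelian image has few fixed points
on `U`. -/
theorem kbound {B : Subgroup G}
    (hBD : ∀ b ∈ B, ∃ d ∈ D, d⁻¹ * b ∈ Subgroup.centralizer (clZ q L D : Set G))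
    (hBc : ∀ a ∈ B, ∀ b ∈ B, ⁅a, b⁆ ∈ Subgroup.centralizer (clZ q L D : Set G))
    (hBq : ∀ b ∈ B, b ^ q ∈ Subgroup.centralizer (clZ q L D : Set G))
    (hne : ¬ B ≤ Subgroup.centralizer (clZ q L D : Set G)) :
    (B ⊓ Subgroup.centralizer (clZ q L D : Set G)).relIndex B ^ 2 *
        Nat.card ↥(clZ q L D ⊓ Subgroup.centralizer (B : Set G)) < Nat.card (clZ q L D) := by
  haveI := Fact.mk h.minimal.prime
  set U := clZ q L D with hUdef
  set NU := Subgroup.normalizer (U : Set G) with hNU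
  have hcN : Subgroup.centralizer (U : Set G) ≤ NU := SignalizerCoprime.centralizer_le_normalizer U
  have hBN : B ≤ NU := fun b hb => by
    obtain ⟨d, hd, hdb⟩ := hBD b hb
    simpa using mul_mem (h.D_norm_clZ hd) (hcN hdb)
  obtain ⟨V, _, _, _, ρ, e, he, he'⟩ := exists_rep (q := q) h.clZ_ea
  set F := (hat q L).subgroupOf NU |>.map ρ with hF
  set B' := B.subgroupOf NU |>.map ρ with hB'
  set D' := D.subgroupOf NU |>.map ρ with hD'
  set A' := A.subgroupOf NU |>.map ρ with hA'
  have hone : ∀ {x : ↥NU}, (x : G) ∈ Subgroup.centralizer (U : Set G) → ρ x = 1 :=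
    fun {x} hx => (rep_eq_one he).2 hx
  have hnorm : ∀ S R : Subgroup G, S ≤ Subgroup.normalizer (R : Set G) →
      (S.subgroupOf NU).map ρ ≤ Subgroup.normalizer (((R.subgroupOf NU).map ρ : Subgroup _) : Set _) := by
    intro S R hSR
    refine (Subgroup.map_mono ?_).trans (Subgroup.le_normalizer_map ρ)
    exact fun x hx => Subgroup.mem_normalizer_iff.2 fun y => by
      simpa [Subgroup.mem_subgroupOf] using Subgroup.mem_normalizer_iff.1 (hSR hx) (y : G)
  have hBD' : B' ≤ D' := by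
    rintro _ ⟨x, hx, rfl⟩
    obtain ⟨d, hd, hdx⟩ := hBD _ hx
    refine ⟨⟨d, h.D_norm_clZ hd⟩, hd, ?_⟩
    have := hone (x := (⟨d, h.D_norm_clZ hd⟩ : ↥NU)⁻¹ * x) hdx
    rw [map_mul, map_inv, inv_mul_eq_one] at this
    exact this
  have hctx : Ctx q p F ⊥ A' D' := by
    refine ⟨bot_le, by rw [Subgroup.normalizer_eq_top]; exact le_top, IsPGroup.of_bot, ?_, ?_,
      ((hA'.symm ▸ (h.minimal.toSetup.isPGroup.comap_subtype (K := NU)).map ρ) : IsPGroup p A'),
      hnorm A (hat q L) (A_norm_hat h.minimal h.pure.1),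
      by rw [Subgroup.normalizer_eq_top]; exact le_top, hnorm A D h.A_norm_D, ?_,
      (h.D_pgroup.comap_subtype (K := NU)).map ρ,
      hnorm D (hat q L) (h.le.trans (le_normalizer_hat L)),
      by rw [Subgroup.normalizer_eq_top]; exact le_top, ?_⟩
    · rw [Subgroup.relIndex_bot_left]
      exact not_dvd_card_imOf h.pure.sol ρ (hat_norm_clZ L D) fun x hx => hone (h.oq_cent_clZ hx)
    · obtain ⟨n, hn⟩ := exists_lcs_imOf (q := q) (M := L) ρ
      refine ⟨n, hn.trans ?_⟩
      rintro _ ⟨x, hx, rfl⟩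
      exact Subgroup.mem_bot.2 (hone (h.oq_cent_clZ hx))
    · intro hd
      refine h.pure.1.1.2.1 (hd.trans ((Subgroup.card_map_dvd _ _).trans ?_))
      rw [Nat.card_congr (Subgroup.subgroupOfEquivOfLe (hat_norm_clZ L D)).toEquiv]
      exact Subgroup.card_dvd_of_le (hat_le L)
    · intro y hy hyA d hd
      obtain ⟨x, hx, hxA, rfl⟩ := exists_fixed_lift ρ
        ((h.minimal.toSetup.isPGroup.comap_subtype (K := NU)))
        (fun a ha => Subgroup.mem_normalizer_iff.2 fun z => by
          simpa [Subgroup.mem_subgroupOf] using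
            Subgroup.mem_normalizer_iff.1 (A_norm_hat h.minimal h.pure.1 ha) (z : G))
        (fun hd => h.pure.1.1.2.1 (hd.trans (by
          rw [Nat.card_congr (Subgroup.subgroupOfEquivOfLe (hat_norm_clZ L D)).toEquiv]
          exact Subgroup.card_dvd_of_le (hat_le L))))
        hy (fun a ha => hyA _ ⟨a, ha, rfl⟩)
      obtain ⟨z, hz, rfl⟩ := hd
      rw [Subgroup.mem_bot, ← map_commutatorElement]
      refine hone (h.oq_cent_clZ ?_)
      have := fixed_comm h.minimal h.pure.1 h.D_pgroup h.le h.W.2.1 hx (c := (x : G))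
        (fun a ha => congrArg Subtype.val (hxA ⟨a, h.A_norm_clZ ha⟩ ha)) hz
      simpa [commutatorElement_def] using this
  -- the elements of `B` centralising the image of `hat q L` centralise `U`
  have hker : B' ⊓ Subgroup.centralizer (F : Set (Aut q V)) = ⊥ := by
    rw [Subgroup.eq_bot_iff_forall]
    rintro b ⟨hb, hbF⟩
    obtain ⟨x, hx, rfl⟩ := hb
    refine (rep_eq_one he).2 fun u hu => ?_
    obtain ⟨d, hd, hdx⟩ := hBD _ hx
    have hle : U ≤ Subgroup.centralizer ({(x : G)} : Set G) := by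
      refine iSup_le fun y => ?_
      rintro _ ⟨z, hz, rfl⟩
      have hyN : (y : G) ∈ NU := hat_norm_clZ L D y.2
      have hcomm : ρ ⟨y, hyN⟩ * ρ x = ρ x * ρ ⟨y, hyN⟩ :=
        hbF _ ⟨⟨y, hyN⟩, y.2, rfl⟩
      have hzU : z ∈ U := omZ_le_clZ L D hz
      have hxz : (x : G) * z = z * x := by
        have h1 : z * (d⁻¹ * x) = d⁻¹ * x * z := hdx z hzU
        have h2 : d * z = z * d := omZ_comm hz hd
        calc (x : G) * z = d * (d⁻¹ * x * z) := by group
          _ = (d * z) * (d⁻¹ * x) := by rw [← h1]; group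
          _ = z * x := by rw [h2]; group
      have h3 := congrArg (fun g : Aut q V => ((e (g (e.symm ⟨z, hzU⟩)) : ↥U) : G)) hcomm
      simp only [LinearEquiv.mul_apply, he, Equiv.apply_symm_apply] at h3
      rw [hxz, mul_inv_cancel_right] at h3
      exact mem_centralizer_singleton.2 (mul_inv_eq_iff_eq_mul.1 h3.symm).symm
    exact mem_centralizer_singleton.1 (hle hu)
  have hB'1 : ¬ B' ≤ Subgroup.centralizer (F : Set (Aut q V)) := by
    refine fun hle => hne fun b hb => ?_
    refine (rep_eq_one (g := ⟨b, hBN hb⟩) he).1 (Subgroup.mem_bot.1 ?_)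
    rw [← hker]
    exact ⟨⟨⟨b, hBN hb⟩, hb, rfl⟩, hle ⟨⟨b, hBN hb⟩, hb, rfl⟩⟩
  have key := kplus_bot h.p_ne_two h.p_ne hctx hBD'
    (by
      rintro _ ⟨a, ha, rfl⟩ _ ⟨b, hb, rfl⟩
      refine commutatorElement_eq_one_iff_mul_comm.1 ?_
      rw [← map_commutatorElement]
      exact hone (by simpa [commutatorElement_def] using hBc _ ha _ hb))
    (by
      rintro _ ⟨b, hb, rfl⟩
      rw [← map_pow]
      exact hone (by simpa using hBq _ hb))
    hB'1
  rw [hker, Subgroup.relIndex_bot_left, Nat.card_congr e, card_fix he B hBN] at key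
  have h1 := card_map_mul he B hBN
  have h2 : Nat.card ↥(B ⊓ Subgroup.centralizer (U : Set G)) *
      (B ⊓ Subgroup.centralizer (U : Set G)).relIndex B = Nat.card B := by
    rw [← Subgroup.relIndex_bot_left, ← Subgroup.relIndex_bot_left]
    exact Subgroup.relIndex_mul_relIndex _ _ _ bot_le inf_le_left
  rw [← h1, mul_comm] at h2
  rwa [Nat.eq_of_mul_eq_mul_right Nat.card_pos h2]

end Base

end Cfsg.Agent.SFTPure
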