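import Mathlib
import Cfsg.Agent.Lib.SFTPureLocal

/-!
# Pure uniqueness for closed pure maximal members

A pure maximal member all of whose over-members of its component are pure is the only maximal
member containing that component; two such members coincide.  Data have closed pure members.
-/

set_option autoImplicit false
set_option linter.unusedSectionVars false

namespace Cfsg.Agent.SFTPure

open Cfsg.Agent.SignalizerCoprime Cfsg.Agent.HallCore Cfsg.Agent.SFTGroup Cfsg.Agent.SFTSigma
  Cfsg.Agent.SFTCtx Cfsg.Agent.SFTStatic Cfsg.Agent.SFTPair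
open Cfsg.Agent.SignalizerTransitivity (mem_family_of_le)

universe u

/-- The base case: `hat q N ≤ L` for the pure maximal members above the largest `q`-member. -/
def HatLe : Prop :=
  ∀ {G : Type u} [Group G] [Finite G] {p : ℕ} {A : Subgroup G} {θ : G → Subgroup G} {q : ℕ}
    [Fact q.Prime] {D L : Subgroup G}, Base p A θ q D L →
    (∀ X ∈ Cfsg.signalizerFamily p A θ,
      X ≤ Subgroup.normalizer (Cfsg.thompsonSubgroupOf q D : Set G) → X ≤ L) →
    (∀ K, IsMax p A θ K → D ≤ K → IsPure p A θ q K) →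
    ∀ {N : Subgroup G}, IsPure p A θ q N → D ≤ N → hat q N ≤ L

variable {G : Type u} [Group G] [Finite G] {p : ℕ} {A : Subgroup G} {θ : G → Subgroup G}
  (hp2 : p ≠ 2) (hB : HatLe.{u}) (hM : Minimal p A θ) {q : ℕ} [Fact q.Prime]
include hM

/-- A member equal to a component of a pure maximal member is not trivial. -/
theorem ne_bot_of_max {M : Subgroup G} (hMax : IsMax p A θ M) : M ≠ ⊥ := by
  intro h
  obtain ⟨a, ha, ha1, hne⟩ : ∃ a ∈ A, a ≠ 1 ∧ θ a ≠ ⊥ := by
    by_contra hc
    push Not at hc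
    exact hM.incomplete ⟨⊥, hM.toSetup.bot_mem, fun a ha ha1 => (hc a ha ha1).le⟩
  obtain ⟨N, hN, hle⟩ := hM.toSetup.exists_max_theta ha ha1
  exact hne (le_bot_iff.1 (hle.trans (hMax.2.2 N hN.1 (h ▸ bot_le) |>.trans h).le))

/-- The component of a closed pure member lies in the largest invariant `q`-member. -/
theorem oq_le_W {M W : Subgroup G} (hMax : IsMax p A θ M) (hW : IsW p A θ {q} W) :
    Cfsg.pCoreOf q M ≤ W :=
  hW.2.2.2 _ (hM.toSetup.oq_mem hMax.1 q) (hMax.2.1.trans (le_normalizer_oq q M))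
    (piNat_of_isPGroup (oq_isPGroup q M) rfl)

include hp2 hB in
/-- A closed pure member contains the largest invariant `q`-member and is the only maximal member
containing its component. -/
theorem closed_spec {M : Subgroup G} (hPM : IsPure p A θ q M) (hcl : Closed p A θ q M) :
    (∀ N, IsMax p A θ N → Cfsg.pCoreOf q M ≤ N → N = M) ∧
      ∀ W, IsW p A θ {q} W → W ≤ M := by
  haveI := Fact.mk hM.prime
  have hS := hM.toSetup
  have hM1 := ne_bot_of_max hM hPM.1
  have hP1 := hPM.oq_ne_bot hM1
  have hpq : p ≠ q :=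
    (isPGroup_member_ne hM (hS.oq_mem hPM.1.1 q) (oq_isPGroup q M) hP1).symm
  obtain ⟨D, hD⟩ := exists_W1 hM q
  have hPD := oq_le_W hM hPM.1 hD
  have hD1 : D ≠ ⊥ := fun h => hP1 (le_bot_iff.1 (h ▸ hPD))
  have hDq : IsPGroup q D := isPGroup_of_piNat hD.2.2.1
  have hDA := hS.le_normalizer hD.1
  obtain ⟨L, hL, hLJ⟩ := exists_norm_max hM
    (mem_family_of_le hD.1 (Offenders.thompsonOf_le D) (hDA.trans (normalizer_le_thompson D)))
    (thompson_ne_bot hDq hD1) (hD.2.1.trans (normalizer_le_thompson D))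
  have hDL : D ≤ L := hLJ D hD.1 (Subgroup.le_normalizer.trans (normalizer_le_thompson D))
  have hPL : IsPure p A θ q L := hcl L hL (hPD.trans hDL)
  have hbase : Base p A θ q D L := ⟨hM, hp2, hpq, hD, hD1, hPL, hDL⟩
  have key := eq_of_base hM hM1 hPM hcl hPL hD hDL fun N hN hDN =>
    hB hbase hLJ (fun K hK hDK => hcl K hK (hPD.trans hDK)) hN hDN
  have hML : M = L := key M hPM.1 (oq_le q M)
  refine ⟨fun N hN hle => (key N hN hle).trans hML.symm, fun W hW => hML ▸ ?_⟩
  exact (hD.2.2.2 W hW.1 hW.2.1 hW.2.2.1).trans hDL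

include hp2 hB in
/-- Two closed pure members for the same prime coincide. -/
theorem closed_unique {M N : Subgroup G} (hPM : IsPure p A θ q M) (hclM : Closed p A θ q M)
    (hPN : IsPure p A θ q N) (hclN : Closed p A θ q N) : M = N := by
  obtain ⟨W, hW⟩ := exists_W1 hM q
  have h1 := (closed_spec hp2 hB hM hPN hclN).2 W hW
  exact ((closed_spec hp2 hB hM hPM hclM).1 N hPN.1 ((oq_le_W hM hPM.1 hW).trans h1)).symm

/-- The pure member of a datum is closed. -/
theorem closed_of_datum {Q M : Subgroup G} (hD : Datum p A θ q Q M) (hPM : IsPure p A θ q M) :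
    Closed p A θ q M := by
  intro L hL hle
  refine ⟨hL, fun t ht htq => ?_⟩
  haveI := Fact.mk ht
  have hS := hM.toSetup
  have hQP : Q ≤ Cfsg.pCoreOf q M :=
    hD.le_comp M hD.isMax.1 (hD.norm_le Q hD.mem Subgroup.le_normalizer)
  have hQL := hD.le_comp L hL.1 (hQP.trans hle)
  have htM : Cfsg.pCoreOf t L ≤ M := hD.norm_le _ (hS.oq_mem hL.1 t)
    ((commute_subgroups (inf_eq_bot_of_primes (oq_isPGroup t L) (oq_isPGroup q L) htq)
      ((oq_le t L).trans (le_normalizer_oq q L)) ((oq_le q L).trans (le_normalizer_oq t L))).trans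
        ((Subgroup.centralizer_le hQL).trans (SignalizerCoprime.centralizer_le_normalizer Q)))
  have hc := commute_subgroups
    (inf_eq_bot_of_primes (oq_isPGroup t L) (oq_isPGroup q M) htq)
    (htM.trans (le_normalizer_oq q M)) (hle.trans (le_normalizer_oq t L))
  have hin : Cfsg.pCoreOf t L ≤ Cfsg.pCoreOf q M := (le_inf htM hc).trans hPM.centralizer_le
  have := inf_eq_bot_of_primes (oq_isPGroup t L) (oq_isPGroup q M) htq
  rwa [inf_eq_left.2 hin] at this

end Cfsg.Agent.SFTPure
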