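import Mathlib
import Cfsg.Agent.Lib.SFTPureUnique

/-!
# All data share their maximal member

The argument of `SFTPair.datum_unique`, pure uniqueness being supplied for the data only.
-/

set_option autoImplicit false
set_option linter.unusedSectionVars false

namespace Cfsg.Agent.SFTPureDatum

open Cfsg.Agent.SignalizerCoprime Cfsg.Agent.HallCore Cfsg.Agent.SFTGroup Cfsg.Agent.SFTSigma
  Cfsg.Agent.SFTCtx Cfsg.Agent.SFTStatic Cfsg.Agent.SFTPair
open Cfsg.Agent.SignalizerTransitivity (mem_family_of_le)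

universe u

variable {G : Type u} [Group G] [Finite G] {p : ℕ} {A : Subgroup G} {θ : G → Subgroup G}

/-- All data share their maximal member. -/
theorem datum_unique (hp2 : p ≠ 2) (hB : SFTPure.HatLe.{u}) (hM : Minimal p A θ)
    (hbig : ∀ q s : ℕ, q.Prime → s.Prime → q ≠ s →
      ∃ a ∈ A, a ≠ 1 ∧ ¬ PiNat {q, s} (Nat.card (θ a)))
    {q q' : ℕ} {Q M Q' M' : Subgroup G} (hD : Datum p A θ q Q M) (hD' : Datum p A θ q' Q' M') :
    M = M' := by
  have hS := hM.toSetup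
  haveI := Fact.mk hD.prime
  haveI := Fact.mk hD'.prime
  have hQM : ∀ {q : ℕ} {Q M : Subgroup G}, Datum p A θ q Q M → Q ≤ Cfsg.pCoreOf q M := fun hD =>
    hD.le_comp _ hD.isMax.1 (hD.norm_le _ hD.mem Subgroup.le_normalizer)
  have hne : ∀ {q : ℕ} {Q M X : Subgroup G}, Datum p A θ q Q M → Q ≤ X → X ≠ ⊥ :=
    fun hD hle h => hD.ne_bot (le_bot_iff.1 (h ▸ hle))
  by_cases hqq : q = q'
  · subst hqq
    by_cases hmix : ∃ s : ℕ, s.Prime ∧ s ≠ q ∧ Cfsg.pCoreOf s M ≠ ⊥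
    · obtain ⟨s, hs, hsq, hsM⟩ := hmix
      haveI := Fact.mk hs
      obtain ⟨h1, h2, s', hs', hs'q, hs'M⟩ := same_prime_step hM hsq hbig hD hD' hsM
      haveI := Fact.mk hs'
      obtain ⟨h3, h4, -⟩ := same_prime_step hM hs'q hbig hD' hD hs'M
      exact max_eq_of_comps hM hD.isMax hD'.isMax
        (fun t ht => if htq : t = q then htq ▸ h4 else h1 t ht htq)
        (fun t ht => if htq : t = q then htq ▸ h2 else h3 t ht htq)
        hsq.symm (hne hD (hQM hD)) hsM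
    by_cases hmix' : ∃ s : ℕ, s.Prime ∧ s ≠ q ∧ Cfsg.pCoreOf s M' ≠ ⊥
    · obtain ⟨s, hs, hsq, hsM⟩ := hmix'
      haveI := Fact.mk hs
      obtain ⟨-, -, h⟩ := same_prime_step hM hsq hbig hD' hD hsM
      exact absurd h hmix
    push Not at hmix hmix'
    exact SFTPure.closed_unique hp2 hB hM ⟨hD.isMax, hmix⟩
      (SFTPure.closed_of_datum hM hD ⟨hD.isMax, hmix⟩) ⟨hD'.isMax, hmix'⟩
      (SFTPure.closed_of_datum hM hD' ⟨hD'.isMax, hmix'⟩)
  obtain ⟨H, hH⟩ := hM.exists_W {q, q'} (hbig q q' hD.prime hD'.prime hqq)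
  have hqσ : q ∈ ({q, q'} : Set ℕ) := Or.inl rfl
  have hqσ' : q' ∈ ({q, q'} : Set ℕ) := Or.inr rfl
  have hQH : Q ≤ Cfsg.pCoreOf q H := hD.le_comp H hH.1
    (hH.2.2.2 Q hD.mem hD.T_norm (piNat_of_isPGroup hD.pgroup hqσ))
  have hQ'H : Q' ≤ Cfsg.pCoreOf q' H := hD'.le_comp H hH.1
    (hH.2.2.2 Q' hD'.mem hD'.T_norm (piNat_of_isPGroup hD'.pgroup hqσ'))
  have hcomm : Cfsg.pCoreOf q' H ≤ Subgroup.centralizer (Cfsg.pCoreOf q H : Set G) :=
    commute_subgroups (inf_eq_bot_of_primes (oq_isPGroup q' H) (oq_isPGroup q H) (Ne.symm hqq))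
      ((oq_le q' H).trans (le_normalizer_oq q H)) ((oq_le q H).trans (le_normalizer_oq q' H))
  have hQ'M : Q' ≤ M := hD.norm_le Q' hD'.mem ((hQ'H.trans hcomm).trans
    ((Subgroup.centralizer_le hQH).trans (SignalizerCoprime.centralizer_le_normalizer Q)))
  have hQM' : Q ≤ M' := hD'.norm_le Q hD.mem
    ((hQH.trans (Subgroup.le_centralizer_iff.1 (hQ'H.trans hcomm))).trans
        (SignalizerCoprime.centralizer_le_normalizer Q'))
  have hQ'P := hD'.le_comp M hD.isMax.1 hQ'M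
  have hQP' := hD.le_comp M' hD'.isMax.1 hQM'
  have hV := comp_le_comp hM hH hqq hqσ hqσ' hD
  have hP' := comp_le_comp hM hH (Ne.symm hqq) hqσ' hqσ hD'
  have hoff : ∀ {q q' : ℕ} {Q M Q' M' : Subgroup G} [Fact q'.Prime],
      Datum p A θ q Q M → Datum p A θ q' Q' M' → Q' ≤ Cfsg.pCoreOf q' M →
      ∀ t : ℕ, t.Prime → t ≠ q' → Cfsg.pCoreOf t M ≤ M' := by
    intro q q' Q M Q' M' _ hD hD' hle t ht htq
    haveI := Fact.mk ht
    exact hD'.norm_le _ (hS.oq_mem hD.isMax.1 t) ((commute_subgroups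
      (inf_eq_bot_of_primes (oq_isPGroup t M) (oq_isPGroup q' M) htq)
      ((oq_le t M).trans (le_normalizer_oq q' M))
      ((oq_le q' M).trans (le_normalizer_oq t M))).trans
        ((Subgroup.centralizer_le hle).trans (SignalizerCoprime.centralizer_le_normalizer Q')))
  have hVc : Cfsg.pCoreOf q' M ≤ Subgroup.centralizer (Cfsg.pCoreOf q M' : Set G) :=
    (hV.trans hcomm).trans (Subgroup.centralizer_le hP')
  have hVM' : Cfsg.pCoreOf q' M ≤ M' := hM.le_max_oq hD'.isMax (hne hD hQP')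
    (hS.oq_mem hD.isMax.1 q') (hVc.trans (SignalizerCoprime.centralizer_le_normalizer _))
  have hP'M : Cfsg.pCoreOf q M' ≤ M := hM.le_max_oq hD.isMax (hne hD' hQ'P)
    (hS.oq_mem hD'.isMax.1 q)
    ((Subgroup.le_centralizer_iff.1 hVc).trans (SignalizerCoprime.centralizer_le_normalizer _))
  exact max_eq_of_comps hM hD.isMax hD'.isMax
    (fun t ht => if htq : t = q' then htq ▸ hVM' else hoff hD hD' hQ'P t ht htq)
    (fun t ht => if htq : t = q then htq ▸ hP'M else hoff hD' hD hQP' t ht htq)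
    hqq (hne hD (hQM hD)) (hne hD' hQ'P)

end Cfsg.Agent.SFTPureDatum
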