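import Mathlib
import Cfsg.Agent.Lib.SFTPureUnique
import Cfsg.Agent.Lib.SFTOdd56

/-!
# Odd components: data and lines

The parts of the argument for values of odd order that only need the moved prime to be odd.
-/

set_option autoImplicit false
set_option linter.unusedSectionVars false

namespace Cfsg.Agent.SFTPureBasic

open Cfsg.Agent.SignalizerCoprime Cfsg.Agent.HallCore Cfsg.Agent.SFTGroup Cfsg.Agent.SFTSigma
  Cfsg.Agent.SFTCtx Cfsg.Agent.SFTStatic Cfsg.Agent.SFTPair
open Cfsg.Agent.SignalizerTransitivity (mem_family_of_le coprime_card_member)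
open Cfsg.Agent.SFTOdd56 (zpowers_comm mem_normalizer_zpowers_of_comm)
open scoped commutatorElement

universe u

variable {G : Type u} [Group G] [Finite G] {p : ℕ} {A : Subgroup G} {θ : G → Subgroup G}

/-- The commutators with `a` of a `q`-group normalised by `θ a` lie in the component of every
member containing it. -/
theorem comm_le_oq (hp2 : p ≠ 2) (hS : Setup p A θ) {q : ℕ} [Fact q.Prime] (hq2 : q ≠ 2) {H : Subgroup G}
    (hH : H ∈ Cfsg.signalizerFamily p A θ) {a : G} (ha : a ∈ A) (ha1 : a ≠ 1) {Q : Subgroup G}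
    (hQ : IsPGroup q Q) (hQN : θ a ≤ Subgroup.normalizer (Q : Set G))
    (haQ : a ∈ Subgroup.normalizer (Q : Set G)) :
    ⁅Q ⊓ H, Subgroup.zpowers a⁆ ≤ Cfsg.pCoreOf q H := by
  haveI := Fact.mk hS.prime
  set Z := Subgroup.zpowers a
  set Q0 := Q ⊓ H with hQ0
  have hQ0q : IsPGroup q Q0 := hQ.to_le inf_le_left
  have haH : a ∈ Subgroup.normalizer (H : Set G) := hS.le_normalizer hH ha
  have hZQ0 : Z ≤ Subgroup.normalizer (Q0 : Set G) :=
    le_normalizer_inf (Subgroup.zpowers_le.2 haQ) (Subgroup.zpowers_le.2 haH)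
  have hQ1 : ⁅Q0, Z⁆ ≤ Q0 := CoprimeAction.commutator_le_self_of_le_normalizer hZQ0
  by_cases hbot : Q0 = ⊥
  · exact hQ1.trans (hbot.le.trans bot_le)
  have hqH : q ∣ Nat.card H := by
    obtain ⟨k, hk⟩ := IsPGroup.iff_card.1 hQ0q
    cases k with
    | zero => exact absurd (Subgroup.card_eq_one.1 (by simpa using hk)) hbot
    | succ k =>
      exact (hk ▸ dvd_pow_self q k.succ_ne_zero).trans (Subgroup.card_dvd_of_le inf_le_right)
  have hqp : p ≠ q := fun h => hH.2.1 (h ▸ hqH)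
  set V := Cfsg.pCoreOf q H with hV
  set L := Subgroup.normalizer (V : Set G) with hL
  have hHL : H ≤ L := le_normalizer_oq q H
  have haL : a ∈ L := hS.le_normalizer (hS.oq_mem hH q) ha
  set H' := img V H with hH'
  have hsol : Group.IsSolvable ↥H' := by
    haveI := hH.1
    haveI : Group.IsSolvable ↥(H.subgroupOf L) :=
      Group.isSolvable_of_isSolvable_injective
        (f := (Subgroup.subgroupOfEquivOfLe hHL).toMonoidHom) (MulEquiv.injective _)
    exact Group.isSolvable_of_surjective (f := (proj V).subgroupMap (H.subgroupOf L))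
      (MonoidHom.subgroupMap_surjective _ _)
  have hmemH : ∀ z : ↥L, proj V z ∈ H' → (z : G) ∈ H := by
    intro z hz
    obtain ⟨w, hw, hwz⟩ := mem_img.1 hz
    have h1 : proj V (w⁻¹ * z) = 1 := by rw [map_mul, map_inv, hwz, inv_mul_cancel]
    have h2 : (w : G)⁻¹ * z ∈ H := oq_le q H (by simpa using proj_eq_one.1 h1)
    simpa using mul_mem hw h2
  have hq0 : Cfsg.pCoreOf q H' = ⊥ := by
    rw [Subgroup.eq_bot_iff_forall]
    intro y hy
    obtain ⟨z, hz, rfl⟩ := mem_img.1 (oq_le q H' hy)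
    set K := ((Cfsg.pCoreOf q H').comap (proj V)).map L.subtype with hK
    have hKH : K ≤ H := by
      rintro _ ⟨w, hw, rfl⟩
      exact hmemH w (oq_le q H' hw)
    have hKq : IsPGroup q K := by
      rintro ⟨_, ⟨w, hw, rfl⟩⟩
      obtain ⟨i, hi⟩ := oq_isPGroup q H' ⟨proj V w, hw⟩
      have h1 : ((w ^ q ^ i : ↥L) : G) ∈ V := proj_eq_one.1 (by
        rw [map_pow]; exact congrArg Subtype.val hi)
      obtain ⟨j, hj⟩ := oq_isPGroup q H ⟨_, h1⟩
      refine ⟨i + j, Subtype.ext ?_⟩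
      have h2 : ((w : G) ^ q ^ i) ^ q ^ j = 1 := by simpa using congrArg Subtype.val hj
      simpa [← pow_mul, ← pow_add] using h2
    have hHK : H ≤ Subgroup.normalizer (K : Set G) := by
      refine le_normalizer_of_forall fun g hg _ hy => ?_
      obtain ⟨w, hw, rfl⟩ := hy
      refine ⟨⟨g, hHL hg⟩ * w * (⟨g, hHL hg⟩ : ↥L)⁻¹, ?_, by simp⟩
      simp only [SetLike.mem_coe, Subgroup.mem_comap, map_mul, map_inv] at hw ⊢
      exact mem_normalizer_conj (le_normalizer_oq q H' (mem_img.2 ⟨_, hg, rfl⟩)) hw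
    exact proj_eq_one.2 (le_oq hKH hHK hKq ⟨z, hy, rfl⟩)
  set a' := proj V ⟨a, haL⟩ with ha'
  have ha'mem : a' ∈ img V Z := mem_img.2 ⟨⟨a, haL⟩, Subgroup.mem_zpowers a, rfl⟩
  have hcomm : ∀ t : ℕ, t.Prime → ⁅img V Q0, Subgroup.zpowers a'⁆ ≤
      Subgroup.centralizer (Cfsg.pCoreOf t H' : Set _) := by
    intro t ht
    haveI := Fact.mk ht
    set W := Cfsg.pCoreOf t H' with hW
    by_cases hW1 : W = ⊥
    · intro x _ u hu
      rw [hW1] at hu
      rw [Subgroup.mem_bot.1 hu, one_mul, mul_one]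
    have htq : t ≠ q := by rintro rfl; exact hW1 hq0
    have hWH : W ≤ H' := oq_le t H'
    have htp : t ≠ p := by
      rintro rfl
      obtain ⟨k, hk⟩ := IsPGroup.iff_card.1 (oq_isPGroup t H')
      cases k with
      | zero => exact hW1 (Subgroup.card_eq_one.1 (by simpa using hk))
      | succ k => exact hH.2.1 ((hk ▸ dvd_pow_self t k.succ_ne_zero).trans
          ((Subgroup.card_dvd_of_le hWH).trans (card_img_dvd hHL)))
    refine SFTOdd56.centralizes_of_fixed (a := a') hS.prime Fact.out hp2 hq2 hqp htq htp ?_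
      (oq_isPGroup t H') ((hQ0q.comap_of_injective _ L.subtype_injective).map _) ?_ ?_ ?_ ?_
    · rw [ha', ← map_pow, show (⟨a, haL⟩ : ↥L) ^ p = 1 from Subtype.ext (by simp [hS.hA.2 a ha]),
        map_one]
    · intro y hy
      obtain ⟨k, hk, rfl⟩ := mem_img.1 hy
      exact le_normalizer_oq t H' (mem_img.2 ⟨k, (Subgroup.mem_inf.1 hk).2, rfl⟩)
    · exact normalizer_le_normalizer_oq t H' (le_normalizer_of_forall (X := H')
        (img_le_normalizer (Y := Z) (Subgroup.zpowers_le.2 haH)) ha'mem)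
    · exact le_normalizer_of_forall (X := img V Q0) (img_le_normalizer (Y := Z) hZQ0) ha'mem
    intro w hw hwa x hx
    obtain ⟨k, hk, rfl⟩ := mem_img.1 (hWH hw)
    obtain ⟨y, hy, rfl⟩ := mem_img.1 hx
    obtain ⟨v, hv, hvk⟩ := exists_lift (p := p) (A := Z)
      (isPGroup_zpowers (hS.hA.2 a ha)) (Subgroup.zpowers_le.2 haL) (hS.oq_mem hH q).2.1
      (x := k) fun b hb => by
        obtain ⟨i, hi⟩ := hb
        rw [show b = (⟨a, haL⟩ : ↥L) ^ i from Subtype.ext (by simpa using hi.symm), map_zpow]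
        exact ((show Commute (proj V ⟨a, haL⟩) (proj V k) from hwa.symm).zpow_left i).eq
    set c : ↥L := ⟨v, Subgroup.le_normalizer hv⟩ * k with hc
    have hcw : proj V c = proj V k := by
      rw [hc, map_mul, proj_eq_one.2 (show ((⟨v, _⟩ : ↥L) : G) ∈ V from hv), one_mul]
    have hcH : (c : G) ∈ H := mul_mem (oq_le q H hv) hk
    have hcQ : (c : G) ∈ Subgroup.normalizer (Q0 : Set G) :=
      Subgroup.inf_normalizer_le_normalizer_inf (Subgroup.mem_inf.2
        ⟨hQN (hH.2.2.2 a ha ha1 ⟨hcH, mem_centralizer_singleton.2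
          (hvk a (Subgroup.mem_zpowers a)).symm⟩), Subgroup.le_normalizer hcH⟩)
    set d : ↥L := c * y * c⁻¹ * y⁻¹ with hd
    have hdQ : (d : G) ∈ Q0 := mul_mem (mem_normalizer_conj hcQ hy) (inv_mem hy)
    have hdW : proj V d ∈ W := by
      rw [hd, map_mul, map_mul, map_mul, map_inv, map_inv, hcw,
        show proj V k * proj V y * (proj V k)⁻¹ * (proj V y)⁻¹ =
          proj V k * (proj V y * (proj V k)⁻¹ * (proj V y)⁻¹) by group]
      exact mul_mem hw (mem_normalizer_conj (le_normalizer_oq t H'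
        (mem_img.2 ⟨y, (Subgroup.mem_inf.1 hy).2, rfl⟩)) (inv_mem hw))
    have hd1 : proj V d = 1 := by
      obtain ⟨i, hi⟩ := hQ0q ⟨_, hdQ⟩
      obtain ⟨j, hj⟩ := oq_isPGroup t H' ⟨_, hdW⟩
      refine orderOf_eq_one_iff.1 (Nat.eq_one_of_dvd_coprimes (a := q ^ i) (b := t ^ j)
        (Nat.Coprime.pow i j ((Nat.coprime_primes Fact.out ht).2 (Ne.symm htq)))
        (orderOf_dvd_of_pow_eq_one ?_) (orderOf_dvd_of_pow_eq_one (congrArg Subtype.val hj)))
      rw [← map_pow, show d ^ q ^ i = 1 from Subtype.ext (by simpa using congrArg Subtype.val hi),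
        map_one]
    rw [hd, map_mul, map_mul, map_mul, map_inv, map_inv, hcw, mul_inv_eq_one,
      mul_inv_eq_iff_eq_mul] at hd1
    exact hd1
  set K := ⁅img V Q0, Subgroup.zpowers a'⁆ with hK
  have hKQ : K ≤ img V Q0 := CoprimeAction.commutator_le_self_of_le_normalizer
    (Subgroup.zpowers_le.2 (le_normalizer_of_forall (X := img V Q0)
      (img_le_normalizer (Y := Z) hZQ0) ha'mem))
  have hKH : K ≤ H' := hKQ.trans fun y hy => by
    obtain ⟨k, hk, rfl⟩ := mem_img.1 hy
    exact mem_img.2 ⟨k, (Subgroup.mem_inf.1 hk).2, rfl⟩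
  have hKq : IsPGroup q K := ((hQ0q.comap_of_injective _ L.subtype_injective).map _).to_le hKQ
  have hK1 : K = ⊥ := le_bot_iff.1 ((le_oq_of_commute hsol hKH hKq hcomm).trans hq0.le)
  rw [Subgroup.commutator_le]
  intro y hy z hz
  obtain ⟨i, rfl⟩ := hz
  have h1 : proj V ⁅(⟨y, hHL (Subgroup.mem_inf.1 hy).2⟩ : ↥L), (⟨a, haL⟩ : ↥L) ^ i⁆ = 1 := by
    rw [map_commutatorElement, map_zpow, ← Subgroup.mem_bot, ← hK1]
    exact Subgroup.commutator_mem_commutator (mem_img.2 ⟨_, hy, rfl⟩) ⟨i, rfl⟩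
  simpa [commutatorElement_def] using proj_eq_one.1 h1

variable (hp2 : p ≠ 2) (hM : Minimal p A θ)
include hp2 hM

/-- An element moving an odd component of a maximal member above it gives a datum. -/
theorem exists_datum {a : G} (ha : a ∈ A) (ha1 : a ≠ 1) {M0 : Subgroup G} (hM0 : IsMax p A θ M0)
    (hle0 : θ a ≤ M0) {q : ℕ} [Fact q.Prime] (hq2 : q ≠ 2)
    (hmov : ¬ Cfsg.pCoreOf q M0 ≤ Subgroup.centralizer ({a} : Set G)) :
    ∃ Q M, Datum p A θ q Q M ∧ θ a ≤ M ∧ θ a ≤ Subgroup.normalizer (Q : Set G) ∧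
      ¬ Q ≤ Subgroup.centralizer ({a} : Set G) := by
  haveI := Fact.mk hM.prime
  have hS := hM.toSetup
  have hq : q.Prime := Fact.out
  obtain ⟨W, hW⟩ := exists_W1 hM q
  let 𝒰 := {X : Subgroup G // X ≤ W ∧ A ≤ Subgroup.normalizer (X : Set G) ∧
    θ a ≤ Subgroup.normalizer (X : Set G)}
  set U : Subgroup G := ⨆ X : 𝒰, X.1 with hU
  have hUW : U ≤ W := iSup_le fun X => X.2.1
  have hUA : A ≤ Subgroup.normalizer (U : Set G) := le_normalizer_iSup fun X => X.2.2.1
  have hUθ : θ a ≤ Subgroup.normalizer (U : Set G) := le_normalizer_iSup fun X => X.2.2.2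
  have hPU : Cfsg.pCoreOf q M0 ≤ U := le_iSup (fun X : 𝒰 => X.1) ⟨_, hW.2.2.2 _
    (hS.oq_mem hM0.1 q) (hM0.2.1.trans (le_normalizer_oq q M0))
    (piNat_of_isPGroup (oq_isPGroup q M0) rfl), hS.le_normalizer (hS.oq_mem hM0.1 q),
    hle0.trans (le_normalizer_oq q M0)⟩
  set Z := Subgroup.zpowers a with hZ
  have hZA : Z ≤ A := Subgroup.zpowers_le.2 ha
  set Q := ⁅U, Z⁆ with hQ
  have hQU : Q ≤ U := CoprimeAction.commutator_le_self_of_le_normalizer (hZA.trans hUA)
  have hQA : A ≤ Subgroup.normalizer (Q : Set G) :=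
    le_normalizer_commutator hUA (SFTLines.le_normalizer_zpowers hM.hA ha)
  have hQθ : θ a ≤ Subgroup.normalizer (Q : Set G) := by
    refine le_normalizer_commutator hUθ (fun g hg => ?_)
    refine SignalizerCoprime.centralizer_le_normalizer Z fun y hy => ?_
    obtain ⟨i, rfl⟩ := hy
    exact (((show Commute g a from mem_centralizer_singleton.1
      (hS.theta_le ha ha1 hg)).zpow_right i).eq).symm
  have hQm : Q ∈ Cfsg.signalizerFamily p A θ := mem_family_of_le hW.1 (hQU.trans hUW) hQA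
  have hQq : IsPGroup q Q := (isPGroup_of_piNat hW.2.2.1).to_le (hQU.trans hUW)
  have hQ1 : Q ≠ ⊥ := by
    intro h
    rw [hQ, Subgroup.commutator_eq_bot_iff_le_centralizer] at h
    exact hmov (hPU.trans (h.trans (Subgroup.centralizer_le
      (Set.singleton_subset_iff.2 (Subgroup.mem_zpowers a)))))
  have hT : Cfsg.signalizerInf A θ ≤ Subgroup.normalizer (Q : Set G) := (hS.T_le ha ha1).trans hQθ
  have hUm : U ∈ Cfsg.signalizerFamily p A θ := mem_family_of_le hW.1 hUW hUA
  obtain ⟨N, hN, -, hNθ⟩ := hM.exists_norm hQm hQ1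
  have hTN : Cfsg.signalizerInf A θ ≤ N := hS.member_le hS.T_mem fun b hb hb1 =>
    (le_inf (hS.T_mem.2.2.2 b hb hb1) (inf_le_left.trans hT)).trans (hNθ b hb hb1)
  obtain ⟨M, hMM, hNM⟩ := hS.exists_max hN (hTN.trans Subgroup.le_normalizer)
  have hle : ∀ X ∈ Cfsg.signalizerFamily p A θ, X ≤ Subgroup.normalizer (Q : Set G) → X ≤ M :=
    fun X hX hXQ => (hS.member_le hX fun b hb hb1 => (le_inf (hX.2.2.2 b hb hb1)
      (inf_le_left.trans hXQ)).trans (hNθ b hb hb1)).trans hNM
  have hcop : (Nat.card Z).Coprime (Nat.card U) :=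
    Nat.Coprime.coprime_dvd_left (Subgroup.card_dvd_of_le hZA) (coprime_card_member hM.hA hUm)
  refine ⟨Q, M, ⟨hq, hQm, hQq, hQ1, hT, fun H hH hQH => ?_, hMM, hle⟩,
    hle _ (hS.theta_mem ha ha1) hQθ, hQθ, fun hc => hQ1 ?_⟩
  · have h1 := comm_le_oq hp2 hS hq2 hH ha ha1 hQq hQθ (hQA ha)
    rw [inf_eq_left.2 hQH] at h1
    rwa [hQ, CoprimeAction.commutator_commutator_eq (hZA.trans hUA) hcop (Or.inr hUm.1)] at h1
  · rw [hQ, ← CoprimeAction.commutator_commutator_eq (hZA.trans hUA) hcop (Or.inr hUm.1),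
      Subgroup.commutator_eq_bot_iff_le_centralizer]
    intro x hx y hy
    obtain ⟨i, rfl⟩ := hy
    exact (((show Commute x a from mem_centralizer_singleton.1 (hc hx)).zpow_right i).eq).symm

/-- If the values on a line outside `⟨z⟩` lie in a maximal member or centralise `z`, so does the
value at `z` lie in that member. -/
theorem theta_le_of_line {M E : Subgroup G} (hMax : IsMax p A θ M) (hEA : E ≤ A)
    (hE : Nat.card E = p ^ 2) {z : G} (hz : z ∈ E) (hz1 : z ≠ 1)
    (h : ∀ c ∈ E, c ∉ Subgroup.zpowers z → θ c ≤ M ∨ θ c ≤ Subgroup.centralizer ({z} : Set G)) :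
    θ z ≤ M := by
  haveI := Fact.mk hM.prime
  have hS := hM.toSetup
  have hzA := hEA hz
  set Z := Subgroup.zpowers z with hZ
  have hZA : Z ≤ A := Subgroup.zpowers_le.2 hzA
  have hEel := elementaryAbelian_of_le hM.hA hEA
  have hne1 : ∀ e : G, e ∉ Z → e ≠ 1 := fun e he h' => he (h' ▸ one_mem _)
  have hp2 : p < p ^ 2 := by simpa using Nat.pow_lt_pow_right hM.prime.one_lt one_lt_two
  have hself : ∀ {X : Subgroup G}, X ∈ Cfsg.signalizerFamily p A θ → ⁅X, Z⁆ ≤ X := fun hX =>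
    CoprimeAction.commutator_le_self_of_le_normalizer (hZA.trans (hS.le_normalizer hX))
  have hside : ∀ f ∈ E, f ∉ Z → ⁅θ f, Z⁆ ≤ M := by
    intro f hf hfZ
    rcases h f hf hfZ with h' | h'
    · exact (hself (hS.theta_mem (hEA hf) (hne1 f hfZ))).trans h'
    · refine (Subgroup.commutator_eq_bot_iff_le_centralizer.2 (h'.trans ?_)).le.trans bot_le
      exact fun g hg y hy => (zpowers_comm (mem_centralizer_singleton.1 hg) hy).symm
  -- the commutators lie in `M`
  have hcomm : ∀ e ∈ A, e ∉ Z → ⁅θ e, Z⁆ ≤ M := by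
    intro e he heZ
    have hth := hS.theta_mem he (hne1 e heZ)
    by_cases heE : e ∈ E
    · exact hside e heE heZ
    refine SFTLines.commutator_le_of_lines hEel hE.ge (hEA.trans (hS.le_normalizer hth)) hth.2.1
      hth.1 hz fun f hf hfZ => ?_
    exact (Subgroup.commutator_mono (hS.balance he (hne1 e heZ) (hEA hf) (hne1 f hfZ)) le_rfl).trans
      (hside f hf hfZ)
  set K := ⁅M, Z⁆ with hK
  have hfix : ∀ e ∈ A, e ∉ Z → θ z ⊓ θ e ≤ Subgroup.normalizer (K : Set G) := by
    intro e he heZ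
    refine le_normalizer_of_forall fun g hg k hk => ?_
    set E2 := Z ⊔ Subgroup.zpowers e with hE2
    have hE2A : E2 ≤ A := sup_le hZA (Subgroup.zpowers_le.2 he)
    have hle : K ≤ K.comap (MulAut.conj g).toMonoidHom := by
      refine SFTLines.commutator_le_of_lines (elementaryAbelian_of_le hM.hA hE2A)
        (sq_le_card_sup hM.hA hzA hz1 he heZ) (hE2A.trans (hS.le_normalizer hMax.1)) hMax.1.2.1
        hMax.1.1 (Subgroup.mem_sup_left (Subgroup.mem_zpowers z)) fun f hf hfZ => ?_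
      have hfA := hE2A hf
      have hth := hS.theta_mem hfA (hne1 f hfZ)
      have hgz := mem_centralizer_singleton.1 (hS.theta_le hzA hz1 hg.1)
      have hge := mem_centralizer_singleton.1 (hS.theta_le he (hne1 e heZ) hg.2)
      have hgf : g * f = f * g := by
        have : E2 ≤ Subgroup.centralizer ({g} : Set G) :=
          sup_le (Subgroup.zpowers_le.2 (mem_centralizer_singleton.2 hgz.symm))
            (Subgroup.zpowers_le.2 (mem_centralizer_singleton.2 hge.symm))
        exact (mem_centralizer_singleton.1 (this hf)).symm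
      have hgθ : g ∈ θ f :=
        hS.balance hzA hz1 hfA (hne1 f hfZ) ⟨hg.1, mem_centralizer_singleton.2 hgf⟩
      have hsub : ⁅θ f, Z⁆ ≤ K := by
        rw [← CoprimeAction.commutator_commutator_eq (hZA.trans (hS.le_normalizer hth)) ?_
          (Or.inr hth.1)]
        · exact Subgroup.commutator_mono (hcomm f hfA hfZ) le_rfl
        · exact Nat.Coprime.coprime_dvd_left (Subgroup.card_dvd_of_le hZA)
            (SignalizerTransitivity.coprime_card_member hM.hA hth)
      refine (Subgroup.commutator_mono (hMax.1.2.2.2 f hfA (hne1 f hfZ)) le_rfl).trans ?_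
      rw [Subgroup.commutator_le]
      intro x hx w hw
      refine Subgroup.mem_comap.2 (hsub ?_)
      have hgw : g * w * g⁻¹ = w := by
        obtain ⟨i, rfl⟩ := hw
        change g * z ^ i * g⁻¹ = z ^ i
        rw [((show Commute g z from hgz).zpow_right i).eq, mul_inv_cancel_right]
      have := Subgroup.commutator_mem_commutator (H₁ := θ f) (H₂ := Z)
        (mul_mem (mul_mem hgθ hx) (inv_mem hgθ)) hw
      simp only [MulEquiv.coe_toMonoidHom, MulAut.conj_apply]
      convert this using 1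
      conv_rhs => rw [← hgw]
      simp [commutatorElement_def, mul_assoc]
    exact hle hk
  -- a line avoiding `z`
  obtain ⟨e₁, he₁, he₁Z⟩ : ∃ e ∈ A, e ∉ Z := by
    by_contra h'
    push Not at h'
    have := Subgroup.card_le_of_le (K := Z) (H := E) fun x hx => h' x (hEA hx)
    rw [hE, hZ, Nat.card_zpowers, orderOf_eq_prime (hM.hA.2 z hzA) hz1] at this
    omega
  obtain ⟨e₂, he₂, he₂Z⟩ : ∃ e ∈ A, e ∉ Z ⊔ Subgroup.zpowers e₁ := by
    by_contra h'
    push Not at h'
    have h1 := Subgroup.card_le_of_le (K := Z ⊔ Subgroup.zpowers e₁) (H := A) h'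
    have h2 : Nat.card ↥(Z ⊔ Subgroup.zpowers e₁) ≤ p * p := by
      refine le_trans (Nat.le_of_dvd (mul_pos Nat.card_pos Nat.card_pos) (card_sup_dvd_mul
        ((Subgroup.zpowers_le.2 he₁).trans (SFTLines.le_normalizer_zpowers hM.hA hzA)))) ?_
      rw [hZ, Nat.card_zpowers, Nat.card_zpowers, orderOf_eq_prime (hM.hA.2 z hzA) hz1,
        orderOf_eq_prime (hM.hA.2 e₁ he₁) (hne1 e₁ he₁Z)]
    rw [hM.hcard, pow_succ, pow_two] at h1
    have := Nat.mul_le_mul_left (p * p) hM.prime.two_le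
    have := Nat.mul_pos hM.prime.pos hM.prime.pos
    omega
  set E' := Subgroup.zpowers e₁ ⊔ Subgroup.zpowers e₂ with hE'
  have hE'A : E' ≤ A := sup_le (Subgroup.zpowers_le.2 he₁) (Subgroup.zpowers_le.2 he₂)
  have he₂e₁ : e₂ ∉ Subgroup.zpowers e₁ := fun h' => he₂Z (Subgroup.mem_sup_right h')
  have hzE' : z ∉ E' := by
    intro hzE'
    have hle : Z ⊔ Subgroup.zpowers e₁ ≤ E' := sup_le (Subgroup.zpowers_le.2 hzE') le_sup_left
    refine he₂Z ?_
    rw [Subgroup.eq_of_le_of_card_ge hle ?_]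
    · exact Subgroup.mem_sup_right (Subgroup.mem_zpowers e₂)
    refine le_trans ?_ (sq_le_card_sup hM.hA hzA hz1 he₁ he₁Z)
    refine le_trans (Nat.le_of_dvd (mul_pos Nat.card_pos Nat.card_pos) (card_sup_dvd_mul
      ((Subgroup.zpowers_le.2 he₂).trans (SFTLines.le_normalizer_zpowers hM.hA he₁)))) ?_
    rw [Nat.card_zpowers, Nat.card_zpowers, orderOf_eq_prime (hM.hA.2 e₁ he₁) (hne1 e₁ he₁Z),
      orderOf_eq_prime (hM.hA.2 e₂ he₂) fun h' => he₂e₁ (h' ▸ one_mem _), pow_two]
  have hθzN : θ z ≤ Subgroup.normalizer (K : Set G) :=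
    hS.theta_le_of hzA hz1 hE'A (sq_le_card_sup hM.hA he₁ (hne1 e₁ he₁Z) he₂ he₂e₁)
      fun e he he1 => hfix e (hE'A he) fun heZ => hzE' (Subgroup.zpowers_le.2 he
        (mem_zpowers_of_zpow_ne_one (hM.hA.2 z hzA) heZ he1))
  have hθzM : θ z ≤ M := by
    by_cases hK1 : K = ⊥
    · rw [hK, Subgroup.commutator_eq_bot_iff_le_centralizer] at hK1
      have hle : M ≤ θ z := fun x hx => hMax.1.2.2.2 z hzA hz1 ⟨hx,
        mem_centralizer_singleton.2 ((hK1 hx) z (Subgroup.mem_zpowers z)).symm⟩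
      exact (hMax.2.2 _ (hS.theta_mem hzA hz1) hle).le
    · exact hM.le_max hMax (hself hMax.1) hK1 (Subgroup.normalizer_commutator_ge_left M Z)
        (le_normalizer_commutator (hS.le_normalizer hMax.1) (SFTLines.le_normalizer_zpowers hM.hA hzA))
        (hS.theta_mem hzA hz1) hθzN
  exact hθzM

omit hp2 in
/-- A member outside a subgroup has fixed points outside it for some hyperplane. -/
theorem exists_line {X S : Subgroup G} (hX : X ∈ Cfsg.signalizerFamily p A θ) (h : ¬ X ≤ S) :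
    ∃ D, D ≤ A ∧ Nat.card D = p ^ 2 ∧ ¬ X ⊓ Subgroup.centralizer (D : Set G) ≤ S := by
  haveI := Fact.mk hM.prime
  by_contra hc
  push Not at hc
  refine h (le_of_hyperplane_centralizers_le hM.hA
    (hM.hcard ▸ Nat.pow_le_pow_right hM.prime.pos (by norm_num)) (hM.toSetup.le_normalizer hX)
    hX.2.1 fun D hDA hD => hc D hDA ?_)
  have h1 : Nat.card D * p = p ^ 2 * p := by
    rw [← hD, ← Subgroup.relIndex_bot_left, Subgroup.relIndex_mul_relIndex _ _ _ bot_le hDA,
      Subgroup.relIndex_bot_left, hM.hcard, hD, pow_succ]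
  exact Nat.eq_of_mul_eq_mul_right hM.prime.pos h1

omit hp2 in
/-- A line outside a cyclic subgroup. -/
theorem exists_not_mem_zpowers {E : Subgroup G} (hE : Nat.card E = p ^ 2) {z : G} (hz : z ∈ A) :
    ∃ c ∈ E, c ∉ Subgroup.zpowers z := by
  by_contra h
  push Not at h
  have h1 := Subgroup.card_le_of_le (H := E) (K := Subgroup.zpowers z) h
  rw [hE, Nat.card_zpowers] at h1
  have h2 := orderOf_le_of_pow_eq_one hM.prime.pos (hM.hA.2 z hz)
  have h3 : p < p ^ 2 := by simpa using Nat.pow_lt_pow_right hM.prime.one_lt one_lt_two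
  omega

omit hp2 in
theorem only_two {q s : ℕ} (hσ : ∀ a ∈ A, a ≠ 1 → PiNat {q, s} (Nat.card (θ a))) {H : Subgroup G}
    (hH : H ∈ Cfsg.signalizerFamily p A θ) {t : ℕ} (ht : t.Prime) (htq : t ≠ q) (hts : t ≠ s) :
    Cfsg.pCoreOf t H = ⊥ := by
  haveI := Fact.mk ht
  have hS := hM.toSetup
  obtain ⟨k, hk⟩ := IsPGroup.iff_card.1 (oq_isPGroup t H)
  cases k with
  | zero => exact Subgroup.card_eq_one.1 (by simpa using hk)
  | succ k =>
    have := hS.piNat_member (hS.oq_mem hH t) (fun a ha ha1 => (hσ a ha ha1).of_dvd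
      (Subgroup.card_dvd_of_le ((hS.oq_mem hH t).2.2.2 a ha ha1))) t ht
      (hk ▸ dvd_pow_self t k.succ_ne_zero)
    rcases this with h | h
    · exact absurd h htq
    · exact absurd h hts

omit hp2 in
theorem incomplete_line {M E : Subgroup G} (hMax : IsMax p A θ M) (hEA : E ≤ A)
    (hE : Nat.card E = p ^ 2) (h : ∀ e ∈ E, e ≠ 1 → θ e ≤ M) : False :=
  hM.incomplete ⟨M, hMax.1, fun _ ha ha1 => hM.toSetup.theta_le_of ha ha1 hEA hE.ge
    fun e he he1 => inf_le_right.trans (h e he he1)⟩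


end Cfsg.Agent.SFTPureBasic
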