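import Mathlib
import Cfsg.Agent.Lib.SFTPureBasic

/-!
# Two primes and two lines: the shared lemmas

A maximal member with two components against the largest invariant member for these primes, and
the uniqueness of a maximal member seen from two elements of `A`.
-/

set_option autoImplicit false
set_option linter.unusedSectionVars false

namespace Cfsg.Agent.SFTPurePair

open Cfsg.Agent.SignalizerCoprime Cfsg.Agent.HallCore Cfsg.Agent.SFTGroup Cfsg.Agent.SFTSigma
  Cfsg.Agent.SFTCtx Cfsg.Agent.SFTStatic Cfsg.Agent.SFTPair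
open Cfsg.Agent.SignalizerTransitivity (mem_family_of_le coprime_card_member)
open Cfsg.Agent.SFTOdd56 (zpowers_comm mem_normalizer_zpowers_of_comm)
open scoped commutatorElement

universe u

variable {G : Type u} [Group G] [Finite G] {p : ℕ} {A : Subgroup G} {θ : G → Subgroup G}
  (hM : Minimal p A θ)
include hM

/-- A component of a maximal member inside a member `M` lies in that component of `M` if another
component is inside and the components of `M` are in the maximal member. -/
theorem comp_le_of_member {M N : Subgroup G} (hMm : M ∈ Cfsg.signalizerFamily p A θ)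
    (hNax : IsMax p A θ N) (hMN : ∀ t : ℕ, t.Prime → Cfsg.pCoreOf t M ≤ N) {q s : ℕ}
    [Fact q.Prime] [Fact s.Prime] (hqs : q ≠ s) (hqN : Cfsg.pCoreOf q N ≤ M)
    (hsN' : Cfsg.pCoreOf s N ≤ M) (hsN : Cfsg.pCoreOf s N ≠ ⊥) :
    Cfsg.pCoreOf q N ≤ Cfsg.pCoreOf q M := by
  have hS := hM.toSetup
  set P := Cfsg.pCoreOf q M with hP
  set V := Cfsg.pCoreOf s N with hV
  set Sq : Set G := {y | y ∈ M ∧ (∃ k, orderOf y = q ^ k) ∧
    ∀ t : ℕ, t.Prime → t ≠ q → ∀ r ∈ Cfsg.pCoreOf t M, r * y = y * r} with hSq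
  set H := Subgroup.closure Sq with hH
  have hHM : H ≤ M := (Subgroup.closure_le _).2 fun y hy => hy.1
  have hnorm : Subgroup.normalizer (M : Set G) ≤ Subgroup.normalizer (H : Set G) := by
    refine le_normalizer_of_forall fun g hg x hx => ?_
    have h : H ≤ H.comap (MulAut.conj g).toMonoidHom := by
      refine (Subgroup.closure_le _).2 fun y hy => Subgroup.subset_closure ⟨?_, ?_, ?_⟩
      · exact mem_normalizer_conj hg hy.1
      · obtain ⟨k, hk⟩ := hy.2.1
        exact ⟨k, by rw [← hk]; exact MulEquiv.orderOf_eq (MulAut.conj g) y⟩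
      · intro t ht htq r hr
        have h1 : g⁻¹ * r * g ∈ Cfsg.pCoreOf t M := by
          simpa using mem_normalizer_conj (normalizer_le_normalizer_oq t M (inv_mem hg)) hr
        have h2 := hy.2.2 t ht htq _ h1
        calc r * (g * y * g⁻¹) = g * ((g⁻¹ * r * g) * y) * g⁻¹ := by group
          _ = g * (y * (g⁻¹ * r * g)) * g⁻¹ := by rw [h2]
          _ = g * y * g⁻¹ * r := by group
    exact h hx
  have hVM : V ≤ M := hsN'
  have hVP : ∀ v ∈ V, ∀ a ∈ P, v * a = a * v := fun v hv a ha =>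
    commute_of_normalize (inf_eq_bot_of_primes (oq_isPGroup s N) (oq_isPGroup q M) hqs.symm) hv ha
      (le_normalizer_oq q M (hVM hv)) (le_normalizer_oq s N (hMN q Fact.out ha))
  have hcent : ∀ y ∈ Sq, ∀ v ∈ V, v * y = y * v := by
    rintro y ⟨hyM, ⟨k, hyk⟩, hyR⟩ v hv
    have hvM := hVM hv
    set w := y⁻¹ * (v * y * v⁻¹) with hw
    have hwM : w ∈ M := mul_mem (inv_mem hyM) (mul_mem (mul_mem hvM hyM) (inv_mem hvM))
    have hwF : (⟨w, hwM⟩ : ↥M) ∈ Cfsg.fittingSubgroup ↥M := by
      refine mem_fitting_of_commute hMm.1 hwM fun t ht r hr => ?_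
      by_cases htq : t = q
      · subst htq
        have h1 : y * r * y⁻¹ ∈ P := mem_normalizer_conj (le_normalizer_oq t M hyM) hr
        have h2 : v * (y * r * y⁻¹) = y * r * y⁻¹ * v := hVP v hv _ h1
        have h3 : v⁻¹ * r = r * v⁻¹ := (hVP v⁻¹ (inv_mem hv) r hr)
        calc r * w = y⁻¹ * ((y * r * y⁻¹) * v) * y * v⁻¹ := by rw [hw]; group
          _ = y⁻¹ * v * y * (r * v⁻¹) := by rw [← h2]; group
          _ = w * r := by rw [← h3, hw]; group
      · have h1 : v⁻¹ * r * v ∈ Cfsg.pCoreOf t M := by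
          simpa using mem_normalizer_conj (le_normalizer_oq t M (inv_mem hvM)) hr
        have h2 := hyR t ht htq _ h1
        have h3 : r * y⁻¹ = y⁻¹ * r :=
          ((show Commute r y from hyR t ht htq r hr).inv_right).eq
        calc r * w = (r * y⁻¹) * (v * y * v⁻¹) := by rw [hw]; group
          _ = y⁻¹ * v * ((v⁻¹ * r * v) * y) * v⁻¹ := by rw [h3]; group
          _ = w * r := by rw [h2, hw]; group
    obtain ⟨a, u, ha, hu, hau, hak, huq⟩ := exists_split (Fact.out : q.Prime) w
    have haM : a ∈ M := Subgroup.zpowers_le.2 hwM ha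
    have huM : u ∈ M := Subgroup.zpowers_le.2 hwM hu
    have haF : (⟨a, haM⟩ : ↥M) ∈ Cfsg.fittingSubgroup ↥M := by
      obtain ⟨i, rfl⟩ := ha; exact zpow_mem hwF i
    have huF : (⟨u, huM⟩ : ↥M) ∈ Cfsg.fittingSubgroup ↥M := by
      obtain ⟨i, rfl⟩ := hu; exact zpow_mem hwF i
    have haP : a ∈ P := mem_oq_of_mem_fitting q haF (by simpa [Subgroup.orderOf_mk] using hak)
    have huy : u * y = y * u := commute_of_fitting huM huF huq hyR
    have hua : Commute u a := by
      obtain ⟨i, rfl⟩ := ha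
      obtain ⟨j, rfl⟩ := hu
      exact (Commute.refl w).zpow_zpow j i
    -- `y * a` is a `q`-element
    have hq' : IsPGroup q ↥(Subgroup.zpowers y ⊔ P) :=
      IsPGroup.to_sup_of_normal_right'
        (IsPGroup.of_card (n := k) (by rw [Nat.card_zpowers, hyk])) (oq_isPGroup q M)
        (Subgroup.zpowers_le.2 (le_normalizer_oq q M hyM))
    obtain ⟨i, hi⟩ := hq' ⟨y * a, mul_mem (Subgroup.mem_sup_left (Subgroup.mem_zpowers y))
      (Subgroup.mem_sup_right haP)⟩
    have hi' : (y * a) ^ q ^ i = 1 := by simpa using congrArg Subtype.val hi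
    have hvy : v * y * v⁻¹ = y * a * u := by
      rw [mul_assoc y a u, ← hau, hw]; group
    have hu1 : u = 1 := by
      have h1 : (v * y * v⁻¹) ^ q ^ (i + k) = 1 := by
        rw [conj_pow, pow_add, pow_mul', ← hyk, pow_orderOf_eq_one, one_pow]; group
      rw [hvy, ((show Commute y u from huy.symm).mul_left hua.symm).mul_pow, pow_add, pow_mul,
        pow_mul, hi', one_pow, one_mul, ← pow_mul, ← pow_add] at h1
      obtain ⟨j, -, hj⟩ := (Nat.dvd_prime_pow Fact.out).1 (orderOf_dvd_of_pow_eq_one h1)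
      cases j with
      | zero => exact orderOf_eq_one_iff.1 (by simpa using hj)
      | succ j => exact absurd (hj ▸ dvd_pow_self q j.succ_ne_zero) huq
    rw [hu1, mul_one] at hvy
    have hiter : ∀ j : ℕ, v ^ j * y * (v ^ j)⁻¹ = y * a ^ j := by
      intro j
      induction j with
      | zero => simp
      | succ j ih =>
        have h4 : v * a * v⁻¹ = a := by rw [hVP v hv a haP, mul_inv_cancel_right]
        calc v ^ (j + 1) * y * (v ^ (j + 1))⁻¹ = v * (v ^ j * y * (v ^ j)⁻¹) * v⁻¹ := by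
              rw [pow_succ']; group
          _ = (v * y * v⁻¹) * (v * a * v⁻¹) ^ j := by rw [ih, conj_pow]; group
          _ = y * a ^ (j + 1) := by rw [hvy, h4, pow_succ']; group
    have h0 := hiter (orderOf v)
    rw [pow_orderOf_eq_one, one_mul, inv_one, mul_one] at h0
    have ha1 : a = 1 := by
      obtain ⟨j, hj⟩ := hak
      obtain ⟨l, hl⟩ := IsPGroup.iff_orderOf.1 (oq_isPGroup s N) ⟨v, hv⟩
      rw [Subgroup.orderOf_mk] at hl
      refine orderOf_eq_one_iff.1 (Nat.eq_one_of_dvd_coprimes (a := q ^ j) (b := s ^ l) ?_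
        hj.dvd (hl ▸ orderOf_dvd_of_pow_eq_one (mul_eq_left.1 h0.symm)))
      exact Nat.Coprime.pow j l ((Nat.coprime_primes Fact.out Fact.out).2 hqs)
    rw [ha1, mul_one] at hvy
    exact mul_inv_eq_iff_eq_mul.1 hvy
  have hHN : H ≤ N := by
    refine hM.le_max_oq hNax hsN
      (mem_family_of_le hMm hHM ((hS.le_normalizer hMm).trans hnorm))
      ((Subgroup.closure_le _).2 fun y hy => ?_)
    exact SignalizerCoprime.centralizer_le_normalizer V
      (show y ∈ Subgroup.centralizer (V : Set G) from fun v hv => hcent y hy v hv)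
  have hP'H : Cfsg.pCoreOf q N ≤ H := fun x hx => Subgroup.subset_closure ⟨hqN hx, by
      obtain ⟨k, hk⟩ := IsPGroup.iff_orderOf.1 (oq_isPGroup q N) ⟨x, hx⟩
      exact ⟨k, by simpa [Subgroup.orderOf_mk] using hk⟩, fun t ht htq r hr => by
      haveI := Fact.mk ht
      exact commute_of_normalize (inf_eq_bot_of_primes (oq_isPGroup t M) (oq_isPGroup q N) htq) hr
        hx (le_normalizer_oq q N (hMN t ht hr)) (le_normalizer_oq t M (hqN hx))⟩
  exact le_oq_of_normal_chain hP'H hHM (Subgroup.le_normalizer.trans hnorm)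
    (hHN.trans (le_normalizer_oq q N)) (oq_isPGroup q N)

variable {q s : ℕ} [Fact q.Prime] [Fact s.Prime]

/-- The `q`-component of the largest invariant `{q, s}`-member is in a maximal member with both
components. -/
theorem pair_le_max (hqs : q ≠ s) {H : Subgroup G} (hH : IsW p A θ {q, s} H) {L : Subgroup G}
    (hL : IsMax p A θ L) (hq : Cfsg.pCoreOf q L ≠ ⊥) (hs : Cfsg.pCoreOf s L ≠ ⊥) :
    Cfsg.pCoreOf q H ≤ L := by
  have hS := hM.toSetup
  have hsH : Cfsg.pCoreOf s L ≤ H := comp_le_pi hM hH hL (Or.inr rfl)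
  refine hM.le_max_oq hL hs (hS.oq_mem hH.1 q) (le_trans
    (b := Subgroup.centralizer (Cfsg.pCoreOf s L : Set G)) (fun u hu x hx => ?_)
    (SignalizerCoprime.centralizer_le_normalizer _))
  exact (centralizes_member hM hL hqs.symm hq (hS.oq_mem hH.1 q) (oq_isPGroup q H)
    (hH.2.1.trans (normalizer_le_normalizer_oq q H)) hx (le_normalizer_oq q H (hsH hx)) u hu).symm

/-- The `q`-component of a maximal member with both components is in that of the largest invariant
`{q, s}`-member. -/
theorem comp_le_pair (hqs : q ≠ s) {H : Subgroup G} (hH : IsW p A θ {q, s} H) {L : Subgroup G}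
    (hL : IsMax p A θ L) (hq : Cfsg.pCoreOf q L ≠ ⊥) (hs : Cfsg.pCoreOf s L ≠ ⊥) :
    Cfsg.pCoreOf q L ≤ Cfsg.pCoreOf q H := by
  have hH' : IsW p A θ {s, q} H := Set.pair_comm q s ▸ hH
  refine comp_le_of_member hM hH.1 hL (fun t ht => ?_) hqs (comp_le_pi hM hH hL (Or.inl rfl))
    (comp_le_pi hM hH hL (Or.inr rfl)) hs
  by_cases htq : t = q
  · exact htq ▸ pair_le_max hM hqs hH hL hq hs
  by_cases hts : t = s
  · exact hts ▸ pair_le_max hM hqs.symm hH' hL hs hq
  haveI := Fact.mk ht
  obtain ⟨k, hk⟩ := IsPGroup.iff_card.1 (oq_isPGroup t H)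
  cases k with
  | zero => exact (Subgroup.card_eq_one.1 (by simpa using hk)).le.trans bot_le
  | succ k =>
    rcases hH.2.2.1 t ht ((hk ▸ dvd_pow_self t k.succ_ne_zero).trans
      (Subgroup.card_dvd_of_le (oq_le t H))) with h | h
    · exact absurd h htq
    · exact absurd h hts

omit hM in
/-- The commutators with an element centralising `V` of a group normalising `V` centralise `V`. -/
theorem comm_zpowers_le_centralizer {g : G} {X V : Subgroup G}
    (hXV : X ≤ Subgroup.normalizer (V : Set G))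
    (hgV : V ≤ Subgroup.centralizer ({g} : Set G)) :
    ⁅X, Subgroup.zpowers g⁆ ≤ Subgroup.centralizer (V : Set G) := by
  rw [Subgroup.commutator_le]
  intro x hx z hz v hv
  have hw : x⁻¹ * v * x ∈ V := by
    simpa using mem_normalizer_conj (hXV (inv_mem hx)) hv
  have h1 : ∀ w ∈ V, w * z = z * w := fun w hw' =>
    zpowers_comm (mem_centralizer_singleton.1 (hgV hw')) hz
  have h2 : v * z⁻¹ = z⁻¹ * v := (show Commute v z from h1 v hv).inv_right.eq
  have h3 : v * x = x * (x⁻¹ * v * x) := by group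
  calc v * ⁅x, z⁆ = v * x * z * x⁻¹ * z⁻¹ := by simp only [commutatorElement_def]; group
    _ = x * ((x⁻¹ * v * x) * z) * x⁻¹ * z⁻¹ := by rw [h3]; group
    _ = x * z * x⁻¹ * (v * z⁻¹) := by rw [h1 _ hw]; group
    _ = ⁅x, z⁆ * v := by rw [h2]; simp only [commutatorElement_def]; group

/-- An element of `A` centralising the odd components of a maximal member centralises its
invariant subgroups of odd prime power order that centralise the even component. -/
theorem centralizes_of_odd {g : G} (hg : g ∈ A) {L : Subgroup G} (hL : IsMax p A θ L)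
    (hodd : ∀ t : ℕ, t.Prime → t ≠ 2 → Cfsg.pCoreOf t L ≤ Subgroup.centralizer ({g} : Set G))
    {q : ℕ} [Fact q.Prime] (hq2 : q ≠ 2) {X : Subgroup G}
    (hX : X ∈ Cfsg.signalizerFamily p A θ) (hXq : IsPGroup q X) (hXL : X ≤ L)
    (hX2 : X ≤ Subgroup.centralizer (Cfsg.pCoreOf 2 L : Set G)) :
    X ≤ Subgroup.centralizer ({g} : Set G) := by
  haveI := Fact.mk hM.prime
  have hS := hM.toSetup
  set Z := Subgroup.zpowers g with hZ
  have hZA : Z ≤ A := Subgroup.zpowers_le.2 hg
  have hXA : Z ≤ Subgroup.normalizer (X : Set G) := hZA.trans (hS.le_normalizer hX)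
  have hcX : ⁅X, Z⁆ ≤ X := CoprimeAction.commutator_le_self_of_le_normalizer hXA
  have hc : ∀ t : ℕ, t.Prime → ⁅X, Z⁆ ≤ Subgroup.centralizer (Cfsg.pCoreOf t L : Set G) := by
    intro t ht
    by_cases ht2 : t = 2
    · subst ht2; exact hcX.trans hX2
    · exact comm_zpowers_le_centralizer (hXL.trans (le_normalizer_oq t L)) (hodd t ht ht2)
  have hcg : ⁅X, Z⁆ ≤ Subgroup.centralizer ({g} : Set G) :=
    (le_oq_of_commute hL.1.1 (hcX.trans hXL) (hXq.to_le hcX) hc).trans (hodd q Fact.out hq2)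
  have h0 : ⁅X, Z⁆ = ⊥ := by
    rw [← CoprimeAction.commutator_commutator_eq hXA (Nat.Coprime.coprime_dvd_left
      (Subgroup.card_dvd_of_le hZA) (coprime_card_member hM.hA hX)) (Or.inr hX.1),
      Subgroup.commutator_eq_bot_iff_le_centralizer]
    exact fun x hx y hy => (zpowers_comm (mem_centralizer_singleton.1 (hcg hx)) hy).symm
  rw [Subgroup.commutator_eq_bot_iff_le_centralizer] at h0
  exact h0.trans (Subgroup.centralizer_le (Set.singleton_subset_iff.2 (Subgroup.mem_zpowers g)))

/-- Maximal members seen from two elements centralising each other's component, with components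
meeting nontrivially, are equal. -/
theorem key {f g : G} (hf : f ∈ A) (hf1 : f ≠ 1) (hg : g ∈ A) (hg1 : g ≠ 1) {M N : Subgroup G}
    (hMm : IsMax p A θ M) (hNm : IsMax p A θ N) (hfM : θ f ≤ M) (hgN : θ g ≤ N) {q : ℕ}
    [Fact q.Prime] (hfN : Cfsg.pCoreOf q N ≤ Subgroup.centralizer ({f} : Set G))
    (hgM : Cfsg.pCoreOf q M ≤ Subgroup.centralizer ({g} : Set G))
    (hI : Cfsg.pCoreOf q M ⊓ Cfsg.pCoreOf q N ≠ ⊥) : M = N := by
  haveI := Fact.mk hM.prime
  have hS := hM.toSetup
  set I := Cfsg.pCoreOf q M ⊓ Cfsg.pCoreOf q N with hIdef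
  have step : ∀ (g : G), g ∈ A → g ≠ 1 → ∀ M N : Subgroup G, IsMax p A θ M → θ g ≤ N →
      Cfsg.pCoreOf q M ≤ Subgroup.centralizer ({g} : Set G) →
      M ≤ Subgroup.normalizer ((Cfsg.pCoreOf q M ⊓ Cfsg.pCoreOf q N : Subgroup G) : Set G) := by
    intro g hg hg1 M N hMm hgN hgM
    set Z := Subgroup.zpowers g with hZ
    have hZA : Z ≤ A := Subgroup.zpowers_le.2 hg
    conv_lhs => rw [← CoprimeAction.commutator_sup_centralizer_eq
      (hZA.trans (hS.le_normalizer hMm.1)) (Nat.Coprime.coprime_dvd_left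
      (Subgroup.card_dvd_of_le hZA) (coprime_card_member hM.hA hMm.1)) (Or.inr hMm.1.1)]
    refine sup_le ((comm_zpowers_le_centralizer (le_normalizer_oq q M) hgM).trans
      ((Subgroup.centralizer_le (SetLike.coe_subset_coe.2 inf_le_left)).trans
        (SignalizerCoprime.centralizer_le_normalizer
          (Cfsg.pCoreOf q M ⊓ Cfsg.pCoreOf q N)))) ?_
    refine le_normalizer_inf (inf_le_left.trans (le_normalizer_oq q M))
      (le_trans ?_ ((hgN).trans (le_normalizer_oq q N)))
    exact (inf_le_inf_left M (Subgroup.centralizer_le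
      (Set.singleton_subset_iff.2 (Subgroup.mem_zpowers g)))).trans (hMm.1.2.2.2 g hg hg1)
  have h1 : M ≤ Subgroup.normalizer (I : Set G) := step g hg hg1 M N hMm hgN hgM
  have h2 : N ≤ Subgroup.normalizer (I : Set G) := by
    rw [hIdef, inf_comm]
    exact step f hf hf1 N M hNm hfM hfN
  have hIm : I ∈ Cfsg.signalizerFamily p A θ :=
    hS.member_inf (hS.oq_mem hMm.1 q) (hS.le_normalizer (hS.oq_mem hNm.1 q))
  obtain ⟨L, hL, hle⟩ := SFTPure.exists_norm_max hM hIm hI (hMm.2.1.trans h1)
  rw [← hMm.2.2 L hL.1 (hle M hMm.1 h1), ← hNm.2.2 L hL.1 (hle N hNm.1 h2)]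

end Cfsg.Agent.SFTPurePair
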