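import Mathlib
import Cfsg.Agent.Lib.SFTPureBasic
import Cfsg.Agent.Lib.SFTPurePair

/-!
# No moved odd component: lines through a central piece of a `2`-component pair

`C` is the `r`-component of the largest invariant `{2, r}`-member.  If `X` is an invariant subgroup
of `C` centralising the largest `r`-member and fixed by the line `D`, the points of `D` whose
maximal members have a `2`-component share one maximal member and centralise `C`.
-/

set_option autoImplicit false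
set_option linter.unusedSectionVars false

namespace Cfsg.Agent.SFTPureShared

open Cfsg.Agent.SignalizerCoprime Cfsg.Agent.HallCore Cfsg.Agent.SFTGroup Cfsg.Agent.SFTSigma
  Cfsg.Agent.SFTCtx Cfsg.Agent.SFTStatic
open Cfsg.Agent.SignalizerTransitivity (mem_family_of_le)
open scoped commutatorElement

universe u

variable {G : Type u} [Group G] [Finite G] {p : ℕ} {A : Subgroup G} {θ : G → Subgroup G}

/-- An element all of whose maximal members have their odd components centralised. -/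
def Bad (p : ℕ) (A : Subgroup G) (θ : G → Subgroup G) : Prop :=
  ∀ a ∈ A, a ≠ 1 → ¬ IsMax p A θ (θ a) → ∀ L, IsMax p A θ L → θ a ≤ L →
    ∀ t : ℕ, t.Prime → t ≠ 2 → Cfsg.pCoreOf t L ≤ Subgroup.centralizer {a}

variable (hM : Minimal p A θ)
include hM

/-- A maximal member above a nonstatic element has a `2`-component. -/
theorem two_comp (hno : Bad p A θ) {a : G} (ha : a ∈ A) (ha1 : a ≠ 1)
    (hns : ¬ IsMax p A θ (θ a)) {L : Subgroup G} (hL : IsMax p A θ L) (hle : θ a ≤ L) :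
    Cfsg.pCoreOf 2 L ≠ ⊥ := by
  intro h
  obtain ⟨t, ht, hmov⟩ := exists_moved hM hL ha ha1 hle hns
  by_cases ht2 : t = 2
  · exact hmov (by rw [ht2, h]; exact bot_le)
  · exact hmov (hno a ha ha1 hns L hL hle t ht ht2)

/-- Two invariant members of coprime prime power order normalising each other commute. -/
theorem commute_elts {q s : ℕ} [Fact q.Prime] [Fact s.Prime] (hqs : q ≠ s) {X Y : Subgroup G}
    (hX : IsPGroup q X) (hY : IsPGroup s Y) {S R : Subgroup G} (hS : S ≤ X) (hR : R ≤ Y)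
    (hSY : S ≤ Subgroup.normalizer (Y : Set G)) (hRX : R ≤ Subgroup.normalizer (X : Set G)) :
    S ≤ Subgroup.centralizer (R : Set G) := fun x hx y hy =>
  (commute_of_normalize (inf_eq_bot_of_primes hX hY hqs) (hS hx) (hR hy) (hSY hx) (hRX hy)).symm

/-- The points of the line whose members have a `2`-component share one maximal member. -/
theorem shared_line (hno : Bad p A θ) {r : ℕ} [Fact r.Prime] (hr2 : r ≠ 2) {H : Subgroup G}
    (hH : IsW p A θ {2, r} H) {W : Subgroup G} (hW : IsW p A θ {r} W) {X : Subgroup G}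
    (hX : X ∈ Cfsg.signalizerFamily p A θ) (hX1 : X ≠ ⊥) (hXC : X ≤ Cfsg.pCoreOf r H)
    (hXW : X ≤ Subgroup.centralizer (W : Set G)) {D : Subgroup G} (hDA : D ≤ A)
    (hXD : X ≤ Subgroup.centralizer (D : Set G))
    (hodd : ∀ L, IsMax p A θ L → Cfsg.pCoreOf 2 L ≠ ⊥ → X ≤ L → ∀ u : ℕ, u.Prime → u ≠ 2 →
      u ≠ r → X ≤ Subgroup.centralizer (Cfsg.pCoreOf u L : Set G)) :
    ∃ L0, IsMax p A θ L0 ∧ ∀ y ∈ D, y ≠ 1 →
      (IsMax p A θ (θ y) ∧ Cfsg.pCoreOf 2 (θ y) = ⊥) ∨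
      (θ y ≤ L0 ∧ Cfsg.pCoreOf r H ≤ Subgroup.centralizer {y}) := by
  haveI := Fact.mk hM.prime
  have hS := hM.toSetup
  set C := Cfsg.pCoreOf r H with hC
  have hCm : C ∈ Cfsg.signalizerFamily p A θ := hS.oq_mem hH.1 r
  have hCT : Cfsg.signalizerInf A θ ≤ Subgroup.normalizer (C : Set G) :=
    hH.2.1.trans (normalizer_le_normalizer_oq r H)
  have hXr : IsPGroup r X := (oq_isPGroup r H).to_le hXC
  have hr2' : (2 : ℕ) ≠ r := Ne.symm hr2
  -- one point
  have hpt : ∀ y ∈ D, y ≠ 1 → ¬ (IsMax p A θ (θ y) ∧ Cfsg.pCoreOf 2 (θ y) = ⊥) →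
      ∃ L, IsMax p A θ L ∧ θ y ≤ L ∧ X ≤ Cfsg.pCoreOf r L ∧ Cfsg.pCoreOf r L ≤ C ∧
        C ≤ Subgroup.centralizer {y} := by
    intro y hy hy1 hn2
    have hyA := hDA hy
    obtain ⟨L, hL, hle, hL2, hLst⟩ : ∃ L, IsMax p A θ L ∧ θ y ≤ L ∧ Cfsg.pCoreOf 2 L ≠ ⊥ ∧
        (IsMax p A θ (θ y) → L = θ y) := by
      by_cases hst : IsMax p A θ (θ y)
      · exact ⟨θ y, hst, le_rfl, fun h => hn2 ⟨hst, h⟩, fun _ => rfl⟩
      · obtain ⟨L, hL, hle⟩ := hS.exists_max_theta hyA hy1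
        exact ⟨L, hL, hle, two_comp hM hno hyA hy1 hst hL hle, fun h => absurd h hst⟩
    have hXθ : X ≤ θ y := fun x hx => hX.2.2.2 y hyA hy1
      ⟨hx, Subgroup.centralizer_le (Set.singleton_subset_iff.2 hy) (hXD hx)⟩
    have hXL : X ≤ L := hXθ.trans hle
    have hP2 : Cfsg.pCoreOf 2 L ≤ H := SFTPair.comp_le_pi hM hH hL (Or.inl rfl)
    have hX2 : X ≤ Subgroup.centralizer (Cfsg.pCoreOf 2 L : Set G) :=
      commute_elts hM hr2 (oq_isPGroup r H) (oq_isPGroup 2 L) hXC le_rfl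
        (hXL.trans (le_normalizer_oq 2 L)) (hP2.trans (le_normalizer_oq r H))
    have hrW : Cfsg.pCoreOf r L ≤ W := SFTPair.comp_le_pi hM hW hL rfl
    have hXO : X ≤ Cfsg.pCoreOf r L := le_oq_of_commute hL.1.1 hXL hXr fun t ht => by
      by_cases ht2 : t = 2
      · exact ht2 ▸ hX2
      by_cases htr : t = r
      · exact htr ▸ hXW.trans (Subgroup.centralizer_le hrW)
      · exact hodd L hL hL2 hXL t ht ht2 htr
    have hLr : Cfsg.pCoreOf r L ≠ ⊥ := fun h => hX1 (le_bot_iff.1 (h ▸ hXO))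
    have hH' : IsW p A θ {r, 2} H := by rw [Set.pair_comm]; exact hH
    have hLC : Cfsg.pCoreOf r L ≤ C := SFTPurePair.comp_le_pair hM hr2 hH' hL hLr hL2
    have hPC : Cfsg.pCoreOf 2 L ≤ Cfsg.pCoreOf 2 H :=
      SFTPurePair.comp_le_pair hM hr2' hH hL hL2 hLr
    have hCL : C ≤ L := SFTPurePair.pair_le_max hM hr2 hH' hL hLr hL2
    refine ⟨L, hL, hle, hXO, hLC, ?_⟩
    by_cases hst : IsMax p A θ (θ y)
    · exact (le_theta_of_comp hM hyA hy1 hst (v := r) (hLst hst ▸ hLr) hCm hCT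
        (oq_isPGroup r H)).trans (hS.theta_le hyA hy1)
    · refine SFTPurePair.centralizes_of_odd hM hyA hL (fun t ht ht2 =>
        hno y hyA hy1 hst L hL hle t ht ht2) hr2 hCm (oq_isPGroup r H) hCL ?_
      exact commute_elts hM hr2 (oq_isPGroup r H) (oq_isPGroup 2 H) le_rfl hPC
        ((oq_le r H).trans (le_normalizer_oq 2 H))
        ((hPC.trans (oq_le 2 H)).trans (le_normalizer_oq r H))
  by_cases hex : ∃ y ∈ D, y ≠ 1 ∧ ¬ (IsMax p A θ (θ y) ∧ Cfsg.pCoreOf 2 (θ y) = ⊥)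
  · obtain ⟨e, he, he1, hen⟩ := hex
    obtain ⟨L0, hL0, hle0, hX0, hC0, hce⟩ := hpt e he he1 hen
    refine ⟨L0, hL0, fun y hy hy1 => ?_⟩
    by_cases hn2 : IsMax p A θ (θ y) ∧ Cfsg.pCoreOf 2 (θ y) = ⊥
    · exact Or.inl hn2
    obtain ⟨L, hL, hle, hXL, hLC, hcy⟩ := hpt y hy hy1 hn2
    have := SFTPurePair.key hM (hDA hy) hy1 (hDA he) he1 hL hL0 hle hle0 (q := r)
      (hC0.trans hcy) (hLC.trans hce) fun h => hX1 (le_bot_iff.1 (h ▸ le_inf hXL hX0))
    exact Or.inr ⟨this ▸ hle, hcy⟩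
  · push Not at hex
    obtain ⟨a, ha, ha1⟩ := hS.exists_ne_one
    obtain ⟨L0, hL0, -⟩ := hS.exists_max_theta ha ha1
    exact ⟨L0, hL0, fun y hy hy1 => Or.inl (hex y hy hy1)⟩

end Cfsg.Agent.SFTPureShared
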