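import Mathlib
import Cfsg.Agent.Lib.SFTPureDatum
import Cfsg.Agent.Lib.SFTPureShared

/-!
# An element moving an odd component

All data share one maximal member `M`.  On a line fixed by a moved piece of the datum, the points
whose values leave `M` are static, or share one maximal member with a `2`-component.
-/

set_option autoImplicit false
set_option linter.unusedSectionVars false

namespace Cfsg.Agent.SFTPureGood

open Cfsg.Agent.SignalizerCoprime Cfsg.Agent.HallCore Cfsg.Agent.SFTGroup Cfsg.Agent.SFTSigma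
  Cfsg.Agent.SFTCtx Cfsg.Agent.SFTStatic Cfsg.Agent.SFTPair
open Cfsg.Agent.SignalizerTransitivity (mem_family_of_le)
open Cfsg.Agent.SFTPureShared (commute_elts)
open scoped commutatorElement

universe u

variable {G : Type u} [Group G] [Finite G] {p : ℕ} {A : Subgroup G} {θ : G → Subgroup G}

/-- An element that moves an odd component gives a contradiction. -/
theorem good_false (hp2 : p ≠ 2) (hB : SFTPure.HatLe.{u}) (hM : Minimal p A θ)
    (hbig : ∀ q s : ℕ, q.Prime → s.Prime → q ≠ s →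
      ∃ a ∈ A, a ≠ 1 ∧ ¬ PiNat {q, s} (Nat.card (θ a)))
    {q : ℕ} [Fact q.Prime] (hq2 : q ≠ 2) {a : G} (ha : a ∈ A) (ha1 : a ≠ 1) {Q M : Subgroup G}
    (hD : Datum p A θ q Q M) (hQN : θ a ≤ Subgroup.normalizer (Q : Set G))
    (hmov : ¬ Q ≤ Subgroup.centralizer ({a} : Set G)) : False := by
  classical
  haveI := Fact.mk hM.prime
  haveI : Fact (2 : ℕ).Prime := ⟨Nat.prime_two⟩
  have hS := hM.toSetup
  obtain ⟨D, hDA, hDc, hDmov⟩ := SFTPureBasic.exists_line hM hD.mem hmov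
  set Y := ⁅Q ⊓ Subgroup.centralizer (D : Set G), Subgroup.zpowers a⁆ with hY
  have hY1 : Y ≠ ⊥ := fun h => hDmov (by
    rw [hY, Subgroup.commutator_eq_bot_iff_le_centralizer] at h
    exact h.trans (Subgroup.centralizer_le
      (Set.singleton_subset_iff.2 (Subgroup.mem_zpowers a))))
  have hYL : ∀ d ∈ D, d ≠ 1 → ∀ L, IsMax p A θ L → θ d ≤ L → Y ≤ Cfsg.pCoreOf q L :=
    fun d hd hd1 L hL hle =>
    (Subgroup.commutator_mono (le_inf inf_le_left fun x hx =>
      hle (hD.mem.2.2.2 d (hDA hd) hd1 ⟨(Subgroup.mem_inf.1 hx).1, Subgroup.centralizer_le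
        (Set.singleton_subset_iff.2 hd) (Subgroup.mem_inf.1 hx).2⟩)) le_rfl).trans
      (SFTPureBasic.comm_le_oq hp2 hS hq2 hL.1 ha ha1 hD.pgroup hQN (hS.le_normalizer hD.mem ha))
  have hqne : ∀ d ∈ D, d ≠ 1 → ∀ L, IsMax p A θ L → θ d ≤ L → Cfsg.pCoreOf q L ≠ ⊥ :=
    fun d hd hd1 L hL hle h => hY1 (le_bot_iff.1 (h ▸ hYL d hd hd1 L hL hle))
  -- a point outside `M` that is not static centralises the odd components above it
  have hbad : ∀ y ∈ D, y ≠ 1 → ¬ θ y ≤ M → ¬ IsMax p A θ (θ y) → ∀ L, IsMax p A θ L → θ y ≤ L →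
      ∀ t : ℕ, t.Prime → t ≠ 2 → Cfsg.pCoreOf t L ≤ Subgroup.centralizer {y} := by
    intro y hy hy1 hyM hns L hL hle t ht ht2
    by_contra hne
    haveI := Fact.mk ht
    obtain ⟨Q', M', hD', hle', -, -⟩ :=
      SFTPureBasic.exists_datum hp2 hM (hDA hy) hy1 hL hle ht2 hne
    exact hyM (SFTPureDatum.datum_unique hp2 hB hM hbig hD hD' ▸ hle')
  have hM2 : ∀ y ∈ D, y ≠ 1 → ¬ θ y ≤ M → ¬ IsMax p A θ (θ y) → ∀ L, IsMax p A θ L → θ y ≤ L →
      Cfsg.pCoreOf 2 L ≠ ⊥ := by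
    intro y hy hy1 hyM hns L hL hle h
    obtain ⟨t, ht, hm⟩ := exists_moved hM hL (hDA hy) hy1 hle hns
    by_cases ht2 : t = 2
    · exact hm (by rw [ht2, h]; exact bot_le)
    · exact hm (hbad y hy hy1 hyM hns L hL hle t ht ht2)
  by_cases hex : ∀ y ∈ D, y ≠ 1 → θ y ≤ M ∨ IsMax p A θ (θ y)
  · by_cases hline : ∀ y ∈ D, y ≠ 1 → θ y ≤ M
    · exact SFTPureBasic.incomplete_line hM hD.isMax hDA hDc hline
    push Not at hline
    obtain ⟨y, hy, hy1, hyM⟩ := hline
    refine finish hM hD.isMax hDA hDc hy hy1 fun c hc hcy => ?_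
    have hc1 : c ≠ 1 := fun h => hcy (h ▸ one_mem _)
    rcases hex c hc hc1 with h | hsc
    · exact h
    have hsy := (hex y hy hy1).resolve_left hyM
    exact (static_inter hM (hDA hc) hc1 (hDA hy) hy1 hcy hsc hsy (q := q) fun h =>
      hY1 (le_bot_iff.1 (h ▸ le_inf (hYL c hc hc1 _ hsc le_rfl) (hYL y hy hy1 _ hsy le_rfl)))).elim
  push Not at hex
  obtain ⟨e, he, he1, heM, hens⟩ := hex
  obtain ⟨H, hH⟩ := hM.exists_W {2, q} (hbig 2 q Nat.prime_two Fact.out (Ne.symm hq2))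
  have hH' : IsW p A θ {q, 2} H := by rw [Set.pair_comm]; exact hH
  set C := Cfsg.pCoreOf q H with hC
  have hCm : C ∈ Cfsg.signalizerFamily p A θ := hS.oq_mem hH.1 q
  have hCT : Cfsg.signalizerInf A θ ≤ Subgroup.normalizer (C : Set G) :=
    hH.2.1.trans (normalizer_le_normalizer_oq q H)
  have hQH : Q ≤ C := hD.le_comp H hH.1
    (hH.2.2.2 Q hD.mem hD.T_norm (piNat_of_isPGroup hD.pgroup (Or.inr rfl)))
  have hCO : Cfsg.pCoreOf 2 H ≤ Subgroup.centralizer (C : Set G) :=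
    commute_elts hM (Ne.symm hq2) (oq_isPGroup 2 H) (oq_isPGroup q H) le_rfl le_rfl
      ((oq_le 2 H).trans (le_normalizer_oq q H)) ((oq_le q H).trans (le_normalizer_oq 2 H))
  have hOM : Cfsg.pCoreOf 2 H ≤ M := hD.norm_le _ (hS.oq_mem hH.1 2)
    ((hCO.trans (Subgroup.centralizer_le hQH)).trans
      (SignalizerCoprime.centralizer_le_normalizer Q))
  have hPM : Cfsg.pCoreOf q M ≤ Subgroup.centralizer (Cfsg.pCoreOf 2 H : Set G) :=
    commute_elts hM hq2 (oq_isPGroup q M) (oq_isPGroup 2 H) le_rfl le_rfl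
      ((comp_le_pi hM hH hD.isMax (Or.inr rfl)).trans (le_normalizer_oq 2 H))
      (hOM.trans (le_normalizer_oq q M))
  -- the points outside `M`
  have hpt : ∀ y ∈ D, y ≠ 1 → ¬ θ y ≤ M →
      C ≤ Subgroup.centralizer {y} ∧ (¬ IsMax p A θ (θ y) →
        Cfsg.pCoreOf q M ≤ Subgroup.centralizer {y} ∧
        ∀ L, IsMax p A θ L → θ y ≤ L → Cfsg.pCoreOf q L ≤ C) := by
    intro y hy hy1 hyM
    have hyA := hDA hy
    by_cases hsy : IsMax p A θ (θ y)
    · exact ⟨(le_theta_of_comp hM hyA hy1 hsy (hqne y hy hy1 _ hsy le_rfl) hCm hCT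
        (oq_isPGroup q H)).trans (hS.theta_le hyA hy1), fun h => absurd hsy h⟩
    obtain ⟨L, hL, hle⟩ := hS.exists_max_theta hyA hy1
    have hL2 := hM2 y hy hy1 hyM hsy L hL hle
    have hLq := hqne y hy hy1 L hL hle
    have hP : Cfsg.pCoreOf 2 L ≤ Cfsg.pCoreOf 2 H :=
      SFTPurePair.comp_le_pair hM (Ne.symm hq2) hH hL hL2 hLq
    have hodd := hbad y hy hy1 hyM hsy L hL hle
    have hML : Cfsg.pCoreOf q M ≤ L := hM.le_max_oq hL hL2 (hS.oq_mem hD.isMax.1 q)
      ((hPM.trans (Subgroup.centralizer_le hP)).trans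
        (SignalizerCoprime.centralizer_le_normalizer _))
    refine ⟨SFTPurePair.centralizes_of_odd hM hyA hL hodd hq2 hCm (oq_isPGroup q H)
      (SFTPurePair.pair_le_max hM hq2 hH' hL hLq hL2) ((Subgroup.le_centralizer_iff.1 hCO).trans
        (Subgroup.centralizer_le hP)), fun _ => ⟨SFTPurePair.centralizes_of_odd hM hyA hL hodd hq2
        (hS.oq_mem hD.isMax.1 q) (oq_isPGroup q M) hML (hPM.trans (Subgroup.centralizer_le hP)),
        fun L' hL' hle' => SFTPurePair.comp_le_pair hM hq2 hH' hL' (hqne y hy hy1 L' hL' hle')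
          (hM2 y hy hy1 hyM hsy L' hL' hle')⟩⟩
  obtain ⟨Le, hLe, hele⟩ := hS.exists_max_theta (hDA he) he1
  obtain ⟨hCe, he'⟩ := hpt e he he1 heM
  obtain ⟨hMe, hLeC⟩ := he' hens
  by_cases hsingle : ∀ c ∈ D, c ∉ Subgroup.zpowers e → θ c ≤ M
  · exact finish hM hD.isMax hDA hDc he he1 hsingle
  push Not at hsingle
  obtain ⟨y0, hy0, hy0e, hy0M⟩ := hsingle
  have hy01 : y0 ≠ 1 := fun h => hy0e (h ▸ one_mem _)
  -- the line centralises `C`
  have hDC : ∀ y ∈ D, C ≤ Subgroup.centralizer ({y} : Set G) := by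
    have hle : Subgroup.zpowers e ⊔ Subgroup.zpowers y0 ≤ D :=
      sup_le (Subgroup.zpowers_le.2 he) (Subgroup.zpowers_le.2 hy0)
    have heq := Subgroup.eq_of_le_of_card_ge hle
      (hDc ▸ sq_le_card_sup hM.hA (hDA he) he1 (hDA hy0) hy0e)
    have hDle : D ≤ Subgroup.centralizer (C : Set G) := heq ▸ sup_le
      (Subgroup.zpowers_le.2 fun c hc => mem_centralizer_singleton.1 (hCe hc))
      (Subgroup.zpowers_le.2 fun c hc =>
        mem_centralizer_singleton.1 ((hpt y0 hy0 hy01 hy0M).1 hc))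
    exact fun y hy c hc => mem_centralizer_singleton.2 (hDle hy c hc)
  -- the points of the line lie in the member at `e` or are static
  have hpts : ∀ y ∈ D, y ≠ 1 → θ y ≤ Le ∨ IsMax p A θ (θ y) := by
    intro y hy hy1
    by_cases hyM : θ y ≤ M
    · exfalso
      have := SFTPurePair.key hM (hDA hy) hy1 (hDA he) he1 hD.isMax hLe hyM hele (q := q)
        ((hLeC Le hLe hele).trans (hDC y hy)) hMe fun h =>
          hY1 (le_bot_iff.1 (h ▸ le_inf (hYL y hy hy1 M hD.isMax hyM) (hYL e he he1 Le hLe hele)))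
      exact heM (this ▸ hele)
    by_cases hsy : IsMax p A θ (θ y)
    · exact Or.inr hsy
    obtain ⟨L, hL, hle⟩ := hS.exists_max_theta (hDA hy) hy1
    have := SFTPurePair.key hM (hDA hy) hy1 (hDA he) he1 hL hLe hle hele (q := q)
      ((hLeC Le hLe hele).trans (hDC y hy))
      ((((hpt y hy hy1 hyM).2 hsy).2 L hL hle).trans hCe) fun h =>
        hY1 (le_bot_iff.1 (h ▸ le_inf (hYL y hy hy1 L hL hle) (hYL e he he1 Le hLe hele)))
    exact Or.inl (this ▸ hle)
  by_cases hline : ∀ y ∈ D, y ≠ 1 → θ y ≤ Le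
  · exact SFTPureBasic.incomplete_line hM hLe hDA hDc hline
  push Not at hline
  obtain ⟨c0, hc0, hc01, hc0n⟩ := hline
  refine finish hM hLe hDA hDc hc0 hc01 fun c hc hcc => ?_
  have hc1 : c ≠ 1 := fun h => hcc (h ▸ one_mem _)
  rcases hpts c hc hc1 with h | hsc
  · exact h
  have hs0 := (hpts c0 hc0 hc01).resolve_left hc0n
  exact (static_inter hM (hDA hc) hc1 (hDA hc0) hc01 hcc hsc hs0 (q := q) fun h =>
    hY1 (le_bot_iff.1 (h ▸ le_inf (hYL c hc hc1 _ hsc le_rfl) (hYL c0 hc0 hc01 _ hs0 le_rfl)))).elim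

end Cfsg.Agent.SFTPureGood
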