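import Mathlib
import Cfsg.Agent.Lib.SFTPureRep
import Cfsg.Agent.Lib.SignalizerCoprime
import Cfsg.Agent.Lib.SFTSigma

/-!
# Pure uniqueness: the quadratic side

An elementary abelian `q`-group `E` acting quadratically and faithfully on a nilpotent `q'`-group `F`
has a conjugate, by an element of `F`, with few fixed points on its displacement. On an irreducible
block of `F E` the kernel of `E` has index at most `q`; a minimal family of blocks separating `E`
gives the conjugating element.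
-/

set_option autoImplicit false
set_option linter.unusedSectionVars false

namespace Cfsg.Agent.SFTPure

open scoped commutatorElement

universe u

variable {q : ℕ} [hq : Fact q.Prime] {V : Type u} [AddCommGroup V] [Module (ZMod q) V] [Finite V]

/-- Invariance of a submodule under both groups. -/
def Stable (F E : Subgroup (Aut q V)) (W : Submodule (ZMod q) V) : Prop :=
  (∀ g ∈ F, ∀ w ∈ W, g w ∈ W) ∧ (∀ g ∈ E, ∀ w ∈ W, g w ∈ W)

/-- An invariant submodule without proper invariant submodules, on which `F` and `E` do not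
commute. -/
def Block (F E : Subgroup (Aut q V)) (W : Submodule (ZMod q) V) : Prop :=
  Stable F E W ∧ (∀ U ≤ W, Stable F E U → U = ⊥ ∨ U = W) ∧
    ∃ e ∈ E, ∃ g ∈ F, ∃ w ∈ W, e (g w) ≠ g (e w)

/-- The subgroup generated by the `g⁻¹ e g e⁻¹`. -/
def mov (F : Subgroup (Aut q V)) (e : Aut q V) : Subgroup (Aut q V) :=
  Subgroup.closure {h | ∃ g ∈ F, g⁻¹ * e * g * e⁻¹ = h}

/-- The elements of `E` trivial on `W`. -/
def trivOn (E : Subgroup (Aut q V)) (W : Submodule (ZMod q) V) : Subgroup (Aut q V) where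
  carrier := {f | f ∈ E ∧ ∀ w ∈ W, f w = w}
  one_mem' := ⟨one_mem _, fun _ _ => rfl⟩
  mul_mem' := fun {a b} ha hb => ⟨mul_mem ha.1 hb.1, fun w hw => by
    rw [LinearEquiv.mul_apply, hb.2 w hw, ha.2 w hw]⟩
  inv_mem' := fun {a} ha => ⟨inv_mem ha.1, fun w hw => by
    conv_lhs => rw [← ha.2 w hw]
    rw [← LinearEquiv.mul_apply, inv_mul_cancel]; rfl⟩

theorem inv_apply_eq {a : Aut q V} {v w : V} (h : a v = w) : a⁻¹ w = v := by
  rw [← h, ← LinearEquiv.mul_apply, inv_mul_cancel]; rfl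

theorem apply_inv_apply (a : Aut q V) (v : V) : a (a⁻¹ v) = v := by
  rw [← LinearEquiv.mul_apply, mul_inv_cancel]; rfl

section

variable {F E : Subgroup (Aut q V)} (hF : ¬ q ∣ Nat.card F)
  (hn : E ≤ Subgroup.normalizer (F : Set (Aut q V)))
  (hab : ∀ a ∈ E, ∀ b ∈ E, a * b = b * a) (hexp : ∀ e ∈ E, e ^ q = 1)

include hF in
theorem not_dvd_order {x : Aut q V} (hx : x ∈ F) : ¬ q ∣ orderOf x := fun h =>
  hF (h.trans (Subgroup.orderOf_dvd_natCard F hx))

include hn in
theorem gen_mem {e : Aut q V} (he : e ∈ E) {g : Aut q V} (hg : g ∈ F) :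
    g⁻¹ * e * g * e⁻¹ ∈ F := by
  have h := (Subgroup.mem_normalizer_iff.1 (hn he) g).1 hg
  have h2 := mul_mem (inv_mem hg) h
  rwa [show g⁻¹ * (e * g * e⁻¹) = g⁻¹ * e * g * e⁻¹ by group] at h2

include hn in
theorem mov_le {e : Aut q V} (he : e ∈ E) : mov F e ≤ F :=
  (Subgroup.closure_le _).2 fun h ⟨_, hg, hh⟩ => hh ▸ gen_mem hn he hg

theorem mov_fixes {e : Aut q V} {W : Submodule (ZMod q) V}
    (hc : ∀ g ∈ F, ∀ w ∈ W, e (g w) = g (e w)) (hW : ∀ g ∈ F, ∀ w ∈ W, g w ∈ W)
    (he : ∀ w ∈ W, e⁻¹ w ∈ W) : ∀ n ∈ mov F e, ∀ w ∈ W, n w = w := by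
  have hgen : ∀ n ∈ mov F e, (∀ w ∈ W, n w = w) ∧ (∀ w ∈ W, n⁻¹ w = w) := by
    intro n hn'
    induction hn' using Subgroup.closure_induction with
    | mem h hh =>
      obtain ⟨g, hg, rfl⟩ := hh
      have h1 : ∀ w ∈ W, (g⁻¹ * e * g * e⁻¹) w = w := by
        intro w hw
        simp only [LinearEquiv.mul_apply]
        rw [hc g hg _ (he w hw), apply_inv_apply]
        exact inv_apply_eq rfl
      exact ⟨h1, fun w hw => inv_apply_eq (h1 w hw)⟩
    | one => exact ⟨fun _ _ => rfl, fun w _ => inv_apply_eq rfl⟩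
    | mul a b _ _ ha hb =>
      exact ⟨fun w hw => by rw [LinearEquiv.mul_apply, hb.1 w hw, ha.1 w hw],
        fun w hw => by rw [mul_inv_rev, LinearEquiv.mul_apply, ha.2 w hw, hb.2 w hw]⟩
    | inv a _ ha => exact ⟨ha.2, by rw [inv_inv]; exact ha.1⟩
  exact fun n hn' => (hgen n hn').1

theorem comm_of_mov_fixes {e : Aut q V} {W : Submodule (ZMod q) V} (he : ∀ w ∈ W, e w ∈ W)
    (h : ∀ n ∈ mov F e, ∀ w ∈ W, n w = w) {g : Aut q V} (hg : g ∈ F) {w : V} (hw : w ∈ W) :
    e (g w) = g (e w) := by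
  have h1 := h _ (Subgroup.subset_closure ⟨g, hg, rfl⟩) (e w) (he w hw)
  simp only [LinearEquiv.mul_apply] at h1
  rw [inv_apply_eq (rfl : e w = e w)] at h1
  have h2 := congrArg g h1
  rwa [apply_inv_apply] at h2

include hab in
theorem mov_normal {e : Aut q V} (he : e ∈ E)
    (hn : E ≤ Subgroup.normalizer (F : Set (Aut q V))) :
    F ≤ Subgroup.normalizer (mov F e : Set (Aut q V)) ∧
      E ≤ Subgroup.normalizer (mov F e : Set (Aut q V)) := by
  have := finite_aut (q := q) (V := V)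
  have key : ∀ a : Aut q V, (∀ g ∈ F, a * (g⁻¹ * e * g * e⁻¹) * a⁻¹ ∈ mov F e) →
      a ∈ Subgroup.normalizer (mov F e : Set (Aut q V)) := by
    intro a ha
    refine Cfsg.Agent.SFTSigma.mem_normalizer_of_map_conj_eq (Subgroup.eq_of_le_of_card_ge ?_
      (Subgroup.card_map_of_injective (MulAut.conj a).injective).ge)
    rw [mov, MonoidHom.map_closure, Subgroup.closure_le]
    rintro _ ⟨_, ⟨g, hg, rfl⟩, rfl⟩
    exact ha g hg
  refine ⟨fun a ha => key a fun g hg => ?_, fun b hb => key b fun g hg => ?_⟩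
  · have h1 : (g * a⁻¹)⁻¹ * e * (g * a⁻¹) * e⁻¹ ∈ mov F e :=
      Subgroup.subset_closure ⟨g * a⁻¹, mul_mem hg (inv_mem ha), rfl⟩
    have h2 : (a⁻¹)⁻¹ * e * a⁻¹ * e⁻¹ ∈ mov F e :=
      Subgroup.subset_closure ⟨a⁻¹, inv_mem ha, rfl⟩
    have h3 := mul_mem h1 (inv_mem h2)
    rwa [show (g * a⁻¹)⁻¹ * e * (g * a⁻¹) * e⁻¹ * ((a⁻¹)⁻¹ * e * a⁻¹ * e⁻¹)⁻¹
      = a * (g⁻¹ * e * g * e⁻¹) * a⁻¹ by group] at h3
  · refine Subgroup.subset_closure ⟨b * g * b⁻¹, (Subgroup.mem_normalizer_iff.1 (hn hb) g).1 hg, ?_⟩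
    have h1 : b⁻¹ * e * b = e := by rw [mul_assoc, hab e he b hb, ← mul_assoc]; simp
    have h2 : b⁻¹ * e⁻¹ = e⁻¹ * b⁻¹ := by
      rw [← mul_inv_rev, ← mul_inv_rev, hab e he b hb]
    calc (b * g * b⁻¹)⁻¹ * e * (b * g * b⁻¹) * e⁻¹
        = b * g⁻¹ * (b⁻¹ * e * b) * g * (b⁻¹ * e⁻¹) := by group
      _ = b * (g⁻¹ * e * g * e⁻¹) * b⁻¹ := by rw [h1, h2]; group

include hab hn in
theorem stable_fix_mov {e : Aut q V} (he : e ∈ E) {W : Submodule (ZMod q) V}
    (hW : Stable F E W) : Stable F E (fix (mov F e) ⊓ W) :=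
  ⟨fun g hg w hw => ⟨mem_fix_conj ((mov_normal hab he hn).1 hg) hw.1, hW.1 g hg w hw.2⟩,
    fun g hg w hw => ⟨mem_fix_conj ((mov_normal hab he hn).2 hg) hw.1, hW.2 g hg w hw.2⟩⟩

include hF hn hexp in
/-- The commutator of `g` and `e` is trivial where `e` is. -/
theorem gen_fix {e g : Aut q V} (he : e ∈ E) (hg : g ∈ F) {X : Submodule (ZMod q) V}
    (hX : ∀ x ∈ X, (g⁻¹ * e * g * e⁻¹) x ∈ X) (hfix : ∀ x ∈ X, e x = x) {x : V} (hx : x ∈ X) :
    (g⁻¹ * e * g * e⁻¹) x = x := by
  have := finite_aut (q := q) (V := V)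
  set h := g⁻¹ * e * g * e⁻¹ with hh
  clear_value h
  have hmem : ∀ j : ℕ, ∀ x ∈ X, (h ^ j) x ∈ X := by
    intro j
    induction j with
    | zero => intro x hx; simpa using hx
    | succ j ih => intro x hx; rw [pow_succ', LinearEquiv.mul_apply]; exact hX _ (ih x hx)
  have key : ∀ j : ℕ, ∀ x ∈ X, (g⁻¹ * e ^ j * g * (e ^ j)⁻¹) x = (h ^ j) x := by
    intro j
    induction j with
    | zero => intro x _; simp
    | succ j ih =>
      intro x hx
      have : g⁻¹ * e ^ (j + 1) * g * (e ^ (j + 1))⁻¹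
          = h * (e * (g⁻¹ * e ^ j * g * (e ^ j)⁻¹) * e⁻¹) := by
        rw [hh, pow_succ']; group
      rw [this, pow_succ', LinearEquiv.mul_apply h (h ^ j)]
      show h (e ((g⁻¹ * e ^ j * g * (e ^ j)⁻¹) (e⁻¹ x))) = h ((h ^ j) x)
      rw [inv_apply_eq (hfix x hx), ih x hx, hfix _ (hmem j x hx)]
  have hqx : (h ^ q) x = x := by
    rw [← key q x hx, hexp e he]; simp
  let St : Subgroup (Aut q V) :=
    { carrier := {a | a x = x}
      one_mem' := rfl
      mul_mem' := fun {a b} (ha : a x = x) (hb : b x = x) => by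
        show (a * b) x = x
        rw [LinearEquiv.mul_apply, hb, ha]
      inv_mem' := fun {a} (ha : a x = x) => inv_apply_eq ha }
  have hco : Nat.Coprime q (orderOf h) :=
    (Fact.out : q.Prime).coprime_iff_not_dvd.2 (hh ▸ not_dvd_order hF (gen_mem hn he hg))
  obtain ⟨m, hm⟩ := exists_pow_eq_self_of_coprime hco
  have h2 : (h ^ q) ^ m ∈ St := pow_mem (show h ^ q ∈ St from hqx) m
  rwa [hm] at h2

include hexp in
theorem isPGroup_E : IsPGroup q E := fun x => ⟨1, Subtype.ext (by simpa using hexp x x.2)⟩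

include hab hexp in
/-- On a block an element of `E` commuting with `F` is trivial. -/
theorem trivial_of_comm {W : Submodule (ZMod q) V} (hW : Stable F E W)
    (hirr : ∀ U ≤ W, Stable F E U → U = ⊥ ∨ U = W) {e : Aut q V} (he : e ∈ E)
    (hc : ∀ g ∈ F, ∀ w ∈ W, e (g w) = g (e w)) : ∀ w ∈ W, e w = w := by
  rcases eq_or_ne W ⊥ with rfl | hne
  · intro w hw
    rw [Submodule.mem_bot] at hw
    rw [hw, map_zero]
  set U : Submodule (ZMod q) V := fix (Subgroup.zpowers e) ⊓ W with hU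
  have hle : Subgroup.zpowers e ≤ E := Subgroup.zpowers_le.2 he
  have hne' : U ≠ ⊥ := fix_inf_ne_bot ((isPGroup_E hexp).to_le hle) hne
    (fun r hr w hw => hW.2 r (hle hr) w hw)
  have hfix : ∀ v : V, e v = v → v ∈ fix (Subgroup.zpowers e) := fun v hv => by
    intro r hr
    obtain ⟨j, rfl⟩ := Subgroup.mem_zpowers_iff.1 hr
    let St : Subgroup (Aut q V) :=
      { carrier := {a | a v = v}
        one_mem' := rfl
        mul_mem' := fun {a b} (ha : a v = v) (hb : b v = v) => by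
          show (a * b) v = v
          rw [LinearEquiv.mul_apply, hb, ha]
        inv_mem' := fun {a} (ha : a v = v) => inv_apply_eq ha }
    exact zpow_mem (show e ∈ St from hv) j
  have hU1 : ∀ w ∈ U, e w = w := fun w hw => hw.1 e (Subgroup.mem_zpowers e)
  have hst : Stable F E U :=
    ⟨fun g hg w hw => ⟨hfix _ (by rw [hc g hg w hw.2, hU1 w hw]), hW.1 g hg w hw.2⟩,
      fun g hg w hw => ⟨hfix _ (by
        rw [← LinearEquiv.mul_apply, hab e he g hg, LinearEquiv.mul_apply, hU1 w hw]),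
        hW.2 g hg w hw.2⟩⟩
  rcases hirr U inf_le_right hst with h | h
  · exact absurd h hne'
  · intro w hw; exact hU1 w (h.symm ▸ hw)

include hF hn hab in
/-- Every element of `E` not centralising `F` is nontrivial on some block. -/
theorem exists_block {e : Aut q V} (he : e ∈ E) (hne : ∃ g ∈ F, e * g ≠ g * e) :
    ∃ W, Block F E W ∧ ∃ w ∈ W, e w ≠ w := by
  have := finite_aut (q := q) (V := V)
  let P : Submodule (ZMod q) V → Prop := fun W =>
    Stable F E W ∧ ∃ g ∈ F, ∃ w ∈ W, e (g w) ≠ g (e w)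
  have htop : P ⊤ := by
    obtain ⟨g, hg, h⟩ := hne
    refine ⟨⟨fun _ _ _ _ => trivial, fun _ _ _ _ => trivial⟩, g, hg, ?_⟩
    by_contra hcon
    push Not at hcon
    exact h (LinearEquiv.ext fun v => hcon v trivial)
  obtain ⟨W, hW, hmin⟩ := wellFounded_lt.has_min {W | P W} ⟨⊤, htop⟩
  obtain ⟨hst, g₀, hg₀, w₀, hw₀, hne₀⟩ := hW
  have hsmall : ∀ U < W, Stable F E U → ∀ g ∈ F, ∀ w ∈ U, e (g w) = g (e w) := by
    intro U hU hsU g hg w hw
    by_contra h
    exact hmin U ⟨hsU, g, hg, w, hw, h⟩ hU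
  refine ⟨W, ⟨hst, ?_, e, he, g₀, hg₀, w₀, hw₀, hne₀⟩, ?_⟩
  · intro U hUW hsU
    rcases eq_or_lt_of_le hUW with h | hlt
    · exact Or.inr h
    left
    have hinvE : ∀ (X : Submodule (ZMod q) V), Stable F E X → ∀ w ∈ X, e⁻¹ w ∈ X :=
      fun X hX w hw => hX.2 _ (inv_mem he) w hw
    set W' : Submodule (ZMod q) V :=
      Submodule.span (ZMod q) {x | ∃ n ∈ mov F e, ∃ w ∈ W, n w - w = x} with hW'
    have hW'le : W' ≤ W := Submodule.span_le.2 (by
      rintro x ⟨n, hn', w, hw, rfl⟩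
      exact sub_mem (hst.1 n (mov_le hn he hn') w hw) hw)
    have hmap : ∀ a : Aut q V, a ∈ Subgroup.normalizer (mov F e : Set (Aut q V)) →
        (∀ w ∈ W, a w ∈ W) → ∀ x ∈ W', a x ∈ W' := by
      intro a ha haW x hx
      induction hx using Submodule.span_induction with
      | mem x hx =>
        obtain ⟨n, hn', w, hw, rfl⟩ := hx
        refine Submodule.subset_span ⟨a * n * a⁻¹, (Subgroup.mem_normalizer_iff.1 ha n).1 hn',
          a w, haW w hw, ?_⟩
        simp only [LinearEquiv.mul_apply, map_sub]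
        rw [inv_apply_eq (rfl : a w = a w)]
      | zero => rw [map_zero]; exact zero_mem _
      | add x y _ _ hx hy => rw [map_add]; exact add_mem hx hy
      | smul c x _ hx => rw [map_smul]; exact Submodule.smul_mem _ c hx
    have hsW' : Stable F E W' :=
      ⟨fun a ha => hmap a ((mov_normal hab he hn).1 ha) (hst.1 a ha),
        fun a ha => hmap a ((mov_normal hab he hn).2 ha) (hst.2 a ha)⟩
    have hW'eq : W' = W := by
      by_contra hne'
      have hfx := mov_fixes (hsmall W' (lt_of_le_of_ne hW'le hne') hsW') hsW'.1 (hinvE W' hsW')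
      refine hne₀ (comm_of_mov_fixes (hst.2 e he) (fun n hn' w hw => ?_) hg₀ hw₀)
      exact fixed_of_fixed_disp (not_dvd_order hF (mov_le hn he hn'))
        (hfx n hn' _ (Submodule.subset_span ⟨n, hn', w, hw, rfl⟩))
    have hUfix := mov_fixes (hsmall U hlt hsU) hsU.1 (hinvE U hsU)
    have := Fintype.ofFinite ↥(mov F e)
    let φ : V →ₗ[ZMod q] V := ∑ n : ↥(mov F e), ((n : Aut q V) : V →ₗ[ZMod q] V)
    have hφW : ∀ x ∈ W', φ x = 0 := by
      intro x hx
      induction hx using Submodule.span_induction with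
      | mem x hx =>
        obtain ⟨n, hn', w, -, rfl⟩ := hx
        rw [map_sub, sub_eq_zero]
        simp only [φ, LinearMap.sum_apply, LinearEquiv.coe_coe]
        exact Fintype.sum_equiv (Equiv.mulRight (⟨n, hn'⟩ : ↥(mov F e)))
          (fun m => (m : Aut q V) (n w)) (fun m => (m : Aut q V) w) fun m => rfl
      | zero => exact map_zero _
      | add x y _ _ hx hy => rw [map_add, hx, hy, add_zero]
      | smul c x _ hx => rw [map_smul, hx, smul_zero]
    refine (Submodule.eq_bot_iff _).2 fun u hu => ?_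
    have h1 := hφW u (hW'eq.symm ▸ hUW hu)
    have h2 : φ u = (Nat.card ↥(mov F e) : ZMod q) • u := by
      simp only [φ, LinearMap.sum_apply, LinearEquiv.coe_coe]
      rw [Finset.sum_congr rfl (fun (n : ↥(mov F e)) _ => hUfix n.1 n.2 u hu), Finset.sum_const, Finset.card_univ,
        Nat.card_eq_fintype_card, Nat.cast_smul_eq_nsmul]
    rw [h2, smul_eq_zero] at h1
    rcases h1 with h1 | h1
    · exact absurd ((ZMod.natCast_eq_zero_iff _ _).1 h1)
        (fun h => hF (h.trans (Subgroup.card_dvd_of_le (mov_le hn he))))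
    · exact h1
  · by_contra h
    push Not at h
    exact hne₀ (by rw [h _ (hst.1 g₀ hg₀ w₀ hw₀), h _ hw₀])

theorem lcs_le : ∀ n, lcs F n ≤ F
  | 0 => le_rfl
  | n + 1 => Subgroup.commutator_le.2 fun a ha b hb => by
    rw [commutatorElement_def]
    exact mul_mem (mul_mem (mul_mem (lcs_le n ha) hb) (inv_mem (lcs_le n ha))) (inv_mem hb)

include hn in
theorem lcs_norm : ∀ n, E ≤ Subgroup.normalizer (lcs F n : Set (Aut q V))
  | 0 => hn
  | n + 1 => fun b hb => by
    refine Cfsg.Agent.SFTSigma.mem_normalizer_of_map_conj_eq ?_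
    show Subgroup.map _ ⁅lcs F n, F⁆ = ⁅lcs F n, F⁆
    rw [Subgroup.map_commutator,
      Cfsg.Agent.SFTSigma.map_conj_eq_of_mem_normalizer (lcs_norm n hb),
      Cfsg.Agent.SFTSigma.map_conj_eq_of_mem_normalizer (hn hb)]

include hF hn hab hexp in
/-- The kernel of `E` on a block has index at most `q`. -/
theorem kernel_index (hnil : ∃ n, lcs F n = ⊥)
    (hquad : ∀ e ∈ E, ∀ f ∈ E, ∀ v, f (e v - v) = e v - v)
    {W : Submodule (ZMod q) V} (hW : Block F E W) : (trivOn E W).relIndex E ≤ q := by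
  have := finite_aut (q := q) (V := V)
  classical
  obtain ⟨hst, hirr, e₀, he₀, g₀, hg₀, w₀, hw₀, hne₀⟩ := hW
  let A : Subgroup (Aut q V) :=
    { carrier := {x | x ∈ F ∧ ∀ b ∈ E, ∀ w ∈ W, b (x w) = x (b w)}
      one_mem' := ⟨one_mem _, fun _ _ _ _ => rfl⟩
      mul_mem' := fun {x y} hx hy => ⟨mul_mem hx.1 hy.1, fun b hb w hw => by
        simp only [LinearEquiv.mul_apply]
        rw [hx.2 b hb _ (hst.1 y hy.1 w hw), hy.2 b hb w hw]⟩
      inv_mem' := fun {x} hx => ⟨inv_mem hx.1, fun b hb w hw => by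
        have h := hx.2 b hb _ (hst.1 _ (inv_mem hx.1) w hw)
        rw [apply_inv_apply] at h
        exact (inv_apply_eq h.symm).symm⟩ }
  have hnA : ¬ lcs F 0 ≤ A := fun h => hne₀ ((h hg₀).2 e₀ he₀ w₀ hw₀)
  have hex : ∃ n, lcs F n ≤ A := hnil.imp fun n h => h.le.trans bot_le
  obtain ⟨k, hk⟩ : ∃ k, Nat.find hex = k + 1 := Nat.exists_eq_succ_of_ne_zero fun h =>
    hnA (by simpa only [h] using Nat.find_spec hex)
  have hk1 : lcs F (k + 1) ≤ A := hk ▸ Nat.find_spec hex
  have hk0 : ¬ lcs F k ≤ A := Nat.find_min hex (by omega)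
  obtain ⟨j, hj⟩ := IsPGroup.iff_card.1 (isPGroup_E (E := E) hexp)
  by_cases hsmall : Nat.card E ≤ q
  · exact le_trans (Nat.le_of_dvd Nat.card_pos (Subgroup.relIndex_dvd_card _ _)) hsmall
  have hE2 : q ^ 2 ≤ Nat.card E := by
    rw [hj] at hsmall ⊢
    refine Nat.pow_le_pow_right (Fact.out : q.Prime).pos (Nat.le_of_not_lt fun h => hsmall ?_)
    calc q ^ j ≤ q ^ 1 := Nat.pow_le_pow_right (Fact.out : q.Prime).pos (by omega)
      _ = q := pow_one q
  have hgen : ∃ D : Subgroup (Aut q V), D ≤ E ∧ D.relIndex E = q ∧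
      ¬ lcs F k ⊓ Subgroup.centralizer (D : Set (Aut q V)) ≤ A := by
    by_contra h
    push Not at h
    exact hk0 (Cfsg.Agent.SignalizerCoprime.le_of_hyperplane_centralizers_le (p := q)
      ⟨⟨⟨fun a b => Subtype.ext (hab a a.2 b b.2)⟩⟩, hexp⟩ hE2 (lcs_norm hn k)
      (fun hd => hF (hd.trans (Subgroup.card_dvd_of_le (lcs_le k)))) h)
  obtain ⟨D, hDE, hDidx, hD⟩ := hgen
  obtain ⟨x, ⟨hxk, hxD⟩, hxA⟩ := SetLike.not_le_iff_exists.1 hD
  have hxF : x ∈ F := lcs_le k hxk
  obtain ⟨b, hb, w₁, hw₁, hne₁⟩ : ∃ b ∈ E, ∃ w ∈ W, b (x w) ≠ x (b w) := by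
    by_contra h
    push Not at h
    exact hxA ⟨hxF, h⟩
  set u := x⁻¹ * b * x * b⁻¹ with hu
  have hu_mem : u ∈ lcs F k := by
    have h := mul_mem ((lcs F k).inv_mem hxk) ((Subgroup.mem_normalizer_iff.1 (lcs_norm hn k hb) x).1 hxk)
    rwa [show x⁻¹ * (b * x * b⁻¹) = u by rw [hu]; group] at h
  have hle : D ≤ trivOn E W := by
    intro f hf
    have hfE : f ∈ E := hDE hf
    refine ⟨hfE, ?_⟩
    have hfx : f * x = x * f := Subgroup.mem_centralizer_iff.1 hxD f hf
    have hfb : f * b = b * f := hab f hfE b hb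
    have hcu : Commute f u :=
      (((show Commute f x from hfx).inv_right.mul_right hfb).mul_right hfx).mul_right
        (show Commute f b from hfb).inv_right
    set U₀ : Submodule (ZMod q) V :=
      Submodule.span (ZMod q) {y | ∃ w ∈ W, u w - w = y} with hU₀
    have hU₀W : U₀ ≤ W := Submodule.span_le.2 (by
      rintro y ⟨w, hw, rfl⟩
      exact sub_mem (hst.1 u (lcs_le k hu_mem) w hw) hw)
    have hfU : ∀ y ∈ U₀, f y = y := by
      intro y hy
      induction hy using Submodule.span_induction with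
      | mem y hy =>
        obtain ⟨w, hw, rfl⟩ := hy
        have h1 : u w - w = x⁻¹ (b (x (b⁻¹ w)) - x (b⁻¹ w)) + (b⁻¹ w - w) := by
          rw [map_sub, inv_apply_eq (rfl : x (b⁻¹ w) = x (b⁻¹ w)), hu]
          simp only [LinearEquiv.mul_apply]
          abel
        have h2 : ∀ z, f (x⁻¹ z) = x⁻¹ (f z) := fun z => by
          rw [← LinearEquiv.mul_apply, ← LinearEquiv.mul_apply,
            (show Commute f x from hfx).inv_right.eq]
        rw [h1, map_add, h2, hquad b hb f hfE, hquad b⁻¹ (inv_mem hb) f hfE]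
      | zero => exact map_zero _
      | add y z _ _ hy hz => rw [map_add, hy, hz]
      | smul c y _ hy => rw [map_smul, hy]
    have hN : ∀ g ∈ F, ∀ y ∈ U₀, (g⁻¹ * f * g * f⁻¹) y = y := by
      intro g hg
      have hz : ⁅u, g⁆ ∈ A := hk1 (Subgroup.commutator_mem_commutator hu_mem hg)
      have hcw : ∀ w ∈ W, (g⁻¹ * f * g * f⁻¹) (u w) = u ((g⁻¹ * f * g * f⁻¹) w) := by
        intro w hw
        have hv : f⁻¹ w ∈ W := hst.2 _ (inv_mem hfE) w hw
        have e1 : g⁻¹ * ⁅u, g⁆⁻¹ * u = u * g⁻¹ := by rw [commutatorElement_def]; group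
        have e2 : g * u = ⁅u, g⁆⁻¹ * u * g := by rw [commutatorElement_def]; group
        have h3 : f (⁅u, g⁆⁻¹ (u (g (f⁻¹ w)))) = ⁅u, g⁆⁻¹ (f (u (g (f⁻¹ w)))) :=
          (A.inv_mem hz).2 f hfE _
            (hst.1 u (lcs_le k hu_mem) _ (hst.1 g hg _ hv))
        calc (g⁻¹ * f * g * f⁻¹) (u w)
            = (g⁻¹ * f) ((g * u) (f⁻¹ w)) := by
              simp only [LinearEquiv.mul_apply]
              rw [← LinearEquiv.mul_apply f⁻¹ u, hcu.inv_left.eq, LinearEquiv.mul_apply]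
          _ = g⁻¹ (⁅u, g⁆⁻¹ (f (u (g (f⁻¹ w))))) := by
              rw [e2]; simp only [LinearEquiv.mul_apply]; rw [h3]
          _ = (g⁻¹ * ⁅u, g⁆⁻¹ * u) (f (g (f⁻¹ w))) := by
              simp only [LinearEquiv.mul_apply]
              rw [← LinearEquiv.mul_apply f u, hcu.eq, LinearEquiv.mul_apply]
          _ = u ((g⁻¹ * f * g * f⁻¹) w) := by rw [e1]; simp only [LinearEquiv.mul_apply]
      have hinv : ∀ y ∈ U₀, (g⁻¹ * f * g * f⁻¹) y ∈ U₀ := by
        intro y hy
        induction hy using Submodule.span_induction with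
        | mem y hy =>
          obtain ⟨w, hw, rfl⟩ := hy
          refine Submodule.subset_span ⟨_, hst.1 _ (gen_mem hn hfE hg) w hw, ?_⟩
          rw [map_sub, hcw w hw]
        | zero => rw [map_zero]; exact zero_mem _
        | add y z _ _ hy hz => rw [map_add]; exact add_mem hy hz
        | smul c y _ hy => rw [map_smul]; exact Submodule.smul_mem _ c hy
      exact fun y hy => gen_fix hF hn hexp hfE hg hinv hfU hy
    have hU₀ne : U₀ ≠ ⊥ := by
      intro hbot
      apply hne₁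
      have h := Submodule.subset_span (R := ZMod q)
        (show u (b w₁) - b w₁ ∈ {y | ∃ w ∈ W, u w - w = y} from ⟨b w₁, hst.2 b hb w₁ hw₁, rfl⟩)
      rw [← hU₀, hbot] at h
      have h2 : u (b w₁) = b w₁ := sub_eq_zero.1 ((Submodule.mem_bot _).1 h)
      rw [hu] at h2
      simp only [LinearEquiv.mul_apply] at h2
      rw [inv_apply_eq (rfl : b w₁ = b w₁)] at h2
      have h3 := congrArg x h2
      rwa [apply_inv_apply] at h3
    have hfull : fix (mov F f) ⊓ W = W := by
      refine (hirr _ inf_le_right (stable_fix_mov hn hab hfE hst)).resolve_left fun h => hU₀ne ?_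
      refine le_bot_iff.1 (h ▸ le_inf (fun y hy => ?_) hU₀W)
      intro n hn'
      let St : Subgroup (Aut q V) :=
        { carrier := {a | a y = y}
          one_mem' := rfl
          mul_mem' := fun {a c} (ha : a y = y) (hc : c y = y) => by
            show (a * c) y = y
            rw [LinearEquiv.mul_apply, hc, ha]
          inv_mem' := fun {a} (ha : a y = y) => inv_apply_eq ha }
      refine (Subgroup.closure_le St).2 ?_ hn'
      rintro _ ⟨g, hg, rfl⟩
      exact hN g hg y hy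
    have hc : ∀ g ∈ F, ∀ w ∈ W, f (g w) = g (f w) := fun g hg w hw =>
      comm_of_mov_fixes (hst.2 f hfE) (fun n hn' v hv => (hfull.ge hv).1 n hn') hg hw
    exact trivial_of_comm hab hexp hst hirr hfE hc
  calc (trivOn E W).relIndex E ≤ D.relIndex E :=
        Nat.le_of_dvd (by rw [hDidx]; exact (Fact.out : q.Prime).pos)
          (Subgroup.relIndex_dvd_of_le_left _ hle)
    _ = q := hDidx

include hF hn hab hexp in
/-- An element of `E` nontrivial on a block moves a point of its displacement under some element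
of `mov F e`. -/
theorem exists_moving {W : Submodule (ZMod q) V} (hW : Block F E W) {e : Aut q V} (he : e ∈ E)
    (hne : ∃ w ∈ W, e w ≠ w) :
    ∃ y ∈ mov F e, ∃ v ∈ W, e (y⁻¹ (e v - v)) ≠ y⁻¹ (e v - v) := by
  obtain ⟨hst, hirr, -⟩ := hW
  by_contra hcon
  push Not at hcon
  obtain ⟨w₀, hw₀, hw₀ne⟩ := hne
  have hinvn : ∀ n ∈ mov F e, ∀ v ∈ W, e (n (e v - v)) = n (e v - v) := fun n hn' v hv => by
    have := hcon n⁻¹ (inv_mem hn') v hv
    rwa [inv_inv] at this
  let X : Submodule (ZMod q) V :=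
    { carrier := {w | ∀ n ∈ mov F e, e (n w) = n w}
      add_mem' := fun {a b} ha hb n hn' => by rw [map_add, map_add, ha n hn', hb n hn']
      zero_mem' := fun n _ => by rw [map_zero, map_zero]
      smul_mem' := fun c a ha n hn' => by rw [map_smul, map_smul, ha n hn'] }
  have hXf : ∀ x ∈ X, e x = x := fun x hx => hx 1 (one_mem _)
  have hgenfix : ∀ g ∈ F, ∀ x ∈ X, (g⁻¹ * e * g * e⁻¹) x = x := by
    intro g hg x hx
    refine gen_fix hF hn hexp he hg (X := X) ?_ hXf hx
    intro y hy n hn'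
    rw [← LinearEquiv.mul_apply n]
    exact hy _ (mul_mem hn' (Subgroup.subset_closure ⟨g, hg, rfl⟩))
  have hmem : e w₀ - w₀ ∈ fix (mov F e) ⊓ W := by
    refine ⟨fun n hn' => ?_, sub_mem (hst.2 e he w₀ hw₀) hw₀⟩
    have hx : e w₀ - w₀ ∈ X := fun m hm => hinvn m hm w₀ hw₀
    let St : Subgroup (Aut q V) :=
      { carrier := {a | a (e w₀ - w₀) = e w₀ - w₀}
        one_mem' := rfl
        mul_mem' := fun {a c} (ha : a (e w₀ - w₀) = e w₀ - w₀)
            (hc : c (e w₀ - w₀) = e w₀ - w₀) => by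
          show (a * c) (e w₀ - w₀) = e w₀ - w₀
          rw [LinearEquiv.mul_apply, hc, ha]
        inv_mem' := fun {a} (ha : a (e w₀ - w₀) = e w₀ - w₀) => inv_apply_eq ha }
    refine (Subgroup.closure_le St).2 ?_ hn'
    rintro _ ⟨g, hg, rfl⟩
    exact hgenfix g hg _ hx
  rcases hirr _ inf_le_right (stable_fix_mov hn hab he hst) with h | h
  · rw [h, Submodule.mem_bot, sub_eq_zero] at hmem
    exact hw₀ne hmem
  · exact hw₀ne (trivial_of_comm hab hexp hst hirr he (fun g hg w hw =>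
      comm_of_mov_fixes (hst.2 e he) (fun n hn' v hv => (h.ge hv).1 n hn') hg hw) w₀ hw₀)

end

/-- A quadratic elementary abelian group acting faithfully on a nilpotent `q'`-group has a conjugate
with few fixed points on its displacement. -/
theorem eside : ESide.{u} := by
  intro q _ V _ _ _ F E hnil hF hn hab hexp hquad hfaith
  have := finite_aut (q := q) (V := V)
  classical
  let S : Finset (Submodule (ZMod q) V) → Subgroup (Aut q V) :=
    fun I => E ⊓ I.inf (trivOn E)
  let P : Finset (Submodule (ZMod q) V) → Prop :=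
    fun I => (∀ W ∈ I, Block F E W) ∧ S I = ⊥
  have hP : ∃ I, P I := by
    have : Fintype (Submodule (ZMod q) V) := Fintype.ofFinite _
    refine ⟨Finset.univ.filter (Block F E), fun W hW => (Finset.mem_filter.1 hW).2,
      (Subgroup.eq_bot_iff_forall _).2 fun e he => ?_⟩
    obtain ⟨heE, heI⟩ := Subgroup.mem_inf.1 he
    by_contra h1
    obtain ⟨g, hg, hgne⟩ : ∃ g ∈ F, e * g ≠ g * e := by
      by_contra h
      push Not at h
      exact h1 (hfaith e heE h)
    obtain ⟨W, hW, w, hw, hwne⟩ := exists_block hF hn hab heE ⟨g, hg, hgne⟩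
    have hle : (Finset.univ.filter (Block F E)).inf (trivOn E) ≤ trivOn E W :=
      Finset.inf_le (Finset.mem_filter.2 ⟨Finset.mem_univ _, hW⟩)
    exact hwne ((hle heI).2 w hw)
  obtain ⟨I, hI, hmin⟩ := (InvImage.wf Finset.card wellFounded_lt).has_min {I | P I} hP
  have hdata : ∀ i : {W // W ∈ I}, ∃ e ∈ E, (∀ j : {W // W ∈ I}, j ≠ i → ∀ w ∈ j.1, e w = w) ∧
      ∃ y ∈ mov F e, ∃ v ∈ i.1, e (y⁻¹ (e v - v)) ≠ y⁻¹ (e v - v) := by
    intro i
    have hne : S (I.erase i.1) ≠ ⊥ := fun h => hmin (I.erase i.1)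
      ⟨fun W hW => hI.1 W (Finset.mem_of_mem_erase hW), h⟩ (Finset.card_erase_lt_of_mem i.2)
    obtain ⟨e, he, he1⟩ := (Subgroup.bot_or_exists_ne_one _).resolve_left hne
    obtain ⟨heE, heI⟩ := Subgroup.mem_inf.1 he
    refine ⟨e, heE, fun j hj w hw =>
      (((Finset.inf_le (f := trivOn E)
        (Finset.mem_erase.2 ⟨fun h => hj (Subtype.ext h), j.2⟩)) heI).2 w hw), ?_⟩
    refine exists_moving hF hn hab hexp (hI.1 i.1 i.2) heE ?_
    by_contra h
    push Not at h
    refine he1 ?_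
    have hmem : e ∈ S I := by
      refine ⟨heE, ?_⟩
      rw [← Finset.insert_erase i.2, Finset.inf_insert]
      exact ⟨⟨heE, h⟩, heI⟩
    rwa [hI.2, Subgroup.mem_bot] at hmem
  choose e heE hoff y hy v hv hmove using hdata
  have hst : ∀ i : {W // W ∈ I}, Stable F E i.1 := fun i => (hI.1 i.1 i.2).1
  have htriv : ∀ i j : {W // W ∈ I}, j ≠ i → ∀ w ∈ j.1, y i w = w := fun i j hji =>
    mov_fixes (fun g hg w hw => by rw [hoff i j hji _ ((hst j).1 g hg w hw), hoff i j hji w hw])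
      (hst j).1 (fun w hw => (hst j).2 _ (inv_mem (heE i)) w hw) (y i) (hy i)
  have hprod : ∀ J : Finset {W // W ∈ I}, ∃ h ∈ F, ∀ i : {W // W ∈ I},
      (i ∈ J → ∀ w ∈ i.1, h w = y i w) ∧ (i ∉ J → ∀ w ∈ i.1, h w = w) := by
    intro J
    induction J using Finset.induction_on with
    | empty => exact ⟨1, one_mem _, fun i => ⟨fun h => absurd h (Finset.notMem_empty i),
        fun _ _ _ => rfl⟩⟩
    | @insert a J ha ih =>
      obtain ⟨h, hh, hJ⟩ := ih
      refine ⟨y a * h, mul_mem (mov_le hn (heE a) (hy a)) hh, fun i => ⟨fun hi w hw => ?_,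
        fun hi w hw => ?_⟩⟩
      · rcases Finset.mem_insert.1 hi with rfl | hiJ
        · rw [LinearEquiv.mul_apply, (hJ i).2 ha w hw]
        · rw [LinearEquiv.mul_apply, (hJ i).1 hiJ w hw, htriv a i (fun he => ha (he ▸ hiJ)) _
            ((hst i).1 _ (mov_le hn (heE i) (hy i)) w hw)]
      · rw [Finset.mem_insert, not_or] at hi
        rw [LinearEquiv.mul_apply, (hJ i).2 hi.2 w hw, htriv a i hi.1 w hw]
  obtain ⟨h, hh, hact⟩ := hprod Finset.univ
  refine ⟨h, hh, ?_⟩
  have hcard : Nat.card E ≤ q ^ I.card := by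
    have key : ∀ J : Finset (Submodule (ZMod q) V), (∀ W ∈ J, Block F E W) →
        (S J).relIndex E ≤ q ^ J.card := by
      intro J
      induction J using Finset.induction_on with
      | empty => intro _; simp [S]
      | @insert a J ha ih =>
        intro hJ
        have heq : S (insert a J) = trivOn E a ⊓ S J := by
          simp only [S, Finset.inf_insert]; exact inf_left_comm _ _ _
        rw [heq, Finset.card_insert_of_notMem ha, pow_succ']
        exact le_trans Subgroup.relIndex_inf_le (Nat.mul_le_mul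
          (kernel_index hF hn hab hexp hnil hquad (hJ a (Finset.mem_insert_self a J)))
          (ih fun W hW => hJ W (Finset.mem_insert_of_mem hW)))
    have := key I hI.1
    rwa [hI.2, Subgroup.relIndex_bot_left] at this
  set K := disp E ⊓ fix (E.map (MulAut.conj h).toMonoidHom) with hK
  let s : {W // W ∈ I} → V := fun i => e i (v i) - v i
  have hs : ∀ i, s i ∈ disp E := fun i => Submodule.subset_span ⟨e i, heE i, v i, rfl⟩
  have hsW : ∀ i, s i ∈ i.1 := fun i => sub_mem ((hst i).2 _ (heE i) _ (hv i)) (hv i)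
  have hinv : ∀ i, h⁻¹ (s i) = (y i)⁻¹ (s i) := fun i => inv_apply_eq (by
    rw [(hact i).1 (Finset.mem_univ i) _
      ((hst i).1 _ (inv_mem (mov_le hn (heE i) (hy i))) _ (hsW i)), apply_inv_apply])
  have hfixK : ∀ i, ∀ k ∈ K, e i (h⁻¹ k) = h⁻¹ k := fun i k hk => by
    have h1 := hk.2 _ (Subgroup.mem_map_of_mem _ (heE i))
    simp only [MulEquiv.coe_toMonoidHom, MulAut.conj_apply, LinearEquiv.mul_apply] at h1
    exact (inv_apply_eq h1).symm
  have hindep : ∀ d : {W // W ∈ I} → ZMod q, (∑ i, d i • s i) ∈ K → d = 0 := by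
    intro d hd
    funext i
    have h1 := hfixK i _ hd
    simp only [map_sum, map_smul] at h1
    rw [← sub_eq_zero, ← Finset.sum_sub_distrib, Finset.sum_eq_single i
      (fun j _ hji => by
        rw [hoff i j hji _ ((hst j).1 _ (inv_mem hh) _ (hsW j)), sub_self])
      (fun hi => absurd (Finset.mem_univ i) hi), ← smul_sub, smul_eq_zero] at h1
    refine h1.resolve_right (sub_ne_zero.2 ?_)
    rw [hinv i]
    exact hmove i
  let φ : ({W // W ∈ I} → ZMod q) × ↥K → ↥(disp E) := fun p =>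
    ⟨(∑ i, p.1 i • s i) + p.2,
      add_mem (sum_mem fun i _ => Submodule.smul_mem _ _ (hs i)) p.2.2.1⟩
  have hφ : Function.Injective φ := by
    rintro ⟨c, k⟩ ⟨c', k'⟩ heq
    have h1 : (∑ i, c i • s i) + (k : V) = (∑ i, c' i • s i) + k' := congrArg Subtype.val heq
    have h2 : (∑ i, (c - c') i • s i) = (k' : V) - k := by
      simp only [Pi.sub_apply, sub_smul, Finset.sum_sub_distrib]
      rw [sub_eq_sub_iff_add_eq_add, h1, add_comm]
    have h3 := hindep (c - c') (by rw [h2]; exact sub_mem k'.2 k.2)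
    obtain rfl := sub_eq_zero.1 h3
    rw [add_left_cancel_iff] at h1
    exact Prod.ext rfl (Subtype.ext h1)
  have hcard' := Nat.card_le_card_of_injective φ hφ
  rw [Nat.card_prod, Nat.card_fun, Nat.card_zmod, Nat.card_eq_fintype_card (α := {W // W ∈ I}),
    Fintype.card_coe] at hcard'
  exact le_trans (Nat.mul_le_mul hcard le_rfl) hcard'

end Cfsg.Agent.SFTPure
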