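import Mathlib
import Cfsg.Agent.Lib.SFTPureLocal
import Cfsg.Agent.Lib.SFTPureESide

/-!
# Pure uniqueness: the base case

For the largest invariant `q`-member `D` and the closure `U` of `Ω₁(Z(D))` under `hat q L`: if a
pure maximal member `N` contains `D`, then `hat q N ≤ L`.
-/

set_option autoImplicit false
set_option linter.unusedSectionVars false
set_option linter.style.haveILetI false

namespace Cfsg.Agent.SFTPure

open Cfsg.Agent.SignalizerCoprime Cfsg.Agent.HallCore Cfsg.Agent.SFTGroup Cfsg.Agent.SFTSigma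
  Cfsg.Agent.SFTCtx Cfsg.Agent.SFTStatic
open Cfsg.Agent.SignalizerTransitivity (mem_family_of_le)
open scoped commutatorElement

universe u

namespace SFTHat

variable {G : Type u} [Group G]

theorem mem_map_conj_iff {S : Subgroup G} {f x : G} :
    x ∈ S.map (MulAut.conj f).toMonoidHom ↔ f⁻¹ * x * f ∈ S := by
  rw [show (MulAut.conj f).toMonoidHom = ((MulAut.conj f : MulAut G) : G →* G) from rfl,
    Subgroup.map_equiv_eq_comap_symm, Subgroup.mem_comap]
  simp [mul_assoc]

theorem card_conj (S : Subgroup G) (f : G) :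
    Nat.card ↥(S.map (MulAut.conj f).toMonoidHom) = Nat.card ↥S :=
  Subgroup.card_map_of_injective (MulAut.conj f).injective

theorem map_conj_inf (S T : Subgroup G) (f : G) :
    (S ⊓ T).map (MulAut.conj f).toMonoidHom =
      S.map (MulAut.conj f).toMonoidHom ⊓ T.map (MulAut.conj f).toMonoidHom :=
  Subgroup.map_inf _ _ _ (MulAut.conj f).injective

theorem map_conj_inv (S : Subgroup G) (f : G) :
    (S.map (MulAut.conj f⁻¹).toMonoidHom).map (MulAut.conj f).toMonoidHom = S := by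
  ext x
  rw [mem_map_conj_iff, mem_map_conj_iff]
  simp [mul_assoc]

theorem map_conj_centralizer (S : Subgroup G) (f : G) :
    (Subgroup.centralizer (S : Set G)).map (MulAut.conj f).toMonoidHom =
      Subgroup.centralizer ((S.map (MulAut.conj f).toMonoidHom : Subgroup G) : Set G) := by
  ext x
  rw [mem_map_conj_iff, Subgroup.mem_centralizer_iff, Subgroup.mem_centralizer_iff]
  constructor
  · intro h y hy
    have h1 := h _ (mem_map_conj_iff.1 hy)
    calc y * x = f * ((f⁻¹ * y * f) * (f⁻¹ * x * f)) * f⁻¹ := by group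
      _ = f * ((f⁻¹ * x * f) * (f⁻¹ * y * f)) * f⁻¹ := by rw [h1]
      _ = x * y := by group
  · intro h y hy
    have h1 := h (f * y * f⁻¹) (mem_map_conj_iff.2 (by simpa [mul_assoc] using hy))
    calc y * (f⁻¹ * x * f) = f⁻¹ * ((f * y * f⁻¹) * x) * f := by group
      _ = f⁻¹ * (x * (f * y * f⁻¹)) * f := by rw [h1]
      _ = f⁻¹ * x * f * y := by group

theorem card_inf_mul [Finite G] (X Y : Subgroup G) :
    Nat.card ↥(Y ⊓ X : Subgroup G) * (Y ⊓ X).relIndex Y = Nat.card ↥Y :=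
  card_mul_relIndex inf_le_left

/-- `|C : B ∩ C| * |B| = |B C|`. -/
theorem relIndex_mul_card [Finite G] (B C : Subgroup G) (h : B ≤ Subgroup.normalizer (C : Set G)) :
    (B ⊓ C).relIndex C * Nat.card ↥B = Nat.card ↥(B ⊔ C) := by
  refine Nat.eq_of_mul_eq_mul_left (Nat.card_pos (α := ↥(B ⊓ C : Subgroup G))) ?_
  rw [← mul_assoc, card_mul_relIndex inf_le_right, mul_comm (Nat.card ↥(B ⊓ C : Subgroup G)),
    OffendersReplace.card_sup_mul_card_inf B C h, mul_comm]

/-- Two commuting elementary abelian subgroups generate one. -/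
theorem ea_join {q : ℕ} [Finite G] {B C : Subgroup G} (hB : Cfsg.IsElementaryAbelian q B)
    (hC : Cfsg.IsElementaryAbelian q C) (hc : ∀ b ∈ B, ∀ c ∈ C, b * c = c * b) :
    Cfsg.IsElementaryAbelian q (B ⊔ C : Subgroup G) := by
  have h1 : B ⊔ C ≤ Subgroup.centralizer (B : Set G) :=
    sup_le (fun x hx y hy => comm_of_mem hB hy hx) (fun x hx y hy => hc y hy x hx)
  have h2 : B ⊔ C ≤ Subgroup.centralizer (C : Set G) :=
    sup_le (fun x hx y hy => (hc x hx y hy).symm) (fun x hx y hy => comm_of_mem hC hy hx)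
  have h3 : B ⊔ C ≤ Subgroup.centralizer ((B ⊔ C : Subgroup G) : Set G) :=
    Subgroup.le_centralizer_iff.1
      (sup_le (Subgroup.le_centralizer_iff.1 h1) (Subgroup.le_centralizer_iff.1 h2))
  refine Offenders.ea_mono (Offenders.omegaOne_ea (K := B ⊔ C) fun x hx y hy => h3 hy x hx) ?_
  exact sup_le (fun x hx => Offenders.mem_omegaOne (Subgroup.mem_sup_left hx) (hB.2 x hx))
    (fun x hx => Offenders.mem_omegaOne (Subgroup.mem_sup_right hx) (hC.2 x hx))

/-- A largest elementary abelian subgroup of `D` against an elementary abelian `U ≤ D`. -/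
theorem max_bound {q : ℕ} [Finite G] {D U X : Subgroup G} (hU : Cfsg.IsElementaryAbelian q U)
    (hUD : U ≤ D) (hX : Offenders.IsMaxIn q D X) :
    Nat.card ↥U ≤ (X ⊓ Subgroup.centralizer (U : Set G)).relIndex X *
      Nat.card ↥(U ⊓ Subgroup.centralizer (X : Set G)) := by
  set R := X ⊓ Subgroup.centralizer (U : Set G) with hR
  have hcomm : ∀ r ∈ R, ∀ v ∈ U, r * v = v * r := fun r hr v hv =>
    ((Subgroup.mem_inf.1 hr).2 v hv).symm
  have hea := ea_join (elementaryAbelian_of_le hX.2.1 inf_le_left) hU hcomm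
  have h1 : Nat.card ↥(R ⊔ U) ≤ Nat.card ↥X :=
    hX.2.2 _ (sup_le (inf_le_left.trans hX.1) hUD) hea
  have h2 := OffendersReplace.card_sup_mul_card_inf R U
    (OffendersReplace.le_normalizer_of_commute hcomm)
  have h3 : Nat.card ↥(R ⊓ U : Subgroup G) ≤
      Nat.card ↥(U ⊓ Subgroup.centralizer (X : Set G)) :=
    Subgroup.card_le_of_le (le_inf inf_le_right fun z hz x hx =>
      comm_of_mem hX.2.1 hx hz.1.1)
  have h4 := card_mul_relIndex (inf_le_left : R ≤ X)
  refine Nat.le_of_mul_le_mul_left (c := Nat.card ↥R) ?_ Nat.card_pos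
  rw [← h2, ← mul_assoc, h4]
  exact Nat.mul_le_mul h1 h3

theorem arith_eside {k k' e : ℕ} (he : e ≤ k) (h1 : k' ^ 2 < e * k) (h2 : k ^ 2 < e * k') :
    False := by
  rcases le_or_gt k k' with h | h <;> nlinarith

theorem arith_sym {k k' : ℕ} (h1 : k' ^ 2 < k) (h2 : k ^ 2 < k') : False := by
  have := Nat.le_self_pow two_ne_zero k
  have := Nat.le_self_pow two_ne_zero k'
  omega

theorem arith_max {a b : ℕ} (ha : 0 < a) (h1 : a ^ 2 < a * b) (h2 : b ^ 2 ≤ a * b) : False := by
  rw [sq] at h1 h2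
  have h3 := Nat.lt_of_mul_lt_mul_left h1
  nlinarith

end SFTHat

open SFTHat

namespace Base

variable {G : Type u} [Group G] [Finite G] {p : ℕ} {A : Subgroup G} {θ : G → Subgroup G}
  {q : ℕ} [Fact q.Prime] {D L N : Subgroup G} (h : Base p A θ q D L)
include h

/-- The bound for an elementary abelian group acting on `U` like a subgroup of `D`. -/
theorem kbound_ea {B : Subgroup G} (hB : Cfsg.IsElementaryAbelian q B)
    (hBD : ∀ b ∈ B, ∃ d ∈ D, d⁻¹ * b ∈ Subgroup.centralizer (clZ q L D : Set G))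
    (hne : ¬ B ≤ Subgroup.centralizer (clZ q L D : Set G)) :
    (B ⊓ Subgroup.centralizer (clZ q L D : Set G)).relIndex B ^ 2 *
        Nat.card ↥(clZ q L D ⊓ Subgroup.centralizer (B : Set G)) < Nat.card ↥(clZ q L D) :=
  h.kbound hBD (fun a ha b hb => by
      rw [commutatorElement_eq_one_iff_mul_comm.2 (comm_of_mem hB ha hb)]
      exact one_mem _)
    (fun b hb => by rw [hB.2 b hb]; exact one_mem _) hne

theorem conj_oq_le (_hN : IsMax p A θ N) {f : G} (hf : f ∈ hat q N) {S : Subgroup G}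
    (hS : S ≤ Cfsg.pCoreOf q N) : S.map (MulAut.conj f).toMonoidHom ≤ Cfsg.pCoreOf q N := by
  rintro _ ⟨x, hx, rfl⟩
  exact mem_normalizer_conj (le_normalizer_oq q N (hat_le N hf)) (hS hx)

theorem max_le_centralizer {X : Subgroup G} (hX : Offenders.IsMaxIn q D X) :
    X ≤ Subgroup.centralizer (clZ q L D : Set G) := by
  by_contra hne
  have h1 := h.kbound_ea hX.2.1 (fun b hb => ⟨b, hX.1 hb, by simp [one_mem]⟩) hne
  have h2 := max_bound h.clZ_ea h.clZ_le_D hX
  have h3 := Nat.lt_of_lt_of_le h1 h2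
  have h4 := Nat.lt_of_mul_lt_mul_right h3
  have := Nat.le_self_pow two_ne_zero
    ((X ⊓ Subgroup.centralizer (clZ q L D : Set G)).relIndex X)
  omega

/-- (a): `U ≤ O_q(N)`. -/
theorem clZ_le_oq (hN : IsPure p A θ q N) (hDN : D ≤ N) :
    clZ q L D ≤ Cfsg.pCoreOf q N := by
  set U := clZ q L D with hU
  set P := Cfsg.pCoreOf q N with hP
  set NP := Subgroup.normalizer (P : Set G) with hNP
  by_contra hUP
  haveI := Fact.mk h.minimal.prime
  have hPD : P ≤ D := h.core_le hN.1
  have hNN : N ≤ NP := le_normalizer_oq q N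
  have hUN : U ≤ N := h.clZ_le_D.trans hDN
  have hPU : P ≤ Subgroup.normalizer (U : Set G) := hPD.trans h.D_norm_clZ
  have hhat : hat q N ≤ NP := (hat_le N).trans hNN
  obtain ⟨V, _, _, _, ρ, π, hπ, hρπ, hρker⟩ := exists_frattini_rep (oq_isPGroup q N)
  have hP1 : ∀ x : ↥NP, (x : G) ∈ P → ρ x = 1 := fun x hx => LinearEquiv.ext fun v => by
    obtain ⟨y, hy⟩ := hπ (Multiplicative.ofAdd v)
    have h1 := hρπ x y ((⟨(x : G), hx⟩ : ↥P) * y * (⟨(x : G), hx⟩ : ↥P)⁻¹) rfl
    simp only [map_mul, map_inv] at h1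
    rw [mul_comm (π _) (π y), mul_inv_cancel_right, hy] at h1
    exact h1
  have hker : ∀ x : ↥NP, (x : G) ∈ N → ρ x = 1 → (x : G) ∈ P := by
    intro x hxN hx
    set K0 := N ⊓ ρ.ker.map NP.subtype with hK0
    have hK0q : IsPGroup q ↥K0 := by
      rintro ⟨g, hgN, z, hz, rfl⟩
      obtain ⟨k, hk⟩ : ∃ k, ¬ q ∣ orderOf ((z : G) ^ q ^ k) := by
        refine ⟨(orderOf (z : G)).factorization q, ?_⟩
        rw [orderOf_pow_of_dvd (pow_ne_zero _ (Fact.out : q.Prime).ne_zero)
          (Nat.ordProj_dvd _ q)]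
        exact Nat.not_dvd_ordCompl Fact.out (orderOf_pos _).ne'
      have hzk : ρ (z ^ q ^ k) = 1 := by rw [map_pow, MonoidHom.mem_ker.1 hz, one_pow]
      have h1 := hρker (z ^ q ^ k) hzk (by simpa using hk)
      have h2 : (z : G) ^ q ^ k ∈ P :=
        hN.centralizer_le ⟨pow_mem hgN _, by simpa using h1⟩
      obtain ⟨j, hj⟩ := IsPGroup.iff_orderOf.1 (oq_isPGroup q N) ⟨_, h2⟩
      rw [Subgroup.orderOf_mk] at hj
      cases j with
      | zero =>
        refine ⟨k, Subtype.ext ?_⟩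
        simpa using orderOf_eq_one_iff.1 (by simpa using hj)
      | succ j => exact absurd (hj ▸ dvd_pow_self q j.succ_ne_zero) hk
    refine le_oq inf_le_left (le_normalizer_inf Subgroup.le_normalizer ?_) hK0q
      ⟨hxN, x, MonoidHom.mem_ker.2 hx, rfl⟩
    refine le_normalizer_of_forall fun g hg y hy => ?_
    obtain ⟨z, hz, rfl⟩ := hy
    exact ⟨⟨g, hNN hg⟩ * z * (⟨g, hNN hg⟩ : ↥NP)⁻¹,
      Subgroup.Normal.conj_mem inferInstance z hz _, by simp⟩
  set E := (U.subgroupOf NP).map ρ with hE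
  set F := ((hat q N).subgroupOf NP).map ρ with hF
  have hnil : ∃ n, lcs F n = ⊥ := by
    obtain ⟨n, hn⟩ := exists_lcs_imOf (q := q) (M := N) ρ
    refine ⟨n, le_bot_iff.1 (hn.trans ?_)⟩
    rintro _ ⟨x, hx, rfl⟩
    exact Subgroup.mem_bot.2 (hP1 x hx)
  have hFq : ¬ q ∣ Nat.card ↥F := not_dvd_card_imOf hN.sol ρ hhat hP1
  have hEF : E ≤ Subgroup.normalizer (F : Set (Aut q V)) := by
    refine (Subgroup.map_mono ?_).trans (Subgroup.le_normalizer_map ρ)
    exact fun x hx => Subgroup.mem_normalizer_iff.2 fun y => by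
      simpa [Subgroup.mem_subgroupOf] using
        Subgroup.mem_normalizer_iff.1 (le_normalizer_hat N (hUN hx)) (y : G)
  have hEc : ∀ a ∈ E, ∀ b ∈ E, a * b = b * a := by
    rintro _ ⟨a, ha, rfl⟩ _ ⟨b, hb, rfl⟩
    rw [← map_mul, ← map_mul]
    exact congrArg ρ (Subtype.ext (comm_of_mem h.clZ_ea ha hb))
  have hEq : ∀ e ∈ E, e ^ q = 1 := by
    rintro _ ⟨a, ha, rfl⟩
    rw [← map_pow, show a ^ q = 1 from Subtype.ext (by simpa using h.clZ_ea.2 _ ha), map_one]
  have hcomm : ∀ e ∈ E, ∀ v, ∃ c : ↥P, (c : G) ∈ U ∧ (π c).toAdd = e v - v := by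
    rintro _ ⟨a, ha, rfl⟩ v
    obtain ⟨y, hy⟩ := hπ (Multiplicative.ofAdd v)
    have hz : (a : G) * y * (a : G)⁻¹ ∈ P := mem_normalizer_conj a.2 y.2
    refine ⟨⟨_, hz⟩ * y⁻¹, ?_, ?_⟩
    · have := mul_mem (Subgroup.mem_subgroupOf.1 ha)
        (mem_normalizer_conj (hPU y.2) (inv_mem (Subgroup.mem_subgroupOf.1 ha)))
      simpa [mul_assoc] using this
    · rw [map_mul, map_inv, toAdd_mul, toAdd_inv, ← hρπ a y ⟨_, hz⟩ rfl, hy, toAdd_ofAdd,
        ← sub_eq_add_neg]
  have hquad : ∀ e ∈ E, ∀ f ∈ E, ∀ v, f (e v - v) = e v - v := by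
    intro e he f hf v
    obtain ⟨c, hc, hcv⟩ := hcomm e he v
    obtain ⟨b, hb, rfl⟩ := hf
    rw [← hcv]
    exact hρπ b c c (by
      rw [comm_of_mem h.clZ_ea (Subgroup.mem_subgroupOf.1 hb) hc, mul_inv_cancel_right])
  have hfaith : ∀ e ∈ E, (∀ x ∈ F, e * x = x * e) → e = 1 := by
    rintro _ ⟨a, ha, rfl⟩ hc
    refine hP1 a (mem_oq_of_comm hN.sol (hUN ha) ?_ fun x hx => ?_)
    · obtain ⟨k, hk⟩ := IsPGroup.iff_orderOf.1 (h.D_pgroup.to_le h.clZ_le_D)
        (⟨(a : G), Subgroup.mem_subgroupOf.1 ha⟩ : ↥U)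
      exact ⟨k, by rw [← hk, ← Subgroup.orderOf_coe]⟩
    · have h1 : ρ ⁅(⟨x, hhat hx⟩ : ↥NP), a⁆ = 1 := by
        rw [map_commutatorElement, commutatorElement_eq_one_iff_mul_comm]
        exact (hc _ ⟨⟨x, hhat hx⟩, hx, rfl⟩).symm
      have h2 : ((⁅(⟨x, hhat hx⟩ : ↥NP), a⁆ : ↥NP) : G) = ⁅x, (a : G)⁆ := by
        simp [commutatorElement_def]
      refine h2 ▸ hker _ ?_ h1
      rw [h2, commutatorElement_def]
      exact mul_mem (mul_mem (mul_mem (hat_le N hx) (hUN ha)) (inv_mem (hat_le N hx)))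
        (inv_mem (hUN ha))
  obtain ⟨f', hf', hes⟩ := eside q V F E hnil hFq hEF hEc hEq hquad hfaith
  obtain ⟨f, hf, rfl⟩ := hf'
  have hfh : (f : G) ∈ hat q N := hf
  set B' := U ⊓ P with hB'
  set U1 := U.map (MulAut.conj (f : G)).toMonoidHom with hU1
  set B := B'.map (MulAut.conj (f : G)).toMonoidHom with hB
  set B2 := B'.map (MulAut.conj (f : G)⁻¹).toMonoidHom with hB2
  set C := B' ⊓ Subgroup.centralizer (U1 : Set G) with hC
  have hB'P : B' ≤ P := inf_le_right
  have hBD : B ≤ D := (conj_oq_le h hN.1 hfh hB'P).trans hPD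
  have hB2D : B2 ≤ D := (conj_oq_le h hN.1 (inv_mem hfh) hB'P).trans hPD
  have hEcard : Nat.card ↥E * Nat.card ↥B' = Nat.card ↥U := by
    have hUNP : U ≤ NP := hUN.trans hNN
    set g := ρ.comp (Subgroup.inclusion hUNP)
    have h1 : g.range = E := by
      rw [MonoidHom.range_comp, Subgroup.inclusion_range]
    have h2 : Nat.card g.ker = Nat.card ↥B' := by
      refine Nat.card_congr
        { toFun := fun s => ⟨(s : ↥U), (s : ↥U).2, hker _ (hUN (s : ↥U).2) (MonoidHom.mem_ker.1 s.2)⟩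
          invFun := fun s => ⟨⟨s, s.2.1⟩, MonoidHom.mem_ker.2 (hP1 _ s.2.2)⟩
          left_inv := fun _ => rfl
          right_inv := fun _ => rfl }
    rw [← h1, ← h2, ← Subgroup.index_ker, mul_comm, g.ker.card_mul_index]
  -- `|E|` is at most `|B' : C|`
  have hek : Nat.card ↥E ≤ C.relIndex B' := by
    set K := disp E ⊓ fix (E.map (MulAut.conj (ρ f)).toMonoidHom) with hK
    set Dp : Subgroup (Multiplicative V) := AddSubgroup.toSubgroup (disp E).toAddSubgroup
    set Kp : Subgroup (Multiplicative V) := AddSubgroup.toSubgroup K.toAddSubgroup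
    set B0 := B'.subgroupOf P
    have hsub : disp E ≤ AddSubgroup.toZModSubmodule q
        (Subgroup.toAddSubgroup' (B0.map π)) := by
      refine Submodule.span_le.2 ?_
      rintro _ ⟨e, he, v, rfl⟩
      obtain ⟨c, hc, hcv⟩ := hcomm e he v
      exact ⟨c, Subgroup.mem_inf.2 ⟨hc, c.2⟩, congrArg Multiplicative.ofAdd hcv⟩
    have hmap : (B0 ⊓ Dp.comap π).map π = Dp := by
      refine le_antisymm ?_ fun w hw => ?_
      · rintro _ ⟨c, hc, rfl⟩
        exact hc.2
      · obtain ⟨c, hc, hcw⟩ := hsub hw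
        have hcw' : π c = w := hcw
        exact ⟨c, ⟨hc, show π c ∈ Dp from hcw'.symm ▸ hw⟩, hcw'⟩
    have hKD : Kp ≤ Dp := fun w hw => hw.1
    have h1 : Nat.card ↥E ≤ Kp.relIndex Dp := by
      have h2 := card_mul_relIndex hKD
      have h3 : Nat.card ↥Kp = Nat.card ↥K := rfl
      have h4 : Nat.card ↥Dp = Nat.card ↥(disp E) := rfl
      rw [h3, h4, mul_comm] at h2
      rw [← h2] at hes
      exact Nat.le_of_mul_le_mul_right hes Nat.card_pos
    rw [← hmap, ← Subgroup.relIndex_comap] at h1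
    refine h1.trans (le_trans ?_ (le_of_eq (Subgroup.relIndex_subgroupOf hB'P)))
    refine le_trans ?_ (Subgroup.relIndex_le_of_le_right (inf_le_left : B0 ⊓ Dp.comap π ≤ B0)
      Subgroup.FiniteIndex.index_ne_zero)
    rw [← Subgroup.inf_relIndex_right (C.subgroupOf P)]
    refine Subgroup.relIndex_le_of_le_left ?_ Subgroup.FiniteIndex.index_ne_zero
    rintro c ⟨hc, hcD⟩
    refine ⟨hcD.2, ?_⟩
    rintro _ ⟨_, ⟨a, ha, rfl⟩, rfl⟩
    have h5 : ((f * a * f⁻¹ : ↥NP) : G) ∈ U1 := mem_map_conj_iff.2 (by simpa [mul_assoc, Subgroup.mem_subgroupOf] using ha)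
    have h6 := (Subgroup.mem_inf.1 (Subgroup.mem_subgroupOf.1 hc)).2 _ h5
    have h7 := hρπ (f * a * f⁻¹) c c (by rw [h6, mul_inv_cancel_right])
    simpa [map_mul, map_inv] using h7
  have he1 : 1 < Nat.card ↥E := by
    have : Finite (Aut q V) := finite_aut
    refine Nat.one_lt_iff_ne_zero_and_ne_one.2 ⟨Nat.card_pos.ne', fun he => hUP ?_⟩
    rw [he, one_mul] at hEcard
    exact inf_eq_left.1 (Subgroup.eq_of_le_of_card_ge inf_le_left hEcard.ge)
  have hconjC : ∀ T S : Subgroup G, T.map (MulAut.conj (f : G)).toMonoidHom = S →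
      (Subgroup.centralizer (T : Set G)).map (MulAut.conj (f : G)).toMonoidHom =
        Subgroup.centralizer (S : Set G) := by
    rintro T _ rfl
    exact map_conj_centralizer T _
  -- the two conjugates
  have hB2C : (B2 ⊓ Subgroup.centralizer (U : Set G)).map (MulAut.conj (f : G)).toMonoidHom = C := by
    rw [map_conj_inf, hB2, map_conj_inv, hconjC U U1 rfl]
  have hk : (B2 ⊓ Subgroup.centralizer (U : Set G)).relIndex B2 = C.relIndex B' := by
    rw [← hB2C, ← map_conj_inv B' (f : G), ← hB2,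
      Subgroup.relIndex_map_map_of_injective _ _ (MulAut.conj (f : G)).injective]
  have hB'U : Cfsg.IsElementaryAbelian q B' := elementaryAbelian_of_le h.clZ_ea inf_le_left
  set k := C.relIndex B' with hkdef
  set k' := (B ⊓ Subgroup.centralizer (U : Set G)).relIndex B with hk'def
  have hB2ne : ¬ B2 ≤ Subgroup.centralizer (U : Set G) := fun hle => by
    rw [inf_eq_left.2 hle, Subgroup.relIndex_self] at hk
    omega
  have b2 := h.kbound_ea (Offenders.ea_map hB'U _) (fun b hb => ⟨b, hB2D hb, by simp [one_mem]⟩)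
    hB2ne
  rw [← hU, hk] at b2
  have hcardB : Nat.card ↥B = Nat.card ↥B' := card_conj _ _
  have hcardB2 : Nat.card ↥B2 = Nat.card ↥B' := card_conj _ _
  have hC2 : Nat.card ↥(B ⊓ Subgroup.centralizer (U : Set G) : Subgroup G) ≤
      Nat.card ↥(U ⊓ Subgroup.centralizer (B2 : Set G) : Subgroup G) := by
    rw [← card_conj (U ⊓ Subgroup.centralizer (B2 : Set G)) (f : G), map_conj_inf,
      hconjC B2 B' (map_conj_inv _ _)]
    refine Subgroup.card_le_of_le (le_inf (inf_le_left.trans (Subgroup.map_mono inf_le_left)) ?_)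
    exact inf_le_right.trans (Subgroup.centralizer_le inf_le_left)
  have e2 := card_inf_mul (Subgroup.centralizer (U : Set G)) B
  rw [hcardB, ← hk'def] at e2
  have hlt2 : k ^ 2 < Nat.card ↥E * k' := by
    refine Nat.lt_of_mul_lt_mul_right
      (a := Nat.card ↥(U ⊓ Subgroup.centralizer (B2 : Set G) : Subgroup G)) (lt_of_lt_of_le b2 ?_)
    rw [← hEcard, ← e2]
    calc _ = Nat.card ↥E * k' * Nat.card ↥(B ⊓ Subgroup.centralizer (U : Set G) : Subgroup G) := by
          ring
      _ ≤ _ := Nat.mul_le_mul le_rfl hC2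
  rcases eq_or_ne k' 1 with hk1 | hk1
  · rw [hk1, mul_one, sq] at hlt2
    nlinarith
  have hBne : ¬ B ≤ Subgroup.centralizer (U : Set G) := fun hle => by
    apply hk1
    rw [hk'def, inf_eq_left.2 hle, Subgroup.relIndex_self]
  have b1 := h.kbound_ea (Offenders.ea_map hB'U _) (fun b hb => ⟨b, hBD hb, by simp [one_mem]⟩)
    hBne
  rw [← hU, ← hk'def] at b1
  have hC1 : Nat.card ↥C ≤ Nat.card ↥(U ⊓ Subgroup.centralizer (B : Set G) : Subgroup G) :=
    Subgroup.card_le_of_le (le_inf (inf_le_left.trans inf_le_left)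
      (inf_le_right.trans (Subgroup.centralizer_le (Subgroup.map_mono inf_le_left))))
  have e1 := card_mul_relIndex (inf_le_left : C ≤ B')
  rw [← hkdef] at e1
  have hlt1 : k' ^ 2 < Nat.card ↥E * k := by
    refine Nat.lt_of_mul_lt_mul_right
      (a := Nat.card ↥(U ⊓ Subgroup.centralizer (B : Set G) : Subgroup G)) (lt_of_lt_of_le b1 ?_)
    rw [← hEcard, ← e1]
    calc _ = Nat.card ↥E * k * Nat.card ↥C := by ring
      _ ≤ _ := Nat.mul_le_mul le_rfl hC1
  exact arith_eside hek hlt1 hlt2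

/-- The conjugates of `U` under `hat q N` centralise `U`. -/
theorem clZ_comm_conj (hN : IsPure p A θ q N) (hDN : D ≤ N) {f : G} (hf : f ∈ hat q N) :
    (clZ q L D).map (MulAut.conj f).toMonoidHom ≤ Subgroup.centralizer (clZ q L D : Set G) := by
  set U := clZ q L D with hU
  set B := U.map (MulAut.conj f).toMonoidHom with hB
  set B2 := U.map (MulAut.conj f⁻¹).toMonoidHom with hB2
  by_contra hne
  have hUP := h.clZ_le_oq hN hDN
  have hPD := h.core_le hN.1
  have hne2 : ¬ B2 ≤ Subgroup.centralizer (U : Set G) := fun hle => hne <| by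
    have h1 := Subgroup.map_mono (f := (MulAut.conj f).toMonoidHom) hle
    rw [hB2, map_conj_inv, map_conj_centralizer] at h1
    exact Subgroup.le_centralizer_iff.1 h1
  have b1 := h.kbound_ea (Offenders.ea_map h.clZ_ea _)
    (fun b hb => ⟨b, hPD (conj_oq_le h hN.1 hf hUP hb), by simp [one_mem]⟩) hne
  have b2 := h.kbound_ea (Offenders.ea_map h.clZ_ea _)
    (fun b hb => ⟨b, hPD (conj_oq_le h hN.1 (inv_mem hf) hUP hb), by simp [one_mem]⟩) hne2
  rw [← hU] at b1 b2
  have e1 : Nat.card ↥(U ⊓ Subgroup.centralizer (B : Set G) : Subgroup G) =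
      Nat.card ↥(B2 ⊓ Subgroup.centralizer (U : Set G) : Subgroup G) := by
    rw [← card_conj (B2 ⊓ Subgroup.centralizer (U : Set G)) f, map_conj_inf, hB2, map_conj_inv,
      map_conj_centralizer]
  have e2 : Nat.card ↥(U ⊓ Subgroup.centralizer (B2 : Set G) : Subgroup G) =
      Nat.card ↥(B ⊓ Subgroup.centralizer (U : Set G) : Subgroup G) := by
    rw [← card_conj (U ⊓ Subgroup.centralizer (B2 : Set G)) f, map_conj_inf, map_conj_centralizer,
      hB2, map_conj_inv]
  have c1 := card_inf_mul (Subgroup.centralizer (U : Set G)) B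
  have c2 := card_inf_mul (Subgroup.centralizer (U : Set G)) B2
  rw [hB, card_conj] at c1
  rw [hB2, card_conj] at c2
  rw [e1, ← c2, mul_comm (Nat.card ↥(B2 ⊓ _ : Subgroup G))] at b1
  rw [e2, ← c1, mul_comm (Nat.card ↥(B ⊓ _ : Subgroup G))] at b2
  exact arith_sym (Nat.lt_of_mul_lt_mul_right b1) (Nat.lt_of_mul_lt_mul_right b2)

/-- The product of the conjugates of `U` under `hat q N`. -/
theorem exists_closure (hN : IsPure p A θ q N) (hDN : D ≤ N) :
    ∃ Y : Subgroup G, Cfsg.IsElementaryAbelian q Y ∧ Y ≤ Cfsg.pCoreOf q N ∧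
      clZ q L D ≤ Y ∧ (∀ f ∈ hat q N, (clZ q L D).map (MulAut.conj f).toMonoidHom ≤ Y) ∧
      (∀ S : Subgroup G, (∀ f ∈ hat q N, (clZ q L D).map (MulAut.conj f).toMonoidHom ≤ S) → Y ≤ S) ∧
      hat q N ≤ Subgroup.normalizer (Y : Set G) ∧ D ≤ Subgroup.normalizer (Y : Set G) ∧
      A ≤ Subgroup.normalizer (Y : Set G) := by
  set U := clZ q L D with hU
  set Y : Subgroup G := ⨆ f : ↥(hat q N), U.map (MulAut.conj (f : G)).toMonoidHom with hY
  have hmem : ∀ f ∈ hat q N, U.map (MulAut.conj f).toMonoidHom ≤ Y := fun f hf =>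
    le_iSup (fun f : ↥(hat q N) => U.map (MulAut.conj (f : G)).toMonoidHom) ⟨f, hf⟩
  have hnorm : ∀ g, g ∈ Subgroup.normalizer (hat q N : Set G) →
      g ∈ Subgroup.normalizer (U : Set G) → g ∈ Subgroup.normalizer (Y : Set G) := by
    intro g hg hgU
    refine SFTSigma.mem_normalizer_of_map_conj_eq (Subgroup.eq_of_le_of_card_ge ?_
      (card_conj _ _).ge)
    rw [hY, Subgroup.map_iSup]
    refine iSup_le fun x => le_trans (le_of_eq ?_) (hmem _ (mem_normalizer_conj hg x.2))
    conv_rhs => rw [← SFTSigma.map_conj_eq_of_mem_normalizer hgU]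
    rw [Subgroup.map_map, Subgroup.map_map]
    congr 1
    ext y
    simp [mul_assoc]
  have hhat : hat q N ≤ Subgroup.normalizer (Y : Set G) := by
    intro g hg
    refine SFTSigma.mem_normalizer_of_map_conj_eq (Subgroup.eq_of_le_of_card_ge ?_
      (card_conj _ _).ge)
    rw [hY, Subgroup.map_iSup]
    refine iSup_le fun x => le_trans (le_of_eq ?_) (hmem _ (mul_mem hg x.2))
    rw [Subgroup.map_map]
    congr 1
    ext y
    simp [mul_assoc]
  have hone : U ≤ Y := fun z hz => hmem 1 (one_mem _) ⟨z, hz, by simp⟩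
  have habel : ∀ f ∈ hat q N, ∀ g ∈ hat q N, U.map (MulAut.conj f).toMonoidHom ≤
      Subgroup.centralizer ((U.map (MulAut.conj g).toMonoidHom : Subgroup G) : Set G) := by
    intro f hf g hg
    have h1 := Subgroup.map_mono (f := (MulAut.conj g).toMonoidHom)
      (h.clZ_comm_conj hN hDN (mul_mem (inv_mem hg) hf))
    rw [map_conj_centralizer, Subgroup.map_map] at h1
    refine le_trans (le_of_eq ?_) h1
    congr 1
    ext y
    simp [mul_assoc]
  have hYc : Y ≤ Subgroup.centralizer (Y : Set G) :=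
    iSup_le fun f => Subgroup.le_centralizer_iff.1 (iSup_le fun g => habel g g.2 f f.2)
  refine ⟨Y, Offenders.ea_mono (Offenders.omegaOne_ea (K := Y) fun x hx y hy => hYc hy x hx)
    (iSup_le fun f x hx => ?_), iSup_le fun f => conj_oq_le h hN.1 f.2 (h.clZ_le_oq hN hDN),
    hone, hmem, fun S hS => iSup_le fun f => hS f f.2, hhat,
    fun d hd => hnorm d (le_normalizer_hat N (hDN hd)) (h.D_norm_clZ hd),
    fun a ha => hnorm a (A_norm_hat h.minimal hN.1 ha) (h.A_norm_clZ ha)⟩
  refine Offenders.mem_omegaOne (hmem f f.2 hx) ?_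
  obtain ⟨y, hy, rfl⟩ := hx
  rw [← map_pow, h.clZ_ea.2 y hy, map_one]

/-- A group in `D C(U)` after conjugation has few fixed points on the closure. -/
theorem closure_bound {Y S : Subgroup G} (hS : Cfsg.IsElementaryAbelian q S)
    (hgen : ∀ R : Subgroup G, (∀ f ∈ hat q N, (clZ q L D).map (MulAut.conj f).toMonoidHom ≤ R) →
      Y ≤ R)
    (hmem : ∀ f ∈ hat q N, (clZ q L D).map (MulAut.conj f).toMonoidHom ≤ Y)
    (hSD : ∀ x ∈ S, ∀ f ∈ hat q N,
      ∃ d ∈ D, d⁻¹ * (f⁻¹ * x * f) ∈ Subgroup.centralizer (clZ q L D : Set G))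
    (hY : ∀ a ∈ Y, ∀ b ∈ Y, a * b = b * a) :
    ∀ T : Subgroup G, T ≤ S → (T ⊓ Subgroup.centralizer (Y : Set G)).relIndex T ^ 2 *
      Nat.card ↥(Y ⊓ Subgroup.centralizer (T : Set G) : Subgroup G) ≤ Nat.card ↥Y := by
  intro T
  induction hn : Nat.card ↥T using Nat.strong_induction_on generalizing T with
  | _ n ih =>
  intro hTS
  by_cases hTY : T ≤ Subgroup.centralizer (Y : Set G)
  · rw [inf_eq_left.2 hTY, Subgroup.relIndex_self, one_pow, one_mul]
    exact Subgroup.card_le_of_le inf_le_left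
  obtain ⟨f, hf, hfT⟩ : ∃ f ∈ hat q N, ¬ T ≤
      Subgroup.centralizer (((clZ q L D).map (MulAut.conj f).toMonoidHom : Subgroup G) : Set G) := by
    by_contra hall
    push Not at hall
    exact hTY (Subgroup.le_centralizer_iff.1
      (hgen _ fun f hf => Subgroup.le_centralizer_iff.1 (hall f hf)))
  set U := clZ q L D with hU
  set W := U.map (MulAut.conj f).toMonoidHom with hW
  set B := T.map (MulAut.conj f⁻¹).toMonoidHom with hB
  set T' := T ⊓ Subgroup.centralizer (W : Set G) with hT'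
  have hTW : T ⊓ Subgroup.centralizer (W : Set G) =
      (B ⊓ Subgroup.centralizer (U : Set G)).map (MulAut.conj f).toMonoidHom := by
    rw [map_conj_inf, map_conj_centralizer, hB, map_conj_inv]
  have hBne : ¬ B ≤ Subgroup.centralizer (U : Set G) := fun hle => hfT (by
    have h1 := hTW
    rw [inf_eq_left.2 hle, hB, map_conj_inv] at h1
    exact inf_eq_left.1 h1)
  have b := h.kbound_ea (Offenders.ea_map (elementaryAbelian_of_le hS hTS) _) (fun b hb => by
    have hb' := mem_map_conj_iff.1 hb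
    obtain ⟨d, hd, hdb⟩ := hSD _ (hTS hb') f hf
    exact ⟨d, hd, by simpa [mul_assoc] using hdb⟩) hBne
  rw [← hU] at b
  have hr : (B ⊓ Subgroup.centralizer (U : Set G)).relIndex B = T'.relIndex T := by
    rw [hT', hTW]
    conv_rhs => arg 2; rw [← map_conj_inv T f, ← hB]
    rw [Subgroup.relIndex_map_map_of_injective _ _ (MulAut.conj f).injective]
  rw [hr, ← card_conj (U ⊓ Subgroup.centralizer (B : Set G)) f, ← card_conj U f, map_conj_inf,
    map_conj_centralizer, hB, map_conj_inv, ← hW] at b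
  have hlt : Nat.card ↥T' < n := by
    rw [← hn]
    refine lt_of_le_of_ne (Subgroup.card_le_of_le inf_le_left) fun he => hfT ?_
    exact inf_eq_left.1 (Subgroup.eq_of_le_of_card_ge inf_le_left he.ge)
  have ih' := ih _ hlt T' rfl (inf_le_left.trans hTS)
  have hTY' : T' ⊓ Subgroup.centralizer (Y : Set G) = T ⊓ Subgroup.centralizer (Y : Set G) :=
    le_antisymm (inf_le_inf_right _ inf_le_left)
      (le_inf (le_inf inf_le_left (inf_le_right.trans (Subgroup.centralizer_le (hmem f hf))))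
        inf_le_right)
  rw [hTY'] at ih'
  have hsplit : (T ⊓ Subgroup.centralizer (Y : Set G)).relIndex T =
      (T ⊓ Subgroup.centralizer (Y : Set G)).relIndex T' * T'.relIndex T :=
    (Subgroup.relIndex_mul_relIndex _ _ _ (hTY' ▸ inf_le_left) inf_le_left).symm
  set Z := Y ⊓ Subgroup.centralizer (T : Set G)
  set Z' := Y ⊓ Subgroup.centralizer (T' : Set G)
  have hWY : W ≤ Y := hmem f hf
  have hWZ' : W ≤ Z' := le_inf hWY (Subgroup.le_centralizer_iff.1 inf_le_right)
  have hZZ' : Z ≤ Z' := inf_le_inf_left _ (Subgroup.centralizer_le inf_le_left)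
  have h5 : Nat.card ↥Z * Nat.card ↥W ≤
      Nat.card ↥Z' * Nat.card ↥(W ⊓ Subgroup.centralizer (T : Set G) : Subgroup G) := by
    rw [← OffendersReplace.card_sup_mul_card_inf Z W
      (OffendersReplace.le_normalizer_of_commute fun z hz w hw => hY z hz.1 w (hWY hw))]
    exact Nat.mul_le_mul (Subgroup.card_le_of_le (sup_le hZZ' hWZ'))
      (Subgroup.card_le_of_le (le_inf inf_le_right (inf_le_left.trans inf_le_right)))
  have h6 : T'.relIndex T ^ 2 * Nat.card ↥Z ≤ Nat.card ↥Z' := by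
    refine Nat.le_of_mul_le_mul_right
      (c := Nat.card ↥(W ⊓ Subgroup.centralizer (T : Set G) : Subgroup G)) ?_ Nat.card_pos
    calc T'.relIndex T ^ 2 * Nat.card ↥Z *
          Nat.card ↥(W ⊓ Subgroup.centralizer (T : Set G) : Subgroup G)
        = Nat.card ↥Z * (T'.relIndex T ^ 2 *
          Nat.card ↥(W ⊓ Subgroup.centralizer (T : Set G) : Subgroup G)) := by ring
      _ ≤ Nat.card ↥Z * Nat.card ↥W := Nat.mul_le_mul le_rfl b.le
      _ ≤ _ := h5
  rw [hsplit, mul_pow, mul_assoc]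
  exact le_trans (Nat.mul_le_mul le_rfl h6) ih'

/-- (c): the largest elementary abelian subgroups of `D` centralise the closure. -/
theorem max_le_centralizer_closure (hK : KPlus.{u}) (hN : IsPure p A θ q N) (hDN : D ≤ N)
    {Y : Subgroup G} (hYe : Cfsg.IsElementaryAbelian q Y) (hYP : Y ≤ Cfsg.pCoreOf q N)
    (hUY : clZ q L D ≤ Y)
    (hmem : ∀ f ∈ hat q N, (clZ q L D).map (MulAut.conj f).toMonoidHom ≤ Y)
    (hgen : ∀ R : Subgroup G, (∀ f ∈ hat q N, (clZ q L D).map (MulAut.conj f).toMonoidHom ≤ R) →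
      Y ≤ R)
    (hhat : hat q N ≤ Subgroup.normalizer (Y : Set G))
    (hDY : D ≤ Subgroup.normalizer (Y : Set G)) (hAY : A ≤ Subgroup.normalizer (Y : Set G))
    {X : Subgroup G} (hX : Offenders.IsMaxIn q D X) :
    X ≤ Subgroup.centralizer (Y : Set G) := by
  haveI := Fact.mk h.minimal.prime
  set P := Cfsg.pCoreOf q N with hP
  set NY := Subgroup.normalizer (Y : Set G) with hNY
  have hPD : P ≤ D := h.core_le hN.1
  obtain ⟨V, _, _, _, ρ, e, he, -⟩ := exists_rep (q := q) hYe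
  set F := ((hat q N).subgroupOf NY).map ρ with hF
  set Q := (P.subgroupOf NY).map ρ with hQ
  set A' := (A.subgroupOf NY).map ρ with hA'
  set D' := (D.subgroupOf NY).map ρ with hD'
  set X' := (X.subgroupOf NY).map ρ with hX'
  have hone : ∀ {x : ↥NY}, (x : G) ∈ Subgroup.centralizer (Y : Set G) → ρ x = 1 :=
    fun {x} hx => (rep_eq_one he).2 hx
  have hnorm : ∀ S R : Subgroup G, S ≤ Subgroup.normalizer (R : Set G) →
      (S.subgroupOf NY).map ρ ≤
        Subgroup.normalizer (((R.subgroupOf NY).map ρ : Subgroup _) : Set _) := by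
    intro S R hSR
    refine (Subgroup.map_mono ?_).trans (Subgroup.le_normalizer_map ρ)
    exact fun x hx => Subgroup.mem_normalizer_iff.2 fun y => by
      simpa [Subgroup.mem_subgroupOf] using Subgroup.mem_normalizer_iff.1 (hSR hx) (y : G)
  have hFP : hat q N ≤ Subgroup.normalizer (P : Set G) := (hat_le N).trans (le_normalizer_oq q N)
  have hcardhat : Nat.card ↥((hat q N).subgroupOf NY) ∣ Nat.card ↥N := by
    rw [Nat.card_congr (Subgroup.subgroupOfEquivOfLe hhat).toEquiv]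
    exact Subgroup.card_dvd_of_le (hat_le N)
  have hctx : Ctx q p F Q A' D' := by
    refine ⟨Subgroup.map_mono fun x hx => oq_le_hat N hx, hnorm _ _ hFP,
      ((oq_isPGroup q N).comap_subtype (K := NY)).map ρ, ?_,
      exists_lcs_imOf (q := q) (M := N) ρ,
      (h.minimal.toSetup.isPGroup.comap_subtype (K := NY)).map ρ,
      hnorm A (hat q N) (A_norm_hat h.minimal hN.1),
      hnorm A P (h.minimal.toSetup.le_normalizer (h.minimal.toSetup.oq_mem hN.1.1 q)),
      hnorm A D h.A_norm_D,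
      fun hd => hN.1.1.2.1 (hd.trans ((Subgroup.card_map_dvd _ _).trans hcardhat)),
      (h.D_pgroup.comap_subtype (K := NY)).map ρ,
      hnorm D (hat q N) (hDN.trans (le_normalizer_hat N)),
      hnorm D P (hDN.trans (le_normalizer_oq q N)), ?_⟩
    · rw [← Subgroup.relIndex_comap]
      intro hd
      have h1 := hd.trans (Subgroup.relIndex_dvd_of_le_left ((hat q N).subgroupOf NY)
        (Subgroup.le_comap_map ρ (P.subgroupOf NY)))
      rw [Subgroup.relIndex_subgroupOf hhat] at h1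
      exact not_dvd_relIndex_hat hN.sol h1
    · intro y hy hyA d hd
      obtain ⟨x, hx, hxA, rfl⟩ := exists_fixed_lift ρ
        ((h.minimal.toSetup.isPGroup.comap_subtype (K := NY)))
        (fun a ha => Subgroup.mem_normalizer_iff.2 fun z => by
          simpa [Subgroup.mem_subgroupOf] using
            Subgroup.mem_normalizer_iff.1 (A_norm_hat h.minimal hN.1 ha) (z : G))
        (fun hd => hN.1.1.2.1 (hd.trans hcardhat))
        hy (fun a ha => hyA _ ⟨a, ha, rfl⟩)
      obtain ⟨z, hz, rfl⟩ := hd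
      rw [← map_commutatorElement]
      refine ⟨_, ?_, rfl⟩
      have := fixed_comm h.minimal hN.1 h.D_pgroup hDN h.W.2.1 hx (c := (x : G))
        (fun a ha => congrArg Subtype.val (hxA ⟨a, hAY ha⟩ ha)) hz
      simpa [Subgroup.mem_subgroupOf, commutatorElement_def] using this
  have hXN : X ≤ NY := hX.1.trans hDY
  set S := X ⊓ ((kerOn F Q X').comap ρ).map NY.subtype with hS
  have hSX : X ⊓ Subgroup.centralizer (Y : Set G) ≤ S := fun x hx =>
    ⟨hx.1, ⟨x, hXN hx.1⟩, by
      show ρ ⟨x, hXN hx.1⟩ ∈ kerOn F Q X'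
      rw [hone hx.2]
      exact one_mem _, rfl⟩
  have hSker : ∀ x (hx : x ∈ S), ρ ⟨x, hXN hx.1⟩ ∈ kerOn F Q X' := by
    rintro x ⟨-, z, hz, rfl⟩
    exact hz
  have hSD : ∀ x ∈ S, ∀ f ∈ hat q N,
      ∃ d ∈ D, d⁻¹ * (f⁻¹ * x * f) ∈ Subgroup.centralizer (clZ q L D : Set G) := by
    intro x hx f hf
    obtain ⟨y, hy, hyx⟩ := (hSker x hx).2.2 (ρ ⟨f⁻¹, hhat (inv_mem hf)⟩)
      ⟨⟨f⁻¹, hhat (inv_mem hf)⟩, (Subgroup.mem_subgroupOf.2 (inv_mem hf) : _), rfl⟩
    rw [← map_commutatorElement] at hyx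
    set c := y⁻¹ * ⁅(⟨f⁻¹, hhat (inv_mem hf)⟩ : ↥NY), (⟨x, hXN hx.1⟩ : ↥NY)⁆ with hc
    have hc1 : (c : G) ∈ Subgroup.centralizer (Y : Set G) := (rep_eq_one he).1 (by
      rw [hc, map_mul, map_inv, hyx, inv_mul_cancel])
    refine ⟨(y : G) * x, mul_mem (hPD (Subgroup.mem_subgroupOf.1 hy)) (hX.1 hx.1), ?_⟩
    have h2 : ((y : G) * x)⁻¹ * (f⁻¹ * x * f) = x⁻¹ * (c : G) * x := by
      simp [hc, commutatorElement_def]
      group
    rw [h2]
    refine Subgroup.centralizer_le hUY ?_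
    have := mem_normalizer_conj (SignalizerCoprime.le_normalizer_centralizer hXN (inv_mem hx.1)) hc1
    simpa using this
  have hSe : Cfsg.IsElementaryAbelian q S := elementaryAbelian_of_le hX.2.1 inf_le_left
  have hb := h.closure_bound hSe hgen hmem hSD (fun a ha b hb => comm_of_mem hYe ha hb) S le_rfl
  have hSC : S ⊓ Subgroup.centralizer (Y : Set G) = X ⊓ Subgroup.centralizer (Y : Set G) :=
    le_antisymm (inf_le_inf_right _ inf_le_left) (le_inf hSX inf_le_right)
  rw [hSC] at hb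
  have hmax := max_bound hYe (hYP.trans hPD) hX
  have hZ : Nat.card ↥(Y ⊓ Subgroup.centralizer (X : Set G) : Subgroup G) ≤
      Nat.card ↥(Y ⊓ Subgroup.centralizer (S : Set G) : Subgroup G) :=
    Subgroup.card_le_of_le (inf_le_inf_left _ (Subgroup.centralizer_le inf_le_left))
  have hsplit : (X ⊓ Subgroup.centralizer (Y : Set G)).relIndex X =
      S.relIndex X * (X ⊓ Subgroup.centralizer (Y : Set G)).relIndex S := by
    rw [mul_comm]
    exact (Subgroup.relIndex_mul_relIndex _ _ _ hSX inf_le_left).symm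
  set a := S.relIndex X with ha
  set b := (X ⊓ Subgroup.centralizer (Y : Set G)).relIndex S with hbdef
  set zX := Nat.card ↥(Y ⊓ Subgroup.centralizer (X : Set G) : Subgroup G) with hzX
  rw [hsplit] at hmax
  have hb' : b ^ 2 ≤ a * b := Nat.le_of_mul_le_mul_right
    ((Nat.mul_le_mul le_rfl hZ).trans (hb.trans hmax)) Nat.card_pos
  by_contra hne
  by_cases hX' : X' ≤ kerOn F Q X'
  · have hXS : S = X := le_antisymm inf_le_left fun x hx =>
      ⟨hx, ⟨x, hXN hx⟩, hX' ⟨⟨x, hXN hx⟩, hx, rfl⟩, rfl⟩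
    rw [ha, hXS, Subgroup.relIndex_self, one_mul] at hb'
    have hb1 : b = 1 := by
      have h0 : 0 < b := Nat.pos_of_ne_zero Subgroup.FiniteIndex.index_ne_zero
      nlinarith
    rw [hbdef, hXS, Subgroup.relIndex_eq_one] at hb1
    exact hne (hb1.trans inf_le_right)
  · have key := hK q p h.p_ne_two h.p_ne V F Q A' D' X' hctx
      (Subgroup.map_mono fun x hx => hX.1 hx)
      (by
        rintro _ ⟨x, hx, rfl⟩ _ ⟨y, hy, rfl⟩
        rw [← map_mul, ← map_mul]
        exact congrArg ρ (Subtype.ext (comm_of_mem hX.2.1 hx hy)))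
      (by
        rintro _ ⟨x, hx, rfl⟩
        rw [← map_pow, show x ^ q = 1 from Subtype.ext (by simpa using hX.2.1.2 _ hx), map_one])
      hX'
    have hidx : (kerOn F Q X').relIndex X' = a := by
      rw [ha, ← Subgroup.relIndex_subgroupOf hXN, hS]
      change (kerOn F Q X').relIndex ((X.subgroupOf NY).map ρ) = _
      rw [← Subgroup.relIndex_comap, ← Subgroup.inf_relIndex_right]
      congr 1
      ext z
      simp only [Subgroup.mem_inf, Subgroup.mem_comap, Subgroup.mem_subgroupOf, Subgroup.mem_map,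
        Subgroup.coe_subtype]
      constructor
      · rintro ⟨hz, hzX⟩
        exact ⟨hzX, z, hz, rfl⟩
      · rintro ⟨hzX, w, hw, hwz⟩
        exact ⟨(Subtype.ext hwz : w = z) ▸ hw, hzX⟩
    rw [hidx, card_fix he X hXN, Nat.card_congr e, ← hzX] at key
    exact arith_max (Nat.pos_of_ne_zero Subgroup.FiniteIndex.index_ne_zero)
      (Nat.lt_of_mul_lt_mul_right (lt_of_lt_of_le key hmax)) hb'

end Base

/-- The base case of pure uniqueness. -/
theorem hat_le_of_pure (hK : KPlus.{u}) {G : Type u} [Group G] [Finite G] {p : ℕ} {A : Subgroup G}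
    {θ : G → Subgroup G} {q : ℕ} [Fact q.Prime] {D L : Subgroup G} (h : Base p A θ q D L)
    (hLJ : ∀ X ∈ Cfsg.signalizerFamily p A θ,
      X ≤ Subgroup.normalizer (Cfsg.thompsonSubgroupOf q D : Set G) → X ≤ L)
    (hcl : ∀ K, IsMax p A θ K → D ≤ K → IsPure p A θ q K)
    {N : Subgroup G} (hN : IsPure p A θ q N) (hDN : D ≤ N) : hat q N ≤ L := by
  have hS := h.minimal.toSetup
  obtain ⟨Y, hYe, hYP, hUY, hmem, hgen, hhat, hDY, hAY⟩ := h.exists_closure hN hDN
  have hPD : Cfsg.pCoreOf q N ≤ D := h.core_le hN.1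
  -- `L` is the member above everything normalising `U`
  set U := clZ q L D with hU
  have hUm := mem_family_of_le h.W.1 h.clZ_le_D h.A_norm_clZ
  have hU1 : U ≠ ⊥ := fun hb => omZ_ne_bot h.D_pgroup h.ne_bot
    (le_bot_iff.1 (hb ▸ omZ_le_clZ L D))
  obtain ⟨K, hKmax, hKle⟩ := exists_norm_max h.minimal hUm hU1 h.T_norm_clZ
  have hDK : D ≤ K := hKle D h.W.1 h.D_norm_clZ
  have hLK : L = K := pure_eq_of_hat_le h.minimal h.pure
    (fun hb => h.ne_bot (le_bot_iff.1 (hb ▸ h.le))) (hcl K hKmax hDK) h.W hDK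
    (hKle _ (hat_mem h.minimal h.pure.1) (hat_norm_clZ L D))
  -- Frattini
  set H := hat q N ⊔ D with hH
  set K0 := H ⊓ Subgroup.centralizer (Y : Set G) with hK0
  have hHN : H ≤ N := sup_le (hat_le N) hDN
  have hHA : A ≤ Subgroup.normalizer (H : Set G) :=
    le_normalizer_sup (A_norm_hat h.minimal hN.1) h.A_norm_D
  have hHY : H ≤ Subgroup.normalizer (Y : Set G) := sup_le hhat hDY
  have hHK0 : H ≤ Subgroup.normalizer (K0 : Set G) :=
    le_normalizer_inf Subgroup.le_normalizer (SignalizerCoprime.le_normalizer_centralizer hHY)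
  set D0 := D ⊓ K0 with hD0
  have hJle : ∀ X, Offenders.IsMaxIn q D X → X ≤ D0 := fun X hX =>
    le_inf hX.1 (le_inf (hX.1.trans le_sup_right)
      (h.max_le_centralizer_closure hK hN hDN hYe hYP hUY hmem hgen hhat hDY hAY hX))
  have hJ : Cfsg.thompsonSubgroupOf q D0 = Cfsg.thompsonSubgroupOf q D := by
    rw [Offenders.thompsonOf_eq, Offenders.thompsonOf_eq]
    congr 1
    ext X
    constructor
    · intro hX
      classical
      have hfin : {Z : Subgroup G | Z ≤ D ∧ Cfsg.IsElementaryAbelian q Z}.Finite := Set.toFinite _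
      obtain ⟨Z, hZ⟩ := Set.Finite.exists_maximalFor (fun Z : Subgroup G => Nat.card Z) _ hfin
        ⟨⊥, bot_le, Offenders.ea_bot⟩
      have hZmax : Offenders.IsMaxIn q D Z := ⟨hZ.1.1, hZ.1.2, fun B hB hBe =>
        not_lt.1 fun hlt => absurd (hZ.2 ⟨hB, hBe⟩ hlt.le) (not_le.2 hlt)⟩
      exact ⟨hX.1.trans inf_le_left, hX.2.1, fun B hB hBe => (hZmax.2.2 B hB hBe).trans
        (hX.2.2 Z (hJle Z hZmax) hZ.1.2)⟩
    · intro hX
      exact ⟨hJle X hX, hX.2.1, fun B hB hBe => hX.2.2 B (hB.trans inf_le_left) hBe⟩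
  have hDH : ¬ q ∣ D.relIndex H := by
    have h1 := relIndex_mul_card D (hat q N) (hDN.trans (le_normalizer_hat N))
    have h2 : Nat.card ↥D * D.relIndex H = Nat.card ↥(D ⊔ hat q N) := by
      rw [sup_comm D, ← hH]
      exact card_mul_relIndex le_sup_right
    rw [← h1, mul_comm] at h2
    rw [Nat.eq_of_mul_eq_mul_right Nat.card_pos h2]
    exact fun hd => not_dvd_relIndex_hat hN.sol
      (hd.trans (Subgroup.relIndex_dvd_of_le_left _ (le_inf hPD (oq_le_hat N))))
  have hD0K : ¬ q ∣ D0.relIndex K0 := by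
    have h1 := relIndex_mul_card D K0 ((le_sup_right : D ≤ H).trans hHK0)
    have h2 : Nat.card ↥(D ⊔ K0) ∣ Nat.card ↥D * D.relIndex H := by
      rw [card_mul_relIndex (le_sup_right : D ≤ H)]
      exact Subgroup.card_dvd_of_le (sup_le le_sup_right inf_le_left)
    rw [← h1, mul_comm] at h2
    exact fun hd => hDH (hd.trans (Nat.dvd_of_mul_dvd_mul_left Nat.card_pos h2))
  haveI : (K0.subgroupOf H).Normal := Subgroup.normal_subgroupOf_of_le_normalizer hHK0
  have hp1 : IsPGroup q ↥((D0.subgroupOf H).subgroupOf (K0.subgroupOf H)) :=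
    (((h.D_pgroup.to_le inf_le_left).comap_of_injective H.subtype H.subtype_injective)
      ).comap_of_injective _ (K0.subgroupOf H).subtype_injective
  have hp2 : ¬ q ∣ ((D0.subgroupOf H).subgroupOf (K0.subgroupOf H)).index := by
    change ¬ q ∣ (D0.subgroupOf H).relIndex (K0.subgroupOf H)
    rwa [Subgroup.relIndex_subgroupOf inf_le_left]
  have hfr := Sylow.normalizer_sup_eq_top (hp1.toSylow hp2)
  rw [IsPGroup.toSylow_coe,
    Subgroup.map_subgroupOf_eq_of_le (show D0.subgroupOf H ≤ K0.subgroupOf H from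
      fun x hx => (Subgroup.mem_inf.1 hx).2)] at hfr
  have hnL : H ⊓ Subgroup.normalizer (Cfsg.thompsonSubgroupOf q D : Set G) ≤ L :=
    hLJ _ (mem_family_of_le hN.1.1 (inf_le_left.trans hHN)
      (le_normalizer_inf hHA ((h.A_norm_D.trans (normalizer_le_thompson D)).trans
        Subgroup.le_normalizer))) inf_le_right
  have hK0L : K0 ≤ L := by
    rw [hLK]
    refine hKle _ (mem_family_of_le hN.1.1 (inf_le_left.trans hHN)
      (le_normalizer_inf hHA (SignalizerCoprime.le_normalizer_centralizer hAY))) ?_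
    exact inf_le_right.trans ((Subgroup.centralizer_le hUY).trans
      (SignalizerCoprime.centralizer_le_normalizer U))
  intro x hx
  have hxH : x ∈ H := Subgroup.mem_sup_left hx
  have hmemtop : (⟨x, hxH⟩ : ↥H) ∈ Subgroup.normalizer ((D0.subgroupOf H : Subgroup ↥H) : Set ↥H) ⊔
      K0.subgroupOf H := by rw [hfr]; trivial
  have hle : (Subgroup.normalizer ((D0.subgroupOf H : Subgroup ↥H) : Set ↥H) ⊔
      K0.subgroupOf H).map H.subtype ≤ L := by
    rw [Subgroup.map_sup]
    refine sup_le ((le_inf (Subgroup.map_subtype_le _) ?_).trans hnL)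
      ((Subgroup.map_comap_le _ _).trans hK0L)
    refine (Subgroup.le_normalizer_map _).trans ?_
    rw [Subgroup.map_subgroupOf_eq_of_le (inf_le_left.trans le_sup_right : D0 ≤ H), ← hJ]
    exact normalizer_le_thompson D0
  exact hle ⟨_, hmemtop, rfl⟩

end Cfsg.Agent.SFTPure
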