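import Mathlib
import Cfsg.Agent.Lib.SFTPureKPlus27

/-!
# Pure uniqueness: the fixed point bound modulo a normal `q`-subgroup

The bound for a group moved modulo `Q` follows from the case `Q = ⊥` by splitting the module along
the fixed points of `Q`.
-/

set_option autoImplicit false
set_option linter.unusedSectionVars false

namespace Cfsg.Agent.SFTPure

open Cfsg.Agent.SignalizerCoprime Cfsg.Agent.SFTGroup
open scoped commutatorElement

universe u

/-! ### Trivial `Q` -/

section base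

variable {q : ℕ} [Fact q.Prime] {V : Type u} [AddCommGroup V] [Module (ZMod q) V] [Finite V]

theorem kerOn_bot {F B : Subgroup (Aut q V)} :
    kerOn F ⊥ B = B ⊓ Subgroup.centralizer (F : Set (Aut q V)) := by
  ext b
  rw [mem_kerOn, Subgroup.mem_inf, Subgroup.mem_centralizer_iff]
  constructor
  · rintro ⟨hb, -, h⟩
    exact ⟨hb, fun x hx => commutatorElement_eq_one_iff_mul_comm.1 (Subgroup.mem_bot.1 (h x hx))⟩
  · rintro ⟨hb, h⟩
    refine ⟨hb, ?_, fun x hx => Subgroup.mem_bot.2 (commutatorElement_eq_one_iff_mul_comm.2 (h x hx))⟩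
    rw [Subgroup.normalizer_eq_top (⊥ : Subgroup (Aut q V))]
    trivial

end base

/-! ### Invariant submodules -/

section series

variable {q p : ℕ} [Fact q.Prime] [Fact p.Prime] {V : Type u} [AddCommGroup V] [Module (ZMod q) V]
  [Finite V]

/-- The elements leaving `W` invariant. -/
def stabW (W : Submodule (ZMod q) V) : Subgroup (Aut q V) where
  carrier := {g | W.map (g : V →ₗ[ZMod q] V) = W}
  one_mem' := Submodule.map_id W
  mul_mem' := fun {a b} ha hb => by
    simp only [Set.mem_setOf_eq] at ha hb ⊢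
    change W.map ((a : V →ₗ[ZMod q] V) ∘ₗ (b : V →ₗ[ZMod q] V)) = W
    rw [Submodule.map_comp, hb, ha]
  inv_mem' := fun {a} ha => by
    simp only [Set.mem_setOf_eq] at ha ⊢
    conv_lhs => rw [← ha]
    rw [← Submodule.map_comp]
    rw [show ((a⁻¹ : Aut q V) : V →ₗ[ZMod q] V) ∘ₗ (a : V →ₗ[ZMod q] V) = LinearMap.id from
      LinearMap.ext fun v => a.symm_apply_apply v, Submodule.map_id]

theorem apply_mem {W : Submodule (ZMod q) V} {g : Aut q V} (hg : g ∈ stabW W) {w : V}
    (hw : w ∈ W) : g w ∈ W := by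
  have h : W.map (g : V →ₗ[ZMod q] V) = W := hg
  exact h.le ⟨w, hw, rfl⟩

/-- Restriction to `W`. -/
def resW (W : Submodule (ZMod q) V) : ↥(stabW W) →* Aut q ↥W where
  toFun g :=
    { toFun := fun w => ⟨(g : Aut q V) w, apply_mem g.2 w.2⟩
      map_add' := fun v w => Subtype.ext (map_add _ _ _)
      map_smul' := fun c w => Subtype.ext (map_smul _ _ _)
      invFun := fun w => ⟨((g⁻¹ : ↥(stabW W)) : Aut q V) w, apply_mem (g⁻¹).2 w.2⟩
      left_inv := fun w => Subtype.ext ((g : Aut q V).symm_apply_apply _)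
      right_inv := fun w => Subtype.ext ((g : Aut q V).apply_symm_apply _) }
  map_one' := LinearEquiv.ext fun _ => rfl
  map_mul' _ _ := LinearEquiv.ext fun _ => rfl

theorem resW_apply (W : Submodule (ZMod q) V) (g : ↥(stabW W)) (w : ↥W) :
    ((resW W g w : ↥W) : V) = (g : Aut q V) w := rfl

/-- The action on `V ⧸ W`. -/
def quoW (W : Submodule (ZMod q) V) : ↥(stabW W) →* Aut q (V ⧸ W) where
  toFun g := Submodule.Quotient.equiv W W (g : Aut q V) g.2
  map_one' := LinearEquiv.ext fun x => by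
    induction x using Submodule.Quotient.induction_on with
    | _ x => rfl
  map_mul' _ _ := LinearEquiv.ext fun x => by
    induction x using Submodule.Quotient.induction_on with
    | _ x => rfl

theorem quoW_mk (W : Submodule (ZMod q) V) (g : ↥(stabW W)) (v : V) :
    quoW W g (Submodule.Quotient.mk v) = Submodule.Quotient.mk ((g : Aut q V) v) := rfl

theorem map_norm {H : Type*} [Group H] {W : Submodule (ZMod q) V} (f : ↥(stabW W) →* H)
    {S R : Subgroup (Aut q V)} (h : S ≤ Subgroup.normalizer (R : Set (Aut q V))) :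
    (S.subgroupOf (stabW W)).map f ≤
      Subgroup.normalizer (((R.subgroupOf (stabW W)).map f : Subgroup H) : Set H) := by
  refine le_trans (Subgroup.map_mono ?_) (Subgroup.le_normalizer_map f)
  intro s hs
  rw [Subgroup.mem_normalizer_iff]
  intro x
  simp only [Subgroup.mem_subgroupOf, Subgroup.coe_mul, Subgroup.coe_inv]
  exact Subgroup.mem_normalizer_iff.1 (h hs) _

/-- The data pass to an image. -/
theorem ctx_map {W : Submodule (ZMod q) V} {U : Type u} [AddCommGroup U] [Module (ZMod q) U]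
    (f : ↥(stabW W) →* Aut q U) {F Q A D : Subgroup (Aut q V)} (h : Ctx q p F Q A D)
    (hF : F ≤ stabW W) (hA : A ≤ stabW W) :
    Ctx q p ((F.subgroupOf (stabW W)).map f) ((Q.subgroupOf (stabW W)).map f)
      ((A.subgroupOf (stabW W)).map f) ((D.subgroupOf (stabW W)).map f) where
  le := Subgroup.map_mono fun _ hx => h.le hx
  F_norm_Q := map_norm f h.F_norm_Q
  pgroup := (h.pgroup.comap_of_injective _ (stabW W).subtype_injective).map _
  not_dvd := fun hd => h.not_dvd (hd.trans (by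
    rw [← Subgroup.relIndex_subgroupOf (H := Q) hF, ← Subgroup.relIndex_comap]
    exact Subgroup.relIndex_dvd_of_le_left _ (Subgroup.le_comap_map _ _)))
  nil := by
    obtain ⟨n, hn⟩ := h.nil
    refine ⟨n, ?_⟩
    rw [lcs_map]
    refine Subgroup.map_mono fun x hx => hn ?_
    have h1 := lcs_map (stabW W).subtype (F.subgroupOf (stabW W)) n
    rw [Subgroup.map_subgroupOf_eq_of_le hF] at h1
    rw [h1]
    exact ⟨x, hx, rfl⟩
  A_pgroup := (h.A_pgroup.comap_of_injective _ (stabW W).subtype_injective).map _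
  A_norm_F := map_norm f h.A_norm_F
  A_norm_Q := map_norm f h.A_norm_Q
  A_norm_D := map_norm f h.A_norm_D
  p_not_dvd := fun hd => h.p_not_dvd (hd.trans ((Subgroup.card_map_dvd _ _).trans
    (by rw [Nat.card_congr (Subgroup.subgroupOfEquivOfLe hF).toEquiv])))
  D_pgroup := (h.D_pgroup.comap_of_injective _ (stabW W).subtype_injective).map _
  D_norm_F := map_norm f h.D_norm_F
  D_norm_Q := map_norm f h.D_norm_Q
  fixed := by
    haveI : Finite (Aut q V) := finite_aut
    intro y hy hyA d hd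
    obtain ⟨d', hd', rfl⟩ := hd
    obtain ⟨c, hc, hcA, rfl⟩ := exists_fixed_lift f
      (A := A.subgroupOf (stabW W)) (F := F.subgroupOf (stabW W))
      (h.A_pgroup.comap_of_injective _ (stabW W).subtype_injective)
      (by
        intro s hs
        rw [Subgroup.mem_normalizer_iff]
        intro x
        simp only [Subgroup.mem_subgroupOf, Subgroup.coe_mul, Subgroup.coe_inv]
        exact Subgroup.mem_normalizer_iff.1 (h.A_norm_F hs) _)
      (by rw [Nat.card_congr (Subgroup.subgroupOfEquivOfLe hF).toEquiv]; exact h.p_not_dvd)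
      hy (fun a ha => Subgroup.mem_centralizer_iff.1 hyA _ ⟨a, ha, rfl⟩)
    rw [← map_commutatorElement]
    refine ⟨⁅c, d'⁆, h.fixed _ hc (fun a ha => ?_) _ hd', rfl⟩
    exact congrArg Subtype.val (Subgroup.mem_centralizer_iff.1 hcA ⟨a, hA ha⟩ ha)

/-- An invariant submodule splits the bound. -/
theorem step {W : Submodule (ZMod q) V} {F Q A D B : Subgroup (Aut q V)} (h : Ctx q p F Q A D)
    (hF : F ≤ stabW W) (hA : A ≤ stabW W) (hD : D ≤ stabW W) (hBD : B ≤ D)
    (hQW : ∀ g ∈ Q, ∀ w ∈ W, g w = w)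
    (hBc : ∀ a ∈ B, ∀ b ∈ B, a * b = b * a) (hBq : ∀ b ∈ B, b ^ q = 1)
    (hmov : ¬ B ≤ kerOn F Q B)
    (ihW : ∀ F' Q' A' D' B' : Subgroup (Aut q ↥W), Ctx q p F' Q' A' D' → B' ≤ D' →
      (∀ a ∈ B', ∀ b ∈ B', a * b = b * a) → (∀ b ∈ B', b ^ q = 1) → ¬ B' ≤ kerOn F' Q' B' →
      (kerOn F' Q' B').relIndex B' ^ 2 * Nat.card ↥(fix B') < Nat.card ↥W)
    (ihQ : ∀ F' Q' A' D' B' : Subgroup (Aut q (V ⧸ W)), Ctx q p F' Q' A' D' → B' ≤ D' →
      (∀ a ∈ B', ∀ b ∈ B', a * b = b * a) → (∀ b ∈ B', b ^ q = 1) → ¬ B' ≤ kerOn F' Q' B' →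
      (kerOn F' Q' B').relIndex B' ^ 2 * Nat.card ↥(fix B') < Nat.card (V ⧸ W)) :
    (kerOn F Q B).relIndex B ^ 2 * Nat.card ↥(fix B) < Nat.card V := by
  classical
  haveI : Finite (Aut q V) := finite_aut
  haveI : Finite (V ⧸ W) := Finite.of_surjective _ (Submodule.mkQ_surjective W)
  set N := stabW W with hN
  set F' := F.subgroupOf N with hF'
  set Q' := Q.subgroupOf N with hQ'
  set B' := B.subgroupOf N with hB'
  have hBN : B ≤ N := hBD.trans hD
  have hQN : Q ≤ N := h.le.trans hF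
  set r := resW W
  set s := quoW W
  set K₁ := B' ⊓ (kerOn (F'.map r) (Q'.map r) (B'.map r)).comap r with hK₁
  set K₂ := B' ⊓ (kerOn (F'.map s) (Q'.map s) (B'.map s)).comap s with hK₂
  -- the common kernel
  have hkey : (K₁ ⊓ K₂).map N.subtype ≤ kerOn F Q B := by
    rintro _ ⟨b, ⟨⟨hb, h1⟩, -, h2⟩, rfl⟩
    refine ⟨hb, h.D_norm_Q (hBD hb), fun x hx => ?_⟩
    obtain ⟨-, -, h1⟩ := mem_kerOn.1 (Subgroup.mem_comap.1 h1)
    obtain ⟨-, -, h2⟩ := mem_kerOn.1 (Subgroup.mem_comap.1 h2)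
    set y : ↥N := ⁅(⟨x, hF hx⟩ : ↥N), b⁆ with hy
    have hyF : (y : Aut q V) ∈ F := by
      have e : (y : Aut q V) = x * ((b : Aut q V) * x⁻¹ * (b : Aut q V)⁻¹) := by
        simp [hy, commutatorElement_def, mul_assoc]
      rw [e]
      exact mul_mem hx (mem_normalizer_conj (h.D_norm_F (hBD hb)) (inv_mem hx))
    obtain ⟨z₁, hz₁, hz₁y⟩ : r y ∈ Q'.map r := by
      rw [hy, map_commutatorElement]
      exact h1 _ ⟨⟨x, hF hx⟩, hx, rfl⟩
    obtain ⟨z, hz, hzy⟩ : s y ∈ Q'.map s := by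
      rw [hy, map_commutatorElement]
      exact h2 _ ⟨⟨x, hF hx⟩, hx, rfl⟩
    have hr1 : ∀ g ∈ Q', r g = 1 := fun g hg => LinearEquiv.ext fun w =>
      Subtype.ext (hQW _ hg _ w.2)
    set k := z⁻¹ * y with hk
    have hkr : r k = 1 := by
      rw [hk, map_mul, map_inv, hr1 z hz, inv_one, one_mul, ← hz₁y, hr1 z₁ hz₁]
    have hks : s k = 1 := by rw [hk, map_mul, map_inv, hzy, inv_mul_cancel]
    have hkq : (k : Aut q V) ^ q = 1 := LinearEquiv.ext fun v => by
      have hw : (k : Aut q V) v - v ∈ W := by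
        rw [← Submodule.Quotient.eq, ← quoW_mk, show quoW W k = 1 from hks]
        rfl
      have hfix : (k : Aut q V) ((k : Aut q V) v - v) = (k : Aut q V) v - v :=
        (resW_apply W k ⟨_, hw⟩).symm.trans (by rw [show resW W k = 1 from hkr]; rfl)
      rw [pow_apply_add (show (k : Aut q V) v = v + ((k : Aut q V) v - v) by abel) hfix q,
        ← Nat.cast_smul_eq_nsmul (ZMod q), ZMod.natCast_self, zero_smul, add_zero]
      rfl
    have hkF : (k : Aut q V) ∈ F := mul_mem (inv_mem (h.le hz)) hyF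
    have hkQ : (k : Aut q V) ∈ Q := by
      haveI : (Q.subgroupOf F).Normal :=
        Subgroup.normal_subgroupOf_iff_le_normalizer h.le |>.2 h.F_norm_Q
      have h3 : (⟨(k : Aut q V), hkF⟩ : ↥F) ^ Q.relIndex F ∈ Q.subgroupOf F :=
        Subgroup.pow_index_mem _ _
      obtain ⟨a, ha⟩ : ∃ a : ℕ, Q.relIndex F * a ≡ 1 [MOD q] := by
        obtain ⟨a, -, ha⟩ := Nat.exists_mul_mod_eq_one_of_coprime
          ((Fact.out : q.Prime).coprime_iff_not_dvd.2 h.not_dvd).symm (Fact.out : q.Prime).one_lt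
        exact ⟨a, by rw [Nat.ModEq, ha, Nat.mod_eq_of_lt (Fact.out : q.Prime).one_lt]⟩
      have h4 : (k : Aut q V) ^ (Q.relIndex F * a) ∈ Q := by
        rw [pow_mul]; exact pow_mem (Subgroup.mem_subgroupOf.1 h3) a
      have h5 : (k : Aut q V) ^ (Q.relIndex F * a) = k := by
        rw [← Nat.div_add_mod (Q.relIndex F * a) q, ha, Nat.mod_eq_of_lt (Fact.out : q.Prime).one_lt,
          pow_add, pow_mul, hkq, one_pow, one_mul, pow_one]
      rwa [h5] at h4
    have : ((z : Aut q V)) * k ∈ Q := mul_mem hz hkQ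
    simpa [hk, hy, commutatorElement_def] using this
  have hindex : (kerOn F Q B).relIndex B ≤ K₁.relIndex B' * K₂.relIndex B' := by
    have h1 : (kerOn F Q B).relIndex B = ((kerOn F Q B).subgroupOf N).relIndex B' :=
      (Subgroup.relIndex_subgroupOf hBN).symm
    rw [h1]
    refine le_trans (Nat.le_of_dvd (Nat.pos_of_ne_zero Subgroup.index_ne_zero_of_finite)
      (Subgroup.relIndex_dvd_of_le_left B' ?_)) Subgroup.relIndex_inf_le
    exact fun b hb => Subgroup.mem_subgroupOf.2 (hkey ⟨b, hb, rfl⟩)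
  -- fixed points
  have hfix : Nat.card ↥(fix B) ≤ Nat.card ↥(fix (B'.map r)) * Nat.card ↥(fix (B'.map s)) := by
    let φ : ↥(fix B) →ₗ[ZMod q] V ⧸ W := W.mkQ.comp (fix B).subtype
    rw [(LinearMap.ker φ).card_eq_card_quotient_mul_card,
      Nat.card_congr φ.quotKerEquivRange.toEquiv]
    refine Nat.mul_le_mul ?_ ?_
    · refine Nat.card_le_card_of_injective (fun x => ⟨⟨x.1.1, ?_⟩, ?_⟩) fun x y hxy => ?_
      · exact (Submodule.Quotient.mk_eq_zero W).1 x.2
      · rintro _ ⟨b, hb, rfl⟩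
        exact Subtype.ext (x.1.2 _ hb)
      · exact Subtype.ext (Subtype.ext (congrArg (fun z => ((z.1 : ↥W) : V)) hxy))
    · refine Nat.card_le_card_of_injective (fun x => ⟨x.1, ?_⟩) fun x y hxy =>
        Subtype.ext (by simpa using hxy)
      obtain ⟨v, hv⟩ := x.2
      rintro _ ⟨b, hb, rfl⟩
      rw [← hv]
      change Submodule.Quotient.mk ((b : Aut q V) (v : V)) = Submodule.Quotient.mk (v : V)
      rw [show (b : Aut q V) (v : V) = v from v.2 _ hb]
  -- the two factors
  have hidx : ∀ {U : Type u} [AddCommGroup U] [Module (ZMod q) U] [Finite U]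
      (f : ↥N →* Aut q U),
      (∀ F' Q' A' D' B' : Subgroup (Aut q U), Ctx q p F' Q' A' D' → B' ≤ D' →
        (∀ a ∈ B', ∀ b ∈ B', a * b = b * a) → (∀ b ∈ B', b ^ q = 1) → ¬ B' ≤ kerOn F' Q' B' →
        (kerOn F' Q' B').relIndex B' ^ 2 * Nat.card ↥(fix B') < Nat.card U) →
      (B' ⊓ (kerOn (F'.map f) (Q'.map f) (B'.map f)).comap f).relIndex B' ^ 2 *
          Nat.card ↥(fix (B'.map f)) ≤ Nat.card U ∧
        ((B' ⊓ (kerOn (F'.map f) (Q'.map f) (B'.map f)).comap f).relIndex B' ≠ 1 →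
          (B' ⊓ (kerOn (F'.map f) (Q'.map f) (B'.map f)).comap f).relIndex B' ^ 2 *
            Nat.card ↥(fix (B'.map f)) < Nat.card U) := by
    intro U _ _ _ f ih
    haveI : Finite (Aut q U) := finite_aut
    have he : (B' ⊓ (kerOn (F'.map f) (Q'.map f) (B'.map f)).comap f).relIndex B' =
        (kerOn (F'.map f) (Q'.map f) (B'.map f)).relIndex (B'.map f) := by
      rw [inf_comm, Subgroup.inf_relIndex_right, Subgroup.relIndex_comap]
    rw [he]
    by_cases hm : B'.map f ≤ kerOn (F'.map f) (Q'.map f) (B'.map f)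
    · rw [Subgroup.relIndex_eq_one.2 hm]
      refine ⟨?_, fun h => absurd rfl h⟩
      rw [one_pow, one_mul]
      exact Nat.card_le_card_of_injective _ Subtype.val_injective
    · have hlt := ih _ _ _ _ _ (ctx_map f h hF hA)
        (Subgroup.map_mono fun b hb => hBD hb)
        (by
          rintro _ ⟨a, ha, rfl⟩ _ ⟨b, hb, rfl⟩
          rw [← map_mul, ← map_mul, show a * b = b * a from Subtype.ext (hBc _ ha _ hb)])
        (by
          rintro _ ⟨b, hb, rfl⟩
          rw [← map_pow, show b ^ q = 1 from Subtype.ext (hBq _ hb), map_one])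
        hm
      exact ⟨hlt.le, fun _ => hlt⟩
  obtain ⟨h1, h1'⟩ := hidx r ihW
  obtain ⟨h2, h2'⟩ := hidx s ihQ
  have hgt : K₁.relIndex B' ≠ 1 ∨ K₂.relIndex B' ≠ 1 := by
    by_contra! hh
    refine hmov fun b hb => hkey ⟨⟨b, hBN hb⟩, Subgroup.mem_inf.2 ?_, rfl⟩
    exact ⟨Subgroup.relIndex_eq_one.1 hh.1 hb, Subgroup.relIndex_eq_one.1 hh.2 hb⟩
  have hcard : Nat.card ↥W * Nat.card (V ⧸ W) = Nat.card V := (Submodule.card_eq_card_quotient_mul_card W).symm
  have hpos1 : 0 < Nat.card ↥W := Nat.card_pos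
  have hpos2 : 0 < Nat.card (V ⧸ W) := Nat.card_pos
  calc (kerOn F Q B).relIndex B ^ 2 * Nat.card ↥(fix B)
      ≤ (K₁.relIndex B' * K₂.relIndex B') ^ 2 *
          (Nat.card ↥(fix (B'.map r)) * Nat.card ↥(fix (B'.map s))) :=
        Nat.mul_le_mul (Nat.pow_le_pow_left hindex 2) hfix
    _ = (K₁.relIndex B' ^ 2 * Nat.card ↥(fix (B'.map r))) *
          (K₂.relIndex B' ^ 2 * Nat.card ↥(fix (B'.map s))) := by ring
    _ < Nat.card ↥W * Nat.card (V ⧸ W) := by
        rcases hgt with hg | hg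
        · exact Nat.mul_lt_mul_of_lt_of_le (h1' hg) h2 hpos2
        · exact Nat.mul_lt_mul_of_le_of_lt h1 (h2' hg) hpos1
    _ = Nat.card V := hcard

end series

/-- The minimal configuration gives the fixed point bound. -/
theorem kplus : KPlus.{u} := by
  intro q p _ _ hp hpq V _ _ _
  suffices h : ∀ (n : ℕ) (V : Type u) [AddCommGroup V] [Module (ZMod q) V] [Finite V],
      Nat.card V ≤ n → ∀ (F Q A D B : Subgroup (Aut q V)), Ctx q p F Q A D → B ≤ D →
      (∀ a ∈ B, ∀ b ∈ B, a * b = b * a) → (∀ b ∈ B, b ^ q = 1) → ¬ B ≤ kerOn F Q B →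
      (kerOn F Q B).relIndex B ^ 2 * Nat.card ↥(fix B) < Nat.card V from h _ V le_rfl
  intro n
  induction n with
  | zero => intro V _ _ _ hV; exact absurd hV Nat.card_pos.not_ge
  | succ n ih =>
    intro V _ _ _ hV F Q A D B h hBD hBc hBq hmov
    haveI : Finite (Aut q V) := finite_aut
    by_cases hQ : Q = ⊥
    · subst hQ
      rw [kerOn_bot] at hmov ⊢
      exact kplus_bot hp hpq h hBD hBc hBq fun hc => hmov (le_inf le_rfl hc)
    have hVne : (⊤ : Submodule (ZMod q) V) ≠ ⊥ := fun ht => hQ <| (Subgroup.eq_bot_iff_forall _).2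
      fun g _ => LinearEquiv.ext fun v => by
        have hv : v ∈ (⊥ : Submodule (ZMod q) V) := ht ▸ Submodule.mem_top
        rw [(Submodule.mem_bot _).1 hv, map_zero, map_zero]
    set W := fix Q with hW
    have hW0 : W ≠ ⊥ := fun he => fix_inf_ne_bot h.pgroup hVne (fun _ _ _ _ => trivial)
      (by rw [inf_top_eq]; exact he)
    have hW1 : W ≠ ⊤ := fun he => hQ <| (Subgroup.eq_bot_iff_forall _).2 fun g hg =>
      LinearEquiv.ext fun v => (he.ge Submodule.mem_top : v ∈ fix Q) g hg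
    have hst : ∀ {S : Subgroup (Aut q V)}, S ≤ Subgroup.normalizer (Q : Set (Aut q V)) →
        S ≤ stabW W := fun {S} hS g hg => by
      change W.map (g : V →ₗ[ZMod q] V) = W
      refine le_antisymm ?_ fun v hv => ?_
      · rintro _ ⟨v, hv, rfl⟩; exact mem_fix_conj (hS hg) hv
      · exact ⟨g⁻¹ v, mem_fix_conj (inv_mem (hS hg)) hv, g.apply_symm_apply v⟩
    haveI : Finite (V ⧸ W) := Finite.of_surjective _ (Submodule.mkQ_surjective W)
    have hcard : Nat.card V = Nat.card ↥W * Nat.card (V ⧸ W) := W.card_eq_card_quotient_mul_card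
    have hWgt : 1 < Nat.card ↥W := by
      haveI : Nontrivial ↥W := Submodule.nontrivial_iff_ne_bot.2 hW0
      exact Finite.one_lt_card
    have hQgt : 1 < Nat.card (V ⧸ W) := by
      haveI : Nontrivial (V ⧸ W) := Submodule.Quotient.nontrivial_iff.2 hW1
      exact Finite.one_lt_card
    refine step h (hst h.F_norm_Q) (hst h.A_norm_Q) (hst h.D_norm_Q) hBD
      (fun g hg w hw => hw g hg) hBc hBq hmov
      (fun F' Q' A' D' B' => ih ↥W (by nlinarith) F' Q' A' D' B')
      (fun F' Q' A' D' B' => ih (V ⧸ W) (by nlinarith) F' Q' A' D' B')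

end Cfsg.Agent.SFTPure
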