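import Mathlib
import Cfsg.Agent.Lib.SFTPureUnique
import Cfsg.Agent.Lib.SFTPureKPlus
import Cfsg.Agent.Lib.SFTPureHat

/-!
# The base case of pure uniqueness holds
-/

set_option autoImplicit false

namespace Cfsg.Agent.SFTPure

universe u

theorem hatLe : HatLe.{u} := fun {_} _ _ {_} {_} {_} {_} _ {_} {_} h hLJ hcl {_} hN hDN =>
  hat_le_of_pure kplus h hLJ hcl hN hDN

end Cfsg.Agent.SFTPure
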