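import Mathlib
import Cfsg.Agent.Lib.SFTPureBasic

/-!
# Values that are groups for two primes, one of them 2

The two-prime case of the solvable signalizer functor theorem when one of the primes is 2: only the
odd prime is used as an acting prime.
-/

set_option autoImplicit false
set_option linter.unusedSectionVars false

namespace Cfsg.Agent.SFTPureTwoPrime

open Cfsg.Agent.SignalizerCoprime Cfsg.Agent.HallCore Cfsg.Agent.SFTGroup Cfsg.Agent.SFTSigma
  Cfsg.Agent.SFTCtx Cfsg.Agent.SFTStatic Cfsg.Agent.SFTPair Cfsg.Agent.SFTPure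
  Cfsg.Agent.SFTPureBasic
open Cfsg.Agent.SignalizerTransitivity (mem_family_of_le)
open Cfsg.Agent.SFTOdd56 (zpowers_comm mem_normalizer_zpowers_of_comm centralizes_of_fixed)
open scoped commutatorElement

universe u

variable {G : Type u} [Group G] [Finite G] {p : ℕ} {A : Subgroup G} {θ : G → Subgroup G}

/-- `Ω₁(Z(W))` lies in the component of every pure maximal member, `W` the largest member. -/
theorem omZ_le_oq (hM : Minimal p A θ) {u : ℕ} [Fact u.Prime] {W L : Subgroup G}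
    (hW : IsW p A θ {u} W) (hL : IsPure p A θ u L) : omZ u W ≤ Cfsg.pCoreOf u L := by
  have hS := hM.toSetup
  have hcent : omZ u W ≤ Subgroup.centralizer (Cfsg.pCoreOf u L : Set G) := fun z hz y hy =>
    omZ_comm hz (oq_le_W hM hL.1 hW hy)
  have hmem := mem_family_of_le hW.1 (omZ_le (q := u) W)
    ((hS.le_normalizer hW.1).trans (normalizer_le_omZ W))
  exact le_trans (le_inf (hM.le_max_oq hL.1 (hL.oq_ne_bot (ne_bot_of_max hM hL.1)) hmem
    (hcent.trans (SignalizerCoprime.centralizer_le_normalizer _))) hcent) hL.centralizer_le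

variable (hp2 : p ≠ 2) (hB : SFTPure.HatLe.{u}) (hM : Minimal p A θ) {s : ℕ} [Fact s.Prime]
  (hs2 : s ≠ 2)
include hp2 hB hM hs2

/-- The points all of whose maximal members are pure for the odd prime have their values in one
closed member, or lie on one point. -/
theorem collect {E : Subgroup G} (hEA : E ≤ A) (P : G → Prop)
    (hP : ∀ c ∈ E, c ≠ 1 → P c → ∀ L, IsMax p A θ L → θ c ≤ L → IsPure p A θ s L) :
    (∃ N, IsPure p A θ s N ∧ Closed p A θ s N ∧ ∀ c ∈ E, c ≠ 1 → P c → θ c ≤ N) ∨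
      ∀ c ∈ E, ∀ d ∈ E, c ≠ 1 → d ≠ 1 → P c → P d → c ∈ Subgroup.zpowers d := by
  have hS := hM.toSetup
  obtain ⟨W, hW⟩ := exists_W1 hM s
  have hnon : ∀ c ∈ E, c ≠ 1 → P c → ¬ IsMax p A θ (θ c) →
      ∃ N, IsPure p A θ s N ∧ Closed p A θ s N ∧ θ c ≤ N := by
    intro c hc hc1 hPc hns
    obtain ⟨L, hL, hle⟩ := hS.exists_max_theta (hEA hc) hc1
    obtain ⟨t, ht, hmov⟩ := exists_moved hM hL (hEA hc) hc1 hle hns
    have hts : t = s := by
      by_contra hts
      exact hmov (((hP c hc hc1 hPc L hL hle).2 t ht hts).le.trans bot_le)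
    subst hts
    obtain ⟨Q, M, hD, hle', -, -⟩ := exists_datum hp2 hM (hEA hc) hc1 hL hle hs2 hmov
    exact ⟨M, hP c hc hc1 hPc M hD.isMax hle',
      closed_of_datum hM hD (hP c hc hc1 hPc M hD.isMax hle'), hle'⟩
  have hWle : ∀ c ∈ E, c ≠ 1 → P c → IsMax p A θ (θ c) → W ≤ θ c := fun c hc hc1 hPc hst =>
    le_theta_of_comp hM (hEA hc) hc1 hst
      ((hP c hc hc1 hPc _ hst le_rfl).oq_ne_bot (ne_bot_of_max hM hst)) hW.1 hW.2.1
      (isPGroup_of_piNat hW.2.2.1)
  by_cases hN : ∃ N, IsPure p A θ s N ∧ Closed p A θ s N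
  · obtain ⟨N, hN, hNc⟩ := hN
    refine Or.inl ⟨N, hN, hNc, fun c hc hc1 hPc => ?_⟩
    by_cases hst : IsMax p A θ (θ c)
    · exact ((closed_spec hp2 hB hM hN hNc).1 _ hst
        ((oq_le_W hM hN.1 hW).trans (hWle c hc hc1 hPc hst))).le
    · obtain ⟨M, hMp, hMc, hle⟩ := hnon c hc hc1 hPc hst
      exact closed_unique hp2 hB hM hMp hMc hN hNc ▸ hle
  refine Or.inr fun c hc d hd hc1 hd1 hPc hPd => ?_
  by_contra hcd
  have hstat : ∀ x ∈ E, x ≠ 1 → P x → IsMax p A θ (θ x) := fun x hx hx1 hPx => by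
    by_contra h
    obtain ⟨M, hMp, hMc, -⟩ := hnon x hx hx1 hPx h
    exact hN ⟨M, hMp, hMc⟩
  have hsb := hstat c hc hc1 hPc
  have hsc := hstat d hd hd1 hPd
  have hpc := hP c hc hc1 hPc _ hsb le_rfl
  have hpd := hP d hd hd1 hPd _ hsc le_rfl
  refine static_inter hM (hEA hc) hc1 (hEA hd) hd1 hcd hsb hsc (q := s) fun hI => ?_
  have hW1 : W ≠ ⊥ := fun h =>
    hpc.oq_ne_bot (ne_bot_of_max hM hsb) (le_bot_iff.1 (h ▸ oq_le_W hM hsb hW))
  exact omZ_ne_bot (isPGroup_of_piNat hW.2.2.1) hW1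
    (le_bot_iff.1 (hI ▸ le_inf (omZ_le_oq hM hW hpc) (omZ_le_oq hM hW hpd)))

omit hp2 hB hs2 in
/-- Between two primes with a point of the first kind on every line, the component of a pure member
of the first kind is in no pure member of the second. -/
theorem no_cross {u v : ℕ} [Fact u.Prime] [Fact v.Prime] (huv : u ≠ v)
    (hline : ∀ E, E ≤ A → Nat.card E = p ^ 2 →
      ∃ x ∈ E, x ≠ 1 ∧ ∃ L, IsPure p A θ u L ∧ θ x ≤ L)
    {K L : Subgroup G} (hK : IsPure p A θ u K) (hL : IsPure p A θ v L)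
    (hKL : Cfsg.pCoreOf u K ≤ L) : False := by
  have hS := hM.toSetup
  obtain ⟨W, hW⟩ := exists_W1 hM u
  set Z := omZ u W with hZ
  have hW1 : W ≠ ⊥ := fun h =>
    hK.oq_ne_bot (ne_bot_of_max hM hK.1) (le_bot_iff.1 (h ▸ oq_le_W hM hK.1 hW))
  have hZL : Z ≤ L := (omZ_le_oq hM hW hK).trans hKL
  set O := Cfsg.pCoreOf v L with hO
  have hcent : O ≤ Subgroup.centralizer (Z : Set G) := by
    by_contra h
    obtain ⟨D, hDA, hD, hne⟩ := exists_line hM (hS.oq_mem hL.1.1 v) h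
    obtain ⟨x, hx, hx1, Lx, hLx, hle⟩ := hline D hDA hD
    refine hne fun y hy => ?_
    obtain ⟨hyO, hyD⟩ := Subgroup.mem_inf.1 hy
    have hyL : y ∈ Lx := hle ((hS.oq_mem hL.1.1 v).2.2.2 x (hDA hx) hx1
      ⟨hyO, Subgroup.centralizer_le (Set.singleton_subset_iff.2 hx) hyD⟩)
    intro z hz
    have hzu := omZ_le_oq hM hW hLx hz
    have h1 : y * z * y⁻¹ * z⁻¹ ∈ Cfsg.pCoreOf u Lx ⊓ O := by
      refine Subgroup.mem_inf.2
        ⟨mul_mem (mem_normalizer_conj (le_normalizer_oq u Lx hyL) hzu) (inv_mem hzu), ?_⟩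
      have := mul_mem hyO (mem_normalizer_conj (le_normalizer_oq v L (hZL hz)) (inv_mem hyO))
      simpa [mul_assoc] using this
    rw [inf_eq_bot_of_primes (oq_isPGroup u Lx) (oq_isPGroup v L) huv, Subgroup.mem_bot,
      mul_inv_eq_one, mul_inv_eq_iff_eq_mul] at h1
    exact h1.symm
  have hZO : Z ≤ O := le_trans (le_inf hZL (Subgroup.le_centralizer_iff.1 hcent)) hL.centralizer_le
  refine omZ_ne_bot (q := u) (isPGroup_of_piNat hW.2.2.1) hW1 (le_bot_iff.1 ?_)
  rw [← inf_eq_bot_of_primes ((isPGroup_of_piNat hW.2.2.1).to_le (omZ_le (q := u) W))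
    (oq_isPGroup v L) huv]
  exact le_inf le_rfl hZO

omit hp2 hB hM hs2 in
/-- Some maximal member has both components. -/
theorem mixed_false {G : Type u} [Group G] [Finite G] {p : ℕ} {A : Subgroup G}
    {θ : G → Subgroup G} (hp2 : p ≠ 2) (hHat : SFTPure.HatLe.{u}) (hM : Minimal p A θ) {q : ℕ} [Fact q.Prime] (hq2 : q ≠ 2) (hqp : q ≠ p)
    (hσ : ∀ a ∈ A, a ≠ 1 → PiNat {q, 2} (Nat.card (θ a))) {M : Subgroup G} (hMax : IsMax p A θ M)
    (hq : Cfsg.pCoreOf q M ≠ ⊥) (hs : Cfsg.pCoreOf 2 M ≠ ⊥) : False := by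
  classical
  haveI := Fact.mk hM.prime
  have hS := hM.toSetup
  have hqs : q ≠ 2 := hq2
  have hsp : (2 : ℕ) ≠ p := hp2.symm
  set P := Cfsg.pCoreOf q M with hPdef
  set V := Cfsg.pCoreOf 2 M with hVdef
  set Z := P ⊓ Subgroup.centralizer (P : Set G) with hZdef
  have hNZ : Subgroup.normalizer (P : Set G) ≤ Subgroup.normalizer (Z : Set G) :=
    le_normalizer_inf le_rfl (SignalizerCoprime.le_normalizer_centralizer le_rfl)
  have hZm : Z ∈ Cfsg.signalizerFamily p A θ := mem_family_of_le (hS.oq_mem hMax.1 q) inf_le_left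
    ((hS.le_normalizer (hS.oq_mem hMax.1 q)).trans hNZ)
  obtain ⟨B, hBA, hB, hX1⟩ := exists_line hM hZm (S := ⊥) fun h =>
    fixed_ne_bot (oq_isPGroup q M) (oq_isPGroup q M) hq Subgroup.le_normalizer (le_bot_iff.1 h)
  set X := Z ⊓ Subgroup.centralizer (B : Set G) with hXdef
  have hXm : X ∈ Cfsg.signalizerFamily p A θ :=
    hS.member_inf hZm (hS.A_le_normalizer_centralizer hBA)
  have hXθ : ∀ b ∈ B, b ≠ 1 → X ≤ θ b := fun b hb hb1 x hx => hXm.2.2.2 b (hBA hb) hb1
    ⟨hx, Subgroup.centralizer_le (Set.singleton_subset_iff.2 hb) hx.2⟩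
  have hdich : ∀ L, IsMax p A θ L → ∀ b ∈ B, b ≠ 1 → θ b ≤ L →
      L = M ∨ ∀ t : ℕ, t.Prime → t ≠ q → Cfsg.pCoreOf t L = ⊥ := fun L hL b hb hb1 hle =>
    two_primes_unique hM hqs hσ hMax hq hs hXm (fun h => hX1 h.le)
      (le_normalizer_inf ((hMax.2.1.trans (le_normalizer_oq q M)).trans hNZ)
        (hS.T_le_normalizer_centralizer hBA))
      (inf_le_left.trans inf_le_left)
      (fun y hy x hx => ((Subgroup.mem_inf.1 (Subgroup.mem_inf.1 hx).1).2 y hy).symm)
      hL ((hXθ b hb hb1).trans hle)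
  obtain ⟨b0, hb0, hb01, hb0M⟩ : ∃ b ∈ B, b ≠ 1 ∧ ¬ θ b ≤ M := by
    by_contra h
    push Not at h
    exact incomplete_line hM hMax hBA hB h
  obtain ⟨N, hNpure, hNc, hout⟩ : ∃ N, IsPure p A θ q N ∧ Closed p A θ q N ∧
      ∀ b ∈ B, b ≠ 1 → ¬ θ b ≤ M → θ b ≤ N := by
    refine (collect hp2 hHat hM hq2 hBA (fun b => ¬ θ b ≤ M) fun c hc hc1 hcM L hL hle =>
      ⟨hL, (hdich L hL c hc hc1 hle).resolve_left fun h => hcM (h ▸ hle)⟩).resolve_right
        fun h => ?_
    refine SFTStatic.finish hM hMax hBA hB hb0 hb01 fun c hc hcb => ?_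
    by_contra hcM
    exact hcb (h c hc b0 hb0 (fun h1 => hcb (h1 ▸ one_mem _)) hb01 hcM hb0M)
  have hN : IsMax p A θ N := hNpure.1
  have hNp : ∀ t : ℕ, t.Prime → t ≠ q → Cfsg.pCoreOf t N = ⊥ := hNpure.2
  have hb0N : θ b0 ≤ N := hout b0 hb0 hb01 hb0M
  have hMN : ∀ b ∈ B, b ≠ 1 → θ b ≤ M ∨ θ b ≤ N := fun b hb hb1 =>
    or_iff_not_imp_left.2 (hout b hb hb1)
  set P' := Cfsg.pCoreOf q N with hP'def
  have hP'1 : P' ≠ ⊥ := fun h => hb0M (by
    have hN1 : N = ⊥ := by
      by_contra hne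
      obtain ⟨t, ht, htN⟩ := exists_oq_ne_bot hN.1.1 hne
      exact htN (if htq : t = q then htq ▸ h else hNp t ht htq)
    exact (hN1 ▸ hb0N).trans bot_le)
  obtain ⟨W, hW, hWT, hWpi, hWmax⟩ := exists_W1 hM q
  have hWq : IsPGroup q W := isPGroup_of_piNat hWpi
  have hPW : P ≤ W := hWmax P (hS.oq_mem hMax.1 q) (hMax.2.1.trans (le_normalizer_oq q M))
    (piNat_of_isPGroup (oq_isPGroup q M) rfl)
  have hP'W : P' ≤ W := hWmax P' (hS.oq_mem hN.1 q) (hN.2.1.trans (le_normalizer_oq q N))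
    (piNat_of_isPGroup (oq_isPGroup q N) rfl)
  have hWN : W ≤ N := (closed_spec hp2 hHat hM hNpure hNc).2 W ⟨hW, hWT, hWpi, hWmax⟩
  have hT : ∀ c ∈ A, ∀ t ∈ Cfsg.signalizerInf A θ,
      t ∈ Subgroup.normalizer (Subgroup.zpowers c : Set G) :=
    fun c hc t ht => mem_normalizer_zpowers_of_comm (hS.T_centralizes hc ht)
  -- the only maximal member containing `P` and `V`
  have hPV : ∀ L, IsMax p A θ L → P ≤ L → V ≤ L → L = M := by
    intro L hL hPL hVL
    have hcross : ∀ (q s : ℕ) [Fact q.Prime] [Fact s.Prime], q ≠ s → Cfsg.pCoreOf s M ≠ ⊥ →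
        Cfsg.pCoreOf q M ≤ L →
        Cfsg.pCoreOf q M ≤ Subgroup.centralizer (Cfsg.pCoreOf s L : Set G) :=
      fun q s _ _ hqs hs hle x hx u hu =>
        centralizes_member hM hMax hqs hs (hS.oq_mem hL.1 s) (oq_isPGroup s L)
          (hL.2.1.trans (le_normalizer_oq s L)) hx (le_normalizer_oq s L (hle hx)) u hu
    have hPc := hcross q 2 hqs hs hPL
    have hVc := hcross 2 q hqs.symm hq hVL
    refine (max_eq_of_comps hM hMax hL ?_ ?_ hqs hq hs).symm
    · intro t ht
      by_cases htq : t = q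
      · exact htq ▸ hPL
      by_cases hts : t = 2
      · exact hts ▸ hVL
      rw [only_two hM hσ hMax.1 ht htq hts]
      exact bot_le
    · intro t ht
      by_cases htq : t = q
      · subst htq
        exact hM.le_max_oq hMax hs (hS.oq_mem hL.1 t)
          ((Subgroup.le_centralizer_iff.1 hVc).trans
              (SignalizerCoprime.centralizer_le_normalizer V))
      by_cases hts : t = 2
      · subst hts
        exact hM.le_max_oq hMax hq (hS.oq_mem hL.1 2)
          ((Subgroup.le_centralizer_iff.1 hPc).trans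
              (SignalizerCoprime.centralizer_le_normalizer P))
      rw [only_two hM hσ hL.1 ht htq hts]
      exact bot_le
  -- `V` meets every pure member trivially
  have hVpure : ∀ N, IsPure p A θ q N → V ⊓ N = ⊥ := by
    intro N hNpure
    obtain ⟨hN, hNp⟩ := hNpure
    set P' := Cfsg.pCoreOf q N with hP'def
    have hP'W : P' ≤ W := hWmax P' (hS.oq_mem hN.1 q) (hN.2.1.trans (le_normalizer_oq q N))
      (piNat_of_isPGroup (oq_isPGroup q N) rfl)
    set K := P' ⊔ P with hK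
    have hKW : K ≤ W := sup_le hP'W hPW
    have hKA : A ≤ Subgroup.normalizer (K : Set G) := le_normalizer_sup
      (hS.le_normalizer (hS.oq_mem hN.1 q)) (hS.le_normalizer (hS.oq_mem hMax.1 q))
    have hKT : Cfsg.signalizerInf A θ ≤ Subgroup.normalizer (K : Set G) := le_normalizer_sup
      (hN.2.1.trans (le_normalizer_oq q N)) (hMax.2.1.trans (le_normalizer_oq q M))
    have hKm := mem_family_of_le hW hKW hKA
    set U := K ⊓ M with hU
    have hUm : U ∈ Cfsg.signalizerFamily p A θ := hS.member_inf hKm (hS.le_normalizer hMax.1)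
    have hKq : IsPGroup q K := hWq.to_le hKW
    have hfix : ∀ x ∈ V ⊓ N, ∀ y ∈ P', y * x = x * y := by
      intro x hx y hy
      have hxV := (Subgroup.mem_inf.1 hx).1
      have hxK : x ∈ Subgroup.normalizer (K : Set G) := le_normalizer_sup
        (inf_le_right.trans (le_normalizer_oq q N))
        ((inf_le_left.trans (oq_le 2 M)).trans (le_normalizer_oq q M)) hx
      have hxU : x ∈ Subgroup.normalizer (U : Set G) := Subgroup.inf_normalizer_le_normalizer_inf
        (Subgroup.mem_inf.2 ⟨hxK, Subgroup.le_normalizer (oq_le 2 M hxV)⟩)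
      have hxUc := centralizes_member hM hMax hqs.symm hq hUm (hKq.to_le inf_le_left)
        (le_normalizer_inf hKT (hMax.2.1.trans Subgroup.le_normalizer)) hxV hxU
      refine centralizes_of_self_centralizing hKq ?_ hxK (inf_le_left : U ≤ K) hxUc ?_ y
        (Subgroup.mem_sup_left hy)
      · obtain ⟨k, hk⟩ := IsPGroup.iff_orderOf.1 (oq_isPGroup 2 M) ⟨x, hxV⟩
        rw [Subgroup.orderOf_mk] at hk
        rw [hk]
        exact fun h => hqs ((Nat.prime_dvd_prime_iff_eq Fact.out Fact.out).1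
          ((Fact.out : q.Prime).dvd_of_dvd_pow h))
      rintro z ⟨hzK, hzC⟩
      refine ⟨hzK, hM.le_max_oq hMax hq (hS.member_inf hKm
        ((hS.le_normalizer (hS.oq_mem hMax.1 q)).trans Subgroup.le_normalizer)) inf_le_right
        ⟨hzK, SignalizerCoprime.centralizer_le_normalizer P (Subgroup.centralizer_le
          (fun w hw => Subgroup.mem_inf.2 ⟨Subgroup.mem_sup_right hw, oq_le q M hw⟩) hzC)⟩⟩
    refine le_bot_iff.1 (le_trans (le_oq_of_commute hN.1.1 inf_le_right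
      ((oq_isPGroup 2 M).to_le inf_le_left) fun t ht => ?_) (hNp 2 Fact.out hqs.symm).le)
    by_cases htq : t = q
    · subst htq
      exact fun x hx y hy => hfix x hx y hy
    · rw [hNp t ht htq]
      exact fun x _ y hy => by rw [Subgroup.mem_bot.1 hy, one_mul, mul_one]
  have hVN : V ⊓ N = ⊥ := hVpure N hNpure
  have hV1 : V ≠ ⊥ := hs
  -- no element with value outside `M` centralises `P'`
  have hmove : ∀ c ∈ B, c ≠ 1 → ¬ θ c ≤ M →
      ¬ P' ≤ Subgroup.centralizer ({c} : Set G) := by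
    intro c hc hc1 hcM h
    have hNc : N ≤ Subgroup.centralizer ({c} : Set G) :=
      centralizes_of_comps hN.1.1 hN.1.2.1 (hM.hA.2 c (hBA hc))
        (hS.le_normalizer hN.1 (hBA hc)) fun t ht y hy => by
          by_cases htq : t = q
          · subst htq
            exact mem_centralizer_singleton.1 (h hy)
          · rw [hNp t ht htq, Subgroup.mem_bot] at hy
            rw [hy, one_mul, mul_one]
    exact hcM (theta_le_of_line hp2 hM hMax hBA hB hc hc1 fun b hb hbc =>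
      (hMN b hb fun h1 => hbc (h1 ▸ one_mem _)).imp id fun h1 => h1.trans hNc)
  set W0 := W ⊓ M with hW0
  have hW0A : A ≤ Subgroup.normalizer (W0 : Set G) :=
    le_normalizer_inf (hS.le_normalizer hW) (hS.le_normalizer hMax.1)
  have hW0T : Cfsg.signalizerInf A θ ≤ Subgroup.normalizer (W0 : Set G) :=
    le_normalizer_inf hWT (hMax.2.1.trans Subgroup.le_normalizer)
  have hW0q : IsPGroup q W0 := hWq.to_le inf_le_left
  have hPW0 : P ≤ W0 := le_inf hPW (oq_le q M)
  have hcV : ∀ c ∈ B, c ≠ 1 → ¬ θ c ≤ M →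
      ⁅W0, Subgroup.zpowers c⁆ ≤ Subgroup.centralizer (V : Set G) := by
    intro c hc hc1 hcM
    refine BGCoprimeFPF.commutator_centralizes_sylow (ℓ := 2) hM.prime Fact.out hp2 hq2 hqp.symm
      hqs.symm hsp (hM.hA.2 c (hBA hc)) (oq_isPGroup 2 M) hW0q
      (inf_le_right.trans (le_normalizer_oq 2 M))
      (hS.le_normalizer (hS.oq_mem hMax.1 2) (hBA hc)) (hW0A (hBA hc)) (le_bot_iff.1 ?_)
    rw [← hVN]
    exact le_inf inf_le_left (((hS.oq_mem hMax.1 2).2.2.2 c (hBA hc) hc1).trans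
      ((hMN c hc hc1).resolve_left hcM))
  have hWM : W ≤ M := by
    by_contra hne
    obtain ⟨n, hnW, hn0, hnN⟩ := exists_normalizer_grows hWq (inf_le_left : W0 ≤ W)
      fun h => hne (h ▸ inf_le_right)
    refine hn0 ((?_ : W ⊓ Subgroup.normalizer (W0 : Set G) ≤ W0) ⟨hnW, hnN⟩)
    have hXA : A ≤ Subgroup.normalizer
        ((W ⊓ Subgroup.normalizer (W0 : Set G) : Subgroup G) : Set G) :=
      le_normalizer_inf (hS.le_normalizer hW) (hW0A.trans Subgroup.le_normalizer)
    have hXm := mem_family_of_le hW inf_le_left hXA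
    refine hS.le_of_points hBA hB.ge (hBA.trans hXA) hXm.2.1 fun c hc hc1 => ?_
    refine le_inf (inf_le_left.trans inf_le_left) ?_
    by_cases hcM : θ c ≤ M
    · exact (hXm.2.2.2 c (hBA hc) hc1).trans hcM
    set Uc := ⁅W0, Subgroup.zpowers c⁆ with hUc
    have hcW0 : Subgroup.zpowers c ≤ Subgroup.normalizer (W0 : Set G) :=
      (Subgroup.zpowers_le.2 (hBA hc)).trans hW0A
    have hUcW : Uc ≤ W0 := CoprimeAction.commutator_le_self_of_le_normalizer hcW0
    have hUc1 : Uc ≠ ⊥ := by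
      intro h
      rw [hUc, Subgroup.commutator_eq_bot_iff_le_centralizer] at h
      refine hmove c hc hc1 hcM fun y hy => mem_centralizer_singleton.2 ?_
      refine centralizes_of_self_centralizing hWq ?_ (hS.le_normalizer hW (hBA hc)) inf_le_left
        (fun w hw => (h hw c (Subgroup.mem_zpowers c)).symm) ?_ y (hP'W hy)
      · rw [orderOf_eq_prime (hM.hA.2 c (hBA hc)) hc1]
        exact fun h => hqp ((Nat.prime_dvd_prime_iff_eq Fact.out hM.prime).1 h)
      rintro z ⟨hzW, hzC⟩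
      refine ⟨hzW, hM.le_max_oq hMax hq (hS.member_inf hW
        ((hS.le_normalizer (hS.oq_mem hMax.1 q)).trans Subgroup.le_normalizer)) inf_le_right
        ⟨hzW, SignalizerCoprime.centralizer_le_normalizer P (Subgroup.centralizer_le hPW0 hzC)⟩⟩
    have hUcA : A ≤ Subgroup.normalizer (Uc : Set G) :=
      le_normalizer_commutator hW0A (SFTLines.le_normalizer_zpowers hM.hA (hBA hc))
    obtain ⟨L, hL, hLle⟩ := exists_norm_max hM
      (mem_family_of_le hW (hUcW.trans inf_le_left) hUcA) hUc1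
      (le_normalizer_commutator hW0T (hT c (hBA hc)))
    have hLM : L = M := hPV L hL
      (hLle P (hS.oq_mem hMax.1 q)
        (hPW0.trans (Subgroup.normalizer_commutator_ge_left _ _)))
      (hLle V (hS.oq_mem hMax.1 2) ((Subgroup.le_centralizer_iff.1 (hcV c hc hc1 hcM)).trans
        (SignalizerCoprime.centralizer_le_normalizer _)))
    rw [← hLM]
    exact hLle _ (hS.member_inf hXm (hS.A_le_normalizer_centralizer (by simpa using hBA hc)))
      (le_normalizer_commutator (inf_le_left.trans inf_le_right) fun g hg =>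
        mem_normalizer_zpowers_of_comm (mem_centralizer_singleton.1 hg.2))
  -- the final step
  set U := ⁅P', Subgroup.zpowers b0⁆ with hU
  have hb0A := hBA hb0
  have hbP' : Subgroup.zpowers b0 ≤ Subgroup.normalizer (P' : Set G) :=
    (Subgroup.zpowers_le.2 hb0A).trans (hS.le_normalizer (hS.oq_mem hN.1 q))
  have hUP : U ≤ P' := CoprimeAction.commutator_le_self_of_le_normalizer hbP'
  have hU1 : U ≠ ⊥ := by
    intro h
    rw [hU, Subgroup.commutator_eq_bot_iff_le_centralizer] at h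
    exact hmove b0 hb0 hb01 hb0M (h.trans (Subgroup.centralizer_le
      (Set.singleton_subset_iff.2 (Subgroup.mem_zpowers b0))))
  have hθU : θ b0 ≤ Subgroup.normalizer (U : Set G) :=
    le_normalizer_commutator (hb0N.trans (le_normalizer_oq q N)) fun g hg =>
      mem_normalizer_zpowers_of_comm (mem_centralizer_singleton.1 (hS.theta_le hb0A hb01 hg))
  obtain ⟨L, hL, hLle⟩ := exists_norm_max hM
    (mem_family_of_le (hS.oq_mem hN.1 q) hUP (le_normalizer_commutator
      (hS.le_normalizer (hS.oq_mem hN.1 q)) (SFTLines.le_normalizer_zpowers hM.hA hb0A)))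
    hU1 ((hS.T_le hb0A hb01).trans hθU)
  have hb0L : θ b0 ≤ L := hLle _ (hS.theta_mem hb0A hb01) hθU
  have hVL : V ≤ L := hLle V (hS.oq_mem hMax.1 2) ((Subgroup.le_centralizer_iff.1
    ((Subgroup.commutator_mono (le_inf hP'W (hP'W.trans hWM)) le_rfl).trans
      (hcV b0 hb0 hb01 hb0M))).trans (SignalizerCoprime.centralizer_le_normalizer U))
  rcases hdich L hL b0 hb0 hb01 hb0L with h | h
  · exact hb0M (h ▸ hb0L)
  · exact hV1 (le_bot_iff.1 (hVpure L ⟨hL, h⟩ ▸ le_inf le_rfl hVL))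

/-- All maximal members have one component. -/
theorem pure_false (hsp : s ≠ p)
    (hσ : ∀ a ∈ A, a ≠ 1 → PiNat {2, s} (Nat.card (θ a)))
    (hpure : ∀ M, IsMax p A θ M → Cfsg.pCoreOf 2 M = ⊥ ∨ Cfsg.pCoreOf s M = ⊥) : False := by
  haveI := Fact.mk hM.prime
  have hS := hM.toSetup
  have hqs : (2 : ℕ) ≠ s := hs2.symm
  have hqp : (2 : ℕ) ≠ p := hp2.symm
  have hkind : ∀ L, IsMax p A θ L → IsPure p A θ 2 L ∨ IsPure p A θ s L := by
    intro L hL
    rcases hpure L hL with h | h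
    · exact Or.inr ⟨hL, fun t ht hts =>
        if htq : t = 2 then htq ▸ h else only_two hM hσ hL.1 ht htq hts⟩
    · exact Or.inl ⟨hL, fun t ht htq =>
        if hts : t = s then hts ▸ h else only_two hM hσ hL.1 ht htq hts⟩
  -- every line has a point below a pure member for 2
  have hline2 : ∀ E, E ≤ A → Nat.card E = p ^ 2 →
      ∃ x ∈ E, x ≠ 1 ∧ ∃ L, IsPure p A θ 2 L ∧ θ x ≤ L := by
    intro E hEA hE
    by_contra h
    push Not at h
    rcases collect hp2 hB hM hs2 hEA (fun _ => True) (fun c hc hc1 _ L hL hle =>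
      (hkind L hL).resolve_left fun h2 => h c hc hc1 L h2 hle) with ⟨N, hN, -, hall⟩ | hdep
    · exact incomplete_line hM hN.1 hEA hE fun e he he1 => hall e he he1 trivial
    · obtain ⟨x, hx, hx1⟩ := exists_not_mem_zpowers hM hE (one_mem A)
      have hx1' : x ≠ 1 := fun h => hx1 (by rw [h]; exact one_mem _)
      obtain ⟨y, hy, hyx⟩ := exists_not_mem_zpowers hM hE (hEA hx)
      exact hyx (hdep y hy x hx (fun h => hyx (h ▸ one_mem _)) hx1' trivial trivial)
  obtain ⟨E₀, hE₀A, hE₀⟩ : ∃ E, E ≤ A ∧ Nat.card E = p ^ 2 := by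
    obtain ⟨E, hEA, -, hE⟩ := exists_le_card_sq hS.isPGroup hM.hcard bot_le fun h => by
      have h1 := congrArg (fun H : Subgroup G => Nat.card H) h
      simp only [Subgroup.card_bot, hM.hcard] at h1
      exact (Nat.one_lt_pow (by norm_num) hM.prime.one_lt).ne h1
    exact ⟨E, hEA, hE⟩
  have hclosed2 : ∀ K, IsPure p A θ 2 K → Closed p A θ 2 K := fun K hK L hL hle =>
    (hkind L hL).resolve_right fun h => no_cross hM hqs hline2 hK h hle
  obtain ⟨-, -, -, M, hMpure, -⟩ := hline2 E₀ hE₀A hE₀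
  have huniq2 : ∀ L, IsPure p A θ 2 L → L = M := fun L hL =>
    closed_unique hp2 hB hM hL (hclosed2 L hL) hMpure (hclosed2 M hMpure)
  -- every line has a point below a pure member for the odd prime
  have hlines : ∀ E, E ≤ A → Nat.card E = p ^ 2 →
      ∃ x ∈ E, x ≠ 1 ∧ ∃ L, IsPure p A θ s L ∧ θ x ≤ L := by
    intro E hEA hE
    by_contra h
    push Not at h
    refine incomplete_line hM hMpure.1 hEA hE fun e he he1 => ?_
    obtain ⟨L, hL, hle⟩ := hS.exists_max_theta (hEA he) he1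
    exact huniq2 L ((hkind L hL).resolve_right fun hs => h e he he1 L hs hle) ▸ hle
  have hcloseds : ∀ K, IsPure p A θ s K → Closed p A θ s K := fun K hK L hL hle =>
    (hkind L hL).resolve_left fun h => no_cross hM hs2 hlines hK h hle
  obtain ⟨-, -, -, N, hNpure, -⟩ := hlines E₀ hE₀A hE₀
  have huniqs : ∀ L, IsPure p A θ s L → L = N := fun L hL =>
    closed_unique hp2 hB hM hL (hcloseds L hL) hNpure (hcloseds N hNpure)
  obtain ⟨hMax, hMp⟩ := hMpure
  obtain ⟨hNax, hNp⟩ := hNpure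
  have hMs : Cfsg.pCoreOf s M = ⊥ := hMp s Fact.out hs2
  have hMq : Cfsg.pCoreOf 2 M ≠ ⊥ := IsPure.oq_ne_bot ⟨hMax, hMp⟩ (ne_bot_of_max hM hMax)
  have hne : M ≠ N := fun h => hMq (h ▸ hNp 2 Nat.prime_two hqs)
  have hMN : ∀ a ∈ A, a ≠ 1 → θ a ≤ M ∨ θ a ≤ N := by
    intro a ha ha1
    obtain ⟨L, hL, hle⟩ := hS.exists_max_theta ha ha1
    rcases hkind L hL with h | h
    · exact Or.inl (huniq2 L h ▸ hle)
    · exact Or.inr (huniqs L h ▸ hle)
  set P := Cfsg.pCoreOf 2 M with hPdef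
  set V := Cfsg.pCoreOf s N with hVdef
  set D := V ⊓ M with hD
  have hDA : A ≤ Subgroup.normalizer (D : Set G) :=
    le_normalizer_inf (hS.le_normalizer (hS.oq_mem hNax.1 s)) (hS.le_normalizer hMax.1)
  have hDU : ∀ u ∈ P ⊓ N, ∀ d ∈ D, u * d = d * u := fun u hu d hd =>
    commute_of_normalize (inf_eq_bot_of_primes ((oq_isPGroup 2 M).to_le inf_le_left)
      ((oq_isPGroup s N).to_le inf_le_left) hqs) hu hd
      (Subgroup.inf_normalizer_le_normalizer_inf (Subgroup.mem_inf.2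
        ⟨le_normalizer_oq s N (Subgroup.mem_inf.1 hu).2,
          Subgroup.le_normalizer (oq_le 2 M (Subgroup.mem_inf.1 hu).1)⟩))
      (Subgroup.inf_normalizer_le_normalizer_inf (Subgroup.mem_inf.2
        ⟨le_normalizer_oq 2 M (Subgroup.mem_inf.1 hd).2,
          Subgroup.le_normalizer (oq_le s N (Subgroup.mem_inf.1 hd).1)⟩))
  have hsD : ∀ c ∈ A, c ≠ 1 → θ c ≤ N → c ∈ Subgroup.centralizer (D : Set G) := by
    intro c hc hc1 hcN
    have hcD : Subgroup.zpowers c ≤ Subgroup.normalizer (D : Set G) :=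
      (Subgroup.zpowers_le.2 hc).trans hDA
    have h1 := centralizes_of_fixed (t := 2) hM.prime (Fact.out : s.Prime) hp2 hs2 hsp.symm hqs hqp
      (hM.hA.2 c hc) (oq_isPGroup 2 M) ((oq_isPGroup s N).to_le (inf_le_left : D ≤ V))
      (inf_le_right.trans (le_normalizer_oq 2 M)) (hS.le_normalizer (hS.oq_mem hMax.1 2) hc)
      (hDA hc) fun w hw hwc x hx => hDU w ⟨hw, hcN ((hS.oq_mem hMax.1 2).2.2.2 c hc hc1
        ⟨hw, mem_centralizer_singleton.2 hwc⟩)⟩ x hx
    have h2 : ⁅D, Subgroup.zpowers c⁆ = ⊥ := by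
      have hle := CoprimeAction.commutator_le_self_of_le_normalizer hcD
      refine le_bot_iff.1 (le_trans (le_oq_of_commute hMax.1.1 (hle.trans inf_le_right)
        ((oq_isPGroup s N).to_le (hle.trans inf_le_left)) fun t ht => ?_) hMs.le)
      by_cases htq : t = 2
      · exact htq ▸ h1
      · rw [hMp t ht htq]
        exact fun x _ y hy => by rw [Subgroup.mem_bot.1 hy, one_mul, mul_one]
    rw [Subgroup.commutator_eq_bot_iff_le_centralizer, Subgroup.le_centralizer_iff] at h2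
    exact h2 (Subgroup.mem_zpowers c)
  have hAD : A ≤ Subgroup.centralizer (D : Set G) := by
    intro a ha
    obtain ⟨E, hEA, haE, hE⟩ := exists_le_card_sq hS.isPGroup hM.hcard
      (Subgroup.zpowers_le.2 ha) (fun h => by
        have h1 := congrArg (fun H : Subgroup G => Nat.card H) h
        rw [Nat.card_zpowers, hM.hcard] at h1
        have h2 := orderOf_le_of_pow_eq_one hM.prime.pos (hM.hA.2 a ha)
        have h3 : p < p ^ 3 := by
          simpa using Nat.pow_lt_pow_right hM.prime.one_lt (show 1 < 3 by norm_num)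
        omega)
    have hex : ∀ z ∈ E, z ≠ 1 → ∃ c ∈ E, c ∉ Subgroup.zpowers z ∧ θ c ≤ N := by
      intro z hz hz1
      by_contra h
      push Not at h
      exact finish hM hMax hEA hE hz hz1 fun c hc hcz =>
        (hMN c (hEA hc) fun h1 => hcz (h1 ▸ one_mem _)).resolve_right (h c hc hcz)
    obtain ⟨z, hz, hz1⟩ := exists_not_mem_zpowers hM hE (one_mem A)
    have hz1' : z ≠ 1 := fun h => hz1 (by rw [h]; exact one_mem _)
    obtain ⟨c1, hc1, hc1z, hc1N⟩ := hex z hz hz1'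
    have hc11 : c1 ≠ 1 := fun h => hc1z (h ▸ one_mem _)
    obtain ⟨c2, hc2, hc2c, hc2N⟩ := hex c1 hc1 hc11
    have hle : Subgroup.zpowers c1 ⊔ Subgroup.zpowers c2 ≤ E :=
      sup_le (Subgroup.zpowers_le.2 hc1) (Subgroup.zpowers_le.2 hc2)
    have heq := Subgroup.eq_of_le_of_card_ge hle
      (hE ▸ sq_le_card_sup hM.hA (hEA hc1) hc11 (hEA hc2) hc2c)
    exact (heq ▸ sup_le (Subgroup.zpowers_le.2 (hsD c1 (hEA hc1) hc11 hc1N))
      (Subgroup.zpowers_le.2 (hsD c2 (hEA hc2) (fun h => hc2c (h ▸ one_mem _)) hc2N))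
      : E ≤ _) (haE (Subgroup.mem_zpowers a))
  by_cases hVA : V ≤ Subgroup.centralizer (A : Set G)
  · refine hne (hNax.2.2 M hMax.1 fun x hx => hMax.2.1 (Subgroup.mem_iInf.2 fun a => ?_))
    refine hNax.1.2.2.2 a.1 a.2.1 a.2.2 ⟨hx, centralizes_of_comps hNax.1.1 hNax.1.2.1
      (hM.hA.2 _ a.2.1) (hS.le_normalizer hNax.1 a.2.1) (fun t ht y hy => ?_) hx⟩
    by_cases hts : t = s
    · subst hts
      exact (hVA hy a.1 a.2.1).symm
    · rw [hNp t ht hts, Subgroup.mem_bot] at hy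
      rw [hy, one_mul, mul_one]
  obtain ⟨E, hEA, hE, hEmov⟩ := exists_line hM (hS.oq_mem hNax.1 s) hVA
  refine incomplete_line hM hNax hEA hE fun e he he1 =>
    (hMN e (hEA he) he1).resolve_left fun heM => hEmov fun x hx => ?_
  have hxD : x ∈ D := ⟨hx.1, heM ((hS.oq_mem hNax.1 s).2.2.2 e (hEA he) he1
    ⟨hx.1, Subgroup.centralizer_le (Set.singleton_subset_iff.2 he) hx.2⟩)⟩
  exact fun b hb => (hAD hb x hxD).symm


omit hp2 hB hM hs2 in
/-- The two-prime case with values for the primes `2` and `s`. -/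
theorem two_primes_false {G : Type u} [Group G] [Finite G] {p : ℕ} {A : Subgroup G}
    {θ : G → Subgroup G} (hp2 : p ≠ 2) (hB : SFTPure.HatLe.{u}) (hM : Minimal p A θ) {s : ℕ}
    [Fact s.Prime] (hs2 : s ≠ 2) (hsp : s ≠ p)
    (hσ : ∀ a ∈ A, a ≠ 1 → PiNat {2, s} (Nat.card (θ a))) : False := by
  by_cases h : ∃ M, IsMax p A θ M ∧ Cfsg.pCoreOf 2 M ≠ ⊥ ∧ Cfsg.pCoreOf s M ≠ ⊥
  · obtain ⟨M, hMax, h2, hs⟩ := h
    exact mixed_false hp2 hB hM hs2 hsp (by rwa [Set.pair_comm]) hMax hs h2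
  · refine pure_false hp2 hB hM hs2 hsp hσ fun M hMax => ?_
    by_contra hc
    push Not at hc
    exact h ⟨M, hMax, hc⟩

end Cfsg.Agent.SFTPureTwoPrime
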