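import Mathlib
import Cfsg.Agent.Lib.SFTPureTwoPrime
import Cfsg.Agent.Lib.SFTPurePair

/-!
# No odd component in the largest members for the prime two and an odd prime

Then all maximal members with a component for the prime two are pure, and one of them contains the values
on a whole line.
-/

set_option autoImplicit false
set_option linter.unusedSectionVars false

namespace Cfsg.Agent.SFTPureNoOddPair

open Cfsg.Agent.SignalizerCoprime Cfsg.Agent.HallCore Cfsg.Agent.SFTGroup Cfsg.Agent.SFTSigma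
  Cfsg.Agent.SFTCtx Cfsg.Agent.SFTStatic Cfsg.Agent.SFTPair Cfsg.Agent.SFTPure
  Cfsg.Agent.SFTPureBasic
open Cfsg.Agent.SignalizerTransitivity (mem_family_of_le)

universe u

variable {G : Type u} [Group G] [Finite G] {p : ℕ} {A : Subgroup G} {θ : G → Subgroup G}

/-- No component outside the primes of the order. -/
theorem oq_bot_of_piNat {σ : Set ℕ} {H : Subgroup G} (hH : PiNat σ (Nat.card H)) {t : ℕ} (ht : t.Prime)
    (htσ : t ∉ σ) : Cfsg.pCoreOf t H = ⊥ := by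
  haveI := Fact.mk ht
  obtain ⟨k, hk⟩ := IsPGroup.iff_card.1 (oq_isPGroup t H)
  cases k with
  | zero => exact Subgroup.card_eq_one.1 (by simpa using hk)
  | succ k =>
    exact absurd (hH t ht ((hk ▸ dvd_pow_self t k.succ_ne_zero).trans
      (Subgroup.card_dvd_of_le (oq_le t H)))) htσ

variable (hM : Minimal p A θ)
  (hbig : ∀ q s : ℕ, q.Prime → s.Prime → q ≠ s → ∃ a ∈ A, a ≠ 1 ∧ ¬ PiNat {q, s} (Nat.card (θ a)))
  (hC : ∀ r : ℕ, r.Prime → r ≠ 2 → ∀ H, IsW p A θ {2, r} H → Cfsg.pCoreOf r H = ⊥)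
include hM hbig hC

/-- `Ω₁(Z(W))` lies in the component for 2 of the largest members for 2 and an odd prime. -/
theorem omZ_le_oq_pair {W : Subgroup G} (hW : IsW p A θ {2} W) {r : ℕ} (hr : r.Prime) (hr2 : r ≠ 2)
    {H : Subgroup G} (hH : IsW p A θ {2, r} H) : omZ 2 W ≤ Cfsg.pCoreOf 2 H := by
  have hS := hM.toSetup
  have hZA := (hS.le_normalizer hW.1).trans (normalizer_le_omZ (q := 2) W)
  have hZm := mem_family_of_le hW.1 (omZ_le (q := 2) W) hZA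
  have hZp : IsPGroup 2 (omZ 2 W) := (isPGroup_of_piNat hW.2.2.1).to_le (omZ_le (q := 2) W)
  have hZH : omZ 2 W ≤ H := hH.2.2.2 _ hZm (hW.2.1.trans (normalizer_le_omZ W))
    (piNat_of_isPGroup hZp (Or.inl rfl))
  have hOW : Cfsg.pCoreOf 2 H ≤ W := hW.2.2.2 _ (hS.oq_mem hH.1 2)
    (hH.2.1.trans (normalizer_le_normalizer_oq 2 H)) (piNat_of_isPGroup (oq_isPGroup 2 H) rfl)
  refine le_oq_of_commute hH.1.1 hZH hZp fun t ht => ?_
  by_cases ht2 : t = 2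
  · subst ht2
    exact fun z hz y hy => omZ_comm hz (hOW hy)
  · have hbot : Cfsg.pCoreOf t H = ⊥ := by
      by_cases htr : t = r
      · exact htr ▸ hC r hr hr2 H hH
      · exact oq_bot_of_piNat hH.2.2.1 ht (by simp [ht2, htr])
    intro z _ y hy
    rw [hbot] at hy
    rw [Subgroup.mem_bot.1 hy, one_mul, mul_one]

/-- A maximal member containing part of `Ω₁(Z(W))` has a component for 2. -/
theorem oq_two_ne_bot {W : Subgroup G} (hW : IsW p A θ {2} W) {X : Subgroup G} (hX1 : X ≠ ⊥)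
    (hXZ : X ≤ omZ 2 W) {L : Subgroup G} (hL : IsMax p A θ L) (hXL : X ≤ L) :
    Cfsg.pCoreOf 2 L ≠ ⊥ := by
  intro hbot
  have hXp : IsPGroup 2 X := (isPGroup_of_piNat hW.2.2.1).to_le (hXZ.trans (omZ_le (q := 2) W))
  refine hX1 (le_bot_iff.1 ((le_oq_of_commute hL.1.1 hXL hXp fun t ht => ?_).trans hbot.le))
  intro x hx y hy
  by_cases ht2 : t = 2
  · subst ht2
    rw [hbot] at hy
    rw [Subgroup.mem_bot.1 hy, one_mul, mul_one]
  haveI := Fact.mk ht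
  obtain ⟨H, hH⟩ := hM.exists_W {2, t} (hbig 2 t Nat.prime_two ht (Ne.symm ht2))
  have hyH : y ∈ H := comp_le_pi hM hH hL (Or.inr rfl) hy
  exact (commute_of_normalize (inf_eq_bot_of_primes (oq_isPGroup 2 H) (oq_isPGroup t L) (Ne.symm ht2))
    (omZ_le_oq_pair hM hbig hC hW ht ht2 hH (hXZ hx)) hy (le_normalizer_oq t L (hXL hx))
    (le_normalizer_oq 2 H hyH)).symm

/-- No odd component in the pairs is impossible. -/
theorem no_odd_pair_false_of (hp2 : p ≠ 2) (hB : SFTPure.HatLe.{u})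
    (hpair : ∀ t : ℕ, t.Prime → t ≠ 2 → ∀ H, IsW p A θ {2, t} H → ∀ L, IsMax p A θ L →
      Cfsg.pCoreOf t L ≠ ⊥ → Cfsg.pCoreOf 2 L ≠ ⊥ → Cfsg.pCoreOf t L ≤ Cfsg.pCoreOf t H)
    (hns : ∃ a ∈ A, a ≠ 1 ∧ ∃ L, IsMax p A θ L ∧ θ a ≤ L ∧ Cfsg.pCoreOf 2 L ≠ ⊥) : False := by
  haveI := Fact.mk hM.prime
  have hS := hM.toSetup
  have hpure : ∀ L, IsMax p A θ L → Cfsg.pCoreOf 2 L ≠ ⊥ → IsPure p A θ 2 L := fun L hL hL2 =>
    ⟨hL, fun t ht ht2 => by
      by_contra h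
      obtain ⟨H, hH⟩ := hM.exists_W {2, t} (hbig 2 t Nat.prime_two ht (Ne.symm ht2))
      exact h (le_bot_iff.1 ((hpair t ht ht2 H hH L hL h hL2).trans (hC t ht ht2 H hH).le))⟩
  obtain ⟨W, hW⟩ := exists_W1 hM 2
  have hW1 : W ≠ ⊥ := by
    obtain ⟨a, -, -, L, hL, -, hL2⟩ := hns
    exact fun h => hL2 (le_bot_iff.1 (h ▸ oq_le_W hM hL hW))
  set Z := omZ 2 W with hZ
  have hZA := (hS.le_normalizer hW.1).trans (normalizer_le_omZ (q := 2) W)
  have hZm : Z ∈ Cfsg.signalizerFamily p A θ := mem_family_of_le hW.1 (omZ_le (q := 2) W) hZA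
  have hZ1 : Z ≠ ⊥ := omZ_ne_bot (isPGroup_of_piNat hW.2.2.1) hW1
  obtain ⟨D, hDA, hD, hne⟩ := exists_line hM hZm (S := ⊥) fun h => hZ1 (le_bot_iff.1 h)
  set X := Z ⊓ Subgroup.centralizer (D : Set G) with hX
  have hX1 : X ≠ ⊥ := fun h => hne h.le
  have hclosed : ∀ L, IsMax p A θ L → X ≤ L → IsPure p A θ 2 L ∧ Closed p A θ 2 L := by
    intro L hL hXL
    have hLp := hpure L hL (oq_two_ne_bot hM hbig hC hW hX1 inf_le_left hL hXL)
    refine ⟨hLp, fun N hN hle => hpure N hN (oq_two_ne_bot hM hbig hC hW hX1 inf_le_left hN ?_)⟩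
    exact (inf_le_left.trans (SFTPureTwoPrime.omZ_le_oq hM hW hLp)).trans hle
  have hXθ : ∀ y ∈ D, y ≠ 1 → X ≤ θ y := fun y hy hy1 =>
    (inf_le_inf_left _ (Subgroup.centralizer_le (Set.singleton_subset_iff.2 hy))).trans
      (hZm.2.2.2 y (hDA hy) hy1)
  obtain ⟨y₀, hy₀, hy₀1⟩ := exists_not_mem_zpowers hM hD (z := 1) (one_mem A)
  have hy1 : y₀ ≠ 1 := fun h => hy₀1 (by rw [h]; exact one_mem _)
  obtain ⟨K, hK, hKle⟩ := hS.exists_max_theta (hDA hy₀) hy1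
  refine incomplete_line hM hK hDA hD fun y hy hyne => ?_
  obtain ⟨L, hL, hLle⟩ := hS.exists_max_theta (hDA hy) hyne
  obtain ⟨hLp, hLc⟩ := hclosed L hL ((hXθ y hy hyne).trans hLle)
  obtain ⟨hKp, hKc⟩ := hclosed K hK ((hXθ y₀ hy₀ hy1).trans hKle)
  exact closed_unique hp2 hB hM hLp hLc hKp hKc ▸ hLle

omit hM hbig hC in
/-- If the largest members for 2 and an odd prime have no odd component, the functor is complete. -/
theorem no_odd_pair_false {G : Type u} [Group G] [Finite G] {p : ℕ} {A : Subgroup G} {θ : G → Subgroup G}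
    (hp2 : p ≠ 2) (hB : SFTPure.HatLe.{u}) (hM : Minimal p A θ)
    (hbig : ∀ q s : ℕ, q.Prime → s.Prime → q ≠ s → ∃ a ∈ A, a ≠ 1 ∧ ¬ PiNat {q, s} (Nat.card (θ a)))
    (hns : ∃ a ∈ A, a ≠ 1 ∧ ∃ L, IsMax p A θ L ∧ θ a ≤ L ∧ Cfsg.pCoreOf 2 L ≠ ⊥)
    (hC : ∀ r : ℕ, r.Prime → r ≠ 2 → ∀ H, IsW p A θ {2, r} H → Cfsg.pCoreOf r H = ⊥) : False :=
  no_odd_pair_false_of hM hbig hC hp2 hB
    (fun t ht ht2 H hH L hL h1 h2 =>
      haveI := Fact.mk ht
      SFTPurePair.comp_le_pair hM ht2 (Set.pair_comm 2 t ▸ hH) hL h1 h2) hns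

end Cfsg.Agent.SFTPureNoOddPair
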