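import Mathlib
import Cfsg.Agent.Lib.SFTPureShared
import Cfsg.Agent.Lib.SFTPureNoOddPair

/-!
# No element moves an odd component

Let `U` be the largest odd invariant member and `M` a maximal member above it.  Either a component
of `M` meets the component of a pair member, which gives a shared line, or a component of a pair
member commutes with all components of `M` and is trivial.
-/

set_option autoImplicit false
set_option linter.unusedSectionVars false

namespace Cfsg.Agent.SFTPureNoGood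

open Cfsg.Agent.SignalizerCoprime Cfsg.Agent.HallCore Cfsg.Agent.SFTGroup Cfsg.Agent.SFTSigma
  Cfsg.Agent.SFTCtx Cfsg.Agent.SFTStatic Cfsg.Agent.SFTPureShared
open Cfsg.Agent.SignalizerTransitivity (mem_family_of_le coprime_card_member)
open scoped commutatorElement

universe u

variable {G : Type u} [Group G] [Finite G] {p : ℕ} {A : Subgroup G} {θ : G → Subgroup G}

/-- The derived series of a subgroup, inside the group. -/
def ser (U : Subgroup G) (k : ℕ) : Subgroup G := (derivedSeries ↥U k).map U.subtype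

theorem ser_succ (U : Subgroup G) (k : ℕ) : ser U (k + 1) = ⁅ser U k, ser U k⁆ := by
  rw [ser, derivedSeries_succ, Subgroup.map_commutator]; rfl

theorem ser_zero (U : Subgroup G) : ser U 0 = U := by
  rw [ser, derivedSeries_zero, ← MonoidHom.range_eq_map, Subgroup.range_subtype]

theorem ser_le_normalizer (U : Subgroup G) (k : ℕ) :
    Subgroup.normalizer (U : Set G) ≤ Subgroup.normalizer (ser U k : Set G) :=
  le_normalizer_of_forall fun _ hg _ hx => conj_mem_map_of_characteristic hg hx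

variable (hM : Minimal p A θ)
include hM

/-- In a member, the components commute modulo the `u`-component, which misses `R'`. -/
theorem commute_pair {r u : ℕ} [Fact r.Prime] [Fact u.Prime] {U MU : Subgroup G}
    (hU : IsW p A θ {t | t ≠ 2} U) (hUM : U ≤ MU) (hMU : IsMax p A θ MU) {H : Subgroup G}
    (hH : IsW p A θ {2, r} H) (hu2 : u ≠ 2) (hr2 : r ≠ 2)
    {M : Subgroup G} (hMm : M ∈ Cfsg.signalizerFamily p A θ)
    (hMT : Cfsg.signalizerInf A θ ≤ Subgroup.normalizer (M : Set G))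
    (hCM : Cfsg.pCoreOf r H ≤ M) (hRM : Cfsg.pCoreOf u MU ≤ M)
    (hI : Cfsg.pCoreOf u MU ⊓ Cfsg.pCoreOf u M = ⊥) :
    Cfsg.pCoreOf r H ≤ Subgroup.centralizer (Cfsg.pCoreOf u MU : Set G) := by
  have hS := hM.toSetup
  set R := Cfsg.pCoreOf u MU
  set C := Cfsg.pCoreOf r H
  have hcore : ∀ t, t.Prime → t ∈ ({2, r} : Set ℕ) → Cfsg.pCoreOf t M ≤ H := fun t ht htσ => by
    haveI := Fact.mk ht
    exact hH.2.2.2 _ (hS.oq_mem hMm t) (hMT.trans (normalizer_le_normalizer_oq t M))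
      (piNat_of_isPGroup (oq_isPGroup t M) htσ)
  have hCU : C ≤ MU := (hU.2.2.2 _ (hS.oq_mem hH.1 r)
    (hH.2.1.trans (normalizer_le_normalizer_oq r H))
    (piNat_of_isPGroup (oq_isPGroup r H) hr2)).trans hUM
  have hsub : ⁅C, R⁆ ≤ R := by
    rw [Subgroup.commutator_comm]
    exact CoprimeAction.commutator_le_self_of_le_normalizer (hCU.trans (le_normalizer_oq u MU))
  have hin : ⁅C, R⁆ ≤ Cfsg.pCoreOf u M := by
    refine le_oq_of_commute hMm.1 (hsub.trans hRM) ((oq_isPGroup u MU).to_le hsub) fun t ht => ?_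
    haveI := Fact.mk ht
    set O := Cfsg.pCoreOf t M
    have hK : M ≤ Subgroup.normalizer ((M ⊓ Subgroup.centralizer (O : Set G) : Subgroup G) : Set G) :=
      le_normalizer_inf Subgroup.le_normalizer
        (SignalizerCoprime.le_normalizer_centralizer (le_normalizer_oq t M))
    refine le_trans ?_ (inf_le_right : M ⊓ Subgroup.centralizer (O : Set G) ≤ _)
    rw [Subgroup.commutator_le]
    intro c hc x hx
    by_cases ht2 : t = 2
    · subst ht2
      have hc' : c ∈ M ⊓ Subgroup.centralizer (O : Set G) := ⟨hCM hc,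
        commute_elts hM hr2 (oq_isPGroup r H) (oq_isPGroup 2 M) le_rfl le_rfl
          (hCM.trans (le_normalizer_oq 2 M))
          ((hcore 2 ht (Or.inl rfl)).trans (le_normalizer_oq r H)) hc⟩
      have h1 : x * c⁻¹ * x⁻¹ ∈ M ⊓ Subgroup.centralizer (O : Set G) :=
        mem_normalizer_conj (hK (hRM hx)) (inv_mem hc')
      simpa [commutatorElement_def, mul_assoc] using mul_mem hc' h1
    · have hOU : O ≤ MU := (hU.2.2.2 _ (hS.oq_mem hMm t)
        (hMT.trans (normalizer_le_normalizer_oq t M))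
        (piNat_of_isPGroup (oq_isPGroup t M) ht2)).trans hUM
      have hR' : R ≤ Subgroup.centralizer (O : Set G) := by
        refine commute_subgroups ?_ (hRM.trans (le_normalizer_oq t M))
          (hOU.trans (le_normalizer_oq u MU))
        by_cases htu : t = u
        · subst htu; exact hI
        · exact inf_eq_bot_of_primes (oq_isPGroup u MU) (oq_isPGroup t M) (Ne.symm htu)
      have hx' : x ∈ M ⊓ Subgroup.centralizer (O : Set G) := ⟨hRM hx, hR' hx⟩
      have h1 : c * x * c⁻¹ ∈ M ⊓ Subgroup.centralizer (O : Set G) :=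
        mem_normalizer_conj (hK (hCM hc)) hx'
      simpa [commutatorElement_def] using mul_mem h1 (inv_mem hx')
  rw [← Subgroup.commutator_eq_bot_iff_le_centralizer, ← le_bot_iff, ← hI]
  exact le_inf hsub hin

/-- Statics sharing the primes share the components. -/
theorem comps_inter {b c : G} (hb : b ∈ A) (hb1 : b ≠ 1) (hc : c ∈ A) (hc1 : c ≠ 1)
    (hsb : IsMax p A θ (θ b)) (hsc : IsMax p A θ (θ c)) {t : ℕ} [Fact t.Prime]
    (htb : Cfsg.pCoreOf t (θ b) ≠ ⊥) (htc : Cfsg.pCoreOf t (θ c) ≠ ⊥)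
    (h : ∀ v : ℕ, v.Prime → Cfsg.pCoreOf v (θ c) ≠ ⊥ → Cfsg.pCoreOf v (θ b) ≠ ⊥) :
    Cfsg.pCoreOf t (θ b) ⊓ Cfsg.pCoreOf t (θ c) ≠ ⊥ := by
  have hS := hM.toSetup
  intro hI
  have hbc : Cfsg.pCoreOf t (θ b) ≤ θ c := le_theta_of_comp hM hc hc1 hsc htc
    (hS.oq_mem hsb.1 t) (hsb.2.1.trans (le_normalizer_oq t (θ b))) (oq_isPGroup t _)
  have hle : Cfsg.pCoreOf t (θ b) ≤ Cfsg.pCoreOf t (θ c) := by
    refine le_oq_of_commute hsc.1.1 hbc (oq_isPGroup t _) fun v hv => ?_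
    haveI := Fact.mk hv
    by_cases hv0 : Cfsg.pCoreOf v (θ c) = ⊥
    · rw [hv0]; exact fun x _ y hy => by rw [Subgroup.mem_bot.1 hy, one_mul, mul_one]
    refine commute_subgroups ?_ (hbc.trans (le_normalizer_oq v (θ c)))
      ((le_theta_of_comp hM hb hb1 hsb (h v hv hv0) (hS.oq_mem hsc.1 v)
        (hsc.2.1.trans (le_normalizer_oq v (θ c))) (oq_isPGroup v _)).trans
        (le_normalizer_oq t (θ b)))
    by_cases htv : t = v
    · subst htv; exact hI
    · exact inf_eq_bot_of_primes (oq_isPGroup t _) (oq_isPGroup v _) htv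
  exact htb (by rwa [inf_eq_left.2 hle] at hI)

/-- A pure static element centralising the component makes it commute with the other one. -/
theorem pure_static_false {r u : ℕ} [Fact r.Prime] [Fact u.Prime]
    (hr2 : r ≠ 2) (hu2 : u ≠ 2) (hru : r ≠ u) {U MU H H' : Subgroup G}
    (hU : IsW p A θ {t | t ≠ 2} U) (hUM : U ≤ MU) (hMU : IsMax p A θ MU)
    (hH : IsW p A θ {2, r} H) (hH' : IsW p A θ {2, u} H')
    (hβu : Cfsg.pCoreOf u MU ⊓ Cfsg.pCoreOf u H' = ⊥)
    (hmov : ¬ Cfsg.pCoreOf r H ≤ Subgroup.centralizer (Cfsg.pCoreOf u MU : Set G))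
    (honly : ∀ L, L ∈ Cfsg.signalizerFamily p A θ → ∀ t : ℕ, t.Prime → t ≠ 2 → t ≠ r → t ≠ u →
      Cfsg.pCoreOf t L = ⊥)
    {y : G} (hy : y ∈ A) (hy1 : y ≠ 1) (hsy : IsMax p A θ (θ y))
    (hy2 : Cfsg.pCoreOf 2 (θ y) = ⊥) (hyr : Cfsg.pCoreOf r (θ y) = ⊥)
    (hCy : Cfsg.pCoreOf r H ≤ Subgroup.centralizer ({y} : Set G)) : False := by
  haveI := Fact.mk hM.prime
  haveI : Fact (2 : ℕ).Prime := ⟨Nat.prime_two⟩
  have hS := hM.toSetup
  set C := Cfsg.pCoreOf r H
  set R := Cfsg.pCoreOf u MU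
  set O := Cfsg.pCoreOf 2 H' with hO
  set V := Cfsg.pCoreOf u (θ y)
  have hpure : SFTPure.IsPure p A θ u (θ y) := ⟨hsy, fun t ht htu =>
    if h2 : t = 2 then h2 ▸ hy2 else if hr : t = r then hr ▸ hyr else
      honly _ hsy.1 t ht h2 hr htu⟩
  have hOm : O ∈ Cfsg.signalizerFamily p A θ := hS.oq_mem hH'.1 2
  have hOT : Cfsg.signalizerInf A θ ≤ Subgroup.normalizer (O : Set G) :=
    hH'.2.1.trans (normalizer_le_normalizer_oq 2 H')
  have hOH : O ≤ H :=
    hH.2.2.2 O hOm hOT (piNat_of_isPGroup (oq_isPGroup 2 H') (Or.inl rfl))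
  have hVH' : V ≤ H' := SFTPair.comp_le_pi hM hH' hsy (Or.inr rfl)
  have hRH' : R ≤ H' := SFTPair.comp_le_pi hM hH' hMU (Or.inr rfl)
  have hCθ : C ≤ θ y := fun c hc => (hS.oq_mem hH.1 r).2.2.2 y hy hy1 ⟨hc, hCy hc⟩
  set Y := Subgroup.zpowers y with hY
  have hYA : Y ≤ A := Subgroup.zpowers_le.2 hy
  have hYO : Y ≤ Subgroup.normalizer (O : Set G) := hYA.trans (hS.le_normalizer hOm)
  have hcomm : ⁅O, Y⁆ ≤ Subgroup.centralizer (C : Set G) := by
    rw [Subgroup.commutator_le]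
    intro o ho z hz c hc
    have hzc : ∀ d ∈ C, Commute d z := fun d hd => by
      obtain ⟨i, rfl⟩ := hz
      exact (show Commute d y from mem_centralizer_singleton.1 (hCy hd)).zpow_right i
    have h1 : o⁻¹ * c * o ∈ C := by
      simpa using mem_normalizer_conj (le_normalizer_oq r H (inv_mem (hOH ho))) hc
    rw [commutatorElement_def]
    calc c * (o * z * o⁻¹ * z⁻¹) = o * ((o⁻¹ * c * o) * z) * o⁻¹ * z⁻¹ := by group
      _ = o * z * o⁻¹ * (c * z⁻¹) := by rw [(hzc _ h1).eq]; group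
      _ = o * z * o⁻¹ * z⁻¹ * c := by rw [(hzc c hc).inv_right.eq]; group
  have hfix : O ⊓ Subgroup.centralizer (Y : Set G) ≤ Subgroup.centralizer (C : Set G) := by
    rintro o ⟨ho, hoy⟩
    have hoθ : o ∈ θ y := hOm.2.2.2 y hy hy1
      ⟨ho, mem_centralizer_singleton.2 (hoy y (Subgroup.mem_zpowers y)).symm⟩
    have hoV : o ∈ Subgroup.centralizer (V : Set G) := fun v hv =>
      (commute_of_normalize (inf_eq_bot_of_primes (oq_isPGroup 2 H') (oq_isPGroup u (θ y))
        (Ne.symm hu2)) ho hv (le_normalizer_oq u (θ y) hoθ)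
        (le_normalizer_oq 2 H' (hVH' hv))).symm
    intro c hc
    have hK : θ y ≤ Subgroup.normalizer
        ((θ y ⊓ Subgroup.centralizer (V : Set G) : Subgroup G) : Set G) :=
      le_normalizer_inf Subgroup.le_normalizer
        (SignalizerCoprime.le_normalizer_centralizer (le_normalizer_oq u (θ y)))
    have h1 : o * c * o⁻¹ * c⁻¹ ∈ θ y ⊓ Subgroup.centralizer (V : Set G) := by
      have := mul_mem (show o ∈ θ y ⊓ Subgroup.centralizer (V : Set G) from ⟨hoθ, hoV⟩)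
        (mem_normalizer_conj (hK (hCθ hc)) (inv_mem ⟨hoθ, hoV⟩))
      simpa [mul_assoc] using this
    have h2 : o * c * o⁻¹ * c⁻¹ ∈ C :=
      mul_mem (mem_normalizer_conj (le_normalizer_oq r H (hOH ho)) hc) (inv_mem hc)
    have h3 : o * c * o⁻¹ * c⁻¹ ∈ C ⊓ V := ⟨h2, hpure.centralizer_le h1⟩
    rw [inf_eq_bot_of_primes (oq_isPGroup r H) (oq_isPGroup u _) hru, Subgroup.mem_bot,
      mul_inv_eq_one, mul_inv_eq_iff_eq_mul] at h3
    exact h3.symm
  have hOC : O ≤ Subgroup.centralizer (C : Set G) :=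
    (CoprimeAction.commutator_sup_centralizer_eq hYO
      (Nat.Coprime.coprime_dvd_left (Subgroup.card_dvd_of_le hYA) (coprime_card_member hM.hA hOm))
      (Or.inr hOm.1)).ge.trans (sup_le hcomm hfix)
  have hH'comp : ∀ t : ℕ, t.Prime → t ≠ 2 → t ≠ u → Cfsg.pCoreOf t H' = ⊥ := by
    intro t ht ht2 htu
    haveI := Fact.mk ht
    obtain ⟨i, hi⟩ := IsPGroup.iff_card.1 (oq_isPGroup t H')
    cases i with
    | zero => exact Subgroup.card_eq_one.1 (by simpa using hi)
    | succ i =>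
      rcases hH'.2.2.1 t ht ((hi ▸ dvd_pow_self t i.succ_ne_zero).trans
        (Subgroup.card_dvd_of_le (oq_le t H'))) with h | h
      · exact absurd h ht2
      · exact absurd h htu
  have hRne : R ≠ ⊥ := fun h => hmov (by
    rw [h]; exact fun x _ z hz => by rw [Subgroup.mem_bot.1 hz, one_mul, mul_one])
  have hO1 : O ≠ ⊥ := by
    intro h
    refine hRne (le_bot_iff.1 (hβu ▸ le_inf le_rfl
      (le_oq_of_commute hH'.1.1 hRH' (oq_isPGroup u MU) fun t ht => ?_)))
    by_cases ht2 : t = 2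
    · subst ht2; rw [← hO, h]
      exact fun x _ z hz => by rw [Subgroup.mem_bot.1 hz, one_mul, mul_one]
    by_cases htu : t = u
    · subst htu
      exact commute_subgroups hβu (hRH'.trans (le_normalizer_oq t H'))
        (((hU.2.2.2 _ (hS.oq_mem hH'.1 t) (hH'.2.1.trans (normalizer_le_normalizer_oq t H'))
          (piNat_of_isPGroup (oq_isPGroup t H') ht2)).trans hUM).trans (le_normalizer_oq t MU))
    · rw [hH'comp t ht ht2 htu]
      exact fun x _ z hz => by rw [Subgroup.mem_bot.1 hz, one_mul, mul_one]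
  obtain ⟨M, hMx, hMle⟩ := SFTPure.exists_norm_max hM hOm hO1 hOT
  have hH'M : H' ≤ M := hMle H' hH'.1 (le_normalizer_oq 2 H')
  have hCM : C ≤ M := hMle C (hS.oq_mem hH.1 r) ((Subgroup.le_centralizer_iff.1 hOC).trans
    (SignalizerCoprime.centralizer_le_normalizer O))
  have hI : R ⊓ Cfsg.pCoreOf u M = ⊥ := le_bot_iff.1 (hβu ▸ le_inf inf_le_left
    (inf_le_right.trans (le_oq (SFTPair.comp_le_pi hM hH' hMx (Or.inr rfl))
      (hH'M.trans (le_normalizer_oq u M)) (oq_isPGroup u M))))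
  exact hmov (commute_pair hM hU hUM hMU hH hu2 hr2 hMx.1
    (hMx.2.1.trans Subgroup.le_normalizer) hCM (hRH'.trans hH'M) hI)

/-- Three primes: the component of the pair member centralises that of the other one. -/
theorem three_false (hp2 : p ≠ 2) (hno : Bad p A θ) {r u : ℕ} [Fact r.Prime] [Fact u.Prime]
    (hr2 : r ≠ 2) (hu2 : u ≠ 2) (hru : r ≠ u)
    (hσ : ∀ a ∈ A, a ≠ 1 → PiNat {2, r, u} (Nat.card (θ a)))
    {U MU H H' : Subgroup G} (hU : IsW p A θ {t | t ≠ 2} U) (hUM : U ≤ MU)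
    (hMU : IsMax p A θ MU) (hH : IsW p A θ {2, r} H) (hH' : IsW p A θ {2, u} H')
    (hβu : Cfsg.pCoreOf u MU ⊓ Cfsg.pCoreOf u H' = ⊥)
    (hmov : ¬ Cfsg.pCoreOf r H ≤ Subgroup.centralizer (Cfsg.pCoreOf u MU : Set G)) {k : ℕ}
    (hk : Cfsg.pCoreOf r H ⊓ ser U k ≠ ⊥) (hk' : Cfsg.pCoreOf u H' ⊓ ser U (k + 1) = ⊥) :
    False := by
  haveI := Fact.mk hM.prime
  haveI : Fact (2 : ℕ).Prime := ⟨Nat.prime_two⟩
  have hS := hM.toSetup
  set C := Cfsg.pCoreOf r H with hC
  obtain ⟨W, hW⟩ := exists_W1 hM r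
  have honly : ∀ {L : Subgroup G}, L ∈ Cfsg.signalizerFamily p A θ → ∀ t : ℕ, t.Prime → t ≠ 2 →
      t ≠ r → t ≠ u → Cfsg.pCoreOf t L = ⊥ := by
    intro L hL t ht ht2 htr htu
    haveI := Fact.mk ht
    obtain ⟨i, hi⟩ := IsPGroup.iff_card.1 (oq_isPGroup t L)
    cases i with
    | zero => exact Subgroup.card_eq_one.1 (by simpa using hi)
    | succ i =>
      have := hS.piNat_member (hS.oq_mem hL t) (fun a ha ha1 => (hσ a ha ha1).of_dvd
        (Subgroup.card_dvd_of_le ((hS.oq_mem hL t).2.2.2 a ha ha1))) t ht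
        (hi ▸ dvd_pow_self t i.succ_ne_zero)
      rcases this with h | h | h
      · exact absurd h ht2
      · exact absurd h htr
      · exact absurd h htu
  have hCU : C ≤ U := hU.2.2.2 _ (hS.oq_mem hH.1 r)
    (hH.2.1.trans (normalizer_le_normalizer_oq r H)) (piNat_of_isPGroup (oq_isPGroup r H) hr2)
  have hWU : W ≤ U :=
    hU.2.2.2 _ hW.1 hW.2.1 (piNat_of_isPGroup (isPGroup_of_piNat hW.2.2.1) hr2)
  have hWH : W ≤ H :=
    hH.2.2.2 _ hW.1 hW.2.1 (piNat_of_isPGroup (isPGroup_of_piNat hW.2.2.1) (Or.inr rfl))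
  -- the piece
  set Z := C ⊓ ser U k with hZ
  have hZm : Z ∈ Cfsg.signalizerFamily p A θ :=
    hS.member_inf (hS.oq_mem hH.1 r) ((hS.le_normalizer hU.1).trans (ser_le_normalizer U k))
  have hWZ : W ≤ Subgroup.normalizer (Z : Set G) := le_normalizer_inf
    (hWH.trans (le_normalizer_oq r H))
    ((hWU.trans Subgroup.le_normalizer).trans (ser_le_normalizer U k))
  set R := Z ⊓ Subgroup.centralizer (W : Set G) with hR
  have hRne : R ≠ ⊥ := SFTPair.fixed_ne_bot (isPGroup_of_piNat hW.2.2.1)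
    ((oq_isPGroup r H).to_le inf_le_left) hk hWZ
  have hRm : R ∈ Cfsg.signalizerFamily p A θ :=
    hS.member_inf hZm (SignalizerCoprime.le_normalizer_centralizer (hS.le_normalizer hW.1))
  obtain ⟨D, hDA, hD, hX1⟩ :=
    SFTPureBasic.exists_line hM hRm (S := ⊥) fun h => hRne (le_bot_iff.1 h)
  set X := R ⊓ Subgroup.centralizer (D : Set G) with hX
  have hXm : X ∈ Cfsg.signalizerFamily p A θ :=
    hS.member_inf hRm (hS.A_le_normalizer_centralizer hDA)
  have hXR : X ≤ R := inf_le_left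
  have hXC : X ≤ C := hXR.trans (inf_le_left.trans inf_le_left)
  have hXk : X ≤ ser U k := hXR.trans (inf_le_left.trans inf_le_right)
  obtain ⟨L0, hL0, hall⟩ := shared_line hM hno hr2 hH hW hXm (fun h => hX1 h.le) hXC
    (hXR.trans inf_le_right) hDA inf_le_right (fun L hL hL2 hXL t ht ht2 htr => by
      haveI := Fact.mk ht
      by_cases htu : t = u
      swap
      · rw [honly hL.1 t ht ht2 htr htu]
        exact fun x _ y hy => by rw [Subgroup.mem_bot.1 hy, one_mul, mul_one]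
      subst htu
      set V := Cfsg.pCoreOf t L
      by_cases hV : V = ⊥
      · rw [hV]; exact fun x _ y hy => by rw [Subgroup.mem_bot.1 hy, one_mul, mul_one]
      have hVC : V ≤ Cfsg.pCoreOf t H' :=
        SFTPurePair.comp_le_pair hM ht2 (by rw [Set.pair_comm]; exact hH') hL hV hL2
      have hVU : V ≤ U := hU.2.2.2 _ (hS.oq_mem hL.1 t) (hL.2.1.trans (le_normalizer_oq t L))
        (piNat_of_isPGroup (oq_isPGroup t L) ht2)
      have hXV : X ≤ Subgroup.normalizer (V : Set G) := hXL.trans (le_normalizer_oq t L)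
      have hVk : V ≤ Subgroup.normalizer (ser U k : Set G) :=
        (hVU.trans Subgroup.le_normalizer).trans (ser_le_normalizer U k)
      have h1 : ⁅V, X⁆ ≤ V ⊓ ser U k := by
        refine le_inf (CoprimeAction.commutator_le_self_of_le_normalizer hXV)
          ((Subgroup.commutator_mono le_rfl hXk).trans ?_)
        rw [Subgroup.commutator_comm]
        exact CoprimeAction.commutator_le_self_of_le_normalizer hVk
      refine CoprimeAction.le_centralizer_of_commutator_commutator_eq_bot hXV ?_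
        (Or.inl (CoprimeAction.isSolvable_of_isPGroup ((oq_isPGroup r H).to_le hXC))) ?_
      · exact SFTPure.coprime_pGroups (Ne.symm htr) ((oq_isPGroup r H).to_le hXC)
          (oq_isPGroup t L)
      · rw [← le_bot_iff, ← hk', ser_succ]
        refine le_inf ?_ ((Subgroup.commutator_mono (h1.trans inf_le_right) hXk))
        exact ((Subgroup.commutator_mono (h1.trans inf_le_left) le_rfl).trans
          (CoprimeAction.commutator_le_self_of_le_normalizer hXV)).trans hVC)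
  -- two statics without a `2`-component
  have hN2 : ∀ y ∈ D, y ≠ 1 → ¬ θ y ≤ L0 →
      IsMax p A θ (θ y) ∧ Cfsg.pCoreOf 2 (θ y) = ⊥ := fun y hy hy1 hne =>
    (hall y hy hy1).resolve_right fun h => hne h.1
  have hdisj : ∀ b ∈ A, b ≠ 1 → ∀ c ∈ A, c ≠ 1 → b ∉ Subgroup.zpowers c → IsMax p A θ (θ b) →
      IsMax p A θ (θ c) → Cfsg.pCoreOf 2 (θ b) = ⊥ → Cfsg.pCoreOf 2 (θ c) = ⊥ →
      ∀ t : ℕ, t.Prime → Cfsg.pCoreOf t (θ b) ≠ ⊥ → Cfsg.pCoreOf t (θ c) = ⊥ := by
    intro b hb hb1 c hc hc1 hbc hsb hsc hb2 hc2 t ht htb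
    by_contra htc
    haveI := Fact.mk ht
    by_cases hsubset : ∀ v : ℕ, v.Prime → Cfsg.pCoreOf v (θ c) ≠ ⊥ → Cfsg.pCoreOf v (θ b) ≠ ⊥
    · exact static_inter hM hb hb1 hc hc1 hbc hsb hsc (q := t)
        (comps_inter hM hb hb1 hc hc1 hsb hsc htb htc hsubset)
    push Not at hsubset
    obtain ⟨v, hv, hvc, hvb⟩ := hsubset
    refine static_inter hM hb hb1 hc hc1 hbc hsb hsc (q := t) ?_
    rw [inf_comm]
    refine comps_inter hM hc hc1 hb hb1 hsc hsb htc htb fun w hw hwb => ?_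
    by_contra hwc
    -- only the two odd primes occur
    have htv : t ≠ v := fun h => htb (h ▸ hvb)
    have hwt : w ≠ t := fun h => htc (h ▸ hwc)
    have hwv : w ≠ v := fun h => hvc (h ▸ hwc)
    have hin : ∀ z : ℕ, z.Prime → ∀ d ∈ A, ∀ hd : d ≠ 1, Cfsg.pCoreOf z (θ d) ≠ ⊥ →
        z = 2 ∨ z = r ∨ z = u := by
      intro z hz d hd hd1 hne
      by_contra h
      push Not at h
      exact hne (honly (hS.theta_mem hd hd1) z hz h.1 h.2.1 h.2.2)
    have h1 := hin t ht b hb hb1 htb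
    have h2 := hin v hv c hc hc1 hvc
    have h3 := hin w hw b hb hb1 hwb
    have e1 : t ≠ 2 := fun h => htc (by rw [h]; exact hc2)
    have e2 : v ≠ 2 := fun h => hvc (by rw [h]; exact hc2)
    have e3 : w ≠ 2 := fun h => hwb (by rw [h]; exact hb2)
    omega
  by_cases hbadline : ∀ y ∈ D, y ≠ 1 → θ y ≤ L0
  · exact SFTPureBasic.incomplete_line hM hL0 hDA hD hbadline
  push Not at hbadline
  obtain ⟨y1, hy1D, hy11, hy1n⟩ := hbadline
  obtain ⟨y2, hy2D, hy2y, hy2n⟩ : ∃ y ∈ D, y ∉ Subgroup.zpowers y1 ∧ ¬ θ y ≤ L0 := by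
    by_contra h
    push Not at h
    exact finish hM hL0 hDA hD hy1D hy11 fun c hc hcy => h c hc hcy
  have hy21 : y2 ≠ 1 := fun h => hy2y (h ▸ one_mem _)
  have h12 : y1 ∉ Subgroup.zpowers y2 := fun h =>
    hy2y (mem_zpowers_of_zpow_ne_one (hM.hA.2 y2 (hDA hy2D)) h hy11)
  obtain ⟨hs1, h21⟩ := hN2 y1 hy1D hy11 hy1n
  obtain ⟨hs2, h22⟩ := hN2 y2 hy2D hy21 hy2n
  -- their primes are `r` and `u`
  have hprime : ∀ y ∈ A, y ≠ 1 → IsMax p A θ (θ y) → Cfsg.pCoreOf 2 (θ y) = ⊥ →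
      Cfsg.pCoreOf r (θ y) ≠ ⊥ ∨ Cfsg.pCoreOf u (θ y) ≠ ⊥ := by
    intro y hy hy1 hsy hy2
    obtain ⟨t, ht, hne⟩ := exists_oq_ne_bot hsy.1.1 (SFTPure.ne_bot_of_max hM hsy)
    by_cases htr : t = r
    · exact Or.inl (htr ▸ hne)
    by_cases htu : t = u
    · exact Or.inr (htu ▸ hne)
    exact absurd (honly hsy.1 t ht (fun h => hne (by rw [h]; exact hy2)) htr htu) hne
  have hd1 := hdisj y1 (hDA hy1D) hy11 y2 (hDA hy2D) hy21 h12 hs1 hs2 h21 h22
  have hd2 := hdisj y2 (hDA hy2D) hy21 y1 (hDA hy1D) hy11 hy2y hs2 hs1 h22 h21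
  obtain ⟨yr, hyrD, hyr1, yu, hyuD, hyu1, hru', hsr, hsu, hrr, huu, hr0, hrt, hut⟩ :
      ∃ yr ∈ D, yr ≠ 1 ∧ ∃ yu ∈ D, yu ≠ 1 ∧ yu ∉ Subgroup.zpowers yr ∧
        IsMax p A θ (θ yr) ∧ IsMax p A θ (θ yu) ∧ Cfsg.pCoreOf r (θ yr) ≠ ⊥ ∧
        Cfsg.pCoreOf u (θ yu) ≠ ⊥ ∧ Cfsg.pCoreOf r (θ yu) = ⊥ ∧
        Cfsg.pCoreOf 2 (θ yr) = ⊥ ∧ Cfsg.pCoreOf 2 (θ yu) = ⊥ := by
    rcases hprime y1 (hDA hy1D) hy11 hs1 h21 with h | h
    · have h' := hd1 r Fact.out h
      exact ⟨y1, hy1D, hy11, y2, hy2D, hy21, hy2y, hs1, hs2, h,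
        (hprime y2 (hDA hy2D) hy21 hs2 h22).resolve_left fun hh => hh h', h', h21, h22⟩
    · have h' := hd1 u Fact.out h
      have hr' := (hprime y2 (hDA hy2D) hy21 hs2 h22).resolve_right fun hh => hh h'
      exact ⟨y2, hy2D, hy21, y1, hy1D, hy11, h12, hs2, hs1, hr', h,
        hd2 r Fact.out hr', h22, h21⟩
  -- a third point
  set z := yr * yu with hz
  have hzD : z ∈ D := mul_mem hyrD hyuD
  have hzr : z ∉ Subgroup.zpowers yr := fun h =>
    hru' (by simpa [hz] using mul_mem (inv_mem (Subgroup.mem_zpowers yr)) h)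
  have hru'' : yr ∉ Subgroup.zpowers yu := fun h =>
    hru' (mem_zpowers_of_zpow_ne_one (hM.hA.2 yu (hDA hyuD)) h hyr1)
  have hzu : z ∉ Subgroup.zpowers yu := fun h =>
    hru'' (by simpa [hz] using mul_mem h (inv_mem (Subgroup.mem_zpowers yu)))
  have hz1 : z ≠ 1 := fun h => hzr (h ▸ one_mem _)
  have hCz : C ≤ Subgroup.centralizer ({z} : Set G) := by
    rcases hall z hzD hz1 with ⟨hsz, hz2⟩ | ⟨-, h⟩
    · exfalso
      rcases hprime z (hDA hzD) hz1 hsz hz2 with h | h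
      · exact hrr (hdisj z (hDA hzD) hz1 yr (hDA hyrD) hyr1 hzr hsz hsr hz2 hrt r Fact.out h)
      · exact huu (hdisj z (hDA hzD) hz1 yu (hDA hyuD) hyu1 hzu hsz hsu hz2 hut u Fact.out h)
    · exact h
  have hCr : C ≤ Subgroup.centralizer ({yr} : Set G) :=
    (le_theta_of_comp hM (hDA hyrD) hyr1 hsr hrr (hS.oq_mem hH.1 r)
      (hH.2.1.trans (normalizer_le_normalizer_oq r H)) (oq_isPGroup r H)).trans
      (hS.theta_le (hDA hyrD) hyr1)
  have hCu : C ≤ Subgroup.centralizer ({yu} : Set G) := fun c hc => by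
    rw [mem_centralizer_singleton, show yu = yr⁻¹ * z by rw [hz]; group]
    exact ((show Commute c yr from mem_centralizer_singleton.1 (hCr hc)).inv_right.mul_right
      (show Commute c z from mem_centralizer_singleton.1 (hCz hc))).eq
  exact pure_static_false hM hr2 hu2 hru hU hUM hMU hH hH' hβu hmov
    (fun L hL t ht ht2 htr htu => honly hL t ht ht2 htr htu) (hDA hyuD) hyu1 hsu hut hr0 hCu

/-- No element moves an odd component. -/
theorem no_good_false (hp2 : p ≠ 2) (hB : SFTPure.HatLe.{u})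
    (hbig : ∀ q s : ℕ, q.Prime → s.Prime → q ≠ s →
      ∃ a ∈ A, a ≠ 1 ∧ ¬ PiNat {q, s} (Nat.card (θ a)))
    (hev : ∃ a ∈ A, a ≠ 1 ∧ 2 ∣ Nat.card (θ a))
    (hno : ∀ a ∈ A, a ≠ 1 → ¬ IsMax p A θ (θ a) → ∀ L, IsMax p A θ L → θ a ≤ L →
      ∀ t : ℕ, t.Prime → t ≠ 2 → Cfsg.pCoreOf t L ≤ Subgroup.centralizer {a}) : False := by
  classical
  haveI := Fact.mk hM.prime
  haveI : Fact (2 : ℕ).Prime := ⟨Nat.prime_two⟩
  have hS := hM.toSetup
  by_cases hC : ∀ r : ℕ, r.Prime → r ≠ 2 → ∀ H, IsW p A θ {2, r} H → Cfsg.pCoreOf r H = ⊥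
  · obtain ⟨a, ha, ha1, hns⟩ := exists_not_static hM
    obtain ⟨L, hL, hle⟩ := hS.exists_max_theta ha ha1
    exact SFTPureNoOddPair.no_odd_pair_false_of hM hbig hC hp2 hB
      (fun t ht ht2 H hH L hL hLt hL2 => by
        haveI := Fact.mk ht
        exact SFTPurePair.comp_le_pair hM ht2 (by rw [Set.pair_comm]; exact hH) hL hLt hL2)
      ⟨a, ha, ha1, L, hL, hle, two_comp hM hno ha ha1 hns hL hle⟩
  push Not at hC
  obtain ⟨r, hr, hr2, H, hH, hCne⟩ := hC
  haveI := Fact.mk hr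
  obtain ⟨U, hU⟩ := hM.exists_W {t | t ≠ 2} (by
    obtain ⟨a, ha, ha1, h2⟩ := hev
    exact ⟨a, ha, ha1, fun h => h 2 Nat.prime_two h2 rfl⟩)
  obtain ⟨MU, hMU, hUM⟩ := hS.exists_max hU.1 hU.2.1
  -- no component meets the component of its pair
  have hβ : ∀ r : ℕ, r.Prime → r ≠ 2 → ∀ H, IsW p A θ {2, r} H →
      Cfsg.pCoreOf r MU ⊓ Cfsg.pCoreOf r H = ⊥ := by
    intro r hr hr2 H hH
    haveI := Fact.mk hr
    by_contra hne
    set O := Cfsg.pCoreOf r MU with hO
    set I := O ⊓ Cfsg.pCoreOf r H with hI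
    obtain ⟨W, hW⟩ := exists_W1 hM r
    have hWU : W ≤ U :=
      hU.2.2.2 _ hW.1 hW.2.1 (piNat_of_isPGroup (isPGroup_of_piNat hW.2.2.1) hr2)
    have hWH : W ≤ H :=
      hH.2.2.2 _ hW.1 hW.2.1 (piNat_of_isPGroup (isPGroup_of_piNat hW.2.2.1) (Or.inr rfl))
    have hWI : W ≤ Subgroup.normalizer (I : Set G) :=
      le_normalizer_inf ((hWU.trans hUM).trans (le_normalizer_oq r MU))
        (hWH.trans (le_normalizer_oq r H))
    set R := I ⊓ Subgroup.centralizer (W : Set G) with hR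
    have hRne : R ≠ ⊥ := SFTPair.fixed_ne_bot (isPGroup_of_piNat hW.2.2.1)
      ((oq_isPGroup r H).to_le inf_le_right) hne hWI
    have hRm : R ∈ Cfsg.signalizerFamily p A θ :=
      hS.member_inf (hS.member_inf (hS.oq_mem hMU.1 r) (hS.le_normalizer (hS.oq_mem hH.1 r)))
        (SignalizerCoprime.le_normalizer_centralizer (hS.le_normalizer hW.1))
    obtain ⟨D, hDA, hD, hX1⟩ :=
      SFTPureBasic.exists_line hM hRm (S := ⊥) fun h => hRne (le_bot_iff.1 h)
    set X := R ⊓ Subgroup.centralizer (D : Set G) with hX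
    have hXm : X ∈ Cfsg.signalizerFamily p A θ :=
      hS.member_inf hRm (hS.A_le_normalizer_centralizer hDA)
    have hXR : X ≤ R := inf_le_left
    have hXO : X ≤ O := hXR.trans (inf_le_left.trans inf_le_left)
    have hodd : ∀ L, IsMax p A θ L → X ≤ L → ∀ t : ℕ, t.Prime → t ≠ 2 → t ≠ r →
        X ≤ Subgroup.centralizer (Cfsg.pCoreOf t L : Set G) := by
      intro L hL hXL t ht ht2 htr
      haveI := Fact.mk ht
      exact commute_elts hM (Ne.symm htr) (oq_isPGroup r MU) (oq_isPGroup t L) hXO le_rfl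
        (hXL.trans (le_normalizer_oq t L))
        (((hU.2.2.2 _ (hS.oq_mem hL.1 t) (hL.2.1.trans (le_normalizer_oq t L))
          (piNat_of_isPGroup (oq_isPGroup t L) ht2)).trans hUM).trans (le_normalizer_oq r MU))
    obtain ⟨L0, hL0, hall⟩ := shared_line hM hno hr2 hH hW hXm (fun h => hX1 h.le)
      (hXR.trans (inf_le_left.trans inf_le_right)) (hXR.trans inf_le_right) hDA inf_le_right
      fun L hL _ hXL => hodd L hL hXL
    have hXy : ∀ y ∈ D, y ≠ 1 → ¬ θ y ≤ L0 →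
        IsMax p A θ (θ y) ∧ X ≤ Cfsg.pCoreOf r (θ y) := by
      intro y hy hy1 hne'
      obtain ⟨hsy, hy2⟩ := (hall y hy hy1).resolve_right fun h => hne' h.1
      have hXθ : X ≤ θ y := fun x hx => hXm.2.2.2 y (hDA hy) hy1 ⟨hx,
        Subgroup.centralizer_le (Set.singleton_subset_iff.2 hy) hx.2⟩
      refine ⟨hsy, le_oq_of_commute hsy.1.1 hXθ ((oq_isPGroup r MU).to_le hXO) fun t ht => ?_⟩
      by_cases ht2 : t = 2
      · subst ht2; rw [hy2]
        exact fun x _ z hz => by rw [Subgroup.mem_bot.1 hz, one_mul, mul_one]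
      by_cases htr : t = r
      · exact htr ▸ (hXR.trans inf_le_right).trans
          (Subgroup.centralizer_le (SFTPair.comp_le_pi hM hW hsy rfl))
      · exact hodd _ hsy hXθ t ht ht2 htr
    by_cases hline : ∀ y ∈ D, y ≠ 1 → θ y ≤ L0
    · exact SFTPureBasic.incomplete_line hM hL0 hDA hD hline
    push Not at hline
    obtain ⟨y, hyD, hy1, hyn⟩ := hline
    refine finish hM hL0 hDA hD hyD hy1 fun c hc hcy => ?_
    by_contra hcn
    have hc1 : c ≠ 1 := fun h => hcy (h ▸ one_mem _)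
    obtain ⟨hsy, hXsy⟩ := hXy y hyD hy1 hyn
    obtain ⟨hsc, hXsc⟩ := hXy c hc hc1 hcn
    exact static_inter hM (hDA hc) hc1 (hDA hyD) hy1 hcy hsc hsy (q := r)
      fun h => hX1 ((le_inf hXsc hXsy).trans h.le)
  -- components of pairs commute with the components of `MU`
  have hpairU : ∀ r : ℕ, r.Prime → r ≠ 2 → ∀ H, IsW p A θ {2, r} H →
      Cfsg.pCoreOf r H ≤ U ∧ Cfsg.pCoreOf r H ≤ MU := fun r hr hr2 H hH => by
    haveI := Fact.mk hr
    have := hU.2.2.2 _ (hS.oq_mem hH.1 r) (hH.2.1.trans (normalizer_le_normalizer_oq r H))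
      (piNat_of_isPGroup (oq_isPGroup r H) hr2)
    exact ⟨this, this.trans hUM⟩
  have hexu : ∀ r : ℕ, r.Prime → r ≠ 2 → ∀ H, IsW p A θ {2, r} H → Cfsg.pCoreOf r H ≠ ⊥ →
      ∃ u : ℕ, u.Prime ∧ u ≠ 2 ∧ u ≠ r ∧
        ¬ Cfsg.pCoreOf r H ≤ Subgroup.centralizer (Cfsg.pCoreOf u MU : Set G) := by
    intro r hr hr2 H hH hne
    haveI := Fact.mk hr
    by_contra hall
    push Not at hall
    refine hne (le_bot_iff.1 (hβ r hr hr2 H hH ▸ le_inf
      (le_oq_of_commute hMU.1.1 (hpairU r hr hr2 H hH).2 (oq_isPGroup r H) fun t ht => ?_) le_rfl))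
    haveI := Fact.mk ht
    by_cases ht2 : t = 2
    · subst ht2
      exact commute_elts hM hr2 (oq_isPGroup r H) (oq_isPGroup 2 MU) le_rfl le_rfl
        ((hpairU r hr hr2 H hH).2.trans (le_normalizer_oq 2 MU))
        ((SFTPair.comp_le_pi hM hH hMU (Or.inl rfl)).trans (le_normalizer_oq r H))
    by_cases htr : t = r
    · subst htr
      exact commute_subgroups (by rw [inf_comm]; exact hβ t hr hr2 H hH)
        ((hpairU t hr hr2 H hH).2.trans (le_normalizer_oq t MU))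
        ((SFTPair.comp_le_pi hM hH hMU (Or.inr rfl)).trans (le_normalizer_oq t H))
    · exact hall t ht ht2 htr
  obtain ⟨u, hu, hu2, hur, hmov⟩ := hexu r hr hr2 H hH hCne
  haveI := Fact.mk hu
  obtain ⟨H', hH'⟩ := hM.exists_W {2, u} (hbig 2 u Nat.prime_two hu (Ne.symm hu2))
  have hRH' : Cfsg.pCoreOf u MU ≤ H' := SFTPair.comp_le_pi hM hH' hMU (Or.inr rfl)
  by_cases h3 : ∃ a ∈ A, a ≠ 1 ∧ ¬ PiNat {2, r, u} (Nat.card (θ a))
  · obtain ⟨H3, hH3⟩ := hM.exists_W {2, r, u} h3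
    have hHle : ∀ {σ : Set ℕ} {K : Subgroup G}, IsW p A θ σ K → σ ⊆ {2, r, u} → K ≤ H3 :=
      fun {σ K} hK hσ => hH3.2.2.2 K hK.1 hK.2.1 fun t ht htd => hσ (hK.2.2.1 t ht htd)
    have hH'3 : H' ≤ H3 := hHle hH' (by intro t ht; rcases ht with h | h <;> simp_all)
    have hH3' : H ≤ H3 := hHle hH (by intro t ht; rcases ht with h | h <;> simp_all)
    have hOu : Cfsg.pCoreOf u H3 ≤ H' := hH'.2.2.2 _ (hS.oq_mem hH3.1 u)
      (hH3.2.1.trans (normalizer_le_normalizer_oq u H3))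
      (piNat_of_isPGroup (oq_isPGroup u H3) (Or.inr rfl))
    have hI : Cfsg.pCoreOf u MU ⊓ Cfsg.pCoreOf u H3 = ⊥ :=
      le_bot_iff.1 (hβ u hu hu2 H' hH' ▸ le_inf inf_le_left (inf_le_right.trans
        (le_oq hOu (hH'3.trans (le_normalizer_oq u H3)) (oq_isPGroup u H3))))
    exact hmov (commute_pair hM hU hUM hMU hH hu2 hr2 hH3.1 hH3.2.1 ((oq_le r H).trans hH3')
      (hRH'.trans hH'3) hI)
  push Not at h3
  -- the deepest level of the derived series met by one of the two components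
  haveI := hU.1.1
  obtain ⟨n, hn⟩ := (inferInstance : Group.IsSolvable ↥U).solvable
  let P : ℕ → Prop := fun k => Cfsg.pCoreOf r H ⊓ ser U k ≠ ⊥ ∨ Cfsg.pCoreOf u H' ⊓ ser U k ≠ ⊥
  have hP0 : P 0 := Or.inl (by rw [ser_zero, inf_eq_left.2 (hpairU r hr hr2 H hH).1]; exact hCne)
  have hPn : ¬ P n := by
    rintro (h | h) <;> exact h (by rw [ser, hn, Subgroup.map_bot, inf_bot_eq])
  obtain ⟨k, hk, hk1⟩ : ∃ k, P k ∧ ¬ P (k + 1) := by
    by_contra h
    push Not at h
    exact hPn (Nat.rec hP0 (fun m hm => h m hm) n)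
  simp only [P, not_or, not_not] at hk1
  rcases hk with hk | hk
  · exact three_false hM hp2 hno hr2 hu2 (Ne.symm hur) h3 hU hUM hMU hH hH'
      (hβ u hu hu2 H' hH') hmov hk hk1.2
  · obtain ⟨w, hw, hw2, hwu, hmov'⟩ := hexu u hu hu2 H' hH' fun h => hk (by rw [h, bot_inf_eq])
    have hwr : w = r := by
      haveI := Fact.mk hw
      by_contra hwr
      refine hmov' ?_
      obtain ⟨i, hi⟩ := IsPGroup.iff_card.1 (oq_isPGroup w MU)
      cases i with
      | zero =>
        rw [Subgroup.card_eq_one.1 (by simpa using hi : Nat.card (Cfsg.pCoreOf w MU) = 1)]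
        exact fun x _ z hz => by rw [Subgroup.mem_bot.1 hz, one_mul, mul_one]
      | succ i =>
        have := hS.piNat_member (hS.oq_mem hMU.1 w) (fun a ha ha1 => (h3 a ha ha1).of_dvd
          (Subgroup.card_dvd_of_le ((hS.oq_mem hMU.1 w).2.2.2 a ha ha1))) w hw
          (hi ▸ dvd_pow_self w i.succ_ne_zero)
        rcases this with h | h | h
        · exact absurd h hw2
        · exact absurd h hwr
        · exact absurd h hwu
    subst hwr
    exact three_false hM hp2 hno hu2 hr2 hur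
      (fun a ha ha1 t ht htd => by rcases h3 a ha ha1 t ht htd with h | h | h <;> simp_all)
      hU hUM hMU hH' hH (hβ _ hr hr2 H hH) hmov' hk hk1.1

end Cfsg.Agent.SFTPureNoGood
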