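import Mathlib
import Cfsg.Agent.Lib.SFTPair
import Cfsg.Agent.Lib.GlaubermanZJ
import Cfsg.Agent.S1458

/-!
# The solvable signalizer functor theorem for the prime two

A minimal incomplete solvable signalizer functor on an elementary abelian group of order eight
does not exist.
-/

set_option autoImplicit false

namespace Cfsg.Agent.SFTTwo

open Cfsg.Agent.SignalizerCoprime Cfsg.Agent.HallCore Cfsg.Agent.SFTGroup Cfsg.Agent.SFTSigma
  Cfsg.Agent.SFTCtx Cfsg.Agent.SFTStatic Cfsg.Agent.SFTPair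
open Cfsg.Agent.SignalizerTransitivity (mem_family_of_le IsMaxMember isMaxMember_conj)
open scoped commutatorElement

universe u

/-- An element inverted by an involution whose fixed points it centralises acts trivially. -/
theorem centralizes_of_inverted {G : Type*} [Group G] [Finite G] {t : ℕ} [ht : Fact t.Prime]
    {W : Subgroup G} {a x : G} (hW : IsPGroup t W) (hW2 : ¬ 2 ∣ Nat.card W) (ha2 : a ^ 2 = 1)
    (haW : a ∈ Subgroup.normalizer (W : Set G)) (hxW : x ∈ Subgroup.normalizer (W : Set G))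
    (hinv : a * x * a⁻¹ = x⁻¹) (hxodd : Odd (orderOf x)) (hxt : ¬ t ∣ orderOf x)
    (hfix : ∀ w ∈ W, w * a = a * w → w * x = x * w) : ∀ w ∈ W, w * x = x * w := by
  haveI := Fact.mk Nat.prime_two
  set C := W ⊓ Subgroup.centralizer ({x} : Set G) with hC
  by_cases h : C = W
  · exact fun w hw => mem_centralizer_singleton.1 ((h.ge hw).2)
  obtain ⟨n, hnW, hnC, hnN⟩ := exists_normalizer_grows hW inf_le_left h
  exfalso
  have hax : a ∈ Subgroup.normalizer (Subgroup.centralizer ({x} : Set G) : Set G) := by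
    refine le_normalizer_of_forall (A := Subgroup.zpowers a) (fun g hg y hy => ?_)
      (Subgroup.mem_zpowers a)
    have key : ∀ i : ℕ, a ^ i * y * (a ^ i)⁻¹ ∈ Subgroup.centralizer ({x} : Set G) := by
      intro i
      induction i with
      | zero => simpa using hy
      | succ i ih =>
        refine mem_centralizer_singleton.2 ?_
        set z := a ^ i * y * (a ^ i)⁻¹ with hz
        have h1 : Commute z x⁻¹ :=
          (show Commute z x from mem_centralizer_singleton.1 ih).inv_right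
        have h3 : a * x⁻¹ * a⁻¹ = x := by
          rw [show a * x⁻¹ * a⁻¹ = (a * x * a⁻¹)⁻¹ by group, hinv, inv_inv]
        calc a ^ (i + 1) * y * (a ^ (i + 1))⁻¹ * x = (a * z * a⁻¹) * (a * x⁻¹ * a⁻¹) := by
              rw [h3, hz, pow_succ']; group
          _ = a * (z * x⁻¹) * a⁻¹ := by group
          _ = a * (x⁻¹ * z) * a⁻¹ := by rw [h1.eq]
          _ = (a * x⁻¹ * a⁻¹) * (a * z * a⁻¹) := by group
          _ = x * (a ^ (i + 1) * y * (a ^ (i + 1))⁻¹) := by
              rw [h3, hz, pow_succ']; group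
    obtain ⟨i, rfl⟩ := mem_powers_iff_mem_zpowers.2 hg
    exact key i
  have haC : a ∈ Subgroup.normalizer (C : Set G) :=
    le_normalizer_inf (Subgroup.zpowers_le.2 haW) (Subgroup.zpowers_le.2 hax)
      (Subgroup.mem_zpowers a)
  have hxC : x ∈ Subgroup.normalizer (C : Set G) :=
    le_normalizer_inf (Subgroup.zpowers_le.2 hxW)
      (Subgroup.zpowers_le.2 (Subgroup.le_normalizer (mem_centralizer_singleton.2 rfl)))
      (Subgroup.mem_zpowers x)
  set N := W ⊓ Subgroup.normalizer (C : Set G) with hN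
  set a' := proj C ⟨a, haC⟩ with ha'
  have ha'2 : a' * a' = 1 := by
    rw [ha', ← map_mul]
    convert map_one (proj C)
    exact Subtype.ext (by simpa [pow_two] using ha2)
  have hmemN : ∀ z ∈ img C N, a' * z * a'⁻¹ ∈ img C N := fun z hz => by
    obtain ⟨k, hk, rfl⟩ := mem_img.1 hz
    refine mem_img.2 ⟨⟨a, haC⟩ * k * (⟨a, haC⟩ : ↥(Subgroup.normalizer (C : Set G)))⁻¹, ?_,
      by simp [ha']⟩
    exact ⟨mem_normalizer_conj haW hk.1, SetLike.coe_mem _⟩
  have hfix' : ∀ z ∈ img C N, a' * z * a'⁻¹ = z → z = 1 := by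
    intro z hz hza
    obtain ⟨k, hk, rfl⟩ := mem_img.1 hz
    obtain ⟨v, hv, hvk⟩ := exists_lift (p := 2) (A := Subgroup.zpowers a)
      (isPGroup_zpowers ha2) (Subgroup.zpowers_le.2 haC)
      (fun h2 => hW2 (h2.trans (Subgroup.card_dvd_of_le inf_le_left))) (x := k) fun b hb => by
        obtain ⟨i, hi⟩ := hb
        rw [show b = (⟨a, haC⟩ : ↥(Subgroup.normalizer (C : Set G))) ^ i from
          Subtype.ext (by simpa using hi.symm), map_zpow]
        exact ((show Commute a' (proj C k) from mul_inv_eq_iff_eq_mul.1 hza).zpow_left i).eq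
    have hvkW : v * (k : G) ∈ W := mul_mem hv.1 hk.1
    have : v * (k : G) ∈ C := ⟨hvkW, mem_centralizer_singleton.2
      (hfix _ hvkW (hvk a (Subgroup.mem_zpowers a)).symm)⟩
    exact proj_eq_one.2 (by simpa using mul_mem (inv_mem hv) this)
  -- `a'` inverts `img C N`
  have hinvert : ∀ y ∈ img C N, a' * y * a'⁻¹ = y⁻¹ := by
    let f : ↥(img C N) → ↥(img C N) := fun z =>
      ⟨z.1⁻¹ * (a' * z * a'⁻¹), mul_mem (inv_mem z.2) (hmemN _ z.2)⟩
    have hf : Function.Injective f := by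
      intro z w h
      have h1 : z.1⁻¹ * (a' * z * a'⁻¹) = w.1⁻¹ * (a' * w * a'⁻¹) := congrArg Subtype.val h
      have h2 := hfix' _ (mul_mem z.2 (inv_mem w.2)) (by
        calc a' * (z.1 * w.1⁻¹) * a'⁻¹ = z.1 * (z.1⁻¹ * (a' * z.1 * a'⁻¹)) * (a' * w.1 * a'⁻¹)⁻¹ := by
              group
          _ = z.1 * w.1⁻¹ := by rw [h1]; group)
      exact Subtype.ext (mul_inv_eq_one.1 h2)
    intro y hy
    obtain ⟨z, hz⟩ := Finite.surjective_of_injective hf ⟨y, hy⟩
    have hzy : z.1⁻¹ * (a' * z * a'⁻¹) = y := congrArg Subtype.val hz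
    have ha'inv : a'⁻¹ = a' := inv_eq_of_mul_eq_one_right ha'2
    rw [← hzy]
    conv_lhs => rw [ha'inv]
    conv_rhs => rw [ha'inv]
    calc a' * (z.1⁻¹ * (a' * z.1 * a')) * a'
        = a' * z.1⁻¹ * a' * z.1 * (a' * a') := by group
      _ = a'⁻¹ * z.1⁻¹ * a'⁻¹ * z.1 := by rw [ha'2, mul_one, ha'inv]
      _ = (z.1⁻¹ * (a' * z.1 * a'))⁻¹ := by group
  set n' := proj C ⟨n, hnN⟩ with hn'
  set x' := proj C ⟨x, hxC⟩ with hx'
  have hn'N : n' ∈ img C N := mem_img.2 ⟨_, ⟨hnW, hnN⟩, rfl⟩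
  have hxn : x' * n' * x'⁻¹ ∈ img C N := mem_img.2
    ⟨⟨x, hxC⟩ * ⟨n, hnN⟩ * (⟨x, hxC⟩ : ↥(Subgroup.normalizer (C : Set G)))⁻¹,
      ⟨mem_normalizer_conj hxW hnW, SetLike.coe_mem _⟩, by rw [map_mul, map_mul, map_inv]⟩
  have hax' : a' * x' * a'⁻¹ = x'⁻¹ := by
    rw [ha', hx', ← map_inv, ← map_inv, ← map_mul, ← map_mul]
    exact congrArg _ (Subtype.ext hinv)
  have hsq : Commute (x' * x') n' := by
    have h1 := hinvert _ hxn
    have h2 := hinvert _ hn'N
    have h3 : a' * (x' * n' * x'⁻¹) * a'⁻¹ = x'⁻¹ * n'⁻¹ * x' := by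
      calc a' * (x' * n' * x'⁻¹) * a'⁻¹
          = (a' * x' * a'⁻¹) * (a' * n' * a'⁻¹) * (a' * x' * a'⁻¹)⁻¹ := by group
        _ = x'⁻¹ * n'⁻¹ * x' := by rw [hax', h2, inv_inv]
    rw [h3] at h1
    have h4 : x' * x' * n'⁻¹ = n'⁻¹ * (x' * x') := by
      calc x' * x' * n'⁻¹ = x' * ((x' * n' * x'⁻¹)⁻¹) * x' := by group
        _ = n'⁻¹ * (x' * x') := by rw [← h1]; group
    simpa using (show Commute (x' * x') n'⁻¹ from h4).inv_right
  have hxn' : Commute x' n' := by
    obtain ⟨j, hj⟩ := hxodd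
    have h1 : x' = (x' * x') ^ (j + 1) := by
      rw [← pow_two, ← pow_mul, show 2 * (j + 1) = orderOf x + 1 by omega, pow_succ, hx',
        ← map_pow, show (⟨x, hxC⟩ : ↥(Subgroup.normalizer (C : Set G))) ^ orderOf x = 1 from
          Subtype.ext (by simp [pow_orderOf_eq_one]), map_one, one_mul]
    rw [h1]
    exact hsq.pow_left _
  set k := n⁻¹ * (x * n * x⁻¹) with hk
  have hkC : k ∈ C := by
    have h1 : proj C ((⟨n, hnN⟩ : ↥(Subgroup.normalizer (C : Set G)))⁻¹ *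
        (⟨x, hxC⟩ * ⟨n, hnN⟩ * (⟨x, hxC⟩ : ↥(Subgroup.normalizer (C : Set G)))⁻¹)) = 1 := by
      rw [map_mul, map_mul, map_mul, map_inv, map_inv, ← hn', ← hx', hxn'.eq]
      group
    simpa using proj_eq_one.1 h1
  have hkx : Commute x k := (mem_centralizer_singleton.1 hkC.2).symm
  have hiter : ∀ i : ℕ, x ^ i * n * (x ^ i)⁻¹ = n * k ^ i := by
    intro i
    induction i with
    | zero => simp
    | succ i ih =>
      have h1 : x * n = n * k * x := by rw [hk]; group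
      calc x ^ (i + 1) * n * (x ^ (i + 1))⁻¹ = x * (x ^ i * n * (x ^ i)⁻¹) * x⁻¹ := by
            rw [pow_succ']; group
        _ = (x * n) * k ^ i * x⁻¹ := by rw [ih]; group
        _ = n * k * (x * k ^ i) * x⁻¹ := by rw [h1]; group
        _ = n * k ^ (i + 1) := by rw [(hkx.pow_right i).eq, pow_succ']; group
  have h0 := hiter (orderOf x)
  rw [pow_orderOf_eq_one, one_mul, inv_one, mul_one] at h0
  obtain ⟨e, he⟩ := IsPGroup.iff_orderOf.1 hW ⟨k, hkC.1⟩
  rw [Subgroup.orderOf_mk] at he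
  have hk0 : k = 1 := orderOf_eq_one_iff.1 (Nat.eq_one_of_dvd_coprimes
    (a := t ^ e) (b := orderOf x) (Nat.Coprime.pow_left e
      ((Nat.Prime.coprime_iff_not_dvd ht.out).2 hxt))
    (he ▸ dvd_rfl) (orderOf_dvd_of_pow_eq_one (mul_eq_left.1 h0.symm)))
  rw [hk, inv_mul_eq_one] at hk0
  exact hnC ⟨hnW, mem_centralizer_singleton.2 (conj_eq_iff_commute.1 hk0.symm)⟩

variable {G : Type u} [Group G] [Finite G] {A : Subgroup G} {θ : G → Subgroup G}

theorem odd_card {X : Subgroup G} (hX : X ∈ Cfsg.signalizerFamily 2 A θ) : Odd (Nat.card X) :=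
  Nat.odd_iff.2 (Nat.two_dvd_ne_zero.1 hX.2.1)

/-- An element of a subgroup normalised by `θ a` which `a` inverts lies in the component of every
member containing it. -/
theorem inverted_mem_oq (hS : Setup 2 A θ) {q : ℕ} [Fact q.Prime] {H : Subgroup G}
    (hH : H ∈ Cfsg.signalizerFamily 2 A θ) {a : G} (ha : a ∈ A) (ha1 : a ≠ 1) {Q : Subgroup G}
    (hQ : IsPGroup q Q) (hQN : θ a ≤ Subgroup.normalizer (Q : Set G)) {x : G} (hxQ : x ∈ Q)
    (hxH : x ∈ H) (hinv : a * x * a⁻¹ = x⁻¹) : x ∈ Cfsg.pCoreOf q H := by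
  haveI := Fact.mk Nat.prime_two
  set V := Cfsg.pCoreOf q H with hV
  set L := Subgroup.normalizer (V : Set G) with hL
  have hHL : H ≤ L := le_normalizer_oq q H
  have haL : a ∈ L := hS.le_normalizer (hS.oq_mem hH q) ha
  set H' := img V H with hH'
  have hsol : Group.IsSolvable ↥H' := by
    haveI := hH.1
    haveI : Group.IsSolvable ↥(H.subgroupOf L) :=
      Group.isSolvable_of_isSolvable_injective
        (f := (Subgroup.subgroupOfEquivOfLe hHL).toMonoidHom) (MulEquiv.injective _)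
    exact Group.isSolvable_of_surjective (f := (proj V).subgroupMap (H.subgroupOf L))
      (MonoidHom.subgroupMap_surjective _ _)
  have hmemH : ∀ z : ↥L, proj V z ∈ H' → (z : G) ∈ H := by
    intro z hz
    obtain ⟨w, hw, hwz⟩ := mem_img.1 hz
    have h1 : proj V (w⁻¹ * z) = 1 := by rw [map_mul, map_inv, hwz, inv_mul_cancel]
    have h2 : (w : G)⁻¹ * z ∈ H := oq_le q H (by simpa using proj_eq_one.1 h1)
    simpa using mul_mem hw h2
  have hq0 : Cfsg.pCoreOf q H' = ⊥ := by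
    rw [Subgroup.eq_bot_iff_forall]
    intro y hy
    obtain ⟨z, hz, rfl⟩ := mem_img.1 (oq_le q H' hy)
    set K := ((Cfsg.pCoreOf q H').comap (proj V)).map L.subtype with hK
    have hKH : K ≤ H := by
      rintro _ ⟨w, hw, rfl⟩
      exact hmemH w (oq_le q H' hw)
    have hKq : IsPGroup q K := by
      rintro ⟨_, ⟨w, hw, rfl⟩⟩
      obtain ⟨i, hi⟩ := oq_isPGroup q H' ⟨proj V w, hw⟩
      have h1 : ((w ^ q ^ i : ↥L) : G) ∈ V := proj_eq_one.1 (by
        rw [map_pow]; exact congrArg Subtype.val hi)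
      obtain ⟨j, hj⟩ := oq_isPGroup q H ⟨_, h1⟩
      refine ⟨i + j, Subtype.ext ?_⟩
      have h2 : ((w : G) ^ q ^ i) ^ q ^ j = 1 := by simpa using congrArg Subtype.val hj
      simpa [← pow_mul, ← pow_add] using h2
    have hHK : H ≤ Subgroup.normalizer (K : Set G) := by
      refine le_normalizer_of_forall fun g hg _ hy => ?_
      obtain ⟨w, hw, rfl⟩ := hy
      refine ⟨⟨g, hHL hg⟩ * w * (⟨g, hHL hg⟩ : ↥L)⁻¹, ?_, by simp⟩
      simp only [SetLike.mem_coe, Subgroup.mem_comap, map_mul, map_inv] at hw ⊢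
      exact mem_normalizer_conj (le_normalizer_oq q H' (mem_img.2 ⟨_, hg, rfl⟩)) hw
    exact proj_eq_one.2 (le_oq hKH hHK hKq ⟨z, hy, rfl⟩)
  set x' := proj V ⟨x, hHL hxH⟩ with hx'
  have hxmem : x' ∈ H' := mem_img.2 ⟨_, hxH, rfl⟩
  obtain ⟨e, he⟩ := IsPGroup.iff_orderOf.1 hQ ⟨x, hxQ⟩
  rw [Subgroup.orderOf_mk] at he
  have hx'dvd : orderOf x' ∣ q ^ e := by
    refine orderOf_dvd_of_pow_eq_one ?_
    rw [hx', ← map_pow, ← he,
      show (⟨x, hHL hxH⟩ : ↥L) ^ orderOf x = 1 from Subtype.ext (by simp [pow_orderOf_eq_one]),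
      map_one]
  have hxodd : Odd (orderOf x') := by
    refine Odd.of_dvd_nat (odd_card hH) (dvd_trans ?_ (card_img_dvd hHL))
    rw [← Subgroup.orderOf_mk x' hxmem]
    exact orderOf_dvd_natCard _
  have hcomm : ∀ t : ℕ, t.Prime →
      Subgroup.zpowers x' ≤ Subgroup.centralizer (Cfsg.pCoreOf t H' : Set _) := by
    intro t ht
    haveI := Fact.mk ht
    rw [Subgroup.zpowers_le]
    by_cases htq : t = q
    · subst htq
      rw [hq0]
      exact fun y hy => by rw [Subgroup.mem_bot.1 hy, one_mul, mul_one]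
    set W := Cfsg.pCoreOf t H' with hW
    have hWH : W ≤ H' := oq_le t H'
    have ha'N : proj V ⟨a, haL⟩ ∈ Subgroup.normalizer (H' : Set _) := by
      refine le_normalizer_of_forall (X := H') (img_le_normalizer (Y := Subgroup.zpowers a)
        ((Subgroup.zpowers_le.2 ha).trans (hS.le_normalizer hH))) (mem_img.2
          ⟨⟨a, haL⟩, Subgroup.mem_zpowers a, rfl⟩)
    refine fun u hu => centralizes_of_inverted (oq_isPGroup t H')
      (fun h2 => hH.2.1 (h2.trans ((Subgroup.card_dvd_of_le hWH).trans (card_img_dvd hHL))))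
      (a := proj V ⟨a, haL⟩) ?_ (normalizer_le_normalizer_oq t H' ha'N)
      (le_normalizer_oq t H' hxmem) ?_ hxodd ?_ ?_ u hu
    · rw [← map_pow, show (⟨a, haL⟩ : ↥L) ^ 2 = 1 from Subtype.ext (by simp [hS.hA.2 a ha]),
        map_one]
    · rw [hx', ← map_inv, ← map_inv, ← map_mul, ← map_mul]
      exact congrArg _ (Subtype.ext hinv)
    · exact fun h => htq ((Nat.prime_dvd_prime_iff_eq ht Fact.out).1
        (ht.dvd_of_dvd_pow (h.trans hx'dvd)))
    intro w hw hwa
    obtain ⟨k, hk, rfl⟩ := mem_img.1 (hWH hw)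
    obtain ⟨v, hv, hvk⟩ := exists_lift (p := 2) (A := Subgroup.zpowers a)
      (isPGroup_zpowers (hS.hA.2 a ha)) (Subgroup.zpowers_le.2 haL) (hS.oq_mem hH q).2.1
      (x := k) fun b hb => by
        obtain ⟨i, hi⟩ := hb
        rw [show b = (⟨a, haL⟩ : ↥L) ^ i from Subtype.ext (by simpa using hi.symm), map_zpow]
        exact ((show Commute (proj V ⟨a, haL⟩) (proj V k) from hwa.symm).zpow_left i).eq
    set c : ↥L := ⟨v, Subgroup.le_normalizer hv⟩ * k with hc
    have hcw : proj V c = proj V k := by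
      rw [hc, map_mul, proj_eq_one.2 (show ((⟨v, _⟩ : ↥L) : G) ∈ V from hv), one_mul]
    have hcQ : (c : G) ∈ Subgroup.normalizer (Q : Set G) :=
      hQN (hH.2.2.2 a ha ha1 ⟨mul_mem (oq_le q H hv) hk,
        mem_centralizer_singleton.2 (hvk a (Subgroup.mem_zpowers a)).symm⟩)
    set d : ↥L := c * ⟨x, hHL hxH⟩ * c⁻¹ * (⟨x, hHL hxH⟩ : ↥L)⁻¹ with hd
    have hdQ : (d : G) ∈ Q := mul_mem (mem_normalizer_conj hcQ hxQ) (inv_mem hxQ)
    have hdW : proj V d ∈ W := by
      rw [hd, map_mul, map_mul, map_mul, map_inv, map_inv, hcw,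
        show proj V k * x' * (proj V k)⁻¹ * x'⁻¹ = proj V k * (x' * (proj V k)⁻¹ * x'⁻¹) by group]
      exact mul_mem hw (mem_normalizer_conj (le_normalizer_oq t H' hxmem) (inv_mem hw))
    have hd1 : proj V d = 1 := by
      obtain ⟨i, hi⟩ := hQ ⟨_, hdQ⟩
      obtain ⟨j, hj⟩ := oq_isPGroup t H' ⟨_, hdW⟩
      refine orderOf_eq_one_iff.1 (Nat.eq_one_of_dvd_coprimes (a := q ^ i) (b := t ^ j)
        (Nat.Coprime.pow i j ((Nat.coprime_primes Fact.out ht).2 (Ne.symm htq)))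
        (orderOf_dvd_of_pow_eq_one ?_) (orderOf_dvd_of_pow_eq_one (congrArg Subtype.val hj)))
      rw [← map_pow, show d ^ q ^ i = 1 from Subtype.ext (by simpa using congrArg Subtype.val hi),
        map_one]
    rw [hd, map_mul, map_mul, map_mul, map_inv, map_inv, hcw, mul_inv_eq_one,
      mul_inv_eq_iff_eq_mul] at hd1
    exact hd1
  have hx'q : IsPGroup q ↥(Subgroup.zpowers x') := by
    obtain ⟨i, -, hi⟩ := (Nat.dvd_prime_pow (Fact.out : q.Prime)).1 hx'dvd
    exact IsPGroup.of_card (n := i) (by rw [Nat.card_zpowers, hi])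
  have h1 := le_oq_of_commute hsol (Subgroup.zpowers_le.2 hxmem) hx'q hcomm
    (Subgroup.mem_zpowers x')
  rw [hq0, Subgroup.mem_bot] at h1
  exact proj_eq_one.1 h1

variable (hM : Minimal 2 A θ)
include hM

theorem op {M : Subgroup G} (hMax : IsMax 2 A θ M) {a b : G} (ha : a ∈ A) (ha1 : a ≠ 1)
    (hb : b ∈ A) (hb1 : b ≠ 1) (hab : a ≠ b) (hla : θ a ≤ M) (hlb : θ b ≤ M) : False := by
  have hS := hM.toSetup
  have hsq : ∀ {x : G}, x ∈ A → x * x = 1 := fun hx => by simpa [pow_two] using hM.hA.2 _ hx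
  have hz1 : a * b ≠ 1 := fun h => hab (by
    rw [← mul_one a, ← hsq hb, ← mul_assoc, h, one_mul])
  have hmem : ∀ {x : G}, x ^ 2 = 1 → ∀ {y : G}, y ∈ Subgroup.zpowers x → y = 1 ∨ y = x := by
    intro x hx y hy
    obtain ⟨i, rfl⟩ := mem_powers_iff_mem_zpowers.2 hy
    rcases Nat.even_or_odd' i with ⟨j, rfl | rfl⟩
    · exact Or.inl (by simp [pow_mul, hx])
    · exact Or.inr (by simp [pow_succ, pow_mul, hx])
  have hba : b ∉ Subgroup.zpowers a := fun h =>
    (hmem (hM.hA.2 a ha) h).elim hb1 fun h => hab h.symm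
  set E := Subgroup.zpowers a ⊔ Subgroup.zpowers b with hE
  have hEA : E ≤ A := sup_le (Subgroup.zpowers_le.2 ha) (Subgroup.zpowers_le.2 hb)
  have hEmem : ∀ c ∈ E, c = 1 ∨ c = a ∨ c = b ∨ c = a * b := by
    intro c hc
    have hc' : c ∈ (↑(Subgroup.zpowers a ⊔ Subgroup.zpowers b) : Set G) := hc
    rw [Subgroup.coe_mul_of_right_le_normalizer_left _ _
      ((Subgroup.zpowers_le.2 hb).trans (SFTLines.le_normalizer_zpowers hM.hA ha))] at hc'
    obtain ⟨x, hx, y, hy, rfl⟩ := Set.mem_mul.1 hc'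
    rcases hmem (hM.hA.2 a ha) hx with rfl | rfl <;>
      rcases hmem (hM.hA.2 b hb) hy with rfl | rfl <;> simp
  have hEcard : Nat.card E = 2 ^ 2 := by
    haveI := Fact.mk Nat.prime_two
    refine le_antisymm (le_trans (Nat.le_of_dvd (mul_pos Nat.card_pos Nat.card_pos)
      (card_sup_dvd_mul ((Subgroup.zpowers_le.2 hb).trans
        (SFTLines.le_normalizer_zpowers hM.hA ha)))) ?_) (sq_le_card_sup hM.hA ha ha1 hb hba)
    rw [Nat.card_zpowers, Nat.card_zpowers, orderOf_eq_prime (hM.hA.2 a ha) ha1,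
      orderOf_eq_prime (hM.hA.2 b hb) hb1, pow_two]
  refine finish hM hMax hEA hEcard (mul_mem (Subgroup.mem_sup_left (Subgroup.mem_zpowers a))
    (Subgroup.mem_sup_right (Subgroup.mem_zpowers b))) hz1 fun c hc hcz => ?_
  rcases hEmem c hc with rfl | rfl | rfl | rfl
  · exact absurd (one_mem _) hcz
  · exact hla
  · exact hlb
  · exact absurd (Subgroup.mem_zpowers _) hcz

theorem pureUnique : PureUnique 2 A θ := by
  haveI := Fact.mk Nat.prime_two
  intro q hq M N hMax hNax hMp hNp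
  haveI := Fact.mk hq
  have hS := hM.toSetup
  have hbot : ∀ {M : Subgroup G}, IsMax 2 A θ M →
      (∀ t : ℕ, t.Prime → t ≠ q → Cfsg.pCoreOf t M = ⊥) → Cfsg.pCoreOf q M = ⊥ → M = ⊥ := by
    intro M hMax hMp h0
    by_contra hne
    obtain ⟨t, ht, htM⟩ := exists_oq_ne_bot hMax.1.1 hne
    exact htM (if htq : t = q then htq ▸ h0 else hMp t ht htq)
  by_cases hM0 : Cfsg.pCoreOf q M = ⊥
  · exact (hMax.2.2 N hNax.1 (by rw [hbot hMax hMp hM0]; exact bot_le)).symm
  by_cases hN0 : Cfsg.pCoreOf q N = ⊥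
  · exact hNax.2.2 M hMax.1 (by rw [hbot hNax hNp hN0]; exact bot_le)
  -- `Z(J(R))` for a Sylow subgroup `R`
  have hZ : ∀ {M : Subgroup G}, IsMax 2 A θ M →
      (∀ t : ℕ, t.Prime → t ≠ q → Cfsg.pCoreOf t M = ⊥) → ∀ R : Subgroup G, R ≤ M →
      Nat.card R = q ^ (Nat.card M).factorization q →
      M ≤ Subgroup.normalizer (GlaubermanZJ.thomY q R : Set G) := by
    intro M hMax hMp R hRM hRc
    haveI := hMax.1.1
    let S : Sylow q ↥M := Sylow.ofCard (R.subgroupOf M) (by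
      rw [Nat.card_congr (Subgroup.subgroupOfEquivOfLe hRM).toEquiv, hRc])
    have hS' : ((S : Subgroup ↥M)).map M.subtype = R := Subgroup.map_subgroupOf_eq_of_le hRM
    have hcore : Cfsg.pPrimeCore q ↥M = ⊥ := by
      haveI := HallCore.pPrimeCore_characteristic q ↥M
      by_contra hne
      set K := (Cfsg.pPrimeCore q ↥M).map M.subtype with hK
      have hK1 : K ≠ ⊥ := fun h =>
        hne ((Subgroup.map_eq_bot_iff_of_injective _ M.subtype_injective).1 h)
      have hKM : K ≤ M := Subgroup.map_subtype_le _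
      obtain ⟨t, ht, htK⟩ := exists_oq_ne_bot (@CoprimeAction.isSolvable_of_le _ _ _ _ hKM hMax.1.1)
        hK1
      haveI := Fact.mk ht
      have htq : t ≠ q := by
        rintro rfl
        obtain ⟨i, hi⟩ := IsPGroup.iff_card.1 (oq_isPGroup t K)
        cases i with
        | zero => exact htK (Subgroup.card_eq_one.1 (by simpa using hi))
        | succ i =>
          refine HallCore.not_dvd_card_pPrimeCore t ↥M ?_
          rw [← Subgroup.card_map_of_injective M.subtype_injective]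
          exact (hi ▸ dvd_pow_self t i.succ_ne_zero).trans (Subgroup.card_dvd_of_le (oq_le t K))
      have hMK : M ≤ Subgroup.normalizer (K : Set G) :=
        le_normalizer_of_forall fun g hg y hy =>
          conj_mem_map_of_characteristic (Subgroup.le_normalizer hg) hy
      exact htK (le_bot_iff.1 ((le_oq ((oq_le t K).trans hKM)
        (hMK.trans (normalizer_le_normalizer_oq t K)) (oq_isPGroup t K)).trans
        (hMp t ht htq).le))
    have hn := Cfsg.Agent.S1458.result (G := ↥M) (odd_card hMax.1) q S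
    rw [hcore, sup_bot_eq, GlaubermanZJ.centerThompsonOf_eq] at hn
    rw [← hS', GlaubermanZJ.thomY_map M.subtype_injective]
    refine le_normalizer_of_forall fun g hg y hy => ?_
    obtain ⟨z, hz, rfl⟩ := hy
    exact ⟨_, hn.conj_mem z hz ⟨g, hg⟩, by simp⟩
  -- an invariant Sylow subgroup is a maximal member
  have hsyl : ∀ {M : Subgroup G}, IsMax 2 A θ M →
      (∀ t : ℕ, t.Prime → t ≠ q → Cfsg.pCoreOf t M = ⊥) → Cfsg.pCoreOf q M ≠ ⊥ →
      ∃ R, R ≤ M ∧ Nat.card R = q ^ (Nat.card M).factorization q ∧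
        IsMaxMember 2 A θ q R := by
    intro M hMax hMp hM0
    obtain ⟨R, hRM, hRc, hRA⟩ :=
      SignalizerCoprime.exists_invariant_sylow hS.isPGroup (hS.le_normalizer hMax.1) hMax.1.2.1 q
    have hR : IsPGroup q R := IsPGroup.of_card hRc
    refine ⟨R, hRM, hRc, mem_family_of_le hMax.1 hRM hRA, hR, fun X hX hXq hRX => ?_⟩
    by_contra hne
    obtain ⟨n, hnX, hnR, hnN⟩ := exists_normalizer_grows hXq hRX (Ne.symm hne)
    have hR1 : R ≠ ⊥ := by
      intro h
      rw [h, Subgroup.card_bot] at hRc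
      refine hM0 (Subgroup.card_eq_one.1 ?_)
      obtain ⟨i, hi⟩ := IsPGroup.iff_card.1 (oq_isPGroup q M)
      have h1 := Subgroup.card_dvd_of_le (oq_le q M)
      rw [hi] at h1 ⊢
      have h2 := (Nat.Prime.pow_dvd_iff_le_factorization hq Nat.card_pos.ne').1 h1
      rcases Nat.pow_eq_one.1 hRc.symm with h3 | h3
      · exact absurd h3 hq.ne_one
      · rw [show i = 0 by omega, pow_zero]
    have hle : X ⊓ Subgroup.normalizer (R : Set G) ≤ M :=
      hM.le_max hMax ((GlaubermanZJ.thomY_le R).trans hRM)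
        (GlaubermanZJ.thomY_ne_bot (Or.inr rfl) hR hR1) (hZ hMax hMp R hRM hRc)
        (hRA.trans (GlaubermanZJ.normalizer_le_thomY R))
        (hS.member_inf hX (hRA.trans Subgroup.le_normalizer))
        (inf_le_right.trans (GlaubermanZJ.normalizer_le_thomY R))
    have hRY : R ≤ X ⊓ Subgroup.normalizer (R : Set G) := le_inf hRX Subgroup.le_normalizer
    obtain ⟨i, hi⟩ := IsPGroup.iff_card.1
      (hXq.to_le (inf_le_left : X ⊓ Subgroup.normalizer (R : Set G) ≤ X))
    have h1 := Subgroup.card_dvd_of_le hle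
    rw [hi, Nat.Prime.pow_dvd_iff_le_factorization hq Nat.card_pos.ne'] at h1
    refine hnR ?_
    rw [Subgroup.eq_of_le_of_card_ge hRY (by rw [hi, hRc]; exact Nat.pow_le_pow_right hq.pos h1)]
    exact ⟨hnX, hnN⟩
  obtain ⟨R, hRM, hRc, hR⟩ := hsyl hMax hMp hM0
  obtain ⟨R', hR'N, hR'c, hR'⟩ := hsyl hNax hNp hN0
  have hR1 : R' ≠ ⊥ := by
    intro h
    refine hN0 (le_bot_iff.1 ?_)
    obtain ⟨i, hi⟩ := IsPGroup.iff_card.1 (oq_isPGroup q N)
    have h1 := Subgroup.card_dvd_of_le (oq_le q N)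
    rw [hi] at h1
    have h2 := Nat.pow_le_pow_right hq.pos
      ((Nat.Prime.pow_dvd_iff_le_factorization hq Nat.card_pos.ne').1 h1)
    rw [← hR'c, h, Subgroup.card_bot, ← hi] at h2
    exact (Subgroup.card_eq_one.1 (le_antisymm h2 Nat.card_pos)).le
  have hq2 : q ≠ 2 := isPGroup_member_ne hM (hS.oq_mem hMax.1 q) (oq_isPGroup q M) hM0
  obtain ⟨c, hc, hcR⟩ := isMaxMember_conj hM.hA hM.hcard.ge hM.hθ hq2 hR hR'
  have hR'M : R' ≤ M := by
    rw [← hcR]
    rintro _ ⟨y, hy, rfl⟩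
    exact mul_mem (mul_mem (hMax.2.1 hc) (hRM hy)) (inv_mem (hMax.2.1 hc))
  have hR'c' : Nat.card R' = q ^ (Nat.card M).factorization q := by
    rw [← hcR, Subgroup.card_map_of_injective (MulAut.conj c).injective, hRc]
  exact hNax.2.2 M hMax.1 (hM.le_max hMax ((GlaubermanZJ.thomY_le R').trans hR'M)
    (GlaubermanZJ.thomY_ne_bot (Or.inr rfl) hR'.2.1 hR1) (hZ hMax hMp R' hR'M hR'c')
    ((hS.le_normalizer hR'.1).trans (GlaubermanZJ.normalizer_le_thomY R'))
    hNax.1 (hZ hNax hNp R' hR'N hR'c))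

/-- A moving element gives a datum. -/
theorem exists_datum {a : G} (ha : a ∈ A) (ha1 : a ≠ 1) (hns : ¬ IsMax 2 A θ (θ a)) :
    ∃ q Q M, Datum 2 A θ q Q M ∧ θ a ≤ M ∧ θ a ≤ Subgroup.normalizer (Q : Set G) ∧
      ¬ Q ≤ Subgroup.centralizer ({a} : Set G) := by
  haveI := Fact.mk Nat.prime_two
  have hS := hM.toSetup
  obtain ⟨M0, hM0, hle0⟩ := hS.exists_max_theta ha ha1
  obtain ⟨q, hq, hmov⟩ := exists_moved hM hM0 ha ha1 hle0 hns
  haveI := Fact.mk hq
  obtain ⟨W, hW⟩ := exists_W1 hM q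
  let 𝒰 := {X : Subgroup G // X ≤ W ∧ A ≤ Subgroup.normalizer (X : Set G) ∧
    θ a ≤ Subgroup.normalizer (X : Set G)}
  set U : Subgroup G := ⨆ X : 𝒰, X.1 with hU
  have hUW : U ≤ W := iSup_le fun X => X.2.1
  have hUA : A ≤ Subgroup.normalizer (U : Set G) := le_normalizer_iSup fun X => X.2.2.1
  have hUθ : θ a ≤ Subgroup.normalizer (U : Set G) := le_normalizer_iSup fun X => X.2.2.2
  have hPU : Cfsg.pCoreOf q M0 ≤ U := le_iSup (fun X : 𝒰 => X.1) ⟨_, hW.2.2.2 _
    (hS.oq_mem hM0.1 q) (hM0.2.1.trans (le_normalizer_oq q M0))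
    (piNat_of_isPGroup (oq_isPGroup q M0) rfl), hS.le_normalizer (hS.oq_mem hM0.1 q),
    hle0.trans (le_normalizer_oq q M0)⟩
  set Z := Subgroup.zpowers a with hZ
  have hZA : Z ≤ A := Subgroup.zpowers_le.2 ha
  set Q := ⁅U, Z⁆ with hQ
  have hQU : Q ≤ U := CoprimeAction.commutator_le_self_of_le_normalizer (hZA.trans hUA)
  have hQA : A ≤ Subgroup.normalizer (Q : Set G) :=
    le_normalizer_commutator hUA (SFTLines.le_normalizer_zpowers hM.hA ha)
  have hQθ : θ a ≤ Subgroup.normalizer (Q : Set G) := by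
    refine le_normalizer_commutator hUθ (fun g hg => ?_)
    refine SignalizerCoprime.centralizer_le_normalizer Z fun y hy => ?_
    obtain ⟨i, rfl⟩ := hy
    exact (((show Commute g a from mem_centralizer_singleton.1
      (hS.theta_le ha ha1 hg)).zpow_right i).eq).symm
  have hQm : Q ∈ Cfsg.signalizerFamily 2 A θ := mem_family_of_le hW.1 (hQU.trans hUW) hQA
  have hQq : IsPGroup q Q := (isPGroup_of_piNat hW.2.2.1).to_le (hQU.trans hUW)
  have hQ1 : Q ≠ ⊥ := by
    intro h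
    rw [hQ, Subgroup.commutator_eq_bot_iff_le_centralizer] at h
    exact hmov (hPU.trans (h.trans (Subgroup.centralizer_le
      (Set.singleton_subset_iff.2 (Subgroup.mem_zpowers a)))))
  have hT : Cfsg.signalizerInf A θ ≤ Subgroup.normalizer (Q : Set G) := (hS.T_le ha ha1).trans hQθ
  have hUm : U ∈ Cfsg.signalizerFamily 2 A θ := mem_family_of_le hW.1 hUW hUA
  obtain ⟨N, hN, -, hNθ⟩ := hM.exists_norm hQm hQ1
  have hTN : Cfsg.signalizerInf A θ ≤ N := hS.member_le hS.T_mem fun b hb hb1 =>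
    (le_inf (hS.T_mem.2.2.2 b hb hb1) (inf_le_left.trans hT)).trans (hNθ b hb hb1)
  obtain ⟨M, hMM, hNM⟩ := hS.exists_max hN (hTN.trans Subgroup.le_normalizer)
  have hle : ∀ X ∈ Cfsg.signalizerFamily 2 A θ, X ≤ Subgroup.normalizer (Q : Set G) → X ≤ M :=
    fun X hX hXQ => (hS.member_le hX fun b hb hb1 => (le_inf (hX.2.2.2 b hb hb1)
      (inf_le_left.trans hXQ)).trans (hNθ b hb hb1)).trans hNM
  refine ⟨q, Q, M, ⟨hq, hQm, hQq, hQ1, hT, fun H hH hQH => ?_, hMM, hle⟩,
    hle _ (hS.theta_mem ha ha1) hQθ, hQθ, fun hc => hQ1 ?_⟩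
  · rw [hQ, Subgroup.commutator_le]
    intro x hx w hw
    have hw' : w = 1 ∨ w = a := by
      obtain ⟨i, rfl⟩ := mem_powers_iff_mem_zpowers.2 hw
      rcases Nat.even_or_odd' i with ⟨j, rfl | rfl⟩
      · exact Or.inl (by simp [pow_mul, hM.hA.2 a ha])
      · exact Or.inr (by simp [pow_succ, pow_mul, hM.hA.2 a ha])
    rcases hw' with rfl | rfl
    · simp
    · have hmem := Subgroup.commutator_mem_commutator hx hw
      refine inverted_mem_oq hS hH ha ha1 hQq hQθ hmem (hQH hmem) ?_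
      have h1 : w⁻¹ = w := inv_eq_of_mul_eq_one_right (by simpa [pow_two] using hM.hA.2 w ha)
      rw [commutatorElement_inv, commutatorElement_def, commutatorElement_def]
      simp only [h1]
      rw [show w * (x * w * x⁻¹ * w) * w = w * x * w * x⁻¹ * (w * w) by group,
        show w * w = 1 by simpa [pow_two] using hM.hA.2 w ha, mul_one]
  · rw [hQ, ← CoprimeAction.commutator_commutator_eq (hZA.trans hUA) ?_ (Or.inr hUm.1),
      Subgroup.commutator_eq_bot_iff_le_centralizer]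
    · intro x hx y hy
      obtain ⟨i, rfl⟩ := hy
      exact (((show Commute x a from mem_centralizer_singleton.1 (hc hx)).zpow_right i).eq).symm
    · exact Nat.Coprime.coprime_dvd_left (Subgroup.card_dvd_of_le hZA)
        (SignalizerTransitivity.coprime_card_member hM.hA hUm)

/-- The case of two primes. -/
theorem two_primes_false {q s : ℕ} [Fact q.Prime] [Fact s.Prime] (hqs : q ≠ s)
    (hσ : ∀ a ∈ A, a ≠ 1 → PiNat {q, s} (Nat.card (θ a))) : False := by
  classical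
  haveI := Fact.mk Nat.prime_two
  have hS := hM.toSetup
  choose! Mx hMx hMxle using fun a (ha : a ∈ A ∧ a ≠ 1) => hS.exists_max_theta ha.1 ha.2
  -- no two elements in one node
  have hinj : ∀ a b : G, a ∈ A → a ≠ 1 → b ∈ A → b ≠ 1 → Mx a = Mx b → a = b := by
    intro a b ha ha1 hb hb1 h
    by_contra hab
    exact op hM (hMx a ⟨ha, ha1⟩) ha ha1 hb hb1 hab (hMxle a ⟨ha, ha1⟩) (h ▸ hMxle b ⟨hb, hb1⟩)
  have honly : ∀ {H : Subgroup G}, H ∈ Cfsg.signalizerFamily 2 A θ → ∀ t : ℕ, t.Prime → t ≠ q →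
      t ≠ s → Cfsg.pCoreOf t H = ⊥ := by
    intro H hH t ht htq hts
    haveI := Fact.mk ht
    obtain ⟨k, hk⟩ := IsPGroup.iff_card.1 (oq_isPGroup t H)
    cases k with
    | zero => exact Subgroup.card_eq_one.1 (by simpa using hk)
    | succ k =>
      have := hS.piNat_member (hS.oq_mem hH t) (fun a ha ha1 => (hσ a ha ha1).of_dvd
        (Subgroup.card_dvd_of_le ((hS.oq_mem hH t).2.2.2 a ha ha1))) t ht
        (hk ▸ dvd_pow_self t k.succ_ne_zero)
      rcases this with h | h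
      · exact absurd h htq
      · exact absurd h hts
  -- three elements in two nodes
  have hthree : ∀ B : Subgroup G, B ≤ A → Nat.card B = 2 ^ 2 → ∀ P : Subgroup G → Prop,
      (∀ M N, IsMax 2 A θ M → IsMax 2 A θ N → P M → P N → M = N) → ∀ M₀ : Subgroup G,
      (∀ b ∈ B, b ≠ 1 → Mx b = M₀ ∨ P (Mx b)) → False := by
    intro B hBA hB P hP M₀ h
    have hcard : 3 ≤ Nat.card {b : ↥B // b ≠ 1} := by
      haveI := Fintype.ofFinite ↥B
      rw [Nat.card_eq_fintype_card, Fintype.card_subtype_compl, Fintype.card_subtype_eq,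
        ← Nat.card_eq_fintype_card, hB]
      norm_num
    let f : {b : ↥B // b ≠ 1} → Bool := fun b => decide (Mx (b.1 : G) = M₀)
    have hne1 : ∀ b : {b : ↥B // b ≠ 1}, (b.1 : G) ≠ 1 := fun b h => b.2 (Subtype.ext h)
    have hf : Function.Injective f := by
      intro b c hbc
      have hb := hne1 b
      have hc := hne1 c
      refine Subtype.ext (Subtype.ext (hinj _ _ (hBA b.1.2) hb (hBA c.1.2) hc ?_))
      by_cases hb0 : Mx (b.1 : G) = M₀
      · have hc0 : Mx (c.1 : G) = M₀ := by simpa [f, hb0] using hbc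
        rw [hb0, hc0]
      · have hc0 : ¬ Mx (c.1 : G) = M₀ := by simpa [f, hb0] using hbc
        exact hP _ _ (hMx _ ⟨hBA b.1.2, hb⟩) (hMx _ ⟨hBA c.1.2, hc⟩)
          ((h _ b.1.2 hb).resolve_left hb0) ((h _ c.1.2 hc).resolve_left hc0)
    have := Nat.card_le_card_of_injective f hf
    rw [show Nat.card Bool = 2 by simp] at this
    omega
  by_cases hmix : ∃ M, IsMax 2 A θ M ∧ Cfsg.pCoreOf q M ≠ ⊥ ∧ Cfsg.pCoreOf s M ≠ ⊥
  · obtain ⟨M, hMax, hq, hs⟩ := hmix
    set P := Cfsg.pCoreOf q M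
    set Z := P ⊓ Subgroup.centralizer (P : Set G) with hZdef
    have hNZ : Subgroup.normalizer (P : Set G) ≤ Subgroup.normalizer (Z : Set G) :=
      le_normalizer_inf le_rfl (SignalizerCoprime.le_normalizer_centralizer le_rfl)
    have hZm : Z ∈ Cfsg.signalizerFamily 2 A θ := mem_family_of_le (hS.oq_mem hMax.1 q) inf_le_left
      ((hS.le_normalizer (hS.oq_mem hMax.1 q)).trans hNZ)
    obtain ⟨B, hBA, hB, hX1⟩ : ∃ B, B ≤ A ∧ Nat.card B = 2 ^ 2 ∧
        Z ⊓ Subgroup.centralizer (B : Set G) ≠ ⊥ := by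
      by_contra h
      push Not at h
      refine fixed_ne_bot (oq_isPGroup q M) (oq_isPGroup q M) hq Subgroup.le_normalizer
        (le_bot_iff.1 (le_of_hyperplane_centralizers_le hM.hA (hM.hcard ▸ by norm_num)
          (hS.le_normalizer hZm) hZm.2.1 fun D hDA hD => (h D hDA ?_).le))
      have h1 : Nat.card D * 2 = 2 ^ 2 * 2 := by
        rw [← hD, ← Subgroup.relIndex_bot_left, Subgroup.relIndex_mul_relIndex _ _ _ bot_le hDA,
          Subgroup.relIndex_bot_left, hM.hcard, hD, pow_succ]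
      exact Nat.eq_of_mul_eq_mul_right (by norm_num) h1
    set X := Z ⊓ Subgroup.centralizer (B : Set G)
    have hXm : X ∈ Cfsg.signalizerFamily 2 A θ :=
      hS.member_inf hZm (hS.A_le_normalizer_centralizer hBA)
    refine hthree B hBA hB (fun N => ∀ t : ℕ, t.Prime → t ≠ q → Cfsg.pCoreOf t N = ⊥)
      (fun M N hM' hN' h h' => pureUnique hM q Fact.out M N hM' hN' h h') M fun b hb hb1 =>
        two_primes_unique hM hqs hσ hMax hq hs hXm hX1
          (le_normalizer_inf ((hMax.2.1.trans (le_normalizer_oq q M)).trans hNZ)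
            (hS.T_le_normalizer_centralizer hBA))
          (inf_le_left.trans inf_le_left)
          (fun y hy x hx => ((Subgroup.mem_inf.1 (Subgroup.mem_inf.1 hx).1).2 y hy).symm)
          (hMx b ⟨hBA hb, hb1⟩) (fun x hx => hMxle b ⟨hBA hb, hb1⟩ (hXm.2.2.2 b (hBA hb) hb1
            ⟨hx, Subgroup.centralizer_le (Set.singleton_subset_iff.2 hb) hx.2⟩))
  · push Not at hmix
    obtain ⟨a₀, ha₀, ha₀1⟩ := hS.exists_ne_one
    obtain ⟨B, hBA, -, hB⟩ := exists_le_card_sq hS.isPGroup hM.hcard (bot_le : ⊥ ≤ A)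
      (fun h => ha₀1 (Subgroup.mem_bot.1 (h ▸ ha₀)))
    have hsort : ∀ N, IsMax 2 A θ N → (∀ t : ℕ, t.Prime → t ≠ q → Cfsg.pCoreOf t N = ⊥) ∨
        (∀ t : ℕ, t.Prime → t ≠ s → Cfsg.pCoreOf t N = ⊥) := by
      intro N hN
      by_cases hs : Cfsg.pCoreOf s N = ⊥
      · exact Or.inl fun t ht htq => if hts : t = s then hts ▸ hs else honly hN.1 t ht htq hts
      · have hq : Cfsg.pCoreOf q N = ⊥ := by_contra fun h => hs (hmix N hN h)
        exact Or.inr fun t ht hts => if htq : t = q then htq ▸ hq else honly hN.1 t ht htq hts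
    by_cases hexq : ∃ b ∈ B, b ≠ 1 ∧ ∀ t : ℕ, t.Prime → t ≠ q → Cfsg.pCoreOf t (Mx b) = ⊥
    · obtain ⟨b₀, hb₀, hb₀1, hq₀⟩ := hexq
      exact hthree B hBA hB (fun N => ∀ t : ℕ, t.Prime → t ≠ s → Cfsg.pCoreOf t N = ⊥)
        (fun M N hM' hN' h h' => pureUnique hM s Fact.out M N hM' hN' h h') (Mx b₀) fun b hb hb1 =>
          (hsort _ (hMx b ⟨hBA hb, hb1⟩)).imp (fun h => pureUnique hM q Fact.out _ _
            (hMx b ⟨hBA hb, hb1⟩) (hMx b₀ ⟨hBA hb₀, hb₀1⟩) h hq₀) id
    · push Not at hexq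
      exact hthree B hBA hB (fun N => ∀ t : ℕ, t.Prime → t ≠ s → Cfsg.pCoreOf t N = ⊥)
        (fun M N hM' hN' h h' => pureUnique hM s Fact.out M N hM' hN' h h') ⊥ fun b hb hb1 =>
          Or.inr ((hsort _ (hMx b ⟨hBA hb, hb1⟩)).resolve_left fun h => by
            obtain ⟨t, ht, htq, hne⟩ := hexq b hb hb1
            exact hne (h t ht htq))

theorem minimal_false : False := by
  haveI := Fact.mk Nat.prime_two
  have hS := hM.toSetup
  by_cases hbig : ∀ q s : ℕ, q.Prime → s.Prime → q ≠ s →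
      ∃ a ∈ A, a ≠ 1 ∧ ¬ PiNat {q, s} (Nat.card (θ a))
  swap
  · push Not at hbig
    obtain ⟨q, s, hq, hs, hqs, h⟩ := hbig
    haveI := Fact.mk hq
    haveI := Fact.mk hs
    exact two_primes_false hM hqs h
  obtain ⟨a, ha, ha1, hns⟩ := exists_not_static hM
  obtain ⟨q, Q, M, hD, hθM, hQθ, hmov⟩ := exists_datum hM ha ha1 hns
  haveI := Fact.mk hD.prime
  -- every other element has maximal value
  have hstat : ∀ b ∈ A, b ≠ 1 → b ≠ a → IsMax 2 A θ (θ b) := by
    intro b hb hb1 hba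
    by_contra hbns
    obtain ⟨q', Q', M', hD', hθM', -⟩ := exists_datum hM hb hb1 hbns
    have := datum_unique hM (pureUnique hM) hbig hD hD'
    exact op hM hD.isMax ha ha1 hb hb1 (Ne.symm hba) hθM (this ▸ hθM')
  obtain ⟨D, hDA, hD4, hDmov⟩ : ∃ D, D ≤ A ∧ Nat.card D = 2 ^ 2 ∧
      ¬ Q ⊓ Subgroup.centralizer (D : Set G) ≤ Subgroup.centralizer ({a} : Set G) := by
    by_contra h
    push Not at h
    refine hmov (le_of_hyperplane_centralizers_le hM.hA (hM.hcard ▸ by norm_num)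
      (hS.le_normalizer hD.mem) hD.mem.2.1 fun D hDA hD => h D hDA ?_)
    have h1 : Nat.card D * 2 = 2 ^ 2 * 2 := by
      rw [← hD, ← Subgroup.relIndex_bot_left, Subgroup.relIndex_mul_relIndex _ _ _ bot_le hDA,
        Subgroup.relIndex_bot_left, hM.hcard, hD, pow_succ]
    exact Nat.eq_of_mul_eq_mul_right (by norm_num) h1
  obtain ⟨y, hy, hya⟩ := SetLike.not_le_iff_exists.1 hDmov
  have haD : a ∉ D := fun h => hya (mem_centralizer_singleton.2
    ((hy.2 a h).symm))
  have ha2 : a * a = 1 := by simpa [pow_two] using hM.hA.2 a ha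
  have hainv : a⁻¹ = a := inv_eq_of_mul_eq_one_right ha2
  set x := y * (a * y⁻¹ * a⁻¹) with hx
  have hxQ : x ∈ Q := mul_mem hy.1 (mem_normalizer_conj (hS.le_normalizer hD.mem ha) (inv_mem hy.1))
  have hxinv : a * x * a⁻¹ = x⁻¹ := by
    rw [hx]
    calc a * (y * (a * y⁻¹ * a⁻¹)) * a⁻¹ = a * y * a * y⁻¹ * (a⁻¹ * a⁻¹) := by group
      _ = a * y * a⁻¹ * y⁻¹ := by rw [hainv, ha2, mul_one]
      _ = (y * (a * y⁻¹ * a⁻¹))⁻¹ := by group
  have hx1 : x ≠ 1 := by
    intro h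
    rw [hx, mul_eq_one_iff_eq_inv] at h
    refine hya (mem_centralizer_singleton.2 ?_)
    have h2 : a * y * a⁻¹ = y :=
      calc a * y * a⁻¹ = (a * y⁻¹ * a⁻¹)⁻¹ := by group
        _ = y := h.symm
    exact conj_eq_iff_commute.1 h2
  have hxD : ∀ d ∈ D, x * d = d * x := by
    intro d hd
    have h1 : Commute y d := (hy.2 d hd).symm
    have h2 : Commute a d := hS.comm ha (hDA hd)
    exact (h1.mul_left ((h2.mul_left h1.inv_left).mul_left h2.inv_left)).eq
  have hxc : ∀ b ∈ D, b ≠ 1 → x ∈ Cfsg.pCoreOf q (θ b) := fun b hb hb1 =>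
    inverted_mem_oq hS (hS.theta_mem (hDA hb) hb1) ha ha1 hD.pgroup hQθ hxQ
      (hD.mem.2.2.2 b (hDA hb) hb1 ⟨hxQ, mem_centralizer_singleton.2 (hxD b hb)⟩) hxinv
  obtain ⟨b, c, hb, hb1, hc, hc1, hbc⟩ : ∃ b c, b ∈ D ∧ b ≠ 1 ∧ c ∈ D ∧ c ≠ 1 ∧
      b ∉ Subgroup.zpowers c := by
    haveI : Nontrivial ↥D := by rw [← Finite.one_lt_card_iff_nontrivial, hD4]; norm_num
    obtain ⟨⟨c, hc⟩, hc1⟩ := exists_ne (1 : ↥D)
    have hc1' : c ≠ 1 := fun h => hc1 (Subtype.ext h)
    have hnot : ¬ D ≤ Subgroup.zpowers c := fun h => by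
      have := Subgroup.card_le_of_le h
      rw [Nat.card_zpowers, orderOf_eq_prime (hM.hA.2 c (hDA hc)) hc1', hD4] at this
      norm_num at this
    obtain ⟨b, hb, hbc⟩ := SetLike.not_le_iff_exists.1 hnot
    exact ⟨b, c, hb, fun h => hbc (h ▸ one_mem _), hc, hc1', hbc⟩
  refine static_inter hM (hDA hb) hb1 (hDA hc) hc1 hbc (hstat b (hDA hb) hb1 fun h => haD (h ▸ hb))
    (hstat c (hDA hc) hc1 fun h => haD (h ▸ hc)) (q := q) fun h => hx1 ?_
  exact Subgroup.mem_bot.1 (h ▸ Subgroup.mem_inf.2 ⟨hxc b hb hb1, hxc c hc hc1⟩)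

omit hM in
/-- The solvable signalizer functor theorem on groups of order eight. -/
theorem complete {G : Type u} [Group G] [Finite G] {A : Subgroup G} {θ : G → Subgroup G}
    (hS : Setup 2 A θ) : Complete 2 A θ := by
  suffices h : ∀ n, ∀ (G : Type u) [Group G] [Finite G] (A : Subgroup G) (θ : G → Subgroup G),
      Setup 2 A θ → weight A θ = n → Complete 2 A θ from h _ G A θ hS rfl
  intro n
  induction n using Nat.strong_induction_on with
  | _ n ih =>
    intro G _ _ A θ hS hn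
    by_contra hinc
    exact minimal_false ⟨hS, hinc, fun G' _ _ A' θ' hS' hlt => ih _ (hn ▸ hlt) G' A' θ' hS' rfl⟩

end Cfsg.Agent.SFTTwo
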