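import Mathlib
import Cfsg.Agent.Lib.SFTPureHatLe
import Cfsg.Agent.Lib.SFTPureTwoPrime
import Cfsg.Agent.Lib.SFTPureGood
import Cfsg.Agent.Lib.SFTPureNoGood
import Cfsg.Agent.Lib.SFTOdd56
import Cfsg.Agent.Lib.SFTTwo
import Cfsg.Agent.Lib.SFTExtend

/-!
# The solvable signalizer functor theorem

No minimal incomplete solvable signalizer functor exists on an elementary abelian group of order
`p ^ 3`, for any prime `p`; hence every solvable signalizer functor of rank at least three is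
complete.
-/

set_option autoImplicit false

namespace Cfsg.Agent.SFTPureMain

open Cfsg.Agent.HallCore Cfsg.Agent.SFTCtx Cfsg.Agent.SFTPair Cfsg.Agent.SFTExtend

universe u

variable {G : Type u} [Group G] [Finite G] {p : ℕ} {A : Subgroup G} {θ : G → Subgroup G}

/-- A minimal incomplete functor has a value of even order. -/
theorem exists_even (hp2 : p ≠ 2) (hM : Minimal p A θ) :
    ∃ a ∈ A, a ≠ 1 ∧ 2 ∣ Nat.card (θ a) := by
  by_contra h
  push Not at h
  refine hM.incomplete ?_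
  obtain ⟨W, hW, hle⟩ := SFTOdd56.complete hp2 (A := A) (θ := θ)
    ⟨hM.prime, hM.hA, hM.hcard, hM.hθ, fun a ha ha1 => Nat.odd_iff.2
      (Nat.two_dvd_ne_zero.1 (h a ha ha1))⟩
  exact ⟨W, hW, hle⟩

/-- There are not only two primes. -/
theorem three_primes (hp2 : p ≠ 2) (hM : Minimal p A θ) :
    ∀ q s : ℕ, q.Prime → s.Prime → q ≠ s →
      ∃ a ∈ A, a ≠ 1 ∧ ¬ PiNat {q, s} (Nat.card (θ a)) := by
  intro q s hq hs hqs
  by_contra h
  push Not at h
  obtain ⟨a, ha, ha1, h2⟩ := exists_even hp2 hM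
  -- one of the primes is two; move it to the front
  obtain ⟨r, hr, hr2, hσ⟩ : ∃ r : ℕ, r.Prime ∧ r ≠ 2 ∧
      ∀ b ∈ A, b ≠ 1 → PiNat {2, r} (Nat.card (θ b)) := by
    rcases h a ha ha1 2 Nat.prime_two h2 with h' | h'
    · exact ⟨s, hs, fun e => hqs (by rw [← h', e]), fun b hb hb1 => by
        rw [h']; exact h b hb hb1⟩
    · have h'' : 2 = s := h'
      exact ⟨q, hq, fun e => hqs (by rw [← h'', e]), fun b hb hb1 => by
        rw [h'', Set.pair_comm]; exact h b hb hb1⟩
  -- replace it if it is `p`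
  obtain ⟨t, ht, ht2, htp, hσt⟩ : ∃ t : ℕ, t.Prime ∧ t ≠ 2 ∧ t ≠ p ∧
      ∀ b ∈ A, b ≠ 1 → PiNat {2, t} (Nat.card (θ b)) := by
    by_cases hrp : r = p
    · obtain ⟨t, hle, ht⟩ := Nat.exists_infinite_primes (p + 3)
      refine ⟨t, ht, by omega, by omega, fun b hb hb1 l hl hlb => ?_⟩
      rcases hσ b hb hb1 l hl hlb with h' | h'
      · exact Or.inl h'
      · exact absurd ((show l = p from (h' : l = r).trans hrp) ▸ hlb) (hM.hθ.1.2.1 b hb hb1)
    · exact ⟨r, hr, hr2, hrp, hσ⟩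
  haveI := Fact.mk ht
  exact SFTPureTwoPrime.two_primes_false hp2 SFTPure.hatLe hM ht2 htp hσt

/-- No minimal incomplete functor for an odd prime. -/
theorem minimal_false (hp2 : p ≠ 2) (hM : Minimal p A θ) : False := by
  have hbig := three_primes hp2 hM
  by_cases hgood : ∃ a ∈ A, a ≠ 1 ∧ ¬ IsMax p A θ (θ a) ∧ ∃ L, IsMax p A θ L ∧ θ a ≤ L ∧
      ∃ t : ℕ, t.Prime ∧ t ≠ 2 ∧
        ¬ Cfsg.pCoreOf t L ≤ Subgroup.centralizer ({a} : Set G)
  · obtain ⟨a, ha, ha1, -, L, hL, hle, t, ht, ht2, hmov⟩ := hgood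
    haveI := Fact.mk ht
    obtain ⟨Q, M, hD, -, hQN, hQmov⟩ :=
      SFTPureBasic.exists_datum hp2 hM ha ha1 hL hle ht2 hmov
    exact SFTPureGood.good_false hp2 SFTPure.hatLe hM hbig ht2 ha ha1 hD hQN hQmov
  · push Not at hgood
    exact SFTPureNoGood.no_good_false hM hp2 SFTPure.hatLe hbig (exists_even hp2 hM)
      fun a ha ha1 hns L hL hle t ht ht2 => hgood a ha ha1 hns L hL hle t ht ht2

/-- The theorem on groups of order `p ^ 3`, for odd `p`. -/
theorem complete (hp2 : p ≠ 2) (hS : Setup p A θ) : Complete p A θ := by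
  suffices h : ∀ n, ∀ (G : Type u) [Group G] [Finite G] (A : Subgroup G) (θ : G → Subgroup G),
      Setup p A θ → weight A θ = n → Complete p A θ from h _ G A θ hS rfl
  intro n
  induction n using Nat.strong_induction_on with
  | _ n ih =>
    intro G _ _ A θ hS hn
    by_contra hinc
    exact minimal_false hp2
      ⟨hS, hinc, fun G' _ _ A' θ' hS' hlt => ih _ (hn ▸ hlt) G' A' θ' hS' rfl⟩

/-- Completeness on groups of order `p ^ 3`, for every prime. -/
theorem completeAt (p : ℕ) : CompleteAt.{u} p := by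
  intro G _ _ A θ hS
  by_cases hp2 : p = 2
  · subst hp2
    exact SFTTwo.complete hS
  · exact complete hp2 hS

end Cfsg.Agent.SFTPureMain
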