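import Mathlib
import Cfsg.Prelude.Def_Local
import Cfsg.Prelude.Def_Transfer
import Cfsg.Prelude.Def_CaseTheorems
import Cfsg.Agent.S0205
import Cfsg.Agent.S0217
import Cfsg.Agent.S1279
import Cfsg.Agent.Lib.ZStarTheorem
import Cfsg.Agent.Lib.IsolatedInv
import Cfsg.Agent.Lib.HallSolvable
import Cfsg.Agent.Lib.SFTApps

/-!
# General lemmas for S3197

A signalizer-functor reduction: if the centralizers of the elements of an elementary abelian subgroup `A`
of rank at least three are solvable and the remaining involutions have centralizers controlled by `A`,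
then the group is `W N(A)` with `W` a normal subgroup of odd order.
-/

set_option autoImplicit false

namespace Cfsg.Agent.AEightThreeGen62

open Cfsg

variable {G : Type*} [Group G] [Finite G]

theorem fact2 : Fact (Nat.Prime 2) := ⟨Nat.prime_two⟩

attribute [local instance] fact2

/-- A group of odd order is solvable. -/
theorem solvable_of_odd_card (H : Subgroup G) (h : Odd (Nat.card H)) : Group.IsSolvable ↥H :=
  S0205.result h

omit [Finite G] in
/-- A subgroup of a solvable subgroup is solvable. -/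
theorem solvable_of_le {H K : Subgroup G} (h : H ≤ K) (hK : Group.IsSolvable ↥K) :
    Group.IsSolvable ↥H :=
  haveI := hK
  solvable_of_solvable_injective (Subgroup.inclusion_injective h)

omit [Finite G] in
/-- A group generated by a solvable normal subgroup and a solvable subgroup is solvable. -/
theorem solvable_of_mul {G' : Type*} [Group G'] {M C : Subgroup G'} [M.Normal]
    (hM : Group.IsSolvable ↥M) (hC : Group.IsSolvable ↥C)
    (h : ∀ g : G', ∃ m ∈ M, ∃ c ∈ C, g = m * c) : Group.IsSolvable G' := by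
  haveI := hM
  haveI := hC
  have hsurj : Function.Surjective ((QuotientGroup.mk' M).comp C.subtype) := by
    intro q
    obtain ⟨g, rfl⟩ := QuotientGroup.mk'_surjective M q
    obtain ⟨m, hm, c, hc, rfl⟩ := h g
    refine ⟨⟨c, hc⟩, ?_⟩
    simp [(QuotientGroup.eq_one_iff m).2 hm]
  haveI := solvable_of_surjective hsurj
  exact solvable_of_ker_le_range M.subtype (QuotientGroup.mk' M) (by simp)

/-- A 2-subgroup is moved into a given Sylow 2-subgroup. -/
theorem exists_conj_into (T : Sylow 2 G) {R : Subgroup G} (hR : IsPGroup 2 R) :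
    ∃ h : G, ∀ r ∈ R, h * r * h⁻¹ ∈ T := by
  obtain ⟨P, hP⟩ := hR.exists_le_sylow
  obtain ⟨h, rfl⟩ := MulAction.exists_smul_eq G T P
  refine ⟨h⁻¹, fun r hr => ?_⟩
  have h1 := hP hr
  rw [Sylow.coe_subgroup_smul, Subgroup.mem_pointwise_smul_iff_inv_smul_mem] at h1
  rw [← map_inv, MulAut.smul_def, MulAut.conj_apply] at h1
  exact h1

theorem exists_conj_mem (T : Sylow 2 G) {x : G} (hx : x ^ 2 = 1) : ∃ h : G, h * x * h⁻¹ ∈ T := by
  obtain ⟨h, hh⟩ := exists_conj_into T (SignalizerCoprime.isPGroup_zpowers (p := 2) hx)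
  exact ⟨h, hh x (Subgroup.mem_zpowers x)⟩

omit [Finite G] in
theorem sq_conj {x : G} (hx : x ^ 2 = 1) (g : G) : (g * x * g⁻¹) ^ 2 = 1 := by
  rw [pow_two, show g * x * g⁻¹ * (g * x * g⁻¹) = g * (x * x) * g⁻¹ by group, ← pow_two, hx]
  group

omit [Finite G] in
theorem orderOf_two {x : G} (hx : x ^ 2 = 1) (h1 : x ≠ 1) : orderOf x = 2 :=
  orderOf_eq_prime hx h1

/-- Decomposition of a solvable group containing a strongly closed abelian 2-subgroup. -/
theorem decomp_solvable {K : Type*} [Group K] [Finite K] [Group.IsSolvable K] {A : Subgroup K}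
    (hA : IsElementaryAbelian 2 A)
    (hcl : ∀ R : Subgroup K, IsPGroup 2 R → A ≤ R → ∀ a ∈ A, ∀ g : K, g * a * g⁻¹ ∈ R →
      g * a * g⁻¹ ∈ A)
    (g : K) : ∃ o ∈ oddCore K, ∀ a ∈ A, (o * g) * a * (o * g)⁻¹ ∈ A := by
  have hA2 : IsPGroup 2 A := SignalizerCoprime.isPGroup_of_elementaryAbelian hA
  haveI hOn : (oddCore K).Normal := HallCore.pPrimeCore_normal 2 K
  set O := oddCore K with hO
  set q := QuotientGroup.mk' O with hq
  have hOodd : (Nat.card O).Coprime 2 := HallCore.coprime_card_pPrimeCore 2 K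
  have hinter : ∀ R : Subgroup K, IsPGroup 2 R → ∀ r ∈ R, r ∈ O → r = 1 := fun R hR r hr hrO => by
    obtain ⟨n, hn⟩ := IsPGroup.iff_card.1 hR
    have h := HallCore.disjoint_of_coprime_card (A := R) (B := O)
      (hn ▸ (Nat.Coprime.pow_left n hOodd.symm))
    rw [← Subgroup.mem_bot, ← h]
    exact ⟨hr, hrO⟩
  -- the preimage of `O₂` of the quotient
  haveI : (pCore 2 (K ⧸ O)).Normal := HallCore.pCore_normal 2 _
  set F := (pCore 2 (K ⧸ O)).comap q with hF
  haveI : Group.IsSolvable (K ⧸ O) := inferInstance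
  have hcent : Subgroup.centralizer (pCore 2 (K ⧸ O) : Set (K ⧸ O)) ≤ pCore 2 (K ⧸ O) :=
    HallSolvable.centralizer_pCore_le (HallSolvable.isPSolvable_of_solvable 2)
      (HallCore.pPrimeCore_quotient_self 2 K)
  -- a Sylow subgroup containing `A`
  obtain ⟨P, hAP⟩ := hA2.exists_le_sylow
  have hnormP : ∀ p ∈ (P : Subgroup K), ∀ a ∈ A, p * a * p⁻¹ ∈ A := fun p hp a ha =>
    hcl P P.2 hAP a ha p (mul_mem (mul_mem hp (hAP ha)) (inv_mem hp))
  set Fb := pCore 2 (K ⧸ O) with hFb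
  have hFP : ∀ f ∈ Fb, ∃ p ∈ (P : Subgroup K), q p = f := by
    intro f hf
    have hle : Fb ≤ (P : Subgroup K).map q := by
      have h := HallCore.pCore_le_sylow (P.mapSurjective (QuotientGroup.mk'_surjective O))
      rwa [Sylow.coe_mapSurjective] at h
    obtain ⟨p, hp, rfl⟩ := hle hf
    exact ⟨p, hp, rfl⟩
  have hmapA : ∀ p ∈ (P : Subgroup K), ∀ k : K, q p = q k → ∀ a ∈ A, k * a * k⁻¹ * (p * a * p⁻¹)⁻¹ ∈ O := by
    intro p hp k hk a ha
    rw [← QuotientGroup.eq_one_iff]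
    change q (k * a * k⁻¹ * (p * a * p⁻¹)⁻¹) = 1
    simp only [map_mul, map_inv, hk]
    group
  -- strong closure passes to the quotient
  have hclq : ∀ a ∈ A, ∀ k : K, ∀ f ∈ Fb, q (k * a * k⁻¹) = f → f ∈ A.map q := by
    intro a ha k f hf hkf
    obtain ⟨p, hp, hpf⟩ := hFP f hf
    obtain ⟨c, hc⟩ : ∃ c : K, c ∈ O ∧ k * a * k⁻¹ = p * c := by
      refine ⟨p⁻¹ * (k * a * k⁻¹), ?_, by group⟩
      rw [← QuotientGroup.eq_one_iff]
      change q (p⁻¹ * (k * a * k⁻¹)) = 1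
      rw [map_mul, map_inv, hkf, hpf, inv_mul_cancel]
    -- move `k a k⁻¹` into `P` by an element of `O`
    set Z := Subgroup.zpowers (k * a * k⁻¹) with hZ
    have hZ2 : IsPGroup 2 Z := SignalizerCoprime.isPGroup_zpowers (p := 2) (sq_conj (hA.2 a ha) k)
    set L := (P : Subgroup K) ⊔ O with hL
    have hZL : Z ≤ L := Subgroup.zpowers_le.2 (hc.2 ▸
      mul_mem (Subgroup.mem_sup_left hp) (Subgroup.mem_sup_right hc.1))
    obtain ⟨R, hR⟩ := (hZ2.comap_subtype (K := L)).exists_le_sylow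
    obtain ⟨l, hl⟩ := MulAction.exists_smul_eq L R (P.subtype (le_sup_left : (P : Subgroup K) ≤ L))
    have h1 : (⟨k * a * k⁻¹, hZL (Subgroup.mem_zpowers _)⟩ : L) ∈ R :=
      hR (Subgroup.mem_comap.2 (Subgroup.mem_zpowers _))
    have h2 : l * ⟨k * a * k⁻¹, hZL (Subgroup.mem_zpowers _)⟩ * l⁻¹ ∈
        (P.subtype (le_sup_left : (P : Subgroup K) ≤ L) : Subgroup L) := by
      rw [← hl, Sylow.coe_subgroup_smul, Subgroup.mem_pointwise_smul_iff_inv_smul_mem, ← map_inv,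
        MulAut.smul_def, MulAut.conj_apply]
      have e : ∀ x : L, l⁻¹ * (l * x * l⁻¹) * l⁻¹⁻¹ = x := fun x => by group
      rw [e]
      exact h1
    have h3 : (l : K) * (k * a * k⁻¹) * (l : K)⁻¹ ∈ (P : Subgroup K) := h2
    have hl' : (l : K) ∈ (↑((P : Subgroup K) ⊔ O) : Set K) := l.2
    rw [Subgroup.coe_mul_of_left_le_normalizer_right _ _
      ((Subgroup.normalizer_eq_top O).symm ▸ le_top)] at hl'
    · obtain ⟨p', hp', o, ho, hpo⟩ := Set.mem_mul.1 hl'
      have h4 : o * (k * a * k⁻¹) * o⁻¹ ∈ (P : Subgroup K) := by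
        have h5 := mul_mem (mul_mem (inv_mem hp') h3) hp'
        rw [← hpo] at h5
        convert h5 using 1
        group
      have h6 : (o * k) * a * (o * k)⁻¹ ∈ A := by
        refine hcl P P.2 hAP a ha _ ?_
        convert h4 using 1
        group
      refine ⟨_, h6, ?_⟩
      have h7 : q o = 1 := (QuotientGroup.eq_one_iff o).2 ho
      rw [map_mul, map_mul, map_inv, map_mul, h7, one_mul, ← hkf, map_mul, map_mul, map_inv]
  -- the stabilizer of the series `Fb ≥ Fb ⊓ Ā ≥ 1`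
  set Ab := A.map q with hAb
  have hAbnorm : ∀ x ∈ Fb ⊓ Ab, ∀ k : K ⧸ O, k * x * k⁻¹ ∈ Fb ⊓ Ab := by
    rintro x ⟨hxF, a, ha, rfl⟩ k
    obtain ⟨k, rfl⟩ := QuotientGroup.mk'_surjective O k
    have h : q k * q a * (q k)⁻¹ ∈ Fb := (inferInstance : Fb.Normal).conj_mem _ hxF _
    exact ⟨h, hclq a ha k _ h (by simp [hq])⟩
  have hAbel : ∀ x ∈ Ab, ∀ y ∈ Ab, x * y = y * x := by
    rintro _ ⟨x, hx, rfl⟩ _ ⟨y, hy, rfl⟩
    rw [← map_mul, ← map_mul, SignalizerCoprime.comm_of_mem hA hx hy]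
  have hAbF : ∀ a ∈ A, ∀ f ∈ Fb, q a * f * (q a)⁻¹ * f⁻¹ ∈ Fb ⊓ Ab := by
    intro a ha f hf
    have h1 : q a * f * (q a)⁻¹ * f⁻¹ ∈ Fb :=
      mul_mem ((inferInstance : Fb.Normal).conj_mem _ hf _) (inv_mem hf)
    obtain ⟨p, hp, rfl⟩ := hFP f hf
    refine ⟨h1, a * (p * a⁻¹ * p⁻¹), mul_mem ha (hnormP p hp _ (inv_mem ha)), ?_⟩
    simp only [map_mul, map_inv]
    group
  let St : Subgroup (K ⧸ O) :=
    { carrier := {x | (∀ f ∈ Fb, x * f * x⁻¹ * f⁻¹ ∈ Fb ⊓ Ab) ∧ ∀ e ∈ Fb ⊓ Ab, x * e * x⁻¹ = e}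
      one_mem' := ⟨fun f _ => by simp, fun e _ => by simp⟩
      mul_mem' := fun {x y} hx hy => by
        refine ⟨fun f hf => ?_, fun e he => ?_⟩
        · have h1 := hy.1 f hf
          have h2 := hx.1 (y * f * y⁻¹) ((inferInstance : Fb.Normal).conj_mem _ hf _)
          have := mul_mem h2 h1
          convert this using 1
          group
        · rw [show x * y * e * (x * y)⁻¹ = x * (y * e * y⁻¹) * x⁻¹ by group, hy.2 e he, hx.2 e he]
      inv_mem' := fun {x} hx => by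
        refine ⟨fun f hf => ?_, fun e he => ?_⟩
        · have h1 := inv_mem (hx.1 (x⁻¹ * f * x⁻¹⁻¹) ((inferInstance : Fb.Normal).conj_mem _ hf _))
          convert h1 using 1
          group
        · conv_lhs => rw [← hx.2 e he]
          group }
  haveI : St.Normal := ⟨fun x hx k => by
    refine ⟨fun f hf => ?_, fun e he => ?_⟩
    · have h1 := hAbnorm _ (hx.1 (k⁻¹ * f * k⁻¹⁻¹) ((inferInstance : Fb.Normal).conj_mem _ hf _)) k
      convert h1 using 1
      group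
    · have h1 := hx.2 (k⁻¹ * e * k⁻¹⁻¹) (hAbnorm _ he _)
      calc k * x * k⁻¹ * e * (k * x * k⁻¹)⁻¹ = k * (x * (k⁻¹ * e * k⁻¹⁻¹) * x⁻¹) * k⁻¹ := by group
        _ = k * (k⁻¹ * e * k⁻¹⁻¹) * k⁻¹ := by rw [h1]
        _ = e := by group⟩
  have hASt : Ab ≤ St := by
    rintro _ ⟨a, ha, rfl⟩
    refine ⟨fun f hf => hAbF a ha f hf, fun e he => ?_⟩
    rw [hAbel _ ⟨a, ha, rfl⟩ e he.2, mul_inv_cancel_right]
  have hStp : IsPGroup 2 St := by
    intro x
    obtain ⟨j, m, hm, hjm⟩ := Nat.exists_eq_two_pow_mul_odd (orderOf_pos (x : K ⧸ O)).ne'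
    refine ⟨j + 1, Subtype.ext ?_⟩
    -- the odd part of `x` centralizes `Fb`
    set w : K ⧸ O := (x : K ⧸ O) ^ 2 ^ j with hw
    have hwSt : w ∈ St := pow_mem x.2 _
    have hwm : w ^ m = 1 := by rw [hw, ← pow_mul, ← hjm, pow_orderOf_eq_one]
    have hwF : w ∈ Subgroup.centralizer (Fb : Set (K ⧸ O)) := by
      intro f hf
      set e := w * f * w⁻¹ * f⁻¹ with he
      have heA := hwSt.1 f hf
      have hk : ∀ k : ℕ, w ^ k * f * (w ^ k)⁻¹ = e ^ k * f := by
        intro k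
        induction k with
        | zero => simp
        | succ k ih =>
          have h1 : w * (e ^ k) * w⁻¹ = e ^ k := hwSt.2 _ (pow_mem heA k)
          calc w ^ (k + 1) * f * (w ^ (k + 1))⁻¹ = w * (w ^ k * f * (w ^ k)⁻¹) * w⁻¹ := by
                rw [pow_succ']; group
            _ = (w * e ^ k * w⁻¹) * (w * f * w⁻¹) := by rw [ih]; group
            _ = e ^ k * (e * f) := by rw [h1, he]; group
            _ = e ^ (k + 1) * f := by rw [← mul_assoc, ← pow_succ]
      have h1 := hk m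
      rw [hwm, one_mul, inv_one, mul_one] at h1
      have hem : e ^ m = 1 := mul_eq_right.1 h1.symm
      have he2 : e ^ 2 = 1 := by
        obtain ⟨a, ha, hae⟩ := heA.2
        rw [← he] at hae
        rw [← hae, ← map_pow, hA.2 a ha, map_one]
      have he1 : e = 1 := by
        obtain ⟨t, ht⟩ := hm
        rw [ht, pow_succ, pow_mul, he2, one_pow, one_mul] at hem
        exact hem
      rw [he, mul_inv_eq_one, mul_inv_eq_iff_eq_mul] at he1
      exact he1.symm
    have hwFb := hcent hwF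
    obtain ⟨i, hi⟩ := (HallCore.isPGroup_pCore 2 (K ⧸ O)) ⟨w, hwFb⟩
    have hi' : w ^ 2 ^ i = 1 := congrArg Subtype.val hi
    have hw1 : w = 1 := by
      rw [← orderOf_eq_one_iff]
      exact Nat.eq_one_of_dvd_coprimes (Nat.Coprime.pow_left i hm.coprime_two_left)
        (orderOf_dvd_of_pow_eq_one hi') (orderOf_dvd_of_pow_eq_one hwm)
    simp only [SubmonoidClass.coe_pow, OneMemClass.coe_one]
    rw [pow_succ, pow_mul, ← hw, hw1, one_pow]
  have hAFb : Ab ≤ Fb := hASt.trans (HallCore.le_pCore hStp)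
  -- conclusion: for each `a`, `g a g⁻¹` is in `A O`, so `A O` is normal
  set M := A ⊔ O with hM
  have hgM : ∀ a ∈ A, g * a * g⁻¹ ∈ M := by
    intro a ha
    have h := hAbnorm (q a) ⟨hAFb ⟨a, ha, rfl⟩, a, ha, rfl⟩ (q g)
    obtain ⟨b, hb, hbq⟩ := h.2
    have : b⁻¹ * (g * a * g⁻¹) ∈ O := by
      rw [← QuotientGroup.eq_one_iff]
      change q (b⁻¹ * (g * a * g⁻¹)) = 1
      simp only [map_mul, map_inv, hbq]
      group
    have h2 := mul_mem (Subgroup.mem_sup_left hb : b ∈ M) (Subgroup.mem_sup_right this : _ ∈ M)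
    rwa [← mul_assoc, mul_inv_cancel, one_mul] at h2
  set Ag := A.map (MulAut.conj g).toMonoidHom with hAg
  have hAg2 : IsPGroup 2 Ag := hA2.map _
  obtain ⟨R, hR⟩ := (hA2.comap_subtype (K := M)).exists_le_sylow
  obtain ⟨R', hR'⟩ := (hAg2.comap_subtype (K := M)).exists_le_sylow
  obtain ⟨l, hl⟩ := MulAction.exists_smul_eq M R' R
  have hRA : ∀ r : M, r ∈ R → (r : K) ∈ A := by
    intro r hr
    have h1 : (r : K) ∈ (↑(A ⊔ O) : Set K) := r.2
    rw [Subgroup.coe_mul_of_left_le_normalizer_right _ _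
      ((Subgroup.normalizer_eq_top O).symm ▸ le_top)] at h1
    obtain ⟨a, ha, o, ho, hao⟩ := Set.mem_mul.1 h1
    have h2 : (⟨a, Subgroup.mem_sup_left ha⟩ : M) ∈ R := hR ha
    have ho' : (⟨o, Subgroup.mem_sup_right ho⟩ : M) ∈ (R : Subgroup M) := by
      have e : (⟨o, Subgroup.mem_sup_right ho⟩ : M) = (⟨a, Subgroup.mem_sup_left ha⟩ : M)⁻¹ * r :=
        Subtype.ext (show o = a⁻¹ * (r : K) by rw [← hao, inv_mul_cancel_left])
      rw [e]
      exact mul_mem (inv_mem h2) hr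
    have h3 := hinter ((R : Subgroup M).map M.subtype) (R.2.map _) o ⟨_, ho', rfl⟩ ho
    rw [← hao, h3, mul_one]
    exact ha
  have hla : ∀ a ∈ A, (l : K) * (g * a * g⁻¹) * (l : K)⁻¹ ∈ A := by
    intro a ha
    have h1 : (⟨g * a * g⁻¹, hgM a ha⟩ : M) ∈ R' := hR' (Subgroup.mem_comap.2 ⟨a, ha, rfl⟩)
    have h2 : l * ⟨g * a * g⁻¹, hgM a ha⟩ * l⁻¹ ∈ (R : Subgroup M) := by
      rw [← hl, Sylow.coe_subgroup_smul, Subgroup.mem_pointwise_smul_iff_inv_smul_mem, ← map_inv,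
        MulAut.smul_def, MulAut.conj_apply]
      have e : ∀ x : M, l⁻¹ * (l * x * l⁻¹) * l⁻¹⁻¹ = x := fun x => by group
      rw [e]
      exact h1
    exact hRA _ h2
  have hl' : (l : K) ∈ (↑(A ⊔ O) : Set K) := l.2
  rw [Subgroup.coe_mul_of_left_le_normalizer_right _ _
    ((Subgroup.normalizer_eq_top O).symm ▸ le_top)] at hl'
  obtain ⟨b, hb, o, ho, hbo⟩ := Set.mem_mul.1 hl'
  refine ⟨o, ho, fun a ha => ?_⟩
  have h1 := mul_mem (mul_mem (inv_mem hb) (hla a ha)) hb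
  rw [← hbo] at h1
  convert h1 using 1
  group

/-- A solvable centralizer lies in `H`. -/
theorem cent_le_of_solvable {A H : Subgroup G} (hA : IsElementaryAbelian 2 A)
    (hcl : ∀ R : Subgroup G, IsPGroup 2 R → A ≤ R → ∀ a ∈ A, ∀ g : G, g * a * g⁻¹ ∈ R →
      g * a * g⁻¹ ∈ A)
    {x : G} (hx : x ∈ A) (hsol : Group.IsSolvable ↥(Subgroup.centralizer ({x} : Set G)))
    (hθ : centralizerPPrimeCore 2 x ≤ H) (hN : Subgroup.normalizer (A : Set G) ≤ H) :
    Subgroup.centralizer ({x} : Set G) ≤ H := by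
  set C := Subgroup.centralizer ({x} : Set G) with hC
  have hAC : A ≤ C := fun a ha =>
    Subgroup.mem_centralizer_singleton_iff.2 (SignalizerCoprime.comm_of_mem hA ha hx)
  have hA' : IsElementaryAbelian 2 (A.subgroupOf C) :=
    ⟨⟨⟨fun a b => Subtype.ext (Subtype.ext (SignalizerCoprime.comm_of_mem hA a.2 b.2))⟩⟩,
      fun a ha => Subtype.ext (by simpa using hA.2 a.1 ha)⟩
  intro g hg
  haveI := hsol
  obtain ⟨o, ho, hog⟩ := decomp_solvable hA' (fun R hR hAR a ha k hk => by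
    refine Subgroup.mem_subgroupOf.2 (hcl (R.map C.subtype) (hR.map _) ?_ _ ha (k : G) ?_)
    · intro b hb
      exact ⟨⟨b, hAC hb⟩, hAR (Subgroup.mem_subgroupOf.2 hb), rfl⟩
    · exact ⟨_, hk, rfl⟩) ⟨g, hg⟩
  have h1 : (o : G) * g ∈ H := hN (Subgroup.mem_normalizer_fintype fun a ha =>
    hog ⟨a, hAC ha⟩ (Subgroup.mem_subgroupOf.2 ha))
  have h2 : (o : G)⁻¹ * ((o : G) * g) ∈ H := mul_mem (inv_mem (hθ ⟨o, ho, rfl⟩)) h1
  rwa [inv_mul_cancel_left] at h2

/-- Glauberman: a group with an isolated involution `u` is `O(X) C(u)`. -/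
theorem zstar_decomp {X : Type*} [Group X] [Finite X] {u : X} (hu : IsIsolatedInvolution u)
    (g : X) : ∃ o ∈ oddCore X, ∃ c, c * u = u * c ∧ g = o * c := by
  obtain ⟨c, hc, hcu⟩ := IsolatedInv.exists_conj hu g
  have hmem : u * (g * u * g⁻¹) ∈ oddCore X := by
    have h := ZStarTheorem.commutator_mem hu g
    have he : u * (g * u * g⁻¹) = u * g * u⁻¹ * g⁻¹ := by
      rw [IsolatedInv.inv_eq_self_of_sq (IsolatedInv.sq_of_orderOf_two hu.1)]
      group
    rwa [he]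
  refine ⟨c, (Subgroup.zpowers_le.2 hmem) hc, c⁻¹ * g, ?_, by group⟩
  have h2 : c⁻¹ * (g * u * g⁻¹) * c = u := by rw [← hcu]; group
  rw [← mul_inv_eq_iff_eq_mul]
  calc c⁻¹ * g * u * (c⁻¹ * g)⁻¹ = c⁻¹ * (g * u * g⁻¹) * c := by group
    _ = u := h2

/-- If two involution classes exist and the centralizers of all involutions of a Sylow subgroup lie in `H`,
then `H` is the whole group. -/
theorem eq_top_of_centralizers (T : Sylow 2 G) {H : Subgroup G} (hTH : (T : Subgroup G) ≤ H)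
    (hgen : (T : Subgroup G) ≤ Subgroup.closure {z : G | z ^ 2 = 1})
    (hN : Subgroup.normalizer ((T : Subgroup G) : Set G) ≤ H)
    (hC : ∀ x ∈ (T : Subgroup G), x ^ 2 = 1 → x ≠ 1 → Subgroup.centralizer ({x} : Set G) ≤ H)
    (h2 : ∃ x₁ x₂ : G, x₁ ^ 2 = 1 ∧ x₁ ≠ 1 ∧ x₂ ^ 2 = 1 ∧ x₂ ≠ 1 ∧ ¬ IsConj x₁ x₂) : H = ⊤ := by
  have hcH : ∀ x ∈ H, x ^ 2 = 1 → x ≠ 1 → Subgroup.centralizer ({x} : Set G) ≤ H := by
    intro x hx hx2 hx1
    obtain ⟨h, hh⟩ := exists_conj_mem (T.subtype hTH) (x := ⟨x, hx⟩) (Subtype.ext (by simpa using hx2))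
    have hy : (h : G) * x * (h : G)⁻¹ ∈ (T : Subgroup G) := hh
    have h1 := hC _ hy (sq_conj hx2 _) (fun e => hx1 (conj_eq_one_iff.1 e))
    intro c hc
    have h3 : (h : G) * c * (h : G)⁻¹ ∈ Subgroup.centralizer ({(h : G) * x * (h : G)⁻¹} : Set G) := by
      rw [Subgroup.mem_centralizer_singleton_iff] at hc ⊢
      calc (h : G) * c * (h : G)⁻¹ * ((h : G) * x * (h : G)⁻¹) = (h : G) * (c * x) * (h : G)⁻¹ := by
            group
        _ = (h : G) * (x * c) * (h : G)⁻¹ := by rw [hc]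
        _ = _ := by group
    have := mul_mem (mul_mem (inv_mem h.2) (h1 h3)) h.2
    convert this using 1
    group
  obtain ⟨x₁, x₂, h11, h12, h21, h22, hne⟩ := h2
  have hall : ∀ z : G, z ^ 2 = 1 → z ∈ H := by
    intro z hz
    by_cases hz1 : z = 1
    · exact hz1 ▸ one_mem H
    obtain ⟨w, hw2, hw1, hwz⟩ : ∃ w : G, w ^ 2 = 1 ∧ w ≠ 1 ∧ ¬ IsConj w z := by
      by_cases h : IsConj x₁ z
      · exact ⟨x₂, h21, h22, fun h' => hne (h.trans h'.symm)⟩
      · exact ⟨x₁, h11, h12, h⟩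
    obtain ⟨h, hh⟩ := exists_conj_mem T hw2
    set x := h * w * h⁻¹ with hx
    have hx2 : x * x = 1 := by rw [← pow_two]; exact sq_conj hw2 h
    have hx1 : x ≠ 1 := fun e => hw1 (conj_eq_one_iff.1 e)
    have hz2 : z * z = 1 := by rwa [← pow_two]
    rcases Nat.even_or_odd (orderOf (x * z)) with he | ho
    · obtain ⟨i, -, hi1, hi2, hix, hiz⟩ := IsolatedInv.exists_central_of_even hx2 hz2 he
      have hiH : i ∈ H := hC x hh (by rwa [pow_two]) hx1 (Subgroup.mem_centralizer_singleton_iff.2 hix.eq)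
      exact hcH i hiH (by rwa [pow_two]) hi1 (Subgroup.mem_centralizer_singleton_iff.2 hiz.eq.symm)
    · obtain ⟨c, -, hc⟩ := IsolatedInv.exists_conj_of_odd hx2 hz2 ho
      exact (hwz ((isConj_iff.2 ⟨h, rfl⟩).trans (isConj_iff.2 ⟨c, hc⟩))).elim
  set L := Subgroup.closure {z : G | z ^ 2 = 1} with hL
  have hLH : L ≤ H := (Subgroup.closure_le _).2 hall
  haveI : L.Normal := ⟨fun l hl g => by
    induction hl using Subgroup.closure_induction with
    | mem z hz => exact Subgroup.subset_closure (sq_conj hz g)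
    | one => simp
    | mul a b _ _ iha ihb =>
      rw [show g * (a * b) * g⁻¹ = g * a * g⁻¹ * (g * b * g⁻¹) by group]
      exact mul_mem iha ihb
    | inv a _ iha =>
      rw [show g * a⁻¹ * g⁻¹ = (g * a * g⁻¹)⁻¹ by group]
      exact inv_mem iha⟩
  rw [eq_top_iff]
  intro g _
  have hg : g ∈ (↑(Subgroup.normalizer ((T : Subgroup G) : Set G) ⊔ L) : Set G) := by
    have hF := Sylow.normalizer_sup_eq_top (T.subtype hgen)
    have hmap : ((T.subtype hgen : Subgroup L)).map L.subtype = (T : Subgroup G) := by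
      rw [Sylow.coe_subtype]
      exact Subgroup.map_subgroupOf_eq_of_le hgen
    rw [hmap] at hF
    rw [hF]
    trivial
  rw [Subgroup.coe_mul_of_left_le_normalizer_right _ _
    ((Subgroup.normalizer_eq_top L).symm ▸ le_top)] at hg
  obtain ⟨n, hn, l, hl, rfl⟩ := Set.mem_mul.1 hg
  exact mul_mem (hN hn) (hLH hl)

/-- The reduction: `G = W N(A)` with `W` normal of odd order. -/
theorem main_reduction {A : Subgroup G} (hA : IsElementaryAbelian 2 A) (hA8 : 8 ≤ Nat.card A)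
    (T : Sylow 2 G) (hTA : (T : Subgroup G) ≤ Subgroup.normalizer (A : Set G))
    (hgen : (T : Subgroup G) ≤ Subgroup.closure {z : G | z ^ 2 = 1})
    (hNT : Subgroup.normalizer ((T : Subgroup G) : Set G) ≤ Subgroup.normalizer (A : Set G))
    (hcl : ∀ R : Subgroup G, IsPGroup 2 R → A ≤ R → ∀ a ∈ A, ∀ g : G, g * a * g⁻¹ ∈ R →
      g * a * g⁻¹ ∈ A)
    (hsol : ∀ a ∈ A, a ≠ 1 → Group.IsSolvable ↥(Subgroup.centralizer ({a} : Set G)))
    (hout : ∀ x ∈ (T : Subgroup G), x ∉ A → x ^ 2 = 1 → ∃ a ∈ A, a ≠ 1 ∧ ∃ B : Subgroup G,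
      B ≤ A ∧ 4 ≤ Nat.card B ∧ B ≤ Subgroup.centralizer ({x} : Set G) ∧
        ∀ g ∈ Subgroup.centralizer ({x} : Set G), ∃ o ∈ centralizerPPrimeCore 2 x, ∃ c,
          c ∈ Subgroup.centralizer ({a} : Set G) ∧ g = o * c)
    (h2 : ∃ x₁ x₂ : G, x₁ ^ 2 = 1 ∧ x₁ ≠ 1 ∧ x₂ ^ 2 = 1 ∧ x₂ ≠ 1 ∧ ¬ IsConj x₁ x₂) :
    ∃ W : Subgroup G, W.Normal ∧ Odd (Nat.card W) ∧
      ∀ g : G, ∃ w ∈ W, ∃ n ∈ Subgroup.normalizer (A : Set G), g = w * n := by
  have hA4 : 2 ^ 2 ≤ Nat.card A := le_trans (by norm_num) hA8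
  obtain ⟨⟨hθC, hθp, hθinv, hbal⟩, hθsol⟩ := S1279.result 2 A hA hA4 hsol
  obtain ⟨hW2, -⟩ := S0217.result A (fun a ha b hb => SignalizerCoprime.comm_of_mem hA ha hb) hA.2
    (by simpa using hA8) (fun a => centralizerPPrimeCore 2 a) hθC hθp hθinv hθsol hbal
  set W := ⨆ a : {a : G // a ∈ A ∧ a ≠ 1}, centralizerPPrimeCore 2 (a : G) with hW
  set N := Subgroup.normalizer (A : Set G) with hN
  have hNW : N ≤ Subgroup.normalizer (W : Set G) := by
    refine SignalizerCoprime.le_normalizer_of_forall fun n hn z hz => ?_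
    have h1 : W ≤ W.comap (MulAut.conj n).toMonoidHom := by
      refine iSup_le fun a => ?_
      intro o ho
      have hna : n * a * n⁻¹ ∈ A := (Subgroup.mem_normalizer_iff.1 hn a).1 a.2.1
      refine Subgroup.mem_iSup_of_mem
        ⟨n * a * n⁻¹, hna, fun e => a.2.2 (conj_eq_one_iff.1 e)⟩ ?_
      rw [SFTApps.centralizerPPrimeCore_conj (p := 2) (a : G) n]
      exact ⟨o, ho, rfl⟩
    exact h1 hz
  set H := W ⊔ N with hH
  have hθH : ∀ a ∈ A, a ≠ 1 → centralizerPPrimeCore 2 a ≤ H := fun a ha ha1 =>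
    (le_iSup (fun a : {a : G // a ∈ A ∧ a ≠ 1} => centralizerPPrimeCore 2 (a : G)) ⟨a, ha, ha1⟩).trans
      le_sup_left
  have hcA : ∀ a ∈ A, a ≠ 1 → Subgroup.centralizer ({a} : Set G) ≤ H := fun a ha ha1 =>
    cent_le_of_solvable hA hcl ha (hsol a ha ha1) (hθH a ha ha1) le_sup_right
  have htop : H = ⊤ := by
    refine eq_top_of_centralizers T (hTA.trans le_sup_right) hgen (hNT.trans le_sup_right) ?_ h2
    intro x hxT hx2 hx1
    by_cases hxA : x ∈ A
    · exact hcA x hxA hx1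
    obtain ⟨a, ha, ha1, B, hBA, hB4, hBx, hdec⟩ := hout x hxT hxA hx2
    have hθx : centralizerPPrimeCore 2 x ≤ H := by
      refine SignalizerCoprime.le_of_centralizers_le (p := 2)
        (SignalizerCoprime.elementaryAbelian_of_le hA hBA) (by simpa using hB4)
        (hBx.trans (SignalizerBasic.centralizer_le_normalizer_centralizerPPrimeCore 2 x))
        (SignalizerBasic.not_dvd_card_centralizerPPrimeCore 2 x) fun b hb hb1 => ?_
      exact inf_le_right.trans (hcA b (hBA hb) hb1)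
    intro g hg
    obtain ⟨o, ho, c, hc, rfl⟩ := hdec g hg
    exact mul_mem (hθx ho) (hcA a ha ha1 hc)
  have hWn : W.Normal := by
    rw [← Subgroup.normalizer_eq_top_iff, eq_top_iff, ← htop]
    exact sup_le Subgroup.le_normalizer hNW
  refine ⟨W, hWn, Nat.not_even_iff_odd.1 fun he => hW2 he.two_dvd, fun g => ?_⟩
  have hg : g ∈ (↑(W ⊔ N) : Set G) := by rw [← hH, htop]; trivial
  rw [Subgroup.coe_mul_of_right_le_normalizer_left _ _ hNW] at hg
  obtain ⟨w, hw, n, hn, rfl⟩ := Set.mem_mul.1 hg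
  exact ⟨w, hw, n, hn, rfl⟩

/-- Burnside: a Sylow subgroup with `N(P) ≤ C(P)` forces solvability. -/
theorem solvable_of_burnside (P : Sylow 2 G)
    (hP : Subgroup.normalizer ((P : Subgroup G) : Set G) ≤ Subgroup.centralizer ((P : Subgroup G) : Set G)) :
    Group.IsSolvable G := by
  have hc := MonoidHom.ker_transferSylow_isComplement' P hP
  have hodd : Odd (Nat.card (MonoidHom.transferSylow P hP).ker) := by
    rw [← hc.index_eq_card]
    exact Nat.not_even_iff_odd.1 fun he => P.not_dvd_index he.two_dvd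
  refine solvable_of_mul (M := (MonoidHom.transferSylow P hP).ker) (C := (P : Subgroup G))
    (solvable_of_odd_card _ hodd) ?_ fun g => ?_
  · haveI := P.2.isNilpotent
    infer_instance
  · obtain ⟨⟨m, p⟩, hmp, -⟩ := hc.existsUnique g
    exact ⟨m, m.2, p, p.2, hmp.symm⟩

end Cfsg.Agent.AEightThreeGen62
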