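import Mathlib
import Cfsg.Agent.S0111
import Cfsg.Agent.Lib.AEightThreeGen62

/-!
# S3197: the coordinate context and the centralizer of a central involution

`A` is the deleted permutation module of `A₅` written on `Fin 16` with exclusive or (the four low bits are the
points `0, …, 3`, and `15` is the point `4`), and a Sylow 2-subgroup is `A` extended by a four-group.
-/

set_option autoImplicit false

namespace Cfsg.Agent.AEightThreeCore62

open Cfsg Cfsg.Agent.AEightThreeGen62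

attribute [local instance] fact2

/-- The action of the four-group on coordinates. -/
def act : Fin 4 → Fin 16 → Fin 16 :=
  ![id, ![0, 2, 1, 3, 8, 10, 9, 11, 4, 6, 5, 7, 12, 14, 13, 15],
    ![0, 8, 4, 12, 2, 10, 6, 14, 1, 9, 5, 13, 3, 11, 7, 15],
    ![0, 4, 8, 12, 1, 5, 9, 13, 2, 6, 10, 14, 3, 7, 11, 15]]

/-- Vectors of even weight on the first four points. -/
def Evn (i : Fin 16) : Prop := i ∈ [0, 3, 5, 6, 9, 10, 12, 15]

instance : DecidablePred Evn := fun _ => inferInstanceAs (Decidable (_ ∈ _))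

/-- The five vectors in the short orbit. -/
def Short (i : Fin 16) : Prop := i ∈ [1, 2, 4, 8, 15]

instance : DecidablePred Short := fun _ => inferInstanceAs (Decidable (_ ∈ _))

/-- The ten vectors in the long orbit. -/
def Long (i : Fin 16) : Prop := i ≠ 0 ∧ ¬ Short i

instance : DecidablePred Long := fun _ => inferInstanceAs (Decidable (_ ∧ _))

/-- The coordinates. -/
structure Ctx (G : Type*) [Group G] where
  A : Subgroup G
  F : Fin 16 → G
  U : Fin 4 → G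
  T : Sylow 2 G
  s : G
  F_mem : ∀ i, F i ∈ A
  F_surj : ∀ a ∈ A, ∃ i, F i = a
  F_inj : Function.Injective F
  F_mul : ∀ i j, F i * F j = F (i ^^^ j)
  U_mul : ∀ k l, U k * U l = U (k ^^^ l)
  U_act : ∀ k i, U k * F i * (U k)⁻¹ = F (act k i)
  U_mem : ∀ k, U k ∈ (T : Subgroup G)
  A_le : A ≤ (T : Subgroup G)
  T_cover : ∀ t ∈ (T : Subgroup G), ∃ i k, t = F i * U k
  U_notA : ∀ k, k ≠ 0 → U k ∉ A
  s_comm : s * F 15 = F 15 * s
  s_next : ∀ k ∈ [((1 : Fin 4), (2 : Fin 4)), (2, 3)], ∃ i, Evn i ∧ ∃ o : G, o * F 15 = F 15 * o ∧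
    Odd (orderOf o) ∧ s * U k.1 * s⁻¹ = U k.2 * F i * o
  strong : ∀ a ∈ A, ∀ g : G, g * a * g⁻¹ ∈ (T : Subgroup G) → g * a * g⁻¹ ∈ A
  short_conj : ∀ i, Short i → IsConj (F 15) (F i)
  short_long : ∀ i j, Short i → Long j → ¬ IsConj (F i) (F j)

namespace Ctx

variable {G : Type*} [Group G] (c : Ctx G)

theorem F_zero : c.F 0 = 1 := by
  have h := c.F_mul 0 0
  rwa [show (0 : Fin 16) ^^^ 0 = 0 from by decide, mul_eq_left] at h

theorem U_zero : c.U 0 = 1 := by
  have h := c.U_mul 0 0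
  rwa [show (0 : Fin 4) ^^^ 0 = 0 from by decide, mul_eq_left] at h

theorem F_sq (i : Fin 16) : c.F i * c.F i = 1 := by
  rw [c.F_mul, (by decide : ∀ i : Fin 16, i ^^^ i = 0) i, c.F_zero]

theorem U_sq (k : Fin 4) : c.U k * c.U k = 1 := by
  rw [c.U_mul, (by decide : ∀ i : Fin 4, i ^^^ i = 0) k, c.U_zero]

theorem U_inv (k : Fin 4) : (c.U k)⁻¹ = c.U k := inv_eq_of_mul_eq_one_right (c.U_sq k)

theorem F_inv (i : Fin 16) : (c.F i)⁻¹ = c.F i := inv_eq_of_mul_eq_one_right (c.F_sq i)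

theorem UF (k : Fin 4) (i : Fin 16) : c.U k * c.F i = c.F (act k i) * c.U k :=
  mul_inv_eq_iff_eq_mul.1 (c.U_act k i)

theorem mul_FU (i j : Fin 16) (k l : Fin 4) :
    (c.F i * c.U k) * (c.F j * c.U l) = c.F (i ^^^ act k j) * c.U (k ^^^ l) := by
  rw [← c.F_mul, ← c.U_mul, show c.F i * c.U k * (c.F j * c.U l) =
    c.F i * (c.U k * c.F j) * c.U l by group, c.UF]
  group

theorem unique {i j : Fin 16} {k l : Fin 4} (h : c.F i * c.U k = c.F j * c.U l) : i = j ∧ k = l := by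
  have h1 : c.U k * c.U l = c.F (i ^^^ j) := by
    rw [← c.F_mul, ← mul_left_cancel_iff (a := c.F i), ← mul_assoc, ← mul_assoc, h,
      mul_assoc, c.U_sq, mul_one, c.F_sq, one_mul]
  rw [c.U_mul] at h1
  have hkl : k ^^^ l = 0 := by
    by_contra hne
    exact c.U_notA _ hne (h1 ▸ c.F_mem _)
  have hkl' : k = l := (by decide : ∀ k l : Fin 4, k ^^^ l = 0 → k = l) k l hkl
  subst hkl'
  exact ⟨c.F_inj (mul_right_cancel h), rfl⟩

theorem mem_A_iff {i : Fin 16} {k : Fin 4} : c.F i * c.U k ∈ c.A ↔ k = 0 := by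
  refine ⟨fun h => ?_, fun h => by rw [h, c.U_zero, mul_one]; exact c.F_mem i⟩
  obtain ⟨j, hj⟩ := c.F_surj _ h
  exact (c.unique (show c.F i * c.U k = c.F j * c.U 0 by rw [c.U_zero, mul_one, hj])).2

theorem FU_mem (i : Fin 16) (k : Fin 4) : c.F i * c.U k ∈ (c.T : Subgroup G) :=
  mul_mem (c.A_le (c.F_mem i)) (c.U_mem k)

theorem comm_F (i j : Fin 16) : c.F i * c.F j = c.F j * c.F i := by
  rw [c.F_mul, c.F_mul, (by decide : ∀ i j : Fin 16, i ^^^ j = j ^^^ i) i j]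

theorem hA : IsElementaryAbelian 2 c.A := by
  refine ⟨⟨⟨fun a b => Subtype.ext ?_⟩⟩, fun a ha => ?_⟩
  · obtain ⟨i, hi⟩ := c.F_surj _ a.2
    obtain ⟨j, hj⟩ := c.F_surj _ b.2
    simp only [Subgroup.coe_mul, ← hi, ← hj, c.comm_F]
  · obtain ⟨i, rfl⟩ := c.F_surj _ ha
    rw [pow_two, c.F_sq]

theorem card_A : Nat.card c.A = 16 := by
  rw [← Nat.card_congr (Equiv.ofBijective (fun i => (⟨c.F i, c.F_mem i⟩ : c.A))
    ⟨fun i j h => c.F_inj (congrArg Subtype.val h), fun ⟨a, ha⟩ => by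
      obtain ⟨i, rfl⟩ := c.F_surj a ha
      exact ⟨i, rfl⟩⟩), Nat.card_fin]

theorem card_T : Nat.card (c.T : Subgroup G) = 64 := by
  rw [← Nat.card_congr (Equiv.ofBijective
    (fun p : Fin 16 × Fin 4 => (⟨c.F p.1 * c.U p.2, c.FU_mem p.1 p.2⟩ : (c.T : Subgroup G)))
    ⟨fun p q h => by
      obtain ⟨h1, h2⟩ := c.unique (congrArg Subtype.val h)
      exact Prod.ext h1 h2, fun ⟨t, ht⟩ => by
      obtain ⟨i, k, rfl⟩ := c.T_cover t ht
      exact ⟨(i, k), rfl⟩⟩), Nat.card_prod, Nat.card_fin, Nat.card_fin]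

theorem short_mul_long {i : Fin 16} (h : Short i) : Long i → False := fun hl => hl.2 h

/-- The subgroup `E V` of index 2 in `T`. -/
def Q : Subgroup G where
  carrier := {t | ∃ i, Evn i ∧ ∃ k, t = c.F i * c.U k}
  one_mem' := ⟨0, by decide, 0, by rw [c.F_zero, c.U_zero, one_mul]⟩
  mul_mem' := by
    rintro _ _ ⟨i, hi, k, rfl⟩ ⟨j, hj, l, rfl⟩
    exact ⟨_, (by decide : ∀ i j k, Evn i → Evn j → Evn (i ^^^ act k j)) i j k hi hj, _,
      c.mul_FU i j k l⟩
  inv_mem' := by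
    rintro _ ⟨i, hi, k, rfl⟩
    refine ⟨act k i, (by decide : ∀ i k, Evn i → Evn (act k i)) i k hi, k, ?_⟩
    rw [mul_inv_rev, c.U_inv, c.F_inv, c.UF]

theorem mem_Q {i : Fin 16} {k : Fin 4} : c.F i * c.U k ∈ c.Q ↔ Evn i := by
  refine ⟨?_, fun h => ⟨i, h, k, rfl⟩⟩
  rintro ⟨j, hj, l, h⟩
  rwa [(c.unique h).1]

theorem F_mem_Q {i : Fin 16} : c.F i ∈ c.Q ↔ Evn i := by
  conv_lhs => rw [← mul_one (c.F i), ← c.U_zero]
  exact c.mem_Q

theorem Q_le : c.Q ≤ (c.T : Subgroup G) := by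
  rintro _ ⟨i, -, k, rfl⟩
  exact c.FU_mem i k

theorem card_Q : Nat.card c.Q = 32 := by
  rw [← Nat.card_congr (Equiv.ofBijective
    (fun p : {i : Fin 16 // Evn i} × Fin 4 => (⟨c.F p.1 * c.U p.2, c.mem_Q.2 p.1.2⟩ : c.Q))
    ⟨fun p q h => by
      obtain ⟨h1, h2⟩ := c.unique (congrArg Subtype.val h)
      exact Prod.ext (Subtype.ext h1) h2, fun ⟨t, ht⟩ => by
      obtain ⟨i, hi, k, rfl⟩ := ht
      exact ⟨(⟨i, hi⟩, k), rfl⟩⟩), Nat.card_prod, Nat.card_fin, Nat.card_eq_fintype_card]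
  decide

variable [Finite G]

/-- Strong closure of `A` in every 2-subgroup containing it. -/
theorem hcl : ∀ R : Subgroup G, IsPGroup 2 R → c.A ≤ R → ∀ a ∈ c.A, ∀ g : G, g * a * g⁻¹ ∈ R →
    g * a * g⁻¹ ∈ c.A := by
  intro R hR hAR a ha g hg
  obtain ⟨h, hh⟩ := exists_conj_into c.T hR
  have h1 : (h * g) * a * (h * g)⁻¹ ∈ c.A := c.strong a ha _ (by
    rw [show (h * g) * a * (h * g)⁻¹ = h * (g * a * g⁻¹) * h⁻¹ by group]
    exact hh _ hg)
  have hle : c.A ≤ c.A.comap (MulAut.conj h).toMonoidHom := fun b hb =>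
    c.strong b hb h (hh b (hAR hb))
  have heq : c.A.map (MulAut.conj h).toMonoidHom = c.A :=
    Subgroup.eq_of_le_of_card_ge (Subgroup.map_le_iff_le_comap.2 hle)
      (Subgroup.card_map_of_injective (MulAut.conj h).injective).ge
  rw [← heq] at h1
  obtain ⟨b, hb, hbe⟩ := h1
  simp only [MulEquiv.coe_toMonoidHom, MulAut.conj_apply] at hbe
  have : g * a * g⁻¹ = b := by
    calc g * a * g⁻¹ = h⁻¹ * ((h * g) * a * (h * g)⁻¹) * h := by group
      _ = b := by rw [← hbe]; group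
  rwa [this]

/-- The centralizer of `F 15`. -/
abbrev X : Subgroup G := Subgroup.centralizer ({c.F 15} : Set G)

omit [Finite G] in
theorem T_le_X : (c.T : Subgroup G) ≤ c.X := by
  intro t ht
  obtain ⟨i, k, rfl⟩ := c.T_cover t ht
  rw [Subgroup.mem_centralizer_singleton_iff, mul_assoc, c.UF,
    (by decide : ∀ k, act k 15 = 15) k, ← mul_assoc, c.comm_F, mul_assoc]

theorem factorization_X : (Nat.card c.X).factorization 2 = 6 := by
  have h := (c.T.subtype c.T_le_X).card_eq_multiplicity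
  rw [Sylow.coe_subtype, Nat.card_congr (Subgroup.subgroupOfEquivOfLe c.T_le_X).toEquiv,
    c.card_T, show (64 : ℕ) = 2 ^ 6 by norm_num] at h
  exact (Nat.pow_right_injective le_rfl h).symm

/-- `C(F 15)` has a subgroup of index 2 containing `Q` but not `F 7`. -/
theorem exists_half : ∃ M : Subgroup c.X, M.Normal ∧ M.index = 2 ∧ c.Q.subgroupOf c.X ≤ M := by
  classical
  have hQX : c.Q ≤ c.X := c.Q_le.trans c.T_le_X
  have hcX : c.F 7 ∈ c.X := c.T_le_X (c.A_le (c.F_mem 7))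
  set u : c.X := ⟨c.F 7, hcX⟩ with hu
  have hu2 : orderOf u = 2 := by
    rw [hu, Subgroup.orderOf_mk]
    refine orderOf_two (by rw [pow_two, c.F_sq]) fun h => ?_
    exact absurd (c.F_inj (h.trans c.F_zero.symm)) (by decide)
  have hrel : (c.Q.subgroupOf c.X).relIndex (c.T.subtype c.T_le_X : Subgroup c.X) = 2 := by
    rw [Sylow.coe_subtype, Subgroup.relIndex_subgroupOf c.T_le_X]
    have h := Subgroup.relIndex_mul_relIndex ⊥ c.Q (c.T : Subgroup G) bot_le c.Q_le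
    rw [Subgroup.relIndex_bot_left, Subgroup.relIndex_bot_left, c.card_Q, c.card_T] at h
    omega
  rcases S0111.result (c.T.subtype c.T_le_X) (c.Q.subgroupOf c.X) (fun x hx => c.Q_le hx) hrel u hu2
    (c.A_le (c.F_mem 7)) (fun h => absurd (c.F_mem_Q.1 h) (by decide)) with ⟨M, hMn, hMi, huM⟩ | ⟨g, hg⟩
  · refine ⟨M, hMn, hMi, ?_⟩
    haveI := hMn
    have hmem : ∀ x y : c.X, (x * y ∈ M ↔ (x ∈ M ↔ y ∈ M)) := fun x y =>
      Subgroup.mul_mem_iff_of_index_two hMi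
    have hcomm : ∀ x y : c.X, x * y * x⁻¹ * y⁻¹ ∈ M := fun x y => by
      rw [hmem, hmem, hmem, inv_mem_iff, inv_mem_iff]
      tauto
    have hFX : ∀ i, c.F i ∈ c.X := fun i => c.T_le_X (c.A_le (c.F_mem i))
    have hUX : ∀ k, c.U k ∈ c.X := fun k => c.T_le_X (c.U_mem k)
    let fX : Fin 16 → c.X := fun i => ⟨c.F i, hFX i⟩
    let uX : Fin 4 → c.X := fun k => ⟨c.U k, hUX k⟩
    have hfm : ∀ i j, fX i * fX j = fX (i ^^^ j) := fun i j => Subtype.ext (c.F_mul i j)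
    have hcm : ∀ j k, fX (act k j ^^^ j) ∈ M := fun j k => by
      have h := hcomm (uX k) (fX j)
      have he : uX k * fX j * (uX k)⁻¹ * (fX j)⁻¹ = fX (act k j ^^^ j) := Subtype.ext (by
        simp only [uX, fX, Subgroup.coe_mul, InvMemClass.coe_inv]
        rw [c.U_act, c.F_inv, c.F_mul])
      rwa [he] at h
    have hE : ∀ i, Evn i → fX i ∈ M := fun i hi => by
      obtain ⟨j, k, j', k', rfl⟩ := (by decide : ∀ i, Evn i →
        ∃ j k j' k', i = (act k j ^^^ j) ^^^ (act k' j' ^^^ j')) i hi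
      rw [← hfm]
      exact mul_mem (hcm j k) (hcm j' k')
    set sX : c.X := ⟨c.s, Subgroup.mem_centralizer_singleton_iff.2 c.s_comm⟩ with hsX
    have hnext : ∀ k ∈ [((1 : Fin 4), (2 : Fin 4)), (2, 3)], (uX k.1 ∈ M ↔ uX k.2 ∈ M) := by
      intro k hk
      obtain ⟨i, hi, o, hoX, hodd, hs⟩ := c.s_next k hk
      set oX : c.X := ⟨o, Subgroup.mem_centralizer_singleton_iff.2 hoX⟩ with hoX'
      have hoM : oX ∈ M := by
        obtain ⟨m, hm⟩ := hodd
        have h1 : oX * oX ∈ M := (hmem _ _).2 Iff.rfl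
        have h2 : oX ^ (2 * m + 1) = 1 := Subtype.ext (by simp [hoX', ← hm, pow_orderOf_eq_one])
        rw [pow_succ, pow_mul, pow_two] at h2
        rw [eq_inv_of_mul_eq_one_right h2]
        exact inv_mem (pow_mem h1 m)
      have he : sX * uX k.1 * sX⁻¹ = uX k.2 * fX i * oX := Subtype.ext hs
      have h1 : (sX * uX k.1 * sX⁻¹ ∈ M) ↔ uX k.1 ∈ M := by
        rw [hmem, hmem, inv_mem_iff]
        tauto
      rw [← h1, he, hmem, hmem]
      have := hE i hi
      tauto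
    have h12 := hnext (1, 2) (by simp)
    have h23 := hnext (2, 3) (by simp)
    have hu3 : uX 1 * uX 2 = uX 3 := Subtype.ext ((c.U_mul 1 2).trans (congrArg c.U (by decide)))
    have h3 := hmem (uX 1) (uX 2)
    rw [hu3] at h3
    simp only at h12 h23
    have hU1 : uX 1 ∈ M := by tauto
    have hU : ∀ k, uX k ∈ M := by
      intro k
      fin_cases k
      · have : uX 0 = 1 := Subtype.ext c.U_zero
        exact this ▸ one_mem M
      · exact hU1
      · exact h12.1 hU1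
      · exact h23.1 (h12.1 hU1)
    rintro ⟨x, hxX⟩ hx
    obtain ⟨i, hi, k, hik⟩ := hx
    have he : (⟨x, hxX⟩ : c.X) = fX i * uX k := Subtype.ext hik
    rw [he]
    exact mul_mem (hE i hi) (hU k)
  · exfalso
    have hd : (g : G) * c.F 7 * (g : G)⁻¹ ∈ c.Q := hg
    have hdA := c.strong _ (c.F_mem 7) g (c.Q_le hd)
    obtain ⟨j, hj⟩ := c.F_surj _ hdA
    rw [← hj, c.F_mem_Q] at hd
    have hgc : (g : G) * c.F 15 = c.F 15 * g := Subgroup.mem_centralizer_singleton_iff.1 g.2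
    have h8 : IsConj (c.F 8) (c.F (j ^^^ 15)) := isConj_iff.2 ⟨g, by
      rw [← c.F_mul, hj, show (8 : Fin 16) = 7 ^^^ 15 by decide, ← c.F_mul]
      calc (g : G) * (c.F 7 * c.F 15) * (g : G)⁻¹
          = (g : G) * c.F 7 * (g : G)⁻¹ * ((g : G) * c.F 15 * (g : G)⁻¹) := by group
        _ = _ := by rw [hgc, mul_inv_cancel_right]⟩
    have h7 : IsConj (c.F 7) (c.F j) := isConj_iff.2 ⟨g, hj.symm⟩
    rcases (by decide : ∀ j, Evn j → j = 0 ∨ j = 15 ∨ Long (j ^^^ 15)) j hd with h | h | h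
    · exact absurd (c.F_inj ((isConj_one_left.1 (by rwa [h, c.F_zero] at h7)).trans c.F_zero.symm))
        (by decide)
    · exact c.short_long 15 7 (by decide) (by decide) (h ▸ h7).symm
    · exact c.short_long 8 _ (by decide) h h8

end Ctx

end Cfsg.Agent.AEightThreeCore62
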