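import Mathlib
import Cfsg.Agent.Lib.AEightThreeCore62

/-!
# S3197: the centralizer of a central involution is solvable
-/

set_option autoImplicit false

namespace Cfsg.Agent.AEightThreeCore62

open Cfsg Cfsg.Agent.AEightThreeGen62

attribute [local instance] fact2

namespace Ctx

variable {G : Type*} [Group G] (c : Ctx G)

/-- Equal up to the central involution `F 15`. -/
def Rel (x y : G) : Prop := y = x ∨ y = x * c.F 15

theorem evn_image {g : G} (hgQ : ∀ q ∈ c.Q, g * q * g⁻¹ ∈ c.Q) :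
    ∃ φ : Fin 16 → Fin 16, ∀ i, Evn i → Evn (φ i) ∧ g * c.F i * g⁻¹ = c.F (φ i) := by
  classical
  have key : ∀ i, Evn i → ∃ j, Evn j ∧ g * c.F i * g⁻¹ = c.F j := by
    intro i hi
    have h1 := hgQ _ (c.F_mem_Q.2 hi)
    obtain ⟨j, hj⟩ := c.F_surj _ (c.strong _ (c.F_mem i) g (c.Q_le h1))
    exact ⟨j, c.F_mem_Q.1 (hj ▸ h1), hj.symm⟩
  refine ⟨fun i => if h : Evn i then (key i h).choose else 0, fun i hi => ?_⟩
  simp only [dif_pos hi]
  exact (key i hi).choose_spec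

theorem fix_evn {g : G} (hga : g * c.F 15 = c.F 15 * g) (hgQ : ∀ q ∈ c.Q, g * q * g⁻¹ ∈ c.Q)
    {m : Fin 16} (hm : Evn m) (hm0 : m ≠ 0) (hm15 : m ≠ 15)
    (hfix : c.Rel (c.F m) (g * c.F m * g⁻¹)) :
    ∀ j, Evn j → c.Rel (c.F j) (g * g * c.F j * (g * g)⁻¹) := by
  obtain ⟨φ, hφ⟩ := c.evn_image hgQ
  have h15 : φ 15 = 15 := c.F_inj (by
    rw [← (hφ 15 (by decide)).2, hga, mul_inv_cancel_right])
  have h0 : φ 0 = 0 := c.F_inj (by rw [← (hφ 0 (by decide)).2, c.F_zero]; group)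
  have hlin : ∀ i j, Evn i → Evn j → φ (i ^^^ j) = φ i ^^^ φ j := fun i j hi hj => c.F_inj (by
    rw [← (hφ _ ((by decide : ∀ i j, Evn i → Evn j → Evn (i ^^^ j)) i j hi hj)).2, ← c.F_mul, ← c.F_mul,
      ← (hφ i hi).2, ← (hφ j hj).2]
    group)
  have hinj : ∀ i j, Evn i → Evn j → φ i = φ j → i = j := fun i j hi hj h => c.F_inj (by
    have h1 := (hφ i hi).2
    rw [h, ← (hφ j hj).2] at h1
    exact mul_left_cancel (mul_right_cancel h1))
  have hφm : φ m = m ∨ φ m = m ^^^ 15 := by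
    rcases hfix with h | h <;> rw [(hφ m hm).2] at h
    · exact Or.inl (c.F_inj h)
    · rw [c.F_mul] at h
      exact Or.inr (c.F_inj h)
  intro j hj
  have he : g * g * c.F j * (g * g)⁻¹ = c.F (φ (φ j)) := by
    rw [show g * g * c.F j * (g * g)⁻¹ = g * (g * c.F j * g⁻¹) * g⁻¹ by group, (hφ j hj).2,
      (hφ _ (hφ j hj).1).2]
  rw [he, Rel, c.F_mul]
  suffices φ (φ j) = j ∨ φ (φ j) = j ^^^ 15 by
    rcases this with h | h <;> rw [h]
    · exact Or.inl rfl
    · exact Or.inr rfl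
  have hm15e : Evn (m ^^^ 15) := (by decide : ∀ i, Evn i → Evn (i ^^^ 15)) m hm
  have hφm15 : φ (m ^^^ 15) = φ m ^^^ 15 := by rw [hlin _ _ hm (by decide), h15]
  by_cases hjm : j = 0 ∨ j = 15 ∨ j = m ∨ j = m ^^^ 15
  · rcases hjm with rfl | rfl | rfl | rfl
    · exact Or.inl (by rw [h0, h0])
    · exact Or.inl (by rw [h15, h15])
    · rcases hφm with h | h
      · exact Or.inl (by rw [h, h])
      · exact Or.inl (by rw [h, hφm15, h, (by decide : ∀ i : Fin 16, i ^^^ 15 ^^^ 15 = i)])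
    · rcases hφm with h | h
      · exact Or.inl (by rw [hφm15, h, hφm15, h])
      · rw [hφm15, h, (by decide : ∀ i : Fin 16, i ^^^ 15 ^^^ 15 = i), h]
        exact Or.inl rfl
  have hne : φ j ≠ 0 ∧ φ j ≠ 15 ∧ φ j ≠ m ∧ φ j ≠ m ^^^ 15 := by
    push Not at hjm
    refine ⟨fun h => hjm.1 (hinj j 0 hj (by decide) (h.trans h0.symm)),
      fun h => hjm.2.1 (hinj j 15 hj (by decide) (h.trans h15.symm)), fun h => ?_, fun h => ?_⟩
    · rcases hφm with h' | h'
      · exact hjm.2.2.1 (hinj j m hj hm (h.trans h'.symm))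
      · exact hjm.2.2.2 (hinj j _ hj hm15e (by
          rw [hφm15, h', (by decide : ∀ i : Fin 16, i ^^^ 15 ^^^ 15 = i), h]))
    · rcases hφm with h' | h'
      · exact hjm.2.2.2 (hinj j _ hj hm15e (by rw [hφm15, h', h]))
      · exact hjm.2.2.1 (hinj j m hj hm (h.trans h'.symm))
  push Not at hjm
  have hcases := (by decide : ∀ j k m : Fin 16, Evn j → Evn k → Evn m → m ≠ 0 → m ≠ 15 →
    j ≠ 0 → j ≠ 15 → j ≠ m → j ≠ m ^^^ 15 → k ≠ 0 → k ≠ 15 → k ≠ m → k ≠ m ^^^ 15 →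
    k = j ∨ k = j ^^^ 15 ∨ k = j ^^^ m ∨ k = j ^^^ m ^^^ 15) j (φ j) m hj (hφ j hj).1 hm hm0 hm15
    hjm.1 hjm.2.1 hjm.2.2.1 hjm.2.2.2 hne.1 hne.2.1 hne.2.2.1 hne.2.2.2
  have hex : ∀ i, Evn i → Evn (i ^^^ 15) := by decide
  have hxe : ∀ i k, Evn i → Evn k → Evn (i ^^^ k) := by decide
  rcases hcases with h | h | h | h
  · exact Or.inl (by rw [h, h])
  · refine Or.inl ?_
    rw [h, hlin _ _ hj (by decide), h15, h]
    exact (by decide : ∀ i : Fin 16, i ^^^ 15 ^^^ 15 = i) j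
  · rw [h, hlin _ _ hj hm, h]
    rcases hφm with h' | h' <;> rw [h']
    · exact Or.inl ((by decide : ∀ i k : Fin 16, i ^^^ k ^^^ k = i) j m)
    · exact Or.inr ((by decide : ∀ i k : Fin 16, i ^^^ k ^^^ (k ^^^ 15) = i ^^^ 15) j m)
  · rw [h, hlin _ _ (hxe _ _ hj hm) (by decide), hlin _ _ hj hm, h15, h]
    rcases hφm with h' | h' <;> rw [h']
    · exact Or.inl ((by decide : ∀ i k : Fin 16, i ^^^ k ^^^ 15 ^^^ k ^^^ 15 = i) j m)
    · exact Or.inr ((by decide : ∀ i k : Fin 16, i ^^^ k ^^^ 15 ^^^ (k ^^^ 15) ^^^ 15 = i ^^^ 15) j m)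

theorem exists_fixed_evn {g : G} (hga : g * c.F 15 = c.F 15 * g)
    (hgQ : ∀ q ∈ c.Q, g * q * g⁻¹ ∈ c.Q) {t : G} (ht : t ∈ c.Q) (ht1 : t ≠ 1) (ht15 : t ≠ c.F 15)
    (hfix : c.Rel t (g * t * g⁻¹)) :
    ∃ m, Evn m ∧ m ≠ 0 ∧ m ≠ 15 ∧ c.Rel (c.F m) (g * c.F m * g⁻¹) := by
  obtain ⟨i, hi, k, rfl⟩ := ht
  by_cases hk : k = 0
  · subst hk
    rw [c.U_zero, mul_one] at hfix ht1 ht15
    exact ⟨i, hi, fun h => ht1 (by rw [h, c.F_zero]), fun h => ht15 (by rw [h]), hfix⟩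
  obtain ⟨φ, hφ⟩ := c.evn_image hgQ
  obtain ⟨m, hm, hm0, hm15, hmk, huniq⟩ := (by decide : ∀ k : Fin 4, k ≠ 0 → ∃ m, Evn m ∧ m ≠ 0 ∧
    m ≠ 15 ∧ act k m = m ∧ ∀ j, Evn j → act k j = j → j = 0 ∨ j = 15 ∨ j = m ∨ j = m ^^^ 15) k hk
  have hcomm : ∀ j, act k j = j → Commute (c.F j) (c.F i * c.U k) := fun j hj => by
    change c.F j * (c.F i * c.U k) = c.F i * c.U k * c.F j
    rw [mul_assoc (c.F i), c.UF, hj, ← mul_assoc, ← mul_assoc, c.comm_F]
  have h1 : Commute (c.F (φ m)) (g * (c.F i * c.U k) * g⁻¹) := by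
    rw [← (hφ m hm).2]
    exact (hcomm m hmk).map (MulAut.conj g).toMonoidHom
  have h15 : ∀ j, Commute (c.F j) (c.F 15) := fun j => c.comm_F j 15
  have h2 : Commute (c.F (φ m)) (c.F i * c.U k) := by
    rcases hfix with h | h <;> rw [h] at h1
    · exact h1
    · have h3 := h1.mul_right (h15 (φ m))
      rwa [mul_assoc, mul_assoc, c.F_sq, mul_one] at h3
  have h3 : act k (φ m) = φ m := by
    have h4 : c.F (φ m) * (c.F i * c.U k) = c.F i * c.U k * c.F (φ m) := h2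
    rw [mul_assoc (c.F i), c.UF, ← mul_assoc, ← mul_assoc, c.comm_F (φ m) i, mul_left_inj,
      mul_right_inj] at h4
    exact (c.F_inj h4).symm
  refine ⟨m, hm, hm0, hm15, ?_⟩
  rw [(hφ m hm).2]
  have hne : φ m ≠ 0 ∧ φ m ≠ 15 := by
    constructor <;> intro h <;> have h5 := (hφ m hm).2 <;> rw [h] at h5
    · rw [c.F_zero, conj_eq_one_iff, ← c.F_zero] at h5
      exact hm0 (c.F_inj h5)
    · have h6 : g * c.F m * g⁻¹ = g * c.F 15 * g⁻¹ := by rw [h5, hga, mul_inv_cancel_right]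
      exact hm15 (c.F_inj (mul_left_cancel (mul_right_cancel h6)))
  rcases huniq _ (hφ m hm).1 h3 with h | h | h | h
  · exact absurd h hne.1
  · exact absurd h hne.2
  · exact Or.inl (by rw [h])
  · exact Or.inr (by rw [h, c.F_mul])

theorem fix_Q {h : G} (hha : h * c.F 15 = c.F 15 * h) (hhQ : ∀ q ∈ c.Q, h * q * h⁻¹ ∈ c.Q)
    (hev : ∀ j, Evn j → c.Rel (c.F j) (h * c.F j * h⁻¹)) {t : G} (ht : t ∈ c.Q) :
    c.Rel t (h * h * t * (h * h)⁻¹) := by
  obtain ⟨i, hi, k, rfl⟩ := ht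
  obtain ⟨i', hi', k', hik⟩ := hhQ _ (c.mem_Q.2 hi : c.F i * c.U k ∈ c.Q)
  have hcm : ∀ a l j, c.F a * c.U l * c.F j * (c.F a * c.U l)⁻¹ * c.F j = c.F (act l j ^^^ j) := by
    intro a l j
    rw [show c.F a * c.U l * c.F j * (c.F a * c.U l)⁻¹ =
      c.F a * (c.U l * c.F j * (c.U l)⁻¹) * (c.F a)⁻¹ by group, c.U_act, c.comm_F a, mul_inv_cancel_right,
      c.F_mul]
  have hk : k' = k := by
    refine (by decide : ∀ k l : Fin 4, (∀ j, Evn j → act l j ^^^ j = act k j ^^^ j) → l = k) k k'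
      fun j hj => c.F_inj ?_
    have hFC : c.F (act k j ^^^ j) = 1 ∨ c.F (act k j ^^^ j) = c.F 15 := by
      rcases (by decide : ∀ k j, Evn j → act k j ^^^ j = 0 ∨ act k j ^^^ j = 15) k j hj with e | e
      · exact Or.inl (by rw [e, c.F_zero])
      · exact Or.inr (by rw [e])
    have hfix : h * c.F (act k j ^^^ j) * h⁻¹ = c.F (act k j ^^^ j) := by
      rcases hFC with e | e <;> rw [e]
      · group
      · rw [hha, mul_inv_cancel_right]
    rw [← hcm i' k' j, ← hik, ← hfix, ← hcm i k j]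
    rcases hev j hj with e | e
    · calc h * (c.F i * c.U k) * h⁻¹ * c.F j * (h * (c.F i * c.U k) * h⁻¹)⁻¹ * c.F j
          = h * (c.F i * c.U k) * h⁻¹ * (h * c.F j * h⁻¹) * (h * (c.F i * c.U k) * h⁻¹)⁻¹ *
              (h * c.F j * h⁻¹) := by rw [e]
        _ = _ := by group
    · have e' : c.F j = h * c.F j * h⁻¹ * c.F 15 := by rw [e, mul_assoc, c.F_sq, mul_one]
      have hz : ∀ x, x ∈ c.Q → x * c.F 15 = c.F 15 * x := fun x hx =>
        Subgroup.mem_centralizer_singleton_iff.1 (c.T_le_X (c.Q_le hx))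
      have hz' : ∀ x : G, x * c.F 15 = c.F 15 * x → ∀ y : G,
          y * c.F 15 * x * c.F 15 = y * x := fun x hx y => by
        rw [mul_assoc y, ← hx, ← mul_assoc y, mul_assoc (y * x), c.F_sq, mul_one]
      have hq := hhQ _ (c.mem_Q.2 hi : c.F i * c.U k ∈ c.Q)
      have hconj : (h * c.F j * h⁻¹) * c.F 15 = c.F 15 * (h * c.F j * h⁻¹) := by
        rw [e, c.F_mul, c.comm_F]
      calc h * (c.F i * c.U k) * h⁻¹ * c.F j * (h * (c.F i * c.U k) * h⁻¹)⁻¹ * c.F j
          = h * (c.F i * c.U k) * h⁻¹ * (h * c.F j * h⁻¹) * c.F 15 *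
              ((h * (c.F i * c.U k) * h⁻¹)⁻¹ * (h * c.F j * h⁻¹)) * c.F 15 := by
            conv_lhs => rw [e']
            group
        _ = h * (c.F i * c.U k) * h⁻¹ * (h * c.F j * h⁻¹) *
              ((h * (c.F i * c.U k) * h⁻¹)⁻¹ * (h * c.F j * h⁻¹)) := by
            refine hz' _ ?_ _
            rw [mul_assoc, hconj, ← mul_assoc, hz _ (inv_mem hq), mul_assoc]
        _ = _ := by group
  subst hk
  set t := c.F i * c.U k' with ht
  have he : ∃ e, Evn e ∧ h * t * h⁻¹ = c.F e * t := by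
    refine ⟨i' ^^^ i, (by decide : ∀ a b, Evn a → Evn b → Evn (a ^^^ b)) i' i hi' hi, ?_⟩
    rw [hik, ht, ← mul_assoc, c.F_mul, (by decide : ∀ a b : Fin 16, a ^^^ b ^^^ b = a)]
  obtain ⟨e, he, het⟩ := he
  have h2 : h * h * t * (h * h)⁻¹ = h * c.F e * h⁻¹ * (c.F e * t) := by
    rw [← het]
    calc h * h * t * (h * h)⁻¹ = h * (h * t * h⁻¹) * h⁻¹ := by group
      _ = h * (c.F e * t) * h⁻¹ := by rw [het]
      _ = h * c.F e * h⁻¹ * (h * t * h⁻¹) := by group
  rw [h2]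
  have hzt : t * c.F 15 = c.F 15 * t :=
    Subgroup.mem_centralizer_singleton_iff.1 (c.T_le_X (c.FU_mem i k'))
  rcases hev e he with hh | hh <;> rw [hh]
  · exact Or.inl (by rw [← mul_assoc, c.F_sq, one_mul])
  · refine Or.inr ?_
    rw [c.comm_F e 15, mul_assoc, ← mul_assoc (c.F e), c.F_sq, one_mul, hzt]

variable [Finite G]

/-- The centralizer of `F 15` is solvable. -/
theorem solvable_X : Group.IsSolvable ↥c.X := by
  obtain ⟨M, hMn, hMi, hQM⟩ := c.exists_half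
  haveI := hMn
  set Xs := M.map c.X.subtype with hXs
  have hXsX : Xs ≤ c.X := Subgroup.map_subtype_le _
  have hQXs : c.Q ≤ Xs := fun q hq =>
    ⟨⟨q, c.T_le_X (c.Q_le hq)⟩, hQM (Subgroup.mem_subgroupOf.2 hq), rfl⟩
  have hF15 : c.F 15 ∈ Xs := hQXs (c.F_mem_Q.2 (by decide))
  set a : Xs := ⟨c.F 15, hF15⟩ with ha
  have hac : a ∈ Subgroup.center Xs := Subgroup.mem_center_iff.2 fun x =>
    Subtype.ext (Subgroup.mem_centralizer_singleton_iff.1 (hXsX x.2))
  haveI : (Subgroup.zpowers a).Normal := ⟨fun n hn g => by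
    rwa [Subgroup.mem_center_iff.1 ((Subgroup.zpowers_le.2 hac) hn) g, mul_inv_cancel_right]⟩
  have haa : a * a = 1 := Subtype.ext (c.F_sq 15)
  have hzp : ∀ w : Xs, w ∈ Subgroup.zpowers a → w = 1 ∨ w = a := by
    intro w hw
    obtain ⟨k, rfl⟩ := Subgroup.mem_zpowers_iff.1 hw
    rcases Int.even_or_odd k with ⟨m, rfl⟩ | ⟨m, rfl⟩
    · left
      rw [← two_mul, zpow_mul, zpow_two, haa, one_zpow]
    · right
      rw [zpow_add_one, zpow_mul, zpow_two, haa, one_zpow, one_mul]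
  set π := QuotientGroup.mk' (Subgroup.zpowers a) with hπ
  have hπeq : ∀ x y : Xs, π x = π y ↔ c.Rel (x : G) (y : G) := by
    intro x y
    rw [hπ, QuotientGroup.mk'_eq_mk']
    constructor
    · rintro ⟨w, hw, rfl⟩
      rcases hzp w hw with rfl | rfl
      · exact Or.inl (by simp)
      · exact Or.inr (by simp [ha])
    · rintro (h | h)
      · exact ⟨1, one_mem _, Subtype.ext (by simp [h])⟩
      · exact ⟨a, Subgroup.mem_zpowers a, Subtype.ext (by simp [h, ha])⟩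
  -- Sylow subgroups
  have hcardXs : Nat.card c.X = 2 * Nat.card Xs := by
    rw [hXs, Subgroup.card_map_of_injective c.X.subtype_injective, ← hMi, Subgroup.index_mul_card]
  have hfac : (Nat.card Xs).factorization 2 = 5 := by
    have h := c.factorization_X
    rw [hcardXs, Nat.factorization_mul two_ne_zero Nat.card_pos.ne', Finsupp.coe_add, Pi.add_apply,
      Nat.Prime.factorization_self Nat.prime_two] at h
    omega
  let Qs : Sylow 2 Xs := Sylow.ofCard (c.Q.subgroupOf Xs) (by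
    rw [Nat.card_congr (Subgroup.subgroupOfEquivOfLe hQXs).toEquiv, c.card_Q, hfac]; norm_num)
  let Sb := Qs.mapSurjective (f := π) (QuotientGroup.mk'_surjective _)
  have hSmem : ∀ q ∈ (Sb : Subgroup (Xs ⧸ Subgroup.zpowers a)), ∃ x : Xs, (x : G) ∈ c.Q ∧ π x = q := by
    intro q hq
    rw [Sylow.coe_mapSurjective] at hq
    obtain ⟨x, hx, rfl⟩ := hq
    exact ⟨x, hx, rfl⟩
  have hmemS : ∀ x : Xs, (x : G) ∈ c.Q → π x ∈ (Sb : Subgroup (Xs ⧸ Subgroup.zpowers a)) := by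
    intro x hx
    rw [Sylow.coe_mapSurjective]
    exact ⟨x, hx, rfl⟩
  have hpre : ∀ x : Xs, π x ∈ (Sb : Subgroup (Xs ⧸ Subgroup.zpowers a)) → (x : G) ∈ c.Q := by
    intro x hx
    obtain ⟨y, hy, hyx⟩ := hSmem _ hx
    rcases (hπeq y x).1 hyx with h | h <;> rw [h]
    · exact hy
    · exact mul_mem hy (c.F_mem_Q.2 (by decide))
  have hScomm : ∀ p ∈ (Sb : Subgroup (Xs ⧸ Subgroup.zpowers a)), ∀ q ∈ (Sb : Subgroup _),
      p * q = q * p := by
    intro p hp q hq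
    obtain ⟨x, ⟨i, hi, k, hx⟩, rfl⟩ := hSmem p hp
    obtain ⟨y, ⟨j, hj, l, hy⟩, rfl⟩ := hSmem q hq
    rw [← map_mul, ← map_mul, hπeq]
    simp only [Subgroup.coe_mul, hx, hy, c.mul_FU, Rel]
    rcases (by decide : ∀ i j k l, Evn i → Evn j → j ^^^ act l i = i ^^^ act k j ∨
      j ^^^ act l i = i ^^^ act k j ^^^ 15) i j k l hi hj with h | h
    · exact Or.inl (by rw [h, (by decide : ∀ k l : Fin 4, l ^^^ k = k ^^^ l)])
    · refine Or.inr ?_
      rw [mul_assoc, c.UF, (by decide : ∀ k, act k 15 = 15), ← mul_assoc, c.F_mul, h,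
        (by decide : ∀ k l : Fin 4, l ^^^ k = k ^^^ l) k l]
  have hSsq : ∀ p ∈ (Sb : Subgroup (Xs ⧸ Subgroup.zpowers a)), p ^ 2 = 1 := by
    intro p hp
    obtain ⟨x, ⟨i, hi, k, hx⟩, rfl⟩ := hSmem p hp
    rw [← map_pow, ← map_one π, hπeq, pow_two]
    simp only [Subgroup.coe_mul, hx, c.mul_FU, OneMemClass.coe_one, Rel,
      (by decide : ∀ k : Fin 4, k ^^^ k = 0) k, c.U_zero, mul_one]
    rcases (by decide : ∀ i k, Evn i → i ^^^ act k i = 0 ∨ i ^^^ act k i = 15) i k hi with h | h <;> rw [h]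
    · exact Or.inl c.F_zero.symm
    · exact Or.inr (c.F_sq 15).symm
  have hSel : IsElementaryAbelian 2 (Sb : Subgroup (Xs ⧸ Subgroup.zpowers a)) :=
    ⟨⟨⟨fun p q => Subtype.ext (hScomm p p.2 q q.2)⟩⟩, hSsq⟩
  -- centralizers of the elements of `Sb` have normal 2-complements
  have hfix : ∀ n ∈ Subgroup.normalizer ((Sb : Subgroup (Xs ⧸ Subgroup.zpowers a)) : Set (Xs ⧸ Subgroup.zpowers a)),
      ∀ e ∈ (Sb : Subgroup (Xs ⧸ Subgroup.zpowers a)), e ≠ 1 → n * e = e * n →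
        ∀ q ∈ (Sb : Subgroup (Xs ⧸ Subgroup.zpowers a)), n * q = q * n := by
    intro n hn e he he1 hne
    obtain ⟨g, rfl⟩ := QuotientGroup.mk'_surjective _ n
    obtain ⟨x, hx, rfl⟩ := hSmem e he
    have hgQ : ∀ q ∈ c.Q, (g : G) * q * (g : G)⁻¹ ∈ c.Q := by
      intro q hq
      have h1 := (Subgroup.mem_normalizer_iff.1 hn _).1 (hmemS ⟨q, hQXs hq⟩ hq)
      rw [← map_inv, ← map_mul, ← map_mul] at h1
      exact hpre _ h1
    have hga : (g : G) * c.F 15 = c.F 15 * g := Subgroup.mem_centralizer_singleton_iff.1 (hXsX g.2)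
    have hrel : c.Rel (x : G) ((g : G) * x * (g : G)⁻¹) := by
      have := (hπeq x (g * x * g⁻¹)).1 (by rw [map_mul, map_mul, map_inv, hne, mul_inv_cancel_right])
      simpa using this
    have hx1 : (x : G) ≠ 1 := fun h => he1 (by rw [show x = 1 from Subtype.ext h, map_one])
    have hx15 : (x : G) ≠ c.F 15 := fun h => he1 (by
      rw [show x = a from Subtype.ext h, hπ, QuotientGroup.mk'_apply, QuotientGroup.eq_one_iff]
      exact Subgroup.mem_zpowers a)
    obtain ⟨m, hm, hm0, hm15, hmr⟩ := c.exists_fixed_evn hga hgQ hx hx1 hx15 hrel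
    have hev := c.fix_evn hga hgQ hm hm0 hm15 hmr
    have hga2 : (g : G) * g * c.F 15 = c.F 15 * ((g : G) * g) := by
      rw [mul_assoc, hga, ← mul_assoc, hga, mul_assoc]
    have hgQ2 : ∀ q ∈ c.Q, (g : G) * g * q * ((g : G) * g)⁻¹ ∈ c.Q := by
      intro q hq
      rw [show (g : G) * g * q * ((g : G) * g)⁻¹ = g * (g * q * (g : G)⁻¹) * (g : G)⁻¹ by group]
      exact hgQ _ (hgQ q hq)
    intro q hq
    set N := Subgroup.centralizer ((Sb : Subgroup (Xs ⧸ Subgroup.zpowers a)) : Set (Xs ⧸ Subgroup.zpowers a)) with hN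
    have hn4 : π g ^ 4 ∈ N := by
      intro p hp
      obtain ⟨y, hy, rfl⟩ := hSmem p hp
      have h1 := c.fix_Q hga2 hgQ2 hev hy
      have hg4 : g ^ 4 = g * g * (g * g) := by rw [pow_succ, pow_succ, pow_succ, pow_one]; group
      have h2 : π y = π (g ^ 4 * y * (g ^ 4)⁻¹) := (hπeq _ _).2 (by
        rw [hg4]
        simpa only [Subgroup.coe_mul, InvMemClass.coe_inv] using h1)
      rw [map_mul, map_mul, map_inv, map_pow, eq_mul_inv_iff_mul_eq] at h2
      exact h2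
    obtain ⟨j, m', hm', hjm⟩ := Nat.exists_eq_two_pow_mul_odd (orderOf_pos (π g)).ne'
    have hnm : π g ^ m' ∈ (Sb : Subgroup (Xs ⧸ Subgroup.zpowers a)) := by
      have hz : IsPGroup 2 (Subgroup.zpowers (π g ^ m')) := by
        refine IsPGroup.of_card (n := j) ?_
        rw [Nat.card_zpowers, orderOf_pow' _ hm'.pos.ne', hjm, Nat.gcd_mul_left_left,
          Nat.mul_div_cancel _ hm'.pos]
      have hle : Subgroup.zpowers (π g ^ m') ≤
          Subgroup.normalizer ((Sb : Subgroup (Xs ⧸ Subgroup.zpowers a)) : Set (Xs ⧸ Subgroup.zpowers a)) :=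
        Subgroup.zpowers_le.2 (pow_mem hn m')
      have heq := Sb.3 (IsPGroup.to_sup_of_normal_left' Sb.2 hz hle) le_sup_left
      rw [← heq]
      exact Subgroup.mem_sup_right (Subgroup.mem_zpowers _)
    have hnmN : π g ^ m' ∈ N := fun p hp => hScomm p hp _ hnm
    obtain ⟨u, v, huv⟩ : ∃ u v : ℤ, (4 : ℤ) * u + (m' : ℤ) * v = 1 := by
      refine ⟨_, _, (Int.gcd_eq_gcd_ab 4 m').symm.trans ?_⟩
      have : Nat.Coprime 4 m' := (hm'.coprime_two_left.pow_left 2 : Nat.Coprime (2 ^ 2) m')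
      exact_mod_cast this
    have hgN : π g ∈ N := by
      have h4 : (π g ^ 4) ^ u * (π g ^ m') ^ v = π g := by
        rw [← zpow_natCast, ← zpow_natCast (π g) m', ← zpow_mul, ← zpow_mul, ← zpow_add]
        conv_rhs => rw [← zpow_one (π g)]
        congr 1
      rw [← h4]
      exact mul_mem (zpow_mem hn4 u) (zpow_mem hnmN v)
    exact (hgN q hq).symm
  have hsolY : ∀ e ∈ (Sb : Subgroup (Xs ⧸ Subgroup.zpowers a)), e ≠ 1 →
      Group.IsSolvable ↥(Subgroup.centralizer ({e} : Set (Xs ⧸ Subgroup.zpowers a))) := by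
    intro e he he1
    set C := Subgroup.centralizer ({e} : Set (Xs ⧸ Subgroup.zpowers a)) with hC
    have hSC : (Sb : Subgroup (Xs ⧸ Subgroup.zpowers a)) ≤ C := fun q hq =>
      Subgroup.mem_centralizer_singleton_iff.2 (hScomm q hq e he)
    refine solvable_of_burnside (Sb.subtype hSC) ?_
    intro n hn q hq
    refine Subtype.ext (hfix n ?_ e he he1 (Subgroup.mem_centralizer_singleton_iff.1 n.2) q hq).symm
    refine Subgroup.mem_normalizer_fintype fun w hw => ?_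
    exact (Subgroup.mem_normalizer_iff.1 hn ⟨w, hSC hw⟩).1 hw
  -- the signalizer argument
  have hcardS : 8 ≤ Nat.card (Sb : Subgroup (Xs ⧸ Subgroup.zpowers a)) := by
    rw [Sylow.coe_mapSurjective]
    have h := HallCore.card_map_mk'_mul (Subgroup.zpowers a) (Qs : Subgroup Xs) (Subgroup.zpowers_le.2
      (Subgroup.mem_subgroupOf.2 (c.F_mem_Q.2 (by decide))))
    rw [Sylow.coe_ofCard, Nat.card_congr (Subgroup.subgroupOfEquivOfLe hQXs).toEquiv, c.card_Q,
      Nat.card_zpowers] at h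
    have ho : orderOf a ≤ 2 := orderOf_le_of_pow_eq_one two_pos (by rw [pow_two, haa])
    have h2 : 8 * 2 ≤ Nat.card (Subgroup.map π (c.Q.subgroupOf Xs)) * 2 :=
      le_trans (by norm_num) ((h.symm.le).trans (Nat.mul_le_mul_left _ ho))
    exact Nat.le_of_mul_le_mul_right h2 two_pos
  have hF3 : c.F 3 ∈ c.Q := c.F_mem_Q.2 (by decide)
  have hU1 : c.U 1 ∈ c.Q := by
    have : c.F 0 * c.U 1 ∈ c.Q := c.mem_Q.2 (by decide)
    rwa [c.F_zero, one_mul] at this
  have htwo : ∃ x₁ x₂ : Xs ⧸ Subgroup.zpowers a, x₁ ^ 2 = 1 ∧ x₁ ≠ 1 ∧ x₂ ^ 2 = 1 ∧ x₂ ≠ 1 ∧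
      ¬ IsConj x₁ x₂ := by
    refine ⟨π ⟨c.F 3, hQXs hF3⟩, π ⟨c.U 1, hQXs hU1⟩, hSsq _ (hmemS _ hF3), ?_,
      hSsq _ (hmemS _ hU1), ?_, ?_⟩
    · rw [← map_one π, Ne, hπeq]
      rintro (h | h) <;> simp only [OneMemClass.coe_one] at h
      · exact absurd (c.F_inj (h.symm.trans c.F_zero.symm)) (by decide)
      · rw [c.F_mul, ← c.F_zero] at h
        exact absurd (c.F_inj h) (by decide)
    · rw [← map_one π, Ne, hπeq]
      rintro (h | h) <;> simp only [OneMemClass.coe_one] at h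
      · exact c.U_notA 1 (by decide) (h ▸ one_mem _)
      · exact c.U_notA 1 (by decide) (by
          rw [show c.U 1 = c.F 15 by rw [← c.F_inv, ← mul_eq_one_iff_eq_inv, ← h]]
          exact c.F_mem 15)
    · intro h
      obtain ⟨n, hn⟩ := isConj_iff.1 h
      obtain ⟨g, rfl⟩ := QuotientGroup.mk'_surjective _ n
      rw [← map_inv, ← map_mul, ← map_mul, hπeq] at hn
      simp only [Subgroup.coe_mul, InvMemClass.coe_inv] at hn
      set d := (g : G) * c.F 3 * (g : G)⁻¹ with hd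
      rcases hn with h' | h'
      · have h1 := c.strong _ (c.F_mem 3) g (h' ▸ c.U_mem 1 : d ∈ (c.T : Subgroup G))
        exact c.U_notA 1 (by decide) (h' ▸ h1)
      · have hde : d = c.U 1 * c.F 15 := by rw [h', mul_assoc, c.F_sq, mul_one]
        have h1 := c.strong _ (c.F_mem 3) g
          (hde ▸ mul_mem (c.U_mem 1) (c.A_le (c.F_mem 15)) : d ∈ (c.T : Subgroup G))
        exact c.U_notA 1 (by decide) (h' ▸ mul_mem h1 (c.F_mem 15))
  obtain ⟨W, hWn, hWodd, hW⟩ := main_reduction hSel hcardS Sb Subgroup.le_normalizer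
    (fun q hq => Subgroup.subset_closure (hSsq q hq)) le_rfl
    (fun R hR hle q _ k hk => (Sb.3 hR hle) ▸ hk)
    hsolY (fun x hx hxn => absurd hx hxn) htwo
  haveI := hWn
  set N := Subgroup.normalizer ((Sb : Subgroup (Xs ⧸ Subgroup.zpowers a)) : Set (Xs ⧸ Subgroup.zpowers a)) with hNdef
  have hNsol : Group.IsSolvable ↥N := by
    set S' := (Sb : Subgroup (Xs ⧸ Subgroup.zpowers a)).subgroupOf N with hS'
    haveI : S'.Normal := Subgroup.normal_in_normalizer
    haveI : Group.IsSolvable ↥S' := by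
      haveI : Group.IsNilpotent ↥S' := (Sb.subtype Subgroup.le_normalizer).2.isNilpotent
      infer_instance
    haveI : Group.IsSolvable (↥N ⧸ S') := by
      refine S0205.result ?_
      rw [← Subgroup.index_eq_card]
      exact Nat.not_even_iff_odd.1 fun he => (Sb.subtype Subgroup.le_normalizer).not_dvd_index he.two_dvd
    exact solvable_of_ker_le_range S'.subtype (QuotientGroup.mk' S') (by simp)
  have hYsol : Group.IsSolvable (Xs ⧸ Subgroup.zpowers a) :=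
    solvable_of_mul (solvable_of_odd_card W hWodd) hNsol hW
  haveI := hYsol
  haveI : Group.IsSolvable ↥Xs := by
    haveI : Group.IsSolvable ↥(Subgroup.zpowers a) :=
      Group.isSolvable_of_comm fun p q => IsMulCommutative.is_comm.comm p q
    exact solvable_of_ker_le_range (Subgroup.zpowers a).subtype π (by simp [hπ])
  haveI : Group.IsSolvable ↥M :=
    solvable_of_solvable_injective (M.equivMapOfInjective _ c.X.subtype_injective).injective
      (f := (M.equivMapOfInjective _ c.X.subtype_injective).toMonoidHom)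
  haveI : Group.IsSolvable (↥c.X ⧸ M) := by
    haveI : IsCyclic (↥c.X ⧸ M) := isCyclic_of_prime_card (p := 2) (by
      rw [← Subgroup.index_eq_card, hMi])
    exact Group.isSolvable_of_comm fun p q => IsMulCommutative.is_comm.comm p q
  exact solvable_of_ker_le_range M.subtype (QuotientGroup.mk' M) (by simp)

end Ctx

end Cfsg.Agent.AEightThreeCore62
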