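import Mathlib
import Cfsg.Agent.Lib.AEightThreeCentA62

/-!
# S3197: the other involution centralizers and the conclusion
-/

set_option autoImplicit false

namespace Cfsg.Agent.AEightThreeCore62

open Cfsg Cfsg.Agent.AEightThreeGen62

attribute [local instance] fact2

/-- A subgroup with solvable image and solvable kernel is solvable. -/
theorem solvable_of_map {K L : Type*} [Group K] [Group L] (f : K →* L) (S : Subgroup K)
    (hker : Group.IsSolvable ↥f.ker) (himg : Group.IsSolvable ↥(S.map f)) : Group.IsSolvable ↥S := by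
  haveI := hker
  haveI := himg
  haveI : Group.IsSolvable ↥(f.ker.subgroupOf S) :=
    solvable_of_solvable_injective (f := (S.subtype.comp (f.ker.subgroupOf S).subtype).codRestrict f.ker
      fun x => x.2) (by
      intro x y h
      apply Subtype.ext
      apply Subtype.ext
      exact congrArg (fun v : f.ker => (v : K)) h)
  refine solvable_of_ker_le_range (f.ker.subgroupOf S).subtype (f.subgroupMap S) ?_
  intro x hx
  exact ⟨⟨x, congrArg Subtype.val (MonoidHom.mem_ker.1 hx)⟩, rfl⟩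

namespace Ctx

variable {G : Type*} [Group G] (c : Ctx G)

theorem ne_zero_of_conj {i j : Fin 16} (hi : i ≠ 0) (h : IsConj (c.F i) (c.F j)) : j ≠ 0 := fun e =>
  hi (c.F_inj ((isConj_one_left.1 (by rwa [e, c.F_zero] at h)).trans c.F_zero.symm))

theorem short_of_conj {i j : Fin 16} (hi : Short i) (h : IsConj (c.F i) (c.F j)) : Short j := by
  by_contra hj
  exact c.short_long i j hi ⟨c.ne_zero_of_conj ((by decide : ∀ i, Short i → i ≠ 0) i hi) h, hj⟩ h

theorem long_of_conj {i j : Fin 16} (hi : Long i) (h : IsConj (c.F i) (c.F j)) : Long j :=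
  ⟨c.ne_zero_of_conj hi.1 h, fun hj => c.short_long j i hj hi h.symm⟩

variable [Finite G]

theorem solvable_short {i : Fin 16} (hi : Short i) :
    Group.IsSolvable ↥(Subgroup.centralizer ({c.F i} : Set G)) := by
  obtain ⟨g, hg⟩ := isConj_iff.1 (c.short_conj i hi)
  haveI := c.solvable_X
  have hle : Subgroup.centralizer ({c.F i} : Set G) ≤ c.X.map (MulAut.conj g).toMonoidHom := by
    intro x hx
    refine ⟨g⁻¹ * x * g, Subgroup.mem_centralizer_singleton_iff.2 ?_, by simp; group⟩
    have h1 := Subgroup.mem_centralizer_singleton_iff.1 hx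
    rw [← hg] at h1
    calc g⁻¹ * x * g * c.F 15 = g⁻¹ * (x * (g * c.F 15 * g⁻¹)) * g := by group
      _ = g⁻¹ * (g * c.F 15 * g⁻¹ * x) * g := by rw [h1]
      _ = _ := by group
  exact solvable_of_le hle (solvable_of_surjective
    ((MulAut.conj g).toMonoidHom.subgroupMap_surjective c.X))

theorem solvable_long {l : Fin 16} (hl : Long l) :
    Group.IsSolvable ↥(Subgroup.centralizer ({c.F l} : Set G)) := by
  obtain ⟨p, hp, hpl⟩ := (by decide : ∀ l, Long l → ∃ p, Short p ∧ Short (p ^^^ l)) l hl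
  set X := Subgroup.centralizer ({c.F l} : Set G) with hX
  have hcX : c.F l ∈ X := Subgroup.mem_centralizer_singleton_iff.2 rfl
  have hbX : c.F p ∈ X := Subgroup.mem_centralizer_singleton_iff.2 (c.comm_F p l)
  set z : X := ⟨c.F l, hcX⟩ with hz
  set b : X := ⟨c.F p, hbX⟩ with hb
  have hzc : z ∈ Subgroup.center X := Subgroup.mem_center_iff.2 fun x =>
    Subtype.ext (Subgroup.mem_centralizer_singleton_iff.1 x.2)
  haveI : (Subgroup.zpowers z).Normal := ⟨fun n hn g => by
    rwa [Subgroup.mem_center_iff.1 ((Subgroup.zpowers_le.2 hzc) hn) g, mul_inv_cancel_right]⟩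
  have hzz : z * z = 1 := Subtype.ext (c.F_sq l)
  have hzp : ∀ w : X, w ∈ Subgroup.zpowers z → w = 1 ∨ w = z := by
    intro w hw
    obtain ⟨k, rfl⟩ := Subgroup.mem_zpowers_iff.1 hw
    rcases Int.even_or_odd k with ⟨m, rfl⟩ | ⟨m, rfl⟩
    · left
      rw [← two_mul, zpow_mul, zpow_two, hzz, one_zpow]
    · right
      rw [zpow_add_one, zpow_mul, zpow_two, hzz, one_zpow, one_mul]
  set π := QuotientGroup.mk' (Subgroup.zpowers z) with hπ
  have hb2 : b ^ 2 = 1 := by rw [pow_two]; exact Subtype.ext (c.F_sq p)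
  obtain ⟨P, hP⟩ := (SignalizerCoprime.isPGroup_zpowers (p := 2) hb2).exists_le_sylow
  have hzP : z ∈ (P : Subgroup X) := by
    have h1 : IsPGroup 2 (Subgroup.zpowers z) :=
      SignalizerCoprime.isPGroup_zpowers (p := 2) (by rw [pow_two, hzz])
    have h2 := P.3 (IsPGroup.to_sup_of_normal_right P.2 h1) le_sup_left
    rw [← h2]
    exact Subgroup.mem_sup_right (Subgroup.mem_zpowers z)
  have hbP : b ∈ (P : Subgroup X) := hP (Subgroup.mem_zpowers b)
  have hiso : IsIsolatedInvolution (π b) := by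
    refine ZStarBasic.isolated_of_sylow (P.mapSurjective (QuotientGroup.mk'_surjective _)) (π b) ?_ ?_ ?_
    · refine orderOf_two (by rw [← map_pow, hb2, map_one]) fun h => ?_
      rw [hπ, QuotientGroup.mk'_apply, QuotientGroup.eq_one_iff] at h
      rcases hzp b h with h | h
      · exact (by decide : ∀ i, Short i → i ≠ 0) p hp
          (c.F_inj ((congrArg Subtype.val h).trans c.F_zero.symm))
      · exact hl.2 (c.F_inj (congrArg Subtype.val h) ▸ hp)
    · change π b ∈ Subgroup.map π (P : Subgroup X)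
      exact ⟨b, hbP, rfl⟩
    · intro q hq
      obtain ⟨g, rfl⟩ := QuotientGroup.mk'_surjective _ q
      rw [← map_inv, ← map_mul, ← map_mul] at hq ⊢
      set e := g * b * g⁻¹ with he
      have heP : e ∈ (P : Subgroup X) := by
        obtain ⟨y, hy, hye⟩ := (hq : π e ∈ Subgroup.map π (P : Subgroup X))
        rw [QuotientGroup.mk'_eq_mk'] at hye
        obtain ⟨w, hw, hwe⟩ := hye
        rw [← hwe]
        exact mul_mem hy (by rcases hzp w hw with rfl | rfl <;> [exact one_mem _; exact hzP])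
      obtain ⟨h, hh⟩ := exists_conj_into c.T (R := (P : Subgroup X).map X.subtype) (P.2.map _)
      have hb0 := hh _ ⟨b, hbP, rfl⟩
      have he0 := hh _ ⟨e, heP, rfl⟩
      have hz0 := hh _ ⟨z, hzP, rfl⟩
      simp only [Subgroup.coe_subtype] at hb0 he0 hz0
      obtain ⟨qb, hqb⟩ := c.F_surj _ (c.strong _ (c.F_mem p) h hb0)
      obtain ⟨qz, hqz⟩ := c.F_surj _ (c.strong _ (c.F_mem l) h hz0)
      have he0' : (h * g) * c.F p * (h * g)⁻¹ ∈ (c.T : Subgroup G) := by
        rw [show (h * g) * c.F p * (h * g : G)⁻¹ = h * (g * c.F p * (g : G)⁻¹) * h⁻¹ by group]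
        exact he0
      obtain ⟨qe, hqe⟩ := c.F_surj _ (c.strong _ (c.F_mem p) _ he0')
      have hgl : (g : G) * c.F l * (g : G)⁻¹ = c.F l := by
        rw [Subgroup.mem_centralizer_singleton_iff.1 g.2, mul_inv_cancel_right]
      have s1 := c.short_of_conj hp (isConj_iff.2 ⟨h, hqb.symm⟩)
      have s2 := c.short_of_conj hp (isConj_iff.2 ⟨h * g, hqe.symm⟩)
      have s3 := c.short_of_conj hpl (isConj_iff.2 ⟨h, (show h * c.F (p ^^^ l) * h⁻¹ = c.F (qb ^^^ qz) by
        rw [← c.F_mul, ← c.F_mul, hqb, hqz]; group)⟩)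
      have s4 := c.short_of_conj hpl (isConj_iff.2 ⟨h * g,
        (show (h * g) * c.F (p ^^^ l) * (h * g)⁻¹ = c.F (qe ^^^ qz) by
          rw [← c.F_mul, ← c.F_mul, hqe, hqz]
          conv_rhs => rw [← hgl]
          group)⟩)
      have s5 := c.long_of_conj hl (isConj_iff.2 ⟨h, hqz.symm⟩)
      have hcases := (by decide : ∀ a e z, Short a → Short e → Short (a ^^^ z) → Short (e ^^^ z) →
        Long z → e = a ∨ e = a ^^^ z) qb qe qz s1 s2 s3 s4 s5
      have hee : (e : G) = h⁻¹ * c.F qe * h := by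
        rw [hqe]; simp only [he, hb, Subgroup.coe_mul, InvMemClass.coe_inv]; group
      rw [QuotientGroup.mk'_eq_mk']
      rcases hcases with heq | heq
      · refine ⟨1, one_mem _, Subtype.ext ?_⟩
        rw [mul_one, hee, heq, hqb]
        simp only [hb]
        group
      · refine ⟨z, Subgroup.mem_zpowers z, Subtype.ext ?_⟩
        rw [Subgroup.coe_mul, hee, heq, ← c.F_mul, hqb, hqz]
        simp only [hb, hz]
        calc h⁻¹ * (h * c.F p * h⁻¹ * (h * c.F l * h⁻¹)) * h * c.F l
            = c.F p * (c.F l * c.F l) := by group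
          _ = c.F p := by rw [c.F_sq, mul_one]
  -- `X = M C`
  set M := (oddCore (X ⧸ Subgroup.zpowers z)).comap π with hM
  set C := (Subgroup.centralizer ({π b} : Set (X ⧸ Subgroup.zpowers z))).comap π with hC
  haveI : (oddCore (X ⧸ Subgroup.zpowers z)).Normal := HallCore.pPrimeCore_normal 2 _
  haveI : M.Normal := Subgroup.Normal.comap inferInstance _
  have hkerπ : Group.IsSolvable ↥π.ker := by
    rw [hπ, QuotientGroup.ker_mk']
    exact Group.isSolvable_of_comm fun p q => IsMulCommutative.is_comm.comm p q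
  have hMsol : Group.IsSolvable ↥M := solvable_of_map π M hkerπ (solvable_of_le
    (Subgroup.map_comap_le _ _) (solvable_of_odd_card _ (Nat.not_even_iff_odd.1 fun he =>
      HallCore.not_dvd_card_pPrimeCore 2 _ he.two_dvd)))
  set D := (Subgroup.centralizer ({b} : Set X)).subgroupOf C with hD
  have hkb : ∀ k ∈ C, k * b * k⁻¹ = b ∨ k * b * k⁻¹ = b * z := by
    intro k hk
    have h1 : π b = π (k * b * k⁻¹) := by
      rw [map_mul, map_mul, map_inv, Subgroup.mem_centralizer_singleton_iff.1 (Subgroup.mem_comap.1 hk),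
        mul_inv_cancel_right]
    rw [QuotientGroup.mk'_eq_mk'] at h1
    obtain ⟨w, hw, hwe⟩ := h1
    rcases hzp w hw with rfl | rfl
    · exact Or.inl (by rw [← hwe, mul_one])
    · exact Or.inr hwe.symm
  haveI : D.Normal := ⟨fun d hd k => by
    rw [hD, Subgroup.mem_subgroupOf, Subgroup.mem_centralizer_singleton_iff] at hd ⊢
    have hd' : (d : X) * b = b * d := hd
    have hz' : ∀ x : X, x * z = z * x := fun x => (Subgroup.mem_center_iff.1 hzc x)
    simp only [Subgroup.coe_mul, InvMemClass.coe_inv]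
    rcases hkb _ (inv_mem k.2) with h | h <;> rw [inv_inv, mul_assoc] at h
    · have h' : (k : X)⁻¹ * b = b * (k : X)⁻¹ := by rw [← mul_inv_eq_iff_eq_mul, inv_inv, mul_assoc, h]
      calc (k : X) * d * (k : X)⁻¹ * b = k * d * ((k : X)⁻¹ * b) := by group
        _ = k * (d * b) * (k : X)⁻¹ := by rw [h']; group
        _ = k * (b * d) * (k : X)⁻¹ := by rw [hd']
        _ = (k * b * (k : X)⁻¹) * (k * d * (k : X)⁻¹) := by group
        _ = b * (k * d * (k : X)⁻¹) := by
          rw [show (k : X) * b * (k : X)⁻¹ = b by rw [mul_assoc, ← h', mul_inv_cancel_left]]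
    · have h' : (k : X)⁻¹ * b = b * z * (k : X)⁻¹ := by
        rw [← mul_inv_eq_iff_eq_mul, inv_inv, mul_assoc, h]
      have h'' : (k : X) * b * (k : X)⁻¹ = b * z := by
        have e1 : (k : X) * (b * z) * (k : X)⁻¹ = b := by rw [mul_assoc, ← h', mul_inv_cancel_left]
        calc (k : X) * b * (k : X)⁻¹ = k * (b * z * z) * (k : X)⁻¹ := by rw [mul_assoc b, hzz, mul_one]
          _ = k * (b * z) * (z * (k : X)⁻¹) := by group
          _ = k * (b * z) * ((k : X)⁻¹ * z) := by rw [← hz' _]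
          _ = _ := by rw [← mul_assoc, e1]
      calc (k : X) * d * (k : X)⁻¹ * b = k * d * ((k : X)⁻¹ * b) := by group
        _ = k * (d * b) * (z * (k : X)⁻¹) := by rw [h']; group
        _ = k * (b * d) * ((k : X)⁻¹ * z) := by rw [hd', ← hz' _]
        _ = (k * b * (k : X)⁻¹) * (k * d * (k : X)⁻¹) * z := by group
        _ = b * z * (z * (k * d * (k : X)⁻¹)) := by rw [h'', mul_assoc (b * z), ← hz' _]
        _ = b * (z * z) * (k * d * (k : X)⁻¹) := by group
        _ = b * (k * d * (k : X)⁻¹) := by rw [hzz, mul_one]⟩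
  have hDsol : Group.IsSolvable ↥D := by
    haveI := c.solvable_short hp
    refine solvable_of_solvable_injective
      (f := (X.subtype.comp (C.subtype.comp D.subtype)).codRestrict
        (Subgroup.centralizer ({c.F p} : Set G)) fun x => Subgroup.mem_centralizer_singleton_iff.2 ?_)
      (by
        intro x y h
        apply Subtype.ext
        apply Subtype.ext
        apply Subtype.ext
        exact congrArg (fun v : Subgroup.centralizer ({c.F p} : Set G) => (v : G)) h)
    exact congrArg Subtype.val (Subgroup.mem_centralizer_singleton_iff.1 x.2)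
  haveI := hDsol
  have hsq : ∀ q : C ⧸ D, q * q = 1 := by
    intro q
    obtain ⟨k, rfl⟩ := QuotientGroup.mk'_surjective D q
    rw [← map_mul, QuotientGroup.mk'_apply, QuotientGroup.eq_one_iff, hD, Subgroup.mem_subgroupOf,
      Subgroup.mem_centralizer_singleton_iff, ← mul_inv_eq_iff_eq_mul]
    simp only [Subgroup.coe_mul]
    rw [show (k : X) * k * b * ((k : X) * k)⁻¹ = k * (k * b * (k : X)⁻¹) * (k : X)⁻¹ by group]
    rcases hkb _ k.2 with h | h
    · rw [h, h]
    · rw [h, ← mul_assoc, mul_assoc ((k : X) * b), ← Subgroup.mem_center_iff.1 hzc (k : X)⁻¹,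
        ← mul_assoc, h, mul_assoc, hzz, mul_one]
  have hCsol : Group.IsSolvable ↥C := by
    haveI : Group.IsSolvable (C ⧸ D) := Group.isSolvable_of_comm fun p q => by
      calc p * q = (p * q)⁻¹ := (inv_eq_of_mul_eq_one_right (hsq _)).symm
        _ = q⁻¹ * p⁻¹ := mul_inv_rev p q
        _ = q * p := by rw [inv_eq_of_mul_eq_one_right (hsq q), inv_eq_of_mul_eq_one_right (hsq p)]
    exact solvable_of_ker_le_range D.subtype (QuotientGroup.mk' D) (by simp)
  refine solvable_of_mul hMsol hCsol fun g => ?_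
  obtain ⟨o, ho, k, hk, hgk⟩ := zstar_decomp hiso (π g)
  obtain ⟨o', rfl⟩ := QuotientGroup.mk'_surjective _ o
  refine ⟨o', ho, o'⁻¹ * g, ?_, by group⟩
  rw [hC, Subgroup.mem_comap, Subgroup.mem_centralizer_singleton_iff, map_mul, map_inv, hgk,
    inv_mul_cancel_left]
  exact hk

theorem solvable_cent {a : G} (ha : a ∈ c.A) (ha1 : a ≠ 1) :
    Group.IsSolvable ↥(Subgroup.centralizer ({a} : Set G)) := by
  obtain ⟨i, rfl⟩ := c.F_surj a ha
  have hi : i ≠ 0 := fun h => ha1 (by rw [h, c.F_zero])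
  by_cases h : Short i
  · exact c.solvable_short h
  · exact c.solvable_long ⟨hi, h⟩

/-- The conclusion. -/
theorem conclusion : (c.A ⊔ oddCore G).Normal := by
  have hTN : (c.T : Subgroup G) ≤ Subgroup.normalizer (c.A : Set G) := by
    intro t ht
    obtain ⟨i, k, rfl⟩ := c.T_cover t ht
    refine Subgroup.mem_normalizer_fintype fun a ha => ?_
    obtain ⟨j, rfl⟩ := c.F_surj a ha
    rw [show c.F i * c.U k * c.F j * (c.F i * c.U k)⁻¹ =
      c.F i * (c.U k * c.F j * (c.U k)⁻¹) * (c.F i)⁻¹ by group, c.U_act, c.comm_F, mul_inv_cancel_right]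
    exact c.F_mem _
  have hgen : (c.T : Subgroup G) ≤ Subgroup.closure {z : G | z ^ 2 = 1} := by
    intro t ht
    obtain ⟨i, k, rfl⟩ := c.T_cover t ht
    exact mul_mem (Subgroup.subset_closure (by rw [Set.mem_setOf_eq, pow_two, c.F_sq]))
      (Subgroup.subset_closure (by rw [Set.mem_setOf_eq, pow_two, c.U_sq]))
  have hNT : Subgroup.normalizer ((c.T : Subgroup G) : Set G) ≤ Subgroup.normalizer (c.A : Set G) :=
    fun n hn => Subgroup.mem_normalizer_fintype fun a ha =>
      c.strong a ha n ((Subgroup.mem_normalizer_iff.1 hn a).1 (c.A_le ha))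
  have hout : ∀ x ∈ (c.T : Subgroup G), x ∉ c.A → x ^ 2 = 1 → ∃ a ∈ c.A, a ≠ 1 ∧ ∃ B : Subgroup G,
      B ≤ c.A ∧ 4 ≤ Nat.card B ∧ B ≤ Subgroup.centralizer ({x} : Set G) ∧
        ∀ g ∈ Subgroup.centralizer ({x} : Set G), ∃ o ∈ centralizerPPrimeCore 2 x, ∃ d,
          d ∈ Subgroup.centralizer ({a} : Set G) ∧ g = o * d := by
    intro x hxT hxA hx2
    obtain ⟨i, k, rfl⟩ := c.T_cover x hxT
    have hk : k ≠ 0 := fun h => hxA (c.mem_A_iff.2 h)
    obtain ⟨j, hj, hjk⟩ := (by decide : ∀ k : Fin 4, ∃ j, Short j ∧ act k j = j) k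
    have hcomm : ∀ i k m, c.F m * (c.F i * c.U k) = c.F i * c.U k * c.F m ↔ act k m = m := by
      intro i k m
      rw [mul_assoc (c.F i), c.UF, ← mul_assoc, ← mul_assoc, c.comm_F m i, mul_left_inj, mul_right_inj]
      exact ⟨fun h => (c.F_inj h).symm, fun h => by rw [h]⟩
    refine ⟨c.F j, c.F_mem j, fun h => (by decide : ∀ j, Short j → j ≠ 0) j hj
      (c.F_inj (h.trans c.F_zero.symm)), ?_⟩
    let B : Subgroup G :=
      { carrier := {b | ∃ m, act k m = m ∧ b = c.F m}
        one_mem' := ⟨0, (by decide : ∀ k, act k 0 = 0) k, c.F_zero.symm⟩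
        mul_mem' := by
          rintro _ _ ⟨m, hm, rfl⟩ ⟨n, hn, rfl⟩
          exact ⟨m ^^^ n, (by decide : ∀ k m n, act k m = m → act k n = n → act k (m ^^^ n) = m ^^^ n)
            k m n hm hn, c.F_mul m n⟩
        inv_mem' := by
          rintro _ ⟨m, hm, rfl⟩
          exact ⟨m, hm, c.F_inv m⟩ }
    refine ⟨B, by rintro _ ⟨m, -, rfl⟩; exact c.F_mem m, ?_, ?_, ?_⟩
    · obtain ⟨f, hf, hfix⟩ := (by decide : ∀ k : Fin 4, ∃ v ∈ [![(0 : Fin 16), 3, 12, 15],
        ![0, 6, 9, 15], ![0, 5, 10, 15]], (∀ a b : Fin 4, v a = v b → a = b) ∧ ∀ a, act k (v a) = v a) k |>.imp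
        fun v hv => (hv.2 : _ ∧ _)
      calc 4 = Nat.card (Fin 4) := (Nat.card_fin 4).symm
        _ ≤ Nat.card B := Nat.card_le_card_of_injective (fun a => (⟨c.F (f a), f a, hfix a, rfl⟩ : B))
            fun a b h => hf a b (c.F_inj (congrArg Subtype.val h))
    · rintro _ ⟨m, hm, rfl⟩
      exact Subgroup.mem_centralizer_singleton_iff.2 ((hcomm i k m).2 hm)
    set x := c.F i * c.U k with hx
    set C := Subgroup.centralizer ({x} : Set G) with hC
    have hxC : x ∈ C := Subgroup.mem_centralizer_singleton_iff.2 rfl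
    have haC : c.F j ∈ C := Subgroup.mem_centralizer_singleton_iff.2 ((hcomm i k j).2 hjk)
    set a : C := ⟨c.F j, haC⟩ with ha
    set xx : C := ⟨x, hxC⟩ with hxx
    have ha2 : a ^ 2 = 1 := by rw [pow_two]; exact Subtype.ext (c.F_sq j)
    obtain ⟨P, hP⟩ := (SignalizerCoprime.isPGroup_zpowers (p := 2) ha2).exists_le_sylow
    have hxP : xx ∈ (P : Subgroup C) := by
      haveI : (Subgroup.zpowers xx).Normal := ⟨fun n hn g => by
        have hcen : xx ∈ Subgroup.center C := Subgroup.mem_center_iff.2 fun y =>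
          Subtype.ext (Subgroup.mem_centralizer_singleton_iff.1 y.2)
        rwa [Subgroup.mem_center_iff.1 ((Subgroup.zpowers_le.2 hcen) hn) g, mul_inv_cancel_right]⟩
      have h1 : IsPGroup 2 (Subgroup.zpowers xx) :=
        SignalizerCoprime.isPGroup_zpowers (p := 2) (Subtype.ext (by simpa [hxx] using hx2))
      have h2 := P.3 (IsPGroup.to_sup_of_normal_right P.2 h1) le_sup_left
      rw [← h2]
      exact Subgroup.mem_sup_right (Subgroup.mem_zpowers xx)
    have haP : a ∈ (P : Subgroup C) := hP (Subgroup.mem_zpowers a)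
    have hiso : IsIsolatedInvolution a := by
      refine ZStarBasic.isolated_of_sylow P a (orderOf_two ha2 fun h => ?_) haP fun g hg => ?_
      · exact (by decide : ∀ j, Short j → j ≠ 0) j hj
          (c.F_inj ((congrArg Subtype.val h).trans c.F_zero.symm))
      obtain ⟨h, hh⟩ := exists_conj_into c.T (R := (P : Subgroup C).map C.subtype) (P.2.map _)
      have ha0 := hh _ ⟨a, haP, rfl⟩
      have hx0 := hh _ ⟨xx, hxP, rfl⟩
      have he0 : (h * g) * c.F j * (h * g)⁻¹ ∈ (c.T : Subgroup G) := by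
        rw [show (h * g) * c.F j * (h * g : G)⁻¹ = h * (g * c.F j * (g : G)⁻¹) * h⁻¹ by group]
        exact hh _ ⟨g * a * g⁻¹, hg, rfl⟩
      obtain ⟨qa, hqa⟩ := c.F_surj _ (c.strong _ (c.F_mem j) h ha0)
      obtain ⟨qe, hqe⟩ := c.F_surj _ (c.strong _ (c.F_mem j) _ he0)
      obtain ⟨i', k', hik⟩ := c.T_cover _ hx0
      simp only [Subgroup.coe_subtype, hxx] at hik
      have hk' : k' ≠ 0 := by
        intro h0
        have hA' : h * x * h⁻¹ ∈ c.A := hik ▸ c.mem_A_iff.2 h0
        have h1 := c.strong _ hA' h⁻¹ (by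
          rw [show h⁻¹ * (h * x * h⁻¹) * h⁻¹⁻¹ = x by group]; exact hxT)
        rw [show h⁻¹ * (h * x * h⁻¹) * h⁻¹⁻¹ = x by group] at h1
        exact hxA h1
      have hgx : (g : G) * x * (g : G)⁻¹ = x := by
        rw [Subgroup.mem_centralizer_singleton_iff.1 g.2, mul_inv_cancel_right]
      have hjx : Commute (c.F j) x := Subgroup.mem_centralizer_singleton_iff.1 haC
      have c1 : act k' qa = qa := (hcomm i' k' qa).1 (by
        rw [← hik, hqa]
        exact (hjx.map (MulAut.conj h).toMonoidHom).eq)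
      have c2 : act k' qe = qe := (hcomm i' k' qe).1 (by
        rw [← hik, hqe, show h * x * h⁻¹ = (h * g) * x * (h * g : G)⁻¹ by
          conv_lhs => rw [← hgx]
          group]
        exact (hjx.map (MulAut.conj (h * g : G)).toMonoidHom).eq)
      have hq : qa = qe := (by decide : ∀ k a b, k ≠ 0 → Short a → Short b → act k a = a → act k b = b →
        a = b) k' qa qe hk' (c.short_of_conj hj (isConj_iff.2 ⟨h, hqa.symm⟩))
          (c.short_of_conj hj (isConj_iff.2 ⟨h * g, hqe.symm⟩)) c1 c2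
      apply Subtype.ext
      rw [hq, hqe] at hqa
      simp only [ha, Subgroup.coe_mul, InvMemClass.coe_inv]
      calc (g : G) * c.F j * (g : G)⁻¹ = h⁻¹ * (h * g * c.F j * (h * g : G)⁻¹) * h := by group
        _ = h⁻¹ * (h * c.F j * h⁻¹) * h := by rw [hqa]
        _ = c.F j := by group
    intro g hg
    obtain ⟨o, ho, d, hd, hgd⟩ := zstar_decomp hiso ⟨g, hg⟩
    exact ⟨o, ⟨o, ho, rfl⟩, d, Subgroup.mem_centralizer_singleton_iff.2 (congrArg Subtype.val hd),
      congrArg Subtype.val hgd⟩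
  have h2 : ∃ x₁ x₂ : G, x₁ ^ 2 = 1 ∧ x₁ ≠ 1 ∧ x₂ ^ 2 = 1 ∧ x₂ ≠ 1 ∧ ¬ IsConj x₁ x₂ :=
    ⟨c.F 15, c.F 7, by rw [pow_two, c.F_sq],
      fun h => absurd (c.F_inj (h.trans c.F_zero.symm)) (by decide), by rw [pow_two, c.F_sq],
      fun h => absurd (c.F_inj (h.trans c.F_zero.symm)) (by decide),
      c.short_long 15 7 (by decide) (by decide)⟩
  obtain ⟨W, hWn, hWodd, hW⟩ := main_reduction c.hA (by rw [c.card_A]; norm_num) c.T hTN hgen hNT c.hcl
    (fun a ha ha1 => c.solvable_cent ha ha1) hout h2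
  haveI := hWn
  haveI : (oddCore G).Normal := HallCore.pPrimeCore_normal 2 G
  have hWO : W ≤ oddCore G := HallCore.le_pPrimeCore hWodd.coprime_two_right
  refine ⟨fun m hm g => ?_⟩
  obtain ⟨w, hw, n, hn, rfl⟩ := hW g
  rw [← SetLike.mem_coe, Subgroup.coe_mul_of_left_le_normalizer_right _ _
    ((Subgroup.normalizer_eq_top (oddCore G)).symm ▸ le_top)] at hm
  obtain ⟨a, ha, o, ho, rfl⟩ := Set.mem_mul.1 hm
  have h1 : n * a * n⁻¹ ∈ c.A ⊔ oddCore G :=
    Subgroup.mem_sup_left ((Subgroup.mem_normalizer_iff.1 hn a).1 ha)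
  have h2 : n * o * n⁻¹ ∈ c.A ⊔ oddCore G :=
    Subgroup.mem_sup_right ((inferInstance : (oddCore G).Normal).conj_mem o ho n)
  have hw' : w ∈ c.A ⊔ oddCore G := Subgroup.mem_sup_right (hWO hw)
  have h3 := mul_mem (mul_mem hw' (mul_mem h1 h2)) (inv_mem hw')
  rwa [show w * (n * a * n⁻¹ * (n * o * n⁻¹)) * w⁻¹ = w * n * (a * o) * (w * n)⁻¹ by group] at h3

end Ctx

end Cfsg.Agent.AEightThreeCore62
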