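import Mathlib
import Cfsg.Agent.Lib.AEightThreeLocal62

/-!
# S3197: the coordinates from the hypotheses
-/

set_option autoImplicit false
set_option maxHeartbeats 2000000

namespace Cfsg.Agent.AEightThreeSetup62

open Cfsg Cfsg.Agent.AEightThreeGen62 Cfsg.Agent.AEightThreeCore62

attribute [local instance] fact2

abbrev A5 := ↥(alternatingGroup (Fin 5))

/-- The four-group fixing the point `4`. -/
def vA : Fin 4 → A5 :=
  ![1, ⟨Equiv.swap 0 1 * Equiv.swap 2 3, Equiv.Perm.mem_alternatingGroup.2 (by decide)⟩, ⟨Equiv.swap 0 3 * Equiv.swap 1 2, Equiv.Perm.mem_alternatingGroup.2 (by decide)⟩,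
    ⟨Equiv.swap 0 2 * Equiv.swap 1 3, Equiv.Perm.mem_alternatingGroup.2 (by decide)⟩]

/-- A 3-cycle fixing `4`. -/
def sA : A5 := ⟨Equiv.swap 0 1 * Equiv.swap 1 2, Equiv.Perm.mem_alternatingGroup.2 (by decide)⟩

/-- Representatives sending `4` to each point. -/
def gA : Fin 5 → A5 :=
  ![⟨Equiv.swap 0 4 * Equiv.swap 1 2, Equiv.Perm.mem_alternatingGroup.2 (by decide)⟩, ⟨Equiv.swap 1 4 * Equiv.swap 0 2, Equiv.Perm.mem_alternatingGroup.2 (by decide)⟩,
    ⟨Equiv.swap 2 4 * Equiv.swap 0 1, Equiv.Perm.mem_alternatingGroup.2 (by decide)⟩, ⟨Equiv.swap 3 4 * Equiv.swap 0 1, Equiv.Perm.mem_alternatingGroup.2 (by decide)⟩, 1]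

theorem vA_mul : ∀ k l, vA k * vA l = vA (k ^^^ l) := by decide +kernel

theorem vA_ne : ∀ k : Fin 4, k ≠ 0 → vA k ≠ 1 := by decide +kernel

theorem vA_inj : ∀ k l, vA k = vA l → k = l := by decide +kernel

theorem sA_next : sA * vA 1 * sA⁻¹ = vA 2 ∧ sA * vA 2 * sA⁻¹ = vA 3 ∧ sA ^ 3 = 1 := by decide +kernel

theorem sA_conj : ∀ k, ∃ l, sA⁻¹ * vA k * sA = vA l := by decide +kernel

theorem gA_four : ∀ i : Fin 5, ((gA i : A5) : Equiv.Perm (Fin 5)) 4 = i := by decide +kernel

theorem five_of_moved : ∀ g : A5, (g : Equiv.Perm (Fin 5)) 4 ≠ 4 →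
    ∃ k l, (vA k * (g * vA l * g⁻¹)) ^ 5 = 1 ∧ vA k * (g * vA l * g⁻¹) ≠ 1 := by decide +kernel

theorem fix_four : ∀ g : A5, (g : Equiv.Perm (Fin 5)) 4 = 4 →
    ∃ k, g = vA k ∨ g = vA k * sA ∨ g = vA k * (sA * sA) := by decide +kernel

theorem involution_conj : ∀ g : A5, g * g = 1 → g ≠ 1 → ∃ h : A5, h * g * h⁻¹ = vA 1 := by
  decide +kernel

theorem five_of_one : ∃ g : A5, (vA 1 * (g * vA 1 * g⁻¹)) ^ 5 = 1 ∧ vA 1 * (g * vA 1 * g⁻¹) ≠ 1 := by
  decide +kernel

/-- The coordinate vector of a point. -/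
def bit : Fin 5 → Fin 16 := ![1, 2, 4, 8, 15]

/-- Selection by a bit. -/
def sel (b : Bool) (x : Fin 16) : Fin 16 := if b then x else 0

/-- The image of a coordinate vector. -/
def img (g : A5) (i : Fin 16) : Fin 16 :=
  sel (i.1.testBit 0) (bit ((g : Equiv.Perm (Fin 5)) 0)) ^^^
    sel (i.1.testBit 1) (bit ((g : Equiv.Perm (Fin 5)) 1)) ^^^
    sel (i.1.testBit 2) (bit ((g : Equiv.Perm (Fin 5)) 2)) ^^^
    sel (i.1.testBit 3) (bit ((g : Equiv.Perm (Fin 5)) 3))

theorem img_vA : ∀ k i, img (vA k) i = act k i := by decide +kernel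

theorem img_sA : img sA 15 = 15 := by decide +kernel

theorem img_trans : ∀ i : Fin 16, i ≠ 0 → ∃ g : A5,
    (Short i → img g 15 = i) ∧ (Long i → img g 7 = i) := by decide +kernel

theorem img_inv : ∀ i : Fin 16, i ≠ 0 → ∃ g : A5, img g i = 15 ∨ img g i = 7 := by decide +kernel

theorem card_A8 : Nat.card ↥(alternatingGroup (Fin 8)) = 2 ^ 6 * 315 := by
  rw [nat_card_alternatingGroup, Nat.card_fin]
  rfl

theorem factorization_A8 : (Nat.card ↥(alternatingGroup (Fin 8))).factorization 2 = 6 := by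
  rw [card_A8, Nat.factorization_mul (by norm_num) (by norm_num), Finsupp.coe_add, Pi.add_apply,
    Nat.Prime.factorization_pow Nat.prime_two, Finsupp.single_eq_same,
    Nat.factorization_eq_zero_of_not_dvd (by norm_num)]

/-- The product of two permutations of four points, on eight points. -/
def pairPerm : Equiv.Perm (Fin 4) × Equiv.Perm (Fin 4) →* Equiv.Perm (Fin 8) :=
  (Equiv.permCongrHom finSumFinEquiv).toMonoidHom.comp (Equiv.Perm.sumCongrHom (Fin 4) (Fin 4))

def p4 : Equiv.Perm (Fin 4) := Equiv.swap 0 1 * Equiv.swap 1 2 * Equiv.swap 2 3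

def t4 : Equiv.Perm (Fin 4) := Equiv.swap 0 2

def w1 : ↥(alternatingGroup (Fin 8)) :=
  ⟨pairPerm (p4, t4), Equiv.Perm.mem_alternatingGroup.2 (by decide +kernel)⟩

def w2 : ↥(alternatingGroup (Fin 8)) :=
  ⟨pairPerm (t4, t4), Equiv.Perm.mem_alternatingGroup.2 (by decide +kernel)⟩

def w3 : ↥(alternatingGroup (Fin 8)) :=
  ⟨pairPerm (t4, p4), Equiv.Perm.mem_alternatingGroup.2 (by decide +kernel)⟩

theorem w_comm : w1 * w2 * w1⁻¹ * w2⁻¹ ≠ 1 ∧ w3 * w2 * w3⁻¹ * w2⁻¹ ≠ 1 ∧
    w1 * w2 * w1⁻¹ * w2⁻¹ ≠ w3 * w2 * w3⁻¹ * w2⁻¹ := by decide +kernel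

/-- Two different nontrivial commutators in a Sylow 2-subgroup of `A₈`. -/
theorem two_commutators (P : Sylow 2 ↥(alternatingGroup (Fin 8))) :
    ∃ u v u' v' : ↥(P : Subgroup ↥(alternatingGroup (Fin 8))),
      u * v * u⁻¹ * v⁻¹ ≠ 1 ∧ u' * v' * u'⁻¹ * v'⁻¹ ≠ 1 ∧ u * v * u⁻¹ * v⁻¹ ≠ u' * v' * u'⁻¹ * v'⁻¹ := by
  classical
  let c4 : Equiv.Perm (Fin 4) := Equiv.swap 0 2 * Equiv.swap 1 3
  let D : Subgroup (Equiv.Perm (Fin 4)) := Subgroup.centralizer {c4}
  have hD : IsPGroup 2 D := by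
    refine IsPGroup.of_card (n := 3) ?_
    rw [Nat.card_congr (Equiv.subtypeEquivRight (fun x : Equiv.Perm (Fin 4) =>
      (Subgroup.mem_centralizer_singleton_iff : x ∈ D ↔ x * c4 = c4 * x))),
      Nat.card_eq_fintype_card]
    decide +kernel
  let f := pairPerm
  have hD2 : IsPGroup 2 ↥(D.prod D) := by
    obtain ⟨n, hn⟩ := IsPGroup.iff_card.1 hD
    refine IsPGroup.of_card (n := n + n) ?_
    rw [Nat.card_congr (Subgroup.prodEquiv D D).toEquiv, Nat.card_prod, hn, pow_add]
  set K := ((D.prod D).map f).subgroupOf (alternatingGroup (Fin 8)) with hK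
  have hK2 : IsPGroup 2 K := (hD2.map f).comap_subtype
  obtain ⟨Q, hQ⟩ := hK2.exists_le_sylow
  obtain ⟨h, rfl⟩ := MulAction.exists_smul_eq ↥(alternatingGroup (Fin 8)) P Q
  have hmem : ∀ x : ↥(alternatingGroup (Fin 8)), x ∈ K → h⁻¹ * x * h ∈ (P : Subgroup _) := by
    intro x hx
    have h1 := hQ hx
    rw [Sylow.coe_subgroup_smul, Subgroup.mem_pointwise_smul_iff_inv_smul_mem, ← map_inv,
      MulAut.smul_def, MulAut.conj_apply, inv_inv] at h1
    exact h1
  have hr : p4 ∈ D := Subgroup.mem_centralizer_singleton_iff.2 (by decide +kernel)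
  have ht : t4 ∈ D := Subgroup.mem_centralizer_singleton_iff.2 (by decide +kernel)
  have m1 := hmem w1 (Subgroup.mem_subgroupOf.2 ⟨_, Subgroup.mem_prod.2 ⟨hr, ht⟩, rfl⟩)
  have m2 := hmem w2 (Subgroup.mem_subgroupOf.2 ⟨_, Subgroup.mem_prod.2 ⟨ht, ht⟩, rfl⟩)
  have m3 := hmem w3 (Subgroup.mem_subgroupOf.2 ⟨_, Subgroup.mem_prod.2 ⟨ht, hr⟩, rfl⟩)
  have key := w_comm
  have hc : ∀ a b : ↥(alternatingGroup (Fin 8)),
      h⁻¹ * a * h * (h⁻¹ * b * h) * (h⁻¹ * a * h)⁻¹ * (h⁻¹ * b * h)⁻¹ = h⁻¹ * (a * b * a⁻¹ * b⁻¹) * h :=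
    fun a b => by group
  refine ⟨⟨_, m1⟩, ⟨_, m2⟩, ⟨_, m3⟩, ⟨_, m2⟩, fun e => key.1 ?_, fun e => key.2.1 ?_,
    fun e => key.2.2 ?_⟩
  · have e' := congrArg Subtype.val e
    simp only [Subgroup.coe_mul, InvMemClass.coe_inv, OneMemClass.coe_one, hc] at e'
    calc w1 * w2 * w1⁻¹ * w2⁻¹ = h * (h⁻¹ * (w1 * w2 * w1⁻¹ * w2⁻¹) * h) * h⁻¹ := by group
      _ = 1 := by rw [e']; group
  · have e' := congrArg Subtype.val e
    simp only [Subgroup.coe_mul, InvMemClass.coe_inv, OneMemClass.coe_one, hc] at e'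
    calc w3 * w2 * w3⁻¹ * w2⁻¹ = h * (h⁻¹ * (w3 * w2 * w3⁻¹ * w2⁻¹) * h) * h⁻¹ := by group
      _ = 1 := by rw [e']; group
  · have e' := congrArg Subtype.val e
    simp only [Subgroup.coe_mul, InvMemClass.coe_inv, hc] at e'
    exact mul_left_cancel (mul_right_cancel e')

/-- A prime-order automorphism fixes as many points as there are, modulo the prime. -/
theorem card_fix {M : Type*} [Group M] [Finite M] {p : ℕ} [Fact p.Prime] (σ : MulAut M) (hσ : σ ^ p = 1) :
    Nat.card M ≡ Nat.card (MonoidHom.eqLocus σ.toMonoidHom (MonoidHom.id M)) [MOD p] := by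
  have hZ := SignalizerCoprime.isPGroup_zpowers (p := p) hσ
  refine (hZ.card_modEq_card_fixedPoints M).trans (?_ : _ ≡ _ [MOD p])
  refine (congrArg (· % p) ?_ : _ % p = _ % p)
  refine Nat.card_congr (Equiv.subtypeEquivRight fun m => ?_)
  constructor
  · intro h
    exact h ⟨σ, Subgroup.mem_zpowers σ⟩
  · rintro h ⟨g, hg⟩
    exact (Subgroup.zpowers_le.2 (show σ ∈ MulAction.stabilizer (MulAut M) m from h)) hg

/-- With three classes of involutions, no two involutions meet all classes. -/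
theorem no_cover {G : Type*} [Group G] [Finite G]
    (h3 : Nat.card {c : ConjClasses G // ∃ x ∈ c.carrier, orderOf x = 2} = 3) (x y : G) :
    ¬ ∀ z : G, orderOf z = 2 → IsConj z x ∨ IsConj z y := by
  classical
  intro hall
  have hinj : Function.Injective (fun c : {c : ConjClasses G // ∃ x ∈ c.carrier, orderOf x = 2} =>
      (if c.1 = ConjClasses.mk x then (0 : Fin 2) else 1)) := by
    have key : ∀ c : {c : ConjClasses G // ∃ x ∈ c.carrier, orderOf x = 2},
        c.1 ≠ ConjClasses.mk x → c.1 = ConjClasses.mk y := by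
      rintro ⟨c, z, hzc, hz⟩ hne
      rw [ConjClasses.mem_carrier_iff_mk_eq] at hzc
      rcases hall z hz with h | h
      · exact absurd (hzc ▸ ConjClasses.mk_eq_mk_iff_isConj.2 h) hne
      · exact hzc ▸ ConjClasses.mk_eq_mk_iff_isConj.2 h
    intro c d hcd
    apply Subtype.ext
    by_cases hc : c.1 = ConjClasses.mk x <;> by_cases hd : d.1 = ConjClasses.mk x
    · rw [hc, hd]
    · simp [hc, hd] at hcd
    · simp [hc, hd] at hcd
    · rw [key c hc, key d hd]
  have h := Nat.card_le_card_of_injective _ hinj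
  rw [h3, Nat.card_fin] at h
  omega

/-- The coordinate context from the hypotheses of S3197. -/
theorem exists_ctx {G : Type*} [Group G] [Finite G] (S : Sylow 2 G)
    (P : Sylow 2 ↥(alternatingGroup (Fin 8)))
    (hS : Nonempty (↥(S : Subgroup G) ≃* ↥(P : Subgroup ↥(alternatingGroup (Fin 8)))))
    (h3 : Nat.card {c : ConjClasses G // ∃ x ∈ c.carrier, orderOf x = 2} = 3)
    (A : Subgroup G) (hA : IsElementaryAbelian 2 A) (hA16 : Nat.card A = 16)
    (hNA : ∃ (_ : (A.subgroupOf (Subgroup.normalizer (A : Set G)) ⊔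
      oddCore ↥(Subgroup.normalizer (A : Set G))).Normal),
      Nonempty (↥(Subgroup.normalizer (A : Set G)) ⧸ (A.subgroupOf (Subgroup.normalizer (A : Set G)) ⊔
        oddCore ↥(Subgroup.normalizer (A : Set G))) ≃* A5)) :
    ∃ c : Ctx G, c.A = A := by
  classical
  set N := Subgroup.normalizer (A : Set G) with hN
  set An := A.subgroupOf N with hAn
  set O := oddCore ↥N with hO
  set K := An ⊔ O with hK
  obtain ⟨hKn, ⟨e⟩⟩ := hNA
  haveI := hKn
  haveI hAnn : An.Normal := Subgroup.normal_in_normalizer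
  haveI hOn : O.Normal := HallCore.pPrimeCore_normal 2 _
  haveI : Fact (Nat.Prime 3) := ⟨Nat.prime_three⟩
  haveI : Fact (Nat.Prime 5) := ⟨by norm_num⟩
  haveI : Fintype An := Fintype.ofFinite _
  set π : ↥N →* A5 := e.toMonoidHom.comp (QuotientGroup.mk' K) with hπdef
  have hπker : π.ker = K := by
    ext x
    simp [hπdef, MonoidHom.mem_ker, EmbeddingLike.map_eq_one_iff]
  have hπs : Function.Surjective π := e.surjective.comp (QuotientGroup.mk'_surjective _)
  have hAN : A ≤ N := Subgroup.le_normalizer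
  have hAn16 : Nat.card An = 16 := by
    rw [hAn, Nat.card_congr (Subgroup.subgroupOfEquivOfLe hAN).toEquiv, hA16]
  have hAn2 : ∀ a : An, a * a = 1 := fun a => Subtype.ext (Subtype.ext (by
    simpa [pow_two] using hA.2 _ a.2))
  have hAnel : IsPGroup 2 An := IsPGroup.of_card (n := 4) (by rw [hAn16]; norm_num)
  have hOodd : (Nat.card O).Coprime 2 := HallCore.coprime_card_pPrimeCore 2 _
  have hdisj : An ⊓ O = ⊥ := HallCore.disjoint_of_coprime_card (by
    rw [hAn16, show 16 = 2 ^ 4 by norm_num]; exact Nat.Coprime.pow_left _ hOodd.symm)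
  have hAO : ∀ a ∈ An, ∀ o ∈ O, a * o = o * a := fun a ha o ho =>
    Subgroup.commute_of_normal_of_disjoint An O hAnn hOn (disjoint_iff.2 hdisj) a o ha ho
  have hKmem : ∀ x ∈ K, ∃ a ∈ An, ∃ o ∈ O, x = a * o := by
    intro x hx
    rw [← SetLike.mem_coe, hK, Subgroup.coe_mul_of_left_le_normalizer_right _ _
      ((Subgroup.normalizer_eq_top O).symm ▸ le_top)] at hx
    obtain ⟨a, ha, o, ho, rfl⟩ := Set.mem_mul.1 hx
    exact ⟨a, ha, o, ho, rfl⟩
  have hnoO : ∀ R : Subgroup ↥N, IsPGroup 2 R → ∀ r ∈ R, r ∈ O → r = 1 := fun R hR r hr hrO => by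
    obtain ⟨n, hn⟩ := IsPGroup.iff_card.1 hR
    have h := HallCore.disjoint_of_coprime_card (A := R) (B := O)
      (hn ▸ (Nat.Coprime.pow_left n hOodd.symm))
    rw [← Subgroup.mem_bot, ← h]
    exact ⟨hr, hrO⟩
  -- a Sylow subgroup
  let Vs : Subgroup A5 :=
    { carrier := Set.range vA
      one_mem' := ⟨0, rfl⟩
      mul_mem' := by rintro _ _ ⟨k, rfl⟩ ⟨l, rfl⟩; exact ⟨_, (vA_mul k l).symm⟩
      inv_mem' := by
        rintro _ ⟨k, rfl⟩
        exact ⟨k, (inv_eq_of_mul_eq_one_right (by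
          rw [vA_mul, (by decide : ∀ k : Fin 4, k ^^^ k = 0) k]; rfl)).symm⟩ }
  have hVs : Nat.card Vs = 4 := by
    rw [← Nat.card_congr (Equiv.ofBijective (fun k => (⟨vA k, k, rfl⟩ : Vs))
      ⟨fun k l h => vA_inj k l (congrArg Subtype.val h), fun ⟨x, k, hk⟩ => ⟨k, Subtype.ext hk⟩⟩),
      Nat.card_fin]
  set R := Vs.comap π with hR
  have hA5 : Nat.card A5 = 60 := by rw [nat_card_alternatingGroup, Nat.card_fin]; rfl
  have hKR : K ≤ R := hπker ▸ Subgroup.ker_le_comap π Vs
  have hcardR : Nat.card R = 4 * Nat.card K := by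
    have h1 : R.index = 15 := by
      rw [hR, Subgroup.index_comap_of_surjective Vs hπs]
      have h := Subgroup.card_mul_index Vs
      rw [hVs, hA5] at h
      omega
    have h2 := Subgroup.card_mul_index R
    have h3' := Subgroup.card_eq_card_quotient_mul_card_subgroup K
    rw [Nat.card_congr e.toEquiv, hA5] at h3'
    rw [h1, h3'] at h2
    omega
  have hfacR : (Nat.card R).factorization 2 = 6 := by
    obtain ⟨m, hm⟩ := Subgroup.card_dvd_of_le (le_sup_left : An ≤ K)
    have hm2 : ¬ 2 ∣ m := by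
      intro hd
      have h1 := HallCore.card_sup_dvd An O
      rw [← hK, hm, hAn16] at h1
      have h2 : m ∣ Nat.card O := Nat.dvd_of_mul_dvd_mul_left (by norm_num) h1
      exact HallCore.not_dvd_card_pPrimeCore 2 _ (hd.trans h2)
    have hm0 : m ≠ 0 := fun h => hm2 (h ▸ dvd_zero 2)
    rw [hcardR, hm, hAn16, ← mul_assoc, show 4 * 16 = 2 ^ 6 by norm_num,
      Nat.factorization_mul (by norm_num) hm0, Finsupp.coe_add, Pi.add_apply,
      Nat.Prime.factorization_pow Nat.prime_two, Finsupp.single_eq_same,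
      Nat.factorization_eq_zero_of_not_dvd hm2]
  obtain ⟨T0, hT0⟩ := (hAnel.comap_subtype (K := R)).exists_le_sylow
  set TN := (T0 : Subgroup R).map R.subtype with hTN
  have hTN2 : IsPGroup 2 TN := T0.2.map _
  have hTNcard : Nat.card TN = 64 := by
    rw [hTN, Subgroup.card_map_of_injective R.subtype_injective, T0.card_eq_multiplicity, hfacR]
    norm_num
  have hAT : An ≤ TN := fun a ha =>
    ⟨⟨a, hKR (Subgroup.mem_sup_left ha)⟩, hT0 (Subgroup.mem_subgroupOf.2 ha), rfl⟩
  have hfacG : (Nat.card G).factorization 2 = 6 := by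
    have h1 := S.card_eq_multiplicity
    obtain ⟨eS⟩ := hS
    rw [Nat.card_congr eS.toEquiv, P.card_eq_multiplicity, factorization_A8] at h1
    exact (Nat.pow_right_injective le_rfl h1).symm
  let T : Sylow 2 G := Sylow.ofCard (TN.map N.subtype) (by
    rw [Subgroup.card_map_of_injective N.subtype_injective, hTNcard, hfacG]; norm_num)
  have hTmem : ∀ t : G, t ∈ (T : Subgroup G) → ∃ n : ↥N, n ∈ TN ∧ (n : G) = t := fun t ht => by
    obtain ⟨n, hn, rfl⟩ := (ht : t ∈ TN.map N.subtype)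
    exact ⟨n, hn, rfl⟩
  have hTof : ∀ n : ↥N, n ∈ TN → (n : G) ∈ (T : Subgroup G) := fun n hn => ⟨n, hn, rfl⟩
  have hTK : ∀ n ∈ TN, π n = 1 → n ∈ An := by
    intro n hn h1
    obtain ⟨a, ha, o, ho, rfl⟩ := hKmem n (hπker ▸ MonoidHom.mem_ker.2 h1)
    have h2 : o ∈ TN := by
      have := mul_mem (inv_mem (hAT ha)) hn
      rwa [inv_mul_cancel_left] at this
    rw [hnoO TN hTN2 o h2 ho, mul_one]
    exact ha
  have hTV : ∀ n ∈ TN, ∃ k, π n = vA k := by
    rintro _ ⟨⟨n, hn⟩, -, rfl⟩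
    obtain ⟨k, hk⟩ := hn
    exact ⟨k, hk.symm⟩
  have hTsurj : ∀ k, ∃ n ∈ TN, π n = vA k := by
    intro k
    set f := π.comp TN.subtype with hf
    have hle : f.range ≤ Vs := by
      rintro _ ⟨n, rfl⟩
      obtain ⟨k, hk⟩ := hTV n n.2
      exact ⟨k, hk.symm⟩
    have hker : Nat.card f.ker ≤ 16 := by
      rw [← hAn16]
      exact Nat.card_le_card_of_injective
        (fun x : f.ker => (⟨(x : TN), hTK _ (x : TN).2 x.2⟩ : An))
        fun x y h => Subtype.ext (Subtype.ext (congrArg (fun a : An => (a : ↥N)) h))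
    have h1 := Subgroup.card_eq_card_quotient_mul_card_subgroup f.ker
    rw [Nat.card_congr (QuotientGroup.quotientKerEquivRange f).toEquiv, hTNcard] at h1
    have heq : f.range = Vs := Subgroup.eq_of_le_of_card_ge hle (by
      rw [hVs]
      by_contra hlt
      push Not at hlt
      have : Nat.card f.range * Nat.card f.ker ≤ 3 * 16 := Nat.mul_le_mul (by omega) hker
      omega)
    have hk : vA k ∈ f.range := heq ▸ ⟨k, rfl⟩
    obtain ⟨n, hn⟩ := hk
    exact ⟨n, n.2, hn⟩
  -- the action of `A₅`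
  set ψ : ↥N →* MulAut An := MulAut.conjNormal with hψ
  have hψK : K ≤ ψ.ker := by
    refine sup_le (fun a ha => MonoidHom.mem_ker.2 (MulEquiv.ext fun b => Subtype.ext ?_))
      (fun o ho => MonoidHom.mem_ker.2 (MulEquiv.ext fun b => Subtype.ext ?_))
    · rw [MulAut.conjNormal_apply, MulAut.one_apply]
      have : a * (b : ↥N) = (b : ↥N) * a := Subtype.ext
        (SignalizerCoprime.comm_of_mem hA (Subgroup.mem_subgroupOf.1 ha) (Subgroup.mem_subgroupOf.1 b.2))
      rw [this, mul_inv_cancel_right]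
    · rw [MulAut.conjNormal_apply, MulAut.one_apply, ← hAO _ b.2 o ho, mul_inv_cancel_right]
  set φ : A5 →* MulAut An := (QuotientGroup.lift K ψ hψK).comp e.symm.toMonoidHom with hφdef
  have hφ : ∀ (n : ↥N) (a : An), ((φ (π n) a : An) : ↥N) = n * a * n⁻¹ := by
    intro n a
    simp only [hφdef, hπdef, MonoidHom.comp_apply, MulEquiv.coe_toMonoidHom, MulEquiv.symm_apply_apply,
      QuotientGroup.mk'_apply, QuotientGroup.lift_mk, hψ, MulAut.conjNormal_apply]
  have hfaith : ∀ g, φ g = 1 → g = 1 := by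
    rcases Subgroup.Normal.eq_bot_or_eq_top (inferInstance : φ.ker.Normal) with h | h
    · exact fun g hg => (Subgroup.eq_bot_iff_forall _).1 h g hg
    · exfalso
      have hc : ∀ n ∈ TN, ∀ a ∈ An, n * a = a * n := by
        intro n _ a ha
        have h1 := hφ n ⟨a, ha⟩
        rw [MonoidHom.mem_ker.1 (h ▸ Subgroup.mem_top (π n) : π n ∈ φ.ker), MulAut.one_apply] at h1
        exact (eq_mul_inv_iff_mul_eq.1 h1).symm
      obtain ⟨eS⟩ := hS
      obtain ⟨u, v, u', v', hu, hu', hne⟩ := two_commutators P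
      let eT := ((T : Sylow 2 G).equiv S).trans eS
      have hcomm : ∀ x y : ↥(T : Subgroup G), ∀ r s : ↥N, r ∈ TN → s ∈ TN →
          π r = vA 1 → π s = vA 2 →
          (x * y * x⁻¹ * y⁻¹ : ↥(T : Subgroup G)) = 1 ∨
            ((x * y * x⁻¹ * y⁻¹ : ↥(T : Subgroup G)) : G) = (r * s * r⁻¹ * s⁻¹ : ↥N) := by
        intro x y r s hr hs hπr hπs
        set cc := r * s * r⁻¹ * s⁻¹ with hcc
        have hccA : cc ∈ An := hTK _ (mul_mem (mul_mem (mul_mem hr hs) (inv_mem hr)) (inv_mem hs)) (by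
          simp only [hcc, map_mul, map_inv, hπr, hπs]; decide +kernel)
        have hcc2 : cc * cc = 1 := congrArg Subtype.val (hAn2 ⟨cc, hccA⟩)
        have hrep : ∀ z ∈ TN, ∃ a ∈ An, ∃ w ∈ [1, r, s, r * s], z = a * w := by
          intro z hz
          obtain ⟨k, hk⟩ := hTV z hz
          obtain ⟨w, hw, hwT, hwk⟩ : ∃ w ∈ [1, r, s, r * s], w ∈ TN ∧ π w = vA k := by
            fin_cases k
            · exact ⟨1, by simp, one_mem _, map_one π⟩
            · exact ⟨r, by simp, hr, hπr⟩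
            · exact ⟨s, by simp, hs, hπs⟩
            · exact ⟨r * s, by simp, mul_mem hr hs, by rw [map_mul, hπr, hπs, vA_mul]; rfl⟩
          exact ⟨z * w⁻¹, hTK _ (mul_mem hz (inv_mem hwT))
            (by rw [map_mul, map_inv, hk, hwk, mul_inv_cancel]), w, hw, by group⟩
        obtain ⟨xn, hxn, hxe⟩ := hTmem x x.2
        obtain ⟨yn, hyn, hye⟩ := hTmem y y.2
        obtain ⟨a, ha, w, hw, rfl⟩ := hrep xn hxn
        obtain ⟨b, hb, w', hw', rfl⟩ := hrep yn hyn
        have hwT : ∀ w ∈ [1, r, s, r * s], w ∈ TN := by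
          simp only [List.mem_cons, List.not_mem_nil, or_false]
          rintro w (rfl | rfl | rfl | rfl)
          exacts [one_mem _, hr, hs, mul_mem hr hs]
        have hca : ∀ z ∈ TN, Commute z a := fun z hz => hc z hz a ha
        have hcb : ∀ z ∈ TN, Commute z b := fun z hz => hc z hz b hb
        have hred : a * w * (b * w') * (a * w)⁻¹ * (b * w')⁻¹ = w * w' * w⁻¹ * w'⁻¹ := by
          have e1 : Commute a (w * (b * w') * w⁻¹) :=
            (hca _ (mul_mem (mul_mem (hwT w hw) (mul_mem (hAT hb) (hwT w' hw'))) (inv_mem (hwT w hw)))).symm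
          calc a * w * (b * w') * (a * w)⁻¹ * (b * w')⁻¹
              = (a * (w * (b * w') * w⁻¹)) * a⁻¹ * (b * w')⁻¹ := by group
            _ = (w * (b * w') * w⁻¹) * (b * w')⁻¹ := by rw [e1.eq, mul_inv_cancel_right]
            _ = (w * b) * w' * w⁻¹ * w'⁻¹ * b⁻¹ := by group
            _ = b * (w * w' * w⁻¹ * w'⁻¹) * b⁻¹ := by rw [(hcb w (hwT w hw)).eq]; group
            _ = w * w' * w⁻¹ * w'⁻¹ := by
              rw [← (hcb _ (mul_mem (mul_mem (mul_mem (hwT w hw) (hwT w' hw')) (inv_mem (hwT w hw)))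
                (inv_mem (hwT w' hw')))).eq, mul_inv_cancel_right]
        have hrc : r * cc * r⁻¹ = cc := by rw [hc r hr cc hccA, mul_inv_cancel_right]
        have hsc : s * cc * s⁻¹ = cc := by rw [hc s hs cc hccA, mul_inv_cancel_right]
        have hcci : cc⁻¹ = cc := inv_eq_of_mul_eq_one_right hcc2
        have hsr : s * r * s⁻¹ * r⁻¹ = cc :=
          calc s * r * s⁻¹ * r⁻¹ = cc⁻¹ := by rw [hcc]; group
            _ = cc := hcci
        have c13 : r * (r * s) * r⁻¹ * (r * s)⁻¹ = cc :=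
          calc r * (r * s) * r⁻¹ * (r * s)⁻¹ = r * cc * r⁻¹ := by rw [hcc]; group
            _ = cc := hrc
        have c31 : (r * s) * r * (r * s)⁻¹ * r⁻¹ = cc :=
          calc (r * s) * r * (r * s)⁻¹ * r⁻¹ = r * (s * r * s⁻¹ * r⁻¹) * r⁻¹ := by group
            _ = cc := by rw [hsr, hrc]
        have c23 : s * (r * s) * s⁻¹ * (r * s)⁻¹ = cc :=
          calc s * (r * s) * s⁻¹ * (r * s)⁻¹ = (s * r * s⁻¹ * r⁻¹) * (r * s * s⁻¹ * s⁻¹ * s * r⁻¹) := by group
            _ = cc := by rw [hsr]; group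
        have c32 : (r * s) * s * (r * s)⁻¹ * s⁻¹ = cc := by rw [hcc]; group
        have hcases : w * w' * w⁻¹ * w'⁻¹ = 1 ∨ w * w' * w⁻¹ * w'⁻¹ = cc := by
          simp only [List.mem_cons, List.not_mem_nil, or_false] at hw hw'
          rcases hw with rfl | rfl | rfl | rfl <;> rcases hw' with rfl | rfl | rfl | rfl
          all_goals first
            | exact Or.inr hcc.symm
            | exact Or.inr hsr
            | exact Or.inr c13
            | exact Or.inr c31
            | exact Or.inr c23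
            | exact Or.inr c32
            | (left; group)
        rcases hcases with h' | h'
        · left
          apply Subtype.ext
          simp only [Subgroup.coe_mul, InvMemClass.coe_inv, OneMemClass.coe_one, ← hxe, ← hye]
          exact congrArg Subtype.val (hred.trans h')
        · right
          simp only [Subgroup.coe_mul, InvMemClass.coe_inv, ← hxe, ← hye]
          exact congrArg Subtype.val (hred.trans h')
      obtain ⟨r, hr, hπr⟩ := hTsurj 1
      obtain ⟨s, hs, hπs⟩ := hTsurj 2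
      have hz : ∀ x y, eT.symm (x * y * x⁻¹ * y⁻¹) =
          eT.symm x * eT.symm y * (eT.symm x)⁻¹ * (eT.symm y)⁻¹ := fun x y => by simp
      rcases hcomm (eT.symm u) (eT.symm v) r s hr hs hπr hπs with h1 | h1
      · exact hu (eT.symm.injective (by rw [hz, map_one]; exact h1))
      rcases hcomm (eT.symm u') (eT.symm v') r s hr hs hπr hπs with h2 | h2
      · exact hu' (eT.symm.injective (by rw [hz, map_one]; exact h2))
      exact hne (eT.symm.injective (by rw [hz, hz]; exact Subtype.ext (h1.trans h2.symm)))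
  -- no element of order 5 fixes anything
  have hfive : ∀ ζ : A5, ζ ^ 5 = 1 → ζ ≠ 1 → ∀ a : An, φ ζ a = a → a = 1 := by
    intro ζ h5 hne a ha
    have hc := card_fix (φ ζ) (p := 5) (by rw [← map_pow, h5, map_one])
    set F5 := MonoidHom.eqLocus (φ ζ).toMonoidHom (MonoidHom.id An) with hF5
    have hd : Nat.card F5 ∣ 16 := hAn16 ▸ F5.card_subgroup_dvd_card
    rw [hAn16] at hc
    have hmem : Nat.card F5 ∈ Nat.divisors 16 := Nat.mem_divisors.2 ⟨hd, by norm_num⟩
    rw [show Nat.divisors 16 = {1, 2, 4, 8, 16} by decide] at hmem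
    simp only [Finset.mem_insert, Finset.mem_singleton] at hmem
    rcases hmem with h | h | h | h | h <;> rw [h] at hc <;> try (exact absurd hc (by decide))
    · have := Subgroup.card_eq_one.1 h
      exact Subgroup.mem_bot.1 (this ▸ (ha : a ∈ F5))
    · refine absurd (hfaith ζ (MulEquiv.ext fun b => ?_)) hne
      have : F5 = ⊤ := Subgroup.eq_top_of_card_eq F5 (by rw [h, hAn16])
      exact (this ▸ Subgroup.mem_top b : b ∈ F5)
  have hfive' : ∀ g : A5, ((g : Equiv.Perm (Fin 5)) 4 ≠ 4) → ∀ a : An, (∀ k, φ (vA k) a = a) →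
      (∀ k, φ (g * vA k * g⁻¹) a = a) → a = 1 := by
    intro g hg a h1 h2
    obtain ⟨k, l, h5, hne⟩ := five_of_moved g hg
    refine hfive _ h5 hne a ?_
    rw [map_mul, MulAut.mul_apply, h2 l, h1 k]
  -- the fixed points of the four-group
  have hinv2 : ∀ k : Fin 4, ∀ a : An, φ (vA k) (φ (vA k) a) = a := by
    intro k a
    rw [← MulAut.mul_apply, ← map_mul, vA_mul, (by decide : ∀ k : Fin 4, k ^^^ k = 0) k]
    exact congrArg (fun f : MulAut An => f a) (map_one φ)
  let W : Subgroup An := ⨅ k : Fin 4, MonoidHom.eqLocus (φ (vA k)).toMonoidHom (MonoidHom.id An)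
  have hWmem : ∀ a, a ∈ W ↔ ∀ k, φ (vA k) a = a := fun a => by
    simp only [W, Subgroup.mem_iInf]
    rfl
  have hsW : ∀ a ∈ W, φ sA a ∈ W := by
    intro a ha
    rw [hWmem] at ha ⊢
    intro k
    obtain ⟨l, hl⟩ := sA_conj k
    rw [← MulAut.mul_apply, ← map_mul, show vA k * sA = sA * vA l by rw [← hl]; group, map_mul,
      MulAut.mul_apply, ha l]
  -- all outer involutions are conjugate
  have houter : (∀ a : An, φ (vA 1) a = a → ∃ α, a = α * φ (vA 1) α) →
      ∀ n n' : ↥N, n * n = 1 → π n ≠ 1 → n' * n' = 1 → π n' ≠ 1 → IsConj (n : G) (n' : G) := by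
    intro himg
    suffices key : ∀ n n' : ↥N, n * n = 1 → n' * n' = 1 → π n = vA 1 → π n' = vA 1 →
        IsConj (n : G) (n' : G) by
      intro n n' hn hn1 hn' hn1'
      obtain ⟨h, hh⟩ := involution_conj (π n) (by rw [← map_mul, hn, map_one]) hn1
      obtain ⟨h', hh'⟩ := involution_conj (π n') (by rw [← map_mul, hn', map_one]) hn1'
      obtain ⟨m, rfl⟩ := hπs h
      obtain ⟨m', rfl⟩ := hπs h'
      have c0 := key (m * n * m⁻¹) (m' * n' * m'⁻¹)
        (by rw [show m * n * m⁻¹ * (m * n * m⁻¹) = m * (n * n) * m⁻¹ by group, hn]; group)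
        (by rw [show m' * n' * m'⁻¹ * (m' * n' * m'⁻¹) = m' * (n' * n') * m'⁻¹ by group, hn']; group)
        (by rw [map_mul, map_mul, map_inv, hh]) (by rw [map_mul, map_mul, map_inv, hh'])
      have c1 : IsConj (n : G) ((m * n * m⁻¹ : ↥N) : G) := isConj_iff.2 ⟨m, by simp⟩
      have c2 : IsConj (n' : G) ((m' * n' * m'⁻¹ : ↥N) : G) := isConj_iff.2 ⟨m', by simp⟩
      exact c1.trans (c0.trans c2.symm)
    intro n n' hn hn' h1 h1'
    obtain ⟨a, ha, o, ho, hao⟩ := hKmem (n⁻¹ * n') (hπker ▸ MonoidHom.mem_ker.2 (by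
      rw [map_mul, map_inv, h1, h1', inv_mul_cancel]))
    have hn'e : n' = n * a * o := by rw [mul_assoc, ← hao, mul_inv_cancel_left]
    have hninv : n⁻¹ = n := inv_eq_of_mul_eq_one_right hn
    have hna : (n * a) * (n * a) = ((φ (vA 1) ⟨a, ha⟩ : An) : ↥N) * a := by
      rw [← h1, hφ, hninv]; group
    have hsq : (n * a) * (n * a) = 1 := by
      refine hnoO An hAnel _ (hna ▸ mul_mem (φ (vA 1) ⟨a, ha⟩).2 ha) ?_
      have hmod : QuotientGroup.mk' O (n * a) = QuotientGroup.mk' O n' := by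
        rw [QuotientGroup.mk'_eq_mk']
        exact ⟨o, ho, hn'e.symm⟩
      rw [← QuotientGroup.eq_one_iff]
      change QuotientGroup.mk' O (n * a * (n * a)) = 1
      rw [map_mul, hmod, ← map_mul, hn', map_one]
    rw [hna] at hsq
    have hfix : φ (vA 1) ⟨a, ha⟩ = ⟨a, ha⟩ := by
      refine Subtype.ext ((mul_eq_one_iff_eq_inv.1 hsq).trans ?_)
      exact inv_eq_of_mul_eq_one_right (congrArg Subtype.val (hAn2 ⟨a, ha⟩))
    obtain ⟨α, hα⟩ := himg _ hfix
    have hα' : a = (α : ↥N) * (n * α * n⁻¹) := by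
      have := congrArg Subtype.val hα
      rwa [Subgroup.coe_mul, ← h1, hφ] at this
    have hαi : ((α : ↥N))⁻¹ = α := inv_eq_of_mul_eq_one_right (congrArg Subtype.val (hAn2 α))
    have hconj1 : IsConj n (n * a) := by
      refine isConj_iff.2 ⟨α, ?_⟩
      have hcm : Commute (α : ↥N) (n * α * n⁻¹) := by
        have h2 := hφ n α
        rw [← h2]
        exact Subtype.ext (SignalizerCoprime.comm_of_mem hA (Subgroup.mem_subgroupOf.1 α.2)
          (Subgroup.mem_subgroupOf.1 (φ (π n) α).2))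
      rw [hα', hcm.eq, hαi, hninv]
      calc (α : ↥N) * n * α = 1 * α * n * α := by rw [one_mul]
        _ = n * n * (α : ↥N) * n * α := by rw [hn]
        _ = _ := by group
    have hconj2 : IsConj (n * a) n' := by
      obtain ⟨c, hc'⟩ := isConj_iff.1 hconj1
      have hsq2 : (n * a) * (n * a) = 1 := by
        rw [← hc', show c * n * c⁻¹ * (c * n * c⁻¹) = c * (n * n) * c⁻¹ by group, hn]; group
      have hodd : Odd (orderOf ((n * a) * n')) := by
        have he : (n * a) * n' = o := by rw [hn'e, ← mul_assoc, hsq2, one_mul]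
        rw [he]
        exact Nat.not_even_iff_odd.1 fun hev => HallCore.not_dvd_card_pPrimeCore 2 _
          (hev.two_dvd.trans (Subgroup.orderOf_dvd_natCard _ ho))
      obtain ⟨c', -, hc''⟩ := IsolatedInv.exists_conj_of_odd hsq2 hn' hodd
      exact isConj_iff.2 ⟨c', hc''⟩
    exact N.subtype.map_isConj (hconj1.trans hconj2)
  -- every involution is conjugate into `T`
  have hinT : ∀ z : G, orderOf z = 2 → ∃ n : ↥N, n ∈ TN ∧ n * n = 1 ∧ n ≠ 1 ∧ IsConj z (n : G) := by
    intro z hz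
    have hz2 : z ^ 2 = 1 := hz ▸ pow_orderOf_eq_one z
    obtain ⟨h, hh⟩ := exists_conj_mem T hz2
    obtain ⟨n, hn, hne⟩ := hTmem _ hh
    refine ⟨n, hn, Subtype.ext ?_, ?_, isConj_iff.2 ⟨h, hne.symm⟩⟩
    · rw [Subgroup.coe_mul, hne, ← pow_two]
      exact sq_conj hz2 h
    · intro h1
      rw [h1, OneMemClass.coe_one] at hne
      rw [conj_eq_one_iff.1 hne.symm, orderOf_one] at hz
      exact absurd hz (by norm_num)
  -- a fixed point of the 3-cycle
  obtain ⟨w, hwW, hw1, hws⟩ : ∃ w : An, w ∈ W ∧ w ≠ 1 ∧ φ sA w = w := by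
    by_contra hcon
    push Not at hcon
    let sW : MulAut W :=
      MulEquiv.ofBijective (((φ sA).toMonoidHom.comp W.subtype).codRestrict W fun x => hsW _ x.2)
        (Finite.injective_iff_bijective.1 fun x y h =>
          Subtype.ext ((φ sA).injective (congrArg Subtype.val h)))
    have hsW3 : sW ^ 3 = 1 := by
      refine MulEquiv.ext fun x => Subtype.ext ?_
      rw [pow_succ, pow_two]
      change φ sA (φ sA (φ sA (x : An))) = x
      rw [← MulAut.mul_apply, ← MulAut.mul_apply, ← map_mul, ← map_mul]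
      have : sA * sA * sA = 1 := by rw [← pow_two, ← pow_succ]; exact sA_next.2.2
      rw [this, map_one]
      rfl
    have hfix1 : Nat.card (MonoidHom.eqLocus sW.toMonoidHom (MonoidHom.id W)) = 1 := by
      rw [Subgroup.card_eq_one, Subgroup.eq_bot_iff_forall]
      intro x hx
      by_contra hx1
      exact hcon x x.2 (fun h => hx1 (Subtype.ext h)) (congrArg Subtype.val hx)
    have hmod3 := card_fix sW hsW3
    rw [hfix1] at hmod3
    let f1 : An →* An :=
      { toFun := fun α => α * φ (vA 1) α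
        map_one' := by simp
        map_mul' := fun x y => by
          rw [map_mul]
          have hcm : ∀ p q : An, p * q = q * p := fun p q => Subtype.ext (Subtype.ext
            (SignalizerCoprime.comm_of_mem hA p.2 q.2))
          rw [mul_assoc, ← mul_assoc y, hcm y (φ (vA 1) x), mul_assoc (φ (vA 1) x), ← mul_assoc] }
    set C1 := MonoidHom.eqLocus (φ (vA 1)).toMonoidHom (MonoidHom.id An) with hC1
    have hrange : f1.range ≤ C1 := by
      rintro _ ⟨α, rfl⟩
      change φ (vA 1) (α * φ (vA 1) α) = α * φ (vA 1) α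
      rw [map_mul, hinv2]
      exact Subtype.ext (Subtype.ext (SignalizerCoprime.comm_of_mem hA (φ (vA 1) α).2 α.2))
    have hkerC : ∀ α, α ∈ f1.ker → α ∈ C1 := by
      intro α hα
      change φ (vA 1) α = α
      have h1 : α * φ (vA 1) α = 1 := hα
      rw [← inv_eq_of_mul_eq_one_right h1, inv_eq_of_mul_eq_one_right (hAn2 α)]
    have h16 := Subgroup.card_eq_card_quotient_mul_card_subgroup f1.ker
    rw [Nat.card_congr (QuotientGroup.quotientKerEquivRange f1).toEquiv, hAn16] at h16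
    have hle1 : Nat.card f1.range ≤ Nat.card C1 := Subgroup.card_le_of_le hrange
    have hle2 : Nat.card f1.ker ≤ Nat.card C1 := Subgroup.card_le_of_le hkerC
    have hC4 : 4 ≤ Nat.card C1 := by
      by_contra hlt
      push Not at hlt
      have : Nat.card f1.range * Nat.card f1.ker ≤ 3 * 3 := Nat.mul_le_mul (by omega) (by omega)
      omega
    have hC8 : Nat.card C1 < 8 := by
      by_contra hge
      push Not at hge
      obtain ⟨g, h5, hne⟩ := five_of_one
      set C2 := C1.map (φ g).toMonoidHom with hC2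
      have hcard2 : Nat.card C2 = Nat.card C1 := Subgroup.card_map_of_injective (φ g).injective
      have h1 := Subgroup.index_inf_le (H := C1) (K := C2)
      have h2 := Subgroup.card_mul_index (C1 ⊓ C2)
      have h3' := Subgroup.card_mul_index C1
      have h4 := Subgroup.card_mul_index C2
      rw [hAn16] at h2 h3' h4
      have hi1 : C1.index ≤ 2 := by nlinarith
      have hi2 : C2.index ≤ 2 := by nlinarith
      have hbot : C1 ⊓ C2 = ⊥ := by
        rw [Subgroup.eq_bot_iff_forall]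
        rintro a ⟨ha1, b, hb, rfl⟩
        refine hfive _ h5 hne _ ?_
        have hb' : φ (vA 1) b = b := hb
        have ha' : φ (vA 1) (φ g b) = φ g b := ha1
        simp only [map_mul, MulAut.mul_apply, MulEquiv.coe_toMonoidHom]
        rw [show φ g⁻¹ (φ g b) = b by
          rw [← MulAut.mul_apply, ← map_mul, inv_mul_cancel, map_one, MulAut.one_apply], hb', ha']
      rw [hbot, Subgroup.card_bot, one_mul] at h2
      rw [hbot, h2] at h1
      nlinarith
    have hWC : W ≤ C1 := fun a ha => (hWmem a).1 ha 1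
    have hW4 : Nat.card W = 4 := by
      have hd : Nat.card W ∣ 16 := hAn16 ▸ W.card_subgroup_dvd_card
      have hle : Nat.card W ≤ Nat.card C1 := Subgroup.card_le_of_le hWC
      have hmem : Nat.card W ∈ Nat.divisors 16 := Nat.mem_divisors.2 ⟨hd, by norm_num⟩
      rw [show Nat.divisors 16 = {1, 2, 4, 8, 16} by decide] at hmem
      simp only [Finset.mem_insert, Finset.mem_singleton] at hmem
      have hne1 : Nat.card W ≠ 1 := by
        -- a 2-group fixes a nontrivial element
        intro h1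
        have hV : IsPGroup 2 (Vs.map φ) := IsPGroup.map (IsPGroup.of_card (n := 2) (by rw [hVs]; norm_num)) φ
        have h2 := hV.card_modEq_card_fixedPoints An
        have h3' : Nat.card (MulAction.fixedPoints (Vs.map φ) An) = Nat.card W := by
          refine Nat.card_congr (Equiv.subtypeEquivRight fun a => ?_)
          rw [hWmem]
          constructor
          · exact fun h k => h ⟨φ (vA k), Subgroup.mem_map_of_mem φ ⟨k, rfl⟩⟩
          · rintro h ⟨g, hg⟩
            obtain ⟨x, ⟨k, rfl⟩, rfl⟩ := Subgroup.mem_map.1 hg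
            exact h k
        rw [h3', h1, hAn16] at h2
        exact absurd h2 (by decide)
      rcases hmem with h | h | h | h | h
      · exact absurd h hne1
      · rw [h] at hmod3; exact absurd hmod3 (by decide)
      · exact h
      · omega
      · omega
    have hCd : Nat.card C1 = 4 := by
      have hd : Nat.card C1 ∣ 16 := hAn16 ▸ C1.card_subgroup_dvd_card
      have h1 : Nat.card W ∣ Nat.card C1 := Subgroup.card_dvd_of_le hWC
      rw [hW4] at h1
      omega
    have hrangeC : f1.range = C1 := by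
      refine Subgroup.eq_of_le_of_card_ge hrange ?_
      rw [hCd] at hle2 ⊢
      by_contra hlt
      push Not at hlt
      have : Nat.card f1.range * Nat.card f1.ker ≤ 3 * 4 := Nat.mul_le_mul (by omega) hle2
      omega
    have hout1 := houter fun a ha => by
      have : a ∈ f1.range := hrangeC ▸ (ha : a ∈ C1)
      obtain ⟨α, hα⟩ := this
      exact ⟨α, hα.symm⟩
    -- the conjugates of `W` cover `A`
    haveI : Fintype W := Fintype.ofFinite _
    let WS : Set An := {a | a ∈ W ∧ a ≠ 1}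
    have hWS : Nat.card {a // a ∈ W ∧ a ≠ 1} = 3 := by
      have h1 : Nat.card {a : W // a ≠ 1} = 3 := by
        rw [← Nat.card_congr (Equiv.refl _), Nat.card_eq_fintype_card, Fintype.card_subtype_compl,
          Fintype.card_subtype_eq, ← Nat.card_eq_fintype_card, hW4]
      rw [← h1]
      exact Nat.card_congr ⟨fun a => ⟨⟨a.1, a.2.1⟩, fun h => a.2.2 (congrArg Subtype.val h)⟩,
        fun a => ⟨a.1.1, a.1.2, fun h => a.2 (Subtype.ext h)⟩, fun a => rfl, fun a => rfl⟩
    let Ψ : Fin 5 × {a // a ∈ W ∧ a ≠ 1} → {a : An // a ≠ 1} := fun p =>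
      ⟨φ (gA p.1) p.2.1, fun h => p.2.2.2 ((φ (gA p.1)).injective (by rw [h, map_one]))⟩
    have hΨ : Function.Injective Ψ := by
      rintro ⟨i, a⟩ ⟨j, b⟩ h
      have h' : φ (gA i) a.1 = φ (gA j) b.1 := congrArg Subtype.val h
      have hij : i = j := by
        by_contra hne
        refine a.2.2 (hfive' ((gA i)⁻¹ * gA j) ?_ a.1 ((hWmem a.1).1 a.2.1) fun k => ?_)
        · intro h4
          rw [Subgroup.coe_mul, Equiv.Perm.mul_apply, gA_four, InvMemClass.coe_inv,
            Equiv.Perm.inv_eq_iff_eq, gA_four] at h4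
          exact hne h4.symm
        · have ha : a.1 = φ ((gA i)⁻¹ * gA j) b.1 := by
            rw [map_mul, MulAut.mul_apply, ← h', ← MulAut.mul_apply, ← map_mul, inv_mul_cancel, map_one,
              MulAut.one_apply]
          conv_lhs => rw [ha, ← MulAut.mul_apply, ← map_mul, inv_mul_cancel_right, map_mul, MulAut.mul_apply,
            (hWmem b.1).1 b.2.1 k, ← ha]
      subst hij
      exact Prod.ext rfl (Subtype.ext ((φ (gA i)).injective h'))
    have hcard15 : Nat.card (Fin 5 × {a // a ∈ W ∧ a ≠ 1}) = Nat.card {a : An // a ≠ 1} := by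
      rw [Nat.card_prod, hWS, Nat.card_fin, Nat.card_eq_fintype_card, Fintype.card_subtype_compl,
        Fintype.card_subtype_eq, ← Nat.card_eq_fintype_card, hAn16]
    have hbij := (Nat.bijective_iff_injective_and_card Ψ).2 ⟨hΨ, hcard15⟩
    obtain ⟨⟨w0, hw0W, hw01⟩⟩ : Nonempty {a // a ∈ W ∧ a ≠ 1} := by
      by_contra he
      rw [not_nonempty_iff] at he
      rw [Nat.card_of_isEmpty] at hWS
      omega
    have hw1' : φ sA w0 ≠ w0 := hcon w0 hw0W hw01
    have hAconj : ∀ a : An, a ≠ 1 → IsConj ((w0 : ↥N) : G) ((a : ↥N) : G) := by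
      have hmove : ∀ g (b : An), IsConj ((b : ↥N) : G) ((φ g b : An) : G) := by
        intro g b
        obtain ⟨n, rfl⟩ := hπs g
        rw [hφ]
        exact N.subtype.map_isConj (isConj_iff.2 ⟨n, rfl⟩)
      have horb : ∀ b ∈ W, b ≠ 1 → b = w0 ∨ b = φ sA w0 ∨ b = φ sA (φ sA w0) := by
        intro b hb hb1
        by_contra hne
        push Not at hne
        have hs1 := hsW _ hw0W
        have hne1 : φ sA w0 ≠ 1 := fun h => hw01 ((φ sA).injective (by rw [h, map_one]))
        have hne2 : φ sA (φ sA w0) ≠ 1 := fun h => hne1 ((φ sA).injective (by rw [h, map_one]))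
        have h4 : 4 ≤ Nat.card {a // a ∈ W ∧ a ≠ 1} := by
          let g4 : Fin 4 → {a // a ∈ W ∧ a ≠ 1} := ![⟨b, hb, hb1⟩, ⟨w0, hw0W, hw01⟩,
            ⟨φ sA w0, hs1, hne1⟩, ⟨φ sA (φ sA w0), hsW _ hs1, hne2⟩]
          have hg4 : Function.Injective g4 := by
            have e12 : φ sA (φ sA w0) ≠ φ sA w0 := fun h => hw1' ((φ sA).injective h)
            have e02 : φ sA (φ sA w0) ≠ w0 := fun h => hw1' (by
              have h3' : φ sA (φ sA (φ sA w0)) = w0 := by
                rw [← MulAut.mul_apply, ← MulAut.mul_apply, ← map_mul, ← map_mul,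
                  show sA * sA * sA = 1 by rw [← pow_two, ← pow_succ]; exact sA_next.2.2, map_one]
                rfl
              rwa [h] at h3')
            intro i j hij
            have h' := congrArg Subtype.val hij
            fin_cases i <;> fin_cases j <;> simp [g4] at h' ⊢
            all_goals first
              | exact hne.1 h' | exact hne.1 h'.symm | exact hne.2.1 h' | exact hne.2.1 h'.symm
              | exact hne.2.2 h' | exact hne.2.2 h'.symm | exact hw1' h' | exact hw1' h'.symm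
              | exact e12 h' | exact e12 h'.symm | exact e02 h' | exact e02 h'.symm
          simpa using Nat.card_le_card_of_injective g4 hg4
        omega
      intro a ha
      obtain ⟨⟨i, b, hbW, hb1⟩, hb⟩ := hbij.2 ⟨a, ha⟩
      have hb' : φ (gA i) b = a := congrArg Subtype.val hb
      rw [← hb']
      refine IsConj.trans ?_ (hmove _ _)
      rcases horb b hbW hb1 with h | h | h <;> rw [h]
      · exact hmove _ _
      · exact (hmove _ _).trans (hmove _ _)
    by_cases hex : ∃ t ∈ TN, t * t = 1 ∧ π t ≠ 1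
    · obtain ⟨t, -, ht2, ht1⟩ := hex
      refine no_cover h3 ((w0 : ↥N) : G) (t : G) fun z hz => ?_
      obtain ⟨n, hn, hn2, hn1, hzn⟩ := hinT z hz
      by_cases hπn : π n = 1
      · exact Or.inl (hzn.trans (hAconj ⟨n, hTK n hn hπn⟩
          (fun h => hn1 (congrArg Subtype.val h))).symm)
      · exact Or.inr (hzn.trans (hout1 n t hn2 hπn ht2 ht1))
    · push Not at hex
      refine no_cover h3 ((w0 : ↥N) : G) ((w0 : ↥N) : G) fun z hz => ?_
      obtain ⟨n, hn, hn2, hn1, hzn⟩ := hinT z hz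
      exact Or.inl (hzn.trans (hAconj ⟨n, hTK n hn (hex n hn hn2)⟩
        (fun h => hn1 (congrArg Subtype.val h))).symm)
  -- the permutation module
  have hw4 : ∀ g : A5, (g : Equiv.Perm (Fin 5)) 4 = 4 → φ g w = w := by
    intro g hg
    obtain ⟨k, h | h | h⟩ := fix_four g hg
    · rw [h]; exact (hWmem w).1 hwW k
    · rw [h, map_mul, MulAut.mul_apply, hws, (hWmem w).1 hwW k]
    · rw [h, map_mul, MulAut.mul_apply, map_mul, MulAut.mul_apply, hws, hws, (hWmem w).1 hwW k]
  let ev : Fin 5 → An := fun i => φ (gA i) w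
  have hev : ∀ (g : A5) (i : Fin 5), φ g (ev i) = ev ((g : Equiv.Perm (Fin 5)) i) := by
    intro g i
    have h : φ ((gA ((g : Equiv.Perm (Fin 5)) i))⁻¹ * g * gA i) w = w := by
      refine hw4 _ ?_
      rw [Subgroup.coe_mul, Subgroup.coe_mul, Equiv.Perm.mul_apply, Equiv.Perm.mul_apply, gA_four,
        InvMemClass.coe_inv, Equiv.Perm.inv_eq_iff_eq, gA_four]
    simp only [map_mul, MulAut.mul_apply] at h
    have h' := congrArg (φ (gA ((g : Equiv.Perm (Fin 5)) i))) h
    rwa [← MulAut.mul_apply, ← map_mul, mul_inv_cancel, map_one, MulAut.one_apply] at h'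
  have hevne : ∀ i, ev i ≠ 1 := fun i h => hw1 ((φ (gA i)).injective (by rw [map_one]; exact h))
  have hevinj : ∀ i j, ev i = ev j → i = j := by
    intro i j h
    by_contra hne
    refine hw1 (hfive' ((gA i)⁻¹ * gA j) ?_ w ((hWmem w).1 hwW) fun k => ?_)
    · intro h4
      rw [Subgroup.coe_mul, Equiv.Perm.mul_apply, gA_four, InvMemClass.coe_inv, Equiv.Perm.inv_eq_iff_eq,
        gA_four] at h4
      exact hne h4.symm
    · have hfix : φ ((gA i)⁻¹ * gA j) w = w := by
        rw [map_mul, MulAut.mul_apply, show φ (gA j) w = φ (gA i) w from h.symm, ← MulAut.mul_apply,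
          ← map_mul, inv_mul_cancel, map_one, MulAut.one_apply]
      conv_lhs => rw [← hfix, ← MulAut.mul_apply, ← map_mul, inv_mul_cancel_right, map_mul, MulAut.mul_apply,
        (hWmem w).1 hwW k, hfix]
  letI : CommGroup An :=
    { (inferInstance : Group An) with
      mul_comm := fun p q => Subtype.ext (Subtype.ext (SignalizerCoprime.comm_of_mem hA p.2 q.2)) }
  let pk : Bool → An → An := fun b x => if b then x else 1
  let F0 : Fin 16 → An := fun i =>
    pk (i.1.testBit 0) (ev 0) * pk (i.1.testBit 1) (ev 1) * pk (i.1.testBit 2) (ev 2) *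
      pk (i.1.testBit 3) (ev 3)
  have hpk : ∀ (b b' : Bool) (x : An), pk b x * pk b' x = pk (xor b b') x := by
    intro b b' x
    cases b <;> cases b' <;> simp [pk, hAn2 x]
  have hF0mul : ∀ i j, F0 i * F0 j = F0 (i ^^^ j) := by
    intro i j
    simp only [F0]
    rw [mul_mul_mul_comm, mul_mul_mul_comm _ (pk (i.1.testBit 2) (ev 2)), mul_mul_mul_comm _
      (pk (i.1.testBit 1) (ev 1)), hpk, hpk, hpk, hpk]
    have hb : ∀ n, n < 4 → (i ^^^ j).1.testBit n = xor (i.1.testBit n) (j.1.testBit n) :=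
      fun n hn => (by decide +kernel : ∀ i j : Fin 16, ∀ n < 4,
        (i ^^^ j).1.testBit n = xor (i.1.testBit n) (j.1.testBit n)) i j n hn
    rw [hb 0 (by norm_num), hb 1 (by norm_num), hb 2 (by norm_num), hb 3 (by norm_num)]
  have hsum : ev 4 = F0 15 := by
    set p := ev 0 * ev 1 * ev 2 * ev 3 * ev 4 with hp
    have hfix : ∀ g : A5, φ g p = p := by
      intro g
      simp only [hp, map_mul, hev]
      have := Equiv.prod_comp (g : Equiv.Perm (Fin 5)) ev
      simpa [Fin.prod_univ_five] using this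
    have hp1 : p = 1 := by
      obtain ⟨g, h5, hne⟩ := five_of_one
      exact hfive _ h5 hne p (hfix _)
    have hF15 : F0 15 = ev 0 * ev 1 * ev 2 * ev 3 := by
      rfl
    rw [hF15]
    rw [hp] at hp1
    exact (inv_eq_of_mul_eq_one_right hp1).symm.trans (inv_eq_of_mul_eq_one_right (hAn2 _))
  have hbit : ∀ i, F0 (bit i) = ev i := by
    intro i
    fin_cases i
    · change ev 0 * 1 * 1 * 1 = ev 0; simp
    · change 1 * ev 1 * 1 * 1 = ev 1; simp
    · change 1 * 1 * ev 2 * 1 = ev 2; simp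
    · change 1 * 1 * 1 * ev 3 = ev 3; simp
    · exact hsum.symm
  have hF0zero : F0 0 = 1 := by change (1 : An) * 1 * 1 * 1 = 1; simp
  have hsel : ∀ (b : Bool) (i : Fin 5), pk b (ev i) = F0 (sel b (bit i)) := by
    intro b i
    cases b <;> simp [pk, sel, hbit, hF0zero]
  have himg : ∀ (g : A5) (i : Fin 16), φ g (F0 i) = F0 (img g i) := by
    intro g i
    have hmp : ∀ (b : Bool) (k : Fin 5),
        φ g (pk b (ev k)) = F0 (sel b (bit ((g : Equiv.Perm (Fin 5)) k))) := by
      intro b k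
      cases b <;> simp [pk, sel, hev, hbit, hF0zero]
    rw [show F0 i = pk (i.1.testBit 0) (ev 0) * pk (i.1.testBit 1) (ev 1) * pk (i.1.testBit 2) (ev 2) *
      pk (i.1.testBit 3) (ev 3) from rfl, map_mul, map_mul, map_mul, hmp, hmp, hmp, hmp, hF0mul, hF0mul,
      hF0mul]
    rfl
  have hker : ∀ i, F0 i = 1 → i = 0 := by
    intro i hi
    by_contra hne
    obtain ⟨g, h | h⟩ := img_inv i hne <;> have h1 := himg g i <;> rw [hi, map_one, h] at h1
    · exact hevne 4 (hsum.trans h1.symm)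
    · have h2 := hF0mul 7 8
      rw [← h1, one_mul, show (7 : Fin 16) ^^^ 8 = 15 by decide, ← hsum,
        show (8 : Fin 16) = bit 3 by decide, hbit] at h2
      exact absurd (hevinj 3 4 h2) (by decide)
  have hF0inj : Function.Injective F0 := by
    intro i j h
    have h1 : F0 (i ^^^ j) = 1 := by rw [← hF0mul, h, hAn2]
    exact (by decide : ∀ i j : Fin 16, i ^^^ j = 0 → i = j) i j (hker _ h1)
  have hF0bij : Function.Bijective F0 :=
    (Nat.bijective_iff_injective_and_card F0).2 ⟨hF0inj, by rw [hAn16, Nat.card_fin]⟩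
  let F : Fin 16 → G := fun i => ((F0 i : An) : G)
  have hFmul : ∀ i j, F i * F j = F (i ^^^ j) := fun i j => by
    simp only [F]
    rw [← hF0mul]
    rfl
  have hFA : ∀ i, F i ∈ A := fun i => Subgroup.mem_subgroupOf.1 (F0 i).2
  have hFsurj : ∀ a ∈ A, ∃ i, F i = a := by
    intro a ha
    obtain ⟨i, hi⟩ := hF0bij.2 ⟨⟨a, hAN ha⟩, ha⟩
    exact ⟨i, by simp only [F, hi]⟩
  have hFinj : Function.Injective F := fun i j h => hF0inj (Subtype.ext (Subtype.ext h))
  have hmove : ∀ (n : ↥N) (i : Fin 16), (n : G) * F i * (n : G)⁻¹ = F (img (π n) i) := by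
    intro n i
    simp only [F, ← himg, hφ]
    rfl
  have hAconj : ∀ i, i ≠ 0 → IsConj (F 15) (F i) ∨ IsConj (F 7) (F i) := by
    intro i hi
    obtain ⟨g, h1, h2⟩ := img_trans i hi
    obtain ⟨n, rfl⟩ := hπs g
    by_cases hs : Short i
    · exact Or.inl (isConj_iff.2 ⟨n, by rw [hmove, h1 hs]⟩)
    · exact Or.inr (isConj_iff.2 ⟨n, by rw [hmove, h2 ⟨hi, hs⟩]⟩)
  have hout2 := houter fun a ha => by
    obtain ⟨i, rfl⟩ := hF0bij.2 a
    rw [himg] at ha
    obtain ⟨j, hj⟩ := (by decide : ∀ i, act 1 i = i → ∃ j, i = j ^^^ act 1 j) i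
      (by rw [← img_vA]; exact hF0inj ha)
    exact ⟨F0 j, by rw [himg, img_vA, hF0mul, ← hj]⟩
  obtain ⟨t, htT, ht2, ht1⟩ : ∃ t ∈ TN, t * t = 1 ∧ π t ≠ 1 := by
    by_contra hno
    push Not at hno
    refine no_cover h3 (F 15) (F 7) fun z hz => ?_
    obtain ⟨n, hn, hn2, hn1, hzn⟩ := hinT z hz
    obtain ⟨i, hi⟩ := hFsurj _ (Subgroup.mem_subgroupOf.1 (hTK n hn (hno n hn hn2)))
    have hi0 : i ≠ 0 := fun h0 => hn1 (Subtype.ext (by
      rw [← hi, h0]; simp [F, hF0zero]))
    rw [← hi] at hzn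
    exact (hAconj i hi0).imp (fun h => hzn.trans h.symm) fun h => hzn.trans h.symm
  have hclass : ∀ z : G, orderOf z = 2 →
      IsConj z (F 15) ∨ IsConj z (F 7) ∨ IsConj z (t : G) := by
    intro z hz
    obtain ⟨n, hn, hn2, hn1, hzn⟩ := hinT z hz
    by_cases hπn : π n = 1
    · obtain ⟨i, hi⟩ := hFsurj _ (Subgroup.mem_subgroupOf.1 (hTK n hn hπn))
      have hi0 : i ≠ 0 := fun h0 => hn1 (Subtype.ext (by rw [← hi, h0]; simp [F, hF0zero]))
      rw [← hi] at hzn
      rcases hAconj i hi0 with h | h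
      · exact Or.inl (hzn.trans h.symm)
      · exact Or.inr (Or.inl (hzn.trans h.symm))
    · exact Or.inr (Or.inr (hzn.trans (hout2 n t hn2 hπn ht2 ht1)))
  have hne1 : ¬ IsConj (F 15) (t : G) := fun h => no_cover h3 (F 7) (t : G) fun z hz => by
    rcases hclass z hz with h' | h' | h'
    exacts [Or.inr (h'.trans h), Or.inl h', Or.inr h']
  have hne2 : ¬ IsConj (F 7) (t : G) := fun h => no_cover h3 (F 15) (t : G) fun z hz => by
    rcases hclass z hz with h' | h' | h'
    exacts [Or.inl h', Or.inr (h'.trans h), Or.inr h']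
  have hne3 : ¬ IsConj (F 15) (F 7) := fun h => no_cover h3 (F 7) (t : G) fun z hz => by
    rcases hclass z hz with h' | h' | h'
    exacts [Or.inl (h'.trans h), Or.inl h', Or.inr h']
  -- involutions over each element of the four-group
  have hinvk : ∀ m : ↥N, m * m = 1 → ∀ k, k ≠ 0 → π m = vA k → ∃ u ∈ TN, u * u = 1 ∧ π u = vA k := by
    intro m hm k hk hmk
    obtain ⟨u, hu, huk⟩ := hTsurj k
    obtain ⟨a, ha, o, ho, hao⟩ := hKmem (u⁻¹ * m) (hπker ▸ MonoidHom.mem_ker.2 (by
      rw [map_mul, map_inv, huk, hmk, inv_mul_cancel]))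
    have hua : u * a ∈ TN := mul_mem hu (hAT ha)
    refine ⟨u * a, hua, hnoO TN hTN2 _ (mul_mem hua hua) ?_, by
      rw [map_mul, huk, show π a = 1 from MonoidHom.mem_ker.1 (hπker.symm ▸ Subgroup.mem_sup_left ha),
        mul_one]⟩
    have hmod : QuotientGroup.mk' O (u * a) = QuotientGroup.mk' O m := by
      rw [QuotientGroup.mk'_eq_mk']
      exact ⟨o, ho, by rw [mul_assoc, ← hao, mul_inv_cancel_left]⟩
    rw [← QuotientGroup.eq_one_iff]
    change QuotientGroup.mk' O (u * a * (u * a)) = 1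
    rw [map_mul, hmod, ← map_mul, hm, map_one]
  obtain ⟨hh, hhc⟩ := involution_conj (π t) (by rw [← map_mul, ht2, map_one]) ht1
  obtain ⟨m0, rfl⟩ := hπs hh
  obtain ⟨sN, hsN⟩ := hπs sA
  obtain ⟨y, hyT, hy2, hy1⟩ := hinvk (m0 * t * m0⁻¹)
    (by rw [show m0 * t * m0⁻¹ * (m0 * t * m0⁻¹) = m0 * (t * t) * m0⁻¹ by group, ht2]; group)
    1 (by decide) (by rw [map_mul, map_mul, map_inv, hhc])
  obtain ⟨z, hzT, hz2, hz1⟩ := hinvk (sN * y * sN⁻¹)
    (by rw [show sN * y * sN⁻¹ * (sN * y * sN⁻¹) = sN * (y * y) * sN⁻¹ by group, hy2]; group)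
    2 (by decide) (by rw [map_mul, map_mul, map_inv, hsN, hy1, sA_next.1])
  -- make them commute
  have hyinv : y⁻¹ = y := inv_eq_of_mul_eq_one_right hy2
  have hFN : ∀ i, (F0 i : ↥N) * (F0 i : ↥N) = 1 := fun i => congrArg Subtype.val (hAn2 (F0 i))
  obtain ⟨z, hzT, hz2, hz1, hyz⟩ : ∃ z ∈ TN, z * z = 1 ∧ π z = vA 2 ∧ y * z = z * y := by
    have hzinv : z⁻¹ = z := inv_eq_of_mul_eq_one_right hz2
    have hπu : π (y * z * (y * z)) = 1 := by
      simp only [map_mul, hy1, hz1, vA_mul]; decide +kernel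
    have huA := hTK _ (mul_mem (mul_mem hyT hzT) (mul_mem hyT hzT)) hπu
    obtain ⟨i, hi⟩ := hF0bij.2 ⟨_, huA⟩
    have hi' : (F0 i : ↥N) = y * z * (y * z) := by rw [hi]
    have hconjy : y * (F0 i : ↥N) * y⁻¹ = F0 (act 1 i) := by
      rw [← img_vA, ← hy1, ← himg, hφ]
    have hconjz : z * (F0 i : ↥N) * z⁻¹ = F0 (act 2 i) := by
      rw [← img_vA, ← hz1, ← himg, hφ]
    have hiinv : ((F0 i : ↥N))⁻¹ = F0 i := inv_eq_of_mul_eq_one_right (hFN i)
    have h1 : act 1 i = i := hF0inj (Subtype.ext (by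
      rw [← hconjy]
      conv_rhs => rw [← hiinv]
      rw [hi', hyinv]
      calc y * (y * z * (y * z)) * y = y * y * (z * y * z * y) := by group
        _ = z * y * z * y := by rw [hy2, one_mul]
        _ = z⁻¹ * y⁻¹ * z⁻¹ * y⁻¹ := by rw [hzinv, hyinv]
        _ = _ := by group))
    have h2 : act 2 i = i := hF0inj (Subtype.ext (by
      rw [← hconjz]
      conv_rhs => rw [← hiinv]
      rw [hi', hzinv]
      calc z * (y * z * (y * z)) * z = z * y * z * y * (z * z) := by group
        _ = z * y * z * y := by rw [hz2, mul_one]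
        _ = z⁻¹ * y⁻¹ * z⁻¹ * y⁻¹ := by rw [hzinv, hyinv]
        _ = _ := by group))
    have key : ∀ x : ↥N, x * x = 1 → y * x * (y * x) = 1 → y * x = x * y := fun x hx h => by
      calc y * x = (y * x)⁻¹ := (inv_eq_of_mul_eq_one_right h).symm
        _ = x * y := by rw [mul_inv_rev, hyinv, inv_eq_of_mul_eq_one_right hx]
    rcases (by decide : ∀ i, act 1 i = i → act 2 i = i → i = 0 ∨ i = 15) i h1 h2 with rfl | rfl
    · exact ⟨z, hzT, hz2, hz1, key z hz2 (by rw [← hi', hF0zero]; rfl)⟩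
    · have hzc : ∀ j, z * (F0 j : ↥N) = (F0 (act 2 j) : ↥N) * z := fun j => by
        rw [← img_vA, ← hz1, ← himg, hφ]; group
      have hyc : ∀ j, y * (F0 j : ↥N) = (F0 (act 1 j) : ↥N) * y := fun j => by
        rw [← img_vA, ← hy1, ← himg, hφ]; group
      have hFF : ∀ j k, (F0 j : ↥N) * (F0 k : ↥N) = F0 (j ^^^ k) := fun j k => by
        rw [← hF0mul]; rfl
      refine ⟨z * (F0 9 : ↥N), mul_mem hzT (hAT (F0 9).2), ?_, ?_, key _ ?_ ?_⟩
      · calc z * (F0 9 : ↥N) * (z * (F0 9 : ↥N)) = (z * (F0 9 : ↥N) * z) * (F0 9 : ↥N) := by group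
          _ = (F0 9 : ↥N) * (z * z) * (F0 9 : ↥N) := by
            rw [hzc, show act 2 9 = 9 by decide]; group
          _ = 1 := by rw [hz2, mul_one, hFN]
      · rw [map_mul, hz1, show π (F0 9 : ↥N) = 1 from
          MonoidHom.mem_ker.1 (hπker.symm ▸ Subgroup.mem_sup_left (F0 9).2), mul_one]
      · calc z * (F0 9 : ↥N) * (z * (F0 9 : ↥N)) = (z * (F0 9 : ↥N) * z) * (F0 9 : ↥N) := by group
          _ = (F0 9 : ↥N) * (z * z) * (F0 9 : ↥N) := by
            rw [hzc, show act 2 9 = 9 by decide]; group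
          _ = 1 := by rw [hz2, mul_one, hFN]
      · have hyzc : ∀ j, y * z * (F0 j : ↥N) = (F0 (act 1 (act 2 j)) : ↥N) * (y * z) := fun j => by
          rw [mul_assoc, hzc, ← mul_assoc, hyc, mul_assoc]
        calc y * (z * (F0 9 : ↥N)) * (y * (z * (F0 9 : ↥N)))
            = y * z * (F0 9 : ↥N) * (y * z) * (F0 9 : ↥N) := by group
          _ = (F0 (act 1 (act 2 9)) : ↥N) * (y * z * (y * z)) * (F0 9 : ↥N) := by rw [hyzc]; group
          _ = 1 := by
            rw [← hi', hFF, hFF, show act 1 (act 2 9) ^^^ 15 ^^^ 9 = 0 by decide, hF0zero]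
            rfl
  let UN : Fin 4 → ↥N := ![1, y, z, y * z]
  have hUmul : ∀ k l, UN k * UN l = UN (k ^^^ l) := by
    have e1 : y * (y * z) = z := by rw [← mul_assoc, hy2, one_mul]
    have e2 : z * (y * z) = y := by rw [← mul_assoc, ← hyz, mul_assoc, hz2, mul_one]
    have e3 : y * z * y = z := by rw [hyz, mul_assoc, hy2, mul_one]
    have e4 : y * z * z = y := by rw [mul_assoc, hz2, mul_one]
    have e5 : y * z * (y * z) = 1 := by rw [← mul_assoc, e3, hz2]
    intro k l
    fin_cases k <;> fin_cases l <;>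
      simp [UN, hy2, hz2, e1, e2, e3, e4, e5, hyz.symm]
  have hUT : ∀ k, UN k ∈ TN := by
    intro k
    fin_cases k
    exacts [one_mem _, hyT, hzT, mul_mem hyT hzT]
  have hUπ : ∀ k, π (UN k) = vA k := by
    intro k
    fin_cases k
    · exact map_one π
    · exact hy1
    · exact hz1
    · change π (y * z) = vA 3
      rw [map_mul, hy1, hz1, vA_mul]; rfl
  have hF0T : ∀ i, (F0 i : ↥N) ∈ TN := fun i => hAT (F0 i).2
  have hF15 : ∀ n : ↥N, img (π n) 15 = 15 → (n : G) * F 15 = F 15 * n := fun n hn => by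
    have := hmove n 15
    rw [hn] at this
    exact mul_inv_eq_iff_eq_mul.1 this
  refine ⟨{
    A := A
    F := F
    U := fun k => (UN k : G)
    T := T
    s := (sN : G)
    F_mem := hFA
    F_surj := hFsurj
    F_inj := hFinj
    F_mul := hFmul
    U_mul := fun k l => by rw [← Subgroup.coe_mul, hUmul]
    U_act := fun k i => by rw [hmove, hUπ, img_vA]
    U_mem := fun k => hTof _ (hUT k)
    A_le := fun a ha => hTof ⟨a, hAN ha⟩ (hAT ha)
    T_cover := fun x hx => by
      obtain ⟨n, hn, rfl⟩ := hTmem x hx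
      obtain ⟨k, hk⟩ := hTV n hn
      obtain ⟨i, hi⟩ := hFsurj _ (Subgroup.mem_subgroupOf.1
        (hTK (n * UN k) (mul_mem hn (hUT k)) (by
          rw [map_mul, hk, hUπ, vA_mul, (by decide : ∀ k : Fin 4, k ^^^ k = 0) k]; rfl)))
      refine ⟨i, k, ?_⟩
      rw [hi, Subgroup.coe_mul, mul_assoc, ← Subgroup.coe_mul, hUmul,
        (by decide : ∀ k : Fin 4, k ^^^ k = 0) k]
      simp [UN]
    U_notA := fun k hk h => vA_ne k hk (by
      rw [← hUπ]
      exact MonoidHom.mem_ker.1 (hπker.symm ▸ Subgroup.mem_sup_left (Subgroup.mem_subgroupOf.2 h)))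
    s_comm := hF15 sN (by rw [hsN, img_sA])
    s_next := ?_
    strong := ?_
    short_conj := fun i hi => by
      obtain ⟨g, h1, -⟩ := img_trans i ((by decide : ∀ i, Short i → i ≠ 0) i hi)
      obtain ⟨n, rfl⟩ := hπs g
      exact isConj_iff.2 ⟨n, by rw [hmove, h1 hi]⟩
    short_long := fun i j hi hj h => by
      obtain ⟨g, h1, -⟩ := img_trans i ((by decide : ∀ i, Short i → i ≠ 0) i hi)
      obtain ⟨g', -, h2'⟩ := img_trans j hj.1
      obtain ⟨n, rfl⟩ := hπs g
      obtain ⟨n', rfl⟩ := hπs g'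
      have ci : IsConj (F 15) (F i) := isConj_iff.2 ⟨n, by rw [hmove, h1 hi]⟩
      have cj : IsConj (F 7) (F j) := isConj_iff.2 ⟨n', by rw [hmove, h2' hj]⟩
      exact hne3 ((ci.trans h).trans cj.symm) }, rfl⟩
  · intro k hk
    have hnext : π (sN * UN k.1 * sN⁻¹) = vA k.2 := by
      simp only [List.mem_cons, List.not_mem_nil, or_false] at hk
      rw [map_mul, map_mul, map_inv, hsN, hUπ]
      rcases hk with rfl | rfl
      · exact sA_next.1
      · exact sA_next.2.1
    set n := sN * UN k.1 * sN⁻¹ with hn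
    have hn2 : n * n = 1 := by
      rw [hn, show sN * UN k.1 * sN⁻¹ * (sN * UN k.1 * sN⁻¹) = sN * (UN k.1 * UN k.1) * sN⁻¹ by group,
        hUmul, (by decide : ∀ k : Fin 4, k ^^^ k = 0)]
      simp [UN]
    obtain ⟨a, ha, o, ho, hao⟩ := hKmem ((UN k.2)⁻¹ * n) (hπker ▸ MonoidHom.mem_ker.2 (by
      rw [map_mul, map_inv, hUπ, hnext, inv_mul_cancel]))
    have hne' : n = UN k.2 * a * o := by rw [mul_assoc, ← hao, mul_inv_cancel_left]
    obtain ⟨i, hi⟩ := hF0bij.2 ⟨a, ha⟩
    have hia : (F0 i : ↥N) = a := by rw [hi]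
    have hkk : (k.2 = 2 ∨ k.2 = 3) := by
      simp only [List.mem_cons, List.not_mem_nil, or_false] at hk
      rcases hk with rfl | rfl <;> simp
    have hsq : UN k.2 * a * (UN k.2 * a) = 1 := by
      refine hnoO TN hTN2 _ (mul_mem (mul_mem (hUT _) (hAT ha)) (mul_mem (hUT _) (hAT ha))) ?_
      have hmod : QuotientGroup.mk' O (UN k.2 * a) = QuotientGroup.mk' O n := by
        rw [QuotientGroup.mk'_eq_mk']
        exact ⟨o, ho, hne'.symm⟩
      rw [← QuotientGroup.eq_one_iff]
      change QuotientGroup.mk' O (UN k.2 * a * (UN k.2 * a)) = 1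
      rw [map_mul, hmod, ← map_mul, hn2, map_one]
    have hfix : act k.2 i = i := by
      have h1 : UN k.2 * a * (UN k.2)⁻¹ = (F0 (act k.2 i) : ↥N) := by
        rw [← img_vA, ← hUπ, ← himg, hφ, hia]
      have hinvU : (UN k.2)⁻¹ = UN k.2 := inv_eq_of_mul_eq_one_right (by
        rw [hUmul, (by decide : ∀ k : Fin 4, k ^^^ k = 0)]; simp [UN])
      rw [hinvU] at h1
      have h2 : (F0 (act k.2 i) : ↥N) * a = 1 := by rw [← h1, ← hsq]; group
      refine hF0inj (Subtype.ext ?_)
      rw [hia, mul_eq_one_iff_eq_inv.1 h2]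
      exact inv_eq_of_mul_eq_one_right (congrArg Subtype.val (hAn2 ⟨a, ha⟩))
    have hev' : Evn i := by
      rcases hkk with h | h <;> rw [h] at hfix
      · exact (by decide : ∀ i, act 2 i = i → Evn i) i hfix
      · exact (by decide : ∀ i, act 3 i = i → Evn i) i hfix
    refine ⟨i, hev', (o : G), ?_, ?_, ?_⟩
    · exact congrArg Subtype.val (hAO _ (F0 15).2 o ho).symm
    · rw [Subgroup.orderOf_coe]
      exact Nat.not_even_iff_odd.1 fun he => HallCore.not_dvd_card_pPrimeCore 2 _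
        (he.two_dvd.trans (Subgroup.orderOf_dvd_natCard _ ho))
    · have := congrArg Subtype.val hne'
      simp only [hn, Subgroup.coe_mul, InvMemClass.coe_inv, ← hia] at this
      exact this
  · intro a ha g hg
    by_cases ha1 : a = 1
    · subst ha1
      simpa using one_mem A
    obtain ⟨n, hn, hne⟩ := hTmem _ hg
    by_contra hgA
    have hπn : π n ≠ 1 := fun h => hgA (hne ▸ Subgroup.mem_subgroupOf.1 (hTK n hn h))
    have hn2 : n * n = 1 := Subtype.ext (by
      rw [Subgroup.coe_mul, hne, ← pow_two]; exact sq_conj (hA.2 a ha) g)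
    obtain ⟨i, rfl⟩ := hFsurj a ha
    have hi0 : i ≠ 0 := fun h => ha1 (by rw [h]; simp [F, hF0zero])
    have h1 : IsConj (F i) (n : G) := isConj_iff.2 ⟨g, hne.symm⟩
    rcases hAconj i hi0 with h | h
    · exact hne1 ((h.trans h1).trans (hout2 n t hn2 hπn ht2 ht1))
    · exact hne2 ((h.trans h1).trans (hout2 n t hn2 hπn ht2 ht1))

end Cfsg.Agent.AEightThreeSetup62
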