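import Mathlib
import Cfsg.Agent.Lib.AN82Data

/-!
# S3344: frames

The four tables that the centralizer of the involution can have, copies of them inside a group, and the
normalised pair of swapping involutions in the table of the centralizer in `Alt(8)`.

Element `(q, i, j)` (`q : Fin 32` in the extraspecial group, `i : Fin 3`, `j : Fin 2`) has index
`6 * q + 2 * i + j`; the central involution is `96`, the extraspecial group consists of the multiples of six.
-/

set_option autoImplicit false
set_option maxRecDepth 100000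

namespace Cfsg.Agent.AN82

open Cfsg.Agent.CosetCertCore Cfsg.Agent.AN82Data

/-- Indices of the members. -/
abbrev Ix : Type := Fin 192

/-- An index. -/
def ix (n : Nat) : Ix := ⟨n % 192, Nat.mod_lt _ (by norm_num)⟩

/-- A byte of a packed list. -/
def byteAt (t i : Nat) : Nat := Nat.land (Nat.shiftRight t (8 * i)) 255

/-- The tables: `0` centralizer in `Alt(8)`, `2` centralizer in `M₁₂`. -/
abbrev Kind : Type := Fin 4

/-- The rows of a table. -/
def rowsOf : Kind → Tbl
  | 0 => rows0
  | 1 => rows1
  | 2 => rows2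
  | 3 => rows3

/-- The inverses of a table. -/
def invOf : Kind → Nat
  | 0 => inv0
  | 1 => inv1
  | 2 => inv2
  | 3 => inv3

/-- The product. -/
noncomputable def mul (k : Kind) (a b : Ix) : Ix := ix (byteAt (chunk (rowsOf k) a.1) b.1)
/-- The inverse. -/
def inv (k : Kind) (a : Ix) : Ix := ix (byteAt (invOf k) a.1)
/-- The conjugate of `x` by `a`. -/
noncomputable def cj (k : Kind) (a x : Ix) : Ix := mul k (mul k a x) (inv k a)
/-- Commuting. -/
noncomputable def comm (k : Kind) (a b : Ix) : Bool := mul k a b == mul k b a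

/-- The central involution. -/
def zI : Ix := 96

/-- The indices of the extraspecial normal subgroup. -/
def inQ (a : Ix) : Bool := a.1 % 6 == 0

/-- A copy of a table as the centralizer of an involution. -/
structure Frame (k : Kind) (G : Type*) [Group G] where
  f : Ix → G
  inj : Function.Injective f
  map_mul : ∀ a b, f (mul k a b) = f a * f b
  cent : ∀ g : G, g * f zI = f zI * g ↔ ∃ i, f i = g

theorem mul_zero_zero : ∀ k : Kind, mul k 0 0 = 0 := by decide +kernel

theorem mul_inv_self : ∀ k : Kind, ∀ a : Ix, mul k a (inv k a) = 0 := by decide +kernel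

theorem comm_iff {k : Kind} {a b : Ix} : comm k a b = true ↔ mul k a b = mul k b a := beq_iff_eq

theorem zI_facts : ∀ k : Kind, mul k zI zI = 0 ∧ ∀ a : Ix, comm k a zI = true := by decide +kernel

namespace Frame

variable {k : Kind} {G : Type*} [Group G] (F : Frame k G)

/-- The central involution in the group. -/
def z : G := F.f zI

theorem map_one : F.f 0 = 1 := by
  have h := F.map_mul 0 0
  rw [mul_zero_zero] at h
  exact left_eq_mul.1 h

theorem map_inv (a : Ix) : F.f (inv k a) = (F.f a)⁻¹ := by
  refine eq_inv_of_mul_eq_one_right ?_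
  rw [← F.map_mul, mul_inv_self, F.map_one]

theorem map_cj (a x : Ix) : F.f (cj k a x) = F.f a * F.f x * (F.f a)⁻¹ := by
  rw [cj, F.map_mul, F.map_mul, F.map_inv]

theorem eq_iff {a b : Ix} : F.f a = F.f b ↔ a = b := F.inj.eq_iff

theorem eq_one_iff {a : Ix} : F.f a = 1 ↔ a = 0 := by rw [← F.map_one, F.eq_iff]

theorem commute_iff {a b : Ix} : F.f a * F.f b = F.f b * F.f a ↔ comm k a b = true := by
  rw [comm_iff, ← F.map_mul, ← F.map_mul, F.eq_iff]

theorem exists_of_commute {g : G} (h : g * F.z = F.z * g) : ∃ i, F.f i = g := (F.cent g).1 h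

theorem sq_eq_one_iff {a : Ix} : F.f a * F.f a = 1 ↔ mul k a a = 0 := by
  rw [← F.map_mul, F.eq_one_iff]

theorem z_sq : F.z * F.z = 1 := by rw [z, ← F.map_mul, (zI_facts k).1, F.map_one]

theorem z_ne_one : F.z ≠ 1 := fun h => absurd (F.eq_one_iff.1 h) (by decide)

/-- The table as a subgroup. -/
def L : Subgroup G := Subgroup.centralizer ({F.z} : Set G)

theorem mem_L {g : G} : g ∈ F.L ↔ ∃ i, F.f i = g := by
  rw [L, Subgroup.mem_centralizer_singleton_iff]; exact F.cent g

theorem card_L : Nat.card F.L = 192 := by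
  rw [← Nat.card_fin 192]
  refine (Nat.card_congr (Equiv.ofBijective
    (fun i : Ix => (⟨F.f i, F.mem_L.2 ⟨i, rfl⟩⟩ : F.L))
    ⟨fun i j e => F.inj (congrArg Subtype.val e), ?_⟩)).symm
  rintro ⟨g, hg⟩
  obtain ⟨i, rfl⟩ := F.mem_L.1 hg
  exact ⟨i, rfl⟩

end Frame

/-! ### The normalised pair in table `0`

Involution classes of table `0`: `96`; the planes `E₀ ∋ 6`, `E₁ ∋ 48`, `E₂ ∋ 36` (six elements each);
`o₀ ∋ 1`, `o₁ ∋ 13` (twelve each, outside the extraspecial group). -/

/-- The centralizer of `6`. -/
def tZero : List Ix := [0, 3, 6, 9, 24, 27, 30, 33, 48, 51, 54, 57, 72, 75, 78, 81, 96, 99, 102, 105, 120, 123, 126, 129, 144, 147, 150, 153, 168, 171, 174, 177]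

/-- The centralizer of `48`. -/
def tOne : List Ix := [0, 3, 6, 9, 12, 15, 18, 21, 48, 51, 54, 57, 60, 63, 66, 69, 96, 99, 102, 105, 108, 111, 114, 117, 144, 147, 150, 153, 156, 159, 162, 165]

/-- The elementary abelian subgroup of order sixteen. -/
def aL : List Ix := [0, 3, 6, 9, 48, 51, 54, 57, 96, 99, 102, 105, 144, 147, 150, 153]

/-- The action of the first swapping involution on `tZero`. -/
def actT0 : Nat := 0xbfbebdbcbbbab9b8b7b6b5b4b3b2b1b0af1badac51aaa97ba7a6a5a4a3a2a1a09f9e9d9c9b9a999897039594399291638f8e8d8c8b8a898887868584838248807f7e7d7ca87a791e77767574737271706f6e6d6c6b6a306867666564906261065f5e5d5c5b5a5958575655545352ab504f214d4c4b4a498147464544434241403f3e3d3c3b3a933837093534333231692f2e2d2c2b2a29282726252423224e201f781d1cae1a191817161514131211100f0e0d0c0b0a36080760050496020100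

/-- The action of the second swapping involution on `tOne`. -/
def actT1 : Nat := 0xbfbebdbcbbbab9b8b7b6b5b4b3b2b1b0afaeadacabaaa9a8a7a642a4a375a1a00f9e9d9c9b9a669897399594039291908f8e8d8c8b8a898887868584838281807f7e7d7c7b7a79787776a274731571706f6e6d3c6b6a066867996564636261305f5e5d5c5b5a595857565554535251504f4e4d4c4b4a49484746124443a541403f3e3d6c3b3a963837093534333231602f2e2d2c2b2a292827262524232221201f1e1d1c1b1a191817167214134511109f0e0d0c0b0a36080769050493020100

/-- The action of the first swapping involution. -/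
def act0 (a : Ix) : Ix := ix (byteAt actT0 a.1)

/-- The action of the second swapping involution. -/
def act1 (a : Ix) : Ix := ix (byteAt actT1 a.1)

/-- Two involutions exchanging `z` with `6`, respectively with `48`, acting as prescribed. -/
structure Pair {G : Type*} [Group G] (F : Frame 0 G) where
  n0 : G
  n1 : G
  sq0 : n0 * n0 = 1
  sq1 : n1 * n1 = 1
  conj0 : ∀ c ∈ tZero, n0 * F.f c * n0⁻¹ = F.f (act0 c)
  conj1 : ∀ c ∈ tOne, n1 * F.f c * n1⁻¹ = F.f (act1 c)

/-- A pair together with the fact that the third plane is not fused to `z`. -/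
structure Good {G : Type*} [Group G] (F : Frame 0 G) extends Pair F where
  not_conj : ¬ IsConj F.z (F.f 36)

end Cfsg.Agent.AN82
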