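import Mathlib
import Cfsg.Agent.Lib.M12Inv51Data

/-!
The centralizer of a central involution of the Mathieu group of degree twelve, as a table, and copies
of it inside an arbitrary group.
-/

set_option autoImplicit false
set_option maxRecDepth 100000

namespace Cfsg.Agent.M12Inv51

open Cfsg.Agent.CosetCertCore Cfsg.Agent.M12Inv51Data

/-- Indices of the members. -/
abbrev Ix : Type := Fin 192

/-- An index. -/
def ix (n : Nat) : Ix := ⟨n % 192, Nat.mod_lt _ (by norm_num)⟩

/-- A byte of a packed list. -/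
def byteAt (t i : Nat) : Nat := Nat.land (Nat.shiftRight t (8 * i)) 255

/-- The product. -/
noncomputable def mul (a b : Ix) : Ix := ix (byteAt (chunk rows a.1) b.1)
/-- The inverse. -/
def inv (a : Ix) : Ix := ix (byteAt invT a.1)
/-- The conjugate of `x` by `a`. -/
noncomputable def cj (a x : Ix) : Ix := mul (mul a x) (inv a)
/-- Powers. -/
noncomputable def pw (a : Ix) (k : Nat) : Ix :=
  Nat.rec (motive := fun _ => Ix) 0 (fun _ p => mul p a) k
/-- Commuting. -/
noncomputable def comm (a b : Ix) : Bool := mul a b == mul b a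

/-- The central involution. -/
def zI : Ix := ix 72
/-- The involution `b`. -/
def bI : Ix := ix 66
/-- The product of the two. -/
def bzI : Ix := ix 83
/-- The involution `u`. -/
def uI : Ix := ix 1
/-- The involution `t`. -/
def tI : Ix := ix 4
/-- The product `t z`. -/
def sI : Ix := ix 151
/-- An element of order three. -/
def cI : Ix := ix 137
/-- An involution outside the normal extraspecial subgroup. -/
def oI : Ix := ix 5

/-- Index lists. -/
def ixs (l : List Nat) : List Ix := l.map ix
/-- Centralizer of the four group. -/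
def rI : List Ix := ixs rL
/-- A Sylow 2-subgroup. -/
def sIs : List Ix := ixs sL
/-- A class. -/
def qbI : List Ix := ixs qbL
/-- A class. -/
def qaI : List Ix := ixs qaL
/-- A class. -/
def oIs : List Ix := ixs oL

/-- Closed under products and inverses, containing the identity, without repetition. -/
noncomputable def subOK (L : List Ix) : Bool :=
  L.elem 0 && decide L.Nodup && L.all fun a => L.elem (inv a) && L.all fun b => L.elem (mul a b)

/-- A copy of the table as the centralizer of an involution. -/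
structure Frame (G : Type*) [Group G] where
  f : Ix → G
  inj : Function.Injective f
  map_mul : ∀ a b, f (mul a b) = f a * f b
  cent : ∀ g : G, g * f zI = f zI * g ↔ ∃ i, f i = g

theorem mul_zero_zero : mul 0 0 = 0 := by decide +kernel

theorem mul_inv_self : ∀ a : Ix, mul a (inv a) = 0 := by decide +kernel

theorem comm_iff {a b : Ix} : comm a b = true ↔ mul a b = mul b a := beq_iff_eq

namespace Frame

variable {G : Type*} [Group G] (F : Frame G)

/-- The central involution in the group. -/
def z : G := F.f zI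

theorem map_one : F.f 0 = 1 := by
  have h := F.map_mul 0 0
  rw [mul_zero_zero] at h
  exact left_eq_mul.1 h

theorem map_inv (a : Ix) : F.f (inv a) = (F.f a)⁻¹ := by
  refine eq_inv_of_mul_eq_one_right ?_
  rw [← F.map_mul, mul_inv_self, F.map_one]

theorem map_cj (a x : Ix) : F.f (cj a x) = F.f a * F.f x * (F.f a)⁻¹ := by
  rw [cj, F.map_mul, F.map_mul, F.map_inv]

theorem map_pw (a : Ix) (k : Nat) : F.f (pw a k) = F.f a ^ k := by
  induction k with
  | zero => rw [pow_zero]; exact F.map_one
  | succ k ih => rw [pow_succ, ← ih]; exact F.map_mul _ _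

theorem eq_iff {a b : Ix} : F.f a = F.f b ↔ a = b := F.inj.eq_iff

theorem eq_one_iff {a : Ix} : F.f a = 1 ↔ a = 0 := by rw [← F.map_one, F.eq_iff]

theorem commute_iff {a b : Ix} : F.f a * F.f b = F.f b * F.f a ↔ comm a b = true := by
  rw [comm_iff, ← F.map_mul, ← F.map_mul, F.eq_iff]

theorem mem_centralizer_iff {g : G} :
    g ∈ Subgroup.centralizer ({F.z} : Set G) ↔ ∃ i, F.f i = g := by
  rw [Subgroup.mem_centralizer_singleton_iff]; exact F.cent g

theorem exists_of_commute {g : G} (h : g * F.z = F.z * g) : ∃ i, F.f i = g := (F.cent g).1 h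

theorem commute_z (i : Ix) : F.f i * F.z = F.z * F.f i := (F.cent _).2 ⟨i, rfl⟩

theorem sq_eq_one_iff {a : Ix} : F.f a * F.f a = 1 ↔ mul a a = 0 := by
  rw [← F.map_mul, F.eq_one_iff]

/-- The subgroup given by a closed list. -/
def sub (L : List Ix) (h : subOK L = true) : Subgroup G where
  carrier := {g | ∃ i ∈ L, F.f i = g}
  one_mem' := by
    simp only [subOK, Bool.and_eq_true] at h
    exact ⟨0, List.elem_iff.1 h.1.1, F.map_one⟩
  mul_mem' := by
    rintro _ _ ⟨a, ha, rfl⟩ ⟨b, hb, rfl⟩
    simp only [subOK, Bool.and_eq_true, List.all_eq_true] at h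
    exact ⟨mul a b, List.elem_iff.1 ((h.2 a ha).2 b hb), F.map_mul a b⟩
  inv_mem' := by
    rintro _ ⟨a, ha, rfl⟩
    simp only [subOK, Bool.and_eq_true, List.all_eq_true] at h
    exact ⟨inv a, List.elem_iff.1 (h.2 a ha).1, F.map_inv a⟩

theorem mem_sub {L : List Ix} {h : subOK L = true} {g : G} :
    g ∈ F.sub L h ↔ ∃ i ∈ L, F.f i = g := Iff.rfl

theorem f_mem_sub {L : List Ix} {h : subOK L = true} {i : Ix} : F.f i ∈ F.sub L h ↔ i ∈ L :=
  ⟨fun ⟨_, hj, e⟩ => F.inj e ▸ hj, fun hi => ⟨i, hi, rfl⟩⟩

theorem card_sub (L : List Ix) (h : subOK L = true) : Nat.card (F.sub L h) = L.length := by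
  classical
  have hn : L.Nodup := by
    simp only [subOK, Bool.and_eq_true, decide_eq_true_eq] at h
    exact h.1.2
  rw [← List.toFinset_card_of_nodup hn, ← Nat.card_eq_finsetCard]
  refine (Nat.card_congr (Equiv.ofBijective (fun i : L.toFinset =>
    (⟨F.f i.1, i.1, List.mem_toFinset.1 i.2, rfl⟩ : F.sub L h)) ⟨fun i j e => ?_, ?_⟩)).symm
  · exact Subtype.ext (F.inj (congrArg Subtype.val e))
  · rintro ⟨g, i, hi, rfl⟩
    exact ⟨⟨i, List.mem_toFinset.2 hi⟩, rfl⟩

theorem card_centralizer : Nat.card (Subgroup.centralizer ({F.z} : Set G)) = 192 := by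
  rw [← Nat.card_fin 192]
  refine (Nat.card_congr (Equiv.ofBijective
    (fun i : Ix => (⟨F.f i, F.mem_centralizer_iff.2 ⟨i, rfl⟩⟩ :
      Subgroup.centralizer ({F.z} : Set G))) ⟨fun i j e => F.inj (congrArg Subtype.val e), ?_⟩)).symm
  rintro ⟨g, hg⟩
  obtain ⟨i, rfl⟩ := F.mem_centralizer_iff.1 hg
  exact ⟨i, rfl⟩

end Frame

end Cfsg.Agent.M12Inv51
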