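import Mathlib
import Cfsg.Agent.Lib.AN82Frame
import Cfsg.Agent.Lib.M12Inv51Frame

/-!
# S3344: fusion of the central involution in the tables of kind 1, 2, 3

An element conjugating `z` to `u` sends some member `w` to `z` and the common centralizer of
`z, w` onto that of `z, u`; so the order of that centralizer and the number of square roots of `w`
inside it agree with the order and the number of square roots of `z` for `u`.
-/

set_option autoImplicit false
set_option maxRecDepth 100000

namespace Cfsg.Agent.AN82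

/-- The common centralizer of `z` and a member, as a set of indices. -/
noncomputable def centSet (k : Kind) (u : Ix) : Finset Ix :=
  Finset.univ.filter fun i => comm k i u = true

/-- The number of members of a centralizer squaring to `x`. -/
noncomputable def rootNum (k : Kind) (u x : Ix) : Nat :=
  ((centSet k u).filter fun i => mul k i i = x).card

/-- The two possible shapes seen from the member sent to `z`. -/
theorem partner_facts : ∀ k : Kind, k ≠ 0 → ∀ w : Ix, mul k w w = 0 → w ≠ 0 → w ≠ zI →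
    rootNum k w w = 0 ∨ (rootNum k w w = 4 ∧ (centSet k w).card = 32) := by
  decide +kernel

/-- The excluded members. -/
theorem target_facts : ∀ k : Kind, k ≠ 0 → ∀ u : Ix, mul k u u = 0 → u ≠ 0 → u ≠ zI →
    (k = 2 → inQ u = true ∧ u ∉ ([36, 54, 90, 132, 150, 186] : List Ix)) →
    rootNum k u zI = 12 ∨ (rootNum k u zI = 4 ∧ (centSet k u).card = 16) := by
  decide +kernel

namespace Frame

variable {k : Kind} {G : Type*} [Group G] (F : Frame k G)

theorem mem_common16 {u : Ix} {g : G} :
    (Commute g F.z ∧ Commute g (F.f u)) ↔ ∃ i ∈ centSet k u, F.f i = g := by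
  constructor
  · rintro ⟨h1, h2⟩
    obtain ⟨i, rfl⟩ := F.exists_of_commute h1.eq
    exact ⟨i, Finset.mem_filter.2 ⟨Finset.mem_univ _, F.commute_iff.1 h2.eq⟩, rfl⟩
  · rintro ⟨i, hi, rfl⟩
    exact ⟨F.commute_iff.2 ((zI_facts k).2 i), F.commute_iff.2 (Finset.mem_filter.1 hi).2⟩

/-- Conjugating `z` to `u`: the member sent to `z`, with the two invariants. -/
theorem partner_invariants {u : Ix} {g : G} (hu : u ≠ zI) (hg : g * F.z * g⁻¹ = F.f u) :
    ∃ w : Ix, mul k w w = 0 ∧ w ≠ 0 ∧ w ≠ zI ∧ (centSet k w).card = (centSet k u).card ∧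
      rootNum k w w = rootNum k u zI := by
  classical
  let φ : G ≃* G := MulAut.conj g
  have hφ : ∀ x, φ x = g * x * g⁻¹ := fun x => MulAut.conj_apply g x
  have hz : φ F.z = F.f u := (hφ _).trans hg
  have hzu : Commute (φ F.z) F.z := hz ▸ (F.commute_iff.2 ((zI_facts k).2 u) : Commute _ _)
  have hc : φ.symm F.z * F.z = F.z * φ.symm F.z := by
    apply φ.injective
    rw [_root_.map_mul, _root_.map_mul, φ.apply_symm_apply]
    exact hzu.eq.symm
  obtain ⟨w, hw⟩ := F.exists_of_commute hc
  have hw' : φ (F.f w) = F.z := by rw [hw, φ.apply_symm_apply]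
  have hw2 : mul k w w = 0 := by
    rw [← F.sq_eq_one_iff]
    exact φ.injective (by rw [_root_.map_mul, hw', F.z_sq, _root_.map_one])
  have hw0 : w ≠ 0 := by
    rintro rfl
    exact F.z_ne_one (by rw [← hw', F.map_one, _root_.map_one])
  have hwz : w ≠ zI := by
    rintro rfl
    exact hu (F.inj (hz.symm.trans hw'))
  refine ⟨w, hw2, hw0, hwz, ?_⟩
  have hto : ∀ i, i ∈ centSet k w → ∃ j ∈ centSet k u, F.f j = φ (F.f i) := by
    intro i hi
    refine F.mem_common16.1 ⟨?_, ?_⟩
    · rw [← hw']
      exact (F.mem_common16.2 ⟨i, hi, rfl⟩).2.map φ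
    · rw [← hz]
      exact (F.mem_common16.2 ⟨i, hi, rfl⟩).1.map φ
  have hfrom : ∀ j, j ∈ centSet k u → ∃ i ∈ centSet k w, F.f i = φ.symm (F.f j) := by
    intro j hj
    refine F.mem_common16.1 ⟨?_, ?_⟩
    · have h := (F.mem_common16.2 ⟨j, hj, rfl⟩).2.map φ.symm
      rwa [← hz, φ.symm_apply_apply] at h
    · rw [hw]
      exact (F.mem_common16.2 ⟨j, hj, rfl⟩).1.map φ.symm
  choose to' hto1 hto2 using hto
  choose from' hfrom1 hfrom2 using hfrom
  constructor
  · refine Finset.card_bij' to' from' hto1 hfrom1 ?_ ?_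
    · intro i hi
      apply F.inj
      rw [hfrom2, hto2, φ.symm_apply_apply]
    · intro j hj
      apply F.inj
      rw [hto2, hfrom2, φ.apply_symm_apply]
  · refine Finset.card_bij' (fun i hi => to' i (Finset.mem_filter.1 hi).1)
      (fun j hj => from' j (Finset.mem_filter.1 hj).1) ?_ ?_ ?_ ?_
    · intro i hi
      obtain ⟨hi1, hi2⟩ := Finset.mem_filter.1 hi
      refine Finset.mem_filter.2 ⟨hto1 i hi1, ?_⟩
      apply F.inj
      rw [F.map_mul, hto2, ← _root_.map_mul, ← F.map_mul, hi2, hw']
      rfl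
    · intro j hj
      obtain ⟨hj1, hj2⟩ := Finset.mem_filter.1 hj
      refine Finset.mem_filter.2 ⟨hfrom1 j hj1, ?_⟩
      apply F.inj
      rw [F.map_mul, hfrom2, ← _root_.map_mul, ← F.map_mul, hj2, hw]
      rfl
    · intro i hi
      apply F.inj
      rw [hfrom2, hto2, φ.symm_apply_apply]
    · intro j hj
      apply F.inj
      rw [hto2, hfrom2, φ.apply_symm_apply]

theorem not_conj_of_target {u : Ix} (hk : k ≠ 0) (hu : u ≠ zI)
    (h2 : k = 2 → inQ u = true ∧ u ∉ ([36, 54, 90, 132, 150, 186] : List Ix)) :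
    ¬ IsConj F.z (F.f u) := by
  intro hconj
  obtain ⟨g, hg⟩ := isConj_iff.1 hconj
  have hu2 : mul k u u = 0 := by
    rw [← F.sq_eq_one_iff, ← hg]
    calc g * F.z * g⁻¹ * (g * F.z * g⁻¹) = g * (F.z * F.z) * g⁻¹ := by group
      _ = 1 := by rw [F.z_sq]; group
  have hu0 : u ≠ 0 := by
    rintro rfl
    rw [F.map_one, conj_eq_one_iff] at hg
    exact F.z_ne_one hg
  obtain ⟨w, hw2, hw0, hwz, hc, hr⟩ := F.partner_invariants hu hg
  have hA := partner_facts k hk w hw2 hw0 hwz
  have hB := target_facts k hk u hu2 hu0 hu h2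
  omega

end Frame

/-- In the tables of kinds 1 and 3 the central involution is fused to no other member. -/
theorem not_odd_kind {G : Type*} [Group G] [Finite G] {k : Kind} (hk : k = 1 ∨ k = 3)
    (F : Frame k G) (u : Ix) (_hu : inQ u = true) (hz : u ≠ zI) : ¬ IsConj F.z (F.f u) := by
  refine F.not_conj_of_target ?_ hz (fun h2 => ?_)
  · rcases hk with rfl | rfl <;> decide
  · rcases hk with rfl | rfl <;> exact absurd h2 (by decide)

/-- In the table of kind 2 only the class of six in the extraspecial subgroup can be fused to `z`. -/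
theorem orbit_six {G : Type*} [Group G] [Finite G] (F : Frame 2 G) {u : Ix} (hu : inQ u = true)
    (hz : u ≠ zI) (h : IsConj F.z (F.f u)) : u ∈ ([36, 54, 90, 132, 150, 186] : List Ix) := by
  by_contra hn
  exact F.not_conj_of_target (by decide) hz (fun _ => ⟨hu, hn⟩) h

/-- Table 2 mapped to the table of `M12Inv51`. -/
def toM12Code : Nat := 0x15417e362842225eab794f1a3a84b77564852769b065250a4090a7beac7709235a1f070152a2b8ae63a368459483ad61a0bfb26b296a4b8bba9b491874b176300e2f143e8c6e2b0c2e71b6af9972133b823912043f8d7fb3bc8e9886a95b96488abba4541c5367a1a86c66266fb5bd9d4d911b519f4e19063d87a6581e576288813860242c4478320f31215c7c3520083c89b47b9a730d2d6d2a0b02174695594c478f70809e9c4a505fa5561d559243937db9975daa7a341033051637110300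

/-- The inverse map. -/
def fromM12Code : Nat := 0x8ea451675e870d99b175522d688d82ab749891a3b70a6357a545155d969a588f4b1a5019862b73650c6121930f114ea61d666a7b885f2e404664aeb2926f3f1b69bd0e332c09b639a281b0832a72761c537a27568c8aac955955aaaf9741903d16b80b34629f20444214125c5a9b4c17b54a4f1f891885601e22943a10babea76b7c472f70b36e3e03bc3208063836807e77283b79268bbbad54a93ca0b935319e43135b4db449842304bf7d716d0207377f297825a8a1309d48056c01249c00

/-- Table 2 mapped to the table of `M12Inv51`. -/
def toM12Ix (a : Ix) : M12Inv51.Ix := M12Inv51.ix (byteAt toM12Code a.1)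

/-- The inverse map. -/
def fromM12Ix (a : M12Inv51.Ix) : Ix := ix (byteAt fromM12Code a.1)

theorem toM12Ix_fromM12Ix : ∀ a, toM12Ix (fromM12Ix a) = a := by decide +kernel

theorem fromM12Ix_toM12Ix : ∀ a, fromM12Ix (toM12Ix a) = a := by decide +kernel

theorem fromM12Ix_mul :
    ∀ a b, fromM12Ix (M12Inv51.mul a b) = mul 2 (fromM12Ix a) (fromM12Ix b) := by decide +kernel

theorem fromM12Ix_zI : fromM12Ix M12Inv51.zI = zI := by decide +kernel

/-- A copy of table 2 is a frame in the sense of `M12Inv51`. -/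
theorem toM12 {G : Type*} [Group G] (F : Frame 2 G) : Nonempty (M12Inv51.Frame G) :=
  ⟨{ f := fun a => F.f (fromM12Ix a)
     inj := fun a b h => Function.LeftInverse.injective toM12Ix_fromM12Ix (F.inj h)
     map_mul := fun a b => by rw [fromM12Ix_mul, F.map_mul]
     cent := fun g => by
       rw [fromM12Ix_zI, F.cent]
       exact ⟨fun ⟨i, hi⟩ => ⟨toM12Ix i, by rw [fromM12Ix_toM12Ix, hi]⟩,
         fun ⟨i, hi⟩ => ⟨fromM12Ix i, hi⟩⟩ }⟩

end Cfsg.Agent.AN82
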