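import Cfsg.Agent.Lib.AN82Frame
import Cfsg.Agent.Lib.AN36AmalgamData

/-!
# S3344: the amalgam of the centralizer of an involution of `Alt(8)`

A copy of table `0` and a pair of swapping involutions generate a copy of `Alt(8)`.
-/

set_option autoImplicit false
set_option maxRecDepth 100000
set_option synthInstance.maxSize 8000

namespace Cfsg.Agent.AN36Amalgam

open Cfsg.Agent.CosetCertCore Cfsg.Agent.CosetCertTable Cfsg.Agent.AN82 Cfsg.Agent.AN36AmalgamData

/-! ### A bound on the number of cosets from a certificate -/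

section

variable {C : Cert} {M : Nat} {D : Table} {J : List Nat}
  (hJ : (Nat.beq J.length M && checkList C J 0) = true)
  (hP : allFrom (pointOk C M D) D.N 0 = true) (h0 : D.node 0 = 0) (hN : 0 < D.N)
  {Γ : Type*} [Group Γ] (g : Nat → Γ) (H : Subgroup Γ)
  (hinv : ∀ x, g x * g x = 1) (hrels : ∀ w ∈ C.rels, val g w = 1)
  (hs : ∀ w ∈ C.sgens, val g w ∈ H)
  (hgen : Subgroup.closure {y | ∃ x, x < D.NG ∧ y = g x} = ⊤)

include hJ hP h0 hN hinv hrels hs hgen in
theorem cosets_le : Nat.card (Γ ⧸ H) ≤ D.N := by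
  have hctx : Ctx g ((1 : Γ) : Γ ⧸ H) C := by
    refine ⟨hinv, hrels, fun w hw => ?_⟩
    rw [act_eq _ hinv]
    show (((val g w)⁻¹ * 1 : Γ) : Γ ⧸ H) = _
    rw [mul_one, eq_comm, QuotientGroup.eq, inv_one, one_mul, inv_mem_iff]
    exact hs w hw
  rw [Bool.and_eq_true, Nat.beq_eq] at hJ
  have hv := checkList_sound g ((1 : Γ) : Γ ⧸ H) hctx J 0
    (fun _ h => absurd h (Nat.not_lt_zero _)) hJ.2
  rw [Nat.zero_add, hJ.1] at hv
  have hedge : ∀ i < D.N, ∀ x < D.NG, D.img x i < D.N ∧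
      g x • nodeVal g ((1 : Γ) : Γ ⧸ H) C (D.node i) =
        nodeVal g ((1 : Γ) : Γ ⧸ H) C (D.node (D.img x i)) := by
    intro i hi x hx
    have h := (allFrom_iff _ _ _).mp hP i (Nat.zero_le i) (by omega)
    simp only [pointOk, Bool.and_eq_true] at h
    have he := (allFrom_iff _ _ _).mp h.1 x (Nat.zero_le x) (by omega)
    simp only [edgeOk, force_eq, Bool.and_eq_true, Bool.or_eq_true, Nat.blt_eq, Nat.beq_eq] at he
    obtain ⟨⟨⟨⟨h1, -⟩, h3⟩, h4⟩, h5⟩ := he
    refine ⟨h1, ?_⟩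
    have hsem := hv _ h3
    rw [Sem, if_neg (by omega), h4, Nat.add_sub_cancel] at hsem
    rcases h5 with ⟨e1, e2⟩ | ⟨e1, e2⟩
    · rw [← e1, ← e2, hsem]
    · rw [← e1, ← e2, ← hsem, smul_self g hinv]
  have hcl : ∀ k : Γ, ∀ i : Fin D.N, ∃ j : Fin D.N,
      k • nodeVal g ((1 : Γ) : Γ ⧸ H) C (D.node i) = nodeVal g ((1 : Γ) : Γ ⧸ H) C (D.node j) := by
    intro k
    have hk : k ∈ Subgroup.closure {y | ∃ x, x < D.NG ∧ y = g x} := hgen ▸ Subgroup.mem_top k
    induction hk using Subgroup.closure_induction'' with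
    | mem y hy =>
      obtain ⟨x, hx, rfl⟩ := hy
      intro i
      exact ⟨⟨_, (hedge i i.2 x hx).1⟩, (hedge i i.2 x hx).2⟩
    | inv_mem y hy =>
      obtain ⟨x, hx, rfl⟩ := hy
      intro i
      rw [inv_of_sq g hinv]
      exact ⟨⟨_, (hedge i i.2 x hx).1⟩, (hedge i i.2 x hx).2⟩
    | one => intro i; exact ⟨i, one_smul _ _⟩
    | mul a b _ _ ha hb =>
      intro i
      obtain ⟨j, hj⟩ := hb i
      obtain ⟨l, hl⟩ := ha j
      exact ⟨l, by rw [mul_smul, hj, hl]⟩
  have hsurj : Function.Surjective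
      (fun i : Fin D.N => nodeVal g ((1 : Γ) : Γ ⧸ H) C (D.node i)) := by
    intro q
    induction q using QuotientGroup.induction_on with
    | H k =>
      obtain ⟨j, hj⟩ := hcl k ⟨0, hN⟩
      refine ⟨j, hj.symm.trans ?_⟩
      rw [h0, nodeVal_zero]
      show ((k * 1 : Γ) : Γ ⧸ H) = _
      rw [mul_one]
  exact (Nat.card_le_card_of_surjective _ hsurj).trans_eq (Nat.card_fin _)

theorem map_val {Γ Δ : Type*} [Group Γ] [Group Δ] (φ : Γ →* Δ) (g : Nat → Γ) (w : List Nat) :
    φ (val g w) = val (fun k => φ (g k)) w := by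
  simp [val, map_list_prod, List.map_map, Function.comp_def]

theorem val_append {Γ : Type*} [Group Γ] (g : Nat → Γ) (a b : List Nat) :
    val g (a ++ b) = val g a * val g b := by simp [val]

end

/-! ### Words -/

/-- The generator of the table with the given number. -/
def gl (k : Nat) : Ix := ix (gens.getD k 0)

/-- The value of a word in the generators of the table. -/
noncomputable def ev (w : List Nat) : Ix := w.foldr (fun k x => mul 0 (gl k) x) 0

/-- The word of a member. -/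
def wordOf (a : Ix) : List Nat := wordL.getD a.1 []

/-- The relators not involving a choice. -/
def baseR : List (List Nat) :=
  relL ++ pair0.map (fun p => 4 :: (p.1 ++ 4 :: p.2)) ++ pair1.map (fun p => 5 :: (p.1 ++ 5 :: p.2))

/-- The cube relator of the first involution. -/
def cube0 (v : Ix) : List Nat :=
  4 :: (wordOf 5 ++ 4 :: (wordOf 5 ++ 4 :: (wordOf 5 ++ (wordOf v).reverse)))

/-- The cube relator of the second involution. -/
def cube1 (v : Ix) : List Nat :=
  5 :: (wordOf 1 ++ 5 :: (wordOf 1 ++ 5 :: (wordOf 1 ++ (wordOf v).reverse)))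

theorem rels_eq : certA.rels = baseR ++ [cube0 126, cube1 12, [4, 5, 4, 5]] ∧
    certB.rels = baseR ++ [cube0 0, [4, 5, 4, 5]] ∧
    certC.rels = baseR ++ [cube1 0, [4, 5, 4, 5]] := by decide +kernel

theorem sgens_eq : certA.sgens = [[0], [1], [2], [3]] ∧ certB.sgens = [[0], [1], [2], [3]] ∧
    certC.sgens = [[0], [1], [2], [3]] := by decide +kernel

theorem wordOf_ok : ∀ a : Ix, (∀ k ∈ wordOf a, k < 4) ∧ ev (wordOf a) = a ∧
    mul 0 a (ev (wordOf a).reverse) = 0 := by decide +kernel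

theorem gl_invol : ∀ k < 4, mul 0 (gl k) (gl k) = 0 := by decide +kernel

theorem relL_ok : ∀ w ∈ relL, (∀ k ∈ w, k < 4) ∧ ev w = 0 := by decide +kernel

theorem pair0_ok : ∀ p ∈ pair0, ((∀ k ∈ p.1, k < 4) ∧ ∀ k ∈ p.2, k < 4) ∧ ev p.1 ∈ tZero ∧
    mul 0 (act0 (ev p.1)) (ev p.2) = 0 := by decide +kernel

theorem pair1_ok : ∀ p ∈ pair1, ((∀ k ∈ p.1, k < 4) ∧ ∀ k ∈ p.2, k < 4) ∧ ev p.1 ∈ tOne ∧
    mul 0 (act1 (ev p.1)) (ev p.2) = 0 := by decide +kernel

/-! ### The letters in the group -/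

section

variable {G : Type*} [Group G] {F : Frame 0 G} (P : Pair F)

/-- The letters. -/
def letter (k : Nat) : G :=
  if k < 4 then F.f (gl k) else if k = 4 then P.n0 else if k = 5 then P.n1 else 1

theorem letter_invol (k : Nat) : letter P k * letter P k = 1 := by
  unfold letter
  split_ifs with h h' h''
  · rw [← F.map_mul, gl_invol k h, F.map_one]
  · exact P.sq0
  · exact P.sq1
  · exact one_mul 1

theorem val_small {w : List Nat} (h : ∀ k ∈ w, k < 4) : val (letter P) w = F.f (ev w) := by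
  induction w with
  | nil => rw [val_nil]; exact F.map_one.symm
  | cons k w ih =>
    rw [val_cons, ih fun j hj => h j (List.mem_cons_of_mem _ hj),
      show ev (k :: w) = mul 0 (gl k) (ev w) from rfl, F.map_mul, letter,
      if_pos (h k List.mem_cons_self)]

theorem val_word (a : Ix) : val (letter P) (wordOf a) = F.f a := by
  rw [val_small P (wordOf_ok a).1, (wordOf_ok a).2.1]

theorem val_word_rev (a : Ix) : val (letter P) (wordOf a).reverse = (F.f a)⁻¹ := by
  rw [val_small P fun k hk => (wordOf_ok a).1 k (List.mem_reverse.1 hk), eq_inv_iff_mul_eq_one]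
  exact mul_eq_one_comm.1 (by rw [← F.map_mul, (wordOf_ok a).2.2, F.map_one])

theorem val_base : ∀ w ∈ baseR, val (letter P) w = 1 := by
  intro w hw
  have hi0 : P.n0⁻¹ = P.n0 := inv_eq_of_mul_eq_one_right P.sq0
  have hi1 : P.n1⁻¹ = P.n1 := inv_eq_of_mul_eq_one_right P.sq1
  have l4 : letter P 4 = P.n0 := rfl
  have l5 : letter P 5 = P.n1 := rfl
  simp only [baseR, List.mem_append, List.mem_map] at hw
  rcases hw with (h | ⟨p, hp, rfl⟩) | ⟨p, hp, rfl⟩
  · rw [val_small P (relL_ok w h).1, (relL_ok w h).2, F.map_one]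
  · obtain ⟨⟨h1, h2⟩, h3, h4⟩ := pair0_ok p hp
    have h := P.conj0 _ h3
    rw [hi0] at h
    rw [val_cons, val_append, val_cons, val_small P h1, val_small P h2, l4]
    calc P.n0 * (F.f (ev p.1) * (P.n0 * F.f (ev p.2)))
        = P.n0 * F.f (ev p.1) * P.n0 * F.f (ev p.2) := by group
      _ = _ := by rw [h, ← F.map_mul, h4, F.map_one]
  · obtain ⟨⟨h1, h2⟩, h3, h4⟩ := pair1_ok p hp
    have h := P.conj1 _ h3
    rw [hi1] at h
    rw [val_cons, val_append, val_cons, val_small P h1, val_small P h2, l5]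
    calc P.n1 * (F.f (ev p.1) * (P.n1 * F.f (ev p.2)))
        = P.n1 * F.f (ev p.1) * P.n1 * F.f (ev p.2) := by group
      _ = _ := by rw [h, ← F.map_mul, h4, F.map_one]

theorem val_cube0 {v : Ix} (h : (P.n0 * F.f 5) * (P.n0 * F.f 5) * (P.n0 * F.f 5) = F.f v) :
    val (letter P) (cube0 v) = 1 := by
  have l4 : letter P 4 = P.n0 := rfl
  simp only [cube0, val_cons, val_append, val_word, val_word_rev, l4]
  rw [← h]; group

theorem val_cube1 {v : Ix} (h : (P.n1 * F.f 1) * (P.n1 * F.f 1) * (P.n1 * F.f 1) = F.f v) :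
    val (letter P) (cube1 v) = 1 := by
  have l5 : letter P 5 = P.n1 := rfl
  simp only [cube1, val_cons, val_append, val_word, val_word_rev, l5]
  rw [← h]; group

theorem val_link (h : P.n0 * P.n1 * (P.n0 * P.n1) = 1) : val (letter P) [4, 5, 4, 5] = 1 := by
  simp only [val_cons, val_nil, mul_one, show letter P 4 = P.n0 from rfl,
    show letter P 5 = P.n1 from rfl]
  rw [← h]; group

/-! ### The three products -/

theorem comp_conj {x y : G} {a b c : Ix} (hy : y * F.f a * y⁻¹ = F.f b)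
    (hx : x * F.f b * x⁻¹ = F.f c) : (x * y) * F.f a * (x * y)⁻¹ = F.f c := by
  rw [← hx, ← hy]; group

theorem exists_val {x : G} (s : Ix → Ix) (dom : List Ix)
    (hs : ∀ c ∈ dom, x * F.f c * x⁻¹ = F.f (s c)) (hz : zI ∈ dom) (hz' : s zI = zI) :
    ∃ v, F.f v = x ∧ ∀ c ∈ dom, cj 0 v c = s c := by
  have h := hs zI hz
  rw [hz'] at h
  obtain ⟨v, hv⟩ := (F.cent x).1 (mul_inv_eq_iff_eq_mul.1 h)
  exact ⟨v, hv, fun c hc => F.inj (by rw [F.map_cj, hv, hs c hc])⟩

/-- Conjugation by the first involution times its partner. -/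
noncomputable def s0 (c : Ix) : Ix := act0 (cj 0 5 c)
/-- Conjugation by the second involution times its partner. -/
noncomputable def s1 (c : Ix) : Ix := act1 (cj 0 1 c)
/-- Conjugation by the product of the involutions. -/
def s2 (c : Ix) : Ix := act0 (act1 c)

/-- Where the cube of the first product is computable. -/
def dom0 : List Ix := [0, 6, 24, 30, 96, 102, 120, 126]
/-- Where the cube of the second product is computable. -/
def dom1 : List Ix := [0, 12, 48, 60, 96, 108, 144, 156]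

theorem dom0_ok : (∀ c ∈ dom0, cj 0 5 c ∈ tZero ∧ s0 c ∈ dom0) ∧ zI ∈ dom0 ∧
    s0 (s0 (s0 zI)) = zI := by decide +kernel

theorem dom1_ok : (∀ c ∈ dom1, cj 0 1 c ∈ tOne ∧ s1 c ∈ dom1) ∧ zI ∈ dom1 ∧
    s1 (s1 (s1 zI)) = zI := by decide +kernel

theorem dom2_ok : (∀ c ∈ aL, c ∈ tOne ∧ act1 c ∈ tZero ∧ s2 c ∈ aL) ∧ zI ∈ aL ∧
    s2 (s2 zI) = zI := by decide +kernel

theorem cands0 : ∀ v : Ix, (∀ c ∈ dom0, cj 0 v c = s0 (s0 (s0 c))) → v ∈ tZero ∧
    (act0 v = inv 0 v → cj 0 5 v = inv 0 v → v = 0 ∨ v = 126) := by decide +kernel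

theorem cands1 : ∀ v : Ix, (∀ c ∈ dom1, cj 0 v c = s1 (s1 (s1 c))) → v ∈ tOne ∧
    (act1 v = inv 0 v → cj 0 1 v = inv 0 v → v = 0 ∨ v = 12) := by decide +kernel

theorem cands2 : ∀ v : Ix, (∀ c ∈ aL, cj 0 v c = s2 (s2 c)) → (v ∈ tZero ∧ v ∈ tOne) ∧
    (act0 v = inv 0 v → act1 v = inv 0 v → v = 0 ∨ v = 51) := by decide +kernel

theorem five_one : mul 0 5 5 = 0 ∧ mul 0 1 1 = 0 := by decide +kernel

theorem inverted {n w : G} (hn : n * n = 1) (hw : w * w = 1) :
    n * (n * w * (n * w) * (n * w)) * n⁻¹ = (n * w * (n * w) * (n * w))⁻¹ ∧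
      w * (n * w * (n * w) * (n * w)) * w⁻¹ = (n * w * (n * w) * (n * w))⁻¹ := by
  have hn' : n⁻¹ = n := inv_eq_of_mul_eq_one_right hn
  have hw' : w⁻¹ = w := inv_eq_of_mul_eq_one_right hw
  refine ⟨?_, ?_⟩ <;> simp only [mul_inv_rev, hn', hw']
  · calc n * (n * w * (n * w) * (n * w)) * n = n * n * (w * n * (w * n) * (w * n)) := by group
      _ = _ := by rw [hn, one_mul]; group
  · calc w * (n * w * (n * w) * (n * w)) * w = w * n * (w * n) * (w * n) * (w * w) := by group
      _ = _ := by rw [hw, mul_one]; group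

theorem cube0_value : ∃ v, (v = 0 ∨ v = 126) ∧
    (P.n0 * F.f 5) * (P.n0 * F.f 5) * (P.n0 * F.f 5) = F.f v := by
  obtain ⟨hd, hz, hz3⟩ := dom0_ok
  have step : ∀ c ∈ dom0, P.n0 * F.f 5 * F.f c * (P.n0 * F.f 5)⁻¹ = F.f (s0 c) := fun c hc =>
    comp_conj (F.map_cj 5 c).symm (P.conj0 _ (hd c hc).1)
  obtain ⟨v, hv, hall⟩ := exists_val (fun c => s0 (s0 (s0 c))) dom0 (fun c hc =>
    comp_conj (step c hc) (comp_conj (step _ (hd c hc).2) (step _ (hd _ (hd c hc).2).2))) hz hz3
  obtain ⟨hvt, hor⟩ := cands0 v hall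
  have hw : F.f 5 * F.f 5 = 1 := by rw [← F.map_mul, five_one.1, F.map_one]
  obtain ⟨hn, hw'⟩ := inverted P.sq0 hw
  refine ⟨v, hor ?_ ?_, hv.symm⟩
  · exact F.inj (by rw [F.map_inv, ← P.conj0 v hvt, hv, hn])
  · exact F.inj (by rw [F.map_inv, F.map_cj, hv, hw'])

theorem cube1_value : ∃ v, (v = 0 ∨ v = 12) ∧
    (P.n1 * F.f 1) * (P.n1 * F.f 1) * (P.n1 * F.f 1) = F.f v := by
  obtain ⟨hd, hz, hz3⟩ := dom1_ok
  have step : ∀ c ∈ dom1, P.n1 * F.f 1 * F.f c * (P.n1 * F.f 1)⁻¹ = F.f (s1 c) := fun c hc =>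
    comp_conj (F.map_cj 1 c).symm (P.conj1 _ (hd c hc).1)
  obtain ⟨v, hv, hall⟩ := exists_val (fun c => s1 (s1 (s1 c))) dom1 (fun c hc =>
    comp_conj (step c hc) (comp_conj (step _ (hd c hc).2) (step _ (hd _ (hd c hc).2).2))) hz hz3
  obtain ⟨hvt, hor⟩ := cands1 v hall
  have hw : F.f 1 * F.f 1 = 1 := by rw [← F.map_mul, five_one.2, F.map_one]
  obtain ⟨hn, hw'⟩ := inverted P.sq1 hw
  refine ⟨v, hor ?_ ?_, hv.symm⟩
  · exact F.inj (by rw [F.map_inv, ← P.conj1 v hvt, hv, hn])
  · exact F.inj (by rw [F.map_inv, F.map_cj, hv, hw'])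

theorem link_value : ∃ v, (v = 0 ∨ v = 51) ∧ P.n0 * P.n1 * (P.n0 * P.n1) = F.f v := by
  obtain ⟨hd, hz, hz2⟩ := dom2_ok
  have step : ∀ c ∈ aL, P.n0 * P.n1 * F.f c * (P.n0 * P.n1)⁻¹ = F.f (s2 c) := fun c hc =>
    comp_conj (P.conj1 c (hd c hc).1) (P.conj0 _ (hd c hc).2.1)
  obtain ⟨v, hv, hall⟩ := exists_val (fun c => s2 (s2 c)) aL (fun c hc =>
    comp_conj (step c hc) (step _ (hd c hc).2.2)) hz hz2
  obtain ⟨hvt, hor⟩ := cands2 v hall
  have h0 : P.n0⁻¹ = P.n0 := inv_eq_of_mul_eq_one_right P.sq0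
  have h1 : P.n1⁻¹ = P.n1 := inv_eq_of_mul_eq_one_right P.sq1
  refine ⟨v, hor ?_ ?_, hv.symm⟩
  · refine F.inj ?_
    rw [F.map_inv, ← P.conj0 v hvt.1, hv]
    simp only [mul_inv_rev, h0, h1]
    calc P.n0 * (P.n0 * P.n1 * (P.n0 * P.n1)) * P.n0
        = P.n0 * P.n0 * (P.n1 * P.n0 * (P.n1 * P.n0)) := by group
      _ = _ := by rw [P.sq0, one_mul]
  · refine F.inj ?_
    rw [F.map_inv, ← P.conj1 v hvt.2, hv]
    simp only [mul_inv_rev, h0, h1]
    calc P.n1 * (P.n0 * P.n1 * (P.n0 * P.n1)) * P.n1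
        = P.n1 * P.n0 * (P.n1 * P.n0) * (P.n1 * P.n1) := by group
      _ = _ := by rw [P.sq1, mul_one]

/-! ### Normalising the product of the involutions -/

theorem norm_facts : (102 : Ix) ∈ tZero ∧ mul 0 (act0 102) 102 = 0 ∧
    (∀ c ∈ tZero, cj 0 102 c = c) ∧ (102 : Ix) ∈ tOne ∧ act1 102 ∈ tZero ∧
    act0 (act1 102) ∈ tOne ∧ mul 0 (mul 0 51 (act1 (act0 (act1 102)))) (act1 102) = 0 := by
  decide +kernel

include P in
theorem exists_link : ∃ Q : Pair F, Q.n0 * Q.n1 * (Q.n0 * Q.n1) = 1 := by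
  obtain ⟨v, hv | hv, hx⟩ := link_value P
  · exact ⟨P, by rw [hx, hv, F.map_one]⟩
  obtain ⟨hu, hsq, hcen, hu1, hu2, hu3, hprod⟩ := norm_facts
  rw [hv] at hx
  have h0 : P.n0⁻¹ = P.n0 := inv_eq_of_mul_eq_one_right P.sq0
  have h1 : P.n1⁻¹ = P.n1 := inv_eq_of_mul_eq_one_right P.sq1
  refine ⟨⟨P.n0 * F.f 102, P.n1, ?_, P.sq1, fun c hc => comp_conj (by
    rw [← F.map_cj, hcen c hc]) (P.conj0 c hc), P.conj1⟩, ?_⟩
  · calc P.n0 * F.f 102 * (P.n0 * F.f 102) = P.n0 * F.f 102 * P.n0⁻¹ * F.f 102 := by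
          rw [h0]; group
      _ = 1 := by rw [P.conj0 _ hu, ← F.map_mul, hsq, F.map_one]
  show P.n0 * F.f 102 * P.n1 * (P.n0 * F.f 102 * P.n1) = 1
  have e1 : F.f 102 * P.n1 = P.n1 * F.f (act1 102) := by
    rw [← P.conj1 _ hu1, h1, ← mul_assoc, ← mul_assoc, P.sq1, one_mul]
  have e2 : F.f (act1 102) * P.n0 = P.n0 * F.f (act0 (act1 102)) := by
    rw [← P.conj0 _ hu2, h0, ← mul_assoc, ← mul_assoc, P.sq0, one_mul]
  have e3 : F.f (act0 (act1 102)) * P.n1 = P.n1 * F.f (act1 (act0 (act1 102))) := by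
    rw [← P.conj1 _ hu3, h1, ← mul_assoc, ← mul_assoc, P.sq1, one_mul]
  calc P.n0 * F.f 102 * P.n1 * (P.n0 * F.f 102 * P.n1)
      = P.n0 * (F.f 102 * P.n1) * (P.n0 * (F.f 102 * P.n1)) := by group
    _ = P.n0 * P.n1 * (F.f (act1 102) * P.n0) * P.n1 * F.f (act1 102) := by rw [e1]; group
    _ = P.n0 * P.n1 * P.n0 * (F.f (act0 (act1 102)) * P.n1) * F.f (act1 102) := by rw [e2]; group
    _ = P.n0 * P.n1 * (P.n0 * P.n1) * F.f (act1 (act0 (act1 102))) * F.f (act1 102) := by
          rw [e3]; group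
    _ = 1 := by rw [hx, ← F.map_mul, ← F.map_mul, hprod, F.map_one]

/-! ### The impossible cubes -/

/-- The group generated by the letters. -/
def span : Subgroup G := Subgroup.closure {y | ∃ k, k < 6 ∧ y = letter P k}

theorem letter_mem (k : Nat) : letter P k ∈ span P := by
  by_cases h : k < 6
  · exact Subgroup.subset_closure ⟨k, h, rfl⟩
  · rw [letter, if_neg (by omega), if_neg (by omega), if_neg (by omega)]
    exact one_mem _

theorem f_mem (a : Ix) : F.f a ∈ span P := by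
  rw [← val_word P a]
  refine list_prod_mem ?_
  intro x hx
  obtain ⟨k, -, rfl⟩ := List.mem_map.1 hx
  exact letter_mem P k

/-- The letters inside the group they generate. -/
def letterS (k : Nat) : span P := ⟨letter P k, letter_mem P k⟩

theorem six_not_all : ∃ a : Ix, comm 0 6 a = false := by decide +kernel

theorem act0_z : zI ∈ tZero ∧ act0 zI = 6 := by decide +kernel

theorem collapse [Finite G] (extra : List (List Nat)) {C : Cert} {M : Nat} {D : Table}
    {J : List Nat} (hC : C.rels = baseR ++ extra) (hS : C.sgens = [[0], [1], [2], [3]])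
    (hNG : D.NG = 6) (hD : D.N ≤ 2) (hJ : (Nat.beq J.length M && checkList C J 0) = true)
    (hP : allFrom (pointOk C M D) D.N 0 = true) (h0 : D.node 0 = 0) (hN : 0 < D.N)
    (hx : ∀ w ∈ extra, val (letter P) w = 1) : False := by
  let H : Subgroup (span P) := F.L.subgroupOf (span P)
  have hcard : Nat.card (span P ⧸ H) ≤ 2 := by
    refine le_trans (cosets_le hJ hP h0 hN (letterS P) H
      (fun k => Subtype.ext (letter_invol P k)) (fun w hw => Subtype.ext ?_) (fun w hw => ?_) ?_) hD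
    · rw [← Subgroup.coe_subtype, map_val]
      show val (letter P) w = 1
      rw [hC, List.mem_append] at hw
      exact hw.elim (val_base P w) (hx w)
    · rw [Subgroup.mem_subgroupOf, ← Subgroup.coe_subtype, map_val]
      show val (letter P) w ∈ F.L
      have hs : ∀ k ∈ w, k < 4 := by
        rw [hS] at hw
        simp only [List.mem_cons, List.not_mem_nil, or_false] at hw
        rcases hw with rfl | rfl | rfl | rfl <;> simp
      rw [val_small P hs]
      exact F.mem_L.2 ⟨_, rfl⟩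
    · rw [eq_top_iff]
      refine (Subgroup.closure_closure_coe_preimage
        (k := {y | ∃ k, k < 6 ∧ y = letter P k})).ge.trans ((Subgroup.closure_le _).2 ?_)
      rintro ⟨x, hx'⟩ ⟨k, hk, rfl⟩
      exact Subgroup.subset_closure ⟨k, hNG ▸ hk, rfl⟩
  have hnormal : H.Normal := by
    have hidx : H.index ≤ 2 := hcard
    rcases Nat.lt_or_ge H.index 2 with h | h
    · have h1 : H.index = 1 := by
        have := Subgroup.index_ne_zero_of_finite (H := H)
        omega
      rw [Subgroup.index_eq_one.1 h1]; infer_instance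
    · exact Subgroup.normal_of_index_eq_two (le_antisymm hidx h)
  obtain ⟨a, ha⟩ := six_not_all
  have h0i : P.n0⁻¹ = P.n0 := inv_eq_of_mul_eq_one_right P.sq0
  have hmem := hnormal.conj_mem ⟨F.f a, f_mem P a⟩ (Subgroup.mem_subgroupOf.2 (F.mem_L.2 ⟨a, rfl⟩))
    (letterS P 4)
  obtain ⟨i, hi⟩ := F.mem_L.1 (Subgroup.mem_subgroupOf.1 hmem)
  have hi' : F.f i = P.n0 * F.f a * P.n0⁻¹ := hi
  have hcomm := (F.cent (F.f i)).2 ⟨i, rfl⟩
  have h6 : F.f 6 = P.n0 * F.f zI * P.n0⁻¹ := by rw [P.conj0 _ act0_z.1, act0_z.2]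
  have : comm 0 6 a = true := F.commute_iff.1 (by
    rw [h6]
    have ea : F.f a = P.n0 * F.f i * P.n0⁻¹ := by
      rw [hi', h0i, ← mul_assoc, ← mul_assoc, P.sq0, one_mul, mul_assoc, P.sq0, mul_one]
    rw [ea]
    calc P.n0 * F.f zI * P.n0⁻¹ * (P.n0 * F.f i * P.n0⁻¹)
        = P.n0 * (F.f zI * F.f i) * P.n0⁻¹ := by group
      _ = P.n0 * (F.f i * F.f zI) * P.n0⁻¹ := by rw [hcomm]
      _ = _ := by group)
  rw [ha] at this
  exact Bool.false_ne_true this

include P in
theorem exists_normal_pair [Finite G] : ∃ Q : Pair F,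
    (Q.n0 * F.f 5) * (Q.n0 * F.f 5) * (Q.n0 * F.f 5) = F.f 126 ∧
    (Q.n1 * F.f 1) * (Q.n1 * F.f 1) * (Q.n1 * F.f 1) = F.f 12 ∧
    Q.n0 * Q.n1 * (Q.n0 * Q.n1) = 1 := by
  obtain ⟨Q, hQ⟩ := exists_link P
  obtain ⟨v, hv, hx⟩ := cube0_value Q
  obtain ⟨u, hu, hy⟩ := cube1_value Q
  rcases hv with rfl | rfl
  · exact (collapse Q _ rels_eq.2.1 sgens_eq.2.1 rfl (by decide +kernel) checkB pointsB
      (by decide +kernel) (by decide +kernel) (by
        intro w hw
        simp only [List.mem_cons, List.not_mem_nil, or_false] at hw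
        rcases hw with rfl | rfl
        exacts [val_cube0 Q hx, val_link Q hQ])).elim
  rcases hu with rfl | rfl
  · exact (collapse Q _ rels_eq.2.2 sgens_eq.2.2 rfl (by decide +kernel) checkC pointsC
      (by decide +kernel) (by decide +kernel) (by
        intro w hw
        simp only [List.mem_cons, List.not_mem_nil, or_false] at hw
        rcases hw with rfl | rfl
        exacts [val_cube1 Q hy, val_link Q hQ])).elim
  exact ⟨Q, hx, hy, hQ⟩

end

/-! ### The model -/

/-- The letters as functions on eight points. -/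
def pf (k : Nat) (i : Fin 8) : Fin 8 :=
  if k < 6 then ⟨Nat.shiftRight (permL.getD k 0) (3 * i.1) % 8, Nat.mod_lt _ (by norm_num)⟩ else i

/-- A word applied to a point. -/
def pa (w : List Nat) (i : Fin 8) : Fin 8 := w.foldr (fun k j => pf k j) i

theorem pf_invol6 : ∀ k < 6, ∀ i, pf k (pf k i) = i := by decide +kernel

theorem pf_invol (k : Nat) : Function.Involutive (pf k) := by
  intro i
  by_cases h : k < 6
  · exact pf_invol6 k h i
  · simp [pf, h]

/-- The permutation of a letter. -/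
def permOf (k : Nat) : Equiv.Perm (Fin 8) := (pf_invol k).toPerm

theorem permOf_sign6 : ∀ k < 6, Equiv.Perm.sign (permOf k) = 1 := by decide +kernel

theorem permOf_mem (k : Nat) : permOf k ∈ alternatingGroup (Fin 8) := by
  rw [Equiv.Perm.mem_alternatingGroup]
  by_cases h : k < 6
  · exact permOf_sign6 k h
  · have : permOf k = 1 := Equiv.ext fun i => by simp [permOf, pf, h]
    rw [this, map_one]

/-- The letters in `Alt(8)`. -/
def mk8 (k : Nat) : alternatingGroup (Fin 8) := ⟨permOf k, permOf_mem k⟩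

theorem val_mk8 (w : List Nat) (i : Fin 8) : (val mk8 w).1 i = pa w i := by
  induction w generalizing i with
  | nil => rfl
  | cons k w ih =>
    rw [val_cons, Subgroup.coe_mul, Equiv.Perm.mul_apply, ih]
    rfl

theorem mk8_rels : ∀ w ∈ certA.rels, ∀ i, pa w i = i := by decide +kernel

theorem mk8_table : ∀ k < 4, ∀ a : Ix, ∀ i : Fin 8,
    pa (k :: wordOf a) i = pa (wordOf (mul 0 (gl k) a)) i := by decide +kernel

theorem mk8_seven : (∀ i, pa ([0, 1, 4] ++ [0, 1, 4] ++ [0, 1, 4] ++ [0, 1, 4] ++ [0, 1, 4] ++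
    [0, 1, 4] ++ [0, 1, 4]) i = i) ∧ pa [0, 1, 4] ≠ id := by decide +kernel

theorem mk8_five : (∀ i, pa ([0, 4, 5] ++ [0, 4, 5] ++ [0, 4, 5] ++ [0, 4, 5] ++ [0, 4, 5]) i = i) ∧
    pa [0, 4, 5] ≠ id := by decide +kernel

theorem mk8_inj : ∀ a b : Ix, (∀ i, pa (wordOf a) i = pa (wordOf b) i) → a = b := by decide +kernel

theorem mk8_invol (k : Nat) : mk8 k * mk8 k = 1 :=
  Subtype.ext (Equiv.ext fun i => pf_invol k i)

theorem word_zero : wordOf 0 = [] := by decide +kernel

section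

variable {Γ : Type*} [Group Γ] (g : Nat → Γ)

theorem val_small_mem (a : Ix) :
    val g (wordOf a) ∈ Subgroup.closure {y | ∃ k, k < 4 ∧ y = g k} := by
  refine list_prod_mem ?_
  intro x hx
  obtain ⟨k, hk, rfl⟩ := List.mem_map.1 hx
  exact Subgroup.subset_closure ⟨k, (wordOf_ok a).1 k hk, rfl⟩

theorem card_small_le (hinv : ∀ k, g k * g k = 1)
    (h : ∀ k < 4, ∀ a : Ix, g k * val g (wordOf a) = val g (wordOf (mul 0 (gl k) a))) :
    Nat.card (Subgroup.closure {y | ∃ k, k < 4 ∧ y = g k}) ≤ 192 := by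
  have hcl : ∀ x ∈ Subgroup.closure {y | ∃ k, k < 4 ∧ y = g k}, ∀ a : Ix, ∃ b : Ix,
      x * val g (wordOf a) = val g (wordOf b) := by
    intro x hx
    induction hx using Subgroup.closure_induction'' with
    | mem y hy => obtain ⟨k, hk, rfl⟩ := hy; exact fun a => ⟨_, h k hk a⟩
    | inv_mem y hy =>
      obtain ⟨k, hk, rfl⟩ := hy
      intro a
      rw [inv_eq_of_mul_eq_one_right (hinv k)]
      exact ⟨_, h k hk a⟩
    | one => exact fun a => ⟨a, one_mul _⟩
    | mul p q _ _ hp hq =>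
      intro a
      obtain ⟨b, hb⟩ := hq a
      obtain ⟨c, hc⟩ := hp b
      exact ⟨c, by rw [mul_assoc, hb, hc]⟩
  rw [← Nat.card_fin 192]
  refine Nat.card_le_card_of_surjective (fun a : Ix => (⟨val g (wordOf a), val_small_mem g a⟩ :
    Subgroup.closure {y | ∃ k, k < 4 ∧ y = g k})) ?_
  rintro ⟨x, hx⟩
  obtain ⟨b, hb⟩ := hcl x hx 0
  rw [word_zero, val_nil, mul_one] at hb
  exact ⟨b, Subtype.ext hb.symm⟩

end

theorem mk8_closure : Subgroup.closure {y | ∃ k, k < 6 ∧ y = mk8 k} = ⊤ := by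
  set K := Subgroup.closure {y | ∃ k, k < 6 ∧ y = mk8 k} with hK
  have hmem : ∀ w : List Nat, (∀ k ∈ w, k < 6) → val mk8 w ∈ K := by
    intro w hw
    refine list_prod_mem ?_
    intro x hx
    obtain ⟨k, hk, rfl⟩ := List.mem_map.1 hx
    exact Subgroup.subset_closure ⟨k, hw k hk, rfl⟩
  have hord : ∀ (w : List Nat) (p : ℕ), p.Prime → (∀ k ∈ w, k < 6) →
      (∀ i, pa (List.replicate p w).flatten i = i) → pa w ≠ id → p ∣ Nat.card K := by
    intro w p hp hw h1 h2
    have : Fact p.Prime := ⟨hp⟩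
    have hpow : ∀ n, val mk8 (List.replicate n w).flatten = val mk8 w ^ n := by
      intro n
      induction n with
      | zero => rfl
      | succ n ih => rw [List.replicate_succ, List.flatten_cons, val_append, ih, pow_succ']
    have ho : orderOf (⟨val mk8 w, hmem w hw⟩ : K) = p := by
      rw [Subgroup.orderOf_mk]
      refine orderOf_eq_prime ?_ ?_
      · rw [← hpow]
        exact Subtype.ext (Equiv.ext fun i => (val_mk8 _ i).trans (h1 i))
      · intro h
        refine h2 (funext fun i => ?_)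
        rw [← val_mk8 w i, h]; rfl
    exact ho ▸ orderOf_dvd_natCard _
  have h7 : 7 ∣ Nat.card K :=
    hord [0, 1, 4] 7 (by norm_num) (by decide) (by simpa using mk8_seven.1) mk8_seven.2
  have h5 : 5 ∣ Nat.card K :=
    hord [0, 4, 5] 5 (by norm_num) (by decide) (by simpa using mk8_five.1) mk8_five.2
  have h192 : 192 ≤ Nat.card K := by
    rw [← Nat.card_fin 192]
    refine Nat.card_le_card_of_injective
      (fun a : Ix => (⟨val mk8 (wordOf a), hmem _ fun k hk => lt_trans ((wordOf_ok a).1 k hk)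
        (by norm_num)⟩ : K)) ?_
    intro a b hab
    refine mk8_inj a b fun i => ?_
    rw [← val_mk8, ← val_mk8, show val mk8 (wordOf a) = val mk8 (wordOf b) from
      congrArg Subtype.val hab]
  have h192 : 192 ∣ Nat.card K := by
    have hle : Subgroup.closure {y | ∃ k, k < 4 ∧ y = mk8 k} ≤ K := by
      rw [Subgroup.closure_le]
      rintro y ⟨k, hk, rfl⟩
      exact Subgroup.subset_closure ⟨k, by omega, rfl⟩
    have hcard : Nat.card (Subgroup.closure {y | ∃ k, k < 4 ∧ y = mk8 k}) = 192 := by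
      refine le_antisymm (card_small_le mk8 mk8_invol fun k hk a => ?_) ?_
      · rw [← val_cons]
        exact Subtype.ext (Equiv.ext fun i => by rw [val_mk8, val_mk8, mk8_table k hk a i])
      · rw [← Nat.card_fin 192]
        refine Nat.card_le_card_of_injective
          (fun a : Ix => (⟨val mk8 (wordOf a), val_small_mem mk8 a⟩ :
            Subgroup.closure {y | ∃ k, k < 4 ∧ y = mk8 k})) ?_
        intro a b hab
        refine mk8_inj a b fun i => ?_
        rw [← val_mk8, ← val_mk8, show val mk8 (wordOf a) = val mk8 (wordOf b) from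
          congrArg Subtype.val hab]
    exact hcard ▸ Subgroup.card_dvd_of_le hle
  have hs : IsSimpleGroup (alternatingGroup (Fin 8)) := alternatingGroup.isSimpleGroup (by simp)
  have hA : Nat.card (alternatingGroup (Fin 8)) = 20160 := by
    rw [nat_card_alternatingGroup]; simp [Nat.factorial]
  have hmul := K.card_mul_index
  rw [hA] at hmul
  have hidx : K.index ≤ 3 := by
    have h35 : 35 ∣ Nat.card K := Nat.Coprime.mul_dvd_of_dvd_of_dvd (by norm_num : Nat.Coprime 7 5) h7 h5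
    have h6720 : 6720 ∣ Nat.card K :=
      (Nat.lcm_dvd h192 h35)
    obtain ⟨c, hc⟩ := h6720
    rw [hc, mul_assoc] at hmul
    have h3 : c * K.index = 3 := by omega
    exact Nat.le_of_dvd (by norm_num) ⟨c, by rw [mul_comm]; exact h3.symm⟩
  by_contra hne
  have hcore : K.normalCore = ⊥ := (inferInstance : K.normalCore.Normal).eq_bot_or_eq_top.resolve_right
    fun h => hne (top_le_iff.1 (h ▸ Subgroup.normalCore_le K))
  have h1 : (MulAction.toPermHom (alternatingGroup (Fin 8))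
      (alternatingGroup (Fin 8) ⧸ K)).ker = ⊥ := by
    rw [← Subgroup.normalCore_eq_ker, hcore]
  have h2 := Nat.card_le_card_of_injective _ ((MonoidHom.ker_eq_bot_iff _).1 h1)
  rw [hA, Nat.card_perm] at h2
  have h3 : K.index.factorial ≤ (3).factorial := Nat.factorial_le hidx
  rw [show Nat.factorial 3 = 6 from rfl] at h3
  change 20160 ≤ K.index.factorial at h2
  omega

/-- The letters of a normalised pair come from an embedding of `Alt(8)`. -/
theorem exists_hom {G : Type*} [Group G] [Finite G] {F : Frame 0 G} (P : Pair F) :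
    ∃ (Q : Pair F) (ψ : alternatingGroup (Fin 8) →* G), Function.Injective ψ ∧
      ∀ k, ψ (mk8 k) = letter Q k := by
  obtain ⟨Q, hx, hy, hz⟩ := exists_normal_pair P
  let A := alternatingGroup (Fin 8)
  let Γ : Subgroup (G × A) := Subgroup.closure {y | ∃ k, k < 6 ∧ y = (letter Q k, mk8 k)}
  have hgm : ∀ k, (letter Q k, mk8 k) ∈ Γ := by
    intro k
    by_cases h : k < 6
    · exact Subgroup.subset_closure ⟨k, h, rfl⟩
    · rw [letter, if_neg (by omega), if_neg (by omega), if_neg (by omega),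
        show mk8 k = 1 from Subtype.ext (Equiv.ext fun i => by simp [mk8, permOf, pf, h])]
      exact one_mem _
  let g : Nat → Γ := fun k => ⟨(letter Q k, mk8 k), hgm k⟩
  let π₁ : Γ →* G := (MonoidHom.fst G A).comp Γ.subtype
  let π₂ : Γ →* A := (MonoidHom.snd G A).comp Γ.subtype
  have hext : ∀ w : List Nat, ∀ x : Γ, val (letter Q) w = π₁ x → (∀ i, pa w i = (π₂ x).1 i) →
      val g w = x := by
    intro w x h1 h2
    refine Subtype.ext (Prod.ext ?_ ?_)
    · show π₁ (val g w) = π₁ x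
      rw [map_val, ← h1]; rfl
    · refine Subtype.ext (Equiv.ext fun i => ?_)
      show (π₂ (val g w)).1 i = (π₂ x).1 i
      rw [map_val, ← h2 i, ← val_mk8]; rfl
  have hinv : ∀ k, g k * g k = 1 := fun k =>
    Subtype.ext (Prod.ext (letter_invol Q k) (mk8_invol k))
  have hrels : ∀ w ∈ certA.rels, val g w = 1 := by
    intro w hw
    refine hext w 1 ?_ fun i => mk8_rels w hw i
    rw [rels_eq.1, List.mem_append] at hw
    rw [map_one]
    rcases hw with h | h
    · exact val_base Q w h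
    simp only [List.mem_cons, List.not_mem_nil, or_false] at h
    rcases h with rfl | rfl | rfl
    exacts [val_cube0 Q hx, val_cube1 Q hy, val_link Q hz]
  let H : Subgroup Γ := Subgroup.closure {y | ∃ k, k < 4 ∧ y = g k}
  have hH : Nat.card H ≤ 192 := by
    refine card_small_le g hinv fun k hk a => ?_
    rw [← val_cons]
    refine hext _ _ ?_ fun i => ?_
    · rw [map_val, val_cons, val_word]
      show _ = val (letter Q) (wordOf (mul 0 (gl k) a))
      rw [val_word, F.map_mul, letter, if_pos hk]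
    · rw [map_val, mk8_table k hk a i, ← val_mk8]; rfl
  have hgen : Subgroup.closure {y : Γ | ∃ k, k < tableA.NG ∧ y = g k} = ⊤ := by
    rw [eq_top_iff]
    refine (Subgroup.closure_closure_coe_preimage
      (k := {y : G × A | ∃ k, k < 6 ∧ y = (letter Q k, mk8 k)})).ge.trans
      ((Subgroup.closure_le _).2 ?_)
    rintro ⟨x, hx⟩ ⟨k, hk, rfl⟩
    exact Subgroup.subset_closure ⟨k, hk, rfl⟩
  have hidx : Nat.card (Γ ⧸ H) ≤ 105 :=
    cosets_le checkA pointsA (by decide +kernel) (by decide +kernel) g H hinv hrels (fun w hw => by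
      rw [sgens_eq.1] at hw
      simp only [List.mem_cons, List.not_mem_nil, or_false] at hw
      rcases hw with rfl | rfl | rfl | rfl <;>
        exact list_prod_mem (by
          simp only [List.map_cons, List.map_nil, List.mem_singleton, forall_eq]
          exact Subgroup.subset_closure ⟨_, by norm_num, rfl⟩)) hgen
  have hA : Nat.card A = 20160 := by
    rw [nat_card_alternatingGroup]; simp [Nat.factorial]
  have hcard : Nat.card Γ ≤ Nat.card A := by
    rw [hA, Subgroup.card_eq_card_quotient_mul_card_subgroup H]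
    exact Nat.mul_le_mul hidx hH
  have hπ₂ : Function.Surjective π₂ := by
    rw [← MonoidHom.range_eq_top, eq_top_iff, ← mk8_closure, Subgroup.closure_le]
    rintro x ⟨k, -, rfl⟩
    exact ⟨g k, rfl⟩
  have hbij : Function.Bijective π₂ := (Nat.bijective_iff_surjective_and_card π₂).2
    ⟨hπ₂, le_antisymm hcard (Nat.card_le_card_of_surjective π₂ hπ₂)⟩
  have : IsSimpleGroup A := alternatingGroup.isSimpleGroup (by simp)
  let e := MulEquiv.ofBijective π₂ hbij
  let ψ : A →* G := π₁.comp e.symm.toMonoidHom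
  have hmem : ∀ i, F.f i ∈ ψ.range := by
    intro i
    refine ⟨e (val g (wordOf i)), ?_⟩
    show π₁ (e.symm (e (val g (wordOf i)))) = _
    rw [e.symm_apply_apply, map_val]
    exact val_word Q i
  have hker : ψ.ker = ⊥ := by
    refine ((inferInstance : ψ.ker.Normal).eq_bot_or_eq_top).resolve_right fun htop => ?_
    obtain ⟨y, hy⟩ := hmem zI
    rw [MonoidHom.mem_ker.1 (htop ▸ Subgroup.mem_top y)] at hy
    exact F.z_ne_one hy.symm
  refine ⟨Q, ψ, (MonoidHom.ker_eq_bot_iff ψ).1 hker, fun k => ?_⟩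
  show π₁ (e.symm (π₂ (g k))) = _
  rw [show π₂ (g k) = e (g k) from rfl, e.symm_apply_apply]
  rfl

/-- The identification. -/
theorem exists_iso {G : Type*} [Group G] [Finite G] {F : Frame 0 G} (P : Pair F) :
    ∃ G0 : Subgroup G, Nonempty (G0 ≃* alternatingGroup (Fin 8)) ∧ ∀ i, F.f i ∈ G0 := by
  obtain ⟨Q, ψ, hinj, hψ⟩ := exists_hom P
  refine ⟨ψ.range, ⟨(MonoidHom.ofInjective hinj).symm⟩, fun i => ⟨val mk8 (wordOf i), ?_⟩⟩
  rw [map_val, show (fun k => ψ (mk8 k)) = letter Q from funext hψ, val_word]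

end Cfsg.Agent.AN36Amalgam

namespace Cfsg.Agent.AN82

/-- A frame with a pair of swapping involutions lies in a copy of `Alt(8)`. -/
theorem exists_alt8 {G : Type*} [Group G] [Finite G] {F : Frame 0 G} (P : Pair F) :
    ∃ G0 : Subgroup G, Nonempty (G0 ≃* alternatingGroup (Fin 8)) ∧ ∀ i, F.f i ∈ G0 :=
  AN36Amalgam.exists_iso P

end Cfsg.Agent.AN82
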