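import Cfsg.Agent.Lib.AN82Frame
import Cfsg.Agent.S1875

/-!
# S3344: the two classes of involutions and the order formula

In a good frame the involutions of the group form two classes and `|G| = |C(a)| · 156 + 192 · N_a`.
-/

set_option autoImplicit false
set_option maxRecDepth 100000

namespace Cfsg.Agent.AN82

/-- The members conjugate to the central involution. -/
def clZ : List Ix := [6, 12, 13, 24, 30, 48, 51, 60, 95, 96, 97, 99, 101, 102, 105, 108, 120, 121,
  126, 131, 133, 144, 153, 156, 161]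

/-- The members conjugate to `36`. -/
def clA : List Ix := [1, 3, 5, 9, 25, 35, 36, 37, 54, 57, 65, 90, 109, 132, 147, 150, 186, 191]

/-- One step of fusion: conjugation by a letter or one of the two actions. -/
noncomputable def moves (x : Ix) : List Ix :=
  [cj 0 1 x, cj 0 3 x, cj 0 9 x, cj 0 13 x] ++ (if x ∈ tZero then [act0 x] else []) ++
    (if x ∈ tOne then [act1 x] else [])

/-- The members reached in one more step. -/
noncomputable def grow (s : List Ix) : List Ix :=
  (List.finRange 192).filter fun i => decide (i ∈ s ++ s.flatMap moves)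

theorem grow_facts : (∀ i ∈ clZ, i ∈ grow^[6] [zI]) ∧ ∀ i ∈ clA, i ∈ grow^[5] [36] := by
  decide +kernel

theorem invol_cases : ∀ i : Ix, i ≠ 0 → mul 0 i i = 0 → i ∈ clZ ∨ i ∈ clA := by decide +kernel

theorem class_invol : (∀ i ∈ clZ, i ≠ 0 ∧ mul 0 i i = 0) ∧ (∀ i ∈ clA, i ≠ 0 ∧ mul 0 i i = 0) := by
  decide +kernel

/-- Membership in the Sylow subgroup of the table. -/
def inSyl (a : Ix) : Bool := decide (a.1 % 6 < 2)

theorem syl_facts : inSyl zI = true ∧ inSyl 0 = true ∧
    (∀ a : Ix, inSyl a = true → inSyl (inv 0 a) = true) ∧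
    (∀ a : Ix, inSyl a = true → ∀ b : Ix, inSyl b = true → inSyl (mul 0 a b) = true) := by
  decide +kernel

theorem syl_center : ∀ c : Ix, inSyl c = true → (∀ s : Ix, inSyl s = true → comm 0 c s = true) →
    c = 0 ∨ c = zI := by decide +kernel

theorem syl_selfnorm : ∀ a : Ix, (∀ s : Ix, inSyl s = true → inSyl (cj 0 a s) = true) →
    inSyl a = true := by decide +kernel

theorem syl_card : (Finset.univ.filter fun a : Ix => inSyl a = true).card = 64 := by decide +kernel

/-- The twelve possible powers. -/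
noncomputable def pw (c : Ix) : Nat → Ix
  | 0 => 0
  | n + 1 => mul 0 c (pw c n)

theorem pw_twelve : ∀ c : Ix, pw c 12 = 0 := by decide +kernel

/-- The pairs counted on the side of the central involution. -/
noncomputable def zPairs : Finset (Ix × Ix) :=
  (clZ.toFinset ×ˢ clA.toFinset).filter fun p =>
    ((List.range 12).any fun n => pw (mul 0 p.1 p.2) n == zI) = true

theorem zPairs_card : zPairs.card = 156 := by decide +kernel

namespace Frame

variable {G : Type*} [Group G] (F : Frame 0 G)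

theorem map_pw (c : Ix) (n : Nat) : F.f (pw c n) = F.f c ^ n := by
  induction n with
  | zero => rw [pow_zero]; exact F.map_one
  | succ n ih => rw [pw, F.map_mul, ih, pow_succ']

theorem mem_zpowers_iff_pw [Finite G] {c i : Ix} :
    F.f i ∈ Subgroup.zpowers (F.f c) ↔ ((List.range 12).any fun n => pw c n == i) = true := by
  rw [List.any_eq_true]
  constructor
  · intro h
    obtain ⟨n, hn⟩ := mem_powers_iff_mem_zpowers.2 h
    refine ⟨n % 12, List.mem_range.2 (Nat.mod_lt _ (by norm_num)), beq_iff_eq.2 (F.inj ?_)⟩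
    have h12 : F.f c ^ 12 = 1 := by rw [← F.map_pw, pw_twelve, F.map_one]
    rw [F.map_pw, ← hn]
    show F.f c ^ (n % 12) = F.f c ^ n
    conv_rhs => rw [← Nat.mod_add_div n 12, pow_add, pow_mul, h12, one_pow, mul_one]
  · rintro ⟨n, -, hn⟩
    rw [← beq_iff_eq.1 hn, F.map_pw]
    exact Subgroup.npow_mem_zpowers _ _

/-- The Sylow subgroup of the table. -/
def sylSub : Subgroup G where
  carrier := {g | ∃ a, inSyl a = true ∧ F.f a = g}
  one_mem' := ⟨0, syl_facts.2.1, F.map_one⟩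
  mul_mem' := by
    rintro _ _ ⟨a, ha, rfl⟩ ⟨b, hb, rfl⟩
    exact ⟨_, syl_facts.2.2.2 a ha b hb, F.map_mul a b⟩
  inv_mem' := by
    rintro _ ⟨a, ha, rfl⟩
    exact ⟨_, syl_facts.2.2.1 a ha, F.map_inv a⟩

theorem card_sylSub : Nat.card F.sylSub = 2 ^ 6 := by
  rw [show (2 : ℕ) ^ 6 = (Finset.univ.filter fun a : Ix => inSyl a = true).card by rw [syl_card]; rfl,
    ← Nat.card_eq_finsetCard]
  refine (Nat.card_congr (Equiv.ofBijective
    (fun a : {a : Ix // a ∈ Finset.univ.filter fun a : Ix => inSyl a = true} =>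
      (⟨F.f a.1, ⟨a.1, (Finset.mem_filter.1 a.2).2, rfl⟩⟩ : F.sylSub)) ⟨?_, ?_⟩)).symm
  · intro a b h
    exact Subtype.ext (F.inj (congrArg Subtype.val h))
  · rintro ⟨_, a, ha, rfl⟩
    exact ⟨⟨a, Finset.mem_filter.2 ⟨Finset.mem_univ _, ha⟩⟩, rfl⟩

/-- The table contains a Sylow `2`-subgroup of the group. -/
theorem exists_sylow_eq [Finite G] : ∃ P : Sylow 2 G, (P : Subgroup G) = F.sylSub := by
  have : Fact (Nat.Prime 2) := ⟨Nat.prime_two⟩
  obtain ⟨P, hP⟩ := (IsPGroup.of_card F.card_sylSub).exists_le_sylow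
  refine ⟨P, le_antisymm ?_ hP⟩
  by_contra hle
  let S' : Subgroup (P : Subgroup G) := F.sylSub.subgroupOf P
  have hlt : S' < ⊤ := lt_of_le_of_ne le_top fun h => hle fun x hx => by
    have : (⟨x, hx⟩ : (P : Subgroup G)) ∈ S' := h ▸ Subgroup.mem_top _
    exact this
  obtain ⟨x, hxN, hxS⟩ := SetLike.exists_of_lt
    ((Group.normalizerCondition_of_isNilpotent (h := P.isPGroup'.isNilpotent)) S' hlt)
  refine hxS ?_
  have hnorm : ∀ s, inSyl s = true → ∃ r, inSyl r = true ∧ F.f r = x.1 * F.f s * x.1⁻¹ := fun s hs =>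
    (Subgroup.mem_normalizer_iff.1 hxN ⟨F.f s, hP ⟨s, hs, rfl⟩⟩).1 ⟨s, hs, rfl⟩
  obtain ⟨c, hc, hcf⟩ := hnorm zI syl_facts.1
  have hcen : ∀ s : Ix, inSyl s = true → comm 0 c s = true := by
    intro s hs
    have hmem := (Subgroup.mem_normalizer_iff.1 (inv_mem hxN) ⟨F.f s, hP ⟨s, hs, rfl⟩⟩).1 ⟨s, hs, rfl⟩
    obtain ⟨r, -, hr⟩ := hmem
    have hr' : F.f r = x.1⁻¹ * F.f s * x.1⁻¹⁻¹ := hr
    rw [inv_inv] at hr'
    rw [← F.commute_iff, hcf, show F.f s = x.1 * F.f r * x.1⁻¹ by rw [hr']; group]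
    have hz : F.f r * F.z = F.z * F.f r := F.commute_iff.2 ((zI_facts 0).2 r)
    rw [Frame.z] at hz
    calc x.1 * F.f zI * x.1⁻¹ * (x.1 * F.f r * x.1⁻¹) = x.1 * (F.f zI * F.f r) * x.1⁻¹ := by group
      _ = x.1 * (F.f r * F.f zI) * x.1⁻¹ := by rw [hz]
      _ = _ := by group
  have hz : x.1 * F.z * x.1⁻¹ = F.z := by
    rcases syl_center c hc hcen with rfl | rfl
    · rw [F.map_one, eq_comm, conj_eq_one_iff] at hcf
      exact absurd hcf F.z_ne_one
    · exact hcf.symm
  obtain ⟨a, ha⟩ := F.exists_of_commute (g := x.1) (mul_inv_eq_iff_eq_mul.1 hz)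
  refine ⟨a, syl_selfnorm a fun s hs => ?_, ha⟩
  obtain ⟨r, hr, hrf⟩ := hnorm s hs
  rwa [show cj 0 a s = r from F.inj (by rw [F.map_cj, ha, hrf])]

end Frame

section

variable {G : Type*} [Group G] {F : Frame 0 G}

theorem Pair.isConj_moves (P : Pair F) {x y : Ix} (h : y ∈ moves x) : IsConj (F.f x) (F.f y) := by
  simp only [moves, List.mem_append, List.mem_cons, List.not_mem_nil, or_false] at h
  rcases h with ((rfl | rfl | rfl | rfl) | h) | h
  iterate 4 exact isConj_iff.2 ⟨_, (F.map_cj _ x).symm⟩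
  · split_ifs at h with hx
    · rw [List.mem_singleton.1 h]; exact isConj_iff.2 ⟨_, P.conj0 x hx⟩
    · exact absurd h List.not_mem_nil
  · split_ifs at h with hx
    · rw [List.mem_singleton.1 h]; exact isConj_iff.2 ⟨_, P.conj1 x hx⟩
    · exact absurd h List.not_mem_nil

theorem Pair.isConj_grow (P : Pair F) (r : Ix) :
    ∀ (n : Nat), ∀ i ∈ grow^[n] [r], IsConj (F.f r) (F.f i) := by
  intro n
  induction n with
  | zero =>
    intro i hi
    rw [Function.iterate_zero, id_eq, List.mem_singleton] at hi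
    subst hi; exact IsConj.refl _
  | succ n ih =>
    intro i hi
    rw [Function.iterate_succ_apply', grow, List.mem_filter, decide_eq_true_iff, List.mem_append,
      List.mem_flatMap] at hi
    rcases hi.2 with h | ⟨j, hj, hji⟩
    · exact ih i h
    · exact (ih j hj).trans (P.isConj_moves hji)

namespace Good

variable (g : Good F)

include g in
theorem isConj_of_mem_clZ {i : Ix} (h : i ∈ clZ) : IsConj F.z (F.f i) :=
  g.toPair.isConj_grow zI 6 i (grow_facts.1 i h)

include g in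
theorem isConj_of_mem_clA {i : Ix} (h : i ∈ clA) : IsConj (F.f 36) (F.f i) :=
  g.toPair.isConj_grow 36 5 i (grow_facts.2 i h)

include g in
theorem mem_of_invol {i : Ix} {x : G} (hx : x = F.z ∨ x = F.f 36) (h : IsConj x (F.f i)) :
    i ∈ clZ ∨ i ∈ clA := by
  obtain ⟨c, hc⟩ := isConj_iff.1 h
  have hx0 : x ≠ 1 := by
    rcases hx with rfl | rfl
    · exact F.z_ne_one
    · exact fun h => absurd (F.eq_one_iff.1 h) (by decide)
  have hx2 : x * x = 1 := by
    rcases hx with rfl | rfl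
    · exact F.z_sq
    · exact F.sq_eq_one_iff.2 (class_invol.2 36 (by decide)).2
  refine invol_cases i (fun h0 => hx0 ?_) (F.sq_eq_one_iff.1 ?_)
  · rw [h0, F.map_one, conj_eq_one_iff] at hc
    exact hc
  · rw [← hc]
    calc c * x * c⁻¹ * (c * x * c⁻¹) = c * (x * x) * c⁻¹ := by group
      _ = 1 := by rw [hx2]; group

include g in
theorem isConj_z (i : Ix) : IsConj F.z (F.f i) ↔ i ∈ clZ := by
  refine ⟨fun h => (g.mem_of_invol (Or.inl rfl) h).resolve_right fun hA => ?_, g.isConj_of_mem_clZ⟩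
  exact g.not_conj (h.trans (g.isConj_of_mem_clA hA).symm)

include g in
theorem isConj_a (i : Ix) : IsConj (F.f 36) (F.f i) ↔ i ∈ clA := by
  refine ⟨fun h => (g.mem_of_invol (Or.inr rfl) h).resolve_left fun hZ => ?_, g.isConj_of_mem_clA⟩
  exact g.not_conj ((g.isConj_of_mem_clZ hZ).trans h.symm)

include g in
theorem two_classes [Finite G] (t : G) (ht : orderOf t = 2) :
    IsConj F.z t ∨ IsConj (F.f 36) t := by
  have : Fact (Nat.Prime 2) := ⟨Nat.prime_two⟩
  obtain ⟨P, hP⟩ := F.exists_sylow_eq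
  have hz : IsPGroup 2 (Subgroup.zpowers t) :=
    IsPGroup.of_card (n := 1) (by rw [Nat.card_zpowers, ht]; rfl)
  obtain ⟨Q, hQ⟩ := hz.exists_le_sylow
  obtain ⟨c, hc⟩ := MulAction.exists_smul_eq G Q P
  have hmem : c * t * c⁻¹ ∈ F.sylSub := by
    rw [← hP, ← hc, Sylow.smul_def]
    exact Subgroup.smul_mem_pointwise_smul t (MulAut.conj c) Q.toSubgroup
      (hQ (Subgroup.mem_zpowers t))
  obtain ⟨i, -, hi⟩ := hmem
  have hconj : IsConj (F.f i) t := by rw [hi]; exact (isConj_iff.2 ⟨c, rfl⟩ : IsConj t _).symm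
  have ht2 : t * t = 1 := by rw [← sq, ← ht, pow_orderOf_eq_one]
  rcases invol_cases i (fun h0 => by
      rw [h0, F.map_one, eq_comm, conj_eq_one_iff] at hi
      rw [hi, orderOf_one] at ht; omega)
    (F.sq_eq_one_iff.1 (by
      rw [hi]
      calc c * t * c⁻¹ * (c * t * c⁻¹) = c * (t * t) * c⁻¹ := by group
        _ = 1 := by rw [ht2]; group)) with h | h
  · exact Or.inl ((g.isConj_of_mem_clZ h).trans hconj)
  · exact Or.inr ((g.isConj_of_mem_clA h).trans hconj)

theorem centralizes_of_mem_zpowers {G : Type*} [Group G] {a b z : G} (ha : a * a = 1)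
    (hb : b * b = 1) (hz2 : z * z = 1) (hz : z ∈ Subgroup.zpowers (a * b)) :
    a * z = z * a ∧ b * z = z * b := by
  obtain ⟨n, rfl⟩ := Subgroup.mem_zpowers_iff.1 hz
  have ha' : a⁻¹ = a := inv_eq_of_mul_eq_one_right ha
  have hb' : b⁻¹ = b := inv_eq_of_mul_eq_one_right hb
  have hconj : a * (a * b) ^ n * a⁻¹ = ((a * b) ^ n)⁻¹ := by
    rw [← MulAut.conj_apply, map_zpow, MulAut.conj_apply, ← inv_zpow,
      show a * (a * b) * a⁻¹ = (a * b)⁻¹ by
        rw [mul_inv_rev, hb', ha', ← mul_assoc a a b, ha, one_mul]]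
  rw [inv_eq_of_mul_eq_one_right hz2] at hconj
  have h1 := mul_inv_eq_iff_eq_mul.1 hconj
  refine ⟨h1, ?_⟩
  have hc := (Commute.self_zpow (a * b) n).eq
  generalize (a * b) ^ n = w at h1 hc ⊢
  calc b * w = a⁻¹ * (a * b * w) := by group
    _ = a⁻¹ * (w * (a * b)) := by rw [hc]
    _ = a * (w * a) * b := by rw [ha']; group
    _ = a * (a * w) * b := by rw [h1]
    _ = w * b := by rw [← mul_assoc a a, ha, one_mul]

include g in
theorem zPairs_count [Finite G] :
    Nat.card {q : G × G // IsConj F.z q.1 ∧ IsConj (F.f 36) q.2 ∧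
      F.z ∈ Subgroup.zpowers (q.1 * q.2)} = 156 := by
  rw [← zPairs_card, ← Nat.card_eq_finsetCard]
  symm
  have hmem : ∀ p : Ix × Ix, p ∈ zPairs ↔ (p.1 ∈ clZ ∧ p.2 ∈ clA) ∧
      ((List.range 12).any fun n => pw (mul 0 p.1 p.2) n == zI) = true := fun p => by
    simp [zPairs]
  refine Nat.card_congr (Equiv.ofBijective
    (fun p : {p : Ix × Ix // p ∈ zPairs} => (⟨(F.f p.1.1, F.f p.1.2),
      (g.isConj_z _).2 ((hmem _).1 p.2).1.1, (g.isConj_a _).2 ((hmem _).1 p.2).1.2,
      by rw [← F.map_mul]; exact F.mem_zpowers_iff_pw.2 ((hmem _).1 p.2).2⟩ :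
      {q : G × G // IsConj F.z q.1 ∧ IsConj (F.f 36) q.2 ∧
        F.z ∈ Subgroup.zpowers (q.1 * q.2)})) ⟨?_, ?_⟩)
  · intro p q h
    have h' := congrArg Subtype.val h
    exact Subtype.ext (Prod.ext (F.inj (congrArg Prod.fst h')) (F.inj (congrArg Prod.snd h')))
  · rintro ⟨⟨u, v⟩, hu, hv, hz⟩
    have hsq : ∀ {x y : G}, IsConj x y → x * x = 1 → y * y = 1 := by
      intro x y h hx
      obtain ⟨c, rfl⟩ := isConj_iff.1 h
      calc c * x * c⁻¹ * (c * x * c⁻¹) = c * (x * x) * c⁻¹ := by group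
        _ = 1 := by rw [hx]; group
    obtain ⟨hcu, hcv⟩ := centralizes_of_mem_zpowers (hsq hu F.z_sq)
      (hsq hv (F.sq_eq_one_iff.2 (class_invol.2 36 (by decide)).2)) F.z_sq hz
    obtain ⟨i, rfl⟩ := F.exists_of_commute hcu
    obtain ⟨j, rfl⟩ := F.exists_of_commute hcv
    refine ⟨⟨(i, j), (hmem _).2 ⟨⟨(g.isConj_z i).1 hu, (g.isConj_a j).1 hv⟩, ?_⟩⟩, rfl⟩
    exact F.mem_zpowers_iff_pw.1 (by rw [F.map_mul]; exact hz)

include g in
/-- The order formula. -/
theorem card_eq [Finite G] : Nat.card G =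
    Nat.card (Subgroup.centralizer ({F.f 36} : Set G)) * 156 +
      192 * Nat.card {q : G × G // IsConj F.z q.1 ∧ IsConj (F.f 36) q.2 ∧
        F.f 36 ∈ Subgroup.zpowers (q.1 * q.2)} := by
  classical
  have hoz : orderOf F.z = 2 := orderOf_eq_prime (by rw [sq]; exact F.z_sq) F.z_ne_one
  have hoa : orderOf (F.f 36) = 2 := orderOf_eq_prime
    (by rw [sq]; exact F.sq_eq_one_iff.2 (class_invol.2 36 (by decide)).2)
    (fun h => absurd (F.eq_one_iff.1 h) (by decide))
  have hne : F.z ≠ F.f 36 := fun h => absurd (F.inj h) (by decide)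
  have h := Cfsg.Agent.S1875.result F.z (F.f 36) hoz hoa g.not_conj {F.z, F.f 36}
    (fun w hw => by rcases Finset.mem_insert.1 hw with rfl | hw; exacts [hoz, Finset.mem_singleton.1 hw ▸ hoa])
    (fun t ht => by
      rcases g.two_classes t ht with h | h
      · refine ⟨F.z, Finset.mem_insert_self _ _, h.symm, fun w hw hw' => ?_⟩
        rcases Finset.mem_insert.1 hw with rfl | hw
        · rfl
        · exact absurd (h.trans (Finset.mem_singleton.1 hw ▸ hw')) g.not_conj
      · refine ⟨F.f 36, Finset.mem_insert_of_mem (Finset.mem_singleton_self _), h.symm,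
          fun w hw hw' => ?_⟩
        rcases Finset.mem_insert.1 hw with rfl | hw
        · exact absurd (h.trans hw').symm g.not_conj
        · exact Finset.mem_singleton.1 hw)
  rw [Finset.sum_pair hne, g.zPairs_count] at h
  have hL : Nat.card (Subgroup.centralizer ({F.z} : Set G)) = 192 := F.card_L
  have hca : 0 < Nat.card (Subgroup.centralizer ({F.f 36} : Set G)) := Nat.card_pos
  rw [hL] at h
  generalize Nat.card (Subgroup.centralizer ({F.f 36} : Set G)) = ca at h hca ⊢
  generalize Nat.card {q : G × G // IsConj F.z q.1 ∧ IsConj (F.f 36) q.2 ∧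
    F.f 36 ∈ Subgroup.zpowers (q.1 * q.2)} = na at h ⊢
  have hca' : (ca : ℚ) ≠ 0 := Nat.cast_ne_zero.2 hca.ne'
  have : ((Nat.card G : ℕ) : ℚ) = ((ca * 156 + 192 * na : ℕ) : ℚ) := by
    rw [h]; push_cast; field_simp
  exact_mod_cast this

end Good

end

end Cfsg.Agent.AN82
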