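import Cfsg.Agent.Lib.AN36Amalgam
import Cfsg.Agent.Lib.AN36Count
import Cfsg.Agent.Lib.AEightThreeGen62

/-!
# S3344: the case of a small centralizer of the second class

If `|C(a)| = 96` then the copy of `Alt(8)` contains the centralizers of its involutions, so it is the
whole group.
-/

set_option autoImplicit false
set_option maxRecDepth 100000
set_option synthInstance.maxSize 8000

namespace Cfsg.Agent.AN36Eight

open Cfsg.Agent.CosetCertCore Cfsg.Agent.AN82 Cfsg.Agent.AN36Amalgam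

variable {G : Type*} [Group G] {F : Frame 0 G}

theorem exists_conj_moves (P : Pair F) {K : Subgroup G} (hf : ∀ i, F.f i ∈ K) (h0 : P.n0 ∈ K)
    (h1 : P.n1 ∈ K) {x y : Ix} (h : y ∈ moves x) : ∃ c ∈ K, c * F.f x * c⁻¹ = F.f y := by
  simp only [moves, List.mem_append, List.mem_cons, List.not_mem_nil, or_false] at h
  rcases h with ((rfl | rfl | rfl | rfl) | h) | h
  iterate 4 exact ⟨_, hf _, (F.map_cj _ x).symm⟩
  · split_ifs at h with hx
    · rw [List.mem_singleton.1 h]; exact ⟨_, h0, P.conj0 x hx⟩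
    · exact absurd h List.not_mem_nil
  · split_ifs at h with hx
    · rw [List.mem_singleton.1 h]; exact ⟨_, h1, P.conj1 x hx⟩
    · exact absurd h List.not_mem_nil

theorem exists_conj_grow (P : Pair F) {K : Subgroup G} (hf : ∀ i, F.f i ∈ K) (h0 : P.n0 ∈ K)
    (h1 : P.n1 ∈ K) (r : Ix) :
    ∀ (n : Nat), ∀ i ∈ grow^[n] [r], ∃ c ∈ K, c * F.f r * c⁻¹ = F.f i := by
  intro n
  induction n with
  | zero =>
    intro i hi
    rw [Function.iterate_zero, id_eq, List.mem_singleton] at hi
    subst hi; exact ⟨1, K.one_mem, by group⟩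
  | succ n ih =>
    intro i hi
    rw [Function.iterate_succ_apply', grow, List.mem_filter, decide_eq_true_iff, List.mem_append,
      List.mem_flatMap] at hi
    rcases hi.2 with h | ⟨j, hj, hji⟩
    · exact ih i h
    · obtain ⟨c, hc, hcj⟩ := ih j hj
      obtain ⟨d, hd, hdj⟩ := exists_conj_moves P hf h0 h1 hji
      exact ⟨d * c, K.mul_mem hd hc, by rw [← hdj, ← hcj]; group⟩

/-- A word of order three centralizing the involution. -/
def w3 : List Nat := [0, 1, 0, 4, 5, 3, 2]

theorem w3_facts : (∀ i, pa (w3 ++ (w3 ++ w3)) i = i) ∧ pa w3 ≠ id ∧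
    ∀ i, pa (w3 ++ wordOf 36) i = pa (wordOf 36 ++ w3) i := by decide +kernel

theorem syl_gen : ∀ a : Ix, inSyl a = true → ∃ i j k : Ix,
    (inSyl i = true ∧ mul 0 i i = 0) ∧ (inSyl j = true ∧ mul 0 j j = 0) ∧
      (inSyl k = true ∧ mul 0 k k = 0) ∧ a = mul 0 (mul 0 i j) k := by decide +kernel

theorem card_cent36 : (Finset.univ.filter fun i : Ix => comm 0 i 36 = true).card = 32 := by
  decide +kernel

theorem centralizer_conj_le {K : Subgroup G} {x y c : G} (hc : c ∈ K) (hxy : c * x * c⁻¹ = y)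
    (h : Subgroup.centralizer ({x} : Set G) ≤ K) : Subgroup.centralizer ({y} : Set G) ≤ K := by
  intro d hd
  rw [Subgroup.mem_centralizer_singleton_iff, ← hxy] at hd
  have : c⁻¹ * d * c ∈ Subgroup.centralizer ({x} : Set G) := by
    rw [Subgroup.mem_centralizer_singleton_iff]
    calc c⁻¹ * d * c * x = c⁻¹ * (d * (c * x * c⁻¹)) * c := by group
      _ = c⁻¹ * ((c * x * c⁻¹) * d) * c := by rw [hd]
      _ = _ := by group
  have := K.mul_mem (K.mul_mem hc (h this)) (K.inv_mem hc)
  convert this using 1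
  group

theorem card_of_96 [Finite G] (g : Good F)
    (hca : Nat.card (Subgroup.centralizer ({F.f 36} : Set G)) = 96) : Nat.card G = 20160 := by
  have : Fact (Nat.Prime 2) := ⟨Nat.prime_two⟩
  obtain ⟨Q, ψ, hinj, hψ⟩ := exists_hom g.toPair
  have hval : ∀ w, ψ (val mk8 w) = val (letter Q) w := fun w => by
    rw [map_val, show (fun k => ψ (mk8 k)) = letter Q from funext hψ]
  have hf : ∀ i, F.f i ∈ ψ.range := fun i => ⟨val mk8 (wordOf i), by rw [hval, val_word]⟩
  have h0 : Q.n0 ∈ ψ.range := ⟨mk8 4, hψ 4⟩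
  have h1 : Q.n1 ∈ ψ.range := ⟨mk8 5, hψ 5⟩
  have hLle : Subgroup.centralizer ({F.z} : Set G) ≤ ψ.range := fun x hx => by
    obtain ⟨i, rfl⟩ := F.mem_L.1 hx
    exact hf i
  set C := Subgroup.centralizer ({F.f 36} : Set G) with hC
  -- the centralizer in the subgroup has order divisible by 32 and by 3
  have h32 : 32 ∣ Nat.card (ψ.range ⊓ C : Subgroup G) := by
    have hle : Subgroup.centralizer ({F.z} : Set G) ⊓ C ≤ ψ.range ⊓ C := inf_le_inf_right _ hLle
    have hcard : Nat.card (Subgroup.centralizer ({F.z} : Set G) ⊓ C : Subgroup G) = 32 := by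
      rw [← card_cent36, ← Nat.card_eq_finsetCard]
      refine (Nat.card_congr (Equiv.ofBijective
        (fun i : {i : Ix // i ∈ Finset.univ.filter fun i : Ix => comm 0 i 36 = true} =>
          (⟨F.f i.1, F.mem_L.2 ⟨i.1, rfl⟩, Subgroup.mem_centralizer_singleton_iff.2
            (F.commute_iff.2 (Finset.mem_filter.1 i.2).2)⟩ :
            (Subgroup.centralizer ({F.z} : Set G) ⊓ C : Subgroup G))) ⟨?_, ?_⟩)).symm
      · intro a b h
        exact Subtype.ext (F.inj (congrArg Subtype.val h))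
      · rintro ⟨x, hxL, hxC⟩
        obtain ⟨i, rfl⟩ := F.mem_L.1 hxL
        exact ⟨⟨i, Finset.mem_filter.2 ⟨Finset.mem_univ _,
          F.commute_iff.1 (Subgroup.mem_centralizer_singleton_iff.1 hxC)⟩⟩, rfl⟩
    exact hcard ▸ Subgroup.card_dvd_of_le hle
  have h3 : 3 ∣ Nat.card (ψ.range ⊓ C : Subgroup G) := by
    obtain ⟨hcube, hne, hcomm⟩ := w3_facts
    have hmem : ψ (val mk8 w3) ∈ ψ.range ⊓ C := by
      refine ⟨⟨_, rfl⟩, Subgroup.mem_centralizer_singleton_iff.2 ?_⟩
      rw [← val_word Q 36, ← hval, ← map_mul, ← map_mul, ← val_append, ← val_append]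
      exact congrArg ψ (Subtype.ext (Equiv.ext fun i => by rw [val_mk8, val_mk8, hcomm i]))
    have : Fact (Nat.Prime 3) := ⟨Nat.prime_three⟩
    have ho : orderOf (⟨ψ (val mk8 w3), hmem⟩ : (ψ.range ⊓ C : Subgroup G)) = 3 := by
      rw [Subgroup.orderOf_mk]
      refine orderOf_eq_prime ?_ ?_
      · rw [pow_succ, sq, ← map_mul, ← map_mul, ← val_append, ← val_append, List.append_assoc,
          show val mk8 (w3 ++ (w3 ++ w3)) = 1 from
            Subtype.ext (Equiv.ext fun i => (val_mk8 _ i).trans (hcube i)), map_one]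
      · intro h
        have h' := hinj (h.trans (map_one ψ).symm)
        exact hne (funext fun i => by rw [← val_mk8, h']; rfl)
    exact ho ▸ orderOf_dvd_natCard _
  have hCle : C ≤ ψ.range := by
    have h96 : 96 ∣ Nat.card (ψ.range ⊓ C : Subgroup G) :=
      Nat.Coprime.mul_dvd_of_dvd_of_dvd (by norm_num : Nat.Coprime 32 3) h32 h3
    have hle : (ψ.range ⊓ C : Subgroup G) = C := Subgroup.eq_of_le_of_card_ge inf_le_right (by
      rw [hca]
      exact Nat.le_of_dvd Nat.card_pos h96)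
    exact hle ▸ inf_le_left
  obtain ⟨T, hT⟩ := F.exists_sylow_eq
  have hmemT : ∀ {x : G}, x ∈ (T : Subgroup G) ↔ ∃ a, inSyl a = true ∧ F.f a = x := by
    intro x; rw [hT]; rfl
  have htop : ψ.range = ⊤ := by
    refine AEightThreeGen62.eq_top_of_centralizers T ?_ ?_ ?_ ?_ ?_
    · intro x hx
      obtain ⟨a, -, rfl⟩ := hmemT.1 hx
      exact hf a
    · intro x hx
      obtain ⟨a, ha, rfl⟩ := hmemT.1 hx
      obtain ⟨i, j, k, ⟨-, hi⟩, ⟨-, hj⟩, ⟨-, hk⟩, rfl⟩ := syl_gen a ha
      rw [F.map_mul, F.map_mul]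
      refine mul_mem (mul_mem ?_ ?_) ?_ <;>
        exact Subgroup.subset_closure (by rw [Set.mem_ofPred_eq, sq]; exact F.sq_eq_one_iff.2 (by assumption))
    · intro x hx
      have hzT : F.z ∈ (T : Subgroup G) := hmemT.2 ⟨zI, syl_facts.1, rfl⟩
      obtain ⟨c, hc, hcf⟩ := hmemT.1 ((Subgroup.mem_normalizer_iff.1 hx _).1 hzT)
      have hcen : ∀ s : Ix, inSyl s = true → comm 0 c s = true := by
        intro s hs
        obtain ⟨r, -, hr⟩ := hmemT.1 ((Subgroup.mem_normalizer_iff.1 (inv_mem hx) _).1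
          (hmemT.2 ⟨s, hs, rfl⟩))
        rw [inv_inv] at hr
        rw [← F.commute_iff, hcf, show F.f s = x * F.f r * x⁻¹ by rw [hr]; group]
        have hz : F.f r * F.z = F.z * F.f r := F.commute_iff.2 ((zI_facts 0).2 r)
        calc x * F.z * x⁻¹ * (x * F.f r * x⁻¹) = x * (F.z * F.f r) * x⁻¹ := by group
          _ = x * (F.f r * F.z) * x⁻¹ := by rw [hz]
          _ = _ := by group
      rcases syl_center c hc hcen with rfl | rfl
      · rw [F.map_one, eq_comm, conj_eq_one_iff] at hcf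
        exact absurd hcf F.z_ne_one
      · exact hLle (Subgroup.mem_centralizer_singleton_iff.2 (mul_inv_eq_iff_eq_mul.1 hcf.symm))
    · intro x hx hx2 hx1
      obtain ⟨a, -, rfl⟩ := hmemT.1 hx
      rcases invol_cases a (fun h => hx1 (by rw [h, F.map_one]))
        (F.sq_eq_one_iff.1 (by rw [← sq]; exact hx2)) with h | h
      · obtain ⟨c, hc, hca⟩ := exists_conj_grow Q hf h0 h1 zI 6 a (grow_facts.1 a h)
        exact centralizer_conj_le hc hca hLle
      · obtain ⟨c, hc, hca⟩ := exists_conj_grow Q hf h0 h1 36 5 a (grow_facts.2 a h)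
        exact centralizer_conj_le hc hca hCle
    · exact ⟨F.z, F.f 36, by rw [sq]; exact F.z_sq, F.z_ne_one,
        by rw [sq]; exact F.sq_eq_one_iff.2 (class_invol.2 36 (by decide)).2,
        fun h => absurd (F.eq_one_iff.1 h) (by decide), g.not_conj⟩
  have hA : Nat.card (alternatingGroup (Fin 8)) = 20160 := by
    rw [nat_card_alternatingGroup]; simp [Nat.factorial]
  rw [← hA, Nat.card_congr (MonoidHom.ofInjective hinj).toEquiv, htop, Subgroup.card_top]

end Cfsg.Agent.AN36Eight
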