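import Cfsg.Agent.Lib.AN39Cent
import Cfsg.Agent.Lib.AN36NineData

/-!
# S3344: the model of a centralizer of order 480

The elements are pairs of a member of the four-group `0, 3, 54, 57` and a permutation of five points; odd
permutations exchange `3` and `57`.
-/

set_option autoImplicit false
set_option maxRecDepth 100000

namespace Cfsg.Agent.AN36Nine

open Cfsg.Agent.CosetCertCore Cfsg.Agent.AN82 Cfsg.Agent.AN36NineData

/-- Indices of permutations; `0` is the identity, `24` a transposition. -/
abbrev Q : Type := Fin 120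

/-- The model. -/
abbrev Md : Type := Fin 4 × Q

/-- An index. -/
def qix (n : Nat) : Q := ⟨n % 120, Nat.mod_lt _ (by norm_num)⟩

/-- Product of indices. -/
noncomputable def qmul (a b : Q) : Q := qix (entry prodT 8 (120 * a.1 + b.1))

/-- Inverse of an index. -/
def qinv (a : Q) : Q := qix (Nat.land (Nat.shiftRight invI (8 * a.1)) 255)

/-- Parity of an index. -/
def qodd (a : Q) : Bool := (Nat.land (Nat.shiftRight oddN a.1) 1) == 1

/-- Evaluation of a packed permutation. -/
def evalPerm (t : Nat) (a : Q) (i : Fin 5) : Fin 5 :=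
  ⟨Nat.shiftRight (Nat.shiftRight t (16 * a.1)) (3 * i.1) % 8 % 5, Nat.mod_lt _ (by norm_num)⟩

theorem evalPerm_inv : ∀ a : Q, ∀ i : Fin 5,
    evalPerm invN a (evalPerm imgN a i) = i ∧ evalPerm imgN a (evalPerm invN a i) = i := by
  decide +kernel

/-- The permutation with the given index. -/
def qp (a : Q) : Equiv.Perm (Fin 5) where
  toFun := evalPerm imgN a
  invFun := evalPerm invN a
  left_inv i := (evalPerm_inv a i).1
  right_inv i := (evalPerm_inv a i).2

theorem qmul_eval : ∀ a b : Q, ∀ i : Fin 5,
    evalPerm imgN (qmul a b) i = evalPerm imgN a (evalPerm imgN b i) := by decide +kernel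

theorem qp_mul (a b : Q) : qp (qmul a b) = qp a * qp b := Equiv.ext fun i => qmul_eval a b i

theorem eval_zero : ∀ i : Fin 5, evalPerm imgN 0 i = i := by decide +kernel

theorem qp_zero : qp 0 = 1 := Equiv.ext eval_zero

theorem qp_sign : ∀ a : Q, Equiv.Perm.sign (qp a) = if qodd a then -1 else 1 := by decide +kernel

theorem eval_inj : ∀ a b : Q, (∀ i : Fin 5, evalPerm imgN a i = evalPerm imgN b i) → a = b := by
  decide +kernel

theorem qp_injective : Function.Injective qp :=
  fun a b h => eval_inj a b fun i => congrArg (fun p : Equiv.Perm (Fin 5) => p i) h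

theorem qp_surjective : Function.Surjective qp :=
  ((Fintype.bijective_iff_injective_and_card qp).2 ⟨qp_injective, by
    rw [Fintype.card_fin, Fintype.card_perm, Fintype.card_fin]; rfl⟩).2

theorem q_facts : qodd 24 = true ∧ qmul 24 24 = 0 ∧ qodd 0 = false ∧
    (∀ a : Q, qmul a (qinv a) = 0 ∧ qmul 0 a = a ∧ qmul a 0 = a) ∧
    (∀ a b : Q, qodd (qmul a b) = (qodd a != qodd b)) ∧
    ∀ a : Q, qodd a = true → qodd (qmul a 24) = false := by decide +kernel

theorem qp_inv (a : Q) : qp (qinv a) = (qp a)⁻¹ :=
  eq_inv_of_mul_eq_one_right (by rw [← qp_mul, (q_facts.2.2.2.1 a).1, qp_zero])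

/-- Two double transpositions are conjugate by an even permutation. -/
theorem even_invol_conj : ∀ a : Q, qodd a = false → qmul a a = 0 → a ≠ 0 →
    ∀ b : Q, qodd b = false → qmul b b = 0 → b ≠ 0 →
      ∃ q : Q, qodd q = false ∧ qmul (qmul q a) (qinv q) = b := by decide +kernel

/-- An odd involution is a transposition. -/
theorem odd_invol_conj : ∀ a : Q, qodd a = true → qmul a a = 0 →
    ∃ q : Q, qodd q = false ∧ qmul (qmul q a) (qinv q) = 24 := by decide +kernel

/-- No even permutation exchanges two commuting double transpositions. -/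
theorem no_even_swap : ∀ x : Q, qodd x = false → qmul x x = 0 → x ≠ 0 →
    ∀ y : Q, qodd y = false → qmul y y = 0 → y ≠ 0 → x ≠ y → qmul x y = qmul y x →
      ∀ q : Q, qodd q = false → qmul (qmul q x) (qinv q) = y → qmul (qmul q y) (qinv q) = x →
        False := by decide +kernel

/-- The member of the four-group. -/
def vix : Fin 4 → Ix := ![0, 3, 54, 57]

/-- The addition of the four-group. -/
def vadd (a b : Fin 4) : Fin 4 := ![![0, 1, 2, 3], ![1, 0, 3, 2], ![2, 3, 0, 1], ![3, 2, 1, 0]] a b

/-- The exchange of `3` and `57`. -/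
def vswap : Fin 4 → Fin 4 := ![0, 3, 2, 1]

theorem vix_facts : (∀ a b : Fin 4, vix (vadd a b) = mul 0 (vix a) (vix b)) ∧
    (∀ a : Fin 4, cj 0 36 (vix a) = vix (vswap a) ∧ vix a ∈ AN39.vL) ∧
    Function.Injective vix ∧ cj 0 36 9 = 147 ∧ cj 0 36 147 = 9 ∧ comm 0 9 147 = true ∧
    mul 0 36 36 = 0 ∧ (36 : Ix) ∈ AN39.tA ∧ mul 0 9 9 = 0 ∧ mul 0 147 147 = 0 ∧
    (∀ i ∈ AN39.vL, mul 0 i i = 0) := by decide +kernel

/-- The product of the model. -/
noncomputable def mm (x y : Md) : Md :=
  (vadd x.1 (if qodd x.2 then vswap y.1 else y.1), qmul x.2 y.2)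

/-- The central involution `54` in the model. -/
def mA : Md := (2, 0)

/-- Powers in the model. -/
noncomputable def mpw (x : Md) : Nat → Md
  | 0 => (0, 0)
  | n + 1 => mm x (mpw x n)

/-- Whether `54` is a power of the element. -/
noncomputable def hasA (x : Md) : Bool := (List.range 12).any fun n => mpw x n == mA

theorem mpw_period : ∀ x : Md, mpw x 10 = (0, 0) ∨ mpw x 12 = (0, 0) := by decide +kernel

/-- Membership in the class of the central involution. -/
noncomputable def isZ (x : Md) : Bool :=
  !qodd x.2 && qmul x.2 x.2 == 0 && x.2 != 0 && x.1 != 0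

/-- Membership in the other class of involutions. -/
noncomputable def isA (x : Md) : Bool := mm x x == (0, 0) && x != (0, 0) && !isZ x

theorem isZ_invol : ∀ x : Md, isZ x = true → mm x x = (0, 0) ∧ x ≠ (0, 0) := by decide +kernel

theorem model_classes : (∀ v : Fin 4, v ≠ 0 → vix v ∈ AN39.aA ∧ mul 0 (vix v) 9 ∈ AN39.zL) ∧
    (9 : Ix) ∈ AN39.aA ∧
    ∀ v : Fin 4, mm (v, 24) (v, 24) = (0, 0) → mul 0 (vix v) 36 ∈ AN39.aA := by decide +kernel

/-- Conjugation keeps the first coordinate of an element conjugated to a standard one. -/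
theorem conj_fst : ∀ (v : Fin 4) (p q : Q), qodd q = false →
    mm (mm (0, q) (v, p)) (0, qinv q) = (v, qmul (qmul q p) (qinv q)) := by decide +kernel

/-- The pairs counted on the side of `54`. -/
noncomputable def aPairs : Finset (Md × Md) :=
  (((Finset.univ : Finset Md).filter fun x => isZ x = true) ×ˢ
    ((Finset.univ : Finset Md).filter fun x => isA x = true)).filter fun p =>
      hasA (mm p.1 p.2) = true

theorem aPairs_card : aPairs.card = 555 := by decide +kernel

end Cfsg.Agent.AN36Nine
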