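import Cfsg.Agent.Lib.AN39Card
import Cfsg.Agent.S0494

/-!
# S3344, order: the normal `Alt(5)` in a centralizer of order 480

When the centralizer of `a = f 54` has order `480`, the commutator subgroup of its half is `Alt(5)`.
It meets the table in the four-group `0, 9, 147, 150`, all of whose involutions are conjugate to `a`.
-/

set_option autoImplicit false
set_option maxRecDepth 100000
set_option linter.unusedSectionVars false

namespace Cfsg.Agent.AN39

open Cfsg.Agent.AN82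
open scoped commutatorElement

/-- The four-group met by the normal `Alt(5)`. -/
def kL : List Ix := [0, 9, 147, 150]

theorem k_pick : ∀ i ∈ aL, i ∉ vL → ∃ r ∈ aL, ∀ v ∈ vL,
    mul 0 r v ∉ vL ∧ mul 0 i (mul 0 r v) ∉ vL := by decide +kernel

theorem k_table : ∀ i ∈ aL, ∀ j ∈ aL, i ∉ vL → j ∉ vL → mul 0 i j ∉ vL →
    (∀ v ∈ vL, (mul 0 i v ∈ aA ↔ mul 0 j v ∈ aA) ∧
      (mul 0 i v ∈ aA ↔ mul 0 (mul 0 i j) v ∈ aA)) → i ∈ kL := by decide +kernel

theorem k_sub : ∀ w ∈ kL, w ∈ aL := by decide +kernel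

theorem k_unique : ∀ w ∈ kL, ∀ v ∈ vL, mul 0 w v ∈ kL → mul 0 w v = w := by decide +kernel

variable {G : Type*} [Group G] [Finite G] {F : Frame 0 G} (g : Good F) (hf : Half F)
include g

/-- The commutator subgroup of the half meets the four-group trivially. -/
theorem Half.eq_one_of_mem {x : hf.H} (hx : x ∈ commutator hf.H) (hv : (x : G) ∈ V4 F) : x = 1 := by
  classical
  haveI : Fact (Nat.Prime 2) := ⟨Nat.prime_two⟩
  obtain ⟨S, hS⟩ := hf.exists_sylow g
  haveI hc : IsMulCommutative (S : Subgroup hf.H) := ⟨⟨fun a b => by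
    obtain ⟨i, hi, ei⟩ := (hS a.1).1 a.2
    obtain ⟨j, hj, ej⟩ := (hS b.1).1 b.2
    refine Subtype.ext (Subtype.ext ?_)
    show ((a : hf.H) : G) * ((b : hf.H) : G) = ((b : hf.H) : G) * ((a : hf.H) : G)
    rw [← ei, ← ej]
    exact F.commute_iff.2 (aL_comm i hi j hj)⟩⟩
  letI : CommGroup (S : Subgroup hf.H) :=
    { (inferInstance : Group (S : Subgroup hf.H)) with mul_comm := hc.is_comm.comm }
  have key : ∀ (k : ℕ) (h : hf.H), h⁻¹ * x ^ k * h ∈ (S : Subgroup hf.H) → h⁻¹ * x ^ k * h = x ^ k := by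
    intro k h _
    have hxc : Commute h x := Subtype.ext (hf.V4_central g h.2 hv)
    rw [mul_assoc, ← (hxc.pow_right k).eq, inv_mul_cancel_left]
  have h1 := MonoidHom.transfer_eq_pow (H := (S : Subgroup hf.H)) (MonoidHom.id _) x key
  have h2 : MonoidHom.transfer (MonoidHom.id (S : Subgroup hf.H)) x = 1 :=
    MonoidHom.mem_ker.1 (Abelianization.commutator_subset_ker _ hx)
  rw [h2, MonoidHom.id_apply] at h1
  have h3 : x ^ (S : Subgroup hf.H).index = 1 := (congrArg Subtype.val h1).symm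
  have h4 : x ^ 2 = 1 := by
    obtain ⟨i, hi, e⟩ := hv
    refine Subtype.ext ?_
    rw [Subgroup.coe_pow, ← e, pow_two, Subgroup.coe_one, F.sq_eq_one_iff]
    exact (aL_sq i (vL_facts i hi).1).2
  exact orderOf_eq_one_iff.1 (Nat.eq_one_of_dvd_coprimes
    ((Nat.Prime.coprime_iff_not_dvd Nat.prime_two).2 S.not_dvd_index)
    (orderOf_dvd_of_pow_eq_one h4) (orderOf_dvd_of_pow_eq_one h3))

/-- The normal `Alt(5)` of a centralizer of order 480. -/
theorem exists_normal_alt5 (h : Nat.card (CA F) = 480) : ∃ K : Subgroup G, K ≤ CA F ∧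
    CA F ≤ Subgroup.normalizer (K : Set G) ∧ Nonempty (K ≃* alternatingGroup (Fin 5)) ∧
    ∀ i : Ix, F.f i ∈ K ↔ i ∈ ([0, 9, 147, 150] : List Ix) := by
  classical
  obtain ⟨hf⟩ := exists_half g
  haveI := hf.Vh_normal g
  obtain ⟨P, -, -, -, -, hone, hcases⟩ := hf.quotient g
  have hq : Nat.card (hf.H ⧸ hf.Vh) * 4 = 240 := by
    rw [← hf.card_Vh g, ← hf.Vh.card_eq_card_quotient_mul_card_subgroup]
    have := hf.card
    omega
  obtain ⟨hsimp, h60⟩ : IsSimpleGroup (hf.H ⧸ hf.Vh) ∧ Nat.card (hf.H ⧸ hf.Vh) = 60 := by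
    rcases hcases with h' | h'
    · omega
    · exact h'
  haveI := hsimp
  set π := QuotientGroup.mk' hf.Vh with hπ
  set D := commutator hf.H with hD
  set φ := π.comp D.subtype with hφ
  have hmap : D.map π = ⊤ := by
    have hne : commutator (hf.H ⧸ hf.Vh) ≠ ⊥ := fun hb => by
      haveI : IsMulCommutative (hf.H ⧸ hf.Vh) := ⟨⟨fun a b => by
        have : ⁅a, b⁆ ∈ commutator (hf.H ⧸ hf.Vh) :=
          Subgroup.commutator_mem_commutator (Subgroup.mem_top a) (Subgroup.mem_top b)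
        rw [hb, Subgroup.mem_bot, commutatorElement_eq_one_iff_mul_comm] at this
        exact this⟩⟩
      exact SimpleOrder.not_comm_of_not_prime (G := hf.H ⧸ hf.Vh) (by rw [h60]; norm_num) inferInstance
    rw [hD, commutator_def, Subgroup.map_commutator,
      Subgroup.map_top_of_surjective π (QuotientGroup.mk'_surjective _), ← commutator_def]
    exact (IsSimpleGroup.eq_bot_or_eq_top_of_normal _ inferInstance).resolve_left hne
  have hinj : Function.Injective φ := (injective_iff_map_eq_one φ).2 fun a ha => Subtype.ext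
    (hf.eq_one_of_mem g a.2 (Subgroup.mem_subgroupOf.1 ((QuotientGroup.eq_one_iff (N := hf.Vh) (a : hf.H)).1 ha : (a : hf.H) ∈ hf.Vh)))
  have hsurj : Function.Surjective φ := fun q => by
    obtain ⟨a, ha, hq'⟩ := (hmap ▸ Subgroup.mem_top q : q ∈ D.map π)
    exact ⟨⟨a, ha⟩, hq'⟩
  obtain ⟨e⟩ := S0494.result h60
  set K := D.map hf.H.subtype with hK
  have hKC : K ≤ CA F := (Subgroup.map_subtype_le _).trans hf.le
  refine ⟨K, hKC, fun c hc => Subgroup.mem_normalizer_fintype ?_,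
    ⟨((D.equivMapOfInjective _ hf.H.subtype_injective).symm.trans
      ((MulEquiv.ofBijective φ ⟨hinj, hsurj⟩).trans e))⟩, ?_⟩
  · rintro _ ⟨a, ha, rfl⟩
    let σ : hf.H →* hf.H :=
      { toFun := fun x => ⟨c * x * c⁻¹, hf.norm c hc x x.2⟩
        map_one' := Subtype.ext (by simp)
        map_mul' := fun x y => Subtype.ext (by simp [mul_assoc]) }
    have hσ : D.map σ ≤ D := by
      rw [hD, commutator_def, Subgroup.map_commutator]
      exact Subgroup.commutator_mono le_top le_top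
    exact ⟨σ a, hσ ⟨a, ha, rfl⟩, rfl⟩
  have hmemK : ∀ i : Ix, F.f i ∈ K → ∃ hi : F.f i ∈ hf.H, (⟨F.f i, hi⟩ : hf.H) ∈ D := by
    rintro i ⟨a, ha, hai⟩
    exact ⟨hai ▸ a.2, by simpa [← hai] using ha⟩
  have hKaL : ∀ i : Ix, F.f i ∈ K → i ∈ aL := fun i hi => by
    obtain ⟨hiH, -⟩ := hmemK i hi
    have htA : i ∈ tA := (tA_spec i).1 (F.commute_iff.1 (mem_CA_iff.1 (hf.le hiH)))
    exact (hf.mem_iff g htA).1 hiH
  have hKv : ∀ i : Ix, F.f i ∈ K → i ∈ vL → i = 0 := fun i hi hv => by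
    obtain ⟨hiH, hiD⟩ := hmemK i hi
    exact F.eq_one_iff.1 (congrArg Subtype.val (hf.eq_one_of_mem g hiD (f_mem_sub.2 hv)))
  -- every coset of the four-group in the abelian subgroup meets `K`
  have hlift : ∀ r ∈ aL, ∃ v ∈ vL, F.f (mul 0 r v) ∈ K := by
    intro r hr
    obtain ⟨d, hd⟩ := hsurj (π ⟨F.f r, hf.M_le g (f_mem_sub.2 hr)⟩)
    obtain ⟨v, hv, hve⟩ := Subgroup.mem_subgroupOf.1 (QuotientGroup.eq.1 hd.symm)
    refine ⟨v, hv, d, d.2, ?_⟩
    rw [F.map_mul, hve]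
    show ((d : hf.H) : G) = F.f r * ((F.f r)⁻¹ * ((d : hf.H) : G))
    rw [mul_inv_cancel_left]
  -- involutions of `K` are conjugate by an element that centralizes the four-group
  have htype : ∀ i j : Ix, F.f i ∈ K → F.f j ∈ K → i ∉ vL → j ∉ vL → ∀ v ∈ vL,
      (mul 0 i v ∈ aA ↔ mul 0 j v ∈ aA) := by
    intro i j hi hj hiv hjv v hv
    obtain ⟨hiH, hiD⟩ := hmemK i hi
    obtain ⟨hjH, hjD⟩ := hmemK j hj
    have hord : ∀ k : Ix, ∀ (hk : F.f k ∈ hf.H) (hkD : (⟨F.f k, hk⟩ : hf.H) ∈ D), k ∈ aL → k ∉ vL →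
        orderOf (φ ⟨_, hkD⟩) = 2 := fun k hk hkD hka hkv => by
      rw [orderOf_injective φ hinj, Subgroup.orderOf_mk, Subgroup.orderOf_mk]
      refine orderOf_eq_prime (by rw [pow_two]; exact F.sq_eq_one_iff.2 (aL_sq k hka).2) fun h1 => hkv ?_
      rw [F.eq_one_iff] at h1
      rw [h1]; decide
    obtain ⟨u, hu⟩ := isConj_iff.1
      (hone _ _ (hord i hiH hiD (hKaL i hi) hiv) (hord j hjH hjD (hKaL j hj) hjv))
    obtain ⟨c, rfl⟩ := hsurj u
    rw [← map_inv, ← map_mul, ← map_mul] at hu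
    have hc' : ((c : hf.H) : G) * F.f i * ((c : hf.H) : G)⁻¹ = F.f j :=
      congrArg (fun x : D => ((x : hf.H) : G)) (hinj hu)
    have hcv : ((c : hf.H) : G) * F.f v * ((c : hf.H) : G)⁻¹ = F.f v := by
      rw [hf.V4_central g (c : hf.H).2 (f_mem_sub.2 hv), mul_inv_cancel_right]
    have hconj : IsConj (F.f (mul 0 i v)) (F.f (mul 0 j v)) := isConj_iff.2 ⟨((c : hf.H) : G), by
      rw [F.map_mul, F.map_mul, ← hc']
      conv_rhs => rw [← hcv]
      group⟩
    exact ⟨fun ha => (conj_a_iff g).1 (((conj_a_iff g).2 ha).trans hconj),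
      fun ha => (conj_a_iff g).1 (((conj_a_iff g).2 ha).trans hconj.symm)⟩
  have hsub : ∀ i : Ix, F.f i ∈ K → i ∈ kL := by
    intro i hi
    by_cases hiv : i ∈ vL
    · rw [hKv i hi hiv]; exact (by decide : (0 : Ix) ∈ kL)
    obtain ⟨r, hr, hpick⟩ := k_pick i (hKaL i hi) hiv
    obtain ⟨v, hv, hj⟩ := hlift r hr
    obtain ⟨hjv, hijv⟩ := hpick v hv
    have hij : F.f (mul 0 i (mul 0 r v)) ∈ K := by rw [F.map_mul]; exact K.mul_mem hi hj
    exact k_table i (hKaL i hi) _ (hKaL _ hj) hiv hjv hijv fun w hw =>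
      ⟨htype i _ hi hj hiv hjv w hw, htype i _ hi hij hiv hijv w hw⟩
  refine fun i => ⟨hsub i, fun hi => ?_⟩
  obtain ⟨v, hv, hiK⟩ := hlift i (k_sub i hi)
  rwa [k_unique i hi v hv (hsub _ hiK)] at hiK

end Cfsg.Agent.AN39
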