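import Cfsg.Agent.Lib.AN36Count
import Cfsg.Agent.Lib.AN36Eight
import Cfsg.Agent.Lib.AN36NineModel
import Cfsg.Agent.Lib.AN63CentK
import Cfsg.Agent.S2119

/-!
# S3344: the order of the group

If `|C(a)| = 480` then `C(a)` is the model; counting gives `|G| = 181440`.
-/

set_option autoImplicit false
set_option maxRecDepth 100000
set_option synthInstance.maxSize 8000
set_option linter.unusedSectionVars false

namespace Cfsg.Agent.AN36Nine

open Cfsg.Agent.CosetCertCore Cfsg.Agent.AN82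

variable {G : Type*} [Group G] {F : Frame 0 G}

/-- Members of the alternating group by index. -/
noncomputable def qa (a : Q) (h : qodd a = false) : alternatingGroup (Fin 5) :=
  ⟨qp a, by rw [Equiv.Perm.mem_alternatingGroup, qp_sign, h]; rfl⟩

theorem exists_qa (x : alternatingGroup (Fin 5)) : ∃ a h, qa a h = x := by
  obtain ⟨a, ha⟩ := qp_surjective x.1
  have hs : Equiv.Perm.sign (qp a) = 1 := by
    rw [ha]; exact Equiv.Perm.mem_alternatingGroup.1 x.2
  refine ⟨a, ?_, Subtype.ext ha⟩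
  rw [qp_sign] at hs
  cases h : qodd a
  · rfl
  · rw [h, if_pos rfl] at hs
    exact absurd hs (by decide)

/-- Every member of the alternating group is a product of two squares. -/
theorem two_squares : ∀ a : Q, qodd a = false → ∃ b c : Q, qodd b = false ∧ qodd c = false ∧
    a = qmul (qmul b b) (qmul c c) := by decide +kernel

/-- An involutory member of the alternating group, as an index. -/
theorem exists_invol {x : alternatingGroup (Fin 5)} (hx : x * x = 1) (h1 : x ≠ 1) :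
    ∃ a h, qa a h = x ∧ qmul a a = 0 ∧ a ≠ 0 := by
  obtain ⟨a, h, rfl⟩ := exists_qa x
  refine ⟨a, h, rfl, qp_injective ?_, ?_⟩
  · rw [qp_mul, qp_zero]; exact congrArg Subtype.val hx
  · rintro rfl
    exact h1 (Subtype.ext qp_zero)

/-- The coordinates of the centralizer of `54`. -/
structure Coords (F : Frame 0 G) where
  ρ : AN39.CA F →* Equiv.Perm (Fin 5)
  ι : alternatingGroup (Fin 5) →* AN39.CA F
  left : ∀ x, ρ (ι x) = x.1
  conj : ∀ (c : AN39.CA F) (x : alternatingGroup (Fin 5)), ∃ y, c * ι x * c⁻¹ = ι y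
  cent : ∀ (v : Fin 4) (x : alternatingGroup (Fin 5)),
    F.f (vix v) * (ι x : G) = (ι x : G) * F.f (vix v)
  nine : ∃ x, (ι x : G) = F.f 9
  t_image : ∀ c : AN39.CA F, (c : G) = F.f 36 → ρ c = qp 24
  v_image : ∀ (c : AN39.CA F) (v : Fin 4), (c : G) = F.f (vix v) → ρ c = 1

theorem exists_coords [Finite G] (g : Good F) (h : Nat.card (AN39.CA F) = 480) :
    Nonempty (Coords F) := by
  classical
  obtain ⟨K, hKC, hKn, ⟨e0⟩, hKmem⟩ := AN39.exists_normal_alt5 g h
  obtain ⟨hf⟩ := AN39.exists_half g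
  let C := AN39.CA F
  let Kc : Subgroup C := K.subgroupOf C
  have hKnormal : Kc.Normal := ⟨fun k hk c => by
    rw [Subgroup.mem_subgroupOf] at hk ⊢
    exact (Subgroup.mem_normalizer_iff.1 (hKn c.2) _).1 hk⟩
  let eK : Kc ≃* alternatingGroup (Fin 5) := (Subgroup.subgroupOfEquivOfLe hKC).trans e0
  have hb := S2119.result 5 (by norm_num) (by norm_num)
  let conjA : C →* MulAut (alternatingGroup (Fin 5)) :=
    ((MulAut.congr eK).toMonoidHom).comp MulAut.conjNormal
  let ρ0 : C →* Equiv.Perm (Fin 5) :=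
    (MulEquiv.ofBijective _ hb).symm.toMonoidHom.comp conjA
  have hρ : ∀ c, MulAut.conjNormal (ρ0 c) = conjA c := fun c =>
    (MulEquiv.ofBijective _ hb).apply_symm_apply (conjA c)
  let ι0 : alternatingGroup (Fin 5) →* C := Kc.subtype.comp eK.symm.toMonoidHom
  have hact : ∀ (c : C) x, conjA c x = eK (MulAut.conjNormal c (eK.symm x)) := fun c x => rfl
  have hleft : ∀ x, ρ0 (ι0 x) = x.1 := fun x => hb.1 (by
    rw [hρ]
    refine MulEquiv.ext fun y => ?_
    rw [hact]
    have : MulAut.conjNormal (ι0 x) (eK.symm y) = eK.symm (x * y * x⁻¹) := by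
      refine Subtype.ext ?_
      rw [MulAut.conjNormal_apply, map_mul, map_mul, map_inv]
      rfl
    rw [this, MulEquiv.apply_symm_apply]
    exact Subtype.ext (MulAut.conjNormal_apply _ _).symm)
  have hconj : ∀ (c : C) x, c * ι0 x * c⁻¹ = ι0 (conjA c x) := fun c x => by
    rw [hact]
    show c * (eK.symm x : C) * c⁻¹ = (eK.symm (eK _) : C)
    rw [MulEquiv.symm_apply_apply, MulAut.conjNormal_apply]
  have hρconj : ∀ (c : C) (x : alternatingGroup (Fin 5)),
      (conjA c x).1 = ρ0 c * x.1 * (ρ0 c)⁻¹ := fun c x => by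
    rw [← hρ, MulAut.conjNormal_apply]
  have hιK : ∀ x, (ι0 x : G) ∈ K := fun x => (eK.symm x).2
  -- the four-group centralizes the image
  have hKH : ∀ k ∈ K, k ∈ hf.H := by
    intro k hk
    obtain ⟨a, ha, hx⟩ := exists_qa (eK ⟨⟨k, hKC hk⟩, Subgroup.mem_subgroupOf.2 hk⟩)
    obtain ⟨b, c, hb', hc', rfl⟩ := two_squares a ha
    have e : qa _ ha = qa b hb' * qa b hb' * (qa c hc' * qa c hc') :=
      Subtype.ext (by
        show qp _ = qp b * qp b * (qp c * qp c)
        rw [qp_mul, qp_mul, qp_mul])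
    have hsq : ∀ y : C, ((y * y : C) : G) ∈ hf.H := fun y =>
      (hf.mul_iff y.2 y.2).2 Iff.rfl
    have hk' : (ι0 (qa _ ha) : G) = k := by
      rw [hx]
      show ((eK.symm (eK _) : C) : G) = k
      rw [MulEquiv.symm_apply_apply]
    rw [← hk', e, map_mul, map_mul, map_mul, Subgroup.coe_mul]
    exact hf.H.mul_mem (hsq _) (hsq _)
  have hcent : ∀ (v : Fin 4) x, F.f (vix v) * (ι0 x : G) = (ι0 x : G) * F.f (vix v) := fun v x =>
    (hf.V4_central g (hKH _ (hιK x)) (AN39.f_mem_sub.2 (vix_facts.2.1 v).2)).symm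
  have hvim : ∀ (c : C) (v : Fin 4), (c : G) = F.f (vix v) → ρ0 c = 1 := fun c v hc => hb.1 (by
    rw [hρ, map_one]
    refine MulEquiv.ext fun x => ?_
    have hx : c * ι0 x * c⁻¹ = ι0 x := by
      rw [mul_inv_eq_iff_eq_mul]
      refine Subtype.ext ?_
      show (c : G) * _ = _ * (c : G)
      rw [hc]; exact hcent v x
    rw [hconj] at hx
    exact eK.symm.injective (Subtype.ext hx))
  -- the two members of the four-group in the image
  have hmemι : ∀ i : Ix, i ∈ ([0, 9, 147, 150] : List Ix) → ∃ x, (ι0 x : G) = F.f i := fun i hi => by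
    refine ⟨eK ⟨⟨F.f i, hKC ((hKmem i).2 hi)⟩, Subgroup.mem_subgroupOf.2 ((hKmem i).2 hi)⟩, ?_⟩
    show ((eK.symm (eK _) : C) : G) = _
    rw [MulEquiv.symm_apply_apply]
  obtain ⟨x9, hx9⟩ := hmemι 9 (by decide)
  obtain ⟨x147, hx147⟩ := hmemι 147 (by decide)
  have hinj : Function.Injective fun x => (ι0 x : G) := fun x y hxy =>
    eK.symm.injective (Subtype.ext (Subtype.ext hxy))
  obtain ⟨-, -, -, h9, h147, hcomm, h36, h36A, h9sq, h147sq, -⟩ := vix_facts
  let t : C := ⟨F.f 36, AN39.f_mem_CA h36A⟩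
  have ht2 : t * t = 1 := Subtype.ext (F.sq_eq_one_iff.2 h36)
  have hσ2 : ρ0 t * ρ0 t = 1 := by rw [← map_mul, ht2, map_one]
  obtain ⟨s, hs⟩ := qp_surjective (ρ0 t)
  have hs2 : qmul s s = 0 := qp_injective (by rw [qp_mul, hs, hσ2, qp_zero])
  have hsodd : qodd s = true := by
    by_contra hne
    rw [Bool.not_eq_true] at hne
    have hinv : ∀ {x : alternatingGroup (Fin 5)} {i : Ix}, (ι0 x : G) = F.f i → mul 0 i i = 0 →
        i ≠ 0 → x * x = 1 ∧ x ≠ 1 := fun {x i} hx hi hi0 => by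
      refine ⟨hinj ?_, fun h1 => hi0 (F.eq_one_iff.1 ?_)⟩
      · show (ι0 (x * x) : G) = (ι0 1 : G)
        rw [map_mul, Subgroup.coe_mul, hx, F.sq_eq_one_iff.2 hi, map_one, Subgroup.coe_one]
      · rw [← hx, h1, map_one, Subgroup.coe_one]
    obtain ⟨p, hp, hpx, hp2, hp1⟩ :=
      exists_invol (hinv hx9 h9sq (by decide)).1 (hinv hx9 h9sq (by decide)).2
    obtain ⟨r, hr, hrx, hr2, hr1⟩ :=
      exists_invol (hinv hx147 h147sq (by decide)).1 (hinv hx147 h147sq (by decide)).2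
    have hswap : ∀ {x y : alternatingGroup (Fin 5)} {i j : Ix}, (ι0 x : G) = F.f i →
        (ι0 y : G) = F.f j → cj 0 36 i = j → ρ0 t * x.1 * (ρ0 t)⁻¹ = y.1 := by
      intro x y i j hx hy hij
      rw [← hρconj]
      refine congrArg Subtype.val (hinj ?_)
      show (ι0 (conjA t x) : G) = (ι0 y : G)
      rw [← hconj, hy, ← hij, F.map_cj, ← hx]
      rfl
    refine no_even_swap p hp hp2 hp1 r hr hr2 hr1 ?_ ?_ s hne ?_ ?_
    · intro hpr
      subst hpr
      exact absurd (F.inj (hx9.symm.trans ((hpx.symm.trans hrx) ▸ hx147))) (by decide)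
    · refine qp_injective ?_
      rw [qp_mul, qp_mul]
      refine congrArg Subtype.val (hinj (a₁ := qa p hp * qa r hr) (a₂ := qa r hr * qa p hp) ?_)
      show (ι0 (_ * _) : G) = (ι0 (_ * _) : G)
      rw [hpx, hrx, map_mul, map_mul, Subgroup.coe_mul, Subgroup.coe_mul, hx9, hx147]
      exact F.commute_iff.2 hcomm
    · refine qp_injective ?_
      rw [qp_mul, qp_mul, qp_inv, hs]
      have := hswap hx9 hx147 h9
      rwa [← hpx, ← hrx] at this
    · refine qp_injective ?_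
      rw [qp_mul, qp_mul, qp_inv, hs]
      have := hswap hx147 hx9 h147
      rwa [← hpx, ← hrx] at this
  obtain ⟨r, hr, hrs⟩ := odd_invol_conj s hsodd hs2
  let R : alternatingGroup (Fin 5) := qa r hr
  let ι : alternatingGroup (Fin 5) →* C := ι0.comp (MulAut.conj R⁻¹).toMonoidHom
  let ρ : C →* Equiv.Perm (Fin 5) := (MulAut.conj R.1).toMonoidHom.comp ρ0
  refine ⟨⟨ρ, ι, fun x => ?_, fun c x => ?_, fun v x => hcent v _, ⟨R * x9 * R⁻¹, ?_⟩,
    fun c hc => ?_, fun c v hc => ?_⟩⟩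
  · show R.1 * ρ0 (ι0 (R⁻¹ * x * R⁻¹⁻¹)) * R.1⁻¹ = x.1
    rw [hleft]
    show R.1 * (R.1⁻¹ * x.1 * R.1⁻¹⁻¹) * R.1⁻¹ = x.1
    group
  · refine ⟨R * conjA c (R⁻¹ * x * R⁻¹⁻¹) * R⁻¹, ?_⟩
    show c * ι0 (R⁻¹ * x * R⁻¹⁻¹) * c⁻¹ = ι0 (R⁻¹ * (R * _ * R⁻¹) * R⁻¹⁻¹)
    rw [hconj]; congr 1; group
  · show (ι0 (R⁻¹ * (R * x9 * R⁻¹) * R⁻¹⁻¹) : G) = F.f 9
    rw [show R⁻¹ * (R * x9 * R⁻¹) * R⁻¹⁻¹ = x9 by group]
    exact hx9
  · show R.1 * ρ0 c * R.1⁻¹ = qp 24
    rw [show c = t from Subtype.ext hc, ← hrs, qp_mul, qp_mul, qp_inv, hs]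
    rfl
  · show R.1 * ρ0 c * R.1⁻¹ = 1
    rw [hvim c v hc]; group

namespace Coords

variable (D : Coords F)

/-- The member of the four-group. -/
def V (v : Fin 4) : AN39.CA F :=
  ⟨F.f (vix v), AN39.f_mem_CA
    ((by decide : ∀ i ∈ AN39.vL, i ∈ AN39.tA) _ (vix_facts.2.1 v).2)⟩

/-- The outer involution. -/
def T : AN39.CA F := ⟨F.f 36, AN39.f_mem_CA vix_facts.2.2.2.2.2.2.2.1⟩

/-- The outer part. -/
def Te (e : Bool) : AN39.CA F := if e then T else 1

theorem even_part (p : Q) : qodd (if qodd p then qmul p 24 else p) = false := by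
  cases h : qodd p
  · simpa using h
  · simpa using q_facts.2.2.2.2.2 p h

/-- The element with the given coordinates. -/
noncomputable def phi (x : Md) : AN39.CA F :=
  V x.1 * D.ι (qa (if qodd x.2 then qmul x.2 24 else x.2) (even_part x.2)) * Te (qodd x.2)

theorem rho_te (e : Bool) : D.ρ (Te e) = qp (if e then 24 else 0) := by
  cases e
  · simp only [Te, Bool.false_eq_true, if_false, map_one, qp_zero]
  · simp only [Te, if_true]; exact D.t_image T rfl

theorem rho_phi (x : Md) : D.ρ (D.phi x) = qp x.2 := by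
  rw [phi, map_mul, map_mul, D.v_image (V x.1) x.1 rfl, one_mul, D.left, rho_te]
  show qp _ * qp _ = _
  rw [← qp_mul]
  congr 1
  cases h : qodd x.2
  · simp only [Bool.false_eq_true, if_false]
    exact ((q_facts.2.2.2.1 x.2).2.2)
  · simp only [if_true]
    refine qp_injective ?_
    rw [qp_mul, qp_mul, mul_assoc, ← qp_mul, q_facts.2.1, qp_zero, mul_one]

theorem eq_phi {c : AN39.CA F} {v : Fin 4} {a : alternatingGroup (Fin 5)} {p : Q}
    (hc : c = V v * D.ι a * Te (qodd p)) (hρ : D.ρ c = qp p) : c = D.phi (v, p) := by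
  have h := D.rho_phi (v, p)
  rw [phi] at h ⊢
  rw [hc, map_mul, map_mul, D.v_image (V v) v rfl, one_mul, D.left] at hρ
  rw [map_mul, map_mul, D.v_image (V v) v rfl, one_mul, D.left] at h
  have ha : a = qa _ (even_part p) := Subtype.ext (mul_right_cancel (hρ.trans h.symm))
  rw [hc, ha]

theorem V_mul (v w : Fin 4) : (V (vadd v w) : AN39.CA F) = V v * V w :=
  Subtype.ext (by
    show F.f (vix (vadd v w)) = F.f (vix v) * F.f (vix w)
    rw [vix_facts.1, F.map_mul])

theorem T_V (v : Fin 4) : (T : AN39.CA F) * V v = V (vswap v) * T :=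
  Subtype.ext (by
    show F.f 36 * F.f (vix v) = F.f (vix (vswap v)) * F.f 36
    rw [← (vix_facts.2.1 v).1, F.map_cj, inv_mul_cancel_right])

theorem T_sq : (T : AN39.CA F) * T = 1 :=
  Subtype.ext (F.sq_eq_one_iff.2 vix_facts.2.2.2.2.2.2.1)

theorem iota_V (v : Fin 4) (x : alternatingGroup (Fin 5)) : D.ι x * V v = V v * D.ι x :=
  Subtype.ext (D.cent v x).symm

theorem te_move (e : Bool) (v : Fin 4) :
    (Te e : AN39.CA F) * V v = V (if e then vswap v else v) * Te e := by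
  cases e
  · simp only [Te, Bool.false_eq_true, if_false, one_mul, mul_one]
  · simp only [Te, if_true]; exact T_V v

theorem te_mul (e e' : Bool) : (Te e : AN39.CA F) * Te e' = Te (e != e') := by
  cases e <;> cases e' <;> simp [Te, T_sq]

theorem phi_mul (x y : Md) : D.phi x * D.phi y = D.phi (mm x y) := by
  obtain ⟨b, hb⟩ := D.conj (Te (qodd x.2))
    (qa (if qodd y.2 then qmul y.2 24 else y.2) (even_part y.2))
  rw [mul_inv_eq_iff_eq_mul] at hb
  refine D.eq_phi (a := qa (if qodd x.2 then qmul x.2 24 else x.2) (even_part x.2) * b) ?_ ?_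
  · rw [q_facts.2.2.2.2.1, ← te_mul, map_mul, phi, phi, V_mul]
    generalize qa (if qodd x.2 then qmul x.2 24 else x.2) (even_part x.2) = a
    generalize qa (if qodd y.2 then qmul y.2 24 else y.2) (even_part y.2) = a' at hb
    calc V x.1 * D.ι a * Te (qodd x.2) * (V y.1 * D.ι a' * Te (qodd y.2))
        = V x.1 * D.ι a * (Te (qodd x.2) * V y.1) * D.ι a' * Te (qodd y.2) := by group
      _ = V x.1 * D.ι a * (V (if qodd x.2 then vswap y.1 else y.1) * Te (qodd x.2)) * D.ι a' *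
            Te (qodd y.2) := by rw [te_move]
      _ = V x.1 * (D.ι a * V (if qodd x.2 then vswap y.1 else y.1)) *
            (Te (qodd x.2) * D.ι a') * Te (qodd y.2) := by group
      _ = V x.1 * (V (if qodd x.2 then vswap y.1 else y.1) * D.ι a) *
            (D.ι b * Te (qodd x.2)) * Te (qodd y.2) := by rw [iota_V, hb]
      _ = _ := by group
  · rw [map_mul, rho_phi, rho_phi, ← qp_mul]

theorem phi_inj : Function.Injective D.phi := by
  intro x y hxy
  have h2 : x.2 = y.2 := qp_injective (by rw [← D.rho_phi x, hxy, D.rho_phi y])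
  obtain ⟨v, p⟩ := x
  obtain ⟨w, p'⟩ := y
  simp only at h2
  subst h2
  rw [phi, phi, mul_left_inj, mul_left_inj] at hxy
  rw [vix_facts.2.2.1 (F.inj (congrArg Subtype.val hxy) : vix v = vix w)]

theorem phi_one : D.phi (0, 0) = 1 := by
  have h := D.phi_mul (0, 0) (0, 0)
  rw [show mm (0, 0) (0, 0) = ((0, 0) : Md) by decide +kernel] at h
  exact mul_eq_left.1 h

theorem phi_bij [Finite G] (h : Nat.card (AN39.CA F) = 480) : Function.Bijective D.phi :=
  (Nat.bijective_iff_injective_and_card D.phi).2 ⟨D.phi_inj, by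
    rw [h, Nat.card_prod, Nat.card_fin, Nat.card_fin]⟩

theorem phi_pw (x : Md) (n : Nat) : D.phi (mpw x n) = D.phi x ^ n := by
  induction n with
  | zero => rw [pow_zero]; exact D.phi_one
  | succ n ih => rw [mpw, ← D.phi_mul, ih, pow_succ']

theorem phi_mA : ((D.phi mA : AN39.CA F) : G) = F.f 54 := by
  have : D.phi mA = V 2 := by
    refine (D.eq_phi (a := 1) (v := 2) (p := 0) ?_ ?_).symm
    · simp [Te, q_facts.2.2.1]
    · rw [D.v_image (V 2) 2 rfl, qp_zero]
  rw [this]; rfl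

theorem hasA_iff [Finite G] (x : Md) :
    F.f 54 ∈ Subgroup.zpowers ((D.phi x : AN39.CA F) : G) ↔ hasA x = true := by
  rw [hasA, List.any_eq_true]
  constructor
  · intro h
    obtain ⟨n, hn⟩ := mem_powers_iff_mem_zpowers.2 h
    have hn' : D.phi x ^ n = D.phi mA := Subtype.ext (by
      rw [Subgroup.coe_pow, D.phi_mA]; exact hn)
    have hper : ∀ d, mpw x d = (0, 0) → 0 < d → d ≤ 12 →
        ∃ m ∈ List.range 12, (mpw x m == mA) = true := by
      intro d hd hd0 hd12
      refine ⟨n % d, List.mem_range.2 (lt_of_lt_of_le (Nat.mod_lt _ hd0) hd12),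
        beq_iff_eq.2 (D.phi_inj ?_)⟩
      rw [D.phi_pw, ← hn']
      have h1 : D.phi x ^ d = 1 := by rw [← D.phi_pw, hd, D.phi_one]
      conv_rhs => rw [← Nat.mod_add_div n d, pow_add, pow_mul, h1, one_pow, mul_one]
    rcases mpw_period x with h | h
    · exact hper 10 h (by norm_num) (by norm_num)
    · exact hper 12 h (by norm_num) le_rfl
  · rintro ⟨n, -, hn⟩
    rw [← D.phi_mA, ← beq_iff_eq.1 hn, D.phi_pw, Subgroup.coe_pow]
    exact Subgroup.npow_mem_zpowers _ _

theorem nine_index : ∃ r, qodd r = false ∧ qmul r r = 0 ∧ r ≠ 0 ∧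
    ∀ v : Fin 4, ((D.phi (v, r) : AN39.CA F) : G) = F.f (mul 0 (vix v) 9) := by
  obtain ⟨x, hx⟩ := D.nine
  have hx2 : x * x = 1 := by
    refine Subtype.ext ?_
    rw [Subgroup.coe_mul, ← D.left x, ← map_mul, Subgroup.coe_one, ← map_one D.ρ]
    refine congrArg D.ρ (Subtype.ext ?_)
    rw [Subgroup.coe_mul, hx]
    exact F.sq_eq_one_iff.2 vix_facts.2.2.2.2.2.2.2.2.1
  have hx1 : x ≠ 1 := by
    rintro rfl
    rw [map_one, Subgroup.coe_one, eq_comm, F.eq_one_iff] at hx
    exact absurd hx (by decide)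
  obtain ⟨r, hr, rfl, hr2, hr1⟩ := exists_invol hx2 hx1
  refine ⟨r, hr, hr2, hr1, fun v => ?_⟩
  have h : D.phi (v, r) = V v * D.ι (qa r hr) := by
    refine (D.eq_phi (a := qa r hr) (v := v) (p := r) ?_ ?_).symm
    · simp [Te, hr]
    · rw [map_mul, D.v_image (V v) v rfl, one_mul, D.left]; rfl
  rw [h, Subgroup.coe_mul, hx, F.map_mul]
  rfl

theorem phi_outer (v : Fin 4) : ((D.phi (v, 24) : AN39.CA F) : G) = F.f (mul 0 (vix v) 36) := by
  have h : D.phi (v, 24) = V v * T := by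
    refine (D.eq_phi (a := 1) (v := v) (p := 24) ?_ ?_).symm
    · simp [Te, q_facts.1]
    · rw [map_mul, D.v_image (V v) v rfl, one_mul, D.t_image T rfl]
  rw [h, Subgroup.coe_mul, F.map_mul]
  rfl

theorem class_z [Finite G] (g : Good F) {x : Md} (hx : isZ x = true) :
    IsConj F.z ((D.phi x : AN39.CA F) : G) := by
  obtain ⟨v, p⟩ := x
  simp only [isZ, Bool.and_eq_true, Bool.not_eq_true', beq_iff_eq, bne_iff_ne, ne_eq] at hx
  obtain ⟨⟨⟨hp, hp2⟩, hp0⟩, hv⟩ := hx
  obtain ⟨r, hr, hr2, hr1, hrv⟩ := D.nine_index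
  obtain ⟨q, hq, hqp⟩ := even_invol_conj p hp hp2 hp0 r hr hr2 hr1
  have hc := conj_fst v p q hq
  rw [hqp] at hc
  have h1 : IsConj ((D.phi (v, p) : AN39.CA F) : G) ((D.phi (v, r) : AN39.CA F) : G) := by
    refine isConj_iff.2 ⟨((D.phi (0, q) : AN39.CA F) : G), ?_⟩
    have hinv : (D.phi (0, q))⁻¹ = D.phi (0, qinv q) := by
      refine inv_eq_of_mul_eq_one_right ?_
      rw [D.phi_mul, mm, hq, (q_facts.2.2.2.1 q).1]
      exact D.phi_one
    rw [← Subgroup.coe_inv, ← Subgroup.coe_mul, ← Subgroup.coe_mul, hinv, D.phi_mul, D.phi_mul, hc]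
  rw [hrv] at h1
  exact (AN39.conj_z g (model_classes.1 v hv).2).trans h1.symm

theorem class_a [Finite G] (g : Good F) {x : Md} (hx : isA x = true) :
    IsConj (F.f 54) ((D.phi x : AN39.CA F) : G) := by
  obtain ⟨v, p⟩ := x
  simp only [isA, Bool.and_eq_true, Bool.not_eq_true', beq_iff_eq, bne_iff_ne, ne_eq] at hx
  obtain ⟨⟨hsq, hne⟩, hz⟩ := hx
  have hp2 : qmul p p = 0 := congrArg Prod.snd hsq
  by_cases hp0 : p = 0
  · subst hp0
    have hv : v ≠ 0 := fun h => hne (by rw [h])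
    have h : D.phi (v, 0) = V v := by
      refine (D.eq_phi (a := 1) (v := v) (p := 0) ?_ ?_).symm
      · simp [Te, q_facts.2.2.1]
      · rw [D.v_image (V v) v rfl, qp_zero]
    rw [h]
    exact AN39.conj_a g (model_classes.1 v hv).1
  have hconj : ∀ q, qodd q = false →
      IsConj ((D.phi (v, p) : AN39.CA F) : G)
        ((D.phi (v, qmul (qmul q p) (qinv q)) : AN39.CA F) : G) ∧
      mm (v, qmul (qmul q p) (qinv q)) (v, qmul (qmul q p) (qinv q)) = (0, 0) := by
    intro q hq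
    have hinv : (D.phi (0, q))⁻¹ = D.phi (0, qinv q) := by
      refine inv_eq_of_mul_eq_one_right ?_
      rw [D.phi_mul, mm, hq, (q_facts.2.2.2.1 q).1]
      exact D.phi_one
    have hc := conj_fst v p q hq
    have heq : D.phi (0, q) * D.phi (v, p) * (D.phi (0, q))⁻¹ =
        D.phi (v, qmul (qmul q p) (qinv q)) := by rw [hinv, D.phi_mul, D.phi_mul, hc]
    refine ⟨isConj_iff.2 ⟨((D.phi (0, q) : AN39.CA F) : G), ?_⟩, D.phi_inj ?_⟩
    · rw [← Subgroup.coe_inv, ← Subgroup.coe_mul, ← Subgroup.coe_mul, heq]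
    · rw [← D.phi_mul, ← heq, D.phi_one]
      have h2 : D.phi (v, p) * D.phi (v, p) = 1 := by rw [D.phi_mul, hsq, D.phi_one]
      calc _ = D.phi (0, q) * (D.phi (v, p) * D.phi (v, p)) * (D.phi (0, q))⁻¹ := by group
        _ = 1 := by rw [h2]; group
  cases hp : qodd p
  · have hv : v = 0 := by
      by_contra hv
      simp [isZ, hp, hp2, hp0, hv] at hz
    subst hv
    obtain ⟨r, hr, hr2, hr1, hrv⟩ := D.nine_index
    obtain ⟨q, hq, hqp⟩ := even_invol_conj p hp hp2 hp0 r hr hr2 hr1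
    have h1 := (hconj q hq).1
    rw [hqp, hrv] at h1
    exact (AN39.conj_a g (by decide +kernel : mul 0 (vix 0) 9 ∈ AN39.aA)).trans h1.symm
  · obtain ⟨q, hq, hqp⟩ := odd_invol_conj p hp hp2
    obtain ⟨h1, h2⟩ := hconj q hq
    rw [hqp] at h1 h2
    rw [D.phi_outer] at h1
    exact (AN39.conj_a g (model_classes.2.2 v h2)).trans h1.symm

end Coords

theorem sq_of_conj {x y : G} (h : IsConj x y) (hx : x * x = 1) : y * y = 1 := by
  obtain ⟨c, rfl⟩ := isConj_iff.1 h
  calc c * x * c⁻¹ * (c * x * c⁻¹) = c * (x * x) * c⁻¹ := by group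
    _ = 1 := by rw [hx]; group

theorem count_eq [Finite G] (g : Good F) (h : Nat.card (AN39.CA F) = 480) :
    Nat.card {q : G × G // IsConj F.z q.1 ∧ IsConj (F.f 54) q.2 ∧
      F.f 54 ∈ Subgroup.zpowers (q.1 * q.2)} = 555 := by
  obtain ⟨D⟩ := exists_coords g h
  have ha2 : F.f 54 * F.f 54 = 1 := F.sq_eq_one_iff.2 (by decide +kernel)
  have ha1 : F.f 54 ≠ 1 := fun he => absurd (F.eq_one_iff.1 he) (by decide)
  have hmem : ∀ p : Md × Md, p ∈ aPairs ↔
      (isZ p.1 = true ∧ isA p.2 = true) ∧ hasA (mm p.1 p.2) = true := fun p => by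
    simp [aPairs]
  rw [← aPairs_card, ← Nat.card_eq_finsetCard]
  symm
  refine Nat.card_congr (Equiv.ofBijective
    (fun p : {p : Md × Md // p ∈ aPairs} =>
      (⟨(((D.phi p.1.1 : AN39.CA F) : G), ((D.phi p.1.2 : AN39.CA F) : G)),
        D.class_z g ((hmem _).1 p.2).1.1, D.class_a g ((hmem _).1 p.2).1.2,
        by
          show F.f 54 ∈ Subgroup.zpowers
            (((D.phi p.1.1 : AN39.CA F) : G) * ((D.phi p.1.2 : AN39.CA F) : G))
          rw [← Subgroup.coe_mul, D.phi_mul]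
          exact (D.hasA_iff _).2 ((hmem _).1 p.2).2⟩ :
        {q : G × G // IsConj F.z q.1 ∧ IsConj (F.f 54) q.2 ∧
          F.f 54 ∈ Subgroup.zpowers (q.1 * q.2)})) ⟨?_, ?_⟩)
  · intro p q hpq
    have h' := congrArg Subtype.val hpq
    exact Subtype.ext (Prod.ext (D.phi_inj (Subtype.ext (congrArg Prod.fst h')))
      (D.phi_inj (Subtype.ext (congrArg Prod.snd h'))))
  · rintro ⟨⟨u, w⟩, hu, hw, ha⟩
    have hu2 : u * u = 1 := sq_of_conj hu F.z_sq
    have hw2 : w * w = 1 := sq_of_conj hw ha2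
    obtain ⟨hcu, hcw⟩ := Good.centralizes_of_mem_zpowers hu2 hw2 ha2 ha
    obtain ⟨x, hx⟩ := (D.phi_bij h).2 ⟨u, AN39.mem_CA_iff.2 hcu⟩
    obtain ⟨y, hy⟩ := (D.phi_bij h).2 ⟨w, AN39.mem_CA_iff.2 hcw⟩
    have hxG : ((D.phi x : AN39.CA F) : G) = u := congrArg Subtype.val hx
    have hyG : ((D.phi y : AN39.CA F) : G) = w := congrArg Subtype.val hy
    have hinvol : ∀ {x : Md}, ((D.phi x : AN39.CA F) : G) * (D.phi x : AN39.CA F) = 1 →
        ((D.phi x : AN39.CA F) : G) ≠ 1 → mm x x = (0, 0) ∧ x ≠ (0, 0) := fun {x} h1 h2 =>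
      ⟨D.phi_inj (by rw [← D.phi_mul, D.phi_one]; exact Subtype.ext h1),
        fun e => h2 (by rw [e, D.phi_one, Subgroup.coe_one])⟩
    have hne : ∀ {a b : G}, IsConj a b → a ≠ 1 → b ≠ 1 := fun {a b} hab ha hb => by
      obtain ⟨c, hc⟩ := isConj_iff.1 hab
      rw [hb, conj_eq_one_iff] at hc
      exact ha hc
    obtain ⟨hx2, hx0⟩ := hinvol (by rw [hxG]; exact hu2) (by rw [hxG]; exact hne hu F.z_ne_one)
    obtain ⟨hy2, hy0⟩ := hinvol (by rw [hyG]; exact hw2) (by rw [hyG]; exact hne hw ha1)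
    have hxZ : isZ x = true := by
      by_contra hz
      refine AN39.not_conj_za g (hu.trans ?_)
      rw [← hxG]
      exact (D.class_a g (by simp [isA, hx2, hx0, hz])).symm
    have hyA : isA y = true := by
      by_contra hA
      have hyZ : isZ y = true := by
        by_contra hz
        exact hA (by simp [isA, hy2, hy0, hz])
      refine AN39.not_conj_za g ((D.class_z g hyZ).trans ?_)
      rw [hyG]; exact hw.symm
    refine ⟨⟨(x, y), (hmem _).2 ⟨⟨hxZ, hyA⟩, ?_⟩⟩, Subtype.ext (Prod.ext hxG hyG)⟩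
    refine (D.hasA_iff _).1 ?_
    rw [← D.phi_mul, Subgroup.coe_mul, hxG, hyG]
    exact ha

theorem card_of_480 [Finite G] (g : Good F)
    (h : Nat.card (Subgroup.centralizer ({F.f 36} : Set G)) = 480) : Nat.card G = 181440 := by
  have h54 : Nat.card (AN39.CA F) = 480 := AN39.card_CA_eq.symm.trans h
  obtain ⟨j, hj⟩ := AN39.exists_conj_eq
  have hconj : IsConj (F.f 36) (F.f 54) := (hj ▸ AN39.conj_f j 54 : IsConj (F.f 54) (F.f 36)).symm
  have he : Nat.card {q : G × G // IsConj F.z q.1 ∧ IsConj (F.f 36) q.2 ∧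
      F.f 36 ∈ Subgroup.zpowers (q.1 * q.2)} = 555 := by
    rw [← count_eq g h54, ← S1875.r_conj F.z (F.f 36) (F.f 36) (F.f 54) hconj]
    exact Nat.card_congr (Equiv.subtypeEquivRight fun q =>
      ⟨fun ⟨a, b, c⟩ => ⟨a, hconj.symm.trans b, c⟩, fun ⟨a, b, c⟩ => ⟨a, hconj.trans b, c⟩⟩)
  rw [g.card_eq, he, h]

end Cfsg.Agent.AN36Nine

namespace Cfsg.Agent.AN82

/-- The order of the group in the good case. -/
theorem Good.card_cases {G : Type*} [Group G] [Finite G] {F : Frame 0 G} (g : Good F) :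
    Nat.card G = 20160 ∨ Nat.card G = 181440 :=
  (AN39.card_centA g).imp (AN36Eight.card_of_96 g) (AN36Nine.card_of_480 g)

end Cfsg.Agent.AN82
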