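import Cfsg.Agent.Lib.AN82Frame

/-!
# S3344, order: involution classes and Sylow 2-subgroups

In a group with a frame of kind `0` and a normalised pair there are two classes of involutions,
represented by `z` and `a = f 54`.
-/

set_option autoImplicit false
set_option maxRecDepth 100000
set_option linter.unusedSectionVars false

namespace Cfsg.Agent.AN39

open Cfsg.Agent.AN82

/-- Indices conjugate to the involution `a`. -/
def aA : List Ix := [1, 3, 5, 9, 25, 35, 36, 37, 54, 57, 65, 90, 109, 132, 147, 150, 186, 191]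
/-- Indices conjugate to `z`. -/
def zL : List Ix := [6, 12, 13, 24, 30, 48, 51, 60, 95, 96, 97, 99, 101, 102, 105, 108, 120, 121, 126,
  131, 133, 144, 153, 156, 161]
/-- The centralizer of `54`. -/
def tA : List Ix := [0, 3, 6, 9, 36, 39, 42, 45, 48, 51, 54, 57, 84, 87, 90, 93, 96, 99, 102, 105, 132,
  135, 138, 141, 144, 147, 150, 153, 180, 183, 186, 189]
/-- A Sylow 2-subgroup. -/
def sL : List Ix := [0, 1, 6, 7, 12, 13, 18, 19, 24, 25, 30, 31, 36, 37, 42, 43, 48, 49, 54, 55, 60, 61,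
  66, 67, 72, 73, 78, 79, 84, 85, 90, 91, 96, 97, 102, 103, 108, 109, 114, 115, 120, 121, 126, 127,
  132, 133, 138, 139, 144, 145, 150, 151, 156, 157, 162, 163, 168, 169, 174, 175, 180, 181, 186, 187]
/-- The members of the elementary abelian subgroup conjugate to `z`. -/
def zM : List Ix := [6, 48, 51, 96, 99, 102, 105, 144, 153]

/-- Closed lists. -/
def Closed (l : List Ix) : Prop := (0 : Ix) ∈ l ∧ ∀ a ∈ l, inv 0 a ∈ l ∧ ∀ b ∈ l, mul 0 a b ∈ l

theorem sL_closed : Closed sL := by unfold Closed; decide +kernel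
theorem tA_closed : Closed tA := by unfold Closed; decide +kernel
theorem aL_closed : Closed aL := by unfold Closed; decide +kernel

theorem classify : ∀ i : Ix, mul 0 i i = 0 → i = 0 ∨ i ∈ aA ∨ i ∈ zL := by decide +kernel

theorem zL_lower : ∀ i ∈ zL, i = zI ∨ ∃ j : Ix, i = cj 0 j 6 ∨ i = cj 0 j 48 ∨ i = cj 0 j 105 := by
  decide +kernel

theorem aA_lower : ∀ i ∈ aA, ∃ j : Ix, i = cj 0 j 54 ∨ i = cj 0 j 9 := by decide +kernel

theorem invol_facts : (∀ i ∈ aA, mul 0 i i = 0 ∧ i ≠ 0) ∧ (∀ i ∈ zL, mul 0 i i = 0 ∧ i ≠ 0) := by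
  decide +kernel

theorem sL_center : ∀ i ∈ sL, (∀ j ∈ sL, comm 0 i j = true) → i = 0 ∨ i = zI := by decide +kernel

theorem tA_spec : ∀ i : Ix, comm 0 i 54 = true ↔ i ∈ tA := by decide +kernel

theorem two_el_table : ∀ i ∈ aA, ∀ g : Ix, comm 0 g i = true →
    mul 0 (mul 0 (mul 0 g g) (mul 0 g g)) (mul 0 (mul 0 g g) (mul 0 g g)) = 0 := by decide +kernel

theorem act_facts : act0 6 = 96 ∧ act0 96 = 6 ∧ act1 96 = 48 ∧ act1 48 = 96 ∧ act0 48 = 105 ∧
    act0 54 = 9 ∧ act0 9 = 54 ∧ act1 9 = 54 ∧ act1 54 = 9 ∧ act0 105 = 48 ∧ act1 6 = 105 ∧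
    6 ∈ tZero ∧ 96 ∈ tZero ∧ 48 ∈ tZero ∧ 54 ∈ tZero ∧ 9 ∈ tZero ∧ 105 ∈ tZero ∧
    96 ∈ tOne ∧ 48 ∈ tOne ∧ 54 ∈ tOne ∧ 9 ∈ tOne ∧ 6 ∈ tOne := by decide +kernel

theorem exists_conj_eq : ∃ j : Ix, cj 0 j 54 = 36 := by decide +kernel

variable {G : Type*} [Group G]

/-- The subgroup on a closed list. -/
def sub (F : Frame 0 G) (l : List Ix) (h : Closed l) : Subgroup G where
  carrier := {g | ∃ i ∈ l, F.f i = g}
  one_mem' := ⟨0, h.1, F.map_one⟩
  mul_mem' := by
    rintro _ _ ⟨a, ha, rfl⟩ ⟨b, hb, rfl⟩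
    exact ⟨mul 0 a b, (h.2 a ha).2 b hb, F.map_mul a b⟩
  inv_mem' := by
    rintro _ ⟨a, ha, rfl⟩
    exact ⟨inv 0 a, (h.2 a ha).1, F.map_inv a⟩

theorem mem_sub {F : Frame 0 G} {l : List Ix} {h : Closed l} {g : G} :
    g ∈ sub F l h ↔ ∃ i ∈ l, F.f i = g := Iff.rfl

theorem f_mem_sub {F : Frame 0 G} {l : List Ix} {h : Closed l} {i : Ix} :
    F.f i ∈ sub F l h ↔ i ∈ l :=
  ⟨fun ⟨j, hj, e⟩ => F.inj e ▸ hj, fun hi => ⟨i, hi, rfl⟩⟩

theorem card_sub (F : Frame 0 G) (l : List Ix) (h : Closed l) (hl : l.Nodup) :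
    Nat.card (sub F l h) = l.length := by
  rw [← List.toFinset_card_of_nodup hl, ← Nat.card_eq_finsetCard]
  exact (Nat.card_congr (Equiv.ofBijective
    (fun i : l.toFinset => (⟨F.f i.1, f_mem_sub.2 (List.mem_toFinset.1 i.2)⟩ : sub F l h))
    ⟨fun i j e => Subtype.ext (F.inj (congrArg Subtype.val e)), fun ⟨g, i, hi, e⟩ =>
      ⟨⟨i, List.mem_toFinset.2 hi⟩, Subtype.ext e⟩⟩)).symm

theorem conj_f {F : Frame 0 G} (a x : Ix) : IsConj (F.f x) (F.f (cj 0 a x)) :=
  isConj_iff.2 ⟨F.f a, (F.map_cj a x).symm⟩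

variable {F : Frame 0 G} (g : Good F)
include g

theorem conj_n0 {c : Ix} (hc : c ∈ tZero) : IsConj (F.f c) (F.f (act0 c)) :=
  isConj_iff.2 ⟨g.n0, g.conj0 c hc⟩

theorem conj_n1 {c : Ix} (hc : c ∈ tOne) : IsConj (F.f c) (F.f (act1 c)) :=
  isConj_iff.2 ⟨g.n1, g.conj1 c hc⟩

theorem conj_z {i : Ix} (hi : i ∈ zL) : IsConj F.z (F.f i) := by
  obtain ⟨a6, a96, b96, -, a48, -, -, -, -, -, -, h6, h96, h48, -, -, -, k96, -, -, -, -⟩ := act_facts
  have c6 : IsConj F.z (F.f 6) := by have := conj_n0 g h96; rwa [a96] at this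
  have c48 : IsConj F.z (F.f 48) := by have := conj_n1 g k96; rwa [b96] at this
  have c105 : IsConj F.z (F.f 105) := by
    have := c48.trans (conj_n0 g h48); rwa [a48] at this
  rcases zL_lower i hi with rfl | ⟨j, rfl | rfl | rfl⟩
  · exact IsConj.refl _
  · exact c6.trans (conj_f j 6)
  · exact c48.trans (conj_f j 48)
  · exact c105.trans (conj_f j 105)

theorem conj_a {i : Ix} (hi : i ∈ aA) : IsConj (F.f 54) (F.f i) := by
  obtain ⟨-, -, -, -, -, a54, -, -, -, -, -, -, -, -, h54, -⟩ := act_facts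
  obtain ⟨j, rfl | rfl⟩ := aA_lower i hi
  · exact conj_f j 54
  · have := conj_n0 g h54
    rw [a54] at this
    exact this.trans (conj_f j 9)

theorem not_conj_za : ¬ IsConj F.z (F.f 54) := fun h => by
  obtain ⟨j, hj⟩ := exists_conj_eq
  exact g.not_conj (h.trans (hj ▸ conj_f j 54))

theorem conj_z_iff {i : Ix} : IsConj F.z (F.f i) ↔ i ∈ zL := by
  refine ⟨fun h => ?_, conj_z g⟩
  obtain ⟨x, hx⟩ := isConj_iff.1 h
  have h2 : mul 0 i i = 0 := by
    rw [← F.sq_eq_one_iff, ← hx]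
    calc x * F.z * x⁻¹ * (x * F.z * x⁻¹) = x * (F.z * F.z) * x⁻¹ := by group
      _ = 1 := by rw [F.z_sq]; group
  rcases classify i h2 with rfl | ha | hz
  · rw [F.map_one, conj_eq_one_iff] at hx
    exact absurd hx F.z_ne_one
  · exact absurd (h.trans (conj_a g ha).symm) (not_conj_za g)
  · exact hz

theorem conj_a_iff {i : Ix} : IsConj (F.f 54) (F.f i) ↔ i ∈ aA := by
  refine ⟨fun h => ?_, conj_a g⟩
  obtain ⟨x, hx⟩ := isConj_iff.1 h
  have h54 : F.f 54 * F.f 54 = 1 := F.sq_eq_one_iff.2 (by decide +kernel)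
  have h2 : mul 0 i i = 0 := by
    rw [← F.sq_eq_one_iff, ← hx]
    calc x * F.f 54 * x⁻¹ * (x * F.f 54 * x⁻¹) = x * (F.f 54 * F.f 54) * x⁻¹ := by group
      _ = 1 := by rw [h54]; group
  rcases classify i h2 with rfl | ha | hz
  · rw [F.map_one, conj_eq_one_iff, F.eq_one_iff] at hx
    exact absurd hx (by decide)
  · exact ha
  · exact absurd ((conj_z g hz).trans h.symm) (not_conj_za g)

variable [Finite G]
omit g

theorem sL_sylow {R : Subgroup G} (hR : IsPGroup 2 R) (hle : sub F sL sL_closed ≤ R) :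
    R = sub F sL sL_closed := by
  classical
  haveI : Fact (Nat.Prime 2) := ⟨Nat.prime_two⟩
  set S := sub F sL sL_closed with hS
  have hcard : Nat.card S = 64 := card_sub F sL sL_closed (by decide +kernel)
  refine le_antisymm ?_ hle
  by_contra hne
  haveI : Group.IsNilpotent R := hR.isNilpotent
  have hlt : S.subgroupOf R < ⊤ := lt_top_iff_ne_top.2 fun h => hne (Subgroup.subgroupOf_eq_top.1 h)
  obtain ⟨r, hrN, hrS⟩ := SetLike.exists_of_lt (normalizerCondition_of_isNilpotent (G := R) _ hlt)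
  have hzS : F.z ∈ S := f_mem_sub.2 (by decide)
  have hn : ∀ x ∈ S, (r : G) * x * (r : G)⁻¹ ∈ S := fun x hx =>
    (Subgroup.mem_normalizer_iff.1 hrN ⟨x, hle hx⟩).1 hx
  have hn' : ∀ x ∈ S, (r : G)⁻¹ * x * (r : G) ∈ S := fun x hx => by
    have := (Subgroup.mem_normalizer_iff.1 hrN ⟨(r : G)⁻¹ * x * r,
      R.mul_mem (R.mul_mem (R.inv_mem r.2) (hle hx)) r.2⟩).2 (by
        show (r : G) * ((r : G)⁻¹ * x * r) * (r : G)⁻¹ ∈ S
        simpa [mul_assoc] using hx)
    exact this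
  obtain ⟨i, hi, hie⟩ := hn _ hzS
  have hiz : i = zI := by
    refine (sL_center i hi fun j hj => F.commute_iff.1 ?_).resolve_left fun h => ?_
    · rw [hie]
      obtain ⟨k, hk, hke⟩ := hn' _ (f_mem_sub.2 hj : F.f j ∈ S)
      have hc : F.z * F.f k = F.f k * F.z := F.commute_iff.2 (by
        rw [comm_iff]; exact ((comm_iff.1 ((zI_facts 0).2 k))).symm)
      have hj' : F.f j = (r : G) * F.f k * (r : G)⁻¹ := by rw [hke]; group
      rw [hj']
      calc (r : G) * F.z * (r : G)⁻¹ * ((r : G) * F.f k * (r : G)⁻¹) = r * (F.z * F.f k) * (r : G)⁻¹ := by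
            group
        _ = _ := by rw [hc]; group
    · rw [h, F.map_one, eq_comm, conj_eq_one_iff] at hie
      exact F.z_ne_one hie
  have hrL : (r : G) ∈ F.L := by
    rw [hiz] at hie
    exact Subgroup.mem_centralizer_singleton_iff.2 (eq_mul_inv_iff_mul_eq.1 hie).symm
  have hSL : S ≤ F.L := fun x ⟨j, _, e⟩ => F.mem_L.2 ⟨j, e⟩
  have hT : S ⊔ Subgroup.zpowers (r : G) ≤ R := sup_le hle (Subgroup.zpowers_le.2 r.2)
  obtain ⟨n, hn2⟩ := IsPGroup.iff_card.1 (hR.to_le hT)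
  have hdvd : 2 ^ n ∣ 192 := by
    rw [← hn2, ← F.card_L]
    exact Subgroup.card_dvd_of_le (sup_le hSL (Subgroup.zpowers_le.2 hrL))
  have h6 : 2 ^ n ≤ 64 := by
    have : n ≤ 6 := by
      by_contra h
      exact absurd ((pow_dvd_pow 2 (show 7 ≤ n by omega)).trans hdvd) (by norm_num)
    exact (Nat.pow_le_pow_right (by norm_num) this).trans (by norm_num)
  have heq := Subgroup.eq_of_le_of_card_ge (le_sup_left : S ≤ S ⊔ Subgroup.zpowers (r : G))
    (by rw [hn2, hcard]; exact h6)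
  exact hrS (Subgroup.mem_subgroupOf.2 (heq ▸ Subgroup.mem_sup_right (Subgroup.mem_zpowers (r : G))))

/-- The Sylow 2-subgroup. -/
def sylow (F : Frame 0 G) : Sylow 2 G where
  toSubgroup := sub F sL sL_closed
  isPGroup' := IsPGroup.of_card (n := 6) (card_sub F sL sL_closed (by decide +kernel))
  is_maximal' hQ hle := (sL_sylow hQ hle).symm ▸ rfl

/-- A 2-subgroup is conjugate into the Sylow subgroup. -/
theorem exists_conj_le {R : Subgroup G} (hR : IsPGroup 2 R) :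
    ∃ d : G, ∀ x ∈ R, ∃ i ∈ sL, F.f i = d * x * d⁻¹ := by
  obtain ⟨P, hP⟩ := hR.exists_le_sylow
  haveI : Fact (Nat.Prime 2) := ⟨Nat.prime_two⟩
  obtain ⟨d, hd⟩ := MulAction.exists_smul_eq G P (sylow F)
  refine ⟨d, fun x hx => ?_⟩
  have : d * x * d⁻¹ ∈ ((d • P : Sylow 2 G) : Subgroup G) := by
    rw [Sylow.coe_subgroup_smul]; exact ⟨x, hP hx, rfl⟩
  rw [hd] at this
  exact this

include g

theorem invol_cases {x : G} (hx : orderOf x = 2) : IsConj F.z x ∨ IsConj (F.f 54) x := by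
  obtain ⟨d, hd⟩ := exists_conj_le (F := F) (IsPGroup.of_card (p := 2) (n := 1)
    (by rw [Nat.card_zpowers, hx]; norm_num) : IsPGroup 2 (Subgroup.zpowers x))
  obtain ⟨i, -, hi⟩ := hd x (Subgroup.mem_zpowers x)
  have hc : IsConj x (F.f i) := isConj_iff.2 ⟨d, hi.symm⟩
  have h2 : mul 0 i i = 0 := by
    rw [← F.sq_eq_one_iff, hi]
    calc d * x * d⁻¹ * (d * x * d⁻¹) = d * x ^ 2 * d⁻¹ := by rw [pow_two]; group
      _ = 1 := by rw [← hx, pow_orderOf_eq_one]; group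
  rcases classify i h2 with rfl | ha | hz
  · rw [F.map_one, eq_comm, conj_eq_one_iff] at hi
    rw [hi, orderOf_one] at hx; omega
  · exact Or.inr ((conj_a g ha).trans hc.symm)
  · exact Or.inl ((conj_z g hz).trans hc.symm)

/-- Elements commuting with a pair (conjugate of `a`, conjugate of `z`) have order dividing eight. -/
theorem pow_eight {x p q : G} (hp : IsConj (F.f 54) p) (hq : IsConj F.z q) (hpq : p * q = q * p)
    (hxp : x * p = p * x) (hxq : x * q = q * x) : x ^ 8 = 1 := by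
  obtain ⟨d, hd⟩ := isConj_iff.1 hq.symm
  have key : ∀ y : G, y * q = q * y → ∃ i, F.f i = d * y * d⁻¹ := fun y hy => by
    refine F.exists_of_commute ?_
    rw [← hd]
    calc d * y * d⁻¹ * (d * q * d⁻¹) = d * (y * q) * d⁻¹ := by group
      _ = _ := by rw [hy]; group
  obtain ⟨i, hi⟩ := key p hpq
  obtain ⟨k, hk⟩ := key x hxq
  have hia : i ∈ aA := (conj_a_iff g).1 (hp.trans (isConj_iff.2 ⟨d, hi.symm⟩))
  have hc : comm 0 k i = true := F.commute_iff.1 (by
    rw [hi, hk]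
    calc d * x * d⁻¹ * (d * p * d⁻¹) = d * (x * p) * d⁻¹ := by group
      _ = _ := by rw [hxp]; group)
  have h8 := congrArg F.f (two_el_table i hia k hc)
  rw [F.map_one] at h8
  simp only [F.map_mul, hk] at h8
  have : d * x ^ 8 * d⁻¹ = 1 := by
    rw [← h8, ← conj_pow]
    simp [pow_succ, mul_assoc]
  exact conj_eq_one_iff.1 this

end Cfsg.Agent.AN39
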