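import Cfsg.Agent.Lib.AN39Quot

/-!
# S3344, order: the centralizer of the non-central involution has order 96 or 480
-/

set_option autoImplicit false
set_option linter.unusedSectionVars false

namespace Cfsg.Agent.AN39

open Cfsg.Agent.AN82

variable {G : Type*} [Group G] [Finite G] {F : Frame 0 G}

/-- The centralizer of `f 54` is conjugate to that of `f 36`. -/
theorem card_CA_eq : Nat.card (Subgroup.centralizer ({F.f 36} : Set G)) = Nat.card (CA F) := by
  obtain ⟨j, hj⟩ := exists_conj_eq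
  have h36 : F.f 36 = F.f j * F.f 54 * (F.f j)⁻¹ := by rw [← hj, F.map_cj]
  refine (Nat.card_congr (Equiv.subtypeEquiv (MulAut.conj (F.f j)).toEquiv fun x => ?_)).symm
  show x ∈ CA F ↔ _
  rw [mem_CA_iff]
  refine ⟨fun h => Subgroup.mem_centralizer_singleton_iff.2 ?_, fun h => ?_⟩
  · show F.f j * x * (F.f j)⁻¹ * F.f 36 = F.f 36 * (F.f j * x * (F.f j)⁻¹)
    rw [h36]
    calc F.f j * x * (F.f j)⁻¹ * (F.f j * F.f 54 * (F.f j)⁻¹)
        = F.f j * (x * F.f 54) * (F.f j)⁻¹ := by group
      _ = _ := by rw [h]; group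
  · have h' : F.f j * x * (F.f j)⁻¹ * F.f 36 = F.f 36 * (F.f j * x * (F.f j)⁻¹) :=
      Subgroup.mem_centralizer_singleton_iff.1 h
    rw [h36] at h'
    calc x * F.f 54 = (F.f j)⁻¹ * (F.f j * x * (F.f j)⁻¹ * (F.f j * F.f 54 * (F.f j)⁻¹)) * F.f j := by
          group
      _ = _ := by rw [h']; group

variable (g : Good F)
include g

/-- The half modulo the four-group: order twelve, or simple of order sixty. -/
theorem Half.card_H (hf : Half F) : Nat.card hf.H = 48 ∨ Nat.card hf.H = 240 := by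
  haveI := hf.Vh_normal g
  obtain ⟨-, -, -, -, -, -, h⟩ := hf.quotient g
  rw [hf.Vh.card_eq_card_quotient_mul_card_subgroup, hf.card_Vh g]
  rcases h with h | ⟨-, h⟩ <;> rw [h]
  · exact Or.inl rfl
  · exact Or.inr rfl

theorem card_centA : Nat.card (Subgroup.centralizer ({F.f 36} : Set G)) = 96 ∨
    Nat.card (Subgroup.centralizer ({F.f 36} : Set G)) = 480 := by
  obtain ⟨hf⟩ := exists_half g
  rw [card_CA_eq, ← hf.card]
  rcases hf.card_H g with h | h <;> rw [h]
  · exact Or.inl rfl
  · exact Or.inr rfl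

end Cfsg.Agent.AN39
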