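import Mathlib
import Cfsg.Agent.S3279
import Cfsg.Agent.Lib.FourCoherence
import Cfsg.Agent.Lib.CharBasicLinear

/-!
Exceptional characters for a finite group with an involution `x` whose centraliser is the direct
product of a four-group `{1, x, a, x * a}` and a group `D` of odd order.
-/

set_option autoImplicit false

namespace Cfsg.Agent.FourExceptional

open scoped ComplexConjugate
open Cfsg.Agent.S3279 (inv_mul_self_eq inv_eq inv_ne_one order_conj commute_conj order_mul)
open Cfsg.Agent.CharBasicOrth Cfsg.Agent.CharBasicDecomp Cfsg.Agent.CharBasic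

universe u

/-- The configuration. -/
structure Setup {G : Type u} [Group G] (x a g : G) (D : Subgroup G) (S : Sylow 2 G) : Prop where
  ox : orderOf x = 2
  oa : orderOf a = 2
  hax : Commute a x
  hne : a ≠ x
  memS : ∀ s : G, s ∈ (S : Subgroup G) ↔ (s = 1 ∨ s = x ∨ s = a ∨ s = x * a)
  cent : ∀ c : G, Commute c x → ∃ s ∈ (S : Subgroup G), ∃ d ∈ D, c = s * d
  comm : ∀ s ∈ (S : Subgroup G), ∀ d ∈ D, Commute s d
  odd : Odd (Nat.card D)
  gx : g * x * g⁻¹ = a
  ga : g * a * g⁻¹ = x * a
  gD : ∀ d ∈ D, g * d * g⁻¹ ∈ D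
  allConj : ∀ u v : G, orderOf u = 2 → orderOf v = 2 → IsConj u v

variable {G : Type u} [Group G] {x a g : G} {D : Subgroup G} {S : Sylow 2 G}

theorem Setup.xS (hs : Setup x a g D S) : x ∈ (S : Subgroup G) := (hs.memS x).2 (Or.inr (Or.inl rfl))

theorem Setup.aS (hs : Setup x a g D S) : a ∈ (S : Subgroup G) :=
  (hs.memS a).2 (Or.inr (Or.inr (Or.inl rfl)))

theorem Setup.sq (hs : Setup x a g D S) {s : G} (h : s ∈ (S : Subgroup G)) : s * s = 1 := by
  rcases (hs.memS s).1 h with rfl | rfl | rfl | rfl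
  · exact one_mul 1
  · exact inv_mul_self_eq hs.ox
  · exact inv_mul_self_eq hs.oa
  · exact inv_mul_self_eq (order_mul hs.ox hs.oa hs.hax.symm hs.hne.symm)

theorem Setup.pow_card [Finite G] {d : G} (hd : d ∈ D) : d ^ Nat.card D = 1 := by
  have h : (⟨d, hd⟩ : D) ^ Nat.card D = 1 := pow_card_eq_one'
  have h' := congrArg Subtype.val h
  rw [SubmonoidClass.coe_pow] at h'
  exact h'

theorem Setup.pow_card_mul [Finite G] (hs : Setup x a g D S) {s d : G} (h : s ∈ (S : Subgroup G))
    (hd : d ∈ D) : (s * d) ^ Nat.card D = s := by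
  obtain ⟨k, hk⟩ := hs.odd
  rw [(hs.comm s h d hd).mul_pow, Setup.pow_card hd, mul_one, hk, pow_succ, pow_mul, pow_two,
    hs.sq h, one_pow, one_mul]

/-- Conjugation by `g` on `D`. -/
def sig (hs : Setup x a g D S) (d : D) : D := ⟨g * d * g⁻¹, hs.gD d d.2⟩

theorem sig_injective (hs : Setup x a g D S) : Function.Injective (sig hs) := by
  intro d e h
  exact Subtype.ext (mul_left_cancel (mul_right_cancel (congrArg Subtype.val h)))

theorem sig_bijective [Finite G] (hs : Setup x a g D S) : Function.Bijective (sig hs) :=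
  Finite.injective_iff_bijective.1 (sig_injective hs)

/-- `sig` as a homomorphism. -/
def sigHom (hs : Setup x a g D S) : D →* D :=
  MonoidHom.mk' (sig hs) fun d e => by
    refine Subtype.ext ?_
    show g * ((d : G) * e) * g⁻¹ = g * d * g⁻¹ * (g * e * g⁻¹)
    group

section Functions

variable [Fintype G]

open scoped Classical

/-- The function on `x D`, extended by zero. -/
noncomputable def theta (x : G) (D : Subgroup G) (ψ : D → ℂ) (z : G) : ℂ :=
  if h : x * z ∈ D then ψ ⟨x * z, h⟩ else 0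

/-- The exceptional class function attached to a function on `D`. -/
noncomputable def excFun (x : G) (D : Subgroup G) (ψ : D → ℂ) : G → ℂ :=
  fun y => (Nat.card D : ℂ)⁻¹ * ∑ h : G, theta x D ψ (h⁻¹ * y * h)

/-- The restriction to a coset `s D`. -/
def res (χ : G → ℂ) (s : G) (D : Subgroup G) : D → ℂ := fun d => χ (s * d)

theorem isClassFunction_excFun (ψ : D → ℂ) : Cfsg.IsClassFunction G (excFun x D ψ) := by
  intro y k
  simp only [excFun]
  congr 1
  refine (Equiv.sum_comp (Equiv.mulLeft k⁻¹) (fun h => theta x D ψ (h⁻¹ * y * h))).symm.trans ?_ |>.symm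
  refine Finset.sum_congr rfl fun h _ => ?_
  simp [mul_assoc]

theorem classInner_excFun (hx : orderOf x = 2) (ψ : D → ℂ) {f : G → ℂ}
    (hf : Cfsg.IsClassFunction G f) :
    Cfsg.classInner (excFun x D ψ) f = Cfsg.classInner ψ (res f x D) := by
  have hsum : ∀ h : G, ∑ y, theta x D ψ (h⁻¹ * y * h) * conj (f y) =
      ∑ d : D, ψ d * conj (f (x * d)) := by
    intro h
    rw [← Equiv.sum_comp (MulAut.conj h).toEquiv]
    have e : ∀ y, h⁻¹ * (MulAut.conj h).toEquiv y * h = y := fun y => by simp [mul_assoc]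
    have e2 : ∀ y, f ((MulAut.conj h).toEquiv y) = f y := fun y => hf y h
    simp only [e, e2]
    rw [← Equiv.sum_comp (Equiv.mulLeft x)]
    have e3 : ∀ y, x * (x * y) = y := fun y => by rw [← mul_assoc, inv_mul_self_eq hx, one_mul]
    simp only [Equiv.coe_mulLeft, theta, e3]
    rw [← Finset.sum_filter_add_sum_filter_not Finset.univ (fun y => y ∈ D)]
    rw [Finset.sum_eq_zero (s := Finset.univ.filter fun y => ¬ y ∈ D)
      (fun y hy => by rw [dif_neg (Finset.mem_filter.1 hy).2, zero_mul]), add_zero,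
      Finset.sum_subtype (p := fun y => y ∈ D) (Finset.univ.filter fun y => y ∈ D) (by simp)]
    exact Finset.sum_congr rfl fun d _ => by rw [dif_pos d.2]
  have hA : ∑ y, ((Nat.card D : ℂ)⁻¹ * ∑ h : G, theta x D ψ (h⁻¹ * y * h)) * conj (f y) =
      (Nat.card D : ℂ)⁻¹ * ∑ h : G, ∑ y, theta x D ψ (h⁻¹ * y * h) * conj (f y) := by
    rw [Finset.sum_comm (γ := G), Finset.mul_sum]
    exact Finset.sum_congr rfl fun y _ => by rw [mul_assoc, Finset.sum_mul]
  simp only [Cfsg.classInner, excFun, res]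
  rw [hA, Finset.sum_congr rfl fun h _ => hsum h, Finset.sum_const, nsmul_eq_mul,
    Finset.card_univ, ← Nat.card_eq_fintype_card]
  have : (Nat.card G : ℂ) ≠ 0 := Nat.cast_ne_zero.2 Nat.card_pos.ne'
  field_simp

theorem excFun_eq_zero (ψ : D → ℂ) {y : G} (hy : ∀ h : G, x * (h⁻¹ * y * h) ∉ D) :
    excFun x D ψ y = 0 := by
  simp [excFun, theta, hy]

theorem exists_involution_of_excFun_ne_zero (hs : Setup x a g D S) (ψ : D → ℂ) {y : G}
    (hy : excFun x D ψ y ≠ 0) : ∃ w : G, orderOf w = 2 ∧ Commute w y := by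
  obtain ⟨h, hh⟩ : ∃ h : G, x * (h⁻¹ * y * h) ∈ D := by
    by_contra hcon
    push Not at hcon
    exact hy (excFun_eq_zero ψ hcon)
  refine ⟨h * x * h⁻¹, by rw [order_conj, hs.ox], ?_⟩
  have hc : Commute x (h⁻¹ * y * h) := by
    have h1 := (Commute.refl x).inv_right.mul_right (hs.comm x hs.xS _ hh)
    rwa [inv_mul_cancel_left] at h1
  simpa [mul_assoc] using commute_conj h hc

theorem excFun_zero_of_mem (hs : Setup x a g D S) (ψ : D → ℂ) {y : G} (hy : y ∈ D) :
    excFun x D ψ y = 0 := by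
  refine excFun_eq_zero ψ fun h hh => ?_
  have h1 := Setup.pow_card_mul hs hs.xS hh
  rw [← mul_assoc, inv_mul_self_eq hs.ox, one_mul] at h1
  have h2 := conj_pow (i := Nat.card D) (a := h⁻¹) (b := y)
  rw [inv_inv] at h2
  rw [h2, Setup.pow_card hy] at h1
  exact inv_ne_one hs.ox (by simpa using h1.symm)

theorem excFun_apply (hs : Setup x a g D S) {ψ : D → ℂ} (hψ : Cfsg.IsClassFunction D ψ) (d : D) :
    excFun x D ψ (x * d) = 4 * ψ d := by
  have hS4 : Nat.card (S : Subgroup G) = 4 := by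
    have hb := order_mul hs.ox hs.oa hs.hax.symm hs.hne.symm
    rw [Nat.card_eq_fintype_card, Fintype.card_subtype]
    have : (Finset.univ.filter fun s => s ∈ (S : Subgroup G)) = {1, x, a, x * a} := by
      ext s; simp [hs.memS]
    rw [this]
    have e2 : x * a ≠ x := fun h => inv_ne_one hs.oa (by simpa using h)
    have e3 : x * a ≠ a := fun h => inv_ne_one hs.ox (by simpa using h)
    simp [(inv_ne_one hs.ox).symm, (inv_ne_one hs.oa).symm, (inv_ne_one hb).symm, hs.hne.symm,
      e2.symm, e3.symm]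
  -- only the centraliser of x contributes
  let j : ↥(S : Subgroup G) × ↥D → G := fun p => (p.1 : G) * p.2
  have hj : Function.Injective j := by
    intro p q h
    have h1 : (p.1 : G) = q.1 := by
      rw [← Setup.pow_card_mul hs p.1.2 p.2.2, ← Setup.pow_card_mul hs q.1.2 q.2.2]
      exact congrArg (· ^ Nat.card D) h
    refine Prod.ext (Subtype.ext h1) (Subtype.ext ?_)
    change (p.1 : G) * p.2 = q.1 * q.2 at h
    rw [h1] at h
    exact mul_left_cancel h
  have hzero : ∀ h : G, h ∉ Finset.univ.image j → theta x D ψ (h⁻¹ * (x * d) * h) = 0 := by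
    intro h hh
    rw [theta, dif_neg]
    intro hmem
    apply hh
    have h1 := Setup.pow_card_mul hs hs.xS hmem
    rw [← mul_assoc, inv_mul_self_eq hs.ox, one_mul] at h1
    have h2 := conj_pow (i := Nat.card D) (a := h⁻¹) (b := x * (d : G))
    rw [inv_inv] at h2
    rw [h2, Setup.pow_card_mul hs hs.xS d.2] at h1
    have hc : Commute h x := by
      show h * x = x * h
      calc h * x = h * (h⁻¹ * x * h) := by rw [h1]
        _ = x * h := by group
    obtain ⟨s, hs', e, he, rfl⟩ := hs.cent h hc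
    exact Finset.mem_image.2 ⟨(⟨s, hs'⟩, ⟨e, he⟩), Finset.mem_univ _, rfl⟩
  have hval : ∀ p, theta x D ψ ((j p)⁻¹ * (x * d) * j p) = ψ d := by
    intro p
    have hse := hs.comm _ p.1.2 _ p.2.2
    have hsd := hs.comm _ p.1.2 _ d.2
    have hsx : Commute (p.1 : G) x := by
      have h3 := hs.sq ((S : Subgroup G).mul_mem p.1.2 hs.xS)
      show (p.1 : G) * x = x * p.1
      calc (p.1 : G) * x = ((p.1 : G) * x)⁻¹ := (inv_eq_of_mul_eq_one_right h3).symm
        _ = x⁻¹ * (p.1 : G)⁻¹ := mul_inv_rev _ _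
        _ = x * p.1 := by rw [inv_eq hs.ox, inv_eq_of_mul_eq_one_right (hs.sq p.1.2)]
    have h4 : (j p)⁻¹ * (x * d) * j p = x * (((p.2 : G))⁻¹ * d * p.2) := by
      calc ((p.1 : G) * p.2)⁻¹ * (x * d) * ((p.1 : G) * p.2)
          = (p.2 : G)⁻¹ * ((p.1 : G)⁻¹ * ((x * d) * p.1)) * p.2 := by group
        _ = (p.2 : G)⁻¹ * (x * d) * p.2 := by
            rw [← (hsx.mul_right hsd).eq, inv_mul_cancel_left]
        _ = ((p.2 : G)⁻¹ * x) * d * p.2 := by group
        _ = (x * (p.2 : G)⁻¹) * d * p.2 := by rw [(hs.comm x hs.xS _ p.2.2).inv_right.eq]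
        _ = _ := by group
    have hxx : x * ((j p)⁻¹ * (x * d) * j p) = (((p.2)⁻¹ * d * p.2 : D) : G) := by
      rw [h4, ← mul_assoc, inv_mul_self_eq hs.ox, one_mul]
      simp
    rw [theta, dif_pos (by rw [hxx]; exact SetLike.coe_mem _)]
    have := hψ d (p.2)⁻¹
    rw [inv_inv] at this
    rw [← this]
    exact congrArg ψ (Subtype.ext hxx)
  rw [excFun, ← Finset.sum_subset (Finset.subset_univ (Finset.univ.image j)) (fun h _ hh => hzero h hh),
    Finset.sum_image (fun p _ q _ h => hj h), Finset.sum_congr rfl (fun p _ => hval p), Finset.sum_const,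
    nsmul_eq_mul, Finset.card_univ, Fintype.card_prod, ← Nat.card_eq_fintype_card,
    ← Nat.card_eq_fintype_card, hS4]
  have : (Nat.card D : ℂ) ≠ 0 := Nat.cast_ne_zero.2 Nat.card_pos.ne'
  push_cast
  field_simp

theorem classInner_excFun_excFun (hs : Setup x a g D S) (ψ : D → ℂ) {φ : D → ℂ}
    (hφ : Cfsg.IsClassFunction D φ) :
    Cfsg.classInner (excFun x D ψ) (excFun x D φ) = 4 * Cfsg.classInner ψ φ := by
  rw [classInner_excFun hs.ox ψ (isClassFunction_excFun φ)]
  simp only [Cfsg.classInner, res, excFun_apply hs hφ, map_mul, map_ofNat, Finset.mul_sum]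
  refine Finset.sum_congr rfl fun d _ => ?_
  ring

theorem isClassFunction_res (hs : Setup x a g D S) {χ : G → ℂ} (hχ : Cfsg.IsClassFunction G χ)
    {s : G} (h : s ∈ (S : Subgroup G)) : Cfsg.IsClassFunction D (res χ s D) := by
  intro d e
  have hse := hs.comm s h _ e.2
  have : s * ((e * d * e⁻¹ : D) : G) = (e : G) * (s * d) * (e : G)⁻¹ := by
    rw [show ((e * d * e⁻¹ : D) : G) = (e : G) * d * (e : G)⁻¹ from rfl, ← mul_assoc, ← mul_assoc,
      hse.eq, mul_assoc (e : G)]
  simp only [res, this]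
  exact hχ _ _

/-- The averaged restriction is a character of `D`. -/
theorem exists_nat_average (T : Subgroup G) (hT : ∀ t ∈ T, ∀ d ∈ D, Commute t d) {χ : G → ℂ}
    (hχ : Cfsg.IsCharacter G χ) {μ : D → ℂ} (hμ : Cfsg.IsCharacter D μ) :
    ∃ m : ℕ, (Nat.card T : ℂ)⁻¹ * ∑ t : T, Cfsg.classInner (res χ t D) μ = m := by
  let j : T × D →* G := MonoidHom.mk' (fun p => (p.1 : G) * p.2) (fun p q => by
    show (p.1 : G) * q.1 * (p.2 * q.2) = p.1 * p.2 * (q.1 * q.2)
    calc (p.1 : G) * q.1 * (p.2 * q.2) = p.1 * ((q.1 : G) * p.2) * q.2 := by group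
      _ = p.1 * ((p.2 : G) * q.1) * q.2 := by rw [(hT _ q.1.2 _ p.2.2).eq]
      _ = _ := by group)
  obtain ⟨m, hm⟩ := classInner_isCharacter (isCharacter_comap j hχ)
    (isCharacter_comap (MonoidHom.snd T D) hμ)
  refine ⟨m, ?_⟩
  rw [← hm]
  simp only [Cfsg.classInner, res, Nat.card_prod, Fintype.sum_prod_type, Finset.mul_sum,
    Nat.cast_mul, mul_inv]
  refine Finset.sum_congr rfl fun t _ => Finset.sum_congr rfl fun d _ => ?_
  simp [j, mul_assoc]

theorem sum_sylow (hs : Setup x a g D S) (f : G → ℂ) :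
    ∑ t : (S : Subgroup G), f t = f 1 + f x + f a + f (x * a) := by
  rw [← Finset.sum_subtype (Finset.univ.filter fun s => s ∈ (S : Subgroup G)) (by simp) f]
  have : (Finset.univ.filter fun s => s ∈ (S : Subgroup G)) = {1, x, a, x * a} := by
    ext s; simp [hs.memS]
  rw [this]
  have hb := order_mul hs.ox hs.oa hs.hax.symm hs.hne.symm
  have e2 : x * a ≠ x := fun h => inv_ne_one hs.oa (by simpa using h)
  have e3 : x * a ≠ a := fun h => inv_ne_one hs.ox (by simpa using h)
  rw [Finset.sum_insert (by simp [(inv_ne_one hs.ox).symm, (inv_ne_one hs.oa).symm, (inv_ne_one hb).symm]),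
    Finset.sum_insert (by simp [hs.hne.symm, e2.symm]), Finset.sum_pair e3.symm]
  ring

theorem card_sylow (hs : Setup x a g D S) : (Nat.card (S : Subgroup G) : ℂ) = 4 := by
  have h := sum_sylow hs (fun _ => (1 : ℂ))
  simp at h
  rw [← Nat.card_eq_fintype_card] at h
  rw [h]; norm_num

theorem res_conj (hs : Setup x a g D S) {χ : G → ℂ} (hχ : Cfsg.IsClassFunction G χ) (μ : D → ℂ)
    {s t : G} (hst : g * s * g⁻¹ = t) :
    Cfsg.classInner (res χ t D) μ = Cfsg.classInner (res χ s D) (μ ∘ sig hs) := by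
  simp only [Cfsg.classInner, res, Function.comp]
  rw [← Equiv.sum_comp (Equiv.ofBijective _ (sig_bijective hs))]
  refine congrArg _ (Finset.sum_congr rfl fun d _ => ?_)
  show χ (t * (g * d * g⁻¹)) * _ = _
  rw [show t * (g * (d : G) * g⁻¹) = g * (s * d) * g⁻¹ by rw [← hst]; group, hχ]
  rfl

theorem sig_three (hs : Setup x a g D S) {μ : D → ℂ} (hμ : Cfsg.IsClassFunction D μ) :
    μ ∘ sig hs ∘ sig hs ∘ sig hs = μ := by
  have hb : g * (x * a) * g⁻¹ = x := by
    calc g * (x * a) * g⁻¹ = (g * x * g⁻¹) * (g * a * g⁻¹) := by group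
      _ = (a * x) * a := by rw [hs.gx, hs.ga, mul_assoc]
      _ = (x * a) * a := by rw [hs.hax.eq]
      _ = x := by rw [mul_assoc, inv_mul_self_eq hs.oa, mul_one]
  have hc : Commute (g * g * g) x := by
    refine mul_inv_eq_iff_eq_mul.1 ?_
    calc g * g * g * x * (g * g * g)⁻¹ = g * (g * (g * x * g⁻¹) * g⁻¹) * g⁻¹ := by group
      _ = x := by rw [hs.gx, hs.ga, hb]
  obtain ⟨s, hs', e, he, hse⟩ := hs.cent _ hc
  funext d
  have : sig hs (sig hs (sig hs d)) = (⟨e, he⟩ : D) * d * (⟨e, he⟩ : D)⁻¹ := by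
    refine Subtype.ext ?_
    show g * (g * (g * (d : G) * g⁻¹) * g⁻¹) * g⁻¹ = e * d * e⁻¹
    calc g * (g * (g * (d : G) * g⁻¹) * g⁻¹) * g⁻¹ = (g * g * g) * d * (g * g * g)⁻¹ := by group
      _ = s * (e * d * e⁻¹) * s⁻¹ := by rw [hse]; group
      _ = e * d * e⁻¹ := by
          rw [(hs.comm s hs' _ (D.mul_mem (D.mul_mem he d.2) (D.inv_mem he))).eq, mul_inv_cancel_right]
  simp only [Function.comp, this]
  exact hμ _ _

/-- Coefficient of `χ` on `x D`. -/
noncomputable def coef (x : G) (D : Subgroup G) (χ : G → ℂ) (μ : D → ℂ) : ℂ :=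
  Cfsg.classInner (res χ x D) μ

/-- The virtual character attached to a character of `D`. -/
noncomputable def excE (hs : Setup x a g D S) (μ : D → ℂ) : G → ℂ :=
  (1 / 2 : ℂ) • (excFun x D μ + excFun x D (μ ∘ sig hs))

theorem isClassFunction_excE (hs : Setup x a g D S) (μ : D → ℂ) :
    Cfsg.IsClassFunction G (excE hs μ) := by
  intro y k
  simp only [excE, Pi.smul_apply, Pi.add_apply, isClassFunction_excFun (x := x) (D := D) _ y k]

theorem isClassFunction_comp_sig (hs : Setup x a g D S) {μ : D → ℂ}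
    (hμ : Cfsg.IsClassFunction D μ) : Cfsg.IsClassFunction D (μ ∘ sig hs) := by
  intro d e
  show μ (sigHom hs (e * d * e⁻¹)) = μ (sigHom hs d)
  rw [map_mul, map_mul, map_inv, hμ]

theorem isIrr_comp_sig (hs : Setup x a g D S) {μ : D → ℂ} (hμ : Cfsg.IsIrrCharacter D μ) :
    Cfsg.IsIrrCharacter D (μ ∘ sig hs) :=
  isIrrCharacter_comap (sigHom hs) (sig_bijective hs).2 hμ

theorem exists_int_excE (hs : Setup x a g D S) {μ : D → ℂ} (hμ : Cfsg.IsCharacter D μ)
    (χ : Cfsg.IrrCharacter G) :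
    ∃ e : ℤ, Cfsg.classInner (excE hs μ) χ = e ∧ (coef x D χ μ + coef x D χ (μ ∘ sig hs)) = 2 * e ∧
      ∃ A m : ℕ, Cfsg.classInner (res (χ : G → ℂ) 1 D) μ = A ∧
        (μ ∘ sig hs = μ → (A : ℤ) + 3 * e = 4 * m) := by
  have hχ := isCharacter_of_isIrrCharacter χ.2
  have hχc := isClassFunction_of_isCharacter hχ
  have hx' : Commute x a := hs.hax.symm
  obtain ⟨m, hm⟩ := exists_nat_average (S : Subgroup G) (fun t ht d hd => hs.comm t ht d hd) hχ hμ
  rw [sum_sylow hs (fun t => Cfsg.classInner (res (χ : G → ℂ) t D) μ), card_sylow hs] at hm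
  have hb := order_mul hs.ox hs.oa hx' hs.hne.symm
  have hbS : x * a ∈ (S : Subgroup G) := (S : Subgroup G).mul_mem hs.xS hs.aS
  obtain ⟨n, hn⟩ := exists_nat_average (Subgroup.zpowers (x * a))
    (fun t ht d hd => hs.comm t ((Subgroup.zpowers_le.2 hbS) ht) d hd) hχ hμ
  have hz : (Finset.univ.filter fun t => t ∈ Subgroup.zpowers (x * a)) = {1, x * a} := by
    ext t
    simp only [Finset.mem_filter, Finset.mem_univ, true_and, Finset.mem_insert, Finset.mem_singleton]
    rw [mem_zpowers_iff_mem_range_orderOf, hb]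
    simp only [Finset.mem_image, Finset.mem_range]
    constructor
    · rintro ⟨k, hk, rfl⟩
      interval_cases k <;> simp
    · rintro (rfl | rfl)
      · exact ⟨0, by norm_num, pow_zero _⟩
      · exact ⟨1, by norm_num, pow_one _⟩
  rw [← Finset.sum_subtype (Finset.univ.filter fun t => t ∈ Subgroup.zpowers (x * a)) (by simp)
    (fun t => Cfsg.classInner (res (χ : G → ℂ) t D) μ), hz, Finset.sum_pair (inv_ne_one hb).symm,
    Nat.card_zpowers, hb] at hn
  obtain ⟨A, hA⟩ : ∃ A : ℕ, Cfsg.classInner (res (χ : G → ℂ) 1 D) μ = A := by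
    obtain ⟨A, hA⟩ := exists_nat_average (⊥ : Subgroup G)
      (fun t ht d _ => by rw [Subgroup.mem_bot.1 ht]; exact Commute.one_left d) hχ hμ
    refine ⟨A, ?_⟩
    have hbot : (Finset.univ.filter fun t => t ∈ (⊥ : Subgroup G)) = {1} := by
      ext t; simp
    rw [← Finset.sum_subtype (Finset.univ.filter fun t => t ∈ (⊥ : Subgroup G)) (by simp)
      (fun t => Cfsg.classInner (res (χ : G → ℂ) t D) μ), hbot, Finset.sum_singleton,
      Subgroup.card_bot] at hA
    simpa using hA
  have hca : Cfsg.classInner (res (χ : G → ℂ) a D) μ = coef x D χ (μ ∘ sig hs) :=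
    res_conj hs hχc μ hs.gx
  refine ⟨2 * (m : ℤ) - n, ?_, ?_, A, m, hA, ?_⟩
  · rw [excE, classInner_smul_left, classInner_add_left, classInner_excFun hs.ox _ hχc,
      classInner_excFun hs.ox _ hχc, ← conj_classInner, ← conj_classInner (res (χ : G → ℂ) x D) (μ ∘ sig hs),
      ← map_add]
    have : Cfsg.classInner (res (χ : G → ℂ) x D) μ + Cfsg.classInner (res (χ : G → ℂ) x D) (μ ∘ sig hs) =
        ((4 * (m : ℤ) - 2 * n : ℤ) : ℂ) := by
      rw [hca] at hm
      unfold coef at hm
      push_cast at hn ⊢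
      linear_combination 4 * hm - 2 * hn
    rw [this, map_intCast]
    push_cast
    ring
  · rw [hca] at hm
    push_cast at hn ⊢
    simp only [coef] at hm ⊢
    linear_combination 4 * hm - 2 * hn
  · intro hfix
    have hcb : Cfsg.classInner (res (χ : G → ℂ) (x * a) D) μ = coef x D χ μ := by
      rw [res_conj hs hχc μ hs.ga, hfix, hca, hfix]
    rw [hca, hcb, hfix, hA] at hm
    rw [hcb, hA] at hn
    have : ((A : ℤ) + 3 * (2 * (m : ℤ) - n) : ℂ) = ((4 * m : ℤ) : ℂ) := by
      push_cast at hn ⊢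
      unfold coef at hm hn
      linear_combination -2 * hm + 3 * hn
    exact_mod_cast this

theorem classInner_excE (hs : Setup x a g D S) (μ : D → ℂ) {ν : D → ℂ}
    (hν : Cfsg.IsClassFunction D ν) :
    Cfsg.classInner (excE hs μ) (excE hs ν) =
      Cfsg.classInner μ ν + Cfsg.classInner μ (ν ∘ sig hs) +
        Cfsg.classInner (μ ∘ sig hs) ν + Cfsg.classInner (μ ∘ sig hs) (ν ∘ sig hs) := by
  rw [excE, excE, classInner_smul_left, classInner_smul_right, classInner_add_left,
    classInner_add_right, classInner_add_right, classInner_excFun_excFun hs _ hν,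
    classInner_excFun_excFun hs _ (isClassFunction_comp_sig hs hν),
    classInner_excFun_excFun hs _ hν,
    classInner_excFun_excFun hs _ (isClassFunction_comp_sig hs hν)]
  simp [map_ofNat]
  ring

theorem sum_excE_apply_eq_zero (hs : Setup x a g D S) (μ : D → ℂ) (ν : D → ℂ) :
    ∑ χ : Cfsg.IrrCharacter G,
      Cfsg.classInner (excE hs μ) χ * Cfsg.classInner (res (χ : G → ℂ) 1 D) ν = 0 := by
  have h : ∀ d : D, ∑ χ : Cfsg.IrrCharacter G, Cfsg.classInner (excE hs μ) χ * (χ : G → ℂ) d = 0 := by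
    intro d
    have h1 := congrFun (eq_sum_classInner (isClassFunction_excE hs μ)) (d : G)
    simp only [Finset.sum_apply, Pi.smul_apply, smul_eq_mul] at h1
    rw [← h1, excE]
    simp [excFun_zero_of_mem hs _ d.2]
  have : (∑ χ : Cfsg.IrrCharacter G, Cfsg.classInner (excE hs μ) χ • res (χ : G → ℂ) 1 D) = 0 := by
    funext d
    simpa [res] using h d
  have h2 := congrArg (fun f => Cfsg.classInner f ν) this
  simp only [classInner_sum_left, classInner_smul_left] at h2
  rw [h2]
  simp [Cfsg.classInner]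

/-- The constituents of the principal exceptional character are constant on `x D`. -/
theorem exceptional (hs : Setup x a g D S) :
    ∃ v : Cfsg.IrrCharacter G → ℤ, v (trivIrr G) = 1 ∧ ∑ χ, v χ * v χ = 4 ∧
      (∀ χ, χ ≠ trivIrr G → v χ * v χ ≤ 1) ∧
      excFun x D (fun _ => 1) = ∑ χ, (v χ : ℂ) • (χ : G → ℂ) ∧
      ∀ χ, χ ≠ trivIrr G → v χ ≠ 0 → (χ : G → ℂ) x = (v χ : ℂ) := by
  have hirr1 : Cfsg.IsIrrCharacter D (fun _ => (1 : ℂ)) := isIrrCharacter_one
  choose e he1 he2 he3 using fun (μ : Cfsg.IrrCharacter D) =>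
    exists_int_excE hs (isCharacter_of_isIrrCharacter μ.2)
  let one : Cfsg.IrrCharacter D := trivIrr D
  have hE1 : excE hs (one : D → ℂ) = excFun x D (fun _ => 1) := by
    funext y
    show (1 / 2 : ℂ) * (excFun x D (fun _ => 1) y + excFun x D (fun _ => 1) y) = _
    ring
  have hcl : ∀ μ : Cfsg.IrrCharacter D, Cfsg.IsClassFunction D (μ : D → ℂ) := fun μ =>
    isClassFunction_of_isCharacter (isCharacter_of_isIrrCharacter μ.2)
  have hdot : ∀ μ ν : Cfsg.IrrCharacter D, ((∑ χ, e μ χ * e ν χ : ℤ) : ℂ) =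
      Cfsg.classInner (excE hs (μ : D → ℂ)) (excE hs (ν : D → ℂ)) := by
    intro μ ν
    rw [classInner_eq_sum (isClassFunction_excE hs _)]
    push_cast
    refine Finset.sum_congr rfl fun χ _ => ?_
    rw [he1, he1, map_intCast]
  let bar : Cfsg.IrrCharacter G → Cfsg.IrrCharacter G := fun χ =>
    ⟨fun y => conj ((χ : G → ℂ) y), isIrrCharacter_conj χ.2⟩
  have hbar : Function.Involutive bar := fun χ => Subtype.ext (funext fun y => Complex.conj_conj _)
  let barD : Cfsg.IrrCharacter D → Cfsg.IrrCharacter D := fun μ =>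
    ⟨fun d => conj ((μ : D → ℂ) d), isIrrCharacter_conj μ.2⟩
  let σ : Cfsg.IrrCharacter D → Cfsg.IrrCharacter D := fun μ => ⟨_, isIrr_comp_sig hs μ.2⟩
  have hconje : ∀ μ χ, e (barD μ) χ = e μ (bar χ) := by
    intro μ χ
    have h1 := he2 (barD μ) χ
    have h2 := congrArg conj (he2 μ (bar χ))
    simp only [map_add, map_mul, map_ofNat, map_intCast] at h2
    have k : ∀ ν : D → ℂ, conj (coef x D (bar χ : G → ℂ) ν) =
        coef x D (χ : G → ℂ) (fun d => conj (ν d)) := by
      intro ν
      simp only [coef, Cfsg.classInner, map_mul, map_inv₀, map_natCast, map_sum, res, bar,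
        Complex.conj_conj]
    rw [k, k] at h2
    have h3 : ((2 * e (barD μ) χ : ℤ) : ℂ) = ((2 * e μ (bar χ) : ℤ) : ℂ) := by
      push_cast
      rw [← h1, ← h2]
      rfl
    have := Int.cast_injective h3
    omega
  have hone : barD one = one := Subtype.ext (funext fun d => map_one conj)
  have hinner : ∀ μ ν : Cfsg.IrrCharacter D, Cfsg.classInner (μ : D → ℂ) ν = if μ = ν then 1 else 0 :=
    fun μ ν => classInner_irrCharacter μ ν
  have hdot' : ∀ μ ν : Cfsg.IrrCharacter D, ((∑ χ, e μ χ * e ν χ : ℤ) : ℂ) =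
      (if μ = ν then 1 else 0) + (if μ = σ ν then 1 else 0) +
        (if σ μ = ν then 1 else 0) + (if σ μ = σ ν then 1 else 0) := by
    intro μ ν
    rw [hdot, classInner_excE hs _ (hcl ν), ← hinner μ ν, ← hinner μ (σ ν), ← hinner (σ μ) ν,
      ← hinner (σ μ) (σ ν)]
  have hσone : σ one = one := Subtype.ext rfl
  have hσ3 : ∀ μ, σ (σ (σ μ)) = μ := fun μ => Subtype.ext (sig_three hs (hcl μ))
  have hσinj : Function.Injective σ := fun μ ν h => by
    have := congrArg (fun t => σ (σ t)) h
    simpa [hσ3] using this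
  set v := e one with hvdef
  have hF : excFun x D (fun _ => 1) = ∑ χ, (v χ : ℂ) • (χ : G → ℂ) := by
    conv_lhs => rw [eq_sum_classInner (isClassFunction_excFun _)]
    refine Finset.sum_congr rfl fun χ _ => ?_
    rw [← hE1, he1]
  have hvo : v (trivIrr G) = 1 := by
    have h := he2 one (trivIrr G)
    have h1 : coef x D (trivIrr G : G → ℂ) (one : D → ℂ) = 1 := classInner_irr_self hirr1
    have h2 : coef x D (trivIrr G : G → ℂ) ((one : D → ℂ) ∘ sig hs) = 1 := classInner_irr_self hirr1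
    rw [h1, h2] at h
    have : ((2 * v (trivIrr G) : ℤ) : ℂ) = ((2 : ℤ) : ℂ) := by
      push_cast; rw [← h]; norm_num
    have := Int.cast_injective this
    omega
  have hv4 : ∑ χ, v χ * v χ = 4 := by
    have h := hdot' one one
    simp only [hσone, if_true] at h
    norm_num at h
    exact_mod_cast h
  have hV : ∀ χ, χ ≠ trivIrr G → v χ * v χ ≤ 1 := by
    intro χ hχ
    have h := Finset.sum_le_sum_of_subset_of_nonneg (f := fun χ => v χ * v χ)
      (Finset.subset_univ ({trivIrr G, χ} : Finset _)) (fun _ _ _ => mul_self_nonneg _)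
    rw [hv4, Finset.sum_pair hχ.symm, hvo] at h
    have h3 : v χ * v χ ≤ 3 := by linarith
    have : -1 ≤ v χ ∧ v χ ≤ 1 := by constructor <;> nlinarith
    rcases (show v χ = -1 ∨ v χ = 0 ∨ v χ = 1 by omega) with h | h | h <;> rw [h] <;> norm_num
  refine ⟨v, hvo, hv4, hV, hF, fun χ hχ hvχ => ?_⟩
  have hzero : ∀ μ, μ ≠ one → e μ χ = 0 := by
    intro μ hμ
    have hμbar : μ ≠ barD μ := by
      intro h
      refine hμ (Subtype.ext (FourCoherence.eq_one_of_real hs.odd μ fun d => ?_))
      exact (congrFun (congrArg Subtype.val h) d).symm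
    have hμσ : σ μ ≠ barD μ := by
      intro h
      have h1 : σ (barD μ) = μ := by
        have := congrArg barD h
        rw [show barD (barD μ) = μ from Subtype.ext (funext fun d => Complex.conj_conj _)] at this
        exact this
      have h2 : σ (σ μ) = μ := by rw [h, h1]
      have h3 : σ μ = μ := by
        conv_rhs => rw [← hσ3 μ, h2]
      exact hμbar (h3.symm.trans h)
    have hσμ : σ μ ≠ one := fun h => hμ (hσinj (h.trans hσone.symm))
    have heo : e μ (trivIrr G) = 0 := by
      have h := he2 μ (trivIrr G)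
      have k : ∀ ν : Cfsg.IrrCharacter D, ν ≠ one → coef x D (trivIrr G : G → ℂ) (ν : D → ℂ) = 0 :=
        fun ν hν => classInner_irr_ne hirr1 ν.2 fun h => hν (Subtype.ext h.symm)
      rw [k μ hμ, show coef x D (trivIrr G : G → ℂ) ((μ : D → ℂ) ∘ sig hs) = 0 from k (σ μ) hσμ] at h
      have : ((2 * e μ (trivIrr G) : ℤ) : ℂ) = ((0 : ℤ) : ℂ) := by
        push_cast; rw [← h]; norm_num
      have := Int.cast_injective this
      omega
    have hbaro : bar (trivIrr G) = trivIrr G := Subtype.ext (funext fun d => map_one conj)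
    have hnorm : ∑ χ, e μ χ * e μ χ = 2 ∨ ∑ χ, e μ χ * e μ χ = 4 := by
      have h := hdot' μ μ
      by_cases hf : μ = σ μ
      · simp only [← hf, if_true] at h
        norm_num at h
        right; exact_mod_cast h
      · simp only [if_neg hf, if_neg (Ne.symm hf), if_true] at h
        norm_num at h
        left; exact_mod_cast h
    have hev : ∑ χ, e μ χ * v χ = 0 := by
      have h := hdot' μ one
      simp only [hσone, if_neg hμ, if_neg hσμ, add_zero] at h
      exact_mod_cast h
    have hee : ∑ χ, e μ χ * e μ (bar χ) = 0 := by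
      have h := hdot' μ (barD μ)
      have h1 : μ ≠ σ (barD μ) := by
        intro h1
        refine hμσ ?_
        have := congrArg barD h1
        exact (this.trans (Subtype.ext (funext fun d => Complex.conj_conj _))).symm
      have h2 : σ μ ≠ σ (barD μ) := fun h' => hμbar (hσinj h')
      simp only [if_neg hμbar, if_neg h1, if_neg hμσ, if_neg h2, add_zero, hconje] at h
      exact_mod_cast h
    have hvb : ∀ χ, v (bar χ) = v χ := fun χ => by rw [hvdef, ← hconje, hone]
    rcases FourCoherence.shared_pair bar hbar (trivIrr G) hbaro v (e μ) hvo hv4 hvb hV heo hnorm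
      hev hee with h | ⟨h4, i, j, hij, hi, hj, hw⟩
    · exact (mul_eq_zero.1 (h χ)).resolve_right hvχ
    · exfalso
      have hfix : σ μ = μ := by
        by_contra hf
        have h := hdot' μ μ
        simp only [if_neg hf, if_neg (Ne.symm hf), if_true, h4] at h
        norm_num at h
      choose A m hA hAm using he3 μ
      have hsum : ∀ ν, ∑ χ, e ν χ * (A χ : ℤ) = 0 := by
        intro ν
        have h := sum_excE_apply_eq_zero hs (ν : D → ℂ) (μ : D → ℂ)
        simp only [he1, hA] at h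
        exact_mod_cast h
      have hpair := hw (fun χ => (A χ : ℤ)) (hsum μ) (by simp only [← hconje]; exact hsum _)
      have ei := hAm i (congrArg Subtype.val hfix)
      have ej := hAm j (congrArg Subtype.val hfix)
      have : 4 * (e μ i * m i + e μ j * m j) = 6 := by
        linear_combination (-(e μ i)) * ei + (-(e μ j)) * ej + hpair + 3 * hi + 3 * hj
      omega
  have hcoef : ∀ μ, μ ≠ one → coef x D χ (μ : D → ℂ) = 0 := by
    intro μ hμ
    have hσμ : σ μ ≠ one := fun h => hμ (hσinj (h.trans hσone.symm))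
    have hσσμ : σ (σ μ) ≠ one := fun h => hσμ (hσinj (h.trans hσone.symm))
    have h1 := he2 μ χ
    have h2 := he2 (σ μ) χ
    have h3 := he2 (σ (σ μ)) χ
    rw [hzero _ hμ] at h1
    rw [hzero _ hσμ] at h2
    rw [hzero _ hσσμ, show (σ (σ μ) : D → ℂ) ∘ sig hs = (μ : D → ℂ) from congrArg Subtype.val (hσ3 μ)] at h3
    simp only [σ] at h1 h2 h3
    linear_combination (h1 - h2 + h3) / 2
  have hcone : coef x D χ (one : D → ℂ) = (v χ : ℂ) := by
    have h := he2 one χ
    have : coef x D χ ((one : D → ℂ) ∘ sig hs) = coef x D χ (one : D → ℂ) := rfl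
    rw [this] at h
    linear_combination h / 2
  have hres : res (χ : G → ℂ) x D = (v χ : ℂ) • (one : D → ℂ) := by
    refine classFunction_ext (isClassFunction_res hs
      (isClassFunction_of_isCharacter (isCharacter_of_isIrrCharacter χ.2)) hs.xS)
      (fun d e => rfl) fun μ => ?_
    rw [classInner_smul_left, hinner]
    by_cases hμ : μ = one
    · subst hμ; rw [if_pos rfl, mul_one]; exact hcone
    · rw [if_neg (Ne.symm hμ), mul_zero]; exact hcoef μ hμ
  have := congrFun hres 1
  simpa [res, one, trivIrr] using this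

/-- Pairs of involutions through an irreducible character. -/
theorem sum_involution_pairs (hconj : ∀ u v : G, orderOf u = 2 → orderOf v = 2 → IsConj u v)
    (hx : orderOf x = 2) (χ : Cfsg.IrrCharacter G) :
    ∑ u ∈ Finset.univ.filter (fun u : G => orderOf u = 2),
      ∑ w ∈ Finset.univ.filter (fun u : G => orderOf u = 2), (χ : G → ℂ) (u * w) =
      ((Finset.univ.filter fun u : G => orderOf u = 2).card * (χ : G → ℂ) x) ^ 2 / (χ : G → ℂ) 1 := by
  obtain ⟨n, ρ, hρ, hχ⟩ := χ.2
  set I := Finset.univ.filter fun u : G => orderOf u = 2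
  let f : G → ℂ := fun y => if orderOf y = 2 then 1 else 0
  have hf : Cfsg.IsClassFunction G f := fun y k => by simp only [f, order_conj]
  have hfun := CharBasicInt.sum_smul_rep_eq ρ hf
  have h1 : ∑ y, f y • ρ y = ∑ u ∈ I, ρ u := by
    simp only [f, ite_smul, one_smul, zero_smul, I, ← Finset.sum_filter]
  have h2 : ∑ y, f y * ρ.character y = I.card * (χ : G → ℂ) x := by
    simp only [f, ite_mul, one_mul, zero_mul, ← Finset.sum_filter]
    rw [Finset.sum_congr rfl (fun y hy => ?_), Finset.sum_const, nsmul_eq_mul]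
    rw [← hχ]
    exact apply_eq_of_isConj (isClassFunction_character ρ) (hconj y x (Finset.mem_filter.1 hy).2 hx)
  rw [h1, h2] at hfun
  set c := (I.card * (χ : G → ℂ) x) / (Module.finrank ℂ (Fin n → ℂ) : ℂ) with hc
  have h3 : ∑ u ∈ I, ∑ w ∈ I, (χ : G → ℂ) (u * w) =
      LinearMap.trace ℂ _ ((∑ u ∈ I, ρ u) * (∑ w ∈ I, ρ w)) := by
    rw [Finset.sum_mul, map_sum]
    refine Finset.sum_congr rfl fun u _ => ?_
    rw [Finset.mul_sum, map_sum]
    refine Finset.sum_congr rfl fun w _ => ?_
    rw [← map_mul, ← hχ]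
    rfl
  have h4 : (χ : G → ℂ) 1 = (Module.finrank ℂ (Fin n → ℂ) : ℂ) := by
    rw [← hχ]; exact Representation.char_one ρ
  have hne : (Module.finrank ℂ (Fin n → ℂ) : ℂ) ≠ 0 :=
    Nat.cast_ne_zero.2 (finrank_pos_of_irreducible ρ).ne'
  have h5 : ((c • LinearMap.id : Module.End ℂ (Fin n → ℂ)) * (c • LinearMap.id)) =
      (c * c) • LinearMap.id := by
    ext v; simp [smul_smul]
  rw [h3, hfun, h5, map_smul, LinearMap.trace_id, h4, smul_eq_mul, hc]
  field_simp

end Functions

end Cfsg.Agent.FourExceptional
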