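import Mathlib
import Cfsg.Agent.S3278

/-!
A finite group of order four times an odd number with one class of involutions, in which an
involution has a centraliser of order four, has order 12 or is the alternating group of degree five.
-/

set_option autoImplicit false

namespace Cfsg.Agent.KleinSelfCent

open Cfsg.Agent.S3279 (inv_mul_self_eq inv_eq inv_ne_one order_conj commute_conj order_mul)

variable {G : Type*} [Group G] [Finite G]

/-- An involution with no fixed point inverts a normal subgroup. -/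
theorem inverts_of_fixed_point_free (K : Subgroup G) [K.Normal] {t : G} (ht : t * t = 1)
    (hfix : ∀ k ∈ K, Commute t k → k = 1) : ∀ k ∈ K, t * k * t⁻¹ = k⁻¹ := by
  have hti : t⁻¹ = t := inv_eq_of_mul_eq_one_right ht
  let f : K → K := fun k => ⟨(k : G)⁻¹ * (t * k * t⁻¹),
    K.mul_mem (K.inv_mem k.2) (Subgroup.Normal.conj_mem ‹_› _ k.2 t)⟩
  have hf : Function.Injective f := by
    intro a b h
    have h' : (a : G)⁻¹ * (t * a * t⁻¹) = (b : G)⁻¹ * (t * b * t⁻¹) := congrArg Subtype.val h
    have hcomm : Commute t ((b : G) * (a : G)⁻¹) := by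
      show t * _ = _ * t
      have h2 := congrArg (fun z => (b : G) * z * (t * (a : G)⁻¹)) h'
      simp [mul_assoc] at h2
      simp [mul_assoc, h2]
    have := hfix _ (K.mul_mem b.2 (K.inv_mem a.2)) hcomm
    exact Subtype.ext (mul_inv_eq_one.1 this).symm
  intro k hk
  obtain ⟨x, hx⟩ := Finite.injective_iff_surjective.1 hf ⟨k, hk⟩
  have hx' : (x : G)⁻¹ * (t * x * t⁻¹) = k := congrArg Subtype.val hx
  rw [← hx', mul_inv_rev, inv_inv, hti]
  calc t * ((x : G)⁻¹ * (t * x * t)) * t = t * (x : G)⁻¹ * t * x * (t * t) := by group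
    _ = (t * x * t)⁻¹ * x := by rw [ht, mul_one]; simp only [mul_inv_rev, hti, mul_assoc]

/-- Two commuting involutions which, with their product, have no fixed points on a normal subgroup
of odd order force it to be trivial. -/
theorem eq_bot_of_four (K : Subgroup G) [K.Normal] (hK : Odd (Nat.card K)) {a b : G}
    (ha : a * a = 1) (hb : b * b = 1) (hab : Commute a b)
    (h : ∀ u ∈ ({a, b, a * b} : Set G), ∀ k ∈ K, Commute u k → k = 1) : K = ⊥ := by
  rw [Subgroup.eq_bot_iff_forall]
  intro k hk
  have hab2 : (a * b) * (a * b) = 1 := by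
    rw [mul_assoc, ← mul_assoc b, ← hab.eq, mul_assoc a b b, hb, mul_one, ha]
  have e1 := inverts_of_fixed_point_free K ha (h a (by simp)) k hk
  have e2 := inverts_of_fixed_point_free K hb (h b (by simp)) k hk
  have e3 := inverts_of_fixed_point_free K hab2 (h (a * b) (by simp)) k hk
  have e4 : a * b * k * (a * b)⁻¹ = k := by
    calc a * b * k * (a * b)⁻¹ = a * (b * k * b⁻¹) * a⁻¹ := by group
      _ = (a * k * a⁻¹)⁻¹ := by rw [e2]; group
      _ = k := by rw [e1, inv_inv]
  rw [e4] at e3
  have hk2 : k ^ 2 = 1 := by rw [pow_two]; exact mul_eq_one_iff_eq_inv.2 e3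
  have h1 : orderOf k ∣ Nat.card K := by
    have := orderOf_dvd_natCard (⟨k, hk⟩ : K)
    rwa [Subgroup.orderOf_mk] at this
  exact orderOf_eq_one_iff.1 (Nat.eq_one_of_dvd_coprimes (Nat.coprime_two_left.2 hK)
    (orderOf_dvd_of_pow_eq_one hk2) h1)

theorem exists_involution_of_not_odd (K : Subgroup G) (h : ¬ Odd (Nat.card K)) :
    ∃ y ∈ K, orderOf y = 2 := by
  haveI : Fact (Nat.Prime 2) := ⟨Nat.prime_two⟩
  rw [Nat.not_odd_iff_even, even_iff_two_dvd] at h
  obtain ⟨y, hy⟩ := exists_prime_orderOf_dvd_card' 2 h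
  exact ⟨y, y.2, by rw [Subgroup.orderOf_coe, hy]⟩

/-- The structure theorem. -/
theorem card_twelve_or_alternating {t a : G} (ht : orderOf t = 2) (ha : orderOf a = 2)
    (hat : Commute t a) (hne : a ≠ t)
    (hcent : ∀ c, Commute c t → c = 1 ∨ c = t ∨ c = a ∨ c = t * a)
    (hconj : ∀ u v : G, orderOf u = 2 → orderOf v = 2 → IsConj u v)
    (h8 : ¬ 8 ∣ Nat.card G) :
    Nat.card G = 12 ∨ (IsSimpleGroup G ∧ Nonempty (G ≃* ↥(alternatingGroup (Fin 5)))) := by
  classical
  haveI : Fact (Nat.Prime 2) := ⟨Nat.prime_two⟩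
  set Q := Subgroup.centralizer ({t} : Set G) with hQ
  have hb := order_mul ht ha hat hne.symm
  have hmem : ∀ c, c ∈ Q ↔ c = 1 ∨ c = t ∨ c = a ∨ c = t * a := by
    intro c
    rw [hQ, Subgroup.mem_centralizer_singleton_iff]
    refine ⟨hcent c, ?_⟩
    rintro (rfl | rfl | rfl | rfl)
    exacts [(Commute.one_left t).eq, rfl, hat.symm.eq, ((Commute.refl t).mul_left hat.symm).eq]
  have hQ4 : Nat.card Q = 4 := by
    have e : (Q : Set G) = ({1, t, a, t * a} : Finset G) := by
      ext c; simp [hmem]
    rw [← SetLike.coe_sort_coe, Nat.card_coe_set_eq, e, Set.ncard_coe_finset]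
    have e1 : a ≠ t * a := fun h => inv_ne_one ht (by simpa using h)
    have e2 : t ≠ t * a := fun h => inv_ne_one ha (by simpa using h)
    rw [Finset.card_insert_of_notMem (by simp [(inv_ne_one ht).symm, (inv_ne_one ha).symm, (inv_ne_one hb).symm]),
      Finset.card_insert_of_notMem (by simp [hne.symm, e2]), Finset.card_pair e1]
  have hcomm : ∀ c ∈ Q, ∀ d ∈ Q, Commute c d := by
    intro c hc d hd
    have hct : ∀ e ∈ Q, Commute e t ∧ Commute e a := by
      intro e he
      rcases (hmem e).1 he with rfl | rfl | rfl | rfl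
      exacts [⟨Commute.one_left _, Commute.one_left _⟩, ⟨Commute.refl _, hat⟩, ⟨hat.symm, Commute.refl _⟩,
        ⟨(Commute.refl t).mul_left hat.symm, hat.mul_left (Commute.refl a)⟩]
    obtain ⟨h1, h2⟩ := hct c hc
    rcases (hmem d).1 hd with rfl | rfl | rfl | rfl
    exacts [Commute.one_right c, h1, h2, h1.mul_right h2]
  have hsq : ∀ c ∈ Q, c * c = 1 := by
    intro c hc
    rcases (hmem c).1 hc with rfl | rfl | rfl | rfl
    exacts [one_mul 1, inv_mul_self_eq ht, inv_mul_self_eq ha, inv_mul_self_eq hb]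
  have hfix : ∀ K : Subgroup G, Odd (Nat.card K) → ∀ u, orderOf u = 2 → ∀ k ∈ K, Commute u k → k = 1 := by
    intro K hK u hu k hk huk
    obtain ⟨g, hg⟩ := isConj_iff.1 (hconj u t hu ht)
    have hk' : Commute (g * k * g⁻¹) t := hg ▸ (commute_conj g huk).symm
    have h2 : k * k = 1 := by
      have := hsq _ ((hmem _).2 (hcent _ hk'))
      simpa [mul_assoc] using congrArg (fun z => g⁻¹ * z * g) this
    have h1 : orderOf k ∣ Nat.card K := by
      have := orderOf_dvd_natCard (⟨k, hk⟩ : K)
      rwa [Subgroup.orderOf_mk] at this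
    exact orderOf_eq_one_iff.1 (Nat.eq_one_of_dvd_coprimes (Nat.coprime_two_left.2 hK)
      (orderOf_dvd_of_pow_eq_one (by rw [pow_two, h2])) h1)
  have hodd : ∀ K : Subgroup G, K.Normal → Odd (Nat.card K) → K = ⊥ := by
    intro K hKn hK
    haveI := hKn
    refine eq_bot_of_four K hK (inv_mul_self_eq ht) (inv_mul_self_eq ha) hat ?_
    intro u hu
    simp only [Set.mem_insert_iff, Set.mem_singleton_iff] at hu
    rcases hu with rfl | rfl | rfl
    exacts [hfix K hK _ ht, hfix K hK _ ha, hfix K hK _ hb]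
  -- every non-trivial normal subgroup contains Q
  have hQK : ∀ K : Subgroup G, K.Normal → K ≠ ⊥ → Q ≤ K := by
    intro K hKn hK
    obtain ⟨y, hy, hy2⟩ := exists_involution_of_not_odd K fun h => hK (hodd K hKn h)
    intro c hc
    by_cases h1 : c = 1
    · rw [h1]; exact K.one_mem
    obtain ⟨g, rfl⟩ := isConj_iff.1 (hconj y c hy2 (orderOf_eq_prime (by rw [pow_two]; exact hsq c hc) h1))
    exact hKn.conj_mem y hy g
  set N := Subgroup.normalizer (Q : Set G) with hN
  have hQN : Q ≤ N := Subgroup.le_normalizer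
  have hCN : Subgroup.centralizer (Q : Set G) ≤ Q :=
    Subgroup.centralizer_le (Set.singleton_subset_iff.2 ((hmem t).2 (Or.inr (Or.inl rfl))))
  have hN12 : Nat.card N ∣ 12 := by
    haveI := Fintype.ofFinite N
    let I := {c : Q // c ≠ 1}
    have hI : Nat.card I = 3 := by
      haveI := Fintype.ofFinite Q
      rw [Nat.card_eq_fintype_card, Fintype.card_subtype_compl, Fintype.card_subtype_eq,
        ← Nat.card_eq_fintype_card, hQ4]
    let φ : N →* MulAut Q := Q.normalizerMonoidHom
    let ψ : N →* Equiv.Perm I :=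
      { toFun := fun n => (φ n).toEquiv.subtypeEquiv fun c => by simp
        map_one' := by ext c; simp
        map_mul' := fun m n => by ext c; simp }
    have hker : Nat.card ψ.ker ∣ 4 := by
      rw [← hQ4]
      refine Subgroup.card_dvd_of_injective
        (MonoidHom.codRestrict ((N.subtype).comp ψ.ker.subtype) Q fun n => hCN ?_) ?_
      · rw [Subgroup.mem_centralizer_iff]
        intro c hc
        by_cases h1 : c = 1
        · simp [h1]
        have h := congrArg (fun e : Equiv.Perm I => ((e ⟨⟨c, hc⟩, fun h => h1 (congrArg Subtype.val h)⟩ : Q) : G))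
          (MonoidHom.mem_ker.1 n.2)
        have h' : ((n : N) : G) * c * ((n : N) : G)⁻¹ = c := h
        show c * ((n : N) : G) = ((n : N) : G) * c
        conv_lhs => rw [← h']
        group
      · intro m n h
        exact Subtype.ext (Subtype.ext (congrArg (fun z : Q => (z : G)) h))
    have h24 : Nat.card N ∣ 24 := by
      rw [← Subgroup.card_mul_index ψ.ker, Subgroup.index_ker, show (24 : ℕ) = 4 * 6 by rfl]
      refine Nat.mul_dvd_mul hker ((Subgroup.card_subgroup_dvd_card _).trans ?_)
      rw [Nat.card_perm, hI]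
      rfl
    have h8N : ¬ 8 ∣ Nat.card N := fun h => h8 (h.trans (Subgroup.card_subgroup_dvd_card N))
    have hle := Nat.le_of_dvd (by norm_num) h24
    have hall : ∀ m ≤ 24, m ∣ 24 → ¬ 8 ∣ m → m ∣ 12 := by decide
    exact hall _ hle h24 h8N
  by_cases htop : N = ⊤
  · left
    have h4 := Subgroup.card_dvd_of_le hQN
    rw [htop, Subgroup.card_top] at hN12 h4
    rw [hQ4] at h4
    have hne4 : Nat.card G ≠ 4 := fun h => by
      have hQtop : Q = ⊤ := (Subgroup.card_eq_iff_eq_top Q).1 (by rw [hQ4, h])
      obtain ⟨g, hg⟩ := isConj_iff.1 (hconj t a ht ha)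
      have := hcomm g (hQtop ▸ Subgroup.mem_top g) t ((hmem t).2 (Or.inr (Or.inl rfl)))
      rw [this.eq, mul_inv_cancel_right] at hg
      exact hne hg.symm
    have hle := Nat.le_of_dvd (by norm_num) hN12
    obtain ⟨m, hm⟩ := h4
    have : m ≤ 3 := by omega
    interval_cases m <;> omega
  right
  have hsimple : IsSimpleGroup G := by
    haveI : Nontrivial G := ⟨⟨t, 1, inv_ne_one ht⟩⟩
    refine ⟨fun K hKn => ?_⟩
    by_contra hcon
    push Not at hcon
    obtain ⟨hKb, hKt⟩ := hcon
    have hQK' := hQK K hKn hKb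
    haveI := hKn
    have hQp : IsPGroup 2 (Q.subgroupOf K) := IsPGroup.of_card (n := 2) (by
      rw [Nat.card_congr (Subgroup.subgroupOfEquivOfLe hQK').toEquiv, hQ4]; rfl)
    have hidx : ¬ 2 ∣ (Q.subgroupOf K).index := by
      intro h
      apply h8
      have h1 := Subgroup.card_mul_index (Q.subgroupOf K)
      rw [Nat.card_congr (Subgroup.subgroupOfEquivOfLe hQK').toEquiv, hQ4] at h1
      exact (show 8 ∣ Nat.card K by
        obtain ⟨m, hm⟩ := h
        exact ⟨m, by rw [← h1, hm]; ring⟩).trans (Subgroup.card_subgroup_dvd_card K)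
    let S : Sylow 2 K := hQp.toSylow hidx
    have hmap : (S : Subgroup K).map K.subtype = Q := by
      show (Q.subgroupOf K).map K.subtype = Q
      rw [Subgroup.map_subgroupOf_eq_of_le hQK']
    have hfr := Sylow.normalizer_sup_eq_top S
    rw [hmap] at hfr
    by_cases hNK : N ≤ K
    · exact hKt (top_le_iff.1 (hfr ▸ sup_le hNK le_rfl))
    have hinter : ∀ n ∈ N, n ∈ K → n ∈ Q := by
      have h1 : Nat.card Q ∣ Nat.card (N ⊓ K : Subgroup G) :=
        Subgroup.card_dvd_of_le (le_inf hQN hQK')
      have h2 : Nat.card (N ⊓ K : Subgroup G) ∣ Nat.card N := Subgroup.card_dvd_of_le inf_le_left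
      rw [hQ4] at h1
      intro n hnN hnK
      by_contra hnQ
      have hne4 : Nat.card (N ⊓ K : Subgroup G) ≠ 4 := fun h4 => hnQ ((Subgroup.eq_of_le_of_card_ge
        (le_inf hQN hQK') (by rw [hQ4, h4])).symm ▸ (⟨hnN, hnK⟩ : n ∈ N ⊓ K))
      have h12 := h2.trans hN12
      have hle := Nat.le_of_dvd (by norm_num) h12
      have hall : ∀ m ≤ 12, 4 ∣ m → m ∣ 12 → m ≠ 4 → m = 12 := by decide
      have heq := hall _ hle h1 h12 hne4
      exact hNK (by
        have := Subgroup.eq_of_le_of_card_ge (inf_le_left : N ⊓ K ≤ N)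
          (by rw [heq]; exact Nat.le_of_dvd (by norm_num) hN12)
        exact inf_eq_left.1 this)
    have hSN : Subgroup.normalizer ((S : Subgroup K) : Set K) ≤
        Subgroup.centralizer ((S : Subgroup K) : Set K) := by
      intro k hk
      have hkN : (k : G) ∈ N := by
        rw [hN, Subgroup.mem_normalizer_iff]
        intro c
        constructor
        · intro hc
          exact Subgroup.mem_subgroupOf.1 ((Subgroup.mem_normalizer_iff.1 hk ⟨c, hQK' hc⟩).1
            (Subgroup.mem_subgroupOf.2 hc))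
        · intro hc
          have hcK : c ∈ K := by
            have := K.mul_mem (K.mul_mem (K.inv_mem k.2) (hQK' hc)) k.2
            simpa [mul_assoc] using this
          exact Subgroup.mem_subgroupOf.1 ((Subgroup.mem_normalizer_iff.1 hk ⟨c, hcK⟩).2
            (Subgroup.mem_subgroupOf.2 hc))
      rw [Subgroup.mem_centralizer_iff]
      intro s hs'
      exact Subtype.ext (hcomm s (Subgroup.mem_subgroupOf.1 hs') k (hinter _ hkN k.2)).eq
    set O := (MonoidHom.transferSylow S hSN).ker with hO
    have hcompl := MonoidHom.ker_transferSylow_isComplement' S hSN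
    have hOodd : Odd (Nat.card O) := by
      rw [← Nat.not_even_iff_odd, even_iff_two_dvd]
      exact MonoidHom.not_dvd_card_ker_transferSylow S hSN
    have hchar : O.Characteristic := by
      refine Subgroup.characteristic_iff_map_le.2 fun f => ?_
      rintro _ ⟨k, hk, rfl⟩
      have h1 : orderOf (MonoidHom.transferSylow S hSN (f k)) ∣ orderOf k := by
        have := orderOf_map_dvd (MonoidHom.transferSylow S hSN) (f k)
        rwa [MulEquiv.orderOf_eq] at this
      have h2 : orderOf k ∣ Nat.card O := by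
        have := orderOf_dvd_natCard (⟨k, hk⟩ : O)
        rwa [Subgroup.orderOf_mk] at this
      have h3 : orderOf (MonoidHom.transferSylow S hSN (f k)) ∣ Nat.card (S : Subgroup K) :=
        orderOf_dvd_natCard _
      have hS4 : Nat.card (S : Subgroup K) = 2 ^ 2 := by
        rw [← Nat.card_congr (Subgroup.equivMapOfInjective _ K.subtype K.subtype_injective).toEquiv.symm,
          hmap, hQ4]
        rfl
      rw [hS4] at h3
      exact MonoidHom.mem_ker.2 (orderOf_eq_one_iff.1 (Nat.eq_one_of_dvd_coprimes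
        ((Nat.coprime_two_left.2 hOodd).pow_left 2) h3 (h1.trans h2)))
    haveI := hchar
    have hO1 := hodd (O.map K.subtype) (ConjAct.normal_of_characteristic_of_normal)
      (by rw [Subgroup.card_map_of_injective K.subtype_injective]; exact hOodd)
    have hOb : O = ⊥ := (Subgroup.map_eq_bot_iff_of_injective O K.subtype_injective).1 hO1
    rw [← hO, hOb] at hcompl
    have hStop : (S : Subgroup K) = ⊤ := Subgroup.isComplement'_bot_left.1 hcompl
    apply htop
    rw [eq_top_iff, hN, top_le_iff, Subgroup.normalizer_eq_top_iff, ← hmap, hStop,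
      ← MonoidHom.range_eq_map, Subgroup.range_subtype]
    exact hKn
  refine ⟨hsimple, ?_⟩
  haveI := hsimple
  haveI : IsKleinFour ↥Q :=
    { card_four := hQ4
      exponent_two := by
        haveI : Nontrivial Q := ⟨⟨⟨t, (hmem t).2 (Or.inr (Or.inl rfl))⟩, 1, fun h =>
          inv_ne_one ht (congrArg Subtype.val h)⟩⟩
        refine (Monoid.exponent_eq_prime_iff Nat.prime_two).2 fun q hq => ?_
        refine orderOf_eq_prime ?_ hq
        rw [pow_two]
        exact Subtype.ext (hsq q q.2) }
  refine Cfsg.Agent.S3278.result t ht Q le_rfl this ?_ ?_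
  · rw [Subgroup.relIndex_self]; decide
  · rw [Subgroup.subgroupOf_self]; infer_instance

end Cfsg.Agent.KleinSelfCent
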