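import Cfsg.Agent.Lib.AN39Base
import Cfsg.Agent.Lib.KleinSelfCent
import Cfsg.Agent.Lib.TransferThompson
import Cfsg.Agent.Lib.ZStarTheorem

/-!
# S3344, order: the centralizer of the non-central involution `a`

It has a subgroup of index two with Sylow 2-subgroup `E₁₆`, in which a four-group `⟨a, a'⟩` is central.
-/

set_option autoImplicit false
set_option maxRecDepth 100000
set_option linter.unusedSectionVars false

namespace Cfsg.Agent.AN39

open Cfsg.Agent.AN82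

/-- The elements of the central four-group. -/
def vL : List Ix := [0, 3, 54, 57]

theorem vL_closed : Closed vL := by unfold Closed; decide +kernel

/-- The involutions of the abelian subgroup outside the four-group that are conjugate to `a`. -/
def wM : List Ix := [9, 147, 150]

theorem tA_split : ∀ i ∈ tA, i ∈ aL ∨ (∃ j ∈ aL, i = mul 0 39 j) := by decide +kernel

theorem aL_gen : ∀ i ∈ aL, i = 0 ∨ ∃ x ∈ zM, i = x ∨ ∃ y ∈ zM, i = mul 0 x y := by decide +kernel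

theorem z_in_aL : ∀ i ∈ tA, i ∈ zL → i ∈ aL := by decide +kernel

theorem aL_sq : ∀ i ∈ aL, i ∈ tA ∧ mul 0 i i = 0 := by decide +kernel

theorem zM_sub : ∀ i ∈ zM, i ∈ aL ∧ i ∈ zL := by decide +kernel

theorem aL_comm : ∀ i ∈ aL, ∀ j ∈ aL, comm 0 i j = true := by decide +kernel

theorem pair_table : ∀ i ∈ aL, i ∈ aA → mul 0 54 i ∈ aA → i = 3 ∨ i = 57 := by decide +kernel

theorem sL_aA_center : (54 : Ix) ∈ aA ∧ (3 : Ix) ∈ aA ∧ mul 0 54 3 ∈ aA ∧ (39 : Ix) ∈ tA ∧ (39 : Ix) ∉ aL ∧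
    mul 0 39 39 = 54 ∧ cj 0 39 3 = 57 ∧ (3 : Ix) ∈ aL ∧ (54 : Ix) ∈ aL := by decide +kernel

/-- Conjugating by an element fusing `z` into the coset of `z` modulo the four-group. -/
theorem coset_table : ∀ x ∈ zM, ∀ i ∈ aL, i ∈ vL ∨ (∃ v ∈ vL, i = mul 0 x v) ∨
    ((∀ v ∈ vL, i ≠ mul 0 x v) ∧ i ∉ vL) := by decide +kernel

theorem aL_cosets : ∀ i ∈ aL, i ∈ vL ∨
    ((∃ v ∈ vL, i = mul 0 96 v) ∨ (∃ v ∈ vL, i = mul 0 105 v) ∨ ∃ v ∈ vL, i = mul 0 (mul 0 96 105) v) := by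
  decide +kernel

theorem reps : ∀ i ∈ aL, i ∈ vL ∨ ∃ x ∈ zM, ∃ v ∈ vL, i = mul 0 x v := by decide +kernel

variable {G : Type*} [Group G]

/-- The centralizer of `a`. -/
def CA (F : Frame 0 G) : Subgroup G := Subgroup.centralizer ({F.f 54} : Set G)

/-- The abelian subgroup of order sixteen. -/
def M16 (F : Frame 0 G) : Subgroup G := sub F aL aL_closed

theorem f_mem_CA {F : Frame 0 G} {i : Ix} (hi : i ∈ tA) : F.f i ∈ CA F :=
  Subgroup.mem_centralizer_singleton_iff.2 (F.commute_iff.2 ((tA_spec i).2 hi))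

theorem mem_CA_iff {F : Frame 0 G} {x : G} : x ∈ CA F ↔ x * F.f 54 = F.f 54 * x :=
  Subgroup.mem_centralizer_singleton_iff

/-- The kernel of a transfer into the quotient by an elementary abelian subgroup of index two. -/
theorem exists_kernel {C : Type*} [Group C] [Finite C] (S : Sylow 2 C) (Q : Subgroup (S : Subgroup C))
    (hQ : Q.index = 2) {u : C} (hu : orderOf u = 2 ^ 2) (huS : u ∈ (S : Subgroup C))
    (hexp : ∀ x ∈ Q, x * x = 1)
    (hu2 : ∀ (c : C), c⁻¹ * u ^ 2 * c = u ^ 2) :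
    ∃ K : Subgroup C, K.Normal ∧ K.index = 2 ∧ u ∉ K ∧ ∀ q : C, q * q = 1 →
      (∀ (c : C) (h : c⁻¹ * q * c ∈ (S : Subgroup C)), (⟨_, h⟩ : (S : Subgroup C)) ∈ Q) → q ∈ K := by
  haveI : Fact (Nat.Prime 2) := ⟨Nat.prime_two⟩
  haveI : Q.Normal := Subgroup.normal_of_index_eq_two hQ
  haveI : IsCyclic ((S : Subgroup C) ⧸ Q) := isCyclic_of_prime_card (p := 2) hQ
  letI : CommGroup ((S : Subgroup C) ⧸ Q) := IsCyclic.commGroup
  have hker : ∀ x : (S : Subgroup C), QuotientGroup.mk' Q x = 1 ↔ x ∈ Q := fun x =>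
    QuotientGroup.eq_one_iff x
  have hnQ : ∀ x : (S : Subgroup C), orderOf x = 4 → x ∉ Q := fun x hx hxQ => by
    have := orderOf_dvd_of_pow_eq_one (show x ^ 2 = 1 by rw [pow_two]; exact hexp x hxQ)
    rw [hx] at this; omega
  have hord : ∀ (c : C) (h : c⁻¹ * u * c ∈ (S : Subgroup C)),
      orderOf (⟨_, h⟩ : (S : Subgroup C)) = 4 := fun c h => by
    rw [Subgroup.orderOf_mk, show c⁻¹ * u * c = MulAut.conj c⁻¹ u by simp, MulEquiv.orderOf_eq, hu]
    norm_num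
  have huQ : (⟨u, huS⟩ : (S : Subgroup C)) ∉ Q := hnQ _ (by rw [Subgroup.orderOf_mk, hu]; norm_num)
  have hne : MonoidHom.transfer (QuotientGroup.mk' Q) u ≠ 1 := by
    refine TransferThompson.transfer_ne_one S (S.isPGroup'.to_quotient Q) _ huS
      (fun h => huQ ((hker _).1 h)) (fun c k hk h => ?_) (fun c h => ?_)
    · refine (hker _).2 ?_
      obtain ⟨j, rfl⟩ := hk
      have e : (⟨_, h⟩ : (S : Subgroup C)) = (⟨u ^ 2, Subgroup.pow_mem _ huS 2⟩ : (S : Subgroup C)) ^ j := by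
        refine Subtype.ext ?_
        show c⁻¹ * u ^ (2 * j) * c = (u ^ 2) ^ j
        calc c⁻¹ * u ^ (2 * j) * c = c⁻¹ * (u ^ 2) ^ j * c⁻¹⁻¹ := by rw [pow_mul, inv_inv]
          _ = _ := by rw [← conj_pow, inv_inv, hu2]
      rw [e]
      refine Subgroup.pow_mem _ ?_ j
      have := Subgroup.mul_self_mem_of_index_two hQ (⟨u, huS⟩ : (S : Subgroup C))
      convert this using 1
      exact Subtype.ext (pow_two u)
    · exact QuotientGroup.eq.2 ((Subgroup.mul_mem_iff_of_index_two hQ).2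
        (iff_of_false (fun h' => hnQ _ (hord c h) (inv_mem_iff.1 h')) huQ))
  refine ⟨(MonoidHom.transfer (QuotientGroup.mk' Q)).ker, inferInstance, ?_, fun h => hne h,
    fun q hq hall => ?_⟩
  · haveI : Fact (Nat.card ((S : Subgroup C) ⧸ Q)).Prime :=
      ⟨by rw [show Nat.card ((S : Subgroup C) ⧸ Q) = 2 from hQ]; exact Nat.prime_two⟩
    rcases (MonoidHom.transfer (QuotientGroup.mk' Q)).range.eq_bot_or_eq_top_of_prime_card with h | h
    · exact absurd (Subgroup.mem_bot.1 (h ▸ (⟨u, rfl⟩ : _ ∈ (MonoidHom.transfer (QuotientGroup.mk' Q)).range))) hne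
    · rw [Subgroup.index_ker, h, Subgroup.card_top]; exact hQ
  · have h2 : ∀ j : ℕ, q ^ (2 * j) = 1 := fun j => by rw [pow_mul, pow_two, hq, one_pow]
    obtain ⟨e, he⟩ : ∃ e, orderOf q = 2 ^ e := by
      obtain ⟨i, -, hi⟩ := (Nat.dvd_prime_pow Nat.prime_two).1
        (orderOf_dvd_of_pow_eq_one (show q ^ 2 ^ 1 = 1 by rw [pow_one, pow_two, hq]))
      exact ⟨i, hi⟩
    obtain ⟨n, -, hV⟩ := TransferThompson.transfer_eq_pow_fixed (QuotientGroup.mk' Q) he 1
      (fun c k hk h => by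
        obtain ⟨j, rfl⟩ := hk
        rw [show (⟨_, h⟩ : (S : Subgroup C)) = 1 from Subtype.ext (by
          show c⁻¹ * q ^ (2 * j) * c = 1
          rw [h2, mul_one, inv_mul_cancel]), map_one])
      (fun c h => (hker _).2 (hall c h))
    rw [MonoidHom.mem_ker, hV, one_pow]

/-- The index two subgroup of the centralizer of `a`. -/
structure Half (F : Frame 0 G) where
  H : Subgroup G
  le : H ≤ CA F
  norm : ∀ c ∈ CA F, ∀ h ∈ H, c * h * c⁻¹ ∈ H
  card : 2 * Nat.card H = Nat.card (CA F)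
  zin : ∀ q ∈ CA F, IsConj F.z q → q ∈ H
  nu : F.f 39 ∉ H

variable [Finite G] {F : Frame 0 G} (g : Good F)
include g

theorem CA_sylow {R : Subgroup G} (hR : IsPGroup 2 R) (hRC : R ≤ CA F)
    (hle : sub F tA tA_closed ≤ R) : R = sub F tA tA_closed := by
  haveI : Fact (Nat.Prime 2) := ⟨Nat.prime_two⟩
  obtain ⟨d, hd⟩ := exists_conj_le (F := F) hR
  have hmap : R.map (MulAut.conj d).toMonoidHom ≤ sub F sL sL_closed := by
    rintro _ ⟨x, hx, rfl⟩; exact hd x hx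
  have hcR : Nat.card (R.map (MulAut.conj d).toMonoidHom) = Nat.card R :=
    Subgroup.card_map_of_injective (MulAut.conj d).injective
  have hS : Nat.card (sub F sL sL_closed) = 64 := card_sub F sL sL_closed (by decide +kernel)
  have hT : Nat.card (sub F tA tA_closed) = 32 := card_sub F tA tA_closed (by decide +kernel)
  obtain ⟨n, hn⟩ := IsPGroup.iff_card.1 hR
  have h32 : 32 ≤ Nat.card R := hT ▸ Subgroup.card_le_of_le hle
  have h64 : Nat.card R ≤ 64 := hS ▸ hcR ▸ Subgroup.card_le_of_le hmap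
  refine (Subgroup.eq_of_le_of_card_ge hle ?_).symm
  rw [hT]
  by_contra hlt
  have hn6 : Nat.card R = 64 := by
    have a : 2 ^ 5 < 2 ^ n := by rw [← hn]; omega
    have b : 2 ^ n ≤ 2 ^ 6 := by rw [← hn]; exact h64
    have := (Nat.pow_lt_pow_iff_right one_lt_two).1 a
    have := (Nat.pow_le_pow_iff_right one_lt_two).1 b
    rw [hn, show n = 6 by omega]
    norm_num
  have heq := Subgroup.eq_of_le_of_card_ge hmap (by rw [hcR, hn6, hS])
  have h54 : F.f 54 ∈ R := hle (f_mem_sub.2 (by decide))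
  obtain ⟨i, hi, hie⟩ := hd _ h54
  have hz : i = zI := by
    refine (sL_center i hi fun j hj => F.commute_iff.1 ?_).resolve_left fun h => ?_
    · obtain ⟨x, hx, hxe⟩ := (heq.symm ▸ f_mem_sub.2 hj : F.f j ∈ R.map (MulAut.conj d).toMonoidHom)
      rw [← hxe, hie]
      show d * F.f 54 * d⁻¹ * (d * x * d⁻¹) = d * x * d⁻¹ * (d * F.f 54 * d⁻¹)
      calc _ = d * (F.f 54 * x) * d⁻¹ := by group
        _ = d * (x * F.f 54) * d⁻¹ := by rw [mem_CA_iff.1 (hRC hx)]
        _ = _ := by group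
    · rw [h, F.map_one, eq_comm, conj_eq_one_iff, F.eq_one_iff] at hie
      exact absurd hie (by decide)
  rw [hz] at hie
  exact not_conj_za g (isConj_iff.2 ⟨d, hie.symm⟩).symm

theorem exists_half : Nonempty (Half F) := by
  classical
  haveI : Fact (Nat.Prime 2) := ⟨Nat.prime_two⟩
  have hTC : sub F tA tA_closed ≤ CA F := fun x ⟨i, hi, e⟩ => e ▸ f_mem_CA hi
  obtain ⟨S, hS⟩ : ∃ S : Sylow 2 (CA F), ∀ x : CA F,
      x ∈ (S : Subgroup (CA F)) ↔ ∃ i ∈ tA, F.f i = (x : G) := by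
    refine ⟨{ toSubgroup := (sub F tA tA_closed).subgroupOf (CA F)
              isPGroup' := (IsPGroup.of_card (n := 5) (card_sub F tA tA_closed (by decide +kernel)) :
                IsPGroup 2 (sub F tA tA_closed)).comap_subtype
              is_maximal' := fun {R} hR hle => ?_ }, fun x => Iff.rfl⟩
    have h := CA_sylow g (hR.map (CA F).subtype) (Subgroup.map_subtype_le R)
      (fun x hx => ⟨⟨x, hTC hx⟩, hle (Subgroup.mem_subgroupOf.2 hx), rfl⟩)
    ext x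
    refine ⟨fun hx => Subgroup.mem_subgroupOf.2 ?_, fun hx => hle hx⟩
    rw [← h]; exact ⟨x, hx, rfl⟩
  obtain ⟨ha, -, -, h39, h39n, h39sq, -, -, h54⟩ := sL_aA_center
  have hcS : Nat.card (S : Subgroup (CA F)) = 32 := by
    rw [show (S : Subgroup (CA F)) = (sub F tA tA_closed).subgroupOf (CA F) from Subgroup.ext hS,
      Nat.card_congr (Subgroup.subgroupOfEquivOfLe hTC).toEquiv]
    exact card_sub F tA tA_closed (by decide +kernel)
  have hQ : (((M16 F).subgroupOf (CA F)).subgroupOf (S : Subgroup (CA F))).index = 2 := by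
    have hMT : (M16 F).subgroupOf (CA F) ≤ (S : Subgroup (CA F)) := fun x hx => by
      obtain ⟨i, hi, e⟩ := Subgroup.mem_subgroupOf.1 hx
      exact (hS x).2 ⟨i, (aL_sq i hi).1, e⟩
    have h := (((M16 F).subgroupOf (CA F)).subgroupOf (S : Subgroup (CA F))).card_mul_index
    rw [hcS, Nat.card_congr (Subgroup.subgroupOfEquivOfLe hMT).toEquiv,
      Nat.card_congr (Subgroup.subgroupOfEquivOfLe
        (fun x ⟨i, hi, e⟩ => e ▸ f_mem_CA (aL_sq i hi).1 : M16 F ≤ CA F)).toEquiv,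
      show Nat.card (M16 F) = 16 from card_sub F aL aL_closed (by decide +kernel)] at h
    omega
  have h54sq : F.f 54 * F.f 54 = 1 := F.sq_eq_one_iff.2 (invol_facts.1 54 ha).1
  obtain ⟨u, hu⟩ : ∃ u : CA F, (u : G) = F.f 39 := ⟨⟨_, f_mem_CA h39⟩, rfl⟩
  have hu2 : ((u ^ 2 : CA F) : G) = F.f 54 := by
    simp only [Subgroup.coe_pow, hu]; rw [pow_two, ← F.map_mul, h39sq]
  have hu4 : orderOf u = 2 ^ 2 := by
    refine orderOf_eq_prime_pow (p := 2) (n := 1) ?_ ?_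
    · rw [pow_one]; intro h
      rw [h, Subgroup.coe_one, eq_comm, F.eq_one_iff] at hu2
      exact absurd hu2 (by decide)
    · rw [show 2 ^ (1 + 1) = 2 * 2 by norm_num, pow_mul, pow_two (u ^ 2)]
      refine Subtype.ext ?_
      rw [Subgroup.coe_mul, hu2, Subgroup.coe_one, h54sq]
  obtain ⟨K, hKn, hKi, huK, hK⟩ := exists_kernel S _ hQ hu4 ((hS u).2 ⟨39, h39, hu.symm⟩) (fun x hx => by
      obtain ⟨i, hi, e⟩ := (hx : ((x : CA F) : G) ∈ M16 F)
      refine Subtype.ext (Subtype.ext ?_)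
      rw [Subgroup.coe_mul, Subgroup.coe_mul, show ((x : CA F) : G) = F.f i from e.symm]
      exact F.sq_eq_one_iff.2 (aL_sq i hi).2) (fun c => by
      refine Subtype.ext ?_
      rw [Subgroup.coe_mul, Subgroup.coe_mul, Subgroup.coe_inv, hu2, mul_assoc, ← mem_CA_iff.1 c.2,
        inv_mul_cancel_left])
  refine ⟨⟨K.map (CA F).subtype, Subgroup.map_subtype_le _, ?_, ?_, ?_, ?_⟩⟩
  · intro c hc x hx
    obtain ⟨h, hh, rfl⟩ := Subgroup.mem_map.1 hx
    exact Subgroup.mem_map.2 ⟨⟨c, hc⟩ * h * ⟨c, hc⟩⁻¹, hKn.conj_mem h hh _, by simp⟩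
  · rw [Subgroup.card_map_of_injective (CA F).subtype_injective, ← K.index_mul_card, hKi]
  · intro q hq hzq
    refine Subgroup.mem_map.2 ⟨⟨q, hq⟩, hK _ ?_ ?_, rfl⟩
    · obtain ⟨d, hd⟩ := isConj_iff.1 hzq
      refine Subtype.ext ?_
      show q * q = 1
      rw [← hd]
      calc d * F.z * d⁻¹ * (d * F.z * d⁻¹) = d * (F.z * F.z) * d⁻¹ := by group
        _ = 1 := by rw [F.z_sq]; group
    · intro c h
      obtain ⟨i, hi, hie⟩ := (hS _).1 h
      show ((c⁻¹ * ⟨q, hq⟩ * c : CA F) : G) ∈ M16 F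
      refine ⟨i, z_in_aL i hi ((conj_z_iff g).1 (hzq.trans (isConj_iff.2 ⟨(c : G)⁻¹, ?_⟩))), hie⟩
      rw [hie]; simp
  · intro h
    obtain ⟨y, hy, e⟩ := Subgroup.mem_map.1 h
    rw [show y = u from Subtype.ext (e.trans hu.symm)] at hy
    exact huK hy

variable (hf : Half F)
omit g

theorem Half.mul_iff {x y : G} (hx : x ∈ CA F) (hy : y ∈ CA F) : x * y ∈ hf.H ↔ (x ∈ hf.H ↔ y ∈ hf.H) := by
  have hi : (hf.H.subgroupOf (CA F)).index = 2 := by
    have h := (hf.H.subgroupOf (CA F)).index_mul_card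
    rw [Nat.card_congr (Subgroup.subgroupOfEquivOfLe hf.le).toEquiv, ← hf.card] at h
    exact Nat.eq_of_mul_eq_mul_right Nat.card_pos h
  exact Subgroup.mul_mem_iff_of_index_two hi (a := ⟨x, hx⟩) (b := ⟨y, hy⟩)

include g

theorem Half.mem_iff {i : Ix} (hi : i ∈ tA) : F.f i ∈ hf.H ↔ i ∈ aL := by
  have hzm : ∀ x ∈ zM, F.f x ∈ hf.H := fun x hx =>
    hf.zin _ (f_mem_CA (aL_sq x (zM_sub x hx).1).1) (conj_z g (zM_sub x hx).2)
  have hle : ∀ j ∈ aL, F.f j ∈ hf.H := by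
    intro j hj
    rcases aL_gen j hj with rfl | ⟨x, hx, rfl | ⟨y, hy, rfl⟩⟩
    · rw [F.map_one]; exact one_mem _
    · exact hzm _ hx
    · rw [F.map_mul]; exact mul_mem (hzm x hx) (hzm y hy)
  refine ⟨fun h => ?_, hle i⟩
  rcases tA_split i hi with h' | ⟨j, hj, rfl⟩
  · exact h'
  · rw [F.map_mul] at h
    exact absurd ((hf.mul_iff (f_mem_CA sL_aA_center.2.2.2.1) (hf.le (hle j hj))).1 h).2
      fun h' => hf.nu (h' (hle j hj))

theorem Half.M_le : M16 F ≤ hf.H := fun x ⟨i, hi, e⟩ => e ▸ (hf.mem_iff g (aL_sq i hi).1).2 hi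

theorem Half.two_group_le {R : Subgroup G} (hR : IsPGroup 2 R) (hRH : R ≤ hf.H) (hle : M16 F ≤ R) :
    R = M16 F := by
  classical
  haveI : Fact (Nat.Prime 2) := ⟨Nat.prime_two⟩
  have hM : Nat.card (M16 F) = 16 := card_sub F aL aL_closed (by decide +kernel)
  refine (Subgroup.eq_of_le_of_card_ge hle ?_).symm
  rw [hM]
  by_contra hlt
  obtain ⟨n, hn⟩ := IsPGroup.iff_card.1 hR
  have h32 : 32 ∣ Nat.card R := by
    have : 2 ^ 4 < 2 ^ n := by rw [← hn]; omega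
    have := (Nat.pow_lt_pow_iff_right one_lt_two).1 this
    rw [hn]
    exact (show 2 ^ 5 ∣ 2 ^ n from pow_dvd_pow 2 (by omega))
  have h64 : 64 ∣ Nat.card (CA F) := by
    rw [← hf.card, show 64 = 2 * 32 by norm_num]
    exact Nat.mul_dvd_mul_left 2 (h32.trans (Subgroup.card_dvd_of_le hRH))
  obtain ⟨P, hP⟩ := Sylow.exists_subgroup_card_pow_prime 2 (n := 6) (G := CA F) (by simpa using h64)
  obtain ⟨Q, hQ⟩ := (IsPGroup.of_card (n := 5) (card_sub F tA tA_closed (by decide +kernel)) :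
    IsPGroup 2 (sub F tA tA_closed)).comap_subtype (K := CA F) |>.exists_le_sylow
  have h := CA_sylow g (Q.isPGroup'.map (CA F).subtype) (Subgroup.map_subtype_le _)
    (fun x hx => ⟨⟨x, by obtain ⟨i, hi, rfl⟩ := hx; exact f_mem_CA hi⟩, hQ (Subgroup.mem_subgroupOf.2 hx), rfl⟩)
  have hQ32 : Nat.card (Q : Subgroup (CA F)) = 32 := by
    rw [← Subgroup.card_map_of_injective (CA F).subtype_injective, h]
    exact card_sub F tA tA_closed (by decide +kernel)
  have := Q.pow_dvd_card_of_pow_dvd_card (n := 6) (by simpa using h64)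
  rw [hQ32] at this
  norm_num at this

theorem two_el {x q : G} (hx : x ∈ CA F) (hq : q ∈ CA F) (hzq : IsConj F.z q)
    (hxq : x * q = q * x) : x ^ 8 = 1 :=
  pow_eight g (IsConj.refl _) hzq (mem_CA_iff.1 hq).symm (mem_CA_iff.1 hx) hxq

theorem Half.cent_z {i : Ix} (hi : i ∈ zM) {x : G} (hx : x ∈ hf.H)
    (hc : x * F.f i = F.f i * x) : x ∈ M16 F := by
  haveI : Fact (Nat.Prime 2) := ⟨Nat.prime_two⟩
  set K := hf.H ⊓ Subgroup.centralizer ({F.f i} : Set G) with hK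
  have hp : IsPGroup 2 K := fun y => ⟨3, Subtype.ext (two_el g (hf.le y.2.1)
    (f_mem_CA (aL_sq i (zM_sub i hi).1).1) (conj_z g (zM_sub i hi).2)
    (Subgroup.mem_centralizer_singleton_iff.1 y.2.2))⟩
  have := hf.two_group_le g hp inf_le_left fun y hy => ⟨hf.M_le g hy, by
    obtain ⟨j, hj, rfl⟩ := hy
    exact Subgroup.mem_centralizer_singleton_iff.2
      (F.commute_iff.2 (aL_comm j hj i (zM_sub i hi).1))⟩
  exact this ▸ ⟨hx, Subgroup.mem_centralizer_singleton_iff.2 hc⟩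

theorem Half.oddCore_eq_bot : Cfsg.pPrimeCore 2 hf.H = ⊥ := by
  haveI : Fact (Nat.Prime 2) := ⟨Nat.prime_two⟩
  haveI : (Cfsg.pPrimeCore 2 hf.H).Normal := HallCore.pPrimeCore_normal 2 hf.H
  have hodd : Odd (Nat.card (Cfsg.pPrimeCore 2 hf.H)) := by
    rw [← Nat.not_even_iff_odd, even_iff_two_dvd]
    exact HallCore.not_dvd_card_pPrimeCore 2 hf.H
  obtain ⟨e, h96, h6, h102⟩ : mul 0 96 6 = 102 ∧ (96 : Ix) ∈ zM ∧ (6 : Ix) ∈ zM ∧ (102 : Ix) ∈ zM := by
    decide +kernel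
  have hm : ∀ i ∈ zM, F.f i ∈ hf.H := fun i hi => hf.M_le g (f_mem_sub.2 (zM_sub i hi).1)
  have hsq : ∀ i ∈ zM, F.f i * F.f i = 1 := fun i hi =>
    F.sq_eq_one_iff.2 (aL_sq i (zM_sub i hi).1).2
  have hfree : ∀ i ∈ zM, ∀ k ∈ Cfsg.pPrimeCore 2 hf.H, F.f i * (k : G) = (k : G) * F.f i → k = 1 := by
    intro i hi k hk hc
    have h8 := two_el g (hf.le k.2) (hf.le (hm i hi)) (conj_z g (zM_sub i hi).2) hc.symm
    have h2 : orderOf k ∣ 2 ^ 3 := by
      rw [← Subgroup.orderOf_coe]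
      exact orderOf_dvd_of_pow_eq_one (by simpa using h8)
    have h3 : orderOf k ∣ Nat.card (Cfsg.pPrimeCore 2 hf.H) := by
      rw [← Subgroup.orderOf_mk k hk]; exact orderOf_dvd_natCard _
    exact orderOf_eq_one_iff.1 (Nat.eq_one_of_dvd_coprimes
      (Nat.Coprime.pow_left 3 (Nat.coprime_two_left.2 hodd)) h2 h3)
  refine KleinSelfCent.eq_bot_of_four _ hodd
    (a := (⟨F.f 96, hm 96 h96⟩ : hf.H)) (b := ⟨F.f 6, hm 6 h6⟩)
    (Subtype.ext (hsq 96 h96)) (Subtype.ext (hsq 6 h6))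
    (Subtype.ext (F.commute_iff.2 (aL_comm 96 (zM_sub 96 h96).1 6 (zM_sub 6 h6).1))) ?_
  intro w hw k hk hc
  have hc' := congrArg Subtype.val hc.eq
  rcases hw with rfl | rfl | rfl
  · exact hfree 96 h96 k hk hc'
  · exact hfree 6 h6 k hk hc'
  · refine hfree 102 h102 k hk ?_
    rw [← e, F.map_mul]
    exact hc'

/-- The Sylow 2-subgroup of the half. -/
theorem Half.exists_sylow : ∃ S : Sylow 2 hf.H, ∀ x : hf.H, x ∈ (S : Subgroup hf.H) ↔ (x : G) ∈ M16 F := by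
  have hM : Nat.card (M16 F) = 16 := card_sub F aL aL_closed (by decide +kernel)
  refine ⟨{ toSubgroup := (M16 F).subgroupOf hf.H
            isPGroup' := (IsPGroup.of_card (n := 4) hM : IsPGroup 2 (M16 F)).comap_subtype
            is_maximal' := fun {R} hR hle => ?_ }, fun x => Iff.rfl⟩
  have h := hf.two_group_le g (hR.map hf.H.subtype) (Subgroup.map_subtype_le R)
    (fun x hx => ⟨⟨x, hf.M_le g hx⟩, hle (Subgroup.mem_subgroupOf.2 hx), rfl⟩)
  ext x
  refine ⟨fun hx => Subgroup.mem_subgroupOf.2 ?_, fun hx => hle hx⟩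
  rw [← h]; exact ⟨x, hx, rfl⟩

/-- Conjugates of `f 3` in `M16` under the centralizer of `a`. -/
theorem pair_conj {c : G} (hc : c ∈ CA F) (hm : c * F.f 3 * c⁻¹ ∈ M16 F) :
    c * F.f 3 * c⁻¹ = F.f 3 ∨ c * F.f 3 * c⁻¹ = F.f 57 := by
  obtain ⟨i, hi, hie⟩ := hm
  obtain ⟨ha54, ha3, ha543, -⟩ := sL_aA_center
  have h1 : i ∈ aA := (conj_a_iff g).1 ((conj_a g ha3).trans (isConj_iff.2 ⟨c, hie.symm⟩))
  have h2 : mul 0 54 i ∈ aA := (conj_a_iff g).1 ((conj_a g ha543).trans (isConj_iff.2 ⟨c, ?_⟩))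
  · rcases pair_table i hi h1 h2 with rfl | rfl
    · exact Or.inl hie.symm
    · exact Or.inr hie.symm
  · rw [F.map_mul, F.map_mul, hie]
    calc c * (F.f 54 * F.f 3) * c⁻¹ = (c * F.f 54) * F.f 3 * c⁻¹ := by group
      _ = F.f 54 * (c * F.f 3 * c⁻¹) := by rw [mem_CA_iff.1 hc]; group

theorem Half.three_mem : F.f 3 ∈ hf.H := hf.M_le g (f_mem_sub.2 (by decide))

/-- An element of the half normalizing `M16` centralizes `f 3`. -/
theorem Half.norm_fix {n : G} (hn : n ∈ hf.H) (hnM : ∀ x, x ∈ M16 F ↔ n * x * n⁻¹ ∈ M16 F) :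
    n * F.f 3 * n⁻¹ = F.f 3 := by
  classical
  haveI : Fact (Nat.Prime 2) := ⟨Nat.prime_two⟩
  rcases pair_conj g (hf.le hn) ((hnM _).1 (f_mem_sub.2 (by decide))) with h | h
  · exact h
  exfalso
  obtain ⟨k, l, hl, hkl⟩ := Nat.exists_eq_two_pow_mul_odd (orderOf_pos n).ne'
  obtain ⟨j, rfl⟩ := hl
  -- the square fixes `f 3`
  have e54 : mul 0 54 3 = 57 ∧ mul 0 54 57 = 3 := by decide +kernel
  have hsq : n ^ 2 * F.f 3 * (n ^ 2)⁻¹ = F.f 3 := by
    calc n ^ 2 * F.f 3 * (n ^ 2)⁻¹ = n * (n * F.f 3 * n⁻¹) * n⁻¹ := by rw [pow_two]; group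
      _ = n * (F.f 54 * F.f 3) * n⁻¹ := by rw [h, ← F.map_mul, e54.1]
      _ = (n * F.f 54) * F.f 3 * n⁻¹ := by group
      _ = F.f 54 * (n * F.f 3 * n⁻¹) := by rw [mem_CA_iff.1 (hf.le hn)]; group
      _ = F.f 3 := by rw [h, ← F.map_mul, e54.2]
  have hodd : ∀ i : ℕ, n ^ (2 * i + 1) * F.f 3 * (n ^ (2 * i + 1))⁻¹ = F.f 57 := by
    intro i
    induction i with
    | zero => simpa using h
    | succ i ih =>
      calc n ^ (2 * (i + 1) + 1) * F.f 3 * (n ^ (2 * (i + 1) + 1))⁻¹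
          = n ^ (2 * i + 1) * (n ^ 2 * F.f 3 * (n ^ 2)⁻¹) * (n ^ (2 * i + 1))⁻¹ := by
            rw [show 2 * (i + 1) + 1 = (2 * i + 1) + 2 by ring, pow_add]; group
        _ = _ := by rw [hsq, ih]
  set w := n ^ (2 * j + 1) with hw
  have hw2 : w ^ 2 ^ k = 1 := by rw [hw, ← pow_mul, mul_comm, ← hkl, pow_orderOf_eq_one]
  have hwN : w ∈ Subgroup.normalizer (M16 F : Set G) :=
    Subgroup.pow_mem _ (Subgroup.mem_normalizer_iff.2 hnM) _
  have hup : IsPGroup 2 (Subgroup.zpowers w) := by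
    obtain ⟨i, -, hi⟩ := (Nat.dvd_prime_pow Nat.prime_two).1 (orderOf_dvd_of_pow_eq_one hw2)
    exact IsPGroup.of_card (n := i) (by rw [Nat.card_zpowers, hi])
  have hM : IsPGroup 2 (M16 F) :=
    IsPGroup.of_card (n := 4) (card_sub F aL aL_closed (by decide +kernel))
  have hsup := hup.to_sup_of_normal_right' hM (Subgroup.zpowers_le.2 hwN)
  have heq := hf.two_group_le g hsup (sup_le (Subgroup.zpowers_le.2 (Subgroup.pow_mem _ hn _))
    (hf.M_le g)) le_sup_right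
  obtain ⟨i, hi, hie⟩ : w ∈ M16 F := heq ▸ Subgroup.mem_sup_left (Subgroup.mem_zpowers w)
  have h1 := hodd j
  rw [← hw, ← hie, F.commute_iff.2 (aL_comm i hi 3 (by decide)), mul_inv_cancel_right, F.eq_iff] at h1
  exact absurd h1 (by decide)

/-- In the half, `f 3` is central. -/
theorem Half.three_central {h : G} (hh : h ∈ hf.H) : h * F.f 3 = F.f 3 * h := by
  classical
  haveI : Fact (Nat.Prime 2) := ⟨Nat.prime_two⟩
  obtain ⟨S, hS⟩ := hf.exists_sylow g
  set t : hf.H := ⟨F.f 3, hf.three_mem g⟩ with ht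
  have htS : t ∈ (S : Subgroup hf.H) := (hS t).2 (f_mem_sub.2 (by decide))
  haveI : IsMulCommutative (S : Subgroup hf.H) := ⟨⟨fun x y => by
    obtain ⟨i, hi, ei⟩ := (hS x.1).1 x.2
    obtain ⟨j, hj, ej⟩ := (hS y.1).1 y.2
    refine Subtype.ext (Subtype.ext ?_)
    show ((x : hf.H) : G) * ((y : hf.H) : G) = ((y : hf.H) : G) * ((x : hf.H) : G)
    rw [← ei, ← ej]
    exact F.commute_iff.2 (aL_comm i hi j hj)⟩⟩
  have h3 : F.f 3 * F.f 3 = 1 := F.sq_eq_one_iff.2 (by decide +kernel)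
  have hto : orderOf t = 2 := by
    rw [Subgroup.orderOf_mk]
    exact orderOf_eq_prime (by rw [pow_two, h3]) fun h => absurd (F.eq_one_iff.1 h) (by decide)
  have fix : ∀ d : hf.H, d * t * d⁻¹ ∈ (S : Subgroup hf.H) → d * t * d⁻¹ = t := by
    intro d hd
    obtain ⟨n, hn, hne⟩ := S.conj_eq_normalizer_conj_of_mem t d⁻¹ htS (show d⁻¹⁻¹ * t * d⁻¹ ∈ (S : Subgroup hf.H) by rwa [inv_inv])
    have h2 := hf.norm_fix g (n := ((n : hf.H)⁻¹ : hf.H)) (n⁻¹).2 fun x => by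
      refine ⟨fun hx => ?_, fun hx => ?_⟩
      · have := (Subgroup.mem_normalizer_iff.1 (inv_mem hn) ⟨x, hf.M_le g hx⟩).1 ((hS _).2 hx)
        simpa using (hS _).1 this
      · have hxH : x ∈ hf.H := by
          have h' := hf.H.mul_mem (hf.H.mul_mem n.2 (hf.M_le g hx)) (hf.H.inv_mem n.2)
          simpa [mul_assoc] using h'
        exact (hS ⟨x, hxH⟩).1 ((Subgroup.mem_normalizer_iff.1 (inv_mem hn) ⟨x, hxH⟩).2
          ((hS _).2 (by simpa using hx)))
    refine Subtype.ext ?_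
    have e : d * t * d⁻¹ = n⁻¹ * t * n := by simpa using hne
    rw [e]
    simpa using h2
  have hiso : Cfsg.IsIsolatedInvolution t := by
    refine ⟨hto, fun d hc => ?_⟩
    set y := d * t * d⁻¹ with hy
    have hyo : orderOf y = 2 := by
      rw [hy, show d * t * d⁻¹ = MulAut.conj d t from rfl, MulEquiv.orderOf_eq, hto]
    have hyN : Subgroup.zpowers y ≤ Subgroup.normalizer (Subgroup.zpowers t : Set hf.H) := by
      refine Subgroup.zpowers_le.2 (Subgroup.mem_normalizer_iff.2 fun x => ?_)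
      have key : ∀ x, x ∈ Subgroup.zpowers t → y * x * y⁻¹ = x := fun x hx => by
        obtain ⟨i, rfl⟩ := hx
        show y * t ^ i * y⁻¹ = t ^ i
        rw [(hc.symm.zpow_right i).eq, mul_inv_cancel_right]
      refine ⟨fun hx => (key x hx).symm ▸ hx, fun hx => ?_⟩
      have h2 := key _ hx
      rw [mul_left_inj, mul_right_inj] at h2
      rwa [← h2]
    have hp := (IsPGroup.of_card (n := 1) (by rw [Nat.card_zpowers, hyo]; norm_num) :
        IsPGroup 2 (Subgroup.zpowers y)).to_sup_of_normal_right'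
      (IsPGroup.of_card (n := 1) (by rw [Nat.card_zpowers, hto]; norm_num) :
        IsPGroup 2 (Subgroup.zpowers t)) hyN
    obtain ⟨R, hR⟩ := hp.exists_le_sylow
    obtain ⟨e, he⟩ := MulAction.exists_smul_eq hf.H R S
    have hmem : ∀ x ∈ Subgroup.zpowers y ⊔ Subgroup.zpowers t, e * x * e⁻¹ ∈ (S : Subgroup hf.H) := by
      intro x hx
      rw [← he, Sylow.coe_subgroup_smul]
      exact ⟨x, hR hx, rfl⟩
    have e1 := fix e (hmem t (Subgroup.mem_sup_right (Subgroup.mem_zpowers t)))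
    have h4 := hmem y (Subgroup.mem_sup_left (Subgroup.mem_zpowers y))
    have e3 : e * y * e⁻¹ = (e * d) * t * (e * d)⁻¹ := by rw [hy]; group
    rw [e3] at h4
    have e2 := fix (e * d) h4
    rw [← e3, ← e1, mul_left_inj, mul_right_inj] at e2
    exact e2
  have hcm := ZStarTheorem.commutator_mem hiso ⟨h, hh⟩
  rw [hf.oddCore_eq_bot g, Subgroup.mem_bot] at hcm
  have h5 := congrArg Subtype.val hcm
  simp only [ht, Subgroup.coe_mul, Subgroup.coe_inv, Subgroup.coe_one] at h5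
  rw [mul_inv_eq_one, mul_inv_eq_iff_eq_mul] at h5
  exact h5.symm

/-- The central four-group. -/
def V4 (F : Frame 0 G) : Subgroup G := sub F vL vL_closed

theorem Half.V4_le : V4 F ≤ hf.H := fun x ⟨i, hi, e⟩ =>
  hf.M_le g ⟨i, (by decide : ∀ i ∈ vL, i ∈ aL) i hi, e⟩

theorem Half.V4_central {h v : G} (hh : h ∈ hf.H) (hv : v ∈ V4 F) : h * v = v * h := by
  obtain ⟨i, hi, rfl⟩ := hv
  have h3 := hf.three_central g hh
  have h54 := mem_CA_iff.1 (hf.le hh)
  have e : (57 : Ix) = mul 0 54 3 := by decide +kernel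
  simp only [vL, List.mem_cons, List.not_mem_nil, or_false] at hi
  rcases hi with rfl | rfl | rfl | rfl
  · rw [F.map_one, mul_one, one_mul]
  · exact h3
  · exact h54
  · rw [e, F.map_mul]
    exact ((show Commute h (F.f 54) from h54).mul_right (show Commute h (F.f 3) from h3)).eq

include hf in
/-- The centralizer of `a` permutes `f 3` and `f 57`. -/
theorem Half.conj_three {c : G} (hc : c ∈ CA F) :
    c * F.f 3 * c⁻¹ = F.f 3 ∨ c * F.f 3 * c⁻¹ = F.f 57 := by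
  refine pair_conj g hc (hf.cent_z g (i := 96) (by decide) (hf.norm c hc _ (hf.three_mem g)) ?_)
  have h96 : F.f 96 ∈ hf.H := hf.M_le g (f_mem_sub.2 (by decide))
  have hc96 : c⁻¹ * F.f 96 * c ∈ hf.H := by
    simpa using hf.norm c⁻¹ ((CA F).inv_mem hc) _ h96
  have h := hf.three_central g hc96
  calc c * F.f 3 * c⁻¹ * F.f 96 = c * (F.f 3 * (c⁻¹ * F.f 96 * c)) * c⁻¹ := by group
    _ = c * ((c⁻¹ * F.f 96 * c) * F.f 3) * c⁻¹ := by rw [h]
    _ = F.f 96 * (c * F.f 3 * c⁻¹) := by group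

include hf in
theorem Half.V4_norm {c v : G} (hc : c ∈ CA F) (hv : v ∈ V4 F) : c * v * c⁻¹ ∈ V4 F := by
  obtain ⟨i, hi, rfl⟩ := hv
  have h54 : c * F.f 54 * c⁻¹ = F.f 54 := by rw [mem_CA_iff.1 hc, mul_inv_cancel_right]
  have h3 : c * F.f 3 * c⁻¹ ∈ V4 F := by
    rcases hf.conj_three g hc with h | h <;> rw [h] <;> exact f_mem_sub.2 (by decide)
  simp only [vL, List.mem_cons, List.not_mem_nil, or_false] at hi
  rcases hi with rfl | rfl | rfl | rfl
  · rw [F.map_one, mul_one, mul_inv_cancel]; exact one_mem _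
  · exact h3
  · rw [h54]; exact f_mem_sub.2 (by decide)
  · rw [show (57 : Ix) = mul 0 54 3 by decide +kernel, F.map_mul,
      show c * (F.f 54 * F.f 3) * c⁻¹ = (c * F.f 54 * c⁻¹) * (c * F.f 3 * c⁻¹) by group, h54]
    exact mul_mem (f_mem_sub.2 (by decide)) h3

/-- Modulo the four-group, the involutions of `M16` are self-centralizing in the half. -/
theorem Half.mem_M_of_comm_mod {i : Ix} (hi : i ∈ zM) {h : G} (hh : h ∈ hf.H)
    (hv : h * F.f i * h⁻¹ * F.f i ∈ V4 F) : h ∈ M16 F := by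
  haveI : Fact (Nat.Prime 2) := ⟨Nat.prime_two⟩
  have hii : F.f i * F.f i = 1 := F.sq_eq_one_iff.2 (aL_sq i (zM_sub i hi).1).2
  set v := h * F.f i * h⁻¹ * F.f i with hvdef
  have hi' : F.f i ∈ M16 F := f_mem_sub.2 (zM_sub i hi).1
  have hconj : h * F.f i * h⁻¹ = v * F.f i := by rw [hvdef, mul_assoc _ (F.f i) (F.f i), hii, mul_one]
  have hvv : v * v = 1 := by
    obtain ⟨j, hj, e⟩ := hv
    rw [← e, F.sq_eq_one_iff]
    exact (aL_sq j ((by decide : ∀ i ∈ vL, i ∈ aL) j hj)).2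
  have hcomm : h * v = v * h := hf.V4_central g hh hv
  have h2 : h ^ 2 * F.f i = F.f i * h ^ 2 := by
    rw [← mul_inv_eq_iff_eq_mul]
    calc h ^ 2 * F.f i * (h ^ 2)⁻¹ = h * (h * F.f i * h⁻¹) * h⁻¹ := by rw [pow_two]; group
      _ = (h * v) * F.f i * h⁻¹ := by rw [hconj]; group
      _ = v * (h * F.f i * h⁻¹) := by rw [hcomm]; group
      _ = _ := by rw [hconj, ← mul_assoc, hvv, one_mul]
  have hM2 : h ^ 2 ∈ M16 F := hf.cent_z g hi (pow_mem hh 2) h2
  have h4 : h ^ 4 = 1 := by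
    obtain ⟨j, hj, e⟩ := hM2
    rw [show 4 = 2 * 2 by norm_num, pow_mul, ← e, pow_two, F.sq_eq_one_iff]
    exact (aL_sq j hj).2
  have hN : h ∈ Subgroup.normalizer (M16 F : Set G) := by
    refine Subgroup.mem_normalizer_fintype ?_
    intro x hx
    refine hf.cent_z g hi (hf.H.mul_mem (hf.H.mul_mem hh (hf.M_le g hx)) (hf.H.inv_mem hh)) ?_
    obtain ⟨j, hj, e⟩ := hx
    have hxi : x * F.f i = F.f i * x := e ▸ F.commute_iff.2 (aL_comm j hj i (zM_sub i hi).1)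
    have hvx : x * v = v * x := hf.V4_central g (hf.M_le g ⟨j, hj, e⟩) hv
    have hvH : h * x * h⁻¹ * v = v * (h * x * h⁻¹) :=
      hf.V4_central g (hf.H.mul_mem (hf.H.mul_mem hh (hf.M_le g ⟨j, hj, e⟩)) (hf.H.inv_mem hh)) hv
    have e2 : h * x * h⁻¹ * (v * F.f i) = v * F.f i * (h * x * h⁻¹) := by
      rw [← hconj]
      calc h * x * h⁻¹ * (h * F.f i * h⁻¹) = h * (x * F.f i) * h⁻¹ := by group
        _ = h * (F.f i * x) * h⁻¹ := by rw [hxi]
        _ = _ := by group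
    calc h * x * h⁻¹ * F.f i = v * (v * (h * x * h⁻¹)) * F.f i := by rw [← mul_assoc, hvv, one_mul]
      _ = v * (h * x * h⁻¹ * (v * F.f i)) := by rw [← hvH]; group
      _ = v * v * F.f i * (h * x * h⁻¹) := by rw [e2]; group
      _ = _ := by rw [hvv, one_mul]
  have hup : IsPGroup 2 (Subgroup.zpowers h) := by
    obtain ⟨k, -, hk⟩ := (Nat.dvd_prime_pow Nat.prime_two).1
      (orderOf_dvd_of_pow_eq_one (show h ^ 2 ^ 2 = 1 by norm_num; exact h4))
    exact IsPGroup.of_card (n := k) (by rw [Nat.card_zpowers, hk])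
  have hM : IsPGroup 2 (M16 F) :=
    IsPGroup.of_card (n := 4) (card_sub F aL aL_closed (by decide +kernel))
  have heq := hf.two_group_le g (hup.to_sup_of_normal_right' hM (Subgroup.zpowers_le.2 hN))
    (sup_le (Subgroup.zpowers_le.2 hh) (hf.M_le g)) le_sup_right
  exact heq ▸ Subgroup.mem_sup_left (Subgroup.mem_zpowers h)

end Cfsg.Agent.AN39
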