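import Mathlib

/-!
# The order formula for a four-group acting on a group of odd order
-/

namespace Cfsg.Agent.FourFormula30

variable {M : Type*} [Group M]

/-- elements of `K` inverted by the involution `u` -/
def inverted (K : Subgroup M) (u : M) : Set M := {k | k ∈ K ∧ u * k * u = k⁻¹}

/-- centraliser of `u` in `K` -/
def cen (K : Subgroup M) (u : M) : Subgroup M := K ⊓ Subgroup.centralizer {u}

theorem mem_cen {K : Subgroup M} {u k : M} : k ∈ cen K u ↔ k ∈ K ∧ k * u = u * k := by
  rw [cen, Subgroup.mem_inf, Subgroup.mem_centralizer_singleton_iff]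

theorem commute_of_conj {u k : M} (hu : u * u = 1) (h : u * k * u = k) : k * u = u * k := by
  calc k * u = (u * k * u) * u := by rw [h]
    _ = u * k := by rw [mul_assoc, hu, mul_one]

theorem conj_of_commute {u k : M} (hu : u * u = 1) (h : k * u = u * k) : u * k * u = k := by
  rw [← h, mul_assoc, hu, mul_one]

/-- square root in a group of odd order `n` -/
def rt (n : ℕ) (x : M) : M := x ^ ((n + 1) / 2)

theorem rt_mem {K : Subgroup M} {x : M} (n : ℕ) (hx : x ∈ K) : rt n x ∈ K := K.pow_mem hx _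

theorem rt_sq {K : Subgroup M} [Finite K] (hK : Odd (Nat.card K)) {x : M} (hx : x ∈ K) :
    rt (Nat.card K) x * rt (Nat.card K) x = x := by
  obtain ⟨j, hj⟩ := hK
  rw [rt, ← pow_add, show (Nat.card K + 1) / 2 + (Nat.card K + 1) / 2 = Nat.card K + 1 by omega,
    pow_succ]
  have h1 : (⟨x, hx⟩ : K) ^ Nat.card K = 1 := pow_card_eq_one'
  have h2 : x ^ Nat.card K = 1 := congrArg Subtype.val h1
  rw [h2, one_mul]

theorem eq_of_sq_eq {K : Subgroup M} [Finite K] (hK : Odd (Nat.card K)) {x y : M} (hx : x ∈ K)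
    (hy : y ∈ K) (h : x * x = y * y) : x = y := by
  have e : ∀ z ∈ K, rt (Nat.card K) (z * z) = z := by
    intro z hz
    have h1 := rt_sq hK hz
    rw [rt] at h1 ⊢
    rw [← pow_two, ← pow_mul, mul_comm, pow_mul, pow_two, h1]
  rw [← e x hx, h, e y hy]

/-- conjugation by an involution commutes with `rt` -/
theorem conj_rt {u : M} (hu : u * u = 1) (n : ℕ) (x : M) :
    u * rt n x * u = rt n (u * x * u) := by
  have hinv : u⁻¹ = u := inv_eq_of_mul_eq_one_right hu
  have h := conj_pow (a := u) (b := x) (i := (n + 1) / 2)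
  rw [hinv] at h
  exact h.symm

theorem conj_mul {u : M} (hu : u * u = 1) (a b : M) :
    u * (a * b) * u = (u * a * u) * (u * b * u) := by
  calc u * (a * b) * u = u * a * (u * u) * b * u := by rw [hu]; group
    _ = _ := by group

theorem conj_inv {u : M} (hu : u * u = 1) (a : M) : u * a⁻¹ * u = (u * a * u)⁻¹ := by
  rw [mul_inv_rev, mul_inv_rev, inv_eq_of_mul_eq_one_right hu, mul_assoc]

theorem conj_conj {u : M} (hu : u * u = 1) (a : M) : u * (u * a * u) * u = a := by
  calc u * (u * a * u) * u = (u * u) * a * (u * u) := by group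
    _ = a := by rw [hu, one_mul, mul_one]

theorem card_split [Finite M] (K : Subgroup M) (hK : Odd (Nat.card K)) (u : M) (hu : u * u = 1)
    (hn : ∀ k ∈ K, u * k * u ∈ K) :
    Nat.card K = Nat.card (cen K u) * Nat.card (inverted K u) := by
  classical
  rw [← Nat.card_prod, Nat.card_congr (Equiv.prodComm _ _)]
  symm
  refine Nat.card_congr (Equiv.ofBijective
    (fun p : inverted K u × cen K u => (⟨p.1.1 * p.2.1, K.mul_mem p.1.2.1 (mem_cen.1 p.2.2).1⟩ : K))
    ⟨?_, ?_⟩)
  · rintro ⟨⟨i, hi⟩, ⟨c, hc⟩⟩ ⟨⟨i', hi'⟩, ⟨c', hc'⟩⟩ h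
    have h1 : i * c = i' * c' := congrArg Subtype.val h
    obtain ⟨hiK, hiu⟩ := hi
    obtain ⟨hiK', hiu'⟩ := hi'
    obtain ⟨hcK, hcu⟩ := mem_cen.1 hc
    obtain ⟨hcK', hcu'⟩ := mem_cen.1 hc'
    have h2 : i⁻¹ * c = i'⁻¹ * c' := by
      have := congrArg (fun z => u * z * u) h1
      simp only [conj_mul hu, hiu, hiu', conj_of_commute hu hcu, conj_of_commute hu hcu'] at this
      exact this
    have h3 : i * i = i' * i' := by
      calc i * i = (i * c) * (i⁻¹ * c)⁻¹ := by group
        _ = (i' * c') * (i'⁻¹ * c')⁻¹ := by rw [h1, h2]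
        _ = i' * i' := by group
    obtain rfl := eq_of_sq_eq hK hiK hiK' h3
    obtain rfl := mul_left_cancel h1
    rfl
  · rintro ⟨k, hk⟩
    set w := k * (u * k * u)⁻¹ with hw
    have hwK : w ∈ K := K.mul_mem hk (K.inv_mem (hn k hk))
    have hwu : u * w * u = w⁻¹ := by
      rw [hw, conj_mul hu, conj_inv hu, conj_conj hu, mul_inv_rev, inv_inv]
    set i := rt (Nat.card K) w with hi
    have hiK : i ∈ K := rt_mem _ hwK
    have hiu : u * i * u = i⁻¹ := by
      rw [hi, conj_rt hu, hwu, rt, rt, inv_pow]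
    have hii : i * i = w := rt_sq hK hwK
    refine ⟨⟨⟨i, hiK, hiu⟩, ⟨i⁻¹ * k, mem_cen.2 ⟨K.mul_mem (K.inv_mem hiK) hk, ?_⟩⟩⟩, ?_⟩
    · apply commute_of_conj hu
      rw [conj_mul hu, conj_inv hu, hiu, inv_inv]
      have : k = i * i * (u * k * u) := by rw [hii, hw, inv_mul_cancel_right]
      calc i * (u * k * u) = i⁻¹ * (i * i * (u * k * u)) := by group
        _ = i⁻¹ * k := by rw [← this]
    · exact Subtype.ext (mul_inv_cancel_left i k)

theorem cen_invariant {K : Subgroup M} {u v : M} (hv : v * v = 1) (huv : u * v = v * u)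
    (hn : ∀ k ∈ K, v * k * v ∈ K) : ∀ k ∈ cen K u, v * k * v ∈ cen K u := by
  intro k hk
  obtain ⟨h1, h2⟩ := mem_cen.1 hk
  refine mem_cen.2 ⟨hn k h1, ?_⟩
  calc v * k * v * u = v * k * (v * u) := by group
    _ = v * (k * u) * v := by rw [← huv]; group
    _ = (v * u) * k * v := by rw [h2]; group
    _ = u * (v * k * v) := by rw [← huv]; group

theorem four_formula [Finite M] (K : Subgroup M) (hK : Odd (Nat.card K)) (u v : M)
    (hu : u * u = 1) (hv : v * v = 1) (huv : u * v = v * u)
    (hnu : ∀ k ∈ K, u * k * u ∈ K) (hnv : ∀ k ∈ K, v * k * v ∈ K) :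
    Nat.card K * Nat.card (cen (cen K v) u) ^ 2 =
      Nat.card (cen K u) * Nat.card (cen K v) * Nat.card (cen K (u * v)) := by
  classical
  set w := u * v with hw
  have hww : w * w = 1 := by
    calc w * w = u * v * (v * u) := by rw [hw, ← huv]
      _ = u * (v * v) * u := by group
      _ = 1 := by rw [hv, mul_one, hu]
  have huw : u * w = w * u := by
    show u * (u * v) = (u * v) * u
    rw [mul_assoc u v u, ← huv]
  have hodd : ∀ L : Subgroup M, L ≤ K → Odd (Nat.card L) := fun L hL =>
    hK.of_dvd_nat (Subgroup.card_dvd_of_le hL)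
  have hsame : cen (cen K w) u = cen (cen K v) u := by
    ext k
    simp only [mem_cen, hw]
    constructor
    · rintro ⟨⟨h1, h2⟩, h3⟩
      refine ⟨⟨h1, ?_⟩, h3⟩
      have e : v = u * (u * v) := by rw [← mul_assoc, hu, one_mul]
      rw [e, ← mul_assoc, h3, mul_assoc, h2, ← mul_assoc]
    · rintro ⟨⟨h1, h2⟩, h3⟩
      exact ⟨⟨h1, by rw [← mul_assoc, h3, mul_assoc, h2, ← mul_assoc]⟩, h3⟩
  have hnw : ∀ k ∈ K, w * k * w ∈ K := by
    intro k hk
    have : w * k * w = u * (v * k * v) * u := by
      conv_lhs => rw [hw]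
      calc u * v * k * (u * v) = u * v * k * (v * u) := by rw [← huv]
        _ = _ := by group
    rw [this]
    exact hnu _ (hnv _ hk)
  have A := card_split K hK u hu hnu
  have B := card_split (cen K v) (hodd _ inf_le_left) u hu (cen_invariant hu huv.symm hnu)
  have C := card_split (cen K w) (hodd _ inf_le_left) u hu (cen_invariant hu huw.symm hnu)
  -- the bijection between products
  have D : Nat.card (inverted (cen K v) u × inverted (cen K w) u) = Nat.card (inverted K u) := by
    refine Nat.card_congr (Equiv.ofBijective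
      (fun p => (⟨p.1.1 * p.2.1 * p.1.1, ?_, ?_⟩ : inverted K u)) ⟨?_, ?_⟩)
    · exact K.mul_mem (K.mul_mem (mem_cen.1 p.1.2.1).1 (mem_cen.1 p.2.2.1).1) (mem_cen.1 p.1.2.1).1
    · rw [conj_mul hu, conj_mul hu, p.1.2.2, p.2.2.2]; group
    · rintro ⟨⟨x, hx⟩, ⟨y, hy⟩⟩ ⟨⟨x', hx'⟩, ⟨y', hy'⟩⟩ h
      have h1 : x * y * x = x' * y' * x' := congrArg Subtype.val h
      obtain ⟨hxc, hxu⟩ := hx
      obtain ⟨hxc', hxu'⟩ := hx'
      obtain ⟨hyc, hyu⟩ := hy
      obtain ⟨hyc', hyu'⟩ := hy'
      obtain ⟨hxK, hxv⟩ := mem_cen.1 hxc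
      obtain ⟨hxK', hxv'⟩ := mem_cen.1 hxc'
      obtain ⟨hyK, hyw⟩ := mem_cen.1 hyc
      obtain ⟨hyK', hyw'⟩ := mem_cen.1 hyc'
      have key : ∀ {x y : M}, x * v = v * x → u * y * u = y⁻¹ → y * w = w * y →
          v * (x * y * x) * v = x * y⁻¹ * x := by
        intro x y h1 h2 h3
        have hy' : v * y * v = y⁻¹ := by
          rw [← h2]
          have e := conj_of_commute hww h3
          calc v * y * v = u * (w * y * w) * u := by
                conv_rhs => rw [hw]
                calc v * y * v = (u * u) * v * y * v * (u * u) := by rw [hu, one_mul, mul_one]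
                  _ = u * (u * v * y * (v * u)) * u := by group
                  _ = u * (u * v * y * (u * v)) * u := by rw [← huv]
            _ = u * y * u := by rw [e]
        rw [conj_mul hv, conj_mul hv, conj_of_commute hv h1, hy']
      have h2 : x * y⁻¹ * x = x' * y'⁻¹ * x' := by
        rw [← key hxv hyu hyw, ← key hxv' hyu' hyw', h1]
      -- both squares solve `X z X = w`
      set a := x * y * x with ha
      set b := x * y⁻¹ * x with hb
      have e1 : (x * x) * b⁻¹ * (x * x) = a := by rw [ha, hb]; group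
      have e2 : (x' * x') * b⁻¹ * (x' * x') = a := by rw [h2, h1]; group
      have hbK : b ∈ K := K.mul_mem (K.mul_mem hxK (K.inv_mem hyK)) hxK
      have e3 : (x * x) * b⁻¹ = (x' * x') * b⁻¹ := by
        apply eq_of_sq_eq hK (K.mul_mem (K.mul_mem hxK hxK) (K.inv_mem hbK))
          (K.mul_mem (K.mul_mem hxK' hxK') (K.inv_mem hbK))
        calc x * x * b⁻¹ * (x * x * b⁻¹) = (x * x * b⁻¹ * (x * x)) * b⁻¹ := by group
          _ = (x' * x' * b⁻¹ * (x' * x')) * b⁻¹ := by rw [e1, e2]
          _ = _ := by group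
      obtain rfl := eq_of_sq_eq hK hxK hxK' (mul_right_cancel e3)
      obtain rfl := mul_left_cancel (mul_right_cancel h1)
      rfl
    · rintro ⟨a, haK, hau⟩
      set z := v * a * v with hz
      have hzK : z ∈ K := hnv a haK
      have hzu : u * z * u = z⁻¹ := by
        calc u * z * u = (u * v) * a * (v * u) := by rw [hz]; group
          _ = (v * u) * a * (u * v) := by rw [← huv]
          _ = v * (u * a * u) * v := by group
          _ = z⁻¹ := by rw [hau, conj_inv hv]
      set X := rt (Nat.card K) (a * z⁻¹) * z with hX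
      have hXK : X ∈ K := K.mul_mem (rt_mem _ (K.mul_mem haK (K.inv_mem hzK))) hzK
      have hXeq : X * z⁻¹ * X = a := by
        rw [hX, mul_inv_cancel_right, ← mul_assoc,
          rt_sq hK (K.mul_mem haK (K.inv_mem hzK)), inv_mul_cancel_right]
      have huniq : ∀ Y ∈ K, Y * z⁻¹ * Y = a → Y = X := by
        intro Y hY hYe
        have : Y * z⁻¹ = X * z⁻¹ := by
          apply eq_of_sq_eq hK (K.mul_mem hY (K.inv_mem hzK)) (K.mul_mem hXK (K.inv_mem hzK))
          rw [← mul_assoc (Y * z⁻¹), hYe, ← mul_assoc (X * z⁻¹), hXeq]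
        exact mul_right_cancel this
      have hXv : v * X * v = X := by
        refine huniq _ (hnv _ hXK) ?_
        have h := congrArg (fun t => v * t * v) hXeq
        simp only [conj_mul hv, conj_inv hv, ← hz] at h
        rw [show v * z * v = a by rw [hz, conj_conj hv]] at h
        rw [← h]; group
      have hXu : u * X * u = X⁻¹ := by
        have : (u * X * u)⁻¹ = X := by
          refine huniq _ (K.inv_mem (hnu _ hXK)) ?_
          have h := congrArg (fun t => (u * t * u)⁻¹) hXeq
          simp only [conj_mul hu, conj_inv hu, hzu, hau, inv_inv] at h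
          rw [← h]; group
        rw [← inv_inv (u * X * u), this]
      set x := rt (Nat.card K) X with hx
      have hxK : x ∈ K := rt_mem _ hXK
      have hxx : x * x = X := rt_sq hK hXK
      have hxv : v * x * v = x := by rw [hx, conj_rt hv, hXv]
      have hxu : u * x * u = x⁻¹ := by rw [hx, conj_rt hu, hXu, rt, rt, inv_pow]
      set y := x⁻¹ * a * x⁻¹ with hy
      have hyu : u * y * u = y⁻¹ := by
        rw [hy, conj_mul hu, conj_mul hu, conj_inv hu, hxu, hau]; group
      have hyv : v * y * v = y⁻¹ := by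
        rw [hy, conj_mul hv, conj_mul hv, conj_inv hv, hxv, ← hz]
        have : z = X * a⁻¹ * X := by rw [← hXeq]; group
        rw [this, ← hxx]; group
      have hyw : w * y * w = y := by
        calc w * y * w = u * (v * y * v) * u := by
              conv_lhs => rw [hw]
              calc u * v * y * (u * v) = u * v * y * (v * u) := by rw [← huv]
                _ = _ := by group
          _ = y := by rw [hyv, conj_inv hu, hyu, inv_inv]
      refine ⟨⟨⟨x, mem_cen.2 ⟨hxK, commute_of_conj hv hxv⟩, hxu⟩,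
        ⟨y, mem_cen.2 ⟨K.mul_mem (K.mul_mem (K.inv_mem hxK) haK) (K.inv_mem hxK),
          commute_of_conj hww hyw⟩, hyu⟩⟩, ?_⟩
      apply Subtype.ext
      show x * y * x = a
      rw [hy]; group
  rw [Nat.card_prod] at D
  rw [hsame] at C
  rw [A, B, C, ← D]
  ring

end Cfsg.Agent.FourFormula30
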