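import Mathlib
import Cfsg.Agent.Lib.BlockContrib

/-!
# Consequences of the contribution matrix: bounds, defect zero, order of defect groups
-/

set_option autoImplicit false

open scoped ComplexConjugate

namespace Cfsg.Agent.BlockContribBounds

open Cfsg BlockTheoryLocalRing BlockTheoryCentre BlockTheoryIdem BlockContribPrime ClassAlgebraVal BlockContrib

attribute [local instance] Classical.propDecidable

variable {p : ℕ} {M : Ideal AlgInt} {G : Type*} [Group G] [Finite G]

/-- The members of a set of characters as a finset. -/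
noncomputable def members (B : Set (IrrCharacter G)) : Finset (IrrCharacter G) := B.toFinset

@[simp] theorem mem_members {B : Set (IrrCharacter G)} {χ : IrrCharacter G} : χ ∈ members B ↔ χ ∈ B := by
  simp [members]

theorem filter_eq_members (B : Set (IrrCharacter G)) [Fintype (IrrCharacter G)] [DecidablePred (· ∈ B)] :
    Finset.univ.filter (· ∈ B) = members B := by
  ext χ; simp

theorem card_members (B : Set (IrrCharacter G)) : Nat.card B = (members B).card := by
  rw [Nat.card_eq_fintype_card, members, Set.toFinset_card]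

theorem finsum_eq_members {A : Type*} [AddCommMonoid A] (B : Set (IrrCharacter G)) (f : IrrCharacter G → A) :
    ∑ᶠ χ ∈ B, f χ = ∑ χ ∈ members B, f χ :=
  finsum_mem_eq_toFinset_sum f B

theorem contrib_sq_bound [Fintype G] (hM : IsPModular p M) {B : Set (IrrCharacter G)} (hB : IsPBlock M B)
    {χ : IrrCharacter G} (hχ : χ ∈ B) :
    4 * ∑ ψ ∈ (members B).erase χ, contrib p B χ ψ ^ 2 ≤ (p : ℤ) ^ (2 * blockDefect p B) := by
  have h := four_mul_sum_erase_le hM hB hχ
  rwa [show Finset.univ.filter (· ∈ B) = members B by ext ξ; simp] at h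

/-- Weighted bound of Brauer and Feit. -/
theorem sum_pow_heights_le (hM : IsPModular p M) {B : Set (IrrCharacter G)} (hB : IsPBlock M B) :
    ∑ χ ∈ members B, p ^ (2 * blockHeight p B (χ : G → ℂ)) ≤ p ^ (2 * blockDefect p B) / 4 + 1 := by
  have : Fintype G := Fintype.ofFinite G
  obtain ⟨φ, hφ, hφ0⟩ := exists_height_zero hM hB
  have h := contrib_sq_bound hM hB hφ
  have h1 : ∑ ψ ∈ (members B).erase φ, ((p : ℤ) ^ (2 * blockHeight p B (ψ : G → ℂ))) ≤
      ∑ ψ ∈ (members B).erase φ, contrib p B φ ψ ^ 2 := by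
    refine Finset.sum_le_sum fun ψ hψ => ?_
    have hψB : ψ ∈ B := mem_members.1 (Finset.mem_of_mem_erase hψ)
    rw [pow_mul', ← sq_abs (contrib p B φ ψ)]
    refine pow_le_pow_left₀ (by positivity) (Int.le_of_dvd (abs_pos.2 (contrib_ne_zero hM hB hφ hφ0 hψB))
      ((dvd_abs _ _).2 (height_dvd_contrib hM.1 φ hψB))) 2
  have h2 : 4 * ∑ ψ ∈ (members B).erase φ, p ^ (2 * blockHeight p B (ψ : G → ℂ)) ≤ p ^ (2 * blockDefect p B) := by
    have : (4 : ℤ) * ∑ ψ ∈ (members B).erase φ, ((p : ℤ) ^ (2 * blockHeight p B (ψ : G → ℂ))) ≤ (p : ℤ) ^ (2 * blockDefect p B) := by linarith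
    exact_mod_cast this
  rw [← Finset.add_sum_erase _ _ (mem_members.2 hφ), hφ0, mul_zero, pow_zero, add_comm]
  exact Nat.add_le_add_right ((Nat.le_div_iff_mul_le (by norm_num)).2 (by linarith)) 1

/-- The number of characters in a block. -/
theorem card_le (hM : IsPModular p M) {B : Set (IrrCharacter G)} (hB : IsPBlock M B) :
    Nat.card B ≤ p ^ (2 * blockDefect p B) / 4 + 1 := by
  refine le_trans ?_ (sum_pow_heights_le hM hB)
  rw [card_members, Finset.card_eq_sum_ones]
  exact Finset.sum_le_sum fun χ _ => Nat.one_le_pow _ _ hM.1.pos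

/-- A block of defect zero has one member. -/
theorem eq_singleton_of_defect_zero (hM : IsPModular p M) {B : Set (IrrCharacter G)} (hB : IsPBlock M B)
    (hd : blockDefect p B = 0) : Nat.card B = 1 := by
  have h := card_le hM hB
  rw [hd] at h
  have : 0 < Nat.card B := by
    obtain ⟨φ, hφ, -⟩ := exists_height_zero hM hB
    exact Nat.card_pos_iff.2 ⟨⟨⟨φ, hφ⟩⟩, inferInstance⟩
  rw [Nat.mul_zero, pow_zero] at h
  omega

/-- Heights are at most `d - 2` for positive height. -/
theorem height_add_two_le (hM : IsPModular p M) {B : Set (IrrCharacter G)} (hB : IsPBlock M B)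
    {χ : IrrCharacter G} (hχ : χ ∈ B) (hh : 0 < blockHeight p B (χ : G → ℂ)) :
    blockHeight p B (χ : G → ℂ) + 2 ≤ blockDefect p B := by
  have : Fintype G := Fintype.ofFinite G
  have h1 := Int.le_of_dvd (contrib_self_pos hM.1 hχ) (contrib_extra_of_height_pos hM hB hχ hh hχ)
  have h2 := contrib_self_le hM hB hχ
  have h3 : blockHeight p B (χ : G → ℂ) + 1 ≤ blockDefect p B := by
    have : (p : ℤ) ^ (blockHeight p B (χ : G → ℂ) + 1) ≤ (p : ℤ) ^ blockDefect p B := h1.trans h2
    exact (Nat.pow_le_pow_iff_right hM.1.one_lt).1 (by exact_mod_cast this)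
  by_contra hlt
  have heq : blockHeight p B (χ : G → ℂ) + 1 = blockDefect p B := by omega
  rw [heq] at h1
  obtain ⟨φ, hφ, hφ0⟩ := exists_height_zero hM hB
  have hne : φ ≠ χ := fun e => by rw [e] at hφ0; omega
  have hsq := sum_contrib_sq hM hB hχ
  rw [← Finset.add_sum_erase _ _ (show χ ∈ Finset.univ.filter (· ∈ B) by simp [hχ]), le_antisymm h2 h1, pow_two,
    add_eq_left] at hsq
  have := (Finset.sum_eq_zero_iff_of_nonneg fun ψ _ => sq_nonneg (contrib p B χ ψ)).1 hsq φ (by simp [hne, hφ])
  rw [sq_eq_zero_iff, contrib_comm hM.1 hχ hφ] at this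
  exact contrib_ne_zero hM hB hφ hφ0 hχ this

/-- Bound on the number of characters in the presence of a positive height. -/
theorem two_mul_card_le (hM : IsPModular p M) {B : Set (IrrCharacter G)} (hB : IsPBlock M B)
    (hpos : ∃ χ ∈ B, 0 < blockHeight p B (χ : G → ℂ)) :
    2 * Nat.card B ≤ p ^ (2 * blockDefect p B - 2) := by
  have : Fintype G := Fintype.ofFinite G
  obtain ⟨χ, hχ, hh⟩ := hpos
  obtain ⟨φ, hφ, hφ0⟩ := exists_height_zero hM hB
  have hd := height_add_two_le hM hB hχ hh
  set Z := (members B).filter fun ψ : IrrCharacter G => blockHeight p B (ψ : G → ℂ) = 0 with hZ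
  set W := (members B).filter fun ψ : IrrCharacter G => ¬ blockHeight p B (ψ : G → ℂ) = 0 with hW
  have hk : Nat.card B = Z.card + W.card := by
    rw [card_members, hZ, hW, Finset.card_filter_add_card_filter_not]
  -- the row of positive height
  have h1 : 4 * ((p : ℤ) ^ 2 * (Z.card : ℤ)) ≤ (p : ℤ) ^ (2 * blockDefect p B) := by
    refine le_trans ?_ (contrib_sq_bound hM hB hχ)
    refine mul_le_mul_of_nonneg_left ?_ (by norm_num)
    have hsub : Z ⊆ (members B).erase χ := by
      intro ψ hψ
      obtain ⟨h1, h2⟩ := Finset.mem_filter.1 hψ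
      exact Finset.mem_erase.2 ⟨fun e => by rw [e] at h2; omega, h1⟩
    refine le_trans ?_ (Finset.sum_le_sum_of_subset_of_nonneg hsub fun _ _ _ => sq_nonneg _)
    rw [mul_comm, ← nsmul_eq_mul]
    refine Finset.card_nsmul_le_sum _ _ _ fun ψ hψ => ?_
    obtain ⟨hψm, hψ0⟩ := Finset.mem_filter.1 hψ
    have hψB := mem_members.1 hψm
    rw [← sq_abs (contrib p B χ ψ)]
    refine pow_le_pow_left₀ (by positivity) (Int.le_of_dvd (abs_pos.2 ?_) ((dvd_abs _ _).2 ?_)) 2
    · rw [contrib_comm hM.1 hχ hψB]; exact contrib_ne_zero hM hB hψB hψ0 hχ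
    · have := contrib_extra_of_height_pos hM hB hχ hh hψB
      rwa [hψ0, zero_add, pow_one] at this
  have h2 : 4 * (p ^ 2 * W.card) ≤ p ^ (2 * blockDefect p B) := by
    have h := sum_pow_heights_le hM hB
    rw [← Finset.sum_filter_add_sum_filter_not (members B) (fun ψ : IrrCharacter G => blockHeight p B (ψ : G → ℂ) = 0),
      ← hZ, ← hW] at h
    have hz : 1 ≤ ∑ ψ ∈ Z, p ^ (2 * blockHeight p B (ψ : G → ℂ)) := by
      refine le_trans ?_ (Finset.single_le_sum (fun _ _ => Nat.zero_le _) (show φ ∈ Z by simp [hZ, hφ, hφ0]))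
      exact Nat.one_le_pow _ _ hM.1.pos
    have hw : W.card * p ^ 2 ≤ ∑ ψ ∈ W, p ^ (2 * blockHeight p B (ψ : G → ℂ)) := by
      rw [← smul_eq_mul]
      refine Finset.card_nsmul_le_sum _ _ _ fun ψ hψ => ?_
      refine Nat.pow_le_pow_right hM.1.pos ?_
      have := (Finset.mem_filter.1 hψ).2
      omega
    have : W.card * p ^ 2 ≤ p ^ (2 * blockDefect p B) / 4 := by omega
    have := Nat.div_mul_le_self (p ^ (2 * blockDefect p B)) 4
    nlinarith
  have h1' : 4 * (p ^ 2 * Z.card) ≤ p ^ (2 * blockDefect p B) := by exact_mod_cast h1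
  have hsplit : p ^ (2 * blockDefect p B) = p ^ 2 * p ^ (2 * blockDefect p B - 2) := by
    rw [← pow_add]; congr 1; omega
  rw [hk]
  have hp2 : 0 < p ^ 2 := pow_pos hM.1.pos 2
  refine Nat.le_of_mul_le_mul_left ?_ hp2
  rw [← hsplit]
  nlinarith

/-- A defect group has order `p ^ d`. -/
theorem card_defectGroup (hM : IsPModular p M) {B : Set (IrrCharacter G)} (hB : IsPBlock M B)
    {P : Subgroup G} (hP : IsDefectGroup p M B P) : Nat.card P = p ^ blockDefect p B := by
  have : Fintype G := Fintype.ofFinite G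
  have : Fact p.Prime := ⟨hM.1⟩
  obtain ⟨g, ⟨-, he, hω⟩, S, rfl⟩ := hP
  rw [Subgroup.card_map_of_injective Subtype.val_injective, Sylow.card_eq_multiplicity]
  congr 1
  set C := Subgroup.centralizer ({g} : Set G) with hC
  obtain ⟨φ, hφ, hφ0⟩ := exists_height_zero hM hB
  have hgreg : ¬ p ∣ orderOf g := fun h => he (by rw [blockCoeff_eq_zero_of_dvd hM hB h]; exact ideal_zero hM)
  have hsum : (Nat.card G).factorization p = C.index.factorization p + (Nat.card C).factorization p := by
    rw [← C.index_mul_card, Nat.factorization_mul Subgroup.index_ne_zero_of_finite Nat.card_pos.ne']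
    rfl
  have hle : C.index.factorization p ≤ minExp p B := by
    by_contra hlt
    refine hω φ hφ (ClassAlgebraMod.centralChar_mem_ideal hM φ g ?_)
    rw [exp_eq_add (p := p) hφ, hφ0, add_zero]
    exact Nat.lt_of_not_le hlt
  have hge : minExp p B ≤ C.index.factorization p := by
    by_contra hlt
    refine he ?_
    set θ : G → ℂ := fun y => ∑ ξ : IrrCharacter G, sepCoeff g (centSylow p g) (ξ : G → ℂ) * (ξ : G → ℂ) y with hθ
    have h1 : ∑ y : G, θ y * blockCoeff B y =
        ∑ ξ : IrrCharacter G, if ξ ∈ B then (ξ : G → ℂ) 1 * sepCoeff g (centSylow p g) (ξ : G → ℂ) else 0 := by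
      simp only [hθ, Finset.sum_mul]
      rw [Finset.sum_comm]
      refine Finset.sum_congr rfl fun ξ _ => ?_
      simp only [blockCoeff_eq_sum, Finset.mul_sum]
      rw [Finset.sum_comm, Finset.sum_eq_single ξ]
      · split_ifs
        · have h := CharBasicOrth.card_mul_classInner (ξ : G → ℂ) ξ
          rw [CharBasicOrth.classInner_irr_self ξ.2, mul_one] at h
          have hG : (Nat.card G : ℂ) ≠ 0 := Nat.cast_ne_zero.2 Nat.card_pos.ne'
          calc _ = ((Nat.card G : ℂ)⁻¹ * ((ξ : G → ℂ) 1 * sepCoeff g (centSylow p g) (ξ : G → ℂ))) *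
                ∑ y : G, (ξ : G → ℂ) y * conj ((ξ : G → ℂ) y) := by
                rw [Finset.mul_sum]; exact Finset.sum_congr rfl fun y _ => by ring
            _ = _ := by rw [← h]; field_simp
        · simp
      · intro η _ hne
        split_ifs
        · have h := CharBasicOrth.card_mul_classInner (ξ : G → ℂ) η
          rw [CharBasicOrth.classInner_irr_ne ξ.2 η.2 fun e => hne (Subtype.ext e.symm), mul_zero] at h
          calc _ = ((Nat.card G : ℂ)⁻¹ * ((η : G → ℂ) 1 * sepCoeff g (centSylow p g) (ξ : G → ℂ))) *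
                ∑ y : G, (ξ : G → ℂ) y * conj ((η : G → ℂ) y) := by
                rw [Finset.mul_sum]; exact Finset.sum_congr rfl fun y _ => by ring
            _ = _ := by rw [← h, mul_zero]
        · simp
      · simp
    obtain ⟨N, hN, hNq⟩ := exists_centSylow_quot (p := p) hM.1 g
    have h2 : ∑ y : G, θ y * blockCoeff B y = (C.index : ℂ) * ((N : ℂ) * blockCoeff B g) := by
      calc ∑ y : G, θ y * blockCoeff B y
          = ∑ y : G, if IsConj g y then (N : ℂ) * blockCoeff B g else 0 := by
            refine Finset.sum_congr rfl fun y _ => ?_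
            by_cases hy : p ∣ orderOf y
            · rw [blockCoeff_eq_zero_of_dvd hM hB hy, mul_zero, if_neg]
              intro hc
              obtain ⟨x, rfl⟩ := isConj_iff.1 hc
              rw [show x * g * x⁻¹ = MulAut.conj x g from rfl, MulEquiv.orderOf_eq] at hy
              exact hgreg hy
            · rw [hθ]
              simp only
              rw [sum_sepCoeff_mul hM.1 hgreg hy _ (isPGroup_centSylow g) (centSylow_commute g)]
              split_ifs with hc
              · rw [hNq]
                exact congrArg _ (CharBasic.apply_eq_of_isConj (χ := blockCoeff B) (isCen_idem B) hc).symm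
              · rw [zero_mul]
        _ = _ := by
            rw [← Finset.sum_filter, Finset.sum_const, nsmul_eq_mul, hC, index_centralizer_eq,
              Nat.card_eq_fintype_card, Fintype.card_subtype]
    rw [h1] at h2
    set i := C.index.factorization p with hi
    set r := C.index / p ^ i with hr
    have hir : (C.index : ℂ) = (p : ℂ) ^ i * (r : ℂ) := by
      exact_mod_cast (Nat.ordProj_mul_ordCompl_eq_self C.index p).symm
    have hr0 : ¬ p ∣ r := Nat.not_dvd_ordCompl hM.1 Subgroup.index_ne_zero_of_finite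
    let q : IrrCharacter G → ℕ := fun ξ => charDegree (ξ : G → ℂ) / p ^ (i + 1)
    have hp0 : (p : ℂ) ≠ 0 := Nat.cast_ne_zero.2 hM.1.ne_zero
    have hfac : blockCoeff B g = (p : ℂ) * (((r : ℂ)⁻¹ * (N : ℂ)⁻¹) *
        ∑ ξ : IrrCharacter G, if ξ ∈ B then (q ξ : ℂ) * sepCoeff g (centSylow p g) (ξ : G → ℂ) else 0) := by
      have h3 : (∑ ξ : IrrCharacter G, if ξ ∈ B then (ξ : G → ℂ) 1 * sepCoeff g (centSylow p g) (ξ : G → ℂ) else 0) =
          (p : ℂ) ^ (i + 1) * ∑ ξ : IrrCharacter G, if ξ ∈ B then (q ξ : ℂ) * sepCoeff g (centSylow p g) (ξ : G → ℂ) else 0 := by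
        rw [Finset.mul_sum]
        refine Finset.sum_congr rfl fun ξ _ => ?_
        split_ifs with hξ
        · have hdvd : p ^ (i + 1) ∣ charDegree (ξ : G → ℂ) :=
            (pow_dvd_pow p (by have := minExp_le (p := p) hξ; omega)).trans (Nat.ordProj_dvd _ p)
          have : ((charDegree (ξ : G → ℂ) : ℕ) : ℂ) = (p : ℂ) ^ (i + 1) * (q ξ : ℂ) := by
            exact_mod_cast (Nat.mul_div_cancel' hdvd).symm
          rw [apply_one_eq_charDegree, this]; ring
        · simp
      rw [h3, hir] at h2
      have hrC : (r : ℂ) ≠ 0 := Nat.cast_ne_zero.2 fun h => hr0 (h ▸ dvd_zero p)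
      have hNC : (N : ℂ) ≠ 0 := Nat.cast_ne_zero.2 fun h => hN (h ▸ dvd_zero p)
      have hpi : (p : ℂ) ^ i ≠ 0 := pow_ne_zero _ hp0
      refine mul_left_cancel₀ (mul_ne_zero hpi (mul_ne_zero hrC hNC)) ?_
      rw [pow_succ] at h2
      calc (p : ℂ) ^ i * ((r : ℂ) * (N : ℂ)) * blockCoeff B g = (p : ℂ) ^ i * (p : ℂ) *
            ∑ ξ : IrrCharacter G, if ξ ∈ B then (q ξ : ℂ) * sepCoeff g (centSylow p g) (ξ : G → ℂ) else 0 := by
            rw [h2]; ring
        _ = _ := by field_simp
    rw [hfac]
    refine ideal_mul_right hM (natCast_p_mem hM) ((localRing hM).mul_mem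
      ((localRing hM).mul_mem (inv_natCast_mem hM hr0) (inv_natCast_mem hM hN)) ((localRing hM).sum_mem fun ξ _ => ?_))
    split_ifs
    · exact (localRing hM).mul_mem (natCast_mem (localRing hM) _)
        (of_isIntegral hM (isIntegral_sepCoeff (irr_isCharacter ξ) _ _ (centSylow_commute g)))
    · exact (localRing hM).zero_mem
  have := minExp_add_defect hM hB
  omega

end Cfsg.Agent.BlockContribBounds
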