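import Cfsg.Agent.Lib.BlockTheoryInduced
import Cfsg.Agent.Lib.ZStarPrincipal
import Cfsg.Agent.Lib.CharInducedClifford
import Cfsg.Agent.Lib.CharBasicLinear

/-!
Blocks and normal subgroups of order prime to `p`.
-/

namespace Cfsg.Agent.BlockTheoryNormal

open Cfsg Cfsg.Agent.BlockTheoryLocalRing Cfsg.Agent.BlockTheoryRotation
open Cfsg.Agent.BlockTheoryCentre Cfsg.Agent.BlockTheoryIdem Cfsg.Agent.BlockTheoryBrauer
open Cfsg.Agent.BlockTheoryInduced
open scoped ComplexConjugate

attribute [local instance] Classical.propDecidable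

universe u

variable {p : ℕ} {M : Ideal AlgInt} {G : Type u} [Group G] [Fintype G]

/-- Blocks are separated by the central characters on `p`-regular elements. -/
theorem sameBlock_of_regular (hM : IsPModular p M) {χ ψ : IrrCharacter G}
    (h : ∀ g, ¬ p ∣ orderOf g →
      MemLocalIdeal M (centralChar (χ : G → ℂ) g - centralChar (ψ : G → ℂ) g)) :
    SameBlock M (χ : G → ℂ) (ψ : G → ℂ) := by
  set B := blockOf M (χ : G → ℂ)
  have hB : IsPBlock M B := isPBlock_blockOf χ
  have hi := isInt_idem hM hB
  suffices hψ : ψ ∈ B from hψ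
  by_contra hψ
  have h1 : MemLocalIdeal M (omega (χ : G → ℂ) (idem B) - omega (ψ : G → ℂ) (idem B)) := by
    rw [(isCen_idem B).eq_sum_classSum, map_sum, map_sum, ← Finset.sum_sub_distrib]
    refine ideal_sum hM fun C _ => ?_
    rw [map_smul, map_smul, smul_eq_mul, smul_eq_mul, omega_classSum (irr_classFun χ),
      omega_classSum (irr_classFun ψ), ← mul_sub, coeff_idem]
    by_cases hC : p ∣ orderOf C.out
    · rw [blockCoeff_eq_zero_of_dvd hM hB hC, zero_mul]; exact ideal_zero hM
    · exact ideal_mul_left hM (blockCoeff_mem hM hB _) (h _ hC)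
  rw [omega_idem, omega_idem, if_pos (self_mem_blockOf hM χ), if_neg hψ, sub_zero] at h1
  exact one_not_ideal hM h1

/-- Idempotents of a group of order prime to `p` are integral. -/
theorem isInt_idem_of_not_dvd (hM : IsPModular p M) (hG : ¬ p ∣ Nat.card G)
    (A : Set (IrrCharacter G)) : IsInt M (idem A) := by
  intro g
  rw [coeff_idem, blockCoeff_eq_sum]
  refine (localRing hM).mul_mem (inv_natCast_mem hM hG) ((localRing hM).sum_mem fun χ _ => ?_)
  split_ifs
  · rw [← irr_inv]
    exact (localRing hM).mul_mem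
      (of_isIntegral hM (CharBasic.isCharacter_integral (CharBasic.isCharacter_of_isIrrCharacter χ.2) _))
      (of_isIntegral hM (CharBasic.isCharacter_integral (CharBasic.isCharacter_of_isIrrCharacter χ.2) _))
  · exact (localRing hM).zero_mem

section Avg

variable (N : Subgroup G) [N.Normal]

theorem isCen_avg : IsCen (ZStarPrincipal.avg N) := by
  intro g h
  have := coeff_conj_eq_of_commute (u := h⁻¹) (f := ZStarPrincipal.avg N)
    (ZStarPrincipal.single_mul_avg N fun k hk => (inferInstance : N.Normal).conj_mem k hk h⁻¹) g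
  simpa using this

theorem omega_avg (χ : IrrCharacter G) :
    omega (χ : G → ℂ) (ZStarPrincipal.avg N) =
      if (∀ n ∈ N, (χ : G → ℂ) n = (χ : G → ℂ) 1) then 1 else 0 := by
  have hchi : chiSum (χ : G → ℂ) (ZStarPrincipal.avg N) =
      (Nat.card N : ℂ)⁻¹ * ∑ k : N, (χ : G → ℂ) k := by
    have := ZStarPrincipal.chiSum_single_mul_avg N (χ : G → ℂ) 1 1
    simpa [MonoidAlgebra.one_def.symm] using this
  have hN : (Nat.card N : ℂ) ≠ 0 := Nat.cast_ne_zero.mpr Nat.card_pos.ne'
  split_ifs with h
  · rw [omega_apply, hchi, Finset.sum_congr rfl (g := fun _ => (χ : G → ℂ) 1) fun (k : N) _ => h (k : G) k.2,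
      Finset.sum_const, nsmul_eq_mul, Finset.card_univ, ← Nat.card_eq_fintype_card]
    field_simp [irr_one_ne_zero χ]
  · by_contra hne
    refine h fun n hn => ?_
    have hsq := omega_mul χ (isCen_avg N) (ZStarPrincipal.avg N)
    rw [ZStarPrincipal.avg_sq] at hsq
    have h1 : omega (χ : G → ℂ) (ZStarPrincipal.avg N) = 1 := by
      field_simp at hsq
      exact hsq.symm
    rw [omega_apply, hchi] at h1
    field_simp [irr_one_ne_zero χ] at h1
    obtain ⟨d, hd⟩ := CharBasic.isCharacter_apply_one (CharBasic.isCharacter_of_isIrrCharacter χ.2)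
    have h2 : ∑ k : N, ((χ : G → ℂ) k).re = ∑ _k : N, (d : ℝ) := by
      have h1' := congrArg Complex.re h1
      simp only [hd, Complex.re_sum, Complex.mul_re, Complex.natCast_re, Complex.natCast_im,
        mul_zero, sub_zero] at h1'
      rw [Finset.sum_const, Finset.card_univ, nsmul_eq_mul, ← Nat.card_eq_fintype_card]
      linarith [h1']
    have hle : ∀ k : N, ((χ : G → ℂ) k).re ≤ (d : ℝ) := fun k => by
      refine (Complex.re_le_norm _).trans ?_
      have := CharBasic.isCharacter_norm_le (CharBasic.isCharacter_of_isIrrCharacter χ.2) (k : G)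
      rw [hd] at this
      simpa using this
    have h3 := (Finset.sum_eq_sum_iff_of_le fun k _ => hle k).mp h2 ⟨n, hn⟩ (Finset.mem_univ _)
    have hnorm : ‖(χ : G → ℂ) n‖ ≤ (d : ℝ) := by
      have := CharBasic.isCharacter_norm_le (CharBasic.isCharacter_of_isIrrCharacter χ.2) n
      rw [hd] at this
      simpa using this
    rw [hd]
    refine Complex.ext (by simpa using h3) ?_
    have h4 := Complex.sq_norm ((χ : G → ℂ) n)
    rw [Complex.normSq_apply] at h4
    simp only at h3
    simp only [Complex.natCast_im]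
    nlinarith [norm_nonneg ((χ : G → ℂ) n)]

theorem idem_trivialOn :
    idem {χ : IrrCharacter G | ∀ n ∈ N, (χ : G → ℂ) n = (χ : G → ℂ) 1} = ZStarPrincipal.avg N := by
  refine ext_omega (isCen_idem _) (isCen_avg N) fun χ => ?_
  rw [omega_idem, omega_avg]
  by_cases h : ∀ n ∈ N, (χ : G → ℂ) n = (χ : G → ℂ) 1
  · simp [h]
  · simp [h]

theorem blockOf_subset_trivialOn (hM : IsPModular p M) (hN : ¬ p ∣ Nat.card N)
    {χ : IrrCharacter G} (hχ : ∀ n ∈ N, (χ : G → ℂ) n = (χ : G → ℂ) 1) :
    blockOf M (χ : G → ℂ) ⊆ {ψ | ∀ n ∈ N, (ψ : G → ℂ) n = (ψ : G → ℂ) 1} := by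
  refine blockOf_subset_of_isInt hM ?_ hχ
  rw [idem_trivialOn]
  exact ZStarPrincipal.isInt_avg hM N hN

end Avg

section Constituents

variable (N : Subgroup G) [N.Normal] [Fintype N]

/-- The central character of `χ` on central elements supported in `N` is that of any constituent
of the restriction. -/
theorem omega_eq_omega_res (χ : IrrCharacter G) (θ : IrrCharacter N)
    (h : classInner (fun n : N => (χ : G → ℂ) n) (θ : N → ℂ) ≠ 0)
    {z : MonoidAlgebra ℂ G} (hz : IsCen z) (hzN : ∀ x ∉ N, z.coeff x = 0) :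
    omega (χ : G → ℂ) z = omega (θ : N → ℂ) (res N z) := by
  have hcf : IsClassFunction N (fun n : N => (χ : G → ℂ) n) :=
    fun a b => irr_classFun χ (a : G) (b : G)
  have hres : ∀ w : MonoidAlgebra ℂ G, (∀ x ∉ N, w.coeff x = 0) →
      chiSum (χ : G → ℂ) w = chiSum (fun n : N => (χ : G → ℂ) n) (res N w) := by
    intro w hw
    rw [chiSum_apply, chiSum_apply]
    refine (Fintype.sum_of_injective (fun n : N => (n : G)) Subtype.val_injective _ _ ?_ ?_).symm
    · intro x hx; rw [hw x (by simpa using hx), zero_mul]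
    · intro n; rfl
  have hsupp : ∀ x ∉ N, (incl N (idem {θ})).coeff x = 0 := fun x hx =>
    coeff_incl_of_notMem N _ hx
  have hsupp2 : ∀ x ∉ N, (z * incl N (idem {θ})).coeff x = 0 := by
    intro x hx
    rw [coeff_mul_eq]
    refine Finset.sum_eq_zero fun y _ => ?_
    by_cases hy : y ∈ N
    · rw [hsupp _ fun h => hx (by simpa using mul_mem hy h), mul_zero]
    · rw [hzN y hy, zero_mul]
  have hexp : ∀ w : MonoidAlgebra ℂ N, chiSum (fun n : N => (χ : G → ℂ) n) (w * idem {θ}) =
      classInner (fun n : N => (χ : G → ℂ) n) (θ : N → ℂ) * chiSum (θ : N → ℂ) w := by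
    intro w
    rw [(isCen_idem _).comm w |>.symm]
    conv_lhs => rw [CharBasicOrth.eq_sum_classInner hcf]
    rw [chiSum_apply]
    simp only [Finset.sum_apply, Pi.smul_apply, smul_eq_mul, Finset.mul_sum]
    rw [Finset.sum_comm, Finset.sum_eq_single θ]
    · rw [chiSum_apply, Finset.mul_sum]
      have := chiSum_idem_mul {θ} θ w
      rw [if_pos (Set.mem_singleton θ), chiSum_apply, chiSum_apply] at this
      calc _ = classInner (fun n : N => (χ : G → ℂ) n) (θ : N → ℂ) *
            ∑ n : N, (idem {θ} * w).coeff n * (θ : N → ℂ) n := by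
              rw [Finset.mul_sum]; exact Finset.sum_congr rfl fun n _ => by ring
        _ = _ := by rw [this, Finset.mul_sum]
    · intro ξ _ hξ
      have := chiSum_idem_mul {θ} ξ w
      rw [if_neg (by simpa using hξ), chiSum_apply] at this
      calc _ = classInner (fun n : N => (χ : G → ℂ) n) (ξ : N → ℂ) *
            ∑ n : N, (idem {θ} * w).coeff n * (ξ : N → ℂ) n := by
              rw [Finset.mul_sum]; exact Finset.sum_congr rfl fun n _ => by ring
        _ = 0 := by rw [this, mul_zero]
    · simp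
  have h1 := chiSum_mul χ hz (incl N (idem {θ}))
  rw [hres _ hsupp2, hres _ hsupp, res_mul_incl, hexp] at h1
  have h2 : res N (incl N (idem {θ})) = 1 * idem {θ} := by
    refine MonoidAlgebra.ext ?_
    ext n
    rw [coeff_res, coeff_incl_coe, one_mul]
  rw [h2, hexp, MonoidAlgebra.one_def, chiSum_single, one_mul] at h1
  rw [omega_apply (χ := (θ : N → ℂ))]
  have hθ := irr_one_ne_zero θ
  field_simp
  have h3 : chiSum (θ : N → ℂ) (res N z) = omega (χ : G → ℂ) z * (θ : N → ℂ) 1 := by
    apply mul_left_cancel₀ h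
    rw [h1]; ring
  linear_combination -h3

/-- Characters in one block lie over the same characters of a normal subgroup of order prime to
`p`. -/
theorem constituent_of_sameBlock (hM : IsPModular p M) (hN : ¬ p ∣ Nat.card N)
    {χ ψ : IrrCharacter G} (h : SameBlock M (χ : G → ℂ) (ψ : G → ℂ)) (θ : IrrCharacter N)
    (hθ : classInner (fun n : N => (χ : G → ℂ) n) (θ : N → ℂ) ≠ 0) :
    classInner (fun n : N => (ψ : G → ℂ) n) (θ : N → ℂ) ≠ 0 := by
  set S : Set (IrrCharacter N) :=
    {ξ | classInner (fun n : N => (χ : G → ℂ) n) (ξ : N → ℂ) ≠ 0}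
  set a := classInner (fun n : N => (χ : G → ℂ) n) (θ : N → ℂ) with ha
  set c : ℂ := (θ : N → ℂ) 1 / (a * (Nat.card N : ℂ)) with hc
  set e : MonoidAlgebra ℂ G := ofFun fun x => if x ∈ N then c * conj ((χ : G → ℂ) x) else 0 with he
  have hecen : IsCen e := by
    intro g k
    simp only [he, coeff_ofFun, irr_classFun χ g k]
    refine if_congr ⟨fun hh => ?_, fun hh => ?_⟩ rfl rfl
    · have := Subgroup.Normal.conj_mem ‹N.Normal› _ hh k⁻¹
      simpa [mul_assoc] using this
    · exact Subgroup.Normal.conj_mem ‹N.Normal› _ hh k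
  have heN : ∀ x ∉ N, e.coeff x = 0 := fun x hx => by simp [he, hx]
  have hres : res N e = idem S := by
    refine ext_omega (isCen_res N hecen) (isCen_idem S) fun ξ => ?_
    rw [omega_idem]
    have hchi : chiSum (ξ : N → ℂ) (res N e) =
        c * (Nat.card N : ℂ) * classInner (ξ : N → ℂ) (fun n : N => (χ : G → ℂ) n) := by
      rw [mul_assoc, CharBasicOrth.card_mul_classInner, chiSum_apply, Finset.mul_sum]
      refine Finset.sum_congr rfl fun n _ => ?_
      simp only [he, coeff_res, coeff_ofFun, if_pos n.2]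
      ring
    rw [omega_apply, hchi, ← CharBasicOrth.conj_classInner (fun n : N => (χ : G → ℂ) n)]
    split_ifs with hξ
    · obtain ⟨g, hg⟩ := (CharInduced.mem_orbitFin N).1
        (CharInduced.mem_orbit_of_constituents N χ.2 θ.2 ξ.2 hθ hξ)
      have hval : classInner (fun n : N => (χ : G → ℂ) n) (ξ : N → ℂ) = a := by
        rw [← hg, CharInduced.classInner_res_conjFun N (irr_classFun χ)]
      have hone : (ξ : N → ℂ) 1 = (θ : N → ℂ) 1 := by
        rw [← hg]
        simp only [CharInduced.conjFun]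
        exact congrArg _ (Subtype.ext (by simp))
      obtain ⟨k, hk⟩ : ∃ k : ℕ, a = (k : ℂ) :=
        CharBasicOrth.classInner_isCharacter
          (CharInduced.isCharacter_res N (CharBasic.isCharacter_of_isIrrCharacter χ.2))
          (CharBasic.isCharacter_of_isIrrCharacter θ.2)
      rw [hval, hone, hc, hk, map_natCast]
      have hk0 : (k : ℂ) ≠ 0 := hk ▸ hθ
      have := irr_one_ne_zero θ
      have hN0 : (Nat.card N : ℂ) ≠ 0 := Nat.cast_ne_zero.mpr Nat.card_pos.ne'
      field_simp
    · simp only [S, Set.mem_setOf_eq, not_not] at hξ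
      rw [hξ, map_zero, mul_zero, mul_zero]
  have hei : IsInt M e := by
    intro x
    by_cases hx : x ∈ N
    · have := isInt_idem_of_not_dvd hM hN S ⟨x, hx⟩
      rw [← hres] at this
      exact this
    · rw [heN x hx]; exact (localRing hM).zero_mem
  intro hψθ
  obtain ⟨ξ, hξ⟩ : ∃ ξ : IrrCharacter N,
      classInner (fun n : N => (ψ : G → ℂ) n) (ξ : N → ℂ) ≠ 0 := by
    by_contra! hall
    have := congrFun (CharBasicOrth.eq_sum_classInner (ψ := fun n : N => (ψ : G → ℂ) n)
      (fun a b => irr_classFun ψ (a : G) (b : G))) 1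
    simp [hall] at this
    exact irr_one_ne_zero ψ this
  have hξS : ξ ∉ S := by
    intro hmem
    refine hξ ?_
    obtain ⟨g, hg⟩ := (CharInduced.mem_orbitFin N).1
      (CharInduced.mem_orbit_of_constituents N χ.2 θ.2 ξ.2 hθ hmem)
    rw [← hg, CharInduced.classInner_res_conjFun N (irr_classFun ψ)]
    exact hψθ
  have h1 := omega_sub_mem hM h hecen hei
  rw [omega_eq_omega_res N χ θ hθ hecen heN, omega_eq_omega_res N ψ ξ hξ hecen heN, hres,
    omega_idem, omega_idem, if_pos (show θ ∈ S from hθ), if_neg hξS, sub_zero] at h1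
  exact one_not_ideal hM h1

end Constituents

end Cfsg.Agent.BlockTheoryNormal
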