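import Mathlib
import Cfsg.Prelude.Def_Characters
import Cfsg.Agent.Lib.CharBasicDecomp

/-! The Frobenius–Schur indicator: integrality and the involution-counting formula. -/

open scoped ComplexConjugate Kronecker
open Matrix

namespace Cfsg.Agent.FSIndicatorSum

open Cfsg.Agent

universe u

variable {G : Type u} [Group G] [Fintype G]

/-- The Frobenius–Schur indicator of a function. -/
noncomputable def nu (χ : G → ℂ) : ℂ := (Nat.card G : ℂ)⁻¹ * ∑ g : G, χ (g * g)

theorem trace_idem {ι : Type*} [Fintype ι] [DecidableEq ι] (E : Matrix ι ι ℂ) (h : E * E = E) :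
    ∃ m : ℕ, Matrix.trace E = m := by
  have hi : IsIdempotentElem (Matrix.toLin' E) := by
    rw [IsIdempotentElem, Module.End.mul_eq_comp, ← Matrix.toLin'_mul, h]
  obtain ⟨p, hp⟩ := (LinearMap.isProj_iff_isIdempotentElem _).mpr hi
  exact ⟨Module.finrank ℂ p, by rw [← Matrix.trace_toLin'_eq, hp.trace]⟩

theorem nu_hom_int {n : ℕ} (A : G →* Matrix (Fin n) (Fin n) ℂ) :
    ∃ z : ℤ, nu (fun g => Matrix.trace (A g)) = z := by
  classical
  let S : Matrix (Fin n × Fin n) (Fin n × Fin n) ℂ := (1 : Matrix _ _ ℂ).submatrix Prod.swap id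
  let c : ℂ := (Nat.card G : ℂ)⁻¹
  let K : G → Matrix (Fin n × Fin n) (Fin n × Fin n) ℂ := fun g => A g ⊗ₖ A g
  let P : Matrix (Fin n × Fin n) (Fin n × Fin n) ℂ := c • ∑ g, K g
  have hK : ∀ g h, K g * K h = K (g * h) := by
    intro g h
    simp only [K, map_mul, Matrix.mul_kronecker_mul]
  have hG : (Nat.card G : ℂ) ≠ 0 := Nat.cast_ne_zero.2 Nat.card_pos.ne'
  have hKP : ∀ g, K g * P = P := by
    intro g
    simp only [P, Matrix.mul_smul, Finset.mul_sum, hK]
    rw [Fintype.sum_equiv (Equiv.mulLeft g) (fun h => K (g * h)) K (fun _ => rfl)]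
  have hPP : P * P = P := by
    conv_lhs => arg 1; unfold P
    rw [Matrix.smul_mul, Finset.sum_mul, Finset.sum_congr rfl (fun g _ => hKP g),
      Finset.sum_const, Finset.card_univ, ← Nat.cast_smul_eq_nsmul ℂ, smul_smul,
      ← Nat.card_eq_fintype_card, inv_mul_cancel₀ hG, one_smul]
  have hS : ∀ (X : Matrix (Fin n × Fin n) (Fin n × Fin n) ℂ), S * X = X.submatrix Prod.swap id := by
    intro X
    ext i j
    simp [S, Matrix.mul_apply, Matrix.one_apply]
  have hS' : ∀ (X : Matrix (Fin n × Fin n) (Fin n × Fin n) ℂ), X * S = X.submatrix id Prod.swap := by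
    intro X
    ext i j
    rw [Matrix.mul_apply, Finset.sum_eq_single (Prod.swap j)]
    · simp [S, Matrix.one_apply]
    · intro b _ hb
      have : Prod.swap b ≠ j := fun h => hb (by rw [← h, Prod.swap_swap])
      simp [S, Matrix.one_apply, this]
    · simp
  have hSK : ∀ g, S * K g = K g * S := by
    intro g
    rw [hS, hS']
    ext ⟨i, j⟩ ⟨k, l⟩
    simp [K, mul_comm]
  have hSP : S * P = P * S := by
    simp only [P, Matrix.mul_smul, Matrix.smul_mul, Finset.mul_sum, Finset.sum_mul, hSK]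
  have hSS : S * S = 1 := by
    rw [hS]
    ext i j
    simp [S, Matrix.one_apply]
  let Q := S * P
  have hPQ : P * Q = Q := by
    simp only [Q, ← mul_assoc, ← hSP]
    rw [mul_assoc, hPP]
  have hQP : Q * P = Q := by simp only [Q, mul_assoc, hPP]
  have hQQ : Q * Q = P := by
    calc Q * Q = S * (P * Q) := by simp only [Q, mul_assoc]
      _ = (S * S) * P := by rw [hPQ]; simp only [Q, mul_assoc]
      _ = P := by rw [hSS, one_mul]
  let E := (2 : ℂ)⁻¹ • (P + Q)
  have hE : E * E = E := by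
    simp only [E, Matrix.smul_mul, Matrix.mul_smul, smul_smul, mul_add, add_mul, hPP, hPQ, hQP, hQQ]
    module
  obtain ⟨e, he⟩ := trace_idem E hE
  obtain ⟨p, hp⟩ := trace_idem P hPP
  have hQ : Matrix.trace Q = nu (fun g => Matrix.trace (A g)) := by
    have h1 : Q = c • ∑ g, S * K g := by
      simp only [Q, P, Matrix.mul_smul, Finset.mul_sum]
    rw [h1, Matrix.trace_smul, Matrix.trace_sum, nu, smul_eq_mul]
    congr 1
    refine Finset.sum_congr rfl fun g _ => ?_
    rw [hS]
    simp only [K, Matrix.trace, Matrix.diag, map_mul, Matrix.mul_apply, Matrix.submatrix_apply,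
      Matrix.kroneckerMap_apply, Prod.swap, id_eq, Fintype.sum_prod_type]
    rw [Finset.sum_comm]
  refine ⟨2 * (e : ℤ) - p, ?_⟩
  rw [← hQ]
  push_cast
  rw [← he, ← hp]
  simp only [E, Matrix.trace_smul, Matrix.trace_add, smul_eq_mul]
  ring

theorem nu_int {χ : G → ℂ} (hχ : Cfsg.IsCharacter G χ) : ∃ z : ℤ, nu χ = z := by
  classical
  obtain ⟨n, ρ, rfl⟩ := hχ
  let A : G →* Matrix (Fin n) (Fin n) ℂ :=
    (LinearMap.toMatrixAlgEquiv' (R := ℂ) (n := Fin n)).toMonoidHom.comp ρ
  have : ρ.character = fun g => Matrix.trace (A g) := by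
    funext g
    rw [Representation.character, LinearMap.trace_eq_matrix_trace ℂ (Pi.basisFun ℂ (Fin n)),
      LinearMap.toMatrix_eq_toMatrix']
    rfl
  rw [this]
  exact nu_hom_int A

/-- The Frobenius–Schur count of the solutions of `x * x = 1`. -/
theorem sum_apply_one_mul_nu :
    ∑ χ : Cfsg.IrrCharacter G, (χ : G → ℂ) 1 * nu (χ : G → ℂ) =
      (Nat.card {x : G // x * x = 1} : ℂ) := by
  classical
  have hG : (Nat.card G : ℂ) ≠ 0 := Nat.cast_ne_zero.2 Nat.card_pos.ne'
  have h1 : ∀ g : G, ∑ χ : Cfsg.IrrCharacter G, (χ : G → ℂ) (g * g) * (χ : G → ℂ) 1 =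
      if g * g = 1 then (Nat.card G : ℂ) else 0 := by
    intro g
    have h := CharBasicOrth.sum_irr_mul_conj (g * g) 1
    have hc : ∀ χ : Cfsg.IrrCharacter G, conj ((χ : G → ℂ) 1) = (χ : G → ℂ) 1 := by
      intro χ
      obtain ⟨m, ρ, -, hρ⟩ := χ.2
      rw [← hρ, Representation.char_one, Complex.conj_natCast]
    simp only [hc] at h
    rw [h]
    by_cases hg : g * g = 1
    · rw [if_pos (hg ▸ IsConj.refl _), if_pos hg, hg]
      congr 1
      refine Nat.card_congr (Equiv.subtypeUnivEquiv fun x => ?_)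
      simp [Subgroup.mem_centralizer_singleton_iff]
    · rw [if_neg hg, if_neg (fun hh => hg (isConj_one_left.mp hh))]
  simp only [nu, Finset.mul_sum]
  rw [Finset.sum_comm]
  calc ∑ g : G, ∑ χ : Cfsg.IrrCharacter G, (χ : G → ℂ) 1 * ((Nat.card G : ℂ)⁻¹ * (χ : G → ℂ) (g * g))
      = ∑ g : G, (Nat.card G : ℂ)⁻¹ * (if g * g = 1 then (Nat.card G : ℂ) else 0) := by
        refine Finset.sum_congr rfl fun g _ => ?_
        rw [← h1 g, Finset.mul_sum]
        exact Finset.sum_congr rfl fun χ _ => by ring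
    _ = _ := by
        rw [Nat.card_eq_fintype_card (α := {x : G // x * x = 1}), Fintype.card_subtype]
        simp only [mul_ite, mul_zero, inv_mul_cancel₀ hG]
        rw [← Finset.sum_filter, Finset.sum_const, nsmul_eq_mul, mul_one]

omit [Fintype G] in
theorem linear_sq_apply (lam : G →* ℂˣ) (h : lam * lam = 1) (g : G) : lam (g * g) = 1 := by
  rw [map_mul]
  exact DFunLike.congr_fun h g

/-- The indicator is invariant under twisting by linear characters of order dividing two. -/
theorem nu_mul_linear (χ : G → ℂ) (lam : G →* ℂˣ) (h : lam * lam = 1) :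
    nu (fun g => χ g * (lam g : ℂ)) = nu χ := by
  simp only [nu, linear_sq_apply lam h, Units.val_one, mul_one]

end Cfsg.Agent.FSIndicatorSum
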