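import Mathlib

/-!
# The centralizer of an involution in a group with a Klein four Sylow 2-subgroup

For an involution `J` of a Sylow 2-subgroup `P` of exponent two and order four, the elements of odd
order of `C = C_G(J)` form a normal subgroup of index four, and every other coset of it contains
exactly `|C| / |C_G(P)|` involutions.
-/

set_option autoImplicit false

namespace Cfsg.Agent.KleinFourLocal79

universe u

variable {G : Type u} [Group G] [Finite G]

/-- The 2-elements square to one. -/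
theorem mul_self_of_two_el (P : Sylow 2 G) (hexp : ∀ x : P, x * x = 1) {g : G}
    (hg : ∃ k : ℕ, orderOf g = 2 ^ k) : g * g = 1 := by
  haveI : Fact (Nat.Prime 2) := ⟨Nat.prime_two⟩
  obtain ⟨k, hk⟩ := hg
  obtain ⟨Q, hQ⟩ := IsPGroup.exists_le_sylow
    (IsPGroup.of_card (n := k) (by rw [Nat.card_zpowers, hk]) : IsPGroup 2 (Subgroup.zpowers g))
  have hgQ : g ∈ Q := hQ (Subgroup.mem_zpowers g)
  let e := Sylow.equiv Q P
  have h := hexp (e ⟨g, hgQ⟩)
  rw [← map_mul] at h
  exact congrArg Subtype.val (e.map_eq_one_iff.1 h)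

theorem comm_of_exp (P : Sylow 2 G) (hexp : ∀ x : P, x * x = 1) (a b : P) : a * b = b * a := by
  have ha : a⁻¹ = a := inv_eq_of_mul_eq_one_right (hexp a)
  have hb : b⁻¹ = b := inv_eq_of_mul_eq_one_right (hexp b)
  have hab : (a * b)⁻¹ = a * b := inv_eq_of_mul_eq_one_right (hexp (a * b))
  rwa [mul_inv_rev, ha, hb, eq_comm] at hab

theorem le_centralizer (P : Sylow 2 G) (hexp : ∀ x : P, x * x = 1) {J : G} (hJ : J ∈ (P : Subgroup G)) :
    (P : Subgroup G) ≤ Subgroup.centralizer ({J} : Set G) := fun x hx =>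
  Subgroup.mem_centralizer_singleton_iff.2 (congrArg Subtype.val (comm_of_exp P hexp ⟨x, hx⟩ ⟨J, hJ⟩))

/-- The element set of `P` in terms of `J` and any other involution of `P`. -/
theorem eq_of_mem (P : Sylow 2 G) (hP4 : Nat.card P = 4) (hexp : ∀ x : P, x * x = 1) {J t : G}
    (hJ : J ∈ (P : Subgroup G)) (ht : t ∈ (P : Subgroup G)) (hJ1 : J ≠ 1) (ht1 : t ≠ 1) (htJ : t ≠ J)
    {x : G} (hx : x ∈ (P : Subgroup G)) : x = 1 ∨ x = J ∨ x = t ∨ x = J * t := by
  classical
  by_contra hc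
  push Not at hc
  have hJJ : J * J = 1 := congrArg Subtype.val (hexp ⟨J, hJ⟩)
  have h5 : ({⟨1, one_mem _⟩, ⟨J, hJ⟩, ⟨t, ht⟩, ⟨J * t, mul_mem hJ ht⟩, ⟨x, hx⟩} : Finset P).card = 5 := by
    have hJt1 : J * t ≠ 1 := fun h => htJ (by
      calc t = J * J * t := by rw [hJJ, one_mul]
        _ = J := by rw [mul_assoc, h, mul_one])
    have hJtJ : J * t ≠ J := fun h => ht1 (mul_eq_left.1 h)
    have hJtt : J * t ≠ t := fun h => hJ1 (mul_eq_right.1 h)
    rw [Finset.card_insert_of_notMem, Finset.card_insert_of_notMem, Finset.card_insert_of_notMem,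
      Finset.card_insert_of_notMem, Finset.card_singleton]
    · simp [hc.2.2.2.symm]
    · simp [hc.2.2.1.symm, hJtt.symm]
    · simp [hc.2.1.symm, hJtJ.symm, htJ.symm]
    · simp [hc.1.symm, hJt1.symm, ht1.symm, hJ1.symm]
  have hfin : Fintype P := Fintype.ofFinite _
  have := Finset.card_le_univ ({⟨1, one_mem _⟩, ⟨J, hJ⟩, ⟨t, ht⟩, ⟨J * t, mul_mem hJ ht⟩, ⟨x, hx⟩} : Finset P)
  rw [h5, ← Nat.card_eq_fintype_card, hP4] at this
  omega

theorem centralizer_inf (P : Sylow 2 G) (hP4 : Nat.card P = 4) (hexp : ∀ x : P, x * x = 1) {J t : G}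
    (hJ : J ∈ (P : Subgroup G)) (ht : t ∈ (P : Subgroup G)) (hJ1 : J ≠ 1) (ht1 : t ≠ 1) (htJ : t ≠ J) :
    Subgroup.centralizer ((P : Subgroup G) : Set G) =
      Subgroup.centralizer ({J} : Set G) ⊓ Subgroup.centralizer ({t} : Set G) := by
  ext g
  rw [Subgroup.mem_inf, Subgroup.mem_centralizer_singleton_iff, Subgroup.mem_centralizer_singleton_iff,
    Subgroup.mem_centralizer_iff]
  refine ⟨fun h => ⟨(h J hJ).symm, (h t ht).symm⟩, fun ⟨h1, h2⟩ x hx => ?_⟩
  rcases eq_of_mem P hP4 hexp hJ ht hJ1 ht1 htJ hx with h | h | h | h <;> subst h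
  · simp
  · exact h1.symm
  · exact h2.symm
  · exact ((Commute.mul_right (show Commute g J from h1) (show Commute g t from h2))).symm.eq

/-- The odd core of the centralizer of an involution. -/
theorem exists_odd_subgroup (P : Sylow 2 G) (hP4 : Nat.card P = 4) (hexp : ∀ x : P, x * x = 1) {J : G}
    (hJ : J ∈ (P : Subgroup G)) (hJ1 : J ≠ 1) :
    ∃ N : Subgroup (Subgroup.centralizer ({J} : Set G)), N.Normal ∧ ¬ 2 ∣ Nat.card N ∧ N.index = 4 ∧
      (∀ y, y ∈ N ↔ ¬ 2 ∣ orderOf y) ∧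
      ∀ c : Subgroup.centralizer ({J} : Set G), ∃ x : Subgroup.centralizer ({J} : Set G),
        (x : G) ∈ (P : Subgroup G) ∧ x⁻¹ * c ∈ N := by
  classical
  haveI : Fact (Nat.Prime 2) := ⟨Nat.prime_two⟩
  set C := Subgroup.centralizer ({J} : Set G) with hC
  have hPC : (P : Subgroup G) ≤ C := le_centralizer P hexp hJ
  let Q : Sylow 2 C := P.subtype hPC
  have hmemQ : ∀ x : C, x ∈ (Q : Subgroup C) ↔ (x : G) ∈ (P : Subgroup G) := fun x => Iff.rfl
  have hQ4 : Nat.card Q = 4 := by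
    rw [← hP4]
    exact Nat.card_congr
      { toFun := fun x => ⟨((x : C) : G), (hmemQ x).1 x.2⟩
        invFun := fun x => ⟨⟨(x : G), hPC x.2⟩, (hmemQ _).2 x.2⟩
        left_inv := fun _ => rfl
        right_inv := fun _ => rfl }
  have hQc : ∀ a ∈ (Q : Subgroup C), ∀ b ∈ (Q : Subgroup C), a * b = b * a := fun a ha b hb =>
    Subtype.ext (congrArg Subtype.val (comm_of_exp P hexp ⟨(a : G), ha⟩ ⟨(b : G), hb⟩) :)
  have hN : Subgroup.normalizer ((Q : Subgroup C) : Set C) ≤ Subgroup.centralizer ((Q : Subgroup C) : Set C) := by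
    intro n hn
    have hJC : J ∈ C := hPC hJ
    have hnJ : n * ⟨J, hJC⟩ * n⁻¹ = ⟨J, hJC⟩ := by
      refine Subtype.ext ?_
      push_cast
      rw [Subgroup.mem_centralizer_singleton_iff.1 n.2, mul_inv_cancel_right]
    obtain ⟨t, ht, ht1, htJ⟩ : ∃ t ∈ (P : Subgroup G), t ≠ 1 ∧ t ≠ J := by
      by_contra! hcon
      haveI : Fintype P := Fintype.ofFinite _
      have hle := Finset.card_le_card (s := (Finset.univ : Finset P)) (t := {⟨1, one_mem _⟩, ⟨J, hJ⟩})
        fun x _ => by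
          by_cases hx1 : (x : G) = 1
          · exact Finset.mem_insert.2 (Or.inl (Subtype.ext hx1))
          · exact Finset.mem_insert.2 (Or.inr (Finset.mem_singleton.2 (Subtype.ext (hcon x x.2 hx1))))
      have h2 := hle.trans Finset.card_le_two
      rw [Finset.card_univ, ← Nat.card_eq_fintype_card, hP4] at h2
      omega
    have htC : t ∈ C := hPC ht
    have hpow : ∀ i : ℕ, n ^ i * ⟨J, hJC⟩ * (n ^ i)⁻¹ = ⟨J, hJC⟩ := by
      intro i
      induction i with
      | zero => simp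
      | succ i ih =>
        calc n ^ (i + 1) * ⟨J, hJC⟩ * (n ^ (i + 1))⁻¹ = n ^ i * (n * ⟨J, hJC⟩ * n⁻¹) * (n ^ i)⁻¹ := by
              rw [pow_succ]; group
          _ = _ := by rw [hnJ, ih]
    have hmem : ∀ m ∈ Subgroup.normalizer ((Q : Subgroup C) : Set C), m * ⟨J, hJC⟩ * m⁻¹ = ⟨J, hJC⟩ →
        ((m * ⟨t, htC⟩ * m⁻¹ : C) : G) = t ∨ ((m * ⟨t, htC⟩ * m⁻¹ : C) : G) = J * t := by
      intro m hm hmJ
      have h := (Subgroup.mem_normalizer_iff.1 hm ⟨t, htC⟩).1 ht
      rcases eq_of_mem P hP4 hexp hJ ht hJ1 ht1 htJ ((hmemQ _).1 h) with e | e | e | e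
      · exfalso
        have e' : m * ⟨t, htC⟩ * m⁻¹ = 1 := Subtype.ext e
        exact ht1 (congrArg Subtype.val (conj_eq_one_iff.1 e'))
      · exfalso
        have e' : m * ⟨t, htC⟩ * m⁻¹ = m * ⟨J, hJC⟩ * m⁻¹ := by rw [hmJ]; exact Subtype.ext e
        exact htJ (congrArg Subtype.val (mul_left_cancel (mul_right_cancel e') :))
      · exact Or.inl e
      · exact Or.inr e
    have hfix : n * ⟨t, htC⟩ * n⁻¹ = ⟨t, htC⟩ := by
      rcases hmem n hn hnJ with e | e
      · exact Subtype.ext e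
      exfalso
      -- then `n ^ 2` fixes `t`, while some odd power of `n` has two-power order
      have hn1 : n * ⟨t, htC⟩ * n⁻¹ = ⟨J, hJC⟩ * ⟨t, htC⟩ := Subtype.ext e
      have hJJ : (⟨J, hJC⟩ : C) * ⟨J, hJC⟩ = 1 := Subtype.ext (congrArg Subtype.val (hexp ⟨J, hJ⟩) :)
      have hn2 : n ^ 2 * ⟨t, htC⟩ * (n ^ 2)⁻¹ = ⟨t, htC⟩ := by
        calc n ^ 2 * ⟨t, htC⟩ * (n ^ 2)⁻¹ = n * (n * ⟨t, htC⟩ * n⁻¹) * n⁻¹ := by rw [pow_two]; group
          _ = n * (⟨J, hJC⟩ * ⟨t, htC⟩) * n⁻¹ := by rw [hn1]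
          _ = (n * ⟨J, hJC⟩ * n⁻¹) * (n * ⟨t, htC⟩ * n⁻¹) := by group
          _ = _ := by rw [hnJ, hn1, ← mul_assoc, hJJ, one_mul]
      have hodd : ∀ j : ℕ, n ^ (2 * j + 1) * ⟨t, htC⟩ * (n ^ (2 * j + 1))⁻¹ = ⟨J, hJC⟩ * ⟨t, htC⟩ := by
        intro j
        induction j with
        | zero => simpa using hn1
        | succ j ih =>
          calc n ^ (2 * (j + 1) + 1) * ⟨t, htC⟩ * (n ^ (2 * (j + 1) + 1))⁻¹
              = n ^ (2 * j + 1) * (n ^ 2 * ⟨t, htC⟩ * (n ^ 2)⁻¹) * (n ^ (2 * j + 1))⁻¹ := by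
                rw [show 2 * (j + 1) + 1 = (2 * j + 1) + 2 by ring, pow_add]; group
            _ = _ := by rw [hn2, ih]
      obtain ⟨k, l, hl, hkl⟩ := Nat.exists_eq_two_pow_mul_odd (orderOf_pos n).ne'
      obtain ⟨j, rfl⟩ := hl
      -- `u := n ^ (2 j + 1)` is a 2-element of the normalizer, hence lies in `Q`
      set u := n ^ (2 * j + 1) with hu
      have hu2 : u ^ 2 ^ k = 1 := by rw [hu, ← pow_mul, mul_comm, ← hkl, pow_orderOf_eq_one]
      have huN : u ∈ Subgroup.normalizer ((Q : Subgroup C) : Set C) := Subgroup.pow_mem _ hn _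
      have hup : IsPGroup 2 (Subgroup.zpowers u) := by
        obtain ⟨i, -, hi⟩ := (Nat.dvd_prime_pow Nat.prime_two).1 (orderOf_dvd_of_pow_eq_one hu2)
        exact IsPGroup.of_card (n := i) (by rw [Nat.card_zpowers, hi])
      have hsup : IsPGroup 2 ((Subgroup.zpowers u ⊔ (Q : Subgroup C) : Subgroup C)) :=
        hup.to_sup_of_normal_right' Q.isPGroup' (Subgroup.zpowers_le.2 huN)
      have huQ : u ∈ (Q : Subgroup C) := by
        rw [← Q.is_maximal' hsup le_sup_right]
        exact Subgroup.mem_sup_left (Subgroup.mem_zpowers u)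
      have h1 := hodd j
      rw [← hu, hQc u huQ ⟨t, htC⟩ ht, mul_inv_cancel_right] at h1
      exact hJ1 (congrArg Subtype.val (right_eq_mul.1 h1) :)
    refine Subgroup.mem_centralizer_iff.2 fun x hx => ?_
    rcases eq_of_mem P hP4 hexp hJ ht hJ1 ht1 htJ ((hmemQ x).1 hx) with e | e | e | e
    · rw [show x = 1 from Subtype.ext e]; simp
    · rw [show x = ⟨J, hJC⟩ from Subtype.ext e]; exact (mul_inv_eq_iff_eq_mul.1 hnJ).symm
    · rw [show x = ⟨t, htC⟩ from Subtype.ext e]; exact (mul_inv_eq_iff_eq_mul.1 hfix).symm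
    · rw [show x = ⟨J, hJC⟩ * ⟨t, htC⟩ from Subtype.ext e]
      exact (Commute.mul_left (show Commute ⟨J, hJC⟩ n from (mul_inv_eq_iff_eq_mul.1 hnJ).symm)
        (show Commute ⟨t, htC⟩ n from (mul_inv_eq_iff_eq_mul.1 hfix).symm)).eq
  have hcompl := MonoidHom.ker_transferSylow_isComplement' Q hN
  set N := (MonoidHom.transferSylow Q hN).ker with hNdef
  have hidx : N.index = 4 := by rw [← hQ4]; exact hcompl.symm.index_eq_card
  have hcard : ¬ 2 ∣ Nat.card N := MonoidHom.not_dvd_card_ker_transferSylow Q hN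
  refine ⟨N, inferInstance, hcard, hidx, fun y => ⟨fun hy h2 => hcard (h2.trans ?_), fun hy => ?_⟩, fun c => ?_⟩
  · rw [← Subgroup.orderOf_mk y hy]; exact orderOf_dvd_natCard _
  · rw [← QuotientGroup.eq_one_iff, ← orderOf_eq_one_iff]
    have h1 : orderOf (y : C ⧸ N) ∣ orderOf y := orderOf_map_dvd (QuotientGroup.mk' N) y
    have h2 : orderOf (y : C ⧸ N) ∣ 4 := by
      have := orderOf_dvd_natCard (y : C ⧸ N)
      rwa [← Subgroup.index_eq_card, hidx] at this
    have hcop : Nat.Coprime (orderOf y) 4 :=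
      (Nat.Prime.coprime_iff_not_dvd Nat.prime_two).2 hy |>.symm.pow_right 2
    exact Nat.eq_one_of_dvd_coprimes hcop h1 h2
  · obtain ⟨⟨x, m⟩, hxm⟩ := hcompl.symm.2 c
    refine ⟨(x : C), (hmemQ _).1 x.2, ?_⟩
    have : ((x : C))⁻¹ * c = m := by rw [← hxm]; simp
    rw [this]
    exact m.2

/-- Involutions in a coset of the odd core. -/
theorem card_involutions_coset (P : Sylow 2 G) (hP4 : Nat.card P = 4) (hexp : ∀ x : P, x * x = 1)
    {J t : G} (hJ : J ∈ (P : Subgroup G)) (ht : t ∈ (P : Subgroup G)) (hJ1 : J ≠ 1) (ht1 : t ≠ 1)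
    (htJ : t ≠ J) (N : Subgroup (Subgroup.centralizer ({J} : Set G))) [N.Normal]
    (hN : ∀ y, y ∈ N ↔ ¬ 2 ∣ orderOf y)
    (hrep : ∀ c : Subgroup.centralizer ({J} : Set G), ∃ x : Subgroup.centralizer ({J} : Set G),
        (x : G) ∈ (P : Subgroup G) ∧ x⁻¹ * c ∈ N)
    (tc : Subgroup.centralizer ({J} : Set G)) (htc : (tc : G) = t) :
    Nat.card {u : Subgroup.centralizer ({J} : Set G) // u * u = 1 ∧ u⁻¹ * tc ∈ N} *
      Nat.card (Subgroup.centralizer ((P : Subgroup G) : Set G)) =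
      Nat.card (Subgroup.centralizer ({J} : Set G)) := by
  classical
  haveI : Fact (Nat.Prime 2) := ⟨Nat.prime_two⟩
  have hPC := le_centralizer P hexp hJ
  let q := QuotientGroup.mk' N
  have hq : ∀ a b : Subgroup.centralizer ({J} : Set G), q a = q b ↔ a⁻¹ * b ∈ N := fun a b =>
    QuotientGroup.eq
  have hinj : ∀ a b : Subgroup.centralizer ({J} : Set G), (a : G) ∈ (P : Subgroup G) →
      (b : G) ∈ (P : Subgroup G) → a⁻¹ * b ∈ N → a = b := by
    intro a b ha hb hab
    have h2 : (a⁻¹ * b) * (a⁻¹ * b) = 1 := Subtype.ext (congrArg Subtype.val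
      (hexp ⟨((a⁻¹ * b : Subgroup.centralizer ({J} : Set G)) : G), mul_mem (inv_mem ha) hb⟩) :)
    rcases (Nat.dvd_prime Nat.prime_two).1
      (orderOf_dvd_of_pow_eq_one (show (a⁻¹ * b) ^ 2 = 1 by rw [pow_two, h2])) with h | h
    · exact inv_mul_eq_one.1 (orderOf_eq_one_iff.1 h)
    · exact absurd (dvd_of_eq h.symm) ((hN _).1 hab)
  have hqconj : ∀ c : Subgroup.centralizer ({J} : Set G), q (c * tc * c⁻¹) = q tc := by
    intro c
    obtain ⟨x, hx, hxc⟩ := hrep c
    have hxc' := (hq x c).2 hxc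
    have hxt : x * tc * x⁻¹ = tc := by
      rw [mul_inv_eq_iff_eq_mul]
      refine Subtype.ext ?_
      push_cast
      rw [htc]
      exact congrArg Subtype.val (comm_of_exp P hexp ⟨(x : G), hx⟩ ⟨t, ht⟩)
    rw [map_mul, map_mul, map_inv, ← hxc', ← map_inv, ← map_mul, ← map_mul, hxt]
  have hset : ∀ u : Subgroup.centralizer ({J} : Set G), (u * u = 1 ∧ u⁻¹ * tc ∈ N) ↔ IsConj tc u := by
    intro u
    constructor
    · rintro ⟨hu, hmem⟩
      have huPg : IsPGroup 2 (Subgroup.zpowers u) := by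
        obtain ⟨i, -, hi⟩ := (Nat.dvd_prime_pow Nat.prime_two).1
          (orderOf_dvd_of_pow_eq_one (show u ^ 2 ^ 1 = 1 by rw [pow_one, pow_two, hu]))
        exact IsPGroup.of_card (n := i) (by rw [Nat.card_zpowers, hi])
      obtain ⟨R, hR⟩ := huPg.exists_le_sylow
      obtain ⟨c, hc⟩ := MulAction.exists_smul_eq (Subgroup.centralizer ({J} : Set G)) R (P.subtype hPC)
      have hcu : c * u * c⁻¹ ∈ ((P.subtype hPC : Sylow 2 _) : Subgroup (Subgroup.centralizer ({J} : Set G))) := by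
        rw [← hc, Sylow.coe_subgroup_smul, Subgroup.mem_pointwise_smul_iff_inv_smul_mem]
        simpa [MulAut.conj_inv_apply, mul_assoc] using hR (Subgroup.mem_zpowers u)
      have hy : c * u * c⁻¹ = tc := by
        refine hinj _ tc hcu (htc ▸ ht) ((hq _ _).1 ?_)
        rw [map_mul, map_mul, (hq u tc).2 hmem, ← map_mul, ← map_mul, hqconj]
      exact isConj_iff.2 ⟨c⁻¹, by rw [← hy]; group⟩
    · intro h
      obtain ⟨c, rfl⟩ := isConj_iff.1 h
      have htt : tc * tc = 1 := Subtype.ext (by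
        push_cast; rw [htc]; exact congrArg Subtype.val (hexp ⟨t, ht⟩))
      refine ⟨?_, (hq _ _).1 (hqconj c)⟩
      calc c * tc * c⁻¹ * (c * tc * c⁻¹) = c * (tc * tc) * c⁻¹ := by group
        _ = 1 := by rw [htt]; group
  rw [Nat.card_congr (Equiv.subtypeEquivRight hset), ← Subgroup.card_mul_index (Subgroup.centralizer ({tc} : Set (Subgroup.centralizer ({J} : Set G)))),
    mul_comm]
  congr 1
  · rw [centralizer_inf P hP4 hexp hJ ht hJ1 ht1 htJ]
    exact Nat.card_congr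
      { toFun := fun g => ⟨⟨(g : G), g.2.1⟩, Subgroup.mem_centralizer_singleton_iff.2 (Subtype.ext (by
          push_cast; rw [htc]; exact Subgroup.mem_centralizer_singleton_iff.1 g.2.2))⟩
        invFun := fun g => ⟨((g.1 : Subgroup.centralizer ({J} : Set G)) : G), g.1.2,
          Subgroup.mem_centralizer_singleton_iff.2 (by
            have h := congrArg Subtype.val (Subgroup.mem_centralizer_singleton_iff.1 g.2)
            push_cast at h
            rwa [htc] at h)⟩
        left_inv := fun _ => rfl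
        right_inv := fun _ => rfl }
  · have hs : MulAction.orbit (ConjAct (Subgroup.centralizer ({J} : Set G))) tc =
        {g | IsConj tc g} := by
      ext g; rw [ConjAct.mem_orbit_conjAct]; exact isConj_comm
    calc Nat.card {g // IsConj tc g} = (MulAction.orbit (ConjAct _) tc).ncard := by rw [hs]; rfl
      _ = (MulAction.stabilizer (ConjAct _) tc).index := (MulAction.index_stabilizer _ _).symm
      _ = _ := by rw [ConjAct.stabilizer_eq_centralizer]; rfl

end Cfsg.Agent.KleinFourLocal79
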