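import Mathlib
import Cfsg.Prelude.Def_BlockRank
import Cfsg.Agent.Lib.BlockTheoryInduced
import Cfsg.Agent.Lib.BlockContrib

/-!
# Subsections: the characters of a block and the block ranks of centralizers of `p`-elements
-/

set_option autoImplicit false

open scoped ComplexConjugate

namespace Cfsg.Agent.BlockSubsections79

open Cfsg BlockTheoryLocalRing BlockTheoryCentre BlockTheoryIdem BlockTheoryBrauer BlockTheoryInduced
  BlockContribPrime BlockContrib

attribute [local instance] Classical.propDecidable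

universe u

variable {p : ℕ} {M : Ideal AlgInt}

section Proj

variable {C : Type u} [Group C] [Fintype C]

/-- The projection of a function to the regular part of a block. -/
noncomputable def proj (p : ℕ) (b : Set (IrrCharacter C)) : (C → ℂ) →ₗ[ℂ] (C → ℂ) where
  toFun F := ∑ ψ : IrrCharacter C,
    (if ψ ∈ b then classInner F (ψ : C → ℂ) else 0) • pRegularPart p (ψ : C → ℂ)
  map_add' F F' := by
    rw [← Finset.sum_add_distrib]
    refine Finset.sum_congr rfl fun ψ _ => ?_
    split_ifs <;> simp [CharBasicOrth.classInner_add_left, add_smul]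
  map_smul' c F := by
    rw [RingHom.id_apply, Finset.smul_sum]
    refine Finset.sum_congr rfl fun ψ _ => ?_
    split_ifs <;> simp [CharBasicOrth.classInner_smul_left, smul_smul]

/-- The span of the regular parts of the members of a block. -/
noncomputable def regSpan (p : ℕ) (b : Set (IrrCharacter C)) : Submodule ℂ (C → ℂ) :=
  Submodule.span ℂ ((fun χ : IrrCharacter C => pRegularPart p (χ : C → ℂ)) '' b)

theorem proj_mem (b : Set (IrrCharacter C)) (F : C → ℂ) : proj p b F ∈ regSpan p b := by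
  refine Submodule.sum_mem _ fun ψ _ => ?_
  split_ifs with h
  · exact Submodule.smul_mem _ _ (Submodule.subset_span ⟨ψ, h, rfl⟩)
  · rw [zero_smul]; exact Submodule.zero_mem _

theorem proj_irr (b : Set (IrrCharacter C)) (φ : IrrCharacter C) :
    proj p b (φ : C → ℂ) = if φ ∈ b then pRegularPart p (φ : C → ℂ) else 0 := by
  show ∑ ψ : IrrCharacter C, _ = _
  rw [Finset.sum_eq_single φ]
  · rw [CharBasicOrth.classInner_irr_self φ.2]
    split_ifs <;> simp
  · intro ψ _ hne
    rw [CharBasicOrth.classInner_irr_ne φ.2 ψ.2 fun e => hne (Subtype.ext e.symm)]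
    simp
  · simp

/-- The projection only depends on the values at regular elements. -/
theorem proj_congr (hM : IsPModular p M) {b : Set (IrrCharacter C)} (hb : IsPBlock M b) {F F' : C → ℂ}
    (h : ∀ y : C, ¬ p ∣ orderOf y → F y = F' y) : proj p b F = proj p b F' := by
  funext y
  have key : ∀ E : C → ℂ, proj p b E y = if ¬ p ∣ orderOf y then (Nat.card C : ℂ)⁻¹ *
      ∑ ψ : IrrCharacter C, (if ψ ∈ b then (ψ : C → ℂ) y * ((Nat.card C : ℂ) * classInner E ψ) else 0)
      else 0 := by
    intro E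
    simp only [proj, LinearMap.coe_mk, AddHom.coe_mk, Finset.sum_apply, Pi.smul_apply, smul_eq_mul,
      pRegularPart, IsPRegular]
    have hC : (Nat.card C : ℂ) ≠ 0 := Nat.cast_ne_zero.2 Nat.card_pos.ne'
    by_cases hy : p ∣ orderOf y
    · simp [hy]
    · simp only [hy, not_false_eq_true, if_true]
      rw [Finset.mul_sum]
      refine Finset.sum_congr rfl fun ψ _ => ?_
      split_ifs
      · field_simp
      · simp
  rw [key F, key F']
  by_cases hy : p ∣ orderOf y
  · simp [hy]
  · rw [← regSum_kernel hM hb F hy, ← regSum_kernel hM hb F' hy, regSum_eq, regSum_eq]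
    rw [if_pos hy, if_pos hy]
    refine congrArg _ (Finset.sum_congr rfl fun t _ => ?_)
    by_cases ht : p ∣ orderOf t
    · simp [ht]
    · rw [if_pos ht, if_pos ht, h t ht]

theorem proj_regSpan (hM : IsPModular p M) {b c : Set (IrrCharacter C)} (hb : IsPBlock M b)
    (hc : IsPBlock M c) {F : C → ℂ} (hF : F ∈ regSpan p c) :
    proj p b F = if b = c then F else 0 := by
  induction hF using Submodule.span_induction with
  | mem F hF =>
    obtain ⟨φ, hφ, rfl⟩ := hF
    rw [proj_congr hM hb (F' := (φ : C → ℂ)) fun y hy => by simp [pRegularPart, IsPRegular, hy], proj_irr]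
    by_cases he : b = c
    · rw [if_pos he, if_pos (he ▸ hφ)]
    · rw [if_neg he, if_neg fun hm => he (block_eq_of_mem hM hb hc hm hφ)]
  | zero => simp
  | add F F' _ _ h h' => rw [map_add, h, h']; split_ifs <;> simp
  | smul a F _ h => rw [map_smul, h]; split_ifs <;> simp

/-- A class function vanishes on the regular elements when all its block projections do. -/
theorem eq_zero_of_proj (hM : IsPModular p M) {F : C → ℂ} (hF : IsClassFunction C F)
    (h : ∀ b, IsPBlock M b → proj p b F = 0) {y : C} (hy : ¬ p ∣ orderOf y) : F y = 0 := by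
  conv_lhs => rw [CharBasicOrth.eq_sum_classInner hF]
  rw [Finset.sum_apply, ← Finset.sum_fiberwise Finset.univ (fun ψ : IrrCharacter C => blockOf M (ψ : C → ℂ))]
  refine Finset.sum_eq_zero fun b _ => ?_
  by_cases hb : IsPBlock M b
  · have h1 := congrFun (h b hb) y
    simp only [proj, LinearMap.coe_mk, AddHom.coe_mk, Finset.sum_apply, Pi.smul_apply, smul_eq_mul,
      pRegularPart, IsPRegular, if_pos hy, Pi.zero_apply] at h1
    rw [← h1, Finset.sum_filter]
    refine Finset.sum_congr rfl fun ψ _ => ?_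
    by_cases hψ : ψ ∈ b
    · simp [if_pos hψ, ← eq_blockOf_of_mem hM hb hψ, hy]
    · rw [if_neg fun e : blockOf M (ψ : C → ℂ) = b => hψ (e ▸ self_mem_blockOf hM ψ), if_neg hψ, zero_mul]
  · refine Finset.sum_eq_zero fun ψ hψ => absurd ?_ hb
    rw [← (Finset.mem_filter.1 hψ).2]
    exact isPBlock_blockOf ψ

end Proj

variable {G : Type u} [Group G] [Fintype G]

/-- A function restricted to the section of `x`. -/
noncomputable def sec (x : G) : (G → ℂ) →ₗ[ℂ] ((Subgroup.centralizer ({x} : Set G)) → ℂ) where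
  toFun f y := f (x * y)
  map_add' _ _ := rfl
  map_smul' _ _ := rfl

theorem isClassFunction_sec {f : G → ℂ} (hf : IsClassFunction G f) (x : G) :
    IsClassFunction _ (sec x f) := by
  intro y c
  have hc : (c : G) * x = x * c := Subgroup.mem_centralizer_singleton_iff.1 c.2
  show f (x * ((c * y * c⁻¹ : Subgroup.centralizer ({x} : Set G)) : G)) = f (x * y)
  rw [← hf (x * (y : G)) c]
  push_cast
  congr 1
  calc x * ((c : G) * y * (c : G)⁻¹) = (x * c) * y * (c : G)⁻¹ := by group
    _ = (c : G) * (x * y) * (c : G)⁻¹ := by rw [← hc]; group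

/-- Characters outside the induced block project to zero on a section. -/
theorem proj_sec_eq_zero (hM : IsPModular p M) {x : G} (hx : ∃ k : ℕ, orderOf x = p ^ k)
    {b : Set (IrrCharacter (Subgroup.centralizer ({x} : Set G)))} {B : Set (IrrCharacter G)}
    (hind : IsInducedBlock M _ b B) {χ : IrrCharacter G} (hχ : χ ∉ B) :
    proj p b (sec x (χ : G → ℂ)) = 0 := by
  funext y
  simp only [proj, LinearMap.coe_mk, AddHom.coe_mk, Finset.sum_apply, Pi.smul_apply, smul_eq_mul,
    pRegularPart, IsPRegular, Pi.zero_apply]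
  by_cases hy : p ∣ orderOf y
  · simp [hy]
  simp only [hy, not_false_eq_true, if_true]
  have hxy : Commute x (y : G) := (Subgroup.mem_centralizer_singleton_iff.1 y.2).symm
  let g : Subgroup.centralizer ({x} : Set G) := ⟨x * y, Subgroup.mul_mem _
    (Subgroup.mem_centralizer_singleton_iff.2 rfl) y.2⟩
  have hpart : IsPPart p (g : G) x := ⟨y, rfl, hxy, hx, by rwa [Subgroup.orderOf_coe]⟩
  have h := second_main_sum _ hM hind g (fun z hz => by rw [pPart_unique hM.1 hz hpart]) χ hχ
  have h2 := sum_blockCoeff_mul b (isClassFunction_sec (irr_classFun χ) x) y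
  have e : ∀ k : Subgroup.centralizer ({x} : Set G),
      (χ : G → ℂ) ((k : G) * (g : G)) = sec x (χ : G → ℂ) (k * y) := by
    intro k
    show (χ : G → ℂ) ((k : G) * (x * y)) = (χ : G → ℂ) (x * ((k * y : Subgroup.centralizer ({x} : Set G)) : G))
    push_cast
    rw [← mul_assoc, Subgroup.mem_centralizer_singleton_iff.1 k.2, mul_assoc]
  simp only [e] at h
  rw [h] at h2
  refine Eq.trans ?_ h2.symm
  refine Finset.sum_congr rfl fun ψ _ => ?_
  split_ifs <;> simp

theorem inducedBlockDefined_centralizer (hM : IsPModular p M) {x : G} (hx : ∃ k : ℕ, orderOf x = p ^ k)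
    {b : Set (IrrCharacter (Subgroup.centralizer ({x} : Set G)))} (hb : IsPBlock M b) :
    ∃ B, IsInducedBlock M (Subgroup.centralizer ({x} : Set G)) b B := by
  obtain ⟨k, hk⟩ := hx
  have hc : Subgroup.centralizer (Subgroup.zpowers x : Set G) = Subgroup.centralizer ({x} : Set G) := by
    ext c
    rw [Subgroup.mem_centralizer_singleton_iff, Subgroup.mem_centralizer_iff]
    refine ⟨fun h => (h x (Subgroup.mem_zpowers x)).symm, fun h w hw => ?_⟩
    obtain ⟨i, rfl⟩ := Subgroup.mem_zpowers_iff.1 hw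
    exact ((show Commute x c from h.symm).zpow_left i).eq
  refine inducedBlockDefined _ hM (P := Subgroup.zpowers x)
    (IsPGroup.of_card (n := k) (by rw [Nat.card_zpowers, hk])) ?_ hc.le ?_ hb
  · exact Subgroup.zpowers_le.2 (Subgroup.mem_centralizer_singleton_iff.2 rfl)
  · rw [← hc]
    exact Subgroup.centralizer_le_normalizer _

/-- A class function with prescribed sections. -/
theorem exists_of_sections (hp : p.Prime) {X : Finset G} (hX : ∀ x ∈ X, ∃ k : ℕ, orderOf x = p ^ k)
    (hXrep : ∀ g : G, (∃ k : ℕ, orderOf g = p ^ k) → ∃! x, x ∈ X ∧ IsConj g x)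
    (W : ∀ x : X, Subgroup.centralizer ({(x : G)} : Set G) → ℂ)
    (hW : ∀ x, IsClassFunction _ (W x)) :
    ∃ f : G → ℂ, IsClassFunction G f ∧
      ∀ (x : X) (y : Subgroup.centralizer ({(x : G)} : Set G)), ¬ p ∣ orderOf y → f ((x : G) * y) = W x y := by
  let E : ∀ _x : X, G → ℂ := fun x g =>
    if h : (x : G)⁻¹ * g ∈ Subgroup.centralizer ({(x : G)} : Set G) ∧ IsPPart p g (x : G) then W x ⟨_, h.1⟩
    else 0
  refine ⟨fun g => ∑ x : X, (Nat.card (Subgroup.centralizer ({(x : G)} : Set G)) : ℂ)⁻¹ *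
    ∑ c : G, E x (c⁻¹ * g * c), fun g h => ?_, fun x y hy => ?_⟩
  · refine Finset.sum_congr rfl fun x _ => congrArg _ ?_
    refine Fintype.sum_equiv (Equiv.mulLeft h⁻¹) _ _ fun c => congrArg (E x) ?_
    simp only [Equiv.coe_mulLeft]
    group
  show (∑ x' : X, _) = _
  have hxy : Commute (x : G) (y : G) := (Subgroup.mem_centralizer_singleton_iff.1 y.2).symm
  have hpart : ∀ c : G, IsPPart p (c⁻¹ * ((x : G) * y) * c) (c⁻¹ * x * c) := by
    intro c
    obtain ⟨k, hk⟩ := hX _ x.2
    refine ⟨c⁻¹ * y * c, by group, ?_, ⟨k, ?_⟩, ?_⟩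
    · show c⁻¹ * x * c * (c⁻¹ * y * c) = c⁻¹ * y * c * (c⁻¹ * x * c)
      calc c⁻¹ * x * c * (c⁻¹ * y * c) = c⁻¹ * ((x : G) * y) * c := by group
        _ = _ := by rw [hxy.eq]; group
    · rw [← hk, show c⁻¹ * (x : G) * c = MulAut.conj c⁻¹ (x : G) by simp, MulEquiv.orderOf_eq]
    · rw [show c⁻¹ * (y : G) * c = MulAut.conj c⁻¹ (y : G) by simp, MulEquiv.orderOf_eq, Subgroup.orderOf_coe]
      exact hy
  have hval : ∀ (x' : X) (c : G), E x' (c⁻¹ * ((x : G) * y) * c) =
      if x' = x ∧ c ∈ Subgroup.centralizer ({(x : G)} : Set G) then W x y else 0 := by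
    intro x' c
    simp only [E]
    by_cases hh : x' = x ∧ c ∈ Subgroup.centralizer ({(x : G)} : Set G)
    · obtain ⟨rfl, hc⟩ := hh
      have hcx : c⁻¹ * (x' : G) * c = x' := by
        rw [mul_assoc, ← Subgroup.mem_centralizer_singleton_iff.1 hc]; group
      have e : (x' : G)⁻¹ * (c⁻¹ * ((x' : G) * y) * c) = c⁻¹ * y * c := by
        rw [show c⁻¹ * ((x' : G) * y) * c = (c⁻¹ * x' * c) * (c⁻¹ * y * c) by group, hcx]; group
      have hmem : (x' : G)⁻¹ * (c⁻¹ * ((x' : G) * y) * c) ∈ Subgroup.centralizer ({(x' : G)} : Set G) := by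
        rw [e]; exact Subgroup.mul_mem _ (Subgroup.mul_mem _ (Subgroup.inv_mem _ hc) y.2) hc
      rw [dif_pos ⟨hmem, by have := hpart c; rwa [hcx] at this⟩, if_pos ⟨rfl, hc⟩]
      rw [← hW x' y (⟨c, hc⟩⁻¹ : Subgroup.centralizer ({(x' : G)} : Set G))]
      refine congrArg (W x') (Subtype.ext ?_)
      push_cast
      rw [e, inv_inv]
    · rw [if_neg hh, dif_neg]
      rintro ⟨-, h2⟩
      refine hh ?_
      have he : (x' : G) = c⁻¹ * x * c := pPart_unique hp h2 (hpart c)
      have hconj : IsConj (x : G) (x' : G) := isConj_iff.2 ⟨c⁻¹, by rw [he]; group⟩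
      obtain ⟨z, -, huniq⟩ := hXrep x (hX _ x.2)
      have hxx : x' = x := Subtype.ext ((huniq _ ⟨x'.2, hconj⟩).trans (huniq _ ⟨x.2, IsConj.refl _⟩).symm)
      refine ⟨hxx, Subgroup.mem_centralizer_singleton_iff.2 ?_⟩
      rw [hxx] at he
      conv_lhs => rw [he]
      group
  rw [Finset.sum_congr rfl fun x' _ => by rw [Finset.sum_congr rfl fun c _ => hval x' c], Finset.sum_eq_single x]
  · simp only [true_and, ← Finset.sum_filter, Finset.sum_const, nsmul_eq_mul]
    rw [← mul_assoc, show (Finset.univ.filter (· ∈ Subgroup.centralizer ({(x : G)} : Set G))).card =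
      Nat.card (Subgroup.centralizer ({(x : G)} : Set G)) by
        rw [Nat.card_eq_fintype_card, Fintype.card_subtype],
      inv_mul_cancel₀ (Nat.cast_ne_zero.2 Nat.card_pos.ne'), one_mul]
  · intro x' _ hne
    simp [hne]
  · simp

/-- The subsection count for the characters of a block. -/
theorem card_eq_sum_rank (hM : IsPModular p M) {B : Set (IrrCharacter G)} (hB : IsPBlock M B)
    {X : Finset G} (hX : ∀ x ∈ X, ∃ k : ℕ, orderOf x = p ^ k)
    (hXrep : ∀ g : G, (∃ k : ℕ, orderOf g = p ^ k) → ∃! x, x ∈ X ∧ IsConj g x) :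
    Nat.card B = ∑ x : X, ∑ b ∈ Finset.univ.filter
      (fun b => IsInducedBlock M (Subgroup.centralizer ({(x : G)} : Set G)) b B), blockRank p b := by
  let S := fun x : X => Finset.univ.filter
      (fun b => IsInducedBlock M (Subgroup.centralizer ({(x : G)} : Set G)) b B)
  let ι := Σ x : X, {b // b ∈ S x}
  let T := ∀ σ : ι, regSpan p σ.2.1
  let comb : (B → ℂ) →ₗ[ℂ] (G → ℂ) := Fintype.linearCombination ℂ (fun χ : B => ((χ.1 : G → ℂ)))
  let L : (B → ℂ) →ₗ[ℂ] T := LinearMap.pi fun σ =>
    ((proj p σ.2.1).comp ((sec (σ.1 : G)).comp comb)).codRestrict _ fun c => proj_mem _ _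
  have hL : ∀ c σ, (L c σ : _ → ℂ) = proj p σ.2.1 (sec (σ.1 : G) (comb c)) := fun c σ => rfl
  have hcomb : ∀ c, comb c = ∑ χ : B, c χ • ((χ.1 : G → ℂ)) := fun c =>
    Fintype.linearCombination_apply ℂ _ c
  have hmem : ∀ σ : ι, IsInducedBlock M _ σ.2.1 B := fun σ => (Finset.mem_filter.1 σ.2.2).2
  have hinj : Function.Injective L := by
    rw [injective_iff_map_eq_zero]
    intro c hc
    have hcf : IsClassFunction G (comb c) := by
      rw [hcomb]
      intro g h
      simp only [Finset.sum_apply, Pi.smul_apply, irr_classFun _ g h]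
    have h0 : comb c = 0 := by
      funext g
      obtain ⟨z, w, hzw, hcom, hz, hw⟩ := exists_pPart hM.1 g
      obtain ⟨x, ⟨hxX, hzx⟩, -⟩ := hXrep z hz
      obtain ⟨d, hd⟩ := isConj_iff.1 hzx
      have hymem : d * w * d⁻¹ ∈ Subgroup.centralizer ({x} : Set G) := by
        rw [Subgroup.mem_centralizer_singleton_iff, ← hd]
        calc d * w * d⁻¹ * (d * z * d⁻¹) = d * (w * z) * d⁻¹ := by group
          _ = _ := by rw [← hcom.eq]; group
      have hreg : ¬ p ∣ orderOf (⟨_, hymem⟩ : Subgroup.centralizer ({x} : Set G)) := by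
        rw [Subgroup.orderOf_mk, show d * w * d⁻¹ = MulAut.conj d w from rfl, MulEquiv.orderOf_eq]
        exact hw
      have hg : comb c g = sec x (comb c) ⟨_, hymem⟩ := by
        show _ = comb c (x * (d * w * d⁻¹))
        rw [← hd, show d * z * d⁻¹ * (d * w * d⁻¹) = d * (z * w) * d⁻¹ by group, hzw, hcf]
      rw [hg, Pi.zero_apply]
      refine eq_zero_of_proj hM (isClassFunction_sec hcf x) (fun b hb => ?_) hreg
      by_cases hind : IsInducedBlock M _ b B
      · have h1 := congrArg Subtype.val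
          (congrFun hc ⟨⟨x, hxX⟩, ⟨b, Finset.mem_filter.2 ⟨Finset.mem_univ _, hind⟩⟩⟩)
        rwa [hL] at h1
      · obtain ⟨B', hB'⟩ := inducedBlockDefined_centralizer hM (hX x hxX) hb
        rw [hcomb, map_sum, map_sum]
        refine Finset.sum_eq_zero fun χ _ => ?_
        rw [map_smul, map_smul, proj_sec_eq_zero hM (hX x hxX) hB' (fun hm => hind
          (block_eq_of_mem hM hB'.2.1 hB hm χ.2 ▸ hB')), smul_zero]
    rw [hcomb] at h0
    have hli : LinearIndependent ℂ (fun χ : B => ((χ.1 : G → ℂ))) :=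
      (CharBasicOrth.linearIndependent_irr (G := G)).comp _ Subtype.val_injective
    exact funext fun χ => Fintype.linearIndependent_iff.1 hli c h0 χ
  have hsurj : Function.Surjective L := by
    intro w
    let W : ∀ x : X, Subgroup.centralizer ({(x : G)} : Set G) → ℂ := fun x =>
      ∑ b : {b // b ∈ S x}, (w ⟨x, b⟩ : Subgroup.centralizer ({(x : G)} : Set G) → ℂ)
    have hW : ∀ x, IsClassFunction _ (W x) := by
      intro x g h
      simp only [W, Finset.sum_apply]
      refine Finset.sum_congr rfl fun b _ => ?_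
      refine Submodule.span_induction (p := fun F _ => F (h * g * h⁻¹) = F g) ?_ rfl ?_ ?_ (w ⟨x, b⟩).2
      · rintro _ ⟨φ, -, rfl⟩
        simp only [pRegularPart, IsPRegular, irr_classFun φ g h,
          show h * g * h⁻¹ = MulAut.conj h g from rfl, MulEquiv.orderOf_eq]
        rw [show (MulAut.conj h g) = h * g * h⁻¹ from rfl, irr_classFun φ g h]
        split_ifs <;> simp_all
      · intro F F' _ _ e e'
        simp [e, e']
      · intro a F _ e
        simp [e]
    obtain ⟨f, hf, hsec⟩ := exists_of_sections hM.1 hX hXrep W hW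
    refine ⟨fun χ => classInner f (χ.1 : G → ℂ), funext fun σ => Subtype.ext ?_⟩
    obtain ⟨x, b⟩ := σ
    have hb := hmem ⟨x, b⟩
    rw [hL, hcomb, map_sum, map_sum]
    have e1 : proj p b.1 (sec (x : G) f) =
        ∑ χ : B, proj p b.1 (sec (x : G) (classInner f (χ.1 : G → ℂ) • (χ.1 : G → ℂ))) := by
      conv_lhs => rw [CharBasicOrth.eq_sum_classInner hf, map_sum, map_sum]
      rw [← Finset.sum_subset (Finset.subset_univ (Finset.univ.filter (· ∈ B))) fun χ _ hχ => by
        rw [map_smul, map_smul, proj_sec_eq_zero hM (hX _ x.2) hb fun h => hχ (by simp [h]), smul_zero]]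
      exact Finset.sum_subtype _ (fun χ => by simp) _
    rw [← e1, show proj p b.1 (sec (x : G) f) = proj p b.1 (W x) from proj_congr hM hb.1 fun y hy => hsec x y hy]
    simp only [W, map_sum]
    rw [Finset.sum_eq_single b]
    · rw [proj_regSpan hM hb.1 hb.1 (w ⟨x, b⟩).2, if_pos rfl]
    · intro b' _ hne
      rw [proj_regSpan hM hb.1 (hmem ⟨x, b'⟩).1 (w ⟨x, b'⟩).2, if_neg fun e => hne (Subtype.ext e.symm)]
    · simp
  have hfr := (LinearEquiv.ofBijective L ⟨hinj, hsurj⟩).finrank_eq
  rw [Module.finrank_fintype_fun_eq_card, Module.finrank_pi_fintype, Fintype.sum_sigma,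
    ← Nat.card_eq_fintype_card] at hfr
  rw [hfr]
  refine Finset.sum_congr rfl fun x _ => ?_
  exact Finset.sum_coe_sort (S x) fun b => blockRank p b

end Cfsg.Agent.BlockSubsections79
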