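import Mathlib
import Cfsg.Agent.Lib.BlockSubsections79
import Cfsg.Agent.Lib.CharAverage

/-!
# Orthogonality on the section of a `p`-element inside a block

For a class function `w` on `C = C_G(x)` the numbers `S_w(χ) = ∑_{y regular in C} w(y) conj χ(xy)`
expand `|C| w` on the section of `x`, and only the characters of the induced block occur.
-/

set_option autoImplicit false

open scoped ComplexConjugate

namespace Cfsg.Agent.SectionOrth79

open Cfsg BlockTheoryLocalRing BlockTheoryCentre BlockTheoryIdem BlockContribPrime BlockContrib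
  BlockSubsections79

attribute [local instance] Classical.propDecidable

universe u

variable {p : ℕ} {M : Ideal AlgInt} {G : Type u} [Group G] [Fintype G]

/-- The pairing of a function on `C(x)` with a character on the section of `x`. -/
noncomputable def secPair (p : ℕ) (x : G) (w : Subgroup.centralizer ({x} : Set G) → ℂ) (χ : G → ℂ) : ℂ :=
  ∑ y : Subgroup.centralizer ({x} : Set G), if ¬ p ∣ orderOf y then w y * conj (χ (x * y)) else 0

theorem card_conjugators (g h : G) [Decidable (IsConj g h)] :
    ((Finset.univ.filter fun c : G => c * g * c⁻¹ = h).card : ℂ) =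
      if IsConj g h then (Nat.card (Subgroup.centralizer ({g} : Set G)) : ℂ) else 0 := by
  split_ifs with hc
  · obtain ⟨d, hd⟩ := isConj_iff.1 hc
    rw [Nat.card_eq_fintype_card, Fintype.card_subtype]
    congr 1
    refine Finset.card_equiv (Equiv.mulLeft d⁻¹) fun c => ?_
    simp only [Finset.mem_filter, Finset.mem_univ, true_and, Equiv.coe_mulLeft,
      Subgroup.mem_centralizer_singleton_iff]
    constructor
    · intro e
      rw [← hd] at e
      calc d⁻¹ * c * g = d⁻¹ * (c * g * c⁻¹) * c := by group
        _ = g * (d⁻¹ * c) := by rw [e]; group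
    · intro e
      rw [← hd]
      calc c * g * c⁻¹ = d * (d⁻¹ * c * g) * c⁻¹ := by group
        _ = d * g * d⁻¹ := by rw [e]; group
  · rw [Finset.card_eq_zero.2 (Finset.filter_eq_empty_iff.2 fun c _ e => hc (isConj_iff.2 ⟨c, e⟩)),
      Nat.cast_zero]

/-- Expansion of a class function of `C(x)` on the section of `x`. -/
theorem sum_secPair_mul (hp : p.Prime) {x : G} (hx : ∃ k : ℕ, orderOf x = p ^ k)
    {w : Subgroup.centralizer ({x} : Set G) → ℂ} (hw : IsClassFunction _ w)
    {z : Subgroup.centralizer ({x} : Set G)} (hz : ¬ p ∣ orderOf z) :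
    ∑ χ : IrrCharacter G, secPair p x w (χ : G → ℂ) * (χ : G → ℂ) (x * z) =
      (Nat.card (Subgroup.centralizer ({x} : Set G)) : ℂ) * w z := by
  have hz' : Commute x (z : G) := (Subgroup.mem_centralizer_singleton_iff.1 z.2).symm
  have key : ∀ c : G, ∀ y : (Subgroup.centralizer ({x} : Set G)), ¬ p ∣ orderOf y → c * (x * z) * c⁻¹ = x * y →
      c ∈ (Subgroup.centralizer ({x} : Set G)) ∧ c * (z : G) * c⁻¹ = y := by
    intro c y hy e
    have h1 : IsPPart p (x * (y : G)) x :=
      ⟨y, rfl, (Subgroup.mem_centralizer_singleton_iff.1 y.2).symm, hx, by rwa [Subgroup.orderOf_coe]⟩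
    have h2 : IsPPart p (x * (y : G)) (c * x * c⁻¹) := by
      obtain ⟨k, hk⟩ := hx
      refine ⟨c * z * c⁻¹, ?_, ?_, ⟨k, ?_⟩, ?_⟩
      · rw [← e]; group
      · calc c * x * c⁻¹ * (c * z * c⁻¹) = c * (x * z) * c⁻¹ := by group
          _ = _ := by rw [hz'.eq]; group
      · rw [← hk, show c * x * c⁻¹ = MulAut.conj c x from rfl, MulEquiv.orderOf_eq]
      · rw [show c * (z : G) * c⁻¹ = MulAut.conj c (z : G) from rfl, MulEquiv.orderOf_eq, Subgroup.orderOf_coe]
        exact hz
    have hcx := pPart_unique hp h2 h1
    refine ⟨Subgroup.mem_centralizer_singleton_iff.2 ?_, ?_⟩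
    · calc c * x = c * x * c⁻¹ * c := by group
        _ = x * c := by rw [hcx]
    · have : x * (c * (z : G) * c⁻¹) = x * y :=
        calc x * (c * (z : G) * c⁻¹) = (c * x * c⁻¹) * (c * (z : G) * c⁻¹) := by rw [hcx]
          _ = c * (x * z) * c⁻¹ := by group
          _ = x * y := e
      exact mul_left_cancel this
  have hterm : ∀ y : (Subgroup.centralizer ({x} : Set G)), (if ¬ p ∣ orderOf y then
      w y * ∑ χ : IrrCharacter G, (χ : G → ℂ) (x * z) * conj ((χ : G → ℂ) (x * y)) else 0) =
      w z * ((Finset.univ.filter fun c : (Subgroup.centralizer ({x} : Set G)) => c * z * c⁻¹ = y).card : ℂ) := by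
    intro y
    by_cases hy : p ∣ orderOf y
    · rw [if_neg (not_not.2 hy), Finset.card_eq_zero.2 (Finset.filter_eq_empty_iff.2 fun c _ e => hz ?_)]
      · simp
      · rw [← e, show c * z * c⁻¹ = MulAut.conj c z from rfl, MulEquiv.orderOf_eq] at hy
        exact hy
    · rw [if_pos hy, CharBasicOrth.sum_irr_mul_conj, ← card_conjugators (x * (z : G)) (x * (y : G))]
      have hcard : (Finset.univ.filter fun c : G => c * (x * z) * c⁻¹ = x * y).card =
          (Finset.univ.filter fun c : (Subgroup.centralizer ({x} : Set G)) => c * z * c⁻¹ = y).card := by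
        refine Finset.card_bij (fun c hc => ⟨c, (key c y hy (Finset.mem_filter.1 hc).2).1⟩) ?_ ?_ ?_
        · intro c hc
          exact Finset.mem_filter.2 ⟨Finset.mem_univ _,
            Subtype.ext (key c y hy (Finset.mem_filter.1 hc).2).2⟩
        · intro c _ c' _ e
          exact congrArg Subtype.val e
        · intro c hc
          refine ⟨(c : G), Finset.mem_filter.2 ⟨Finset.mem_univ _, ?_⟩, rfl⟩
          rw [← (Finset.mem_filter.1 hc).2]
          push_cast
          have hcx : (c : G) * x = x * c := Subgroup.mem_centralizer_singleton_iff.1 c.2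
          calc (c : G) * (x * z) * (c : G)⁻¹ = ((c : G) * x) * z * (c : G)⁻¹ := by group
            _ = _ := by rw [hcx]; group
      rw [hcard]
      rcases Finset.eq_empty_or_nonempty (Finset.univ.filter fun c : (Subgroup.centralizer ({x} : Set G)) => c * z * c⁻¹ = y) with h0 | ⟨c, hc⟩
      · rw [h0]; simp
      · rw [← (Finset.mem_filter.1 hc).2, hw]
  calc ∑ χ : IrrCharacter G, secPair p x w (χ : G → ℂ) * (χ : G → ℂ) (x * z)
      = ∑ y : (Subgroup.centralizer ({x} : Set G)), (if ¬ p ∣ orderOf y then
          w y * ∑ χ : IrrCharacter G, (χ : G → ℂ) (x * z) * conj ((χ : G → ℂ) (x * y)) else 0) := by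
        simp only [secPair, Finset.sum_mul]
        rw [Finset.sum_comm]
        refine Finset.sum_congr rfl fun y _ => ?_
        by_cases hy : p ∣ orderOf y
        · simp [hy]
        · simp only [hy, not_false_eq_true, if_true, Finset.mul_sum]
          exact Finset.sum_congr rfl fun χ _ => by ring
    _ = w z * (∑ y : (Subgroup.centralizer ({x} : Set G)), ((Finset.univ.filter fun c : (Subgroup.centralizer ({x} : Set G)) => c * z * c⁻¹ = y).card : ℂ)) := by
        rw [Finset.mul_sum]; exact Finset.sum_congr rfl fun y _ => hterm y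
    _ = _ := by
        rw [← Nat.cast_sum, ← Finset.card_eq_sum_card_fiberwise (fun c _ => Finset.mem_univ _),
          Finset.card_univ, Nat.card_eq_fintype_card, mul_comm]

/-- A function in the regular span of a block only pairs with the induced block. -/
theorem secPair_eq_zero (hM : IsPModular p M) {x : G} (hx : ∃ k : ℕ, orderOf x = p ^ k)
    {b : Set (IrrCharacter (Subgroup.centralizer ({x} : Set G)))} {B : Set (IrrCharacter G)}
    (hind : IsInducedBlock M _ b B) {w : Subgroup.centralizer ({x} : Set G) → ℂ}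
    (hw : w ∈ regSpan p b) {χ : IrrCharacter G} (hχ : χ ∉ B) :
    secPair p x w (χ : G → ℂ) = 0 := by
  induction hw using Submodule.span_induction with
  | mem w hw =>
    obtain ⟨φ, hφ, rfl⟩ := hw
    have hP := proj_sec_eq_zero hM hx hind hχ
    set F := sec x (χ : G → ℂ) with hF
    have hzero : ∀ ψ : IrrCharacter (Subgroup.centralizer ({x} : Set G)), ψ ∉ b → pair p (φ : (Subgroup.centralizer ({x} : Set G)) → ℂ) ψ = 0 := fun ψ hψ =>
      pair_eq_zero hM hind.1 hφ hψ
    have e : secPair p x (pRegularPart p (φ : (Subgroup.centralizer ({x} : Set G)) → ℂ)) (χ : G → ℂ) =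
        conj (∑ ψ : IrrCharacter (Subgroup.centralizer ({x} : Set G)), classInner F (ψ : (Subgroup.centralizer ({x} : Set G)) → ℂ) * pair p (φ : (Subgroup.centralizer ({x} : Set G)) → ℂ) ψ) := by
      simp only [secPair, pair, regSum_eq, Finset.mul_sum, map_sum]
      rw [Finset.sum_comm]
      refine Finset.sum_congr rfl fun y _ => ?_
      by_cases hy : p ∣ orderOf y
      · simp [hy]
      · simp only [hy, not_false_eq_true, if_true, pRegularPart, IsPRegular]
        have hFy : F y = ∑ ψ : IrrCharacter (Subgroup.centralizer ({x} : Set G)), classInner F (ψ : (Subgroup.centralizer ({x} : Set G)) → ℂ) * (ψ : (Subgroup.centralizer ({x} : Set G)) → ℂ) y := by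
          have hFc : IsClassFunction _ F := by rw [hF]; exact isClassFunction_sec (irr_classFun χ) x
          conv_lhs => rw [CharBasicOrth.eq_sum_classInner hFc]
          simp
        rw [show (χ : G → ℂ) (x * y) = F y from rfl, hFy, map_sum, Finset.mul_sum]
        refine Finset.sum_congr rfl fun ψ _ => ?_
        simp only [map_mul, Complex.conj_conj]
        ring
    rw [e]
    have hsum : ∑ ψ : IrrCharacter (Subgroup.centralizer ({x} : Set G)), classInner F (ψ : (Subgroup.centralizer ({x} : Set G)) → ℂ) * pair p (φ : (Subgroup.centralizer ({x} : Set G)) → ℂ) ψ =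
        ∑ ψ : IrrCharacter (Subgroup.centralizer ({x} : Set G)), (if ψ ∈ b then classInner F (ψ : (Subgroup.centralizer ({x} : Set G)) → ℂ) else 0) * pair p (φ : (Subgroup.centralizer ({x} : Set G)) → ℂ) ψ := by
      refine Finset.sum_congr rfl fun ψ _ => ?_
      by_cases hψ : ψ ∈ b
      · rw [if_pos hψ]
      · rw [if_neg hψ, hzero ψ hψ]; simp
    rw [hsum]
    simp only [pair, regSum_eq, Finset.mul_sum]
    rw [Finset.sum_comm, Finset.sum_eq_zero, map_zero]
    intro y _
    by_cases hy : p ∣ orderOf y
    · simp [hy]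
    · have h0 := congrFun hP y
      simp only [proj, LinearMap.coe_mk, AddHom.coe_mk, Finset.sum_apply, Pi.smul_apply, smul_eq_mul,
        pRegularPart, IsPRegular, Pi.zero_apply, hy, not_false_eq_true, if_true] at h0
      simp only [hy, not_false_eq_true, if_true]
      calc ∑ ψ : IrrCharacter (Subgroup.centralizer ({x} : Set G)), (if ψ ∈ b then classInner F (ψ : (Subgroup.centralizer ({x} : Set G)) → ℂ) else 0) * (conj ((φ : (Subgroup.centralizer ({x} : Set G)) → ℂ) y) * (ψ : (Subgroup.centralizer ({x} : Set G)) → ℂ) y)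
          = conj ((φ : (Subgroup.centralizer ({x} : Set G)) → ℂ) y) * ∑ ψ : IrrCharacter (Subgroup.centralizer ({x} : Set G)), (if ψ ∈ b then classInner F (ψ : (Subgroup.centralizer ({x} : Set G)) → ℂ) else 0) * (ψ : (Subgroup.centralizer ({x} : Set G)) → ℂ) y := by
            rw [Finset.mul_sum]; exact Finset.sum_congr rfl fun ψ _ => by ring
        _ = 0 := by rw [h0, mul_zero]
  | zero => simp [secPair]
  | add w w' _ _ h h' =>
    have e : secPair p x (w + w') (χ : G → ℂ) = secPair p x w (χ : G → ℂ) + secPair p x w' (χ : G → ℂ) := by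
      simp only [secPair, ← Finset.sum_add_distrib, Pi.add_apply]
      refine Finset.sum_congr rfl fun y _ => ?_
      split_ifs <;> ring
    rw [e, h, h', add_zero]
  | smul a w _ h =>
    have e : secPair p x (a • w) (χ : G → ℂ) = a * secPair p x w (χ : G → ℂ) := by
      simp only [secPair, Finset.mul_sum, Pi.smul_apply, smul_eq_mul]
      refine Finset.sum_congr rfl fun y _ => ?_
      split_ifs <;> ring
    rw [e, h, mul_zero]

/-- Orthogonality inside a block on the section of `x`. -/
theorem sum_block_secPair (hM : IsPModular p M) {x : G} (hx : ∃ k : ℕ, orderOf x = p ^ k)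
    {b : Set (IrrCharacter (Subgroup.centralizer ({x} : Set G)))} {B : Set (IrrCharacter G)}
    (hind : IsInducedBlock M _ b B) {w : Subgroup.centralizer ({x} : Set G) → ℂ}
    (hw : w ∈ regSpan p b) (hwc : IsClassFunction _ w)
    {z : Subgroup.centralizer ({x} : Set G)} (hz : ¬ p ∣ orderOf z) :
    ∑ χ ∈ Finset.univ.filter (· ∈ B), secPair p x w (χ : G → ℂ) * (χ : G → ℂ) (x * z) =
      (Nat.card (Subgroup.centralizer ({x} : Set G)) : ℂ) * w z := by
  rw [← sum_secPair_mul hM.1 hx hwc hz]
  refine Finset.sum_subset (Finset.subset_univ _) fun χ _ hχ => ?_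
  rw [secPair_eq_zero hM hx hind hw (fun h => hχ (by simp [h])), zero_mul]

end Cfsg.Agent.SectionOrth79
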