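import Mathlib
import Cfsg.Agent.Lib.KleinFourLocal79
import Cfsg.Agent.Lib.SectionOrth79
import Cfsg.Agent.Lib.BlockTheoryNormal
import Cfsg.Agent.Lib.BlockContribBounds
import Cfsg.Agent.Lib.BlockPrincipal81
import Cfsg.Agent.Lib.ZStarSection
import Cfsg.Agent.Lib.FSIndicatorSum

/-!
# The principal 2-block on the section of an involution, Klein four Sylow 2-subgroup

`G` has a Sylow 2-subgroup `P` of order four and exponent two and `J` is an involution of `P`.
Members of the principal block are constant on the section of `J`, and their values at `J` satisfy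
the orthogonality, indicator and product relations.
-/

set_option autoImplicit false

open scoped ComplexConjugate

namespace Cfsg.Agent.KleinFourChars79

open Cfsg BlockTheoryLocalRing BlockTheoryCentre BlockTheoryIdem BlockContribPrime BlockContrib
  BlockSubsections79 SectionOrth79

attribute [local instance] Classical.propDecidable

universe u

variable {G : Type u} [Group G] [Fintype G] {M : Ideal AlgInt}
  {P : Sylow 2 G} {J : G}

/-- The number of elements of odd order of the centralizer of `J`. -/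
noncomputable def nreg (J : G) : ℕ :=
  (Finset.univ.filter fun y : Subgroup.centralizer ({J} : Set G) => ¬ 2 ∣ orderOf y).card

theorem four_nreg (hP4 : Nat.card P = 4) (hexp : ∀ x : P, x * x = 1) (hJ : J ∈ (P : Subgroup G))
    (hJ1 : J ≠ 1) : 4 * nreg J = Nat.card (Subgroup.centralizer ({J} : Set G)) := by
  obtain ⟨N, -, -, hidx, hmem, -⟩ := KleinFourLocal79.exists_odd_subgroup P hP4 hexp hJ hJ1
  rw [← N.index_mul_card, hidx, nreg, Nat.card_eq_fintype_card,
    Fintype.card_of_subtype (Finset.univ.filter fun y => ¬ 2 ∣ orderOf y) fun y => by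
      simp [hmem y]]

theorem nreg_pos (J : G) : 0 < nreg J :=
  Finset.card_pos.2 ⟨1, by simp⟩

theorem principal_const (hM : IsPModular 2 M) (hP4 : Nat.card P = 4) (hexp : ∀ x : P, x * x = 1)
    (hJ : J ∈ (P : Subgroup G)) (hJ1 : J ≠ 1)
    {ψ : IrrCharacter (Subgroup.centralizer ({J} : Set G))}
    (hψ : ψ ∈ principalBlock M (Subgroup.centralizer ({J} : Set G)))
    {y : Subgroup.centralizer ({J} : Set G)} (hy : ¬ 2 ∣ orderOf y) :
    (ψ : Subgroup.centralizer ({J} : Set G) → ℂ) y = (ψ : Subgroup.centralizer ({J} : Set G) → ℂ) 1 := by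
  obtain ⟨N, hN, hcard, -, hmem, -⟩ := KleinFourLocal79.exists_odd_subgroup P hP4 hexp hJ hJ1
  haveI := hN
  exact BlockTheoryNormal.blockOf_subset_trivialOn N hM hcard
    (χ := BlockPrincipal81.oneChar _) (fun n _ => rfl) hψ y ((hmem y).2 hy)

/-- The indicator of the regular elements of the centralizer. -/
noncomputable def wOne (J : G) : Subgroup.centralizer ({J} : Set G) → ℂ :=
  pRegularPart 2 (fun _ => 1)

theorem wOne_apply {y : Subgroup.centralizer ({J} : Set G)} (hy : ¬ 2 ∣ orderOf y) : wOne J y = 1 := by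
  simp [wOne, pRegularPart, IsPRegular, hy]

theorem wOne_classFun : IsClassFunction _ (wOne J) := fun g h => by
  simp only [wOne, pRegularPart, IsPRegular,
    show h * g * h⁻¹ = MulAut.conj h g from rfl, MulEquiv.orderOf_eq]
  split_ifs <;> simp_all

theorem wOne_mem (hM : IsPModular 2 M) :
    wOne J ∈ regSpan 2 (principalBlock M (Subgroup.centralizer ({J} : Set G))) :=
  Submodule.subset_span ⟨BlockPrincipal81.oneChar _, BlockPrincipal81.oneChar_mem hM, rfl⟩

theorem induced_principal (hM : IsPModular 2 M) (hJ2 : orderOf J = 2) :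
    IsInducedBlock M (Subgroup.centralizer ({J} : Set G))
      (principalBlock M (Subgroup.centralizer ({J} : Set G))) (principalBlock M G) := by
  haveI : Fact (Nat.Prime 2) := ⟨Nat.prime_two⟩
  obtain ⟨B', hB'⟩ := inducedBlockDefined_centralizer hM (x := J) ⟨1, by rw [hJ2, pow_one]⟩
    (b := principalBlock M _) BlockPrincipal81.isPBlock_principal
  exact (ZStarSection.principal_iff_of_induced hM hB').1 rfl ▸ hB'

/-- Members of the principal block are constant on the section of `J`. -/
theorem sec_const (hM : IsPModular 2 M) (hP4 : Nat.card P = 4) (hexp : ∀ x : P, x * x = 1)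
    (hJ : J ∈ (P : Subgroup G)) (hJ2 : orderOf J = 2) {χ : IrrCharacter G}
    (hχ : χ ∈ principalBlock M G) {y : Subgroup.centralizer ({J} : Set G)} (hy : ¬ 2 ∣ orderOf y) :
    (χ : G → ℂ) (J * y) = (χ : G → ℂ) J := by
  haveI : Fact (Nat.Prime 2) := ⟨Nat.prime_two⟩
  have hJ1 : J ≠ 1 := fun h => by rw [h, orderOf_one] at hJ2; omega
  have hxp : ∃ k : ℕ, orderOf J = 2 ^ k := ⟨1, by rw [hJ2, pow_one]⟩
  set b₀ := principalBlock M (Subgroup.centralizer ({J} : Set G)) with hb₀
  set F := sec J (χ : G → ℂ) with hF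
  have hFc : IsClassFunction _ F := by rw [hF]; exact isClassFunction_sec (irr_classFun χ) J
  have hline : ∀ v ∈ regSpan 2 b₀, ∃ c : ℂ, v = c • wOne J := by
    intro v hv
    induction hv using Submodule.span_induction with
    | mem v hv =>
      obtain ⟨φ, hφ, rfl⟩ := hv
      refine ⟨(φ : Subgroup.centralizer ({J} : Set G) → ℂ) 1, funext fun z => ?_⟩
      by_cases hz : 2 ∣ orderOf z
      · simp [wOne, pRegularPart, IsPRegular, hz]
      · simp [wOne, pRegularPart, IsPRegular, hz, principal_const hM hP4 hexp hJ hJ1 hφ hz]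
    | zero => exact ⟨0, by simp⟩
    | add v v' _ _ h h' => obtain ⟨s, rfl⟩ := h; obtain ⟨t, rfl⟩ := h'; exact ⟨s + t, by rw [add_smul]⟩
    | smul c v _ h => obtain ⟨t, rfl⟩ := h; exact ⟨c * t, by rw [smul_smul]⟩
  obtain ⟨c, hc⟩ := hline _ (proj_mem b₀ F)
  have hlin : ∀ z : Subgroup.centralizer ({J} : Set G), ¬ 2 ∣ orderOf z → F z = c := by
    intro z hz
    let one : IrrCharacter (Subgroup.centralizer ({J} : Set G)) := BlockPrincipal81.oneChar _
    refine sub_eq_zero.1 ?_
    have h0 := eq_zero_of_proj hM (F := F - c • (one : _ → ℂ)) (fun g h => by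
      simp only [Pi.sub_apply, Pi.smul_apply, hFc g h, irr_classFun one g h]) (fun b hb => ?_) hz
    · simpa [one, BlockPrincipal81.oneChar] using h0
    rw [map_sub, map_smul, proj_irr]
    by_cases hbb : b = b₀
    · rw [hbb, if_pos (BlockPrincipal81.oneChar_mem hM), hc]
      exact sub_self _
    · rw [if_neg (fun hm => hbb (block_eq_of_mem hM hb BlockPrincipal81.isPBlock_principal hm
        (BlockPrincipal81.oneChar_mem hM))), smul_zero, sub_zero]
      obtain ⟨B', hB'⟩ := inducedBlockDefined_centralizer hM hxp hb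
      refine proj_sec_eq_zero hM hxp hB' fun hm => hbb ((ZStarSection.principal_iff_of_induced hM hB').2 ?_)
      exact block_eq_of_mem hM hB'.2.1 BlockPrincipal81.isPBlock_principal hm hχ
  have h1 := hlin 1 (by simp)
  have h2 := hlin y hy
  simp only [hF, sec, LinearMap.coe_mk, AddHom.coe_mk, OneMemClass.coe_one, mul_one] at h1 h2
  rw [h2, h1]

theorem apply_real {t : G} (ht : t * t = 1) (χ : IrrCharacter G) :
    conj ((χ : G → ℂ) t) = (χ : G → ℂ) t := by
  rw [← irr_inv, inv_eq_of_mul_eq_one_right ht]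

theorem mul_self_of_order_two (hJ2 : orderOf J = 2) : J * J = 1 := by
  rw [← pow_two, ← hJ2, pow_orderOf_eq_one]

theorem secPair_wOne (hM : IsPModular 2 M) (hP4 : Nat.card P = 4) (hexp : ∀ x : P, x * x = 1)
    (hJ : J ∈ (P : Subgroup G)) (hJ2 : orderOf J = 2) (χ : IrrCharacter G) :
    secPair 2 J (wOne J) (χ : G → ℂ) =
      if χ ∈ principalBlock M G then (nreg J : ℂ) * (χ : G → ℂ) J else 0 := by
  split_ifs with hχ
  · rw [secPair, nreg, ← nsmul_eq_mul, ← Finset.sum_const, Finset.sum_filter]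
    refine Finset.sum_congr rfl fun y _ => ?_
    split_ifs with hy
    · rfl
    · rw [wOne_apply hy, one_mul, sec_const hM hP4 hexp hJ hJ2 hχ hy,
        apply_real (mul_self_of_order_two hJ2)]
  · exact secPair_eq_zero hM ⟨1, by rw [hJ2, pow_one]⟩ (induced_principal hM hJ2) (wOne_mem hM) hχ

/-- The sum of a character over the section of `J`. -/
theorem sum_section (hM : IsPModular 2 M) (hP4 : Nat.card P = 4) (hexp : ∀ x : P, x * x = 1)
    (hJ : J ∈ (P : Subgroup G)) (hJ2 : orderOf J = 2) (χ : IrrCharacter G) :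
    ∑ y : Subgroup.centralizer ({J} : Set G), (if ¬ 2 ∣ orderOf y then (χ : G → ℂ) (J * y) else 0) =
      if χ ∈ principalBlock M G then (nreg J : ℂ) * (χ : G → ℂ) J else 0 := by
  have h := congrArg conj (secPair_wOne hM hP4 hexp hJ hJ2 χ)
  rw [secPair, map_sum] at h
  refine Eq.trans (Finset.sum_congr rfl fun y _ => ?_) (h.trans ?_)
  · split_ifs with hy
    · simp
    · simp [wOne_apply hy]
  · split_ifs
    · rw [map_mul, map_natCast, apply_real (mul_self_of_order_two hJ2)]
    · simp

theorem sum_sq (hM : IsPModular 2 M) (hP4 : Nat.card P = 4) (hexp : ∀ x : P, x * x = 1)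
    (hJ : J ∈ (P : Subgroup G)) (hJ2 : orderOf J = 2) :
    ∑ χ ∈ BlockContribBounds.members (principalBlock M G), (χ : G → ℂ) J * (χ : G → ℂ) J = 4 := by
  have hJ1 : J ≠ 1 := fun h => by rw [h, orderOf_one] at hJ2; omega
  have h := sum_block_secPair hM (x := J) ⟨1, by rw [hJ2, pow_one]⟩ (induced_principal hM hJ2)
    (wOne_mem hM) wOne_classFun (z := 1) (by simp)
  rw [BlockContribBounds.filter_eq_members, wOne_apply (by simp), mul_one, OneMemClass.coe_one, mul_one,
    ← four_nreg hP4 hexp hJ hJ1, Nat.cast_mul] at h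
  refine mul_left_cancel₀ (Nat.cast_ne_zero.2 (nreg_pos J).ne' : (nreg J : ℂ) ≠ 0) ?_
  rw [Finset.mul_sum]
  refine Eq.trans (Finset.sum_congr rfl fun χ hχ => ?_) (h.trans (by push_cast; ring))
  rw [secPair_wOne hM hP4 hexp hJ hJ2, if_pos (BlockContribBounds.mem_members.1 hχ)]
  ring

theorem factorization_card (hP4 : Nat.card P = 4) : (Nat.card G).factorization 2 = 2 := by
  haveI : Fact (Nat.Prime 2) := ⟨Nat.prime_two⟩
  have h := P.card_eq_multiplicity
  rw [hP4] at h
  exact (Nat.pow_right_injective le_rfl (show 2 ^ 2 = 2 ^ (Nat.card G).factorization 2 from h)).symm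

/-- Members of the principal block have odd degree and an odd integer value at `J`. -/
theorem exists_odd_value (hM : IsPModular 2 M) (hP4 : Nat.card P = 4) (hJ2 : orderOf J = 2)
    {χ : IrrCharacter G} (hχ : χ ∈ principalBlock M G) :
    ∃ z : ℤ, Odd z ∧ (χ : G → ℂ) J = (z : ℂ) ∧ Odd (charDegree (χ : G → ℂ)) := by
  have hB : IsPBlock M (principalBlock M G) := BlockPrincipal81.isPBlock_principal
  have hodd : ¬ 2 ∣ charDegree (χ : G → ℂ) := by
    intro hd
    have h1 : minExp 2 (principalBlock M G) = 0 := by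
      have := minExp_le (p := 2) (BlockPrincipal81.oneChar_mem (G := G) hM)
      simpa [BlockPrincipal81.oneChar, charDegree] using this
    have h0 : 0 < blockHeight 2 (principalBlock M G) (χ : G → ℂ) := by
      rw [blockHeight_eq, h1, Nat.sub_zero]
      exact Nat.prime_two.factorization_pos_of_dvd (CharAverage.irr_degree_pos χ).ne' hd
    have := BlockContribBounds.height_add_two_le hM hB hχ h0
    have h3 : blockDefect 2 (principalBlock M G) ≤ (Nat.card G).factorization 2 := Nat.sub_le _ _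
    rw [factorization_card hP4] at h3
    omega
  obtain ⟨n, ρ, hirr, hρ⟩ := χ.2
  obtain ⟨b, μ, -, hord, -, hpow⟩ := CharBasic.exists_rep_eigenbasis ρ J
  have h1 : charDegree (χ : G → ℂ) = n := by
    rw [← hρ]; simp [charDegree, Representation.char_one]
  have hμ : ∀ i, ∃ z : ℤ, μ i = (z : ℂ) ∧ Odd z := fun i => by
    have h2 := hord i
    rw [hJ2] at h2
    rcases sq_eq_one_iff.1 h2 with e | e
    · exact ⟨1, by simp [e], odd_one⟩
    · exact ⟨-1, by simp [e], odd_one.neg⟩
  choose z hz hzodd using hμ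
  refine ⟨∑ i, z i, ?_, ?_, Nat.odd_iff.2 (Nat.two_dvd_ne_zero.1 hodd)⟩
  · choose k hk using hzodd
    simp only [hk, Finset.sum_add_distrib, ← Finset.mul_sum, Finset.sum_const, Finset.card_univ,
      Fintype.card_fin, Module.finrank_fin_fun, ← h1, nsmul_eq_mul, mul_one]
    exact (even_two_mul _).add_odd ((Int.odd_coe_nat _).2 (Nat.odd_iff.2 (Nat.two_dvd_ne_zero.1 hodd)))
  · have := hpow 1
    rw [pow_one] at this
    rw [← hρ, this, Int.cast_sum]
    exact Finset.sum_congr rfl fun i _ => by rw [pow_one, hz]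

/-- The principal block is closed under complex conjugation. -/
theorem conj_mem (hM : IsPModular 2 M) (hP4 : Nat.card P = 4) (hexp : ∀ x : P, x * x = 1)
    (hJ : J ∈ (P : Subgroup G)) (hJ2 : orderOf J = 2) {χ : IrrCharacter G}
    (hχ : χ ∈ principalBlock M G) :
    (⟨fun g => conj ((χ : G → ℂ) g), CharBasicDecomp.isIrrCharacter_conj χ.2⟩ : IrrCharacter G) ∈
      principalBlock M G := by
  obtain ⟨z, hz, hzJ, -⟩ := exists_odd_value hM hP4 hJ2 hχ
  by_contra hn
  set χc : IrrCharacter G := ⟨fun g => conj ((χ : G → ℂ) g), CharBasicDecomp.isIrrCharacter_conj χ.2⟩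
  have h := secPair_wOne hM hP4 hexp hJ hJ2 χc
  rw [if_neg hn] at h
  have h' := congrArg conj h
  rw [secPair, map_sum, map_zero] at h'
  have e : ∀ y : Subgroup.centralizer ({J} : Set G),
      conj (if ¬ 2 ∣ orderOf y then wOne J y * conj ((χc : G → ℂ) (J * y)) else 0) =
        if ¬ 2 ∣ orderOf y then (χ : G → ℂ) J else 0 := fun y => by
    split_ifs with hy
    · simp
    · rw [wOne_apply hy, one_mul]
      show conj (conj (conj ((χ : G → ℂ) (J * y)))) = _
      rw [Complex.conj_conj, sec_const hM hP4 hexp hJ hJ2 hχ hy, apply_real (mul_self_of_order_two hJ2)]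
  rw [Finset.sum_congr rfl fun y _ => e y, ← Finset.sum_filter, Finset.sum_const, nsmul_eq_mul, hzJ] at h'
  rcases mul_eq_zero.1 h' with h' | h'
  · exact (nreg_pos J).ne' (Nat.cast_eq_zero.1 h')
  · rw [Int.cast_eq_zero] at h'
    rw [h'] at hz
    exact absurd hz (by decide)

/-- The indicators of the principal block against the values at `J`. -/
theorem sum_nu (hM : IsPModular 2 M) (hP4 : Nat.card P = 4) (hexp : ∀ x : P, x * x = 1)
    (hJ : J ∈ (P : Subgroup G)) (hJ2 : orderOf J = 2) :
    ∑ χ ∈ BlockContribBounds.members (principalBlock M G),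
      FSIndicatorSum.nu (χ : G → ℂ) * (χ : G → ℂ) J = 0 := by
  have hzero : ∀ y : Subgroup.centralizer ({J} : Set G), ¬ 2 ∣ orderOf y →
      ∑ χ : IrrCharacter G, FSIndicatorSum.nu (χ : G → ℂ) * (χ : G → ℂ) (J * y) = 0 := by
    intro y hy
    simp only [FSIndicatorSum.nu, mul_assoc, Finset.sum_mul, Finset.mul_sum]
    rw [Finset.sum_comm]
    refine Finset.sum_eq_zero fun h _ => ?_
    rw [← Finset.mul_sum]
    refine mul_eq_zero_of_right _ ?_
    have hno : ¬ IsConj (h * h) (J * (y : G))⁻¹ := by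
      intro hc
      obtain ⟨c, hc⟩ := isConj_iff.1 hc
      have hcomm : Commute J (y : G) := (Subgroup.mem_centralizer_singleton_iff.1 y.2).symm
      have ho : orderOf (J * (y : G)) = 2 * orderOf (y : G) := by
        rw [hcomm.orderOf_mul_eq_mul_orderOf_of_coprime (by
          rw [hJ2, Subgroup.orderOf_coe]; exact (Nat.Prime.coprime_iff_not_dvd Nat.prime_two).2 hy), hJ2]
      have h2 : orderOf (h * h) = 2 * orderOf (y : G) := by
        rw [← ho, ← orderOf_inv (J * (y : G)), ← hc, show c * (h * h) * c⁻¹ = MulAut.conj c (h * h) from rfl,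
          MulEquiv.orderOf_eq]
      have h3 := orderOf_pow h (n := 2)
      rw [pow_two, h2] at h3
      have heven : 2 ∣ orderOf h := by
        have : orderOf (h * h) ∣ orderOf h := by rw [← pow_two]; exact orderOf_pow_dvd 2
        exact (Dvd.intro _ rfl).trans (h2 ▸ this)
      rw [Nat.gcd_eq_right heven] at h3
      have h4 : 4 ∣ orderOf h := by
        obtain ⟨t, ht⟩ := heven
        rw [ht, Nat.mul_div_cancel_left _ two_pos] at h3
        rw [ht, ← h3]
        exact ⟨orderOf (y : G), by ring⟩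
      have hpos : orderOf h / 4 ≠ 0 := by
        have := Nat.le_of_dvd (orderOf_pos h) h4
        omega
      have h5 : orderOf (h ^ (orderOf h / 4)) = 4 := by
        rw [orderOf_pow_of_dvd hpos (Nat.div_dvd_of_dvd h4), Nat.div_div_self h4 (orderOf_pos h).ne']
      have h6 := KleinFourLocal79.mul_self_of_two_el P hexp ⟨2, h5⟩
      have h7 := orderOf_dvd_of_pow_eq_one (show (h ^ (orderOf h / 4)) ^ 2 = 1 by rw [pow_two, h6])
      rw [h5] at h7
      norm_num at h7
    have h1 := CharBasicOrth.sum_irr_mul_conj (h * h) (J * (y : G))⁻¹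
    rw [if_neg hno] at h1
    rw [← h1]
    refine Finset.sum_congr rfl fun χ _ => ?_
    rw [irr_inv, Complex.conj_conj]
  have hall : ∑ y : Subgroup.centralizer ({J} : Set G), (if ¬ 2 ∣ orderOf y then
      ∑ χ : IrrCharacter G, FSIndicatorSum.nu (χ : G → ℂ) * (χ : G → ℂ) (J * y) else 0) = 0 :=
    Finset.sum_eq_zero fun y _ => by split_ifs with hy; exacts [rfl, hzero y hy]
  have hswap : (nreg J : ℂ) * ∑ χ ∈ BlockContribBounds.members (principalBlock M G),
      FSIndicatorSum.nu (χ : G → ℂ) * (χ : G → ℂ) J = 0 := by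
    rw [← hall, Finset.mul_sum]
    have e : ∀ y : Subgroup.centralizer ({J} : Set G), (if ¬ 2 ∣ orderOf y then
        ∑ χ : IrrCharacter G, FSIndicatorSum.nu (χ : G → ℂ) * (χ : G → ℂ) (J * y) else 0) =
        ∑ χ : IrrCharacter G, FSIndicatorSum.nu (χ : G → ℂ) *
          (if ¬ 2 ∣ orderOf y then (χ : G → ℂ) (J * y) else 0) := fun y => by
      split_ifs <;> simp
    rw [Finset.sum_congr rfl fun y _ => e y, Finset.sum_comm]
    refine Eq.trans ?_ (Finset.sum_subset (Finset.subset_univ (BlockContribBounds.members (principalBlock M G)))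
      fun χ _ hχ => ?_)
    · refine Finset.sum_congr rfl fun χ hχ => ?_
      rw [← Finset.mul_sum, sum_section hM hP4 hexp hJ hJ2 χ, if_pos (BlockContribBounds.mem_members.1 hχ)]
      ring
    · rw [← Finset.mul_sum, sum_section hM hP4 hexp hJ hJ2 χ,
        if_neg (fun h => hχ (BlockContribBounds.mem_members.2 h)), mul_zero]
  exact (mul_eq_zero.1 hswap).resolve_left (Nat.cast_ne_zero.2 (nreg_pos J).ne')

/-- Pairs of conjugates of `J` with product in the section of `J`. -/
theorem card_pairs (hP4 : Nat.card P = 4) (hexp : ∀ x : P, x * x = 1) (hJ : J ∈ (P : Subgroup G))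
    (hJ2 : orderOf J = 2) (hone : ∀ s t : G, orderOf s = 2 → orderOf t = 2 → IsConj s t) :
    (Finset.univ.filter fun ab : G × G => ∃ y : Subgroup.centralizer ({J} : Set G),
        ¬ 2 ∣ orderOf y ∧ ab.1 * J * ab.1⁻¹ * (ab.2 * J * ab.2⁻¹) = J * y).card *
      Nat.card (Subgroup.centralizer ((P : Subgroup G) : Set G)) ^ 2 =
      2 * Nat.card (Subgroup.centralizer ({J} : Set G)) ^ 4 := by
  haveI : Fact (Nat.Prime 2) := ⟨Nat.prime_two⟩
  have hJ1 : J ≠ 1 := fun h => by rw [h, orderOf_one] at hJ2; omega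
  have hJJ := mul_self_of_order_two hJ2
  obtain ⟨N, hNn, hNcard, hidx, hmem, hrep⟩ := KleinFourLocal79.exists_odd_subgroup P hP4 hexp hJ hJ1
  haveI := hNn
  have hPC := KleinFourLocal79.le_centralizer P hexp hJ
  obtain ⟨t, ht, ht1, htJ⟩ : ∃ t ∈ (P : Subgroup G), t ≠ 1 ∧ t ≠ J := by
    by_contra! hcon
    have hle := Finset.card_le_card (s := (Finset.univ : Finset P)) (t := {⟨1, one_mem _⟩, ⟨J, hJ⟩})
      fun x _ => by
        by_cases hx1 : (x : G) = 1
        · exact Finset.mem_insert.2 (Or.inl (Subtype.ext hx1))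
        · exact Finset.mem_insert.2 (Or.inr (Finset.mem_singleton.2 (Subtype.ext (hcon x x.2 hx1))))
    have h2 := hle.trans Finset.card_le_two
    rw [Finset.card_univ, ← Nat.card_eq_fintype_card, hP4] at h2
    omega
  let jc : Subgroup.centralizer ({J} : Set G) := ⟨J, hPC hJ⟩
  let tc : Subgroup.centralizer ({J} : Set G) := ⟨t, hPC ht⟩
  let sc : Subgroup.centralizer ({J} : Set G) := ⟨J * t, hPC (mul_mem hJ ht)⟩
  have hs1 : J * t ≠ 1 := fun h => htJ (by
    calc t = J * J * t := by rw [hJJ, one_mul]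
      _ = J := by rw [mul_assoc, h, mul_one])
  have hsJ : J * t ≠ J := fun h => ht1 (mul_eq_left.1 h)
  let q := QuotientGroup.mk' N
  have hq : ∀ a b : Subgroup.centralizer ({J} : Set G), q a = q b ↔ a⁻¹ * b ∈ N := fun a b => QuotientGroup.eq
  have hqinj : ∀ a b : Subgroup.centralizer ({J} : Set G), (a : G) ∈ (P : Subgroup G) →
      (b : G) ∈ (P : Subgroup G) → q a = q b → a = b := by
    intro a b ha hb hab
    have h := (hmem _).1 ((hq a b).1 hab)
    have h2 : (a⁻¹ * b) * (a⁻¹ * b) = 1 := Subtype.ext (congrArg Subtype.val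
      (hexp ⟨((a⁻¹ * b : Subgroup.centralizer ({J} : Set G)) : G), mul_mem (inv_mem ha) hb⟩) :)
    rcases (Nat.dvd_prime Nat.prime_two).1
      (orderOf_dvd_of_pow_eq_one (show (a⁻¹ * b) ^ 2 = 1 by rw [pow_two, h2])) with e | e
    · exact inv_mul_eq_one.1 (orderOf_eq_one_iff.1 e)
    · exact absurd (dvd_of_eq e.symm) h
  have hsc : jc * tc = sc := rfl
  have hjj : jc * jc = 1 := Subtype.ext hJJ
  have hjs : jc * sc = tc := by rw [← hsc, ← mul_assoc, hjj, one_mul]
  set A := Finset.univ.filter fun u : Subgroup.centralizer ({J} : Set G) => u * u = 1 ∧ u⁻¹ * tc ∈ N with hA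
  set B := Finset.univ.filter fun u : Subgroup.centralizer ({J} : Set G) => u * u = 1 ∧ u⁻¹ * sc ∈ N with hB
  have hAc : A.card * Nat.card (Subgroup.centralizer ((P : Subgroup G) : Set G)) =
      Nat.card (Subgroup.centralizer ({J} : Set G)) := by
    rw [← KleinFourLocal79.card_involutions_coset P hP4 hexp hJ ht hJ1 ht1 htJ N hmem hrep tc rfl,
      Nat.subtype_card A (fun u => by simp [hA])]
  have hBc : B.card * Nat.card (Subgroup.centralizer ((P : Subgroup G) : Set G)) =
      Nat.card (Subgroup.centralizer ({J} : Set G)) := by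
    rw [← KleinFourLocal79.card_involutions_coset P hP4 hexp hJ (mul_mem hJ ht) hJ1 hs1 hsJ N hmem hrep sc rfl,
      Nat.subtype_card B (fun u => by simp [hB])]
  set S := A ×ˢ B ∪ B ×ˢ A with hS
  have hmemA : ∀ u, u ∈ A ↔ u * u = 1 ∧ q u = q tc := fun u => by simp [hA, hq]
  have hmemB : ∀ u, u ∈ B ↔ u * u = 1 ∧ q u = q sc := fun u => by simp [hB, hq]
  have hAB : Disjoint (A ×ˢ B) (B ×ˢ A) := by
    rw [Finset.disjoint_left]
    rintro ⟨u, v⟩ h h'
    rw [Finset.mem_product, hmemA, hmemB] at h h'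
    have := congrArg Subtype.val (hqinj tc sc ht (mul_mem hJ ht) (h.1.2.symm.trans h'.1.2))
    exact hJ1 (right_eq_mul.1 this)
  have hScard : S.card = 2 * (A.card * B.card) := by
    rw [hS, Finset.card_union_of_disjoint hAB, Finset.card_product, Finset.card_product]; ring
  have hSne : ∀ w ∈ S, (w.1 : G) ≠ 1 ∧ (w.2 : G) ≠ 1 ∧ w.1 * w.1 = 1 ∧ w.2 * w.2 = 1 ∧ q (w.1 * w.2) = q jc := by
    rintro ⟨u, v⟩ h
    have hne : ∀ {x z : Subgroup.centralizer ({J} : Set G)}, (z : G) ∈ (P : Subgroup G) → (z : G) ≠ 1 →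
        q x = q z → (x : G) ≠ 1 := by
      intro x z hz hz1 e hx
      refine hz1 ?_
      rw [show x = 1 from Subtype.ext hx] at e
      exact congrArg Subtype.val (hqinj z 1 hz (one_mem _) e.symm) |>.trans rfl
    simp only [hS, Finset.mem_union, Finset.mem_product, hmemA, hmemB] at h
    rcases h with ⟨⟨a1, a2⟩, b1, b2⟩ | ⟨⟨a1, a2⟩, b1, b2⟩
    · refine ⟨hne ht ht1 a2, hne (mul_mem hJ ht) hs1 b2, a1, b1, ?_⟩
      have e : tc * sc = jc := Subtype.ext (by
        show t * (J * t) = J
        rw [← mul_assoc, show t * J = J * t from congrArg Subtype.val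
          (KleinFourLocal79.comm_of_exp P hexp ⟨t, ht⟩ ⟨J, hJ⟩), mul_assoc,
          show t * t = 1 from congrArg Subtype.val (hexp ⟨t, ht⟩), mul_one])
      rw [map_mul, a2, b2, ← map_mul, e]
    · refine ⟨hne (mul_mem hJ ht) hs1 a2, hne ht ht1 b2, a1, b1, ?_⟩
      have e : sc * tc = jc := Subtype.ext (by
        show J * t * t = J
        rw [mul_assoc, show t * t = 1 from congrArg Subtype.val (hexp ⟨t, ht⟩), mul_one])
      rw [map_mul, a2, b2, ← map_mul, e]
  set F := Finset.univ.filter fun ab : G × G => ∃ y : Subgroup.centralizer ({J} : Set G),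
    ¬ 2 ∣ orderOf y ∧ ab.1 * J * ab.1⁻¹ * (ab.2 * J * ab.2⁻¹) = J * y with hF
  let Φ : G × G → G × G := fun ab => (ab.1 * J * ab.1⁻¹, ab.2 * J * ab.2⁻¹)
  let ι : Subgroup.centralizer ({J} : Set G) × Subgroup.centralizer ({J} : Set G) → G × G :=
    fun w => ((w.1 : G), (w.2 : G))
  have hι : Function.Injective ι := fun a b e =>
    Prod.ext (Subtype.ext (congrArg Prod.fst e)) (Subtype.ext (congrArg Prod.snd e))
  have hmaps : ∀ ab ∈ F, Φ ab ∈ S.image ι := by
    intro ab hab
    obtain ⟨y, hy, he⟩ := (Finset.mem_filter.1 hab).2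
    set u := ab.1 * J * ab.1⁻¹ with hu
    set v := ab.2 * J * ab.2⁻¹ with hv
    have huu : u * u = 1 := by
      calc u * u = ab.1 * (J * J) * ab.1⁻¹ := by rw [hu]; group
        _ = 1 := by rw [hJJ]; group
    have hvv : v * v = 1 := by
      calc v * v = ab.2 * (J * J) * ab.2⁻¹ := by rw [hv]; group
        _ = 1 := by rw [hJJ]; group
    have hu1 : u ≠ 1 := fun h => hJ1 (conj_eq_one_iff.1 h)
    have hv1 : v ≠ 1 := fun h => hJ1 (conj_eq_one_iff.1 h)
    have hcomm : Commute J (y : G) := (Subgroup.mem_centralizer_singleton_iff.1 y.2).symm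
    -- `u` inverts `J * y`, hence commutes with its power `J`
    have hinv : u * (J * y) * u⁻¹ = (J * (y : G))⁻¹ := by
      have hui : u⁻¹ = u := inv_eq_of_mul_eq_one_right huu
      have hvi : v⁻¹ = v := inv_eq_of_mul_eq_one_right hvv
      calc u * (J * y) * u⁻¹ = u * (u * v) * u⁻¹ := by rw [← he]
        _ = v * u := by rw [hui, ← mul_assoc u u, huu, one_mul]
        _ = (u * v)⁻¹ := by rw [mul_inv_rev, hui, hvi]
        _ = (J * (y : G))⁻¹ := by rw [he]
    have hpowJ : (J * (y : G)) ^ orderOf (y : G) = J := by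
      rw [hcomm.mul_pow, pow_orderOf_eq_one, mul_one, Subgroup.orderOf_coe]
      obtain ⟨k, hk⟩ := Nat.odd_iff.2 (Nat.two_dvd_ne_zero.1 hy)
      rw [hk, pow_succ, pow_mul, pow_two, hJJ, one_pow, one_mul]
    have huC : u ∈ Subgroup.centralizer ({J} : Set G) := by
      rw [Subgroup.mem_centralizer_singleton_iff, ← mul_inv_eq_iff_eq_mul]
      have h1 := congrArg (· ^ orderOf (y : G)) hinv
      simp only [conj_pow, inv_pow, hpowJ] at h1
      rw [h1, inv_eq_of_mul_eq_one_right hJJ]
    have hvC : v ∈ Subgroup.centralizer ({J} : Set G) := by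
      have hJy : J * (y : G) ∈ Subgroup.centralizer ({J} : Set G) := mul_mem (hPC hJ) y.2
      rw [show v = u⁻¹ * (J * y) by rw [← he]; group]
      exact mul_mem (inv_mem huC) hJy
    refine Finset.mem_image.2 ⟨(⟨u, huC⟩, ⟨v, hvC⟩), ?_, rfl⟩
    have huc : (⟨u, huC⟩ : Subgroup.centralizer ({J} : Set G)) * ⟨u, huC⟩ = 1 := Subtype.ext huu
    have hvc : (⟨v, hvC⟩ : Subgroup.centralizer ({J} : Set G)) * ⟨v, hvC⟩ = 1 := Subtype.ext hvv
    have hquv : q ⟨u, huC⟩ * q ⟨v, hvC⟩ = q jc := by
      rw [← map_mul, show (⟨u, huC⟩ : Subgroup.centralizer ({J} : Set G)) * ⟨v, hvC⟩ = jc * y from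
        Subtype.ext he, map_mul, show q y = 1 from (QuotientGroup.eq_one_iff y).2 ((hmem y).2 hy), mul_one]
    have hq1 : ∀ x : Subgroup.centralizer ({J} : Set G), x * x = 1 → (x : G) ≠ 1 → q x ≠ 1 := by
      intro x hxx hx1 e
      have h := (hmem x).1 ((QuotientGroup.eq_one_iff x).1 e)
      rcases (Nat.dvd_prime Nat.prime_two).1
        (orderOf_dvd_of_pow_eq_one (show x ^ 2 = 1 by rw [pow_two, hxx])) with e' | e'
      · exact hx1 (congrArg Subtype.val (orderOf_eq_one_iff.1 e'))
      · exact h (dvd_of_eq e'.symm)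
    obtain ⟨x, hxP, hxu⟩ := hrep ⟨u, huC⟩
    have hqx := (hq x _).2 hxu
    have hqv : q ⟨v, hvC⟩ = q (x * jc) := by
      rw [map_mul, hqx, ← hquv, ← mul_assoc, ← map_mul, huc, map_one, one_mul]
    simp only [hS, Finset.mem_union, Finset.mem_product, hmemA, hmemB]
    rcases KleinFourLocal79.eq_of_mem P hP4 hexp hJ ht hJ1 ht1 htJ hxP with e | e | e | e
    · exact absurd (hqx.symm.trans (by rw [show x = 1 from Subtype.ext e, map_one])) (hq1 _ huc hu1)
    · exfalso
      rw [show x = jc from Subtype.ext e, hjj, map_one] at hqv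
      exact hq1 _ hvc hv1 hqv
    · left
      rw [show x = tc from Subtype.ext e] at hqx hqv
      refine ⟨⟨huc, hqx.symm⟩, hvc, hqv.trans (congrArg q (Subtype.ext ?_))⟩
      show t * J = J * t
      exact congrArg Subtype.val (KleinFourLocal79.comm_of_exp P hexp ⟨t, ht⟩ ⟨J, hJ⟩)
    · right
      rw [show x = sc from Subtype.ext e] at hqx hqv
      refine ⟨⟨huc, hqx.symm⟩, hvc, hqv.trans (congrArg q (Subtype.ext ?_))⟩
      show J * t * J = t
      rw [mul_assoc, show t * J = J * t from congrArg Subtype.val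
        (KleinFourLocal79.comm_of_exp P hexp ⟨t, ht⟩ ⟨J, hJ⟩), ← mul_assoc, hJJ, one_mul]
  have hfib : ∀ w ∈ S.image ι, (F.filter fun ab => Φ ab = w).card =
      Nat.card (Subgroup.centralizer ({J} : Set G)) ^ 2 := by
    intro w hw
    obtain ⟨⟨u, v⟩, huv, rfl⟩ := Finset.mem_image.1 hw
    obtain ⟨hu1, hv1, huu, hvv, hquv⟩ := hSne _ huv
    have hord : ∀ x : Subgroup.centralizer ({J} : Set G), x * x = 1 → (x : G) ≠ 1 → orderOf (x : G) = 2 :=
      fun x hxx hx1 => orderOf_eq_prime (by rw [pow_two]; exact congrArg Subtype.val hxx) hx1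
    have he : F.filter (fun ab => Φ ab = ι (u, v)) =
        (Finset.univ.filter fun a : G => a * J * a⁻¹ = (u : G)) ×ˢ
          (Finset.univ.filter fun a : G => a * J * a⁻¹ = (v : G)) := by
      ext ⟨a, b⟩
      simp only [hF, Finset.mem_filter, Finset.mem_univ, true_and, Finset.mem_product, Φ, ι, Prod.mk.injEq]
      refine ⟨fun h => h.2, fun h => ⟨⟨jc⁻¹ * (u * v), ?_, ?_⟩, h⟩⟩
      · exact (hmem _).1 ((hq _ _).1 hquv.symm)
      · rw [h.1, h.2]
        push_cast
        show _ = J * (J⁻¹ * _)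
        rw [mul_inv_cancel_left]
    rw [he, Finset.card_product, pow_two]
    have hc1 := card_conjugators J (u : G)
    have hc2 := card_conjugators J (v : G)
    rw [if_pos (hone _ _ hJ2 (hord u huu hu1)), Nat.cast_inj] at hc1
    rw [if_pos (hone _ _ hJ2 (hord v hvv hv1)), Nat.cast_inj] at hc2
    rw [hc1, hc2]
  rw [Finset.card_eq_sum_card_fiberwise hmaps, Finset.sum_congr rfl hfib, Finset.sum_const, smul_eq_mul,
    Finset.card_image_of_injective _ hι, hScard]
  calc 2 * (A.card * B.card) * Nat.card (Subgroup.centralizer ({J} : Set G)) ^ 2 *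
        Nat.card (Subgroup.centralizer ((P : Subgroup G) : Set G)) ^ 2
      = 2 * ((A.card * Nat.card (Subgroup.centralizer ((P : Subgroup G) : Set G))) *
          (B.card * Nat.card (Subgroup.centralizer ((P : Subgroup G) : Set G)))) *
          Nat.card (Subgroup.centralizer ({J} : Set G)) ^ 2 := by ring
    _ = _ := by rw [hAc, hBc]; ring

/-- The order formula. -/
theorem order_identity (hM : IsPModular 2 M) (hP4 : Nat.card P = 4) (hexp : ∀ x : P, x * x = 1)
    (hJ : J ∈ (P : Subgroup G)) (hJ2 : orderOf J = 2)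
    (hone : ∀ s t : G, orderOf s = 2 → orderOf t = 2 → IsConj s t) :
    (Nat.card G : ℂ) * (∑ χ ∈ BlockContribBounds.members (principalBlock M G),
        (χ : G → ℂ) J * (χ : G → ℂ) J * (χ : G → ℂ) J / (χ : G → ℂ) 1) *
      (Nat.card (Subgroup.centralizer ((P : Subgroup G) : Set G)) : ℂ) ^ 2 =
      8 * (Nat.card (Subgroup.centralizer ({J} : Set G)) : ℂ) ^ 3 := by
  have hJ1 : J ≠ 1 := fun h => by rw [h, orderOf_one] at hJ2; omega
  set T : G → ℂ := fun h => ∑ ab : G × G,
    if ab.1 * J * ab.1⁻¹ * (ab.2 * J * ab.2⁻¹) = h then (1 : ℂ) else 0 with hT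
  have hTc : IsClassFunction G T := by
    intro g h
    simp only [hT]
    refine Fintype.sum_equiv (Equiv.prodCongr (Equiv.mulLeft h⁻¹) (Equiv.mulLeft h⁻¹)) _ _ fun ab => ?_
    simp only [Equiv.prodCongr_apply, Prod.map_fst, Prod.map_snd, Equiv.coe_mulLeft]
    refine if_congr ⟨fun e => ?_, fun e => ?_⟩ rfl rfl
    · calc _ = h⁻¹ * (ab.1 * J * ab.1⁻¹ * (ab.2 * J * ab.2⁻¹)) * h := by group
        _ = g := by rw [e]; group
    · rw [← e]; group
  have hco : ∀ χ : IrrCharacter G, classInner T (χ : G → ℂ) =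
      (Nat.card G : ℂ) * (χ : G → ℂ) J * (χ : G → ℂ) J / (χ : G → ℂ) 1 := by
    intro χ
    have h := congrArg conj (CharAverage.sum_conj_mul_conj χ J J)
    simp only [map_sum, map_div₀, map_mul, map_pow, map_natCast, apply_real (mul_self_of_order_two hJ2),
      show conj ((χ : G → ℂ) 1) = (χ : G → ℂ) 1 by rw [← irr_inv, inv_one]] at h
    rw [classInner]
    simp only [hT, Finset.sum_mul, ite_mul, one_mul, zero_mul]
    rw [Finset.sum_comm]
    simp only [Finset.sum_ite_eq, Finset.mem_univ, if_true]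
    rw [Fintype.sum_prod_type, h]
    have hG : (Nat.card G : ℂ) ≠ 0 := Nat.cast_ne_zero.2 Nat.card_pos.ne'
    field_simp
  have hsum : ∑ y : Subgroup.centralizer ({J} : Set G), (if ¬ 2 ∣ orderOf y then T (J * y) else 0) =
      (Nat.card G : ℂ) * (nreg J : ℂ) * ∑ χ ∈ BlockContribBounds.members (principalBlock M G),
        (χ : G → ℂ) J * (χ : G → ℂ) J * (χ : G → ℂ) J / (χ : G → ℂ) 1 := by
    have e : ∀ y : Subgroup.centralizer ({J} : Set G), (if ¬ 2 ∣ orderOf y then T (J * y) else 0) =
        ∑ χ : IrrCharacter G, classInner T (χ : G → ℂ) *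
          (if ¬ 2 ∣ orderOf y then (χ : G → ℂ) (J * y) else 0) := fun y => by
      split_ifs
      · simp
      · conv_lhs => rw [CharBasicOrth.eq_sum_classInner hTc]
        simp
    rw [Finset.sum_congr rfl fun y _ => e y, Finset.sum_comm, Finset.mul_sum]
    symm
    refine Eq.trans ?_ (Finset.sum_subset (Finset.subset_univ (BlockContribBounds.members (principalBlock M G)))
      fun χ _ hχ => ?_)
    · refine Finset.sum_congr rfl fun χ hχ => ?_
      rw [← Finset.mul_sum, sum_section hM hP4 hexp hJ hJ2 χ, if_pos (BlockContribBounds.mem_members.1 hχ), hco]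
      ring
    · rw [← Finset.mul_sum, sum_section hM hP4 hexp hJ hJ2 χ,
        if_neg (fun h => hχ (BlockContribBounds.mem_members.2 h)), mul_zero]
  have hcount : ∑ y : Subgroup.centralizer ({J} : Set G), (if ¬ 2 ∣ orderOf y then T (J * y) else 0) =
      ((Finset.univ.filter fun ab : G × G => ∃ y : Subgroup.centralizer ({J} : Set G),
        ¬ 2 ∣ orderOf y ∧ ab.1 * J * ab.1⁻¹ * (ab.2 * J * ab.2⁻¹) = J * y).card : ℂ) := by
    rw [Finset.card_filter, Nat.cast_sum]
    have e : ∀ y : Subgroup.centralizer ({J} : Set G), (if ¬ 2 ∣ orderOf y then T (J * y) else 0) =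
        ∑ ab : G × G, if ¬ 2 ∣ orderOf y ∧ ab.1 * J * ab.1⁻¹ * (ab.2 * J * ab.2⁻¹) = J * y then (1 : ℂ) else 0 :=
      fun y => by
        by_cases hy : 2 ∣ orderOf y
        · simp [hy]
        · rw [if_pos hy]; simp [hT, hy]
    rw [Finset.sum_congr rfl fun y _ => e y, Finset.sum_comm]
    refine Finset.sum_congr rfl fun ab _ => ?_
    rw [Finset.sum_boole]
    split_ifs with hex
    · obtain ⟨y, hy⟩ := hex
      rw [show (Finset.univ.filter fun z : Subgroup.centralizer ({J} : Set G) =>
        ¬ 2 ∣ orderOf z ∧ ab.1 * J * ab.1⁻¹ * (ab.2 * J * ab.2⁻¹) = J * z) = {y} by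
          ext z
          simp only [Finset.mem_filter, Finset.mem_univ, true_and, Finset.mem_singleton]
          exact ⟨fun h => Subtype.ext (mul_left_cancel (h.2.symm.trans hy.2)), fun h => h ▸ hy⟩]
      simp
    · rw [Finset.card_eq_zero.2 (Finset.filter_eq_empty_iff.2 fun z _ h => hex ⟨z, h⟩)]
  rw [hsum] at hcount
  have hp := congrArg (fun n : ℕ => (n : ℂ)) (card_pairs hP4 hexp hJ hJ2 hone)
  push_cast at hp
  rw [← hcount] at hp
  have hn := congrArg (fun n : ℕ => (n : ℂ)) (four_nreg hP4 hexp hJ hJ1)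
  push_cast at hn
  refine mul_left_cancel₀ (Nat.cast_ne_zero.2 (nreg_pos J).ne' : (nreg J : ℂ) ≠ 0) ?_
  rw [← hn] at hp ⊢
  linear_combination hp

/-- With one class of involutions the principal block has four members and regular rank three. -/
theorem card_and_rank (hM : IsPModular 2 M) (hP4 : Nat.card P = 4) (hexp : ∀ x : P, x * x = 1)
    (hJ : J ∈ (P : Subgroup G)) (hJ2 : orderOf J = 2)
    (hone : ∀ s t : G, orderOf s = 2 → orderOf t = 2 → IsConj s t) :
    Nat.card (principalBlock M G) = 4 ∧ blockRank 2 (principalBlock M G) = 3 := by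
  haveI : Fact (Nat.Prime 2) := ⟨Nat.prime_two⟩
  set B := principalBlock M G with hBdef
  choose z hzodd hzJ _ using fun χ : B => exists_odd_value hM hP4 hJ2 χ.2
  have hsq := sum_sq hM hP4 hexp hJ hJ2
  rw [← hBdef] at hsq
  have hsq' : ∑ χ : B, z χ * z χ = 4 := by
    have : ((∑ χ : B, z χ * z χ : ℤ) : ℂ) = ((4 : ℤ) : ℂ) := by
      push_cast
      rw [← hsq, Finset.sum_subtype (BlockContribBounds.members B) (fun χ => BlockContribBounds.mem_members)
        (fun χ : IrrCharacter G => (χ : G → ℂ) J * (χ : G → ℂ) J)]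
      exact Finset.sum_congr rfl fun χ _ => by rw [hzJ χ]
    exact_mod_cast this
  have h1 : ∀ χ : B, 1 ≤ z χ * z χ := fun χ => by
    obtain ⟨k, hk⟩ := hzodd χ
    rcases le_or_gt 0 k with h | h <;> rw [hk] <;> nlinarith
  have h8 : ∀ χ : B, z χ * z χ = 1 := by
    intro χ
    obtain ⟨k, hk⟩ := hzodd χ
    have h4 : z χ * z χ ≤ 4 := hsq' ▸ Finset.single_le_sum (f := fun χ => z χ * z χ)
      (fun χ _ => zero_le_one.trans (h1 χ)) (Finset.mem_univ χ)
    rcases lt_trichotomy k 0 with h | h | h
    · have : k = -1 := by nlinarith [hk ▸ h4]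
      rw [hk, this]; norm_num
    · rw [hk, h]; norm_num
    · exfalso; nlinarith [hk ▸ h4]
  have hcard : Nat.card B = 4 := by
    simp only [h8, Finset.sum_const, Finset.card_univ, nsmul_eq_mul, mul_one] at hsq'
    rw [Nat.card_eq_fintype_card]
    exact_mod_cast hsq'
  refine ⟨hcard, ?_⟩
  let R : (B → ℂ) →ₗ[ℂ] (G → ℂ) :=
    Fintype.linearCombination ℂ (fun χ : B => pRegularPart 2 ((χ.1 : G → ℂ)))
  have hR : ∀ c g, R c g = if ¬ 2 ∣ orderOf g then ∑ χ : B, c χ * (χ.1 : G → ℂ) g else 0 := by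
    intro c g
    simp only [R, Fintype.linearCombination_apply, Finset.sum_apply, Pi.smul_apply, smul_eq_mul,
      pRegularPart, IsPRegular]
    by_cases h : 2 ∣ orderOf g
    · rw [if_neg (not_not.2 h)]; exact Finset.sum_eq_zero fun χ _ => by simp [h]
    · rw [if_pos h]; exact Finset.sum_congr rfl fun χ _ => by simp [h]
  let e : B → ℂ := fun χ => (χ.1 : G → ℂ) J
  have hJJ := mul_self_of_order_two hJ2
  have hsumB : ∀ f : IrrCharacter G → ℂ,
      ∑ χ : B, f χ.1 = ∑ χ ∈ BlockContribBounds.members B, f χ := fun f =>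
    (Finset.sum_subtype (BlockContribBounds.members B) (fun χ => BlockContribBounds.mem_members) f).symm
  have heJ : ∑ χ : B, e χ * (χ.1 : G → ℂ) J = 4 := by
    rw [hsumB fun χ => (χ : G → ℂ) J * (χ : G → ℂ) J]; exact hsq
  have he : e ∈ LinearMap.ker R := by
    rw [LinearMap.mem_ker]
    funext g
    rw [hR, Pi.zero_apply]
    split_ifs with hg
    · rfl
    · have h := weak_orthogonality hM BlockPrincipal81.isPBlock_principal (B := B) (x := g) (y := J) hg
        (by rw [hJ2])
      rw [← Finset.sum_filter, BlockContribBounds.filter_eq_members, ← hsumB] at h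
      rw [← h]
      refine Finset.sum_congr rfl fun χ _ => ?_
      rw [apply_real hJJ]; exact mul_comm _ _
  have he0 : e ≠ 0 := by
    intro h
    rw [h] at heJ
    simp at heJ
  have hker : LinearMap.ker R = Submodule.span ℂ {e} := by
    refine le_antisymm (fun c hc => ?_) ((Submodule.span_singleton_le_iff_mem _ _).2 he)
    rw [LinearMap.mem_ker] at hc
    set f : G → ℂ := fun g => ∑ χ : B, c χ * (χ.1 : G → ℂ) g with hf
    have hfc : IsClassFunction G f := fun g h => by simp only [hf, irr_classFun _ g h]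
    have hreg : ∀ g : G, ¬ 2 ∣ orderOf g → f g = 0 := fun g hg => by
      have := congrFun hc g
      rwa [hR, if_pos hg, Pi.zero_apply] at this
    set s := f J / 4 with hs
    have hzero : ∀ g : G, f g = s * ∑ χ : B, e χ * (χ.1 : G → ℂ) g := by
      intro g
      obtain ⟨x, y, hxy, hcom, hx, hy⟩ := exists_pPart (Nat.prime_two) g
      by_cases hx1 : x = 1
      · rw [← hxy, hx1, one_mul, hreg y hy]
        have := congrFun (LinearMap.mem_ker.1 he) y
        rw [hR, if_pos hy, Pi.zero_apply] at this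
        rw [this, mul_zero]
      · have hx2 : orderOf x = 2 := orderOf_eq_prime
          (by rw [pow_two]; exact KleinFourLocal79.mul_self_of_two_el P hexp hx) hx1
        obtain ⟨d, hd⟩ := isConj_iff.1 (hone x J hx2 hJ2)
        have hmemC : d * y * d⁻¹ ∈ Subgroup.centralizer ({J} : Set G) := by
          rw [Subgroup.mem_centralizer_singleton_iff, ← hd]
          calc d * y * d⁻¹ * (d * x * d⁻¹) = d * (y * x) * d⁻¹ := by group
            _ = _ := by rw [← hcom.eq]; group
        have hy' : ¬ 2 ∣ orderOf (⟨_, hmemC⟩ : Subgroup.centralizer ({J} : Set G)) := by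
          rw [Subgroup.orderOf_mk, show d * y * d⁻¹ = MulAut.conj d y from rfl, MulEquiv.orderOf_eq]
          exact hy
        have hconst : ∀ χ : B, (χ.1 : G → ℂ) g = (χ.1 : G → ℂ) J := by
          intro χ
          rw [← sec_const hM hP4 hexp hJ hJ2 χ.2 hy', ← irr_classFun χ.1 g d, ← hxy]
          refine congrArg (χ.1 : G → ℂ) ?_
          show d * (x * y) * d⁻¹ = J * (d * y * d⁻¹)
          rw [← hd]; group
        simp only [hf, hconst, heJ, hs]
        ring
    have hlin := Fintype.linearIndependent_iff.1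
      ((CharBasicOrth.linearIndependent_irr (G := G)).comp (Subtype.val : B → IrrCharacter G)
        Subtype.val_injective) (fun χ => c χ - s * e χ) (by
          funext g
          simp only [Finset.sum_apply, Pi.smul_apply, smul_eq_mul, Function.comp_apply, Pi.zero_apply,
            sub_mul, Finset.sum_sub_distrib]
          have := hzero g
          simp only [hf, Finset.mul_sum] at this
          rw [this, sub_eq_zero]
          exact Finset.sum_congr rfl fun χ _ => by ring)
    exact Submodule.mem_span_singleton.2 ⟨s, funext fun χ => (sub_eq_zero.1 (hlin χ)).symm⟩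
  have hrn := R.finrank_range_add_finrank_ker
  rw [hker, finrank_span_singleton he0, Module.finrank_fintype_fun_eq_card, ← Nat.card_eq_fintype_card,
    hcard] at hrn
  have hrange : blockRank 2 B = Module.finrank ℂ (LinearMap.range R) := by
    rw [blockRank, Fintype.range_linearCombination, ← Set.image_eq_range (fun χ : IrrCharacter G => pRegularPart 2 (χ : G → ℂ))]
  omega

end Cfsg.Agent.KleinFourChars79
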