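import Mathlib
import Cfsg.Agent.Lib.KleinFourChars79

/-!
# The four characters of the principal 2-block, Klein four Sylow 2-subgroup, one class of involutions
-/

set_option autoImplicit false

open scoped ComplexConjugate

namespace Cfsg.Agent.KleinFourBlock79

open Cfsg BlockTheoryLocalRing BlockTheoryCentre BlockTheoryIdem BlockContribPrime BlockContrib

attribute [local instance] Classical.propDecidable

universe u

variable {G : Type u} [Group G] [Fintype G] {M : Ideal AlgInt} {P : Sylow 2 G} {J : G}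

set_option maxHeartbeats 1600000 in
theorem main (hM : IsPModular 2 M) (hP4 : Nat.card P = 4) (hexp : ∀ x : P, x * x = 1)
    (hJ : J ∈ (P : Subgroup G)) (hJ2 : orderOf J = 2)
    (hone : ∀ s t : G, orderOf s = 2 → orderOf t = 2 → IsConj s t) :
    ∃ ζ₂ ζ₃ ζ₄ : Cfsg.IrrCharacter G, ∃ ε : ℤ, (ε = 1 ∨ ε = -1) ∧ (ζ₂ : G → ℂ) ≠ (fun _ => 1) ∧
      (ζ₃ : G → ℂ) ≠ (fun _ => 1) ∧ ζ₂ ≠ ζ₃ ∧ ζ₂ ≠ ζ₄ ∧ ζ₃ ≠ ζ₄ ∧
      Cfsg.principalBlock M G = {χ : Cfsg.IrrCharacter G |
        (χ : G → ℂ) = (fun _ => 1) ∨ χ = ζ₂ ∨ χ = ζ₃ ∨ χ = ζ₄} ∧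
      (∀ z : G, orderOf z = 2 →
        (ζ₂ : G → ℂ) z = 1 ∧ (ζ₃ : G → ℂ) z = (ε : ℂ) ∧ (ζ₄ : G → ℂ) z = -1) ∧
      (4 : ℤ) ∣ (Cfsg.charDegree (ζ₂ : G → ℂ) : ℤ) - 1 ∧
      (4 : ℤ) ∣ (Cfsg.charDegree (ζ₃ : G → ℂ) : ℤ) - ε ∧
      (4 : ℤ) ∣ (Cfsg.charDegree (ζ₄ : G → ℂ) : ℤ) + 1 ∧
      ∀ y : G, Odd (orderOf y) →
        1 + (ζ₂ : G → ℂ) y + (ε : ℂ) * (ζ₃ : G → ℂ) y - (ζ₄ : G → ℂ) y = 0 := by
  set B := principalBlock M G with hBdef
  set S := BlockContribBounds.members B with hS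
  obtain ⟨hcard, -⟩ := KleinFourChars79.card_and_rank hM hP4 hexp hJ hJ2 hone
  rw [← hBdef] at hcard
  have hScard : S.card = 4 := by
    rw [← hcard, hS, BlockContribBounds.members, ← Set.ncard_eq_toFinset_card', ← Nat.card_coe_set_eq]
  have h1S : BlockPrincipal81.oneChar G ∈ S := BlockContribBounds.mem_members.2 (BlockPrincipal81.oneChar_mem hM)
  obtain ⟨a, b, c, hab, hac, hbc, hT⟩ := Finset.card_eq_three.1
    (show (S.erase (BlockPrincipal81.oneChar G)).card = 3 by rw [Finset.card_erase_of_mem h1S, hScard])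
  have hmem : ∀ χ ∈ ({a, b, c} : Finset (IrrCharacter G)), χ ≠ BlockPrincipal81.oneChar G ∧ χ ∈ B := by
    intro χ h
    rw [← hT, Finset.mem_erase] at h
    exact ⟨h.1, BlockContribBounds.mem_members.1 h.2⟩
  -- values at `J` are `±1`
  have hsq := KleinFourChars79.sum_sq hM hP4 hexp hJ hJ2
  rw [← hBdef, ← hS, ← Finset.add_sum_erase S _ h1S, hT] at hsq
  have hsum : ∀ f : IrrCharacter G → ℂ, ∑ χ ∈ ({a, b, c} : Finset (IrrCharacter G)), f χ = f a + f b + f c := by
    intro f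
    rw [Finset.sum_insert (by simp [hab, hac]), Finset.sum_insert (by simp [hbc]), Finset.sum_singleton]
    ring
  rw [hsum] at hsq
  obtain ⟨za, za1, za2, -⟩ := KleinFourChars79.exists_odd_value hM hP4 hJ2 (hmem a (by simp)).2
  obtain ⟨zb, zb1, zb2, -⟩ := KleinFourChars79.exists_odd_value hM hP4 hJ2 (hmem b (by simp)).2
  obtain ⟨zc, zc1, zc2, -⟩ := KleinFourChars79.exists_odd_value hM hP4 hJ2 (hmem c (by simp)).2
  rw [za2, zb2, zc2, show (BlockPrincipal81.oneChar G : G → ℂ) J = 1 from rfl] at hsq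
  have hz : za * za + zb * zb + zc * zc = 3 := by
    have h4 : 1 * 1 + (za * za + zb * zb + zc * zc) = (4 : ℤ) := by exact_mod_cast hsq
    linarith
  have hpm : ∀ z : ℤ, Odd z → z * z ≤ 3 → z = 1 ∨ z = -1 := by
    intro z hz h
    obtain ⟨k, rfl⟩ := hz
    have h1 : -1 ≤ k := by nlinarith
    have h2 : k ≤ 0 := by nlinarith
    omega
  have ea := hpm za za1 (by nlinarith [mul_self_nonneg zb, mul_self_nonneg zc])
  have eb := hpm zb zb1 (by nlinarith [mul_self_nonneg za, mul_self_nonneg zc])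
  have ec := hpm zc zc1 (by nlinarith [mul_self_nonneg za, mul_self_nonneg zb])
  -- weak orthogonality
  have horth : ∀ y : G, ¬ 2 ∣ orderOf y →
      1 + (za : ℂ) * (a : G → ℂ) y + (zb : ℂ) * (b : G → ℂ) y + (zc : ℂ) * (c : G → ℂ) y = 0 := by
    intro y hy
    have h := weak_orthogonality hM BlockPrincipal81.isPBlock_principal (B := B)
      (x := y) (y := J) hy (by rw [hJ2])
    rw [← Finset.sum_filter, BlockContribBounds.filter_eq_members, ← hS,
      ← Finset.add_sum_erase S _ h1S, hT, hsum] at h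
    simp only [za2, zb2, zc2, map_intCast, show ∀ g, (BlockPrincipal81.oneChar G : G → ℂ) g = 1 from
      fun _ => rfl, map_one, mul_one] at h
    linear_combination h
  -- the congruences
  have hconj : ∀ (χ : IrrCharacter G) (z : G), orderOf z = 2 → (χ : G → ℂ) z = (χ : G → ℂ) J := by
    intro χ z hz
    obtain ⟨d, hd⟩ := isConj_iff.1 (hone z J hz hJ2)
    rw [← hd, irr_classFun χ z d]
  have hmod : ∀ (χ : IrrCharacter G) (e : ℤ), (χ : G → ℂ) J = (e : ℂ) →
      (4 : ℤ) ∣ (charDegree (χ : G → ℂ) : ℤ) - e := by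
    intro χ e he
    obtain ⟨n, ρ, -, hρ⟩ := χ.2
    obtain ⟨k, hk⟩ := CharBasicOrth.classInner_isCharacter (G := (P : Subgroup G))
      (χ := fun p => (χ : G → ℂ) p) (ψ := fun _ => 1)
      ⟨n, ρ.comp (P : Subgroup G).subtype, funext fun p => by rw [← hρ]; rfl⟩ CharBasicDecomp.isCharacter_one
    simp only [classInner, map_one, mul_one, hP4] at hk
    have hv : ∀ p ∈ (Finset.univ : Finset (P : Subgroup G)).erase 1, (χ : G → ℂ) (p : G) = (e : ℂ) :=
      fun p hp => (hconj χ (p : G) (orderOf_eq_prime (hp := ⟨Nat.prime_two⟩)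
        (by rw [pow_two]; exact congrArg Subtype.val (hexp p))
        (fun h => (Finset.mem_erase.1 hp).1 (Subtype.ext h)))).trans he
    rw [← Finset.add_sum_erase Finset.univ (fun p : (P : Subgroup G) => (χ : G → ℂ) p) (Finset.mem_univ 1),
      Finset.sum_congr rfl hv,
      Finset.sum_const, Finset.card_erase_of_mem (Finset.mem_univ 1), Finset.card_univ,
      ← Nat.card_eq_fintype_card, hP4, OneMemClass.coe_one, CharAverage.irr_apply_one χ] at hk
    refine ⟨(k : ℤ) - e, ?_⟩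
    have h4 : (charDegree (χ : G → ℂ) : ℂ) + 3 * (e : ℂ) = 4 * (k : ℂ) := by
      rw [← hk]; push_cast; ring
    have h5 : (charDegree (χ : G → ℂ) : ℤ) + 3 * e = 4 * (k : ℤ) := by exact_mod_cast h4
    linarith
  have hB : ∀ χ : IrrCharacter G, χ ∈ B ↔ ((χ : G → ℂ) = (fun _ => 1) ∨ χ = a ∨ χ = b ∨ χ = c) := by
    intro χ
    rw [← BlockContribBounds.mem_members (B := B), ← hS, ← Finset.insert_erase h1S, hT]
    simp only [Finset.mem_insert, Finset.mem_singleton]
    exact or_congr_left ⟨fun h => by rw [h]; rfl, fun h => Subtype.ext h⟩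
  have build : ∀ p q r : IrrCharacter G, ∀ e : ℤ, (e = 1 ∨ e = -1) → p ≠ q → p ≠ r → q ≠ r →
      (∀ χ : IrrCharacter G, χ ∈ B ↔ ((χ : G → ℂ) = (fun _ => 1) ∨ χ = p ∨ χ = q ∨ χ = r)) →
      p ∈ ({a, b, c} : Finset (IrrCharacter G)) → q ∈ ({a, b, c} : Finset (IrrCharacter G)) →
      (p : G → ℂ) J = 1 → (q : G → ℂ) J = (e : ℂ) → (r : G → ℂ) J = -1 →
      (∀ y : G, ¬ 2 ∣ orderOf y →
        1 + (p : G → ℂ) y + (e : ℂ) * (q : G → ℂ) y - (r : G → ℂ) y = 0) →
      ∃ ζ₂ ζ₃ ζ₄ : Cfsg.IrrCharacter G, ∃ ε : ℤ, (ε = 1 ∨ ε = -1) ∧ (ζ₂ : G → ℂ) ≠ (fun _ => 1) ∧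
      (ζ₃ : G → ℂ) ≠ (fun _ => 1) ∧ ζ₂ ≠ ζ₃ ∧ ζ₂ ≠ ζ₄ ∧ ζ₃ ≠ ζ₄ ∧
      B = {χ : Cfsg.IrrCharacter G | (χ : G → ℂ) = (fun _ => 1) ∨ χ = ζ₂ ∨ χ = ζ₃ ∨ χ = ζ₄} ∧
      (∀ z : G, orderOf z = 2 →
        (ζ₂ : G → ℂ) z = 1 ∧ (ζ₃ : G → ℂ) z = (ε : ℂ) ∧ (ζ₄ : G → ℂ) z = -1) ∧
      (4 : ℤ) ∣ (Cfsg.charDegree (ζ₂ : G → ℂ) : ℤ) - 1 ∧
      (4 : ℤ) ∣ (Cfsg.charDegree (ζ₃ : G → ℂ) : ℤ) - ε ∧
      (4 : ℤ) ∣ (Cfsg.charDegree (ζ₄ : G → ℂ) : ℤ) + 1 ∧
      ∀ y : G, Odd (orderOf y) →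
        1 + (ζ₂ : G → ℂ) y + (ε : ℂ) * (ζ₃ : G → ℂ) y - (ζ₄ : G → ℂ) y = 0 := by
    intro p q r e he h1 h2 h3 hm hp hq vp vq vr ho
    refine ⟨p, q, r, e, he, fun h => (hmem p hp).1 (Subtype.ext h), fun h => (hmem q hq).1 (Subtype.ext h),
      h1, h2, h3, Set.ext hm, fun z hz => ⟨by rw [hconj p z hz, vp], by rw [hconj q z hz, vq],
        by rw [hconj r z hz, vr]⟩, hmod p 1 (by simp [vp]), hmod q e vq, ?_, fun y hy => ho y ?_⟩
    · have := hmod r (-1) (by simp [vr])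
      rwa [sub_neg_eq_add] at this
    · exact fun h => (Nat.not_even_iff_odd.2 hy) (even_iff_two_dvd.2 h)
  rcases ea with rfl | rfl <;> rcases eb with rfl | rfl <;> rcases ec with rfl | rfl
  rotate_right
  · exfalso
    have h := horth 1 (by simp)
    rw [CharAverage.irr_apply_one a, CharAverage.irr_apply_one b, CharAverage.irr_apply_one c] at h
    have h' : (1 : ℤ) + -1 * (charDegree (a : G → ℂ) : ℤ) + -1 * (charDegree (b : G → ℂ) : ℤ) +
        -1 * (charDegree (c : G → ℂ) : ℤ) = 0 := by exact_mod_cast h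
    have := CharAverage.irr_degree_pos a
    have := CharAverage.irr_degree_pos b
    have := CharAverage.irr_degree_pos c
    omega
  · exfalso
    have h := horth 1 (by simp)
    rw [CharAverage.irr_apply_one a, CharAverage.irr_apply_one b, CharAverage.irr_apply_one c] at h
    have h' : (1 : ℤ) + 1 * (charDegree (a : G → ℂ) : ℤ) + 1 * (charDegree (b : G → ℂ) : ℤ) +
        1 * (charDegree (c : G → ℂ) : ℤ) = 0 := by exact_mod_cast h
    omega
  all_goals first
    | exact build a b c 1 (by simp) hab hac hbc hB (by simp) (by simp) (by simp [za2]) (by simp [zb2])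
        (by simp [zc2]) (fun y hy => by have := horth y hy; push_cast at this ⊢; linear_combination this)
    | exact build a c b 1 (by simp) hac hab hbc.symm (fun χ => (hB χ).trans (by tauto)) (by simp) (by simp)
        (by simp [za2]) (by simp [zc2]) (by simp [zb2])
        (fun y hy => by have := horth y hy; push_cast at this ⊢; linear_combination this)
    | exact build b c a 1 (by simp) hbc hab.symm hac.symm (fun χ => (hB χ).trans (by tauto)) (by simp) (by simp)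
        (by simp [zb2]) (by simp [zc2]) (by simp [za2])
        (fun y hy => by have := horth y hy; push_cast at this ⊢; linear_combination this)
    | exact build a b c (-1) (by simp) hab hac hbc hB (by simp) (by simp) (by simp [za2]) (by simp [zb2])
        (by simp [zc2]) (fun y hy => by have := horth y hy; push_cast at this ⊢; linear_combination this)
    | exact build b a c (-1) (by simp) hab.symm hbc hac (fun χ => (hB χ).trans (by tauto)) (by simp) (by simp)
        (by simp [zb2]) (by simp [za2]) (by simp [zc2])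
        (fun y hy => by have := horth y hy; push_cast at this ⊢; linear_combination this)
    | exact build c a b (-1) (by simp) hac.symm hbc.symm hab (fun χ => (hB χ).trans (by tauto)) (by simp) (by simp)
        (by simp [zc2]) (by simp [za2]) (by simp [zb2])
        (fun y hy => by have := horth y hy; push_cast at this ⊢; linear_combination this)

end Cfsg.Agent.KleinFourBlock79
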