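import Mathlib
import Cfsg.Prelude.Def_Characters
import Cfsg.Agent.Lib.CharBasicDecomp
import Cfsg.Agent.Lib.FSIndicatorSum

/-!
# Invariant bilinear forms, the Frobenius–Schur indicator and real structures
-/

namespace Cfsg.Agent.RealRep79

open scoped ComplexConjugate ComplexOrder
open Cfsg.Agent Matrix

universe u

variable {G : Type u} [Group G] [Fintype G] {n : ℕ}

/-- The matrix of `ρ g`. -/
noncomputable def mat (ρ : Representation ℂ G (Fin n → ℂ)) :
    G →* Matrix (Fin n) (Fin n) ℂ where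
  toFun g := LinearMap.toMatrix' (ρ g)
  map_one' := by rw [map_one, LinearMap.toMatrix'_one]
  map_mul' g h := by rw [map_mul, LinearMap.toMatrix'_mul]

omit [Fintype G] in
theorem mat_mulVec (ρ : Representation ℂ G (Fin n → ℂ)) (g : G) (v : Fin n → ℂ) :
    mat ρ g *ᵥ v = ρ g v :=
  LinearMap.toMatrix'_mulVec _ _

omit [Fintype G] in
theorem trace_mat (ρ : Representation ℂ G (Fin n → ℂ)) (g : G) :
    (mat ρ g).trace = ρ.character g := by
  rw [Representation.character, LinearMap.trace_eq_matrix_trace ℂ (Pi.basisFun ℂ (Fin n)),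
    LinearMap.toMatrix_eq_toMatrix']
  rfl

/-- `M` is an invariant bilinear form of `ρ`. -/
def Inv (ρ : Representation ℂ G (Fin n → ℂ)) (M : Matrix (Fin n) (Fin n) ℂ) : Prop :=
  ∀ g : G, (mat ρ g)ᵀ * M * mat ρ g = M

omit [Fintype G] in
theorem Inv.transpose {ρ : Representation ℂ G (Fin n → ℂ)} {M : Matrix (Fin n) (Fin n) ℂ}
    (h : Inv ρ M) : Inv ρ Mᵀ := fun g => by
  conv_rhs => rw [← h g]
  simp [Matrix.transpose_mul, Matrix.mul_assoc]

omit [Fintype G] in
theorem Inv.mul_inv_mat {ρ : Representation ℂ G (Fin n → ℂ)} {M : Matrix (Fin n) (Fin n) ℂ}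
    (h : Inv ρ M) (g : G) : M * mat ρ g = (mat ρ g⁻¹)ᵀ * M := by
  conv_rhs => rw [← h g]
  rw [← Matrix.mul_assoc, ← Matrix.mul_assoc, ← Matrix.transpose_mul, ← map_mul, mul_inv_cancel,
    map_one, Matrix.transpose_one, Matrix.one_mul]

omit [Fintype G] in
theorem Inv.det_ne_zero {ρ : Representation ℂ G (Fin n → ℂ)} [ρ.IsIrreducible]
    {M : Matrix (Fin n) (Fin n) ℂ} (h : Inv ρ M) (hM : M ≠ 0) : M.det ≠ 0 := by
  intro hd
  obtain ⟨v, hv, hMv⟩ := Matrix.exists_mulVec_eq_zero_iff.2 hd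
  let U : Subrepresentation ρ :=
    ⟨LinearMap.ker (Matrix.toLin' M), fun g w hw => by
      rw [LinearMap.mem_ker, Matrix.toLin'_apply] at hw ⊢
      rw [← mat_mulVec, Matrix.mulVec_mulVec, h.mul_inv_mat, ← Matrix.mulVec_mulVec, hw,
        Matrix.mulVec_zero]⟩
  rcases eq_bot_or_eq_top U with e | e
  · have hU : LinearMap.ker (Matrix.toLin' M) = ⊥ := congrArg Subrepresentation.toSubmodule e
    refine hv ((Submodule.mem_bot ℂ).1 (hU.le ?_))
    exact LinearMap.mem_ker.2 ((Matrix.toLin'_apply M v).trans hMv)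
  · apply hM
    have h0 : Matrix.toLin' M = 0 :=
      LinearMap.ker_eq_top.1 (congrArg Subrepresentation.toSubmodule e)
    exact (LinearEquiv.map_eq_zero_iff Matrix.toLin').1 h0

omit [Fintype G] in
theorem exists_scalar (ρ : Representation ℂ G (Fin n → ℂ)) [ρ.IsIrreducible]
    (T : Matrix (Fin n) (Fin n) ℂ) (hT : ∀ g, T * mat ρ g = mat ρ g * T) :
    ∃ c : ℂ, T = c • (1 : Matrix (Fin n) (Fin n) ℂ) := by
  obtain ⟨c, hc, -⟩ := CharBasic.exists_scalar_of_commute ρ (Matrix.toLin' T) fun g v => by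
    rw [Matrix.toLin'_apply, Matrix.toLin'_apply, ← mat_mulVec, ← mat_mulVec,
      Matrix.mulVec_mulVec, Matrix.mulVec_mulVec, hT]
  refine ⟨c, Matrix.toLin'.injective ?_⟩
  rw [hc, map_smul, Matrix.toLin'_one]

omit [Fintype G] in
theorem Inv.eq_smul {ρ : Representation ℂ G (Fin n → ℂ)} [ρ.IsIrreducible]
    {M N : Matrix (Fin n) (Fin n) ℂ} (h : Inv ρ M) (hM : M ≠ 0) (hN : Inv ρ N) :
    ∃ c : ℂ, N = c • M := by
  have hu : IsUnit M.det := (h.det_ne_zero hM).isUnit
  obtain ⟨c, hc⟩ := exists_scalar ρ (M⁻¹ * N) fun g => by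
    have e1 : M⁻¹ * (mat ρ g⁻¹)ᵀ = mat ρ g * M⁻¹ := by
      calc M⁻¹ * (mat ρ g⁻¹)ᵀ = M⁻¹ * ((mat ρ g⁻¹)ᵀ * M) * M⁻¹ := by
            rw [Matrix.mul_assoc, Matrix.mul_assoc, Matrix.mul_nonsing_inv _ hu, Matrix.mul_one]
      _ = _ := by rw [← h.mul_inv_mat g, ← Matrix.mul_assoc M⁻¹, Matrix.nonsing_inv_mul _ hu,
            Matrix.one_mul]
    rw [Matrix.mul_assoc, hN.mul_inv_mat g, ← Matrix.mul_assoc, e1, Matrix.mul_assoc]
  refine ⟨c, ?_⟩
  have := congrArg (M * ·) hc
  simp only [← Matrix.mul_assoc, Matrix.mul_nonsing_inv _ hu, Matrix.one_mul, Matrix.mul_smul,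
    Matrix.mul_one] at this
  exact this

/-- Averaging over the action on bilinear forms. -/
noncomputable def avg (ρ : Representation ℂ G (Fin n → ℂ)) :
    Matrix (Fin n) (Fin n) ℂ →ₗ[ℂ] Matrix (Fin n) (Fin n) ℂ :=
  (Nat.card G : ℂ)⁻¹ • ∑ g : G,
    LinearMap.mulRight ℂ (mat ρ g) ∘ₗ LinearMap.mulLeft ℂ (mat ρ g)ᵀ

theorem avg_apply (ρ : Representation ℂ G (Fin n → ℂ)) (X : Matrix (Fin n) (Fin n) ℂ) :
    avg ρ X = (Nat.card G : ℂ)⁻¹ • ∑ g : G, (mat ρ g)ᵀ * X * mat ρ g := by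
  simp [avg]

theorem inv_avg (ρ : Representation ℂ G (Fin n → ℂ)) (X : Matrix (Fin n) (Fin n) ℂ) :
    Inv ρ (avg ρ X) := by
  intro h
  simp only [avg_apply, Matrix.mul_smul, Matrix.smul_mul,
    Matrix.mul_sum, Matrix.sum_mul]
  refine congrArg (fun Y => (Nat.card G : ℂ)⁻¹ • Y) ?_
  refine Fintype.sum_equiv (Equiv.mulRight h) _ _ fun g => ?_
  simp only [Equiv.coe_mulRight, map_mul, Matrix.transpose_mul, Matrix.mul_assoc]

theorem avg_eq_self (ρ : Representation ℂ G (Fin n → ℂ)) {M : Matrix (Fin n) (Fin n) ℂ}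
    (h : Inv ρ M) : avg ρ M = M := by
  rw [avg_apply, Finset.sum_congr rfl fun g _ => h g, Finset.sum_const, Finset.card_univ,
    ← Nat.cast_smul_eq_nsmul ℂ, smul_smul, ← Nat.card_eq_fintype_card,
    inv_mul_cancel₀ (Nat.cast_ne_zero.2 Nat.card_pos.ne'), one_smul]

theorem trace_linearMap (L : Matrix (Fin n) (Fin n) ℂ →ₗ[ℂ] Matrix (Fin n) (Fin n) ℂ) :
    LinearMap.trace ℂ _ L = ∑ i, ∑ j, L (Matrix.single i j 1) i j := by
  rw [LinearMap.trace_eq_matrix_trace ℂ (Matrix.stdBasis ℂ (Fin n) (Fin n)), Matrix.trace,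
    Fintype.sum_prod_type]
  refine Finset.sum_congr rfl fun i _ => Finset.sum_congr rfl fun j _ => ?_
  rw [Matrix.diag, LinearMap.toMatrix_apply, Matrix.stdBasis_eq_single]
  simp [Matrix.stdBasis]

theorem single_entry (A : Matrix (Fin n) (Fin n) ℂ) (i j a b : Fin n) :
    (Aᵀ * Matrix.single i j (1 : ℂ) * A) a b = A i a * A j b := by
  rw [Matrix.mul_apply, Finset.sum_eq_single j]
  · rw [Matrix.mul_single_apply_same, Matrix.transpose_apply, mul_one]
  · intro c _ hc
    rw [Matrix.mul_single_apply_of_ne _ _ _ _ _ hc, zero_mul]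
  · simp

theorem trace_avg (ρ : Representation ℂ G (Fin n → ℂ)) :
    LinearMap.trace ℂ _ (avg ρ) = (Nat.card G : ℂ)⁻¹ * ∑ g : G, ρ.character g * ρ.character g := by
  simp only [trace_linearMap, avg_apply, Matrix.smul_apply,
    Matrix.sum_apply, single_entry, smul_eq_mul, ← Finset.mul_sum]
  congr 1
  simp only [← trace_mat, Matrix.trace, Matrix.diag, Finset.sum_mul_sum]
  conv_lhs => enter [2, i]; rw [Finset.sum_comm]
  rw [Finset.sum_comm]

theorem trace_avg_transpose (ρ : Representation ℂ G (Fin n → ℂ)) :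
    LinearMap.trace ℂ _ (avg ρ ∘ₗ (Matrix.transposeLinearEquiv (Fin n) (Fin n) ℂ ℂ).toLinearMap)
      = FSIndicatorSum.nu ρ.character := by
  have hT : ∀ X : Matrix (Fin n) (Fin n) ℂ,
      Matrix.transposeLinearEquiv (Fin n) (Fin n) ℂ ℂ X = Xᵀ := fun X => rfl
  simp only [trace_linearMap, avg_apply, LinearMap.comp_apply, LinearEquiv.coe_coe, hT,
    Matrix.transpose_single, Matrix.smul_apply, Matrix.sum_apply, single_entry, smul_eq_mul,
    ← Finset.mul_sum]
  rw [FSIndicatorSum.nu]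
  congr 1
  simp only [← trace_mat, map_mul, Matrix.trace, Matrix.diag, Matrix.mul_apply]
  conv_lhs => enter [2, i]; rw [Finset.sum_comm]
  rw [Finset.sum_comm]
  exact Finset.sum_congr rfl fun g _ => Finset.sum_congr rfl fun i _ =>
    Finset.sum_congr rfl fun j _ => mul_comm _ _

theorem trace_smulRight' (f : Matrix (Fin n) (Fin n) ℂ →ₗ[ℂ] ℂ) (M : Matrix (Fin n) (Fin n) ℂ) :
    LinearMap.trace ℂ _ (f.smulRight M) = f M := by
  rw [trace_linearMap]
  conv_rhs => rw [Matrix.matrix_eq_sum_single M]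
  simp only [map_sum, LinearMap.smulRight_apply, Matrix.smul_apply, smul_eq_mul]
  refine Finset.sum_congr rfl fun i _ => Finset.sum_congr rfl fun j _ => ?_
  rw [mul_comm, ← smul_eq_mul, ← map_smul, Matrix.smul_single, smul_eq_mul, mul_one]

/-- The dichotomy for an irreducible representation. -/
theorem dichotomy (ρ : Representation ℂ G (Fin n → ℂ)) [ρ.IsIrreducible] :
    ((∀ M, Inv ρ M → M = 0) ∧ FSIndicatorSum.nu ρ.character = 0 ∧
      (Nat.card G : ℂ)⁻¹ * ∑ g : G, ρ.character g * ρ.character g = 0) ∨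
    (∃ M, M ≠ 0 ∧ Inv ρ M ∧
      (FSIndicatorSum.nu ρ.character = 1 ∨ FSIndicatorSum.nu ρ.character = -1) ∧
      Mᵀ = FSIndicatorSum.nu ρ.character • M ∧
      (Nat.card G : ℂ)⁻¹ * ∑ g : G, ρ.character g * ρ.character g = 1) := by
  by_cases hex : ∀ M, Inv ρ M → M = 0
  · left
    have h0 : avg ρ = 0 := LinearMap.ext fun X => hex _ (inv_avg ρ X)
    refine ⟨hex, ?_, ?_⟩
    · rw [← trace_avg_transpose, h0, LinearMap.zero_comp, map_zero]
    · rw [← trace_avg, h0, map_zero]
  · right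
    push Not at hex
    obtain ⟨M, hM, hM0⟩ := hex
    choose f hf using fun X => hM.eq_smul hM0 (inv_avg ρ X)
    let F : Matrix (Fin n) (Fin n) ℂ →ₗ[ℂ] ℂ :=
      { toFun := f
        map_add' := fun X Y => smul_left_injective ℂ hM0
          (by simp only [add_smul, ← hf, map_add])
        map_smul' := fun c X => smul_left_injective ℂ hM0
          (by simp only [RingHom.id_apply, smul_eq_mul, ← smul_smul, ← hf, map_smul]) }
    have havg : avg ρ = F.smulRight M := LinearMap.ext fun X => hf X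
    have hFM : F M = 1 := smul_left_injective ℂ hM0 (by
      change f M • M = (1 : ℂ) • M
      rw [← hf, avg_eq_self ρ hM, one_smul])
    obtain ⟨c, hc⟩ := hM.eq_smul hM0 hM.transpose
    have hc2 : c * c = 1 := smul_left_injective ℂ hM0 (by
      change (c * c) • M = (1 : ℂ) • M
      have := congrArg Matrix.transpose hc
      rw [Matrix.transpose_transpose, Matrix.transpose_smul, hc, smul_smul] at this
      rw [one_smul, ← this])
    have hnu : FSIndicatorSum.nu ρ.character = c := by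
      rw [← trace_avg_transpose]
      have : avg ρ ∘ₗ (Matrix.transposeLinearEquiv (Fin n) (Fin n) ℂ ℂ).toLinearMap
          = (F ∘ₗ (Matrix.transposeLinearEquiv (Fin n) (Fin n) ℂ ℂ).toLinearMap).smulRight M := by
        rw [havg]; rfl
      rw [this, trace_smulRight']
      change F Mᵀ = c
      rw [hc, map_smul, hFM, smul_eq_mul, mul_one]
    refine ⟨M, hM0, hM, ?_, by rw [hnu, hc], ?_⟩
    · rw [hnu]
      exact mul_self_eq_one_iff.1 hc2
    · rw [← trace_avg, havg, trace_smulRight', hFM]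

theorem sum_sq_eq_classInner {χ : G → ℂ} :
    (Nat.card G : ℂ)⁻¹ * ∑ g : G, χ g * χ g = Cfsg.classInner χ (fun g => conj (χ g)) := by
  simp [Cfsg.classInner]

theorem real_iff (ρ : Representation ℂ G (Fin n → ℂ)) [ρ.IsIrreducible] :
    (∀ g, (ρ.character g).im = 0) ↔
      (Nat.card G : ℂ)⁻¹ * ∑ g : G, ρ.character g * ρ.character g = 1 := by
  have h : Cfsg.IsIrrCharacter G ρ.character := ⟨n, ρ, inferInstance, rfl⟩
  have h' := CharBasicDecomp.isIrrCharacter_conj h
  rw [sum_sq_eq_classInner]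
  constructor
  · intro hr
    have e : (fun g => conj (ρ.character g)) = ρ.character :=
      funext fun g => Complex.conj_eq_iff_im.2 (hr g)
    rw [e, CharBasicOrth.classInner_irr_self h]
  · intro h1 g
    by_contra hg
    have hne : ρ.character ≠ fun g => conj (ρ.character g) := fun e =>
      hg (Complex.conj_eq_iff_im.1 (congrFun e g).symm)
    rw [CharBasicOrth.classInner_irr_ne h h' hne] at h1
    exact zero_ne_one h1

theorem nu_eq_zero_iff (ρ : Representation ℂ G (Fin n → ℂ)) [ρ.IsIrreducible] :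
    FSIndicatorSum.nu ρ.character = 0 ↔ ∃ g, (ρ.character g).im ≠ 0 := by
  rw [← not_iff_not, not_exists]
  simp only [not_not]
  rw [real_iff ρ]
  rcases dichotomy ρ with ⟨-, h1, h2⟩ | ⟨M, -, -, h1, -, h2⟩
  · rw [h1, h2]; simp
  · rw [h2]
    rcases h1 with e | e <;> rw [e] <;> simp

theorem nu_trichotomy {χ : G → ℂ} (h : Cfsg.IsIrrCharacter G χ) :
    (FSIndicatorSum.nu χ = 0 ∨ FSIndicatorSum.nu χ = 1 ∨ FSIndicatorSum.nu χ = -1) ∧
      (FSIndicatorSum.nu χ = 0 ↔ ∃ g, (χ g).im ≠ 0) := by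
  obtain ⟨m, ρ, hρ, rfl⟩ := h
  refine ⟨?_, nu_eq_zero_iff ρ⟩
  rcases dichotomy ρ with ⟨-, h1, -⟩ | ⟨M, -, -, h1, -, -⟩
  · exact Or.inl h1
  · exact Or.inr h1

theorem exists_form_of_real (ρ : Representation ℂ G (Fin n → ℂ)) [ρ.IsIrreducible]
    (hr : ∀ g, (ρ.character g).im = 0) :
    ∃ M, M ≠ 0 ∧ Inv ρ M ∧ Mᵀ = FSIndicatorSum.nu ρ.character • M := by
  rcases dichotomy ρ with ⟨-, -, h2⟩ | ⟨M, h0, hM, -, hT, -⟩
  · rw [(real_iff ρ).1 hr] at h2
    exact absurd h2 one_ne_zero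
  · exact ⟨M, h0, hM, hT⟩

theorem nu_eq_one_of_odd (ρ : Representation ℂ G (Fin n → ℂ)) [ρ.IsIrreducible]
    (hr : ∀ g, (ρ.character g).im = 0) (hn : Odd n) : FSIndicatorSum.nu ρ.character = 1 := by
  rcases dichotomy ρ with ⟨-, -, h2⟩ | ⟨M, h0, hM, hor, hT, -⟩
  · rw [(real_iff ρ).1 hr] at h2
    exact absurd h2 one_ne_zero
  · rcases hor with e | e
    · exact e
    · exfalso
      have hd := congrArg Matrix.det hT
      rw [e, Matrix.det_transpose, Matrix.det_smul, Fintype.card_fin, hn.neg_one_pow, neg_one_mul,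
        CharZero.eq_neg_self_iff] at hd
      exact hM.det_ne_zero h0 hd

/-- Extend scalars of a real representation to `ℂ`. -/
noncomputable def complexify (σ : Representation ℝ G (Fin n → ℝ)) :
    Representation ℂ G (Fin n → ℂ) where
  toFun g := Matrix.toLin' ((LinearMap.toMatrix' (σ g)).map (algebraMap ℝ ℂ))
  map_one' := by
    rw [map_one, LinearMap.toMatrix'_one, Matrix.map_one _ (map_zero _) (map_one _),
      Matrix.toLin'_one]
    rfl
  map_mul' g h := by
    rw [map_mul, LinearMap.toMatrix'_mul, Matrix.map_mul, Matrix.toLin'_mul]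
    rfl

omit [Fintype G] in
theorem mat_complexify (σ : Representation ℝ G (Fin n → ℝ)) (g : G) :
    mat (complexify σ) g = (LinearMap.toMatrix' (σ g)).map (algebraMap ℝ ℂ) := by
  simp [mat, complexify]

omit [Fintype G] in
theorem character_complexify (σ : Representation ℝ G (Fin n → ℝ)) (g : G) :
    (complexify σ).character g = ((LinearMap.trace ℝ (Fin n → ℝ) (σ g) : ℝ) : ℂ) := by
  rw [← trace_mat, mat_complexify,
    LinearMap.trace_eq_matrix_trace ℝ (Pi.basisFun ℝ (Fin n)), LinearMap.toMatrix_eq_toMatrix']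
  simp [Matrix.trace]

theorem nu_eq_one_of_real_rep {χ : G → ℂ} (hχ : Cfsg.IsIrrCharacter G χ)
    (σ : Representation ℝ G (Fin n → ℝ))
    (hσ : ∀ g, ((LinearMap.trace ℝ (Fin n → ℝ) (σ g) : ℝ) : ℂ) = χ g) :
    FSIndicatorSum.nu χ = 1 := by
  have hch : (complexify σ).character = χ := funext fun g => (character_complexify σ g).trans (hσ g)
  haveI : (complexify σ).IsIrreducible :=
    CharBasicDecomp.isIrreducible_of_isIrrCharacter _ (hch ▸ hχ)
  set R : G → Matrix (Fin n) (Fin n) ℝ := fun g => LinearMap.toMatrix' (σ g) with hR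
  let M0 : Matrix (Fin n) (Fin n) ℝ := ∑ g : G, (R g)ᵀ * R g
  have hM0 : ∀ h, (R h)ᵀ * M0 * R h = M0 := by
    intro h
    simp only [M0, Matrix.mul_sum, Matrix.sum_mul]
    refine Fintype.sum_equiv (Equiv.mulRight h) _ _ fun g => ?_
    simp [hR, Matrix.transpose_mul, Matrix.mul_assoc, LinearMap.toMatrix'_mul]
  let M := M0.map (algebraMap ℝ ℂ)
  have hinv : Inv (complexify σ) M := by
    intro g
    rw [mat_complexify, ← Matrix.transpose_map, ← Matrix.map_mul, ← Matrix.map_mul]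
    exact congrArg (fun Y : Matrix (Fin n) (Fin n) ℝ => Y.map (algebraMap ℝ ℂ)) (hM0 g)
  have hsym : Mᵀ = M := by
    have : M0ᵀ = M0 := by simp [M0, Matrix.transpose_sum, Matrix.transpose_mul]
    change (M0.map (algebraMap ℝ ℂ))ᵀ = M0.map (algebraMap ℝ ℂ)
    rw [← Matrix.transpose_map, this]
  have hn : 0 < n := by
    have := CharBasic.finrank_pos_of_irreducible (complexify σ)
    simpa using this
  have hne : M ≠ 0 := by
    intro h0
    have h1 : M0 = 0 :=
      Matrix.map_injective (algebraMap ℝ ℂ).injective (h0.trans (Matrix.map_zero _ (map_zero _)).symm)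
    have h2 : M0 ⟨0, hn⟩ ⟨0, hn⟩ = 0 := by rw [h1]; rfl
    have h3 : (1 : ℝ) ≤ M0 ⟨0, hn⟩ ⟨0, hn⟩ := by
      simp only [M0, Matrix.sum_apply, Matrix.mul_apply, Matrix.transpose_apply]
      refine le_trans ?_ (Finset.single_le_sum
        (fun g _ => Finset.sum_nonneg fun i _ => mul_self_nonneg _) (Finset.mem_univ (1 : G)))
      refine le_trans ?_ (Finset.single_le_sum (fun i _ => mul_self_nonneg _)
        (Finset.mem_univ (⟨0, hn⟩ : Fin n)))
      simp [hR, LinearMap.toMatrix'_one]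
    linarith
  rcases dichotomy (complexify σ) with ⟨hz, -, -⟩ | ⟨M', h0, hM', -, hT, -⟩
  · exact absurd (hz M hinv) hne
  · obtain ⟨c, hc⟩ := hM'.eq_smul h0 hinv
    have e : Mᵀ = FSIndicatorSum.nu (complexify σ).character • M := by
      rw [hc, Matrix.transpose_smul, hT, smul_comm]
    rw [hsym, hch] at e
    exact (smul_left_injective ℂ hne ((one_smul ℂ M).trans e)).symm

/-- The hermitian form `∑ g, (A g)ᴴ (A g)`. -/
noncomputable def herm (ρ : Representation ℂ G (Fin n → ℂ)) : Matrix (Fin n) (Fin n) ℂ :=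
  ∑ g : G, (mat ρ g)ᴴ * mat ρ g

theorem herm_invariant (ρ : Representation ℂ G (Fin n → ℂ)) (h : G) :
    (mat ρ h)ᴴ * herm ρ * mat ρ h = herm ρ := by
  simp only [herm, Matrix.mul_sum, Matrix.sum_mul]
  refine Fintype.sum_equiv (Equiv.mulRight h) _ _ fun g => ?_
  simp [Matrix.conjTranspose_mul, Matrix.mul_assoc]

theorem herm_posDef (ρ : Representation ℂ G (Fin n → ℂ)) : (herm ρ).PosDef := by
  classical
  unfold herm
  rw [← Finset.add_sum_erase _ _ (Finset.mem_univ (1 : G))]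
  refine Matrix.PosDef.add_posSemidef ?_ ?_
  · rw [map_one, Matrix.conjTranspose_one, Matrix.one_mul]; exact Matrix.PosDef.one
  · exact Matrix.posSemidef_sum _ fun g _ => Matrix.posSemidef_conjTranspose_mul_self _

theorem exists_real_form (ρ : Representation ℂ G (Fin n → ℂ)) [ρ.IsIrreducible]
    (hnu : FSIndicatorSum.nu ρ.character = 1) :
    ∃ (k : ℕ) (σ : Representation ℝ G (Fin k → ℝ)),
      ∀ g, ((LinearMap.trace ℝ (Fin k → ℝ) (σ g) : ℝ) : ℂ) = ρ.character g := by
  classical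
  obtain ⟨M, hM0, hM, hMT⟩ : ∃ M, M ≠ 0 ∧ Inv ρ M ∧ Mᵀ = M := by
    rcases dichotomy ρ with ⟨-, h1, -⟩ | ⟨M, h0, hM, -, hT, -⟩
    · rw [hnu] at h1; exact absurd h1 one_ne_zero
    · rw [hnu, one_smul] at hT; exact ⟨M, h0, hM, hT⟩
  set A := mat ρ with hA
  set H := herm ρ with hH
  have hHp := herm_posDef ρ
  have hHu : IsUnit H.det := (Matrix.isUnit_iff_isUnit_det _).1 hHp.isUnit
  have hHT : IsUnit Hᵀ.det := by rwa [Matrix.det_transpose]
  set N := Hᵀ⁻¹ * M with hN
  -- `N (A g) = conj (A g) N`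
  have hNA : ∀ g, N * A g = (A g).map (starRingEnd ℂ) * N := by
    intro g
    have e1 : Hᵀ * (A g).map (starRingEnd ℂ) = (A g⁻¹)ᵀ * Hᵀ := by
      have e := herm_invariant ρ g
      rw [← hA, ← hH] at e
      calc Hᵀ * (A g).map (starRingEnd ℂ)
          = (A g⁻¹)ᵀ * ((A g)ᵀ * (Hᵀ * (A g).map (starRingEnd ℂ))) := by
            rw [← Matrix.mul_assoc, ← Matrix.transpose_mul, ← map_mul, mul_inv_cancel, map_one,
              Matrix.transpose_one, Matrix.one_mul]
      _ = (A g⁻¹)ᵀ * ((A g)ᴴ * H * A g)ᵀ := by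
            simp only [Matrix.transpose_mul, Matrix.conjTranspose, Matrix.mul_assoc]
            congr 3
      _ = _ := by rw [e]
    calc N * A g = Hᵀ⁻¹ * ((A g⁻¹)ᵀ * M) := by rw [hN, Matrix.mul_assoc, hM.mul_inv_mat g]
    _ = Hᵀ⁻¹ * ((A g⁻¹)ᵀ * Hᵀ * Hᵀ⁻¹ * M) := by
          rw [Matrix.mul_assoc _ Hᵀ Hᵀ⁻¹, Matrix.mul_nonsing_inv _ hHT, Matrix.mul_one]
    _ = _ := by
          rw [← e1, hN, ← Matrix.mul_assoc, ← Matrix.mul_assoc, ← Matrix.mul_assoc,
            Matrix.nonsing_inv_mul _ hHT, Matrix.one_mul, Matrix.mul_assoc]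
  let K : (Fin n → ℂ) → (Fin n → ℂ) := fun v => fun i => conj ((N *ᵥ v) i)
  have hKconj : ∀ (B : Matrix (Fin n) (Fin n) ℂ) v,
      (fun i => conj ((B *ᵥ v) i)) = B.map (starRingEnd ℂ) *ᵥ (fun i => conj (v i)) := by
    intro B v; ext i; simp [Matrix.mulVec, dotProduct]
  have hcc : ∀ B : Matrix (Fin n) (Fin n) ℂ, (B.map (starRingEnd ℂ)).map (starRingEnd ℂ) = B := by
    intro B; ext i j; simp
  have hKA : ∀ g v, K (A g *ᵥ v) = A g *ᵥ K v := by
    intro g v
    change (fun i => conj ((N *ᵥ (A g *ᵥ v)) i)) = A g *ᵥ fun i => conj ((N *ᵥ v) i)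
    rw [Matrix.mulVec_mulVec, hNA, ← Matrix.mulVec_mulVec, hKconj, hcc]
  obtain ⟨c, hc⟩ := exists_scalar ρ (N.map (starRingEnd ℂ) * N) fun g => by
    rw [Matrix.mul_assoc, ← hA, hNA, ← Matrix.mul_assoc]
    have := congrArg (fun B : Matrix (Fin n) (Fin n) ℂ => B.map (starRingEnd ℂ)) (hNA g)
    simp only [Matrix.map_mul, hcc] at this
    rw [this, Matrix.mul_assoc]
  have hKK : ∀ v, K (K v) = c • v := by
    intro v
    change (fun i => conj ((N *ᵥ fun j => conj ((N *ᵥ v) j)) i)) = c • v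
    rw [hKconj]
    simp only [Complex.conj_conj]
    rw [Matrix.mulVec_mulVec, hc, Matrix.smul_mulVec, Matrix.one_mulVec]
  -- `c` is a positive real
  have hN0 : N ≠ 0 := by
    intro e; apply hM0
    have := congrArg (Hᵀ * ·) e
    simpa [hN, ← Matrix.mul_assoc, Matrix.mul_nonsing_inv _ hHT] using this
  obtain ⟨v, hv⟩ : ∃ v, N *ᵥ v ≠ 0 := by
    by_contra hall
    push Not at hall
    exact hN0 (Matrix.toLin'.injective (LinearMap.ext fun v => by simp [hall v]))
  have hv0 : v ≠ 0 := by rintro rfl; simp at hv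
  have hKv : K v ≠ 0 := by
    intro e; apply hv; ext i
    have := congrFun e i
    simpa [K] using this
  have hherm : ∀ u w, star (K u) ⬝ᵥ H *ᵥ w = u ⬝ᵥ M *ᵥ w := by
    intro u w
    have e : star (K u) = N *ᵥ u := by ext i; simp [K]
    rw [e, Matrix.dotProduct_mulVec, Matrix.dotProduct_mulVec, ← Matrix.vecMul_transpose,
      Matrix.vecMul_vecMul]
    congr 2
    rw [hN, Matrix.transpose_mul, Matrix.transpose_nonsing_inv, Matrix.transpose_transpose,
      hMT, Matrix.mul_assoc, Matrix.nonsing_inv_mul _ hHu, Matrix.mul_one]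
  have hBsymm : ∀ u w, u ⬝ᵥ M *ᵥ w = w ⬝ᵥ M *ᵥ u := by
    intro u w
    conv_lhs => rw [← hMT, Matrix.mulVec_transpose, dotProduct_comm, ← Matrix.dotProduct_mulVec]
  have key : star (K v) ⬝ᵥ H *ᵥ K v = conj c * (star v ⬝ᵥ H *ᵥ v) := by
    rw [hherm, hBsymm, ← hherm, hKK, star_smul, smul_dotProduct, smul_eq_mul]
    rfl
  have p1 := hHp.dotProduct_mulVec_pos hKv
  have p2 := hHp.dotProduct_mulVec_pos hv0
  rw [key] at p1
  obtain ⟨r, hr, hcr⟩ : ∃ r : ℝ, 0 < r ∧ c = r := by
    rw [Complex.lt_def] at p1 p2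
    simp only [Complex.zero_re, Complex.zero_im, Complex.mul_re, Complex.mul_im,
      Complex.conj_re, Complex.conj_im] at p1 p2
    obtain ⟨p1r, p1i⟩ := p1
    obtain ⟨p2r, p2i⟩ := p2
    rw [← p2i] at p1r p1i
    have him : c.im = 0 := by
      have : c.im * (star v ⬝ᵥ H *ᵥ v).re = 0 := by linarith
      exact (mul_eq_zero.1 this).resolve_right p2r.ne'
    refine ⟨c.re, by nlinarith, ?_⟩
    exact Complex.ext (by simp) (by simp [him])
  set s : ℝ := (Real.sqrt r)⁻¹ with hs
  have hsr : s * s * r = 1 := by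
    rw [hs, ← mul_inv, Real.mul_self_sqrt hr.le, inv_mul_cancel₀ hr.ne']
  have hK_smul : ∀ (z : ℂ) v, K (z • v) = conj z • K v := by
    intro z v; ext i; simp [K, Matrix.mulVec_smul]
  have hK_add : ∀ u w, K (u + w) = K u + K w := by
    intro u w; ext i; simp [K, Matrix.mulVec_add]
  let V0 : Submodule ℝ (Fin n → ℂ) :=
    { carrier := {w | (s : ℂ) • K w = w}
      add_mem' := fun {u w} hu hw => by
        rw [Set.mem_setOf_eq] at hu hw ⊢
        rw [hK_add, smul_add, hu, hw]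
      zero_mem' := by
        rw [Set.mem_setOf_eq]
        have : K 0 = 0 := by ext i; simp [K]
        rw [this, smul_zero]
      smul_mem' := fun a {w} hw => by
        rw [Set.mem_setOf_eq] at hw ⊢
        rw [show a • w = (a : ℂ) • w from (Complex.coe_smul a w).symm, hK_smul, Complex.conj_ofReal,
          smul_comm, hw] }
  have hdecomp : ∀ w, ∃ a ∈ V0, ∃ b ∈ V0, w = a + Complex.I • b := by
    intro w
    have hw2 : (s : ℂ) • K ((s : ℂ) • K w) = w := by
      rw [hK_smul, Complex.conj_ofReal, smul_smul, hKK, smul_smul, hcr]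
      rw [← Complex.ofReal_mul, ← Complex.ofReal_mul, hsr, Complex.ofReal_one, one_smul]
    refine ⟨(1/2 : ℂ) • (w + (s : ℂ) • K w), ?_, (-Complex.I/2 : ℂ) • (w - (s : ℂ) • K w), ?_, ?_⟩
    · change (s : ℂ) • K _ = _
      rw [hK_smul, hK_add, smul_comm, smul_add, hw2, add_comm]
      simp [Complex.conj_ofNat]
    · change (s : ℂ) • K _ = _
      rw [hK_smul, sub_eq_add_neg, hK_add, show -((s : ℂ) • K w) = (-1 : ℂ) • ((s : ℂ) • K w) by simp,
        hK_smul (-1 : ℂ), smul_comm (s : ℂ), smul_add, smul_comm (s : ℂ) (conj (-1 : ℂ)), hw2]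
      simp only [map_neg, map_one, map_div₀, Complex.conj_I, Complex.conj_ofNat, neg_neg]
      module
    · rw [smul_smul, show Complex.I * (-Complex.I / 2) = 1/2 by
        rw [mul_div_assoc', mul_neg, Complex.I_mul_I, neg_neg]]
      module
  have hindep : ∀ a ∈ V0, ∀ b ∈ V0, a + Complex.I • b = 0 → a = 0 ∧ b = 0 := by
    intro a ha b hb e
    have ha' : (s : ℂ) • K a = a := ha
    have hb' : (s : ℂ) • K b = b := hb
    have e2 : a - Complex.I • b = 0 := by
      have h0 : K 0 = 0 := by ext i; simp [K]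
      have := congrArg (fun w => (s : ℂ) • K w) e
      simp only [hK_add, hK_smul, Complex.conj_I, h0, smul_zero, smul_add,
        smul_comm (s : ℂ) (-Complex.I), ha', hb'] at this
      rw [← this]; module
    have hA0 : a = 0 := by
      calc a = (2 : ℂ)⁻¹ • ((a + Complex.I • b) + (a - Complex.I • b)) := by module
      _ = 0 := by rw [e, e2, add_zero, smul_zero]
    subst hA0
    simpa using e
  let b := Module.finBasis ℝ V0
  set k := Module.finrank ℝ V0
  have li : LinearIndependent ℂ (fun i => (b i : Fin n → ℂ)) := by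
    rw [Fintype.linearIndependent_iff]
    intro z hz i
    set x : V0 := ∑ j, (z j).re • b j with hx
    set y : V0 := ∑ j, (z j).im • b j with hy
    have hxy : (x : Fin n → ℂ) + Complex.I • (y : Fin n → ℂ) = 0 := by
      rw [← hz, hx, hy]
      simp only [Submodule.coe_sum, Submodule.coe_smul, Finset.smul_sum, ← Finset.sum_add_distrib]
      refine Finset.sum_congr rfl fun j _ => ?_
      rw [← Complex.coe_smul, ← Complex.coe_smul, smul_smul, ← add_smul, mul_comm,
        Complex.re_add_im]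
    obtain ⟨hx0, hy0⟩ := hindep x x.2 y y.2 hxy
    have l := Fintype.linearIndependent_iff.1 b.linearIndependent
    apply Complex.ext
    · exact l _ (Subtype.ext hx0) i
    · exact l _ (Subtype.ext hy0) i
  have hspan : ⊤ ≤ Submodule.span ℂ (Set.range fun i => (b i : Fin n → ℂ)) := by
    intro w _
    obtain ⟨a, ha, a', ha', rfl⟩ := hdecomp w
    have hin : ∀ x : V0, (x : Fin n → ℂ) ∈ Submodule.span ℂ (Set.range fun i => (b i : Fin n → ℂ)) := by
      intro x
      rw [← b.sum_repr x]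
      simp only [Submodule.coe_sum, Submodule.coe_smul]
      refine Submodule.sum_mem _ fun i _ => ?_
      rw [← Complex.coe_smul]
      exact Submodule.smul_mem _ _ (Submodule.subset_span ⟨i, rfl⟩)
    exact add_mem (hin ⟨a, ha⟩) (Submodule.smul_mem _ _ (hin ⟨a', ha'⟩))
  let bC := Module.Basis.mk li hspan
  have hinvV : ∀ g w, w ∈ V0 → ρ g w ∈ V0 := by
    intro g w hw
    change (s : ℂ) • K (ρ g w) = ρ g w
    have hw' : (s : ℂ) • K w = w := hw
    rw [← mat_mulVec, ← hA, hKA, ← Matrix.mulVec_smul, hw']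
  let σ0 : Representation ℝ G V0 :=
    { toFun := fun g => ((ρ g).restrictScalars ℝ).restrict (hinvV g)
      map_one' := by
        refine LinearMap.ext fun w => Subtype.ext ?_
        change ρ 1 (w : Fin n → ℂ) = w
        rw [map_one]; rfl
      map_mul' := fun g h => by
        refine LinearMap.ext fun w => Subtype.ext ?_
        change ρ (g * h) (w : Fin n → ℂ) = ρ g (ρ h w)
        rw [map_mul]; rfl }
  let σ : Representation ℝ G (Fin k → ℝ) :=
    { toFun := fun g => b.equivFun.toLinearMap ∘ₗ σ0 g ∘ₗ b.equivFun.symm.toLinearMap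
      map_one' := LinearMap.ext fun w => by
        rw [map_one]
        exact b.equivFun.apply_symm_apply w
      map_mul' := fun g h => LinearMap.ext fun w => by
        rw [map_mul]
        simp only [LinearMap.comp_apply, LinearEquiv.coe_coe, Module.End.mul_apply,
          LinearEquiv.symm_apply_apply] }
  refine ⟨k, σ, fun g => ?_⟩
  have e0 : σ g = b.equivFun.conj (σ0 g) := rfl
  rw [e0, LinearMap.trace_conj', LinearMap.trace_eq_matrix_trace ℝ b, Representation.character,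
    LinearMap.trace_eq_matrix_trace ℂ bC, Matrix.trace, Matrix.trace, Complex.ofReal_sum]
  refine Finset.sum_congr rfl fun i _ => ?_
  simp only [Matrix.diag, LinearMap.toMatrix_apply]
  have hbi : ∀ j, bC j = (b j : Fin n → ℂ) := fun j => Module.Basis.mk_apply li hspan j
  have hexp : ρ g (bC i) = ∑ j, ((b.repr (σ0 g (b i)) j : ℝ) : ℂ) • bC j := by
    have := congrArg Subtype.val (b.sum_repr (σ0 g (b i)))
    rw [Submodule.coe_sum] at this
    simp only [hbi, Submodule.coe_smul, ← Complex.coe_smul] at this ⊢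
    exact this.symm
  rw [hexp, bC.repr_sum_self]

end Cfsg.Agent.RealRep79
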