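import Mathlib
import Cfsg.Agent.Lib.KleinFourChars79
import Cfsg.Agent.Lib.RealRep79
import Cfsg.Agent.S0203

/-!
# Groups of order four times an odd number without a normal complement: the principal block

Setup and degree relations for the principal 2-block `{1, χ₁, χ₂, χ₃}`.
-/

set_option autoImplicit false

open scoped ComplexConjugate

namespace Cfsg.Agent.KleinFourOrder79

open Cfsg BlockTheoryLocalRing BlockTheoryCentre BlockTheoryIdem BlockContribPrime BlockContrib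

attribute [local instance] Classical.propDecidable

universe u

variable {G : Type u} [Group G] [Fintype G]

theorem setup (g₀ : ℕ) (hg₀ : Odd g₀) (hG : Nat.card G = 4 * g₀)
    (hnc : ¬ ∃ N : Subgroup G, N.Normal ∧ Nat.card N = g₀) (P : Sylow 2 G) :
    Nat.card P = 4 ∧ (∀ x : P, x * x = 1) ∧
      ∀ s t : G, orderOf s = 2 → orderOf t = 2 → IsConj s t := by
  haveI : Fact (Nat.Prime 2) := ⟨Nat.prime_two⟩
  have hg : g₀ ≠ 0 := by rintro rfl; simp at hg₀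
  have h2g : ¬ 2 ∣ g₀ := fun h => (Nat.not_even_iff_odd.2 hg₀) (even_iff_two_dvd.2 h)
  have hP4 : Nat.card P = 4 := by
    rw [P.card_eq_multiplicity, hG, Nat.factorization_mul (by norm_num) hg, Finsupp.add_apply,
      Nat.factorization_eq_zero_of_not_dvd h2g, add_zero, show (4 : ℕ) = 2 ^ 2 by norm_num,
      Nat.Prime.factorization_pow Nat.prime_two, Finsupp.single_eq_same]
  have hcompl : ∀ N : Subgroup G, N.Normal → Subgroup.IsComplement' N (P : Subgroup G) → False := by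
    intro N hN hc
    refine hnc ⟨N, hN, ?_⟩
    have := hc.card_mul
    rw [hP4, hG] at this
    omega
  have hncyc : ¬ IsCyclic P := fun hc => by
    have hmin : (Nat.card G).minFac = 2 :=
      (Nat.minFac_eq_two_iff _).2 (hG ▸ dvd_mul_of_dvd_left (by norm_num) g₀)
    exact hcompl _ inferInstance (IsCyclic.isComplement' hmin hc)
  have hexp : ∀ x : P, x * x = 1 := by
    intro x
    have h : orderOf x ∣ Nat.card (P : Subgroup G) := orderOf_dvd_natCard x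
    rw [hP4, show (4 : ℕ) = 2 ^ 2 by norm_num] at h
    obtain ⟨k, hk, e⟩ := (Nat.dvd_prime_pow Nat.prime_two).1 h
    rw [← pow_two, ← orderOf_dvd_iff_pow_eq_one, e]
    interval_cases k
    · norm_num
    · norm_num
    · exact absurd (isCyclic_of_orderOf_eq_card x
        (e.trans (show 2 ^ 2 = Nat.card (P : Subgroup G) by rw [hP4]; norm_num))) hncyc
  refine ⟨hP4, hexp, ?_⟩
  haveI hK : IsKleinFour (P : Subgroup G) := by
    refine ⟨hP4, ?_⟩
    refine ((Nat.prime_two.eq_one_or_self_of_dvd _ (Monoid.exponent_dvd_of_forall_pow_eq_one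
      fun x => by rw [pow_two]; exact hexp x)).resolve_left fun h1 => ?_)
    haveI := Monoid.exp_eq_one_iff.1 h1
    rw [Nat.card_of_subsingleton (1 : (P : Subgroup G))] at hP4
    omega
  intro s t hs ht
  have h1 : Nat.card {C : ConjClasses G // ∃ t : G, orderOf t = 2 ∧ ConjClasses.mk t = C} = 1 := by
    rcases S0202.classes_alternative P hK with h | ⟨h, -⟩
    · exact h
    · obtain ⟨N, hN, hc⟩ := (S0203.result P hK).1 h
      exact (hcompl N hN hc).elim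
  have hsub := (Nat.card_eq_one_iff_unique.1 h1).1
  exact ConjClasses.mk_eq_mk_iff_isConj.1
    (congrArg Subtype.val (hsub.elim ⟨_, s, hs, rfl⟩ ⟨_, t, ht, rfl⟩))

variable {M : Ideal AlgInt} {J : G} {χ₁ χ₂ χ₃ : IrrCharacter G}

theorem sum_members (hB : principalBlock M G = {χ : IrrCharacter G |
      (χ : G → ℂ) = (fun _ => 1) ∨ χ = χ₁ ∨ χ = χ₂ ∨ χ = χ₃})
    (hdist : (χ₁ : G → ℂ) ≠ (fun _ => 1) ∧ (χ₂ : G → ℂ) ≠ (fun _ => 1) ∧
      (χ₃ : G → ℂ) ≠ (fun _ => 1) ∧ χ₁ ≠ χ₂ ∧ χ₁ ≠ χ₃ ∧ χ₂ ≠ χ₃) (f : IrrCharacter G → ℂ) :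
    ∑ χ ∈ BlockContribBounds.members (principalBlock M G), f χ =
      f (BlockPrincipal81.oneChar G) + f χ₁ + f χ₂ + f χ₃ := by
  have e : BlockContribBounds.members (principalBlock M G) =
      {BlockPrincipal81.oneChar G, χ₁, χ₂, χ₃} := by
    ext χ
    rw [BlockContribBounds.mem_members, hB]
    simp only [Set.mem_setOf_eq, Finset.mem_insert, Finset.mem_singleton]
    exact or_congr_left ⟨fun h => Subtype.ext h, fun h => by rw [h]; rfl⟩
  obtain ⟨h1, h2, h3, h12, h13, h23⟩ := hdist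
  have n1 : BlockPrincipal81.oneChar G ≠ χ₁ := fun h => h1 (by rw [← h]; rfl)
  have n2 : BlockPrincipal81.oneChar G ≠ χ₂ := fun h => h2 (by rw [← h]; rfl)
  have n3 : BlockPrincipal81.oneChar G ≠ χ₃ := fun h => h3 (by rw [← h]; rfl)
  rw [e, Finset.sum_insert (by simp [n1, n2, n3]), Finset.sum_insert (by simp [h12, h13]),
    Finset.sum_insert (by simp [h23]), Finset.sum_singleton]
  ring

variable {P : Sylow 2 G} {ε₁ ε₂ ε₃ : ℤ}

/-- The degree relation and the order formula, over the integers. -/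
theorem relations (hM : IsPModular 2 M) (hP4 : Nat.card P = 4) (hexp : ∀ x : P, x * x = 1)
    (hJ : J ∈ (P : Subgroup G)) (hJ2 : orderOf J = 2)
    (hone : ∀ s t : G, orderOf s = 2 → orderOf t = 2 → IsConj s t)
    (hB : principalBlock M G = {χ : IrrCharacter G |
      (χ : G → ℂ) = (fun _ => 1) ∨ χ = χ₁ ∨ χ = χ₂ ∨ χ = χ₃})
    (hdist : (χ₁ : G → ℂ) ≠ (fun _ => 1) ∧ (χ₂ : G → ℂ) ≠ (fun _ => 1) ∧
      (χ₃ : G → ℂ) ≠ (fun _ => 1) ∧ χ₁ ≠ χ₂ ∧ χ₁ ≠ χ₃ ∧ χ₂ ≠ χ₃)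
    (hε : (ε₁ = 1 ∨ ε₁ = -1) ∧ (ε₂ = 1 ∨ ε₂ = -1) ∧ (ε₃ = 1 ∨ ε₃ = -1))
    (hval : (χ₁ : G → ℂ) J = ε₁ ∧ (χ₂ : G → ℂ) J = ε₂ ∧ (χ₃ : G → ℂ) J = ε₃) :
    1 + ε₁ * (charDegree (χ₁ : G → ℂ) : ℤ) + ε₂ * (charDegree (χ₂ : G → ℂ) : ℤ)
        + ε₃ * (charDegree (χ₃ : G → ℂ) : ℤ) = 0 ∧
    (Nat.card G : ℤ) * (((charDegree (χ₁ : G → ℂ) : ℤ) + ε₁) * ((charDegree (χ₂ : G → ℂ) : ℤ) + ε₂) *
        ((charDegree (χ₃ : G → ℂ) : ℤ) + ε₃)) *
        (Nat.card (Subgroup.centralizer ((P : Subgroup G) : Set G)) : ℤ) ^ 2 =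
      8 * (Nat.card (Subgroup.centralizer ({J} : Set G)) : ℤ) ^ 3 *
        ((charDegree (χ₁ : G → ℂ) : ℤ) * charDegree (χ₂ : G → ℂ) * charDegree (χ₃ : G → ℂ)) := by
  obtain ⟨v1, v2, v3⟩ := hval
  have hJJ := KleinFourChars79.mul_self_of_order_two hJ2
  have hone' : ∀ g : G, (BlockPrincipal81.oneChar G : G → ℂ) g = 1 := fun _ => rfl
  have p1 : (charDegree (χ₁ : G → ℂ) : ℂ) ≠ 0 := Nat.cast_ne_zero.2 (CharAverage.irr_degree_pos χ₁).ne'
  have p2 : (charDegree (χ₂ : G → ℂ) : ℂ) ≠ 0 := Nat.cast_ne_zero.2 (CharAverage.irr_degree_pos χ₂).ne'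
  have p3 : (charDegree (χ₃ : G → ℂ) : ℂ) ≠ 0 := Nat.cast_ne_zero.2 (CharAverage.irr_degree_pos χ₃).ne'
  have h := weak_orthogonality hM BlockPrincipal81.isPBlock_principal (B := principalBlock M G)
    (x := 1) (y := J) (by simp) (by rw [hJ2])
  rw [← Finset.sum_filter, BlockContribBounds.filter_eq_members, sum_members hB hdist] at h
  have ho := KleinFourChars79.order_identity hM hP4 hexp hJ hJ2 hone
  rw [sum_members hB hdist] at ho
  simp only [hone', v1, v2, v3, map_one, map_intCast, mul_one, div_one,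
    CharAverage.irr_apply_one χ₁, CharAverage.irr_apply_one χ₂, CharAverage.irr_apply_one χ₃] at h ho
  generalize charDegree (χ₁ : G → ℂ) = x₁ at *
  generalize charDegree (χ₂ : G → ℂ) = x₂ at *
  generalize charDegree (χ₃ : G → ℂ) = x₃ at *
  have hw : 1 + (ε₁ : ℂ) * (x₁ : ℕ) + (ε₂ : ℂ) * (x₂ : ℕ) + (ε₃ : ℂ) * (x₃ : ℕ) = 0 := by
    linear_combination h
  refine ⟨by exact_mod_cast hw, ?_⟩
  generalize Nat.card G = N at *
  generalize Nat.card (Subgroup.centralizer ((P : Subgroup G) : Set G)) = cP at *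
  generalize Nat.card (Subgroup.centralizer ({J} : Set G)) = cJ at *
  field_simp at ho
  obtain ⟨e1, e2, e3⟩ := hε
  have : (N : ℂ) * (((x₁ : ℂ) + ε₁) * ((x₂ : ℂ) + ε₂) * ((x₃ : ℂ) + ε₃)) * (cP : ℂ) ^ 2 =
      8 * (cJ : ℂ) ^ 3 * ((x₁ : ℂ) * x₂ * x₃) := by
    rcases e1 with rfl | rfl <;> rcases e2 with rfl | rfl <;> rcases e3 with rfl | rfl <;>
      (push_cast at hw ho ⊢;
       first
        | linear_combination ho + ((N : ℂ) * (cP : ℂ) ^ 2) * hw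
        | linear_combination ho - ((N : ℂ) * (cP : ℂ) ^ 2) * hw)
  exact_mod_cast this

theorem nu_cases {χ : IrrCharacter G} (hodd : Odd (charDegree (χ : G → ℂ))) :
    ((∀ g, conj ((χ : G → ℂ) g) = (χ : G → ℂ) g) ∧ FSIndicatorSum.nu (χ : G → ℂ) = 1) ∨
      ((∃ g, conj ((χ : G → ℂ) g) ≠ (χ : G → ℂ) g) ∧ FSIndicatorSum.nu (χ : G → ℂ) = 0) := by
  by_cases hr : ∀ g, conj ((χ : G → ℂ) g) = (χ : G → ℂ) g
  · refine Or.inl ⟨hr, ?_⟩
    obtain ⟨n, ρ, hirr, hρ⟩ := χ.2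
    haveI := hirr
    have hd : charDegree (χ : G → ℂ) = n := by
      rw [← hρ]; simp [charDegree, Representation.char_one]
    rw [← hρ]
    exact RealRep79.nu_eq_one_of_odd ρ (fun g => by rw [hρ]; exact Complex.conj_eq_iff_im.1 (hr g))
      (hd ▸ hodd)
  · push Not at hr
    refine Or.inr ⟨hr, (RealRep79.nu_trichotomy χ.2).2.2 ?_⟩
    obtain ⟨g, hg⟩ := hr
    exact ⟨g, fun h => hg (Complex.conj_eq_iff_im.2 h)⟩

/-- The shape of the order when `ε₁ε₂ε₃ = -1` and `ε₃ = -1`. -/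
theorem psl_shape (hM : IsPModular 2 M) (hP4 : Nat.card P = 4) (hexp : ∀ x : P, x * x = 1)
    (hJ : J ∈ (P : Subgroup G)) (hJ2 : orderOf J = 2)
    (hB : principalBlock M G = {χ : IrrCharacter G |
      (χ : G → ℂ) = (fun _ => 1) ∨ χ = χ₁ ∨ χ = χ₂ ∨ χ = χ₃})
    (hdist : (χ₁ : G → ℂ) ≠ (fun _ => 1) ∧ (χ₂ : G → ℂ) ≠ (fun _ => 1) ∧
      (χ₃ : G → ℂ) ≠ (fun _ => 1) ∧ χ₁ ≠ χ₂ ∧ χ₁ ≠ χ₃ ∧ χ₂ ≠ χ₃)
    (hε : (ε₁ = 1 ∨ ε₁ = -1) ∧ (ε₂ = 1 ∨ ε₂ = -1) ∧ (ε₃ = 1 ∨ ε₃ = -1))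
    (hval : (χ₁ : G → ℂ) J = ε₁ ∧ (χ₂ : G → ℂ) J = ε₂ ∧ (χ₃ : G → ℂ) J = ε₃)
    (hprod : ε₁ * ε₂ * ε₃ = -1) (hε₃ : ε₃ = -1)
    (hw : 1 + ε₁ * (charDegree (χ₁ : G → ℂ) : ℤ) + ε₂ * (charDegree (χ₂ : G → ℂ) : ℤ)
        + ε₃ * (charDegree (χ₃ : G → ℂ) : ℤ) = 0)
    (h : (Nat.card G : ℤ) * (((charDegree (χ₁ : G → ℂ) : ℤ) + ε₁) * ((charDegree (χ₂ : G → ℂ) : ℤ) + ε₂) *
        ((charDegree (χ₃ : G → ℂ) : ℤ) + ε₃)) *
        (Nat.card (Subgroup.centralizer ((P : Subgroup G) : Set G)) : ℤ) ^ 2 =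
      8 * (Nat.card (Subgroup.centralizer ({J} : Set G)) : ℤ) ^ 3 *
        ((charDegree (χ₁ : G → ℂ) : ℤ) * charDegree (χ₂ : G → ℂ) * charDegree (χ₃ : G → ℂ))) :
    ∃ m : ℕ, 4 * Nat.card (Subgroup.centralizer ({J} : Set G)) =
        m * Nat.card (Subgroup.centralizer ((P : Subgroup G) : Set G)) * (charDegree (χ₃ : G → ℂ) + 1) ∧
      8 * Nat.card G = m ^ 3 * Nat.card (Subgroup.centralizer ((P : Subgroup G) : Set G)) *
        (charDegree (χ₃ : G → ℂ) ^ 3 - charDegree (χ₃ : G → ℂ)) := by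
  obtain ⟨he1, he2, -⟩ := hε
  subst hε₃
  have p1 := CharAverage.irr_degree_pos χ₁
  have p2 := CharAverage.irr_degree_pos χ₂
  have p3 := CharAverage.irr_degree_pos χ₃
  have h11 : ε₁ = 1 ∧ ε₂ = 1 := by
    rcases he1 with rfl | rfl <;> rcases he2 with rfl | rfl <;> omega
  obtain ⟨rfl, rfl⟩ := h11
  obtain ⟨v1, v2, v3⟩ := hval
  obtain ⟨d1, d2, d3, d12, d13, d23⟩ := id hdist
  have hmemB : ∀ χ, χ ∈ principalBlock M G ↔
      ((χ : G → ℂ) = (fun _ => 1) ∨ χ = χ₁ ∨ χ = χ₂ ∨ χ = χ₃) := fun χ => by rw [hB]; rfl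
  have hodd : ∀ χ ∈ principalBlock M G, Odd (charDegree (χ : G → ℂ)) := fun χ hχ =>
    (KleinFourChars79.exists_odd_value hM hP4 hJ2 hχ).choose_spec.2.2
  have hs := KleinFourChars79.sum_nu hM hP4 hexp hJ hJ2
  rw [sum_members hB hdist] at hs
  have hn0 : FSIndicatorSum.nu (BlockPrincipal81.oneChar G : G → ℂ) = 1 := by
    simp [FSIndicatorSum.nu, BlockPrincipal81.oneChar, Nat.card_eq_fintype_card]
  rw [hn0, show (BlockPrincipal81.oneChar G : G → ℂ) J = 1 from rfl, v1, v2, v3] at hs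
  have c1 := nu_cases (hodd χ₁ ((hmemB _).2 (by simp)))
  have c2 := nu_cases (hodd χ₂ ((hmemB _).2 (by simp)))
  have c3 := nu_cases (hodd χ₃ ((hmemB _).2 (by simp)))
  have hreal : (∃ g, conj ((χ₁ : G → ℂ) g) ≠ (χ₁ : G → ℂ) g) ∧
      ∀ g, conj ((χ₃ : G → ℂ) g) = (χ₃ : G → ℂ) g := by
    rcases c1 with ⟨_, n1⟩ | ⟨a1, n1⟩ <;> rcases c2 with ⟨_, n2⟩ | ⟨_, n2⟩ <;>
      rcases c3 with ⟨a3, n3⟩ | ⟨_, n3⟩ <;>
      rw [n1, n2, n3] at hs <;> norm_num at hs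
    exact ⟨a1, a3⟩
  obtain ⟨⟨g, hg⟩, hr3⟩ := hreal
  have hc := KleinFourChars79.conj_mem hM hP4 hexp hJ hJ2 (χ := χ₁) ((hmemB _).2 (by simp))
  have hx12 : charDegree (χ₁ : G → ℂ) = charDegree (χ₂ : G → ℂ) := by
    rcases (hmemB _).1 hc with e | e | e | e
    · exact absurd (funext fun x => by
        simpa using congrArg conj (congrFun e x)) d1
    · exact absurd (congrFun (congrArg Subtype.val e) g) hg
    · rw [← e]; simp [charDegree]
    · refine absurd ?_ d13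
      refine Subtype.ext (funext fun x => ?_)
      have := congrArg conj (congrFun (congrArg Subtype.val e) x)
      simpa [hr3] using this
  have hcJ : Nat.card (Subgroup.centralizer ({J} : Set G)) ∣ Nat.card G := Subgroup.card_subgroup_dvd_card _
  have hcP : Nat.card (Subgroup.centralizer ((P : Subgroup G) : Set G)) ∣
      Nat.card (Subgroup.centralizer ({J} : Set G)) :=
    Subgroup.card_dvd_of_le (Subgroup.centralizer_le (Set.singleton_subset_iff.2 hJ))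
  have pP : 0 < Nat.card (Subgroup.centralizer ((P : Subgroup G) : Set G)) := Nat.card_pos
  have pG : 0 < Nat.card G := Nat.card_pos
  rw [← hx12] at hw h
  generalize charDegree (χ₁ : G → ℂ) = x at *
  generalize charDegree (χ₃ : G → ℂ) = q at *
  generalize Nat.card G = n at *
  generalize Nat.card (Subgroup.centralizer ({J} : Set G)) = cJ at *
  generalize Nat.card (Subgroup.centralizer ((P : Subgroup G) : Set G)) = cP at *
  obtain ⟨k, rfl⟩ := hcP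
  obtain ⟨K, rfl⟩ := hcJ
  have hq : q = 2 * x + 1 := by omega
  subst hq
  have hk : k ≠ 0 := by rintro rfl; simp at pG
  have hKe : K * (x + 1) ^ 2 = 4 * k ^ 2 * x * (2 * x + 1) := by
    have hz : ((K * (x + 1) ^ 2 : ℕ) : ℤ) = ((4 * k ^ 2 * x * (2 * x + 1) : ℕ) : ℤ) := by
      push_cast at h ⊢
      refine mul_left_cancel₀ (show (2 * x * (k : ℤ) * cP ^ 3) ≠ 0 by
        have : x ≠ 0 := by omega
        have : cP ≠ 0 := by omega
        positivity) ?_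
      linear_combination h
    exact_mod_cast hz
  have hcop : Nat.Coprime ((x + 1) ^ 2) (x * (2 * x + 1)) := by
    refine Nat.Coprime.pow_left 2 (Nat.Coprime.mul_right (by simp) ?_)
    rw [show 2 * x + 1 = x + (x + 1) by ring, Nat.coprime_add_self_right]
    simp
  have hdvd : (x + 1) ^ 2 ∣ (2 * k) ^ 2 :=
    hcop.dvd_of_dvd_mul_right (Dvd.intro_left K (by rw [hKe]; ring))
  obtain ⟨m, hm⟩ := (Nat.pow_dvd_pow_iff (by norm_num)).1 hdvd
  refine ⟨m, ?_, ?_⟩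
  · calc 4 * (cP * k) = cP * 2 * (2 * k) := by ring
      _ = _ := by rw [hm]; ring
  · have hK : K = m ^ 2 * x * (2 * x + 1) := by
      refine Nat.eq_of_mul_eq_mul_right (show 0 < (x + 1) ^ 2 by positivity) ?_
      calc K * (x + 1) ^ 2 = (2 * k) ^ 2 * (x * (2 * x + 1)) := by rw [hKe]; ring
        _ = _ := by rw [hm]; ring
    have hsub : (2 * x + 1) ^ 3 - (2 * x + 1) = 4 * (2 * x + 1) * x * (x + 1) :=
      (Nat.eq_sub_of_add_eq (by ring)).symm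
    rw [hsub, hK]
    calc 8 * (cP * k * (m ^ 2 * x * (2 * x + 1))) = 4 * (2 * k) * (cP * m ^ 2 * x * (2 * x + 1)) := by ring
      _ = _ := by rw [hm]; ring

end Cfsg.Agent.KleinFourOrder79
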