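import Mathlib
import Cfsg.Agent.Lib.FourFormula30
import Cfsg.Agent.Lib.KleinFourBlock79
import Cfsg.Agent.Lib.KleinFourOrder79
import Cfsg.Agent.Lib.BrauerBlocksRegFun

/-!
# Klein four Sylow 2-subgroups: involution counts, and the order formula by pairs

Auxiliary results for the groups with Sylow 2-subgroups of type L3(4).
-/

set_option autoImplicit false
set_option linter.unusedSectionVars false

namespace Cfsg.Agent.L34Syl83Klein

universe u

variable {G : Type u} [Group G] [Finite G]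

/-- The coprime action formula for a four-group. -/
theorem coprime_four (W : Subgroup G) (hW : Odd (Nat.card W)) {x y : G} (hx : x * x = 1)
    (hy : y * y = 1) (hxy : x * y = y * x) (hxW : ∀ w ∈ W, x * w * x⁻¹ ∈ W)
    (hyW : ∀ w ∈ W, y * w * y⁻¹ ∈ W) :
    Nat.card W * Nat.card (W ⊓ Subgroup.centralizer ({x} : Set G) ⊓
        Subgroup.centralizer ({y} : Set G) : Subgroup G) ^ 2 =
      Nat.card (W ⊓ Subgroup.centralizer ({x} : Set G) : Subgroup G) *
        Nat.card (W ⊓ Subgroup.centralizer ({y} : Set G) : Subgroup G) *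
        Nat.card (W ⊓ Subgroup.centralizer ({x * y} : Set G) : Subgroup G) := by
  have hxi : x⁻¹ = x := inv_eq_of_mul_eq_one_right hx
  have hyi : y⁻¹ = y := inv_eq_of_mul_eq_one_right hy
  have h := FourFormula30.four_formula W hW x y hx hy hxy
    (fun k hk => by simpa only [hxi] using hxW k hk) (fun k hk => by simpa only [hyi] using hyW k hk)
  have e : FourFormula30.cen (FourFormula30.cen W y) x =
      W ⊓ Subgroup.centralizer ({x} : Set G) ⊓ Subgroup.centralizer ({y} : Set G) := inf_right_comm _ _ _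
  rw [e] at h
  exact h

/-! ## Two involutions -/

/-- The central involution of the dihedral group generated by `p` and `q`, for `p * q` of even order. -/
noncomputable def ctr (p q : G) : G := (p * q) ^ (orderOf (p * q) / 2)

theorem conj_pow_mul {p q : G} (hp : p * p = 1) (hq : q * q = 1) (n : ℕ) :
    p * (p * q) ^ n * p = ((p * q) ^ n)⁻¹ := by
  have hpi : p⁻¹ = p := inv_eq_of_mul_eq_one_right hp
  have hqi : q⁻¹ = q := inv_eq_of_mul_eq_one_right hq
  have h : p * (p * q) * p⁻¹ = (p * q)⁻¹ := by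
    rw [mul_inv_rev, hpi, hqi, ← mul_assoc p p q, hp, one_mul]
  rw [← inv_pow, ← h, conj_pow, hpi]

theorem even_order {p q : G} (hp : p * p = 1) (hq : q * q = 1) (hn : ¬ IsConj p q) :
    Even (orderOf (p * q)) := by
  by_contra h
  obtain ⟨j, hj⟩ := Nat.not_even_iff_odd.1 h
  refine hn (isConj_iff.2 ⟨(p * q) ^ j, ?_⟩)
  have h1 : (p * q) ^ (2 * j + 1) = 1 := hj ▸ pow_orderOf_eq_one _
  have h2 : p * ((p * q) ^ j)⁻¹ = (p * q) ^ j * p := by
    rw [← conj_pow_mul hp hq]
    calc p * (p * (p * q) ^ j * p) = p * p * (p * q) ^ j * p := by group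
      _ = _ := by rw [hp, one_mul]
  have h3 : (p * q) ^ (2 * j) = (p * q)⁻¹ := eq_inv_of_mul_eq_one_left (by rw [← pow_succ]; exact h1)
  rw [mul_assoc ((p * q) ^ j) p, h2, ← mul_assoc, ← pow_add, ← two_mul, h3, mul_inv_rev,
    inv_eq_of_mul_eq_one_right hp, inv_eq_of_mul_eq_one_right hq, mul_assoc, hp, mul_one]

theorem ctr_sq {p q : G} (he : Even (orderOf (p * q))) : ctr p q * ctr p q = 1 := by
  obtain ⟨m, hm⟩ := he
  rw [ctr, ← pow_add, show orderOf (p * q) / 2 + orderOf (p * q) / 2 = orderOf (p * q) by omega,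
    pow_orderOf_eq_one]

theorem orderOf_ctr {p q : G} (he : Even (orderOf (p * q))) : orderOf (ctr p q) = 2 := by
  refine orderOf_eq_prime (hp := ⟨Nat.prime_two⟩) (by rw [pow_two, ctr_sq he]) ?_
  have hpos := orderOf_pos (p * q)
  obtain ⟨m, hm⟩ := he
  exact pow_ne_one_of_lt_orderOf (by omega) (by omega)

theorem ctr_comm_left {p q : G} (hp : p * p = 1) (hq : q * q = 1) (he : Even (orderOf (p * q))) :
    ctr p q * p = p * ctr p q := by
  have h := conj_pow_mul hp hq (orderOf (p * q) / 2)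
  change p * ctr p q * p = (ctr p q)⁻¹ at h
  rw [inv_eq_of_mul_eq_one_right (ctr_sq he)] at h
  calc ctr p q * p = p * ctr p q * p * p := by rw [h]
    _ = _ := by rw [mul_assoc, hp, mul_one]

theorem ctr_comm_right {p q : G} (hp : p * p = 1) (hq : q * q = 1) (he : Even (orderOf (p * q))) :
    ctr p q * q = q * ctr p q := by
  have h1 : Commute (ctr p q) (p * q) := Commute.pow_self _ _
  have h2 : Commute (ctr p q) p := ctr_comm_left hp hq he
  have h3 := h2.mul_right h1
  rwa [← mul_assoc, hp, one_mul] at h3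

/-- `ctr * p` is conjugate to `p` or to `q`. -/
theorem ctr_mul_conj {p q : G} (hp : p * p = 1) (hq : q * q = 1) :
    (Even (orderOf (p * q) / 2) → IsConj p (ctr p q * p)) ∧
      (Odd (orderOf (p * q) / 2) → IsConj q (ctr p q * p)) := by
  have key : ∀ j : ℕ, (p * q) ^ j * p * ((p * q) ^ j)⁻¹ = (p * q) ^ (2 * j) * p := by
    intro j
    rw [← conj_pow_mul hp hq j, two_mul, pow_add]
    calc (p * q) ^ j * p * (p * (p * q) ^ j * p) = (p * q) ^ j * (p * p) * (p * q) ^ j * p := by group
      _ = _ := by rw [hp, mul_one]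
  constructor
  · rintro ⟨j, hj⟩
    exact isConj_iff.2 ⟨(p * q) ^ j, by rw [key, ctr, hj, two_mul]⟩
  · rintro ⟨j, hj⟩
    refine isConj_iff.2 ⟨(p * q) ^ j * p, ?_⟩
    rw [ctr, hj, mul_inv_rev, inv_eq_of_mul_eq_one_right hp]
    have h2 : p * ((p * q) ^ j)⁻¹ = (p * q) ^ j * p := by
      rw [← conj_pow_mul hp hq]
      calc p * (p * (p * q) ^ j * p) = p * p * (p * q) ^ j * p := by group
        _ = _ := by rw [hp, one_mul]
    rw [h2, mul_assoc ((p * q) ^ j) p q, ← mul_assoc ((p * q) ^ j * (p * q)), ← pow_succ, ← pow_add]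
    congr 2
    omega

/-- For `orderOf (p * q) / 2` odd, `p` is conjugate to `q * ctr`. -/
theorem conj_mul_ctr {p q : G} (hp : p * p = 1) (hq : q * q = 1) (he : Even (orderOf (p * q)))
    (ho : Odd (orderOf (p * q) / 2)) : IsConj p (q * ctr p q) := by
  obtain ⟨j, hj⟩ := ho
  have hpi : p⁻¹ = p := inv_eq_of_mul_eq_one_right hp
  have hqi : q⁻¹ = q := inv_eq_of_mul_eq_one_right hq
  have hc : ∀ n : ℕ, q * (p * q) ^ n * q = ((p * q) ^ n)⁻¹ := by
    intro n
    have h : q * (p * q) * q⁻¹ = (p * q)⁻¹ := by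
      rw [mul_inv_rev, hpi, hqi, ← mul_assoc q p q, mul_assoc (q * p), hq, mul_one]
    rw [← inv_pow, ← h, conj_pow, hqi]
  refine isConj_iff.2 ⟨((p * q) ^ j)⁻¹ * q, ?_⟩
  rw [ctr, hj, mul_inv_rev, inv_inv, hqi]
  calc ((p * q) ^ j)⁻¹ * q * p * (q * (p * q) ^ j)
      = q * ((p * q) ^ j * (q * q) * (p * q) * (p * q) ^ j) := by
        rw [← hc j]; simp only [mul_assoc]
    _ = _ := by
      rw [hq, mul_one, ← pow_succ, ← pow_add]
      congr 2
      omega

/-- The number of pairs of conjugates of `u`, `v` with central involution `x`. -/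
noncomputable def pairs (u v x : G) : ℕ :=
  Nat.card {pq : G × G // IsConj u pq.1 ∧ IsConj v pq.2 ∧ ctr pq.1 pq.2 = x}

theorem ctr_map (g p q : G) : ctr (g * p * g⁻¹) (g * q * g⁻¹) = g * ctr p q * g⁻¹ := by
  rw [ctr, ctr, show g * p * g⁻¹ * (g * q * g⁻¹) = MulAut.conj g (p * q) by simp,
    MulEquiv.orderOf_eq, ← map_pow]
  simp

theorem pairs_conj {u v x y : G} (h : IsConj x y) : pairs u v x = pairs u v y := by
  obtain ⟨g, rfl⟩ := isConj_iff.1 h
  refine Nat.card_congr (Equiv.subtypeEquiv (Equiv.prodCongr (MulAut.conj g).toEquiv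
    (MulAut.conj g).toEquiv) fun pq => ?_)
  show _ ↔ IsConj u (g * pq.1 * g⁻¹) ∧ IsConj v (g * pq.2 * g⁻¹) ∧
    ctr (g * pq.1 * g⁻¹) (g * pq.2 * g⁻¹) = g * x * g⁻¹
  have hc : ∀ a b : G, IsConj a b ↔ IsConj a (g * b * g⁻¹) := fun a b =>
    ⟨fun h => h.trans (isConj_iff.2 ⟨g, rfl⟩), fun h => h.trans (isConj_iff.2 ⟨g, rfl⟩).symm⟩
  rw [ctr_map, ← hc, ← hc, mul_left_inj, mul_right_inj]

theorem card_class (x : G) :
    Nat.card {g // IsConj x g} * Nat.card (Subgroup.centralizer ({x} : Set G)) = Nat.card G := by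
  rw [← Subgroup.card_mul_index (Subgroup.centralizer ({x} : Set G)), mul_comm]
  congr 1
  have hs : MulAction.orbit (ConjAct G) x = {g | IsConj x g} := by
    ext g; rw [ConjAct.mem_orbit_conjAct]; exact isConj_comm
  calc Nat.card {g // IsConj x g} = (MulAction.orbit (ConjAct G) x).ncard := by rw [hs]; rfl
    _ = (MulAction.stabilizer (ConjAct G) x).index := (MulAction.index_stabilizer _ _).symm
    _ = _ := by rw [ConjAct.stabilizer_eq_centralizer]; rfl

/-- The order formula: all central involutions fall into two classes. -/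
theorem pair_count {u v x₁ x₂ : G} (hn : ¬ IsConj x₁ x₂)
    (hall : ∀ p q : G, IsConj u p → IsConj v q → IsConj x₁ (ctr p q) ∨ IsConj x₂ (ctr p q)) :
    Nat.card {g // IsConj u g} * Nat.card {g // IsConj v g} =
      pairs u v x₁ * Nat.card {g // IsConj x₁ g} + pairs u v x₂ * Nat.card {g // IsConj x₂ g} := by
  classical
  haveI := Fintype.ofFinite G
  have hp : ∀ x : G, pairs u v x = (Finset.univ.filter fun pq : G × G =>
      IsConj u pq.1 ∧ IsConj v pq.2 ∧ ctr pq.1 pq.2 = x).card := fun x => by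
    rw [pairs, Nat.card_eq_fintype_card, Fintype.card_subtype]
  have hcls : ∀ x : G, Nat.card {g // IsConj x g} = (Finset.univ.filter (IsConj x)).card := fun x => by
    rw [Nat.card_eq_fintype_card, Fintype.card_subtype]
  have hsum : ∀ x : G, ∑ y ∈ Finset.univ.filter (IsConj x), pairs u v y =
      pairs u v x * Nat.card {g // IsConj x g} := fun x => by
    rw [Finset.sum_congr rfl (fun y hy => (pairs_conj (Finset.mem_filter.1 hy).2).symm), Finset.sum_const,
      hcls, smul_eq_mul, mul_comm]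
  rw [← hsum, ← hsum, ← Finset.sum_union]
  · rw [Finset.sum_congr rfl fun y _ => hp y, hcls u, hcls v, ← Finset.card_product,
      Finset.card_eq_sum_card_fiberwise (f := fun pq : G × G => ctr pq.1 pq.2)
        (t := Finset.univ.filter (IsConj x₁) ∪ Finset.univ.filter (IsConj x₂)) fun pq hpq => by
          simp only [Finset.coe_product, Set.mem_prod, Finset.mem_coe, Finset.mem_filter, Finset.mem_univ,
            true_and] at hpq
          simpa using hall _ _ hpq.1 hpq.2]
    refine Finset.sum_congr rfl fun y _ => congrArg Finset.card ?_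
    ext pq
    simp only [Finset.mem_filter, Finset.mem_product, Finset.mem_univ, true_and]
    tauto
  · rw [Finset.disjoint_left]
    exact fun y h1 h2 => hn ((Finset.mem_filter.1 h1).2.trans (Finset.mem_filter.1 h2).2.symm)

/-- The order formula: all central involutions fall into one class. -/
theorem pair_count_one {u v x : G}
    (hall : ∀ p q : G, IsConj u p → IsConj v q → IsConj x (ctr p q)) :
    Nat.card {g // IsConj u g} * Nat.card {g // IsConj v g} =
      pairs u v x * Nat.card {g // IsConj x g} := by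
  classical
  haveI := Fintype.ofFinite G
  have hcls : ∀ x : G, Nat.card {g // IsConj x g} = (Finset.univ.filter (IsConj x)).card := fun x => by
    rw [Nat.card_eq_fintype_card, Fintype.card_subtype]
  rw [hcls u, hcls v, ← Finset.card_product,
    Finset.card_eq_sum_card_fiberwise (f := fun pq : G × G => ctr pq.1 pq.2)
      (t := Finset.univ.filter (IsConj x)) fun pq hpq => by
        simp only [Finset.coe_product, Set.mem_prod, Finset.mem_coe, Finset.mem_filter, Finset.mem_univ,
          true_and] at hpq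
        simpa using hall _ _ hpq.1 hpq.2,
    hcls x, mul_comm, ← smul_eq_mul, ← Finset.sum_const]
  refine Finset.sum_congr rfl fun y hy => ?_
  rw [pairs_conj (Finset.mem_filter.1 hy).2, pairs, Nat.card_eq_fintype_card, Fintype.card_subtype]
  refine congrArg Finset.card ?_
  ext pq
  simp only [Finset.mem_filter, Finset.mem_product, Finset.mem_univ, true_and]
  tauto

/-! ## Klein four Sylow 2-subgroup -/

open KleinFourLocal79

theorem mul_self_of_order {x : G} (hx : orderOf x = 2) : x * x = 1 := by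
  rw [← pow_two, ← hx, pow_orderOf_eq_one]

theorem ne_one_of_order {x : G} (hx : orderOf x = 2) : x ≠ 1 := fun h => by
  rw [h, orderOf_one] at hx; omega

theorem hoddN_aux {C : Subgroup G} (N : Subgroup C) (hmem : ∀ y, y ∈ N ↔ ¬ 2 ∣ orderOf y) (y : C) :
    y ∈ N ↔ orderOf (y : G) ≠ 2 ∧ ¬ 2 ∣ orderOf (y : G) := by
  rw [hmem, ← Subgroup.orderOf_coe]
  exact ⟨fun h => ⟨fun e => h (by rw [e]), h⟩, fun h => h.2⟩

theorem card_cent_conj {x y : G} (h : IsConj x y) :
    Nat.card (Subgroup.centralizer ({x} : Set G)) = Nat.card (Subgroup.centralizer ({y} : Set G)) := by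
  have e : Nat.card {g // IsConj x g} = Nat.card {g // IsConj y g} :=
    Nat.card_congr (Equiv.subtypeEquivRight fun g => ⟨fun hg => h.symm.trans hg, fun hg => h.trans hg⟩)
  have hx := card_class x
  rw [← card_class y, ← e] at hx
  haveI : Nonempty {g // IsConj x g} := ⟨⟨x, IsConj.refl x⟩⟩
  exact Nat.eq_of_mul_eq_mul_left Nat.card_pos hx

variable (P : Sylow 2 G)

/-- An involution commuting with `z ∈ P` is conjugate in `C(z)` into `P`. -/
theorem conj_into (hP4 : Nat.card P = 4) (hexp : ∀ x : P, x * x = 1) {z t : G}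
    (hzP : z ∈ (P : Subgroup G)) (htP : t ∈ (P : Subgroup G)) (hz : orderOf z = 2) (ht : orderOf t = 2)
    (hzt : z ≠ t) {i : G} (hi : orderOf i = 2) (hc : i * z = z * i) (hne : i ≠ z) :
    ∃ g ∈ Subgroup.centralizer ({z} : Set G), g * t * g⁻¹ = i ∨ g * (z * t) * g⁻¹ = i := by
  haveI : Fact (Nat.Prime 2) := ⟨Nat.prime_two⟩
  have hPC := le_centralizer P hexp hzP
  have hiC : i ∈ Subgroup.centralizer ({z} : Set G) := Subgroup.mem_centralizer_singleton_iff.2 hc
  have hp : IsPGroup 2 (Subgroup.zpowers (⟨i, hiC⟩ : Subgroup.centralizer ({z} : Set G))) :=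
    IsPGroup.of_card (n := 1) (by rw [Nat.card_zpowers, Subgroup.orderOf_mk, hi]; norm_num)
  obtain ⟨R, hR⟩ := hp.exists_le_sylow
  obtain ⟨d, hd⟩ := MulAction.exists_smul_eq (Subgroup.centralizer ({z} : Set G)) R (P.subtype hPC)
  have hmem : d * ⟨i, hiC⟩ * d⁻¹ ∈
      ((P.subtype hPC : Sylow 2 _) : Subgroup (Subgroup.centralizer ({z} : Set G))) := by
    rw [← hd, Sylow.coe_subgroup_smul, Subgroup.mem_pointwise_smul_iff_inv_smul_mem]
    simpa [MulAut.conj_inv_apply, mul_assoc] using hR (Subgroup.mem_zpowers _)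
  have hmemP : (d : G) * i * (d : G)⁻¹ ∈ (P : Subgroup G) := hmem
  refine ⟨(d : G)⁻¹, inv_mem d.2, ?_⟩
  rcases eq_of_mem P hP4 hexp hzP htP (ne_one_of_order hz) (ne_one_of_order ht) hzt.symm hmemP
    with h | h | h | h
  · exact absurd (conj_eq_one_iff.1 h) (ne_one_of_order hi)
  · refine absurd ?_ hne
    have hdz : (d : G) * z * (d : G)⁻¹ = z := by
      rw [Subgroup.mem_centralizer_singleton_iff.1 d.2, mul_inv_cancel_right]
    exact mul_left_cancel (mul_right_cancel (h.trans hdz.symm))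
  · exact Or.inl (by rw [← h]; group)
  · exact Or.inr (by rw [← h]; group)

open Classical in
/-- Partners of `z` with central involution `i`. -/
noncomputable def fibre (z i : G) : ℕ :=
  Nat.card {k : G // (orderOf k = 2 ∧ ¬ Odd (orderOf (z * k))) ∧ ctr z k = i}

theorem fibre_conj {z i g : G} (hg : g * z * g⁻¹ = z) : fibre z (g * i * g⁻¹) = fibre z i := by
  refine (Nat.card_congr (Equiv.subtypeEquiv (MulAut.conj g).toEquiv fun k => ?_)).symm
  show _ ↔ (orderOf (MulAut.conj g k) = 2 ∧ ¬ Odd (orderOf (z * MulAut.conj g k))) ∧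
    ctr z (g * k * g⁻¹) = g * i * g⁻¹
  have e : z * MulAut.conj g k = MulAut.conj g (z * k) := by rw [map_mul]; simp [hg]
  have e2 : ctr z (g * k * g⁻¹) = g * ctr z k * g⁻¹ := by rw [← ctr_map, hg]
  rw [e, MulEquiv.orderOf_eq, MulEquiv.orderOf_eq, e2, mul_left_inj, mul_right_inj]

theorem card_fibre (hP4 : Nat.card P = 4) (hexp : ∀ x : P, x * x = 1) {z x : G}
    (hzP : z ∈ (P : Subgroup G)) (hxP : x ∈ (P : Subgroup G)) (hz : orderOf z = 2) (hx : orderOf x = 2)
    (hzx : z ≠ x) :
    fibre z x * Nat.card (Subgroup.centralizer ((P : Subgroup G) : Set G)) =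
      Nat.card (Subgroup.centralizer ({x} : Set G)) := by
  classical
  have hzz := mul_self_of_order hz
  have hxx := mul_self_of_order hx
  have hcomm : z * x = x * z := congrArg Subtype.val (comm_of_exp P hexp ⟨z, hzP⟩ ⟨x, hxP⟩)
  have htP : z * x ∈ (P : Subgroup G) := mul_mem hzP hxP
  have ht1 : z * x ≠ 1 := fun h => hzx (by
    rw [← mul_right_inj z, hzz, h])
  have htx : z * x ≠ x := fun h => ne_one_of_order hz (mul_eq_right.1 h)
  obtain ⟨N, hNn, -, -, hmem, hrep⟩ := exists_odd_subgroup P hP4 hexp hxP (ne_one_of_order hx)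
  haveI := hNn
  have htC : z * x ∈ Subgroup.centralizer ({x} : Set G) := le_centralizer P hexp hxP htP
  rw [← card_involutions_coset P hP4 hexp hxP htP (ne_one_of_order hx) ht1 htx N hmem hrep ⟨_, htC⟩ rfl,
    fibre]
  congr 1
  -- orders of partners
  have hfour : ∀ g : G, ¬ 4 ∣ orderOf g := by
    rintro g ⟨m, hm⟩
    have hpos := orderOf_pos g
    have h4 : orderOf (g ^ m) = 4 := by
      rw [orderOf_pow' g (by omega), hm, Nat.gcd_eq_right (Dvd.intro_left 4 rfl),
        Nat.mul_div_cancel _ (by omega)]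
    have h2 := mul_self_of_two_el P hexp (g := g ^ m) ⟨2, by rw [h4]; norm_num⟩
    have := orderOf_dvd_of_pow_eq_one (show (g ^ m) ^ 2 = 1 by rw [pow_two, h2])
    rw [h4] at this
    omega
  have hoddN : ∀ y : Subgroup.centralizer ({x} : Set G), y ∈ N ↔ Odd (orderOf (y : G)) := fun y => by
    rw [hmem, Subgroup.orderOf_coe, ← Nat.not_even_iff_odd, even_iff_two_dvd]
  have fwd : ∀ k : G, orderOf k = 2 ∧ ¬ Odd (orderOf (z * k)) → ctr z k = x →
      ∃ hk : k ∈ Subgroup.centralizer ({x} : Set G), (⟨k, hk⟩ : Subgroup.centralizer ({x} : Set G)) *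
        ⟨k, hk⟩ = 1 ∧ (⟨k, hk⟩ : Subgroup.centralizer ({x} : Set G))⁻¹ * ⟨_, htC⟩ ∈ N := by
    rintro k ⟨hk2, hodd⟩ hk
    have hkk := mul_self_of_order hk2
    have he := Nat.not_odd_iff_even.1 hodd
    have hcomm' : k * x = x * k := by rw [← hk]; exact (ctr_comm_right hzz hkk he).symm
    refine ⟨Subgroup.mem_centralizer_singleton_iff.2 hcomm', Subtype.ext hkk, (hoddN _).2 ?_⟩
    show Odd (orderOf (k⁻¹ * (z * x)))
    rw [inv_eq_of_mul_eq_one_right hkk]
    obtain ⟨m, hm⟩ : ∃ m, orderOf (z * k) = 2 * m := by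
      obtain ⟨m, hm⟩ := he; exact ⟨m, by omega⟩
    have hmo : Odd m := by
      rw [← Nat.not_even_iff_odd]
      rintro ⟨j, rfl⟩
      exact hfour (z * k) ⟨j, by omega⟩
    have hxeq : (z * k) ^ m = x := by rw [← hk, ctr, hm, Nat.mul_div_cancel_left _ (by norm_num)]
    have e : k * (z * x) = (z * k)⁻¹ * x := by
      rw [mul_inv_rev, inv_eq_of_mul_eq_one_right hkk, inv_eq_of_mul_eq_one_right hzz, mul_assoc]
    have hc2 : Commute (z * k)⁻¹ x := by rw [← hxeq]; exact ((Commute.refl _).pow_right m).inv_left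
    refine hmo.of_dvd_nat (orderOf_dvd_of_pow_eq_one ?_)
    rw [e, hc2.mul_pow, inv_pow, hxeq, inv_eq_of_mul_eq_one_right hxx]
    obtain ⟨j, rfl⟩ := hmo
    rw [pow_succ, pow_mul, pow_two, hxx, one_pow, one_mul, hxx]
  have bwd : ∀ k : Subgroup.centralizer ({x} : Set G), k * k = 1 → k⁻¹ * ⟨_, htC⟩ ∈ N →
      (orderOf (k : G) = 2 ∧ ¬ Odd (orderOf (z * k))) ∧ ctr z (k : G) = x := by
    intro k hk hkN
    have hkk : (k : G) * k = 1 := congrArg Subtype.val hk
    have hodd : Odd (orderOf ((k : G)⁻¹ * (z * x))) := (hoddN _).1 hkN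
    have hkc := Subgroup.mem_centralizer_singleton_iff.1 k.2
    set w := (k : G)⁻¹ * (z * x) with hw
    have hwx : Commute x w :=
      (show Commute x (k : G) from hkc.symm).inv_right.mul_right
        ((show Commute x z from hcomm.symm).mul_right (Commute.refl x))
    have hzk : z * k = x * w⁻¹ := by
      rw [hw, mul_inv_rev, inv_inv, mul_inv_rev, inv_eq_of_mul_eq_one_right hzz,
        inv_eq_of_mul_eq_one_right hxx, ← mul_assoc, ← mul_assoc, hxx, one_mul]
    have hord : orderOf (z * (k : G)) = 2 * orderOf w := by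
      rw [hzk, hwx.inv_right.orderOf_mul_eq_mul_orderOf_of_coprime (by
        rw [hx, orderOf_inv]; exact hodd.coprime_two_left), hx, orderOf_inv]
    refine ⟨⟨orderOf_eq_prime (hp := ⟨Nat.prime_two⟩) (by rw [pow_two, hkk]) fun h1 => ?_, ?_⟩, ?_⟩
    · rw [hw, h1, inv_one, one_mul] at hodd
      have h2 : orderOf (z * x) ∣ 2 := orderOf_dvd_of_pow_eq_one (by
        rw [pow_two]; exact congrArg Subtype.val (hexp ⟨_, htP⟩))
      rcases (Nat.dvd_prime Nat.prime_two).1 h2 with h | h
      · exact ht1 (orderOf_eq_one_iff.1 h)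
      · rw [h] at hodd; exact absurd hodd (by decide)
    · rw [hord, Nat.not_odd_iff_even]; exact even_two_mul _
    · rw [ctr, hord, Nat.mul_div_cancel_left _ (by norm_num), hzk, hwx.inv_right.mul_pow, inv_pow,
        pow_orderOf_eq_one, inv_one, mul_one]
      obtain ⟨j, hj⟩ := hodd
      rw [hj, pow_succ, pow_mul, pow_two, hxx, one_pow, one_mul]
  exact Nat.card_congr
    { toFun := fun k => ⟨⟨k.1, (fwd k.1 k.2.1 k.2.2).choose⟩, (fwd k.1 k.2.1 k.2.2).choose_spec⟩
      invFun := fun k => ⟨(k.1 : G), bwd k.1 k.2.1 k.2.2⟩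
      left_inv := fun _ => rfl
      right_inv := fun _ => rfl }

/-- The number of `C(z)`-conjugates of an element of `P`. -/
theorem card_cz_class (hP4 : Nat.card P = 4) (hexp : ∀ x : P, x * x = 1) {z x : G}
    (hzP : z ∈ (P : Subgroup G)) (hxP : x ∈ (P : Subgroup G)) (hz : orderOf z = 2) (hx : orderOf x = 2)
    (hzx : z ≠ x) :
    Nat.card {i : G // ∃ g ∈ Subgroup.centralizer ({z} : Set G), g * x * g⁻¹ = i} *
        Nat.card (Subgroup.centralizer ((P : Subgroup G) : Set G)) =
      Nat.card (Subgroup.centralizer ({z} : Set G)) := by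
  set C := Subgroup.centralizer ({z} : Set G) with hC
  have hxC : x ∈ C := le_centralizer P hexp hzP hxP
  rw [← card_class (⟨x, hxC⟩ : C), centralizer_inf P hP4 hexp hzP hxP (ne_one_of_order hz)
    (ne_one_of_order hx) hzx.symm]
  congr 1
  · refine (Nat.card_congr (Equiv.ofBijective
      (fun i : {i : C // IsConj ⟨x, hxC⟩ i} =>
        (⟨(i.1 : G), by
          obtain ⟨g, hg⟩ := isConj_iff.1 i.2
          exact ⟨g, g.2, congrArg Subtype.val hg⟩⟩ :
          {i : G // ∃ g ∈ C, g * x * g⁻¹ = i})) ⟨?_, ?_⟩)).symm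
    · intro a b h
      exact Subtype.ext (Subtype.ext (congrArg Subtype.val h :))
    · rintro ⟨i, g, hg, rfl⟩
      exact ⟨⟨⟨g, hg⟩ * ⟨x, hxC⟩ * ⟨g, hg⟩⁻¹, isConj_iff.2 ⟨_, rfl⟩⟩, rfl⟩
  · exact Nat.card_congr
      { toFun := fun g => ⟨⟨(g : G), g.2.1⟩, Subgroup.mem_centralizer_singleton_iff.2 (Subtype.ext
          (Subgroup.mem_centralizer_singleton_iff.1 g.2.2))⟩
        invFun := fun g => ⟨((g.1 : C) : G), g.1.2, Subgroup.mem_centralizer_singleton_iff.2
          (congrArg Subtype.val (Subgroup.mem_centralizer_singleton_iff.1 g.2) :)⟩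
        left_inv := fun _ => rfl
        right_inv := fun _ => rfl }

open Classical in
/-- Involutions `k` with `z * k` of odd order. -/
theorem odd_partners_general (hP4 : Nat.card P = 4) (hexp : ∀ x : P, x * x = 1) {z t : G}
    (hzP : z ∈ (P : Subgroup G)) (htP : t ∈ (P : Subgroup G)) (hz : orderOf z = 2) (ht : orderOf t = 2)
    (hzt : z ≠ t) :
    Nat.card {k : G // orderOf k = 2 ∧ Odd (orderOf (z * k))} *
          Nat.card (Subgroup.centralizer ((P : Subgroup G) : Set G)) ^ 2 +
        Nat.card (Subgroup.centralizer ({z} : Set G)) *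
          (Nat.card (Subgroup.centralizer ({t} : Set G)) +
            Nat.card (Subgroup.centralizer ({z * t} : Set G))) =
      Nat.card {k : G // orderOf k = 2} *
        Nat.card (Subgroup.centralizer ((P : Subgroup G) : Set G)) ^ 2 := by
  haveI := Fintype.ofFinite G
  have hzz := mul_self_of_order hz
  have htt := mul_self_of_order ht
  have hsP : z * t ∈ (P : Subgroup G) := mul_mem hzP htP
  have hs2 : orderOf (z * t) = 2 := orderOf_eq_prime (hp := ⟨Nat.prime_two⟩)
    (by rw [pow_two]; exact congrArg Subtype.val (hexp ⟨_, hsP⟩))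
    (fun h => hzt (by rw [← mul_right_inj z, hzz, h]))
  have hzs : z ≠ z * t := fun h => ne_one_of_order ht (mul_eq_left.1 h.symm)
  let A : G → Finset G := fun x => Finset.univ.filter fun i =>
    ∃ g ∈ Subgroup.centralizer ({z} : Set G), g * x * g⁻¹ = i
  have hA : ∀ x, (A x).card = Nat.card {i : G // ∃ g ∈ Subgroup.centralizer ({z} : Set G),
      g * x * g⁻¹ = i} := fun x => by rw [Nat.card_eq_fintype_card, Fintype.card_subtype]
  have hdisj : Disjoint (A t) (A (z * t)) := by
    obtain ⟨N, hNn, hodd, -, hmem, hrep⟩ := exists_odd_subgroup P hP4 hexp hzP (ne_one_of_order hz)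
    haveI := hNn
    have hPC := le_centralizer P hexp hzP
    have hq : ∀ (x : Subgroup.centralizer ({z} : Set G)), (x : G) ∈ (P : Subgroup G) →
        ∀ c : Subgroup.centralizer ({z} : Set G),
          QuotientGroup.mk' N (c * x * c⁻¹) = QuotientGroup.mk' N x := by
      intro x hxP c
      obtain ⟨y, hy, hyc⟩ := hrep c
      have e : QuotientGroup.mk' N y = QuotientGroup.mk' N c := QuotientGroup.eq.2 hyc
      have hyx : y * x * y⁻¹ = x := by
        rw [mul_inv_eq_iff_eq_mul]
        exact Subtype.ext (congrArg Subtype.val (comm_of_exp P hexp ⟨(y : G), hy⟩ ⟨(x : G), hxP⟩) :)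
      rw [map_mul, map_mul, map_inv, ← e, ← map_inv, ← map_mul, ← map_mul, hyx]
    rw [Finset.disjoint_left]
    intro i h1 h2
    obtain ⟨-, g, hg, e1⟩ := Finset.mem_filter.1 h1
    obtain ⟨-, d, hd, e2⟩ := Finset.mem_filter.1 h2
    have e : (⟨g, hg⟩ * ⟨t, hPC htP⟩ * ⟨g, hg⟩⁻¹ : Subgroup.centralizer ({z} : Set G)) =
        ⟨d, hd⟩ * ⟨z * t, hPC hsP⟩ * ⟨d, hd⟩⁻¹ := Subtype.ext (e1.trans e2.symm)
    have h3 := congrArg (QuotientGroup.mk' N) e
    rw [hq _ htP, hq _ hsP] at h3
    have h4 := ((hoddN_aux N hmem _).1 (QuotientGroup.eq.1 h3)).1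
    refine h4 ?_
    show orderOf (t⁻¹ * (z * t)) = 2
    rw [inv_eq_of_mul_eq_one_right htt, ← mul_assoc,
      show t * z = z * t from congrArg Subtype.val (comm_of_exp P hexp ⟨t, htP⟩ ⟨z, hzP⟩), mul_assoc, htt,
      mul_one, hz]
  set E := Finset.univ.filter fun k : G => orderOf k = 2 ∧ ¬ Odd (orderOf (z * k)) with hE
  have hmaps : ∀ k ∈ E, ctr z k ∈ A t ∪ A (z * t) := by
    intro k hk
    obtain ⟨-, hk2, hodd⟩ := Finset.mem_filter.1 hk
    have hkk := mul_self_of_order hk2
    have he := Nat.not_odd_iff_even.1 hodd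
    have hne : ctr z k ≠ z := by
      intro h
      have hc : Commute z (z * k) := by
        conv_lhs => rw [← h]
        exact Commute.pow_self _ _
      have hzk : (z * k) * (z * k) = 1 := by
        calc (z * k) * (z * k) = z * k * z * k := by rw [← mul_assoc]
          _ = 1 := by rw [← hc.eq, ← mul_assoc, hzz, one_mul, hkk]
      have h2 := orderOf_dvd_of_pow_eq_one (show (z * k) ^ 2 = 1 by rw [pow_two, hzk])
      rcases (Nat.dvd_prime Nat.prime_two).1 h2 with h3 | h3
      · rw [h3] at he; exact absurd he (by decide)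
      · rw [ctr, h3, Nat.div_self two_pos, pow_one] at h
        exact ne_one_of_order hk2 (mul_eq_left.1 h)
    obtain ⟨g, hg, h⟩ := conj_into P hP4 hexp hzP htP hz ht hzt (orderOf_ctr he)
      (ctr_comm_left hzz hkk he) hne
    rcases h with h | h
    · exact Finset.mem_union_left _ (Finset.mem_filter.2 ⟨Finset.mem_univ _, g, hg, h⟩)
    · exact Finset.mem_union_right _ (Finset.mem_filter.2 ⟨Finset.mem_univ _, g, hg, h⟩)
  have hfib : ∀ i, (E.filter fun k => ctr z k = i).card = fibre z i := fun i => by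
    rw [fibre, Nat.card_eq_fintype_card, Fintype.card_subtype, hE, Finset.filter_filter]
  have hEcard : E.card = (A t).card * fibre z t + (A (z * t)).card * fibre z (z * t) := by
    rw [Finset.card_eq_sum_card_fiberwise (f := ctr z) (t := A t ∪ A (z * t)) hmaps,
      Finset.sum_union hdisj, Finset.sum_congr rfl (fun i _ => hfib i),
      Finset.sum_congr rfl (fun i _ => hfib i)]
    congr 1 <;>
    · refine Finset.sum_const_nat fun i hi => ?_
      obtain ⟨-, g, hg, rfl⟩ := Finset.mem_filter.1 hi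
      exact fibre_conj (by rw [Subgroup.mem_centralizer_singleton_iff.1 hg, mul_inv_cancel_right])
  have hsplit : Nat.card {k : G // orderOf k = 2} =
      Nat.card {k : G // orderOf k = 2 ∧ Odd (orderOf (z * k))} + E.card := by
    rw [Nat.card_eq_fintype_card, Nat.card_eq_fintype_card, Fintype.card_subtype, Fintype.card_subtype,
      hE, ← Finset.card_filter_add_card_filter_not (fun k : G => Odd (orderOf (z * k))),
      Finset.filter_filter, Finset.filter_filter]
  rw [hsplit, hEcard, hA, hA]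
  have a1 := card_cz_class P hP4 hexp hzP htP hz ht hzt
  have a2 := card_cz_class P hP4 hexp hzP hsP hz hs2 hzs
  have f1 := card_fibre P hP4 hexp hzP htP hz ht hzt
  have f2 := card_fibre P hP4 hexp hzP hsP hz hs2 hzs
  rw [← f1, ← f2, mul_add, ← a1]
  rw [← a2] at a1
  have := Nat.eq_of_mul_eq_mul_right Nat.card_pos a1
  rw [← this]
  ring

/-- All involutions conjugate. -/
theorem odd_partners (hP4 : Nat.card P = 4) (hexp : ∀ x : P, x * x = 1) {z t : G}
    (hzP : z ∈ (P : Subgroup G)) (htP : t ∈ (P : Subgroup G)) (hz : orderOf z = 2) (ht : orderOf t = 2)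
    (hzt : z ≠ t) (hone : ∀ a b : G, orderOf a = 2 → orderOf b = 2 → IsConj a b) :
    Nat.card {k : G // orderOf k = 2 ∧ Odd (orderOf (z * k))} *
          Nat.card (Subgroup.centralizer ((P : Subgroup G) : Set G)) ^ 2 +
        2 * Nat.card (Subgroup.centralizer ({z} : Set G)) ^ 2 =
      Nat.card {k : G // orderOf k = 2} *
        Nat.card (Subgroup.centralizer ((P : Subgroup G) : Set G)) ^ 2 := by
  have hs2 : orderOf (z * t) = 2 := orderOf_eq_prime (hp := ⟨Nat.prime_two⟩)
    (by rw [pow_two]; exact congrArg Subtype.val (hexp ⟨_, mul_mem hzP htP⟩))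
    (fun h => hzt (by rw [← mul_right_inj z, mul_self_of_order hz, h]))
  have h := odd_partners_general P hP4 hexp hzP htP hz ht hzt
  rw [← card_cent_conj (hone z t hz ht), ← card_cent_conj (hone z _ hz hs2)] at h
  rw [← h]; ring

/-- Not all involutions conjugate. -/
theorem three_classes (hP4 : Nat.card P = 4) (hexp : ∀ x : P, x * x = 1) {z t : G}
    (hzP : z ∈ (P : Subgroup G)) (htP : t ∈ (P : Subgroup G)) (hz : orderOf z = 2) (ht : orderOf t = 2)
    (hzt : z ≠ t) (hnot : ¬ ∀ a b : G, orderOf a = 2 → orderOf b = 2 → IsConj a b) :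
    Nat.card {k : G // orderOf k = 2} * Nat.card (Subgroup.centralizer ((P : Subgroup G) : Set G)) ^ 2 =
      Nat.card (Subgroup.centralizer ({z} : Set G)) * Nat.card (Subgroup.centralizer ({t} : Set G)) +
        Nat.card (Subgroup.centralizer ({z} : Set G)) * Nat.card (Subgroup.centralizer ({z * t} : Set G)) +
        Nat.card (Subgroup.centralizer ({t} : Set G)) * Nat.card (Subgroup.centralizer ({z * t} : Set G)) := by
  classical
  haveI := Fintype.ofFinite G
  haveI : Fact (Nat.Prime 2) := ⟨Nat.prime_two⟩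
  haveI hK : IsKleinFour (P : Subgroup G) := by
    refine ⟨hP4, ?_⟩
    refine ((Nat.prime_two.eq_one_or_self_of_dvd _ (Monoid.exponent_dvd_of_forall_pow_eq_one
      fun x => by rw [pow_two]; exact hexp x)).resolve_left fun h1 => ?_)
    haveI := Monoid.exp_eq_one_iff.1 h1
    rw [Nat.card_of_subsingleton (1 : (P : Subgroup G))] at hP4
    omega
  obtain ⟨W, hWn, hc⟩ : ∃ W : Subgroup G, W.Normal ∧ Subgroup.IsComplement' W (P : Subgroup G) := by
    rcases S0202.classes_alternative P hK with h | ⟨h, -⟩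
    · refine absurd (fun a b ha hb => ?_) hnot
      have hsub := (Nat.card_eq_one_iff_unique.1 h).1
      exact ConjClasses.mk_eq_mk_iff_isConj.1
        (congrArg Subtype.val (hsub.elim ⟨_, a, ha, rfl⟩ ⟨_, b, hb, rfl⟩))
    · exact (S0203.result P hK).1 h
  have hzz := mul_self_of_order hz
  have htt := mul_self_of_order ht
  have hsP : z * t ∈ (P : Subgroup G) := mul_mem hzP htP
  have hs2 : orderOf (z * t) = 2 := orderOf_eq_prime
    (by rw [pow_two]; exact congrArg Subtype.val (hexp ⟨_, hsP⟩))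
    (fun h => hzt (by rw [← mul_right_inj z, hzz, h]))
  have hWodd : Odd (Nat.card W) := by
    rw [← Nat.not_even_iff_odd, even_iff_two_dvd]
    intro h
    apply P.not_dvd_index
    rwa [hc.index_eq_card]
  have hq : ∀ a ∈ (P : Subgroup G), ∀ b ∈ (P : Subgroup G), IsConj a b → a = b := by
    intro a ha b hb h
    obtain ⟨g, rfl⟩ := isConj_iff.1 h
    obtain ⟨⟨⟨n, hn⟩, p⟩, hnp⟩ := hc.2 g
    have hnp' : n * (p : G) = g := hnp
    have hpa : (p : G) * a = a * p := congrArg Subtype.val (comm_of_exp P hexp p ⟨a, ha⟩)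
    have e : g * a * g⁻¹ = n * a * n⁻¹ := by
      rw [← hnp', mul_inv_rev, mul_assoc n, hpa]; group
    have h2 : a⁻¹ * (g * a * g⁻¹) ∈ W ⊓ (P : Subgroup G) := by
      refine ⟨?_, (P : Subgroup G).mul_mem ((P : Subgroup G).inv_mem ha) hb⟩
      rw [e, show a⁻¹ * (n * a * n⁻¹) = (a⁻¹ * n * a⁻¹⁻¹) * n⁻¹ by group]
      exact W.mul_mem (hWn.conj_mem n hn a⁻¹) (W.inv_mem hn)
    rw [hc.disjoint.eq_bot, Subgroup.mem_bot, inv_mul_eq_one] at h2
    exact h2
  have hsplit : ∀ H : Subgroup G, (P : Subgroup G) ≤ H → Nat.card H = 4 * Nat.card (W ⊓ H : Subgroup G) := by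
    intro H hH
    rw [← hP4, mul_comm, ← Nat.card_prod]
    refine (Nat.card_congr (Equiv.ofBijective (fun q : (W ⊓ H : Subgroup G) × P =>
      (⟨(q.1 : G) * q.2, H.mul_mem q.1.2.2 (hH q.2.2)⟩ : H)) ⟨?_, ?_⟩)).symm
    · rintro ⟨⟨n, hn⟩, p⟩ ⟨⟨n', hn'⟩, p'⟩ h
      have := hc.1 (a₁ := (⟨n, hn.1⟩, p)) (a₂ := (⟨n', hn'.1⟩, p')) (congrArg Subtype.val h :)
      simp only [Prod.mk.injEq, Subtype.mk.injEq] at this ⊢
      exact this
    · rintro ⟨h, hh⟩
      obtain ⟨⟨⟨n, hn⟩, p⟩, hnp⟩ := hc.2 h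
      have hnp' : n * (p : G) = h := hnp
      have hnH : n ∈ H := by
        rw [show n = h * (p : G)⁻¹ by rw [← hnp', mul_inv_cancel_right]]
        exact H.mul_mem hh (H.inv_mem (hH p.2))
      exact ⟨(⟨n, hn, hnH⟩, p), Subtype.ext hnp'⟩
  have hK4 : Nat.card G = 4 * Nat.card W := by rw [← hc.card_mul, hP4, mul_comm]
  have hC0 := hsplit _ (show (P : Subgroup G) ≤ Subgroup.centralizer ((P : Subgroup G) : Set G) from
    fun x hx => Subgroup.mem_centralizer_iff.2 fun y hy =>
      congrArg Subtype.val (comm_of_exp P hexp ⟨y, hy⟩ ⟨x, hx⟩))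
  rw [centralizer_inf P hP4 hexp hzP htP (ne_one_of_order hz) (ne_one_of_order ht) hzt.symm,
    ← inf_assoc] at hC0
  have hfour := coprime_four W hWodd hzz htt
    (congrArg Subtype.val (comm_of_exp P hexp ⟨z, hzP⟩ ⟨t, htP⟩))
    (fun w hw => hWn.conj_mem w hw z) (fun w hw => hWn.conj_mem w hw t)
  have hz4 := hsplit _ (le_centralizer P hexp hzP)
  have ht4 := hsplit _ (le_centralizer P hexp htP)
  have hs4 := hsplit _ (le_centralizer P hexp hsP)
  rw [centralizer_inf P hP4 hexp hzP htP (ne_one_of_order hz) (ne_one_of_order ht) hzt.symm]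
  have hord : Nat.card G * Nat.card (Subgroup.centralizer ({z} : Set G) ⊓
      Subgroup.centralizer ({t} : Set G) : Subgroup G) ^ 2 =
      Nat.card (Subgroup.centralizer ({z} : Set G)) * Nat.card (Subgroup.centralizer ({t} : Set G)) *
        Nat.card (Subgroup.centralizer ({z * t} : Set G)) := by
    rw [hK4, hC0, hz4, ht4, hs4]
    linear_combination 64 * hfour
  -- partition of the involutions
  have hpart : Nat.card {k : G // orderOf k = 2} = Nat.card {k // IsConj z k} +
      Nat.card {k // IsConj t k} + Nat.card {k // IsConj (z * t) k} := by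
    simp only [Nat.card_eq_fintype_card, Fintype.card_subtype]
    rw [← Finset.card_union_of_disjoint, ← Finset.card_union_of_disjoint]
    · refine congrArg Finset.card ?_
      ext k
      simp only [Finset.mem_union, Finset.mem_filter, Finset.mem_univ, true_and]
      constructor
      · intro hk
        obtain ⟨R, hR⟩ := (IsPGroup.of_card (n := 1) (by rw [Nat.card_zpowers, hk]; norm_num) :
          IsPGroup 2 (Subgroup.zpowers k)).exists_le_sylow
        obtain ⟨g, hg⟩ := MulAction.exists_smul_eq G R P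
        have hmem : g * k * g⁻¹ ∈ (P : Subgroup G) := by
          rw [← hg, Sylow.coe_subgroup_smul]
          exact ⟨k, hR (Subgroup.mem_zpowers k), rfl⟩
        have hcj : IsConj k (g * k * g⁻¹) := isConj_iff.2 ⟨g, rfl⟩
        rcases eq_of_mem P hP4 hexp hzP htP (ne_one_of_order hz) (ne_one_of_order ht) hzt.symm hmem
          with h | h | h | h <;> rw [h] at hcj
        · exact absurd (isConj_one_left.1 hcj) (ne_one_of_order hk)
        · exact Or.inl (Or.inl hcj.symm)
        · exact Or.inl (Or.inr hcj.symm)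
        · exact Or.inr hcj.symm
      · have key : ∀ x : G, orderOf x = 2 → IsConj x k → orderOf k = 2 := fun x hx hxk => by
          obtain ⟨g, rfl⟩ := isConj_iff.1 hxk
          rw [show g * x * g⁻¹ = MulAut.conj g x from rfl, MulEquiv.orderOf_eq, hx]
        rintro ((h | h) | h)
        · exact key z hz h
        · exact key t ht h
        · exact key _ hs2 h
    · rw [Finset.disjoint_union_left]
      constructor <;> rw [Finset.disjoint_left] <;> intro k h1 h2 <;>
        have hh := (Finset.mem_filter.1 h1).2.trans (Finset.mem_filter.1 h2).2.symm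
      · exact ne_one_of_order ht (mul_eq_left.1 (hq z hzP _ hsP hh).symm)
      · exact ne_one_of_order hz (mul_eq_right.1 (hq t htP _ hsP hh).symm)
    · rw [Finset.disjoint_left]
      intro k h1 h2
      exact hzt (hq z hzP t htP ((Finset.mem_filter.1 h1).2.trans (Finset.mem_filter.1 h2).2.symm))
  rw [hpart]
  have kz := card_class z
  have kt := card_class t
  have ks := card_class (z * t)
  generalize Nat.card {k // IsConj z k} = nz at *
  generalize Nat.card {k // IsConj t k} = nt at *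
  generalize Nat.card {k // IsConj (z * t) k} = ns at *
  have pz : 0 < Nat.card (Subgroup.centralizer ({z} : Set G)) := Nat.card_pos
  have pt : 0 < Nat.card (Subgroup.centralizer ({t} : Set G)) := Nat.card_pos
  have ps : 0 < Nat.card (Subgroup.centralizer ({z * t} : Set G)) := Nat.card_pos
  generalize Nat.card (Subgroup.centralizer ({z} : Set G) ⊓
      Subgroup.centralizer ({t} : Set G) : Subgroup G) = c0 at *
  generalize Nat.card (Subgroup.centralizer ({z} : Set G)) = a at *
  generalize Nat.card (Subgroup.centralizer ({t} : Set G)) = b at *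
  generalize Nat.card (Subgroup.centralizer ({z * t} : Set G)) = c at *
  have e1 : nz * c0 ^ 2 = b * c := Nat.eq_of_mul_eq_mul_left pz (by rw [← kz] at hord; linear_combination hord)
  have e2 : nt * c0 ^ 2 = a * c := Nat.eq_of_mul_eq_mul_left pt (by rw [← kt] at hord; linear_combination hord)
  have e3 : ns * c0 ^ 2 = a * b := Nat.eq_of_mul_eq_mul_left ps (by rw [← ks] at hord; linear_combination hord)
  linear_combination e1 + e2 + e3

theorem arith_plus {f p q n : ℕ} (hp : 0 < p) (hq : 0 < q) (hn : n + 1 = p + q)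
    (h : 3 * f * (p * q * n) = (2 * p - 1) * (2 * q - 1) * (2 * n + 1)) : f = 1 ∧ p = 1 ∧ q = 1 := by
  obtain ⟨i, rfl⟩ : ∃ i, p = i + 1 := ⟨p - 1, by omega⟩
  obtain ⟨j, rfl⟩ : ∃ j, q = j + 1 := ⟨q - 1, by omega⟩
  obtain rfl : n = i + j + 1 := by omega
  simp only [show 2 * (i + 1) - 1 = 2 * i + 1 by omega, show 2 * (j + 1) - 1 = 2 * j + 1 by omega] at h
  have hf : f < 3 := by
    by_contra hf
    nlinarith [Nat.mul_le_mul_right ((i + 1) * (j + 1) * (i + j + 1)) (show 3 ≤ f by omega),
      Nat.zero_le (i * i * j), Nat.zero_le (i * j * j), Nat.zero_le (i * j)]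
  interval_cases f
  · simp only [mul_zero, zero_mul] at h
    rcases mul_eq_zero.1 h.symm with h | h
    · rcases mul_eq_zero.1 h with h | h <;> omega
    · omega
  · have hij : i = 0 ∧ j = 0 := by
      constructor <;> by_contra hne <;>
        nlinarith [Nat.zero_le (i * j), Nat.zero_le (i * i * j), Nat.zero_le (i * j * j), Nat.zero_le (i * i),
          Nat.zero_le (j * j), Nat.pos_of_ne_zero hne]
    omega
  · exfalso
    have h2 : Odd (3 * 2 * ((i + 1) * (j + 1) * (i + j + 1))) := by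
      rw [h]
      exact ((odd_two_mul_add_one i).mul (odd_two_mul_add_one j)).mul (odd_two_mul_add_one _)
    exact Nat.not_even_iff_odd.2 h2 ((Even.mul_left (by decide) 3).mul_right _)

theorem arith_minus {f a b : ℕ} (ha : 0 < a) (hb : 0 < b)
    (h : 3 * f * (a * b * (1 + a + b)) = (2 * (1 + a + b) - 1) * (2 * a + 1) * (2 * b + 1)) :
    f = 5 ∧ a = 1 ∧ b = 1 := by
  simp only [show 2 * (1 + a + b) - 1 = 2 * (a + b) + 1 by omega] at h
  have hab : 1 ≤ a * b := Nat.mul_pos ha hb
  have hf1 : 2 < f := by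
    by_contra hf
    nlinarith [Nat.mul_le_mul_right (a * b * (1 + a + b)) (show f ≤ 2 by omega)]
  have hf2 : f < 6 := by
    by_contra hf
    have t1 : (2 * a + 1) * (2 * b + 1) ≤ 9 * (a * b) := by
      have := Nat.mul_le_mul (show 2 * a + 1 ≤ 3 * a by omega) (show 2 * b + 1 ≤ 3 * b by omega)
      linarith
    nlinarith [Nat.mul_le_mul_left (2 * (a + b) + 1) t1,
      Nat.mul_le_mul_right (a * b * (1 + a + b)) (show 6 ≤ f by omega)]
  interval_cases f
  · exfalso
    have hk : a * b * ((a + b) + 5) = (2 * (a + b) + 1) ^ 2 := by linear_combination h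
    have hd : a + b + 5 ∣ 81 := by
      have hz : ((a : ℤ) + b + 5) ∣ 81 := ⟨(a : ℤ) * b - 4 * ((a : ℤ) + b) + 16, by
        have : ((a : ℤ) * b) * ((a : ℤ) + b + 5) = (2 * ((a : ℤ) + b) + 1) ^ 2 := by exact_mod_cast hk
        linear_combination -this⟩
      exact_mod_cast hz
    have hs : a + b + 5 ∈ Nat.divisors 81 := Nat.mem_divisors.2 ⟨hd, by norm_num⟩
    have hs' : a + b + 5 = 1 ∨ a + b + 5 = 3 ∨ a + b + 5 = 9 ∨ a + b + 5 = 27 ∨ a + b + 5 = 81 := by
      simpa [show Nat.divisors 81 = {1, 3, 9, 27, 81} by decide] using hs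
    rcases hs' with e | e | e | e | e
    · omega
    · omega
    · obtain rfl : b = 4 - a := by omega
      have : a ≤ 4 := by omega
      interval_cases a <;> omega
    · obtain rfl : b = 22 - a := by omega
      have : a ≤ 22 := by omega
      interval_cases a <;> omega
    · obtain rfl : b = 76 - a := by omega
      have : a ≤ 76 := by omega
      interval_cases a <;> omega
  · exfalso
    have h2 : Odd (3 * 4 * (a * b * (1 + a + b))) := by
      rw [h]
      exact ((odd_two_mul_add_one _).mul (odd_two_mul_add_one a)).mul (odd_two_mul_add_one _)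
    exact Nat.not_even_iff_odd.2 h2 ((Even.mul_left (by decide) 3).mul_right _)
  · refine ⟨rfl, ?_⟩
    have hk : a * b * (7 * (a + b) + 11) = (2 * (a + b) + 1) ^ 2 := by linear_combination h
    have hs : a + b ≤ a * b + 1 := by nlinarith [Nat.mul_le_mul ha hb]
    constructor <;> nlinarith [Nat.mul_le_mul_right (7 * (a + b) + 11) hs]

open scoped ComplexConjugate in
theorem klein_cases (hP4 : Nat.card P = 4) (hexp : ∀ x : P, x * x = 1) {z : G}
    (hzP : z ∈ (P : Subgroup G)) (hz : orderOf z = 2)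
    (hone : ∀ a b : G, orderOf a = 2 → orderOf b = 2 → IsConj a b) (f : ℕ)
    (hm : Nat.card {k : G // orderOf k = 2} *
        Nat.card (Subgroup.centralizer ((P : Subgroup G) : Set G)) ^ 2 =
      3 * f * Nat.card (Subgroup.centralizer ({z} : Set G)) ^ 2) :
    (f = 1 ∧ ∃ N : Subgroup G, N.Normal ∧ N ≠ ⊤ ∧ ∀ k : G, orderOf k = 2 → k ∈ N) ∨ f = 5 := by
  classical
  haveI := Fintype.ofFinite G
  obtain ⟨M, hM⟩ := BrauerBlocksRegFun.exists_isPModular Nat.prime_two
  obtain ⟨χ₁, χ₂, χ₃, ε, hε, n1, n2, h12, h13, h23, hB, hval, d1, d2, d3, -⟩ :=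
    KleinFourBlock79.main hM hP4 hexp hzP hz hone
  obtain ⟨v1, v2, v3⟩ := hval z hz
  have n3 : (χ₃ : G → ℂ) ≠ fun _ => 1 := fun h => by rw [h] at v3; norm_num at v3
  obtain ⟨hw, hrel⟩ := KleinFourOrder79.relations hM hP4 hexp hzP hz hone hB
    ⟨n1, n2, n3, h12, h13, h23⟩ (ε₁ := 1) (ε₂ := ε) (ε₃ := -1) ⟨Or.inl rfl, hε, Or.inr rfl⟩
    ⟨by simpa using v1, v2, by simpa using v3⟩
  have hcard : Nat.card {k : G // orderOf k = 2} * Nat.card (Subgroup.centralizer ({z} : Set G)) =
      Nat.card G := by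
    rw [← card_class z]
    refine congrArg (· * _) (Nat.card_congr (Equiv.subtypeEquivRight fun k => ⟨hone z k hz, fun h => ?_⟩))
    obtain ⟨g, rfl⟩ := isConj_iff.1 h
    rw [show g * z * g⁻¹ = MulAut.conj g z from rfl, MulEquiv.orderOf_eq, hz]
  have p1 := CharAverage.irr_degree_pos χ₁
  have p2 := CharAverage.irr_degree_pos χ₂
  have p3 := CharAverage.irr_degree_pos χ₃
  have lin : charDegree (χ₁ : G → ℂ) = 1 →
      ∃ N : Subgroup G, N.Normal ∧ N ≠ ⊤ ∧ ∀ k : G, orderOf k = 2 → k ∈ N := by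
    intro hd
    obtain ⟨n, ρ, -, hρ⟩ := χ₁.2
    have hn : charDegree (χ₁ : G → ℂ) = n := by rw [← hρ]; simp [charDegree, Representation.char_one]
    obtain rfl : n = 1 := hn ▸ hd
    have hker : ∀ g : G, (χ₁ : G → ℂ) g = 1 → g ∈ ρ.ker := by
      intro g hg
      have key : ∀ A : Module.End ℂ (Fin 1 → ℂ), A = LinearMap.trace ℂ (Fin 1 → ℂ) A • (1 : Module.End ℂ (Fin 1 → ℂ)) := by
        intro A
        rw [LinearMap.trace_eq_matrix_trace ℂ (Pi.basisFun ℂ (Fin 1)), Matrix.trace_fin_one,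
          LinearMap.toMatrix_apply]
        refine LinearMap.ext fun v => funext fun i => ?_
        obtain rfl := Subsingleton.elim i 0
        have hv : v = v 0 • (Pi.single 0 1 : Fin 1 → ℂ) := funext fun j => by
          obtain rfl := Subsingleton.elim j 0
          simp
        conv_lhs => rw [hv, map_smul]
        simp [mul_comm]
      rw [← hρ] at hg
      rw [MonoidHom.mem_ker, key (ρ g), show LinearMap.trace ℂ (Fin 1 → ℂ) (ρ g) = 1 from hg, one_smul]
    refine ⟨ρ.ker, inferInstance, fun htop => n1 ?_, fun k hk => hker k (hval k hk).1⟩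
    funext g
    have hg : ρ g = 1 := MonoidHom.mem_ker.1 (htop ▸ Subgroup.mem_top g)
    rw [← hρ]
    simp [Representation.character, hg]
  generalize charDegree (χ₁ : G → ℂ) = x₁ at *
  generalize charDegree (χ₂ : G → ℂ) = x₂ at *
  generalize charDegree (χ₃ : G → ℂ) = x₃ at *
  generalize Nat.card {k : G // orderOf k = 2} = m at *
  have pc : 0 < Nat.card (Subgroup.centralizer ({z} : Set G)) := Nat.card_pos
  generalize Nat.card (Subgroup.centralizer ({z} : Set G)) = c at *
  generalize Nat.card (Subgroup.centralizer ((P : Subgroup G) : Set G)) = c0 at *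
  have hmz : (m : ℤ) * c0 ^ 2 = 3 * f * c ^ 2 := by exact_mod_cast hm
  have hmc : (Nat.card G : ℤ) = m * c := by exact_mod_cast hcard.symm
  rw [hmc] at hrel
  have hmain : 3 * (f : ℤ) * (((x₁ : ℤ) + 1) * ((x₂ : ℤ) + ε) * ((x₃ : ℤ) + -1)) =
      8 * ((x₁ : ℤ) * x₂ * x₃) := by
    refine mul_left_cancel₀ (show (c : ℤ) ^ 3 ≠ 0 by positivity) ?_
    linear_combination hrel - (c : ℤ) * (((x₁ : ℤ) + 1) * ((x₂ : ℤ) + ε) * ((x₃ : ℤ) + -1)) * hmz
  rcases hε with rfl | rfl
  · obtain ⟨p, rfl⟩ : ∃ p, x₁ = 2 * p - 1 := ⟨(x₁ + 1) / 2, by omega⟩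
    obtain ⟨q, rfl⟩ : ∃ q, x₂ = 2 * q - 1 := ⟨(x₂ + 1) / 2, by omega⟩
    obtain ⟨n, rfl⟩ : ∃ n, x₃ = 2 * n + 1 := ⟨x₃ / 2, by omega⟩
    have e : 3 * f * (p * q * n) = (2 * p - 1) * (2 * q - 1) * (2 * n + 1) := by
      zify [show 1 ≤ 2 * p by omega, show 1 ≤ 2 * q by omega]
      push_cast [show 1 ≤ 2 * p by omega, show 1 ≤ 2 * q by omega] at hmain
      linarith
    obtain ⟨rfl, rfl, rfl⟩ := arith_plus (by omega) (by omega) (by omega) e
    exact Or.inl ⟨rfl, lin rfl⟩
  · obtain ⟨p, rfl⟩ : ∃ p, x₁ = 2 * p - 1 := ⟨(x₁ + 1) / 2, by omega⟩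
    obtain ⟨b, rfl⟩ : ∃ b, x₂ = 2 * b + 1 := ⟨x₂ / 2, by omega⟩
    obtain ⟨a, rfl⟩ : ∃ a, x₃ = 2 * a + 1 := ⟨x₃ / 2, by omega⟩
    obtain rfl : p = 1 + a + b := by omega
    have e : 3 * f * (a * b * (1 + a + b)) = (2 * (1 + a + b) - 1) * (2 * a + 1) * (2 * b + 1) := by
      zify [show 1 ≤ 2 * (1 + a + b) by omega]
      push_cast [show 1 ≤ 2 * (1 + a + b) by omega] at hmain
      linarith
    have ha : 0 < a := by omega
    rcases Nat.eq_zero_or_pos b with rfl | hb
    · simp at e; omega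
    · exact Or.inr (arith_minus ha hb e).1

end Cfsg.Agent.L34Syl83Klein
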