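import Cfsg.Agent.Lib.AN39Cent
import Cfsg.Agent.Lib.L34Syl83Klein

/-!
# S3344, order: the half modulo the four-group has order 12 or is `Alt(5)`
-/

set_option autoImplicit false
set_option maxRecDepth 100000
set_option linter.unusedSectionVars false

namespace Cfsg.Agent.AN39

open Cfsg.Agent.AN82

theorem swap_facts : (105 : Ix) ∈ zM ∧ (96 : Ix) ∈ zM ∧ (51 : Ix) ∈ zM ∧ (∀ v ∈ vL, mul 0 96 v ≠ 105) ∧
    (∃ v ∈ vL, mul 0 96 105 = mul 0 51 v) := by decide +kernel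

theorem vL_facts : ∀ v ∈ vL, v ∈ aL ∧ (v ∈ zL → False) ∧ mul 0 96 v ≠ 0 := by decide +kernel

variable {G : Type*} [Group G] [Finite G] {F : Frame 0 G}

/-- `n1 * n0` centralizes `a` and moves `z` to `f 105`. -/
theorem swap_spec (g : Good F) :
    g.n1 * g.n0 ∈ CA F ∧ (g.n1 * g.n0) * F.z * (g.n1 * g.n0)⁻¹ = F.f 105 := by
  obtain ⟨a6, a96, -, -, -, a54, -, b9, -, -, b6, -, h96, -, h54, -, -, -, -, -, k9, k6⟩ := act_facts
  constructor
  · refine mem_CA_iff.2 (mul_inv_eq_iff_eq_mul.1 ?_)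
    calc g.n1 * g.n0 * F.f 54 * (g.n1 * g.n0)⁻¹ = g.n1 * (g.n0 * F.f 54 * g.n0⁻¹) * g.n1⁻¹ := by group
      _ = F.f 54 := by rw [g.conj0 54 h54, a54, g.conj1 9 k9, b9]
  · calc g.n1 * g.n0 * F.z * (g.n1 * g.n0)⁻¹ = g.n1 * (g.n0 * F.f 96 * g.n0⁻¹) * g.n1⁻¹ := by
          rw [Frame.z, zI]; group
      _ = F.f 105 := by rw [g.conj0 96 h96, a96, g.conj1 6 k6, b6]

variable (g : Good F) (hf : Half F)

/-- The four-group inside the half. -/
def Half.Vh : Subgroup hf.H := (V4 F).subgroupOf hf.H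

include g

theorem Half.Vh_normal : hf.Vh.Normal := ⟨fun v hv h => by
  have hv' : (v : G) ∈ V4 F := Subgroup.mem_subgroupOf.1 hv
  refine Subgroup.mem_subgroupOf.2 ?_
  show (h : G) * (v : G) * (h : G)⁻¹ ∈ V4 F
  rw [hf.V4_central g h.2 hv', mul_inv_cancel_right]
  exact hv'⟩

theorem Half.card_Vh : Nat.card hf.Vh = 4 :=
  (Nat.card_congr (Subgroup.subgroupOfEquivOfLe (hf.V4_le g)).toEquiv).trans
    (card_sub F vL vL_closed (by decide +kernel))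

theorem Half.sixteen : ∃ j, Odd j ∧ Nat.card hf.H = 16 * j := by
  haveI : Fact (Nat.Prime 2) := ⟨Nat.prime_two⟩
  obtain ⟨S, hS⟩ := hf.exists_sylow g
  have h16 : Nat.card (S : Subgroup hf.H) = 16 := by
    rw [show (S : Subgroup hf.H) = (M16 F).subgroupOf hf.H from Subgroup.ext hS,
      Nat.card_congr (Subgroup.subgroupOfEquivOfLe (hf.M_le g)).toEquiv]
    exact card_sub F aL aL_closed (by decide +kernel)
  refine ⟨(S : Subgroup hf.H).index, ?_, by rw [← h16, Subgroup.card_mul_index]⟩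
  rw [← Nat.not_even_iff_odd, even_iff_two_dvd]
  exact S.not_dvd_index

/-- The structure of the quotient. -/
theorem Half.quotient [hn : hf.Vh.Normal] :
    ∃ (P : Sylow 2 (hf.H ⧸ hf.Vh)), Nat.card P = 4 ∧ (∀ x : P, x * x = 1) ∧
      (∀ x : hf.H, (x : G) ∈ M16 F → (x : hf.H ⧸ hf.Vh) ∈ (P : Subgroup (hf.H ⧸ hf.Vh))) ∧
      (∀ q ∈ (P : Subgroup (hf.H ⧸ hf.Vh)), ∃ x : hf.H, (x : G) ∈ M16 F ∧ (x : hf.H ⧸ hf.Vh) = q) ∧
      (∀ a b : hf.H ⧸ hf.Vh, orderOf a = 2 → orderOf b = 2 → IsConj a b) ∧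
      (Nat.card (hf.H ⧸ hf.Vh) = 12 ∨
        (IsSimpleGroup (hf.H ⧸ hf.Vh) ∧ Nat.card (hf.H ⧸ hf.Vh) = 60)) := by
  classical
  haveI : Fact (Nat.Prime 2) := ⟨Nat.prime_two⟩
  obtain ⟨j, hj, hHj⟩ := hf.sixteen g
  have hq : Nat.card (hf.H ⧸ hf.Vh) = 4 * j := by
    have h := hf.Vh.card_eq_card_quotient_mul_card_subgroup
    rw [hf.card_Vh g, hHj] at h
    omega
  have hVM : hf.Vh ≤ (M16 F).subgroupOf hf.H := fun x hx => by
    obtain ⟨i, hi, e⟩ := Subgroup.mem_subgroupOf.1 hx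
    exact Subgroup.mem_subgroupOf.2 ⟨i, (vL_facts i hi).1, e⟩
  set Pb := ((M16 F).subgroupOf hf.H).map (QuotientGroup.mk' hf.Vh) with hPb
  have hPc : Nat.card Pb = 4 := by
    have h1 := Subgroup.relIndex_ker (QuotientGroup.mk' hf.Vh) (K := (M16 F).subgroupOf hf.H)
    rw [QuotientGroup.ker_mk'] at h1
    have h2 := Subgroup.relIndex_mul_relIndex (⊥ : Subgroup hf.H) hf.Vh _ bot_le hVM
    rw [Subgroup.relIndex_bot_left, Subgroup.relIndex_bot_left, hf.card_Vh g,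
      Nat.card_congr (Subgroup.subgroupOfEquivOfLe (hf.M_le g)).toEquiv,
      show Nat.card (M16 F) = 16 from card_sub F aL aL_closed (by decide +kernel)] at h2
    have h3 : hf.Vh.relIndex ((M16 F).subgroupOf hf.H) = 4 := by omega
    rw [h1] at h3
    exact h3
  have hPp : IsPGroup 2 Pb := IsPGroup.of_card (n := 2) (by rw [hPc]; norm_num)
  have hPi : ¬ 2 ∣ Pb.index := by
    have h := Pb.card_mul_index
    rw [hPc, hq] at h
    rw [show Pb.index = j by omega]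
    exact fun h2 => Nat.not_even_iff_odd.2 hj (even_iff_two_dvd.2 h2)
  obtain ⟨P, hP⟩ : ∃ P : Sylow 2 (hf.H ⧸ hf.Vh), (P : Subgroup (hf.H ⧸ hf.Vh)) = Pb :=
    ⟨hPp.toSylow hPi, rfl⟩
  have hP4 : Nat.card P = 4 := by
    show Nat.card (P : Subgroup (hf.H ⧸ hf.Vh)) = 4
    rw [hP]; exact hPc
  have hmem : ∀ x : hf.H, (x : G) ∈ M16 F → (x : hf.H ⧸ hf.Vh) ∈ (P : Subgroup (hf.H ⧸ hf.Vh)) :=
    fun x hx => hP ▸ ⟨x, hx, rfl⟩
  have hsurj : ∀ q ∈ (P : Subgroup (hf.H ⧸ hf.Vh)),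
      ∃ x : hf.H, (x : G) ∈ M16 F ∧ (x : hf.H ⧸ hf.Vh) = q := fun q hq' => by
    rw [hP] at hq'
    obtain ⟨x, hx, rfl⟩ := hq'
    exact ⟨x, hx, rfl⟩
  have hexp : ∀ x : P, x * x = 1 := fun x => by
    obtain ⟨y, hy, hyx⟩ := hsurj x x.2
    obtain ⟨i, hi, e⟩ := hy
    refine Subtype.ext ?_
    show (x : hf.H ⧸ hf.Vh) * x = 1
    rw [← hyx, ← QuotientGroup.mk_mul,
      show y * y = 1 from Subtype.ext (by
        rw [Subgroup.coe_mul, ← e]; exact F.sq_eq_one_iff.2 (aL_sq i hi).2)]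
    rfl
  -- the centralizer of the image of a member of `zM`
  have hm : ∀ i ∈ zM, F.f i ∈ hf.H := fun i hi => hf.M_le g (f_mem_sub.2 (zM_sub i hi).1)
  have hcent : ∀ (i : Ix) (hi : i ∈ zM) (x : hf.H),
      Commute (x : hf.H ⧸ hf.Vh) (⟨F.f i, hm i hi⟩ : hf.H) → (x : G) ∈ M16 F := by
    intro i hi x hc
    refine hf.mem_M_of_comm_mod g hi x.2 ?_
    have h1 : ((x * ⟨F.f i, hm i hi⟩ * x⁻¹ * ⟨F.f i, hm i hi⟩ : hf.H) : hf.H ⧸ hf.Vh) = 1 := by
      simp only [QuotientGroup.mk_mul, QuotientGroup.mk_inv]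
      rw [hc.eq, mul_inv_cancel_right, ← QuotientGroup.mk_mul,
        show (⟨F.f i, hm i hi⟩ : hf.H) * ⟨F.f i, hm i hi⟩ = 1 from Subtype.ext
          (F.sq_eq_one_iff.2 (aL_sq i (zM_sub i hi).1).2)]
      rfl
    exact Subgroup.mem_subgroupOf.1 ((QuotientGroup.eq_one_iff (N := hf.Vh) (x * ⟨F.f i, hm i hi⟩ * x⁻¹ * ⟨F.f i, hm i hi⟩)).1 h1)
  obtain ⟨h105, h96, h51, hne, v, hv, e51⟩ := swap_facts
  set t : hf.H ⧸ hf.Vh := ((⟨F.f 96, hm 96 h96⟩ : hf.H) : hf.H ⧸ hf.Vh) with ht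
  set b : hf.H ⧸ hf.Vh := ((⟨F.f 105, hm 105 h105⟩ : hf.H) : hf.H ⧸ hf.Vh) with hb
  have htP : t ∈ (P : Subgroup (hf.H ⧸ hf.Vh)) := hmem _ (f_mem_sub.2 (zM_sub 96 h96).1)
  have hbP : b ∈ (P : Subgroup (hf.H ⧸ hf.Vh)) := hmem _ (f_mem_sub.2 (zM_sub 105 h105).1)
  have hord : ∀ (i : Ix) (hi : i ∈ zM), orderOf ((⟨F.f i, hm i hi⟩ : hf.H) : hf.H ⧸ hf.Vh) = 2 := by
    intro i hi
    refine orderOf_eq_prime ?_ fun h => ?_
    · rw [pow_two, ← QuotientGroup.mk_mul, show (⟨F.f i, hm i hi⟩ : hf.H) * ⟨F.f i, hm i hi⟩ = 1 from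
        Subtype.ext (F.sq_eq_one_iff.2 (aL_sq i (zM_sub i hi).1).2)]
      rfl
    · obtain ⟨k, hk, e⟩ := (QuotientGroup.eq_one_iff _).1 h
      exact (vL_facts k hk).2.1 (F.inj e ▸ (zM_sub i hi).2)
  have htb : t ≠ b := fun h => by
    obtain ⟨k, hk, e⟩ := QuotientGroup.eq.1 h
    refine hne k hk (F.inj ?_)
    rw [F.map_mul, e]
    simp
  have htb3 : t * b = ((⟨F.f 51, hm 51 h51⟩ : hf.H) : hf.H ⧸ hf.Vh) := by
    rw [ht, hb, ← QuotientGroup.mk_mul, eq_comm, QuotientGroup.eq]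
    show (F.f 51)⁻¹ * (F.f 96 * F.f 105) ∈ V4 F
    rw [← F.map_mul, e51, F.map_mul, inv_mul_cancel_left]
    exact f_mem_sub.2 hv
  have hfour : ∀ x ∈ (P : Subgroup (hf.H ⧸ hf.Vh)), x = 1 ∨ x = t ∨ x = b ∨ x = t * b := fun x hx =>
    KleinFourLocal79.eq_of_mem P hP4 hexp htP hbP (fun h => by
      have := hord 96 h96; rw [← ht, h, orderOf_one] at this; omega) (fun h => by
      have := hord 105 h105; rw [← hb, h, orderOf_one] at this; omega) htb.symm hx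
  have hct : ∀ c, Commute c t → c = 1 ∨ c = t ∨ c = b ∨ c = t * b := by
    intro c hc
    obtain ⟨x, rfl⟩ := QuotientGroup.mk'_surjective hf.Vh c
    exact hfour _ (hmem _ (hcent 96 h96 x hc))
  have hone : ∀ u w : hf.H ⧸ hf.Vh, orderOf u = 2 → orderOf w = 2 → IsConj u w := by
    haveI hK : IsKleinFour (P : Subgroup (hf.H ⧸ hf.Vh)) := by
      refine ⟨hP4, ?_⟩
      refine ((Nat.prime_two.eq_one_or_self_of_dvd _ (Monoid.exponent_dvd_of_forall_pow_eq_one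
        fun x => by rw [pow_two]; exact hexp x)).resolve_left fun h1 => ?_)
      haveI := Monoid.exp_eq_one_iff.1 h1
      rw [Nat.card_of_subsingleton (1 : (P : Subgroup (hf.H ⧸ hf.Vh)))] at hP4
      omega
    rcases S0202.classes_alternative P hK with h | ⟨h, -⟩
    · intro u w hu hw
      have hsub := (Nat.card_eq_one_iff_unique.1 h).1
      exact ConjClasses.mk_eq_mk_iff_isConj.1
        (congrArg Subtype.val (hsub.elim ⟨_, u, hu, rfl⟩ ⟨_, w, hw, rfl⟩))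
    exfalso
    obtain ⟨N, hNn, hNc⟩ := (S0203.result P hK).1 h
    have hNodd : Odd (Nat.card N) := by
      rw [← Nat.not_even_iff_odd, even_iff_two_dvd, show Nat.card N = (P : Subgroup (hf.H ⧸ hf.Vh)).index from hNc.index_eq_card.symm]
      exact P.not_dvd_index
    have hfree : ∀ (i : Ix) (hi : i ∈ zM), ∀ k ∈ N,
        Commute ((⟨F.f i, hm i hi⟩ : hf.H) : hf.H ⧸ hf.Vh) k → k = 1 := by
      intro i hi k hk hc
      obtain ⟨x, rfl⟩ := QuotientGroup.mk'_surjective hf.Vh k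
      exact hNc.disjoint.le_bot ⟨hk, hmem _ (hcent i hi x hc.symm)⟩
    have hN : N = ⊥ := by
      refine KleinSelfCent.eq_bot_of_four N hNodd (a := t) (b := b) ?_ ?_ ?_ ?_
      · exact congrArg Subtype.val (hexp ⟨t, htP⟩)
      · exact congrArg Subtype.val (hexp ⟨b, hbP⟩)
      · exact congrArg Subtype.val (KleinFourLocal79.comm_of_exp P hexp ⟨t, htP⟩ ⟨b, hbP⟩)
      · intro u hu k hk hc
        rcases hu with rfl | rfl | rfl
        · exact hfree 96 h96 k hk hc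
        · exact hfree 105 h105 k hk hc
        · rw [htb3] at hc
          exact hfree 51 h51 k hk hc
    have h4 : Nat.card (hf.H ⧸ hf.Vh) = 4 := by
      rw [← hNc.card_mul, hN, Subgroup.card_bot, one_mul]
      exact hP4
    have hC32 : Nat.card (CA F) ≤ 32 := by
      rw [← hf.card, hHj]
      omega
    have hTC : sub F tA tA_closed = CA F :=
      Subgroup.eq_of_le_of_card_ge (fun x ⟨i, hi, e⟩ => e ▸ f_mem_CA hi)
        (by rw [card_sub F tA tA_closed (by decide +kernel)]; exact hC32)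
    obtain ⟨hgC, hgz⟩ := swap_spec g
    obtain ⟨i, -, hie⟩ := (hTC ▸ hgC : g.n1 * g.n0 ∈ sub F tA tA_closed)
    rw [← hie] at hgz
    have hzc : F.f i * F.z = F.z * F.f i := F.commute_iff.2 ((zI_facts 0).2 i)
    rw [hzc, mul_inv_cancel_right, Frame.z, F.eq_iff] at hgz
    exact absurd hgz (by decide)
  refine ⟨P, hP4, hexp, hmem, hsurj, hone, ?_⟩
  have h8 : ¬ 8 ∣ Nat.card (hf.H ⧸ hf.Vh) := by
    rw [hq]
    intro h
    have h2 : 4 * 2 ∣ 4 * j := h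
    exact Nat.not_even_iff_odd.2 hj (even_iff_two_dvd.2 (Nat.dvd_of_mul_dvd_mul_left (by norm_num) h2))
  rcases KleinSelfCent.card_twelve_or_alternating (hord 96 h96) (hord 105 h105)
    (show t * b = b * t from congrArg Subtype.val (KleinFourLocal79.comm_of_exp P hexp ⟨t, htP⟩ ⟨b, hbP⟩))
    htb.symm hct hone h8 with h | ⟨hs, ⟨e⟩⟩
  · exact Or.inl h
  · refine Or.inr ⟨hs, ?_⟩
    rw [Nat.card_congr e.toEquiv, nat_card_alternatingGroup]
    simp [Nat.factorial]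

end Cfsg.Agent.AN39
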