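import Cfsg.Agent.Lib.AN82Frame

/-!
# S3344: table facts about the fused planes
-/

set_option autoImplicit false
set_option maxRecDepth 100000

namespace Cfsg.Agent.AN46Simple

open Cfsg.Agent.AN82

/-- What is used about a plane `eL` spanned by the central involution and the class of `u`. -/
structure Plane (k : Kind) (u : Ix) (eL : List Ix) : Prop where
  u_mem : u ∈ eL
  one_mem : (0 : Ix) ∈ eL
  z_mem : zI ∈ eL
  u_ne : u ≠ 0 ∧ u ≠ zI
  card : eL.toFinset.card = 8
  closed : ∀ x ∈ eL, ∀ y ∈ eL, mul k x y ∈ eL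
  sq : ∀ x ∈ eL, mul k x x = 0
  comm : ∀ x ∈ eL, ∀ y ∈ eL, comm k x y = true
  conj_mem : ∀ a : Ix, ∀ x ∈ eL, cj k a x ∈ eL
  orbit : ∀ x ∈ eL, x = 0 ∨ x = zI ∨ ∃ a : Ix, cj k a u = x
  cent : ∀ x : Ix, (∀ y ∈ eL, AN82.comm k x y = true) → x ∈ eL
  trans : ∃ a : Ix, AN82.comm k a u = true ∧ (∃ v ∈ eL, cj k a v = mul k zI v) ∧
    ∀ x ∈ eL, cj k a x = x ∨ cj k a x = mul k zI x
  up : ∀ x : Ix, x ∉ eL → inQ x = true ∨ ∃ a : Ix,
    inQ (mul k (cj k a x) (inv k x)) = true ∧ mul k (cj k a x) (inv k x) ∉ eL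
  orbQ : ∀ y : Ix, inQ y = true → y ∉ eL → ∀ q : Ix, inQ q = true →
    q ∈ eL ∨ ∃ a ∈ ([0, 2, 4] : List Ix), mul k (inv k (cj k a y)) q ∈ eL
  qcomm : ∃ c ∈ ([6, 12, 24] : List Ix), ∃ d ∈ ([12, 48, 54] : List Ix),
    inQ c = true ∧ inQ d = true ∧ AN82.comm k c u = true ∧ AN82.comm k d u = true ∧
      cj k c d = mul k zI d
  odd : ∀ c : Ix, AN82.comm k c u = true → inQ c = true ∨ c.1 % 2 = 1

/-- The plane of `6` in table `0`. -/
def planeA : List Ix := [0, 6, 24, 30, 96, 102, 120, 126]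
/-- The plane of `48` in table `0`. -/
def planeB : List Ix := [0, 12, 48, 60, 96, 108, 144, 156]
/-- The plane of `36` in tables `0` and `2`. -/
def planeC : List Ix := [0, 36, 54, 90, 96, 132, 150, 186]

theorem plane_zero_six : Plane 0 6 planeA := by constructor <;> decide +kernel
theorem plane_zero_fortyeight : Plane 0 48 planeB := by constructor <;> decide +kernel
theorem plane_zero_thirtysix : Plane 0 36 planeC := by constructor <;> decide +kernel
theorem plane_two_thirtysix : Plane 2 36 planeC := by constructor <;> decide +kernel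

/-- Every involution with centralizer of order `32` is conjugate to one of the representatives. -/
theorem reps_zero : ∀ u : Ix, u = 0 ∨ u = zI ∨ mul 0 u u ≠ 0 ∨
    (Finset.univ.filter fun i => comm 0 i u = true).card ≠ 32 ∨
    ∃ a : Ix, cj 0 a u = 6 ∨ cj 0 a u = 48 ∨ cj 0 a u = 36 := by decide +kernel

/-- Every involution with centralizer of order `32` is conjugate to the representative. -/
theorem reps_two : ∀ u : Ix, u = 0 ∨ u = zI ∨ mul 2 u u ≠ 0 ∨
    (Finset.univ.filter fun i => comm 2 i u = true).card ≠ 32 ∨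
    ∃ a : Ix, cj 2 a u = 36 := by decide +kernel

/-- What is used about the two tables. -/
structure TableFacts (k : Kind) : Prop where
  z_closure : ∀ x : Ix, x = 0 ∨ x = zI ∨ ∃ a : Ix, mul k (cj k a x) (inv k x) = zI ∨
    ∃ b ∈ ([6, 12, 24, 48] : List Ix),
      mul k (cj k b (mul k (cj k a x) (inv k x))) (inv k (mul k (cj k a x) (inv k x))) = zI
  cent_q : ∀ x : Ix, (∀ q : Ix, inQ q = true → comm k x q = true) → x = 0 ∨ x = zI
  der_q : ∀ c : Ix, inQ c = true → ∀ d : Ix, inQ d = true → cj k c d = d ∨ cj k c d = mul k zI d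
  odd_orbit : ∀ c : Ix, c.1 % 2 = 1 → ∀ r ∈ ([1, 3, 5] : List Nat),
    ∃ a ∈ ([0, 2, 4] : List Ix), (cj k a c).1 % 6 = r
  coset : ∀ x : Ix, inQ (mul k (inv k (ix (x.1 % 6))) x) = true
  even_odd : ∀ x : Ix, x.1 % 2 = 1 ∨ (mul k x 1).1 % 2 = 1
  not_comm : ∃ a ∈ ([1] : List Ix), ∃ b ∈ ([2] : List Ix), comm k a b = false

theorem facts_zero : TableFacts 0 := by constructor <;> decide +kernel
theorem facts_two : TableFacts 2 := by constructor <;> decide +kernel

end Cfsg.Agent.AN46Simple
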