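import Cfsg.Agent.Lib.AN82Swap
import Cfsg.Agent.Lib.AN46Facts
import Cfsg.Agent.Lib.PSLCard

/-!
# S3344: normal subgroup of order eight, or simplicity

If the central involution is conjugate to an involution `u` of the extraspecial subgroup with common
centralizer of order `32`, then either the plane of `u` is normal with quotient `PSL(3,2)`, or the group is
simple.
-/

set_option autoImplicit false
set_option maxRecDepth 100000

namespace Cfsg.Agent.AN46Simple

open Cfsg.Agent.AN82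

variable {G : Type*} [Group G]

section basics

variable {k : Kind} (F : Frame k G) {K : Subgroup G}

theorem f_mul_mem {a b : Ix} (ha : F.f a ∈ K) (hb : F.f b ∈ K) : F.f (mul k a b) ∈ K := by
  rw [F.map_mul]; exact K.mul_mem ha hb

theorem f_inv_mem {a : Ix} (ha : F.f a ∈ K) : F.f (inv k a) ∈ K := by
  rw [F.map_inv]; exact K.inv_mem ha

theorem f_cj_mem (hK : K.Normal) (a : Ix) {x : Ix} (hx : F.f x ∈ K) : F.f (cj k a x) ∈ K := by
  rw [F.map_cj]; exact hK.conj_mem _ hx _

/-- Membership of a right factor. -/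
theorem f_mem_of_mul {a b : Ix} (ha : F.f a ∈ K) (hab : F.f (mul k a b) ∈ K) : F.f b ∈ K := by
  rw [F.map_mul] at hab; exact (K.mul_mem_cancel_left ha).1 hab

end basics

variable [Finite G]

/-- An involution with trivial centralizer in a normal subgroup inverts it. -/
theorem inverts {K : Subgroup G} (hK : K.Normal) {w : G} (hw : w * w = 1)
    (hfree : ∀ n ∈ K, n * w = w * n → n = 1) {n : G} (hn : n ∈ K) : w * n * w⁻¹ = n⁻¹ := by
  let φ : K → K := fun m =>
    ⟨(m : G)⁻¹ * (w * m * w⁻¹), K.mul_mem (K.inv_mem m.2) (hK.conj_mem _ m.2 _)⟩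
  have hwi : w⁻¹ = w := inv_eq_of_mul_eq_one_right hw
  have hinj : Function.Injective φ := by
    intro a b h
    have h' : (a : G)⁻¹ * (w * a * w⁻¹) = (b : G)⁻¹ * (w * b * w⁻¹) := congrArg Subtype.val h
    have hc : ((b : G) * (a : G)⁻¹) * w = w * ((b : G) * (a : G)⁻¹) := by
      calc ((b : G) * (a : G)⁻¹) * w
          = (b : G) * ((a : G)⁻¹ * (w * a * w⁻¹)) * w * (a : G)⁻¹ := by group
        _ = (b : G) * ((b : G)⁻¹ * (w * b * w⁻¹)) * w * (a : G)⁻¹ := by rw [h']
        _ = w * ((b : G) * (a : G)⁻¹) := by group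
    exact Subtype.ext (eq_of_mul_inv_eq_one (hfree _ (K.mul_mem b.2 (K.inv_mem a.2)) hc)).symm
  obtain ⟨m, hm⟩ := Finite.surjective_of_injective hinj ⟨n, hn⟩
  have hm' : (m : G)⁻¹ * (w * m * w⁻¹) = n := congrArg Subtype.val hm
  rw [← hm']
  calc w * ((m : G)⁻¹ * (w * m * w⁻¹)) * w⁻¹
      = w * (m : G)⁻¹ * w * (m : G) * (w * w)⁻¹ := by group
    _ = w * (m : G)⁻¹ * w⁻¹ * (m : G) := by rw [hw, hwi]; group
    _ = _ := by group

section frame

variable {k : Kind} (F : Frame k G) {u : Ix} {eL : List Ix}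

theorem z_conj_of_mem (P : Plane k u eL) (hc : IsConj F.z (F.f u)) {x : Ix} (hx : x ∈ eL)
    (hx0 : x ≠ 0) : IsConj F.z (F.f x) := by
  rcases P.orbit x hx with h | rfl | ⟨a, rfl⟩
  · exact absurd h hx0
  · exact IsConj.refl _
  · exact hc.trans (isConj_iff.2 ⟨F.f a, (F.map_cj a u).symm⟩)

include F in
theorem zu_mem (P : Plane k u eL) : mul k zI u ∈ eL ∧ mul k zI u ≠ 0 := by
  refine ⟨P.closed _ P.z_mem _ P.u_mem, fun h => P.u_ne.2 ?_⟩
  apply F.inj
  have h1 : F.z * F.f u = F.z * F.z := by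
    rw [F.z_sq, Frame.z, ← F.map_mul, h, F.map_one]
  exact mul_left_cancel h1

/-- A nontrivial normal subgroup contains the central involution. -/
theorem z_mem_of_normal (P : Plane k u eL) (T : TableFacts k) (hc : IsConj F.z (F.f u))
    {K : Subgroup G} (hK : K.Normal) (hne : K ≠ ⊥) : F.z ∈ K := by
  by_cases hex : ∃ n ∈ K, n ≠ 1 ∧ n * F.z = F.z * n
  · obtain ⟨n, hn, hn1, hnz⟩ := hex
    obtain ⟨i, rfl⟩ := F.exists_of_commute hnz
    rcases T.z_closure i with rfl | rfl | ⟨a, h⟩
    · exact absurd F.map_one hn1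
    · exact hn
    · have hy : F.f (mul k (cj k a i) (inv k i)) ∈ K :=
        f_mul_mem F (f_cj_mem F hK a hn) (f_inv_mem F hn)
      rcases h with h | ⟨b, -, h⟩
      · rwa [h] at hy
      · have := f_mul_mem F (f_cj_mem F hK b hy) (f_inv_mem F hy)
        rwa [h] at this
  · exfalso
    push Not at hex
    have hfz : ∀ n ∈ K, n * F.z = F.z * n → n = 1 := fun n hn h =>
      by_contra fun h1 => hex n hn h1 h
    have hfree : ∀ w, IsConj F.z w → w * w = 1 ∧ ∀ n ∈ K, n * w = w * n → n = 1 := by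
      intro w hw
      obtain ⟨g, rfl⟩ := isConj_iff.1 hw
      refine ⟨by rw [show g * F.z * g⁻¹ * (g * F.z * g⁻¹) = g * (F.z * F.z) * g⁻¹ by group, F.z_sq]
                 group, fun n hn h => ?_⟩
      have h2 : g⁻¹ * n * g = 1 := by
        refine hfz _ (by simpa using hK.conj_mem n hn g⁻¹) ?_
        calc g⁻¹ * n * g * F.z = g⁻¹ * (n * (g * F.z * g⁻¹)) * g := by group
          _ = g⁻¹ * ((g * F.z * g⁻¹) * n) * g := by rw [h]
          _ = _ := by group
      calc n = g * (g⁻¹ * n * g) * g⁻¹ := by group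
        _ = 1 := by rw [h2]; group
    refine hne (Subgroup.eq_bot_iff_forall _ |>.2 fun n hn => ?_)
    obtain ⟨hz1, hz2⟩ := hfree _ (IsConj.refl F.z)
    obtain ⟨hu1, hu2⟩ := hfree _ hc
    obtain ⟨-, hzu2⟩ := hfree _ (z_conj_of_mem F P hc (zu_mem F P).1 (zu_mem F P).2)
    refine hzu2 n hn ?_
    have e1 := inverts hK hu1 hu2 hn
    have e2 := inverts hK hz1 hz2 (K.inv_mem hn)
    rw [inv_inv] at e2
    have e3 : F.f (mul k zI u) * n * (F.f (mul k zI u))⁻¹ = n := by
      rw [F.map_mul]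
      calc F.f zI * F.f u * n * (F.f zI * F.f u)⁻¹
          = F.f zI * (F.f u * n * (F.f u)⁻¹) * (F.f zI)⁻¹ := by group
        _ = n := by rw [e1]; exact e2
    calc n * F.f (mul k zI u)
        = F.f (mul k zI u) * n * (F.f (mul k zI u))⁻¹ * F.f (mul k zI u) := by rw [e3]
      _ = _ := by group

/-- The plane as a subgroup. -/
def planeSub (P : Plane k u eL) : Subgroup G where
  carrier := F.f '' {x | x ∈ eL}
  one_mem' := ⟨0, P.one_mem, F.map_one⟩
  mul_mem' := by
    rintro _ _ ⟨a, ha, rfl⟩ ⟨b, hb, rfl⟩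
    exact ⟨mul k a b, P.closed a ha b hb, F.map_mul a b⟩
  inv_mem' := by
    rintro _ ⟨a, ha, rfl⟩
    exact ⟨a, ha, (inv_eq_of_mul_eq_one_right (F.sq_eq_one_iff.2 (P.sq a ha))).symm⟩

theorem mem_planeSub (P : Plane k u eL) {g : G} :
    g ∈ planeSub F P ↔ ∃ x ∈ eL, F.f x = g := Iff.rfl

theorem card_planeSub (P : Plane k u eL) : Nat.card (planeSub F P) = 8 := by
  rw [← P.card, ← Nat.card_eq_finsetCard]
  refine (Nat.card_congr (Equiv.ofBijective
    (fun x : eL.toFinset => (⟨F.f x, ⟨x, List.mem_toFinset.1 x.2, rfl⟩⟩ : planeSub F P))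
    ⟨fun a b h => Subtype.ext (F.inj (congrArg Subtype.val h)), ?_⟩)).symm
  rintro ⟨_, x, hx, rfl⟩
  exact ⟨⟨x, List.mem_toFinset.2 hx⟩, rfl⟩

theorem planeSub_le (P : Plane k u eL) (hc : IsConj F.z (F.f u)) {N : Subgroup G} (hN : N.Normal)
    (hz : F.z ∈ N) : planeSub F P ≤ N := by
  rintro _ ⟨x, hx, rfl⟩
  by_cases h : x = 0
  · subst h; rw [F.map_one]; exact N.one_mem
  · obtain ⟨g, hg⟩ := isConj_iff.1 (z_conj_of_mem F P hc hx h)
    rw [← hg]; exact hN.conj_mem _ hz _

/-- No element of `N` normalising the plane moves `z` to `u`, if `N` meets the table in the plane. -/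
theorem no_move (P : Plane k u eL) {N : Subgroup G} (hN : N.Normal)
    (hM : ∀ i, F.f i ∈ N → i ∈ eL) {d : G} (hd : d ∈ N)
    (hdn : ∀ x ∈ eL, ∃ y ∈ eL, d * F.f x * d⁻¹ = F.f y) (hdz : d * F.z * d⁻¹ = F.f u) : False := by
  obtain ⟨a, hau, ⟨v, hv, hav⟩, ha⟩ := P.trans
  have hcomm : F.f a * F.f u * (F.f a)⁻¹ = F.f u := by rw [F.commute_iff.2 hau]; group
  set e := d⁻¹ * (F.f a * d * (F.f a)⁻¹) with he
  have heN : e ∈ N := N.mul_mem (N.inv_mem hd) (hN.conj_mem _ hd _)
  have haz : (F.f a)⁻¹ * F.z * F.f a = F.z := by rw [mul_assoc, ← F.z_comm a]; group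
  have hez : e * F.z * e⁻¹ = F.z := by
    calc e * F.z * e⁻¹
        = d⁻¹ * (F.f a * (d * ((F.f a)⁻¹ * F.z * F.f a) * d⁻¹) * (F.f a)⁻¹) * d := by
          rw [he]; group
      _ = d⁻¹ * (d * F.z * d⁻¹) * d := by rw [haz, hdz, hcomm, ← hdz]
      _ = F.z := by group
  obtain ⟨i, hi⟩ := F.exists_of_commute (mul_inv_eq_iff_eq_mul.1 hez)
  have hiE : i ∈ eL := hM i (hi ▸ heN)
  obtain ⟨v', hv', hdv⟩ := hdn v hv
  have hkey : F.f (cj k a v') = F.f u * F.f v' := by
    rw [F.map_cj, ← hdv]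
    have hev : e * F.f (cj k a v) * e⁻¹ = F.f (cj k a v) := by
      rw [← hi, F.commute_iff.2 (P.comm i hiE _ (P.conj_mem a v hv))]; group
    calc F.f a * (d * F.f v * d⁻¹) * (F.f a)⁻¹
        = (F.f a * d * (F.f a)⁻¹) * (F.f a * F.f v * (F.f a)⁻¹) * (F.f a * d * (F.f a)⁻¹)⁻¹ := by
          group
      _ = (d * e) * (F.f a * F.f v * (F.f a)⁻¹) * (d * e)⁻¹ := by rw [he]; group
      _ = d * (e * F.f (cj k a v) * e⁻¹) * d⁻¹ := by rw [← F.map_cj]; group
      _ = d * (F.z * F.f v) * d⁻¹ := by rw [hev, hav, F.map_mul]; rfl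
      _ = (d * F.z * d⁻¹) * (d * F.f v * d⁻¹) := by group
      _ = _ := by rw [hdz]
  rcases ha v' hv' with h | h
  · rw [h] at hkey
    exact P.u_ne.1 (F.eq_one_iff.1 (mul_eq_right.1 hkey.symm))
  · rw [h, F.map_mul] at hkey
    exact P.u_ne.2 (F.inj (mul_right_cancel hkey).symm)

/-- An element of `N` normalising the plane lies in it, if `N` meets the table in the plane. -/
theorem normalizer_plane (P : Plane k u eL) {N : Subgroup G} (hN : N.Normal)
    (hM : ∀ i, F.f i ∈ N → i ∈ eL) {d : G} (hd : d ∈ N)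
    (hdn : ∀ x ∈ eL, ∃ y ∈ eL, d * F.f x * d⁻¹ = F.f y) : d ∈ planeSub F P := by
  obtain ⟨x, hx, hdx⟩ := hdn zI P.z_mem
  rcases P.orbit x hx with rfl | rfl | ⟨l, rfl⟩
  · exfalso
    rw [F.map_one] at hdx
    exact F.z_ne_one (mul_eq_left.1 (mul_inv_eq_one.1 hdx))
  · obtain ⟨i, rfl⟩ := F.exists_of_commute (mul_inv_eq_iff_eq_mul.1 hdx)
    exact ⟨i, hM i hd, rfl⟩
  · exfalso
    refine no_move F P hN hM (d := (F.f l)⁻¹ * d * F.f l) ?_ ?_ ?_
    · simpa using hN.conj_mem d hd (F.f l)⁻¹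
    · intro y hy
      obtain ⟨y', hy', he⟩ := hdn _ (P.conj_mem l y hy)
      refine ⟨_, P.conj_mem (inv k l) y' hy', ?_⟩
      rw [F.map_cj, F.map_inv, ← he, F.map_cj]; group
    · have hlz : F.f l * F.z * (F.f l)⁻¹ = F.z := by rw [F.z_comm l]; group
      calc (F.f l)⁻¹ * d * F.f l * F.z * ((F.f l)⁻¹ * d * F.f l)⁻¹
          = (F.f l)⁻¹ * (d * (F.f l * F.z * (F.f l)⁻¹) * d⁻¹) * F.f l := by group
        _ = (F.f l)⁻¹ * F.f (cj k l u) * F.f l := by rw [hlz, ← hdx]; rfl
        _ = _ := by rw [F.map_cj]; group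

/-- If `N` meets the table in the plane then it is the plane. -/
theorem eq_planeSub (P : Plane k u eL) (T : TableFacts k) (hc : IsConj F.z (F.f u)) {N : Subgroup G}
    (hN : N.Normal) (hEN : planeSub F P ≤ N) (hM : ∀ i, F.f i ∈ N → i ∈ eL) :
    N = planeSub F P := by
  classical
  haveI : Fact (Nat.Prime 2) := ⟨Nat.prime_two⟩
  haveI := hN
  set E' := (planeSub F P).subgroupOf N with hE'
  have hcard : Nat.card E' = 8 := by
    rw [Nat.card_congr (Subgroup.subgroupOfEquivOfLe hEN).toEquiv, card_planeSub]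
  have hnorm : Subgroup.normalizer (E' : Set N) ≤ E' := by
    intro d hd
    refine normalizer_plane F P hN hM d.2 fun x hx => ?_
    have hmem : (⟨F.f x, hEN ⟨x, hx, rfl⟩⟩ : N) ∈ E' := ⟨x, hx, rfl⟩
    obtain ⟨y, hy, he⟩ := (Subgroup.mem_normalizer_iff.1 hd _).1 hmem
    exact ⟨y, hy, by simpa using he.symm⟩
  have h16 : ¬ 2 ^ 4 ∣ Nat.card N := fun h => by
    obtain ⟨K, hK, hle⟩ := Sylow.exists_subgroup_card_pow_succ (p := 2) (n := 3) h
      (by rw [hcard]; norm_num)
    have hd : Nat.card K = 16 := by rw [hK]; norm_num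
    have : K ≤ E' := by
      refine le_trans ?_ hnorm
      have hidx : (E'.subgroupOf K).index = 2 := by
        have h1 := (E'.subgroupOf K).card_mul_index
        rw [Nat.card_congr (Subgroup.subgroupOfEquivOfLe hle).toEquiv, hcard, hd] at h1
        omega
      haveI := Subgroup.normal_of_index_eq_two hidx
      exact (Subgroup.normal_subgroupOf_iff_le_normalizer hle).1 inferInstance
    have := Subgroup.card_le_of_le this
    omega
  have hfac : (Nat.card N).factorization 2 = 3 := by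
    have h8 : 2 ^ 3 ∣ Nat.card N := by
      rw [show (2 : ℕ) ^ 3 = Nat.card E' by rw [hcard]; norm_num]
      exact Subgroup.card_subgroup_dvd_card _
    have a := (Nat.prime_two.pow_dvd_iff_le_factorization (Nat.card_pos (α := N)).ne').1 h8
    have b : ¬ 4 ≤ (Nat.card N).factorization 2 := fun hb =>
      h16 ((Nat.prime_two.pow_dvd_iff_le_factorization (Nat.card_pos (α := N)).ne').2 hb)
    omega
  let S : Sylow 2 N := Sylow.ofCard E' (by rw [hcard, hfac]; norm_num)
  have hS : (S : Subgroup N) = E' := rfl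
  have hNC : Subgroup.normalizer ((S : Subgroup N) : Set N) ≤
      Subgroup.centralizer ((S : Subgroup N) : Set N) := by
    rw [hS]
    refine hnorm.trans fun d hd => Subgroup.mem_centralizer_iff.2 fun e he => Subtype.ext ?_
    obtain ⟨x, hx, hxd⟩ := hd
    obtain ⟨y, hy, hye⟩ := he
    rw [Subgroup.coe_mul, Subgroup.coe_mul]
    show (e : G) * d = d * e
    rw [← show F.f x = (d : G) from hxd, ← show F.f y = (e : G) from hye]
    exact F.commute_iff.2 (P.comm y hy x hx)
  set τ := MonoidHom.transferSylow S hNC with hτ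
  have hcompl := MonoidHom.ker_transferSylow_isComplement' S hNC
  have hodd : ∀ n : N, n ∈ τ.ker ↔ Odd (orderOf n) := by
    intro n
    constructor
    · intro hn
      have h1 : orderOf n ∣ Nat.card τ.ker := Subgroup.orderOf_dvd_natCard _ hn
      rw [← Nat.not_even_iff_odd, even_iff_two_dvd]
      exact fun h2 => MonoidHom.not_dvd_card_ker_transferSylow S hNC (h2.trans h1)
    · intro hn
      rw [MonoidHom.mem_ker, ← orderOf_eq_one_iff]
      have h1 : orderOf (τ n) ∣ orderOf n := orderOf_map_dvd τ n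
      have h2 : orderOf (τ n) ∣ 2 ^ 3 := by
        rw [show (2 : ℕ) ^ 3 = Nat.card (S : Subgroup N) by rw [hS, hcard]; norm_num]
        exact orderOf_dvd_natCard _
      obtain ⟨j, -, hj⟩ := (Nat.dvd_prime_pow Nat.prime_two).1 h2
      rcases j with - | j
      · simpa using hj
      · exfalso
        have : (2 : ℕ) ∣ orderOf n := (Dvd.intro_left _ (pow_succ 2 j).symm |>.trans hj.symm.dvd).trans h1
        exact (Nat.not_even_iff_odd.2 hn) (even_iff_two_dvd.2 this)
  have hnor : (τ.ker.map N.subtype).Normal := by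
    constructor
    rintro _ ⟨n, hn, rfl⟩ g
    refine ⟨⟨g * n * g⁻¹, hN.conj_mem _ n.2 _⟩, (hodd _).2 ?_, rfl⟩
    have ho := (hodd n).1 hn
    rw [← Subgroup.orderOf_coe] at ho ⊢
    rw [← MulEquiv.orderOf_eq (MulAut.conj g) (n : G)] at ho
    exact ho
  have hbot : τ.ker = ⊥ := by
    by_contra hne
    have hne' : τ.ker.map N.subtype ≠ ⊥ := by
      rwa [Ne, Subgroup.map_eq_bot_iff_of_injective _ N.subtype_injective]
    obtain ⟨n, hn, hnz⟩ := z_mem_of_normal F P T hc hnor hne'
    have ho := (hodd n).1 hn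
    rw [← Subgroup.orderOf_coe, show (n : G) = F.z from hnz] at ho
    rw [orderOf_eq_prime (p := 2) (by rw [pow_two]; exact F.z_sq) F.z_ne_one] at ho
    exact absurd ho (by decide)
  have htop : (S : Subgroup N) = ⊤ := by
    rw [hbot] at hcompl
    exact Subgroup.isComplement'_bot_left.1 hcompl
  refine le_antisymm (fun g hg => ?_) hEN
  have : (⟨g, hg⟩ : N) ∈ E' := hS ▸ htop.symm ▸ Subgroup.mem_top _
  exact this

theorem q_facts : ∀ j : Kind, (∀ a : Ix, inQ a = true → ∀ b : Ix, inQ b = true →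
    inQ (mul j a b) = true) ∧ (∀ a : Ix, inQ a = true → inQ (inv j a) = true) := by
  decide +kernel

theorem q_count : (Finset.univ.filter fun a : Ix => inQ a = true).card = 32 := by decide +kernel

/-- The extraspecial subgroup of the table. -/
def qSub : Subgroup G where
  carrier := F.f '' {q | inQ q = true}
  one_mem' := ⟨0, rfl, F.map_one⟩
  mul_mem' := by
    rintro _ _ ⟨a, ha, rfl⟩ ⟨b, hb, rfl⟩
    exact ⟨mul k a b, (q_facts k).1 a ha b hb, F.map_mul a b⟩
  inv_mem' := by
    rintro _ ⟨a, ha, rfl⟩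
    exact ⟨inv k a, (q_facts k).2 a ha, F.map_inv a⟩

theorem card_qSub : Nat.card (qSub F) = 32 := by
  rw [← q_count, ← Nat.card_eq_finsetCard]
  refine (Nat.card_congr (Equiv.ofBijective
    (fun x : (Finset.univ.filter fun a : Ix => inQ a = true) =>
      (⟨F.f x, ⟨x, (Finset.mem_filter.1 x.2).2, rfl⟩⟩ : qSub F))
    ⟨fun a b h => Subtype.ext (F.inj (congrArg Subtype.val h)), ?_⟩)).symm
  rintro ⟨_, x, hx, rfl⟩
  exact ⟨⟨x, Finset.mem_filter.2 ⟨Finset.mem_univ x, hx⟩⟩, rfl⟩

/-- If `N` meets the table in more than the plane then it is everything. -/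
theorem eq_top_of_big (P : Plane k u eL) (T : TableFacts k) (hc : IsConj F.z (F.f u))
    (h32 : cnum k u = 32) {N : Subgroup G} (hN : N.Normal) (hEN : planeSub F P ≤ N) {x : Ix}
    (hx : F.f x ∈ N) (hxE : x ∉ eL) : N = ⊤ := by
  classical
  haveI : Fact (Nat.Prime 2) := ⟨Nat.prime_two⟩
  haveI := hN
  obtain ⟨y, hy, hyQ, hyE⟩ : ∃ y, F.f y ∈ N ∧ inQ y = true ∧ y ∉ eL := by
    rcases P.up x hxE with h | ⟨a, h, h'⟩
    · exact ⟨x, hx, h, hxE⟩
    · exact ⟨_, f_mul_mem F (f_cj_mem F hN a hx) (f_inv_mem F hx), h, h'⟩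
  have hQ : ∀ q, inQ q = true → F.f q ∈ N := by
    intro q hq
    rcases P.orbQ y hyQ hyE q hq with h | ⟨a, -, h⟩
    · exact hEN ⟨q, h, rfl⟩
    · exact f_mem_of_mul F (f_inv_mem F (f_cj_mem F hN a hy)) (hEN ⟨_, h, rfl⟩)
  -- the table is contained in `N`
  have hL : ∀ i, F.f i ∈ N := by
    by_contra hcon
    have hnoR : ∀ c, comm k c u = true → F.f c ∈ N → inQ c = true := by
      intro c hcu hcN
      by_contra hcQ
      have hodd : c.1 % 2 = 1 := (P.odd c hcu).resolve_left hcQ
      have hallodd : ∀ i : Ix, i.1 % 2 = 1 → F.f i ∈ N := by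
        intro i hi
        obtain ⟨a, -, h⟩ := T.odd_orbit c hodd (i.1 % 6) (by simp only [List.mem_cons, List.not_mem_nil, or_false]; omega)
        -- both lie in the coset of the representative `i % 6`
        have h1 := T.coset (cj k a c)
        rw [h] at h1
        have h2 := hQ _ h1
        rw [F.map_mul, F.map_inv] at h2
        have hrep : F.f (ix (i.1 % 6)) ∈ N :=
          inv_mem_iff.1 ((N.mul_mem_cancel_right (f_cj_mem F hN a hcN)).1 h2)
        exact f_mem_of_mul F (f_inv_mem F hrep) (hQ _ (T.coset i))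
      refine hcon fun i => ?_
      rcases T.even_odd i with h | h
      · exact hallodd i h
      · have h' := hallodd _ h
        rw [F.map_mul] at h'
        exact (N.mul_mem_cancel_right (hallodd 1 rfl)).1 h'
    obtain ⟨g, hg⟩ := isConj_iff.1 hc
    have hu2 : mul k u u = 0 := P.sq u P.u_mem
    obtain ⟨-, ⟨a, ha, hau⟩, -, -⟩ := big_class_facts k u hu2 P.u_ne.1 P.u_ne.2 h32
    obtain ⟨q, hq, hhz, -, hT⟩ := F.exists_cycle P.u_ne.2 h32 hg hau
    set h := F.f a * (g * F.f q * g⁻¹) with hdef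
    have hhN : h ∈ N := N.mul_mem (hQ a ha) (hN.conj_mem _ (hQ q hq) _)
    obtain ⟨c, -, d, -, hcQ, hdQ, hcu, hdu, hcd⟩ := P.qcomm
    obtain ⟨c', hc'u, hc'⟩ := hT c hcu
    obtain ⟨d', hd'u, hd'⟩ := hT d hdu
    have hc'N : F.f c' ∈ N := by
      rw [← hc']; exact N.mul_mem (N.mul_mem hhN (hQ c hcQ)) (N.inv_mem hhN)
    have hd'N : F.f d' ∈ N := by
      rw [← hd']; exact N.mul_mem (N.mul_mem hhN (hQ d hdQ)) (N.inv_mem hhN)
    have hkey : F.f (cj k c' d') = F.f u * F.f d' := by
      calc F.f (cj k c' d') = F.f c' * F.f d' * (F.f c')⁻¹ := F.map_cj c' d'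
        _ = h * (F.f c * F.f d * (F.f c)⁻¹) * h⁻¹ := by rw [← hc', ← hd']; group
        _ = h * (F.z * F.f d) * h⁻¹ := by rw [← F.map_cj, hcd, F.map_mul]; rfl
        _ = (h * F.z * h⁻¹) * (h * F.f d * h⁻¹) := by group
        _ = _ := by rw [hhz, hd']
    rcases T.der_q c' (hnoR c' hc'u hc'N) d' (hnoR d' hd'u hd'N) with e | e
    · rw [e] at hkey
      exact P.u_ne.1 (F.eq_one_iff.1 (mul_eq_right.1 hkey.symm))
    · rw [e, F.map_mul] at hkey
      exact P.u_ne.2 (F.inj (mul_right_cancel hkey).symm)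
  -- Frattini
  have hcardQ : Nat.card (qSub F) = 32 := card_qSub F
  have hQp : IsPGroup 2 ((qSub F).subgroupOf N) := by
    refine IsPGroup.of_card (n := 5) ?_
    have hle : qSub F ≤ N := by
      rintro _ ⟨q, hq, rfl⟩; exact hQ q hq
    rw [Nat.card_congr (Subgroup.subgroupOfEquivOfLe hle).toEquiv, hcardQ]; norm_num
  obtain ⟨S, hS⟩ := hQp.exists_le_sylow
  have hQS : ∀ q, inQ q = true → ∃ n ∈ (S : Subgroup N), (n : G) = F.f q := fun q hq =>
    ⟨⟨F.f q, hQ q hq⟩, hS ⟨q, hq, rfl⟩, rfl⟩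
  -- the centre of `S` is generated by the involution
  have hcen : ∀ n ∈ (S : Subgroup N), (∀ m ∈ (S : Subgroup N), n * m = m * n) →
      (n : G) = 1 ∨ (n : G) = F.z := by
    intro n _ hn
    have hcq : ∀ q, inQ q = true → (n : G) * F.f q = F.f q * n := by
      intro q hq
      obtain ⟨m, hm, he⟩ := hQS q hq
      rw [← he]
      exact congrArg Subtype.val (hn m hm)
    obtain ⟨i, hi⟩ := F.exists_of_commute (hcq zI rfl)
    rcases T.cent_q i (fun q hq => F.commute_iff.1 (by rw [hi]; exact hcq q hq)) with rfl | rfl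
    · exact Or.inl (hi.symm.trans F.map_one)
    · exact Or.inr hi.symm
  obtain ⟨zS, hzS, hzS'⟩ : ∃ n ∈ (S : Subgroup N),
      (n : G) = F.z ∧ ∀ m ∈ (S : Subgroup N), n * m = m * n := by
    have hne : Nontrivial (S : Subgroup N) := by
      obtain ⟨m, hm, he⟩ := hQS zI rfl
      refine ⟨⟨⟨m, hm⟩, 1, fun h => F.z_ne_one ?_⟩⟩
      have h2 := congrArg (fun v : (S : Subgroup N) => ((v : N) : G)) h
      exact he.symm.trans h2
    haveI := hne
    haveI := S.isPGroup'.center_nontrivial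
    obtain ⟨⟨⟨c, hcS⟩, hc'⟩, hc1⟩ := exists_ne (1 : Subgroup.center (S : Subgroup N))
    have hcomm : ∀ m ∈ (S : Subgroup N), c * m = m * c := fun m hm =>
      congrArg Subtype.val ((Subgroup.mem_center_iff.1 hc' ⟨m, hm⟩).symm)
    rcases hcen c hcS hcomm with h | h
    · exact absurd (Subtype.ext (Subtype.ext (Subtype.ext h))) hc1
    · exact ⟨c, hcS, h, hcomm⟩
  rw [eq_top_iff, ← Sylow.normalizer_sup_eq_top S]
  refine sup_le (fun g hg => ?_) le_rfl
  obtain ⟨hzeq, hzcomm⟩ := hzS'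
  obtain ⟨n', hn'S, hn'⟩ : ∃ n' ∈ (S : Subgroup N), (n' : G) = g * F.z * g⁻¹ := by
    obtain ⟨n', h1, h2⟩ := (Subgroup.mem_normalizer_iff.1 hg _).1 ⟨zS, hzS, hzeq⟩
    exact ⟨n', h1, h2⟩
  have hn'c : ∀ m ∈ (S : Subgroup N), n' * m = m * n' := by
    intro m hm
    obtain ⟨m₀, hm₀, he⟩ := (Subgroup.mem_normalizer_iff.1 hg (g⁻¹ * (m : G) * g)).2
      ⟨m, hm, by simp [mul_assoc]⟩
    have e := congrArg Subtype.val (hzcomm m₀ hm₀)
    rw [Subgroup.coe_mul, Subgroup.coe_mul, hzeq, show (m₀ : G) = g⁻¹ * m * g from he] at e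
    refine Subtype.ext ?_
    rw [Subgroup.coe_mul, Subgroup.coe_mul, hn']
    calc g * F.z * g⁻¹ * m = g * (F.z * (g⁻¹ * m * g)) * g⁻¹ := by group
      _ = g * (g⁻¹ * m * g * F.z) * g⁻¹ := by rw [e]
      _ = _ := by group
  rcases hcen n' hn'S hn'c with h | h
  · exfalso
    rw [hn'] at h
    exact F.z_ne_one (mul_eq_left.1 (mul_inv_eq_one.1 h))
  · rw [hn'] at h
    obtain ⟨i, rfl⟩ := F.exists_of_commute (mul_inv_eq_iff_eq_mul.1 h)
    exact hL i

theorem eq_one_of_ne_zero : ∀ c : ZMod 2, c ≠ 0 → c = 1 := by decide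

/-- An elementary abelian self-centralizing normal subgroup of order eight in a group of order `1344`
has quotient `PSL(3,2)`. -/
theorem quotient_iso {N : Subgroup G} [N.Normal] (hab : IsMulCommutative N)
    (hsq : ∀ n ∈ N, n ^ 2 = 1) (hcard : Nat.card N = 8) (hG : Nat.card G = 1344)
    (hcent : Subgroup.centralizer (N : Set G) ≤ N) :
    Nonempty (G ⧸ N ≃* Matrix.ProjectiveSpecialLinearGroup (Fin 3) (ZMod 2)) := by
  classical
  haveI : Fact (Nat.Prime 2) := ⟨Nat.prime_two⟩
  letI : CommGroup N := { (inferInstance : Group N) with mul_comm := hab.is_comm.comm }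
  letI : Module (ZMod 2) (Additive N) := AddCommGroup.zmodModule (n := 2) fun v => by
    apply Additive.toMul.injective
    rw [toMul_nsmul, toMul_zero]
    exact Subtype.ext (hsq _ v.toMul.2)
  have hrank : Module.finrank (ZMod 2) (Additive N) = 3 := by
    have := Module.natCard_eq_pow_finrank (K := ZMod 2) (V := Additive N)
    rw [Nat.card_zmod, Nat.card_congr Additive.toMul, hcard] at this
    exact (Nat.pow_right_injective (le_refl 2) (this.symm.trans (by norm_num : (8 : ℕ) = 2 ^ 3)))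
  let b := (Module.finBasisOfFinrankEq (ZMod 2) (Additive N) hrank)
  let cjA : G → (Additive N →ₗ[ZMod 2] Additive N) := fun g =>
    (AddMonoidHom.mk' (fun v => Additive.ofMul (MulAut.conjNormal g v.toMul)) fun v w => by
      rw [toMul_add, _root_.map_mul, ofMul_mul]).toZModLinearMap 2
  have hcj : ∀ g v, cjA g v = Additive.ofMul (MulAut.conjNormal g (Additive.toMul v)) := fun _ _ => rfl
  let ρ : G →* (Additive N →ₗ[ZMod 2] Additive N) :=
    { toFun := cjA
      map_one' := LinearMap.ext fun v => by rw [hcj, _root_.map_one]; rfl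
      map_mul' := fun g g' => LinearMap.ext fun v => by
        rw [hcj, _root_.map_mul, Module.End.mul_apply, hcj, hcj]; rfl }
  let ρu : G →* LinearMap.GeneralLinearGroup (ZMod 2) (Additive N) := ρ.toHomUnits
  let φ : G →* GL (Fin 3) (ZMod 2) :=
    (Units.map (LinearMap.toMatrixAlgEquiv b).toMonoidHom).comp ρu
  have hker : φ.ker = N := by
    ext g
    constructor
    · intro h
      refine hcent (Subgroup.mem_centralizer_iff.2 fun n hn => ?_)
      have h1 : LinearMap.toMatrixAlgEquiv b (cjA g) = 1 := congrArg Units.val (MonoidHom.mem_ker.1 h)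
      have h2 : cjA g = 1 := (LinearMap.toMatrixAlgEquiv b).injective (h1.trans (_root_.map_one _).symm)
      have h3 : g * n * g⁻¹ = n := congrArg (fun v : Additive N => ((Additive.toMul v : N) : G))
        (LinearMap.congr_fun h2 (Additive.ofMul (⟨n, hn⟩ : N)))
      exact (mul_inv_eq_iff_eq_mul.1 h3).symm
    · intro h
      refine MonoidHom.mem_ker.2 (Units.ext ?_)
      show LinearMap.toMatrixAlgEquiv b (cjA g) = 1
      rw [show cjA g = 1 from LinearMap.ext fun v => ?_, _root_.map_one]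
      rw [hcj, Module.End.one_apply]
      refine congrArg Additive.ofMul (Subtype.ext ?_)
      have : g * (Additive.toMul v : N) = (Additive.toMul v : N) * g :=
        congrArg Subtype.val (hab.is_comm.comm ⟨g, h⟩ (Additive.toMul v))
      rw [MulAut.conjNormal_apply]
      exact mul_inv_eq_iff_eq_mul.2 this
  have hidx : Nat.card (G ⧸ N) = 168 := by
    have := Subgroup.card_eq_card_quotient_mul_card_subgroup N
    rw [hG, hcard] at this
    omega
  have hSL : Nat.card (Matrix.SpecialLinearGroup (Fin 3) (ZMod 2)) = 168 := by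
    have h := PSLCard.card_SL (F := ZMod 2) 3
    rw [Nat.card_zmod] at h
    simpa [Fin.prod_univ_three] using h
  have htoGL : Function.Bijective
      (Matrix.SpecialLinearGroup.toGL : Matrix.SpecialLinearGroup (Fin 3) (ZMod 2) →* _) := by
    refine ⟨Matrix.SpecialLinearGroup.toGL_injective, fun g => ⟨⟨g.1, ?_⟩, Units.ext rfl⟩⟩
    exact eq_one_of_ne_zero _
      (Matrix.det_ne_zero_of_left_inverse (B := g⁻¹.1) (by simp))
  let eGL := MulEquiv.ofBijective _ htoGL
  have hbij : Function.Bijective (QuotientGroup.kerLift φ) := by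
    refine (Nat.bijective_iff_injective_and_card _).2 ⟨QuotientGroup.kerLift_injective φ, ?_⟩
    rw [Nat.card_congr (QuotientGroup.quotientMulEquivOfEq hker).toEquiv, hidx,
      ← Nat.card_congr eGL.toEquiv, hSL]
  have hcen : Subgroup.center (Matrix.SpecialLinearGroup (Fin 3) (ZMod 2)) = ⊥ := by
    rw [← Subgroup.card_eq_one, PSLCard.card_center_SL, Nat.card_zmod]; rfl
  exact ⟨((QuotientGroup.quotientMulEquivOfEq hker.symm).trans (MulEquiv.ofBijective _ hbij)).trans
    (eGL.symm.trans (QuotientGroup.quotientBot.symm.trans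
      (QuotientGroup.quotientMulEquivOfEq hcen.symm)))⟩

/-- The two cases for a given plane. -/
theorem of_plane (P : Plane k u eL) (T : TableFacts k) (hc : IsConj F.z (F.f u))
    (h32 : cnum k u = 32) :
    (∃ (N : Subgroup G) (hN : N.Normal), IsMulCommutative N ∧ (∀ n ∈ N, n ^ 2 = 1) ∧
        Nat.card N = 8 ∧
        Nonempty (G ⧸ N ≃* Matrix.ProjectiveSpecialLinearGroup (Fin 3) (ZMod 2))) ∨
      (IsSimpleGroup G ∧ ¬ IsMulCommutative G) := by
  classical
  set N := Subgroup.normalClosure ({F.z} : Set G) with hNdef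
  have hN : N.Normal := Subgroup.normalClosure_normal
  have hzN : F.z ∈ N := Subgroup.subset_normalClosure rfl
  have hEN : planeSub F P ≤ N := planeSub_le F P hc hN hzN
  by_cases hbig : ∃ x, F.f x ∈ N ∧ x ∉ eL
  · obtain ⟨x, hx, hxE⟩ := hbig
    have htop := eq_top_of_big F P T hc h32 hN hEN hx hxE
    refine Or.inr ⟨?_, fun hab => ?_⟩
    · haveI : Nontrivial G := ⟨⟨F.z, 1, F.z_ne_one⟩⟩
      refine ⟨fun K hK => or_iff_not_imp_left.2 fun hne => ?_⟩
      rw [eq_top_iff, ← htop]
      refine @Subgroup.normalClosure_le_normal _ _ _ _ hK ?_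
      exact Set.singleton_subset_iff.2 (z_mem_of_normal F P T hc hK hne)
    · obtain ⟨a, -, b, -, hab'⟩ := T.not_comm
      rw [F.commute_iff.1 (hab.is_comm.comm (F.f a) (F.f b))] at hab'
      exact Bool.noConfusion hab'
  · push Not at hbig
    have hNE := eq_planeSub F P T hc hN hEN hbig
    have hab : IsMulCommutative (planeSub F P) := by
      refine ⟨⟨?_⟩⟩
      rintro ⟨_, x, hx, rfl⟩ ⟨_, y, hy, rfl⟩
      exact Subtype.ext (F.commute_iff.2 (P.comm x hx y hy))
    have hsq : ∀ n ∈ planeSub F P, n ^ 2 = 1 := by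
      rintro _ ⟨x, hx, rfl⟩
      rw [pow_two]
      exact F.sq_eq_one_iff.2 (P.sq x hx)
    have hcent : Subgroup.centralizer (planeSub F P : Set G) ≤ planeSub F P := by
      intro g hg
      have hg' : ∀ y ∈ eL, F.f y * g = g * F.f y := fun y hy =>
        Subgroup.mem_centralizer_iff.1 hg _ ⟨y, hy, rfl⟩
      obtain ⟨i, rfl⟩ := F.exists_of_commute (hg' zI P.z_mem).symm
      exact ⟨i, P.cent i fun y hy => F.commute_iff.1 (hg' y hy).symm, rfl⟩
    haveI : (planeSub F P).Normal := hNE ▸ hN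
    refine Or.inl ⟨planeSub F P, inferInstance, hab, hsq, card_planeSub F P,
      quotient_iso hab hsq (card_planeSub F P) ?_ hcent⟩
    -- the conjugates of `z` are the seven nontrivial members of the plane
    have horb : MulAction.orbit (ConjAct G) F.z = (planeSub F P : Set G) \ {1} := by
      ext g
      rw [ConjAct.mem_orbit_conjAct]
      constructor
      · intro hg
        obtain ⟨c, hc'⟩ := isConj_iff.1 hg.symm
        refine ⟨hc' ▸ hNE ▸ hN.conj_mem _ hzN c, fun h1 => F.z_ne_one ?_⟩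
        rw [Set.mem_singleton_iff] at h1
        rw [h1] at hc'
        exact mul_eq_left.1 (mul_inv_eq_one.1 hc')
      · rintro ⟨⟨x, hx, rfl⟩, h1⟩
        refine (z_conj_of_mem F P hc hx fun h0 => h1 ?_).symm
        rw [h0, F.map_one]; rfl
    have hst : Nat.card (MulAction.stabilizer (ConjAct G) F.z) = 192 := by
      rw [← F.card_L]
      exact Nat.card_congr ((ConjAct.ofConjAct.toEquiv).subtypeEquiv fun g => by
        rw [MulAction.mem_stabilizer_iff, ConjAct.smul_def, Frame.L,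
          Subgroup.mem_centralizer_singleton_iff]
        exact mul_inv_eq_iff_eq_mul)
    have h7 : Nat.card (MulAction.orbit (ConjAct G) F.z) = 7 := by
      rw [horb, Nat.card_coe_set_eq,
        Set.ncard_sdiff_singleton_of_mem (planeSub F P).one_mem, ← Nat.card_coe_set_eq]
      show Nat.card (planeSub F P) - 1 = 7
      rw [card_planeSub]
    have := (MulAction.stabilizer (ConjAct G) F.z).index_mul_card
    rw [MulAction.index_stabilizer, ← Nat.card_coe_set_eq, h7, hst] at this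
    rw [← Nat.card_congr (ConjAct.ofConjAct (G := G)).toEquiv]
    exact this.symm

end frame

/-- If the central involution is fused to an involution of the extraspecial subgroup with common
centralizer of order `32`, then there is a normal subgroup of order eight with quotient `PSL(3,2)`
or the group is simple. -/
theorem normal_eight_or_simple {k : Kind} (hk : k = 0 ∨ k = 2) (F : Frame k G) (u : Ix)
    (hu : u ≠ zI) (h32 : cnum k u = 32) (hc : IsConj F.z (F.f u)) :
    (∃ (N : Subgroup G) (hN : N.Normal), IsMulCommutative N ∧ (∀ n ∈ N, n ^ 2 = 1) ∧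
        Nat.card N = 8 ∧
        Nonempty (G ⧸ N ≃* Matrix.ProjectiveSpecialLinearGroup (Fin 3) (ZMod 2))) ∨
      (IsSimpleGroup G ∧ ¬ IsMulCommutative G) := by
  obtain ⟨g, hg⟩ := isConj_iff.1 hc
  have hu2 : mul k u u = 0 := by
    rw [← F.sq_eq_one_iff, ← hg]
    calc g * F.z * g⁻¹ * (g * F.z * g⁻¹) = g * (F.z * F.z) * g⁻¹ := by group
      _ = 1 := by rw [F.z_sq]; group
  have hu0 : u ≠ 0 := by
    intro h
    rw [h, F.map_one] at hg
    exact F.z_ne_one (mul_eq_left.1 (mul_inv_eq_one.1 hg))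
  have key : ∀ a v, cj k a u = v → IsConj F.z (F.f v) := fun a v h =>
    hc.trans (isConj_iff.2 ⟨F.f a, by rw [← h, F.map_cj]⟩)
  rcases hk with rfl | rfl
  · rcases reps_zero u with h | h | h | h | ⟨a, h | h | h⟩
    · exact absurd h hu0
    · exact absurd h hu
    · exact absurd hu2 h
    · exact absurd h32 h
    · exact of_plane F plane_zero_six facts_zero (key a _ h) (by decide +kernel)
    · exact of_plane F plane_zero_fortyeight facts_zero (key a _ h) (by decide +kernel)
    · exact of_plane F plane_zero_thirtysix facts_zero (key a _ h) (by decide +kernel)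
  · rcases reps_two u with h | h | h | h | ⟨a, h⟩
    · exact absurd h hu0
    · exact absurd h hu
    · exact absurd hu2 h
    · exact absurd h32 h
    · exact of_plane F plane_two_thirtysix facts_two (key a _ h) (by decide +kernel)

end Cfsg.Agent.AN46Simple
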