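import Mathlib
import Cfsg.Agent.Lib.AN82Frame

/-!
# S3344: the extraspecial group of order 32 as a code, and the normal forms of the inverting involution

A code `a < 32` stands for `e₁^a₀ e₂^a₁ e₃^a₂ e₄^a₃ z^a₄`; `X` and `S0`, `S2` are the two automorphisms of
the four tables. `choices`: every admissible pair of images of `e₁, e₂` under an inverting element has
adapted generators; `mul_formula`: the tables are the semidirect product.
-/

set_option autoImplicit false
set_option maxRecDepth 100000

namespace Cfsg.Agent.AN62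

open Cfsg.Agent.AN82

/-- Bit `i`. -/
def bit (a i : Nat) : Bool := a / 2 ^ i % 2 == 1

/-- Product of codes. -/
def mq (a b : Nat) : Nat :=
  Nat.xor (Nat.xor a b) (bif ((bit a 1 && bit b 0) != (bit a 3 && bit b 2)) then 16 else 0)

/-- A code or `0`. -/
def sel (c : Bool) (g : Nat) : Nat := bif c then g else 0

/-- The endomorphism given by the images of the four generators. -/
def img (p1 p2 p3 p4 a : Nat) : Nat :=
  mq (mq (mq (mq (sel (bit a 0) p1) (sel (bit a 1) p2)) (sel (bit a 2) p3)) (sel (bit a 3) p4))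
    (sel (bit a 4) 16)

/-- The action of `x`. -/
def X (a : Nat) : Nat := img 4 26 5 2 a

/-- The action of `x⁻¹`. -/
def Xi (a : Nat) : Nat := X (X a)

/-- The action of `σ` in the tables `0`, `1`. -/
def S0 (a : Nat) : Nat := img 5 2 4 26 a

/-- The action of `σ` in the tables `2`, `3`. -/
def S2 (a : Nat) : Nat := img 18 17 24 20 a

/-- The defining relations. -/
def rel (a b c d : Nat) : Bool :=
  mq a a == 0 && mq b b == 0 && mq c c == 0 && mq d d == 0 &&
    mq b a == mq (mq a b) 16 && mq d c == mq (mq c d) 16 &&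
    mq a c == mq c a && mq a d == mq d a && mq b c == mq c b && mq b d == mq d b

/-- The images of `e₁`, `e₂` under an element inverting `x` with square in the centre. -/
def valid (p q : Nat) : Bool :=
  rel p q (Xi p) (X q) &&
    [1, 2, 4, 8].all fun g =>
      img p q (Xi p) (X q) (img p q (Xi p) (X q) g) == g &&
        img p q (Xi p) (X q) (X g) == Xi (img p q (Xi p) (X q) g)

/-- `X ^ i`. -/
def Xn (i a : Nat) : Nat := if i == 0 then a else if i == 1 then X a else Xi a

/-- The normal form of `σ`. -/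
def Sk (k : Bool) (a : Nat) : Nat := bif k then S2 a else S0 a

/-- Generators `a`, `b` putting `φ X^i` in the normal form `k`. -/
def adapted (p q a b i : Nat) (k : Bool) : Bool :=
  rel a b (X a) (Xi b) && X (X a) == mq a (X a) && X b == mq (mq b (Xi b)) 16 &&
    (List.zip [1, 2, 4, 8] [a, b, X a, Xi b]).all fun g =>
      img p q (Xi p) (X q) (Xn i g.2) == img a b (X a) (Xi b) (Sk k g.1)

theorem mq_zero : ∀ a : Fin 32, mq 0 a = a.1 ∧ mq a 0 = a.1 := by decide +kernel

theorem mq_lt : ∀ a b : Fin 32, mq a b < 32 := by decide +kernel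

theorem img_lt : ∀ a : Fin 32, X a < 32 ∧ Xi a < 32 ∧ S0 a < 32 ∧ S2 a < 32 ∧ X (Xi a) = a.1 := by
  decide +kernel

theorem mq_left_cancel : ∀ a b : Fin 32, mq a b = a.1 → b.1 = 0 := by decide +kernel

theorem mq_right_inverse : ∀ a b : Fin 32, (∀ c : Fin 32, mq c a = 0 → mq c b = 0) → a = b := by
  decide +kernel

/-- The images of the generators determine the bits. -/
theorem rel_self : rel 1 2 4 8 = true := by decide +kernel

/-- For each admissible pair: adapted generators, the power of `x`, the normal form. -/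
def cert : List (Nat × Nat × Fin 32 × Fin 32 × Fin 3 × Bool) :=
  [(1, 15, 6, 26, 0, true),
    (1, 26, 1, 2, 1, false),
    (4, 8, 1, 2, 2, false),
    (4, 25, 6, 26, 1, true),
    (5, 2, 1, 2, 0, false),
    (5, 22, 6, 26, 2, true),
    (6, 8, 1, 22, 0, true),
    (9, 26, 1, 22, 2, true),
    (10, 20, 1, 2, 1, true),
    (18, 17, 1, 2, 0, true),
    (24, 21, 1, 2, 2, true),
    (31, 2, 1, 22, 1, true)]

theorem cert_spec : ∀ p q : Fin 32, valid p q = true →
    (cert.any fun t => t.1 == p.1 && t.2.1 == q.1 &&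
      adapted p q t.2.2.1 t.2.2.2.1 t.2.2.2.2.1 t.2.2.2.2.2) = true := by decide +kernel

/-- Every admissible pair has adapted generators. -/
theorem choices (p q : Fin 32) (h : valid p q = true) :
    ∃ a b : Fin 32, ∃ i : Fin 3, ∃ k : Bool, adapted p q a b i k = true := by
  obtain ⟨t, -, ht⟩ := List.any_eq_true.1 (cert_spec p q h)
  simp only [Bool.and_eq_true] at ht
  exact ⟨_, _, _, _, ht.2⟩

/-- The kind of a table with given normal form and square of `σ`. -/
def kindOf (k c : Bool) : Kind := (bif k then (bif c then 3 else 2) else (bif c then 1 else 0))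

/-- The table product, from the normal form. -/
def mulF (k c : Bool) (a b : Nat) : Nat :=
  let j := a % 2
  let i := a / 2 % 3
  let q' := b / 6
  let φq := Xn i (if j == 1 then Sk k q' else q')
  let cc := bif c && j == 1 && b % 2 == 1 then 16 else 0
  6 * mq (mq (a / 6) φq) cc + 2 * ((i + (if j == 1 then 3 - b / 2 % 3 else b / 2 % 3)) % 3) +
    (j + b % 2) % 2

theorem mul_small : ∀ k c : Bool, ∀ a : Fin 6, ∀ b : Ix,
    (AN82.mul (kindOf k c) (ix a.1) b).1 = mulF k c a.1 b.1 := by decide +kernel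

theorem mul_top : ∀ k : Kind, ∀ q : Fin 32, ∀ b : Ix,
    (AN82.mul k (ix (6 * q.1)) b).1 = 6 * mq q.1 (b.1 / 6) + b.1 % 6 := by decide +kernel

set_option maxHeartbeats 0 in
theorem mul_split0 : ∀ a b : Ix,
    AN82.mul 0 a b = AN82.mul 0 (ix (6 * (a.1 / 6))) (AN82.mul 0 (ix (a.1 % 6)) b) := by decide +kernel

set_option maxHeartbeats 0 in
theorem mul_split1 : ∀ a b : Ix,
    AN82.mul 1 a b = AN82.mul 1 (ix (6 * (a.1 / 6))) (AN82.mul 1 (ix (a.1 % 6)) b) := by decide +kernel

set_option maxHeartbeats 0 in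
theorem mul_split2 : ∀ a b : Ix,
    AN82.mul 2 a b = AN82.mul 2 (ix (6 * (a.1 / 6))) (AN82.mul 2 (ix (a.1 % 6)) b) := by decide +kernel

set_option maxHeartbeats 0 in
theorem mul_split3 : ∀ a b : Ix,
    AN82.mul 3 a b = AN82.mul 3 (ix (6 * (a.1 / 6))) (AN82.mul 3 (ix (a.1 % 6)) b) := by decide +kernel

theorem mul_split : ∀ (k : Kind) (a b : Ix),
    AN82.mul k a b = AN82.mul k (ix (6 * (a.1 / 6))) (AN82.mul k (ix (a.1 % 6)) b)
  | 0 => mul_split0
  | 1 => mul_split1
  | 2 => mul_split2
  | 3 => mul_split3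

end Cfsg.Agent.AN62
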