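import Mathlib
import Cfsg.Agent.Lib.AN62Model

/-!
# S3344: words in four generators of an extraspecial group of order 32

`w` evaluates a code; `Rels` are the relations; `w_mul`, `w_w`, `w_eq_iff`.
-/

set_option autoImplicit false
set_option maxRecDepth 100000

namespace Cfsg.Agent.AN62

variable {G : Type*} [Group G]

/-- An element or `1`. -/
def pw (g : G) (c : Bool) : G := bif c then g else 1

/-- The element with code `a`. -/
def w (e1 e2 e3 e4 z : G) (a : Nat) : G :=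
  pw e1 (bit a 0) * pw e2 (bit a 1) * pw e3 (bit a 2) * pw e4 (bit a 3) * pw z (bit a 4)

/-- The relations. -/
structure Rels (e1 e2 e3 e4 z : G) : Prop where
  sq1 : e1 * e1 = 1
  sq2 : e2 * e2 = 1
  sq3 : e3 * e3 = 1
  sq4 : e4 * e4 = 1
  sqz : z * z = 1
  c21 : e2 * e1 = e1 * e2 * z
  c43 : e4 * e3 = e3 * e4 * z
  c13 : e1 * e3 = e3 * e1
  c14 : e1 * e4 = e4 * e1
  c23 : e2 * e3 = e3 * e2
  c24 : e2 * e4 = e4 * e2
  cz1 : z * e1 = e1 * z
  cz2 : z * e2 = e2 * z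
  cz3 : z * e3 = e3 * z
  cz4 : z * e4 = e4 * z

theorem pw_false (g : G) : pw g false = 1 := rfl
theorem pw_true (g : G) : pw g true = g := rfl

theorem commute_pw {g k : G} (hgk : Commute g k) (c d : Bool) : Commute (pw g c) (pw k d) := by
  cases c <;> cases d <;> simp [pw, hgk]

theorem pw_mul_pw {z : G} (hz : z * z = 1) (c d : Bool) : pw z c * pw z d = pw z (c != d) := by
  cases c <;> cases d <;> simp [pw, hz]

theorem pair_mul {e f z : G} (he : e * e = 1) (hf : f * f = 1) (hfe : f * e = e * f * z)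
    (hze : z * e = e * z) (hzf : z * f = f * z) (a b a' b' : Bool) :
    pw e a * pw f b * (pw e a' * pw f b') = pw e (a != a') * pw f (b != b') * pw z (b && a') := by
  have h1 : f * (e * f) = e * z := by
    rw [← mul_assoc, hfe, mul_assoc (e * f), hzf, ← mul_assoc, mul_assoc e f f, hf, mul_one]
  have h2 : e * f * e = f * z := by
    rw [mul_assoc, hfe, ← mul_assoc, ← mul_assoc, he, one_mul]
  have h3 : e * f * (e * f) = z := by
    rw [← mul_assoc, h2, mul_assoc, hzf, ← mul_assoc, hf, one_mul]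
  have h4 : e * f * f = e := by rw [mul_assoc, hf, mul_one]
  cases a <;> cases b <;> cases a' <;> cases b' <;>
    simp [pw, he, hf, hfe, h1, h2, h3, h4, ← mul_assoc]

/-- The bits of a product. -/
theorem bit_mq : ∀ a b : Fin 32,
    bit (mq a b) 0 = (bit a 0 != bit b 0) ∧ bit (mq a b) 1 = (bit a 1 != bit b 1) ∧
    bit (mq a b) 2 = (bit a 2 != bit b 2) ∧ bit (mq a b) 3 = (bit a 3 != bit b 3) ∧
    bit (mq a b) 4 = (((bit a 1 && bit b 0) != (bit a 3 && bit b 2)) != (bit a 4 != bit b 4)) := by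
  decide +kernel

namespace Rels

variable {e1 e2 e3 e4 z : G} (r : Rels e1 e2 e3 e4 z)
include r

theorem w_mul {a b : Nat} (ha : a < 32) (hb : b < 32) :
    w e1 e2 e3 e4 z a * w e1 e2 e3 e4 z b = w e1 e2 e3 e4 z (mq a b) := by
  obtain ⟨h0, h1, h2, h3, h4⟩ := bit_mq ⟨a, ha⟩ ⟨b, hb⟩
  simp only [w] at *
  rw [h0, h1, h2, h3, h4]
  generalize bit a 0 = a0, bit a 1 = a1, bit a 2 = a2, bit a 3 = a3, bit a 4 = a4,
    bit b 0 = b0, bit b 1 = b1, bit b 2 = b2, bit b 3 = b3, bit b 4 = b4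
  have p1 := pair_mul r.sq1 r.sq2 r.c21 r.cz1 r.cz2 a0 a1 b0 b1
  have p3 := pair_mul r.sq3 r.sq4 r.c43 r.cz3 r.cz4 a2 a3 b2 b3
  set P1 := pw e1 a0 * pw e2 a1
  set P1' := pw e1 b0 * pw e2 b1
  set Q1 := pw e1 (a0 != b0) * pw e2 (a1 != b1)
  set P3 := pw e3 a2 * pw e4 a3 with hP3
  set P3' := pw e3 b2 * pw e4 b3 with hP3'
  set Q3 := pw e3 (a2 != b2) * pw e4 (a3 != b3) with hQ3
  have k1 : Commute P3 P1' :=
    ((commute_pw (show Commute e3 e1 from r.c13.symm) a2 b0).mul_right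
      (commute_pw (show Commute e3 e2 from r.c23.symm) a2 b1)).mul_left
    ((commute_pw (show Commute e4 e1 from r.c14.symm) a3 b0).mul_right
      (commute_pw (show Commute e4 e2 from r.c24.symm) a3 b1))
  have kz1 : ∀ c, Commute (pw z c) P1' := fun c =>
    (commute_pw (show Commute z e1 from r.cz1) c b0).mul_right
      (commute_pw (show Commute z e2 from r.cz2) c b1)
  have kz3 : ∀ c, Commute (pw z c) P3' := fun c =>
    (commute_pw (show Commute z e3 from r.cz3) c b2).mul_right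
      (commute_pw (show Commute z e4 from r.cz4) c b3)
  have kzQ : ∀ c, Commute (pw z c) Q3 := fun c =>
    (commute_pw (show Commute z e3 from r.cz3) c _).mul_right
      (commute_pw (show Commute z e4 from r.cz4) c _)
  rw [mul_assoc P1 (pw e3 a2) (pw e4 a3), mul_assoc P1' (pw e3 b2) (pw e4 b3),
    mul_assoc Q1 (pw e3 (a2 != b2)) (pw e4 (a3 != b3)), ← hP3, ← hP3', ← hQ3]
  calc P1 * P3 * pw z a4 * (P1' * P3' * pw z b4)
      = P1 * P3 * (pw z a4 * P1') * P3' * pw z b4 := by simp only [mul_assoc]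
    _ = P1 * (P3 * P1') * (pw z a4 * P3') * pw z b4 := by rw [(kz1 a4).eq]; simp only [mul_assoc]
    _ = (P1 * P1') * (P3 * P3') * (pw z a4 * pw z b4) := by
      rw [k1.eq, (kz3 a4).eq]; simp only [mul_assoc]
    _ = Q1 * (pw z (a1 && b0) * Q3) * (pw z (a3 && b2) * (pw z a4 * pw z b4)) := by
      rw [p1, p3]; simp only [mul_assoc]
    _ = _ := by
      rw [(kzQ _).eq, ← pw_mul_pw r.sqz ((a1 && b0) != (a3 && b2)), ← pw_mul_pw r.sqz (a1 && b0),
        ← pw_mul_pw r.sqz a4]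
      simp only [mul_assoc]

omit r in
theorem w_zero : w e1 e2 e3 e4 z 0 = 1 := by simp [w, bit, pw]

omit r in
theorem w_gens : w e1 e2 e3 e4 z 1 = e1 ∧ w e1 e2 e3 e4 z 2 = e2 ∧ w e1 e2 e3 e4 z 4 = e3 ∧
    w e1 e2 e3 e4 z 8 = e4 ∧ w e1 e2 e3 e4 z 16 = z := by
  simp [w, bit, pw]

theorem w_sel (c : Bool) (p : Nat) :
    w e1 e2 e3 e4 z (sel c p) = pw (w e1 e2 e3 e4 z p) c := by
  cases c <;> simp [sel, pw, w_zero]

/-- Words in words. -/
theorem w_w {p1 p2 p3 p4 : Nat} (h1 : p1 < 32) (h2 : p2 < 32) (h3 : p3 < 32) (h4 : p4 < 32) (a : Nat) :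
    w (w e1 e2 e3 e4 z p1) (w e1 e2 e3 e4 z p2) (w e1 e2 e3 e4 z p3) (w e1 e2 e3 e4 z p4) z a =
      w e1 e2 e3 e4 z (img p1 p2 p3 p4 a) := by
  have s : ∀ c p, p < 32 → sel c p < 32 := fun c p hp => by cases c <;> simp [sel, hp]
  have m : ∀ {a b : Nat}, a < 32 → b < 32 → mq a b < 32 := fun ha hb => mq_lt ⟨_, ha⟩ ⟨_, hb⟩
  have ez : pw z (bit a 4) = w e1 e2 e3 e4 z (sel (bit a 4) 16) := by
    rw [r.w_sel, w_gens.2.2.2.2]
  show pw (w e1 e2 e3 e4 z p1) (bit a 0) * pw (w e1 e2 e3 e4 z p2) (bit a 1) *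
    pw (w e1 e2 e3 e4 z p3) (bit a 2) * pw (w e1 e2 e3 e4 z p4) (bit a 3) * pw z (bit a 4) = _
  rw [ez]
  rw [← r.w_sel, ← r.w_sel, ← r.w_sel, ← r.w_sel]
  rw [r.w_mul (s _ _ h1) (s _ _ h2), r.w_mul (m (s _ _ h1) (s _ _ h2)) (s _ _ h3),
    r.w_mul (m (m (s _ _ h1) (s _ _ h2)) (s _ _ h3)) (s _ _ h4),
    r.w_mul (m (m (m (s _ _ h1) (s _ _ h2)) (s _ _ h3)) (s _ _ h4)) (s _ _ (by norm_num))]
  rfl

end Rels

theorem nontrivial_codes : ∀ a : Fin 32, a.1 ≠ 0 → a.1 = 16 ∨ ∃ c : Fin 32, mq a c = mq (mq c a) 16 := by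
  decide +kernel

theorem inverse_codes : ∀ a b : Fin 32, mq (mq a (mq a a)) a = 0 ∧
    (mq (mq a (mq a a)) b = 0 → a = b) := by decide +kernel

namespace Rels

variable {e1 e2 e3 e4 z : G} (r : Rels e1 e2 e3 e4 z)
include r

theorem w_eq_one_iff (hz : z ≠ 1) {a : Nat} (ha : a < 32) : w e1 e2 e3 e4 z a = 1 ↔ a = 0 := by
  refine ⟨fun h => ?_, fun h => by rw [h, w_zero]⟩
  by_contra ha0
  rcases nontrivial_codes ⟨a, ha⟩ ha0 with h16 | ⟨c, hc⟩
  · simp only at h16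
    rw [h16, w_gens.2.2.2.2] at h
    exact hz h
  · simp only at hc
    have e := congrArg (w e1 e2 e3 e4 z) hc
    rw [← r.w_mul ha c.2, ← r.w_mul (mq_lt c ⟨a, ha⟩) (by norm_num), ← r.w_mul c.2 ha, h, one_mul,
      mul_one, w_gens.2.2.2.2] at e
    exact hz (left_eq_mul.1 e)

theorem w_eq_iff (hz : z ≠ 1) {a b : Nat} (ha : a < 32) (hb : b < 32) :
    w e1 e2 e3 e4 z a = w e1 e2 e3 e4 z b ↔ a = b := by
  refine ⟨fun h => ?_, fun h => h ▸ rfl⟩
  obtain ⟨h1, h2⟩ := inverse_codes ⟨a, ha⟩ ⟨b, hb⟩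
  have m : ∀ {a b : Nat}, a < 32 → b < 32 → mq a b < 32 := fun ha hb => mq_lt ⟨_, ha⟩ ⟨_, hb⟩
  refine congrArg Fin.val (h2 ?_)
  rw [← r.w_eq_one_iff hz (m (m ha (m ha ha)) hb)]
  show w e1 e2 e3 e4 z (mq (mq a (mq a a)) b) = 1
  rw [← r.w_mul (m ha (m ha ha)) hb, ← h, r.w_mul (m ha (m ha ha)) ha, show mq (mq a (mq a a)) a = 0 from h1,
    w_zero]

end Rels

end Cfsg.Agent.AN62
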