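import Mathlib
import Cfsg.Prelude.Def_Transfer
import Cfsg.Prelude.Def_Solvable
import Cfsg.Prelude.Def_MonsterType

/-!
# Large extraspecial 2-subgroups: an elementwise toolkit

`Ext Q z` : `Q` is a 2-group with squares and commutators in `{1, z}` whose centre is `{1, z}`.
`LHyp Q z`: in addition `C_G(Q) = {1, z}` and `C_G(z)` normalises `Q`.
-/

set_option autoImplicit false

namespace Cfsg.Agent.LargeExtraspecial

open Subgroup

variable {G : Type*} [Group G]

/-! ### Small general facts -/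

theorem eq_one_of_mem_odd_of_pow_two {K : Subgroup G} (hK : Odd (Nat.card K)) {k : G} (hk : k ∈ K)
    {n : ℕ} (h : k ^ 2 ^ n = 1) : k = 1 := by
  have h1 : orderOf k ∣ Nat.card K := by
    have := orderOf_dvd_natCard (⟨k, hk⟩ : K)
    rwa [← Subgroup.orderOf_coe] at this
  have h2 : orderOf k ∣ 2 ^ n := orderOf_dvd_of_pow_eq_one h
  have h3 : (Nat.card K).Coprime (2 ^ n) :=
    Nat.Coprime.pow_right n (Nat.coprime_two_right.mpr hK)
  exact orderOf_eq_one_iff.mp (Nat.eq_one_of_dvd_coprimes h3 h1 h2)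

theorem sq_mem_frattini {P : Type*} [Group P] [Finite P] (h : IsPGroup 2 P) (x : P) :
    x * x ∈ frattini P := by
  unfold frattini
  rw [Order.radical]
  simp only [Subgroup.mem_iInf, Set.mem_setOf_eq]
  intro M hM
  haveI : Fact (Nat.Prime 2) := ⟨Nat.prime_two⟩
  haveI : M.Normal := (Group.normalizerCondition_of_isNilpotent (h := h.isNilpotent)).normal_of_coatom M hM
  by_cases hx : x ∈ M
  · exact M.mul_mem hx hx
  by_contra hxx
  have htop : M ⊔ zpowers (x * x) = ⊤ :=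
    hM.2 _ (lt_of_le_of_ne le_sup_left fun he => hxx (he.symm ▸ mem_sup_right (mem_zpowers _)))
  have hxmem : x ∈ M ⊔ zpowers (x * x) := htop ▸ mem_top x
  obtain ⟨m, hm, y, hy, hmy⟩ := mem_sup_of_normal_left.mp hxmem
  obtain ⟨k, rfl⟩ := mem_zpowers_iff.mp hy
  obtain ⟨n, hn⟩ := h x
  have h1 : (QuotientGroup.mk x : P ⧸ M) ^ (2 * k - 1) = 1 := by
    have h2 : (QuotientGroup.mk m : P ⧸ M) = 1 := (QuotientGroup.eq_one_iff m).mpr hm
    have h3 := congrArg (QuotientGroup.mk : P → P ⧸ M) hmy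
    rw [QuotientGroup.mk_mul, h2, one_mul, QuotientGroup.mk_zpow, QuotientGroup.mk_mul] at h3
    rw [zpow_sub, zpow_one, zpow_mul, zpow_two, h3, mul_inv_cancel]
  have h4 : (QuotientGroup.mk x : P ⧸ M) ^ ((2 : ℤ) ^ n) = 1 := by
    have : ((2 : ℤ) ^ n) = ((2 ^ n : ℕ) : ℤ) := by push_cast; ring
    rw [this, zpow_natCast, ← QuotientGroup.mk_pow, hn, QuotientGroup.mk_one]
  have hcop : IsCoprime (2 * k - 1) ((2 : ℤ) ^ n) := by
    apply IsCoprime.pow_right
    exact ⟨-1, k, by ring⟩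
  obtain ⟨a, b, hab⟩ := hcop
  have h5 : (QuotientGroup.mk x : P ⧸ M) = 1 := by
    rw [← zpow_one (QuotientGroup.mk x : P ⧸ M), ← hab, zpow_add, mul_comm a, mul_comm b, zpow_mul,
      zpow_mul, h1, h4, one_zpow, one_zpow, mul_one]
  exact hx ((QuotientGroup.eq_one_iff x).mp h5)

theorem frattini_le_of_sq_mem {P : Type*} [Group P] [Finite P] (N : Subgroup P)
    (hsq : ∀ x, x * x ∈ N) (hcomm : ∀ x y : P, x * y * x⁻¹ * y⁻¹ ∈ N) : frattini P ≤ N := by
  intro x hx
  by_contra hxN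
  obtain ⟨H, hH⟩ := (Set.toFinite {H : Subgroup P | N ≤ H ∧ x ∉ H}).exists_maximal ⟨N, le_rfl, hxN⟩
  have hNH : N ≤ H := hH.1.1
  haveI hn : H.Normal := ⟨fun h hh g => by
    have : g * h * g⁻¹ = (g * h * g⁻¹ * h⁻¹) * h := by group
    rw [this]; exact H.mul_mem (hNH (hcomm g h)) hh⟩
  have key : ∀ y, y ∉ H → x⁻¹ * y ∈ H := by
    intro y hy
    have hxm : x ∈ H ⊔ zpowers y := by
      by_contra hc
      exact hy (hH.2 ⟨hNH.trans le_sup_left, hc⟩ le_sup_left (mem_sup_right (mem_zpowers y)))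
    obtain ⟨a, ha, b, hb, hab⟩ := mem_sup_of_normal_left.mp hxm
    obtain ⟨k, rfl⟩ := mem_zpowers_iff.mp hb
    have hpow : ∀ j : ℤ, y ^ (2 * j) ∈ H := fun j => by
      rw [zpow_mul, zpow_two]
      exact H.zpow_mem (hNH (hsq y)) _
    rcases Int.even_or_odd k with ⟨j, hj⟩ | ⟨j, hj⟩
    · exact absurd (hab ▸ H.mul_mem ha (by rw [hj, ← two_mul]; exact hpow j)) hH.1.2
    · rw [← hab, hj, zpow_add, zpow_one]
      have e : (a * (y ^ (2 * j) * y))⁻¹ * y = y⁻¹ * ((y ^ (2 * j))⁻¹ * a⁻¹) * y⁻¹⁻¹ := by group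
      rw [e]
      exact hn.conj_mem _ (H.mul_mem (H.inv_mem (hpow j)) (H.inv_mem ha)) _
  have hco : IsCoatom H := by
    refine ⟨fun h => hH.1.2 (h ▸ mem_top x), fun K hK => ?_⟩
    obtain ⟨y, hyK, hyH⟩ := SetLike.exists_of_lt hK
    have hxK : x ∈ K := by
      have : x = y * (x⁻¹ * y)⁻¹ := by group
      rw [this]; exact K.mul_mem hyK (K.inv_mem (hK.le (key y hyH)))
    refine eq_top_iff.mpr fun w _ => ?_
    by_cases hw : w ∈ H
    · exact hK.le hw
    · have : w = x * (x⁻¹ * w) := by group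
      rw [this]; exact K.mul_mem hxK (hK.le (key w hw))
  exact hH.1.2 (frattini_le_coatom hco hx)

/-! ### Elementwise extraspecial -/

/-- `Q` is an extraspecial 2-group with centre `{1, z}`, or `Q = {1, z}`. -/
structure Ext (Q : Subgroup G) (z : G) : Prop where
  mem : z ∈ Q
  ne_one : z ≠ 1
  zz : z * z = 1
  comm : ∀ x ∈ Q, x * z = z * x
  sq : ∀ x ∈ Q, x * x = 1 ∨ x * x = z
  conj : ∀ x ∈ Q, ∀ y ∈ Q, x * y * x⁻¹ = y ∨ x * y * x⁻¹ = z * y
  partner : ∀ x ∈ Q, x ≠ 1 → x ≠ z → ∃ y ∈ Q, y * x * y⁻¹ = z * x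

namespace Ext

variable {Q : Subgroup G} {z : G} (h : Ext Q z)
include h

theorem inv_z : z⁻¹ = z := inv_eq_of_mul_eq_one_right h.zz

theorem orderOf_z : orderOf z = 2 := orderOf_eq_prime (by rw [pow_two]; exact h.zz) h.ne_one

theorem pow_four {x : G} (hx : x ∈ Q) : x ^ 4 = 1 := by
  have e : x ^ 4 = x * x * (x * x) := by simp [pow_succ, mul_assoc]
  rw [e]
  rcases h.sq x hx with h1 | h1 <;> simp [h1, h.zz]

theorem eq_one_of_mem_odd {K : Subgroup G} (hK : Odd (Nat.card K)) {x : G} (hxK : x ∈ K)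
    (hxQ : x ∈ Q) : x = 1 :=
  eq_one_of_mem_odd_of_pow_two hK hxK (n := 2) (h.pow_four hxQ)

theorem central {x : G} (hx : x ∈ Q) (hc : ∀ y ∈ Q, y * x = x * y) : x = 1 ∨ x = z := by
  by_contra hne
  obtain ⟨h1, h2⟩ := not_or.mp hne
  obtain ⟨y, hy, he⟩ := h.partner x hx h1 h2
  rw [hc y hy, mul_inv_cancel_right] at he
  exact h.ne_one (right_eq_mul.mp he)

theorem z_mul_ne (x : G) : z * x ≠ x := fun e => h.ne_one (mul_eq_right.mp e)

theorem z_mul_z_mul (x : G) : z * (z * x) = x := by rw [← mul_assoc, h.zz, one_mul]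

theorem not_comm_iff {x y : G} (hx : x ∈ Q) (hy : y ∈ Q) :
    ¬ y * x = x * y ↔ y * x * y⁻¹ = z * x := by
  constructor
  · intro hne
    rcases h.conj y hy x hx with e | e
    · exact absurd (mul_inv_eq_iff_eq_mul.mp e) hne
    · exact e
  · intro e he
    rw [he, mul_inv_cancel_right] at e
    exact h.z_mul_ne x e.symm

/-- If `y` and `w` both move `x`, then `y w` fixes it. -/
theorem mul_fix {x y w : G} (hy : y ∈ Q)
    (ey : y * x * y⁻¹ = z * x) (ew : w * x * w⁻¹ = z * x) :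
    (y * w) * x * (y * w)⁻¹ = x := by
  have e : (y * w) * x * (y * w)⁻¹ = y * (w * x * w⁻¹) * y⁻¹ := by group
  rw [e, ew]
  have e2 : y * (z * x) * y⁻¹ = (y * z) * y⁻¹ * (y * x * y⁻¹) := by group
  rw [e2, h.comm y hy, mul_inv_cancel_right, ey, h.z_mul_z_mul]

/-- The double centralizer of a non-central element. -/
theorem double_centralizer {x d : G} (hx : x ∈ Q) (hd : d ∈ Q)
    (hc : ∀ s ∈ Q, s * x = x * s → s * d = d * s) :
    d = 1 ∨ d = z ∨ d = x⁻¹ ∨ d = z * x⁻¹ := by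
  by_contra hne
  simp only [not_or] at hne
  obtain ⟨h1, h2, h3, h4⟩ := hne
  have hp1 : d * x ≠ 1 := fun e => h3 (eq_inv_of_mul_eq_one_left e)
  have hp2 : d * x ≠ z := fun e => h4 (eq_mul_inv_of_mul_eq e)
  obtain ⟨u, hu, eu⟩ := h.partner (d * x) (Q.mul_mem hd hx) hp1 hp2
  obtain ⟨v, hv, ev⟩ := h.partner d hd h1 h2
  by_cases hux : u * x = x * u
  · have hud := hc u hu hux
    have e : u * (d * x) * u⁻¹ = d * x := by
      rw [← mul_assoc, hud, mul_assoc d u x, hux, ← mul_assoc, mul_inv_cancel_right]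
    exact h.z_mul_ne _ (eu.symm.trans e)
  · have hvx : ¬ v * x = x * v := fun e => (h.not_comm_iff hd hv).mpr ev (hc v hv e)
    have hvu := mul_inv_eq_iff_eq_mul.mp
      (h.mul_fix hv ((h.not_comm_iff hx hv).mp hvx) ((h.not_comm_iff hx hu).mp hux))
    have hud : u * d * u⁻¹ = d := by
      have e : u * (d * x) * u⁻¹ = (u * d * u⁻¹) * (u * x * u⁻¹) := by group
      rw [e, (h.not_comm_iff hx hu).mp hux] at eu
      rcases h.conj u hu d hd with e' | e'
      · exact e'
      · rw [e'] at eu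
        exfalso
        have e3 : z * d * (z * x) = d * x := by
          rw [← mul_assoc, mul_assoc z d z, h.comm d hd, h.z_mul_z_mul]
        exact h.z_mul_ne _ (eu.symm.trans e3)
    have e5 : (v * u) * d * (v * u)⁻¹ = z * d := by
      have e : (v * u) * d * (v * u)⁻¹ = v * (u * d * u⁻¹) * v⁻¹ := by group
      rw [e, hud, ev]
    have e6 := hc (v * u) (Q.mul_mem hv hu) hvu
    rw [e6, mul_inv_cancel_right] at e5
    exact h.z_mul_ne d e5.symm

/-- In an extraspecial group of order at least 32 the centralizer of an involution is non-abelian,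
and then contains a square root of `z`. -/
theorem exists_sqrt [Finite G] {x : G} (hx : x ∈ Q) (h1 : x ≠ 1) (hz : x ≠ z)
    (hcard : 32 ≤ Nat.card Q) : ∃ s ∈ Q, s * x = x * s ∧ s * s = z := by
  by_contra hno
  push Not at hno
  have hsq : ∀ s ∈ Q, s * x = x * s → s * s = 1 := fun s hs hc =>
    (h.sq s hs).resolve_right (hno s hs hc)
  have hab : ∀ s ∈ Q, s * x = x * s → ∀ t ∈ Q, t * x = x * t → t * s = s * t := by
    intro s hs hcs t ht hct
    have hst : t * s * x = x * (t * s) := by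
      rw [mul_assoc, hcs, ← mul_assoc, hct, mul_assoc]
    have e1 := hsq (t * s) (Q.mul_mem ht hs) hst
    have e2 : t * s = s⁻¹ * t⁻¹ := by
      rw [eq_comm, ← mul_inv_rev]; exact inv_eq_of_mul_eq_one_right e1
    rw [e2, inv_eq_of_mul_eq_one_right (hsq s hs hcs), inv_eq_of_mul_eq_one_right (hsq t ht hct)]
  obtain ⟨w, hw, ew⟩ := h.partner x hx h1 hz
  have hsub : (Q : Set G) ⊆ ({1, z, x⁻¹, z * x⁻¹} : Set G) ∪ (fun s => w⁻¹ * s) '' {1, z, x⁻¹, z * x⁻¹} := by
    intro q hq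
    have hmem : ∀ s ∈ Q, s * x = x * s → s ∈ ({1, z, x⁻¹, z * x⁻¹} : Set G) := by
      intro s hs hcs
      simpa using h.double_centralizer hx hs fun t ht hct => hab s hs hcs t ht hct
    by_cases hqx : q * x = x * q
    · exact Or.inl (hmem q hq hqx)
    · refine Or.inr ⟨w * q, hmem _ (Q.mul_mem hw hq) ?_, by group⟩
      exact mul_inv_eq_iff_eq_mul.mp (h.mul_fix hw ew ((h.not_comm_iff hx hq).mp hqx))
  have h4 : ({1, z, x⁻¹, z * x⁻¹} : Set G).ncard ≤ 4 := by
    refine (Set.ncard_insert_le _ _).trans ?_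
    refine (Nat.add_le_add_right (Set.ncard_insert_le _ _) _).trans ?_
    refine (Nat.add_le_add_right (Nat.add_le_add_right (Set.ncard_insert_le _ _) _) _).trans ?_
    rw [Set.ncard_singleton]
  have := Set.ncard_le_ncard hsub (Set.toFinite _)
  have h5 := Set.ncard_union_le ({1, z, x⁻¹, z * x⁻¹} : Set G) ((fun s => w⁻¹ * s) '' {1, z, x⁻¹, z * x⁻¹})
  have h6 : ((fun s => w⁻¹ * s) '' ({1, z, x⁻¹, z * x⁻¹} : Set G)).ncard ≤ 4 :=
    (Set.ncard_image_le (Set.toFinite _)).trans h4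
  rw [← SetLike.coe_sort_coe, Nat.card_coe_set_eq] at hcard
  omega

theorem center_eq : (center Q).map Q.subtype = zpowers z := by
  apply le_antisymm
  · rintro x ⟨⟨x, hx⟩, hxc, rfl⟩
    rcases h.central hx fun y hy => congrArg Subtype.val (mem_center_iff.mp hxc ⟨y, hy⟩) with e | e
    · change x ∈ zpowers z
      rw [e]; exact one_mem _
    · change x ∈ zpowers z
      rw [e]; exact mem_zpowers z
  · rw [zpowers_le]
    exact ⟨⟨z, h.mem⟩, mem_center_iff.mpr fun y => Subtype.ext (h.comm y y.2), rfl⟩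

theorem eq_of_mem_zpowers {x : G} (hx : x ∈ zpowers z) : x = 1 ∨ x = z := by
  obtain ⟨k, rfl⟩ := mem_zpowers_iff.mp hx
  rcases Int.even_or_odd k with ⟨j, rfl⟩ | ⟨j, rfl⟩
  · left; rw [← two_mul, zpow_mul, zpow_two, h.zz, one_zpow]
  · right; rw [zpow_add, zpow_mul, zpow_two, h.zz, one_zpow, one_mul, zpow_one]

theorem isPGroup : IsPGroup 2 Q := fun x => ⟨2, Subtype.ext (h.pow_four x.2)⟩

theorem isExtraspecial [Finite G] {x : G} (hx : x ∈ Q) (h1 : x ≠ 1) (hz : x ≠ z) :
    Cfsg.IsExtraspecial 2 Q := by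
  have hc : ∀ a : Q, a ∈ center Q ↔ (a : G) = 1 ∨ (a : G) = z := by
    intro a
    constructor
    · intro ha
      exact h.central a.2 fun y hy => congrArg Subtype.val (mem_center_iff.mp ha ⟨y, hy⟩)
    · intro ha
      refine mem_center_iff.mpr fun y => Subtype.ext ?_
      rcases ha with e | e <;> rw [coe_mul, coe_mul, e]
      · simp
      · exact h.comm y y.2
  obtain ⟨y, hy, ey⟩ := h.partner x hx h1 hz
  have hcomle : ∀ a b : Q, a * b * a⁻¹ * b⁻¹ ∈ center Q := by
    intro a b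
    rw [hc]
    rcases h.conj a a.2 b b.2 with e | e <;> simp [e]
  have hzcom : (⟨z, h.mem⟩ : Q) ∈ _root_.commutator Q := by
    have : (⟨z, h.mem⟩ : Q) = ⟨y, hy⟩ * ⟨x, hx⟩ * ⟨y, hy⟩⁻¹ * ⟨x, hx⟩⁻¹ := Subtype.ext (by simp [ey])
    rw [this]
    exact commutator_mem_commutator (mem_top _) (mem_top _)
  have hsq : ∀ a : Q, a * a ∈ center Q := fun a => (hc _).mpr (by simpa using h.sq a a.2)
  refine ⟨⟨h.isPGroup, ?_, ?_⟩, ?_⟩
  · apply le_antisymm
    · exact frattini_le_of_sq_mem _ hsq hcomle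
    · intro a ha
      rcases (hc a).mp ha with e | e
      · rw [show a = 1 from Subtype.ext e]; exact one_mem _
      · rw [show a = ⟨z, h.mem⟩ from Subtype.ext e]
        have hcx : ¬ y * x = x * y := (h.not_comm_iff hx hy).mpr ey
        have hs : ∃ s ∈ Q, s * s = z := by
          by_contra hno
          push Not at hno
          have q : ∀ s ∈ Q, s⁻¹ = s := fun s hs =>
            inv_eq_of_mul_eq_one_right ((h.sq s hs).resolve_right (hno s hs))
          apply hcx
          calc y * x = (y * x)⁻¹ := (q _ (Q.mul_mem hy hx)).symm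
            _ = x * y := by rw [mul_inv_rev, q x hx, q y hy]
        obtain ⟨s, hs, es⟩ := hs
        have := sq_mem_frattini h.isPGroup (⟨s, hs⟩ : Q)
        rwa [show (⟨s, hs⟩ : Q) * ⟨s, hs⟩ = ⟨z, h.mem⟩ from Subtype.ext es] at this
  · apply le_antisymm
    · rw [_root_.commutator_def, Subgroup.commutator_le]
      exact fun a _ b _ => hcomle a b
    · intro a ha
      rcases (hc a).mp ha with e | e
      · rw [show a = 1 from Subtype.ext e]; exact one_mem _
      · rw [show a = ⟨z, h.mem⟩ from Subtype.ext e]; exact hzcom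
  · have : (center Q : Set Q) = {1, ⟨z, h.mem⟩} := by
      ext a
      rw [SetLike.mem_coe, hc, Set.mem_insert_iff, Set.mem_singleton_iff, Subtype.ext_iff,
        Subtype.ext_iff, coe_one]
    rw [← SetLike.coe_sort_coe, Nat.card_coe_set_eq, this,
      Set.ncard_pair fun e => h.ne_one (congrArg Subtype.val e).symm]

theorem map_conj (g : G) : Ext (Q.map (MulAut.conj g).toMonoidHom) (g * z * g⁻¹) := by
  have cj : ∀ x y : G, g * x * g⁻¹ * (g * y * g⁻¹) = g * (x * y) * g⁻¹ := fun x y => by group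
  have cj3 : ∀ x y : G, g * x * g⁻¹ * (g * y * g⁻¹) * (g * x * g⁻¹)⁻¹ = g * (x * y * x⁻¹) * g⁻¹ :=
    fun x y => by group
  refine ⟨⟨z, h.mem, rfl⟩, fun e => h.ne_one (conj_eq_one_iff.mp e), ?_, ?_, ?_, ?_, ?_⟩
  · rw [cj, h.zz]; group
  · rintro _ ⟨x, hx, rfl⟩
    simp only [MulEquiv.coe_toMonoidHom, MulAut.conj_apply, cj, h.comm x hx]
  · rintro _ ⟨x, hx, rfl⟩
    simp only [MulEquiv.coe_toMonoidHom, MulAut.conj_apply, cj]
    rcases h.sq x hx with e | e <;> simp [e]
  · rintro _ ⟨x, hx, rfl⟩ _ ⟨y, hy, rfl⟩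
    simp only [MulEquiv.coe_toMonoidHom, MulAut.conj_apply]
    rw [cj3, cj]
    rcases h.conj x hx y hy with e | e
    · exact Or.inl (by rw [e])
    · exact Or.inr (by rw [e])
  · rintro _ ⟨x, hx, rfl⟩ h1 h2
    simp only [MulEquiv.coe_toMonoidHom, MulAut.conj_apply] at h1 h2 ⊢
    obtain ⟨y, hy, e⟩ := h.partner x hx (fun e => h1 (by rw [e]; group)) (fun e => h2 (by rw [e]))
    exact ⟨g * y * g⁻¹, ⟨y, hy, rfl⟩, by rw [cj3, cj, e]⟩

end Ext

/-- The data of an extraspecial 2-subgroup. -/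
theorem exists_ext [Finite G] {Q : Subgroup G} (hQ : Cfsg.IsExtraspecial 2 Q) :
    ∃ z, Ext Q z ∧ (center Q).map Q.subtype = zpowers z ∧ ∃ x ∈ Q, x ≠ 1 ∧ x ≠ z := by
  obtain ⟨⟨hp, hF, hC⟩, hcard⟩ := hQ
  obtain ⟨⟨z₀, hz₀⟩, hz1, huni⟩ :=
    (Nat.card_eq_two_iff' (1 : center Q)).mp hcard
  have hz₀1 : z₀ ≠ 1 := fun e => hz1 (Subtype.ext e)
  have cases2 : ∀ a : Q, a ∈ center Q → a = 1 ∨ a = z₀ := by
    intro a ha
    by_cases e : a = 1
    · exact Or.inl e
    · exact Or.inr (congrArg Subtype.val (huni ⟨a, ha⟩ fun e' => e (congrArg Subtype.val e')))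
  have hz : Ext Q (z₀ : G) := by
    refine ⟨z₀.2, fun e => hz₀1 (Subtype.ext e), ?_, ?_, ?_, ?_, ?_⟩
    · rcases cases2 _ ((center Q).mul_mem hz₀ hz₀) with e | e
      · exact congrArg Subtype.val e
      · exact absurd (mul_eq_right.mp e) hz₀1
    · exact fun x hx => congrArg Subtype.val (mem_center_iff.mp hz₀ ⟨x, hx⟩)
    · intro x hx
      have := hF ▸ sq_mem_frattini hp (⟨x, hx⟩ : Q)
      rcases cases2 _ this with e | e
      · exact Or.inl (congrArg Subtype.val e)
      · exact Or.inr (congrArg Subtype.val e)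
    · intro x hx y hy
      have : (⟨x, hx⟩ : Q) * ⟨y, hy⟩ * ⟨x, hx⟩⁻¹ * ⟨y, hy⟩⁻¹ ∈ center Q :=
        hC ▸ commutator_mem_commutator (mem_top _) (mem_top _)
      rcases cases2 _ this with e | e
      · left
        have e' : x * y * x⁻¹ * y⁻¹ = 1 := congrArg Subtype.val e
        exact mul_inv_eq_one.mp e'
      · right
        have e' : x * y * x⁻¹ * y⁻¹ = z₀ := congrArg Subtype.val e
        exact mul_inv_eq_iff_eq_mul.mp e'
    · intro x hx h1 hxz
      by_contra hno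
      push Not at hno
      have hcen : (⟨x, hx⟩ : Q) ∈ center Q := by
        refine mem_center_iff.mpr fun y => Subtype.ext ?_
        have hxy : x * y * x⁻¹ * (y : G)⁻¹ = 1 := by
          have : (⟨x, hx⟩ : Q) * y * ⟨x, hx⟩⁻¹ * y⁻¹ ∈ center Q :=
            hC ▸ commutator_mem_commutator (mem_top _) (mem_top _)
          rcases cases2 _ this with e | e
          · exact congrArg Subtype.val e
          · exfalso
            have e' : x * y * x⁻¹ * (y : G)⁻¹ = z₀ := congrArg Subtype.val e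
            have hzinv : (z₀ : G)⁻¹ = z₀ := by
              rcases cases2 _ ((center Q).inv_mem hz₀) with e2 | e2
              · exact absurd (inv_eq_one.mp e2) hz₀1
              · exact congrArg Subtype.val e2
            apply hno y y.2
            have e2 : (y : G) * x * (y : G)⁻¹ = (x * y * x⁻¹ * (y : G)⁻¹)⁻¹ * x := by group
            rw [e2, e', hzinv]
        exact (mul_inv_eq_iff_eq_mul.mp (mul_inv_eq_one.mp hxy)).symm
      rcases cases2 _ hcen with e | e
      · exact h1 (congrArg Subtype.val e)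
      · exact hxz (congrArg Subtype.val e)
  refine ⟨z₀, hz, hz.center_eq, ?_⟩
  by_contra hno
  push Not at hno
  have hcomm : _root_.commutator Q = ⊥ := by
    rw [_root_.commutator_def, Subgroup.commutator_eq_bot_iff_le_centralizer]
    intro a _
    refine mem_centralizer_iff.mpr fun b _ => Subtype.ext ?_
    rcases eq_or_ne (a : G) 1 with e | e
    · simp [e]
    · rw [coe_mul, coe_mul, hno a a.2 e]
      exact hz.comm b b.2
  rw [hcomm] at hC
  rw [← hC, Subgroup.card_bot] at hcard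
  exact absurd hcard (by norm_num)

/-! ### Large extraspecial hypotheses -/

/-- `Ext` with `C_G(Q) = {1,z}` and `C_G(z)` normalising `Q`. -/
structure LHyp (Q : Subgroup G) (z : G) : Prop extends Ext Q z where
  cent : ∀ g, (∀ x ∈ Q, g * x = x * g) → g = 1 ∨ g = z
  norm : ∀ g, g * z = z * g → ∀ x ∈ Q, g * x * g⁻¹ ∈ Q
  big : ∃ x ∈ Q, x ≠ 1 ∧ x ≠ z

theorem exists_lhyp [Finite G] {Q : Subgroup G} (h1 : Cfsg.IsExtraspecial 2 Q)
    (h2 : centralizer (Q : Set G) = (center Q).map Q.subtype)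
    (h3 : centralizer (((center Q).map Q.subtype : Subgroup G) : Set G) ≤ normalizer (Q : Set G)) :
    ∃ z, LHyp Q z ∧ (center Q).map Q.subtype = zpowers z := by
  obtain ⟨z, hz, he, hbig⟩ := exists_ext h1
  refine ⟨z, ⟨hz, ?_, ?_, hbig⟩, he⟩
  · intro g hg
    apply hz.eq_of_mem_zpowers
    rw [← he, ← h2]
    exact mem_centralizer_iff.mpr fun x hx => (hg x hx).symm
  · intro g hg x hx
    have : g ∈ normalizer (Q : Set G) := by
      apply h3
      rw [he]
      refine mem_centralizer_iff.mpr fun y hy => ?_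
      rcases hz.eq_of_mem_zpowers hy with e | e <;> simp [e, hg]
    exact (mem_normalizer_iff.mp this x).mp hx

theorem exists_lhyp_of_large [Finite G] {Q : Subgroup G} (h : Cfsg.IsLargeExtraspecial Q) :
    ∃ z, LHyp Q z ∧ (center Q).map Q.subtype = zpowers z :=
  exists_lhyp h.1 h.2.1 h.2.2.1

namespace LHyp

variable {Q : Subgroup G} {z : G} (h : LHyp Q z)
include h

theorem mem_normalizer [Finite G] {g : G} (hg : g * z = z * g) : g ∈ normalizer (Q : Set G) := by
  refine mem_normalizer_fintype fun x hx => ?_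
  exact h.norm g hg x hx

theorem z_of_normalizer {g : G} (hg : ∀ x ∈ Q, g * x * g⁻¹ ∈ Q) (hg' : ∀ x ∈ Q, g⁻¹ * x * g ∈ Q) :
    g * z = z * g := by
  rcases h.central (hg z h.mem) fun y hy => by
      have e := congrArg (fun w => g * w * g⁻¹) (h.comm _ (hg' y hy))
      calc y * (g * z * g⁻¹) = g * (g⁻¹ * y * g * z) * g⁻¹ := by group
        _ = g * (z * (g⁻¹ * y * g)) * g⁻¹ := e
        _ = g * z * g⁻¹ * y := by group with e | e
  · exact absurd (conj_eq_one_iff.mp e) h.ne_one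
  · exact mul_inv_eq_iff_eq_mul.mp e

theorem z_of_mem_normalizer {g : G} (hg : g ∈ normalizer (Q : Set G)) : g * z = z * g :=
  h.z_of_normalizer (fun x hx => (Subgroup.mem_normalizer_iff.mp hg x).mp hx) fun x hx =>
    (Subgroup.mem_normalizer_iff''.mp hg x).mp hx

theorem map_conj (g : G) : LHyp (Q.map (MulAut.conj g).toMonoidHom) (g * z * g⁻¹) := by
  refine ⟨h.toExt.map_conj g, ?_, ?_, ?_⟩
  · intro a ha
    have := h.cent (g⁻¹ * a * g) fun x hx => by
      have e : a * (g * x * g⁻¹) = g * x * g⁻¹ * a := ha (g * x * g⁻¹) ⟨x, hx, rfl⟩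
      calc g⁻¹ * a * g * x = g⁻¹ * (a * (g * x * g⁻¹)) * g := by group
        _ = g⁻¹ * (g * x * g⁻¹ * a) * g := by rw [e]
        _ = x * (g⁻¹ * a * g) := by group
    rcases this with e | e
    · left
      calc a = g * (g⁻¹ * a * g) * g⁻¹ := by group
        _ = 1 := by rw [e]; group
    · right
      calc a = g * (g⁻¹ * a * g) * g⁻¹ := by group
        _ = g * z * g⁻¹ := by rw [e]
  · rintro a ha _ ⟨x, hx, rfl⟩
    refine ⟨g⁻¹ * a * g * x * (g⁻¹ * a * g)⁻¹, h.norm _ ?_ x hx, ?_⟩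
    · calc g⁻¹ * a * g * z = g⁻¹ * (a * (g * z * g⁻¹)) * g := by group
        _ = g⁻¹ * (g * z * g⁻¹ * a) * g := by rw [ha]
        _ = z * (g⁻¹ * a * g) := by group
    · simp only [MulEquiv.coe_toMonoidHom, MulAut.conj_apply]; group
  · obtain ⟨x, hx, h1, h2⟩ := h.big
    refine ⟨g * x * g⁻¹, ⟨x, hx, rfl⟩, fun e => h1 (conj_eq_one_iff.mp e), fun e => h2 ?_⟩
    exact mul_left_cancel (mul_right_cancel e)

/-- Conjugates of `Q` are determined by the conjugate of `z`. -/
theorem map_conj_congr {a b : G} (e : a * z * a⁻¹ = b * z * b⁻¹) :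
    Q.map (MulAut.conj a).toMonoidHom ≤ Q.map (MulAut.conj b).toMonoidHom := by
  rintro _ ⟨x, hx, rfl⟩
  refine ⟨b⁻¹ * a * x * (b⁻¹ * a)⁻¹, h.norm _ ?_ x hx, ?_⟩
  · calc b⁻¹ * a * z = b⁻¹ * (a * z * a⁻¹) * a := by group
      _ = b⁻¹ * (b * z * b⁻¹) * a := by rw [e]
      _ = z * (b⁻¹ * a) := by group
  · simp only [MulEquiv.coe_toMonoidHom, MulAut.conj_apply]; group

/-- An odd subgroup normalised by `Q` and centralised by `z` is trivial. -/
theorem odd_centralized [Finite G] {K : Subgroup G} (hK : Odd (Nat.card K))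
    (hQK : ∀ x ∈ Q, ∀ k ∈ K, x * k * x⁻¹ ∈ K) {k : G} (hk : k ∈ K) (hkz : k * z = z * k) :
    k = 1 := by
  have hcom : ∀ x ∈ Q, k * x = x * k := by
    intro x hx
    have h1 : k * x * k⁻¹ * x⁻¹ ∈ Q := Q.mul_mem (h.norm k hkz x hx) (Q.inv_mem hx)
    have h2 : k * x * k⁻¹ * x⁻¹ ∈ K := by
      have : k * x * k⁻¹ * x⁻¹ = k * (x * k⁻¹ * x⁻¹) := by group
      rw [this]; exact K.mul_mem hk (hQK x hx _ (K.inv_mem hk))
    exact mul_inv_eq_iff_eq_mul.mp (mul_inv_eq_one.mp (h.eq_one_of_mem_odd hK h2 h1))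
  rcases h.cent k hcom with e | e
  · exact e
  · exact h.eq_one_of_mem_odd hK hk (e ▸ h.mem)

theorem isLarge_of [Finite G]
    (hKz : ∀ K : Subgroup G, Odd (Nat.card K) → (∀ x ∈ Q, ∀ k ∈ K, x * k * x⁻¹ ∈ K) →
      ∀ k ∈ K, k * z = z * k) : Cfsg.IsLargeExtraspecial Q := by
  obtain ⟨x, hx, h1, h2⟩ := h.big
  refine ⟨h.toExt.isExtraspecial hx h1 h2, ?_, ?_, ?_⟩
  · rw [h.center_eq]
    apply le_antisymm
    · intro g hg
      rcases h.cent g fun y hy => (mem_centralizer_iff.mp hg y hy).symm with e | e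
      · simp [e]
      · rw [e]; exact mem_zpowers z
    · rw [zpowers_le]
      exact mem_centralizer_iff.mpr fun y hy => h.comm y hy
  · rw [h.center_eq]
    intro g hg
    exact h.mem_normalizer ((mem_centralizer_iff.mp hg z (mem_zpowers z)).symm)
  · intro K hK hQK
    have hQK' : ∀ x ∈ Q, ∀ k ∈ K, x * k * x⁻¹ ∈ K := fun x hx k hk =>
      (Subgroup.mem_normalizer_iff.mp (hQK hx) k).mp hk
    rw [eq_bot_iff]
    exact fun k hk => mem_bot.mpr (h.odd_centralized hK hQK' hk (hKz K hK hQK' k hk))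

/-- If `z` lies in a 2-subgroup `P` normalised by `k ∈ K`, then `k` centralises `z`. -/
theorem commute_z_of_mem {K P : Subgroup G} (hK : Odd (Nat.card K))
    (hQK : ∀ x ∈ Q, ∀ k ∈ K, x * k * x⁻¹ ∈ K) (hP : IsPGroup 2 P) (hzP : z ∈ P)
    {k : G} (hk : k ∈ K) (hkP : k * z * k⁻¹ ∈ P) : k * z = z * k := by
  have h1 : k * z * k⁻¹ * z⁻¹ ∈ P := P.mul_mem hkP (P.inv_mem hzP)
  have h2 : k * z * k⁻¹ * z⁻¹ ∈ K := by
    have : k * z * k⁻¹ * z⁻¹ = k * (z * k⁻¹ * z⁻¹) := by group
    rw [this]; exact K.mul_mem hk (hQK z h.mem _ (K.inv_mem hk))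
  obtain ⟨n, hn⟩ := hP ⟨_, h1⟩
  have := eq_one_of_mem_odd_of_pow_two hK h2 (n := n) (congrArg Subtype.val hn)
  exact mul_inv_eq_iff_eq_mul.mp (mul_inv_eq_one.mp this)

theorem isLarge_of_mem_twoGroup [Finite G] {P : Subgroup G} [hn : P.Normal] (hP : IsPGroup 2 P)
    (hzP : z ∈ P) : Cfsg.IsLargeExtraspecial Q :=
  h.isLarge_of fun _ hK hQK k hk => h.commute_z_of_mem hK hQK hP hzP hk (hn.conj_mem z hzP k)

/-- The criterion through an involution `b ∈ Q` with `z` in a normal 2-subgroup of `C_G(b)`. -/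
theorem isLarge_of_involution [Finite G] {b : G} (hb : b ∈ Q) (hb1 : b ≠ 1) (hbz : b ≠ z)
    (hbb : b * b = 1) {P : Subgroup G} (hP : IsPGroup 2 P) (hzP : z ∈ P)
    (hCP : ∀ c, c * b = b * c → c * z * c⁻¹ ∈ P) : Cfsg.IsLargeExtraspecial Q := by
  refine h.isLarge_of fun K hK hQK k hk => ?_
  have hfix : ∀ c ∈ K, c * b = b * c → c = 1 := fun c hc hcb =>
    h.odd_centralized hK hQK hc (h.commute_z_of_mem hK hQK hP hzP hc (hCP c hcb))
  have hzfix : ∀ c ∈ K, c * z = z * c → c = 1 := fun c hc hcz => h.odd_centralized hK hQK hc hcz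
  have inv_of : ∀ u ∈ Q, u * u = 1 → (∀ c ∈ K, c * u = u * c → c = 1) →
      ∀ c ∈ K, u * c * u⁻¹ = c⁻¹ := by
    intro u hu huu hf c hc
    let φ : K →* K :=
      { toFun := fun a => ⟨u * a * u⁻¹, hQK u hu a a.2⟩
        map_one' := Subtype.ext (by simp)
        map_mul' := fun a b => Subtype.ext (by simp [mul_assoc]) }
    have hφ : MonoidHom.FixedPointFree φ := fun a ha =>
      Subtype.ext (hf a a.2 (mul_inv_eq_iff_eq_mul.mp (congrArg Subtype.val ha)).symm)
    have h2 : Function.Involutive φ := fun a => Subtype.ext (by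
      show u * (u * a * u⁻¹) * u⁻¹ = a
      calc u * (u * a * u⁻¹) * u⁻¹ = (u * u) * a * (u * u)⁻¹ := by group
        _ = a := by rw [huu]; group)
    have := congrFun (hφ.coe_eq_inv_of_involutive h2) ⟨c, hc⟩
    exact congrArg Subtype.val this
  obtain ⟨q, hq, eq⟩ := h.partner b hb hb1 hbz
  have hzb : ∀ c ∈ K, (z * b) * c = c * (z * b) := by
    intro c hc
    have e1 := inv_of b hb hbb hfix c hc
    have e2 := inv_of z h.mem h.zz hzfix _ (K.inv_mem hc)
    rw [inv_inv] at e2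
    have : (z * b) * c * (z * b)⁻¹ = c := by
      calc (z * b) * c * (z * b)⁻¹ = z * (b * c * b⁻¹) * z⁻¹ := by group
        _ = c := by rw [e1, e2]
    exact mul_inv_eq_iff_eq_mul.mp this
  have hc1 : q⁻¹ * k * q = 1 := by
    have hmem : q⁻¹ * k * q ∈ K := by
      have := hQK q⁻¹ (Q.inv_mem hq) k hk
      rwa [inv_inv] at this
    refine hfix _ hmem ?_
    have e := hzb k hk
    rw [← eq] at e
    calc q⁻¹ * k * q * b = q⁻¹ * (k * (q * b * q⁻¹)) * q := by group
      _ = q⁻¹ * (q * b * q⁻¹ * k) * q := by rw [e]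
      _ = b * (q⁻¹ * k * q) := by group
  have : k = 1 := by
    calc k = q * (q⁻¹ * k * q) * q⁻¹ := by group
      _ = 1 := by rw [hc1]; group
  simp [this]

/-- The key fact: if a conjugate `z' ≠ z` of `z` lies in `Q`, then `z` lies in the conjugate of `Q`. -/
theorem z_mem_conj [Finite G] {g : G} (hgQ : g * z * g⁻¹ ∈ Q) (hgz : g * z * g⁻¹ ≠ z)
    (hcard : 32 ≤ Nat.card Q) : z ∈ Q.map (MulAut.conj g).toMonoidHom := by
  set Q' := Q.map (MulAut.conj g).toMonoidHom with hQ'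
  set z' := g * z * g⁻¹ with hz'
  have h' : LHyp Q' z' := h.map_conj g
  by_contra hz
  have hz'1 : z' ≠ 1 := h'.ne_one
  obtain ⟨q, hq, eq⟩ := h.partner z' hgQ hz'1 hgz
  -- no element of `Q'` maps `z` to `z' z`
  have hB : ∀ y ∈ Q', z * y * z⁻¹ * y⁻¹ = 1 ∨ z * y * z⁻¹ * y⁻¹ = z' → z * y = y * z := by
    intro y hy hc
    rcases hc with e | e
    · exact mul_inv_eq_iff_eq_mul.mp (mul_inv_eq_one.mp e)
    exfalso
    have hyz' : y * z' = z' * y := h'.comm y hy
    have ezy : z * y * z⁻¹ = z' * y := mul_inv_eq_iff_eq_mul.mp e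
    have hzz' : z * z' = z' * z := (h.comm z' hgQ).symm
    have e2 : y⁻¹ * z * y = z' * z := by
      calc y⁻¹ * z * y = y⁻¹ * (z * y * z⁻¹) * z := by group
        _ = y⁻¹ * (z' * y) * z := by rw [ezy]
        _ = y⁻¹ * (y * z') * z := by rw [hyz']
        _ = z' * z := by group
    have e3 : y * z * y⁻¹ = z' * z := by
      calc y * z * y⁻¹ = y * (z' * (z' * z)) * y⁻¹ := by rw [← mul_assoc z', h'.zz, one_mul]
        _ = y * z' * (y⁻¹ * z * y) * y⁻¹ := by rw [e2]; group
        _ = z' * y * (y⁻¹ * z * y) * y⁻¹ := by rw [hyz']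
        _ = z' * z := by group
    have hconj : (q * g) * z * (q * g)⁻¹ = y * z * y⁻¹ := by
      calc (q * g) * z * (q * g)⁻¹ = q * z' * q⁻¹ := by rw [hz']; group
        _ = y * z * y⁻¹ := by rw [eq, e3, hzz']
    have hzy : z ∈ Q.map (MulAut.conj y).toMonoidHom :=
      ⟨y⁻¹ * z * y, by rw [e2]; exact Q.mul_mem hgQ h.mem,
        by simp only [MulEquiv.coe_toMonoidHom, MulAut.conj_apply]; group⟩
    obtain ⟨x, hx, ex⟩ := h.map_conj_congr hconj.symm hzy
    simp only [MulEquiv.coe_toMonoidHom, MulAut.conj_apply] at ex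
    apply hz
    refine ⟨x, hx, ?_⟩
    simp only [MulEquiv.coe_toMonoidHom, MulAut.conj_apply]
    calc g * x * g⁻¹ = q⁻¹ * (q * g * x * (q * g)⁻¹) * q := by group
      _ = q⁻¹ * z * q := by rw [ex]
      _ = z := by rw [mul_assoc, ← h.comm q hq, inv_mul_cancel_left]
  -- the intersection of `Q` and `Q'` is `{1, z'}`
  have hD : ∀ d ∈ Q, d ∈ Q' → d = 1 ∨ d = z' := by
    intro d hd hd'
    have hc : ∀ s ∈ Q, s * z' = z' * s → s * d = d * s := by
      intro s hs hsz
      rcases h.conj s hs d hd with e | e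
      · exact mul_inv_eq_iff_eq_mul.mp e
      · exfalso
        apply hz
        have h1 : s * d * s⁻¹ * d⁻¹ ∈ Q' := Q'.mul_mem (h'.norm s hsz d hd') (Q'.inv_mem hd')
        rwa [e, mul_inv_cancel_right] at h1
    rcases h.double_centralizer hgQ hd hc with e | e | e | e
    · exact Or.inl e
    · exact absurd (e ▸ hd') hz
    · exact Or.inr (by rw [e, h'.inv_z])
    · exfalso
      apply hz
      have h1 : d * z' ∈ Q' := Q'.mul_mem hd' h'.mem
      rwa [e, inv_mul_cancel_right] at h1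
  have hS : ∀ s ∈ Q, s * z' = z' * s → ∀ y ∈ Q', z * y = y * z →
      s * y * s⁻¹ = y ∨ s * y * s⁻¹ = z' * y := by
    intro s hs hsz y hy hyz
    have h1 : s * y * s⁻¹ * y⁻¹ ∈ Q' := Q'.mul_mem (h'.norm s hsz y hy) (Q'.inv_mem hy)
    have h2 : s * y * s⁻¹ * y⁻¹ ∈ Q := by
      have e : s * y * s⁻¹ * y⁻¹ = s * (y * s⁻¹ * y⁻¹) := by group
      rw [e]
      exact Q.mul_mem hs (h.norm y hyz.symm _ (Q.inv_mem hs))
    rcases hD _ h2 h1 with e | e
    · exact Or.inl (mul_inv_eq_one.mp e)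
    · exact Or.inr (mul_inv_eq_iff_eq_mul.mp e)
  obtain ⟨s, hs, hsz, hss⟩ := h.toExt.exists_sqrt hgQ hz'1 hgz hcard
  have hzz' : z * z' = z' * z := (h.comm z' hgQ).symm
  apply hgz
  have hzcent : ∀ x ∈ Q', z * x = x * z := by
    intro x hx
    set a := s * x * s⁻¹ * x⁻¹ with ha
    have haQ : a ∈ Q' := Q'.mul_mem (h'.norm s hsz x hx) (Q'.inv_mem hx)
    -- `a` centralises every element of `Q'` centralised by `z`
    have haT : ∀ y ∈ Q', z * y = y * z → a * y = y * a := by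
      intro y hy hyz
      have hcx : ∀ e : G, e = 1 ∨ e = z' → x * y * x⁻¹ = e * y → a * y = y * a := by
        intro e he exy
        have hse : s * e = e * s := by rcases he with e' | e' <;> simp [e', hsz]
        have hey : ∀ w ∈ Q', e * w = w * e := by
          intro w hw
          rcases he with e' | e' <;> simp [e', h'.comm w hw]
        have e1 : s * (x * y * x⁻¹) * s⁻¹ = e * (s * y * s⁻¹) := by
          calc s * (x * y * x⁻¹) * s⁻¹ = s * e * y * s⁻¹ := by rw [exy]; group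
            _ = e * (s * y * s⁻¹) := by rw [hse]; group
        have e2 : a * (x * (s * y * s⁻¹) * x⁻¹) * a⁻¹ = s * (x * y * x⁻¹) * s⁻¹ := by
          rw [ha]; group
        rcases hS s hs hsz y hy hyz with e3 | e3
        · rw [e1, e3, exy] at e2
          have : e * (a * y * a⁻¹) = e * y := by
            rw [← mul_assoc, ← mul_assoc, hey a haQ, mul_assoc a e y]; exact e2
          exact mul_inv_eq_iff_eq_mul.mp (mul_left_cancel this)
        · rw [e1, e3] at e2
          have e4 : x * (z' * y) * x⁻¹ = z' * (e * y) := by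
            calc x * (z' * y) * x⁻¹ = (x * z') * y * x⁻¹ := by group
              _ = z' * (x * y * x⁻¹) := by rw [h'.comm x hx]; group
              _ = _ := by rw [exy]
          rw [e4] at e2
          have e5 : a * (z' * (e * y)) * a⁻¹ = z' * e * (a * y * a⁻¹) := by
            rw [← mul_assoc z', ← mul_assoc, ← mul_assoc, h'.comm a haQ]
            rw [mul_assoc z' a e, ← hey a haQ]; group
          have e6 : e * (z' * y) = z' * e * y := by rw [← mul_assoc, hey z' h'.mem]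
          rw [e5, e6] at e2
          exact mul_inv_eq_iff_eq_mul.mp (mul_left_cancel e2)
      rcases h'.conj x hx y hy with e | e
      · exact hcx 1 (Or.inl rfl) (by rw [one_mul]; exact e)
      · exact hcx z' (Or.inr rfl) e
    -- `z` acts on `Q'`
    have hzQ' : ∀ w ∈ Q', z * w * z⁻¹ ∈ Q' := h'.norm z hzz'
    have hbT : ∀ w ∈ Q', z * (z * w * z⁻¹ * w⁻¹) = (z * w * z⁻¹ * w⁻¹) * z := by
      intro w hw
      set b := z * w * z⁻¹ * w⁻¹ with hb
      have hbQ : b ∈ Q' := Q'.mul_mem (hzQ' w hw) (Q'.inv_mem hw)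
      apply hB b hbQ
      have : z * b * z⁻¹ * b⁻¹ = (b * b)⁻¹ := by
        have e : z * b * z⁻¹ = b⁻¹ := by
          calc z * b * z⁻¹ = (z * z) * w * (z * z)⁻¹ * (z * w⁻¹ * z⁻¹) := by rw [hb]; group
            _ = b⁻¹ := by rw [h.zz, hb]; group
        rw [e]; group
      rcases h'.sq b hbQ with e | e
      · exact Or.inl (by rw [this, e, inv_one])
      · exact Or.inr (by rw [this, e, h'.inv_z])
    have hzinv := h.inv_z
    have haz : z * a = a * z := by
      apply hB a haQ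
      have hcv : ∀ v ∈ Q', v * (a⁻¹ * (z * a * z⁻¹)) = (a⁻¹ * (z * a * z⁻¹)) * v := by
        intro v hv
        set b := z * v * z⁻¹ * v⁻¹ with hb
        have hbQ : b ∈ Q' := Q'.mul_mem (hzQ' v hv) (Q'.inv_mem hv)
        have hab := haT b hbQ (hbT v hv)
        suffices e0 : (z * a * z⁻¹) * v * (z * a * z⁻¹)⁻¹ = a * v * a⁻¹ by
          calc v * (a⁻¹ * (z * a * z⁻¹)) = a⁻¹ * (a * v * a⁻¹) * (z * a * z⁻¹) := by group
            _ = _ := by rw [← e0]; group
        have key : ∀ e : G, z * e = e * z → b * e = e * b → a * v * a⁻¹ = e * v →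
            (z * a * z⁻¹) * v * (z * a * z⁻¹)⁻¹ = a * v * a⁻¹ := by
          intro e hze hbe he
          calc (z * a * z⁻¹) * v * (z * a * z⁻¹)⁻¹
              = z * (a * (z⁻¹ * v * z) * a⁻¹) * z⁻¹ := by group
            _ = z * (a * (b * v) * a⁻¹) * z⁻¹ := by
              rw [hb, inv_mul_cancel_right]; simp only [hzinv]
            _ = z * ((a * b) * v * a⁻¹) * z⁻¹ := by group
            _ = z * (b * (a * v * a⁻¹)) * z⁻¹ := by rw [hab]; group
            _ = z * (e * (b * v)) * z⁻¹ := by rw [he, ← mul_assoc b e v, hbe, mul_assoc e b v]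
            _ = (z * e) * (b * v) * z⁻¹ := by group
            _ = e * (z * (b * v) * z⁻¹) := by rw [hze]; group
            _ = e * ((z * z) * v * (z * z)⁻¹) := by rw [hb]; group
            _ = a * v * a⁻¹ := by rw [h.zz, he]; group
        rcases h'.conj a haQ v hv with e | e
        · exact key 1 (by simp) (by simp) (by rw [one_mul]; exact e)
        · exact key z' hzz' (h'.comm b hbQ) e
      rcases h'.central (Q'.mul_mem (Q'.inv_mem haQ) (hzQ' a haQ)) hcv with e | e
      · exact Or.inl (by rw [← inv_mul_eq_one.mp e]; group)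
      · refine Or.inr ?_
        rw [inv_mul_eq_iff_eq_mul.mp e, h'.comm a haQ]; group
    have e1 : z * x * z⁻¹ = (s * a * s⁻¹) * a * x := by
      calc z * x * z⁻¹ = (s * s) * x * (s * s)⁻¹ := by rw [hss]
        _ = s * (a * x) * s⁻¹ := by rw [ha]; group
        _ = (s * a * s⁻¹) * (s * x * s⁻¹ * x⁻¹) * x := by group
        _ = _ := by rw [← ha]
    apply hB x hx
    rcases hS s hs hsz a haQ haz with e | e <;> rcases h'.sq a haQ with e' | e'
    · exact Or.inl (by rw [e1, e, e']; group)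
    · exact Or.inr (by rw [e1, e, e']; group)
    · refine Or.inr ?_
      rw [e1, e, mul_assoc z' a a, e']; group
    · refine Or.inl ?_
      rw [e1, e, mul_assoc z' a a, e', h'.zz]; group
  rcases h'.cent z hzcent with e | e
  · exact absurd e h.ne_one
  · exact e.symm

/-- If `z` is not weakly closed in `Q` (of width at least 2) then `Q` is large. -/
theorem isLarge_of_conj [Finite G] {g : G} (hgQ : g * z * g⁻¹ ∈ Q) (hgz : g * z * g⁻¹ ≠ z)
    (hcard : 32 ≤ Nat.card Q) : Cfsg.IsLargeExtraspecial Q :=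
  h.isLarge_of_involution hgQ (h.map_conj g).ne_one hgz (h.map_conj g).zz
    (h.map_conj g).toExt.isPGroup (h.z_mem_conj hgQ hgz hcard)
    fun c hc => (h.map_conj g).norm c hc z (h.z_mem_conj hgQ hgz hcard)

end LHyp

end Cfsg.Agent.LargeExtraspecial
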