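import Mathlib
import Cfsg.Agent.Lib.AN62Gens
import Cfsg.Agent.Lib.LargeExtraspecial

/-!
# S3344: generators adapted to an element of order three and an inverting element

`exists_gens`: generators permuted by `x` in the standard way; `exists_adapted`: after a change of
generators and of the inverting element, the latter acts as in one of the tables.
-/

set_option autoImplicit false
set_option maxRecDepth 100000

namespace Cfsg.Agent.AN62

open Cfsg.Agent.LargeExtraspecial (Ext)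

variable {G : Type*} [Group G]

theorem map_pw (τ : G →* G) (g : G) (c : Bool) : τ (pw g c) = pw (τ g) c := by
  cases c <;> simp [pw]

theorem map_w (τ : G →* G) (e1 e2 e3 e4 z : G) (a : Nat) :
    τ (w e1 e2 e3 e4 z a) = w (τ e1) (τ e2) (τ e3) (τ e4) (τ z) a := by
  simp [w, map_pw]

theorem w_mem {Q : Subgroup G} {e1 e2 e3 e4 z : G} (h1 : e1 ∈ Q) (h2 : e2 ∈ Q) (h3 : e3 ∈ Q)
    (h4 : e4 ∈ Q) (hz : z ∈ Q) (a : Nat) : w e1 e2 e3 e4 z a ∈ Q := by
  have hp : ∀ g ∈ Q, ∀ c, pw g c ∈ Q := fun g hg c => by cases c <;> simp [pw, hg]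
  exact mul_mem (mul_mem (mul_mem (mul_mem (hp _ h1 _) (hp _ h2 _)) (hp _ h3 _)) (hp _ h4 _))
    (hp _ hz _)

variable {Q : Subgroup G} {s x : G}

theorem inv_eq (hQ : Ext Q s) {a : G} (ha : a ∈ Q) : a⁻¹ = a ∨ a⁻¹ = a * s := by
  rcases hQ.sq a ha with h | h
  · exact Or.inl (inv_eq_of_mul_eq_one_right h)
  · exact Or.inr (inv_eq_of_mul_eq_one_right (by rw [← mul_assoc, h, hQ.zz]))

theorem comm_of_sq {a b : G} (ha : a * a = 1) (hb : b * b = 1) (hab : a * b * (a * b) = 1) :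
    a * b = b * a := by
  rw [← inv_eq_of_mul_eq_one_right hab, mul_inv_rev, inv_eq_of_mul_eq_one_right ha,
    inv_eq_of_mul_eq_one_right hb]

variable (hQ : Ext Q s) (hx3 : x * x * x = 1) (hxQ : ∀ q ∈ Q, x * q * x⁻¹ ∈ Q)
  (hxs : x * s = s * x) (hfix : ∀ q ∈ Q, x * q * x⁻¹ = q → q = 1 ∨ q = s)
include hQ hx3 hxQ hxs hfix

/-- The orbit of `x` on `Q` multiplies to a central element. -/
theorem orbit {v : G} (hv : v ∈ Q) :
    x * (x * v * x⁻¹) * x⁻¹ = v * (x * v * x⁻¹) ∨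
      x * (x * v * x⁻¹) * x⁻¹ = v * (x * v * x⁻¹) * s := by
  set b := x * v * x⁻¹ with hb
  set c := x * b * x⁻¹ with hc
  have hbQ : b ∈ Q := hxQ v hv
  have hcQ : c ∈ Q := hxQ b hbQ
  have hcv : x * c * x⁻¹ = v := by
    rw [hc, hb, show x * (x * (x * v * x⁻¹) * x⁻¹) * x⁻¹ = (x * x * x) * v * (x * x * x)⁻¹ by group,
      hx3]
    simp
  set m := v * b * c with hm
  have hmQ : m ∈ Q := mul_mem (mul_mem hv hbQ) hcQ
  have hxm : x * m * x⁻¹ = v⁻¹ * m * v⁻¹⁻¹ := by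
    rw [hm, show x * (v * b * c) * x⁻¹ = (x * v * x⁻¹) * (x * b * x⁻¹) * (x * c * x⁻¹) by group,
      ← hb, ← hc, hcv]
    group
  rcases hQ.conj v⁻¹ (inv_mem hv) m hmQ with e | e
  · rw [e] at hxm
    have hc' : c = (v * b)⁻¹ * m := by rw [hm]; group
    rcases hfix m hmQ hxm with h1 | h1 <;> rcases inv_eq hQ (mul_mem hv hbQ) with h2 | h2
    · left; rw [hc', h1, h2, mul_one]
    · right; rw [hc', h1, h2, mul_one]
    · right; rw [hc', h1, h2]
    · left; rw [hc', h1, h2, mul_assoc (v * b), hQ.zz, mul_one]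
  · exfalso
    rw [e] at hxm
    have hs' : x * s * x⁻¹ = s := by rw [hxs, mul_inv_cancel_right]
    have h3 : (x * x * x) * m * (x * x * x)⁻¹ = s * (s * (s * m)) := by
      calc (x * x * x) * m * (x * x * x)⁻¹ = x * (x * (x * m * x⁻¹) * x⁻¹) * x⁻¹ := by group
        _ = x * (x * (s * m) * x⁻¹) * x⁻¹ := by rw [hxm]
        _ = x * ((x * s * x⁻¹) * (x * m * x⁻¹)) * x⁻¹ := by group
        _ = x * (s * (s * m)) * x⁻¹ := by rw [hs', hxm]
        _ = (x * s * x⁻¹) * (x * s * x⁻¹) * (x * m * x⁻¹) := by group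
        _ = _ := by rw [hs', hxm, mul_assoc]
    rw [hx3, ← mul_assoc s s, hQ.zz, one_mul, inv_one, one_mul, mul_one] at h3
    exact hQ.ne_one (right_eq_mul.1 h3)

/-- Standard generators for `x`. -/
theorem exists_gens {u : G} (hu : u ∈ Q) (hu2 : u * u = 1) (hu1 : u ≠ 1) (hus : u ≠ s) :
    ∃ e1 e2 e3 e4 : G, Rels e1 e2 e3 e4 s ∧ e1 ∈ Q ∧ e2 ∈ Q ∧ e3 ∈ Q ∧ e4 ∈ Q ∧
      x * e1 * x⁻¹ = e3 ∧ x * e3 * x⁻¹ = e1 * e3 ∧ x * e2 * x⁻¹ = e2 * e4 * s ∧
      x * e4 * x⁻¹ = e2 := by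
  have hsc : ∀ q ∈ Q, Commute s q := fun q hq => (hQ.comm q hq).symm
  have hsx : x * s * x⁻¹ = s := by rw [hxs, mul_inv_cancel_right]
  have hx' : x⁻¹ = x * x := inv_eq_of_mul_eq_one_right (by rw [← mul_assoc]; exact hx3)
  have hsx' : x⁻¹ * s * x = s := by rw [mul_assoc, ← hxs, inv_mul_cancel_left]
  have hxQ' : ∀ q ∈ Q, x⁻¹ * q * x ∈ Q := fun q hq => by
    have := hxQ _ (hxQ q hq)
    convert this using 1
    rw [show x * (x * q * x⁻¹) * x⁻¹ = (x * x) * q * (x * x)⁻¹ by group, ← hx', inv_inv]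
  -- the first plane
  obtain ⟨e1, he1, he1sq, he1one, he1s, hx13⟩ : ∃ e1 ∈ Q, e1 * e1 = 1 ∧ e1 ≠ 1 ∧ e1 ≠ s ∧
      x * (x * e1 * x⁻¹) * x⁻¹ = e1 * (x * e1 * x⁻¹) := by
    rcases orbit hQ hx3 hxQ hxs hfix hu with h | h
    · exact ⟨u, hu, hu2, hu1, hus, h⟩
    · refine ⟨u * s, mul_mem hu hQ.mem, ?_, fun e => hus ?_, fun e => hu1 (mul_eq_right.1 e), ?_⟩
      · rw [mul_assoc, ← mul_assoc s, (hsc u hu).eq, mul_assoc, hQ.zz, mul_one, hu2]
      · rw [mul_eq_one_iff_eq_inv.1 e, inv_eq_of_mul_eq_one_right hQ.zz]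
      · calc x * (x * (u * s) * x⁻¹) * x⁻¹
            = (x * (x * u * x⁻¹) * x⁻¹) * (x * (x * s * x⁻¹) * x⁻¹) := by group
          _ = u * (x * u * x⁻¹) * s * s := by rw [h, hsx, hsx]
          _ = u * (s * (x * u * x⁻¹)) * s := by rw [(hsc _ (hxQ u hu)).eq]; simp only [mul_assoc]
          _ = u * s * ((x * u * x⁻¹) * (x * s * x⁻¹)) := by rw [hsx]; simp only [mul_assoc]
          _ = _ := by group
  set e3 := x * e1 * x⁻¹ with he3
  have he3Q : e3 ∈ Q := hxQ e1 he1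
  have he3sq : e3 * e3 = 1 := by rw [he3, conj_mul, he1sq]; simp
  have hsq13 : e1 * e3 * (e1 * e3) = 1 := by rw [← hx13, conj_mul, he3sq]; simp
  have c13 : e1 * e3 = e3 * e1 := comm_of_sq he1sq he3sq hsq13
  have hx1 : x⁻¹ * e3 * x = e1 := by rw [he3]; group
  have hx3' : x⁻¹ * (e1 * e3) * x = e3 := by rw [← hx13]; group
  -- a partner
  obtain ⟨v, hvQ, hv1, hv3⟩ : ∃ v ∈ Q, v * e1 * v⁻¹ = s * e1 ∧ v * e3 * v⁻¹ = e3 := by
    obtain ⟨y, hy, hy1⟩ := hQ.partner e1 he1 he1one he1s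
    rcases hQ.conj y hy e3 he3Q with hy3 | hy3
    · exact ⟨y, hy, hy1, hy3⟩
    · refine ⟨x⁻¹ * y * x, hxQ' y hy, ?_, ?_⟩
      · calc x⁻¹ * y * x * e1 * (x⁻¹ * y * x)⁻¹ = x⁻¹ * (y * (x * e1 * x⁻¹) * y⁻¹) * x := by group
          _ = x⁻¹ * (s * e3) * x := by rw [← he3, hy3]
          _ = (x⁻¹ * s * x) * (x⁻¹ * e3 * x) := by group
          _ = _ := by rw [hsx', hx1]
      · calc x⁻¹ * y * x * e3 * (x⁻¹ * y * x)⁻¹ = x⁻¹ * (y * (x * e3 * x⁻¹) * y⁻¹) * x := by group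
          _ = x⁻¹ * ((y * e1 * y⁻¹) * (y * e3 * y⁻¹)) * x := by rw [hx13]; group
          _ = x⁻¹ * (s * s * (e1 * e3)) * x := by
            rw [hy1, hy3, mul_assoc s e1, ← mul_assoc e1 s, ← (hsc e1 he1).eq]
            simp only [mul_assoc]
          _ = _ := by rw [hQ.zz, one_mul, hx3']
  obtain ⟨e2', he2'Q, he2'sq, h21, h23⟩ : ∃ e2 ∈ Q, e2 * e2 = 1 ∧ e2 * e1 * e2⁻¹ = s * e1 ∧
      e2 * e3 * e2⁻¹ = e3 := by
    rcases hQ.sq v hvQ with h | h
    · exact ⟨v, hvQ, h, hv1, hv3⟩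
    · refine ⟨v * e1, mul_mem hvQ he1, ?_, ?_, ?_⟩
      · calc v * e1 * (v * e1) = (v * e1 * v⁻¹) * (v * v) * e1 := by group
          _ = s * e1 * s * e1 := by rw [hv1, h]
          _ = s * (e1 * s) * e1 := by simp only [mul_assoc]
          _ = s * (s * e1) * e1 := by rw [← (hsc e1 he1).eq]
          _ = 1 := by rw [← mul_assoc, hQ.zz, one_mul, he1sq]
      · calc v * e1 * e1 * (v * e1)⁻¹ = v * e1 * v⁻¹ := by group
          _ = _ := hv1
      · calc v * e1 * e3 * (v * e1)⁻¹ = v * (e1 * e3 * e1⁻¹) * v⁻¹ := by group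
          _ = v * e3 * v⁻¹ := by rw [c13, mul_inv_cancel_right]
          _ = _ := hv3
  have hx42 : x * (x⁻¹ * e2' * x) * x⁻¹ = e2' := by group
  have h4sq : x⁻¹ * e2' * x * (x⁻¹ * e2' * x) = 1 := by
    calc x⁻¹ * e2' * x * (x⁻¹ * e2' * x) = x⁻¹ * (e2' * e2') * x := by group
      _ = 1 := by rw [he2'sq]; group
  -- choose the sign
  obtain ⟨e2, he2, he2sq, k21, k23, hx2⟩ : ∃ e2 ∈ Q, e2 * e2 = 1 ∧ e2 * e1 * e2⁻¹ = s * e1 ∧
      e2 * e3 * e2⁻¹ = e3 ∧ x * e2 * x⁻¹ = e2 * (x⁻¹ * e2 * x) * s ∧ True := by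
    set e4' := x⁻¹ * e2' * x with he4'
    have he4'Q : e4' ∈ Q := hxQ' _ he2'Q
    have horb : x * e2' * x⁻¹ = e4' * e2' ∨ x * e2' * x⁻¹ = e4' * e2' * s := by
      rcases orbit hQ hx3 hxQ hxs hfix he4'Q with h | h <;> rw [hx42] at h
      · exact Or.inl h
      · exact Or.inr h
    have hcm : e4' * e2' = e2' * e4' := by
      refine comm_of_sq h4sq he2'sq ?_
      have hsq : x * e2' * x⁻¹ * (x * e2' * x⁻¹) = 1 := by rw [conj_mul, he2'sq]; simp
      rcases horb with h | h <;> rw [h] at hsq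
      · exact hsq
      · calc e4' * e2' * (e4' * e2') = e4' * e2' * (e4' * e2') * (s * s) := by rw [hQ.zz, mul_one]
          _ = e4' * e2' * s * (e4' * e2' * s) := by
            rw [mul_assoc (e4' * e2') s, ← mul_assoc s (e4' * e2'), (hsc _ (mul_mem he4'Q he2'Q)).eq]
            simp only [mul_assoc]
          _ = 1 := hsq
    rcases horb with h | h
    · refine ⟨e2' * s, mul_mem he2'Q hQ.mem, ?_, ?_, ?_, ?_, trivial⟩
      · rw [mul_assoc, ← mul_assoc s, (hsc _ he2'Q).eq, mul_assoc, hQ.zz, mul_one, he2'sq]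
      · rw [show e2' * s * e1 * (e2' * s)⁻¹ = e2' * (s * e1 * s⁻¹) * e2'⁻¹ by group,
          show s * e1 * s⁻¹ = e1 by rw [(hsc e1 he1).eq, mul_inv_cancel_right], h21]
      · rw [show e2' * s * e3 * (e2' * s)⁻¹ = e2' * (s * e3 * s⁻¹) * e2'⁻¹ by group,
          show s * e3 * s⁻¹ = e3 by rw [(hsc e3 he3Q).eq, mul_inv_cancel_right], h23]
      · calc x * (e2' * s) * x⁻¹ = (x * e2' * x⁻¹) * (x * s * x⁻¹) := by group
          _ = e2' * e4' * s := by rw [h, hsx, hcm]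
          _ = e2' * s * (e4' * s) * s := by
            rw [mul_assoc e2' s, ← mul_assoc s e4', (hsc _ he4'Q).eq, mul_assoc e4' s s, hQ.zz, mul_one]
          _ = e2' * s * (x⁻¹ * (e2' * s) * x) * s := by
            rw [show x⁻¹ * (e2' * s) * x = (x⁻¹ * e2' * x) * (x⁻¹ * s * x) by group, hsx', ← he4']
    · exact ⟨e2', he2'Q, he2'sq, h21, h23, by rw [h, hcm, he4'], trivial⟩
  set e4 := x⁻¹ * e2 * x with he4
  have he4Q : e4 ∈ Q := hxQ' _ he2
  have he4sq : e4 * e4 = 1 := by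
    calc e4 * e4 = x⁻¹ * (e2 * e2) * x := by rw [he4]; group
      _ = 1 := by rw [he2sq]; group
  have hx4 : x * e4 * x⁻¹ = e2 := by rw [he4]; group
  have hx2' : x * e2 * x⁻¹ = e2 * e4 * s := hx2.1
  have c24 : e2 * e4 = e4 * e2 := by
    refine comm_of_sq he2sq he4sq ?_
    have hsq : x * e2 * x⁻¹ * (x * e2 * x⁻¹) = 1 := by rw [conj_mul, he2sq]; simp
    rw [hx2', mul_assoc (e2 * e4), ← mul_assoc s, (hsc _ (mul_mem he2 he4Q)).eq,
      mul_assoc (e2 * e4) s s, hQ.zz, mul_one] at hsq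
    exact hsq
  have k41 : e4 * e1 * e4⁻¹ = e1 := by
    calc e4 * e1 * e4⁻¹ = x⁻¹ * (e2 * (x * e1 * x⁻¹) * e2⁻¹) * x := by rw [he4]; group
      _ = e1 := by rw [← he3, k23, hx1]
  have k43 : e4 * e3 * e4⁻¹ = s * e3 := by
    calc e4 * e3 * e4⁻¹ = x⁻¹ * ((e2 * e1 * e2⁻¹) * (e2 * e3 * e2⁻¹)) * x := by
          rw [conj_mul, ← hx13, he4]; group
      _ = (x⁻¹ * s * x) * (x⁻¹ * (e1 * e3) * x) := by rw [k21, k23]; group
      _ = _ := by rw [hsx', hx3']
  have tw : ∀ a b : G, a ∈ Q → b ∈ Q → a * b * a⁻¹ = s * b → a * b = b * a * s := fun a b ha hb e => by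
    rw [mul_inv_eq_iff_eq_mul.1 e, mul_assoc, (hsc _ (mul_mem hb ha)).eq]
  exact ⟨e1, e2, e3, e4,
    ⟨he1sq, he2sq, he3sq, he4sq, hQ.zz, tw _ _ he2 he1 k21, tw _ _ he4Q he3Q k43, c13,
      (mul_inv_eq_iff_eq_mul.1 k41).symm, mul_inv_eq_iff_eq_mul.1 k23, c24,
      (hsc _ he1).eq, (hsc _ he2).eq, (hsc _ he3Q).eq, (hsc _ he4Q).eq⟩,
    he1, he2, he3Q, he4Q, rfl, hx13, hx2', hx4⟩

/-- Generators adapted to `x` and to an inverting element. -/
theorem exists_adapted (hcard : Nat.card Q = 32) {u : G} (hu : u ∈ Q) (hu2 : u * u = 1) (hu1 : u ≠ 1)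
    (hus : u ≠ s) {y : G} (hyQ : ∀ q ∈ Q, y * q * y⁻¹ ∈ Q) (hys : y * s = s * y)
    (hyx : y * x * y⁻¹ = x⁻¹) (hy2 : y * y = 1 ∨ y * y = s) :
    ∃ (e1 e2 e3 e4 : G) (i : Fin 3) (k : Bool), Rels e1 e2 e3 e4 s ∧
      (∀ q, q ∈ Q ↔ ∃ a < 32, w e1 e2 e3 e4 s a = q) ∧
      (∀ a < 32, x * w e1 e2 e3 e4 s a * x⁻¹ = w e1 e2 e3 e4 s (X a)) ∧
      (∀ a < 32, y * x ^ i.1 * w e1 e2 e3 e4 s a * (y * x ^ i.1)⁻¹ = w e1 e2 e3 e4 s (Sk k a)) := by
  haveI : Finite Q := Nat.finite_of_card_ne_zero (by omega)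
  obtain ⟨d1, d2, d3, d4, r, m1, m2, m3, m4, hx1, hx3', hx2, hx4⟩ :=
    exists_gens hQ hx3 hxQ hxs hfix hu hu2 hu1 hus
  have onto : ∀ {f1 f2 f3 f4 : G}, Rels f1 f2 f3 f4 s → f1 ∈ Q → f2 ∈ Q → f3 ∈ Q → f4 ∈ Q →
      ∀ q, q ∈ Q ↔ ∃ a < 32, w f1 f2 f3 f4 s a = q := by
    intro f1 f2 f3 f4 rf g1 g2 g3 g4 q
    refine ⟨fun hq => ?_, fun ⟨a, _, e⟩ => e ▸ w_mem g1 g2 g3 g4 hQ.mem a⟩
    have hbij : Function.Bijective
        (fun a : Fin 32 => (⟨w f1 f2 f3 f4 s a, w_mem g1 g2 g3 g4 hQ.mem a⟩ : Q)) := by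
      refine ⟨fun a b e => Fin.ext ((rf.w_eq_iff hQ.ne_one a.2 b.2).1 (congrArg Subtype.val e)), ?_⟩
      letI := Fintype.ofFinite Q
      refine Function.Injective.surjective_of_finite (Fintype.equivOfCardEq ?_)
        fun a b e => Fin.ext ((rf.w_eq_iff hQ.ne_one a.2 b.2).1 (congrArg Subtype.val e))
      rw [Fintype.card_fin, ← Nat.card_eq_fintype_card, hcard]
    obtain ⟨a, ha⟩ := hbij.2 ⟨q, hq⟩
    exact ⟨a.1, a.2, congrArg Subtype.val ha⟩
  have hDQ := onto r m1 m2 m3 m4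
  set W := w d1 d2 d3 d4 s with hW
  obtain ⟨g1, g2, g4, g8, g16⟩ := Rels.w_gens (e1 := d1) (e2 := d2) (e3 := d3) (e4 := d4) (z := s)
  have hX : ∀ a, a < 32 → x * W a * x⁻¹ = W (X a) := by
    intro a ha
    have e26 : x * d2 * x⁻¹ = W 26 := by
      have e1' := r.w_mul (a := 2) (b := 8) (by norm_num) (by norm_num)
      have e2' := r.w_mul (a := mq 2 8) (b := 16) (by decide) (by norm_num)
      rw [g2, g8] at e1'
      rw [← e1', g16] at e2'
      rw [hx2, e2']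
      rfl
    have e5 : x * d3 * x⁻¹ = W 5 := by
      have e1' := r.w_mul (a := 1) (b := 4) (by norm_num) (by norm_num)
      rw [g1, g4] at e1'
      rw [hx3', e1']
      rfl
    have := map_w (MulAut.conj x).toMonoidHom d1 d2 d3 d4 s a
    simp only [MulEquiv.coe_toMonoidHom, MulAut.conj_apply] at this
    rw [hx1, e26, e5, hx4, show x * s * x⁻¹ = s by rw [hxs, mul_inv_cancel_right]] at this
    refine this.trans ?_
    have e := r.w_w (p1 := 4) (p2 := 26) (p3 := 5) (p4 := 2) (by norm_num) (by norm_num) (by norm_num)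
      (by norm_num) a
    rw [g4, g2] at e
    exact e
  have hXi : ∀ a, a < 32 → x⁻¹ * W a * x = W (Xi a) := by
    intro a ha
    have h1 : X a < 32 := (img_lt ⟨a, ha⟩).1
    rw [Xi, ← hX _ h1, ← hX _ ha,
      show x⁻¹ = x * x from inv_eq_of_mul_eq_one_right (by rw [← mul_assoc]; exact hx3),
      show x * (x * W a * (x * x)) * (x * x) = x * x * W a * x * (x * x * x) by group, hx3, mul_one]
  -- the codes of the images of the generators under `y`
  obtain ⟨p, hp, ep⟩ := (hDQ _).1 (hyQ d1 m1)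
  obtain ⟨q, hq, eq⟩ := (hDQ _).1 (hyQ d2 m2)
  have hp3 : Xi p < 32 := (img_lt ⟨p, hp⟩).2.1
  have hq4 : X q < 32 := (img_lt ⟨q, hq⟩).1
  set φ := img p q (Xi p) (X q) with hφ
  have hxy : y * x = x⁻¹ * y := mul_inv_eq_iff_eq_mul.1 hyx
  have hxy' : y * x⁻¹ = x * y := by
    rw [← mul_inv_eq_iff_eq_mul, ← inv_inj, mul_inv_rev, mul_inv_rev, inv_inv, inv_inv, ← mul_assoc]
    exact hyx
  have ey3 : y * d3 * y⁻¹ = W (Xi p) := by
    rw [← hXi p hp, ep, ← hx1]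
    calc y * (x * d1 * x⁻¹) * y⁻¹ = (y * x) * d1 * (y * x)⁻¹ := by group
      _ = _ := by rw [hxy]; group
  have ey4 : y * d4 * y⁻¹ = W (X q) := by
    rw [← hX q hq, eq]
    calc y * d4 * y⁻¹ = (y * x⁻¹) * (x * d4 * x⁻¹) * (y * x⁻¹)⁻¹ := by group
      _ = _ := by rw [hx4, hxy']; group
  have hys' : y * s * y⁻¹ = s := by rw [hys, mul_inv_cancel_right]
  have hY : ∀ a, a < 32 → y * W a * y⁻¹ = W (φ a) := by
    intro a _
    have := map_w (MulAut.conj y).toMonoidHom d1 d2 d3 d4 s a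
    simp only [MulEquiv.coe_toMonoidHom, MulAut.conj_apply] at this
    rw [ey3, ey4, hys', show y * d1 * y⁻¹ = W p from ep.symm,
      show y * d2 * y⁻¹ = W q from eq.symm] at this
    exact this.trans (r.w_w hp hq hp3 hq4 a)
  have bnd : ∀ {a b : Nat}, a < 32 → b < 32 → mq a b < 32 := fun ha hb => mq_lt ⟨_, ha⟩ ⟨_, hb⟩
  have sel_lt : ∀ c p, p < 32 → sel c p < 32 := fun c p hp => by cases c <;> simp [sel, hp]
  have img_bnd : ∀ {p1 p2 p3 p4 : Nat}, p1 < 32 → p2 < 32 → p3 < 32 → p4 < 32 → ∀ a,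
      img p1 p2 p3 p4 a < 32 := fun h1 h2 h3 h4 a =>
    bnd (bnd (bnd (bnd (sel_lt _ _ h1) (sel_lt _ _ h2)) (sel_lt _ _ h3)) (sel_lt _ _ h4))
      (sel_lt _ _ (by norm_num))
  have hval : valid p q = true := by
    have hrel : rel p q (Xi p) (X q) = true := by
      have inj : ∀ {a b : Nat}, a < 32 → b < 32 → W a = W b → a = b := fun ha hb =>
        (r.w_eq_iff hQ.ne_one ha hb).1
      have hom : ∀ a b, a < 32 → b < 32 → mq (φ a) (φ b) = φ (mq a b) := fun a b ha hb =>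
        inj (bnd (img_bnd hp hq hp3 hq4 _) (img_bnd hp hq hp3 hq4 _)) (img_bnd hp hq hp3 hq4 _) (by
          rw [hW, ← r.w_mul (img_bnd hp hq hp3 hq4 _) (img_bnd hp hq hp3 hq4 _), ← hW,
            ← hY a ha, ← hY b hb, ← hY _ (bnd ha hb), conj_mul, hW, r.w_mul ha hb])
      have f0 : φ 0 = 0 := inj (img_bnd hp hq hp3 hq4 _) (by norm_num) (by
        rw [← hY 0 (by norm_num), hW, Rels.w_zero]; simp)
      have f1 : φ 1 = p := inj (img_bnd hp hq hp3 hq4 _) hp (by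
        rw [← hY 1 (by norm_num), ep, hW, g1])
      have f2 : φ 2 = q := inj (img_bnd hp hq hp3 hq4 _) hq (by
        rw [← hY 2 (by norm_num), eq, hW, g2])
      have f4 : φ 4 = Xi p := inj (img_bnd hp hq hp3 hq4 _) hp3 (by
        rw [← hY 4 (by norm_num), ← ey3, hW, g4])
      have f8 : φ 8 = X q := inj (img_bnd hp hq hp3 hq4 _) hq4 (by
        rw [← hY 8 (by norm_num), ← ey4, hW, g8])
      have f16 : φ 16 = 16 := inj (img_bnd hp hq hp3 hq4 _) (by norm_num) (by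
        rw [← hY 16 (by norm_num), hW, g16, hys'])
      have e11 := hom 1 1 (by norm_num) (by norm_num)
      have e22 := hom 2 2 (by norm_num) (by norm_num)
      have e33 := hom 4 4 (by norm_num) (by norm_num)
      have e44 := hom 8 8 (by norm_num) (by norm_num)
      have e21 := hom 2 1 (by norm_num) (by norm_num)
      have e12 := hom 1 2 (by norm_num) (by norm_num)
      have e43 := hom 8 4 (by norm_num) (by norm_num)
      have e34 := hom 4 8 (by norm_num) (by norm_num)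
      have eA := hom (mq 1 2) 16 (by decide) (by norm_num)
      have eB := hom (mq 4 8) 16 (by decide) (by norm_num)
      have e13 := (hom 1 4 (by norm_num) (by norm_num)).trans (hom 4 1 (by norm_num) (by norm_num)).symm
      have e14 := (hom 1 8 (by norm_num) (by norm_num)).trans (hom 8 1 (by norm_num) (by norm_num)).symm
      have e23 := (hom 2 4 (by norm_num) (by norm_num)).trans (hom 4 2 (by norm_num) (by norm_num)).symm
      have e24 := (hom 2 8 (by norm_num) (by norm_num)).trans (hom 8 2 (by norm_num) (by norm_num)).symm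
      rw [show mq 1 1 = 0 by decide, f0, f1] at e11
      rw [show mq 2 2 = 0 by decide, f0, f2] at e22
      rw [show mq 4 4 = 0 by decide, f0, f4] at e33
      rw [show mq 8 8 = 0 by decide, f0, f8] at e44
      rw [← e12, f1, f2, f16] at eA
      rw [← e34, f4, f8, f16] at eB
      rw [f2, f1, show mq 2 1 = mq (mq 1 2) 16 by decide, ← eA] at e21
      rw [f8, f4, show mq 8 4 = mq (mq 4 8) 16 by decide, ← eB] at e43
      rw [f1, f4] at e13
      rw [f1, f8] at e14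
      rw [f2, f4] at e23
      rw [f2, f8] at e24
      simp [rel, e11, e22, e33, e44, e21, e43, e13, e14, e23, e24]
    have key : ∀ g, g < 32 → φ (φ g) = g ∧ φ (X g) = Xi (φ g) := by
      intro g hg
      have hgY : φ g < 32 := img_bnd hp hq hp3 hq4 g
      refine ⟨(r.w_eq_iff hQ.ne_one (img_bnd hp hq hp3 hq4 _) hg).1 ?_,
        (r.w_eq_iff hQ.ne_one (img_bnd hp hq hp3 hq4 _) (img_lt ⟨φ g, hgY⟩).2.1).1 ?_⟩
      · show W (φ (φ g)) = W g
        rw [← hY _ hgY, ← hY _ hg,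
          show y * (y * W g * y⁻¹) * y⁻¹ = (y * y) * W g * (y * y)⁻¹ by group]
        rcases hy2 with e | e <;> rw [e]
        · simp
        · rw [(hQ.comm _ (w_mem m1 m2 m3 m4 hQ.mem g)).symm, mul_inv_cancel_right]
      · show W (φ (X g)) = W (Xi (φ g))
        rw [← hY _ (img_lt ⟨g, hg⟩).1, ← hXi _ hgY, ← hY _ hg, ← hX _ hg]
        calc y * (x * W g * x⁻¹) * y⁻¹ = (y * x) * W g * (y * x)⁻¹ := by group
          _ = _ := by rw [hxy]; group
    have k1 := key 1 (by norm_num)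
    have k2 := key 2 (by norm_num)
    have k4 := key 4 (by norm_num)
    have k8 := key 8 (by norm_num)
    simp only [hφ] at k1 k2 k4 k8
    simp [valid, hrel, k1.1, k1.2, k2.1, k2.2, k4.1, k4.2, k8.1, k8.2]
  obtain ⟨a, b, i, k, had⟩ := choices ⟨p, hp⟩ ⟨q, hq⟩ hval
  simp only [adapted, List.zip_cons_cons, List.zip_nil_right, List.all_cons, List.all_nil,
    Bool.and_true, Bool.and_eq_true, beq_iff_eq] at had
  obtain ⟨⟨⟨hr, hxx⟩, hxb⟩, hk1, hk2, hk4, hk8⟩ := had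
  simp only [rel, Bool.and_eq_true, beq_iff_eq] at hr
  obtain ⟨⟨⟨⟨⟨⟨⟨⟨⟨r11, r22⟩, r33⟩, r44⟩, r21⟩, r43⟩, r13⟩, r14⟩, r23⟩, r24⟩ := hr
  have hc : X a < 32 := (img_lt a).1
  have hd : Xi b < 32 := (img_lt b).2.1
  have r' : Rels (W a) (W b) (W (X a)) (W (Xi b)) s := by
    have hs16 : s = W 16 := g16.symm
    refine ⟨?_, ?_, ?_, ?_, hQ.zz, ?_, ?_, ?_, ?_, ?_, ?_, ?_, ?_, ?_, ?_⟩
    · rw [hW, r.w_mul a.2 a.2, r11, Rels.w_zero]
    · rw [hW, r.w_mul b.2 b.2, r22, Rels.w_zero]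
    · rw [hW, r.w_mul hc hc, r33, Rels.w_zero]
    · rw [hW, r.w_mul hd hd, r44, Rels.w_zero]
    · rw [hs16, hW, r.w_mul b.2 a.2, r.w_mul a.2 b.2, r.w_mul (bnd a.2 b.2) (by norm_num), r21]
    · rw [hs16, hW, r.w_mul hd hc, r.w_mul hc hd, r.w_mul (bnd hc hd) (by norm_num), r43]
    · rw [hW, r.w_mul a.2 hc, r.w_mul hc a.2, r13]
    · rw [hW, r.w_mul a.2 hd, r.w_mul hd a.2, r14]
    · rw [hW, r.w_mul b.2 hc, r.w_mul hc b.2, r23]
    · rw [hW, r.w_mul b.2 hd, r.w_mul hd b.2, r24]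
    all_goals exact (hQ.comm _ (w_mem m1 m2 m3 m4 hQ.mem _)).symm
  refine ⟨W a, W b, W (X a), W (Xi b), i, k, r',
    onto r' (w_mem m1 m2 m3 m4 hQ.mem _) (w_mem m1 m2 m3 m4 hQ.mem _) (w_mem m1 m2 m3 m4 hQ.mem _)
      (w_mem m1 m2 m3 m4 hQ.mem _), fun c _ => ?_, fun c _ => ?_⟩
  · have := map_w (MulAut.conj x).toMonoidHom (W a) (W b) (W (X a)) (W (Xi b)) s c
    simp only [MulEquiv.coe_toMonoidHom, MulAut.conj_apply] at this
    rw [this, show x * s * x⁻¹ = s by rw [hxs, mul_inv_cancel_right], hX _ a.2, hX _ b.2, hX _ hc,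
      hX _ hd, hxx, hxb, (img_lt b).2.2.2.2]
    obtain ⟨i1, i2, i4, i8, i16⟩ :=
      Rels.w_gens (e1 := W a) (e2 := W b) (e3 := W (X a)) (e4 := W (Xi b)) (z := s)
    have e := r'.w_w (p1 := 4) (p2 := 26) (p3 := 5) (p4 := 2) (by norm_num) (by norm_num) (by norm_num)
      (by norm_num) c
    have E5 : W (mq a (X a)) = w (W a) (W b) (W (X a)) (W (Xi b)) s 5 := by
      have e1' := r'.w_mul (a := 1) (b := 4) (by norm_num) (by norm_num)
      rw [i1, i4] at e1'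
      have e2' := r.w_mul a.2 hc
      exact e2'.symm.trans e1'
    have E26 : W (mq (mq b (Xi b)) 16) = w (W a) (W b) (W (X a)) (W (Xi b)) s 26 := by
      have e1' := r'.w_mul (a := 2) (b := 8) (by norm_num) (by norm_num)
      have e2' := r'.w_mul (a := mq 2 8) (b := 16) (by decide) (by norm_num)
      rw [i2, i8] at e1'
      rw [← e1', i16] at e2'
      have f1 := r.w_mul b.2 hd
      have f2 := r.w_mul (bnd b.2 hd) (b := 16) (by norm_num)
      rw [← f1, g16] at f2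
      exact f2.symm.trans e2'
    rw [E5, E26]
    rw [i4, i2] at e
    exact e
  · have hXn : ∀ g, g < 32 → x ^ i.1 * W g * (x ^ i.1)⁻¹ = W (Xn i g) ∧ Xn i g < 32 := by
      intro g hg
      fin_cases i
      · simp [Xn, hg]
      · simp only [pow_one, Xn]
        exact ⟨hX g hg, (img_lt ⟨g, hg⟩).1⟩
      · refine ⟨?_, (img_lt ⟨g, hg⟩).2.1⟩
        show x ^ 2 * W g * (x ^ 2)⁻¹ = W (Xi g)
        rw [← hXi g hg, pow_two, show x * x = x⁻¹ from (inv_eq_of_mul_eq_one_right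
          (by rw [← mul_assoc]; exact hx3)).symm, inv_inv]
    have hYi : ∀ g, g < 32 → y * x ^ i.1 * W g * (y * x ^ i.1)⁻¹ = W (φ (Xn i g)) := fun g hg => by
      rw [← hY _ (hXn g hg).2, ← (hXn g hg).1]; group
    have := map_w (MulAut.conj (y * x ^ i.1)).toMonoidHom (W a) (W b) (W (X a)) (W (Xi b)) s c
    simp only [MulEquiv.coe_toMonoidHom, MulAut.conj_apply] at this
    rw [this, hYi _ a.2, hYi _ b.2, hYi _ hc, hYi _ hd]
    have hsx : x ^ i.1 * s = s * x ^ i.1 := (show Commute x s from hxs).pow_left i.1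
    rw [show y * x ^ i.1 * s * (y * x ^ i.1)⁻¹ = y * (x ^ i.1 * s * (x ^ i.1)⁻¹) * y⁻¹ by group, hsx,
      mul_inv_cancel_right, hys', hφ, hk1, hk2, hk4, hk8]
    have ww : ∀ g, W (img a b (X a) (Xi b) g) = w (W a) (W b) (W (X a)) (W (Xi b)) s g := fun g =>
      (r.w_w a.2 b.2 hc hd g).symm
    rw [ww, ww, ww, ww]
    cases k
    · exact r'.w_w (show S0 1 < 32 by decide) (show S0 2 < 32 by decide) (show S0 4 < 32 by decide)
        (show S0 8 < 32 by decide) c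
    · exact r'.w_w (show S2 1 < 32 by decide) (show S2 2 < 32 by decide) (show S2 4 < 32 by decide)
        (show S2 8 < 32 by decide) c

end Cfsg.Agent.AN62
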