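import Mathlib
import Cfsg.Prelude.Def_Solvable
import Cfsg.Prelude.Def_Transfer
import Cfsg.Agent.Lib.AN62Adapt
import Cfsg.Agent.Lib.HallCore

/-!
# S3344: the centralizer of the involution is one of the four tables

`exists_frame`: under the hypotheses of S3344 there is a frame with central involution `s`, and a member of
the extraspecial group other than `s` is conjugate to `s`.
-/

set_option autoImplicit false
set_option maxRecDepth 100000

namespace Cfsg.Agent.AN62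

open Cfsg.Agent.AN82 (Kind Ix Frame ix zI inQ)

theorem perm_three : ∀ c t : Equiv.Perm (Fin 3),
    (c * c * c = 1 → Equiv.Perm.sign c = 1) ∧
      (c * c * c = 1 → Equiv.Perm.sign t = -1 → t * t = 1 ∧ t * c * t⁻¹ = c⁻¹) := by
  decide +kernel

theorem perm_three_inj : ∀ c t : Equiv.Perm (Fin 3), c * c * c = 1 → c ≠ 1 →
    Equiv.Perm.sign t = -1 → ∀ i i' : Fin 3, ∀ j j' : Fin 2,
      c ^ i.1 * t ^ j.1 = c ^ i'.1 * t ^ j'.1 → i = i' ∧ j = j' := by
  decide +kernel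

variable {G : Type*} [Group G]

/-- A frame, from adapted generators. -/
theorem exists_frame_of_gens [Finite G] {s e1 e2 e3 e4 x y : G} (r : Rels e1 e2 e3 e4 s)
    (hs1 : s ≠ 1) (hx3 : x * x * x = 1) (hxs : x * s = s * x) (hys : y * s = s * y)
    (hyx : y * x * y⁻¹ = x⁻¹) (c : Bool) (hy2 : y * y = pw s c) (kb : Bool)
    (hX : ∀ a < 32, x * w e1 e2 e3 e4 s a * x⁻¹ = w e1 e2 e3 e4 s (X a))
    (hY : ∀ a < 32, y * w e1 e2 e3 e4 s a * y⁻¹ = w e1 e2 e3 e4 s (Sk kb a))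
    (hL : ∀ a < 32, w e1 e2 e3 e4 s a * s = s * w e1 e2 e3 e4 s a)
    (hcard : Nat.card (Subgroup.centralizer ({s} : Set G)) = 192)
    (hind : ∀ i i' : Fin 3, ∀ j j' : Fin 2, ∀ a < 32, ∀ a' < 32,
      w e1 e2 e3 e4 s a * x ^ i.1 * y ^ j.1 = w e1 e2 e3 e4 s a' * x ^ i'.1 * y ^ j'.1 →
        i = i' ∧ j = j') :
    ∃ F : Frame (kindOf kb c) G, F.z = s ∧
      ∀ a < 32, F.f (ix (6 * a)) = w e1 e2 e3 e4 s a := by
  classical
  set W := w e1 e2 e3 e4 s with hW
  have hWmul : ∀ {a b : Nat}, a < 32 → b < 32 → W a * W b = W (mq a b) := fun ha hb => r.w_mul ha hb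
  have bnd : ∀ {a b : Nat}, a < 32 → b < 32 → mq a b < 32 := fun ha hb => mq_lt ⟨_, ha⟩ ⟨_, hb⟩
  let f : Ix → G := fun m => W (m.1 / 6) * x ^ (m.1 / 2 % 3) * y ^ (m.1 % 2)
  -- the small part times anything
  have hsmall : ∀ i j i' j' q : Nat, i < 3 → j < 2 → i' < 3 → j' < 2 → q < 32 →
      x ^ i * y ^ j * (W q * x ^ i' * y ^ j') =
        W (mq (Xn i (if j == 1 then Sk kb q else q))
            (bif c && j == 1 && j' == 1 then 16 else 0)) *
          x ^ ((i + (if j == 1 then 3 - i' else i')) % 3) * y ^ ((j + j') % 2) := by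
    intro i j i' j' q hi hj hi' hj' hq
    set e := if j == 1 then 3 - i' else i' with he
    set cc := c && j == 1 && j' == 1 with hcc
    set q₁ := if j == 1 then Sk kb q else q with hq₁
    have hq₁l : q₁ < 32 := by
      rw [hq₁]
      split
      · cases kb
        · exact (img_lt ⟨q, hq⟩).2.2.1
        · exact (img_lt ⟨q, hq⟩).2.2.2.1
      · exact hq
    have hq₂l : Xn i q₁ < 32 := by
      interval_cases i
      · exact hq₁l
      · exact (img_lt ⟨q₁, hq₁l⟩).1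
      · exact (img_lt ⟨q₁, hq₁l⟩).2.1
    have hyW : y ^ j * W q = W q₁ * y ^ j := by
      interval_cases j
      · simp [hq₁]
      · simp only [pow_one, hq₁]
        rw [← mul_inv_eq_iff_eq_mul]
        exact hY q hq
    have hxW : x ^ i * W q₁ = W (Xn i q₁) * x ^ i := by
      interval_cases i
      · simp [Xn]
      · simp only [pow_one]
        rw [← mul_inv_eq_iff_eq_mul]
        exact hX q₁ hq₁l
      · rw [← mul_inv_eq_iff_eq_mul, pow_two]
        show x * x * W q₁ * (x * x)⁻¹ = W (Xi q₁)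
        rw [Xi, ← hX _ (img_lt ⟨q₁, hq₁l⟩).1, ← hX q₁ hq₁l]
        group
    have hsc : ∀ n : Nat, x ^ n * pw s cc = pw s cc * x ^ n := fun n => by
      cases cc
      · simp [pw]
      · exact ((show Commute x s from hxs).pow_left n).eq
    have hyx' : ∀ n, n < 3 → y * x ^ n = x ^ (3 - n) * y := by
      intro n hn
      have h1 : y * x = x ^ 2 * y := by
        rw [← mul_inv_eq_iff_eq_mul, hyx, pow_two]
        exact inv_eq_of_mul_eq_one_right (by rw [← mul_assoc]; exact hx3)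
      interval_cases n
      · simp [pow_succ, hx3]
      · simpa using h1
      · rw [pow_two, ← mul_assoc, h1, mul_assoc, h1, ← mul_assoc, ← pow_add]
        simp [pow_succ, hx3]
    have hmid : y ^ j * (x ^ i' * y ^ j') = pw s cc * x ^ (e % 3) * y ^ ((j + j') % 2) := by
      interval_cases j
      · simp [he, hcc, pw, Nat.mod_eq_of_lt hi', Nat.mod_eq_of_lt hj']
      · have hmod : x ^ ((3 - i') % 3) = x ^ (3 - i') :=
          (pow_eq_pow_mod (3 - i') (by rw [pow_succ, pow_two]; exact hx3)).symm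
        simp only [he, beq_self_eq_true, ↓reduceIte, hmod]
        rw [pow_one, ← mul_assoc, hyx' i' hi']
        interval_cases j'
        · simp [hcc, pw]
        · rw [mul_assoc, pow_one, hy2,
            show pw s cc = pw s c from by rw [hcc]; simp]
          simp only [show (1 + 1) % 2 = 0 from rfl, pow_zero, mul_one]
          cases c
          · simp [pw]
          · exact ((show Commute x s from hxs).pow_left _).eq
    have hcc' : W (bif cc then 16 else 0) = pw s cc := by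
      cases cc
      · exact Rels.w_zero
      · exact Rels.w_gens.2.2.2.2
    calc x ^ i * y ^ j * (W q * x ^ i' * y ^ j')
        = x ^ i * (y ^ j * W q) * (x ^ i' * y ^ j') := by simp only [mul_assoc]
      _ = (x ^ i * W q₁) * (y ^ j * (x ^ i' * y ^ j')) := by rw [hyW]; simp only [mul_assoc]
      _ = W (Xn i q₁) * (x ^ i * pw s cc) * x ^ (e % 3) * y ^ ((j + j') % 2) := by
        rw [hxW, hmid]; simp only [mul_assoc]
      _ = W (Xn i q₁) * pw s cc * (x ^ i * x ^ (e % 3)) * y ^ ((j + j') % 2) := by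
        rw [hsc]; simp only [mul_assoc]
      _ = W (mq (Xn i q₁) (bif cc then 16 else 0)) * x ^ ((i + e) % 3) * y ^ ((j + j') % 2) := by
        rw [← hcc', hWmul hq₂l (by cases cc <;> simp), ← pow_add,
          pow_eq_pow_mod (i + e % 3) (show x ^ 3 = 1 by rw [pow_succ, pow_two]; exact hx3),
          Nat.add_mod_mod]
  have hmul : ∀ a b, f (AN82.mul (kindOf kb c) a b) = f a * f b := by
    intro a b
    rw [AN62.mul_split]
    set m := AN82.mul (kindOf kb c) (ix (a.1 % 6)) b with hm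
    have hq : a.1 / 6 < 32 := by omega
    have htop := mul_top (kindOf kb c) ⟨a.1 / 6, hq⟩ m
    have hmval : m.1 = mulF kb c (a.1 % 6) b.1 :=
      mul_small kb c ⟨a.1 % 6, Nat.mod_lt _ (by norm_num)⟩ b
    have hm6 : m.1 / 6 < 32 := by omega
    have h1 : f (AN82.mul (kindOf kb c) (ix (6 * (a.1 / 6))) m) = W (a.1 / 6) * f m := by
      show W ((AN82.mul (kindOf kb c) (ix (6 * (a.1 / 6))) m).1 / 6) * _ * _ = _
      rw [htop]
      simp only
      rw [show (6 * mq (a.1 / 6) (m.1 / 6) + m.1 % 6) / 6 = mq (a.1 / 6) (m.1 / 6) by omega,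
        show (6 * mq (a.1 / 6) (m.1 / 6) + m.1 % 6) / 2 % 3 = m.1 / 2 % 3 by omega,
        show (6 * mq (a.1 / 6) (m.1 / 6) + m.1 % 6) % 2 = m.1 % 2 by omega, ← hWmul hq hm6]
      simp only [f, mul_assoc]
    rw [h1]
    show _ = W (a.1 / 6) * x ^ (a.1 / 2 % 3) * y ^ (a.1 % 2) *
      (W (b.1 / 6) * x ^ (b.1 / 2 % 3) * y ^ (b.1 % 2))
    rw [mul_assoc (W (a.1 / 6)) (x ^ (a.1 / 2 % 3)), mul_assoc (W (a.1 / 6)),
      hsmall _ _ _ _ _ (Nat.mod_lt _ (by norm_num)) (Nat.mod_lt _ (by norm_num))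
        (Nat.mod_lt _ (by norm_num)) (Nat.mod_lt _ (by norm_num)) (by omega)]
    congr 1
    show W (m.1 / 6) * _ * _ = _
    rw [hmval]
    simp only [mulF]
    rw [show a.1 % 6 % 2 = a.1 % 2 by omega, show a.1 % 6 / 2 % 3 = a.1 / 2 % 3 by omega,
      show a.1 % 6 / 6 = 0 by omega]
    set Φ := Xn (a.1 / 2 % 3) (if (a.1 % 2 == 1) = true then Sk kb (b.1 / 6) else b.1 / 6)
    set C := (bif c && a.1 % 2 == 1 && b.1 % 2 == 1 then 16 else 0)
    have hΦ : Φ < 32 := by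
      have h6 : b.1 / 6 < 32 := by omega
      have hq1 : (if (a.1 % 2 == 1) = true then Sk kb (b.1 / 6) else b.1 / 6) < 32 := by
        split
        · cases kb
          · exact (img_lt ⟨_, h6⟩).2.2.1
          · exact (img_lt ⟨_, h6⟩).2.2.2.1
        · exact h6
      show Xn _ _ < 32
      unfold Xn
      split
      · exact hq1
      split
      · exact (img_lt ⟨_, hq1⟩).1
      · exact (img_lt ⟨_, hq1⟩).2.1
    rw [(mq_zero ⟨Φ, hΦ⟩).1]
    simp only
    have hI0 : (a.1 / 2 % 3 + (if (a.1 % 2 == 1) = true then 3 - b.1 / 2 % 3 else b.1 / 2 % 3)) % 3 < 3 :=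
      Nat.mod_lt _ (by norm_num)
    generalize (a.1 / 2 % 3 + (if (a.1 % 2 == 1) = true then 3 - b.1 / 2 % 3 else b.1 / 2 % 3)) % 3 = I
      at *
    rename' Φ => Φ'
    have hI : 2 * I + (a.1 % 2 + b.1 % 2) % 2 < 6 := by omega
    rw [show (6 * mq Φ' C + 2 * I + (a.1 % 2 + b.1 % 2) % 2) / 6 = mq Φ' C by omega,
      show (6 * mq Φ' C + 2 * I + (a.1 % 2 + b.1 % 2) % 2) / 2 % 3 = I by omega,
      show (6 * mq Φ' C + 2 * I + (a.1 % 2 + b.1 % 2) % 2) % 2 = (a.1 % 2 + b.1 % 2) % 2 by omega]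
  have hmem : ∀ a, f a ∈ Subgroup.centralizer ({s} : Set G) := by
    intro a
    refine mul_mem (mul_mem ?_ (pow_mem ?_ _)) (pow_mem ?_ _) <;>
      rw [Subgroup.mem_centralizer_singleton_iff]
    · exact hL _ (by omega)
    · exact hxs
    · exact hys
  have hinj : Function.Injective f := by
    intro a b e
    have h := hind ⟨a.1 / 2 % 3, Nat.mod_lt _ (by norm_num)⟩ ⟨b.1 / 2 % 3, Nat.mod_lt _ (by norm_num)⟩
      ⟨a.1 % 2, Nat.mod_lt _ (by norm_num)⟩ ⟨b.1 % 2, Nat.mod_lt _ (by norm_num)⟩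
      (a.1 / 6) (by omega) (b.1 / 6) (by omega) e
    simp only [Fin.ext_iff] at h
    simp only [f, h.1, h.2] at e
    have e6 := (r.w_eq_iff hs1 (by omega) (by omega)).1 (mul_right_cancel (mul_right_cancel e))
    exact Fin.ext (by omega)
  have hbij : Function.Bijective
      (fun a : Ix => (⟨f a, hmem a⟩ : Subgroup.centralizer ({s} : Set G))) := by
    letI := Fintype.ofFinite (Subgroup.centralizer ({s} : Set G))
    have hi : Function.Injective
        (fun a : Ix => (⟨f a, hmem a⟩ : Subgroup.centralizer ({s} : Set G))) :=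
      fun a b e => hinj (congrArg Subtype.val e)
    exact ⟨hi, hi.surjective_of_finite (Fintype.equivOfCardEq (by
      rw [Fintype.card_fin, ← Nat.card_eq_fintype_card, hcard]))⟩
  have hfz : f zI = s := by
    show W (96 / 6) * x ^ (96 / 2 % 3) * y ^ (96 % 2) = s
    rw [pow_zero, pow_zero, mul_one, mul_one]
    exact Rels.w_gens.2.2.2.2
  refine ⟨⟨f, hinj, hmul, fun g => ?_⟩, hfz, fun a ha => ?_⟩
  · rw [hfz, ← Subgroup.mem_centralizer_singleton_iff]
    refine ⟨fun hg => ?_, ?_⟩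
    · obtain ⟨i, hi⟩ := hbij.2 ⟨g, hg⟩
      exact ⟨i, congrArg Subtype.val hi⟩
    · rintro ⟨i, rfl⟩
      exact hmem i
  · show W ((6 * a) % 192 / 6) * x ^ ((6 * a) % 192 / 2 % 3) * y ^ ((6 * a) % 192 % 2) = W a
    rw [show (6 * a) % 192 / 6 = a by omega, show (6 * a) % 192 / 2 % 3 = 0 by omega,
      show (6 * a) % 192 % 2 = 0 by omega]
    simp

/-- Under the hypotheses of S3344 the centralizer of `s` is one of the four tables. -/
theorem exists_frame [Finite G]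
    (s : G) (hs : orderOf s = 2) (L : Subgroup G) (hL : L = Subgroup.centralizer ({s} : Set G))
    (Q : Subgroup G) (hQ : Q = (Cfsg.pCore 2 L).map L.subtype)
    (hQex : Cfsg.IsExtraspecial 2 Q) (hQcard : Nat.card Q = 32)
    (e : L ⧸ Cfsg.pCore 2 L ≃* Equiv.Perm (Fin 3))
    (X : Sylow 3 L) (hCQX : Q ⊓ Subgroup.centralizer
      (((X : Subgroup L).map L.subtype : Subgroup G) : Set G) = Subgroup.zpowers s)
    (hnwc : ∃ g : G, g * s * g⁻¹ ∈ Q ∧ g * s * g⁻¹ ≠ s) :
    ∃ (k : Kind) (F : Frame k G), F.z = s ∧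
      ∃ u : Ix, inQ u = true ∧ u ≠ zI ∧ IsConj F.z (F.f u) := by
  classical
  haveI : Fact (Nat.Prime 3) := ⟨Nat.prime_three⟩
  haveI : (Cfsg.pCore 2 L).Normal := HallCore.pCore_normal 2 L
  have hsL : ∀ g ∈ L, g * s = s * g := fun g hg =>
    Subgroup.mem_centralizer_singleton_iff.1 (hL ▸ hg)
  have hQL : Q ≤ L := hQ ▸ Subgroup.map_subtype_le _
  have hsQ : s ∈ Q := (hCQX.ge (Subgroup.mem_zpowers s)).1
  have hs1 : s ≠ 1 := fun e1 => by rw [e1, orderOf_one] at hs; omega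
  have hs2 : s * s = 1 := by rw [← pow_two, ← hs, pow_orderOf_eq_one]
  obtain ⟨z, hext, -, -⟩ := LargeExtraspecial.exists_ext hQex
  have hzs : z = s := by
    by_contra hne
    obtain ⟨t, ht, hts⟩ := hext.partner s hsQ hs1 (Ne.symm hne)
    rw [hsL t (hQL ht), mul_inv_cancel_right] at hts
    exact hext.ne_one (right_eq_mul.1 hts)
  rw [hzs] at hext
  let π : L →* Equiv.Perm (Fin 3) := e.toMonoidHom.comp (QuotientGroup.mk' (Cfsg.pCore 2 L))
  have hπsurj : Function.Surjective π := e.surjective.comp (QuotientGroup.mk'_surjective _)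
  have hπker : ∀ g : L, π g = 1 ↔ (g : G) ∈ Q := by
    intro g
    show e (QuotientGroup.mk' (Cfsg.pCore 2 L) g) = 1 ↔ _
    rw [EmbeddingLike.map_eq_one_iff, QuotientGroup.mk'_apply, QuotientGroup.eq_one_iff, hQ]
    exact ⟨fun hg => ⟨g, hg, rfl⟩, fun ⟨g', hg', e'⟩ => Subtype.ext e' ▸ hg'⟩
  have hcore : Nat.card (Cfsg.pCore 2 L) = 32 := by
    rw [← hQcard, hQ, Subgroup.card_map_of_injective Subtype.val_injective]
  have hcardL : Nat.card L = 192 := by
    rw [Subgroup.card_eq_card_quotient_mul_card_subgroup (Cfsg.pCore 2 L), hcore,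
      Nat.card_congr e.toEquiv, Nat.card_perm, Nat.card_fin]
    rfl
  -- a generator of the Sylow `3`-subgroup
  obtain ⟨n, hn⟩ := IsPGroup.iff_card.1 X.2
  have hn1 : n = 1 := by
    have hd : 3 ^ n ∣ 192 := hn ▸ hcardL ▸ Subgroup.card_subgroup_dvd_card (X : Subgroup L)
    have hni : ¬ 3 ∣ (X : Subgroup L).index := X.not_dvd_index
    have hmi := (X : Subgroup L).card_mul_index
    rw [hn, hcardL] at hmi
    rcases n with _ | _ | n
    · exfalso
      rw [pow_zero, one_mul] at hmi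
      rw [hmi] at hni
      exact hni (by norm_num)
    · rfl
    · exfalso
      have : 3 ^ 2 ∣ 192 := (pow_dvd_pow 3 (by omega)).trans hd
      norm_num at this
  rw [hn1, pow_one] at hn
  haveI : Nontrivial (X : Subgroup L) := Finite.one_lt_card_iff_nontrivial.1 (by rw [hn]; norm_num)
  obtain ⟨⟨xL, hxX⟩, hx1⟩ := exists_ne (1 : (X : Subgroup L))
  have hxL1 : xL ≠ 1 := fun e1 => hx1 (Subtype.ext e1)
  have hX : (X : Subgroup L) = Subgroup.zpowers xL := by
    refine (Subgroup.eq_of_le_of_card_ge (Subgroup.zpowers_le.2 hxX) ?_).symm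
    rw [hn, Nat.card_zpowers]
    have : orderOf (⟨xL, hxX⟩ : (X : Subgroup L)) = 3 := by
      rcases (Nat.dvd_prime Nat.prime_three).1
        (hn ▸ orderOf_dvd_natCard (⟨xL, hxX⟩ : (X : Subgroup L))) with h1 | h3
      · exact absurd (orderOf_eq_one_iff.1 h1) hx1
      · exact h3
    rw [← this, ← Subgroup.orderOf_coe]
  have hxL3 : xL * xL * xL = 1 := by
    have h1 : xL ^ Nat.card (X : Subgroup L) = 1 :=
      congrArg Subtype.val (pow_card_eq_one' (x := (⟨xL, hxX⟩ : (X : Subgroup L))))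
    rw [hn, pow_succ, pow_two] at h1
    exact h1
  set x := (xL : G) with hxdef
  have hx3 : x * x * x = 1 := congrArg Subtype.val hxL3
  have hQn : ∀ g : L, ∀ q ∈ Q, (g : G) * q * (g : G)⁻¹ ∈ Q := by
    intro g q hq
    rw [hQ] at hq ⊢
    obtain ⟨q', hq', rfl⟩ := hq
    exact ⟨g * q' * g⁻¹, (inferInstance : (Cfsg.pCore 2 L).Normal).conj_mem q' hq' g, rfl⟩
  have hxnQ : x ∉ Q := by
    intro hxQ
    obtain ⟨k, hk⟩ := hQex.1.1 ⟨x, hxQ⟩
    have h2 : x ^ 2 ^ k = 1 := congrArg Subtype.val hk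
    have h3 : x ^ 3 = 1 := by rw [pow_succ, pow_two]; exact hx3
    refine hxL1 (Subtype.ext (orderOf_eq_one_iff.1 ?_))
    exact Nat.eq_one_of_dvd_coprimes ((Nat.coprime_primes Nat.prime_two Nat.prime_three).2
      (by norm_num) |>.pow_left k) (orderOf_dvd_of_pow_eq_one h2) (orderOf_dvd_of_pow_eq_one h3)
  have hfix : ∀ q ∈ Q, x * q * x⁻¹ = q → q = 1 ∨ q = s := by
    intro q hq hqx
    have hmem : q ∈ Subgroup.zpowers s := by
      rw [← hCQX]
      refine ⟨hq, Subgroup.mem_centralizer_iff.2 ?_⟩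
      rintro _ ⟨t, ht, rfl⟩
      rw [hX] at ht
      obtain ⟨i, rfl⟩ := ht
      have hc : Commute x q := mul_inv_eq_iff_eq_mul.1 hqx
      exact (hc.zpow_left i).eq
    obtain ⟨i, rfl⟩ := hmem
    rcases Int.even_or_odd i with ⟨j, rfl⟩ | ⟨j, rfl⟩
    · left
      show s ^ (j + j) = 1
      rw [← two_mul, zpow_mul, zpow_two, hs2, one_zpow]
    · right
      show s ^ (2 * j + 1) = s
      rw [zpow_add, zpow_mul, zpow_two, hs2, one_zpow, one_mul, zpow_one]
  -- an inverting element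
  set M : Subgroup L := (Equiv.Perm.sign.comp π).ker with hM
  haveI : M.Normal := MonoidHom.normal_ker _
  have hπc : π xL * π xL * π xL = 1 := by rw [← map_mul, ← map_mul, hxL3, map_one]
  have hπc1 : π xL ≠ 1 := fun e1 => hxnQ ((hπker xL).1 e1)
  have hXM : (X : Subgroup L) ≤ M := by
    rw [hX, Subgroup.zpowers_le, hM, MonoidHom.mem_ker]
    exact (perm_three (π xL) 1).1 hπc
  obtain ⟨yL, hyN, hysgn⟩ : ∃ yL ∈ Subgroup.normalizer ((X : Subgroup L) : Set L),
      Equiv.Perm.sign (π yL) = -1 := by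
    by_contra hcon
    push Not at hcon
    have hNM : Subgroup.normalizer ((X : Subgroup L) : Set L) ≤ M := fun g hg => by
      rw [hM, MonoidHom.mem_ker]
      exact (Int.units_eq_one_or _).resolve_right (hcon g hg)
    have hF := Sylow.normalizer_sup_eq_top (X.subtype hXM)
    rw [Sylow.coe_subtype, Subgroup.map_subgroupOf_eq_of_le hXM, sup_eq_right.2 hNM] at hF
    obtain ⟨g, hg⟩ := hπsurj (Equiv.swap 0 1)
    have : g ∈ M := hF ▸ Subgroup.mem_top g
    rw [hM, MonoidHom.mem_ker, MonoidHom.comp_apply, hg, Equiv.Perm.sign_swap (by decide)] at this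
    exact absurd this (by decide)
  obtain ⟨hπy2, hπyx⟩ := (perm_three (π xL) (π yL)).2 hπc hysgn
  set y₀ := (yL : G) with hy₀
  have hXQ : ∀ t : L, t ∈ (X : Subgroup L) → π t = 1 → t = 1 := by
    intro t ht h1
    rw [hX] at ht
    obtain ⟨i, rfl⟩ := ht
    show xL ^ i = 1
    have h1' : π xL ^ i = 1 := by rw [← map_zpow]; exact h1
    rw [← orderOf_dvd_iff_zpow_eq_one] at h1' ⊢
    have e1 : orderOf (π xL) = 3 := orderOf_eq_prime (by rw [pow_succ, pow_two]; exact hπc) hπc1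
    have e2 : orderOf xL = 3 := orderOf_eq_prime (by rw [pow_succ, pow_two]; exact hxL3) hxL1
    rwa [e2, ← e1]
  have hyx : y₀ * x * y₀⁻¹ = x⁻¹ := by
    have h1 : yL * xL * yL⁻¹ ∈ (X : Subgroup L) := (Subgroup.mem_normalizer_iff.1 hyN xL).1 hxX
    have h2 := hXQ _ (mul_mem h1 hxX)
      (by rw [map_mul, map_mul, map_mul, map_inv, hπyx, inv_mul_cancel])
    exact congrArg Subtype.val (eq_inv_of_mul_eq_one_left h2 : yL * xL * yL⁻¹ = xL⁻¹)
  have hyQ2 : y₀ * y₀ ∈ Q := (hπker (yL * yL)).1 (by rw [map_mul]; exact hπy2)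
  have hy2 : y₀ * y₀ = 1 ∨ y₀ * y₀ = s := by
    refine hfix _ hyQ2 ?_
    have h1 : y₀ * y₀ * x * (y₀ * y₀)⁻¹ = x := by
      calc y₀ * y₀ * x * (y₀ * y₀)⁻¹ = y₀ * (y₀ * x * y₀⁻¹) * y₀⁻¹ := by group
        _ = y₀ * x⁻¹ * y₀⁻¹ := by rw [hyx]
        _ = (y₀ * x * y₀⁻¹)⁻¹ := by group
        _ = x := by rw [hyx, inv_inv]
    calc x * (y₀ * y₀) * x⁻¹ = (y₀ * y₀ * x * (y₀ * y₀)⁻¹) * (y₀ * y₀) * x⁻¹ := by rw [h1]
      _ = y₀ * y₀ := by group
  -- a conjugate of `s`
  obtain ⟨g, hgQ, hgs⟩ := hnwc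
  set u := g * s * g⁻¹ with hu
  have hu2 : u * u = 1 := by rw [hu, conj_mul, hs2]; simp
  have hu1 : u ≠ 1 := fun e1 => hs1 (conj_eq_one_iff.1 e1)
  obtain ⟨e1, e2, e3, e4, i, kb, r, honto, hXa, hYa⟩ :=
    exists_adapted hext hx3 (hQn xL) (hsL _ xL.2) hfix hQcard hgQ hu2 hu1 hgs
      (hQn yL) (hsL _ yL.2) hyx hy2
  set y := y₀ * x ^ i.1 with hy
  have hys : y * s = s * y := hsL _ (L.mul_mem yL.2 (L.pow_mem xL.2 _))
  have hyx' : y * x * y⁻¹ = x⁻¹ := by
    calc y * x * y⁻¹ = y₀ * (x ^ i.1 * x * (x ^ i.1)⁻¹) * y₀⁻¹ := by rw [hy]; group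
      _ = y₀ * x * y₀⁻¹ := by rw [← pow_succ, pow_succ', mul_inv_cancel_right]
      _ = x⁻¹ := hyx
  have hyy : y * y = y₀ * y₀ := by
    have h1 : y₀ * x ^ i.1 * y₀⁻¹ = (x ^ i.1)⁻¹ := by
      rw [← conj_pow, hyx, inv_pow]
    have h2 : x ^ i.1 * y₀ = y₀ * (x ^ i.1)⁻¹ := by
      have := congrArg Inv.inv h1
      rw [inv_inv, mul_inv_rev, mul_inv_rev, inv_inv, ← mul_assoc] at this
      exact (mul_inv_eq_iff_eq_mul.1 this).symm
    calc y * y = y₀ * (x ^ i.1 * y₀) * x ^ i.1 := by rw [hy]; group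
      _ = y₀ * y₀ := by rw [h2]; group
  obtain ⟨c, hc⟩ : ∃ c, y * y = pw s c := by
    rcases hy2 with h1 | h1
    · exact ⟨false, by rw [hyy, h1]; rfl⟩
    · exact ⟨true, by rw [hyy, h1]; rfl⟩
  have hwQ : ∀ a < 32, w e1 e2 e3 e4 s a ∈ Q := fun a ha => (honto _).2 ⟨a, ha, rfl⟩
  obtain ⟨F, hFz, hFq⟩ := exists_frame_of_gens r hs1 hx3 (hsL _ xL.2) hys hyx' c hc kb hXa hYa
    (fun a ha => hsL _ (hQL (hwQ a ha))) (by rw [← hL, hcardL]) (by
      intro i1 i2 j1 j2 a ha a' ha' heq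
      set yL' : L := yL * xL ^ i.1 with hyL'
      have heq' : (⟨_, hQL (hwQ a ha)⟩ : L) * xL ^ i1.1 * yL' ^ j1.1 =
          (⟨_, hQL (hwQ a' ha')⟩ : L) * xL ^ i2.1 * yL' ^ j2.1 :=
        Subtype.ext (by simpa [hyL'] using heq)
      have := congrArg π heq'
      simp only [map_mul, map_pow, (hπker ⟨_, hQL (hwQ a ha)⟩).2 (hwQ a ha),
        (hπker ⟨_, hQL (hwQ a' ha')⟩).2 (hwQ a' ha'), one_mul] at this
      refine perm_three_inj (π xL) (π yL') hπc hπc1 ?_ i1 i2 j1 j2 this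
      rw [hyL', map_mul, map_pow, map_mul, map_pow, hysgn, (perm_three (π xL) 1).1 hπc, one_pow,
        mul_one])
  obtain ⟨a, ha, hau⟩ := (honto u).1 hgQ
  refine ⟨_, F, hFz, ix (6 * a), ?_, ?_, ?_⟩
  · simp only [inQ, ix, beq_iff_eq]
    omega
  · intro e1
    have h16 : a = 16 := by
      have := congrArg Fin.val e1
      simp only [ix, zI] at this
      omega
    rw [h16, Rels.w_gens.2.2.2.2] at hau
    exact hgs hau.symm
  · rw [hFz, hFq a ha, hau]
    exact isConj_iff.2 ⟨g, rfl⟩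

end Cfsg.Agent.AN62
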