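import Cfsg.Agent.Lib.AN82Frame

/-!
# S3344: the element cycling a fused four-group

If the central involution `z` is conjugate to `u` in the extraspecial subgroup and the common centralizer
has order `32`, then `z` lies in the extraspecial subgroup of the centralizer of `u`.
-/

set_option autoImplicit false
set_option maxRecDepth 100000

namespace Cfsg.Agent.AN82

/-- The size of a centralizer inside a table. -/
noncomputable def cnum (k : Kind) (u : Ix) : Nat := (Finset.univ.filter fun i => comm k i u = true).card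

theorem big_class_facts : ∀ k : Kind, ∀ w : Ix, mul k w w = 0 → w ≠ 0 → w ≠ zI → cnum k w = 32 →
    inQ w = true ∧ (∃ q : Ix, inQ q = true ∧ cj k q w = mul k zI w) ∧
      mul k zI w ≠ zI ∧ comm k (mul k zI w) w = true := by
  decide +kernel

namespace Frame

variable {k : Kind} {G : Type*} [Group G] (F : Frame k G)

theorem z_comm (a : Ix) : F.f a * F.z = F.z * F.f a :=
  F.commute_iff.2 ((zI_facts k).2 a)

/-- The common centralizer of `z` and a member is inside the table. -/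
theorem both_commute_iff {u : Ix} {g : G} :
    (g * F.z = F.z * g ∧ g * F.f u = F.f u * g) ↔ ∃ i, comm k i u = true ∧ F.f i = g := by
  constructor
  · rintro ⟨h1, h2⟩
    obtain ⟨i, rfl⟩ := F.exists_of_commute h1
    exact ⟨i, F.commute_iff.1 h2, rfl⟩
  · rintro ⟨i, hi, rfl⟩
    exact ⟨F.z_comm i, F.commute_iff.2 hi⟩

theorem exists_partner {u : Ix} {g : G} (hg : g * F.z * g⁻¹ = F.f u) :
    ∃ w : Ix, g * F.f w * g⁻¹ = F.z ∧ cnum k w = cnum k u := by
  have hc : g⁻¹ * F.z * g * F.z = F.z * (g⁻¹ * F.z * g) := by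
    have h := F.z_comm u
    rw [← hg] at h
    calc g⁻¹ * F.z * g * F.z = g⁻¹ * (F.z * (g * F.z * g⁻¹)) * g := by group
      _ = g⁻¹ * ((g * F.z * g⁻¹) * F.z) * g := by rw [h]
      _ = _ := by group
  obtain ⟨w, hw⟩ := F.exists_of_commute hc
  have hw' : g * F.f w * g⁻¹ = F.z := by rw [hw]; group
  refine ⟨w, hw', ?_⟩
  classical
  -- conjugation by `g` maps the centralizer of `w` onto that of `u`
  have hto : ∀ i : Ix, comm k i w = true → ∃ j, comm k j u = true ∧ F.f j = g * F.f i * g⁻¹ := by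
    intro i hi
    refine F.both_commute_iff.1 ⟨?_, ?_⟩
    · rw [← hw']
      simp only [mul_assoc, inv_mul_cancel_left, mul_inv_cancel_left]
      rw [← mul_assoc (F.f i) (F.f w), F.commute_iff.2 hi, mul_assoc]
    · rw [← hg]
      simp only [mul_assoc, inv_mul_cancel_left]
      rw [← mul_assoc (F.f i) F.z, F.z_comm, mul_assoc]
  have hfrom : ∀ j : Ix, comm k j u = true → ∃ i, comm k i w = true ∧ F.f i = g⁻¹ * F.f j * g := by
    intro j hj
    refine F.both_commute_iff.1 ⟨?_, ?_⟩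
    · have h := F.commute_iff.2 hj
      rw [← hg] at h
      calc g⁻¹ * F.f j * g * F.z = g⁻¹ * (F.f j * (g * F.z * g⁻¹)) * g := by group
        _ = g⁻¹ * ((g * F.z * g⁻¹) * F.f j) * g := by rw [h]
        _ = _ := by group
    · rw [hw]
      calc g⁻¹ * F.f j * g * (g⁻¹ * F.z * g) = g⁻¹ * (F.f j * F.z) * g := by group
        _ = g⁻¹ * (F.z * F.f j) * g := by rw [F.z_comm j]
        _ = _ := by group
  choose φ hφ1 hφ2 using hto
  choose ψ hψ1 hψ2 using hfrom
  refine Finset.card_bij' (fun i hi => φ i (Finset.mem_filter.1 hi).2)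
    (fun j hj => ψ j (Finset.mem_filter.1 hj).2) ?_ ?_ ?_ ?_
  · exact fun i hi => Finset.mem_filter.2 ⟨Finset.mem_univ _, hφ1 _ _⟩
  · exact fun i hi => Finset.mem_filter.2 ⟨Finset.mem_univ _, hψ1 _ _⟩
  · intro i hi
    apply F.inj
    rw [hψ2, hφ2]
    group
  · intro i hi
    apply F.inj
    rw [hφ2, hψ2]
    group

/-- An element of the extraspecial subgroup of `C(u)` exchanging `z` and `z u`. -/
theorem exists_swap {u : Ix} {g : G} (hu : u ≠ zI) (h32 : cnum k u = 32)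
    (hg : g * F.z * g⁻¹ = F.f u) :
    ∃ q : Ix, inQ q = true ∧ (g * F.f q * g⁻¹) * F.f u = F.f u * (g * F.f q * g⁻¹) ∧
      (g * F.f q * g⁻¹) * F.z * (g * F.f q * g⁻¹)⁻¹ = F.f u * F.z := by
  obtain ⟨w, hw, hcard⟩ := F.exists_partner hg
  rw [h32] at hcard
  have hw2 : mul k w w = 0 := by
    rw [← F.sq_eq_one_iff]
    have h := F.z_sq
    rw [← hw] at h
    calc F.f w * F.f w = g⁻¹ * (g * F.f w * g⁻¹ * (g * F.f w * g⁻¹)) * g := by group
      _ = 1 := by rw [h]; group
  have hw0 : w ≠ 0 := by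
    rintro rfl
    refine F.z_ne_one ?_
    rw [← hw, F.map_one]; group
  have hwz : w ≠ zI := by
    rintro rfl
    exact hu (F.inj (hg.symm.trans hw))
  obtain ⟨-, ⟨q, hq, hcj⟩, -, -⟩ := big_class_facts k w hw2 hw0 hwz hcard
  refine ⟨q, hq, ?_, ?_⟩
  · rw [← hg]
    calc g * F.f q * g⁻¹ * (g * F.z * g⁻¹) = g * (F.f q * F.z) * g⁻¹ := by group
      _ = g * (F.z * F.f q) * g⁻¹ := by rw [F.z_comm q]
      _ = _ := by group
  · have h := F.map_cj q w
    rw [hcj, F.map_mul] at h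
    calc g * F.f q * g⁻¹ * F.z * (g * F.f q * g⁻¹)⁻¹
        = g * F.f q * g⁻¹ * (g * F.f w * g⁻¹) * (g * F.f q * g⁻¹)⁻¹ := by rw [hw]
      _ = g * (F.f q * F.f w * (F.f q)⁻¹) * g⁻¹ := by group
      _ = g * (F.f zI * F.f w) * g⁻¹ := by rw [← h]
      _ = (g * F.z * g⁻¹) * (g * F.f w * g⁻¹) := by rw [Frame.z]; group
      _ = _ := by rw [hw, hg]

/-- With an element of the extraspecial subgroup moving `u` to `z u`, an element cycling
`z`, `u`, `z u`; it normalises the common centralizer. -/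
theorem exists_cycle {u a : Ix} {g : G} (hu : u ≠ zI) (h32 : cnum k u = 32)
    (hg : g * F.z * g⁻¹ = F.f u) (ha : cj k a u = mul k zI u) :
    ∃ q : Ix, inQ q = true ∧
      (F.f a * (g * F.f q * g⁻¹)) * F.z * (F.f a * (g * F.f q * g⁻¹))⁻¹ = F.f u ∧
      (F.f a * (g * F.f q * g⁻¹)) * F.f u * (F.f a * (g * F.f q * g⁻¹))⁻¹ = F.f (mul k zI u) ∧
      ∀ c : Ix, comm k c u = true → ∃ c' : Ix, comm k c' u = true ∧
        (F.f a * (g * F.f q * g⁻¹)) * F.f c * (F.f a * (g * F.f q * g⁻¹))⁻¹ = F.f c' := by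
  obtain ⟨q, hq, hbu, hbz⟩ := F.exists_swap hu h32 hg
  set b := g * F.f q * g⁻¹ with hb
  have hau : F.f a * F.f u * (F.f a)⁻¹ = F.z * F.f u := by rw [← F.map_cj, ha, F.map_mul]; rfl
  have haz : F.f a * F.z * (F.f a)⁻¹ = F.z := by rw [F.z_comm a]; group
  have hu' : b * F.f u * b⁻¹ = F.f u := by rw [hbu]; group
  set h := F.f a * b with hh
  have h1 : h * F.z * h⁻¹ = F.f u := by
    calc h * F.z * h⁻¹ = F.f a * (b * F.z * b⁻¹) * (F.f a)⁻¹ := by rw [hh]; group
      _ = F.f a * (F.f u * F.z) * (F.f a)⁻¹ := by rw [hbz]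
      _ = (F.f a * F.f u * (F.f a)⁻¹) * (F.f a * F.z * (F.f a)⁻¹) := by group
      _ = F.z * F.f u * F.z := by rw [hau, haz]
      _ = F.f u * (F.z * F.z) := by rw [← F.z_comm u]; group
      _ = _ := by rw [F.z_sq, mul_one]
  have h2 : h * F.f u * h⁻¹ = F.f (mul k zI u) := by
    calc h * F.f u * h⁻¹ = F.f a * (b * F.f u * b⁻¹) * (F.f a)⁻¹ := by rw [hh]; group
      _ = F.z * F.f u := by rw [hu', hau]
      _ = _ := by rw [F.map_mul]; rfl
  refine ⟨q, hq, h1, h2, fun c hc => ?_⟩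
  have e1 : Commute (h * F.f c * h⁻¹) (F.f u) :=
    h1 ▸ (Commute.conj_iff h).2 (F.z_comm c)
  have e2 : Commute (h * F.f c * h⁻¹) (F.f (mul k zI u)) :=
    h2 ▸ (Commute.conj_iff h).2 (F.commute_iff.2 hc)
  have e3 : Commute (h * F.f c * h⁻¹) F.z := by
    have := e2.mul_right e1.inv_right
    rwa [F.map_mul, mul_inv_cancel_right] at this
  obtain ⟨c', hc', he⟩ := F.both_commute_iff.1 ⟨e3.eq, e1.eq⟩
  exact ⟨c', hc', he.symm⟩

end Frame

end Cfsg.Agent.AN82
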