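import Cfsg.Agent.Lib.AN63Data
import Cfsg.Agent.Lib.AN82Swap

/-!
# S3344: the action of an involution exchanging `z` with a member of a plane
-/

set_option autoImplicit false
set_option maxRecDepth 100000

namespace Cfsg.Agent.AN63

open Cfsg.Agent.AN82

/-- `n` acts on the members of `l` as `m`. -/
def Acts {G : Type*} [Group G] (F : Frame 0 G) (n : G) (l : List Ix) (m : Ix → Ix) : Prop :=
  ∀ x ∈ l, n * F.f x * n⁻¹ = F.f (m x)

/-- The candidates for the images of the generators. -/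
noncomputable def Spec.cand (s : Spec) : List Ix := s.T.filter fun x => !(x == 0) && mul 0 x x == 0

/-- Commutation is kept. -/
noncomputable def Spec.pre (s : Spec) (a b : Ix) (i j : Nat) : Bool :=
  comm 0 a b == comm 0 (s.g.getD i 0) (s.g.getD j 0)

/-- The assignment is inverse to itself. -/
noncomputable def Spec.okInv (s : Spec) (m : List Ix) : Bool :=
  [0, 1, 2].all fun i => ev m (s.word (m.getD i 0)) == s.g.getD i 0

/-- The assignment extends to a homomorphism. -/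
noncomputable def Spec.okHom (s : Spec) (m : List Ix) : Bool :=
  s.T.all fun t => [0, 1, 2, 3].all fun i =>
    ev m (s.word (mul 0 t (s.g.getD i 0))) == mul 0 (ev m (s.word t)) (m.getD i 0)

/-- After a change by a member of the centralizer the action is one of the two. -/
noncomputable def Spec.found (s : Spec) (m : List Ix) : Bool :=
  s.T.any fun c => mul 0 (ev m (s.word c)) c == 0 &&
    ((s.T.all fun x => s.T.elem (cj 0 c x) && ev m (s.word (cj 0 c x)) == s.A x) ||
      (s.T.all fun x => s.T.elem (cj 0 c x) && ev m (s.word (cj 0 c x)) == s.B x))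

/-- The two sets of data. -/
def specs : List Spec := [spec0, spec1]

theorem spec_cases : ∀ s ∈ specs, ∀ a ∈ s.cand, ∀ b ∈ s.cand, s.pre a b 0 1 = true →
    ∀ c ∈ s.cand, s.pre a c 0 2 = true → s.pre b c 1 2 = true → s.okInv [a, b, c, zI] = true →
    s.okHom [a, b, c, zI] = true → s.found [a, b, c, zI] = true := by decide +kernel

theorem spec_u : ∀ s ∈ specs, s.u ≠ zI ∧ cnum 0 s.u = 32 ∧ (∃ a, cj 0 a s.u = mul 0 zI s.u) ∧
    s.g.getD 3 0 = s.u := by decide +kernel

theorem spec_T : ∀ s ∈ specs, ∀ x : Ix, x ∈ s.T ↔ comm 0 x s.u = true := by decide +kernel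

theorem spec_word : ∀ s ∈ specs, (∀ x ∈ s.T, ev s.g (s.word x) = x ∧ ∀ i ∈ s.word x, i < 4) ∧
    (∀ i < 3, s.g.getD i 0 ∈ s.T ∧ mul 0 (s.g.getD i 0) (s.g.getD i 0) = 0 ∧ s.g.getD i 0 ≠ 0) ∧
    ∀ x ∈ s.T, ∀ i < 4, mul 0 x (s.g.getD i 0) ∈ s.T := by decide +kernel

theorem swap_facts : ∀ w : Ix, mul 0 w w = 0 → w ≠ 0 → w ≠ zI → cnum 0 w = 32 →
    ∃ q : Ix, mul 0 q q = 0 ∧ cj 0 q w = mul 0 zI w := by decide +kernel

variable {G : Type*} [Group G] (F : Frame 0 G)

/-- An involution exchanging `z` with `u` and normalising the centralizer. -/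
theorem exists_invol {s : Spec} (hs : s ∈ specs) (hz : IsConj F.z (F.f s.u)) :
    ∃ n : G, n * n = 1 ∧ n * F.z * n⁻¹ = F.f s.u ∧
      ∀ x ∈ s.T, ∃ y ∈ s.T, n * F.f x * n⁻¹ = F.f y := by
  obtain ⟨hu, h32, ⟨a, ha⟩, -⟩ := spec_u s hs
  obtain ⟨g, hg⟩ := isConj_iff.1 hz
  obtain ⟨w, hw, hcard⟩ := F.exists_partner hg
  rw [h32] at hcard
  have hw2 : mul 0 w w = 0 := by
    rw [← F.sq_eq_one_iff]
    have h := F.z_sq
    rw [← hw] at h
    calc F.f w * F.f w = g⁻¹ * (g * F.f w * g⁻¹ * (g * F.f w * g⁻¹)) * g := by group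
      _ = 1 := by rw [h]; group
  have hw0 : w ≠ 0 := by
    rintro rfl
    exact F.z_ne_one (by rw [← hw, F.map_one]; group)
  have hwz : w ≠ zI := by
    rintro rfl
    exact hu (F.inj (hg.symm.trans hw))
  obtain ⟨q, hq2, hcj⟩ := swap_facts w hw2 hw0 hwz hcard
  set b := g * F.f q * g⁻¹ with hb
  have hb2 : b * b = 1 := by
    calc b * b = g * (F.f q * F.f q) * g⁻¹ := by rw [hb]; group
      _ = 1 := by rw [F.sq_eq_one_iff.2 hq2]; group
  have hbu : b * F.f s.u * b⁻¹ = F.f s.u := by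
    rw [← hg, hb]
    calc g * F.f q * g⁻¹ * (g * F.z * g⁻¹) * (g * F.f q * g⁻¹)⁻¹
        = g * (F.f q * F.z) * (F.f q)⁻¹ * g⁻¹ := by group
      _ = g * (F.z * F.f q) * (F.f q)⁻¹ * g⁻¹ := by rw [F.z_comm q]
      _ = _ := by group
  have hbz : b * F.z * b⁻¹ = F.f s.u * F.z := by
    have h := F.map_cj q w
    rw [hcj, F.map_mul] at h
    calc b * F.z * b⁻¹ = b * (g * F.f w * g⁻¹) * b⁻¹ := by rw [hw]
      _ = g * (F.f q * F.f w * (F.f q)⁻¹) * g⁻¹ := by rw [hb]; group
      _ = (g * F.z * g⁻¹) * (g * F.f w * g⁻¹) := by rw [← h, Frame.z]; group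
      _ = _ := by rw [hw, hg]
  have hau : F.f a * F.f s.u * (F.f a)⁻¹ = F.z * F.f s.u := by rw [← F.map_cj, ha, F.map_mul]; rfl
  have haz : F.f a * F.z * (F.f a)⁻¹ = F.z := by rw [F.z_comm a]; group
  set n := F.f a * b * (F.f a)⁻¹ with hn
  have hn2 : n * n = 1 := by
    calc n * n = F.f a * (b * b) * (F.f a)⁻¹ := by rw [hn]; group
      _ = 1 := by rw [hb2]; group
  have h1 : n * F.z * n⁻¹ = F.f s.u := by
    have haz' : (F.f a)⁻¹ * F.z * F.f a = F.z := by rw [mul_assoc, ← F.z_comm a]; group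
    calc n * F.z * n⁻¹ = F.f a * (b * ((F.f a)⁻¹ * F.z * F.f a) * b⁻¹) * (F.f a)⁻¹ := by rw [hn]; group
      _ = (F.f a * F.f s.u * (F.f a)⁻¹) * (F.f a * F.z * (F.f a)⁻¹) := by rw [haz', hbz]; group
      _ = F.f s.u * (F.z * F.z) := by rw [hau, haz, ← F.z_comm s.u]; group
      _ = _ := by rw [F.z_sq, mul_one]
  have h2 : n * F.f s.u * n⁻¹ = F.z := by
    rw [← h1]
    calc n * (n * F.z * n⁻¹) * n⁻¹ = (n * n) * F.z * (n * n)⁻¹ := by group
      _ = F.z := by rw [hn2]; group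
  refine ⟨n, hn2, h1, fun x hx => ?_⟩
  have e1 : Commute (n * F.f x * n⁻¹) (F.f s.u) := h1 ▸ (Commute.conj_iff n).2 (F.z_comm x)
  have e2 : Commute (n * F.f x * n⁻¹) F.z :=
    h2 ▸ (Commute.conj_iff n).2 (F.commute_iff.2 ((spec_T s hs x).1 hx))
  obtain ⟨y, hy, he⟩ := F.both_commute_iff.1 ⟨e2.eq, e1.eq⟩
  exact ⟨y, (spec_T s hs y).2 hy, he.symm⟩

/-- Up to a change by a member of the centralizer there are two possible actions. -/
theorem classify {s : Spec} (hs : s ∈ specs) (hz : IsConj F.z (F.f s.u)) :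
    ∃ n : G, n * n = 1 ∧ (Acts F n s.T s.A ∨ Acts F n s.T s.B) := by
  classical
  obtain ⟨n, hn2, hnz, hnorm⟩ := exists_invol F hs hz
  obtain ⟨-, -, -, hg3⟩ := spec_u s hs
  obtain ⟨hW, hG, hmulT⟩ := spec_word s hs
  have hni : n⁻¹ = n := inv_eq_of_mul_eq_one_right hn2
  choose φ hφT hφ using hnorm
  obtain ⟨ha, ha2, ha0⟩ := hG 0 (by norm_num)
  obtain ⟨hb, hb2, hb0⟩ := hG 1 (by norm_num)
  obtain ⟨hc, hc2, hc0⟩ := hG 2 (by norm_num)
  set a := φ _ ha with hadef
  set b := φ _ hb with hbdef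
  set c := φ _ hc with hcdef
  set m : List Ix := [a, b, c, zI] with hm
  have hgen : ∀ i < 4, n * F.f (s.g.getD i 0) * n⁻¹ = F.f (m.getD i 0) := by
    intro i hi
    interval_cases i
    · exact hφ _ ha
    · exact hφ _ hb
    · exact hφ _ hc
    · have h : F.z = n * F.f s.u * n⁻¹ := by
        rw [← hnz]
        calc F.z = (n * n) * F.z * (n * n)⁻¹ := by rw [hn2]; group
          _ = _ := by group
      rw [hg3]
      simpa [hm, Frame.z] using h.symm
  have hev : ∀ w : List Nat, (∀ i ∈ w, i < 4) →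
      n * F.f (ev s.g w) * n⁻¹ = F.f (ev m w) := by
    intro w hw
    have key : ∀ (l : List Nat), (∀ i ∈ l, i < 4) → ∀ p p' : Ix, n * F.f p * n⁻¹ = F.f p' →
        n * F.f (l.foldl (fun x i => mul 0 x (s.g.getD i 0)) p) * n⁻¹ =
          F.f (l.foldl (fun x i => mul 0 x (m.getD i 0)) p') := by
      intro l
      induction l with
      | nil => exact fun _ p p' h => h
      | cons i l ih =>
        intro hl p p' h
        refine ih (fun j hj => hl j (List.mem_cons_of_mem _ hj)) _ _ ?_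
        rw [F.map_mul, F.map_mul, ← h, ← hgen i (hl i List.mem_cons_self)]
        group
    exact key w hw 0 0 (by rw [F.map_one]; group)
  have himg : ∀ x ∈ s.T, n * F.f x * n⁻¹ = F.f (ev m (s.word x)) := fun x hx => by
    have h := hev _ (hW x hx).2
    rwa [(hW x hx).1] at h
  have hcand : ∀ {x : Ix} (hx : x ∈ s.T), mul 0 x x = 0 → x ≠ 0 → φ x hx ∈ s.cand := by
    intro x hx hx2 hx0
    refine List.mem_filter.2 ⟨hφT x hx, ?_⟩
    simp only [Bool.and_eq_true, Bool.not_eq_true', beq_eq_false_iff_ne, beq_iff_eq]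
    refine ⟨fun e => ?_, ?_⟩
    · have h := hφ x hx
      rw [e, F.map_one, conj_eq_one_iff, F.eq_one_iff] at h
      exact hx0 h
    · rw [← F.sq_eq_one_iff, ← hφ x hx]
      calc n * F.f x * n⁻¹ * (n * F.f x * n⁻¹) = n * (F.f x * F.f x) * n⁻¹ := by group
        _ = 1 := by rw [F.sq_eq_one_iff.2 hx2]; group
  have hpre : ∀ {i j : Nat} {p p' : Ix}, i < 4 → j < 4 → m.getD i 0 = p → m.getD j 0 = p' →
      s.pre p p' i j = true := by
    intro i j p p' hi hj hp hp'
    rw [Spec.pre, beq_iff_eq, Bool.eq_iff_iff, ← F.commute_iff, ← F.commute_iff, ← hp, ← hp',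
      ← hgen i hi, ← hgen j hj]
    exact (Commute.conj_iff n)
  have hinv : s.okInv m = true := by
    simp only [Spec.okInv, List.all_eq_true, beq_iff_eq]
    intro i hi
    have hi3 : i < 3 := by simp only [List.mem_cons, List.not_mem_nil, or_false] at hi; omega
    have hmem : m.getD i 0 ∈ s.T := by interval_cases i <;> simp [hm, hadef, hbdef, hcdef, hφT]
    refine F.inj ?_
    rw [← himg _ hmem, ← hgen i (by omega)]
    calc n * (n * F.f (s.g.getD i 0) * n⁻¹) * n⁻¹
        = (n * n) * F.f (s.g.getD i 0) * (n * n)⁻¹ := by group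
      _ = _ := by rw [hn2]; group
  have hhom : s.okHom m = true := by
    simp only [Spec.okHom, List.all_eq_true, beq_iff_eq]
    intro x hx i hi
    have hi4 : i < 4 := by simp only [List.mem_cons, List.not_mem_nil, or_false] at hi; omega
    refine F.inj ?_
    rw [← himg _ (hmulT x hx i hi4), F.map_mul, F.map_mul, ← himg x hx, ← hgen i hi4]
    group
  have hfound := spec_cases s hs a (hcand ha ha2 ha0) b (hcand hb hb2 hb0)
    (hpre (i := 0) (j := 1) (by norm_num) (by norm_num) rfl rfl) c (hcand hc hc2 hc0)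
    (hpre (i := 0) (j := 2) (by norm_num) (by norm_num) rfl rfl)
    (hpre (i := 1) (j := 2) (by norm_num) (by norm_num) rfl rfl) hinv hhom
  simp only [Spec.found, List.any_eq_true, Bool.and_eq_true, Bool.or_eq_true, List.all_eq_true,
    List.elem_iff, beq_iff_eq] at hfound
  obtain ⟨k, hk, hk0, hk'⟩ := hfound
  refine ⟨n * F.f k, ?_, ?_⟩
  · have h := congrArg F.f hk0
    rw [F.map_mul, F.map_one, ← himg k hk, hni] at h
    rw [← h]; group
  · refine hk'.imp (fun h x hx => ?_) (fun h x hx => ?_) <;>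
    · obtain ⟨h1, h2⟩ := h x hx
      rw [← h2, ← himg _ h1, F.map_cj]
      group

end Cfsg.Agent.AN63
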