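import Cfsg.Agent.Lib.AN63One

/-!
# S3344: fusion in the table of `Alt(8)`: two planes are fused, normalised
-/

set_option autoImplicit false

namespace Cfsg.Agent.AN63

open Cfsg.Agent.AN82

/-- A fused plane gives a frame with a normalised pair and the third plane not fused. -/
theorem exists_good {G : Type*} [Group G] [Finite G] [IsSimpleGroup G] (hG : ¬ IsMulCommutative G)
    (F : Frame 0 G) (h : ∃ u, inQ u = true ∧ u ≠ zI ∧ IsConj F.z (F.f u)) :
    ∃ F' : Frame 0 G, Nonempty (Good F') := by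
  obtain ⟨F1, h6⟩ := exists_six F h
  obtain ⟨-, -, hS6, hS48, -, ⟨d, hd⟩, -⟩ := aut_facts
  obtain ⟨F2, g6, g48⟩ : ∃ F2 : Frame 0 G, IsConj F2.z (F2.f 6) ∧ IsConj F2.z (F2.f 48) := by
    by_cases h48 : IsConj F1.z (F1.f 48)
    · exact ⟨F1, h6, h48⟩
    by_cases h36 : IsConj F1.z (F1.f 36)
    · refine ⟨twist F1 tS, ?_, ?_⟩
      · rw [twist_z]; show IsConj F1.z (F1.f (autS 6)); rwa [hS6]
      · rw [twist_z]; show IsConj F1.z (F1.f (autS 48)); rw [hS48]
        exact h36.trans (hd ▸ (conj_cj F1 d 54).symm)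
    exact (false_one hG F1 h6 h48 h36).elim
  obtain ⟨F', -, -, ⟨P⟩⟩ := exists_pair F2 g6 g48
  exact ⟨F', ⟨⟨P, not_conj_of_pair F' P⟩⟩⟩

end Cfsg.Agent.AN63
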