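import Cfsg.Agent.Lib.AN63Pairs
import Cfsg.Agent.Lib.AEightThreeGen62
import Cfsg.Agent.S0215

/-!
# S3344: a single fused plane is impossible
-/

set_option autoImplicit false
set_option maxRecDepth 100000
set_option synthInstance.maxSize 8000
set_option synthInstance.maxHeartbeats 400000

namespace Cfsg.Agent.AN63

open Cfsg.Agent.AN82
open Cfsg.Agent.M12Inv51 (exists_normalizing isConj_conj orderOf_two_of_sq)

variable {G : Type*} [Group G]

/-- The subgroup given by a closed list. -/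
def subL (F : Frame 0 G) (l : List Ix) (h0 : (0 : Ix) ∈ l) (hm : ∀ a ∈ l, ∀ b ∈ l, mul 0 a b ∈ l)
    (hi : ∀ a ∈ l, inv 0 a ∈ l) : Subgroup G where
  carrier := {g | ∃ i ∈ l, F.f i = g}
  one_mem' := ⟨0, h0, F.map_one⟩
  mul_mem' := by rintro _ _ ⟨a, ha, rfl⟩ ⟨b, hb, rfl⟩; exact ⟨_, hm a ha b hb, F.map_mul a b⟩
  inv_mem' := by rintro _ ⟨a, ha, rfl⟩; exact ⟨_, hi a ha, F.map_inv a⟩

theorem mem_subL {F : Frame 0 G} {l : List Ix} {h0 hm hi} {g : G} :
    g ∈ subL F l h0 hm hi ↔ ∃ i ∈ l, F.f i = g := Iff.rfl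

theorem card_subL (F : Frame 0 G) (l : List Ix) (h0 hm hi) (hn : l.Nodup) :
    Nat.card (subL F l h0 hm hi) = l.length := by
  rw [← List.toFinset_card_of_nodup hn, ← Nat.card_eq_finsetCard]
  refine (Nat.card_congr (Equiv.ofBijective
    (fun i : {x // x ∈ l.toFinset} => (⟨F.f i.1, i.1, List.mem_toFinset.1 i.2, rfl⟩ :
      subL F l h0 hm hi)) ⟨fun a b e => Subtype.ext (F.inj (congrArg Subtype.val e)), ?_⟩)).symm
  rintro ⟨g, i, hi', rfl⟩
  exact ⟨⟨i, List.mem_toFinset.2 hi'⟩, rfl⟩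

/-- The elementary group of order eight. -/
def eI : List Ix := [0, 96, 6, 24, 30, 102, 120, 126]
/-- A Sylow 2-subgroup of the table. -/
def sI : List Ix := (List.finRange 192).filter fun a => a.1 % 6 ≤ 1
/-- The centralizer of a member. -/
noncomputable def centI (a : Ix) : List Ix := (List.finRange 192).filter fun x => comm 0 x a

theorem eI_ok : ((0 : Ix) ∈ eI) ∧ (∀ a ∈ eI, ∀ b ∈ eI, mul 0 a b ∈ eI) ∧ (∀ a ∈ eI, inv 0 a ∈ eI) ∧
    (∀ a ∈ eI, mul 0 a a = 0 ∧ a ∈ tZero ∧ actA0 a ∈ eI ∧ AN82.act0 a ∈ eI) ∧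
    (∀ c : Ix, ∀ a ∈ eI, cj 0 c a ∈ eI) ∧ (∀ a ∈ eI, ∀ b ∈ eI, comm 0 a b = true) := by
  decide +kernel

theorem sI_ok : ((0 : Ix) ∈ sI) ∧ (∀ a ∈ sI, ∀ b ∈ sI, mul 0 a b ∈ sI) ∧ (∀ a ∈ sI, inv 0 a ∈ sI) ∧
    sI.Nodup ∧ sI.length = 64 ∧ zI ∈ sI ∧
    (∀ a : Ix, (sI.all fun b => comm 0 a b) = true → a = 0 ∨ a = zI) := by decide +kernel

/-- The involutions of the Sylow subgroup. -/
noncomputable def sInv : List Ix := sI.filter fun a => mul 0 a a == 0

theorem sInv_gen : ∀ a ∈ sI, ∃ i ∈ sInv, ∃ j ∈ sInv, ∃ k ∈ sInv, a = mul 0 (mul 0 i j) k := by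
  decide +kernel

theorem cent_ok : ∀ a ∈ ([48, 36] : List Ix),
    ((0 : Ix) ∈ centI a) ∧ (∀ x ∈ centI a, ∀ y ∈ centI a, mul 0 x y ∈ centI a) ∧
    (∀ x ∈ centI a, inv 0 x ∈ centI a) ∧ (centI a).Nodup ∧ (centI a).length = 32 ∧
    zI ∈ centI a ∧ (∀ x ∈ centI a, mul 0 (mul 0 x x) (mul 0 x x) = 0) ∧
    (∀ c, inQ (cj 0 c a) = true) ∧
    (∃ e ∈ eI, ∃ e' ∈ eI, e ≠ zI ∧ e' ≠ zI ∧ e ≠ 0 ∧ e' ≠ 0 ∧ mul 0 zI e = e' ∧
      comm 0 e a = true ∧ comm 0 e' a = true) ∧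
    ∀ e ∈ eI, e ≠ 0 → e ≠ zI → comm 0 e a = true → ∃ c : Ix, cj 0 c e = 6 ∧ cj 0 c a ∈ tZero ∧
      inQ (actA0 (cj 0 c a)) = false ∧ inQ (AN82.act0 (cj 0 c a)) = false ∧
      (∀ j : Ix, comm 0 j (actA0 (cj 0 c a)) = true → mul 0 (mul 0 j j) (mul 0 j j) = 0) ∧
      (∀ j : Ix, comm 0 j (AN82.act0 (cj 0 c a)) = true → mul 0 (mul 0 j j) (mul 0 j j) = 0) := by
  decide +kernel

theorem cover_facts : ∀ i : Ix, mul 0 i i = 0 → i ≠ 0 → ∃ c,
    cj 0 c i ∈ ([zI, 6, 48, 36, actA0 48, actA0 54] : List Ix) ∧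
    cj 0 c i ∈ ([zI, 6, 48, 36, AN82.act0 48, AN82.act0 54] : List Ix) := by decide +kernel

theorem small_facts : (48 : Ix) ∈ tZero ∧ (54 : Ix) ∈ tZero ∧ (6 : Ix) ∈ eI ∧ zI ∈ eI ∧
    (6 : Ix) ≠ 0 ∧ (48 : Ix) ≠ 0 ∧ mul 0 48 48 = 0 ∧ actA0 6 = zI ∧ AN82.act0 6 = zI := by
  decide +kernel

theorem eq_one_of_odd_pow {x : G} {k : ℕ} (hodd : Odd (orderOf x)) (h : x ^ 2 ^ k = 1) : x = 1 := by
  obtain ⟨j, -, hj⟩ := (Nat.dvd_prime_pow Nat.prime_two).1 (orderOf_dvd_of_pow_eq_one h)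
  rw [hj] at hodd
  rcases Nat.eq_zero_or_pos j with rfl | h'
  · exact orderOf_eq_one_iff.1 (by rw [hj, pow_zero])
  · exact absurd hodd (Nat.not_odd_iff_even.2 ((Nat.even_pow' h'.ne').2 even_two))

theorem inverts_of_fixedPointFree [Finite G] {a : G} (ha : a * a = 1)
    (N : Subgroup G) (hn : ∀ x ∈ N, a * x * a⁻¹ ∈ N)
    (hfix : ∀ x ∈ N, a * x * a⁻¹ = x → x = 1) {y : G} (hy : y ∈ N) : a * y * a⁻¹ = y⁻¹ := by
  let φ : N → N := fun x => ⟨(x : G)⁻¹ * (a * x * a⁻¹), N.mul_mem (N.inv_mem x.2) (hn _ x.2)⟩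
  have hφ : Function.Injective φ := by
    intro x x' e
    have e' : (x : G)⁻¹ * (a * x * a⁻¹) = (x' : G)⁻¹ * (a * x' * a⁻¹) := congrArg Subtype.val e
    have h : a * ((x' : G) * (x : G)⁻¹) * a⁻¹ = (x' : G) * (x : G)⁻¹ := by
      calc a * ((x' : G) * (x : G)⁻¹) * a⁻¹
          = (x' : G) * ((x' : G)⁻¹ * (a * x' * a⁻¹)) * ((x : G)⁻¹ * (a * x * a⁻¹))⁻¹ * (x : G)⁻¹ := by
            group
        _ = (x' : G) * (x : G)⁻¹ := by rw [← e']; group
    exact Subtype.ext (mul_inv_eq_one.1 (hfix _ (N.mul_mem x'.2 (N.inv_mem x.2)) h)).symm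
  obtain ⟨x, hx⟩ := Finite.injective_iff_surjective.1 hφ ⟨y, hy⟩
  rw [← show (x : G)⁻¹ * (a * x * a⁻¹) = y from congrArg Subtype.val hx]
  have hai : a⁻¹ = a := inv_eq_of_mul_eq_one_right ha
  rw [hai, mul_inv_rev, inv_inv]
  calc a * ((x : G)⁻¹ * (a * x * a)) * a = a * (x : G)⁻¹ * a * x * (a * a) := by group
    _ = _ := by rw [ha, mul_one, mul_inv_rev, mul_inv_rev, hai]; group

theorem f_sq {F : Frame 0 G} {i : Ix} (h : mul 0 i i = 0) : F.f i * F.f i = 1 := F.sq_eq_one_iff.2 h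

theorem pow_four {F : Frame 0 G} {i : Ix} (h : mul 0 (mul 0 i i) (mul 0 i i) = 0) :
    F.f i ^ 2 ^ 2 = 1 := by
  have h' := congrArg F.f h
  rw [F.map_mul, F.map_mul, F.map_one] at h'
  rw [← h', pow_two, pow_mul, pow_two, pow_two]

/-- With one fused plane the centralizer of a member of another plane is inside the table. -/
theorem cent_le [Finite G] (F : Frame 0 G) {n : G} (hn : n * n = 1) {m : Ix → Ix}
    (hm : Acts F n tZero m) (hm6 : m 6 = zI) (hmA : m = actA0 ∨ m = AN82.act0)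
    (hz : ∀ i : Ix, IsConj F.z (F.f i) → i ∈ eI) {a : Ix} (ha : a ∈ ([48, 36] : List Ix)) :
    Subgroup.centralizer ({F.f a} : Set G) ≤ F.L := by
  classical
  haveI : Fact (Nat.Prime 2) := ⟨Nat.prime_two⟩
  obtain ⟨h0, hmul, hinv, hnd, hlen, hzI, hexp, hQ, ⟨e, he, e', he', hez, he'z, he0, he'0, hee, hea, he'a⟩,
    hmove⟩ := cent_ok a ha
  set X := Subgroup.centralizer ({F.f a} : Set G) with hX
  set T := subL F (centI a) h0 hmul hinv with hT
  have memT : ∀ {i : Ix}, comm 0 i a = true → F.f i ∈ T := fun {i} h =>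
    ⟨i, List.mem_filter.2 ⟨List.mem_finRange i, h⟩, rfl⟩
  have hTX : T ≤ X := by
    rintro _ ⟨i, hi, rfl⟩
    rw [hX, Subgroup.mem_centralizer_singleton_iff, F.commute_iff]
    exact (List.mem_filter.1 hi).2
  have hXmem : ∀ g ∈ X, g * F.z = F.z * g → g ∈ T := by
    intro g hg hgz
    obtain ⟨i, rfl⟩ := F.exists_of_commute hgz
    exact memT (F.commute_iff.1 (Subgroup.mem_centralizer_singleton_iff.1 hg))
  have huX : ∀ {g : G}, g ∈ X → g * F.f a * g⁻¹ = F.f a := fun {g} hg =>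
    mul_inv_eq_iff_eq_mul.2 (Subgroup.mem_centralizer_singleton_iff.1 hg)
  -- moving a member of the fused plane to `z`
  have hw : ∀ d ∈ eI, d ≠ 0 → d ≠ zI → comm 0 d a = true → ∃ w : G, ∃ b : Ix,
      w * F.f d * w⁻¹ = F.z ∧ w * F.f a * w⁻¹ = F.f b ∧ inQ b = false ∧
      ∀ j : Ix, comm 0 j b = true → mul 0 (mul 0 j j) (mul 0 j j) = 0 := by
    intro d hd hd0 hdz hda
    obtain ⟨c, hc, hct, hA, hB, hA', hB'⟩ := hmove d hd hd0 hdz hda
    refine ⟨n * F.f c, m (cj 0 c a), ?_, ?_, ?_, ?_⟩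
    · calc n * F.f c * F.f d * (n * F.f c)⁻¹ = n * (F.f c * F.f d * (F.f c)⁻¹) * n⁻¹ := by group
        _ = F.z := by rw [← F.map_cj, hc, hm 6 ((eI_ok.2.2.2.1 6 small_facts.2.2.1).2.1), hm6]; rfl
    · calc n * F.f c * F.f a * (n * F.f c)⁻¹ = n * (F.f c * F.f a * (F.f c)⁻¹) * n⁻¹ := by group
        _ = _ := by rw [← F.map_cj, hm _ hct]
    · rcases hmA with rfl | rfl
      · exact hA
      · exact hB
    · rcases hmA with rfl | rfl
      · exact hA'
      · exact hB'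
  have hiso : ∀ g ∈ X, g * F.z * g⁻¹ ∈ T → g * F.z * g⁻¹ = F.z := by
    intro g hg hgT
    obtain ⟨i, hi, hgi⟩ := hgT
    have hiE := hz i (hgi ▸ isConj_conj g F.z)
    by_cases hiz : i = zI
    · rw [← hgi, hiz]; rfl
    exfalso
    have hi0 : i ≠ 0 := by
      rintro rfl
      rw [F.map_one, eq_comm, conj_eq_one_iff] at hgi
      exact F.z_ne_one hgi
    obtain ⟨w, b, hw1, hw2, hb, -⟩ := hw i hiE hi0 hiz (List.mem_filter.1 hi).2
    have hc : w * g * F.z = F.z * (w * g) := by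
      refine mul_inv_eq_iff_eq_mul.1 ?_
      calc w * g * F.z * (w * g)⁻¹ = w * (g * F.z * g⁻¹) * w⁻¹ := by group
        _ = F.z := by rw [← hgi, hw1]
    obtain ⟨c, hcg⟩ := F.exists_of_commute hc
    have h1 : F.f (cj 0 c a) = F.f b := by
      rw [F.map_cj, hcg, ← hw2]
      calc w * g * F.f a * (w * g)⁻¹ = w * (g * F.f a * g⁻¹) * w⁻¹ := by group
        _ = _ := by rw [huX hg]
    have := hQ c
    rw [F.inj h1, hb] at this
    exact Bool.false_ne_true this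
  have hTcard : Nat.card T = 32 := by rw [hT, card_subL _ _ _ _ _ hnd, hlen]
  have h64 : ¬ 64 ∣ Nat.card X := by
    intro h
    obtain ⟨g, hgX, hgT, hnorm, -⟩ :=
      exists_normalizing hTX (k := 5) (by rw [hTcard]; rfl) h
    have h1 := hiso g hgX (hnorm _ ⟨zI, hzI, rfl⟩)
    exact hgT (hXmem g hgX (mul_inv_eq_iff_eq_mul.1 h1))
  have hcardT : Nat.card (T.subgroupOf X) = 32 := by
    rw [Nat.card_congr (Subgroup.subgroupOfEquivOfLe hTX).toEquiv, hTcard]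
  let P : Sylow 2 X := Sylow.ofCard (T.subgroupOf X) (by
    rw [hcardT]
    have h32 : 2 ^ 5 ∣ Nat.card X := by
      have := Subgroup.card_subgroup_dvd_card (T.subgroupOf X)
      rwa [hcardT] at this
    have h1 : 5 ≤ (Nat.card X).factorization 2 :=
      (Nat.prime_two.pow_dvd_iff_le_factorization Nat.card_pos.ne').1 h32
    have h2 : ¬ 6 ≤ (Nat.card X).factorization 2 := fun h =>
      h64 ((Nat.prime_two.pow_dvd_iff_le_factorization Nat.card_pos.ne').2 h)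
    rw [show (Nat.card X).factorization 2 = 5 by omega]; rfl)
  have hzX : F.z ∈ X := hTX ⟨zI, hzI, rfl⟩
  obtain ⟨N, hN, hNodd, hNc⟩ := S0215.result P (⟨F.z, hzX⟩ : X)
    (by rw [← Subgroup.orderOf_coe]; exact orderOf_two_of_sq F.z_sq F.z_ne_one)
    (Subgroup.mem_subgroupOf.2 ⟨zI, hzI, rfl⟩)
    (fun g hg => Subtype.ext (hiso g.1 g.2 (Subgroup.mem_subgroupOf.1 hg)))
  set M := N.map X.subtype
  have hMX : M ≤ X := Subgroup.map_subtype_le _
  have hMn : ∀ g ∈ X, ∀ x ∈ M, g * x * g⁻¹ ∈ M := by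
    rintro g hg _ ⟨x, hx, rfl⟩
    exact ⟨⟨g, hg⟩ * x * ⟨g, hg⟩⁻¹, hN.conj_mem x hx _, rfl⟩
  have hModd : ∀ x ∈ M, Odd (orderOf x) := by
    rintro _ ⟨x, hx, rfl⟩
    refine Odd.of_dvd_nat hNodd ?_
    rw [Subgroup.coe_subtype, Subgroup.orderOf_coe, ← Subgroup.orderOf_mk x hx]
    exact orderOf_dvd_natCard _
  have hfz : ∀ x ∈ M, x * F.z = F.z * x → x = 1 := by
    intro x hx hc
    obtain ⟨i, hi, rfl⟩ := hXmem x (hMX hx) hc
    exact eq_one_of_odd_pow (hModd _ hx) (pow_four (hexp i hi))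
  have hfd : ∀ d ∈ eI, d ≠ 0 → d ≠ zI → comm 0 d a = true → ∀ x ∈ M, x * F.f d = F.f d * x → x = 1 := by
    intro d hd hd0 hdz hda x hx hc
    obtain ⟨w, b, hw1, hw2, -, hexp'⟩ := hw d hd hd0 hdz hda
    obtain ⟨j, hj⟩ := F.exists_of_commute (g := w * x * w⁻¹) (by
      rw [← hw1]
      calc w * x * w⁻¹ * (w * F.f d * w⁻¹) = w * (x * F.f d) * w⁻¹ := by group
        _ = _ := by rw [hc]; group)
    have hjb : comm 0 j b = true := by
      rw [← F.commute_iff, hj, ← hw2]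
      calc w * x * w⁻¹ * (w * F.f a * w⁻¹) = w * (x * F.f a * x⁻¹) * x * w⁻¹ := by group
        _ = w * F.f a * x * w⁻¹ := by rw [huX (hMX hx)]
        _ = _ := by group
    have h4 := pow_four (F := F) (hexp' j hjb)
    rw [hj, conj_pow, conj_eq_one_iff] at h4
    exact eq_one_of_odd_pow (hModd x hx) h4
  have htriv : ∀ x ∈ M, x = 1 := by
    intro x hx
    have heX : F.f e ∈ X := hTX (memT hea)
    have ez := inverts_of_fixedPointFree F.z_sq M (hMn _ hzX)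
      (fun y hy h => hfz y hy (mul_inv_eq_iff_eq_mul.1 h).symm) hx
    have ee := inverts_of_fixedPointFree (f_sq (F := F) (eI_ok.2.2.2.1 e he).1) M (hMn _ heX)
      (fun y hy h => hfd e he he0 hez hea y hy (mul_inv_eq_iff_eq_mul.1 h).symm) hx
    refine hfd e' he' he'0 he'z he'a x hx (mul_inv_eq_iff_eq_mul.1 ?_).symm
    rw [← hee, F.map_mul]
    show F.z * F.f e * x * (F.z * F.f e)⁻¹ = x
    calc F.z * F.f e * x * (F.z * F.f e)⁻¹ = (F.z * (F.f e * x * (F.f e)⁻¹) * F.z⁻¹) := by group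
      _ = (F.z * x * F.z⁻¹)⁻¹ := by rw [ee]; group
      _ = x := by rw [ez, inv_inv]
  intro g hg
  show g ∈ Subgroup.centralizer ({F.z} : Set G)
  rw [Subgroup.mem_centralizer_singleton_iff]
  have h := htriv _ ⟨_, hNc ⟨g, hg⟩, rfl⟩
  simp only [map_mul, map_inv, Subgroup.coe_subtype] at h
  calc g * F.z = (F.z * g * F.z⁻¹ * g⁻¹) * (g * F.z) := by rw [h, one_mul]
    _ = _ := by group

theorem z_ne_conj_one [Finite G] (F : Frame 0 G) {i : Ix} (h : IsConj F.z (F.f i)) :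
    mul 0 i i = 0 ∧ i ≠ 0 := by
  obtain ⟨g, hg⟩ := isConj_iff.1 h
  refine ⟨?_, ?_⟩
  · rw [← F.sq_eq_one_iff, ← hg]
    calc g * F.z * g⁻¹ * (g * F.z * g⁻¹) = g * (F.z * F.z) * g⁻¹ := by group
      _ = 1 := by rw [F.z_sq]; group
  · rintro rfl
    rw [F.map_one, conj_eq_one_iff] at hg
    exact F.z_ne_one hg

/-- A single fused plane does not occur in a simple group. -/
theorem false_one [Finite G] [IsSimpleGroup G] (hG : ¬ IsMulCommutative G) (F : Frame 0 G)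
    (h6 : IsConj F.z (F.f 6)) (h48 : ¬ IsConj F.z (F.f 48)) (h36 : ¬ IsConj F.z (F.f 36)) : False := by
  classical
  haveI : Fact (Nat.Prime 2) := ⟨Nat.prime_two⟩
  obtain ⟨n, hn, hcase⟩ := classify F (s := spec0) (by simp [specs]) h6
  obtain ⟨h48T, h54T, h6E, hzE, -, h480, h48sq, hA6, hB6⟩ := small_facts
  obtain ⟨hE0, hEm, hEi, hE, hEcj, hEcomm⟩ := eI_ok
  obtain ⟨m, hm, hmA, hm6, hmE, hcover⟩ : ∃ m, Acts F n tZero m ∧ (m = actA0 ∨ m = AN82.act0) ∧
      m 6 = zI ∧ (∀ x ∈ eI, m x ∈ eI) ∧ ∀ i : Ix, mul 0 i i = 0 → i ≠ 0 →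
        ∃ c, cj 0 c i ∈ ([zI, 6, 48, 36, m 48, m 54] : List Ix) := by
    rcases hcase with h | h
    · exact ⟨actA0, h, Or.inl rfl, hA6, fun x hx => (hE x hx).2.2.1, fun i a b =>
        (cover_facts i a b).imp fun c h => h.1⟩
    · exact ⟨AN82.act0, h, Or.inr rfl, hB6, fun x hx => (hE x hx).2.2.2, fun i a b =>
        (cover_facts i a b).imp fun c h => h.2⟩
  obtain ⟨d, hd⟩ := aut_facts.2.2.2.2.2.1
  have c54 : IsConj (F.f 54) (F.f 36) := hd ▸ conj_cj F d 54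
  have hz : ∀ i : Ix, IsConj F.z (F.f i) → i ∈ eI := by
    intro i hi
    obtain ⟨hi2, hi0⟩ := z_ne_conj_one F hi
    obtain ⟨c, hc⟩ := hcover i hi2 hi0
    have hci := hi.trans (conj_cj F c i)
    have back : cj 0 c i ∈ eI → i ∈ eI := fun h => by
      have h' := hEcj (inv 0 c) _ h
      rwa [F.inj (a₁ := cj 0 (inv 0 c) (cj 0 c i)) (a₂ := i)
        (by rw [F.map_cj, F.map_cj, F.map_inv]; group)] at h'
    simp only [List.mem_cons, List.not_mem_nil, or_false] at hc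
    rcases hc with e | e | e | e | e | e <;> rw [e] at hci
    · exact back (e ▸ hzE)
    · exact back (e ▸ h6E)
    · exact absurd hci h48
    · exact absurd hci h36
    · exact absurd (hci.trans ((hm 48 h48T) ▸ isConj_conj n (F.f 48)).symm) h48
    · exact absurd ((hci.trans ((hm 54 h54T) ▸ isConj_conj n (F.f 54)).symm).trans c54) h36
  set E := subL F eI hE0 hEm hEi with hEdef
  set H := Subgroup.normalizer (E : Set G) with hH
  have hnH : n ∈ H := Subgroup.mem_normalizer_fintype (by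
    rintro _ ⟨x, hx, rfl⟩
    exact ⟨m x, hmE x hx, (hm x (hE x hx).2.1).symm⟩)
  have hfH : ∀ c, F.f c ∈ H := fun c => Subgroup.mem_normalizer_fintype (by
    rintro _ ⟨x, hx, rfl⟩
    exact ⟨cj 0 c x, hEcj c x hx, F.map_cj c x⟩)
  have hLH : F.L ≤ H := fun g hg => by
    obtain ⟨c, rfl⟩ := F.mem_L.1 hg
    exact hfH c
  obtain ⟨hS0, hSm, hSi, hSnd, hSlen, hzS, hScen⟩ := sI_ok
  set S := subL F sI hS0 hSm hSi with hSdef
  have hScard : Nat.card S = 64 := by rw [hSdef, card_subL _ _ _ _ _ hSnd, hSlen]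
  have hfix : ∀ g : G, (∀ x ∈ S, g * x * g⁻¹ ∈ S) → g ∈ F.L := by
    intro g hg
    obtain ⟨i, hi, hgi⟩ := hg F.z ⟨zI, hzS, rfl⟩
    let φ : S → S := fun x => ⟨g * x.1 * g⁻¹, hg x.1 x.2⟩
    have hφ : Function.Injective φ := fun a c e => Subtype.ext (by simpa [φ] using e)
    have hall : (sI.all fun b => comm 0 i b) = true := by
      rw [List.all_eq_true]
      intro b hb
      obtain ⟨x, hx⟩ := (Finite.injective_iff_surjective.1 hφ) ⟨F.f b, b, hb, rfl⟩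
      rw [← F.commute_iff, hgi, ← show g * x.1 * g⁻¹ = F.f b from congrArg Subtype.val hx]
      obtain ⟨k, -, hk⟩ := x.2
      rw [← hk]
      calc g * F.z * g⁻¹ * (g * F.f k * g⁻¹) = g * (F.z * F.f k) * g⁻¹ := by group
        _ = g * (F.f k * F.z) * g⁻¹ := by rw [F.z_comm k]
        _ = _ := by group
    rcases hScen i hall with rfl | rfl
    · rw [F.map_one, eq_comm, conj_eq_one_iff] at hgi
      exact absurd hgi F.z_ne_one
    · refine Subgroup.mem_centralizer_singleton_iff.2 (mul_inv_eq_iff_eq_mul.1 hgi.symm)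
  have h128 : ¬ 128 ∣ Nat.card G := by
    intro h
    obtain ⟨g, -, hgS, hnorm, j, hj⟩ := exists_normalizing (le_top : S ≤ ⊤) (k := 6)
      (by rw [hScard]; rfl) (by rw [Subgroup.card_top]; exact h)
    have hgL := hfix g hnorm
    set K := S ⊔ Subgroup.zpowers g
    have hKC : K ≤ F.L := sup_le (by rintro _ ⟨i, -, rfl⟩; exact F.mem_L.2 ⟨i, rfl⟩)
      (Subgroup.zpowers_le.2 hgL)
    have hn' : Subgroup.zpowers g ≤ Subgroup.normalizer (S : Set G) :=
      Subgroup.zpowers_le.2 (Subgroup.mem_normalizer_fintype hnorm)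
    have hK : IsPGroup 2 K := IsPGroup.to_sup_of_normal_left'
      (IsPGroup.of_card (n := 6) (by rw [hScard]; rfl)) (fun x => by
        obtain ⟨k, hk⟩ := x.2
        refine ⟨j, Subtype.ext ?_⟩
        show (x : G) ^ 2 ^ j = 1
        rw [← show g ^ k = (x : G) from hk, ← zpow_natCast, ← zpow_mul, mul_comm, zpow_mul,
          zpow_natCast, hj, one_zpow]) hn'
    obtain ⟨r, hr⟩ := IsPGroup.iff_card.1 hK
    have h1 := Subgroup.card_dvd_of_le hKC
    rw [hr, F.card_L] at h1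
    have h2 : Nat.card S < Nat.card K := by
      refine lt_of_le_of_ne (Subgroup.card_le_of_le le_sup_left) fun e => hgS ?_
      rw [Subgroup.eq_of_le_of_card_ge le_sup_left e.ge]
      exact Subgroup.mem_sup_right (Subgroup.mem_zpowers g)
    rw [hr, hScard] at h2
    have h7 : 7 ≤ r := by
      by_contra hc
      have := Nat.pow_le_pow_right (show 1 ≤ 2 by norm_num) (show r ≤ 6 by omega)
      omega
    have h3 : 2 ^ 7 ∣ 192 := (pow_dvd_pow 2 h7).trans h1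
    norm_num at h3
  let PS : Sylow 2 G := Sylow.ofCard S (by
    rw [hScard]
    have h64 : 2 ^ 6 ∣ Nat.card G := by
      have := Subgroup.card_subgroup_dvd_card S
      rwa [hScard] at this
    have h1 : 6 ≤ (Nat.card G).factorization 2 :=
      (Nat.prime_two.pow_dvd_iff_le_factorization Nat.card_pos.ne').1 h64
    have h2 : ¬ 7 ≤ (Nat.card G).factorization 2 := fun h =>
      h128 ((Nat.prime_two.pow_dvd_iff_le_factorization Nat.card_pos.ne').2 h)
    rw [show (Nat.card G).factorization 2 = 6 by omega]; rfl)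
  have hC48 : Subgroup.centralizer ({F.f 48} : Set G) ≤ H :=
    (cent_le F hn hm hm6 hmA hz (by simp)).trans hLH
  have hC36 : Subgroup.centralizer ({F.f 36} : Set G) ≤ H :=
    (cent_le F hn hm hm6 hmA hz (by simp)).trans hLH
  have htr : ∀ {h x : G}, h ∈ H → Subgroup.centralizer ({x} : Set G) ≤ H →
      Subgroup.centralizer ({h * x * h⁻¹} : Set G) ≤ H := by
    intro h x hh hx c hc
    have h1 : h⁻¹ * c * h ∈ Subgroup.centralizer ({x} : Set G) := by
      rw [Subgroup.mem_centralizer_singleton_iff] at hc ⊢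
      calc h⁻¹ * c * h * x = h⁻¹ * (c * (h * x * h⁻¹)) * h := by group
        _ = h⁻¹ * (h * x * h⁻¹ * c) * h := by rw [hc]
        _ = _ := by group
    have := mul_mem (mul_mem hh (hx h1)) (inv_mem hh)
    convert this using 1
    group
  have hCz : Subgroup.centralizer ({F.z} : Set G) ≤ H := hLH
  have htop : H = ⊤ := by
    refine AEightThreeGen62.eq_top_of_centralizers PS (H := H) ?_ ?_ ?_ ?_ ?_
    · rintro _ ⟨i, -, rfl⟩; exact hfH i
    · rintro _ ⟨a, ha, rfl⟩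
      obtain ⟨i, hi, j, hj, k, hk, rfl⟩ := sInv_gen a ha
      have hin : ∀ {i}, i ∈ sInv → F.f i ∈ Subgroup.closure {z : G | z ^ 2 = 1} := fun {i} hi =>
        Subgroup.subset_closure (show F.f i ^ 2 = 1 by
          rw [pow_two, F.sq_eq_one_iff]; simpa using (List.mem_filter.1 hi).2)
      rw [F.map_mul, F.map_mul]
      exact mul_mem (mul_mem (hin hi) (hin hj)) (hin hk)
    · exact fun g hg => hLH (hfix g fun x hx => (Subgroup.mem_normalizer_iff.1 hg x).1 hx)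
    · rintro _ ⟨i, -, rfl⟩ hi2 hi1
      rw [pow_two, F.sq_eq_one_iff] at hi2
      obtain ⟨c, hc⟩ := hcover i hi2 (fun e => hi1 (by rw [e, F.map_one]))
      suffices h : Subgroup.centralizer ({F.f (cj 0 c i)} : Set G) ≤ H by
        have h' := htr (inv_mem (hfH c)) h
        rwa [F.map_cj, show (F.f c)⁻¹ * (F.f c * F.f i * (F.f c)⁻¹) * (F.f c)⁻¹⁻¹ = F.f i by group] at h'
      simp only [List.mem_cons, List.not_mem_nil, or_false] at hc
      rcases hc with e | e | e | e | e | e <;> rw [e]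
      · exact hCz
      · have h' := htr hnH hCz
        have h6' : n * F.z * n⁻¹ = F.f 6 := by
          rw [Frame.z, ← hm6, ← hm 6 (hE 6 h6E).2.1]
          calc n * (n * F.f 6 * n⁻¹) * n⁻¹ = (n * n) * F.f 6 * (n * n)⁻¹ := by group
            _ = _ := by rw [hn]; group
        rwa [h6'] at h'
      · exact hC48
      · exact hC36
      · rw [← hm 48 h48T]; exact htr hnH hC48
      · rw [← hm 54 h54T]
        refine htr hnH ?_
        have h' := htr (inv_mem (hfH d)) hC36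
        rwa [← hd, F.map_cj,
          show (F.f d)⁻¹ * (F.f d * F.f 54 * (F.f d)⁻¹) * (F.f d)⁻¹⁻¹ = F.f 54 by group] at h'
    · exact ⟨F.z, F.f 48, by rw [pow_two, F.z_sq], F.z_ne_one, by rw [pow_two, f_sq h48sq],
        fun e => h480 (F.eq_one_iff.1 e), h48⟩
  have hnormal : E.Normal := Subgroup.normalizer_eq_top_iff.1 htop
  rcases Subgroup.Normal.eq_bot_or_eq_top hnormal with h | h
  · have hzmem : F.z ∈ E := ⟨zI, hzE, rfl⟩
    rw [h, Subgroup.mem_bot] at hzmem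
    exact F.z_ne_one hzmem
  · refine hG ⟨⟨fun x y => ?_⟩⟩
    obtain ⟨i, hi, rfl⟩ := (h ▸ Subgroup.mem_top x : x ∈ E)
    obtain ⟨j, hj, rfl⟩ := (h ▸ Subgroup.mem_top y : y ∈ E)
    exact F.commute_iff.2 (hEcomm i hi j hj)

end Cfsg.Agent.AN63
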