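import Cfsg.Agent.Lib.AN63Tools

/-!
# S3344: normalisation when two planes are fused
-/

set_option autoImplicit false
set_option maxRecDepth 100000

namespace Cfsg.Agent.AN63

open Cfsg.Agent.AN82

variable {G : Type*} [Group G]

/-- An element fixing `z` acts as a member of the table. -/
theorem false_of_acts (F : Frame 0 G) {p : G} {m : Ix → Ix} (h : Acts F p aL m) (hz : m zI = zI)
    (hne : ∀ i : Ix, ∃ x ∈ aL, cj 0 i x ≠ m x) : False := by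
  have h' := h zI (by decide)
  rw [hz, mul_inv_eq_iff_eq_mul] at h'
  obtain ⟨i, rfl⟩ := F.exists_of_commute h'
  obtain ⟨x, hx, hne⟩ := hne i
  exact hne (F.inj ((F.map_cj i x).trans (h x hx)))

/-- The third swapping action, in the original table. -/
def act2 (m : Ix → Ix) (x : Ix) : Ix := autS (m (autSi x))

theorem aL_maps : ∀ x ∈ aL, x ∈ tZero ∧ x ∈ tOne ∧ autSi x ∈ tOne ∧ actA0 x ∈ aL ∧ AN82.act0 x ∈ aL ∧
    actA1 x ∈ aL ∧ AN82.act1 x ∈ aL ∧ cj 0 36 x ∈ aL ∧ act2 actA1 x ∈ aL ∧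
    act2 AN82.act1 x ∈ aL := by decide +kernel

theorem word_facts :
    ((actA0 ∘ AN82.act1 ∘ actA0 ∘ cj 0 36 ∘ actA0 ∘ AN82.act1 ∘ actA0) zI = zI ∧ ∀ i : Ix, ∃ x ∈ aL, cj 0 i x ≠ (actA0 ∘ AN82.act1 ∘ actA0 ∘ cj 0 36 ∘ actA0 ∘ AN82.act1 ∘ actA0) x) ∧
    ((AN82.act0 ∘ actA1 ∘ AN82.act0 ∘ cj 0 36 ∘ AN82.act0 ∘ actA1 ∘ AN82.act0) zI = zI ∧ ∀ i : Ix, ∃ x ∈ aL, cj 0 i x ≠ (AN82.act0 ∘ actA1 ∘ AN82.act0 ∘ cj 0 36 ∘ AN82.act0 ∘ actA1 ∘ AN82.act0) x) ∧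
    ((act2 AN82.act1 ∘ AN82.act0 ∘ cj 0 36 ∘ act2 AN82.act1 ∘ AN82.act0 ∘ act2 AN82.act1) zI = zI ∧ ∀ i : Ix, ∃ x ∈ aL, cj 0 i x ≠ (act2 AN82.act1 ∘ AN82.act0 ∘ cj 0 36 ∘ act2 AN82.act1 ∘ AN82.act0 ∘ act2 AN82.act1) x) ∧
    ((AN82.act1 ∘ act2 actA1 ∘ AN82.act1 ∘ act2 actA1 ∘ AN82.act1) zI = zI ∧ ∀ i : Ix, ∃ x ∈ aL, cj 0 i x ≠ (AN82.act1 ∘ act2 actA1 ∘ AN82.act1 ∘ act2 actA1 ∘ AN82.act1) x) := by
  decide +kernel

theorem autR_facts : (∀ x ∈ tZero, autR x ∈ tZero ∧ actA0 (autR x) = autR (AN82.act0 x)) ∧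
    (∀ x ∈ tOne, autR x ∈ tOne ∧ actA1 (autR x) = autR (AN82.act1 x)) ∧
    autR 6 = 6 ∧ autR 48 = 48 := by decide +kernel

/-- Both planes of `6` and `48` fused give a frame with a pair. -/
theorem exists_pair (F : Frame 0 G) (h0 : IsConj F.z (F.f 6)) (h1 : IsConj F.z (F.f 48)) :
    ∃ F' : Frame 0 G, IsConj F'.z (F'.f 6) ∧ IsConj F'.z (F'.f 48) ∧ Nonempty (Pair F') := by
  obtain ⟨n0, hn0, ha0⟩ := classify F (s := spec0) (by simp [specs]) h0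
  obtain ⟨n1, hn1, ha1⟩ := classify F (s := spec1) (by simp [specs]) h1
  have r0 : ∀ {m}, Acts F n0 spec0.T m → Acts F n0 aL m := fun h x hx => h x (aL_maps x hx).1
  have r1 : ∀ {m}, Acts F n1 spec1.T m → Acts F n1 aL m := fun h x hx => h x (aL_maps x hx).2.1
  obtain ⟨w1, w2, -, -⟩ := word_facts
  rcases ha0 with hA0 | hB0 <;> rcases ha1 with hA1 | hB1
  · obtain ⟨hR0, hR1, hR6, hR48⟩ := autR_facts
    refine ⟨twist F tR, ?_, ?_, ⟨⟨n0, n1, hn0, hn1, fun c hc => ?_, fun c hc => ?_⟩⟩⟩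
    · rw [twist_z]; show IsConj F.z (F.f (autR 6)); rwa [hR6]
    · rw [twist_z]; show IsConj F.z (F.f (autR 48)); rwa [hR48]
    · show n0 * F.f (autR c) * n0⁻¹ = F.f (autR (AN82.act0 c))
      rw [← (hR0 c hc).2]; exact hA0 _ (hR0 c hc).1
    · show n1 * F.f (autR c) * n1⁻¹ = F.f (autR (AN82.act1 c))
      rw [← (hR1 c hc).2]; exact hA1 _ (hR1 c hc).1
  · exfalso
    refine false_of_acts F (p := n0 * (n1 * (n0 * (F.f 36 * (n0 * (n1 * n0)))))) ?_ w1.1 w1.2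
    have a := r0 hA0
    have b := r1 hB1
    have i0 : ∀ x ∈ aL, actA0 x ∈ aL := fun x hx => (aL_maps x hx).2.2.2.1
    have i1 : ∀ x ∈ aL, AN82.act1 x ∈ aL := fun x hx => (aL_maps x hx).2.2.2.2.2.2.1
    have ic : ∀ x ∈ aL, cj 0 36 x ∈ aL := fun x hx => (aL_maps x hx).2.2.2.2.2.2.2.1
    refine a.comp (b.comp (a.comp ((acts_f F 36 aL).comp (a.comp (b.comp a i0) ?_) ?_) ?_) ?_) ?_
    all_goals (intro x hx; simp only [Function.comp]; repeat (first | apply i0 | apply i1 | apply ic))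
    all_goals exact hx
  · exfalso
    refine false_of_acts F (p := n0 * (n1 * (n0 * (F.f 36 * (n0 * (n1 * n0)))))) ?_ w2.1 w2.2
    have a := r0 hB0
    have b := r1 hA1
    have i0 : ∀ x ∈ aL, AN82.act0 x ∈ aL := fun x hx => (aL_maps x hx).2.2.2.2.1
    have i1 : ∀ x ∈ aL, actA1 x ∈ aL := fun x hx => (aL_maps x hx).2.2.2.2.2.1
    have ic : ∀ x ∈ aL, cj 0 36 x ∈ aL := fun x hx => (aL_maps x hx).2.2.2.2.2.2.2.1
    refine a.comp (b.comp (a.comp ((acts_f F 36 aL).comp (a.comp (b.comp a i0) ?_) ?_) ?_) ?_) ?_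
    all_goals (intro x hx; simp only [Function.comp]; repeat (first | apply i0 | apply i1 | apply ic))
    all_goals exact hx
  · exact ⟨F, h0, h1, ⟨⟨n0, n1, hn0, hn1, hB0, hB1⟩⟩⟩

/-- The plane of `36` is then not fused. -/
theorem not_conj_of_pair (F : Frame 0 G) (P : Pair F) : ¬ IsConj F.z (F.f 36) := by
  intro h
  obtain ⟨-, -, -, hS48, -, ⟨d, hd⟩, -⟩ := aut_facts
  have h54 : IsConj F.z (F.f 54) := h.trans (hd ▸ (conj_cj F d 54).symm)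
  obtain ⟨n, -, ha⟩ := classify (twist F tS) (s := spec1) (by simp [specs]) (by
    rw [twist_z]; show IsConj F.z (F.f (autS 48)); rwa [hS48])
  have r2 : ∀ {m}, Acts (twist F tS) n spec1.T m → Acts F n aL (act2 m) := fun {m} h x hx => by
    have h' : n * F.f (autS (autSi x)) * n⁻¹ = F.f (autS (m (autSi x))) :=
      h (autSi x) (aL_maps x hx).2.2.1
    rwa [show autS (autSi x) = x from tS.right x] at h'
  obtain ⟨-, -, w3, w4⟩ := word_facts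
  have ic : ∀ x ∈ aL, cj 0 36 x ∈ aL := fun x hx => (aL_maps x hx).2.2.2.2.2.2.2.1
  rcases ha with hA | hB
  · refine false_of_acts F (p := P.n1 * (n * (P.n1 * (n * P.n1)))) ?_ w4.1 w4.2
    have a : Acts F P.n1 aL AN82.act1 := fun x hx => P.conj1 x (aL_maps x hx).2.1
    have b := r2 hA
    have i0 : ∀ x ∈ aL, AN82.act1 x ∈ aL := fun x hx => (aL_maps x hx).2.2.2.2.2.2.1
    have i1 : ∀ x ∈ aL, act2 actA1 x ∈ aL := fun x hx => (aL_maps x hx).2.2.2.2.2.2.2.2.1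
    refine a.comp (b.comp (a.comp (b.comp a i0) ?_) ?_) ?_
    all_goals (intro x hx; simp only [Function.comp]; repeat (first | apply i0 | apply i1))
    all_goals exact hx
  · refine false_of_acts F (p := n * (P.n0 * (F.f 36 * (n * (P.n0 * n))))) ?_ w3.1 w3.2
    have a : Acts F P.n0 aL AN82.act0 := fun x hx => P.conj0 x (aL_maps x hx).1
    have b := r2 hB
    have i0 : ∀ x ∈ aL, AN82.act0 x ∈ aL := fun x hx => (aL_maps x hx).2.2.2.2.1
    have i1 : ∀ x ∈ aL, act2 AN82.act1 x ∈ aL := fun x hx => (aL_maps x hx).2.2.2.2.2.2.2.2.2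
    refine b.comp (a.comp ((acts_f F 36 aL).comp (b.comp (a.comp b i1) ?_) ?_) ?_) ?_
    all_goals (intro x hx; simp only [Function.comp]; repeat (first | apply i0 | apply i1 | apply ic))
    all_goals exact hx

end Cfsg.Agent.AN63
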