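import Cfsg.Agent.Lib.M12Inv51Frame
import Cfsg.Agent.S0215

/-!
Fusion of the involutions of a simple group having the table as the centralizer of an involution.
-/

set_option autoImplicit false
set_option maxRecDepth 100000

namespace Cfsg.Agent.M12Inv51

open Cfsg.Agent.M12Inv51Data

section tools

variable {G : Type*} [Group G]

/-- A 2-subgroup below the 2-part of a bigger group is normalised by an element outside it. -/
theorem exists_normalizing [Finite G] {L D : Subgroup G} (hLD : L ≤ D) {k : ℕ}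
    (hL : Nat.card L = 2 ^ k) (hD : 2 ^ (k + 1) ∣ Nat.card D) :
    ∃ g ∈ D, g ∉ L ∧ (∀ x ∈ L, g * x * g⁻¹ ∈ L) ∧ ∃ j, g ^ 2 ^ j = 1 := by
  haveI : Fact (Nat.Prime 2) := ⟨Nat.prime_two⟩
  have hL' : Nat.card (L.subgroupOf D) = 2 ^ k := by
    rw [Nat.card_congr (Subgroup.subgroupOfEquivOfLe hLD).toEquiv, hL]
  obtain ⟨K, hK, hle⟩ := Sylow.exists_subgroup_card_pow_succ hD hL'
  have hlt : ¬ K ≤ L.subgroupOf D := fun h => by
    have h' : Nat.card K ≤ Nat.card (L.subgroupOf D) := Subgroup.card_le_of_le h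
    rw [hK, hL', pow_succ] at h'
    have := Nat.two_pow_pos k
    omega
  obtain ⟨g, hgK, hgL⟩ := SetLike.not_le_iff_exists.1 hlt
  have hidx : (L.subgroupOf D).relIndex K = 2 := by
    have h := Subgroup.relIndex_mul_relIndex (⊥ : Subgroup D) (L.subgroupOf D) K bot_le hle
    rw [Subgroup.relIndex_bot_left, Subgroup.relIndex_bot_left, hK, hL', pow_succ] at h
    exact Nat.eq_of_mul_eq_mul_left (Nat.two_pow_pos k) h
  have hn : ((L.subgroupOf D).subgroupOf K).Normal := Subgroup.normal_of_index_eq_two hidx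
  refine ⟨g.1, g.2, fun h => hgL (Subgroup.mem_subgroupOf.2 h), fun x hx => ?_, ?_⟩
  · have hx' : (⟨x, hLD hx⟩ : D) ∈ L.subgroupOf D := Subgroup.mem_subgroupOf.2 hx
    have h := hn.conj_mem ⟨_, hle hx'⟩ (Subgroup.mem_subgroupOf.2 hx') ⟨g, hgK⟩
    exact Subgroup.mem_subgroupOf.1 (Subgroup.mem_subgroupOf.1 h)
  · obtain ⟨j, -, hj⟩ := (Nat.dvd_prime_pow Nat.prime_two).1
      (hK ▸ orderOf_dvd_natCard (⟨g, hgK⟩ : K))
    refine ⟨j, ?_⟩
    have := congrArg (fun e : K => ((e : D) : G)) (hj ▸ pow_orderOf_eq_one (⟨g, hgK⟩ : K))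
    simpa using this

theorem card_centralizer_of_isConj {a b : G} (h : IsConj a b) :
    Nat.card (Subgroup.centralizer ({a} : Set G)) =
      Nat.card (Subgroup.centralizer ({b} : Set G)) := by
  obtain ⟨g, rfl⟩ := isConj_iff.1 h
  refine Nat.card_congr ((MulAut.conj g).toEquiv.subtypeEquiv fun x => ?_)
  show x ∈ Subgroup.centralizer ({a} : Set G) ↔ MulAut.conj g x ∈ _
  rw [Subgroup.mem_centralizer_singleton_iff, Subgroup.mem_centralizer_singleton_iff,
    MulAut.conj_apply]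
  constructor
  · intro e
    calc g * x * g⁻¹ * (g * a * g⁻¹) = g * (x * a) * g⁻¹ := by group
      _ = _ := by rw [e]; group
  · intro e
    calc x * a = g⁻¹ * (g * x * g⁻¹ * (g * a * g⁻¹)) * g := by group
      _ = _ := by rw [e]; group

theorem orderOf_two_of_sq {x : G} (h : x * x = 1) (h1 : x ≠ 1) : orderOf x = 2 :=
  orderOf_eq_prime (by rw [pow_two]; exact h) h1

theorem sq_of_orderOf_two {x : G} (h : orderOf x = 2) : x * x = 1 := by
  rw [← pow_two, ← h, pow_orderOf_eq_one]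

theorem isConj_conj (g x : G) : IsConj x (g * x * g⁻¹) := isConj_iff.2 ⟨g, rfl⟩

end tools

/-- Conjugation by `a` maps the list into itself. -/
noncomputable def involOK (i : Ix) : Bool :=
  !(mul i i == 0) || i == 0 || i == zI || qbI.elem i || qaI.elem i || oIs.elem i

theorem invol_cases' : ∀ i : Ix, involOK i = true := by decide +kernel

theorem invol_cases {i : Ix} (h : mul i i = 0) (h0 : i ≠ 0) :
    i = zI ∨ i ∈ qbI ∨ i ∈ qaI ∨ i ∈ oIs := by
  have := invol_cases' i
  simp only [involOK, h, beq_self_eq_true, Bool.not_true, Bool.false_or, Bool.or_eq_true,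
    beq_iff_eq, List.elem_iff] at this
  tauto

theorem qb_class : ∀ i ∈ qbI, ∃ c, cj c bI = i := by decide +kernel
theorem qa_class : ∀ i ∈ qaI, ∃ c, cj c uI = i := by decide +kernel
theorem o_class : ∀ i ∈ oIs, ∃ c, cj c oI = i := by decide +kernel
theorem classes_invol : ∀ i : Ix, i ∈ qbI ∨ i ∈ qaI ∨ i ∈ oIs → mul i i = 0 ∧ i ≠ 0 ∧ i ≠ zI := by
  decide +kernel
theorem zI_invol : mul zI zI = 0 ∧ zI ≠ 0 := by decide +kernel

/-- The list of the centralizer of `u` in the table. -/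
def tU : List Ix := ixs [0, 1, 4, 8, 36, 47, 66, 71, 72, 83, 97, 106, 115, 133, 145, 151]
/-- The list of the centralizer of `o` in the table. -/
def tO : List Ix := ixs [0, 5, 44, 49, 72, 82, 152, 163]

theorem sS_ok : subOK sIs = true ∧ sIs.length = 64 := by decide +kernel
theorem rI_ok : subOK rI = true ∧ rI.length = 32 := by decide +kernel
theorem tU_ok : subOK tU = true ∧ tU.length = 16 := by decide +kernel
theorem tO_ok : subOK tO = true ∧ tO.length = 8 := by decide +kernel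
theorem sS_center : ∀ j : Ix, (sIs.all fun i => comm j i) = true → j = 0 ∨ j = zI := by
  decide +kernel
theorem tU_spec : ∀ i : Ix, i ∈ tU ↔ comm i uI = true := by decide +kernel
theorem tO_spec : ∀ i : Ix, i ∈ tO ↔ comm i oI = true := by decide +kernel
theorem tU_squares : ∀ i ∈ tU, mul i i = 0 ∨ mul i i = zI := by decide +kernel
theorem tU_root : ∃ i ∈ tU, mul i i = zI := by decide +kernel
theorem rI_spec : ∀ i : Ix, i ∈ rI ↔ comm i bI = true := by decide +kernel
theorem rI_center : ∀ j ∈ rI, (rI.all fun i => comm j i) = true →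
    j = 0 ∨ j = zI ∨ j = bI ∨ j = bzI := by decide +kernel
theorem special_mem : zI ∈ rI ∧ bI ∈ rI ∧ bzI ∈ rI ∧ uI ∈ rI ∧ zI ∈ sIs ∧ tI ∈ sIs ∧
    bI ∈ qbI ∧ uI ∈ qaI ∧ oI ∈ oIs ∧ tI ∈ qaI ∧ bzI ∈ qbI := by decide +kernel
theorem special_mul : mul bI zI = bzI ∧ mul zI bI = bzI ∧ mul bI bzI = zI ∧ mul zI bzI = bI ∧
    cj tI bI = bzI ∧ cj tI bzI = bI ∧ cj tI zI = zI ∧ mul tI tI = 0 := by decide +kernel
theorem tI_norm : ∀ i ∈ rI, cj tI i ∈ rI := by decide +kernel

namespace Frame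

variable {G : Type*} [Group G] (F : Frame G)

/-- The image of `b`. -/
def b : G := F.f bI
/-- The image of `u`. -/
def u : G := F.f uI
/-- The image of `t`. -/
def t : G := F.f tI

theorem orderOf_z : orderOf F.z = 2 :=
  orderOf_two_of_sq (F.sq_eq_one_iff.2 zI_invol.1) fun h => zI_invol.2 (F.eq_one_iff.1 h)

theorem orderOf_f {i : Ix} (h : mul i i = 0) (h0 : i ≠ 0) : orderOf (F.f i) = 2 :=
  orderOf_two_of_sq (F.sq_eq_one_iff.2 h) fun e => h0 (F.eq_one_iff.1 e)

theorem conj_qb {i : Ix} (hi : i ∈ qbI) : IsConj F.b (F.f i) := by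
  obtain ⟨c, rfl⟩ := qb_class i hi
  rw [F.map_cj]; exact isConj_conj _ _

theorem conj_qa {i : Ix} (hi : i ∈ qaI) : IsConj F.u (F.f i) := by
  obtain ⟨c, rfl⟩ := qa_class i hi
  rw [F.map_cj]; exact isConj_conj _ _

theorem conj_o {i : Ix} (hi : i ∈ oIs) : IsConj (F.f oI) (F.f i) := by
  obtain ⟨c, rfl⟩ := o_class i hi
  rw [F.map_cj]; exact isConj_conj _ _

variable [Finite G]

include F in
theorem not_dvd_128 : ¬ 128 ∣ Nat.card G := by
  intro h
  have hle : F.sub sIs sS_ok.1 ≤ ⊤ := le_top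
  obtain ⟨g, -, hg, hn, j, hj⟩ := exists_normalizing hle (k := 6) (by rw [F.card_sub, sS_ok.2]; rfl)
    (by rw [Subgroup.card_top]; exact h)
  -- the element fixes the only involution in the centre
  have hz := hn F.z (F.f_mem_sub.2 special_mem.2.2.2.2.1)
  obtain ⟨i, hiS, hi⟩ := hz
  have hall : (sIs.all fun k => comm i k) = true := by
    rw [List.all_eq_true]
    intro k hk
    rw [← F.commute_iff, hi]
    -- every element of the subgroup is a conjugate of one of its elements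
    let φ : F.sub sIs sS_ok.1 → F.sub sIs sS_ok.1 := fun x => ⟨g * x.1 * g⁻¹, hn x.1 x.2⟩
    have hφ : Function.Injective φ := fun a c e => Subtype.ext (by simpa [φ] using e)
    obtain ⟨x, hx⟩ := (Finite.injective_iff_surjective.1 hφ) ⟨F.f k, F.f_mem_sub.2 hk⟩
    rw [← show g * x.1 * g⁻¹ = F.f k from congrArg Subtype.val hx]
    obtain ⟨m, -, hm⟩ := x.2
    rw [← hm]
    calc g * F.z * g⁻¹ * (g * F.f m * g⁻¹) = g * (F.z * F.f m) * g⁻¹ := by group
      _ = g * (F.f m * F.z) * g⁻¹ := by rw [F.commute_z]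
      _ = _ := by group
  have hgz : g * F.z = F.z * g := by
    rcases sS_center i hall with rfl | rfl
    · rw [F.map_one] at hi
      exact absurd (conj_eq_one_iff.1 hi.symm) fun e => zI_invol.2 (F.eq_one_iff.1 e)
    · rw [eq_comm, mul_inv_eq_iff_eq_mul] at hi; exact hi
  -- so it lies in the centralizer, whose 2-part is 64
  haveI : Fact (Nat.Prime 2) := ⟨Nat.prime_two⟩
  set C := Subgroup.centralizer ({F.z} : Set G)
  have hgC : g ∈ C := Subgroup.mem_centralizer_singleton_iff.2 hgz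
  set K := F.sub sIs sS_ok.1 ⊔ Subgroup.zpowers g
  have hKC : K ≤ C := sup_le (by
    rintro x ⟨m, -, rfl⟩; exact F.mem_centralizer_iff.2 ⟨m, rfl⟩)
    (Subgroup.zpowers_le.2 hgC)
  have hnorm : Subgroup.zpowers g ≤ Subgroup.normalizer (F.sub sIs sS_ok.1 : Set G) := by
    rw [Subgroup.zpowers_le]
    exact Subgroup.mem_normalizer_fintype (fun x hx => hn x hx)
  have hK : IsPGroup 2 K := by
    refine IsPGroup.to_sup_of_normal_left' ?_ ?_ hnorm
    · exact IsPGroup.of_card (n := 6) (by rw [F.card_sub, sS_ok.2]; rfl)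
    · intro x
      obtain ⟨n, hn'⟩ := x.2
      refine ⟨j, Subtype.ext ?_⟩
      show (x : G) ^ 2 ^ j = 1
      rw [← show g ^ n = (x : G) from hn', ← zpow_natCast, ← zpow_mul, mul_comm, zpow_mul,
        zpow_natCast, hj, one_zpow]
  obtain ⟨m, hm⟩ := IsPGroup.iff_card.1 hK
  have h1 := Subgroup.card_dvd_of_le hKC
  rw [hm, F.card_centralizer] at h1
  have h2 : Nat.card (F.sub sIs sS_ok.1) < Nat.card K := by
    refine lt_of_le_of_ne (Subgroup.card_le_of_le le_sup_left) fun e => hg ?_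
    rw [Subgroup.eq_of_le_of_card_ge le_sup_left e.ge]
    exact Subgroup.mem_sup_right (Subgroup.mem_zpowers g)
  rw [hm, F.card_sub, sS_ok.2] at h2
  have h7 : 7 ≤ m := by
    by_contra hc
    have := Nat.pow_le_pow_right (show 1 ≤ 2 by norm_num) (show m ≤ 6 by omega)
    omega
  have h3 : 2 ^ 7 ∣ 192 := (pow_dvd_pow 2 h7).trans h1
  norm_num at h3

/-- The Sylow 2-subgroup given by the table. -/
noncomputable def sylow : Sylow 2 G :=
  haveI : Fact (Nat.Prime 2) := ⟨Nat.prime_two⟩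
  Sylow.ofCard (F.sub sIs sS_ok.1) (by
    rw [F.card_sub, sS_ok.2]
    have h64 : 2 ^ 6 ∣ Nat.card G := by
      have := Subgroup.card_subgroup_dvd_card (F.sub sIs sS_ok.1)
      rwa [F.card_sub, sS_ok.2] at this
    have h1 : 6 ≤ (Nat.card G).factorization 2 :=
      (Nat.prime_two.pow_dvd_iff_le_factorization Nat.card_pos.ne').1 h64
    have h2 : ¬ 7 ≤ (Nat.card G).factorization 2 := fun h =>
      F.not_dvd_128 ((Nat.prime_two.pow_dvd_iff_le_factorization Nat.card_pos.ne').2 h)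
    rw [show (Nat.card G).factorization 2 = 6 by omega]; rfl)

theorem mem_sylow {g : G} : g ∈ F.sylow ↔ ∃ i ∈ sIs, F.f i = g := Iff.rfl

/-- Every involution is conjugate to one of the representatives. -/
theorem conj_rep {x : G} (hx : orderOf x = 2) :
    ∃ r, (r = F.z ∨ r = F.b ∨ r = F.u ∨ r = F.f oI) ∧ IsConj r x := by
  haveI : Fact (Nat.Prime 2) := ⟨Nat.prime_two⟩
  have hp : IsPGroup 2 (Subgroup.zpowers x) :=
    IsPGroup.of_card (n := 1) (by rw [Nat.card_zpowers, hx, pow_one])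
  obtain ⟨Q, hQ⟩ := hp.exists_le_sylow
  obtain ⟨g, hg⟩ := MulAction.exists_smul_eq G Q F.sylow
  have hmem : g * x * g⁻¹ ∈ F.sylow := by
    rw [← hg, Sylow.smul_def]
    exact Subgroup.smul_mem_pointwise_smul x (MulAut.conj g) Q.toSubgroup
      (hQ (Subgroup.mem_zpowers x))
  obtain ⟨i, -, hi⟩ := F.mem_sylow.1 hmem
  have hne : g * x * g⁻¹ ≠ 1 := fun e => by
    rw [conj_eq_one_iff] at e; rw [e, orderOf_one] at hx; omega
  have hi2 : mul i i = 0 := F.sq_eq_one_iff.1 (by
    rw [hi, show g * x * g⁻¹ * (g * x * g⁻¹) = g * (x * x) * g⁻¹ by group, sq_of_orderOf_two hx]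
    group)
  have hback : IsConj (F.f i) x := by rw [hi]; exact (isConj_conj g x).symm
  rcases invol_cases hi2 (fun e => hne (by rw [← hi, e, F.map_one])) with rfl | h | h | h
  · exact ⟨F.z, Or.inl rfl, hback⟩
  · exact ⟨F.b, Or.inr (Or.inl rfl), (F.conj_qb h).trans hback⟩
  · exact ⟨F.u, Or.inr (Or.inr (Or.inl rfl)), (F.conj_qa h).trans hback⟩
  · exact ⟨F.f oI, Or.inr (Or.inr (Or.inr rfl)), (F.conj_o h).trans hback⟩

theorem not_dvd_32_u : ¬ 32 ∣ Nat.card (Subgroup.centralizer ({F.u} : Set G)) := by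
  intro h
  have hle : F.sub tU tU_ok.1 ≤ Subgroup.centralizer ({F.u} : Set G) := by
    rintro x ⟨m, hm, rfl⟩
    rw [Subgroup.mem_centralizer_singleton_iff, u, F.commute_iff]
    exact (tU_spec m).1 hm
  obtain ⟨g, hgu, hg, hn, -⟩ := exists_normalizing hle (k := 4) (by rw [F.card_sub, tU_ok.2]; rfl) h
  obtain ⟨a, ha, haz⟩ := tU_root
  obtain ⟨i, hi, hi'⟩ := hn (F.f a) (F.f_mem_sub.2 ha)
  have e : g * F.z * g⁻¹ = F.f (mul i i) := by
    rw [F.map_mul, hi', show F.z = F.f zI from rfl, ← haz, F.map_mul]; group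
  rcases tU_squares i hi with h0 | h0
  · rw [h0, F.map_one, conj_eq_one_iff] at e
    exact zI_invol.2 (F.eq_one_iff.1 e)
  · rw [h0, mul_inv_eq_iff_eq_mul] at e
    obtain ⟨m, rfl⟩ := F.exists_of_commute e
    refine hg (F.f_mem_sub.2 ?_)
    have := Subgroup.mem_centralizer_singleton_iff.1 hgu
    rw [u, F.commute_iff] at this
    exact (tU_spec m).2 this

theorem not_conj_z_u : ¬ IsConj F.z F.u := by
  intro h
  have := card_centralizer_of_isConj h
  rw [F.card_centralizer] at this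
  exact F.not_dvd_32_u (this ▸ by norm_num)

end Frame

end Cfsg.Agent.M12Inv51
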