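import Cfsg.Agent.Lib.AN63Action
import Cfsg.Agent.Lib.M12Inv51Fusion

/-!
# S3344: changing the frame by an automorphism, and classes in the table
-/

set_option autoImplicit false
set_option maxRecDepth 100000

namespace Cfsg.Agent.AN63

open Cfsg.Agent.AN82

/-- A pair of mutually inverse automorphisms of the table fixing `z`. -/
structure TableAut where
  /-- the map -/
  p : Ix → Ix
  /-- the inverse -/
  q : Ix → Ix
  left : ∀ a, q (p a) = a
  right : ∀ a, p (q a) = a
  map_mul : ∀ a b, p (mul 0 a b) = mul 0 (p a) (p b)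
  fix : p zI = zI

/-- `P`. -/
def tP : TableAut :=
  ⟨autP, autPi, by decide +kernel, by decide +kernel, by decide +kernel, by decide +kernel⟩
/-- `S`. -/
def tS : TableAut :=
  ⟨autS, autSi, by decide +kernel, by decide +kernel, by decide +kernel, by decide +kernel⟩
/-- `R`. -/
def tR : TableAut :=
  ⟨autR, autRi, by decide +kernel, by decide +kernel, by decide +kernel, by decide +kernel⟩

variable {G : Type*} [Group G]

/-- The frame seen through an automorphism. -/
def twist (F : Frame 0 G) (t : TableAut) : Frame 0 G where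
  f x := F.f (t.p x)
  inj := fun a b e => by
    have h := congrArg t.q (F.inj e)
    rwa [t.left, t.left] at h
  map_mul a b := by rw [t.map_mul, F.map_mul]
  cent g := by
    rw [t.fix, F.cent g]
    constructor
    · rintro ⟨i, rfl⟩; exact ⟨t.q i, by rw [t.right]⟩
    · rintro ⟨i, rfl⟩; exact ⟨_, rfl⟩

theorem twist_z (F : Frame 0 G) (t : TableAut) : (twist F t).z = F.z := congrArg F.f t.fix

theorem conj_cj (F : Frame 0 G) (c a : Ix) : IsConj (F.f a) (F.f (cj 0 c a)) := by
  rw [F.map_cj]; exact M12Inv51.isConj_conj _ _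

theorem plane_facts : ∀ u : Ix, inQ u = true → mul 0 u u = 0 → u ≠ 0 → u ≠ zI →
    ∃ c, cj 0 c u ∈ ([6, 48, 36] : List Ix) := by decide +kernel

theorem aut_facts : autP 6 = 48 ∧ autP 48 = 6 ∧ autS 6 = 6 ∧ autS 48 = 54 ∧
    (∃ c, cj 0 c 36 = autP 36) ∧ (∃ c, cj 0 c 54 = 36) ∧ (∃ c, cj 0 c 48 = autS 36) := by
  decide +kernel

/-- `6` can be made fused with `z`. -/
theorem exists_six (F : Frame 0 G) (h : ∃ u, inQ u = true ∧ u ≠ zI ∧ IsConj F.z (F.f u)) :
    ∃ F' : Frame 0 G, IsConj F'.z (F'.f 6) := by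
  obtain ⟨u, hu, huz, hconj⟩ := h
  obtain ⟨g, hg⟩ := isConj_iff.1 hconj
  have hu2 : mul 0 u u = 0 := by
    rw [← F.sq_eq_one_iff, ← hg]
    calc g * F.z * g⁻¹ * (g * F.z * g⁻¹) = g * (F.z * F.z) * g⁻¹ := by group
      _ = 1 := by rw [F.z_sq]; group
  have hu0 : u ≠ 0 := by
    rintro rfl
    rw [F.map_one, conj_eq_one_iff] at hg
    exact F.z_ne_one hg
  obtain ⟨c, hc⟩ := plane_facts u hu hu2 hu0 huz
  have h' := hconj.trans (conj_cj F c u)
  obtain ⟨hP6, hP48, -, hS48, -, ⟨d, hd⟩, -⟩ := aut_facts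
  simp only [List.mem_cons, List.not_mem_nil, or_false] at hc
  rcases hc with e | e | e <;> rw [e] at h'
  · exact ⟨F, h'⟩
  · refine ⟨twist F tP, ?_⟩
    rw [twist_z]; show IsConj F.z (F.f (autP 6)); rwa [hP6]
  · refine ⟨twist (twist F tS) tP, ?_⟩
    rw [twist_z, twist_z]; show IsConj F.z (F.f (autS (autP 6)))
    rw [hP6, hS48]
    exact h'.trans (hd ▸ (conj_cj F d 54).symm)

/-- Acting maps compose. -/
theorem Acts.comp {F : Frame 0 G} {p p' : G} {l : List Ix} {m m' : Ix → Ix}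
    (h : Acts F p l m) (h' : Acts F p' l m') (hl : ∀ x ∈ l, m' x ∈ l) :
    Acts F (p * p') l (m ∘ m') := fun x hx => by
  rw [Function.comp, ← h _ (hl x hx), ← h' x hx]; group

theorem acts_f (F : Frame 0 G) (c : Ix) (l : List Ix) : Acts F (F.f c) l (cj 0 c) :=
  fun x _ => (F.map_cj c x).symm

end Cfsg.Agent.AN63
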