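import Mathlib
import Cfsg.Prelude.Def_Sporadic_a

/-!
The length-24 code as bitmasks.  A point is numbered `0..22` by its residue, the extra point is `23`.
A word is a natural number below `2^24`; the code is the image of `enc` on numbers below `4096`.
-/

set_option autoImplicit false

namespace Cfsg.Agent.GolayBasic

open Cfsg

/-- number of a point -/
def idx : GolayPt → ℕ
  | none => 23
  | some x => x.val

/-- point with a given number -/
def pt (i : ℕ) : GolayPt := if i < 23 then some (i : ZMod 23) else none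

theorem idx_lt (p : GolayPt) : idx p < 24 := by
  cases p with
  | none => simp [idx]
  | some x => simp only [idx]; exact lt_trans x.val_lt (by norm_num)

theorem pt_idx (p : GolayPt) : pt (idx p) = p := by
  revert p; decide +kernel

theorem idx_pt {i : ℕ} (h : i < 24) : idx (pt i) = i := by
  revert h; revert i; decide +kernel

theorem idx_inj {p q : GolayPt} (h : idx p = idx q) : p = q := by
  rw [← pt_idx p, ← pt_idx q, h]

/-- the numbering as an equivalence -/
def idxEquiv : GolayPt ≃ Fin 24 where
  toFun p := ⟨idx p, idx_lt p⟩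
  invFun i := pt i
  left_inv p := pt_idx p
  right_inv i := Fin.ext (idx_pt i.isLt)

/-- the word of a mask -/
def word (m : ℕ) : GolayPt → ZMod 2 := fun p => if m.testBit (idx p) then 1 else 0

/-- the set of a mask -/
def mset (m : ℕ) : Finset GolayPt := Finset.univ.filter fun p => m.testBit (idx p)

/-- the mask of a word -/
def wmask (w : GolayPt → ZMod 2) : ℕ := Nat.ofBits fun i : Fin 24 => decide (w (pt i) ≠ 0)

/-- the mask of a set -/
def smask (s : Finset GolayPt) : ℕ := Nat.ofBits fun i : Fin 24 => decide (pt i ∈ s)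

theorem mem_mset {m : ℕ} {p : GolayPt} : p ∈ mset m ↔ m.testBit (idx p) = true := by
  simp [mset]

theorem word_apply (m : ℕ) (p : GolayPt) : word m p = if m.testBit (idx p) then 1 else 0 := rfl

theorem word_wmask (w : GolayPt → ZMod 2) : word (wmask w) = w := by
  funext p
  rw [word_apply, wmask, Nat.testBit_ofBits]
  simp only [idx_lt p, dif_pos, pt_idx]
  generalize w p = a
  revert a; decide

theorem mset_smask (s : Finset GolayPt) : mset (smask s) = s := by
  ext p
  rw [mem_mset, smask, Nat.testBit_ofBits]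
  simp [idx_lt p, pt_idx]

theorem wmask_lt (w : GolayPt → ZMod 2) : wmask w < 2 ^ 24 := Nat.ofBits_lt_two_pow _

theorem smask_lt (s : Finset GolayPt) : smask s < 2 ^ 24 := Nat.ofBits_lt_two_pow _

theorem eq_of_testBit_lt {a b : ℕ} (ha : a < 2 ^ 24) (hb : b < 2 ^ 24)
    (h : ∀ i, i < 24 → a.testBit i = b.testBit i) : a = b := by
  apply Nat.eq_of_testBit_eq
  intro i
  by_cases hi : i < 24
  · exact h i hi
  · rw [Nat.testBit_lt_two_pow (lt_of_lt_of_le ha (Nat.pow_le_pow_right (by norm_num) (by omega))),
      Nat.testBit_lt_two_pow (lt_of_lt_of_le hb (Nat.pow_le_pow_right (by norm_num) (by omega)))]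

theorem mset_inj {a b : ℕ} (ha : a < 2 ^ 24) (hb : b < 2 ^ 24) (h : mset a = mset b) : a = b := by
  refine eq_of_testBit_lt ha hb fun i hi => ?_
  have := congrArg (fun s => decide (pt i ∈ s)) h
  simpa [mem_mset, idx_pt hi] using this

theorem word_inj {a b : ℕ} (ha : a < 2 ^ 24) (hb : b < 2 ^ 24) (h : word a = word b) : a = b := by
  refine eq_of_testBit_lt ha hb fun i hi => ?_
  have := congrFun h (pt i)
  rw [word_apply, word_apply, idx_pt hi] at this
  revert this
  cases a.testBit i <;> cases b.testBit i <;> simp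

theorem word_xor (a b : ℕ) : word (a ^^^ b) = word a + word b := by
  funext p
  simp only [word_apply, Pi.add_apply, Nat.testBit_xor]
  cases a.testBit (idx p) <;> cases b.testBit (idx p) <;> decide

theorem word_zero : word 0 = 0 := by
  funext p; simp [word_apply]

theorem mset_zero : mset 0 = ∅ := by
  ext p; simp [mem_mset]

theorem mset_all : mset 16777215 = Finset.univ := by
  decide +kernel

theorem support₂_word (m : ℕ) : support₂ (word m) = mset m := by
  ext p
  rw [mem_mset, support₂, Finset.mem_filter, word_apply]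
  cases m.testBit (idx p) <;> simp

theorem support₂_inj {α : Type*} [Fintype α] {v w : α → ZMod 2} (h : support₂ v = support₂ w) :
    v = w := by
  funext a
  have := congrArg (fun s => a ∈ s) h
  simp only [support₂, Finset.mem_filter, Finset.mem_univ, true_and] at this
  revert this
  generalize v a = x
  generalize w a = y
  revert x y
  decide

theorem mset_and (a b : ℕ) : mset (a &&& b) = mset a ∩ mset b := by
  ext p; simp [mem_mset, Nat.testBit_and]

theorem mset_or (a b : ℕ) : mset (a ||| b) = mset a ∪ mset b := by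
  ext p; simp [mem_mset, Nat.testBit_or]

theorem mset_xor (a b : ℕ) : mset (a ^^^ b) = symmDiff (mset a) (mset b) := by
  ext p
  simp only [mem_mset, Nat.testBit_xor, Finset.mem_symmDiff]
  cases a.testBit (idx p) <;> cases b.testBit (idx p) <;> simp

theorem mset_compl (a : ℕ) : mset (16777215 ^^^ a) = (mset a)ᶜ := by
  rw [mset_xor, mset_all]
  ext p; simp [Finset.mem_symmDiff]

/-! ### weights -/

/-- number of set bits below 24 -/
def wt (m : ℕ) : ℕ :=
    (m &&& 1) + ((m >>> 1) &&& 1) + ((m >>> 2) &&& 1) + ((m >>> 3) &&& 1) + ((m >>> 4) &&& 1) +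
    ((m >>> 5) &&& 1) + ((m >>> 6) &&& 1) + ((m >>> 7) &&& 1) + ((m >>> 8) &&& 1) + ((m >>> 9)
    &&& 1) + ((m >>> 10) &&& 1) + ((m >>> 11) &&& 1) + ((m >>> 12) &&& 1) + ((m >>> 13) &&& 1) +
    ((m >>> 14) &&& 1) + ((m >>> 15) &&& 1) + ((m >>> 16) &&& 1) + ((m >>> 17) &&& 1) + ((m >>>
    18) &&& 1) + ((m >>> 19) &&& 1) + ((m >>> 20) &&& 1) + ((m >>> 21) &&& 1) + ((m >>> 22) &&&
    1) + ((m >>> 23) &&& 1)

theorem shiftRight_and_one (m i : ℕ) : (m >>> i) &&& 1 = (m.testBit i).toNat := by
  rw [Nat.and_one_is_mod, Nat.toNat_testBit, Nat.shiftRight_eq_div_pow]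

theorem wt_eq_sum (m : ℕ) : wt m = ∑ i ∈ Finset.range 24, (m.testBit i).toNat := by
  simp only [Finset.sum_range_succ, Finset.sum_range_zero, zero_add, ← shiftRight_and_one,
    Nat.shiftRight_zero, wt]

theorem card_mset (m : ℕ) : (mset m).card = wt m := by
  rw [wt_eq_sum, mset, Finset.card_filter, Finset.sum_range]
  refine Finset.sum_equiv idxEquiv (by simp) fun p _ => ?_
  show _ = (m.testBit (idx p)).toNat
  cases m.testBit (idx p) <;> simp

theorem hammingNorm_word (m : ℕ) : hammingNorm (word m) = wt m := by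
  rw [← card_mset, ← support₂_word]
  simp [hammingNorm, support₂]

theorem wt_pos {m : ℕ} (hm : m < 2 ^ 24) (h : m ≠ 0) : 0 < wt m := by
  rw [← card_mset, Finset.card_pos, Finset.nonempty_iff_ne_empty, ← mset_zero]
  exact fun e => h (mset_inj hm (by norm_num) e)

/-! ### the code -/

/-- a systematic basis of the code: row `i` has bit `i` and no other bit below 12 -/
def basisRows : List ℕ :=
  [13062145, 4845570, 13938692, 7221256, 10170384, 11952160, 15515712, 2019456, 4038912, 8077824,
    11654144, 14919680]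

/-- row `i` written as a sum of the 24 spanning words -/
def basisExpr : List ℕ :=
  [8390313, 280, 8389785, 1400, 8390330, 8390551, 8390093, 2000, 1347, 101, 8390243, 8390181]

/-- the 23 translates of the squares, then the all-ones word -/
def genRows : List ℕ :=
  [340831, 681662, 1363324, 2726648, 5453296, 2517985, 5035970, 1683333, 3366666, 6733332, 5078057,
    1767507, 3535014, 7070028, 5751449, 3114291, 6228582, 4068557, 8137114, 7885621, 7382635,
    6376663, 4364719, 16777215]

/-- the combination of the rows of `l` selected by the bits of `x` -/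
def combo : List ℕ → ℕ → ℕ
  | [], _ => 0
  | b :: l, x => ((x &&& 1) * b) ^^^ combo l (x >>> 1)

/-- the codeword with given twelve low bits -/
def enc (x : ℕ) : ℕ := combo basisRows x

/-- membership test -/
def inCode (m : ℕ) : Bool := enc (m &&& 4095) == m

theorem combo_xor (l : List ℕ) : ∀ x y, combo l (x ^^^ y) = combo l x ^^^ combo l y := by
  induction l with
  | nil => intro x y; simp [combo]
  | cons b l ih =>
    intro x y
    simp only [combo, Nat.shiftRight_xor_distrib, ih, Nat.and_xor_distrib_right]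
    rcases Nat.mod_two_eq_zero_or_one x with hx | hx <;>
      rcases Nat.mod_two_eq_zero_or_one y with hy | hy <;>
      simp [Nat.and_one_is_mod, hx, hy, Nat.xor_assoc, Nat.xor_comm, Nat.xor_left_comm]

theorem enc_xor (x y : ℕ) : enc (x ^^^ y) = enc x ^^^ enc y := combo_xor _ x y

theorem enc_zero : enc 0 = 0 := by decide +kernel

theorem inCode_xor {a b : ℕ} (ha : inCode a = true) (hb : inCode b = true) :
    inCode (a ^^^ b) = true := by
  simp only [inCode, beq_iff_eq] at *
  rw [Nat.and_xor_distrib_right, enc_xor, ha, hb]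

theorem enc_props_aux :
    (List.range 4096).all (fun x => enc x &&& 4095 == x && decide (enc x < 16777216)) = true := by
  decide +kernel

theorem enc_and {x : ℕ} (hx : x < 4096) : enc x &&& 4095 = x := by
  have := List.all_eq_true.1 enc_props_aux x (List.mem_range.2 hx)
  simp only [Bool.and_eq_true, beq_iff_eq, decide_eq_true_eq] at this
  exact this.1

theorem enc_lt {x : ℕ} (hx : x < 4096) : enc x < 2 ^ 24 := by
  have := List.all_eq_true.1 enc_props_aux x (List.mem_range.2 hx)
  simp only [Bool.and_eq_true, beq_iff_eq, decide_eq_true_eq] at this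
  exact this.2

theorem inCode_enc {x : ℕ} (hx : x < 4096) : inCode (enc x) = true := by
  simp [inCode, enc_and hx]

theorem and_lt_4096 (m : ℕ) : m &&& 4095 < 4096 :=
  lt_of_le_of_lt Nat.and_le_right (by norm_num)

theorem exists_enc_of_inCode {m : ℕ} (h : inCode m = true) : ∃ x < 4096, enc x = m :=
  ⟨m &&& 4095, and_lt_4096 m, by simpa [inCode] using h⟩

theorem inCode_lt {m : ℕ} (h : inCode m = true) : m < 2 ^ 24 := by
  obtain ⟨x, hx, rfl⟩ := exists_enc_of_inCode h
  exact enc_lt hx

/-- the code spanned by the rows -/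
def maskCode : Submodule (ZMod 2) (GolayPt → ZMod 2) where
  carrier := {w | ∃ m, inCode m = true ∧ word m = w}
  zero_mem' := ⟨0, by decide +kernel, word_zero⟩
  add_mem' := by
    rintro v w ⟨a, ha, rfl⟩ ⟨b, hb, rfl⟩
    exact ⟨a ^^^ b, inCode_xor ha hb, word_xor a b⟩
  smul_mem' := by
    intro c w hw
    obtain rfl | rfl : c = 0 ∨ c = 1 := by revert c; decide
    · exact ⟨0, by decide +kernel, by rw [word_zero, zero_smul]⟩
    · rwa [one_smul]

theorem qrWord_eq (t : ZMod 23) : qrWord t = word (genRows.getD t.val 0) := by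
  funext p; revert p t; decide +kernel

theorem one_eq_word : (1 : GolayPt → ZMod 2) = word 16777215 := by
  funext p; revert p; decide +kernel

theorem word_genRow_mem (i : ℕ) (hi : i < 24) : word (genRows.getD i 0) ∈ golayCode := by
  by_cases h : i < 23
  · apply Submodule.subset_span
    left
    refine ⟨(i : ZMod 23), ?_⟩
    rw [qrWord_eq, ZMod.val_natCast, Nat.mod_eq_of_lt h]
  · obtain rfl : i = 23 := by omega
    apply Submodule.subset_span
    right
    exact one_eq_word.symm

theorem word_combo_mem (l : List ℕ) (h : ∀ b ∈ l, word b ∈ golayCode) :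
    ∀ x, word (combo l x) ∈ golayCode := by
  induction l with
  | nil => intro x; simp [combo, word_zero]
  | cons b l ih =>
    intro x
    rw [combo, word_xor]
    refine Submodule.add_mem _ ?_ (ih (fun c hc => h c (List.mem_cons_of_mem _ hc)) _)
    rcases Nat.mod_two_eq_zero_or_one x with hx | hx
    · simp [Nat.and_one_is_mod, hx, word_zero]
    · simpa [Nat.and_one_is_mod, hx] using h b List.mem_cons_self

theorem golayCode_eq : golayCode = maskCode := by
  refine le_antisymm ?_ ?_
  · rw [golayCode, Submodule.span_le]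
    rintro w (⟨t, rfl⟩ | rfl)
    · refine ⟨genRows.getD t.val 0, ?_, (qrWord_eq t).symm⟩
      revert t; decide +kernel
    · exact ⟨16777215, by decide +kernel, one_eq_word.symm⟩
  · rintro w ⟨m, hm, rfl⟩
    obtain ⟨x, -, rfl⟩ := exists_enc_of_inCode hm
    have hgen : ∀ b ∈ genRows, word b ∈ golayCode := by
      intro b hb
      obtain ⟨i, hi, rfl⟩ := List.mem_iff_getElem.1 hb
      rw [← List.getD_eq_getElem (d := 0)]
      exact word_genRow_mem i hi
    refine word_combo_mem basisRows (fun b hb => ?_) x
    have hexpr : basisExpr.map (combo genRows) = basisRows := by decide +kernel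
    rw [← hexpr, List.mem_map] at hb
    obtain ⟨e, -, rfl⟩ := hb
    exact word_combo_mem genRows hgen e

theorem mem_golayCode {w : GolayPt → ZMod 2} : w ∈ golayCode ↔ inCode (wmask w) = true := by
  rw [golayCode_eq]
  constructor
  · rintro ⟨m, hm, rfl⟩
    rwa [word_inj (wmask_lt _) (inCode_lt hm) (word_wmask _)]
  · exact fun h => ⟨_, h, word_wmask w⟩

theorem word_mem_iff {m : ℕ} (hm : m < 2 ^ 24) : word m ∈ golayCode ↔ inCode m = true := by
  rw [mem_golayCode, word_inj (wmask_lt _) hm (word_wmask _)]

theorem word_enc_mem {x : ℕ} (hx : x < 4096) : word (enc x) ∈ golayCode :=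
  (word_mem_iff (enc_lt hx)).2 (inCode_enc hx)

theorem exists_enc {w : GolayPt → ZMod 2} (hw : w ∈ golayCode) : ∃ x < 4096, word (enc x) = w := by
  obtain ⟨x, hx, h⟩ := exists_enc_of_inCode (mem_golayCode.1 hw)
  exact ⟨x, hx, by rw [h, word_wmask]⟩

/-- the code as a type -/
noncomputable def encEquiv : Fin 4096 ≃ golayCode :=
  Equiv.ofBijective (fun x => ⟨word (enc x), word_enc_mem x.isLt⟩) <| by
    constructor
    · intro x y h
      have := word_inj (enc_lt x.isLt) (enc_lt y.isLt) (congrArg Subtype.val h)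
      exact Fin.ext (by rw [← enc_and x.isLt, ← enc_and y.isLt, this])
    · rintro ⟨w, hw⟩
      obtain ⟨x, hx, h⟩ := exists_enc hw
      exact ⟨⟨x, hx⟩, Subtype.ext h⟩

theorem card_golayCode : Nat.card golayCode = 4096 := by
  rw [← Nat.card_congr encEquiv, Nat.card_fin]

theorem finrank_golayCode : Module.finrank (ZMod 2) golayCode = 12 := by
  have h := Module.natCard_eq_pow_finrank (K := ZMod 2) (V := golayCode)
  rw [card_golayCode, Nat.card_zmod] at h
  exact (Nat.pow_right_injective (le_refl 2) ((show (2:ℕ) ^ 12 = 4096 by norm_num).trans h)).symm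

/-! ### supports of codewords -/

theorem mem_supports_iff {s : Finset GolayPt} :
    s ∈ supports (golayCode : Set (GolayPt → ZMod 2)) ↔ ∃ x < 4096, mset (enc x) = s := by
  constructor
  · rintro ⟨w, hw, rfl⟩
    obtain ⟨x, hx, rfl⟩ := exists_enc hw
    exact ⟨x, hx, (support₂_word _).symm⟩
  · rintro ⟨x, hx, rfl⟩
    exact ⟨_, word_enc_mem hx, support₂_word _⟩

theorem mset_mem_supports {m : ℕ} (hm : m < 2 ^ 24) :
    mset m ∈ supports (golayCode : Set (GolayPt → ZMod 2)) ↔ inCode m = true := by
  rw [mem_supports_iff]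
  constructor
  · rintro ⟨x, hx, h⟩
    rw [← mset_inj (enc_lt hx) hm h]; exact inCode_enc hx
  · intro h
    obtain ⟨x, hx, rfl⟩ := exists_enc_of_inCode h
    exact ⟨x, hx, rfl⟩

/-- decidable membership in the code -/
theorem mem_supports_mask {s : Finset GolayPt} :
    s ∈ supports (golayCode : Set (GolayPt → ZMod 2)) ↔ inCode (smask s) = true := by
  conv_lhs => rw [← mset_smask s]
  exact mset_mem_supports (smask_lt s)

theorem symmDiff_mem_supports {s t : Finset GolayPt}
    (hs : s ∈ supports (golayCode : Set (GolayPt → ZMod 2)))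
    (ht : t ∈ supports (golayCode : Set (GolayPt → ZMod 2))) :
    symmDiff s t ∈ supports (golayCode : Set (GolayPt → ZMod 2)) := by
  obtain ⟨x, hx, rfl⟩ := mem_supports_iff.1 hs
  obtain ⟨y, hy, rfl⟩ := mem_supports_iff.1 ht
  rw [← mset_xor, mset_mem_supports (Nat.xor_lt_two_pow (enc_lt hx) (enc_lt hy))]
  exact inCode_xor (inCode_enc hx) (inCode_enc hy)

theorem univ_mem_supports :
    (Finset.univ : Finset GolayPt) ∈ supports (golayCode : Set (GolayPt → ZMod 2)) := by
  rw [← mset_all, mset_mem_supports (by norm_num)]; decide +kernel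

theorem compl_mem_supports {s : Finset GolayPt}
    (hs : s ∈ supports (golayCode : Set (GolayPt → ZMod 2))) :
    sᶜ ∈ supports (golayCode : Set (GolayPt → ZMod 2)) := by
  have := symmDiff_mem_supports univ_mem_supports hs
  rwa [show symmDiff (Finset.univ : Finset GolayPt) s = sᶜ by ext p; simp [Finset.mem_symmDiff]] at this

theorem weights_aux : (List.range 4096).all (fun x =>
    x == 0 || wt (enc x) == 8 || wt (enc x) == 12 || wt (enc x) == 16 || wt (enc x) == 24) = true := by
  decide +kernel

theorem card_support_cases {s : Finset GolayPt}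
    (hs : s ∈ supports (golayCode : Set (GolayPt → ZMod 2))) :
    s = ∅ ∨ s.card = 8 ∨ s.card = 12 ∨ s.card = 16 ∨ s.card = 24 := by
  obtain ⟨x, hx, rfl⟩ := mem_supports_iff.1 hs
  have := List.all_eq_true.1 weights_aux x (List.mem_range.2 hx)
  simp only [Bool.or_eq_true, beq_iff_eq] at this
  rcases this with (((rfl | h) | h) | h) | h
  · left; rw [enc_zero, mset_zero]
  all_goals (rw [card_mset]; simp [h])

theorem eq_empty_of_card_lt {s : Finset GolayPt}
    (hs : s ∈ supports (golayCode : Set (GolayPt → ZMod 2))) (h : s.card < 8) : s = ∅ := by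
  rcases card_support_cases hs with h' | h' | h' | h' | h' <;> first | exact h' | omega

theorem hammingNorm_cases {w : GolayPt → ZMod 2} (hw : w ∈ golayCode) :
    hammingNorm w = 0 ∨ hammingNorm w = 8 ∨ hammingNorm w = 12 ∨ hammingNorm w = 16 ∨
      hammingNorm w = 24 := by
  have h := card_support_cases ⟨w, hw, rfl⟩
  have e : hammingNorm w = (support₂ w).card := by simp [hammingNorm, support₂]
  rw [e]
  rcases h with h | h
  · simp [h]
  · exact Or.inr h

/-- the codewords of given weight, as numbers below 4096 -/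
def ofWeight (n : ℕ) : List ℕ := (List.range 4096).filter fun x => wt (enc x) == n

theorem mem_wordsOfWeight {n : ℕ} {s : Finset GolayPt} :
    s ∈ wordsOfWeight (golayCode : Set (GolayPt → ZMod 2)) n ↔
      ∃ x ∈ ofWeight n, mset (enc x) = s := by
  simp only [wordsOfWeight, Set.mem_ofPred_eq, ofWeight, List.mem_filter, List.mem_range, beq_iff_eq,
    mem_supports_iff]
  constructor
  · rintro ⟨⟨x, hx, rfl⟩, h⟩; exact ⟨x, ⟨hx, by rw [← card_mset]; exact h⟩, rfl⟩
  · rintro ⟨x, ⟨hx, h⟩, rfl⟩; exact ⟨⟨x, hx, rfl⟩, by rw [card_mset]; exact h⟩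

theorem wordsOfWeight_eq (n : ℕ) :
    wordsOfWeight (golayCode : Set (GolayPt → ZMod 2)) n =
      (fun x => mset (enc x)) '' {x | x ∈ ofWeight n} := by
  ext s; rw [mem_wordsOfWeight]; rfl

theorem injOn_mset_enc : Set.InjOn (fun x => mset (enc x)) {x | x < 4096} := by
  intro x hx y hy h
  rw [← enc_and hx, ← enc_and hy, mset_inj (enc_lt hx) (enc_lt hy) h]

theorem ncard_wordsOfWeight (n : ℕ) :
    (wordsOfWeight (golayCode : Set (GolayPt → ZMod 2)) n).ncard = (ofWeight n).length := by
  have hsub : {x | x ∈ ofWeight n} ⊆ {x | x < 4096} := fun x (hx : x ∈ ofWeight n) =>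
    List.mem_range.1 (List.mem_filter.1 hx).1
  rw [wordsOfWeight_eq, Set.InjOn.ncard_image (injOn_mset_enc.mono hsub)]
  have hs : {x | x ∈ ofWeight n} = ((ofWeight n).toFinset : Set ℕ) := by ext x; simp
  rw [hs, Set.ncard_coe_finset, List.toFinset_card_of_nodup]
  exact List.nodup_range.filter _

theorem ncard_octads : octads.ncard = 759 := by
  rw [octads, ncard_wordsOfWeight]; decide +kernel

theorem ncard_dodecads : dodecads.ncard = 2576 := by
  rw [dodecads, ncard_wordsOfWeight]; decide +kernel

theorem mem_octads {s : Finset GolayPt} :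
    s ∈ octads ↔ s ∈ supports (golayCode : Set (GolayPt → ZMod 2)) ∧ s.card = 8 := Iff.rfl

theorem mem_dodecads {s : Finset GolayPt} :
    s ∈ dodecads ↔ s ∈ supports (golayCode : Set (GolayPt → ZMod 2)) ∧ s.card = 12 := Iff.rfl

theorem mset_mem_octads {m : ℕ} (hm : m < 2 ^ 24) :
    mset m ∈ octads ↔ inCode m = true ∧ wt m = 8 := by
  rw [mem_octads, mset_mem_supports hm, card_mset]

theorem mset_mem_dodecads {m : ℕ} (hm : m < 2 ^ 24) :
    mset m ∈ dodecads ↔ inCode m = true ∧ wt m = 12 := by
  rw [mem_dodecads, mset_mem_supports hm, card_mset]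

/-! ### self-orthogonality -/

theorem cast_card_inter (v w : GolayPt → ZMod 2) :
    ((support₂ v ∩ support₂ w).card : ZMod 2) = ∑ i, v i * w i := by
  rw [show support₂ v ∩ support₂ w = Finset.univ.filter fun i => v i * w i ≠ 0 by
    ext i; simp [support₂]]
  rw [Finset.card_filter, Nat.cast_sum]
  refine Finset.sum_congr rfl fun i _ => ?_
  generalize v i * w i = a
  revert a; decide

theorem gen_orth_aux : basisRows.all (fun a => basisRows.all fun b => wt (a &&& b) % 2 == 0) = true := by
  decide +kernel

theorem even_inter_combo (a : ℕ) (l : List ℕ)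
    (h : ∀ b ∈ l, ((mset a ∩ mset b).card : ZMod 2) = 0) :
    ∀ x, ((mset a ∩ mset (combo l x)).card : ZMod 2) = 0 := by
  induction l with
  | nil => intro x; simp [combo, mset_zero]
  | cons b l ih =>
    intro x
    have e : ∀ m, ((mset a ∩ mset m).card : ZMod 2) = ∑ i, word a i * word m i := by
      intro m; rw [← cast_card_inter, support₂_word, support₂_word]
    rw [e, combo, word_xor]
    simp only [Pi.add_apply, mul_add, Finset.sum_add_distrib, ← e]
    rw [ih (fun c hc => h c (List.mem_cons_of_mem _ hc)), add_zero]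
    rcases Nat.mod_two_eq_zero_or_one x with hx | hx
    · simp [Nat.and_one_is_mod, hx, mset_zero]
    · simpa [Nat.and_one_is_mod, hx] using h b List.mem_cons_self

theorem even_card_inter {s t : Finset GolayPt}
    (hs : s ∈ supports (golayCode : Set (GolayPt → ZMod 2)))
    (ht : t ∈ supports (golayCode : Set (GolayPt → ZMod 2))) : Even (s ∩ t).card := by
  obtain ⟨x, hx, rfl⟩ := mem_supports_iff.1 hs
  obtain ⟨y, hy, rfl⟩ := mem_supports_iff.1 ht
  rw [← ZMod.natCast_eq_zero_iff_even]
  refine even_inter_combo _ basisRows (fun b hb => ?_) y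
  rw [Finset.inter_comm]
  refine even_inter_combo _ basisRows (fun a ha => ?_) x
  rw [Finset.inter_comm, ZMod.natCast_eq_zero_iff_even, Nat.even_iff, ← mset_and, card_mset]
  exact beq_iff_eq.1 (List.all_eq_true.1 (List.all_eq_true.1 gen_orth_aux a ha) b hb)

theorem dot_eq_zero {v w : GolayPt → ZMod 2} (hv : v ∈ golayCode) (hw : w ∈ golayCode) :
    ∑ i, v i * w i = 0 := by
  rw [← cast_card_inter, ZMod.natCast_eq_zero_iff_even]
  exact even_card_inter ⟨v, hv, rfl⟩ ⟨w, hw, rfl⟩

end Cfsg.Agent.GolayBasic
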