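import Mathlib
import Cfsg.Agent.Lib.GolayBasic

/-!
The octads form a Steiner system S(5, 8, 24), and span the code.
-/

set_option autoImplicit false

namespace Cfsg.Agent.GolaySteiner

open Cfsg Cfsg.Agent.GolayBasic
open scoped Pointwise

theorem octad_eq_of_five {o o' : Finset GolayPt} (ho : o ∈ octads) (ho' : o' ∈ octads)
    {s : Finset GolayPt} (hs : 5 ≤ s.card) (h : s ⊆ o) (h' : s ⊆ o') : o = o' := by
  have hm := symmDiff_mem_supports ho.1 ho'.1
  have hi : 5 ≤ (o ∩ o').card := le_trans hs (Finset.card_le_card (Finset.subset_inter h h'))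
  have hc : (symmDiff o o').card + 2 * (o ∩ o').card = 16 := by
    have h1 := Finset.card_sdiff_add_card_inter o o'
    have h2 := Finset.card_sdiff_add_card_inter o' o
    rw [Finset.inter_comm o' o] at h2
    have h3 : (symmDiff o o').card = (o \ o').card + (o' \ o).card := by
      rw [symmDiff_def, Finset.sup_eq_union, Finset.card_union_of_disjoint disjoint_sdiff_sdiff]
    have := ho.2
    have := ho'.2
    omega
  have := eq_empty_of_card_lt hm (by omega)
  exact symmDiff_eq_bot.1 this

theorem exists_octad_five {s : Finset GolayPt} (hs : s.card = 5) : ∃ o ∈ octads, s ⊆ o := by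
  set O : Finset (Finset GolayPt) := (Set.toFinite octads).toFinset with hO
  have hOc : O.card = 759 := by
    rw [hO, ← Set.ncard_eq_toFinset_card octads (Set.toFinite _), ncard_octads]
  have hmem : ∀ o, o ∈ O ↔ o ∈ octads := fun o => Set.Finite.mem_toFinset _
  have hdisj : (O : Set (Finset GolayPt)).PairwiseDisjoint fun o => o.powersetCard 5 := by
    intro o ho o' ho' hne
    rw [Function.onFun, Finset.disjoint_left]
    intro t ht ht'
    rw [Finset.mem_powersetCard] at ht ht'
    exact hne (octad_eq_of_five ((hmem o).1 ho) ((hmem o').1 ho') ht.2.ge ht.1 ht'.1)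
  have hsub : O.biUnion (fun o => o.powersetCard 5) ⊆ (Finset.univ : Finset GolayPt).powersetCard 5 := by
    intro t ht
    rw [Finset.mem_biUnion] at ht
    obtain ⟨o, -, ht⟩ := ht
    exact Finset.powersetCard_mono (Finset.subset_univ _) ht
  have hcard : (O.biUnion fun o => o.powersetCard 5).card = 42504 := by
    rw [Finset.card_biUnion hdisj, Finset.sum_const_nat (m := 56)]
    · rw [hOc]
    · intro o ho
      rw [Finset.card_powersetCard, ((hmem o).1 ho).2]; decide
  have heq := Finset.eq_of_subset_of_card_le hsub (by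
    rw [hcard, Finset.card_powersetCard, Finset.card_univ]; decide +kernel)
  have : s ∈ (Finset.univ : Finset GolayPt).powersetCard 5 :=
    Finset.mem_powersetCard.2 ⟨Finset.subset_univ _, hs⟩
  rw [← heq, Finset.mem_biUnion] at this
  obtain ⟨o, ho, ht⟩ := this
  exact ⟨o, (hmem o).1 ho, (Finset.mem_powersetCard.1 ht).1⟩

theorem isSteinerSystem_octads : IsSteinerSystem 5 8 octads := by
  refine ⟨fun b hb => hb.2, fun s hs => ?_⟩
  obtain ⟨o, ho, hso⟩ := exists_octad_five hs
  exact ⟨o, ⟨ho, hso⟩, fun o' h => octad_eq_of_five h.1 ho hs.ge h.2 hso⟩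

/-- the octad through five points -/
noncomputable def octadThrough (s : Finset GolayPt) (hs : s.card = 5) : Finset GolayPt :=
  (exists_octad_five hs).choose

theorem octadThrough_mem (s : Finset GolayPt) (hs : s.card = 5) : octadThrough s hs ∈ octads :=
  (exists_octad_five hs).choose_spec.1

theorem subset_octadThrough (s : Finset GolayPt) (hs : s.card = 5) : s ⊆ octadThrough s hs :=
  (exists_octad_five hs).choose_spec.2

/-- an octad meets another one in 8, 4, 2 or 0 points -/
theorem octad_inter_cases {o o' : Finset GolayPt} (ho : o ∈ octads) (ho' : o' ∈ octads) :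
    o = o' ∨ (o ∩ o').card = 0 ∨ (o ∩ o').card = 2 ∨ (o ∩ o').card = 4 := by
  by_cases h : 5 ≤ (o ∩ o').card
  · exact Or.inl (octad_eq_of_five ho ho' h Finset.inter_subset_left Finset.inter_subset_right)
  · right
    obtain ⟨r, hr⟩ := even_card_inter ho.1 ho'.1
    omega

/-! ### spanning by octads -/

/-- twelve octads spanning the code, as numbers below 4096 -/
def octadBasis : List ℕ := [1, 2, 4, 8, 16, 32, 64, 128, 256, 512, 1024, 2048]

theorem octadBasis_wt : octadBasis.all (fun x => wt (enc x) == 8) = true := by decide +kernel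

/-- A predicate closed under symmetric difference holding on octads and `∅` holds on the code. -/
theorem supports_induction {P : Finset GolayPt → Prop} (h0 : P ∅) (ho : ∀ o ∈ octads, P o)
    (hd : ∀ s ∈ supports (golayCode : Set (GolayPt → ZMod 2)),
      ∀ t ∈ supports (golayCode : Set (GolayPt → ZMod 2)), P s → P t → P (symmDiff s t)) :
    ∀ s ∈ supports (golayCode : Set (GolayPt → ZMod 2)), P s := by
  have hrow : ∀ b ∈ basisRows, inCode b = true ∧ P (mset b) := by
    intro b hb
    have hb' : b ∈ octadBasis.map enc := by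
      rw [show octadBasis.map enc = basisRows by decide +kernel]; exact hb
    obtain ⟨x, hx, rfl⟩ := List.mem_map.1 hb'
    have hlt : x < 4096 := (by decide +kernel : ∀ y ∈ octadBasis, y < 4096) x hx
    refine ⟨inCode_enc hlt, ho _ ((mset_mem_octads (enc_lt hlt)).2 ⟨inCode_enc hlt, ?_⟩)⟩
    exact beq_iff_eq.1 (List.all_eq_true.1 octadBasis_wt x hx)
  have key : ∀ (l : List ℕ), (∀ b ∈ l, inCode b = true ∧ P (mset b)) →
      ∀ x, inCode (combo l x) = true ∧ P (mset (combo l x)) := by
    intro l
    induction l with
    | nil => intro _ x; exact ⟨(by decide +kernel : inCode 0 = true), by rw [combo, mset_zero]; exact h0⟩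
    | cons b l ih =>
      intro hl x
      obtain ⟨hc, hp⟩ := ih (fun c hc => hl c (List.mem_cons_of_mem _ hc)) (x >>> 1)
      have hb : inCode ((x &&& 1) * b) = true ∧ P (mset ((x &&& 1) * b)) := by
        rcases Nat.mod_two_eq_zero_or_one x with hx | hx
        · rw [Nat.and_one_is_mod, hx, zero_mul]
          exact ⟨by decide +kernel, by rw [mset_zero]; exact h0⟩
        · rw [Nat.and_one_is_mod, hx, one_mul]; exact hl b List.mem_cons_self
      rw [combo]
      refine ⟨inCode_xor hb.1 hc, ?_⟩
      rw [mset_xor]
      exact hd _ ((mset_mem_supports (inCode_lt hb.1)).2 hb.1)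
        _ ((mset_mem_supports (inCode_lt hc)).2 hc) hb.2 hp
  intro s hs
  obtain ⟨x, hx, rfl⟩ := mem_supports_iff.1 hs
  exact (key basisRows hrow x).2

end Cfsg.Agent.GolaySteiner
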