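import Mathlib
import Cfsg.Agent.Lib.GolaySteiner

/-!
Permutations of the 24 points encoded as numbers (five binary digits per point), membership in the
group of the code, chains of point stabilisers, and certificates of a trivial stabiliser.
-/

set_option autoImplicit false

namespace Cfsg.Agent.GolayPerm

open Cfsg Cfsg.Agent.GolayBasic Cfsg.Agent.GolaySteiner
open scoped Pointwise

/-! ### membership in the group of the code -/

theorem smul_finset_symmDiff (σ : Equiv.Perm GolayPt) (s t : Finset GolayPt) :
    σ • symmDiff s t = symmDiff (σ • s) (σ • t) :=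
  Finset.smul_finset_symmDiff

theorem mem_M24_iff {σ : Equiv.Perm GolayPt} :
    σ ∈ M24 ↔ ∀ s ∈ supports (golayCode : Set (GolayPt → ZMod 2)),
      σ • s ∈ supports (golayCode : Set (GolayPt → ZMod 2)) := by
  refine MulAction.mem_stabilizer_iff.trans ⟨fun h s hs => ?_, fun h => ?_⟩
  · exact h.subset (Set.smul_mem_smul_set hs)
  · refine Set.eq_of_subset_of_ncard_le ?_ ?_
    · rintro _ ⟨s, hs, rfl⟩; exact h s hs
    · rw [Set.ncard_smul_set]

theorem mem_M24_of_rows {σ : Equiv.Perm GolayPt}
    (h : ∀ b ∈ basisRows, σ • mset b ∈ supports (golayCode : Set (GolayPt → ZMod 2))) :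
    σ ∈ M24 := by
  rw [mem_M24_iff]
  intro s hs
  obtain ⟨x, hx, rfl⟩ := mem_supports_iff.1 hs
  have key : ∀ (l : List ℕ),
      (∀ b ∈ l, σ • mset b ∈ supports (golayCode : Set (GolayPt → ZMod 2))) →
      ∀ y, σ • mset (combo l y) ∈ supports (golayCode : Set (GolayPt → ZMod 2)) := by
    intro l
    induction l with
    | nil =>
      intro _ y
      rw [combo, mset_zero, Finset.smul_finset_empty, ← mset_zero, mset_mem_supports (by norm_num)]
      decide +kernel
    | cons b l ih =>
      intro hl y
      rw [combo, mset_xor, smul_finset_symmDiff]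
      refine symmDiff_mem_supports ?_ (ih (fun c hc => hl c (List.mem_cons_of_mem _ hc)) _)
      rcases Nat.mod_two_eq_zero_or_one y with hy | hy
      · rw [Nat.and_one_is_mod, hy, zero_mul, mset_zero, Finset.smul_finset_empty, ← mset_zero,
          mset_mem_supports (by norm_num)]
        decide +kernel
      · rw [Nat.and_one_is_mod, hy, one_mul]; exact hl b List.mem_cons_self
  exact key basisRows h x

theorem smul_mem_supports {σ : Equiv.Perm GolayPt} (hσ : σ ∈ M24) {s : Finset GolayPt}
    (hs : s ∈ supports (golayCode : Set (GolayPt → ZMod 2))) :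
    σ • s ∈ supports (golayCode : Set (GolayPt → ZMod 2)) :=
  mem_M24_iff.1 hσ s hs

theorem smul_mem_wordsOfWeight {σ : Equiv.Perm GolayPt} (hσ : σ ∈ M24) {n : ℕ}
    {s : Finset GolayPt} (hs : s ∈ wordsOfWeight (golayCode : Set (GolayPt → ZMod 2)) n) :
    σ • s ∈ wordsOfWeight (golayCode : Set (GolayPt → ZMod 2)) n :=
  ⟨smul_mem_supports hσ hs.1, by rw [Finset.card_smul_finset]; exact hs.2⟩

theorem smul_mem_octads {σ : Equiv.Perm GolayPt} (hσ : σ ∈ M24) {s : Finset GolayPt}
    (hs : s ∈ octads) : σ • s ∈ octads := smul_mem_wordsOfWeight hσ hs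

theorem smul_mem_dodecads {σ : Equiv.Perm GolayPt} (hσ : σ ∈ M24) {s : Finset GolayPt}
    (hs : s ∈ dodecads) : σ • s ∈ dodecads := smul_mem_wordsOfWeight hσ hs

theorem M24_eq_setSystemAut_octads : M24 = setSystemAut octads := by
  ext σ
  constructor
  · intro hσ
    refine MulAction.mem_stabilizer_iff.2 (Set.eq_of_subset_of_ncard_le ?_ ?_)
    · rintro _ ⟨s, hs, rfl⟩; exact smul_mem_octads hσ hs
    · rw [Set.ncard_smul_set]
  · intro hσ
    have h : ∀ o ∈ octads, σ • o ∈ octads := fun o ho =>
      (MulAction.mem_stabilizer_iff.1 hσ).subset (Set.smul_mem_smul_set ho)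
    rw [mem_M24_iff]
    refine supports_induction ?_ (fun o ho => (h o ho).1) ?_
    · rw [Finset.smul_finset_empty, ← mset_zero, mset_mem_supports (by norm_num)]; decide +kernel
    · intro s _ t _ hs ht
      rw [smul_finset_symmDiff]; exact symmDiff_mem_supports hs ht

/-! ### encoded permutations -/

/-- image of point number `i` -/
def pimg (P i : ℕ) : ℕ := (P >>> (5 * i)) &&& 31

/-- image of a mask, over the listed points -/
def pmaskAux (P m : ℕ) : List ℕ → ℕ
  | [] => 0
  | i :: l => (((m >>> i) &&& 1) <<< pimg P i) ||| pmaskAux P m l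

/-- the 24 point numbers -/
def pts : List ℕ :=
  [0, 1, 2, 3, 4, 5, 6, 7, 8, 9, 10, 11, 12, 13, 14, 15, 16, 17, 18, 19, 20, 21, 22, 23]

theorem mem_pts {i : ℕ} : i ∈ pts ↔ i < 24 := by
  rw [show pts = List.range 24 from rfl, List.mem_range]

/-- image of a mask -/
def pmask (P m : ℕ) : ℕ := pmaskAux P m pts

/-- `P` encodes a permutation -/
def valid (P : ℕ) : Bool :=
  pts.all (fun i => decide (pimg P i < 24)) && pmask P 16777215 == 16777215

/-- `P` encodes a member of the group of the code -/
def good (P : ℕ) : Bool := valid P && basisRows.all (fun b => inCode (pmask P b))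

theorem testBit_bit_shift (m i k j : ℕ) :
    (((m >>> i) &&& 1) <<< k).testBit j = (m.testBit i && decide (k = j)) := by
  rw [shiftRight_and_one]
  cases m.testBit i
  · simp
  · simp [Nat.shiftLeft_eq, Nat.testBit_two_pow]

theorem testBit_pmaskAux (P m j : ℕ) : ∀ l : List ℕ,
    (pmaskAux P m l).testBit j = l.any fun i => m.testBit i && decide (pimg P i = j)
  | [] => by simp [pmaskAux]
  | i :: l => by
    rw [pmaskAux, Nat.testBit_or, testBit_bit_shift, testBit_pmaskAux P m j l, List.any_cons]

theorem testBit_pmask {P m j : ℕ} :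
    (pmask P m).testBit j = true ↔ ∃ i < 24, m.testBit i = true ∧ pimg P i = j := by
  simp [pmask, testBit_pmaskAux, mem_pts]

theorem pimg_lt {P i : ℕ} (h : valid P = true) (hi : i < 24) : pimg P i < 24 := by
  simp only [valid, Bool.and_eq_true, List.all_eq_true, decide_eq_true_eq] at h
  exact h.1 i (mem_pts.2 hi)

/-- the point map of an encoded permutation -/
def pfun (P : ℕ) (p : GolayPt) : GolayPt := pt (pimg P (idx p))

theorem pfun_bijective {P : ℕ} (h : valid P = true) : Function.Bijective (pfun P) := by
  rw [← Finite.surjective_iff_bijective]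
  intro q
  have h2 : (pmask P 16777215).testBit (idx q) = true := by
    simp only [valid, Bool.and_eq_true, beq_iff_eq] at h
    rw [h.2, show (16777215 : ℕ) = 2 ^ 24 - 1 by norm_num, Nat.testBit_two_pow_sub_one]
    simp [idx_lt q]
  obtain ⟨i, hi, -, hij⟩ := testBit_pmask.1 h2
  exact ⟨pt i, by rw [pfun, idx_pt hi, hij, pt_idx]⟩

/-- the permutation encoded by a number -/
noncomputable def permOf (P : ℕ) : Equiv.Perm GolayPt :=
  if h : valid P = true then Equiv.ofBijective (pfun P) (pfun_bijective h) else 1

theorem permOf_apply {P : ℕ} (h : valid P = true) (p : GolayPt) : permOf P p = pfun P p := by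
  rw [permOf, dif_pos h]; rfl

theorem smul_mset {P : ℕ} (h : valid P = true) (m : ℕ) :
    permOf P • mset m = mset (pmask P m) := by
  ext q
  rw [Finset.mem_smul_finset, mem_mset, testBit_pmask]
  constructor
  · rintro ⟨p, hp, rfl⟩
    refine ⟨idx p, idx_lt p, mem_mset.1 hp, ?_⟩
    rw [Equiv.Perm.smul_def, permOf_apply h, pfun, idx_pt (pimg_lt h (idx_lt p))]
  · rintro ⟨i, hi, hm, hij⟩
    refine ⟨pt i, mem_mset.2 (by rw [idx_pt hi]; exact hm), ?_⟩
    rw [Equiv.Perm.smul_def, permOf_apply h, pfun, idx_pt hi, hij, pt_idx]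

theorem valid_of_good {P : ℕ} (h : good P = true) : valid P = true := by
  simp only [good, Bool.and_eq_true] at h; exact h.1

theorem permOf_mem_M24 {P : ℕ} (h : good P = true) : permOf P ∈ M24 := by
  have hv := valid_of_good h
  refine mem_M24_of_rows fun b hb => ?_
  simp only [good, Bool.and_eq_true, List.all_eq_true] at h
  rw [smul_mset hv, mset_mem_supports (inCode_lt (h.2 b hb))]
  exact h.2 b hb

/-! ### chains of point stabilisers -/

/-- the elements of `H` fixing the points with numbers in `l` -/
def fixList (H : Subgroup (Equiv.Perm GolayPt)) : List ℕ → Subgroup (Equiv.Perm GolayPt)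
  | [] => H
  | b :: l => fixList (H ⊓ MulAction.stabilizer (Equiv.Perm GolayPt) (pt b)) l

theorem mem_fixList {l : List ℕ} : ∀ {H : Subgroup (Equiv.Perm GolayPt)} {g : Equiv.Perm GolayPt},
    g ∈ fixList H l ↔ g ∈ H ∧ ∀ b ∈ l, g (pt b) = pt b := by
  induction l with
  | nil => intro H g; simp [fixList]
  | cons b l ih =>
    intro H g
    rw [fixList, ih, Subgroup.mem_inf, MulAction.mem_stabilizer_iff, Equiv.Perm.smul_def,
      List.forall_mem_cons, and_assoc]

theorem fixList_append (H : Subgroup (Equiv.Perm GolayPt)) (l : List ℕ) (b : ℕ) :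
    fixList H (l ++ [b]) =
      fixList H l ⊓ MulAction.stabilizer (Equiv.Perm GolayPt) (pt b) := by
  ext g
  simp [mem_fixList, or_imp, forall_and, and_assoc]

/-- Counting a group by the orbit of a point. -/
theorem card_eq_card_mul {α : Type*} (H : Subgroup (Equiv.Perm α)) (x : α) (O : Finset α)
    (hsub : ∀ g ∈ H, g x ∈ O) (hsup : ∀ y ∈ O, ∃ g ∈ H, g x = y) :
    Nat.card H = O.card * Nat.card ↥(H ⊓ MulAction.stabilizer (Equiv.Perm α) x) := by
  have horb : MulAction.orbit H x = (O : Set α) := by
    ext y
    rw [MulAction.mem_orbit_iff, Finset.mem_coe]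
    constructor
    · rintro ⟨g, rfl⟩; exact hsub g g.2
    · intro hy
      obtain ⟨g, hg, rfl⟩ := hsup y hy
      exact ⟨⟨g, hg⟩, rfl⟩
  have e : MulAction.stabilizer H x =
      (H ⊓ MulAction.stabilizer (Equiv.Perm α) x).subgroupOf H := by
    ext g
    rw [MulAction.mem_stabilizer_iff, Subgroup.mem_subgroupOf, Subgroup.mem_inf,
      MulAction.mem_stabilizer_iff]
    exact ⟨fun h => ⟨g.2, h⟩, fun h => h.2⟩
  rw [Subgroup.card_eq_card_quotient_mul_card_subgroup (MulAction.stabilizer H x)]
  congr 1
  · rw [← Nat.card_congr (MulAction.orbitEquivQuotientStabilizer H x), horb]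
    simp
  · rw [e]
    exact Nat.card_congr (Subgroup.subgroupOfEquivOfLe inf_le_left).toEquiv

/-- A transversal certificate: the listed members of the group fix the points in `fix` and the
mask `keep`, and carry `b` to the points of `O` in increasing order. -/
def tcheck (keep : ℕ) (fix : List ℕ) (b O : ℕ) (ts : List ℕ) : Bool :=
  ts.all (fun P => good P && fix.all (fun f => pimg P f == f) && pmask P keep == keep) &&
    (ts.map fun P => pimg P b) == pts.filter (fun i => O.testBit i)

theorem exists_of_tcheck {keep : ℕ} {fix : List ℕ} {b O : ℕ} {ts : List ℕ}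
    (hb : b < 24) (hf : ∀ f ∈ fix, f < 24)
    (hc : tcheck keep fix b O ts = true) {H : Subgroup (Equiv.Perm GolayPt)}
    (hH : ∀ g ∈ M24, g • mset keep = mset keep → g ∈ H) :
    ∀ y ∈ mset O, ∃ g ∈ fixList H fix, g (pt b) = y := by
  simp only [tcheck, Bool.and_eq_true, List.all_eq_true, beq_iff_eq] at hc
  intro y hy
  have : idx y ∈ ts.map fun P => pimg P b := by
    rw [hc.2, List.mem_filter]; exact ⟨mem_pts.2 (idx_lt y), mem_mset.1 hy⟩
  obtain ⟨P, hP, hPy⟩ := List.mem_map.1 this
  obtain ⟨⟨hgood, hfix⟩, hkeep⟩ := hc.1 P hP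
  have hv := valid_of_good hgood
  refine ⟨permOf P, mem_fixList.2 ⟨hH _ (permOf_mem_M24 hgood) (by rw [smul_mset hv, hkeep]), ?_⟩, ?_⟩
  · intro f hf'
    rw [permOf_apply hv, pfun, idx_pt (hf f hf'), hfix f hf']
  · rw [permOf_apply hv, pfun, idx_pt hb, hPy, pt_idx]

/-- One step of a chain. -/
theorem card_fixList_step {keep : ℕ} {fix : List ℕ} {b O : ℕ} {ts : List ℕ}
    (hb : b < 24) (hf : ∀ f ∈ fix, f < 24)
    (hc : tcheck keep fix b O ts = true) {H : Subgroup (Equiv.Perm GolayPt)}
    (hH : ∀ g ∈ M24, g • mset keep = mset keep → g ∈ H)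
    (hsub : ∀ g ∈ fixList H fix, g (pt b) ∈ mset O) :
    Nat.card (fixList H fix) = wt O * Nat.card (fixList H (fix ++ [b])) := by
  rw [card_eq_card_mul _ (pt b) (mset O) hsub (exists_of_tcheck hb hf hc hH), card_mset,
    fixList_append]

/-! ### trivial stabiliser certificates -/

/-- a step of a closure certificate: tag, two operands, octads -/
abbrev Op : Type := ℕ × ℕ × ℕ × List ℕ

/-- union of a list of masks -/
def orAll : List ℕ → ℕ
  | [] => 0
  | a :: l => a ||| orAll l

/-- the mask added by a step, given the masks so far; `none` if the step is not justified -/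
def stepVal (F : List ℕ) : Op → Option ℕ
  | (tag, i, j, l) =>
    if tag = 0 then some (F.getD i 0 &&& F.getD j 0)
    else if tag = 1 then some (F.getD i 0 ^^^ F.getD j 0)
    else if tag = 3 then some (F.getD i 0 ||| F.getD j 0)
    else if tag = 2 then
      if inCode j && wt j == 8 && (F.getD i 0 &&& j) == F.getD i 0 && decide (5 ≤ wt (F.getD i 0))
      then some j else none
    else
      match l with
      | [] => none
      | o :: rest =>
        if l.all (fun x => inCode x && wt x == 8 && (F.getD i 0 &&& x) == F.getD i 0) &&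
            decide (4 ≤ wt (F.getD i 0)) && orAll l == 16777215 &&
            rest.all (fun x => wt (x &&& F.getD j 0) != wt (o &&& F.getD j 0))
        then some o else none

/-- all masks produced by a certificate -/
def runOps : List ℕ → List Op → Option (List ℕ)
  | F, [] => some F
  | F, op :: ops =>
    match stepVal F op with
    | none => none
    | some m => runOps (F ++ [m]) ops

/-- the certificate reaches every single point -/
def closeCheck (init : List ℕ) (ops : List Op) : Bool :=
  match runOps init ops with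
  | none => false
  | some F => pts.all fun i => F.elem (1 <<< i)

theorem testBit_orAll (j : ℕ) : ∀ l : List ℕ, (orAll l).testBit j = l.any fun a => a.testBit j
  | [] => by simp [orAll]
  | a :: l => by simp [orAll, Nat.testBit_or, testBit_orAll j l]

theorem mset_one_shiftLeft {i : ℕ} (hi : i < 24) : mset (1 <<< i) = {pt i} := by
  ext p
  rw [mem_mset, Nat.one_shiftLeft, Nat.testBit_two_pow, Finset.mem_singleton, decide_eq_true_eq]
  exact ⟨fun h => by rw [h, pt_idx], fun h => by rw [h, idx_pt hi]⟩

theorem smul_mset_and {g : Equiv.Perm GolayPt} {a b : ℕ} (ha : g • mset a = mset a)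
    (hb : g • mset b = mset b) : g • mset (a &&& b) = mset (a &&& b) := by
  rw [mset_and, Finset.smul_finset_inter, ha, hb]

theorem fixed_getD {g : Equiv.Perm GolayPt} {F : List ℕ} (hF : ∀ m ∈ F, g • mset m = mset m)
    (i : ℕ) : g • mset (F.getD i 0) = mset (F.getD i 0) := by
  by_cases hi : i < F.length
  · rw [List.getD_eq_getElem (hn := hi)]; exact hF _ (List.getElem_mem hi)
  · rw [List.getD_eq_default _ _ (not_lt.1 hi), mset_zero, Finset.smul_finset_empty]

theorem fixed_stepVal {g : Equiv.Perm GolayPt} (hg : g ∈ M24) {F : List ℕ}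
    (hF : ∀ m ∈ F, g • mset m = mset m) {op : Op} {m : ℕ} (h : stepVal F op = some m) :
    g • mset m = mset m := by
  obtain ⟨tag, i, j, l⟩ := op
  have hi := fixed_getD hF i
  have hj := fixed_getD hF j
  simp only [stepVal.eq_def] at h
  split_ifs at h with h0 h1 h3 h2
  · cases h; exact smul_mset_and hi hj
  · cases h; rw [mset_xor, smul_finset_symmDiff, hi, hj]
  · cases h; rw [mset_or, Finset.smul_finset_union, hi, hj]
  · rename_i hc
    rw [← Option.some.inj h]
    simp only [Bool.and_eq_true, beq_iff_eq, decide_eq_true_eq] at hc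
    have ho : mset j ∈ octads := (mset_mem_octads (inCode_lt hc.1.1.1)).2 ⟨hc.1.1.1, hc.1.1.2⟩
    have hsub : mset (F.getD i 0) ⊆ mset j := by
      rw [← Finset.inter_eq_left, ← mset_and, hc.1.2]
    refine octad_eq_of_five (smul_mem_octads hg ho) ho (s := mset (F.getD i 0)) ?_ ?_ hsub
    · rw [card_mset]; exact hc.2
    · rw [← hi]; exact Finset.smul_finset_subset_smul_finset hsub
  · cases l with
    | nil => simp at h
    | cons o rest =>
      dsimp only at h
      split_ifs at h with hc
      rw [← Option.some.inj h]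
      clear h m
      simp only [Bool.and_eq_true, beq_iff_eq, decide_eq_true_eq, List.all_eq_true] at hc
      obtain ⟨⟨⟨hall, h4⟩, hor⟩, hrest⟩ := hc
      have hoct : ∀ x ∈ o :: rest, mset x ∈ octads ∧ mset (F.getD i 0) ⊆ mset x := fun x hx => by
        obtain ⟨⟨h1, h2⟩, h3⟩ := hall x hx
        exact ⟨(mset_mem_octads (inCode_lt h1)).2 ⟨h1, h2⟩, by
          rw [← Finset.inter_eq_left, ← mset_and, h3]⟩
      obtain ⟨hoo, hsub⟩ := hoct o List.mem_cons_self
      have hT : mset (F.getD i 0) ⊆ g • mset o := by
        rw [← hi]; exact Finset.smul_finset_subset_smul_finset hsub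
      have hgo := smul_mem_octads hg hoo
      -- every octad containing the four points is one of the listed ones
      obtain ⟨q, hq, hqT⟩ : ∃ q ∈ g • mset o, q ∉ mset (F.getD i 0) := by
        by_contra hcon
        push Not at hcon
        have h8 := hgo.2
        have hle := Finset.card_le_card hcon
        have h7 : wt (F.getD i 0) ≤ 8 := by
          rw [← card_mset, ← h8]; exact Finset.card_le_card hT
        rw [h8, card_mset] at hle
        have heq : mset (F.getD i 0) = mset o :=
          Finset.eq_of_subset_of_card_le hsub (by rw [hoo.2, card_mset]; omega)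
        cases rest with
        | nil =>
          simp only [orAll, Nat.or_zero] at hor
          have := hoo.2
          rw [hor, mset_all, Finset.card_univ] at this
          simp at this
        | cons x r =>
          have hne := hrest x List.mem_cons_self
          obtain ⟨hxo, hxs⟩ := hoct x (List.mem_cons_of_mem _ List.mem_cons_self)
          have : mset o = mset x :=
            Finset.eq_of_subset_of_card_le (heq ▸ hxs) (by rw [hxo.2, hoo.2])
          have hxo' := mset_inj (inCode_lt (hall o List.mem_cons_self).1.1)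
            (inCode_lt (hall x (List.mem_cons_of_mem _ List.mem_cons_self)).1.1) this
          subst hxo'
          simp at hne
      have hqall : ∃ x ∈ o :: rest, q ∈ mset x := by
        have : (orAll (o :: rest)).testBit (idx q) = true := by
          rw [hor, show (16777215 : ℕ) = 2 ^ 24 - 1 by norm_num, Nat.testBit_two_pow_sub_one]
          simp [idx_lt q]
        rw [testBit_orAll, List.any_eq_true] at this
        obtain ⟨x, hx, hxq⟩ := this
        exact ⟨x, hx, mem_mset.2 hxq⟩
      obtain ⟨x, hx, hqx⟩ := hqall
      have hgx : g • mset o = mset x := by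
        refine octad_eq_of_five hgo (hoct x hx).1 (s := insert q (mset (F.getD i 0))) ?_
          (Finset.insert_subset hq hT) (Finset.insert_subset hqx (hoct x hx).2)
        rw [Finset.card_insert_of_notMem hqT, card_mset]; omega
      rcases List.mem_cons.1 hx with rfl | hx'
      · exact hgx
      · have hne := hrest x hx'
        simp only [bne_iff_ne] at hne
        refine absurd ?_ hne
        rw [← card_mset, ← card_mset, mset_and, mset_and, ← hgx, ← hj,
          ← Finset.smul_finset_inter, Finset.card_smul_finset, hj]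

theorem fixed_runOps {g : Equiv.Perm GolayPt} (hg : g ∈ M24) : ∀ (ops : List Op) (F F' : List ℕ),
    (∀ m ∈ F, g • mset m = mset m) → runOps F ops = some F' → ∀ m ∈ F', g • mset m = mset m
  | [], F, F', hF, h => by simp only [runOps, Option.some.injEq] at h; subst h; exact hF
  | op :: ops, F, F', hF, h => by
    rw [runOps] at h
    split at h
    · simp at h
    · rename_i m hm
      refine fixed_runOps hg ops _ F' (fun a ha => ?_) h
      rcases List.mem_append.1 ha with ha | ha
      · exact hF a ha
      · rw [List.mem_singleton.1 ha]; exact fixed_stepVal hg hF hm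

theorem eq_one_of_closeCheck {init : List ℕ} {ops : List Op} (h : closeCheck init ops = true)
    {g : Equiv.Perm GolayPt} (hg : g ∈ M24) (hinit : ∀ m ∈ init, g • mset m = mset m) : g = 1 := by
  rw [closeCheck] at h
  split at h
  · simp at h
  · rename_i F hF
    simp only [List.all_eq_true] at h
    have hfix := fixed_runOps hg ops init F hinit hF
    ext p : 1
    have h1 : (1 <<< idx p) ∈ F := List.elem_iff.1 (h (idx p) (mem_pts.2 (idx_lt p)))
    have h2 := hfix _ h1
    rw [mset_one_shiftLeft (idx_lt p), pt_idx, Finset.smul_finset_singleton,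
      Finset.singleton_inj] at h2
    simpa using h2

theorem smul_singleton_of_fix {g : Equiv.Perm GolayPt} {i : ℕ} (hi : i < 24)
    (h : g (pt i) = pt i) : g • mset (1 <<< i) = mset (1 <<< i) := by
  rw [mset_one_shiftLeft hi, Finset.smul_finset_singleton, Equiv.Perm.smul_def, h]

end Cfsg.Agent.GolayPerm
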