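import Mathlib
import Cfsg.Prelude.Def_Spor_Mathieu
import Cfsg.Agent.Lib.GolayPerm
import Cfsg.Agent.Lib.GolayData

/-!
Orders of the five Mathieu groups, multiple transitivity, transitivity on octads and dodecads.
-/

set_option autoImplicit false

namespace Cfsg.Agent.GolayM24

open Cfsg Cfsg.Agent.GolayBasic Cfsg.Agent.GolaySteiner Cfsg.Agent.GolayPerm Cfsg.Agent.GolayData
open scoped Pointwise

/-- the complement of a list of point numbers, as a mask -/
def rest : List ℕ → ℕ
  | [] => 16777215
  | b :: l => rest l ^^^ (1 <<< b)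

theorem smul_keep_all (g : Equiv.Perm GolayPt) : g • mset 16777215 = mset 16777215 := by
  rw [mset_all, Finset.smul_finset_univ]

/-- image of a point outside the fixed points lies in a set containing all non-fixed points -/
theorem mem_of_fixList {H : Subgroup (Equiv.Perm GolayPt)} {l : List ℕ} {b O : ℕ}
    (hl : ∀ p : GolayPt, p ∉ mset O → idx p ∈ l) (hb : b ∉ l) (hb' : b < 24)
    {g : Equiv.Perm GolayPt} (hg : g ∈ fixList H l) : g (pt b) ∈ mset O := by
  by_contra h
  have h1 := (mem_fixList.1 hg).2 _ (hl _ h)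
  rw [pt_idx] at h1
  have := g.injective h1
  exact hb (by rw [← idx_pt hb', ← this]; exact hl _ h)

theorem octad_five_mem : mset 13062145 ∈ octads :=
  (mset_mem_octads (by norm_num)).2 ⟨by decide +kernel, by decide +kernel⟩

theorem smul_octad_five {g : Equiv.Perm GolayPt} (hg : g ∈ M24)
    (h : ∀ b ∈ [23, 0, 12, 14, 16], g (pt b) = pt b) : g • mset 13062145 = mset 13062145 := by
  refine octad_eq_of_five (smul_mem_octads hg octad_five_mem) octad_five_mem
    (s := mset (8388608 + 1 + 4096 + 16384 + 65536)) (by rw [card_mset]; decide +kernel) ?_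
    (by decide +kernel)
  intro p hp
  have hp' : idx p ∈ [23, 0, 12, 14, 16] := by revert hp; revert p; decide +kernel
  rw [Finset.mem_smul_finset]
  refine ⟨p, ?_, ?_⟩
  · revert hp; revert p; decide +kernel
  · rw [Equiv.Perm.smul_def]
    have := h _ hp'
    rwa [pt_idx] at this

/-! ### the chain of M24 -/

theorem card_chain0 :
    Nat.card M24 = 24 * Nat.card (fixList M24 [23]) := by
  have h := card_fixList_step (keep := 16777215) (fix := []) (b := 23) (O := 16777215)
    (ts := tr24_0) (by norm_num) (by simp) (by decide +kernel) (H := M24) (fun g hg _ => hg)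
    (fun g _ => by rw [mset_all]; exact Finset.mem_univ _)
  rwa [show wt 16777215 = 24 by decide +kernel] at h

theorem card_chain1 :
    Nat.card (fixList M24 [23]) = 23 * Nat.card (fixList M24 [23, 0]) := by
  have h := card_fixList_step (keep := 16777215) (fix := [23]) (b := 0) (O := 8388607)
    (ts := tr24_1) (by norm_num) (by simp) (by decide +kernel) (H := M24) (fun g hg _ => hg)
    (fun g hg => mem_of_fixList (by decide +kernel) (by decide) (by norm_num) hg)
  rwa [show wt 8388607 = 23 by decide +kernel] at h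

theorem card_chain2 :
    Nat.card (fixList M24 [23, 0]) = 22 * Nat.card (fixList M24 [23, 0, 12]) := by
  have h := card_fixList_step (keep := 16777215) (fix := [23, 0]) (b := 12) (O := 8388606)
    (ts := tr24_2) (by norm_num) (by simp) (by decide +kernel) (H := M24) (fun g hg _ => hg)
    (fun g hg => mem_of_fixList (by decide +kernel) (by decide) (by norm_num) hg)
  rwa [show wt 8388606 = 22 by decide +kernel] at h

theorem card_chain3 :
    Nat.card (fixList M24 [23, 0, 12]) = 21 * Nat.card (fixList M24 [23, 0, 12, 14]) := by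
  have h := card_fixList_step (keep := 16777215) (fix := [23, 0, 12]) (b := 14) (O := 8384510)
    (ts := tr24_3) (by norm_num) (by simp) (by decide +kernel) (H := M24) (fun g hg _ => hg)
    (fun g hg => mem_of_fixList (by decide +kernel) (by decide) (by norm_num) hg)
  rwa [show wt 8384510 = 21 by decide +kernel] at h

theorem card_chain4 :
    Nat.card (fixList M24 [23, 0, 12, 14]) = 20 * Nat.card (fixList M24 [23, 0, 12, 14, 16]) := by
  have h := card_fixList_step (keep := 16777215) (fix := [23, 0, 12, 14]) (b := 16) (O := 8368126)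
    (ts := tr24_4) (by norm_num) (by simp) (by decide +kernel) (H := M24) (fun g hg _ => hg)
    (fun g hg => mem_of_fixList (by decide +kernel) (by decide) (by norm_num) hg)
  rwa [show wt 8368126 = 20 by decide +kernel] at h

theorem card_chain5 :
    Nat.card (fixList M24 [23, 0, 12, 14, 16]) =
      3 * Nat.card (fixList M24 [23, 0, 12, 14, 16, 17]) := by
  have h := card_fixList_step (keep := 16777215) (fix := [23, 0, 12, 14, 16]) (b := 17)
    (O := 4587520) (ts := tr24_5) (by norm_num) (by simp) (by decide +kernel) (H := M24)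
    (fun g hg _ => hg) (fun g hg => by
      obtain ⟨hgm, hfix⟩ := mem_fixList.1 hg
      have hmem : g (pt 17) ∈ g • mset 13062145 :=
        Finset.smul_mem_smul_finset (s := mset 13062145) (by decide +kernel)
      rw [smul_octad_five hgm hfix] at hmem
      have hne : ∀ b ∈ [23, 0, 12, 14, 16], g (pt 17) ≠ pt b := fun b hb e => by
        rw [← hfix b hb] at e
        exact (by decide +kernel : ∀ b ∈ [23, 0, 12, 14, 16], pt 17 ≠ pt b) b hb (g.injective e)
      revert hmem hne
      generalize g (pt 17) = q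
      revert q
      decide +kernel)
  rwa [show wt 4587520 = 3 by decide +kernel] at h

theorem card_chain6 :
    Nat.card (fixList M24 [23, 0, 12, 14, 16, 17]) =
      16 * Nat.card (fixList M24 [23, 0, 12, 14, 16, 17, 1]) := by
  have h := card_fixList_step (keep := 16777215) (fix := [23, 0, 12, 14, 16, 17]) (b := 1)
    (O := 3715070) (ts := tr24_6) (by norm_num) (by simp) (by decide +kernel) (H := M24)
    (fun g hg _ => hg) (fun g hg => by
      obtain ⟨hgm, hfix⟩ := mem_fixList.1 hg
      have ho := smul_octad_five hgm (fun b hb => hfix b (List.mem_append_left [17] hb))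
      rw [show (3715070 : ℕ) = 16777215 ^^^ 13062145 by decide +kernel, mset_compl,
        Finset.mem_compl, ← ho, ← Equiv.Perm.smul_def, Finset.smul_mem_smul_finset_iff]
      decide +kernel)
  rwa [show wt 3715070 = 16 by decide +kernel] at h

theorem fixList_base_eq_bot : fixList M24 [23, 0, 12, 14, 16, 17, 1] = ⊥ := by
  rw [Subgroup.eq_bot_iff_forall]
  intro g hg
  obtain ⟨hgm, hfix⟩ := mem_fixList.1 hg
  refine eq_one_of_closeCheck (init := [23, 0, 12, 14, 16, 17, 1].map fun b => 1 <<< b)
    (ops := ops24) (by decide +kernel) hgm ?_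
  intro m hm
  obtain ⟨b, hb, rfl⟩ := List.mem_map.1 hm
  exact smul_singleton_of_fix ((by decide : ∀ b ∈ [23, 0, 12, 14, 16, 17, 1], b < 24) b hb)
    (hfix b hb)

theorem card_chain7 : Nat.card (fixList M24 [23, 0, 12, 14, 16, 17, 1]) = 1 := by
  rw [fixList_base_eq_bot, Subgroup.card_bot]

theorem card_M24 : Nat.card M24 = 244823040 := by
  rw [card_chain0, card_chain1, card_chain2, card_chain3, card_chain4, card_chain5, card_chain6,
    card_chain7]

theorem pt_none : pt 23 = none := by decide +kernel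

theorem pt_zero : pt 0 = some 0 := by decide +kernel

theorem M23_eq : Spor.M23 = fixList M24 [23] := by
  rw [Spor.M23, ← pt_none]; rfl

theorem M22_eq : Spor.M22 = fixList M24 [23, 0] := by
  rw [Spor.M22, M23_eq, ← pt_zero]; rfl

theorem card_M23 : Nat.card Spor.M23 = 10200960 := by
  rw [M23_eq, card_chain1, card_chain2, card_chain3, card_chain4, card_chain5, card_chain6,
    card_chain7]

theorem card_M22 : Nat.card Spor.M22 = 443520 := by
  rw [M22_eq, card_chain2, card_chain3, card_chain4, card_chain5, card_chain6,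
    card_chain7]

/-! ### multiple transitivity of M24 -/

theorem mem_mset_of_notMem_rest {O : ℕ} {l : List ℕ}
    (hl : ∀ p : GolayPt, p ∉ mset O → idx p ∈ l) {y : GolayPt} (h : ∀ b ∈ l, y ≠ pt b) :
    y ∈ mset O := by
  by_contra hc
  exact h _ (hl _ hc) (pt_idx y).symm

theorem exists_map_five (x : Fin 5 → GolayPt) (hx : Function.Injective x) :
    ∃ g ∈ M24, g (pt 23) = x 0 ∧ g (pt 0) = x 1 ∧ g (pt 12) = x 2 ∧ g (pt 14) = x 3 ∧
      g (pt 16) = x 4 := by
  have hne : ∀ i j : Fin 5, i ≠ j → x i ≠ x j := fun i j h e => h (hx e)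
  obtain ⟨g0, hg0, e0⟩ := exists_of_tcheck (keep := 16777215) (fix := []) (b := 23) (O := 16777215)
    (ts := tr24_0) (by norm_num) (by simp) (by decide +kernel) (H := M24) (fun g hg _ => hg) (x 0)
    (by rw [mset_all]; exact Finset.mem_univ _)
  obtain ⟨hm0, -⟩ := mem_fixList.1 hg0
  obtain ⟨g1, hg1, e1⟩ := exists_of_tcheck (keep := 16777215) (fix := [23]) (b := 0)
    (O := 8388607) (ts := tr24_1) (by norm_num) (by simp) (by decide +kernel) (H := M24)
    (fun g hg _ => hg) (g0⁻¹ (x 1)) (mem_mset_of_notMem_rest (l := [23]) (by decide +kernel) (by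
      simp only [List.forall_mem_cons, List.not_mem_nil, false_implies, implies_true, ne_eq, Equiv.Perm.inv_eq_iff_eq, e0,
        and_true]
      exact hne 1 0 (by decide)))
  obtain ⟨hm1, hf1⟩ := mem_fixList.1 hg1
  simp only [List.forall_mem_cons, List.not_mem_nil, false_implies, implies_true, and_true] at hf1
  have k0 : (g0 * g1) (pt 23) = x 0 := by simp [hf1, e0]
  have k1 : (g0 * g1) (pt 0) = x 1 := by simp [e1]
  obtain ⟨g2, hg2, e2⟩ := exists_of_tcheck (keep := 16777215) (fix := [23, 0]) (b := 12)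
    (O := 8388606) (ts := tr24_2) (by norm_num) (by simp) (by decide +kernel) (H := M24)
    (fun g hg _ => hg) ((g0 * g1)⁻¹ (x 2))
    (mem_mset_of_notMem_rest (l := [23, 0]) (by decide +kernel) (by
      simp only [List.forall_mem_cons, List.not_mem_nil, false_implies, implies_true, ne_eq, Equiv.Perm.inv_eq_iff_eq, k0, k1,
        and_true]
      exact ⟨hne 2 0 (by decide), hne 2 1 (by decide)⟩))
  obtain ⟨hm2, hf2⟩ := mem_fixList.1 hg2
  simp only [List.forall_mem_cons, List.not_mem_nil, false_implies, implies_true, and_true] at hf2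
  have l0 : (g0 * g1 * g2) (pt 23) = x 0 := by rw [Equiv.Perm.mul_apply, hf2.1, k0]
  have l1 : (g0 * g1 * g2) (pt 0) = x 1 := by rw [Equiv.Perm.mul_apply, hf2.2, k1]
  have l2 : (g0 * g1 * g2) (pt 12) = x 2 := by
    rw [Equiv.Perm.mul_apply, e2, ← Equiv.Perm.mul_apply, mul_inv_cancel, Equiv.Perm.one_apply]
  obtain ⟨g3, hg3, e3⟩ := exists_of_tcheck (keep := 16777215) (fix := [23, 0, 12]) (b := 14)
    (O := 8384510) (ts := tr24_3) (by norm_num) (by simp) (by decide +kernel) (H := M24)
    (fun g hg _ => hg) ((g0 * g1 * g2)⁻¹ (x 3))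
    (mem_mset_of_notMem_rest (l := [23, 0, 12]) (by decide +kernel) (by
      simp only [List.forall_mem_cons, List.not_mem_nil, false_implies, implies_true, ne_eq, Equiv.Perm.inv_eq_iff_eq, l0, l1,
        l2, and_true]
      exact ⟨hne 3 0 (by decide), hne 3 1 (by decide), hne 3 2 (by decide)⟩))
  obtain ⟨hm3, hf3⟩ := mem_fixList.1 hg3
  simp only [List.forall_mem_cons, List.not_mem_nil, false_implies, implies_true, and_true] at hf3
  have m0 : (g0 * g1 * g2 * g3) (pt 23) = x 0 := by rw [Equiv.Perm.mul_apply, hf3.1, l0]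
  have m1 : (g0 * g1 * g2 * g3) (pt 0) = x 1 := by rw [Equiv.Perm.mul_apply, hf3.2.1, l1]
  have m2 : (g0 * g1 * g2 * g3) (pt 12) = x 2 := by rw [Equiv.Perm.mul_apply, hf3.2.2, l2]
  have m3 : (g0 * g1 * g2 * g3) (pt 14) = x 3 := by
    rw [Equiv.Perm.mul_apply, e3, ← Equiv.Perm.mul_apply, mul_inv_cancel, Equiv.Perm.one_apply]
  obtain ⟨g4, hg4, e4⟩ := exists_of_tcheck (keep := 16777215) (fix := [23, 0, 12, 14]) (b := 16)
    (O := 8368126) (ts := tr24_4) (by norm_num) (by simp) (by decide +kernel) (H := M24)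
    (fun g hg _ => hg) ((g0 * g1 * g2 * g3)⁻¹ (x 4))
    (mem_mset_of_notMem_rest (l := [23, 0, 12, 14]) (by decide +kernel) (by
      simp only [List.forall_mem_cons, List.not_mem_nil, false_implies, implies_true, ne_eq, Equiv.Perm.inv_eq_iff_eq, m0, m1,
        m2, m3, and_true]
      exact ⟨hne 4 0 (by decide), hne 4 1 (by decide), hne 4 2 (by decide), hne 4 3 (by decide)⟩))
  obtain ⟨hm4, hf4⟩ := mem_fixList.1 hg4
  simp only [List.forall_mem_cons, List.not_mem_nil, false_implies, implies_true, and_true] at hf4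
  refine ⟨g0 * g1 * g2 * g3 * g4, mul_mem (mul_mem (mul_mem (mul_mem hm0 hm1) hm2) hm3) hm4,
    ?_, ?_, ?_, ?_, ?_⟩
  · rw [Equiv.Perm.mul_apply, hf4.1, m0]
  · rw [Equiv.Perm.mul_apply, hf4.2.1, m1]
  · rw [Equiv.Perm.mul_apply, hf4.2.2.1, m2]
  · rw [Equiv.Perm.mul_apply, hf4.2.2.2, m3]
  · rw [Equiv.Perm.mul_apply, e4, ← Equiv.Perm.mul_apply, mul_inv_cancel, Equiv.Perm.one_apply]

theorem exists_map_five_five (x y : Fin 5 → GolayPt) (hx : Function.Injective x)
    (hy : Function.Injective y) : ∃ g ∈ M24, ∀ i, g (x i) = y i := by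
  obtain ⟨a, ha, a0, a1, a2, a3, a4⟩ := exists_map_five x hx
  obtain ⟨b, hb, b0, b1, b2, b3, b4⟩ := exists_map_five y hy
  refine ⟨b * a⁻¹, mul_mem hb (inv_mem ha), fun i => ?_⟩
  fin_cases i <;>
    simp [← a0, ← a1, ← a2, ← a3, ← a4, ← b0, ← b1, ← b2, ← b3, ← b4]

theorem exists_smul_eq_of_octads {o o' : Finset GolayPt} (ho : o ∈ octads) (ho' : o' ∈ octads) :
    ∃ g ∈ M24, g • o = o' := by
  have key : ∀ s : Finset GolayPt, s ∈ octads → ∃ x : Fin 5 → GolayPt,
      Function.Injective x ∧ ∀ i, x i ∈ s := by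
    intro s hs
    have h8 : Fintype.card {p // p ∈ s} = 8 := by rw [Fintype.card_coe]; exact hs.2
    let e : Fin 8 ≃ {p // p ∈ s} := (Fintype.equivFinOfCardEq h8).symm
    have h58 : 5 ≤ 8 := by norm_num
    exact ⟨fun i => (e (Fin.castLE h58 i) : GolayPt),
      Subtype.val_injective.comp (e.injective.comp (Fin.castLE_injective h58)), fun i => (e _).2⟩
  obtain ⟨x, hx, hxs⟩ := key o ho
  obtain ⟨y, hy, hys⟩ := key o' ho'
  obtain ⟨g, hg, hgxy⟩ := exists_map_five_five x y hx hy
  refine ⟨g, hg, octad_eq_of_five (smul_mem_octads hg ho) ho'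
    (s := Finset.univ.image y) ?_ ?_ ?_⟩
  · rw [Finset.card_image_of_injective _ hy]; simp
  · intro p hp
    obtain ⟨i, -, rfl⟩ := Finset.mem_image.1 hp
    rw [← hgxy i]
    exact Finset.smul_mem_smul_finset (hxs i)
  · intro p hp
    obtain ⟨i, -, rfl⟩ := Finset.mem_image.1 hp
    exact hys i

/-! ### the dodecad stabiliser -/

theorem squareDodecad_eq : Spor.squareDodecad = mset 340831 := by
  rw [Spor.squareDodecad, qrWord_eq, support₂_word]; rfl

theorem mem_M12 {g : Equiv.Perm GolayPt} :
    g ∈ Spor.M12 ↔ g ∈ M24 ∧ g • mset 340831 = mset 340831 := by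
  rw [Spor.M12, Subgroup.mem_inf, squareDodecad_eq]
  exact and_congr_right fun _ => MulAction.mem_stabilizer_iff

theorem M12_sub {l : List ℕ} {b O : ℕ}
    (hl : ∀ p : GolayPt, p ∈ mset 340831 → p ∉ mset O → idx p ∈ l) (hb : b ∉ l) (hb' : b < 24)
    (hbD : pt b ∈ mset 340831)
    {g : Equiv.Perm GolayPt} (hg : g ∈ fixList Spor.M12 l) : g (pt b) ∈ mset O := by
  obtain ⟨hgm, hfix⟩ := mem_fixList.1 hg
  by_contra h
  have hD : g (pt b) ∈ mset 340831 := by
    rw [← (mem_M12.1 hgm).2]; exact Finset.smul_mem_smul_finset hbD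
  have h1 := hfix _ (hl _ hD h)
  rw [pt_idx] at h1
  have := g.injective h1
  exact hb (by rw [← idx_pt hb', ← this]; exact hl _ hD h)

theorem card_chain12_0 : Nat.card Spor.M12 = 12 * Nat.card (fixList Spor.M12 [0]) := by
  have h := card_fixList_step (keep := 340831) (fix := []) (b := 0) (O := 340831)
    (ts := tr12_0) (by norm_num) (by simp) (by decide +kernel) (H := Spor.M12)
    (fun g hg hk => mem_M12.2 ⟨hg, hk⟩)
    (fun g hg => M12_sub (by decide +kernel) (by decide) (by norm_num) (by decide +kernel) hg)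
  rwa [show wt 340831 = 12 by decide +kernel] at h

theorem card_chain12_1 :
    Nat.card (fixList Spor.M12 [0]) = 11 * Nat.card (fixList Spor.M12 [0, 1]) := by
  have h := card_fixList_step (keep := 340831) (fix := [0]) (b := 1) (O := 340830)
    (ts := tr12_1) (by norm_num) (by simp) (by decide +kernel) (H := Spor.M12)
    (fun g hg hk => mem_M12.2 ⟨hg, hk⟩)
    (fun g hg => M12_sub (by decide +kernel) (by decide) (by norm_num) (by decide +kernel) hg)
  rwa [show wt 340830 = 11 by decide +kernel] at h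

theorem card_chain12_2 :
    Nat.card (fixList Spor.M12 [0, 1]) = 10 * Nat.card (fixList Spor.M12 [0, 1, 2]) := by
  have h := card_fixList_step (keep := 340831) (fix := [0, 1]) (b := 2) (O := 340828)
    (ts := tr12_2) (by norm_num) (by simp) (by decide +kernel) (H := Spor.M12)
    (fun g hg hk => mem_M12.2 ⟨hg, hk⟩)
    (fun g hg => M12_sub (by decide +kernel) (by decide) (by norm_num) (by decide +kernel) hg)
  rwa [show wt 340828 = 10 by decide +kernel] at h

theorem card_chain12_3 :
    Nat.card (fixList Spor.M12 [0, 1, 2]) = 9 * Nat.card (fixList Spor.M12 [0, 1, 2, 3]) := by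
  have h := card_fixList_step (keep := 340831) (fix := [0, 1, 2]) (b := 3) (O := 340824)
    (ts := tr12_3) (by norm_num) (by simp) (by decide +kernel) (H := Spor.M12)
    (fun g hg hk => mem_M12.2 ⟨hg, hk⟩)
    (fun g hg => M12_sub (by decide +kernel) (by decide) (by norm_num) (by decide +kernel) hg)
  rwa [show wt 340824 = 9 by decide +kernel] at h

theorem card_chain12_4 :
    Nat.card (fixList Spor.M12 [0, 1, 2, 3]) = 8 * Nat.card (fixList Spor.M12 [0, 1, 2, 3, 4]) := by
  have h := card_fixList_step (keep := 340831) (fix := [0, 1, 2, 3]) (b := 4) (O := 340816)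
    (ts := tr12_4) (by norm_num) (by simp) (by decide +kernel) (H := Spor.M12)
    (fun g hg hk => mem_M12.2 ⟨hg, hk⟩)
    (fun g hg => M12_sub (by decide +kernel) (by decide) (by norm_num) (by decide +kernel) hg)
  rwa [show wt 340816 = 8 by decide +kernel] at h

theorem fixList_M12_eq_bot : fixList Spor.M12 [0, 1, 2, 3, 4] = ⊥ := by
  rw [Subgroup.eq_bot_iff_forall]
  intro g hg
  obtain ⟨hgm, hfix⟩ := mem_fixList.1 hg
  refine eq_one_of_closeCheck (init := 340831 :: [0, 1, 2, 3, 4].map fun b => 1 <<< b)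
    (ops := ops12) (by decide +kernel) (mem_M12.1 hgm).1 ?_
  intro m hm
  rcases List.mem_cons.1 hm with rfl | hm
  · exact (mem_M12.1 hgm).2
  · obtain ⟨b, hb, rfl⟩ := List.mem_map.1 hm
    exact smul_singleton_of_fix ((by decide : ∀ b ∈ [0, 1, 2, 3, 4], b < 24) b hb) (hfix b hb)

theorem card_chain12_5 : Nat.card (fixList Spor.M12 [0, 1, 2, 3, 4]) = 1 := by
  rw [fixList_M12_eq_bot, Subgroup.card_bot]

theorem card_M12 : Nat.card Spor.M12 = 95040 := by
  rw [card_chain12_0, card_chain12_1, card_chain12_2, card_chain12_3, card_chain12_4,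
    card_chain12_5]

theorem M11_eq : Spor.M11 = fixList Spor.M12 [0] := by
  rw [Spor.M11, ← pt_zero]; rfl

theorem card_M11 : Nat.card Spor.M11 = 7920 := by
  rw [M11_eq, card_chain12_1, card_chain12_2, card_chain12_3, card_chain12_4, card_chain12_5]

theorem squareDodecad_mem : Spor.squareDodecad ∈ dodecads := by
  rw [squareDodecad_eq, mset_mem_dodecads (by norm_num)]
  exact ⟨by decide +kernel, by decide +kernel⟩

theorem exists_smul_eq_dodecad {d : Finset GolayPt} (hd : d ∈ dodecads) :
    ∃ g ∈ M24, g • Spor.squareDodecad = d := by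
  have hsub : MulAction.orbit M24 Spor.squareDodecad ⊆ dodecads := by
    rintro _ ⟨g, rfl⟩
    exact smul_mem_dodecads g.2 squareDodecad_mem
  have hstab : MulAction.stabilizer M24 Spor.squareDodecad = Spor.M12.subgroupOf M24 := by
    ext g
    rw [MulAction.mem_stabilizer_iff, Subgroup.mem_subgroupOf, Spor.M12, Subgroup.mem_inf,
      MulAction.mem_stabilizer_iff]
    exact ⟨fun h => ⟨g.2, h⟩, fun h => h.2⟩
  have hcard : (MulAction.orbit M24 Spor.squareDodecad).ncard = 2576 := by
    have h := Subgroup.card_eq_card_quotient_mul_card_subgroup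
      (MulAction.stabilizer M24 Spor.squareDodecad)
    rw [← Nat.card_congr (MulAction.orbitEquivQuotientStabilizer M24 Spor.squareDodecad), hstab,
      Nat.card_congr (Subgroup.subgroupOfEquivOfLe
        (show Spor.M12 ≤ M24 from inf_le_left)).toEquiv, card_M24, card_M12,
      Nat.card_coe_set_eq] at h
    omega
  have heq := Set.eq_of_subset_of_ncard_le hsub (by rw [ncard_dodecads, hcard]) (Set.toFinite _)
  rw [← heq] at hd
  obtain ⟨g, rfl⟩ := hd
  exact ⟨g, g.2, rfl⟩

theorem exists_smul_eq_of_dodecads {d d' : Finset GolayPt} (hd : d ∈ dodecads)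
    (hd' : d' ∈ dodecads) : ∃ g ∈ M24, g • d = d' := by
  obtain ⟨a, ha, rfl⟩ := exists_smul_eq_dodecad hd
  obtain ⟨b, hb, rfl⟩ := exists_smul_eq_dodecad hd'
  exact ⟨b * a⁻¹, mul_mem hb (inv_mem ha), by rw [smul_smul, inv_mul_cancel_right]⟩

end Cfsg.Agent.GolayM24
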