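import Mathlib
import Cfsg.Agent.Lib.GolayM24

/-!
An upper bound for normalisers of the subgroups of order 11 and 23 in the Mathieu groups, by
enumerating all candidate permutations.
-/

set_option autoImplicit false

namespace Cfsg.Agent.GolayNormalizer

open Cfsg Cfsg.Agent.GolayBasic Cfsg.Agent.GolayPerm
open scoped Pointwise

/-- image of a mask under a point function, over the listed points -/
def fmaskAux (f : ℕ → ℕ) (m : ℕ) : List ℕ → ℕ
  | [] => 0
  | i :: l => (((m >>> i) &&& 1) <<< f i) ||| fmaskAux f m l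

/-- image of a mask under a point function -/
def fmask (f : ℕ → ℕ) (m : ℕ) : ℕ := fmaskAux f m pts

/-- necessary condition for a point function to come from the group of the code -/
def fgood (f : ℕ → ℕ) : Bool :=
  fmask f 16777215 == 16777215 && basisRows.all fun b => inCode (fmask f b)

theorem testBit_fmaskAux (f : ℕ → ℕ) (m j : ℕ) : ∀ l : List ℕ,
    (fmaskAux f m l).testBit j = l.any fun i => m.testBit i && decide (f i = j)
  | [] => by simp [fmaskAux]
  | i :: l => by rw [fmaskAux, Nat.testBit_or, testBit_bit_shift, testBit_fmaskAux f m j l, List.any_cons]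

theorem testBit_fmask {f : ℕ → ℕ} {m j : ℕ} :
    (fmask f m).testBit j = true ↔ ∃ i < 24, m.testBit i = true ∧ f i = j := by
  simp [fmask, testBit_fmaskAux, mem_pts]

theorem smul_of_agree {g : Equiv.Perm GolayPt} {f : ℕ → ℕ}
    (h : ∀ p, idx (g p) = f (idx p)) (m : ℕ) :
    g • mset m = mset (fmask f m) ∧ fmask f m < 2 ^ 24 := by
  constructor
  · ext q
    rw [Finset.mem_smul_finset, mem_mset, testBit_fmask]
    constructor
    · rintro ⟨p, hp, rfl⟩
      exact ⟨idx p, idx_lt p, mem_mset.1 hp, (h p).symm⟩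
    · rintro ⟨i, hi, hm, hij⟩
      refine ⟨pt i, mem_mset.2 (by rw [idx_pt hi]; exact hm), idx_inj ?_⟩
      rw [Equiv.Perm.smul_def, h, idx_pt hi, hij]
  · refine Nat.lt_pow_two_of_testBit _ fun j hj => ?_
    rw [← Bool.not_eq_true, testBit_fmask]
    rintro ⟨i, hi, -, rfl⟩
    have := h (pt i)
    rw [idx_pt hi] at this
    exact absurd (idx_lt (g (pt i))) (by omega)

theorem fgood_of_agree {g : Equiv.Perm GolayPt} (hg : g ∈ M24) {f : ℕ → ℕ}
    (h : ∀ p, idx (g p) = f (idx p)) : fgood f = true := by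
  simp only [fgood, Bool.and_eq_true, beq_iff_eq, List.all_eq_true]
  constructor
  · obtain ⟨h1, h2⟩ := smul_of_agree h 16777215
    rw [mset_all, Finset.smul_finset_univ, ← mset_all] at h1
    exact (mset_inj (by norm_num) h2 h1).symm
  · intro b hb
    obtain ⟨h1, h2⟩ := smul_of_agree h b
    have hbc : inCode b = true := (by decide +kernel : ∀ c ∈ basisRows, inCode c = true) b hb
    rw [← mset_mem_supports h2, ← h1]
    exact smul_mem_supports hg ((mset_mem_supports (inCode_lt hbc)).2 hbc)

/-- the candidate determined by an exponent and the images of two points -/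
def cand (zs : List ℕ) (loc : List (ℕ × ℕ)) (p : ℕ) (c : ℕ × ℕ × ℕ) (i : ℕ) : ℕ :=
  match loc.getD i (2, 0) with
  | (k, e) => if k = 2 then i else pimg (zs.getD ((c.1 * e) % p) 0) (if k = 0 then c.2.1 else c.2.2)

/-- all candidates -/
def allCand (js as bs : List ℕ) : List (ℕ × ℕ × ℕ) :=
  js.flatMap fun j => as.flatMap fun a => bs.map fun b => (j, a, b)

/-- the candidates that survive -/
def accepted (zs : List ℕ) (loc : List (ℕ × ℕ)) (p : ℕ) (l : List (ℕ × ℕ × ℕ)) :
    List (ℕ × ℕ × ℕ) :=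
  l.filter fun c => fgood (cand zs loc p c)

/-- powers table is correct and `loc` locates every point -/
def tableCheck (zs : List ℕ) (loc : List (ℕ × ℕ)) (p a b z : ℕ) : Bool :=
  valid z && pts.all (fun i =>
    pimg (zs.getD 0 0) i == i &&
    (List.range (p - 1)).all (fun e => pimg (zs.getD (e + 1) 0) i == pimg z (pimg (zs.getD e 0) i)) &&
    pimg z (pimg (zs.getD (p - 1) 0) i) == i &&
    match loc.getD i (2, 0) with
    | (k, e) =>
      if k = 2 then pimg z i == i
      else decide (e < p) && pimg (zs.getD e 0) (if k = 0 then a else b) == i)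

theorem idx_pow {zs : List ℕ} {loc : List (ℕ × ℕ)} {p a b z : ℕ}
    (hc : tableCheck zs loc p a b z = true) (x : GolayPt) :
    ∀ e < p, idx ((permOf z ^ e) x) = pimg (zs.getD e 0) (idx x) := by
  simp only [tableCheck, Bool.and_eq_true, List.all_eq_true, beq_iff_eq] at hc
  have hv := hc.1
  intro e
  induction e with
  | zero => intro _; rw [pow_zero, Equiv.Perm.one_apply, (hc.2 _ (mem_pts.2 (idx_lt x))).1.1.1]
  | succ e ih =>
    intro he
    have h2 := (hc.2 _ (mem_pts.2 (idx_lt x))).1.1.2 e (List.mem_range.2 (by omega))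
    rw [pow_succ', Equiv.Perm.mul_apply, permOf_apply hv, pfun, idx_pt (pimg_lt hv (idx_lt _)),
      ih (by omega), h2]

theorem pow_p {zs : List ℕ} {loc : List (ℕ × ℕ)} {p a b z : ℕ} (hp : 0 < p)
    (hc : tableCheck zs loc p a b z = true) : permOf z ^ p = 1 := by
  have hi := idx_pow hc
  simp only [tableCheck, Bool.and_eq_true, List.all_eq_true, beq_iff_eq] at hc
  have hv := hc.1
  ext x : 1
  apply idx_inj
  obtain ⟨q, rfl⟩ : ∃ q, p = q + 1 := ⟨p - 1, by omega⟩
  rw [pow_succ', Equiv.Perm.mul_apply, permOf_apply hv, pfun, idx_pt (pimg_lt hv (idx_lt _)),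
    hi x q (by omega), Equiv.Perm.one_apply]
  exact (hc.2 _ (mem_pts.2 (idx_lt x))).1.2

/-- the subgroup generated by an encoded permutation -/
noncomputable def cyc (z : ℕ) : Subgroup (Equiv.Perm GolayPt) := Subgroup.zpowers (permOf z)

theorem orderOf_eq {zs : List ℕ} {loc : List (ℕ × ℕ)} {p a b z : ℕ} (hp : p.Prime)
    (hc : tableCheck zs loc p a b z = true) (hmv : pimg z a ≠ a) (ha : a < 24) :
    orderOf (permOf z) = p := by
  haveI : Fact p.Prime := ⟨hp⟩
  refine orderOf_eq_prime (pow_p hp.pos hc) fun h => hmv ?_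
  have := idx_pow hc (pt a) 1 hp.one_lt
  rw [pow_one, h, Equiv.Perm.one_apply, idx_pt ha] at this
  simp only [tableCheck, Bool.and_eq_true, List.all_eq_true, beq_iff_eq] at hc
  have h1 := (hc.2 a (mem_pts.2 ha))
  have h10 := h1.1.1.2 0 (List.mem_range.2 (by have := hp.two_le; omega))
  rw [h1.1.1.1] at h10
  rw [← h10, ← this]

/-- the bound -/
theorem card_normalizer_le {zs : List ℕ} {loc : List (ℕ × ℕ)} {p a b z : ℕ} (hp : p.Prime)
    (ha : a < 24) (hb : b < 24)
    (hc : tableCheck zs loc p a b z = true)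
    (as bs : List ℕ) {N : ℕ}
    (hN : (accepted zs loc p (allCand (List.range p) as bs)).length ≤ N)
    (S : Subgroup (Equiv.Perm GolayPt)) (hS : S ≤ M24) (hzS : permOf z ∈ S)
    (hfix : ∀ g ∈ S, ∀ i < 24, (loc.getD i (2, 0)).1 = 2 → idx (g (pt i)) = i)
    (has : ∀ g ∈ S, ∃ e < p, idx ((permOf z ^ e * g) (pt a)) ∈ as)
    (hbs : ∀ g ∈ S, idx (g (pt b)) ∈ bs)
    (hnorm : ∀ g ∈ S, g * permOf z * g⁻¹ ∈ cyc z) :
    Nat.card S ≤ p * N := by
  have hi := idx_pow hc
  have hpp := pow_p hp.pos hc
  simp only [tableCheck, Bool.and_eq_true, List.all_eq_true, beq_iff_eq] at hc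
  have hv := hc.1
  have key : ∀ g : S, idx ((g : Equiv.Perm GolayPt) (pt a)) ∈ as → ∃ c ∈ accepted zs loc p (allCand (List.range p) as bs),
      ∀ x, idx ((g : Equiv.Perm GolayPt) x) = cand zs loc p c (idx x) := by
    rintro ⟨g, hg⟩ hga
    obtain ⟨n, hn⟩ := Subgroup.mem_zpowers_iff.1 (hnorm g hg)
    set j : ℕ := (n % (p : ℤ)).toNat with hj
    have hjlt : j < p := by
      have := Int.emod_lt_of_pos n (by exact_mod_cast hp.pos : (0 : ℤ) < p)
      have := Int.emod_nonneg n (by exact_mod_cast hp.ne_zero : (p : ℤ) ≠ 0)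
      omega
    have hgz : g * permOf z * g⁻¹ = permOf z ^ j := by
      rw [← hn, ← zpow_natCast, hj, Int.toNat_of_nonneg
        (Int.emod_nonneg n (by exact_mod_cast hp.ne_zero)), ← zpow_eq_zpow_emod' n hpp]
    have hagree : ∀ x, idx (g x) = cand zs loc p (j, idx (g (pt a)), idx (g (pt b))) (idx x) := by
      intro x
      have hl := (hc.2 _ (mem_pts.2 (idx_lt x))).2
      unfold cand
      generalize hke : loc.getD (idx x) (2, 0) = ke at hl
      obtain ⟨k, e⟩ := ke
      dsimp only at hl ⊢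
      by_cases hk2 : k = 2
      · rw [if_pos hk2]
        have := hfix g hg (idx x) (idx_lt x) (by rw [hke]; exact hk2)
        rwa [pt_idx] at this
      · rw [if_neg hk2] at hl ⊢
        rw [Bool.and_eq_true, decide_eq_true_eq, beq_iff_eq] at hl
        have hxe : ∀ c < 24, pimg (zs.getD e 0) c = idx x → x = (permOf z ^ e) (pt c) := by
          intro c hc' h
          apply idx_inj
          rw [hi (pt c) e hl.1, idx_pt hc', h]
        have hconj : ∀ y, g ((permOf z ^ e) y) = (permOf z ^ (j * e % p)) (g y) := by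
          intro y
          rw [← pow_eq_pow_mod (j * e) hpp, pow_mul, ← hgz, conj_pow]
          simp
        by_cases hk0 : k = 0
        · rw [if_pos hk0] at hl ⊢
          conv_lhs => rw [hxe a ha hl.2, hconj]
          rw [hi _ _ (Nat.mod_lt _ hp.pos)]
        · rw [if_neg hk0] at hl ⊢
          conv_lhs => rw [hxe b hb hl.2, hconj]
          rw [hi _ _ (Nat.mod_lt _ hp.pos)]
    refine ⟨_, ?_, hagree⟩
    rw [accepted, List.mem_filter]
    refine ⟨?_, fgood_of_agree (hS hg) hagree⟩
    simp only [allCand, List.mem_flatMap, List.mem_map, List.mem_range]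
    exact ⟨j, hjlt, _, hga, _, hbs g hg, rfl⟩
  have key2 : ∀ g : S, ∃ (e : Fin p) (c : ℕ × ℕ × ℕ),
      c ∈ accepted zs loc p (allCand (List.range p) as bs) ∧
      ∀ x, idx ((permOf z ^ e.val * (g : Equiv.Perm GolayPt)) x) = cand zs loc p c (idx x) := by
    intro g
    obtain ⟨e, he, hea⟩ := has g g.2
    obtain ⟨c, hcm, hca⟩ := key ⟨_, mul_mem (pow_mem hzS e) g.2⟩ hea
    exact ⟨⟨e, he⟩, c, hcm, hca⟩
  choose fe f hf hfa using key2
  refine le_trans ?_ (Nat.mul_le_mul_left p hN)
  refine le_trans ?_ (Nat.mul_le_mul_left p (List.toFinset_card_le _))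
  rw [← Nat.card_eq_finsetCard]
  conv_rhs => arg 1; rw [← Nat.card_fin p]
  rw [← Nat.card_prod]
  refine Nat.card_le_card_of_injective
    (fun g => (fe g, (⟨f g, List.mem_toFinset.2 (hf g)⟩ :
      (accepted zs loc p (allCand (List.range p) as bs)).toFinset))) fun g g' h => ?_
  obtain ⟨he, h'⟩ := Prod.ext_iff.1 h
  replace he : fe g = fe g' := he
  replace h' : f g = f g' := congrArg Subtype.val h'
  have : permOf z ^ (fe g).val * (g : Equiv.Perm GolayPt) =
      permOf z ^ (fe g').val * (g' : Equiv.Perm GolayPt) := by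
    ext x : 1
    apply idx_inj
    rw [hfa g x, hfa g' x, h']
  rw [he] at this
  exact Subtype.ext (mul_left_cancel this)

end Cfsg.Agent.GolayNormalizer
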