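import Mathlib

/-!
Two simplicity criteria for finite permutation groups: a prime with small Sylow normaliser, and a
2-transitive group with simple stabiliser.
-/

set_option autoImplicit false

namespace Cfsg.Agent.GolaySimpleGen

open scoped Pointwise

variable {G : Type*} [Group G] [Finite G]

theorem eq_of_factorization {p m : ℕ} (hp : p.Prime) (hm : ¬ p ∣ m) :
    p ^ (p * m).factorization p = p := by
  have hm0 : m ≠ 0 := fun h => hm (h ▸ dvd_zero p)
  rw [Nat.factorization_mul hp.ne_zero hm0, Finsupp.add_apply, hp.factorization_self,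
    Nat.factorization_eq_zero_of_not_dvd hm, add_zero, pow_one]

/-- A prime with a small normaliser gives simplicity. -/
theorem isSimpleGroup_of_normalizer {p q m : ℕ} (hp : p.Prime) (hq : q.Prime) (hm : ¬ p ∣ m)
    (hG : Nat.card G = p * m) (hmq : m ≠ q) (hm1 : m ≠ 1) (P : Subgroup G) (hP : Nat.card P = p)
    (hNP : Nat.card (Subgroup.normalizer (P : Set G)) = p * q)
    (hN : ∀ N : Subgroup G, N.Normal → N ≠ ⊥ → p ∣ Nat.card N) : IsSimpleGroup G := by
  haveI : Fact p.Prime := ⟨hp⟩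
  haveI : Nontrivial G := by
    rw [← Finite.one_lt_card_iff_nontrivial, hG]
    have := hp.two_le
    have : m ≠ 0 := fun h => hm (h ▸ dvd_zero p)
    calc 1 < p := by omega
      _ ≤ p * m := Nat.le_mul_of_pos_right p (by omega)
  have hPsyl : Nat.card P = p ^ (Nat.card G).factorization p := by
    rw [hP, hG, eq_of_factorization hp hm]
  let S : Sylow p G := Sylow.ofCard P hPsyl
  have hS : (S : Subgroup G) = P := Sylow.coe_ofCard P hPsyl
  refine ⟨fun N hNn => ?_⟩
  by_cases hbot : N = ⊥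
  · exact Or.inl hbot
  right
  have hpN := hN N hNn hbot
  -- N contains P
  have hPN : P ≤ N := by
    obtain ⟨x, hx⟩ := exists_prime_orderOf_dvd_card' (G := N) p hpN
    have hcard : Nat.card (Subgroup.zpowers (x : G)) = p ^ (Nat.card G).factorization p := by
      rw [Nat.card_zpowers, Subgroup.orderOf_coe, hx, hG, eq_of_factorization hp hm]
    let T : Sylow p G := Sylow.ofCard _ hcard
    obtain ⟨g, hg⟩ := MulAction.exists_smul_eq G T S
    rw [← hS, ← hg, Sylow.coe_subgroup_smul]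
    rintro y ⟨z, hz, rfl⟩
    have hzN : z ∈ N := by
      have hz' : z ∈ Subgroup.zpowers (x : G) := hz
      exact Subgroup.zpowers_le.2 x.2 hz'
    simpa using hNn.conj_mem z hzN g
  set NP := Subgroup.normalizer (P : Set G) with hNPdef
  -- Frattini
  have hPN' : Nat.card (P.subgroupOf N) = p := by
    rw [Nat.card_congr (Subgroup.subgroupOfEquivOfLe hPN).toEquiv, hP]
  obtain ⟨k, hk⟩ := hpN
  have hkm : k ∣ m := by
    have := Subgroup.card_subgroup_dvd_card N
    rw [hk, hG] at this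
    exact (Nat.mul_dvd_mul_iff_left hp.pos).1 this
  have hk' : ¬ p ∣ k := fun h => hm (dvd_trans h hkm)
  have hNsyl : Nat.card (P.subgroupOf N) = p ^ (Nat.card N).factorization p := by
    rw [hPN', hk, eq_of_factorization hp hk']
  let Q : Sylow p N := Sylow.ofCard _ hNsyl
  have hQ : (Q : Subgroup N) = P.subgroupOf N := Sylow.coe_ofCard _ hNsyl
  have hmapQ : Q.toSubgroup.map N.subtype = P := by
    rw [hQ, Subgroup.map_subgroupOf_eq_of_le hPN]
  have hfrat : NP ⊔ N = ⊤ := by
    have := Sylow.normalizer_sup_eq_top Q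
    rwa [hmapQ] at this
  have hdvd : N.index ∣ q := by
    have h1 : N.index = (N.subgroupOf NP).index := by
      rw [← Subgroup.relIndex_top_right, ← hfrat, Subgroup.relIndex_sup_right]
      rfl
    have h2 : p ∣ Nat.card (N.subgroupOf NP) := by
      have hle : P.subgroupOf NP ≤ N.subgroupOf NP := Subgroup.comap_mono hPN
      have := Subgroup.card_dvd_of_le hle
      rwa [Nat.card_congr (Subgroup.subgroupOfEquivOfLe Subgroup.le_normalizer).toEquiv, hP] at this
    obtain ⟨c, hc⟩ := h2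
    have h3 := Subgroup.card_mul_index (N.subgroupOf NP)
    rw [hNP, hc, ← h1, mul_assoc] at h3
    exact ⟨c, by rw [← Nat.eq_of_mul_eq_mul_left hp.pos h3, mul_comm]⟩
  rcases (Nat.dvd_prime hq).1 hdvd with h | h
  · exact Subgroup.index_eq_one.1 h
  exfalso
  -- index q: transfer in N
  have hNN : Subgroup.normalizer ((Q : Subgroup N) : Set N) ≤ Subgroup.centralizer ((Q : Subgroup N) : Set N) := by
    have hsub : Subgroup.normalizer ((Q : Subgroup N) : Set N) ≤ (Q : Subgroup N) := by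
      have hmap : (Subgroup.normalizer ((Q : Subgroup N) : Set N)).map N.subtype ≤ NP ⊓ N := by
        rintro y ⟨x, hx, rfl⟩
        refine ⟨?_, x.2⟩
        rw [SetLike.mem_coe, Subgroup.mem_normalizer_iff] at hx
        show (x : G) ∈ NP
        rw [hNPdef, Subgroup.mem_normalizer_iff]
        intro z
        constructor
        · intro hz
          have := (hx ⟨z, hPN hz⟩).1 (by rw [hQ]; exact hz)
          rw [hQ] at this
          exact this
        · intro hz
          have hzN : z ∈ N := by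
            have := hNn.conj_mem _ (hPN hz) ((x : G)⁻¹)
            simpa [mul_assoc] using this
          have := (hx ⟨z, hzN⟩).2 (by rw [hQ]; exact hz)
          rw [hQ] at this
          exact this
      have hcardle : Nat.card ↥(NP ⊓ N) = p := by
        have h1 : N.index = (N.subgroupOf NP).index := by
          rw [← Subgroup.relIndex_top_right, ← hfrat, Subgroup.relIndex_sup_right]
          rfl
        have h3 := Subgroup.card_mul_index (N.subgroupOf NP)
        rw [hNP, ← h1, h] at h3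
        have h4 : Nat.card (N.subgroupOf NP) = p := Nat.eq_of_mul_eq_mul_right hq.pos h3
        rw [← h4, Nat.card_congr (Subgroup.subgroupOfEquivOfLe (inf_le_left : NP ⊓ N ≤ NP)).symm.toEquiv,
          Subgroup.inf_subgroupOf_left]
      have heq : NP ⊓ N = P := by
        refine (Subgroup.eq_of_le_of_card_ge (le_inf ?_ hPN) ?_).symm
        · exact Subgroup.le_normalizer
        · rw [hcardle, hP]
      rw [heq, ← hmapQ] at hmap
      exact (Subgroup.map_le_map_iff_of_injective N.subtype_injective).1 hmap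
    haveI : IsCyclic (Q : Subgroup N) := isCyclic_of_prime_card (p := p) (by rw [hQ, hPN'])
    intro x hx
    rw [Subgroup.mem_centralizer_iff]
    intro y hy
    exact congrArg Subtype.val (IsCyclic.isMulCommutative.is_comm.comm
      (⟨y, hy⟩ : (Q : Subgroup N)) ⟨x, hsub hx⟩)
  have hcompl := MonoidHom.ker_transferSylow_isComplement' Q hNN
  set f := MonoidHom.transferSylow Q hNN with hf
  set K := f.ker with hK
  have hKc : Nat.card K = k := by
    have := hcompl.card_mul_card
    rw [hQ, hPN', hk, mul_comm] at this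
    exact Nat.eq_of_mul_eq_mul_left hp.pos this
  have hKn : (K.map N.subtype).Normal := by
    constructor
    rintro y ⟨x, hx, rfl⟩ g
    refine ⟨⟨g * (x : G) * g⁻¹, hNn.conj_mem _ x.2 g⟩, ?_, rfl⟩
    rw [SetLike.mem_coe, MonoidHom.mem_ker]
    rw [← orderOf_eq_one_iff]
    refine Nat.eq_one_of_dvd_coprimes ((hp.coprime_iff_not_dvd).2 hk') ?_ ?_
    · have := orderOf_dvd_natCard (f ⟨g * (x : G) * g⁻¹, hNn.conj_mem _ x.2 g⟩)
      rwa [show Nat.card (Q : Subgroup N) = p by rw [hQ, hPN']] at this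
    · refine (orderOf_map_dvd f _).trans ?_
      rw [← Subgroup.orderOf_coe, ← hKc]
      refine dvd_trans (dvd_of_eq ?_) (orderOf_dvd_natCard (⟨x, hx⟩ : K))
      rw [← Subgroup.orderOf_coe (⟨x, hx⟩ : K), ← Subgroup.orderOf_coe x]
      exact (SemiconjBy.orderOf_eq g (show SemiconjBy g (x : G) (g * (x : G) * g⁻¹) by
        simp [SemiconjBy, mul_assoc])).symm
  have hKbot : K.map N.subtype = ⊥ := by
    by_contra hne
    apply hk'
    have := hN _ hKn hne
    rwa [Nat.card_congr (Subgroup.equivMapOfInjective K _ N.subtype_injective).symm.toEquiv,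
      hKc] at this
  have hk1 : k = 1 := by
    rw [← hKc, Nat.card_congr (Subgroup.equivMapOfInjective K _ N.subtype_injective).toEquiv,
      hKbot, Subgroup.card_bot]
  have := Subgroup.card_mul_index N
  rw [hk, hk1, h, hG, mul_one] at this
  exact hmq (Nat.eq_of_mul_eq_mul_left hp.pos this).symm

variable {α : Type*}

/-- the orbit of a nontrivial normal subgroup is everything -/
theorem exists_mem_normal {H : Subgroup (Equiv.Perm α)} {Ω : Set α}
    (hinv : ∀ g ∈ H, ∀ y ∈ Ω, g y ∈ Ω)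
    (hfaith : ∀ g ∈ H, (∀ y ∈ Ω, g y = y) → g = 1) {a : α} (ha : a ∈ Ω)
    (htr : ∀ y ∈ Ω, ∃ g ∈ H, g a = y)
    (htr2 : ∀ x ∈ Ω, ∀ y ∈ Ω, x ≠ a → y ≠ a → ∃ g ∈ H, g a = a ∧ g x = y)
    {N : Subgroup H} (hN : N.Normal) (hne : N ≠ ⊥) {y : α} (hy : y ∈ Ω) :
    ∃ n ∈ N, ((n : H) : Equiv.Perm α) a = y := by
  have hmove : ∃ n ∈ N, (n : Equiv.Perm α) a ≠ a := by
    by_contra hcon
    push Not at hcon
    apply hne
    rw [Subgroup.eq_bot_iff_forall]
    intro n hn
    apply Subtype.ext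
    refine hfaith _ n.2 fun z hz => ?_
    obtain ⟨g, hg, rfl⟩ := htr z hz
    have := hcon _ (hN.conj_mem n hn ⟨g, hg⟩⁻¹)
    have h2 := congrArg g this
    simpa using h2
  by_cases hya : y = a
  · exact ⟨1, one_mem _, by simp [hya]⟩
  obtain ⟨n, hn, hna⟩ := hmove
  obtain ⟨g, hg, hga, hgy⟩ := htr2 _ (hinv _ n.2 a ha) y hy hna hya
  refine ⟨⟨g, hg⟩ * n * ⟨g, hg⟩⁻¹, hN.conj_mem n hn _, ?_⟩
  have hga' : g⁻¹ a = a := by rw [Equiv.Perm.inv_eq_iff_eq, hga]
  simp only [Subgroup.coe_mul, Subgroup.coe_inv, Equiv.Perm.mul_apply, hga', hgy]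

/-- a nontrivial normal subgroup of a 2-transitive group has order divisible by the degree -/
theorem ncard_dvd_card_normal {H : Subgroup (Equiv.Perm α)} [Finite H] {Ω : Set α}
    (hinv : ∀ g ∈ H, ∀ y ∈ Ω, g y ∈ Ω)
    (hfaith : ∀ g ∈ H, (∀ y ∈ Ω, g y = y) → g = 1) {a : α} (ha : a ∈ Ω)
    (htr : ∀ y ∈ Ω, ∃ g ∈ H, g a = y)
    (htr2 : ∀ x ∈ Ω, ∀ y ∈ Ω, x ≠ a → y ≠ a → ∃ g ∈ H, g a = a ∧ g x = y)
    {N : Subgroup H} (hN : N.Normal) (hne : N ≠ ⊥) : Ω.ncard ∣ Nat.card N := by
  have horb : MulAction.orbit N a = Ω := by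
    ext y
    constructor
    · rintro ⟨n, rfl⟩; exact hinv _ (n : H).2 a ha
    · intro hy
      obtain ⟨n, hn, rfl⟩ := exists_mem_normal hinv hfaith ha htr htr2 hN hne hy
      exact ⟨⟨n, hn⟩, rfl⟩
  rw [← horb, ← Nat.card_coe_set_eq, Nat.card_congr (MulAction.orbitEquivQuotientStabilizer N a)]
  exact Subgroup.card_quotient_dvd_card _

/-- 2-transitive with simple stabiliser, degree not a prime power -/
theorem isSimpleGroup_of_stabilizer {H : Subgroup (Equiv.Perm α)} [Finite H] {Ω : Set α}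
    (hinv : ∀ g ∈ H, ∀ y ∈ Ω, g y ∈ Ω)
    (hfaith : ∀ g ∈ H, (∀ y ∈ Ω, g y = y) → g = 1) {a : α} (ha : a ∈ Ω)
    (htr : ∀ y ∈ Ω, ∃ g ∈ H, g a = y)
    (htr2 : ∀ x ∈ Ω, ∀ y ∈ Ω, x ≠ a → y ≠ a → ∃ g ∈ H, g a = a ∧ g x = y)
    {r s : ℕ} (hr : r.Prime) (hs : s.Prime) (hrs : r ≠ s) (hrΩ : r ∣ Ω.ncard) (hsΩ : s ∣ Ω.ncard)
    (hsimple : IsSimpleGroup ↥(H ⊓ MulAction.stabilizer (Equiv.Perm α) a)) : IsSimpleGroup H := by
  have : Nontrivial H := by
    obtain ⟨x, y, hxy⟩ := hsimple.exists_pair_ne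
    exact ⟨⟨x, x.2.1⟩, ⟨y, y.2.1⟩, fun h => hxy (Subtype.ext (congrArg (fun z : H => (z : Equiv.Perm α)) h))⟩
  refine ⟨fun N hN => ?_⟩
  by_cases hne : N = ⊥
  · exact Or.inl hne
  right
  set K : Subgroup (Equiv.Perm α) := H ⊓ MulAction.stabilizer (Equiv.Perm α) a with hK
  have hKn : (N.comap (Subgroup.inclusion (inf_le_left : K ≤ H))).Normal := hN.comap _
  have htrans := fun y hy => exists_mem_normal hinv hfaith ha htr htr2 hN hne (y := y) hy
  rcases hKn.eq_bot_or_eq_top with h | h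
  · exfalso
    -- regular normal subgroup: all its non-identity elements are conjugate
    have hreg : ∀ n ∈ N, (n : Equiv.Perm α) a = a → n = 1 := by
      intro n hn hna
      have hmem : (⟨(n : Equiv.Perm α), n.2, hna⟩ : K) ∈
          N.comap (Subgroup.inclusion (inf_le_left : K ≤ H)) := hn
      rw [h, Subgroup.mem_bot] at hmem
      exact Subtype.ext (congrArg (fun z : K => (z : Equiv.Perm α)) hmem)
    have hconj : ∀ m n : N, m ≠ 1 → n ≠ 1 → orderOf m = orderOf n := by
      rintro ⟨m, hm⟩ ⟨n, hn⟩ hm1 hn1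
      have hma : (m : Equiv.Perm α) a ≠ a := fun h' => hm1 (Subtype.ext (hreg m hm h'))
      have hna : (n : Equiv.Perm α) a ≠ a := fun h' => hn1 (Subtype.ext (hreg n hn h'))
      obtain ⟨g, hg, hga, hgm⟩ := htr2 _ (hinv _ m.2 a ha) _ (hinv _ n.2 a ha) hma hna
      have hga' : g⁻¹ a = a := by rw [Equiv.Perm.inv_eq_iff_eq, hga]
      set m' : H := ⟨g, hg⟩ * m * ⟨g, hg⟩⁻¹ with hm'
      have : n⁻¹ * m' = 1 := by
        refine hreg _ (mul_mem (inv_mem hn) (hN.conj_mem m hm _)) ?_
        simp only [hm', Subgroup.coe_mul, Subgroup.coe_inv, Equiv.Perm.mul_apply, hga', hgm]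
        simp
      rw [inv_mul_eq_one] at this
      subst this
      refine (Subgroup.orderOf_mk ..).trans (Eq.trans ?_ (Subgroup.orderOf_mk ..).symm)
      exact SemiconjBy.orderOf_eq (⟨g, hg⟩ : H) (show SemiconjBy _ m m' by
        simp [SemiconjBy, hm', mul_assoc])
    haveI : Fact r.Prime := ⟨hr⟩
    haveI : Fact s.Prime := ⟨hs⟩
    have hdvd := ncard_dvd_card_normal hinv hfaith ha htr htr2 hN hne
    obtain ⟨x, hx⟩ := exists_prime_orderOf_dvd_card' (G := N) r (hrΩ.trans hdvd)
    obtain ⟨y, hy⟩ := exists_prime_orderOf_dvd_card' (G := N) s (hsΩ.trans hdvd)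
    refine hrs ?_
    rw [← hx, ← hy]
    exact hconj x y (fun e => hr.ne_one (by rw [← hx, e, orderOf_one]))
      (fun e => hs.ne_one (by rw [← hy, e, orderOf_one]))
  · rw [eq_top_iff]
    intro g _
    obtain ⟨n, hn, hna⟩ := htrans _ (hinv _ g.2 a ha)
    have hk : ((n⁻¹ * g : H) : Equiv.Perm α) a = a := by
      simp [← hna]
    have : (⟨((n⁻¹ * g : H) : Equiv.Perm α), (n⁻¹ * g).2, hk⟩ : K) ∈
        N.comap (Subgroup.inclusion (inf_le_left : K ≤ H)) := by rw [h]; trivial
    have h2 : n⁻¹ * g ∈ N := this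
    simpa using mul_mem hn h2

end Cfsg.Agent.GolaySimpleGen
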