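import Cfsg.Agent.Lib.GolayPerm

/-!
Data: three transversals for the action of the smallest Mathieu group on the complementary dodecad.
-/

set_option autoImplicit false

namespace Cfsg.Agent.GolayDataM11

/-- elements keeping the dodecad, fixing 0 and the earlier outer points, by image of point 5 -/
def tr11_0 : List ℕ :=
  [984818244535754528103549039458486304, 601442356696507926978354467230331936,
   226336047987935084054500986342131968, 899179372603984193117870967878797408,
   944520564259769601152993851320057984, 984246521836818460956491656630404160,
   608405391266436187982588441666881568, 736869689873506157661248357828830592,
   977679942833055877780221639723683872, 642072841168866537843291873200377952,
   588731458262399560949039262922293280, 892208744704038410425275057206053056]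

/-- elements keeping the dodecad, fixing 0 and the earlier outer points, by image of point 7 -/
def tr11_1 : List ℕ :=
  [984818244535754528103549039458486304, 736625881877334957704422194182956224,
   610403613998037979367127925926735936, 845844547757558269883887796584756352,
   604040147530909035408608407952201824, 305641456969548629157906539773956128,
   724629257498391082714179645504300224, 636854405986140608860483144365678720,
   853781022259425117645366535584324000, 850816156249809420024848452381053504,
   887298776289228345025547348859827264]

/-- elements keeping the dodecad, fixing 0 and the earlier outer points, by image of point 10 -/
def tr11_2 : List ℕ :=
  [984818244535754528103549039458486304, 978239198764604640668953934463309856,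
   470703632939162895080556060451872896, 736792369995607551678985312002971936,
   653361943013370426771772528055623968, 609272859379522754159883029874018688,
   939215846443111717841326897824534016, 938973687542687534944587098921045376,
   595233404096409193562502426066688384, 479582217756837106710328776524893216]

end Cfsg.Agent.GolayDataM11
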