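import Mathlib
import Cfsg.Agent.Lib.GolayM24
import Cfsg.Agent.Lib.GolayDataM11

/-!
Point and set stabilisers inside the group of the code, multiple transitivity of the two smallest
Mathieu groups.
-/

set_option autoImplicit false

namespace Cfsg.Agent.GolayStab

open Cfsg Cfsg.Agent.GolayBasic Cfsg.Agent.GolayPerm Cfsg.Agent.GolayM24
open Cfsg.Agent.GolayData Cfsg.Agent.GolayDataM11
open scoped Pointwise

section generic

variable {α β γ : Type*} [MulAction (Equiv.Perm α) β] [MulAction (Equiv.Perm α) γ]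

/-- a stabiliser inside a subgroup, as an intersection of subgroups -/
noncomputable def subStabEquiv (H : Subgroup (Equiv.Perm α)) (b : β) :
    MulAction.stabilizer H b ≃* ↥(H ⊓ MulAction.stabilizer (Equiv.Perm α) b) :=
  (MulEquiv.subgroupCongr (show MulAction.stabilizer H b =
      (H ⊓ MulAction.stabilizer (Equiv.Perm α) b).subgroupOf H by
    ext g
    rw [MulAction.mem_stabilizer_iff, Subgroup.mem_subgroupOf, Subgroup.mem_inf,
      MulAction.mem_stabilizer_iff]
    exact ⟨fun h => ⟨g.2, h⟩, fun h => h.2⟩)).trans (Subgroup.subgroupOfEquivOfLe inf_le_left)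

/-- two stabilisers inside a subgroup, as an intersection of subgroups -/
noncomputable def subStab₂Equiv (H : Subgroup (Equiv.Perm α)) (b : β) (c : γ) :
    ↥(MulAction.stabilizer H b ⊓ MulAction.stabilizer H c) ≃*
      ↥(H ⊓ MulAction.stabilizer (Equiv.Perm α) b ⊓ MulAction.stabilizer (Equiv.Perm α) c) :=
  (MulEquiv.subgroupCongr (show MulAction.stabilizer H b ⊓ MulAction.stabilizer H c =
      (H ⊓ MulAction.stabilizer (Equiv.Perm α) b ⊓
        MulAction.stabilizer (Equiv.Perm α) c).subgroupOf H by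
    ext g
    rw [Subgroup.mem_inf, MulAction.mem_stabilizer_iff, MulAction.mem_stabilizer_iff,
      Subgroup.mem_subgroupOf, Subgroup.mem_inf, Subgroup.mem_inf, MulAction.mem_stabilizer_iff,
      MulAction.mem_stabilizer_iff]
    exact ⟨fun h => ⟨⟨g.2, h.1⟩, h.2⟩, fun h => ⟨h.1.2, h.2⟩⟩)).trans
    (Subgroup.subgroupOfEquivOfLe (inf_le_left.trans inf_le_left))

/-- stabilisers of points in one orbit are isomorphic -/
noncomputable def stabMapEquiv {H : Subgroup (Equiv.Perm α)} {a b : β} (g : Equiv.Perm α)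
    (hg : g ∈ H) (h : g • a = b) : MulAction.stabilizer H a ≃* MulAction.stabilizer H b :=
  MulAction.stabilizerEquivStabilizerOfOrbitRel ⟨(⟨g, hg⟩ : H)⁻¹, by
    show g⁻¹ • b = a
    rw [← h, inv_smul_smul]⟩

/-- joint stabilisers of pairs in one orbit are isomorphic -/
noncomputable def stab₂MapEquiv {H : Subgroup (Equiv.Perm α)} {a b : β} {a' b' : γ}
    (g : Equiv.Perm α) (hg : g ∈ H) (h : g • a = b) (h' : g • a' = b') :
    ↥(MulAction.stabilizer H a ⊓ MulAction.stabilizer H a') ≃*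
      ↥(MulAction.stabilizer H b ⊓ MulAction.stabilizer H b') :=
  have e : ∀ (x : β) (y : γ), MulAction.stabilizer H x ⊓ MulAction.stabilizer H y =
      MulAction.stabilizer H (x, y) := fun x y => by
    ext k; simp [MulAction.mem_stabilizer_iff, Prod.ext_iff]
  ((MulEquiv.subgroupCongr (e a a')).trans
    (stabMapEquiv g hg (show g • (a, a') = (b, b') by rw [Prod.smul_mk, h, h']))).trans
      (MulEquiv.subgroupCongr (e b b').symm)

end generic

theorem exists_map_two {p q : GolayPt} (hpq : p ≠ q) :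
    ∃ g ∈ M24, g • (none : GolayPt) = p ∧ g • (some 0 : GolayPt) = q := by
  obtain ⟨r, hrp, hrq⟩ : ∃ r : GolayPt, r ≠ p ∧ r ≠ q := by revert hpq; revert p q; decide +kernel
  obtain ⟨s, hsp, hsq, hsr⟩ : ∃ s : GolayPt, s ≠ p ∧ s ≠ q ∧ s ≠ r := by
    obtain ⟨s, hs⟩ := Finset.exists_not_mem_of_card_lt_enatCard
      (α := GolayPt) (s := {p, q, r}) (lt_of_le_of_lt
        (Nat.cast_le.2 (le_trans (Finset.card_insert_le _ _)
          (Nat.add_le_add_right (le_trans (Finset.card_insert_le _ _)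
            (Nat.add_le_add_right (Finset.card_singleton r).le 1)) 1))) (by simp <;> norm_num))
    simp only [Finset.mem_insert, Finset.mem_singleton, not_or] at hs
    exact ⟨s, hs⟩
  obtain ⟨t, htp, htq, htr, hts⟩ : ∃ t : GolayPt, t ≠ p ∧ t ≠ q ∧ t ≠ r ∧ t ≠ s := by
    obtain ⟨t, ht⟩ := Finset.exists_not_mem_of_card_lt_enatCard
      (α := GolayPt) (s := {p, q, r, s}) (lt_of_le_of_lt
        (Nat.cast_le.2 (le_trans (Finset.card_insert_le _ _)
          (Nat.add_le_add_right (le_trans (Finset.card_insert_le _ _)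
            (Nat.add_le_add_right (le_trans (Finset.card_insert_le _ _)
              (Nat.add_le_add_right (Finset.card_singleton s).le 1)) 1)) 1))) (by simp <;> norm_num))
    simp only [Finset.mem_insert, Finset.mem_singleton, not_or] at ht
    exact ⟨t, ht⟩
  obtain ⟨g, hg, h0, h1, -⟩ := exists_map_five ![p, q, r, s, t] (by
    intro i j h
    fin_cases i <;> fin_cases j <;> simp_all)
  refine ⟨g, hg, ?_, ?_⟩
  · rw [← pt_none]; simpa using h0
  · rw [← pt_zero]; simpa using h1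

theorem exists_map_one (p : GolayPt) : ∃ g ∈ M24, g • (none : GolayPt) = p := by
  obtain ⟨g, hg, h⟩ := exists_of_tcheck (keep := 16777215) (fix := []) (b := 23) (O := 16777215)
    (ts := tr24_0) (by norm_num) (by simp) (by decide +kernel) (H := M24) (fun g hg _ => hg) p
    (by rw [mset_all]; exact Finset.mem_univ _)
  exact ⟨g, (mem_fixList.1 hg).1, by rw [← pt_none]; exact h⟩

/-- a point stabiliser is a copy of M23 -/
noncomputable def stabPointEquiv (p : GolayPt) : Spor.M23 ≃* MulAction.stabilizer M24 p :=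
  (subStabEquiv M24 (none : GolayPt)).symm.trans
    (stabMapEquiv _ (exists_map_one p).choose_spec.1 (exists_map_one p).choose_spec.2)

/-- a two-point stabiliser is a copy of M22 -/
noncomputable def stabTwoPointEquiv {p q : GolayPt} (hpq : p ≠ q) :
    Spor.M22 ≃* ↥(MulAction.stabilizer M24 p ⊓ MulAction.stabilizer M24 q) :=
  (subStab₂Equiv M24 (none : GolayPt) (some 0 : GolayPt)).symm.trans
    (stab₂MapEquiv _ (exists_map_two hpq).choose_spec.1 (exists_map_two hpq).choose_spec.2.1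
      (exists_map_two hpq).choose_spec.2.2)

/-- a dodecad stabiliser is a copy of M12 -/
noncomputable def stabDodecadEquiv {d : Finset GolayPt} (hd : d ∈ dodecads) :
    Spor.M12 ≃* MulAction.stabilizer M24 d :=
  (subStabEquiv M24 Spor.squareDodecad).symm.trans
    (stabMapEquiv _ (exists_smul_eq_dodecad hd).choose_spec.1
      (exists_smul_eq_dodecad hd).choose_spec.2)

theorem exists_M12_map_point {y : GolayPt} (hy : y ∈ Spor.squareDodecad) :
    ∃ g ∈ Spor.M12, g (pt 0) = y := by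
  rw [squareDodecad_eq] at hy
  obtain ⟨g, hg, h⟩ := exists_of_tcheck (keep := 340831) (fix := []) (b := 0) (O := 340831)
    (ts := tr12_0) (by norm_num) (by simp) (by decide +kernel) (H := Spor.M12)
    (fun g hg hk => mem_M12.2 ⟨hg, hk⟩) y hy
  exact ⟨g, (mem_fixList.1 hg).1, h⟩

theorem exists_map_dodecad_point {d : Finset GolayPt} (hd : d ∈ dodecads) {p : GolayPt}
    (hp : p ∈ d) :
    ∃ g ∈ M24, g • Spor.squareDodecad = d ∧ g • (some 0 : GolayPt) = p := by
  obtain ⟨a, ha, rfl⟩ := exists_smul_eq_dodecad hd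
  rw [Finset.mem_smul_finset] at hp
  obtain ⟨y, hy, rfl⟩ := hp
  obtain ⟨b, hb, rfl⟩ := exists_M12_map_point hy
  refine ⟨a * b, mul_mem ha hb.1, ?_, ?_⟩
  · rw [mul_smul, MulAction.mem_stabilizer_iff.1 hb.2]
  · rw [mul_smul, ← pt_zero]; rfl

/-- the stabiliser of a dodecad and a point of it is a copy of M11 -/
noncomputable def stabDodecadPointEquiv {d : Finset GolayPt} (hd : d ∈ dodecads) {p : GolayPt}
    (hp : p ∈ d) : Spor.M11 ≃* ↥(MulAction.stabilizer M24 d ⊓ MulAction.stabilizer M24 p) :=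
  (subStab₂Equiv M24 Spor.squareDodecad (some 0 : GolayPt)).symm.trans
    (stab₂MapEquiv _ (exists_map_dodecad_point hd hp).choose_spec.1
      (exists_map_dodecad_point hd hp).choose_spec.2.1
      (exists_map_dodecad_point hd hp).choose_spec.2.2)

/-! ### sharp five-transitivity of M12 -/

theorem M12_mem_mset {l : List ℕ} {O : ℕ}
    (hl : ∀ p : GolayPt, p ∈ mset 340831 → p ∉ mset O → idx p ∈ l)
    {h : Equiv.Perm GolayPt} (hh : h ∈ Spor.M12) {y : GolayPt} (hy : y ∈ mset 340831)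
    (hne : ∀ b ∈ l, y ≠ h (pt b)) : h⁻¹ y ∈ mset O := by
  by_contra hc
  have hy' : h⁻¹ y ∈ mset 340831 := by
    rw [← (mem_M12.1 (inv_mem hh)).2]; exact Finset.smul_mem_smul_finset hy
  have h1 := hne _ (hl _ hy' hc)
  rw [pt_idx, ← Equiv.Perm.mul_apply, mul_inv_cancel] at h1
  exact h1 rfl

/-- carrying five fixed points of the dodecad to five given ones -/
theorem exists_M12_five (x : Fin 5 → GolayPt) (hx : Function.Injective x)
    (hxD : ∀ i, x i ∈ Spor.squareDodecad) :
    ∃ g ∈ Spor.M12, ∀ i : Fin 5, g (pt i.val) = x i := by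
  rw [squareDodecad_eq] at hxD
  have step : ∀ (k : ℕ) (hk : k < 5) (O : ℕ) (ts : List ℕ),
      (∀ p : GolayPt, p ∈ mset 340831 → p ∉ mset O → idx p ∈ List.range k) →
      tcheck 340831 (List.range k) k O ts = true →
      (∃ g ∈ Spor.M12, ∀ i : Fin 5, i.val < k → g (pt i.val) = x i) →
      ∃ g ∈ Spor.M12, ∀ i : Fin 5, i.val < k + 1 → g (pt i.val) = x i := by
    intro k hk O ts hl hc hprev
    obtain ⟨h, hh, hfix⟩ := hprev
    have hy : h⁻¹ (x ⟨k, hk⟩) ∈ mset O := by
      refine M12_mem_mset hl hh (hxD _) fun b hb e => ?_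
      rw [List.mem_range] at hb
      rw [hfix ⟨b, hb.trans hk⟩ hb] at e
      have := congrArg Fin.val (hx e)
      simp only at this
      omega
    obtain ⟨g, hg, e⟩ := exists_of_tcheck (keep := 340831) (fix := List.range k) (b := k) (O := O)
      (ts := ts) (hk.trans (by norm_num)) (fun f hf => by rw [List.mem_range] at hf; omega) hc
      (H := Spor.M12) (fun g hg hk' => mem_M12.2 ⟨hg, hk'⟩) _ hy
    obtain ⟨hgm, hgf⟩ := mem_fixList.1 hg
    refine ⟨h * g, mul_mem hh hgm, fun i hi => ?_⟩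
    rcases Nat.lt_succ_iff_lt_or_eq.1 hi with hi' | hi'
    · rw [Equiv.Perm.mul_apply, hgf i.val (List.mem_range.2 hi'), hfix i hi']
    · have : i = ⟨k, hk⟩ := Fin.ext hi'
      subst this
      rw [Equiv.Perm.mul_apply, e, ← Equiv.Perm.mul_apply, mul_inv_cancel, Equiv.Perm.one_apply]
  obtain ⟨g, hg, h⟩ := step 4 (by norm_num) 340816 tr12_4 (by decide +kernel) (by decide +kernel)
    (step 3 (by norm_num) 340824 tr12_3 (by decide +kernel) (by decide +kernel)
      (step 2 (by norm_num) 340828 tr12_2 (by decide +kernel) (by decide +kernel)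
        (step 1 (by norm_num) 340830 tr12_1 (by decide +kernel) (by decide +kernel)
          (step 0 (by norm_num) 340831 tr12_0 (by decide +kernel) (by decide +kernel)
            ⟨1, one_mem _, fun i hi => absurd hi (Nat.not_lt_zero _)⟩))))
  exact ⟨g, hg, fun i => h i i.isLt⟩

theorem M12_eq_of_five {a b : Equiv.Perm GolayPt} (ha : a ∈ Spor.M12) (hb : b ∈ Spor.M12)
    (h : ∀ i : Fin 5, a (pt i.val) = b (pt i.val)) : a = b := by
  have hm : a⁻¹ * b ∈ fixList Spor.M12 [0, 1, 2, 3, 4] := by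
    refine mem_fixList.2 ⟨mul_mem (inv_mem ha) hb, ?_⟩
    have : ∀ i : Fin 5, (a⁻¹ * b) (pt i.val) = pt i.val := fun i => by
      rw [Equiv.Perm.mul_apply, ← h i, Equiv.Perm.inv_def, Equiv.symm_apply_apply]
    intro n hn
    have hn5 : n < 5 := (by decide : ∀ n ∈ [0, 1, 2, 3, 4], n < 5) n hn
    exact this ⟨n, hn5⟩
  rw [fixList_M12_eq_bot, Subgroup.mem_bot] at hm
  exact inv_mul_eq_one.1 hm

/-- M12 is sharply five-transitive on its dodecad -/
theorem existsUnique_M12 (x y : Fin 5 → GolayPt) (hx : Function.Injective x)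
    (hy : Function.Injective y) (hxD : ∀ i, x i ∈ Spor.squareDodecad)
    (hyD : ∀ i, y i ∈ Spor.squareDodecad) :
    ∃! g : Equiv.Perm GolayPt, g ∈ Spor.M12 ∧ ∀ i, g (x i) = y i := by
  obtain ⟨a, ha, hax⟩ := exists_M12_five x hx hxD
  obtain ⟨b, hb, hby⟩ := exists_M12_five y hy hyD
  refine ⟨b * a⁻¹, ⟨mul_mem hb (inv_mem ha), fun i => ?_⟩, fun g hg => ?_⟩
  · simp [← hax i, hby i]
  · rw [eq_mul_inv_iff_mul_eq]
    refine M12_eq_of_five (mul_mem hg.1 ha) hb fun i => ?_
    rw [Equiv.Perm.mul_apply, hax i, hg.2 i, hby i]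

/-! ### three-transitivity of M11 on the complementary dodecad -/

theorem M11_mem_mset {l : List ℕ} {O : ℕ}
    (hl : ∀ p : GolayPt, p ∉ mset 340831 → p ∉ mset O → idx p ∈ l)
    {h : Equiv.Perm GolayPt} (hh : h ∈ Spor.M12) {y : GolayPt} (hy : y ∉ mset 340831)
    (hne : ∀ b ∈ l, y ≠ h (pt b)) : h⁻¹ y ∈ mset O := by
  by_contra hc
  have hy' : h⁻¹ y ∉ mset 340831 := by
    rw [← (mem_M12.1 (inv_mem hh)).2]
    exact fun hc' => hy (Finset.smul_mem_smul_finset_iff _ |>.1 hc')
  have h1 := hne _ (hl _ hy' hc)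
  rw [pt_idx, ← Equiv.Perm.mul_apply, mul_inv_cancel] at h1
  exact h1 rfl

/-- carrying three fixed outer points to three given ones -/
theorem exists_M11_three (x : Fin 3 → GolayPt) (hx : Function.Injective x)
    (hxD : ∀ i, x i ∉ Spor.squareDodecad) :
    ∃ g ∈ Spor.M11, g (pt 5) = x 0 ∧ g (pt 7) = x 1 ∧ g (pt 10) = x 2 := by
  rw [squareDodecad_eq] at hxD
  have hne : ∀ i j : Fin 3, i ≠ j → x i ≠ x j := fun i j h e => h (hx e)
  obtain ⟨g0, hg0, e0⟩ := exists_of_tcheck (keep := 340831) (fix := [0]) (b := 5) (O := 16436384)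
    (ts := tr11_0) (by norm_num) (by simp) (by decide +kernel) (H := Spor.M12)
    (fun g hg hk => mem_M12.2 ⟨hg, hk⟩) (x 0)
    ((by decide +kernel : ∀ q : GolayPt, q ∉ mset 340831 → q ∈ mset 16436384) _ (hxD 0))
  obtain ⟨hm0, hf0⟩ := mem_fixList.1 hg0
  obtain ⟨g1, hg1, e1⟩ := exists_of_tcheck (keep := 340831) (fix := [0, 5]) (b := 7)
    (O := 16436352) (ts := tr11_1) (by norm_num) (by simp) (by decide +kernel) (H := Spor.M12)
    (fun g hg hk => mem_M12.2 ⟨hg, hk⟩) (g0⁻¹ (x 1))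
    (M11_mem_mset (l := [5]) (by decide +kernel) hm0 (hxD 1) (by
      intro b hb; rw [List.mem_singleton.1 hb, e0]; exact hne 1 0 (by decide)))
  obtain ⟨hm1, hf1⟩ := mem_fixList.1 hg1
  have f10 : g1 (pt 0) = pt 0 := hf1 0 (by simp)
  have f15 : g1 (pt 5) = pt 5 := hf1 5 (by simp)
  have k0 : (g0 * g1) (pt 5) = x 0 := by rw [Equiv.Perm.mul_apply, f15, e0]
  have k1 : (g0 * g1) (pt 7) = x 1 := by
    rw [Equiv.Perm.mul_apply, e1, ← Equiv.Perm.mul_apply, mul_inv_cancel, Equiv.Perm.one_apply]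
  obtain ⟨g2, hg2, e2⟩ := exists_of_tcheck (keep := 340831) (fix := [0, 5, 7]) (b := 10)
    (O := 16436224) (ts := tr11_2) (by norm_num) (by simp) (by decide +kernel) (H := Spor.M12)
    (fun g hg hk => mem_M12.2 ⟨hg, hk⟩) ((g0 * g1)⁻¹ (x 2))
    (M11_mem_mset (l := [5, 7]) (by decide +kernel) (mul_mem hm0 hm1) (hxD 2) (by
      intro b hb
      rcases List.mem_cons.1 hb with rfl | hb
      · rw [k0]; exact hne 2 0 (by decide)
      · rw [List.mem_singleton.1 hb, k1]; exact hne 2 1 (by decide)))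
  obtain ⟨hm2, hf2⟩ := mem_fixList.1 hg2
  refine ⟨g0 * g1 * g2, ?_, ?_, ?_, ?_⟩
  · rw [M11_eq, mem_fixList]
    refine ⟨mul_mem (mul_mem hm0 hm1) hm2, fun b hb => ?_⟩
    rw [List.mem_singleton.1 hb, Equiv.Perm.mul_apply, hf2 0 (by simp), Equiv.Perm.mul_apply, f10,
      hf0 0 (by simp)]
  · rw [Equiv.Perm.mul_apply, hf2 5 (by simp), k0]
  · rw [Equiv.Perm.mul_apply, hf2 7 (by simp), k1]
  · rw [Equiv.Perm.mul_apply, e2, ← Equiv.Perm.mul_apply, mul_inv_cancel, Equiv.Perm.one_apply]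

end Cfsg.Agent.GolayStab
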