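import Mathlib
import Cfsg.Agent.Lib.GolayM24
import Cfsg.Agent.Lib.GolayStab
import Cfsg.Agent.Lib.GolayNormalizer
import Cfsg.Agent.Lib.GolaySimpleGen

/-!
Simplicity of the five Mathieu groups.
-/

set_option autoImplicit false

namespace Cfsg.Agent.GolaySimple

open Cfsg Cfsg.Agent.GolayBasic Cfsg.Agent.GolayPerm Cfsg.Agent.GolayM24
open Cfsg.Agent.GolayData Cfsg.Agent.GolayNormalizer Cfsg.Agent.GolaySimpleGen
open scoped Pointwise

/-- powers of `t ↦ 2t` -/
def zs11 : List ℕ :=
  [984818244535754528103549039458486304, 983435072843990828779021698901151808,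
   980668730378935070469623699575545984, 975166140090675008210365318152896768,
   965063883269089610517257152230401536, 973782968399780250007192978068752672,
   962298451038133363011374430748423744, 969184212989482915311201746032266656,
   982051901153124072706648311500937312, 977903326592794432676351619257413824,
   970567384681219435340729552166356352]

/-- powers of `t ↦ t + 1` -/
def zs23 : List ℕ :=
  [984818244535754528103549039458486304, 956302485175575353788796878166559809,
   956709441910203461498593497208492130, 958020233522794296771657265635857539,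
   959359269975321467281073132481517732, 960699189079096648266625002402749637,
   962039135765723329579556122420093158, 963379083314314120277717844002940167,
   964719030889841289394168021884709160, 966058978466210220336189714025819465,
   967398926042605456335260515987534186, 968738873619001514367364102631142795,
   970078821195397598087999963796060588, 971418768771793682611402458539769293,
   972758716348189767159891410582815214, 974098663924585851709164314416465423,
   975438611500981936258461716743572016, 976778559077378020807759884648599121,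
   978118506653774105357058076477936242, 979458454230170189906356269054908051,
   980798401806566274455654461655243444, 982138349382962359004952654256308949,
   983478296959358443554250846857397270]

/-- cycle positions for `t ↦ 2t` -/
def loc11 : List (ℕ × ℕ) :=
  [(2, 0), (0, 0), (0, 1), (0, 8), (0, 2), (1, 0), (0, 9), (1, 9), (0, 3), (0, 5), (1, 1), (1, 4),
   (0, 10), (0, 7), (1, 10), (1, 8), (0, 4), (1, 3), (0, 6), (1, 7), (1, 2), (1, 6), (1, 5), (2, 23)]

/-- cycle positions for `t ↦ t + 1` -/
def loc23 : List (ℕ × ℕ) :=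
  [(0, 0), (0, 1), (0, 2), (0, 3), (0, 4), (0, 5), (0, 6), (0, 7), (0, 8), (0, 9), (0, 10), (0, 11),
   (0, 12), (0, 13), (0, 14), (0, 15), (0, 16), (0, 17), (0, 18), (0, 19), (0, 20), (0, 21), (0, 22),
   (2, 23)]

/-- `t ↦ 2t` -/
def z11 : ℕ := 983435072843990828779021698901151808

/-- `t ↦ t + 1` -/
def z23 : ℕ := 956302485175575353788796878166559809

/-- all points other than the two fixed points of `z11` -/
def moved11 : List ℕ := pts.filter fun i => i != 0 && i != 23

theorem table11 : tableCheck zs11 loc11 11 1 5 z11 = true := by decide +kernel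

theorem table23 : tableCheck zs23 loc23 23 0 0 z23 = true := by decide +kernel

theorem accepted11 :
    (accepted zs11 loc11 11 (allCand (List.range 11) [1, 5] moved11)).length ≤ 5 := by
  decide +kernel

theorem accepted23 :
    (accepted zs23 loc23 23 (allCand (List.range 23) [0] [23])).length ≤ 11 := by
  decide +kernel

theorem table23' : tableCheck zs23 loc23 23 0 23 z23 = true := by decide +kernel

/-- A Sylow subgroup of prime order inside a group, and the size of its normaliser. -/
theorem card_normalizer_eq {H : Subgroup (Equiv.Perm GolayPt)} {zs : List ℕ} {loc : List (ℕ × ℕ)}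
    {p a b z m q B : ℕ} (hp : p.Prime) (hmv : pimg z a ≠ a) (ha : a < 24)
    (hc : tableCheck zs loc p a b z = true) (hzH : permOf z ∈ H) (hH : Nat.card H = p * m)
    (hm : ¬ p ∣ m)
    (hbound : ∀ S : Subgroup (Equiv.Perm GolayPt), S ≤ H →
      permOf z ∈ S → (∀ g ∈ S, g * permOf z * g⁻¹ ∈ cyc z) → Nat.card S ≤ p * B)
    (hB : ∀ k ∈ List.range (B + 1), k * (m / k) = m → (m / k) % p = 1 → k = q) :
    Nat.card ((cyc z).subgroupOf H) = p ∧
      Nat.card (Subgroup.normalizer (((cyc z).subgroupOf H : Subgroup H) : Set H)) = p * q := by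
  have : Fact p.Prime := ⟨hp⟩
  have hzle : cyc z ≤ H := Subgroup.zpowers_le.2 hzH
  have hcard : Nat.card ((cyc z).subgroupOf H) = p := by
    rw [Nat.card_congr (Subgroup.subgroupOfEquivOfLe hzle).toEquiv, cyc, Nat.card_zpowers,
      orderOf_eq hp hc hmv ha]
  refine ⟨hcard, ?_⟩
  set P := (cyc z).subgroupOf H with hP
  set NP := Subgroup.normalizer ((P : Subgroup H) : Set H) with hNP
  have hle : Nat.card NP ≤ p * B := by
    rw [Nat.card_congr (Subgroup.equivMapOfInjective NP _ H.subtype_injective).toEquiv]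
    refine hbound _ (Subgroup.map_subtype_le _)
      ⟨⟨permOf z, hzH⟩, Subgroup.le_normalizer (show (⟨permOf z, hzH⟩ : H) ∈ P from
        Subgroup.mem_zpowers _), rfl⟩ ?_
    rintro g ⟨x, hx, rfl⟩
    have hx' : x ∈ Subgroup.normalizer ((P : Subgroup H) : Set H) := hx
    rw [Subgroup.mem_normalizer_iff] at hx'
    exact (hx' ⟨permOf z, hzH⟩).1 (Subgroup.mem_zpowers _)
  have hpN : p ∣ Nat.card NP := hcard ▸ Subgroup.card_dvd_of_le Subgroup.le_normalizer
  obtain ⟨k, hk⟩ := hpN
  have hkm : k ∣ m := by
    have := Subgroup.card_subgroup_dvd_card NP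
    rw [hk, hH] at this
    exact (Nat.mul_dvd_mul_iff_left hp.pos).1 this
  have hk0 : 0 < k := Nat.pos_of_ne_zero fun h => by
    have h0 : 0 < Nat.card NP := Nat.card_pos
    rw [hk, h, mul_zero] at h0
    exact lt_irrefl 0 h0
  have hidx : NP.index = m / k := by
    have := Subgroup.card_mul_index NP
    rw [hk, hH, mul_assoc] at this
    rw [← Nat.eq_of_mul_eq_mul_left hp.pos this, Nat.mul_div_cancel_left _ hk0]
  have hPsyl : Nat.card P = p ^ (Nat.card H).factorization p := by
    rw [hcard, hH, eq_of_factorization hp hm]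
  let S : Sylow p H := Sylow.ofCard P hPsyl
  have hS : (S : Subgroup H) = P := Sylow.coe_ofCard P hPsyl
  have hmod := card_sylow_modEq_one p H
  rw [Sylow.card_eq_index_normalizer S, show Subgroup.normalizer (S : Set H) = NP by
    rw [hNP, ← hS]; rfl, hidx] at hmod
  have hk' := hB k (List.mem_range.2 (by
    rw [hk] at hle
    exact Nat.lt_succ_of_le (Nat.le_of_mul_le_mul_left hle hp.pos))) (Nat.mul_div_cancel' hkm)
    (by rw [hmod, Nat.mod_eq_of_lt hp.one_lt])
  rw [hk, hk']

theorem idx_eq_of_apply {g : Equiv.Perm GolayPt} {i : ℕ} (hi : i < 24) (h : g (pt i) = pt i) :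
    idx (g (pt i)) = i := by rw [h, idx_pt hi]

/-- a group fixing the two points `0` and `23` normalises `z11` in at most 55 elements -/
theorem bound11 {S : Subgroup (Equiv.Perm GolayPt)} (hS : S ≤ M24)
    (h0 : ∀ g ∈ S, g (pt 0) = pt 0) (h23 : ∀ g ∈ S, g (pt 23) = pt 23)
    (hzS : permOf z11 ∈ S) (hnorm : ∀ g ∈ S, g * permOf z11 * g⁻¹ ∈ cyc z11) :
    Nat.card S ≤ 11 * 5 := by
  have hmoved : ∀ g ∈ S, ∀ i, i < 24 → i ≠ 0 → i ≠ 23 → idx (g (pt i)) ∈ moved11 := by
    intro g hg i hi hi0 hi23
    have key : ∀ j, j < 24 → i ≠ j → g (pt j) = pt j → idx (g (pt i)) ≠ j := by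
      intro j hj hij hfix e
      have : g (pt i) = g (pt j) := by rw [hfix, ← e, pt_idx]
      exact hij (by rw [← idx_pt hi, g.injective this, idx_pt hj])
    simp only [moved11, List.mem_filter, mem_pts, idx_lt, true_and, Bool.and_eq_true, bne_iff_ne]
    exact ⟨key 0 (by norm_num) hi0 (h0 g hg), key 23 (by norm_num) hi23 (h23 g hg)⟩
  have hreps : ∀ i ∈ moved11, ∃ e < 11, pimg (zs11.getD e 0) i ∈ [1, 5] := by decide +kernel
  refine card_normalizer_le (by norm_num) (by norm_num) (by norm_num) table11 [1, 5] moved11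
    accepted11 S hS hzS ?_ (fun g hg => by
      obtain ⟨e, he, h⟩ := hreps _ (hmoved g hg 1 (by norm_num) (by norm_num) (by norm_num))
      exact ⟨e, he, by rw [Equiv.Perm.mul_apply, idx_pow table11 _ e he]; exact h⟩)
    (fun g hg => hmoved g hg 5 (by norm_num) (by norm_num) (by norm_num)) hnorm
  intro g hg i hi hloc
  have : i = 0 ∨ i = 23 := (by decide +kernel :
    ∀ i < 24, (loc11.getD i (2, 0)).1 = 2 → i = 0 ∨ i = 23) i hi hloc
  rcases this with rfl | rfl
  · exact idx_eq_of_apply hi (h0 g hg)
  · exact idx_eq_of_apply hi (h23 g hg)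

theorem z11_good : good z11 = true ∧ pimg z11 0 = 0 ∧ pimg z11 23 = 23 ∧
    pmask z11 340831 = 340831 := by decide +kernel

theorem z23_good : good z23 = true ∧ pimg z23 23 = 23 := by decide +kernel

theorem fix23 {S : Subgroup (Equiv.Perm GolayPt)} (h0 : ∀ g ∈ S, g (pt 0) = pt 0)
    (hnorm : ∀ g ∈ S, g * permOf z11 * g⁻¹ ∈ cyc z11) {g : Equiv.Perm GolayPt} (hg : g ∈ S) :
    g (pt 23) = pt 23 := by
  have hv := valid_of_good z11_good.1
  have hz : permOf z11 (pt 23) = pt 23 := by
    rw [permOf_apply hv, pfun, idx_pt (by norm_num), z11_good.2.2.1]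
  obtain ⟨n, hn⟩ := Subgroup.mem_zpowers_iff.1 (hnorm g⁻¹ (inv_mem hg))
  have hfix : (permOf z11 ^ n) (pt 23) = pt 23 :=
    (MulAction.stabilizer (Equiv.Perm GolayPt) (pt 23)).zpow_mem hz n
  rw [hn, inv_inv, Equiv.Perm.mul_apply, Equiv.Perm.mul_apply, Equiv.Perm.inv_eq_iff_eq] at hfix
  have hcases : ∀ q : GolayPt, pfun z11 q = q → q = pt 0 ∨ q = pt 23 := by decide +kernel
  rw [permOf_apply hv] at hfix
  rcases hcases _ hfix with e | e
  · rw [← h0 g hg] at e
    exact absurd (g.injective e) (by decide +kernel)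
  · exact e

theorem permOf_fix {P i : ℕ} (hv : valid P = true) (hi : i < 24) (h : pimg P i = i) :
    permOf P (pt i) = pt i := by rw [permOf_apply hv, pfun, idx_pt hi, h]

theorem z11_mem_M22 : permOf z11 ∈ Spor.M22 := by
  have hv := valid_of_good z11_good.1
  rw [M22_eq, mem_fixList]
  refine ⟨permOf_mem_M24 z11_good.1, fun b hb => ?_⟩
  rcases List.mem_cons.1 hb with rfl | hb
  · exact permOf_fix hv (by norm_num) z11_good.2.2.1
  · rw [List.mem_singleton.1 hb]; exact permOf_fix hv (by norm_num) z11_good.2.1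

theorem z11_mem_M11 : permOf z11 ∈ Spor.M11 := by
  have hv := valid_of_good z11_good.1
  rw [M11_eq, mem_fixList]
  refine ⟨mem_M12.2 ⟨permOf_mem_M24 z11_good.1, by rw [smul_mset hv, z11_good.2.2.2]⟩, fun b hb => ?_⟩
  rw [List.mem_singleton.1 hb]
  exact permOf_fix hv (by norm_num) z11_good.2.1

/-- two-transitivity from transversals -/
theorem tr2_of {H : Subgroup (Equiv.Perm GolayPt)} {a b : GolayPt} {O : Finset GolayPt}
    (hab : ∀ y ∈ O, ∃ g ∈ H, g a = a ∧ g b = y) {x y : GolayPt} (hx : x ∈ O) (hy : y ∈ O) :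
    ∃ g ∈ H, g a = a ∧ g x = y := by
  obtain ⟨g1, hg1, h1a, h1b⟩ := hab x hx
  obtain ⟨g2, hg2, h2a, h2b⟩ := hab y hy
  refine ⟨g2 * g1⁻¹, mul_mem hg2 (inv_mem hg1), ?_, ?_⟩
  · rw [Equiv.Perm.mul_apply, Equiv.Perm.inv_eq_iff_eq.2 h1a.symm, h2a]
  · rw [Equiv.Perm.mul_apply, Equiv.Perm.inv_eq_iff_eq.2 h1b.symm, h2b]

/-! ### M11 -/

theorem M11_Ω (g : Equiv.Perm GolayPt) (hg : g ∈ Spor.M11) (y : GolayPt)
    (hy : y ∈ mset 340830) : g y ∈ mset 340830 := by
  rw [M11_eq, mem_fixList] at hg
  obtain ⟨hg12, hg0⟩ := hg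
  have hiff : ∀ q : GolayPt, q ∈ mset 340830 ↔ q ∈ mset 340831 ∧ q ≠ pt 0 := by decide +kernel
  rw [hiff] at hy ⊢
  refine ⟨?_, fun e => hy.2 (g.injective (e.trans (hg0 0 (by simp)).symm))⟩
  rw [← (mem_M12.1 hg12).2]
  exact Finset.smul_mem_smul_finset hy.1

theorem M12_faithful {g : Equiv.Perm GolayPt} (hg : g ∈ Spor.M12)
    (h : ∀ y ∈ mset 340831, g y = y) : g = 1 := by
  have : g ∈ fixList Spor.M12 [0, 1, 2, 3, 4] := mem_fixList.2 ⟨hg, fun b hb =>
    h _ ((by decide +kernel : ∀ b ∈ [0, 1, 2, 3, 4], pt b ∈ mset 340831) b hb)⟩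
  rwa [fixList_M12_eq_bot, Subgroup.mem_bot] at this

theorem M11_faithful {g : Equiv.Perm GolayPt} (hg : g ∈ Spor.M11)
    (h : ∀ y ∈ mset 340830, g y = y) : g = 1 := by
  rw [M11_eq, mem_fixList] at hg
  refine M12_faithful hg.1 fun y hy => ?_
  have hiff : ∀ q : GolayPt, q ∈ mset 340831 → q = pt 0 ∨ q ∈ mset 340830 := by decide +kernel
  rcases hiff y hy with rfl | h'
  · exact hg.2 0 (by simp)
  · exact h y h'

theorem M11_tr {y : GolayPt} (hy : y ∈ mset 340830) : ∃ g ∈ Spor.M11, g (pt 1) = y := by
  rw [M11_eq]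
  exact exists_of_tcheck (keep := 340831) (fix := [0]) (b := 1) (O := 340830)
    (ts := tr12_1) (by norm_num) (by simp) (by decide +kernel) (H := Spor.M12)
    (fun g hg hk => mem_M12.2 ⟨hg, hk⟩) y hy

theorem M11_tr2 {y : GolayPt} (hy : y ∈ mset 340828) :
    ∃ g ∈ Spor.M11, g (pt 1) = pt 1 ∧ g (pt 2) = y := by
  obtain ⟨g, hg, h⟩ := exists_of_tcheck (keep := 340831) (fix := [0, 1]) (b := 2) (O := 340828)
    (ts := tr12_2) (by norm_num) (by simp) (by decide +kernel) (H := Spor.M12)
    (fun g hg hk => mem_M12.2 ⟨hg, hk⟩) y hy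
  obtain ⟨hgm, hf⟩ := mem_fixList.1 hg
  exact ⟨g, by rw [M11_eq, mem_fixList]; exact ⟨hgm, fun b hb => hf b (by simp [List.mem_singleton.1 hb])⟩,
    hf 1 (by simp), h⟩

theorem isSimpleGroup_M11 : IsSimpleGroup Spor.M11 := by
  obtain ⟨hP, hNP⟩ := card_normalizer_eq (H := Spor.M11) (p := 11) (m := 720) (q := 5) (B := 5)
    (by norm_num) (by decide +kernel) (by norm_num) table11 z11_mem_M11 (by rw [card_M11])
    (by norm_num) (fun S hS hz hn => by
      have h0 : ∀ g ∈ S, g (pt 0) = pt 0 := fun g hg => by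
        have := hS hg
        rw [M11_eq, mem_fixList] at this
        exact this.2 0 (by simp)
      exact bound11 (fun g hg => ((hS hg).1).1) h0 (fun g hg => fix23 h0 hn hg) hz hn)
    (by decide)
  exact isSimpleGroup_of_normalizer (p := 11) (q := 5) (m := 720) (by norm_num) (by norm_num)
    (by norm_num) (by rw [card_M11]) (by norm_num) (by norm_num) _ hP hNP fun N hN hne => by
      have := ncard_dvd_card_normal (H := Spor.M11) (Ω := (mset 340830 : Set GolayPt)) M11_Ω
        (fun g hg h => M11_faithful hg h) (a := pt 1) (by decide +kernel)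
        (fun y hy => M11_tr hy) (fun x hx y hy hxa hya => by
          have hiff : ∀ q : GolayPt, q ∈ mset 340830 → q ≠ pt 1 → q ∈ mset 340828 := by
            decide +kernel
          exact tr2_of (fun y hy => M11_tr2 hy) (hiff x hx hxa) (hiff y hy hya)) hN hne
      rwa [Set.ncard_coe_finset, card_mset, show wt 340830 = 11 by decide +kernel] at this

/-! ### M22 -/

theorem isSimpleGroup_M22 : IsSimpleGroup Spor.M22 := by
  have hfixS : ∀ g ∈ Spor.M22, g ∈ M24 ∧ g (pt 23) = pt 23 ∧ g (pt 0) = pt 0 := fun g hg => by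
    rw [M22_eq, mem_fixList] at hg
    exact ⟨hg.1, hg.2 23 (by simp), hg.2 0 (by simp)⟩
  obtain ⟨hP, hNP⟩ := card_normalizer_eq (H := Spor.M22) (p := 11) (m := 40320) (q := 5) (B := 5)
    (by norm_num) (by decide +kernel) (by norm_num) table11 z11_mem_M22 (by rw [card_M22])
    (by norm_num) (fun S hS hz hn => bound11 (fun g hg => (hfixS g (hS hg)).1)
      (fun g hg => (hfixS g (hS hg)).2.2) (fun g hg => (hfixS g (hS hg)).2.1) hz hn)
    (by decide)
  exact isSimpleGroup_of_normalizer (p := 11) (q := 5) (m := 40320) (by norm_num) (by norm_num)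
    (by norm_num) (by rw [card_M22]) (by norm_num) (by norm_num) _ hP hNP fun N hN hne => by
      have hΩ : ∀ q : GolayPt, q ∈ mset 8388606 ↔ q ≠ pt 23 ∧ q ≠ pt 0 := by decide +kernel
      have := ncard_dvd_card_normal (H := Spor.M22) (Ω := (mset 8388606 : Set GolayPt))
        (fun g hg y hy => by
          obtain ⟨-, h23, h0⟩ := hfixS g hg
          rw [Finset.mem_coe, hΩ] at hy ⊢
          exact ⟨fun e => hy.1 (g.injective (e.trans h23.symm)),
            fun e => hy.2 (g.injective (e.trans h0.symm))⟩)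
        (fun g hg h => by
          obtain ⟨-, h23, h0⟩ := hfixS g hg
          ext y : 1
          by_cases e1 : y = pt 23
          · rw [e1]; simpa using h23
          by_cases e2 : y = pt 0
          · rw [e2]; simpa using h0
          exact h y ((hΩ y).2 ⟨e1, e2⟩))
        (a := pt 12) (by decide +kernel)
        (fun y hy => by
          rw [M22_eq]
          exact exists_of_tcheck (keep := 16777215) (fix := [23, 0]) (b := 12) (O := 8388606)
            (ts := tr24_2) (by norm_num) (by simp) (by decide +kernel) (H := M24)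
            (fun g hg _ => hg) y hy)
        (fun x hx y hy hxa hya => by
          have hiff : ∀ q : GolayPt, q ∈ mset 8388606 → q ≠ pt 12 → q ∈ mset 8384510 := by
            decide +kernel
          refine tr2_of (b := pt 14) (O := mset 8384510) (fun y hy => ?_) (hiff x hx hxa)
            (hiff y hy hya)
          obtain ⟨g, hg, h⟩ := exists_of_tcheck (keep := 16777215) (fix := [23, 0, 12]) (b := 14)
            (O := 8384510) (ts := tr24_3) (by norm_num) (by simp) (by decide +kernel) (H := M24)
            (fun g hg _ => hg) y hy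
          obtain ⟨hgm, hf⟩ := mem_fixList.1 hg
          refine ⟨g, ?_, hf 12 (by simp), h⟩
          rw [M22_eq, mem_fixList]
          exact ⟨hgm, fun b hb => hf b (List.mem_append_left [12] hb)⟩) hN hne
      rw [Set.ncard_coe_finset, card_mset, show wt 8388606 = 22 by decide +kernel] at this
      exact dvd_trans (by norm_num) this

/-! ### M23 -/

theorem z23_mem_M23 : permOf z23 ∈ Spor.M23 := by
  rw [M23_eq, mem_fixList]
  refine ⟨permOf_mem_M24 z23_good.1, fun b hb => ?_⟩
  rw [List.mem_singleton.1 hb]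
  exact permOf_fix (valid_of_good z23_good.1) (by norm_num) z23_good.2

theorem M23_invariant (g : Equiv.Perm GolayPt) (hg : g ∈ Spor.M23) (y : GolayPt)
    (hy : y ∈ mset 8388607) : g y ∈ mset 8388607 := by
  rw [M23_eq, mem_fixList] at hg
  have hΩ : ∀ q : GolayPt, q ∈ mset 8388607 ↔ q ≠ pt 23 := by decide +kernel
  rw [hΩ] at hy ⊢
  exact fun e => hy (g.injective (e.trans (hg.2 23 (by simp)).symm))

theorem M23_faithful (g : Equiv.Perm GolayPt) (hg : g ∈ Spor.M23)
    (h : ∀ y ∈ mset 8388607, g y = y) : g = 1 := by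
  rw [M23_eq, mem_fixList] at hg
  have hΩ : ∀ q : GolayPt, q = pt 23 ∨ q ∈ mset 8388607 := by decide +kernel
  ext y : 1
  rcases hΩ y with rfl | h'
  · simpa using hg.2 23 (by simp)
  · exact h y h'

theorem isSimpleGroup_M23 : IsSimpleGroup Spor.M23 := by
  have hfixS : ∀ g ∈ Spor.M23, g ∈ M24 ∧ g (pt 23) = pt 23 := fun g hg => by
    rw [M23_eq, mem_fixList] at hg
    exact ⟨hg.1, hg.2 23 (by simp)⟩
  obtain ⟨hP, hNP⟩ := card_normalizer_eq (H := Spor.M23) (p := 23) (m := 443520) (q := 11) (B := 11)
    (by norm_num) (by decide +kernel) (by norm_num) table23' z23_mem_M23 (by rw [card_M23])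
    (by norm_num) (fun S hS hz hn => by
      have hreps : ∀ i < 23, ∃ e < 23, pimg (zs23.getD e 0) i ∈ [0] := by decide +kernel
      refine card_normalizer_le (by norm_num) (by norm_num) (by norm_num) table23' [0] [23]
        accepted23 S (fun g hg => (hfixS g (hS hg)).1) hz ?_ (fun g hg => ?_) (fun g hg => ?_) hn
      · intro g hg i hi hloc
        have : i = 23 := (by decide +kernel :
          ∀ i < 24, (loc23.getD i (2, 0)).1 = 2 → i = 23) i hi hloc
        subst this
        exact idx_eq_of_apply hi (hfixS g (hS hg)).2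
      · have hlt : idx (g (pt 0)) < 23 := by
          have := M23_invariant g (hS hg) (pt 0) (by decide +kernel)
          exact (by decide +kernel : ∀ q : GolayPt, q ∈ mset 8388607 → idx q < 23) _ this
        obtain ⟨e, he, h⟩ := hreps _ hlt
        exact ⟨e, he, by rw [Equiv.Perm.mul_apply, idx_pow table23' _ e he]; exact h⟩
      · rw [(hfixS g (hS hg)).2, idx_pt (by norm_num)]
        simp)
    (by decide)
  exact isSimpleGroup_of_normalizer (p := 23) (q := 11) (m := 443520) (by norm_num) (by norm_num)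
    (by norm_num) (by rw [card_M23]) (by norm_num) (by norm_num) _ hP hNP fun N hN hne => by
      have := ncard_dvd_card_normal (H := Spor.M23) (Ω := (mset 8388607 : Set GolayPt))
        M23_invariant M23_faithful (a := pt 0) (by decide +kernel)
        (fun y hy => by
          rw [M23_eq]
          exact exists_of_tcheck (keep := 16777215) (fix := [23]) (b := 0) (O := 8388607)
            (ts := tr24_1) (by norm_num) (by simp) (by decide +kernel) (H := M24)
            (fun g hg _ => hg) y hy)
        (fun x hx y hy hxa hya => by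
          have hiff : ∀ q : GolayPt, q ∈ mset 8388607 → q ≠ pt 0 → q ∈ mset 8388606 := by
            decide +kernel
          refine tr2_of (b := pt 12) (O := mset 8388606) (fun y hy => ?_) (hiff x hx hxa)
            (hiff y hy hya)
          obtain ⟨g, hg, h⟩ := exists_of_tcheck (keep := 16777215) (fix := [23, 0]) (b := 12)
            (O := 8388606) (ts := tr24_2) (by norm_num) (by simp) (by decide +kernel) (H := M24)
            (fun g hg _ => hg) y hy
          obtain ⟨hgm, hf⟩ := mem_fixList.1 hg
          refine ⟨g, ?_, hf 0 (by simp), h⟩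
          rw [M23_eq, mem_fixList]
          exact ⟨hgm, fun b hb => hf b (List.mem_append_left [0] hb)⟩) hN hne
      rwa [Set.ncard_coe_finset, card_mset, show wt 8388607 = 23 by decide +kernel] at this

/-! ### M12 and M24 -/

theorem isSimpleGroup_M12 : IsSimpleGroup Spor.M12 := by
  refine isSimpleGroup_of_stabilizer (H := Spor.M12) (Ω := (mset 340831 : Set GolayPt))
    (fun g hg y hy => ?_) (fun g hg h => M12_faithful hg h) (a := pt 0) (by decide +kernel)
    (fun y hy => GolayStab.exists_M12_map_point (by rwa [squareDodecad_eq]))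
    (fun x hx y hy hxa hya => ?_) (r := 2) (s := 3) (by norm_num) (by norm_num) (by norm_num)
    ?_ ?_ ?_
  · rw [Finset.mem_coe, ← (mem_M12.1 hg).2]; exact Finset.smul_mem_smul_finset hy
  · have hiff : ∀ q : GolayPt, q ∈ mset 340831 → q ≠ pt 0 → q ∈ mset 340830 := by decide +kernel
    refine tr2_of (b := pt 1) (O := mset 340830) (fun y hy => ?_) (hiff x hx hxa) (hiff y hy hya)
    obtain ⟨g, hg, h⟩ := M11_tr hy
    rw [M11_eq, mem_fixList] at hg
    exact ⟨g, hg.1, hg.2 0 (by simp), h⟩
  · rw [Set.ncard_coe_finset, card_mset, show wt 340831 = 12 by decide +kernel]; norm_num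
  · rw [Set.ncard_coe_finset, card_mset, show wt 340831 = 12 by decide +kernel]; norm_num
  · have h := isSimpleGroup_M11
    rwa [M11_eq] at h

theorem isSimpleGroup_M24 : IsSimpleGroup M24 := by
  refine isSimpleGroup_of_stabilizer (H := M24) (Ω := (Set.univ : Set GolayPt))
    (fun g _ y _ => Set.mem_univ _) (fun g _ h => Equiv.ext fun y => h y (Set.mem_univ _))
    (a := pt 23) (Set.mem_univ _) (fun y _ => ?_) (fun x _ y _ hxa hya => ?_) (r := 2) (s := 3)
    (by norm_num) (by norm_num) (by norm_num) ?_ ?_ ?_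
  · obtain ⟨g, hg, h⟩ := GolayStab.exists_map_one y
    exact ⟨g, hg, by rw [pt_none]; exact h⟩
  · have hiff : ∀ q : GolayPt, q ≠ pt 23 → q ∈ mset 8388607 := by decide +kernel
    refine tr2_of (b := pt 0) (O := mset 8388607) (fun y hy => ?_) (hiff x hxa) (hiff y hya)
    obtain ⟨g, hg, h⟩ := exists_of_tcheck (keep := 16777215) (fix := [23]) (b := 0) (O := 8388607)
      (ts := tr24_1) (by norm_num) (by simp) (by decide +kernel) (H := M24)
      (fun g hg _ => hg) y hy
    exact ⟨g, (mem_fixList.1 hg).1, (mem_fixList.1 hg).2 23 (by simp), h⟩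
  · simp
  · simp
  · have h := isSimpleGroup_M23
    rwa [M23_eq] at h

end Cfsg.Agent.GolaySimple
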