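import Mathlib
import Cfsg.Agent.Lib.GolayM24

/-!
Exhaustive lists of the members of a subgroup of the permutations of the 24 points, together with
a table of values of a homomorphism.
-/

set_option autoImplicit false

namespace Cfsg.Agent.GolayEnumComp

open Cfsg Cfsg.Agent.GolayBasic Cfsg.Agent.GolayPerm
open scoped Pointwise

/-! ### composing encoded permutations -/

/-- five binary digits per entry -/
def horner : List ℕ → ℕ
  | [] => 0
  | a :: l => a + 32 * horner l

theorem horner_shift : ∀ (l : List ℕ) (i : ℕ), (∀ a ∈ l, a < 32) →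
    (horner l >>> (5 * i)) &&& 31 = l.getD i 0
  | [], i, _ => by simp [horner]
  | a :: l, 0, h => by
    have : a < 32 := h a List.mem_cons_self
    rw [horner, Nat.mul_zero, Nat.shiftRight_zero, show (31 : ℕ) = 2 ^ 5 - 1 by norm_num,
      Nat.and_two_pow_sub_one_eq_mod]
    simp; omega
  | a :: l, i + 1, h => by
    have : a < 32 := h a List.mem_cons_self
    have e : horner (a :: l) >>> (5 * (i + 1)) = horner l >>> (5 * i) := by
      have h5 : horner (a :: l) >>> 5 = horner l := by
        rw [horner, Nat.shiftRight_eq_div_pow]; omega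
      rw [show 5 * (i + 1) = 5 + 5 * i by ring, Nat.shiftRight_add, h5]
    rw [e, horner_shift l i fun b hb => h b (List.mem_cons_of_mem _ hb)]
    simp

/-- the composite of two encoded permutations -/
def pcomp (P Q : ℕ) : ℕ := horner (pts.map fun i => pimg P (pimg Q i))

/-- the identity, encoded -/
def idP : ℕ := horner pts

theorem pimg_lt_32 (P i : ℕ) : pimg P i < 32 := by
  rw [pimg, show (31 : ℕ) = 2 ^ 5 - 1 by norm_num, Nat.and_two_pow_sub_one_eq_mod]
  omega

theorem pimg_horner {f : ℕ → ℕ} (hf : ∀ i, f i < 32) {i : ℕ} (hi : i < 24) :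
    pimg (horner (pts.map f)) i = f i := by
  rw [pimg, horner_shift _ _ (by simp only [List.mem_map]; rintro a ⟨j, -, rfl⟩; exact hf j),
    show pts = List.range 24 from rfl, List.getD_eq_getElem _ _ (by simpa using hi)]
  simp

theorem pimg_pcomp (P Q : ℕ) {i : ℕ} (hi : i < 24) : pimg (pcomp P Q) i = pimg P (pimg Q i) :=
  pimg_horner (fun _ => pimg_lt_32 _ _) hi

theorem pimg_idP {i : ℕ} (hi : i < 24) : pimg idP i = i := by
  revert i; decide +kernel

theorem permOf_pcomp {P Q R : ℕ} (hP : valid P = true) (hQ : valid Q = true) (hR : valid R = true)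
    (h : R = pcomp P Q) : permOf R = permOf P * permOf Q := by
  ext1 p
  rw [Equiv.Perm.mul_apply, permOf_apply hR, permOf_apply hQ, permOf_apply hP, pfun, pfun, pfun,
    idx_pt (pimg_lt hQ (idx_lt p)), h, pimg_pcomp _ _ (idx_lt p)]

theorem permOf_idP : permOf idP = 1 := by
  have hv : valid idP = true := by decide +kernel
  ext1 p
  rw [permOf_apply hv, pfun, pimg_idP (idx_lt p), pt_idx]
  rfl

theorem eq_of_permOf_eq {P Q : ℕ} (hP : valid P = true) (hQ : valid Q = true)
    (cP : pcomp P idP = P) (cQ : pcomp Q idP = Q) (h : permOf P = permOf Q) : P = Q := by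
  refine cP.symm.trans ((congrArg horner (List.map_congr_left fun i hi => ?_)).trans cQ)
  rw [pimg_idP (mem_pts.1 hi)]
  have e := DFunLike.congr_fun h (pt i)
  rw [permOf_apply hP, permOf_apply hQ, pfun, pfun, idx_pt (mem_pts.1 hi)] at e
  have := congrArg idx e
  rwa [idx_pt (pimg_lt hP (mem_pts.1 hi)), idx_pt (pimg_lt hQ (mem_pts.1 hi))] at this

attribute [local irreducible] idP pcomp permOf

/-! ### the certificate -/

variable {β : Type*} [DecidableEq β]

/-- entry number `n` of a list in chunks of 24 -/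
def getC (C : List (List (ℕ × β))) (n : ℕ) : Option (ℕ × β) := (C[n / 24]?).bind (·[n % 24]?)

/-- product with a generator on the left -/
def step (op : β → β → β) (g x : ℕ × β) : ℕ × β := (pcomp g.1 x.1, op g.2 x.2)

/-- all entries of the list -/
def elts (C : List (List (ℕ × β))) (N : ℕ) : List (ℕ × β) := (List.range N).filterMap (getC C)

/-- strictly increasing, starting from a bound -/
def incrFrom : ℕ → List ℕ → Bool
  | _, [] => true
  | b, a :: l => decide (b ≤ a) && incrFrom (a + 1) l

theorem incrFrom_spec : ∀ (l : List ℕ) (b : ℕ), incrFrom b l = true → l.Nodup ∧ ∀ a ∈ l, b ≤ a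
  | [], _, _ => by simp
  | a :: l, b, h => by
    simp only [incrFrom, Bool.and_eq_true, decide_eq_true_eq] at h
    obtain ⟨h1, h2⟩ := incrFrom_spec l (a + 1) h.2
    refine ⟨List.nodup_cons.2 ⟨fun hm => ?_, h1⟩, fun c hc => ?_⟩
    · have := h2 a hm; omega
    · rcases List.mem_cons.1 hc with rfl | hc
      · exact h.1
      · have := h2 c hc; omega

/-- every entry is a valid canonical code, obtained from an earlier one by a generator -/
def treeCheck (op : β → β → β) (e : β) (gens : List (ℕ × β)) (C : List (List (ℕ × β))) (N : ℕ)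
    (par : List (ℕ × ℕ)) : Bool :=
  decide (0 < N) && gens.all (fun g => valid g.1) && par.length == N &&
    ((List.range N).zip par).all fun ⟨n, j, p⟩ =>
      match getC C n with
      | none => false
      | some x => valid x.1 && pcomp x.1 idP == x.1 &&
          (if n = 0 then decide (x = (idP, e)) else
            decide (p < n) &&
              match gens[j]?, getC C p with
              | some g, some y => decide (step op g y = x)
              | _, _ => false)

/-- products with generators stay in the list -/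
def closeTable (op : β → β → β) (gens : List (ℕ × β)) (C : List (List (ℕ × β))) (N : ℕ)
    (nxt : List (List ℕ)) : Bool :=
  nxt.length == N &&
    ((List.range N).zip nxt).all fun ⟨n, ks⟩ =>
      ks.length == gens.length &&
        match getC C n with
        | none => false
        | some x => (gens.zip ks).all fun ⟨g, k⟩ => decide (k < N) &&
            decide (getC C k = some (step op g x))

/-- the codes are pairwise distinct, shown by a sorting -/
def distinctCheck (C : List (List (ℕ × β))) (N : ℕ) (σ : List ℕ) : Bool :=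
  σ.length == N && σ.all (fun i => decide (i < N)) &&
    incrFrom 0 (σ.map fun i => ((getC C i).map Prod.fst).getD 0)

/-- The certificate. -/
structure Cert (op : β → β → β) (e : β) (gens : List (ℕ × β)) (C : List (List (ℕ × β)))
    (N : ℕ) : Prop where
  tree : ∃ par, treeCheck op e gens C N par = true
  closed : ∃ nxt, closeTable op gens C N nxt = true
  distinct : ∃ σ, distinctCheck C N σ = true

/-- The listed members are members, pairwise distinct. -/
theorem Cert.embed {op : β → β → β} {e : β} {gens : List (ℕ × β)} {C : List (List (ℕ × β))}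
    {N : ℕ} (hc : Cert op e gens C N) {H : Subgroup (Equiv.Perm GolayPt)}
    (hg : ∀ g ∈ gens, permOf g.1 ∈ H) :
    ∃ f : Fin N → H, Function.Injective f ∧
      ∀ (n : Fin N) x, getC C n.val = some x → (f n : Equiv.Perm GolayPt) = permOf x.1 := by
  obtain ⟨par, hpar⟩ := hc.tree
  obtain ⟨σ, hσ⟩ := hc.distinct
  simp only [treeCheck, Bool.and_eq_true, beq_iff_eq, decide_eq_true_eq, List.all_eq_true] at hpar
  obtain ⟨⟨⟨hN0, hgv⟩, hplen⟩, hpall⟩ := hpar
  have hget : ∀ n < N, ∃ x, getC C n = some x ∧ valid x.1 = true ∧ pcomp x.1 idP = x.1 ∧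
      (n = 0 → x = (idP, e)) ∧
      (n ≠ 0 → ∃ g ∈ gens, ∃ p < n, ∃ y, getC C p = some y ∧ step op g y = x) := by
    intro n hn
    have hm : (n, par[n]'(hplen ▸ hn)) ∈ (List.range N).zip par := by
      rw [List.mem_iff_getElem]
      exact ⟨n, by simp [hplen, hn], by simp⟩
    have h := hpall _ hm
    generalize par[n]'(hplen ▸ hn) = jp at h
    obtain ⟨j, p⟩ := jp
    cases hx : getC C n with
    | none => simp [hx] at h
    | some x =>
      simp only [hx, Bool.and_eq_true, beq_iff_eq] at h
      refine ⟨x, rfl, h.1.1, h.1.2, fun h0 => ?_, fun h0 => ?_⟩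
      · have h2 := h.2
        rw [if_pos h0] at h2
        exact of_decide_eq_true h2
      · have h2 := h.2
        rw [if_neg h0, Bool.and_eq_true, decide_eq_true_eq] at h2
        obtain ⟨hp, h2⟩ := h2
        cases hj : gens[j]? with
        | none => simp [hj] at h2
        | some g =>
          cases hy : getC C p with
          | none => simp [hj, hy] at h2
          | some y =>
            simp only [hj, hy, decide_eq_true_eq] at h2
            exact ⟨g, List.mem_of_getElem? hj, p, hp, y, hy, h2⟩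
  have hmemH : ∀ n < N, ∀ x, getC C n = some x → permOf x.1 ∈ H := by
    intro n
    induction n using Nat.strong_induction_on with
    | _ n ih =>
      intro hn x hx
      obtain ⟨x', hx', -, -, h0, h1⟩ := hget n hn
      cases hx.symm.trans hx'
      by_cases hn0 : n = 0
      · rw [h0 hn0, permOf_idP]; exact one_mem _
      · obtain ⟨g, hgm, p, hp, y, hy, hs⟩ := h1 hn0
        obtain ⟨w, hw, hwv, -⟩ := hget p (hp.trans hn)
        cases hy.symm.trans hw
        obtain ⟨v, hv, hvv, -⟩ := hget n hn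
        cases hx.symm.trans hv
        subst hs
        rw [permOf_pcomp (hgv g hgm) hwv hvv rfl]
        exact mul_mem (hg g hgm) (ih p hp (hp.trans hn) y hy)
  simp only [distinctCheck, Bool.and_eq_true, beq_iff_eq, List.all_eq_true,
    decide_eq_true_eq] at hσ
  obtain ⟨⟨hσlen, hσlt⟩, hσinc⟩ := hσ
  set key : ℕ → ℕ := fun i => ((getC C i).map Prod.fst).getD 0 with hkey
  have hkinj : Set.InjOn key (Finset.range N : Finset ℕ) := by
    rw [← Finset.card_image_iff]
    refine le_antisymm Finset.card_image_le ?_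
    have hsub : (σ.map key).toFinset ⊆ (Finset.range N).image key := by
      intro a ha
      rw [List.mem_toFinset, List.mem_map] at ha
      obtain ⟨i, hi, rfl⟩ := ha
      exact Finset.mem_image_of_mem _ (Finset.mem_range.2 (hσlt i hi))
    have := Finset.card_le_card hsub
    rw [List.toFinset_card_of_nodup (incrFrom_spec _ _ hσinc).1, List.length_map, hσlen] at this
    rw [Finset.card_range]
    exact this
  let f : Fin N → H := fun n =>
    ⟨permOf (key n.val), by
      obtain ⟨x, hx, -⟩ := hget n.val n.isLt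
      have : key n.val = x.1 := by simp [hkey, hx]
      rw [this]; exact hmemH _ n.isLt x hx⟩
  have hfinj : Function.Injective f := by
    intro a b hab
    obtain ⟨x, hx, hxv, hxc, -⟩ := hget a.val a.isLt
    obtain ⟨y, hy, hyv, hyc, -⟩ := hget b.val b.isLt
    have ka : key a.val = x.1 := by simp [hkey, hx]
    have kb : key b.val = y.1 := by simp [hkey, hy]
    have e1 := congrArg Subtype.val hab
    simp only [f, ka, kb] at e1
    have e2 := eq_of_permOf_eq hxv hyv hxc hyc e1
    refine Fin.ext (hkinj (by simp) (by simp) ?_)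
    rw [ka, kb, e2]
  refine ⟨f, hfinj, fun n x hx => ?_⟩
  simp [f, hkey, hx]

theorem Cert.card_le {op : β → β → β} {e : β} {gens : List (ℕ × β)} {C : List (List (ℕ × β))}
    {N : ℕ} (hc : Cert op e gens C N) {H : Subgroup (Equiv.Perm GolayPt)}
    (hg : ∀ g ∈ gens, permOf g.1 ∈ H) : N ≤ Nat.card H := by
  obtain ⟨f, hf, -⟩ := hc.embed hg
  simpa using Nat.card_le_card_of_injective f hf

set_option maxRecDepth 4000 in
theorem Cert.spec {op : β → β → β} {e : β} {gens : List (ℕ × β)} {C : List (List (ℕ × β))}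
    {N : ℕ} (hc : Cert op e gens C N) {H : Subgroup (Equiv.Perm GolayPt)}
    (hg : ∀ g ∈ gens, permOf g.1 ∈ H) (hN : Nat.card H = N) {Γ : Type*} [Monoid Γ] (k : β → Γ)
    (he : k e = 1) (hop : ∀ g ∈ gens, ∀ x ∈ elts C N, k (op g.2 x.2) = k g.2 * k x.2) :
    ∃ φ : H →* Γ, (∀ x ∈ elts C N, ∃ h : permOf x.1 ∈ H, φ ⟨_, h⟩ = k x.2) ∧
      ∀ h : H, ∃ x ∈ elts C N, permOf x.1 = h := by
  obtain ⟨par, hpar⟩ := hc.tree
  obtain ⟨nxt, hnxt⟩ := hc.closed
  simp only [treeCheck, Bool.and_eq_true, beq_iff_eq, decide_eq_true_eq, List.all_eq_true] at hpar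
  obtain ⟨⟨⟨hN0, hgv⟩, hplen⟩, hpall⟩ := hpar
  simp only [closeTable, Bool.and_eq_true, beq_iff_eq, List.all_eq_true] at hnxt
  obtain ⟨hnlen, hnall⟩ := hnxt
  have hget : ∀ n < N, ∃ x, getC C n = some x ∧ valid x.1 = true ∧ pcomp x.1 idP = x.1 ∧
      (n = 0 → x = (idP, e)) ∧
      (n ≠ 0 → ∃ g ∈ gens, ∃ p < n, ∃ y, getC C p = some y ∧ step op g y = x) := by
    intro n hn
    have hm : (n, par[n]'(hplen ▸ hn)) ∈ (List.range N).zip par := by
      rw [List.mem_iff_getElem]
      exact ⟨n, by simp [hplen, hn], by simp⟩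
    have h := hpall _ hm
    generalize par[n]'(hplen ▸ hn) = jp at h
    obtain ⟨j, p⟩ := jp
    cases hx : getC C n with
    | none => simp [hx] at h
    | some x =>
      simp only [hx, Bool.and_eq_true, beq_iff_eq] at h
      refine ⟨x, rfl, h.1.1, h.1.2, fun h0 => ?_, fun h0 => ?_⟩
      · have h2 := h.2
        rw [if_pos h0] at h2
        exact of_decide_eq_true h2
      · have h2 := h.2
        rw [if_neg h0, Bool.and_eq_true, decide_eq_true_eq] at h2
        obtain ⟨hp, h2⟩ := h2
        cases hj : gens[j]? with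
        | none => simp [hj] at h2
        | some g =>
          cases hy : getC C p with
          | none => simp [hj, hy] at h2
          | some y =>
            simp only [hj, hy, decide_eq_true_eq] at h2
            exact ⟨g, List.mem_of_getElem? hj, p, hp, y, hy, h2⟩
  have hel : ∀ x, x ∈ elts C N ↔ ∃ n < N, getC C n = some x := by
    simp [elts, List.mem_filterMap]
  have hmul : ∀ g ∈ gens, ∀ y ∈ elts C N, ∀ x ∈ elts C N, step op g y = x →
      permOf x.1 = permOf g.1 * permOf y.1 ∧ k x.2 = k g.2 * k y.2 := by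
    intro g hgm y hy x hx hs
    obtain ⟨n, hn, hxn⟩ := (hel x).1 hx
    obtain ⟨m, hm, hym⟩ := (hel y).1 hy
    obtain ⟨x', hx', hxv, -⟩ := hget n hn
    obtain ⟨y', hy', hyv, -⟩ := hget m hm
    cases hxn.symm.trans hx'
    cases hym.symm.trans hy'
    subst hs
    exact ⟨permOf_pcomp (hgv g hgm) hyv hxv rfl, hop g hgm y hy⟩
  have hmemH : ∀ n < N, ∀ x, getC C n = some x → permOf x.1 ∈ H := by
    intro n
    induction n using Nat.strong_induction_on with
    | _ n ih =>
      intro hn x hx
      obtain ⟨x', hx', -, -, h0, h1⟩ := hget n hn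
      cases hx.symm.trans hx'
      by_cases hn0 : n = 0
      · rw [h0 hn0, permOf_idP]; exact one_mem _
      · obtain ⟨g, hgm, p, hp, y, hy, hs⟩ := h1 hn0
        rw [(hmul g hgm y ((hel y).2 ⟨p, hp.trans hn, hy⟩) x ((hel x).2 ⟨n, hn, hx⟩) hs).1]
        exact mul_mem (hg g hgm) (ih p hp (hp.trans hn) y hy)
  obtain ⟨f, hfinj, hfval⟩ := hc.embed hg
  have hfbij : Function.Bijective f :=
    (Nat.bijective_iff_injective_and_card f).2 ⟨hfinj, by rw [hN, Nat.card_fin]⟩
  obtain ⟨φ, hφ, hsurj⟩ : ∃ φ : H → Γ, (∀ x ∈ elts C N, ∀ h : permOf x.1 ∈ H, φ ⟨_, h⟩ = k x.2) ∧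
      ∀ h : H, ∃ n < N, ∃ x, getC C n = some x ∧ permOf x.1 = h := by
    let E := Equiv.ofBijective f hfbij
    refine ⟨fun h => ((getC C (E.symm h).val).map fun x => k x.2).getD 1, fun x hx h => ?_,
      fun h => ?_⟩
    · obtain ⟨n, hn, hxn⟩ := (hel x).1 hx
      have : E.symm ⟨_, h⟩ = ⟨n, hn⟩ := by
        rw [Equiv.symm_apply_eq]
        exact Subtype.ext (hfval ⟨n, hn⟩ x hxn).symm
      simp [this, hxn]
    · obtain ⟨x, hx, -⟩ := hget (E.symm h).val (E.symm h).isLt
      refine ⟨_, (E.symm h).isLt, x, hx, ?_⟩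
      have he' : E (E.symm h) = h := E.apply_symm_apply h
      refine Eq.trans ?_ (congrArg Subtype.val he')
      exact (hfval _ x hx).symm
  have hcl : ∀ g ∈ gens, ∀ x ∈ elts C N, ∃ z ∈ elts C N, step op g x = z := by
    intro g hgm x hx
    obtain ⟨n, hn, hxn⟩ := (hel x).1 hx
    have hm : (n, nxt[n]'(hnlen ▸ hn)) ∈ (List.range N).zip nxt := by
      rw [List.mem_iff_getElem]
      exact ⟨n, by simp [hnlen, hn], by simp⟩
    have h := hnall _ hm
    simp only [hxn, Bool.and_eq_true, beq_iff_eq, List.all_eq_true] at h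
    obtain ⟨j, hj, rfl⟩ := List.mem_iff_getElem.1 hgm
    have := h.2 (gens[j], (nxt[n]'(hnlen ▸ hn))[j]'(h.1 ▸ hj)) (by
      rw [List.mem_iff_getElem]; exact ⟨j, by simp [h.1, hj], by simp⟩)
    simp only [Bool.and_eq_true, decide_eq_true_eq] at this
    exact ⟨_, (hel _).2 ⟨_, this.1, this.2⟩, rfl⟩
  have hprod : ∀ n < N, ∀ x, getC C n = some x → ∀ y ∈ elts C N, ∃ z ∈ elts C N,
      permOf z.1 = permOf x.1 * permOf y.1 ∧ k z.2 = k x.2 * k y.2 := by
    intro n
    induction n using Nat.strong_induction_on with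
    | _ n ih =>
      intro hn x hx y hy
      obtain ⟨x', hx', -, -, h0, h1⟩ := hget n hn
      cases hx.symm.trans hx'
      by_cases hn0 : n = 0
      · rw [h0 hn0]
        exact ⟨y, hy, by rw [permOf_idP, one_mul], by rw [he, one_mul]⟩
      · obtain ⟨g, hgm, p, hp, w, hw, hs⟩ := h1 hn0
        obtain ⟨hx1, hx2⟩ :=
          hmul g hgm w ((hel w).2 ⟨p, hp.trans hn, hw⟩) x ((hel x).2 ⟨n, hn, hx⟩) hs
        obtain ⟨z', hz', hz1, hz2⟩ := ih p hp (hp.trans hn) w hw y hy
        obtain ⟨z, hz, hzs⟩ := hcl g hgm z' hz'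
        obtain ⟨e1, e2⟩ := hmul g hgm z' hz' z hz hzs
        exact ⟨z, hz, by rw [e1, hz1, hx1, mul_assoc], by rw [e2, hz2, hx2, mul_assoc]⟩
  have hone : φ 1 = 1 := by
    obtain ⟨x, hx, -, -, h0, -⟩ := hget 0 hN0
    have hx0 := h0 rfl
    subst hx0
    have h1 : permOf idP ∈ H := by rw [permOf_idP]; exact one_mem _
    have := hφ (idP, e) ((hel _).2 ⟨0, hN0, hx⟩) h1
    rw [he] at this
    rw [← this]
    exact congrArg φ (Subtype.ext (by simp [permOf_idP]))
  have hmulφ : ∀ a b : H, φ (a * b) = φ a * φ b := by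
    intro a b
    obtain ⟨n, hn, x, hx, hxa⟩ := hsurj a
    obtain ⟨m, hm, y, hy, hyb⟩ := hsurj b
    obtain ⟨z, hz, hz1, hz2⟩ := hprod n hn x hx y ((hel y).2 ⟨m, hm, hy⟩)
    have hzm : permOf z.1 ∈ H := by rw [hz1, hxa, hyb]; exact mul_mem a.2 b.2
    have hxm : permOf x.1 ∈ H := by rw [hxa]; exact a.2
    have hym : permOf y.1 ∈ H := by rw [hyb]; exact b.2
    have e0 := hφ z hz hzm
    have ea := hφ x ((hel x).2 ⟨n, hn, hx⟩) hxm
    have eb := hφ y ((hel y).2 ⟨m, hm, hy⟩) hym
    have hab : (⟨_, hzm⟩ : H) = a * b := Subtype.ext (hz1.trans (by rw [hxa, hyb]; rfl))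
    rw [hab] at e0
    rw [show (⟨_, hxm⟩ : H) = a from Subtype.ext hxa] at ea
    rw [show (⟨_, hym⟩ : H) = b from Subtype.ext hyb] at eb
    rw [e0, ea, eb, hz2]
  let Φ : H →* Γ := MonoidHom.mk ⟨φ, hone⟩ hmulφ
  refine ⟨Φ, fun x hx => ?_, fun h => ?_⟩
  · obtain ⟨n, hn, hxn⟩ := (hel x).1 hx
    exact ⟨hmemH n hn x hxn, hφ x hx _⟩
  · obtain ⟨n, hn, x, hx, hxh⟩ := hsurj h
    exact ⟨x, (hel x).2 ⟨n, hn, hx⟩, hxh⟩

end Cfsg.Agent.GolayEnumComp
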