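import Mathlib
import Cfsg.Prelude.Def_KGroupFacts

/-!
Bounding an outer automorphism group by normalising the images of generators.
-/

set_option autoImplicit false

namespace Cfsg.Agent.GolayOutGen

open Cfsg

universe u
variable {G : Type u} [Group G]

/-- two automorphisms differing by an inner one -/
def Sim (φ ψ : MulAut G) : Prop := φ * ψ⁻¹ ∈ Inn G

theorem sim_refl (φ : MulAut G) : Sim φ φ := by simp [Sim]

theorem sim_trans {φ ψ χ : MulAut G} (h : Sim φ ψ) (h' : Sim ψ χ) : Sim φ χ := by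
  have := mul_mem h h'
  simpa [Sim, mul_assoc] using this

/-- composing with a conjugation -/
theorem sim_conj (φ : MulAut G) (g : G) :
    ∃ ψ, Sim φ ψ ∧ ∀ x, ψ x = g * φ x * g⁻¹ := by
  refine ⟨MulAut.conj g * φ, ?_, fun x => ?_⟩
  · rw [Sim, mul_inv_rev, mul_inv_cancel_left]
    exact inv_mem ⟨g, rfl⟩
  · simp [MulAut.conj_apply]

theorem mk_eq_of_sim {φ ψ : MulAut G} (h : Sim φ ψ) :
    (QuotientGroup.mk φ : Out G) = QuotientGroup.mk ψ := by
  rw [QuotientGroup.eq]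
  have h1 : φ⁻¹ * ψ = φ⁻¹ * (φ * ψ⁻¹)⁻¹ * φ⁻¹⁻¹ := by group
  rw [h1]
  exact (innNormal G).conj_mem _ (inv_mem h) φ⁻¹

theorem eq_of_gens {S : Set G} (hS : Subgroup.closure S = ⊤) {φ ψ : MulAut G}
    (h : ∀ x ∈ S, φ x = ψ x) : φ = ψ :=
  MulEquiv.toMonoidHom_injective (MonoidHom.eq_of_eqOn_dense hS h)

theorem card_out_eq_one {S : Set G} (hS : Subgroup.closure S = ⊤)
    (h : ∀ φ : MulAut G, ∃ ψ, Sim φ ψ ∧ ∀ x ∈ S, ψ x = x) : Nat.card (Out G) = 1 := by
  rw [Nat.card_eq_one_iff_exists]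
  refine ⟨QuotientGroup.mk 1, fun q => ?_⟩
  induction q using QuotientGroup.induction_on with
  | _ φ =>
    obtain ⟨ψ, hψ, hψS⟩ := h φ
    rw [mk_eq_of_sim hψ, eq_of_gens hS (φ := ψ) (ψ := 1) fun x hx => hψS x hx]

theorem card_out_eq_two {S : Set G} (hS : Subgroup.closure S = ⊤) (f : G → G)
    (h : ∀ φ : MulAut G, ∃ ψ, Sim φ ψ ∧ ((∀ x ∈ S, ψ x = x) ∨ ∀ x ∈ S, ψ x = f x))
    (s : MulAut G) (hs : s ∉ Inn G) : Nat.card (Out G) = 2 := by
  rw [Nat.card_eq_two_iff]
  refine ⟨QuotientGroup.mk 1, QuotientGroup.mk s, ?_, ?_⟩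
  · intro e
    rw [QuotientGroup.eq, inv_one, one_mul] at e
    exact hs e
  · rw [Set.eq_univ_iff_forall]
    intro q
    induction q using QuotientGroup.induction_on with
    | _ φ =>
      obtain ⟨ψ, hψ, hψS | hψS⟩ := h φ
      · left
        rw [mk_eq_of_sim hψ, eq_of_gens hS (φ := ψ) (ψ := 1) fun x hx => hψS x hx]
      · obtain ⟨χ, hχ, hχS | hχS⟩ := h s
        · exfalso
          apply hs
          have := hχ
          rw [Sim, eq_of_gens hS (φ := χ) (ψ := 1) fun x hx => hχS x hx, inv_one, mul_one] at this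
          exact this
        · right
          rw [Set.mem_singleton_iff, mk_eq_of_sim hψ, mk_eq_of_sim hχ,
            eq_of_gens hS (φ := ψ) (ψ := χ) fun x hx => by rw [hψS x hx, hχS x hx]]

theorem eq_of_factorization {p m : ℕ} (hp : p.Prime) (hm : ¬ p ∣ m) :
    p ^ (p * m).factorization p = p := by
  have hm0 : m ≠ 0 := fun h => hm (h ▸ dvd_zero p)
  rw [Nat.factorization_mul hp.ne_zero hm0, Finsupp.add_apply, hp.factorization_self,
    Nat.factorization_eq_zero_of_not_dvd hm, add_zero, pow_one]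

/-- the image of an element of prime Sylow order is conjugate to a power of it -/
theorem exists_sim_pow [Finite G] {p m : ℕ} (hp : p.Prime) (hm : ¬ p ∣ m) (hG : Nat.card G = p * m)
    {x : G} (hx : orderOf x = p) (φ : MulAut G) :
    ∃ ψ, Sim φ ψ ∧ ∃ j < p, 0 < j ∧ ψ x = x ^ j := by
  have : Fact p.Prime := ⟨hp⟩
  have hφx : orderOf (φ x) = p := by rw [MulEquiv.orderOf_eq, hx]
  have c1 : Nat.card (Subgroup.zpowers x) = p ^ (Nat.card G).factorization p := by
    rw [Nat.card_zpowers, hx, hG, eq_of_factorization hp hm]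
  have c2 : Nat.card (Subgroup.zpowers (φ x)) = p ^ (Nat.card G).factorization p := by
    rw [Nat.card_zpowers, hφx, hG, eq_of_factorization hp hm]
  obtain ⟨g, hg⟩ := MulAction.exists_smul_eq G (Sylow.ofCard _ c2) (Sylow.ofCard _ c1)
  obtain ⟨ψ, hψ, hψx⟩ := sim_conj φ g
  refine ⟨ψ, hψ, ?_⟩
  have hmem : ψ x ∈ Subgroup.zpowers x := by
    have h2 : g * φ x * g⁻¹ ∈ ((g • (Sylow.ofCard _ c2 : Sylow p G) : Sylow p G) : Subgroup G) := by
      rw [Sylow.coe_subgroup_smul]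
      exact ⟨φ x, Subgroup.mem_zpowers _, by simp⟩
    rw [hg] at h2
    rw [hψx]
    exact h2
  have := Classical.decEq G
  obtain ⟨j, hj⟩ := Finset.mem_image.1 ((mem_zpowers_iff_mem_range_orderOf).1 hmem)
  refine ⟨j, by have := Finset.mem_range.1 hj.1; rwa [hx] at this, ?_, hj.2.symm⟩
  rcases Nat.eq_zero_or_pos j with rfl | h
  · exfalso
    have h1 : ψ x = 1 := by rw [← hj.2, pow_zero]
    have h2 := MulEquiv.orderOf_eq ψ x
    rw [h1, orderOf_one, hx] at h2
    exact hp.ne_one h2.symm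
  · exact h

end Cfsg.Agent.GolayOutGen
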