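import Mathlib
import Cfsg.Agent.Lib.GolayM24

/-!
Sifting through a chain of transversals: every element of a group is a product of transversal
elements, recovered from the images of the base points.
-/

set_option autoImplicit false

namespace Cfsg.Agent.GolayChain

open Cfsg Cfsg.Agent.GolayBasic Cfsg.Agent.GolayPerm
open scoped Pointwise

/-- a base point with its transversal -/
abbrev Level : Type := ℕ × List ℕ

/-- composite image under a word, first letter applied last -/
def wimg : List ℕ → ℕ → ℕ
  | [], i => i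
  | T :: w, i => pimg T (wimg w i)

/-- preimage of a point number -/
def pre (T y : ℕ) : ℕ := (pts.find? fun i => pimg T i == y).getD 24

/-- recover a word from images of the base points -/
def sift : List Level → List ℕ → Option (List ℕ)
  | [], _ => some []
  | _ :: _, [] => none
  | (b, ts) :: r, y :: ys =>
    match ts.find? (fun T => pimg T b == y) with
    | none => none
    | some T =>
      match sift r (ys.map (pre T)) with
      | none => none
      | some w => some (T :: w)

/-- the product of the transversal lengths -/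
def size : List Level → ℕ
  | [] => 1
  | (_, ts) :: r => ts.length * size r

/-- each transversal fixes the earlier base points and has different images of its own base point -/
def chainCheck : List ℕ → List Level → Bool
  | _, [] => true
  | fix, (b, ts) :: r =>
    decide (b < 24) && ts.all (fun T => valid T && fix.all fun f => pimg T f == f) &&
      decide ((ts.map fun T => pimg T b).Nodup) && chainCheck (fix ++ [b]) r

/-- all transversal elements -/
def elts : List Level → List ℕ
  | [] => []
  | (_, ts) :: r => ts ++ elts r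

theorem idx_permOf {T : ℕ} (h : valid T = true) (x : GolayPt) :
    idx (permOf T x) = pimg T (idx x) := by
  rw [permOf_apply h, pfun, idx_pt (pimg_lt h (idx_lt x))]

theorem pre_eq {T : ℕ} (h : valid T = true) {g : Equiv.Perm GolayPt} (x : GolayPt) :
    pre T (idx (g x)) = idx (((permOf T)⁻¹ * g) x) := by
  set q := ((permOf T)⁻¹ * g) x with hq
  have hg : pimg T (idx q) = idx (g x) := by
    rw [← idx_permOf h, hq, ← Equiv.Perm.mul_apply, mul_inv_cancel_left]
  obtain ⟨i, hi⟩ : ∃ i, (pts.find? fun i => pimg T i == idx (g x)) = some i := by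
    rw [← Option.isSome_iff_exists, List.find?_isSome]
    exact ⟨idx q, mem_pts.2 (idx_lt q), by simp [hg]⟩
  have h1 := List.find?_some hi
  simp only [beq_iff_eq] at h1
  have h2 : i < 24 := mem_pts.1 (List.mem_of_find?_eq_some hi)
  rw [pre, hi, Option.getD_some]
  have : permOf T (pt i) = permOf T q := by
    apply idx_inj
    rw [idx_permOf h, idx_permOf h, idx_pt h2, h1, hg]
  rw [← idx_pt h2, (permOf T).injective this]

variable {H : Subgroup (Equiv.Perm GolayPt)}

theorem permOf_mem_fixList {fix : List ℕ} {b : ℕ} {ts : List ℕ} {r : List Level}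
    (hc : chainCheck fix ((b, ts) :: r) = true) (hf : ∀ f ∈ fix, f < 24)
    (hH : ∀ T ∈ elts ((b, ts) :: r), permOf T ∈ H) {T : ℕ} (hT : T ∈ ts) :
    valid T = true ∧ permOf T ∈ fixList H fix := by
  simp only [chainCheck, Bool.and_eq_true, List.all_eq_true, beq_iff_eq] at hc
  obtain ⟨hv, hfx⟩ := hc.1.1.2 T hT
  refine ⟨hv, mem_fixList.2 ⟨hH T (List.mem_append_left _ hT), fun f hfm => ?_⟩⟩
  apply idx_inj
  rw [idx_permOf hv, idx_pt (hf f hfm), hfx f hfm]

theorem le_card : ∀ (lv : List Level) (fix : List ℕ), chainCheck fix lv = true →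
    (∀ f ∈ fix, f < 24) → (∀ T ∈ elts lv, permOf T ∈ H) → size lv ≤ Nat.card (fixList H fix)
  | [], fix, _, _, _ => Nat.card_pos
  | (b, ts) :: r, fix, hc, hf, hH => by
    have hmem := fun T hT => permOf_mem_fixList hc hf hH (T := T) hT
    simp only [chainCheck, Bool.and_eq_true, decide_eq_true_eq] at hc
    have ih := le_card r (fix ++ [b]) hc.2 (by
      intro f hfm
      rcases List.mem_append.1 hfm with h | h
      · exact hf f h
      · rw [List.mem_singleton.1 h]; exact hc.1.1.1)
      (fun T hT => hH T (List.mem_append_right _ hT))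
    set K := fixList H fix with hK
    set O : Finset GolayPt := (Set.toFinite (MulAction.orbit K (pt b))).toFinset with hO
    have hcard := card_eq_card_mul K (pt b) O
      (fun g hg => by rw [hO, Set.Finite.mem_toFinset]; exact ⟨⟨g, hg⟩, rfl⟩)
      (fun y hy => by
        rw [hO, Set.Finite.mem_toFinset] at hy
        obtain ⟨g, rfl⟩ := hy
        exact ⟨g, g.2, rfl⟩)
    have hlen : ts.length ≤ O.card := by
      have h1 : ((ts.map fun T => pimg T b).toFinset).card = ts.length := by
        rw [List.toFinset_card_of_nodup hc.1.2, List.length_map]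
      rw [← h1, ← Finset.card_image_of_injective O (f := idx) fun a c h => idx_inj h]
      refine Finset.card_le_card fun i hi => ?_
      obtain ⟨T, hT, rfl⟩ := List.mem_map.1 (List.mem_toFinset.1 hi)
      obtain ⟨hv, hm⟩ := hmem T hT
      refine Finset.mem_image.2 ⟨permOf T (pt b), ?_, ?_⟩
      · rw [hO, Set.Finite.mem_toFinset]; exact ⟨⟨_, hm⟩, rfl⟩
      · rw [idx_permOf hv, idx_pt hc.1.1.1]
    rw [size, hcard]
    refine Nat.mul_le_mul hlen ?_
    rwa [fixList_append] at ih

theorem exists_sift_aux : ∀ (lv : List Level) (fix : List ℕ), chainCheck fix lv = true →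
    (∀ f ∈ fix, f < 24) → (∀ T ∈ elts lv, permOf T ∈ H) →
    Nat.card (fixList H fix) ≤ size lv → ∀ g ∈ fixList H fix,
      ∃ w, sift lv (lv.map fun l => idx (g (pt l.1))) = some w ∧
        (∀ x, idx (g x) = wimg w (idx x)) ∧ ∀ T ∈ w, T ∈ elts lv
  | [], fix, _, _, _, hle, g, hg => by
    have h1 : Nat.card (fixList H fix) = 1 := le_antisymm hle Nat.card_pos
    rw [Subgroup.card_eq_one] at h1
    rw [h1, Subgroup.mem_bot] at hg
    exact ⟨[], rfl, fun x => by rw [hg]; rfl, by simp⟩
  | (b, ts) :: r, fix, hc, hf, hH, hle, g, hg => by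
    have hmem := fun T hT => permOf_mem_fixList hc hf hH (T := T) hT
    simp only [chainCheck, Bool.and_eq_true, decide_eq_true_eq] at hc
    have hf' : ∀ f ∈ fix ++ [b], f < 24 := by
      intro f hfm
      rcases List.mem_append.1 hfm with h | h
      · exact hf f h
      · rw [List.mem_singleton.1 h]; exact hc.1.1.1
    have hH' : ∀ T ∈ elts r, permOf T ∈ H := fun T hT => hH T (List.mem_append_right _ hT)
    have hlo := le_card r (fix ++ [b]) hc.2 hf' hH'
    set K := fixList H fix with hK
    set O : Finset GolayPt := (Set.toFinite (MulAction.orbit K (pt b))).toFinset with hO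
    have hOmem : ∀ y, y ∈ O ↔ ∃ h ∈ K, h (pt b) = y := fun y => by
      rw [hO, Set.Finite.mem_toFinset]
      exact ⟨fun ⟨h, hh⟩ => ⟨h, h.2, hh⟩, fun ⟨h, hm, hh⟩ => ⟨⟨h, hm⟩, hh⟩⟩
    have hcard := card_eq_card_mul K (pt b) O (fun h hh => (hOmem _).2 ⟨h, hh, rfl⟩)
      (fun y hy => (hOmem y).1 hy)
    rw [← fixList_append] at hcard
    set F : Finset ℕ := (ts.map fun T => pimg T b).toFinset with hF
    have hFc : F.card = ts.length := by
      rw [hF, List.toFinset_card_of_nodup hc.1.2, List.length_map]
    have hFO : F ⊆ O.image idx := by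
      intro i hi
      obtain ⟨T, hT, rfl⟩ := List.mem_map.1 (List.mem_toFinset.1 hi)
      obtain ⟨hv, hm⟩ := hmem T hT
      exact Finset.mem_image.2 ⟨permOf T (pt b), (hOmem _).2 ⟨_, hm, rfl⟩,
        by rw [idx_permOf hv, idx_pt hc.1.1.1]⟩
    have himg : (O.image idx).card = O.card :=
      Finset.card_image_of_injective O fun a c h => idx_inj h
    have hlen : ts.length ≤ O.card := by rw [← hFc, ← himg]; exact Finset.card_le_card hFO
    rw [size, hcard] at hle
    set c := Nat.card (fixList H (fix ++ [b])) with hcdef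
    have hcpos : 0 < c := Nat.card_pos
    have hle' : c ≤ size r := by
      by_contra hgt
      have hO0 : 0 < O.card := Finset.card_pos.2 ⟨g (pt b), (hOmem _).2 ⟨g, hg, rfl⟩⟩
      have h1 : ts.length * size r ≤ O.card * size r := Nat.mul_le_mul_right _ hlen
      have h2 : O.card * size r < O.card * c := Nat.mul_lt_mul_of_pos_left (not_le.1 hgt) hO0
      omega
    have hOle : O.card ≤ ts.length := by
      have h1 : O.card * c ≤ ts.length * c := hle.trans (Nat.mul_le_mul_left _ hlo)
      exact Nat.le_of_mul_le_mul_right h1 hcpos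
    have heq : O.image idx = F := (Finset.eq_of_subset_of_card_le hFO (by omega)).symm
    have hy : idx (g (pt b)) ∈ F := by
      rw [← heq]; exact Finset.mem_image.2 ⟨_, (hOmem _).2 ⟨g, hg, rfl⟩, rfl⟩
    obtain ⟨T, hTf⟩ : ∃ T, ts.find? (fun T => pimg T b == idx (g (pt b))) = some T := by
      rw [← Option.isSome_iff_exists, List.find?_isSome]
      obtain ⟨T, hT, hTy⟩ := List.mem_map.1 (List.mem_toFinset.1 hy)
      exact ⟨T, hT, by simp [hTy]⟩
    have hT : T ∈ ts := List.mem_of_find?_eq_some hTf
    have hTy := List.find?_some hTf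
    simp only [beq_iff_eq] at hTy
    obtain ⟨hv, hm⟩ := hmem T hT
    set g' := (permOf T)⁻¹ * g with hg'
    have hg'm : g' ∈ fixList H (fix ++ [b]) := by
      rw [fixList_append, Subgroup.mem_inf]
      refine ⟨mul_mem (inv_mem hm) hg, ?_⟩
      rw [MulAction.mem_stabilizer_iff, Equiv.Perm.smul_def]
      apply idx_inj
      rw [hg', ← pre_eq hv]
      have : permOf T (pt b) = g (pt b) := by
        apply idx_inj; rw [idx_permOf hv, idx_pt hc.1.1.1, hTy]
      rw [← this, pre_eq hv, inv_mul_cancel, Equiv.Perm.one_apply]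
    obtain ⟨w, hw, hwg, hwT⟩ := exists_sift_aux r (fix ++ [b]) hc.2 hf' hH' hle' g' hg'm
    refine ⟨T :: w, ?_, fun x => ?_, ?_⟩
    · rw [List.map_cons, sift]
      simp only [hTf, List.map_map]
      rw [show (List.map (pre T ∘ fun l : Level => idx (g (pt l.1))) r) =
        r.map (fun l => idx (g' (pt l.1))) from List.map_congr_left fun l _ => pre_eq hv _, hw]
    · rw [wimg, ← hwg, ← idx_permOf hv, hg', ← Equiv.Perm.mul_apply, mul_inv_cancel_left]
    · intro U hU
      rcases List.mem_cons.1 hU with rfl | hU
      · exact List.mem_append_left _ hT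
      · exact List.mem_append_right _ (hwT U hU)

/-- Every element is recovered by sifting. -/
theorem exists_sift {lv : List Level} (hc : chainCheck [] lv = true)
    (hH : ∀ T ∈ elts lv, permOf T ∈ H) (hcard : Nat.card H = size lv) {g : Equiv.Perm GolayPt}
    (hg : g ∈ H) :
    ∃ w, sift lv (lv.map fun l => idx (g (pt l.1))) = some w ∧
      (∀ x, idx (g x) = wimg w (idx x)) ∧ ∀ T ∈ w, T ∈ elts lv :=
  exists_sift_aux lv [] hc (by simp) hH hcard.le g hg

/-- a straight-line program: each step names two earlier entries and records their product -/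
def slpCheck : List ℕ → List (ℕ × ℕ × ℕ) → Bool
  | _, [] => true
  | F, (i, j, R) :: r =>
    decide (i < F.length) && decide (j < F.length) && valid R &&
      pts.all (fun x => pimg R x == pimg (F.getD i 0) (pimg (F.getD j 0) x)) &&
      slpCheck (F ++ [R]) r

theorem mem_of_slp {K : Subgroup (Equiv.Perm GolayPt)} : ∀ (steps : List (ℕ × ℕ × ℕ)) (F : List ℕ),
    (∀ P ∈ F, valid P = true ∧ permOf P ∈ K) → slpCheck F steps = true →
    ∀ R ∈ F ++ steps.map (fun s => s.2.2), permOf R ∈ K
  | [], F, hF, _ => fun R hR => (hF R (by simpa using hR)).2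
  | (i, j, R) :: r, F, hF, h => by
    simp only [slpCheck, Bool.and_eq_true, decide_eq_true_eq, List.all_eq_true, beq_iff_eq] at h
    obtain ⟨⟨⟨⟨hi, hj⟩, hv⟩, hall⟩, hr⟩ := h
    have hPi := hF (F.getD i 0) (by rw [List.getD_eq_getElem (hn := hi)]; exact List.getElem_mem hi)
    have hPj := hF (F.getD j 0) (by rw [List.getD_eq_getElem (hn := hj)]; exact List.getElem_mem hj)
    have hR : permOf R = permOf (F.getD i 0) * permOf (F.getD j 0) := by
      ext x : 1
      apply idx_inj
      rw [Equiv.Perm.mul_apply, idx_permOf hv, idx_permOf hPi.1, idx_permOf hPj.1]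
      exact hall _ (mem_pts.2 (idx_lt x))
    intro S hS
    refine mem_of_slp r (F ++ [R]) ?_ hr S (by simpa using hS)
    intro P hP
    rcases List.mem_append.1 hP with hP | hP
    · exact hF P hP
    · rw [List.mem_singleton.1 hP]; exact ⟨hv, hR ▸ mul_mem hPi.2 hPj.2⟩

/-- transversal elements inside a subgroup give the whole group -/
theorem le_of_elts {lv : List Level} (hc : chainCheck [] lv = true)
    (hH : ∀ T ∈ elts lv, permOf T ∈ H) (hcard : Nat.card H = size lv)
    {K : Subgroup (Equiv.Perm GolayPt)} (hv : ∀ T ∈ elts lv, valid T = true)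
    (hK : ∀ T ∈ elts lv, permOf T ∈ K) : H ≤ K := by
  intro g hg
  obtain ⟨w, -, hwg, hwT⟩ := exists_sift hc hH hcard hg
  have key : ∀ v : List ℕ, (∀ T ∈ v, T ∈ elts lv) → ∃ k ∈ K, ∀ x, idx (k x) = wimg v (idx x) := by
    intro v
    induction v with
    | nil => intro _; exact ⟨1, one_mem _, fun x => rfl⟩
    | cons T v ih =>
      intro hvT
      obtain ⟨k, hk, hkx⟩ := ih fun U hU => hvT U (List.mem_cons_of_mem _ hU)
      have hT := hvT T List.mem_cons_self
      exact ⟨permOf T * k, mul_mem (hK T hT) hk, fun x => by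
        rw [Equiv.Perm.mul_apply, idx_permOf (hv T hT), hkx, wimg]⟩
  obtain ⟨k, hk, hkx⟩ := key w hwT
  have : g = k := Equiv.ext fun x => idx_inj (by rw [hwg, hkx])
  exact this ▸ hk

end Cfsg.Agent.GolayChain
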