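import Mathlib
import Cfsg.Agent.Lib.GolayChain

/-!
Solving `g x = y g` inside a group with a chain whose base lies in one cycle of `x`, and membership
checks for the five groups.
-/

set_option autoImplicit false

namespace Cfsg.Agent.GolaySolve

open Cfsg Cfsg.Agent.GolayBasic Cfsg.Agent.GolayPerm Cfsg.Agent.GolayChain
open scoped Pointwise

/-- iterated image -/
def itImg (y : ℕ) : ℕ → ℕ → ℕ
  | 0, c => c
  | e + 1, c => pimg y (itImg y e c)

theorem idx_pow {x : ℕ} (h : valid x = true) (p : GolayPt) :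
    ∀ e, idx ((permOf x ^ e) p) = itImg x e (idx p)
  | 0 => rfl
  | e + 1 => by rw [pow_succ', Equiv.Perm.mul_apply, idx_permOf h, idx_pow h p e, itImg]

/-- the listed solutions are all -/
def solveCheck (lv : List Level) (x y r : ℕ) (es sols : List ℕ) : Bool :=
  valid x && valid y && decide (r < 24) && sols.all valid &&
    (lv.map Prod.fst == es.map (fun e => itImg x e r)) &&
    pts.all fun c =>
      match sift lv (es.map fun e => itImg y e c) with
      | none => true
      | some w => (!(pts.all fun i => wimg w (pimg x i) == pimg y (wimg w i))) ||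
          sols.any fun s => pts.all fun i => pimg s i == wimg w i

theorem exists_sol {H : Subgroup (Equiv.Perm GolayPt)} {lv : List Level}
    (hc : chainCheck [] lv = true) (hH : ∀ T ∈ elts lv, permOf T ∈ H)
    (hcard : Nat.card H = size lv) {x y r : ℕ} {es sols : List ℕ}
    (hs : solveCheck lv x y r es sols = true) {g : Equiv.Perm GolayPt} (hg : g ∈ H)
    (he : g * permOf x = permOf y * g) : ∃ s ∈ sols, g = permOf s := by
  simp only [solveCheck, Bool.and_eq_true, decide_eq_true_eq, beq_iff_eq, List.all_eq_true] at hs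
  obtain ⟨⟨⟨⟨⟨hx, hy⟩, hr⟩, hsols⟩, hbase⟩, hall⟩ := hs
  obtain ⟨w, hw, hwg, -⟩ := exists_sift hc hH hcard hg
  have hpow : ∀ e : ℕ, g * permOf x ^ e = permOf y ^ e * g := fun e =>
    SemiconjBy.pow_right he e
  have htg : (lv.map fun l => idx (g (pt l.1))) = es.map fun e => itImg y e (idx (g (pt r))) := by
    have : (lv.map Prod.fst).map (fun b => idx (g (pt b))) =
        (es.map fun e => itImg x e r).map fun b => idx (g (pt b)) := by rw [hbase]
    rw [List.map_map, List.map_map] at this
    refine this.trans (List.map_congr_left fun e _ => ?_)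
    show idx (g (pt (itImg x e r))) = _
    have h1 : pt (itImg x e r) = (permOf x ^ e) (pt r) := by
      apply idx_inj
      rw [idx_pow hx, idx_pt hr, idx_pt]
      have := idx_pow hx (pt r) e
      rw [idx_pt hr] at this
      exact this ▸ idx_lt _
    rw [h1, ← Equiv.Perm.mul_apply, hpow, Equiv.Perm.mul_apply, idx_pow hy]
  rw [htg] at hw
  have h := hall (idx (g (pt r))) (mem_pts.2 (idx_lt _))
  simp only [hw, Bool.or_eq_true, Bool.not_eq_true', List.any_eq_true, List.all_eq_true,
    beq_iff_eq] at h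
  rcases h with h | ⟨s, hs, hsw⟩
  · exfalso
    rw [← Bool.not_eq_true, List.all_eq_true] at h
    refine h fun i hi => ?_
    rw [mem_pts] at hi
    rw [beq_iff_eq]
    have h1 := congrArg (fun k : Equiv.Perm GolayPt => idx (k (pt i))) he
    simp only [Equiv.Perm.mul_apply] at h1
    rw [hwg, idx_permOf hx, idx_permOf hy, hwg, idx_pt hi] at h1
    exact h1
  · refine ⟨s, hs, Equiv.ext fun p => idx_inj ?_⟩
    rw [idx_permOf (hsols s hs), hwg, hsw _ (mem_pts.2 (idx_lt p))]

/-- membership test: in the group of the code, fixing some points, keeping a mask -/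
def memCheck (fix : List ℕ) (keep : ℕ) (T : ℕ) : Bool :=
  good T && fix.all (fun f => decide (f < 24) && pimg T f == f) && pmask T keep == keep

theorem memCheck_spec {fix : List ℕ} {keep T : ℕ} (h : memCheck fix keep T = true) :
    valid T = true ∧ permOf T ∈ M24 ∧ (∀ f ∈ fix, permOf T (pt f) = pt f) ∧
      permOf T • mset keep = mset keep := by
  simp only [memCheck, Bool.and_eq_true, List.all_eq_true, decide_eq_true_eq, beq_iff_eq] at h
  obtain ⟨⟨hg, hf⟩, hk⟩ := h
  have hv := valid_of_good hg
  refine ⟨hv, permOf_mem_M24 hg, fun f hfm => ?_, by rw [smul_mset hv, hk]⟩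
  apply idx_inj
  rw [idx_permOf hv, idx_pt (hf f hfm).1, (hf f hfm).2]

theorem mem_M23_of_check {T : ℕ} (h : memCheck [23] 16777215 T = true) :
    permOf T ∈ Spor.M23 := by
  obtain ⟨-, hm, hf, -⟩ := memCheck_spec h
  rw [GolayM24.M23_eq, mem_fixList]; exact ⟨hm, hf⟩

theorem mem_M22_of_check {T : ℕ} (h : memCheck [23, 0] 16777215 T = true) :
    permOf T ∈ Spor.M22 := by
  obtain ⟨-, hm, hf, -⟩ := memCheck_spec h
  rw [GolayM24.M22_eq, mem_fixList]; exact ⟨hm, hf⟩

theorem mem_M12_of_check {T : ℕ} (h : memCheck [] 340831 T = true) : permOf T ∈ Spor.M12 := by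
  obtain ⟨-, hm, -, hk⟩ := memCheck_spec h
  exact GolayM24.mem_M12.2 ⟨hm, hk⟩

theorem mem_M11_of_check {T : ℕ} (h : memCheck [0] 340831 T = true) : permOf T ∈ Spor.M11 := by
  obtain ⟨-, hm, hf, hk⟩ := memCheck_spec h
  rw [GolayM24.M11_eq, mem_fixList]; exact ⟨GolayM24.mem_M12.2 ⟨hm, hk⟩, hf⟩

end Cfsg.Agent.GolaySolve
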