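import Mathlib
import Cfsg.Agent.Lib.GolaySolve
import Cfsg.Agent.Lib.GolayOutGen

/-!
Normalising images of generators of a Mathieu group under an automorphism.
-/

set_option autoImplicit false

namespace Cfsg.Agent.GolayOutTool

open Cfsg Cfsg.Agent.GolayBasic Cfsg.Agent.GolayPerm Cfsg.Agent.GolayChain Cfsg.Agent.GolaySolve
open Cfsg.Agent.GolayOutGen
open scoped Pointwise

/-- the word is the identity -/
def isId (l : List ℕ) : Bool := pts.all fun i => wimg l i == i

/-- two words give the same map -/
def sameWord (l l' : List ℕ) : Bool := pts.all fun i => wimg l i == wimg l' i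

theorem idx_prod : ∀ (l : List ℕ), (∀ P ∈ l, valid P = true) → ∀ x,
    idx ((l.map permOf).prod x) = wimg l (idx x)
  | [], _, x => rfl
  | P :: l, h, x => by
    rw [List.map_cons, List.prod_cons, Equiv.Perm.mul_apply,
      idx_permOf (h P List.mem_cons_self), idx_prod l (fun Q hQ => h Q (List.mem_cons_of_mem _ hQ)),
      wimg]

theorem prod_eq_one_iff {l : List ℕ} (h : ∀ P ∈ l, valid P = true) :
    (l.map permOf).prod = 1 ↔ isId l = true := by
  simp only [isId, List.all_eq_true, beq_iff_eq]
  constructor
  · intro e i hi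
    have := idx_prod l h (pt i)
    rw [e, Equiv.Perm.one_apply, idx_pt (mem_pts.1 hi)] at this
    exact this.symm
  · intro e
    ext x : 1
    apply idx_inj
    rw [idx_prod l h, e _ (mem_pts.2 (idx_lt x)), Equiv.Perm.one_apply]

theorem prod_eq_of_sameWord {l l' : List ℕ} (h : ∀ P ∈ l, valid P = true)
    (h' : ∀ P ∈ l', valid P = true) (e : sameWord l l' = true) :
    (l.map permOf).prod = (l'.map permOf).prod := by
  simp only [sameWord, List.all_eq_true, beq_iff_eq] at e
  ext x : 1
  apply idx_inj
  rw [idx_prod l h, idx_prod l' h', e _ (mem_pts.2 (idx_lt x))]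

variable {H : Subgroup (Equiv.Perm GolayPt)}

theorem permOf_pow_eq {x q r : ℕ} (hx : valid x = true) (hq : valid q = true)
    (e : sameWord (List.replicate r x) [q] = true) : permOf x ^ r = permOf q := by
  have := prod_eq_of_sameWord (fun P hP => by rw [List.eq_of_mem_replicate hP]; exact hx)
    (by simpa using hq) e
  simpa using this

/-- a separating word excludes a candidate -/
theorem false_of_sep (ψ : MulAut H) {xs cs : List ℕ} (X C : List H)
    (hX : X.map (Subtype.val : H → Equiv.Perm GolayPt) = xs.map permOf)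
    (hC : C.map (Subtype.val : H → Equiv.Perm GolayPt) = cs.map permOf)
    (hψ : X.map ψ = C) (w : List ℕ) (n : ℕ)
    (hchk : (xs.all valid && cs.all valid && w.all (fun i => decide (i < xs.length)) &&
      (isId (List.replicate n (w.map fun i => xs.getD i 0)).flatten !=
        isId (List.replicate n (w.map fun i => cs.getD i 0)).flatten)) = true) : False := by
  simp only [Bool.and_eq_true, List.all_eq_true, decide_eq_true_eq, bne_iff_ne] at hchk
  obtain ⟨⟨⟨hxv, hcv⟩, hw⟩, hne⟩ := hchk
  have hlenX : X.length = xs.length := by simpa using congrArg List.length hX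
  have hlenC : cs.length = xs.length := by
    have h1 : C.length = cs.length := by simpa using congrArg List.length hC
    rw [← h1, ← hψ, List.length_map, hlenX]
  set wx := (List.replicate n (w.map fun i => xs.getD i 0)).flatten with hwx
  set wc := (List.replicate n (w.map fun i => cs.getD i 0)).flatten with hwc
  let W : List H := (List.replicate n (w.map fun i => X.getD i 1)).flatten
  have hgetX : ∀ i ∈ w, ((X.getD i 1 : H) : Equiv.Perm GolayPt) = permOf (xs.getD i 0) ∧
      ((ψ (X.getD i 1) : H) : Equiv.Perm GolayPt) = permOf (cs.getD i 0) := by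
    intro i hi
    have hi' := hw i hi
    have h1 : i < X.length := by omega
    have h2 : i < cs.length := by omega
    rw [List.getD_eq_getElem (hn := h1), List.getD_eq_getElem (hn := hi'),
      List.getD_eq_getElem (hn := h2)]
    constructor
    · have := List.getElem_of_eq hX (i := i) (by simpa using h1)
      simpa using this
    · subst hψ
      have := List.getElem_of_eq hC (i := i) (by simpa using h1)
      simpa using this
  have hWx : W.map (Subtype.val : H → Equiv.Perm GolayPt) = wx.map permOf := by
    simp only [W, hwx, List.map_flatten, List.map_replicate, List.map_map]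
    congr 2
    exact List.map_congr_left fun i hi => (hgetX i hi).1
  have hWc : (W.map ψ).map (Subtype.val : H → Equiv.Perm GolayPt) = wc.map permOf := by
    simp only [W, hwc, List.map_flatten, List.map_replicate, List.map_map]
    congr 2
    exact List.map_congr_left fun i hi => (hgetX i hi).2
  have hvx : ∀ P ∈ wx, valid P = true := by
    intro P hP
    simp only [hwx, List.mem_flatten] at hP
    obtain ⟨l, hl, hPl⟩ := hP
    rw [List.eq_of_mem_replicate hl, List.mem_map] at hPl
    obtain ⟨i, hi, rfl⟩ := hPl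
    exact hxv _ (by rw [List.getD_eq_getElem (hn := hw i hi)]; exact List.getElem_mem _)
  have hvc : ∀ P ∈ wc, valid P = true := by
    intro P hP
    simp only [hwc, List.mem_flatten] at hP
    obtain ⟨l, hl, hPl⟩ := hP
    rw [List.eq_of_mem_replicate hl, List.mem_map] at hPl
    obtain ⟨i, hi, rfl⟩ := hPl
    have : i < cs.length := by have := hw i hi; omega
    exact hcv _ (by rw [List.getD_eq_getElem (hn := this)]; exact List.getElem_mem _)
  have p1 : W.prod = 1 ↔ isId wx = true := by
    rw [← prod_eq_one_iff hvx, ← hWx]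
    exact (OneMemClass.coe_eq_one).symm.trans (by rw [SubmonoidClass.coe_list_prod])
  have p2 : ψ W.prod = 1 ↔ isId wc = true := by
    rw [← prod_eq_one_iff hvc, ← hWc, map_list_prod]
    exact (OneMemClass.coe_eq_one).symm.trans (by rw [SubmonoidClass.coe_list_prod])
  rw [EmbeddingLike.map_eq_one_iff, p1] at p2
  exact hne (Bool.eq_iff_iff.2 p2)

/-- make the image of a generator a power `±1` -/
theorem exists_sim_sign {p m : ℕ} (hp : p.Prime) (hm : ¬ p ∣ m) (hH : Nat.card H = p * m)
    {x y : H} (hx : orderOf x = p) {r : ℕ} (hr : y * x = x ^ r * y)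
    (hjs : ∀ j < p, 0 < j → ∃ k < p, (j * r ^ k) % p = 1 ∨ (j * r ^ k) % p = p - 1)
    (φ : MulAut H) : ∃ ψ, Sim φ ψ ∧ (ψ x = x ∨ ψ x = x⁻¹) := by
  obtain ⟨ψ, hψ, j, hj, hj0, hjx⟩ := exists_sim_pow hp hm hH hx φ
  obtain ⟨k, -, hk⟩ := hjs j hj hj0
  obtain ⟨χ, hχ, hχx⟩ := sim_conj ψ (y ^ k)
  refine ⟨χ, sim_trans hψ hχ, ?_⟩
  have hyk : ∀ k : ℕ, ∀ i : ℕ, y ^ k * x ^ i * (y ^ k)⁻¹ = x ^ (i * r ^ k) := by
    intro k
    induction k with
    | zero => intro i; simp
    | succ k ih =>
      intro i
      have h1 : y * x ^ i * y⁻¹ = x ^ (i * r) := by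
        rw [(SemiconjBy.pow_right hr i : y * x ^ i = (x ^ r) ^ i * y), mul_inv_cancel_right,
          mul_comm i r, pow_mul]
      rw [pow_succ, show y ^ k * y * x ^ i * (y ^ k * y)⁻¹ = y ^ k * (y * x ^ i * y⁻¹) * (y ^ k)⁻¹ by
        group, h1, ih]
      congr 1
      ring
  have hxp : x ^ p = 1 := by rw [← hx]; exact pow_orderOf_eq_one x
  rw [hχx, hjx, hyk, pow_eq_pow_mod _ hxp]
  rcases hk with h | h
  · left; rw [h, pow_one]
  · right
    rw [h, eq_inv_iff_mul_eq_one, ← pow_succ, show p - 1 + 1 = p by have := hp.two_le; omega, hxp]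

theorem rel_of_sign {ψ : MulAut H} {x y : H} {r : ℕ} (hψ : ψ x = x ∨ ψ x = x⁻¹)
    (hr : y * x = x ^ r * y) : ψ y * x = x ^ r * ψ y := by
  have h := congrArg ψ hr
  rw [map_mul, map_mul, map_pow] at h
  rcases hψ with e | e
  · rwa [e] at h
  · rw [e, inv_pow] at h
    calc ψ y * x = x ^ r * ((x ^ r)⁻¹ * ψ y) * x := by group
      _ = x ^ r * (ψ y * x⁻¹) * x := by rw [h]
      _ = x ^ r * ψ y := by group

/-- fix the image of a second generator -/
theorem exists_sim_fix {lv : List Level} (hc : chainCheck [] lv = true)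
    (hmem : ∀ T ∈ elts lv, permOf T ∈ H) (hcard : Nat.card H = size lv)
    {px py q r rep : ℕ} {es sols : List ℕ}
    (hs : solveCheck lv px q rep es sols = true)
    (htab : sols.all (fun s => (List.range 24).any fun k =>
      sameWord (s :: List.replicate k px) (List.replicate k px ++ [py])) = true)
    (hpy : valid py = true) (hq : sameWord (List.replicate r px) [q] = true)
    {x y : H} (hx : (x : Equiv.Perm GolayPt) = permOf px) (hy : (y : Equiv.Perm GolayPt) = permOf py)
    (hr : y * x = x ^ r * y) {ψ : MulAut H} (hψ : ψ x = x ∨ ψ x = x⁻¹) :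
    ∃ χ, Sim ψ χ ∧ χ x = ψ x ∧ χ y = y := by
  have hs' := hs
  simp only [solveCheck, Bool.and_eq_true] at hs'
  have hvx : valid px = true := hs'.1.1.1.1.1
  have hvq : valid q = true := hs'.1.1.1.1.2
  have hrel := congrArg (fun g : H => (g : Equiv.Perm GolayPt)) (rel_of_sign hψ hr)
  simp only [Subgroup.coe_mul, Subgroup.coe_pow, hx, permOf_pow_eq hvx hvq hq] at hrel
  obtain ⟨s, hsm, hsy⟩ := exists_sol hc hmem hcard hs (ψ y).2 hrel
  simp only [List.all_eq_true, List.any_eq_true, List.mem_range] at htab
  obtain ⟨k, -, hk⟩ := htab s hsm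
  have hvs : valid s = true := List.all_eq_true.1 hs'.1.1.2 s hsm
  have hword := prod_eq_of_sameWord (l := s :: List.replicate k px)
    (by intro P hP; rcases List.mem_cons.1 hP with rfl | hP
        · exact hvs
        · rw [List.eq_of_mem_replicate hP]; exact hvx)
    (by intro P hP; rcases List.mem_append.1 hP with hP | hP
        · rw [List.eq_of_mem_replicate hP]; exact hvx
        · rw [List.mem_singleton.1 hP]; exact hpy) hk
  simp only [List.map_cons, List.map_append, List.map_replicate, List.prod_cons, List.prod_append,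
    List.prod_replicate, List.map_nil, List.prod_nil, mul_one] at hword
  obtain ⟨χ, hχ, hχx⟩ := sim_conj ψ (x ^ k)⁻¹
  refine ⟨χ, hχ, ?_, ?_⟩
  · rw [hχx]
    rcases hψ with e | e <;> rw [e] <;> group
  · apply Subtype.ext
    rw [hχx]
    simp only [Subgroup.coe_mul, Subgroup.coe_inv, Subgroup.coe_pow, inv_inv, hx, hy]
    rw [hsy, mul_assoc, hword, inv_mul_cancel_left]

/-- generation from a straight-line program -/
theorem closure_eq_top {lv : List Level} (hc : chainCheck [] lv = true)
    (hmem : ∀ T ∈ elts lv, permOf T ∈ H) (hcard : Nat.card H = size lv)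
    (F : List ℕ) (steps : List (ℕ × ℕ × ℕ)) (S : Set H) (hFv : ∀ P ∈ F, valid P = true)
    (hF : ∀ P ∈ F, ∃ g ∈ S, (g : Equiv.Perm GolayPt) = permOf P)
    (hslp : slpCheck F steps = true)
    (hsub : (elts lv).all (fun T => valid T && (F ++ steps.map fun s => s.2.2).elem T) = true) :
    Subgroup.closure S = ⊤ := by
  simp only [List.all_eq_true, Bool.and_eq_true, List.elem_iff] at hsub
  have hK : H ≤ (Subgroup.closure S).map H.subtype := by
    refine le_of_elts hc hmem hcard (fun T hT => (hsub T hT).1) fun T hT => ?_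
    refine mem_of_slp steps F (fun P hP => ⟨hFv P hP, ?_⟩) hslp T (hsub T hT).2
    obtain ⟨g, hg, hgP⟩ := hF P hP
    exact ⟨g, Subgroup.subset_closure hg, hgP⟩
  rw [eq_top_iff]
  intro g _
  obtain ⟨g', hg', e⟩ := hK g.2
  rwa [← Subtype.ext (a1 := g') e]

end Cfsg.Agent.GolayOutTool
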