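import Mathlib
import Cfsg.Agent.Lib.GolayOutTool

/-!
Generators of the five groups used for the automorphism bounds, as elements.
-/

set_option autoImplicit false

namespace Cfsg.Agent.GolayOutConst

open Cfsg Cfsg.Agent.GolayBasic Cfsg.Agent.GolayPerm Cfsg.Agent.GolayChain Cfsg.Agent.GolaySolve
open Cfsg.Agent.GolayOutTool

/-- `t ↦ 2t` -/
def pT : ℕ := 983435072843990828779021698901151808
/-- the inverse of `pT` -/
def pTinv : ℕ := 970567384681219435340729552166356352
/-- square of `pT` -/
def pT2 : ℕ := 980668730378935070469623699575545984
/-- fourth power of `pT` -/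
def pT4 : ℕ := 965063883269089610517257152230401536
/-- `t ↦ t + 1` -/
def pZ : ℕ := 956302485175575353788796878166559809
/-- the inverse of `pZ` -/
def pZinv : ℕ := 983478296959358443554250846857397270
/-- square of `pZ` -/
def pZ2 : ℕ := 956709441910203461498593497208492130
/-- element of order five normalising `pT` -/
def pU : ℕ := 965300289861748889990672440075108384
/-- square of `pU` -/
def pU2 : ℕ := 978076899444677511050001024522036256
/-- element of order ten normalising `pT` -/
def pU10 : ℕ := 15678632630496079850456276719587511
/-- involution commuting with `pU` -/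
def pC : ℕ := 234127864083396158983920601914215425
/-- element of order four normalising `pU`, fixing `0` and the dodecad -/
def pV11 : ℕ := 232652365823391711183829569059784736
/-- element of order four normalising `pU`, fixing `0` and the extra point -/
def pV22 : ℕ := 971592914598343034710976577235617952

theorem orderOf_eq_of_word {P n : ℕ} (hv : valid P = true) (hn : n.Prime)
    (h : isId (List.replicate n P) = true) (h1 : isId [P] = false) : orderOf (permOf P) = n := by
  have : Fact n.Prime := ⟨hn⟩
  refine orderOf_eq_prime ?_ fun e => ?_
  · have := (prod_eq_one_iff (l := List.replicate n P) (fun Q hQ => by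
      rw [List.eq_of_mem_replicate hQ]; exact hv)).2 h
    simpa using this
  · have := (prod_eq_one_iff (l := [P]) (by simpa using hv)).1 (by simpa using e)
    rw [h1] at this
    exact Bool.noConfusion this

/-- `permOf` of two encodings of mutually inverse permutations -/
theorem inv_eq_of_word {P Q : ℕ} (hP : valid P = true) (hQ : valid Q = true)
    (h : isId [P, Q] = true) : (permOf P)⁻¹ = permOf Q := by
  have := (prod_eq_one_iff (l := [P, Q]) (fun R hR => by
    rcases List.mem_cons.1 hR with rfl | hR
    · exact hP
    · rw [List.mem_singleton.1 hR]; exact hQ)).2 h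
  simp only [List.map_cons, List.map_nil, List.prod_cons, List.prod_nil, mul_one] at this
  exact inv_eq_of_mul_eq_one_right this

/-- a relation `y x = x ^ r y` from words -/
theorem rel_of_word {H : Subgroup (Equiv.Perm GolayPt)} {x y : H} {P Q r : ℕ}
    (hx : (x : Equiv.Perm GolayPt) = permOf P) (hy : (y : Equiv.Perm GolayPt) = permOf Q)
    (hP : valid P = true) (hQ : valid Q = true)
    (h : sameWord [Q, P] (List.replicate r P ++ [Q]) = true) : y * x = x ^ r * y := by
  apply Subtype.ext
  have := prod_eq_of_sameWord (l := [Q, P]) (l' := List.replicate r P ++ [Q])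
    (fun R hR => by
      rcases List.mem_cons.1 hR with rfl | hR
      · exact hQ
      · rw [List.mem_singleton.1 hR]; exact hP)
    (fun R hR => by
      rcases List.mem_append.1 hR with hR | hR
      · rw [List.eq_of_mem_replicate hR]; exact hP
      · rw [List.mem_singleton.1 hR]; exact hQ) h
  simp only [Subgroup.coe_mul, Subgroup.coe_pow, hx, hy]
  simpa using this

end Cfsg.Agent.GolayOutConst
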