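import Mathlib
import Cfsg.Agent.Lib.GolayOutConst
import Cfsg.Agent.Lib.GolayOutDataM24

/-!
A criterion for conjugation by an outside element to be an outer automorphism.
-/

set_option autoImplicit false

namespace Cfsg.Agent.GolayOutOuter

open Cfsg Cfsg.Agent.GolayBasic Cfsg.Agent.GolayPerm Cfsg.Agent.GolayChain Cfsg.Agent.GolaySolve
open Cfsg.Agent.GolayOutConst Cfsg.Agent.GolayOutDataM24

/-- conjugation by an element normalising a subgroup -/
def autOf {G : Type*} [Group G] {H : Subgroup G} (s : G) (h : ∀ g, g ∈ H ↔ s * g * s⁻¹ ∈ H) :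
    MulAut H where
  toFun g := ⟨s * g * s⁻¹, (h g).1 g.2⟩
  invFun g := ⟨s⁻¹ * g * s, (h _).2 (by simp [mul_assoc])⟩
  left_inv g := Subtype.ext (by simp [mul_assoc])
  right_inv g := Subtype.ext (by simp [mul_assoc])
  map_mul' g g' := Subtype.ext (by simp [mul_assoc])

theorem chainT24 : chainCheck [] lvT = true := by decide +kernel

theorem solsCent_valid : ∀ a ∈ solsCent, valid a = true := by decide +kernel

theorem exists_cent_T {x : Equiv.Perm GolayPt} (hx : x ∈ M24)
    (h : x * permOf pT = permOf pT * x) : ∃ a ∈ solsCent, x = permOf a := by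
  refine exists_sol chainT24 (fun T hT => ?_) ?_ (x := pT) (y := pT) (r := 1) (es := esCent)
    (by decide +kernel) hx h
  · exact permOf_mem_M24 (List.all_eq_true.1
      (by decide +kernel : (elts lvT).all good = true) T hT)
  · rw [GolayM24.card_M24]; decide +kernel

theorem not_mem_inn {H : Subgroup (Equiv.Perm GolayPt)} {gT : H} (s : Equiv.Perm GolayPt)
    (hn : ∀ g, g ∈ H ↔ s * g * s⁻¹ ∈ H) (hs : s ∈ M24)
    (h : ∀ g ∈ H, ∀ x ∈ M24, x * (gT : Equiv.Perm GolayPt) = (gT : Equiv.Perm GolayPt) * x →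
      s = g * x → False) (hH : H ≤ M24) : autOf s hn ∉ Inn H := by
  rintro ⟨g, hg⟩
  have h1 : (g : Equiv.Perm GolayPt) * gT * (g : Equiv.Perm GolayPt)⁻¹ = s * gT * s⁻¹ :=
    congrArg (fun φ : MulAut H => ((φ gT : H) : Equiv.Perm GolayPt)) hg
  refine h g g.2 ((g : Equiv.Perm GolayPt)⁻¹ * s) (mul_mem (inv_mem (hH g.2)) hs) ?_ ?_
  · calc (g : Equiv.Perm GolayPt)⁻¹ * s * gT
        = (g : Equiv.Perm GolayPt)⁻¹ * (s * gT * s⁻¹) * s := by group
      _ = gT * ((g : Equiv.Perm GolayPt)⁻¹ * s) := by rw [← h1]; group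
  · group

end Cfsg.Agent.GolayOutOuter
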