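import Mathlib
import Cfsg.Agent.Lib.GolayOutConst
import Cfsg.Agent.Lib.GolayOutDataM12
import Cfsg.Agent.Lib.GolayStab
import Cfsg.Agent.Lib.GolayOutOuter

/-!
The outer automorphism group of the Mathieu group of degree 12 has order two.
-/

set_option autoImplicit false

namespace Cfsg.Agent.GolayOutM12

open Cfsg Cfsg.Agent.GolayBasic Cfsg.Agent.GolayPerm Cfsg.Agent.GolayChain Cfsg.Agent.GolaySolve
open Cfsg.Agent.GolayOutGen Cfsg.Agent.GolayOutTool Cfsg.Agent.GolayOutConst
open Cfsg.Agent.GolayOutDataM12 Cfsg.Agent.GolayOutOuter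
open scoped Pointwise

theorem chainT : chainCheck [] lvT = true := by decide +kernel

theorem chainU : chainCheck [] lvU = true := by decide +kernel

theorem memT : ∀ T ∈ elts lvT, permOf T ∈ Spor.M12 := fun T hT =>
  mem_M12_of_check (List.all_eq_true.1
    (by decide +kernel : (elts lvT).all (memCheck [] 340831) = true) T hT)

theorem memU : ∀ T ∈ elts lvU, permOf T ∈ Spor.M12 := fun T hT =>
  mem_M12_of_check (List.all_eq_true.1
    (by decide +kernel : (elts lvU).all (memCheck [] 340831) = true) T hT)

theorem sizeT : Nat.card Spor.M12 = size lvT := by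
  rw [GolayM24.card_M12]; decide +kernel

theorem sizeU : Nat.card Spor.M12 = size lvU := by
  rw [GolayM24.card_M12]; decide +kernel

/-- generator of order eleven -/
noncomputable def gT : Spor.M12 := ⟨permOf pT, mem_M12_of_check (by decide +kernel)⟩

/-- element of order five -/
noncomputable def gU : Spor.M12 := ⟨permOf pU, mem_M12_of_check (by decide +kernel)⟩

/-- second generator -/
noncomputable def gC : Spor.M12 := ⟨permOf pC, mem_M12_of_check (by decide +kernel)⟩

theorem closure_gens : Subgroup.closure ({gT, gC} : Set Spor.M12) = ⊤ := by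
  refine closure_eq_top chainT memT sizeT [pT, pC] steps _ (by decide +kernel) ?_
    (by decide +kernel) (by decide +kernel)
  intro P hP
  rcases List.mem_cons.1 hP with rfl | hP
  · exact ⟨gT, Set.mem_insert _ _, rfl⟩
  · rw [List.mem_singleton.1 hP]; exact ⟨gC, Set.mem_insert_of_mem _ rfl, rfl⟩

open scoped Classical in
/-- the images under the outer automorphism in normal form -/
noncomputable def flipT (x : Spor.M12) : Spor.M12 := if x = gT then gT⁻¹ else x

theorem exists_normal_form (φ : MulAut Spor.M12) :
    ∃ ψ, Sim φ ψ ∧ ((∀ x ∈ ({gT, gC} : Set Spor.M12), ψ x = x) ∨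
      ∀ x ∈ ({gT, gC} : Set Spor.M12), ψ x = flipT x) := by
  have hrT : gU * gT = gT ^ 4 * gU :=
    rel_of_word (P := pT) (Q := pU) rfl rfl (by decide +kernel) (by decide +kernel)
      (by decide +kernel)
  have hrU : gC * gU = gU ^ 1 * gC :=
    rel_of_word (P := pU) (Q := pC) rfl rfl (by decide +kernel) (by decide +kernel)
      (by decide +kernel)
  obtain ⟨ψ, hψ, hsign⟩ := exists_sim_sign (p := 11) (m := 8640) (by norm_num) (by norm_num)
    (by rw [GolayM24.card_M12]) (x := gT) (y := gU)
    ((Subgroup.orderOf_coe gT).symm.trans (orderOf_eq_of_word (P := pT) (by decide +kernel)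
      (by norm_num) (by decide +kernel) (by decide +kernel)))
    hrT (by decide) φ
  obtain ⟨χ, hχ, hχT, hχU⟩ := exists_sim_fix chainT memT sizeT (px := pT) (py := pU) (q := pT4)
    (r := 4) (rep := 1) (es := esU) (sols := solsU) (by decide +kernel) (by decide +kernel)
    (by decide +kernel) (by decide +kernel) (x := gT) (y := gU) rfl rfl hrT hsign
  refine ⟨χ, sim_trans hψ hχ, ?_⟩
  have hrel := congrArg (fun g : Spor.M12 => (g : Equiv.Perm GolayPt))
    (rel_of_sign (Or.inl hχU) hrU)
  simp only [Subgroup.coe_mul, Subgroup.coe_pow, pow_one] at hrel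
  obtain ⟨s, hs, hsC⟩ := exists_sol chainU memU sizeU (x := pU) (y := pU) (r := 2) (es := esC)
    (sols := solsC) (by decide +kernel) (χ gC).2 hrel
  have hv : valid s = true := (by decide +kernel : ∀ s ∈ solsC, valid s = true) s hs
  have hsq : isId [s, s] = true := by
    rw [← prod_eq_one_iff (by simp [hv])]
    have h1 : gC * gC = 1 := Subtype.ext (by
      have := (prod_eq_one_iff (l := [pC, pC]) (by decide +kernel)).2 (by decide +kernel)
      simpa [gC] using this)
    have h2 := congrArg (fun g : Spor.M12 => (g : Equiv.Perm GolayPt)) (congrArg χ h1)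
    simp only [map_mul, map_one, Subgroup.coe_mul, Subgroup.coe_one, hsC] at h2
    simpa using h2
  have hne1 : isId [s] = false := by
    rw [Bool.eq_false_iff]
    intro h
    have h' := (prod_eq_one_iff (l := [s]) (by simpa using hv)).2 h
    have : χ gC = 1 := Subtype.ext (by rw [hsC]; simpa using h')
    rw [EmbeddingLike.map_eq_one_iff] at this
    have h2 := congrArg (fun g : Spor.M12 => (g : Equiv.Perm GolayPt)) this
    have := (prod_eq_one_iff (l := [pC]) (by decide +kernel)).1 (by simpa [gC] using h2)
    exact absurd this (by decide +kernel)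
  have key : ∀ s ∈ solsC, isId [s, s] = true → isId [s] = false → s = pC := by decide +kernel
  obtain rfl := key s hs hsq hne1
  have hne : gC ≠ gT := fun h => by
    have := congrArg (fun g : Spor.M12 => idx ((g : Equiv.Perm GolayPt) (pt 1))) h
    simp only [gC, gT] at this
    rw [idx_permOf (by decide +kernel), idx_permOf (by decide +kernel)] at this
    exact absurd this (by decide +kernel)
  rcases hsign with h | h
  · left
    intro x hx
    rcases hx with rfl | rfl
    · rw [hχT, h]
    · exact Subtype.ext hsC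
  · right
    intro x hx
    rcases hx with rfl | rfl
    · rw [flipT, if_pos rfl, hχT, h]
    · rw [flipT, if_neg hne]
      exact Subtype.ext hsC

theorem card_out : Nat.card (Out Spor.M12) = 2 := by
  have hD := GolayM24.squareDodecad_mem
  have hc : (Spor.squareDodecad)ᶜ ∈ dodecads :=
    ⟨compl_mem_supports hD.1, by rw [Finset.card_compl, hD.2]; simp⟩
  obtain ⟨s, hs, hsD⟩ := GolayM24.exists_smul_eq_dodecad hc
  have hmem : ∀ g, g ∈ Spor.M12 ↔ g ∈ M24 ∧ g • Spor.squareDodecad = Spor.squareDodecad := fun g => by
    rw [GolayM24.mem_M12, GolayM24.squareDodecad_eq]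
  have hcompl : ∀ (g : Equiv.Perm GolayPt) (a : Finset GolayPt), g • aᶜ = (g • a)ᶜ := fun g a => by
    ext p
    simp [← Finset.inv_smul_mem_iff]
  have hn : ∀ g, g ∈ Spor.M12 ↔ s * g * s⁻¹ ∈ Spor.M12 := by
    intro g
    have e1 : s⁻¹ • Spor.squareDodecad = (Spor.squareDodecad)ᶜ := by
      rw [inv_smul_eq_iff, hcompl, hsD, compl_compl]
    rw [hmem, hmem, mul_smul, mul_smul, e1, hcompl]
    constructor
    · rintro ⟨hg, a⟩
      exact ⟨mul_mem (mul_mem hs hg) (inv_mem hs), by rw [a, hcompl, hsD, compl_compl]⟩
    · rintro ⟨hg, a⟩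
      refine ⟨by simpa [mul_assoc] using mul_mem (mul_mem (inv_mem hs) hg) hs, ?_⟩
      rw [← eq_inv_smul_iff, e1] at a
      exact compl_injective a
  refine card_out_eq_two closure_gens flipT exists_normal_form (autOf s hn) ?_
  refine not_mem_inn (gT := gT) s hn hs (fun g hg x hx hcomm e => ?_) fun g hg => ((hmem g).1 hg).1
  obtain ⟨a, ha, rfl⟩ := exists_cent_T hx hcomm
  have haD : permOf a • Spor.squareDodecad = Spor.squareDodecad := by
    rw [GolayM24.squareDodecad_eq, smul_mset (solsCent_valid a ha)]
    exact congrArg mset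
      ((by decide +kernel : ∀ a ∈ GolayOutDataM24.solsCent, pmask a 340831 = 340831) a ha)
  have h1 : s • Spor.squareDodecad = Spor.squareDodecad := by
    rw [e, mul_smul, haD, ((hmem g).1 hg).2]
  rw [hsD] at h1
  have h2 : (none : GolayPt) ∉ mset 340831 := by decide +kernel
  rw [← GolayM24.squareDodecad_eq] at h2
  exact h2 (h1 ▸ Finset.mem_compl.2 h2)

end Cfsg.Agent.GolayOutM12
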