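import Cfsg.Agent.Lib.M12Inv51ConcreteCheck
import Cfsg.Agent.Lib.GolayOutM12
import Cfsg.Agent.Lib.GolayEnumComp
import Cfsg.Prelude.Def_SporadicB

/-!
The Mathieu group of degree twelve contains the table as the centralizer of a central involution.
-/

set_option autoImplicit false
set_option maxRecDepth 100000
set_option Elab.async false

namespace Cfsg.Agent.M12Inv51

open Cfsg Cfsg.Agent.GolayBasic Cfsg.Agent.GolayPerm Cfsg.Agent.GolayEnumComp Cfsg.Agent.GolaySolve
open Cfsg.Agent.GolayOutConst Cfsg.Agent.M12Inv51Data Cfsg.Agent.M12Inv51ClassData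

/-- The members inside the group. -/
noncomputable def cg (i : Ix) : Spor.M12 :=
  ⟨permOf (code i), mem_M12_of_check (code_mem i)⟩

theorem code_valid (i : Ix) : valid (code i) = true := (memCheck_spec (code_mem i)).1

theorem cg_mul (i j : Ix) : cg (mul i j) = cg i * cg j :=
  Subtype.ext (permOf_code_mul _ i j rfl)

theorem cg_inj : Function.Injective cg := by
  intro i j e
  have h := eq_of_permOf_eq (code_valid i) (code_valid j) (code_canon i) (code_canon j)
    (congrArg Subtype.val e)
  unfold code at h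
  have hi : i.1 < codes.length := by rw [codes_nodup.2]; exact i.2
  have hj : j.1 < codes.length := by rw [codes_nodup.2]; exact j.2
  rw [List.getD_eq_getElem _ _ hi, List.getD_eq_getElem _ _ hj] at h
  exact Fin.ext ((codes_nodup.1.getElem_inj_iff).1 h)

theorem orbit_conj (k : Nat) (hk : k < 495) :
    ∃ g : Spor.M12, ((g * cg zI * g⁻¹ : Spor.M12) : Equiv.Perm GolayPt) =
      permOf (orbit.getD k (0, 0, false)).1 := by
  induction k using Nat.strong_induction_on with
  | _ k ih =>
    have h := steps_ok ⟨k, hk⟩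
    simp only [stepOK, Bool.and_eq_true, beq_iff_eq] at h
    obtain ⟨⟨hv, -⟩, h⟩ := h
    by_cases h0 : k = 0
    · rw [if_pos h0, beq_iff_eq] at h
      exact ⟨1, by rw [one_mul, inv_one, mul_one, h]; rfl⟩
    · rw [if_neg h0, Bool.and_eq_true, decide_eq_true_eq] at h
      obtain ⟨hp, h⟩ := h
      obtain ⟨g, hg⟩ := ih _ hp (hp.trans hk)
      obtain ⟨hmT, hmC, hvi, hTi, hCC, hvid⟩ := gen_checks
      have hpv : valid (orbit.getD (orbit.getD k (0, 0, false)).2.1 (0, 0, false)).1 = true := by
        have h' := steps_ok ⟨_, hp.trans hk⟩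
        simp only [stepOK, Bool.and_eq_true] at h'
        exact h'.1.1
      have hmid := mid_valid ⟨_, hp.trans hk⟩
      cases hb : (orbit.getD k (0, 0, false)).2.2 with
      | false =>
        rw [hb, if_neg (by simp), beq_iff_eq] at h
        refine ⟨⟨permOf pT, mem_M12_of_check hmT⟩ * g, ?_⟩
        have hvT := (memCheck_spec hmT).1
        have hinv : (permOf pT)⁻¹ = permOf pTinv := by
          refine inv_eq_of_mul_eq_one_right ?_
          rw [← permOf_pcomp hvT hvi hvid hTi.symm, permOf_idP]
        simp only [Subgroup.coe_mul, Subgroup.coe_inv, mul_inv_rev]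
        rw [show ∀ a b c d : Equiv.Perm GolayPt, a * b * c * (d * a⁻¹) = a * (b * c * d) * a⁻¹ from
          fun a b c d => by group]
        simp only [Subgroup.coe_mul, Subgroup.coe_inv] at hg
        rw [hg, hinv, ← permOf_pcomp hvT hpv hmid.1 rfl, permOf_pcomp hmid.1 hvi hv h]
      | true =>
        rw [hb, if_pos rfl, beq_iff_eq] at h
        refine ⟨⟨permOf pC, mem_M12_of_check hmC⟩ * g, ?_⟩
        have hvC := (memCheck_spec hmC).1
        have hinv : (permOf pC)⁻¹ = permOf pC := by
          refine inv_eq_of_mul_eq_one_right ?_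
          rw [← permOf_pcomp hvC hvC hvid hCC.symm, permOf_idP]
        simp only [Subgroup.coe_mul, Subgroup.coe_inv, mul_inv_rev]
        rw [show ∀ a b c d : Equiv.Perm GolayPt, a * b * c * (d * a⁻¹) = a * (b * c * d) * a⁻¹ from
          fun a b c d => by group]
        simp only [Subgroup.coe_mul, Subgroup.coe_inv] at hg
        rw [hg, hinv, ← permOf_pcomp hvC hpv hmid.2 rfl, permOf_pcomp hmid.2 hvC hv h]

theorem card_class_ge : 495 ≤ Nat.card {x : Spor.M12 // IsConj (cg zI) x} := by
  classical
  obtain ⟨hs, hl, hol, hsub⟩ := sorted_check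
  have hnd := (incrFrom_spec _ _ hs).1
  let T : Finset Nat := sorted.toFinset
  have key : ∀ a : T, ∃ x : {x : Spor.M12 // IsConj (cg zI) x},
      ((x.1 : Spor.M12) : Equiv.Perm GolayPt) = permOf a.1 ∧ valid a.1 = true ∧
        pcomp a.1 idP = a.1 := by
    rintro ⟨a, ha⟩
    have hm := List.elem_iff.1 (List.all_eq_true.1 hsub a (List.mem_toFinset.1 ha))
    obtain ⟨e, he, rfl⟩ := List.mem_map.1 hm
    obtain ⟨k, hk, rfl⟩ := List.mem_iff_getElem.1 he
    obtain ⟨g, hg⟩ := orbit_conj k (hol ▸ hk)
    have h' := steps_ok ⟨k, hol ▸ hk⟩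
    simp only [stepOK, Bool.and_eq_true, beq_iff_eq] at h'
    rw [List.getD_eq_getElem _ _ hk] at h' hg
    exact ⟨⟨g * cg zI * g⁻¹, isConj_iff.2 ⟨g, rfl⟩⟩, hg, h'.1.1, h'.1.2⟩
  choose x hx using key
  have hinj : Function.Injective x := fun a b e => Subtype.ext (eq_of_permOf_eq (hx a).2.1
    (hx b).2.1 (hx a).2.2 (hx b).2.2 (by rw [← (hx a).1, ← (hx b).1, e]))
  have := Nat.card_le_card_of_injective x hinj
  rwa [Nat.card_eq_finsetCard, List.toFinset_card_of_nodup hnd, hl] at this

theorem card_centralizer_le :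
    Nat.card (Subgroup.centralizer ({cg zI} : Set Spor.M12)) ≤ 192 := by
  have h := (MulAction.stabilizer (ConjAct Spor.M12) (cg zI)).card_mul_index
  rw [MulAction.index_stabilizer] at h
  have hG : Nat.card (ConjAct Spor.M12) = 95040 :=
    (Nat.card_congr ConjAct.ofConjAct.toEquiv).trans GolayM24.card_M12
  have e1 : MulAction.orbit (ConjAct Spor.M12) (cg zI) = {x | IsConj (cg zI) x} := by
    ext x
    rw [ConjAct.mem_orbit_conjAct]
    exact isConj_comm
  have e2 : Nat.card (MulAction.stabilizer (ConjAct Spor.M12) (cg zI)) =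
      Nat.card (Subgroup.centralizer ({cg zI} : Set Spor.M12)) := by
    rw [Subgroup.centralizer_eq_comap_stabilizer]
    exact Nat.card_congr
      { toFun := fun a => ⟨ConjAct.ofConjAct a.1, Subgroup.mem_comap.2 a.2⟩
        invFun := fun a => ⟨ConjAct.toConjAct a.1, a.2⟩
        left_inv := fun a => rfl
        right_inv := fun a => rfl }
  rw [hG, e1, e2, ← Nat.card_coe_set_eq] at h
  have h495 : 495 ≤ Nat.card ↑{x : Spor.M12 | IsConj (cg zI) x} := card_class_ge
  nlinarith

/-- The frame inside the group. -/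
noncomputable def frameM12 : Frame Spor.M12 where
  f := cg
  inj := cg_inj
  map_mul := cg_mul
  cent := by
    classical
    intro g
    have hz : ∀ i : Ix, comm i zI = true := by decide +kernel
    have hmem : ∀ i, cg i ∈ Subgroup.centralizer ({cg zI} : Set Spor.M12) := fun i =>
      Subgroup.mem_centralizer_singleton_iff.2 (by rw [← cg_mul, ← cg_mul, comm_iff.1 (hz i)])
    let F : Ix → Subgroup.centralizer ({cg zI} : Set Spor.M12) := fun i => ⟨cg i, hmem i⟩
    have hF : Function.Injective F := fun i j e => cg_inj (congrArg Subtype.val e)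
    have hb : Function.Bijective F := by
      refine (Nat.bijective_iff_injective_and_card F).2 ⟨hF, le_antisymm
        (Nat.card_le_card_of_injective F hF) ?_⟩
      rw [Nat.card_fin]; exact card_centralizer_le
    constructor
    · intro h
      obtain ⟨i, hi⟩ := hb.2 ⟨g, Subgroup.mem_centralizer_singleton_iff.2 h⟩
      exact ⟨i, congrArg Subtype.val hi⟩
    · rintro ⟨i, rfl⟩
      exact Subgroup.mem_centralizer_singleton_iff.1 (hmem i)

end Cfsg.Agent.M12Inv51
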