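import Cfsg.Agent.Lib.M12Inv51Pres
import Cfsg.Agent.Lib.M12Inv51Concrete
import Cfsg.Agent.Lib.GolaySimple

/-!
A simple group with the centralizer of a central involution is the Mathieu group of degree twelve.
-/

set_option autoImplicit false
set_option maxRecDepth 100000
set_option synthInstance.maxSize 8000

namespace Cfsg.Agent.M12Inv51

open Cfsg Cfsg.Agent.M12Inv51Data

theorem center_facts : (∀ j : Ix, (∀ i : Ix, comm j i = true) → j = 0 ∨ j = zI) ∧
    comm uI cI = false := by decide +kernel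

theorem M12_not_comm : ¬ IsMulCommutative Spor.M12 := fun h => by
  have h1 : frameM12.f uI * frameM12.f cI = frameM12.f cI * frameM12.f uI := h.is_comm.comm _ _
  rw [frameM12.commute_iff, center_facts.2] at h1
  exact Bool.false_ne_true h1

theorem rels_of {G : Type*} [Group G] {F : Frame G} {N : NExt F} {m : G} (h : MRel N m) :
    Rels F.f N.n m :=
  ⟨F.map_mul, N.sq, N.map, N.cube, h.sq, h.com_u, h.com_t, h.com_n, h.braid, h.link⟩

theorem Rels.prod {A B : Type*} [Group A] [Group B] {f : Ix → A} {n m : A} {f' : Ix → B}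
    {n' m' : B} (R : Rels f n m) (R' : Rels f' n' m') :
    Rels (fun i => (f i, f' i)) (n, n') (m, m') where
  map_mul a c := Prod.ext (R.map_mul a c) (R'.map_mul a c)
  nsq := Prod.ext R.nsq R'.nsq
  nmap x hx := Prod.ext (R.nmap x hx) (R'.nmap x hx)
  cube := Prod.ext R.cube R'.cube
  msq := Prod.ext R.msq R'.msq
  com_u := Prod.ext R.com_u R'.com_u
  com_t := Prod.ext R.com_t R'.com_t
  com_n := Prod.ext R.com_n R'.com_n
  braid := Prod.ext R.braid R'.braid
  link := Prod.ext R.link R'.link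

theorem Rels.restrict {A : Type*} [Group A] {K : Subgroup A} {f : Ix → K} {n m : K}
    (R : Rels (fun i => (f i : A)) n.1 m.1) : Rels f n m where
  map_mul a c := Subtype.ext (R.map_mul a c)
  nsq := Subtype.ext R.nsq
  nmap x hx := Subtype.ext (R.nmap x hx)
  cube := Subtype.ext R.cube
  msq := Subtype.ext R.msq
  com_u := Subtype.ext R.com_u
  com_t := Subtype.ext R.com_t
  com_n := Subtype.ext R.com_n
  braid := Subtype.ext R.braid
  link := Subtype.ext R.link

/-- A two-central involution is conjugate to the distinguished one. -/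
theorem exists_conj_zI {u : Spor.M12} (hu : IsTwoCentralInvolution u) :
    ∃ g : Spor.M12, g * u * g⁻¹ = cg zI := by
  haveI : Fact (Nat.Prime 2) := ⟨Nat.prime_two⟩
  obtain ⟨hu2, P, huP, hc⟩ := hu
  obtain ⟨g, hg⟩ := MulAction.exists_smul_eq Spor.M12 P frameM12.sylow
  refine ⟨g, ?_⟩
  have hmem : ∀ x ∈ P, g * x * g⁻¹ ∈ frameM12.sylow := fun x hx => by
    rw [← hg, Sylow.smul_def]
    exact Subgroup.smul_mem_pointwise_smul x (MulAut.conj g) P.toSubgroup hx
  obtain ⟨j, -, hj⟩ := frameM12.mem_sylow.1 (hmem u huP)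
  have hall : (sIs.all fun i => comm j i) = true := by
    rw [List.all_eq_true]
    intro i hi
    have h1 : frameM12.f i ∈ g • (P : Sylow 2 Spor.M12) := hg ▸ frameM12.mem_sylow.2 ⟨i, hi, rfl⟩
    rw [Sylow.smul_def] at h1
    obtain ⟨x, hx, hxi⟩ := h1
    have hxi' : g * x * g⁻¹ = frameM12.f i := hxi
    rw [← frameM12.commute_iff, hj, ← hxi']
    calc g * u * g⁻¹ * (g * x * g⁻¹) = g * (u * x) * g⁻¹ := by group
      _ = g * (x * u) * g⁻¹ := by rw [hc x hx]
      _ = _ := by group
  rcases sS_center j hall with rfl | rfl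
  · exfalso
    rw [frameM12.map_one, eq_comm, conj_eq_one_iff] at hj
    rw [hj, orderOf_one] at hu2
    omega
  · exact hj.symm

/-- The frame transported by an isomorphism of centralizers. -/
theorem exists_frame {G : Type*} [Group G] (u : Spor.M12) (hu : IsTwoCentralInvolution u) (t : G)
    (ht : orderOf t = 2) (e : ↥(Subgroup.centralizer ({t} : Set G)) ≃*
      ↥(Subgroup.centralizer ({u} : Set Spor.M12))) : Nonempty (Frame G) := by
  obtain ⟨g, hg⟩ := exists_conj_zI hu
  have hu' : u = g⁻¹ * cg zI * g := by rw [← hg]; group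
  have hmem : ∀ i, g⁻¹ * cg i * g ∈ Subgroup.centralizer ({u} : Set Spor.M12) := fun i => by
    rw [Subgroup.mem_centralizer_singleton_iff, hu']
    calc g⁻¹ * cg i * g * (g⁻¹ * cg zI * g) = g⁻¹ * (cg i * cg zI) * g := by group
      _ = g⁻¹ * (cg zI * cg i) * g := by rw [show cg i * cg zI = cg zI * cg i from frameM12.commute_z i]
      _ = _ := by group
  let h : Ix → Subgroup.centralizer ({u} : Set Spor.M12) := fun i => ⟨g⁻¹ * cg i * g, hmem i⟩
  have hsurj : ∀ y, ∃ i, h i = y := by
    rintro ⟨y, hy⟩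
    rw [Subgroup.mem_centralizer_singleton_iff, hu'] at hy
    obtain ⟨i, hi⟩ := frameM12.exists_of_commute (g := g * y * g⁻¹) (by
      show g * y * g⁻¹ * cg zI = cg zI * (g * y * g⁻¹)
      calc g * y * g⁻¹ * cg zI = g * (y * (g⁻¹ * cg zI * g)) * g⁻¹ := by group
        _ = g * (g⁻¹ * cg zI * g * y) * g⁻¹ := by rw [hy]
        _ = _ := by group)
    exact ⟨i, Subtype.ext (show g⁻¹ * cg i * g = y by
      rw [show cg i = g * y * g⁻¹ from hi]; group)⟩
  have hinj : Function.Injective h := fun i j he => cg_inj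
    (mul_left_cancel (mul_right_cancel (congrArg Subtype.val he)))
  have hmul : ∀ a c, h (mul a c) = h a * h c := fun a c => Subtype.ext (by
    show g⁻¹ * cg (mul a c) * g = g⁻¹ * cg a * g * (g⁻¹ * cg c * g)
    rw [cg_mul]; group)
  let T : Subgroup.centralizer ({t} : Set G) := ⟨t, Subgroup.mem_centralizer_singleton_iff.2 rfl⟩
  obtain ⟨j, hj⟩ := hsurj (e T)
  have hT : T = e.symm (h zI) := by
    have hall : ∀ i, comm j i = true := fun i => by
      have hc : ∀ c, e T * c = c * e T := fun c => by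
        obtain ⟨d, rfl⟩ := e.surjective c
        rw [← map_mul, ← map_mul]
        exact congrArg e (Subtype.ext (Subgroup.mem_centralizer_singleton_iff.1 d.2).symm)
      have h2 := hc (h i)
      rw [← hj, ← hmul, ← hmul] at h2
      exact comm_iff.2 (hinj h2)
    rcases center_facts.1 j hall with rfl | rfl
    · exfalso
      have h0 : h 0 = 1 := Subtype.ext (by
        show g⁻¹ * frameM12.f 0 * g = 1
        rw [frameM12.map_one]; group)
      rw [h0] at hj
      have : (T : G) = 1 := by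
        rw [(e.map_eq_one_iff.1 hj.symm : T = 1)]; rfl
      rw [show t = 1 from this, orderOf_one] at ht
      omega
    · rw [hj, MulEquiv.symm_apply_apply]
  refine ⟨⟨fun i => (e.symm (h i)).1, fun a c he => hinj (e.symm.injective (Subtype.ext he)),
    fun a c => by rw [hmul, map_mul]; rfl, fun x => ?_⟩⟩
  show x * (e.symm (h zI)).1 = (e.symm (h zI)).1 * x ↔ _
  rw [← hT]
  constructor
  · intro hx
    obtain ⟨i, hi⟩ := hsurj (e ⟨x, Subgroup.mem_centralizer_singleton_iff.2 hx⟩)
    exact ⟨i, by rw [hi, MulEquiv.symm_apply_apply]⟩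
  · rintro ⟨i, rfl⟩
    exact Subgroup.mem_centralizer_singleton_iff.1 (e.symm (h i)).2

/-- The identification. -/
theorem iso_M12 {G : Type*} [Group G] [Finite G] [IsSimpleGroup G] (hG : ¬ IsMulCommutative G)
    (F : Frame G) : Spor.IsoM12 G := by
  haveI := GolaySimple.isSimpleGroup_M12
  obtain ⟨F1, N1, m1, h1, hgen1⟩ := exists_generators hG F
  obtain ⟨F2, N2, m2, h2, hgen2⟩ := exists_generators M12_not_comm frameM12
  set S : Set (G × Spor.M12) :=
    Set.range (fun i => (F1.f i, F2.f i)) ∪ {(N1.n, N2.n), (m1, m2)} with hS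
  let Γ := Subgroup.closure S
  let f' : Ix → Γ := fun i => ⟨(F1.f i, F2.f i), Subgroup.subset_closure (Or.inl ⟨i, rfl⟩)⟩
  let n' : Γ := ⟨(N1.n, N2.n), Subgroup.subset_closure (Or.inr (Or.inl rfl))⟩
  let m' : Γ := ⟨(m1, m2), Subgroup.subset_closure (Or.inr (Or.inr rfl))⟩
  have R : Rels f' n' m' := Rels.restrict ((rels_of h1).prod (rels_of h2))
  have hcard : Nat.card Γ ≤ 192 * 495 := by
    refine R.card_le ?_
    rw [eq_top_iff, ← Subgroup.closure_closure_coe_preimage (k := S), Subgroup.closure_le]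
    rintro ⟨x, hx⟩ (⟨i, rfl⟩ | rfl | rfl)
    · exact Subgroup.subset_closure (Or.inl ⟨i, rfl⟩)
    · exact Subgroup.subset_closure (Or.inr (Or.inl rfl))
    · exact Subgroup.subset_closure (Or.inr (Or.inr rfl))
  let π : Γ →* Spor.M12 := (MonoidHom.snd G Spor.M12).comp Γ.subtype
  have hπ : Function.Surjective π := by
    rw [← MonoidHom.range_eq_top, eq_top_iff, ← hgen2, Subgroup.closure_le]
    rintro x (⟨i, rfl⟩ | rfl | rfl)
    exacts [⟨f' i, rfl⟩, ⟨n', rfl⟩, ⟨m', rfl⟩]
  have hM : Nat.card Spor.M12 = 95040 := GolayM24.card_M12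
  have hbij : Function.Bijective π := by
    refine (Nat.bijective_iff_surjective_and_card π).2 ⟨hπ, le_antisymm ?_
      (Nat.card_le_card_of_surjective π hπ)⟩
    rw [hM]; exact hcard
  let e := MulEquiv.ofBijective π hbij
  let ψ : Spor.M12 →* G := ((MonoidHom.fst G Spor.M12).comp Γ.subtype).comp e.symm.toMonoidHom
  have hfst : Function.Surjective ((MonoidHom.fst G Spor.M12).comp Γ.subtype) := by
    rw [← MonoidHom.range_eq_top, eq_top_iff, ← hgen1, Subgroup.closure_le]
    rintro x (⟨i, rfl⟩ | rfl | rfl)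
    exacts [⟨f' i, rfl⟩, ⟨n', rfl⟩, ⟨m', rfl⟩]
  have hψ : Function.Surjective ψ := fun x => by
    obtain ⟨w, hw⟩ := hfst x
    refine ⟨e w, ?_⟩
    show ((MonoidHom.fst G Spor.M12).comp Γ.subtype) (e.symm (e w)) = x
    rw [e.symm_apply_apply, hw]
  have hker : ψ.ker = ⊥ := by
    refine ((inferInstance : ψ.ker.Normal).eq_bot_or_eq_top).resolve_right fun htop => ?_
    obtain ⟨x, hx⟩ := exists_ne (1 : G)
    obtain ⟨y, rfl⟩ := hψ x
    exact hx (MonoidHom.mem_ker.1 (htop ▸ Subgroup.mem_top y))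
  exact ⟨(MulEquiv.ofBijective ψ ⟨(MonoidHom.ker_eq_bot_iff ψ).1 hker, hψ⟩).symm⟩

end Cfsg.Agent.M12Inv51
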