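import Cfsg.Agent.Lib.AN82Final
import Cfsg.Agent.Lib.AN16Kinds
import Cfsg.Agent.Lib.AN46Simple
import Cfsg.Agent.Lib.AN63Fusion
import Cfsg.Agent.Lib.AN36Amalgam
import Cfsg.Agent.Lib.M12Inv51Iso

/-!
# S3344: assembling the pieces
-/

set_option autoImplicit false
set_option maxRecDepth 100000

namespace Cfsg.Agent.AN82

open Cfsg

theorem cnum_zero : ∀ u : Ix, inQ u = true → u ≠ zI → mul 0 u u = 0 → u ≠ 0 → cnum 0 u = 32 := by
  decide +kernel

theorem cnum_six : ∀ u ∈ ([36, 54, 90, 132, 150, 186] : List Ix), cnum 2 u = 32 := by decide +kernel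

variable {G : Type*} [Group G] [Finite G]

/-- The classification from a frame and a fused member, given the order of `G` in the first case. -/
theorem classify (card_cases : IsSimpleGroup G → ¬ IsMulCommutative G → ∀ {F : Frame 0 G}, Good F →
      Nat.card G = 20160 ∨ Nat.card G = 181440)
    {k : Kind} (F : Frame k G) (u : Ix) (hu : inQ u = true) (hz : u ≠ zI)
    (hc : IsConj F.z (F.f u)) :
    (∃ (N : Subgroup G) (hN : N.Normal), IsMulCommutative N ∧ (∀ n ∈ N, n ^ 2 = 1) ∧ Nat.card N = 8 ∧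
        Nonempty (G ⧸ N ≃* Matrix.ProjectiveSpecialLinearGroup (Fin 3) (ZMod 2))) ∨
    Nonempty (G ≃* alternatingGroup (Fin 8)) ∨ Nonempty (G ≃* alternatingGroup (Fin 9)) ∨
      Cfsg.Spor.IsoM12 G := by
  have hk : k = 0 ∨ k = 1 ∨ k = 2 ∨ k = 3 :=
    (by decide : ∀ j : Kind, j = 0 ∨ j = 1 ∨ j = 2 ∨ j = 3) k
  obtain ⟨c, hgc⟩ := isConj_iff.1 hc
  have hu0 : u ≠ 0 := by
    rintro rfl
    rw [F.map_one] at hgc
    exact F.z_ne_one (conj_eq_one_iff.1 hgc)
  have hu2 : mul k u u = 0 := by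
    rw [← F.sq_eq_one_iff, ← hgc, conj_mul, F.z_sq]
    group
  rcases hk with rfl | rfl | rfl | rfl
  · rcases AN46Simple.normal_eight_or_simple (Or.inl rfl) F u hz (cnum_zero u hu hz hu2 hu0) hc with
      h | ⟨hS, hG⟩
    · exact Or.inl h
    haveI := hS
    obtain ⟨F', ⟨g⟩⟩ := AN63.exists_good hG F ⟨u, hu, hz, hc⟩
    obtain ⟨G0, ⟨e0⟩, -⟩ := exists_alt8 g.toPair
    exact Or.inr ((alt_eight_or_nine e0 (card_cases hS hG g)).imp id Or.inl)
  · exact absurd hc (not_odd_kind (Or.inl rfl) F u hu hz)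
  · rcases AN46Simple.normal_eight_or_simple (Or.inr rfl) F u hz
      (cnum_six u (orbit_six F hu hz hc)) hc with h | ⟨hS, hG⟩
    · exact Or.inl h
    haveI := hS
    obtain ⟨F2⟩ := toM12 F
    exact Or.inr (Or.inr (Or.inr (M12Inv51.iso_M12 hG F2)))
  · exact absurd hc (not_odd_kind (Or.inr rfl) F u hu hz)

end Cfsg.Agent.AN82
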