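import Mathlib

/-!
# S3344: a simple group with a subgroup `Alt(8)` and order `20160` or `181440`
-/

set_option autoImplicit false

namespace Cfsg.Agent.AN82

open Equiv

variable {G : Type*} [Group G] [Finite G]

theorem card_alt_eight : Nat.card (alternatingGroup (Fin 8)) = 20160 := by
  rw [nat_card_alternatingGroup, Nat.card_fin]; rfl

/-- `G ≅ Alt(8)` or `G ≅ Alt(9)`. -/
theorem alt_eight_or_nine [IsSimpleGroup G] {G0 : Subgroup G}
    (e : G0 ≃* alternatingGroup (Fin 8)) (hcard : Nat.card G = 20160 ∨ Nat.card G = 181440) :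
    Nonempty (G ≃* alternatingGroup (Fin 8)) ∨ Nonempty (G ≃* alternatingGroup (Fin 9)) := by
  classical
  have h0 : Nat.card G0 = 20160 := by rw [Nat.card_congr e.toEquiv, card_alt_eight]
  rcases hcard with h | h
  · have htop : G0 = ⊤ := Subgroup.card_eq_iff_eq_top G0 |>.1 (h0.trans h.symm)
    exact Or.inl ⟨(Subgroup.topEquiv.symm.trans (MulEquiv.subgroupCongr htop.symm)).trans e⟩
  · right
    have hidx : G0.index = 9 := by
      have := G0.card_mul_index
      rw [h0, h] at this
      omega
    have hne : G0 ≠ ⊤ := fun hh => by rw [hh, Subgroup.index_top] at hidx; omega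
    haveI : Finite (G ⧸ G0) := inferInstance
    let e9 : (G ⧸ G0) ≃ Fin 9 := Finite.equivFinOfCardEq (by rw [← Subgroup.index_eq_card, hidx])
    let ψ : G →* Equiv.Perm (Fin 9) :=
      (e9.permCongrHom.toMonoidHom).comp (MulAction.toPermHom G (G ⧸ G0))
    have hker : ψ.ker = ⊥ := by
      rcases IsSimpleGroup.eq_bot_or_eq_top_of_normal ψ.ker ψ.normal_ker with hk | hk
      · exact hk
      exfalso
      refine hne (top_le_iff.1 fun g _ => ?_)
      have hg : g ∈ ψ.ker := hk ▸ Subgroup.mem_top g
      have h1 : MulAction.toPermHom G (G ⧸ G0) g = 1 := by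
        apply e9.permCongrHom.injective
        rw [map_one]
        exact hg
      have h2 := Equiv.Perm.congr_fun h1 ((1 : G) : G ⧸ G0)
      simp only [MulAction.toPermHom_apply, MulAction.toPerm_apply, Perm.coe_one, id_eq,
        MulAction.Quotient.smul_coe, smul_eq_mul, mul_one] at h2
      rwa [QuotientGroup.eq, mul_one, inv_mem_iff] at h2
    have hinj : Function.Injective ψ := (MonoidHom.ker_eq_bot_iff ψ).1 hker
    have hr : ψ.range = alternatingGroup (Fin 9) := by
      apply Equiv.Perm.eq_alternatingGroup_of_index_eq_two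
      have hc : Nat.card ψ.range = 181440 := by
        rw [← Nat.card_congr (MonoidHom.ofInjective hinj).toEquiv, h]
      have hp : Nat.card (Equiv.Perm (Fin 9)) = 362880 := by
        rw [Nat.card_perm, Nat.card_fin]; rfl
      have := ψ.range.card_mul_index
      rw [hc, hp] at this
      omega
    exact ⟨(MonoidHom.ofInjective hinj).trans (MulEquiv.subgroupCongr hr)⟩

end Cfsg.Agent.AN82
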