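import Mathlib

/-!
Averaging over a coprime abelian group `W` against the norm of an element `a` of prime order
acting on `W` without fixed points.
-/

set_option autoImplicit false

namespace Cfsg.Agent.AbelCent88Avg

variable {X V : Type*} [Group X] [AddCommGroup V] (ρ : X →* AddMonoid.End V)

theorem act_mul (x y : X) (v : V) : ρ (x * y) v = ρ x (ρ y v) := by
  rw [map_mul]; rfl

theorem act_one (v : V) : ρ 1 v = v := by
  rw [map_one]; rfl

theorem act_inv_self (x : X) (v : V) : ρ x (ρ x⁻¹ v) = v := by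
  rw [← act_mul, mul_inv_cancel, act_one]

theorem act_fixed_inv {x : X} {v : V} (h : ρ x v = v) : ρ x⁻¹ v = v := by
  conv_lhs => rw [← h]
  rw [← act_mul, inv_mul_cancel, act_one]

/-- The orbit sum of `v` under the powers of `a`. -/
def nsum (a : X) (q : ℕ) (v : V) : V := ∑ i ∈ Finset.range q, ρ (a ^ i) v

theorem act_nsum {a : X} {q : ℕ} (ha : a ^ q = 1) (v : V) :
    ρ a (nsum ρ a q v) = nsum ρ a q v := by
  have h0 : ρ a (nsum ρ a q v) = ∑ i ∈ Finset.range q, ρ (a ^ (i + 1)) v := by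
    rw [nsum, map_sum]
    exact Finset.sum_congr rfl fun i _ => by rw [pow_succ', act_mul]
  rw [h0, nsum]
  rcases q with _ | n
  · simp
  · rw [Finset.sum_range_succ, Finset.sum_range_succ' (fun i => ρ (a ^ i) v) n, ha, pow_zero]

theorem mem_of_nsmul_mem [Finite V] (H : AddSubgroup V) {n : ℕ} (h : n.Coprime (Nat.card V))
    {u : V} (hu : n • u ∈ H) : u ∈ H := by
  have h0 : Nat.card V • u = 0 := card_nsmul_eq_zero'
  have hb := Nat.gcd_eq_gcd_ab n (Nat.card V)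
  rw [h.gcd_eq_one] at hb
  have : u = n.gcdA (Nat.card V) • (n • u) + n.gcdB (Nat.card V) • (Nat.card V • u) := by
    rw [← natCast_zsmul u n, ← natCast_zsmul u (Nat.card V), ← mul_zsmul, ← mul_zsmul, ← add_zsmul]
    conv_lhs => rw [← one_zsmul u]
    congr 1
    push_cast at hb
    linarith
  rw [this, h0, smul_zero, add_zero]
  exact H.zsmul_mem hu _

theorem eq_of_nsmul_eq [Finite V] {n : ℕ} (h : n.Coprime (Nat.card V)) {u w : V}
    (hu : n • u = n • w) : u = w := by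
  refine sub_eq_zero.1 ((AddSubgroup.mem_bot).1 (mem_of_nsmul_mem ⊥ h ?_))
  rw [AddSubgroup.mem_bot, smul_sub, hu, sub_self]

variable {W : Subgroup X} [Fintype W]

theorem act_sum {z : X} (hz : z ∈ W) (u : V) :
    ρ z (∑ x : W, ρ (x : X) u) = ∑ x : W, ρ (x : X) u := by
  rw [map_sum]
  calc ∑ x : W, ρ z (ρ (x : X) u) = ∑ x : W, ρ (((⟨z, hz⟩ : W) * x : W) : X) u :=
        Finset.sum_congr rfl fun x _ => (act_mul ρ z x u).symm
    _ = ∑ x : W, ρ (x : X) u :=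
        Equiv.sum_comp (Equiv.mulLeft (⟨z, hz⟩ : W)) (fun x : W => ρ (x : X) u)

theorem sum_conj (hW : ∀ x ∈ W, ∀ y ∈ W, x * y = y * x) {g : X}
    (hg : ∀ x ∈ W, g * x * g⁻¹ ∈ W) (hfix : ∀ x ∈ W, g * x = x * g → x = 1) (v : V) :
    ∑ x : W, ρ (x : X) (ρ g (ρ (x : X)⁻¹ v)) = ∑ x : W, ρ (x : X) (ρ g v) := by
  let f : W → W := fun x => x * ⟨g * (x : X)⁻¹ * g⁻¹, hg _ (inv_mem x.2)⟩
  have hinj : Function.Injective f := by
    intro x y hxy
    have h1 : (x : X) * (g * (x : X)⁻¹ * g⁻¹) = y * (g * (y : X)⁻¹ * g⁻¹) :=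
      congrArg Subtype.val hxy
    have h2 : (y : X)⁻¹ * x = g * ((y : X)⁻¹ * x) * g⁻¹ := by
      have h3 : g * ((y : X)⁻¹ * x) * g⁻¹ =
          (g * (y : X)⁻¹ * g⁻¹) * (g * (x : X)⁻¹ * g⁻¹)⁻¹ := by group
      rw [h3]
      calc (y : X)⁻¹ * x
          = (y : X)⁻¹ * ((x : X) * (g * (x : X)⁻¹ * g⁻¹)) * (g * (x : X)⁻¹ * g⁻¹)⁻¹ := by group
        _ = (g * (y : X)⁻¹ * g⁻¹) * (g * (x : X)⁻¹ * g⁻¹)⁻¹ := by rw [h1]; group
    have h4 : g * ((y : X)⁻¹ * x) = (y : X)⁻¹ * x * g := mul_inv_eq_iff_eq_mul.1 h2.symm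
    exact Subtype.ext (inv_mul_eq_one.1 (hfix _ (mul_mem (inv_mem y.2) x.2) h4)).symm
  let e : W ≃ W := Equiv.ofBijective f (Finite.injective_iff_bijective.1 hinj)
  calc ∑ x : W, ρ (x : X) (ρ g (ρ (x : X)⁻¹ v)) = ∑ x : W, ρ ((e x : W) : X) (ρ g v) := by
        refine Finset.sum_congr rfl fun x _ => ?_
        rw [← act_mul, ← act_mul, ← act_mul]
        congr 2
        change _ = (x : X) * (g * (x : X)⁻¹ * g⁻¹) * g
        group
    _ = ∑ x : W, ρ (x : X) (ρ g v) := Equiv.sum_comp e (fun x : W => ρ (x : X) (ρ g v))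

variable {a : X} {q : ℕ}

theorem fpf_pow (hq : q.Prime) (haq : a ^ q = 1)
    (ha : ∀ x ∈ W, a * x = x * a → x = 1) {i : ℕ} (h0 : 0 < i) (hi : i < q)
    {x : X} (hx : x ∈ W) (hc : a ^ i * x = x * a ^ i) : x = 1 := by
  refine ha x hx ?_
  have hco : i.Coprime q :=
    ((Nat.Prime.coprime_iff_not_dvd hq).2 fun h => by
      have := Nat.le_of_dvd h0 h; omega).symm
  obtain ⟨m, hm⟩ := exists_pow_eq_self_of_coprime (x := a)
    (hco.coprime_dvd_right (orderOf_dvd_of_pow_eq_one haq))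
  have h1 : Commute ((a ^ i) ^ m) x := (show Commute (a ^ i) x from hc).pow_left m
  rw [hm] at h1
  exact h1

theorem conj_pow_mem (haW : ∀ x ∈ W, a * x * a⁻¹ ∈ W) (i : ℕ) :
    ∀ x ∈ W, a ^ i * x * (a ^ i)⁻¹ ∈ W := by
  induction i with
  | zero => simp
  | succ i ih =>
    intro x hx
    have := haW _ (ih x hx)
    rw [pow_succ', mul_inv_rev]
    simpa [mul_assoc] using this

/-- The basic identity. -/
theorem key (hW : ∀ x ∈ W, ∀ y ∈ W, x * y = y * x) (haW : ∀ x ∈ W, a * x * a⁻¹ ∈ W)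
    (hq : q.Prime) (haq : a ^ q = 1) (ha : ∀ x ∈ W, a * x = x * a → x = 1) (v : V) :
    ∃ u, ∑ x : W, ρ (x : X) (nsum ρ a q (ρ (x : X)⁻¹ v)) =
      Nat.card W • v + ∑ x : W, ρ (x : X) u := by
  refine ⟨∑ i ∈ (Finset.range q).erase 0, ρ (a ^ i) v, ?_⟩
  have hsplit : ∀ x : W, ρ (x : X) (nsum ρ a q (ρ (x : X)⁻¹ v)) =
      ∑ i ∈ Finset.range q, ρ (x : X) (ρ (a ^ i) (ρ (x : X)⁻¹ v)) := fun x => by
    rw [nsum, map_sum]
  simp only [hsplit]
  rw [Finset.sum_comm, ← Finset.add_sum_erase _ _ (Finset.mem_range.2 hq.pos)]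
  congr 1
  · simp [act_one, act_inv_self, Nat.card_eq_fintype_card]
  · simp only [map_sum]
    rw [Finset.sum_comm (γ := W) (s := Finset.univ)]
    refine Finset.sum_congr rfl fun i hi => ?_
    obtain ⟨hi0, hiq⟩ := Finset.mem_erase.1 hi
    exact sum_conj ρ hW (conj_pow_mem haW i)
      (fun x hx hc => fpf_pow hq haq ha (Nat.pos_of_ne_zero hi0) (Finset.mem_range.1 hiq) hx hc) v

variable [Finite V]

/-- (a): an invariant subgroup containing the fixed vectors of `a` contains `[V,W]`. -/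
theorem sub_mem (hW : ∀ x ∈ W, ∀ y ∈ W, x * y = y * x) (haW : ∀ x ∈ W, a * x * a⁻¹ ∈ W)
    (hq : q.Prime) (haq : a ^ q = 1) (ha : ∀ x ∈ W, a * x = x * a → x = 1)
    (hcop : (Nat.card W).Coprime (Nat.card V)) (H : AddSubgroup V)
    (hH : ∀ z ∈ W, ∀ u ∈ H, ρ z u ∈ H) (hfix : ∀ u, ρ a u = u → u ∈ H)
    {z : X} (hz : z ∈ W) (v : V) : ρ z v - v ∈ H := by
  obtain ⟨u, hu⟩ := key ρ hW haW hq haq ha v
  refine mem_of_nsmul_mem H hcop ?_
  set L := ∑ x : W, ρ (x : X) (nsum ρ a q (ρ (x : X)⁻¹ v)) with hL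
  have hLH : L ∈ H := sum_mem fun x _ => hH _ x.2 _ (hfix _ (act_nsum ρ haq _))
  have h1 : ρ z L - L = Nat.card W • (ρ z v - v) := by
    rw [hu, map_add, map_nsmul, act_sum ρ hz, smul_sub]
    abel
  rw [← h1]
  exact AddSubgroup.sub_mem _ (hH z hz L hLH) hLH

/-- (b): an element commuting with `a` and `W` and fixing the fixed vectors of `a` fixes
`[V,W]`. -/
theorem fix_commutator (hW : ∀ x ∈ W, ∀ y ∈ W, x * y = y * x)
    (haW : ∀ x ∈ W, a * x * a⁻¹ ∈ W)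
    (hq : q.Prime) (haq : a ^ q = 1) (ha : ∀ x ∈ W, a * x = x * a → x = 1)
    (hcop : (Nat.card W).Coprime (Nat.card V)) {y : X} (hyW : ∀ x ∈ W, ρ y * ρ x = ρ x * ρ y)
    (hy : ∀ u, ρ a u = u → ρ y u = u) {z : X} (hz : z ∈ W) (v : V) :
    ρ y (ρ z v - v) = ρ z v - v := by
  obtain ⟨u, hu⟩ := key ρ hW haW hq haq ha v
  have hcomm : ∀ x ∈ W, ∀ w : V, ρ y (ρ x w) = ρ x (ρ y w) := fun x hx w =>
    DFunLike.congr_fun (hyW x hx) w
  set S := ∑ x : W, ρ (x : X) u with hS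
  have h1 : ρ y (Nat.card W • v + S) = Nat.card W • v + S := by
    rw [← hu, map_sum]
    exact Finset.sum_congr rfl fun x _ => by rw [hcomm _ x.2, hy _ (act_nsum ρ haq _)]
  rw [map_add, map_nsmul] at h1
  have h2 := congrArg (ρ z) h1
  rw [map_add, map_add, map_nsmul, map_nsmul, ← hcomm z hz S, hS, act_sum ρ hz, ← hS,
    ← hcomm z hz v] at h2
  have h3 : Nat.card W • (ρ y (ρ z v) - ρ y v) = Nat.card W • (ρ z v - v) := by
    rw [smul_sub, smul_sub]
    have h4 : (Nat.card W • ρ y (ρ z v) + ρ y S) - (Nat.card W • ρ y v + ρ y S) =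
        (Nat.card W • ρ z v + S) - (Nat.card W • v + S) := by rw [h2, h1]
    simpa using h4
  rw [map_sub]
  exact eq_of_nsmul_eq hcop h3

/-- (c): if `t` commutes with `a`, fixes the fixed vectors of `a`, and all `t a^i` act without
fixed points on `W`, then `W` is trivial on `V`. -/
theorem act_trivial (hW : ∀ x ∈ W, ∀ y ∈ W, x * y = y * x)
    (haW : ∀ x ∈ W, a * x * a⁻¹ ∈ W)
    (hq : q.Prime) (haq : a ^ q = 1) (ha : ∀ x ∈ W, a * x = x * a → x = 1)
    (hcop : (Nat.card W).Coprime (Nat.card V)) {t : X} (htW : ∀ x ∈ W, t * x * t⁻¹ ∈ W)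
    (hy : ∀ u, ρ a u = u → ρ t u = u)
    (hta : ∀ i, ∀ x ∈ W, t * a ^ i * x = x * (t * a ^ i) → x = 1)
    {z : X} (hz : z ∈ W) (v : V) : ρ z v = v := by
  obtain ⟨u, hu⟩ := key ρ hW haW hq haq ha v
  set L := ∑ x : W, ρ (x : X) (nsum ρ a q (ρ (x : X)⁻¹ v)) with hL
  have h1 : L = ∑ i ∈ Finset.range q, ∑ x : W, ρ (x : X) (ρ (t * a ^ i) v) := by
    calc L = ∑ x : W, ρ (x : X) (ρ t (nsum ρ a q (ρ (x : X)⁻¹ v))) :=
          Finset.sum_congr rfl fun x _ => by rw [hy _ (act_nsum ρ haq _)]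
      _ = ∑ x : W, ∑ i ∈ Finset.range q, ρ (x : X) (ρ (t * a ^ i) (ρ (x : X)⁻¹ v)) := by
          refine Finset.sum_congr rfl fun x _ => ?_
          rw [nsum, map_sum, map_sum]
          exact Finset.sum_congr rfl fun i _ => by rw [act_mul ρ t]
      _ = _ := by
          rw [Finset.sum_comm]
          refine Finset.sum_congr rfl fun i _ => sum_conj ρ hW (fun x hx => ?_) (hta i) v
          have := htW _ (conj_pow_mem haW i x hx)
          simpa [mul_assoc] using this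
  have h2 : ρ z L = L := by
    rw [h1, map_sum]
    exact Finset.sum_congr rfl fun i _ => act_sum ρ hz _
  rw [hu, map_add, map_nsmul, act_sum ρ hz] at h2
  exact eq_of_nsmul_eq hcop (add_right_cancel h2)

end Cfsg.Agent.AbelCent88Avg
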