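import Mathlib
import Cfsg.Agent.Lib.CoprimeGen
import Cfsg.Agent.Lib.SignalizerCoprime
import Cfsg.Agent.Lib.AbelCent88Avg

/-!
`A` noncyclic of exponent `q` acting on `R`, with `R` and `T` represented faithfully on an
abelian group `V` of coprime order: conditions on the fixed vectors force `[R,T] = 1`.
-/

set_option autoImplicit false

namespace Cfsg.Agent.AbelCent88Core

open Cfsg.Agent
open scoped commutatorElement
open Cfsg.Agent.AbelCent88Avg (act_mul act_one act_inv_self act_fixed_inv)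

variable {X V : Type*} [Group X] [AddCommGroup V] (ρ : X →* AddMonoid.End V)

/-- The pointwise stabilizer of a set of vectors. -/
def fixer (U : Set V) : Subgroup X where
  carrier := {g | ∀ u ∈ U, ρ g u = u}
  one_mem' u _ := act_one ρ u
  mul_mem' {g h} hg hh u hu := by rw [act_mul, hh u hu, hg u hu]
  inv_mem' {g} hg u hu := act_fixed_inv ρ (hg u hu)

/-- The vectors `z v - v`, `z ∈ W`. -/
def comSet (W : Subgroup X) : Set V := {u | ∃ z ∈ W, ∃ v, u = ρ z v - v}

theorem act_comSet {W : Subgroup X} {g : X} (hg : ∀ z ∈ W, g * z = z * g) {u : V}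
    (hu : u ∈ comSet ρ W) : ρ g u ∈ comSet ρ W := by
  obtain ⟨z, hz, v, rfl⟩ := hu
  refine ⟨z, hz, ρ g v, ?_⟩
  rw [map_sub, ← act_mul, hg z hz, act_mul]

/-- If `x` is `r * (t r t⁻¹)⁻¹` in an abelian group and commutes with `t`, then `x = 1`. -/
theorem eq_one_of_commute_commutator [Finite X] {W : Subgroup X} {t r : X}
    (hW : ∀ x ∈ W, ∀ y ∈ W, x * y = y * x) (ht : ∀ x ∈ W, t * x * t⁻¹ ∈ W) (hr : r ∈ W)
    (hcop : (orderOf t).Coprime (Nat.card W))
    (hc : t * (r * (t * r * t⁻¹)⁻¹) = r * (t * r * t⁻¹)⁻¹ * t) : r * (t * r * t⁻¹)⁻¹ = 1 := by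
  set x := r * (t * r * t⁻¹)⁻¹ with hx
  have hxW : x ∈ W := mul_mem hr (inv_mem (ht r hr))
  have hcj : ∀ j : ℕ, t * x ^ j * t⁻¹ = x ^ j := fun j =>
    mul_inv_eq_iff_eq_mul.2 ((show Commute t x from hc).pow_right j).eq
  have h : ∀ j : ℕ, x ^ j * (t ^ j * r * (t ^ j)⁻¹) = r := by
    intro j
    induction j with
    | zero => simp
    | succ j ih =>
      have h2 : x ^ j * (t ^ (j + 1) * r * (t ^ (j + 1))⁻¹) = t * r * t⁻¹ := by
        calc x ^ j * (t ^ (j + 1) * r * (t ^ (j + 1))⁻¹)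
            = t * x ^ j * t⁻¹ * (t ^ (j + 1) * r * (t ^ (j + 1))⁻¹) := by rw [hcj]
          _ = t * (x ^ j * (t ^ j * r * (t ^ j)⁻¹)) * t⁻¹ := by rw [pow_succ']; group
          _ = t * r * t⁻¹ := by rw [ih]
      rw [pow_succ', mul_assoc, h2, hx, inv_mul_cancel_right]
  have h1 := h (orderOf t)
  rw [pow_orderOf_eq_one, one_mul, inv_one, mul_one] at h1
  have h2 : orderOf x ∣ orderOf t :=
    orderOf_dvd_of_pow_eq_one (mul_right_cancel (h1.trans (one_mul r).symm))
  exact orderOf_eq_one_iff.1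
    (Nat.eq_one_of_dvd_coprimes hcop h2 (Subgroup.orderOf_dvd_natCard _ hxW))

/-- The subgroup `{r * (t r t⁻¹)⁻¹}` of an abelian group normalised by `t`. -/
def comGrp (R : Subgroup X) (hR : ∀ x ∈ R, ∀ y ∈ R, x * y = y * x) (t : X)
    (ht : ∀ x ∈ R, t * x * t⁻¹ ∈ R) : Subgroup X where
  carrier := {x | ∃ r ∈ R, x = r * (t * r * t⁻¹)⁻¹}
  one_mem' := ⟨1, one_mem R, by simp⟩
  mul_mem' := by
    rintro _ _ ⟨r, hr, rfl⟩ ⟨s, hs, rfl⟩
    refine ⟨r * s, mul_mem hr hs, ?_⟩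
    have h1 : t * (r * s) * t⁻¹ = t * r * t⁻¹ * (t * s * t⁻¹) := by group
    rw [h1, mul_inv_rev (t * r * t⁻¹), ← hR _ (inv_mem (ht r hr)) _ (inv_mem (ht s hs))]
    calc r * (t * r * t⁻¹)⁻¹ * (s * (t * s * t⁻¹)⁻¹)
        = r * ((t * r * t⁻¹)⁻¹ * s) * (t * s * t⁻¹)⁻¹ := by group
      _ = r * (s * (t * r * t⁻¹)⁻¹) * (t * s * t⁻¹)⁻¹ := by
          rw [hR _ (inv_mem (ht r hr)) _ hs]
      _ = r * s * ((t * r * t⁻¹)⁻¹ * (t * s * t⁻¹)⁻¹) := by group
  inv_mem' := by
    rintro _ ⟨r, hr, rfl⟩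
    refine ⟨r⁻¹, inv_mem hr, ?_⟩
    rw [mul_inv_rev, inv_inv]
    calc t * r * t⁻¹ * r⁻¹ = r⁻¹ * (t * r * t⁻¹) := hR _ (ht r hr) _ (inv_mem hr)
      _ = r⁻¹ * (t * r⁻¹ * t⁻¹)⁻¹ := by group

theorem comGrp_le {R : Subgroup X} (hR : ∀ x ∈ R, ∀ y ∈ R, x * y = y * x) (t : X)
    (ht : ∀ x ∈ R, t * x * t⁻¹ ∈ R) : comGrp R hR t ht ≤ R := by
  rintro _ ⟨r, hr, rfl⟩
  exact mul_mem hr (inv_mem (ht r hr))

theorem conj_mem_comGrp {R : Subgroup X} (hR : ∀ x ∈ R, ∀ y ∈ R, x * y = y * x) (t : X)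
    (ht : ∀ x ∈ R, t * x * t⁻¹ ∈ R) {g : X} (hg : ∀ x ∈ R, g * x * g⁻¹ ∈ R) (hgt : g * t = t * g)
    {x : X} (hx : x ∈ comGrp R hR t ht) : g * x * g⁻¹ ∈ comGrp R hR t ht := by
  obtain ⟨r, hr, rfl⟩ := hx
  refine ⟨g * r * g⁻¹, hg r hr, ?_⟩
  have h1 : t * (g * r * g⁻¹) * t⁻¹ = g * (t * r * t⁻¹) * g⁻¹ := by
    calc t * (g * r * g⁻¹) * t⁻¹ = (t * g) * r * (t * g)⁻¹ := by group
      _ = (g * t) * r * (g * t)⁻¹ := by rw [hgt]
      _ = g * (t * r * t⁻¹) * g⁻¹ := by group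
  rw [h1]
  group

variable [Finite X] [Finite V]

/-- An element fixing all `z v - v` (`z ∈ W`) includes no nontrivial `z` of coprime order. -/
theorem eq_one_of_mem_fixer (hinj : Function.Injective ρ) {W : Subgroup X} {z : X} (hz : z ∈ W)
    (hzf : z ∈ fixer ρ (comSet ρ W)) (hcop : (orderOf z).Coprime (Nat.card V)) : z = 1 := by
  refine hinj (AddMonoidHom.ext fun v => ?_)
  rw [map_one]
  change ρ z v = v
  have hd : ρ z (ρ z v - v) = ρ z v - v := hzf _ ⟨z, hz, v, rfl⟩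
  have h : ∀ n : ℕ, ρ (z ^ n) v = v + n • (ρ z v - v) := by
    intro n
    induction n with
    | zero => simp only [pow_zero, act_one, zero_smul, add_zero]
    | succ n ih =>
      rw [pow_succ', act_mul, ih, map_add, map_nsmul, hd, succ_nsmul]
      abel
  have h1 := h (orderOf z)
  rw [pow_orderOf_eq_one, act_one, left_eq_add] at h1
  exact sub_eq_zero.1 (AbelCent88Avg.eq_of_nsmul_eq hcop (h1.trans (smul_zero _).symm))

/-- The hypotheses on a group `R` acted on by `A` and `T`. -/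
structure Hyp (q : ℕ) (A T R : Subgroup X) (a : X) : Prop where
  nilp : Group.IsNilpotent R
  normA : A ≤ Subgroup.normalizer (R : Set X)
  normT : T ≤ Subgroup.normalizer (R : Set X)
  copA : (Nat.card A).Coprime (Nat.card R)
  copT : (Nat.card T).Coprime (Nat.card R)
  copV : (Nat.card R).Coprime (Nat.card V)
  fixT : R ⊓ Subgroup.centralizer {a} ≤ Subgroup.centralizer (T : Set X)
  fixl : ∀ l ∈ A, l ∉ Subgroup.zpowers a → (∀ y ∈ R ⊓ Subgroup.centralizer {l}, ∀ u,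
      ρ l u = u → ρ y u = u) ∧ R ⊓ Subgroup.centralizer {a} ⊓ Subgroup.centralizer {l} = ⊥

theorem mem_centralizer_singleton_iff {a x : X} :
    x ∈ Subgroup.centralizer ({a} : Set X) ↔ a * x = x * a := by
  rw [Subgroup.mem_centralizer_iff]
  simp

variable {q : ℕ} (hq : q.Prime) {A T : Subgroup X} [IsMulCommutative A] (hA : ¬ IsCyclic A)
  (hAq : ∀ l ∈ A, l ^ q = 1) {a : X} (ha : a ∈ A)
  (hAT : A ≤ Subgroup.normalizer (T : Set X)) (hTa : ∀ t ∈ T, t * a = a * t)
  (hTq : ¬ q ∣ Nat.card T) (hqA : q ∣ Nat.card A) (hTV : ∀ t ∈ T, ∀ u, ρ a u = u → ρ t u = u)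
  (hinj : Function.Injective ρ)

include hq hAq ha hTa hTq hqA hTV hinj in
/-- The abelian case. -/
theorem abelian_case {R : Subgroup X} (hR : Hyp ρ q A T R a)
    (hab : ∀ x ∈ R, ∀ y ∈ R, x * y = y * x) {t r : X} (ht : t ∈ T) (hr : r ∈ R) :
    t * r = r * t := by
  classical
  have htR : ∀ x ∈ R, t * x * t⁻¹ ∈ R := fun x hx => CoprimeAction.conj_mem (hR.normT ht) hx
  have haR : ∀ x ∈ R, a * x * a⁻¹ ∈ R := fun x hx => CoprimeAction.conj_mem (hR.normA ha) hx
  set W := comGrp R hab t htR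
  have hW : W ≤ R := comGrp_le hab t htR
  letI := Fintype.ofFinite W
  have hWc : ∀ x ∈ W, ∀ y ∈ W, x * y = y * x := fun x hx y hy => hab x (hW hx) y (hW hy)
  have haW : ∀ x ∈ W, a * x * a⁻¹ ∈ W := fun x hx =>
    conj_mem_comGrp hab t htR haR (hTa t ht).symm hx
  have htW : ∀ x ∈ W, t * x * t⁻¹ ∈ W := fun x hx => conj_mem_comGrp hab t htR htR rfl hx
  have htfpf : ∀ x ∈ W, t * x = x * t → x = 1 := by
    rintro x ⟨s, hs, rfl⟩ hc
    exact eq_one_of_commute_commutator hab htR hs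
      (hR.copT.coprime_dvd_left (Subgroup.orderOf_dvd_natCard _ ht)) hc
  have hafpf : ∀ x ∈ W, a * x = x * a → x = 1 := fun x hx hc => htfpf x hx
    (Subgroup.mem_centralizer_iff.1
      (hR.fixT ⟨hW hx, mem_centralizer_singleton_iff.2 hc⟩) t ht)
  have htafpf : ∀ i, ∀ x ∈ W, t * a ^ i * x = x * (t * a ^ i) → x = 1 := by
    intro i x hx hc
    have h1 : Commute ((t * a ^ i) ^ q) x := (show Commute (t * a ^ i) x from hc).pow_left q
    rw [((show Commute t a from hTa t ht).pow_right i).mul_pow, ← pow_mul, mul_comm i q, pow_mul,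
      hAq a ha, one_pow, mul_one] at h1
    obtain ⟨m, hm⟩ := exists_pow_eq_self_of_coprime (x := t) (n := q)
      (((Nat.Prime.coprime_iff_not_dvd hq).2 hTq).coprime_dvd_right
        (Subgroup.orderOf_dvd_natCard _ ht))
    have h2 := h1.pow_left m
    rw [hm] at h2
    exact htfpf x hx h2
  have hz : r * (t * r * t⁻¹)⁻¹ ∈ W := ⟨r, hr, rfl⟩
  have h1 : r * (t * r * t⁻¹)⁻¹ = 1 := by
    refine hinj (AddMonoidHom.ext fun v => ?_)
    rw [map_one]
    exact AbelCent88Avg.act_trivial ρ hWc haW hq (hAq a ha) hafpf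
      (hR.copV.coprime_dvd_left (Subgroup.card_dvd_of_le hW)) htW (hTV t ht) htafpf hz v
  exact mul_inv_eq_iff_eq_mul.1 (mul_inv_eq_one.1 h1).symm

include hq hA hAq ha hTa hTq hqA hTV hinj in
/-- If `R = [R,T]` then the centre-valued `R'` vanishes. -/
theorem commutator_eq_bot {R : Subgroup X} (hR : Hyp ρ q A T R a) (hfull : ⁅R, T⁆ = R)
    {Z : Subgroup X} (hZR : Z ≤ R) (hZA : A ≤ Subgroup.normalizer (Z : Set X))
    (hZc : ∀ z ∈ Z, ∀ r ∈ R, z * r = r * z) (hZT : ∀ z ∈ Z, ∀ t ∈ T, z * t = t * z) :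
    Z = ⊥ := by
  classical
  have hZab : ∀ x ∈ Z, ∀ y ∈ Z, x * y = y * x := fun x hx y hy => hZc x hx y (hZR hy)
  have haZ : ∀ x ∈ Z, a * x * a⁻¹ ∈ Z := fun x hx => CoprimeAction.conj_mem (hZA ha) hx
  have hordV : ∀ z ∈ R, (orderOf z).Coprime (Nat.card V) := fun z hz =>
    hR.copV.coprime_dvd_left (Subgroup.orderOf_dvd_natCard _ hz)
  -- `Z` commutes with `a`
  have hZa : ∀ z ∈ Z, a * z = z * a := by
    intro z hz
    set W := comGrp Z hZab a haZ
    have hW : W ≤ Z := comGrp_le hZab a haZ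
    letI := Fintype.ofFinite W
    have hWc : ∀ x ∈ W, ∀ y ∈ W, x * y = y * x := fun x hx y hy => hZab x (hW hx) y (hW hy)
    have hafpf : ∀ x ∈ W, a * x = x * a → x = 1 := by
      rintro x ⟨s, hs, rfl⟩ hc
      exact eq_one_of_commute_commutator hZab haZ hs
        ((hR.copA.coprime_dvd_left (Subgroup.orderOf_dvd_natCard _ ha)).coprime_dvd_right
          (Subgroup.card_dvd_of_le hZR)) hc
    have hTfix : ∀ t ∈ T, t ∈ fixer ρ (comSet ρ W) := by
      rintro t ht u ⟨w, hw, v, rfl⟩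
      exact AbelCent88Avg.fix_commutator ρ hWc
        (fun x hx => conj_mem_comGrp hZab a haZ haZ rfl hx) hq (hAq a ha) hafpf
        (hR.copV.coprime_dvd_left (Subgroup.card_dvd_of_le (hW.trans hZR)))
        (fun x hx => by rw [← map_mul, ← map_mul, (hZT x (hW hx) t ht).symm])
        (hTV t ht) hw v
    have hRfix : ⁅R, T⁆ ≤ fixer ρ (comSet ρ W) := by
      rw [Subgroup.commutator_le]
      intro r hr t ht u hu
      have hu' : ρ r⁻¹ u ∈ comSet ρ W :=
        act_comSet ρ (fun w hw => (hZc w (hW hw) _ (inv_mem hr)).symm) hu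
      rw [commutatorElement_def, act_mul, act_fixed_inv ρ (hTfix t ht u hu), act_mul, act_mul,
        hTfix t ht _ hu', act_inv_self]
    rw [hfull] at hRfix
    have hzW : z * (a * z * a⁻¹)⁻¹ ∈ W := ⟨z, hz, rfl⟩
    have h1 := eq_one_of_mem_fixer ρ hinj hzW (hRfix (hZR (hW hzW))) (hordV _ (hZR (hW hzW)))
    exact mul_inv_eq_iff_eq_mul.1 (mul_inv_eq_one.1 h1).symm
  -- `R` fixes `[V,Z]`
  letI := Fintype.ofFinite Z
  set S := R ⊓ fixer ρ (comSet ρ Z) with hS
  have hnorm : ∀ g, g ∈ Subgroup.normalizer (R : Set X) → (∀ z ∈ Z, g * z = z * g) →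
      ∀ s ∈ S, g * s * g⁻¹ ∈ S := by
    intro g hg hgc s hs
    refine ⟨CoprimeAction.conj_mem hg hs.1, fun u hu => ?_⟩
    have hu' : ρ g⁻¹ u ∈ comSet ρ Z :=
      act_comSet ρ (fun w hw => ((show Commute g w from hgc w hw).inv_left)) hu
    rw [act_mul, act_mul, hs.2 _ hu', act_inv_self]
  have hgen : R ≤ S ⊔ (R ⊓ Subgroup.centralizer {a}) := by
    refine CoprimeGen.le_of_centralizers hA hR.normA hR.copA fun l hl hl1 => ?_
    by_cases hla : l ∈ Subgroup.zpowers a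
    · refine le_trans (?_ : _ ≤ R ⊓ Subgroup.centralizer {a}) le_sup_right
      intro x hx
      refine ⟨hx.1, mem_centralizer_singleton_iff.2 ?_⟩
      obtain ⟨i, (rfl : a ^ i = l)⟩ := mem_powers_iff_mem_zpowers.2 hla
      have hco : i.Coprime (orderOf a) := by
        refine Nat.Coprime.coprime_dvd_right (orderOf_dvd_of_pow_eq_one (hAq a ha)) ?_
        refine ((Nat.Prime.coprime_iff_not_dvd hq).2 fun hd => hl1 ?_).symm
        obtain ⟨c, rfl⟩ := hd
        rw [pow_mul, hAq a ha, one_pow]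
      obtain ⟨m, hm⟩ := exists_pow_eq_self_of_coprime hco
      have h1 := (show Commute (a ^ i) x from mem_centralizer_singleton_iff.1 hx.2).pow_left m
      rw [hm] at h1
      exact h1
    · refine le_trans (?_ : _ ≤ S) le_sup_left
      intro y hy
      refine ⟨hy.1, ?_⟩
      rintro u ⟨z, hz, v, rfl⟩
      exact AbelCent88Avg.fix_commutator ρ hZab
        (fun x hx => CoprimeAction.conj_mem (hZA hl) hx) hq (hAq l hl)
        (fun x hx hc => by
          have : x ∈ R ⊓ Subgroup.centralizer {a} ⊓ Subgroup.centralizer {l} :=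
            ⟨⟨hZR hx, mem_centralizer_singleton_iff.2 (hZa x hx)⟩,
              mem_centralizer_singleton_iff.2 hc⟩
          rwa [(hR.fixl l hl hla).2, Subgroup.mem_bot] at this)
        (hR.copV.coprime_dvd_left (Subgroup.card_dvd_of_le hZR))
        (fun x hx => by rw [← map_mul, ← map_mul, (hZc x hx y hy.1).symm])
        ((hR.fixl l hl hla).1 y hy) hz v
  have hRS : R ≤ S := by
    nth_rw 1 [← hfull]
    rw [Subgroup.commutator_le]
    intro r hr t ht
    have hCS : R ⊓ Subgroup.centralizer {a} ≤ Subgroup.normalizer (S : Set X) :=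
      CoprimeAction.le_normalizer_of_conj_mem fun g hg s hs =>
        hnorm g (Subgroup.le_normalizer hg.1) (fun z hz => (hZc z hz g hg.1).symm) s hs
    have hr' : r ∈ (↑(S ⊔ (R ⊓ Subgroup.centralizer {a})) : Set X) := hgen hr
    rw [Subgroup.coe_mul_of_right_le_normalizer_left S _ hCS] at hr'
    obtain ⟨s, hs, c, hc, rfl⟩ := hr'
    have htc : t * c = c * t := Subgroup.mem_centralizer_iff.1 (hR.fixT hc) t ht
    have h1 : ⁅s * c, t⁆ = s * (t * s⁻¹ * t⁻¹) := by
      rw [commutatorElement_def]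
      calc s * c * t * (s * c)⁻¹ * t⁻¹ = s * (c * t) * c⁻¹ * s⁻¹ * t⁻¹ := by group
        _ = s * (t * c) * c⁻¹ * s⁻¹ * t⁻¹ := by rw [htc]
        _ = _ := by group
    rw [h1]
    exact S.mul_mem hs (hnorm t (hR.normT ht) (fun z hz => (hZT z hz t ht).symm) _ (S.inv_mem hs))
  rw [Subgroup.eq_bot_iff_forall]
  intro z hz
  exact eq_one_of_mem_fixer ρ hinj hz (hRS (hZR hz)).2 (hordV z (hZR hz))

omit [Finite V] in
theorem Hyp.mono {R R' : Subgroup X} (hR : Hyp ρ q A T R a) (h : R' ≤ R)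
    (hA' : A ≤ Subgroup.normalizer (R' : Set X)) (hT' : T ≤ Subgroup.normalizer (R' : Set X)) :
    Hyp ρ q A T R' a where
  nilp := have := hR.nilp; Group.nilpotent_of_mulEquiv (Subgroup.subgroupOfEquivOfLe h)
  normA := hA'
  normT := hT'
  copA := hR.copA.coprime_dvd_right (Subgroup.card_dvd_of_le h)
  copT := hR.copT.coprime_dvd_right (Subgroup.card_dvd_of_le h)
  copV := hR.copV.coprime_dvd_left (Subgroup.card_dvd_of_le h)
  fixT := (inf_le_inf_right _ h).trans hR.fixT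
  fixl l hl hla := ⟨fun y hy => (hR.fixl l hl hla).1 y ⟨h hy.1, hy.2⟩,
    le_bot_iff.1 ((inf_le_inf_right _ (inf_le_inf_right _ h)).trans (hR.fixl l hl hla).2.le)⟩

include hq hA hAq ha hAT hTa hTq hqA hTV hinj in
theorem core {R : Subgroup X} (hR : Hyp ρ q A T R a) : ⁅R, T⁆ = ⊥ := by
  induction hn : Nat.card R using Nat.strong_induction_on generalizing R with
  | _ n ih =>
  have := hR.nilp
  have hsolv : Group.IsSolvable R := inferInstance
  have hlt : ∀ R' : Subgroup X, R' ≤ R → R' ≠ R → A ≤ Subgroup.normalizer (R' : Set X) →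
      T ≤ Subgroup.normalizer (R' : Set X) → ⁅R', T⁆ = ⊥ := by
    intro R' h hne h1 h2
    refine ih _ ?_ (hR.mono ρ h h1 h2) rfl
    rw [← hn]
    exact lt_of_le_of_ne (Subgroup.card_le_of_le h)
      fun he => hne (Subgroup.eq_of_le_of_card_ge h he.ge)
  by_cases hfull : ⁅R, T⁆ = R
  swap
  · have h0 := hlt _ (CoprimeAction.commutator_le_self_of_le_normalizer hR.normT) hfull
      (SignalizerCoprime.le_normalizer_commutator hR.normA hAT)
      (Subgroup.normalizer_commutator_ge_right R T)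
    exact Subgroup.commutator_eq_bot_iff_le_centralizer.2 (Subgroup.le_centralizer_iff.1
      (CoprimeAction.le_centralizer_of_commutator_commutator_eq_bot hR.normT hR.copT
        (Or.inr hsolv) h0))
  have hD : ⁅R, R⁆ ≤ R := Subgroup.commutator_le_self R
  have hDA : A ≤ Subgroup.normalizer ((⁅R, R⁆ : Subgroup X) : Set X) :=
    SignalizerCoprime.le_normalizer_commutator hR.normA hR.normA
  rcases eq_or_ne ⁅R, R⁆ R with he | hne
  · have : R = ⊥ := CoprimeGen.eq_bot_of_le_commutator le_rfl he.ge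
    rw [this]
    exact Subgroup.commutator_bot_left T
  have hDT : ⁅⁅R, R⁆, T⁆ = ⊥ := hlt _ hD hne hDA
    (SignalizerCoprime.le_normalizer_commutator hR.normT hR.normT)
  have hZc : ⁅R, ⁅R, R⁆⁆ = ⊥ := by
    have h := Subgroup.commutator_commutator_eq_bot_of_rotate
      (H₁ := R) (H₂ := T) (H₃ := ⁅R, R⁆)
      (by rw [Subgroup.commutator_comm T, hDT]; exact Subgroup.commutator_bot_left R)
      (eq_bot_iff.2 ((Subgroup.commutator_mono
        (CoprimeAction.commutator_le_self_of_le_normalizer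
          (Subgroup.normalizer_commutator_ge_right R R)) le_rfl).trans hDT.le))
    rwa [hfull] at h
  have hZ : ⁅R, R⁆ = ⊥ := commutator_eq_bot ρ hq hA hAq ha hTa hTq hqA hTV hinj hR hfull hD hDA
    (fun z hz r hr =>
      (Subgroup.mem_centralizer_iff.1
        (Subgroup.commutator_eq_bot_iff_le_centralizer.1 hZc hr) z hz))
    (fun z hz t ht =>
      (Subgroup.mem_centralizer_iff.1
        (Subgroup.commutator_eq_bot_iff_le_centralizer.1 hDT hz) t ht).symm)
  refine Subgroup.commutator_eq_bot_iff_le_centralizer.2 fun r hr => ?_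
  rw [Subgroup.mem_centralizer_iff]
  intro t ht
  exact abelian_case ρ hq hAq ha hTa hTq hqA hTV hinj hR (fun x hx y hy =>
    (Subgroup.mem_centralizer_iff.1
      (Subgroup.commutator_eq_bot_iff_le_centralizer.1 hZ hy) x hx)) ht hr

end Cfsg.Agent.AbelCent88Core
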