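import Mathlib
import Cfsg.Agent.Lib.AbelCent88Core
import Cfsg.Agent.Lib.PGroupsBasic

/-!
Consequences of the averaging lemmas for subgroups of a finite group, through the action on
`V/[V,V]`.
-/

set_option autoImplicit false

namespace Cfsg.Agent.AbelCent88Act

open Cfsg.Agent
open scoped commutatorElement

variable {G : Type*} [Group G]

theorem centralizer_zpowers (x : G) :
    Subgroup.centralizer (Subgroup.zpowers x : Set G) = Subgroup.centralizer ({x} : Set G) := by
  rw [Subgroup.zpowers_eq_closure, Subgroup.centralizer_closure]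

theorem mem_centralizer_singleton {a x : G} :
    x ∈ Subgroup.centralizer ({a} : Set G) ↔ a * x = x * a := by
  rw [Subgroup.mem_centralizer_iff]
  simp

/-- If `A` centralises `a` and normalises `X`, it normalises `X ⊓ C(a)`. -/
theorem le_normalizer_fixed {A X : Subgroup G} {a : G} (hX : A ≤ Subgroup.normalizer (X : Set G))
    (ha : ∀ g ∈ A, g * a = a * g) :
    A ≤ Subgroup.normalizer ((X ⊓ Subgroup.centralizer {a} : Subgroup G) : Set G) :=
  CoprimeAction.le_normalizer_inf hX fun g hg =>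
    Subgroup.le_normalizer (mem_centralizer_singleton.2 (ha g hg).symm)

/-- The class of `v` in `V/[V,V]`, written additively. -/
def cls {V : Subgroup G} (v : V) : Additive (Abelianization V) :=
  Additive.ofMul (Abelianization.of v)

/-- The action of the normalizer of `V` on `V/[V,V]`. -/
def abAct (V : Subgroup G) :
    ↥(Subgroup.normalizer (V : Set G)) →* AddMonoid.End (Additive (Abelianization V)) where
  toFun g := MonoidHom.toAdditive (Abelianization.map (V.normalizerMonoidHom g).toMonoidHom)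
  map_one' := by
    refine AddMonoidHom.ext fun u => ?_
    obtain ⟨v, (hv : Abelianization.of v = Additive.toMul u)⟩ :=
      QuotientGroup.mk_surjective (Additive.toMul u)
    obtain rfl : Additive.ofMul (Abelianization.of v) = u := by rw [hv]; rfl
    change Additive.ofMul (Abelianization.map _ (Abelianization.of v)) =
      Additive.ofMul (Abelianization.of v)
    rw [Abelianization.map_of, map_one]
    rfl
  map_mul' g h := by
    refine AddMonoidHom.ext fun u => ?_
    obtain ⟨v, (hv : Abelianization.of v = Additive.toMul u)⟩ :=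
      QuotientGroup.mk_surjective (Additive.toMul u)
    obtain rfl : Additive.ofMul (Abelianization.of v) = u := by rw [hv]; rfl
    change Additive.ofMul (Abelianization.map _ (Abelianization.of v)) =
      Additive.ofMul (Abelianization.map _ (Abelianization.map _ (Abelianization.of v)))
    rw [Abelianization.map_of, Abelianization.map_of, Abelianization.map_of, map_mul]
    rfl

theorem cls_surjective {V : Subgroup G} (u : Additive (Abelianization V)) :
    ∃ v : V, cls v = u := by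
  obtain ⟨v, (hv : Abelianization.of v = Additive.toMul u)⟩ :=
    QuotientGroup.mk_surjective (Additive.toMul u)
  exact ⟨v, congrArg Additive.ofMul hv⟩

theorem cls_mul {V : Subgroup G} (v w : V) : cls (v * w) = cls v + cls w := by
  simp [cls]

theorem cls_inv {V : Subgroup G} (v : V) : cls v⁻¹ = -cls v := by
  simp [cls]

theorem cls_eq_zero_iff {V : Subgroup G} (v : V) : cls v = 0 ↔ (v : G) ∈ ⁅V, V⁆ := by
  rw [← Subgroup.map_subtype_commutator]
  constructor
  · intro h
    refine Subgroup.mem_map_of_mem _ ?_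
    rw [← Abelianization.ker_of, MonoidHom.mem_ker]
    exact h
  · rintro ⟨w, hw, hwv⟩
    obtain rfl : w = v := Subtype.ext hwv
    rw [← Abelianization.ker_of] at hw
    exact MonoidHom.mem_ker.1 hw

theorem cls_eq_iff {V : Subgroup G} (v w : V) : cls v = cls w ↔ (v : G)⁻¹ * w ∈ ⁅V, V⁆ := by
  have h := cls_eq_zero_iff (v⁻¹ * w)
  rw [cls_mul, cls_inv, neg_add_eq_zero] at h
  exact h

theorem abAct_cls {V : Subgroup G} (g : ↥(Subgroup.normalizer (V : Set G))) (v : V) :
    abAct V g (cls v) =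
      cls ⟨(g : G) * v * (g : G)⁻¹, CoprimeAction.conj_mem g.2 v.2⟩ := by
  change Additive.ofMul (Abelianization.map _ (Abelianization.of v)) = _
  rw [Abelianization.map_of]
  rfl

theorem abAct_cls_of_commute {V : Subgroup G} (g : ↥(Subgroup.normalizer (V : Set G))) (v : V)
    (h : (g : G) * v = v * g) : abAct V g (cls v) = cls v := by
  rw [abAct_cls]
  congr 1
  exact Subtype.ext (by change (g : G) * v * (g : G)⁻¹ = v; rw [h, mul_inv_cancel_right])

variable [Finite G]

theorem card_ab_dvd (V : Subgroup G) :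
    Nat.card (Additive (Abelianization V)) ∣ Nat.card V := by
  rw [Nat.card_congr Additive.toMul]
  exact Subgroup.card_quotient_dvd_card _

/-- Fixed classes have fixed representatives. -/
theorem exists_fixed_rep {V : Subgroup G} (g : ↥(Subgroup.normalizer (V : Set G)))
    (hcop : (orderOf (g : G)).Coprime (Nat.card V)) {u : Additive (Abelianization V)}
    (h : abAct V g u = u) : ∃ c : V, (g : G) * c = c * g ∧ cls c = u := by
  obtain ⟨v, rfl⟩ := cls_surjective u
  rw [abAct_cls, eq_comm, cls_eq_iff] at h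
  have hgD : (g : G) ∈ Subgroup.normalizer ((⁅V, V⁆ : Subgroup G) : Set G) :=
    SignalizerCoprime.le_normalizer_commutator (A := Subgroup.zpowers (g : G))
      (Subgroup.zpowers_le.2 g.2) (Subgroup.zpowers_le.2 g.2) (Subgroup.mem_zpowers _)
  obtain ⟨c, hc, hvc⟩ := CoprimeAction.exists_fixed_mem_coset_zpowers hgD
    (hcop.coprime_dvd_right (Subgroup.card_dvd_of_le (Subgroup.commutator_le_self V))) (v : G)
    (by simpa [mul_assoc] using h)
  have hcV : c ∈ V := by
    have := V.mul_mem v.2 (Subgroup.commutator_le_self V hvc)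
    rwa [mul_inv_cancel_left] at this
  exact ⟨⟨c, hcV⟩, hc, ((cls_eq_iff v ⟨c, hcV⟩).2 hvc).symm⟩

theorem eq_bot_of_le_commutator_self {V : Subgroup G} {p : ℕ} [Fact p.Prime] (hV : IsPGroup p V)
    (h : V ≤ ⁅V, V⁆) : V = ⊥ :=
  have := hV.isNilpotent
  CoprimeGen.eq_bot_of_le_commutator le_rfl h

/-- The commutator subgroup of a `p`-group is omissible from generating sets. -/
theorem le_of_le_sup_commutator {V C : Subgroup G} {p : ℕ} [Fact p.Prime] (hV : IsPGroup p V)
    (hCV : C ≤ V) (h : V ≤ C ⊔ ⁅V, V⁆) : V ≤ C := by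
  have h1 : C.subgroupOf V ⊔ commutator V = ⊤ := by
    apply Subgroup.map_injective V.subtype_injective
    rw [Subgroup.map_sup, Subgroup.map_subgroupOf_eq_of_le hCV, Subgroup.map_subtype_commutator,
      ← MonoidHom.range_eq_map, Subgroup.range_subtype]
    exact le_antisymm (sup_le hCV (Subgroup.commutator_le_self V)) h
  have h2 : C.subgroupOf V ⊔ frattini V = ⊤ :=
    top_le_iff.1 (h1.ge.trans (sup_le_sup_left (PGroupsBasic.commutator_le_frattini hV) _))
  exact Subgroup.subgroupOf_eq_top.1 (frattini_nongenerating h2)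

variable {p q : ℕ} [hp : Fact p.Prime]

/-- A `W`-invariant subgroup of `V = [V,W]` containing the fixed points of `a` is `V`. -/
theorem le_of_fixed (hq : q.Prime) {V W C : Subgroup G} {a : G} (hV : IsPGroup p V)
    (hW : ∀ x ∈ W, ∀ y ∈ W, x * y = y * x) (hWV : W ≤ Subgroup.normalizer (V : Set G))
    (hcop : (Nat.card W).Coprime (Nat.card V)) (haq : a ^ q = 1) (hqV : ¬ q ∣ Nat.card V)
    (haV : a ∈ Subgroup.normalizer (V : Set G)) (haW : a ∈ Subgroup.normalizer (W : Set G))
    (hfpf : ∀ x ∈ W, a * x = x * a → x = 1) (hCV : C ≤ V)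
    (hWC : W ≤ Subgroup.normalizer (C : Set G)) (hCa : V ⊓ Subgroup.centralizer {a} ≤ C)
    (hfull : V ≤ ⁅V, W⁆) : V ≤ C := by
  classical
  refine le_of_le_sup_commutator hV hCV (hfull.trans ?_)
  rw [Subgroup.commutator_le]
  intro v hv w hw
  set N := Subgroup.normalizer (V : Set G)
  letI := Fintype.ofFinite (W.subgroupOf N)
  let H : AddSubgroup (Additive (Abelianization V)) :=
    ((C.subgroupOf V).map Abelianization.of).toAddSubgroup
  have hmemH : ∀ u, u ∈ H ↔ ∃ c : V, (c : G) ∈ C ∧ cls c = u := fun u =>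
    ⟨fun ⟨c, hc, hcu⟩ => ⟨c, hc, congrArg Additive.ofMul hcu⟩,
      fun ⟨c, hc, hcu⟩ => ⟨c, hc, congrArg Additive.toMul hcu⟩⟩
  have key := AbelCent88Avg.sub_mem (abAct V) (W := W.subgroupOf N) (a := (⟨a, haV⟩ : N))
    (fun x hx y hy => Subtype.ext (hW _ hx _ hy))
    (fun (x : N) (hx : (x : G) ∈ W) =>
      (show a * (x : G) * a⁻¹ ∈ W from CoprimeAction.conj_mem haW hx)) hq (Subtype.ext haq)
    (fun x hx hc => Subtype.ext (hfpf _ hx (congrArg Subtype.val hc)))
    (by
      rw [Nat.card_congr (Subgroup.subgroupOfEquivOfLe hWV).toEquiv]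
      exact hcop.coprime_dvd_right (card_ab_dvd V))
    H
    (fun z hz u hu => by
      obtain ⟨c, hc, rfl⟩ := (hmemH u).1 hu
      rw [abAct_cls]
      exact (hmemH _).2 ⟨_, CoprimeAction.conj_mem (hWC hz) hc, rfl⟩)
    (fun u hu => by
      obtain ⟨c, hc, rfl⟩ := exists_fixed_rep (⟨a, haV⟩ : N)
        (((Nat.Prime.coprime_iff_not_dvd hq).2 hqV).coprime_dvd_left
          (orderOf_dvd_of_pow_eq_one haq)) hu
      exact (hmemH _).2 ⟨c, hCa ⟨c.2, mem_centralizer_singleton.2 hc⟩, rfl⟩)
    (z := (⟨w, hWV hw⟩ : N)) hw (cls ⟨v, hv⟩)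
  obtain ⟨c, hc, hcu⟩ := (hmemH _).1 key
  rw [abAct_cls, sub_eq_add_neg, ← cls_inv, ← cls_mul, cls_eq_iff] at hcu
  have h1 : w * v * w⁻¹ * v⁻¹ ∈ C ⊔ ⁅V, V⁆ := by
    have := Subgroup.mul_mem _ (Subgroup.mem_sup_left hc : (c : G) ∈ C ⊔ ⁅V, V⁆)
      (Subgroup.mem_sup_right hcu)
    rwa [mul_inv_cancel_left] at this
  have h2 := inv_mem h1
  rw [commutatorElement_def]
  simpa [mul_assoc] using h2

/-- **(L)**: `W` abelian coprime, `C_W(a) = 1`, `W` centralises `C_V(a)`; then `W` centralises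
`V`. -/
theorem centralizes (hq : q.Prime) {V W : Subgroup G} {a : G} (hV : IsPGroup p V)
    (hW : ∀ x ∈ W, ∀ y ∈ W, x * y = y * x) (hWV : W ≤ Subgroup.normalizer (V : Set G))
    (hcop : (Nat.card W).Coprime (Nat.card V)) (haq : a ^ q = 1) (hqV : ¬ q ∣ Nat.card V)
    (haV : a ∈ Subgroup.normalizer (V : Set G)) (haW : a ∈ Subgroup.normalizer (W : Set G))
    (hfpf : ∀ x ∈ W, a * x = x * a → x = 1)
    (hfix : V ⊓ Subgroup.centralizer {a} ≤ Subgroup.centralizer (W : Set G)) :
    W ≤ Subgroup.centralizer (V : Set G) := by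
  have hsolv := CoprimeAction.isSolvable_of_isPGroup hV
  have hle := CoprimeAction.commutator_le_self_of_le_normalizer hWV
  have hWW := Subgroup.normalizer_commutator_ge_right V W
  have hdvd := Subgroup.card_dvd_of_le hle
  have hcc := CoprimeAction.commutator_commutator_eq hWV hcop (Or.inr hsolv)
  have h1 : ⁅V, W⁆ ≤ ⁅V, W⁆ ⊓ Subgroup.centralizer (W : Set G) :=
    le_of_fixed hq (C := ⁅V, W⁆ ⊓ Subgroup.centralizer (W : Set G)) (hV.to_le hle) hW hWW
      (hcop.coprime_dvd_right hdvd) haq (fun h => hqV (h.trans hdvd))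
      (SignalizerCoprime.le_normalizer_commutator (A := Subgroup.zpowers a)
        (Subgroup.zpowers_le.2 haV) (Subgroup.zpowers_le.2 haW) (Subgroup.mem_zpowers a))
      haW hfpf inf_le_left
      (CoprimeAction.le_normalizer_inf hWW (CoprimeAction.le_normalizer_centralizer_self W))
      (le_inf inf_le_left ((inf_le_inf_right _ hle).trans hfix)) hcc.ge
  exact CoprimeAction.le_centralizer_of_commutator_commutator_eq_bot hWV hcop (Or.inr hsolv)
    (Subgroup.commutator_eq_bot_iff_le_centralizer.2 (le_inf_iff.1 h1).2)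

/-- In `V = [V,W]` (coprime), an element centralised by `W` lies in `[V,V]`. -/
theorem fixed_mem_derived {V W : Subgroup G} (hWV : W ≤ Subgroup.normalizer (V : Set G))
    (hcop : (Nat.card W).Coprime (Nat.card V)) (hfull : V ≤ ⁅V, W⁆) {x : G} (hx : x ∈ V)
    (hxW : ∀ w ∈ W, w * x = x * w) : x ∈ ⁅V, V⁆ := by
  classical
  set N := Subgroup.normalizer (V : Set G)
  letI := Fintype.ofFinite (W.subgroupOf N)
  let S : Additive (Abelianization V) →+ Additive (Abelianization V) :=
    ∑ w : W.subgroupOf N, (abAct V (w : N) : AddMonoid.End _)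
  have hS : ∀ u, S u = ∑ w : W.subgroupOf N, abAct V (w : N) u := fun u =>
    AddMonoidHom.finsetSum_apply _ _ u
  let K : Subgroup G :=
    ((AddSubgroup.toSubgroup' S.ker).comap (Abelianization.of (G := V))).map V.subtype
  have hK : ⁅V, W⁆ ≤ K := by
    rw [Subgroup.commutator_le]
    intro v hv w hw
    have hwN : (⟨w, hWV hw⟩ : N) ∈ W.subgroupOf N := hw
    refine ⟨⟨⁅v, w⁆, CoprimeAction.commutator_le_self_of_le_normalizer hWV
      (Subgroup.commutator_mem_commutator hv hw)⟩, ?_, rfl⟩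
    change S (cls _) = 0
    have h0 : (⟨⁅v, w⁆, CoprimeAction.commutator_le_self_of_le_normalizer hWV
        (Subgroup.commutator_mem_commutator hv hw)⟩ : V) =
        (⟨v, hv⟩ : V) * (⟨w * v * w⁻¹, CoprimeAction.conj_mem (hWV hw) hv⟩ : V)⁻¹ := by
      apply Subtype.ext
      simp [commutatorElement_def, mul_assoc]
    rw [h0, cls_mul, cls_inv, map_add, map_neg, add_neg_eq_zero, hS, hS,
      ← abAct_cls (⟨w, hWV hw⟩ : N) ⟨v, hv⟩]
    calc ∑ z : W.subgroupOf N, abAct V (z : N) (cls ⟨v, hv⟩)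
        = ∑ z : W.subgroupOf N,
            abAct V ((z * (⟨⟨w, hWV hw⟩, hwN⟩ : W.subgroupOf N) : W.subgroupOf N) : N)
              (cls ⟨v, hv⟩) :=
          (Equiv.sum_comp (Equiv.mulRight (⟨⟨w, hWV hw⟩, hwN⟩ : W.subgroupOf N))
            (fun z : W.subgroupOf N => abAct V (z : N) (cls ⟨v, hv⟩))).symm
      _ = _ := Finset.sum_congr rfl fun z _ => AbelCent88Avg.act_mul (abAct V) _ _ _
  obtain ⟨y, hy, hyx⟩ := hK (hfull hx)
  obtain rfl : y = ⟨x, hx⟩ := Subtype.ext hyx
  have hy' : S (cls ⟨x, hx⟩) = 0 := hy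
  rw [hS, Finset.sum_congr rfl (fun (z : W.subgroupOf N) _ =>
    abAct_cls_of_commute (z : N) ⟨x, hx⟩ (hxW _ z.2)), Finset.sum_const, Finset.card_univ,
    ← Nat.card_eq_fintype_card, Nat.card_congr (Subgroup.subgroupOfEquivOfLe hWV).toEquiv] at hy'
  exact (cls_eq_zero_iff ⟨x, hx⟩).1 (AbelCent88Avg.eq_of_nsmul_eq
    (hcop.coprime_dvd_right (card_ab_dvd V)) (hy'.trans (smul_zero _).symm))

/-- Lift a fixed point through a homomorphism. -/
theorem image_fixed {H : Type*} [Group H] (f : G →* H) {R : Subgroup G} {l : G}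
    (hl : l ∈ Subgroup.normalizer (R : Set G)) (hcop : (orderOf l).Coprime (Nat.card R))
    {y : H} (hy : y ∈ R.map f) (hc : f l * y = y * f l) :
    ∃ x ∈ R, l * x = x * l ∧ f x = y := by
  obtain ⟨k, hk, rfl⟩ := hy
  have hN : l ∈ Subgroup.normalizer ((R ⊓ f.ker : Subgroup G) : Set G) :=
    Subgroup.inf_normalizer_le_normalizer_inf ⟨hl, by
      rw [Subgroup.normalizer_eq_top_iff.2 (MonoidHom.normal_ker f)]; trivial⟩
  obtain ⟨c, hc', hkc⟩ := CoprimeAction.exists_fixed_mem_coset_zpowers hN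
    (hcop.coprime_dvd_right (Subgroup.card_dvd_of_le inf_le_left)) k ⟨by
      simpa [mul_assoc] using mul_mem (inv_mem hk) (CoprimeAction.conj_mem hl hk), by
      show k⁻¹ * l * k * l⁻¹ ∈ f.ker
      rw [MonoidHom.mem_ker, map_mul, map_mul, map_mul, map_inv, map_inv,
        mul_assoc (f k)⁻¹, hc, ← mul_assoc, inv_mul_cancel, one_mul, mul_inv_cancel]⟩
  refine ⟨c, ?_, hc', ?_⟩
  · have := R.mul_mem hk hkc.1
    rwa [mul_inv_cancel_left] at this
  · have h := MonoidHom.mem_ker.1 hkc.2
    rw [map_mul, map_inv, inv_mul_eq_one] at h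
    exact h.symm

/-- The hypotheses for `[R,T] ≤ C(V)`. -/
structure Setup (p q : ℕ) (A V R T : Subgroup G) (a : G) : Prop where
  pV : IsPGroup p V
  noncyc : ¬ IsCyclic A
  expA : ∀ l ∈ A, l ^ q = 1
  memA : a ∈ A
  ne_one : a ≠ 1
  AV : A ≤ Subgroup.normalizer (V : Set G)
  AR : A ≤ Subgroup.normalizer (R : Set G)
  AT : A ≤ Subgroup.normalizer (T : Set G)
  RV : R ≤ Subgroup.normalizer (V : Set G)
  TV : T ≤ Subgroup.normalizer (V : Set G)
  TR : T ≤ Subgroup.normalizer (R : Set G)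
  nilR : Group.IsNilpotent R
  copAV : (Nat.card A).Coprime (Nat.card V)
  copAR : (Nat.card A).Coprime (Nat.card R)
  copTR : (Nat.card T).Coprime (Nat.card R)
  copRV : (Nat.card R).Coprime (Nat.card V)
  qT : ¬ q ∣ Nat.card T
  Ta : T ≤ Subgroup.centralizer {a}
  fixTV : V ⊓ Subgroup.centralizer {a} ≤ Subgroup.centralizer (T : Set G)
  fixTR : R ⊓ Subgroup.centralizer {a} ≤ Subgroup.centralizer (T : Set G)
  fixl : ∀ l ∈ A, l ∉ Subgroup.zpowers a →
    R ⊓ Subgroup.centralizer {l} ≤
        Subgroup.centralizer ((V ⊓ Subgroup.centralizer {l} : Subgroup G) : Set G) ∧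
      R ⊓ Subgroup.centralizer {a} ⊓ Subgroup.centralizer {l} = ⊥


theorem aux_abelianization (hq : q.Prime) {A V R T : Subgroup G} {a : G}
    [hAc : IsMulCommutative A] (S : Setup p q A V R T a) {r t v : G} (hr : r ∈ R) (ht : t ∈ T)
    (hv : v ∈ V) : ⁅⁅r, t⁆, v⁆ ∈ ⁅V, V⁆ := by
  classical
  have haV := S.AV S.memA
  set N := Subgroup.normalizer (V : Set G) with hN
  let φ : N →* (AddMonoid.End (Additive (Abelianization V)))ˣ := (abAct V).toHomUnits
  set ρ := Units.coeHom (AddMonoid.End (Additive (Abelianization V))) with hρ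
  have hρφ : ∀ g : N, ρ (φ g) = abAct V g := fun _ => rfl
  have hordA : ∀ l ∈ A, (orderOf l).Coprime (Nat.card V) ∧ (orderOf l).Coprime (Nat.card R) :=
    fun l hl => ⟨S.copAV.coprime_dvd_left (Subgroup.orderOf_dvd_natCard _ hl),
      S.copAR.coprime_dvd_left (Subgroup.orderOf_dvd_natCard _ hl)⟩
  -- elements centralising the fixed points act trivially on the fixed classes
  have hfixcls : ∀ l ∈ A, ∀ g : N,
      (g : G) ∈ Subgroup.centralizer ((V ⊓ Subgroup.centralizer {l} : Subgroup G) : Set G) →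
      ∀ (hlN : l ∈ N) u, abAct V ⟨l, hlN⟩ u = u → abAct V g u = u := by
    intro l hl g hg hlN u hu
    obtain ⟨c, hc, rfl⟩ := exists_fixed_rep ⟨l, hlN⟩ (hordA l hl).1 hu
    exact abAct_cls_of_commute g c
      (Subgroup.mem_centralizer_iff.1 hg c ⟨c.2, mem_centralizer_singleton.2 hc⟩).symm
  have hTtriv : ∀ t' (ht' : t' ∈ T) u, abAct V ⟨a, haV⟩ u = u →
      abAct V ⟨t', S.TV ht'⟩ u = u := fun t' ht' u hu =>
    hfixcls a S.memA ⟨t', S.TV ht'⟩
      (Subgroup.le_centralizer_iff.1 S.fixTV ht') haV u hu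
  suffices h : φ ⟨⁅r, t⁆, by
      rw [commutatorElement_def]
      exact mul_mem (mul_mem (mul_mem (S.RV hr) (S.TV ht)) (inv_mem (S.RV hr)))
        (inv_mem (S.TV ht))⟩ = 1 by
    have h1 := congrArg (fun x => ρ x (cls ⟨v, hv⟩)) h
    simp only [map_one] at h1
    rw [hρφ, abAct_cls, eq_comm] at h1
    have h2 : (v : G)⁻¹ * (⁅r, t⁆ * v * ⁅r, t⁆⁻¹) ∈ ⁅V, V⁆ := (cls_eq_iff _ _).1 h1
    have h3 := CoprimeAction.conj_mem
      (SignalizerCoprime.le_normalizer_commutator (A := V) Subgroup.le_normalizer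
        Subgroup.le_normalizer hv) h2
    rw [commutatorElement_def (⁅r, t⁆) v]
    simpa [mul_assoc] using h3
  have hcomm : φ ⟨r, S.RV hr⟩ * φ ⟨t, S.TV ht⟩ = φ ⟨t, S.TV ht⟩ * φ ⟨r, S.RV hr⟩ := by
    by_cases hker : ∀ b ∈ A, ∀ hb : b ∈ N, φ ⟨b, hb⟩ = 1 → b = 1
    swap
    · push Not at hker
      obtain ⟨b, hbA, hbN, hb1, hb⟩ := hker
      by_cases hba : b ∈ Subgroup.zpowers a
      · -- `T` acts trivially
        suffices hT1 : φ ⟨t, S.TV ht⟩ = 1 by rw [hT1, mul_one, one_mul]
        refine Units.ext (AddMonoidHom.ext fun u => ?_)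
        refine hTtriv t ht u ?_
        obtain ⟨i, (hi : a ^ i = b)⟩ := mem_powers_iff_mem_zpowers.2 hba
        have hco : i.Coprime (orderOf a) := by
          refine Nat.Coprime.coprime_dvd_right (orderOf_dvd_of_pow_eq_one (S.expA a S.memA)) ?_
          refine ((Nat.Prime.coprime_iff_not_dvd hq).2 fun hd => hb ?_).symm
          obtain ⟨c, rfl⟩ := hd
          rw [← hi, pow_mul, S.expA a S.memA, one_pow]
        obtain ⟨m, hm⟩ := exists_pow_eq_self_of_coprime hco
        have hbm : (⟨a, haV⟩ : N) = (⟨b, hbN⟩ : N) ^ m := Subtype.ext (by simp [← hi, hm])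
        rw [← hρφ, hbm, map_pow, hb1, one_pow, map_one]
        rfl
      · suffices hR1 : φ ⟨r, S.RV hr⟩ = 1 by rw [hR1, mul_one, one_mul]
        obtain ⟨x, hx, hxc, hxr⟩ := image_fixed φ (R := R.subgroupOf N) (l := ⟨b, hbN⟩)
          (by
            rw [← Subgroup.subgroupOf_normalizer_eq S.RV]
            exact S.AR hbA)
          (by
            rw [Subgroup.orderOf_mk, Nat.card_congr (Subgroup.subgroupOfEquivOfLe S.RV).toEquiv]
            exact (hordA b hbA).2)
          (y := φ ⟨r, S.RV hr⟩) (Subgroup.mem_map_of_mem φ (show (⟨r, S.RV hr⟩ : N) ∈ _ from hr))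
          (by rw [hb1, one_mul, mul_one])
        rw [← hxr]
        refine Units.ext (AddMonoidHom.ext fun u => ?_)
        exact hfixcls b hbA x ((S.fixl b hbA hba).1
          ⟨hx, mem_centralizer_singleton.2 (congrArg Subtype.val hxc)⟩) hbN u
          (by rw [← hρφ, hb1, map_one]; rfl)
    -- the faithful case
    haveI : Finite (AddMonoid.End (Additive (Abelianization V))) :=
      Finite.of_injective
        (fun f : AddMonoid.End (Additive (Abelianization V)) => (f : _ → _)) DFunLike.coe_injective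
    let im : Subgroup G → Subgroup (AddMonoid.End (Additive (Abelianization V)))ˣ :=
      fun X => (X.subgroupOf N).map φ
    have hmem : ∀ {X : Subgroup G} {y}, y ∈ im X →
        ∃ x, ∃ hx : x ∈ N, x ∈ X ∧ φ ⟨x, hx⟩ = y := by
      rintro X y ⟨⟨x, hx⟩, hxX, rfl⟩
      exact ⟨x, hx, hxX, rfl⟩
    have hinj : Function.Injective (φ.comp (Subgroup.inclusion S.AV)) := by
      rw [injective_iff_map_eq_one]
      intro x hx
      exact Subtype.ext (hker x x.2 (S.AV x.2) hx)
    have himA : im A = (φ.comp (Subgroup.inclusion S.AV)).range := by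
      ext y
      exact ⟨fun h => by obtain ⟨x, hx, hxA, rfl⟩ := hmem h; exact ⟨⟨x, hxA⟩, rfl⟩,
        fun ⟨x, hx⟩ => ⟨⟨x, S.AV x.2⟩, x.2, hx⟩⟩
    haveI : IsMulCommutative (im A) := by
      refine ⟨⟨fun ⟨x, hx⟩ ⟨y, hy⟩ => Subtype.ext ?_⟩⟩
      obtain ⟨x, hxN, hxA, rfl⟩ := hmem hx
      obtain ⟨y, hyN, hyA, rfl⟩ := hmem hy
      change φ _ * φ _ = φ _ * φ _
      rw [← map_mul, ← map_mul]
      congr 1
      apply Subtype.ext
      exact congrArg (fun z : A => (z : G)) (mul_comm' (⟨x, hxA⟩ : A) ⟨y, hyA⟩)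
    have hnc : ¬ IsCyclic (im A) := fun h => by
      rw [himA] at h
      exact S.noncyc (isCyclic_of_injective (MonoidHom.rangeRestrict (φ.comp
        (Subgroup.inclusion S.AV))) fun x y hxy => hinj (congrArg Subtype.val hxy))
    have hnorm : ∀ {X Y : Subgroup G}, X ≤ Subgroup.normalizer (Y : Set G) → Y ≤ N →
        im X ≤ Subgroup.normalizer (im Y : Set _) := by
      intro X Y hXY hY
      refine CoprimeAction.le_normalizer_of_conj_mem fun g hg y hy => ?_
      obtain ⟨g, hgN, hgX, rfl⟩ := hmem hg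
      obtain ⟨y, hyN, hyY, rfl⟩ := hmem hy
      rw [← map_inv, ← map_mul, ← map_mul]
      refine Subgroup.mem_map_of_mem φ ?_
      exact (show g * y * g⁻¹ ∈ Y from CoprimeAction.conj_mem (hXY hgX) hyY)
    have hcard : ∀ {X : Subgroup G}, X ≤ N → Nat.card (im X) ∣ Nat.card X := fun {X} hX =>
      (Subgroup.card_map_dvd _ _).trans
        (Nat.card_congr (Subgroup.subgroupOfEquivOfLe hX).toEquiv).dvd
    haveI := S.nilR
    have hnilR : Group.IsNilpotent (im R) :=
      haveI : Group.IsNilpotent (R.subgroupOf N) :=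
        Group.nilpotent_of_mulEquiv (Subgroup.subgroupOfEquivOfLe S.RV).symm
      nilpotent_of_surjective _ ((φ).subgroupMap_surjective (R.subgroupOf N))
    have hlift : ∀ {X : Subgroup G} {l : G} (hlA : l ∈ A) {y}, X ≤ R →
        l ∈ Subgroup.normalizer (X : Set G) → y ∈ im X →
        φ ⟨l, S.AV hlA⟩ * y = y * φ ⟨l, S.AV hlA⟩ →
        ∃ x, ∃ hx : x ∈ N, x ∈ X ∧ l * x = x * l ∧ φ ⟨x, hx⟩ = y := by
      intro X l hlA y hXR hlX hy hc
      obtain ⟨⟨x, hxN⟩, hxX, hxc, hxy⟩ := image_fixed φ (R := X.subgroupOf N)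
        (l := ⟨l, S.AV hlA⟩)
        (by rw [← Subgroup.subgroupOf_normalizer_eq (hXR.trans S.RV)]; exact hlX)
        (by
          rw [Subgroup.orderOf_mk,
            Nat.card_congr (Subgroup.subgroupOfEquivOfLe (hXR.trans S.RV)).toEquiv]
          exact (hordA l hlA).2.coprime_dvd_right (Subgroup.card_dvd_of_le hXR)) hy hc
      exact ⟨x, hxN, hxX, congrArg Subtype.val hxc, hxy⟩
    have hTim : ∀ t' ∈ im T, ∀ u, ρ (φ ⟨a, haV⟩) u = u → ρ t' u = u := by
      intro t' ht' u hu
      obtain ⟨t', htN, htT, rfl⟩ := hmem ht'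
      exact hTtriv t' htT u hu
    have hHyp : AbelCent88Core.Hyp ρ q (im A) (im T) (im R) (φ ⟨a, haV⟩) := by
      refine ⟨hnilR, hnorm S.AR S.RV, hnorm S.TR S.RV, ?_, ?_, ?_, ?_, ?_⟩
      · exact (S.copAR.coprime_dvd_left (hcard S.AV)).coprime_dvd_right (hcard S.RV)
      · exact (S.copTR.coprime_dvd_left (hcard S.TV)).coprime_dvd_right (hcard S.RV)
      · exact (S.copRV.coprime_dvd_left (hcard S.RV)).coprime_dvd_right (card_ab_dvd V)
      · rintro y ⟨hy, hyc⟩
        obtain ⟨x, hxN, hxR, hxc, rfl⟩ := hlift S.memA le_rfl (S.AR S.memA) hy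
          (mem_centralizer_singleton.1 hyc)
        change φ _ ∈ Subgroup.centralizer _
        rw [Subgroup.mem_centralizer_iff]
        intro t' ht'
        obtain ⟨t', htN, htT, rfl⟩ := hmem ht'
        rw [← map_mul, ← map_mul]
        congr 1
        exact Subtype.ext (Subgroup.mem_centralizer_iff.1
          (S.fixTR ⟨hxR, mem_centralizer_singleton.2 hxc⟩) t' htT)
      · intro l hl hla
        obtain ⟨l, hlN, hlA, rfl⟩ := hmem hl
        have hla' : l ∉ Subgroup.zpowers a := by
          rintro ⟨k, (hk : a ^ k = l)⟩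
          refine hla ⟨k, ?_⟩
          change φ ⟨a, haV⟩ ^ k = φ ⟨l, hlN⟩
          rw [← map_zpow]
          exact congrArg φ (Subtype.ext (by simpa using hk))
        refine ⟨?_, ?_⟩
        · rintro y ⟨hy, hyc⟩ u hu
          obtain ⟨x, hxN, hxR, hxc, rfl⟩ := hlift hlA le_rfl (S.AR hlA) hy
            (mem_centralizer_singleton.1 hyc)
          exact hfixcls l hlA ⟨x, hxN⟩
            ((S.fixl l hlA hla').1 ⟨hxR, mem_centralizer_singleton.2 hxc⟩) hlN u hu
        · rw [Subgroup.eq_bot_iff_forall]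
          rintro y ⟨⟨hy, hya⟩, hyl⟩
          obtain ⟨x, hxN, hxR, hxc, rfl⟩ := hlift S.memA le_rfl (S.AR S.memA) hy
            (mem_centralizer_singleton.1 hya)
          obtain ⟨x', hxN', hxR', hxc', hxe⟩ := hlift (X := R ⊓ Subgroup.centralizer {a}) hlA
            inf_le_left
            (le_normalizer_fixed S.AR (fun g hg => congrArg Subtype.val
              (mul_comm' (⟨g, hg⟩ : A) ⟨a, S.memA⟩)) hlA)
            (Subgroup.mem_map_of_mem φ (show (⟨x, hxN⟩ : N) ∈ _ from
              ⟨hxR, mem_centralizer_singleton.2 hxc⟩))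
            (mem_centralizer_singleton.1 hyl)
          have hx1 : x' ∈ (⊥ : Subgroup G) := by
            rw [← (S.fixl l hlA hla').2]
            exact ⟨hxR', mem_centralizer_singleton.2 hxc'⟩
          rw [Subgroup.mem_bot] at hx1
          subst hx1
          rw [← hxe]
          exact map_one φ
    have hexp : ∀ l ∈ im A, l ^ q = 1 := by
      intro l hl
      obtain ⟨l, hlN, hlA, rfl⟩ := hmem hl
      rw [← map_pow, show (⟨l, hlN⟩ : N) ^ q = 1 from Subtype.ext (S.expA l hlA), map_one]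
    have haim : φ ⟨a, haV⟩ ∈ im A :=
      Subgroup.mem_map_of_mem φ (show (⟨a, haV⟩ : N) ∈ A.subgroupOf N from S.memA)
    have hTa : ∀ t' ∈ im T, t' * φ ⟨a, haV⟩ = φ ⟨a, haV⟩ * t' := by
      intro t' ht'
      obtain ⟨t', htN, htT, rfl⟩ := hmem ht'
      rw [← map_mul, ← map_mul]
      congr 1
      exact Subtype.ext (mem_centralizer_singleton.1 (S.Ta htT)).symm
    have hqA : q ∣ Nat.card (im A) := by
      have : Fact q.Prime := ⟨hq⟩
      have hne : φ ⟨a, haV⟩ ≠ 1 := fun h => S.ne_one (hker a S.memA haV h)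
      rw [← orderOf_eq_prime (hexp _ haim) hne]
      exact Subgroup.orderOf_dvd_natCard _ haim
    have hbot := AbelCent88Core.core ρ hq hnc hexp haim (hnorm S.AT S.TV) hTa
      (fun h => S.qT (h.trans (hcard S.TV))) hqA hTim Units.val_injective hHyp
    exact (Subgroup.mem_centralizer_iff.1
      (Subgroup.commutator_eq_bot_iff_le_centralizer.1 hbot
        (Subgroup.mem_map_of_mem φ (show (⟨r, S.RV hr⟩ : N) ∈ R.subgroupOf N from hr)))
      _ (Subgroup.mem_map_of_mem φ (show (⟨t, S.TV ht⟩ : N) ∈ T.subgroupOf N from ht))).symm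
  have h1 : φ ⁅(⟨r, S.RV hr⟩ : N), ⟨t, S.TV ht⟩⁆ = 1 := by
    rw [map_commutatorElement, commutatorElement_eq_one_iff_mul_comm]
    exact hcomm
  exact h1

/-- **(N')**: `[R,T]` centralises `V`. -/
theorem commutator_centralizes (hq : q.Prime) {A V R T : Subgroup G} {a : G}
    [IsMulCommutative A] (S : Setup p q A V R T a) :
    ⁅R, T⁆ ≤ Subgroup.centralizer (V : Set G) := by
  set D := ⁅R, T⁆ with hD
  have hDR : D ≤ R := CoprimeAction.commutator_le_self_of_le_normalizer S.TR
  have hDV : D ≤ Subgroup.normalizer (V : Set G) := hDR.trans S.RV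
  have hle : ⁅V, D⁆ ≤ V := CoprimeAction.commutator_le_self_of_le_normalizer hDV
  have hdvd := Subgroup.card_dvd_of_le hle
  have S0 : Setup p q A ⁅V, D⁆ R T a :=
    { S with
      pV := S.pV.to_le hle
      AV := SignalizerCoprime.le_normalizer_commutator S.AV
        (SignalizerCoprime.le_normalizer_commutator S.AR S.AT)
      RV := SignalizerCoprime.le_normalizer_commutator S.RV
        (Subgroup.normalizer_commutator_ge_left R T)
      TV := SignalizerCoprime.le_normalizer_commutator S.TV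
        (Subgroup.normalizer_commutator_ge_right R T)
      copAV := S.copAV.coprime_dvd_right hdvd
      copRV := S.copRV.coprime_dvd_right hdvd
      fixTV := (inf_le_inf_right _ hle).trans S.fixTV
      fixl := fun l hl hla => ⟨(S.fixl l hl hla).1.trans
        (Subgroup.centralizer_le (SetLike.coe_subset_coe.2 (inf_le_inf_right _ hle))),
        (S.fixl l hl hla).2⟩ }
  set V0 := ⁅V, D⁆ with hV0
  have hN0 : V0 ≤ Subgroup.normalizer ((⁅V0, V0⁆ : Subgroup G) : Set G) :=
    SignalizerCoprime.le_normalizer_commutator Subgroup.le_normalizer Subgroup.le_normalizer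
  have hRN : R ≤ Subgroup.normalizer ((⁅V0, V0⁆ : Subgroup G) : Set G) :=
    SignalizerCoprime.le_normalizer_commutator S0.RV S0.RV
  have hTN : T ≤ Subgroup.normalizer ((⁅V0, V0⁆ : Subgroup G) : Set G) :=
    SignalizerCoprime.le_normalizer_commutator S0.TV S0.TV
  let C : Subgroup G :=
    { carrier := {d | d ∈ Subgroup.normalizer ((⁅V0, V0⁆ : Subgroup G) : Set G) ∧
          d ∈ Subgroup.normalizer (V0 : Set G) ∧ ∀ v ∈ V0, ⁅d, v⁆ ∈ ⁅V0, V0⁆}
      one_mem' := ⟨one_mem _, one_mem _, fun v _ => by simp⟩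
      mul_mem' := fun {x y} hx hy => ⟨mul_mem hx.1 hy.1, mul_mem hx.2.1 hy.2.1, fun v hv => by
        have h1 := Subgroup.mul_mem _ (CoprimeAction.conj_mem hx.1 (hy.2.2 v hv)) (hx.2.2 v hv)
        simpa [commutatorElement_def, mul_assoc] using h1⟩
      inv_mem' := fun {x} hx => ⟨inv_mem hx.1, inv_mem hx.2.1, fun v hv => by
        have h1 := CoprimeAction.conj_mem' hx.1 (inv_mem (hx.2.2 v hv))
        simpa [commutatorElement_def, mul_assoc] using h1⟩ }
  have hDC : D ≤ C := by
    rw [hD, Subgroup.commutator_le]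
    intro r hr t ht
    refine ⟨?_, ?_, fun v hv => aux_abelianization hq S0 hr ht hv⟩
    · rw [commutatorElement_def]
      exact mul_mem (mul_mem (mul_mem (hRN hr) (hTN ht)) (inv_mem (hRN hr))) (inv_mem (hTN ht))
    · exact S0.RV (hDR (Subgroup.commutator_mem_commutator hr ht))
  have h0 : ⁅V0, D⁆ ≤ ⁅V0, V0⁆ := by
    rw [Subgroup.commutator_le]
    intro v hv d hd
    rw [← commutatorElement_inv]
    exact inv_mem ((hDC hd).2.2 v hv)
  have hcc : ⁅V0, D⁆ = V0 := CoprimeAction.commutator_commutator_eq hDV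
    (S.copRV.coprime_dvd_left (Subgroup.card_dvd_of_le hDR))
    (Or.inr (CoprimeAction.isSolvable_of_isPGroup S.pV))
  have hbot : V0 = ⊥ := eq_bot_of_le_commutator_self S0.pV (hcc.ge.trans h0)
  rw [hV0, Subgroup.commutator_comm] at hbot
  exact Subgroup.commutator_eq_bot_iff_le_centralizer.1 hbot

end Cfsg.Agent.AbelCent88Act
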