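import Mathlib
import Cfsg.Prelude.Def_Amalgam
import Cfsg.Prelude.Def_OddOrderLocal
import Cfsg.Agent.Lib.AbelCent88Act
import Cfsg.Agent.Lib.ComponentsFitting
import Cfsg.Agent.Lib.OffendersOperated

/-!
A group `A` of type `(q,q)` acting coprimely on `K` with all `C_K(a)` abelian: the minimal
nonsolvable situation, invariant Sylow subgroups and cores.
-/

set_option autoImplicit false

namespace Cfsg.Agent.AbelCent88Basic

open Cfsg.Agent
open scoped commutatorElement
open Subgroup (centralizer normalizer zpowers)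

variable {G : Type*} [Group G]

/-- `C_K(a)`. -/
abbrev cK (K : Subgroup G) (a : G) : Subgroup G := K ⊓ centralizer ({a} : Set G)

/-- The hypothesis of the theorem inside an ambient group. -/
structure Setting (q : ℕ) (A K : Subgroup G) : Prop where
  prime : q.Prime
  cardA : Nat.card A = q ^ 2
  comm : IsMulCommutative A
  noncyc : ¬ IsCyclic A
  norm : A ≤ normalizer (K : Set G)
  cop : ¬ q ∣ Nat.card K
  abel : ∀ a ∈ A, a ≠ 1 → ∀ x ∈ cK K a, ∀ y ∈ cK K a, x * y = y * x

/-- A minimal counterexample. -/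
structure Minimal (q : ℕ) (A K : Subgroup G) : Prop extends Setting q A K where
  solv : ∀ H : Subgroup G, H ≤ K → H ≠ K → A ≤ normalizer (H : Set G) → Group.IsSolvable H
  simple : ∀ N : Subgroup G, N ≤ K → A ≤ normalizer (N : Set G) → K ≤ normalizer (N : Set G) →
    N = ⊥ ∨ N = K
  nonsolv : ¬ Group.IsSolvable K

theorem mem_centralizer_singleton {a x : G} :
    x ∈ centralizer ({a} : Set G) ↔ a * x = x * a := by
  rw [Subgroup.mem_centralizer_iff]
  simp

theorem le_normalizer_normalizer {A X : Subgroup G} (h : A ≤ normalizer (X : Set G)) :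
    A ≤ normalizer ((normalizer (X : Set G) : Subgroup G) : Set G) :=
  h.trans Subgroup.le_normalizer

section setting

variable [Finite G] {q : ℕ} {A K : Subgroup G}

theorem Setting.commA (S : Setting q A K) {a b : G} (ha : a ∈ A) (hb : b ∈ A) : a * b = b * a :=
  have := S.comm
  congrArg Subtype.val (mul_comm' (⟨a, ha⟩ : A) ⟨b, hb⟩)

theorem Setting.pow_eq_one (S : Setting q A K) {a : G} (ha : a ∈ A) : a ^ q = 1 := by
  have hd := Subgroup.orderOf_dvd_natCard A ha
  rw [S.cardA] at hd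
  obtain ⟨i, hi, he⟩ := (Nat.dvd_prime_pow S.prime).1 hd
  rcases Nat.lt_or_ge i 2 with h | h
  · refine orderOf_dvd_iff_pow_eq_one.1 ?_
    rw [he]
    exact (pow_dvd_pow q (show i ≤ 1 by omega)).trans (pow_one q).dvd
  · exfalso
    refine S.noncyc (isCyclic_of_orderOf_eq_card (⟨a, ha⟩ : A) ?_)
    rw [Subgroup.orderOf_mk, S.cardA, he, show i = 2 by omega]

theorem Setting.orderOf_eq (S : Setting q A K) {a : G} (ha : a ∈ A) (ha1 : a ≠ 1) :
    orderOf a = q :=
  have := Fact.mk S.prime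
  orderOf_eq_prime (S.pow_eq_one ha) ha1

theorem Setting.mem_zpowers_symm (S : Setting q A K) {a b : G} (hb : b ∈ A)
    (ha1 : a ≠ 1) (h : a ∈ zpowers b) : b ∈ zpowers a := by
  obtain ⟨i, (rfl : b ^ i = a)⟩ := mem_powers_iff_mem_zpowers.2 h
  have hco : i.Coprime (orderOf b) := by
    refine Nat.Coprime.coprime_dvd_right (orderOf_dvd_of_pow_eq_one (S.pow_eq_one hb)) ?_
    refine ((Nat.Prime.coprime_iff_not_dvd S.prime).2 fun hd => ha1 ?_).symm
    obtain ⟨c, rfl⟩ := hd
    rw [pow_mul, S.pow_eq_one hb, one_pow]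
  obtain ⟨m, hm⟩ := exists_pow_eq_self_of_coprime hco
  exact mem_powers_iff_mem_zpowers.1 ⟨m, hm⟩

theorem Setting.centralizer_eq (S : Setting q A K) {a b : G} (hb : b ∈ A) (ha1 : a ≠ 1)
    (h : a ∈ zpowers b) : centralizer ({a} : Set G) = centralizer ({b} : Set G) := by
  have key : ∀ {u v : G}, u ∈ zpowers v → centralizer ({v} : Set G) ≤ centralizer ({u} : Set G) := by
    intro u v huv x hx
    obtain ⟨i, rfl⟩ := huv
    exact mem_centralizer_singleton.2
      ((show Commute v x from mem_centralizer_singleton.1 hx).zpow_left i)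
  exact le_antisymm (key (S.mem_zpowers_symm hb ha1 h)) (key h)

theorem Setting.sup_zpowers (S : Setting q A K) {a b : G} (ha : a ∈ A) (ha1 : a ≠ 1) (hb : b ∈ A)
    (h : b ∉ zpowers a) : zpowers a ⊔ zpowers b = A := by
  have hle : zpowers a ⊔ zpowers b ≤ A :=
    sup_le (Subgroup.zpowers_le.2 ha) (Subgroup.zpowers_le.2 hb)
  have hd := Subgroup.card_dvd_of_le hle
  rw [S.cardA] at hd
  obtain ⟨i, hi, he⟩ := (Nat.dvd_prime_pow S.prime).1 hd
  have h1 := Subgroup.card_dvd_of_le (le_sup_left : zpowers a ≤ zpowers a ⊔ zpowers b)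
  rw [Nat.card_zpowers, S.orderOf_eq ha ha1, he] at h1
  rcases Nat.lt_or_ge i 2 with hi2 | hi2
  · exfalso
    have hcard : Nat.card ↥(zpowers a ⊔ zpowers b) ≤ Nat.card (zpowers a) := by
      rw [he, Nat.card_zpowers, S.orderOf_eq ha ha1]
      calc q ^ i ≤ q ^ 1 := Nat.pow_le_pow_right S.prime.pos (by omega)
        _ = q := pow_one q
    have := Subgroup.eq_of_le_of_card_ge le_sup_left hcard
    exact h (this.symm ▸ Subgroup.mem_sup_right (Subgroup.mem_zpowers b))
  · refine Subgroup.eq_of_le_of_card_ge hle ?_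
    rw [he, S.cardA]
    exact Nat.pow_le_pow_right S.prime.pos hi2

theorem Setting.exists_not_mem (S : Setting q A K) {a : G} (ha : a ∈ A) :
    ∃ b ∈ A, b ∉ zpowers a := by
  by_contra h
  push Not at h
  have := Subgroup.card_le_of_le (show A ≤ zpowers a from h)
  rw [S.cardA, Nat.card_zpowers] at this
  have h2 := Nat.le_of_dvd S.prime.pos (orderOf_dvd_of_pow_eq_one (S.pow_eq_one ha))
  have := S.prime.one_lt
  nlinarith

theorem Setting.exists_not_mem₂ (S : Setting q A K) {j k : G} (hj : j ∈ A) (hk : k ∈ A)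
    (hj1 : j ≠ 1) :
    ∃ m ∈ A, m ∉ zpowers j ∧ m ∉ zpowers k := by
  by_cases h : k ∈ zpowers j
  · obtain ⟨b, hb, hbj⟩ := S.exists_not_mem hj
    exact ⟨b, hb, hbj, fun hbk => hbj ((Subgroup.zpowers_le.2 h) hbk)⟩
  · refine ⟨j * k, mul_mem hj hk, fun hm => h ?_, fun hm => h ?_⟩
    · simpa using mul_mem (inv_mem (Subgroup.mem_zpowers j)) hm
    · refine S.mem_zpowers_symm hk hj1 ?_
      simpa using mul_mem hm (inv_mem (Subgroup.mem_zpowers k))

theorem Setting.not_mem_symm (S : Setting q A K) {a b : G} (ha : a ∈ A) (hb1 : b ≠ 1)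
    (h : a ∉ zpowers b) : b ∉ zpowers a :=
  fun hba => h (S.mem_zpowers_symm ha hb1 hba)

theorem Setting.ne_one_of_not_mem {a b : G} (h : b ∉ zpowers a) : b ≠ 1 :=
  fun he => h (he ▸ one_mem _)

theorem Setting.inv_centralizer_singleton (S : Setting q A K) {a : G} (ha : a ∈ A) :
    A ≤ normalizer ((centralizer ({a} : Set G) : Subgroup G) : Set G) := fun _ hb =>
  Subgroup.le_normalizer (mem_centralizer_singleton.2 (S.commA ha hb))

theorem Setting.inv_inf_centralizer (S : Setting q A K) {X : Subgroup G} {a : G} (ha : a ∈ A)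
    (hX : A ≤ normalizer (X : Set G)) :
    A ≤ normalizer ((X ⊓ centralizer ({a} : Set G) : Subgroup G) : Set G) :=
  CoprimeAction.le_normalizer_inf hX (S.inv_centralizer_singleton ha)

theorem Setting.not_dvd (S : Setting q A K) {X : Subgroup G} (h : X ≤ K) : ¬ q ∣ Nat.card X :=
  fun hd => S.cop (hd.trans (Subgroup.card_dvd_of_le h))

theorem Setting.coprime (S : Setting q A K) {X : Subgroup G} (h : X ≤ K) :
    (Nat.card A).Coprime (Nat.card X) := by
  rw [S.cardA]
  exact Nat.Coprime.pow_left _ ((Nat.Prime.coprime_iff_not_dvd S.prime).2 (S.not_dvd h))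

theorem Setting.isSolvableA (S : Setting q A K) : Group.IsSolvable A :=
  Group.isSolvable_of_comm fun x y => S.comm.is_comm.comm x y

/-- An invariant subgroup is generated by its fixed-point parts. -/
theorem Setting.le_of_parts (S : Setting q A K) {X Y : Subgroup G} (hXK : X ≤ K)
    (hX : A ≤ normalizer (X : Set G))
    (h : ∀ a ∈ A, a ≠ 1 → X ⊓ centralizer ({a} : Set G) ≤ Y) : X ≤ Y :=
  have := S.comm
  CoprimeGen.le_of_centralizers S.noncyc hX (S.coprime hXK) h

theorem Setting.inf_fixed (S : Setting q A K) {X : Subgroup G} (hXK : X ≤ K) {a : G}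
    {x : G} (hx : x ∈ X) (hc : a * x = x * a) : x ∈ cK K a :=
  ⟨hXK hx, mem_centralizer_singleton.2 hc⟩

/-- The parts on one line commute. -/
theorem Setting.commute_parts (S : Setting q A K) {X Y : Subgroup G} {a : G} (ha : a ∈ A)
    (ha1 : a ≠ 1) (hX : X ≤ cK K a) (hY : Y ≤ cK K a) : Y ≤ centralizer (X : Set G) :=
  fun _ hy => Subgroup.mem_centralizer_iff.2 fun _ hx => S.abel a ha ha1 _ (hX hx) _ (hY hy)

end setting

/-- Subgroups of coprime prime power order normalising each other commute. -/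
theorem le_centralizer_of_normalize [Finite G] {p r : ℕ} [Fact p.Prime] [Fact r.Prime] (hpr : p ≠ r)
    {X Y : Subgroup G} (hX : IsPGroup p X) (hY : IsPGroup r Y)
    (hXY : X ≤ normalizer (Y : Set G)) (hYX : Y ≤ normalizer (X : Set G)) :
    Y ≤ centralizer (X : Set G) := by
  rw [← Subgroup.commutator_eq_bot_iff_le_centralizer, eq_bot_iff]
  refine le_trans (le_inf (Subgroup.le_normalizer_iff_commutator_le_left.1 hXY)
    (Subgroup.le_normalizer_iff_commutator_le_right.1 hYX)) (le_of_eq ?_)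
  exact (IsPGroup.disjoint_of_ne r p hpr.symm _ _ hY hX).eq_bot

theorem coprime_card_of_ne [Finite G] {p r : ℕ} [Fact p.Prime] [Fact r.Prime] (hpr : p ≠ r)
    {X Y : Subgroup G} (hX : IsPGroup p X) (hY : IsPGroup r Y) :
    (Nat.card X).Coprime (Nat.card Y) :=
  IsPGroup.coprime_card_of_ne r p hpr.symm _ _ hY hX |>.symm

/-! ### Invariant Sylow subgroups -/

/-- The join of the `A`-invariant `t`-subgroups of `X`. -/
def isyl (A : Subgroup G) (t : ℕ) (X : Subgroup G) : Subgroup G :=
  sSup {U | U ≤ X ∧ IsPGroup t U ∧ A ≤ normalizer (U : Set G)}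

theorem le_isyl {A : Subgroup G} {t : ℕ} {X U : Subgroup G} (hU : U ≤ X) (hp : IsPGroup t U)
    (hA : A ≤ normalizer (U : Set G)) : U ≤ isyl A t X :=
  le_sSup ⟨hU, hp, hA⟩

theorem isyl_le {A : Subgroup G} {t : ℕ} {X : Subgroup G} : isyl A t X ≤ X :=
  sSup_le fun _ h => h.1

theorem isyl_mono {A : Subgroup G} {t : ℕ} {X Y : Subgroup G} (h : X ≤ Y) :
    isyl A t X ≤ isyl A t Y :=
  sSup_le fun _ hU => le_isyl (hU.1.trans h) hU.2.1 hU.2.2

section minimal

variable [Finite G] {q : ℕ} {A K : Subgroup G}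

theorem Minimal.ne_bot (S : Minimal q A K) : K ≠ ⊥ := fun h =>
  S.nonsolv (h ▸ inferInstance)

theorem Minimal.center_eq_bot (S : Minimal q A K) : K ⊓ centralizer (K : Set G) = ⊥ := by
  have hA : A ≤ normalizer ((K ⊓ centralizer (K : Set G) : Subgroup G) : Set G) :=
    CoprimeAction.le_normalizer_inf S.norm (SignalizerCoprime.le_normalizer_centralizer S.norm)
  have hK : K ≤ normalizer ((K ⊓ centralizer (K : Set G) : Subgroup G) : Set G) :=
    CoprimeAction.le_normalizer_inf Subgroup.le_normalizer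
      (CoprimeAction.le_normalizer_centralizer_self K)
  refine (S.simple _ inf_le_left hA hK).resolve_right fun h => S.nonsolv ?_
  exact Group.isSolvable_of_comm fun x y => Subtype.ext
    (Subgroup.mem_centralizer_iff.1 (inf_eq_left.1 h y.2) x x.2)

theorem Minimal.fixed_eq_bot (S : Minimal q A K) : K ⊓ centralizer (A : Set G) = ⊥ := by
  rw [eq_bot_iff, ← S.center_eq_bot]
  refine le_inf inf_le_left (Subgroup.le_centralizer_iff.1 ?_)
  refine S.le_of_parts le_rfl S.norm fun a ha ha1 => ?_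
  intro x hx
  rw [Subgroup.mem_centralizer_iff]
  intro z hz
  exact S.abel a ha ha1 z
    ⟨hz.1, Subgroup.centralizer_le (Set.singleton_subset_iff.2 ha) hz.2⟩ x hx

theorem Minimal.inter_eq_bot (S : Minimal q A K) {a b : G} (ha : a ∈ A) (ha1 : a ≠ 1) (hb : b ∈ A)
    (h : b ∉ zpowers a) : cK K a ⊓ centralizer ({b} : Set G) = ⊥ := by
  rw [eq_bot_iff, ← S.fixed_eq_bot]
  rintro x ⟨⟨hxK, hxa⟩, hxb⟩
  refine ⟨hxK, ?_⟩
  have h1 : zpowers a ⊔ zpowers b ≤ centralizer ({x} : Set G) :=
    sup_le (Subgroup.zpowers_le.2 (mem_centralizer_singleton.2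
        (mem_centralizer_singleton.1 hxa).symm))
      (Subgroup.zpowers_le.2 (mem_centralizer_singleton.2
        (mem_centralizer_singleton.1 hxb).symm))
  rw [S.sup_zpowers ha ha1 hb h] at h1
  exact Subgroup.mem_centralizer_iff.2 fun y hy => (mem_centralizer_singleton.1 (h1 hy)).symm

/-- A subgroup of `C_K(k)` meets `C(a)` trivially for another line `a`. -/
theorem Minimal.fpf (S : Minimal q A K) {k a : G} (hk : k ∈ A) (hk1 : k ≠ 1) (ha : a ∈ A)
    (h : a ∉ zpowers k) {W : Subgroup G} (hW : W ≤ cK K k) :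
    ∀ x ∈ W, a * x = x * a → x = 1 := fun x hx hc =>
  Subgroup.mem_bot.1 (S.inter_eq_bot hk hk1 ha h ▸
    (⟨hW hx, mem_centralizer_singleton.2 hc⟩ : x ∈ cK K k ⊓ centralizer ({a} : Set G)))

theorem Minimal.exists_sylow (S : Minimal q A K) {X : Subgroup G} (hXK : X ≤ K)
    (hX : A ≤ normalizer (X : Set G)) {t : ℕ} [Fact t.Prime] :
    ∃ P : Sylow t X, A ≤ normalizer (((P : Subgroup X).map X.subtype : Subgroup G) : Set G) ∧
      isyl A t X = (P : Subgroup X).map X.subtype := by
  have hs : Group.IsSolvable A ∨ Group.IsSolvable X := Or.inl S.isSolvableA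
  obtain ⟨P, hP⟩ := CoprimeAction.exists_invariant_sylow hX (S.coprime hXK) hs t
  refine ⟨P, hP, le_antisymm (sSup_le ?_) (le_isyl (Subgroup.map_subtype_le _) (P.2.map _) hP)⟩
  rintro U ⟨hUX, hU, hUA⟩
  obtain ⟨Q, hUQ, hQ⟩ :=
    CoprimeAction.exists_invariant_sylow_ge hX (S.coprime hXK) hs hUX hU hUA
  obtain ⟨c, hc, hPQ⟩ := CoprimeAction.invariant_sylow_conj hX (S.coprime hXK) hs P Q hP hQ
  have : c = 1 := Subtype.ext (Subgroup.mem_bot.1 (S.fixed_eq_bot ▸
    (⟨hXK c.2, hc⟩ : (c : G) ∈ K ⊓ centralizer (A : Set G))))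
  subst this
  rw [map_one, one_smul] at hPQ
  exact hUQ.trans (by rw [hPQ])

theorem Minimal.isPGroup_isyl (S : Minimal q A K) {X : Subgroup G} (hXK : X ≤ K)
    (hX : A ≤ normalizer (X : Set G)) {t : ℕ} [Fact t.Prime] : IsPGroup t (isyl A t X) := by
  obtain ⟨P, -, h⟩ := S.exists_sylow hXK hX (t := t)
  rw [h]
  exact P.2.map _

theorem Minimal.inv_isyl (S : Minimal q A K) {X : Subgroup G} (hXK : X ≤ K)
    (hX : A ≤ normalizer (X : Set G)) {t : ℕ} [Fact t.Prime] :
    A ≤ normalizer (isyl A t X : Set G) := by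
  obtain ⟨P, hP, h⟩ := S.exists_sylow hXK hX (t := t)
  rw [h]
  exact hP

theorem Minimal.card_isyl (S : Minimal q A K) {X : Subgroup G} (hXK : X ≤ K)
    (hX : A ≤ normalizer (X : Set G)) {t : ℕ} [Fact t.Prime] :
    Nat.card (isyl A t X) = t ^ (Nat.card X).factorization t := by
  obtain ⟨P, -, h⟩ := S.exists_sylow hXK hX (t := t)
  rw [h, CoprimeAction.card_map_sylow]

theorem Minimal.isyl_inter (S : Minimal q A K) {X Y : Subgroup G} (hXK : X ≤ K)
    (hX : A ≤ normalizer (X : Set G)) (hYX : Y ≤ X) (hY : A ≤ normalizer (Y : Set G))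
    {t : ℕ} [Fact t.Prime] : isyl A t X ⊓ Y = isyl A t Y :=
  le_antisymm
    (le_isyl inf_le_right ((S.isPGroup_isyl hXK hX).to_le inf_le_left)
      (CoprimeAction.le_normalizer_inf (S.inv_isyl hXK hX) hY))
    (le_inf (isyl_mono hYX) isyl_le)

/-- An invariant subgroup is generated by its invariant Sylow subgroups. -/
theorem Minimal.le_of_isyl_le (S : Minimal q A K) {X Y : Subgroup G} (hXK : X ≤ K)
    (hX : A ≤ normalizer (X : Set G)) (h : ∀ t, t.Prime → isyl A t X ≤ Y) : X ≤ Y := by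
  have hd : Nat.card X ∣ Nat.card (X ⊓ Y : Subgroup G) := by
    rw [← Nat.factorization_le_iff_dvd Nat.card_pos.ne' Nat.card_pos.ne']
    intro t
    by_cases ht : t.Prime
    swap
    · simp [Nat.factorization_eq_zero_of_not_prime _ ht]
    have := Fact.mk ht
    have h2 := Subgroup.card_dvd_of_le (le_inf isyl_le (h t ht) : isyl A t X ≤ X ⊓ Y)
    rw [S.card_isyl hXK hX] at h2
    exact (Nat.Prime.pow_dvd_iff_le_factorization ht Nat.card_pos.ne').1 h2
  exact inf_eq_left.1 (Subgroup.eq_of_le_of_card_ge inf_le_left (Nat.le_of_dvd Nat.card_pos hd))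

theorem Minimal.centralizer_proper (S : Minimal q A K) {X : Subgroup G} (hXK : X ≤ K)
    (h1 : X ≠ ⊥) : K ⊓ centralizer (X : Set G) ≠ K := fun h => h1 (by
  rw [eq_bot_iff, ← S.center_eq_bot]
  exact le_inf hXK (Subgroup.le_centralizer_iff.1 (inf_eq_left.1 h)))

theorem Minimal.normalizer_proper (S : Minimal q A K) {X : Subgroup G} (hXK : X ≤ K)
    (hX : A ≤ normalizer (X : Set G)) (h1 : X ≠ ⊥) (h2 : X ≠ K) :
    K ⊓ normalizer (X : Set G) ≠ K :=
  fun h => (S.simple X hXK hX (inf_eq_left.1 h)).elim h1 h2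

end minimal

/-! ### Cores -/

/-- The Fitting subgroup of `H`. -/
abbrev fit (H : Subgroup G) : Subgroup G := Cfsg.fittingOf H

/-- `O_t(H)`. -/
abbrev oo (t : ℕ) (H : Subgroup G) : Subgroup G := Cfsg.pCoreOf t H

/-- The `r'`-part of the Fitting subgroup. -/
def ff (r : ℕ) (H : Subgroup G) : Subgroup G := ⨆ t : {t : ℕ // t.Prime ∧ t ≠ r}, oo (t : ℕ) H

theorem oo_le (t : ℕ) (H : Subgroup G) : oo t H ≤ H := Subgroup.map_subtype_le _

theorem fit_le (H : Subgroup G) : fit H ≤ H := Subgroup.map_subtype_le _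

theorem normalizer_le_oo (t : ℕ) (H : Subgroup G) :
    normalizer (H : Set G) ≤ normalizer (oo t H : Set G) :=
  have : (Cfsg.pCore t H).Characteristic := ComponentsCores.pCore_characteristic
  OffendersOperated.normalizer_le_map_char H _

theorem normalizer_le_fit (H : Subgroup G) :
    normalizer (H : Set G) ≤ normalizer (fit H : Set G) :=
  have : (Cfsg.fittingSubgroup H).Characteristic := ComponentsCores.fittingSubgroup_characteristic
  OffendersOperated.normalizer_le_map_char H _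

theorem oo_le_ff {r t : ℕ} (ht : t.Prime) (hne : t ≠ r) (H : Subgroup G) : oo t H ≤ ff r H :=
  le_iSup (fun t : {t : ℕ // t.Prime ∧ t ≠ r} => oo (t : ℕ) H) ⟨t, ht, hne⟩

variable [Finite G]

theorem normalizer_le_ff (r : ℕ) (H : Subgroup G) :
    normalizer (H : Set G) ≤ normalizer (ff r H : Set G) :=
  SignalizerCoprime.le_normalizer_iSup fun t => normalizer_le_oo _ H

theorem isPGroup_oo (t : ℕ) (H : Subgroup G) : IsPGroup t (oo t H) :=
  (ComponentsCores.isPGroup_pCore t).map H.subtype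

theorem le_oo {t : ℕ} {H U : Subgroup G} (hUH : U ≤ H) (hU : IsPGroup t U)
    (hN : H ≤ normalizer (U : Set G)) : U ≤ oo t H := by
  have : (U.subgroupOf H).Normal := Subgroup.normal_subgroupOf_of_le_normalizer hN
  rw [← Subgroup.map_subgroupOf_eq_of_le hUH]
  exact Subgroup.map_mono (le_sSup ⟨this, hU.comap_subtype⟩)

theorem oo_centralizes {p r : ℕ} [Fact p.Prime] [Fact r.Prime] (hpr : p ≠ r) (H : Subgroup G) :
    oo r H ≤ centralizer (oo p H : Set G) :=
  le_centralizer_of_normalize hpr (isPGroup_oo p H) (isPGroup_oo r H)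
    ((oo_le p H).trans (Subgroup.le_normalizer.trans (normalizer_le_oo r H)))
    ((oo_le r H).trans (Subgroup.le_normalizer.trans (normalizer_le_oo p H)))

theorem oo_le_fit {t : ℕ} (ht : t.Prime) (H : Subgroup G) : oo t H ≤ fit H :=
  Subgroup.map_mono (ComponentsFitting.pCore_le_fitting ht)

theorem ff_le_fit (r : ℕ) (H : Subgroup G) : ff r H ≤ fit H :=
  iSup_le fun t => oo_le_fit t.2.1 H

theorem ff_le (r : ℕ) (H : Subgroup G) : ff r H ≤ H := (ff_le_fit r H).trans (fit_le H)

theorem fit_le_sup (r : ℕ) [hr : Fact r.Prime] (H : Subgroup G) :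
    fit H ≤ oo r H ⊔ ff r H := by
  change (Cfsg.fittingSubgroup H).map H.subtype ≤ _
  rw [ComponentsFitting.fittingSubgroup_eq_iSup, Subgroup.map_iSup]
  refine iSup_le fun t => ?_
  by_cases h : (t : ℕ) = r
  · rw [h]
    exact le_sup_left
  · exact le_sup_of_le_right (oo_le_ff (Nat.prime_of_mem_primeFactors t.2) h H)

theorem fit_isNilpotent (H : Subgroup G) : Group.IsNilpotent (fit H) :=
  nilpotent_of_surjective _ (H.subtype.subgroupMap_surjective (Cfsg.fittingSubgroup H))

theorem le_fit {H U : Subgroup G} (hUH : U ≤ H) (hU : Group.IsNilpotent U)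
    (hN : H ≤ normalizer (U : Set G)) : U ≤ fit H := by
  have h1 : (U.subgroupOf H).Normal := Subgroup.normal_subgroupOf_of_le_normalizer hN
  have h2 : Group.IsNilpotent (U.subgroupOf H) :=
    Group.nilpotent_of_mulEquiv (Subgroup.subgroupOfEquivOfLe hUH).symm
  rw [← Subgroup.map_subgroupOf_eq_of_le hUH]
  exact Subgroup.map_mono (le_sSup ⟨h1, h2⟩)

/-- A `p`-subgroup of the Fitting subgroup lies in `O_p`. -/
theorem le_oo_of_le_fit {p : ℕ} [Fact p.Prime] {H D : Subgroup G} (hD : IsPGroup p D)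
    (hDF : D ≤ fit H) : D ≤ oo p H := by
  have := fit_isNilpotent H
  obtain ⟨P, hP⟩ := (hD.of_equiv (Subgroup.subgroupOfEquivOfLe hDF).symm).exists_le_sylow
  have hPn : (P : Subgroup (fit H)).Normal :=
    Sylow.normal_of_normalizerCondition Group.normalizerCondition_of_isNilpotent P
  have hPc : (P : Subgroup (fit H)).Characteristic := P.characteristic_of_normal hPn
  have h1 : D ≤ (P : Subgroup (fit H)).map (fit H).subtype := by
    rw [← Subgroup.map_subgroupOf_eq_of_le hDF]
    exact Subgroup.map_mono hP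
  exact h1.trans (le_oo ((Subgroup.map_subtype_le _).trans (fit_le H)) (P.2.map _)
    ((Subgroup.le_normalizer.trans (normalizer_le_fit H)).trans
      (OffendersOperated.normalizer_le_map_char (fit H) _)))

end Cfsg.Agent.AbelCent88Basic
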