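import Mathlib
import Cfsg.Agent.Lib.AbelCent88Basic
import Cfsg.Agent.Lib.FittingHallBasic

/-!
Proper invariant subgroups of a minimal counterexample have Fitting height at most two.
-/

set_option autoImplicit false

namespace Cfsg.Agent.AbelCent88Height

open Cfsg.Agent
open Cfsg.Agent.AbelCent88Basic
open scoped commutatorElement Pointwise
open Subgroup (centralizer normalizer zpowers)

/-- A finite group whose prime power elements for primes other than `t` are central is nilpotent. -/
theorem isNilpotent_of_central {C : Type*} [Group C] [Finite C] {t : ℕ}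
    (h : ∀ s : ℕ, s.Prime → s ≠ t → ∀ x : C, (∃ j, orderOf x = s ^ j) → x ∈ Subgroup.center C) :
    Group.IsNilpotent C := by
  have hcen : ∀ (s : ℕ) [Fact s.Prime], s ≠ t → ∀ P : Sylow s C,
      (P : Subgroup C) ≤ Subgroup.center C := by
    intro s hs hst P x hx
    refine h s hs.out hst x ?_
    obtain ⟨k, hk⟩ := P.2 ⟨x, hx⟩
    obtain ⟨j, -, hj⟩ := (Nat.dvd_prime_pow hs.out).1
      (orderOf_dvd_of_pow_eq_one (congrArg Subtype.val hk : x ^ s ^ k = 1))
    exact ⟨j, hj⟩
  refine (Group.isNilpotent_of_finite_tfae.out 0 3).2 ?_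
  intro s hs P
  by_cases hst : s = t
  swap
  · exact ⟨fun x hx g => by rw [Subgroup.mem_center_iff.1 (hcen s hst P hx) g, mul_inv_cancel_right]; exact hx⟩
  subst hst
  refine Subgroup.normalizer_eq_top_iff.1 (Subgroup.eq_top_of_card_eq _
    (Nat.dvd_antisymm (Subgroup.card_subgroup_dvd_card _) ?_))
  refine (Nat.dvd_iff_prime_pow_dvd_dvd _ _).2 fun r k hr hd => ?_
  have := Fact.mk hr
  by_cases hrs : r = s
  · subst hrs
    exact (P.pow_dvd_card_of_pow_dvd_card hd).trans (Subgroup.card_dvd_of_le Subgroup.le_normalizer)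
  · obtain ⟨Q⟩ := (inferInstance : Nonempty (Sylow r C))
    exact (Q.pow_dvd_card_of_pow_dvd_card hd).trans
      (Subgroup.card_dvd_of_le ((hcen r hrs Q).trans
        (Subgroup.center_le_centralizer _ |>.trans (Subgroup.centralizer_le_normalizer _))))

variable {G : Type*} [Group G] [Finite G]

theorem exists_pow_mem_ff {t : ℕ} [ht : Fact t.Prime] {H : Subgroup G} {x : G} {k : ℕ}
    (hx : x ^ t ^ k ∈ fit H) : ∃ j, x ^ t ^ j ∈ ff t H := by
  have hc : ∀ s, (h : s.Prime) → s ≠ t → oo t H ≤ centralizer (oo s H : Set G) := fun s hs hne =>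
    have := Fact.mk hs
    oo_centralizes hne H
  have hn : oo t H ≤ normalizer (ff t H : Set G) :=
    (oo_le t H).trans (Subgroup.le_normalizer.trans (normalizer_le_ff t H))
  have h2 : x ^ t ^ k ∈ (↑(oo t H ⊔ ff t H) : Set G) := fit_le_sup t H hx
  rw [Subgroup.coe_mul_of_left_le_normalizer_right _ _ hn] at h2
  obtain ⟨o, ho, u, hu, hou⟩ := h2
  obtain ⟨i, hi⟩ := isPGroup_oo t H ⟨o, ho⟩
  have hi' : o ^ t ^ i = 1 := congrArg Subtype.val hi
  have hcomm : Commute o u := by
    have h3 : ff t H ≤ centralizer (oo t H : Set G) :=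
      iSup_le fun s => Subgroup.le_centralizer_iff.1 (hc s s.2.1 s.2.2)
    exact Subgroup.mem_centralizer_iff.1 (h3 hu) o ho
  refine ⟨k + i, ?_⟩
  rw [pow_add, pow_mul, ← hou]
  change (o * u) ^ t ^ i ∈ ff t H
  rw [hcomm.mul_pow, hi', one_mul]
  exact pow_mem hu _

/-- A `t`-group centralising the `t'`-part of the Fitting subgroup, inside a normal subgroup
which is a `t`-group modulo that part, lies in `O_t`. -/
theorem le_oo_of_centralizes {t : ℕ} [ht : Fact t.Prime] {H E D : Subgroup G} (hEH : E ≤ H)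
    (hHE : H ≤ normalizer (E : Set G)) (hE : ∀ x ∈ E, ∃ k, x ^ t ^ k ∈ ff t H)
    (hDE : D ≤ E) (hD : IsPGroup t D) (hDC : D ≤ centralizer (ff t H : Set G)) :
    D ≤ oo t H := by
  set C := E ⊓ centralizer (ff t H : Set G) with hC
  have hCH : C ≤ H := inf_le_left.trans hEH
  have hHC : H ≤ normalizer (C : Set G) :=
    CoprimeAction.le_normalizer_inf hHE (SignalizerCoprime.le_normalizer_centralizer
      (Subgroup.le_normalizer.trans (normalizer_le_ff t H)))
  have hnil : Group.IsNilpotent C := by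
    refine isNilpotent_of_central (t := t) fun s hs hst x ⟨j, hj⟩ => ?_
    obtain ⟨k, hk⟩ := hE x x.2.1
    have hco : (t ^ k).Coprime (orderOf (x : G)) := by
      rw [Subgroup.orderOf_coe, hj]
      exact ((Nat.coprime_primes ht.out hs).2 (Ne.symm hst)).pow k j
    obtain ⟨m, hm⟩ := exists_pow_eq_self_of_coprime hco
    have hxF : (x : G) ∈ ff t H := hm ▸ pow_mem hk m
    rw [Subgroup.mem_center_iff]
    intro g
    exact Subtype.ext (Subgroup.mem_centralizer_iff.1 g.2.2 x hxF).symm
  exact le_oo_of_le_fit hD ((le_inf hDE hDC).trans (le_fit hCH hnil hHC))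

/-- The criterion for nilpotency of a solvable group. -/
theorem isNilpotent_of_centralizes_pCore {X : Type*} [Group X] [Finite X] [Group.IsSolvable X]
    (h : ∀ r t : ℕ, ∀ [Fact r.Prime], ∀ [Fact t.Prime], r ≠ t →
      ∃ P : Sylow t X, (P : Subgroup X) ≤ centralizer (Cfsg.pCore r X : Set X)) :
    Group.IsNilpotent X := by
  have hoo : ∀ r : ℕ, oo r (⊤ : Subgroup X) ≤ Cfsg.pCore r X := fun r => le_sSup ⟨by
    refine Subgroup.normalizer_eq_top_iff.1 (top_le_iff.1 ?_)
    exact Subgroup.le_normalizer.trans (normalizer_le_oo r ⊤), isPGroup_oo r ⊤⟩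
  have hall : ∀ (r t : ℕ) [Fact r.Prime] [Fact t.Prime], r ≠ t → ∀ Q : Sylow t X,
      (Q : Subgroup X) ≤ centralizer (oo r (⊤ : Subgroup X) : Set X) := by
    intro r t _ _ hne Q
    obtain ⟨P, hP⟩ := h r t hne
    obtain ⟨g, rfl⟩ := MulAction.exists_smul_eq X P Q
    have hn : (centralizer (oo r (⊤ : Subgroup X) : Set X)).Normal := by
      refine Subgroup.normalizer_eq_top_iff.1 (top_le_iff.1 ?_)
      exact SignalizerCoprime.le_normalizer_centralizer
        (Subgroup.le_normalizer.trans (normalizer_le_oo r ⊤))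
    intro x hx
    rw [Sylow.coe_subgroup_smul, Subgroup.mem_pointwise_smul_iff_inv_smul_mem] at hx
    have := hn.conj_mem _ (Subgroup.centralizer_le (hoo r) (hP hx)) g
    simpa [MulAut.smul_def, MulAut.conj_apply, mul_assoc] using this
  set F := fit (⊤ : Subgroup X) with hF
  have hFn : F.Normal := Subgroup.normalizer_eq_top_iff.1
    (top_le_iff.1 (Subgroup.le_normalizer.trans (normalizer_le_fit ⊤)))
  have hCF : centralizer (F : Set X) ≤ F := by
    have h1 : F = Cfsg.fittingSubgroup X := by
      have h0 := ComponentsFitting.fitting_map_subtype_eq (H := (⊤ : Subgroup X)) Subgroup.IsSubnormal.top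
      rw [inf_top_eq] at h0
      exact h0
    rw [h1]
    exact ComponentsFitting.centralizer_fitting_le_of_solvable
  have hgen : ∀ (t s : ℕ) [Fact t.Prime] [Fact s.Prime], t ≠ s → ∀ (T : Sylow t X) (S : Sylow s X),
      ∀ x ∈ (S : Subgroup X), ∀ y ∈ (T : Subgroup X), ⁅x, y⁆ ∈ F := by
    intro t s _ _ hts T S x hx y hy
    refine hCF ?_
    rw [Subgroup.mem_centralizer_iff]
    have : ∀ u : ℕ, u.Prime → ⁅x, y⁆ ∈ centralizer (oo u (⊤ : Subgroup X) : Set X) := by
      intro u hu
      have := Fact.mk hu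
      have hn : ∀ g : X, g ∈ normalizer (centralizer (oo u (⊤ : Subgroup X) : Set X) : Set X) :=
        fun g => SignalizerCoprime.le_normalizer_centralizer (A := ⊤)
          (Subgroup.le_normalizer.trans (normalizer_le_oo u ⊤)) (Subgroup.mem_top g)
      by_cases hus : u = s
      · subst hus
        have hyc := hall u t hts.symm T hy
        rw [commutatorElement_def]
        exact mul_mem (CoprimeAction.conj_mem (hn x) hyc) (inv_mem hyc)
      · have hxc := hall u s hus S hx
        rw [commutatorElement_def, mul_assoc, mul_assoc]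
        refine mul_mem hxc ?_
        have := CoprimeAction.conj_mem (hn y) (inv_mem hxc)
        simpa [mul_assoc] using this
    intro f hf
    have h2 : F ≤ centralizer ({⁅x, y⁆} : Set X) := by
      refine (fit_le_sup t ⊤).trans (sup_le ?_ (iSup_le fun u => ?_))
      all_goals intro z hz; rw [Subgroup.mem_centralizer_iff]; rintro _ rfl
      · exact (Subgroup.mem_centralizer_iff.1 (this t Fact.out) z hz).symm
      · exact (Subgroup.mem_centralizer_iff.1 (this u u.2.1) z hz).symm
    exact (Subgroup.mem_centralizer_iff.1 (h2 hf) _ rfl).symm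
  refine (Group.isNilpotent_of_finite_tfae.out 0 3).2 ?_
  intro t ht T
  set E := (T : Subgroup X) ⊔ F with hE
  have hTn : (T : Subgroup X) ≤ normalizer (F : Set X) := by
    rw [Subgroup.normalizer_eq_top_iff.2 hFn]; exact le_top
  have hEn : (⊤ : Subgroup X) ≤ normalizer (E : Set X) := by
    refine le_of_eq (Subgroup.eq_top_of_card_eq _
      (Nat.dvd_antisymm (Subgroup.card_subgroup_dvd_card _) ?_)).symm
    refine (Nat.dvd_iff_prime_pow_dvd_dvd _ _).2 fun s k hs hd => ?_
    have := Fact.mk hs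
    by_cases hst : s = t
    · subst hst
      exact (T.pow_dvd_card_of_pow_dvd_card hd).trans
        (Subgroup.card_dvd_of_le (le_sup_left.trans (Subgroup.le_normalizer (H := E))))
    obtain ⟨S⟩ := (inferInstance : Nonempty (Sylow s X))
    refine (S.pow_dvd_card_of_pow_dvd_card hd).trans (Subgroup.card_dvd_of_le ?_)
    refine SignalizerCoprime.le_normalizer_of_forall fun x hx e he => ?_
    have h1 : E ≤ E.comap (MulAut.conj x).toMonoidHom := by
      refine sup_le (fun y hy => ?_) (fun y hy => ?_)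
      · have := mul_mem (Subgroup.mem_sup_right (hgen t s (Ne.symm hst) T S x hx y hy) : _ ∈ E)
          (Subgroup.mem_sup_left hy)
        rw [Subgroup.mem_comap]
        simpa [commutatorElement_def] using this
      · exact Subgroup.mem_sup_right (hFn.conj_mem y hy x)
    exact h1 he
  have hTE : ∀ x ∈ E, ∃ k, x ^ t ^ k ∈ ff t (⊤ : Subgroup X) := by
    intro x hx
    have hx' : x ∈ (↑((T : Subgroup X) ⊔ F) : Set X) := hx
    rw [Subgroup.coe_mul_of_left_le_normalizer_right _ _ hTn] at hx'
    obtain ⟨τ, hτ, f, hf, rfl⟩ := hx'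
    obtain ⟨k, hk⟩ := T.2 ⟨τ, hτ⟩
    refine exists_pow_mem_ff (k := k) ?_
    have := hFn
    rw [← hF, ← QuotientGroup.eq_one_iff (N := F)]
    rw [QuotientGroup.mk_pow, QuotientGroup.mk_mul, (QuotientGroup.eq_one_iff f).2 hf, mul_one,
      ← QuotientGroup.mk_pow, show τ ^ t ^ k = 1 from congrArg Subtype.val hk, QuotientGroup.mk_one]
  have hle : (T : Subgroup X) ≤ oo t (⊤ : Subgroup X) := by
    refine le_oo_of_centralizes le_top hEn hTE le_sup_left T.2 ?_
    exact Subgroup.le_centralizer_iff.1 (iSup_le fun u =>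
      have := Fact.mk u.2.1
      Subgroup.le_centralizer_iff.1 (hall u t u.2.2 T))
  have heq : (T : Subgroup X) = oo t ⊤ := (T.3 (isPGroup_oo t ⊤) hle).symm
  rw [heq]
  exact Subgroup.normalizer_eq_top_iff.1
    (top_le_iff.1 (Subgroup.le_normalizer.trans (normalizer_le_oo t ⊤)))

theorem comap_pCore_characteristic {H : Type*} [Group H] (r : ℕ) :
    ((Cfsg.pCore r (H ⧸ Cfsg.fittingSubgroup H)).comap
      (QuotientGroup.mk' (Cfsg.fittingSubgroup H))).Characteristic := by
  refine Subgroup.characteristic_iff_comap_eq.2 fun φ => ?_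
  let ψ := QuotientGroup.congr (Cfsg.fittingSubgroup H) (Cfsg.fittingSubgroup H) φ
    (Subgroup.characteristic_iff_map_eq.1 ComponentsCores.fittingSubgroup_characteristic φ)
  ext x
  change QuotientGroup.mk' _ (φ x) ∈ Cfsg.pCore r _ ↔ _
  have h := SetLike.ext_iff.1 (Subgroup.characteristic_iff_comap_eq.1
    (ComponentsCores.pCore_characteristic (p := r) (G := H ⧸ Cfsg.fittingSubgroup H)) ψ)
    (QuotientGroup.mk' _ x)
  exact h

variable {q : ℕ} {A K : Subgroup G}

/-- A prime power element of `X ≤ K` invariant data: membership in `fit`. -/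
theorem mem_of_pow_mem {s r : ℕ} [Fact s.Prime] [Fact r.Prime] (hsr : s ≠ r) {S F : Subgroup G}
    (hS : IsPGroup s S) {x : G} (hx : x ∈ S) {k : ℕ} (hk : x ^ r ^ k ∈ F) : x ∈ F := by
  obtain ⟨j, hj⟩ := hS ⟨x, hx⟩
  have hco : (r ^ k).Coprime (orderOf x) :=
    (((Nat.coprime_primes Fact.out Fact.out).2 hsr.symm).pow k j).coprime_dvd_right
      (orderOf_dvd_of_pow_eq_one (congrArg Subtype.val hj))
  obtain ⟨m, hm⟩ := exists_pow_eq_self_of_coprime hco
  exact hm ▸ pow_mem hk m

/-- **(N)**: a proper invariant subgroup is nilpotent modulo its Fitting subgroup. -/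
theorem commutator_isyl_le_fit (S : Minimal q A K) {H : Subgroup G} (hHK : H ≤ K) (hne : H ≠ K)
    (hH : A ≤ normalizer (H : Set G)) {r t : ℕ} [hr : Fact r.Prime] [ht : Fact t.Prime]
    (hrt : r ≠ t) : ⁅isyl A r H, isyl A t H⁆ ≤ fit H := by
  have hsolv : Group.IsSolvable H := S.solv H hHK hne hH
  set π := QuotientGroup.mk' (Cfsg.fittingSubgroup H) with hπ
  have hfit : ∀ x : H, π x = 1 ↔ (x : G) ∈ fit H := fun x => by
    rw [hπ, QuotientGroup.mk'_apply, QuotientGroup.eq_one_iff]
    exact ⟨fun h => ⟨x, h, rfl⟩, fun ⟨y, hy, he⟩ => Subtype.ext he ▸ hy⟩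
  have hHF : H ≤ normalizer (fit H : Set G) := Subgroup.le_normalizer.trans (normalizer_le_fit H)
  have hX : Group.IsNilpotent (H ⧸ Cfsg.fittingSubgroup H) := by
    refine isNilpotent_of_centralizes_pCore fun r t _ _ hrt => ?_
    let E := ((Cfsg.pCore r (H ⧸ Cfsg.fittingSubgroup H)).comap π).map H.subtype
    have hEH : E ≤ H := Subgroup.map_subtype_le _
    have hEK := hEH.trans hHK
    have hNE : normalizer (H : Set G) ≤ normalizer (E : Set G) :=
      have := comap_pCore_characteristic (H := H) r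
      OffendersOperated.normalizer_le_map_char H _
    have hEA : A ≤ normalizer (E : Set G) := hH.trans hNE
    have hHE : H ≤ normalizer (E : Set G) := Subgroup.le_normalizer.trans hNE
    have hmemE : ∀ x : H, π x ∈ Cfsg.pCore r (H ⧸ Cfsg.fittingSubgroup H) → (x : G) ∈ E :=
      fun x hx => Subgroup.mem_map_of_mem H.subtype hx
    have hEpow : ∀ x ∈ E, ∃ k, x ^ r ^ k ∈ fit H := by
      rintro _ ⟨x, hx, rfl⟩
      obtain ⟨k, hk⟩ := (ComponentsCores.isPGroup_pCore r) ⟨π x, hx⟩
      refine ⟨k, ?_⟩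
      have h2 := (hfit (x ^ r ^ k)).1 (by rw [map_pow]; exact congrArg Subtype.val hk)
      simpa using h2
    have hFE : fit H ≤ E := fun x hx =>
      hmemE ⟨x, fit_le H hx⟩ (by rw [(hfit ⟨x, fit_le H hx⟩).2 hx]; exact one_mem _)
    set R := isyl A r E
    have hRH : R ≤ H := isyl_le.trans hEH
    have hE : E ≤ R ⊔ fit H := by
      refine S.le_of_isyl_le hEK hEA fun s hs => ?_
      have := Fact.mk hs
      by_cases hsr : s = r
      · subst hsr; exact le_sup_left
      intro x hx
      obtain ⟨k, hk⟩ := hEpow x (isyl_le hx)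
      exact Subgroup.mem_sup_right (mem_of_pow_mem hsr (S.isPGroup_isyl hEK hEA) hx hk)
    set N := H ⊓ normalizer (R : Set G) with hN
    have hNK : N ≤ K := inf_le_left.trans hHK
    have hRA := S.inv_isyl hEK hEA (t := r)
    have hNA : A ≤ normalizer (N : Set G) :=
      CoprimeAction.le_normalizer_inf hH (le_normalizer_normalizer hRA)
    -- Frattini argument
    have hfr : ∀ h : H, ∃ n : G, ∃ hn : n ∈ N, π ⟨n, hn.1⟩ = π h := by
      intro h
      obtain ⟨P, -, hP⟩ := S.exists_sylow hEK hEA (t := r)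
      have hle : MulAut.conj (h : G) • R ≤ E := fun y hy => by
        rw [CoprimeSZ.mem_conj_smul] at hy
        have := CoprimeAction.conj_mem (hHE h.2) (isyl_le hy)
        simpa [mul_assoc] using this
      obtain ⟨Q, hQ⟩ := CoprimeAction.exists_sylow_map_eq (p := r) hle
        (by rw [CoprimeSZ.card_conj_smul, S.card_isyl hEK hEA])
      obtain ⟨e, he⟩ := MulAction.exists_smul_eq E P Q
      have h1 : MulAut.conj (e : G) • R = MulAut.conj (h : G) • R := by
        rw [← hQ, ← he, show R = (P : Subgroup E).map E.subtype from hP]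
        exact (CoprimeSZ.map_conj_smul E.subtype e (P : Subgroup E)).symm
      have h2 : ((e : G)⁻¹ * h) ∈ normalizer (R : Set G) := by
        refine CoprimeAction.mem_normalizer_of_conj_smul_eq ?_
        rw [CoprimeSZ.conj_smul_mul, ← h1, ← CoprimeSZ.conj_smul_mul, inv_mul_cancel, map_one,
          one_smul]
      have he' : (e : G) ∈ (↑(R ⊔ fit H) : Set G) := hE e.2
      rw [Subgroup.coe_mul_of_left_le_normalizer_right _ _ (hRH.trans hHF)] at he'
      obtain ⟨r0, hr0, f, hf, hrf⟩ := he'
      have hr0N : r0⁻¹ ∈ normalizer (R : Set G) := Subgroup.le_normalizer (inv_mem hr0)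
      have hr0H : r0 ∈ H := hRH hr0
      -- `h = e (e⁻¹ h)`
      have hnH : r0 * ((e : G)⁻¹ * h) ∈ H := mul_mem hr0H (mul_mem (inv_mem (hEH e.2)) h.2)
      refine ⟨r0 * ((e : G)⁻¹ * h),
        ⟨hnH, mul_mem (Subgroup.le_normalizer hr0) h2⟩, ?_⟩
      have h3 : (⟨r0 * ((e : G)⁻¹ * h), hnH⟩ : H) =
          ⟨r0, hr0H⟩ * (⟨f, fit_le H hf⟩ : H)⁻¹ * (⟨r0, hr0H⟩ : H)⁻¹ * h := by
        apply Subtype.ext
        change r0 * ((e : G)⁻¹ * h) = r0 * f⁻¹ * r0⁻¹ * h
        rw [← hrf]
        group
      rw [h3, map_mul, map_mul, map_mul, map_inv, map_inv, (hfit ⟨f, fit_le H hf⟩).2 hf, inv_one,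
        mul_one, mul_inv_cancel, one_mul]
    set f := π.comp (Subgroup.inclusion (inf_le_left : N ≤ H)) with hf
    have hfs : Function.Surjective f := fun y => by
      obtain ⟨h, rfl⟩ := QuotientGroup.mk'_surjective _ y
      obtain ⟨n, hn, hnh⟩ := hfr h
      exact ⟨⟨n, hn⟩, hnh⟩
    obtain ⟨P, -, hP⟩ := S.exists_sylow hNK hNA (t := t)
    refine ⟨P.mapSurjective hfs, ?_⟩
    -- `[R, T]` lies in the Fitting subgroup
    set T := isyl A t N
    have hTN : T ≤ N := isyl_le
    have hTA := S.inv_isyl hNK hNA (t := t)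
    have hTp := S.isPGroup_isyl hNK hNA (t := t)
    have hRp := S.isPGroup_isyl hEK hEA (t := r)
    let Q : Subgroup G :=
      { carrier := {g | g ∈ H ∧ ∀ y ∈ R, ⁅y, g⁆ ∈ fit H}
        one_mem' := ⟨one_mem _, fun y _ => by simp⟩
        mul_mem' := fun {g h} hg hh => ⟨mul_mem hg.1 hh.1, fun y hy => by
          have := mul_mem (hg.2 y hy) (CoprimeAction.conj_mem (hHF hg.1) (hh.2 y hy))
          simpa [commutatorElement_def, mul_assoc] using this⟩
        inv_mem' := fun {g} hg => ⟨inv_mem hg.1, fun y hy => by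
          have := CoprimeAction.conj_mem' (hHF hg.1) (inv_mem (hg.2 y hy))
          simpa [commutatorElement_def, mul_assoc] using this⟩ }
    have hTQ : T ≤ Q := by
      refine S.le_of_parts (hTN.trans hNK) hTA fun a ha ha1 τ hτ => ⟨(hTN hτ.1).1, fun y hy => ?_⟩
      set Ta := T ⊓ centralizer ({a} : Set G) with hTa
      have hcom : ⁅R, Ta⁆ ≤ R := CoprimeAction.commutator_le_self_of_le_normalizer
        (inf_le_left.trans (hTN.trans inf_le_right))
      refine oo_le_fit (Fact.out : r.Prime) H ?_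
      refine le_oo_of_centralizes hEH hHE (fun x hx => ?_) (hcom.trans isyl_le)
        (hRp.to_le hcom) ?_ (Subgroup.commutator_mem_commutator hy hτ)
      · obtain ⟨k, hk⟩ := hEpow x hx
        exact exists_pow_mem_ff hk
      · refine Subgroup.le_centralizer_iff.1 (iSup_le fun s => ?_)
        refine Subgroup.le_centralizer_iff.1 ?_
        obtain ⟨s, hs, hsr⟩ := s
        have := Fact.mk hs
        have hVK : oo s H ≤ K := (oo_le s H).trans hHK
        have hRK := hRH.trans hHK
        have hTK : Ta ≤ cK K a := le_inf ((inf_le_left.trans hTN).trans hNK) inf_le_right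
        have := S.comm
        refine AbelCent88Act.commutator_centralizes (p := s) (a := a) S.prime
          { pV := isPGroup_oo s H
            noncyc := S.noncyc
            expA := fun l hl => S.pow_eq_one hl
            memA := ha
            ne_one := ha1
            AV := hH.trans (normalizer_le_oo s H)
            AR := hRA
            AT := S.inv_inf_centralizer ha hTA
            RV := hRH.trans (Subgroup.le_normalizer.trans (normalizer_le_oo s H))
            TV := (inf_le_left.trans (hTN.trans inf_le_left)).trans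
              (Subgroup.le_normalizer.trans (normalizer_le_oo s H))
            TR := inf_le_left.trans (hTN.trans inf_le_right)
            nilR := hRp.isNilpotent
            copAV := S.coprime hVK
            copAR := S.coprime hRK
            copTR := coprime_card_of_ne hrt.symm (hTp.to_le inf_le_left) hRp
            copRV := coprime_card_of_ne (Ne.symm hsr) hRp (isPGroup_oo s H)
            qT := S.not_dvd (hTK.trans inf_le_left)
            Ta := inf_le_right
            fixTV := S.commute_parts ha ha1 hTK (le_inf (inf_le_left.trans hVK) inf_le_right)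
            fixTR := S.commute_parts ha ha1 hTK (le_inf (inf_le_left.trans hRK) inf_le_right)
            fixl := fun l hl hla => ⟨S.commute_parts hl (Setting.ne_one_of_not_mem hla)
              (le_inf (inf_le_left.trans hVK) inf_le_right)
              (le_inf (inf_le_left.trans hRK) inf_le_right),
              eq_bot_iff.2 ((inf_le_inf_right _ (inf_le_inf_right _ hRK)).trans
                (S.inter_eq_bot ha ha1 hl hla).le)⟩ }
    rintro _ ⟨⟨τ, hτN⟩, hτ, rfl⟩
    rw [Subgroup.mem_centralizer_iff]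
    intro y hy
    obtain ⟨h, rfl⟩ := QuotientGroup.mk'_surjective _ y
    have hh : (h : G) ∈ (↑(R ⊔ fit H) : Set G) := hE (hmemE h hy)
    rw [Subgroup.coe_mul_of_left_le_normalizer_right _ _ (hRH.trans hHF)] at hh
    obtain ⟨r0, hr0, f0, hf0, hrf⟩ := hh
    have hτT : τ ∈ T := by
      rw [show T = (P : Subgroup N).map N.subtype from hP]
      exact ⟨⟨τ, hτN⟩, hτ, rfl⟩
    have hπh : π h = π ⟨r0, hRH hr0⟩ := by
      rw [show h = (⟨r0, hRH hr0⟩ : H) * ⟨f0, fit_le H hf0⟩ from Subtype.ext hrf.symm, map_mul,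
        (hfit ⟨f0, fit_le H hf0⟩).2 hf0, mul_one]
    change π h * π ⟨τ, hτN.1⟩ = π ⟨τ, hτN.1⟩ * π h
    rw [hπh, ← commutatorElement_eq_one_iff_mul_comm, ← map_commutatorElement, hfit]
    exact (hTQ hτT).2 r0 hr0
  rw [Subgroup.commutator_le]
  intro x hx y hy
  have hxH : x ∈ H := isyl_le hx
  have hyH : y ∈ H := isyl_le hy
  have h1 : π ⁅(⟨x, hxH⟩ : H), ⟨y, hyH⟩⁆ = 1 := by
    rw [map_commutatorElement, commutatorElement_eq_one_iff_mul_comm]
    refine (FittingHallBasic.commute_of_coprime_orderOf ?_).eq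
    refine Nat.Coprime.of_dvd (orderOf_map_dvd π _) (orderOf_map_dvd π _) ?_
    rw [Subgroup.orderOf_mk, Subgroup.orderOf_mk]
    exact Nat.Coprime.of_dvd (Subgroup.orderOf_dvd_natCard _ hx) (Subgroup.orderOf_dvd_natCard _ hy)
      (coprime_card_of_ne hrt (S.isPGroup_isyl hHK hH) (S.isPGroup_isyl hHK hH))
  exact (hfit _).1 h1

/-- (F2): an invariant `p`-subgroup centralising `O_t(H)` for all `t ≠ p` lies in `O_p(H)`. -/
theorem le_oo (S : Minimal q A K) {H : Subgroup G} (hHK : H ≤ K) (hne : H ≠ K)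
    (hH : A ≤ normalizer (H : Set G)) {p : ℕ} [hp : Fact p.Prime] {D : Subgroup G} (hDH : D ≤ H)
    (hD : IsPGroup p D) (hDA : A ≤ normalizer (D : Set G))
    (hDC : D ≤ centralizer (ff p H : Set G)) : D ≤ oo p H := by
  have hHF : H ≤ normalizer (fit H : Set G) := Subgroup.le_normalizer.trans (normalizer_le_fit H)
  set E := isyl A p H ⊔ fit H with hE
  have hEH : E ≤ H := sup_le isyl_le (fit_le H)
  refine le_oo_of_centralizes (E := E) hEH ?_ (fun x hx => ?_)
    ((le_isyl hDH hD hDA).trans le_sup_left) hD hDC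
  · refine S.le_of_isyl_le hHK hH fun t ht => ?_
    have := Fact.mk ht
    by_cases htp : t = p
    · subst htp
      exact le_sup_left.trans Subgroup.le_normalizer
    refine SignalizerCoprime.le_normalizer_of_forall fun g hg e he => ?_
    have h1 : E ≤ E.comap (MulAut.conj g).toMonoidHom := by
      refine sup_le (fun s hs => ?_) (fun s hs => ?_)
      · have h2 : ⁅g, s⁆ ∈ E := Subgroup.mem_sup_right
          (commutator_isyl_le_fit S hHK hne hH htp (Subgroup.commutator_mem_commutator hg hs))
        have := mul_mem h2 (Subgroup.mem_sup_left hs : s ∈ E)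
        rw [Subgroup.mem_comap]
        simpa [commutatorElement_def] using this
      · exact Subgroup.mem_sup_right (CoprimeAction.conj_mem (hHF (isyl_le hg)) hs)
    exact h1 he
  · have hx' : x ∈ (↑(isyl A p H ⊔ fit H) : Set G) := hx
    rw [Subgroup.coe_mul_of_left_le_normalizer_right _ _ (isyl_le.trans hHF)] at hx'
    obtain ⟨s, hs, f, hf, rfl⟩ := hx'
    obtain ⟨k, hk⟩ := S.isPGroup_isyl hHK hH ⟨s, hs⟩
    refine exists_pow_mem_ff (k := k) ?_
    have key : ∀ n : ℕ, ∃ f' ∈ fit H, (s * f) ^ n = s ^ n * f' := by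
      intro n
      induction n with
      | zero => exact ⟨1, one_mem _, by simp⟩
      | succ n ih =>
        obtain ⟨f', hf', he⟩ := ih
        refine ⟨(s⁻¹ * f' * s) * f, mul_mem (CoprimeAction.conj_mem' (hHF (isyl_le hs)) hf') hf, ?_⟩
        rw [pow_succ, he, pow_succ]
        group
    obtain ⟨f', hf', he⟩ := key (p ^ k)
    rw [he, show s ^ p ^ k = 1 from congrArg Subtype.val hk, one_mul]
    exact hf'

/-- If `O_t(H)` contains the Sylow `t`-subgroup for all `t` then `H` is nilpotent. -/
theorem isNilpotent_of_isyl_le (S : Minimal q A K) {H : Subgroup G} (hHK : H ≤ K)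
    (hH : A ≤ normalizer (H : Set G)) (h : ∀ t, t.Prime → isyl A t H ≤ oo t H) :
    Group.IsNilpotent H := by
  have h1 : fit H = H := le_antisymm (fit_le H)
    (S.le_of_isyl_le hHK hH fun t ht => (h t ht).trans (oo_le_fit ht H))
  have h2 := fit_isNilpotent H
  rwa [h1] at h2

end Cfsg.Agent.AbelCent88Height
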