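import Mathlib
import Cfsg.Agent.Lib.HallCore
import Cfsg.Agent.Lib.ComponentsFitting
import Cfsg.Agent.Lib.CoprimeSZ
import Cfsg.Agent.Lib.HallNilpotentConj
import Cfsg.Agent.Lib.OffendersReplace

/-!
Auxiliary facts for the Kegel–Wielandt theorem: Sylow parts of nilpotent subgroups, products of
subgroups and Fitting subgroups of solvable subgroups seen inside the ambient group.
-/

set_option autoImplicit false
set_option linter.unusedVariables false
set_option linter.unusedSectionVars false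

namespace Cfsg.Agent.KegelWielandtBasic

open Subgroup Pointwise

variable {G : Type*} [Group G]

theorem isNilpotent_of_le {A B : Subgroup G} (h : A ≤ B) [Group.IsNilpotent B] :
    Group.IsNilpotent A :=
  nilpotent_of_mulEquiv (subgroupOfEquivOfLe h)

theorem isNilpotent_conj {A : Subgroup G} (hA : Group.IsNilpotent A) (g : G) :
    Group.IsNilpotent (MulAut.conj g • A : Subgroup G) :=
  haveI := hA
  nilpotent_of_mulEquiv (Subgroup.equivSMul (MulAut.conj g) A)

theorem commute_in {A : Subgroup G} (hA : Group.IsNilpotent A) {a b : G} (ha : a ∈ A) (hb : b ∈ A)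
    (h : (orderOf a).Coprime (orderOf b)) : a * b = b * a := by
  haveI := hA
  exact congrArg Subtype.val (HallNilpotentConj.commute_of_coprime_orderOf A ⟨a, ha⟩ ⟨b, hb⟩
    (by rwa [← orderOf_coe, ← orderOf_coe])).eq

theorem exists_parts (a : G) {n m : ℕ} (h : n.Coprime m) (ha : a ^ (n * m) = 1) :
    ∃ x ∈ zpowers a, ∃ y ∈ zpowers a, x ^ n = 1 ∧ y ^ m = 1 ∧ a = x * y := by
  have hb := Nat.gcd_eq_gcd_ab n m
  rw [h.gcd_eq_one] at hb
  refine ⟨a ^ ((m : ℤ) * n.gcdB m), ⟨_, rfl⟩, a ^ ((n : ℤ) * n.gcdA m), ⟨_, rfl⟩, ?_, ?_, ?_⟩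
  · rw [← zpow_natCast, ← zpow_mul,
      show (m : ℤ) * n.gcdB m * n = ((n * m : ℕ) : ℤ) * n.gcdB m by push_cast; ring,
      zpow_mul, zpow_natCast, ha, one_zpow]
  · rw [← zpow_natCast, ← zpow_mul,
      show (n : ℤ) * n.gcdA m * m = ((n * m : ℕ) : ℤ) * n.gcdA m by push_cast; ring,
      zpow_mul, zpow_natCast, ha, one_zpow]
  · rw [← zpow_add, show (m : ℤ) * n.gcdB m + (n : ℤ) * n.gcdA m = 1 by push_cast at hb; linarith,
      zpow_one]

/-- The Sylow `p`-subgroup of a nilpotent subgroup. -/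
noncomputable def sy (A : Subgroup G) (p : ℕ) [Fact p.Prime] : Subgroup G :=
  ((Classical.arbitrary (Sylow p A) : Sylow p A) : Subgroup A).map A.subtype

variable [Finite G] {A : Subgroup G} {p : ℕ} [Fact p.Prime]

theorem sy_le : sy A p ≤ A := Subgroup.map_subtype_le _

theorem sy_isPGroup : IsPGroup p (sy A p) := (Classical.arbitrary (Sylow p A)).2.map _

theorem pow_eq_one_of_mem_sy {a : G} (ha : a ∈ sy A p) : ∃ k : ℕ, a ^ p ^ k = 1 := by
  obtain ⟨k, hk⟩ := sy_isPGroup ⟨a, ha⟩
  exact ⟨k, congrArg Subtype.val hk⟩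

theorem mem_sy (hA : Group.IsNilpotent A) {a : G} (ha : a ∈ A) {k : ℕ} (hk : a ^ p ^ k = 1) :
    a ∈ sy A p := by
  haveI := hA
  set P : Sylow p A := Classical.arbitrary (Sylow p A) with hP
  have hz : IsPGroup p (zpowers (⟨a, ha⟩ : A)) := by
    intro y
    refine ⟨k, Subtype.ext ?_⟩
    obtain ⟨i, hi⟩ := y.2
    rw [SubmonoidClass.coe_pow, OneMemClass.coe_one, ← hi]
    show ((⟨a, ha⟩ : A) ^ i) ^ p ^ k = 1
    rw [← zpow_natCast, ← zpow_mul, mul_comm, zpow_mul, zpow_natCast,
      show (⟨a, ha⟩ : A) ^ p ^ k = 1 from Subtype.ext hk, one_zpow]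
  obtain ⟨Q, hQ⟩ := hz.exists_le_sylow
  haveI : (P : Subgroup A).Normal := inferInstance
  haveI := P.unique_of_normal inferInstance
  rw [Subsingleton.elim Q P] at hQ
  exact ⟨⟨a, ha⟩, hQ (mem_zpowers _), rfl⟩

theorem not_dvd_index_sy (h : ¬ p ∣ A.index) : ¬ p ∣ (sy A p).index := by
  unfold sy
  rw [index_map_subtype]
  intro hd
  rcases (Fact.out : p.Prime).dvd_mul.mp hd with hd | hd
  · exact (Classical.arbitrary (Sylow p A)).not_dvd_index hd
  · exact h hd

theorem sy_ne_bot (h : p ∣ Nat.card A) : sy A p ≠ ⊥ := by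
  intro e
  unfold sy at e
  rw [map_eq_bot_iff_of_injective _ A.subtype_injective] at e
  have := (Classical.arbitrary (Sylow p A)).dvd_card_of_dvd_card h
  rw [e, card_bot] at this
  exact (Fact.out : p.Prime).not_dvd_one this

/-- Decomposition into a `p`-part and a part of order prime to `p`. -/
theorem exists_sy_mul (hA : Group.IsNilpotent A) {a : G} (ha : a ∈ A) :
    ∃ x ∈ sy A p, ∃ y ∈ A, ¬ p ∣ orderOf y ∧ a = x * y := by
  obtain ⟨k, m, hm, he⟩ := Nat.exists_eq_pow_mul_and_not_dvd (orderOf_pos a).ne' p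
    (Fact.out : p.Prime).ne_one
  obtain ⟨x, hx, y, hy, hxn, hym, hxy⟩ := exists_parts a
    (((Fact.out : p.Prime).coprime_iff_not_dvd.mpr hm).pow_left k)
    (by rw [← he, pow_orderOf_eq_one])
  exact ⟨x, mem_sy hA (zpowers_le.mpr ha hx) hxn, y, zpowers_le.mpr ha hy,
    fun h => hm (h.trans (orderOf_dvd_of_pow_eq_one hym)), hxy⟩

theorem commute_sy (hA : Group.IsNilpotent A) {x y : G} (hx : x ∈ sy A p) (hy : y ∈ A)
    (h : ¬ p ∣ orderOf y) : x * y = y * x := by
  obtain ⟨k, hk⟩ := pow_eq_one_of_mem_sy hx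
  refine commute_in hA (sy_le hx) hy ?_
  exact (((Fact.out : p.Prime).coprime_iff_not_dvd.mpr h).pow_left k).coprime_dvd_left
    (orderOf_dvd_of_pow_eq_one hk)

/-- A `p`-subgroup of `A` normalized by the `p`-part of `A` is normalized by `A`. -/
theorem le_normalizer_of_sy (hA : Group.IsNilpotent A) {R : Subgroup G} (hR : R ≤ sy A p)
    (hX : sy A p ≤ normalizer (R : Set G)) : A ≤ normalizer (R : Set G) := by
  intro a ha
  obtain ⟨x, hx, y, hy, hy', rfl⟩ := exists_sy_mul (p := p) hA ha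
  refine mul_mem (hX hx) ?_
  rw [Subgroup.mem_normalizer_iff]
  intro r
  constructor
  · intro hr
    rwa [← commute_sy hA (hR hr) hy hy', mul_inv_cancel_right]
  · intro hr
    have h := commute_sy hA (hR hr) hy hy'
    have e : y * r * y⁻¹ = r := by
      have h' : y * r = y * (y * r * y⁻¹) := by
        rw [← h]; group
      exact (mul_left_cancel h').symm
    rwa [e] at hr

theorem le_normalizer_sy (hA : Group.IsNilpotent A) : A ≤ normalizer (sy A p : Set G) :=
  le_normalizer_of_sy hA le_rfl le_normalizer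

/-- `z` is a central element of the subgroup `A`. -/
def Cen (A : Subgroup G) (z : G) : Prop := z ∈ A ∧ ∀ a ∈ A, z * a = a * z

theorem Cen.conj {A : Subgroup G} {z : G} (h : Cen A z) (g : G) :
    Cen (MulAut.conj g • A : Subgroup G) (g * z * g⁻¹) := by
  refine ⟨CoprimeSZ.conj_mul_mem_conj_smul h.1, ?_⟩
  rintro _ ⟨a, ha, rfl⟩
  simp only [MulDistribMulAction.toMonoidEnd_apply, MulDistribMulAction.toMonoidHom_apply,
    MulAut.smul_def, MulAut.conj_apply]
  calc g * z * g⁻¹ * (g * a * g⁻¹) = g * (z * a) * g⁻¹ := by group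
    _ = g * (a * z) * g⁻¹ := by rw [h.2 a ha]
    _ = _ := by group

theorem exists_cen (hA : Group.IsNilpotent A) (h : p ∣ Nat.card A) :
    ∃ z, Cen A z ∧ orderOf z = p ∧ z ∈ sy A p := by
  haveI : Nontrivial (sy A p) := (nontrivial_iff_ne_bot _).mpr (sy_ne_bot h)
  haveI := (sy_isPGroup (A := A) (p := p)).center_nontrivial
  obtain ⟨k, hk⟩ := IsPGroup.iff_card.mp ((sy_isPGroup (A := A) (p := p)).to_subgroup (center (sy A p)))
  have hd : p ∣ Nat.card (center (sy A p)) := by
    rcases k with _ | k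
    · rw [pow_zero] at hk
      have := Finite.one_lt_card_iff_nontrivial.mpr (inferInstance : Nontrivial (center (sy A p)))
      omega
    · exact hk ▸ dvd_pow_self p k.succ_ne_zero
  obtain ⟨⟨⟨z, hz⟩, hzc⟩, ho⟩ := exists_prime_orderOf_dvd_card' p hd
  refine ⟨z, ⟨sy_le hz, fun a ha => ?_⟩, ?_, hz⟩
  · obtain ⟨x, hx, y, hy, hy', rfl⟩ := exists_sy_mul (p := p) hA ha
    have h1 : x * z = z * x := congrArg Subtype.val (mem_center_iff.mp hzc ⟨x, hx⟩)
    rw [← mul_assoc, ← h1, mul_assoc, commute_sy hA hz hy hy', mul_assoc]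
  · rw [← ho, ← orderOf_coe, ← orderOf_coe]

omit [Fact p.Prime] in
theorem eq_of_card_normalizer {A g : Subgroup G} {m : ℕ} (hg : g ≤ normalizer (A : Set G))
    (hidx : A.index = m) (hcop : (Nat.card g).Coprime m) : g ≤ A := by
  have h := OffendersReplace.card_sup_mul_card_inf g A hg
  have h1 : Nat.card ↥(g ⊔ A) = Nat.card A * A.relIndex (g ⊔ A) :=
    (HallCore.card_mul_relIndex le_sup_right).symm
  have h2 : A.relIndex (g ⊔ A) ∣ m := hidx ▸ Subgroup.relIndex_dvd_index_of_le le_sup_right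
  have h3 : A.relIndex (g ⊔ A) ∣ Nat.card g := by
    rw [h1] at h
    have h' : Nat.card A * (A.relIndex (g ⊔ A) * Nat.card ↥(g ⊓ A)) = Nat.card A * Nat.card g := by
      rw [← mul_assoc, h, mul_comm]
    exact ⟨_, (Nat.eq_of_mul_eq_mul_left Nat.card_pos h').symm⟩
  have h4 := Nat.eq_one_of_dvd_coprimes hcop h3 h2
  rw [relIndex_eq_one] at h4
  exact le_sup_left.trans h4

omit [Fact p.Prime] in
/-- A normal subgroup of a factorised group of order prime to one factor lies in the other. -/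
theorem le_left_of_factor {X Y H R : Subgroup G} (hXY : (Nat.card X).Coprime (Nat.card Y))
    (hX : X ≤ H) (hY : Y ≤ H) (hfac : ∀ h ∈ H, ∃ x ∈ X, ∃ y ∈ Y, h = x * y)
    (hRH : R ≤ H) (hRn : H ≤ normalizer (R : Set G)) (hR : (Nat.card R).Coprime (Nat.card Y)) :
    R ≤ X := by
  have hcard : Nat.card H = Nat.card X * Nat.card Y := by
    rw [← Nat.card_prod]
    refine (Nat.card_eq_of_bijective (fun z : X × Y =>
      (⟨z.1.1 * z.2.1, mul_mem (hX z.1.2) (hY z.2.2)⟩ : H)) ⟨?_, ?_⟩).symm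
    · intro z z' e
      exact Subgroup.mul_injective_of_disjoint (disjoint_of_coprime_natCard hXY)
        (congrArg Subtype.val e)
    · rintro ⟨h, hh⟩
      obtain ⟨x, hx, y, hy, rfl⟩ := hfac h hh
      exact ⟨(⟨x, hx⟩, ⟨y, hy⟩), rfl⟩
  have h := OffendersReplace.card_sup_mul_card_inf X R (hX.trans hRn)
  have h1 : Nat.card ↥(X ⊔ R) ∣ Nat.card X * Nat.card R := Dvd.intro _ h
  have h2 : Nat.card ↥(X ⊔ R) ∣ Nat.card X * Nat.card Y := hcard ▸ card_dvd_of_le (sup_le hX hRH)
  have h3 : Nat.card ↥(X ⊔ R) ∣ Nat.card X := by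
    have := Nat.dvd_gcd h1 h2
    rwa [Nat.gcd_mul_left, hR.gcd_eq_one, mul_one] at this
  have h4 : X = X ⊔ R := eq_of_le_of_card_ge le_sup_left (Nat.le_of_dvd Nat.card_pos h3)
  exact le_sup_right.trans h4.ge

/-- The `p`-core of a subgroup, inside the ambient group. -/
def core (H : Subgroup G) (p : ℕ) : Subgroup G := (Cfsg.pCore p H).map H.subtype

omit [Fact p.Prime] in
theorem core_le {H : Subgroup G} : core H p ≤ H := map_subtype_le _

theorem core_isPGroup {H : Subgroup G} : IsPGroup p (core H p) :=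
  (HallCore.isPGroup_pCore p H).map _

omit [Fact p.Prime] in
theorem le_normalizer_core {H : Subgroup G} : H ≤ normalizer (core H p : Set G) := by
  haveI := HallCore.pCore_normal p H
  have h := le_normalizer_map (H := Cfsg.pCore p H) H.subtype
  rwa [normalizer_eq_top, ← MonoidHom.range_eq_map, range_subtype] at h

theorem coprime_core {H : Subgroup G} {n : ℕ} (h : ¬ p ∣ n) : (Nat.card (core H p)).Coprime n := by
  obtain ⟨k, hk⟩ := IsPGroup.iff_card.mp (core_isPGroup (p := p) (H := H))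
  rw [hk]
  exact (((Fact.out : p.Prime).coprime_iff_not_dvd.mpr h).pow_left k)

/-- The centre of the Fitting subgroup of a solvable subgroup, inside the ambient group. -/
def zf (H : Subgroup G) : Subgroup G :=
  (centralizer (Cfsg.fittingSubgroup H : Set H)).map H.subtype

omit [Fact p.Prime] in
theorem zf_le {H : Subgroup G} : zf H ≤ H := map_subtype_le _

omit [Fact p.Prime] in
theorem le_normalizer_zf {H : Subgroup G} : H ≤ normalizer (zf H : Set G) := by
  haveI : (Cfsg.fittingSubgroup H).Normal := ComponentsCores.fittingSubgroup_normal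
  have h := le_normalizer_map (H := centralizer (Cfsg.fittingSubgroup H : Set H)) H.subtype
  rwa [normalizer_eq_top, ← MonoidHom.range_eq_map, range_subtype] at h

omit [Fact p.Prime] in
theorem mem_zf {H : Subgroup G} {h : G} (hh : h ∈ H)
    (hc : ∀ t : ℕ, t.Prime → t ∣ Nat.card H → ∀ x ∈ core H t, h * x = x * h) : h ∈ zf H := by
  refine ⟨⟨h, hh⟩, ?_, rfl⟩
  have : Cfsg.fittingSubgroup H ≤ centralizer {(⟨h, hh⟩ : H)} := by
    rw [ComponentsFitting.fittingSubgroup_eq_iSup]
    refine iSup_le fun t => ?_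
    intro x hx
    rw [mem_centralizer_singleton_iff]
    exact Subtype.ext (hc t (Nat.prime_of_mem_primeFactors t.2) (Nat.dvd_of_mem_primeFactors t.2) x
      ⟨x, hx, rfl⟩).symm
  rw [SetLike.mem_coe, mem_centralizer_iff]
  intro x hx
  exact mem_centralizer_singleton_iff.mp (this hx)

omit [Fact p.Prime] in
theorem zf_comm {H : Subgroup G} (hs : Group.IsSolvable H) :
    ∀ x ∈ zf H, ∀ y ∈ zf H, x * y = y * x := by
  rintro _ ⟨x, hx, rfl⟩ _ ⟨y, hy, rfl⟩
  rw [← map_mul, ← map_mul, mem_centralizer_iff.mp hy x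
    (ComponentsFitting.centralizer_fitting_le_of_solvable hx)]

theorem mem_core_of_mem_fitting {H : Type*} [Group H] [Finite H] {x : H}
    (hx : x ∈ Cfsg.fittingSubgroup H) {k : ℕ} (hk : x ^ p ^ k = 1) : x ∈ Cfsg.pCore p H := by
  haveI : (Cfsg.fittingSubgroup H).Normal := ComponentsCores.fittingSubgroup_normal
  set F := Cfsg.fittingSubgroup H
  set P : Sylow p F := Classical.arbitrary (Sylow p F)
  haveI : (P : Subgroup F).Normal := inferInstance
  haveI : (P : Subgroup F).Characteristic := P.characteristic_of_normal inferInstance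
  haveI : ((P : Subgroup F).map F.subtype).Normal := inferInstance
  exact HallCore.le_pCore (P.2.map F.subtype) (mem_sy inferInstance hx hk)

theorem eq_one_of_mem_zf {H : Subgroup G} (hs : Group.IsSolvable H) (h0 : core H p = ⊥) {x : G}
    (hx : x ∈ zf H) {k : ℕ} (hk : x ^ p ^ k = 1) : x = 1 := by
  obtain ⟨x, hx, rfl⟩ := hx
  have h1 : x ∈ Cfsg.pCore p H := mem_core_of_mem_fitting
    (ComponentsFitting.centralizer_fitting_le_of_solvable hx) (k := k) (Subtype.ext hk)
  exact mem_bot.mp (h0 ▸ ⟨x, h1, rfl⟩ : (H.subtype x) ∈ (⊥ : Subgroup G))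

theorem coprime_card_zf {H : Subgroup G} (hs : Group.IsSolvable H) (h0 : core H p = ⊥) :
    ¬ p ∣ Nat.card (zf H) := by
  intro hd
  obtain ⟨⟨x, hx⟩, ho⟩ := exists_prime_orderOf_dvd_card' p hd
  rw [Subgroup.orderOf_mk] at ho
  have := eq_one_of_mem_zf hs h0 hx (k := 1) (by rw [pow_one, ← ho, pow_orderOf_eq_one])
  rw [this, orderOf_one] at ho
  exact (Fact.out : p.Prime).one_lt.ne ho

end Cfsg.Agent.KegelWielandtBasic
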