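import Mathlib
import Cfsg.Agent.Lib.KegelWielandtBasic
import Cfsg.Agent.Lib.CoprimeAction
import Cfsg.Agent.Lib.CharInducedBurnside

/-!
Products of two nilpotent subgroups of coprime orders.  In a minimal counterexample the two
normalizers have trivial-intersection Hall subgroups, and a fixed-point count on their coset
spaces gives a contradiction.
-/

set_option autoImplicit false
set_option linter.unusedVariables false
set_option linter.unusedSectionVars false

namespace Cfsg.Agent.KegelWielandtCoprime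

open Subgroup Pointwise KegelWielandtBasic
open scoped commutatorElement

variable {G : Type*} [Group G] [Finite G]

/-- A minimal counterexample in the coprime case. -/
structure Setting (A B : Subgroup G) : Prop where
  nA : Group.IsNilpotent A
  nB : Group.IsNilpotent B
  cop : (Nat.card A).Coprime (Nat.card B)
  mul : ∀ g : G, ∃ a ∈ A, ∃ b ∈ B, g = a * b
  sol : ∀ H : Subgroup G, H ≠ ⊤ → ∀ X Y : Subgroup G, X ≤ H → Y ≤ H → Group.IsNilpotent X →
    Group.IsNilpotent Y → (Nat.card X).Coprime (Nat.card Y) →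
    (∀ h ∈ H, ∃ x ∈ X, ∃ y ∈ Y, h = x * y) → Group.IsSolvable H
  simple : ∀ N : Subgroup G, N.Normal → N = ⊥ ∨ N = ⊤
  nsol : ¬ Group.IsSolvable G
  twoA : ∀ p : ℕ, ∃ q : ℕ, q.Prime ∧ q ≠ p ∧ q ∣ Nat.card A
  twoB : ∀ p : ℕ, ∃ q : ℕ, q.Prime ∧ q ≠ p ∧ q ∣ Nat.card B

variable {A B : Subgroup G}

theorem Setting.swap (S : Setting A B) : Setting B A :=
  { nA := S.nB, nB := S.nA, cop := S.cop.symm
    mul := fun g => by
      obtain ⟨a, ha, b, hb, h⟩ := S.mul g⁻¹
      exact ⟨b⁻¹, inv_mem hb, a⁻¹, inv_mem ha, by rw [← inv_inv g, h, mul_inv_rev]⟩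
    sol := S.sol, simple := S.simple, nsol := S.nsol, twoA := S.twoB, twoB := S.twoA }

theorem Setting.conjRight (S : Setting A B) (g : G) : Setting A (MulAut.conj g • B : Subgroup G) :=
  { nA := S.nA, nB := isNilpotent_conj S.nB g
    cop := by rw [CoprimeSZ.card_conj_smul]; exact S.cop
    mul := fun w => by
      obtain ⟨a₀, ha₀, b₀, hb₀, hg⟩ := S.mul g
      obtain ⟨a, ha, b, hb, hw⟩ := S.mul (w * g)
      refine ⟨a * a₀⁻¹, mul_mem ha (inv_mem ha₀), g * (b₀⁻¹ * b) * g⁻¹,
        CoprimeSZ.conj_mul_mem_conj_smul (mul_mem (inv_mem hb₀) hb), ?_⟩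
      rw [eq_mul_inv_iff_mul_eq.mpr hw.symm, hg]
      group
    sol := S.sol, simple := S.simple, nsol := S.nsol, twoA := S.twoA
    twoB := fun p => by rw [CoprimeSZ.card_conj_smul]; exact S.twoB p }

theorem Setting.conjLeft (S : Setting A B) (g : G) : Setting (MulAut.conj g • A : Subgroup G) B :=
  (S.swap.conjRight g).swap

theorem Setting.card_mul (S : Setting A B) : Nat.card A * Nat.card B = Nat.card G := by
  rw [← Nat.card_prod]
  refine Nat.card_eq_of_bijective (fun x : A × B => (x.1 : G) * x.2) ⟨?_, ?_⟩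
  · exact Subgroup.mul_injective_of_disjoint (disjoint_of_coprime_natCard S.cop)
  · intro g
    obtain ⟨a, ha, b, hb, rfl⟩ := S.mul g
    exact ⟨(⟨a, ha⟩, ⟨b, hb⟩), rfl⟩

theorem Setting.index_eq (S : Setting A B) : A.index = Nat.card B :=
  Nat.eq_of_mul_eq_mul_left Nat.card_pos (by rw [A.card_mul_index, S.card_mul])

theorem Setting.ne_bot (S : Setting A B) : A ≠ ⊥ := by
  intro h
  obtain ⟨q, hq, -, hd⟩ := S.twoA 0
  rw [h, card_bot] at hd
  exact hq.not_dvd_one hd

theorem Setting.ne_top (S : Setting A B) : A ≠ ⊤ := by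
  intro h
  haveI hn : Group.IsNilpotent (⊤ : Subgroup G) := h ▸ S.nA
  haveI : Group.IsNilpotent G := nilpotent_of_mulEquiv (topEquiv (G := G))
  exact S.nsol inferInstance

theorem Setting.mem_of_normalizes (S : Setting A B) {g : G} (hg : g ∈ normalizer (A : Set G))
    (h : (orderOf g).Coprime (Nat.card B)) : g ∈ A :=
  eq_of_card_normalizer (zpowers_le.mpr hg) S.index_eq (by rwa [Nat.card_zpowers])
    (mem_zpowers g)

theorem Setting.normalizer_ne_top (S : Setting A B) {R : Subgroup G} (h0 : R ≠ ⊥) (h1 : R ≠ ⊤) :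
    normalizer (R : Set G) ≠ ⊤ := by
  intro h
  rcases S.simple R (normalizer_eq_top_iff.mp h) with e | e
  · exact h0 e
  · exact h1 e

theorem Setting.solvable_factor (S : Setting A B) {H : Subgroup G} (hH : H ≠ ⊤)
    (hfac : ∀ h ∈ H, ∃ a ∈ A ⊓ H, ∃ b ∈ B ⊓ H, h = a * b) : Group.IsSolvable H :=
  haveI := S.nA
  haveI := S.nB
  S.sol H hH (A ⊓ H) (B ⊓ H) inf_le_right inf_le_right (isNilpotent_of_le inf_le_left)
    (isNilpotent_of_le inf_le_left)
    ((S.cop.coprime_dvd_left (card_dvd_of_le inf_le_left)).coprime_dvd_right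
      (card_dvd_of_le inf_le_left)) hfac

theorem Setting.le_left (S : Setting A B) {H R : Subgroup G}
    (hfac : ∀ h ∈ H, ∃ a ∈ A ⊓ H, ∃ b ∈ B ⊓ H, h = a * b)
    (hRH : R ≤ H) (hRn : H ≤ normalizer (R : Set G)) (hR : (Nat.card R).Coprime (Nat.card B)) :
    R ≤ A :=
  (le_left_of_factor ((S.cop.coprime_dvd_left (card_dvd_of_le inf_le_left)).coprime_dvd_right
      (card_dvd_of_le (inf_le_left : B ⊓ H ≤ B))) inf_le_right inf_le_right hfac hRH hRn
      (hR.coprime_dvd_right (card_dvd_of_le inf_le_left))).trans inf_le_left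

theorem Setting.swap_fac (S : Setting A B) {H : Subgroup G}
    (hfac : ∀ h ∈ H, ∃ a ∈ A ⊓ H, ∃ b ∈ B ⊓ H, h = a * b) :
    ∀ h ∈ H, ∃ b ∈ B ⊓ H, ∃ a ∈ A ⊓ H, h = b * a := fun h hh => by
  obtain ⟨a, ha, b, hb, he⟩ := hfac h⁻¹ (inv_mem hh)
  exact ⟨b⁻¹, inv_mem hb, a⁻¹, inv_mem ha, by rw [← inv_inv h, he, mul_inv_rev]⟩

theorem Setting.not_dvd_right (S : Setting A B) {p : ℕ} (hp : p.Prime) (h : p ∣ Nat.card A) :
    ¬ p ∣ Nat.card B := fun h' => hp.one_lt.ne' (Nat.eq_one_of_dvd_coprimes S.cop h h')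

theorem Setting.pgroup_le_conj (S : Setting A B) {p : ℕ} [Fact p.Prime] (h : p ∣ Nat.card A)
    {R : Subgroup G} (hR : IsPGroup p R) :
    ∃ g : G, R ≤ sy (MulAut.conj g • A : Subgroup G) p := by
  have hi : ¬ p ∣ (sy A p).index :=
    not_dvd_index_sy (by rw [S.index_eq]; exact S.not_dvd_right Fact.out h)
  obtain ⟨Q, hQ⟩ := hR.exists_le_sylow
  let P : Sylow p G := (sy_isPGroup (A := A) (p := p)).toSylow hi
  obtain ⟨g, hg⟩ := MulAction.exists_smul_eq G P Q
  refine ⟨g, fun x hx => ?_⟩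
  have hx' : x ∈ (MulAut.conj g • sy A p : Subgroup G) := by
    have h1 := hQ hx
    rw [← hg] at h1
    exact h1
  obtain ⟨k, hk⟩ := hR ⟨x, hx⟩
  exact mem_sy (isNilpotent_conj S.nA g)
    (Subgroup.pointwise_smul_le_pointwise_smul_iff.mpr sy_le hx') (k := k) (congrArg Subtype.val hk)

/-- Subgroups generated by pieces normalized by the factors have factorised normalizers. -/
theorem Setting.exists_local (S : Setting A B) {X Y H : Subgroup G} (hX : A ≤ normalizer (X : Set G))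
    (hY : B ≤ normalizer (Y : Set G)) (hH : H ≠ ⊤) (hXH : X ≤ H) (hYH : Y ≤ H) (hX0 : X ≠ ⊥) :
    ∃ L : Subgroup G, L ≠ ⊤ ∧ X ≤ L ∧ Y ≤ L ∧
      (∀ h ∈ L, ∃ a ∈ A ⊓ L, ∃ b ∈ B ⊓ L, h = a * b) ∧ Group.IsSolvable L := by
  set U := X ⊔ Y with hU
  have hne : normalizer (U : Set G) ≠ ⊤ := S.normalizer_ne_top
    (fun e => hX0 (le_bot_iff.mp (e ▸ le_sup_left)))
    (fun e => hH (top_le_iff.mp (e ▸ sup_le hXH hYH)))
  have hfac : ∀ h ∈ normalizer (U : Set G),
      ∃ a ∈ A ⊓ normalizer (U : Set G), ∃ b ∈ B ⊓ normalizer (U : Set G), h = a * b := by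
    intro h hh
    obtain ⟨a, ha, b, hb, rfl⟩ := S.mul h
    have e : (MulAut.conj b • U : Subgroup G) = MulAut.conj a⁻¹ • U := by
      have := CoprimeSZ.conj_smul_eq_self hh
      rw [map_mul, mul_smul] at this
      rw [map_inv, eq_inv_smul_iff]
      exact this
    have h1 : X ≤ (MulAut.conj a⁻¹ • U : Subgroup G) := by
      rw [← CoprimeSZ.conj_smul_eq_self (hX (inv_mem ha))]
      exact Subgroup.pointwise_smul_le_pointwise_smul_iff.mpr le_sup_left
    have h2 : Y ≤ (MulAut.conj b • U : Subgroup G) := by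
      rw [← CoprimeSZ.conj_smul_eq_self (hY hb)]
      exact Subgroup.pointwise_smul_le_pointwise_smul_iff.mpr le_sup_right
    have h3 : U = MulAut.conj b • U :=
      eq_of_le_of_card_ge (sup_le (e ▸ h1) h2) (CoprimeSZ.card_conj_smul _ _).le
    have hbn : b ∈ normalizer (U : Set G) :=
      CoprimeAction.mem_normalizer_of_conj_smul_eq h3.symm
    have han : a ∈ normalizer (U : Set G) := by simpa using mul_mem hh (inv_mem hbn)
    exact ⟨a, ⟨ha, han⟩, b, ⟨hb, hbn⟩, rfl⟩
  exact ⟨_, hne, le_sup_left.trans le_normalizer, le_sup_right.trans le_normalizer, hfac,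
    S.solvable_factor hne hfac⟩

/-- A proper subgroup containing `A` contains no central element of `B`. -/
theorem Setting.inter_center (S : Setting A B) {H : Subgroup G} (hH : H ≠ ⊤) (hA : A ≤ H) {b : G}
    (hb : Cen B b) (hbH : b ∈ H) : b = 1 := by
  have hle : normalClosure ({b} : Set G) ≤ H := by
    rw [normalClosure, closure_le]
    intro c hc
    obtain ⟨d, hd, hcd⟩ := Group.mem_conjugatesOfSet_iff.mp hc
    rw [Set.mem_singleton_iff] at hd
    subst hd
    obtain ⟨g, rfl⟩ := isConj_iff.mp hcd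
    obtain ⟨a, ha, b', hb', rfl⟩ := S.mul g
    have : a * b' * d * (a * b')⁻¹ = a * d * a⁻¹ := by
      calc a * b' * d * (a * b')⁻¹ = a * (b' * d) * b'⁻¹ * a⁻¹ := by group
        _ = a * (d * b') * b'⁻¹ * a⁻¹ := by rw [hb.2 b' hb']
        _ = _ := by group
    rw [this]
    exact mul_mem (mul_mem (hA ha) hbH) (inv_mem (hA ha))
  rcases S.simple (normalClosure ({b} : Set G)) normalClosure_normal with e | e
  · exact mem_bot.mp (e ▸ subset_normalClosure rfl)
  · rw [e] at hle; exact absurd (top_le_iff.mp hle) hH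

/-- In a local subgroup meeting `A` in a full Sylow subgroup and `B` in a central element,
the core for that prime is trivial. -/
theorem Setting.core_bot (S : Setting A B) {L : Subgroup G} (hL : L ≠ ⊤)
    (hfac : ∀ h ∈ L, ∃ a ∈ A ⊓ L, ∃ b ∈ B ⊓ L, h = a * b)
    {p : ℕ} [Fact p.Prime] (hp : p ∣ Nat.card A) (hX : sy A p ≤ L) {b : G} (hb : Cen B b)
    (hbL : b ∈ L) (hb1 : b ≠ 1) : core L p = ⊥ := by
  by_contra h0
  have hle : core L p ≤ A :=
    S.le_left hfac core_le le_normalizer_core (coprime_core (S.not_dvd_right Fact.out hp))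
  have hsy : core L p ≤ sy A p := fun x hx => by
    obtain ⟨k, hk⟩ := core_isPGroup ⟨x, hx⟩
    exact mem_sy S.nA (hle hx) (k := k) (congrArg Subtype.val hk)
  exact hb1 (S.inter_center
    (S.normalizer_ne_top h0 (fun e => hL (top_le_iff.mp (e ▸ core_le))))
    (le_normalizer_of_sy S.nA hsy (hX.trans le_normalizer_core)) hb (le_normalizer_core hbL))

/-- No proper subgroup contains a Sylow subgroup of each factor. -/
theorem Setting.no_proper (S : Setting A B) {r s : ℕ} [Fact r.Prime] [Fact s.Prime]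
    (hr : r ∣ Nat.card A) (hs : s ∣ Nat.card B) {H : Subgroup G} (hH : H ≠ ⊤)
    (hX : sy A r ≤ H) (hY : sy B s ≤ H) : False := by
  obtain ⟨L, hL, hXL, hYL, hfac, hsol⟩ :=
    S.exists_local (le_normalizer_sy S.nA) (le_normalizer_sy S.nB) hH hX hY (sy_ne_bot hr)
  obtain ⟨b, hb, hbo, hbY⟩ := exists_cen (p := s) S.nB hs
  obtain ⟨a, ha, hao, haX⟩ := exists_cen (p := r) S.nA hr
  have hb1 : b ≠ 1 := fun e => by
    rw [e, orderOf_one] at hbo; exact (Fact.out : s.Prime).one_lt.ne hbo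
  have ha1 : a ≠ 1 := fun e => by
    rw [e, orderOf_one] at hao; exact (Fact.out : r.Prime).one_lt.ne hao
  have hr0 : core L r = ⊥ := S.core_bot hL hfac hr hXL hb (hYL hbY) hb1
  have hs0 : core L s = ⊥ := S.swap.core_bot hL (S.swap_fac hfac) hs hYL ha (hXL haX) ha1
  -- the commutators of the two Sylow subgroups are central in the Fitting subgroup
  have hcA : ∀ (A' B' : Subgroup G), Setting A' B' →
      (∀ h ∈ L, ∃ a ∈ A' ⊓ L, ∃ b ∈ B' ⊓ L, h = a * b) → ∀ (q : ℕ) [Fact q.Prime],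
      core L q = ⊥ → ∀ x ∈ sy A' q, ∀ t : ℕ, t.Prime → ¬ t ∣ Nat.card B' →
      ∀ c ∈ core L t, x * c = c * x := by
    intro A' B' S' hfac' q _ hq0 x hx t ht htB c hc
    haveI := Fact.mk ht
    by_cases htq : t = q
    · subst htq
      rw [hq0, mem_bot] at hc
      rw [hc, mul_one, one_mul]
    have hcA' : c ∈ A' := S'.le_left hfac' core_le le_normalizer_core (coprime_core htB) hc
    obtain ⟨k, hk⟩ := core_isPGroup ⟨c, hc⟩
    refine commute_sy S'.nA hx hcA' fun hd => htq ?_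
    have := (Fact.out : q.Prime).dvd_of_dvd_pow
      (hd.trans (orderOf_dvd_of_pow_eq_one (congrArg Subtype.val hk : c ^ t ^ k = 1)))
    exact ((Nat.prime_dvd_prime_iff_eq Fact.out ht).mp this).symm
  have hcom : ∀ x ∈ sy A r, b * x * b⁻¹ * x⁻¹ ∈ zf L := by
    intro x hx
    refine mem_zf (mul_mem (mul_mem (mul_mem (hYL hbY) (hXL hx)) (inv_mem (hYL hbY)))
      (inv_mem (hXL hx))) fun t ht _ c hc => ?_
    rw [← commutatorElement_def, ← mem_centralizer_singleton_iff]
    haveI := Fact.mk ht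
    by_cases htB : t ∣ Nat.card B
    · have htA : ¬ t ∣ Nat.card A := S.swap.not_dvd_right ht htB
      have h1 : ∀ w ∈ L, w * b * w⁻¹ ∈ centralizer {c} := by
        intro w hw
        rw [mem_centralizer_singleton_iff]
        have hc' : w⁻¹ * c * w ∈ core L t := by
          simpa using (Subgroup.mem_normalizer_iff.mp (le_normalizer_core (inv_mem hw)) c).mp hc
        have := hcA B A S.swap (S.swap_fac hfac) s hs0 b hbY t ht htA _ hc'
        calc w * b * w⁻¹ * c = w * (b * (w⁻¹ * c * w)) * w⁻¹ := by group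
          _ = w * (w⁻¹ * c * w * b) * w⁻¹ := by rw [this]
          _ = _ := by group
      rw [commutatorElement_def, show b * x * b⁻¹ * x⁻¹ = b * (x * b * x⁻¹)⁻¹ by group]
      exact mul_mem (by simpa using h1 1 (one_mem _)) (inv_mem (h1 x (hXL hx)))
    · have h1 : ∀ w ∈ L, w * x * w⁻¹ ∈ centralizer {c} := by
        intro w hw
        rw [mem_centralizer_singleton_iff]
        have hc' : w⁻¹ * c * w ∈ core L t := by
          simpa using (Subgroup.mem_normalizer_iff.mp (le_normalizer_core (inv_mem hw)) c).mp hc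
        have := hcA A B S hfac r hr0 x hx t ht htB _ hc'
        calc w * x * w⁻¹ * c = w * (x * (w⁻¹ * c * w)) * w⁻¹ := by group
          _ = w * (w⁻¹ * c * w * x) * w⁻¹ := by rw [this]
          _ = _ := by group
      rw [commutatorElement_def]
      exact mul_mem (h1 b (hYL hbY)) (inv_mem (by simpa using h1 1 (one_mem _)))
  set Z := zf L with hZ
  have hZr : ¬ r ∣ Nat.card Z := coprime_card_zf hsol hr0
  have hZs : ¬ s ∣ Nat.card Z := coprime_card_zf hsol hs0
  obtain ⟨k, hk⟩ := IsPGroup.iff_card.mp (sy_isPGroup (A := A) (p := r))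
  haveI hZsol : Group.IsSolvable Z := by
    haveI : IsMulCommutative Z := ⟨⟨fun x y => Subtype.ext (zf_comm hsol x x.2 y y.2)⟩⟩
    exact Group.isSolvable_of_comm fun x y => mul_comm' x y
  obtain ⟨f, hf, hfe⟩ := CoprimeSZ.exists_conj_of_card_eq (N := Z) (A := sy A r)
    (B := MulAut.conj b • sy A r) (hXL.trans le_normalizer_zf)
    (by rw [hk]; exact ((Fact.out : r.Prime).coprime_iff_not_dvd.mpr hZr).pow_left k)
    (Or.inr hZsol)
    (by
      intro z hz
      rw [CoprimeSZ.mem_conj_smul] at hz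
      have e : z = (b * (b⁻¹ * z * b) * b⁻¹ * (b⁻¹ * z * b)⁻¹) * (b⁻¹ * z * b) := by group
      rw [e]
      exact mul_mem (mem_sup_left (hcom _ hz)) (mem_sup_right hz))
    (CoprimeSZ.card_conj_smul _ _)
  set W := normalizer (sy A r : Set G) with hW
  have hu : f⁻¹ * b ∈ W := by
    refine CoprimeAction.mem_normalizer_of_conj_smul_eq ?_
    rw [map_mul, mul_smul, ← hfe, map_inv, inv_smul_smul]
  have hWne : W ≠ ⊤ := S.normalizer_ne_top (sy_ne_bot hr)
    (fun e => S.ne_top (top_le_iff.mp (e ▸ sy_le)))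
  set T := Z ⊔ zpowers b with hT
  have hbn : zpowers b ≤ normalizer (Z : Set G) :=
    (zpowers_le.mpr (hYL hbY)).trans le_normalizer_zf
  have hTc : Nat.card T ∣ Nat.card Z * s := by
    have := OffendersReplace.card_sup_mul_card_inf (zpowers b) Z hbn
    rw [Nat.card_zpowers, hbo] at this
    rw [hT, sup_comm, mul_comm (Nat.card Z)]
    exact Dvd.intro _ this
  have hsK : s ∣ Nat.card ↥(W ⊓ T) := by
    by_contra hd
    have h1 : Nat.card ↥(W ⊓ T) ∣ Nat.card Z :=
      (((Fact.out : s.Prime).coprime_iff_not_dvd.mpr hd).symm).dvd_of_dvd_mul_right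
        ((card_dvd_of_le inf_le_right).trans hTc)
    have h2 : f⁻¹ * b ∈ W ⊓ T :=
      ⟨hu, mul_mem (mem_sup_left (inv_mem hf)) (mem_sup_right (mem_zpowers b))⟩
    have h3 : (f⁻¹ * b) ^ Nat.card Z = 1 :=
      orderOf_dvd_iff_pow_eq_one.mp ((Subgroup.orderOf_dvd_natCard _ h2).trans h1)
    have h4 : ∀ n : ℕ, (f⁻¹ * b) ^ n * (b ^ n)⁻¹ ∈ Z := by
      intro n
      induction n with
      | zero => simp
      | succ n ihn =>
        have e : (f⁻¹ * b) ^ (n + 1) * (b ^ (n + 1))⁻¹ =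
            f⁻¹ * (b * ((f⁻¹ * b) ^ n * (b ^ n)⁻¹) * b⁻¹) := by
          rw [pow_succ', pow_succ']; group
        rw [e]
        exact mul_mem (inv_mem hf) ((Subgroup.mem_normalizer_iff.mp (hbn (mem_zpowers b)) _).mp ihn)
    have h5 := h4 (Nat.card Z)
    rw [h3, one_mul] at h5
    have h6 := Subgroup.orderOf_dvd_natCard Z (inv_mem_iff.mp h5)
    rw [orderOf_pow, hbo, ((Fact.out : s.Prime).coprime_iff_not_dvd.mpr hZs).gcd_eq_one,
      Nat.div_one] at h6
    exact hZs h6
  obtain ⟨⟨u, hu'⟩, huo⟩ := exists_prime_orderOf_dvd_card' s hsK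
  rw [Subgroup.orderOf_mk] at huo
  obtain ⟨g, hg, hge⟩ := CoprimeSZ.exists_conj_of_card_eq (N := Z) (A := zpowers b)
    (B := zpowers u) hbn
    (by rw [Nat.card_zpowers, hbo]; exact (Fact.out : s.Prime).coprime_iff_not_dvd.mpr hZs)
    (Or.inr hZsol) (zpowers_le.mpr hu'.2) (by rw [Nat.card_zpowers, Nat.card_zpowers, hbo, huo])
  have hgb : g * b * g⁻¹ ∈ W :=
    (zpowers_le.mpr hu'.1 : zpowers u ≤ W)
      (hge ▸ CoprimeSZ.conj_mul_mem_conj_smul (mem_zpowers b))
  have := (S.conjRight g).inter_center hWne (le_normalizer_sy S.nA) (hb.conj g) hgb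
  exact hb1 (conj_eq_one_iff.mp this)

/-- No proper subgroup contains a Sylow subgroup of `A` and a central element of `B`. -/
theorem Setting.no_central (S : Setting A B) {r : ℕ} [Fact r.Prime] (hr : r ∣ Nat.card A)
    {H : Subgroup G} (hH : H ≠ ⊤) (hX : sy A r ≤ H) {b : G} (hb : Cen B b) (hb1 : b ≠ 1)
    (hbH : b ∈ H) : False := by
  have hY : B ≤ normalizer (zpowers b : Set G) := fun c hc => by
    refine CoprimeAction.mem_normalizer_of_conj_smul_eq ?_
    rw [CoprimeSZ.conj_smul_eq_map, MonoidHom.map_zpowers]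
    show zpowers (c * b * c⁻¹) = _
    rw [← hb.2 c hc, mul_inv_cancel_right]
  obtain ⟨L, hL, hXL, hbL, hfac, hsol⟩ :=
    S.exists_local (le_normalizer_sy S.nA) hY hH hX (zpowers_le.mpr hbH) (sy_ne_bot hr)
  have hbL' : b ∈ L := hbL (mem_zpowers b)
  have hr0 : core L r = ⊥ := S.core_bot hL hfac hr hXL hb hbL' hb1
  have hB0 : ∀ t : ℕ, t.Prime → t ∣ Nat.card B → core L t = ⊥ := by
    intro t ht htB
    haveI := Fact.mk ht
    by_contra h0
    obtain ⟨s, hs, hst, hsB⟩ := S.twoB t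
    haveI := Fact.mk hs
    have hle : core L t ≤ B := S.swap.le_left (S.swap_fac hfac) core_le le_normalizer_core
      (coprime_core (S.swap.not_dvd_right ht htB))
    refine S.no_proper hr hsB (H := normalizer (core L t : Set G))
      (S.normalizer_ne_top h0 (fun e => hL (top_le_iff.mp (e ▸ core_le))))
      (hXL.trans le_normalizer_core) ?_
    refine CoprimeAction.le_normalizer_of_conj_mem fun y hy c hc => ?_
    obtain ⟨k, hk⟩ := core_isPGroup ⟨c, hc⟩
    have hns : ¬ s ∣ orderOf c := fun hd => hst ((Nat.prime_dvd_prime_iff_eq hs ht).mp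
      (hs.dvd_of_dvd_pow (hd.trans
        (orderOf_dvd_of_pow_eq_one (congrArg Subtype.val hk : c ^ t ^ k = 1)))))
    rwa [commute_sy S.nB hy (hle hc) hns, mul_inv_cancel_right]
  obtain ⟨a, ha, hao, haX⟩ := exists_cen (p := r) S.nA hr
  have haz : a ∈ zf L := by
    refine mem_zf (hXL haX) fun t ht _ c hc => ?_
    haveI := Fact.mk ht
    by_cases htB : t ∣ Nat.card B
    · rw [hB0 t ht htB, mem_bot] at hc
      rw [hc, mul_one, one_mul]
    · exact ha.2 c (S.le_left hfac core_le le_normalizer_core (coprime_core htB) hc)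
  have := eq_one_of_mem_zf hsol hr0 haz (k := 1) (by rw [pow_one, ← hao, pow_orderOf_eq_one])
  rw [this, orderOf_one] at hao
  exact (Fact.out : r.Prime).one_lt.ne hao

theorem Setting.exists_prime_pow_mem {H : Subgroup G} {x : G} (hx : x ∈ H) (h1 : x ≠ 1) :
    ∃ t : ℕ, t.Prime ∧ ∃ n : ℕ, orderOf (x ^ n) = t ∧ t ∣ orderOf x := by
  have h2 : orderOf x ≠ 1 := fun e => h1 (orderOf_eq_one_iff.mp e)
  refine ⟨(orderOf x).minFac, Nat.minFac_prime h2, orderOf x / (orderOf x).minFac, ?_,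
    Nat.minFac_dvd _⟩
  rw [orderOf_pow_orderOf_div (orderOf_pos x).ne' (Nat.minFac_dvd _)]

/-- A central element of `A` normalizes no non-trivial `t`-subgroup, `t` dividing the order of `B`. -/
theorem Setting.no_invariant (S : Setting A B) {a : G} (ha : Cen A a) (ha1 : a ≠ 1)
    {t : ℕ} [Fact t.Prime] (ht : t ∣ Nat.card B) {R : Subgroup G} (hR : IsPGroup t R)
    (han : a ∈ normalizer (R : Set G)) : R = ⊥ := by
  by_contra h0
  obtain ⟨g, hg⟩ := S.swap.pgroup_le_conj ht hR
  have S' := S.conjRight g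
  obtain ⟨s, hs, hst, hsB⟩ := S.twoB t
  haveI := Fact.mk hs
  have hne : R ≠ ⊤ := fun e => S'.swap.ne_top (top_le_iff.mp (e ▸ hg.trans sy_le))
  refine S'.swap.no_central (r := s) (by rw [CoprimeSZ.card_conj_smul]; exact hsB)
    (H := normalizer (R : Set G)) (S.normalizer_ne_top h0 hne) ?_ ha ha1 han
  refine CoprimeAction.le_normalizer_of_conj_mem fun y hy c hc => ?_
  obtain ⟨k, hk⟩ := hR ⟨c, hc⟩
  have hns : ¬ s ∣ orderOf c := fun hd => hst ((Nat.prime_dvd_prime_iff_eq hs Fact.out).mp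
    (hs.dvd_of_dvd_pow (hd.trans
      (orderOf_dvd_of_pow_eq_one (congrArg Subtype.val hk : c ^ t ^ k = 1)))))
  rwa [commute_sy S'.nB hy (hg.trans sy_le hc) hns, mul_inv_cancel_right]

/-- The centralizer of a central element of `A` is `A`. -/
theorem Setting.cent_eq (S : Setting A B) {a : G} (ha : Cen A a) (ha1 : a ≠ 1) {g : G}
    (hg : a * g = g * a) : g ∈ A := by
  obtain ⟨x, hx, y, hy, rfl⟩ := S.mul g
  by_cases hy1 : y = 1
  · rw [hy1, mul_one]; exact hx
  exfalso
  have hay : a * y = y * a := by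
    rw [← mul_assoc, ha.2 x hx, mul_assoc, mul_assoc] at hg
    exact mul_left_cancel hg
  obtain ⟨t, ht, n, hn, htd⟩ := Setting.exists_prime_pow_mem hy hy1
  haveI := Fact.mk ht
  have hR : IsPGroup t (zpowers (y ^ n)) := by
    refine IsPGroup.of_card (n := 1) ?_
    rw [Nat.card_zpowers, hn, pow_one]
  have h := S.no_invariant ha ha1 (htd.trans (Subgroup.orderOf_dvd_natCard B hy)) hR (by
    rw [Subgroup.mem_normalizer_iff]
    intro w
    have hw : ∀ v ∈ zpowers (y ^ n), a * v * a⁻¹ = v := by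
      rintro _ ⟨i, rfl⟩
      rw [((Commute.pow_right (show Commute a y from hay) n).zpow_right i).eq,
        mul_inv_cancel_right]
    constructor
    · intro h; rwa [hw w h]
    · intro h
      have e := hw _ h
      have e2 : a * w * a⁻¹ = w := by
        have e3 : a * w * a⁻¹ * a⁻¹ = w * a⁻¹ := by
          calc a * w * a⁻¹ * a⁻¹ = a⁻¹ * (a * (a * w * a⁻¹) * a⁻¹) := by group
            _ = a⁻¹ * (a * w * a⁻¹) := by rw [e]
            _ = w * a⁻¹ := by group
        exact mul_right_cancel e3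
      rwa [e2] at h)
  rw [zpowers_eq_bot] at h
  rw [h, orderOf_one] at hn
  exact ht.one_lt.ne hn

/-- Proper subgroups containing `A` normalize `A`. -/
theorem Setting.le_normalizer_of_le (S : Setting A B) {H : Subgroup G} (hH : H ≠ ⊤) (hA : A ≤ H) :
    H ≤ normalizer (A : Set G) := by
  have hfac : ∀ h ∈ H, ∃ a ∈ A ⊓ H, ∃ b ∈ B ⊓ H, h = a * b := fun h hh => by
    obtain ⟨a, ha, b, hb, rfl⟩ := S.mul h
    exact ⟨a, ⟨ha, hA ha⟩, b, ⟨hb, by simpa using mul_mem (inv_mem (hA ha)) hh⟩, rfl⟩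
  have hsol := S.solvable_factor hH hfac
  have hcoreA : ∀ t : ℕ, t.Prime → core H t ≤ A := by
    intro t ht
    haveI := Fact.mk ht
    by_cases htB : t ∣ Nat.card B
    · obtain ⟨q, hq, -, hqA⟩ := S.twoA 0
      haveI := Fact.mk hq
      obtain ⟨a, ha, hao, -⟩ := exists_cen (p := q) S.nA hqA
      have ha1 : a ≠ 1 := fun e => by rw [e, orderOf_one] at hao; exact hq.one_lt.ne hao
      exact (S.no_invariant ha ha1 htB core_isPGroup (le_normalizer_core (hA ha.1))).le.trans bot_le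
    · exact S.le_left hfac core_le le_normalizer_core (coprime_core htB)
  -- the centralizer of each core
  have hK : ∀ (r : ℕ) [Fact r.Prime], r ∣ Nat.card A →
      H ⊓ centralizer (core H r : Set G) ≤ A := by
    intro r _ hr
    obtain ⟨a, ha, hao, -⟩ := exists_cen (p := r) S.nA hr
    have ha1 : a ≠ 1 := fun e => by
      rw [e, orderOf_one] at hao; exact (Fact.out : r.Prime).one_lt.ne hao
    have haz : a ∈ zf H :=
      mem_zf (hA ha.1) fun t ht _ c hc => ha.2 c (hcoreA t ht hc)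
    have hac : a ∈ core H r := by
      obtain ⟨a', ha', rfl⟩ := haz
      exact ⟨a', mem_core_of_mem_fitting
        (ComponentsFitting.centralizer_fitting_le_of_solvable ha') (k := 1)
        (Subtype.ext (by rw [pow_one, ← hao, SubmonoidClass.coe_pow]; exact pow_orderOf_eq_one _)),
        rfl⟩
    intro g hg
    exact S.cent_eq ha ha1 (mem_centralizer_iff.mp hg.2 a hac)
  intro h hh
  rw [Subgroup.mem_normalizer_iff]
  suffices key : ∀ h ∈ H, ∀ a ∈ A, h * a * h⁻¹ ∈ A by
    exact fun a => ⟨key h hh a, fun ha => by simpa [mul_assoc] using key h⁻¹ (inv_mem hh) _ ha⟩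
  intro h hh a ha
  obtain ⟨r, hr, -, hrA⟩ := S.twoA 0
  haveI := Fact.mk hr
  obtain ⟨r', hr', hne, hrA'⟩ := S.twoA r
  haveI := Fact.mk hr'
  obtain ⟨x, hx, y, hy, hy', rfl⟩ := exists_sy_mul (p := r) S.nA ha
  -- each part lies in the centralizer of a core
  have step : ∀ (q : ℕ) [Fact q.Prime], q ∣ Nat.card A → ∀ v ∈ A, ¬ q ∣ orderOf v →
      h * v * h⁻¹ ∈ A := by
    intro q _ hq v hv hvq
    refine hK q hq (mem_inf.mpr ⟨mul_mem (mul_mem hh (hA hv)) (inv_mem hh), ?_⟩)
    rw [mem_centralizer_iff]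
    intro c hc
    have hc' : h⁻¹ * c * h ∈ core H q := by
      simpa using (Subgroup.mem_normalizer_iff.mp (le_normalizer_core (inv_mem hh)) c).mp hc
    obtain ⟨k, hk⟩ := core_isPGroup ⟨_, hc'⟩
    have hsy := mem_sy S.nA (hcoreA q Fact.out hc') (k := k) (congrArg Subtype.val hk)
    calc c * (h * v * h⁻¹) = h * (h⁻¹ * c * h * v) * h⁻¹ := by group
      _ = h * (v * (h⁻¹ * c * h)) * h⁻¹ := by rw [commute_sy S.nA hsy hv hvq]
      _ = _ := by group
  have hx' : ¬ r' ∣ orderOf x := fun hd => by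
    obtain ⟨k, hk⟩ := pow_eq_one_of_mem_sy hx
    exact hne ((Nat.prime_dvd_prime_iff_eq hr' hr).mp
      (hr'.dvd_of_dvd_pow (hd.trans (orderOf_dvd_of_pow_eq_one hk))))
  rw [show h * (x * y) * h⁻¹ = (h * x * h⁻¹) * (h * y * h⁻¹) by group]
  exact mul_mem (step r' hrA' x (sy_le hx) hx') (step r hrA y hy hy')

theorem Setting.normalizer_self_ne_top (S : Setting A B) : normalizer (A : Set G) ≠ ⊤ :=
  S.normalizer_ne_top S.ne_bot S.ne_top

/-- A central element of `A` lies in no other conjugate of `A`. -/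
theorem Setting.unique_cen (S : Setting A B) {a k : G} (ha : Cen A a) (ha1 : a ≠ 1)
    (hk : k * a * k⁻¹ ∈ A) : k ∈ normalizer (A : Set G) := by
  obtain ⟨r, hr, n, hn, hrd⟩ := Setting.exists_prime_pow_mem ha.1 ha1
  haveI := Fact.mk hr
  have ha' : Cen A (a ^ n) := ⟨pow_mem ha.1 n, fun c hc =>
    ((show Commute a c from ha.2 c hc).pow_left n).eq⟩
  have ha'1 : a ^ n ≠ 1 := fun e => by rw [e, orderOf_one] at hn; exact hr.one_lt.ne hn
  obtain ⟨t, ht, htr, htA⟩ := S.twoA r
  haveI := Fact.mk ht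
  -- the conjugate contains the same Sylow subgroup
  have hxA : k * a ^ n * k⁻¹ ∈ A := by rw [← conj_pow]; exact pow_mem hk n
  have hxt : ¬ t ∣ orderOf (k * a ^ n * k⁻¹) := by
    rw [show k * a ^ n * k⁻¹ = MulAut.conj k (a ^ n) from rfl, MulEquiv.orderOf_eq, hn]
    exact fun hd => htr ((Nat.prime_dvd_prime_iff_eq ht hr).mp hd)
  have hkey : (MulAut.conj k⁻¹ • sy A t : Subgroup G) ≤ sy A t := by
    intro w hw
    rw [CoprimeSZ.mem_conj_smul, inv_inv] at hw
    obtain ⟨j, hj⟩ := pow_eq_one_of_mem_sy hw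
    have h1 : k * a ^ n * k⁻¹ * (k * w * k⁻¹) = k * w * k⁻¹ * (k * a ^ n * k⁻¹) :=
      (commute_sy S.nA hw hxA hxt).symm
    have h2 := (S.conjLeft k).cent_eq (ha'.conj k) (fun e => ha'1 (conj_eq_one_iff.mp e)) h1
    rw [CoprimeSZ.mem_conj_smul] at h2
    refine mem_sy S.nA (by simpa [mul_assoc] using h2) (k := j) ?_
    rw [conj_pow] at hj
    exact conj_eq_one_iff.mp hj
  have heq : (MulAut.conj k⁻¹ • sy A t : Subgroup G) = sy A t :=
    eq_of_le_of_card_ge hkey (CoprimeSZ.card_conj_smul _ _).ge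
  exact inv_mem_iff.mp (S.le_normalizer_of_le (S.normalizer_ne_top (sy_ne_bot htA)
      (fun e => S.ne_top (top_le_iff.mp (e ▸ sy_le))))
    (le_normalizer_sy S.nA) (CoprimeAction.mem_normalizer_of_conj_smul_eq heq))

end Cfsg.Agent.KegelWielandtCoprime
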