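import Mathlib
import Cfsg.Agent.Lib.KegelWielandtCoprime
import Cfsg.Agent.Lib.HallNilpotentConj

/-!
The two factors of a minimal counterexample are trivial-intersection subgroups, and counting fixed
points on the two coset spaces shows that no such counterexample exists.
-/

set_option autoImplicit false
set_option linter.unusedVariables false
set_option linter.unusedSectionVars false

namespace Cfsg.Agent.KegelWielandtCoprime

open Subgroup Pointwise KegelWielandtBasic

variable {G : Type*} [Group G] [Finite G] {A B : Subgroup G}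

/-- Centralizer of an element of `A` normalizing `B`. -/
theorem Setting.cent_of_normalizes (S : Setting A B) {x : G} (hx : x ∈ A) (hx1 : x ≠ 1)
    (hxB : x ∈ normalizer (B : Set G)) {c : G} (hc : x * c = c * x) :
    c ∈ normalizer (A : Set G) := by
  set C := centralizer ({x} : Set G) with hC
  have hsplit : ∀ h ∈ C, ∃ a ∈ A ⊓ C, ∃ b ∈ B ⊓ C, h = a * b := by
    intro h hh
    obtain ⟨a, ha, b, hb, rfl⟩ := S.mul h
    have he : a * b * x = x * (a * b) := mem_centralizer_singleton_iff.mp hh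
    have e1 : b * x * b⁻¹ * x⁻¹ = a⁻¹ * x * a * x⁻¹ := by
      calc b * x * b⁻¹ * x⁻¹ = a⁻¹ * (a * b * x) * b⁻¹ * x⁻¹ := by group
        _ = a⁻¹ * (x * (a * b)) * b⁻¹ * x⁻¹ := by rw [he]
        _ = _ := by group
    have h0 : b * x * b⁻¹ * x⁻¹ = 1 := by
      refine mem_bot.mp ((HallCore.disjoint_of_coprime_card S.cop) ▸ mem_inf.mpr ⟨?_, ?_⟩)
      · rw [e1]; exact mul_mem (mul_mem (mul_mem (inv_mem ha) hx) ha) (inv_mem hx)
      · rw [show b * x * b⁻¹ * x⁻¹ = b * (x * b⁻¹ * x⁻¹) by group]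
        exact mul_mem hb ((Subgroup.mem_normalizer_iff.mp hxB _).mp (inv_mem hb))
    have hbC : b ∈ C := by
      rw [hC, mem_centralizer_singleton_iff]
      calc b * x = b * x * b⁻¹ * x⁻¹ * (x * b) := by group
        _ = x * b := by rw [h0, one_mul]
    have haC : a ∈ C := by simpa using mul_mem hh (inv_mem hbC)
    exact ⟨a, mem_inf.mpr ⟨ha, haC⟩, b, mem_inf.mpr ⟨hb, hbC⟩, rfl⟩
  have hC1 : C ≠ ⊤ := by
    intro e
    rcases S.simple (zpowers x) ⟨fun v hv g => by
      obtain ⟨i, rfl⟩ := hv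
      have hg : Commute g x := mem_centralizer_singleton_iff.mp (show g ∈ C by rw [e]; exact mem_top g)
      rw [(hg.zpow_right i).eq, mul_inv_cancel_right]
      exact ⟨i, rfl⟩⟩ with h | h
    · exact hx1 (by simpa using h)
    · exact S.ne_top (top_le_iff.mp (h ▸ zpowers_le.mpr hx))
  have hsol := S.solvable_factor hC1 hsplit
  obtain ⟨r, hr, -, hrA⟩ := S.twoA 0
  haveI := Fact.mk hr
  obtain ⟨z, hz, hzo, -⟩ := exists_cen (p := r) S.nA hrA
  have hz1 : z ≠ 1 := fun e => by rw [e, orderOf_one] at hzo; exact hr.one_lt.ne hzo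
  have hzC : z ∈ C := by rw [hC, mem_centralizer_singleton_iff]; exact hz.2 x hx
  have hcoreA : ∀ t : ℕ, t.Prime → core C t ≤ A := by
    intro t ht
    haveI := Fact.mk ht
    by_cases htB : t ∣ Nat.card B
    · exact (S.no_invariant hz hz1 htB core_isPGroup (le_normalizer_core hzC)).le.trans bot_le
    · exact S.le_left hsplit core_le le_normalizer_core (coprime_core htB)
  have hzz : z ∈ zf C := mem_zf hzC fun t ht _ w hw => hz.2 w (hcoreA t ht hw)
  have hcC : c ∈ C := mem_centralizer_singleton_iff.mpr hc.symm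
  have hzr : c * z * c⁻¹ ∈ A := by
    obtain ⟨z', hz', rfl⟩ := hzz
    have h1 : z' ∈ Cfsg.pCore r C := mem_core_of_mem_fitting
      (ComponentsFitting.centralizer_fitting_le_of_solvable hz') (k := 1)
      (Subtype.ext (by rw [pow_one, ← hzo, SubmonoidClass.coe_pow]; exact pow_orderOf_eq_one _))
    exact hcoreA r hr ((Subgroup.mem_normalizer_iff.mp (le_normalizer_core hcC) _).mp ⟨z', h1, rfl⟩)
  exact S.unique_cen hz hz1 hzr

/-- Centralizers of non-trivial elements of `A` normalize `A`. -/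
theorem Setting.cent_le (S : Setting A B) {x : G} (hx : x ∈ A) (hx1 : x ≠ 1) {c : G}
    (hc : x * c = c * x) : c ∈ normalizer (A : Set G) := by
  by_cases hmix : ∃ y ∈ normalizer (A : Set G), x * y = y * x ∧ ¬ (orderOf y).Coprime (Nat.card B)
  · obtain ⟨y, hyN, hxy, hy⟩ := hmix
    obtain ⟨t, ht, hty, htB⟩ := Nat.Prime.not_coprime_iff_dvd.mp hy
    haveI := Fact.mk ht
    have ho : orderOf (y ^ (orderOf y / t)) = t :=
      orderOf_pow_orderOf_div (orderOf_pos y).ne' hty
    set y' := y ^ (orderOf y / t)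
    obtain ⟨k, hk⟩ := S.swap.pgroup_le_conj (p := t) htB (R := zpowers y')
      (IsPGroup.of_card (n := 1) (by rw [Nat.card_zpowers, ho, pow_one]))
    have hxB : x ∈ normalizer ((MulAut.conj k • B : Subgroup G) : Set G) :=
      (S.conjRight k).swap.cent_of_normalizes (sy_le (hk (mem_zpowers y')))
        (fun e => by rw [e, orderOf_one] at ho; exact ht.one_lt.ne ho) (pow_mem hyN _)
        (((show Commute x y from hxy).pow_right _).symm.eq)
    exact (S.conjRight k).cent_of_normalizes hx hx1 hxB hc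
  push Not at hmix
  set C := centralizer ({x} : Set G) with hC
  suffices hCA : C ≤ A by
    exact le_normalizer (hCA (mem_centralizer_singleton_iff.mpr hc.symm))
  have hCN : ∀ g ∈ C, g ∈ normalizer (A : Set G) → g ∈ A := fun g hg hgN =>
    S.mem_of_normalizes hgN (hmix g hgN (mem_centralizer_singleton_iff.mp hg).symm)
  haveI := S.nA
  have hcenC : ∀ z, Cen A z → z ∈ C := fun z hz => by
    rw [hC, mem_centralizer_singleton_iff]; exact hz.2 x hx
  -- `p`-groups containing central elements lie in `A`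
  have hpA : ∀ (p : ℕ) [Fact p.Prime], p ∣ Nat.card A → ∀ (R : Subgroup G), IsPGroup p R →
      ∀ z, Cen A z → z ≠ 1 → z ∈ R → R ≤ A := by
    intro p _ hp R hR z hz hz1 hzR
    obtain ⟨k, hk⟩ := S.pgroup_le_conj hp hR
    have hkN : k⁻¹ ∈ normalizer (A : Set G) := S.unique_cen hz hz1 (by
      have := sy_le (hk hzR)
      rw [CoprimeSZ.mem_conj_smul] at this
      simpa using this)
    have := CoprimeSZ.conj_smul_eq_self (inv_mem_iff.mp hkN)
    exact (hk.trans sy_le).trans this.le
  set SA := A.subgroupOf C with hSA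
  haveI : Group.IsNilpotent SA := by
    have : Group.IsNilpotent (A ⊓ C : Subgroup G) := isNilpotent_of_le inf_le_left
    rw [hSA, show A.subgroupOf C = (A ⊓ C).subgroupOf C from (inf_subgroupOf_right A C).symm]
    exact nilpotent_of_mulEquiv (subgroupOfEquivOfLe inf_le_right).symm
  have hdvdA : Nat.card SA ∣ Nat.card A := HallCore.card_subgroupOf_dvd A C
  have hHall : (Nat.card SA).Coprime SA.index := by
    refine Nat.coprime_of_dvd fun p hp h1 h2 => ?_
    haveI := Fact.mk hp
    obtain ⟨z, hz, hzo, -⟩ := exists_cen (p := p) S.nA (h1.trans hdvdA)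
    have hz1 : z ≠ 1 := fun e => by rw [e, orderOf_one] at hzo; exact hp.one_lt.ne hzo
    obtain ⟨T, hT⟩ := (IsPGroup.of_card (p := p) (n := 1)
      (show Nat.card (zpowers (⟨z, hcenC z hz⟩ : C)) = p ^ 1 by
        rw [Nat.card_zpowers, Subgroup.orderOf_mk, hzo, pow_one])).exists_le_sylow
    have hle : (T : Subgroup C) ≤ SA := by
      intro w hw
      exact hpA p (h1.trans hdvdA) ((T : Subgroup C).map C.subtype) (T.2.map _) z hz hz1
        ⟨_, hT (mem_zpowers _), rfl⟩ ⟨w, hw, rfl⟩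
    exact T.not_dvd_index (h2.trans (index_dvd_of_le hle))
  have hctl : ∀ u ∈ SA, ∀ v ∈ SA, (∃ g : C, g * u * g⁻¹ = v) → ∃ h ∈ SA, h * u * h⁻¹ = v := by
    rintro u hu v hv ⟨g, rfl⟩
    obtain ⟨r, hr, -, hrA⟩ := S.twoA 0
    haveI := Fact.mk hr
    obtain ⟨z, hz, hzo, -⟩ := exists_cen (p := r) S.nA hrA
    have hz1 : z ≠ 1 := fun e => by rw [e, orderOf_one] at hzo; exact hr.one_lt.ne hzo
    set z₀ : C := ⟨z, hcenC z hz⟩
    set D := centralizer ({g * u * g⁻¹} : Set C) with hD
    have hzD : z₀ ∈ D := by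
      rw [hD, mem_centralizer_singleton_iff]
      exact Subtype.ext (hz.2 _ hv)
    have hz'D : g * z₀ * g⁻¹ ∈ D := by
      rw [hD, mem_centralizer_singleton_iff]
      have : z₀ * u = u * z₀ := Subtype.ext (hz.2 _ hu)
      calc g * z₀ * g⁻¹ * (g * u * g⁻¹) = g * (z₀ * u) * g⁻¹ := by group
        _ = g * (u * z₀) * g⁻¹ := by rw [this]
        _ = _ := by group
    have hord : ∀ (w : C) (hw : w ∈ D), orderOf w = r → IsPGroup r (zpowers (⟨w, hw⟩ : D)) :=
      fun w hw h => IsPGroup.of_card (n := 1) (by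
        rw [Nat.card_zpowers, Subgroup.orderOf_mk, h, pow_one])
    have ho : orderOf z₀ = r := by rw [Subgroup.orderOf_mk, hzo]
    obtain ⟨R, hR⟩ := (hord z₀ hzD ho).exists_le_sylow
    obtain ⟨R', hR'⟩ := (hord _ hz'D
      (by rw [← MulAut.conj_apply, MulEquiv.orderOf_eq, ho])).exists_le_sylow
    obtain ⟨⟨d, hd⟩, hde⟩ := MulAction.exists_smul_eq D R' R
    have hmem : (⟨d, hd⟩ : D) * ⟨_, hz'D⟩ * (⟨d, hd⟩ : D)⁻¹ ∈ (R : Subgroup D) := by
      rw [← hde]
      exact CoprimeSZ.conj_mul_mem_conj_smul (hR' (mem_zpowers _))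
    have hRA : ((R : Subgroup D).map (C.subtype.comp D.subtype)) ≤ A :=
      hpA r hrA _ (R.2.map _) z hz hz1 ⟨_, hR (mem_zpowers _), rfl⟩
    have h1 : ((d * g : C) : G) * z * ((d * g : C) : G)⁻¹ ∈ A := by
      have := hRA ⟨_, hmem, rfl⟩
      simpa [z₀, mul_assoc] using this
    have h2 : d * g ∈ SA :=
      hCN _ (d * g).2 (S.unique_cen hz hz1 h1)
    refine ⟨d * g, h2, ?_⟩
    have h3 : d * (g * u * g⁻¹) = g * u * g⁻¹ * d := mem_centralizer_singleton_iff.mp hd
    calc d * g * u * (d * g)⁻¹ = d * (g * u * g⁻¹) * d⁻¹ := by group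
      _ = g * u * g⁻¹ * d * d⁻¹ := by rw [h3]
      _ = _ := by group
  obtain ⟨N, hNn, hNc⟩ := HallNilpotentConj.exists_complement_of_control hHall hctl
  have hN : N = ⊥ := by
    by_contra h0
    have h1 : Nat.card N ≠ 1 := fun e => h0 (eq_bot_of_card_eq _ e)
    set t := (Nat.card N).minFac
    have ht : t.Prime := Nat.minFac_prime h1
    haveI := Fact.mk ht
    have hidx : SA.index = Nat.card N := hNc.index_eq_card
    have htA : ¬ t ∣ Nat.card A := by
      intro h
      obtain ⟨z, hz, hzo, -⟩ := exists_cen (p := t) S.nA h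
      have hd : t ∣ Nat.card SA := by
        rw [← hzo, ← Subgroup.orderOf_mk z (hcenC z hz)]
        exact Subgroup.orderOf_dvd_natCard SA (show (⟨z, hcenC z hz⟩ : C) ∈ SA from hz.1)
      exact ht.one_lt.ne' (Nat.eq_one_of_dvd_coprimes hHall hd
        (hidx ▸ Nat.minFac_dvd _))
    have htB : t ∣ Nat.card B := by
      have : t ∣ Nat.card A * Nat.card B := by
        rw [S.card_mul]
        exact (Nat.minFac_dvd _).trans
          ((card_subgroup_dvd_card N).trans (card_subgroup_dvd_card C))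
      exact (ht.dvd_mul.mp this).resolve_left htA
    obtain ⟨r, hr, -, hrA⟩ := S.twoA 0
    haveI := Fact.mk hr
    obtain ⟨z, hz, hzo, -⟩ := exists_cen (p := r) S.nA hrA
    have hz1 : z ≠ 1 := fun e => by rw [e, orderOf_one] at hzo; exact hr.one_lt.ne hzo
    set K := N.map C.subtype with hK
    have hKc : Nat.card K = Nat.card N := card_map_of_injective C.subtype_injective
    have hzK : zpowers z ≤ normalizer (K : Set G) := by
      have h := le_normalizer_map (H := N) C.subtype
      rw [normalizer_eq_top, ← MonoidHom.range_eq_map, range_subtype] at h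
      exact zpowers_le.mpr (h (hcenC z hz))
    have hcop : (Nat.card (zpowers z)).Coprime (Nat.card K) := by
      rw [Nat.card_zpowers, hzo, hKc, hr.coprime_iff_not_dvd]
      intro hd
      have h2 : r ∣ Nat.card SA := by
        rw [← hzo, ← Subgroup.orderOf_mk z (hcenC z hz)]
        exact Subgroup.orderOf_dvd_natCard SA (show (⟨z, hcenC z hz⟩ : C) ∈ SA from hz.1)
      exact hr.one_lt.ne' (Nat.eq_one_of_dvd_coprimes hHall h2 (hidx ▸ hd))
    obtain ⟨P, hP⟩ := CoprimeAction.exists_invariant_sylow hzK hcop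
      (Or.inl (CoprimeAction.isSolvable_zpowers z)) t
    have hP0 := S.no_invariant hz hz1 htB (P.2.map K.subtype) (hP (mem_zpowers z))
    rw [map_eq_bot_iff_of_injective _ K.subtype_injective] at hP0
    have := P.dvd_card_of_dvd_card (hKc.symm ▸ Nat.minFac_dvd _)
    rw [hP0, card_bot] at this
    exact ht.not_dvd_one this
  intro g hg
  have h1 : SA = ⊤ := by
    have := hNc.sup_eq_top
    rwa [hN, bot_sup_eq] at this
  exact (show (⟨g, hg⟩ : C) ∈ SA from h1 ▸ mem_top _)

/-- Trivial intersection property of `A`. -/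
theorem Setting.unique (S : Setting A B) {x k : G} (hx : x ∈ A) (hx1 : x ≠ 1)
    (hk : k * x * k⁻¹ ∈ A) : k ∈ normalizer (A : Set G) := by
  obtain ⟨r, hr, -, hrA⟩ := S.twoA 0
  haveI := Fact.mk hr
  obtain ⟨z, hz, hzo, -⟩ := exists_cen (p := r) S.nA hrA
  have hz1 : z ≠ 1 := fun e => by rw [e, orderOf_one] at hzo; exact hr.one_lt.ne hzo
  have hcomm : x * (k⁻¹ * z * k) = k⁻¹ * z * k * x := by
    calc x * (k⁻¹ * z * k) = k⁻¹ * (k * x * k⁻¹ * z) * k := by group
      _ = k⁻¹ * (z * (k * x * k⁻¹)) * k := by rw [hz.2 _ hk]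
      _ = _ := by group
  have hN := S.cent_le hx hx1 hcomm
  have hA : k⁻¹ * z * k ∈ A := S.mem_of_normalizes hN (by
    rw [show k⁻¹ * z * k = MulAut.conj k⁻¹ z by simp, MulEquiv.orderOf_eq, hzo]
    exact hr.coprime_iff_not_dvd.mpr (S.not_dvd_right hr hrA))
  exact inv_mem_iff.mp (S.unique_cen (k := k⁻¹) hz hz1 (by simpa using hA))

/-- An element whose order is not prime to the order of `A` fixes exactly one coset of `N(A)`. -/
theorem Setting.fix_one (S : Setting A B) {g : G} (hg : ¬ (orderOf g).Coprime (Nat.card A)) :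
    Nat.card (MulAction.fixedBy (G ⧸ normalizer (A : Set G)) g) = 1 := by
  obtain ⟨t, ht, htg, htA⟩ := Nat.Prime.not_coprime_iff_dvd.mp hg
  haveI := Fact.mk ht
  have ho : orderOf (g ^ (orderOf g / t)) = t := orderOf_pow_orderOf_div (orderOf_pos g).ne' htg
  set n := orderOf g / t
  obtain ⟨k, hk⟩ := S.pgroup_le_conj (p := t) htA (R := zpowers (g ^ n))
    (IsPGroup.of_card (n := 1) (by rw [Nat.card_zpowers, ho, pow_one]))
  have hx0 : k⁻¹ * g ^ n * k ∈ A := CoprimeSZ.mem_conj_smul.mp (sy_le (hk (mem_zpowers _)))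
  have hx1 : k⁻¹ * g ^ n * k ≠ 1 := by
    rw [show k⁻¹ * g ^ n * k = MulAut.conj k⁻¹ (g ^ n) by simp]
    intro e
    rw [(map_eq_one_iff _ (MulEquiv.injective _)).mp e, orderOf_one] at ho
    exact ht.one_lt.ne ho
  rw [Nat.card_eq_one_iff_exists]
  have hfix : ∀ h : G, ((h : G ⧸ normalizer (A : Set G)) ∈
      MulAction.fixedBy (G ⧸ normalizer (A : Set G)) g) ↔ h⁻¹ * g * h ∈ normalizer (A : Set G) := by
    intro h
    rw [MulAction.mem_fixedBy]
    show ((g * h : G) : G ⧸ normalizer (A : Set G)) = (h : G ⧸ _) ↔ _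
    rw [eq_comm, QuotientGroup.eq, mul_assoc]
  have hgk : k⁻¹ * g * k ∈ normalizer (A : Set G) := by
    refine S.cent_le hx0 hx1 ?_
    calc k⁻¹ * g ^ n * k * (k⁻¹ * g * k) = k⁻¹ * (g ^ n * g) * k := by group
      _ = k⁻¹ * (g * g ^ n) * k := by rw [(Commute.self_pow g n).eq]
      _ = _ := by group
  refine ⟨⟨_, (hfix k).mpr hgk⟩, ?_⟩
  rintro ⟨q, hq⟩
  obtain ⟨h, rfl⟩ := QuotientGroup.mk_surjective q
  have hh := (hfix h).mp hq
  have hxA : h⁻¹ * g ^ n * h ∈ A := by
    refine S.mem_of_normalizes ?_ ?_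
    · have e : h⁻¹ * g ^ n * h = (h⁻¹ * g * h) ^ n := by
        have := (map_pow (MulAut.conj h⁻¹) g n)
        simpa using this
      rw [e]; exact pow_mem hh n
    · rw [show h⁻¹ * g ^ n * h = MulAut.conj h⁻¹ (g ^ n) by simp, MulEquiv.orderOf_eq, ho]
      exact ht.coprime_iff_not_dvd.mpr (S.not_dvd_right ht htA)
  refine Subtype.ext (QuotientGroup.eq.mpr ?_)
  have := S.unique hx0 hx1 (k := h⁻¹ * k) (by
    rw [show h⁻¹ * k * (k⁻¹ * g ^ n * k) * (h⁻¹ * k)⁻¹ = h⁻¹ * g ^ n * h by group]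
    exact hxA)
  exact this

/-- There is no minimal counterexample. -/
theorem Setting.false (S : Setting A B) : False := by
  classical
  set M := normalizer (A : Set G) with hM
  set M' := normalizer (B : Set G) with hM'
  have : Fintype G := Fintype.ofFinite G
  haveI : MulAction.IsPretransitive G ((G ⧸ M) × (G ⧸ M')) := by
    refine ⟨?_⟩
    rintro ⟨x, y⟩ ⟨x', y'⟩
    obtain ⟨h, rfl⟩ := QuotientGroup.mk_surjective x
    obtain ⟨k, rfl⟩ := QuotientGroup.mk_surjective y
    obtain ⟨h', rfl⟩ := QuotientGroup.mk_surjective x'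
    obtain ⟨k', rfl⟩ := QuotientGroup.mk_surjective y'
    obtain ⟨a, ha, b, hb, he⟩ := S.mul (h⁻¹ * k)
    obtain ⟨a', ha', b', hb', he'⟩ := S.mul (h'⁻¹ * k')
    refine ⟨h' * a' * (h * a)⁻¹, Prod.ext ?_ ?_⟩
    · show ((h' * a' * (h * a)⁻¹ * h : G) : G ⧸ M) = (h' : G ⧸ M)
      rw [QuotientGroup.eq]
      refine le_normalizer ?_
      rw [show (h' * a' * (h * a)⁻¹ * h)⁻¹ * h' = a * a'⁻¹ by group]
      exact mul_mem ha (inv_mem ha')
    · show ((h' * a' * (h * a)⁻¹ * k : G) : G ⧸ M') = (k' : G ⧸ M')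
      rw [QuotientGroup.eq]
      refine le_normalizer ?_
      rw [show k' = h' * (a' * b') by rw [← he']; group, show k = h * (a * b) by rw [← he]; group,
        show (h' * a' * (h * a)⁻¹ * (h * (a * b)))⁻¹ * (h' * (a' * b')) = b⁻¹ * b' by group]
      exact mul_mem (inv_mem hb) hb'
  haveI : Nonempty ((G ⧸ M) × (G ⧸ M')) := ⟨((1 : G), (1 : G))⟩
  have burn : ∀ (X : Type _) [MulAction G X] [Finite X] [Nonempty X]
      [MulAction.IsPretransitive G X],
      ∑ g : G, (Nat.card (MulAction.fixedBy X g) : ℤ) = Nat.card G := by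
    intro X _ _ _ _
    have : Fintype X := Fintype.ofFinite X
    haveI : Subsingleton (Quotient (MulAction.orbitRel G X)) :=
      (MulAction.pretransitive_iff_subsingleton_quotient G X).mp inferInstance
    haveI : Nonempty (Quotient (MulAction.orbitRel G X)) :=
      ⟨Quotient.mk _ (Classical.arbitrary X)⟩
    have h := MulAction.sum_card_fixedBy_eq_card_orbits_mul_card_group G X
    rw [Fintype.card_eq_one_iff.mpr ⟨Classical.arbitrary _, fun y => Subsingleton.elim _ _⟩,
      one_mul, ← Nat.card_eq_fintype_card] at h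
    simp only [← Nat.card_eq_fintype_card] at h
    exact_mod_cast h
  have hprod : ∀ g : G, (Nat.card (MulAction.fixedBy ((G ⧸ M) × (G ⧸ M')) g) : ℤ) =
      Nat.card (MulAction.fixedBy (G ⧸ M) g) * Nat.card (MulAction.fixedBy (G ⧸ M') g) := by
    intro g
    rw [← Nat.cast_mul, ← Nat.card_prod]
    congr 1
    exact Nat.card_congr
      { toFun := fun p => (⟨p.1.1, congrArg Prod.fst p.2⟩, ⟨p.1.2, congrArg Prod.snd p.2⟩)
        invFun := fun q => ⟨(q.1.1, q.2.1), Prod.ext q.1.2 q.2.2⟩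
        left_inv := fun p => rfl
        right_inv := fun q => rfl }
  have hzero : ∑ g : G, ((Nat.card (MulAction.fixedBy (G ⧸ M) g) : ℤ) - 1) *
      ((Nat.card (MulAction.fixedBy (G ⧸ M') g) : ℤ) - 1) = 0 := by
    simp only [sub_mul, mul_sub, mul_one, one_mul, ← hprod, Finset.sum_sub_distrib]
    rw [burn, burn, burn, Finset.sum_const, Finset.card_univ, ← Nat.card_eq_fintype_card,
      nsmul_eq_mul, mul_one]
    ring
  rw [Finset.sum_eq_single (1 : G)] at hzero
  · have hidx : ∀ N : Subgroup G, N ≠ ⊤ →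
        ((Nat.card (MulAction.fixedBy (G ⧸ N) (1 : G)) : ℤ) - 1) ≠ 0 := by
      intro N hN
      rw [show Nat.card (MulAction.fixedBy (G ⧸ N) (1 : G)) = N.index by
        rw [MulAction.fixedBy_one_eq_univ, Nat.card_univ, Subgroup.index_eq_card]]
      have := mt index_eq_one.mp hN
      omega
    exact mul_ne_zero (hidx _ S.normalizer_self_ne_top) (hidx _ S.swap.normalizer_self_ne_top) hzero
  · intro g _ hg
    by_cases hgA : (orderOf g).Coprime (Nat.card A)
    · have hgB : ¬ (orderOf g).Coprime (Nat.card B) := by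
        intro h
        refine hg (orderOf_eq_one_iff.mp (Nat.dvd_one.mp ?_))
        have h2 : orderOf g ∣ Nat.card A * Nat.card B := S.card_mul ▸ orderOf_dvd_natCard g
        exact (Nat.Coprime.dvd_of_dvd_mul_left hgA h2 |> fun h3 =>
          (h.eq_one_of_dvd h3) ▸ dvd_rfl)
      rw [S.swap.fix_one hgB]; simp
    · rw [S.fix_one hgA]; simp
  · exact fun h => absurd (Finset.mem_univ _) h

end Cfsg.Agent.KegelWielandtCoprime
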