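import Mathlib
import Cfsg.Agent.Lib.KegelWielandtTI
import Cfsg.Agent.Lib.HallSolvable
import Cfsg.Agent.S0566

/-!
The Kegel–Wielandt theorem: a finite product of two nilpotent subgroups is solvable.
-/

set_option autoImplicit false
set_option linter.unusedVariables false
set_option linter.unusedSectionVars false

namespace Cfsg.Agent.KegelWielandt

open Subgroup Pointwise KegelWielandtBasic KegelWielandtCoprime
open scoped commutatorElement

universe u

variable {G : Type*} [Group G] [Finite G]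

theorem isSolvable_of_isNilpotent' (H : Type*) [Group H] [Finite H] [Group.IsNilpotent H] :
    Group.IsSolvable H := by infer_instance

theorem card_set_mul (X Y : Subgroup G) :
    Nat.card ((X : Set G) * (Y : Set G) : Set G) * Nat.card ↥(X ⊓ Y) = Nat.card X * Nat.card Y := by
  rw [← Nat.card_prod, ← Nat.card_prod]
  have hz : ∀ z : ((X : Set G) * (Y : Set G) : Set G), ∃ x : X, ∃ y : Y, (z : G) = x * y := by
    rintro ⟨z, x, hx, y, hy, rfl⟩
    exact ⟨⟨x, hx⟩, ⟨y, hy⟩, rfl⟩
  choose fx fy hf using hz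
  refine Nat.card_eq_of_bijective (fun p =>
    ((⟨(fx p.1 : G) * p.2, mul_mem (fx p.1).2 p.2.2.1⟩ : X),
      (⟨(p.2 : G)⁻¹ * fy p.1, mul_mem (inv_mem p.2.2.2) (fy p.1).2⟩ : Y))) ⟨?_, ?_⟩
  · rintro ⟨z, d⟩ ⟨z', d'⟩ h
    simp only [Prod.mk.injEq, Subtype.mk.injEq] at h
    have e : (z : G) = z' := by
      rw [hf z, hf z']
      calc (fx z : G) * fy z = ((fx z : G) * d) * ((d : G)⁻¹ * fy z) := by group
        _ = ((fx z' : G) * d') * ((d' : G)⁻¹ * fy z') := by rw [h.1, h.2]
        _ = _ := by group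
    obtain rfl := Subtype.ext e
    exact Prod.ext rfl (Subtype.ext (mul_left_cancel h.1))
  · rintro ⟨x, y⟩
    let z : ((X : Set G) * (Y : Set G) : Set G) := ⟨x * y, Set.mul_mem_mul x.2 y.2⟩
    have hd : (fx z : G)⁻¹ * x = fy z * (y : G)⁻¹ := by
      have h := hf z
      calc (fx z : G)⁻¹ * x = (fx z : G)⁻¹ * ((x : G) * y) * (y : G)⁻¹ := by group
        _ = _ := by rw [show (x : G) * y = fx z * fy z from h]; group
    have hm : (fx z : G)⁻¹ * x ∈ X ⊓ Y :=
      mem_inf.mpr ⟨mul_mem (inv_mem (fx z).2) x.2, hd ▸ mul_mem (fy z).2 (inv_mem y.2)⟩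
    refine ⟨(z, ⟨_, hm⟩), Prod.ext (Subtype.ext ?_) (Subtype.ext ?_)⟩
    · simp
    · show ((fx z : G)⁻¹ * x)⁻¹ * fy z = (y : G)
      rw [hd]; group

theorem card_eq_sy_mul (A : Subgroup G) (p : ℕ) [Fact p.Prime] :
    ∃ i : ℕ, ¬ p ∣ i ∧ Nat.card A = Nat.card (sy A p) * i := by
  refine ⟨_, (Classical.arbitrary (Sylow p A)).not_dvd_index, ?_⟩
  rw [sy, card_map_of_injective A.subtype_injective, card_mul_index]

/-- The Sylow subgroups of two nilpotent factors multiply to a Sylow subgroup. -/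
theorem exists_sy_product {A B : Subgroup G} (hA : Group.IsNilpotent A) (hB : Group.IsNilpotent B)
    (hAB : ∀ g : G, ∃ a ∈ A, ∃ b ∈ B, g = a * b) (p : ℕ) [Fact p.Prime] :
    ∃ P : Sylow p G, ((P : Subgroup G) : Set G) = (sy A p : Set G) * (sy B p : Set G) := by
  obtain ⟨P, hP⟩ := (sy_isPGroup (A := A) (p := p)).exists_le_sylow
  obtain ⟨Q, hQ⟩ := (sy_isPGroup (A := B) (p := p)).exists_le_sylow
  obtain ⟨g, rfl⟩ := MulAction.exists_smul_eq G P Q
  obtain ⟨a, ha, b, hb, hg⟩ := hAB g⁻¹
  have hg' : g = b⁻¹ * a⁻¹ := by rw [← inv_inv g, hg, mul_inv_rev]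
  set P' : Sylow p G := a⁻¹ • P with hP'
  have hA' : sy A p ≤ (P' : Subgroup G) := by
    rw [← CoprimeSZ.conj_smul_eq_self (le_normalizer_sy hA (inv_mem ha) : a⁻¹ ∈ _)]
    exact Subgroup.pointwise_smul_le_pointwise_smul_iff.mpr hP
  have hB' : sy B p ≤ (P' : Subgroup G) := by
    rw [← CoprimeSZ.conj_smul_eq_self (le_normalizer_sy hB hb : b ∈ _)]
    calc (MulAut.conj b • sy B p : Subgroup G) ≤ MulAut.conj b • ((g • P : Sylow p G) : Subgroup G) :=
          Subgroup.pointwise_smul_le_pointwise_smul_iff.mpr hQ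
      _ = (P' : Subgroup G) := by
          show MulAut.conj b • (MulAut.conj g • (P : Subgroup G)) = MulAut.conj a⁻¹ • (P : Subgroup G)
          rw [← mul_smul, ← map_mul, hg', mul_inv_cancel_left]
  have hsub : (sy A p : Set G) * (sy B p : Set G) ⊆ ((P' : Subgroup G) : Set G) := by
    rintro _ ⟨x, hx, y, hy, rfl⟩
    exact mul_mem (hA' hx) (hB' hy)
  refine ⟨P', (Set.eq_of_subset_of_ncard_le hsub ?_ (Set.toFinite _)).symm⟩
  have hD : sy A p ⊓ sy B p = sy (A ⊓ B) p := by
    refine le_antisymm (fun x hx => ?_) (fun x hx => ?_)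
    · obtain ⟨k, hk⟩ := pow_eq_one_of_mem_sy hx.1
      exact mem_sy (isNilpotent_of_le inf_le_left) ⟨sy_le hx.1, sy_le hx.2⟩ hk
    · obtain ⟨k, hk⟩ := pow_eq_one_of_mem_sy hx
      have h := sy_le hx
      exact ⟨mem_sy hA h.1 hk, mem_sy hB h.2 hk⟩
  obtain ⟨i, hi, hAc⟩ := card_eq_sy_mul A p
  obtain ⟨j, hj, hBc⟩ := card_eq_sy_mul B p
  obtain ⟨l, hl, hDc⟩ := card_eq_sy_mul (A ⊓ B) p
  rw [← hD] at hDc
  have hAB' : ((A : Set G) * (B : Set G)) = Set.univ := by
    refine Set.eq_univ_of_forall fun x => ?_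
    obtain ⟨a, ha, b, hb, rfl⟩ := hAB x
    exact Set.mul_mem_mul ha hb
  have h1 : Nat.card G * Nat.card ↥(A ⊓ B) = Nat.card A * Nat.card B := by
    rw [← card_set_mul A B, hAB', Nat.card_univ]
  have h2 := card_set_mul (sy A p) (sy B p)
  set s := Nat.card ((sy A p : Set G) * (sy B p : Set G) : Set G) with hs
  show Nat.card P' ≤ s
  have h3 : Nat.card P' * (P' : Subgroup G).index * l = s * (i * j) := by
    have h : Nat.card G * (Nat.card ↥(sy A p ⊓ sy B p) * l) =
        (Nat.card (sy A p) * Nat.card (sy B p)) * (i * j) := by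
      rw [← hDc, h1, hAc, hBc]; ring
    rw [← h2, ← (P' : Subgroup G).card_mul_index] at h
    refine Nat.eq_of_mul_eq_mul_left (Nat.card_pos (α := ↥(sy A p ⊓ sy B p))) ?_
    linarith
  obtain ⟨k, hk⟩ := IsPGroup.iff_card.mp P'.2
  have h4 : Nat.card P' ∣ s * (i * j) := ⟨(P' : Subgroup G).index * l, by rw [← h3, mul_assoc]⟩
  have h5 : Nat.card P' ∣ s := by
    rw [hk] at h4 ⊢
    exact ((((Fact.out : p.Prime).coprime_iff_not_dvd.mpr
      (Nat.Prime.not_dvd_mul Fact.out hi hj))).pow_left k).dvd_of_dvd_mul_right h4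
  refine Nat.le_of_dvd ?_ h5
  rw [hs]
  haveI : Nonempty ((sy A p : Set G) * (sy B p : Set G) : Set G) :=
    ⟨⟨1 * 1, Set.mul_mem_mul (one_mem _) (one_mem _)⟩⟩
  exact Nat.card_pos

theorem mul_image {H : Type*} [Group H] {A B : Subgroup G} (f : G →* H) (hf : Function.Surjective f)
    (hAB : ∀ g : G, ∃ a ∈ A, ∃ b ∈ B, g = a * b) :
    ∀ h : H, ∃ a ∈ A.map f, ∃ b ∈ B.map f, h = a * b := by
  intro h
  obtain ⟨g, rfl⟩ := hf h
  obtain ⟨a, ha, b, hb, rfl⟩ := hAB g
  exact ⟨f a, ⟨a, ha, rfl⟩, f b, ⟨b, hb, rfl⟩, map_mul f a b⟩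

theorem isNilpotent_map {H : Type*} [Group H] {A : Subgroup G} (f : G →* H)
    (hA : Group.IsNilpotent A) : Group.IsNilpotent (A.map f) :=
  haveI := hA
  nilpotent_of_surjective _ (f.subgroupMap_surjective A)

/-- Every conjugate of one factor still complements the other. -/
theorem mul_conj {A B : Subgroup G} (hAB : ∀ g : G, ∃ a ∈ A, ∃ b ∈ B, g = a * b) (g : G) :
    ∀ w : G, ∃ a ∈ A, ∃ b ∈ (MulAut.conj g • B : Subgroup G), w = a * b := by
  intro w
  obtain ⟨a₀, ha₀, b₀, hb₀, hg⟩ := hAB g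
  obtain ⟨a, ha, b, hb, hw⟩ := hAB (w * g)
  refine ⟨a * a₀⁻¹, mul_mem ha (inv_mem ha₀), g * (b₀⁻¹ * b) * g⁻¹,
    CoprimeSZ.conj_mul_mem_conj_smul (mul_mem (inv_mem hb₀) hb), ?_⟩
  rw [eq_mul_inv_iff_mul_eq.mpr hw.symm, hg]
  group

theorem sy_conj {B : Subgroup G} (hB : Group.IsNilpotent B) (p : ℕ) [Fact p.Prime] (g : G) :
    sy (MulAut.conj g • B : Subgroup G) p = MulAut.conj g • sy B p := by
  ext x
  rw [CoprimeSZ.mem_conj_smul]
  have hx : ∀ k : ℕ, x ^ p ^ k = 1 ↔ (g⁻¹ * x * g) ^ p ^ k = 1 := fun k => by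
    rw [show g⁻¹ * x * g = MulAut.conj g⁻¹ x by simp, ← map_pow, MulEquiv.map_eq_one_iff]
  constructor
  · intro h
    obtain ⟨k, hk⟩ := pow_eq_one_of_mem_sy h
    exact mem_sy hB (CoprimeSZ.mem_conj_smul.mp (sy_le h)) ((hx k).mp hk)
  · intro h
    obtain ⟨k, hk⟩ := pow_eq_one_of_mem_sy h
    exact mem_sy (isNilpotent_conj hB g) (CoprimeSZ.mem_conj_smul.mpr (sy_le h)) ((hx k).mpr hk)

theorem solvable_aux : ∀ (n : ℕ) (G : Type u) [Group G] [Finite G], Nat.card G = n →
    ∀ A B : Subgroup G, Group.IsNilpotent A → Group.IsNilpotent B →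
      (∀ g : G, ∃ a ∈ A, ∃ b ∈ B, g = a * b) → Group.IsSolvable G := by
  intro n
  induction n using Nat.strong_induction_on with
  | _ n ih =>
  intro G _ _ hn A B hA hB hAB
  by_contra hns
  have hquot : ∀ N : Subgroup G, ∀ [N.Normal], N ≠ ⊥ → Group.IsSolvable (G ⧸ N) := by
    intro N _ hN
    exact ih _ (hn ▸ HallSolvable.card_quotient_lt hN) (G ⧸ N) rfl _ _ (isNilpotent_map _ hA)
      (isNilpotent_map _ hB) (mul_image _ (QuotientGroup.mk'_surjective N) hAB)
  have hsub : ∀ H : Subgroup G, H ≠ ⊤ → ∀ X Y : Subgroup G, X ≤ H → Y ≤ H → Group.IsNilpotent X →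
      Group.IsNilpotent Y → (∀ h ∈ H, ∃ x ∈ X, ∃ y ∈ Y, h = x * y) → Group.IsSolvable H := by
    intro H hH X Y hX hY hXn hYn hfac
    refine ih _ (hn ▸ HallSolvable.card_subgroup_lt hH) H rfl (X.subgroupOf H) (Y.subgroupOf H)
      (nilpotent_of_mulEquiv (subgroupOfEquivOfLe hX).symm)
      (nilpotent_of_mulEquiv (subgroupOfEquivOfLe hY).symm) ?_
    rintro ⟨h, hh⟩
    obtain ⟨x, hx, y, hy, rfl⟩ := hfac h hh
    exact ⟨⟨x, hX hx⟩, hx, ⟨y, hY hy⟩, hy, rfl⟩
  have hswap : ∀ g : G, ∃ b ∈ B, ∃ a ∈ A, g = b * a := fun g => by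
    obtain ⟨a, ha, b, hb, h⟩ := hAB g⁻¹
    exact ⟨b⁻¹, inv_mem hb, a⁻¹, inv_mem ha, by rw [← inv_inv g, h, mul_inv_rev]⟩
  have hext : ∀ N : Subgroup G, ∀ [N.Normal], Group.IsSolvable N → Group.IsSolvable (G ⧸ N) →
      Group.IsSolvable G := by
    intro N _ h1 h2
    haveI := h1
    haveI := h2
    exact Group.isSolvable_of_ker_le_range N.subtype (QuotientGroup.mk' N)
      (by rw [QuotientGroup.ker_mk', range_subtype])
  have htop : ∀ C : Subgroup G, Group.IsNilpotent C → C ≠ ⊤ := by
    intro C hC e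
    subst e
    haveI := hC
    haveI : Group.IsNilpotent G := nilpotent_of_mulEquiv (topEquiv (G := G))
    exact hns (isSolvable_of_isNilpotent' G)
  by_cases hcop : (Nat.card A).Coprime (Nat.card B)
  · -- coprime orders
    have hsimple : ∀ N : Subgroup G, N.Normal → N = ⊥ ∨ N = ⊤ := by
      intro N hN
      by_contra h
      push Not at h
      obtain ⟨h0, h1⟩ := h
      refine hns (hext N ?_ (hquot N h0))
      refine hsub N h1 (A ⊓ N) (B ⊓ N) inf_le_right inf_le_right
        (haveI := hA; isNilpotent_of_le inf_le_left) (haveI := hB; isNilpotent_of_le inf_le_left) ?_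
      intro x hx
      obtain ⟨a, ha, b, hb, rfl⟩ := hAB x
      have h2 : QuotientGroup.mk' N a * QuotientGroup.mk' N b = 1 := by
        rw [← map_mul]; exact (QuotientGroup.eq_one_iff _).mpr hx
      have h3 : QuotientGroup.mk' N a = 1 := by
        refine orderOf_eq_one_iff.mp (Nat.eq_one_of_dvd_coprimes hcop
          ((orderOf_map_dvd _ a).trans (Subgroup.orderOf_dvd_natCard A ha)) ?_)
        rw [eq_inv_of_mul_eq_one_left h2, orderOf_inv]
        exact (orderOf_map_dvd _ b).trans (Subgroup.orderOf_dvd_natCard B hb)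
      have haN : a ∈ N := (QuotientGroup.eq_one_iff _).mp h3
      exact ⟨a, ⟨ha, haN⟩, b, ⟨hb, by simpa using mul_mem (inv_mem haN) hx⟩, rfl⟩
    haveI : Nontrivial G := by
      by_contra h
      rw [not_nontrivial_iff_subsingleton] at h
      exact hns (Group.isSolvable_of_top_eq_bot G (by simp [eq_iff_true_of_subsingleton]))
    haveI : IsSimpleGroup G := ⟨hsimple⟩
    have htwo : ∀ X Y : Subgroup G, Group.IsNilpotent X → Group.IsNilpotent Y →
        (Nat.card X).Coprime (Nat.card Y) → (∀ g : G, ∃ x ∈ X, ∃ y ∈ Y, g = x * y) →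
        ∀ p : ℕ, ∃ q : ℕ, q.Prime ∧ q ≠ p ∧ q ∣ Nat.card X := by
      intro X Y hX hY hc hmul p
      by_contra h
      push Not at h
      have hY0 : Y ≠ ⊥ := by
        rintro rfl
        refine htop X hX (eq_top_iff.mpr fun g _ => ?_)
        obtain ⟨x, hx, y, hy, rfl⟩ := hmul g
        rw [mem_bot] at hy
        rw [hy, mul_one]; exact hx
      obtain ⟨q, hq, hqY⟩ := Nat.exists_prime_and_dvd
        (fun e => hY0 (eq_bot_of_card_eq Y e))
      haveI := Fact.mk hq
      obtain ⟨b, hb, hbo, -⟩ := exists_cen (p := q) hY hqY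
      have hb1 : b ≠ 1 := fun e => by rw [e, orderOf_one] at hbo; exact hq.one_lt.ne hbo
      have hle : Y ≤ centralizer ({b} : Set G) := fun y hy =>
        mem_centralizer_singleton_iff.mpr (hb.2 y hy).symm
      have hidx : Y.index = Nat.card X := by
        refine Nat.eq_of_mul_eq_mul_left (Nat.card_pos (α := Y)) ?_
        rw [Y.card_mul_index, mul_comm, ← Nat.card_prod]
        refine (Nat.card_eq_of_bijective (fun x : X × Y => (x.1 : G) * x.2) ⟨?_, ?_⟩).symm
        · exact Subgroup.mul_injective_of_disjoint (disjoint_of_coprime_natCard hc)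
        · intro g
          obtain ⟨x, hx, y, hy, rfl⟩ := hmul g
          exact ⟨(⟨x, hx⟩, ⟨y, hy⟩), rfl⟩
      have hdvd : (centralizer ({b} : Set G)).index ∣ Nat.card X := hidx ▸ index_dvd_of_le hle
      have hprime : (Nat.card G).Prime := by
        by_cases hp : p.Prime
        · obtain ⟨k, hk⟩ : ∃ k, Nat.card X = p ^ k :=
            ⟨_, Nat.eq_prime_pow_of_unique_prime_dvd Nat.card_pos.ne' fun {r} hr hd =>
              Classical.byContradiction fun hne => h r hr hne hd⟩
          obtain ⟨j, -, hj⟩ := (Nat.dvd_prime_pow hp).mp (hk ▸ hdvd)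
          exact CharInduced.prime_card_of_class_prime_pow p j hp b hb1 hj
        · have h1 : Nat.card X = 1 := by
            by_contra h1
            obtain ⟨r, hr, hrd⟩ := Nat.exists_prime_and_dvd h1
            exact h r hr (fun e => hp (e ▸ hr)) hrd
          exact CharInduced.prime_card_of_class_prime_pow 2 0 Nat.prime_two b hb1
            (Nat.dvd_one.mp (h1 ▸ hdvd))
      haveI : Fact (Nat.card G).Prime := ⟨hprime⟩
      haveI : Group.IsNilpotent G := (IsPGroup.of_card (n := 1) (pow_one _).symm).isNilpotent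
      exact hns (isSolvable_of_isNilpotent' G)
    exact Setting.false (A := A) (B := B)
      { nA := hA, nB := hB, cop := hcop, mul := hAB
        sol := fun H hH X Y hX hY hXn hYn _ hfac => hsub H hH X Y hX hY hXn hYn hfac
        simple := hsimple, nsol := hns
        twoA := htwo A B hA hB hcop hAB
        twoB := htwo B A hB hA hcop.symm hswap }
  · -- a common prime
    obtain ⟨p, hp, hpA, hpB⟩ := Nat.Prime.not_coprime_iff_dvd.mp hcop
    haveI := Fact.mk hp
    haveI : Nontrivial G := by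
      by_contra h
      rw [not_nontrivial_iff_subsingleton] at h
      exact hns (Group.isSolvable_of_top_eq_bot G (by simp [eq_iff_true_of_subsingleton]))
    obtain ⟨N, hN⟩ := HallSolvable.exists_minNormal (G := G)
    haveI := hN.normal
    have hNs : ¬ Group.IsSolvable N := fun h => hns (hext N h (hquot N hN.ne_bot))
    have hCN : centralizer (N : Set G) = ⊥ := by
      by_contra h0
      obtain ⟨N₂, hN₂, hle⟩ := HallSolvable.exists_minNormal_le h0
      haveI := hN₂.normal
      rcases hN.le_or_inf_eq_bot (K := N₂) with h | h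
      · refine hNs (Group.isSolvable_of_comm fun x y => Subtype.ext ?_)
        exact (mem_centralizer_iff.mp (hle (h y.2)) x x.2)
      · haveI := hquot N₂ hN₂.ne_bot
        refine hNs (Group.isSolvable_of_isSolvable_injective
          (f := (QuotientGroup.mk' N₂).comp N.subtype) ?_)
        rw [injective_iff_map_eq_one]
        intro x hx
        exact Subtype.ext (mem_bot.mp (h ▸ mem_inf.mpr ⟨x.2, (QuotientGroup.eq_one_iff _).mp hx⟩))
    have hAN : A ⊔ N = ⊤ := by
      by_contra h
      refine hNs ?_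
      haveI : Group.IsSolvable ↥(A ⊔ N) := hsub _ h A (B ⊓ (A ⊔ N)) le_sup_left inf_le_right hA
        (haveI := hB; isNilpotent_of_le inf_le_left) (fun x hx => by
          obtain ⟨a, ha, b, hb, rfl⟩ := hAB x
          exact ⟨a, ha, b, ⟨hb, by simpa using mul_mem (inv_mem (mem_sup_left ha : a ∈ A ⊔ N)) hx⟩, rfl⟩)
      exact Group.isSolvable_of_isSolvable_injective
        (Subgroup.inclusion_injective (le_sup_right : N ≤ A ⊔ N))
    have hBN : B ⊔ N = ⊤ := by
      by_contra h
      refine hNs ?_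
      haveI : Group.IsSolvable ↥(B ⊔ N) := hsub _ h B (A ⊓ (B ⊔ N)) le_sup_left inf_le_right hB
        (haveI := hA; isNilpotent_of_le inf_le_left) (fun x hx => by
          obtain ⟨b, hb, a, ha, rfl⟩ := hswap x
          exact ⟨b, hb, a, ⟨ha, by simpa using mul_mem (inv_mem (mem_sup_left hb : b ∈ B ⊔ N)) hx⟩, rfl⟩)
      exact Group.isSolvable_of_isSolvable_injective
        (Subgroup.inclusion_injective (le_sup_right : N ≤ B ⊔ N))
    -- properties of `sy X p ⊔ N`
    have hH : ∀ X : Subgroup G, Group.IsNilpotent X → X ⊔ N = ⊤ →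
        (sy X p ⊔ N).Normal ∧ ∀ R : Subgroup G, IsPGroup p R → R ≤ sy X p ⊔ N := by
      intro X hX hXN
      have hn : (sy X p ⊔ N).Normal := by
        rw [← normalizer_eq_top_iff, eq_top_iff, ← hXN]
        refine sup_le ?_ (le_sup_right.trans le_normalizer)
        refine CoprimeAction.le_normalizer_of_conj_mem fun x hx v hv => ?_
        have : sy X p ⊔ N ≤ (sy X p ⊔ N).comap (MulAut.conj x).toMonoidHom :=
          sup_le (fun w hw => mem_sup_left ((Subgroup.mem_normalizer_iff.mp
              (le_normalizer_sy hX hx) w).mp hw))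
            (fun w hw => mem_sup_right (hN.normal.conj_mem w hw x))
        exact this hv
      refine ⟨hn, fun R hR => ?_⟩
      set K := sy X p ⊔ N
      have hker : ∀ g : G, ∃ y : G, ¬ p ∣ orderOf y ∧ QuotientGroup.mk' K g = QuotientGroup.mk' K y := by
        intro g
        obtain ⟨x, hx, m, hm, rfl⟩ := mem_sup_of_normal_right.mp (hXN ▸ mem_top g : g ∈ X ⊔ N)
        obtain ⟨u, hu, v, hv, hv', rfl⟩ := exists_sy_mul (p := p) hX hx
        refine ⟨v, hv', ?_⟩
        rw [map_mul, map_mul, show QuotientGroup.mk' K u = 1 from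
          (QuotientGroup.eq_one_iff _).mpr (mem_sup_left hu), show QuotientGroup.mk' K m = 1 from
          (QuotientGroup.eq_one_iff _).mpr (mem_sup_right hm), one_mul, mul_one]
      intro r hr
      obtain ⟨y, hy, hry⟩ := hker r
      obtain ⟨k, hk⟩ := hR ⟨r, hr⟩
      refine (QuotientGroup.eq_one_iff _).mp (orderOf_eq_one_iff.mp
        (Nat.eq_one_of_dvd_coprimes ((hp.coprime_iff_not_dvd.mpr hy).pow_left k)
          ((orderOf_map_dvd (QuotientGroup.mk' K) r).trans
            (orderOf_dvd_of_pow_eq_one (congrArg Subtype.val hk))) ?_))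
      show orderOf (QuotientGroup.mk' K r) ∣ orderOf y
      rw [hry]
      exact orderOf_map_dvd _ y
    set H := sy A p ⊔ N with hHd
    obtain ⟨hHn, hHall⟩ := hH A hA hAN
    obtain ⟨hHn', hHall'⟩ := hH B hB hBN
    have hHeq : sy B p ⊔ N = H :=
      le_antisymm (sup_le (hHall _ sy_isPGroup) le_sup_right) (sup_le (hHall' _ sy_isPGroup) le_sup_right)
    set A₁ := (sy A p).subgroupOf H
    set B₁ := (sy B p).subgroupOf H
    have hBH : sy B p ≤ H := hHeq ▸ le_sup_left
    have hne : ∀ X : Subgroup G, p ∣ Nat.card X → sy X p ≤ H → (sy X p).subgroupOf H ≠ ⊥ := by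
      intro X hX hle e
      rw [subgroupOf_eq_bot, disjoint_iff, inf_eq_left.mpr hle] at e
      exact sy_ne_bot hX e
    obtain ⟨L, hLn, hLt, hL⟩ := Cfsg.Agent.S0566.result A₁ B₁ (hne A hpA le_sup_left) (hne B hpB hBH) (by
      intro x
      obtain ⟨P, hP⟩ := exists_sy_product hA (isNilpotent_conj hB (x : G)) (mul_conj hAB (x : G)) p
      have hPH : (P : Subgroup G) ≤ H := hHall _ P.2
      refine ⟨(P : Subgroup G).subgroupOf H, ?_, ?_⟩
      · intro e
        have : H ≤ (P : Subgroup G) := subgroupOf_eq_top.mp e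
        have hNp : IsPGroup p N := P.2.to_le (le_sup_right.trans this)
        haveI := hNp.isNilpotent
        exact hNs (isSolvable_of_isNilpotent' N)
      · have hconj : ∀ y : G, y ∈ sy (MulAut.conj (x : G) • B : Subgroup G) p ↔
            (x : G)⁻¹ * y * x ∈ sy B p := fun y => by rw [sy_conj hB, CoprimeSZ.mem_conj_smul]
        ext y
        rw [SetLike.mem_coe, mem_subgroupOf, ← SetLike.mem_coe, hP]
        constructor
        · rintro ⟨a, ha, b, hb, he⟩
          have ha' : a ∈ H := mem_sup_left ha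
          have hb' : b ∈ H := hPH (by
            rw [← SetLike.mem_coe, hP]; exact ⟨1, one_mem _, b, hb, one_mul b⟩)
          exact ⟨⟨a, ha'⟩, ha, ⟨b, hb'⟩,
            CoprimeSZ.mem_conj_smul.mpr ((hconj b).mp hb), Subtype.ext he⟩
        · rintro ⟨a, ha, b, hb, rfl⟩
          have hb' : x⁻¹ * b * x ∈ B₁ := CoprimeSZ.mem_conj_smul.mp hb
          exact ⟨_, ha, _, (hconj _).mpr hb', rfl⟩)
    -- the commutator of `sy X p` with `N` is normal in the whole group
    have fin : ∀ X : Subgroup G, Group.IsNilpotent X → X ⊔ N = ⊤ → p ∣ Nat.card X →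
        sy X p ⊔ N = H → (sy X p).subgroupOf H ≤ L → False := by
      intro X hX hXN hpX hXH hXL
      set D := ⁅N, sy X p⁆ with hD
      have hDN : D ≤ N := commutator_le_left N _
      have hDn : D.Normal := by
        rw [← normalizer_eq_top_iff, eq_top_iff, ← hXN]
        refine sup_le ?_ ?_
        swap
        · refine CoprimeAction.le_normalizer_of_conj_mem fun n hn v hv => ?_
          have h1 : D ≤ D.comap (MulAut.conj n).toMonoidHom := by
            rw [hD, commutator_le]
            intro n₁ hn₁ y hy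
            rw [mem_comap]
            have e : (MulAut.conj n).toMonoidHom ⁅n₁, y⁆ = ⁅n * n₁, y⁆ * ⁅n, y⁆⁻¹ := by
              simp only [MulEquiv.coe_toMonoidHom, MulAut.conj_apply, commutatorElement_def]
              group
            rw [e]
            exact mul_mem (commutator_mem_commutator (mul_mem hn hn₁) hy)
              (inv_mem (commutator_mem_commutator hn hy))
          exact h1 hv
        refine CoprimeAction.le_normalizer_of_conj_mem fun x hx v hv => ?_
        have h1 : D ≤ D.comap (MulAut.conj x).toMonoidHom := by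
          rw [hD, commutator_le]
          intro n hn y hy
          rw [mem_comap, map_commutatorElement]
          exact commutator_mem_commutator (hN.normal.conj_mem n hn x)
            ((Subgroup.mem_normalizer_iff.mp (le_normalizer_sy hX hx) y).mp hy)
        exact h1 hv
      rcases hN.2.2 D hDn hDN with h0 | h0
      · refine sy_ne_bot hpX (le_bot_iff.mp (hCN ▸ ?_))
        rwa [← commutator_eq_bot_iff_le_centralizer, commutator_comm]
      · apply hLt
        rw [eq_top_iff]
        have hDL : D ≤ L.map H.subtype := by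
          rw [hD, commutator_le]
          intro n hn y hy
          have hy' : (⟨y, hXH ▸ mem_sup_left hy⟩ : H) ∈ L := hXL hy
          have hn' : n ∈ H := mem_sup_right hn
          refine ⟨⁅(⟨n, hn'⟩ : H), ⟨y, hXH ▸ mem_sup_left hy⟩⁆, ?_, rfl⟩
          rw [commutatorElement_def]
          exact mul_mem (hLn.conj_mem _ hy' _) (inv_mem hy')
        have hle : H ≤ L.map H.subtype := by
          refine hXH.ge.trans ?_
          refine sup_le (fun y hy => ⟨⟨y, hXH ▸ mem_sup_left hy⟩, hXL hy, rfl⟩) ?_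
          exact h0.ge.trans hDL
        intro z _
        obtain ⟨w, hw, hwe⟩ := hle z.2
        rwa [← Subtype.ext (hwe : (w : G) = z)]
    rcases hL with hL | hL
    · exact fin A hA hAN hpA rfl hL
    · exact fin B hB hBN hpB hHeq hL

/-- The Kegel–Wielandt theorem. -/
theorem isSolvable_of_mul {G : Type u} [Group G] [Finite G] (A B : Subgroup G)
    (hA : Group.IsNilpotent A) (hB : Group.IsNilpotent B)
    (hAB : ∀ g : G, ∃ a ∈ A, ∃ b ∈ B, g = a * b) : Group.IsSolvable G :=
  solvable_aux _ G rfl A B hA hB hAB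

end Cfsg.Agent.KegelWielandt
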