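import Mathlib
import Cfsg.Agent.Lib.AbelCent88Height
import Cfsg.Agent.Lib.KegelWielandt
import Cfsg.Agent.Lib.FrobeniusNilpotent

/-!
Maximal invariant subgroups of a minimal counterexample.
-/

set_option autoImplicit false

namespace Cfsg.Agent.AbelCent88Maximal

open Cfsg.Agent
open Cfsg.Agent.AbelCent88Basic
open scoped commutatorElement Pointwise
open Subgroup (centralizer normalizer zpowers)

variable {G : Type*} [Group G] [Finite G] {q : ℕ} {A K : Subgroup G}

/-- A maximal invariant proper subgroup. -/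
structure IsMax (A K M : Subgroup G) : Prop where
  le : M ≤ K
  ne : M ≠ K
  norm : A ≤ normalizer (M : Set G)
  eq_of_le : ∀ H : Subgroup G, M ≤ H → H ≤ K → H ≠ K → A ≤ normalizer (H : Set G) → H = M

theorem exists_max {H : Subgroup G} (hHK : H ≤ K) (hne : H ≠ K) (hH : A ≤ normalizer (H : Set G)) :
    ∃ M, IsMax A K M ∧ H ≤ M := by
  obtain ⟨n, hn⟩ : ∃ n, Nat.card K ≤ Nat.card H + n := ⟨Nat.card K, by omega⟩
  induction n generalizing H with
  | zero => exact absurd (Subgroup.eq_of_le_of_card_ge hHK (by omega)) hne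
  | succ n ih =>
    by_cases hmax : ∀ H' : Subgroup G, H ≤ H' → H' ≤ K → H' ≠ K → A ≤ normalizer (H' : Set G) → H' = H
    · exact ⟨H, ⟨hHK, hne, hH, hmax⟩, le_rfl⟩
    push Not at hmax
    obtain ⟨H', h1, h2, h3, h4, h5⟩ := hmax
    have h6 : Nat.card H < Nat.card H' :=
      lt_of_le_of_ne (Subgroup.card_le_of_le h1)
        fun he => h5 (Subgroup.eq_of_le_of_card_ge h1 he.ge).symm
    obtain ⟨M, hM, hle⟩ := ih h2 h3 h4 (by omega)
    exact ⟨M, hM, h1.trans hle⟩

theorem IsMax.ne_bot (S : Minimal q A K) {M : Subgroup G} (hM : IsMax A K M) : M ≠ ⊥ := by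
  intro h
  have hex : ∃ a ∈ A, a ≠ 1 ∧ cK K a ≠ ⊥ := by
    by_contra hcon
    push Not at hcon
    exact S.ne_bot (eq_bot_iff.2 (S.le_of_parts le_rfl S.norm fun a ha ha1 => (hcon a ha ha1).le))
  obtain ⟨a, ha, ha1, hne⟩ := hex
  refine hne (((hM.eq_of_le _ (h.le.trans bot_le) inf_le_left ?_
    (S.inv_inf_centralizer ha S.norm)).trans h))
  intro he
  refine S.nonsolv (Group.isSolvable_of_comm fun x y => Subtype.ext ?_)
  exact S.abel a ha ha1 x (he.ge x.2) y (he.ge y.2)

theorem IsMax.normalizer_eq (S : Minimal q A K) {M : Subgroup G} (hM : IsMax A K M) {X : Subgroup G}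
    (hXM : X ≤ M) (hX : A ≤ normalizer (X : Set G)) (hne : X ≠ ⊥)
    (hMX : M ≤ normalizer (X : Set G)) : K ⊓ normalizer (X : Set G) = M := by
  refine hM.eq_of_le _ (le_inf hM.le hMX) inf_le_left
    (S.normalizer_proper (hXM.trans hM.le) hX hne fun he => hM.ne (le_antisymm hM.le (he ▸ hXM)))
    (CoprimeAction.le_normalizer_inf S.norm (le_normalizer_normalizer hX))

theorem IsMax.centralizer_le (S : Minimal q A K) {M : Subgroup G} (hM : IsMax A K M) {X : Subgroup G}
    (hXM : X ≤ M) (hX : A ≤ normalizer (X : Set G)) (hne : X ≠ ⊥)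
    (hMX : M ≤ normalizer (X : Set G)) : K ⊓ centralizer (X : Set G) ≤ M :=
  (inf_le_inf_left K (Subgroup.centralizer_le_normalizer _)).trans
    (hM.normalizer_eq S hXM hX hne hMX).le

theorem fit_ne_bot (S : Minimal q A K) {H : Subgroup G} (hHK : H ≤ K) (hne : H ≠ K)
    (hH : A ≤ normalizer (H : Set G)) (h1 : H ≠ ⊥) : fit H ≠ ⊥ := by
  intro h
  refine h1 (eq_bot_iff.2 (S.le_of_isyl_le hHK hH fun t ht => ?_))
  have := Fact.mk ht
  refine (AbelCent88Height.le_oo S hHK hne hH isyl_le (S.isPGroup_isyl hHK hH) (S.inv_isyl hHK hH)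
    ?_).trans ((oo_le_fit ht H).trans h.le)
  intro x _
  rw [Subgroup.mem_centralizer_iff]
  intro y hy
  have : y = 1 := Subgroup.mem_bot.1 (((ff_le_fit t H).trans h.le) hy)
  rw [this, one_mul, mul_one]

/-- A maximal invariant subgroup with `O_t = 1` for `t ≠ p` has `O_p` a Sylow subgroup of `K`. -/
theorem oo_eq_isyl (S : Minimal q A K) {M : Subgroup G} (hM : IsMax A K M) {p : ℕ} [Fact p.Prime]
    (h : ff p M = ⊥) : oo p M = isyl A p K := by
  have hinv : A ≤ normalizer (oo p M : Set G) := hM.norm.trans (normalizer_le_oo p M)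
  have h1 : isyl A p M = oo p M := by
    refine le_antisymm (AbelCent88Height.le_oo S hM.le hM.ne hM.norm isyl_le
      (S.isPGroup_isyl hM.le hM.norm) (S.inv_isyl hM.le hM.norm) ?_)
      (le_isyl (oo_le p M) (isPGroup_oo p M) hinv)
    rw [h]
    intro x _
    rw [Subgroup.mem_centralizer_iff]
    intro y hy
    rw [show y = 1 from Subgroup.mem_bot.1 hy, one_mul, mul_one]
  have hne : oo p M ≠ ⊥ := fun h0 => fit_ne_bot S hM.le hM.ne hM.norm (hM.ne_bot S)
    (eq_bot_iff.2 ((fit_le_sup p M).trans (by rw [h0, h, sup_bot_eq])))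
  have hN := hM.normalizer_eq S (oo_le p M) hinv hne
    (Subgroup.le_normalizer.trans (normalizer_le_oo p M))
  have hP := S.isPGroup_isyl le_rfl S.norm (t := p)
  have hle : oo p M ≤ isyl A p K := le_isyl ((oo_le p M).trans hM.le) (isPGroup_oo p M) hinv
  have hsub : isyl A p K ⊓ normalizer (oo p M : Set G) ≤ oo p M := by
    rw [← h1]
    refine le_isyl ?_ (hP.to_le inf_le_left) ?_
    · rw [h1]
      exact (le_inf (inf_le_left.trans isyl_le) inf_le_right).trans hN.le
    · rw [h1]
      exact CoprimeAction.le_normalizer_inf (S.inv_isyl le_rfl S.norm)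
        (le_normalizer_normalizer hinv)
  by_contra hcon
  have hlt : (oo p M).subgroupOf (isyl A p K) < ⊤ := by
    rw [lt_top_iff_ne_top]
    intro he
    exact hcon (le_antisymm hle (Subgroup.subgroupOf_eq_top.1 he))
  have := hP.isNilpotent
  have h2 := Group.normalizerCondition_of_isNilpotent _ hlt
  refine h2.not_ge fun x hx => ?_
  rw [← Subgroup.subgroupOf_normalizer_eq hle] at hx
  exact hsub ⟨x.2, hx⟩

/-- **(F3)**. -/
theorem le_max_of_centralizes (S : Minimal q A K) {M : Subgroup G} (hM : IsMax A K M) {p : ℕ}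
    [Fact p.Prime] (hP : oo p M ≠ ⊥) {H : Subgroup G} (hHK : H ≤ K) (hne : H ≠ K)
    (hH : A ≤ normalizer (H : Set G)) (hPH : oo p M ≤ H) (hFH : ff p M ≤ H)
    (hC : ∀ t : ℕ, t.Prime → t ≠ p → oo t H ≤ centralizer (oo p M : Set G)) : H ≤ M := by
  set P := oo p M with hPdef
  have hPA : A ≤ normalizer (P : Set G) := hM.norm.trans (normalizer_le_oo p M)
  have hMP : M ≤ normalizer (P : Set G) := Subgroup.le_normalizer.trans (normalizer_le_oo p M)
  have hPle : P ≤ oo p H := AbelCent88Height.le_oo S hHK hne hH hPH (isPGroup_oo p M) hPA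
    (Subgroup.le_centralizer_iff.1 (iSup_le fun t => hC t t.2.1 t.2.2))
  have hfin : oo p H ≤ P → H ≤ M := fun h => by
    have he : oo p H = P := le_antisymm h hPle
    have h1 : H ≤ normalizer (P : Set G) := by
      rw [← he]
      exact Subgroup.le_normalizer.trans (normalizer_le_oo p H)
    exact (le_inf hHK h1).trans (hM.normalizer_eq S (oo_le p M) hPA hP hMP).le
  refine hfin ?_
  by_cases hF : ff p M = ⊥
  · exact (le_isyl ((oo_le p H).trans hHK) (isPGroup_oo p H)
      (hH.trans (normalizer_le_oo p H))).trans (oo_eq_isyl S hM hF).ge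
  have hTM : ∀ t : ℕ, t.Prime → t ≠ p → oo t H ≤ M := fun t ht htp =>
    (le_inf ((oo_le t H).trans hHK) (hC t ht htp)).trans
      (hM.centralizer_le S (oo_le p M) hPA hP hMP)
  have hR1 : ∀ r : ℕ, r.Prime → r ≠ p → oo r M ≤ oo r H := by
    intro r hr hrp
    have := Fact.mk hr
    have hrH : oo r M ≤ H := (oo_le_ff hr hrp M).trans hFH
    have hrA : A ≤ normalizer (oo r M : Set G) := hM.norm.trans (normalizer_le_oo r M)
    refine AbelCent88Height.le_oo S hHK hne hH hrH (isPGroup_oo r M) hrA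
      (Subgroup.le_centralizer_iff.1 (iSup_le fun ⟨s, hs, hsr⟩ => ?_))
    have := Fact.mk hs
    refine Subgroup.le_centralizer_iff.1 ?_
    have hrs : oo r M ≤ normalizer (oo s H : Set G) :=
      hrH.trans (Subgroup.le_normalizer.trans (normalizer_le_oo s H))
    by_cases hsp : s = p
    swap
    · exact le_centralizer_of_normalize hsr (isPGroup_oo s H) (isPGroup_oo r M)
        ((hTM s hs hsp).trans (Subgroup.le_normalizer.trans (normalizer_le_oo r M))) hrs
    subst hsp
    have hcen : oo r M ≤ centralizer (P : Set G) := oo_centralizes hsr M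
    refine CoprimeGen.le_centralizer_of_prod_action (p := s) (B := P) (isPGroup_oo s H)
      (isPGroup_oo s M) ?_ hrs
      (hPH.trans (Subgroup.le_normalizer.trans (normalizer_le_oo s H))) hcen ?_
    · intro hd
      obtain ⟨n, hn⟩ := IsPGroup.iff_card.1 (isPGroup_oo r M)
      rw [hn] at hd
      exact hsr ((Nat.prime_dvd_prime_iff_eq hs hr).1 (hs.dvd_of_dvd_pow hd))
    · have hX : oo s H ⊓ centralizer (P : Set G) ≤ M :=
        (le_inf (inf_le_left.trans ((oo_le s H).trans hHK)) inf_le_right).trans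
          (hM.centralizer_le S (oo_le s M) hPA hP hMP)
      refine Subgroup.le_centralizer_iff.1 (le_centralizer_of_normalize hsr
        ((isPGroup_oo s H).to_le inf_le_left) (isPGroup_oo r M)
        (hX.trans (Subgroup.le_normalizer.trans (normalizer_le_oo r M)))
        (CoprimeAction.le_normalizer_inf hrs ?_))
      refine SignalizerCoprime.le_normalizer_centralizer ?_
      exact (oo_le r M).trans hMP
  obtain ⟨r, hr, hrp, hrne⟩ : ∃ r : ℕ, r.Prime ∧ r ≠ p ∧ oo r M ≠ ⊥ := by
    by_contra hcon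
    push Not at hcon
    exact hF (eq_bot_iff.2 (iSup_le fun t => (hcon t t.2.1 t.2.2).le))
  have hMr : M ≤ normalizer (oo r M : Set G) :=
    Subgroup.le_normalizer.trans (normalizer_le_oo r M)
  have hpc : ∀ s : ℕ, s.Prime → s ≠ p → oo p H ≤ centralizer (oo s M : Set G) := fun s hs hsp =>
    have := Fact.mk hs
    (oo_centralizes hsp H).trans (Subgroup.centralizer_le (SetLike.coe_subset_coe.2 (hR1 s hs hsp)))
  have hpM : oo p H ≤ M :=
    (le_inf ((oo_le p H).trans hHK) (hpc r hr hrp)).trans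
      (hM.centralizer_le S (oo_le r M) (hM.norm.trans (normalizer_le_oo r M)) hrne hMr)
  exact AbelCent88Height.le_oo S hM.le hM.ne hM.norm hpM (isPGroup_oo p H)
    (hH.trans (normalizer_le_oo p H))
    (Subgroup.le_centralizer_iff.1 (iSup_le fun s =>
      Subgroup.le_centralizer_iff.1 (hpc s s.2.1 s.2.2)))

/-- An invariant `t`-group is the product of its `M`-part and its part on the line of `c`, if `M`
contains all other lines. -/
theorem exists_factor (S : Minimal q A K) {M : Subgroup G} {c : G} (hc : c ∈ A)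
    (hb : ∀ b ∈ A, b ∉ zpowers c → cK K b ≤ M) {t : ℕ} [Fact t.Prime] {P : Subgroup G}
    (hPK : P ≤ K) (hP : IsPGroup t P) (hPA : A ≤ normalizer (P : Set G)) {x : G} (hx : x ∈ P) :
    ∃ m ∈ P ⊓ M, ∃ u ∈ P ⊓ centralizer ({c} : Set G), x = m * u := by
  have := hP.isNilpotent
  obtain ⟨n, hn⟩ := (Subgroup.isNilpotent_iff_lowerCentralSeries (S := P)).1 this
  have hL : ∀ j, P.lowerCentralSeries j ≤ P ∧ P ≤ normalizer (P.lowerCentralSeries j : Set G) ∧
      A ≤ normalizer (P.lowerCentralSeries j : Set G) := by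
    intro j
    induction j with
    | zero => exact ⟨le_rfl, Subgroup.le_normalizer, hPA⟩
    | succ j ih =>
      exact ⟨(Subgroup.commutator_mono ih.1 le_rfl).trans (Subgroup.commutator_le_self P),
        SignalizerCoprime.le_normalizer_commutator ih.2.1 Subgroup.le_normalizer,
        SignalizerCoprime.le_normalizer_commutator ih.2.2 hPA⟩
  have key : ∀ j, ∃ m ∈ P ⊓ M, ∃ u ∈ P ⊓ centralizer ({c} : Set G),
      ∃ z ∈ P.lowerCentralSeries j, x = m * u * z := by
    intro j
    induction j with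
    | zero => exact ⟨1, one_mem _, 1, one_mem _, x, hx, by simp⟩
    | succ j ih =>
      obtain ⟨m, hm, u, hu, z, hz, rfl⟩ := ih
      set L := P.lowerCentralSeries j with hLdef
      set L' := P.lowerCentralSeries (j + 1) with hL'def
      have hL'L : L' ≤ L := Subgroup.le_normalizer_iff_commutator_le_left.1 (hL j).2.1
      have hLL' : L ≤ normalizer (L' : Set G) := (hL j).1.trans (hL (j + 1)).2.1
      set Lm := L ⊓ M
      set Lu := L ⊓ centralizer ({c} : Set G)
      have hY : L ≤ normalizer ((Lm ⊔ L' : Subgroup G) : Set G) := by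
        refine SignalizerCoprime.le_normalizer_of_forall fun g hg y hy => ?_
        have hyL : y ∈ L := (sup_le inf_le_left hL'L : Lm ⊔ L' ≤ L) hy
        have h1 : ⁅g, y⁆ ∈ L' := by
          refine (Subgroup.commutator_mono le_rfl (hL j).1) ?_
          exact Subgroup.commutator_mem_commutator hg hyL
        have := mul_mem (Subgroup.mem_sup_right h1 : ⁅g, y⁆ ∈ Lm ⊔ L') hy
        simpa [commutatorElement_def] using this
      have hgen : L ≤ (Lm ⊔ L') ⊔ Lu := by
        refine S.le_of_parts ((hL j).1.trans hPK) (hL j).2.2 fun a ha ha1 => ?_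
        by_cases hac : a ∈ zpowers c
        · refine le_sup_of_le_right ?_
          rw [S.centralizer_eq hc ha1 hac]
        · refine le_sup_of_le_left (le_sup_of_le_left (le_inf inf_le_left ?_))
          exact (inf_le_inf_right _ ((hL j).1.trans hPK)).trans (hb a ha hac)
      have hz' : z ∈ (↑((Lm ⊔ L') ⊔ Lu) : Set G) := hgen hz
      rw [Subgroup.coe_mul_of_right_le_normalizer_left _ _ (inf_le_left.trans hY)] at hz'
      obtain ⟨y, hy, u', hu', rfl⟩ := hz'
      rw [Subgroup.coe_mul_of_left_le_normalizer_right _ _ (inf_le_left.trans hLL')] at hy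
      obtain ⟨m', hm', z', hz', rfl⟩ := hy
      have hm'P : m' ∈ P := (hL j).1 hm'.1
      have hu'P : u' ∈ P := (hL j).1 hu'.1
      have he : u⁻¹ * m'⁻¹ * u * m' ∈ L' := by
        have h1 : ⁅m'⁻¹, u⁻¹⁆ ∈ L' := Subgroup.commutator_mem_commutator (inv_mem hm'.1) (inv_mem hu.1)
        have h2 := inv_mem h1
        simpa [commutatorElement_def, mul_assoc] using h2
      refine ⟨m * m', mul_mem hm ⟨hm'P, hm'.2⟩, u * u', mul_mem hu ⟨hu'P, hu'.2⟩,
        u'⁻¹ * (u⁻¹ * m'⁻¹ * u * m' * z') * u',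
        CoprimeAction.conj_mem' (hLL' hu'.1) (mul_mem he hz'), ?_⟩
      group
  obtain ⟨m, hm, u, hu, z, hz, rfl⟩ := key n
  rw [hn, Subgroup.mem_bot] at hz
  exact ⟨m, hm, u, hu, by rw [hz, mul_one]⟩

/-- **(Q)**: no proper invariant subgroup contains all but one of the `C_K(a)`. -/
theorem not_almost (S : Minimal q A K) {M : Subgroup G} (hMK : M ≤ K) (hne : M ≠ K)
    (hM : A ≤ normalizer (M : Set G)) {c : G} (hc : c ∈ A) (hc1 : c ≠ 1)
    (hb : ∀ b ∈ A, b ∉ zpowers c → cK K b ≤ M) : False := by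
  set U := cK K c
  have hUA : A ≤ normalizer (U : Set G) := S.inv_inf_centralizer hc S.norm
  have hMUA : A ≤ normalizer ((M ⊓ U : Subgroup G) : Set G) :=
    CoprimeAction.le_normalizer_inf hM hUA
  have hsub : (M : Set G) * (U : Set G) ⊆ (K : Set G) := by
    rintro _ ⟨m, hm, u, hu, rfl⟩
    exact mul_mem (hMK hm) hu.1
  have hprod : ∀ g ∈ K, ∃ m ∈ M, ∃ u ∈ U, g = m * u := by
    have hdvd : Nat.card K * Nat.card ↥(M ⊓ U) ∣ Nat.card M * Nat.card U := by
      rw [← Nat.factorization_le_iff_dvd (mul_ne_zero Nat.card_pos.ne' Nat.card_pos.ne')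
        (mul_ne_zero Nat.card_pos.ne' Nat.card_pos.ne')]
      intro t
      rw [Nat.factorization_mul Nat.card_pos.ne' Nat.card_pos.ne',
        Nat.factorization_mul Nat.card_pos.ne' Nat.card_pos.ne', Finsupp.add_apply,
        Finsupp.add_apply]
      by_cases ht : t.Prime
      swap
      · simp [Nat.factorization_eq_zero_of_not_prime _ ht]
      have := Fact.mk ht
      set P := isyl A t K
      have hP1 : P ⊓ M = isyl A t M := S.isyl_inter le_rfl S.norm hMK hM
      have hP2 : P ⊓ U = isyl A t U := S.isyl_inter le_rfl S.norm inf_le_left hUA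
      have hP3 : P ⊓ M ⊓ (P ⊓ U) = isyl A t (M ⊓ U) := by
        rw [← S.isyl_inter le_rfl S.norm (inf_le_left.trans hMK) hMUA, ← inf_inf_distrib_left]
      have hle : Nat.card P ≤
          Nat.card (((P ⊓ M : Subgroup G) : Set G) * ((P ⊓ U : Subgroup G) : Set G) : Set G) := by
        refine Nat.card_mono (Set.toFinite _) fun x hx => ?_
        obtain ⟨m, hm, u, hu, rfl⟩ := exists_factor S hc hb isyl_le
          (S.isPGroup_isyl le_rfl S.norm) (S.inv_isyl le_rfl S.norm) hx
        exact Set.mul_mem_mul hm ⟨hu.1, isyl_le hu.1, hu.2⟩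
      have h4 := Nat.mul_le_mul_right (Nat.card ↥(P ⊓ M ⊓ (P ⊓ U))) hle
      rw [KegelWielandt.card_set_mul, hP3, hP1, hP2, S.card_isyl le_rfl S.norm,
        S.card_isyl (inf_le_left.trans hMK) hMUA, S.card_isyl hMK hM,
        S.card_isyl inf_le_left hUA, ← pow_add, ← pow_add] at h4
      exact (Nat.pow_le_pow_iff_right ht.one_lt).1 h4
    intro g hg
    have h5 : Nat.card (K : Set G) ≤ Nat.card ((M : Set G) * (U : Set G) : Set G) := by
      refine Nat.le_of_mul_le_mul_right ?_ (Nat.card_pos : 0 < Nat.card ↥(M ⊓ U))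
      rw [KegelWielandt.card_set_mul]
      exact Nat.le_of_dvd (Nat.mul_pos Nat.card_pos Nat.card_pos) hdvd
    have h6 : (M : Set G) * (U : Set G) = K :=
      Set.eq_of_subset_of_ncard_le hsub (by rwa [← Nat.card_coe_set_eq, ← Nat.card_coe_set_eq])
        (Set.toFinite _)
    obtain ⟨m, hm, u, hu, rfl⟩ : g ∈ (M : Set G) * (U : Set G) := by rw [h6]; exact hg
    exact ⟨m, hm, u, hu, rfl⟩
  by_cases hY : M ⊓ U = ⊥
  · -- the fixed point free case
    have hfix : ∀ x ∈ M, c * x = x * c → x = 1 := fun x hx hxc => by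
      have : x ∈ M ⊓ U := ⟨hx, hMK hx, mem_centralizer_singleton.2 hxc⟩
      rwa [hY, Subgroup.mem_bot] at this
    have hnil : Group.IsNilpotent M := by
      refine FrobeniusNilpotent.isNilpotent_of_fpf (M.normalizerMonoidHom ⟨c, hM hc⟩)
        (fun x hx => Subtype.ext (hfix x x.2
          (mul_inv_eq_iff_eq_mul.1 (congrArg Subtype.val hx)))) q S.prime ?_
      rw [← map_pow, show (⟨c, hM hc⟩ : normalizer (M : Set G)) ^ q = 1 from
        Subtype.ext (S.pow_eq_one hc), map_one]
    have hUc : Group.IsNilpotent U := by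
      letI : CommGroup U := { (inferInstance : Group U) with
        mul_comm := fun x y => Subtype.ext (S.abel c hc hc1 x x.2 y y.2) }
      infer_instance
    refine S.nonsolv (KegelWielandt.isSolvable_of_mul (G := K) (M.subgroupOf K) (U.subgroupOf K)
      (Group.nilpotent_of_mulEquiv (Subgroup.subgroupOfEquivOfLe hMK).symm)
      (Group.nilpotent_of_mulEquiv
        (Subgroup.subgroupOfEquivOfLe (inf_le_left : U ≤ K)).symm) fun g => ?_)
    obtain ⟨m, hm, u, hu, h⟩ := hprod g g.2
    exact ⟨⟨m, hMK hm⟩, hm, ⟨u, hu.1⟩, hu, Subtype.ext h⟩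
  · -- a normal subgroup inside `M`
    let N : Subgroup G :=
      { carrier := {x | x ∈ K ∧ ∀ g ∈ K, g * x * g⁻¹ ∈ M}
        one_mem' := ⟨one_mem _, fun g _ => by simp⟩
        mul_mem' := fun {x y} hx hy => ⟨mul_mem hx.1 hy.1, fun g hg => by
          have h1 := mul_mem (hx.2 g hg) (hy.2 g hg)
          simpa [mul_assoc] using h1⟩
        inv_mem' := fun {x} hx => ⟨inv_mem hx.1, fun g hg => by
          have h1 := inv_mem (hx.2 g hg)
          simpa [mul_assoc] using h1⟩ }
    have hNM : N ≤ M := fun x hx => by simpa using hx.2 1 (one_mem _)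
    have hNK : K ≤ normalizer (N : Set G) := SignalizerCoprime.le_normalizer_of_forall
      fun k hk x hx => ⟨mul_mem (mul_mem hk hx.1) (inv_mem hk), fun g hg => by
        have h1 := hx.2 (g * k) (mul_mem hg hk)
        simpa [mul_assoc] using h1⟩
    have hNA : A ≤ normalizer (N : Set G) := SignalizerCoprime.le_normalizer_of_forall
      fun b hb' x hx => ⟨CoprimeAction.conj_mem (S.norm hb') hx.1, fun g hg => by
        have h1 := CoprimeAction.conj_mem (hM hb') (hx.2 _ (CoprimeAction.conj_mem' (S.norm hb') hg))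
        simpa [mul_assoc] using h1⟩
    have hYN : M ⊓ U ≤ N := fun x hx => ⟨hMK hx.1, fun g hg => by
      obtain ⟨m, hm, u, hu, rfl⟩ := hprod g hg
      have h1 : u * x * u⁻¹ = x := by
        rw [S.abel c hc hc1 u hu x hx.2, mul_inv_cancel_right]
      have : m * u * x * (m * u)⁻¹ = m * (u * x * u⁻¹) * m⁻¹ := by group
      rw [this, h1]
      exact mul_mem (mul_mem hm hx.1) (inv_mem hm)⟩
    exact ((S.simple N (hNM.trans hMK) hNA hNK).elim
      (fun h => hY (le_bot_iff.1 (h ▸ hYN)))
      (fun h => hne (le_antisymm hMK (h ▸ hNM))))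

end Cfsg.Agent.AbelCent88Maximal
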