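import Mathlib
import Cfsg.Agent.Lib.AbelCent88Maximal

/-!
Tools for the analysis of a maximal invariant subgroup.
-/

set_option autoImplicit false

namespace Cfsg.Agent.AbelCent88Tools

open Cfsg.Agent
open Cfsg.Agent.AbelCent88Basic
open scoped commutatorElement
open Subgroup (centralizer normalizer zpowers)

variable {G : Type*} [Group G] [Finite G]

theorem inf_centralizer_ne_bot {S N : Subgroup G} [Group.IsNilpotent S] (hNS : N ≤ S)
    (hSN : S ≤ normalizer (N : Set G)) (hne : N ≠ ⊥) : N ⊓ centralizer (S : Set G) ≠ ⊥ := by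
  induction hn : Nat.card N using Nat.strong_induction_on generalizing N with
  | _ n ih =>
  have hle : ⁅N, S⁆ ≤ N := CoprimeAction.commutator_le_self_of_le_normalizer hSN
  by_cases h0 : ⁅N, S⁆ = ⊥
  · rwa [inf_eq_left.2 (Subgroup.commutator_eq_bot_iff_le_centralizer.1 h0)]
  have hlt : Nat.card ↥⁅N, S⁆ < n := by
    rw [← hn]
    refine lt_of_le_of_ne (Subgroup.card_le_of_le hle) fun he => hne ?_
    exact CoprimeGen.eq_bot_of_le_commutator hNS (Subgroup.eq_of_le_of_card_ge hle he.ge).ge
  intro h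
  refine ih _ hlt (hle.trans hNS) (Subgroup.normalizer_commutator_ge_right N S) h0 rfl ?_
  exact le_bot_iff.1 ((inf_le_inf_right _ hle).trans h.le)

/-- The elements of `S` central modulo `N`. -/
def upper (S N : Subgroup G) : Subgroup G where
  carrier := {x | x ∈ S ∧ x ∈ normalizer (N : Set G) ∧ ∀ y ∈ S, ⁅x, y⁆ ∈ N}
  one_mem' := ⟨one_mem _, one_mem _, fun y _ => by simp⟩
  mul_mem' := fun {x y} hx hy => ⟨mul_mem hx.1 hy.1, mul_mem hx.2.1 hy.2.1, fun z hz => by
    have h1 := mul_mem (CoprimeAction.conj_mem hx.2.1 (hy.2.2 z hz)) (hx.2.2 z hz)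
    simpa [commutatorElement_def, mul_assoc] using h1⟩
  inv_mem' := fun {x} hx => ⟨inv_mem hx.1, inv_mem hx.2.1, fun z hz => by
    have h1 := CoprimeAction.conj_mem' hx.2.1 (inv_mem (hx.2.2 z hz))
    simpa [commutatorElement_def, mul_assoc] using h1⟩

omit [Finite G] in
theorem upper_le (S N : Subgroup G) : upper S N ≤ S := fun _ hx => hx.1

theorem le_upper {S N : Subgroup G} (hNS : N ≤ S) (hSN : S ≤ normalizer (N : Set G)) :
    N ≤ upper S N := fun x hx => ⟨hNS hx, Subgroup.le_normalizer hx, fun y hy => by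
  have h1 := mul_mem hx (CoprimeAction.conj_mem (hSN hy) (inv_mem hx))
  simpa [commutatorElement_def, mul_assoc] using h1⟩

theorem le_normalizer_upper {B S N : Subgroup G} (hS : B ≤ normalizer (S : Set G))
    (hN : B ≤ normalizer (N : Set G)) : B ≤ normalizer (upper S N : Set G) := by
  refine SignalizerCoprime.le_normalizer_of_forall fun b hb x hx => ⟨?_, ?_, fun y hy => ?_⟩
  · exact CoprimeAction.conj_mem (hS hb) hx.1
  · exact mul_mem (mul_mem (hN hb) hx.2.1) (inv_mem (hN hb))
  · have h1 := CoprimeAction.conj_mem (hN hb) (hx.2.2 _ (CoprimeAction.conj_mem' (hS hb) hy))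
    simpa [commutatorElement_def, mul_assoc] using h1

theorem self_le_normalizer_upper {S N : Subgroup G} (hSN : S ≤ normalizer (N : Set G)) :
    S ≤ normalizer (upper S N : Set G) :=
  le_normalizer_upper Subgroup.le_normalizer hSN

theorem upper_not_le {S N : Subgroup G} [hS : Group.IsNilpotent S] (hSN : S ≤ normalizer (N : Set G))
    (hne : ¬ S ≤ N) : ¬ upper S N ≤ N := by
  classical
  obtain ⟨n, hn⟩ := (Subgroup.isNilpotent_iff_lowerCentralSeries (S := S)).1 hS
  intro hle
  have key : ∀ j ≤ n, S.lowerCentralSeries j ≤ N := by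
    intro j hj
    induction hm : n - j generalizing j with
    | zero =>
      rw [show j = n by omega, hn]
      exact bot_le
    | succ m ih =>
      intro x hx
      have h1 := ih (j + 1) (by omega) (by omega)
      have hxS : x ∈ S := (show S.lowerCentralSeries j ≤ S by
        clear hx h1 hm hj
        induction j with
        | zero => exact le_rfl
        | succ j ih' => exact (Subgroup.commutator_mono ih' le_rfl).trans (Subgroup.commutator_le_self S)) hx
      exact hle ⟨hxS, hSN hxS, fun y hy => h1 (Subgroup.commutator_mem_commutator hx hy)⟩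
  exact hne (key 0 (Nat.zero_le n))

variable {q : ℕ} {A K : Subgroup G}

/-- **(L)** for a subgroup of `C_K(k)`. -/
theorem centralizes (S : Minimal q A K) {p : ℕ} [Fact p.Prime] {V W : Subgroup G} {k a : G}
    (hk : k ∈ A) (hk1 : k ≠ 1) (ha : a ∈ A) (hak : a ∉ zpowers k) (hVK : V ≤ K)
    (hV : IsPGroup p V) (hVA : A ≤ normalizer (V : Set G)) (hWk : W ≤ cK K k)
    (hWA : A ≤ normalizer (W : Set G)) (hWV : W ≤ normalizer (V : Set G))
    (hcop : (Nat.card W).Coprime (Nat.card V))
    (hfix : V ⊓ centralizer ({a} : Set G) ≤ centralizer (W : Set G)) :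
    W ≤ centralizer (V : Set G) :=
  AbelCent88Act.centralizes S.prime hV (fun x hx y hy => S.abel k hk hk1 x (hWk hx) y (hWk hy))
    hWV hcop (S.pow_eq_one ha) (S.not_dvd hVK) (hVA ha) (hWA ha) (S.fpf hk hk1 ha hak hWk) hfix

/-- The trick: `Y` and `W` on the line `k`, `V = [V,W]`, `Y` centralises one other line of `V`. -/
theorem trick (S : Minimal q A K) {p : ℕ} [Fact p.Prime] {V W Y : Subgroup G} {k l : G}
    (hk : k ∈ A) (hk1 : k ≠ 1) (hl : l ∈ A) (hlk : l ∉ zpowers k) (hVK : V ≤ K)
    (hV : IsPGroup p V) (hVA : A ≤ normalizer (V : Set G)) (hWk : W ≤ cK K k)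
    (hWA : A ≤ normalizer (W : Set G)) (hWV : W ≤ normalizer (V : Set G))
    (hcop : (Nat.card W).Coprime (Nat.card V)) (hfull : V ≤ ⁅V, W⁆) (hYk : Y ≤ cK K k)
    (hfix : V ⊓ centralizer ({l} : Set G) ≤ centralizer (Y : Set G)) :
    V ≤ centralizer (Y : Set G) := by
  have h := AbelCent88Act.le_of_fixed (C := V ⊓ centralizer (Y : Set G)) S.prime hV
    (fun x hx y hy => S.abel k hk hk1 x (hWk hx) y (hWk hy)) hWV hcop (S.pow_eq_one hl)
    (S.not_dvd hVK) (hVA hl) (hWA hl) (S.fpf hk hk1 hl hlk hWk) inf_le_left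
    (CoprimeAction.le_normalizer_inf hWV
      ((S.commute_parts hk hk1 hYk hWk).trans Subgroup.le_normalizer))
    (le_inf inf_le_left hfix) hfull
  exact h.trans inf_le_right

/-- Product of the images under the powers of an automorphism. -/
theorem prod_fixed {M : Type*} [CommGroup M] (β : MulAut M) {n : ℕ} (h : β ^ n = 1) (v : M) :
    β (∏ i ∈ Finset.range n, (β ^ i) v) = ∏ i ∈ Finset.range n, (β ^ i) v := by
  have h2 : ∀ i, β ((β ^ i) v) = (β ^ (i + 1)) v := fun i => by rw [pow_succ']; rfl
  rw [map_prod]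
  simp only [h2]
  rcases n with _ | n
  · simp
  · rw [Finset.prod_range_succ, Finset.prod_range_succ' (fun i => (β ^ i) v) n, h, pow_zero]

/-- If the norms of `α β^i` (`i < q`) vanish on `v`, then `v^q` is fixed by `β`. -/
theorem pow_fixed {M : Type*} [CommGroup M] (α β : MulAut M) (hαβ : Commute α β) {q : ℕ}
    (hq : q.Prime) (hβ : β ^ q = 1) (v : M)
    (h : ∀ i < q, ∏ j ∈ Finset.range q, ((α * β ^ i) ^ j) v = 1) : β (v ^ q) = v ^ q := by
  let u : ℕ → M := fun j => ∏ i ∈ Finset.range q, ((β ^ j) ^ i) v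
  have hu : ∀ j ∈ Finset.range q, j ≠ 0 → β (u j) = u j := by
    intro j hj hj0
    have h1 : (β ^ j) (u j) = u j :=
      prod_fixed (β ^ j) (by rw [← pow_mul, mul_comm, pow_mul, hβ, one_pow]) v
    have hco : j.Coprime (orderOf β) := by
      refine Nat.Coprime.coprime_dvd_right (orderOf_dvd_of_pow_eq_one hβ) ?_
      refine ((Nat.Prime.coprime_iff_not_dvd hq).2 fun hd => ?_).symm
      have := Nat.le_of_dvd (Nat.pos_of_ne_zero hj0) hd
      have := Finset.mem_range.1 hj
      omega
    obtain ⟨m, hm⟩ := exists_pow_eq_self_of_coprime hco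
    have h2 : ∀ m : ℕ, ((β ^ j) ^ m) (u j) = u j := by
      intro m
      induction m with
      | zero => rfl
      | succ m ih => rw [pow_succ', MulAut.mul_apply, ih, h1]
    have h3 := h2 m
    rwa [hm] at h3
  have htot : ∏ j ∈ Finset.range q, (α ^ j) (u j) = 1 := by
    refine Eq.trans ?_ (Finset.prod_eq_one (s := Finset.range q) fun i hi =>
      h i (Finset.mem_range.1 hi))
    conv_lhs => simp only [u, map_prod]
    rw [Finset.prod_comm]
    refine Finset.prod_congr rfl fun i _ => Finset.prod_congr rfl fun j _ => ?_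
    rw [(hαβ.pow_right i).mul_pow, ← pow_mul, ← pow_mul, mul_comm j i, MulAut.mul_apply]
  rw [← Finset.mul_prod_erase _ _ (Finset.mem_range.2 hq.pos)] at htot
  have h0 : (α ^ 0) (u 0) = v ^ q := by simp [u]
  rw [h0, ← eq_inv_iff_mul_eq_one] at htot
  rw [htot, map_inv, map_prod]
  congr 1
  refine Finset.prod_congr rfl fun j hj => ?_
  obtain ⟨hj0, hj⟩ := Finset.mem_erase.1 hj
  have hc : β * α ^ j = α ^ j * β := (hαβ.symm.pow_right j).eq
  rw [← MulAut.mul_apply, hc, MulAut.mul_apply, hu j hj hj0]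

/-- **Lemma D**: a subgroup `W` of `C_K(k)` centralising the centre of `P` but not `P` forces
`Z(P)` to have fixed points on `k`. -/
theorem center_fixed_ne_bot (S : Minimal q A K) {p : ℕ} [hp : Fact p.Prime] {P W : Subgroup G}
    {k : G} (hk : k ∈ A) (hk1 : k ≠ 1) (hPK : P ≤ K) (hP : IsPGroup p P)
    (hPA : A ≤ normalizer (P : Set G)) (hWk : W ≤ cK K k) (hWA : A ≤ normalizer (W : Set G))
    (hWP : W ≤ normalizer (P : Set G)) (hcop : (Nat.card W).Coprime (Nat.card P))
    (hWZ : W ≤ centralizer ((P ⊓ centralizer (P : Set G) : Subgroup G) : Set G))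
    (hmov : ¬ W ≤ centralizer (P : Set G)) :
    P ⊓ centralizer (P : Set G) ⊓ centralizer ({k} : Set G) ≠ ⊥ := by
  classical
  have := hP.isNilpotent
  -- a maximal `W`-centralised normal subgroup
  letI := Fintype.ofFinite (Subgroup G)
  obtain ⟨D0, hD0, hmax⟩ := Finset.exists_max_image
    (Finset.univ.filter fun D : Subgroup G => D ≤ P ∧ P ≤ normalizer (D : Set G) ∧
      A ≤ normalizer (D : Set G) ∧ W ≤ normalizer (D : Set G) ∧ W ≤ centralizer (D : Set G))
    (fun D => Nat.card D)
    ⟨P ⊓ centralizer (P : Set G), by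
      simp only [Finset.mem_filter, Finset.mem_univ, true_and]
      exact ⟨inf_le_left, CoprimeAction.le_normalizer_inf Subgroup.le_normalizer
          (CoprimeAction.le_normalizer_centralizer_self P),
        CoprimeAction.le_normalizer_inf hPA (SignalizerCoprime.le_normalizer_centralizer hPA),
        CoprimeAction.le_normalizer_inf hWP (SignalizerCoprime.le_normalizer_centralizer hWP),
        hWZ⟩⟩
  simp only [Finset.mem_filter, Finset.mem_univ, true_and] at hD0
  obtain ⟨hD0P, hPD0, hAD0, hWD0, hWcD0⟩ := hD0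
  set Z := upper P D0 with hZ
  have hZP : Z ≤ P := upper_le P D0
  have hPnle : ¬ P ≤ D0 := fun h =>
    hmov (hWcD0.trans (Subgroup.centralizer_le (SetLike.coe_subset_coe.2 h)))
  have hZA : A ≤ normalizer (Z : Set G) := le_normalizer_upper hPA hAD0
  have hZW : W ≤ normalizer (Z : Set G) := le_normalizer_upper hWP hWD0
  have hZmov : ¬ W ≤ centralizer (Z : Set G) := by
    intro h
    have h1 := hmax Z (by
      simp only [Finset.mem_filter, Finset.mem_univ, true_and]
      exact ⟨hZP, self_le_normalizer_upper hPD0, hZA, hZW, h⟩)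
    exact upper_not_le hPD0 hPnle
      (Subgroup.eq_of_le_of_card_ge (le_upper hD0P hPD0) h1).ge
  have hD0W : ⁅D0, W⁆ = ⊥ := by
    rw [Subgroup.commutator_comm]
    exact Subgroup.commutator_eq_bot_iff_le_centralizer.2 hWcD0
  have hZPD : ⁅Z, P⁆ ≤ D0 := Subgroup.commutator_le.2 fun x hx y hy => hx.2.2 y hy
  have hcopZ : (Nat.card W).Coprime (Nat.card Z) :=
    hcop.coprime_dvd_right (Subgroup.card_dvd_of_le hZP)
  set T := ⁅Z, W⁆ with hT
  have hTZ : T ≤ Z := CoprimeAction.commutator_le_self_of_le_normalizer hZW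
  have hTP : T ≤ P := hTZ.trans hZP
  have hTW : W ≤ normalizer (T : Set G) := Subgroup.normalizer_commutator_ge_right Z W
  have hTA : A ≤ normalizer (T : Set G) := SignalizerCoprime.le_normalizer_commutator hZA hWA
  have hsolvZ := CoprimeAction.isSolvable_of_isPGroup (hP.to_le hZP)
  have hTfull : ⁅T, W⁆ = T := CoprimeAction.commutator_commutator_eq hZW hcopZ (Or.inr hsolvZ)
  set Q := ⁅P, W⁆ with hQ
  have hQP : Q ≤ P := CoprimeAction.commutator_le_self_of_le_normalizer hWP
  have hQA : A ≤ normalizer (Q : Set G) := SignalizerCoprime.le_normalizer_commutator hPA hWA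
  have hPQ : P ≤ normalizer (Q : Set G) := Subgroup.normalizer_commutator_ge_left P W
  set N := P ⊓ centralizer (W : Set G) with hN
  have hQD0 : ⁅Q, D0⁆ = ⊥ := by
    refine Subgroup.commutator_commutator_eq_bot_of_rotate ?_ ?_
    · rw [Subgroup.commutator_comm W D0, hD0W, Subgroup.commutator_bot_left]
    · exact eq_bot_iff.2 ((Subgroup.commutator_mono
        (Subgroup.le_normalizer_iff_commutator_le_left.1 hPD0) le_rfl).trans hD0W.le)
  have hTD0 : ⁅T, D0⁆ = ⊥ := by
    refine Subgroup.commutator_commutator_eq_bot_of_rotate ?_ ?_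
    · rw [Subgroup.commutator_comm W D0, hD0W, Subgroup.commutator_bot_left]
    · exact eq_bot_iff.2 ((Subgroup.commutator_mono
        (Subgroup.le_normalizer_iff_commutator_le_left.1 (hZP.trans hPD0)) le_rfl).trans hD0W.le)
  have hTN : ⁅T, N⁆ = ⊥ := by
    refine Subgroup.commutator_commutator_eq_bot_of_rotate ?_ ?_
    · rw [Subgroup.commutator_comm W N, Subgroup.commutator_eq_bot_iff_le_centralizer.2
        (inf_le_right : N ≤ centralizer (W : Set G)), Subgroup.commutator_bot_left]
    · refine eq_bot_iff.2 ((Subgroup.commutator_mono ?_ le_rfl).trans hD0W.le)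
      rw [Subgroup.commutator_comm]
      exact (Subgroup.commutator_mono le_rfl inf_le_left).trans hZPD
  have hTcN : T ≤ centralizer (N : Set G) := Subgroup.commutator_eq_bot_iff_le_centralizer.1 hTN
  set E := ⁅T, Q⁆ with hE
  have hED0 : E ≤ D0 := (Subgroup.commutator_mono hTZ hQP).trans hZPD
  have hEQ : E ≤ Q := Subgroup.le_normalizer_iff_commutator_le_right.1 (hTP.trans hPQ)
  have hQcD0 : Q ≤ centralizer (D0 : Set G) :=
    Subgroup.commutator_eq_bot_iff_le_centralizer.1 hQD0
  have hTcD0 : T ≤ centralizer (D0 : Set G) :=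
    Subgroup.commutator_eq_bot_iff_le_centralizer.1 hTD0
  have hEne : E ≠ ⊥ := by
    intro h
    have h1 : T ≤ centralizer (P : Set G) := by
      rw [← CoprimeAction.commutator_sup_centralizer_eq hWP hcop
        (Or.inr (CoprimeAction.isSolvable_of_isPGroup hP)), Subgroup.le_centralizer_iff]
      exact sup_le (Subgroup.le_centralizer_iff.1 (Subgroup.commutator_eq_bot_iff_le_centralizer.1 h))
        (Subgroup.le_centralizer_iff.1 hTcN)
    have h2 : W ≤ centralizer (T : Set G) :=
      hWZ.trans (Subgroup.centralizer_le (SetLike.coe_subset_coe.2 (le_inf hTP h1)))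
    have h3 : ⁅T, W⁆ = ⊥ := by
      rw [Subgroup.commutator_comm]
      exact Subgroup.commutator_eq_bot_iff_le_centralizer.2 h2
    exact hZmov (Subgroup.le_centralizer_iff.1
      (Subgroup.commutator_eq_bot_iff_le_centralizer.1 (hTfull.symm.trans h3)))
  have hPE : P ≤ normalizer (E : Set G) := by
    rw [← CoprimeAction.commutator_sup_centralizer_eq hWP hcop
      (Or.inr (CoprimeAction.isSolvable_of_isPGroup hP))]
    refine sup_le ?_ (SignalizerCoprime.le_normalizer_commutator ?_ (inf_le_left.trans hPQ))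
    · exact (hQcD0.trans (Subgroup.centralizer_le (SetLike.coe_subset_coe.2 hED0))).trans
        (Subgroup.centralizer_le_normalizer _)
    · exact (Subgroup.le_centralizer_iff.1 hTcN).trans (Subgroup.centralizer_le_normalizer _)
  have hEA : A ≤ normalizer (E : Set G) := SignalizerCoprime.le_normalizer_commutator hTA hQA
  letI hEcomm : CommGroup E := { (inferInstance : Group E) with
    mul_comm := fun x y => Subtype.ext
      (Subgroup.mem_centralizer_iff.1 (hQcD0 (hEQ x.2)) y (hED0 y.2)).symm }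
  -- the norms vanish
  let nu : A → MulAut E := fun n => E.normalizerMonoidHom ⟨n, hEA n.2⟩
  have hnu : ∀ (n : A) (i : ℕ) (e : E), (((nu n) ^ i) e : G) = (n : G) ^ i * e * ((n : G) ^ i)⁻¹ := by
    intro n i e
    change (((E.normalizerMonoidHom ⟨n, hEA n.2⟩) ^ i) e : G) = _
    rw [← map_pow]
    rfl
  have hkill : ∀ n : A, (n : G) ∉ zpowers k → ∀ e : E,
      ∏ i ∈ Finset.range q, ((nu n) ^ i) e = 1 := by
    intro n hnk
    let π : E →* E :=
      { toFun := fun e => ∏ i ∈ Finset.range q, ((nu n) ^ i) e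
        map_one' := Finset.prod_eq_one fun i _ => map_one _
        map_mul' := fun x y => by
          rw [← Finset.prod_mul_distrib]
          exact Finset.prod_congr rfl fun i _ => map_mul _ _ _ }
    have hn1 : (n : G) ≠ 1 := fun h => hnk (h ▸ one_mem _)
    let f : T → Q →* E := fun t =>
      { toFun := fun g => ⟨⁅(t : G), (g : G)⁆, Subgroup.commutator_mem_commutator t.2 g.2⟩
        map_one' := Subtype.ext (by simp)
        map_mul' := fun g h => by
          apply Subtype.ext
          change ⁅(t : G), (g : G) * h⁆ = ⁅(t : G), (g : G)⁆ * ⁅(t : G), (h : G)⁆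
          have hc : (g : G) * ⁅(t : G), (h : G)⁆ = ⁅(t : G), (h : G)⁆ * g :=
            (Subgroup.mem_centralizer_iff.1 (hQcD0 g.2) _
              (hED0 (Subgroup.commutator_mem_commutator t.2 h.2))).symm
          calc ⁅(t : G), (g : G) * h⁆ = ⁅(t : G), (g : G)⁆ * ((g : G) * ⁅(t : G), (h : G)⁆) * (g : G)⁻¹ := by
                simp [commutatorElement_def, mul_assoc]
            _ = _ := by rw [hc]; group }
    let R : Subgroup G :=
      { carrier := {t | ∃ ht : t ∈ T, ∀ g : Q, π (f ⟨t, ht⟩ g) = 1}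
        one_mem' := ⟨one_mem _, fun g => by
          rw [show f ⟨1, one_mem T⟩ g = 1 from Subtype.ext (commutatorElement_one_left (g : G)),
            map_one]⟩
        mul_mem' := fun {s t} => by
          rintro ⟨hs, hs'⟩ ⟨ht, ht'⟩
          refine ⟨mul_mem hs ht, fun g => ?_⟩
          have : f ⟨s * t, mul_mem hs ht⟩ g = f ⟨t, ht⟩ g * f ⟨s, hs⟩ g := by
            apply Subtype.ext
            change ⁅s * t, (g : G)⁆ = ⁅t, (g : G)⁆ * ⁅s, (g : G)⁆
            have hc : s * ⁅t, (g : G)⁆ = ⁅t, (g : G)⁆ * s :=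
              (Subgroup.mem_centralizer_iff.1 (hTcD0 hs) _
                (hED0 (Subgroup.commutator_mem_commutator ht g.2))).symm
            calc ⁅s * t, (g : G)⁆ = s * ⁅t, (g : G)⁆ * s⁻¹ * ⁅s, (g : G)⁆ := by
                  simp [commutatorElement_def, mul_assoc]
              _ = _ := by rw [hc]; group
          rw [this, map_mul, ht' g, hs' g, one_mul]
        inv_mem' := fun {t} => by
          rintro ⟨ht, ht'⟩
          refine ⟨inv_mem ht, fun g => ?_⟩
          have : f ⟨t⁻¹, inv_mem ht⟩ g = (f ⟨t, ht⟩ g)⁻¹ := by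
            apply Subtype.ext
            change ⁅t⁻¹, (g : G)⁆ = ⁅t, (g : G)⁆⁻¹
            have hc : t⁻¹ * ⁅t, (g : G)⁆⁻¹ = ⁅t, (g : G)⁆⁻¹ * t⁻¹ :=
              (Subgroup.mem_centralizer_iff.1 (hTcD0 (inv_mem ht)) _
                (inv_mem (hED0 (Subgroup.commutator_mem_commutator ht g.2)))).symm
            calc ⁅t⁻¹, (g : G)⁆ = t⁻¹ * ⁅t, (g : G)⁆⁻¹ * t := by
                  simp [commutatorElement_def, mul_assoc]
              _ = _ := by rw [hc]; group
          rw [this, map_inv, ht' g, inv_one] }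
    have hRT : R ≤ T := fun t ht => ht.1
    have hRW : W ≤ normalizer (R : Set G) := by
      refine SignalizerCoprime.le_normalizer_of_forall fun w hw t ht => ?_
      obtain ⟨ht, ht'⟩ := ht
      refine ⟨CoprimeAction.conj_mem (hTW hw) ht, fun g => ?_⟩
      have hwQ : w⁻¹ * (g : G) * w ∈ Q :=
        CoprimeAction.conj_mem' (Subgroup.normalizer_commutator_ge_right P W hw) g.2
      rw [show f ⟨w * t * w⁻¹, CoprimeAction.conj_mem (hTW hw) ht⟩ g = f ⟨t, ht⟩ ⟨_, hwQ⟩ from
        Subtype.ext (by
          change ⁅w * t * w⁻¹, (g : G)⁆ = ⁅t, w⁻¹ * (g : G) * w⁆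
          have hc : w * ⁅t, w⁻¹ * (g : G) * w⁆ = ⁅t, w⁻¹ * (g : G) * w⁆ * w :=
            (Subgroup.mem_centralizer_iff.1 (hWcD0 hw) _
              (hED0 (Subgroup.commutator_mem_commutator ht hwQ))).symm
          calc ⁅w * t * w⁻¹, (g : G)⁆ = w * ⁅t, w⁻¹ * (g : G) * w⁆ * w⁻¹ := by
                simp [commutatorElement_def, mul_assoc]
            _ = _ := by rw [hc, mul_inv_cancel_right])]
      exact ht' _
    have hRn : T ⊓ centralizer ({(n : G)} : Set G) ≤ R := by
      rintro t ⟨ht, htn⟩
      refine ⟨ht, fun g => ?_⟩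
      have hnQ : (n : G) ∈ normalizer (Q : Set G) := hQA n.2
      set ψ := Q.normalizerMonoidHom ⟨n, hnQ⟩ with hψ
      have hψi : ∀ (i : ℕ) (g : Q), ((ψ ^ i) g : G) = (n : G) ^ i * g * ((n : G) ^ i)⁻¹ := by
        intro i g
        rw [hψ, ← map_pow]
        rfl
      have hequiv : ∀ i : ℕ, ((nu n) ^ i) (f ⟨t, ht⟩ g) = f ⟨t, ht⟩ ((ψ ^ i) g) := by
        intro i
        apply Subtype.ext
        rw [hnu]
        change (n : G) ^ i * ⁅t, (g : G)⁆ * ((n : G) ^ i)⁻¹ = ⁅t, (((ψ ^ i) g : Q) : G)⁆
        rw [hψi]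
        have hc : Commute ((n : G) ^ i) t :=
          (show Commute (n : G) t from mem_centralizer_singleton.1 htn).pow_left i
        calc (n : G) ^ i * ⁅t, (g : G)⁆ * ((n : G) ^ i)⁻¹
            = ⁅(n : G) ^ i * t * ((n : G) ^ i)⁻¹, (n : G) ^ i * g * ((n : G) ^ i)⁻¹⁆ := by
              simp [commutatorElement_def, mul_assoc]
          _ = _ := by rw [hc.eq, mul_inv_cancel_right]
      let F : Abelianization Q →* E := Abelianization.lift (f ⟨t, ht⟩)
      have hF : ∀ x : Q, F (Abelianization.of x) = f ⟨t, ht⟩ x := fun x =>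
        Abelianization.lift_apply_of _ x
      set u : Abelianization Q := ∏ i ∈ Finset.range q, Abelianization.of ((ψ ^ i) g)
      have hπu : π (f ⟨t, ht⟩ g) = F u := by
        change ∏ i ∈ Finset.range q, ((nu n) ^ i) (f ⟨t, ht⟩ g) = _
        rw [map_prod]
        exact Finset.prod_congr rfl fun i _ => by rw [hequiv, hF]
      have hufix : AbelCent88Act.abAct Q ⟨n, hnQ⟩ (Additive.ofMul u) = Additive.ofMul u := by
        let γ : MulAut (Abelianization Q) := MulEquiv.ofBijective (Abelianization.map ψ.toMonoidHom)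
          (Finite.injective_iff_bijective.1 (Finite.injective_iff_surjective.2 fun y => by
            obtain ⟨x, hx⟩ := QuotientGroup.mk_surjective y
            refine ⟨Abelianization.of (ψ.symm x), ?_⟩
            rw [Abelianization.map_of, ← hx]
            exact congrArg _ (ψ.apply_symm_apply x)))
        change Additive.ofMul (Abelianization.map ψ.toMonoidHom u) = Additive.ofMul u
        congr 1
        have hγi : ∀ i : ℕ, Abelianization.of ((ψ ^ i) g) = (γ ^ i) (Abelianization.of g) := by
          intro i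
          induction i with
          | zero => rfl
          | succ i ih =>
            rw [pow_succ', pow_succ', MulAut.mul_apply, MulAut.mul_apply, ← ih]
            exact (Abelianization.map_of (f := ψ.toMonoidHom) ((ψ ^ i) g)).symm
        have hγ : (γ ^ q) (Abelianization.of g) = Abelianization.of g := by
          rw [← hγi, hψ, ← map_pow,
            show (⟨(n : G), hnQ⟩ : normalizer (Q : Set G)) ^ q = 1 from
              Subtype.ext (S.pow_eq_one n.2), map_one]
          rfl
        simp only [u, hγi]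
        rw [map_prod]
        have h2 : ∀ i, Abelianization.map ψ.toMonoidHom ((γ ^ i) (Abelianization.of g)) =
            (γ ^ (i + 1)) (Abelianization.of g) := fun i => by rw [pow_succ']; rfl
        simp only [h2]
        obtain ⟨q', hq'⟩ : ∃ q', q = q' + 1 := ⟨q - 1, by have := S.prime.pos; omega⟩
        rw [hq'] at hγ ⊢
        rw [Finset.prod_range_succ, Finset.prod_range_succ' (fun i => (γ ^ i) (Abelianization.of g)) q',
          hγ, pow_zero]
        rfl
      obtain ⟨c, hc, hcu⟩ := AbelCent88Act.exists_fixed_rep (⟨n, hnQ⟩ : normalizer (Q : Set G))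
        ((S.coprime (hQP.trans hPK)).coprime_dvd_left (Subgroup.orderOf_dvd_natCard _ n.2)) hufix
      have hcu' : Abelianization.of c = u := congrArg Additive.toMul hcu
      rw [hπu, ← hcu', hF]
      refine Subtype.ext (commutatorElement_eq_one_iff_mul_comm.2 ?_)
      exact S.abel n n.2 hn1 t ⟨hPK (hTP ht), htn⟩ c
        ⟨hPK (hQP c.2), mem_centralizer_singleton.2 hc⟩
    have hTR : T ≤ R := AbelCent88Act.le_of_fixed (a := (n : G)) S.prime (hP.to_le hTP)
      (fun x hx y hy => S.abel k hk hk1 x (hWk hx) y (hWk hy)) hTW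
      (hcop.coprime_dvd_right (Subgroup.card_dvd_of_le hTP)) (S.pow_eq_one n.2)
      (S.not_dvd (hTP.trans hPK)) (hTA n.2) (hWA n.2) (S.fpf hk hk1 n.2 hnk hWk) hRT hRW hRn
      hTfull.ge
    have hker : E ≤ π.ker.map E.subtype := by
      refine Subgroup.commutator_le.2 fun t ht g hg => ?_
      obtain ⟨_, h'⟩ := hTR ht
      exact ⟨f ⟨t, ht⟩ ⟨g, hg⟩, h' ⟨g, hg⟩, rfl⟩
    intro e
    obtain ⟨e', he', hee⟩ := hker e.2
    obtain rfl : e' = e := Subtype.ext hee
    exact he'
  obtain ⟨b, hb, hbk⟩ := S.exists_not_mem hk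
  have hEk : E ≤ centralizer ({k} : Set G) := by
    intro x hx
    set e : E := ⟨x, hx⟩
    have hcomm : Commute (nu ⟨b, hb⟩) (nu ⟨k, hk⟩) := by
      change _ * _ = _ * _
      change E.normalizerMonoidHom _ * E.normalizerMonoidHom _ =
        E.normalizerMonoidHom _ * E.normalizerMonoidHom _
      rw [← map_mul, ← map_mul]
      congr 1
      exact Subtype.ext (S.commA hb hk)
    have hkq : nu ⟨k, hk⟩ ^ q = 1 := by
      change E.normalizerMonoidHom _ ^ q = 1
      rw [← map_pow, show (⟨k, hEA hk⟩ : normalizer (E : Set G)) ^ q = 1 from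
        Subtype.ext (S.pow_eq_one hk), map_one]
    have h := pow_fixed (nu ⟨b, hb⟩) (nu ⟨k, hk⟩) hcomm S.prime hkq e (fun i _ => by
      have hne : b * k ^ i ∉ zpowers k := fun h => hbk (by
        simpa using mul_mem h (inv_mem (pow_mem (Subgroup.mem_zpowers k) i)))
      have heq : nu ⟨b, hb⟩ * nu ⟨k, hk⟩ ^ i = nu ⟨b * k ^ i, mul_mem hb (pow_mem hk i)⟩ := by
        change E.normalizerMonoidHom _ * E.normalizerMonoidHom _ ^ i = E.normalizerMonoidHom _
        rw [← map_pow, ← map_mul]
        rfl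
      rw [heq]
      exact hkill ⟨b * k ^ i, mul_mem hb (pow_mem hk i)⟩ hne e)
    have h1 : k * x ^ q * k⁻¹ = x ^ q := congrArg Subtype.val h
    obtain ⟨m, hm⟩ := exists_pow_eq_self_of_coprime (x := x) (n := q)
      (((Nat.Prime.coprime_iff_not_dvd S.prime).2
        (S.not_dvd ((hED0.trans hD0P).trans hPK))).coprime_dvd_right
          (Subgroup.orderOf_dvd_natCard _ hx))
    have h2 : Commute k ((x ^ q) ^ m) :=
      (show Commute k (x ^ q) from mul_inv_eq_iff_eq_mul.1 h1).pow_right m
    rw [hm] at h2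
    exact mem_centralizer_singleton.2 h2
  intro hbot
  refine inf_centralizer_ne_bot (hED0.trans hD0P) hPE hEne (le_bot_iff.1 (le_trans ?_ hbot.le))
  exact le_inf (le_inf (inf_le_left.trans (hED0.trans hD0P)) inf_le_right) (inf_le_left.trans hEk)

end Cfsg.Agent.AbelCent88Tools
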