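import Mathlib
import Cfsg.Agent.Lib.AbelCent88Tools
import Cfsg.Agent.Lib.GlaubermanPComplement

/-!
No minimal counterexample exists.
-/

set_option autoImplicit false

namespace Cfsg.Agent.AbelCent88Main

open Cfsg.Agent
open Cfsg.Agent.AbelCent88Basic
open Cfsg.Agent.AbelCent88Maximal
open scoped commutatorElement Pointwise
open Subgroup (centralizer normalizer zpowers)

variable {G : Type*} [Group G] [Finite G] {q : ℕ} {A K : Subgroup G}

/-- The part of the invariant Sylow `t`-subgroup of `M` on the line of `k`. -/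
abbrev part (A M : Subgroup G) (t : ℕ) (k : G) : Subgroup G :=
  isyl A t M ⊓ centralizer ({k} : Set G)

/-- A `p'`-part of `M` moves `O_p(M)`. -/
def Moving (A M : Subgroup G) (p : ℕ) : Prop :=
  ∃ t : ℕ, t.Prime ∧ t ≠ p ∧ ∃ k ∈ A, k ≠ 1 ∧ ¬ part A M t k ≤ centralizer (oo p M : Set G)

theorem Moving.oo_ne_bot {M : Subgroup G} {p : ℕ} (h : Moving A M p) : oo p M ≠ ⊥ := by
  obtain ⟨t, -, -, k, -, -, hk⟩ := h
  intro he
  refine hk fun x _ => ?_
  rw [Subgroup.mem_centralizer_iff]
  intro y hy
  rw [show y = 1 from Subgroup.mem_bot.1 (he ▸ hy), one_mul, mul_one]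

omit [Finite G] in
/-- If `X` normalises `T`, `Y ≤ T` normalises `X' ≥ X`, and `X' ∩ T = 1`, then `Y` centralises
`X`. -/
theorem centralizes_of_inter {X X' Y T : Subgroup G} (hXT : X ≤ normalizer (T : Set G))
    (hXX : X ≤ X') (hYT : Y ≤ T) (hYX : Y ≤ normalizer (X' : Set G)) (hdisj : X' ⊓ T = ⊥) :
    Y ≤ centralizer (X : Set G) := by
  rw [← Subgroup.commutator_eq_bot_iff_le_centralizer, eq_bot_iff, ← hdisj,
    Subgroup.commutator_comm]
  exact le_inf ((Subgroup.commutator_mono hXX le_rfl).trans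
      (Subgroup.le_normalizer_iff_commutator_le_left.1 hYX))
    ((Subgroup.commutator_mono le_rfl hYT).trans
      (Subgroup.le_normalizer_iff_commutator_le_right.1 hXT))

theorem disjoint_pGroups {p s : ℕ} [Fact p.Prime] [Fact s.Prime] (h : p ≠ s) {X T : Subgroup G}
    (hX : IsPGroup p X) (hT : IsPGroup s T) : X ⊓ T = ⊥ :=
  (IsPGroup.disjoint_of_ne p s h _ _ hX hT).eq_bot

variable (S : Minimal q A K) {M : Subgroup G} (hM : IsMax A K M) {p : ℕ} [hp : Fact p.Prime]

include S hM

theorem part_le {t : ℕ} {k : G} : part A M t k ≤ cK K k :=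
  inf_le_inf_right _ (isyl_le.trans hM.le)

omit hp in
theorem inv_part {t : ℕ} [Fact t.Prime] {k : G} (hk : k ∈ A) :
    A ≤ normalizer (part A M t k : Set G) :=
  S.inv_inf_centralizer hk (S.inv_isyl hM.le hM.norm)

omit hp in
theorem part_isPGroup {t : ℕ} [Fact t.Prime] {k : G} : IsPGroup t (part A M t k) :=
  (S.isPGroup_isyl hM.le hM.norm).to_le inf_le_left

theorem part_normalizes {t : ℕ} {k : G} : part A M t k ≤ normalizer (oo p M : Set G) :=
  (inf_le_left.trans isyl_le).trans (Subgroup.le_normalizer.trans (normalizer_le_oo p M))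

theorem part_coprime {t : ℕ} [Fact t.Prime] (htp : t ≠ p) {k : G} :
    (Nat.card (part A M t k)).Coprime (Nat.card (oo p M)) :=
  coprime_card_of_ne htp (part_isPGroup S hM) (isPGroup_oo p M)

omit hp in
/-- A line meeting a subgroup central in `M` has its `C_K(i)` in `M`. -/
theorem line_of_central {X : Subgroup G} (hXM : X ≤ M) (hXA : A ≤ normalizer (X : Set G))
    (hXc : X ≤ centralizer (M : Set G)) {i : G} (hi : i ∈ A) (hi1 : i ≠ 1)
    (hne : X ⊓ centralizer ({i} : Set G) ≠ ⊥) :
    cK K i ≤ M ∧ K ⊓ centralizer ((X ⊓ centralizer ({i} : Set G) : Subgroup G) : Set G) ≤ M := by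
  have hinv := S.inv_inf_centralizer hi hXA
  have hle : M ≤ centralizer ((X ⊓ centralizer ({i} : Set G) : Subgroup G) : Set G) :=
    Subgroup.le_centralizer_iff.1 (inf_le_left.trans hXc)
  have h2 := hM.centralizer_le S (inf_le_left.trans hXM) hinv hne
    (hle.trans (Subgroup.centralizer_le_normalizer _))
  refine ⟨le_trans (le_inf inf_le_left ?_) h2, h2⟩
  exact S.commute_parts hi hi1 (le_inf (inf_le_left.trans (hXM.trans hM.le)) inf_le_right) le_rfl

/-- Step 1: `O_p(M) ∩ Z(M) ≠ 1`. -/
theorem central_ne_bot (hmov : Moving A M p) :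
    oo p M ⊓ centralizer (M : Set G) ≠ ⊥ := by
  classical
  have hPne := hmov.oo_ne_bot
  set P := oo p M with hP
  intro hX
  have hPp := isPGroup_oo p M
  have hPA : A ≤ normalizer (P : Set G) := hM.norm.trans (normalizer_le_oo p M)
  have hMP : M ≤ normalizer (P : Set G) := Subgroup.le_normalizer.trans (normalizer_le_oo p M)
  have hPK : P ≤ K := (oo_le p M).trans hM.le
  have := hPp.isNilpotent
  letI := Fintype.ofFinite (Subgroup G)
  obtain ⟨B, hB, hBmin⟩ := Finset.exists_min_image
    (Finset.univ.filter fun B : Subgroup G => B ≤ P ∧ B ≤ centralizer (P : Set G) ∧ B ≠ ⊥ ∧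
      A ≤ normalizer (B : Set G) ∧ M ≤ normalizer (B : Set G))
    (fun B => Nat.card B)
    ⟨P ⊓ centralizer (P : Set G), by
      simp only [Finset.mem_filter, Finset.mem_univ, true_and]
      exact ⟨inf_le_left, inf_le_right,
        AbelCent88Tools.inf_centralizer_ne_bot le_rfl Subgroup.le_normalizer hPne,
        CoprimeAction.le_normalizer_inf hPA (SignalizerCoprime.le_normalizer_centralizer hPA),
        CoprimeAction.le_normalizer_inf hMP (SignalizerCoprime.le_normalizer_centralizer hMP)⟩⟩
  simp only [Finset.mem_filter, Finset.mem_univ, true_and] at hB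
  obtain ⟨hBP, hBcP, hBne, hBA, hMB⟩ := hB
  have hBK : B ≤ K := hBP.trans hPK
  have hBp : IsPGroup p B := hPp.to_le hBP
  have hPcB : P ≤ centralizer (B : Set G) := Subgroup.le_centralizer_iff.1 hBcP
  have hffP : ff p M ≤ centralizer (P : Set G) :=
    iSup_le fun s => have := Fact.mk s.2.1; oo_centralizes (Ne.symm s.2.2) M
  have hfitB : fit M ≤ centralizer (B : Set G) := (fit_le_sup p M).trans
    (sup_le hPcB (hffP.trans (Subgroup.centralizer_le (SetLike.coe_subset_coe.2 hBP))))
  by_cases hcent : ∀ t, t.Prime → t ≠ p → isyl A t M ≤ centralizer (B : Set G)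
  · -- a fixed point in `B`
    have hSp := S.isPGroup_isyl hM.le hM.norm (t := p)
    have := hSp.isNilpotent
    have hBS : B ≤ isyl A p M := le_isyl (hBP.trans (oo_le p M)) hBp hBA
    refine AbelCent88Tools.inf_centralizer_ne_bot hBS (isyl_le.trans hMB) hBne
      (le_bot_iff.1 (le_trans (le_inf (inf_le_left.trans hBP) ?_) hX.le))
    refine Subgroup.le_centralizer_iff.1 (S.le_of_isyl_le hM.le hM.norm fun t ht => ?_)
    by_cases htp : t = p
    · subst htp
      exact Subgroup.le_centralizer_iff.1 inf_le_right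
    · exact (hcent t ht htp).trans (Subgroup.centralizer_le (SetLike.coe_subset_coe.2 inf_le_left))
  push Not at hcent
  obtain ⟨t, ht, htp, hmovB⟩ := hcent
  have := Fact.mk ht
  set R := isyl A t M
  have hRp := S.isPGroup_isyl hM.le hM.norm (t := t)
  have := hRp.isNilpotent
  have hRA := S.inv_isyl hM.le hM.norm (t := t)
  have hCA : A ≤ normalizer ((centralizer (B : Set G) : Subgroup G) : Set G) :=
    SignalizerCoprime.le_normalizer_centralizer hBA
  have hRC : R ≤ normalizer ((centralizer (B : Set G) : Subgroup G) : Set G) :=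
    SignalizerCoprime.le_normalizer_centralizer (isyl_le.trans hMB)
  set Z := AbelCent88Tools.upper R (centralizer (B : Set G))
  have hZR : Z ≤ R := AbelCent88Tools.upper_le _ _
  have hZK : Z ≤ K := hZR.trans (isyl_le.trans hM.le)
  have hZA : A ≤ normalizer (Z : Set G) := AbelCent88Tools.le_normalizer_upper hRA hCA
  obtain ⟨k, hk, hk1, hkW⟩ : ∃ k ∈ A, k ≠ 1 ∧
      ¬ Z ⊓ centralizer ({k} : Set G) ≤ centralizer (B : Set G) := by
    by_contra hcon
    push Not at hcon
    exact AbelCent88Tools.upper_not_le hRC hmovB (S.le_of_parts hZK hZA hcon)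
  set W := Z ⊓ centralizer ({k} : Set G)
  have hWK : W ≤ cK K k := inf_le_inf_right _ hZK
  have hWA : A ≤ normalizer (W : Set G) := S.inv_inf_centralizer hk hZA
  have hWM : W ≤ M := inf_le_left.trans (hZR.trans isyl_le)
  have hWB : W ≤ normalizer (B : Set G) := hWM.trans hMB
  have hcopB : (Nat.card W).Coprime (Nat.card B) :=
    coprime_card_of_ne htp (hRp.to_le (inf_le_left.trans hZR)) hBp
  -- `C_B(W)` is trivial
  have hCBW : B ⊓ centralizer (W : Set G) = ⊥ := by
    by_contra hne
    have hMC : M ≤ normalizer ((B ⊓ centralizer (W : Set G) : Subgroup G) : Set G) := by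
      refine S.le_of_isyl_le hM.le hM.norm fun r hr => ?_
      have := Fact.mk hr
      refine SignalizerCoprime.le_normalizer_of_forall fun g hg x hx => ?_
      refine ⟨CoprimeAction.conj_mem (hMB (isyl_le hg)) hx.1, ?_⟩
      change g * x * g⁻¹ ∈ centralizer (W : Set G)
      rw [Subgroup.mem_centralizer_iff]
      intro w hw
      have hc : ⁅w⁻¹, g⁻¹⁆ ∈ centralizer (B : Set G) := by
        by_cases hrt : r = t
        · subst hrt
          exact (inv_mem hw.1 : w⁻¹ ∈ Z).2.2 _ (inv_mem hg)
        · exact hfitB (AbelCent88Height.commutator_isyl_le_fit S hM.le hM.ne hM.norm (Ne.symm hrt)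
            (Subgroup.commutator_mem_commutator (inv_mem (hZR hw.1)) (inv_mem hg)))
      have h1 : Commute x ⁅w⁻¹, g⁻¹⁆ := Subgroup.mem_centralizer_iff.1 hc x hx.1
      have h2 : Commute w x := Subgroup.mem_centralizer_iff.1 hx.2 w hw
      have h3 : g⁻¹ * w * g = w * ⁅w⁻¹, g⁻¹⁆ := by
        simp [commutatorElement_def, mul_assoc]
      have h4 : Commute (g⁻¹ * w * g) x := h3 ▸ h2.mul_left h1.symm
      calc w * (g * x * g⁻¹) = g * ((g⁻¹ * w * g) * x) * g⁻¹ := by group
        _ = g * (x * (g⁻¹ * w * g)) * g⁻¹ := by rw [h4.eq]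
        _ = g * x * g⁻¹ * w := by group
    have h5 := hBmin (B ⊓ centralizer (W : Set G)) (by
      simp only [Finset.mem_filter, Finset.mem_univ, true_and]
      exact ⟨inf_le_left.trans hBP, inf_le_left.trans hBcP, hne,
        CoprimeAction.le_normalizer_inf hBA (SignalizerCoprime.le_normalizer_centralizer hWA), hMC⟩)
    exact hkW (Subgroup.le_centralizer_iff.1
      (inf_eq_left.1 (Subgroup.eq_of_le_of_card_ge inf_le_left h5)))
  have hfull : B ≤ ⁅B, W⁆ := by
    have h := CoprimeAction.commutator_sup_centralizer_eq hWB hcopB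
      (Or.inr (CoprimeAction.isSolvable_of_isPGroup hBp))
    rw [hCBW, sup_bot_eq] at h
    exact h.ge
  have hBk : B ⊓ centralizer ({k} : Set G) = ⊥ := by
    rw [eq_bot_iff, ← hCBW]
    exact le_inf inf_le_left (Subgroup.le_centralizer_iff.1
      (S.commute_parts hk hk1 (le_inf (inf_le_left.trans hBK) inf_le_right) hWK))
  refine not_almost S hM.le hM.ne hM.norm hk hk1 fun l hl hlk => ?_
  have hl1 : l ≠ 1 := Setting.ne_one_of_not_mem hlk
  set Bl := B ⊓ centralizer ({l} : Set G)
  have hBlA : A ≤ normalizer (Bl : Set G) := S.inv_inf_centralizer hl hBA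
  have hBlne : Bl ≠ ⊥ := fun h => hkW (AbelCent88Tools.centralizes S hk hk1 hl hlk hBK hBp hBA hWK
    hWA hWB hcopB (h.le.trans bot_le))
  set H := K ⊓ centralizer (Bl : Set G)
  have hHA : A ≤ normalizer (H : Set G) :=
    CoprimeAction.le_normalizer_inf S.norm (SignalizerCoprime.le_normalizer_centralizer hBlA)
  have hlH : cK K l ≤ H :=
    le_inf inf_le_left (S.commute_parts hl hl1 (inf_le_inf_right _ hBK) le_rfl)
  refine hlH.trans (le_max_of_centralizes S hM hPne inf_le_left
    (S.centralizer_proper (inf_le_left.trans hBK) hBlne) hHA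
    (le_inf hPK (hPcB.trans (Subgroup.centralizer_le (SetLike.coe_subset_coe.2 inf_le_left))))
    (le_inf ((ff_le p M).trans hM.le) (hffP.trans (Subgroup.centralizer_le
      (SetLike.coe_subset_coe.2 (inf_le_left.trans hBP))))) fun s hs hsp => ?_)
  have := Fact.mk hs
  set T := oo s H
  have hTK : T ≤ K := (oo_le s H).trans inf_le_left
  have hTA : A ≤ normalizer (T : Set G) := hHA.trans (normalizer_le_oo s H)
  have hBH : B ≤ H := le_inf hBK
    ((hBP.trans hPcB).trans (Subgroup.centralizer_le (SetLike.coe_subset_coe.2 inf_le_left)))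
  have hBT : B ≤ normalizer (T : Set G) :=
    hBH.trans (Subgroup.le_normalizer.trans (normalizer_le_oo s H))
  have hBcT : B ≤ centralizer ((T ⊓ centralizer ({k} : Set G) : Subgroup G) : Set G) :=
    AbelCent88Tools.trick S hk hk1 hl hlk hBK hBp hBA hWK hWA hWB hcopB hfull
      (inf_le_inf_right _ hTK)
      (Subgroup.le_centralizer_iff.1 (inf_le_left.trans ((oo_le s H).trans inf_le_right)))
  have hBcT2 : B ≤ centralizer (T : Set G) := by
    refine S.le_of_parts hBK hBA fun m hm hm1 => ?_
    by_cases hmk : m ∈ zpowers k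
    · rw [S.centralizer_eq hk hm1 hmk, hBk]
      exact bot_le
    exact AbelCent88Tools.centralizes S hm hm1 hk (S.not_mem_symm hm hk1 hmk) hTK (isPGroup_oo s H)
      hTA (inf_le_inf_right _ hBK) (S.inv_inf_centralizer hm hBA) (inf_le_left.trans hBT)
      (coprime_card_of_ne (Ne.symm hsp) (hBp.to_le inf_le_left) (isPGroup_oo s H))
      ((Subgroup.le_centralizer_iff.1 hBcT).trans
        (Subgroup.centralizer_le (SetLike.coe_subset_coe.2 inf_le_left)))
  have hTM : T ≤ M := (le_inf hTK (Subgroup.le_centralizer_iff.1 hBcT2)).trans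
    (hM.centralizer_le S (hBP.trans (oo_le p M)) hBA hBne hMB)
  refine le_centralizer_of_normalize (Ne.symm hsp) hPp (isPGroup_oo s H) ?_ (hTM.trans hMP)
  exact (le_inf hPK (hPcB.trans (Subgroup.centralizer_le (SetLike.coe_subset_coe.2 inf_le_left))) :
    P ≤ H).trans (Subgroup.le_normalizer.trans (normalizer_le_oo s H))

/-- A line `j` with `C_K(j) ≤ M`. -/
theorem exists_line (hmov : Moving A M p) : ∃ j ∈ A, j ≠ 1 ∧ cK K j ≤ M := by
  set X := oo p M ⊓ centralizer (M : Set G)
  have hXA : A ≤ normalizer (X : Set G) := CoprimeAction.le_normalizer_inf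
    (hM.norm.trans (normalizer_le_oo p M)) (SignalizerCoprime.le_normalizer_centralizer hM.norm)
  have hXM : X ≤ M := inf_le_left.trans (oo_le p M)
  obtain ⟨j, hj, hj1, hne⟩ : ∃ j ∈ A, j ≠ 1 ∧ X ⊓ centralizer ({j} : Set G) ≠ ⊥ := by
    by_contra hcon
    push Not at hcon
    exact central_ne_bot S hM hmov
      (eq_bot_iff.2 (S.le_of_parts (hXM.trans hM.le) hXA fun a ha ha1 => (hcon a ha ha1).le))
  exact ⟨j, hj, hj1, (line_of_central S hM hXM hXA inf_le_right hj hj1 hne).1⟩

/-- `J = [P, O^p(M)]` is normal in `M`. -/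
theorem le_normalizer_iSup_commutator :
    M ≤ normalizer ((⨆ x : {x : ℕ × G // x.1.Prime ∧ x.1 ≠ p ∧ x.2 ∈ A ∧ x.2 ≠ 1},
      ⁅oo p M, part A M x.1.1 x.1.2⁆ : Subgroup G) : Set G) := by
  classical
  set P := oo p M with hP
  set ι := {x : ℕ × G // x.1.Prime ∧ x.1 ≠ p ∧ x.2 ∈ A ∧ x.2 ≠ 1}
  set J := ⨆ x : ι, ⁅P, part A M x.1.1 x.1.2⁆ with hJ
  have hMP : M ≤ normalizer (P : Set G) := Subgroup.le_normalizer.trans (normalizer_le_oo p M)
  have hJP : J ≤ P := iSup_le fun x =>
    CoprimeAction.commutator_le_self_of_le_normalizer (part_normalizes S hM)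
  have hPJ : P ≤ normalizer (J : Set G) :=
    SignalizerCoprime.le_normalizer_iSup fun x => Subgroup.normalizer_commutator_ge_left _ _
  -- elements acting trivially on `P/J`
  let Q : Subgroup G :=
    { carrier := {g | g ∈ normalizer (P : Set G) ∧ g ∈ normalizer (J : Set G) ∧
        ∀ x ∈ P, ⁅x, g⁆ ∈ J}
      one_mem' := ⟨one_mem _, one_mem _, fun x _ => by simp⟩
      mul_mem' := fun {g h} hg hh => ⟨mul_mem hg.1 hh.1, mul_mem hg.2.1 hh.2.1, fun x hx => by
        have := mul_mem (hg.2.2 x hx) (CoprimeAction.conj_mem hg.2.1 (hh.2.2 x hx))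
        simpa [commutatorElement_def, mul_assoc] using this⟩
      inv_mem' := fun {g} hg => ⟨inv_mem hg.1, inv_mem hg.2.1, fun x hx => by
        have := CoprimeAction.conj_mem' hg.2.1 (inv_mem (hg.2.2 x hx))
        simpa [commutatorElement_def, mul_assoc] using this⟩ }
  have hPQ : P ≤ normalizer (Q : Set G) := by
    refine SignalizerCoprime.le_normalizer_of_forall fun o ho g hg => ?_
    have hoN : o ∈ normalizer (P : Set G) := Subgroup.le_normalizer ho
    refine ⟨mul_mem (mul_mem hoN hg.1) (inv_mem hoN),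
      mul_mem (mul_mem (hPJ ho) hg.2.1) (inv_mem (hPJ ho)), fun x hx => ?_⟩
    have := CoprimeAction.conj_mem (hPJ ho) (hg.2.2 _ (CoprimeAction.conj_mem' hoN hx))
    simpa [commutatorElement_def, mul_assoc] using this
  have hpartQ : ∀ (r : ℕ) (k : G), r.Prime → r ≠ p → k ∈ A → k ≠ 1 → part A M r k ≤ Q := by
    intro r k hr hrp hk hk1
    have hle : ⁅P, part A M r k⁆ ≤ J :=
      le_iSup (fun x : ι => ⁅P, part A M x.1.1 x.1.2⁆) ⟨(r, k), hr, hrp, hk, hk1⟩
    have hnorm : part A M r k ≤ normalizer (J : Set G) := by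
      refine SignalizerCoprime.le_normalizer_of_forall fun w hw y hy => ?_
      have h1 := mul_mem (inv_mem hy) (hle (Subgroup.commutator_mem_commutator (hJP hy) hw))
      have h2 := inv_mem h1
      simpa [commutatorElement_def, mul_assoc] using h2
    exact fun w hw => ⟨part_normalizes S hM hw, hnorm hw,
      fun x hx => hle (Subgroup.commutator_mem_commutator hx hw)⟩
  have hsylQ : ∀ r : ℕ, r.Prime → r ≠ p → isyl A r M ≤ Q := fun r hr hrp => by
    have := Fact.mk hr
    exact S.le_of_parts (isyl_le.trans hM.le) (S.inv_isyl hM.le hM.norm)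
      fun a ha ha1 => hpartQ r a hr hrp ha ha1
  have hffQ : ff p M ≤ Q := iSup_le fun s => by
    have := Fact.mk s.2.1
    exact le_trans (le_isyl (oo_le s.1 M) (isPGroup_oo s.1 M)
      (hM.norm.trans (normalizer_le_oo s.1 M))) (hsylQ s s.2.1 s.2.2)
  refine S.le_of_isyl_le hM.le hM.norm fun r hr => ?_
  by_cases hrp : r = p
  swap
  · exact fun g hg => (hsylQ r hr hrp hg).2.1
  subst hrp
  refine SignalizerCoprime.le_normalizer_of_forall fun s hs y hy => ?_
  have h1 : J ≤ J.comap (MulAut.conj s).toMonoidHom := by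
    refine iSup_le fun ⟨⟨t, k⟩, ht, htp, hk, hk1⟩ => Subgroup.commutator_le.2 fun x hx w hw => ?_
    have := Fact.mk ht
    rw [Subgroup.mem_comap, map_commutatorElement]
    change ⁅s * x * s⁻¹, s * w * s⁻¹⁆ ∈ J
    refine ((?_ : s * w * s⁻¹ ∈ Q)).2.2 _ (CoprimeAction.conj_mem (hMP (isyl_le hs)) hx)
    -- a `t`-element of `P·Q` lies in `Q`
    have hfit : ⁅s, w⁆ ∈ fit M :=
      AbelCent88Height.commutator_isyl_le_fit S hM.le hM.ne hM.norm (Ne.symm htp)
        (Subgroup.commutator_mem_commutator hs hw.1)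
    have hfit' : ⁅s, w⁆ ∈ (↑(P ⊔ ff r M) : Set G) := fit_le_sup r M hfit
    rw [Subgroup.coe_mul_of_left_le_normalizer_right _ _
      ((oo_le r M).trans (Subgroup.le_normalizer.trans (normalizer_le_ff r M)))] at hfit'
    obtain ⟨o, ho, u, hu, hou⟩ := hfit'
    set c := u * w
    have hc : c ∈ Q := mul_mem (hffQ hu) (hpartQ t k ht htp hk hk1 hw)
    have hg : s * w * s⁻¹ = o * c := by
      have : o * u = ⁅s, w⁆ := hou
      rw [← mul_assoc, this]
      simp [commutatorElement_def, mul_assoc]
    have key : ∀ n : ℕ, ∃ c' ∈ Q, (o * c) ^ n = o ^ n * c' := by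
      intro n
      induction n with
      | zero => exact ⟨1, one_mem _, by simp⟩
      | succ n ih =>
        obtain ⟨c', hc', he⟩ := ih
        refine ⟨(o⁻¹ * c' * o) * c, mul_mem (CoprimeAction.conj_mem' (hPQ ho) hc') hc, ?_⟩
        rw [pow_succ, he, pow_succ]
        group
    obtain ⟨e, he⟩ := isPGroup_oo r M ⟨o, ho⟩
    obtain ⟨c', hc', he'⟩ := key (r ^ e)
    rw [show o ^ r ^ e = 1 from congrArg Subtype.val he, one_mul, ← hg] at he'
    obtain ⟨i, hi⟩ := part_isPGroup S hM ⟨w, hw⟩ (t := t) (k := k)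
    have hi' : (s * w * s⁻¹) ^ t ^ i = 1 := by
      rw [conj_pow, show w ^ t ^ i = 1 from congrArg Subtype.val hi, mul_one, mul_inv_cancel]
    have hco : (r ^ e).Coprime (orderOf (s * w * s⁻¹)) :=
      (((Nat.coprime_primes (Fact.out : r.Prime) ht).2 (Ne.symm htp)).pow e i).coprime_dvd_right
        (orderOf_dvd_of_pow_eq_one hi')
    obtain ⟨m, hm⟩ := exists_pow_eq_self_of_coprime hco
    rw [← hm, he']
    exact pow_mem hc' m
  exact h1 hy

/-- Step 3: a proper invariant subgroup containing `O_p(M)` and `F_{p'}(M)` lies in `M`. -/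
theorem le_max (hmov : Moving A M p) {H : Subgroup G} (hHK : H ≤ K) (hne : H ≠ K)
    (hH : A ≤ normalizer (H : Set G)) (hPH : oo p M ≤ H) (hFH : ff p M ≤ H) : H ≤ M := by
  obtain ⟨j, hj, hj1, hjM⟩ := exists_line S hM hmov
  set P := oo p M with hP
  have hPp := isPGroup_oo p M
  have hPA : A ≤ normalizer (P : Set G) := hM.norm.trans (normalizer_le_oo p M)
  have hMP : M ≤ normalizer (P : Set G) := Subgroup.le_normalizer.trans (normalizer_le_oo p M)
  have hPK : P ≤ K := (oo_le p M).trans hM.le
  refine le_max_of_centralizes S hM hmov.oo_ne_bot hHK hne hH hPH hFH fun s hs hsp => ?_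
  have := Fact.mk hs
  set T := oo s H
  have hTK : T ≤ K := (oo_le s H).trans hHK
  have hTp := isPGroup_oo s H
  have hTA : A ≤ normalizer (T : Set G) := hH.trans (normalizer_le_oo s H)
  have hPT : P ≤ normalizer (T : Set G) :=
    hPH.trans (Subgroup.le_normalizer.trans (normalizer_le_oo s H))
  have hTj : T ⊓ centralizer ({j} : Set G) ≤ centralizer (P : Set G) :=
    centralizes_of_inter hPT le_rfl inf_le_left
      (((inf_le_inf_right _ hTK).trans hjM).trans hMP) (disjoint_pGroups (Ne.symm hsp) hPp hTp)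
  have hPm : ∀ m ∈ A, m ∉ zpowers j →
      P ⊓ centralizer ({m} : Set G) ≤ centralizer (T : Set G) := fun m hm hmj =>
    have hm1 := Setting.ne_one_of_not_mem hmj
    AbelCent88Tools.centralizes S hm hm1 hj (S.not_mem_symm hm hj1 hmj) hTK hTp hTA
      (inf_le_inf_right _ hPK) (S.inv_inf_centralizer hm hPA) (inf_le_left.trans hPT)
      (coprime_card_of_ne (Ne.symm hsp) (hPp.to_le inf_le_left) hTp)
      (hTj.trans (Subgroup.centralizer_le (SetLike.coe_subset_coe.2 inf_le_left)))
  set ι := {x : ℕ × G // x.1.Prime ∧ x.1 ≠ p ∧ x.2 ∈ A ∧ x.2 ≠ 1}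
  set J := ⨆ x : ι, ⁅P, part A M x.1.1 x.1.2⁆ with hJ
  have hJP : J ≤ P := iSup_le fun x =>
    CoprimeAction.commutator_le_self_of_le_normalizer (part_normalizes S hM)
  have hJA : A ≤ normalizer (J : Set G) := SignalizerCoprime.le_normalizer_iSup fun x =>
    have := Fact.mk x.2.1
    SignalizerCoprime.le_normalizer_commutator hPA (inv_part S hM x.2.2.2.1)
  have hJne : J ≠ ⊥ := by
    intro h0
    obtain ⟨t, ht, htp, k, hk, hk1, hmovk⟩ := hmov
    refine hmovk ?_
    have h1 : ⁅P, part A M t k⁆ = ⊥ := le_bot_iff.1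
      ((le_iSup (fun x : ι => ⁅P, part A M x.1.1 x.1.2⁆) ⟨(t, k), ht, htp, hk, hk1⟩).trans h0.le)
    exact Subgroup.le_centralizer_iff.1 (Subgroup.commutator_eq_bot_iff_le_centralizer.1 h1)
  have hJT : J ≤ centralizer (T : Set G) := by
    refine iSup_le fun ⟨⟨t, k⟩, ht, htp, hk, hk1⟩ => ?_
    have := Fact.mk ht
    set W := part A M t k
    set V := ⁅P, W⁆ with hV
    have hWP : W ≤ normalizer (P : Set G) := part_normalizes S hM
    have hWA := inv_part S hM (t := t) hk
    have hcop : (Nat.card W).Coprime (Nat.card P) := part_coprime S hM htp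
    have hVP : V ≤ P := CoprimeAction.commutator_le_self_of_le_normalizer hWP
    have hVK := hVP.trans hPK
    have hVp : IsPGroup p V := hPp.to_le hVP
    have hVA : A ≤ normalizer (V : Set G) := SignalizerCoprime.le_normalizer_commutator hPA hWA
    have hWV : W ≤ normalizer (V : Set G) := Subgroup.normalizer_commutator_ge_right _ _
    have hcopV : (Nat.card W).Coprime (Nat.card V) :=
      hcop.coprime_dvd_right (Subgroup.card_dvd_of_le hVP)
    have hfull : V ≤ ⁅V, W⁆ := (CoprimeAction.commutator_commutator_eq hWP hcop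
      (Or.inr (CoprimeAction.isSolvable_of_isPGroup hPp))).ge
    have hVm : ∀ m ∈ A, m ∉ zpowers j →
        V ⊓ centralizer ({m} : Set G) ≤ centralizer (T : Set G) :=
      fun m hm hmj => (inf_le_inf_right _ hVP).trans (hPm m hm hmj)
    by_cases hkj : k ∈ zpowers j
    · refine le_trans (AbelCent88Act.le_of_le_sup_commutator hVp
        (C := V ⊓ centralizer (T : Set G)) inf_le_left ?_) inf_le_right
      refine S.le_of_parts hVK hVA fun m hm hm1 => ?_
      by_cases hmj : m ∈ zpowers j
      · refine le_sup_of_le_right fun x hx => ?_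
        refine AbelCent88Act.fixed_mem_derived hWV hcopV hfull hx.1 fun w hw => ?_
        refine S.abel k hk hk1 w (part_le S hM hw) x ⟨hVK hx.1, ?_⟩
        rw [SetLike.mem_coe, S.centralizer_eq hj hk1 hkj, ← S.centralizer_eq hj hm1 hmj]
        exact hx.2
      · exact le_sup_of_le_left (le_inf inf_le_left (hVm m hm hmj))
    obtain ⟨m, hm, hmj, hmk⟩ := S.exists_not_mem₂ hj hk hj1
    have hVY : V ≤ centralizer ((T ⊓ centralizer ({k} : Set G) : Subgroup G) : Set G) :=
      AbelCent88Tools.trick S hk hk1 hm hmk hVK hVp hVA (part_le S hM) hWA hWV hcopV hfull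
        (inf_le_inf_right _ hTK)
        ((hVm m hm hmj).trans (Subgroup.centralizer_le (SetLike.coe_subset_coe.2 inf_le_left)))
    refine S.le_of_parts hVK hVA fun a ha ha1 => ?_
    by_cases haj : a ∈ zpowers j
    swap
    · exact hVm a ha haj
    rw [S.centralizer_eq hj ha1 haj]
    exact AbelCent88Tools.centralizes S hj hj1 hk hkj hTK hTp hTA (inf_le_inf_right _ hVK)
      (S.inv_inf_centralizer hj hVA) (inf_le_left.trans (hVP.trans hPT))
      (coprime_card_of_ne (Ne.symm hsp) (hVp.to_le inf_le_left) hTp)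
      ((Subgroup.le_centralizer_iff.1 hVY).trans
        (Subgroup.centralizer_le (SetLike.coe_subset_coe.2 inf_le_left)))
  have hTM : T ≤ M := (le_inf hTK (Subgroup.le_centralizer_iff.1 hJT)).trans
    (hM.centralizer_le S (hJP.trans (oo_le p M)) hJA hJne (le_normalizer_iSup_commutator S hM))
  exact le_centralizer_of_normalize (Ne.symm hsp) hPp hTp hPT (hTM.trans hMP)

/-- Step 4: lines meeting `Z(O_p(M))`. -/
theorem center_line (hmov : Moving A M p) {i : G} (hi : i ∈ A) (hi1 : i ≠ 1)
    (hne : oo p M ⊓ centralizer (oo p M : Set G) ⊓ centralizer ({i} : Set G) ≠ ⊥) :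
    cK K i ≤ M ∧ K ⊓ centralizer
      ((oo p M ⊓ centralizer (oo p M : Set G) ⊓ centralizer ({i} : Set G) : Subgroup G) : Set G) ≤ M := by
  set P := oo p M with hP
  set Z := P ⊓ centralizer (P : Set G) ⊓ centralizer ({i} : Set G) with hZ
  have hPA : A ≤ normalizer (P : Set G) := hM.norm.trans (normalizer_le_oo p M)
  have hPK : P ≤ K := (oo_le p M).trans hM.le
  have hZP : Z ≤ P := inf_le_left.trans inf_le_left
  have hZA : A ≤ normalizer (Z : Set G) := S.inv_inf_centralizer hi
    (CoprimeAction.le_normalizer_inf hPA (SignalizerCoprime.le_normalizer_centralizer hPA))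
  have hHA : A ≤ normalizer ((K ⊓ centralizer (Z : Set G) : Subgroup G) : Set G) :=
    CoprimeAction.le_normalizer_inf S.norm (SignalizerCoprime.le_normalizer_centralizer hZA)
  have hPZ : P ≤ centralizer (Z : Set G) :=
    Subgroup.le_centralizer_iff.1 (inf_le_left.trans inf_le_right)
  have hffP : ff p M ≤ centralizer (P : Set G) :=
    iSup_le fun s => have := Fact.mk s.2.1; oo_centralizes (Ne.symm s.2.2) M
  have h := le_max S hM hmov inf_le_left (S.centralizer_proper (hZP.trans hPK) hne) hHA
    (le_inf hPK hPZ)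
    (le_inf ((ff_le p M).trans hM.le)
      (hffP.trans (Subgroup.centralizer_le (SetLike.coe_subset_coe.2 hZP))))
  exact ⟨(le_inf inf_le_left
    (S.commute_parts hi hi1 (le_inf (hZP.trans hPK) inf_le_right) le_rfl)).trans h, h⟩

/-- The `p'`-parts of `M` centralise `Z(O_p(M))`. -/
theorem centralizes_center (hmov : Moving A M p) {t : ℕ} [Fact t.Prime] (htp : t ≠ p) {k : G}
    (hk : k ∈ A) (hk1 : k ≠ 1) :
    part A M t k ≤ centralizer ((oo p M ⊓ centralizer (oo p M : Set G) : Subgroup G) : Set G) := by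
  set P := oo p M with hP
  have hPA : A ≤ normalizer (P : Set G) := hM.norm.trans (normalizer_le_oo p M)
  have hPK : P ≤ K := (oo_le p M).trans hM.le
  obtain ⟨l, hl, hlk, hlM⟩ : ∃ l ∈ A, l ∉ zpowers k ∧ ¬ cK K l ≤ M := by
    by_contra hcon
    push Not at hcon
    exact not_almost S hM.le hM.ne hM.norm hk hk1 hcon
  have hZl : P ⊓ centralizer (P : Set G) ⊓ centralizer ({l} : Set G) = ⊥ := by
    by_contra hne
    exact hlM (center_line S hM hmov hl (Setting.ne_one_of_not_mem hlk) hne).1
  refine AbelCent88Tools.centralizes S hk hk1 hl hlk (inf_le_left.trans hPK)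
    ((isPGroup_oo p M).to_le inf_le_left)
    (CoprimeAction.le_normalizer_inf hPA (SignalizerCoprime.le_normalizer_centralizer hPA))
    (part_le S hM) (inv_part S hM hk) ?_ ?_ (hZl.le.trans bot_le)
  · exact CoprimeAction.le_normalizer_inf (part_normalizes S hM)
      (SignalizerCoprime.le_normalizer_centralizer (part_normalizes S hM))
  · exact (part_coprime S hM htp).coprime_dvd_right (Subgroup.card_dvd_of_le inf_le_left)

/-- A moving line meets `Z(O_p(M))`. -/
theorem moving_line {t : ℕ} [Fact t.Prime] (htp : t ≠ p) {k : G} (hk : k ∈ A) (hk1 : k ≠ 1)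
    (hmovk : ¬ part A M t k ≤ centralizer (oo p M : Set G)) :
    oo p M ⊓ centralizer (oo p M : Set G) ⊓ centralizer ({k} : Set G) ≠ ⊥ :=
  AbelCent88Tools.center_fixed_ne_bot S hk hk1 ((oo_le p M).trans hM.le) (isPGroup_oo p M)
    (hM.norm.trans (normalizer_le_oo p M)) (part_le S hM) (inv_part S hM hk) (part_normalizes S hM)
    (part_coprime S hM htp)
    (centralizes_center S hM ⟨t, Fact.out, htp, k, hk, hk1, hmovk⟩ htp hk hk1) hmovk

/-- Step 5: nothing moves. -/
theorem not_moving : ¬ Moving A M p := by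
  intro hmov
  obtain ⟨t, ht, htp, k, hk, hk1, hmovk⟩ := id hmov
  have := Fact.mk ht
  set P := oo p M with hP
  have hPp := isPGroup_oo p M
  have hPA : A ≤ normalizer (P : Set G) := hM.norm.trans (normalizer_le_oo p M)
  have hMP : M ≤ normalizer (P : Set G) := Subgroup.le_normalizer.trans (normalizer_le_oo p M)
  have hPK : P ≤ K := (oo_le p M).trans hM.le
  obtain ⟨l, hl, hlk, hlM⟩ : ∃ l ∈ A, l ∉ zpowers k ∧ ¬ cK K l ≤ M := by
    by_contra hcon
    push Not at hcon
    exact not_almost S hM.le hM.ne hM.norm hk hk1 hcon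
  have hl1 : l ≠ 1 := Setting.ne_one_of_not_mem hlk
  set Pl := P ⊓ centralizer ({l} : Set G) with hPl
  have hPlA : A ≤ normalizer (Pl : Set G) := S.inv_inf_centralizer hl hPA
  have hPlne : Pl ≠ ⊥ := fun h => hmovk (AbelCent88Tools.centralizes S hk hk1 hl hlk hPK hPp hPA
    (part_le S hM) (inv_part S hM hk) (part_normalizes S hM) (part_coprime S hM htp)
    (h.le.trans bot_le))
  have hPlK : Pl ≤ K := inf_le_left.trans hPK
  obtain ⟨H, hH, hCH⟩ := exists_max (A := A) (K := K) (H := K ⊓ centralizer (Pl : Set G))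
    inf_le_left (S.centralizer_proper hPlK hPlne)
    (CoprimeAction.le_normalizer_inf S.norm (SignalizerCoprime.le_normalizer_centralizer hPlA))
  have hlH : cK K l ≤ H :=
    (le_inf inf_le_left (S.commute_parts hl hl1 (inf_le_inf_right _ hPK) le_rfl)).trans hCH
  have hPlH : Pl ≤ H := (inf_le_inf_right _ hPK).trans hlH
  have hffP : ff p M ≤ centralizer (P : Set G) :=
    iSup_le fun s => have := Fact.mk s.2.1; oo_centralizes (Ne.symm s.2.2) M
  have hFH : ff p M ≤ H := (le_inf ((ff_le p M).trans hM.le)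
    (hffP.trans (Subgroup.centralizer_le (SetLike.coe_subset_coe.2 inf_le_left)))).trans hCH
  have hcontra : P ≤ H → False := fun hPH =>
    hlM (hlH.trans (le_max S hM hmov hH.le hH.ne hH.norm hPH hFH))
  set X := P ⊓ centralizer (M : Set G) with hXdef
  have hXA : A ≤ normalizer (X : Set G) :=
    CoprimeAction.le_normalizer_inf hPA (SignalizerCoprime.le_normalizer_centralizer hM.norm)
  have hXM : X ≤ M := inf_le_left.trans (oo_le p M)
  have hMX : M ≤ normalizer (X : Set G) :=
    CoprimeAction.le_normalizer_inf hMP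
      (SignalizerCoprime.le_normalizer_centralizer Subgroup.le_normalizer)
  have hXne : X ≠ ⊥ := central_ne_bot S hM hmov
  have hXH : X ≤ H := (le_inf (inf_le_left.trans hPK)
    (inf_le_right.trans (Subgroup.centralizer_le
      (SetLike.coe_subset_coe.2 (inf_le_left.trans (oo_le p M)))))).trans hCH
  by_cases hA' : ∃ s : ℕ, s.Prime ∧ s ≠ p ∧ ¬ X ≤ centralizer (oo s H : Set G)
  · -- Case A
    obtain ⟨s, hs, hsp, hXs⟩ := hA'
    have := Fact.mk hs
    obtain ⟨i, hi, hi1, hXi⟩ : ∃ i ∈ A, i ≠ 1 ∧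
        ¬ X ⊓ centralizer ({i} : Set G) ≤ centralizer (oo s H : Set G) := by
      by_contra hcon
      push Not at hcon
      exact hXs (S.le_of_parts (hXM.trans hM.le) hXA hcon)
    have hpart : ¬ part A H p i ≤ centralizer (oo s H : Set G) := fun h => hXi
      ((inf_le_inf_right _ (le_isyl hXH (hPp.to_le inf_le_left) hXA)).trans h)
    have hmovH : Moving A H s := ⟨p, hp.out, Ne.symm hsp, i, hi, hi1, hpart⟩
    have hYne := moving_line S hH (Ne.symm hsp) hi hi1 hpart
    have hYH := (center_line S hH hmovH hi hi1 hYne).2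
    set Y := oo s H ⊓ centralizer (oo s H : Set G) ⊓ centralizer ({i} : Set G) with hY
    have hiM : cK K i ≤ M :=
      (line_of_central S hM hXM hXA inf_le_right hi hi1 (fun h => hXi (h.le.trans bot_le))).1
    have hYi : Y ≤ cK K i :=
      inf_le_inf_right _ ((inf_le_left).trans ((oo_le s H).trans hH.le))
    have hli : l ∉ zpowers i := fun h => hlM (by
      rw [show cK K l = cK K i by rw [cK, cK, S.centralizer_eq hi hl1 h]]
      exact hiM)
    have hYA : A ≤ normalizer (Y : Set G) := S.inv_inf_centralizer hi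
      (CoprimeAction.le_normalizer_inf (hH.norm.trans (normalizer_le_oo s H))
        (SignalizerCoprime.le_normalizer_centralizer (hH.norm.trans (normalizer_le_oo s H))))
    have hPlp : Pl ≤ part A H p l :=
      le_inf (le_isyl hPlH (hPp.to_le inf_le_left) hPlA) inf_le_right
    have hfix : Pl ≤ centralizer (Y : Set G) :=
      (hPlp.trans (centralizes_center S hH hmovH (Ne.symm hsp) hl hl1)).trans
        (Subgroup.centralizer_le (SetLike.coe_subset_coe.2 inf_le_left))
    have hYP : Y ≤ centralizer (P : Set G) :=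
      AbelCent88Tools.centralizes S hi hi1 hl hli hPK hPp hPA hYi hYA
        ((hYi.trans hiM).trans hMP)
        (coprime_card_of_ne hsp ((isPGroup_oo s H).to_le (inf_le_left.trans inf_le_left)) hPp) hfix
    exact hcontra ((le_inf hPK (Subgroup.le_centralizer_iff.1 hYP)).trans hYH)
  · -- Case B
    push Not at hA'
    have hT : ∀ s : ℕ, s.Prime → s ≠ p → oo s H ≤ centralizer (P : Set G) := by
      intro s hs hsp
      have := Fact.mk hs
      set T := oo s H
      have hTK : T ≤ K := (oo_le s H).trans hH.le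
      have hTp := isPGroup_oo s H
      have hTA : A ≤ normalizer (T : Set G) := hH.norm.trans (normalizer_le_oo s H)
      have hTM : T ≤ M := (le_inf hTK (Subgroup.le_centralizer_iff.1 (hA' s hs hsp))).trans
        (hM.centralizer_le S hXM hXA hXne hMX)
      have hTl : T ≤ centralizer (Pl : Set G) :=
        centralizes_of_inter (hPlH.trans (Subgroup.le_normalizer.trans (normalizer_le_oo s H)))
          inf_le_left le_rfl (hTM.trans hMP) (disjoint_pGroups (Ne.symm hsp) hPp hTp)
      refine S.le_of_parts hTK hTA fun m hm hm1 => ?_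
      by_cases hml : m ∈ zpowers l
      · rw [S.centralizer_eq hl hm1 hml]
        have hsub : T ⊓ centralizer ({l} : Set G) ≤ part A M s l :=
          inf_le_inf_right _ (le_isyl hTM hTp hTA)
        refine hsub.trans ?_
        by_contra hmov'
        exact hlM (center_line S hM hmov hl hl1 (moving_line S hM hsp hl hl1 hmov')).1
      · exact AbelCent88Tools.centralizes S hm hm1 hl (S.not_mem_symm hm hl1 hml) hPK hPp hPA
          (inf_le_inf_right _ hTK) (S.inv_inf_centralizer hm hTA) ((inf_le_left.trans hTM).trans hMP)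
          (coprime_card_of_ne hsp (hTp.to_le inf_le_left) hPp)
          (Subgroup.le_centralizer_iff.1 (inf_le_left.trans hTl))
    by_cases hF : ff p H = ⊥
    · refine hcontra ((le_isyl hPK hPp hPA).trans ?_)
      rw [← oo_eq_isyl S hH hF]
      exact oo_le p H
    · obtain ⟨s, hs, hsp, hsne⟩ : ∃ s : ℕ, s.Prime ∧ s ≠ p ∧ oo s H ≠ ⊥ := by
        by_contra hcon
        push Not at hcon
        exact hF (eq_bot_iff.2 (iSup_le fun s => (hcon s s.2.1 s.2.2).le))
      exact hcontra ((le_inf hPK (Subgroup.le_centralizer_iff.1 (hT s hs hsp))).trans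
        (hH.centralizer_le S (oo_le s H) (hH.norm.trans (normalizer_le_oo s H)) hsne
          (Subgroup.le_normalizer.trans (normalizer_le_oo s H))))

omit hp in
/-- Maximal invariant subgroups are nilpotent. -/
theorem max_isNilpotent : Group.IsNilpotent M := by
  refine AbelCent88Height.isNilpotent_of_isyl_le S hM.le hM.norm fun r hr => ?_
  have := Fact.mk hr
  refine AbelCent88Height.le_oo S hM.le hM.ne hM.norm isyl_le (S.isPGroup_isyl hM.le hM.norm)
    (S.inv_isyl hM.le hM.norm) ?_
  refine S.le_of_parts (isyl_le.trans hM.le) (S.inv_isyl hM.le hM.norm) fun k hk hk1 => ?_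
  refine Subgroup.le_centralizer_iff.1 (iSup_le fun ⟨s, hs, hsr⟩ => Subgroup.le_centralizer_iff.1 ?_)
  have := Fact.mk hs
  by_contra hcon
  exact not_moving S hM (p := s) ⟨r, hr, Ne.symm hsr, k, hk, hk1, hcon⟩

omit hM hp in
/-- No minimal counterexample exists. -/
theorem false_of_minimal : False := by
  have hnil : ∀ H : Subgroup G, H ≤ K → H ≠ K → A ≤ normalizer (H : Set G) → Group.IsNilpotent H := by
    intro H hHK hne hH
    obtain ⟨M, hM, hle⟩ := exists_max (A := A) hHK hne hH
    have := max_isNilpotent S hM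
    exact Group.nilpotent_of_mulEquiv (Subgroup.subgroupOfEquivOfLe hle)
  obtain ⟨p, hp, hp2, hpd⟩ : ∃ p : ℕ, p.Prime ∧ p ≠ 2 ∧ p ∣ Nat.card K := by
    by_contra hcon
    push Not at hcon
    have h2 : Fact (Nat.Prime 2) := ⟨Nat.prime_two⟩
    refine S.nonsolv (CoprimeAction.isSolvable_of_isPGroup (p := 2) ?_)
    refine IsPGroup.of_card (n := (Nat.card K).factorization 2) ?_
    refine Nat.eq_of_factorization_eq Nat.card_pos.ne' (pow_ne_zero _ two_ne_zero) fun r => ?_
    rw [Nat.prime_two.factorization_pow]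
    by_cases hr : r = 2
    · subst hr; simp
    · rw [Finsupp.single_eq_of_ne hr]
      by_cases hrp : r.Prime
      · exact Nat.factorization_eq_zero_of_not_dvd (hcon r hrp hr)
      · exact Nat.factorization_eq_zero_of_not_prime _ hrp
  have := Fact.mk hp
  obtain ⟨P, hPA, -⟩ := S.exists_sylow le_rfl S.norm (t := p)
  have hPne : (P : Subgroup K) ≠ ⊥ := P.ne_bot_of_dvd_card hpd
  set Y := GlaubermanZJ.thomY 0 (P : Subgroup K) with hYdef
  have hYne : Y ≠ ⊥ := GlaubermanZJ.thomY_ne_bot (Or.inl rfl) P.2 hPne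
  set Y0 := Y.map K.subtype with hY0
  have hY0K : Y0 ≤ K := Subgroup.map_subtype_le _
  have hY0A : A ≤ normalizer (Y0 : Set G) := by
    rw [hY0, hYdef, ← GlaubermanZJ.thomY_map K.subtype_injective]
    exact hPA.trans (GlaubermanZJ.normalizer_le_thomY _)
  have hY0ne : Y0 ≠ ⊥ := fun h => hYne
    ((Subgroup.map_eq_bot_iff_of_injective _ K.subtype_injective).1 h)
  have hY0K' : Y0 ≠ K := by
    intro h
    refine S.nonsolv (CoprimeAction.isSolvable_of_isPGroup (p := p) ?_)
    rw [← h]
    exact (P.2.to_le (GlaubermanZJ.thomY_le _)).map _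
  have hN := hnil (K ⊓ normalizer (Y0 : Set G)) inf_le_left
    (S.normalizer_proper hY0K hY0A hY0ne hY0K')
    (CoprimeAction.le_normalizer_inf S.norm (le_normalizer_normalizer hY0A))
  have heq : (normalizer (Y : Set K) : Subgroup K) = (K ⊓ normalizer (Y0 : Set G)).subgroupOf K := by
    rw [Subgroup.inf_subgroupOf_left, Subgroup.subgroupOf_normalizer_eq hY0K,
      show Y0.subgroupOf K = Y from Subgroup.comap_map_eq_self_of_injective K.subtype_injective Y]
  have hnilN : Group.IsNilpotent (normalizer (Y : Set K) : Subgroup K) := by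
    rw [heq]
    exact Group.nilpotent_of_mulEquiv (Subgroup.subgroupOfEquivOfLe inf_le_left).symm
  have hcomp := GlaubermanPComplement.hnpc_thomY_zero hp2 P (P : Subgroup K)
    ⟨le_rfl, fun _ _ _ h => h⟩
    (FrobeniusNilpotent.hasNormalPComplement_of_isNilpotent (p := p))
  rw [TransferPResidual.hasNormalPComplement_iff_not_dvd] at hcomp
  set N := (Cfsg.pResidual p K).map K.subtype
  have hcard : Nat.card N = Nat.card (Cfsg.pResidual p K) :=
    Subgroup.card_map_of_injective K.subtype_injective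
  have hNne : N ≠ K := fun h => hcomp (by rw [← hcard, h]; exact hpd)
  rcases S.simple N (Subgroup.map_subtype_le _)
    (S.norm.trans (OffendersOperated.normalizer_le_map_char K _))
    (Subgroup.le_normalizer.trans (OffendersOperated.normalizer_le_map_char K _)) with h | h
  · refine S.nonsolv (CoprimeAction.isSolvable_of_isPGroup (p := p) ?_)
    obtain ⟨n, hn⟩ := TransferPResidual.index_pResidual (G := K) (p := p)
    refine IsPGroup.of_card (n := n) ?_
    rw [(Subgroup.map_eq_bot_iff_of_injective _ K.subtype_injective).1 h, Subgroup.index_bot] at hn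
    exact hn
  · exact hNne h

end Cfsg.Agent.AbelCent88Main
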