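import Mathlib
import Cfsg.Agent.Lib.AbelCent88Main

/-!
`A ≅ q × q` acting coprimely with all `C_K(a)` abelian forces `K` solvable.
-/

set_option autoImplicit false

namespace Cfsg.Agent.AbelCent88Solvable

open Cfsg.Agent
open Cfsg.Agent.AbelCent88Basic
open Subgroup (centralizer normalizer)

universe u

/-- The hypotheses pass to invariant subgroups. -/
theorem setting_mono {G : Type*} [Group G] [Finite G] {q : ℕ} {A K H : Subgroup G}
    (S : Setting q A K) (hHK : H ≤ K) (hH : A ≤ normalizer (H : Set G)) : Setting q A H where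
  prime := S.prime
  cardA := S.cardA
  comm := S.comm
  noncyc := S.noncyc
  norm := hH
  cop := S.not_dvd hHK
  abel a ha ha1 x hx y hy := S.abel a ha ha1 x ⟨hHK hx.1, hx.2⟩ y ⟨hHK hy.1, hy.2⟩

/-- The hypotheses pass to the quotient by an invariant normal subgroup, and the image is
solvable only if the extension is. -/
theorem exists_quotient {G : Type u} [Group G] [Finite G] {q : ℕ} {A K N : Subgroup G}
    (S : Setting q A K) (hNK : N ≤ K) (hN : A ≤ normalizer (N : Set G))
    (hKN : K ≤ normalizer (N : Set G)) (hne : N ≠ ⊥) :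
    ∃ (H : Type u) (_ : Group H) (_ : Finite H) (A' K' : Subgroup H), Setting q A' K' ∧
      Nat.card K' < Nat.card K ∧
      (Group.IsSolvable N → Group.IsSolvable K' → Group.IsSolvable K) := by
  set L := normalizer (N : Set G) with hL
  have hNn : (N.subgroupOf L).Normal :=
    Subgroup.normal_subgroupOf_of_le_normalizer le_rfl
  set π := QuotientGroup.mk' (N.subgroupOf L)
  let fA : A →* L ⧸ N.subgroupOf L := π.comp (Subgroup.inclusion hN)
  let fK : K →* L ⧸ N.subgroupOf L := π.comp (Subgroup.inclusion hKN)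
  have hfA : Function.Injective fA := by
    rw [injective_iff_map_eq_one]
    intro x hx
    have h1 : (x : G) ∈ N :=
      (QuotientGroup.eq_one_iff (N := N.subgroupOf L) (Subgroup.inclusion hN x)).1 hx
    have h2 : (x : G) ∈ A ⊓ N := ⟨x.2, h1⟩
    rw [Subgroup.inf_eq_bot_of_coprime (S.coprime hNK), Subgroup.mem_bot] at h2
    exact Subtype.ext h2
  have hker : ∀ x : K, fK x = 1 ↔ (x : G) ∈ N := fun x => by
    exact (QuotientGroup.eq_one_iff (N := N.subgroupOf L) (Subgroup.inclusion hKN x))
  have hcardK : Nat.card fK.ker * Nat.card fK.range = Nat.card K := by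
    rw [← Subgroup.index_ker, Subgroup.card_mul_index]
  refine ⟨L ⧸ N.subgroupOf L, inferInstance, inferInstance, fA.range, fK.range,
    ⟨S.prime, ?_, ?_, ?_, ?_, ?_, ?_⟩, ?_, fun h1 h2 => ?_⟩
  · rw [← S.cardA]
    exact (Nat.card_congr (MonoidHom.ofInjective hfA).toEquiv).symm
  · refine ⟨⟨?_⟩⟩
    rintro ⟨_, x, rfl⟩ ⟨_, y, rfl⟩
    apply Subtype.ext
    change fA x * fA y = fA y * fA x
    rw [← map_mul, ← map_mul]
    exact congrArg fA (Subtype.ext (S.commA x.2 y.2))
  · intro h
    exact S.noncyc (isCyclic_of_injective (MonoidHom.ofInjective hfA).toMonoidHom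
      (MonoidHom.ofInjective hfA).injective)
  · refine SignalizerCoprime.le_normalizer_of_forall ?_
    rintro _ ⟨a, rfl⟩ _ ⟨x, rfl⟩
    refine ⟨⟨(a : G) * x * (a : G)⁻¹, CoprimeAction.conj_mem (S.norm a.2) x.2⟩, ?_⟩
    change π _ = π _ * π _ * (π _)⁻¹
    rw [← map_inv, ← map_mul, ← map_mul]
    rfl
  · intro hd
    exact S.cop (hd.trans (Dvd.intro_left _ hcardK))
  · rintro _ ⟨a, rfl⟩ ha1
    have haK : (a : G) ∈ normalizer (K : Set G) := S.norm a.2
    have key : ∀ z ∈ cK fK.range (fA a), ∃ c ∈ cK K (a : G), ∃ hc : c ∈ L, π ⟨c, hc⟩ = z := by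
      rintro z ⟨⟨x, rfl⟩, hz⟩
      obtain ⟨c, hc, hac, hcz⟩ := AbelCent88Act.image_fixed π (R := K.subgroupOf L)
        (l := Subgroup.inclusion hN a)
        (by rw [← Subgroup.subgroupOf_normalizer_eq hKN]; exact haK)
        (by
          rw [Nat.card_congr (Subgroup.subgroupOfEquivOfLe hKN).toEquiv,
            ← Subgroup.orderOf_coe (Subgroup.inclusion hN a)]
          exact (S.coprime le_rfl).coprime_dvd_left (Subgroup.orderOf_dvd_natCard _ a.2))
        (y := fK x) ⟨Subgroup.inclusion hKN x, x.2, rfl⟩ (mem_centralizer_singleton.1 hz)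
      exact ⟨c, ⟨hc, mem_centralizer_singleton.2 (congrArg Subtype.val hac)⟩, c.2, hcz⟩
    intro x hx y hy
    obtain ⟨c, hc, hcL, rfl⟩ := key x hx
    obtain ⟨d, hd, hdL, rfl⟩ := key y hy
    have ha1' : (a : G) ≠ 1 := fun h => ha1 (by
      rw [show a = 1 from Subtype.ext h, map_one])
    rw [← map_mul, ← map_mul]
    exact congrArg π (Subtype.ext (S.abel a a.2 ha1' c hc d hd))
  · have h1 : 1 < Nat.card fK.ker := by
      have : Nontrivial fK.ker := by
        rw [Subgroup.nontrivial_iff_ne_bot]
        intro h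
        refine hne ((Subgroup.eq_bot_iff_forall N).2 fun x hx => ?_)
        have h2 : (⟨x, hNK hx⟩ : K) ∈ fK.ker := (hker _).2 hx
        rw [h, Subgroup.mem_bot] at h2
        exact congrArg Subtype.val h2
      exact Finite.one_lt_card
    calc Nat.card fK.range = 1 * Nat.card fK.range := (one_mul _).symm
      _ < Nat.card fK.ker * Nat.card fK.range := Nat.mul_lt_mul_of_pos_right h1 Nat.card_pos
      _ = Nat.card K := hcardK
  · refine Group.isSolvable_of_ker_le_range (Subgroup.inclusion hNK) fK.rangeRestrict ?_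
    intro x hx
    rw [MonoidHom.ker_rangeRestrict, MonoidHom.mem_ker, hker] at hx
    exact ⟨⟨x, hx⟩, rfl⟩

/-- The theorem, by induction on the order of `K`. -/
theorem isSolvable_aux (q : ℕ) : ∀ (n : ℕ) (G : Type u) [Group G] [Finite G] (A K : Subgroup G),
    Setting q A K → Nat.card K = n → Group.IsSolvable K := by
  intro n
  induction n using Nat.strong_induction_on with
  | _ n ih =>
  intro G _ _ A K S hn
  by_contra hns
  have hsub : ∀ H : Subgroup G, H ≤ K → H ≠ K → A ≤ normalizer (H : Set G) →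
      Group.IsSolvable H := by
    intro H hHK hne hH
    refine ih _ ?_ G A H (setting_mono S hHK hH) rfl
    rw [← hn]
    exact lt_of_le_of_ne (Subgroup.card_le_of_le hHK)
      fun he => hne (Subgroup.eq_of_le_of_card_ge hHK he.ge)
  refine AbelCent88Main.false_of_minimal
    (⟨S, hsub, fun N hNK hN hKN => ?_, hns⟩ : Minimal q A K)
  by_contra hcon
  push Not at hcon
  obtain ⟨H, _, _, A', K', S', hlt, hext⟩ := exists_quotient S hNK hN hKN hcon.1
  exact hns (hext (hsub N hNK hcon.2 hN) (ih _ (hn ▸ hlt) H A' K' S' rfl))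

theorem isSolvable {G : Type u} [Group G] [Finite G] {q : ℕ} {A K : Subgroup G}
    (S : Setting q A K) : Group.IsSolvable K :=
  isSolvable_aux q _ G A K S rfl

end Cfsg.Agent.AbelCent88Solvable
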