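import Mathlib

/-!
Transvections in `PSL n F`, and the automorphisms of `PSL n F` given by conjugation by an invertible matrix,
by a field automorphism and by inverse-transpose.
-/

set_option autoImplicit false

namespace Cfsg.Agent.AutPSLBasic

open Matrix
open scoped MatrixGroups

variable {n : ℕ} {F : Type*} [Field F]

/-- Short name for the projective special linear group. -/
abbrev P (n : ℕ) (F : Type*) [Field F] : Type _ := Matrix.ProjectiveSpecialLinearGroup (Fin n) F

/-- The transvection matrix `1 + v wᵀ`. -/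
def tm (v w : Fin n → F) : Matrix (Fin n) (Fin n) F := 1 + vecMulVec v w

lemma det_tm (v w : Fin n → F) : (tm v w).det = 1 + w ⬝ᵥ v := by
  rw [tm, vecMulVec_eq Unit, det_one_add_replicateCol_mul_replicateRow]

open Classical in
/-- The transvection `1 + v wᵀ` as an element of `SL`, or `1` if that matrix has determinant `≠ 1`. -/
noncomputable def tsl (v w : Fin n → F) : Matrix.SpecialLinearGroup (Fin n) F :=
  if h : w ⬝ᵥ v = 0 then ⟨tm v w, by rw [det_tm, h, add_zero]⟩ else 1

lemma coe_tsl {v w : Fin n → F} (h : w ⬝ᵥ v = 0) :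
    ((tsl v w : Matrix.SpecialLinearGroup (Fin n) F) : Matrix (Fin n) (Fin n) F) = tm v w := by
  simp [tsl, h]

/-- The class of a transvection in `PSL`. -/
noncomputable def tv (v w : Fin n → F) : P n F := QuotientGroup.mk (tsl v w)

/-- `v` and `w` are non-zero and orthogonal: a point and a hyperplane through it. -/
def IsFlag (v w : Fin n → F) : Prop := v ≠ 0 ∧ w ≠ 0 ∧ w ⬝ᵥ v = 0

lemma tm_mul (v w v' w' : Fin n → F) :
    tm v w * tm v' w' = 1 + vecMulVec v w + vecMulVec v' w' + (w ⬝ᵥ v') • vecMulVec v w' := by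
  rw [tm, tm, mul_add, mul_one, add_mul, one_mul, vecMulVec_mul_vecMulVec, vecMulVec_smul]
  abel

lemma tm_mulVec (v w u : Fin n → F) : tm v w *ᵥ u = u + (w ⬝ᵥ u) • v := by
  rw [tm, add_mulVec, one_mulVec, vecMulVec_mulVec]
  simp [op_smul_eq_smul]

/-- Two elements of `SL` have the same class in `PSL` iff they differ by a scalar. -/
lemma mk_eq_mk_iff {s t : Matrix.SpecialLinearGroup (Fin n) F} :
    (QuotientGroup.mk s : P n F) = QuotientGroup.mk t ↔
      ∃ l : F, (t : Matrix (Fin n) (Fin n) F) = l • (s : Matrix (Fin n) (Fin n) F) := by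
  rw [QuotientGroup.eq, Matrix.SpecialLinearGroup.mem_center_iff]
  constructor
  · rintro ⟨r, -, hr⟩
    refine ⟨r, ?_⟩
    have : t = s * (s⁻¹ * t) := by group
    conv_lhs => rw [this, Matrix.SpecialLinearGroup.coe_mul, ← hr]
    rw [scalar_apply, ← smul_one_eq_diagonal, mul_smul_comm, mul_one]
  · rintro ⟨l, hl⟩
    refine ⟨l, ?_, ?_⟩
    · have := congrArg Matrix.det hl
      rw [det_smul, s.det_coe, t.det_coe, mul_one] at this
      exact this.symm
    · rw [Matrix.SpecialLinearGroup.coe_mul, hl, mul_smul_comm, ← Matrix.SpecialLinearGroup.coe_mul,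
        inv_mul_cancel, Matrix.SpecialLinearGroup.coe_one, scalar_apply, ← smul_one_eq_diagonal]

/-- A scalar multiple of `1 + N` equal to `1 + M`, both `N` and `M` of square zero, has scalar `1`. -/
lemma eq_one_of_sq_zero [NeZero n] {M N : Matrix (Fin n) (Fin n) F} {l : F}
    (hM : M * M = 0) (hN : N * N = 0) (h : (1 : Matrix (Fin n) (Fin n) F) + M = l • ((1 : Matrix (Fin n) (Fin n) F) + N)) :
    l = 1 ∧ M = N := by
  have hM' : M = (l - 1) • (1 : Matrix (Fin n) (Fin n) F) + l • N := by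
    rw [sub_smul, one_smul, sub_add_eq_add_sub, ← smul_add, ← h, add_sub_cancel_left]
  have h2 : ((l - 1) * (l - 1)) • (1 : Matrix (Fin n) (Fin n) F) + (2 * (l - 1) * l) • N = 0 := by
    rw [← hM]
    conv_rhs => rw [hM']
    simp only [add_mul, mul_add, smul_mul_smul, one_mul, mul_one, hN, smul_zero, add_zero]
    module
  have h3 : ((l - 1) * (l - 1)) • N = 0 := by
    have := congrArg (fun X => X * N) h2
    simpa [add_mul, hN] using this
  have hl : l = 1 := by
    by_contra hne
    have h4 : (l - 1) * (l - 1) ≠ 0 := mul_ne_zero (sub_ne_zero.2 hne) (sub_ne_zero.2 hne)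
    have hN0 : N = 0 := (smul_eq_zero.1 h3).resolve_left h4
    rw [hN0, smul_zero, add_zero] at h2
    exact h4 ((smul_eq_zero.1 h2).resolve_right one_ne_zero)
  refine ⟨hl, ?_⟩
  rw [hM', hl, sub_self, zero_smul, zero_add, one_smul]

lemma vecMulVec_sq {v w : Fin n → F} (h : w ⬝ᵥ v = 0) : vecMulVec v w * vecMulVec v w = 0 := by
  rw [vecMulVec_mul_vecMulVec, vecMulVec_smul, h, zero_smul]

lemma vecMulVec_eq_iff {v w v' w' : Fin n → F} (hv : v ≠ 0) (hw : w ≠ 0) :
    vecMulVec v w = vecMulVec v' w' ↔ ∃ c : F, c ≠ 0 ∧ v' = c • v ∧ w = c • w' := by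
  constructor
  · intro h
    obtain ⟨i, hi⟩ : ∃ i, v i ≠ 0 := Function.ne_iff.1 hv
    obtain ⟨j, hj⟩ : ∃ j, w j ≠ 0 := Function.ne_iff.1 hw
    have e : ∀ a b, v a * w b = v' a * w' b := fun a b => by
      simpa [vecMulVec_apply] using congrFun (congrFun h a) b
    have hv' : v' i ≠ 0 := by intro h0; have := e i j; rw [h0, zero_mul] at this; exact mul_ne_zero hi hj this
    have hw' : w' j ≠ 0 := by intro h0; have := e i j; rw [h0, mul_zero] at this; exact mul_ne_zero hi hj this
    refine ⟨v' i / v i, div_ne_zero hv' hi, funext fun a => ?_, funext fun b => ?_⟩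
    · simp only [Pi.smul_apply, smul_eq_mul]
      apply mul_right_cancel₀ hw'
      rw [← e a j]
      field_simp
      linear_combination (v a) * (e i j)
    · simp only [Pi.smul_apply, smul_eq_mul]
      apply mul_left_cancel₀ hi
      rw [e i b]
      field_simp
  · rintro ⟨c, -, rfl, rfl⟩
    rw [smul_vecMulVec, vecMulVec_smul]

lemma tv_eq_one_iff [NeZero n] {v w : Fin n → F} (h : w ⬝ᵥ v = 0) : tv v w = 1 ↔ v = 0 ∨ w = 0 := by
  rw [tv, ← QuotientGroup.mk_one, eq_comm, mk_eq_mk_iff, coe_tsl h, Matrix.SpecialLinearGroup.coe_one]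
  constructor
  · rintro ⟨l, hl⟩
    have := (eq_one_of_sq_zero (vecMulVec_sq h) (mul_zero (0 : Matrix (Fin n) (Fin n) F))
      (l := l) (by rw [add_zero]; exact hl)).2
    exact vecMulVec_eq_zero.1 this
  · intro hvw
    exact ⟨1, by rw [one_smul, tm, vecMulVec_eq_zero.2 hvw, add_zero]⟩

lemma tv_eq_tv [NeZero n] {v w v' w' : Fin n → F} (h : IsFlag v w) (h' : w' ⬝ᵥ v' = 0) :
    tv v w = tv v' w' ↔ ∃ c : F, c ≠ 0 ∧ v' = c • v ∧ w = c • w' := by
  rw [tv, tv, mk_eq_mk_iff, coe_tsl h.2.2, coe_tsl h', ← vecMulVec_eq_iff h.1 h.2.1]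
  constructor
  · rintro ⟨l, hl⟩
    exact (eq_one_of_sq_zero (vecMulVec_sq h') (vecMulVec_sq h.2.2) hl).2.symm
  · intro e
    exact ⟨1, by rw [one_smul, tm, tm, e]⟩

lemma tv_mul_same_left {v w w' : Fin n → F} (h : w ⬝ᵥ v = 0) (h' : w' ⬝ᵥ v = 0) :
    tv v w * tv v w' = tv v (w + w') := by
  rw [tv, tv, tv, ← QuotientGroup.mk_mul]
  congr 1
  apply Subtype.ext
  have h2 : (w + w') ⬝ᵥ v = 0 := by rw [add_dotProduct, h, h', add_zero]
  show (tsl v w : Matrix (Fin n) (Fin n) F) * tsl v w' = _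
  rw [coe_tsl h, coe_tsl h', coe_tsl h2, tm_mul, h, zero_smul, add_zero, tm, vecMulVec_add]
  abel

lemma tv_mul_same_right {v v' w : Fin n → F} (h : w ⬝ᵥ v = 0) (h' : w ⬝ᵥ v' = 0) :
    tv v w * tv v' w = tv (v + v') w := by
  rw [tv, tv, tv, ← QuotientGroup.mk_mul]
  congr 1
  apply Subtype.ext
  have h2 : w ⬝ᵥ (v + v') = 0 := by rw [dotProduct_add, h, h', add_zero]
  show (tsl v w : Matrix (Fin n) (Fin n) F) * tsl v' w = _
  rw [coe_tsl h, coe_tsl h', coe_tsl h2, tm_mul, h', zero_smul, add_zero, tm, add_vecMulVec]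
  abel

/-! ### Automorphisms of `PSL` induced from `SL` -/

/-- The automorphism of `PSL` induced by an automorphism of `SL`. -/
noncomputable def quotAut : MulAut (Matrix.SpecialLinearGroup (Fin n) F) →* MulAut (P n F) where
  toFun φ := QuotientGroup.congr _ _ φ
    (Subgroup.characteristic_iff_map_eq.1 Subgroup.centerCharacteristic φ)
  map_one' := by
    ext x
    induction x using QuotientGroup.induction_on with
    | H s => rfl
  map_mul' φ ψ := by
    ext x
    induction x using QuotientGroup.induction_on with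
    | H s => rfl

@[simp] lemma quotAut_mk (φ : MulAut (Matrix.SpecialLinearGroup (Fin n) F)) (s : Matrix.SpecialLinearGroup (Fin n) F) :
    quotAut φ (QuotientGroup.mk s) = QuotientGroup.mk (φ s) := rfl

/-- Conjugation by an invertible matrix, on `SL`. -/
def slConj : GL (Fin n) F →* MulAut (Matrix.SpecialLinearGroup (Fin n) F) where
  toFun g :=
    { toFun := fun s => ⟨(g : Matrix (Fin n) (Fin n) F) * s * ((g⁻¹ : GL (Fin n) F) : Matrix (Fin n) (Fin n) F),
        by rw [det_units_conj]; exact s.det_coe⟩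
      invFun := fun s => ⟨((g⁻¹ : GL (Fin n) F) : Matrix (Fin n) (Fin n) F) * s * (g : Matrix (Fin n) (Fin n) F),
        by rw [det_units_conj']; exact s.det_coe⟩
      left_inv := fun s => by
        apply Subtype.ext
        simp [mul_assoc]
      right_inv := fun s => by
        apply Subtype.ext
        simp [mul_assoc]
      map_mul' := fun s t => by
        apply Subtype.ext
        show _ = (g : Matrix (Fin n) (Fin n) F) * s * ((g⁻¹ : GL (Fin n) F) : Matrix (Fin n) (Fin n) F) *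
          ((g : Matrix (Fin n) (Fin n) F) * t * ((g⁻¹ : GL (Fin n) F) : Matrix (Fin n) (Fin n) F))
        simp [mul_assoc] }
  map_one' := by
    apply MulEquiv.ext
    intro s
    apply Subtype.ext
    show ((1 : GL (Fin n) F) : Matrix (Fin n) (Fin n) F) * s * (((1 : GL (Fin n) F)⁻¹ : GL (Fin n) F) : Matrix (Fin n) (Fin n) F) = s
    simp
  map_mul' g h := by
    apply MulEquiv.ext
    intro s
    apply Subtype.ext
    show ((g * h : GL (Fin n) F) : Matrix (Fin n) (Fin n) F) * s * (((g * h)⁻¹ : GL (Fin n) F) : Matrix (Fin n) (Fin n) F) =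
      (g : Matrix (Fin n) (Fin n) F) * ((h : Matrix (Fin n) (Fin n) F) * s * ((h⁻¹ : GL (Fin n) F) : Matrix (Fin n) (Fin n) F)) *
        ((g⁻¹ : GL (Fin n) F) : Matrix (Fin n) (Fin n) F)
    simp [mul_assoc]

lemma coe_slConj (g : GL (Fin n) F) (s : Matrix.SpecialLinearGroup (Fin n) F) :
    ((slConj g s : Matrix.SpecialLinearGroup (Fin n) F) : Matrix (Fin n) (Fin n) F) =
      (g : Matrix (Fin n) (Fin n) F) * s * ((g⁻¹ : GL (Fin n) F) : Matrix (Fin n) (Fin n) F) := rfl

/-- A field automorphism applied entrywise, on `SL`. -/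
def slField : (F ≃+* F) →* MulAut (Matrix.SpecialLinearGroup (Fin n) F) where
  toFun σ :=
    { toFun := Matrix.SpecialLinearGroup.map (σ : F →+* F)
      invFun := Matrix.SpecialLinearGroup.map (σ.symm : F →+* F)
      left_inv := fun s => by
        apply Subtype.ext
        ext i j
        simp
      right_inv := fun s => by
        apply Subtype.ext
        ext i j
        simp
      map_mul' := map_mul _ }
  map_one' := by
    apply MulEquiv.ext
    intro s
    apply Subtype.ext
    ext i j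
    rfl
  map_mul' σ τ := by
    apply MulEquiv.ext
    intro s
    apply Subtype.ext
    ext i j
    rfl

lemma coe_slField (σ : F ≃+* F) (s : Matrix.SpecialLinearGroup (Fin n) F) :
    ((slField σ s : Matrix.SpecialLinearGroup (Fin n) F) : Matrix (Fin n) (Fin n) F) =
      (s : Matrix (Fin n) (Fin n) F).map σ := rfl

lemma inv_transpose (s : Matrix.SpecialLinearGroup (Fin n) F) : (s⁻¹).transpose = (s.transpose)⁻¹ := by
  refine (inv_eq_of_mul_eq_one_right ?_).symm
  apply Subtype.ext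
  show (s : Matrix (Fin n) (Fin n) F)ᵀ * ((s⁻¹ : Matrix.SpecialLinearGroup (Fin n) F) : Matrix (Fin n) (Fin n) F)ᵀ = 1
  rw [← transpose_mul, ← Matrix.SpecialLinearGroup.coe_mul, inv_mul_cancel, Matrix.SpecialLinearGroup.coe_one, transpose_one]

lemma transpose_transpose' (s : Matrix.SpecialLinearGroup (Fin n) F) : s.transpose.transpose = s :=
  Subtype.ext (Matrix.transpose_transpose _)

/-- Inverse transpose, on `SL`. -/
def slInvT : MulAut (Matrix.SpecialLinearGroup (Fin n) F) where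
  toFun s := (s⁻¹).transpose
  invFun s := (s⁻¹).transpose
  left_inv s := by show ((s⁻¹).transpose)⁻¹.transpose = s; rw [← inv_transpose s⁻¹, inv_inv, transpose_transpose']
  right_inv s := by show ((s⁻¹).transpose)⁻¹.transpose = s; rw [← inv_transpose s⁻¹, inv_inv, transpose_transpose']
  map_mul' s t := by
    apply Subtype.ext
    show ((((s * t)⁻¹ : Matrix.SpecialLinearGroup (Fin n) F)) : Matrix (Fin n) (Fin n) F)ᵀ = _ * _
    rw [_root_.mul_inv_rev, Matrix.SpecialLinearGroup.coe_mul, transpose_mul]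
    rfl

lemma coe_slInvT (s : Matrix.SpecialLinearGroup (Fin n) F) :
    ((slInvT s : Matrix.SpecialLinearGroup (Fin n) F) : Matrix (Fin n) (Fin n) F) =
      ((s⁻¹ : Matrix.SpecialLinearGroup (Fin n) F) : Matrix (Fin n) (Fin n) F).transpose := rfl

/-- Conjugation by an invertible matrix, on `PSL`. -/
noncomputable def cj : GL (Fin n) F →* MulAut (P n F) := quotAut.comp slConj

/-- A field automorphism applied entrywise, on `PSL`. -/
noncomputable def fd : (F ≃+* F) →* MulAut (P n F) := quotAut.comp slField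

/-- Inverse transpose, on `PSL`. -/
noncomputable def it : MulAut (P n F) := quotAut slInvT

lemma cj_mk (g : GL (Fin n) F) (s : Matrix.SpecialLinearGroup (Fin n) F) :
    cj g (QuotientGroup.mk s) = QuotientGroup.mk (slConj g s) := rfl

lemma fd_mk (σ : F ≃+* F) (s : Matrix.SpecialLinearGroup (Fin n) F) :
    fd σ (QuotientGroup.mk s : P n F) = QuotientGroup.mk (slField σ s) := rfl

lemma it_mk (s : Matrix.SpecialLinearGroup (Fin n) F) :
    it (QuotientGroup.mk s : P n F) = QuotientGroup.mk (slInvT s) := rfl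

lemma cj_tv (g : GL (Fin n) F) {v w : Fin n → F} (h : w ⬝ᵥ v = 0) :
    cj g (tv v w) = tv ((g : Matrix (Fin n) (Fin n) F) *ᵥ v)
      (w ᵥ* ((g⁻¹ : GL (Fin n) F) : Matrix (Fin n) (Fin n) F)) := by
  have h2 : (w ᵥ* ((g⁻¹ : GL (Fin n) F) : Matrix (Fin n) (Fin n) F)) ⬝ᵥ ((g : Matrix (Fin n) (Fin n) F) *ᵥ v) = 0 := by
    rw [← dotProduct_mulVec, mulVec_mulVec, Units.inv_mul, one_mulVec, h]
  rw [tv, tv, cj_mk]
  congr 1
  apply Subtype.ext
  rw [coe_slConj, coe_tsl h, coe_tsl h2, tm, tm, mul_add, mul_one, add_mul, Units.mul_inv,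
    mul_vecMulVec, vecMulVec_mul]

lemma dotProduct_map (σ : F ≃+* F) (v w : Fin n → F) : (σ ∘ v) ⬝ᵥ (σ ∘ w) = σ (v ⬝ᵥ w) := by
  simp [dotProduct, map_sum]

lemma fd_tv (σ : F ≃+* F) {v w : Fin n → F} (h : w ⬝ᵥ v = 0) :
    fd σ (tv v w) = (tv (σ ∘ v) (σ ∘ w) : P n F) := by
  have h2 : (σ ∘ w) ⬝ᵥ (σ ∘ v) = 0 := by rw [dotProduct_map, h, map_zero]
  rw [tv, tv, fd_mk]
  congr 1
  apply Subtype.ext
  rw [coe_slField, coe_tsl h, coe_tsl h2]
  ext i j
  simp [tm, one_apply, apply_ite, vecMulVec_apply]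

lemma tsl_inv {v w : Fin n → F} (h : w ⬝ᵥ v = 0) : (tsl v w)⁻¹ = tsl (-v) w := by
  refine inv_eq_of_mul_eq_one_right ?_
  apply Subtype.ext
  have h2 : w ⬝ᵥ (-v) = 0 := by simp [h]
  show (tsl v w : Matrix (Fin n) (Fin n) F) * tsl (-v) w = _
  rw [coe_tsl h, coe_tsl h2, tm_mul]
  simp [h]

lemma it_tv {v w : Fin n → F} (h : w ⬝ᵥ v = 0) : it (tv v w) = (tv w (-v) : P n F) := by
  have h2 : (-v) ⬝ᵥ w = 0 := by rw [dotProduct_comm]; simp [h]
  have h3 : w ⬝ᵥ (-v) = 0 := by simp [h]
  rw [tv, tv, it_mk]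
  congr 1
  apply Subtype.ext
  rw [coe_slInvT, tsl_inv h, coe_tsl h3, coe_tsl h2, tm, tm, transpose_add, transpose_one,
    transpose_vecMulVec]

end Cfsg.Agent.AutPSLBasic
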