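import Mathlib
import Cfsg.Agent.Lib.AutPSLBasic

/-!
Every automorphism of `PSL n F` (`F` finite) permutes the transvections, and for `n ≥ 3` it either preserves
or interchanges the relations "same point" and "same hyperplane" between transvections.
-/

set_option autoImplicit false

namespace Cfsg.Agent.AutPSLGeometry

open Matrix
open Cfsg.Agent.AutPSLBasic
open scoped MatrixGroups

variable {n : ℕ} {F : Type*} [Field F]

/-- `x` is the class of a transvection. -/
def IsTr (x : P n F) : Prop := ∃ v w, IsFlag v w ∧ x = tv v w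

lemma flag_single {i j : Fin n} (h : i ≠ j) {a b : F} (ha : a ≠ 0) (hb : b ≠ 0) :
    IsFlag (Pi.single i a : Fin n → F) (Pi.single j b) :=
  ⟨by simpa using ha, by simpa using hb, by simp [Pi.single_eq_of_ne h]⟩

lemma tv_ne_one [NeZero n] {v w : Fin n → F} (h : IsFlag v w) : tv v w ≠ 1 := fun e =>
  ((tv_eq_one_iff h.2.2).1 e).elim h.1 h.2.1

lemma flag_conj (g : GL (Fin n) F) {v w : Fin n → F} (h : IsFlag v w) :
    IsFlag ((g : Matrix (Fin n) (Fin n) F) *ᵥ v) (w ᵥ* ((g⁻¹ : GL (Fin n) F) : Matrix (Fin n) (Fin n) F)) := by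
  obtain ⟨hv, hw, hvw⟩ := h
  refine ⟨fun e => hv ?_, fun e => hw ?_, ?_⟩
  · have := congrArg (fun u => ((g⁻¹ : GL (Fin n) F) : Matrix (Fin n) (Fin n) F) *ᵥ u) e
    simpa [mulVec_mulVec] using this
  · have := congrArg (fun u => u ᵥ* (g : Matrix (Fin n) (Fin n) F)) e
    simpa [vecMul_vecMul] using this
  · rw [← dotProduct_mulVec, mulVec_mulVec, Units.inv_mul, one_mulVec, hvw]

lemma isTr_cj (g : GL (Fin n) F) {x : P n F} (h : IsTr x) : IsTr (cj g x) := by
  obtain ⟨v, w, hf, rfl⟩ := h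
  exact ⟨_, _, flag_conj g hf, cj_tv g hf.2.2⟩

/-- The matrices moving a standard flag to a given one. -/
lemma exists_frame {i₀ j₀ : Fin n} (hne : i₀ ≠ j₀) {v w : Fin n → F} (h : IsFlag v w) :
    ∃ g : GL (Fin n) F, (g : Matrix (Fin n) (Fin n) F) *ᵥ Pi.single i₀ 1 = v ∧
      w ᵥ* (g : Matrix (Fin n) (Fin n) F) = Pi.single j₀ 1 := by
  classical
  obtain ⟨hv, hw, hvw⟩ := h
  obtain ⟨j, hj⟩ : ∃ j, w j ≠ 0 := Function.ne_iff.1 hw
  obtain ⟨i, hij, hi⟩ : ∃ i, i ≠ j ∧ v i ≠ 0 := by
    by_contra hcon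
    push Not at hcon
    have hvj : v = Pi.single j (v j) := by
      ext k
      by_cases hk : k = j
      · subst hk; simp
      · simp [hcon k hk, hk]
    rw [hvj, dotProduct_single] at hvw
    rcases mul_eq_zero.1 hvw with h0 | h0
    · exact hj h0
    · exact hv (by rw [hvj, h0, Pi.single_zero])
  obtain ⟨π, hπi, hπj⟩ : ∃ π : Equiv.Perm (Fin n), π i₀ = i ∧ π j₀ = j := by
    refine ⟨Equiv.swap (Equiv.swap i₀ i j₀) j * Equiv.swap i₀ i, ?_, ?_⟩
    · rw [Equiv.Perm.mul_apply, Equiv.swap_apply_left]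
      refine Equiv.swap_apply_of_ne_of_ne ?_ hij
      intro e
      have := congrArg (Equiv.swap i₀ i) e
      rw [Equiv.swap_apply_right, Equiv.swap_apply_self] at this
      exact hne this
    · rw [Equiv.Perm.mul_apply, Equiv.swap_apply_left]
  let c : Fin n → Fin n → F := fun k => if k = i then v else
    if k = j then Pi.single j (w j)⁻¹ else Pi.single k 1 - Pi.single j (w k / w j)
  have hc : ∀ k, w ⬝ᵥ c k = if k = j then 1 else 0 := by
    intro k
    simp only [c]
    by_cases h1 : k = i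
    · subst h1; simp [hvw, hij]
    · by_cases h2 : k = j
      · subst h2; simp [h1, hj]
      · simp [h1, h2, dotProduct_sub, mul_div_cancel₀ _ hj]
  let M : Matrix (Fin n) (Fin n) F := Matrix.of fun a k => c (π k) a
  have hMinj : Function.Injective M.mulVec := by
    intro y y' hyy
    rw [← sub_eq_zero]
    have h0 : M *ᵥ (y - y') = 0 := by rw [mulVec_sub, hyy, sub_self]
    generalize y - y' = z at h0
    obtain ⟨u, rfl⟩ : ∃ u : Fin n → F, z = u ∘ π := ⟨z ∘ π.symm, by ext; simp⟩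
    have h1 : ∀ a, ∑ k, u k * c k a = 0 := by
      intro a
      have := congrFun h0 a
      rw [mulVec, dotProduct] at this
      rw [← Equiv.sum_comp π (fun k => u k * c k a)]
      simpa [M, mul_comm] using this
    have huj : u j = 0 := by
      have : ∑ k, u k * (w ⬝ᵥ c k) = 0 := by
        simp only [dotProduct, Finset.mul_sum]
        rw [Finset.sum_comm]
        refine Finset.sum_eq_zero fun a _ => ?_
        calc ∑ k, u k * (w a * c k a) = w a * ∑ k, u k * c k a := by
              rw [Finset.mul_sum]; exact Finset.sum_congr rfl fun k _ => by ring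
          _ = 0 := by rw [h1, mul_zero]
      simpa [hc] using this
    have hui : u i = 0 := by
      have := h1 i
      rw [Finset.sum_eq_single i] at this
      · simpa [c, hi] using this
      · intro k _ hk
        by_cases h2 : k = j
        · rw [h2, huj, zero_mul]
        · simp [c, hk, h2, hij, hk.symm, Ne.symm hk]
      · simp
    ext k
    simp only [Function.comp_apply, Pi.zero_apply]
    generalize π k = a
    by_cases h1' : a = i
    · rw [h1', hui]
    by_cases h2 : a = j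
    · rw [h2, huj]
    have := h1 a
    rw [Finset.sum_eq_single a] at this
    · simpa [c, h1', h2] using this
    · intro k _ hk
      by_cases h3 : k = i
      · rw [h3, hui, zero_mul]
      by_cases h4 : k = j
      · rw [h4, huj, zero_mul]
      simp [c, h3, h4, Ne.symm hk, h2]
    · simp
  obtain ⟨g, hg⟩ := Matrix.mulVec_injective_iff_isUnit.1 hMinj
  refine ⟨g, ?_, ?_⟩
  · rw [hg, mulVec_single_one]
    ext a
    simp [M, hπi, c]
  · rw [hg]
    ext k
    show w ⬝ᵥ c (π k) = _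
    rw [hc]
    by_cases hk : k = j₀
    · subst hk; simp [hπj]
    · have : π k ≠ j := fun e => hk (π.injective (e.trans hπj.symm))
      simp [this, hk]

lemma exists_cj_eq {i₀ j₀ : Fin n} (hne : i₀ ≠ j₀) {v w : Fin n → F} (h : IsFlag v w) :
    ∃ g : GL (Fin n) F, cj g (tv (Pi.single i₀ (1 : F)) (Pi.single j₀ (1 : F))) = tv v w := by
  obtain ⟨g, h1, h2⟩ := exists_frame hne h
  refine ⟨g, ?_⟩
  rw [cj_tv g (flag_single hne one_ne_zero one_ne_zero).2.2, h1, ← h2, vecMul_vecMul, Units.mul_inv, vecMul_one]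

lemma conj_mk (s : Matrix.SpecialLinearGroup (Fin n) F) :
    MulAut.conj (QuotientGroup.mk s : P n F) = cj (Matrix.SpecialLinearGroup.toGL s) := by
  apply MulEquiv.ext
  intro x
  induction x using QuotientGroup.induction_on with
  | H t =>
    rw [MulAut.conj_apply, cj_mk, ← QuotientGroup.mk_mul, ← QuotientGroup.mk_inv, ← QuotientGroup.mk_mul]
    congr 1

section Sylow

/-- The upper unitriangular matrices of determinant one. -/
def unitri (n : ℕ) (F : Type*) [Field F] [Fintype F] : Subgroup (Matrix.SpecialLinearGroup (Fin n) F) :=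
  haveI : Finite (Matrix.SpecialLinearGroup (Fin n) F) := Subtype.finite
  let M : Submonoid (Matrix.SpecialLinearGroup (Fin n) F) :=
    { carrier := {s | ∀ i j, j ≤ i → (s : Matrix (Fin n) (Fin n) F) i j = if i = j then 1 else 0}
      one_mem' := fun i j _ => by simp [Matrix.one_apply]
      mul_mem' := fun {s t} hs ht i j hij => by
        show ((s : Matrix (Fin n) (Fin n) F) * t) i j = _
        rw [Matrix.mul_apply, Finset.sum_eq_single i]
        · rw [hs i i le_rfl, ht i j hij]; simp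
        · intro k _ hk
          rcases lt_or_gt_of_ne hk with h | h
          · rw [hs i k h.le, if_neg hk.symm, zero_mul]
          · rw [ht k j (hij.trans h.le), if_neg (ne_of_gt (lt_of_le_of_lt hij h)), mul_zero]
        · simp }
  { M with
    inv_mem' := fun {x} hx => by
      obtain ⟨k, hk, hk1⟩ := (isOfFinOrder_of_finite x).exists_pow_eq_one
      have : x⁻¹ = x ^ (k - 1) := by
        rw [inv_eq_iff_mul_eq_one, ← pow_succ', Nat.sub_add_cancel hk, hk1]
      rw [this]
      exact M.pow_mem hx _ }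

lemma isPGroup_unitri [Fintype F] [NeZero n] (p : ℕ) [Fact p.Prime] [CharP F p] :
    IsPGroup p (unitri n F) := by
  haveI : CharP (Matrix (Fin n) (Fin n) F) p := inferInstance
  rintro ⟨s, hs⟩
  refine ⟨n, ?_⟩
  apply Subtype.ext
  apply Subtype.ext
  show (s : Matrix (Fin n) (Fin n) F) ^ p ^ n = 1
  set N : Matrix (Fin n) (Fin n) F := (s : Matrix (Fin n) (Fin n) F) - 1 with hN
  have hz : ∀ i j, j ≤ i → N i j = 0 := fun i j h => by
    rw [hN, Matrix.sub_apply, hs i j h, Matrix.one_apply]; simp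
  have hk : ∀ (k : ℕ) (i j : Fin n), (j : ℕ) < (i : ℕ) + k → (N ^ k) i j = 0 := by
    intro k
    induction k with
    | zero =>
      intro i j h
      rw [pow_zero, Matrix.one_apply_ne]
      intro e; subst e; omega
    | succ k ih =>
      intro i j h
      rw [pow_succ, Matrix.mul_apply]
      refine Finset.sum_eq_zero fun m _ => ?_
      by_cases hm : (m : ℕ) < i + k
      · rw [ih i m hm, zero_mul]
      · rw [hz m j (Fin.le_def.2 (by omega)), mul_zero]
  have hNn : N ^ n = 0 := by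
    ext i j
    exact hk n i j (by omega)
  have hp : n ≤ p ^ n := (n.lt_pow_self (Fact.out : p.Prime).one_lt).le
  have : (s : Matrix (Fin n) (Fin n) F) = 1 + N := by rw [hN]; abel
  rw [this, add_pow_char_pow_of_commute (p := p) n (Commute.one_left N), one_pow, pow_eq_zero_of_le hp hNn, add_zero]

lemma tsl_mem_unitri [Fintype F] {a b : Fin n} (h : a < b) :
    tsl (Pi.single a (1 : F)) (Pi.single b 1) ∈ unitri n F := by
  intro i j hij
  show ((tsl (Pi.single a (1 : F)) (Pi.single b 1) : Matrix.SpecialLinearGroup (Fin n) F) : Matrix (Fin n) (Fin n) F) i j = _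
  rw [coe_tsl (flag_single h.ne one_ne_zero one_ne_zero).2.2, tm, Matrix.add_apply, vecMulVec_apply, Matrix.one_apply]
  by_cases hi : i = a
  · subst hi
    have : j ≠ b := ne_of_lt (lt_of_le_of_lt hij h)
    simp [this]
  · simp [hi]

lemma centralizer_unitri (hn : 2 ≤ n) [Fintype F] (y : P n F)
    (hy : ∀ a b : Fin n, a < b → Commute y (tv (Pi.single a (1 : F)) (Pi.single b 1))) :
    ∃ c : F, y = tv (Pi.single (⟨0, by omega⟩ : Fin n) (1 : F)) (Pi.single (⟨n - 1, by omega⟩ : Fin n) c) := by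
  haveI : NeZero n := ⟨by omega⟩
  obtain ⟨s, rfl⟩ := QuotientGroup.mk_surjective y
  set S : Matrix (Fin n) (Fin n) F := (s : Matrix (Fin n) (Fin n) F) with hS
  set i0 : Fin n := ⟨0, by omega⟩
  set il : Fin n := ⟨n - 1, by omega⟩
  have key : ∀ a b : Fin n, a < b → S *ᵥ Pi.single a 1 = (S a a) • Pi.single a 1 ∧
      Pi.single b 1 ᵥ* S = (S a a) • Pi.single b 1 := by
    intro a b hab
    have hf : IsFlag (Pi.single a (1 : F)) (Pi.single b 1) := flag_single hab.ne one_ne_zero one_ne_zero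
    have e : cj (Matrix.SpecialLinearGroup.toGL s) (tv (Pi.single a (1 : F)) (Pi.single b 1)) =
        tv (Pi.single a (1 : F)) (Pi.single b 1) := by
      rw [← conj_mk, MulAut.conj_apply, (hy a b hab).eq, mul_inv_cancel_right]
    rw [cj_tv _ hf.2.2] at e
    obtain ⟨c, hc, h1, h2⟩ := (tv_eq_tv hf (flag_conj _ hf).2.2).1 e.symm
    have h1' : S *ᵥ Pi.single a 1 = c • Pi.single a 1 := h1
    have hc' : c = S a a := by
      have := congrFun h1' a
      simpa [mulVec_single_one] using this.symm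
    subst hc'
    refine ⟨h1', ?_⟩
    conv_lhs => rw [h2]
    have e1 : ((Matrix.SpecialLinearGroup.toGL s)⁻¹ : GL (Fin n) F).val * S = 1 := Units.inv_mul (Matrix.SpecialLinearGroup.toGL s)
    rw [smul_vecMul, vecMul_vecMul, e1, vecMul_one]
  have hdiag : ∀ a b : Fin n, a < b → S b b = S a a := fun a b hab => by
    have := congrFun (key a b hab).2 b
    simpa [single_one_vecMul] using this
  have hd0 : ∀ a, S a a = S i0 i0 := fun a => by
    rcases eq_or_ne a i0 with rfl | ha
    · rfl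
    · exact hdiag i0 a (Fin.lt_def.2 (Nat.pos_of_ne_zero fun e => ha (Fin.ext e)))
  have hoff : ∀ i j, i ≠ j → ¬ (i = i0 ∧ j = il) → S i j = 0 := by
    intro i j hij hne
    by_cases hj : j = il
    · have hi : i ≠ i0 := fun e => hne ⟨e, hj⟩
      have := congrFun (key i0 i (Fin.lt_def.2 (Nat.pos_of_ne_zero fun e => hi (Fin.ext e)))).2 j
      simpa [single_one_vecMul, hij.symm] using this
    · have hlt : j < il := Fin.lt_def.2 (by
        have : (j : ℕ) ≠ n - 1 := fun e => hj (Fin.ext e)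
        have := j.isLt
        show (j : ℕ) < n - 1
        omega)
      have := congrFun (key j il hlt).1 i
      simpa [mulVec_single_one, hij] using this
  have hl : S i0 i0 ≠ 0 := by
    intro h0
    have hz : ∀ i, S i i0 = 0 := fun i => by
      by_cases hi : i = i0
      · rw [hi, h0]
      · exact hoff i i0 hi fun e => hi e.1
    exact s.det_ne_zero (Matrix.det_eq_zero_of_column_eq_zero i0 hz)
  have hne : i0 ≠ il := by
    intro e
    have := congrArg Fin.val e
    simp [i0, il] at this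
    omega
  refine ⟨S i0 il / S i0 i0, ?_⟩
  have hf0 : (Pi.single il (S i0 il / S i0 i0) : Fin n → F) ⬝ᵥ Pi.single i0 1 = 0 := by
    simp [single_dotProduct, hne.symm]
  rw [tv, mk_eq_mk_iff, coe_tsl hf0]
  refine ⟨(S i0 i0)⁻¹, ?_⟩
  ext i j
  rw [Matrix.smul_apply, ← hS, tm, Matrix.add_apply, vecMulVec_apply, Matrix.one_apply, smul_eq_mul]
  by_cases hij : i = j
  · subst hij
    rw [hd0 i, inv_mul_cancel₀ hl, if_pos rfl]
    by_cases hi : i = i0
    · subst hi; simp [hne]
    · simp [hi]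
  · rw [if_neg hij, zero_add]
    by_cases hx : i = i0 ∧ j = il
    · obtain ⟨rfl, rfl⟩ := hx; simp [div_eq_inv_mul]
    · rw [hoff i j hij hx, mul_zero]
      by_cases hi : i = i0
      · have : j ≠ il := fun e => hx ⟨hi, e⟩
        simp [this]
      · simp [hi]

/-- A non-trivial element of the centre of some Sylow `p`-subgroup. -/
def IsCentralSylow (p : ℕ) (x : P n F) : Prop :=
  x ≠ 1 ∧ ∃ S : Sylow p (P n F), x ∈ S ∧ ∀ y ∈ S, Commute x y

lemma centralSylow_map [Fintype F] (p : ℕ) [Fact p.Prime] (α : MulAut (P n F)) {x : P n F}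
    (h : IsCentralSylow p x) : IsCentralSylow p (α x) := by
  haveI : Finite (Matrix.SpecialLinearGroup (Fin n) F) := Subtype.finite
  haveI : Finite (P n F) := Quotient.finite _
  obtain ⟨hx, S, hxS, hc⟩ := h
  refine ⟨by simpa using hx, S.mapSurjective α.surjective (f := (α : P n F →* P n F)), ?_, ?_⟩
  · exact ⟨x, hxS, rfl⟩
  · rintro _ ⟨y, hy, rfl⟩
    exact (hc y hy).map α

theorem isTr_iff [Fintype F] (hn : 2 ≤ n) (p : ℕ) [Fact p.Prime] [CharP F p] (x : P n F) :
    IsTr x ↔ IsCentralSylow p x := by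
  haveI : NeZero n := ⟨by omega⟩
  haveI : Finite (Matrix.SpecialLinearGroup (Fin n) F) := Subtype.finite
  haveI : Finite (P n F) := Quotient.finite _
  set i0 : Fin n := ⟨0, by omega⟩
  set il : Fin n := ⟨n - 1, by omega⟩
  have hne : i0 ≠ il := by
    intro e
    have := congrArg Fin.val e
    simp [i0, il] at this
    omega
  have hlt : i0 < il := Fin.lt_def.2 (by show 0 < n - 1; omega)
  obtain ⟨S₀, hS₀⟩ := ((isPGroup_unitri (F := F) (n := n) p).map
    (QuotientGroup.mk' (Subgroup.center (Matrix.SpecialLinearGroup (Fin n) F)))).exists_le_sylow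
  have hmem : ∀ a b : Fin n, a < b → tv (Pi.single a (1 : F)) (Pi.single b 1) ∈ S₀ :=
    fun a b hab => hS₀ ⟨_, tsl_mem_unitri hab, rfl⟩
  have hcent : ∀ y : P n F, y ≠ 1 → y ∈ S₀ → (∀ z ∈ S₀, Commute y z) →
      ∃ c : F, c ≠ 0 ∧ y = tv (Pi.single i0 (1 : F)) (Pi.single il c) := by
    intro y hy1 hy hc
    obtain ⟨c, hc'⟩ := centralizer_unitri hn y fun a b hab => hc _ (hmem a b hab)
    refine ⟨c, fun h0 => hy1 ?_, hc'⟩
    rw [hc', tv_eq_one_iff (by simp [h0])]
    right
    simp [h0]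
  constructor
  · rintro ⟨v, w, hf, rfl⟩
    haveI : Nontrivial ↥(S₀ : Subgroup (P n F)) :=
      ⟨⟨_, hmem i0 il hlt⟩, 1, fun e => tv_ne_one (flag_single hne one_ne_zero one_ne_zero)
        (congrArg Subtype.val e)⟩
    haveI := S₀.2.center_nontrivial
    obtain ⟨⟨⟨y, hyS⟩, hyc⟩, hy1⟩ := exists_ne (1 : ↥(Subgroup.center ↥(S₀ : Subgroup (P n F))))
    have hy1' : y ≠ 1 := fun e => hy1 (Subtype.ext (Subtype.ext e))
    have hyc' : ∀ z ∈ S₀, Commute y z := fun z hz =>
      (congrArg Subtype.val (Subgroup.mem_center_iff.1 hyc ⟨z, hz⟩)).symm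
    obtain ⟨c, hc, hyeq⟩ := hcent y hy1' hyS hyc'
    obtain ⟨g, hg⟩ := exists_cj_eq hne hf
    obtain ⟨g', hg'⟩ := exists_cj_eq hne (flag_single hne (one_ne_zero (α := F)) hc)
    have hy : IsCentralSylow p y := ⟨hy1', S₀, hyS, hyc'⟩
    have := centralSylow_map p (cj g * (cj g')⁻¹) hy
    rwa [MulAut.mul_apply, hyeq, ← hg', MulAut.inv_apply_self, hg] at this
  · rintro ⟨hx, S, hxS, hc⟩
    obtain ⟨g, hg⟩ := MulAction.exists_smul_eq (P n F) S₀ S
    subst hg
    rw [Sylow.smul_def] at hxS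
    have hxS' : g⁻¹ * x * g ∈ S₀ := by
      obtain ⟨y, hy, rfl⟩ := hxS
      simpa [MulDistribMulAction.toMonoidHom, MulAut.smul_def, mul_assoc] using hy
    have hx1 : g⁻¹ * x * g ≠ 1 := by
      intro e
      apply hx
      have := congrArg (fun u => g * u * g⁻¹) e
      simpa [mul_assoc] using this
    obtain ⟨c, hc0, hceq⟩ := hcent _ hx1 hxS' (fun z hz => by
      have h' : Commute x (g * z * g⁻¹) := hc _ ⟨z, hz, rfl⟩
      have := h'.map (MulAut.conj g⁻¹)
      simpa [mul_assoc] using this)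
    obtain ⟨s, rfl⟩ := QuotientGroup.mk_surjective g
    have : x = cj (Matrix.SpecialLinearGroup.toGL s) ((QuotientGroup.mk s : P n F)⁻¹ * x * QuotientGroup.mk s) := by
      rw [← conj_mk, MulAut.conj_apply]; group
    rw [this, hceq]
    exact isTr_cj _ ⟨_, _, flag_single hne one_ne_zero hc0, rfl⟩

theorem isTr_map [Fintype F] (hn : 2 ≤ n) (α : MulAut (P n F)) {x : P n F} (h : IsTr x) : IsTr (α x) := by
  obtain ⟨p, hp⟩ := CharP.exists F
  haveI : Fact p.Prime := ⟨CharP.char_is_prime F p⟩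
  exact (isTr_iff hn p _).2 (centralSylow_map p α ((isTr_iff hn p _).1 h))

end Sylow

/-! ### Point and hyperplane relations -/

/-- `v` spans the point of the transvection `x`. -/
def HasPt (x : P n F) (v : Fin n → F) : Prop := ∃ w, IsFlag v w ∧ x = tv v w

/-- The transvections `x` and `y` have the same point. -/
def SameP (x y : P n F) : Prop := ∃ v, HasPt x v ∧ HasPt y v

/-- The transvections `x` and `y` have the same hyperplane. -/
def SameH (x y : P n F) : Prop := SameP (it x) (it y)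

lemma it_it (x : P n F) : it (it x) = x := by
  induction x using QuotientGroup.induction_on with
  | H s =>
    rw [it_mk, it_mk]
    congr 1
    exact (slInvT (F := F)).symm_apply_apply s

lemma flag_swap {v w : Fin n → F} (h : IsFlag v w) : IsFlag w (-v) :=
  ⟨h.2.1, neg_ne_zero.2 h.1, by rw [neg_dotProduct, dotProduct_comm, h.2.2, neg_zero]⟩

lemma isTr_it {x : P n F} (h : IsTr x) : IsTr (it x) := by
  obtain ⟨v, w, hf, rfl⟩ := h
  exact ⟨w, -v, flag_swap hf, it_tv hf.2.2⟩

lemma hasPt_it {v w : Fin n → F} (h : IsFlag v w) : HasPt (it (tv v w)) w :=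
  ⟨-v, flag_swap h, it_tv h.2.2⟩

lemma HasPt.smul [NeZero n] {x : P n F} {v : Fin n → F} (h : HasPt x v) {c : F} (hc : c ≠ 0) : HasPt x (c • v) := by
  obtain ⟨w, hf, rfl⟩ := h
  have hf' : IsFlag (c • v) (c⁻¹ • w) :=
    ⟨smul_ne_zero hc hf.1, smul_ne_zero (inv_ne_zero hc) hf.2.1, by simp [hf.2.2]⟩
  exact ⟨_, hf', (tv_eq_tv hf hf'.2.2).2 ⟨c, hc, rfl, by rw [smul_smul, mul_inv_cancel₀ hc, one_smul]⟩⟩

lemma HasPt.unique [NeZero n] {x : P n F} {v v' : Fin n → F} (h : HasPt x v) (h' : HasPt x v') :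
    ∃ c : F, c ≠ 0 ∧ v' = c • v := by
  obtain ⟨w, hf, rfl⟩ := h
  obtain ⟨w', hf', e⟩ := h'
  obtain ⟨c, hc, h1, -⟩ := (tv_eq_tv hf hf'.2.2).1 e
  exact ⟨c, hc, h1⟩

lemma SameP.symm {x y : P n F} (h : SameP x y) : SameP y x :=
  let ⟨v, a, b⟩ := h; ⟨v, b, a⟩

lemma SameP.hasPt [NeZero n] {x y : P n F} (h : SameP x y) {v : Fin n → F} (hx : HasPt x v) : HasPt y v := by
  obtain ⟨u, a, b⟩ := h
  obtain ⟨c, hc, rfl⟩ := a.unique hx
  exact b.smul hc

lemma SameP.trans [NeZero n] {x y z : P n F} (h : SameP x y) (h' : SameP y z) : SameP x z := by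
  obtain ⟨v, a, b⟩ := h
  exact ⟨v, a, h'.hasPt b⟩

lemma sameP_refl {x : P n F} (h : IsTr x) : SameP x x :=
  let ⟨v, w, a, b⟩ := h; ⟨v, ⟨w, a, b⟩, w, a, b⟩

lemma SameH.symm {x y : P n F} (h : SameH x y) : SameH y x := SameP.symm h

lemma SameH.trans [NeZero n] {x y z : P n F} (h : SameH x y) (h' : SameH y z) : SameH x z :=
  SameP.trans h h'

lemma sameH_refl {x : P n F} (h : IsTr x) : SameH x x := sameP_refl (isTr_it h)

lemma SameP.left {x y : P n F} (h : SameP x y) : IsTr x :=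
  let ⟨v, ⟨w, a, b⟩, _⟩ := h; ⟨v, w, a, b⟩

lemma SameH.left {x y : P n F} (h : SameH x y) : IsTr x := by
  have := isTr_it (SameP.left h)
  rwa [it_it] at this

lemma sameH_tv {v v' w : Fin n → F} (h : IsFlag v w) (h' : IsFlag v' w) : SameH (tv v w) (tv v' w) :=
  ⟨w, hasPt_it h, hasPt_it h'⟩

lemma SameH.exists_eq [NeZero n] {x y : P n F} (h : SameH x y) {v w : Fin n → F} (hf : IsFlag v w)
    (hx : x = tv v w) : ∃ v', IsFlag v' w ∧ y = tv v' w := by
  have h1 : HasPt (it y) w := SameP.hasPt h (hx ▸ hasPt_it hf)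
  obtain ⟨u, hu, e⟩ := h1
  refine ⟨-u, ⟨neg_ne_zero.2 hu.2.1, hu.1, by rw [dotProduct_neg, dotProduct_comm, hu.2.2, neg_zero]⟩, ?_⟩
  have := congrArg it e
  rw [it_it, it_tv hu.2.2] at this
  rw [this]
  have h2 : IsFlag u (-w) := flag_swap hu
  refine (tv_eq_tv h2 (by rw [dotProduct_neg, dotProduct_comm, hu.2.2, neg_zero])).2 ⟨-1, by simp, by simp, by simp⟩

/-- Two transvections commute and their product is `1` or again a transvection. -/
def Rel (x y : P n F) : Prop := IsTr x ∧ IsTr y ∧ Commute x y ∧ (x * y = 1 ∨ IsTr (x * y))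

lemma Rel.symm {x y : P n F} (h : Rel x y) : Rel y x :=
  ⟨h.2.1, h.1, h.2.2.1.symm, h.2.2.1.eq ▸ h.2.2.2⟩

lemma rel_map [Fintype F] (hn : 2 ≤ n) (α : MulAut (P n F)) {x y : P n F} (h : Rel x y) : Rel (α x) (α y) := by
  obtain ⟨a, b, c, d⟩ := h
  refine ⟨isTr_map hn α a, isTr_map hn α b, c.map α, ?_⟩
  rw [← map_mul]
  rcases d with d | d
  · exact Or.inl (by rw [d, map_one])
  · exact Or.inr (isTr_map hn α d)

lemma SameP.rel [NeZero n] {x y : P n F} (h : SameP x y) : Rel x y := by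
  obtain ⟨v, ⟨w, hf, rfl⟩, w', hf', rfl⟩ := h
  refine ⟨⟨_, _, hf, rfl⟩, ⟨_, _, hf', rfl⟩, ?_, ?_⟩
  · show _ * _ = _ * _
    rw [tv_mul_same_left hf.2.2 hf'.2.2, tv_mul_same_left hf'.2.2 hf.2.2, add_comm]
  · rw [tv_mul_same_left hf.2.2 hf'.2.2]
    have h2 : (w + w') ⬝ᵥ v = 0 := by rw [add_dotProduct, hf.2.2, hf'.2.2, add_zero]
    by_cases h0 : w + w' = 0
    · exact Or.inl ((tv_eq_one_iff h2).2 (Or.inr h0))
    · exact Or.inr ⟨v, _, ⟨hf.1, h0, h2⟩, rfl⟩

lemma SameH.rel [NeZero n] {x y : P n F} (h : SameH x y) : Rel x y := by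
  have h1 := SameP.rel h
  obtain ⟨a, b, c, d⟩ := h1
  have ha := isTr_it a
  have hb := isTr_it b
  rw [it_it] at ha hb
  have hc := c.map (it (n := n) (F := F))
  rw [it_it, it_it] at hc
  refine ⟨ha, hb, hc, ?_⟩
  rcases d with d | d
  · left
    have := congrArg it d
    rwa [map_mul, it_it, it_it, map_one] at this
  · right
    have := isTr_it d
    rwa [map_mul, it_it, it_it] at this

/-- If the points of two commuting transvections differ, each point lies in the other's hyperplane. -/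
lemma commute_indep [NeZero n] {v w v' w' : Fin n → F} (hf : IsFlag v w) (hf' : IsFlag v' w')
    (hc : Commute (tv v w) (tv v' w')) (hind : ∀ c : F, v' ≠ c • v) :
    w ⬝ᵥ v' = 0 ∧ w' ⬝ᵥ v = 0 := by
  have h : (QuotientGroup.mk (tsl v' w' * tsl v w) : P n F) = QuotientGroup.mk (tsl v w * tsl v' w') := by
    rw [QuotientGroup.mk_mul, QuotientGroup.mk_mul]; exact hc.eq.symm
  obtain ⟨l, hl⟩ := mk_eq_mk_iff.1 h
  rw [Matrix.SpecialLinearGroup.coe_mul, Matrix.SpecialLinearGroup.coe_mul, coe_tsl hf.2.2, coe_tsl hf'.2.2] at hl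
  set c := w ⬝ᵥ v' with hcdef
  set c' := w' ⬝ᵥ v with hc'def
  have hv : v + c' • v' + (c' * c) • v = l • (v + c' • v') := by
    have := congrArg (fun M => M *ᵥ v) hl
    simp only [smul_mulVec, ← mulVec_mulVec, tm_mulVec, dotProduct_add, dotProduct_smul, smul_eq_mul,
      hf.2.2, hf'.2.2, ← hcdef, ← hc'def, zero_mul, mul_zero, zero_smul, add_zero, zero_add] at this
    rw [← this]
    try module
  have hzero : ∀ a b : F, a • v + b • v' = 0 → a = 0 ∧ b = 0 := by
    intro a b hab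
    have hb : b = 0 := by
      by_contra hb
      apply hind (-(a / b))
      have : b • v' = -(a • v) := eq_neg_of_add_eq_zero_right hab
      rw [neg_smul, div_eq_inv_mul, mul_smul, ← smul_neg, ← this, smul_smul, inv_mul_cancel₀ hb, one_smul]
    refine ⟨?_, hb⟩
    rw [hb, zero_smul, add_zero] at hab
    exact (smul_eq_zero.1 hab).resolve_right hf.1
  obtain ⟨e1, e2⟩ := hzero (1 + c' * c - l) (c' - l * c') (by
    rw [show (1 + c' * c - l) • v + (c' - l * c') • v' = (v + c' • v' + (c' * c) • v) - l • (v + c' • v') by module,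
      hv, sub_self])
  have hl1 : l = 1 := by
    by_cases hz : c' = 0
    · rw [hz] at e1; linear_combination -e1
    · exact (mul_left_cancel₀ hz (by linear_combination e2)).symm
  subst hl1
  rw [one_smul, tm_mul, tm_mul] at hl
  have hN : c • vecMulVec v w' = c' • vecMulVec v' w := by
    rw [← hcdef, ← hc'def] at hl
    linear_combination (norm := abel) hl
  have hu : ∀ b, (c * w' b) • v + (-(c' * w b)) • v' = 0 := by
    intro b
    ext a
    have := congrFun (congrFun hN a) b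
    simp [vecMulVec_apply] at this
    simp
    linear_combination this
  constructor
  · by_contra hc0
    exact hf'.2.1 (funext fun b => ((mul_eq_zero.1 (hzero _ _ (hu b)).1).resolve_left hc0))
  · by_contra hc0
    exact hf.2.1 (funext fun b => ((mul_eq_zero.1 (neg_eq_zero.1 (hzero _ _ (hu b)).2)).resolve_left hc0))

/-- A vector orthogonal to two given ones. -/
lemma exists_orth (hn : 3 ≤ n) (a b : Fin n → F) : ∃ u : Fin n → F, u ≠ 0 ∧ u ⬝ᵥ a = 0 ∧ u ⬝ᵥ b = 0 := by
  let f : (Fin n → F) →ₗ[F] F × F :=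
    { toFun := fun u => (u ⬝ᵥ a, u ⬝ᵥ b)
      map_add' := fun x y => by simp [add_dotProduct]
      map_smul' := fun r x => by simp [smul_dotProduct] }
  have hker : LinearMap.ker f ≠ ⊥ := by
    apply LinearMap.ker_ne_bot_of_finrank_lt
    simp
    omega
  obtain ⟨u, hu, hu0⟩ := Submodule.exists_mem_ne_zero_of_ne_bot hker
  exact ⟨u, hu0, congrArg Prod.fst hu, congrArg Prod.snd hu⟩

lemma rel_cases (hn : 2 ≤ n) {x y : P n F} (h : Rel x y) : SameP x y ∨ SameH x y := by
  haveI : NeZero n := ⟨by omega⟩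
  obtain ⟨⟨v, w, hf, rfl⟩, ⟨v', w', hf', rfl⟩, hc, hprod⟩ := h
  by_cases hP : ∃ c : F, v' = c • v
  · obtain ⟨c, rfl⟩ := hP
    left
    have hc0 : c ≠ 0 := fun e => hf'.1 (by rw [e, zero_smul])
    exact ⟨c • v, HasPt.smul ⟨w, hf, rfl⟩ hc0, w', hf', rfl⟩
  push Not at hP
  by_cases hH : ∃ c : F, w' = c • w
  · obtain ⟨c, rfl⟩ := hH
    right
    have hc0 : c ≠ 0 := fun e => hf'.2.1 (by rw [e, zero_smul])
    exact ⟨c • w, (hasPt_it hf).smul hc0, hasPt_it hf'⟩
  push Not at hH
  exfalso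
  obtain ⟨h1, h2⟩ := commute_indep hf hf' hc hP
  set N := vecMulVec v w + vecMulVec v' w' with hN
  have hNN : N * N = 0 := by
    simp [hN, mul_add, add_mul, vecMulVec_mul_vecMulVec, hf.2.2, hf'.2.2, h1, h2]
  have hprodmat : ((tsl v w * tsl v' w' : Matrix.SpecialLinearGroup (Fin n) F) : Matrix (Fin n) (Fin n) F) = 1 + N := by
    rw [Matrix.SpecialLinearGroup.coe_mul, coe_tsl hf.2.2, coe_tsl hf'.2.2, tm_mul, h1, zero_smul, add_zero, hN, add_assoc]
  obtain ⟨v'', w'', hd, hNeq⟩ : ∃ v'' w'' : Fin n → F, w'' ⬝ᵥ v'' = 0 ∧ N = vecMulVec v'' w'' := by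
    rcases hprod with hp | ⟨v'', w'', hf'', hp⟩
    · refine ⟨0, 0, by simp, ?_⟩
      have hp' : (QuotientGroup.mk (tsl v w * tsl v' w') : P n F) = QuotientGroup.mk (1 : Matrix.SpecialLinearGroup (Fin n) F) := by
        rw [QuotientGroup.mk_mul, QuotientGroup.mk_one]; exact hp
      obtain ⟨l, hl⟩ := mk_eq_mk_iff.1 hp'
      rw [hprodmat, Matrix.SpecialLinearGroup.coe_one] at hl
      have := (eq_one_of_sq_zero (M := 0) (by simp) hNN (l := l) (by rw [add_zero]; exact hl)).2
      simpa using this.symm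
    · refine ⟨v'', w'', hf''.2.2, ?_⟩
      have hp' : (QuotientGroup.mk (tsl v w * tsl v' w') : P n F) = QuotientGroup.mk (tsl v'' w'') := by
        rw [QuotientGroup.mk_mul]; exact hp
      obtain ⟨l, hl⟩ := mk_eq_mk_iff.1 hp'
      rw [hprodmat, coe_tsl hf''.2.2, tm] at hl
      exact (eq_one_of_sq_zero (vecMulVec_sq hf''.2.2) hNN hl).2.symm
  obtain ⟨j, hj⟩ : ∃ j, w j ≠ 0 := Function.ne_iff.1 hf.2.1
  obtain ⟨k, hk⟩ : ∃ k, w' k ≠ (w' j / w j) * w k :=
    Function.ne_iff.1 (hH (w' j / w j))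
  set u : Fin n → F := w j • Pi.single k 1 - w k • Pi.single j 1 with hu
  have hwu : w ⬝ᵥ u = 0 := by simp [hu, dotProduct_sub]; ring
  have hw'u : w' ⬝ᵥ u ≠ 0 := by
    simp [hu, dotProduct_sub, sub_ne_zero]
    intro e
    apply hk
    field_simp
    linear_combination e
  have e1 := congrArg (fun M => M *ᵥ u) hNeq
  simp [hN, add_mulVec, vecMulVec_mulVec, hwu, op_smul_eq_smul] at e1
  obtain ⟨i, hi⟩ : ∃ i, w' i ≠ 0 := Function.ne_iff.1 hf'.2.1
  have hwu2 : w'' ⬝ᵥ u ≠ 0 := by
    intro e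
    rw [e, zero_smul] at e1
    exact hf'.1 ((smul_eq_zero.1 e1).resolve_left hw'u)
  apply hP (w j / (w'' j * (w' ⬝ᵥ u) / (w'' ⬝ᵥ u) - w' j))
  have hv'' : v'' = ((w' ⬝ᵥ u) / (w'' ⬝ᵥ u)) • v' := by
    rw [div_eq_inv_mul, mul_smul, e1, smul_smul, inv_mul_cancel₀ hwu2, one_smul]
  have e3 : w j • v = (w'' j * (w' ⬝ᵥ u) / (w'' ⬝ᵥ u) - w' j) • v' := by
    ext a
    have e2 := congrFun (congrFun hNeq a) j
    simp only [hN, Matrix.add_apply, vecMulVec_apply, hv'', Pi.smul_apply, smul_eq_mul] at e2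
    simp only [Pi.smul_apply, smul_eq_mul]
    linear_combination e2
  have hne : w'' j * (w' ⬝ᵥ u) / (w'' ⬝ᵥ u) - w' j ≠ 0 := by
    intro e
    rw [e, zero_smul] at e3
    exact smul_ne_zero hj hf.1 e3
  rw [div_eq_inv_mul, mul_smul, e3, smul_smul, inv_mul_cancel₀ hne, one_smul]

lemma triangle (hn : 2 ≤ n) {x y z : P n F} (hxy : Rel x y) (hyz : Rel y z) (hxz : Rel x z) :
    (SameP x y ∧ SameP x z) ∨ (SameH x y ∧ SameH x z) := by
  haveI : NeZero n := ⟨by omega⟩
  rcases rel_cases hn hxy with a | a <;> rcases rel_cases hn hxz with c | c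
  · exact Or.inl ⟨a, c⟩
  · rcases rel_cases hn hyz with b | b
    · exact Or.inl ⟨a, a.trans b⟩
    · exact Or.inr ⟨c.trans b.symm, c⟩
  · rcases rel_cases hn hyz with b | b
    · exact Or.inl ⟨c.trans b.symm, c⟩
    · exact Or.inr ⟨a, a.trans b⟩
  · exact Or.inr ⟨a, c⟩

/-- A second transvection with the same point and another hyperplane, and one the other way round. -/
lemma exists_sep (hn : 3 ≤ n) {x : P n F} (hx : IsTr x) :
    ∃ y z, SameP x y ∧ ¬ SameH x y ∧ SameH x z ∧ ¬ SameP x z ∧ ¬ Rel y z := by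
  haveI : NeZero n := ⟨by omega⟩
  obtain ⟨v, w, hf, rfl⟩ := hx
  obtain ⟨j, hj⟩ : ∃ j, w j ≠ 0 := Function.ne_iff.1 hf.2.1
  obtain ⟨i, hi⟩ : ∃ i, v i ≠ 0 := Function.ne_iff.1 hf.1
  obtain ⟨w', hw', h1, h2⟩ := exists_orth hn v (Pi.single j 1)
  obtain ⟨v', hv', h3, h4⟩ := exists_orth hn w (Pi.single i 1)
  have hj' : w' j = 0 := by simpa using h2
  have hi' : v' i = 0 := by simpa using h4
  have hfy : IsFlag v w' := ⟨hf.1, hw', h1⟩
  have hfz : IsFlag v' w := ⟨hv', hf.2.1, by rw [dotProduct_comm]; exact h3⟩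
  have hP : SameP (tv v w) (tv v w') := ⟨v, ⟨w, hf, rfl⟩, w', hfy, rfl⟩
  have hH : SameH (tv v w) (tv v' w) := sameH_tv hf hfz
  have hnH : ¬ SameH (tv v w) (tv v w') := by
    intro h
    obtain ⟨c, hc, e⟩ := (hasPt_it hfy).unique (SameP.hasPt h (hasPt_it hf))
    apply hj
    rw [e]
    simp [hj']
  have hnP : ¬ SameP (tv v w) (tv v' w) := by
    intro h
    obtain ⟨c, hc, e⟩ := HasPt.unique ⟨w, hfz, rfl⟩ (h.hasPt ⟨w, hf, rfl⟩)
    apply hi
    rw [e]
    simp [hi']
  refine ⟨_, _, hP, hnH, hH, hnP, fun h => ?_⟩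
  rcases rel_cases (by omega) h with a | a
  · exact hnP (hP.trans a)
  · exact hnH (hH.trans a.symm)

section Dichotomy

variable [Fintype F]

/-- `α` sends the class of transvections with the point of `x` into the class of those with the point of `α x`. -/
def PreservesAt (α : MulAut (P n F)) (x : P n F) : Prop := ∀ y, SameP x y → SameP (α x) (α y)

lemma point_class_dichotomy (hn : 3 ≤ n) (α : MulAut (P n F)) {x : P n F} (hx : IsTr x) :
    PreservesAt α x ∨ ∀ y, SameP x y → SameH (α x) (α y) := by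
  haveI : NeZero n := ⟨by omega⟩
  have hn2 : 2 ≤ n := by omega
  obtain ⟨z, -, hxz, hnH, -, -, -⟩ := exists_sep hn hx
  have hrel : ∀ y, SameP x y → (SameP (α x) (α z) ∧ SameP (α x) (α y)) ∨ (SameH (α x) (α z) ∧ SameH (α x) (α y)) :=
    fun y hy => triangle hn2 (rel_map hn2 α hxz.rel) (rel_map hn2 α (hxz.symm.trans hy).rel) (rel_map hn2 α hy.rel)
  by_cases hb : SameP (α x) (α z) ∧ SameH (α x) (α z)
  · exfalso
    obtain ⟨y1, y2, h1, -, h2, -, hR⟩ := exists_sep hn (isTr_map hn2 α hx)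
    have hpre : ∀ u, Rel (α x) u → Rel (α z) u → SameP x (α.symm u) := by
      intro u hu hu'
      have r1 := rel_map hn2 α.symm hu
      have r2 := rel_map hn2 α.symm hu'
      rw [MulEquiv.symm_apply_apply] at r1 r2
      rcases triangle hn2 hxz.rel r2 r1 with t | t
      · exact t.2
      · exact absurd t.1 hnH
    have p1 := hpre y1 h1.rel (hb.1.symm.trans h1).rel
    have p2 := hpre y2 h2.rel (hb.2.symm.trans h2).rel
    have := rel_map hn2 α (p1.symm.trans p2).rel
    rw [MulEquiv.apply_symm_apply, MulEquiv.apply_symm_apply] at this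
    exact hR this
  · rcases rel_cases hn2 (rel_map hn2 α hxz.rel) with a | a
    · left
      intro y hy
      rcases hrel y hy with t | t
      · exact t.2
      · exact absurd ⟨a, t.1⟩ hb
    · right
      intro y hy
      rcases hrel y hy with t | t
      · exact absurd ⟨t.1, a⟩ hb
      · exact t.2

lemma not_both (hn : 3 ≤ n) (α : MulAut (P n F)) {x : P n F} (hx : IsTr x) :
    ¬ (PreservesAt α x ∧ ∀ y, SameH x y → SameP (α x) (α y)) := by
  haveI : NeZero n := ⟨by omega⟩
  rintro ⟨h1, h2⟩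
  obtain ⟨y, z, hy, -, hz, -, hR⟩ := exists_sep hn hx
  have := rel_map (by omega) α.symm ((h1 y hy).symm.trans (h2 z hz)).rel
  rw [MulEquiv.symm_apply_apply, MulEquiv.symm_apply_apply] at this
  exact hR this

lemma hyperplane_class_dichotomy (hn : 3 ≤ n) (α : MulAut (P n F)) {x : P n F} (hx : IsTr x) :
    (∀ y, SameH x y → SameH (α x) (α y)) ∨ ∀ y, SameH x y → SameP (α x) (α y) := by
  rcases point_class_dichotomy hn (α * it) (isTr_it hx) with h | h
  · right
    intro y hy
    have := h (it y) hy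
    simpa [MulAut.mul_apply, it_it] using this
  · left
    intro y hy
    have := h (it y) hy
    simpa [MulAut.mul_apply, it_it] using this

lemma preservesAt_sameP (hn : 3 ≤ n) (α : MulAut (P n F)) {x y : P n F} (hxy : SameP x y)
    (h : PreservesAt α x) : PreservesAt α y := by
  haveI : NeZero n := ⟨by omega⟩
  exact fun u hu => (h y hxy).symm.trans (h u (hxy.trans hu))

lemma preservesAt_sameH (hn : 3 ≤ n) (α : MulAut (P n F)) {x y : P n F} (hxy : SameH x y)
    (h : PreservesAt α x) : PreservesAt α y := by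
  haveI : NeZero n := ⟨by omega⟩
  have hx : IsTr x := hxy.left
  have hy : IsTr y := hxy.symm.left
  rcases point_class_dichotomy hn α hy with h' | h'
  · exact h'
  exfalso
  rcases hyperplane_class_dichotomy hn α hy with g | g
  · apply not_both hn (it * α) hy
    exact ⟨h', g⟩
  · exact not_both hn α hx ⟨h, fun u hu => (g x hxy.symm).symm.trans (g u (hxy.symm.trans hu))⟩

lemma preservesAt_all (hn : 3 ≤ n) (α : MulAut (P n F)) {x y : P n F} (hx : IsTr x) (hy : IsTr y)
    (h : PreservesAt α x) : PreservesAt α y := by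
  haveI : NeZero n := ⟨by omega⟩
  obtain ⟨v, w, hf, rfl⟩ := hx
  obtain ⟨v', w', hf', rfl⟩ := hy
  obtain ⟨u, hu, h1, h2⟩ := exists_orth hn v v'
  have f1 : IsFlag v u := ⟨hf.1, hu, h1⟩
  have f2 : IsFlag v' u := ⟨hf'.1, hu, h2⟩
  exact preservesAt_sameP hn α ⟨v', ⟨u, f2, rfl⟩, w', hf', rfl⟩
    (preservesAt_sameH hn α (sameH_tv f1 f2)
      (preservesAt_sameP hn α ⟨v, ⟨w, hf, rfl⟩, u, f1, rfl⟩ h))

/-- `α` preserves both relations. -/
def Preserves (α : MulAut (P n F)) : Prop :=
  (∀ x y, SameP x y → SameP (α x) (α y)) ∧ ∀ x y, SameH x y → SameH (α x) (α y)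

lemma preserves_of_point (hn : 3 ≤ n) (α : MulAut (P n F))
    (h : ∀ x y, SameP x y → SameP (α x) (α y)) : Preserves α := by
  refine ⟨h, fun x y hxy => ?_⟩
  rcases hyperplane_class_dichotomy hn α hxy.left with g | g
  · exact g y hxy
  · exact absurd ⟨h x, g⟩ (not_both hn α hxy.left)

theorem preserves_or_swap (hn : 3 ≤ n) (α : MulAut (P n F)) : Preserves α ∨ Preserves (it * α) := by
  by_cases h : ∃ x : P n F, IsTr x ∧ PreservesAt α x
  · obtain ⟨x, hx, hp⟩ := h
    exact Or.inl (preserves_of_point hn α fun y z hyz => preservesAt_all hn α hx hyz.left hp z hyz)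
  · refine Or.inr (preserves_of_point hn (it * α) fun y z hyz => ?_)
    rcases point_class_dichotomy hn α hyz.left with g | g
    · exact absurd ⟨y, hyz.left, g⟩ h
    · exact g z hyz

theorem preserves_inv (hn : 3 ≤ n) {α : MulAut (P n F)} (h : Preserves α) : Preserves α⁻¹ := by
  refine preserves_of_point hn _ fun x y hxy => ?_
  rcases point_class_dichotomy hn α⁻¹ hxy.left with g | g
  · exact g y hxy
  · exfalso
    refine not_both hn (it : MulAut (P n F)) hxy.left ⟨fun u hu => ?_, fun u hu => hu⟩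
    have := h.2 _ _ (g u hu)
    simp only [MulAut.apply_inv_self] at this
    exact this

end Dichotomy

end Cfsg.Agent.AutPSLGeometry
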