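import Mathlib
import Cfsg.Agent.Lib.AutPSLBasic
import Cfsg.Agent.Lib.AutPSLGeometry

/-!
The automorphism group of `PSL n F` for a finite field `F`: every automorphism is `cj g * fd σ`, followed by
inverse-transpose if need be.
-/

set_option autoImplicit false

namespace Cfsg.Agent.AutPSLMain

open Matrix
open Cfsg.Agent.AutPSLBasic Cfsg.Agent.AutPSLGeometry
open scoped MatrixGroups

variable {n : ℕ} {F : Type*} [Field F]

/-- The root element `x_ij(c)`. -/
noncomputable def xr (i j : Fin n) (c : F) : P n F := tv (Pi.single i (1 : F)) (Pi.single j c)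

lemma dot_xr {i j : Fin n} (h : i ≠ j) (c : F) :
    (Pi.single j c : Fin n → F) ⬝ᵥ Pi.single i 1 = 0 := by
  simp [Pi.single_eq_of_ne h]

lemma xr_eq_one_iff [NeZero n] {i j : Fin n} (h : i ≠ j) (c : F) : xr i j c = 1 ↔ c = 0 := by
  rw [xr, tv_eq_one_iff (dot_xr h c)]
  simp

lemma hasPt_xr {i j : Fin n} (h : i ≠ j) {c : F} (hc : c ≠ 0) : HasPt (xr i j c) (Pi.single i (1 : F)) :=
  ⟨_, flag_single h one_ne_zero hc, rfl⟩

lemma isTr_xr {i j : Fin n} (h : i ≠ j) {c : F} (hc : c ≠ 0) : IsTr (xr i j c) :=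
  ⟨_, _, flag_single h one_ne_zero hc, rfl⟩

lemma xr_add {i j : Fin n} (h : i ≠ j) (a b : F) : xr i j a * xr i j b = xr i j (a + b) := by
  rw [xr, xr, xr, tv_mul_same_left (dot_xr h a) (dot_xr h b), Pi.single_add]

lemma xr_zero [NeZero n] {i j : Fin n} (h : i ≠ j) : xr i j (0 : F) = 1 := (xr_eq_one_iff h 0).2 rfl

lemma xr_inj [NeZero n] {i j : Fin n} (h : i ≠ j) {a b : F} (e : xr i j a = xr i j b) : a = b := by
  have h1 : xr i j (a - b) * xr i j b = xr i j b := by rw [xr_add h, sub_add_cancel, e]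
  exact sub_eq_zero.1 ((xr_eq_one_iff h _).1 (mul_eq_right.1 h1))

lemma mk_transvection {i j : Fin n} (h : i ≠ j) (c : F) :
    (QuotientGroup.mk (Matrix.SpecialLinearGroup.transvection h c) : P n F) = xr i j c := by
  rw [xr, tv]
  congr 1
  apply Subtype.ext
  rw [coe_tsl (dot_xr h c)]
  ext a b
  simp [Matrix.SpecialLinearGroup.transvection_coe, tm, vecMulVec_apply, Matrix.single_apply, Pi.single_apply]
  by_cases ha : a = i <;> by_cases hb : b = j <;> simp_all [eq_comm]

lemma xr_commutator {i j k : Fin n} (hij : i ≠ j) (hjk : j ≠ k) (hik : i ≠ k) (s t : F) :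
    xr i j s * xr j k t = xr i k (s * t) * xr j k t * xr i j s := by
  rw [← mk_transvection hij, ← mk_transvection hjk, ← mk_transvection hik, ← QuotientGroup.mk_mul,
    ← QuotientGroup.mk_mul, ← QuotientGroup.mk_mul]
  congr 1
  apply Subtype.ext
  simp [Matrix.SpecialLinearGroup.transvection_coe, mul_add, add_mul, hij.symm, hjk.symm, hik.symm,
    Matrix.single_mul_single_of_ne]
  abel

lemma diag2n_decompose {i j : Fin n} (h : i ≠ j) (a : F) (ha : a ≠ 0) :
    Matrix.SpecialLinearGroup.diag2n h a ha =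
      Matrix.SpecialLinearGroup.transvection h a * Matrix.SpecialLinearGroup.transvection h.symm (-a⁻¹) *
      Matrix.SpecialLinearGroup.transvection h a *
      Matrix.SpecialLinearGroup.transvection h (-1) * Matrix.SpecialLinearGroup.transvection h.symm 1 *
      Matrix.SpecialLinearGroup.transvection h (-1) := by
  apply Subtype.ext
  simp [Matrix.SpecialLinearGroup.transvection_coe, mul_add, add_mul, h, h.symm,
    Matrix.single_mul_single_of_ne, Matrix.single_mul_single_same, ha, Matrix.SpecialLinearGroup.diag2n_coe]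
  ext k l
  simp [Matrix.single_apply, Matrix.diagonal_apply, Matrix.one_apply]
  by_cases hki : k = i
  · by_cases hli : l = i
    · simp [hki, hli, h, h.symm, ha]; try ring
    · by_cases hlj : l = j
      · simp [hki, hlj, h, h.symm, ha]; try ring
      · simp [hki, hli, hlj, h, h.symm, ha, Ne.symm hli, Ne.symm hlj]
  · by_cases hkj : k = j
    · by_cases hli : l = i
      · simp [hkj, hli, h, h.symm, ha]; try ring
      · by_cases hlj : l = j
        · simp [hkj, hlj, h, h.symm, ha]; try ring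
        · simp [hkj, hli, hlj, h, h.symm, ha, Ne.symm hli, Ne.symm hlj]
    · simp [hki, hkj, Ne.symm hki, Ne.symm hkj]

lemma ext_of_xr (hn : 2 ≤ n) {α β : MulAut (P n F)}
    (h : ∀ i j : Fin n, i ≠ j → ∀ c : F, α (xr i j c) = β (xr i j c)) : α = β := by
  haveI : Nontrivial (Fin n) := Fin.nontrivial_iff_two_le.2 hn
  apply MulEquiv.ext
  intro x
  obtain ⟨s, rfl⟩ := QuotientGroup.mk_surjective x
  refine Matrix.SpecialLinearGroup.diagonal_transvection_induction'
    (fun s => α (QuotientGroup.mk s) = β (QuotientGroup.mk s)) s ?_ ?_ ?_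
  · intro i j hij c hc
    simp only [diag2n_decompose hij c hc, QuotientGroup.mk_mul, map_mul, mk_transvection hij,
      mk_transvection hij.symm, h i j hij, h j i hij.symm]
  · intro i j hij a
    rw [mk_transvection hij, h i j hij]
  · intro A B hA hB
    rw [QuotientGroup.mk_mul, map_mul, map_mul, hA, hB]

lemma fd_xr (σ : F ≃+* F) {i j : Fin n} (h : i ≠ j) (c : F) : fd σ (xr i j c) = xr i j (σ c) := by
  rw [xr, xr, fd_tv σ (dot_xr h c)]
  congr 1 <;> ext k <;> simp only [Function.comp_apply, Pi.single_apply] <;> split_ifs <;> simp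

lemma it_xr [NeZero n] {i j : Fin n} (h : i ≠ j) (c : F) : it (xr i j c) = xr j i (-c) := by
  rw [xr, xr, it_tv (dot_xr h c)]
  rcases eq_or_ne c 0 with rfl | hc
  · rw [(tv_eq_one_iff (by simp)).2 (Or.inl (by simp)), (tv_eq_one_iff (by simp)).2 (Or.inr (by simp))]
  have h2 : IsFlag (Pi.single j c : Fin n → F) (-Pi.single i 1) := flag_swap (flag_single h one_ne_zero hc)
  refine (tv_eq_tv h2 (dot_xr h.symm _)).2 ⟨c⁻¹, inv_ne_zero hc, ?_, ?_⟩
  · ext k; by_cases hk : k = j <;> simp [Pi.single_apply, hc, hk]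
  · ext k; by_cases hk : k = i <;> simp [Pi.single_apply, hc, hk]

/-! ### Relations between the three kinds of automorphisms -/

lemma it_mul_it : (it : MulAut (P n F)) * it = 1 :=
  MulEquiv.ext fun x => it_it x

lemma fd_mul_cj (σ : F ≃+* F) (g : GL (Fin n) F) :
    (fd σ : MulAut (P n F)) * cj g = cj (Matrix.GeneralLinearGroup.map (σ : F →+* F) g) * fd σ := by
  apply MulEquiv.ext
  intro x
  induction x using QuotientGroup.induction_on with
  | H s =>
    simp only [MulAut.mul_apply, cj_mk, fd_mk]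
    congr 1
    apply Subtype.ext
    rw [coe_slField, coe_slConj, coe_slConj, coe_slField, Matrix.map_mul, Matrix.map_mul, ← map_inv]
    rfl

/-- The inverse transpose of an invertible matrix. -/
def glInvT (g : GL (Fin n) F) : GL (Fin n) F where
  val := ((g⁻¹ : GL (Fin n) F) : Matrix (Fin n) (Fin n) F)ᵀ
  inv := (g : Matrix (Fin n) (Fin n) F)ᵀ
  val_inv := by rw [← transpose_mul, Units.mul_inv, transpose_one]
  inv_val := by rw [← transpose_mul, Units.inv_mul, transpose_one]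

lemma it_mul_cj (g : GL (Fin n) F) : (it : MulAut (P n F)) * cj g = cj (glInvT g) * it := by
  apply MulEquiv.ext
  intro x
  induction x using QuotientGroup.induction_on with
  | H s =>
    simp only [MulAut.mul_apply, cj_mk, it_mk]
    congr 1
    apply Subtype.ext
    rw [coe_slInvT, ← map_inv, coe_slConj, coe_slConj, coe_slInvT, transpose_mul, transpose_mul, ← mul_assoc]
    rfl

lemma it_mul_fd (σ : F ≃+* F) : (it : MulAut (P n F)) * fd σ = fd σ * it := by
  apply MulEquiv.ext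
  intro x
  induction x using QuotientGroup.induction_on with
  | H s =>
    simp only [MulAut.mul_apply, fd_mk, it_mk]
    congr 1
    apply Subtype.ext
    rw [coe_slInvT, ← map_inv, coe_slField, coe_slField, coe_slInvT, transpose_map]

/-! ### Rigidity -/

/-- An invertible diagonal matrix. -/
def gdiag (d : Fin n → Fˣ) : GL (Fin n) F where
  val := diagonal fun i => (d i : F)
  inv := diagonal fun i => ((d i)⁻¹ : Fˣ)
  val_inv := by simp [diagonal_mul_diagonal]
  inv_val := by simp [diagonal_mul_diagonal]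

lemma cj_gdiag_xr [NeZero n] (d : Fin n → Fˣ) {i j : Fin n} (h : i ≠ j) (c : F) :
    cj (gdiag d) (xr i j c) = xr i j (d i * c / d j) := by
  rw [xr, cj_tv _ (dot_xr h c)]
  rcases eq_or_ne c 0 with rfl | hc
  · rw [Pi.single_zero, zero_vecMul, mul_zero, zero_div, xr, Pi.single_zero]
    rw [(tv_eq_one_iff (by simp)).2 (Or.inr rfl), (tv_eq_one_iff (by simp)).2 (Or.inr rfl)]
  have hv : ((gdiag d : GL (Fin n) F) : Matrix (Fin n) (Fin n) F) *ᵥ Pi.single i 1 = (d i : F) • Pi.single i 1 := by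
    ext k
    simp [gdiag, mulVec_diagonal, Pi.single_apply]
    split_ifs with e <;> simp [e]
  have hw : (Pi.single j c : Fin n → F) ᵥ* (((gdiag d)⁻¹ : GL (Fin n) F) : Matrix (Fin n) (Fin n) F) =
      Pi.single j (c / d j) := by
    ext k
    show ((Pi.single j c : Fin n → F) ᵥ* (diagonal fun i => (((d i)⁻¹ : Fˣ) : F))) k = _
    simp [vecMul_diagonal, Pi.single_apply]
    split_ifs with e <;> simp [e, div_eq_mul_inv]
  rw [hv, hw, xr]
  refine ((tv_eq_tv (flag_single h one_ne_zero ?_) ?_).2 ⟨(d i : F), (d i).ne_zero, rfl, ?_⟩).symm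
  · simp [hc]
  · simp [Pi.single_eq_of_ne h]
  · ext k; simp [Pi.single_apply, mul_div_assoc]

lemma exists_ringEquiv [Finite F] (f : F → F) (h1 : f 1 = 1) (hadd : ∀ a b, f (a + b) = f a + f b)
    (hmul : ∀ a b, f (a * b) = f a * f b) : ∃ σ : F ≃+* F, ∀ a, σ a = f a := by
  have h0 : f 0 = 0 := by simpa using hadd 0 0
  let φ : F →+* F := { toFun := f, map_one' := h1, map_mul' := hmul, map_zero' := h0, map_add' := hadd }
  exact ⟨RingEquiv.ofBijective φ ⟨φ.injective, Finite.injective_iff_surjective.1 φ.injective⟩, fun a => rfl⟩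

lemma f_props [NeZero n] (β : MulAut (P n F)) {f : Fin n → Fin n → F → F}
    (hf : ∀ i j : Fin n, i ≠ j → ∀ c, β (xr i j c) = xr i j (f i j c)) {i j : Fin n} (h : i ≠ j) :
    (∀ a b, f i j (a + b) = f i j a + f i j b) ∧ f i j 0 = 0 ∧ (∀ c, c ≠ 0 → f i j c ≠ 0) := by
  refine ⟨fun a b => xr_inj h ?_, xr_inj h ?_, fun c hc e => hc ?_⟩
  · rw [← hf i j h, ← xr_add h, map_mul, hf i j h, hf i j h, xr_add h]
  · rw [← hf i j h, xr_zero h, map_one]
  · have := hf i j h c
    rw [e, xr_zero h, map_eq_one_iff _ β.injective] at this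
    exact (xr_eq_one_iff h c).1 this

theorem rigid_three [Fintype F] (hn : 3 ≤ n) (α : MulAut (P n F)) (hα : Preserves α) :
    ∃ (g : GL (Fin n) F) (σ : F ≃+* F), α = cj g * fd σ := by
  classical
  haveI : NeZero n := ⟨by omega⟩
  haveI : Nontrivial (Fin n) := Fin.nontrivial_iff_two_le.2 (by omega)
  have hn2 : 2 ≤ n := by omega
  choose o ho using fun i : Fin n => exists_ne i
  have hpt : ∀ i : Fin n, ∃ v, HasPt (α (xr i (o i) (1 : F))) v := fun i => by
    obtain ⟨v, w, hf, e⟩ := isTr_map hn2 α (isTr_xr (ho i).symm (one_ne_zero (α := F)))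
    exact ⟨v, w, hf, e⟩
  choose v hv using hpt
  have hpt' : ∀ i j : Fin n, i ≠ j → ∀ c : F, c ≠ 0 → HasPt (α (xr i j c)) (v i) := fun i j h c hc =>
    (hα.1 _ _ ⟨_, hasPt_xr (ho i).symm one_ne_zero, hasPt_xr h hc⟩).hasPt (hv i)
  have hhy : ∀ j : Fin n, ∃ w, HasPt (it (α (xr (o j) j (1 : F)))) w := fun j => by
    obtain ⟨v, w, hf, e⟩ := isTr_map hn2 α (isTr_xr (ho j) (one_ne_zero (α := F)))
    exact ⟨w, by rw [e]; exact hasPt_it hf⟩
  choose w hw using hhy
  have hhy' : ∀ i j : Fin n, i ≠ j → ∀ c : F, c ≠ 0 → HasPt (it (α (xr i j c))) (w j) := by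
    intro i j h c hc
    refine SameP.hasPt (hα.2 _ _ ?_) (hw j)
    have e1 : ∀ (i : Fin n), i ≠ j → ∀ c : F, c ≠ 0 → HasPt (it (xr i j c)) (Pi.single j (1 : F)) := by
      intro i h c hc
      have := (hasPt_it (flag_single h one_ne_zero hc)).smul (inv_ne_zero hc)
      simpa [← Pi.single_smul, hc, xr] using this
    exact ⟨_, e1 _ (ho j) 1 one_ne_zero, e1 i h c hc⟩
  have himg : ∀ i j : Fin n, i ≠ j → ∀ c : F, c ≠ 0 →
      ∃ k : F, IsFlag (v i) (k • w j) ∧ α (xr i j c) = tv (v i) (k • w j) := by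
    intro i j h c hc
    obtain ⟨u, hf, e⟩ := hpt' i j h c hc
    obtain ⟨k, hk, hk'⟩ := HasPt.unique (hhy' i j h c hc) (e ▸ hasPt_it hf)
    exact ⟨k, hk' ▸ hf, hk' ▸ e⟩
  have hoff : ∀ i j : Fin n, i ≠ j → w j ⬝ᵥ v i = 0 := by
    intro i j h
    obtain ⟨k, hf, -⟩ := himg i j h 1 one_ne_zero
    have h2 := hf.2.2
    rw [smul_dotProduct, smul_eq_mul] at h2
    rcases mul_eq_zero.1 h2 with e | e
    · exact absurd (by rw [e, zero_smul]) hf.2.1
    · exact e
  have hdiag : ∀ j : Fin n, w j ⬝ᵥ v j ≠ 0 := by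
    intro j e
    obtain ⟨k, hf1, e1⟩ := himg j (o j) (ho j).symm 1 one_ne_zero
    obtain ⟨k', hf2, e2⟩ := himg (o j) j (ho j) 1 one_ne_zero
    have hf : IsFlag (v j) (k' • w j) := ⟨hf1.1, hf2.2.1, by rw [smul_dotProduct, e, smul_zero]⟩
    have hinv := preserves_inv hn hα
    have hP : SameP (tv (v j) (k' • w j)) (α (xr j (o j) (1 : F))) := ⟨v j, ⟨_, hf, rfl⟩, ⟨_, hf1, e1⟩⟩
    have hH : SameH (tv (v j) (k' • w j)) (α (xr (o j) j (1 : F))) := by
      rw [e2]; exact sameH_tv hf hf2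
    have p := hinv.1 _ _ hP
    have q := hinv.2 _ _ hH
    rw [MulAut.inv_apply_self] at p q
    obtain ⟨u, hfu, eu⟩ := p.symm.hasPt (hasPt_xr (ho j).symm (one_ne_zero (α := F)))
    obtain ⟨u', hfu', eu'⟩ := SameH.exists_eq q hfu eu
    obtain ⟨c, hc, -, hc2⟩ := (tv_eq_tv (flag_single (ho j) one_ne_zero one_ne_zero) hfu'.2.2).1 eu'
    have h3 := hfu.2.2
    rw [dotProduct_single, mul_one] at h3
    have := congrFun hc2 j
    simp [h3] at this
  let M : Matrix (Fin n) (Fin n) F := Matrix.of fun a i => v i a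
  have hwM : ∀ j, w j ᵥ* M = Pi.single j (w j ⬝ᵥ v j) := by
    intro j
    ext i
    show w j ⬝ᵥ v i = _
    rcases eq_or_ne i j with rfl | h
    · simp
    · simp [h, hoff i j h]
  have hMinj : Function.Injective M.mulVec := by
    intro y y' hyy
    funext j
    have := congrArg (fun u => w j ⬝ᵥ u) hyy
    simp only [dotProduct_mulVec, hwM, single_dotProduct] at this
    exact mul_left_cancel₀ (hdiag j) this
  obtain ⟨g, hg⟩ := Matrix.mulVec_injective_iff_isUnit.1 hMinj
  set β := (cj g)⁻¹ * α with hβ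
  have hβx : ∀ i j : Fin n, i ≠ j → ∀ c : F, ∃ c', β (xr i j c) = xr i j c' := by
    intro i j h c
    rcases eq_or_ne c 0 with rfl | hc
    · exact ⟨0, by rw [xr_zero h, map_one]⟩
    obtain ⟨k, hf, e⟩ := himg i j h c hc
    refine ⟨k * (w j ⬝ᵥ v j), ?_⟩
    rw [hβ, MulAut.mul_apply, e, ← map_inv, cj_tv _ hf.2.2, inv_inv, xr]
    congr 1
    · rw [show v i = (g : Matrix (Fin n) (Fin n) F) *ᵥ Pi.single i 1 by rw [hg, mulVec_single_one]; rfl,
        mulVec_mulVec, Units.inv_mul, one_mulVec]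
    · rw [hg, smul_vecMul, hwM, ← Pi.single_smul, smul_eq_mul]
  choose! f hf using hβx
  obtain ⟨i0, -⟩ : ∃ i0 : Fin n, True := ⟨⟨0, by omega⟩, trivial⟩
  let d : Fin n → Fˣ := fun j =>
    if h : i0 ≠ j then Units.mk0 (f i0 j 1) ((f_props β hf h).2.2 1 one_ne_zero) else 1
  set γ := cj (gdiag d) * β with hγ
  have hγx : ∀ i j : Fin n, i ≠ j → ∀ c : F, γ (xr i j c) = xr i j (d i * f i j c / d j) := by
    intro i j h c
    rw [hγ, MulAut.mul_apply, hf i j h, cj_gdiag_xr d h]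
  let F' : Fin n → Fin n → F → F := fun i j c => d i * f i j c / d j
  have hp : ∀ {i j : Fin n}, i ≠ j → _ := fun {i j} h => f_props γ (f := F') hγx h
  have hone : ∀ j, i0 ≠ j → F' i0 j 1 = 1 := by
    intro j h
    simp [F', d, h, (f_props β hf h).2.2 1 one_ne_zero]
  have hmul : ∀ i j k : Fin n, i ≠ j → j ≠ k → i ≠ k → ∀ s t, F' i k (s * t) = F' i j s * F' j k t := by
    intro i j k hij hjk hik s t
    have h1 := congrArg γ (xr_commutator hij hjk hik s t)
    simp only [map_mul, hγx i j hij, hγx j k hjk, hγx i k hik] at h1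
    rw [xr_commutator hij hjk hik] at h1
    exact (xr_inj hik (mul_right_cancel (mul_right_cancel h1))).symm
  obtain ⟨j1, hj1⟩ := exists_ne i0
  set φ := F' i0 j1
  have hthird : ∀ a b : Fin n, ∃ c, c ≠ a ∧ c ≠ b := fun a b => by
    obtain ⟨c, hc⟩ : ∃ c, c ∉ ({a, b} : Finset (Fin n)) := by
      by_contra hall
      push Not at hall
      have h1 := Finset.card_le_card (show (Finset.univ : Finset (Fin n)) ⊆ {a, b} from fun c _ => hall c)
      have h2 : ({a, b} : Finset (Fin n)).card ≤ 2 := Finset.card_le_two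
      simp at h1
      omega
    exact ⟨c, by simpa using hc⟩
  have hjk1 : ∀ j k, i0 ≠ j → i0 ≠ k → j ≠ k → F' j k 1 = 1 := by
    intro j k hj hk hjk
    have := hmul i0 j k hj hjk hk 1 1
    rwa [mul_one, hone k hk, hone j hj, one_mul, eq_comm] at this
  have h0k : ∀ k, i0 ≠ k → ∀ t, F' i0 k t = φ t := by
    intro k hk t
    rcases eq_or_ne k j1 with rfl | hkj
    · rfl
    · have := hmul i0 k j1 hk hkj hj1.symm t 1
      rw [mul_one, hjk1 k j1 hk hj1.symm hkj, mul_one] at this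
      exact this.symm
  have hjkt : ∀ j k, i0 ≠ j → i0 ≠ k → j ≠ k → ∀ t, F' j k t = φ t := by
    intro j k hj hk hjk t
    have := hmul i0 j k hj hjk hk 1 t
    rw [one_mul, h0k k hk, hone j hj, one_mul] at this
    exact this.symm
  have hj0 : ∀ j, i0 ≠ j → ∀ t, F' j i0 t = φ t := by
    intro j hj t
    obtain ⟨k, hk0, hkj⟩ := hthird i0 j
    have := hmul j i0 k hj.symm hk0.symm hkj.symm t 1
    rw [mul_one, hone k hk0.symm, mul_one, hjkt j k hj hk0.symm hkj.symm] at this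
    exact this.symm
  have hall : ∀ i j, i ≠ j → ∀ t, F' i j t = φ t := by
    intro i j h t
    rcases eq_or_ne i0 i with rfl | hi
    · exact h0k j h t
    rcases eq_or_ne i0 j with rfl | hj
    · exact hj0 i h.symm t
    exact hjkt i j hi hj h t
  obtain ⟨σ, hσ⟩ := exists_ringEquiv φ (hone j1 hj1.symm) (hp hj1.symm).1 (fun a b => by
    obtain ⟨k, hk0, hk1⟩ := hthird i0 j1
    have := hmul i0 k j1 hk0.symm hk1 hj1.symm a b
    rw [hall i0 k hk0.symm, hall k j1 hk1] at this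
    exact this)
  refine ⟨g * (gdiag d)⁻¹, σ, ?_⟩
  have hγσ : γ = fd σ := ext_of_xr hn2 fun i j h c => by
    rw [hγx i j h, fd_xr σ h, hσ, ← hall i j h]
  rw [map_mul, map_inv, ← hγσ, hγ, hβ]
  group

lemma sameP_of_commute_two {x y : P 2 F} (hx : IsTr x) (hy : IsTr y) (h : Commute x y) : SameP x y := by
  obtain ⟨v, w, hf, rfl⟩ := hx
  obtain ⟨v', w', hf', rfl⟩ := hy
  by_contra hn
  have hind : ∀ c : F, v' ≠ c • v := fun c e => hn ⟨c • v, HasPt.smul ⟨w, hf, rfl⟩
    (fun h0 => hf'.1 (by rw [e, h0, zero_smul])), e ▸ ⟨w', hf', rfl⟩⟩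
  obtain ⟨h1, -⟩ := commute_indep hf hf' h hind
  have e0 := hf.2.2
  simp only [dotProduct, Fin.sum_univ_two] at e0 h1
  by_cases hw0 : w 0 = 0
  · have hw1 : w 1 ≠ 0 := fun e => hf.2.1 (by ext i; fin_cases i <;> assumption)
    have a1 : v 1 = 0 := by simpa [hw0, hw1] using e0
    have b1 : v' 1 = 0 := by simpa [hw0, hw1] using h1
    have a0 : v 0 ≠ 0 := fun e => hf.1 (by ext i; fin_cases i <;> assumption)
    exact hind (v' 0 / v 0) (by ext i; fin_cases i <;> simp [a0, a1, b1])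
  · have a0 : v 0 = -(w 1 / w 0) * v 1 := by field_simp; linear_combination e0
    have b0 : v' 0 = -(w 1 / w 0) * v' 1 := by field_simp; linear_combination h1
    have a1 : v 1 ≠ 0 := fun e => hf.1 (by ext i; fin_cases i <;> simp [a0, e])
    exact hind (v' 1 / v 1) (by
      ext i
      fin_cases i
      · simp [a0, b0]; field_simp
      · simp [a1])

lemma hua {f h : F → F} (fadd : ∀ a b, f (a + b) = f a + f b) (hadd : ∀ a b, h (a + b) = h a + h b)
    (fne : ∀ a, a ≠ 0 → f a ≠ 0) (f1 : f 1 = 1) (hrel : ∀ a, h a⁻¹ = (f a)⁻¹) :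
    (∀ a, h a = f a) ∧ ∀ a b, f (a ^ 2 * b) = f a ^ 2 * f b := by
  have fneg : ∀ a, f (-a) = -f a := fun a => map_neg (AddMonoidHom.mk' f fadd) a
  have hneg : ∀ a, h (-a) = -h a := fun a => map_neg (AddMonoidHom.mk' h hadd) a
  have fsub : ∀ a b, f (a - b) = f a - f b := fun a b => by rw [sub_eq_add_neg, fadd, fneg, sub_eq_add_neg]
  have hsub : ∀ a b, h (a - b) = h a - h b := fun a b => by rw [sub_eq_add_neg, hadd, hneg, sub_eq_add_neg]
  have f0 : f 0 = 0 := map_zero (AddMonoidHom.mk' f fadd)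
  have h0 : h 0 = 0 := map_zero (AddMonoidHom.mk' h hadd)
  have frel : ∀ a, f a⁻¹ = (h a)⁻¹ := fun a => by
    have := hrel a⁻¹; rw [inv_inv] at this; rw [this, inv_inv]
  have key : ∀ a b, f (a ^ 2 * b) = f a ^ 2 * h b := by
    intro a b
    by_cases ha : a = 0
    · subst ha; simp [f0]
    by_cases hb : b = 0
    · subst hb; simp [f0, h0]
    by_cases hab : b⁻¹ - a = 0
    · have hba : b = a⁻¹ := by rw [← sub_eq_zero.1 hab, inv_inv]
      rw [hba, hrel, pow_two, mul_assoc, mul_inv_cancel₀ ha, mul_one, pow_two, mul_assoc,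
        mul_inv_cancel₀ (fne a ha), mul_one]
    have hfa := fne a ha
    have hhb : h b ≠ 0 := fun e => fne _ (inv_ne_zero hb) (by rw [frel, e, _root_.inv_zero])
    have hd : (h b)⁻¹ - f a ≠ 0 := by rw [← frel, ← fsub]; exact fne _ hab
    have e1 : a - a ^ 2 * b = (a⁻¹ + (b⁻¹ - a)⁻¹)⁻¹ := by
      refine eq_inv_of_mul_eq_one_left ?_
      have h1 : 1 - a * b ≠ 0 := fun e => hab (by field_simp; linear_combination e)
      field_simp
      ring
    have e2 : f a - f a ^ 2 * h b = ((f a)⁻¹ + ((h b)⁻¹ - f a)⁻¹)⁻¹ := by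
      refine eq_inv_of_mul_eq_one_left ?_
      have h1 : 1 - f a * h b ≠ 0 := fun e => hd (by field_simp; linear_combination e)
      field_simp
      ring
    have e3 : f (a - a ^ 2 * b) = f a - f a ^ 2 * h b := by
      rw [e1, frel, hadd, hrel, hrel, fsub, frel, e2]
    rw [fsub] at e3
    linear_combination -e3
  have hfh : ∀ a, h a = f a := fun a => by
    have := key 1 a
    rw [one_pow, one_mul, f1, one_pow, one_mul] at this
    exact this.symm
  exact ⟨hfh, fun a b => by rw [key, hfh]⟩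

lemma hasPt_conj {x : P n F} {u v w : Fin n → F} (hu : HasPt x u) (h : w ⬝ᵥ v = 0) :
    HasPt (tv v w * x * (tv v w)⁻¹) (u + (w ⬝ᵥ u) • v) := by
  obtain ⟨u', hf, rfl⟩ := hu
  have H : HasPt (tv v w * tv u u' * (tv v w)⁻¹)
      ((Matrix.SpecialLinearGroup.toGL (tsl v w) : Matrix (Fin n) (Fin n) F) *ᵥ u) := by
    refine ⟨_, flag_conj _ hf, ?_⟩
    rw [← MulAut.conj_apply, ← cj_tv _ hf.2.2]
    exact congrArg (fun φ : MulAut (P n F) => φ (tv u u')) (conj_mk (tsl v w))
  have e : (Matrix.SpecialLinearGroup.toGL (tsl v w) : Matrix (Fin n) (Fin n) F) = tm v w := coe_tsl h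
  rwa [e, tm_mulVec] at H

theorem rigid_two [Fintype F] (α : MulAut (P 2 F)) :
    ∃ (g : GL (Fin 2) F) (σ : F ≃+* F), α = cj g * fd σ := by
  classical
  have h01 : (0 : Fin 2) ≠ 1 := by decide
  obtain ⟨v0, w0, hf0, e0⟩ := isTr_map le_rfl α (isTr_xr h01 (one_ne_zero (α := F)))
  obtain ⟨v1, w1, hf1, e1⟩ := isTr_map le_rfl α (isTr_xr h01.symm (one_ne_zero (α := F)))
  have hind : ∀ c : F, v1 ≠ c • v0 := by
    intro c e
    have hs : SameP (α (xr 0 1 (1 : F))) (α (xr 1 0 (1 : F))) := by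
      rw [e0, e1]
      exact ⟨v1, e ▸ HasPt.smul ⟨w0, hf0, rfl⟩ (fun h0 => hf1.1 (by rw [e, h0, zero_smul])), w1, hf1, rfl⟩
    have hc : Commute (xr (0 : Fin 2) 1 (1 : F)) (xr 1 0 1) := by
      have := hs.rel.2.2.1.map α.symm
      simpa using this
    obtain ⟨u, hu, hu'⟩ := sameP_of_commute_two (isTr_xr h01 one_ne_zero) (isTr_xr h01.symm one_ne_zero) hc
    obtain ⟨c', hc', e'⟩ := hu.unique (hasPt_xr h01 one_ne_zero)
    obtain ⟨c'', hc'', e''⟩ := hu'.unique (hasPt_xr h01.symm one_ne_zero)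
    have a := congrFun e' 0
    have b := congrFun e'' 0
    simp at a b
    rcases b with b | b
    · exact hc'' b
    · rw [b, mul_zero] at a; exact one_ne_zero a
  let M : Matrix (Fin 2) (Fin 2) F := Matrix.of fun a i => ![v0, v1] i a
  have hMinj : Function.Injective M.mulVec := by
    intro y y' hyy
    rw [← sub_eq_zero]
    have h0 : M *ᵥ (y - y') = 0 := by rw [mulVec_sub, hyy, sub_self]
    generalize y - y' = z at h0
    have hz : z 0 • v0 + z 1 • v1 = 0 := by
      rw [← h0]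
      ext a
      simp [M, mulVec, dotProduct, Fin.sum_univ_two, mul_comm]
    have hz1 : z 1 = 0 := by
      by_contra hne
      apply hind (-(z 0 / z 1))
      rw [neg_smul, div_eq_inv_mul, mul_smul, ← smul_neg, ← eq_neg_of_add_eq_zero_right hz, smul_smul,
        inv_mul_cancel₀ hne, one_smul]
    rw [hz1, zero_smul, add_zero] at hz
    ext i; fin_cases i
    · exact (smul_eq_zero.1 hz).resolve_right hf0.1
    · exact hz1
  obtain ⟨g, hg⟩ := Matrix.mulVec_injective_iff_isUnit.1 hMinj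
  set β := (cj g)⁻¹ * α with hβ
  have hcol : ∀ i, ((g⁻¹ : GL (Fin 2) F) : Matrix (Fin 2) (Fin 2) F) *ᵥ (![v0, v1] i) = Pi.single i 1 := by
    intro i
    rw [show ![v0, v1] i = (g : Matrix (Fin 2) (Fin 2) F) *ᵥ Pi.single i 1 by rw [hg, mulVec_single_one]; rfl,
      mulVec_mulVec, Units.inv_mul, one_mulVec]
  have hb0 : HasPt (β (xr 0 1 (1 : F))) (Pi.single 0 (1 : F)) := by
    rw [hβ, MulAut.mul_apply, e0, ← map_inv, cj_tv _ hf0.2.2]
    exact ⟨_, hcol 0 ▸ flag_conj _ hf0, by rw [show (Pi.single 0 1 : Fin 2 → F) = _ from (hcol 0).symm]; rfl⟩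
  have hb1 : HasPt (β (xr 1 0 (1 : F))) (Pi.single 1 (1 : F)) := by
    rw [hβ, MulAut.mul_apply, e1, ← map_inv, cj_tv _ hf1.2.2]
    exact ⟨_, hcol 1 ▸ flag_conj _ hf1, by rw [show (Pi.single 1 1 : Fin 2 → F) = _ from (hcol 1).symm]; rfl⟩
  have hβx : ∀ i j : Fin 2, i ≠ j → ∀ c : F, ∃ c', β (xr i j c) = xr i j c' := by
    intro i j h c
    rcases eq_or_ne c 0 with rfl | hc
    · exact ⟨0, by rw [xr_zero h, map_one]⟩
    have hb : HasPt (β (xr i j (1 : F))) (Pi.single i (1 : F)) := by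
      fin_cases i <;> fin_cases j <;> simp_all
    have hs : SameP (β (xr i j c)) (β (xr i j (1 : F))) := by
      refine sameP_of_commute_two (isTr_map le_rfl β (isTr_xr h hc)) (isTr_map le_rfl β (isTr_xr h one_ne_zero))
        (Commute.map ?_ β)
      show _ * _ = _ * _
      rw [xr_add h, xr_add h, add_comm]
    obtain ⟨u, hf, e⟩ := hs.symm.hasPt hb
    refine ⟨u j, e.trans ?_⟩
    rw [xr]
    congr 1
    have h0 := hf.2.2
    rw [dotProduct_single, mul_one] at h0
    ext k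
    rcases eq_or_ne k j with rfl | hk
    · simp
    · have : k = i := by omega
      subst this
      simp [h0, hk]
  choose! f hf using hβx
  let d : Fin 2 → Fˣ := fun j =>
    if j = 1 then Units.mk0 (f 0 1 1) ((f_props β hf h01).2.2 1 one_ne_zero) else 1
  set γ := cj (gdiag d) * β with hγ
  let F' : Fin 2 → Fin 2 → F → F := fun i j c => d i * f i j c / d j
  have hγx : ∀ i j : Fin 2, i ≠ j → ∀ c : F, γ (xr i j c) = xr i j (F' i j c) := by
    intro i j h c
    rw [hγ, MulAut.mul_apply, hf i j h, cj_gdiag_xr d h]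
  have pf := f_props γ hγx h01
  have ph := f_props γ hγx h01.symm
  have f1 : F' 0 1 1 = 1 := by simp [F', d, (f_props β hf h01).2.2 1 one_ne_zero]
  have chain : ∀ a b c : F, c ≠ 0 →
      HasPt (xr 0 1 a * (xr 1 0 b * (xr 0 1 a * xr 0 1 c * (xr (0 : Fin 2) 1 a)⁻¹) * (xr 1 0 b)⁻¹) * (xr 0 1 a)⁻¹)
        ![1 + a * b, b] := by
    intro a b c hc
    have h1 := hasPt_conj (hasPt_conj (hasPt_conj (hasPt_xr h01 hc) (dot_xr h01 a)) (dot_xr h01.symm b)) (dot_xr h01 a)
    simp only [xr] at h1 ⊢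
    refine Eq.mp (congrArg (HasPt _) ?_) h1
    ext k; fin_cases k <;> simp [mul_comm]
  have hrel : ∀ t : F, F' 1 0 t⁻¹ = (F' 0 1 t)⁻¹ := by
    intro t
    rcases eq_or_ne t 0 with rfl | ht
    · rw [_root_.inv_zero, ph.2.1, pf.2.1, _root_.inv_zero]
    have h1 := chain t (-t⁻¹) 1 one_ne_zero
    rw [show (![1 + t * -t⁻¹, -t⁻¹] : Fin 2 → F) = (-t⁻¹) • Pi.single 1 1 by
      ext k; fin_cases k <;> simp [mul_inv_cancel₀ ht]] at h1
    have h1' := h1.smul (c := -t) (neg_ne_zero.2 ht)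
    rw [smul_smul, neg_mul_neg, mul_inv_cancel₀ ht, one_smul] at h1'
    have hc := (SameP.rel ⟨_, h1', hasPt_xr h01.symm (one_ne_zero (α := F))⟩).2.2.1.map γ
    simp only [map_mul, map_inv, hγx 0 1 h01, hγx 1 0 h01.symm] at hc
    set a := F' 0 1 t with ha
    set b := F' 1 0 (-t⁻¹) with hb
    have h2 := chain a b (F' 0 1 1) (pf.2.2 1 one_ne_zero)
    obtain ⟨u, hfl, e⟩ := h2
    have htr : IsTr (xr 1 0 (F' 1 0 (1 : F))) := isTr_xr h01.symm (ph.2.2 1 one_ne_zero)
    have hs := sameP_of_commute_two ⟨_, _, hfl, e⟩ htr hc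
    obtain ⟨k, hk, ek⟩ := HasPt.unique (hs.hasPt ⟨_, hfl, e⟩) (hasPt_xr h01.symm (ph.2.2 1 one_ne_zero))
    have e0' := congrFun ek 0
    simp at e0'
    have hab : 1 + a * b = 0 := e0'.resolve_left hk
    have hb' : b = -F' 1 0 t⁻¹ := map_neg (AddMonoidHom.mk' _ ph.1) _
    rw [hb'] at hab
    exact eq_inv_of_mul_eq_one_left (by linear_combination -hab)
  obtain ⟨hfh, hsq⟩ := hua pf.1 ph.1 pf.2.2 f1 hrel
  have hmul : ∀ a b, F' 0 1 (a * b) = F' 0 1 a * F' 0 1 b := by
    intro a b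
    set φ := F' 0 1
    by_cases h2 : (2 : F) = 0
    · haveI : CharP F 2 := CharTwo.of_one_ne_zero_of_two_eq_zero one_ne_zero h2
      obtain ⟨x, rfl⟩ : IsSquare a := FiniteField.isSquare_of_char_two (ringChar.eq F 2) a
      have e1 := hsq x b
      have e2 := hsq x 1
      rw [mul_one, f1, mul_one] at e2
      rw [← pow_two, e1, e2]
    · have hadd2 : φ (2 * (a * b)) = 2 * φ (a * b) := by rw [two_mul, pf.1, two_mul]
      have e1 := hsq (a + 1) b
      have e2 := hsq a b
      rw [show (a + 1) ^ 2 * b = a ^ 2 * b + 2 * (a * b) + b by ring, pf.1, pf.1, pf.1, f1, hadd2, e2] at e1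
      exact mul_left_cancel₀ h2 (by linear_combination e1)
  obtain ⟨σ, hσ⟩ := exists_ringEquiv (F' 0 1) f1 pf.1 hmul
  refine ⟨g * (gdiag d)⁻¹, σ, ?_⟩
  have hγσ : γ = fd σ := ext_of_xr le_rfl fun i j h c => by
    rw [hγx i j h, fd_xr σ h, hσ]
    fin_cases i <;> fin_cases j
    · exact absurd rfl h
    · rfl
    · exact congrArg _ (hfh c)
    · exact absurd rfl h
  rw [map_mul, map_inv, ← hγσ, hγ, hβ]
  group

/-- Every automorphism of `PSL n F` is conjugation by a matrix composed with a field automorphism,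
followed possibly, for `n ≥ 3`, by inverse-transpose. -/
theorem aut_decomp [Fintype F] (hn : 2 ≤ n) (α : MulAut (P n F)) :
    ∃ (g : GL (Fin n) F) (σ : F ≃+* F), α = cj g * fd σ ∨ (3 ≤ n ∧ α = cj g * fd σ * it) := by
  rcases eq_or_lt_of_le hn with rfl | h3
  · obtain ⟨g, σ, e⟩ := rigid_two α
    exact ⟨g, σ, Or.inl e⟩
  rcases preserves_or_swap h3 α with h | h
  · obtain ⟨g, σ, e⟩ := rigid_three h3 α h
    exact ⟨g, σ, Or.inl e⟩
  · obtain ⟨g, σ, e⟩ := rigid_three h3 (it * α) h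
    refine ⟨glInvT g, σ, Or.inr ⟨h3, ?_⟩⟩
    calc α = it * (it * α) := by rw [← mul_assoc, it_mul_it, one_mul]
      _ = _ := by rw [e, ← mul_assoc, it_mul_cj, mul_assoc, it_mul_fd, mul_assoc]

end Cfsg.Agent.AutPSLMain
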