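import Mathlib
import Cfsg.Prelude.Def_StandardType
import Cfsg.Prelude.Def_LieTypeDatum
import Cfsg.Agent.Lib.AutPSLBasic
import Cfsg.Agent.Lib.AutPSLGeometry
import Cfsg.Agent.Lib.AutPSLMain

/-!
The predicates of the Prelude on automorphisms of `PSL n F` in terms of `cj`, `fd` and `it`, faithfulness, and
the order of the automorphism group.
-/

set_option autoImplicit false

namespace Cfsg.Agent.AutPSLApi

open Matrix
open Cfsg.Agent.AutPSLBasic Cfsg.Agent.AutPSLGeometry Cfsg.Agent.AutPSLMain
open scoped MatrixGroups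

variable {n : ℕ} {F : Type*} [Field F]

lemma isInduced_iff (g : GL (Fin n) F) (σ : F ≃+* F) (β : MulAut (P n F)) :
    Cfsg.IsInducedBySemilinearPSL g σ β ↔ β = cj g * fd σ := by
  constructor
  · intro h
    apply MulEquiv.ext
    intro x
    induction x using QuotientGroup.induction_on with
    | H s =>
      rw [MulAut.mul_apply, fd_mk, cj_mk]
      exact h s _ (by rw [coe_slConj, coe_slField])
  · rintro rfl s s' e
    rw [MulAut.mul_apply, fd_mk, cj_mk]
    congr 1
    exact Subtype.ext (by rw [coe_slConj, coe_slField, e])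

lemma isInnerDiagonal_iff (β : MulAut (P n F)) : Cfsg.IsInnerDiagonalAutPSL β ↔ ∃ g, β = cj g := by
  constructor
  · rintro ⟨g, h⟩
    refine ⟨g, MulEquiv.ext fun x => ?_⟩
    induction x using QuotientGroup.induction_on with
    | H s =>
      rw [cj_mk]
      exact h s _ (coe_slConj g s)
  · rintro ⟨g, rfl⟩
    refine ⟨g, fun s s' e => ?_⟩
    rw [cj_mk]
    congr 1
    exact Subtype.ext (by rw [coe_slConj, e])

lemma isStdField_iff (σ : F ≃+* F) (β : MulAut (P n F)) : Cfsg.IsStdFieldAutPSL σ β ↔ β = fd σ := by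
  constructor
  · intro h
    apply MulEquiv.ext
    intro x
    induction x using QuotientGroup.induction_on with
    | H s =>
      rw [fd_mk]
      exact h s _ (coe_slField σ s)
  · rintro rfl s s' e
    rw [fd_mk]
    congr 1
    exact Subtype.ext (by rw [coe_slField, e])

lemma isInverseTranspose_iff (β : MulAut (P n F)) : Cfsg.IsInverseTransposeAutPSL β ↔ β = it := by
  constructor
  · intro h
    apply MulEquiv.ext
    intro x
    induction x using QuotientGroup.induction_on with
    | H s =>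
      rw [it_mk]
      exact h s _ (coe_slInvT s)
  · rintro rfl s s' e
    rw [it_mk]
    congr 1
    exact Subtype.ext (by rw [coe_slInvT, e])

lemma inndiag_eq : Cfsg.inndiagPSL n F = (cj (n := n) (F := F)).range := by
  have : {β : MulAut (P n F) | Cfsg.IsInnerDiagonalAutPSL β} = ((cj (n := n) (F := F)).range : Set _) := by
    ext β
    simp [isInnerDiagonal_iff, eq_comm]
  rw [Cfsg.inndiagPSL, Cfsg.autSubgroupOf, this, Subgroup.closure_eq]

lemma mem_inndiag (β : MulAut (P n F)) : β ∈ Cfsg.inndiagPSL n F ↔ ∃ g, β = cj g := by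
  rw [inndiag_eq, MonoidHom.mem_range]
  simp [eq_comm]

/-- The kernel of the action of invertible semilinear maps on `PSL`. -/
lemma cj_fd_eq_one (hn : 2 ≤ n) {g : GL (Fin n) F} {σ : F ≃+* F} (h : cj g * fd σ = (1 : MulAut (P n F))) :
    g ∈ Subgroup.center (GL (Fin n) F) ∧ σ = 1 := by
  haveI : NeZero n := ⟨by omega⟩
  haveI : Nontrivial (Fin n) := Fin.nontrivial_iff_two_le.2 hn
  set G : Matrix (Fin n) (Fin n) F := (g : Matrix (Fin n) (Fin n) F) with hG
  have key : ∀ i j : Fin n, i ≠ j → ∀ c : F, c ≠ 0 →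
      (∀ a, a ≠ i → G a i = 0) ∧ c * G j j = G i i * σ c := by
    intro i j hij c hc
    have e := congrArg (fun φ : MulAut (P n F) => φ (xr i j c)) h
    simp only [MulAut.mul_apply, MulAut.one_apply, fd_xr σ hij] at e
    have hf : IsFlag (Pi.single i (1 : F) : Fin n → F) (Pi.single j (σ c)) :=
      flag_single hij one_ne_zero (by simpa using hc)
    rw [xr, cj_tv g hf.2.2, xr] at e
    obtain ⟨k, hk, h1, h2⟩ :=
      (tv_eq_tv (flag_single hij one_ne_zero hc) (flag_conj g hf).2.2).1 e.symm
    rw [mulVec_single_one] at h1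
    have hcol : ∀ a, G a i = k * (Pi.single i (1 : F) : Fin n → F) a := fun a => congrFun h1 a
    refine ⟨fun a ha => by rw [hcol]; simp [ha], ?_⟩
    have h3 := congrArg (fun u : Fin n → F => u ᵥ* G) h2
    simp only [hG, smul_vecMul, vecMul_vecMul, Units.inv_mul, vecMul_one] at h3
    have h4 := congrFun h3 j
    simp [single_vecMul] at h4
    rw [hcol i, hG, h4]
    simp
  have hdiag : ∀ i j, G i i = G j j := by
    intro i j
    rcases eq_or_ne i j with rfl | hij
    · rfl
    · simpa using (key i j hij 1 one_ne_zero).2.symm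
  have hoff : ∀ a i, a ≠ i → G a i = 0 := fun a i hai =>
    let ⟨j, hj⟩ := exists_ne i
    (key i j hj.symm 1 one_ne_zero).1 a hai
  constructor
  · rw [Subgroup.mem_center_iff]
    intro g'
    apply Units.ext
    show (g' : Matrix (Fin n) (Fin n) F) * G = G * g'
    obtain ⟨i0⟩ : Nonempty (Fin n) := inferInstance
    have : G = Matrix.scalar (Fin n) (G i0 i0) := by
      ext a b
      rcases eq_or_ne a b with rfl | hab
      · simp [hdiag a i0]
      · simp [hoff a b hab, hab]
    rw [this]
    exact (Matrix.scalar_commute (n := Fin n) (G i0 i0) (Commute.all _) _).symm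
  · apply RingEquiv.ext
    intro c
    show σ c = c
    rcases eq_or_ne c 0 with rfl | hc
    · simp
    obtain ⟨i, j, hij⟩ := exists_pair_ne (Fin n)
    have h2 := (key i j hij c hc).2
    rw [hdiag j i, mul_comm] at h2
    have hne : G i i ≠ 0 := by
      intro h0
      have hdet : G.det ≠ 0 := ((Matrix.isUnit_iff_isUnit_det G).1 g.isUnit).ne_zero
      refine hdet (Matrix.det_eq_zero_of_column_eq_zero i fun a => ?_)
      rcases eq_or_ne a i with rfl | ha
      · exact h0
      · exact hoff a i ha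
    exact (mul_left_cancel₀ hne h2).symm

lemma cj_eq_one_iff (hn : 2 ≤ n) (g : GL (Fin n) F) :
    (cj g : MulAut (P n F)) = 1 ↔ g ∈ Subgroup.center (GL (Fin n) F) := by
  refine ⟨fun h => (cj_fd_eq_one hn (g := g) (σ := 1) (by rw [map_one, mul_one, h])).1, fun h => ?_⟩
  apply MulEquiv.ext
  intro x
  induction x using QuotientGroup.induction_on with
  | H s =>
    rw [cj_mk, MulAut.one_apply]
    congr 1
    apply Subtype.ext
    have := congrArg Units.val (Subgroup.mem_center_iff.1 h (Matrix.SpecialLinearGroup.toGL s))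
    rw [coe_slConj]
    change (g : Matrix (Fin n) (Fin n) F) * s * _ = (s : Matrix (Fin n) (Fin n) F)
    rw [show (g : Matrix (Fin n) (Fin n) F) * s = (s : Matrix (Fin n) (Fin n) F) * g from this.symm,
      mul_assoc, Units.mul_inv, mul_one]

lemma fd_injective (hn : 2 ≤ n) : Function.Injective (fd : (F ≃+* F) → MulAut (P n F)) :=
  (injective_iff_map_eq_one _).2 fun σ h => (cj_fd_eq_one hn (g := 1) (by rw [map_one, one_mul, h])).2

lemma cj_fd_ne_it (hn : 3 ≤ n) (g : GL (Fin n) F) (σ : F ≃+* F) :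
    cj g * fd σ ≠ (it : MulAut (P n F)) := by
  haveI : NeZero n := ⟨by omega⟩
  intro h
  let i : Fin n := ⟨0, by omega⟩
  let j : Fin n := ⟨1, by omega⟩
  let k : Fin n := ⟨2, by omega⟩
  have key : ∀ l, i ≠ l → ∀ a, a ≠ l → (g : Matrix (Fin n) (Fin n) F) a i = 0 := by
    intro l hil a hal
    have e := congrArg (fun φ : MulAut (P n F) => φ (xr i l (1 : F))) h
    simp only [MulAut.mul_apply, fd_xr σ hil, map_one, it_xr hil] at e
    have hf : IsFlag (Pi.single i (1 : F) : Fin n → F) (Pi.single l (1 : F)) := flag_single hil one_ne_zero one_ne_zero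
    rw [xr, cj_tv g hf.2.2, xr] at e
    obtain ⟨c, hc, h1, -⟩ :=
      (tv_eq_tv (flag_single hil.symm one_ne_zero (neg_ne_zero.2 one_ne_zero)) (flag_conj g hf).2.2).1 e.symm
    rw [mulVec_single_one] at h1
    have := congrFun h1 a
    simpa [hal] using this
  have hcol : ∀ a, (g : Matrix (Fin n) (Fin n) F) a i = 0 := by
    intro a
    by_cases ha : a = j
    · exact key k (Fin.ne_of_val_ne (by simp [i, j, k])) a (by rw [ha]; exact Fin.ne_of_val_ne (by simp [i, j, k]))
    · exact key j (Fin.ne_of_val_ne (by simp [i, j, k])) a ha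
  exact ((Matrix.isUnit_iff_isUnit_det _).1 g.isUnit).ne_zero (Matrix.det_eq_zero_of_column_eq_zero i hcol)

/-- Conjugation, on `PGL`. -/
noncomputable def cjP (hn : 2 ≤ n) : GL (Fin n) F ⧸ Subgroup.center (GL (Fin n) F) →* MulAut (P n F) :=
  QuotientGroup.lift _ cj fun g hg => (cj_eq_one_iff hn g).2 hg

lemma cjP_injective (hn : 2 ≤ n) : Function.Injective (cjP (F := F) hn) := by
  rw [injective_iff_map_eq_one]
  intro x hx
  induction x using QuotientGroup.induction_on with
  | H g => exact (QuotientGroup.eq_one_iff g).2 ((cj_eq_one_iff hn g).1 hx)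

lemma card_ringAut [Fintype F] {p f : ℕ} [Fact p.Prime] (hF : Fintype.card F = p ^ f) (hf : 1 ≤ f) :
    Nat.card (F ≃+* F) = f := by
  haveI : CharP F p := by
    obtain ⟨q, hq⟩ := CharP.exists F
    obtain ⟨k, hqp, hk⟩ := FiniteField.card F q
    have hdvd : q ∣ p ^ f := hF ▸ hk ▸ dvd_pow_self q k.ne_zero
    have := (Nat.prime_dvd_prime_iff_eq hqp Fact.out).1 (hqp.dvd_of_dvd_pow hdvd)
    exact this ▸ hq
  letI : Algebra (ZMod p) F := ZMod.algebra F p
  have e : (F ≃+* F) ≃ (F ≃ₐ[ZMod p] F) :=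
    { toFun := fun σ => AlgEquiv.ofRingEquiv (f := σ) fun x =>
        RingHom.congr_fun (RingHom.ext_zmod (σ.toRingHom.comp (algebraMap (ZMod p) F)) (algebraMap (ZMod p) F)) x
      invFun := fun σ => σ.toRingEquiv
      left_inv := fun σ => RingEquiv.ext fun x => rfl
      right_inv := fun σ => AlgEquiv.ext fun x => rfl }
  rw [Nat.card_congr e, IsGalois.card_aut_eq_finrank]
  have h := Module.card_eq_pow_finrank (K := ZMod p) (V := F)
  rw [ZMod.card, hF] at h
  exact (Nat.pow_right_injective (Fact.out : p.Prime).two_le h).symm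

theorem card_mulAut [Fintype F] {p f : ℕ} [Fact p.Prime] (hF : Fintype.card F = p ^ f) (hf : 1 ≤ f) (hn : 2 ≤ n) :
    Nat.card (MulAut (P n F)) = (if n = 2 then 1 else 2) * f * Nat.card (GL (Fin n) F ⧸ Subgroup.center (GL (Fin n) F)) := by
  set m : ℕ := if n = 2 then 1 else 2 with hm
  let Φ : (GL (Fin n) F ⧸ Subgroup.center (GL (Fin n) F)) × (F ≃+* F) × Fin m → MulAut (P n F) :=
    fun x => cjP hn x.1 * fd x.2.1 * it ^ (x.2.2 : ℕ)
  have hbij : Function.Bijective Φ := by
    constructor
    · rintro ⟨x, σ, a⟩ ⟨y, τ, b⟩ h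
      have h3 : (a : ℕ) ≠ b → 3 ≤ n := fun hab => by
        have := a.isLt; have := b.isLt
        by_contra hn3
        have : m = 1 := by rw [hm, if_pos (by omega)]
        omega
      obtain ⟨x, rfl⟩ := QuotientGroup.mk_surjective x
      obtain ⟨y, rfl⟩ := QuotientGroup.mk_surjective y
      have h' : cj x * fd σ * it ^ (a : ℕ) = (cj y * fd τ * it ^ (b : ℕ) : MulAut (P n F)) := h
      have hyx : ∀ k : MulAut (P n F), cj x * fd σ = cj y * fd τ * k →
          cj (Matrix.GeneralLinearGroup.map ((τ⁻¹ : F ≃+* F) : F →+* F) (y⁻¹ * x)) * fd (τ⁻¹ * σ) = k := by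
        intro k hk
        rw [map_mul fd, ← mul_assoc, ← fd_mul_cj, map_mul cj, map_inv, map_inv, mul_assoc, mul_assoc, hk]
        group
      have hab : (a : ℕ) = b := by
        by_contra hab
        have hm2 : m ≤ 2 := by rw [hm]; split <;> omega
        have hA : cj x * fd σ = (cj y * fd τ * it : MulAut (P n F)) := by
          have := a.isLt; have := b.isLt
          rcases (show ((a : ℕ) = 0 ∧ (b : ℕ) = 1) ∨ ((a : ℕ) = 1 ∧ (b : ℕ) = 0) by omega) with ⟨ea, eb⟩ | ⟨ea, eb⟩
          · simpa [ea, eb] using h'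
          · simp only [ea, eb, pow_one, pow_zero, mul_one] at h'
            rw [← h', mul_assoc _ it it, it_mul_it, mul_one]
        exact cj_fd_ne_it (h3 hab) _ _ (hyx _ hA)
      rw [hab] at h'
      have hA : cj x * fd σ = (cj y * fd τ * 1 : MulAut (P n F)) := by rw [mul_one]; exact mul_right_cancel h'
      obtain ⟨-, hσ⟩ := cj_fd_eq_one hn (hyx 1 hA)
      have hστ : σ = τ := (inv_mul_eq_one.1 hσ).symm
      subst hστ
      rw [mul_one] at hA
      have hc : (QuotientGroup.mk x : GL (Fin n) F ⧸ _) = QuotientGroup.mk y :=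
        cjP_injective hn (mul_right_cancel hA)
      simp [hc, Fin.ext hab]
    · intro α
      obtain ⟨g, σ, h | ⟨h3, h⟩⟩ := aut_decomp hn α
      · exact ⟨⟨QuotientGroup.mk g, σ, ⟨0, by rw [hm]; split <;> omega⟩⟩, by
          show cj g * fd σ * it ^ 0 = α
          rw [h, pow_zero, mul_one]⟩
      · exact ⟨⟨QuotientGroup.mk g, σ, ⟨1, by rw [hm, if_neg (by omega)]; omega⟩⟩, by
          show cj g * fd σ * it ^ 1 = α
          rw [h, pow_one]⟩
  rw [← Nat.card_eq_of_bijective Φ hbij, Nat.card_prod, Nat.card_prod, card_ringAut hF hf, Nat.card_fin]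
  ring

end Cfsg.Agent.AutPSLApi
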