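import Mathlib
import Cfsg.Prelude.Def_Classical
import Cfsg.Prelude.Def_LieClassical
import Cfsg.Prelude.Def_ClassicalGeometry

/-!
The standard Hermitian form `hermForm n F q` over a field with `q^2` elements: algebra, counting,
transitivity of `GU`, orders of `GU` and `SU`, the centre of `SU`.
-/

set_option autoImplicit false

namespace Cfsg.Agent.OrthUnitaryHerm

open scoped Matrix

/-! ### A counting lemma for homogeneous fibrations -/

/-- If a group maps onto `S` equivariantly, its order is `|S|` times the order of one fibre. -/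
theorem card_eq_card_mul_card_fibre {G S : Type*} [Group G] [Finite G] [Finite S]
    (f : G → S) (s₀ : S)
    (htr : ∀ s, ∃ k : G, ∀ g, f (k * g) = s ↔ f g = s₀) :
    Nat.card G = Nat.card S * Nat.card {g // f g = s₀} := by
  have hfib : ∀ s, Nat.card {g // f g = s} = Nat.card {g // f g = s₀} := by
    intro s
    obtain ⟨k, hk⟩ := htr s
    exact (Nat.card_congr ((Equiv.mulLeft k).subtypeEquiv fun g => (hk g).symm)).symm
  cases nonempty_fintype S
  calc Nat.card G = Nat.card (Σ s, {g // f g = s}) :=
        (Nat.card_congr (Equiv.sigmaFiberEquiv f)).symm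
    _ = ∑ s, Nat.card {g // f g = s} := Nat.card_sigma
    _ = ∑ _s : S, Nat.card {g // f g = s₀} := Finset.sum_congr rfl fun s _ => hfib s
    _ = Nat.card S * Nat.card {g // f g = s₀} := by simp

/-! ### The field with `q^2` elements -/

variable {F : Type*} [Field F] [Fintype F] {q : ℕ}

theorem exists_prime_pow (hF : Fintype.card F = q ^ 2) :
    ∃ p f : ℕ, p.Prime ∧ CharP F p ∧ 0 < f ∧ q = p ^ f := by
  obtain ⟨p, hc, n, hp, hn⟩ := FiniteField.card' F
  have hd : q ∣ p ^ (n : ℕ) := ⟨q, by rw [← hn, hF, sq]⟩
  obtain ⟨f, _, hf⟩ := (Nat.dvd_prime_pow hp).1 hd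
  refine ⟨p, f, hp, hc, ?_, hf⟩
  rcases Nat.eq_zero_or_pos f with h0 | h0
  · exfalso
    have h1 := Fintype.one_lt_card (α := F)
    rw [hF, hf, h0] at h1
    simp at h1
  · exact h0

theorem two_le_q (hF : Fintype.card F = q ^ 2) : 2 ≤ q := by
  obtain ⟨p, f, hp, -, hf, rfl⟩ := exists_prime_pow hF
  calc 2 ≤ p := hp.two_le
    _ = p ^ 1 := (pow_one p).symm
    _ ≤ p ^ f := Nat.pow_le_pow_right hp.pos hf

theorem q_ne_zero (hF : Fintype.card F = q ^ 2) : q ≠ 0 := by
  have := two_le_q hF; omega

/-- `x ↦ x^q` as a ring endomorphism. -/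
theorem exists_frobHom (hF : Fintype.card F = q ^ 2) : ∃ σ : F →+* F, ∀ x, σ x = x ^ q := by
  obtain ⟨p, f, hp, hc, -, rfl⟩ := exists_prime_pow hF
  haveI := hc
  haveI : Fact p.Prime := ⟨hp⟩
  exact ⟨iterateFrobenius F p f, fun x => rfl⟩

theorem add_pow_q (hF : Fintype.card F = q ^ 2) (x y : F) : (x + y) ^ q = x ^ q + y ^ q := by
  obtain ⟨σ, hσ⟩ := exists_frobHom hF
  simp only [← hσ, map_add]

theorem sub_pow_q (hF : Fintype.card F = q ^ 2) (x y : F) : (x - y) ^ q = x ^ q - y ^ q := by
  obtain ⟨σ, hσ⟩ := exists_frobHom hF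
  simp only [← hσ, map_sub]

theorem neg_pow_q (hF : Fintype.card F = q ^ 2) (x : F) : (-x) ^ q = -(x ^ q) := by
  obtain ⟨σ, hσ⟩ := exists_frobHom hF
  simp only [← hσ, map_neg]

theorem sum_pow_q (hF : Fintype.card F = q ^ 2) {α : Type*} (s : Finset α) (g : α → F) :
    (∑ i ∈ s, g i) ^ q = ∑ i ∈ s, g i ^ q := by
  obtain ⟨σ, hσ⟩ := exists_frobHom hF
  simp only [← hσ, map_sum]

theorem pow_q_q (hF : Fintype.card F = q ^ 2) (x : F) : (x ^ q) ^ q = x := by
  rw [← pow_mul, ← sq, ← hF, FiniteField.pow_card]

theorem zero_pow_q (hF : Fintype.card F = q ^ 2) : (0 : F) ^ q = 0 :=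
  zero_pow (q_ne_zero hF)

theorem card_units_eq (hF : Fintype.card F = q ^ 2) : Nat.card Fˣ = (q + 1) * (q - 1) := by
  rw [Nat.card_units, Nat.card_eq_fintype_card, hF]
  have h := Nat.sq_sub_sq q 1
  simpa using h

/-- For `d ∣ |Fˣ|` there are exactly `d` solutions of `x^d = 1`. -/
theorem card_pow_eq_one_of_dvd {d : ℕ} (hd : d ∣ Nat.card Fˣ) :
    Nat.card {x : Fˣ // x ^ d = 1} = d := by
  have h := IsCyclic.card_powMonoidHom_ker (G := Fˣ) d
  rw [Nat.gcd_eq_right hd] at h
  exact h

theorem card_normOne (hF : Fintype.card F = q ^ 2) :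
    Nat.card {x : Fˣ // x ^ (q + 1) = 1} = q + 1 :=
  card_pow_eq_one_of_dvd ⟨q - 1, card_units_eq hF⟩

theorem card_fixedUnits (hF : Fintype.card F = q ^ 2) :
    Nat.card {x : Fˣ // x ^ (q - 1) = 1} = q - 1 :=
  card_pow_eq_one_of_dvd ⟨q + 1, by rw [card_units_eq hF, mul_comm]⟩

/-- The norm map onto the fixed field is surjective. -/
theorem exists_norm_eq (hF : Fintype.card F = q ^ 2) {a : F} (ha : a ^ q = a) :
    ∃ x : F, x ^ (q + 1) = a := by
  rcases eq_or_ne a 0 with rfl | ha0
  · exact ⟨0, zero_pow (Nat.succ_ne_zero q)⟩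
  have hq := two_le_q hF
  set φ : Fˣ →* Fˣ := powMonoidHom (q + 1) with hφ
  set K : Subgroup Fˣ := (powMonoidHom (q - 1) : Fˣ →* Fˣ).ker with hK
  have hle : φ.range ≤ K := by
    rintro _ ⟨x, rfl⟩
    simp only [hK, hφ, MonoidHom.mem_ker, powMonoidHom_apply, ← pow_mul]
    rw [← card_units_eq hF, pow_card_eq_one']
  have hKc : Nat.card K = q - 1 := card_fixedUnits hF
  have hφc : Nat.card φ.range = q - 1 := by
    rw [hφ, IsCyclic.card_powMonoidHom_range, card_units_eq hF, Nat.gcd_mul_right_left,
      Nat.mul_div_cancel_left _ (Nat.succ_pos q)]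
  have heq : φ.range = K := Subgroup.eq_of_le_of_card_ge hle (by rw [hKc, hφc])
  have hmem : Units.mk0 a ha0 ∈ K := by
    simp only [hK, MonoidHom.mem_ker, powMonoidHom_apply]
    ext
    simp only [Units.val_pow_eq_pow_val, Units.val_mk0, Units.val_one]
    apply mul_right_cancel₀ ha0
    rw [← pow_succ, Nat.sub_add_cancel (by omega), ha, one_mul]
  rw [← heq] at hmem
  obtain ⟨x, hx⟩ := hmem
  refine ⟨x, ?_⟩
  have := congrArg Units.val hx
  simpa [hφ] using this

/-- Fibres of the norm map. -/
theorem card_norm_fibre (hF : Fintype.card F = q ^ 2) [DecidableEq F] {a : F} (ha : a ^ q = a) :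
    Nat.card {x : F // x ^ (q + 1) = a} = if a = 0 then 1 else q + 1 := by
  split_ifs with h0
  · subst h0
    haveI : Unique {x : F // x ^ (q + 1) = 0} :=
      ⟨⟨⟨0, zero_pow (Nat.succ_ne_zero q)⟩⟩, fun x =>
        Subtype.ext (pow_eq_zero_iff (Nat.succ_ne_zero q) |>.1 x.2)⟩
    exact Nat.card_unique
  · obtain ⟨x₀, hx₀⟩ := exists_norm_eq hF ha
    have hx₀0 : x₀ ≠ 0 := by
      rintro rfl
      rw [zero_pow (Nat.succ_ne_zero q)] at hx₀
      exact h0 hx₀.symm
    refine (Eq.trans ?_ (card_normOne hF))
    refine Nat.card_congr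
      { toFun := fun x =>
          ⟨Units.mk0 (x.1 / x₀) (div_ne_zero (fun h => h0 (by
            have := x.2
            rw [h, zero_pow (Nat.succ_ne_zero q)] at this
            exact this.symm)) hx₀0), by
            ext
            simp [div_pow, x.2, hx₀, h0]⟩
        invFun := fun u => ⟨(u.1 : F) * x₀, by
            have := congrArg Units.val u.2
            simp only [Units.val_pow_eq_pow_val, Units.val_one] at this
            rw [mul_pow, this, hx₀, one_mul]⟩
        left_inv := fun x => by ext; simp [hx₀0]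
        right_inv := fun u => by ext; simp [hx₀0] }

/-- A unit of norm one different from `±1`. -/
theorem exists_normOne_sq_ne_one (hF : Fintype.card F = q ^ 2) :
    ∃ x : Fˣ, x ^ (q + 1) = 1 ∧ x ^ 2 ≠ 1 := by
  by_contra h
  push Not at h
  have hq := two_le_q hF
  have h1 : Nat.card {x : Fˣ // x ^ (q + 1) = 1} ≤ Nat.card {x : Fˣ // x ^ 2 = 1} :=
    Nat.card_le_card_of_injective (fun x => ⟨x.1, h x.1 x.2⟩)
      (fun a b hab => Subtype.ext (Subtype.ext_iff.1 hab :))
  have h2 := IsCyclic.card_powMonoidHom_ker (G := Fˣ) 2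
  have h3 : (Nat.card Fˣ).gcd 2 ≤ 2 := Nat.gcd_le_right _ two_pos
  rw [card_normOne hF] at h1
  have h4 : Nat.card {x : Fˣ // x ^ 2 = 1} = (Nat.card Fˣ).gcd 2 := h2
  omega

/-- A non-zero scalar of trace zero. -/
theorem exists_skew (hF : Fintype.card F = q ^ 2) : ∃ c : F, c ≠ 0 ∧ c + c ^ q = 0 := by
  have hq := two_le_q hF
  have : ∃ z : F, z ^ q ≠ z := by
    by_contra h
    push Not at h
    have h1 : Nat.card {x : Fˣ // x ^ (q - 1) = 1} = Nat.card Fˣ := by
      refine Nat.card_congr (Equiv.subtypeUnivEquiv fun x => ?_)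
      ext
      apply mul_right_cancel₀ x.ne_zero
      simp only [Units.val_pow_eq_pow_val, Units.val_one]
      rw [← pow_succ, Nat.sub_add_cancel (by omega), h, one_mul]
    rw [card_fixedUnits hF, card_units_eq hF] at h1
    nlinarith [h1, Nat.sub_add_cancel (by omega : 1 ≤ q)]
  obtain ⟨z, hz⟩ := this
  refine ⟨z - z ^ q, sub_ne_zero.2 (Ne.symm hz), ?_⟩
  rw [sub_pow_q hF, pow_q_q hF]
  ring

/-! ### The form -/

variable {n : ℕ}

omit [Fintype F] in
theorem herm_add_left (x y v : Fin n → F) :
    hermForm n F q (x + y) v = hermForm n F q x v + hermForm n F q y v := by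
  simp [hermForm, add_mul, Finset.sum_add_distrib]

omit [Fintype F] in
theorem herm_smul_left (c : F) (x v : Fin n → F) :
    hermForm n F q (c • x) v = c * hermForm n F q x v := by
  simp [hermForm, Finset.mul_sum, mul_assoc]

omit [Fintype F] in
theorem herm_sub_left (x y v : Fin n → F) :
    hermForm n F q (x - y) v = hermForm n F q x v - hermForm n F q y v := by
  simp [hermForm, sub_mul, Finset.sum_sub_distrib]

theorem herm_add_right (hF : Fintype.card F = q ^ 2) (x y v : Fin n → F) :
    hermForm n F q v (x + y) = hermForm n F q v x + hermForm n F q v y := by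
  simp [hermForm, add_pow_q hF, mul_add, Finset.sum_add_distrib]

theorem herm_sub_right (hF : Fintype.card F = q ^ 2) (x y v : Fin n → F) :
    hermForm n F q v (x - y) = hermForm n F q v x - hermForm n F q v y := by
  simp [hermForm, sub_pow_q hF, mul_sub, Finset.sum_sub_distrib]

omit [Fintype F] in
theorem herm_smul_right (c : F) (x v : Fin n → F) :
    hermForm n F q v (c • x) = c ^ q * hermForm n F q v x := by
  simp only [hermForm, Pi.smul_apply, smul_eq_mul, mul_pow, Finset.mul_sum]
  exact Finset.sum_congr rfl fun i _ => by ring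

theorem herm_conj (hF : Fintype.card F = q ^ 2) (u v : Fin n → F) :
    hermForm n F q v u = hermForm n F q u v ^ q := by
  simp only [hermForm, sum_pow_q hF, mul_pow, pow_q_q hF]
  exact Finset.sum_congr rfl fun i _ => mul_comm _ _

theorem herm_self_pow (hF : Fintype.card F = q ^ 2) (v : Fin n → F) :
    hermForm n F q v v ^ q = hermForm n F q v v := (herm_conj hF v v).symm

theorem herm_single_right (hF : Fintype.card F = q ^ 2) (i : Fin n) (v : Fin n → F) :
    hermForm n F q v (Pi.single i 1) = v i := by
  unfold hermForm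
  rw [Finset.sum_eq_single i]
  · simp
  · intro j _ hj
    simp [Pi.single_eq_of_ne hj, zero_pow_q hF]
  · simp

omit [Fintype F] in
theorem herm_single_left (i : Fin n) (v : Fin n → F) :
    hermForm n F q (Pi.single i 1) v = v i ^ q := by
  unfold hermForm
  rw [Finset.sum_eq_single i]
  · simp
  · intro j _ hj; simp [Pi.single_eq_of_ne hj]
  · simp

theorem eq_zero_of_herm_eq_zero (hF : Fintype.card F = q ^ 2) {v : Fin n → F}
    (h : ∀ x, hermForm n F q v x = 0) : v = 0 := by
  funext i
  simpa [herm_single_right hF] using h (Pi.single i 1)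

omit [Fintype F] in
theorem herm_cons (x y : F) (u v : Fin n → F) :
    hermForm (n + 1) F q (Fin.cons x u : Fin (n + 1) → F) (Fin.cons y v : Fin (n + 1) → F)
      = x * y ^ q + hermForm n F q u v := by
  simp [hermForm, Fin.sum_univ_succ]

/-! ### Counting vectors of given norm -/

theorem card_norm_succ (hF : Fintype.card F = q ^ 2) {a : F} (ha : a ^ q = a) (n : ℕ) :
    (Nat.card {v : Fin (n + 1) → F // hermForm (n + 1) F q v v = a} : ℤ)
      = (q + 1) * q ^ (2 * n) - q * Nat.card {w : Fin n → F // hermForm n F q w w = a} := by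
  classical
  have e : {v : Fin (n + 1) → F // hermForm (n + 1) F q v v = a} ≃
      (Σ w : Fin n → F, {x : F // x ^ (q + 1) = a - hermForm n F q w w}) :=
    { toFun := fun v => ⟨Fin.tail v.1, v.1 0, by
        have h := v.2
        rw [← Fin.cons_self_tail v.1, herm_cons] at h
        rw [pow_succ', eq_sub_iff_add_eq]
        exact h⟩
      invFun := fun p => ⟨Fin.cons p.2.1 p.1, by
        rw [herm_cons, ← pow_succ', p.2.2]; ring⟩
      left_inv := fun v => by simp
      right_inv := fun p => by
        obtain ⟨w, x, hx⟩ := p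
        refine Sigma.ext ?_ ?_
        · exact Fin.tail_cons (α := fun _ => F) x w
        · refine (Subtype.heq_iff_coe_eq ?_).2 ?_
          · intro y; simp
          · exact Fin.cons_zero (α := fun _ => F) x w }
  rw [Nat.card_congr e, Nat.card_sigma]
  have hfix : ∀ w : Fin n → F,
      (a - hermForm n F q w w) ^ q = a - hermForm n F q w w := fun w => by
    rw [sub_pow_q hF, ha, herm_self_pow hF]
  simp only [card_norm_fibre hF (hfix _)]
  push_cast
  have : ∀ w : Fin n → F, (if a - hermForm n F q w w = 0 then (1 : ℤ) else q + 1)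
      = (q + 1) - q * (if hermForm n F q w w = a then 1 else 0) := by
    intro w
    by_cases h : hermForm n F q w w = a
    · simp [h]
    · simp [h, sub_eq_zero, Ne.symm h]
  simp only [this, Finset.sum_sub_distrib, ← Finset.mul_sum, Finset.sum_boole]
  simp [Nat.card_eq_fintype_card, Fintype.card_subtype, hF, ← pow_mul, mul_comm (2 : ℕ),
    mul_comm ((q : ℤ) + 1)]

theorem q_mul_card_norm_zero (hF : Fintype.card F = q ^ 2) (n : ℕ) :
    (q : ℤ) * Nat.card {v : Fin n → F // hermForm n F q v v = 0}
      = q ^ (2 * n) + (-1) ^ n * (q - 1) * q ^ n := by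
  induction n with
  | zero => simp [hermForm]
  | succ n ih =>
    rw [card_norm_succ hF (zero_pow_q hF) n]
    have : (q : ℤ) * ((q + 1) * q ^ (2 * n)
        - q * Nat.card {v : Fin n → F // hermForm n F q v v = 0})
        = q * ((q + 1) * q ^ (2 * n)) - q * ((q : ℤ) * Nat.card {v : Fin n → F // hermForm n F q v v = 0}) := by
      ring
    rw [this, ih]
    ring

theorem q_mul_card_norm_ne_zero (hF : Fintype.card F = q ^ 2) {a : F} (ha : a ^ q = a) (ha0 : a ≠ 0)
    (n : ℕ) :
    (q : ℤ) * Nat.card {v : Fin n → F // hermForm n F q v v = a}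
      = q ^ (2 * n) - (-1) ^ n * q ^ n := by
  induction n with
  | zero =>
    haveI : IsEmpty {v : Fin 0 → F // hermForm 0 F q v v = a} :=
      ⟨fun v => ha0 (by simpa [hermForm] using v.2.symm)⟩
    simp
  | succ n ih =>
    rw [card_norm_succ hF ha n]
    have : (q : ℤ) * ((q + 1) * q ^ (2 * n)
        - q * Nat.card {v : Fin n → F // hermForm n F q v v = a})
        = q * ((q + 1) * q ^ (2 * n)) - q * ((q : ℤ) * Nat.card {v : Fin n → F // hermForm n F q v v = a}) := by
      ring
    rw [this, ih]
    ring

theorem card_norm_one_succ (hF : Fintype.card F = q ^ 2) (n : ℕ) :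
    Nat.card {v : Fin (n + 1) → F // hermForm (n + 1) F q v v = 1}
      = q ^ n * (if Even n then q ^ (n + 1) + 1 else q ^ (n + 1) - 1) := by
  have hq := two_le_q hF
  have h := q_mul_card_norm_ne_zero hF (one_pow q : (1 : F) ^ q = 1) one_ne_zero (n + 1)
  have h1 : 1 ≤ q ^ (n + 1) := Nat.one_le_pow _ _ (by omega)
  zify
  apply mul_left_cancel₀ (show (q : ℤ) ≠ 0 by omega)
  rw [h]
  split_ifs with he
  · rw [he.add_one.neg_one_pow]; push_cast; ring
  · rw [(Nat.not_even_iff_odd.1 he).add_one.neg_one_pow]; push_cast [h1]; ring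

/-! ### Transvections and quasi-reflections -/

/-- Being a matrix that preserves the form. -/
def IsU (q : ℕ) (M : Matrix (Fin n) (Fin n) F) : Prop :=
  ∀ u v, hermForm n F q (M *ᵥ u) (M *ᵥ v) = hermForm n F q u v

omit [Fintype F] in
theorem transvection_mulVec (w : Fin n → F) (c : F) (x : Fin n → F) :
    unitaryTransvection n q w c *ᵥ x = x + (c * hermForm n F q x w) • w := by
  funext i
  simp only [unitaryTransvection, Matrix.add_mulVec, Matrix.one_mulVec, Matrix.smul_mulVec,
    Matrix.vecMulVec_mulVec, Pi.add_apply, Pi.smul_apply, smul_eq_mul, op_smul_eq_mul,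
    hermForm, dotProduct]
  congr 1
  simp only [Finset.sum_mul, Finset.mul_sum]
  exact Finset.sum_congr rfl fun j _ => by ring

theorem herm_transvection (hF : Fintype.card F = q ^ 2) (w : Fin n → F) (c : F)
    (x y : Fin n → F) :
    hermForm n F q (unitaryTransvection n q w c *ᵥ x) (unitaryTransvection n q w c *ᵥ y)
      = hermForm n F q x y + hermForm n F q x w * hermForm n F q w y *
          (c + c ^ q + c * c ^ q * hermForm n F q w w) := by
  rw [transvection_mulVec, transvection_mulVec, herm_add_left, herm_add_right hF,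
    herm_add_right hF, herm_smul_left, herm_smul_left, herm_smul_right, herm_smul_right, mul_pow,
    ← herm_conj hF y w]
  ring

theorem isU_transvection (hF : Fintype.card F = q ^ 2) {w : Fin n → F} {c : F}
    (h : c + c ^ q + c * c ^ q * hermForm n F q w w = 0) :
    IsU q (unitaryTransvection n q w c) := fun x y => by
  rw [herm_transvection hF, h, mul_zero, add_zero]

theorem det_transvection (hF : Fintype.card F = q ^ 2) (w : Fin n → F) (c : F) :
    (unitaryTransvection n q w c).det = 1 + c * hermForm n F q w w := by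
  have : unitaryTransvection n q w c = 1 + Matrix.replicateCol Unit (c • w) *
      Matrix.replicateRow Unit (fun j => w j ^ q) := by
    ext i j
    simp [unitaryTransvection, Matrix.vecMulVec_apply, Matrix.mul_apply, mul_assoc]
  rw [this, Matrix.det_one_add_replicateCol_mul_replicateRow]
  simp only [dotProduct, hermForm, Pi.smul_apply, smul_eq_mul, Finset.mul_sum]
  congr 1
  exact Finset.sum_congr rfl fun j _ => by ring

theorem IsU.isUnit (hF : Fintype.card F = q ^ 2) {M : Matrix (Fin n) (Fin n) F} (hM : IsU q M) :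
    IsUnit M := by
  rw [← Matrix.mulVec_injective_iff_isUnit]
  intro a b hab
  rw [← sub_eq_zero]
  apply eq_zero_of_herm_eq_zero hF
  intro x
  rw [herm_sub_left, ← hM a x, ← hM b x, hab, sub_self]

omit [Fintype F] in
theorem IsU.mul {M N : Matrix (Fin n) (Fin n) F} (hM : IsU q M) (hN : IsU q N) : IsU q (M * N) :=
  fun u v => by rw [← Matrix.mulVec_mulVec, ← Matrix.mulVec_mulVec, hM, hN]

/-- Elements of `GU` from matrices preserving the form. -/
noncomputable def mkGU (hF : Fintype.card F = q ^ 2) (M : Matrix (Fin n) (Fin n) F) (hM : IsU q M) :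
    GU n F q :=
  ⟨(hM.isUnit hF).unit, fun u v => by simpa using hM u v⟩

theorem mkGU_coe (hF : Fintype.card F = q ^ 2) (M : Matrix (Fin n) (Fin n) F) (hM : IsU q M) :
    ((mkGU hF M hM : Matrix.GeneralLinearGroup (Fin n) F) : Matrix (Fin n) (Fin n) F) = M :=
  (hM.isUnit hF).unit_spec

omit [Fintype F] in
theorem isU_of_mem (g : GU n F q) :
    IsU q ((g : Matrix.GeneralLinearGroup (Fin n) F) : Matrix (Fin n) (Fin n) F) := g.2

/-- `GU` as a set of matrices. -/
noncomputable def guEquiv (hF : Fintype.card F = q ^ 2) :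
    GU n F q ≃ {M : Matrix (Fin n) (Fin n) F // IsU q M} where
  toFun g := ⟨_, isU_of_mem g⟩
  invFun M := mkGU hF M.1 M.2
  left_inv g := Subtype.ext (Units.ext (mkGU_coe hF _ _))
  right_inv M := Subtype.ext (mkGU_coe hF M.1 M.2)

/-- Transitivity on vectors of a given non-zero norm. -/
theorem exists_isU_map (hF : Fintype.card F = q ^ 2) {u v : Fin n → F}
    (huv : hermForm n F q u u = hermForm n F q v v) (h0 : hermForm n F q u u ≠ 0) :
    ∃ M : Matrix (Fin n) (Fin n) F, IsU q M ∧ M *ᵥ u = v := by
  have aux : ∀ u' : Fin n → F, hermForm n F q u' u' = hermForm n F q v v →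
      hermForm n F q u' v ≠ hermForm n F q u' u' →
      ∃ M : Matrix (Fin n) (Fin n) F, IsU q M ∧ M *ᵥ u' = v := by
    intro u' hu' hne
    have hd : hermForm n F q u' (v - u') ≠ 0 := by
      rw [herm_sub_right hF]; exact sub_ne_zero.2 hne
    refine ⟨unitaryTransvection n q (v - u') (hermForm n F q u' (v - u'))⁻¹,
      isU_transvection hF ?_, ?_⟩
    · have hdq : hermForm n F q u' (v - u') ^ q ≠ 0 := pow_ne_zero _ hd
      have key : hermForm n F q u' (v - u') ^ q + hermForm n F q u' (v - u')
          + hermForm n F q (v - u') (v - u') = 0 := by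
        rw [← herm_conj hF]
        simp only [herm_sub_left, herm_sub_right hF, hu']
        ring
      rw [inv_pow]
      field_simp
      linear_combination key
    · rw [transvection_mulVec, inv_mul_cancel₀ hd, one_smul, add_sub_cancel]
  by_cases hne : hermForm n F q u v = hermForm n F q u u
  · obtain ⟨l, hl, hl2⟩ := exists_normOne_sq_ne_one hF
    have hl1 : (l : F) ≠ 1 := fun h => hl2 (by
      have : l = 1 := Units.ext h
      simp [this])
    have hlq : (l : F) * (l : F) ^ q = 1 := by
      rw [← pow_succ', ← Units.val_pow_eq_pow_val, hl, Units.val_one]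
    set a := hermForm n F q u u with ha
    have haq : a ^ q = a := herm_self_pow hF u
    have h1 : IsU q (unitaryTransvection n q u (((l : F) - 1) / a)) := by
      refine isU_transvection hF ?_
      rw [← ha, div_pow, sub_pow_q hF, haq, one_pow]
      field_simp
      linear_combination hlq
    have h2 : unitaryTransvection n q u (((l : F) - 1) / a) *ᵥ u = (l : F) • u := by
      rw [transvection_mulVec, ← ha, div_mul_cancel₀ _ h0]
      module
    obtain ⟨M, hM, hMu⟩ := aux ((l : F) • u)
      (by rw [herm_smul_left, herm_smul_right, ← mul_assoc, hlq, one_mul]; exact huv)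
      (by
        rw [herm_smul_left, herm_smul_left, herm_smul_right, ← mul_assoc, hlq, one_mul, hne]
        intro h
        exact hl1 (mul_right_cancel₀ h0 (h.trans (one_mul a).symm)))
    exact ⟨_, hM.mul h1, by rw [← Matrix.mulVec_mulVec, h2, hMu]⟩
  · exact aux u huv hne

/-- Two non-zero isotropic vectors with non-zero product are in one orbit. -/
theorem exists_isU_map_isotropic (hF : Fintype.card F = q ^ 2) {u v : Fin n → F}
    (hu : hermForm n F q u u = 0) (hv : hermForm n F q v v = 0)
    (h : hermForm n F q u v ≠ 0) :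
    ∃ M : Matrix (Fin n) (Fin n) F, IsU q M ∧ M *ᵥ u = v := by
  have hd : hermForm n F q u (v - u) ≠ 0 := by
    rw [herm_sub_right hF, hu, sub_zero]; exact h
  refine ⟨unitaryTransvection n q (v - u) (hermForm n F q u (v - u))⁻¹,
    isU_transvection hF ?_, ?_⟩
  · have hdq : hermForm n F q u (v - u) ^ q ≠ 0 := pow_ne_zero _ hd
    have key : hermForm n F q u (v - u) ^ q + hermForm n F q u (v - u)
        + hermForm n F q (v - u) (v - u) = 0 := by
      rw [← herm_conj hF]
      simp only [herm_sub_left, herm_sub_right hF, hu, hv]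
      ring
    rw [inv_pow]
    field_simp
    linear_combination key
  · rw [transvection_mulVec, inv_mul_cancel₀ hd, one_smul, add_sub_cancel]

/-! ### The order of `GU` -/

/-- Extend a matrix by a fixed first basis vector. -/
def extendMat (M : Matrix (Fin n) (Fin n) F) : Matrix (Fin (n + 1)) (Fin (n + 1)) F :=
  Matrix.of (Fin.cons (Fin.cons 1 0) fun i => Fin.cons 0 (M i))

omit [Fintype F] in
theorem extendMat_mulVec (M : Matrix (Fin n) (Fin n) F) (v : Fin (n + 1) → F) :
    extendMat M *ᵥ v = Fin.cons (v 0) (M *ᵥ Fin.tail v) := by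
  funext i
  cases i using Fin.cases with
  | zero => simp [Matrix.mulVec, dotProduct, extendMat, Fin.sum_univ_succ]
  | succ i => simp [Matrix.mulVec, dotProduct, extendMat, Fin.sum_univ_succ, Fin.tail]

theorem isU_stab (hF : Fintype.card F = q ^ 2) {M : Matrix (Fin (n + 1)) (Fin (n + 1)) F}
    (hM : IsU q M) (he : M *ᵥ Pi.single 0 1 = Pi.single 0 1) :
    M = extendMat (M.submatrix Fin.succ Fin.succ) ∧ IsU q (M.submatrix Fin.succ Fin.succ) := by
  have hcol : ∀ i, M i 0 = (Pi.single 0 1 : Fin (n + 1) → F) i := fun i => by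
    rw [← he]; simp
  have hrow : ∀ j, M 0 j = (Pi.single 0 1 : Fin (n + 1) → F) j := fun j => by
    have h := hM (Pi.single j 1) (Pi.single 0 1)
    rw [he, herm_single_right hF, herm_single_right hF] at h
    simpa [Pi.single_comm, Pi.single_apply, eq_comm] using h
  have hM' : M = extendMat (M.submatrix Fin.succ Fin.succ) := by
    ext i j
    cases i using Fin.cases with
    | zero =>
      cases j using Fin.cases with
      | zero => simp [extendMat, hrow]
      | succ j => simp [extendMat, hrow, Fin.succ_ne_zero]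
    | succ i =>
      cases j using Fin.cases with
      | zero => simp [extendMat, hcol, Fin.succ_ne_zero]
      | succ j => simp [extendMat]
  refine ⟨hM', fun u v => ?_⟩
  have h := hM (Fin.cons 0 u) (Fin.cons 0 v)
  rw [hM', extendMat_mulVec, extendMat_mulVec, herm_cons, herm_cons] at h
  simpa using h

theorem isU_extendMat {M : Matrix (Fin n) (Fin n) F} (hM : IsU q M) : IsU q (extendMat M) := by
  intro u v
  rw [extendMat_mulVec, extendMat_mulVec, herm_cons, hM, ← herm_cons, Fin.cons_self_tail,
    Fin.cons_self_tail]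

theorem card_GU_succ (hF : Fintype.card F = q ^ 2) (n : ℕ) :
    Nat.card (GU (n + 1) F q)
      = Nat.card {v : Fin (n + 1) → F // hermForm (n + 1) F q v v = 1} * Nat.card (GU n F q) := by
  classical
  set e : Fin (n + 1) → F := Pi.single 0 1 with he
  have hee : hermForm (n + 1) F q e e = 1 := by rw [he, herm_single_right hF]; simp
  let f : GU (n + 1) F q → {v : Fin (n + 1) → F // hermForm (n + 1) F q v v = 1} := fun g =>
    ⟨((g : Matrix.GeneralLinearGroup (Fin (n + 1)) F) : Matrix _ _ F) *ᵥ e, by
      rw [isU_of_mem g]; exact hee⟩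
  rw [card_eq_card_mul_card_fibre f ⟨e, hee⟩ ?_]
  · congr 1
    refine Nat.card_congr ?_
    exact
      { toFun := fun g => mkGU hF _ (isU_stab hF (isU_of_mem g.1) (congrArg Subtype.val g.2)).2
        invFun := fun h => ⟨mkGU hF _ (isU_extendMat (isU_of_mem h)), by
          apply Subtype.ext
          simp only [f, mkGU_coe, he, extendMat_mulVec]
          funext i
          cases i using Fin.cases with
          | zero => simp
          | succ i =>
            rw [Fin.cons_succ]
            have : Fin.tail (Pi.single (0 : Fin (n + 1)) (1 : F) : Fin (n + 1) → F) = 0 := by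
              funext j; simp [Fin.tail, Fin.succ_ne_zero]
            rw [this, Matrix.mulVec_zero]
            simp [Fin.succ_ne_zero]⟩
        left_inv := fun g => by
          apply Subtype.ext; apply Subtype.ext; apply Units.ext
          rw [mkGU_coe, mkGU_coe]
          exact (isU_stab hF (isU_of_mem g.1) (congrArg Subtype.val g.2)).1.symm
        right_inv := fun h => by
          apply Subtype.ext; apply Units.ext
          rw [mkGU_coe, mkGU_coe]
          ext i j
          simp [extendMat] }
  · intro s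
    obtain ⟨M, hM, hMe⟩ := exists_isU_map hF (u := e) (v := s.1) (by rw [hee, s.2])
      (by rw [hee]; exact one_ne_zero)
    refine ⟨mkGU hF M hM, fun g => ?_⟩
    have hinj : Function.Injective M.mulVec := Matrix.mulVec_injective_iff_isUnit.2 (hM.isUnit hF)
    simp only [Subtype.ext_iff, f, Subgroup.coe_mul, Units.val_mul, mkGU_coe,
      ← Matrix.mulVec_mulVec]
    rw [← hMe]
    exact hinj.eq_iff

theorem card_GU (hF : Fintype.card F = q ^ 2) (n : ℕ) :
    Nat.card (GU n F q) = q ^ (n * (n - 1) / 2) *
      ∏ i ∈ Finset.range n, (if Even i then q ^ (i + 1) + 1 else q ^ (i + 1) - 1) := by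
  induction n with
  | zero =>
    haveI : Subsingleton (GU 0 F q) := ⟨fun a b => Subtype.ext (Units.ext (Subsingleton.elim _ _))⟩
    simp [Nat.card_unique]
  | succ n ih =>
    rw [card_GU_succ hF, card_norm_one_succ hF, ih, Finset.prod_range_succ, Nat.triangle_succ,
      pow_add]
    ring

/-! ### `SU` -/

/-- Elements of `SU` from matrices. -/
def mkSU (M : Matrix (Fin n) (Fin n) F) (hd : M.det = 1) (hM : IsU q M) : SU n F q :=
  ⟨⟨M, hd⟩, hM⟩

omit [Fintype F] in
theorem isU_of_mem_SU (g : SU n F q) :
    IsU q ((g : Matrix.SpecialLinearGroup (Fin n) F) : Matrix (Fin n) (Fin n) F) := g.2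

/-- The inclusion of `SU` into `GU`. -/
def suToGU : SU n F q →* GU n F q where
  toFun g := ⟨Matrix.SpecialLinearGroup.toGL g.1, g.2⟩
  map_one' := by ext; rfl
  map_mul' a b := by ext; rfl

omit [Fintype F] in
theorem suToGU_injective : Function.Injective (suToGU (n := n) (F := F) (q := q)) := by
  intro a b h
  exact Subtype.ext (Matrix.SpecialLinearGroup.toGL_injective (congrArg Subtype.val h))

/-- The determinant on `GU`. -/
def detGU : GU n F q →* Fˣ := Matrix.GeneralLinearGroup.det.comp (GU n F q).subtype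

theorem range_suToGU : (suToGU (n := n) (F := F) (q := q)).range = detGU.ker := by
  ext g
  constructor
  · rintro ⟨a, rfl⟩
    apply Units.ext
    exact a.1.2
  · intro h
    have hd : ((g : Matrix.GeneralLinearGroup (Fin n) F) : Matrix (Fin n) (Fin n) F).det = 1 :=
      congrArg Units.val h
    exact ⟨mkSU _ hd (isU_of_mem g), Subtype.ext (Units.ext rfl)⟩

/-- The determinant of a unitary matrix has norm one. -/
theorem IsU.det_pow (hF : Fintype.card F = q ^ 2) {M : Matrix (Fin n) (Fin n) F} (hM : IsU q M) :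
    M.det ^ (q + 1) = 1 := by
  obtain ⟨σ, hσ⟩ := exists_frobHom hF
  have h : Mᵀ * σ.mapMatrix M = 1 := by
    ext i j
    have h := hM (Pi.single i 1) (Pi.single j 1)
    rw [herm_single_right hF] at h
    simp only [hermForm, Matrix.mulVec_single_one, Matrix.col_apply] at h
    simp only [Matrix.mul_apply, Matrix.transpose_apply, RingHom.mapMatrix_apply, Matrix.map_apply,
      hσ, h, Matrix.one_apply, Pi.single_apply]
    simp [eq_comm]
  have := congrArg Matrix.det h
  rwa [Matrix.det_mul, Matrix.det_transpose, ← RingHom.map_det, hσ, Matrix.det_one,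
    ← pow_succ'] at this

theorem range_detGU (hF : Fintype.card F = q ^ 2) (hn : 1 ≤ n) :
    (detGU (n := n) (F := F) (q := q)).range = (powMonoidHom (q + 1) : Fˣ →* Fˣ).ker := by
  ext x
  constructor
  · rintro ⟨g, rfl⟩
    apply Units.ext
    simpa [detGU, Matrix.GeneralLinearGroup.val_det_apply] using (isU_of_mem g).det_pow hF
  · intro hx
    have hx' : (x : F) * (x : F) ^ q = 1 := by
      rw [← pow_succ']
      simpa using congrArg Units.val (MonoidHom.mem_ker.1 hx)
    set i : Fin n := ⟨0, hn⟩
    have he : hermForm n F q (Pi.single i 1) (Pi.single i 1) = 1 := by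
      rw [herm_single_right hF]; simp
    have h1 : IsU q (unitaryTransvection n q (Pi.single i 1) ((x : F) - 1)) := by
      refine isU_transvection hF ?_
      rw [he, sub_pow_q hF, one_pow]
      linear_combination hx'
    refine ⟨mkGU hF _ h1, Units.ext ?_⟩
    simp [detGU, Matrix.GeneralLinearGroup.val_det_apply, mkGU_coe, det_transvection hF, he]

theorem card_GU_eq_mul_card_SU (hF : Fintype.card F = q ^ 2) (hn : 1 ≤ n) :
    (q + 1) * Nat.card (SU n F q) = Nat.card (GU n F q) := by
  rw [Nat.card_congr (MonoidHom.ofInjective (suToGU_injective (n := n) (F := F) (q := q))).toEquiv,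
    range_suToGU, Subgroup.card_eq_card_quotient_mul_card_subgroup (detGU (n := n) (F := F) (q := q)).ker,
    Nat.card_congr (QuotientGroup.quotientKerEquivRange (detGU (n := n) (F := F) (q := q))).toEquiv,
    range_detGU hF hn]
  congr 1
  exact (card_normOne hF).symm

/-! ### Monomial elements and the centre of `SU` -/

/-- The product of a permutation matrix and a diagonal matrix. -/
def monMat (π : Equiv.Perm (Fin n)) (d : Fin n → F) : Matrix (Fin n) (Fin n) F :=
  π.permMatrix F * Matrix.diagonal d

omit [Fintype F] in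
theorem monMat_mulVec (π : Equiv.Perm (Fin n)) (d v : Fin n → F) (i : Fin n) :
    (monMat π d *ᵥ v) i = d (π i) * v (π i) := by
  simp [monMat, ← Matrix.mulVec_mulVec, Matrix.permMatrix_mulVec, Matrix.mulVec_diagonal]

omit [Fintype F] in
theorem isU_monMat (π : Equiv.Perm (Fin n)) {d : Fin n → F} (hd : ∀ i, d i ^ (q + 1) = 1) :
    IsU q (monMat π d) := by
  intro u v
  simp only [hermForm, monMat_mulVec, mul_pow]
  rw [Equiv.sum_comp π (fun j => d j * u j * (d j ^ q * v j ^ q))]
  refine Finset.sum_congr rfl fun i _ => ?_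
  have h := hd i
  rw [pow_succ'] at h
  linear_combination (u i * v i ^ q) * h

omit [Fintype F] in
theorem det_monMat (π : Equiv.Perm (Fin n)) (d : Fin n → F) :
    (monMat π d).det = (Equiv.Perm.sign π : F) * ∏ i, d i := by
  simp [monMat, Matrix.det_permutation]

theorem center_SU_scalar (hF : Fintype.card F = q ^ 2) (hn : 2 ≤ n) {g : SU n F q}
    (hg : g ∈ Subgroup.center (SU n F q)) :
    ∀ i j : Fin n, ((g : Matrix.SpecialLinearGroup (Fin n) F) : Matrix (Fin n) (Fin n) F) i j
      = if i = j then ((g : Matrix.SpecialLinearGroup (Fin n) F) : Matrix (Fin n) (Fin n) F)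
          ⟨0, by omega⟩ ⟨0, by omega⟩ else 0 := by
  classical
  set M := ((g : Matrix.SpecialLinearGroup (Fin n) F) : Matrix (Fin n) (Fin n) F) with hM
  have comm : ∀ (N : Matrix (Fin n) (Fin n) F) (hd : N.det = 1) (hN : IsU q N),
      N * M = M * N := fun N hd hN => by
    have h := Subgroup.mem_center_iff.1 hg (mkSU N hd hN)
    exact congrArg (fun x : SU n F q =>
      ((x : Matrix.SpecialLinearGroup (Fin n) F) : Matrix (Fin n) (Fin n) F)) h
  obtain ⟨l, hl, hl2⟩ := exists_normOne_sq_ne_one hF
  have hlF : (l : F) ^ (q + 1) = 1 := by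
    rw [← Units.val_pow_eq_pow_val, hl, Units.val_one]
  have hoff : ∀ a b, a ≠ b → M a b = 0 := by
    intro a b hab
    set d : Fin n → F := Function.update (Function.update 1 b (↑l⁻¹ : F)) a (l : F) with hd
    have hda : d a = l := by simp [hd]
    have hdb : d b = ↑l⁻¹ := by simp [hd, hab.symm]
    have hprod : ∏ i, d i = 1 := by
      rw [hd, Finset.prod_update_of_mem (Finset.mem_univ a),
        Finset.prod_update_of_mem (by simp [hab.symm])]
      simp
    have hnorm : ∀ i, d i ^ (q + 1) = 1 := by
      intro i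
      by_cases hia : i = a
      · subst hia; rw [hda]; exact hlF
      · by_cases hib : i = b
        · subst hib
          rw [hdb, Units.val_inv_eq_inv_val, inv_pow, hlF, inv_one]
        · simp [hd, hia, hib]
    have h := comm (monMat 1 d) (by rw [det_monMat, hprod]; simp) (isU_monMat 1 hnorm)
    have h' := congrFun (congrFun h a) b
    simp only [monMat, Matrix.permMatrix_one, one_mul, Matrix.diagonal_mul,
      Matrix.mul_diagonal, hda, hdb, Units.val_inv_eq_inv_val] at h'
    by_contra h0
    apply hl2
    ext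
    have h2 : (l : F) * (l : F) = 1 := by
      have h3 : (l : F) * M a b = (l : F)⁻¹ * M a b := by rw [h', mul_comm]
      have h4 := mul_right_cancel₀ h0 h3
      calc (l : F) * (l : F) = (l : F) * (l : F)⁻¹ := congrArg ((l : F) * ·) h4
        _ = 1 := mul_inv_cancel₀ l.ne_zero
    simpa [sq] using h2
  intro i j
  split_ifs with hij
  · subst hij
    set z : Fin n := ⟨0, by omega⟩
    by_cases hiz : i = z
    · rw [hiz]
    · set d : Fin n → F := Function.update 1 i (-1) with hd
      have hnorm : ∀ k, d k ^ (q + 1) = 1 := by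
        intro k
        by_cases hk : k = i
        · subst hk; simp [hd, pow_succ', neg_pow_q hF]
        · simp [hd, hk]
      have hdet : (monMat (Equiv.swap i z) d).det = 1 := by
        rw [det_monMat, Equiv.Perm.sign_swap hiz, hd, Finset.prod_update_of_mem (Finset.mem_univ i)]
        simp
      have h := comm _ hdet (isU_monMat _ hnorm)
      have h' := congrFun (h ▸ rfl : (monMat (Equiv.swap i z) d * M) *ᵥ (Pi.single i 1)
        = (M * monMat (Equiv.swap i z) d) *ᵥ (Pi.single i 1)) z
      rw [← Matrix.mulVec_mulVec, ← Matrix.mulVec_mulVec, monMat_mulVec, Equiv.swap_apply_right,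
        Matrix.mulVec_single_one, Matrix.col_apply] at h'
      have hcol : monMat (Equiv.swap i z) d *ᵥ Pi.single i 1 = Pi.single z (-1 : F) := by
        funext k
        rw [monMat_mulVec]
        by_cases hk : k = z
        · subst hk; simp [hd]
        · have : (Equiv.swap i z) k ≠ i := by
            intro h2
            exact hk (by simpa using (Equiv.apply_eq_iff_eq_symm_apply _).1 h2)
          simp [Pi.single_eq_of_ne this, Pi.single_eq_of_ne hk]
      rw [hcol] at h'
      simpa [hd, Matrix.mulVec_single] using h'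
  · exact hoff i j hij

theorem card_center_SU (hF : Fintype.card F = q ^ 2) (hn : 2 ≤ n) :
    Nat.card (Subgroup.center (SU n F q)) = Nat.gcd n (q + 1) := by
  classical
  set z : Fin n := ⟨0, by omega⟩
  set G := Nat.gcd n (q + 1) with hG
  have hGd : G ∣ Nat.card Fˣ :=
    (Nat.gcd_dvd_right n (q + 1)).trans ⟨q - 1, card_units_eq hF⟩
  rw [← card_pow_eq_one_of_dvd hGd]
  have scal : ∀ x : Fˣ, x ^ G = 1 →
      (Matrix.diagonal fun _ : Fin n => (x : F)).det = 1 ∧
      IsU q (Matrix.diagonal fun _ : Fin n => (x : F)) := by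
    intro x hx
    have h1 : x ^ n = 1 := orderOf_dvd_iff_pow_eq_one.1 ((orderOf_dvd_of_pow_eq_one hx).trans (Nat.gcd_dvd_left _ _))
    have h2 : x ^ (q + 1) = 1 := orderOf_dvd_iff_pow_eq_one.1 ((orderOf_dvd_of_pow_eq_one hx).trans (Nat.gcd_dvd_right _ _))
    constructor
    · rw [Matrix.det_diagonal, Finset.prod_const, Finset.card_univ, Fintype.card_fin,
        ← Units.val_pow_eq_pow_val, h1, Units.val_one]
    · have := isU_monMat (q := q) (1 : Equiv.Perm (Fin n)) (d := fun _ => (x : F))
        (fun _ => by rw [← Units.val_pow_eq_pow_val, h2, Units.val_one])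
      simpa [monMat] using this
  symm
  refine Nat.card_eq_of_bijective
    (fun x => (⟨mkSU _ (scal x.1 x.2).1 (scal x.1 x.2).2, ?_⟩ : Subgroup.center (SU n F q))) ?_
  · rw [Subgroup.mem_center_iff]
    intro h
    apply Subtype.ext
    apply Subtype.ext
    change (h : Matrix.SpecialLinearGroup (Fin n) F).1 * Matrix.diagonal (fun _ => (x.1 : F))
      = Matrix.diagonal (fun _ => (x.1 : F)) * (h : Matrix.SpecialLinearGroup (Fin n) F).1
    exact ((Matrix.scalar_commute (x.1 : F) (fun r => mul_comm _ _) _).symm).eq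
  constructor
  · intro a b h
    have := congrFun (congrFun (congrArg (fun y : Subgroup.center (SU n F q) =>
      ((y.1 : Matrix.SpecialLinearGroup (Fin n) F) : Matrix (Fin n) (Fin n) F)) h) z) z
    exact Subtype.ext (Units.ext (by simpa [mkSU] using this))
  · rintro ⟨g, hg⟩
    have hs := center_SU_scalar hF hn hg
    set M := ((g : Matrix.SpecialLinearGroup (Fin n) F) : Matrix (Fin n) (Fin n) F) with hM
    set c := M z z
    have hMd : M = Matrix.diagonal fun _ => c := by
      ext i j; rw [hs i j]; simp [Matrix.diagonal_apply, c, z]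
    have hdet : c ^ n = 1 := by
      have : M.det = 1 := g.1.2
      rw [hMd, Matrix.det_diagonal] at this
      simpa using this
    have hnorm : c ^ (q + 1) = 1 := by
      have h := isU_of_mem_SU g (Pi.single z 1) (Pi.single z 1)
      rw [← hM, hMd, herm_single_right hF] at h
      have hv : (Matrix.diagonal fun _ : Fin n => c) *ᵥ Pi.single z 1 = c • Pi.single z 1 := by
        funext k; simp [Matrix.mulVec_diagonal]
      rw [hv, herm_smul_left, herm_smul_right, herm_single_right hF] at h
      simpa [pow_succ'] using h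
    have hc0 : c ≠ 0 := fun h => by simp [h] at hnorm
    refine ⟨⟨Units.mk0 c hc0, ?_⟩, ?_⟩
    · ext
      simp only [Units.val_pow_eq_pow_val, Units.val_mk0, Units.val_one]; exact pow_gcd_eq_one.2 ⟨hdet, hnorm⟩
    · exact Subtype.ext (Subtype.ext (Subtype.ext hMd.symm))

theorem card_PSU_mul (hF : Fintype.card F = q ^ 2) (hn : 2 ≤ n) :
    Nat.gcd n (q + 1) * (q + 1) * Nat.card (PSU n F q) = Nat.card (GU n F q) := by
  rw [← card_GU_eq_mul_card_SU hF (by omega : 1 ≤ n),
    Subgroup.card_eq_card_quotient_mul_card_subgroup (Subgroup.center (SU n F q)),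
    card_center_SU hF hn]
  ring

end Cfsg.Agent.OrthUnitaryHerm
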