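import Mathlib
import Cfsg.Agent.Lib.OrthUnitaryHerm

/-!
`SU` for the standard Hermitian form: transvections, Eichler transformations, transitivity on
isotropic vectors, generation by transvections and expression of transvections as commutators.
-/

set_option autoImplicit false
set_option linter.unusedSectionVars false

namespace Cfsg.Agent.OrthUnitaryTransvection

open Cfsg.Agent.OrthUnitaryHerm
open scoped Matrix commutatorElement

variable {F : Type*} [Field F] [Fintype F] {q : ℕ} {n : ℕ}

/-! ### Scalars and inner products -/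

/-- The trace onto the fixed field is surjective. -/
theorem exists_trace (hF : Fintype.card F = q ^ 2) {a : F} (ha : a ^ q = a) :
    ∃ x : F, x + x ^ q = a := by
  obtain ⟨c, hc0, hc⟩ := exists_skew hF
  obtain ⟨l, hl, hl2⟩ := exists_normOne_sq_ne_one hF
  have hlq : (l : F) ^ q * (l : F) = 1 := by
    rw [← pow_succ, ← Units.val_pow_eq_pow_val, hl, Units.val_one]
  have hne : (c * l) + (c * l) ^ q ≠ 0 := by
    intro h
    have h1 : c * ((l : F) - (l : F) ^ q) = 0 := by
      rw [mul_pow, show c ^ q = -c by linear_combination hc] at h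
      linear_combination h
    have h2 : (l : F) ^ q = l := (sub_eq_zero.1 ((mul_eq_zero.1 h1).resolve_left hc0)).symm
    rw [h2] at hlq
    exact hl2 (Units.ext (by rw [Units.val_pow_eq_pow_val, sq, hlq, Units.val_one]))
  refine ⟨a / ((c * l) + (c * l) ^ q) * (c * l), ?_⟩
  rw [mul_pow _ (c * (l : F)), div_pow, ha,
    show ((c * l) + (c * l) ^ q) ^ q = (c * l) + (c * l) ^ q by
      rw [add_pow_q hF, pow_q_q hF, add_comm], ← mul_add, div_mul_cancel₀ _ hne]

theorem herm_zero_left (v : Fin n → F) : hermForm n F q 0 v = 0 := by simp [hermForm]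

theorem herm_zero_right (hF : Fintype.card F = q ^ 2) (v : Fin n → F) :
    hermForm n F q v 0 = 0 := by simp [hermForm, zero_pow_q hF]

theorem herm_skew_zero (hF : Fintype.card F = q ^ 2) {u v : Fin n → F}
    (h : hermForm n F q u v = 0) : hermForm n F q v u = 0 := by
  rw [herm_conj hF, h, zero_pow_q hF]

theorem herm_skew_ne (hF : Fintype.card F = q ^ 2) {u v : Fin n → F}
    (h : hermForm n F q u v ≠ 0) : hermForm n F q v u ≠ 0 := fun h' => h (herm_skew_zero hF h')

/-- `x ↦ h(x, v)` as a linear map. -/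
def hermL (q : ℕ) (v : Fin n → F) : (Fin n → F) →ₗ[F] F where
  toFun x := hermForm n F q x v
  map_add' x y := herm_add_left x y v
  map_smul' c x := herm_smul_left c x v

theorem hermL_apply (v x : Fin n → F) : hermL q v x = hermForm n F q x v := rfl

theorem exists_herm_ne (hF : Fintype.card F = q ^ 2) {u : Fin n → F} (hu : u ≠ 0) :
    ∃ z, hermForm n F q z u ≠ 0 := by
  by_contra h
  push Not at h
  exact hu (eq_zero_of_herm_eq_zero hF fun x => herm_skew_zero hF (h x))

theorem exists_herm_eq (hF : Fintype.card F = q ^ 2) {u : Fin n → F} (hu : u ≠ 0) (a : F) :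
    ∃ z, hermForm n F q z u = a := by
  obtain ⟨z, hz⟩ := exists_herm_ne hF hu
  exact ⟨(a / hermForm n F q z u) • z, by rw [herm_smul_left, div_mul_cancel₀ _ hz]⟩

theorem exists_herm_pair (hF : Fintype.card F = q ^ 2) {u v : Fin n → F} (hu : u ≠ 0)
    (hv : ∀ a : F, v ≠ a • u) (α β : F) :
    ∃ z, hermForm n F q z u = α ∧ hermForm n F q z v = β := by
  obtain ⟨z0, hz0⟩ := exists_herm_eq hF hu 1
  obtain ⟨z1, h1u, h1v⟩ : ∃ z, hermForm n F q z u = 0 ∧ hermForm n F q z v ≠ 0 := by
    by_contra hc
    push Not at hc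
    refine hv (hermForm n F q z0 v ^ q) (sub_eq_zero.1 (eq_zero_of_herm_eq_zero hF fun x =>
      herm_skew_zero hF ?_))
    have h := hc (x - hermForm n F q x u • z0)
      (by rw [herm_sub_left, herm_smul_left, hz0, mul_one, sub_self])
    rw [herm_sub_left, herm_smul_left] at h
    rw [herm_sub_right hF, herm_smul_right, pow_q_q hF]
    linear_combination h
  refine ⟨α • z0 + ((β - α * hermForm n F q z0 v) / hermForm n F q z1 v) • z1, ?_, ?_⟩
  · rw [herm_add_left, herm_smul_left, herm_smul_left, hz0, h1u]; ring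
  · rw [herm_add_left, herm_smul_left, herm_smul_left, div_mul_cancel₀ _ h1v]; ring

/-- An isotropic vector obtained by adding a multiple of an isotropic one. -/
theorem exists_iso_add (hF : Fintype.card F = q ^ 2) {u z : Fin n → F}
    (hu : hermForm n F q u u = 0) (hz : hermForm n F q z u ≠ 0) :
    ∃ a : F, hermForm n F q (z + a • u) (z + a • u) = 0 := by
  obtain ⟨t, ht⟩ := exists_trace hF (a := -(hermForm n F q z z))
    (by rw [neg_pow_q hF, herm_self_pow hF])
  refine ⟨t / hermForm n F q u z, ?_⟩
  have huz := herm_skew_ne hF hz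
  simp only [herm_add_left, herm_add_right hF, herm_smul_left, herm_smul_right, hu, mul_zero,
    add_zero, div_pow, ← herm_conj hF u z]
  rw [div_mul_cancel₀ _ huz, div_mul_cancel₀ _ hz]
  linear_combination ht

theorem exists_hyp (hF : Fintype.card F = q ^ 2) {e : Fin n → F} (he0 : e ≠ 0)
    (he : hermForm n F q e e = 0) :
    ∃ f, hermForm n F q f f = 0 ∧ hermForm n F q f e = 1 ∧ hermForm n F q e f = 1 := by
  obtain ⟨z, hz⟩ := exists_herm_eq hF he0 1
  obtain ⟨a, ha⟩ := exists_iso_add hF he (hz ▸ one_ne_zero)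
  have h1 : hermForm n F q (z + a • e) e = 1 := by
    rw [herm_add_left, herm_smul_left, he, hz]; ring
  exact ⟨z + a • e, ha, h1, by rw [herm_conj hF, h1, one_pow]⟩

/-- A non-zero self-adjoint idempotent has vectors of every norm in its image. -/
theorem exists_norm_of_proj (hF : Fintype.card F = q ^ 2) (π : (Fin n → F) →ₗ[F] (Fin n → F))
    (hsym : ∀ x y, hermForm n F q (π x) y = hermForm n F q x (π y))
    (hid : ∀ x, π (π x) = π x) (hne : π ≠ 0) {r : F} (hr : r ^ q = r) :
    ∃ x, π x = x ∧ hermForm n F q x x = r := by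
  obtain ⟨p0, hp0⟩ : ∃ p0, π p0 ≠ 0 := by
    by_contra h
    push Not at h
    exact hne (LinearMap.ext h)
  obtain ⟨p, hpp, hp0⟩ : ∃ p, π p = p ∧ p ≠ 0 := ⟨π p0, hid p0, hp0⟩
  by_cases h0 : hermForm n F q p p = 0
  · obtain ⟨y0, hy0⟩ := exists_herm_ne hF hp0
    have hy : hermForm n F q (π y0) p ≠ 0 := by rw [hsym, hpp]; exact hy0
    have hpy := herm_skew_ne hF hy
    obtain ⟨t, ht⟩ := exists_trace hF (a := r - hermForm n F q (π y0) (π y0))
      (by rw [sub_pow_q hF, herm_self_pow hF, hr])
    refine ⟨(t / hermForm n F q p (π y0)) • p + π y0, by rw [map_add, map_smul, hid, hpp], ?_⟩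
    simp only [herm_add_left, herm_add_right hF, herm_smul_left, herm_smul_right, h0, mul_zero,
      zero_add, div_pow, ← herm_conj hF p (π y0)]
    rw [div_mul_cancel₀ _ hpy, div_mul_cancel₀ _ hy]
    linear_combination ht
  · obtain ⟨z, hz⟩ := exists_norm_eq hF (a := r / hermForm n F q p p)
      (by rw [div_pow, herm_self_pow hF, hr])
    refine ⟨z • p, by rw [map_smul, hpp], ?_⟩
    rw [herm_smul_left, herm_smul_right, ← mul_assoc, ← pow_succ', hz, div_mul_cancel₀ _ h0]

/-- Orthogonal projection away from a hyperbolic pair. -/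
def proj2 (q : ℕ) (e f : Fin n → F) : (Fin n → F) →ₗ[F] (Fin n → F) :=
  LinearMap.id - (hermL q f).smulRight e - (hermL q e).smulRight f

theorem proj2_apply (e f x : Fin n → F) :
    proj2 q e f x = x - hermForm n F q x f • e - hermForm n F q x e • f := by
  simp [proj2, hermL_apply]

theorem proj2_sym (hF : Fintype.card F = q ^ 2) (e f x y : Fin n → F) :
    hermForm n F q (proj2 q e f x) y = hermForm n F q x (proj2 q e f y) := by
  simp only [proj2_apply, herm_sub_left, herm_sub_right hF, herm_smul_left, herm_smul_right,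
    ← herm_conj hF]
  ring

theorem proj2_perp {e f : Fin n → F}
    (hee : hermForm n F q e e = 0) (hff : hermForm n F q f f = 0)
    (hef : hermForm n F q e f = 1) (hfe : hermForm n F q f e = 1) (x : Fin n → F) :
    hermForm n F q (proj2 q e f x) e = 0 ∧ hermForm n F q (proj2 q e f x) f = 0 := by
  simp only [proj2_apply, herm_sub_left, herm_smul_left, hee, hff, hef, hfe]
  exact ⟨by ring, by ring⟩

theorem proj2_idem {e f : Fin n → F}
    (hee : hermForm n F q e e = 0) (hff : hermForm n F q f f = 0)
    (hef : hermForm n F q e f = 1) (hfe : hermForm n F q f e = 1) (x : Fin n → F) :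
    proj2 q e f (proj2 q e f x) = proj2 q e f x := by
  obtain ⟨h1, h2⟩ := proj2_perp hee hff hef hfe x
  rw [proj2_apply e f (proj2 q e f x), h1, h2, zero_smul, zero_smul, sub_zero, sub_zero]

theorem exists_perp2 (hF : Fintype.card F = q ^ 2) (hn : 3 ≤ n) {e f : Fin n → F}
    (hee : hermForm n F q e e = 0) (hff : hermForm n F q f f = 0)
    (hef : hermForm n F q e f = 1) (hfe : hermForm n F q f e = 1) {r : F} (hr : r ^ q = r) :
    ∃ k, hermForm n F q k e = 0 ∧ hermForm n F q k f = 0 ∧ hermForm n F q k k = r := by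
  classical
  obtain ⟨k, hk, hkk⟩ := exists_norm_of_proj hF (proj2 q e f) (proj2_sym hF e f)
    (proj2_idem hee hff hef hfe) (fun h => by
      have htop : ⊤ ≤ Submodule.span F ((({e, f} : Finset (Fin n → F))) : Set (Fin n → F)) := by
        intro x _
        have h2 := LinearMap.congr_fun h x
        rw [proj2_apply, LinearMap.zero_apply, sub_sub, sub_eq_zero] at h2
        rw [h2]
        exact add_mem (Submodule.smul_mem _ _ (Submodule.subset_span (by simp)))
          (Submodule.smul_mem _ _ (Submodule.subset_span (by simp)))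
      have h3 := Submodule.finrank_mono htop
      rw [finrank_top, Module.finrank_fin_fun] at h3
      have h4 := h3.trans ((finrank_span_finset_le_card _).trans Finset.card_le_two)
      omega) hr
  obtain ⟨h1, h2⟩ := proj2_perp hee hff hef hfe k
  rw [hk] at h1 h2
  exact ⟨k, h1, h2, hkk⟩

theorem exists_perp3 (hF : Fintype.card F = q ^ 2) (hn : 4 ≤ n) {e f k : Fin n → F}
    (hee : hermForm n F q e e = 0) (hff : hermForm n F q f f = 0)
    (hef : hermForm n F q e f = 1) (hfe : hermForm n F q f e = 1)
    (hke : hermForm n F q k e = 0) (hkf : hermForm n F q k f = 0)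
    (hkk : hermForm n F q k k ≠ 0) {r : F} (hr : r ^ q = r) :
    ∃ k', hermForm n F q k' e = 0 ∧ hermForm n F q k' f = 0 ∧ hermForm n F q k' k = 0 ∧
      hermForm n F q k' k' = r := by
  classical
  set a := hermForm n F q k k with ha
  have haq : a ^ q = a := herm_self_pow hF k
  let π : (Fin n → F) →ₗ[F] (Fin n → F) := proj2 q e f - (hermL q k).smulRight (a⁻¹ • k)
  have hπ : ∀ x, π x = proj2 q e f x - hermForm n F q x k • a⁻¹ • k := fun x => rfl
  have hperp : ∀ x, hermForm n F q (π x) e = 0 ∧ hermForm n F q (π x) f = 0 ∧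
      hermForm n F q (π x) k = 0 := by
    intro x
    obtain ⟨h1, h2⟩ := proj2_perp hee hff hef hfe x
    refine ⟨?_, ?_, ?_⟩
    · rw [hπ, herm_sub_left, herm_smul_left, herm_smul_left, h1, hke]; ring
    · rw [hπ, herm_sub_left, herm_smul_left, herm_smul_left, h2, hkf]; ring
    · rw [hπ, herm_sub_left, herm_smul_left, herm_smul_left, proj2_apply, herm_sub_left,
        herm_sub_left, herm_smul_left, herm_smul_left, herm_skew_zero hF hke,
        herm_skew_zero hF hkf, ← ha, inv_mul_cancel₀ hkk]
      ring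
  obtain ⟨k', hk', hkk'⟩ := exists_norm_of_proj hF π (fun x y => by
      rw [hπ, hπ, herm_sub_left, herm_sub_right hF, proj2_sym hF, herm_smul_left,
        herm_smul_left, herm_smul_right, herm_smul_right, ← herm_conj hF, inv_pow, haq]
      ring)
    (fun x => by
      obtain ⟨h1, h2, h3⟩ := hperp x
      rw [hπ (π x), proj2_apply, h1, h2, h3, zero_smul, zero_smul, zero_smul, sub_zero, sub_zero,
        sub_zero]) (fun h => by
      have htop : ⊤ ≤ Submodule.span F ((({e, f, k} : Finset (Fin n → F))) : Set (Fin n → F)) := by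
        intro x _
        have h2 := LinearMap.congr_fun h x
        rw [hπ, proj2_apply, LinearMap.zero_apply, sub_sub, sub_sub, sub_eq_zero] at h2
        rw [h2]
        exact add_mem (Submodule.smul_mem _ _ (Submodule.subset_span (by simp)))
          (add_mem (Submodule.smul_mem _ _ (Submodule.subset_span (by simp)))
            (Submodule.smul_mem _ _ (Submodule.smul_mem _ _ (Submodule.subset_span (by simp)))))
      have h3 := Submodule.finrank_mono htop
      rw [finrank_top, Module.finrank_fin_fun] at h3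
      have h4 := h3.trans ((finrank_span_finset_le_card _).trans Finset.card_le_three)
      omega) hr
  obtain ⟨h1, h2, h3⟩ := hperp k'
  rw [hk'] at h1 h2 h3
  exact ⟨k', h1, h2, h3, hkk'⟩

/-! ### Elements of `SU` -/

/-- The action of an element of `SU` on vectors. -/
def act (g : SU n F q) (x : Fin n → F) : Fin n → F :=
  ((g : Matrix.SpecialLinearGroup (Fin n) F) : Matrix (Fin n) (Fin n) F) *ᵥ x

omit [Fintype F] in
theorem act_mul (g k : SU n F q) (x : Fin n → F) : act (g * k) x = act g (act k x) :=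
  (Matrix.mulVec_mulVec _ _ _).symm

omit [Fintype F] in
theorem act_one (x : Fin n → F) : act (1 : SU n F q) x = x := Matrix.one_mulVec x

omit [Fintype F] in
theorem act_inv_act (g : SU n F q) (x : Fin n → F) : act g⁻¹ (act g x) = x := by
  rw [← act_mul, inv_mul_cancel, act_one]

omit [Fintype F] in
theorem act_act_inv (g : SU n F q) (x : Fin n → F) : act g (act g⁻¹ x) = x := by
  rw [← act_mul, mul_inv_cancel, act_one]

omit [Fintype F] in
theorem herm_act (g : SU n F q) (x y : Fin n → F) :
    hermForm n F q (act g x) (act g y) = hermForm n F q x y := g.2 x y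

omit [Fintype F] in
theorem act_add (g : SU n F q) (x y : Fin n → F) : act g (x + y) = act g x + act g y :=
  Matrix.mulVec_add _ _ _

omit [Fintype F] in
theorem act_smul (g : SU n F q) (c : F) (x : Fin n → F) : act g (c • x) = c • act g x :=
  Matrix.mulVec_smul _ _ _

omit [Fintype F] in
theorem act_sub (g : SU n F q) (x y : Fin n → F) : act g (x - y) = act g x - act g y :=
  Matrix.mulVec_sub _ _ _

omit [Fintype F] in
theorem su_ext {g k : SU n F q} (h : ∀ x, act g x = act k x) : g = k :=
  Subtype.ext (Subtype.ext (Matrix.ext_of_mulVec_single fun i => h _))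

/-- The transvection with isotropic centre as an element of `SU`. -/
def tv (hF : Fintype.card F = q ^ 2) (v : Fin n → F) (c : F) (hv : hermForm n F q v v = 0)
    (hc : c + c ^ q = 0) : SU n F q :=
  mkSU (unitaryTransvection n q v c) (by rw [det_transvection hF, hv, mul_zero, add_zero])
    (isU_transvection hF (by rw [hv, mul_zero, add_zero, hc]))

theorem tv_act (hF : Fintype.card F = q ^ 2) (v : Fin n → F) (c : F)
    (hv : hermForm n F q v v = 0) (hc : c + c ^ q = 0) (x : Fin n → F) :
    act (tv hF v c hv hc) x = x + (c * hermForm n F q x v) • v :=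
  transvection_mulVec v c x

/-- The matrix of an Eichler transformation. -/
def eichMat (q : ℕ) (e w : Fin n → F) (μ : F) : Matrix (Fin n) (Fin n) F :=
  1 + Matrix.of (fun i (j : Fin 2) => ![w i + μ * e i, -(e i)] j) *
    Matrix.of (fun (j : Fin 2) i => ![e i ^ q, w i ^ q] j)

omit [Fintype F] in
theorem eichMat_mulVec (e w : Fin n → F) (μ : F) (x : Fin n → F) :
    eichMat q e w μ *ᵥ x =
      x + hermForm n F q x e • w + (μ * hermForm n F q x e - hermForm n F q x w) • e := by
  funext i
  simp only [eichMat, Matrix.add_mulVec, Matrix.one_mulVec, ← Matrix.mulVec_mulVec, Pi.add_apply]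
  simp only [Matrix.mulVec, dotProduct, Matrix.of_apply, Fin.sum_univ_two, Matrix.cons_val_zero,
    Matrix.cons_val_one, Pi.smul_apply, smul_eq_mul, hermForm]
  have h1 : ∀ y : Fin n → F, ∑ j, y j ^ q * x j = ∑ j, x j * y j ^ q := fun y =>
    Finset.sum_congr rfl fun j _ => mul_comm _ _
  simp only [h1]
  ring

theorem eichMat_det (hF : Fintype.card F = q ^ 2) {e w : Fin n → F} (μ : F)
    (he : hermForm n F q e e = 0) (hw : hermForm n F q w e = 0) :
    (eichMat q e w μ).det = 1 := by
  have h1 : ∀ y : Fin n → F, ∀ z : Fin n → F, ∑ j, z j ^ q * y j = hermForm n F q y z :=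
    fun y z => Finset.sum_congr rfl fun j _ => mul_comm _ _
  rw [eichMat, Matrix.det_one_add_mul_comm, Matrix.det_fin_two]
  simp only [Matrix.add_apply, Matrix.one_apply, Matrix.mul_apply, Matrix.of_apply,
    Matrix.cons_val_zero, Matrix.cons_val_one]
  have e00 : ∑ j, e j ^ q * (w j + μ * e j) = 0 := by
    have h := h1 (w + μ • e) e
    rw [herm_add_left, herm_smul_left, hw, he] at h
    simpa using h
  have e01 : ∑ j, e j ^ q * -(e j) = 0 := by
    simp only [mul_neg, Finset.sum_neg_distrib, h1 e e, he, neg_zero]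
  have e11 : ∑ j, w j ^ q * -(e j) = 0 := by
    simp only [mul_neg, Finset.sum_neg_distrib, h1 e w, herm_skew_zero hF hw, neg_zero]
  simp only [mul_neg, Finset.sum_neg_distrib] at e01 e11
  have e01' := neg_eq_zero.1 e01
  have e11' := neg_eq_zero.1 e11
  simp [e00, e01', e11']

theorem eichMat_isU (hF : Fintype.card F = q ^ 2) {e w : Fin n → F} {μ : F}
    (he : hermForm n F q e e = 0) (hw : hermForm n F q w e = 0)
    (hμ : μ + μ ^ q + hermForm n F q w w = 0) : IsU q (eichMat q e w μ) := by
  intro x y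
  rw [eichMat_mulVec, eichMat_mulVec]
  simp only [herm_add_left, herm_add_right hF, herm_smul_left, herm_smul_right, he, hw,
    herm_skew_zero hF hw, mul_zero, add_zero, sub_pow_q hF, mul_pow, ← herm_conj hF]
  linear_combination (hermForm n F q x e * hermForm n F q e y) * hμ

/-- The Eichler transformation as an element of `SU`. -/
def eich (hF : Fintype.card F = q ^ 2) (e w : Fin n → F) (μ : F)
    (he : hermForm n F q e e = 0) (hw : hermForm n F q w e = 0)
    (hμ : μ + μ ^ q + hermForm n F q w w = 0) : SU n F q :=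
  mkSU (eichMat q e w μ) (eichMat_det hF μ he hw) (eichMat_isU hF he hw hμ)

theorem eich_act (hF : Fintype.card F = q ^ 2) (e w : Fin n → F) (μ : F)
    (he : hermForm n F q e e = 0) (hw : hermForm n F q w e = 0)
    (hμ : μ + μ ^ q + hermForm n F q w w = 0) (x : Fin n → F) :
    act (eich hF e w μ he hw hμ) x =
      x + hermForm n F q x e • w + (μ * hermForm n F q x e - hermForm n F q x w) • e :=
  eichMat_mulVec e w μ x

theorem eich_self (hF : Fintype.card F = q ^ 2) (e w : Fin n → F) (μ : F)
    (he : hermForm n F q e e = 0) (hw : hermForm n F q w e = 0)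
    (hμ : μ + μ ^ q + hermForm n F q w w = 0) :
    act (eich hF e w μ he hw hμ) e = e := by
  rw [eich_act, he, herm_skew_zero hF hw]; simp

theorem exists_mu (hF : Fintype.card F = q ^ 2) (w : Fin n → F) :
    ∃ μ : F, μ + μ ^ q + hermForm n F q w w = 0 := by
  obtain ⟨μ, h⟩ := exists_trace hF (a := -(hermForm n F q w w))
    (by rw [neg_pow_q hF, herm_self_pow hF])
  exact ⟨μ, by linear_combination h⟩

theorem eich_mul (hF : Fintype.card F = q ^ 2) {e w w' : Fin n → F} {μ μ' : F}
    (he : hermForm n F q e e = 0) (hw : hermForm n F q w e = 0) (hw' : hermForm n F q w' e = 0)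
    (hμ : μ + μ ^ q + hermForm n F q w w = 0) (hμ' : μ' + μ' ^ q + hermForm n F q w' w' = 0) :
    eich hF e w μ he hw hμ * eich hF e w' μ' he hw' hμ'
      = eich hF e (w + w') (μ + μ' - hermForm n F q w' w) he
        (by rw [herm_add_left, hw, hw', add_zero])
        (by
          simp only [herm_add_left, herm_add_right hF, sub_pow_q hF, add_pow_q hF,
            ← herm_conj hF]
          linear_combination hμ + hμ') := by
  apply su_ext
  intro x
  rw [act_mul, eich_act, eich_act, eich_act]
  simp only [herm_add_left, herm_smul_left, he, hw', herm_skew_zero hF hw, mul_zero, add_zero,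
    herm_add_right hF]
  module

theorem eich_congr (hF : Fintype.card F = q ^ 2) {e w w' : Fin n → F} {μ μ' : F}
    (he : hermForm n F q e e = 0) (hw : hermForm n F q w e = 0) (hw' : hermForm n F q w' e = 0)
    (hμ : μ + μ ^ q + hermForm n F q w w = 0) (hμ' : μ' + μ' ^ q + hermForm n F q w' w' = 0)
    (h1 : w = w') (h2 : μ = μ') :
    eich hF e w μ he hw hμ = eich hF e w' μ' he hw' hμ' := by
  subst h1 h2; rfl

theorem eich_conj (hF : Fintype.card F = q ^ 2) (g : SU n F q) {e w : Fin n → F} {μ : F}
    (he : hermForm n F q e e = 0) (hw : hermForm n F q w e = 0)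
    (hμ : μ + μ ^ q + hermForm n F q w w = 0) :
    g * eich hF e w μ he hw hμ * g⁻¹ = eich hF (act g e) (act g w) μ (by rw [herm_act, he])
      (by rw [herm_act, hw]) (by rw [herm_act, hμ]) := by
  apply su_ext
  intro x
  obtain ⟨y, rfl⟩ : ∃ y, x = act g y := ⟨act g⁻¹ x, (act_act_inv g x).symm⟩
  rw [act_mul, act_mul, act_inv_act, eich_act, eich_act]
  simp only [act_add, act_smul, herm_act]

theorem eich_eq_tv (hF : Fintype.card F = q ^ 2) {e : Fin n → F} {μ : F}
    (he : hermForm n F q e e = 0) (hw : hermForm n F q (0 : Fin n → F) e = 0)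
    (hμ : μ + μ ^ q + hermForm n F q (0 : Fin n → F) 0 = 0) :
    eich hF e 0 μ he hw hμ
      = tv hF e μ he (by rw [herm_zero_left, add_zero] at hμ; exact hμ) := by
  apply su_ext
  intro x
  rw [eich_act, tv_act, herm_zero_right hF, smul_zero, add_zero, sub_zero]

/-- A transformation fixing `e` and moving one hyperbolic partner of `e` to another. -/
theorem exists_eich_move (hF : Fintype.card F = q ^ 2) {e u v : Fin n → F}
    (he : hermForm n F q e e = 0) (hu : hermForm n F q u u = 0) (hv : hermForm n F q v v = 0)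
    (hue : hermForm n F q u e = 1) (hve : hermForm n F q v e = 1) :
    ∃ w μ, ∃ (hw : hermForm n F q w e = 0) (hμ : μ + μ ^ q + hermForm n F q w w = 0),
      act (eich hF e w μ he hw hμ) u = v := by
  refine ⟨v - u, hermForm n F q u v, by rw [herm_sub_left, hue, hve, sub_self],
    by simp only [herm_sub_left, herm_sub_right hF, hu, hv, ← herm_conj hF]; ring, ?_⟩
  rw [eich_act, hue, herm_sub_right hF, hu, one_smul, mul_one, sub_zero, sub_self, zero_smul,
    add_zero, add_sub_cancel]

/-! ### Conjugation by unitary matrices -/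

theorem isU_inv (hF : Fintype.card F = q ^ 2) {M : Matrix (Fin n) (Fin n) F} (hM : IsU q M) :
    IsU q M⁻¹ := by
  intro x y
  have hd : IsUnit M.det := (Matrix.isUnit_iff_isUnit_det M).1 (hM.isUnit hF)
  rw [← hM (M⁻¹ *ᵥ x) (M⁻¹ *ᵥ y), Matrix.mulVec_mulVec, Matrix.mulVec_mulVec,
    Matrix.mul_nonsing_inv _ hd, Matrix.one_mulVec, Matrix.one_mulVec]

/-- Conjugation by a unitary matrix. -/
noncomputable def conjU (hF : Fintype.card F = q ^ 2) (M : Matrix (Fin n) (Fin n) F)
    (hM : IsU q M) : SU n F q →* SU n F q where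
  toFun g := mkSU
    (M * ((g : Matrix.SpecialLinearGroup (Fin n) F) : Matrix (Fin n) (Fin n) F) * M⁻¹)
    (by rw [Matrix.det_conj (hM.isUnit hF)]; exact g.1.2)
    ((hM.mul g.2).mul (isU_inv hF hM))
  map_one' := by
    have hd : IsUnit M.det := (Matrix.isUnit_iff_isUnit_det M).1 (hM.isUnit hF)
    apply Subtype.ext; apply Subtype.ext
    show M * 1 * M⁻¹ = 1
    rw [mul_one, Matrix.mul_nonsing_inv _ hd]
  map_mul' g k := by
    have hd : IsUnit M.det := (Matrix.isUnit_iff_isUnit_det M).1 (hM.isUnit hF)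
    apply Subtype.ext; apply Subtype.ext
    show M * (_ * _) * M⁻¹ = (M * _ * M⁻¹) * (M * _ * M⁻¹)
    simp only [Matrix.mul_assoc, Matrix.nonsing_inv_mul_cancel_left _ _ hd]

theorem conjU_act (hF : Fintype.card F = q ^ 2) (M : Matrix (Fin n) (Fin n) F) (hM : IsU q M)
    (g : SU n F q) (x : Fin n → F) : act (conjU hF M hM g) (M *ᵥ x) = M *ᵥ act g x := by
  have hd : IsUnit M.det := (Matrix.isUnit_iff_isUnit_det M).1 (hM.isUnit hF)
  show (M * _ * M⁻¹) *ᵥ (M *ᵥ x) = _
  rw [Matrix.mulVec_mulVec, Matrix.mul_assoc, Matrix.nonsing_inv_mul _ hd, Matrix.mul_one,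
    act, Matrix.mulVec_mulVec]

theorem conjU_tv (hF : Fintype.card F = q ^ 2) (M : Matrix (Fin n) (Fin n) F) (hM : IsU q M)
    {v : Fin n → F} {c : F} (hv : hermForm n F q v v = 0) (hc : c + c ^ q = 0) :
    conjU hF M hM (tv hF v c hv hc) = tv hF (M *ᵥ v) c (by rw [hM, hv]) hc := by
  have hd : IsUnit M.det := (Matrix.isUnit_iff_isUnit_det M).1 (hM.isUnit hF)
  apply su_ext
  intro x
  obtain ⟨y, rfl⟩ : ∃ y, x = M *ᵥ y :=
    ⟨M⁻¹ *ᵥ x, by rw [Matrix.mulVec_mulVec, Matrix.mul_nonsing_inv _ hd, Matrix.one_mulVec]⟩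
  rw [conjU_act, tv_act, tv_act, hM, Matrix.mulVec_add, Matrix.mulVec_smul]

theorem conjU_inv (hF : Fintype.card F = q ^ 2) (M : Matrix (Fin n) (Fin n) F) (hM : IsU q M)
    (g : SU n F q) : conjU hF M⁻¹ (isU_inv hF hM) (conjU hF M hM g) = g := by
  have hd : IsUnit M.det := (Matrix.isUnit_iff_isUnit_det M).1 (hM.isUnit hF)
  apply Subtype.ext; apply Subtype.ext
  show M⁻¹ * (M * _ * M⁻¹) * M⁻¹⁻¹ = _
  rw [Matrix.nonsing_inv_nonsing_inv _ hd, Matrix.mul_assoc M _ M⁻¹,
    Matrix.nonsing_inv_mul_cancel_left _ _ hd, Matrix.nonsing_inv_mul_cancel_right _ _ hd]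

theorem conjU_eq_conj (hF : Fintype.card F = q ^ 2) (g k : SU n F q) :
    g * k * g⁻¹ = conjU hF _ (isU_of_mem_SU g) k := by
  apply su_ext
  intro x
  obtain ⟨y, rfl⟩ : ∃ y, x = act g y := ⟨act g⁻¹ x, (act_act_inv g x).symm⟩
  rw [act_mul, act_mul, act_inv_act]
  exact (conjU_act hF _ (isU_of_mem_SU g) k y).symm

/-! ### The group generated by transvections -/

/-- The subgroup of `SU` generated by transvections with isotropic centres. -/
def tGroup (n : ℕ) (F : Type*) [Field F] (q : ℕ) : Subgroup (SU n F q) :=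
  Subgroup.closure {A : ↥(SU n F q) | ∃ (v : Fin n → F) (c : F), hermForm n F q v v = 0 ∧
    ((A : Matrix.SpecialLinearGroup (Fin n) F) : Matrix (Fin n) (Fin n) F)
      = unitaryTransvection n q v c}

theorem tv_mem (hF : Fintype.card F = q ^ 2) (v : Fin n → F) (c : F)
    (hv : hermForm n F q v v = 0) (hc : c + c ^ q = 0) : tv hF v c hv hc ∈ tGroup n F q :=
  Subgroup.subset_closure ⟨v, c, hv, rfl⟩

theorem skew_of_isU (hF : Fintype.card F = q ^ 2) {v : Fin n → F} {c : F} (hv0 : v ≠ 0)
    (hv : hermForm n F q v v = 0) (h : IsU q (unitaryTransvection n q v c)) : c + c ^ q = 0 := by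
  obtain ⟨f, -, hfv, hvf⟩ := exists_hyp hF hv0 hv
  have h1 := h f f
  rw [herm_transvection hF, hfv, hvf, hv] at h1
  linear_combination h1

theorem eq_tv_or_one (hF : Fintype.card F = q ^ 2) {A : SU n F q} {v : Fin n → F} {c : F}
    (hv : hermForm n F q v v = 0)
    (hA : ((A : Matrix.SpecialLinearGroup (Fin n) F) : Matrix (Fin n) (Fin n) F)
      = unitaryTransvection n q v c) :
    A = 1 ∨ ∃ hc, A = tv hF v c hv hc ∧ v ≠ 0 := by
  by_cases hv0 : v = 0
  · left
    apply su_ext
    intro x
    rw [act, hA, transvection_mulVec, hv0, act_one, smul_zero, add_zero]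
  · right
    exact ⟨skew_of_isU hF hv0 hv (hA ▸ isU_of_mem_SU A), Subtype.ext (Subtype.ext hA), hv0⟩

theorem conjU_mem (hF : Fintype.card F = q ^ 2) (M : Matrix (Fin n) (Fin n) F) (hM : IsU q M)
    {g : SU n F q} (hg : g ∈ tGroup n F q) : conjU hF M hM g ∈ tGroup n F q := by
  have h : Subgroup.map (conjU hF M hM) (tGroup n F q) ≤ tGroup n F q := by
    rw [tGroup, MonoidHom.map_closure, Subgroup.closure_le]
    rintro _ ⟨A, ⟨v, c, hv, hA⟩, rfl⟩
    rcases eq_tv_or_one hF hv hA with rfl | ⟨hc, rfl, -⟩
    · rw [map_one]; exact Subgroup.one_mem _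
    · rw [conjU_tv]; exact tv_mem hF _ _ _ _
  exact h (Subgroup.mem_map_of_mem _ hg)

theorem tGroup_normal (hF : Fintype.card F = q ^ 2) : (tGroup n F q).Normal :=
  ⟨fun x hx g => by rw [conjU_eq_conj hF]; exact conjU_mem hF _ _ hx⟩

/-- `diag(c/c', c'/c)` on a hyperbolic pair, as a product of transvections. -/
theorem exists_move_line (hF : Fintype.card F = q ^ 2) {e f : Fin n → F}
    (hee : hermForm n F q e e = 0) (hff : hermForm n F q f f = 0)
    (hef : hermForm n F q e f = 1) (hfe : hermForm n F q f e = 1)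
    {x : F} (hx : x ^ q = x) (hx0 : x ≠ 0) :
    ∃ t ∈ tGroup n F q, act t (x • e) = e ∧
      ∀ k, hermForm n F q k e = 0 → hermForm n F q k f = 0 → act t k = k := by
  obtain ⟨c, hc0, hc⟩ := exists_skew hF
  have hc' : c ^ q = -c := by linear_combination hc
  set y := c * x with hy
  have hy0 : y ≠ 0 := mul_ne_zero hc0 hx0
  have hyq : y ^ q = -y := by rw [hy, mul_pow, hc', hx, neg_mul]
  -- the element sending `a • f` to `(b * a) • e` for skew `b`
  have step : ∀ b : F, b ≠ 0 → b ^ q = -b → ∃ t ∈ tGroup n F q,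
      (∀ a : F, act t (a • f) = (b * a) • e) ∧
        ∀ k, hermForm n F q k e = 0 → hermForm n F q k f = 0 → act t k = k := by
    intro b hb0 hb
    have hb1 : b + b ^ q = 0 := by rw [hb, add_neg_cancel]
    have hb2 : -b⁻¹ + (-b⁻¹) ^ q = 0 := by
      rw [neg_pow_q hF, inv_pow, hb, inv_neg, neg_neg, neg_add_cancel]
    refine ⟨tv hF f (-b⁻¹) hff hb2 * tv hF e b hee hb1,
      Subgroup.mul_mem _ (tv_mem hF _ _ _ _) (tv_mem hF _ _ _ _), fun a => ?_, fun k h1 h2 => ?_⟩
    · rw [act_mul, tv_act, tv_act, herm_smul_left, herm_add_left, herm_smul_left, herm_smul_left,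
        hfe, hff, hef]
      match_scalars <;> field_simp <;> ring
    · rw [act_mul, tv_act, tv_act, h1, mul_zero, zero_smul, add_zero, h2, mul_zero, zero_smul,
        add_zero]
  obtain ⟨t1, ht1, h1, h1'⟩ := step y hy0 hyq
  obtain ⟨t2, ht2, h2, h2'⟩ := step c hc0 hc'
  refine ⟨t2 * t1⁻¹, Subgroup.mul_mem _ ht2 (Subgroup.inv_mem _ ht1), ?_, fun k hk1 hk2 => ?_⟩
  · have e1 : act t1⁻¹ (x • e) = c⁻¹ • f := by
      have := h1 c⁻¹
      rw [hy, mul_comm c x, mul_assoc, mul_inv_cancel₀ hc0, mul_one] at this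
      rw [← this, act_inv_act]
    rw [act_mul, e1, h2, mul_inv_cancel₀ hc0, one_smul]
  · have e1 : act t1⁻¹ k = k := by
      conv_lhs => rw [← h1' k hk1 hk2]
      rw [act_inv_act]
    rw [act_mul, e1, h2' k hk1 hk2]

theorem eich_mem_of_iso (hF : Fintype.card F = q ^ 2) {e w : Fin n → F} {μ : F}
    (he : hermForm n F q e e = 0) (hw : hermForm n F q w e = 0)
    (hμ : μ + μ ^ q + hermForm n F q w w = 0) (hww : hermForm n F q w w = 0) :
    eich hF e w μ he hw hμ ∈ tGroup n F q := by
  obtain ⟨c, hc0, hc⟩ := exists_skew hF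
  have hc' : c ^ q = -c := by linear_combination hc
  have hμ' : μ + μ ^ q = 0 := by linear_combination hμ - hww
  set u := c⁻¹ • w with hu
  have hue : hermForm n F q u e = 0 := by rw [hu, herm_smul_left, hw, mul_zero]
  have heu := herm_skew_zero hF hue
  have huu : hermForm n F q u u = 0 := by rw [hu, herm_smul_left, herm_smul_right, hww]; ring
  have hsum : hermForm n F q (e + u) (e + u) = 0 := by
    rw [herm_add_left, herm_add_right hF, herm_add_right hF, he, hue, heu, huu]; ring
  have hnc : -c + (-c) ^ q = 0 := by rw [neg_pow_q hF]; linear_combination -hc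
  have hd : (μ - c) + (μ - c) ^ q = 0 := by rw [sub_pow_q hF]; linear_combination hμ' - hc
  have : eich hF e w μ he hw hμ
      = tv hF (e + u) c hsum hc * tv hF u (-c) huu hnc * tv hF e (μ - c) he hd := by
    apply su_ext
    intro x
    rw [eich_act, act_mul, act_mul, tv_act, tv_act, tv_act]
    have hwu : w = c • u := by rw [hu, smul_inv_smul₀ hc0]
    have hxw : hermForm n F q x w = -c * hermForm n F q x u := by
      rw [hwu, herm_smul_right, hc']
    simp only [herm_add_left, herm_add_right hF, herm_smul_left, he, hue, heu, huu, mul_zero,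
      add_zero]
    rw [hxw, hwu]
    module
  rw [this]
  exact Subgroup.mul_mem _ (Subgroup.mul_mem _ (tv_mem hF _ _ _ _) (tv_mem hF _ _ _ _))
    (tv_mem hF _ _ _ _)

/-- Eichler transformations are products of transvections, except in `SU_3(2)`. -/
theorem eich_mem (hF : Fintype.card F = q ^ 2) (hn : 3 ≤ n) (h32 : ¬(n = 3 ∧ q = 2))
    {e w : Fin n → F} {μ : F}
    (he : hermForm n F q e e = 0) (hw : hermForm n F q w e = 0)
    (hμ : μ + μ ^ q + hermForm n F q w w = 0) :
    eich hF e w μ he hw hμ ∈ tGroup n F q := by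
  by_cases he0 : e = 0
  · have : eich hF e w μ he hw hμ = 1 := by
      apply su_ext
      intro x
      rw [eich_act, he0, herm_zero_right hF, act_one, zero_smul, smul_zero, add_zero, add_zero]
    rw [this]
    exact Subgroup.one_mem _
  obtain ⟨f, hff, hfe, hef⟩ := exists_hyp hF he0 he
  -- it suffices to find one transformation for each vector
  have key : ∀ (w' : Fin n → F) (μ' : F) (hw' : hermForm n F q w' e = 0)
      (hμ' : μ' + μ' ^ q + hermForm n F q w' w' = 0),
      eich hF e w' μ' he hw' hμ' ∈ tGroup n F q → ∀ μ'' hμ'',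
      eich hF e w' μ'' he hw' hμ'' ∈ tGroup n F q := by
    intro w' μ' hw' hμ' hmem μ'' hμ''
    have hd : (μ'' - μ') + (μ'' - μ') ^ q + hermForm n F q (0 : Fin n → F) 0 = 0 := by
      rw [herm_zero_left, sub_pow_q hF]
      linear_combination hμ'' - hμ'
    have h0 : hermForm n F q (0 : Fin n → F) e = 0 := herm_zero_left e
    have : eich hF e w' μ'' he hw' hμ''
        = eich hF e w' μ' he hw' hμ' * eich hF e 0 (μ'' - μ') he h0 hd := by
      rw [eich_mul]
      exact eich_congr hF _ _ _ _ _ (add_zero w').symm (by rw [herm_zero_left]; ring)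
    rw [this, eich_eq_tv]
    exact Subgroup.mul_mem _ hmem (tv_mem hF _ _ _ _)
  by_cases hn4 : 4 ≤ n
  · obtain ⟨α, k, hwk, hke, hkf⟩ : ∃ (α : F) (k : Fin n → F), w = α • e + k ∧
        hermForm n F q k e = 0 ∧ hermForm n F q k f = 0 :=
      ⟨hermForm n F q w f, w - hermForm n F q w f • e, (add_sub_cancel _ _).symm,
        by rw [herm_sub_left, herm_smul_left, he, hw]; ring,
        by rw [herm_sub_left, herm_smul_left, hef]; ring⟩
    -- `w` is a sum of two isotropic vectors orthogonal to `e`
    obtain ⟨w1, w2, h1, h2, h1e, h2e, hsum⟩ : ∃ w1 w2, hermForm n F q w1 w1 = 0 ∧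
        hermForm n F q w2 w2 = 0 ∧ hermForm n F q w1 e = 0 ∧ hermForm n F q w2 e = 0 ∧
          w = w1 + w2 := by
      by_cases hkk : hermForm n F q k k = 0
      · exact ⟨α • e, k, by rw [herm_smul_left, herm_smul_right, he]; ring, hkk,
          by rw [herm_smul_left, he]; ring, hke, hwk⟩
      obtain ⟨k', hk'e, hk'f, hk'k, hk'⟩ := exists_perp3 hF hn4 he hff hef hfe hke hkf hkk
        (r := -(hermForm n F q k k)) (by rw [neg_pow_q hF, herm_self_pow hF])
      have hkk' := herm_skew_zero hF hk'k
      obtain ⟨z, hz, hz2⟩ := exists_normOne_sq_ne_one hF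
      have hz1 : (1 : F) - z ≠ 0 := fun h => hz2 (by
        have : z = 1 := Units.ext (sub_eq_zero.1 h).symm
        simp [this])
      have hzq : (z : F) * (z : F) ^ q = 1 := by
        rw [← pow_succ', ← Units.val_pow_eq_pow_val, hz, Units.val_one]
      set b := (1 - (z : F))⁻¹ with hb
      refine ⟨α • e + b • (k + k'), (-b) • ((z : F) • k + k'), ?_, ?_, ?_, ?_, ?_⟩
      · simp only [herm_add_left, herm_add_right hF, herm_smul_left, herm_smul_right, he, hke,
          herm_skew_zero hF hke, hk'e, herm_skew_zero hF hk'e, hkk', hk'k, hk']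
        ring
      · simp only [herm_add_left, herm_add_right hF, herm_smul_left, herm_smul_right, hkk', hk'k,
          hk']
        linear_combination ((-b) * (-b) ^ q * hermForm n F q k k) * hzq
      · rw [herm_add_left, herm_smul_left, herm_smul_left, herm_add_left, he, hke, hk'e]; ring
      · rw [herm_smul_left, herm_add_left, herm_smul_left, hke, hk'e]; ring
      · have : (1 - (z : F)) * b = 1 := mul_inv_cancel₀ hz1
        rw [hwk]
        match_scalars
        · ring
        · linear_combination -this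
        · ring
    have hμ1 : (0 : F) + 0 ^ q + hermForm n F q w1 w1 = 0 := by rw [zero_pow_q hF, h1]; ring
    have hμ2 : (0 : F) + 0 ^ q + hermForm n F q w2 w2 = 0 := by rw [zero_pow_q hF, h2]; ring
    have hmem : eich hF e w1 0 he h1e hμ1 * eich hF e w2 0 he h2e hμ2 ∈ tGroup n F q :=
      Subgroup.mul_mem _ (eich_mem_of_iso hF _ _ _ h1) (eich_mem_of_iso hF _ _ _ h2)
    rw [eich_mul] at hmem
    subst hsum
    exact key _ _ _ _ hmem _ _
  · have hn3 : n = 3 := by omega
    subst hn3
    have hq3 : 3 ≤ q := by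
      have h2q := two_le_q hF
      have h2 : q ≠ 2 := fun hh => h32 ⟨rfl, hh⟩
      omega
    obtain ⟨x, hx, hx0, hx1⟩ : ∃ x : F, x ^ q = x ∧ x ≠ 0 ∧ x ≠ 1 := by
      have hc : 1 < Nat.card {x : Fˣ // x ^ (q - 1) = 1} := by rw [card_fixedUnits hF]; omega
      have : Finite {x : Fˣ // x ^ (q - 1) = 1} := inferInstance
      obtain ⟨u, hu⟩ : ∃ u : {x : Fˣ // x ^ (q - 1) = 1}, u.1 ≠ 1 := by
        by_contra hall
        push Not at hall
        have : Subsingleton {x : Fˣ // x ^ (q - 1) = 1} :=
          ⟨fun a b => Subtype.ext (by rw [hall a, hall b])⟩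
        have := Finite.card_le_one_iff_subsingleton.2 this
        omega
      refine ⟨(u.1 : F), ?_, u.1.ne_zero, fun h => hu (Units.ext h)⟩
      have h := congrArg Units.val u.2
      rw [Units.val_pow_eq_pow_val, Units.val_one] at h
      calc (u.1 : F) ^ q = (u.1 : F) ^ (q - 1) * u.1 := by rw [← pow_succ]; congr 1; omega
        _ = u.1 := by rw [h, one_mul]
    obtain ⟨t, ht, hte, htk⟩ := exists_move_line hF he hff hef hfe hx hx0
    have hte' : act t e = x⁻¹ • e := by
      conv_lhs => rw [← inv_smul_smul₀ hx0 e]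
      rw [act_smul, hte]
    obtain ⟨α, k, hwk, hke, hkf⟩ : ∃ (α : F) (k : Fin 3 → F), w = α • e + k ∧
        hermForm 3 F q k e = 0 ∧ hermForm 3 F q k f = 0 :=
      ⟨hermForm 3 F q w f, w - hermForm 3 F q w f • e, (add_sub_cancel _ _).symm,
        by rw [herm_sub_left, herm_smul_left, he, hw]; ring,
        by rw [herm_sub_left, herm_smul_left, hef]; ring⟩
    -- a commutator with `t` realises the vector `w`
    set s := x⁻¹ - 1 with hs
    have hs0 : s ≠ 0 := by rw [hs, sub_ne_zero]; simpa using hx1
    have hsq : s ^ q = s := by rw [hs, sub_pow_q hF, inv_pow, hx, one_pow]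
    obtain ⟨w0, hw0⟩ : ∃ w0, w0 = s⁻¹ • k := ⟨_, rfl⟩
    have hw0e : hermForm 3 F q w0 e = 0 := by rw [hw0, herm_smul_left, hke, mul_zero]
    obtain ⟨m0, hm0⟩ := exists_mu hF w0
    have hzero : ∀ r : F, hermForm 3 F q (r • e) e = 0 := fun r => by
      rw [herm_smul_left, he, mul_zero]
    set E := eich hF e w0 m0 he hw0e hm0 with hE
    have hN := tGroup_normal (n := 3) hF
    have hmem : t * E * t⁻¹ * E⁻¹ ∈ tGroup 3 F q := by
      rw [show t * E * t⁻¹ * E⁻¹ = t * (E * t⁻¹ * E⁻¹) by group]
      exact Subgroup.mul_mem _ ht (hN.conj_mem _ (Subgroup.inv_mem _ ht) E)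
    have hwx : hermForm 3 F q (x⁻¹ • w0) e = 0 := by rw [herm_smul_left, hw0e, mul_zero]
    have hmx : x⁻¹ * x⁻¹ * m0 + (x⁻¹ * x⁻¹ * m0) ^ q
        + hermForm 3 F q (x⁻¹ • w0) (x⁻¹ • w0) = 0 := by
      rw [herm_smul_left, herm_smul_right, mul_pow, mul_pow, inv_pow, hx]
      linear_combination (x⁻¹ * x⁻¹) * hm0
    have hconj : t * E * t⁻¹ = eich hF e (x⁻¹ • w0) (x⁻¹ * x⁻¹ * m0) he hwx hmx := by
      rw [hE, eich_conj]
      apply su_ext
      intro y
      rw [eich_act, eich_act, hte', htk w0 hw0e (by rw [hw0, herm_smul_left, hkf, mul_zero]),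
        herm_smul_right, herm_smul_right, inv_pow, hx]
      module
    have hEinv : ∃ m1 h1 h2, E⁻¹ = eich hF e (-w0) m1 he h1 h2 := by
      refine ⟨m0 ^ q, by rw [← neg_one_smul F w0, herm_smul_left, hw0e, mul_zero], ?_, ?_⟩
      · rw [← neg_one_smul F w0, herm_smul_left, herm_smul_right, pow_q_q hF, neg_pow_q hF,
          one_pow]
        linear_combination hm0
      · refine inv_eq_of_mul_eq_one_right ?_
        rw [hE, eich_mul]
        apply su_ext
        intro y
        rw [eich_act, act_one, add_neg_cancel, herm_zero_right hF, ← neg_one_smul F w0,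
          herm_smul_left]
        match_scalars <;> first | ring | skip
        all_goals linear_combination hermForm 3 F q y e * hm0
    obtain ⟨m1, h11, h12, hEi⟩ := hEinv
    rw [hconj, hEi, eich_mul] at hmem
    have hαμ : (0 : F) + 0 ^ q + hermForm 3 F q (α • e) (α • e) = 0 := by
      rw [zero_pow_q hF, herm_smul_left, herm_smul_right, he]; ring
    have hmem2 := Subgroup.mul_mem _ hmem
      (eich_mem_of_iso hF he (hzero α) hαμ
        (by rw [herm_smul_left, herm_smul_right, he]; ring))
    rw [eich_mul] at hmem2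
    have hweq : w = x⁻¹ • w0 + -w0 + α • e := by
      rw [hwk, hw0]
      match_scalars
      · ring
      · rw [mul_one, ← sub_eq_add_neg, ← sub_one_mul, ← hs, mul_inv_cancel₀ hs0]
    subst hweq
    exact key _ _ _ _ hmem2 _ _

/-- `SU` is transitive on non-zero isotropic vectors, by Eichler transformations. -/
theorem exists_move (hF : Fintype.card F = q ^ 2) (hn : 3 ≤ n) (S : Subgroup (SU n F q))
    (hS : ∀ (e w : Fin n → F) (μ : F) (he : hermForm n F q e e = 0)
      (hw : hermForm n F q w e = 0) (hμ : μ + μ ^ q + hermForm n F q w w = 0),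
      eich hF e w μ he hw hμ ∈ S)
    {u v : Fin n → F} (hu0 : u ≠ 0) (hu : hermForm n F q u u = 0) (hv0 : v ≠ 0)
    (hv : hermForm n F q v v = 0) : ∃ g ∈ S, act g u = v := by
  have key : ∀ u v : Fin n → F, hermForm n F q u u = 0 → hermForm n F q v v = 0 →
      hermForm n F q u v ≠ 0 → ∃ g ∈ S, act g u = v := by
    intro u v hu hv huv
    -- a common isotropic partner
    set b := hermForm n F q u v with hb
    obtain ⟨f0, hf0⟩ : ∃ f0, f0 = b⁻¹ • u := ⟨_, rfl⟩
    have h0u : hermForm n F q f0 u = 0 := by rw [hf0, herm_smul_left, hu, mul_zero]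
    have h0v : hermForm n F q f0 v = 1 := by rw [hf0, herm_smul_left, ← hb, inv_mul_cancel₀ huv]
    have hv0' : hermForm n F q v f0 = 1 := by rw [herm_conj hF, h0v, one_pow]
    have h00 : hermForm n F q f0 f0 = 0 := by rw [hf0, herm_smul_left, herm_smul_right, hu]; ring
    obtain ⟨z, hz⟩ : ∃ z, z = f0 + (b ^ q)⁻¹ • v := ⟨_, rfl⟩
    have hbq : hermForm n F q v u = b ^ q := herm_conj hF u v
    obtain ⟨k, hk0, hkv, hkk⟩ := exists_perp2 hF hn h00 hv h0v hv0'
      (r := -(hermForm n F q z z)) (by rw [neg_pow_q hF, herm_self_pow hF])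
    have hku : hermForm n F q k u = 0 := by
      rw [hf0, herm_smul_right] at hk0
      exact (mul_eq_zero.1 hk0).resolve_left (pow_ne_zero _ (inv_ne_zero huv))
    have hpu : hermForm n F q (z + k) u = 1 := by
      rw [herm_add_left, hz, herm_add_left, herm_smul_left, h0u, hbq, hku,
        inv_mul_cancel₀ (pow_ne_zero _ huv)]
      ring
    have hpv : hermForm n F q (z + k) v = 1 := by
      rw [herm_add_left, hz, herm_add_left, herm_smul_left, h0v, hv, hkv]; ring
    have hzk : hermForm n F q z k = 0 := by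
      rw [hz, herm_add_left, herm_smul_left, herm_skew_zero hF hk0, herm_skew_zero hF hkv]; ring
    have hpp : hermForm n F q (z + k) (z + k) = 0 := by
      rw [herm_add_left, herm_add_right hF, herm_add_right hF, hzk, herm_skew_zero hF hzk, hkk]
      ring
    obtain ⟨w, μ, hw, hμ, hmv⟩ := exists_eich_move hF hpp hu hv
      (by rw [herm_conj hF, hpu, one_pow]) (by rw [herm_conj hF, hpv, one_pow])
    exact ⟨_, hS _ _ _ _ _ _, hmv⟩
  by_cases huv : hermForm n F q u v = 0
  · obtain ⟨z, hzu, hzv⟩ : ∃ z, hermForm n F q z u ≠ 0 ∧ hermForm n F q z v ≠ 0 := by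
      obtain ⟨z₁, h₁⟩ := exists_herm_ne hF hu0
      obtain ⟨z₂, h₂⟩ := exists_herm_ne hF hv0
      by_cases h₁' : hermForm n F q z₁ v = 0
      · by_cases h₂' : hermForm n F q z₂ u = 0
        · exact ⟨z₁ + z₂, by rw [herm_add_left, h₂', add_zero]; exact h₁,
            by rw [herm_add_left, h₁', zero_add]; exact h₂⟩
        · exact ⟨z₂, h₂', h₂⟩
      · exact ⟨z₁, h₁, h₁'⟩
    obtain ⟨a, ha⟩ := exists_iso_add hF hu hzu
    obtain ⟨g₁, hg₁, hg₁u⟩ := key u (z + a • u) hu ha
      (herm_skew_ne hF (by rw [herm_add_left, herm_smul_left, hu, mul_zero, add_zero]; exact hzu))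
    obtain ⟨g₂, hg₂, hg₂z⟩ := key (z + a • u) v ha hv
      (by rw [herm_add_left, herm_smul_left, huv, mul_zero, add_zero]; exact hzv)
    exact ⟨g₂ * g₁, Subgroup.mul_mem _ hg₂ hg₁, by rw [act_mul, hg₁u, hg₂z]⟩
  · exact key u v hu hv huv

/-! ### Generation -/

theorem det_extendMat (M : Matrix (Fin n) (Fin n) F) : (extendMat M).det = M.det := by
  rw [Matrix.det_succ_row_zero, Fin.sum_univ_succ]
  have h : ((extendMat M).submatrix Fin.succ Fin.succ) = M := by ext i j; simp [extendMat]
  simp [extendMat, Fin.succAbove_zero] at h ⊢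
  rw [h]

/-- The embedding of `SU n` in `SU (n + 1)` fixing the first basis vector. -/
def extSU : SU n F q →* SU (n + 1) F q where
  toFun g := mkSU (extendMat ((g : Matrix.SpecialLinearGroup (Fin n) F) : Matrix _ _ F))
    (by rw [det_extendMat]; exact g.1.2) (isU_extendMat (isU_of_mem_SU g))
  map_one' := by
    apply su_ext
    intro x
    rw [act_one]
    show extendMat (1 : Matrix (Fin n) (Fin n) F) *ᵥ x = x
    rw [extendMat_mulVec, Matrix.one_mulVec, Fin.cons_self_tail]
  map_mul' g k := by
    apply su_ext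
    intro x
    rw [act_mul]
    show extendMat (_ * _) *ᵥ x = extendMat _ *ᵥ (extendMat _ *ᵥ x)
    simp only [extendMat_mulVec, Matrix.mulVec_mulVec, Fin.cons_zero, Fin.tail_cons]

theorem extSU_act (g : SU n F q) (x : Fin (n + 1) → F) :
    act (extSU g) x = Fin.cons (x 0) (act g (Fin.tail x)) := extendMat_mulVec _ x

theorem extSU_mem (hF : Fintype.card F = q ^ 2) {g : SU n F q} (hg : g ∈ tGroup n F q) :
    extSU g ∈ tGroup (n + 1) F q := by
  have h : Subgroup.map (extSU (F := F) (q := q)) (tGroup n F q) ≤ tGroup (n + 1) F q := by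
    rw [tGroup, MonoidHom.map_closure, Subgroup.closure_le]
    rintro _ ⟨A, ⟨v, c, hv, hA⟩, rfl⟩
    rcases eq_tv_or_one hF hv hA with rfl | ⟨hc, rfl, -⟩
    · rw [map_one]; exact Subgroup.one_mem _
    have hv' : hermForm (n + 1) F q (Fin.cons 0 v : Fin (n + 1) → F) (Fin.cons 0 v) = 0 := by
      rw [herm_cons, hv]; ring
    have : extSU (tv hF v c hv hc) = tv hF (Fin.cons 0 v : Fin (n + 1) → F) c hv' hc := by
      apply su_ext
      intro x
      rw [extSU_act, tv_act, tv_act]
      obtain ⟨x0, xs, rfl⟩ : ∃ x0 xs, x = (Fin.cons x0 xs : Fin (n + 1) → F) :=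
        ⟨_, _, (Fin.cons_self_tail x).symm⟩
      rw [herm_cons, Fin.tail_cons, Fin.cons_zero]
      ext i
      cases i using Fin.cases <;> simp [zero_pow_q hF]
    rw [this]
    exact tv_mem hF _ _ _ _
  exact h (Subgroup.mem_map_of_mem _ hg)

/-- An element fixing an anisotropic vector comes from one dimension lower. -/
theorem exists_reduce (hF : Fintype.card F = q ^ 2) (g : SU (n + 1) F q) {a : Fin (n + 1) → F}
    (ha : hermForm (n + 1) F q a a ≠ 0) (hga : act g a = a) :
    ∃ (M : Matrix (Fin (n + 1)) (Fin (n + 1)) F) (hM : IsU q M) (k : SU n F q),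
      conjU hF M hM g = extSU k ∧ ∃ z : F, z ≠ 0 ∧ M *ᵥ (z • a) = Pi.single 0 1 := by
  obtain ⟨z, hz⟩ := exists_norm_eq hF (a := (hermForm (n + 1) F q a a)⁻¹)
    (by rw [inv_pow, herm_self_pow hF])
  have hz0 : z ≠ 0 := by
    rintro rfl
    rw [zero_pow (Nat.succ_ne_zero q)] at hz
    exact inv_ne_zero ha hz.symm
  have h1 : hermForm (n + 1) F q (z • a) (z • a) = 1 := by
    rw [herm_smul_left, herm_smul_right, ← mul_assoc, ← pow_succ', hz, inv_mul_cancel₀ ha]
  obtain ⟨M, hM, hMa⟩ := exists_isU_map hF (u := z • a) (v := Pi.single 0 1)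
    (by rw [h1, herm_single_right hF]; simp) (by rw [h1]; exact one_ne_zero)
  have hfix : act (conjU hF M hM g) (Pi.single 0 1) = Pi.single 0 1 := by
    rw [← hMa, conjU_act, act_smul, hga]
  obtain ⟨hN, hU⟩ := isU_stab hF (isU_of_mem_SU (conjU hF M hM g)) hfix
  refine ⟨M, hM, mkSU _ ?_ hU, Subtype.ext (Subtype.ext hN), z, hz0, hMa⟩
  rw [← det_extendMat, ← hN]
  exact (conjU hF M hM g).1.2

theorem mem_of_fix (hF : Fintype.card F = q ^ 2) (hgen : ∀ k : SU n F q, k ∈ tGroup n F q)
    (g : SU (n + 1) F q) {a : Fin (n + 1) → F} (ha : hermForm (n + 1) F q a a ≠ 0)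
    (hga : act g a = a) : g ∈ tGroup (n + 1) F q := by
  obtain ⟨M, hM, k, hk, -⟩ := exists_reduce hF g ha hga
  rw [← conjU_inv hF M hM g, hk]
  exact conjU_mem hF _ _ (extSU_mem hF (hgen k))

theorem mem_of_fix_two (hF : Fintype.card F = q ^ 2)
    (hgen : ∀ k : SU n F q, k ∈ tGroup n F q)
    (g : SU (n + 2) F q) {a b : Fin (n + 2) → F} (ha : hermForm (n + 2) F q a a ≠ 0)
    (hb : hermForm (n + 2) F q b b ≠ 0) (hab : hermForm (n + 2) F q b a = 0)
    (hga : act g a = a) (hgb : act g b = b) : g ∈ tGroup (n + 2) F q := by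
  obtain ⟨M, hM, k, hk, z, hz0, hMa⟩ := exists_reduce hF g ha hga
  rw [← conjU_inv hF M hM g, hk]
  refine conjU_mem hF _ _ (extSU_mem hF ?_)
  have h0 : (M *ᵥ b) 0 = 0 := by
    rw [← herm_single_right hF 0 (M *ᵥ b), ← hMa, hM, herm_smul_right, hab, mul_zero]
  have hb' : M *ᵥ b = Fin.cons 0 (Fin.tail (M *ᵥ b)) := by
    conv_lhs => rw [← Fin.cons_self_tail (M *ᵥ b), h0]
  refine mem_of_fix hF hgen k (a := Fin.tail (M *ᵥ b)) ?_ ?_
  · have := hM b b
    rw [hb', herm_cons] at this
    intro h
    rw [h] at this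
    exact hb (by rw [← this]; ring)
  · have h1 := conjU_act hF M hM g b
    rw [hgb, hk, extSU_act] at h1
    have h2 := congrArg Fin.tail h1
    rwa [Fin.tail_cons] at h2

theorem gen_one (g : SU 1 F q) : g ∈ tGroup 1 F q := by
  have : g = 1 := by
    apply Subtype.ext; apply Subtype.ext
    ext i j
    have h := g.1.2
    rw [Matrix.det_fin_one] at h
    rw [Subsingleton.elim i 0, Subsingleton.elim j 0]
    simpa using h
  rw [this]
  exact Subgroup.one_mem _

theorem exists_isotropic (hF : Fintype.card F = q ^ 2) (hn : 2 ≤ n) :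
    ∃ e : Fin n → F, e ≠ 0 ∧ hermForm n F q e e = 0 := by
  obtain ⟨s, hs⟩ := exists_norm_eq hF (a := (-1 : F)) (by rw [neg_pow_q hF, one_pow])
  let i : Fin n := ⟨0, by omega⟩
  let j : Fin n := ⟨1, by omega⟩
  have hij : i ≠ j := by simp [i, j]
  refine ⟨Pi.single i 1 + s • Pi.single j 1, fun h => ?_, ?_⟩
  · have := congrFun h i
    simp [hij] at this
  · simp only [herm_add_left, herm_add_right hF, herm_smul_left, herm_smul_right,
      herm_single_right hF, Pi.add_apply, Pi.smul_apply, smul_eq_mul, Pi.single_eq_same,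
      Pi.single_eq_of_ne hij, Pi.single_eq_of_ne hij.symm]
    linear_combination hs

theorem gen_two (hF : Fintype.card F = q ^ 2) (g : SU 2 F q) : g ∈ tGroup 2 F q := by
  classical
  obtain ⟨e, he0, he⟩ := exists_isotropic hF (le_refl 2)
  obtain ⟨f, hff, hfe, hef⟩ := exists_hyp hF he0 he
  -- coordinates with respect to `e, f`
  have hdec : ∀ v, v = hermForm 2 F q v f • e + hermForm 2 F q v e • f := by
    intro v
    set T : Submodule F (Fin 2 → F) := Submodule.span F (Set.range ![e, f])
    have hli : LinearIndependent F ![e, f] := by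
      rw [LinearIndependent.pair_iff]
      intro a b hab
      have h1 := congrArg (fun y => hermForm 2 F q y e) hab
      have h2 := congrArg (fun y => hermForm 2 F q y f) hab
      simp only [herm_add_left, herm_smul_left, he, hfe, hef, hff, herm_zero_left] at h1 h2
      constructor
      · linear_combination h2
      · linear_combination h1
    have htop : T = ⊤ := by
      apply Submodule.eq_top_of_finrank_eq
      rw [finrank_span_eq_card hli]; simp
    have hvT : v ∈ T := htop ▸ Submodule.mem_top
    rw [Submodule.mem_span_range_iff_exists_fun] at hvT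
    obtain ⟨c, rfl⟩ := hvT
    simp only [Fin.sum_univ_two, Matrix.cons_val_zero, Matrix.cons_val_one, herm_add_left,
      herm_smul_left, he, hfe, hef, hff]
    module
  suffices h : ∀ g' : SU 2 F q, hermForm 2 F q (act g' e) e = 0 → g' ∈ tGroup 2 F q by
    set x := hermForm 2 F q (act g e) f with hx
    set y := hermForm 2 F q (act g e) e with hy
    by_cases hy0 : y = 0
    · exact h g hy0
    have hge := hdec (act g e)
    rw [← hx, ← hy] at hge
    have hiso : x * y ^ q + y * x ^ q = 0 := by
      have h1 := herm_act g e e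
      rw [hge, he] at h1
      simp only [herm_add_left, herm_add_right hF, herm_smul_left, herm_smul_right, he, hfe, hef,
        hff] at h1
      linear_combination h1
    have hc : -(x / y) + (-(x / y)) ^ q = 0 := by
      have hyq := pow_ne_zero q hy0
      rw [neg_pow_q hF, div_pow]
      field_simp
      linear_combination -hiso
    obtain ⟨c, hc0, hcs⟩ := exists_skew hF
    have hc' : c ^ q = -c := by linear_combination hcs
    have hd : -c⁻¹ + (-c⁻¹) ^ q = 0 := by
      rw [neg_pow_q hF, inv_pow, hc', inv_neg, neg_neg, neg_add_cancel]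
    set t := tv hF f (-c⁻¹) hff hd * tv hF e c he hcs * tv hF e (-(x / y)) he hc
    have hmem : t ∈ tGroup 2 F q :=
      Subgroup.mul_mem _ (Subgroup.mul_mem _ (tv_mem hF _ _ _ _) (tv_mem hF _ _ _ _))
        (tv_mem hF _ _ _ _)
    have : t * g ∈ tGroup 2 F q := by
      refine h _ ?_
      rw [act_mul, act_mul, act_mul, hge, tv_act, tv_act, tv_act]
      simp only [herm_add_left, herm_smul_left, he, hfe, hef, hff]
      field_simp
      ring
    simpa using Subgroup.mul_mem _ (Subgroup.inv_mem _ hmem) this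
  intro g hy0
  set x := hermForm 2 F q (act g e) f with hx
  set z := hermForm 2 F q (act g f) f with hz
  set w := hermForm 2 F q (act g f) e with hw
  have hge : act g e = x • e := by
    conv_lhs => rw [hdec (act g e)]
    rw [hy0, zero_smul, add_zero]
  have hgf : act g f = z • e + w • f := hdec (act g f)
  have hxw : x * w ^ q = 1 := by
    have h1 := herm_act g e f
    rw [hge, hgf, hef] at h1
    simp only [herm_add_right hF, herm_smul_left, herm_smul_right, he, hef] at h1
    linear_combination h1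
  have hdet : x * w = 1 := by
    set P : Matrix (Fin 2) (Fin 2) F := Matrix.of fun i j => ![e i, f i] j with hP
    have hPd : P.det ≠ 0 := by
      intro h0
      obtain ⟨v, hv, hPv⟩ := Matrix.exists_mulVec_eq_zero_iff.2 h0
      have h1 : v 0 • e + v 1 • f = 0 := by
        funext i
        have := congrFun hPv i
        simp [hP, Matrix.mulVec, dotProduct, Fin.sum_univ_two] at this
        simpa [mul_comm] using this
      have ha := congrArg (fun y => hermForm 2 F q y f) h1
      have hb := congrArg (fun y => hermForm 2 F q y e) h1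
      simp only [herm_add_left, herm_smul_left, he, hfe, hef, hff, herm_zero_left] at ha hb
      refine hv (funext fun i => ?_)
      fin_cases i
      · simpa using ha
      · simpa using hb
    have hmat : ((g : Matrix.SpecialLinearGroup (Fin 2) F) : Matrix _ _ F) * P
        = P * !![x, z; 0, w] := by
      ext i j
      fin_cases j
      · have := congrFun hge i
        simp [act, Matrix.mulVec, dotProduct, Fin.sum_univ_two] at this
        simp [hP, Matrix.mul_apply, Fin.sum_univ_two]
        linear_combination this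
      · have := congrFun hgf i
        simp [act, Matrix.mulVec, dotProduct, Fin.sum_univ_two] at this
        simp [hP, Matrix.mul_apply, Fin.sum_univ_two]
        linear_combination this
    have h1 := congrArg Matrix.det hmat
    rw [Matrix.det_mul, Matrix.det_mul, g.1.2, one_mul, Matrix.det_fin_two_of] at h1
    have : P.det * (x * w - 1) = 0 := by linear_combination -h1
    exact sub_eq_zero.1 ((mul_eq_zero.1 this).resolve_left hPd)
  have hx0 : x ≠ 0 := left_ne_zero_of_mul_eq_one hdet
  have hxfix : x ^ q = x := by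
    have h1 : (x * w ^ q) ^ q = 1 := by rw [hxw, one_pow]
    rw [mul_pow, pow_q_q hF] at h1
    exact mul_right_cancel₀ (right_ne_zero_of_mul_eq_one hdet) (h1.trans hdet.symm)
  obtain ⟨t, ht, hte, -⟩ := exists_move_line hF he hff hef hfe hxfix hx0
  set g1 := t * g with hg1
  have h1e : act g1 e = e := by rw [hg1, act_mul, hge, hte]
  set z1 := hermForm 2 F q (act g1 f) f with hz1
  have h1w : hermForm 2 F q (act g1 f) e = 1 := by
    conv_lhs => arg 5; rw [← h1e]
    rw [herm_act, hfe]
  have h1f : act g1 f = z1 • e + f := by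
    conv_lhs => rw [hdec (act g1 f)]
    rw [h1w, one_smul]
  have hz1s : z1 + z1 ^ q = 0 := by
    have h1 := herm_act g1 f f
    rw [h1f, hff] at h1
    simp only [herm_add_left, herm_add_right hF, herm_smul_left, herm_smul_right, he, hfe, hef,
      hff] at h1
    linear_combination h1
  have heq : g1 = tv hF e z1 he hz1s := by
    apply su_ext
    intro v
    conv_lhs => rw [hdec v, act_add, act_smul, act_smul, h1e, h1f]
    rw [tv_act]
    conv_rhs => arg 1; rw [hdec v]
    module
  have : g = t⁻¹ * tv hF e z1 he hz1s := by rw [← heq, hg1, inv_mul_cancel_left]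
  rw [this]
  exact Subgroup.mul_mem _ (Subgroup.inv_mem _ ht) (tv_mem hF _ _ _ _)

/-- `SU` is generated by transvections, except `SU_3(2)`. -/
theorem gen (hF : Fintype.card F = q ^ 2) : ∀ (n : ℕ), 1 ≤ n → ¬(n = 3 ∧ q = 2) →
    ∀ g : SU n F q, g ∈ tGroup n F q := by
  intro n
  induction n using Nat.strong_induction_on with
  | _ n ih =>
    intro h1 h32 g
    match n, h1, h32, g, ih with
    | 1, _, _, g, _ => exact gen_one g
    | 2, _, _, g, _ => exact gen_two hF g
    | m + 3, _, h32, g, ih =>
      have hn : 3 ≤ m + 3 := by omega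
      obtain ⟨e, he0, he⟩ := exists_isotropic hF (n := m + 3) (by omega)
      obtain ⟨f, hff, hfe, hef⟩ := exists_hyp hF he0 he
      have hS := fun e w μ he hw hμ => eich_mem (e := e) (w := w) (μ := μ) hF hn h32 he hw hμ
      have hge0 : act g e ≠ 0 := fun h => he0 (by
        rw [← act_inv_act g e, h, act, Matrix.mulVec_zero])
      obtain ⟨t, ht, hte⟩ := exists_move hF hn _ hS hge0 (by rw [herm_act, he]) he0 he
      have h1e : act (t * g) e = e := by rw [act_mul, hte]
      obtain ⟨w, μ, hw, hμ, hmv⟩ := exists_eich_move hF he (u := act (t * g) f) (v := f)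
        (by rw [herm_act, hff]) hff (by conv_lhs => arg 5; rw [← h1e]
                                        rw [herm_act, hfe]) hfe
      set E := eich hF e w μ he hw hμ with hE
      set k := E * (t * g) with hk
      have hke : act k e = e := by rw [hk, act_mul, h1e, hE, eich_self]
      have hkf : act k f = f := by rw [hk, act_mul, hmv]
      suffices hkT : k ∈ tGroup (m + 3) F q by
        have hgk : g = t⁻¹ * (E⁻¹ * k) := by rw [hk]; group
        rw [hgk]
        exact Subgroup.mul_mem _ (Subgroup.inv_mem _ ht)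
          (Subgroup.mul_mem _ (Subgroup.inv_mem _ (hS _ _ _ _ _ _)) hkT)
      obtain ⟨s, hs⟩ := exists_trace hF (a := (1 : F)) (one_pow q)
      set a := e + s • f with ha
      set b := e + (-(s ^ q)) • f with hb
      have haa : hermForm (m + 3) F q a a ≠ 0 := by
        have : hermForm (m + 3) F q a a = 1 := by
          simp only [ha, herm_add_left, herm_add_right hF, herm_smul_left, herm_smul_right, he,
            hfe, hef, hff]
          linear_combination hs
        rw [this]; exact one_ne_zero
      have hbb : hermForm (m + 3) F q b b ≠ 0 := by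
        have : hermForm (m + 3) F q b b = -1 := by
          simp only [hb, herm_add_left, herm_add_right hF, herm_smul_left, herm_smul_right, he,
            hfe, hef, hff, neg_pow_q hF, pow_q_q hF]
          linear_combination -hs
        rw [this]; exact neg_ne_zero.2 one_ne_zero
      have hba : hermForm (m + 3) F q b a = 0 := by
        simp only [ha, hb, herm_add_left, herm_add_right hF, herm_smul_left, herm_smul_right, he,
          hfe, hef, hff]
        ring
      have hka : act k a = a := by rw [ha, act_add, act_smul, hke, hkf]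
      have hkb : act k b = b := by rw [hb, act_add, act_smul, hke, hkf]
      by_cases hm : m ≤ 1
      · exact mem_of_fix_two hF (ih (m + 1) (by omega) (by omega)
          (by rintro ⟨h3, -⟩; omega)) k haa hbb hba hka hkb
      · exact mem_of_fix hF (ih (m + 2) (by omega) (by omega)
          (by rintro ⟨h3, -⟩; omega)) k haa hka

theorem tGroup_eq_top (hF : Fintype.card F = q ^ 2) (hn : 1 ≤ n) (h32 : ¬(n = 3 ∧ q = 2)) :
    tGroup n F q = ⊤ :=
  (Subgroup.eq_top_iff' _).2 (gen hF n hn h32)

/-- A transvection is a commutator of Eichler transformations with the same centre. -/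
theorem exists_commutator (hF : Fintype.card F = q ^ 2) (hn : 3 ≤ n) (v : Fin n → F) (c : F)
    (hv : hermForm n F q v v = 0) (hc : c + c ^ q = 0) :
    ∃ g k : SU n F q, ⁅g, k⁆ = tv hF v c hv hc := by
  by_cases hv0 : v = 0
  · refine ⟨1, 1, ?_⟩
    rw [commutatorElement_one_left]
    apply su_ext
    intro x
    rw [act_one, tv_act, hv0, smul_zero, add_zero]
  obtain ⟨f, hff, hfv, hvf⟩ := exists_hyp hF hv0 hv
  obtain ⟨k, hkv, hkf, hkk⟩ := exists_perp2 hF hn hv hff hvf hfv (r := (1 : F)) (one_pow q)
  obtain ⟨s, hs⟩ := exists_trace hF (a := (1 : F)) (one_pow q)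
  have hskew : ∀ a : F, hermForm n F q (a • k) v = 0 := fun a => by
    rw [herm_smul_left, hkv, mul_zero]
  obtain ⟨μ, hμ⟩ := exists_mu hF k
  obtain ⟨t, htdef⟩ : ∃ t, t = -c * s ^ q := ⟨_, rfl⟩
  obtain ⟨μ', hμ'⟩ := exists_mu hF (t • k)
  refine ⟨eich hF v k μ hv hkv hμ, eich hF v (t • k) μ' hv (hskew t) hμ', ?_⟩
  set A := eich hF v k μ hv hkv hμ with hA
  set B := eich hF v (t • k) μ' hv (hskew t) hμ' with hB
  have hct : t ^ q - t = c := by
    rw [htdef, mul_pow, pow_q_q hF, neg_pow_q hF, show c ^ q = -c by linear_combination hc]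
    linear_combination c * hs
  have key : A * B = tv hF v c hv hc * (B * A) := by
    rw [hA, hB, eich_mul, eich_mul]
    apply su_ext
    intro x
    rw [act_mul, tv_act, eich_act, eich_act]
    simp only [herm_add_left, herm_smul_left, herm_smul_right, herm_add_right hF, hv, hkv, hkk]
    match_scalars
    · ring
    · ring
    · linear_combination hermForm n F q x v * hct
  rw [commutatorElement_def, key]
  group

end Cfsg.Agent.OrthUnitaryTransvection
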