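import Mathlib
import Cfsg.Agent.Lib.OrthUnitaryTransvection

/-!
`SU` is perfect and `PSU` is simple in degree at least three, apart from degree three over the
field with four elements; conjugacy of transvections.
-/

set_option autoImplicit false
set_option linter.unusedSectionVars false

namespace Cfsg.Agent.OrthUnitaryPSU

open Cfsg.Agent.OrthUnitaryHerm
open Cfsg.Agent.OrthUnitaryTransvection
open scoped Matrix commutatorElement

variable {F : Type*} [Field F] [Fintype F] {q : ℕ} {n : ℕ}

theorem act_smul_right_inj (g : SU n F q) {u : Fin n → F} (hu : u ≠ 0) : act g u ≠ 0 :=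
  fun h => hu (by rw [← act_inv_act g u, h, act, Matrix.mulVec_zero])

theorem commutator_eq_top (hF : Fintype.card F = q ^ 2) (hn : 3 ≤ n) (h32 : ¬(n = 3 ∧ q = 2)) :
    commutator (SU n F q) = ⊤ := by
  rw [eq_top_iff, ← tGroup_eq_top (F := F) hF (by omega) h32, tGroup, Subgroup.closure_le]
  rintro A ⟨v, c, hv, hA⟩
  rcases eq_tv_or_one hF hv hA with rfl | ⟨hc, rfl, -⟩
  · exact Subgroup.one_mem _
  · obtain ⟨g, k, h⟩ := exists_commutator hF hn v c hv hc
    rw [← h, commutator_def]
    exact Subgroup.commutator_mem_commutator (Subgroup.mem_top g) (Subgroup.mem_top k)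

theorem tv_comm (hF : Fintype.card F = q ^ 2) {e : Fin n → F} {c d : F}
    (he : hermForm n F q e e = 0) (hc : c + c ^ q = 0) (hd : d + d ^ q = 0) :
    Commute (tv hF e c he hc) (tv hF e d he hd) := by
  apply su_ext
  intro x
  rw [act_mul, act_mul, tv_act, tv_act, tv_act, tv_act, herm_add_left, herm_add_left,
    herm_smul_left, herm_smul_left, he, mul_zero, mul_zero, add_zero]
  abel

theorem tv_conj (hF : Fintype.card F = q ^ 2) (g : SU n F q) {v : Fin n → F} {c : F}
    (hv : hermForm n F q v v = 0) (hc : c + c ^ q = 0) :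
    g * tv hF v c hv hc * g⁻¹ = tv hF (act g v) c (by rw [herm_act, hv]) hc := by
  rw [conjU_eq_conj hF, conjU_tv]; rfl

theorem tv_smul (hF : Fintype.card F = q ^ 2) {v : Fin n → F} {a c : F}
    (hv : hermForm n F q (a • v) (a • v) = 0) (hc : c + c ^ q = 0)
    (hv' : hermForm n F q v v = 0) (hc' : a ^ q * a * c + (a ^ q * a * c) ^ q = 0) :
    tv hF (a • v) c hv hc = tv hF v (a ^ q * a * c) hv' hc' := by
  apply su_ext
  intro x
  rw [tv_act, tv_act, herm_smul_right, smul_smul]
  congr 2
  ring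

theorem norm_mul_skew (hF : Fintype.card F = q ^ 2) (a : F) {c : F} (hc : c + c ^ q = 0) :
    a ^ q * a * c + (a ^ q * a * c) ^ q = 0 := by
  rw [mul_pow, mul_pow, pow_q_q hF]
  linear_combination (a ^ q * a) * hc

/-- An element fixing every isotropic line is a scalar. -/
theorem eq_smul_of_fix_lines (hF : Fintype.card F = q ^ 2) (hn : 2 ≤ n) (g : SU n F q)
    (h : ∀ u, hermForm n F q u u = 0 → ∃ c : F, act g u = c • u) :
    ∃ c : F, ∀ x, act g x = c • x := by
  classical
  -- non-orthogonal isotropic lines have the same factor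
  have key : ∀ u v : Fin n → F, hermForm n F q u u = 0 → hermForm n F q v v = 0 →
      hermForm n F q u v ≠ 0 → ∀ a b : F, act g u = a • u → act g v = b • v → a = b := by
    intro u v hu hv huv a b ha hb
    obtain ⟨c, hc0, hc⟩ := exists_skew hF
    have hbv := pow_ne_zero q huv
    set s := (c / hermForm n F q u v) with hs
    have hs0 : s ≠ 0 := div_ne_zero hc0 huv
    have hiso : hermForm n F q (s • u + v) (s • u + v) = 0 := by
      simp only [herm_add_left, herm_add_right hF, herm_smul_left, herm_smul_right, hu, hv,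
        herm_conj hF u v, mul_zero, add_zero, zero_add, hs, div_pow]
      rw [div_mul_cancel₀ _ huv, div_mul_cancel₀ _ hbv]
      linear_combination hc
    obtain ⟨d, hd⟩ := h _ hiso
    rw [act_add, act_smul, ha, hb] at hd
    have h1 := congrArg (fun y => hermForm n F q y v) hd
    have h2 := congrArg (fun y => hermForm n F q y u) hd
    simp only [herm_add_left, herm_smul_left, hu, hv, mul_zero, add_zero, zero_add] at h1 h2
    have hvu := herm_skew_ne hF huv
    have e1 : a = d := by
      have : (a - d) * (s * hermForm n F q u v) = 0 := by linear_combination h1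
      exact sub_eq_zero.1 ((mul_eq_zero.1 this).resolve_right (mul_ne_zero hs0 huv))
    have e2 : b = d := by
      have : (b - d) * hermForm n F q v u = 0 := by linear_combination h2
      exact sub_eq_zero.1 ((mul_eq_zero.1 this).resolve_right hvu)
    rw [e1, e2]
  obtain ⟨e, he0, he⟩ := exists_isotropic hF hn
  obtain ⟨f, hff, hfe, hef⟩ := exists_hyp hF he0 he
  obtain ⟨c, hc⟩ := h e he
  have hcf : ∀ d : F, act g f = d • f → d = c := fun d hd =>
    key f e hff he (by rw [hfe]; exact one_ne_zero) d c hd hc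
  refine ⟨c, ?_⟩
  have hfc : act g f = c • f := by
    obtain ⟨d, hd⟩ := h f hff
    rw [hd, hcf d hd]
  have h1 : ∀ z, hermForm n F q z e ≠ 0 → act g z = c • z := by
    intro z hz
    obtain ⟨a, ha⟩ := exists_iso_add hF he hz
    obtain ⟨d, hd⟩ := h _ ha
    have hdc : d = c := key _ e ha he
      (by rw [herm_add_left, herm_smul_left, he, mul_zero, add_zero]; exact hz) d c hd hc
    rw [hdc, act_add, act_smul, hc, smul_add, smul_comm a c] at hd
    exact add_right_cancel hd
  intro x
  by_cases hx : hermForm n F q x e = 0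
  · have h2 := h1 (x + f) (by rw [herm_add_left, hx, hfe, zero_add]; exact one_ne_zero)
    rw [act_add, hfc, smul_add] at h2
    exact add_right_cancel h2
  · exact h1 x hx

/-- A normal subgroup moving an isotropic line is everything. -/
theorem eq_top_of_moves (hF : Fintype.card F = q ^ 2) (hn : 3 ≤ n) (h32 : ¬(n = 3 ∧ q = 2))
    (N : Subgroup (SU n F q)) [N.Normal] (n₀ : SU n F q) (hn₀ : n₀ ∈ N) {u₀ : Fin n → F}
    (hu₀ : hermForm n F q u₀ u₀ = 0) (hmv : ∀ c : F, act n₀ u₀ ≠ c • u₀) : N = ⊤ := by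
  set R : (Fin n → F) → (Fin n → F) → Prop := fun u v => ∃ m ∈ N, ∃ c : F, act m u = c • v
    with hR
  have hne0 : u₀ ≠ 0 := fun h => hmv 0 (by rw [h, act, Matrix.mulVec_zero, zero_smul])
  have Rsymm : ∀ {u v}, u ≠ 0 → R u v → R v u := by
    rintro u v hu ⟨m, hm, c, hc⟩
    have hc0 : c ≠ 0 := fun h => act_smul_right_inj m hu (by rw [hc, h, zero_smul])
    refine ⟨m⁻¹, N.inv_mem hm, c⁻¹, ?_⟩
    have h1 : act m⁻¹ (c • v) = u := by rw [← hc, act_inv_act]
    rw [← h1, act_smul, inv_smul_smul₀ hc0]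
  have Rtrans : ∀ {u v w}, R u v → R v w → R u w := by
    rintro u v w ⟨m, hm, c, hc⟩ ⟨m', hm', d, hd⟩
    exact ⟨m' * m, N.mul_mem hm' hm, c * d, by rw [act_mul, hc, act_smul, hd, smul_smul]⟩
  have Rconj : ∀ {u v} (g : SU n F q), R u v → R (act g u) (act g v) := by
    rintro u v g ⟨m, hm, c, hc⟩
    refine ⟨g * m * g⁻¹, Subgroup.Normal.conj_mem inferInstance m hm g, c, ?_⟩
    rw [act_mul, act_mul, act_inv_act, hc, act_smul]
  -- a pair of non-orthogonal related lines
  obtain ⟨a, b, ha, hb, hab, hRab⟩ : ∃ a b, hermForm n F q a a = 0 ∧ hermForm n F q b b = 0 ∧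
      hermForm n F q a b ≠ 0 ∧ R a b := by
    set v := act n₀ u₀ with hv
    have hQv : hermForm n F q v v = 0 := by rw [hv, herm_act, hu₀]
    have huv : R u₀ v := ⟨n₀, hn₀, 1, by rw [one_smul]⟩
    by_cases hp : hermForm n F q u₀ v = 0
    swap
    · exact ⟨u₀, v, hu₀, hQv, hp, huv⟩
    obtain ⟨z, hzu, hzv⟩ := exists_herm_pair hF hne0 (v := v) hmv 0 1
    obtain ⟨t, ht⟩ := exists_iso_add hF hQv (z := z) (hzv ▸ one_ne_zero)
    set p := z + t • v with hp'
    have hpu : hermForm n F q p u₀ = 0 := by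
      rw [hp', herm_add_left, herm_smul_left, hzu, herm_skew_zero hF hp]; ring
    have hpv : hermForm n F q p v = 1 := by
      rw [hp', herm_add_left, herm_smul_left, hzv, hQv]; ring
    obtain ⟨c, hc0, hc⟩ := exists_skew hF
    set g := tv hF p c ht hc with hg
    have hgu : act g u₀ = u₀ := by
      rw [hg, tv_act, herm_skew_zero hF hpu, mul_zero, zero_smul, add_zero]
    have hgv : hermForm n F q v (act g v) ≠ 0 := by
      rw [hg, tv_act, herm_add_right hF, herm_smul_right, hQv, zero_add,
        herm_conj hF p v, hpv, one_pow, mul_one, mul_one]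
      exact pow_ne_zero _ hc0
    have h1 := Rconj g huv
    rw [hgu] at h1
    exact ⟨v, act g v, hQv, by rw [herm_act, hQv], hgv, Rtrans (Rsymm hne0 huv) h1⟩
  have hstar : ∀ {a b b'}, hermForm n F q a a = 0 → hermForm n F q b b = 0 →
      hermForm n F q b' b' = 0 → hermForm n F q a b ≠ 0 → hermForm n F q a b' ≠ 0 →
      R a b → R a b' := by
    intro a b b' ha hb hb' hab hab' hR'
    have hba := herm_skew_ne hF hab
    have hba' := herm_skew_ne hF hab'
    obtain ⟨f, hf⟩ : ∃ f, f = (hermForm n F q b a)⁻¹ • b := ⟨_, rfl⟩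
    obtain ⟨f', hf'⟩ : ∃ f', f' = (hermForm n F q b' a)⁻¹ • b' := ⟨_, rfl⟩
    obtain ⟨w, μ, hw, hμ, hgf⟩ := exists_eich_move hF ha (u := f) (v := f')
      (by rw [hf, herm_smul_left, herm_smul_right, hb]; ring)
      (by rw [hf', herm_smul_left, herm_smul_right, hb']; ring)
      (by rw [hf, herm_smul_left, inv_mul_cancel₀ hba])
      (by rw [hf', herm_smul_left, inv_mul_cancel₀ hba'])
    set g := eich hF a w μ ha hw hμ with hg
    have hga : act g a = a := eich_self hF a w μ ha hw hμ
    obtain ⟨m, hm, c, hc⟩ := Rconj g hR'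
    refine ⟨m, hm, c * (hermForm n F q b a * (hermForm n F q b' a)⁻¹), ?_⟩
    rw [hga] at hc
    have hbf : b = hermForm n F q b a • f := by rw [hf, smul_inv_smul₀ hba]
    have h2 : act g b = (hermForm n F q b a * (hermForm n F q b' a)⁻¹) • b' := by
      conv_lhs => rw [hbf]
      rw [act_smul, hgf, hf', smul_smul]
    rw [hc, h2, smul_smul]
  have ha0 : a ≠ 0 := fun h => hab (by rw [h, herm_zero_left])
  have hall : ∀ w, hermForm n F q w w = 0 → w ≠ 0 → R a w := by
    intro w hw hw0
    by_cases hp : hermForm n F q a w = 0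
    swap
    · exact hstar ha hb hw hab hp hRab
    obtain ⟨z, hza, hzw⟩ : ∃ z, hermForm n F q z a ≠ 0 ∧ hermForm n F q z w ≠ 0 := by
      obtain ⟨z₁, h₁⟩ := exists_herm_ne hF ha0
      obtain ⟨z₂, h₂⟩ := exists_herm_ne hF hw0
      by_cases h₁' : hermForm n F q z₁ w = 0
      · by_cases h₂' : hermForm n F q z₂ a = 0
        · exact ⟨z₁ + z₂, by rw [herm_add_left, h₂', add_zero]; exact h₁,
            by rw [herm_add_left, h₁', zero_add]; exact h₂⟩
        · exact ⟨z₂, h₂', h₂⟩
      · exact ⟨z₁, h₁, h₁'⟩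
    obtain ⟨t, ht⟩ := exists_iso_add hF ha hza
    have h1 : hermForm n F q a (z + t • a) ≠ 0 := herm_skew_ne hF
      (by rw [herm_add_left, herm_smul_left, ha, mul_zero, add_zero]; exact hza)
    have h2 : hermForm n F q (z + t • a) w ≠ 0 := by
      rw [herm_add_left, herm_smul_left, hp, mul_zero, add_zero]; exact hzw
    have h3 := hstar ha hb ht hab h1 hRab
    exact Rtrans h3 (hstar ht ha hw (herm_skew_ne hF h1) h2 (Rsymm ha0 h3))
  -- modulo `N` every transvection has centre `a`
  set π := QuotientGroup.mk' N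
  set S : Set (SU n F q) := {A : ↥(SU n F q) | ∃ (v : Fin n → F) (c : F),
    hermForm n F q v v = 0 ∧ ((A : Matrix.SpecialLinearGroup (Fin n) F) :
      Matrix (Fin n) (Fin n) F) = unitaryTransvection n q v c} with hS
  have hclos : Subgroup.closure S = ⊤ := tGroup_eq_top hF (by omega) h32
  have hred : ∀ x ∈ S, ∃ c hc, π x = π (tv hF a c ha hc) := by
    rintro x ⟨v, c, hv, hx⟩
    rcases eq_tv_or_one hF hv hx with rfl | ⟨hc, rfl, hv0⟩
    · refine ⟨0, by rw [zero_pow_q hF, add_zero], congrArg π (su_ext fun y => ?_)⟩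
      rw [act_one, tv_act, zero_mul, zero_smul, add_zero]
    obtain ⟨m, hm, d, hd⟩ := Rsymm ha0 (hall v hv hv0)
    refine ⟨_, norm_mul_skew hF d hc, ?_⟩
    have hconj : m * tv hF v c hv hc * m⁻¹
        = tv hF a (d ^ q * d * c) ha (norm_mul_skew hF d hc) := by
      rw [tv_conj hF m hv hc, ← tv_smul hF (by rw [← hd, herm_act, hv]) hc]
      apply su_ext
      intro y
      rw [tv_act, tv_act, hd]
    rw [← hconj, map_mul, map_mul, map_inv, show π m = 1 from (QuotientGroup.eq_one_iff m).2 hm,
      one_mul, inv_one, mul_one]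
  have hcomm : ∀ x y : SU n F q, Commute (π x) (π y) := by
    intro x y
    have hx := hclos ▸ Subgroup.mem_top x
    have hy := hclos ▸ Subgroup.mem_top y
    induction hx, hy using Subgroup.closure_induction₂ with
    | mem x y hx hy =>
      obtain ⟨c₁, hc₁, e₁⟩ := hred x hx
      obtain ⟨c₂, hc₂, e₂⟩ := hred y hy
      rw [e₁, e₂]
      exact (tv_comm hF ha hc₁ hc₂).map π
    | one_left x hx => rw [map_one]; exact Commute.one_left _
    | one_right x hx => rw [map_one]; exact Commute.one_right _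
    | mul_left x y z _ _ _ h₁ h₂ => rw [map_mul]; exact h₁.mul_left h₂
    | mul_right x y z _ _ _ h₁ h₂ => rw [map_mul]; exact h₁.mul_right h₂
    | inv_left x y _ _ h => rw [map_inv]; exact h.inv_left
    | inv_right x y _ _ h => rw [map_inv]; exact h.inv_right
  have hle : commutator (SU n F q) ≤ N := by
    rw [commutator_def, Subgroup.commutator_le]
    intro x _ y _
    rw [← QuotientGroup.eq_one_iff, ← QuotientGroup.mk'_apply, map_commutatorElement,
      commutatorElement_eq_one_iff_mul_comm]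
    exact hcomm x y
  rwa [commutator_eq_top hF hn h32, top_le_iff] at hle

theorem isSimpleGroup_PSU (hF : Fintype.card F = q ^ 2) (hn : 3 ≤ n) (h32 : ¬(n = 3 ∧ q = 2)) :
    IsSimpleGroup (PSU n F q) := by
  obtain ⟨e, he0, he⟩ := exists_isotropic hF (n := n) (by omega)
  obtain ⟨f, hff, hfe, hef⟩ := exists_hyp hF he0 he
  obtain ⟨c, hc0, hc⟩ := exists_skew hF
  have : Nontrivial (PSU n F q) := by
    refine ⟨⟨QuotientGroup.mk (tv hF e c he hc), 1, fun h => ?_⟩⟩
    rw [QuotientGroup.eq_one_iff] at h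
    have hs := center_SU_scalar hF (by omega) h
    obtain ⟨s, h1⟩ : ∃ s : F, act (tv hF e c he hc) f = s • f := by
      refine ⟨(tv hF e c he hc).1.1 ⟨0, by omega⟩ ⟨0, by omega⟩, funext fun i => ?_⟩
      simp only [act, Matrix.mulVec, dotProduct, Pi.smul_apply, smul_eq_mul]
      rw [Finset.sum_eq_single i]
      · rw [hs i i, if_pos rfl]
      · intro j _ hj
        rw [hs i j, if_neg (Ne.symm hj), zero_mul]
      · simp
    rw [tv_act, hfe, mul_one] at h1
    have h2 := congrArg (fun y => hermForm n F q y f) h1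
    simp only [herm_add_left, herm_smul_left, hff, hef, mul_zero, mul_one, zero_add] at h2
    exact hc0 h2
  refine ⟨fun H hH => ?_⟩
  by_cases hfix : ∀ x : SU n F q, x ∈ H.comap (QuotientGroup.mk' _) → ∀ u,
      hermForm n F q u u = 0 → ∃ c : F, act x u = c • u
  · left
    rw [Subgroup.eq_bot_iff_forall]
    intro y hy
    obtain ⟨x, rfl⟩ := QuotientGroup.mk'_surjective _ y
    rw [QuotientGroup.mk'_apply, QuotientGroup.eq_one_iff, Subgroup.mem_center_iff]
    obtain ⟨d, hd⟩ := eq_smul_of_fix_lines hF (by omega) x (hfix x hy)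
    intro g
    apply su_ext
    intro z
    rw [act_mul, act_mul, hd, hd, act_smul]
  · right
    push Not at hfix
    obtain ⟨x, hx, u, hu, hmv⟩ := hfix
    have htop := eq_top_of_moves hF hn h32 (H.comap (QuotientGroup.mk' _)) x hx hu hmv
    exact Subgroup.comap_injective (QuotientGroup.mk'_surjective _)
      (htop.trans (Subgroup.comap_top _).symm)

/-- Transvections with isotropic centres are conjugate in `SU`. -/
theorem isConj_tv (hF : Fintype.card F = q ^ 2) (hn : 3 ≤ n) {u v : Fin n → F} {c d : F}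
    (hu : hermForm n F q u u = 0) (hv : hermForm n F q v v = 0) (hu0 : u ≠ 0) (hv0 : v ≠ 0)
    (hc : c + c ^ q = 0) (hd : d + d ^ q = 0) (hc0 : c ≠ 0) (hd0 : d ≠ 0) :
    IsConj (tv hF u c hu hc) (tv hF v d hv hd) := by
  have hc' : c ^ q = -c := by linear_combination hc
  have hd' : d ^ q = -d := by linear_combination hd
  obtain ⟨a, ha⟩ := exists_norm_eq hF (a := c / d) (by rw [div_pow, hc', hd', neg_div_neg_eq])
  rw [pow_succ] at ha
  have ha0 : a ≠ 0 := by
    rintro rfl
    rw [mul_zero] at ha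
    exact div_ne_zero hc0 hd0 ha.symm
  obtain ⟨g, -, hg⟩ := exists_move hF hn (⊤ : Subgroup (SU n F q)) (fun _ _ _ _ _ _ => trivial)
    (u := a • u) (v := v) (smul_ne_zero ha0 hu0)
    (by rw [herm_smul_left, herm_smul_right, hu]; ring) hv0 hv
  refine isConj_iff.2 ⟨g, ?_⟩
  rw [tv_conj]
  apply su_ext
  intro x
  rw [tv_act, tv_act, ← hg, act_smul, herm_smul_right, smul_smul]
  congr 2
  have : c = a ^ q * a * d := by rw [ha, div_mul_cancel₀ _ hd0]
  rw [this]
  ring

/-- A transvection in `SU` has an isotropic centre. -/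
theorem exists_tv_of_isTransvection (hF : Fintype.card F = q ^ 2) (g : SU n F q)
    (h : IsTransvection ((g : Matrix.SpecialLinearGroup (Fin n) F) : Matrix (Fin n) (Fin n) F)) :
    ∃ (u : Fin n → F) (c : F) (hu : hermForm n F q u u = 0) (hc : c + c ^ q = 0),
      u ≠ 0 ∧ c ≠ 0 ∧ g = tv hF u c hu hc := by
  set M := ((g : Matrix.SpecialLinearGroup (Fin n) F) : Matrix (Fin n) (Fin n) F) with hM
  obtain ⟨hr, hsq⟩ := h
  obtain ⟨⟨u, hu_mem⟩, hu0', hspan⟩ := finrank_eq_one_iff'.1 hr
  have hu0 : u ≠ 0 := fun h => hu0' (Subtype.ext h)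
  have hdec : ∀ x, ∃ k : F, act g x = x + k • u := by
    intro x
    obtain ⟨k, hk⟩ := hspan ⟨(M - 1) *ᵥ x, x, rfl⟩
    refine ⟨k, ?_⟩
    have h1 : k • u = (M - 1) *ᵥ x := congrArg Subtype.val hk
    rw [h1, Matrix.sub_mulVec, Matrix.one_mulVec, add_sub_cancel]
    rfl
  have hgu : act g u = u := by
    obtain ⟨y, hy⟩ := hu_mem
    have h1 : (M - 1) *ᵥ u = 0 := by
      rw [← hy, Matrix.mulVecLin_apply, Matrix.mulVec_mulVec, hsq, Matrix.zero_mulVec]
    rw [Matrix.sub_mulVec, Matrix.one_mulVec, sub_eq_zero] at h1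
    exact h1
  have hperp : ∀ x : Fin n → F, hermForm n F q x u = 0 → act g x = x := by
    intro x hx
    obtain ⟨j, hj⟩ := hdec x
    by_contra hne
    have hj0 : j ≠ 0 := fun h => hne (by rw [hj, h, zero_smul, add_zero])
    -- `j ≠ 0` forces `u` to be orthogonal to everything
    refine hu0 (eq_zero_of_herm_eq_zero hF fun z => ?_)
    obtain ⟨l, hl⟩ := hdec z
    have h1 := herm_act g x z
    have h2 := herm_act g u z
    rw [hgu, hl, herm_add_right hF, herm_smul_right] at h2
    rw [hj, hl, herm_add_left, herm_add_right hF, herm_add_right hF, herm_smul_left,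
      herm_smul_left, herm_smul_right, herm_smul_right, hx] at h1
    have h3 : j * (hermForm n F q u z + l ^ q * hermForm n F q u u) = 0 := by
      linear_combination h1
    have h4 := (mul_eq_zero.1 h3).resolve_left hj0
    linear_combination h4 - h2
  have huu : hermForm n F q u u = 0 := by
    by_contra hne
    obtain ⟨x, hx⟩ : ∃ x, act g x ≠ x := by
      by_contra hc
      push Not at hc
      have : g = 1 := su_ext fun x => by rw [hc x, act_one]
      have h0 : M - 1 = 0 := by rw [hM, this]; simp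
      rw [h0, Matrix.rank_zero] at hr
      exact zero_ne_one hr
    obtain ⟨l, hl⟩ := hdec x
    set x' := x - (hermForm n F q x u / hermForm n F q u u) • u with hx'
    have h1 := hperp x' (by
      rw [hx', herm_sub_left, herm_smul_left, div_mul_cancel₀ _ hne, sub_self])
    rw [hx', act_sub, act_smul, hgu] at h1
    exact hx (sub_left_inj.1 h1)
  obtain ⟨f, hff, hfu, huf⟩ := exists_hyp hF hu0 huu
  obtain ⟨c, hc⟩ := hdec f
  have hskew : c + c ^ q = 0 := by
    have h1 := herm_act g f f
    rw [hc, hff] at h1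
    simp only [herm_add_left, herm_add_right hF, herm_smul_left, herm_smul_right, hff, hfu, huf,
      huu] at h1
    linear_combination h1
  have hg : g = tv hF u c huu hskew := by
    apply su_ext
    intro x
    have h1 := hperp (x - hermForm n F q x u • f)
      (by rw [herm_sub_left, herm_smul_left, hfu]; ring)
    rw [act_sub, act_smul, hc] at h1
    rw [tv_act, eq_add_of_sub_eq h1]
    module
  refine ⟨u, c, huu, hskew, hu0, fun h0 => ?_, hg⟩
  have : g = 1 := su_ext fun x => by rw [hg, tv_act, h0, zero_mul, zero_smul, add_zero, act_one]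
  have h0' : M - 1 = 0 := by rw [hM, this]; simp
  rw [h0', Matrix.rank_zero] at hr
  exact zero_ne_one hr

theorem isConj_of_isTransvection (hF : Fintype.card F = q ^ 2) (hn : 3 ≤ n) (s t : SU n F q)
    (hs : IsTransvection ((s : Matrix.SpecialLinearGroup (Fin n) F) : Matrix (Fin n) (Fin n) F))
    (ht : IsTransvection ((t : Matrix.SpecialLinearGroup (Fin n) F) : Matrix (Fin n) (Fin n) F)) :
    IsConj s t := by
  obtain ⟨u, c, hu, hc, hu0, hc0, rfl⟩ := exists_tv_of_isTransvection hF s hs
  obtain ⟨v, d, hv, hd, hv0, hd0, rfl⟩ := exists_tv_of_isTransvection hF t ht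
  exact isConj_tv hF hn hu hv hu0 hv0 hc hd hc0 hd0

end Cfsg.Agent.OrthUnitaryPSU
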