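import Mathlib
import Cfsg.Prelude.Def_LieTypeDatum
import Cfsg.Agent.Lib.OrthUnitaryPSU

/-!
Automorphisms of `SU` and `PSU` induced by semilinear unitary maps, the groups of Eichler
transformations at an isotropic vector, and elementary facts on classes of `p`-elements.
-/

set_option autoImplicit false
set_option linter.unusedSectionVars false

namespace Cfsg.Agent.AutPSU52Basic

open Matrix
open Cfsg.Agent.OrthUnitaryHerm Cfsg.Agent.OrthUnitaryTransvection Cfsg.Agent.OrthUnitaryPSU

variable {F : Type*} [Field F] {q n : ℕ}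

/-! ### Semilinear maps and the automorphisms they induce -/

/-- The passage from automorphisms of `SU` to those of `PSU`. -/
def quotAut : MulAut (SU n F q) →* MulAut (PSU n F q) where
  toFun φ := QuotientGroup.congr _ _ φ
    (Subgroup.characteristic_iff_map_eq.1 Subgroup.centerCharacteristic φ)
  map_one' := by
    ext x
    induction x using QuotientGroup.induction_on with
    | H s => rfl
  map_mul' φ ψ := by
    ext x
    induction x using QuotientGroup.induction_on with
    | H s => rfl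

theorem herm_field (σ : F ≃+* F) (u v : Fin n → F) :
    hermForm n F q (σ ∘ u) (σ ∘ v) = σ (hermForm n F q u v) := by
  simp [hermForm, map_sum, map_mul, map_pow]

theorem map_mulVec_comp (σ : F ≃+* F) (M : Matrix (Fin n) (Fin n) F) (x : Fin n → F) :
    M.map σ *ᵥ (σ ∘ x) = σ ∘ (M *ᵥ x) := by
  funext i
  exact ((σ : F →+* F).map_mulVec M x i).symm

theorem isU_map (σ : F ≃+* F) {M : Matrix (Fin n) (Fin n) F} (hM : IsU q M) :
    IsU q (M.map σ) := by
  intro u v
  obtain ⟨x, rfl⟩ : ∃ x : Fin n → F, u = σ ∘ x := ⟨σ.symm ∘ u, by ext; simp⟩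
  obtain ⟨y, rfl⟩ : ∃ y : Fin n → F, v = σ ∘ y := ⟨σ.symm ∘ v, by ext; simp⟩
  rw [map_mulVec_comp, map_mulVec_comp, herm_field, herm_field, hM x y]

/-- The matrix of an element of `GU`. -/
abbrev gMat (g : GU n F q) : Matrix (Fin n) (Fin n) F :=
  ((g : Matrix.GeneralLinearGroup (Fin n) F) : Matrix (Fin n) (Fin n) F)

/-- The matrix of an element of `SU`. -/
abbrev sMat (s : SU n F q) : Matrix (Fin n) (Fin n) F :=
  ((s : Matrix.SpecialLinearGroup (Fin n) F) : Matrix (Fin n) (Fin n) F)

theorem conj_det (g : GU n F q) (s : SU n F q) :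
    (gMat g * sMat s * gMat g⁻¹).det = 1 := by
  rw [det_mul, det_mul, show (sMat s).det = 1 from s.1.2, mul_one, ← det_mul]
  simp [gMat]

theorem conj_isU (g : GU n F q) (s : SU n F q) : IsU q (gMat g * sMat s * gMat g⁻¹) :=
  ((isU_of_mem g).mul (isU_of_mem_SU s)).mul (isU_of_mem g⁻¹)

/-- Conjugation by a unitary matrix, on `SU`. -/
def suConj : GU n F q →* MulAut (SU n F q) where
  toFun g :=
    { toFun := fun s => mkSU _ (conj_det g s) (conj_isU g s)
      invFun := fun s => mkSU _ (conj_det g⁻¹ s) (conj_isU g⁻¹ s)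
      left_inv := fun s => by
        apply Subtype.ext
        apply Subtype.ext
        simp [mkSU, gMat, sMat, mul_assoc]
      right_inv := fun s => by
        apply Subtype.ext
        apply Subtype.ext
        simp [mkSU, gMat, sMat, mul_assoc]
      map_mul' := fun s t => by
        apply Subtype.ext
        apply Subtype.ext
        show gMat g * (sMat s * sMat t) * gMat g⁻¹ =
          (gMat g * sMat s * gMat g⁻¹) * (gMat g * sMat t * gMat g⁻¹)
        simp [gMat, mul_assoc] }
  map_one' := by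
    apply MulEquiv.ext
    intro s
    apply Subtype.ext
    apply Subtype.ext
    simp [mkSU, gMat, sMat]
  map_mul' g h := by
    apply MulEquiv.ext
    intro s
    apply Subtype.ext
    apply Subtype.ext
    simp [mkSU, gMat, sMat, mul_assoc]

theorem coe_suConj (g : GU n F q) (s : SU n F q) :
    sMat (suConj g s) = gMat g * sMat s * gMat g⁻¹ := rfl

theorem field_det (σ : F ≃+* F) (s : SU n F q) : ((sMat s).map σ).det = 1 := by
  have h := RingHom.map_det (σ : F →+* F) (sMat s)
  rw [show (sMat s).det = 1 from s.1.2, map_one, RingHom.mapMatrix_apply] at h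
  exact h.symm

/-- A field automorphism applied entrywise, on `SU`. -/
def suField : (F ≃+* F) →* MulAut (SU n F q) where
  toFun σ :=
    { toFun := fun s => mkSU _ (field_det σ s) (isU_map σ (isU_of_mem_SU s))
      invFun := fun s => mkSU _ (field_det σ.symm s) (isU_map σ.symm (isU_of_mem_SU s))
      left_inv := fun s => by
        apply Subtype.ext
        apply Subtype.ext
        ext i j
        simp [mkSU, sMat]
      right_inv := fun s => by
        apply Subtype.ext
        apply Subtype.ext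
        ext i j
        simp [mkSU, sMat]
      map_mul' := fun s t => Subtype.ext (Subtype.ext (by
        show (sMat s * sMat t).map σ = (sMat s).map σ * (sMat t).map σ
        exact Matrix.map_mul)) }
  map_one' := by
    apply MulEquiv.ext
    intro s
    apply Subtype.ext
    apply Subtype.ext
    ext i j
    rfl
  map_mul' σ τ := by
    apply MulEquiv.ext
    intro s
    apply Subtype.ext
    apply Subtype.ext
    ext i j
    rfl

theorem coe_suField (σ : F ≃+* F) (s : SU n F q) : sMat (suField σ s) = (sMat s).map σ := rfl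

/-- Conjugation by a unitary matrix, on `PSU`. -/
def cj : GU n F q →* MulAut (PSU n F q) := quotAut.comp suConj

/-- A field automorphism applied entrywise, on `PSU`. -/
def fd : (F ≃+* F) →* MulAut (PSU n F q) := quotAut.comp suField

theorem cj_mk (g : GU n F q) (s : SU n F q) :
    cj g (QuotientGroup.mk s) = QuotientGroup.mk (suConj g s) := rfl

theorem fd_mk (σ : F ≃+* F) (s : SU n F q) :
    fd σ (QuotientGroup.mk s : PSU n F q) = QuotientGroup.mk (suField σ s) := rfl

theorem cj_suToGU (s : SU n F q) : cj (suToGU s) = MulAut.conj (QuotientGroup.mk s : PSU n F q) := by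
  apply MulEquiv.ext
  intro x
  induction x using QuotientGroup.induction_on with
  | H t =>
    rw [cj_mk, MulAut.conj_apply, ← QuotientGroup.mk_mul, ← QuotientGroup.mk_inv,
      ← QuotientGroup.mk_mul]
    congr 1

/-- The semilinear map `x ↦ g σ(x)`. -/
def semi (g : GU n F q) (σ : F ≃+* F) (x : Fin n → F) : Fin n → F := gMat g *ᵥ (σ ∘ x)

/-- The automorphism of `SU` induced by `x ↦ g σ(x)`. -/
def autS (g : GU n F q) (σ : F ≃+* F) : MulAut (SU n F q) := suConj g * suField σ

theorem cj_fd_mk (g : GU n F q) (σ : F ≃+* F) (s : SU n F q) :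
    (cj g * fd σ : MulAut (PSU n F q)) (QuotientGroup.mk s) = QuotientGroup.mk (autS g σ s) := rfl

theorem semi_surj (g : GU n F q) (σ : F ≃+* F) (y : Fin n → F) : ∃ x, semi g σ x = y := by
  refine ⟨σ.symm ∘ (gMat g⁻¹ *ᵥ y), ?_⟩
  have : (σ ∘ (σ.symm ∘ (gMat g⁻¹ *ᵥ y))) = gMat g⁻¹ *ᵥ y := by ext; simp
  rw [semi, this, mulVec_mulVec]
  simp [gMat]

theorem semi_add (g : GU n F q) (σ : F ≃+* F) (x y : Fin n → F) :
    semi g σ (x + y) = semi g σ x + semi g σ y := by
  rw [semi, semi, semi, ← mulVec_add]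
  congr 1
  ext i; simp

theorem semi_smul (g : GU n F q) (σ : F ≃+* F) (a : F) (x : Fin n → F) :
    semi g σ (a • x) = σ a • semi g σ x := by
  rw [semi, semi, ← mulVec_smul]
  congr 1
  ext i; simp

theorem herm_semi (g : GU n F q) (σ : F ≃+* F) (x y : Fin n → F) :
    hermForm n F q (semi g σ x) (semi g σ y) = σ (hermForm n F q x y) := by
  rw [semi, semi, isU_of_mem g, herm_field]

theorem autS_act (g : GU n F q) (σ : F ≃+* F) (s : SU n F q) (x : Fin n → F) :
    act (autS g σ s) (semi g σ x) = semi g σ (act s x) := by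
  show sMat (suConj g (suField σ s)) *ᵥ semi g σ x = semi g σ (sMat s *ᵥ x)
  rw [coe_suConj, coe_suField, semi, semi, mulVec_mulVec, mul_assoc]
  have h1 : gMat g⁻¹ * gMat g = 1 := by simp [gMat]
  rw [h1, mul_one, ← mulVec_mulVec, map_mulVec_comp]

theorem suToGU_act (s : SU n F q) (x : Fin n → F) :
    semi (suToGU s) (RingEquiv.refl F) x = act s x := rfl

variable [Fintype F]

theorem autS_eich (hF : Fintype.card F = q ^ 2) (g : GU n F q) (σ : F ≃+* F) {e w : Fin n → F}
    {μ : F} (he : hermForm n F q e e = 0) (hw : hermForm n F q w e = 0)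
    (hμ : μ + μ ^ q + hermForm n F q w w = 0) :
    autS g σ (eich hF e w μ he hw hμ) = eich hF (semi g σ e) (semi g σ w) (σ μ)
      (by rw [herm_semi, he, map_zero]) (by rw [herm_semi, hw, map_zero])
      (by rw [herm_semi, ← map_pow, ← map_add, ← map_add, hμ, map_zero]) := by
  apply su_ext
  intro y
  obtain ⟨x, rfl⟩ := semi_surj g σ y
  rw [autS_act, eich_act, eich_act, semi_add, semi_add, semi_smul, semi_smul, herm_semi, herm_semi,
    map_sub, map_mul]

theorem autS_tv (hF : Fintype.card F = q ^ 2) (g : GU n F q) (σ : F ≃+* F) {v : Fin n → F}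
    {c : F} (hv : hermForm n F q v v = 0) (hc : c + c ^ q = 0) :
    autS g σ (tv hF v c hv hc) = tv hF (semi g σ v) (σ c)
      (by rw [herm_semi, hv, map_zero]) (by rw [← map_pow, ← map_add, hc, map_zero]) := by
  apply su_ext
  intro y
  obtain ⟨x, rfl⟩ := semi_surj g σ y
  rw [autS_act, tv_act, tv_act, semi_add, semi_smul, herm_semi, map_mul]

/-! ### The centre and classes of `p`-elements -/

theorem exists_char (hF : Fintype.card F = q ^ 2) :
    ∃ p : ℕ, Fact p.Prime ∧ CharP F p ∧ p ∣ q := by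
  obtain ⟨p, f, hp, hc, hf, hq⟩ := exists_prime_pow hF
  exact ⟨p, ⟨hp⟩, hc, hq ▸ dvd_pow_self p hf.ne'⟩

theorem exists_scalar_of_mem_center (hF : Fintype.card F = q ^ 2) (hn : 2 ≤ n) {z : SU n F q}
    (hz : z ∈ Subgroup.center (SU n F q)) : ∃ a : F, a ≠ 0 ∧ ∀ x, act z x = a • x := by
  have hs := center_SU_scalar hF hn hz
  refine ⟨sMat z ⟨0, by omega⟩ ⟨0, by omega⟩, fun h0 => ?_, fun x => funext fun i => ?_⟩
  · have h2 : sMat z = 0 := by
      ext i j
      rw [sMat, hs i j]
      split
      · exact h0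
      · rfl
    haveI : Nonempty (Fin n) := ⟨⟨0, by omega⟩⟩
    have h3 : (sMat z).det = 1 := z.1.2
    rw [h2, det_zero] at h3
    exact zero_ne_one h3
  · simp only [act, mulVec, dotProduct, Pi.smul_apply, smul_eq_mul]
    rw [Finset.sum_eq_single i]
    · rw [hs i i, if_pos rfl]
    · intro j _ hj
      rw [hs i j, if_neg (Ne.symm hj), zero_mul]
    · simp

theorem mem_center_of_scalar {z : SU n F q} {a : F} (h : ∀ x, act z x = a • x) :
    z ∈ Subgroup.center (SU n F q) := by
  rw [Subgroup.mem_center_iff]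
  intro g
  apply su_ext
  intro x
  rw [act_mul, act_mul, h, h, act_smul]

theorem exists_smul_of_mk_eq (hF : Fintype.card F = q ^ 2) (hn : 2 ≤ n) {s t : SU n F q}
    (h : (QuotientGroup.mk s : PSU n F q) = QuotientGroup.mk t) :
    ∃ a : F, a ≠ 0 ∧ ∀ x, act t x = a • act s x := by
  obtain ⟨a, ha, hz⟩ := exists_scalar_of_mem_center hF hn (QuotientGroup.eq.1 h)
  refine ⟨a, ha, fun x => ?_⟩
  have h1 := hz x
  rw [act_mul] at h1
  rw [← act_act_inv s (act t x), h1, act_smul]

theorem mk_eq_of_smul {s t : SU n F q} {a : F} (h : ∀ x, act t x = a • act s x) :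
    (QuotientGroup.mk s : PSU n F q) = QuotientGroup.mk t := by
  rw [QuotientGroup.eq]
  refine mem_center_of_scalar (a := a) fun x => ?_
  rw [act_mul, h, act_smul, act_inv_act]

/-- A central element of `p`-power order is trivial. -/
theorem center_pPow (hF : Fintype.card F = q ^ 2) (hn : 2 ≤ n) (p : ℕ) [Fact p.Prime] [CharP F p]
    {z : SU n F q} (hz : z ∈ Subgroup.center (SU n F q)) {k : ℕ} (hk : z ^ p ^ k = 1) : z = 1 := by
  obtain ⟨a, -, ha⟩ := exists_scalar_of_mem_center hF hn hz
  have hp : ∀ (j : ℕ) (x : Fin n → F), act (z ^ j) x = a ^ j • x := by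
    intro j
    induction j with
    | zero => intro x; rw [pow_zero, pow_zero, act_one, one_smul]
    | succ j ih => intro x; rw [pow_succ, act_mul, ha, act_smul, ih, smul_smul, pow_succ']
  set i : Fin n := ⟨0, by omega⟩
  have h1 : a ^ p ^ k = 1 := by
    have := congrFun ((hp (p ^ k) (Pi.single i 1)).symm.trans (by rw [hk, act_one])) i
    simpa using this
  have h2 : a = 1 := by
    have h3 : (a - 1) ^ p ^ k = 0 := by rw [sub_pow_char_pow, h1, one_pow, sub_self]
    exact sub_eq_zero.1 (pow_eq_zero_iff (pow_ne_zero k (Fact.out : p.Prime).ne_zero) |>.1 h3)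
  exact su_ext fun x => by rw [ha, h2, one_smul, act_one]

/-- Classes of elements of `p`-power order determine them. -/
theorem eq_of_mk_eq (hF : Fintype.card F = q ^ 2) (hn : 2 ≤ n) (p : ℕ) [Fact p.Prime] [CharP F p]
    {s t : SU n F q} {k l : ℕ} (hs : s ^ p ^ k = 1) (ht : t ^ p ^ l = 1)
    (h : (QuotientGroup.mk s : PSU n F q) = QuotientGroup.mk t) : s = t := by
  have hz := QuotientGroup.eq.1 h
  have hcm : Commute s⁻¹ t := by
    have h1 := Subgroup.mem_center_iff.1 hz s
    rw [mul_inv_cancel_left] at h1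
    show s⁻¹ * t = t * s⁻¹
    calc s⁻¹ * t = (s⁻¹ * t * s) * s⁻¹ := by group
      _ = t * s⁻¹ := by rw [← h1]
  have h3 : (s⁻¹ * t) ^ p ^ (k + l) = 1 := by
    rw [hcm.mul_pow, inv_pow, pow_add, pow_mul, hs, one_pow, inv_one, one_mul, mul_comm (p ^ k),
      pow_mul, ht, one_pow]
  exact inv_mul_eq_one.1 (center_pPow hF hn p hz h3)

/-! ### The groups of Eichler transformations -/

/-- The group fixing `e` and moving the vectors orthogonal to `e` along `e`. -/
def eGroup (e : Fin n → F) : Subgroup (SU n F q) where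
  carrier := {s | act s e = e ∧ ∀ x, hermForm n F q x e = 0 → ∃ a : F, act s x = x + a • e}
  one_mem' := ⟨act_one e, fun x _ => ⟨0, by rw [act_one, zero_smul, add_zero]⟩⟩
  mul_mem' := fun {s t} hs ht => ⟨by rw [act_mul, ht.1, hs.1], fun x hx => by
    obtain ⟨a, ha⟩ := ht.2 x hx
    obtain ⟨b, hb⟩ := hs.2 x hx
    exact ⟨b + a, by rw [act_mul, ha, act_add, act_smul, hs.1, hb, add_smul, add_assoc]⟩⟩
  inv_mem' := fun {s} hs => by
    have he : act s⁻¹ e = e := by
      conv_lhs => rw [← hs.1]
      rw [act_inv_act]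
    refine ⟨he, fun x hx => ?_⟩
    obtain ⟨a, ha⟩ := hs.2 x hx
    refine ⟨-a, ?_⟩
    have h1 := congrArg (act s⁻¹) ha
    rw [act_inv_act, act_add, act_smul, he] at h1
    rw [neg_smul, ← sub_eq_add_neg, eq_sub_iff_add_eq, ← h1]

theorem mem_eGroup {e : Fin n → F} {s : SU n F q} :
    s ∈ eGroup e ↔ act s e = e ∧ ∀ x, hermForm n F q x e = 0 → ∃ a : F, act s x = x + a • e :=
  Iff.rfl

theorem eich_mem_eGroup (hF : Fintype.card F = q ^ 2) {e w : Fin n → F} {μ : F}
    (he : hermForm n F q e e = 0) (hw : hermForm n F q w e = 0)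
    (hμ : μ + μ ^ q + hermForm n F q w w = 0) : eich hF e w μ he hw hμ ∈ eGroup e :=
  mem_eGroup.2 ⟨eich_self hF e w μ he hw hμ, fun x hx =>
    ⟨-hermForm n F q x w, by rw [eich_act, hx, zero_smul, add_zero, mul_zero, zero_sub]⟩⟩

theorem tv_mem_eGroup (hF : Fintype.card F = q ^ 2) {e : Fin n → F} {c : F}
    (he : hermForm n F q e e = 0) (hc : c + c ^ q = 0) : tv hF e c he hc ∈ eGroup e :=
  mem_eGroup.2 ⟨by rw [tv_act, he, mul_zero, zero_smul, add_zero], fun x hx =>
    ⟨0, by rw [tv_act, hx, mul_zero]⟩⟩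

theorem eGroup_smul {e : Fin n → F} {a : F} (ha : a ≠ 0) :
    eGroup (q := q) (a • e) = eGroup e := by
  ext s
  simp only [mem_eGroup, act_smul, herm_smul_right, smul_smul]
  constructor
  · rintro ⟨h1, h2⟩
    refine ⟨smul_right_injective _ ha h1, fun x hx => ?_⟩
    obtain ⟨b, hb⟩ := h2 x (by rw [hx, mul_zero])
    exact ⟨b * a, hb⟩
  · rintro ⟨h1, h2⟩
    refine ⟨by rw [h1], fun x hx => ?_⟩
    obtain ⟨b, hb⟩ := h2 x ((mul_eq_zero.1 hx).resolve_left (pow_ne_zero q ha))
    exact ⟨b / a, by rw [div_mul_cancel₀ _ ha]; exact hb⟩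

theorem conj_mem_eGroup {e : Fin n → F} (g : SU n F q) {s : SU n F q} (hs : s ∈ eGroup e) :
    g * s * g⁻¹ ∈ eGroup (act g e) := by
  refine mem_eGroup.2 ⟨by rw [act_mul, act_mul, act_inv_act, hs.1], fun x hx => ?_⟩
  obtain ⟨y, rfl⟩ : ∃ y, x = act g y := ⟨_, (act_act_inv g x).symm⟩
  rw [herm_act] at hx
  obtain ⟨a, ha⟩ := hs.2 y hx
  exact ⟨a, by rw [act_mul, act_mul, act_inv_act, ha, act_add, act_smul]⟩

/-- The elements of `eGroup e` are Eichler transformations. -/
theorem exists_eich (hF : Fintype.card F = q ^ 2) {e f : Fin n → F} (he : hermForm n F q e e = 0)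
    (hff : hermForm n F q f f = 0) (hef : hermForm n F q e f = 1)
    (hfe : hermForm n F q f e = 1) {s : SU n F q} (hs : s ∈ eGroup e) :
    ∃ w μ, ∃ (hw : hermForm n F q w e = 0) (hμ : μ + μ ^ q + hermForm n F q w w = 0),
      s = eich hF e w μ he hw hμ := by
  have h1 : hermForm n F q (act s f) e = 1 := by
    conv_lhs => rw [← hs.1]
    rw [herm_act, hfe]
  obtain ⟨w, μ, hw, hμ, hm⟩ := exists_eich_move hF he hff
    (v := act s f) (by rw [herm_act, hff]) hfe h1
  refine ⟨w, μ, hw, hμ, ?_⟩
  set t := eich hF e w μ he hw hμ with ht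
  have htm := eich_mem_eGroup hF he hw hμ
  rw [← ht] at htm
  have hu : t⁻¹ * s ∈ eGroup e := mul_mem (inv_mem htm) hs
  have huf : act (t⁻¹ * s) f = f := by rw [act_mul, ← hm, act_inv_act]
  symm
  refine inv_mul_eq_one.1 (su_ext fun x => ?_)
  rw [act_one]
  obtain ⟨a, ha⟩ := hu.2 (x - hermForm n F q x e • f)
    (by rw [herm_sub_left, herm_smul_left, hfe, mul_one, sub_self])
  rw [act_sub, act_smul, huf] at ha
  have h2 := congrArg (fun y => hermForm n F q y f) ha
  simp only [herm_sub_left, herm_add_left, herm_smul_left, hff, hef, mul_zero, sub_zero,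
    mul_one] at h2
  have h3 : hermForm n F q (act (t⁻¹ * s) x) f = hermForm n F q x f := by
    conv_lhs => rw [← huf]
    rw [herm_act]
  rw [h3] at h2
  have ha0 : a = 0 := by linear_combination -h2
  rw [ha0, zero_smul, add_zero, sub_left_inj] at ha
  exact ha

theorem eGroup_pow (hF : Fintype.card F = q ^ 2) (p : ℕ) [Fact p.Prime] [CharP F p]
    {e : Fin n → F} (he0 : e ≠ 0) (he : hermForm n F q e e = 0) {s : SU n F q}
    (hs : s ∈ eGroup e) : s ^ p ^ 2 = 1 := by
  haveI : Nonempty (Fin n) := by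
    rcases Nat.eq_zero_or_pos n with h | h
    · subst h; exact absurd (Subsingleton.elim e 0) he0
    · exact ⟨⟨0, h⟩⟩
  haveI : CharP (Matrix (Fin n) (Fin n) F) p := inferInstance
  set N := sMat s - 1 with hN
  have hNx : ∀ x, N *ᵥ x = act s x - x := fun x => by
    rw [hN, sub_mulVec, one_mulVec]; rfl
  have hperp : ∀ x, hermForm n F q (N *ᵥ x) e = 0 := fun x => by
    rw [hNx, herm_sub_left]
    conv_lhs => arg 1; rw [← hs.1]
    rw [herm_act, sub_self]
  have hN3 : N ^ 3 = 0 := by
    refine Matrix.ext_of_mulVec_single fun i => ?_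
    set x : Fin n → F := Pi.single i 1
    rw [pow_succ, pow_two, ← mulVec_mulVec, ← mulVec_mulVec, zero_mulVec]
    obtain ⟨a, ha⟩ := hs.2 _ (hperp x)
    rw [hNx (N *ᵥ x), ha, add_sub_cancel_left, mulVec_smul, hNx e, hs.1, sub_self, smul_zero]
  apply Subtype.ext
  apply Subtype.ext
  rw [SubmonoidClass.coe_pow, Matrix.SpecialLinearGroup.coe_pow]
  show sMat s ^ p ^ 2 = _
  have h1 : sMat s = 1 + N := by rw [hN]; abel
  have hp : 3 ≤ p ^ 2 := by
    have := (Fact.out : p.Prime).two_le
    nlinarith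
  rw [h1, add_pow_char_pow_of_commute (p := p) 2 (Commute.one_left N), one_pow,
    pow_eq_zero_of_le hp hN3, add_zero]
  rfl

theorem isPGroup_eGroup (hF : Fintype.card F = q ^ 2) (p : ℕ) [Fact p.Prime] [CharP F p]
    {e : Fin n → F} (he0 : e ≠ 0) (he : hermForm n F q e e = 0) :
    IsPGroup p (eGroup (q := q) e) := by
  rintro ⟨s, hs⟩
  exact ⟨2, Subtype.ext (by rw [SubmonoidClass.coe_pow]; exact eGroup_pow hF p he0 he hs)⟩

/-- A vector fixed by all Eichler transformations at `e` is a multiple of `e`. -/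
theorem eq_smul_of_fixed (hF : Fintype.card F = q ^ 2) {e f v : Fin n → F}
    (he : hermForm n F q e e = 0) (hfe : hermForm n F q f e = 1)
    (h : ∀ s ∈ eGroup (q := q) e, act s v = v) : ∃ a : F, v = a • e := by
  have he0 : e ≠ 0 := fun h0 => by rw [h0, herm_zero_right hF] at hfe; exact zero_ne_one hfe
  obtain ⟨c, hc0, hc⟩ := exists_skew hF
  have hve : hermForm n F q v e = 0 := by
    have h1 := h _ (tv_mem_eGroup hF he hc)
    rw [tv_act, add_eq_left, smul_eq_zero] at h1
    exact (mul_eq_zero.1 (h1.resolve_right he0)).resolve_left hc0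
  by_contra hne
  push Not at hne
  obtain ⟨w, hwe, hwv⟩ := exists_herm_pair hF he0 hne 0 1
  obtain ⟨μ, hμ⟩ := exists_mu hF w
  have h1 := h _ (eich_mem_eGroup hF he hwe hμ)
  rw [eich_act, hve, zero_smul, add_zero, mul_zero, zero_sub, add_eq_left, smul_eq_zero,
    neg_eq_zero] at h1
  rw [herm_conj hF v w] at hwv
  rw [h1.resolve_right he0, zero_pow_q hF] at hwv
  exact zero_ne_one hwv

end Cfsg.Agent.AutPSU52Basic
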