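import Mathlib
import Cfsg.Agent.Lib.AutPSU52Basic

/-!
Transvection classes in `PSU` as central elements of Sylow subgroups, the permutation of their
centres by automorphisms, and a description of the Eichler groups invariant under automorphisms.
-/

set_option autoImplicit false
set_option linter.unusedSectionVars false

namespace Cfsg.Agent.AutPSU52Transv

open Matrix
open Cfsg.Agent.OrthUnitaryHerm Cfsg.Agent.OrthUnitaryTransvection Cfsg.Agent.OrthUnitaryPSU
open Cfsg.Agent.AutPSU52Basic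

variable {F : Type*} [Field F] [Fintype F] {q n : ℕ}

/-! ### Auxiliary facts -/

/-- An element with the shape of a transvection is one. -/
theorem exists_tv_of_fix_perp (hF : Fintype.card F = q ^ 2) {e f : Fin n → F}
    (he : hermForm n F q e e = 0) (hff : hermForm n F q f f = 0)
    (hef : hermForm n F q e f = 1) (hfe : hermForm n F q f e = 1) {u : SU n F q}
    (h : ∀ x, hermForm n F q x e = 0 → act u x = x) :
    ∃ c, ∃ hc : c + c ^ q = 0, u = tv hF e c he hc := by
  have he0 : e ≠ 0 := fun h0 => by rw [h0, herm_zero_left] at hef; exact zero_ne_one hef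
  obtain ⟨c, hc⟩ : ∃ c, act u f - f = c • e := by
    by_contra hne
    push Not at hne
    obtain ⟨y, hye, hyd⟩ := exists_herm_pair hF he0 hne 0 1
    rw [herm_sub_right hF] at hyd
    conv_lhs at hyd => arg 1; arg 4; rw [← h y hye]
    rw [herm_act, sub_self] at hyd
    exact zero_ne_one hyd
  rw [sub_eq_iff_eq_add'] at hc
  have hskew : c + c ^ q = 0 := by
    have h1 := herm_act u f f
    rw [hc, hff] at h1
    simp only [herm_add_left, herm_add_right hF, herm_smul_left, herm_smul_right, hff, hfe, hef,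
      he] at h1
    linear_combination h1
  refine ⟨c, hskew, su_ext fun x => ?_⟩
  have h1 := h (x - hermForm n F q x e • f)
    (by rw [herm_sub_left, herm_smul_left, hfe, mul_one, sub_self])
  rw [act_sub, act_smul, hc] at h1
  rw [tv_act, eq_add_of_sub_eq h1]
  module

/-- An element fixing `e` and commuting with all Eichler transformations at `e` is a transvection. -/
theorem exists_tv_of_commute (hF : Fintype.card F = q ^ 2) {e f : Fin n → F}
    (he : hermForm n F q e e = 0) (hff : hermForm n F q f f = 0)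
    (hef : hermForm n F q e f = 1) (hfe : hermForm n F q f e = 1) {u : SU n F q}
    (hue : act u e = e) (h : ∀ s ∈ eGroup e, Commute u s) :
    ∃ c, ∃ hc : c + c ^ q = 0, u = tv hF e c he hc := by
  have he0 : e ≠ 0 := fun h0 => by rw [h0, herm_zero_left] at hef; exact zero_ne_one hef
  refine exists_tv_of_fix_perp hF he hff hef hfe fun x hx => ?_
  have key : ∀ w, hermForm n F q w e = 0 →
      ∃ k : F, act u w = w + k • e ∧ k = k ^ q := by
    intro w hw
    obtain ⟨μ, hμ⟩ := exists_mu hF w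
    have hue' : hermForm n F q (act u w) e = 0 := by
      conv_lhs => rw [← hue]
      rw [herm_act, hw]
    have h1 := congrArg (fun g => act g f)
      (show u * eich hF e w μ he hw hμ * u⁻¹ = eich hF e w μ he hw hμ by
        rw [(h _ (eich_mem_eGroup hF he hw hμ)).eq, mul_inv_cancel_right])
    rw [eich_conj] at h1
    simp only [eich_act, hue, hfe, one_smul, mul_one] at h1
    set k := hermForm n F q f (act u w) - hermForm n F q f w with hk
    have h2 : act u w = w + k • e := by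
      rw [hk, sub_smul]
      rw [sub_smul, sub_smul] at h1
      linear_combination (norm := module) h1
    refine ⟨k, h2, ?_⟩
    conv_lhs => rw [hk, h2, herm_add_right hF, herm_smul_right, hfe, mul_one, add_sub_cancel_left]
  obtain ⟨k, hk, hkq⟩ := key x hx
  rcases eq_or_ne k 0 with hk0 | hk0
  · rw [hk, hk0, zero_smul, add_zero]
  exfalso
  obtain ⟨l, hl, hl2⟩ := exists_normOne_sq_ne_one hF
  obtain ⟨k', hk', hkq'⟩ := key (((l : F) / k) • x) (by rw [herm_smul_left, hx, mul_zero])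
  rw [act_smul, hk, smul_add, smul_smul, add_right_inj, div_mul_cancel₀ _ hk0] at hk'
  have h1 : (l : F) ^ q * (l : F) = 1 := by
    rw [← pow_succ, ← Units.val_pow_eq_pow_val, hl, Units.val_one]
  rw [← smul_left_injective F he0 hk'] at hkq'
  rw [← hkq'] at h1
  exact hl2 (Units.ext (by rw [Units.val_pow_eq_pow_val, sq, h1, Units.val_one]))

/-- The number of isotropic vectors is divisible by the characteristic. -/
theorem dvd_card_iso (hF : Fintype.card F = q ^ 2) (hn : 2 ≤ n) {p : ℕ} (hp : p ∣ q) :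
    p ∣ Nat.card {v : Fin n → F // hermForm n F q v v = 0} := by
  have h := q_mul_card_norm_zero hF n
  have hq := q_ne_zero hF
  obtain ⟨m, rfl⟩ : ∃ m, n = m + 2 := ⟨n - 2, by omega⟩
  refine hp.trans (Int.natCast_dvd_natCast.1
    ⟨(q : ℤ) ^ (2 * m + 2) + (-1) ^ m * (q - 1) * q ^ m, ?_⟩)
  apply mul_left_cancel₀ (Int.natCast_ne_zero.2 hq)
  rw [h]
  ring

/-- A `p`-subgroup of `SU` fixes a non-zero isotropic vector. -/
theorem exists_fixed_iso (hF : Fintype.card F = q ^ 2) (hn : 2 ≤ n) (p : ℕ) [Fact p.Prime]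
    (hpq : p ∣ q) {U : Subgroup (SU n F q)} (hU : IsPGroup p U) :
    ∃ e : Fin n → F, e ≠ 0 ∧ hermForm n F q e e = 0 ∧ ∀ u ∈ U, act u e = e := by
  letI : MulAction U {v : Fin n → F // hermForm n F q v v = 0} :=
    { smul := fun u v => ⟨act (u : SU n F q) v.1, by rw [herm_act]; exact v.2⟩
      one_smul := fun v => Subtype.ext (act_one v.1)
      mul_smul := fun u u' v => Subtype.ext (act_mul (u : SU n F q) u' v.1) }
  obtain ⟨⟨e, he⟩, hfix, hne⟩ := hU.exists_fixed_point_of_prime_dvd_card_of_fixed_point _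
    (dvd_card_iso hF hn hpq) (a := ⟨0, herm_zero_left 0⟩)
    (fun u => Subtype.ext (show act (u : SU n F q) (0 : Fin n → F) = 0 from mulVec_zero _))
  exact ⟨e, fun h => hne (Subtype.ext h.symm), he,
    fun u hu => congrArg Subtype.val (hfix ⟨u, hu⟩)⟩

/-- A Sylow subgroup fixing `e` contains all Eichler transformations at `e`. -/
theorem eGroup_le_sylow (hF : Fintype.card F = q ^ 2) (p : ℕ) [Fact p.Prime] [CharP F p]
    {e : Fin n → F} (he0 : e ≠ 0) (he : hermForm n F q e e = 0) (U : Sylow p (SU n F q))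
    (hU : ∀ u ∈ U, act u e = e) : eGroup e ≤ (U : Subgroup (SU n F q)) := by
  have hle : (U : Subgroup (SU n F q)) ≤ Subgroup.normalizer (eGroup e : Subgroup (SU n F q)) := by
    intro u hu
    rw [Subgroup.mem_normalizer_iff]
    intro s
    constructor
    · intro hs
      have h := conj_mem_eGroup u hs
      rwa [hU u hu] at h
    · intro hs
      have h := conj_mem_eGroup u⁻¹ hs
      rw [show act u⁻¹ e = e by rw [hU u⁻¹ (inv_mem hu)]] at h
      simpa [mul_assoc] using h
  have h := U.3 (U.2.to_sup_of_normal_right' (isPGroup_eGroup hF p he0 he) hle) le_sup_left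
  rw [← h]
  exact le_sup_right

/-! ### Transvection classes -/

/-- The class of a non-trivial transvection with centre `e`. -/
def IsTv (hF : Fintype.card F = q ^ 2) (e : Fin n → F) (x : PSU n F q) : Prop :=
  ∃ c, ∃ (he : hermForm n F q e e = 0) (hc : c + c ^ q = 0),
    c ≠ 0 ∧ x = QuotientGroup.mk (tv hF e c he hc)

theorem isTv_mk (hF : Fintype.card F = q ^ 2) {e : Fin n → F} {c : F}
    (he : hermForm n F q e e = 0) (hc : c + c ^ q = 0) (hc0 : c ≠ 0) :
    IsTv hF e (QuotientGroup.mk (tv hF e c he hc) : PSU n F q) :=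
  ⟨c, he, hc, hc0, rfl⟩

theorem exists_isTv (hF : Fintype.card F = q ^ 2) {e : Fin n → F}
    (he : hermForm n F q e e = 0) : ∃ x : PSU n F q, IsTv hF e x := by
  obtain ⟨c, hc0, hc⟩ := exists_skew hF
  exact ⟨_, isTv_mk hF he hc hc0⟩

theorem isTv_smul (hF : Fintype.card F = q ^ 2) {e : Fin n → F} {a : F} (ha : a ≠ 0)
    (x : PSU n F q) : IsTv hF (a • e) x ↔ IsTv hF e x := by
  constructor
  · rintro ⟨c, he, hc, hc0, rfl⟩
    have he' : hermForm n F q e e = 0 := by
      rw [herm_smul_left, herm_smul_right] at he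
      exact (mul_eq_zero.1 ((mul_eq_zero.1 he).resolve_left ha)).resolve_left (pow_ne_zero q ha)
    rw [tv_smul hF he hc he' (norm_mul_skew hF a hc)]
    exact isTv_mk hF _ _ (mul_ne_zero (mul_ne_zero (pow_ne_zero q ha) ha) hc0)
  · rintro ⟨c, he, hc, hc0, rfl⟩
    have he' : hermForm n F q (a • e) (a • e) = 0 := by
      rw [herm_smul_left, herm_smul_right, he]; ring
    have h := norm_mul_skew hF a⁻¹ hc
    have hc' : a⁻¹ ^ q * a⁻¹ * c ≠ 0 :=
      mul_ne_zero (mul_ne_zero (pow_ne_zero q (inv_ne_zero ha)) (inv_ne_zero ha)) hc0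
    have hac : a ^ q * a * (a⁻¹ ^ q * a⁻¹ * c) = c := by
      rw [inv_pow]
      field_simp
    refine ⟨_, he', h, hc', ?_⟩
    congr 1
    apply su_ext
    intro y
    rw [tv_act, tv_act, herm_smul_right, smul_smul]
    congr 2
    linear_combination (-hermForm n F q y e) * hac

theorem exists_perp_ne_zero (hn : 3 ≤ n) (e e' : Fin n → F) :
    ∃ y : Fin n → F, y ≠ 0 ∧ hermForm n F q y e = 0 ∧ hermForm n F q y e' = 0 := by
  have h : LinearMap.ker ((hermL q e).prod (hermL q e')) ≠ ⊥ := by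
    intro hb
    have h1 := LinearMap.finrank_le_finrank_of_injective (LinearMap.ker_eq_bot.1 hb)
    rw [Module.finrank_fin_fun, Module.finrank_prod, Module.finrank_self] at h1
    omega
  obtain ⟨y, hy, hy0⟩ := Submodule.exists_mem_ne_zero_of_ne_bot h
  rw [LinearMap.mem_ker, LinearMap.prod_apply, Function.prod_apply, Prod.mk_eq_zero] at hy
  exact ⟨y, hy0, hy.1, hy.2⟩

theorem eq_smul_of_tv_eq (hF : Fintype.card F = q ^ 2) (hn : 3 ≤ n) {e e' : Fin n → F} {c c' : F}
    {he : hermForm n F q e e = 0} {hc : c + c ^ q = 0} {he' : hermForm n F q e' e' = 0}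
    {hc' : c' + c' ^ q = 0} (he0 : e ≠ 0) (hc0 : c ≠ 0)
    (h : (QuotientGroup.mk (tv hF e c he hc) : PSU n F q) = QuotientGroup.mk (tv hF e' c' he' hc')) :
    ∃ a : F, e = a • e' := by
  obtain ⟨a, -, hs⟩ := exists_smul_of_mk_eq hF (by omega) h
  obtain ⟨y, hy0, hye, hye'⟩ := exists_perp_ne_zero (q := q) hn e e'
  have h1 := hs y
  simp only [tv_act, hye, hye', mul_zero, zero_smul, add_zero] at h1
  have ha : a = 1 := smul_left_injective F hy0 (h1.symm.trans (one_smul F y).symm)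
  obtain ⟨f, hf⟩ := exists_herm_eq hF he0 1
  have h2 := hs f
  rw [ha, one_smul, tv_act, tv_act, hf, mul_one, add_right_inj] at h2
  refine ⟨c⁻¹ * (c' * hermForm n F q f e'), ?_⟩
  rw [mul_smul, h2, inv_smul_smul₀ hc0]

theorem eq_smul_of_isTv (hF : Fintype.card F = q ^ 2) (hn : 3 ≤ n) {e e' : Fin n → F}
    (he0 : e ≠ 0) {x : PSU n F q} (h : IsTv hF e x) (h' : IsTv hF e' x) :
    ∃ a : F, a ≠ 0 ∧ e = a • e' := by
  obtain ⟨c, he, hc, hc0, rfl⟩ := h
  obtain ⟨c', he', hc', -, hx⟩ := h'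
  obtain ⟨a, ha⟩ := eq_smul_of_tv_eq hF hn he0 hc0 hx
  exact ⟨a, fun h0 => he0 (by rw [ha, h0, zero_smul]), ha⟩

theorem isTv_ne_one (hF : Fintype.card F = q ^ 2) (hn : 3 ≤ n) {e : Fin n → F} (he0 : e ≠ 0)
    {x : PSU n F q} (h : IsTv hF e x) : x ≠ 1 := by
  obtain ⟨c, he, hc, hc0, rfl⟩ := h
  rw [← QuotientGroup.mk_one]
  intro h1
  obtain ⟨a, -, hs⟩ := exists_smul_of_mk_eq hF (by omega) h1
  obtain ⟨y, hy0, hye, -⟩ := exists_perp_ne_zero (q := q) hn e e
  have h2 := hs y
  rw [tv_act, act_one, hye, mul_zero, zero_smul, add_zero] at h2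
  obtain ⟨f, hf⟩ := exists_herm_eq hF he0 1
  have h3 := hs f
  rw [tv_act, act_one, hf, mul_one] at h3
  have ha : 1 = a * 1 := by
    by_contra hne
    exact hy0 (by
      have h4 : (a - 1) • (y : Fin n → F) = 0 := by rw [sub_smul, one_smul, ← h2, sub_self]
      exact (smul_eq_zero.1 h4).resolve_left (fun h => hne (by linear_combination -h)))
  rw [mul_one] at ha
  rw [← ha, one_smul, left_eq_add, smul_eq_zero] at h3
  exact h3.elim hc0 he0

theorem commute_isTv_iff (hF : Fintype.card F = q ^ 2) (hn : 3 ≤ n) {e e' : Fin n → F}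
    (he0 : e ≠ 0) {x y : PSU n F q} (h : IsTv hF e x) (h' : IsTv hF e' y) :
    Commute x y ↔ hermForm n F q e e' = 0 := by
  obtain ⟨c, he, hc, hc0, rfl⟩ := h
  obtain ⟨c', he', hc', hc'0, rfl⟩ := h'
  set s := tv hF e c he hc
  set t := tv hF e' c' he' hc'
  constructor
  · intro hcm
    obtain ⟨a, -, hs⟩ := exists_smul_of_mk_eq hF (by omega)
      (show (QuotientGroup.mk (s * t) : PSU n F q) = QuotientGroup.mk (t * s) from hcm.eq)
    obtain ⟨z, hz0, hze, hze'⟩ := exists_perp_ne_zero (q := q) hn e e'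
    have h1 := hs z
    simp only [s, t, act_mul, tv_act, hze, hze', mul_zero, zero_smul, add_zero] at h1
    have ha : a = 1 := smul_left_injective F hz0 (h1.symm.trans (one_smul F z).symm)
    by_contra hne
    by_cases hdep : ∃ b : F, e = b • e'
    · obtain ⟨b, hb⟩ := hdep
      exact hne (by rw [hb, herm_smul_left, he', mul_zero])
    push Not at hdep
    have he'0 : e' ≠ 0 := fun h0 => hne (by rw [h0, herm_zero_right hF])
    obtain ⟨w, hwe', hwe⟩ := exists_herm_pair hF he'0 hdep 1 0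
    have h2 := hs w
    rw [ha, one_smul] at h2
    simp only [s, t, act_mul, tv_act, herm_add_left, herm_smul_left, hwe, hwe', mul_zero,
      zero_smul, add_zero, zero_add, mul_one] at h2
    rw [left_eq_add, smul_eq_zero] at h2
    exact h2.elim (mul_ne_zero hc0 (mul_ne_zero hc'0 (herm_skew_ne hF hne))) he0
  · intro h0
    show (QuotientGroup.mk (s * t) : PSU n F q) = QuotientGroup.mk (t * s)
    congr 1
    apply su_ext
    intro w
    simp only [s, t, act_mul, tv_act, herm_add_left, herm_smul_left, h0,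
      herm_skew_zero hF h0, mul_zero, add_zero]
    abel

/-- Centres are determined by the centres orthogonal to them. -/
theorem eq_smul_of_perp_iff (hF : Fintype.card F = q ^ 2) {e e' : Fin n → F}
    (he : hermForm n F q e e = 0) (he' : hermForm n F q e' e' = 0) (he0 : e ≠ 0) (he'0 : e' ≠ 0)
    (h : ∀ z, z ≠ 0 → hermForm n F q z z = 0 →
      (hermForm n F q e z = 0 ↔ hermForm n F q e' z = 0)) :
    ∃ a : F, a ≠ 0 ∧ e' = a • e := by
  by_contra hne
  have hne' : ∀ a : F, e' ≠ a • e := fun a ha =>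
    hne ⟨a, fun h0 => he'0 (by rw [ha, h0, zero_smul]), ha⟩
  have hee' : hermForm n F q e' e = 0 := (h e he0 he).1 he
  obtain ⟨y, hye, hye'⟩ := exists_herm_pair hF he0 hne' 0 1
  obtain ⟨a, ha⟩ := exists_iso_add hF he' (z := y) (by rw [hye']; exact one_ne_zero)
  have hz0 : y + a • e' ≠ 0 := fun h0 => by
    have h1 := congrArg (fun z => hermForm n F q z e') h0
    simp only [herm_add_left, herm_smul_left, hye', he', mul_zero, add_zero, herm_zero_left] at h1
    exact one_ne_zero h1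
  have h1 := (h _ hz0 ha).1 (herm_skew_zero hF
    (by rw [herm_add_left, herm_smul_left, hye, hee', mul_zero, add_zero]))
  have h2 := herm_skew_zero hF h1
  rw [herm_add_left, herm_smul_left, hye', he', mul_zero, add_zero] at h2
  exact one_ne_zero h2

/-! ### Sylow centres -/

/-- Membership in a Sylow subgroup as a central element. -/
def CentralIn {p : ℕ} (S : Sylow p (PSU n F q)) (x : PSU n F q) : Prop :=
  x ∈ S ∧ ∀ y ∈ S, Commute x y

/-- The canonical map to `PSU`. -/
abbrev mkP : SU n F q →* PSU n F q := QuotientGroup.mk' _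

theorem commute_of_mk (hF : Fintype.card F = q ^ 2) (hn : 2 ≤ n) (p : ℕ) [Fact p.Prime] [CharP F p]
    {U : Subgroup (SU n F q)} (hU : IsPGroup p U) {u v : SU n F q} (hu : u ∈ U) (hv : v ∈ U)
    (h : Commute (mkP u) (mkP v)) : Commute u v := by
  obtain ⟨k, hk⟩ := hU ⟨_, U.mul_mem hu hv⟩
  obtain ⟨l, hl⟩ := hU ⟨_, U.mul_mem hv hu⟩
  exact eq_of_mk_eq hF hn p (congrArg Subtype.val hk) (congrArg Subtype.val hl) h.eq

theorem mem_of_mk_mem (hF : Fintype.card F = q ^ 2) (hn : 2 ≤ n) (p : ℕ) [Fact p.Prime] [CharP F p]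
    (U : Sylow p (SU n F q)) {u : SU n F q} {k : ℕ} (hu : u ^ p ^ k = 1)
    (h : mkP u ∈ (U : Subgroup (SU n F q)).map mkP) : u ∈ U := by
  obtain ⟨v, hv, hvu⟩ := h
  obtain ⟨l, hl⟩ := U.2 ⟨v, hv⟩
  rw [eq_of_mk_eq hF hn p hu (congrArg Subtype.val hl) hvu.symm]
  exact hv

/-- A central element of a Sylow subgroup fixing `e` is a transvection at `e`. -/
theorem exists_tv_of_central (hF : Fintype.card F = q ^ 2) (p : ℕ) [Fact p.Prime] [CharP F p]
    {e : Fin n → F} (he0 : e ≠ 0) (he : hermForm n F q e e = 0) (U : Sylow p (SU n F q))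
    (hU : ∀ u ∈ U, act u e = e) {u : SU n F q} (hu : u ∈ U) (hc : ∀ v ∈ U, Commute u v) :
    ∃ c, ∃ hc : c + c ^ q = 0, u = tv hF e c he hc := by
  obtain ⟨f, hff, hfe, hef⟩ := exists_hyp hF he0 he
  exact exists_tv_of_commute hF he hff hef hfe (hU u hu)
    fun s hs => hc s (eGroup_le_sylow hF p he0 he U hU hs)

/-- A central element in the image of a Sylow subgroup fixing `e`. -/
theorem isTv_of_centralIn (hF : Fintype.card F = q ^ 2) (hn : 3 ≤ n) (p : ℕ) [Fact p.Prime]
    [CharP F p] {e : Fin n → F} (he0 : e ≠ 0) (he : hermForm n F q e e = 0)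
    (U : Sylow p (SU n F q)) (hU : ∀ u ∈ U, act u e = e) {x : PSU n F q} (hx1 : x ≠ 1)
    (hx : CentralIn (U.mapSurjective (QuotientGroup.mk'_surjective _) : Sylow p (PSU n F q)) x) :
    IsTv hF e x := by
  obtain ⟨⟨u, hu, rfl⟩, hc⟩ := hx
  obtain ⟨c, hc', rfl⟩ := exists_tv_of_central hF p he0 he U hU hu fun v hv =>
    commute_of_mk hF (by omega) p U.2 hu hv (hc _ ⟨v, hv, rfl⟩)
  refine ⟨c, he, hc', fun h0 => hx1 ?_, rfl⟩
  show QuotientGroup.mk _ = (1 : PSU n F q)
  rw [show tv hF e c he hc' = 1 from su_ext fun y => by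
    rw [tv_act, act_one, h0, zero_mul, zero_smul, add_zero], QuotientGroup.mk_one]

theorem exists_isTv_of_centralIn (hF : Fintype.card F = q ^ 2) (hn : 3 ≤ n) (p : ℕ) [Fact p.Prime]
    [CharP F p] (hpq : p ∣ q) {S : Sylow p (PSU n F q)} {x : PSU n F q} (hx1 : x ≠ 1)
    (hx : CentralIn S x) : ∃ e, e ≠ 0 ∧ hermForm n F q e e = 0 ∧ IsTv hF e x := by
  obtain ⟨U, rfl⟩ := Sylow.mapSurjective_surjective (QuotientGroup.mk'_surjective _) p S
  obtain ⟨e, he0, he, hU⟩ := exists_fixed_iso hF (by omega) p hpq U.2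
  exact ⟨e, he0, he, isTv_of_centralIn hF hn p he0 he U hU hx1 hx⟩

/-- A Sylow subgroup containing the Eichler group at `e` fixes `e` and has a transvection at `e`
in its centre. -/
theorem fix_of_eGroup_le (hF : Fintype.card F = q ^ 2) (hn : 3 ≤ n) (p : ℕ) [Fact p.Prime]
    [CharP F p] (hpq : p ∣ q) {e : Fin n → F} (he0 : e ≠ 0) (he : hermForm n F q e e = 0)
    (U : Sylow p (SU n F q)) (hU : eGroup e ≤ (U : Subgroup (SU n F q))) :
    (∀ u ∈ U, act u e = e) ∧ ∃ x, IsTv hF e x ∧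
      CentralIn (U.mapSurjective (QuotientGroup.mk'_surjective _) : Sylow p (PSU n F q)) x := by
  obtain ⟨e', he'0, he', hU'⟩ := exists_fixed_iso hF (by omega) p hpq U.2
  obtain ⟨f, hff, hfe, hef⟩ := exists_hyp hF he0 he
  obtain ⟨a, rfl⟩ := eq_smul_of_fixed hF he hfe fun s hs => hU' s (hU hs)
  have ha : a ≠ 0 := fun h => he'0 (by rw [h, zero_smul])
  have hfix : ∀ u ∈ U, act u e = e := fun u hu =>
    smul_right_injective _ ha (by simpa [act_smul] using hU' u hu)
  refine ⟨hfix, ?_⟩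
  obtain ⟨c, hc0, hc⟩ := exists_skew hF
  have hntU : Nontrivial (U : Subgroup (SU n F q)) := by
    refine ⟨⟨⟨_, hU (tv_mem_eGroup hF he hc)⟩, 1, fun h => hc0 ?_⟩⟩
    have h1 := congrArg (fun g : (U : Subgroup (SU n F q)) => act (g : SU n F q) f) h
    simp only [OneMemClass.coe_one, act_one, tv_act, hfe, mul_one] at h1
    exact (smul_eq_zero.1 (add_eq_left.1 h1)).resolve_right he0
  haveI := U.2.center_nontrivial
  obtain ⟨⟨⟨u, hu⟩, huz⟩, hne⟩ := exists_ne (1 : Subgroup.center (U : Subgroup (SU n F q)))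
  have hcen : ∀ v ∈ U, Commute u v := fun v hv =>
    congrArg Subtype.val (Subgroup.mem_center_iff.1 huz ⟨v, hv⟩).symm
  obtain ⟨d, hd, rfl⟩ := exists_tv_of_central hF p he0 he U hfix hu hcen
  have hd0 : d ≠ 0 := fun h0 => hne (Subtype.ext (Subtype.ext (su_ext fun y => by
    show act (tv hF e d he hd) y = act 1 y
    rw [tv_act, act_one, h0, zero_mul, zero_smul, add_zero])))
  refine ⟨_, isTv_mk hF he hd hd0, ⟨_, hu, rfl⟩, ?_⟩
  rintro _ ⟨v, hv, rfl⟩
  exact (hcen v hv).map mkP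

theorem exists_centralIn (hF : Fintype.card F = q ^ 2) (hn : 3 ≤ n) (p : ℕ) [Fact p.Prime]
    [CharP F p] (hpq : p ∣ q) {e : Fin n → F} (he0 : e ≠ 0) {x : PSU n F q} (hx : IsTv hF e x) :
    ∃ S : Sylow p (PSU n F q), CentralIn S x := by
  obtain ⟨c, he, hc, hc0, rfl⟩ := hx
  obtain ⟨U, hU⟩ := (isPGroup_eGroup hF p he0 he).exists_le_sylow
  obtain ⟨-, x, ⟨d, he', hd, hd0, rfl⟩, hx, hcen⟩ := fix_of_eGroup_le hF hn p hpq he0 he U hU
  obtain ⟨g, hg⟩ := isConj_iff.1 (isConj_tv hF hn he' he he0 he0 hd hc hd0 hc0)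
  set γ := MulAut.conj (mkP g) with hγ
  refine ⟨(U.mapSurjective (QuotientGroup.mk'_surjective _) :
    Sylow p (PSU n F q)).mapSurjective (f := (γ : PSU n F q →* PSU n F q)) γ.surjective,
    ⟨_, hx, ?_⟩, ?_⟩
  · show γ _ = _
    rw [hγ, MulAut.conj_apply, ← hg]
    rfl
  · rintro _ ⟨y, hy, rfl⟩
    have : (QuotientGroup.mk (tv hF e c he hc) : PSU n F q) = γ (mkP (tv hF e d he' hd)) := by
      rw [hγ, MulAut.conj_apply, ← hg]; rfl
    rw [this]
    exact (hcen y hy).map γ

theorem centralIn_map {p : ℕ} [Fact p.Prime] (α : MulAut (PSU n F q)) {S : Sylow p (PSU n F q)}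
    {x : PSU n F q} (h : CentralIn S x) :
    CentralIn (S.mapSurjective (f := (α : PSU n F q →* PSU n F q)) α.surjective) (α x) := by
  refine ⟨⟨x, h.1, rfl⟩, ?_⟩
  rintro _ ⟨y, hy, rfl⟩
  exact (h.2 y hy).map α

/-! ### Automorphisms permute the centres -/

theorem exists_isTv_image (hF : Fintype.card F = q ^ 2) (hn : 3 ≤ n) (α : MulAut (PSU n F q))
    {e : Fin n → F} (he0 : e ≠ 0) {x : PSU n F q} (hx : IsTv hF e x) :
    ∃ e', e' ≠ 0 ∧ hermForm n F q e' e' = 0 ∧ IsTv hF e' (α x) := by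
  obtain ⟨p, hp, hc, hpq⟩ := exists_char hF
  obtain ⟨S, hS⟩ := exists_centralIn hF hn p hpq he0 hx
  exact exists_isTv_of_centralIn hF hn p hpq (by simpa using isTv_ne_one hF hn he0 hx)
    (centralIn_map α hS)

theorem exists_pointMap (hF : Fintype.card F = q ^ 2) (hn : 3 ≤ n) (α : MulAut (PSU n F q))
    {e : Fin n → F} (he0 : e ≠ 0) (he : hermForm n F q e e = 0) :
    ∃ e', e' ≠ 0 ∧ hermForm n F q e' e' = 0 ∧ ∀ x, IsTv hF e x ↔ IsTv hF e' (α x) := by
  obtain ⟨x₀, hx₀⟩ := exists_isTv hF he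
  obtain ⟨e', he'0, he', hαx⟩ := exists_isTv_image hF hn α he0 hx₀
  refine ⟨e', he'0, he', fun x => ⟨fun hx => ?_, fun hx => ?_⟩⟩
  · obtain ⟨e'', he''0, he'', h''⟩ := exists_isTv_image hF hn α he0 hx
    obtain ⟨a, ha, rfl⟩ := eq_smul_of_perp_iff hF he' he'' he'0 he''0 fun z hz0 hz => by
      obtain ⟨y, hy⟩ := exists_isTv hF hz
      obtain ⟨z', hz'0, hz', hy'⟩ := exists_isTv_image hF hn α⁻¹ hz0 hy
      have h1 : ∀ {u w}, IsTv hF u w → u ≠ 0 →
          (Commute w (α⁻¹ y) ↔ Commute (α w) y) := fun {u w} _ _ => by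
        conv_rhs => rw [← show α (α⁻¹ y) = y from α.apply_symm_apply y]
        exact ⟨fun h => h.map α, fun h => by simpa using h.map α.symm⟩
      rw [← commute_isTv_iff hF hn he'0 hαx hy, ← commute_isTv_iff hF hn he''0 h'' hy,
        ← h1 hx₀ he0, ← h1 hx he0, commute_isTv_iff hF hn he0 hx₀ hy',
        commute_isTv_iff hF hn he0 hx hy']
    exact (isTv_smul hF ha _).1 h''
  · obtain ⟨d, hd0, hd, hxd⟩ := exists_isTv_image hF hn α⁻¹ he'0 hx
    rw [show α⁻¹ (α x) = x from α.symm_apply_apply x] at hxd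
    obtain ⟨a, ha, rfl⟩ := eq_smul_of_perp_iff hF he hd he0 hd0 fun z hz0 hz => by
      obtain ⟨y, hy⟩ := exists_isTv hF hz
      obtain ⟨z', hz'0, hz', hy'⟩ := exists_isTv_image hF hn α hz0 hy
      rw [← commute_isTv_iff hF hn he0 hx₀ hy, ← commute_isTv_iff hF hn hd0 hxd hy]
      have h1 : ∀ w, Commute w y ↔ Commute (α w) (α y) := fun w =>
        ⟨fun h => h.map α, fun h => by simpa using h.map α.symm⟩
      rw [h1 x₀, h1 x, commute_isTv_iff hF hn he'0 hαx hy', commute_isTv_iff hF hn he'0 hx hy']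
    exact (isTv_smul hF ha _).1 hxd

end Cfsg.Agent.AutPSU52Transv
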