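import Mathlib
import Cfsg.Agent.Lib.AutPSU52Transv

/-!
The space orthogonal to a hyperbolic pair, and the intersection of the Sylow subgroups of `PSU`
with a given central transvection.
-/

set_option autoImplicit false
set_option linter.unusedSectionVars false

namespace Cfsg.Agent.AutPSU52Core

open Matrix
open Cfsg.Agent.OrthUnitaryHerm Cfsg.Agent.OrthUnitaryTransvection Cfsg.Agent.OrthUnitaryPSU
open Cfsg.Agent.AutPSU52Basic Cfsg.Agent.AutPSU52Transv

variable {F : Type*} [Field F] [Fintype F] {q n : ℕ}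

/-- A hyperbolic pair of isotropic vectors. -/
structure Fr (q : ℕ) (e f : Fin n → F) : Prop where
  ee : hermForm n F q e e = 0
  ff : hermForm n F q f f = 0
  ef : hermForm n F q e f = 1
  fe : hermForm n F q f e = 1

variable {e f : Fin n → F}

theorem Fr.e_ne (h : Fr q e f) : e ≠ 0 := fun h0 => by
  have := h.ef; rw [h0, herm_zero_left] at this; exact zero_ne_one this

theorem Fr.f_ne (h : Fr q e f) : f ≠ 0 := fun h0 => by
  have := h.fe; rw [h0, herm_zero_left] at this; exact zero_ne_one this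

theorem Fr.symm (h : Fr q e f) : Fr q f e := ⟨h.ff, h.ee, h.fe, h.ef⟩

theorem exists_frame (hF : Fintype.card F = q ^ 2) (hn : 3 ≤ n) :
    ∃ e f : Fin n → F, Fr q e f := by
  obtain ⟨e, he0, he⟩ := exists_isotropic hF (n := n) (by omega)
  obtain ⟨f, hff, hfe, hef⟩ := exists_hyp hF he0 he
  exact ⟨e, f, he, hff, hef, hfe⟩

/-- The vectors orthogonal to the pair. -/
def InW (q : ℕ) (e f x : Fin n → F) : Prop := hermForm n F q x e = 0 ∧ hermForm n F q x f = 0

theorem InW.add {x y : Fin n → F} (hx : InW q e f x) (hy : InW q e f y) : InW q e f (x + y) :=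
  ⟨by rw [herm_add_left, hx.1, hy.1, add_zero], by rw [herm_add_left, hx.2, hy.2, add_zero]⟩

theorem InW.sub {x y : Fin n → F} (hx : InW q e f x) (hy : InW q e f y) : InW q e f (x - y) :=
  ⟨by rw [herm_sub_left, hx.1, hy.1, sub_zero], by rw [herm_sub_left, hx.2, hy.2, sub_zero]⟩

theorem InW.smul {x : Fin n → F} (hx : InW q e f x) (a : F) : InW q e f (a • x) :=
  ⟨by rw [herm_smul_left, hx.1, mul_zero], by rw [herm_smul_left, hx.2, mul_zero]⟩

theorem inW_zero : InW q e f (0 : Fin n → F) := ⟨herm_zero_left e, herm_zero_left f⟩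

theorem inW_proj2 (h : Fr q e f) (x : Fin n → F) : InW q e f (proj2 q e f x) :=
  ⟨(proj2_perp h.ee h.ff h.ef h.fe x).1, (proj2_perp h.ee h.ff h.ef h.fe x).2⟩

theorem proj2_of_inW {x : Fin n → F} (hx : InW q e f x) : proj2 q e f x = x := by
  rw [proj2_apply, hx.1, hx.2, zero_smul, zero_smul, sub_zero, sub_zero]

theorem decomp (x : Fin n → F) :
    x = hermForm n F q x f • e + hermForm n F q x e • f + proj2 q e f x := by
  rw [proj2_apply]; abel

theorem herm_proj2 (hF : Fintype.card F = q ^ 2) {x : Fin n → F} (hx : InW q e f x)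
    (z : Fin n → F) : hermForm n F q (proj2 q e f z) x = hermForm n F q z x := by
  rw [proj2_sym hF, proj2_of_inW hx]

/-- An element fixing both vectors of the pair preserves their orthogonal space. -/
theorem inW_act {g : SU n F q} (he : act g e = e) (hf : act g f = f) {x : Fin n → F}
    (hx : InW q e f x) : InW q e f (act g x) :=
  ⟨by conv_lhs => rw [← he]
      rw [herm_act, hx.1],
   by conv_lhs => rw [← hf]
      rw [herm_act, hx.2]⟩

theorem eq_one_of_fix {g : SU n F q} (he : act g e = e) (hf : act g f = f)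
    (hW : ∀ x, InW q e f x → act g x = x) (h : Fr q e f) : g = 1 := by
  apply su_ext
  intro x
  rw [act_one]
  conv_lhs => rw [decomp (q := q) (e := e) (f := f) x]
  rw [act_add, act_add, act_smul, act_smul, he, hf, hW _ (inW_proj2 h x), ← decomp]

theorem exists_inW_herm_eq (hF : Fintype.card F = q ^ 2) (h : Fr q e f) {x : Fin n → F}
    (hx : InW q e f x) (hx0 : x ≠ 0) (a : F) :
    ∃ z, InW q e f z ∧ hermForm n F q z x = a := by
  obtain ⟨z, hz⟩ := exists_herm_eq hF hx0 a
  exact ⟨proj2 q e f z, inW_proj2 h z, by rw [herm_proj2 hF hx, hz]⟩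

theorem exists_inW_iso_partner (hF : Fintype.card F = q ^ 2) (h : Fr q e f) {v : Fin n → F}
    (hv : InW q e f v) (hv0 : v ≠ 0) (hvv : hermForm n F q v v = 0) {a : F} (ha : a ≠ 0) :
    ∃ w, InW q e f w ∧ hermForm n F q w w = 0 ∧ hermForm n F q w v = a := by
  obtain ⟨z, hz, hzv⟩ := exists_inW_herm_eq hF h hv hv0 a
  obtain ⟨b, hb⟩ := exists_iso_add hF hvv (z := z) (hzv ▸ ha)
  exact ⟨z + b • v, hz.add (hv.smul b), hb, by
    rw [herm_add_left, herm_smul_left, hzv, hvv, mul_zero, add_zero]⟩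

/-- Non-zero isotropic vectors orthogonal to the pair exist in degree at least four. -/
theorem exists_inW_iso (hF : Fintype.card F = q ^ 2) (hn : 4 ≤ n) (h : Fr q e f) :
    ∃ v, InW q e f v ∧ v ≠ 0 ∧ hermForm n F q v v = 0 := by
  obtain ⟨k, hke, hkf, hkk⟩ := exists_perp2 hF (by omega) h.ee h.ff h.ef h.fe (one_pow q)
  obtain ⟨k', hk'e, hk'f, hk'k, hk'k'⟩ := exists_perp3 hF hn h.ee h.ff h.ef h.fe hke hkf
    (by rw [hkk]; exact one_ne_zero) (r := -1) (by rw [neg_pow_q hF, one_pow])
  refine ⟨k + k', InW.add ⟨hke, hkf⟩ ⟨hk'e, hk'f⟩, fun h0 => ?_, ?_⟩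
  · have h1 := congrArg (fun z => hermForm n F q z k) h0
    simp only [herm_add_left, hkk, hk'k, add_zero, herm_zero_left] at h1
    exact one_ne_zero h1
  · rw [herm_add_left, herm_add_right hF, herm_add_right hF, hkk, hk'k, hk'k',
      herm_skew_zero hF hk'k]
    ring

/-- Induction on the space orthogonal to the pair from its isotropic vectors. -/
theorem inW_induction (hF : Fintype.card F = q ^ 2) (h : Fr q e f) {v : Fin n → F}
    (hv : InW q e f v) (hv0 : v ≠ 0) (hvv : hermForm n F q v v = 0) {P : (Fin n → F) → Prop}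
    (hiso : ∀ u, InW q e f u → hermForm n F q u u = 0 → P u)
    (hsub : ∀ u w, InW q e f u → InW q e f w → P u → P w → P (u - w))
    {x : Fin n → F} (hx : InW q e f x) : P x := by
  obtain ⟨w, hw, hww, hwv⟩ := exists_inW_iso_partner hF h hv hv0 hvv one_ne_zero
  have key : ∀ y, InW q e f y → hermForm n F q y v ≠ 0 → P y := by
    intro y hy hyv
    obtain ⟨a, ha⟩ := exists_iso_add hF hvv hyv
    have := hsub _ _ (hy.add (hv.smul a)) (hv.smul a) (hiso _ (hy.add (hv.smul a)) ha)
      (hiso _ (hv.smul a) (by rw [herm_smul_left, herm_smul_right, hvv, mul_zero, mul_zero]))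
    rwa [add_sub_cancel_right] at this
  by_cases hxv : hermForm n F q x v = 0
  · have := hsub _ _ (hx.add hw) hw
      (key _ (hx.add hw) (by rw [herm_add_left, hxv, hwv, zero_add]; exact one_ne_zero))
      (hiso _ hw hww)
    rwa [add_sub_cancel_right] at this
  · exact key x hx hxv

/-- Two non-zero isotropic vectors orthogonal to the pair have a common partner there. -/
theorem exists_common (hF : Fintype.card F = q ^ 2) (h : Fr q e f) {u v : Fin n → F}
    (hu : InW q e f u) (hu0 : u ≠ 0) (huu : hermForm n F q u u = 0) (hv : InW q e f v)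
    (hv0 : v ≠ 0) (huv : hermForm n F q u v = 0) :
    ∃ z, InW q e f z ∧ hermForm n F q z z = 0 ∧ hermForm n F q z u ≠ 0 ∧
      hermForm n F q z v ≠ 0 := by
  obtain ⟨z, hz, hzu, hzv⟩ : ∃ z, InW q e f z ∧ hermForm n F q z u ≠ 0 ∧
      hermForm n F q z v ≠ 0 := by
    obtain ⟨z₁, hW₁, h₁⟩ := exists_inW_herm_eq hF h hu hu0 1
    obtain ⟨z₂, hW₂, h₂⟩ := exists_inW_herm_eq hF h hv hv0 1
    by_cases h₁' : hermForm n F q z₁ v = 0
    · by_cases h₂' : hermForm n F q z₂ u = 0
      · exact ⟨z₁ + z₂, hW₁.add hW₂,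
          by rw [herm_add_left, h₁, h₂', add_zero]; exact one_ne_zero,
          by rw [herm_add_left, h₁', h₂, zero_add]; exact one_ne_zero⟩
      · exact ⟨z₂, hW₂, h₂', by rw [h₂]; exact one_ne_zero⟩
    · exact ⟨z₁, hW₁, by rw [h₁]; exact one_ne_zero, h₁'⟩
  obtain ⟨a, ha⟩ := exists_iso_add hF huu hzu
  exact ⟨z + a • u, hz.add (hu.smul a), ha,
    by rw [herm_add_left, herm_smul_left, huu, mul_zero, add_zero]; exact hzu,
    by rw [herm_add_left, herm_smul_left, huv, mul_zero, add_zero]; exact hzv⟩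

/-- Without isotropic vectors the space orthogonal to the pair is a line. -/
theorem eq_smul_of_anisotropic (hF : Fintype.card F = q ^ 2)
    (hno : ∀ v, InW q e f v → hermForm n F q v v = 0 → v = 0) {w x : Fin n → F}
    (hw : InW q e f w) (hw0 : w ≠ 0) (hx : InW q e f x) : ∃ a : F, x = a • w := by
  have hww : hermForm n F q w w ≠ 0 := fun h0 => hw0 (hno w hw h0)
  refine ⟨hermForm n F q x w / hermForm n F q w w, ?_⟩
  set x' := x - (hermForm n F q x w / hermForm n F q w w) • w with hx'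
  have hx'W : InW q e f x' := hx.sub (hw.smul _)
  by_contra hne
  have hx'0 : x' ≠ 0 := fun h0 => hne (sub_eq_zero.1 (hx' ▸ h0))
  have hx'x' : hermForm n F q x' x' ≠ 0 := fun h0 => hx'0 (hno _ hx'W h0)
  have hx'w : hermForm n F q x' w = 0 := by
    rw [hx', herm_sub_left, herm_smul_left, div_mul_cancel₀ _ hww, sub_self]
  obtain ⟨a, ha⟩ := exists_norm_eq hF (a := -hermForm n F q w w / hermForm n F q x' x')
    (by rw [div_pow, neg_pow_q hF, herm_self_pow hF, herm_self_pow hF])
  have hiso : hermForm n F q (a • x' + w) (a • x' + w) = 0 := by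
    simp only [herm_add_left, herm_add_right hF, herm_smul_left, herm_smul_right, hx'w,
      herm_skew_zero hF hx'w]
    rw [pow_succ'] at ha
    field_simp at ha
    linear_combination ha
  have h1 := congrArg (fun z => hermForm n F q z w) (hno _ ((hx'W.smul a).add hw) hiso)
  simp only [herm_add_left, herm_smul_left, hx'w, mul_zero, zero_add, herm_zero_left] at h1
  exact hww h1

/-- A `p`-group fixing the pair and normalised by the transvections of their orthogonal space is
trivial. -/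
theorem eq_one_of_mem (hF : Fintype.card F = q ^ 2) (hn : 3 ≤ n) (p : ℕ) [Fact p.Prime]
    [CharP F p] (h : Fr q e f) {K : Subgroup (SU n F q)} (hK : IsPGroup p K)
    (hfix : ∀ k ∈ K, act k e = e ∧ act k f = f)
    (hnorm : ∀ v c (hv : hermForm n F q v v = 0) (hc : c + c ^ q = 0), InW q e f v →
      ∀ k ∈ K, (tv hF v c hv hc)⁻¹ * k * tv hF v c hv hc ∈ K)
    {k : SU n F q} (hk : k ∈ K) : k = 1 := by
  letI : MulAction K {x : Fin n → F // InW q e f x} :=
    { smul := fun g x => ⟨act (g : SU n F q) x.1, inW_act (hfix g g.2).1 (hfix g g.2).2 x.2⟩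
      one_smul := fun x => Subtype.ext (act_one x.1)
      mul_smul := fun g g' x => Subtype.ext (act_mul (g : SU n F q) g' x.1) }
  obtain ⟨w₁, hw₁e, hw₁f, hw₁w₁⟩ := exists_perp2 hF hn h.ee h.ff h.ef h.fe (one_pow q)
  have hdvd : p ∣ Nat.card {x : Fin n → F // InW q e f x} := by
    let W : AddSubgroup (Fin n → F) :=
      { carrier := {x | InW q e f x}
        add_mem' := fun hx hy => hx.add hy
        zero_mem' := inW_zero
        neg_mem' := fun {x} hx => by simpa using inW_zero.sub hx }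
    have hw : (⟨w₁, hw₁e, hw₁f⟩ : W) ≠ 0 := fun h0 => by
      have h1 : w₁ = 0 := congrArg Subtype.val h0
      rw [h1, herm_zero_left] at hw₁w₁
      exact zero_ne_one hw₁w₁
    have hord : addOrderOf (⟨w₁, hw₁e, hw₁f⟩ : W) = p := addOrderOf_eq_prime
      (Subtype.ext (by
        rw [AddSubgroup.coe_nsmul, AddSubgroup.coe_zero]
        funext i
        simp [CharP.cast_eq_zero])) hw
    exact hord ▸ addOrderOf_dvd_natCard _
  obtain ⟨⟨w, hw⟩, hwfix, hne⟩ := hK.exists_fixed_point_of_prime_dvd_card_of_fixed_point _ hdvd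
    (a := ⟨0, inW_zero⟩)
    (fun g => Subtype.ext (show act (g : SU n F q) (0 : Fin n → F) = 0 from mulVec_zero _))
  have hw0 : w ≠ 0 := fun h0 => hne (Subtype.ext h0.symm)
  have hKw : ∀ k ∈ K, act k w = w := fun g hg => congrArg Subtype.val (hwfix ⟨g, hg⟩)
  refine eq_one_of_fix (hfix k hk).1 (hfix k hk).2 (fun x hx => ?_) h
  by_cases hex : ∃ v, InW q e f v ∧ v ≠ 0 ∧ hermForm n F q v v = 0
  · obtain ⟨c, hc0, hc⟩ := exists_skew hF
    have key : ∀ u v, InW q e f v → hermForm n F q v v = 0 → hermForm n F q u v ≠ 0 →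
        (∀ g ∈ K, act g u = u) → ∀ g ∈ K, act g v = v := by
      intro u v hv hvv huv hu g hg
      have h1 := congrArg (act (tv hF v c hvv hc)) (hu _ (hnorm v c hvv hc hv g hg))
      rw [act_mul, act_mul, act_act_inv, tv_act, act_add, hu g hg, act_smul,
        add_right_inj] at h1
      exact smul_right_injective _ (mul_ne_zero hc0 huv) h1
    obtain ⟨v, hv, hv0, hvv⟩ := hex
    obtain ⟨v₁, hv₁, hv₁v₁, hwv₁⟩ : ∃ v₁, InW q e f v₁ ∧ hermForm n F q v₁ v₁ = 0 ∧
        hermForm n F q v₁ w ≠ 0 := by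
      by_contra hne'
      push Not at hne'
      obtain ⟨z, hz, hzw⟩ := exists_inW_herm_eq hF h hw hw0 1
      have := inW_induction hF h hv hv0 hvv (P := fun u => hermForm n F q u w = 0)
        (fun u hu huu => hne' u hu huu)
        (fun u u' _ _ hu hu' => by rw [herm_sub_left, hu, hu', sub_zero]) hz
      rw [this] at hzw
      exact zero_ne_one hzw
    have hK1 := key w v₁ hv₁ hv₁v₁ (herm_skew_ne hF hwv₁) hKw
    have hv₁0 : v₁ ≠ 0 := fun h0 => hwv₁ (by rw [h0, herm_zero_left])
    refine inW_induction hF h hv hv0 hvv (P := fun u => act k u = u) (fun u hu huu => ?_)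
      (fun u u' _ _ hu hu' => by rw [act_sub, hu, hu']) hx
    rcases eq_or_ne u 0 with rfl | hu0
    · exact mulVec_zero _
    by_cases hvu : hermForm n F q v₁ u = 0
    · obtain ⟨z, hz, hzz, hzv, hzu⟩ := exists_common hF h hv₁ hv₁0 hv₁v₁ hu hu0 hvu
      exact key z u hu huu hzu (key v₁ z hz hzz (herm_skew_ne hF hzv) hK1) k hk
    · exact key v₁ u hu huu hvu hK1 k hk
  · push Not at hex
    obtain ⟨a, rfl⟩ := eq_smul_of_anisotropic hF
      (fun v hv hvv => by_contra fun hv0 => hex v hv hv0 hvv) hw hw0 hx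
    rw [act_smul, hKw k hk]

/-- `y` lies in every Sylow subgroup with a transvection at `e` in its centre. -/
def InQ (hF : Fintype.card F = q ^ 2) (p : ℕ) (e : Fin n → F) (y : PSU n F q) : Prop :=
  ∀ S : Sylow p (PSU n F q), (∃ x, IsTv hF e x ∧ CentralIn S x) → y ∈ S

theorem inQ_iff (hF : Fintype.card F = q ^ 2) (hn : 3 ≤ n) (p : ℕ) [Fact p.Prime] [CharP F p]
    (hpq : p ∣ q) (h : Fr q e f) (y : PSU n F q) :
    InQ hF p e y ↔ y ∈ (eGroup e).map mkP := by
  constructor
  · intro hy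
    obtain ⟨U₀, hU₀⟩ := (isPGroup_eGroup hF p h.e_ne h.ee).exists_le_sylow
    set K : Subgroup (SU n F q) := ⨅ (U : Sylow p (SU n F q))
      (_ : eGroup e ≤ (U : Subgroup (SU n F q))), (U : Subgroup (SU n F q)) with hK
    have memK : ∀ {g}, g ∈ K ↔ ∀ U : Sylow p (SU n F q),
        eGroup e ≤ (U : Subgroup (SU n F q)) → g ∈ (U : Subgroup (SU n F q)) := fun {g} => by
      simp [hK, Subgroup.mem_iInf]
    obtain ⟨u, hu, rfl⟩ := hy _ (fix_of_eGroup_le hF hn p hpq h.e_ne h.ee U₀ hU₀).2
    obtain ⟨k, hk⟩ := U₀.2 ⟨u, hu⟩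
    have huK : u ∈ K := memK.2 fun U hU =>
      mem_of_mk_mem hF (by omega) p U (congrArg Subtype.val hk)
        (hy _ (fix_of_eGroup_le hF hn p hpq h.e_ne h.ee U hU).2)
    have hKU₀ : K ≤ (U₀ : Subgroup (SU n F q)) := fun g hg => memK.1 hg U₀ hU₀
    have hfe' : ∀ g ∈ K, act g e = e := fun g hg =>
      (fix_of_eGroup_le hF hn p hpq h.e_ne h.ee U₀ hU₀).1 g (hKU₀ hg)
    -- move `u` back to fix `f`
    obtain ⟨w, μ, hw, hμ, hm⟩ := exists_eich_move hF h.ee h.ff
      (v := act u f) (by rw [herm_act, h.ff]) h.fe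
      (by conv_lhs => rw [← hfe' u huK]
          rw [herm_act, h.fe])
    set s := eich hF e w μ h.ee hw hμ with hs
    have hsm : s ∈ eGroup e := eich_mem_eGroup hF h.ee hw hμ
    refine ⟨s, hsm, ?_⟩
    congr 1
    have hsK : s ∈ K := memK.2 fun U hU => hU hsm
    let Kf : Subgroup (SU n F q) :=
      { carrier := {g | g ∈ K ∧ act g f = f}
        one_mem' := ⟨K.one_mem, act_one f⟩
        mul_mem' := fun {a b} ha hb => ⟨K.mul_mem ha.1 hb.1, by rw [act_mul, hb.2, ha.2]⟩
        inv_mem' := fun {a} ha => ⟨K.inv_mem ha.1, by conv_lhs => rw [← ha.2]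
                                                      rw [act_inv_act]⟩ }
    refine inv_mul_eq_one.1 (eq_one_of_mem hF hn p h (K := Kf)
      (U₀.2.to_le (fun g hg => hKU₀ hg.1))
      (fun g hg => ⟨hfe' g hg.1, hg.2⟩) ?_
      ⟨K.mul_mem (K.inv_mem hsK) huK, by rw [act_mul, ← hm, act_inv_act]⟩)
    intro v c hv hc hvW g hg
    set t := tv hF v c hv hc
    have hte : act t e = e := by
      rw [tv_act, herm_skew_zero hF hvW.1, mul_zero, zero_smul, add_zero]
    have htf : act t f = f := by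
      rw [tv_act, herm_skew_zero hF hvW.2, mul_zero, zero_smul, add_zero]
    refine ⟨memK.2 fun U hU => ?_, ?_⟩
    · have h1 := memK.1 hg.1 (t • U) (fun s hs => by
        have h2 := conj_mem_eGroup t⁻¹ hs
        rw [show act t⁻¹ e = e by conv_lhs => rw [← hte]
                                  rw [act_inv_act]] at h2
        rw [Sylow.coe_subgroup_smul, Subgroup.mem_pointwise_smul_iff_inv_smul_mem]
        simpa [MulAut.conj_apply] using hU h2)
      change g ∈ (↑(t • U) : Subgroup (SU n F q)) at h1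
      rw [Sylow.coe_subgroup_smul, Subgroup.mem_pointwise_smul_iff_inv_smul_mem] at h1
      simpa [MulAut.conj_apply, mul_assoc] using h1
    · rw [act_mul, act_mul, htf, hg.2]
      conv_lhs => rw [← htf]
      rw [act_inv_act]
  · rintro ⟨s, hs, rfl⟩ S ⟨x, hx, hxS⟩
    obtain ⟨U, rfl⟩ := Sylow.mapSurjective_surjective (QuotientGroup.mk'_surjective _) p S
    obtain ⟨e', he'0, he', hU⟩ := exists_fixed_iso hF (by omega) p hpq U.2
    obtain ⟨a, ha, rfl⟩ := eq_smul_of_isTv hF hn he'0
      (isTv_of_centralIn hF hn p he'0 he' U hU (isTv_ne_one hF hn h.e_ne hx) hxS) hx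
    exact ⟨s, eGroup_le_sylow hF p he'0 he' U hU (by rw [eGroup_smul ha]; exact hs), rfl⟩

theorem inQ_map (hF : Fintype.card F = q ^ 2) (p : ℕ) [Fact p.Prime] (α : MulAut (PSU n F q))
    {e e' : Fin n → F} (hpt : ∀ x, IsTv hF e x ↔ IsTv hF e' (α x)) {y : PSU n F q}
    (hy : InQ hF p e y) : InQ hF p e' (α y) := by
  rintro S ⟨x, hx, hxS⟩
  have h1 := centralIn_map α⁻¹ hxS
  obtain ⟨z, hz, hzy⟩ := hy _ ⟨α⁻¹ x,
    (hpt _).2 (by rwa [show α (α⁻¹ x) = x from α.apply_symm_apply x]), h1⟩
  have : z = α y := by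
    rw [← hzy]
    exact (α.apply_symm_apply z).symm
  exact this ▸ hz

end Cfsg.Agent.AutPSU52Core
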