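import Mathlib
import Cfsg.Agent.Lib.AutPSU52Core

/-!
An automorphism of `PSU` fixing the centres of two non-orthogonal transvections acts on the space
orthogonal to them.
-/

set_option autoImplicit false
set_option linter.unusedSectionVars false

namespace Cfsg.Agent.AutPSU52Frame

open Matrix
open Cfsg.Agent.OrthUnitaryHerm Cfsg.Agent.OrthUnitaryTransvection Cfsg.Agent.OrthUnitaryPSU
open Cfsg.Agent.AutPSU52Basic Cfsg.Agent.AutPSU52Transv Cfsg.Agent.AutPSU52Core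

variable {F : Type*} [Field F] [Fintype F] {q n : ℕ} {e f : Fin n → F}

theorem isTv_conj (hF : Fintype.card F = q ^ 2) (g : SU n F q) {v : Fin n → F} {x : PSU n F q}
    (hx : IsTv hF v x) :
    IsTv hF (act g v) (mkP g * x * (mkP g)⁻¹) := by
  obtain ⟨c, hv, hc, hc0, rfl⟩ := hx
  refine ⟨c, by rw [herm_act, hv], hc, hc0, ?_⟩
  show mkP g * mkP (tv hF v c hv hc) * (mkP g)⁻¹ = mkP _
  rw [← map_mul, ← map_inv, ← map_mul, tv_conj]

/-- The automorphism fixes the centre `v`. -/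
def FixPt (hF : Fintype.card F = q ^ 2) (α : MulAut (PSU n F q)) (v : Fin n → F) : Prop :=
  ∀ x, IsTv hF v x ↔ IsTv hF v (α x)

theorem FixPt.inv {hF : Fintype.card F = q ^ 2} {α : MulAut (PSU n F q)} {v : Fin n → F}
    (h : FixPt hF α v) : FixPt hF α⁻¹ v := fun x => by
  conv_lhs => rw [← show α (α⁻¹ x) = x from α.apply_symm_apply x]
  exact (h _).symm

theorem fixPt_of_mem (hF : Fintype.card F = q ^ 2) (hn : 3 ≤ n) (α : MulAut (PSU n F q))
    {v : Fin n → F} (hv0 : v ≠ 0) (hv : hermForm n F q v v = 0) {x : PSU n F q}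
    (hx : IsTv hF v x) (hαx : IsTv hF v (α x)) : FixPt hF α v := by
  obtain ⟨v', hv'0, -, hv'⟩ := exists_pointMap hF hn α hv0 hv
  obtain ⟨a, ha, rfl⟩ := eq_smul_of_isTv hF hn hv'0 ((hv' x).1 hx) hαx
  intro y
  rw [hv' y, isTv_smul hF ha]

/-- The automorphism fixes the centres of the pair. -/
structure Fix (hF : Fintype.card F = q ^ 2) (α : MulAut (PSU n F q)) (e f : Fin n → F) : Prop where
  pe : FixPt hF α e
  pf : FixPt hF α f

theorem Fix.inv {hF : Fintype.card F = q ^ 2} {α : MulAut (PSU n F q)}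
    (h : Fix hF α e f) : Fix hF α⁻¹ e f := ⟨h.pe.inv, h.pf.inv⟩

/-- The class of an Eichler transformation with parameter orthogonal to the pair. -/
def eP (hF : Fintype.card F = q ^ 2) (h : Fr q e f) {w : Fin n → F} (hw : InW q e f w) {μ : F}
    (hμ : μ + μ ^ q + hermForm n F q w w = 0) : PSU n F q :=
  mkP (eich hF e w μ h.ee hw.1 hμ)

theorem eP_congr (hF : Fintype.card F = q ^ 2) (h : Fr q e f) {w w' : Fin n → F}
    (hw : InW q e f w) (hw' : InW q e f w') {μ μ' : F}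
    (hμ : μ + μ ^ q + hermForm n F q w w = 0) (hμ' : μ' + μ' ^ q + hermForm n F q w' w' = 0)
    (h1 : w = w') (h2 : μ = μ') : eP hF h hw hμ = eP hF h hw' hμ' := by
  subst h1 h2; rfl

theorem eP_inj (hF : Fintype.card F = q ^ 2) (hn : 3 ≤ n) (h : Fr q e f) {w w' : Fin n → F}
    {hw : InW q e f w} {hw' : InW q e f w'} {μ μ' : F}
    {hμ : μ + μ ^ q + hermForm n F q w w = 0} {hμ' : μ' + μ' ^ q + hermForm n F q w' w' = 0}
    (he : eP hF h hw hμ = eP hF h hw' hμ') : w = w' ∧ μ = μ' := by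
  obtain ⟨p, hp, hc, -⟩ := exists_char hF
  have h1 := eq_of_mk_eq hF (by omega) p
    (eGroup_pow hF p h.e_ne h.ee (eich_mem_eGroup hF h.ee hw.1 hμ))
    (eGroup_pow hF p h.e_ne h.ee (eich_mem_eGroup hF h.ee hw'.1 hμ')) he
  have h2 := congrArg (fun g => act g f) h1
  simp only [eich_act, h.fe, herm_skew_zero hF hw.2, herm_skew_zero hF hw'.2, one_smul, mul_one,
    sub_zero] at h2
  rw [add_assoc, add_assoc, add_right_inj] at h2
  have h3 := congrArg (fun y => hermForm n F q y f) h2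
  simp only [herm_add_left, herm_smul_left, hw.2, hw'.2, h.ef, mul_one, zero_add] at h3
  exact ⟨by rw [h3] at h2; exact add_right_cancel h2, h3⟩

/-- Every element of the Eichler group at `e` has this form. -/
theorem exists_eP (hF : Fintype.card F = q ^ 2) (h : Fr q e f) {y : PSU n F q}
    (hy : y ∈ (eGroup e).map mkP) :
    ∃ w, ∃ hw : InW q e f w, ∃ μ, ∃ hμ : μ + μ ^ q + hermForm n F q w w = 0,
      y = eP hF h hw hμ := by
  obtain ⟨s, hs, rfl⟩ := hy
  obtain ⟨w, μ, hw, hμ, rfl⟩ := exists_eich hF h.ee h.ff h.ef h.fe hs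
  set a := hermForm n F q w f with ha
  have hpw : proj2 q e f w = w - a • e := by
    rw [proj2_apply, hw, zero_smul, sub_zero]
  refine ⟨w - a • e, hpw ▸ inW_proj2 h w, μ + a - a ^ q, ?_, ?_⟩
  · simp only [herm_sub_left, herm_sub_right hF, herm_smul_left, herm_smul_right, hw,
      herm_skew_zero hF hw, h.ee, sub_pow_q hF, add_pow_q hF, pow_q_q hF]
    linear_combination hμ
  · unfold eP
    congr 1
    apply su_ext
    intro x
    rw [eich_act, eich_act, herm_sub_right hF, herm_smul_right]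
    module

theorem eP_mem (hF : Fintype.card F = q ^ 2) (h : Fr q e f) {w : Fin n → F} (hw : InW q e f w)
    {μ : F} (hμ : μ + μ ^ q + hermForm n F q w w = 0) :
    eP hF h hw hμ ∈ (eGroup e).map mkP :=
  ⟨_, eich_mem_eGroup hF h.ee hw.1 hμ, rfl⟩

theorem mu_mul (hF : Fintype.card F = q ^ 2) {w w' : Fin n → F} {μ μ' : F}
    (hμ : μ + μ ^ q + hermForm n F q w w = 0) (hμ' : μ' + μ' ^ q + hermForm n F q w' w' = 0) :
    (μ + μ' - hermForm n F q w' w) + (μ + μ' - hermForm n F q w' w) ^ q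
      + hermForm n F q (w + w') (w + w') = 0 := by
  simp only [herm_add_left, herm_add_right hF, sub_pow_q hF, add_pow_q hF, ← herm_conj hF]
  linear_combination hμ + hμ'

theorem eP_mul (hF : Fintype.card F = q ^ 2) (h : Fr q e f) {w w' : Fin n → F}
    (hw : InW q e f w) (hw' : InW q e f w') {μ μ' : F}
    (hμ : μ + μ ^ q + hermForm n F q w w = 0) (hμ' : μ' + μ' ^ q + hermForm n F q w' w' = 0) :
    eP hF h hw hμ * eP hF h hw' hμ' = eP hF h (hw.add hw') (mu_mul hF hμ hμ') := by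
  unfold eP
  rw [← map_mul, eich_mul]

theorem commute_eP_iff (hF : Fintype.card F = q ^ 2) (hn : 3 ≤ n) (h : Fr q e f)
    {w w' : Fin n → F} (hw : InW q e f w) (hw' : InW q e f w') {μ μ' : F}
    (hμ : μ + μ ^ q + hermForm n F q w w = 0) (hμ' : μ' + μ' ^ q + hermForm n F q w' w' = 0) :
    Commute (eP hF h hw hμ) (eP hF h hw' hμ')
      ↔ hermForm n F q w w' = hermForm n F q w' w := by
  unfold Commute SemiconjBy
  rw [eP_mul, eP_mul]
  constructor
  · intro he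
    linear_combination (eP_inj hF hn h he).2
  · intro he
    exact eP_congr hF h _ _ _ _ (add_comm _ _) (by rw [he]; ring)

theorem isTv_eP_zero (hF : Fintype.card F = q ^ 2) (h : Fr q e f) {d : F}
    (hd : d + d ^ q + hermForm n F q (0 : Fin n → F) 0 = 0) (hd0 : d ≠ 0) :
    IsTv hF e (eP hF h inW_zero hd) := by
  refine ⟨d, h.ee, by rw [herm_zero_left, add_zero] at hd; exact hd, hd0, ?_⟩
  show mkP _ = mkP _
  rw [eich_eq_tv]

theorem eq_eP_of_isTv (hF : Fintype.card F = q ^ 2) (h : Fr q e f) {x : PSU n F q}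
    (hx : IsTv hF e x) :
    ∃ d, ∃ hd : d + d ^ q + hermForm n F q (0 : Fin n → F) 0 = 0,
      d ≠ 0 ∧ x = eP hF h inW_zero hd := by
  obtain ⟨c, he, hc, hc0, rfl⟩ := hx
  refine ⟨c, by rw [herm_zero_left, add_zero, hc], hc0, ?_⟩
  show mkP _ = mkP _
  rw [eich_eq_tv]

variable {α : MulAut (PSU n F q)}

theorem exists_img (hF : Fintype.card F = q ^ 2) (hn : 3 ≤ n) (h : Fr q e f)
    (hα : Fix hF α e f) {w : Fin n → F} (hw : InW q e f w) {μ : F}
    (hμ : μ + μ ^ q + hermForm n F q w w = 0) :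
    ∃ w', ∃ hw' : InW q e f w', ∃ μ', ∃ hμ' : μ' + μ' ^ q + hermForm n F q w' w' = 0,
      α (eP hF h hw hμ) = eP hF h hw' hμ' := by
  obtain ⟨p, hp, hc, hpq⟩ := exists_char hF
  exact exists_eP hF h ((inQ_iff hF hn p hpq h _).1
    (inQ_map hF p α hα.pe ((inQ_iff hF hn p hpq h _).2 (eP_mem hF h hw hμ))))

theorem img_unique (hF : Fintype.card F = q ^ 2) (hn : 3 ≤ n) (h : Fr q e f)
    (hα : Fix hF α e f) {w a b : Fin n → F} {hw : InW q e f w} {ha : InW q e f a}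
    {hb : InW q e f b} {μ μ' ν ν' : F} {hμ : μ + μ ^ q + hermForm n F q w w = 0}
    {hμ' : μ' + μ' ^ q + hermForm n F q w w = 0} {hν : ν + ν ^ q + hermForm n F q a a = 0}
    {hν' : ν' + ν' ^ q + hermForm n F q b b = 0} (h1 : α (eP hF h hw hμ) = eP hF h ha hν)
    (h2 : α (eP hF h hw hμ') = eP hF h hb hν') : a = b := by
  rcases eq_or_ne μ μ' with rfl | hne
  · exact (eP_inj hF hn h (h1.symm.trans h2)).1
  have hd : (μ' - μ) + (μ' - μ) ^ q + hermForm n F q (0 : Fin n → F) 0 = 0 := by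
    rw [herm_zero_left, sub_pow_q hF]; linear_combination hμ' - hμ
  obtain ⟨d, hd', -, he⟩ := eq_eP_of_isTv hF h
    ((hα.pe _).1 (isTv_eP_zero hF h hd (sub_ne_zero.2 hne.symm)))
  have h3 : eP hF h hw hμ' = eP hF h inW_zero hd * eP hF h hw hμ := by
    rw [eP_mul]
    exact eP_congr hF h _ _ _ _ (zero_add w).symm (by rw [herm_zero_right hF]; ring)
  rw [h3, map_mul, h1, he, eP_mul] at h2
  simpa using (eP_inj hF hn h h2).1

theorem exists_f0 (hF : Fintype.card F = q ^ 2) (hn : 3 ≤ n) (h : Fr q e f)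
    (hα : Fix hF α e f) (x : Fin n → F) :
    ∃ w', ∀ (μ : F) (hμ : μ + μ ^ q + hermForm n F q (proj2 q e f x) (proj2 q e f x) = 0),
      ∃ hw' : InW q e f w', ∃ μ', ∃ hμ' : μ' + μ' ^ q + hermForm n F q w' w' = 0,
        α (eP hF h (inW_proj2 h x) hμ) = eP hF h hw' hμ' := by
  obtain ⟨μ₀, hμ₀⟩ := exists_mu hF (proj2 q e f x)
  obtain ⟨w', hw', ν, hν, h1⟩ := exists_img hF hn h hα (inW_proj2 h x) hμ₀
  refine ⟨w', fun μ hμ => ?_⟩
  obtain ⟨w'', hw'', ν', hν', h2⟩ := exists_img hF hn h hα (inW_proj2 h x) hμ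
  obtain rfl := img_unique hF hn h hα h1 h2
  exact ⟨hw'', ν', hν', h2⟩

/-- The map induced on the space orthogonal to the pair. -/
noncomputable def f0 (hF : Fintype.card F = q ^ 2) (hn : 3 ≤ n) (h : Fr q e f)
    (hα : Fix hF α e f) (x : Fin n → F) : Fin n → F :=
  (exists_f0 hF hn h hα x).choose

theorem inW_f0 (hF : Fintype.card F = q ^ 2) (hn : 3 ≤ n) (h : Fr q e f) (hα : Fix hF α e f)
    (x : Fin n → F) : InW q e f (f0 hF hn h hα x) := by
  obtain ⟨μ, hμ⟩ := exists_mu hF (proj2 q e f x)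
  exact ((exists_f0 hF hn h hα x).choose_spec μ hμ).1

theorem f0_spec (hF : Fintype.card F = q ^ 2) (hn : 3 ≤ n) (h : Fr q e f) (hα : Fix hF α e f)
    {w : Fin n → F} (hw : InW q e f w) {μ : F} (hμ : μ + μ ^ q + hermForm n F q w w = 0) :
    ∃ μ', ∃ hμ' : μ' + μ' ^ q
        + hermForm n F q (f0 hF hn h hα w) (f0 hF hn h hα w) = 0,
      α (eP hF h hw hμ) = eP hF h (inW_f0 hF hn h hα w) hμ' := by
  obtain ⟨hw', μ', hμ', he⟩ := (exists_f0 hF hn h hα w).choose_spec μ (by rwa [proj2_of_inW hw])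
  exact ⟨μ', hμ', (congrArg α (eP_congr hF h hw (inW_proj2 h w) hμ (by rwa [proj2_of_inW hw])
    (proj2_of_inW hw).symm rfl)).trans he⟩

theorem f0_eq (hF : Fintype.card F = q ^ 2) (hn : 3 ≤ n) (h : Fr q e f) (hα : Fix hF α e f)
    {w w' : Fin n → F} {hw : InW q e f w} {hw' : InW q e f w'} {μ μ' : F}
    {hμ : μ + μ ^ q + hermForm n F q w w = 0} {hμ' : μ' + μ' ^ q + hermForm n F q w' w' = 0}
    (he : α (eP hF h hw hμ) = eP hF h hw' hμ') : f0 hF hn h hα w = w' := by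
  obtain ⟨ν, hν, h1⟩ := f0_spec hF hn h hα hw hμ
  exact (eP_inj hF hn h (h1.symm.trans he)).1

theorem f0_add (hF : Fintype.card F = q ^ 2) (hn : 3 ≤ n) (h : Fr q e f) (hα : Fix hF α e f)
    {w w' : Fin n → F} (hw : InW q e f w) (hw' : InW q e f w') :
    f0 hF hn h hα (w + w') = f0 hF hn h hα w + f0 hF hn h hα w' := by
  obtain ⟨μ, hμ⟩ := exists_mu hF w
  obtain ⟨μ', hμ'⟩ := exists_mu hF w'
  obtain ⟨ν, hν, h1⟩ := f0_spec hF hn h hα hw hμ
  obtain ⟨ν', hν', h2⟩ := f0_spec hF hn h hα hw' hμ'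
  exact f0_eq hF hn h hα (by rw [← eP_mul hF h hw hw' hμ hμ', map_mul, h1, h2, eP_mul])

theorem f0_zero (hF : Fintype.card F = q ^ 2) (hn : 3 ≤ n) (h : Fr q e f) (hα : Fix hF α e f) :
    f0 hF hn h hα 0 = 0 := by
  have h1 := f0_add hF hn h hα (inW_zero (q := q) (e := e) (f := f)) inW_zero
  rw [add_zero, left_eq_add] at h1
  exact h1

theorem f0_sub (hF : Fintype.card F = q ^ 2) (hn : 3 ≤ n) (h : Fr q e f) (hα : Fix hF α e f)
    {w w' : Fin n → F} (hw : InW q e f w) (hw' : InW q e f w') :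
    f0 hF hn h hα (w - w') = f0 hF hn h hα w - f0 hF hn h hα w' := by
  rw [eq_sub_iff_add_eq, ← f0_add hF hn h hα (hw.sub hw') hw', sub_add_cancel]

theorem f0_inv (hF : Fintype.card F = q ^ 2) (hn : 3 ≤ n) (h : Fr q e f) (hα : Fix hF α e f)
    {w : Fin n → F} (hw : InW q e f w) :
    f0 hF hn h hα.inv (f0 hF hn h hα w) = w := by
  obtain ⟨μ, hμ⟩ := exists_mu hF w
  obtain ⟨ν, hν, h1⟩ := f0_spec hF hn h hα hw hμ
  exact f0_eq hF hn h hα.inv (hw' := hw) (hμ' := hμ)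
    (by rw [← h1]; exact α.symm_apply_apply _)

theorem f0_inj (hF : Fintype.card F = q ^ 2) (hn : 3 ≤ n) (h : Fr q e f) (hα : Fix hF α e f)
    {w w' : Fin n → F} (hw : InW q e f w) (hw' : InW q e f w')
    (he : f0 hF hn h hα w = f0 hF hn h hα w') : w = w' := by
  rw [← f0_inv hF hn h hα hw, he, f0_inv hF hn h hα hw']

theorem f0_ne_zero (hF : Fintype.card F = q ^ 2) (hn : 3 ≤ n) (h : Fr q e f) (hα : Fix hF α e f)
    {w : Fin n → F} (hw : InW q e f w) (hw0 : w ≠ 0) : f0 hF hn h hα w ≠ 0 := fun h0 =>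
  hw0 (f0_inj hF hn h hα hw inW_zero (by rw [h0, f0_zero]))

theorem f0_surj (hF : Fintype.card F = q ^ 2) (hn : 3 ≤ n) (h : Fr q e f) (hα : Fix hF α e f)
    {z : Fin n → F} (hz : InW q e f z) :
    ∃ w, InW q e f w ∧ f0 hF hn h hα w = z := by
  refine ⟨f0 hF hn h hα.inv z, inW_f0 _ _ _ _ _, ?_⟩
  obtain ⟨μ, hμ⟩ := exists_mu hF z
  obtain ⟨ν, hν, h1⟩ := f0_spec hF hn h hα.inv hz hμ
  refine f0_eq hF hn h hα (hw := inW_f0 _ _ _ _ _) (hμ := hν) (hw' := hz) (hμ' := hμ) ?_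
  rw [← h1]
  exact α.apply_symm_apply _

theorem f0_B_iff (hF : Fintype.card F = q ^ 2) (hn : 3 ≤ n) (h : Fr q e f) (hα : Fix hF α e f)
    {w w' : Fin n → F} (hw : InW q e f w) (hw' : InW q e f w') :
    hermForm n F q w w' = hermForm n F q w' w ↔
      hermForm n F q (f0 hF hn h hα w) (f0 hF hn h hα w')
        = hermForm n F q (f0 hF hn h hα w') (f0 hF hn h hα w) := by
  obtain ⟨μ, hμ⟩ := exists_mu hF w
  obtain ⟨μ', hμ'⟩ := exists_mu hF w'
  obtain ⟨ν, hν, h1⟩ := f0_spec hF hn h hα hw hμ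
  obtain ⟨ν', hν', h2⟩ := f0_spec hF hn h hα hw' hμ'
  rw [← commute_eP_iff hF hn h hw hw' hμ hμ',
    ← commute_eP_iff hF hn h (inW_f0 hF hn h hα w) (inW_f0 hF hn h hα w') hν hν', ← h1, ← h2]
  exact ⟨fun hc => hc.map α, fun hc => by simpa using hc.map α.symm⟩

/-! ### The stabiliser of the pair -/

/-- The stabiliser of the two lines. -/
def InL (g : SU n F q) (e f : Fin n → F) : Prop :=
  ∃ κ κ' : F, act g e = κ • e ∧ act g f = κ' • f

theorem exists_smul_of_stab (hF : Fintype.card F = q ^ 2) (hn : 3 ≤ n) {v : Fin n → F}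
    (hv0 : v ≠ 0) (hv : hermForm n F q v v = 0) (hαv : FixPt hF α v) {g g' : SU n F q}
    (hg' : α (mkP g) = mkP g') {κ : F} (hg : act g v = κ • v) :
    ∃ κ' : F, act g' v = κ' • v := by
  obtain ⟨x, hx⟩ := exists_isTv hF hv
  have hκ : κ ≠ 0 := fun h0 => act_smul_right_inj g hv0 (by rw [hg, h0, zero_smul])
  have h1 := isTv_conj hF g hx
  rw [hg, isTv_smul hF hκ] at h1
  have h2 := (hαv _).1 h1
  rw [map_mul, map_mul, map_inv, hg'] at h2
  obtain ⟨a, -, ha⟩ := eq_smul_of_isTv hF hn (act_smul_right_inj g' hv0)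
    (isTv_conj hF g' ((hαv x).1 hx)) h2
  exact ⟨a, ha⟩

theorem exists_L_img (hF : Fintype.card F = q ^ 2) (hn : 3 ≤ n) (h : Fr q e f)
    (hα : Fix hF α e f) {g : SU n F q} (hg : InL g e f) :
    ∃ g', InL g' e f ∧ α (mkP g) = mkP g' := by
  obtain ⟨κ, κ', h1, h2⟩ := hg
  obtain ⟨g', hg'⟩ := QuotientGroup.mk'_surjective (Subgroup.center (SU n F q)) (α (mkP g))
  obtain ⟨a, ha⟩ := exists_smul_of_stab hF hn h.e_ne h.ee hα.pe hg'.symm h1
  obtain ⟨b, hb⟩ := exists_smul_of_stab hF hn h.f_ne h.ff hα.pf hg'.symm h2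
  exact ⟨g', ⟨a, b, ha, hb⟩, hg'.symm⟩

theorem inW_act_L {g : SU n F q} {κ κ' : F} (h : Fr q e f) (h1 : act g e = κ • e)
    (h2 : act g f = κ' • f) {w : Fin n → F} (hw : InW q e f w) :
    InW q e f (act g w) := by
  have hκ : κ ≠ 0 := fun h0 => act_smul_right_inj g h.e_ne (by rw [h1, h0, zero_smul])
  have hκ' : κ' ≠ 0 := fun h0 => act_smul_right_inj g h.f_ne (by rw [h2, h0, zero_smul])
  constructor
  · have h3 := herm_act g w e
    rw [h1, herm_smul_right, hw.1] at h3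
    exact (mul_eq_zero.1 h3).resolve_left (pow_ne_zero q hκ)
  · have h3 := herm_act g w f
    rw [h2, herm_smul_right, hw.2] at h3
    exact (mul_eq_zero.1 h3).resolve_left (pow_ne_zero q hκ')

theorem mu_conj (hF : Fintype.card F = q ^ 2) (g : SU n F q) (κ : F) {w : Fin n → F} {μ : F}
    (hμ : μ + μ ^ q + hermForm n F q w w = 0) :
    κ ^ (q + 1) * μ + (κ ^ (q + 1) * μ) ^ q
      + hermForm n F q (κ ^ q • act g w) (κ ^ q • act g w) = 0 := by
  rw [herm_smul_left, herm_smul_right, herm_act, mul_pow, ← pow_mul, mul_comm (q + 1) q, pow_mul,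
    pow_succ (κ ^ q) q, pow_succ κ q, pow_q_q hF]
  linear_combination (κ ^ q * κ) * hμ

theorem eich_smul (hF : Fintype.card F = q ^ 2) {e w : Fin n → F} (a : F) {μ : F}
    (he : hermForm n F q (a • e) (a • e) = 0) (hw : hermForm n F q w (a • e) = 0)
    (hμ : μ + μ ^ q + hermForm n F q w w = 0)
    (he' : hermForm n F q e e = 0) (hw' : hermForm n F q (a ^ q • w) e = 0)
    (hμ' : a ^ (q + 1) * μ + (a ^ (q + 1) * μ) ^ q + hermForm n F q (a ^ q • w) (a ^ q • w) = 0) :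
    eich hF (a • e) w μ he hw hμ = eich hF e (a ^ q • w) (a ^ (q + 1) * μ) he' hw' hμ' := by
  apply su_ext
  intro x
  rw [eich_act, eich_act, herm_smul_right, herm_smul_right, pow_q_q hF]
  module

theorem conj_eP (hF : Fintype.card F = q ^ 2) (h : Fr q e f) {g : SU n F q} {κ κ' : F}
    (h1 : act g e = κ • e) (h2 : act g f = κ' • f) {w : Fin n → F} (hw : InW q e f w) {μ : F}
    (hμ : μ + μ ^ q + hermForm n F q w w = 0) :
    mkP g * eP hF h hw hμ * (mkP g)⁻¹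
      = eP hF h ((inW_act_L h h1 h2 hw).smul (κ ^ q)) (mu_conj hF g κ hμ) := by
  have hw' : hermForm n F q (act g w) (κ • e) = 0 := by rw [← h1, herm_act, hw.1]
  have he' : hermForm n F q (κ • e) (κ • e) = 0 := by rw [← h1, herm_act, h.ee]
  unfold eP
  rw [← map_mul, ← map_inv, ← map_mul, eich_conj]
  congr 1
  rw [← eich_smul hF κ he' hw' (by rw [herm_act, hμ]) h.ee]
  apply su_ext
  intro x
  rw [eich_act, eich_act, h1]

theorem f0_equi (hF : Fintype.card F = q ^ 2) (hn : 3 ≤ n) (h : Fr q e f) (hα : Fix hF α e f)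
    {g g' : SU n F q} (hg : α (mkP g) = mkP g') {κ κ' a a' : F} (h1 : act g e = κ • e)
    (h2 : act g f = κ' • f) (h1' : act g' e = a • e) (h2' : act g' f = a' • f)
    {w : Fin n → F} (hw : InW q e f w) :
    f0 hF hn h hα (κ ^ q • act g w) = a ^ q • act g' (f0 hF hn h hα w) := by
  obtain ⟨μ, hμ⟩ := exists_mu hF w
  obtain ⟨ν, hν, h3⟩ := f0_spec hF hn h hα hw hμ
  exact f0_eq hF hn h hα (by
    rw [← conj_eP hF h h1 h2 hw hμ, map_mul, map_mul, map_inv, hg, h3,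
      conj_eP hF h h1' h2' _ hν])

/-- The centres orthogonal to the pair are preserved, and the map is compatible with their
transvections. -/
theorem exists_point (hF : Fintype.card F = q ^ 2) (hn : 3 ≤ n) (h : Fr q e f)
    (hα : Fix hF α e f) {v : Fin n → F} (hv : InW q e f v) (hv0 : v ≠ 0)
    (hvv : hermForm n F q v v = 0) :
    ∃ v', InW q e f v' ∧ v' ≠ 0 ∧ hermForm n F q v' v' = 0 ∧
      (∀ x, IsTv hF v x ↔ IsTv hF v' (α x)) ∧
      ∀ c, c + c ^ q = 0 → c ≠ 0 → ∃ c', c' + c' ^ q = 0 ∧ c' ≠ 0 ∧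
        (∃ (hc : c + c ^ q = 0) (hc' : c' + c' ^ q = 0)
          (hv' : hermForm n F q v' v' = 0),
          α (mkP (tv hF v c hvv hc)) = mkP (tv hF v' c' hv' hc')) ∧
        ∀ w, InW q e f w →
          f0 hF hn h hα (w + (c * hermForm n F q w v) • v)
            = f0 hF hn h hα w + (c' * hermForm n F q (f0 hF hn h hα w) v') • v' := by
  obtain ⟨v', hv'0, hv'v', hiff⟩ := exists_pointMap hF hn α hv0 hvv
  have perp : ∀ u, u ≠ 0 → hermForm n F q u u = 0 → FixPt hF α u →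
      hermForm n F q v u = 0 → hermForm n F q v' u = 0 := by
    intro u hu0 huu hαu hvu
    obtain ⟨x, hx⟩ := exists_isTv hF hvv
    obtain ⟨y, hy⟩ := exists_isTv hF huu
    exact (commute_isTv_iff hF hn hv'0 ((hiff x).1 hx) ((hαu y).1 hy)).1
      (((commute_isTv_iff hF hn hv0 hx hy).2 hvu).map α)
  have hv' : InW q e f v' :=
    ⟨perp e h.e_ne h.ee hα.pe hv.1, perp f h.f_ne h.ff hα.pf hv.2⟩
  refine ⟨v', hv', hv'0, hv'v', hiff, fun c hc hc0 => ?_⟩
  obtain ⟨c', hv'', hc', hc'0, he⟩ := (hiff _).1 (isTv_mk hF hvv hc hc0)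
  refine ⟨c', hc', hc'0, ⟨hc, hc', hv'', he⟩, fun w hw => ?_⟩
  have fixd : ∀ {u : Fin n → F} {d : F} (hu : InW q e f u) (huu : hermForm n F q u u = 0)
      (hd : d + d ^ q = 0), act (tv hF u d huu hd) e = (1 : F) • e ∧
        act (tv hF u d huu hd) f = (1 : F) • f := fun hu huu hd =>
    ⟨by rw [tv_act, herm_skew_zero hF hu.1, mul_zero, zero_smul, add_zero, one_smul],
     by rw [tv_act, herm_skew_zero hF hu.2, mul_zero, zero_smul, add_zero, one_smul]⟩
  have h3 := f0_equi hF hn h hα he (fixd hv hvv hc).1 (fixd hv hvv hc).2 (fixd hv' hv'' hc').1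
    (fixd hv' hv'' hc').2 hw
  rwa [one_pow, one_smul, one_smul, tv_act, tv_act] at h3

/-- Isotropic lines orthogonal to the pair go to lines. -/
theorem exists_coef (hF : Fintype.card F = q ^ 2) (hn : 3 ≤ n) (h : Fr q e f)
    (hα : Fix hF α e f) {v : Fin n → F} (hv : InW q e f v) (hv0 : v ≠ 0)
    (hvv : hermForm n F q v v = 0) (a : F) :
    ∃ b : F, f0 hF hn h hα (a • v) = b • f0 hF hn h hα v := by
  obtain ⟨v', hv', hv'0, hv'v', -, hT⟩ := exists_point hF hn h hα hv hv0 hvv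
  obtain ⟨c, hc0, hc⟩ := exists_skew hF
  obtain ⟨c', hc', hc'0, -, hf⟩ := hT c hc hc0
  have key : ∀ t : F, ∃ b : F, f0 hF hn h hα (t • v) = b • v' := by
    intro t
    obtain ⟨w, hw, hwv⟩ := exists_inW_herm_eq hF h hv hv0 (t / c)
    refine ⟨c' * hermForm n F q (f0 hF hn h hα w) v', ?_⟩
    have h1 := hf w hw
    rw [hwv, mul_div_cancel₀ _ hc0, f0_add hF hn h hα hw (hv.smul t), add_right_inj] at h1
    exact h1
  obtain ⟨b, hb⟩ := key 1
  obtain ⟨b', hb'⟩ := key a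
  rw [one_smul] at hb
  have hb0 : b ≠ 0 := fun h0 => f0_ne_zero hF hn h hα hv hv0 (by rw [hb, h0, zero_smul])
  exact ⟨b' / b, by rw [hb', hb, smul_smul, div_mul_cancel₀ _ hb0]⟩

end Cfsg.Agent.AutPSU52Frame
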