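import Mathlib
import Cfsg.Agent.Lib.AutPSU52Frame

/-!
The map induced on the space orthogonal to a fixed pair is a semilinear similitude.
-/

set_option autoImplicit false
set_option linter.unusedSectionVars false

namespace Cfsg.Agent.AutPSU52Semilin

open Matrix
open Cfsg.Agent.OrthUnitaryHerm Cfsg.Agent.OrthUnitaryTransvection Cfsg.Agent.OrthUnitaryPSU
open Cfsg.Agent.AutPSU52Basic Cfsg.Agent.AutPSU52Transv Cfsg.Agent.AutPSU52Core
open Cfsg.Agent.AutPSU52Frame

variable {F : Type*} [Field F] [Fintype F] {q n : ℕ} {e f : Fin n → F}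

/-! ### Field lemmas -/

/-- An additive map multiplicative on the fixed field and on one element outside it is
multiplicative. -/
theorem mul_of (φ : F → F) (hadd : ∀ a b, φ (a + b) = φ a + φ b)
    (hF : Fintype.card F = q ^ 2) (h0 : ∀ r : F, r ^ q = r → ∀ t, φ (r * t) = φ r * φ t)
    {ν : F} (hν : ν ^ q ≠ ν) (hνm : ∀ t, φ (ν * t) = φ ν * φ t) (a b : F) :
    φ (a * b) = φ a * φ b := by
  have hd : ν - ν ^ q ≠ 0 := sub_ne_zero.2 hν.symm
  obtain ⟨v, hv, hvq⟩ : ∃ v, v * (ν - ν ^ q) = a - a ^ q ∧ v ^ q = v := by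
    refine ⟨(a - a ^ q) / (ν - ν ^ q), div_mul_cancel₀ _ hd, ?_⟩
    rw [div_pow, sub_pow_q hF, sub_pow_q hF, pow_q_q hF, pow_q_q hF, ← neg_sub a (a ^ q),
      ← neg_sub ν (ν ^ q), neg_div_neg_eq]
  obtain ⟨u, hu⟩ : ∃ u, u = a - v * ν := ⟨_, rfl⟩
  have huq : u ^ q = u := by
    rw [hu, sub_pow_q hF, mul_pow, hvq]
    linear_combination hv
  have ha : a = u + v * ν := by rw [hu]; ring
  rw [ha, add_mul, hadd, hadd, h0 u huq, mul_assoc, h0 v hvq, hνm, h0 v hvq ν]
  ring

theorem exists_hilbert (hF : Fintype.card F = q ^ 2) {η : F} (hη : η ^ (q + 1) = 1) :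
    ∃ a : F, a ≠ 0 ∧ a ^ q = η * a := by
  rcases eq_or_ne η (-1) with rfl | hne
  · obtain ⟨c, hc0, hc⟩ := exists_skew hF
    exact ⟨c, hc0, by linear_combination hc⟩
  · have hη' : η ^ q * η = 1 := by rw [← pow_succ]; exact hη
    refine ⟨1 + η ^ q, fun h0 => hne ?_, ?_⟩
    · have h1 : η ^ q = -1 := by linear_combination h0
      rw [h1] at hη'
      linear_combination -hη'
    · rw [add_pow_q hF, one_pow, pow_q_q hF]
      linear_combination -hη'

theorem exists_not_fixed (hF : Fintype.card F = q ^ 2) : ∃ a : F, a ^ q ≠ a := by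
  obtain ⟨l, hl, hl2⟩ := exists_normOne_sq_ne_one hF
  refine ⟨l, fun h => hl2 (Units.ext ?_)⟩
  have h1 : (l : F) ^ q * (l : F) = 1 := by
    rw [← pow_succ, ← Units.val_pow_eq_pow_val, hl, Units.val_one]
  rw [h] at h1
  rw [Units.val_pow_eq_pow_val, sq, h1, Units.val_one]

theorem fixed_of_add (hF : Fintype.card F = q ^ 2) (a : F) : (a + a ^ q) ^ q = a + a ^ q := by
  rw [add_pow_q hF, pow_q_q hF, add_comm]

theorem exists_normOne_cube (hF : Fintype.card F = q ^ 2) (hq : q ≠ 2) :
    ∃ ν : F, ν ^ (q + 1) = 1 ∧ ν ^ 3 ≠ 1 := by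
  classical
  by_contra hne
  push Not at hne
  have h1 : Nat.card {x : Fˣ // x ^ (q + 1) = 1} ≤ 3 := by
    have h2 : Nat.card {x : Fˣ // x ^ (q + 1) = 1} ≤ Nat.card {x : Fˣ // x ^ 3 = 1} := by
      refine Nat.card_le_card_of_injective
        (fun x => (⟨x.1, Units.ext ?_⟩ : {x : Fˣ // x ^ 3 = 1}))
        fun x y h => Subtype.ext (congrArg Subtype.val h :)
      rw [Units.val_pow_eq_pow_val, Units.val_one]
      exact hne _ (by rw [← Units.val_pow_eq_pow_val, x.2, Units.val_one])
    refine h2.trans ?_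
    rw [Nat.card_eq_fintype_card, Fintype.card_subtype]
    refine le_trans (le_of_eq ?_) (Polynomial.card_nthRoots 3 (1 : F))
    rw [← Multiset.toFinset_card_of_nodup (m := Polynomial.nthRoots 3 (1 : F)) ?_]
    · refine Finset.card_bij' (fun x _ => (x : F)) (fun y hy => Units.mk0 y (by
          rw [Multiset.mem_toFinset, Polynomial.mem_nthRoots (by norm_num)] at hy
          exact fun h0 => by simp [h0] at hy)) ?_ ?_ ?_ ?_
      · intro x hx
        simp only [Finset.mem_filter, Finset.mem_univ, true_and] at hx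
        rw [Multiset.mem_toFinset, Polynomial.mem_nthRoots (by norm_num),
          ← Units.val_pow_eq_pow_val, hx, Units.val_one]
      · intro y hy
        rw [Multiset.mem_toFinset, Polynomial.mem_nthRoots (by norm_num)] at hy
        simp only [Finset.mem_filter, Finset.mem_univ, true_and]
        exact Units.ext (by rw [Units.val_pow_eq_pow_val, Units.val_mk0, hy, Units.val_one])
      · intro x _; exact Units.ext rfl
      · intro y _; rfl
    · by_cases h3 : (3 : F) = 0
      · exfalso
        obtain ⟨l, hl, hl2⟩ := exists_normOne_sq_ne_one hF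
        have h4 := hne (l : F) (by rw [← Units.val_pow_eq_pow_val, hl, Units.val_one])
        have h5 : ((l : F) - 1) ^ 3 = 0 := by
          linear_combination h4 + ((l : F) - (l : F) ^ 2) * h3
        have h6 : (l : F) = 1 := sub_eq_zero.1 ((pow_eq_zero_iff (by norm_num)).1 h5)
        exact hl2 (Units.ext (by rw [Units.val_pow_eq_pow_val, h6, one_pow, Units.val_one]))
      · exact Polynomial.nodup_roots
          (Polynomial.separable_X_pow_sub_C (1 : F) (n := 3) (by exact_mod_cast h3) one_ne_zero)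
  rw [card_normOne hF] at h1
  have := two_le_q hF
  omega

/-! ### Diagonal elements on hyperbolic pairs -/

/-- The matrix with eigenvalues `a`, `b` on a hyperbolic pair and fixing its orthogonal space. -/
def pairMat (q : ℕ) (u v : Fin n → F) (a b : F) : Matrix (Fin n) (Fin n) F :=
  1 + Matrix.of (fun i (j : Fin 2) => ![(a - 1) * u i, (b - 1) * v i] j) *
    Matrix.of (fun (j : Fin 2) i => ![v i ^ q, u i ^ q] j)

theorem pairMat_mulVec (u v : Fin n → F) (a b : F) (x : Fin n → F) :
    pairMat q u v a b *ᵥ x =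
      x + ((a - 1) * hermForm n F q x v) • u + ((b - 1) * hermForm n F q x u) • v := by
  funext i
  simp only [pairMat, Matrix.add_mulVec, Matrix.one_mulVec, ← Matrix.mulVec_mulVec, Pi.add_apply]
  simp only [Matrix.mulVec, dotProduct, Matrix.of_apply, Fin.sum_univ_two, Matrix.cons_val_zero,
    Matrix.cons_val_one, Pi.smul_apply, smul_eq_mul, hermForm]
  have h1 : ∀ y : Fin n → F, ∑ j, y j ^ q * x j = ∑ j, x j * y j ^ q := fun y =>
    Finset.sum_congr rfl fun j _ => mul_comm _ _
  simp only [h1]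
  ring

theorem pairMat_det {u v : Fin n → F} (h : Fr q u v) (a b : F) :
    (pairMat q u v a b).det = a * b := by
  have h1 : ∀ (y z : Fin n → F) (k : F), ∑ j, z j ^ q * (k * y j) = k * hermForm n F q y z :=
    fun y z k => by
      rw [hermForm, Finset.mul_sum]
      exact Finset.sum_congr rfl fun j _ => by ring
  rw [pairMat, Matrix.det_one_add_mul_comm, Matrix.det_fin_two]
  simp only [Matrix.add_apply, Matrix.one_apply, Matrix.mul_apply, Matrix.of_apply,
    Matrix.cons_val_zero, Matrix.cons_val_one, h1, h.ee, h.ff, h.ef, h.fe]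
  simp

theorem pairMat_isU (hF : Fintype.card F = q ^ 2) {u v : Fin n → F} (h : Fr q u v) {a b : F}
    (hab : a * b ^ q = 1) : IsU q (pairMat q u v a b) := by
  have hba : b * a ^ q = 1 := by
    have := congrArg (· ^ q) hab
    simp only [mul_pow, pow_q_q hF, one_pow] at this
    linear_combination this
  intro x y
  rw [pairMat_mulVec, pairMat_mulVec]
  simp only [herm_add_left, herm_add_right hF, herm_smul_left, herm_smul_right, h.ee, h.ff, h.ef,
    h.fe, mul_zero, add_zero, mul_one, mul_pow, sub_pow_q hF, one_pow, ← herm_conj hF]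
  linear_combination (hermForm n F q x v * hermForm n F q u y) * hab
    + (hermForm n F q x u * hermForm n F q v y) * hba

theorem isU_smul {M : Matrix (Fin n) (Fin n) F} (hM : IsU q M) {ν : F}
    (hν : ν ^ (q + 1) = 1) : IsU q (ν • M) := by
  intro x y
  rw [smul_mulVec, smul_mulVec, herm_smul_left, herm_smul_right, hM x y, ← mul_assoc, ← pow_succ',
    hν, one_mul]

/-- In degree three: an element acting on the orthogonal line by a given scalar. -/
theorem exists_scalar_L (hF : Fintype.card F = q ^ 2) (h : Fr q e f) (hn3 : n = 3) {a ν : F}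
    (ha : a ≠ 0) (hν : ν ^ (q + 1) = 1) (haν : a ^ q = ν ^ 3 * a) :
    ∃ (g : SU n F q) (κ κ' : F), act g e = κ • e ∧ act g f = κ' • f ∧
      ∀ w, InW q e f w → κ ^ q • act g w = a ^ q • w := by
  have haq : a ^ q ≠ 0 := pow_ne_zero q ha
  have hab : a * ((a ^ q)⁻¹) ^ q = 1 := by
    rw [inv_pow, pow_q_q hF, mul_inv_cancel₀ ha]
  refine ⟨mkSU (ν • pairMat q e f a (a ^ q)⁻¹) ?_ (isU_smul (pairMat_isU hF h hab) hν),
    ν * a, ν * (a ^ q)⁻¹, ?_, ?_, fun w hw => ?_⟩
  · rw [det_smul, pairMat_det h, Fintype.card_fin, hn3, ← mul_assoc, ← haν, mul_inv_cancel₀ haq]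
  · show (ν • pairMat q e f a (a ^ q)⁻¹) *ᵥ e = _
    rw [smul_mulVec, pairMat_mulVec, h.ef, h.ee]
    module
  · show (ν • pairMat q e f a (a ^ q)⁻¹) *ᵥ f = _
    rw [smul_mulVec, pairMat_mulVec, h.fe, h.ff]
    module
  · show (ν * a) ^ q • ((ν • pairMat q e f a (a ^ q)⁻¹) *ᵥ w) = _
    rw [smul_mulVec, pairMat_mulVec, hw.1, hw.2, mul_zero, mul_zero, zero_smul, zero_smul,
      add_zero, add_zero, smul_smul, mul_pow]
    congr 1
    rw [pow_succ] at hν
    linear_combination a ^ q * hν

/-- An element acting on an orthogonal hyperbolic pair by a given scalar. -/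
theorem exists_plane_L (hF : Fintype.card F = q ^ 2) (h : Fr q e f) {v v₁ : Fin n → F}
    (hv : InW q e f v) (hv₁ : InW q e f v₁) (h' : Fr q v v₁) {l : F}
    (hl : l ^ (q + 1) = 1) :
    ∃ (g : SU n F q), act g e = l⁻¹ • e ∧ act g f = l⁻¹ • f ∧ act g v = l • v := by
  have hl0 : l ≠ 0 := fun h0 => by simp [h0] at hl
  have h1 : l * l ^ q = 1 := by rw [← pow_succ']; exact hl
  have h2 : l⁻¹ * l⁻¹ ^ q = 1 := by rw [inv_pow, ← mul_inv, h1, inv_one]
  refine ⟨mkSU (pairMat q e f l⁻¹ l⁻¹ * pairMat q v v₁ l l) ?_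
    ((pairMat_isU hF h h2).mul (pairMat_isU hF h' h1)), ?_, ?_, ?_⟩
  · rw [det_mul, pairMat_det h, pairMat_det h']
    field_simp
  · show (pairMat q e f l⁻¹ l⁻¹ * pairMat q v v₁ l l) *ᵥ e = _
    simp only [← mulVec_mulVec, pairMat_mulVec, herm_skew_zero hF hv.1,
      herm_skew_zero hF hv₁.1, mul_zero, zero_smul, add_zero, h.ef, h.ee]
    module
  · show (pairMat q e f l⁻¹ l⁻¹ * pairMat q v v₁ l l) *ᵥ f = _
    simp only [← mulVec_mulVec, pairMat_mulVec, herm_skew_zero hF hv.2,
      herm_skew_zero hF hv₁.2, mul_zero, zero_smul, add_zero, h.fe, h.ff]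
    module
  · show (pairMat q e f l⁻¹ l⁻¹ * pairMat q v v₁ l l) *ᵥ v = _
    simp only [← mulVec_mulVec, pairMat_mulVec, h'.ee, h'.ef, herm_add_left, herm_smul_left,
      hv.1, hv.2, mul_zero, zero_smul, add_zero]
    module

/-! ### The induced field automorphism -/

variable {α : MulAut (PSU n F q)}

/-- `f0` is linear over the fixed field structure given by `φ` on the line of `v`. -/
theorem plane_mul (hF : Fintype.card F = q ^ 2) (hn : 3 ≤ n) (h : Fr q e f) (hα : Fix hF α e f)
    {v : Fin n → F} (hv : InW q e f v) (hv0 : v ≠ 0) (hvv : hermForm n F q v v = 0)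
    {c : F} (hc0 : c ≠ 0) (hc : c + c ^ q = 0) {w : Fin n → F} (hw : InW q e f w)
    (hww : hermForm n F q w w = 0) (hwv : hermForm n F q w v = -c) (φ φ' : F → F)
    (hφ : ∀ a, f0 hF hn h hα (a • v) = φ a • f0 hF hn h hα v)
    (hφ' : ∀ a, f0 hF hn h hα (a • w) = φ' a • f0 hF hn h hα w) :
    (∀ a b, φ (a * b) = φ a * φ b) ∧ ∀ a, φ' a = φ a := by
  set d₁ := f0 hF hn h hα v with hd₁
  set d₂ := f0 hF hn h hα w with hd₂
  have hvw : hermForm n F q v w = c := by
    rw [herm_conj hF, hwv, neg_pow_q hF]; linear_combination -hc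
  have hw0 : w ≠ 0 := fun h0 => hc0 (by rw [← hvw, h0, herm_zero_right hF])
  have hd₁0 : d₁ ≠ 0 := f0_ne_zero hF hn h hα hv hv0
  -- the two images are independent
  have hind : ∀ s t : F, s • d₁ + t • d₂ = 0 → s = 0 ∧ t = 0 := by
    have hno : ∀ k : F, d₂ ≠ k • d₁ := by
      intro k hk
      obtain ⟨x, hx⟩ := exists_trace hF (a := (1 : F)) (one_pow q)
      have h1 := (f0_B_iff hF hn h hα (hv.smul x) hw).2 (by
        rw [hφ x, ← hd₂, hk]
        obtain ⟨v', -, -, hv'v', -, hT⟩ := exists_point hF hn h hα hv hv0 hvv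
        obtain ⟨c', -, -, -, hT'⟩ := hT c hc hc0
        obtain ⟨z, hz, hzv⟩ := exists_inW_herm_eq hF h hv hv0 (1 / c)
        have h2 := hT' z hz
        rw [hzv, mul_div_cancel₀ _ hc0, one_smul, f0_add hF hn h hα hz hv, add_right_inj,
          ← hd₁] at h2
        have h3 : hermForm n F q d₁ d₁ = 0 := by
          rw [h2, herm_smul_left, herm_smul_right, hv'v']; ring
        rw [herm_smul_left, herm_smul_left, herm_smul_right, herm_smul_right, h3]
        ring)
      rw [herm_smul_left, herm_smul_right, hvw, hwv] at h1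
      exact hc0 (by linear_combination h1 - c * hx)
    intro s t hst
    rcases eq_or_ne t 0 with rfl | ht
    · rw [zero_smul, add_zero, smul_eq_zero] at hst
      exact ⟨hst.resolve_right hd₁0, rfl⟩
    · exfalso
      refine hno (-(s / t)) ?_
      have h1 : t • d₂ = -(s • d₁) := eq_neg_of_add_eq_zero_right hst
      rw [← inv_smul_smul₀ ht d₂, h1, smul_neg, smul_smul, neg_smul, div_eq_inv_mul]
  have hadd : ∀ a b, φ (a + b) = φ a + φ b := fun a b => smul_left_injective F hd₁0 (by
    simp only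
    rw [← hφ, add_smul, add_smul, f0_add hF hn h hα (hv.smul a) (hv.smul b), hφ, hφ])
  have h11 : φ 1 = 1 := smul_left_injective F hd₁0 (by simp only; rw [← hφ, one_smul, one_smul])
  have h11' : φ' 1 = 1 := smul_left_injective F (f0_ne_zero hF hn h hα hw hw0)
    (by simp only; rw [← hφ', one_smul, one_smul])
  -- isotropic lines in the plane
  have hline : ∀ r : F, r ^ q = r → hermForm n F q (v + r • w) (v + r • w) = 0 ∧
      ∀ t, φ' (t * r) = φ t * φ' r := by
    intro r hr
    have hiso : hermForm n F q (v + r • w) (v + r • w) = 0 := by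
      simp only [herm_add_left, herm_add_right hF, herm_smul_left, herm_smul_right, hvv, hww,
        hvw, hwv, hr]
      ring
    have hne : v + r • w ≠ 0 := fun h0 => by
      have h1 := congrArg (fun y => hermForm n F q y w) h0
      simp only [herm_add_left, herm_smul_left, hvw, hww, mul_zero, add_zero,
        herm_zero_left] at h1
      exact hc0 h1
    refine ⟨hiso, fun t => ?_⟩
    obtain ⟨b, hb⟩ := exists_coef hF hn h hα (hv.add (hw.smul r)) hne hiso t
    rw [smul_add, smul_smul, f0_add hF hn h hα (hv.smul t) (hw.smul _), hφ, hφ',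
      f0_add hF hn h hα hv (hw.smul r), hφ', ← hd₁, smul_add, smul_smul] at hb
    obtain ⟨e1, e2⟩ := hind (φ t - b) (φ' (t * r) - b * φ' r)
      (by linear_combination (norm := module) hb)
    linear_combination e2 - φ' r * e1
  have heq : ∀ a, φ' a = φ a := fun a => by
    have := (hline 1 (one_pow q)).2 a
    rwa [mul_one, h11', mul_one] at this
  refine ⟨?_, heq⟩
  have hF0 : ∀ r : F, r ^ q = r → ∀ t, φ (r * t) = φ r * φ t := fun r hr t => by
    have := (hline r hr).2 t
    rw [heq, heq, mul_comm t r] at this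
    rw [this, mul_comm]
  by_cases h2 : (2 : F) = 0
  · obtain ⟨l, hl, hl2⟩ := exists_normOne_sq_ne_one hF
    have hlF : (l : F) ^ (q + 1) = 1 := by
      rw [← Units.val_pow_eq_pow_val, hl, Units.val_one]
    have hv₁ : InW q e f (-c⁻¹ • w) := hw.smul _
    have hfr : Fr q v (-c⁻¹ • w) := by
      have hnc : (-c⁻¹) ^ q = c⁻¹ := by
        rw [neg_pow_q hF, inv_pow, show c ^ q = -c by linear_combination hc, inv_neg, neg_neg]
      refine ⟨hvv, by rw [herm_smul_left, herm_smul_right, hww]; ring, ?_, ?_⟩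
      · rw [herm_smul_right, hnc, hvw, inv_mul_cancel₀ hc0]
      · rw [herm_smul_left, hwv, neg_mul_neg, inv_mul_cancel₀ hc0]
    obtain ⟨g, g1, g2, g3⟩ := exists_plane_L hF h hv hv₁ hfr hlF
    obtain ⟨g', ⟨a, a', g1', g2'⟩, hg'⟩ := exists_L_img hF hn h hα ⟨_, _, g1, g2⟩
    obtain ⟨v', hv', hv'0, hv'v', hiff, hT⟩ := exists_point hF hn h hα hv hv0 hvv
    obtain ⟨b, hb⟩ : ∃ b : F, act g' v' = b • v' := by
      obtain ⟨x, hx⟩ := exists_isTv hF hvv
      have hl0 : (l : F) ≠ 0 := l.ne_zero
      have h4 := isTv_conj hF g hx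
      rw [g3, isTv_smul hF hl0] at h4
      have h5 := (hiff _).1 h4
      rw [map_mul, map_mul, map_inv, hg'] at h5
      obtain ⟨b, -, hb⟩ := eq_smul_of_isTv hF hn (act_smul_right_inj g' hv'0)
        (isTv_conj hF g' ((hiff x).1 hx)) h5
      exact ⟨b, hb⟩
    obtain ⟨k, hk⟩ : ∃ k : F, d₁ = k • v' := by
      obtain ⟨c', -, -, -, hT'⟩ := hT c hc hc0
      obtain ⟨z, hz, hzv⟩ := exists_inW_herm_eq hF h hv hv0 (1 / c)
      have h3 := hT' z hz
      rw [hzv, mul_div_cancel₀ _ hc0, one_smul, f0_add hF hn h hα hz hv, add_right_inj] at h3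
      exact ⟨_, h3⟩
    set ν := ((l : F)⁻¹) ^ q * (l : F) with hν
    have hνl : ν = (l : F) * (l : F) := by
      have : ((l : F)⁻¹) ^ q = (l : F) := by
        rw [inv_pow]
        exact inv_eq_of_mul_eq_one_right (by rw [← pow_succ]; exact hlF)
      rw [hν, this]
    have hmul : ∀ t, φ (ν * t) = φ t * (a ^ q * b) := fun t => by
      have h4 := f0_equi hF hn h hα hg' g1 g2 g1' g2' (hv.smul t)
      rw [act_smul, g3, smul_smul, smul_smul,
        show ((l : F)⁻¹) ^ q * t * (l : F) = ν * t by rw [hν]; ring, hφ, hφ t, hk,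
        act_smul, act_smul, hb] at h4
      simp only [smul_smul] at h4
      have hk0 : k ≠ 0 := fun h0 => hd₁0 (by rw [hk, h0, zero_smul])
      exact mul_right_cancel₀ hk0 (by linear_combination smul_left_injective F hv'0 h4)
    have hνm : ∀ t, φ (ν * t) = φ ν * φ t := fun t => by
      have h4 := hmul 1
      rw [mul_one, h11, one_mul] at h4
      rw [hmul t, h4, mul_comm]
    refine mul_of φ hadd hF hF0 ?_ hνm
    intro hfix
    rw [hνl, mul_pow] at hfix
    apply hl2
    have hlq : (l : F) ^ q * (l : F) = 1 := by rw [← pow_succ]; exact hlF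
    have h5 : ((l : F) * (l : F) - 1) ^ 2 = 0 := by
      linear_combination ((l : F) ^ q * (l : F) + 1) * hlq - (l : F) ^ 2 * hfix
        + (1 - (l : F) ^ 2) * h2
    exact Units.ext (by
      rw [Units.val_pow_eq_pow_val, Units.val_one, sq]
      exact sub_eq_zero.1 ((pow_eq_zero_iff (by norm_num)).1 h5))
  · -- odd characteristic: `φ` commutes with conjugation up to the form on the plane
    set d := hermForm n F q d₁ d₂ with hd
    have hB : ∀ a b : F, a * b ^ q + a ^ q * b = 0 →
        φ a * φ b ^ q * d = (φ a * φ b ^ q * d) ^ q := by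
      intro a b hab
      have h1 := (f0_B_iff hF hn h hα (hv.smul a) (hw.smul b)).1 (by
        simp only [herm_smul_left, herm_smul_right, hvw, hwv]
        linear_combination c * hab)
      rw [hφ, hφ', heq] at h1
      simp only [herm_smul_left, herm_smul_right, ← hd] at h1
      rw [herm_conj hF d₁ d₂, ← hd] at h1
      simp only [mul_pow, pow_q_q hF]
      linear_combination h1
    have hdskew : d + d ^ q = 0 := by
      obtain ⟨v', -, -, hv'v', -, hT⟩ := exists_point hF hn h hα (hv.add hw)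
        (fun h0 => by
          have h1 := congrArg (fun y => hermForm n F q y w) h0
          simp only [herm_add_left, hvw, hww, add_zero, herm_zero_left] at h1
          exact hc0 h1)
        (by simpa using (hline 1 (one_pow q)).1)
      obtain ⟨c', -, -, -, hT'⟩ := hT c hc hc0
      obtain ⟨z, hz, hzv⟩ := exists_inW_herm_eq hF h (hv.add hw) (fun h0 => by
          have h1 := congrArg (fun y => hermForm n F q y w) h0
          simp only [herm_add_left, hvw, hww, add_zero, herm_zero_left] at h1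
          exact hc0 h1) (1 / c)
      have h3 := hT' z hz
      rw [hzv, mul_div_cancel₀ _ hc0, one_smul, f0_add hF hn h hα hz (hv.add hw),
        add_right_inj, f0_add hF hn h hα hv hw, ← hd₁, ← hd₂] at h3
      have h4 : hermForm n F q (d₁ + d₂) (d₁ + d₂) = 0 := by
        rw [h3, herm_smul_left, herm_smul_right, hv'v']; ring
      have hd₁d₁ : hermForm n F q d₁ d₁ = 0 := by
        obtain ⟨v'', -, -, hv''v'', -, hT''⟩ := exists_point hF hn h hα hv hv0 hvv
        obtain ⟨c'', -, -, -, hT2⟩ := hT'' c hc hc0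
        obtain ⟨z', hz', hzv'⟩ := exists_inW_herm_eq hF h hv hv0 (1 / c)
        have h5 := hT2 z' hz'
        rw [hzv', mul_div_cancel₀ _ hc0, one_smul, f0_add hF hn h hα hz' hv,
          add_right_inj] at h5
        rw [hd₁, h5, herm_smul_left, herm_smul_right, hv''v'']; ring
      have hd₂d₂ : hermForm n F q d₂ d₂ = 0 := by
        obtain ⟨v'', -, -, hv''v'', -, hT''⟩ := exists_point hF hn h hα hw hw0 hww
        obtain ⟨c'', -, -, -, hT2⟩ := hT'' c hc hc0
        obtain ⟨z', hz', hzv'⟩ := exists_inW_herm_eq hF h hw hw0 (1 / c)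
        have h5 := hT2 z' hz'
        rw [hzv', mul_div_cancel₀ _ hc0, one_smul, f0_add hF hn h hα hz' hw,
          add_right_inj] at h5
        rw [hd₂, h5, herm_smul_left, herm_smul_right, hv''v'']; ring
      simp only [herm_add_left, herm_add_right hF, hd₁d₁, hd₂d₂, ← hd, herm_conj hF d₁ d₂] at h4
      linear_combination h4
    have hd0 : d ≠ 0 := fun h0 => by
      obtain ⟨x, hx⟩ := exists_trace hF (a := (1 : F)) (one_pow q)
      have h1 := (f0_B_iff hF hn h hα (hv.smul x) hw).2 (by
        rw [hφ, ← hd₂, herm_smul_left, herm_smul_right, herm_conj hF d₁ d₂, ← hd, h0,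
          zero_pow_q hF]
        ring)
      rw [herm_smul_left, herm_smul_right, hvw, hwv] at h1
      exact hc0 (by linear_combination h1 - c * hx)
    have hB' : ∀ a b : F, a * b ^ q + a ^ q * b = 0 →
        φ a * φ b ^ q + φ a ^ q * φ b = 0 := by
      intro a b hab
      have h1 := hB a b hab
      simp only [mul_pow, pow_q_q hF, show d ^ q = -d by linear_combination hdskew] at h1
      exact (mul_eq_zero.1 (show d * (φ a * φ b ^ q + φ a ^ q * φ b) = 0 by
        linear_combination h1)).resolve_left hd0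
    have hc' : c ^ q = -c := by linear_combination hc
    have hx : φ c ^ q = -φ c := by
      have h1 := hB' 1 c (by rw [one_pow, hc']; ring)
      rw [h11, one_pow] at h1
      linear_combination h1
    have hx0 : φ c ≠ 0 := fun h0 => hc0 ((smul_eq_zero.1 (f0_inj hF hn h hα (hv.smul c) inW_zero
      (by rw [hφ, h0, zero_smul, f0_zero]))).resolve_right hv0)
    have hfixed : ∀ r : F, r ^ q = r → φ r ^ q = φ r := by
      intro r hr
      have h1 := hB' 1 (r * c) (by rw [one_pow, mul_pow, hr, hc']; ring)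
      rw [h11, one_pow, hF0 r hr, mul_pow, hx] at h1
      exact mul_left_cancel₀ hx0 (by linear_combination -h1)
    have hk : (c * c) ^ q = c * c := by rw [mul_pow, hc']; ring
    have hsq : φ (c * c) = φ c * φ c := by
      have h1 := hB' (1 + c) (c * c + c) (by
        simp only [add_pow_q hF, one_pow, hk, hc']; ring)
      simp only [hadd, h11, add_pow_q hF, one_pow, hfixed _ hk, hx] at h1
      have h3 : (2 : F) * (φ (c * c) - φ c * φ c) = 0 := by linear_combination h1
      exact sub_eq_zero.1 ((mul_eq_zero.1 h3).resolve_left h2)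
    refine mul_of φ hadd hF hF0 (ν := c) (fun h4 => ?_) fun t => ?_
    · have : (2 : F) * c = 0 := by linear_combination hc - h4
      exact hc0 ((mul_eq_zero.1 this).resolve_left h2)
    · -- write `t` over the basis `1, c`
      have h2c : (2 : F) * c ≠ 0 := mul_ne_zero h2 hc0
      obtain ⟨z, hz⟩ : ∃ z, z = (t - t ^ q) / (2 * c) := ⟨_, rfl⟩
      have h2q : (2 : F) ^ q = 2 := by rw [← one_add_one_eq_two, add_pow_q hF, one_pow]
      have hzq : z ^ q = z := by
        rw [hz, div_pow, sub_pow_q hF, pow_q_q hF, mul_pow, hc', h2q, mul_neg,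
          ← neg_sub t (t ^ q), neg_div_neg_eq]
      obtain ⟨u, hu⟩ : ∃ u, u = t - z * c := ⟨_, rfl⟩
      have huq : u ^ q = u := by
        have : z * (2 * c) = t - t ^ q := by rw [hz, div_mul_cancel₀ _ h2c]
        rw [hu, sub_pow_q hF, mul_pow, hzq, hc']
        linear_combination this
      rw [show t = u + z * c by rw [hu]; ring, show c * (u + z * c) = u * c + z * (c * c) by ring,
        hadd, hadd, hF0 u huq, hF0 z hzq, hF0 z hzq, hsq]
      ring

/-- The semilinearity of the induced map. -/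
theorem exists_sigma (hF : Fintype.card F = q ^ 2) (hn : 3 ≤ n) (h32 : ¬(n = 3 ∧ q = 2))
    (h : Fr q e f) (hα : Fix hF α e f) :
    ∃ σ : F ≃+* F, ∀ w, InW q e f w → ∀ a : F,
      f0 hF hn h hα (a • w) = σ a • f0 hF hn h hα w := by
  suffices hmain : ∃ φ : F → F, φ 1 = 1 ∧ (∀ a b, φ (a + b) = φ a + φ b) ∧
      (∀ a b, φ (a * b) = φ a * φ b) ∧
      ∀ w, InW q e f w → ∀ a : F, f0 hF hn h hα (a • w) = φ a • f0 hF hn h hα w by
    obtain ⟨φ, h1, ha, hm, hf⟩ := hmain
    let φh : F →+* F :=
      { toFun := φ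
        map_one' := h1
        map_mul' := hm
        map_zero' := by have := ha 0 0; rw [add_zero, left_eq_add] at this; exact this
        map_add' := ha }
    exact ⟨RingEquiv.ofBijective φh ⟨φh.injective, Finite.injective_iff_surjective.1 φh.injective⟩,
      hf⟩
  have hcoef : ∀ v, InW q e f v ∧ v ≠ 0 ∧ hermForm n F q v v = 0 →
      ∃ φ : F → F, φ 1 = 1 ∧ (∀ a b, φ (a + b) = φ a + φ b) ∧
        ∀ a, f0 hF hn h hα (a • v) = φ a • f0 hF hn h hα v := by
    rintro v ⟨hv, hv0, hvv⟩
    choose φ hφ using exists_coef hF hn h hα hv hv0 hvv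
    have hinj := smul_left_injective F (f0_ne_zero hF hn h hα hv hv0)
    refine ⟨φ, hinj (by simp only; rw [← hφ, one_smul, one_smul]), fun a b => hinj ?_, hφ⟩
    simp only
    rw [← hφ, add_smul, add_smul, f0_add hF hn h hα (hv.smul a) (hv.smul b), hφ, hφ]
  by_cases hex : ∃ v, InW q e f v ∧ v ≠ 0 ∧ hermForm n F q v v = 0
  · obtain ⟨v, hv, hv0, hvv⟩ := hex
    obtain ⟨φ, h1, ha, hφ⟩ := hcoef v ⟨hv, hv0, hvv⟩
    obtain ⟨c, hc0, hc⟩ := exists_skew hF
    -- transport from a vector to a non-orthogonal one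
    have step : ∀ u w, InW q e f u → u ≠ 0 → hermForm n F q u u = 0 → InW q e f w →
        hermForm n F q w w = 0 → hermForm n F q w u ≠ 0 →
        (∀ a, f0 hF hn h hα (a • u) = φ a • f0 hF hn h hα u) →
        (∀ a b, φ (a * b) = φ a * φ b) ∧
          ∀ a, f0 hF hn h hα (a • w) = φ a • f0 hF hn h hα w := by
      intro u w hu hu0 huu hw hww hwu hφu
      obtain ⟨s, hs⟩ : ∃ s, s = -c / hermForm n F q w u := ⟨_, rfl⟩
      have hs0 : s ≠ 0 := hs ▸ div_ne_zero (neg_ne_zero.2 hc0) hwu
      have hw'0 : s • w ≠ 0 := fun h0 => hwu (by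
        rw [(smul_eq_zero.1 h0).resolve_left hs0, herm_zero_left])
      have hw'w' : hermForm n F q (s • w) (s • w) = 0 := by
        rw [herm_smul_left, herm_smul_right, hww]; ring
      obtain ⟨φ', -, -, hφ'⟩ := hcoef _ ⟨hw.smul s, hw'0, hw'w'⟩
      obtain ⟨hm, heq⟩ := plane_mul hF hn h hα hu hu0 huu hc0 hc (hw.smul s) hw'w'
        (by rw [herm_smul_left, hs, div_mul_cancel₀ _ hwu]) φ φ' hφu hφ'
      refine ⟨hm, fun a => ?_⟩
      have h3 : ∀ b : F, f0 hF hn h hα (b • w) = φ (b / s) • f0 hF hn h hα (s • w) := fun b => by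
        rw [← heq, ← hφ', smul_smul, div_mul_cancel₀ _ hs0]
      conv_rhs => rw [← one_smul F w, h3]
      rw [h3, smul_smul, ← hm, mul_one_div]
    obtain ⟨w, hw, hww, hwv⟩ := exists_inW_iso_partner hF h hv hv0 hvv one_ne_zero
    have hwv' : hermForm n F q w v ≠ 0 := hwv ▸ one_ne_zero
    have hm := (step v w hv hv0 hvv hw hww hwv' hφ).1
    refine ⟨φ, h1, ha, hm, fun x hx a => ?_⟩
    refine inW_induction hF h hv hv0 hvv
      (P := fun u => f0 hF hn h hα (a • u) = φ a • f0 hF hn h hα u) (fun u hu huu => ?_)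
      (fun u u' hu hu' e1 e2 => ?_) hx
    · rcases eq_or_ne u 0 with rfl | hu0
      · simp [f0_zero]
      by_cases huv : hermForm n F q u v = 0
      · obtain ⟨z, hz, hzz, hzu, hzv⟩ := exists_common hF h hu hu0 huu hv hv0 huv
        have hz0 : z ≠ 0 := fun h0 => hzu (by rw [h0, herm_zero_left])
        exact (step z u hz hz0 hzz hu huu (herm_skew_ne hF hzu)
          (step v z hv hv0 hvv hz hzz hzv hφ).2).2 a
      · exact (step v u hv hv0 hvv hu huu huv hφ).2 a
    · rw [smul_sub, f0_sub hF hn h hα (hu.smul a) (hu'.smul a), e1, e2,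
        f0_sub hF hn h hα hu hu', smul_sub]
  · push Not at hex
    have hno : ∀ v, InW q e f v → hermForm n F q v v = 0 → v = 0 :=
      fun v hv hvv => by_contra fun hv0 => hex v hv hv0 hvv
    have hn3 : n = 3 := by
      by_contra hne
      obtain ⟨v, hv, hv0, hvv⟩ := exists_inW_iso hF (by omega) h
      exact hex v hv hv0 hvv
    have hq : q ≠ 2 := fun h0 => h32 ⟨hn3, h0⟩
    obtain ⟨k, hke, hkf, hkk⟩ := exists_perp2 hF hn h.ee h.ff h.ef h.fe (one_pow q)
    have hk : InW q e f k := ⟨hke, hkf⟩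
    have hk0 : k ≠ 0 := fun h0 => by rw [h0, herm_zero_left] at hkk; exact zero_ne_one hkk
    have hk' := f0_ne_zero hF hn h hα hk hk0
    choose φ hφ using fun a : F => eq_smul_of_anisotropic hF hno (inW_f0 hF hn h hα k) hk'
      (inW_f0 hF hn h hα (a • k))
    have hinj := smul_left_injective F hk'
    have h11 : φ 1 = 1 := hinj (by simp only; rw [← hφ, one_smul, one_smul])
    have hadd : ∀ a b, φ (a + b) = φ a + φ b := fun a b => hinj (by
      simp only
      rw [← hφ, add_smul, add_smul, f0_add hF hn h hα (hk.smul a) (hk.smul b), hφ, hφ])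
    have hsc : ∀ a ν : F, a ≠ 0 → ν ^ (q + 1) = 1 → a ^ q = ν ^ 3 * a →
        ∀ t, φ (a ^ q * t) = φ (a ^ q) * φ t := by
      intro a ν ha hν haν
      obtain ⟨g, κ, κ', g1, g2, g3⟩ := exists_scalar_L hF h hn3 ha hν haν
      obtain ⟨g', ⟨b, b', g1', g2'⟩, hg'⟩ := exists_L_img hF hn h hα ⟨_, _, g1, g2⟩
      obtain ⟨m, hm⟩ := eq_smul_of_anisotropic hF hno (inW_f0 hF hn h hα k) hk'
        (inW_act_L h g1' g2' (inW_f0 hF hn h hα k))
      have key : ∀ t, φ (a ^ q * t) = φ t * (b ^ q * m) := fun t => hinj (by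
        have h4 := f0_equi hF hn h hα hg' g1 g2 g1' g2' (hk.smul t)
        rw [g3 _ (hk.smul t), smul_smul, hφ, hφ t, act_smul, hm, smul_smul, smul_smul] at h4
        simp only
        rw [h4]
        congr 1
        ring)
      intro t
      have h4 := key 1
      rw [mul_one, h11, one_mul] at h4
      rw [key t, h4, mul_comm]
    have hz : φ 0 = 0 := by have := hadd 0 0; rw [add_zero, left_eq_add] at this; exact this
    have hF0 : ∀ r : F, r ^ q = r → ∀ t, φ (r * t) = φ r * φ t := fun r hr t => by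
      rcases eq_or_ne r 0 with rfl | hr0
      · rw [zero_mul, hz, zero_mul]
      · have := hsc r 1 hr0 (one_pow _) (by rw [hr, one_pow, one_mul]) t
        rwa [hr] at this
    obtain ⟨ν, hν, hν3⟩ := exists_normOne_cube hF hq
    obtain ⟨a, ha, haν⟩ := exists_hilbert hF (η := ν ^ 3)
      (by rw [← pow_mul, mul_comm, pow_mul, hν, one_pow])
    refine ⟨φ, h11, hadd, mul_of φ hadd hF hF0 ?_ (hsc a ν ha hν haν), fun w hw t => ?_⟩
    · rw [pow_q_q hF, haν]
      intro h0
      exact hν3 (mul_right_cancel₀ ha (by rw [← h0, one_mul]))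
    · obtain ⟨s, rfl⟩ := eq_smul_of_anisotropic hF hno hk hk0 hw
      rw [smul_smul, hφ, hφ s, smul_smul]
      congr 1
      exact mul_of φ hadd hF hF0
        (by
          rw [pow_q_q hF, haν]
          intro h0
          exact hν3 (mul_right_cancel₀ ha (by rw [← h0, one_mul])))
        (hsc a ν ha hν haν) t s

end Cfsg.Agent.AutPSU52Semilin
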