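import Mathlib
import Cfsg.Agent.Lib.AutPSU52Semilin

/-!
Every automorphism of `PSU` is induced by a semilinear unitary map.
-/

set_option autoImplicit false
set_option linter.unusedSectionVars false

namespace Cfsg.Agent.AutPSU52Main

open Matrix
open Cfsg.Agent.OrthUnitaryHerm Cfsg.Agent.OrthUnitaryTransvection Cfsg.Agent.OrthUnitaryPSU
open Cfsg.Agent.AutPSU52Basic Cfsg.Agent.AutPSU52Transv Cfsg.Agent.AutPSU52Core
open Cfsg.Agent.AutPSU52Frame Cfsg.Agent.AutPSU52Semilin

variable {F : Type*} [Field F] [Fintype F] {q n : ℕ} {e f : Fin n → F}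

/-- A semilinear map preserving the form comes from a unitary matrix and a field automorphism. -/
theorem exists_GU (hF : Fintype.card F = q ^ 2) (σ : F ≃+* F) (G : (Fin n → F) → (Fin n → F))
    (hadd : ∀ x y, G (x + y) = G x + G y) (hsmul : ∀ (a : F) x, G (a • x) = σ a • G x)
    (hherm : ∀ x y, hermForm n F q (G x) (G y) = σ (hermForm n F q x y)) :
    ∃ g : GU n F q, ∀ x, semi g σ x = G x := by
  let L : (Fin n → F) →ₗ[F] (Fin n → F) :=
    { toFun := fun u => G (σ.symm ∘ u)
      map_add' := fun u v => by rw [← hadd]; congr 1; funext i; simp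
      map_smul' := fun a u => by
        rw [RingHom.id_apply, ← σ.apply_symm_apply a, ← hsmul, σ.apply_symm_apply]
        congr 1; funext i; simp }
  have hL : ∀ u, LinearMap.toMatrix' L *ᵥ u = G (σ.symm ∘ u) := fun u =>
    LinearMap.toMatrix'_mulVec L u
  have hU : IsU q (LinearMap.toMatrix' L) := fun u v => by
    rw [hL, hL, hherm, ← herm_field]
    congr 1 <;> funext i <;> simp
  refine ⟨mkGU hF _ hU, fun x => ?_⟩
  rw [semi, gMat, mkGU_coe, hL]
  congr 1; funext i; simp

theorem herm_frame (hF : Fintype.card F = q ^ 2) (h : Fr q e f) {w w' : Fin n → F}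
    (hw : InW q e f w) (hw' : InW q e f w') (a b a' b' : F) :
    hermForm n F q (a • e + b • f + w) (a' • e + b' • f + w')
      = a * b' ^ q + b * a' ^ q + hermForm n F q w w' := by
  simp only [herm_add_left, herm_add_right hF, herm_smul_left, herm_smul_right, h.ee, h.ff, h.ef,
    h.fe, hw.1, hw.2, herm_skew_zero hF hw'.1, herm_skew_zero hF hw'.2]
  ring

variable {α : MulAut (PSU n F q)}

/-- The induced map multiplies the form by one scalar of the fixed field. -/
theorem exists_mult (hF : Fintype.card F = q ^ 2) (hn : 3 ≤ n) (h : Fr q e f)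
    (hα : Fix hF α e f) (σ : F ≃+* F)
    (hσ : ∀ w, InW q e f w → ∀ a : F, f0 hF hn h hα (a • w) = σ a • f0 hF hn h hα w) :
    ∃ r : F, r ^ q = r ∧ r ≠ 0 ∧ ∀ x y, InW q e f x → InW q e f y →
      hermForm n F q (f0 hF hn h hα x) (f0 hF hn h hα y) = r * σ (hermForm n F q x y) := by
  set H : (Fin n → F) → (Fin n → F) → F := fun x y =>
    σ.symm (hermForm n F q (f0 hF hn h hα x) (f0 hF hn h hα y)) with hH
  have hconj : ∀ x y, H y x = H x y ^ q := fun x y => by
    simp only [hH]; rw [← map_pow, ← herm_conj hF]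
  have hsl : ∀ a x y, InW q e f x → H (a • x) y = a * H x y := fun a x y hx => by
    simp only [hH]; rw [hσ x hx, herm_smul_left, map_mul, σ.symm_apply_apply]
  have hal : ∀ x x' y, InW q e f x → InW q e f x' → H (x + x') y = H x y + H x' y :=
    fun x x' y hx hx' => by
      simp only [hH]; rw [f0_add hF hn h hα hx hx', herm_add_left, map_add]
  have hreal : ∀ x y, InW q e f x → InW q e f y →
      hermForm n F q x y = hermForm n F q y x → H x y ^ q = H x y := fun x y hx hy hxy => by
    rw [← hconj x y]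
    simp only [hH]
    rw [← (f0_B_iff hF hn h hα hx hy).1 hxy]
  have hzero : ∀ x y, InW q e f x → InW q e f y → hermForm n F q x y = 0 → H x y = 0 := by
    intro x y hx hy hxy
    obtain ⟨a, ha⟩ := exists_not_fixed hF
    have h1 := hreal x y hx hy (by rw [hxy, herm_skew_zero hF hxy])
    have h2 := hreal (a • x) y (hx.smul a) hy (by
      rw [herm_smul_left, hxy, mul_zero, herm_smul_right, herm_skew_zero hF hxy, mul_zero])
    rw [hsl a x y hx, mul_pow, h1] at h2
    by_contra h0
    exact ha (mul_right_cancel₀ h0 h2)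
  have hlin : ∀ x y z, InW q e f x → InW q e f y → InW q e f z → hermForm n F q z y = 1 →
      H x y = hermForm n F q x y * H z y := by
    intro x y z hx hy hz hzy
    have h1 := hal (x - hermForm n F q x y • z) (hermForm n F q x y • z) y
      (hx.sub (hz.smul _)) (hz.smul _)
    rw [sub_add_cancel, hsl _ _ _ hz, hzero _ _ (hx.sub (hz.smul _)) hy
      (by rw [herm_sub_left, herm_smul_left, hzy, mul_one, sub_self]), zero_add] at h1
    exact h1
  obtain ⟨k, hke, hkf, hkk⟩ := exists_perp2 hF hn h.ee h.ff h.ef h.fe (one_pow q)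
  have hk : InW q e f k := ⟨hke, hkf⟩
  set ρ := H k k with hρ
  have hρq : ρ ^ q = ρ := (hconj k k).symm
  have hxk : ∀ x, InW q e f x → H x k = hermForm n F q x k * ρ := fun x hx =>
    hlin x k k hx hk hk hkk
  have hkey : ∀ x y, InW q e f x → InW q e f y → hermForm n F q k y ≠ 0 →
      H x y = hermForm n F q x y * ρ := by
    intro x y hx hy hky
    rw [hlin x y ((hermForm n F q k y)⁻¹ • k) hx hy (hk.smul _)
      (by rw [herm_smul_left, inv_mul_cancel₀ hky]), hsl _ _ _ hk, hconj y k, hxk y hy, mul_pow,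
      hρq, ← herm_conj hF, inv_mul_cancel_left₀ hky]
  have hall : ∀ x y, InW q e f x → InW q e f y → H x y = hermForm n F q x y * ρ := by
    intro x y hx hy
    by_cases hky : hermForm n F q k y = 0
    · have h1 := hkey x (y + k) hx (hy.add hk)
        (by rw [herm_add_right hF, hky, hkk, zero_add]; exact one_ne_zero)
      have h2 : H x (y + k) = H x y + H x k := by
        simp only [hH]; rw [f0_add hF hn h hα hy hk, herm_add_right hF, map_add]
      rw [h2, hxk x hx, herm_add_right hF] at h1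
      linear_combination h1
    · exact hkey x y hx hy hky
  have hρ0 : ρ ≠ 0 := by
    intro h0
    have hk0 : k ≠ 0 := fun h0 => by rw [h0, herm_zero_left] at hkk; exact zero_ne_one hkk
    obtain ⟨z, hz, hz1⟩ :=
      exists_inW_herm_eq hF h (inW_f0 hF hn h hα k) (f0_ne_zero hF hn h hα hk hk0) 1
    obtain ⟨w, hw, rfl⟩ := f0_surj hF hn h hα hz
    have h1 := hall w k hw hk
    simp only [hH] at h1
    rw [hz1, map_one, h0, mul_zero] at h1
    exact one_ne_zero h1
  refine ⟨σ ρ, by rw [← map_pow, hρq], (map_ne_zero σ).2 hρ0, fun x y hx hy => ?_⟩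
  have h1 := congrArg σ (hall x y hx hy)
  simp only [hH] at h1
  rw [σ.apply_symm_apply, map_mul] at h1
  rw [h1, mul_comm]

/-- An automorphism fixing the pair agrees on the orthogonal space with a semilinear one. -/
theorem exists_semilinear (hF : Fintype.card F = q ^ 2) (hn : 3 ≤ n) (h32 : ¬(n = 3 ∧ q = 2))
    (h : Fr q e f) (hα : Fix hF α e f) :
    ∃ (g : GU n F q) (σ : F ≃+* F), Fix hF (cj g * fd σ) e f ∧
      ∀ w (hw : InW q e f w) μ (hμ : μ + μ ^ q + hermForm n F q w w = 0),
        ∃ μ' hμ', (cj g * fd σ : MulAut (PSU n F q)) (eP hF h hw hμ)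
          = eP hF h (μ := μ') (inW_f0 hF hn h hα w) hμ' := by
  obtain ⟨σ, hσ⟩ := exists_sigma hF hn h32 h hα
  obtain ⟨r, hrq, hr0, hr⟩ := exists_mult hF hn h hα σ hσ
  obtain ⟨κ, hκ⟩ := exists_norm_eq hF hrq
  have hκ0 : κ ≠ 0 := by rintro rfl; rw [zero_pow (Nat.succ_ne_zero q)] at hκ; exact hr0 hκ.symm
  let G : (Fin n → F) → (Fin n → F) := fun x => κ⁻¹ • ((r * σ (hermForm n F q x f)) • e
    + σ (hermForm n F q x e) • f + f0 hF hn h hα (proj2 q e f x))
  have hGadd : ∀ x y, G (x + y) = G x + G y := by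
    intro x y
    simp only [G]
    rw [map_add (proj2 q e f), f0_add hF hn h hα (inW_proj2 h x) (inW_proj2 h y), herm_add_left,
      herm_add_left, map_add, map_add]
    module
  have hGsmul : ∀ (a : F) x, G (a • x) = σ a • G x := by
    intro a x
    simp only [G]
    rw [map_smul (proj2 q e f), hσ _ (inW_proj2 h x), herm_smul_left, herm_smul_left, map_mul,
      map_mul]
    module
  have hGherm : ∀ x y, hermForm n F q (G x) (G y) = σ (hermForm n F q x y) := by
    intro x y
    conv_rhs => rw [decomp (q := q) (e := e) (f := f) x, decomp (q := q) (e := e) (f := f) y,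
      herm_frame hF h (inW_proj2 h x) (inW_proj2 h y)]
    simp only [G]
    rw [herm_smul_left, herm_smul_right, herm_frame hF h (inW_f0 _ _ _ _ _) (inW_f0 _ _ _ _ _),
      hr _ _ (inW_proj2 h x) (inW_proj2 h y)]
    simp only [map_add, map_mul, map_pow, mul_pow, hrq, inv_pow]
    rw [pow_succ] at hκ
    field_simp
    rw [← hκ]
    ring
  obtain ⟨g, hg⟩ := exists_GU hF σ G hGadd hGsmul hGherm
  have hGe : G e = (κ⁻¹ * r) • e := by
    simp only [G]
    rw [h.ef, h.ee, map_one, map_zero, show proj2 q e f e = 0 by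
      rw [proj2_apply, h.ef, h.ee]; module, f0_zero]
    module
  have hGf : G f = κ⁻¹ • f := by
    simp only [G]
    rw [h.ff, h.fe, map_one, map_zero, show proj2 q e f f = 0 by
      rw [proj2_apply, h.ff, h.fe]; module, f0_zero]
    module
  have hGw : ∀ w, InW q e f w → G w = κ⁻¹ • f0 hF hn h hα w := by
    intro w hw
    simp only [G]
    rw [hw.1, hw.2, map_zero, proj2_of_inW hw]
    module
  set β : MulAut (PSU n F q) := cj g * fd σ with hβ
  have hβtv : ∀ {u : Fin n → F} {k : F}, u ≠ 0 → hermForm n F q u u = 0 → k ≠ 0 →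
      G u = k • u → FixPt hF β u := by
    intro u k hu0 hu hk hGu
    obtain ⟨c, hc0, hc⟩ := exists_skew hF
    refine fixPt_of_mem hF hn β hu0 hu (isTv_mk hF hu hc hc0) ?_
    rw [hβ, cj_fd_mk, autS_tv]
    rw [← isTv_smul hF hk]
    refine ⟨σ c, by rw [herm_smul_left, herm_smul_right, hu, mul_zero, mul_zero],
      by rw [← map_pow, ← map_add, hc, map_zero], (map_ne_zero σ).2 hc0, ?_⟩
    congr 1
    apply su_ext
    intro x
    rw [tv_act, tv_act, hg, hGu]
  refine ⟨g, σ, ⟨hβtv h.e_ne h.ee (mul_ne_zero (inv_ne_zero hκ0) hr0) hGe,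
    hβtv h.f_ne h.ff (inv_ne_zero hκ0) hGf⟩, fun w hw μ hμ => ?_⟩
  obtain ⟨a, ha⟩ : ∃ a, a = κ⁻¹ * r := ⟨_, rfl⟩
  rw [← ha] at hGe
  have haw : a ^ q • (κ⁻¹ • f0 hF hn h hα w) = f0 hF hn h hα w := by
    rw [smul_smul, ha, mul_pow, hrq, inv_pow]
    conv_rhs => rw [← one_smul F (f0 hF hn h hα w)]
    congr 1
    rw [pow_succ] at hκ
    rw [← hκ]
    field_simp
  have hGw' := hGw w hw
  have hμ1 : σ μ + σ μ ^ q + hermForm n F q (G w) (G w) = 0 := by
    rw [hGherm, ← map_pow, ← map_add, ← map_add, hμ, map_zero]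
  have hμ2 : a ^ (q + 1) * σ μ + (a ^ (q + 1) * σ μ) ^ q
      + hermForm n F q (f0 hF hn h hα w) (f0 hF hn h hα w) = 0 := by
    rw [← haw, ← hGw', herm_smul_left, herm_smul_right, mul_pow, ← pow_mul, mul_comm (q + 1) q,
      pow_mul, pow_succ (a ^ q) q, pow_succ a q, pow_q_q hF]
    linear_combination (a ^ q * a) * hμ1
  refine ⟨_, hμ2, ?_⟩
  show (cj g * fd σ : MulAut (PSU n F q)) (QuotientGroup.mk _) = QuotientGroup.mk _
  rw [cj_fd_mk, autS_eich]
  congr 1
  apply su_ext
  intro x
  rw [eich_act, eich_act, hg, hg, hGe, hGw', herm_smul_right, herm_smul_right]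
  conv_rhs => rw [← haw, herm_smul_right, herm_smul_right, pow_q_q hF]
  module

/-- An automorphism fixing the pair and acting trivially on the orthogonal space is trivial. -/
theorem eq_one_of_trivial (hF : Fintype.card F = q ^ 2) (hn : 3 ≤ n) (h32 : ¬(n = 3 ∧ q = 2))
    (h : Fr q e f) (hα : Fix hF α e f)
    (hid : ∀ w (hw : InW q e f w) μ (hμ : μ + μ ^ q + hermForm n F q w w = 0),
      ∃ μ' hμ', α (eP hF h hw hμ) = eP hF h (μ := μ') hw hμ') : α = 1 := by
  have hf0 : ∀ w, InW q e f w → f0 hF hn h hα w = w := by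
    intro w hw
    obtain ⟨μ, hμ⟩ := exists_mu hF w
    obtain ⟨μ', hμ', he⟩ := hid w hw μ hμ
    exact f0_eq hF hn h hα he
  obtain ⟨k, hke, hkf, hkk⟩ := exists_perp2 hF hn h.ee h.ff h.ef h.fe (one_pow q)
  have hk : InW q e f k := ⟨hke, hkf⟩
  obtain ⟨t₁, ht₁⟩ := exists_trace hF (a := (1 : F)) (one_pow q)
  -- the root group at `e` is fixed
  have hT : ∀ (d : F) (hd : d + d ^ q + hermForm n F q (0 : Fin n → F) 0 = 0),
      α (eP hF h inW_zero hd) = eP hF h inW_zero hd := by
    intro d hd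
    have hdq : d ^ q = -d := by rw [herm_zero_left, add_zero] at hd; linear_combination hd
    obtain ⟨x, hxd⟩ : ∃ x, x - x ^ q = d := ⟨d * t₁, by
      rw [mul_pow, hdq]; linear_combination d * ht₁⟩
    have hxk : InW q e f (x • k) := hk.smul x
    obtain ⟨μ, hμ⟩ := exists_mu hF (x • k)
    obtain ⟨μ₂, hμ₂⟩ := exists_mu hF k
    have hB : hermForm n F q (x • k) k - hermForm n F q k (x • k) = d := by
      rw [herm_smul_left, herm_smul_right, hkk]; linear_combination hxd
    have key : ∀ (a b : F) (ha : a + a ^ q + hermForm n F q (x • k) (x • k) = 0)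
        (hb : b + b ^ q + hermForm n F q k k = 0),
        eP hF h hxk ha * eP hF h hk hb = eP hF h inW_zero hd * (eP hF h hk hb * eP hF h hxk ha) := by
      intro a b ha hb
      rw [eP_mul, eP_mul, eP_mul]
      exact eP_congr hF h _ _ _ _ (by abel) (by rw [herm_zero_right hF]; linear_combination hB)
    obtain ⟨a', ha', h1⟩ := hid _ hxk μ hμ
    obtain ⟨b', hb', h2⟩ := hid _ hk μ₂ hμ₂
    have h3 := congrArg α (key μ μ₂ hμ hμ₂)
    rw [map_mul, map_mul, map_mul, h1, h2, key a' b' ha' hb'] at h3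
    exact (mul_right_cancel h3).symm
  -- the shift
  have hδ : ∀ w (hw : InW q e f w), ∃ δ : F, ∀ μ (hμ : μ + μ ^ q + hermForm n F q w w = 0),
      ∃ hμ', α (eP hF h hw hμ) = eP hF h (μ := μ + δ) hw hμ' := by
    intro w hw
    obtain ⟨μ₀, hμ₀⟩ := exists_mu hF w
    obtain ⟨μ', hμ', he⟩ := hid w hw μ₀ hμ₀
    refine ⟨μ' - μ₀, fun μ hμ => ?_⟩
    have hd : (μ - μ₀) + (μ - μ₀) ^ q + hermForm n F q (0 : Fin n → F) 0 = 0 := by
      rw [herm_zero_left, sub_pow_q hF]; linear_combination hμ - hμ₀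
    refine ⟨by rw [add_pow_q hF, sub_pow_q hF]; linear_combination hμ + hμ' - hμ₀, ?_⟩
    have hs : eP hF h hw hμ = eP hF h inW_zero hd * eP hF h hw hμ₀ := by
      rw [eP_mul]
      exact eP_congr hF h _ _ _ _ (zero_add w).symm (by rw [herm_zero_right hF]; ring)
    rw [hs, map_mul, hT, he, eP_mul]
    exact eP_congr hF h _ _ _ _ (zero_add w) (by rw [herm_zero_right hF]; ring)
  choose δ hδ using hδ
  have δ_congr : ∀ {w w'} (hw : InW q e f w) (hw' : InW q e f w'), w = w' →
      δ w hw = δ w' hw' := by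
    intro w w' hw hw' e; subst e; rfl
  have δ_add : ∀ {w w'} (hw : InW q e f w) (hw' : InW q e f w'),
      δ (w + w') (hw.add hw') = δ w hw + δ w' hw' := by
    intro w w' hw hw'
    obtain ⟨μ, hμ⟩ := exists_mu hF w
    obtain ⟨μ', hμ'⟩ := exists_mu hF w'
    obtain ⟨_, h1⟩ := hδ w hw μ hμ
    obtain ⟨_, h2⟩ := hδ w' hw' μ' hμ'
    obtain ⟨_, h3⟩ := hδ _ (hw.add hw') _ (mu_mul hF hμ hμ')
    rw [← eP_mul hF h hw hw' hμ hμ', map_mul, h1, h2, eP_mul] at h3
    linear_combination -(eP_inj hF hn h h3).2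
  have δ_equi : ∀ {g g' : SU n F q} {κ κ' a a' : F}, α (mkP g) = mkP g' →
      ∀ (h1 : act g e = κ • e) (h2 : act g f = κ' • f), act g' e = a • e → act g' f = a' • f →
      a ^ (q + 1) = κ ^ (q + 1) → ∀ {w} (hw : InW q e f w),
      δ _ ((inW_act_L h h1 h2 hw).smul (κ ^ q)) = κ ^ (q + 1) * δ w hw := by
    intro g g' κ κ' a a' hg h1 h2 h1' h2' hN w hw
    obtain ⟨μ, hμ⟩ := exists_mu hF w
    obtain ⟨_, he⟩ := hδ w hw μ hμ
    obtain ⟨_, he'⟩ := hδ _ ((inW_act_L h h1 h2 hw).smul (κ ^ q)) _ (mu_conj hF g κ hμ)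
    rw [← conj_eP hF h h1 h2 hw hμ, map_mul, map_mul, map_inv, hg, he,
      conj_eP hF h h1' h2' hw] at he'
    linear_combination -(eP_inj hF hn h he').2 + (μ + δ w hw) * hN
  have δ_zero : ∀ w (hw : InW q e f w), δ w hw = 0 := by
    have δ0 : δ 0 inW_zero = 0 := by
      have h1 := δ_add (inW_zero (q := q) (e := e) (f := f)) inW_zero
      rw [δ_congr (inW_zero.add inW_zero) inW_zero (add_zero 0)] at h1
      linear_combination -h1
    by_cases hex : ∃ v, InW q e f v ∧ v ≠ 0 ∧ hermForm n F q v v = 0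
    · obtain ⟨v₀, hv₀, hv₀0, hv₀v₀⟩ := hex
      intro w hw
      refine inW_induction hF h hv₀ hv₀0 hv₀v₀ (P := fun u => ∀ hu, δ u hu = 0)
        (fun v hv hvv => ?_) (fun u u' hu hu' e1 e2 hs => ?_) hw hw
      · intro hv'
        rcases eq_or_ne v 0 with rfl | hv0
        · exact δ0
        obtain ⟨v', hv'W, hv'0, hv'v', hiff, hTv⟩ := exists_point hF hn h hα hv hv0 hvv
        obtain ⟨c, hc0, hc⟩ := exists_skew hF
        obtain ⟨c', hc', -, ⟨_, _, hv'', he⟩, hf⟩ := hTv c hc hc0
        obtain ⟨z, hz, hzv⟩ := exists_inW_herm_eq hF h hv hv0 (1 / c)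
        have hfix : ∀ {u : Fin n → F} {d : F} (hu : InW q e f u) (huu : hermForm n F q u u = 0)
            (hd : d + d ^ q = 0), act (tv hF u d huu hd) e = (1 : F) • e ∧
              act (tv hF u d huu hd) f = (1 : F) • f := fun hu huu hd =>
          ⟨by rw [tv_act, herm_skew_zero hF hu.1, mul_zero, zero_smul, add_zero, one_smul],
           by rw [tv_act, herm_skew_zero hF hu.2, mul_zero, zero_smul, add_zero, one_smul]⟩
        have h1 := δ_equi he (hfix hv hvv hc).1 (hfix hv hvv hc).2 (hfix hv'W hv'' hc').1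
          (hfix hv'W hv'' hc').2 rfl hz
        rw [δ_congr _ (hz.add hv') (by
          rw [one_pow, one_smul, tv_act, hzv, mul_div_cancel₀ _ hc0, one_smul]), δ_add hz hv',
          one_pow, one_mul, add_eq_left] at h1
        exact h1
      · have h1 := δ_add hs hu'
        rw [δ_congr (hs.add hu') hu (sub_add_cancel u u'), e1 hu, e2 hu', add_zero] at h1
        exact h1.symm
    · push Not at hex
      have hno : ∀ v, InW q e f v → hermForm n F q v v = 0 → v = 0 :=
        fun v hv hvv => by_contra fun hv0 => hex v hv hv0 hvv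
      have hn3 : n = 3 := by
        by_contra hne
        obtain ⟨v, hv, hv0, hvv⟩ := exists_inW_iso hF (by omega) h
        exact hex v hv hv0 hvv
      have hq : q ≠ 2 := fun h0 => h32 ⟨hn3, h0⟩
      have hk0 : k ≠ 0 := fun h0 => by rw [h0, herm_zero_left] at hkk; exact zero_ne_one hkk
      have hscal : ∀ a ν : F, a ≠ 0 → ν ^ (q + 1) = 1 → a ^ q = ν ^ 3 * a →
          ∀ w (hw : InW q e f w), δ (a ^ q • w) (hw.smul _) = a ^ (q + 1) * δ w hw := by
        intro a ν ha hν haν w hw
        obtain ⟨g, κ, κ', g1, g2, g3⟩ := exists_scalar_L hF h hn3 ha hν haν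
        obtain ⟨g', ⟨b, b', g1', g2'⟩, hg'⟩ := exists_L_img hF hn h hα ⟨_, _, g1, g2⟩
        -- the norms of the two factors agree, as the root group at `e` is fixed
        obtain ⟨c, hc0, hc⟩ := exists_skew hF
        have hc2 : c + c ^ q + hermForm n F q (0 : Fin n → F) 0 = 0 := by
          rw [herm_zero_left, add_zero, hc]
        have h1 := congrArg α (conj_eP hF h g1 g2 inW_zero hc2)
        have hz : ∀ (k : F) (s : SU n F q), (0 : Fin n → F) = k ^ q • act s 0 := fun k s => by
          rw [show act s (0 : Fin n → F) = 0 from mulVec_zero _, smul_zero]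
        have hd2 : κ ^ (q + 1) * c + (κ ^ (q + 1) * c) ^ q
            + hermForm n F q (0 : Fin n → F) 0 = 0 := by
          have := mu_conj hF g κ hc2
          rwa [← hz] at this
        rw [map_mul, map_mul, map_inv, hg', hT c hc2, conj_eP hF h g1' g2' inW_zero hc2,
          eP_congr hF h ((inW_act_L h g1 g2 inW_zero).smul (κ ^ q)) inW_zero (mu_conj hF g κ hc2)
            hd2 (hz κ g).symm rfl, hT _ hd2] at h1
        have hN : b ^ (q + 1) = κ ^ (q + 1) := mul_right_cancel₀ hc0 (eP_inj hF hn h h1).2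
        have hκ : κ ^ (q + 1) = a ^ (q + 1) := by
          have h4 := congrArg (fun z => hermForm n F q z z) (g3 k hk)
          simp only [herm_smul_left, herm_smul_right, herm_act, hkk, mul_one, pow_q_q hF] at h4
          rw [pow_succ, pow_succ]
          linear_combination h4
        rw [← hκ, ← δ_equi hg' g1 g2 g1' g2' hN hw]
        exact δ_congr _ _ (g3 w hw).symm
      have hF0 : ∀ r : F, r ^ q = r → ∀ w (hw : InW q e f w),
          δ (r • w) (hw.smul _) = r * r * δ w hw := by
        intro r hr w hw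
        rcases eq_or_ne r 0 with rfl | hr0
        · rw [δ_congr _ inW_zero (zero_smul F w), δ0]; ring
        · have h1 := hscal r 1 hr0 (one_pow _) (by rw [hr, one_pow, one_mul]) w hw
          rw [δ_congr _ (hw.smul r) (by rw [hr]), pow_succ, hr] at h1
          exact h1
      have hk' : δ k hk = 0 := by
        by_cases h2 : (2 : F) = 0
        · obtain ⟨ν, hν, hν3⟩ := exists_normOne_cube hF hq
          obtain ⟨a, ha, haν⟩ := exists_hilbert hF (η := ν ^ 3)
            (by rw [← pow_mul, mul_comm, pow_mul, hν, one_pow])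
          obtain ⟨b, hb⟩ : ∃ b, b = a ^ q := ⟨_, rfl⟩
          obtain ⟨N, hN⟩ : ∃ N, N = a ^ (q + 1) := ⟨_, rfl⟩
          obtain ⟨t, ht⟩ : ∃ t, t = b + b ^ q := ⟨_, rfl⟩
          have htq : t ^ q = t := ht ▸ fixed_of_add hF b
          have hNq : N ^ q = N := by rw [hN, pow_succ, mul_pow, pow_q_q hF, mul_comm]
          have hNb : N = b * b ^ q := by rw [hN, hb, pow_q_q hF, pow_succ]
          have ht0 : t ≠ 0 := fun h0 => by
            rw [ht, hb, pow_q_q hF] at h0
            have h5 : a ^ q = a := by linear_combination h0 - a * h2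
            rw [h5] at haν
            exact hν3 (mul_right_cancel₀ ha (by rw [← haν, one_mul]))
          -- `b * b = t * b + N`
          have hbb : b • b • k = t • (b • k) + N • k := by
            rw [smul_smul, smul_smul, ← add_smul]
            congr 1
            rw [ht, hNb]
            linear_combination -(b * b ^ q) * h2
          have hsc1 := hscal a ν ha hν haν k hk
          have hsc2 := hscal a ν ha hν haν (a ^ q • k) (hk.smul _)
          rw [← hN] at hsc1 hsc2
          rw [hsc1] at hsc2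
          rw [δ_congr _ (((hk.smul b).smul t).add (hk.smul N)) (by rw [← hb]; exact hbb),
            δ_add ((hk.smul b).smul t) (hk.smul N), hF0 t htq _ (hk.smul b), hF0 N hNq k hk,
            δ_congr (hk.smul b) (hk.smul (a ^ q)) (by rw [hb]), hsc1] at hsc2
          have hN0 : N ≠ 0 := hN ▸ pow_ne_zero _ ha
          exact (mul_eq_zero.1 (show t * t * N * δ k hk = 0 by linear_combination hsc2)).resolve_left
            (mul_ne_zero (mul_ne_zero ht0 ht0) hN0)
        · have h2q : (2 : F) ^ q = 2 := by rw [← one_add_one_eq_two, add_pow_q hF, one_pow]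
          have h1 := hF0 2 h2q k hk
          rw [δ_congr _ (hk.add hk) (two_smul F k), δ_add hk hk] at h1
          have h3 : (2 : F) * δ k hk = 0 := by linear_combination -h1
          exact (mul_eq_zero.1 h3).resolve_left h2
      intro w hw
      obtain ⟨s, rfl⟩ := eq_smul_of_anisotropic hF hno hk hk0 hw
      -- every scalar is a combination of one and one outside the fixed field
      obtain ⟨ν, hν, hν3⟩ := exists_normOne_cube hF hq
      obtain ⟨a, ha, haν⟩ := exists_hilbert hF (η := ν ^ 3)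
        (by rw [← pow_mul, mul_comm, pow_mul, hν, one_pow])
      have hd : a ^ q - a ≠ 0 := fun h0 => by
        rw [sub_eq_zero.1 h0] at haν
        exact hν3 (mul_right_cancel₀ ha (by rw [← haν, one_mul]))
      obtain ⟨v, hv, hvq⟩ : ∃ v, v * (a ^ q - a) = s - s ^ q ∧ v ^ q = v := by
        refine ⟨(s - s ^ q) / (a ^ q - a), div_mul_cancel₀ _ hd, ?_⟩
        rw [div_pow, sub_pow_q hF, sub_pow_q hF, pow_q_q hF, pow_q_q hF, ← neg_sub s (s ^ q),
          ← neg_sub (a ^ q) a, neg_div_neg_eq]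
      obtain ⟨u, hu⟩ : ∃ u, u = s - v * a ^ q := ⟨_, rfl⟩
      have huq : u ^ q = u := by
        rw [hu, sub_pow_q hF, mul_pow, pow_q_q hF, hvq]
        linear_combination hv
      rw [δ_congr hw ((hk.smul u).add ((hk.smul (a ^ q)).smul v))
          (by rw [smul_smul, ← add_smul, hu]; ring_nf), δ_add (hk.smul u) ((hk.smul (a ^ q)).smul v),
        hF0 u huq k hk, hF0 v hvq _ (hk.smul (a ^ q)), hscal a ν ha hν haν k hk, hk']
      ring
  have hE : ∀ y ∈ (eGroup e).map mkP, α y = y := by
    intro y hy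
    obtain ⟨w, hw, μ, hμ, rfl⟩ := exists_eP hF h hy
    obtain ⟨_, he⟩ := hδ w hw μ hμ
    rw [he]
    exact eP_congr hF h _ _ _ _ rfl (by rw [δ_zero, add_zero])
  have hTe : ∀ x, IsTv hF e x → α x = x := fun x hx => by
    obtain ⟨d, hd, -, rfl⟩ := eq_eP_of_isTv hF h hx
    exact hT d hd
  -- the root group at `f`
  have hTf : ∀ x, IsTv hF f x → α x = x := by
    intro x hx
    obtain ⟨c, hff, hc, hc0, rfl⟩ := hx
    obtain ⟨c', hff', hc', hc'0, hx'⟩ := (hα.pf _).1 (isTv_mk hF hff hc hc0)
    obtain ⟨y, hy⟩ := exists_isTv hF h.ee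
    -- the centre `e + c • f`
    have hμ : c⁻¹ + c⁻¹ ^ q = 0 := by
      rw [inv_pow, show c ^ q = -c by linear_combination hc, inv_neg, add_neg_cancel]
    set s := tv hF e c⁻¹ h.ee hμ with hs
    have hs' : α (mkP s) = mkP s := hE _ ⟨s, tv_mem_eGroup hF h.ee hμ, rfl⟩
    have hsf : act s f = f + c⁻¹ • e := by rw [hs, tv_act, h.fe, mul_one]
    have hte : act (tv hF f c hff hc) e = c • act s f := by
      rw [hsf, tv_act, h.ef, mul_one, smul_add, smul_inv_smul₀ hc0, add_comm]
    have h2 : IsTv hF (act s f) (mkP (tv hF f c hff hc) * y * (mkP (tv hF f c hff hc))⁻¹) := by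
      have := isTv_conj hF (tv hF f c hff hc) hy
      rwa [hte, isTv_smul hF hc0] at this
    have h3 : IsTv hF f ((mkP s)⁻¹ * (mkP (tv hF f c hff hc) * y * (mkP (tv hF f c hff hc))⁻¹)
        * mkP s) := by
      have := isTv_conj hF s⁻¹ h2
      rwa [act_inv_act, map_inv, inv_inv] at this
    have h4 := (hα.pf _).1 h3
    rw [map_mul, map_mul, map_mul, map_mul, map_inv, map_inv, hs', hTe y hy,
      show α (mkP (tv hF f c hff hc)) = mkP (tv hF f c' hff' hc') from hx'] at h4
    have h5 := isTv_conj hF s h4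
    rw [show mkP s * ((mkP s)⁻¹ * (mkP (tv hF f c' hff' hc') * y
      * (mkP (tv hF f c' hff' hc'))⁻¹) * mkP s) * (mkP s)⁻¹ = mkP (tv hF f c' hff' hc') * y
      * (mkP (tv hF f c' hff' hc'))⁻¹ by group] at h5
    have h6 := isTv_conj hF (tv hF f c' hff' hc') hy
    obtain ⟨b, -, hb⟩ := eq_smul_of_isTv hF hn
      (act_smul_right_inj _ h.e_ne) h6 h5
    rw [hsf, tv_act, h.ef, mul_one] at hb
    have e1 := congrArg (fun z => hermForm n F q z e) hb
    have e2 := congrArg (fun z => hermForm n F q z f) hb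
    simp only [herm_add_left, herm_smul_left, h.ee, h.fe, h.ef, h.ff, mul_one, mul_zero,
      add_zero, zero_add] at e1 e2
    have hcc : c' = c := by
      rw [← e1] at e2
      field_simp at e2
      exact e2.symm
    subst hcc
    exact hx'
  -- the fixed subgroup
  set Fx : Subgroup (SU n F q) := (MonoidHom.eqLocus ((α : PSU n F q →* PSU n F q).comp mkP) mkP)
    with hFx
  have memFx : ∀ {s : SU n F q}, s ∈ Fx ↔ α (mkP s) = mkP s := fun {s} => Iff.rfl
  have hmove : ∀ {v : Fin n → F} (g : SU n F q), g ∈ Fx → (∀ x, IsTv hF v x → α x = x) →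
      ∀ x, IsTv hF (act g v) x → α x = x := by
    intro v g hg hv x hx
    have h1 := isTv_conj hF g⁻¹ hx
    rw [act_inv_act, map_inv, inv_inv] at h1
    have h2 := hv _ h1
    rw [map_mul, map_mul, map_inv, memFx.1 hg] at h2
    exact mul_left_cancel (mul_right_cancel h2)
  have hnon : ∀ v, hermForm n F q v v = 0 → hermForm n F q v e ≠ 0 →
      ∀ x, IsTv hF v x → α x = x := by
    intro v hv hve x hx
    obtain ⟨w, μ, hw, hμ, hm⟩ := exists_eich_move hF h.ee h.ff
      (v := (hermForm n F q v e)⁻¹ • v) (by rw [herm_smul_left, herm_smul_right, hv]; ring) h.fe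
      (by rw [herm_smul_left, inv_mul_cancel₀ hve])
    refine hmove _ (memFx.2 (hE _ ⟨_, eich_mem_eGroup hF h.ee hw hμ, rfl⟩)) hTf x ?_
    rw [hm, isTv_smul hF (inv_ne_zero hve)]
    exact hx
  have hall : ∀ v, hermForm n F q v v = 0 → ∀ x, IsTv hF v x → α x = x := by
    intro v hv x hx
    by_cases hv0 : v = 0
    · subst hv0
      obtain ⟨c, hz, hc, -, rfl⟩ := hx
      rw [show tv hF (0 : Fin n → F) c hz hc = 1 from su_ext fun y => by
        rw [tv_act, act_one, smul_zero, add_zero], QuotientGroup.mk_one, map_one]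
    by_cases hve : hermForm n F q v e = 0
    swap
    · exact hnon v hv hve x hx
    obtain ⟨y, hye, hyv⟩ : ∃ y, hermForm n F q y e ≠ 0 ∧ hermForm n F q y v ≠ 0 := by
      obtain ⟨z, hz⟩ := exists_herm_ne hF hv0
      by_cases hze : hermForm n F q z e = 0
      · by_cases hfv : hermForm n F q f v = 0
        · exact ⟨z + f, by rw [herm_add_left, hze, h.fe, zero_add]; exact one_ne_zero,
            by rw [herm_add_left, hfv, add_zero]; exact hz⟩
        · exact ⟨f, by rw [h.fe]; exact one_ne_zero, hfv⟩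
      · exact ⟨z, hze, hz⟩
    obtain ⟨a, ha⟩ := exists_iso_add hF hv hyv
    set z := y + a • v with hzdef
    have hze : hermForm n F q z e ≠ 0 := by
      rw [hzdef, herm_add_left, herm_smul_left, hve, mul_zero, add_zero]; exact hye
    have hzv : hermForm n F q z v ≠ 0 := by
      rw [hzdef, herm_add_left, herm_smul_left, hv, mul_zero, add_zero]; exact hyv
    obtain ⟨c, hc0, hc⟩ := exists_skew hF
    set g := tv hF z c ha hc with hg
    have hgm : g ∈ Fx := memFx.2 (hnon z ha hze _ (isTv_mk hF ha hc hc0))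
    have h1 : hermForm n F q (act g⁻¹ v) (act g⁻¹ v) = 0 := by rw [herm_act, hv]
    have h2 : hermForm n F q (act g⁻¹ v) e ≠ 0 := by
      intro h0
      have h3 : v = act g (act g⁻¹ v) := (act_act_inv g v).symm
      set u := act g⁻¹ v with hu
      have h4 : hermForm n F q v z = hermForm n F q u z := by
        rw [h3, hg, tv_act, herm_add_left, herm_smul_left, ha, mul_zero, add_zero]
      rw [h3, hg, tv_act, herm_add_left, herm_smul_left, h0, zero_add, ← h4] at hve
      exact mul_ne_zero (mul_ne_zero hc0 (herm_skew_ne hF hzv)) hze hve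
    have h5 := hmove g hgm (hnon _ h1 h2) x
    rw [act_act_inv] at h5
    exact h5 hx
  have htop : Fx = ⊤ := by
    rw [eq_top_iff, ← tGroup_eq_top (F := F) hF (by omega) h32, tGroup, Subgroup.closure_le]
    rintro A ⟨v, c, hv, hA⟩
    rcases eq_tv_or_one hF hv hA with rfl | ⟨hc, rfl, -⟩
    · exact Fx.one_mem
    · rcases eq_or_ne c 0 with rfl | hc0
      · rw [show tv hF v 0 hv hc = 1 from su_ext fun y => by
          rw [tv_act, act_one, zero_mul, zero_smul, add_zero]]
        exact Fx.one_mem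
      · exact memFx.2 (hall v hv _ (isTv_mk hF hv hc hc0))
  apply MulEquiv.ext
  intro x
  induction x using QuotientGroup.induction_on with
  | H s => exact memFx.1 (htop ▸ Subgroup.mem_top s)

/-- Every automorphism of `PSU` is induced by a semilinear unitary map up to an inner one. -/
theorem exists_decomp (hF : Fintype.card F = q ^ 2) (hn : 3 ≤ n) (h32 : ¬(n = 3 ∧ q = 2))
    (α : MulAut (PSU n F q)) :
    ∃ (s : SU n F q) (g : GU n F q) (σ : F ≃+* F),
      α = cj (suToGU s) * (cj g * fd σ) := by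
  obtain ⟨e, f, h⟩ := exists_frame (n := n) (F := F) (q := q) hF hn
  obtain ⟨e', he'0, he', hpe⟩ := exists_pointMap hF hn α h.e_ne h.ee
  obtain ⟨f', hf'0, hf', hpf⟩ := exists_pointMap hF hn α h.f_ne h.ff
  have hne : hermForm n F q f' e' ≠ 0 := by
    intro h0
    obtain ⟨x, hx⟩ := exists_isTv hF h.ff
    obtain ⟨y, hy⟩ := exists_isTv hF h.ee
    have h1 := (commute_isTv_iff hF hn hf'0 ((hpf x).1 hx) ((hpe y).1 hy)).2 h0
    have h2 := (commute_isTv_iff hF hn h.f_ne hx hy).1 (by simpa using h1.map α.symm)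
    rw [h.fe] at h2
    exact one_ne_zero h2
  obtain ⟨g₁, -, hg₁⟩ := exists_move hF hn (⊤ : Subgroup (SU n F q)) (fun _ _ _ _ _ _ => trivial)
    he'0 he' h.e_ne h.ee
  set u := act g₁ f' with hu
  have hue : hermForm n F q u e ≠ 0 := by rw [hu, ← hg₁, herm_act]; exact hne
  have huu : hermForm n F q u u = 0 := by rw [hu, herm_act, hf']
  obtain ⟨w, μ, hw, hμ, hm⟩ := exists_eich_move hF h.ee (u := (hermForm n F q u e)⁻¹ • u)
    (by rw [herm_smul_left, herm_smul_right, huu]; ring) h.ff
    (by rw [herm_smul_left, inv_mul_cancel₀ hue]) h.fe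
  set s := eich hF e w μ h.ee hw hμ * g₁ with hs
  have hse : act s e' = e := by rw [hs, act_mul, hg₁, eich_self]
  have hsf : act s f' = hermForm n F q u e • f := by
    rw [hs, act_mul, ← hu]
    conv_rhs => rw [← hm]
    rw [act_smul, smul_inv_smul₀ hue]
  set α₁ : MulAut (PSU n F q) := cj (suToGU s) * α with hα₁
  have hfix : Fix hF α₁ e f := by
    have key : ∀ {v v' : Fin n → F} {k : F}, v ≠ 0 → hermForm n F q v v = 0 → k ≠ 0 →
        (∀ x, IsTv hF v x ↔ IsTv hF v' (α x)) → act s v' = k • v → FixPt hF α₁ v := by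
      intro v v' k hv0 hvv hk hv hsv
      obtain ⟨x, hx⟩ := exists_isTv hF hvv
      refine fixPt_of_mem hF hn α₁ hv0 hvv hx ?_
      rw [← isTv_smul hF hk, ← hsv, hα₁, MulAut.mul_apply, cj_suToGU, MulAut.conj_apply]
      exact isTv_conj hF s ((hv x).1 hx)
    exact ⟨key h.e_ne h.ee one_ne_zero hpe (by rw [hse, one_smul]),
      key h.f_ne h.ff hue hpf hsf⟩
  obtain ⟨g, σ, hβ, hβe⟩ := exists_semilinear hF hn h32 h hfix
  set β : MulAut (PSU n F q) := cj g * fd σ with hβdef
  have hfix₂ : Fix hF (β⁻¹ * α₁) e f := by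
    exact ⟨fun x => (hfix.pe x).trans (hβ.pe.inv (α₁ x)),
      fun x => (hfix.pf x).trans (hβ.pf.inv (α₁ x))⟩
  have hone : β⁻¹ * α₁ = 1 := by
    refine eq_one_of_trivial hF hn h32 h hfix₂ fun w hw μ hμ => ?_
    obtain ⟨w', hw', μ', hμ', h1⟩ := exists_img hF hn h hfix₂ hw hμ
    obtain ⟨a, ha, h2⟩ := f0_spec hF hn h hfix hw hμ
    obtain ⟨b, hb, h3⟩ := hβe w' hw' μ' hμ'
    have h4 : f0 hF hn h hfix w' = f0 hF hn h hfix w := by
      refine (eP_inj hF hn h (hw := inW_f0 hF hn h hfix w') (hw' := inW_f0 hF hn h hfix w)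
        (hμ := hb) (hμ' := ha) ?_).1
      rw [← h3, ← h1, ← h2, MulAut.mul_apply]
      exact β.apply_symm_apply _
    obtain rfl := f0_inj hF hn h hfix hw' hw h4
    exact ⟨μ', hμ', h1⟩
  refine ⟨s⁻¹, g, σ, ?_⟩
  rw [inv_mul_eq_one] at hone
  rw [← hβdef, hone, hα₁, map_inv, map_inv, inv_mul_cancel_left]

end Cfsg.Agent.AutPSU52Main
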