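import Mathlib

/-!
Hilbert 90 for `GL n` and a finite-order automorphism of a field, surjectivity of the norm for finite fields,
the size of a fixed field, and the index of `n`-th powers times a subgroup in a cyclic group.
-/

set_option autoImplicit false

namespace Cfsg.Agent.GaloisDescentGL

open Matrix

variable {n : ℕ} {F : Type*} [Field F]

/-- The entrywise action of a field automorphism on `GL n F`. -/
def gmap (σ : F ≃+* F) : GL (Fin n) F →* GL (Fin n) F := Matrix.GeneralLinearGroup.map (σ : F →+* F)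

lemma coe_gmap (σ : F ≃+* F) (g : GL (Fin n) F) :
    (gmap σ g : Matrix (Fin n) (Fin n) F) = (g : Matrix (Fin n) (Fin n) F).map σ := rfl

/-- The twisted norm `a σ(a) ⋯ σ^(k-1)(a)`. -/
def ntw (σ : F ≃+* F) (a : GL (Fin n) F) : ℕ → GL (Fin n) F
  | 0 => 1
  | k + 1 => a * gmap σ (ntw σ a k)

/-- The semilinear map `v ↦ a σ(v)`. -/
def slin (σ : F ≃+* F) (a : GL (Fin n) F) (v : Fin n → F) : Fin n → F :=
  (a : Matrix (Fin n) (Fin n) F) *ᵥ fun i => σ (v i)

lemma map_mulVec' (σ : F ≃+* F) (M : Matrix (Fin n) (Fin n) F) (v : Fin n → F) :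
    (fun i => σ ((M *ᵥ v) i)) = M.map σ *ᵥ fun i => σ (v i) :=
  funext fun i => RingHom.map_mulVec (σ : F →+* F) M v i

lemma slin_iterate (σ : F ≃+* F) (a : GL (Fin n) F) (k : ℕ) (v : Fin n → F) :
    (slin σ a)^[k] v = (ntw σ a k : Matrix (Fin n) (Fin n) F) *ᵥ fun i => (σ ^ k) (v i) := by
  induction k generalizing v with
  | zero => simp [ntw]
  | succ k ih =>
    rw [Function.iterate_succ_apply', ih, slin, map_mulVec', mulVec_mulVec]
    congr 1
    ext i
    rw [pow_succ', RingAut.mul_apply]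

lemma slin_smul (σ : F ≃+* F) (a : GL (Fin n) F) (c : F) (v : Fin n → F) :
    slin σ a (c • v) = σ c • slin σ a v := by
  rw [slin, slin, ← mulVec_smul]
  congr 1
  ext i
  simp

lemma slin_iterate_smul (σ : F ≃+* F) (a : GL (Fin n) F) (k : ℕ) (c : F) (v : Fin n → F) :
    (slin σ a)^[k] (c • v) = (σ ^ k) c • (slin σ a)^[k] v := by
  induction k with
  | zero => simp
  | succ k ih =>
    rw [Function.iterate_succ_apply', Function.iterate_succ_apply', ih, slin_smul, pow_succ', RingAut.mul_apply]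

lemma slin_sum (σ : F ≃+* F) (a : GL (Fin n) F) {α : Type*} (s : Finset α) (g : α → Fin n → F) :
    slin σ a (∑ x ∈ s, g x) = ∑ x ∈ s, slin σ a (g x) := by
  simp only [slin]
  rw [← mulVec_sum]
  congr 1
  ext i
  simp [map_sum]

variable [Finite F]

lemma orderOf_pos' (σ : F ≃+* F) : 0 < orderOf σ := by
  haveI : Finite (F ≃+* F) := Finite.of_injective (fun σ => (σ : F → F)) DFunLike.coe_injective
  exact orderOf_pos σ

/-- Hilbert 90 for `GL n`. -/
theorem hilbert90 (σ : F ≃+* F) (a : GL (Fin n) F) (h : ntw σ a (orderOf σ) = 1) :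
    ∃ b : GL (Fin n) F, a = b * (gmap σ b)⁻¹ := by
  classical
  set r := orderOf σ with hr
  have hr0 : 0 < r := orderOf_pos' σ
  have hper : ∀ v, (slin σ a)^[r] v = v := by
    intro v
    rw [slin_iterate, h, hr, pow_orderOf_eq_one, Units.val_one, one_mulVec]
    rfl
  set S : Set (Fin n → F) := {v | slin σ a v = v}
  have hspan : Submodule.span F S = ⊤ := by
    by_contra hne
    obtain ⟨φ, hφ, hker⟩ := Submodule.exists_le_ker_of_lt_top _ (lt_top_iff_ne_top.2 hne)
    apply hφ
    refine LinearMap.ext fun v => ?_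
    have hfix : ∀ c : F, ∑ k ∈ Finset.range r, (slin σ a)^[k] (c • v) ∈ S := by
      intro c
      show slin σ a _ = _
      rw [slin_sum]
      simp only [← Function.iterate_succ_apply' (slin σ a)]
      have e1 := Finset.sum_range_succ' (fun k => (slin σ a)^[k] (c • v)) r
      have e2 := Finset.sum_range_succ (fun k => (slin σ a)^[k] (c • v)) r
      rw [e2, hper] at e1
      simp only [Function.iterate_zero, id_eq] at e1
      exact (add_right_cancel e1).symm
    let χ : Fin r → (F →* F) := fun k => ((σ ^ (k : ℕ) : F ≃+* F) : F →+* F).toMonoidHom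
    have hinj : Function.Injective χ := by
      intro i j e
      apply Fin.ext
      refine pow_injOn_Iio_orderOf (x := σ) (hr ▸ i.isLt) (hr ▸ j.isLt) (RingEquiv.ext fun x => ?_)
      exact DFunLike.congr_fun e x
    have hli := (linearIndependent_monoidHom F F).comp χ hinj
    have hz := Fintype.linearIndependent_iff.1 hli (fun k => φ ((slin σ a)^[(k : ℕ)] v)) (by
      funext c
      have h0 : φ (∑ k ∈ Finset.range r, (slin σ a)^[k] (c • v)) = 0 := hker (Submodule.subset_span (hfix c))
      rw [map_sum] at h0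
      simp only [slin_iterate_smul, map_smul, smul_eq_mul] at h0
      rw [Finset.sum_range] at h0
      simp only [Finset.sum_apply, Pi.smul_apply, Function.comp_apply, Pi.zero_apply, smul_eq_mul, χ]
      rw [← h0]
      exact Finset.sum_congr rfl fun k _ => mul_comm _ _)
    simpa using hz ⟨0, hr0⟩
  obtain ⟨t, htS, htsp, htli⟩ := exists_linearIndependent F S
  let B : Module.Basis t F (Fin n → F) := Module.Basis.mk htli (by rw [Subtype.range_coe, htsp, hspan])
  haveI := FiniteDimensional.fintypeBasisIndex B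
  have hcard : Fintype.card t = n := by
    rw [← Module.finrank_eq_card_basis B, Module.finrank_pi, Fintype.card_fin]
  let e : Fin n ≃ t := (finCongr hcard.symm).trans (Fintype.equivFin t).symm
  let B' : Module.Basis (Fin n) F (Fin n → F) := B.reindex e.symm
  let M : Matrix (Fin n) (Fin n) F := Matrix.of fun i j => B' j i
  have hMu : IsUnit M := by
    refine Matrix.linearIndependent_cols_iff_isUnit.1 ?_
    exact B'.linearIndependent
  have hcol : ∀ j, slin σ a (B' j) = B' j := by
    intro j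
    have : B' j = ((e j : t) : Fin n → F) := by
      rw [Module.Basis.reindex_apply, Equiv.symm_symm, Module.Basis.mk_apply]
    rw [this]
    exact htS (e j).2
  obtain ⟨b, hb⟩ := hMu
  refine ⟨b, ?_⟩
  rw [eq_mul_inv_iff_mul_eq]
  apply Units.ext
  ext i j
  rw [Units.val_mul, coe_gmap, hb]
  exact congrFun (hcol j) i

omit [Finite F] in
lemma gmap_scalar (σ : F ≃+* F) (u : Fˣ) :
    gmap σ (Matrix.GeneralLinearGroup.scalar (Fin n) u) =
      Matrix.GeneralLinearGroup.scalar (Fin n) (Units.map (σ : F →* F) u) := by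
  apply Units.ext
  rw [coe_gmap, Matrix.GeneralLinearGroup.coe_scalar, Matrix.GeneralLinearGroup.coe_scalar, Units.coe_map]
  ext i j
  rcases eq_or_ne i j with rfl | hij <;> simp [*]

/-- The norm of a unit along `σ`. -/
noncomputable def unorm (σ : F ≃+* F) : Fˣ →* Fˣ where
  toFun u := ∏ k ∈ Finset.range (orderOf σ), Units.map ((σ ^ k : F ≃+* F) : F →* F) u
  map_one' := by simp
  map_mul' u v := by simp [Finset.prod_mul_distrib]

omit [Finite F] in
lemma ntw_scalar (σ : F ≃+* F) (u : Fˣ) (k : ℕ) :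
    ntw σ (Matrix.GeneralLinearGroup.scalar (Fin n) u) k =
      Matrix.GeneralLinearGroup.scalar (Fin n) (∏ i ∈ Finset.range k, Units.map ((σ ^ i : F ≃+* F) : F →* F) u) := by
  induction k with
  | zero => simp [ntw]
  | succ k ih =>
    rw [ntw, ih, gmap_scalar, ← map_mul, map_prod, Finset.prod_range_succ' _ k, mul_comm]
    congr 1
    congr 1
    · refine Finset.prod_congr rfl fun i _ => ?_
      apply Units.ext
      simp [pow_succ', RingAut.mul_apply]

omit [Finite F] in
lemma unorm_fixed (σ : F ≃+* F) (u : Fˣ) : Units.map (σ : F →* F) (unorm σ u) = unorm σ u := by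
  rcases Nat.eq_zero_or_pos (orderOf σ) with h0 | hpos
  · simp [unorm, h0]
  show Units.map _ (∏ k ∈ Finset.range (orderOf σ), _) = ∏ k ∈ Finset.range (orderOf σ), _
  rw [map_prod]
  obtain ⟨m, hm⟩ : ∃ m, orderOf σ = m + 1 := ⟨orderOf σ - 1, by omega⟩
  rw [hm]
  conv_rhs => rw [Finset.prod_range_succ']
  rw [Finset.prod_range_succ]
  congr 1
  · refine Finset.prod_congr rfl fun i _ => ?_
    apply Units.ext
    simp [pow_succ', RingAut.mul_apply]
  · apply Units.ext
    have : σ ^ (m + 1) = 1 := by rw [← hm, pow_orderOf_eq_one]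
    have h2 : σ ((σ ^ m) (u : F)) = u := by
      rw [← RingAut.mul_apply, ← pow_succ', this]; rfl
    simpa using h2

/-- Hilbert 90 for units. -/
theorem hilbert90_units (σ : F ≃+* F) (u : Fˣ) (h : unorm σ u = 1) :
    ∃ y : Fˣ, u = y * (Units.map (σ : F →* F) y)⁻¹ := by
  obtain ⟨b, hb⟩ := hilbert90 (n := 1) σ (Matrix.GeneralLinearGroup.scalar (Fin 1) u) (by
    rw [ntw_scalar]
    show Matrix.GeneralLinearGroup.scalar _ (unorm σ u) = 1
    rw [h, map_one])
  rw [eq_mul_inv_iff_mul_eq] at hb
  have hb' : ((Matrix.GeneralLinearGroup.scalar (Fin 1) u * gmap σ b : GL (Fin 1) F) : Matrix (Fin 1) (Fin 1) F) 0 0 =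
      (b : Matrix (Fin 1) (Fin 1) F) 0 0 := by rw [hb]
  rw [Units.val_mul, Matrix.mul_apply, Fin.sum_univ_one, coe_gmap] at hb'
  simp at hb'
  have hne : (b : Matrix (Fin 1) (Fin 1) F) 0 0 ≠ 0 := by
    have := ((Matrix.isUnit_iff_isUnit_det _).1 b.isUnit).ne_zero
    rwa [Matrix.det_fin_one] at this
  refine ⟨Units.mk0 _ hne, ?_⟩
  rw [eq_mul_inv_iff_mul_eq]
  exact Units.ext (by simpa using hb')

/-- The units fixed by `σ`. -/
def fixedUnits (σ : F ≃+* F) : Subgroup Fˣ :=
  (Units.map (σ : F →* F)).eqLocus (MonoidHom.id Fˣ)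

theorem range_unorm (σ : F ≃+* F) : (unorm σ).range = fixedUnits σ := by
  let ψ : Fˣ →* Fˣ :=
    { toFun := fun y => y * (Units.map (σ : F →* F) y)⁻¹
      map_one' := by simp
      map_mul' := fun a b => by rw [map_mul, _root_.mul_inv_rev]; ac_rfl }
  have h1 : ψ.ker = fixedUnits σ := by
    ext y
    show y * (Units.map (σ : F →* F) y)⁻¹ = 1 ↔ Units.map (σ : F →* F) y = y
    rw [mul_inv_eq_one, eq_comm]
  have h2 : (unorm σ).ker ≤ ψ.range := fun u hu =>
    let ⟨y, hy⟩ := hilbert90_units σ u hu; ⟨y, hy.symm⟩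
  have h3 : (unorm σ).range ≤ fixedUnits σ := by
    rintro _ ⟨u, rfl⟩; exact unorm_fixed σ u
  refine Subgroup.eq_of_le_of_card_ge h3 ?_
  have a := (unorm σ).ker.card_mul_index
  have b := ψ.ker.card_mul_index
  rw [Subgroup.index_ker] at a b
  rw [h1] at b
  have c : Nat.card (unorm σ).ker ≤ Nat.card ψ.range := Nat.card_le_card_of_injective _ (Subgroup.inclusion_injective h2)
  refine Nat.le_of_mul_le_mul_left ?_ (Nat.card_pos (α := ψ.range))
  calc Nat.card ψ.range * Nat.card (fixedUnits σ) = Nat.card (unorm σ).ker * Nat.card (unorm σ).range := by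
        rw [mul_comm, b, a]
    _ ≤ _ := Nat.mul_le_mul_right _ c

/-- The cardinality of the fixed field. -/
theorem card_fixed (σ : F ≃+* F) : Nat.card {x : F // σ x = x} ^ orderOf σ = Nat.card F := by
  classical
  haveI : Fintype F := Fintype.ofFinite F
  haveI : Finite (F ≃+* F) := Finite.of_injective (fun σ => (σ : F → F)) DFunLike.coe_injective
  let G : Subgroup (F ≃+* F) := Subgroup.zpowers σ
  haveI : Fintype G := Fintype.ofFinite G
  haveI : FaithfulSMul G F := ⟨fun h => Subtype.ext (RingEquiv.ext h)⟩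
  have h := FixedPoints.finrank_eq_card G F
  rw [← Nat.card_eq_fintype_card (α := G), Nat.card_zpowers] at h
  have e : ∀ x : F, x ∈ FixedPoints.subfield G F ↔ σ x = x := by
    intro x
    constructor
    · exact fun hx => hx ⟨σ, Subgroup.mem_zpowers σ⟩
    · rintro hx ⟨τ, hτ⟩
      show τ x = x
      have : σ ∈ MulAction.stabilizer (F ≃+* F) x := hx
      exact (Subgroup.zpowers_le.2 this) hτ
  rw [← h, ← Nat.card_congr (Equiv.subtypeEquivRight e), ← Module.natCard_eq_pow_finrank]

theorem card_fixedUnits (σ : F ≃+* F) : Nat.card (fixedUnits σ) + 1 = Nat.card {x : F // σ x = x} := by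
  classical
  haveI : Fintype F := Fintype.ofFinite F
  let e : ↥(fixedUnits σ) ≃ {x : {x : F // σ x = x} // x ≠ ⟨0, map_zero σ⟩} :=
    { toFun := fun u => ⟨⟨(u.1 : F), congrArg Units.val (u.2 : Units.map (σ : F →* F) u.1 = u.1)⟩,
        fun e => u.1.ne_zero (congrArg Subtype.val e)⟩
      invFun := fun x => ⟨Units.mk0 x.1.1 (fun e => x.2 (Subtype.ext e)),
        show Units.map (σ : F →* F) _ = _ from Units.ext (by simpa using x.1.2)⟩
      left_inv := fun u => Subtype.ext (Units.ext rfl)
      right_inv := fun x => Subtype.ext (Subtype.ext rfl) }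
  rw [Nat.card_congr e, Nat.card_eq_fintype_card, Nat.card_eq_fintype_card,
    Fintype.card_subtype_compl, Fintype.card_subtype_eq]
  exact Nat.sub_add_cancel (Fintype.card_pos_iff.2 ⟨⟨0, map_zero σ⟩⟩)

/-- In a cyclic group, the index of the `n`-th powers times a subgroup. -/
theorem index_powers_sup {G : Type*} [CommGroup G] [IsCyclic G] [Finite G] (n : ℕ) (U : Subgroup G) :
    ((powMonoidHom n : G →* G).range ⊔ U).index = Nat.gcd n U.index := by
  have hU : U = (powMonoidHom U.index : G →* G).range := by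
    symm
    refine Subgroup.eq_of_le_of_card_ge ?_ ?_
    · rintro _ ⟨x, rfl⟩
      exact U.pow_index_mem x
    · rw [IsCyclic.card_powMonoidHom_range, Nat.gcd_eq_right (Subgroup.index_dvd_card U),
        ← U.card_mul_index, Nat.mul_div_cancel _ (Nat.pos_of_ne_zero Subgroup.index_ne_zero_of_finite)]
  have key : ∀ m k : ℕ, (powMonoidHom m : G →* G).range ⊔ (powMonoidHom k : G →* G).range =
      (powMonoidHom (Nat.gcd m k) : G →* G).range := by
    intro m k
    refine le_antisymm (sup_le ?_ ?_) ?_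
    · rintro _ ⟨x, rfl⟩
      obtain ⟨c, hc⟩ := Nat.gcd_dvd_left m k
      exact ⟨x ^ c, by simp only [powMonoidHom_apply]; rw [← pow_mul, mul_comm, ← hc]⟩
    · rintro _ ⟨x, rfl⟩
      obtain ⟨c, hc⟩ := Nat.gcd_dvd_right m k
      exact ⟨x ^ c, by simp only [powMonoidHom_apply]; rw [← pow_mul, mul_comm, ← hc]⟩
    · rintro _ ⟨x, rfl⟩
      have : powMonoidHom (Nat.gcd m k) x = (x ^ Nat.gcdA m k) ^ m * (x ^ Nat.gcdB m k) ^ k := by
        simp only [powMonoidHom_apply]
        rw [← zpow_natCast x (Nat.gcd m k), Nat.gcd_eq_gcd_ab, _root_.zpow_add, mul_comm (m : ℤ), mul_comm (k : ℤ),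
          _root_.zpow_mul, _root_.zpow_mul, zpow_natCast, zpow_natCast]
      rw [this]
      exact Subgroup.mul_mem_sup ⟨_, rfl⟩ ⟨_, rfl⟩
  conv_lhs => rw [hU, key, IsCyclic.index_powMonoidHom_range]
  rw [Nat.gcd_comm]
  exact Nat.gcd_eq_left ((Nat.gcd_dvd_right n _).trans (Subgroup.index_dvd_card U))

end Cfsg.Agent.GaloisDescentGL
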