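import Mathlib

/-!
Hilbert 90 and norm surjectivity for a finite commutative ring with an involution moving some
element by a unit.
-/

set_option autoImplicit false

namespace Cfsg.Agent.NormHilbert90

variable {S : Type*} [CommRing S] [Finite S]

/-- For `u * τ u = 1` some `a + u * τ a` is a unit. -/
theorem exists_isUnit_add_mul (τ : S →+* S) (hτ : ∀ x, τ (τ x) = x) (c : S) (hc : IsUnit (c - τ c))
    (u : S) (hu : u * τ u = 1) : ∃ a : S, IsUnit (a + u * τ a) := by
  classical
  have huU : IsUnit u := IsUnit.of_mul_eq_one _ hu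
  let ι := {I : Ideal S // I.IsMaximal}
  haveI : Finite (Ideal S) := Finite.of_injective _ (SetLike.coe_injective (A := Ideal S))
  haveI : Fintype ι := Fintype.ofFinite ι
  let idx := Fintype.equivFin ι
  have hsurj : Function.Surjective τ := fun x => ⟨τ x, hτ x⟩
  let sw : ι → ι := fun I => ⟨I.1.comap τ, by
    haveI := I.2
    exact Ideal.comap_isMaximal_of_surjective τ hsurj⟩
  have hsw : ∀ I, sw (sw I) = I := by
    intro I
    refine Subtype.ext (Ideal.ext fun x => ?_)
    show τ (τ x) ∈ I.1 ↔ x ∈ I.1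
    rw [hτ]
  let f : ι → S := fun I =>
    if sw I = I then (if 1 + u ∈ I.1 then c else 1) else (if idx I < idx (sw I) then 1 else 0)
  obtain ⟨a, ha⟩ := Ideal.exists_forall_sub_mem_ideal (I := fun I : ι => I.1) (fun I J hIJ => by
    show IsCoprime I.1 J.1
    rw [Ideal.isCoprime_iff_sup_eq]
    exact Ideal.IsMaximal.coprime_of_ne I.2 J.2 (fun h => hIJ (Subtype.ext h))) f
  refine ⟨a, ?_⟩
  by_contra hnu
  obtain ⟨M, hM, hmem⟩ := exists_max_ideal_of_mem_nonunits hnu
  let I : ι := ⟨M, hM⟩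
  have h2 : τ (a - f (sw I)) ∈ M := ha (sw I)
  have h3 : f I + u * τ (f (sw I)) ∈ M := by
    have : f I + u * τ (f (sw I)) = (a + u * τ a) - (a - f I) - u * τ (a - f (sw I)) := by
      rw [map_sub]; ring
    rw [this]
    exact M.sub_mem (M.sub_mem hmem (ha I)) (M.mul_mem_left _ h2)
  by_cases hfix : sw I = I
  · rw [hfix] at h3
    by_cases h1 : 1 + u ∈ M
    · have hf : f I = c := by simp [f, hfix, show (1 + u ∈ I.1) from h1]
      rw [hf] at h3
      have : u * (c - τ c) ∈ M := by
        have : u * (c - τ c) = c * (1 + u) - (c + u * τ c) := by ring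
        rw [this]
        exact M.sub_mem (M.mul_mem_left _ h1) h3
      exact hM.ne_top (Ideal.eq_top_of_isUnit_mem _ this (huU.mul hc))
    · have hf : f I = 1 := by simp [f, hfix, show ¬ (1 + u ∈ I.1) from h1]
      rw [hf, map_one, mul_one] at h3
      exact h1 h3
  · have hfix' : ¬ sw (sw I) = sw I := by
      rw [hsw]; exact fun h => hfix h.symm
    rcases lt_trichotomy (idx I) (idx (sw I)) with h | h | h
    · have hf : f I = 1 := by simp [f, hfix, h]
      have hf' : f (sw I) = 0 := by simp [f, hfix', hsw, h.not_gt, Ne.symm hfix]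
      rw [hf, hf', map_zero, mul_zero, add_zero] at h3
      exact hM.ne_top (Ideal.eq_top_iff_one M |>.2 h3)
    · exact hfix (idx.injective h).symm
    · have hf : f I = 0 := by simp [f, hfix, h.not_gt]
      have hf' : f (sw I) = 1 := by simp [f, hfix', hsw, h, Ne.symm hfix]
      rw [hf, hf', map_one, mul_one, zero_add] at h3
      exact hM.ne_top (Ideal.eq_top_of_isUnit_mem _ h3 huU)

/-- Hilbert 90. -/
theorem exists_isUnit_eq_mul (τ : S →+* S) (hτ : ∀ x, τ (τ x) = x) (c : S) (hc : IsUnit (c - τ c))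
    (u : S) (hu : u * τ u = 1) : ∃ s : S, IsUnit s ∧ u * τ s = s := by
  obtain ⟨a, ha⟩ := exists_isUnit_add_mul τ hτ c hc u hu
  refine ⟨_, ha, ?_⟩
  rw [map_add, map_mul, hτ, mul_add, ← mul_assoc u (τ u) a, hu, one_mul, add_comm]

/-- The norm `s ↦ s * τ s` maps the units onto the fixed units. -/
theorem exists_norm_eq (τ : S →+* S) (hτ : ∀ x, τ (τ x) = x) (c : S) (hc : IsUnit (c - τ c))
    (r : S) (hr : IsUnit r) (hfix : τ r = r) : ∃ s : S, IsUnit s ∧ s * τ s = r := by
  let t : Sˣ →* Sˣ := Units.map τ.toMonoidHom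
  let ψ : Sˣ →* Sˣ :=
    { toFun := fun s => s * (t s)⁻¹
      map_one' := by simp
      map_mul' := fun a b => by rw [map_mul, mul_inv_rev]; ac_rfl }
  let N : Sˣ →* Sˣ :=
    { toFun := fun s => s * t s
      map_one' := by simp
      map_mul' := fun a b => by rw [map_mul]; ac_rfl }
  have htt : ∀ s : Sˣ, t (t s) = s := fun s => Units.ext (hτ s)
  have hker : N.ker = ψ.range := by
    ext s
    rw [MonoidHom.mem_ker, MonoidHom.mem_range]
    constructor
    · intro hs
      obtain ⟨z, hz, hzs⟩ := exists_isUnit_eq_mul τ hτ c hc (s : S) (congrArg Units.val hs)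
      refine ⟨hz.unit, ?_⟩
      show hz.unit * (t hz.unit)⁻¹ = s
      rw [mul_inv_eq_iff_eq_mul]
      exact Units.ext hzs.symm
    · rintro ⟨z, rfl⟩
      show z * (t z)⁻¹ * t (z * (t z)⁻¹) = 1
      rw [map_mul, map_inv, htt]
      rw [mul_mul_mul_comm, mul_comm ((t z)⁻¹) z⁻¹, mul_mul_mul_comm, mul_inv_cancel, mul_inv_cancel, one_mul]
  have hsub : N.range ≤ ψ.ker := by
    rintro _ ⟨z, rfl⟩
    show (z * t z) * (t (z * t z))⁻¹ = 1
    rw [map_mul, htt, mul_comm (t z) z, mul_inv_cancel]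
  have heq : Nat.card ψ.ker ≤ Nat.card N.range := by
    have h1 := Subgroup.index_ker N
    have h2 := Subgroup.index_ker ψ
    have h3 := N.ker.card_mul_index
    have h4 := ψ.ker.card_mul_index
    rw [h1, hker] at h3
    rw [h2] at h4
    have h5 : Nat.card ψ.range * Nat.card N.range = Nat.card ψ.range * Nat.card ψ.ker := by
      rw [h3, ← h4, mul_comm]
    exact (Nat.eq_of_mul_eq_mul_left Nat.card_pos h5).ge
  have h := Subgroup.eq_of_le_of_card_ge hsub heq
  have hmem : hr.unit ∈ ψ.ker := by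
    show hr.unit * (t hr.unit)⁻¹ = 1
    rw [mul_inv_eq_one]
    exact Units.ext hfix.symm
  rw [← h] at hmem
  obtain ⟨s, hs⟩ := hmem
  exact ⟨s, s.isUnit, congrArg Units.val hs⟩

end Cfsg.Agent.NormHilbert90
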