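import Mathlib
import Cfsg.Prelude.Def_LieClassical
import Cfsg.Agent.Lib.NormHilbert90

/-!
Hermitian matrices over finite fields factor as `C* C` with `C` a polynomial in them.
-/

set_option autoImplicit false

open Matrix

namespace Cfsg.Agent.HermitianFactor

variable {K : Type*} [Field K] [Fintype K] {ι : Type*} [Fintype ι] [DecidableEq ι]

/-- `x ↦ x ^ q` is a ring automorphism of order two of the field with `q ^ 2` elements. -/
theorem exists_conjugation {q : ℕ} (hK : Fintype.card K = q ^ 2) :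
    ∃ σ : K →+* K, (∀ x, σ x = x ^ q) ∧ (∀ x, σ (σ x) = x) ∧ ∃ c : K, σ c ≠ c := by
  obtain ⟨p, _⟩ := CharP.exists K
  obtain ⟨e, hp, hpe⟩ := FiniteField.card K p
  haveI := Fact.mk hp
  obtain ⟨j, -, hj⟩ : ∃ j, j ≤ (e : ℕ) ∧ q = p ^ j := by
    rw [← Nat.dvd_prime_pow hp, ← hpe, hK]
    exact dvd_pow_self q two_ne_zero
  refine ⟨iterateFrobenius K p j, fun x => by rw [iterateFrobenius_def, hj], fun x => ?_, ?_⟩
  · rw [iterateFrobenius_def, iterateFrobenius_def, ← pow_mul, ← hj, ← pow_two, ← hK, FiniteField.pow_card]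
  · classical
    have hq : 1 < q := by
      have := Fintype.one_lt_card (α := K)
      rw [hK] at this
      nlinarith
    by_contra h
    push Not at h
    have hroot : ∀ x : K, x ^ q = x := fun x => by
      have := h x
      rwa [iterateFrobenius_def, ← hj] at this
    have hne := FiniteField.X_pow_card_sub_X_ne_zero K hq
    have hle : Fintype.card K ≤ q := by
      refine le_trans ?_ (le_trans (Polynomial.card_roots' _) (FiniteField.X_pow_card_sub_X_natDegree_eq K hq).le)
      refine le_trans (le_of_eq Finset.card_univ.symm) (le_trans (Finset.card_le_card ?_) (Multiset.toFinset_card_le _))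
      intro x _
      rw [Multiset.mem_toFinset, Polynomial.mem_roots hne]
      simp [hroot]
    rw [hK] at hle
    nlinarith

/-- Conjugate transpose with respect to `σ`. -/
def ct (σ : K →+* K) (X : Matrix ι ι K) : Matrix ι ι K := (X.map σ).transpose

variable {σ : K →+* K}

theorem ct_mul (X Y : Matrix ι ι K) : ct σ (X * Y) = ct σ Y * ct σ X := by
  simp [ct, Matrix.map_mul, Matrix.transpose_mul]

theorem ct_add (X Y : Matrix ι ι K) : ct σ (X + Y) = ct σ X + ct σ Y := by
  simp [ct, Matrix.map_add]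

theorem ct_one : ct σ (1 : Matrix ι ι K) = 1 := by
  simp [ct]

theorem ct_algebraMap (c : K) : ct σ (algebraMap K (Matrix ι ι K) c) = algebraMap K _ (σ c) := by
  simp [ct, Matrix.algebraMap_eq_diagonal, Matrix.diagonal_map]

theorem ct_ct (hσ : ∀ x, σ (σ x) = x) (X : Matrix ι ι K) : ct σ (ct σ X) = X := by
  ext i j
  simp [ct, hσ]

theorem isUnit_ct {X : Matrix ι ι K} (hX : IsUnit X) : IsUnit (ct σ X) := by
  obtain ⟨U, rfl⟩ := hX
  exact ⟨⟨ct σ U, ct σ ((U⁻¹ : (Matrix ι ι K)ˣ) : Matrix ι ι K), by rw [← ct_mul, Units.inv_mul, ct_one],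
    by rw [← ct_mul, Units.mul_inv, ct_one]⟩, rfl⟩

/-- The inverse of an invertible element of a finite subalgebra lies in it. -/
theorem inv_mem_of_finite {A : Type*} [Ring A] [Algebra K A] [Finite A] (S : Subalgebra K A)
    (u : Aˣ) (hu : (u : A) ∈ S) : ((u⁻¹ : Aˣ) : A) ∈ S := by
  have h : u⁻¹ = u ^ (orderOf u - 1) := by
    rw [inv_eq_iff_mul_eq_one, ← pow_succ', Nat.sub_add_cancel (orderOf_pos u), pow_orderOf_eq_one]
  rw [h, Units.val_pow_eq_pow_val]
  exact S.pow_mem hu _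

/-- Data for applying Hilbert 90 to the algebra generated by one element. -/
theorem adjoin_data {P : Matrix ι ι K} (τ : Matrix ι ι K → Matrix ι ι K)
    (hadd : ∀ x y, τ (x + y) = τ x + τ y)
    (hmul : ∀ x y, τ (x * y) = τ y * τ x)
    (halg : ∀ c, τ (algebraMap K _ c) = algebraMap K _ (σ c))
    (hP : τ P ∈ Algebra.adjoin K {P}) :
    ∀ x ∈ Algebra.adjoin K {P}, τ x ∈ Algebra.adjoin K {P} := by
  intro x hx
  induction hx using Algebra.adjoin_induction with
  | mem y hy => rw [Set.mem_singleton_iff.1 hy]; exact hP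
  | algebraMap c => rw [halg]; exact Subalgebra.algebraMap_mem _ _
  | add y z _ _ hy hz => rw [hadd]; exact add_mem hy hz
  | mul y z _ _ hy hz => rw [hmul]; exact mul_mem hz hy

theorem adjoin_comm {P x y : Matrix ι ι K} (hx : x ∈ Algebra.adjoin K {P})
    (hy : y ∈ Algebra.adjoin K {P}) : x * y = y * x := by
  rw [Algebra.adjoin_singleton_eq_range_aeval] at hx hy
  obtain ⟨a, rfl⟩ := hx
  obtain ⟨b, rfl⟩ := hy
  exact ((Polynomial.aeval P).map_mul a b).symm.trans
    ((congrArg _ (mul_comm a b)).trans ((Polynomial.aeval P).map_mul b a))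

/-- Hilbert 90 and norm surjectivity inside `K[P]`. -/
theorem adjoin_hilbert90 {P : Matrix ι ι K} (τ : Matrix ι ι K → Matrix ι ι K)
    (hadd : ∀ x y, τ (x + y) = τ x + τ y) (hmul : ∀ x y, τ (x * y) = τ y * τ x)
    (halg : ∀ c, τ (algebraMap K _ c) = algebraMap K _ (σ c))
    (hP : τ P ∈ Algebra.adjoin K {P}) (hinv : ∀ x ∈ Algebra.adjoin K {P}, τ (τ x) = x)
    (c : K) (hc : σ c ≠ c) :
    (P * τ P = 1 → ∃ s ∈ Algebra.adjoin K {P}, IsUnit s ∧ P * τ s = s) ∧
    (IsUnit P → τ P = P → ∃ s ∈ Algebra.adjoin K {P}, IsUnit s ∧ τ s * s = P) := by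
  let S := Algebra.adjoin K {P}
  letI : CommRing S :=
    { (inferInstance : Ring S) with mul_comm := fun x y => Subtype.ext (adjoin_comm x.2 y.2) }
  have hτ1 : τ 1 = 1 := by simpa using halg 1
  let τS : S →+* S :=
    { toFun := fun x => ⟨τ x.1, adjoin_data τ hadd hmul halg hP x.1 x.2⟩
      map_one' := Subtype.ext hτ1
      map_mul' := fun x y => Subtype.ext ((hmul x.1 y.1).trans
        (adjoin_comm (adjoin_data τ hadd hmul halg hP y.1 y.2) (adjoin_data τ hadd hmul halg hP x.1 x.2)))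
      map_zero' := Subtype.ext (by simpa using halg 0)
      map_add' := fun x y => Subtype.ext (hadd x.1 y.1) }
  have hττ : ∀ x, τS (τS x) = x := fun x => Subtype.ext (hinv x.1 x.2)
  have hlam : IsUnit (algebraMap K S c - τS (algebraMap K S c)) := by
    have : τS (algebraMap K S c) = algebraMap K S (σ c) := Subtype.ext (halg c)
    rw [this, ← map_sub]
    exact (sub_ne_zero.2 (Ne.symm hc)).isUnit.map _
  let P' : S := ⟨P, Algebra.subset_adjoin (Set.mem_singleton P)⟩
  constructor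
  · intro h
    obtain ⟨s, hs, he⟩ := NormHilbert90.exists_isUnit_eq_mul τS hττ _ hlam P' (Subtype.ext h)
    exact ⟨s.1, s.2, hs.map S.val, congrArg Subtype.val he⟩
  · intro hu hfix
    have hu' : IsUnit P' := by
      obtain ⟨U, hU⟩ := hu
      refine IsUnit.of_mul_eq_one ⟨((U⁻¹ : (Matrix ι ι K)ˣ) : Matrix ι ι K),
        inv_mem_of_finite S U (hU ▸ P'.2)⟩ (Subtype.ext ?_)
      show P * ((U⁻¹ : (Matrix ι ι K)ˣ) : Matrix ι ι K) = 1
      subst hU
      exact U.mul_inv
    obtain ⟨s, hs, he⟩ := NormHilbert90.exists_norm_eq τS hττ _ hlam P' hu' (Subtype.ext hfix)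
    exact ⟨s.1, s.2, hs.map S.val, (adjoin_comm (adjoin_data τ hadd hmul halg hP s.1 s.2) s.2).trans
      (congrArg Subtype.val he)⟩

/-- An invertible hermitian matrix is `s* s` for some polynomial `s` in it. -/
theorem exists_factor (hσ : ∀ x, σ (σ x) = x) (c : K) (hc : σ c ≠ c) {P : Matrix ι ι K}
    (hu : IsUnit P) (hfix : ct σ P = P) :
    ∃ s ∈ Algebra.adjoin K {P}, IsUnit s ∧ ct σ s * s = P :=
  (adjoin_hilbert90 (ct σ) ct_add ct_mul ct_algebraMap
    (hfix.symm ▸ Algebra.subset_adjoin (Set.mem_singleton P)) (fun x _ => ct_ct hσ x) c hc).2 hu hfix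

/-- If some invertible form is `A`-invariant, so is an invertible hermitian one. -/
theorem exists_hermitian_invariant (hσ : ∀ x, σ (σ x) = x) (c : K) (hc : σ c ≠ c)
    {A P : Matrix ι ι K} (hA : IsUnit A) (hP : IsUnit P) (hinv : ct σ A * P * A = P) :
    ∃ H : Matrix ι ι K, IsUnit H ∧ ct σ H = H ∧ ct σ A * H * A = H := by
  obtain ⟨U, rfl⟩ := hP
  have hP' : IsUnit (ct σ (U : Matrix ι ι K)) := isUnit_ct U.isUnit
  obtain ⟨U', hU'⟩ := hP'
  have hinv' : ct σ A * ct σ (U : Matrix ι ι K) * A = ct σ (U : Matrix ι ι K) := by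
    conv_rhs => rw [← hinv]
    rw [ct_mul, ct_mul, ct_ct hσ, mul_assoc]
  rw [← hU'] at hinv'
  let u : (Matrix ι ι K)ˣ := U⁻¹ * U'
  have hτu : (U : Matrix ι ι K) * (u : Matrix ι ι K) = ct σ (U : Matrix ι ι K) := by
    simp [u, hU']
  have hAu : Commute A (u : Matrix ι ι K) := by
    obtain ⟨B, rfl⟩ := hA
    have hB : ct σ (B : Matrix ι ι K) * (U : Matrix ι ι K) = (U : Matrix ι ι K) * ((B⁻¹ : (Matrix ι ι K)ˣ) : Matrix ι ι K) := by
      rw [Units.eq_mul_inv_iff_mul_eq]; exact hinv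
    have h : (U : Matrix ι ι K) * (((B⁻¹ : (Matrix ι ι K)ˣ) : Matrix ι ι K) * (u : Matrix ι ι K) * (B : Matrix ι ι K)) = (U : Matrix ι ι K) * (u : Matrix ι ι K) := by
      rw [← mul_assoc, ← mul_assoc, ← hB, mul_assoc (ct σ _), hτu, ← hU']
      exact hinv'
    have h' := U.isUnit.mul_left_cancel h
    rw [mul_assoc, Units.inv_mul_eq_iff_eq_mul] at h'
    exact h'.symm
  let τ : Matrix ι ι K → Matrix ι ι K := fun x => ((U⁻¹ : (Matrix ι ι K)ˣ) : Matrix ι ι K) * ct σ x * U
  have hmul : ∀ x y, τ (x * y) = τ y * τ x := by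
    intro x y
    simp only [τ, ct_mul, mul_assoc, Units.mul_inv_cancel_left]
  have hτu' : τ u = ((u⁻¹ : (Matrix ι ι K)ˣ) : Matrix ι ι K) := by
    have hcu : ct σ (u : Matrix ι ι K) * ct σ (U : Matrix ι ι K) = (U : Matrix ι ι K) := by
      rw [← ct_mul, hτu, ct_ct hσ]
    rw [← hU', ← Units.eq_mul_inv_iff_mul_eq] at hcu
    show _ * ct σ (u : Matrix ι ι K) * _ = _
    rw [hcu, Units.inv_mul_cancel_left]
    simp [u, _root_.mul_inv_rev]
  have hP1 : τ u ∈ Algebra.adjoin K {(u : Matrix ι ι K)} := by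
    rw [hτu']
    exact inv_mem_of_finite _ u (Algebra.subset_adjoin rfl)
  have hττ : ∀ x ∈ Algebra.adjoin K {(u : Matrix ι ι K)}, τ (τ x) = x := by
    intro x hx
    have h1 : ct σ (((U⁻¹ : (Matrix ι ι K)ˣ)) : Matrix ι ι K) = ((U'⁻¹ : (Matrix ι ι K)ˣ) : Matrix ι ι K) := by
      apply U'.isUnit.mul_right_cancel
      rw [Units.inv_mul, hU', ← ct_mul, Units.mul_inv, ct_one]
    simp only [τ, ct_mul, ct_ct hσ, h1, ← hU']
    calc ((U⁻¹ : (Matrix ι ι K)ˣ) : Matrix ι ι K) * ((U' : Matrix ι ι K) * (x * ((U'⁻¹ : (Matrix ι ι K)ˣ) : Matrix ι ι K))) * U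
        = (u : Matrix ι ι K) * x * ((u⁻¹ : (Matrix ι ι K)ˣ) : Matrix ι ι K) := by
          simp [u, mul_assoc]
      _ = x := by
          rw [adjoin_comm (Algebra.subset_adjoin rfl) hx, Units.mul_inv_cancel_right]
  obtain ⟨s, hs, hsu, he⟩ := (adjoin_hilbert90 (σ := σ) τ
    (fun x y => by simp only [τ, ct_add, mul_add, add_mul]) hmul
    (fun a => by simp only [τ, ct_algebraMap]; rw [mul_assoc, Algebra.commutes, Units.inv_mul_cancel_left])
    hP1 hττ c hc).1 (by rw [hτu', Units.mul_inv])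
  have hAs : Commute A s := by
    rw [Algebra.adjoin_singleton_eq_range_aeval] at hs
    obtain ⟨f, rfl⟩ := hs
    exact Algebra.commute_of_mem_adjoin_singleton_of_commute (Polynomial.aeval_mem_adjoin_singleton _ _) hAu
  refine ⟨(U : Matrix ι ι K) * s, U.isUnit.mul hsu, ?_, ?_⟩
  · have hsτ : ct σ s * (U : Matrix ι ι K) = (U : Matrix ι ι K) * τ s := by
      simp only [τ, mul_assoc, Units.mul_inv_cancel_left]
    have hτsmem : τ s ∈ Algebra.adjoin K {(u : Matrix ι ι K)} :=
      adjoin_data (σ := σ) τ (fun x y => by simp only [τ, ct_add, mul_add, add_mul]) hmul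
        (fun a => by simp only [τ, ct_algebraMap]; rw [mul_assoc, Algebra.commutes, Units.inv_mul_cancel_left]) hP1 s hs
    rw [ct_mul, ← hτu, ← mul_assoc, hsτ, mul_assoc, adjoin_comm hτsmem (Algebra.subset_adjoin rfl), he]
  · calc ct σ A * ((U : Matrix ι ι K) * s) * A = ct σ A * (U : Matrix ι ι K) * A * s := by
          rw [mul_assoc (ct σ A * (U : Matrix ι ι K)), hAs.eq]; noncomm_ring
      _ = (U : Matrix ι ι K) * s := by rw [hinv]

/-- Membership in `GU` as a matrix equation. -/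
theorem mem_GU_iff {n q : ℕ} (hq : ∀ x, σ x = x ^ q) (hσ : ∀ x, σ (σ x) = x) (A : GL (Fin n) K) :
    A ∈ Cfsg.GU n K q ↔ ct σ (A : Matrix (Fin n) (Fin n) K) * A = 1 := by
  have hform : ∀ u v : Fin n → K, Cfsg.hermForm n K q u v = u ⬝ᵥ fun i => σ (v i) := by
    intro u v; simp [Cfsg.hermForm, dotProduct, hq]
  have hmv : ∀ (M : Matrix (Fin n) (Fin n) K) (v : Fin n → K),
      (fun i => σ ((M *ᵥ v) i)) = M.map σ *ᵥ fun i => σ (v i) := fun M v => funext fun i => RingHom.map_mulVec σ M v i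
  have hkey : ct σ (A : Matrix (Fin n) (Fin n) K) * A = 1 ↔
      (A : Matrix (Fin n) (Fin n) K).transpose * (A : Matrix (Fin n) (Fin n) K).map σ = 1 := by
    constructor <;> intro h
    · have := congrArg Matrix.transpose h
      rwa [Matrix.transpose_mul, ct, Matrix.transpose_transpose, Matrix.transpose_one] at this
    · have := congrArg Matrix.transpose h
      rwa [Matrix.transpose_mul, Matrix.transpose_transpose, Matrix.transpose_one] at this
  rw [hkey]
  show (∀ u v, Cfsg.hermForm n K q ((A : Matrix (Fin n) (Fin n) K) *ᵥ u) ((A : Matrix (Fin n) (Fin n) K) *ᵥ v) = Cfsg.hermForm n K q u v) ↔ _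
  constructor
  · intro h
    ext i j
    have h' := h (Pi.single i 1) (Pi.single j 1)
    rw [hform, hform, hmv, ← Matrix.vecMul_transpose, ← Matrix.dotProduct_mulVec, Matrix.mulVec_mulVec] at h'
    have he : (fun k => σ ((Pi.single j (1 : K) : Fin n → K) k)) = Pi.single j 1 := by
      funext k; by_cases hk : k = j <;> simp [hk]
    rw [he] at h'
    simpa [Matrix.one_apply, Pi.single_apply, eq_comm] using h'
  · intro h u v
    rw [hform, hform, hmv, ← Matrix.vecMul_transpose, ← Matrix.dotProduct_mulVec, Matrix.mulVec_mulVec, h, Matrix.one_mulVec]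

end Cfsg.Agent.HermitianFactor
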