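import Mathlib
import Cfsg.Prelude.Def_LieTypeDatum

/-!
The number of classes into which a class splits, as an index.
-/

set_option autoImplicit false

namespace Cfsg.Agent.SplitClassIndex

/-- For a hom `π : G →* X` and a normal `K₀ ≤ G`, the `π(G)`-class of `x` splits into
`[G : K₀ C]` classes under `π(K₀)`, `C` the preimage of the centraliser of `x`. -/
theorem splitClassCount_eq {G X : Type*} [Group G] [Group X] (π : G →* X) (K₀ : Subgroup G) [K₀.Normal] (x : X) :
    Cfsg.splitClassCount π.range (K₀.map π) x = (K₀ ⊔ (Subgroup.centralizer ({x} : Set X)).comap π).index := by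
  set C := (Subgroup.centralizer ({x} : Set X)).comap π with hC
  have hmemC : ∀ c : G, c ∈ C ↔ π c * x = x * π c := fun c => by
    rw [hC, Subgroup.mem_comap, Subgroup.mem_centralizer_iff]
    constructor
    · exact fun h => (h x rfl).symm
    · rintro h y rfl; exact h.symm
  let cl : G → {y : X // Cfsg.IsConjUnder π.range x y} := fun g => ⟨π g * x * (π g)⁻¹, π g, ⟨g, rfl⟩, rfl⟩
  have hiff : ∀ g g' : G, Cfsg.IsConjUnder (K₀.map π) (cl g).1 (cl g').1 ↔ g⁻¹ * g' ∈ K₀ ⊔ C := by
    intro g g'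
    rw [← SetLike.mem_coe, Subgroup.normal_mul]
    constructor
    · rintro ⟨_, ⟨k, hk, rfl⟩, e⟩
      have hc : (k * g)⁻¹ * g' ∈ C := by
        rw [hmemC]
        simp only [cl] at e
        calc π ((k * g)⁻¹ * g') * x
            = (π g)⁻¹ * (π k)⁻¹ * (π g' * x * (π g')⁻¹) * π g' := by simp [mul_assoc]
          _ = x * π ((k * g)⁻¹ * g') := by rw [e]; simp [mul_assoc]
      refine ⟨g⁻¹ * k * g, ?_, _, hc, by group⟩
      simpa using Subgroup.Normal.conj_mem ‹K₀.Normal› k hk g⁻¹
    · rintro ⟨k, hk, c, hc, e⟩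
      refine ⟨π (g * k * g⁻¹), ⟨_, Subgroup.Normal.conj_mem ‹K₀.Normal› k hk g, rfl⟩, ?_⟩
      have hg' : g' = g * k * c := by rw [mul_assoc]; exact eq_mul_of_inv_mul_eq e.symm
      have hxc : π c * x * (π c)⁻¹ = x := by rw [(hmemC c).1 hc, mul_inv_cancel_right]
      show π g' * x * (π g')⁻¹ = _
      rw [hg']
      calc π (g * k * c) * x * (π (g * k * c))⁻¹ = π g * π k * (π c * x * (π c)⁻¹) * (π k)⁻¹ * (π g)⁻¹ := by
            simp [mul_assoc]
        _ = _ := by rw [hxc]; simp [cl, mul_assoc]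
  have hpre : ∀ y : {y : X // Cfsg.IsConjUnder π.range x y}, ∃ g, cl g = y := by
    rintro ⟨y, h, ⟨g, rfl⟩, e⟩
    exact ⟨g, Subtype.ext e.symm⟩
  choose pre hpre using hpre
  rw [Subgroup.index, Cfsg.splitClassCount]
  refine Nat.card_congr
    { toFun := Quot.lift (fun y => (QuotientGroup.mk (pre y) : G ⧸ (K₀ ⊔ C))) ?_
      invFun := Quotient.lift (fun g => Quot.mk _ (cl g)) ?_
      left_inv := ?_
      right_inv := ?_ }
  · intro y z hyz
    rw [QuotientGroup.eq, ← hiff, hpre, hpre]
    exact hyz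
  · intro g g' hgg
    apply Quot.sound
    rw [hiff]
    exact QuotientGroup.leftRel_apply.1 hgg
  · intro q
    induction q using Quot.ind with
    | mk y => exact congrArg (Quot.mk _) (hpre y)
  · intro q
    induction q using QuotientGroup.induction_on with
    | H g =>
      refine QuotientGroup.eq.2 ((hiff _ _).1 ?_)
      rw [hpre]
      exact ⟨1, Subgroup.one_mem _, by simp⟩

end Cfsg.Agent.SplitClassIndex
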