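import Mathlib
import Cfsg.Prelude.Def_StandardType
import Cfsg.Prelude.Def_LieTypeDatum
import Cfsg.Agent.Lib.AutPSLBasic
import Cfsg.Agent.Lib.AutPSLGeometry
import Cfsg.Agent.Lib.AutPSLMain
import Cfsg.Agent.Lib.AutPSLApi
import Cfsg.Agent.Lib.GaloisDescentGL
import Cfsg.Agent.Lib.SplitClassIndex
import Cfsg.Agent.Lib.NormHilbert90
import Cfsg.Agent.Lib.HermitianFactor

/-!
Field and graph-field automorphisms of `PSL n F`: cosets, centralisers, and splitting of classes.
-/

set_option autoImplicit false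

namespace Cfsg.Agent.AutPSLField

open Matrix
open Cfsg.Agent.AutPSLBasic Cfsg.Agent.AutPSLMain Cfsg.Agent.AutPSLApi Cfsg.Agent.GaloisDescentGL
open scoped MatrixGroups

variable {n : ℕ} {F : Type*} [Field F]

lemma mem_center (g : GL (Fin n) F) :
    g ∈ Subgroup.center (GL (Fin n) F) ↔ ∃ u : Fˣ, g = Matrix.GeneralLinearGroup.scalar (Fin n) u := by
  rw [Matrix.GeneralLinearGroup.center_eq_range_scalar, MonoidHom.mem_range]
  simp [eq_comm]

lemma cj_scalar (hn : 2 ≤ n) (u : Fˣ) : (cj (Matrix.GeneralLinearGroup.scalar (Fin n) u) : MulAut (P n F)) = 1 :=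
  (cj_eq_one_iff hn _).2 ((mem_center _).2 ⟨u, rfl⟩)

lemma cj_eq_cj (hn : 2 ≤ n) {g h : GL (Fin n) F} (e : (cj g : MulAut (P n F)) = cj h) :
    ∃ u : Fˣ, g = Matrix.GeneralLinearGroup.scalar (Fin n) u * h := by
  have : (cj (g * h⁻¹) : MulAut (P n F)) = 1 := by rw [map_mul, map_inv, e, mul_inv_cancel]
  obtain ⟨u, hu⟩ := (mem_center _).1 ((cj_eq_one_iff hn _).1 this)
  exact ⟨u, by rw [← hu, inv_mul_cancel_right]⟩

lemma fd_mul_cj' (σ : F ≃+* F) (g : GL (Fin n) F) :
    (fd σ : MulAut (P n F)) * cj g = cj (gmap σ g) * fd σ := fd_mul_cj σ g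

lemma scalar_comm (u : Fˣ) (g : GL (Fin n) F) :
    g * Matrix.GeneralLinearGroup.scalar (Fin n) u = Matrix.GeneralLinearGroup.scalar (Fin n) u * g :=
  Subgroup.mem_center_iff.1 ((mem_center _).2 ⟨u, rfl⟩) g

lemma ntw_succ' (σ : F ≃+* F) (a : GL (Fin n) F) (k : ℕ) :
    ntw σ a (k + 1) = ntw σ a k * gmap (σ ^ k) a := by
  induction k with
  | zero =>
    simp only [ntw]
    rw [map_one, one_mul, mul_one, pow_zero]
    exact Units.ext (by ext i j; rfl)
  | succ k ih =>
    rw [ntw, ih, map_mul, ← mul_assoc, ← ntw]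
    congr 1
    apply Units.ext
    ext i j
    show σ ((σ ^ k) _) = (σ ^ (k + 1)) _
    rw [pow_succ', RingAut.mul_apply]

lemma ntw_scalar_mul (σ : F ≃+* F) (u : Fˣ) (a : GL (Fin n) F) (k : ℕ) :
    ntw σ (Matrix.GeneralLinearGroup.scalar (Fin n) u * a) k =
      ntw σ (Matrix.GeneralLinearGroup.scalar (Fin n) u) k * ntw σ a k := by
  induction k with
  | zero => simp [ntw]
  | succ k ih =>
    simp only [ntw]
    rw [ih, map_mul, ntw_scalar, gmap_scalar, mul_assoc, mul_assoc, ← mul_assoc a, scalar_comm, mul_assoc]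

lemma pow_cj_fd (σ : F ≃+* F) (a : GL (Fin n) F) (k : ℕ) :
    (cj a * fd σ : MulAut (P n F)) ^ k = cj (ntw σ a k) * fd (σ ^ k) := by
  induction k with
  | zero => simp [ntw]
  | succ k ih =>
    rw [pow_succ', ih, ntw, map_mul, pow_succ', map_mul fd]
    calc (cj a * fd σ) * (cj (ntw σ a k) * fd (σ ^ k))
        = cj a * (fd σ * cj (ntw σ a k)) * fd (σ ^ k) := by simp only [mul_assoc]
      _ = _ := by rw [fd_mul_cj']; simp only [mul_assoc]

/-- An element of the coset of a field automorphism with the same order is conjugate to it. -/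
theorem field_coset [Fintype F] (hn : 2 ≤ n) (σ : F ≃+* F) (a : GL (Fin n) F)
    (h : (cj a * fd σ : MulAut (P n F)) ^ orderOf σ = 1) :
    ∃ b : GL (Fin n) F, (cj a * fd σ : MulAut (P n F)) = cj b * fd σ * (cj b)⁻¹ := by
  rw [pow_cj_fd, pow_orderOf_eq_one, map_one, mul_one] at h
  obtain ⟨u, hu⟩ := (mem_center _).1 ((cj_eq_one_iff hn _).1 h)
  have hfix : u ∈ fixedUnits σ := by
    show Units.map (σ : F →* F) u = u
    have e1 : ntw σ a (orderOf σ + 1) = a * gmap σ (ntw σ a (orderOf σ)) := rfl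
    have e2 := ntw_succ' σ a (orderOf σ)
    rw [pow_orderOf_eq_one, hu] at e2
    have h1 : gmap (1 : F ≃+* F) a = a := Units.ext (by ext i j; rfl)
    rw [h1, e1, hu, gmap_scalar, ← scalar_comm u a] at e2
    have e3 := congrArg Units.val (mul_left_cancel e2)
    have e4 := congrFun (congrFun e3 ⟨0, by omega⟩) ⟨0, by omega⟩
    apply Units.ext
    simpa using e4
  obtain ⟨lam, hlam⟩ : u ∈ (unorm σ).range := by rw [range_unorm]; exact hfix
  have h' : ntw σ (Matrix.GeneralLinearGroup.scalar (Fin n) lam⁻¹ * a) (orderOf σ) = 1 := by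
    rw [ntw_scalar_mul, hu, ntw_scalar]
    show Matrix.GeneralLinearGroup.scalar (Fin n) (unorm σ lam⁻¹) * _ = 1
    rw [map_inv, hlam, map_inv, inv_mul_cancel]
  obtain ⟨b, hb⟩ := hilbert90 σ _ h'
  refine ⟨b, ?_⟩
  have : (cj a : MulAut (P n F)) = cj (b * (gmap σ b)⁻¹) := by
    rw [← hb, map_mul, cj_scalar hn, one_mul]
  rw [this, map_mul, mul_assoc, mul_assoc, ← map_inv cj b, fd_mul_cj']
  simp only [map_inv]

/-- Two automorphisms of the class of field automorphisms are inner-diagonally conjugate to standard ones. -/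
lemma field_class [Fintype F] (hn : 2 ≤ n) {x : MulAut (P n F)} (hx : Cfsg.IsFieldAutClassPSL x) :
    ∃ (h : GL (Fin n) F) (σ : F ≃+* F), σ ≠ 1 ∧ x = cj h * fd σ * (cj h)⁻¹ := by
  obtain ⟨α, σ, hσ, hstd⟩ := hx
  rw [isStdField_iff] at hstd
  have hx' : x = α⁻¹ * fd σ * α := by rw [← hstd]; group
  have key : ∀ (g : GL (Fin n) F) (τ : F ≃+* F), ∃ h : GL (Fin n) F,
      (cj g * fd τ)⁻¹ * fd σ * (cj g * fd τ) = (cj h * fd (τ⁻¹ * σ * τ) * (cj h)⁻¹ : MulAut (P n F)) := by
    intro g τ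
    refine ⟨gmap τ⁻¹ g⁻¹, ?_⟩
    rw [eq_mul_inv_iff_mul_eq, map_mul fd, map_mul fd]
    calc (cj g * fd τ)⁻¹ * fd σ * (cj g * fd τ) * cj (gmap τ⁻¹ g⁻¹)
        = fd τ⁻¹ * cj g⁻¹ * fd σ * cj g * (fd τ * cj (gmap τ⁻¹ g⁻¹)) := by
          simp [mul_assoc]
      _ = cj (gmap τ⁻¹ g⁻¹) * fd τ⁻¹ * fd σ * cj g * (cj (gmap τ (gmap τ⁻¹ g⁻¹)) * fd τ) := by
          rw [fd_mul_cj', fd_mul_cj']
      _ = _ := by
          have : gmap τ (gmap τ⁻¹ g⁻¹) = g⁻¹ := by
            apply Units.ext; ext i j; exact τ.apply_symm_apply _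
          rw [this]
          simp [mul_assoc]
  have hne : ∀ τ : F ≃+* F, τ⁻¹ * σ * τ ≠ 1 := fun τ e => hσ <| by
    have := congrArg (fun u => τ * u * τ⁻¹) e
    simpa [mul_assoc] using! this
  obtain ⟨g, τ, hα | ⟨-, hα⟩⟩ := aut_decomp hn α
  · obtain ⟨h, e⟩ := key g τ
    exact ⟨h, _, hne τ, by rw [hx', hα, e]⟩
  · obtain ⟨h, e⟩ := key g τ
    refine ⟨glInvT h, _, hne τ, ?_⟩
    calc x = it * ((cj g * fd τ)⁻¹ * fd σ * (cj g * fd τ)) * it := by
          rw [hx', hα, show (cj g * fd τ * it : MulAut (P n F))⁻¹ = it * (cj g * fd τ)⁻¹ by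
            rw [_root_.mul_inv_rev, inv_eq_of_mul_eq_one_right it_mul_it]]
          simp [mul_assoc]
      _ = it * (cj h * fd (τ⁻¹ * σ * τ) * (cj h)⁻¹) * it := by rw [e]
      _ = cj (glInvT h) * it * fd (τ⁻¹ * σ * τ) * (cj h⁻¹ * it) := by
          rw [← mul_assoc it, ← mul_assoc it, it_mul_cj, map_inv]; simp only [mul_assoc]
      _ = cj (glInvT h) * fd (τ⁻¹ * σ * τ) * (it * cj h⁻¹) * it := by
          rw [mul_assoc (cj (glInvT h)) it, it_mul_fd]; simp only [mul_assoc]
      _ = cj (glInvT h) * fd (τ⁻¹ * σ * τ) * cj (glInvT h⁻¹) * (it * it) := by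
          rw [it_mul_cj]; simp only [mul_assoc]
      _ = _ := by
          have hinv : glInvT h⁻¹ = (glInvT h)⁻¹ := Units.ext rfl
          rw [it_mul_it, mul_one, hinv, map_inv]

/-- A graph-field automorphism is inner-diagonally conjugate to a standard one. -/
lemma graphField_class [Fintype F] {x : MulAut (P n F)} (hx : Cfsg.IsGraphFieldAutClassPSL x) :
    3 ≤ n ∧ ∃ (h : GL (Fin n) F) (σ : F ≃+* F), σ ≠ 1 ∧ x = cj h * (fd σ * it) * (cj h)⁻¹ := by
  obtain ⟨hn3, α, φ, γ, σ, hσ, hφ, hγ, hx⟩ := hx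
  refine ⟨hn3, ?_⟩
  have hn : 2 ≤ n := by omega
  rw [isStdField_iff] at hφ
  rw [isInverseTranspose_iff] at hγ
  have hx' : x = α⁻¹ * (fd σ * it) * α := by rw [← hγ, ← hφ, ← hx]; group
  have key : ∀ (g : GL (Fin n) F) (τ : F ≃+* F), ∃ h : GL (Fin n) F,
      (cj g * fd τ)⁻¹ * (fd σ * it) * (cj g * fd τ) = (cj h * (fd (τ⁻¹ * σ * τ) * it) * (cj h)⁻¹ : MulAut (P n F)) := by
    intro g τ
    refine ⟨gmap τ⁻¹ g⁻¹, ?_⟩
    rw [eq_mul_inv_iff_mul_eq, map_mul fd, map_mul fd]
    calc (cj g * fd τ)⁻¹ * (fd σ * it) * (cj g * fd τ) * cj (gmap τ⁻¹ g⁻¹)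
        = fd τ⁻¹ * cj g⁻¹ * fd σ * it * cj g * (fd τ * cj (gmap τ⁻¹ g⁻¹)) := by
          simp [mul_assoc]
      _ = cj (gmap τ⁻¹ g⁻¹) * fd τ⁻¹ * fd σ * it * cj g * (cj (gmap τ (gmap τ⁻¹ g⁻¹)) * fd τ) := by
          rw [fd_mul_cj', fd_mul_cj']
      _ = _ := by
          have : gmap τ (gmap τ⁻¹ g⁻¹) = g⁻¹ := by
            apply Units.ext; ext i j; exact τ.apply_symm_apply _
          rw [this]
          simp [mul_assoc, ← it_mul_fd]
          rw [← mul_assoc, it_mul_fd, mul_assoc]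
  have hne : ∀ τ : F ≃+* F, τ⁻¹ * σ * τ ≠ 1 := fun τ e => hσ <| by
    have := congrArg (fun u => τ * u * τ⁻¹) e
    simpa [mul_assoc] using! this
  obtain ⟨g, τ, hα | ⟨-, hα⟩⟩ := aut_decomp hn α
  · obtain ⟨h, e⟩ := key g τ
    exact ⟨h, _, hne τ, by rw [hx', hα, e]⟩
  · obtain ⟨h, e⟩ := key g τ
    refine ⟨glInvT h, _, hne τ, ?_⟩
    calc x = it * ((cj g * fd τ)⁻¹ * (fd σ * it) * (cj g * fd τ)) * it := by
          rw [hx', hα, show (cj g * fd τ * it : MulAut (P n F))⁻¹ = it * (cj g * fd τ)⁻¹ by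
            rw [_root_.mul_inv_rev, inv_eq_of_mul_eq_one_right it_mul_it]]
          simp [mul_assoc]
      _ = it * (cj h * (fd (τ⁻¹ * σ * τ) * it) * (cj h)⁻¹) * it := by rw [e]
      _ = cj (glInvT h) * (it * fd (τ⁻¹ * σ * τ)) * it * (cj h⁻¹ * it) := by
          rw [← mul_assoc it, ← mul_assoc it, it_mul_cj, map_inv]; simp only [mul_assoc]
      _ = cj (glInvT h) * (fd (τ⁻¹ * σ * τ) * it) * (it * cj h⁻¹) * it := by
          rw [it_mul_fd]; simp only [mul_assoc]
      _ = cj (glInvT h) * (fd (τ⁻¹ * σ * τ) * it) * cj (glInvT h⁻¹) * (it * it) := by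
          rw [it_mul_cj]; simp only [mul_assoc]
      _ = _ := by
          have hinv : glInvT h⁻¹ = (glInvT h)⁻¹ := Units.ext rfl
          rw [it_mul_it, mul_one, hinv, map_inv]

lemma orderOf_conj' {G : Type*} [Group G] (a b : G) : orderOf (a * b * a⁻¹) = orderOf b := by
  rw [← MulAut.conj_apply]
  exact orderOf_injective (MulAut.conj a).toMonoidHom (MulAut.conj a).injective b

/-- A graph-field automorphism of prime order is an involution. -/
lemma graphField_order (hn : 3 ≤ n) (σ : F ≃+* F) {r : ℕ} (hr : r.Prime)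
    (h : orderOf (fd σ * it : MulAut (P n F)) = r) : r = 2 ∧ σ * σ = 1 := by
  have hn2 : 2 ≤ n := by omega
  have hcomm : Commute (fd σ : MulAut (P n F)) it := (it_mul_fd σ).symm
  have hit2 : (it : MulAut (P n F)) ^ 2 = 1 := by rw [pow_two, it_mul_it]
  have hp := pow_orderOf_eq_one (fd σ * it : MulAut (P n F))
  rw [h, hcomm.mul_pow, ← map_pow] at hp
  rcases Nat.Prime.eq_two_or_odd' hr with rfl | ⟨k, rfl⟩
  · refine ⟨rfl, ?_⟩
    rw [hit2, mul_one] at hp
    exact fd_injective hn2 (by rw [← pow_two, hp, map_one])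
  · exfalso
    rw [pow_succ it, pow_mul it, hit2, one_pow, one_mul] at hp
    apply cj_fd_ne_it hn 1 (σ ^ (2 * k + 1))⁻¹
    rw [map_one, one_mul, map_inv]
    exact inv_eq_of_mul_eq_one_right hp

lemma ψ_mul_cj (σ : F ≃+* F) (g : GL (Fin n) F) :
    (fd σ * it : MulAut (P n F)) * cj g = cj (gmap σ (glInvT g)) * (fd σ * it) := by
  rw [mul_assoc, it_mul_cj, ← mul_assoc, fd_mul_cj', mul_assoc]

/-- The conjugate transpose, on matrices. -/
lemma ct_eq (σ : F ≃+* F) (g : GL (Fin n) F) :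
    ((gmap σ (glInvT g⁻¹) : GL (Fin n) F) : Matrix (Fin n) (Fin n) F) =
      HermitianFactor.ct (σ : F →+* F) (g : Matrix (Fin n) (Fin n) F) := by
  rw [coe_gmap, HermitianFactor.ct]
  show ((((g⁻¹)⁻¹ : GL (Fin n) F) : Matrix (Fin n) (Fin n) F)ᵀ).map σ = _
  rw [inv_inv, transpose_map]
  rfl

lemma ct_scalar (σ : F ≃+* F) (u : Fˣ) :
    HermitianFactor.ct (σ : F →+* F) ((Matrix.GeneralLinearGroup.scalar (Fin n) u : GL (Fin n) F) : Matrix (Fin n) (Fin n) F) =
      Matrix.scalar (Fin n) (σ u) := by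
  simp [HermitianFactor.ct, Matrix.diagonal_map]

lemma entry {g h : GL (Fin n) F} (e : g = h) (i j : Fin n) :
    (g : Matrix (Fin n) (Fin n) F) i j = (h : Matrix (Fin n) (Fin n) F) i j := by rw [e]

/-- An element of the coset of a graph-field involution which is an involution is conjugate to it. -/
theorem graphField_coset [Fintype F] (hn : 3 ≤ n) (σ : F ≃+* F) (hσ2 : σ * σ = 1) (hσ : σ ≠ 1) (a : GL (Fin n) F)
    (h : (cj a * (fd σ * it) : MulAut (P n F)) ^ 2 = 1) :
    ∃ b : GL (Fin n) F, (cj a * (fd σ * it) : MulAut (P n F)) = cj b * (fd σ * it) * (cj b)⁻¹ := by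
  have hn2 : 2 ≤ n := by omega
  have hss : ∀ y, σ (σ y) = y := fun y => by rw [← RingAut.mul_apply, hσ2]; rfl
  obtain ⟨c, hc⟩ : ∃ c, σ c ≠ c := by
    by_contra hcon
    push Not at hcon
    exact hσ (RingEquiv.ext hcon)
  have hψ2 : (fd σ * it : MulAut (P n F)) * (fd σ * it) = 1 := by
    calc (fd σ * it : MulAut (P n F)) * (fd σ * it) = fd σ * (it * fd σ) * it := by simp only [mul_assoc]
      _ = fd σ * fd σ * (it * it) := by rw [it_mul_fd]; simp only [mul_assoc]
      _ = 1 := by rw [← map_mul, hσ2, map_one, it_mul_it, one_mul]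
  have h' : cj (a * gmap σ (glInvT a)) = (1 : MulAut (P n F)) := by
    rw [pow_two] at h
    calc cj (a * gmap σ (glInvT a)) = cj a * cj (gmap σ (glInvT a)) * ((fd σ * it) * (fd σ * it)) := by
          rw [hψ2, map_mul, mul_one]
      _ = cj a * (cj (gmap σ (glInvT a)) * (fd σ * it)) * (fd σ * it) := by simp only [mul_assoc]
      _ = 1 := by rw [← ψ_mul_cj]; simpa only [mul_assoc] using h
  obtain ⟨u, hu⟩ := (mem_center _).1 ((cj_eq_one_iff hn2 _).1 h')
  set H := gmap σ (glInvT a⁻¹) with hH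
  have hinv : gmap σ (glInvT a) = H⁻¹ := by
    rw [hH, ← map_inv]
    congr 1
  have ha : a = Matrix.GeneralLinearGroup.scalar (Fin n) u * H := by
    rw [hinv] at hu
    rw [← hu, inv_mul_cancel_right]
  let su : Fˣ := Units.map (σ : F →* F) u
  have hu1 : u * su = 1 := by
    have e1 := congrArg Units.val ha
    rw [Units.val_mul, ct_eq, Matrix.GeneralLinearGroup.coe_scalar] at e1
    have e2 := congrArg (HermitianFactor.ct (σ : F →+* F)) e1
    rw [HermitianFactor.ct_mul, HermitianFactor.ct_ct (σ := (σ : F →+* F)) hss] at e2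
    have e3 : HermitianFactor.ct (σ : F →+* F) (Matrix.scalar (Fin n) (u : F)) = Matrix.scalar (Fin n) (σ u) := by
      simp [HermitianFactor.ct, Matrix.diagonal_map]
    rw [e3] at e2
    have e4 : Matrix.scalar (Fin n) ((u : F) * σ u) * (a : Matrix (Fin n) (Fin n) F) = 1 * (a : Matrix (Fin n) (Fin n) F) := by
      rw [e2] at e1
      rw [map_mul, one_mul]
      conv_rhs => rw [e1]
      rw [mul_assoc, (Matrix.scalar_commute (σ u) (fun r => Commute.all _ r) _).eq]
    have e5 := congrFun (congrFun (a.isUnit.mul_right_cancel e4) ⟨0, by omega⟩) ⟨0, by omega⟩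
    apply Units.ext
    simpa [su] using e5
  have hlam0 : IsUnit (c - σ c) := (sub_ne_zero.2 (Ne.symm hc)).isUnit
  obtain ⟨s, hs, hse⟩ := NormHilbert90.exists_isUnit_eq_mul (σ : F →+* F) hss c hlam0 (u : F) (congrArg Units.val hu1)
  obtain ⟨s, rfl⟩ := hs
  have hfix : HermitianFactor.ct (σ : F →+* F) (((Matrix.GeneralLinearGroup.scalar (Fin n) s⁻¹ * a : GL (Fin n) F)) : Matrix (Fin n) (Fin n) F) =
      ((Matrix.GeneralLinearGroup.scalar (Fin n) s⁻¹ * a : GL (Fin n) F) : Matrix (Fin n) (Fin n) F) := by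
    rw [← ct_eq, Units.val_inj]
    have : gmap σ (glInvT (Matrix.GeneralLinearGroup.scalar (Fin n) s⁻¹ * a)⁻¹) =
        H * Matrix.GeneralLinearGroup.scalar (Fin n) (Units.map (σ : F →* F) s⁻¹) := by
      apply Units.ext
      rw [ct_eq, Units.val_mul, Units.val_mul, HermitianFactor.ct_mul, hH, ct_eq]
      congr 1
      rw [ct_scalar, Matrix.GeneralLinearGroup.coe_scalar]
      rfl
    rw [this, scalar_comm]
    conv_rhs => rw [ha, ← mul_assoc, ← map_mul]
    congr 2
    have hs' : u * Units.map (σ : F →* F) s = s := Units.ext hse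
    rw [map_inv]
    refine inv_eq_of_mul_eq_one_left ?_
    rw [mul_assoc, hs', inv_mul_cancel]
  obtain ⟨S, -, hSu, hS⟩ := HermitianFactor.exists_factor (σ := (σ : F →+* F)) hss c hc (Units.isUnit _) hfix
  obtain ⟨S, rfl⟩ := hSu
  refine ⟨gmap σ (glInvT S⁻¹), ?_⟩
  rw [eq_mul_inv_iff_mul_eq, mul_assoc (cj a), ψ_mul_cj, ← mul_assoc]
  congr 1
  rw [← map_mul]
  have : a * gmap σ (glInvT (gmap σ (glInvT S⁻¹))) =
      Matrix.GeneralLinearGroup.scalar (Fin n) s * gmap σ (glInvT S⁻¹) := by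
    have hS' : (gmap σ (glInvT S⁻¹)) * S = Matrix.GeneralLinearGroup.scalar (Fin n) s⁻¹ * a := by
      apply Units.ext; rw [Units.val_mul, ct_eq, hS]
    have ha' : a = Matrix.GeneralLinearGroup.scalar (Fin n) s * (gmap σ (glInvT S⁻¹) * S) := by
      rw [hS', ← mul_assoc, ← map_mul, mul_inv_cancel, map_one, one_mul]
    conv_lhs => arg 1; rw [ha']
    have hid : gmap σ (glInvT (gmap σ (glInvT S⁻¹))) = S⁻¹ := by
      apply Units.ext
      ext i j
      show σ (σ _) = _
      rw [hss]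
      rfl
    rw [hid, mul_assoc, mul_inv_cancel_right]
  rw [this, map_mul, cj_scalar hn2, one_mul]

/-! ### Centralisers and splitting -/

lemma ker_det : (Matrix.GeneralLinearGroup.det : GL (Fin n) F →* Fˣ).ker =
    (Matrix.SpecialLinearGroup.toGL : Matrix.SpecialLinearGroup (Fin n) F →* GL (Fin n) F).range := by
  ext g
  constructor
  · intro hg
    exact ⟨⟨(g : Matrix (Fin n) (Fin n) F), congrArg Units.val hg⟩, Units.ext rfl⟩
  · rintro ⟨s, rfl⟩
    exact Units.ext s.det_coe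

lemma inn_eq : Cfsg.Inn (P n F) =
    (Matrix.SpecialLinearGroup.toGL : Matrix.SpecialLinearGroup (Fin n) F →* GL (Fin n) F).range.map cj := by
  ext β
  constructor
  · rintro ⟨x, rfl⟩
    obtain ⟨s, rfl⟩ := QuotientGroup.mk_surjective x
    exact ⟨_, ⟨s, rfl⟩, (AutPSLGeometry.conj_mk s).symm⟩
  · rintro ⟨_, ⟨s, rfl⟩, rfl⟩
    exact ⟨QuotientGroup.mk s, AutPSLGeometry.conj_mk s⟩

/-- A diagonal matrix with a single entry `u`. -/
def g1 (hn : 1 ≤ n) (u : Fˣ) : GL (Fin n) F := gdiag (fun i => if i = (⟨0, hn⟩ : Fin n) then u else 1)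

lemma det_g1 (hn : 1 ≤ n) (u : Fˣ) : Matrix.GeneralLinearGroup.det (g1 hn u) = u := by
  apply Units.ext
  show Matrix.det (diagonal _) = _
  rw [det_diagonal, Finset.prod_eq_single (⟨0, hn⟩ : Fin n)]
  · simp
  · intro i _ hi; simp [hi]
  · simp

lemma det_surjective (hn : 1 ≤ n) : Function.Surjective (Matrix.GeneralLinearGroup.det : GL (Fin n) F →* Fˣ) :=
  fun u => ⟨g1 hn u, det_g1 hn u⟩

lemma split_eq_index (hn : 2 ≤ n) (h : GL (Fin n) F) (ψ : MulAut (P n F)) :
    Cfsg.splitClassCount (Cfsg.inndiagPSL n F) (Cfsg.Inn (P n F)) (cj h * ψ * (cj h)⁻¹) =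
      (((Subgroup.centralizer ({ψ} : Set (MulAut (P n F)))).comap cj).map
        (Matrix.GeneralLinearGroup.det : GL (Fin n) F →* Fˣ)).index := by
  haveI : ((Matrix.SpecialLinearGroup.toGL : Matrix.SpecialLinearGroup (Fin n) F →* GL (Fin n) F).range).Normal := by
    rw [← ker_det]; infer_instance
  rw [inndiag_eq, inn_eq, SplitClassIndex.splitClassCount_eq, ← ker_det, sup_comm]
  have h1 := Subgroup.index_map ((Subgroup.centralizer ({cj h * ψ * (cj h)⁻¹} : Set (MulAut (P n F)))).comap cj)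
    (Matrix.GeneralLinearGroup.det : GL (Fin n) F →* Fˣ)
  rw [MonoidHom.range_eq_top.2 (det_surjective (by omega)), Subgroup.index_top, mul_one] at h1
  rw [← h1]
  congr 1
  ext d
  simp only [Subgroup.mem_map, Subgroup.mem_comap, Subgroup.mem_centralizer_singleton_iff]
  constructor
  · rintro ⟨g, hg, rfl⟩
    refine ⟨h⁻¹ * g * h, ?_, by rw [map_mul, map_mul, map_inv, mul_comm, mul_inv_cancel_left]⟩
    calc cj (h⁻¹ * g * h) * ψ = (cj h)⁻¹ * (cj g * (cj h * ψ * (cj h)⁻¹)) * cj h := by simp [mul_assoc]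
      _ = ψ * cj (h⁻¹ * g * h) := by rw [hg]; simp [mul_assoc]
  · rintro ⟨g, hg, rfl⟩
    refine ⟨h * g * h⁻¹, ?_, by rw [map_mul, map_mul, map_inv, mul_inv_cancel_comm]⟩
    calc cj (h * g * h⁻¹) * (cj h * ψ * (cj h)⁻¹) = cj h * (cj g * ψ) * (cj h)⁻¹ := by simp [mul_assoc]
      _ = cj h * (ψ * cj g) * (cj h)⁻¹ := by rw [hg]
      _ = cj h * ψ * (cj h)⁻¹ * cj (h * g * h⁻¹) := by simp [mul_assoc]

/-- The range of a hom and the isomorphism it induces. -/
lemma equiv_of_range {G X : Type*} [Group G] [Group X] (ρ : G →* X) (H : Subgroup X) (hH : ρ.range = H)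
    (N : Subgroup G) [N.Normal] (hN : ρ.ker = N) : Nonempty (↥H ≃* G ⧸ N) := by
  subst hH
  subst hN
  exact ⟨(QuotientGroup.quotientKerEquivRange ρ).symm⟩

lemma cj_commute_fd (hn : 2 ≤ n) [Fintype F] (σ : F ≃+* F) (g : GL (Fin n) F) :
    cj g * fd σ = fd σ * (cj g : MulAut (P n F)) ↔
      ∃ (y : Fˣ) (g0 : GL (Fin n) F), gmap σ g0 = g0 ∧ g = Matrix.GeneralLinearGroup.scalar (Fin n) y * g0 := by
  constructor
  · intro h
    rw [fd_mul_cj'] at h
    obtain ⟨u, hu⟩ := cj_eq_cj hn (mul_right_cancel h)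
    have key : ∀ k : ℕ, g = Matrix.GeneralLinearGroup.scalar (Fin n)
        (∏ i ∈ Finset.range k, Units.map ((σ ^ i : F ≃+* F) : F →* F) u) * gmap (σ ^ k) g := by
      intro k
      induction k with
      | zero =>
        rw [Finset.prod_range_zero, map_one, one_mul]
        exact Units.ext (by ext i j; rfl)
      | succ k ih =>
        conv_lhs => rw [ih]
        rw [Finset.prod_range_succ, map_mul, mul_assoc]
        congr 1
        conv_lhs => rw [hu]
        rw [map_mul, gmap_scalar]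
        congr 1
    have h1 := key (orderOf σ)
    rw [pow_orderOf_eq_one] at h1
    have h2 : gmap (1 : F ≃+* F) g = g := Units.ext (by ext i j; rfl)
    rw [h2, eq_comm, mul_eq_right] at h1
    have h3 : unorm σ u = 1 := by
      have e := entry h1 ⟨0, by omega⟩ ⟨0, by omega⟩
      apply Units.ext
      show ((∏ i ∈ Finset.range (orderOf σ), Units.map ((σ ^ i : F ≃+* F) : F →* F) u : Fˣ) : F) = 1
      simpa using e
    obtain ⟨y, hy⟩ := hilbert90_units σ u h3
    refine ⟨y, Matrix.GeneralLinearGroup.scalar (Fin n) y⁻¹ * g, ?_, by rw [← mul_assoc, ← map_mul, mul_inv_cancel, map_one, one_mul]⟩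
    rw [map_mul, gmap_scalar]
    conv_rhs => rw [hu, ← mul_assoc, ← map_mul, hy, inv_mul_cancel_left]
    rw [map_inv]
  · rintro ⟨y, g0, hg0, rfl⟩
    rw [map_mul, cj_scalar hn, one_mul, fd_mul_cj', hg0]

theorem field_split [Fintype F] (hn : 2 ≤ n) (σ : F ≃+* F) (h : GL (Fin n) F) :
    Cfsg.splitClassCount (Cfsg.inndiagPSL n F) (Cfsg.Inn (P n F)) (cj h * fd σ * (cj h)⁻¹) =
      Nat.gcd n (fixedUnits σ).index := by
  rw [split_eq_index hn]
  have : ((Subgroup.centralizer ({fd σ} : Set (MulAut (P n F)))).comap cj).map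
      (Matrix.GeneralLinearGroup.det : GL (Fin n) F →* Fˣ) = (powMonoidHom n : Fˣ →* Fˣ).range ⊔ fixedUnits σ := by
    refine le_antisymm ?_ (sup_le ?_ ?_)
    · rintro _ ⟨g, hg, rfl⟩
      rw [SetLike.mem_coe, Subgroup.mem_comap, Subgroup.mem_centralizer_singleton_iff] at hg
      obtain ⟨y, g0, hg0, rfl⟩ := (cj_commute_fd hn σ g).1 hg
      rw [map_mul]
      refine Subgroup.mul_mem_sup ⟨y, ?_⟩ ?_
      · apply Units.ext; simp
      · show Units.map (σ : F →* F) _ = _
        apply Units.ext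
        have := congrArg (fun g : GL (Fin n) F => Matrix.det (g : Matrix (Fin n) (Fin n) F)) hg0
        simp only [coe_gmap] at this
        show σ (Matrix.det (g0 : Matrix (Fin n) (Fin n) F)) = _
        rw [RingEquiv.map_det]
        exact this
    · rintro _ ⟨y, rfl⟩
      refine ⟨Matrix.GeneralLinearGroup.scalar (Fin n) y, ?_, by apply Units.ext; simp⟩
      rw [SetLike.mem_coe, Subgroup.mem_comap, Subgroup.mem_centralizer_singleton_iff, cj_scalar hn]
      simp
    · intro u hu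
      refine ⟨g1 (by omega) u, ?_, det_g1 _ _⟩
      rw [SetLike.mem_coe, Subgroup.mem_comap, Subgroup.mem_centralizer_singleton_iff, cj_commute_fd hn]
      refine ⟨1, g1 (by omega) u, ?_, by rw [map_one, one_mul]⟩
      apply Units.ext
      rw [coe_gmap]
      show (diagonal _).map σ = diagonal _
      rw [diagonal_map (map_zero σ)]
      congr 1
      funext i
      have hu' : σ (u : F) = u := congrArg Units.val (hu : Units.map (σ : F →* F) u = u)
      simp only [Function.comp_apply]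
      split_ifs <;> simp [hu']
  rw [this, index_powers_sup]

theorem field_centralizer [Fintype F] (hn : 2 ≤ n) (σ : F ≃+* F) (h : GL (Fin n) F)
    (F₀ : Type*) [Field F₀] (ι : F₀ →+* F) (hι : ∀ x, σ x = x ↔ x ∈ Set.range ι) :
    Nonempty (↥(Cfsg.inndiagPSL n F ⊓ Subgroup.centralizer {cj h * fd σ * (cj h)⁻¹}) ≃*
      Matrix.ProjGenLinGroup (Fin n) F₀) := by
  let ρ : GL (Fin n) F₀ →* MulAut (P n F) :=
    (MulAut.conj (cj h)).toMonoidHom.comp (cj.comp (Matrix.GeneralLinearGroup.map ι))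
  have hρ : ∀ g, ρ g = cj h * cj (Matrix.GeneralLinearGroup.map ι g) * (cj h)⁻¹ := fun g => rfl
  refine equiv_of_range ρ _ ?_ _ ?_
  · ext β
    simp only [MonoidHom.mem_range, Subgroup.mem_inf, mem_inndiag, Subgroup.mem_centralizer_singleton_iff]
    constructor
    · rintro ⟨g, rfl⟩
      rw [hρ]
      refine ⟨⟨h * Matrix.GeneralLinearGroup.map ι g * h⁻¹, by simp⟩, ?_⟩
      have hfix : gmap σ (Matrix.GeneralLinearGroup.map ι g) = Matrix.GeneralLinearGroup.map ι g := by
        apply Units.ext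
        ext i j
        exact (hι _).2 ⟨_, rfl⟩
      have hc := (cj_commute_fd hn σ (Matrix.GeneralLinearGroup.map ι g)).2 ⟨1, _, hfix, by rw [map_one, one_mul]⟩
      calc cj h * cj (Matrix.GeneralLinearGroup.map ι g) * (cj h)⁻¹ * (cj h * fd σ * (cj h)⁻¹)
          = cj h * (cj (Matrix.GeneralLinearGroup.map ι g) * fd σ) * (cj h)⁻¹ := by group
        _ = _ := by rw [hc]; group
    · rintro ⟨⟨g, rfl⟩, hc⟩
      have hc' : cj (h⁻¹ * g * h) * fd σ = fd σ * (cj (h⁻¹ * g * h) : MulAut (P n F)) := by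
        calc cj (h⁻¹ * g * h) * fd σ = (cj h)⁻¹ * (cj g * (cj h * fd σ * (cj h)⁻¹)) * cj h := by simp [mul_assoc]
          _ = _ := by rw [hc]; simp [mul_assoc]
      obtain ⟨y, g0, hg0, hg⟩ := (cj_commute_fd hn σ _).1 hc'
      have hent : ∀ i j, ∃ z, ι z = (g0 : Matrix (Fin n) (Fin n) F) i j := by
        intro i j
        have := entry hg0 i j
        rw [coe_gmap] at this
        exact (hι _).1 this
      choose z hz using hent
      have hmap : (Matrix.of z).map ι = (g0 : Matrix (Fin n) (Fin n) F) := by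
        ext i j; exact hz i j
      have hdet : (Matrix.of z).det ≠ 0 := by
        intro e
        have := ((Matrix.isUnit_iff_isUnit_det _).1 g0.isUnit).ne_zero
        rw [← hmap, ← RingHom.mapMatrix_apply, ← RingHom.map_det, e, map_zero] at this
        exact this rfl
      refine ⟨Matrix.GeneralLinearGroup.mkOfDetNeZero _ hdet, ?_⟩
      have he : Matrix.GeneralLinearGroup.map ι (Matrix.GeneralLinearGroup.mkOfDetNeZero _ hdet) = g0 :=
        Units.ext hmap
      rw [hρ, he]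
      have : (cj g0 : MulAut (P n F)) = cj (h⁻¹ * g * h) := by rw [hg, map_mul, cj_scalar hn, one_mul]
      rw [this]
      simp [mul_assoc]
  · ext g
    rw [MonoidHom.mem_ker, hρ, conj_eq_one_iff, cj_eq_one_iff hn]
    constructor
    · intro hg
      rw [Subgroup.mem_center_iff] at hg ⊢
      intro g'
      have := hg (Matrix.GeneralLinearGroup.map ι g')
      rw [← map_mul, ← map_mul] at this
      apply Units.ext
      ext i j
      exact ι.injective (entry this i j)
    · intro hg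
      obtain ⟨u, rfl⟩ := (mem_center g).1 hg
      refine (mem_center _).2 ⟨Units.map (ι : F₀ →* F) u, ?_⟩
      apply Units.ext
      ext i j
      rcases eq_or_ne i j with rfl | hij <;>
        simp [Matrix.GeneralLinearGroup.map, Matrix.GeneralLinearGroup.coe_scalar, *]

/-- Centraliser of a graph-field involution in `GL`. -/
lemma cj_commute_ψ [Fintype F] (hn : 3 ≤ n) (σ : F ≃+* F) (hσ2 : σ * σ = 1) (hσ : σ ≠ 1) (g : GL (Fin n) F) :
    cj g * (fd σ * it) = (fd σ * it) * (cj g : MulAut (P n F)) ↔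
      ∃ (y : Fˣ) (g0 : GL (Fin n) F), HermitianFactor.ct (σ : F →+* F) (g0 : Matrix (Fin n) (Fin n) F) *
          (g0 : Matrix (Fin n) (Fin n) F) = 1 ∧
        g = Matrix.GeneralLinearGroup.scalar (Fin n) y * g0 := by
  have hn2 : 2 ≤ n := by omega
  have hss : ∀ y, σ (σ y) = y := fun y => by rw [← RingAut.mul_apply, hσ2]; rfl
  obtain ⟨c, hc⟩ : ∃ c, σ c ≠ c := by
    by_contra hcon
    push Not at hcon
    exact hσ (RingEquiv.ext hcon)
  have hid : ∀ g : GL (Fin n) F, gmap σ (glInvT g) = (gmap σ (glInvT g⁻¹))⁻¹ := fun g => by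
    rw [← map_inv]
    congr 1
  constructor
  · intro h
    rw [ψ_mul_cj, hid] at h
    obtain ⟨u, hu⟩ := cj_eq_cj hn2 (mul_right_cancel h)
    have e : (g : Matrix (Fin n) (Fin n) F) * HermitianFactor.ct (σ : F →+* F) (g : Matrix (Fin n) (Fin n) F) =
        Matrix.scalar (Fin n) (u : F) := by
      have e0 : g * gmap σ (glInvT g⁻¹) = Matrix.GeneralLinearGroup.scalar (Fin n) u := by
        conv_lhs => arg 1; rw [hu]
        rw [mul_assoc, inv_mul_cancel, mul_one]
      rw [← ct_eq, ← Units.val_mul, e0]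
      exact Matrix.GeneralLinearGroup.coe_scalar u
    have hfix : σ (u : F) = u := by
      have e2 := congrArg (HermitianFactor.ct (σ : F →+* F)) e
      rw [HermitianFactor.ct_mul, HermitianFactor.ct_ct (σ := (σ : F →+* F)) hss, e,
        show Matrix.scalar (Fin n) (u : F) = ((Matrix.GeneralLinearGroup.scalar (Fin n) u : GL (Fin n) F) : Matrix (Fin n) (Fin n) F)
          from (Matrix.GeneralLinearGroup.coe_scalar u).symm, ct_scalar, Matrix.GeneralLinearGroup.coe_scalar] at e2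
      have := congrFun (congrFun e2 ⟨0, by omega⟩) ⟨0, by omega⟩
      simpa using this.symm
    obtain ⟨s, hs, hse⟩ := NormHilbert90.exists_norm_eq (σ : F →+* F) hss c (sub_ne_zero.2 (Ne.symm hc)).isUnit
      (u : F) u.isUnit hfix
    obtain ⟨s, rfl⟩ := hs
    refine ⟨s, Matrix.GeneralLinearGroup.scalar (Fin n) s⁻¹ * g, ?_,
      by rw [← mul_assoc, ← map_mul, mul_inv_cancel, map_one, one_mul]⟩
    apply mul_eq_one_comm.1
    rw [Units.val_mul, HermitianFactor.ct_mul, ct_scalar, Matrix.GeneralLinearGroup.coe_scalar, mul_assoc,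
      ← mul_assoc (g : Matrix (Fin n) (Fin n) F), e, ← map_mul, ← map_mul]
    have : ((s⁻¹ : Fˣ) : F) * ((u : F) * σ ((s⁻¹ : Fˣ) : F)) = 1 := by
      rw [Units.val_inv_eq_inv_val, map_inv₀, ← hse]
      have h1 : (s : F) ≠ 0 := s.ne_zero
      have h2 : σ (s : F) ≠ 0 := by simp
      show (s : F)⁻¹ * ((s : F) * σ (s : F) * (σ (s : F))⁻¹) = 1
      field_simp
    rw [this, map_one]
  · rintro ⟨y, g0, hg0, rfl⟩
    rw [map_mul, cj_scalar hn2, one_mul, ψ_mul_cj, hid]
    congr 2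
    refine eq_inv_of_mul_eq_one_left (Units.ext ?_)
    rw [Units.val_mul, ct_eq]
    exact mul_eq_one_comm.1 hg0

theorem graphField_split [Fintype F] (hn : 3 ≤ n) (σ : F ≃+* F) (hσ2 : σ * σ = 1) (hσ : σ ≠ 1) (h : GL (Fin n) F) :
    Cfsg.splitClassCount (Cfsg.inndiagPSL n F) (Cfsg.Inn (P n F)) (cj h * (fd σ * it) * (cj h)⁻¹) =
      Nat.gcd n (Nat.card (fixedUnits σ)) := by
  rw [split_eq_index (by omega)]
  have hr : orderOf σ = 2 := orderOf_eq_prime (by rw [pow_two, hσ2]) hσ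
  have hnorm : ∀ u : Fˣ, unorm σ u = u * Units.map (σ : F →* F) u := by
    intro u
    show (∏ k ∈ Finset.range (orderOf σ), Units.map ((σ ^ k : F ≃+* F) : F →* F) u) = _
    rw [hr, Finset.prod_range_succ, Finset.prod_range_one]
    congr 1
    all_goals apply Units.ext; simp
  have hker : (unorm σ).ker.index = Nat.card (fixedUnits σ) := by rw [Subgroup.index_ker, range_unorm]
  have : ((Subgroup.centralizer ({fd σ * it} : Set (MulAut (P n F)))).comap cj).map
      (Matrix.GeneralLinearGroup.det : GL (Fin n) F →* Fˣ) = (powMonoidHom n : Fˣ →* Fˣ).range ⊔ (unorm σ).ker := by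
    refine le_antisymm ?_ (sup_le ?_ ?_)
    · rintro _ ⟨g, hg, rfl⟩
      rw [SetLike.mem_coe, Subgroup.mem_comap, Subgroup.mem_centralizer_singleton_iff] at hg
      obtain ⟨y, g0, hg0, rfl⟩ := (cj_commute_ψ hn σ hσ2 hσ g).1 hg
      rw [map_mul]
      refine Subgroup.mul_mem_sup ⟨y, ?_⟩ ?_
      · apply Units.ext; simp
      · rw [MonoidHom.mem_ker, hnorm]
        apply Units.ext
        have := congrArg Matrix.det hg0
        rw [det_mul, det_one, HermitianFactor.ct, det_transpose] at this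
        show Matrix.det (g0 : Matrix (Fin n) (Fin n) F) * σ (Matrix.det (g0 : Matrix (Fin n) (Fin n) F)) = 1
        rw [RingEquiv.map_det, mul_comm]
        exact this
    · rintro _ ⟨y, rfl⟩
      refine ⟨Matrix.GeneralLinearGroup.scalar (Fin n) y, ?_, by apply Units.ext; simp⟩
      rw [SetLike.mem_coe, Subgroup.mem_comap, Subgroup.mem_centralizer_singleton_iff, cj_scalar (by omega)]
      simp
    · intro u hu
      refine ⟨g1 (by omega) u, ?_, det_g1 _ _⟩
      rw [SetLike.mem_coe, Subgroup.mem_comap, Subgroup.mem_centralizer_singleton_iff, cj_commute_ψ hn σ hσ2 hσ]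
      refine ⟨1, g1 (by omega) u, ?_, by rw [map_one, one_mul]⟩
      rw [MonoidHom.mem_ker, hnorm] at hu
      have hu' : (u : F) * σ (u : F) = 1 := congrArg Units.val hu
      show ((diagonal _).map _)ᵀ * diagonal _ = 1
      rw [diagonal_map (map_zero _), diagonal_transpose, diagonal_mul_diagonal, ← diagonal_one]
      congr 1
      funext i
      simp only [Function.comp_apply]
      split_ifs
      · rw [mul_comm]; exact hu'
      · simp
  rw [this, index_powers_sup, hker]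

theorem graphField_centralizer [Fintype F] (hn : 3 ≤ n) (σ : F ≃+* F) (hσ2 : σ * σ = 1) (hσ : σ ≠ 1) (q : ℕ)
    (hq : ∀ x, σ x = x ^ q) (h : GL (Fin n) F) :
    Nonempty (↥(Cfsg.inndiagPSL n F ⊓ Subgroup.centralizer {cj h * (fd σ * it) * (cj h)⁻¹}) ≃* Cfsg.PGU n F q) := by
  have hss : ∀ y, σ (σ y) = y := fun y => by rw [← RingAut.mul_apply, hσ2]; rfl
  have hn2 : 2 ≤ n := by omega
  let ρ : ↥(Cfsg.GU n F q) →* MulAut (P n F) :=
    (MulAut.conj (cj h)).toMonoidHom.comp (cj.comp (Cfsg.GU n F q).subtype)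
  have hρ : ∀ g : ↥(Cfsg.GU n F q), ρ g = cj h * cj (g : GL (Fin n) F) * (cj h)⁻¹ := fun g => rfl
  refine equiv_of_range ρ _ ?_ _ ?_
  · ext β
    simp only [MonoidHom.mem_range, Subgroup.mem_inf, mem_inndiag, Subgroup.mem_centralizer_singleton_iff]
    constructor
    · rintro ⟨⟨g, hg⟩, rfl⟩
      rw [hρ]
      refine ⟨⟨h * g * h⁻¹, by simp⟩, ?_⟩
      have hc := (cj_commute_ψ hn σ hσ2 hσ g).2
        ⟨1, g, (HermitianFactor.mem_GU_iff (σ := (σ : F →+* F)) hq hss g).1 hg, by rw [map_one, one_mul]⟩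
      calc cj h * cj g * (cj h)⁻¹ * (cj h * (fd σ * it) * (cj h)⁻¹)
          = cj h * (cj g * (fd σ * it)) * (cj h)⁻¹ := by group
        _ = _ := by rw [hc]; group
    · rintro ⟨⟨g, rfl⟩, hc⟩
      have hc' : cj (h⁻¹ * g * h) * (fd σ * it) = (fd σ * it) * (cj (h⁻¹ * g * h) : MulAut (P n F)) := by
        calc cj (h⁻¹ * g * h) * (fd σ * it) = (cj h)⁻¹ * (cj g * (cj h * (fd σ * it) * (cj h)⁻¹)) * cj h := by
              simp [mul_assoc]
          _ = _ := by rw [hc]; simp [mul_assoc]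
      obtain ⟨y, g0, hg0, hg⟩ := (cj_commute_ψ hn σ hσ2 hσ _).1 hc'
      refine ⟨⟨g0, (HermitianFactor.mem_GU_iff (σ := (σ : F →+* F)) hq hss g0).2 hg0⟩, ?_⟩
      rw [hρ]
      have : (cj g0 : MulAut (P n F)) = cj (h⁻¹ * g * h) := by rw [hg, map_mul, cj_scalar hn2, one_mul]
      rw [this]
      simp [mul_assoc]
  · ext g
    rw [MonoidHom.mem_ker, hρ, conj_eq_one_iff, cj_eq_one_iff hn2, mem_center, Subgroup.mem_subgroupOf]
    constructor
    · rintro ⟨u, hu⟩
      exact (Cfsg.Geo.mem_scalars_iff _).2 ⟨u, by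
        rw [hu, Matrix.GeneralLinearGroup.coe_scalar, Matrix.scalar_apply, ← Matrix.smul_one_eq_diagonal]⟩
    · intro hg
      obtain ⟨u, hu⟩ := (Cfsg.Geo.mem_scalars_iff _).1 hg
      exact ⟨u, Units.ext (by
        rw [hu, Matrix.GeneralLinearGroup.coe_scalar, Matrix.scalar_apply, ← Matrix.smul_one_eq_diagonal])⟩

/-- The involutory automorphism of a finite field with fixed field of order `q` is `x ↦ x ^ q`. -/
theorem involution_eq_pow [Fintype F] (σ : F ≃+* F) (hσ2 : σ * σ = 1) (hσ : σ ≠ 1) {q : ℕ}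
    (hq : Nat.card {x : F // σ x = x} = q) (hF : Fintype.card F = q ^ 2) (x : F) : σ x = x ^ q := by
  classical
  have hss : ∀ y, σ (σ y) = y := fun y => by rw [← RingAut.mul_apply, hσ2]; rfl
  obtain ⟨π, hπ, -, -⟩ := HermitianFactor.exists_conjugation hF
  have hfix : ∀ y, σ y = y → π y = y := by
    intro y hy
    rw [hπ]
    rcases eq_or_ne y 0 with rfl | hy0
    · rw [zero_pow]
      intro h0
      rw [h0] at hF
      simp [Fintype.card_ne_zero] at hF
    · let yu : fixedUnits σ := ⟨Units.mk0 y hy0, show Units.map (σ : F →* F) _ = _ from Units.ext hy⟩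
      have h1 : yu ^ Nat.card (fixedUnits σ) = 1 := pow_card_eq_one'
      have h1' : y ^ Nat.card (fixedUnits σ) = 1 := congrArg (fun u : fixedUnits σ => ((u : Fˣ) : F)) h1
      rw [← hq, ← card_fixedUnits, pow_succ, h1', one_mul]
  by_cases hx : σ x = x
  · rw [hx, ← hπ, hfix x hx]
  have hsum : π (x + σ x) = x + σ x := hfix _ (by rw [map_add, hss, add_comm])
  have hprod : π (x * σ x) = x * σ x := hfix _ (by rw [map_mul, hss, mul_comm])
  have hroot : (π x - x) * (π x - σ x) = 0 := by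
    have h0 : π ((x - x) * (x - σ x)) = 0 := by simp
    have h1 : π (x * x - (x + σ x) * x + x * σ x) = 0 := by
      have : x * x - (x + σ x) * x + x * σ x = 0 := by ring
      rw [this, map_zero]
    rw [map_add, map_sub, map_mul, map_mul π (x + σ x) x, hsum, hprod] at h1
    linear_combination h1
  rcases mul_eq_zero.1 hroot with e | e
  · exfalso
    have hpx : π x = x := sub_eq_zero.1 e
    have hle : Nat.card {y : F // y ^ q = y} ≤ q := by
      have hq1 : 1 < q := by
        have := Fintype.one_lt_card (α := F)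
        rw [hF] at this
        nlinarith
      have hne := FiniteField.X_pow_card_sub_X_ne_zero F hq1
      rw [Nat.card_eq_fintype_card, Fintype.card_subtype]
      refine le_trans ?_ (le_trans (Polynomial.card_roots' _) (FiniteField.X_pow_card_sub_X_natDegree_eq F hq1).le)
      refine le_trans (Finset.card_le_card ?_) (Multiset.toFinset_card_le _)
      intro y hy
      rw [Multiset.mem_toFinset, Polynomial.mem_roots hne]
      simp only [Finset.mem_filter, Finset.mem_univ, true_and] at hy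
      simp [hy]
    have hlt : q < Nat.card {y : F // y ^ q = y} := by
      rw [← hq, Nat.card_eq_fintype_card, Nat.card_eq_fintype_card]
      refine Fintype.card_lt_of_injective_of_notMem
        (fun y : {y : F // σ y = y} => (⟨y.1, by rw [← Nat.card_eq_fintype_card, hq, ← hπ]; exact hfix y.1 y.2⟩ : {y : F // y ^ _ = y}))
        (fun a b h => Subtype.ext (congrArg (fun z : {y : F // y ^ _ = y} => z.1) h))
        (b := ⟨x, by rw [← Nat.card_eq_fintype_card, hq, ← hπ]; exact hpx⟩) ?_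
      rintro ⟨y, hy⟩
      exact hx (by
        have : y.1 = x := congrArg Subtype.val hy
        rw [← this]; exact y.2)
    omega
  · rw [← hπ]; exact (sub_eq_zero.1 e).symm

end Cfsg.Agent.AutPSLField
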