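import Mathlib
import Cfsg.Prelude.Def_KGroupFacts
import Cfsg.Agent.Lib.AutPSLApi
import Cfsg.Agent.Lib.AutPSLField

/-! The structure of the outer automorphism group of `PSL n F`. -/

set_option autoImplicit false

namespace Cfsg.Agent.OutPSL52

open Matrix
open Cfsg.Agent.AutPSLBasic Cfsg.Agent.AutPSLGeometry Cfsg.Agent.AutPSLMain Cfsg.Agent.AutPSLApi
  Cfsg.Agent.AutPSLField
open scoped MatrixGroups

variable {n : ℕ} {F : Type*} [Field F]

lemma isCyclic_ringAut [Fintype F] {p f : ℕ} [Fact p.Prime] (hF : Fintype.card F = p ^ f) :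
    IsCyclic (F ≃+* F) := by
  haveI : CharP F p := charP_of_card_eq_prime_pow hF
  letI : Algebra (ZMod p) F := ZMod.algebra F p
  exact isCyclic_of_surjective
    ({ toFun := fun σ => σ.toRingEquiv
       map_one' := rfl
       map_mul' := fun _ _ => rfl } : (F ≃ₐ[ZMod p] F) →* (F ≃+* F))
    (fun σ => ⟨AlgEquiv.ofRingEquiv (f := σ) fun x =>
        RingHom.congr_fun (RingHom.ext_zmod (σ.toRingHom.comp (algebraMap (ZMod p) F)) (algebraMap (ZMod p) F)) x,
      RingEquiv.ext fun _ => rfl⟩)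

lemma fd_normalize (σ : F ≃+* F) (x : MulAut (P n F)) (hx : x ∈ (cj (n := n) (F := F)).range) :
    fd σ * x * (fd σ)⁻¹ ∈ (cj (n := n) (F := F)).range := by
  obtain ⟨g, rfl⟩ := hx
  rw [fd_mul_cj, mul_inv_cancel_right]
  exact ⟨_, rfl⟩

lemma it_normalize [NeZero n] (x : MulAut (P n F)) (hx : x ∈ (cj (n := n) (F := F)).range) :
    it * x * (it : MulAut (P n F))⁻¹ ∈ (cj (n := n) (F := F)).range := by
  obtain ⟨g, rfl⟩ := hx
  rw [it_mul_cj, mul_inv_cancel_right]
  exact ⟨_, rfl⟩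

lemma cj_range_normal [Fintype F] (hn : 2 ≤ n) : ((cj (n := n) (F := F)).range).Normal := by
  haveI : NeZero n := ⟨by omega⟩
  refine ⟨fun x hx α => ?_⟩
  obtain ⟨g, σ, h | ⟨-, h⟩⟩ := aut_decomp hn α
  · rw [h, show cj g * fd σ * x * (cj g * fd σ)⁻¹ = cj g * (fd σ * x * (fd σ)⁻¹) * (cj g)⁻¹ by group]
    exact mul_mem (mul_mem ⟨g, rfl⟩ (fd_normalize σ x hx)) (inv_mem ⟨g, rfl⟩)
  · rw [h, show cj g * fd σ * it * x * (cj g * fd σ * it)⁻¹ =
      cj g * (fd σ * (it * x * it⁻¹) * (fd σ)⁻¹) * (cj g)⁻¹ by group]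
    exact mul_mem (mul_mem ⟨g, rfl⟩ (fd_normalize σ _ (it_normalize x hx))) (inv_mem ⟨g, rfl⟩)

lemma inn_le : Cfsg.Inn (P n F) ≤ (cj (n := n) (F := F)).range := by
  rw [inn_eq]; exact Subgroup.map_le_range _ _

/-- The diagonal outer automorphisms. -/
noncomputable def diagHom (hn : 1 ≤ n) : Fˣ →* Cfsg.Out (P n F) :=
  (QuotientGroup.mk' (Cfsg.Inn (P n F))).comp (cj.comp
    { toFun := fun u => g1 hn u
      map_one' := by
        apply Units.ext
        show diagonal _ = (1 : Matrix (Fin n) (Fin n) F)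
        rw [← diagonal_one]
        congr 1; funext i; simp only; split <;> simp
      map_mul' := fun u v => by
        apply Units.ext
        show diagonal _ = diagonal _ * diagonal _
        rw [diagonal_mul_diagonal]
        congr 1; funext i; simp only; split <;> simp })

lemma diagHom_apply (hn : 1 ≤ n) (u : Fˣ) :
    diagHom (F := F) hn u = QuotientGroup.mk (cj (g1 hn u)) := rfl

lemma diag_range (hn : 1 ≤ n) :
    (diagHom (n := n) (F := F) hn).range = (cj (n := n) (F := F)).range.map (QuotientGroup.mk' (Cfsg.Inn (P n F))) := by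
  refine le_antisymm ?_ ?_
  · rintro _ ⟨u, rfl⟩
    exact ⟨_, ⟨g1 hn u, rfl⟩, rfl⟩
  · rintro _ ⟨_, ⟨g, rfl⟩, rfl⟩
    refine ⟨Matrix.GeneralLinearGroup.det g, ?_⟩
    rw [diagHom_apply, QuotientGroup.mk'_apply, QuotientGroup.eq, inn_eq, ← ker_det]
    refine ⟨(g1 hn (Matrix.GeneralLinearGroup.det g))⁻¹ * g, ?_, by rw [map_mul, map_inv]⟩
    simp [det_g1]

lemma det_scalar' (c : Fˣ) :
    Matrix.GeneralLinearGroup.det (Matrix.GeneralLinearGroup.scalar (Fin n) c) = c ^ n := by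
  apply Units.ext
  show Matrix.det (Matrix.scalar (Fin n) (c : F)) = _
  simp

lemma diag_ker (hn : 2 ≤ n) :
    (diagHom (n := n) (F := F) (by omega)).ker = (powMonoidHom n : Fˣ →* Fˣ).range := by
  ext u
  rw [MonoidHom.mem_ker, diagHom_apply, QuotientGroup.eq_one_iff, inn_eq, ← ker_det]
  constructor
  · rintro ⟨s, hs, he⟩
    obtain ⟨c, hc⟩ := cj_eq_cj hn he.symm
    refine ⟨c, ?_⟩
    have h := congrArg (Matrix.GeneralLinearGroup.det) hc
    rw [det_g1, map_mul, det_scalar', MonoidHom.mem_ker.1 hs, mul_one] at h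
    simp [h]
  · rintro ⟨c, rfl⟩
    refine ⟨(Matrix.GeneralLinearGroup.scalar (Fin n) c)⁻¹ * g1 (by omega) ((powMonoidHom n : Fˣ →* Fˣ) c), ?_, ?_⟩
    · simp [det_g1, det_scalar']
    · rw [map_mul, map_inv, cj_scalar hn, inv_one, one_mul]

theorem structure_of [Fintype F] (hn : 2 ≤ n) {A : Type*} [Group A] {B : Type*} [Group B] (Φ : A →* MulAut (P n F))
    (hinj : ∀ a, Φ a ∈ (cj (n := n) (F := F)).range → a = 1)
    (hsurj : ∀ α : MulAut (P n F), ∃ g a, α = cj g * Φ a) (eB : A ≃* B) :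
    ∃ φ : Cfsg.Out (P n F) →* B, Function.Surjective φ ∧ IsCyclic φ.ker ∧
      Nat.card φ.ker = Nat.gcd n (Fintype.card F - 1) := by
  classical
  set D := (cj (n := n) (F := F)).range with hD
  haveI : D.Normal := cj_range_normal hn
  let ψ : A →* MulAut (P n F) ⧸ D := (QuotientGroup.mk' D).comp Φ
  have hψ : Function.Bijective ψ := by
    refine ⟨(injective_iff_map_eq_one ψ).2 fun a ha => hinj a ((QuotientGroup.eq_one_iff _).1 ha), fun x => ?_⟩
    obtain ⟨α, rfl⟩ := QuotientGroup.mk_surjective x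
    obtain ⟨g, a, rfl⟩ := hsurj α
    exact ⟨a, by
      have h1 : ((cj g : MulAut (P n F)) : MulAut (P n F) ⧸ D) = 1 := (QuotientGroup.eq_one_iff _).2 ⟨g, rfl⟩
      show ((Φ a : MulAut (P n F)) : MulAut (P n F) ⧸ D) = _
      rw [QuotientGroup.mk_mul, h1, one_mul]⟩
  let e : A ≃* MulAut (P n F) ⧸ D := MulEquiv.ofBijective ψ hψ
  let π : Cfsg.Out (P n F) →* MulAut (P n F) ⧸ D :=
    QuotientGroup.lift (Cfsg.Inn (P n F)) (QuotientGroup.mk' D) fun x hx => (QuotientGroup.eq_one_iff _).2 (inn_le hx)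
  let φ : Cfsg.Out (P n F) →* B := (e.symm.trans eB).toMonoidHom.comp π
  have hπ : Function.Surjective π := fun x => by
    obtain ⟨α, rfl⟩ := QuotientGroup.mk_surjective x
    exact ⟨QuotientGroup.mk α, rfl⟩
  have hker : φ.ker = (diagHom (n := n) (F := F) (by omega)).range := by
    rw [diag_range]
    ext x
    obtain ⟨α, rfl⟩ := QuotientGroup.mk_surjective x
    constructor
    · intro hx
      have h : π (QuotientGroup.mk α) = 1 := (e.symm.trans eB).injective ((MonoidHom.mem_ker.1 hx).trans (map_one _).symm)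
      exact ⟨α, (QuotientGroup.eq_one_iff _).1 h, rfl⟩
    · rintro ⟨β, hβ, hβe⟩
      rw [← hβe, MonoidHom.mem_ker]
      show (e.symm.trans eB) ((β : MulAut (P n F) ⧸ D)) = 1
      rw [(QuotientGroup.eq_one_iff β).2 hβ]
      exact map_one _
  refine ⟨φ, (e.symm.trans eB).surjective.comp hπ, ?_, ?_⟩
  · rw [hker]
    exact isCyclic_of_surjective _ (MonoidHom.rangeRestrict_surjective _)
  · rw [hker, ← Subgroup.index_ker, diag_ker hn]
    rw [Subgroup.index_range, IsCyclic.card_powMonoidHom_ker, Nat.card_eq_fintype_card, Fintype.card_units, Nat.gcd_comm]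

end Cfsg.Agent.OutPSL52
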