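import Mathlib
import Cfsg.Prelude.Def_LieTypeDatum
import Cfsg.Agent.Lib.AutPSU52Main
import Cfsg.Agent.Lib.AutPSLApi
import Cfsg.Agent.Lib.OutPSL52

/-!
The predicates of the Prelude on automorphisms of `PSU` in terms of `cj` and `fd`; faithfulness,
counting and the structure of the outer automorphism group.
-/

set_option autoImplicit false
set_option linter.unusedSectionVars false

namespace Cfsg.Agent.AutPSU52Api

open Matrix
open Cfsg.Agent.OrthUnitaryHerm Cfsg.Agent.OrthUnitaryTransvection Cfsg.Agent.OrthUnitaryPSU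
open Cfsg.Agent.AutPSU52Basic Cfsg.Agent.AutPSU52Transv Cfsg.Agent.AutPSU52Core
open Cfsg.Agent.AutPSU52Frame Cfsg.Agent.AutPSU52Semilin Cfsg.Agent.AutPSU52Main

variable {F : Type*} [Field F] {q n : ℕ}

theorem isInduced_iff (g : GU n F q) (σ : F ≃+* F) (β : MulAut (PSU n F q)) :
    Cfsg.IsInducedBySemilinearPSU (g : GL (Fin n) F) σ β ↔ β = cj g * fd σ := by
  constructor
  · intro h
    apply MulEquiv.ext
    intro x
    induction x using QuotientGroup.induction_on with
    | H s =>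
      rw [cj_fd_mk]
      exact h s _ rfl
  · rintro rfl s s' e
    rw [cj_fd_mk]
    congr 1
    exact Subtype.ext (Subtype.ext e.symm)

theorem isField_iff (σ : F ≃+* F) (β : MulAut (PSU n F q)) :
    Cfsg.IsFieldAutPSUOf σ β ↔ β = fd σ := by
  constructor
  · intro h
    apply MulEquiv.ext
    intro x
    induction x using QuotientGroup.induction_on with
    | H s =>
      rw [fd_mk]
      exact h s _ rfl
  · rintro rfl s s' e
    rw [fd_mk]
    congr 1
    exact Subtype.ext (Subtype.ext e.symm)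

theorem isInnerDiagonal_iff (β : MulAut (PSU n F q)) :
    Cfsg.IsInnerDiagonalAutPSU β ↔ ∃ g, β = cj g := by
  constructor
  · rintro ⟨g, hg, h⟩
    refine ⟨⟨g, hg⟩, ?_⟩
    apply MulEquiv.ext
    intro x
    induction x using QuotientGroup.induction_on with
    | H s =>
      rw [cj_mk]
      exact h s _ rfl
  · rintro ⟨g, rfl⟩
    refine ⟨g, g.2, fun s s' e => ?_⟩
    rw [cj_mk]
    congr 1
    exact Subtype.ext (Subtype.ext e.symm)

theorem inndiag_eq : Cfsg.inndiagPSU n F q = (cj (n := n) (F := F) (q := q)).range := by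
  have : {β : MulAut (PSU n F q) | Cfsg.IsInnerDiagonalAutPSU β}
      = ((cj (n := n) (F := F) (q := q)).range : Set _) := by
    ext β
    simp [isInnerDiagonal_iff, eq_comm]
  rw [Cfsg.inndiagPSU, Cfsg.autSubgroupOf, this, Subgroup.closure_eq]

theorem mem_inndiag (β : MulAut (PSU n F q)) : β ∈ Cfsg.inndiagPSU n F q ↔ ∃ g, β = cj g := by
  rw [inndiag_eq, MonoidHom.mem_range]
  simp [eq_comm]

/-- A field automorphism applied entrywise, on `GU`. -/
def gmU (σ : F ≃+* F) : GU n F q →* GU n F q :=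
  MonoidHom.codRestrict ((Matrix.GeneralLinearGroup.map (σ : F →+* F)).comp (GU n F q).subtype) _
    fun g => isU_map σ (isU_of_mem g)

theorem coe_gmU (σ : F ≃+* F) (g : GU n F q) : gMat (gmU σ g) = (gMat g).map σ := rfl

theorem gmU_mul (σ τ : F ≃+* F) (g : GU n F q) : gmU (σ * τ) g = gmU σ (gmU τ g) :=
  Subtype.ext (Units.ext rfl)

theorem gmU_one (g : GU n F q) : gmU (1 : F ≃+* F) g = g :=
  Subtype.ext (Units.ext (by ext i j; rfl))

theorem fd_mul_cj (σ : F ≃+* F) (g : GU n F q) :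
    (fd σ : MulAut (PSU n F q)) * cj g = cj (gmU σ g) * fd σ := by
  apply MulEquiv.ext
  intro x
  induction x using QuotientGroup.induction_on with
  | H s =>
    rw [MulAut.mul_apply, MulAut.mul_apply, cj_mk, fd_mk, fd_mk, cj_mk]
    congr 1
    apply Subtype.ext
    apply Subtype.ext
    show sMat (suField σ (suConj g s)) = sMat (suConj (gmU σ g) (suField σ s))
    rw [coe_suField, coe_suConj, coe_suConj, coe_suField, ← map_inv, coe_gmU, coe_gmU,
      Matrix.map_mul, Matrix.map_mul]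

variable [Fintype F]

/-- Every automorphism is `cj g * fd σ`. -/
theorem aut_decomp (hF : Fintype.card F = q ^ 2) (hn : 3 ≤ n) (h32 : ¬(n = 3 ∧ q = 2))
    (α : MulAut (PSU n F q)) : ∃ (g : GU n F q) (σ : F ≃+* F), α = cj g * fd σ := by
  obtain ⟨s, g, σ, h⟩ := exists_decomp hF hn h32 α
  exact ⟨suToGU s * g, σ, by rw [h, map_mul, mul_assoc]⟩

theorem gamma_eq_top (hF : Fintype.card F = q ^ 2) (hn : 3 ≤ n) (h32 : ¬(n = 3 ∧ q = 2)) :
    Cfsg.gammaPSU n F q = ⊤ := by
  rw [eq_top_iff]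
  intro α _
  obtain ⟨g, σ, rfl⟩ := aut_decomp hF hn h32 α
  exact Subgroup.subset_closure ⟨(g : GL (Fin n) F), σ, g.2, (isInduced_iff g σ _).2 rfl⟩

theorem cj_scalar {g : GU n F q} (h : (g : GL (Fin n) F) ∈ Cfsg.Geo.scalars (Fin n) F) :
    (cj g : MulAut (PSU n F q)) = 1 := by
  obtain ⟨c, hc⟩ := (Cfsg.Geo.mem_scalars_iff _).1 h
  apply MulEquiv.ext
  intro x
  induction x using QuotientGroup.induction_on with
  | H s =>
    rw [cj_mk, MulAut.one_apply]
    congr 1
    apply Subtype.ext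
    apply Subtype.ext
    show sMat (suConj g s) = sMat s
    rw [coe_suConj]
    have hcm : gMat g * sMat s = sMat s * gMat g := by
      rw [gMat, hc, smul_mul, one_mul, Matrix.mul_smul, mul_one]
    rw [hcm, mul_assoc, gMat, gMat, Subgroup.coe_inv, Units.mul_inv, mul_one]

/-- The kernel of the action of semilinear unitary maps on `PSU`. -/
theorem cj_fd_eq_one (hF : Fintype.card F = q ^ 2) (hn : 3 ≤ n) {g : GU n F q} {σ : F ≃+* F}
    (h : cj g * fd σ = (1 : MulAut (PSU n F q))) :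
    (g : GL (Fin n) F) ∈ Cfsg.Geo.scalars (Fin n) F ∧ σ = 1 := by
  obtain ⟨p, hp, hc, -⟩ := exists_char hF
  obtain ⟨e, f, hfr⟩ := exists_frame (n := n) (F := F) (q := q) hF hn
  have hfix : ∀ s : SU n F q,
      (QuotientGroup.mk (autS g σ s) : PSU n F q) = QuotientGroup.mk s := fun s => by
    rw [← cj_fd_mk, h, MulAut.one_apply]
  -- isotropic lines are fixed
  have hline : ∀ v, v ≠ 0 → hermForm n F q v v = 0 → ∃ a : F, a ≠ 0 ∧ semi g σ v = a • v ∧
      ∀ c, c + c ^ q = 0 → a ^ q * a * σ c = c := by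
    intro v hv0 hv
    obtain ⟨c₀, hc₀0, hc₀⟩ := exists_skew hF
    have hGv0 : semi g σ v ≠ 0 := fun h0 => by
      obtain ⟨z, hz⟩ := exists_herm_ne hF hv0
      have h1 := herm_semi g σ z v
      rw [h0, herm_zero_right hF] at h1
      exact hz ((map_eq_zero σ).1 h1.symm)
    have h1 := hfix (tv hF v c₀ hv hc₀)
    rw [autS_tv] at h1
    obtain ⟨a, ha⟩ := eq_smul_of_tv_eq hF hn hGv0 ((map_ne_zero σ).2 hc₀0) h1
    have ha0 : a ≠ 0 := fun h0 => hGv0 (by rw [ha, h0, zero_smul])
    refine ⟨a, ha0, ha, fun c hc => ?_⟩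
    have hsc : σ c + σ c ^ q = 0 := by rw [← map_pow, ← map_add, hc, map_zero]
    have h2 := hfix (tv hF v c hv hc)
    rw [autS_tv] at h2
    obtain ⟨l, -, hl⟩ := exists_smul_of_mk_eq hF (by omega) h2
    obtain ⟨y, hy0, hyv, -⟩ := exists_perp_ne_zero (q := q) hn v v
    have hyGv : hermForm n F q y (semi g σ v) = 0 := by rw [ha, herm_smul_right, hyv, mul_zero]
    have h3 := hl y
    simp only [tv_act, hyv, hyGv, mul_zero, zero_smul, add_zero] at h3
    have hl1 : l = 1 := smul_left_injective F hy0 (h3.symm.trans (one_smul F y).symm)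
    obtain ⟨z, hz⟩ := exists_herm_eq hF hv0 1
    have h4 := hl z
    rw [hl1, one_smul, tv_act, tv_act, hz, mul_one, ha, herm_smul_right, hz, mul_one, smul_smul,
      add_right_inj] at h4
    linear_combination -smul_left_injective F hv0 h4
  obtain ⟨a, ha0, hGe, haN⟩ := hline e hfr.e_ne hfr.ee
  obtain ⟨b, hb0, hGf, -⟩ := hline f hfr.f_ne hfr.ff
  have hab : a * b ^ q = 1 := by
    have h1 := herm_semi g σ e f
    rw [hGe, hGf, herm_smul_left, herm_smul_right, hfr.ef, map_one, mul_one] at h1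
    exact h1
  have hW : ∀ w, InW q e f w → semi g σ w = b • w := by
    intro w hw
    have hGw : InW q e f (semi g σ w) := by
      constructor
      · have h1 := herm_semi g σ w e
        rw [hGe, herm_smul_right, hw.1, map_zero] at h1
        exact (mul_eq_zero.1 h1).resolve_left (pow_ne_zero q ha0)
      · have h1 := herm_semi g σ w f
        rw [hGf, herm_smul_right, hw.2, map_zero] at h1
        exact (mul_eq_zero.1 h1).resolve_left (pow_ne_zero q hb0)
    obtain ⟨μ, hμ⟩ := exists_mu hF w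
    have h1 := hfix (eich hF e w μ hfr.ee hw.1 hμ)
    rw [autS_eich] at h1
    obtain ⟨l, -, hl⟩ := exists_smul_of_mk_eq hF (by omega) h1
    have hle := hl e
    simp only [eich_self, eich_act, hGe, herm_smul_right, hfr.ee, mul_zero, zero_smul, zero_sub,
      herm_skew_zero hF hGw.1, add_zero, neg_zero] at hle
    have hl1 : l = 1 := smul_left_injective F hfr.e_ne (hle.symm.trans (one_smul F e).symm)
    have h2 := hl f
    rw [hl1, one_smul, eich_act, eich_act, hGe, herm_smul_right, hfr.fe,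
      herm_skew_zero hF hw.2, herm_skew_zero hF hGw.2, one_smul] at h2
    simp only [mul_one, sub_zero, smul_smul] at h2
    have h3 := congrArg (proj2 q e f) h2
    have he : proj2 q e f e = 0 := by rw [proj2_apply, hfr.ef, hfr.ee]; module
    simp only [map_add, map_smul, proj2_of_inW hw, proj2_of_inW hGw, he, smul_zero,
      add_zero, add_right_inj] at h3
    conv_rhs => rw [h3]
    rw [smul_smul, show b * a ^ q = 1 by
      have := congrArg (· ^ q) hab
      simp only [mul_pow, pow_q_q hF, one_pow] at this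
      linear_combination this, one_smul]
  obtain ⟨k, hke, hkf, hkk⟩ := exists_perp2 hF hn hfr.ee hfr.ff hfr.ef hfr.fe (one_pow q)
  have hk0 : k ≠ 0 := fun h0 => by rw [h0, herm_zero_left] at hkk; exact zero_ne_one hkk
  have hσ : σ = 1 := by
    refine RingEquiv.ext fun t => ?_
    have h1 := hW (t • k) (InW.smul ⟨hke, hkf⟩ t)
    rw [semi_smul, hW k ⟨hke, hkf⟩, smul_smul, smul_smul] at h1
    have h2 := smul_left_injective F hk0 h1
    show σ t = t
    exact mul_right_cancel₀ hb0 (by linear_combination h2)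
  subst hσ
  have hN : a ^ q * a = 1 := by
    obtain ⟨c, hc0, hc⟩ := exists_skew hF
    have h1 := haN c hc
    exact mul_right_cancel₀ hc0 (by rw [one_mul]; exact h1)
  have hba : b = a := by
    have h1 := congrArg (· ^ q) hab
    simp only [mul_pow, pow_q_q hF, one_pow] at h1
    exact mul_left_cancel₀ (pow_ne_zero q ha0) (by rw [h1, hN])
  refine ⟨(Cfsg.Geo.mem_scalars_iff _).2 ⟨Units.mk0 a ha0, ?_⟩, rfl⟩
  refine Matrix.ext_of_mulVec_single fun i => ?_
  have h1 : ∀ x, semi g (1 : F ≃+* F) x = gMat g *ᵥ x := fun x => rfl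
  rw [show ((g : GL (Fin n) F) : Matrix (Fin n) (Fin n) F) = gMat g from rfl, ← h1, smul_mulVec,
    one_mulVec, Units.val_mk0]
  conv_lhs => rw [decomp (q := q) (e := e) (f := f) (Pi.single i (1 : F))]
  rw [semi_add, semi_add, semi_smul, semi_smul, hGe, hGf, hW _ (inW_proj2 hfr _), hba,
    RingAut.one_apply, RingAut.one_apply, smul_comm _ a, smul_comm _ a, ← smul_add, ← smul_add,
    ← decomp]

theorem cj_eq_one_iff (hF : Fintype.card F = q ^ 2) (hn : 3 ≤ n) (g : GU n F q) :
    (cj g : MulAut (PSU n F q)) = 1 ↔ (g : GL (Fin n) F) ∈ Cfsg.Geo.scalars (Fin n) F :=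
  ⟨fun h => (cj_fd_eq_one hF hn (g := g) (σ := 1) (by rw [map_one, mul_one, h])).1, cj_scalar⟩

/-- Conjugation, on `PGU`. -/
def cjP : Cfsg.PGU n F q →* MulAut (PSU n F q) :=
  QuotientGroup.lift _ cj fun _ hg => cj_scalar (Subgroup.mem_subgroupOf.1 hg)

theorem semilinear_injective (hF : Fintype.card F = q ^ 2) (hn : 3 ≤ n) :
    Function.Injective fun x : Cfsg.PGU n F q × (F ≃+* F) => cjP x.1 * fd x.2 := by
  rintro ⟨x, σ⟩ ⟨y, τ⟩ h
  obtain ⟨x, rfl⟩ := QuotientGroup.mk_surjective x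
  obtain ⟨y, rfl⟩ := QuotientGroup.mk_surjective y
  have h' : (cj x * fd σ : MulAut (PSU n F q)) = cj y * fd τ := h
  have h1 : cj (y⁻¹ * x) * fd (σ * τ⁻¹) = (1 : MulAut (PSU n F q)) := by
    rw [map_mul cj, map_mul fd, map_inv, map_inv, mul_assoc, ← mul_assoc (cj x), h']
    group
  obtain ⟨hs, hστ⟩ := cj_fd_eq_one hF hn h1
  exact Prod.ext (QuotientGroup.eq.2 (Subgroup.mem_subgroupOf.2 (by simpa using inv_mem hs)))
    (mul_inv_eq_one.1 hστ)

/-- The norm-one scalars. -/
abbrev mu (q : ℕ) (F : Type*) [Field F] : Subgroup Fˣ := (powMonoidHom (q + 1) : Fˣ →* Fˣ).ker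

theorem card_mu (hF : Fintype.card F = q ^ 2) : Nat.card (mu q F) = q + 1 := card_normOne hF

theorem scalar_mem_GU {u : Fˣ} (hu : u ∈ mu q F) :
    Units.map (Matrix.scalar (Fin n) : F →+* Matrix (Fin n) (Fin n) F).toMonoidHom u
      ∈ GU n F q := by
  have hu' : (u : F) ^ (q + 1) = 1 := by
    have := congrArg Units.val (MonoidHom.mem_ker.1 hu)
    simpa using this
  intro x y
  show hermForm n F q (Matrix.scalar (Fin n) (u : F) *ᵥ x) (Matrix.scalar (Fin n) (u : F) *ᵥ y) = _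
  rw [Matrix.scalar_apply, ← Matrix.smul_one_eq_diagonal, smul_mulVec, smul_mulVec, one_mulVec,
    one_mulVec, herm_smul_left, herm_smul_right, ← mul_assoc, ← pow_succ', hu', one_mul]

theorem card_scalarsGU (hF : Fintype.card F = q ^ 2) (hn : 1 ≤ n) :
    Nat.card ((Cfsg.Geo.scalars (Fin n) F).subgroupOf (GU n F q)) = q + 1 := by
  rw [← card_mu hF]
  refine (Nat.card_eq_of_bijective (fun u : mu q F =>
    (⟨⟨_, scalar_mem_GU u.2⟩, Subgroup.mem_subgroupOf.2 ⟨u.1, rfl⟩⟩ :
      (Cfsg.Geo.scalars (Fin n) F).subgroupOf (GU n F q))) ⟨?_, ?_⟩).symm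
  · intro u v huv
    have h1 := congrArg (fun g : (Cfsg.Geo.scalars (Fin n) F).subgroupOf (GU n F q) =>
      gMat g.1 ⟨0, hn⟩ ⟨0, hn⟩) huv
    exact Subtype.ext (Units.ext (by simpa [gMat] using h1))
  · rintro ⟨⟨g, hg⟩, hgs⟩
    obtain ⟨u, hu⟩ := Subgroup.mem_subgroupOf.1 hgs
    refine ⟨⟨u, MonoidHom.mem_ker.2 (Units.ext ?_)⟩, Subtype.ext (Subtype.ext hu)⟩
    have h1 : IsU q (g : Matrix (Fin n) (Fin n) F) := hg
    have hu' : (g : Matrix (Fin n) (Fin n) F) = Matrix.scalar (Fin n) (u : F) :=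
      (congrArg Units.val hu).symm
    have h2 := h1 (Pi.single ⟨0, hn⟩ 1) (Pi.single ⟨0, hn⟩ 1)
    rw [hu', Matrix.scalar_apply, ← Matrix.smul_one_eq_diagonal, smul_mulVec, one_mulVec,
      herm_smul_left, herm_smul_right, herm_single_right hF, Pi.single_eq_same, mul_one,
      ← pow_succ'] at h2
    simpa using h2

theorem card_PGU (hF : Fintype.card F = q ^ 2) (hn : 2 ≤ n) :
    Nat.card (Cfsg.PGU n F q) = Nat.gcd n (q + 1) * Nat.card (PSU n F q) := by
  have h := Subgroup.card_eq_card_quotient_mul_card_subgroup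
    ((Cfsg.Geo.scalars (Fin n) F).subgroupOf (GU n F q))
  rw [card_scalarsGU hF (by omega)] at h
  have h2 := card_PSU_mul (n := n) hF hn
  rw [h] at h2
  exact Nat.eq_of_mul_eq_mul_right (Nat.succ_pos q) (h2.symm.trans (by simp [Nat.succ_eq_add_one]; ring))

theorem card_mulAut {p f : ℕ} [Fact p.Prime] (hq : q = p ^ f) (hf : 1 ≤ f)
    (hF : Fintype.card F = q ^ 2) (hn : 3 ≤ n) (h32 : ¬(n = 3 ∧ q = 2)) :
    Nat.card (MulAut (PSU n F q))
      = Nat.gcd n (q + 1) * (2 * f) * Nat.card (PSU n F q) := by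
  have hF' : Fintype.card F = p ^ (2 * f) := by rw [hF, hq, ← pow_mul, mul_comm]
  rw [mul_right_comm, ← card_PGU hF (by omega), ← AutPSLApi.card_ringAut hF' (by omega),
    ← Nat.card_prod]
  refine (Nat.card_congr (Equiv.ofBijective _ ⟨semilinear_injective hF hn, fun α => ?_⟩)).symm
  obtain ⟨g, σ, rfl⟩ := aut_decomp hF hn h32 α
  exact ⟨(QuotientGroup.mk g, σ), rfl⟩

theorem inn_eq : Cfsg.Inn (PSU n F q)
    = ((suToGU (n := n) (F := F) (q := q)).range).map cj := by
  ext β
  simp only [Cfsg.Inn, MonoidHom.mem_range, Subgroup.mem_map]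
  constructor
  · rintro ⟨x, rfl⟩
    obtain ⟨s, rfl⟩ := QuotientGroup.mk_surjective x
    exact ⟨suToGU s, ⟨s, rfl⟩, cj_suToGU s⟩
  · rintro ⟨_, ⟨s, rfl⟩, rfl⟩
    exact ⟨QuotientGroup.mk s, (cj_suToGU s).symm⟩

/-- The diagonal matrix with entries `u, 1, …, 1`. -/
def diag1 (hn : 1 ≤ n) (u : F) : Fin n → F := Function.update (fun _ => 1) ⟨0, hn⟩ u

/-- The diagonal section of the determinant on `GU`. -/
noncomputable def g1 (hF : Fintype.card F = q ^ 2) (hn : 1 ≤ n) : mu q F →* GU n F q :=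
  MonoidHom.mk'
    (fun u => mkGU hF (monMat 1 (diag1 hn (u.1 : F))) (isU_monMat 1 (fun i => by
      rcases eq_or_ne i ⟨0, hn⟩ with rfl | hi
      · rw [diag1, Function.update_self]
        have := congrArg Units.val (MonoidHom.mem_ker.1 u.2)
        simpa using this
      · rw [diag1, Function.update_of_ne hi, one_pow])))
    fun u v => by
      apply Subtype.ext
      apply Units.ext
      show (_ : Matrix (Fin n) (Fin n) F) = _
      rw [mkGU_coe]
      show _ = (_ : Matrix (Fin n) (Fin n) F) * (_ : Matrix (Fin n) (Fin n) F)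
      rw [mkGU_coe, mkGU_coe]
      simp only [monMat, Matrix.permMatrix_one, one_mul, Matrix.diagonal_mul_diagonal]
      congr 1
      funext i
      rcases eq_or_ne i ⟨0, hn⟩ with rfl | hi
      · simp [diag1]
      · simp [diag1, Function.update_of_ne hi]

theorem det_g1 (hF : Fintype.card F = q ^ 2) (hn : 1 ≤ n) (u : mu q F) :
    detGU (g1 hF hn u : GU n F q) = (u : Fˣ) := by
  apply Units.ext
  simp only [detGU, MonoidHom.coe_comp, Function.comp_apply, Subgroup.coe_subtype,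
    Matrix.GeneralLinearGroup.val_det_apply, g1, MonoidHom.mk'_apply]
  rw [mkGU_coe, det_monMat, diag1, Finset.prod_update_of_mem (Finset.mem_univ _)]
  simp

theorem det_scalarGU {u : Fˣ} (hu : u ∈ mu q F) :
    detGU (⟨_, scalar_mem_GU (n := n) hu⟩ : GU n F q) = u ^ n := by
  apply Units.ext
  show Matrix.det (Matrix.scalar (Fin n) (u : F)) = _
  simp

theorem out_structure {p f : ℕ} [Fact p.Prime] (hq : q = p ^ f) (hf : 1 ≤ f)
    (hF : Fintype.card F = q ^ 2) (hn : 3 ≤ n) (h32 : ¬(n = 3 ∧ q = 2)) :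
    ∃ φ : Cfsg.Out (PSU n F q) →* Multiplicative (ZMod (2 * f)),
      Function.Surjective φ ∧ IsCyclic φ.ker ∧ Nat.card φ.ker = Nat.gcd n (q + 1) := by
  classical
  have hn1 : 1 ≤ n := by omega
  have hF' : Fintype.card F = p ^ (2 * f) := by rw [hF, hq, ← pow_mul, mul_comm]
  haveI : IsCyclic (F ≃+* F) := OutPSL52.isCyclic_ringAut hF'
  have hcard : Nat.card (F ≃+* F) = 2 * f := AutPSLApi.card_ringAut hF' (by omega)
  let eB : (F ≃+* F) ≃* Multiplicative (ZMod (2 * f)) :=
    (hcard ▸ zmodCyclicMulEquiv (G := F ≃+* F) inferInstance).symm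
  set D := (cj (n := n) (F := F) (q := q)).range with hD
  haveI : D.Normal := by
    refine ⟨fun x hx α => ?_⟩
    obtain ⟨g, σ, rfl⟩ := aut_decomp hF hn h32 α
    obtain ⟨k, rfl⟩ := hx
    rw [mul_assoc (cj g), fd_mul_cj]
    refine ⟨g * gmU σ k * g⁻¹, ?_⟩
    rw [map_mul, map_mul, map_inv]
    group
  let ψ : (F ≃+* F) →* MulAut (PSU n F q) ⧸ D := (QuotientGroup.mk' D).comp fd
  have hψ : Function.Bijective ψ := by
    refine ⟨(injective_iff_map_eq_one ψ).2 fun σ hσ => ?_, fun x => ?_⟩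
    · obtain ⟨g, hg⟩ := (QuotientGroup.eq_one_iff _).1 hσ
      exact (cj_fd_eq_one hF hn (g := g⁻¹) (σ := σ)
        (by rw [map_inv, hg, inv_mul_cancel])).2
    · obtain ⟨α, rfl⟩ := QuotientGroup.mk_surjective x
      obtain ⟨g, σ, rfl⟩ := aut_decomp hF hn h32 α
      refine ⟨σ, ?_⟩
      have h1 : ((cj g : MulAut (PSU n F q)) : MulAut (PSU n F q) ⧸ D) = 1 :=
        (QuotientGroup.eq_one_iff _).2 ⟨g, rfl⟩
      show ((fd σ : MulAut (PSU n F q)) : MulAut (PSU n F q) ⧸ D) = _
      rw [QuotientGroup.mk_mul, h1, one_mul]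
  let e : (F ≃+* F) ≃* MulAut (PSU n F q) ⧸ D := MulEquiv.ofBijective ψ hψ
  have hInn : Cfsg.Inn (PSU n F q) ≤ D := by rw [inn_eq]; exact Subgroup.map_le_range _ _
  let π : Cfsg.Out (PSU n F q) →* MulAut (PSU n F q) ⧸ D :=
    QuotientGroup.lift (Cfsg.Inn (PSU n F q)) (QuotientGroup.mk' D)
      fun x hx => (QuotientGroup.eq_one_iff _).2 (hInn hx)
  have hπ : Function.Surjective π := fun x => by
    obtain ⟨α, rfl⟩ := QuotientGroup.mk_surjective x
    exact ⟨QuotientGroup.mk α, rfl⟩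
  let φ : Cfsg.Out (PSU n F q) →* Multiplicative (ZMod (2 * f)) :=
    (e.symm.trans eB).toMonoidHom.comp π
  let d : mu q F →* Cfsg.Out (PSU n F q) :=
    (QuotientGroup.mk' (Cfsg.Inn (PSU n F q))).comp (cj.comp (g1 hF hn1))
  have hker : φ.ker = d.range := by
    ext x
    obtain ⟨α, rfl⟩ := QuotientGroup.mk_surjective x
    constructor
    · intro hx
      have h : π (QuotientGroup.mk α) = 1 :=
        (e.symm.trans eB).injective ((MonoidHom.mem_ker.1 hx).trans (map_one _).symm)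
      obtain ⟨g, rfl⟩ := (QuotientGroup.eq_one_iff _).1 h
      have hdet : detGU g ∈ mu q F := by
        have := range_detGU (n := n) (F := F) (q := q) hF hn1
        rw [mu, ← this]
        exact ⟨g, rfl⟩
      refine ⟨⟨_, hdet⟩, ?_⟩
      show QuotientGroup.mk (cj (g1 hF hn1 ⟨_, hdet⟩)) = QuotientGroup.mk (cj g)
      rw [QuotientGroup.eq, inn_eq, range_suToGU]
      exact ⟨(g1 hF hn1 ⟨_, hdet⟩)⁻¹ * g,
        by rw [SetLike.mem_coe, MonoidHom.mem_ker, map_mul, map_inv, det_g1, inv_mul_cancel],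
        by rw [map_mul, map_inv]⟩
    · rintro ⟨u, hu⟩
      rw [← hu, MonoidHom.mem_ker]
      show (e.symm.trans eB)
        ((cj (g1 hF hn1 u) : MulAut (PSU n F q)) : MulAut (PSU n F q) ⧸ D) = 1
      have h1 : ((cj (g1 hF hn1 u) : MulAut (PSU n F q)) : MulAut (PSU n F q) ⧸ D) = 1 :=
        (QuotientGroup.eq_one_iff (N := D) _).2 (MonoidHom.mem_range.2 ⟨_, rfl⟩)
      rw [h1]
      exact map_one _
  have hdker : d.ker = (powMonoidHom n : mu q F →* mu q F).range := by
    ext u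
    show QuotientGroup.mk (cj (g1 hF hn1 u)) = 1 ↔ _
    rw [QuotientGroup.eq_one_iff, inn_eq, range_suToGU]
    constructor
    · rintro ⟨s, hs, hse⟩
      have h1 : cj (s⁻¹ * g1 hF hn1 u) = (1 : MulAut (PSU n F q)) := by
        rw [map_mul, map_inv, hse, inv_mul_cancel]
      obtain ⟨c, hc⟩ := (cj_eq_one_iff hF hn _).1 h1
      have hcmu : c ∈ mu q F := by
        refine MonoidHom.mem_ker.2 (Units.ext ?_)
        have h2 : IsU q (Matrix.scalar (Fin n) (c : F)) := by
          have h3 := (s⁻¹ * g1 hF hn1 u).2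
          rw [← hc] at h3
          exact h3
        have h4 := h2 (Pi.single ⟨0, hn1⟩ 1) (Pi.single ⟨0, hn1⟩ 1)
        rw [Matrix.scalar_apply, ← Matrix.smul_one_eq_diagonal, smul_mulVec, one_mulVec,
          herm_smul_left, herm_smul_right, herm_single_right hF, Pi.single_eq_same, mul_one,
          ← pow_succ'] at h4
        simpa using h4
      refine ⟨⟨c, hcmu⟩, Subtype.ext ?_⟩
      have h5 := congrArg detGU
        (show (⟨_, scalar_mem_GU hcmu⟩ : GU n F q) = s⁻¹ * g1 hF hn1 u from Subtype.ext hc)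
      rw [det_scalarGU hcmu, map_mul, map_inv, MonoidHom.mem_ker.1 hs, inv_one, one_mul,
        det_g1] at h5
      exact h5
    · rintro ⟨c, rfl⟩
      refine ⟨(⟨_, scalar_mem_GU c.2⟩ : GU n F q)⁻¹ * g1 hF hn1 (powMonoidHom n c), ?_, ?_⟩
      · rw [SetLike.mem_coe, MonoidHom.mem_ker, map_mul, map_inv, det_scalarGU c.2, det_g1]
        simp
      · rw [map_mul, map_inv, cj_scalar ⟨c.1, rfl⟩, inv_one, one_mul]
  refine ⟨φ, (e.symm.trans eB).surjective.comp hπ, ?_, ?_⟩
  · rw [hker]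
    exact isCyclic_of_surjective _ (MonoidHom.rangeRestrict_surjective _)
  · rw [hker, ← Subgroup.index_ker, hdker, IsCyclic.index_powMonoidHom_range, card_mu hF,
      Nat.gcd_comm]

end Cfsg.Agent.AutPSU52Api
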