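import Mathlib
import Cfsg.Prelude.Def_Classical
import Cfsg.Prelude.Def_ClassicalGeometry

/-!
Symplectic groups over a field: the alternating form, transvections, transitivity, generation.
-/

set_option autoImplicit false

open Matrix

namespace Cfsg.Agent.SymplecticBasic

section Form

variable {R : Type*} [CommRing R] {m : ℕ}

theorem form_eq_sum (u v : Fin m ⊕ Fin m → R) :
    sympForm m R u v = ∑ i, (u (Sum.inr i) * v (Sum.inl i) - u (Sum.inl i) * v (Sum.inr i)) := by
  simp [sympForm, Matrix.J, Matrix.fromBlocks_mulVec, dotProduct, Fintype.sum_sum_type,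
    Finset.sum_add_distrib, Matrix.neg_mulVec, sub_eq_add_neg, add_comm]

theorem form_self (u : Fin m ⊕ Fin m → R) : sympForm m R u u = 0 := by
  rw [form_eq_sum]; exact Finset.sum_eq_zero fun i _ => by ring

theorem form_swap (u v : Fin m ⊕ Fin m → R) : sympForm m R v u = - sympForm m R u v := by
  rw [form_eq_sum, form_eq_sum, ← Finset.sum_neg_distrib]
  exact Finset.sum_congr rfl fun i _ => by ring

theorem form_eq_zero_comm {u v : Fin m ⊕ Fin m → R} :
    sympForm m R u v = 0 ↔ sympForm m R v u = 0 := by rw [form_swap u v, neg_eq_zero]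

theorem form_add_left (u u' v : Fin m ⊕ Fin m → R) :
    sympForm m R (u + u') v = sympForm m R u v + sympForm m R u' v := by simp [sympForm, add_dotProduct]

theorem form_add_right (u v v' : Fin m ⊕ Fin m → R) :
    sympForm m R u (v + v') = sympForm m R u v + sympForm m R u v' := by
  simp [sympForm, Matrix.mulVec_add, dotProduct_add]

theorem form_sub_right (u v v' : Fin m ⊕ Fin m → R) :
    sympForm m R u (v - v') = sympForm m R u v - sympForm m R u v' := by
  simp [sympForm, Matrix.mulVec_sub, dotProduct_sub]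

theorem form_sub_left (u u' v : Fin m ⊕ Fin m → R) :
    sympForm m R (u - u') v = sympForm m R u v - sympForm m R u' v := by
  simp [sympForm, sub_dotProduct]

theorem form_smul_left (a : R) (u v : Fin m ⊕ Fin m → R) :
    sympForm m R (a • u) v = a * sympForm m R u v := by simp [sympForm, smul_dotProduct]

theorem form_smul_right (a : R) (u v : Fin m ⊕ Fin m → R) :
    sympForm m R u (a • v) = a * sympForm m R u v := by
  simp [sympForm, Matrix.mulVec_smul, dotProduct_smul]

@[simp] theorem form_zero_left (v : Fin m ⊕ Fin m → R) : sympForm m R 0 v = 0 := by simp [sympForm]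

@[simp] theorem form_zero_right (v : Fin m ⊕ Fin m → R) : sympForm m R v 0 = 0 := by simp [sympForm]

/-- The linear functional `f(u, ·)`. -/
def formLin (u : Fin m ⊕ Fin m → R) : (Fin m ⊕ Fin m → R) →ₗ[R] R where
  toFun v := sympForm m R u v
  map_add' v v' := form_add_right u v v'
  map_smul' a v := form_smul_right a u v

@[simp] theorem formLin_apply (u v : Fin m ⊕ Fin m → R) : formLin u v = sympForm m R u v := rfl

theorem form_single_inl_right (u : Fin m ⊕ Fin m → R) (i : Fin m) :
    sympForm m R u (Pi.single (Sum.inl i) 1) = u (Sum.inr i) := by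
  rw [form_eq_sum]; simp [Pi.single_apply]

theorem form_single_inr_right (u : Fin m ⊕ Fin m → R) (i : Fin m) :
    sympForm m R u (Pi.single (Sum.inr i) 1) = - u (Sum.inl i) := by
  rw [form_eq_sum]; simp [Pi.single_apply]

theorem form_nondeg {u : Fin m ⊕ Fin m → R} (h : ∀ v, sympForm m R u v = 0) : u = 0 := by
  funext x
  rcases x with i | i
  · simpa [form_single_inr_right] using h (Pi.single (Sum.inr i) 1)
  · simpa [form_single_inl_right] using h (Pi.single (Sum.inl i) 1)

theorem mem_sp_iff_form {A : Matrix (Fin m ⊕ Fin m) (Fin m ⊕ Fin m) R} :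
    A ∈ symplecticGroup (Fin m) R ↔
      ∀ u v, sympForm m R (A *ᵥ u) (A *ᵥ v) = sympForm m R u v := by
  have key : ∀ u v, sympForm m R (A *ᵥ u) (A *ᵥ v) = u ⬝ᵥ ((Aᵀ * J (Fin m) R * A) *ᵥ v) := by
    intro u v
    rw [← Matrix.mulVec_mulVec, ← Matrix.mulVec_mulVec, Matrix.dotProduct_mulVec,
      Matrix.vecMul_transpose]
    rfl
  constructor
  · intro h u v
    rw [key, SymplecticGroup.mem_iff'.mp h]; rfl
  · intro h
    refine SymplecticGroup.mem_iff'.mpr (Matrix.ext fun i j => ?_)
    have h1 := h (Pi.single i 1) (Pi.single j 1)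
    rw [key, sympForm] at h1
    simpa [Matrix.mulVec_single_one] using h1

theorem form_map (g : symplecticGroup (Fin m) R) (u v : Fin m ⊕ Fin m → R) :
    sympForm m R (g • u) (g • v) = sympForm m R u v := mem_sp_iff_form.mp g.2 u v

theorem smul_def (g : symplecticGroup (Fin m) R) (u : Fin m ⊕ Fin m → R) :
    g • u = (g : Matrix (Fin m ⊕ Fin m) (Fin m ⊕ Fin m) R) *ᵥ u := rfl

theorem transvection_mulVec (v : Fin m ⊕ Fin m → R) (c : R) (x : Fin m ⊕ Fin m → R) :
    sympTransvection m v c *ᵥ x = x + (c * sympForm m R x v) • v := by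
  funext i
  simp [sympTransvection, sympForm, Matrix.add_mulVec, Matrix.smul_mulVec, Matrix.vecMulVec_mulVec,
    dotProduct_comm x, Pi.smul_apply]
  ring

theorem transvection_mem (v : Fin m ⊕ Fin m → R) (c : R) :
    sympTransvection m v c ∈ symplecticGroup (Fin m) R := by
  rw [mem_sp_iff_form]
  intro x y
  rw [transvection_mulVec, transvection_mulVec, form_add_left, form_add_right, form_add_right,
    form_smul_left, form_smul_left, form_smul_right, form_smul_right, form_self,
    form_swap y v]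
  ring

/-- A symplectic transvection as an element of the symplectic group. -/
def transv (v : Fin m ⊕ Fin m → R) (c : R) : symplecticGroup (Fin m) R :=
  ⟨sympTransvection m v c, transvection_mem v c⟩

@[simp] theorem coe_transv (v : Fin m ⊕ Fin m → R) (c : R) :
    (transv v c : Matrix (Fin m ⊕ Fin m) (Fin m ⊕ Fin m) R) = sympTransvection m v c := rfl

theorem transv_smul (v : Fin m ⊕ Fin m → R) (c : R) (x : Fin m ⊕ Fin m → R) :
    transv v c • x = x + (c * sympForm m R x v) • v := transvection_mulVec v c x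

theorem ext_smul {g h : symplecticGroup (Fin m) R}
    (e : ∀ x : Fin m ⊕ Fin m → R, g • x = h • x) : g = h :=
  Subtype.ext (Matrix.mulVec_injective (funext e))

theorem ext_smul_single {g h : symplecticGroup (Fin m) R}
    (e : ∀ i, g • (Pi.single i 1 : Fin m ⊕ Fin m → R) = h • Pi.single i 1) : g = h := by
  refine Subtype.ext (Matrix.ext fun a b => ?_)
  have := congrFun (e b) a
  simpa [smul_def, Matrix.mulVec_single_one] using this

theorem transv_add (v : Fin m ⊕ Fin m → R) (c d : R) :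
    transv v c * transv v d = transv v (c + d) := by
  refine ext_smul fun x => ?_
  rw [mul_smul, transv_smul, transv_smul, transv_smul, form_add_left, form_smul_left, form_self]
  module

theorem transv_zero (v : Fin m ⊕ Fin m → R) : transv v 0 = 1 := by
  refine ext_smul fun x => ?_
  simp [transv_smul]

theorem transv_vec_zero (c : R) : transv (0 : Fin m ⊕ Fin m → R) c = 1 := by
  refine ext_smul fun x => ?_
  simp [transv_smul]

theorem transv_inv (v : Fin m ⊕ Fin m → R) (c : R) : (transv v c)⁻¹ = transv v (-c) :=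
  inv_eq_of_mul_eq_one_right (by rw [transv_add, add_neg_cancel, transv_zero])

theorem transv_scale (v : Fin m ⊕ Fin m → R) (a c : R) :
    transv (a • v) c = transv v (a ^ 2 * c) := by
  refine ext_smul fun x => ?_
  rw [transv_smul, transv_smul, form_smul_right]
  module

theorem transv_conj (g : symplecticGroup (Fin m) R) (v : Fin m ⊕ Fin m → R) (c : R) :
    g * transv v c * g⁻¹ = transv (g • v) c := by
  refine ext_smul fun x => ?_
  rw [mul_smul, mul_smul, transv_smul, transv_smul]
  have hx : sympForm m R x (g • v) = sympForm m R (g⁻¹ • x) v := by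
    rw [← form_map g (g⁻¹ • x) v, smul_inv_smul]
  rw [hx, smul_add, smul_inv_smul, smul_def g ((c * _) • v), Matrix.mulVec_smul, smul_def g v]

/-- The subgroup generated by transvections with vector in `W`. -/
def transvGroup (W : Submodule R (Fin m ⊕ Fin m → R)) : Subgroup (symplecticGroup (Fin m) R) :=
  Subgroup.closure {g | ∃ v ∈ W, ∃ c : R, g = transv v c}

theorem transv_mem_transvGroup {W : Submodule R (Fin m ⊕ Fin m → R)} {v : Fin m ⊕ Fin m → R}
    (hv : v ∈ W) (c : R) : transv v c ∈ transvGroup W :=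
  Subgroup.subset_closure ⟨v, hv, c, rfl⟩

theorem transvGroup_fixes {W : Submodule R (Fin m ⊕ Fin m → R)} {g : symplecticGroup (Fin m) R}
    (hg : g ∈ transvGroup W) {p : Fin m ⊕ Fin m → R} (hp : ∀ w ∈ W, sympForm m R p w = 0) :
    g • p = p := by
  refine MulAction.mem_stabilizer_iff.mp ((Subgroup.closure_le _).mpr ?_ hg)
  rintro _ ⟨v, hv, c, rfl⟩
  simp [SetLike.mem_coe, MulAction.mem_stabilizer_iff, transv_smul, hp v hv]

theorem transvGroup_maps {W : Submodule R (Fin m ⊕ Fin m → R)} {g : symplecticGroup (Fin m) R}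
    (hg : g ∈ transvGroup W) {w : Fin m ⊕ Fin m → R} (hw : w ∈ W) : g • w ∈ W := by
  revert w
  induction hg using Subgroup.closure_induction_left with
  | one => intro w hw; rwa [one_smul]
  | mul_left x hx y _ ih =>
    intro w hw
    obtain ⟨v, hv, c, rfl⟩ := hx
    rw [mul_smul, transv_smul]
    exact add_mem (ih hw) (W.smul_mem _ hv)
  | inv_mul_cancel x hx y _ ih =>
    intro w hw
    obtain ⟨v, hv, c, rfl⟩ := hx
    rw [transv_inv, mul_smul, transv_smul]
    exact add_mem (ih hw) (W.smul_mem _ hv)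

theorem mem_sp_one_iff_det (A : Matrix (Fin 1 ⊕ Fin 1) (Fin 1 ⊕ Fin 1) R) :
    A ∈ symplecticGroup (Fin 1) R ↔ A.det = 1 := by
  refine ⟨SymplecticGroup.det_eq_one, fun h => ?_⟩
  have hb := A.fromBlocks_toBlocks
  rw [← hb] at h ⊢
  rw [SymplecticGroup.fromBlocks_mem_iff]
  generalize A.toBlocks₁₁ = a, A.toBlocks₁₂ = b, A.toBlocks₂₁ = c, A.toBlocks₂₂ = d at h
  have hdet : a 0 0 * d 0 0 - b 0 0 * c 0 0 = 1 := by
    rw [← Matrix.det_reindex_self (finSumFinEquiv (m := 1) (n := 1)), Matrix.det_fin_two] at h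
    simpa [finSumFinEquiv, Fin.addCases, Fin.castAdd, Fin.castLE, Fin.natAdd, Fin.subNat] using h
  refine ⟨?_, ?_, ?_⟩ <;> ext i j <;>
    simp [Fin.fin_one_eq_zero, Matrix.mul_apply, mul_comm, Matrix.one_apply]
  linear_combination hdet

end Form

section Field

variable {F : Type*} [Field F] {m : ℕ}

/-- `W` carries a nondegenerate restriction of the form. -/
def NondegOn (W : Submodule F (Fin m ⊕ Fin m → F)) : Prop :=
  ∀ u ∈ W, u ≠ 0 → ∃ z ∈ W, sympForm m F u z ≠ 0

theorem nondegOn_top : NondegOn (⊤ : Submodule F (Fin m ⊕ Fin m → F)) := by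
  intro u _ hu
  by_contra h
  push Not at h
  exact hu (form_nondeg fun v => h v Submodule.mem_top)

theorem exists_both_ne_zero {W : Submodule F (Fin m ⊕ Fin m → F)} (hW : NondegOn W)
    {u w : Fin m ⊕ Fin m → F} (hu : u ∈ W) (hw : w ∈ W) (hu0 : u ≠ 0) (hw0 : w ≠ 0) :
    ∃ z ∈ W, sympForm m F u z ≠ 0 ∧ sympForm m F w z ≠ 0 := by
  obtain ⟨a, ha, hua⟩ := hW u hu hu0
  obtain ⟨b, hb, hwb⟩ := hW w hw hw0
  by_cases h1 : sympForm m F w a = 0
  · by_cases h2 : sympForm m F u b = 0
    · exact ⟨a + b, add_mem ha hb, by simpa [form_add_right, h2] using hua,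
        by simpa [form_add_right, h1] using hwb⟩
    · exact ⟨b, hb, h2, hwb⟩
  · exact ⟨a, ha, hua, h1⟩

theorem transv_sub_smul {x y : Fin m ⊕ Fin m → F} (h : sympForm m F x y ≠ 0) :
    transv (y - x) (sympForm m F x y)⁻¹ • x = y := by
  rw [transv_smul, form_sub_right, form_self, sub_zero, inv_mul_cancel₀ h, one_smul]
  abel

theorem exists_map_vec {W : Submodule F (Fin m ⊕ Fin m → F)} (hW : NondegOn W)
    {u w : Fin m ⊕ Fin m → F} (hu : u ∈ W) (hw : w ∈ W) (hu0 : u ≠ 0) (hw0 : w ≠ 0) :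
    ∃ g ∈ transvGroup W, g • u = w := by
  obtain ⟨z, hz, h1, h2⟩ := exists_both_ne_zero hW hu hw hu0 hw0
  refine ⟨transv (w - z) (sympForm m F z w)⁻¹ * transv (z - u) (sympForm m F u z)⁻¹,
    mul_mem (transv_mem_transvGroup (sub_mem hw hz) _) (transv_mem_transvGroup (sub_mem hz hu) _), ?_⟩
  rw [mul_smul, transv_sub_smul h1, transv_sub_smul (fun h => h2 (form_eq_zero_comm.mp h))]

theorem exists_map_pair {W : Submodule F (Fin m ⊕ Fin m → F)} (hW : NondegOn W)
    {u v u' v' : Fin m ⊕ Fin m → F} (hu : u ∈ W) (hv : v ∈ W) (hu' : u' ∈ W) (hv' : v' ∈ W)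
    (h : sympForm m F u v = 1) (h' : sympForm m F u' v' = 1) :
    ∃ g ∈ transvGroup W, g • u = u' ∧ g • v = v' := by
  obtain ⟨g, hg, hgu⟩ := exists_map_vec hW hu hu' (fun e => by simp [e] at h)
    (fun e => by simp [e] at h')
  have hgv : g • v ∈ W := transvGroup_maps hg hv
  have hf : sympForm m F u' (g • v) = 1 := by rw [← hgu, form_map]; exact h
  -- fix `u'` and move `x` to `y`, when `f(x, y) ≠ 0`
  have step : ∀ x ∈ W, ∀ y ∈ W, sympForm m F u' x = 1 → sympForm m F u' y = 1 →
      sympForm m F x y ≠ 0 → ∃ k ∈ transvGroup W, k • u' = u' ∧ k • x = y := by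
    intro x hx y hy h1 h2 h3
    refine ⟨_, transv_mem_transvGroup (sub_mem hy hx) _, ?_, transv_sub_smul h3⟩
    rw [transv_smul, form_sub_right, h1, h2]; simp
  by_cases hne : sympForm m F (g • v) v' = 0
  · have hz : sympForm m F u' (u' + g • v) = 1 := by rw [form_add_right, form_self, hf, zero_add]
    obtain ⟨k, hk, hku, hkx⟩ := step _ hgv _ (add_mem hu' hgv) hf hz
      (by rw [form_add_right, form_self, form_swap u', hf]; norm_num)
    obtain ⟨l, hl, hlu, hlx⟩ := step _ (add_mem hu' hgv) _ hv' hz h'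
      (by rw [form_add_left, h', hne]; norm_num)
    refine ⟨l * k * g, mul_mem (mul_mem hl hk) hg, ?_, ?_⟩
    · rw [mul_smul, mul_smul, hgu, hku, hlu]
    · rw [mul_smul, mul_smul, hkx, hlx]
  · obtain ⟨k, hk, hku, hkx⟩ := step _ hgv _ hv' hf h' hne
    refine ⟨k * g, mul_mem hk hg, ?_, ?_⟩
    · rw [mul_smul, hgu, hku]
    · rw [mul_smul, hkx]

theorem exists_smul_eq {u w : Fin m ⊕ Fin m → F} (hu : u ≠ 0) (hw : w ≠ 0) :
    ∃ g : symplecticGroup (Fin m) F, g • u = w := by
  obtain ⟨g, -, hg⟩ := exists_map_vec nondegOn_top (W := ⊤) Submodule.mem_top Submodule.mem_top hu hw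
  exact ⟨g, hg⟩

theorem exists_smul_pair {u v u' v' : Fin m ⊕ Fin m → F} (h : sympForm m F u v = 1)
    (h' : sympForm m F u' v' = 1) :
    ∃ g : symplecticGroup (Fin m) F, g • u = u' ∧ g • v = v' := by
  obtain ⟨g, -, hg⟩ := exists_map_pair (nondegOn_top (F := F) (m := m))
    (Submodule.mem_top (x := u)) (Submodule.mem_top (x := v)) (Submodule.mem_top (x := u'))
    (Submodule.mem_top (x := v')) h h'
  exact ⟨g, hg⟩

/-- Vectors vanishing on the first `k` coordinate pairs. -/
def tailSpace (F : Type*) [Field F] (m k : ℕ) : Submodule F (Fin m ⊕ Fin m → F) where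
  carrier := {x | ∀ i : Fin m, (i : ℕ) < k → x (Sum.inl i) = 0 ∧ x (Sum.inr i) = 0}
  zero_mem' _ _ := ⟨rfl, rfl⟩
  add_mem' {a b} ha hb i hi := by simp [ha i hi, hb i hi]
  smul_mem' c a ha i hi := by simp [ha i hi]

theorem mem_tailSpace {k : ℕ} {x : Fin m ⊕ Fin m → F} :
    x ∈ tailSpace F m k ↔ ∀ i : Fin m, (i : ℕ) < k → x (Sum.inl i) = 0 ∧ x (Sum.inr i) = 0 :=
  Iff.rfl

theorem single_inl_mem_tailSpace {k : ℕ} {i : Fin m} (h : k ≤ (i : ℕ)) (c : F) :
    Pi.single (Sum.inl i) c ∈ tailSpace F m k := by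
  intro j hj
  have : j ≠ i := fun e => absurd (e ▸ hj) (not_lt.mpr h)
  simp [this]

theorem single_inr_mem_tailSpace {k : ℕ} {i : Fin m} (h : k ≤ (i : ℕ)) (c : F) :
    Pi.single (Sum.inr i) c ∈ tailSpace F m k := by
  intro j hj
  have : j ≠ i := fun e => absurd (e ▸ hj) (not_lt.mpr h)
  simp [this]

theorem nondegOn_tailSpace (k : ℕ) : NondegOn (tailSpace F m k) := by
  intro u hu hu0
  obtain ⟨x, hx⟩ : ∃ x, u x ≠ 0 := Function.ne_iff.mp hu0
  rcases x with i | i <;> have hik : k ≤ (i : ℕ) := not_lt.mp fun h => hx (by simp [hu i h])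
  · exact ⟨_, single_inr_mem_tailSpace hik 1, by rw [form_single_inr_right]; simpa using hx⟩
  · exact ⟨_, single_inl_mem_tailSpace hik 1, by rw [form_single_inl_right]; simpa using hx⟩

/-- The elements fixing the first `k` standard hyperbolic pairs. -/
def fixPairs (F : Type*) [Field F] (m k : ℕ) : Subgroup (symplecticGroup (Fin m) F) :=
  ⨅ (i : Fin m) (_ : (i : ℕ) < k),
    MulAction.stabilizer (symplecticGroup (Fin m) F) (Pi.single (Sum.inl i) (1 : F) : Fin m ⊕ Fin m → F) ⊓
    MulAction.stabilizer (symplecticGroup (Fin m) F) (Pi.single (Sum.inr i) (1 : F) : Fin m ⊕ Fin m → F)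

theorem mem_fixPairs {k : ℕ} {g : symplecticGroup (Fin m) F} :
    g ∈ fixPairs F m k ↔ ∀ i : Fin m, (i : ℕ) < k →
      g • (Pi.single (Sum.inl i) (1 : F) : Fin m ⊕ Fin m → F) = Pi.single (Sum.inl i) 1 ∧
      g • (Pi.single (Sum.inr i) (1 : F) : Fin m ⊕ Fin m → F) = Pi.single (Sum.inr i) 1 := by
  simp [fixPairs, Subgroup.mem_iInf, MulAction.mem_stabilizer_iff]

theorem fixPairs_zero : fixPairs F m 0 = ⊤ := by ext g; simp [mem_fixPairs]

theorem fixPairs_top : fixPairs F m m = ⊥ := by
  ext g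
  refine ⟨fun h => ?_, fun h => by rw [Subgroup.mem_bot.mp h]; exact one_mem _⟩
  rw [Subgroup.mem_bot]
  refine ext_smul_single fun x => ?_
  rcases x with i | i <;> simp [mem_fixPairs.mp h i i.2]

theorem fixPairs_maps {k : ℕ} {g : symplecticGroup (Fin m) F} (hg : g ∈ fixPairs F m k)
    {x : Fin m ⊕ Fin m → F} (hx : x ∈ tailSpace F m k) : g • x ∈ tailSpace F m k := by
  intro i hi
  obtain ⟨h1, h2⟩ := mem_fixPairs.mp hg i hi
  constructor
  · have := form_map g x (Pi.single (Sum.inr i) 1)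
    rw [h2, form_single_inr_right, form_single_inr_right, (hx i hi).1] at this
    simpa using this
  · have := form_map g x (Pi.single (Sum.inl i) 1)
    rw [h1, form_single_inl_right, form_single_inl_right, (hx i hi).2] at this
    simpa using this

theorem transvGroup_le_fixPairs (k : ℕ) : transvGroup (tailSpace F m k) ≤ fixPairs F m k := by
  intro g hg
  refine mem_fixPairs.mpr fun i hi => ⟨transvGroup_fixes hg fun w hw => ?_,
    transvGroup_fixes hg fun w hw => ?_⟩
  · rw [form_eq_zero_comm, form_single_inl_right]; exact (hw i hi).2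
  · rw [form_eq_zero_comm, form_single_inr_right, (hw i hi).1, neg_zero]

theorem form_std_pair (i : Fin m) :
    sympForm m F (Pi.single (Sum.inr i) 1) (Pi.single (Sum.inl i) 1) = 1 := by
  simp [form_single_inl_right]

theorem mem_fixPairs_succ {k : ℕ} (hk : k < m) {g : symplecticGroup (Fin m) F} :
    g ∈ fixPairs F m (k + 1) ↔ g ∈ fixPairs F m k ∧
      g • (Pi.single (Sum.inl ⟨k, hk⟩) (1 : F) : Fin m ⊕ Fin m → F) = Pi.single (Sum.inl ⟨k, hk⟩) 1 ∧
      g • (Pi.single (Sum.inr ⟨k, hk⟩) (1 : F) : Fin m ⊕ Fin m → F) = Pi.single (Sum.inr ⟨k, hk⟩) 1 := by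
  rw [mem_fixPairs, mem_fixPairs]
  refine ⟨fun h => ⟨fun i hi => h i (by omega), h ⟨k, hk⟩ (Nat.lt_succ_self k)⟩, fun h i hi => ?_⟩
  rcases Nat.lt_succ_iff_lt_or_eq.mp hi with hi' | hi'
  · exact h.1 i hi'
  · have : i = ⟨k, hk⟩ := Fin.ext hi'
    exact this ▸ h.2

theorem fixPairs_eq_transvGroup (d : ℕ) : ∀ k, k + d = m →
    fixPairs F m k ≤ transvGroup (⊤ : Submodule F (Fin m ⊕ Fin m → F)) := by
  induction d with
  | zero => intro k hk; rw [show k = m by omega, fixPairs_top]; exact bot_le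
  | succ d ih =>
    intro k hk g hg
    have hkm : k < m := by omega
    have h1 := single_inr_mem_tailSpace (F := F) (m := m) (i := ⟨k, hkm⟩) (le_refl k) 1
    have h2 := single_inl_mem_tailSpace (F := F) (m := m) (i := ⟨k, hkm⟩) (le_refl k) 1
    obtain ⟨t, ht, htu, htv⟩ := exists_map_pair (nondegOn_tailSpace k)
      (fixPairs_maps hg h1) (fixPairs_maps hg h2) h1 h2
      ((form_map g _ _).trans (form_std_pair _)) (form_std_pair _)
    have : t * g ∈ fixPairs F m (k + 1) := (mem_fixPairs_succ hkm).mpr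
      ⟨mul_mem (transvGroup_le_fixPairs k ht) hg, by rw [mul_smul, htv], by rw [mul_smul, htu]⟩
    have ht' : t ∈ transvGroup (⊤ : Submodule F (Fin m ⊕ Fin m → F)) := by
      refine Subgroup.closure_mono ?_ ht
      rintro _ ⟨v, -, c, rfl⟩
      exact ⟨v, Submodule.mem_top, c, rfl⟩
    simpa using mul_mem (inv_mem ht') (ih (k + 1) (by omega) this)

theorem transvGroup_top : transvGroup (⊤ : Submodule F (Fin m ⊕ Fin m → F)) = ⊤ :=
  top_unique (by simpa [fixPairs_zero] using fixPairs_eq_transvGroup (F := F) (m := m) m 0 (by omega))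

theorem closure_transvections :
    Subgroup.closure {A : symplecticGroup (Fin m) F | ∃ (w : Fin m ⊕ Fin m → F) (c : F),
      (A : Matrix (Fin m ⊕ Fin m) (Fin m ⊕ Fin m) F) = sympTransvection m w c} = ⊤ := by
  rw [← transvGroup_top (F := F) (m := m)]
  refine congrArg Subgroup.closure (Set.ext fun A => ⟨?_, ?_⟩)
  · rintro ⟨w, c, h⟩; exact ⟨w, Submodule.mem_top, c, Subtype.ext h⟩
  · rintro ⟨w, -, c, rfl⟩; exact ⟨w, c, rfl⟩

theorem eq_top_of_transv {N : Subgroup (symplecticGroup (Fin m) F)}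
    (h : ∀ v c, transv v c ∈ N) : N = ⊤ := by
  rw [eq_top_iff, ← transvGroup_top, transvGroup, Subgroup.closure_le]
  rintro _ ⟨v, -, c, rfl⟩
  exact h v c

end Field

end Cfsg.Agent.SymplecticBasic
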