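import Mathlib
import Cfsg.Agent.Lib.SymplecticBasic

/-!
Centre, perfectness and projective simplicity of the symplectic groups.
-/

set_option autoImplicit false

open Matrix Cfsg.Agent.SymplecticBasic
open scoped commutatorElement

namespace Cfsg.Agent.SymplecticSimple

variable {F : Type*} [Field F] {m : ℕ}

theorem exists_form_eq_one {u : Fin m ⊕ Fin m → F} (hu : u ≠ 0) :
    ∃ z, sympForm m F u z = 1 := by
  obtain ⟨z, -, hz⟩ := nondegOn_top u Submodule.mem_top hu
  exact ⟨(sympForm m F u z)⁻¹ • z, by rw [form_smul_right, inv_mul_cancel₀ hz]⟩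

theorem scalar_smul (g : symplecticGroup (Fin m) F) (a : F) (u : Fin m ⊕ Fin m → F) :
    g • (a • u) = a • (g • u) := Matrix.mulVec_smul _ _ _

theorem sq_eq_one_of_scalar (hm : 1 ≤ m) {g : symplecticGroup (Fin m) F} {a : F}
    (h : ∀ v : Fin m ⊕ Fin m → F, g • v = a • v) : a ^ 2 = 1 := by
  have h1 := form_map g (Pi.single (Sum.inr ⟨0, hm⟩) 1) (Pi.single (Sum.inl ⟨0, hm⟩) 1)
  rw [h, h, form_smul_left, form_smul_right, form_std_pair] at h1
  linear_combination h1

theorem mem_center_of_scalar {g : symplecticGroup (Fin m) F} {a : F}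
    (h : ∀ v : Fin m ⊕ Fin m → F, g • v = a • v) : g ∈ Subgroup.center (symplecticGroup (Fin m) F) := by
  rw [Subgroup.mem_center_iff]
  intro k
  refine ext_smul fun x => ?_
  rw [mul_smul, mul_smul, h, h, scalar_smul]

theorem center_line {g : symplecticGroup (Fin m) F}
    (hg : g ∈ Subgroup.center (symplecticGroup (Fin m) F)) {v : Fin m ⊕ Fin m → F} (hv : v ≠ 0) :
    ∃ a : F, g • v = a • v := by
  obtain ⟨z, hz⟩ := exists_form_eq_one hv
  have h : transv (g • v) (1 : F) = transv v 1 := by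
    rw [← transv_conj, ← Subgroup.mem_center_iff.mp hg (transv v 1), mul_inv_cancel_right]
  have hzv : sympForm m F z v ≠ 0 := by rw [form_swap v z, hz]; norm_num
  have hx := congrArg (fun t : symplecticGroup (Fin m) F => t • z) h
  simp only [transv_smul, one_mul] at hx
  have hx' := add_left_cancel hx
  have hne : sympForm m F z (g • v) ≠ 0 := by
    intro h0
    rw [h0, zero_smul] at hx'
    rcases smul_eq_zero.mp hx'.symm with h1 | h1
    · exact hzv h1
    · exact hv h1
  exact ⟨(sympForm m F z (g • v))⁻¹ * sympForm m F z v, by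
    rw [mul_smul, ← hx', inv_smul_smul₀ hne]⟩

theorem center_scalar (hm : 1 ≤ m) {g : symplecticGroup (Fin m) F}
    (hg : g ∈ Subgroup.center (symplecticGroup (Fin m) F)) :
    ∃ a : F, ∀ v : Fin m ⊕ Fin m → F, g • v = a • v := by
  have he : (Pi.single (Sum.inl ⟨0, hm⟩) 1 : Fin m ⊕ Fin m → F) ≠ 0 := by simp
  obtain ⟨a, ha⟩ := center_line hg he
  refine ⟨a, fun v => ?_⟩
  by_cases hv : v = 0
  · simp [hv, smul_def]
  · obtain ⟨h, hh⟩ := exists_smul_eq he hv
    rw [← hh, ← mul_smul, ← Subgroup.mem_center_iff.mp hg h, mul_smul, ha, scalar_smul]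

theorem mem_center_iff (hm : 1 ≤ m) {g : symplecticGroup (Fin m) F} :
    g ∈ Subgroup.center (symplecticGroup (Fin m) F) ↔
      ∃ a : F, a ^ 2 = 1 ∧ ∀ v : Fin m ⊕ Fin m → F, g • v = a • v :=
  ⟨fun hg => let ⟨a, ha⟩ := center_scalar hm hg; ⟨a, sq_eq_one_of_scalar hm ha, ha⟩,
    fun ⟨_, _, ha⟩ => mem_center_of_scalar ha⟩

theorem card_center [Fintype F] {q : ℕ} (hF : Fintype.card F = q) (hm : 1 ≤ m) :
    Nat.card (Subgroup.center (symplecticGroup (Fin m) F)) = Nat.gcd 2 (q - 1) := by
  classical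
  have hmem : ∀ a : F, a ^ 2 = 1 →
      a • (1 : Matrix (Fin m ⊕ Fin m) (Fin m ⊕ Fin m) F) ∈ symplecticGroup (Fin m) F := by
    intro a ha
    rw [mem_sp_iff_form]
    intro u v
    simp only [Matrix.smul_mulVec, Matrix.one_mulVec, form_smul_left, form_smul_right]
    linear_combination (sympForm m F u v) * ha
  have hact : ∀ (a : F) (ha : a ^ 2 = 1) (v : Fin m ⊕ Fin m → F),
      (⟨_, hmem a ha⟩ : symplecticGroup (Fin m) F) • v = a • v := by
    intro a ha v; simp [smul_def, Matrix.smul_mulVec]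
  have hroot : ∀ a : rootsOfUnity 2 F, ((a : Fˣ) : F) ^ 2 = 1 := fun a =>
    (mem_rootsOfUnity' 2 (a : Fˣ)).mp a.2
  let f : rootsOfUnity 2 F → Subgroup.center (symplecticGroup (Fin m) F) := fun a =>
    ⟨⟨_, hmem _ (hroot a)⟩, mem_center_of_scalar (hact _ (hroot a))⟩
  have hf : Function.Bijective f := by
    constructor
    · intro a b h
      have h1 := congrArg (fun g : Subgroup.center (symplecticGroup (Fin m) F) =>
        (g.1.1 : Matrix (Fin m ⊕ Fin m) (Fin m ⊕ Fin m) F) (Sum.inl ⟨0, hm⟩) (Sum.inl ⟨0, hm⟩)) h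
      simp [f] at h1
      exact Subtype.ext (Units.ext h1)
    · intro g
      obtain ⟨a, ha2, ha⟩ := (mem_center_iff hm).mp g.2
      refine ⟨⟨Units.mk0 a (fun h => by simp [h] at ha2), Units.ext (by simpa using ha2)⟩,
        Subtype.ext (ext_smul fun v => ?_)⟩
      change (⟨_, hmem a ha2⟩ : symplecticGroup (Fin m) F) • v = g.1 • v
      rw [hact a ha2, ha]
  rw [← Nat.card_eq_of_bijective f hf]
  have hk : rootsOfUnity 2 F = (powMonoidHom 2 : Fˣ →* Fˣ).ker := by
    ext x; simp
  rw [hk, IsCyclic.card_powMonoidHom_ker, Nat.card_units, Nat.card_eq_fintype_card, hF,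
    Nat.gcd_comm]

theorem exists_not_line (hm : 1 ≤ m) {g : symplecticGroup (Fin m) F}
    (hg : g ∉ Subgroup.center (symplecticGroup (Fin m) F)) :
    ∃ u : Fin m ⊕ Fin m → F, ∀ a : F, g • u ≠ a • u := by
  by_contra h
  push Not at h
  choose a ha using h
  refine hg (mem_center_of_scalar (a := a (Pi.single (Sum.inl ⟨0, hm⟩) 1)) fun v => ?_)
  have key : ∀ x y, x ≠ y → a (Pi.single x 1) = a (Pi.single y 1) := by
    intro x y hxy
    have hs := ha (Pi.single x 1 + Pi.single y 1)
    rw [smul_add, smul_add, ha, ha] at hs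
    have h1 := congrFun hs x
    have h2 := congrFun hs y
    simp [hxy, hxy.symm] at h1 h2
    rw [h1, h2]
  have hall : ∀ x, g • (Pi.single x 1 : Fin m ⊕ Fin m → F) =
      a (Pi.single (Sum.inl ⟨0, hm⟩) 1) • Pi.single x 1 := by
    intro x
    rw [ha]
    by_cases hx : x = Sum.inl ⟨0, hm⟩
    · rw [hx]
    · rw [key _ _ hx]
  rw [pi_eq_sum_univ' v, Finset.smul_sum, Finset.smul_sum]
  refine Finset.sum_congr rfl fun x _ => ?_
  rw [scalar_smul, hall, smul_comm]

theorem exists_perp_ne {u v : Fin m ⊕ Fin m → F} (hu : u ≠ 0) (hv : ∀ a : F, v ≠ a • u) :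
    ∃ x, sympForm m F u x = 0 ∧ sympForm m F v x ≠ 0 := by
  by_contra h
  push Not at h
  obtain ⟨z, hz⟩ := exists_form_eq_one hu
  refine hv (sympForm m F v z) ?_
  refine sub_eq_zero.mp (form_nondeg fun x => ?_)
  have := h (x - sympForm m F u x • z) (by rw [form_sub_right, form_smul_right, hz, mul_one, sub_self])
  rw [form_sub_right, form_smul_right] at this
  rw [form_sub_left, form_smul_left]
  linear_combination this

theorem exists_map_perp {u v v' : Fin m ⊕ Fin m → F} (hu : u ≠ 0) (hv : ∀ a : F, v ≠ a • u)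
    (hv' : ∀ a : F, v' ≠ a • u) (h : sympForm m F u v = 0) (h' : sympForm m F u v' = 0) :
    ∃ g : symplecticGroup (Fin m) F, g • u = u ∧ g • v = v' := by
  have step : ∀ x y, sympForm m F u x = 0 → sympForm m F u y = 0 → sympForm m F x y ≠ 0 →
      ∃ k : symplecticGroup (Fin m) F, k • u = u ∧ k • x = y := by
    intro x y hx hy hxy
    refine ⟨_, ?_, transv_sub_smul hxy⟩
    rw [transv_smul, form_sub_right, hx, hy]; simp
  by_cases hne : sympForm m F v v' = 0
  · obtain ⟨a, hua, hva⟩ := exists_perp_ne hu hv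
    obtain ⟨b, hub, hvb⟩ := exists_perp_ne hu hv'
    obtain ⟨x, hux, h1, h2⟩ : ∃ x, sympForm m F u x = 0 ∧ sympForm m F v x ≠ 0 ∧
        sympForm m F v' x ≠ 0 := by
      by_cases e1 : sympForm m F v' a = 0
      · by_cases e2 : sympForm m F v b = 0
        · exact ⟨a + b, by rw [form_add_right, hua, hub, add_zero],
            by rw [form_add_right, e2, add_zero]; exact hva,
            by rw [form_add_right, e1, zero_add]; exact hvb⟩
        · exact ⟨b, hub, e2, hvb⟩
      · exact ⟨a, hua, hva, e1⟩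
    obtain ⟨k, hku, hkx⟩ := step v x h hux h1
    obtain ⟨l, hlu, hlx⟩ := step x v' hux h' (fun e => h2 (form_eq_zero_comm.mp e))
    exact ⟨l * k, by rw [mul_smul, hku, hlu], by rw [mul_smul, hkx, hlx]⟩
  · exact step v v' h h' hne

/-- `transv v` as a homomorphism from the additive group of the field. -/
def transvHom (v : Fin m ⊕ Fin m → F) : Multiplicative F →* symplecticGroup (Fin m) F :=
  MonoidHom.mk' (fun c => transv v c.toAdd) fun a b => (transv_add v a.toAdd b.toAdd).symm

theorem normal_transitive (hm : 2 ≤ m) (N : Subgroup (symplecticGroup (Fin m) F)) [hN : N.Normal]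
    (hne : ¬ N ≤ Subgroup.center (symplecticGroup (Fin m) F)) {a b : Fin m ⊕ Fin m → F}
    (ha : a ≠ 0) (hb : b ≠ 0) : ∃ n ∈ N, ∃ c : F, c ≠ 0 ∧ n • a = c • b := by
  obtain ⟨n, hn, hnc⟩ := SetLike.not_le_iff_exists.mp hne
  obtain ⟨u, hu⟩ := exists_not_line (by omega) hnc
  have hu0 : u ≠ 0 := fun h => hu 1 (by simp [h, smul_def])
  let R : (Fin m ⊕ Fin m → F) → (Fin m ⊕ Fin m → F) → Prop :=
    fun x y => ∃ k ∈ N, ∃ c : F, c ≠ 0 ∧ k • x = c • y
  have trans : ∀ x y z, R x y → R y z → R x z := by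
    rintro x y z ⟨k, hk, c, hc, hkx⟩ ⟨l, hl, d, hd, hly⟩
    refine ⟨l * k, mul_mem hl hk, c * d, mul_ne_zero hc hd, ?_⟩
    rw [mul_smul, hkx, scalar_smul, hly, smul_smul]
  have conj : ∀ (g : symplecticGroup (Fin m) F) (x y : Fin m ⊕ Fin m → F) (c : F),
      c ≠ 0 → g • u = x → g • n • u = c • y → R x y := fun g x y c hc h1 h2 =>
    ⟨g * n * g⁻¹, hN.conj_mem n hn g, c, hc, by
      rw [← h1, mul_smul, mul_smul, inv_smul_smul, h2]⟩
  change R a b
  by_cases hcase : sympForm m F u (n • u) = 0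
  · have perp : ∀ x y, x ≠ 0 → y ≠ 0 → sympForm m F x y = 0 → R x y := by
      intro x y hx hy hxy
      by_cases hdep : ∃ c : F, y = c • x
      · obtain ⟨c, rfl⟩ := hdep
        have hc : c ≠ 0 := fun h => hy (by simp [h])
        exact ⟨1, one_mem N, c⁻¹, inv_ne_zero hc, by rw [one_smul, inv_smul_smul₀ hc]⟩
      · push Not at hdep
        obtain ⟨g, hg⟩ := exists_smul_eq hu0 hx
        obtain ⟨h, h1, h2⟩ := exists_map_perp (v := g • n • u) (v' := y) hx
          (fun c e => hu c (MulAction.injective g (show g • n • u = g • (c • u) by rw [e, ← hg, scalar_smul])))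
          hdep (by rw [← hg, form_map, hcase]) hxy
        exact conj (h * g) x y 1 one_ne_zero (by rw [mul_smul, hg, h1])
          (by rw [mul_smul, h2, one_smul])
    obtain ⟨z, hz, hz0⟩ := Submodule.exists_mem_ne_zero_of_ne_bot
      (LinearMap.ker_ne_bot_of_finrank_lt (f := (formLin a).prod (formLin b))
        (by simp; omega))
    have hz1 : sympForm m F a z = 0 := congrArg Prod.fst (LinearMap.mem_ker.mp hz)
    have hz2 : sympForm m F b z = 0 := congrArg Prod.snd (LinearMap.mem_ker.mp hz)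
    exact trans a z b (perp a z ha hz0 hz1) (perp z b hz0 hb (form_eq_zero_comm.mp hz2))
  · have nonperp : ∀ x y, sympForm m F x y ≠ 0 → R x y := by
      intro x y hxy
      obtain ⟨g, hg1, hg2⟩ := exists_smul_pair
        (u := u) (v := (sympForm m F u (n • u))⁻¹ • n • u) (u' := x)
        (v' := (sympForm m F x y)⁻¹ • y)
        (by rw [form_smul_right, inv_mul_cancel₀ hcase])
        (by rw [form_smul_right, inv_mul_cancel₀ hxy])
      refine conj g x y (sympForm m F u (n • u) * (sympForm m F x y)⁻¹)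
        (mul_ne_zero hcase (inv_ne_zero hxy)) hg1 ?_
      rw [mul_smul, ← hg2, scalar_smul, smul_inv_smul₀ hcase]
    obtain ⟨z, -, h1, h2⟩ := exists_both_ne_zero nondegOn_top (W := ⊤) Submodule.mem_top
      Submodule.mem_top ha hb
    exact trans a z b (nonperp a z h1) (nonperp z b fun e => h2 (form_eq_zero_comm.mp e))

theorem commutator_le_of_normal (hm : 2 ≤ m) (N : Subgroup (symplecticGroup (Fin m) F)) [N.Normal]
    (hne : ¬ N ≤ Subgroup.center (symplecticGroup (Fin m) F)) :
    commutator (symplecticGroup (Fin m) F) ≤ N := by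
  set u : Fin m ⊕ Fin m → F := Pi.single (Sum.inl ⟨0, by omega⟩) 1 with hu_def
  have hu : u ≠ 0 := by simp [hu_def]
  set φ := QuotientGroup.mk' N
  set X := (φ.comp (transvHom u)).range
  have hX : X.comap φ = ⊤ := by
    refine eq_top_of_transv fun v c => ?_
    rw [Subgroup.mem_comap]
    by_cases hv : v = 0
    · rw [hv, transv_vec_zero, map_one]; exact one_mem X
    obtain ⟨n, hn, s, hs, hns⟩ := normal_transitive hm N hne hu hv
    refine ⟨Multiplicative.ofAdd (c / s ^ 2), ?_⟩
    have h1 : n * transv u (c / s ^ 2) * n⁻¹ = transv v c := by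
      rw [transv_conj, hns, transv_scale, mul_div_cancel₀ _ (pow_ne_zero 2 hs)]
    have hn1 : φ n = 1 := (QuotientGroup.eq_one_iff n).mpr hn
    rw [← h1]
    simp [transvHom, hn1]
  rw [commutator_def, Subgroup.commutator_le]
  intro a _ b _
  rw [← QuotientGroup.eq_one_iff]
  obtain ⟨x, hx⟩ : φ a ∈ X := Subgroup.mem_comap.mp (hX ▸ Subgroup.mem_top a)
  obtain ⟨y, hy⟩ : φ b ∈ X := Subgroup.mem_comap.mp (hX ▸ Subgroup.mem_top b)
  change φ ⁅a, b⁆ = 1
  rw [map_commutatorElement, commutatorElement_eq_one_iff_mul_comm, ← hx, ← hy, ← map_mul,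
    ← map_mul, mul_comm]

theorem perfect [Fintype F] (m : ℕ)
    (h : 3 ≤ m ∨ (m = 2 ∧ 3 ≤ Fintype.card F) ∨ 4 ≤ Fintype.card F) :
    commutator (symplecticGroup (Fin m) F) = ⊤ := by
  classical
  have hq2 : 1 < Fintype.card F := Fintype.one_lt_card
  set φ := @Abelianization.of (symplecticGroup (Fin m) F) _
  suffices H : ∀ v c, φ (transv v c) = 1 by
    refine eq_top_of_transv fun v c => ?_
    rw [← Abelianization.ker_of, MonoidHom.mem_ker]
    exact H v c
  have hinv : ∀ (g : symplecticGroup (Fin m) F) v c, φ (transv (g • v) c) = φ (transv v c) := by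
    intro g v c
    rw [← transv_conj, map_mul, map_mul, mul_right_comm, ← map_mul, mul_inv_cancel, map_one, one_mul]
  intro v c
  by_cases hv : v = 0
  · rw [hv, transv_vec_zero, map_one]
  by_cases hc : c = 0
  · rw [hc, transv_zero, map_one]
  rcases le_or_gt 4 (Fintype.card F) with h4 | h4
  · obtain ⟨a, ha⟩ : ∃ a : F, a ∉ ({0, 1, -1} : Finset F) := by
      by_contra hall
      push Not at hall
      have hcard := Finset.card_le_card (fun a _ => hall a : (Finset.univ : Finset F) ⊆ {0, 1, -1})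
      rw [Finset.card_univ] at hcard
      have := (Finset.card_le_three (a := (0 : F)) (b := 1) (c := -1))
      omega
    simp only [Finset.mem_insert, Finset.mem_singleton, not_or] at ha
    have ha2 : a ^ 2 - 1 ≠ 0 := by
      rw [sub_ne_zero, ne_eq, sq_eq_one_iff]; tauto
    obtain ⟨g, hg⟩ := exists_smul_eq hv (smul_ne_zero ha.1 hv)
    have h1 := hinv g v (c / (a ^ 2 - 1))
    rw [hg, transv_scale,
      show a ^ 2 * (c / (a ^ 2 - 1)) = c + c / (a ^ 2 - 1) by field_simp; ring,
      ← transv_add, map_mul, mul_eq_right] at h1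
    exact h1
  have hall : ∀ w : Fin m ⊕ Fin m → F, w ≠ 0 → φ (transv w 1) = φ (transv v 1) := by
    intro w hw
    obtain ⟨g, rfl⟩ := exists_smul_eq hv hw
    exact hinv g v 1
  have hcard0 : ((Fintype.card F : ℕ) : F) = 0 := FiniteField.cast_card_eq_zero F
  have hpow := FiniteField.pow_card_sub_one_eq_one c hc
  have hne : ∀ i j : Fin m, i ≠ j → ∀ s : F,
      (Pi.single (Sum.inl i) 1 + s • Pi.single (Sum.inl j) 1 : Fin m ⊕ Fin m → F) ≠ 0 := by
    intro i j hij s e
    simpa [hij] using congrFun e (Sum.inl i)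
  have hperp : ∀ i j : Fin m, sympForm m F (Pi.single (Sum.inl i) 1 : Fin m ⊕ Fin m → F)
      (Pi.single (Sum.inl j) 1) = 0 := by
    intro i j; simp [form_single_inl_right]
  rcases (by omega : Fintype.card F = 2 ∨ Fintype.card F = 3) with hq | hq
  · have hm : 3 ≤ m := by omega
    rw [hq] at hcard0 hpow
    have hc1 : c = 1 := by simpa using hpow
    set e : Fin 3 → (Fin m ⊕ Fin m → F) := fun i => Pi.single (Sum.inl ⟨i, by omega⟩) 1 with he
    have hp : ∀ i j, sympForm m F (e i) (e j) = 0 := fun i j => hperp _ _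
    have h2 : (2 : F) = 0 := by simpa using hcard0
    have key : transv (e 0) (1 : F) * transv (e 1) 1 * transv (e 2) 1 * transv (e 0 + e 1) 1 *
        transv (e 0 + e 2) 1 * transv (e 1 + e 2) 1 * transv (e 0 + e 1 + e 2) 1 = 1 := by
      refine ext_smul fun x => ?_
      simp only [mul_smul, transv_smul, one_smul, one_mul, form_add_left, form_add_right,
        form_smul_left, hp, mul_zero, add_zero]
      generalize sympForm m F x (e 0) = p, sympForm m F x (e 1) = r, sympForm m F x (e 2) = s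
      calc _ = x + (2 : F) • ((2 * p + r + s) • e 0 + (p + 2 * r + s) • e 1 +
            (p + r + 2 * s) • e 2) := by module
        _ = x := by rw [h2, zero_smul, add_zero]
    have n1 : ∀ i, e i ≠ 0 := fun i => by simp [he]
    have n2 : ∀ i j : Fin 3, i ≠ j → e i + e j ≠ 0 := by
      intro i j hij
      simpa [he] using hne ⟨i, by omega⟩ ⟨j, by omega⟩ (by simpa [Fin.ext_iff] using hij) 1
    have n3 : e 0 + e 1 + e 2 ≠ 0 := fun e' => by
      have d1 : (⟨0, by omega⟩ : Fin m) ≠ ⟨1, by omega⟩ := by simp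
      have d2 : (⟨0, by omega⟩ : Fin m) ≠ ⟨2, by omega⟩ := by simp
      simpa [he, d1, d2] using congrFun e' (Sum.inl ⟨0, by omega⟩)
    have ht2 : φ (transv v 1) * φ (transv v 1) = 1 := by
      rw [← map_mul, transv_add, show (1 : F) + 1 = 0 by rw [← h2]; ring, transv_zero, map_one]
    have := congrArg φ key
    simp only [map_mul, map_one, hall _ (n1 _), hall _ (n2 0 1 (by decide)),
      hall _ (n2 0 2 (by decide)), hall _ (n2 1 2 (by decide)), hall _ n3, ht2, one_mul] at this
    rw [hc1]; exact this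
  · have hm : 2 ≤ m := by omega
    rw [hq] at hcard0 hpow
    have h3 : (3 : F) = 0 := by simpa using hcard0
    set a : Fin m ⊕ Fin m → F := Pi.single (Sum.inl ⟨0, by omega⟩) 1 with ha
    set b : Fin m ⊕ Fin m → F := Pi.single (Sum.inl ⟨1, by omega⟩) 1 with hb
    have hp : sympForm m F a a = 0 ∧ sympForm m F a b = 0 ∧ sympForm m F b a = 0 ∧
        sympForm m F b b = 0 := ⟨hperp _ _, hperp _ _, hperp _ _, hperp _ _⟩
    have key : transv (a + b) (1 : F) * transv (a + (-1 : F) • b) 1 * transv a 1 * transv b 1 = 1 := by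
      refine ext_smul fun x => ?_
      simp only [mul_smul, transv_smul, one_smul, one_mul, form_add_left, form_add_right,
        form_smul_left, form_smul_right, hp.1, hp.2.1, hp.2.2.1, hp.2.2.2, mul_zero, add_zero]
      generalize sympForm m F x a = p, sympForm m F x b = r
      calc _ = x + (3 : F) • (p • a + r • b) := by module
        _ = x := by rw [h3, zero_smul, add_zero]
    have n0 : (⟨0, by omega⟩ : Fin m) ≠ ⟨1, by omega⟩ := by simp
    have ht3 : φ (transv v 1) * φ (transv v 1) * φ (transv v 1) = 1 := by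
      rw [← map_mul, ← map_mul, transv_add, transv_add,
        show (1 : F) + 1 + 1 = 0 by rw [← h3]; ring, transv_zero, map_one]
    have := congrArg φ key
    rw [map_mul, map_mul, map_mul, map_one, hall (a + b) (by simpa [ha, hb] using hne _ _ n0 1),
      hall (a + (-1 : F) • b) (hne _ _ n0 (-1)), hall a (by simp [ha]),
      hall b (by simp [hb]), ht3, one_mul] at this
    rcases sq_eq_one_iff.mp (show c ^ 2 = 1 from hpow) with rfl | rfl
    · exact this
    · rw [← transv_inv, map_inv, this, inv_one]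

theorem psp_simple [Fintype F] (m : ℕ) (hm : 2 ≤ m) (h : m = 2 → 3 ≤ Fintype.card F) :
    IsSimpleGroup (Cfsg.PSp m F) := by
  have hperf := perfect (F := F) m (by
    rcases eq_or_lt_of_le hm with e | e
    · exact Or.inr (Or.inl ⟨e.symm, h e.symm⟩)
    · exact Or.inl e)
  set Z := Subgroup.center (symplecticGroup (Fin m) F)
  have : Nontrivial (Cfsg.PSp m F) := by
    refine QuotientGroup.nontrivial_iff.mpr fun htop => ?_
    have hu : (Pi.single (Sum.inr ⟨0, by omega⟩) 1 : Fin m ⊕ Fin m → F) ≠ 0 := by simp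
    have hg : transv (Pi.single (Sum.inl ⟨0, by omega⟩) 1 : Fin m ⊕ Fin m → F) (1 : F) ∈ Z :=
      (show Z = ⊤ from htop).symm ▸ Subgroup.mem_top _
    obtain ⟨a, ha⟩ := center_line hg hu
    have := congrFun ha (Sum.inl ⟨0, by omega⟩)
    simp [transv_smul, form_single_inl_right] at this
  refine ⟨fun H hH => ?_⟩
  by_cases hle : H.comap (QuotientGroup.mk' Z) ≤ Z
  · left
    rw [← Subgroup.map_comap_eq_self_of_surjective (QuotientGroup.mk'_surjective Z) H,
      Subgroup.map_eq_bot_iff, QuotientGroup.ker_mk']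
    exact hle
  · right
    have := hH.comap (QuotientGroup.mk' Z)
    have := commutator_le_of_normal hm _ hle
    rw [hperf, top_le_iff] at this
    rw [← Subgroup.map_comap_eq_self_of_surjective (QuotientGroup.mk'_surjective Z) H, this,
      Subgroup.map_top_of_surjective _ (QuotientGroup.mk'_surjective Z)]

end Cfsg.Agent.SymplecticSimple
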