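import Mathlib
import Cfsg.Prelude.Def_Classical
import Cfsg.Prelude.Def_ClassicalGeometry
import Cfsg.Prelude.Def_GeometricClasses
import Cfsg.Prelude.Def_LieTypeDatum
import Cfsg.Agent.Lib.SymplecticBasic
import Cfsg.Agent.Lib.SymplecticSimple

/-!
Transvections in `PSp m F`, and the automorphisms induced by conformal symplectic matrices and field automorphisms.
-/

set_option autoImplicit false

namespace Cfsg.Agent.AutPSpBasic

open Matrix
open Cfsg.Agent.SymplecticBasic Cfsg.Agent.SymplecticSimple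

variable {m : ℕ} {F : Type*} [Field F]

/-- Short name for the symplectic group. -/
abbrev Sp (m : ℕ) (F : Type*) [Field F] : Type _ := ↥(Matrix.symplecticGroup (Fin m) F)

/-- Short name for the projective symplectic group. -/
abbrev PS (m : ℕ) (F : Type*) [Field F] : Type _ := Cfsg.PSp m F

/-- The space of the symplectic form. -/
abbrev Vc (m : ℕ) (F : Type*) : Type _ := Fin m ⊕ Fin m → F

/-- The class of a transvection. -/
def T (v : Vc m F) (c : F) : PS m F := QuotientGroup.mk (transv v c)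

lemma T_add (v : Vc m F) (c d : F) : T v c * T v d = T v (c + d) := by
  rw [T, T, T, ← QuotientGroup.mk_mul, transv_add]

lemma T_zero (v : Vc m F) : T v 0 = 1 := by rw [T, transv_zero, QuotientGroup.mk_one]

lemma T_inv (v : Vc m F) (c : F) : (T v c)⁻¹ = T v (-c) := by rw [T, T, ← QuotientGroup.mk_inv, transv_inv]

lemma T_scale (v : Vc m F) (a c : F) : T (a • v) c = T v (a ^ 2 * c) := by rw [T, T, transv_scale]

lemma exists_perp_two (hm : 2 ≤ m) (v w : Vc m F) :
    ∃ x : Vc m F, x ≠ 0 ∧ sympForm m F x v = 0 ∧ sympForm m F x w = 0 := by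
  let f : Vc m F →ₗ[F] F × F := (formLin v).prod (formLin w)
  have hker : LinearMap.ker f ≠ ⊥ := by
    apply LinearMap.ker_ne_bot_of_finrank_lt
    simp
    omega
  obtain ⟨u, hu, hu0⟩ := Submodule.exists_mem_ne_zero_of_ne_bot hker
  exact ⟨u, hu0, form_eq_zero_comm.mp (congrArg Prod.fst hu), form_eq_zero_comm.mp (congrArg Prod.snd hu)⟩

/-- Classes of transvections agree only when the transvections do. -/
lemma T_eq_T_iff (hm : 2 ≤ m) {v w : Vc m F} {c d : F} : T v c = T w d ↔ transv v c = transv w d := by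
  refine ⟨fun h => ?_, fun h => by rw [T, T, h]⟩
  obtain ⟨a, -, ha⟩ := (mem_center_iff (by omega)).1 (QuotientGroup.eq.1 h)
  obtain ⟨x, hx0, hxv, hxw⟩ := exists_perp_two hm v w
  have e : transv w d • x = transv v c • (a • x) := by rw [← ha x, ← mul_smul, mul_inv_cancel_left]
  rw [transv_smul, transv_smul, hxw, form_smul_left, hxv] at e
  simp only [mul_zero, zero_smul, add_zero] at e
  have h1 : a = 1 := smul_left_injective F hx0 (show a • x = (1 : F) • x by rw [one_smul]; exact e.symm)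
  subst h1
  have : (transv v c)⁻¹ * transv w d = 1 := ext_smul fun z => by rw [ha, one_smul, one_smul]
  exact inv_mul_eq_one.1 this

lemma T_eq (hm : 2 ≤ m) {v w : Vc m F} {c d : F} (hv : v ≠ 0) (hc : c ≠ 0) (h : T v c = T w d) :
    ∃ a : F, a ≠ 0 ∧ w = a • v ∧ c = a ^ 2 * d := by
  rw [T_eq_T_iff hm] at h
  obtain ⟨z, hz⟩ := exists_form_eq_one hv
  have hzv : sympForm m F z v = -1 := by rw [form_swap v z, hz]
  have hx : ∀ x, (c * sympForm m F x v) • v = (d * sympForm m F x w) • w := fun x => by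
    have := congrArg (fun t : Sp m F => t • x) h
    simpa only [transv_smul, add_right_inj] using this
  have hne : d * sympForm m F z w ≠ 0 := fun e => by
    have := hx z
    rw [e, zero_smul, smul_eq_zero, hzv] at this
    rcases this with h1 | h1
    · exact hc (by simpa using h1)
    · exact hv h1
  obtain ⟨a, rfl⟩ : ∃ a : F, w = a • v :=
    ⟨(d * sympForm m F z w)⁻¹ * (c * sympForm m F z v), by
      rw [mul_smul, hx z, inv_smul_smul₀ hne]⟩
  refine ⟨a, fun e => hne (by rw [e, zero_smul, form_zero_right, mul_zero]), rfl, ?_⟩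
  have h2 := hx z
  rw [form_smul_right, smul_smul, hzv] at h2
  linear_combination -(smul_left_injective F hv h2)

lemma T_eq_one_iff (hm : 2 ≤ m) {v : Vc m F} {c : F} : T v c = 1 ↔ v = 0 ∨ c = 0 := by
  constructor
  · intro h
    by_contra hcon
    push Not at hcon
    obtain ⟨a, -, -, e⟩ := T_eq hm hcon.1 hcon.2 (h.trans (T_zero v).symm)
    exact hcon.2 (by rw [e, mul_zero])
  · rintro (rfl | rfl)
    · rw [T, transv_vec_zero, QuotientGroup.mk_one]
    · exact T_zero v

lemma T_inj (hm : 2 ≤ m) {v : Vc m F} (hv : v ≠ 0) {c d : F} (h : T v c = T v d) : c = d := by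
  have : T v (c - d) = 1 := by
    rw [sub_eq_add_neg, ← T_add, h, T_add, add_neg_cancel, T_zero]
  exact sub_eq_zero.1 (((T_eq_one_iff hm).1 this).resolve_left hv)

lemma T_conj (g : Sp m F) (v : Vc m F) (c : F) :
    QuotientGroup.mk g * T v c * (QuotientGroup.mk g)⁻¹ = T (g • v) c := by
  rw [T, T, ← QuotientGroup.mk_mul, ← QuotientGroup.mk_inv, ← QuotientGroup.mk_mul, transv_conj]

/-- Conjugating a transvection by a transvection. -/
lemma T_conj_T (u w : Vc m F) (c d : F) : T u c * T w d * (T u c)⁻¹ = T (w + (c * sympForm m F w u) • u) d := by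
  rw [← transv_smul]
  exact T_conj (transv u c) w d

/-- Transvections commute exactly when their centres are orthogonal. -/
lemma commute_T_iff (hm : 2 ≤ m) {u w : Vc m F} {c d : F} (hu : u ≠ 0) (hw : w ≠ 0) (hc : c ≠ 0) (hd : d ≠ 0) :
    Commute (T u c) (T w d) ↔ sympForm m F u w = 0 := by
  constructor
  · intro h
    have e : T w d = T (w + (c * sympForm m F w u) • u) d := by
      rw [← T_conj_T, h.eq, mul_inv_cancel_right]
    obtain ⟨a, -, ha, -⟩ := T_eq hm hw hd e
    by_contra hne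
    have hne' : sympForm m F w u ≠ 0 := fun e => hne (form_eq_zero_comm.mp e)
    have : (c * sympForm m F w u) • u = (a - 1) • w := by rw [sub_smul, one_smul, ← ha]; abel
    have e2 := congrArg (fun x => sympForm m F w x) this
    simp only [form_smul_right, form_self, mul_zero] at e2
    exact mul_ne_zero (mul_ne_zero hc hne') hne' e2
  · intro h
    have e : T u c * T w d * (T u c)⁻¹ = T w d := by
      rw [T_conj_T, form_eq_zero_comm.mp h, mul_zero, zero_smul, add_zero]
    exact mul_inv_eq_iff_eq_mul.1 e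

lemma closure_T : Subgroup.closure (Set.range fun p : Vc m F × F => T p.1 p.2) = ⊤ := by
  have h := congrArg (Subgroup.map (QuotientGroup.mk' (Subgroup.center (Sp m F)))) (closure_transvections (F := F) (m := m))
  rw [MonoidHom.map_closure, Subgroup.map_top_of_surjective _ (QuotientGroup.mk'_surjective _)] at h
  rw [← top_le_iff, ← h]
  refine Subgroup.closure_mono ?_
  rintro _ ⟨A, ⟨w, c, e⟩, rfl⟩
  exact ⟨(w, c), congrArg QuotientGroup.mk (Subtype.ext e.symm : transv w c = A)⟩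

lemma ext_of_T {α β : MulAut (PS m F)} (h : ∀ v c, α (T v c) = β (T v c)) : α = β := by
  have : (α : PS m F →* PS m F) = (β : PS m F →* PS m F) :=
    MonoidHom.eq_of_eqOn_dense closure_T (by rintro _ ⟨⟨v, c⟩, rfl⟩; exact h v c)
  exact MulEquiv.ext fun x => DFunLike.congr_fun this x

/-! ### Automorphisms induced from `Sp` -/

/-- The automorphism of `PSp` induced by an automorphism of `Sp`. -/
noncomputable def quotAut : MulAut (Sp m F) →* MulAut (PS m F) where
  toFun φ := QuotientGroup.congr _ _ φ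
    (Subgroup.characteristic_iff_map_eq.1 Subgroup.centerCharacteristic φ)
  map_one' := by
    ext x
    induction x using QuotientGroup.induction_on with
    | H s => rfl
  map_mul' φ ψ := by
    ext x
    induction x using QuotientGroup.induction_on with
    | H s => rfl

@[simp] lemma quotAut_mk (φ : MulAut (Sp m F)) (s : Sp m F) :
    quotAut φ (QuotientGroup.mk s) = QuotientGroup.mk (φ s) := rfl

lemma form_mulVec (g : GL (Fin m ⊕ Fin m) F) (u : Vc m F) :
    (g : Matrix (Fin m ⊕ Fin m) (Fin m ⊕ Fin m) F) *ᵥ (((g⁻¹ : GL (Fin m ⊕ Fin m) F) : Matrix (Fin m ⊕ Fin m) (Fin m ⊕ Fin m) F) *ᵥ u) = u := by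
  rw [mulVec_mulVec, Units.mul_inv, one_mulVec]

lemma conj_mem {g : GL (Fin m ⊕ Fin m) F} (hg : g ∈ Cfsg.GSp m F) (s : Sp m F) :
    (g : Matrix (Fin m ⊕ Fin m) (Fin m ⊕ Fin m) F) * (s : Matrix (Fin m ⊕ Fin m) (Fin m ⊕ Fin m) F) *
      ((g⁻¹ : GL (Fin m ⊕ Fin m) F) : Matrix (Fin m ⊕ Fin m) (Fin m ⊕ Fin m) F) ∈ Matrix.symplecticGroup (Fin m) F := by
  obtain ⟨c, hc⟩ := hg
  rw [mem_sp_iff_form]
  intro u v
  rw [← mulVec_mulVec, ← mulVec_mulVec, ← mulVec_mulVec, ← mulVec_mulVec, hc, mem_sp_iff_form.1 s.2]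
  have h1 := hc (((g⁻¹ : GL (Fin m ⊕ Fin m) F) : Matrix (Fin m ⊕ Fin m) (Fin m ⊕ Fin m) F) *ᵥ u)
    (((g⁻¹ : GL (Fin m ⊕ Fin m) F) : Matrix (Fin m ⊕ Fin m) (Fin m ⊕ Fin m) F) *ᵥ v)
  rw [form_mulVec, form_mulVec] at h1
  exact h1.symm

/-- Conjugation by a conformal symplectic matrix, on `Sp`. -/
noncomputable def spConj : ↥(Cfsg.GSp m F) →* MulAut (Sp m F) where
  toFun g :=
    { toFun := fun s => ⟨_, conj_mem g.2 s⟩
      invFun := fun s => ⟨_, conj_mem (g⁻¹).2 s⟩
      left_inv := fun s => by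
        apply Subtype.ext
        simp [mul_assoc]
      right_inv := fun s => by
        apply Subtype.ext
        simp [mul_assoc]
      map_mul' := fun s t => by
        apply Subtype.ext
        simp [mul_assoc] }
  map_one' := by
    apply MulEquiv.ext
    intro s
    apply Subtype.ext
    simp
  map_mul' g h := by
    apply MulEquiv.ext
    intro s
    apply Subtype.ext
    simp [mul_assoc]

lemma coe_spConj (g : ↥(Cfsg.GSp m F)) (s : Sp m F) :
    ((spConj g s : Sp m F) : Matrix (Fin m ⊕ Fin m) (Fin m ⊕ Fin m) F) =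
      ((g : GL (Fin m ⊕ Fin m) F) : Matrix (Fin m ⊕ Fin m) (Fin m ⊕ Fin m) F) * (s : Matrix (Fin m ⊕ Fin m) (Fin m ⊕ Fin m) F) *
      (((g : GL (Fin m ⊕ Fin m) F)⁻¹ : GL (Fin m ⊕ Fin m) F) : Matrix (Fin m ⊕ Fin m) (Fin m ⊕ Fin m) F) := rfl

lemma map_J (σ : F ≃+* F) : (Matrix.J (Fin m) F).map σ = Matrix.J (Fin m) F := by
  simp [Matrix.J, Matrix.fromBlocks_map, Matrix.map_neg, Matrix.map_one]

lemma field_mem (σ : F ≃+* F) (s : Sp m F) :
    (s : Matrix (Fin m ⊕ Fin m) (Fin m ⊕ Fin m) F).map σ ∈ Matrix.symplecticGroup (Fin m) F := by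
  rw [SymplecticGroup.mem_iff]
  have h := congrArg (fun M : Matrix (Fin m ⊕ Fin m) (Fin m ⊕ Fin m) F => M.map σ) (SymplecticGroup.mem_iff.1 s.2)
  simp only [Matrix.map_mul, map_J] at h
  rw [← Matrix.transpose_map]
  exact h

/-- A field automorphism applied entrywise, on `Sp`. -/
def spField : (F ≃+* F) →* MulAut (Sp m F) where
  toFun σ :=
    { toFun := fun s => ⟨_, field_mem σ s⟩
      invFun := fun s => ⟨_, field_mem σ.symm s⟩
      left_inv := fun s => by
        apply Subtype.ext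
        ext i j
        simp
      right_inv := fun s => by
        apply Subtype.ext
        ext i j
        simp
      map_mul' := fun s t => Subtype.ext (Matrix.map_mul) }
  map_one' := by
    apply MulEquiv.ext
    intro s
    apply Subtype.ext
    ext i j
    rfl
  map_mul' σ τ := by
    apply MulEquiv.ext
    intro s
    apply Subtype.ext
    ext i j
    rfl

lemma coe_spField (σ : F ≃+* F) (s : Sp m F) :
    ((spField σ s : Sp m F) : Matrix (Fin m ⊕ Fin m) (Fin m ⊕ Fin m) F) =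
      (s : Matrix (Fin m ⊕ Fin m) (Fin m ⊕ Fin m) F).map σ := rfl

/-- Conjugation by a conformal symplectic matrix, on `PSp`. -/
noncomputable def cj : ↥(Cfsg.GSp m F) →* MulAut (PS m F) := quotAut.comp spConj

/-- A field automorphism applied entrywise, on `PSp`. -/
noncomputable def fd : (F ≃+* F) →* MulAut (PS m F) := quotAut.comp spField

lemma cj_mk (g : ↥(Cfsg.GSp m F)) (s : Sp m F) : cj g (QuotientGroup.mk s) = QuotientGroup.mk (spConj g s) := rfl

lemma fd_mk (σ : F ≃+* F) (s : Sp m F) : fd σ (QuotientGroup.mk s : PS m F) = QuotientGroup.mk (spField σ s) := rfl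

lemma form_map_field (σ : F ≃+* F) (u v : Vc m F) : sympForm m F (σ ∘ u) (σ ∘ v) = σ (sympForm m F u v) := by
  simp [form_eq_sum, map_sum]

lemma map_mulVec_comp (σ : F ≃+* F) (M : Matrix (Fin m ⊕ Fin m) (Fin m ⊕ Fin m) F) (x : Vc m F) :
    M.map σ *ᵥ (σ ∘ x) = σ ∘ (M *ᵥ x) := by
  funext i
  exact ((σ : F →+* F).map_mulVec M x i).symm

lemma fd_T (σ : F ≃+* F) (v : Vc m F) (c : F) : fd σ (T v c) = T (σ ∘ v) (σ c) := by
  rw [T, T, fd_mk]
  congr 1
  refine ext_smul fun x => ?_
  obtain ⟨y, rfl⟩ : ∃ y : Vc m F, x = σ ∘ y := ⟨σ.symm ∘ x, by ext; simp⟩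
  rw [smul_def, coe_spField, map_mulVec_comp, ← smul_def, transv_smul, transv_smul, form_map_field]
  ext i
  simp

lemma cj_T (g : ↥(Cfsg.GSp m F)) {μ : F} (hμ : μ ≠ 0)
    (h : ∀ u v, sympForm m F (((g : GL (Fin m ⊕ Fin m) F) : Matrix (Fin m ⊕ Fin m) (Fin m ⊕ Fin m) F) *ᵥ u)
      (((g : GL (Fin m ⊕ Fin m) F) : Matrix (Fin m ⊕ Fin m) (Fin m ⊕ Fin m) F) *ᵥ v) = μ * sympForm m F u v)
    (v : Vc m F) (c : F) :
    cj g (T v c) = T (((g : GL (Fin m ⊕ Fin m) F) : Matrix (Fin m ⊕ Fin m) (Fin m ⊕ Fin m) F) *ᵥ v) (c / μ) := by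
  rw [T, T, cj_mk]
  congr 1
  refine ext_smul fun x => ?_
  set G := ((g : GL (Fin m ⊕ Fin m) F) : Matrix (Fin m ⊕ Fin m) (Fin m ⊕ Fin m) F) with hG
  obtain ⟨y, rfl⟩ : ∃ y : Vc m F, x = G *ᵥ y := ⟨_, (form_mulVec (g : GL (Fin m ⊕ Fin m) F) x).symm⟩
  rw [smul_def, coe_spConj, ← hG, transv_smul, h, ← mulVec_mulVec, ← mulVec_mulVec, mulVec_mulVec y, hG, Units.inv_mul,
    one_mulVec, ← smul_def, transv_smul, ← hG, mulVec_add, mulVec_smul]
  field_simp

/-- A symplectic matrix as a conformal one. -/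
noncomputable def ofSp : Sp m F →* ↥(Cfsg.GSp m F) :=
  MonoidHom.codRestrict (MonoidHom.toHomUnits (Submonoid.subtype _)) _ fun s =>
    ⟨1, fun u v => by rw [Units.val_one, one_mul]; exact mem_sp_iff_form.1 s.2 u v⟩

lemma cj_ofSp (s : Sp m F) (x : PS m F) : cj (ofSp s) x = QuotientGroup.mk s * x * (QuotientGroup.mk s)⁻¹ := by
  induction x using QuotientGroup.induction_on with
  | H t =>
    rw [cj_mk, ← QuotientGroup.mk_mul, ← QuotientGroup.mk_inv, ← QuotientGroup.mk_mul]
    congr 1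

end Cfsg.Agent.AutPSpBasic
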