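import Mathlib
import Cfsg.Agent.Lib.SymplecticBasic
import Cfsg.Agent.Lib.SymplecticSimple
import Cfsg.Agent.Lib.AutPSpBasic

/-!
Classes of transvections in `PSp m F` as central elements of Sylow subgroups, with an extra condition in
characteristic two; every automorphism permutes them unless `m = 2` and the characteristic is two.
-/

set_option autoImplicit false

namespace Cfsg.Agent.AutPSpTransv

open Matrix
open Cfsg.Agent.SymplecticBasic Cfsg.Agent.SymplecticSimple Cfsg.Agent.AutPSpBasic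

variable {m : ℕ} {F : Type*} [Field F]

/-- `x` is the class of a transvection. -/
def IsTr (x : PS m F) : Prop := ∃ v c, v ≠ 0 ∧ c ≠ 0 ∧ x = T v c

/-- In characteristic two: a product with a conjugate of order dividing four has order dividing two. -/
def NoFour (x : PS m F) : Prop :=
  (2 : F) = 0 → ∀ g : PS m F, (x * (g * x * g⁻¹)) ^ 4 = 1 → (x * (g * x * g⁻¹)) ^ 2 = 1

/-- A non-trivial element of the centre of some Sylow `p`-subgroup. -/
def IsCentralSylow (p : ℕ) (x : PS m F) : Prop :=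
  x ≠ 1 ∧ ∃ S : Sylow p (PS m F), x ∈ S ∧ ∀ y ∈ S, Commute x y

lemma noFour_map (α : MulAut (PS m F)) {x : PS m F} (h : NoFour x) : NoFour (α x) := by
  intro h2 g hg
  obtain ⟨g, rfl⟩ := α.surjective g
  rw [← map_inv, ← map_mul, ← map_mul, ← map_mul, ← map_pow] at hg ⊢
  rw [map_eq_one_iff _ α.injective] at hg ⊢
  exact h h2 g hg

lemma centralSylow_map [Finite F] (p : ℕ) [Fact p.Prime] (α : MulAut (PS m F)) {x : PS m F}
    (h : IsCentralSylow p x) : IsCentralSylow p (α x) := by
  obtain ⟨hx, S, hxS, hc⟩ := h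
  refine ⟨by simpa using hx, S.mapSurjective α.surjective (f := (α : PS m F →* PS m F)), ?_, ?_⟩
  · exact ⟨x, hxS, rfl⟩
  · rintro _ ⟨y, hy, rfl⟩
    exact (hc y hy).map α

/-- Classes in characteristic two are faithful. -/
lemma eq_one_of_mk (hm : 1 ≤ m) (h2 : (2 : F) = 0) {s : Sp m F} (h : (QuotientGroup.mk s : PS m F) = 1) : s = 1 := by
  obtain ⟨a, ha, hs⟩ := (mem_center_iff hm).1 ((QuotientGroup.eq_one_iff s).1 h)
  have h1 : a = 1 := by
    rcases sq_eq_one_iff.1 ha with h | h
    · exact h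
    · rw [h]; linear_combination -h2
  exact ext_smul fun v => by rw [hs, h1, one_smul, one_smul]

/-- The triangular order of the coordinates. -/
def rk : Fin m ⊕ Fin m → ℕ := Sum.elim (fun i => (i : ℕ)) fun i => 2 * m - 1 - i

lemma rk_lt (a : Fin m ⊕ Fin m) : rk a < 2 * m := by
  rcases a with a | a <;> have := a.isLt <;> simp [rk] <;> omega

lemma rk_injective : Function.Injective (rk : Fin m ⊕ Fin m → ℕ) := by
  rintro (a | a) (b | b) h <;> have := a.isLt <;> have := b.isLt <;> simp [rk] at h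
  · exact congrArg Sum.inl (Fin.ext h)
  · omega
  · omega
  · exact congrArg Sum.inr (Fin.ext (by omega))

variable [Fintype F]

/-- The unitriangular symplectic matrices. -/
def unitri (m : ℕ) (F : Type*) [Field F] [Fintype F] : Subgroup (Sp m F) :=
  let M : Submonoid (Sp m F) :=
    { carrier := {s | ∀ a b, rk b ≤ rk a → (s : Matrix (Fin m ⊕ Fin m) (Fin m ⊕ Fin m) F) a b = if a = b then 1 else 0}
      one_mem' := fun a b _ => by rw [Submonoid.coe_one, Matrix.one_apply]
      mul_mem' := fun {s t} hs ht a b hab => by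
        show ((s : Matrix (Fin m ⊕ Fin m) (Fin m ⊕ Fin m) F) * t) a b = _
        rw [Matrix.mul_apply, Finset.sum_eq_single a]
        · rw [hs a a le_rfl, ht a b hab]; simp
        · intro k _ hk
          rcases le_total (rk k) (rk a) with h | h
          · rw [hs a k h, if_neg hk.symm, zero_mul]
          · rw [ht k b (hab.trans h), if_neg (fun e => hk (rk_injective (le_antisymm (by rw [e]; exact hab) h))),
              mul_zero]
        · simp }
  { M with
    inv_mem' := fun {x} hx => by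
      obtain ⟨k, hk, hk1⟩ := (isOfFinOrder_of_finite x).exists_pow_eq_one
      have : x⁻¹ = x ^ (k - 1) := by
        rw [inv_eq_iff_mul_eq_one, ← pow_succ', Nat.sub_add_cancel hk, hk1]
      rw [this]
      exact M.pow_mem hx _ }

lemma mem_unitri {s : Sp m F} :
    s ∈ unitri m F ↔ ∀ a b, rk b ≤ rk a → (s : Matrix (Fin m ⊕ Fin m) (Fin m ⊕ Fin m) F) a b = if a = b then 1 else 0 :=
  Iff.rfl

lemma isPGroup_unitri (hm : 1 ≤ m) (p : ℕ) [Fact p.Prime] [CharP F p] : IsPGroup p (unitri m F) := by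
  haveI : Nonempty (Fin m ⊕ Fin m) := ⟨.inl ⟨0, hm⟩⟩
  haveI : CharP (Matrix (Fin m ⊕ Fin m) (Fin m ⊕ Fin m) F) p := inferInstance
  rintro ⟨s, hs⟩
  refine ⟨2 * m, ?_⟩
  apply Subtype.ext
  apply Subtype.ext
  show ((s ^ p ^ (2 * m) : Sp m F) : Matrix (Fin m ⊕ Fin m) (Fin m ⊕ Fin m) F) = _
  rw [SubmonoidClass.coe_pow]
  set N : Matrix (Fin m ⊕ Fin m) (Fin m ⊕ Fin m) F := (s : Matrix (Fin m ⊕ Fin m) (Fin m ⊕ Fin m) F) - 1 with hN
  have hz : ∀ a b, rk b ≤ rk a → N a b = 0 := fun a b h => by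
    rw [hN, Matrix.sub_apply, mem_unitri.1 hs a b h, Matrix.one_apply]; simp
  have hk : ∀ (k : ℕ) (a b : Fin m ⊕ Fin m), rk b < rk a + k → (N ^ k) a b = 0 := by
    intro k
    induction k with
    | zero =>
      intro a b h
      rw [pow_zero, Matrix.one_apply_ne]
      intro e; subst e; omega
    | succ k ih =>
      intro a b h
      rw [pow_succ, Matrix.mul_apply]
      refine Finset.sum_eq_zero fun c _ => ?_
      by_cases hc : rk c < rk a + k
      · rw [ih a c hc, zero_mul]
      · rw [hz c b (by omega), mul_zero]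
  have hNn : N ^ (2 * m) = 0 := by
    ext a b
    exact hk _ a b (by have := rk_lt b; omega)
  have hp : 2 * m ≤ p ^ (2 * m) := ((2 * m).lt_pow_self (Fact.out : p.Prime).one_lt).le
  have : (s : Matrix (Fin m ⊕ Fin m) (Fin m ⊕ Fin m) F) = 1 + N := by rw [hN]; abel
  rw [this, add_pow_char_pow_of_commute (p := p) (2 * m) (Commute.one_left N), one_pow, pow_eq_zero_of_le hp hNn, add_zero]
  rfl

lemma transv_mem_unitri (v : Vc m F) (hv : ∀ i, v (.inr i) = 0) (c : F) : transv v c ∈ unitri m F := by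
  rw [mem_unitri]
  intro a b hab
  rw [coe_transv, sympTransvection, Matrix.add_apply, Matrix.smul_apply, vecMulVec_apply, Matrix.one_apply]
  suffices v a * (Matrix.J (Fin m) F *ᵥ v) b = 0 by rw [this, smul_zero, add_zero]
  rcases a with i | i
  · rcases b with j | j
    · simp [Matrix.J, fromBlocks_mulVec, Function.comp_def, hv, Matrix.neg_mulVec, mulVec, dotProduct]
    · exfalso
      have := i.isLt; have := j.isLt
      simp [rk] at hab
      omega
  · rw [hv i, zero_mul]

/-- The matrix of a Levi transvection. -/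
def leviMat (F : Type*) [Field F] (i j : Fin m) : Matrix (Fin m ⊕ Fin m) (Fin m ⊕ Fin m) F :=
  1 + vecMulVec (Pi.single (.inl i) 1) (Pi.single (.inl j) 1) - vecMulVec (Pi.single (.inr j) 1) (Pi.single (.inr i) 1)

omit [Fintype F] in
lemma levi_aux (i j : Fin m) (u : Vc m F) :
    leviMat F i j *ᵥ u = u + u (.inl j) • Pi.single (.inl i) 1 - u (.inr i) • Pi.single (.inr j) 1 := by
  rw [leviMat, sub_mulVec, add_mulVec, one_mulVec, vecMulVec_mulVec, vecMulVec_mulVec, single_dotProduct,
    single_dotProduct, one_mul, one_mul, op_smul_eq_smul, op_smul_eq_smul]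

/-- The Levi transvection `e_j ↦ e_j + e_i`, `f_i ↦ f_i - f_j`. -/
def levi (i j : Fin m) (h : i ≠ j) : Sp m F :=
  ⟨leviMat F i j, by
    rw [mem_sp_iff_form]
    intro u v
    rw [levi_aux, levi_aux]
    simp only [form_sub_left, form_sub_right, form_add_left, form_add_right, form_smul_left, form_smul_right, form_self]
    rw [form_swap v (Pi.single (Sum.inl i) 1), form_swap v (Pi.single (Sum.inr j) 1)]
    simp only [form_single_inl_right, form_single_inr_right, Pi.single_apply, Sum.inl.injEq, Sum.inr.injEq,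
      reduceCtorEq, h, h.symm, if_false, if_true]
    ring⟩

lemma levi_smul (i j : Fin m) (h : i ≠ j) (u : Vc m F) :
    (levi i j h : Sp m F) • u = u + u (.inl j) • Pi.single (.inl i) 1 - u (.inr i) • Pi.single (.inr j) 1 := levi_aux i j u

lemma levi_mem_unitri {i j : Fin m} (h : i < j) : levi (F := F) i j h.ne ∈ unitri m F := by
  rw [mem_unitri]
  intro a b hab
  show leviMat F i j a b = _
  have hne : ¬ ((Sum.inl i : Fin m ⊕ Fin m) = a ∧ (Sum.inl j : Fin m ⊕ Fin m) = b) := by
    rintro ⟨rfl, rfl⟩; simp [rk] at hab; omega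
  have hne' : ¬ ((Sum.inr j : Fin m ⊕ Fin m) = a ∧ (Sum.inr i : Fin m ⊕ Fin m) = b) := by
    rintro ⟨rfl, rfl⟩; simp [rk] at hab; have := j.isLt; omega
  rw [leviMat, Matrix.sub_apply, Matrix.add_apply, vecMulVec_apply, vecMulVec_apply, Matrix.one_apply]
  have z : ∀ (x y : Fin m ⊕ Fin m) (a b : Fin m ⊕ Fin m), ¬ (x = a ∧ y = b) →
      (Pi.single x (1 : F) : Vc m F) a * (Pi.single y (1 : F) : Vc m F) b = 0 := by
    intro x y a b h
    rcases eq_or_ne x a with e | e
    · have : y ≠ b := fun e' => h ⟨e, e'⟩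
      simp [Pi.single_eq_of_ne' this]
    · simp [Pi.single_eq_of_ne' e]
  rw [z _ _ _ _ hne, z _ _ _ _ hne', add_zero, sub_zero]

omit [Fintype F] in
lemma exists_scaled (s : Sp m F) {a : F} (ha : a * a = 1) :
    ∃ t : Sp m F, (∀ x : Vc m F, t • x = a • (s • x)) ∧ (QuotientGroup.mk t : PS m F) = QuotientGroup.mk s := by
  refine ⟨⟨a • (s : Matrix (Fin m ⊕ Fin m) (Fin m ⊕ Fin m) F), mem_sp_iff_form.2 fun u v => ?_⟩,
    fun x => smul_mulVec a _ x, ?_⟩
  · rw [smul_mulVec, smul_mulVec, form_smul_left, form_smul_right, mem_sp_iff_form.1 s.2, ← mul_assoc, ha, one_mul]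
  · refine (QuotientGroup.eq.2 (mem_center_of_scalar (a := a) fun v => ?_)).symm
    rw [mul_smul, inv_smul_eq_iff, scalar_smul]
    exact smul_mulVec a _ v

/-- The candidates for central elements of a Sylow subgroup. -/
lemma centralizer_unitri (hm : 2 ≤ m) (y : PS m F)
    (hy1 : ∀ v : Vc m F, (∀ i, v (.inr i) = 0) → Commute y (T v 1))
    (hy2 : ∀ (i j : Fin m) (h : i < j), Commute y (QuotientGroup.mk (levi i j h.ne))) :
    ∃ (s : Sp m F) (a b : F), y = QuotientGroup.mk s ∧ 2 * b = 0 ∧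
      ∀ x : Vc m F, s • x = x + (a * x (.inr ⟨0, by omega⟩) + b * x (.inr ⟨1, by omega⟩)) • Pi.single (.inl ⟨0, by omega⟩) 1 +
        (b * x (.inr ⟨0, by omega⟩)) • Pi.single (.inl ⟨1, by omega⟩) 1 := by
  classical
  obtain ⟨g, rfl⟩ := QuotientGroup.mk_surjective y
  set i0 : Fin m := ⟨0, by omega⟩ with hi0
  set i1 : Fin m := ⟨1, by omega⟩ with hi1
  let e : Fin m → Vc m F := fun i => Pi.single (.inl i) 1
  have hev : ∀ v : Vc m F, (∀ i, v (.inr i) = 0) → v ≠ 0 → ∃ a : F, a * a = 1 ∧ g • v = a • v := by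
    intro v hv hv0
    have h : T v (1 : F) = T (g • v) 1 := by
      rw [← T_conj, (hy1 v hv).eq, mul_inv_cancel_right]
    obtain ⟨a, -, h1, h2⟩ := T_eq hm hv0 one_ne_zero h
    exact ⟨a, by rw [mul_one, pow_two] at h2; exact h2.symm, h1⟩
  have he : ∀ i, e i ≠ 0 := fun i => by simp [e]
  have he' : ∀ i k, e i (.inr k) = 0 := fun i k => by simp [e]
  choose a ha ha' using fun i => hev (e i) (he' i) (he i)
  have hall : ∀ i, a i = a i0 := by
    intro i
    rcases eq_or_ne i i0 with rfl | hne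
    · rfl
    obtain ⟨c, -, hc⟩ := hev (e i + e i0) (fun k => by simp [he']) (fun h => by
      have := congrFun h (.inl i)
      simp [e, hne] at this)
    rw [smul_def, mulVec_add, ← smul_def, ← smul_def, ha', ha'] at hc
    have h1 := congrFun hc (.inl i)
    have h2 := congrFun hc (.inl i0)
    simp [e, hne, hne.symm] at h1 h2
    rw [h1, h2]
  obtain ⟨s, hs, hmk⟩ := exists_scaled g (ha i0)
  have hse : ∀ i, s • e i = e i := fun i => by rw [hs, ha', smul_smul, hall i, ha, one_smul]
  have hinr : ∀ (x : Vc m F) k, (s • x) (.inr k) = x (.inr k) := by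
    intro x k
    have h := form_map s x (e k)
    rw [hse] at h
    simpa [e, form_single_inl_right] using h
  let S : Fin m → Fin m → F := fun r k => (s : Matrix (Fin m ⊕ Fin m) (Fin m ⊕ Fin m) F) (.inl r) (.inr k)
  have hfk : ∀ r k, (s • (Pi.single (.inr k) 1 : Vc m F)) (.inl r) = S r k := fun r k => by
    simp [smul_def, mulVec_single_one, S]
  have hform : ∀ (x : Vc m F) r, (s • x) (.inl r) = x (.inl r) + ∑ k, S r k * x (.inr k) := by
    intro x r
    have hcol : ∀ k, (s : Matrix (Fin m ⊕ Fin m) (Fin m ⊕ Fin m) F) (.inl r) (.inl k) = if r = k then 1 else 0 := by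
      intro k
      have := congrFun (hse k) (.inl r)
      simpa [e, smul_def, mulVec_single_one, Pi.single_apply] using this
    rw [smul_def, mulVec, dotProduct, Fintype.sum_sum_type]
    simp [hcol, S]
  have hsymm : ∀ r k, S r k = S k r := by
    intro r k
    have h := form_map s (Pi.single (.inr r) 1 : Vc m F) (Pi.single (.inr k) 1)
    rw [form_eq_sum, form_eq_sum] at h
    simp [hinr, hfk, Pi.single_apply, Finset.sum_sub_distrib, Finset.sum_ite_eq'] at h
    linear_combination h
  have hlev : ∀ (i j : Fin m) (hij : i < j), ∀ r k,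
      (if r = i then S j k else 0) + (if k = i then S r j else 0) = 0 := by
    intro i j hij r k
    have hc : (QuotientGroup.mk (levi i j hij.ne * s) : PS m F) = QuotientGroup.mk (s * levi i j hij.ne) := by
      rw [QuotientGroup.mk_mul, QuotientGroup.mk_mul, hmk]
      exact (hy2 i j hij).eq.symm
    obtain ⟨c, -, hc'⟩ := (mem_center_iff (by omega)).1 (QuotientGroup.eq.1 hc)
    have hc'' : ∀ x : Vc m F, (s * levi i j hij.ne) • x = c • ((levi i j hij.ne * s) • x) := fun x => by
      rw [← scalar_smul, ← hc', ← mul_smul, mul_inv_cancel_left]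
    have hc1 : c = 1 := by
      have h := congrFun (hc'' (e i)) (.inl i)
      rw [mul_smul, mul_smul, hse, levi_smul] at h
      simp only [e, Pi.single_eq_of_ne (show (Sum.inl j : Fin m ⊕ Fin m) ≠ .inl i by simpa using hij.ne'),
        Pi.single_eq_of_ne (show (Sum.inr i : Fin m ⊕ Fin m) ≠ .inl i by simp), zero_smul, add_zero, sub_zero] at h
      rw [show s • (Pi.single (Sum.inl i) 1 : Vc m F) = e i from hse i] at h
      simpa [e] using h.symm
    have h := congrFun (hc'' (Pi.single (.inr k) 1)) (.inl r)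
    rw [hc1, one_smul, mul_smul, mul_smul] at h
    have hLu : (levi i j hij.ne : Sp m F) • (Pi.single (.inr k) 1 : Vc m F) =
        Pi.single (.inr k) 1 - (if k = i then (1 : F) else 0) • Pi.single (.inr j) 1 := by
      rw [levi_smul]
      simp [Pi.single_apply, eq_comm]
    rw [hLu, levi_smul, smul_def s (_ - _), mulVec_sub, mulVec_smul, ← smul_def, ← smul_def] at h
    simp only [Pi.sub_apply, Pi.add_apply, Pi.smul_apply, smul_eq_mul, hfk, hinr, Pi.single_apply,
      Sum.inl.injEq, Sum.inr.injEq, reduceCtorEq, if_false, mul_ite, mul_one, mul_zero, sub_zero] at h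
    rcases eq_or_ne r i with rfl | hri <;> rcases eq_or_ne k r with rfl | hkr <;>
      simp_all <;> first | done | linear_combination h | linear_combination -h | (split_ifs at * <;> simp_all <;> first | done | linear_combination h | linear_combination -h)
  have hjk : ∀ j k, i0 < j → k ≠ i0 → S j k = 0 := fun j k hj hk => by simpa [hk] using hlev i0 j hj i0 k
  have hj0 : ∀ j, i1 < j → S j i0 = 0 := fun j hj => by
    simpa [show i0 ≠ i1 from Fin.ne_of_val_ne (by simp [hi0, hi1])] using hlev i1 j hj i1 i0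
  have h01 : i0 < i1 := Fin.lt_def.2 (by simp [hi0, hi1])
  refine ⟨s, S i0 i0, S i0 i1, hmk.symm, ?_, fun x => ?_⟩
  · have := hlev i0 i1 h01 i0 i0
    rw [if_pos rfl, if_pos rfl, hsymm i1 i0] at this
    linear_combination this
  · funext z
    rcases z with r | r
    · rw [hform]
      have hz : ∀ r, r ≠ i0 → r ≠ i1 → ∀ k, S r k = 0 := by
        intro r h0 h1 k
        have hr0 : i0 < r := Fin.lt_def.2 (Nat.pos_of_ne_zero fun e => h0 (Fin.ext e))
        rcases eq_or_ne k i0 with rfl | hk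
        · refine hj0 r (Fin.lt_def.2 ?_)
          have : (r : ℕ) ≠ 1 := fun e => h1 (Fin.ext e)
          have h0' := Fin.lt_def.1 hr0
          simp [hi0, hi1] at h0' ⊢; omega
        · exact hjk r k hr0 hk
      rcases eq_or_ne r i0 with rfl | h0
      · rw [Finset.sum_eq_add i0 i1 h01.ne (fun k _ hk => by rw [hsymm, hz k hk.1 hk.2, zero_mul])
          (by simp) (by simp)]
        simp [h01.ne]
      rcases eq_or_ne r i1 with rfl | h1
      · rw [Finset.sum_eq_single i0 (fun k _ hk => by rw [hjk i1 k h01 hk, zero_mul]) (by simp)]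
        simp [h01.ne, h01.ne', hsymm i1 i0]
      · rw [Finset.sum_eq_zero fun k _ => by rw [hz r h0 h1, zero_mul]]
        simp [h0, h1]
    · simp [hinr]

/-- A mixed candidate violates `NoFour`. -/
lemma not_noFour (hm : 3 ≤ m) (h2 : (2 : F) = 0) (s : Sp m F) (a b : F) (hb : b ≠ 0)
    (hs : ∀ x : Vc m F, s • x = x + (a * x (.inr ⟨0, by omega⟩) + b * x (.inr ⟨1, by omega⟩)) • Pi.single (.inl ⟨0, by omega⟩) 1 +
        (b * x (.inr ⟨0, by omega⟩)) • Pi.single (.inl ⟨1, by omega⟩) 1) :
    ¬ NoFour (QuotientGroup.mk s : PS m F) := by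
  classical
  haveI : CharP F 2 := CharTwo.of_one_ne_zero_of_two_eq_zero one_ne_zero h2
  intro hD
  set i0 : Fin m := ⟨0, by omega⟩ with hi0
  set i1 : Fin m := ⟨1, by omega⟩ with hi1
  set i2 : Fin m := ⟨2, by omega⟩ with hi2
  have d01 : i0 ≠ i1 := Fin.ne_of_val_ne (by simp [hi0, hi1])
  have d02 : i0 ≠ i2 := Fin.ne_of_val_ne (by simp [hi0, hi2])
  have d12 : i1 ≠ i2 := Fin.ne_of_val_ne (by simp [hi1, hi2])
  let π : Equiv.Perm (Fin m ⊕ Fin m) :=
    Equiv.swap (.inl i0) (.inl i2) * Equiv.swap (.inr i0) (.inr i2) * Equiv.swap (.inl i1) (.inr i1)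
  have πi : ∀ i, i ≠ i0 → i ≠ i1 → i ≠ i2 → π (.inl i) = .inl i ∧ π (.inr i) = .inr i := by
    intro i h0 h1 h2'
    simp [π, Equiv.swap_apply_of_ne_of_ne, h0, h1, h2']
  have π0 : π (.inl i0) = .inl i2 ∧ π (.inr i0) = .inr i2 := by
    simp [π, Equiv.swap_apply_of_ne_of_ne, d01, d02]
  have π1 : π (.inl i1) = .inr i1 ∧ π (.inr i1) = .inl i1 := by
    simp [π, Equiv.swap_apply_of_ne_of_ne, d01.symm, d12]
  have π2 : π (.inl i2) = .inl i0 ∧ π (.inr i2) = .inr i0 := by
    simp [π, Equiv.swap_apply_of_ne_of_ne, d02.symm, d12.symm]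
  have hformπ : ∀ u v : Vc m F, sympForm m F (u ∘ π) (v ∘ π) = sympForm m F u v := by
    intro u v
    rw [form_eq_sum, form_eq_sum]
    refine Fintype.sum_equiv (Equiv.swap i0 i2) _ _ fun i => ?_
    simp only [Function.comp_apply]
    rcases eq_or_ne i i0 with rfl | h0
    · simp [π0]
    rcases eq_or_ne i i1 with rfl | h1
    · rw [π1.1, π1.2, Equiv.swap_apply_of_ne_of_ne d01.symm d12]
      linear_combination (u (.inl i1) * v (.inr i1) - u (.inr i1) * v (.inl i1)) * h2
    rcases eq_or_ne i i2 with rfl | h2'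
    · simp [π2]
    · rw [(πi i h0 h1 h2').1, (πi i h0 h1 h2').2, Equiv.swap_apply_of_ne_of_ne h0 h2']
  have hP : ∀ u : Vc m F, (1 : Matrix (Fin m ⊕ Fin m) (Fin m ⊕ Fin m) F).submatrix π id *ᵥ u = u ∘ π := by
    intro u; funext i; simp [mulVec, dotProduct, Matrix.one_apply]
  let g : Sp m F := ⟨(1 : Matrix (Fin m ⊕ Fin m) (Fin m ⊕ Fin m) F).submatrix π id,
    mem_sp_iff_form.2 fun u v => by rw [hP, hP, hformπ]⟩
  have hg : ∀ u : Vc m F, g • u = u ∘ π := hP
  have hgg : g⁻¹ = g := by
    refine inv_eq_of_mul_eq_one_right (ext_smul fun u => ?_)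
    rw [mul_smul, hg, hg, one_smul]
    funext z
    simp only [Function.comp_apply]
    congr 1
    rcases z with i | i <;> (rcases eq_or_ne i i0 with rfl | h0; · simp [π0, π2]) <;>
      (rcases eq_or_ne i i1 with rfl | h1; · simp [π1]) <;>
      (rcases eq_or_ne i i2 with rfl | h2'; · simp [π0, π2]) <;> simp [πi i h0 h1 h2']
  set y := s * (g * s * g) with hy
  have hsy : ∀ x : Vc m F, y • x = x + (a * x (.inr i2) + b * x (.inl i1)) • Pi.single (.inl i2) 1 +
      (b * x (.inr i2)) • Pi.single (.inr i1) 1 +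
      (a * x (.inr i0) + b * x (.inr i1) + b * b * x (.inr i2)) • Pi.single (.inl i0) 1 +
      (b * x (.inr i0)) • Pi.single (.inl i1) 1 := by
    intro x
    have h1 : (g * s * g) • x = x + (a * x (.inr i2) + b * x (.inl i1)) • Pi.single (.inl i2) 1 +
        (b * x (.inr i2)) • Pi.single (.inr i1) 1 := by
      rw [mul_smul, mul_smul, hg x, hs, hg]
      funext z
      have hinj : ∀ w, π (π w) = w := fun w => by
        have := congrArg (fun h : Sp m F => h • (fun _ => (0 : F) : Vc m F)) hgg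
        rcases w with i | i <;> (rcases eq_or_ne i i0 with rfl | h0; · simp [π0, π2]) <;>
          (rcases eq_or_ne i i1 with rfl | h1; · simp [π1]) <;>
          (rcases eq_or_ne i i2 with rfl | h2'; · simp [π0, π2]) <;> simp [πi i h0 h1 h2']
      simp only [Function.comp_apply, Pi.add_apply, Pi.smul_apply, smul_eq_mul, hinj, π0, π1, Pi.single_apply]
      have e1 : (π z = .inl i0) ↔ z = .inl i2 := by rw [← π2.1, π.apply_eq_iff_eq]
      have e2 : (π z = .inl i1) ↔ z = .inr i1 := by rw [← π1.2, π.apply_eq_iff_eq]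
      simp [e1, e2]
    rw [hy, mul_smul, h1, hs]
    funext z
    simp [Pi.single_apply, d12.symm, d01.symm]
    ring
  have hy2 : ∀ x : Vc m F, (y * y) • x = x + (b * b * x (.inr i2)) • Pi.single (.inl i0) 1 +
      (b * b * x (.inr i0)) • Pi.single (.inl i2) 1 := by
    intro x
    rw [mul_smul, hsy (y • x), hsy x]
    funext z
    simp [Pi.single_apply, d01, d01.symm, d12, d12.symm, d02, d02.symm]
    split_ifs <;> simp_all <;> first
      | linear_combination (a * x (.inr i2) + b * x (.inl i1)) * h2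
      | linear_combination (b * x (.inr i2)) * h2
      | linear_combination (a * x (.inr i0) + b * x (.inr i1) + b * b * x (.inr i2)) * h2
      | linear_combination (b * x (.inr i0)) * h2
      | ring
  have h4 : y ^ 4 = 1 := by
    rw [show y ^ 4 = (y * y) * (y * y) by simp [pow_succ, mul_assoc]]
    refine ext_smul fun x => ?_
    rw [mul_smul, hy2 ((y * y) • x), hy2 x, one_smul]
    funext z
    simp [Pi.single_apply, d02, d02.symm]
    split_ifs <;> simp_all <;> first
      | linear_combination (b * b * x (.inr i2)) * h2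
      | linear_combination (b * b * x (.inr i0)) * h2
  have key := hD h2 (QuotientGroup.mk g) (by
    rw [← QuotientGroup.mk_inv, ← QuotientGroup.mk_mul, ← QuotientGroup.mk_mul, ← QuotientGroup.mk_mul,
      ← QuotientGroup.mk_pow, hgg, ← hy, h4, QuotientGroup.mk_one])
  rw [← QuotientGroup.mk_inv, ← QuotientGroup.mk_mul, ← QuotientGroup.mk_mul, ← QuotientGroup.mk_mul,
    ← QuotientGroup.mk_pow, hgg, ← hy, pow_two] at key
  have h := congrFun (congrArg (fun t : Sp m F => t • (Pi.single (.inr i0) 1 : Vc m F)) (eq_one_of_mk (by omega) h2 key)) (.inl i2)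
  simp [hy2, Pi.single_apply, d02, d02.symm, hb] at h

lemma noFour_T (hm : 2 ≤ m) {v : Vc m F} {c : F} (hv : v ≠ 0) (hc : c ≠ 0) : NoFour (T v c) := by
  intro h2
  haveI : CharP F 2 := CharTwo.of_one_ne_zero_of_two_eq_zero one_ne_zero h2
  intro g hg
  obtain ⟨g, rfl⟩ := QuotientGroup.mk_surjective g
  rw [T_conj] at hg ⊢
  set w := g • v with hw
  by_cases hb : sympForm m F v w = 0
  · have hw0 : w ≠ 0 := fun e => hv (MulAction.injective g (show g • v = g • (0 : Vc m F) by rw [← hw, e, smul_def, mulVec_zero]))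
    rw [pow_two, ← mul_assoc, mul_assoc (T v c), ← ((commute_T_iff hm hv hw0 hc hc).2 hb).eq, ← mul_assoc, T_add,
      mul_assoc, T_add, CharTwo.add_self_eq_zero, T_zero, T_zero, one_mul]
  · exfalso
    clear_value w
    rw [T, T, ← QuotientGroup.mk_mul, ← QuotientGroup.mk_pow] at hg
    have e := eq_one_of_mk (by omega) h2 hg
    set X := transv v c * transv w c
    set γ := c * sympForm m F v w with hγ
    have hwv : sympForm m F w v = sympForm m F v w := by rw [form_swap v w, CharTwo.neg_eq]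
    have hX : ∀ p r : F, X • (p • v + r • w) = ((1 + γ ^ 2) * p + γ * r) • v + (γ * p + r) • w := by
      intro p r
      rw [mul_smul, transv_smul, transv_smul]
      simp only [form_add_left, form_smul_left, form_self, hwv, mul_zero, add_zero]
      rw [hγ]
      module
    have h1 := congrArg (fun t : Sp m F => t • ((1 : F) • v + (0 : F) • w)) e
    simp only [pow_succ, pow_zero, one_mul, mul_smul, hX, one_smul (Sp m F)] at h1
    have h3 := congrArg (fun u => sympForm m F v u) h1
    simp only [form_add_right, form_smul_right, form_self] at h3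
    have h4 : γ ^ 7 * sympForm m F v w = 0 := by
      linear_combination h3 - (3 * γ ^ 5 + 5 * γ ^ 3 + 2 * γ) * sympForm m F v w * h2
    exact (mul_ne_zero (pow_ne_zero 7 (mul_ne_zero hc hb)) hb) h4

/-- A transvection is central in some Sylow subgroup. -/
theorem central_T (hm : 2 ≤ m) (p : ℕ) [Fact p.Prime] [CharP F p] {v : Vc m F} {c : F} (hv : v ≠ 0) (hc : c ≠ 0) :
    IsCentralSylow p (T v c) := by
  classical
  obtain ⟨S', hS'⟩ := (isPGroup_unitri (F := F) (m := m) (by omega) p).exists_le_sylow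
  let S₀ : Sylow p (PS m F) := S'.mapSurjective
    (QuotientGroup.mk'_surjective (Subgroup.center (Sp m F)))
  have hS₀ : ∀ s ∈ unitri m F, (QuotientGroup.mk s : PS m F) ∈ S₀ := fun s hs => ⟨s, hS' hs, rfl⟩
  have hdvd : p ∣ Nat.card (Vc m F) := by
    obtain ⟨k, -, hk⟩ := FiniteField.card F p
    rw [Nat.card_eq_fintype_card, Fintype.card_fun, hk]
    refine dvd_pow (dvd_pow_self p k.ne_zero) ?_
    simp only [Fintype.card_sum, Fintype.card_fin]
    omega
  have hfix : (0 : Vc m F) ∈ MulAction.fixedPoints (↥(S' : Subgroup (Sp m F))) (Vc m F) := fun s => by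
    show ((s : Sp m F)) • (0 : Vc m F) = 0
    rw [smul_def, mulVec_zero]
  obtain ⟨v₀, hv₀, hne0⟩ := S'.2.exists_fixed_point_of_prime_dvd_card_of_fixed_point (Vc m F) hdvd hfix
  have hv0 : v₀ ≠ 0 := hne0.symm
  have hcomm : ∀ y ∈ S₀, Commute (T v₀ c) y := by
    rintro _ ⟨s, hs, rfl⟩
    have e : (s : Sp m F) • v₀ = v₀ := hv₀ ⟨s, hs⟩
    have := T_conj s v₀ c
    rw [e, mul_inv_eq_iff_eq_mul] at this
    exact this.symm
  have hmemS : T v₀ c ∈ S₀ := by
    have hS := S₀.2
    have hpg : IsPGroup p (Subgroup.zpowers (T v₀ c)) := by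
      rintro ⟨z, k, rfl⟩
      refine ⟨1, Subtype.ext ?_⟩
      show ((T v₀ c) ^ k) ^ p ^ 1 = 1
      have hp0 : ∀ n : ℕ, (T v₀ c) ^ n = T v₀ ((n : F) * c) := by
        intro n
        induction n with
        | zero => rw [pow_zero, Nat.cast_zero, zero_mul, T_zero]
        | succ n ih => rw [pow_succ, ih, T_add, Nat.cast_succ, add_mul, one_mul]
      rw [pow_one, ← zpow_natCast, ← _root_.zpow_mul, mul_comm, _root_.zpow_mul, zpow_natCast, hp0,
        CharP.cast_eq_zero, zero_mul, T_zero, _root_.one_zpow]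
    have hle : Subgroup.zpowers (T v₀ c) ≤ Subgroup.normalizer ((S₀ : Subgroup (PS m F)) : Set (PS m F)) := by
      rw [Subgroup.zpowers_le, Subgroup.mem_normalizer_iff_map_conj_eq]
      ext h
      simp only [Subgroup.mem_map]
      constructor
      · rintro ⟨z, hz, rfl⟩
        show T v₀ c * z * (T v₀ c)⁻¹ ∈ _
        rwa [(hcomm z hz).eq, mul_inv_cancel_right]
      · intro hh
        refine ⟨h, hh, ?_⟩
        show T v₀ c * h * (T v₀ c)⁻¹ = h
        rw [(hcomm h hh).eq, mul_inv_cancel_right]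
    have hsup := hpg.to_sup_of_normal_right' hS hle
    exact (S₀.3 hsup le_sup_right).le ((le_sup_left : Subgroup.zpowers (T v₀ c) ≤ _) (Subgroup.mem_zpowers _))
  have h₀ : IsCentralSylow p (T v₀ c) := by
    refine ⟨fun h => ?_, S₀, hmemS, hcomm⟩
    rcases (T_eq_one_iff hm).1 h with h | h
    · exact hv0 h
    · exact hc h
  obtain ⟨g, hg⟩ := exists_smul_eq hv0 hv
  have := centralSylow_map p (MulAut.conj (QuotientGroup.mk g : PS m F)) h₀
  rwa [MulAut.conj_apply, T_conj, hg] at this

/-- The normal form of a central element of a Sylow subgroup. -/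
theorem central_form (hm : 2 ≤ m) (p : ℕ) [Fact p.Prime] [CharP F p] {x : PS m F} (hx : IsCentralSylow p x) :
    ∃ (g s : Sp m F) (a b : F), x = QuotientGroup.mk g * QuotientGroup.mk s * (QuotientGroup.mk g)⁻¹ ∧ 2 * b = 0 ∧
      ∀ z : Vc m F, s • z = z + (a * z (.inr ⟨0, by omega⟩) + b * z (.inr ⟨1, by omega⟩)) • Pi.single (.inl ⟨0, by omega⟩) 1 +
        (b * z (.inr ⟨0, by omega⟩)) • Pi.single (.inl ⟨1, by omega⟩) 1 := by
  classical
  obtain ⟨-, S, hxS, hc⟩ := hx
  obtain ⟨S', hS'⟩ := (isPGroup_unitri (F := F) (m := m) (by omega) p).exists_le_sylow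
  let S₀ : Sylow p (PS m F) := S'.mapSurjective
    (QuotientGroup.mk'_surjective (Subgroup.center (Sp m F)))
  have hS₀ : ∀ s ∈ unitri m F, (QuotientGroup.mk s : PS m F) ∈ S₀ := fun s hs => ⟨s, hS' hs, rfl⟩
  obtain ⟨g, hg⟩ := MulAction.exists_smul_eq (PS m F) S₀ S
  subst hg
  rw [Sylow.smul_def] at hxS
  set x' := g⁻¹ * x * g with hx'
  have hc' : ∀ z ∈ S₀, Commute x' z := fun z hz => by
    have h' : Commute x (g * z * g⁻¹) := hc _ ⟨z, hz, rfl⟩
    have := h'.map (MulAut.conj g⁻¹)
    simpa [hx', mul_assoc] using this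
  obtain ⟨s, a, b, hs', h2b, hs⟩ := centralizer_unitri hm x'
    (fun v hv => hc' _ (hS₀ _ (transv_mem_unitri v hv 1))) (fun i j h => hc' _ (hS₀ _ (levi_mem_unitri h)))
  obtain ⟨g, rfl⟩ := QuotientGroup.mk_surjective g
  exact ⟨g, s, a, b, by rw [← hs', hx']; group, h2b, hs⟩

/-- Transvections among the elements of `PSp`. -/
theorem isTr_iff (hm : 2 ≤ m) (hne : 3 ≤ m ∨ (2 : F) ≠ 0) (p : ℕ) [Fact p.Prime] [CharP F p] (x : PS m F) :
    IsTr x ↔ IsCentralSylow p x ∧ NoFour x := by
  classical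
  obtain ⟨S', hS'⟩ := (isPGroup_unitri (F := F) (m := m) (by omega) p).exists_le_sylow
  let S₀ : Sylow p (PS m F) := S'.mapSurjective
    (QuotientGroup.mk'_surjective (Subgroup.center (Sp m F)))
  have hS₀ : ∀ s ∈ unitri m F, (QuotientGroup.mk s : PS m F) ∈ S₀ := fun s hs => ⟨s, hS' hs, rfl⟩
  constructor
  · rintro ⟨v, c, hv, hc, rfl⟩
    exact ⟨central_T hm p hv hc, noFour_T hm hv hc⟩
  · rintro ⟨hx, hD⟩
    obtain ⟨g, s, a, b, hxs, h2b, hs⟩ := central_form hm p hx
    have hD' : NoFour (QuotientGroup.mk s : PS m F) := by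
      have := noFour_map (MulAut.conj (QuotientGroup.mk g : PS m F))⁻¹ hD
      rwa [hxs, ← MulAut.conj_apply, MulAut.inv_apply_self] at this
    have hb : b = 0 := by
      by_contra hb
      have h2 : (2 : F) = 0 := (mul_eq_zero.1 h2b).resolve_right hb
      exact not_noFour (hne.resolve_right fun h => h h2) h2 s a b hb hs hD'
    have hst : s = transv (Pi.single (.inl ⟨0, by omega⟩) 1) a := by
      refine ext_smul fun z => ?_
      rw [hs, hb, transv_smul, form_single_inl_right]
      simp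
    rw [hst, show (QuotientGroup.mk (transv (Pi.single (.inl ⟨0, by omega⟩) 1) a) : PS m F) =
      T (Pi.single (.inl ⟨0, by omega⟩) 1) a from rfl, T_conj] at hxs
    refine ⟨_, a, fun h => ?_, fun h => hx.1 (by rw [hxs, h, T_zero]), hxs⟩
    exact hx.1 (by rw [hxs, h, (T_eq_one_iff hm).2 (Or.inl rfl)])

/-- Automorphisms permute the classes of transvections. -/
theorem isTr_map (hm : 2 ≤ m) (hne : 3 ≤ m ∨ (2 : F) ≠ 0) (α : MulAut (PS m F)) {x : PS m F} (h : IsTr x) :
    IsTr (α x) := by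
  obtain ⟨p, hp⟩ := CharP.exists F
  obtain ⟨k, hpp, -⟩ := FiniteField.card F p
  haveI := Fact.mk hpp
  obtain ⟨h1, h2⟩ := (isTr_iff hm hne p x).1 h
  exact (isTr_iff hm hne p _).2 ⟨centralSylow_map p α h1, noFour_map α h2⟩

end Cfsg.Agent.AutPSpTransv
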