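import Mathlib
import Cfsg.Prelude.Def_Classical
import Cfsg.Prelude.Def_ClassicalGeometry
import Cfsg.Agent.Lib.OrthUnitaryHerm

/-!
Quadratic spaces over finite fields, in every characteristic: isometry groups, reflections, Siegel
transformations, transitivity on non-zero singular vectors and hyperbolic pairs, and the orders of
the isometry groups of the standard forms.
-/

set_option autoImplicit false

namespace Cfsg.Agent.OrthUnitaryQuad

open QuadraticMap
open scoped Matrix

variable {F V W : Type*} [Field F] [AddCommGroup V] [Module F V] [AddCommGroup W] [Module F W]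

/-- The isometry group of a quadratic form, as linear equivalences. -/
def orth (Q : QuadraticForm F V) : Subgroup (V ≃ₗ[F] V) where
  carrier := {g | ∀ x, Q (g x) = Q x}
  mul_mem' {a b} ha hb := fun x => (ha (b x)).trans (hb x)
  one_mem' := fun _ => rfl
  inv_mem' {a} ha := fun x => by
    have h := ha (a.symm x)
    rw [LinearEquiv.apply_symm_apply] at h
    exact h.symm

theorem mem_orth {Q : QuadraticForm F V} {g : V ≃ₗ[F] V} : g ∈ orth Q ↔ ∀ x, Q (g x) = Q x :=
  Iff.rfl

theorem map_orth {Q : QuadraticForm F V} (g : orth Q) (x : V) : Q (g.1 x) = Q x := g.2 x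

theorem polar_orth {Q : QuadraticForm F V} (g : orth Q) (x y : V) :
    polar Q (g.1 x) (g.1 y) = polar Q x y := by
  simp [polar, ← map_add, map_orth g]

theorem polar_self_mul (Q : QuadraticForm F V) (x : V) : polar Q x x = 2 * Q x := by
  rw [QuadraticMap.polar_self]; simp

theorem finite_linearEquiv [Finite V] : Finite (V ≃ₗ[F] V) :=
  Finite.of_injective (fun g => (g : V → V)) DFunLike.coe_injective

theorem finite_orth [Finite V] (Q : QuadraticForm F V) : Finite (orth Q) := by
  have := finite_linearEquiv (F := F) (V := V)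
  exact inferInstance

/-- Every radical vector that is singular is zero. -/
def IsReg (Q : QuadraticForm F V) : Prop :=
  ∀ x, (∀ y, polar Q x y = 0) → Q x = 0 → x = 0

theorem isReg_of_anisotropic {Q : QuadraticForm F V} (h : ∀ x, Q x = 0 → x = 0) : IsReg Q :=
  fun x _ hx => h x hx

theorem exists_polar_ne_zero {Q : QuadraticForm F V} (hQ : IsReg Q) {u : V} (hu : Q u = 0)
    (h0 : u ≠ 0) : ∃ z, polar Q u z ≠ 0 := by
  by_contra h
  push Not at h
  exact h0 (hQ u h hu)

/-! ### Reflections and Siegel transformations -/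

/-- The reflection (or orthogonal transvection) of a non-singular vector, as a linear map. -/
noncomputable def reflMap (Q : QuadraticForm F V) (v : V) : V →ₗ[F] V :=
  LinearMap.id - (((Q v)⁻¹ • polarBilin Q v) : V →ₗ[F] F).smulRight v

theorem reflMap_apply (Q : QuadraticForm F V) (v x : V) :
    reflMap Q v x = x - ((Q v)⁻¹ * polar Q v x) • v := by
  simp [reflMap]

theorem reflMap_involutive {Q : QuadraticForm F V} {v : V} (hv : Q v ≠ 0) :
    Function.Involutive (reflMap Q v) := by
  intro x
  simp only [reflMap_apply, polar_sub_right, polar_smul_right, smul_eq_mul, polar_self_mul]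
  match_scalars <;> field_simp <;> ring

/-- The reflection as an isometry. -/
noncomputable def refl (Q : QuadraticForm F V) (v : V) (hv : Q v ≠ 0) : orth Q :=
  ⟨LinearEquiv.ofInvolutive (reflMap Q v) (reflMap_involutive hv), fun x => by
    change Q (reflMap Q v x) = Q x
    rw [reflMap_apply, sub_eq_add_neg, ← neg_smul, QuadraticMap.map_add (⇑Q), polar_smul_right,
      QuadraticMap.map_smul, polar_comm Q x v]
    simp only [smul_eq_mul]
    field_simp
    ring⟩

theorem refl_apply (Q : QuadraticForm F V) (v : V) (hv : Q v ≠ 0) (x : V) :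
    (refl Q v hv).1 x = x - ((Q v)⁻¹ * polar Q v x) • v :=
  reflMap_apply Q v x

/-- The reflection in `u - v` maps `u` to `v` when `Q u = Q v`. -/
theorem refl_sub_apply {Q : QuadraticForm F V} {u v : V} (huv : Q u = Q v) (hne : Q (u - v) ≠ 0) :
    (refl Q (u - v) hne).1 u = v := by
  have hp : polar Q (u - v) u = Q (u - v) := by
    rw [sub_eq_add_neg u v, QuadraticMap.map_add (⇑Q), polar_add_left, polar_neg_left,
      QuadraticMap.map_neg, polar_neg_right, polar_self_mul, polar_comm Q v u, huv]
    ring
  rw [refl_apply, hp, inv_mul_cancel₀ hne, one_smul, sub_sub_cancel]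

/-- The Siegel transformation of a singular vector `u` and `w ⊥ u`, as a linear map. -/
noncomputable def siegelMap (Q : QuadraticForm F V) (u w : V) : V →ₗ[F] V :=
  LinearMap.id + ((polarBilin Q u : V →ₗ[F] F).smulRight w)
    - (((polarBilin Q w : V →ₗ[F] F) + Q w • (polarBilin Q u : V →ₗ[F] F)).smulRight u)

theorem siegelMap_apply (Q : QuadraticForm F V) (u w x : V) :
    siegelMap Q u w x
      = x + polar Q u x • w - (polar Q w x + Q w * polar Q u x) • u := by
  simp [siegelMap, add_smul]

theorem siegelMap_neg {Q : QuadraticForm F V} {u w : V} (hu : Q u = 0) (hw : polar Q u w = 0)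
    (x : V) : siegelMap Q u (-w) (siegelMap Q u w x) = x := by
  simp only [siegelMap_apply, polar_add_right, polar_sub_right, polar_smul_right, smul_eq_mul,
    polar_neg_left, QuadraticMap.map_neg, polar_self_mul, hu, hw, polar_comm Q w u]
  match_scalars <;> ring

/-- The Siegel transformation as an isometry. -/
noncomputable def siegel (Q : QuadraticForm F V) (u w : V) (hu : Q u = 0) (hw : polar Q u w = 0) :
    orth Q :=
  ⟨LinearEquiv.ofLinearMap (siegelMap Q u w) (siegelMap Q u (-w))
      (LinearMap.ext fun x => by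
        have h := siegelMap_neg (w := -w) hu (by rw [polar_neg_right, hw, neg_zero]) x
        rw [neg_neg] at h
        exact h)
      (LinearMap.ext fun x => siegelMap_neg hu hw x), fun x => by
    change Q (siegelMap Q u w x) = Q x
    rw [siegelMap_apply, sub_eq_add_neg, ← neg_smul]
    rw [QuadraticMap.map_add (⇑Q), QuadraticMap.map_add (⇑Q) x]
    simp only [polar_add_left, polar_smul_right, polar_smul_left, QuadraticMap.map_smul,
      smul_eq_mul, hu]
    rw [polar_comm Q w u, hw, polar_comm Q x u, polar_comm Q x w]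
    ring⟩

theorem siegel_apply (Q : QuadraticForm F V) (u w : V) (hu : Q u = 0) (hw : polar Q u w = 0)
    (x : V) :
    (siegel Q u w hu hw).1 x = x + polar Q u x • w - (polar Q w x + Q w * polar Q u x) • u :=
  siegelMap_apply Q u w x

/-- Transitivity on non-zero singular vectors. -/
theorem exists_map_singular {Q : QuadraticForm F V} (hQ : IsReg Q) {u v : V} (hu : Q u = 0)
    (hv : Q v = 0) (hu0 : u ≠ 0) (hv0 : v ≠ 0) : ∃ g : orth Q, g.1 u = v := by
  have aux : ∀ {a b : V}, Q a = 0 → Q b = 0 → polar Q a b ≠ 0 → ∃ g : orth Q, g.1 a = b := by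
    intro a b ha hb hab
    have hne : Q (a - b) ≠ 0 := by
      rw [sub_eq_add_neg, QuadraticMap.map_add (⇑Q), QuadraticMap.map_neg, ha, hb, polar_neg_right]
      simpa using hab
    exact ⟨refl Q (a - b) hne, refl_sub_apply (by rw [ha, hb]) hne⟩
  by_cases huv : polar Q u v = 0
  · obtain ⟨z₁, h₁⟩ := exists_polar_ne_zero hQ hu hu0
    obtain ⟨z₂, h₂⟩ := exists_polar_ne_zero hQ hv hv0
    obtain ⟨z, hzu, hzv⟩ : ∃ z, polar Q u z ≠ 0 ∧ polar Q v z ≠ 0 := by
      by_cases ha : polar Q v z₁ = 0
      · by_cases hb : polar Q u z₂ = 0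
        · exact ⟨z₁ + z₂, by rw [polar_add_right, hb, add_zero]; exact h₁,
            by rw [polar_add_right, ha, zero_add]; exact h₂⟩
        · exact ⟨z₂, hb, h₂⟩
      · exact ⟨z₁, h₁, ha⟩
    set w := z + (-(Q z / polar Q u z)) • u with hw
    have hQw : Q w = 0 := by
      rw [hw, QuadraticMap.map_add (⇑Q), QuadraticMap.map_smul, hu, polar_smul_right, polar_comm Q z u]
      simp only [smul_eq_mul]
      field_simp
      ring
    have huw : polar Q u w ≠ 0 := by
      rw [hw, polar_add_right, polar_smul_right, polar_self_mul, hu]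
      simpa using hzu
    have hvw : polar Q w v ≠ 0 := by
      rw [polar_comm, hw, polar_add_right, polar_smul_right, polar_comm Q v u, huv]
      simpa using hzv
    obtain ⟨g₁, hg₁⟩ := aux hu hQw huw
    obtain ⟨g₂, hg₂⟩ := aux hQw hv hvw
    exact ⟨g₂ * g₁, by change g₂.1 (g₁.1 u) = v; rw [hg₁, hg₂]⟩
  · exact aux hu hv huv

/-- The stabiliser of a singular vector is transitive on its hyperbolic partners. -/
theorem exists_map_partner {Q : QuadraticForm F V} {u f v : V} (hu : Q u = 0) (hf : Q f = 0)
    (hv : Q v = 0) (huf : polar Q u f = 1) (huv : polar Q u v = 1) :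
    ∃ g : orth Q, g.1 u = u ∧ g.1 f = v := by
  have hw : polar Q u (v - f) = 0 := by rw [polar_sub_right, huf, huv, sub_self]
  refine ⟨siegel Q u (v - f) hu hw, ?_, ?_⟩
  · rw [siegel_apply, polar_self_mul, hu, mul_zero, zero_smul, mul_zero, polar_comm Q (v - f) u,
      hw, add_zero, add_zero, zero_smul, sub_zero]
  · have hz : polar Q (v - f) f + Q (v - f) = 0 := by
      have h := QuadraticMap.map_add (⇑Q) (v - f) f
      rw [sub_add_cancel, hv, hf] at h
      linear_combination -h
    rw [siegel_apply, huf, mul_one, hz, zero_smul, one_smul, sub_zero, add_sub_cancel]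

/-! ### Isometric spaces -/

/-- An isometry induces an isomorphism of isometry groups. -/
def orthCongr {Q : QuadraticForm F V} {Q' : QuadraticForm F W} (e : V ≃ₗ[F] W)
    (h : ∀ x, Q' (e x) = Q x) : orth Q ≃* orth Q' where
  toFun g := ⟨e.symm.trans (g.1.trans e), fun y => by
    rw [LinearEquiv.trans_apply, LinearEquiv.trans_apply, h, map_orth g]
    conv_rhs => rw [← e.apply_symm_apply y, h]⟩
  invFun g := ⟨e.trans (g.1.trans e.symm), fun y => by
    rw [LinearEquiv.trans_apply, LinearEquiv.trans_apply, ← h, LinearEquiv.apply_symm_apply,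
      map_orth g, h]⟩
  left_inv g := by ext x; simp
  right_inv g := by ext x; simp
  map_mul' a b := by ext x; simp

theorem card_zero_congr {Q : QuadraticForm F V} {Q' : QuadraticForm F W} (e : V ≃ₗ[F] W)
    (h : ∀ x, Q' (e x) = Q x) :
    Nat.card {x // Q x = 0} = Nat.card {y // Q' y = 0} :=
  Nat.card_congr (e.toEquiv.subtypeEquiv fun x => by
    show Q x = 0 ↔ Q' (e x) = 0
    rw [h])

theorem isReg_congr {Q : QuadraticForm F V} {Q' : QuadraticForm F W} (e : V ≃ₗ[F] W)
    (h : ∀ x, Q' (e x) = Q x) (hQ : IsReg Q) : IsReg Q' := by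
  intro y hy hy0
  have hp : ∀ a b, polar Q' (e a) (e b) = polar Q a b := fun a b => by simp [polar, ← map_add, h]
  have := hQ (e.symm y) (fun x => by rw [← hp, LinearEquiv.apply_symm_apply]; exact hy _)
    (by rw [← h, LinearEquiv.apply_symm_apply]; exact hy0)
  simpa using congrArg e this

/-! ### Adding a hyperbolic plane -/

/-- The hyperbolic plane `(a, b) ↦ a * b`. -/
def hypPlane (F : Type*) [Field F] : QuadraticForm F (F × F) :=
  linMulLin (LinearMap.fst F F F) (LinearMap.snd F F F)

/-- `Q` plus a hyperbolic plane. -/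
def hypExt (Q : QuadraticForm F W) : QuadraticForm F ((F × F) × W) := (hypPlane F).prod Q

theorem hypExt_apply (Q : QuadraticForm F W) (a b : F) (x : W) :
    hypExt Q ((a, b), x) = a * b + Q x := by
  simp [hypExt, hypPlane, QuadraticMap.prod]

theorem polar_hypExt (Q : QuadraticForm F W) (a b c d : F) (x y : W) :
    polar (hypExt Q) ((a, b), x) ((c, d), y) = a * d + c * b + polar Q x y := by
  simp only [polar, Prod.mk_add_mk, hypExt_apply]
  ring

theorem isReg_hypExt {Q : QuadraticForm F W} (hQ : IsReg Q) : IsReg (hypExt Q) := by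
  rintro ⟨⟨a, b⟩, x⟩ h h0
  have ha : a = 0 := by
    simpa [polar_hypExt, polar_zero_right] using h ((0, 1), 0)
  have hb : b = 0 := by
    simpa [polar_hypExt, polar_zero_right] using h ((1, 0), 0)
  subst ha hb
  have hx : x = 0 := hQ x (fun y => by simpa [polar_hypExt] using h ((0, 0), y))
    (by simpa [hypExt_apply] using h0)
  subst hx
  rfl

section Count

variable [Fintype F] [Finite W]

theorem card_zero_hypExt (Q : QuadraticForm F W) :
    (Nat.card {v // hypExt Q v = 0} : ℤ)
      = (Fintype.card F - 1) * Nat.card W + Fintype.card F * Nat.card {x // Q x = 0} := by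
  classical
  cases nonempty_fintype W
  have e : {v // hypExt Q v = 0} ≃
      (Σ a : F, {p : F × W // a * p.1 + Q p.2 = 0}) :=
    { toFun := fun v => ⟨v.1.1.1, (v.1.1.2, v.1.2), by
        have h := v.2
        rw [← Prod.mk.eta (p := v.1), ← Prod.mk.eta (p := v.1.1), hypExt_apply] at h
        exact h⟩
      invFun := fun p => ⟨((p.1, p.2.1.1), p.2.1.2), by rw [hypExt_apply]; exact p.2.2⟩
      left_inv := fun v => rfl
      right_inv := fun p => rfl }
  rw [Nat.card_congr e, Nat.card_sigma, ← Finset.add_sum_erase _ _ (Finset.mem_univ (0 : F))]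
  have h0 : Nat.card {p : F × W // (0 : F) * p.1 + Q p.2 = 0}
      = Fintype.card F * Nat.card {x // Q x = 0} := by
    rw [← Nat.card_eq_fintype_card, ← Nat.card_prod]
    exact Nat.card_congr
      { toFun := fun p => (p.1.1, ⟨p.1.2, by simpa using p.2⟩)
        invFun := fun p => ⟨(p.1, p.2.1), by simp [p.2.2]⟩
        left_inv := fun p => rfl
        right_inv := fun p => rfl }
  have h1 : ∀ a ∈ (Finset.univ.erase (0 : F)),
      Nat.card {p : F × W // a * p.1 + Q p.2 = 0} = Nat.card W := by
    intro a ha
    have ha0 : a ≠ 0 := Finset.ne_of_mem_erase ha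
    refine Nat.card_congr
      { toFun := fun p => p.1.2
        invFun := fun x => ⟨(-Q x / a, x), by field_simp; ring⟩
        left_inv := fun p => ?_
        right_inv := fun x => rfl }
    apply Subtype.ext
    refine Prod.ext ?_ rfl
    have h := p.2
    rw [div_eq_iff ha0]
    linear_combination -h
  rw [h0, Finset.sum_congr rfl h1, Finset.sum_const, Finset.card_erase_of_mem (Finset.mem_univ _),
    Finset.card_univ, smul_eq_mul]
  push_cast [Nat.cast_sub Fintype.card_pos]
  ring

theorem card_orth_hypExt {Q : QuadraticForm F W} (hQ : IsReg Q) :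
    Nat.card (orth (hypExt Q))
      = (Nat.card {v // hypExt Q v = 0} - 1) * Nat.card W * Nat.card (orth Q) := by
  classical
  have := finite_orth (hypExt Q)
  have hreg := isReg_hypExt hQ
  set e : (F × F) × W := ((1, 0), 0) with he
  set f : (F × F) × W := ((0, 1), 0) with hf
  have he0 : hypExt Q e = 0 := by simp [he, hypExt_apply]
  have hf0 : hypExt Q f = 0 := by simp [hf, hypExt_apply]
  have hef : polar (hypExt Q) e f = 1 := by simp [he, hf, polar_hypExt, polar_zero_right]
  have hene : e ≠ 0 := by simp [he, Prod.ext_iff]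
  -- first step: orbit of `e`
  let S := {v : (F × F) × W // hypExt Q v = 0 ∧ v ≠ 0}
  have h1 : Nat.card (orth (hypExt Q))
      = Nat.card S * Nat.card {g : orth (hypExt Q) // g.1 e = e} := by
    rw [OrthUnitaryHerm.card_eq_card_mul_card_fibre
      (fun g : orth (hypExt Q) => (⟨g.1 e, by rw [map_orth g, he0],
        fun h => hene (g.1.map_eq_zero_iff.1 h)⟩ : S)) ⟨e, he0, hene⟩ ?_]
    · congr 1
      exact Nat.card_congr (Equiv.subtypeEquivRight fun g => Subtype.ext_iff)
    · intro s
      obtain ⟨k, hk⟩ := exists_map_singular hreg he0 s.2.1 hene s.2.2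
      refine ⟨k, fun g => ?_⟩
      simp only [Subtype.ext_iff, Subgroup.coe_mul, LinearEquiv.mul_apply]
      rw [← hk]
      exact k.1.injective.eq_iff
  have hS : Nat.card S = Nat.card {v // hypExt Q v = 0} - 1 := by
    cases nonempty_fintype W
    rw [Nat.card_eq_fintype_card, Nat.card_eq_fintype_card, Fintype.card_subtype,
      Fintype.card_subtype, ← Finset.filter_filter, Finset.filter_ne',
      Finset.card_erase_of_mem (by simp)]
  -- second step: hyperbolic partners of `e`
  let K : Subgroup (orth (hypExt Q)) :=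
    { carrier := {g | g.1 e = e}
      mul_mem' := fun {a b} ha hb => by
        show a.1 (b.1 e) = e
        rw [show b.1 e = e from hb, show a.1 e = e from ha]
      one_mem' := rfl
      inv_mem' := fun {a} ha => by
        show a.1.symm e = e
        rw [LinearEquiv.symm_apply_eq]; exact (ha : a.1 e = e).symm }
  let T := {v : (F × F) × W // hypExt Q v = 0 ∧ polar (hypExt Q) e v = 1}
  have h2 : Nat.card {g : orth (hypExt Q) // g.1 e = e}
      = Nat.card T * Nat.card {g : K // g.1.1 f = f} := by
    change Nat.card K = _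
    rw [OrthUnitaryHerm.card_eq_card_mul_card_fibre
      (fun g : K => (⟨g.1.1 f, by rw [map_orth g.1, hf0], by
        have h := polar_orth g.1 e f
        rw [show g.1.1 e = e from g.2] at h
        rw [h, hef]⟩ : T)) ⟨f, hf0, hef⟩ ?_]
    · congr 1
      exact Nat.card_congr (Equiv.subtypeEquivRight fun g => Subtype.ext_iff)
    · intro s
      obtain ⟨k, hke, hkf⟩ := exists_map_partner he0 hf0 s.2.1 hef s.2.2
      refine ⟨⟨k, hke⟩, fun g => ?_⟩
      simp only [Subtype.ext_iff, Subgroup.coe_mul, LinearEquiv.mul_apply]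
      rw [← hkf]
      exact k.1.injective.eq_iff
  have hT : Nat.card T = Nat.card W := by
    refine Nat.card_congr
      { toFun := fun v => v.1.2
        invFun := fun x => ⟨((-Q x, 1), x), by simp [hypExt_apply], by
          simp [he, polar_hypExt, polar_zero_left]⟩
        left_inv := fun v => ?_
        right_inv := fun x => rfl }
    obtain ⟨⟨⟨a, b⟩, x⟩, h, h'⟩ := v
    simp only [he, polar_hypExt, polar_zero_left, one_mul, mul_zero, add_zero] at h'
    subst h'
    rw [hypExt_apply, mul_one, ← eq_neg_iff_add_eq_zero] at h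
    subst h
    rfl
  -- third step: the stabiliser of the pair is the isometry group of `Q`
  have key : ∀ g : orth (hypExt Q), g.1 e = e → g.1 f = f → ∀ a b x,
      g.1 ((a, b), x) = ((a, b), (g.1 ((0, 0), x)).2) := by
    intro g hge hgf a b x
    have hsplit : ((a, b), x) = a • e + b • f + (((0, 0), x) : (F × F) × W) := by
      simp [he, hf, Prod.ext_iff]
    have p1 := polar_orth g ((0, 0), x) e
    have p2 := polar_orth g ((0, 0), x) f
    rw [hge] at p1
    rw [hgf] at p2
    obtain ⟨⟨c, d⟩, y⟩ : ∃ z, z = g.1 ((0, 0), x) := ⟨_, rfl⟩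
    rw [hsplit, map_add, map_add, map_smul, map_smul, hge, hgf]
    set z := g.1 ((0, 0), x) with hz
    obtain ⟨⟨c', d'⟩, y'⟩ := z
    simp only [he, hf, polar_hypExt, polar_zero_right] at p1 p2
    have hd : d' = 0 := by simpa using p1
    have hc : c' = 0 := by simpa using p2
    simp [he, hf, hc, hd, Prod.ext_iff]
  have hfix : ∀ g : orth (hypExt Q), g.1 e = e → g.1 f = f →
      g⁻¹.1 e = e ∧ g⁻¹.1 f = f := by
    intro g hge hgf
    constructor
    · show g.1.symm e = e
      rw [LinearEquiv.symm_apply_eq, hge]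
    · show g.1.symm f = f
      rw [LinearEquiv.symm_apply_eq, hgf]
  have h3 : Nat.card {g : K // g.1.1 f = f} = Nat.card (orth Q) := by
    refine Nat.card_congr
      { toFun := fun g => ⟨LinearEquiv.ofLinearMap
          (LinearMap.snd F (F × F) W ∘ₗ g.1.1.1.toLinearMap ∘ₗ LinearMap.inr F (F × F) W)
          (LinearMap.snd F (F × F) W ∘ₗ (g.1.1⁻¹).1.toLinearMap ∘ₗ LinearMap.inr F (F × F) W)
          (LinearMap.ext fun x => ?_) (LinearMap.ext fun x => ?_), fun x => ?_⟩
        invFun := fun h => ⟨⟨⟨(LinearEquiv.refl F (F × F)).prodCongr h.1, ?_⟩, ?_⟩, ?_⟩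
        left_inv := fun g => ?_
        right_inv := fun h => ?_ }
    · obtain ⟨h1, h2⟩ := hfix g.1.1 g.1.2 g.2
      show (g.1.1.1 ((0 : F × F), ((g.1.1⁻¹).1 ((0 : F × F), x)).2)).2 = x
      have h := key _ h1 h2 0 0 x
      rw [show ((0 : F), (0 : F)) = (0 : F × F) from rfl] at h
      rw [← h]
      exact congrArg Prod.snd (g.1.1.1.apply_symm_apply _)
    · obtain ⟨h1, h2⟩ := hfix g.1.1 g.1.2 g.2
      show ((g.1.1⁻¹).1 ((0 : F × F), (g.1.1.1 ((0 : F × F), x)).2)).2 = x
      have h := key _ g.1.2 g.2 0 0 x
      rw [show ((0 : F), (0 : F)) = (0 : F × F) from rfl] at h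
      rw [← h]
      exact congrArg Prod.snd (g.1.1.1.symm_apply_apply _)
    · show Q (g.1.1.1 ((0 : F × F), x)).2 = Q x
      have h := map_orth g.1.1 ((0, 0), x)
      rw [key _ g.1.2 g.2 0 0 x, hypExt_apply, hypExt_apply] at h
      simpa [Prod.mk_zero_zero] using h
    · rintro ⟨⟨a, b⟩, x⟩
      simp [hypExt_apply, map_orth h]
    · show ((LinearEquiv.refl F (F × F)).prodCongr h.1) e = e
      simp [he]
    · show ((LinearEquiv.refl F (F × F)).prodCongr h.1) f = f
      simp [hf]
    · apply Subtype.ext; apply Subtype.ext; apply Subtype.ext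
      apply LinearEquiv.ext
      rintro ⟨⟨a, b⟩, x⟩
      simp only [LinearEquiv.prodCongr_apply, LinearEquiv.refl_apply]
      rw [key _ g.1.2 g.2 a b x]
      rfl
    · apply Subtype.ext
      apply LinearEquiv.ext
      intro x
      rfl
  rw [h1, h2, h3, hS, hT, mul_assoc]

end Count

/-! ### The standard forms -/

section Std

variable (F)

/-- `Σ xᵢ yᵢ` as a quadratic form. -/
def qfPlus (m : ℕ) : QuadraticForm F (Fin m ⊕ Fin m → F) :=
  ∑ i : Fin m, linMulLin (LinearMap.proj (Sum.inl i)) (LinearMap.proj (Sum.inr i))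

theorem qfPlus_apply (m : ℕ) (v : Fin m ⊕ Fin m → F) : qfPlus F m v = quadFormPlus m F v := by
  simp [qfPlus, quadFormPlus]

variable {F}

/-- `m` hyperbolic planes and a base form. -/
def withBase (m : ℕ) (Q : QuadraticForm F W) : QuadraticForm F ((Fin m ⊕ Fin m → F) × W) :=
  (qfPlus F m).prod Q

theorem withBase_apply (m : ℕ) (Q : QuadraticForm F W) (v : Fin m ⊕ Fin m → F) (x : W) :
    withBase m Q (v, x) = quadFormPlus m F v + Q x := by
  simp [withBase, QuadraticMap.prod, qfPlus_apply]

/-- Splitting off the first hyperbolic plane. -/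
def splitEquiv (m : ℕ) :
    ((F × F) × ((Fin m ⊕ Fin m → F) × W)) ≃ₗ[F] ((Fin (m + 1) ⊕ Fin (m + 1) → F) × W) where
  toFun p := (Sum.elim (Fin.cons p.1.1 (p.2.1 ∘ Sum.inl)) (Fin.cons p.1.2 (p.2.1 ∘ Sum.inr)), p.2.2)
  invFun q := ((q.1 (Sum.inl 0), q.1 (Sum.inr 0)),
    Sum.elim (fun i => q.1 (Sum.inl i.succ)) (fun i => q.1 (Sum.inr i.succ)), q.2)
  map_add' p p' := by
    refine Prod.ext ?_ rfl
    funext i
    rcases i with i | i <;> cases i using Fin.cases <;> simp
  map_smul' c p := by
    refine Prod.ext ?_ rfl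
    funext i
    rcases i with i | i <;> cases i using Fin.cases <;> simp
  left_inv p := by
    refine Prod.ext (by simp) (Prod.ext ?_ rfl)
    funext i
    rcases i with i | i <;> simp
  right_inv q := by
    refine Prod.ext ?_ rfl
    funext i
    rcases i with i | i <;> cases i using Fin.cases <;> simp

theorem splitEquiv_isometry (m : ℕ) (Q : QuadraticForm F W)
    (p : (F × F) × ((Fin m ⊕ Fin m → F) × W)) :
    withBase (m + 1) Q (splitEquiv m p) = hypExt (withBase m Q) p := by
  obtain ⟨⟨a, b⟩, v, x⟩ := p
  simp [splitEquiv, hypExt_apply, withBase_apply, quadFormPlus, Fin.sum_univ_succ, add_assoc]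

theorem isReg_withBase {Q : QuadraticForm F W} (hQ : IsReg Q) (m : ℕ) : IsReg (withBase m Q) := by
  induction m with
  | zero =>
    refine isReg_congr (Q := Q)
      { toFun := fun x => (0, x)
        invFun := fun p => p.2
        map_add' := fun a b => by simp
        map_smul' := fun c a => by simp
        left_inv := fun x => rfl
        right_inv := fun p => Prod.ext (Subsingleton.elim _ _) rfl } ?_ hQ
    intro x
    simp [withBase_apply, quadFormPlus]
  | succ m ih => exact isReg_congr (splitEquiv m) (splitEquiv_isometry m Q) (isReg_hypExt ih)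

variable [Fintype F]

theorem card_withBase_space {d : ℕ} (hW : Nat.card W = Fintype.card F ^ d) (m : ℕ) :
    Nat.card ((Fin m ⊕ Fin m → F) × W) = Fintype.card F ^ (2 * m + d) := by
  rw [Nat.card_prod, Nat.card_fun, hW, Nat.card_eq_fintype_card (α := F), Nat.card_sum,
    Nat.card_fin, ← pow_add]
  ring_nf

/-- Number of zeros. -/
theorem q_mul_card_zero_withBase [Finite W] {d : ℕ} (hW : Nat.card W = Fintype.card F ^ d)
    (Q : QuadraticForm F W) (m : ℕ) :
    (Fintype.card F : ℤ) * Nat.card {v // withBase m Q v = 0}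
      = (Fintype.card F : ℤ) ^ (2 * m + d) + (Fintype.card F : ℤ) ^ m *
          ((Fintype.card F : ℤ) * Nat.card {x // Q x = 0} - (Fintype.card F : ℤ) ^ d) := by
  induction m with
  | zero =>
    have : Nat.card {v // withBase 0 Q v = 0} = Nat.card {x // Q x = 0} :=
      Nat.card_congr
        { toFun := fun v => ⟨v.1.2, by
            have h := v.2
            rw [← Prod.mk.eta (p := v.1), withBase_apply] at h
            simpa [quadFormPlus] using h⟩
          invFun := fun x => ⟨(0, x.1), by simp [withBase_apply, quadFormPlus, x.2]⟩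
          left_inv := fun v => Subtype.ext (Prod.ext (Subsingleton.elim _ _) rfl)
          right_inv := fun x => rfl }
    rw [this]
    ring
  | succ m ih =>
    rw [← card_zero_congr (splitEquiv m) (splitEquiv_isometry m Q), card_zero_hypExt,
      card_withBase_space hW, Nat.cast_pow, mul_add, ih]
    ring

theorem card_orth_withBase_succ [Finite W] {d : ℕ} (hW : Nat.card W = Fintype.card F ^ d)
    {Q : QuadraticForm F W} (hQ : IsReg Q) (m : ℕ) :
    Nat.card (orth (withBase (m + 1) Q))
      = (Nat.card {v // withBase (m + 1) Q v = 0} - 1) * Fintype.card F ^ (2 * m + d)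
        * Nat.card (orth (withBase m Q)) := by
  rw [← Nat.card_congr (orthCongr (splitEquiv m) (splitEquiv_isometry m Q)).toEquiv,
    card_orth_hypExt (isReg_withBase hQ m), card_withBase_space hW,
    card_zero_congr (splitEquiv m) (splitEquiv_isometry m Q)]

theorem card_orth_withBase_zero (Q : QuadraticForm F W) :
    Nat.card (orth (withBase 0 Q)) = Nat.card (orth Q) := by
  refine Nat.card_congr (orthCongr (W := W) (Q' := Q)
    { toFun := fun (p : (Fin 0 ⊕ Fin 0 → F) × W) => p.2
      invFun := fun x => (0, x)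
      map_add' := fun a b => rfl
      map_smul' := fun c a => rfl
      left_inv := fun p => Prod.ext (Subsingleton.elim _ _) rfl
      right_inv := fun x => rfl } ?_).toEquiv
  rintro ⟨v, x⟩
  simp [withBase_apply, quadFormPlus]

end Std

/-! ### The Prelude's isometry groups -/

/-- The isometry group of the Prelude, as linear equivalences. -/
noncomputable def isometryGroupEquiv {ι : Type} [Fintype ι] [DecidableEq ι]
    (Q : QuadraticForm F (ι → F)) (f : (ι → F) → F) (hf : ∀ v, f v = Q v) :
    isometryGroup F f ≃* orth Q :=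
  let φ : Matrix.GeneralLinearGroup ι F ≃* ((ι → F) ≃ₗ[F] (ι → F)) :=
    Matrix.GeneralLinearGroup.toLin.trans (LinearMap.GeneralLinearGroup.generalLinearEquiv F _)
  have happ : ∀ (g : Matrix.GeneralLinearGroup ι F) (x : ι → F),
      φ g x = (g : Matrix ι ι F) *ᵥ x := fun g x =>
    Matrix.GeneralLinearGroup.toLin_apply g x
  (φ.subgroupMap (isometryGroup F f)).trans (MulEquiv.subgroupCongr (by
    ext g
    simp only [Subgroup.mem_map]
    constructor
    · rintro ⟨h, hh, rfl⟩ x
      have := hh x x
      show Q (φ h x) = Q x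
      rw [happ, ← hf, ← hf]
      exact this
    · intro hg
      refine ⟨φ.symm g, fun x _ => ?_, φ.apply_symm_apply g⟩
      show f ((φ.symm g : Matrix.GeneralLinearGroup ι F).1 *ᵥ x) = f x
      rw [← happ, φ.apply_symm_apply, hf, hf]
      exact hg x))

theorem card_isometryGroup {ι : Type} [Fintype ι] [DecidableEq ι] {U : Type*} [AddCommGroup U]
    [Module F U] (Q : QuadraticForm F U) (f : (ι → F) → F) (e : U ≃ₗ[F] (ι → F))
    (h : ∀ x, f (e x) = Q x) :
    Nat.card (isometryGroup F f) = Nat.card (orth Q) := by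
  set Q' : QuadraticForm F (ι → F) := Q.comp e.symm.toLinearMap
  have hf : ∀ v, f v = Q' v := fun v => by
    show f v = Q (e.symm v)
    rw [← h, e.apply_symm_apply]
  rw [Nat.card_congr (isometryGroupEquiv Q' f hf).toEquiv]
  exact (Nat.card_congr (orthCongr e (fun x => by rw [← hf, h])).toEquiv).symm

end Cfsg.Agent.OrthUnitaryQuad
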