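import Mathlib
import Cfsg.Agent.Lib.OrthUnitaryQuad

/-!
Generation of the isometry group of a quadratic space by reflections, in every characteristic.
-/

set_option autoImplicit false

namespace Cfsg.Agent.OrthUnitaryRefl

open QuadraticMap
open Cfsg.Agent.OrthUnitaryQuad

variable {F V W : Type*} [Field F] [AddCommGroup V] [Module F V] [AddCommGroup W] [Module F W]

/-- The subgroup generated by reflections. -/
noncomputable def reflGroup (Q : QuadraticForm F V) : Subgroup (orth Q) :=
  Subgroup.closure {g | ∃ v hv, g = refl Q v hv}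

theorem refl_mem {Q : QuadraticForm F V} {v : V} (hv : Q v ≠ 0) : refl Q v hv ∈ reflGroup Q :=
  Subgroup.subset_closure ⟨v, hv, rfl⟩

theorem orth_mul_apply {Q : QuadraticForm F V} (g h : orth Q) (x : V) :
    (g * h).1 x = g.1 (h.1 x) := rfl

theorem orth_ext {Q : QuadraticForm F V} {g h : orth Q} (H : ∀ x, g.1 x = h.1 x) : g = h :=
  Subtype.ext (LinearEquiv.ext H)

/-- Isometries conjugate reflections to reflections. -/
theorem conj_refl {Q : QuadraticForm F V} (g : orth Q) (v : V) (hv : Q v ≠ 0) :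
    g * refl Q v hv * g⁻¹ = refl Q (g.1 v) (by rwa [map_orth g]) := by
  rw [mul_inv_eq_iff_eq_mul]
  apply orth_ext
  intro x
  rw [orth_mul_apply, orth_mul_apply, refl_apply, refl_apply, map_sub, map_smul, polar_orth g,
    map_orth g]

theorem refl_smul {Q : QuadraticForm F V} (v : V) (hv : Q v ≠ 0) {t : F} (ht : t ≠ 0) :
    refl Q (t • v) (by simp [QuadraticMap.map_smul, ht, hv]) = refl Q v hv := by
  apply orth_ext
  intro x
  rw [refl_apply, refl_apply, QuadraticMap.map_smul, polar_smul_left, smul_smul, smul_eq_mul,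
    smul_eq_mul]
  congr 2
  field_simp

theorem refl_sq {Q : QuadraticForm F V} (v : V) (hv : Q v ≠ 0) :
    refl Q v hv * refl Q v hv = 1 := by
  apply orth_ext
  intro x
  exact reflMap_involutive hv x

theorem polar_congr {Q : QuadraticForm F V} {Q' : QuadraticForm F W} (e : V ≃ₗ[F] W)
    (h : ∀ x, Q' (e x) = Q x) (a b : V) : polar Q' (e a) (e b) = polar Q a b := by
  simp [polar, ← map_add, h]

theorem polar_congr_symm {Q : QuadraticForm F V} {Q' : QuadraticForm F W} (e : V ≃ₗ[F] W)
    (h : ∀ x, Q' (e x) = Q x) (a : V) (y : W) : polar Q a (e.symm y) = polar Q' (e a) y := by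
  rw [← polar_congr e h, e.apply_symm_apply]

/-- An isometry carries reflections to reflections. -/
theorem orthCongr_refl {Q : QuadraticForm F V} {Q' : QuadraticForm F W} (e : V ≃ₗ[F] W)
    (h : ∀ x, Q' (e x) = Q x) (v : V) (hv : Q v ≠ 0) :
    orthCongr e h (refl Q v hv) = refl Q' (e v) (by rwa [h]) := by
  apply orth_ext
  intro y
  show e ((refl Q v hv).1 (e.symm y)) = _
  rw [refl_apply, refl_apply, map_sub, map_smul, LinearEquiv.apply_symm_apply, h,
    polar_congr_symm e h]

theorem orthCongr_siegel {Q : QuadraticForm F V} {Q' : QuadraticForm F W} (e : V ≃ₗ[F] W)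
    (h : ∀ x, Q' (e x) = Q x) (u w : V) (hu : Q u = 0) (hw : polar Q u w = 0) :
    orthCongr e h (siegel Q u w hu hw) = siegel Q' (e u) (e w) (by rw [h, hu])
      (by simp [polar, ← map_add, h] at hw ⊢; exact hw) := by
  apply orth_ext
  intro y
  show e ((siegel Q u w hu hw).1 (e.symm y)) = _
  rw [siegel_apply, siegel_apply, map_sub, map_add, map_smul, map_smul,
    LinearEquiv.apply_symm_apply, h]
  rw [polar_congr_symm e h, polar_congr_symm e h]

theorem orthCongr_reflGroup {Q : QuadraticForm F V} {Q' : QuadraticForm F W} (e : V ≃ₗ[F] W)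
    (h : ∀ x, Q' (e x) = Q x) {g : orth Q} (hg : g ∈ reflGroup Q) :
    orthCongr e h g ∈ reflGroup Q' := by
  induction hg using Subgroup.closure_induction with
  | mem g hg =>
    obtain ⟨v, hv, rfl⟩ := hg
    rw [orthCongr_refl e h v hv]
    exact refl_mem _
  | one => simp [Subgroup.one_mem]
  | mul a b _ _ ha hb => rw [map_mul]; exact Subgroup.mul_mem _ ha hb
  | inv a _ ha => rw [map_inv]; exact Subgroup.inv_mem _ ha

/-! ### Siegel transformations as products of reflections -/

theorem siegel_eq_refl_mul {Q : QuadraticForm F V} {u w : V} (hu : Q u = 0)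
    (hw : polar Q u w = 0) (hQw : Q w ≠ 0) :
    siegel Q u w hu hw = refl Q w hQw * refl Q (w + Q w • u)
      (by rw [QuadraticMap.map_add (⇑Q), QuadraticMap.map_smul, hu, polar_smul_right,
            polar_comm Q w u, hw]; simpa using hQw) := by
  apply orth_ext
  intro x
  rw [orth_mul_apply, siegel_apply, refl_apply, refl_apply]
  simp only [QuadraticMap.map_add (⇑Q), QuadraticMap.map_smul, polar_add_left, polar_smul_left,
    polar_sub_right, polar_smul_right, polar_add_right, hu, polar_self_mul, polar_comm Q w u, hw,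
    smul_eq_mul, mul_zero, add_zero]
  match_scalars <;> field_simp <;> ring

theorem siegel_mul {Q : QuadraticForm F V} {u w₁ w₂ : V} (hu : Q u = 0)
    (h₁ : polar Q u w₁ = 0) (h₂ : polar Q u w₂ = 0) :
    siegel Q u w₁ hu h₁ * siegel Q u w₂ hu h₂
      = siegel Q u (w₁ + w₂) hu (by rw [polar_add_right, h₁, h₂, add_zero]) := by
  apply orth_ext
  intro x
  rw [orth_mul_apply, siegel_apply, siegel_apply, siegel_apply]
  simp only [QuadraticMap.map_add (⇑Q), polar_add_left, polar_add_right, polar_sub_right,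
    polar_smul_right, hu, h₁, h₂, polar_self_mul, polar_comm Q w₁ u, smul_eq_mul]
  match_scalars <;> ring

theorem siegel_mem_of_split {Q : QuadraticForm F V} {u w y : V} (hu : Q u = 0)
    (hw : polar Q u w = 0) (hy : polar Q u y = 0) (hQy : Q y ≠ 0) (hQwy : Q (w - y) ≠ 0) :
    siegel Q u w hu hw ∈ reflGroup Q := by
  have hwy : polar Q u (w - y) = 0 := by rw [polar_sub_right, hw, hy, sub_zero]
  have h := siegel_mul hu hy hwy
  simp only [add_sub_cancel] at h
  rw [← h, siegel_eq_refl_mul hu hy hQy, siegel_eq_refl_mul hu hwy hQwy]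
  exact Subgroup.mul_mem _ (Subgroup.mul_mem _ (refl_mem _) (refl_mem _))
    (Subgroup.mul_mem _ (refl_mem _) (refl_mem _))

/-! ### Splitting off a hyperbolic plane -/

theorem exists_split {Q : QuadraticForm F V} (hQ : IsReg Q) {e : V} (he : Q e = 0) (he0 : e ≠ 0) :
    ∃ (U : Submodule F V) (φ : ((F × F) × U) ≃ₗ[F] V),
      (∀ p, Q (φ p) = hypExt (Q.restrict U) p) ∧ φ ((1, 0), 0) = e ∧ IsReg (Q.restrict U) := by
  obtain ⟨z, hz⟩ := exists_polar_ne_zero hQ he he0
  obtain ⟨z', hez'⟩ : ∃ z', polar Q e z' = 1 :=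
    ⟨(polar Q e z)⁻¹ • z, by rw [polar_smul_right, smul_eq_mul, inv_mul_cancel₀ hz]⟩
  set f := z' + (-(Q z')) • e with hf
  have hee : polar Q e e = 0 := by rw [polar_self_mul, he, mul_zero]
  have hef : polar Q e f = 1 := by
    rw [hf, polar_add_right, polar_smul_right, hez', hee, smul_zero, add_zero]
  have hQf : Q f = 0 := by
    rw [hf, QuadraticMap.map_add (⇑Q), QuadraticMap.map_smul, he, polar_smul_right,
      polar_comm Q z' e, hez']
    simp
  have hff : polar Q f f = 0 := by rw [polar_self_mul, hQf, mul_zero]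
  have hfe : polar Q f e = 1 := by rw [polar_comm, hef]
  let U : Submodule F V := LinearMap.ker (polarBilin Q e) ⊓ LinearMap.ker (polarBilin Q f)
  have hU : ∀ x ∈ U, polar Q e x = 0 ∧ polar Q f x = 0 := fun x hx => hx
  have hproj : ∀ x, x - polar Q f x • e - polar Q e x • f ∈ U := by
    intro x
    refine ⟨?_, ?_⟩ <;>
      simp [hee, hef, hfe, hff, polar_sub_right, polar_smul_right]
  let φ : ((F × F) × U) ≃ₗ[F] V :=
    { toFun := fun p => p.1.1 • e + p.1.2 • f + p.2.1
      map_add' := fun p p' => by simp only [Prod.fst_add, Prod.snd_add, Submodule.coe_add]; module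
      map_smul' := fun c p => by
        simp only [Prod.smul_fst, Prod.smul_snd, smul_eq_mul, Submodule.coe_smul, RingHom.id_apply]
        module
      invFun := fun x => ((polar Q f x, polar Q e x), ⟨_, hproj x⟩)
      left_inv := fun p => by
        obtain ⟨⟨a, b⟩, x, hx⟩ := p
        obtain ⟨h1, h2⟩ := hU x hx
        have ha : polar Q f (a • e + b • f + x) = a := by
          simp [polar_add_right, polar_smul_right, hfe, hff, h2]
        have hb : polar Q e (a • e + b • f + x) = b := by
          simp [polar_add_right, polar_smul_right, hee, hef, h1]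
        simp only [ha, hb, Prod.mk.injEq, Subtype.mk.injEq, true_and]
        module
      right_inv := fun x => by
        show polar Q f x • e + polar Q e x • f + (x - polar Q f x • e - polar Q e x • f) = x
        module }
  have hiso : ∀ p, Q (φ p) = hypExt (Q.restrict U) p := by
    rintro ⟨⟨a, b⟩, x, hx⟩
    obtain ⟨h1, h2⟩ := hU x hx
    show Q (a • e + b • f + x) = _
    rw [hypExt_apply, QuadraticMap.restrict_apply, QuadraticMap.map_add (⇑Q),
      QuadraticMap.map_add (⇑Q) (a • e), QuadraticMap.map_smul, QuadraticMap.map_smul, he, hQf]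
    simp [polar_add_left, polar_smul_left, polar_smul_right, hef, h1, h2, mul_comm]
  refine ⟨U, φ, hiso, ?_, ?_⟩
  · show (1 : F) • e + (0 : F) • f + (0 : V) = e
    simp
  · intro x hx hx0
    have hxp : ∀ y : V, polar Q x y = 0 := by
      intro y
      obtain ⟨h1, h2⟩ := hU x x.2
      have h3 := hx ⟨_, hproj y⟩
      have h4 : polar Q (x : V) (y - polar Q f y • e - polar Q e y • f) = 0 := h3
      simpa [polar_sub_right, polar_smul_right, polar_comm Q (x : V) e, polar_comm Q (x : V) f,
        h1, h2] using h4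
    exact Subtype.ext (hQ x hxp hx0)

/-! ### Anisotropic spaces -/

theorem reflGroup_eq_top_of_anisotropic [FiniteDimensional F V] {Q : QuadraticForm F V}
    (h : ∀ x, Q x = 0 → x = 0) : reflGroup Q = ⊤ := by
  rw [Subgroup.eq_top_iff']
  intro g
  induction hd : Module.finrank F V - Module.finrank F (LinearMap.eqLocus g.1.toLinearMap LinearMap.id)
    using Nat.strong_induction_on generalizing g with
  | _ d ih =>
    by_cases hg : ∀ x, g.1 x = x
    · rw [show g = 1 from orth_ext hg]
      exact Subgroup.one_mem _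
    push Not at hg
    obtain ⟨x, hx⟩ := hg
    have hne : Q (g.1 x - x) ≠ 0 := fun h0 => hx (sub_eq_zero.1 (h _ h0))
    set r := refl Q (g.1 x - x) hne
    have hlt : LinearMap.eqLocus g.1.toLinearMap LinearMap.id
        < LinearMap.eqLocus (r * g).1.toLinearMap LinearMap.id := by
      refine lt_of_le_of_ne (fun y hy => ?_) fun he => ?_
      · have hy' : g.1 y = y := hy
        show r.1 (g.1 y) = y
        have : polar Q (g.1 x - x) y = 0 := by
          rw [polar_sub_left]
          nth_rw 1 [← hy']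
          rw [polar_orth g, sub_self]
        rw [hy', refl_apply, this, mul_zero, zero_smul, sub_zero]
      · have hmem : x ∈ LinearMap.eqLocus (r * g).1.toLinearMap LinearMap.id :=
          refl_sub_apply (map_orth g x) hne
        rw [← he] at hmem
        exact hx hmem
    have h1 := Submodule.finrank_lt_finrank_of_lt hlt
    have h2 := Submodule.finrank_le (LinearMap.eqLocus (r * g).1.toLinearMap LinearMap.id)
    have := Subgroup.mul_mem _ (refl_mem hne) (ih _ (by omega) (r * g) rfl)
    rwa [← mul_assoc, refl_sq, one_mul] at this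

/-! ### Generation -/

/-- The subgroup generated by reflections and Siegel transformations. -/
noncomputable def bigGroup (Q : QuadraticForm F V) : Subgroup (orth Q) :=
  Subgroup.closure ({g | ∃ v hv, g = refl Q v hv} ∪ {g | ∃ u w hu hw, g = siegel Q u w hu hw})

theorem bigGroup_refl {Q : QuadraticForm F V} {v : V} (hv : Q v ≠ 0) :
    refl Q v hv ∈ bigGroup Q := Subgroup.subset_closure (Or.inl ⟨v, hv, rfl⟩)

theorem bigGroup_siegel {Q : QuadraticForm F V} {u w : V} (hu : Q u = 0)
    (hw : polar Q u w = 0) : siegel Q u w hu hw ∈ bigGroup Q :=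
  Subgroup.subset_closure (Or.inr ⟨u, w, hu, hw, rfl⟩)

theorem exists_refl_map_singular {Q : QuadraticForm F V} (hQ : IsReg Q) {u v : V} (hu : Q u = 0)
    (hv : Q v = 0) (hu0 : u ≠ 0) (hv0 : v ≠ 0) : ∃ g ∈ reflGroup Q, g.1 u = v := by
  have aux : ∀ {a b : V}, Q a = 0 → Q b = 0 → polar Q a b ≠ 0 → ∃ g ∈ reflGroup Q, g.1 a = b := by
    intro a b ha hb hab
    have hne : Q (a - b) ≠ 0 := by
      rw [sub_eq_add_neg, QuadraticMap.map_add (⇑Q), QuadraticMap.map_neg, ha, hb, polar_neg_right]
      simpa using hab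
    exact ⟨_, refl_mem hne, refl_sub_apply (by rw [ha, hb]) hne⟩
  by_cases huv : polar Q u v = 0
  · obtain ⟨z₁, h₁⟩ := exists_polar_ne_zero hQ hu hu0
    obtain ⟨z₂, h₂⟩ := exists_polar_ne_zero hQ hv hv0
    obtain ⟨z, hzu, hzv⟩ : ∃ z, polar Q u z ≠ 0 ∧ polar Q v z ≠ 0 := by
      by_cases ha : polar Q v z₁ = 0
      · by_cases hb : polar Q u z₂ = 0
        · exact ⟨z₁ + z₂, by rw [polar_add_right, hb, add_zero]; exact h₁,
            by rw [polar_add_right, ha, zero_add]; exact h₂⟩
        · exact ⟨z₂, hb, h₂⟩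
      · exact ⟨z₁, h₁, ha⟩
    set w := z + (-(Q z / polar Q u z)) • u with hw
    have hQw : Q w = 0 := by
      rw [hw, QuadraticMap.map_add (⇑Q), QuadraticMap.map_smul, hu, polar_smul_right,
        polar_comm Q z u]
      simp only [smul_eq_mul]
      field_simp
      ring
    have huw : polar Q u w ≠ 0 := by
      rw [hw, polar_add_right, polar_smul_right, polar_self_mul, hu]
      simpa using hzu
    have hvw : polar Q w v ≠ 0 := by
      rw [polar_comm, hw, polar_add_right, polar_smul_right, polar_comm Q v u, huv]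
      simpa using hzv
    obtain ⟨g₁, hm₁, hg₁⟩ := aux hu hQw huw
    obtain ⟨g₂, hm₂, hg₂⟩ := aux hQw hv hvw
    exact ⟨g₂ * g₁, Subgroup.mul_mem _ hm₂ hm₁, by rw [orth_mul_apply, hg₁, hg₂]⟩
  · exact aux hu hv huv

/-- The inclusion of the isometries of `Q` into those of `hypExt Q`. -/
def hypLift (Q : QuadraticForm F W) : orth Q →* orth (hypExt Q) where
  toFun g := ⟨(LinearEquiv.refl F (F × F)).prodCongr g.1, fun p => by
    obtain ⟨⟨a, b⟩, x⟩ := p
    simp [hypExt_apply, map_orth g]⟩
  map_one' := orth_ext fun _ => rfl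
  map_mul' a b := orth_ext fun _ => rfl

theorem hypLift_refl (Q : QuadraticForm F W) (v : W) (hv : Q v ≠ 0) :
    hypLift Q (refl Q v hv)
      = refl (hypExt Q) ((0, 0), v) (by simpa [hypExt_apply] using hv) := by
  apply orth_ext
  rintro ⟨⟨a, b⟩, x⟩
  rw [refl_apply]
  show ((a, b), (refl Q v hv).1 x) = _
  simp [refl_apply, polar_hypExt, hypExt_apply]

theorem hypLift_siegel (Q : QuadraticForm F W) (u w : W) (hu : Q u = 0) (hw : polar Q u w = 0) :
    hypLift Q (siegel Q u w hu hw) = siegel (hypExt Q) ((0, 0), u) ((0, 0), w)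
      (by simpa [hypExt_apply] using hu) (by simpa [polar_hypExt] using hw) := by
  apply orth_ext
  rintro ⟨⟨a, b⟩, x⟩
  rw [siegel_apply]
  show ((a, b), (siegel Q u w hu hw).1 x) = _
  simp [siegel_apply, polar_hypExt, hypExt_apply]

theorem bigGroup_hypExt {Q : QuadraticForm F W} (hQ : IsReg Q) (h : bigGroup Q = ⊤) :
    bigGroup (hypExt Q) = ⊤ := by
  rw [Subgroup.eq_top_iff']
  have hle : reflGroup (hypExt Q) ≤ bigGroup (hypExt Q) :=
    Subgroup.closure_mono Set.subset_union_left
  have hlift : ∀ g, hypLift Q g ∈ bigGroup (hypExt Q) := by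
    intro g
    have hg : g ∈ bigGroup Q := h ▸ Subgroup.mem_top g
    induction hg using Subgroup.closure_induction with
    | mem g hg =>
      rcases hg with ⟨v, hv, rfl⟩ | ⟨u, w, hu, hw, rfl⟩
      · rw [hypLift_refl]; exact bigGroup_refl _
      · rw [hypLift_siegel]; exact bigGroup_siegel _ _
    | one => simp [Subgroup.one_mem]
    | mul a b _ _ ha hb => rw [map_mul]; exact Subgroup.mul_mem _ ha hb
    | inv a _ ha => rw [map_inv]; exact Subgroup.inv_mem _ ha
  intro g
  set e : (F × F) × W := ((1, 0), 0) with he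
  set f : (F × F) × W := ((0, 1), 0) with hf
  have he0 : hypExt Q e = 0 := by simp [he, hypExt_apply]
  have hf0 : hypExt Q f = 0 := by simp [hf, hypExt_apply]
  have hef : polar (hypExt Q) e f = 1 := by simp [he, hf, polar_hypExt]
  have hene : e ≠ 0 := by simp [he, Prod.ext_iff]
  obtain ⟨k₁, hk₁, hk₁e⟩ := exists_refl_map_singular (isReg_hypExt hQ)
    (u := g.1 e) (v := e) (by rw [map_orth g, he0]) he0
    (fun h0 => hene (g.1.map_eq_zero_iff.1 h0)) hene
  set g₁ := k₁ * g with hg₁
  have hg₁e : g₁.1 e = e := hk₁e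
  set v := g₁.1 f with hv
  have hQv : hypExt Q v = 0 := by rw [hv, map_orth g₁, hf0]
  have hev : polar (hypExt Q) e v = 1 := by
    have := polar_orth g₁ e f
    rwa [hg₁e, hef, ← hv] at this
  have hw : polar (hypExt Q) e (f - v) = 0 := by rw [polar_sub_right, hef, hev, sub_self]
  set k₂ := siegel (hypExt Q) e (f - v) he0 hw with hk₂
  set g₂ := k₂ * g₁ with hg₂
  have hee : polar (hypExt Q) e e = 0 := by rw [polar_self_mul, he0, mul_zero]
  have hg₂e : g₂.1 e = e := by
    rw [hg₂, orth_mul_apply, hg₁e, hk₂, siegel_apply, hee, polar_comm _ (f - v) e, hw]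
    simp
  have hg₂f : g₂.1 f = f := by
    have hz : polar (hypExt Q) (f - v) v + hypExt Q (f - v) = 0 := by
      have h := QuadraticMap.map_add (⇑(hypExt Q)) (f - v) v
      rw [sub_add_cancel, hQv, hf0] at h
      linear_combination -h
    rw [hg₂, orth_mul_apply, ← hv, hk₂, siegel_apply, hev, mul_one, hz, zero_smul, one_smul,
      sub_zero, add_sub_cancel]
  have hblock : ∀ x : W, g₂.1 ((0, 0), x) = ((0, 0), (g₂.1 ((0, 0), x)).2) := by
    intro x
    have p1 := polar_orth g₂ ((0, 0), x) e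
    have p2 := polar_orth g₂ ((0, 0), x) f
    rw [hg₂e] at p1
    rw [hg₂f] at p2
    obtain ⟨⟨c, d⟩, y⟩ : ∃ z, z = g₂.1 ((0, 0), x) := ⟨_, rfl⟩
    generalize g₂.1 ((0, 0), x) = z at p1 p2
    obtain ⟨⟨c', d'⟩, y'⟩ := z
    simp [he, hf, polar_hypExt] at p1 p2
    simp [p1, p2]
  have hblock' : ∀ x : W, g₂⁻¹.1 ((0, 0), x) = ((0, 0), (g₂⁻¹.1 ((0, 0), x)).2) := by
    intro x
    have h1 : g₂.1.symm e = e := (LinearEquiv.symm_apply_eq _).2 hg₂e.symm
    have h2 : g₂.1.symm f = f := (LinearEquiv.symm_apply_eq _).2 hg₂f.symm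
    have p1 := polar_orth g₂⁻¹ ((0, 0), x) e
    have p2 := polar_orth g₂⁻¹ ((0, 0), x) f
    rw [show g₂⁻¹.1 e = e from h1] at p1
    rw [show g₂⁻¹.1 f = f from h2] at p2
    generalize g₂⁻¹.1 ((0, 0), x) = z at p1 p2
    obtain ⟨⟨c', d'⟩, y'⟩ := z
    simp [he, hf, polar_hypExt] at p1 p2
    simp [p1, p2]
  let h' : orth Q := ⟨LinearEquiv.ofLinearMap
      (LinearMap.snd F (F × F) W ∘ₗ g₂.1.toLinearMap ∘ₗ LinearMap.inr F (F × F) W)
      (LinearMap.snd F (F × F) W ∘ₗ g₂⁻¹.1.toLinearMap ∘ₗ LinearMap.inr F (F × F) W)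
      (LinearMap.ext fun x => by
        show (g₂.1 (((0 : F), (0 : F)), (g₂⁻¹.1 ((0, 0), x)).2)).2 = x
        rw [← hblock' x]
        exact congrArg Prod.snd (g₂.1.apply_symm_apply _))
      (LinearMap.ext fun x => by
        show (g₂⁻¹.1 (((0 : F), (0 : F)), (g₂.1 ((0, 0), x)).2)).2 = x
        rw [← hblock x]
        exact congrArg Prod.snd (g₂.1.symm_apply_apply _)),
    fun x => by
      show Q (g₂.1 (((0 : F), (0 : F)), x)).2 = Q x
      have h := map_orth g₂ ((0, 0), x)
      rw [hblock x, hypExt_apply, hypExt_apply] at h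
      simpa using h⟩
  have hg₂h : g₂ = hypLift Q h' := by
    apply orth_ext
    rintro ⟨⟨a, b⟩, x⟩
    have hsplit : ((a, b), x) = a • e + b • f + (((0, 0), x) : (F × F) × W) := by
      simp [he, hf]
    show _ = ((a, b), (g₂.1 (((0 : F), (0 : F)), x)).2)
    rw [hsplit, map_add, map_add, map_smul, map_smul, hg₂e, hg₂f, hblock x]
    simp [he, hf]
  have : g = k₁⁻¹ * (k₂⁻¹ * g₂) := by simp [hg₁, hg₂]
  rw [this, hg₂h]
  exact Subgroup.mul_mem _ (Subgroup.inv_mem _ (hle hk₁))
    (Subgroup.mul_mem _ (Subgroup.inv_mem _ (bigGroup_siegel _ _)) (hlift h'))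

theorem bigGroup_congr {Q : QuadraticForm F V} {Q' : QuadraticForm F W} (e : V ≃ₗ[F] W)
    (h : ∀ x, Q' (e x) = Q x) (hQ : bigGroup Q = ⊤) : bigGroup Q' = ⊤ := by
  rw [Subgroup.eq_top_iff']
  intro g'
  obtain ⟨g, rfl⟩ := (orthCongr e h).surjective g'
  have hg : g ∈ bigGroup Q := hQ ▸ Subgroup.mem_top g
  induction hg using Subgroup.closure_induction with
  | mem g hg =>
    rcases hg with ⟨v, hv, rfl⟩ | ⟨u, w, hu, hw, rfl⟩
    · rw [orthCongr_refl e h v hv]; exact bigGroup_refl _
    · rw [orthCongr_siegel e h u w hu hw]; exact bigGroup_siegel _ _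
  | one => simp [Subgroup.one_mem]
  | mul a b _ _ ha hb => rw [map_mul]; exact Subgroup.mul_mem _ ha hb
  | inv a _ ha => rw [map_inv]; exact Subgroup.inv_mem _ ha

theorem finrank_hypExt_space [FiniteDimensional F W] :
    Module.finrank F ((F × F) × W) = Module.finrank F W + 2 := by
  rw [Module.finrank_prod, Module.finrank_prod, Module.finrank_self]
  omega

theorem bigGroup_eq_top_aux {F : Type*} [Field F] (n : ℕ) :
    ∀ {V : Type*} [AddCommGroup V] [Module F V] [FiniteDimensional F V] (Q : QuadraticForm F V),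
      Module.finrank F V ≤ n → IsReg Q → bigGroup Q = ⊤ := by
  induction n with
  | zero =>
    intro V _ _ _ Q hn _
    have : Subsingleton V := (Module.finrank_zero_iff (R := F)).1 (Nat.le_zero.1 hn)
    rw [Subgroup.eq_top_iff']
    intro g
    rw [show g = 1 from orth_ext fun _ => Subsingleton.elim _ _]
    exact Subgroup.one_mem _
  | succ n ih =>
    intro V _ _ _ Q hn hQ
    by_cases h : ∀ x, Q x = 0 → x = 0
    · exact top_le_iff.1 ((reflGroup_eq_top_of_anisotropic h).ge.trans
        (Subgroup.closure_mono Set.subset_union_left))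
    push Not at h
    obtain ⟨e, he, he0⟩ := h
    obtain ⟨U, φ, hφ, -, hU⟩ := exists_split hQ he he0
    refine bigGroup_congr φ hφ (bigGroup_hypExt hU (ih _ ?_ hU))
    have := φ.finrank_eq
    rw [finrank_hypExt_space] at this
    omega

theorem bigGroup_eq_top [FiniteDimensional F V] {Q : QuadraticForm F V} (hQ : IsReg Q) :
    bigGroup Q = ⊤ :=
  bigGroup_eq_top_aux _ Q le_rfl hQ

theorem exists_map_ne_zero [FiniteDimensional F V] {Q : QuadraticForm F V} (hQ : IsReg Q)
    (h : Module.finrank F V ≠ 0) : ∃ x, Q x ≠ 0 := by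
  by_contra hc
  push Not at hc
  have : Subsingleton V := ⟨fun a b => sub_eq_zero.1
    (hQ _ (fun y => by simp [polar, hc]) (hc _))⟩
  exact h Module.finrank_zero_of_subsingleton

theorem siegel_mem_reflGroup [FiniteDimensional F V] {Q : QuadraticForm F V} (hQ : IsReg Q)
    (hexc : (∃ t : F, t ≠ 0 ∧ t ≠ 1) ∨ Module.finrank F V ≠ 4) {u w : V} (hu : Q u = 0)
    (hw : polar Q u w = 0) : siegel Q u w hu hw ∈ reflGroup Q := by
  by_cases hQw : Q w = 0
  swap
  · rw [siegel_eq_refl_mul hu hw hQw]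
    exact Subgroup.mul_mem _ (refl_mem _) (refl_mem _)
  by_cases hu0 : u = 0
  · have : siegel Q u w hu hw = 1 := orth_ext fun x => by
      rw [siegel_apply, hu0]; simp
    rw [this]
    exact Subgroup.one_mem _
  obtain ⟨U, φ, hφ, hφe, hU⟩ := exists_split hQ hu hu0
  have hpol : ∀ p p', polar Q (φ p) (φ p') = polar (hypExt (Q.restrict U)) p p' := fun p p' => by
    simp [polar, ← map_add, hφ]
  obtain ⟨⟨⟨a, b⟩, x⟩, rfl⟩ := φ.surjective w
  have hb : b = 0 := by simpa [← hφe, hpol, polar_hypExt] using hw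
  subst hb
  have hx : Q.restrict U x = 0 := by simpa [hφ, hypExt_apply] using hQw
  by_cases hrk : Module.finrank F U = 0
  · have hUs : Subsingleton U := Module.finrank_zero_iff.1 hrk
    obtain rfl : x = 0 := Subsingleton.elim _ _
    have hwu : φ ((a, 0), 0) = a • u := by rw [← hφe, ← map_smul]; simp
    have : siegel Q u (φ ((a, 0), 0)) hu hw = 1 := orth_ext fun y => by
      rw [siegel_apply, hwu, polar_smul_left, QuadraticMap.map_smul, hu]
      simp only [smul_eq_mul, mul_zero, zero_mul, add_zero, smul_smul]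
      rw [mul_comm (polar (⇑Q) u y) a, add_sub_cancel_right]
      rfl
    rw [this]
    exact Subgroup.one_mem _
  obtain ⟨y, hy, hxy⟩ : ∃ y, Q.restrict U y ≠ 0 ∧ Q.restrict U (x - y) ≠ 0 := by
    obtain ⟨y₀, hy₀⟩ := exists_map_ne_zero hU hrk
    by_cases hx0 : x = 0
    · exact ⟨y₀, hy₀, by rw [hx0, zero_sub, QuadraticMap.map_neg]; exact hy₀⟩
    rcases hexc with ⟨t, ht0, ht1⟩ | hn
    · have key : ∀ s : F, Q.restrict U (x - s • y₀)
          = s * (s * Q.restrict U y₀ - polar (Q.restrict U) x y₀) := fun s => by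
        rw [sub_eq_add_neg, ← neg_smul, QuadraticMap.map_add (⇑(Q.restrict U)),
          QuadraticMap.map_smul, polar_smul_right, hx, smul_eq_mul, smul_eq_mul]
        ring
      have hs : ∃ s : F, s ≠ 0 ∧ s * Q.restrict U y₀ - polar (Q.restrict U) x y₀ ≠ 0 := by
        by_cases h1 : 1 * Q.restrict U y₀ - polar (Q.restrict U) x y₀ = 0
        · refine ⟨t, ht0, fun h2 => ht1 ?_⟩
          exact mul_right_cancel₀ hy₀ (by linear_combination h2 - h1)
        · exact ⟨1, one_ne_zero, h1⟩
      obtain ⟨s, hs0, hs1⟩ := hs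
      exact ⟨s • y₀, by rw [QuadraticMap.map_smul, smul_eq_mul]
                        exact mul_ne_zero (mul_ne_zero hs0 hs0) hy₀,
        by rw [key]; exact mul_ne_zero hs0 hs1⟩
    · obtain ⟨U', ψ, hψ, hψe, hU'⟩ := exists_split hU hx hx0
      have h4 := φ.finrank_eq
      have h2 := ψ.finrank_eq
      rw [finrank_hypExt_space] at h4 h2
      obtain ⟨z, hz⟩ := exists_map_ne_zero hU' (by omega)
      refine ⟨ψ ((0, 0), z), by simpa [hψ, hypExt_apply] using hz, ?_⟩
      rw [← hψe, ← map_sub, hψ]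
      simpa [hypExt_apply] using hz
  refine siegel_mem_of_split hu hw (y := φ ((0, 0), y)) ?_ ?_ ?_
  · simp [← hφe, hpol, polar_hypExt]
  · simpa [hφ, hypExt_apply] using hy
  · rw [← map_sub, hφ]
    simpa [hypExt_apply] using hxy

/-- Reflections generate the isometry group, apart from `O⁺₄(2)`. -/
theorem reflGroup_eq_top [FiniteDimensional F V] {Q : QuadraticForm F V} (hQ : IsReg Q)
    (hexc : (∃ t : F, t ≠ 0 ∧ t ≠ 1) ∨ Module.finrank F V ≠ 4) : reflGroup Q = ⊤ := by
  rw [eq_top_iff, ← bigGroup_eq_top hQ, bigGroup, Subgroup.closure_le]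
  rintro g (⟨v, hv, rfl⟩ | ⟨u, w, hu, hw, rfl⟩)
  · exact refl_mem hv
  · exact siegel_mem_reflGroup hQ hexc hu hw

theorem exists_ne_zero_one [Fintype F] (h : Fintype.card F ≠ 2) : ∃ t : F, t ≠ 0 ∧ t ≠ 1 := by
  classical
  by_contra hc
  push Not at hc
  apply h
  rw [← Finset.card_univ, show (Finset.univ : Finset F) = {0, 1} by
    ext t; by_cases ht : t = 0 <;> simp [ht, hc t], Finset.card_pair zero_ne_one]

end Cfsg.Agent.OrthUnitaryRefl
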