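import Mathlib

/-!
# Witt's extension theorem

For a quadratic form with non-degenerate polar form (any field, any characteristic), for
non-degenerate alternating forms, and for non-degenerate hermitian forms (any field with a
non-identity involutive automorphism): an isometry between subspaces extends to the whole space.

The proof extends one vector at a time by explicit transvection-like maps, so it needs neither
hyperbolic completions nor cancellation.
-/

set_option autoImplicit false

namespace Cfsg.Agent.Witt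

section Generic

variable {F V α : Type*} [Field F] [AddCommGroup V] [Module F V] [FiniteDimensional F V]

/-- If an isometry can always be found moving one vector outside a pointwise fixed subspace, then
every isometry of a subspace extends. -/
theorem extend_of_step (q : V → V → α)
    (step : ∀ (H : Submodule F V) (x y : V), x ∉ H → y ∉ H → (∀ h ∈ H, q h y = q h x) →
      q y y = q x x → ∃ g : V ≃ₗ[F] V, (∀ u v, q (g u) (g v) = q u v) ∧ (∀ h ∈ H, g h = h) ∧ g x = y)
    (X : Submodule F V) (φ : X →ₗ[F] V) (hinj : Function.Injective φ)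
    (hφ : ∀ a b : X, q (φ a) (φ b) = q (a : V) (b : V)) :
    ∃ g : V ≃ₗ[F] V, (∀ u v, q (g u) (g v) = q u v) ∧ ∀ a : X, g (a : V) = φ a := by
  induction hn : Module.finrank F X generalizing X with
  | zero =>
    refine ⟨LinearEquiv.refl F V, fun u v => rfl, fun a => ?_⟩
    have : Subsingleton X := Module.finrank_zero_iff.mp hn
    obtain rfl : a = 0 := Subsingleton.elim _ _
    simp
  | succ n ih =>
    -- split off one vector
    obtain ⟨b⟩ : Nonempty (Module.Basis (Fin (n + 1)) F X) :=
      ⟨(Module.finBasisOfFinrankEq F X hn)⟩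
    let f : Fin n → V := fun i => ((b i.castSucc : X) : V)
    have hli : LinearIndependent F f :=
      (b.linearIndependent.comp _ (Fin.castSucc_injective n)).map' X.subtype X.ker_subtype
    let H : Submodule F V := Submodule.span F (Set.range f)
    have hHX : H ≤ X := by
      rw [Submodule.span_le]
      rintro _ ⟨i, rfl⟩
      exact (b i.castSucc).2
    have hH : Module.finrank F H = n := by
      rw [finrank_span_eq_card hli, Fintype.card_fin]
    obtain ⟨g₀, hg₀, hg₀H⟩ := ih H (φ ∘ₗ Submodule.inclusion hHX)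
      (hinj.comp (Submodule.inclusion_injective hHX)) (fun a b => hφ _ _) hH
    let x : V := (b (Fin.last n) : X)
    let y : V := g₀.symm (φ (b (Fin.last n)))
    have hxH : x ∉ H := by
      intro hx
      have hli' : LinearIndependent F (fun i => ((b i : X) : V)) :=
        b.linearIndependent.map' X.subtype X.ker_subtype
      refine hli'.notMem_span_image (s := Set.range Fin.castSucc) (x := Fin.last n) ?_ ?_
      · rintro ⟨i, hi⟩; exact Fin.castSucc_ne_last i hi
      · rw [← Set.range_comp]; exact hx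
    have hsymm : ∀ u v, q (g₀.symm u) (g₀.symm v) = q u v := fun u v => by
      rw [← hg₀ (g₀.symm u), g₀.apply_symm_apply, g₀.apply_symm_apply]
    have hfix : ∀ h : X, (h : V) ∈ H → g₀.symm (φ h) = h := by
      intro h hh
      apply g₀.injective
      rw [g₀.apply_symm_apply]
      exact (hg₀H ⟨h, hh⟩).symm
    have hyH : y ∉ H := by
      intro hy
      refine hxH ?_
      have h1 : φ (b (Fin.last n)) = φ ⟨y, hHX hy⟩ := by
        rw [← g₀.apply_symm_apply (φ (b (Fin.last n)))]
        exact hg₀H ⟨y, hy⟩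
      have h2 := hinj h1
      show ((b (Fin.last n) : X) : V) ∈ H
      rw [h2]; exact hy
    obtain ⟨g₁, hg₁, hg₁H, hg₁x⟩ := step H x y hxH hyH
      (fun h hh => by
        have := hfix ⟨h, hHX hh⟩ hh
        conv_lhs => rw [show h = g₀.symm (φ ⟨h, hHX hh⟩) from this.symm]
        rw [hsymm, hφ])
      (by simp only [y, x]; rw [hsymm, hφ])
    refine ⟨g₁.trans g₀, fun u v => by simp [hg₀, hg₁], ?_⟩
    have : (g₁.trans g₀).toLinearMap ∘ₗ X.subtype = φ := by
      apply b.ext
      intro i
      induction i using Fin.lastCases with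
      | last =>
        show g₀ (g₁ x) = _
        rw [hg₁x, g₀.apply_symm_apply]
      | cast i =>
        have hi : ((b i.castSucc : X) : V) ∈ H := Submodule.subset_span ⟨i, rfl⟩
        show g₀ (g₁ _) = _
        simp only [Submodule.subtype_apply]
        rw [hg₁H _ hi]
        exact hg₀H ⟨_, hi⟩
    exact fun a => LinearMap.congr_fun this a

omit [FiniteDimensional F V] in
/-- A functional killing `H` that is `1` at `x` and non-zero at `y`. -/
theorem exists_functional (H : Submodule F V) {x y : V} (hx : x ∉ H) (hy : y ∉ H) :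
    ∃ g : Module.Dual F V, (∀ h ∈ H, g h = 0) ∧ g x = 1 ∧ g y ≠ 0 := by
  have key : ∀ l : Module.Dual F V, (∀ h ∈ H, l h = 0) → l x ≠ 0 → l y ≠ 0 →
      ∃ g : Module.Dual F V, (∀ h ∈ H, g h = 0) ∧ g x = 1 ∧ g y ≠ 0 := fun l hl hlx hly =>
    ⟨(l x)⁻¹ • l, fun h hh => by simp [hl h hh], by simp [hlx], by simp [hlx, hly]⟩
  have ex : ∀ z, z ∉ H → ∃ l : Module.Dual F V, (∀ h ∈ H, l h = 0) ∧ l z ≠ 0 := by
    intro z hz
    obtain ⟨l, hl1, hl2⟩ := Submodule.exists_dual_map_eq_bot_of_notMem hz inferInstance
    refine ⟨l, fun h hh => ?_, hl1⟩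
    have : l h ∈ H.map l := Submodule.mem_map_of_mem hh
    rwa [hl2, Submodule.mem_bot] at this
  obtain ⟨l₁, h₁, h₁x⟩ := ex x hx
  obtain ⟨l₂, h₂, h₂y⟩ := ex y hy
  by_cases h₁y : l₁ y = 0
  · by_cases h₂x : l₂ x = 0
    · exact key (l₁ + l₂) (fun h hh => by simp [h₁ h hh, h₂ h hh]) (by simp [h₁x, h₂x])
        (by simp [h₁y, h₂y])
    · exact key l₂ h₂ h₂x h₂y
  · exact key l₁ h₁ h₁x h₁y

/-- An endomorphism preserving `q`, where `q` separates points, is an automorphism. -/
theorem exists_equiv (q : V → V → α) (hsep : ∀ v, (∀ w, q v w = q 0 w) → v = 0)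
    (T : V →ₗ[F] V) (hT : ∀ u v, q (T u) (T v) = q u v) :
    ∃ g : V ≃ₗ[F] V, (∀ u v, q (g u) (g v) = q u v) ∧ ∀ v, g v = T v := by
  have hinj : Function.Injective T := by
    rw [← LinearMap.ker_eq_bot, LinearMap.ker_eq_bot']
    intro v hv
    refine hsep v fun w => ?_
    rw [← hT v w, ← hT 0 w, hv, map_zero]
  exact ⟨LinearEquiv.ofInjectiveEndo T hinj, fun u v => hT u v, fun v => rfl⟩

end Generic

section Quadratic

variable {F V : Type*} [Field F] [AddCommGroup V] [Module F V] [FiniteDimensional F V]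

open QuadraticMap

/-- One step of Witt's theorem for quadratic forms. -/
theorem quad_step (Q : QuadraticForm F V) (hQ : (polarBilin Q).Nondegenerate)
    (H : Submodule F V) (x y : V) (hx : x ∉ H) (hy : y ∉ H)
    (hH : ∀ h ∈ H, polar Q h y = polar Q h x) (hxy : Q y = Q x) :
    ∃ g : V ≃ₗ[F] V, (∀ v, Q (g v) = Q v) ∧ (∀ h ∈ H, g h = h) ∧ g x = y := by
  classical
  have hsep : ∀ v, (∀ w, ((Q v, polar Q v w) : F × F) = (Q 0, polar Q 0 w)) → v = 0 := fun v hv =>
    hQ.1 v fun w => by
      have := congrArg Prod.snd (hv w)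
      simpa using this
  have fin : ∀ T : V →ₗ[F] V, (∀ v, Q (T v) = Q v) → (∀ h ∈ H, T h = h) → T x = y →
      ∃ g : V ≃ₗ[F] V, (∀ v, Q (g v) = Q v) ∧ (∀ h ∈ H, g h = h) ∧ g x = y := by
    intro T hT hTH hTx
    obtain ⟨g, hg, hgT⟩ := exists_equiv (fun u v => ((Q u, polar Q u v) : F × F)) hsep T
      (fun u v => by
        refine Prod.ext (hT u) ?_
        show polar Q (T u) (T v) = polar Q u v
        simp only [polar, ← map_add, hT])
    exact ⟨g, fun v => congrArg Prod.fst (hg v v), fun h hh => by rw [hgT, hTH h hh],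
      by rw [hgT, hTx]⟩
  set d : V := y - x with hd
  set δ : Module.Dual F V := polarBilin Q d with hδ
  have hδH : ∀ h ∈ H, δ h = 0 := fun h hh => by
    show polar Q d h = 0
    rw [polar_comm, hd, polar_sub_right, hH h hh, sub_self]
  have hxd : polar Q x d = -Q d := by
    have := QuadraticMap.map_add Q x d
    rw [show x + d = y by rw [hd]; abel, hxy] at this
    linear_combination -this
  have hδx : δ x = -Q d := by show polar Q d x = _; rw [polar_comm]; exact hxd
  by_cases hQd : Q d = 0
  · obtain ⟨g, hgH, hgx, hgy⟩ := exists_functional H hx hy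
    obtain ⟨w, hw⟩ : ∃ w : V, ∀ v, polar Q v w = g v := by
      refine ⟨(LinearMap.BilinForm.toDual (polarBilin Q) hQ).symm g, fun v => ?_⟩
      rw [polar_comm]
      exact LinearMap.BilinForm.apply_toDual_symm_apply (B := polarBilin Q) (hB := hQ) g v
    have hγ : g y = 1 + g d := by rw [hd, map_sub, hgx]; ring
    set b : F := -(g y)⁻¹ with hb
    set u : V := (b * Q w) • d + b • w with hu
    have hb1 : 1 + b * g d + b = 0 := by
      have : b * g y = -1 := by rw [hb]; field_simp
      rw [hγ] at this; linear_combination this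
    refine fin (LinearMap.id + g.smulRight d + δ.smulRight u) (fun v => ?_) (fun h hh => ?_) ?_
    · show Q (v + g v • d + δ v • u) = Q v
      have hdd : polar Q d d = 0 := by rw [polar_self, hQd, smul_zero]
      have hδv : δ v = polar Q v d := polar_comm _ _ _
      rw [QuadraticMap.map_add Q, QuadraticMap.map_add Q, QuadraticMap.map_smul Q, hQd,
        QuadraticMap.map_smul Q, hu, QuadraticMap.map_add Q, QuadraticMap.map_smul Q,
        QuadraticMap.map_smul Q, hQd, hδv]
      simp only [polar_add_left, polar_add_right, polar_smul_left, polar_smul_right, smul_eq_mul,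
        hw, hdd, map_add, map_smul]
      linear_combination (polar Q v d * g v + b * Q w * (polar Q v d) ^ 2) * hb1
    · show h + g h • d + δ h • u = h
      simp [hgH h hh, hδH h hh]
    · show x + g x • d + δ x • u = y
      rw [hgx, hδx, hQd, hd]; simp
  · refine fin (LinearMap.id - δ.smulRight ((Q d)⁻¹ • d)) (fun v => ?_) (fun h hh => ?_) ?_
    · show Q (v - δ v • (Q d)⁻¹ • d) = Q v
      rw [sub_eq_add_neg, ← neg_smul, smul_smul, QuadraticMap.map_add Q, QuadraticMap.map_smul Q,
        polar_smul_right, show δ v = polar Q v d from polar_comm _ _ _, smul_eq_mul, smul_eq_mul]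
      field_simp
      ring
    · show h - δ h • _ = h
      simp [hδH h hh]
    · show x - δ x • (Q d)⁻¹ • d = y
      rw [hδx, smul_smul, neg_mul, mul_inv_cancel₀ hQd, hd]; simp

/-- **Witt's theorem** for quadratic forms with non-degenerate polar form. -/
theorem quad_extend (Q : QuadraticForm F V) (hQ : (polarBilin Q).Nondegenerate)
    (X : Submodule F V) (φ : X →ₗ[F] V) (hinj : Function.Injective φ)
    (hφ : ∀ a : X, Q (φ a) = Q (a : V)) :
    ∃ g : V ≃ₗ[F] V, (∀ v, Q (g v) = Q v) ∧ ∀ a : X, g (a : V) = φ a := by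
  obtain ⟨g, hg, hgX⟩ := extend_of_step (fun u v => ((Q u, polar Q u v) : F × F))
    (fun H x y hx hy h1 h2 => by
      obtain ⟨g, hg, hgH, hgx⟩ := quad_step Q hQ H x y hx hy
        (fun h hh => congrArg Prod.snd (h1 h hh)) (congrArg Prod.fst h2)
      exact ⟨g, fun u v => Prod.ext (hg u) (by simp only [polar, ← map_add, hg]), hgH, hgx⟩)
    X φ hinj (fun a b => by
      refine Prod.ext (hφ a) ?_
      simp only [polar, ← map_add, ← Submodule.coe_add, hφ])
  exact ⟨g, fun v => congrArg Prod.fst (hg v v), hgX⟩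

end Quadratic

section Alternating

variable {F V : Type*} [Field F] [AddCommGroup V] [Module F V] [FiniteDimensional F V]

/-- One step of Witt's theorem for alternating forms. -/
theorem alt_step (B : LinearMap.BilinForm F V) (hB : B.Nondegenerate) (hA : B.IsAlt)
    (H : Submodule F V) (x y : V) (hx : x ∉ H) (hy : y ∉ H)
    (hH : ∀ h ∈ H, B h y = B h x) :
    ∃ g : V ≃ₗ[F] V, (∀ u v, B (g u) (g v) = B u v) ∧ (∀ h ∈ H, g h = h) ∧ g x = y := by
  classical
  have hneg : ∀ u v, B v u = -B u v := fun u v => (hA.neg_eq u v).symm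
  have fin : ∀ T : V →ₗ[F] V, (∀ u v, B (T u) (T v) = B u v) → (∀ h ∈ H, T h = h) → T x = y →
      ∃ g : V ≃ₗ[F] V, (∀ u v, B (g u) (g v) = B u v) ∧ (∀ h ∈ H, g h = h) ∧ g x = y := by
    intro T hT hTH hTx
    obtain ⟨g, hg, hgT⟩ := exists_equiv (fun u v => B u v)
      (fun v hv => hB.1 v fun w => by simpa using hv w) T hT
    exact ⟨g, hg, fun h hh => by rw [hgT, hTH h hh], by rw [hgT, hTx]⟩
  set d : V := y - x with hd
  set δ : Module.Dual F V := B d with hδ
  have hδH : ∀ h ∈ H, δ h = 0 := fun h hh => by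
    show B d h = 0
    rw [hd, map_sub, LinearMap.sub_apply, hneg h y, hneg h x, hH h hh, sub_self]
  by_cases hyx : B y x = 0
  · have hδx : δ x = 0 := by
      show B d x = 0
      rw [hd, map_sub, LinearMap.sub_apply, hyx, hA x, sub_zero]
    obtain ⟨g, hgH, hgx, hgy⟩ := exists_functional H hx hy
    obtain ⟨w, hw⟩ : ∃ w : V, ∀ v, B v w = g v := by
      refine ⟨B.toDual hB |>.symm (-g), fun v => ?_⟩
      rw [hneg _ v, LinearMap.BilinForm.apply_toDual_symm_apply (B := B) (hB := hB) (-g) v]
      simp
    have hγ : g y = 1 + g d := by rw [hd, map_sub, hgx]; ring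
    set b : F := -(g y)⁻¹ with hb
    have hb1 : 1 + b * g d + b = 0 := by
      have : b * g y = -1 := by rw [hb]; field_simp
      rw [hγ] at this; linear_combination this
    have hgw : g w = 0 := by rw [← hw w, hA w]
    refine fin (LinearMap.id + g.smulRight d + δ.smulRight (b • w)) (fun u v => ?_)
      (fun h hh => ?_) ?_
    · show B (u + g u • d + δ u • b • w) (v + g v • d + δ v • b • w) = B u v
      simp only [map_add, map_smul, LinearMap.add_apply, LinearMap.smul_apply, smul_eq_mul, hw,
        hA d, hgw, hδ, hneg d u, hneg v w, hneg d w]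
      linear_combination (B d v * g u - B d u * g v) * hb1
    · show h + g h • d + δ h • b • w = h
      simp [hgH h hh, hδH h hh]
    · show x + g x • d + δ x • b • w = y
      rw [hgx, hδx, hd]; simp
  · refine fin (LinearMap.id + δ.smulRight ((B y x)⁻¹ • d)) (fun u v => ?_) (fun h hh => ?_) ?_
    · show B (u + δ u • (B y x)⁻¹ • d) (v + δ v • (B y x)⁻¹ • d) = B u v
      simp only [map_add, map_smul, LinearMap.add_apply, LinearMap.smul_apply, smul_eq_mul,
        hA d, hδ, hneg d u]
      ring
    · show h + δ h • _ = h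
      simp [hδH h hh]
    · show x + δ x • (B y x)⁻¹ • d = y
      have : δ x = B y x := by
        show B d x = _
        rw [hd, map_sub, LinearMap.sub_apply, hA x, sub_zero]
      rw [this, smul_smul, mul_inv_cancel₀ hyx, hd]; simp

/-- **Witt's theorem** for non-degenerate alternating forms. -/
theorem alt_extend (B : LinearMap.BilinForm F V) (hB : B.Nondegenerate) (hA : B.IsAlt)
    (X : Submodule F V) (φ : X →ₗ[F] V) (hinj : Function.Injective φ)
    (hφ : ∀ a b : X, B (φ a) (φ b) = B (a : V) (b : V)) :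
    ∃ g : V ≃ₗ[F] V, (∀ u v, B (g u) (g v) = B u v) ∧ ∀ a : X, g (a : V) = φ a :=
  extend_of_step (fun u v => B u v)
    (fun H x y hx hy h1 _ => alt_step B hB hA H x y hx hy h1) X φ hinj hφ

end Alternating

section Hermitian

variable {F V : Type*} [Field F] [AddCommGroup V] [Module F V] [FiniteDimensional F V]
  {σ : F →+* F}

omit [FiniteDimensional F V] in
theorem herm_symm {B : V →ₛₗ[σ] V →ₗ[F] F} (hS : B.IsSymm) (u v : V) : σ (B u v) = B v u :=
  hS.eq u v

/-- A non-degenerate hermitian form represents every functional. -/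
theorem herm_represent (hσ2 : ∀ a, σ (σ a) = a) (B : V →ₛₗ[σ] V →ₗ[F] F) (hB : B.Nondegenerate)
    (g : Module.Dual F V) : ∃ w : V, ∀ v, B w v = g v := by
  classical
  let b := Module.finBasis F V
  have hli : LinearIndependent F fun i => B (b i) := by
    rw [Fintype.linearIndependent_iff]
    intro c hc i
    have h0 : ∑ j, σ (c j) • b j = 0 := hB.1 _ fun v => by
      have := LinearMap.congr_fun hc v
      simpa [map_sum, map_smulₛₗ, hσ2] using this
    have h1 := Fintype.linearIndependent_iff.mp b.linearIndependent (fun j => σ (c j)) h0 i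
    exact σ.injective (h1.trans (map_zero σ).symm)
  have hspan := hli.span_eq_top_of_card_eq_finrank' (by simp [Subspace.dual_finrank_eq])
  have hg : g ∈ Submodule.span F (Set.range fun i => B (b i)) := by rw [hspan]; trivial
  obtain ⟨c, hc⟩ := (Submodule.mem_span_range_iff_exists_fun F).mp hg
  refine ⟨∑ i, σ (c i) • b i, fun v => ?_⟩
  rw [← hc]
  simp [map_sum, map_smulₛₗ, hσ2]

/-- Every fixed element of `σ` is a trace. -/
theorem exists_trace (hσ : σ ≠ RingHom.id F) (hσ2 : ∀ a, σ (σ a) = a) {c : F} (hc : σ c = c) :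
    ∃ t, t + σ t = c := by
  obtain ⟨e, he⟩ : ∃ e, e + σ e ≠ 0 := by
    by_contra h
    push Not at h
    refine hσ (RingHom.ext fun e => ?_)
    have h1 := h 1
    rw [map_one] at h1
    show σ e = e
    linear_combination h e - e * h1
  have hs : σ (e + σ e) = e + σ e := by rw [map_add, hσ2]; ring
  refine ⟨c / (e + σ e) * e, ?_⟩
  rw [map_mul, map_div₀, hc, hs]
  field_simp

/-- One step of Witt's theorem for hermitian forms. -/
theorem herm_step (hσ : σ ≠ RingHom.id F) (hσ2 : ∀ a, σ (σ a) = a) (B : V →ₛₗ[σ] V →ₗ[F] F)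
    (hS : B.IsSymm) (hB : B.Nondegenerate)
    (H : Submodule F V) (x y : V) (hx : x ∉ H) (hy : y ∉ H)
    (hH : ∀ h ∈ H, B h y = B h x) (hxy : B y y = B x x) :
    ∃ g : V ≃ₗ[F] V, (∀ u v, B (g u) (g v) = B u v) ∧ (∀ h ∈ H, g h = h) ∧ g x = y := by
  classical
  have fin : ∀ T : V →ₗ[F] V, (∀ u v, B (T u) (T v) = B u v) → (∀ h ∈ H, T h = h) → T x = y →
      ∃ g : V ≃ₗ[F] V, (∀ u v, B (g u) (g v) = B u v) ∧ (∀ h ∈ H, g h = h) ∧ g x = y := by
    intro T hT hTH hTx
    obtain ⟨g, hg, hgT⟩ := exists_equiv (fun u v => B u v)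
      (fun v hv => hB.1 v fun w => by simpa using hv w) T hT
    exact ⟨g, hg, fun h hh => by rw [hgT, hTH h hh], by rw [hgT, hTx]⟩
  set d : V := y - x with hd
  have hdH : ∀ h ∈ H, B d h = 0 := fun h hh => by
    rw [← herm_symm hS h d, hd, map_sub, hH h hh, sub_self, map_zero]
  have hsum : B d d + B d x + σ (B d x) = 0 := by
    have e : y = x + d := by rw [hd]; abel
    have := hxy
    rw [e] at this
    simp only [map_add, LinearMap.add_apply] at this
    rw [herm_symm hS d x]
    linear_combination this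
  by_cases hdx : B d x = 0
  · have hdd : B d d = 0 := by
      rw [hdx, map_zero] at hsum; linear_combination hsum
    obtain ⟨g, hgH, hgx, hgy⟩ := exists_functional H hx hy
    obtain ⟨w, hw⟩ := herm_represent hσ2 B hB g
    obtain ⟨t, ht⟩ := exists_trace hσ hσ2 (herm_symm hS w w)
    have hw' : ∀ v, B v w = σ (g v) := fun v => by rw [← hw, herm_symm hS]
    have hγ : g y = 1 + g d := by rw [hd, map_sub, hgx]; ring
    set b : F := -(σ (g y))⁻¹ with hb
    have hb1 : 1 + b * σ (g d) + b = 0 := by
      have : b * σ (g y) = -1 := by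
        rw [hb]
        field_simp [(map_ne_zero σ).mpr hgy]
      rw [hγ, map_add, map_one] at this; linear_combination this
    have hb2 : 1 + σ b * g d + σ b = 0 := by
      have := congrArg σ hb1
      simpa [hσ2] using this
    refine fin (LinearMap.id + g.smulRight d + (B d).smulRight ((b * t) • d + b • w))
      (fun u v => ?_) (fun h hh => ?_) ?_
    · show B (u + g u • d + B d u • ((b * t) • d + b • w))
        (v + g v • d + B d v • ((b * t) • d + b • w)) = B u v
      simp only [map_add, map_smulₛₗ, LinearMap.add_apply, LinearMap.smul_apply, smul_eq_mul,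
        RingHom.id_apply, map_mul, hdd, hw, hw', ← herm_symm hS d u]
      rw [← hw w, hw' w, ← hw w] at *
      linear_combination (B d v * σ (g u) + σ (B d u) * B d v * σ b * σ t) * hb1
        + (σ (B d u) * g v + σ (B d u) * B d v * b * t) * hb2
        - σ (B d u) * B d v * b * σ b * ht
    · show h + g h • d + B d h • _ = h
      simp [hgH h hh, hdH h hh]
    · show x + g x • d + B d x • _ = y
      rw [hgx, hdx, hd]; simp
  · refine fin (LinearMap.id + (B d).smulRight ((B d x)⁻¹ • d)) (fun u v => ?_)
      (fun h hh => ?_) ?_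
    · show B (u + B d u • (B d x)⁻¹ • d) (v + B d v • (B d x)⁻¹ • d) = B u v
      simp only [map_add, map_smulₛₗ, LinearMap.add_apply, LinearMap.smul_apply, smul_eq_mul,
        RingHom.id_apply, map_inv₀, ← herm_symm hS d u]
      have h2 : σ (B d x) ≠ 0 := (map_ne_zero σ).mpr hdx
      field_simp
      linear_combination (σ (B d u) * B d v) * hsum
    · show h + B d h • _ = h
      simp [hdH h hh]
    · show x + B d x • (B d x)⁻¹ • d = y
      rw [smul_smul, mul_inv_cancel₀ hdx, hd]; simp

/-- **Witt's theorem** for non-degenerate hermitian forms. -/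
theorem herm_extend (hσ : σ ≠ RingHom.id F) (hσ2 : ∀ a, σ (σ a) = a) (B : V →ₛₗ[σ] V →ₗ[F] F)
    (hS : B.IsSymm) (hB : B.Nondegenerate)
    (X : Submodule F V) (φ : X →ₗ[F] V) (hinj : Function.Injective φ)
    (hφ : ∀ a b : X, B (φ a) (φ b) = B (a : V) (b : V)) :
    ∃ g : V ≃ₗ[F] V, (∀ u v, B (g u) (g v) = B u v) ∧ ∀ a : X, g (a : V) = φ a :=
  extend_of_step (fun u v => B u v)
    (fun H x y hx hy h1 h2 => herm_step hσ hσ2 B hS hB H x y hx hy h1 h2) X φ hinj hφ

end Hermitian

end Cfsg.Agent.Witt
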