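import Mathlib
import Cfsg.Agent.Lib.OrthUnitaryRefl
import Cfsg.Agent.Lib.Witt

/-!
The commutator subgroup of an orthogonal group over a finite field: the spinor character for odd
order, the Dickson invariant in characteristic two, index and membership criteria.
-/

set_option autoImplicit false

namespace Cfsg.Agent.OrthUnitaryOmega

open QuadraticMap
open Cfsg.Agent.OrthUnitaryQuad
open Cfsg.Agent.OrthUnitaryRefl

variable {F V : Type*} [Field F] [AddCommGroup V] [Module F V] {Q : QuadraticForm F V}

theorem isReg_of_nondegenerate (h : (polarBilin Q).Nondegenerate) : IsReg Q :=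
  fun x hx _ => h.1 x hx

theorem nondegenerate_of_isReg (h2 : (2 : F) ≠ 0) (hQ : IsReg Q) :
    (polarBilin Q).Nondegenerate := by
  have key : ∀ x, (∀ y, polar Q x y = 0) → x = 0 := fun x hx => by
    refine hQ x hx ?_
    have := hx x
    rw [polar_self_mul] at this
    exact (mul_eq_zero.1 this).resolve_left h2
  refine ⟨fun x hx => key x hx, fun x hx => key x fun y => ?_⟩
  rw [polar_comm]
  exact hx y

theorem eq_one_or_of_mem_closure_pair {G : Type*} [CommGroup G] {a b x : G} (ha : a * a = 1)
    (hb : b * b = 1) (hx : x ∈ Subgroup.closure ({a, b} : Set G)) :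
    x = 1 ∨ x = a ∨ x = b ∨ x = a * b := by
  induction hx using Subgroup.closure_induction with
  | mem y hy =>
    rcases hy with rfl | rfl
    · exact Or.inr (Or.inl rfl)
    · exact Or.inr (Or.inr (Or.inl rfl))
  | one => exact Or.inl rfl
  | mul y z _ _ hy hz =>
    have h1 : a * (a * b) = b := by rw [← mul_assoc, ha, one_mul]
    have h2 : b * (a * b) = a := by rw [mul_comm a b, ← mul_assoc, hb, one_mul]
    have h3 : (a * b) * (a * b) = 1 := by rw [mul_mul_mul_comm, ha, hb, one_mul]
    rcases hy with h | h | h | h <;> rcases hz with g | g | g | g <;> rw [h, g] <;>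
      simp [ha, hb, h1, h2, h3, mul_comm b a, mul_comm (a * b) a, mul_comm (a * b) b]
  | inv y _ hy =>
    rcases hy with rfl | rfl | rfl | rfl
    · simp
    · exact Or.inr (Or.inl (inv_eq_of_mul_eq_one_right ha))
    · exact Or.inr (Or.inr (Or.inl (inv_eq_of_mul_eq_one_right hb)))
    · refine Or.inr (Or.inr (Or.inr (inv_eq_of_mul_eq_one_right ?_)))
      rw [mul_mul_mul_comm, ha, hb, one_mul]

/-- A group isomorphism preserves the index of the commutator subgroup. -/
theorem map_commutator_equiv {A B : Type*} [Group A] [Group B] (e : A ≃* B) :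
    (commutator A).map e.toMonoidHom = commutator B := by
  rw [commutator_def, commutator_def, Subgroup.map_commutator,
    Subgroup.map_top_of_surjective _ e.surjective]

theorem mem_commutator_iff {A B : Type*} [Group A] [Group B] (e : A ≃* B) (x : A) :
    x ∈ commutator A ↔ e x ∈ commutator B := by
  rw [← map_commutator_equiv e]
  constructor
  · exact fun h => ⟨x, h, rfl⟩
  · rintro ⟨y, hy, hxy⟩
    rwa [← e.injective hxy]

/-! ### The two characters -/

/-- The determinant on the isometry group. -/
noncomputable def detHom (Q : QuadraticForm F V) : orth Q →* Fˣ :=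
  LinearEquiv.det.comp (orth Q).subtype

theorem detHom_refl [FiniteDimensional F V] (v : V) (hv : Q v ≠ 0) :
    detHom Q (refl Q v hv) = -1 := by
  apply Units.ext
  show ((LinearEquiv.det (refl Q v hv).1 : Fˣ) : F) = _
  rw [LinearEquiv.coe_det]
  have : ((refl Q v hv).1 : V →ₗ[F] V)
      = LinearMap.transvection ((-(Q v)⁻¹) • polarBilin Q v) v := by
    apply LinearMap.ext
    intro x
    show (refl Q v hv).1 x = x + _
    rw [refl_apply]
    simp only [LinearMap.smul_apply, polarBilin_apply_apply, smul_eq_mul]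
    module
  rw [this, LinearMap.transvection.det]
  simp only [LinearMap.smul_apply, polarBilin_apply_apply, polar_self_mul, smul_eq_mul,
    Units.val_neg, Units.val_one]
  field_simp
  ring

/-- The vectors of norm one. -/
abbrev Sphere (Q : QuadraticForm F V) : Type _ := {x : V // Q x = 1}

/-- The action on vectors of norm one. -/
def permHom (Q : QuadraticForm F V) : orth Q →* Equiv.Perm (Sphere Q) where
  toFun g := g.1.toEquiv.subtypeEquiv fun x => by
    show Q x = 1 ↔ Q (g.1 x) = 1
    rw [map_orth g]
  map_one' := by ext x; rfl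
  map_mul' a b := by ext x; rfl

/-- The sign of the action on vectors of norm one. -/
noncomputable def theta [Finite V] (Q : QuadraticForm F V) : orth Q →* ℤˣ :=
  haveI := Classical.decEq (Sphere Q)
  haveI := Fintype.ofFinite (Sphere Q)
  Equiv.Perm.sign.comp (permHom Q)

theorem exists_half [Fintype F] (h2 : (2 : F) ≠ 0) :
    ∃ H : Set F, (0 : F) ∉ H ∧ ∀ x : F, x ≠ 0 → (x ∈ H ↔ -x ∉ H) := by
  let e := Fintype.equivFin F
  refine ⟨{x | e x < e (-x)}, by simp, fun x hx => ?_⟩
  have hne : e x ≠ e (-x) := fun h => hx (by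
    have h' := e.injective h
    have : (2 : F) * x = 0 := by linear_combination h'
    exact (mul_eq_zero.1 this).resolve_left h2)
  simp only [Set.mem_setOf_eq, neg_neg, not_lt]
  exact ⟨le_of_lt, fun h => lt_of_le_of_ne h hne⟩

open scoped Classical in
/-- The sign of a reflection on the vectors of norm one. -/
theorem theta_refl [Fintype F] [Finite V] (h2 : (2 : F) ≠ 0) (v : V) (hv : Q v ≠ 0) :
    theta Q (refl Q v hv) = if IsSquare (Q v) then -1 else 1 := by
  letI := Fintype.ofFinite (Sphere Q)
  letI := Classical.decEq (Sphere Q)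
  rw [theta, MonoidHom.comp_apply]
  obtain ⟨H, h0, hH⟩ := exists_half (F := F) h2
  set σ := permHom Q (refl Q v hv) with hσ
  have hσapp : ∀ x : Sphere Q, (σ x).1 = (refl Q v hv).1 x.1 := fun x => rfl
  have hσ2 : σ ^ 2 = 1 := by rw [hσ, ← map_pow, pow_two, refl_sq, map_one]
  have hpol : ∀ x : V, polar Q v ((refl Q v hv).1 x) = -polar Q v x := fun x => by
    rw [refl_apply, polar_sub_right, polar_smul_right, polar_self_mul, smul_eq_mul]
    field_simp
    ring
  have hfix : ∀ x : Sphere Q, σ x = x ↔ polar Q v x.1 = 0 := by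
    intro x
    rw [Subtype.ext_iff, hσapp, refl_apply, sub_eq_self, smul_eq_zero,
      mul_eq_zero]
    have hv0 : v ≠ 0 := fun h => hv (by rw [h, QuadraticMap.map_zero])
    simp [hv, hv0]
  let P : Finset (Sphere Q) := Finset.univ.filter fun x => polar Q v x.1 ∈ H
  let N : Finset (Sphere Q) := Finset.univ.filter fun x => -(polar Q v x.1) ∈ H
  have hcardN : N.card = P.card := by
    refine Finset.card_bij' (fun x _ => σ x) (fun x _ => σ x) ?_ ?_ ?_ ?_
    · intro x hx
      simp only [N, P, Finset.mem_filter, Finset.mem_univ, true_and] at hx ⊢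
      rw [hσapp, hpol]; exact hx
    · intro x hx
      simp only [N, P, Finset.mem_filter, Finset.mem_univ, true_and] at hx ⊢
      rw [hσapp, hpol, neg_neg]; exact hx
    · intro x _; rw [← Equiv.Perm.mul_apply, ← pow_two, hσ2]; rfl
    · intro x _; rw [← Equiv.Perm.mul_apply, ← pow_two, hσ2]; rfl
  have hsupp : σ.support = P ∪ N := by
    ext x
    simp only [Equiv.Perm.mem_support, ne_eq, hfix, Finset.mem_union, P, N, Finset.mem_filter,
      Finset.mem_univ, true_and]
    by_cases hx : polar Q v x.1 = 0
    · simp [hx, h0]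
    · simp only [hx, not_false_eq_true, true_iff]
      rw [hH _ hx]
      exact (em' _).symm.symm
  have hdisj : Disjoint P N := by
    rw [Finset.disjoint_left]
    intro x hx hx'
    simp only [P, N, Finset.mem_filter, Finset.mem_univ, true_and] at hx hx'
    exact (hH _ (fun h => h0 (h ▸ hx))).1 hx hx'
  have hsign : Equiv.Perm.sign σ = (-1) ^ P.card := by
    rw [Equiv.Perm.sign_of_pow_two_eq_one hσ2, Equiv.Perm.card_fixedPoints,
      Equiv.Perm.sum_cycleType, hsupp, Finset.card_union_of_disjoint hdisj, hcardN]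
    congr 1
    have : P.card + P.card ≤ Fintype.card (Sphere Q) := by
      have := Finset.card_le_univ (P ∪ N)
      rwa [Finset.card_union_of_disjoint hdisj, hcardN] at this
    omega
  rw [hsign]
  -- the involution `x ↦ - σ x` on the positive half
  have hneg : ∀ x : V, polar Q v (-(refl Q v hv).1 x) = polar Q v x := fun x => by
    rw [polar_neg_right, hpol, neg_neg]
  let A := {x : Sphere Q // polar Q v x.1 ∈ H}
  have hinv : ∀ x : V, -(refl Q v hv).1 (-(refl Q v hv).1 x) = x := fun x => by
    rw [map_neg, neg_neg]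
    exact reflMap_involutive hv x
  let τ : Equiv.Perm A := Function.Involutive.toPerm
    (fun x => ⟨⟨-(refl Q v hv).1 x.1.1, by rw [QuadraticMap.map_neg, map_orth]; exact x.1.2⟩,
      by rw [hneg]; exact x.2⟩)
    (fun x => Subtype.ext (Subtype.ext (hinv x.1.1)))
  have hτapp : ∀ x : A, (τ x).1.1 = -(refl Q v hv).1 x.1.1 := fun x => rfl
  have hτ2 : τ ^ 2 = 1 := by
    ext x
    exact hinv x.1.1
  have hmod := Equiv.Perm.card_compl_support_modEq (p := 2) (n := 1) (σ := τ)
    (by rw [pow_one]; exact hτ2)
  have hA : Fintype.card A = P.card := Fintype.card_subtype _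
  have hfixτ : ∀ x : A, x ∈ τ.supportᶜ ↔ x.1.1 = ((2 * Q v)⁻¹ * polar Q v x.1.1) • v := by
    intro x
    rw [Finset.mem_compl, Equiv.Perm.mem_support, ne_eq, not_not, Subtype.ext_iff, Subtype.ext_iff, hτapp]
    rw [refl_apply, neg_sub, sub_eq_iff_eq_add]
    constructor
    · intro h
      have h' : (2 : F) • x.1.1 = ((Q v)⁻¹ * polar Q v x.1.1) • v := by rw [h]; module
      calc x.1.1 = (2 : F)⁻¹ • ((2 : F) • x.1.1) := by rw [smul_smul, inv_mul_cancel₀ h2, one_smul]
        _ = _ := by rw [h', smul_smul, mul_inv]; ring_nf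
    · intro h
      rw [← two_smul F x.1.1]
      conv_rhs => rw [h]
      rw [smul_smul]
      congr 1
      field_simp
  have hsq : ∀ x : A, x ∈ τ.supportᶜ → IsSquare (Q v) ∧
      ∃ s : F, x.1.1 = s • v ∧ s * s * Q v = 1 ∧ 2 * s * Q v ∈ H := by
    intro x hx
    rw [hfixτ] at hx
    set s := (2 * Q v)⁻¹ * polar Q v x.1.1 with hs
    have h1 : s * s * Q v = 1 := by
      have := x.1.2
      rw [hx, QuadraticMap.map_smul, smul_eq_mul] at this
      exact this
    refine ⟨⟨s⁻¹, ?_⟩, s, hx, h1, ?_⟩
    · have hs0 : s ≠ 0 := fun h => by simp [h] at h1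
      field_simp
      linear_combination h1
    · have := x.2
      rw [hx, polar_smul_right, polar_self_mul, smul_eq_mul] at this
      rw [show 2 * s * Q v = s * (2 * Q v) by ring]
      exact this
  have hcard : τ.supportᶜ.card = if IsSquare (Q v) then 1 else 0 := by
    split_ifs with hsquare
    · obtain ⟨t, ht⟩ := hsquare
      have ht0 : t ≠ 0 := fun h => hv (by rw [ht, h, mul_zero])
      have hex : ∃ s : F, s * s * Q v = 1 ∧ 2 * s * Q v ∈ H := by
        by_cases hp : 2 * t⁻¹ * Q v ∈ H
        · exact ⟨t⁻¹, by rw [ht]; field_simp, hp⟩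
        · refine ⟨-t⁻¹, by rw [ht]; field_simp, ?_⟩
          have hne : 2 * t⁻¹ * Q v ≠ 0 := mul_ne_zero (mul_ne_zero h2 (inv_ne_zero ht0)) hv
          rw [show 2 * -t⁻¹ * Q v = -(2 * t⁻¹ * Q v) by ring]
          exact not_not.1 (mt (hH _ hne).2 hp)
      obtain ⟨s, hs, hsH⟩ := hex
      let x₀ : A := ⟨⟨s • v, by rw [QuadraticMap.map_smul, smul_eq_mul]; exact hs⟩, by
        rw [polar_smul_right, polar_self_mul, smul_eq_mul, show s * (2 * Q v) = 2 * s * Q v by ring]
        exact hsH⟩
      rw [Finset.card_eq_one]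
      refine ⟨x₀, Finset.eq_singleton_iff_unique_mem.2 ⟨?_, fun x hx => ?_⟩⟩
      · rw [hfixτ]
        show s • v = _
        rw [polar_smul_right, polar_self_mul, smul_eq_mul]
        congr 1
        field_simp
      · obtain ⟨-, s', hs'v, hs', hs'H⟩ := hsq x hx
        have hss : s' = s ∨ s' = -s :=
          mul_self_eq_mul_self_iff.1 (mul_right_cancel₀ hv (hs'.trans hs.symm))
        rcases hss with rfl | rfl
        · exact Subtype.ext (Subtype.ext hs'v)
        · exfalso
          refine (hH _ ?_).1 hsH ?_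
          · intro h; rw [h] at hsH; exact h0 hsH
          · rwa [show -(2 * s * Q v) = 2 * -s * Q v by ring]
    · rw [Finset.card_eq_zero, Finset.eq_empty_iff_forall_notMem]
      exact fun x hx => hsquare (hsq x hx).1
  rw [hcard, hA] at hmod
  split_ifs with hsquare
  · rw [if_pos hsquare] at hmod
    exact Odd.neg_one_pow (Nat.odd_iff.2 hmod.symm)
  · rw [if_neg hsquare] at hmod
    exact Even.neg_one_pow (Nat.even_iff.2 hmod.symm)

/-! ### Representing scalars -/

theorem ringChar_ne_two (h2 : (2 : F) ≠ 0) : ringChar F ≠ 2 := fun h => h2 (by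
  have := CharP.cast_eq_zero F (ringChar F)
  rw [h] at this
  exact_mod_cast this)

theorem card_mod_two [Fintype F] (h2 : (2 : F) ≠ 0) : Fintype.card F % 2 = 1 :=
  FiniteField.odd_card_of_char_ne_two (ringChar_ne_two h2)

theorem exists_map_eq [Fintype F] [FiniteDimensional F V] (hQ : IsReg Q)
    (hn : 2 ≤ Module.finrank F V) (c : F) : ∃ x : V, Q x = c := by
  by_cases h : ∀ x, Q x = 0 → x = 0
  · obtain ⟨v, hv⟩ := exists_map_ne_zero hQ (by omega)
    by_cases h2 : (2 : F) = 0
    · have : CharP F 2 := CharTwo.of_one_ne_zero_of_two_eq_zero one_ne_zero h2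
      obtain ⟨t, ht⟩ := FiniteField.isSquare_of_char_two (ringChar.eq F 2) (c / Q v)
      exact ⟨t • v, by rw [QuadraticMap.map_smul, smul_eq_mul, ← ht, div_mul_cancel₀ _ hv]⟩
    · have hv0 : v ≠ 0 := fun h0 => hv (by rw [h0, QuadraticMap.map_zero])
      have hlt : Submodule.span F {v} < ⊤ := by
        refine lt_top_iff_ne_top.2 fun he => ?_
        have := finrank_top F V
        rw [← he, finrank_span_singleton hv0] at this
        omega
      obtain ⟨z, -, hz⟩ := SetLike.exists_of_lt hlt
      set w := z - (polar Q v z / (2 * Q v)) • v with hw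
      have hperp : polar Q v w = 0 := by
        rw [hw, polar_sub_right, polar_smul_right, polar_self_mul, smul_eq_mul]
        field_simp
        ring
      have hQw : Q w ≠ 0 := fun h0 => hz (Submodule.mem_span_singleton.2
        ⟨_, (sub_eq_zero.1 (h _ h0)).symm⟩)
      obtain ⟨x, y, hxy⟩ := FiniteField.exists_root_sum_quadratic
        (f := Polynomial.C (Q v) * Polynomial.X ^ 2 + Polynomial.C 0 * Polynomial.X
          + Polynomial.C (-c))
        (g := Polynomial.C (Q w) * Polynomial.X ^ 2 + Polynomial.C 0 * Polynomial.X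
          + Polynomial.C 0)
        (Polynomial.degree_quadratic hv) (Polynomial.degree_quadratic hQw) (card_mod_two h2)
      simp at hxy
      refine ⟨x • v + y • w, ?_⟩
      rw [QuadraticMap.map_add (⇑Q), QuadraticMap.map_smul, QuadraticMap.map_smul,
        polar_smul_left, polar_smul_right, hperp]
      simp only [smul_eq_mul]
      linear_combination hxy
  · push Not at h
    obtain ⟨e, he, he0⟩ := h
    obtain ⟨U, φ, hφ, -, -⟩ := exists_split hQ he he0
    exact ⟨φ ((c, 1), 0), by simp [hφ, hypExt_apply]⟩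

/-! ### The Dickson invariant -/

section Dickson

open scoped Matrix

variable {n : ℕ}

/-- The strictly upper triangular part of a matrix. -/
def upper (M : Matrix (Fin n) (Fin n) F) : Matrix (Fin n) (Fin n) F :=
  Matrix.of fun i j => if i < j then M i j else 0

theorem upper_add (h2 : (2 : F) = 0) {M : Matrix (Fin n) (Fin n) F} (hsym : Mᵀ = M)
    (hdiag : ∀ i, M i i = 0) : upper M + (upper M)ᵀ = M := by
  have := h2
  ext i j
  simp only [upper, Matrix.add_apply, Matrix.transpose_apply, Matrix.of_apply]
  rcases lt_trichotomy i j with h | rfl | h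
  · simp [h, h.not_gt]
  · simp [hdiag]
  · rw [if_neg h.not_gt, if_pos h, zero_add]
    exact (congrFun (congrFun hsym i) j)

/-- A homomorphism to `(F, +)` taking the value `1` on every reflection, in characteristic two. -/
theorem exists_dickson [Fintype F] [FiniteDimensional F V] (h2 : (2 : F) = 0)
    (hQ : (polarBilin Q).Nondegenerate) :
    ∃ D : orth Q →* Multiplicative F, ∀ v hv, D (refl Q v hv) = Multiplicative.ofAdd 1 := by
  have hneg : ∀ x : F, -x = x := fun x => by linear_combination -x * h2
  let b := Module.finBasis F V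
  let U : Matrix (Fin (Module.finrank F V)) (Fin (Module.finrank F V)) F :=
    LinearMap.toMatrix₂ b b (Q.toBilin b)
  let B := LinearMap.toMatrix₂ b b (polarBilin Q)
  have hQU : ∀ x, Q.toBilin b x x = Q x := fun x => by
    conv_rhs => rw [← QuadraticMap.toQuadraticMap_toBilin Q b]
    rfl
  have hBU : B = U + Uᵀ := by
    ext i j
    simp only [B, U, Matrix.add_apply, Matrix.transpose_apply, LinearMap.toMatrix₂_apply,
      polarBilin_apply_apply, polar, ← hQU, map_add, LinearMap.add_apply]
    ring
  have hBdet : B.det ≠ 0 :=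
    (LinearMap.nondegenerate_iff_det_ne_zero b).1 hQ
  let K := B⁻¹
  have hKB : K * B = 1 := Matrix.nonsing_inv_mul _ (isUnit_iff_ne_zero.2 hBdet)
  have hBK : B * K = 1 := Matrix.mul_nonsing_inv _ (isUnit_iff_ne_zero.2 hBdet)
  have hBT : Bᵀ = B := by rw [hBU, Matrix.transpose_add, Matrix.transpose_transpose, add_comm]
  have hKT : Kᵀ = K := by rw [Matrix.transpose_nonsing_inv, hBT]
  have hK : K = K * U * K + (K * U * K)ᵀ := by
    rw [Matrix.transpose_mul, Matrix.transpose_mul, hKT, ← mul_assoc, ← add_mul, ← mul_add, ← hBU,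
      hKB, one_mul]
  -- a symmetric matrix pairs to zero
  have hsym : ∀ S : Matrix (Fin (Module.finrank F V)) (Fin (Module.finrank F V)) F, Sᵀ = S →
      (K * S).trace = 0 := by
    intro S hS
    rw [hK, add_mul, Matrix.trace_add]
    have : ((K * U * K)ᵀ * S).trace = ((K * U * K) * S).trace := by
      conv_lhs => rw [← hS]
      rw [← Matrix.transpose_mul, Matrix.trace_transpose, Matrix.trace_mul_comm]
    rw [this]
    linear_combination (K * U * K * S).trace * h2
  have hwd : ∀ γ δ : Matrix (Fin (Module.finrank F V)) (Fin (Module.finrank F V)) F,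
      γ + γᵀ = δ + δᵀ → (K * γ).trace = (K * δ).trace := by
    intro γ δ h
    have hS : (γ - δ)ᵀ = γ - δ := by
      ext i j
      have h' := congrFun (congrFun h i) j
      simp only [Matrix.add_apply, Matrix.transpose_apply] at h'
      simp only [Matrix.transpose_apply, Matrix.sub_apply]
      linear_combination h' + (δ i j - γ i j) * h2
    have h0 := hsym _ hS
    rw [mul_sub, Matrix.trace_sub] at h0
    exact sub_eq_zero.1 h0
  let M : orth Q → Matrix (Fin (Module.finrank F V)) (Fin (Module.finrank F V)) F :=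
    fun g => LinearMap.toMatrix b b g.1.toLinearMap
  have hM : ∀ g h, M (g * h) = M g * M h := fun g h => by
    show LinearMap.toMatrix b b (g.1.toLinearMap ∘ₗ h.1.toLinearMap) = _
    exact LinearMap.toMatrix_comp b b b _ _
  let G : orth Q → Matrix (Fin (Module.finrank F V)) (Fin (Module.finrank F V)) F :=
    fun g => (M g)ᵀ * U * M g - U
  have hGsym : ∀ g, (G g)ᵀ = G g := by
    intro g
    have hB' : (M g)ᵀ * B * M g = B := by
      have h1 : (polarBilin Q).compl₁₂ g.1.toLinearMap g.1.toLinearMap = polarBilin Q := by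
        apply LinearMap.ext; intro x; apply LinearMap.ext; intro y
        exact polar_orth g x y
      have h3 := LinearMap.toMatrix₂_compl₁₂ b b b b (polarBilin Q) g.1.toLinearMap g.1.toLinearMap
      rw [h1] at h3
      exact h3.symm
    rw [hBU] at hB'
    simp only [G, Matrix.transpose_sub, Matrix.transpose_mul, Matrix.transpose_transpose]
    rw [mul_add, add_mul, ← eq_sub_iff_add_eq'] at hB'
    rw [← mul_assoc, hB']
    ext i j
    simp only [Matrix.sub_apply, Matrix.add_apply, Matrix.transpose_apply]
    linear_combination (U i j - ((M g)ᵀ * U * M g) i j) * h2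
  have hGdiag : ∀ g i, G g i i = 0 := by
    intro g i
    have h3 := LinearMap.toMatrix₂_compl₁₂ b b b b (Q.toBilin b) g.1.toLinearMap g.1.toLinearMap
    have h4 := congrFun (congrFun h3 i) i
    rw [LinearMap.toMatrix₂_apply] at h4
    simp only [LinearMap.compl₁₂_apply, LinearEquiv.coe_coe] at h4
    simp only [G, Matrix.sub_apply]
    rw [← h4]
    simp only [U, LinearMap.toMatrix₂_apply, hQU, map_orth g, sub_self]
  have hG1 : ∀ g, upper (G g) + (upper (G g))ᵀ = G g := fun g =>
    upper_add h2 (hGsym g) (hGdiag g)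
  have hinv : ∀ g, M g * K * (M g)ᵀ = K := by
    intro g
    have hB' : (M g)ᵀ * B * M g = B := by
      have h1 : (polarBilin Q).compl₁₂ g.1.toLinearMap g.1.toLinearMap = polarBilin Q := by
        apply LinearMap.ext; intro x; apply LinearMap.ext; intro y
        exact polar_orth g x y
      have h3 := LinearMap.toMatrix₂_compl₁₂ b b b b (polarBilin Q) g.1.toLinearMap g.1.toLinearMap
      rw [h1] at h3
      exact h3.symm
    have hl : M g * K * (M g)ᵀ * B = 1 := by
      refine mul_eq_one_comm.1 ?_
      calc B * (M g * K * (M g)ᵀ) = B * M g * K * (M g)ᵀ := by simp only [mul_assoc]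
        _ = 1 := mul_eq_one_comm.1 (by
          calc (M g)ᵀ * (B * M g * K) = ((M g)ᵀ * B * M g) * K := by simp only [mul_assoc]
            _ = 1 := by rw [hB', hBK])
    exact (Matrix.inv_eq_left_inv hl).symm
  refine ⟨{ toFun := fun g => Multiplicative.ofAdd (K * upper (G g)).trace
            map_one' := ?_, map_mul' := ?_ }, ?_⟩
  · have h0 : G 1 = 0 := by
      show (LinearMap.toMatrix b b (LinearMap.id : V →ₗ[F] V))ᵀ * U *
        LinearMap.toMatrix b b (LinearMap.id : V →ₗ[F] V) - U = 0
      simp
    have : upper (G 1) = 0 := by rw [h0]; ext i j; simp [upper]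
    rw [this]
    simp
  · intro g h
    rw [← ofAdd_add]
    congr 1
    have hδ : upper (G (g * h)) + (upper (G (g * h)))ᵀ
        = ((M h)ᵀ * upper (G g) * M h + upper (G h))
          + ((M h)ᵀ * upper (G g) * M h + upper (G h))ᵀ := by
      rw [hG1]
      have : ((M h)ᵀ * upper (G g) * M h + upper (G h))
          + ((M h)ᵀ * upper (G g) * M h + upper (G h))ᵀ
          = (M h)ᵀ * (upper (G g) + (upper (G g))ᵀ) * M h + (upper (G h) + (upper (G h))ᵀ) := by
        rw [Matrix.transpose_add, Matrix.transpose_mul, Matrix.transpose_mul,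
          Matrix.transpose_transpose, mul_add, add_mul]
        simp only [mul_assoc]
        abel
      rw [this, hG1, hG1]
      simp only [G, hM, Matrix.transpose_mul, mul_sub, sub_mul, mul_assoc]
      abel
    rw [hwd _ _ hδ, mul_add, Matrix.trace_add]
    congr 1
    rw [← mul_assoc, Matrix.trace_mul_comm, ← mul_assoc, ← mul_assoc, hinv]
  · intro v hv
    show Multiplicative.ofAdd (K * upper (G (refl Q v hv))).trace = _
    congr 1
    set c := (Q v)⁻¹ with hc
    set x : Fin (Module.finrank F V) → F := fun i => b.repr v i with hx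
    set w := B *ᵥ x with hw
    set a := Uᵀ *ᵥ x with ha
    have hwj : ∀ j, w j = polar Q v (b j) := by
      intro j
      rw [polar_comm, ← polarBilin_apply_apply]
      conv_rhs => rw [← b.sum_repr v, map_sum]
      simp only [map_smul, smul_eq_mul, hw, Matrix.mulVec, dotProduct, B, LinearMap.toMatrix₂_apply,
        hx]
      exact Finset.sum_congr rfl fun i _ => mul_comm _ _
    have hxa : x ⬝ᵥ a = Q v := by
      rw [← hQU v]
      conv_rhs => rw [← b.sum_repr v]
      simp only [map_sum, LinearMap.sum_apply, LinearMap.smul_apply, map_smul, ha, hx, dotProduct,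
        Matrix.mulVec, Matrix.transpose_apply, U, LinearMap.toMatrix₂_apply, smul_eq_mul,
        Finset.mul_sum]
      exact Finset.sum_congr rfl fun i _ => Finset.sum_congr rfl fun j _ => by ring
    have hMr : M (refl Q v hv) = 1 + c • Matrix.vecMulVec x w := by
      ext i j
      simp only [M, LinearMap.toMatrix_apply, LinearEquiv.coe_coe, refl_apply, map_sub, map_smul,
        Finsupp.coe_sub, Finsupp.coe_smul, Pi.sub_apply, Pi.smul_apply, smul_eq_mul,
        Module.Basis.repr_self, Matrix.add_apply, Matrix.smul_apply, Matrix.vecMulVec_apply,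
        Finsupp.single_apply, Matrix.one_apply, hwj, hx, hc]
      rw [sub_eq_add_neg, hneg]
      simp only [eq_comm]
      ring
    have hab : U *ᵥ x = w - a := by rw [hw, ha, hBU, Matrix.add_mulVec, add_sub_cancel_right]
    have hGr : G (refl Q v hv) = c • Matrix.vecMulVec w a + (c • Matrix.vecMulVec w a)ᵀ := by
      simp only [G, hMr, Matrix.transpose_add, Matrix.transpose_smul, Matrix.transpose_one,
        Matrix.transpose_vecMulVec, add_mul, mul_add, one_mul, mul_one, Matrix.smul_mul,
        Matrix.mul_smul, Matrix.vecMulVec_mul, Matrix.mul_vecMulVec, Matrix.smul_mulVec, Matrix.vecMulVec_mulVec,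
        ← Matrix.mulVec_transpose, ← ha, hab, dotProduct_comm a x, hxa]
      ext i j
      simp only [Matrix.add_apply, Matrix.sub_apply, Matrix.smul_apply, Matrix.vecMulVec_apply,
        smul_eq_mul, op_smul_eq_mul, Pi.smul_apply, Pi.sub_apply, hc]
      field_simp
      linear_combination (w i * w j - w j * a i) * h2
    rw [hwd (upper (G (refl Q v hv))) (c • Matrix.vecMulVec w a) ((hG1 _).trans hGr),
      Matrix.mul_smul, Matrix.trace_smul, Matrix.mul_vecMulVec, Matrix.trace_vecMulVec, hw,
      Matrix.mulVec_mulVec, hKB, Matrix.one_mulVec, hxa, smul_eq_mul, inv_mul_cancel₀ hv]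

end Dickson

/-! ### Conjugacy of reflections and the commutator subgroup -/

variable [Fintype F]

theorem exists_orth_map_of_two_ne_zero (h2 : (2 : F) ≠ 0) {u v : V} (hu : Q u ≠ 0)
    (h : Q u = Q v) : ∃ g : orth Q, g.1 u = v := by
  by_cases hd : Q (u - v) = 0
  · have hp : Q (u + v) ≠ 0 := by
      intro hs
      rw [sub_eq_add_neg, QuadraticMap.map_add (⇑Q), QuadraticMap.map_neg, polar_neg_right, ← h]
        at hd
      rw [QuadraticMap.map_add (⇑Q), ← h] at hs
      have : (2 * 2) * Q u = 0 := by linear_combination hs + hd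
      exact hu ((mul_eq_zero.1 this).resolve_left (mul_ne_zero h2 h2))
    have hp' : Q (u - -v) ≠ 0 := by rwa [sub_neg_eq_add]
    have h1 := refl_sub_apply (show Q u = Q (-v) by rw [QuadraticMap.map_neg, h]) hp'
    have hv : Q v ≠ 0 := h ▸ hu
    refine ⟨refl Q v hv * refl Q _ hp', ?_⟩
    rw [orth_mul_apply, h1, map_neg, refl_apply, polar_self_mul,
      show (Q v)⁻¹ * (2 * Q v) = 2 by field_simp]
    module
  · exact ⟨_, refl_sub_apply h hd⟩

theorem exists_orth_map [FiniteDimensional F V] (hQ : (polarBilin Q).Nondegenerate) {u v : V}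
    (hu : Q u ≠ 0) (h : Q u = Q v) : ∃ g : orth Q, g.1 u = v := by
  by_cases h2 : (2 : F) = 0
  swap
  · exact exists_orth_map_of_two_ne_zero h2 hu h
  have hu0 : u ≠ 0 := fun h0 => hu (by rw [h0, QuadraticMap.map_zero])
  let e := LinearEquiv.toSpanNonzeroSingleton F V u hu0
  let φ : Submodule.span F {u} →ₗ[F] V :=
    (LinearMap.id : F →ₗ[F] F).smulRight v ∘ₗ e.symm.toLinearMap
  have hφ : ∀ t : F, φ (e t) = t • v := fun t => by simp [φ]
  have hv0 : v ≠ 0 := fun h0 => hu (by rw [h, h0, QuadraticMap.map_zero])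
  obtain ⟨g, hg, hgφ⟩ := Witt.quad_extend Q hQ (Submodule.span F {u}) φ (fun a a' haa => by
      obtain ⟨s, rfl⟩ := e.surjective a
      obtain ⟨t, rfl⟩ := e.surjective a'
      rw [hφ, hφ] at haa
      rw [smul_left_injective F hv0 haa]) (fun a => by
      obtain ⟨s, rfl⟩ := e.surjective a
      rw [hφ, QuadraticMap.map_smul, ← h]
      exact (QuadraticMap.map_smul Q s u).symm)
  refine ⟨⟨g, hg⟩, ?_⟩
  have := hgφ (e 1)
  rw [hφ, one_smul] at this
  rw [← this]
  simp [e]

/-- Reflections in vectors whose norms differ by a square have the same image modulo commutators. -/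
theorem of_refl_eq [FiniteDimensional F V] (hQ : (polarBilin Q).Nondegenerate) {u v : V}
    (hu : Q u ≠ 0) (hv : Q v ≠ 0) (hsq : IsSquare (Q v / Q u)) :
    Abelianization.of (refl Q u hu) = Abelianization.of (refl Q v hv) := by
  obtain ⟨t, ht⟩ := hsq
  have ht0 : t ≠ 0 := fun h0 => div_ne_zero hv hu (by rw [ht, h0, mul_zero])
  have hQt : Q (t • u) = Q v := by
    rw [QuadraticMap.map_smul, smul_eq_mul, ← ht, div_mul_cancel₀ _ hu]
  obtain ⟨g, hg⟩ := exists_orth_map hQ (by rw [hQt]; exact hv) hQt
  have h1 : refl Q v hv = g * refl Q u hu * g⁻¹ := by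
    rw [← refl_smul u hu ht0, conj_refl g]
    congr 1
    exact hg.symm
  rw [h1, map_mul, map_mul, map_inv, mul_comm (Abelianization.of g), mul_inv_cancel_right]

theorem isSquare_div_of_not [Fintype F] {x y : F} (hx : ¬ IsSquare x) (hy : ¬ IsSquare y) :
    IsSquare (y / x) := by
  classical
  have hx0 : x ≠ 0 := fun h => hx (h ▸ IsSquare.zero)
  have hy0 : y ≠ 0 := fun h => hy (h ▸ IsSquare.zero)
  have h2 : ringChar F ≠ 2 := fun h => hx (FiniteField.isSquare_of_char_two h x)
  rw [← quadraticChar_one_iff_isSquare (div_ne_zero hy0 hx0), div_eq_mul_inv, map_mul,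
    quadraticChar_neg_one_iff_not_isSquare.2 hy]
  have hxi : ¬ IsSquare x⁻¹ := by rwa [isSquare_inv]
  rw [quadraticChar_neg_one_iff_not_isSquare.2 hxi]
  norm_num

theorem closure_of_refl (hgen : reflGroup Q = ⊤) (S : Set (Abelianization (orth Q)))
    (hS : ∀ v hv, Abelianization.of (refl Q v hv) ∈ S) (g : orth Q) :
    Abelianization.of g ∈ Subgroup.closure S := by
  have hg : g ∈ reflGroup Q := hgen ▸ Subgroup.mem_top g
  induction hg using Subgroup.closure_induction with
  | mem g hg =>
    obtain ⟨v, hv, rfl⟩ := hg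
    exact Subgroup.subset_closure (hS v hv)
  | one => rw [map_one]; exact Subgroup.one_mem _
  | mul a c _ _ ha hc => rw [map_mul]; exact Subgroup.mul_mem _ ha hc
  | inv a _ ha => rw [map_inv]; exact Subgroup.inv_mem _ ha

open scoped Classical in
/-- In odd characteristic the commutator subgroup is cut out by the determinant and the spinor
character, and has index four in dimension at least two. -/
theorem odd_main [Finite V] [FiniteDimensional F V] (h2 : (2 : F) ≠ 0) (hQ : IsReg Q) :
    (∀ g : orth Q, g ∈ commutator (orth Q) ↔ detHom Q g = 1 ∧ theta Q g = 1) ∧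
      (2 ≤ Module.finrank F V → (commutator (orth Q)).index = 4) := by
  have hnd := nondegenerate_of_isReg h2 hQ
  have hgen := reflGroup_eq_top hQ (Or.inl ⟨-1, neg_ne_zero.2 one_ne_zero,
    fun h => h2 (by linear_combination -h)⟩)
  have hfwd : ∀ g : orth Q, g ∈ commutator (orth Q) → detHom Q g = 1 ∧ theta Q g = 1 :=
    fun g hg => ⟨Abelianization.commutator_subset_ker (detHom Q) hg,
      Abelianization.commutator_subset_ker (theta Q) hg⟩
  obtain ⟨A, B, hA2, hB2, hmem, hA, hB⟩ : ∃ A B : Abelianization (orth Q),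
      A * A = 1 ∧ B * B = 1 ∧ (∀ v hv, Abelianization.of (refl Q v hv) ∈ ({A, B} : Set _)) ∧
      (A = 1 ∨ ∃ a, A = Abelianization.of a ∧ detHom Q a = -1 ∧ theta Q a = -1) ∧
      (B = 1 ∨ ∃ a, B = Abelianization.of a ∧ detHom Q a = -1 ∧ theta Q a = 1) := by
    have hsq1 : ∀ u v hu hv, IsSquare (Q u) → IsSquare (Q v) →
        Abelianization.of (refl Q u hu) = Abelianization.of (refl Q v hv) :=
      fun u v hu hv h h' => of_refl_eq hnd hu hv (h'.div h)
    have hnsq : ∀ u v hu hv, ¬ IsSquare (Q u) → ¬ IsSquare (Q v) →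
        Abelianization.of (refl Q u hu) = Abelianization.of (refl Q v hv) :=
      fun u v hu hv h h' => of_refl_eq hnd hu hv (isSquare_div_of_not h h')
    let A : Abelianization (orth Q) :=
      if h : ∃ v, Q v ≠ 0 ∧ IsSquare (Q v) then Abelianization.of (refl Q h.choose h.choose_spec.1)
      else 1
    let B : Abelianization (orth Q) :=
      if h : ∃ v, Q v ≠ 0 ∧ ¬ IsSquare (Q v) then
        Abelianization.of (refl Q h.choose h.choose_spec.1)
      else 1
    refine ⟨A, B, ?_, ?_, fun v hv => ?_, ?_, ?_⟩
    · simp only [A]; split_ifs with h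
      · rw [← map_mul, refl_sq, map_one]
      · rw [mul_one]
    · simp only [B]; split_ifs with h
      · rw [← map_mul, refl_sq, map_one]
      · rw [mul_one]
    · by_cases hs : IsSquare (Q v)
      · left
        have h : ∃ v, Q v ≠ 0 ∧ IsSquare (Q v) := ⟨v, hv, hs⟩
        simp only [A, dif_pos h]
        exact hsq1 _ _ _ _ hs h.choose_spec.2
      · right
        have h : ∃ v, Q v ≠ 0 ∧ ¬ IsSquare (Q v) := ⟨v, hv, hs⟩
        simp only [B, dif_pos h, Set.mem_singleton_iff]
        exact hnsq _ _ _ _ hs h.choose_spec.2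
    · simp only [A]; split_ifs with h
      · exact Or.inr ⟨_, rfl, detHom_refl _ _, by rw [theta_refl h2, if_pos h.choose_spec.2]⟩
      · exact Or.inl rfl
    · simp only [B]; split_ifs with h
      · exact Or.inr ⟨_, rfl, detHom_refl _ _, by rw [theta_refl h2, if_neg h.choose_spec.2]⟩
      · exact Or.inl rfl
  have hcases : ∀ g : orth Q, Abelianization.of g = 1 ∨ Abelianization.of g = A ∨
      Abelianization.of g = B ∨ Abelianization.of g = A * B := fun g =>
    eq_one_or_of_mem_closure_pair hA2 hB2 (closure_of_refl hgen _ hmem g)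
  have hne : (-1 : Fˣ) ≠ 1 := fun h => h2 (by
    have := congrArg Units.val h
    simp only [Units.val_neg, Units.val_one] at this
    linear_combination -this)
  let χ : Abelianization (orth Q) →* Fˣ × ℤˣ := Abelianization.lift ((detHom Q).prod (theta Q))
  have hχ : ∀ g, χ (Abelianization.of g) = (detHom Q g, theta Q g) := fun g =>
    Abelianization.lift_apply_of _ g
  constructor
  · intro g
    refine ⟨hfwd g, fun ⟨hd, ht⟩ => ?_⟩
    rw [← Abelianization.ker_of, MonoidHom.mem_ker]
    have hg : χ (Abelianization.of g) = 1 := by rw [hχ, hd, ht]; rfl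
    rcases hcases g with h | h | h | h
    · exact h
    · rcases hA with hA | ⟨a, hA, hda, -⟩
      · rw [h, hA]
      · rw [h, hA, hχ, hda] at hg
        exact absurd (congrArg Prod.fst hg) hne
    · rcases hB with hB | ⟨a, hB, hda, -⟩
      · rw [h, hB]
      · rw [h, hB, hχ, hda] at hg
        exact absurd (congrArg Prod.fst hg) hne
    · rcases hA with hA | ⟨a, hA, hda, hta⟩ <;> rcases hB with hB | ⟨a', hB, hda', hta'⟩
      · rw [h, hA, hB, mul_one]
      · rw [h, hA, one_mul, hB, hχ, hda'] at hg
        exact absurd (congrArg Prod.fst hg) hne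
      · rw [h, hB, mul_one, hA, hχ, hda] at hg
        exact absurd (congrArg Prod.fst hg) hne
      · rw [h, hA, hB, map_mul, hχ, hχ, hta, hta'] at hg
        exact absurd (congrArg Prod.snd hg) (by simp)
  · intro hn
    obtain ⟨u, hu⟩ := exists_map_eq hQ hn 1
    obtain ⟨c, hc⟩ := FiniteField.exists_nonsquare (F := F) (ringChar_ne_two h2)
    obtain ⟨v, hv⟩ := exists_map_eq hQ hn c
    have hu0 : Q u ≠ 0 := by rw [hu]; exact one_ne_zero
    have hv0 : Q v ≠ 0 := by rw [hv]; exact fun h => hc (h ▸ IsSquare.zero)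
    have hAv : χ (Abelianization.of (refl Q u hu0)) = (-1, -1) := by
      rw [hχ, detHom_refl, theta_refl h2, if_pos (by rw [hu]; exact IsSquare.one)]
    have hBv : χ (Abelianization.of (refl Q v hv0)) = (-1, 1) := by
      rw [hχ, detHom_refl, theta_refl h2, if_neg (by rw [hv]; exact hc)]
    have hAu : A = Abelianization.of (refl Q u hu0) := by
      rcases hmem u hu0 with h | h
      · exact h.symm
      · rcases hB with hB | ⟨a, hB, -, hta⟩
        · rw [h, hB, map_one] at hAv
          exact absurd (congrArg Prod.fst hAv).symm hne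
        · rw [h, hB, hχ, hta] at hAv
          exact absurd (congrArg Prod.snd hAv).symm (by simp)
    have hBu : B = Abelianization.of (refl Q v hv0) := by
      rcases hmem v hv0 with h | h
      · rw [h, hAu, hAv] at hBv
        exact absurd (congrArg Prod.snd hBv) (by simp)
      · exact h.symm
    show Nat.card (Abelianization (orth Q)) = 4
    rw [← hAu] at hAv
    rw [← hBu] at hBv
    let φ : Bool × Bool → Abelianization (orth Q) := fun p =>
      (if p.1 then A else 1) * (if p.2 then B else 1)
    rw [← Nat.card_eq_of_bijective φ ?_, Nat.card_eq_fintype_card]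
    · rfl
    constructor
    · intro p p' h
      have h' := congrArg χ h
      obtain ⟨p₁, p₂⟩ := p
      obtain ⟨p₁', p₂'⟩ := p'
      cases p₁ <;> cases p₂ <;> cases p₁' <;> cases p₂' <;>
        simp [φ, hAv, hBv, Prod.ext_iff, hne, Ne.symm hne] at h' <;> rfl
    · intro x
      obtain ⟨g, rfl⟩ : ∃ g, Abelianization.of g = x :=
        QuotientGroup.mk_surjective (s := commutator (orth Q)) x
      rcases hcases g with h | h | h | h
      · exact ⟨(false, false), by simpa [φ] using h.symm⟩
      · exact ⟨(true, false), by simpa [φ] using h.symm⟩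
      · exact ⟨(false, true), by simpa [φ] using h.symm⟩
      · exact ⟨(true, true), by simpa [φ] using h.symm⟩

/-- In characteristic two the commutator subgroup is the kernel of the Dickson invariant. -/
theorem even_main [FiniteDimensional F V] (h2 : (2 : F) = 0)
    (hnd : (polarBilin Q).Nondegenerate)
    (hexc : Fintype.card F ≠ 2 ∨ Module.finrank F V ≠ 4)
    (D : orth Q →* Multiplicative F) (hD : ∀ v hv, D (refl Q v hv) = Multiplicative.ofAdd 1) :
    (∀ g : orth Q, g ∈ commutator (orth Q) ↔ D g = 1) ∧
      (∀ g : orth Q, D g = 1 ∨ D g = Multiplicative.ofAdd 1) ∧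
      (Module.finrank F V ≠ 0 → (commutator (orth Q)).index = 2) := by
  have hgen := reflGroup_eq_top (isReg_of_nondegenerate hnd)
    (hexc.imp_left exists_ne_zero_one)
  have hsq : ∀ x : F, IsSquare x := fun x => FiniteField.isSquare_of_char_two
    (by have : CharP F 2 := CharTwo.of_one_ne_zero_of_two_eq_zero one_ne_zero h2
        exact ringChar.eq F 2) x
  obtain ⟨A, hA2, hmem, hA⟩ : ∃ A : Abelianization (orth Q), A * A = 1 ∧
      (∀ v hv, Abelianization.of (refl Q v hv) = A) ∧
      (A = 1 ∨ ∃ a, A = Abelianization.of a ∧ D a = Multiplicative.ofAdd 1) := by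
    by_cases h : ∃ v, Q v ≠ 0
    · obtain ⟨u, hu⟩ := h
      exact ⟨_, by rw [← map_mul, refl_sq u hu, map_one],
        fun v hv => of_refl_eq hnd hv hu (hsq _), Or.inr ⟨_, rfl, hD u hu⟩⟩
    · exact ⟨1, one_mul 1, fun v hv => absurd ⟨v, hv⟩ h, Or.inl rfl⟩
  have hcases : ∀ g : orth Q, Abelianization.of g = 1 ∨ Abelianization.of g = A := fun g => by
    have := eq_one_or_of_mem_closure_pair hA2 hA2
      (closure_of_refl hgen {A, A} (fun v hv => Or.inl (hmem v hv)) g)
    rw [hA2] at this
    tauto
  have hχ : ∀ g, Abelianization.lift D (Abelianization.of g) = D g :=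
    fun g => Abelianization.lift_apply_of _ g
  have h10 : Multiplicative.ofAdd (1 : F) ≠ 1 := by simp
  refine ⟨fun g => ⟨fun hg => Abelianization.commutator_subset_ker D hg, fun hg => ?_⟩,
    fun g => ?_, fun hn => ?_⟩
  · rw [← Abelianization.ker_of, MonoidHom.mem_ker]
    rcases hcases g with h | h
    · exact h
    · rcases hA with hA | ⟨a, hA, hDa⟩
      · rw [h, hA]
      · rw [← hχ, h, hA, hχ, hDa] at hg
        exact absurd hg h10
  · rw [← hχ g]
    rcases hcases g with h | h
    · exact Or.inl (by rw [h, map_one])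
    · rcases hA with hA | ⟨a, hA, hDa⟩
      · exact Or.inl (by rw [h, hA, map_one])
      · exact Or.inr (by rw [h, hA, hχ, hDa])
  · obtain ⟨u, hu⟩ := exists_map_ne_zero (isReg_of_nondegenerate hnd) hn
    show Nat.card (Abelianization (orth Q)) = 2
    have hne : A ≠ 1 := fun h => by
      have := hχ (refl Q u hu)
      rw [hmem u hu, h, map_one, hD] at this
      exact h10 this.symm
    rw [Nat.card_eq_two_iff]
    refine ⟨1, A, hne.symm, Set.eq_univ_of_forall fun x => ?_⟩
    obtain ⟨g, rfl⟩ : ∃ g, Abelianization.of g = x :=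
        QuotientGroup.mk_surjective (s := commutator (orth Q)) x
    exact hcases g

end Cfsg.Agent.OrthUnitaryOmega
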