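import Mathlib
import Cfsg.Prelude.Def_Classical
import Cfsg.Prelude.Def_ClassicalGeometry
import Cfsg.Agent.Lib.OrthUnitaryOmega

/-!
Transfer of the results on `orth Q` to the Prelude's `isometryGroup`, `Omega`, `reflectionMatrix`.
-/

set_option autoImplicit false

namespace Cfsg.Agent.OrthUnitaryPrelude

open QuadraticMap
open Cfsg.Agent.OrthUnitaryQuad
open Cfsg.Agent.OrthUnitaryRefl
open Cfsg.Agent.OrthUnitaryOmega
open scoped Matrix

variable {F : Type*} [Field F] {ι : Type} [Fintype ι] [DecidableEq ι]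

/-- The Prelude's isometry group as linear equivalences. -/
noncomputable abbrev iso (Q : QuadraticForm F (ι → F)) : isometryGroup F ⇑Q ≃* orth Q :=
  isometryGroupEquiv Q ⇑Q fun _ => rfl

/-- The matrix of an element of the Prelude's isometry group. -/
abbrev mat {f : (ι → F) → F} (g : isometryGroup F f) : Matrix ι ι F :=
  ((g : Matrix.GeneralLinearGroup ι F) : Matrix ι ι F)

theorem isometryGroupEquiv_apply (Q : QuadraticForm F (ι → F)) (f : (ι → F) → F)
    (hf : ∀ v, f v = Q v) (g : isometryGroup F f) (x : ι → F) :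
    (isometryGroupEquiv Q f hf g).1 x = mat g *ᵥ x :=
  Matrix.GeneralLinearGroup.toLin_apply g.1 x

variable {Q : QuadraticForm F (ι → F)}

theorem iso_apply (g : isometryGroup F ⇑Q) (x : ι → F) : (iso Q g).1 x = mat g *ᵥ x :=
  isometryGroupEquiv_apply Q ⇑Q _ g x

theorem polarVec_dotProduct (v x : ι → F) : polarVec (⇑Q) v ⬝ᵥ x = polar Q v x := by
  conv_rhs => rw [← Finset.univ_sum_single x]
  rw [← QuadraticMap.polarBilin_apply_apply, map_sum]
  simp only [dotProduct]
  refine Finset.sum_congr rfl fun i _ => ?_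
  have : Pi.single i (x i) = x i • (Pi.single i 1 : ι → F) := by simp [← Pi.single_smul]
  rw [this, map_smul, QuadraticMap.polarBilin_apply_apply, smul_eq_mul, mul_comm]
  rfl

theorem reflectionMatrix_mulVec {v : ι → F} (hv : Q v ≠ 0) (x : ι → F) :
    reflectionMatrix (⇑Q) v *ᵥ x = (refl Q v hv).1 x := by
  rw [refl_apply, ← polarVec_dotProduct]
  simp [reflectionMatrix, Matrix.sub_mulVec, Matrix.smul_mulVec, Matrix.vecMulVec_mulVec, smul_smul]

theorem iso_eq_iff_mat (g : isometryGroup F ⇑Q) (k : orth Q) (M : Matrix ι ι F)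
    (hk : ∀ x, k.1 x = M *ᵥ x) : mat g = M ↔ iso Q g = k := by
  constructor
  · intro h
    exact orth_ext fun x => by rw [iso_apply, hk, h]
  · intro h
    exact Matrix.ext_iff_mulVec.2 fun x => by rw [← iso_apply, h, hk]

theorem mat_eq_reflectionMatrix_iff (g : isometryGroup F ⇑Q) {v : ι → F} (hv : Q v ≠ 0) :
    mat g = reflectionMatrix (⇑Q) v ↔ iso Q g = refl Q v hv :=
  iso_eq_iff_mat g _ _ fun x => (reflectionMatrix_mulVec hv x).symm

theorem mat_eq_reflectionMatrix_mul_iff (g : isometryGroup F ⇑Q) {u v : ι → F} (hu : Q u ≠ 0)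
    (hv : Q v ≠ 0) :
    mat g = reflectionMatrix (⇑Q) u * reflectionMatrix (⇑Q) v
      ↔ iso Q g = refl Q u hu * refl Q v hv :=
  iso_eq_iff_mat g _ _ fun x => by
    rw [orth_mul_apply, ← Matrix.mulVec_mulVec, reflectionMatrix_mulVec hv,
      reflectionMatrix_mulVec hu]

theorem det_mat (g : isometryGroup F ⇑Q) : (mat g).det = (detHom Q (iso Q g) : F) := by
  show _ = ((LinearEquiv.det (iso Q g).1 : Fˣ) : F)
  rw [LinearEquiv.coe_det, ← LinearMap.det_toLin' (mat g)]
  congr 1

theorem mem_specialIsometryGroup (g : isometryGroup F ⇑Q) :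
    g ∈ specialIsometryGroup F ⇑Q ↔ detHom Q (iso Q g) = 1 := by
  rw [Units.ext_iff, ← det_mat, specialIsometryGroup, MonoidHom.mem_ker, Units.ext_iff,
    MonoidHom.comp_apply, Matrix.GeneralLinearGroup.val_det_apply]
  rfl

theorem mem_Omega_iff (g : isometryGroup F ⇑Q) :
    g ∈ Omega F ⇑Q ↔ iso Q g ∈ commutator (orth Q) :=
  mem_commutator_iff (iso Q) g

theorem index_Omega : (Omega F ⇑Q).index = (commutator (orth Q)).index := by
  rw [← map_commutator_equiv (iso Q)]
  exact (Subgroup.index_map_equiv (H := Omega F ⇑Q) (iso Q)).symm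

theorem map_closure (S : Set (isometryGroup F ⇑Q)) :
    (Subgroup.closure S).map (iso Q).toMonoidHom = Subgroup.closure (iso Q '' S) :=
  MonoidHom.map_closure _ S

theorem finrank_pi : Module.finrank F (ι → F) = Fintype.card ι :=
  Module.finrank_fintype_fun_eq_card F

/-- The subgroup generated by products of two reflections. -/
noncomputable def pairGroup {V : Type*} [AddCommGroup V] [Module F V] (Q : QuadraticForm F V) :
    Subgroup (orth Q) :=
  Subgroup.closure {g | ∃ u v hu hv, g = refl Q u hu * refl Q v hv}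

theorem mem_pairGroup_or {V : Type*} [AddCommGroup V] [Module F V] {Q : QuadraticForm F V}
    (hgen : reflGroup Q = ⊤) (g : orth Q) :
    g ∈ pairGroup Q ∨ ((∃ v, Q v ≠ 0) ∧ ∀ v hv, refl Q v hv * g ∈ pairGroup Q) := by
  have hg : g ∈ reflGroup Q := hgen ▸ Subgroup.mem_top g
  induction hg using Subgroup.closure_induction_left with
  | one => exact Or.inl (Subgroup.one_mem _)
  | mul_left r hr y _ ih =>
    obtain ⟨v, hv, rfl⟩ := hr
    rcases ih with h | ⟨-, h⟩
    · refine Or.inr ⟨⟨v, hv⟩, fun u hu => ?_⟩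
      rw [← mul_assoc]
      exact Subgroup.mul_mem _ (Subgroup.subset_closure ⟨u, v, hu, hv, rfl⟩) h
    · exact Or.inl (h v hv)
  | inv_mul_cancel r hr y _ ih =>
    obtain ⟨v, hv, rfl⟩ := hr
    rw [inv_eq_of_mul_eq_one_right (refl_sq v hv)]
    rcases ih with h | ⟨-, h⟩
    · refine Or.inr ⟨⟨v, hv⟩, fun u hu => ?_⟩
      rw [← mul_assoc]
      exact Subgroup.mul_mem _ (Subgroup.subset_closure ⟨u, v, hu, hv, rfl⟩) h
    · exact Or.inl (h v hv)

/-- A character that is constantly a fixed non-trivial value on reflections cuts out the products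
of two reflections. -/
theorem mem_pairGroup_iff {V : Type*} [AddCommGroup V] [Module F V] {Q : QuadraticForm F V}
    (hgen : reflGroup Q = ⊤) {H : Type*} [CommGroup H] (χ : orth Q →* H) {ε : H} (hε : ε ≠ 1)
    (hχ : ∀ v hv, χ (refl Q v hv) = ε) (g : orth Q) : g ∈ pairGroup Q ↔ χ g = 1 := by
  have hfwd : ∀ x, x ∈ pairGroup Q → χ x = 1 := by
    intro x hx
    induction hx using Subgroup.closure_induction with
    | mem y hy =>
      obtain ⟨u, v, hu, hv, rfl⟩ := hy
      rw [map_mul, hχ, hχ v hv, ← hχ v hv, ← map_mul, refl_sq, map_one]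
    | one => rw [map_one]
    | mul a b _ _ ha hb => rw [map_mul, ha, hb, one_mul]
    | inv a _ ha => rw [map_inv, ha, inv_one]
  refine ⟨hfwd g, fun hg => ?_⟩
  rcases mem_pairGroup_or hgen g with h | ⟨⟨v, hv⟩, h⟩
  · exact h
  · have h1 := hfwd _ (h v hv)
    rw [map_mul, hg, mul_one, hχ] at h1
    exact absurd h1 hε

end Cfsg.Agent.OrthUnitaryPrelude
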