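import Mathlib
import Cfsg.Prelude.Def_Classical

/-!
Quadratic forms with non-degenerate polar form over finite fields, in any characteristic:
hyperbolic decompositions, anisotropic planes, isometries with the standard forms.
-/

set_option autoImplicit false

namespace Cfsg.Agent.QuadClassify

open QuadraticMap Module

variable {F : Type*} [Field F] {V : Type*} [AddCommGroup V] [Module F V]

/-! ### Gram matrices -/

/-- The Gram matrix of the polar form. -/
def gram {ι : Type*} (Q : QuadraticForm F V) (b : ι → V) : Matrix ι ι F :=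
  Matrix.of fun i j => polar Q (b i) (b j)

theorem gram_apply {ι : Type*} (Q : QuadraticForm F V) (b : ι → V) (i j : ι) :
    gram Q b i j = polar Q (b i) (b j) := rfl

theorem gram_change {ι : Type*} [Fintype ι] [DecidableEq ι] (Q : QuadraticForm F V)
    (b c : Basis ι F V) :
    (gram Q c).det = (b.toMatrix c).det * (b.toMatrix c).det * (gram Q b).det := by
  have h1 : ∀ d : Basis ι F V, gram Q d = LinearMap.toMatrix₂ d d (polarBilin Q) := by
    intro d; ext i j; simp [gram, LinearMap.toMatrix₂_apply]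
  rw [h1, h1, ← LinearMap.toMatrix₂_mul_basis_toMatrix b b c c (polarBilin Q),
    Matrix.det_mul, Matrix.det_mul, Matrix.det_transpose]
  ring

theorem isSquare_gram_det_iff {ι κ : Type*} [Fintype ι] [DecidableEq ι] [Fintype κ] [DecidableEq κ]
    (Q : QuadraticForm F V) (b : Basis ι F V) (c : Basis κ F V) :
    IsSquare (gram Q c).det ↔ IsSquare (gram Q b).det := by
  set e := c.indexEquiv b with he
  have h1 : (gram Q (c.reindex e)).det = (gram Q c).det := by
    have : gram Q (c.reindex e) = (gram Q c).submatrix e.symm e.symm := by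
      ext i j; simp [gram]
    rw [this, Matrix.det_submatrix_equiv_self]
  have hu : IsUnit (b.toMatrix (c.reindex e)).det :=
    (b.det_apply _) ▸ b.isUnit_det (c.reindex e)
  rw [← h1, gram_change Q b (c.reindex e)]
  set s := (b.toMatrix (c.reindex e)).det
  constructor
  · rintro ⟨r, hr⟩
    exact ⟨r / s, by rw [div_mul_div_comm, ← hr, mul_div_assoc]; field_simp [hu.ne_zero]⟩
  · rintro ⟨r, hr⟩
    exact ⟨s * r, by rw [hr]; ring⟩

/-! ### Non-degenerate subspaces and hyperbolic families -/

/-- The polar form is non-degenerate on `U`. -/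
def Nondeg (Q : QuadraticForm F V) (U : Submodule F V) : Prop :=
  ∀ u ∈ U, (∀ v ∈ U, polar Q u v = 0) → u = 0

theorem nondeg_top {Q : QuadraticForm F V} (hQ : (polarBilin Q).Nondegenerate) : Nondeg Q ⊤ :=
  fun u _ h => hQ.1 u fun v => h v trivial

/-- `Q` has no non-zero singular vector in `U`. -/
def Aniso (Q : QuadraticForm F V) (U : Submodule F V) : Prop :=
  ∀ u ∈ U, Q u = 0 → u = 0

/-- Hyperbolic pairs `e i, f i`. -/
structure Hyp {k : ℕ} (Q : QuadraticForm F V) (e f : Fin k → V) : Prop where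
  qe : ∀ i, Q (e i) = 0
  qf : ∀ i, Q (f i) = 0
  pef : ∀ i j, polar Q (e i) (f j) = if i = j then 1 else 0
  pee : ∀ i j, polar Q (e i) (e j) = 0
  pff : ∀ i j, polar Q (f i) (f j) = 0

theorem map_sum_ortho {ι : Type*} (Q : QuadraticForm F V) (s : Finset ι) (g : ι → V)
    (h : ∀ i ∈ s, ∀ j ∈ s, i ≠ j → polar Q (g i) (g j) = 0) :
    Q (∑ i ∈ s, g i) = ∑ i ∈ s, Q (g i) := by
  classical
  induction s using Finset.induction_on with
  | empty => simp
  | insert i s hi ih =>
    rw [Finset.sum_insert hi, Finset.sum_insert hi, QuadraticMap.map_add Q,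
      ih (fun a ha b hb => h a (Finset.mem_insert_of_mem ha) b (Finset.mem_insert_of_mem hb))]
    have : polar Q (g i) (∑ j ∈ s, g j) = 0 := by
      rw [← polarBilin_apply_apply, map_sum]
      refine Finset.sum_eq_zero fun j hj => ?_
      exact h i (Finset.mem_insert_self _ _) j (Finset.mem_insert_of_mem hj)
        (fun hij => hi (hij ▸ hj))
    rw [this, add_zero]

/-- The value of `Q` on a combination of hyperbolic pairs and an orthogonal vector. -/
theorem Hyp.value {k : ℕ} {Q : QuadraticForm F V} {e f : Fin k → V} (h : Hyp Q e f) (w : V)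
    (hew : ∀ i, polar Q (e i) w = 0) (hfw : ∀ i, polar Q (f i) w = 0) (a b : Fin k → F) :
    Q ((∑ i, a i • e i) + (∑ i, b i • f i) + w) = (∑ i, a i * b i) + Q w := by
  rw [← Finset.sum_add_distrib, QuadraticMap.map_add Q, map_sum_ortho]
  · have h1 : ∀ i, Q (a i • e i + b i • f i) = a i * b i := by
      intro i
      rw [QuadraticMap.map_add Q, QuadraticMap.map_smul, QuadraticMap.map_smul, h.qe, h.qf,
        polar_smul_left, polar_smul_right, h.pef]
      simp
    have h2 : polar Q (∑ i, (a i • e i + b i • f i)) w = 0 := by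
      rw [← polarBilin_apply_apply, map_sum, LinearMap.sum_apply]
      refine Finset.sum_eq_zero fun i _ => ?_
      simp [hew, hfw]
    simp [h1, h2]
  · intro i _ j _ hij
    simp only [polar_add_left, polar_add_right, polar_smul_left, polar_smul_right, h.pee, h.pff,
      h.pef, polar_comm Q (f i) (e j)]
    simp [hij, Ne.symm hij]

theorem Hyp.linearIndependent {k : ℕ} {ι : Type*} [Fintype ι] {Q : QuadraticForm F V}
    {e f : Fin k → V} (h : Hyp Q e f) {z : ι → V} (hz : LinearIndependent F z)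
    (hez : ∀ i l, polar Q (e i) (z l) = 0) (hfz : ∀ i l, polar Q (f i) (z l) = 0) :
    LinearIndependent F (Sum.elim (Sum.elim e f) z) := by
  classical
  rw [Fintype.linearIndependent_iff]
  intro c hc
  rw [Fintype.sum_sum_type, Fintype.sum_sum_type] at hc
  simp only [Sum.elim_inl, Sum.elim_inr] at hc
  have hl : ∀ i, c (.inl (.inl i)) = 0 := by
    intro i
    have := congrArg (polarBilin Q (f i)) hc
    rw [map_add, map_add, map_zero, map_sum, map_sum, map_sum] at this
    simpa [polar_comm Q (f i) (e _), h.pef, h.pff, hfz, Finset.sum_ite_eq'] using this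
  have hr : ∀ i, c (.inl (.inr i)) = 0 := by
    intro i
    have := congrArg (polarBilin Q (e i)) hc
    rw [map_add, map_add, map_zero, map_sum, map_sum, map_sum] at this
    simpa [h.pef, h.pee, hez, Finset.sum_ite_eq'] using this
  simp only [hl, hr, zero_smul, Finset.sum_const_zero, zero_add] at hc
  rintro ((i | i) | l)
  · exact hl i
  · exact hr i
  · exact Fintype.linearIndependent_iff.mp hz _ hc l

/-- The basis made of hyperbolic pairs and an orthogonal family of the complementary size. -/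
theorem Hyp.exists_basis [FiniteDimensional F V] {k : ℕ} {ι : Type*} [Fintype ι]
    {Q : QuadraticForm F V} {e f : Fin k → V} (h : Hyp Q e f) {z : ι → V}
    (hz : LinearIndependent F z) (hez : ∀ i l, polar Q (e i) (z l) = 0)
    (hfz : ∀ i l, polar Q (f i) (z l) = 0) (hcard : 2 * k + Fintype.card ι = finrank F V) :
    ∃ b : Basis ((Fin k ⊕ Fin k) ⊕ ι) F V,
      (∀ i, b (.inl (.inl i)) = e i) ∧ (∀ i, b (.inl (.inr i)) = f i) ∧ (∀ l, b (.inr l) = z l) ∧
      ∀ v, Q v = (∑ i, b.repr v (.inl (.inl i)) * b.repr v (.inl (.inr i))) +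
        Q (∑ l, b.repr v (.inr l) • z l) := by
  classical
  have hli := h.linearIndependent hz hez hfz
  have hsp := hli.span_eq_top_of_card_eq_finrank'
    (by simp only [Fintype.card_sum, Fintype.card_fin]; omega)
  refine ⟨Basis.mk hli hsp.ge, by simp, by simp, by simp, fun v => ?_⟩
  set b := Basis.mk hli hsp.ge with hb
  conv_lhs => rw [← b.sum_repr v, Fintype.sum_sum_type, Fintype.sum_sum_type]
  simp only [hb, Basis.mk_apply, Sum.elim_inl, Sum.elim_inr]
  exact h.value _ (fun i => by simp [← polarBilin_apply_apply, map_sum]; simp [hez])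
    (fun i => by simp [← polarBilin_apply_apply, map_sum]; simp [hfz]) _ _

/-! ### Singular vectors -/

theorem isSquare_of_two_eq_zero [Finite F] (h2 : (2 : F) = 0) (x : F) : IsSquare x := by
  cases nonempty_fintype F
  refine FiniteField.isSquare_of_char_two ?_ x
  by_contra h
  exact Ring.two_ne_zero h h2

theorem card_odd [Fintype F] (h2 : (2 : F) ≠ 0) : Fintype.card F % 2 = 1 := by
  refine FiniteField.odd_card_of_char_ne_two fun h => h2 ?_
  have := ringChar.charP F
  rw [h] at this
  exact CharP.cast_eq_zero F 2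

open Polynomial in
theorem exists_two_squares [Finite F] (h2 : (2 : F) ≠ 0) {a b : F} (ha : a ≠ 0) (hb : b ≠ 0)
    (c : F) : ∃ x y : F, a * x ^ 2 + b * y ^ 2 = c := by
  cases nonempty_fintype F
  obtain ⟨x, y, hxy⟩ := FiniteField.exists_root_sum_quadratic (R := F)
    (f := C a * X ^ 2) (g := C b * X ^ 2 - C c)
    (degree_C_mul_X_pow 2 ha)
    ((degree_sub_C (by rw [degree_C_mul_X_pow 2 hb]; norm_num)).trans (degree_C_mul_X_pow 2 hb))
    (card_odd h2)
  simp only [eval_pow, eval_X, eval_sub, eval_mul, eval_C] at hxy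
  exact ⟨x, y, by linear_combination hxy⟩

theorem exists_mem_ker [FiniteDimensional F V] (U : Submodule F V) (φ : V →ₗ[F] F)
    (h : 1 < finrank F U) : ∃ u ∈ U, φ u = 0 ∧ u ≠ 0 := by
  have h1 := LinearMap.finrank_range_add_finrank_ker (φ.comp U.subtype)
  have h2 := Submodule.finrank_le (LinearMap.range (φ.comp U.subtype))
  rw [Module.finrank_self] at h2
  obtain ⟨u, hu, hu0⟩ := Submodule.exists_mem_ne_zero_of_ne_bot
    (p := LinearMap.ker (φ.comp U.subtype)) (fun hb => by rw [hb, finrank_bot] at h1; omega)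
  exact ⟨u, u.2, hu, fun h0 => hu0 (Subtype.ext h0)⟩

theorem finrank_ker_inf [FiniteDimensional F V] (U : Submodule F V) (φ : V →ₗ[F] F) :
    finrank F U ≤ finrank F ↥(U ⊓ LinearMap.ker φ) + 1 := by
  have h1 := LinearMap.finrank_range_add_finrank_ker (φ.comp U.subtype)
  have h2 := Submodule.finrank_le (LinearMap.range (φ.comp U.subtype))
  rw [Module.finrank_self] at h2
  have h3 : finrank F (LinearMap.ker (φ.comp U.subtype)) = finrank F ↥(U ⊓ LinearMap.ker φ) := by
    rw [LinearMap.ker_comp, ← Submodule.map_comap_subtype]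
    exact (Submodule.equivMapOfInjective U.subtype U.injective_subtype _).finrank_eq
  omega

/-- In a subspace of dimension at least three there is a non-zero singular vector. -/
theorem exists_singular [Finite F] [FiniteDimensional F V] (Q : QuadraticForm F V)
    (U : Submodule F V) (h3 : 3 ≤ finrank F U) : ∃ u ∈ U, u ≠ 0 ∧ Q u = 0 := by
  classical
  obtain ⟨v, hv, hv0⟩ := Submodule.exists_mem_ne_zero_of_ne_bot (p := U)
    (fun hb => by rw [hb, finrank_bot] at h3; omega)
  by_cases hQv : Q v = 0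
  · exact ⟨v, hv, hv0, hQv⟩
  set U₁ := U ⊓ LinearMap.ker (polarBilin Q v) with hU₁
  have h1 : finrank F U ≤ finrank F U₁ + 1 := finrank_ker_inf U (polarBilin Q v)
  by_cases h2 : (2 : F) = 0
  · -- characteristic two: shift a vector of the kernel by a multiple of v
    obtain ⟨w, hw, hwv⟩ : ∃ w ∈ U₁, w ∉ F ∙ v := by
      by_contra hc
      push Not at hc
      have := Submodule.finrank_mono (show U₁ ≤ F ∙ v from hc)
      rw [finrank_span_singleton hv0] at this
      omega
    obtain ⟨r, hr⟩ := isSquare_of_two_eq_zero h2 (-Q w / Q v)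
    refine ⟨r • v + w, U.add_mem (U.smul_mem r hv) hw.1, fun h0 => hwv ?_, ?_⟩
    · rw [eq_neg_of_add_eq_zero_right h0]
      exact neg_mem (Submodule.smul_mem _ r (Submodule.mem_span_singleton_self v))
    · have hp : polar Q v w = 0 := hw.2
      rw [QuadraticMap.map_add Q, QuadraticMap.map_smul, polar_smul_left, hp, ← hr]
      simp [hQv]
  · obtain ⟨u, hu, hu0⟩ := Submodule.exists_mem_ne_zero_of_ne_bot (p := U₁)
      (fun hb => by rw [hb, finrank_bot] at h1; omega)
    by_cases hQu : Q u = 0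
    · exact ⟨u, hu.1, hu0, hQu⟩
    obtain ⟨w, hw, hwu, hw0⟩ := exists_mem_ker U₁ (polarBilin Q u) (by omega)
    by_cases hQw : Q w = 0
    · exact ⟨w, hw.1, hw0, hQw⟩
    obtain ⟨x, y, hxy⟩ := exists_two_squares h2 hQv hQu (-Q w)
    have hvu : polar Q v u = 0 := hu.2
    have hvw : polar Q v w = 0 := hw.2
    have huw : polar Q u w = 0 := hwu
    have hval : Q (x • v + y • u + w) = 0 := by
      simp only [QuadraticMap.map_add Q, QuadraticMap.map_smul, polar_add_left, polar_smul_left,
        polar_smul_right, hvu, hvw, huw, smul_eq_mul]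
      linear_combination hxy
    refine ⟨_, U.add_mem (U.add_mem (U.smul_mem x hv) (U.smul_mem y hu.1)) hw.1, fun h0 => ?_, hval⟩
    have h4 := congrArg (polarBilin Q w) h0
    simp only [map_add, map_smul, map_zero, polarBilin_apply_apply, polar_comm Q w v,
      polar_comm Q w u, hvw, huw, polar_self, smul_eq_mul, mul_zero, zero_add] at h4
    rcases mul_eq_zero.mp (show (2 : F) * Q w = 0 by simpa [two_smul, two_mul] using h4) with h5 | h5
    · exact h2 h5
    · exact hQw h5

/-- A singular vector of a non-degenerate subspace lies in a hyperbolic pair. -/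
theorem exists_partner (Q : QuadraticForm F V) {U : Submodule F V} (hU : Nondeg Q U) {u : V}
    (hu : u ∈ U) (hu0 : u ≠ 0) (hQu : Q u = 0) :
    ∃ f ∈ U, Q f = 0 ∧ polar Q u f = 1 := by
  obtain ⟨v, hv, hp⟩ : ∃ v ∈ U, polar Q u v ≠ 0 := by
    by_contra h; push Not at h; exact hu0 (hU u hu h)
  obtain ⟨w, hw, hp1⟩ : ∃ w ∈ U, polar Q u w = 1 :=
    ⟨(polar Q u v)⁻¹ • v, U.smul_mem _ hv, by rw [polar_smul_right, smul_eq_mul, inv_mul_cancel₀ hp]⟩
  refine ⟨w + (-Q w) • u, U.add_mem hw (U.smul_mem _ hu), ?_, ?_⟩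
  · rw [QuadraticMap.map_add Q, QuadraticMap.map_smul, hQu, polar_smul_right, polar_comm Q w u, hp1]
    simp
  · rw [polar_add_right, polar_smul_right, hp1, polar_self, hQu]
    simp

/-- Hyperbolic pairs with an orthogonal anisotropic complement, inside a subspace `U`. -/
def Decomp (Q : QuadraticForm F V) (U : Submodule F V) (k : ℕ) (e f : Fin k → V)
    (W : Submodule F V) : Prop :=
  Hyp Q e f ∧ W ≤ U ∧ (∀ i, e i ∈ U) ∧ (∀ i, f i ∈ U) ∧
    (∀ i, ∀ w ∈ W, polar Q (e i) w = 0 ∧ polar Q (f i) w = 0) ∧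
    2 * k + finrank F W = finrank F U ∧ Aniso Q W ∧ Nondeg Q W

/-- Orthogonal complement of a hyperbolic pair inside `U`. -/
theorem pair_complement [FiniteDimensional F V] (Q : QuadraticForm F V) {U : Submodule F V}
    (hU : Nondeg Q U) {u f : V} (hu : u ∈ U) (hf : f ∈ U) (hQu : Q u = 0) (hQf : Q f = 0)
    (huf : polar Q u f = 1) :
    Nondeg Q (U ⊓ LinearMap.ker (polarBilin Q u) ⊓ LinearMap.ker (polarBilin Q f)) ∧
      finrank F ↥(U ⊓ LinearMap.ker (polarBilin Q u) ⊓ LinearMap.ker (polarBilin Q f)) + 2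
        = finrank F U := by
  set U' := U ⊓ LinearMap.ker (polarBilin Q u) ⊓ LinearMap.ker (polarBilin Q f) with hU'
  have huu : polar Q u u = 0 := by rw [polar_self, hQu]; simp
  have hff : polar Q f f = 0 := by rw [polar_self, hQf]; simp
  have hfu : polar Q f u = 1 := by rw [polar_comm]; exact huf
  constructor
  · intro w hw horth
    refine hU w hw.1.1 fun v hv => ?_
    have h1 : v - polar Q f v • u - polar Q u v • f ∈ U' := by
      refine ⟨⟨U.sub_mem (U.sub_mem hv (U.smul_mem _ hu)) (U.smul_mem _ hf), ?_⟩, ?_⟩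
      · simp [huu, huf]
      · simp [hfu, hff]
    have h2 := horth _ h1
    have h3 : polar Q w u = 0 := by rw [polar_comm]; exact hw.1.2
    have h4 : polar Q w f = 0 := by rw [polar_comm]; exact hw.2
    simpa [polar_sub_right, polar_smul_right, h3, h4] using h2
  · let g : U →ₗ[F] F × F :=
      ((polarBilin Q u).comp U.subtype).prod ((polarBilin Q f).comp U.subtype)
    have hsurj : LinearMap.range g = ⊤ := by
      refine eq_top_iff.mpr fun p _ => ⟨⟨p.2 • u + p.1 • f, U.add_mem (U.smul_mem _ hu) (U.smul_mem _ hf)⟩, ?_⟩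
      simp [g, huu, huf, hff, hfu]
    have h1 := LinearMap.finrank_range_add_finrank_ker g
    rw [hsurj, finrank_top, Module.finrank_prod, Module.finrank_self] at h1
    have h2 : finrank F (LinearMap.ker g) = finrank F U' := by
      have : LinearMap.ker g = U'.comap U.subtype := by
        ext x; simp [g, hU']
      rw [this]
      exact (Submodule.comapSubtypeEquivOfLe (inf_le_left.trans inf_le_left)).finrank_eq
    omega

theorem exists_decomp_aux [Finite F] [FiniteDimensional F V] (Q : QuadraticForm F V) :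
    ∀ (n : ℕ) (U : Submodule F V), Nondeg Q U → finrank F U = n →
      ∃ (k : ℕ) (e f : Fin k → V) (W : Submodule F V), Decomp Q U k e f W ∧ finrank F W ≤ 2 := by
  intro n
  induction n using Nat.strong_induction_on with
  | _ n ih =>
    intro U hU hn
    by_cases ha : Aniso Q U
    · refine ⟨0, Fin.elim0, Fin.elim0, U, ⟨⟨fun i => i.elim0, fun i => i.elim0, fun i => i.elim0,
        fun i => i.elim0, fun i => i.elim0⟩, le_rfl, fun i => i.elim0, fun i => i.elim0,
        fun i => i.elim0, by simp, ha, hU⟩, ?_⟩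
      by_contra h
      obtain ⟨u, hu, hu0, hQu⟩ := exists_singular Q U (by omega)
      exact hu0 (ha u hu hQu)
    · obtain ⟨u, hu, hQu, hu0⟩ : ∃ u ∈ U, Q u = 0 ∧ u ≠ 0 := by
        simpa [Aniso] using ha
      obtain ⟨f₀, hf, hQf, huf⟩ := exists_partner Q hU hu hu0 hQu
      obtain ⟨hU', hdim⟩ := pair_complement Q hU hu hf hQu hQf huf
      obtain ⟨k, e, f, W, ⟨hH, hWU, heU, hfU, horth, hd, han, hnd⟩, hW2⟩ :=
        ih _ (by omega) _ hU' rfl
      have pu : ∀ i, polar Q u (e i) = 0 ∧ polar Q u (f i) = 0 ∧ polar Q f₀ (e i) = 0 ∧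
          polar Q f₀ (f i) = 0 := fun i => ⟨(heU i).1.2, (hfU i).1.2, (heU i).2, (hfU i).2⟩
      refine ⟨k + 1, Fin.cons u e, Fin.cons f₀ f, W, ⟨⟨?_, ?_, ?_, ?_, ?_⟩,
        hWU.trans (inf_le_left.trans inf_le_left), ?_, ?_, ?_, by omega, han, hnd⟩, hW2⟩
      · exact Fin.cases (by simpa using hQu) (fun i => by simpa using hH.qe i)
      · exact Fin.cases (by simpa using hQf) (fun i => by simpa using hH.qf i)
      · intro i j
        induction i using Fin.cases with
        | zero =>
          induction j using Fin.cases with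
          | zero => simpa using huf
          | succ j => simp [(pu j).2.1, (Fin.succ_ne_zero j).symm]
        | succ i =>
          induction j using Fin.cases with
          | zero => simp [polar_comm Q (e i), (pu i).2.2.1, Fin.succ_ne_zero i]
          | succ j => simp [hH.pef, Fin.succ_inj]
      · intro i j
        induction i using Fin.cases with
        | zero =>
          induction j using Fin.cases with
          | zero => simp [polar_self, hQu]
          | succ j => simp [(pu j).1]
        | succ i =>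
          induction j using Fin.cases with
          | zero => simp [polar_comm Q (e i), (pu i).1]
          | succ j => simp [hH.pee]
      · intro i j
        induction i using Fin.cases with
        | zero =>
          induction j using Fin.cases with
          | zero => simp [polar_self, hQf]
          | succ j => simp [(pu j).2.2.2]
        | succ i =>
          induction j using Fin.cases with
          | zero => simp [polar_comm Q (f i), (pu i).2.2.2]
          | succ j => simp [hH.pff]
      · exact Fin.cases (by simpa using hu) (fun i => by simpa using (heU i).1.1)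
      · exact Fin.cases (by simpa using hf) (fun i => by simpa using (hfU i).1.1)
      · intro i w hw
        induction i using Fin.cases with
        | zero => exact ⟨(hWU hw).1.2, (hWU hw).2⟩
        | succ i => simpa using horth i w hw

/-- Every non-degenerate space is a sum of hyperbolic planes and an anisotropic space of
dimension at most two. -/
theorem exists_decomp [Finite F] [FiniteDimensional F V] (Q : QuadraticForm F V)
    (hQ : (polarBilin Q).Nondegenerate) :
    ∃ (k : ℕ) (e f : Fin k → V) (W : Submodule F V), Decomp Q ⊤ k e f W ∧ finrank F W ≤ 2 :=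
  exists_decomp_aux Q _ ⊤ (nondeg_top hQ) rfl

/-! ### Anisotropic planes -/

theorem not_indep_two {x y : V} (hx : x ≠ 0) (h : ¬ LinearIndependent F ![x, y]) :
    ∃ s : F, s • x = y := by
  rw [LinearIndependent.pair_iff' hx] at h
  push Not at h
  exact h

theorem aniso_represents [Finite F] [FiniteDimensional F V] (Q : QuadraticForm F V)
    {W : Submodule F V} (ha : Aniso Q W) (hd : finrank F W = 2) (c : F) :
    ∃ x ∈ W, Q x = c := by
  obtain ⟨x, hx, hx0⟩ := Submodule.exists_mem_ne_zero_of_ne_bot (p := W)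
    (fun hb => by rw [hb, finrank_bot] at hd; omega)
  have hQx : Q x ≠ 0 := fun h => hx0 (ha x hx h)
  by_cases h2 : (2 : F) = 0
  · obtain ⟨s, hs⟩ := isSquare_of_two_eq_zero h2 (c / Q x)
    exact ⟨s • x, W.smul_mem s hx, by rw [QuadraticMap.map_smul, smul_eq_mul, ← hs, div_mul_cancel₀ _ hQx]⟩
  · obtain ⟨u, hu, hxu, hu0⟩ := exists_mem_ker W (polarBilin Q x) (by omega)
    have hQu : Q u ≠ 0 := fun h => hu0 (ha u hu h)
    obtain ⟨s, t, hst⟩ := exists_two_squares h2 hQx hQu c
    refine ⟨s • x + t • u, W.add_mem (W.smul_mem s hx) (W.smul_mem t hu), ?_⟩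
    have hp : polar Q x u = 0 := hxu
    simp only [QuadraticMap.map_add Q, QuadraticMap.map_smul, polar_smul_left, polar_smul_right,
      hp, smul_eq_mul]
    linear_combination hst

/-- An anisotropic non-degenerate plane has a normal basis. -/
theorem exists_plane_normal [Finite F] [FiniteDimensional F V] (Q : QuadraticForm F V)
    {W : Submodule F V} (ha : Aniso Q W) (hn : Nondeg Q W) (hd : finrank F W = 2) :
    ∃ x ∈ W, ∃ y ∈ W, LinearIndependent F ![x, y] ∧ Q x = 1 ∧ polar Q x y = 1 ∧
      ∀ t : F, t ^ 2 + t + Q y ≠ 0 := by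
  obtain ⟨x, hx, hQx⟩ := aniso_represents Q ha hd 1
  have hx0 : x ≠ 0 := by rintro rfl; simp at hQx
  obtain ⟨v, hv, hp⟩ : ∃ v ∈ W, polar Q x v ≠ 0 := by
    by_contra h; push Not at h; exact hx0 (hn x hx h)
  obtain ⟨y, hy, hy1, hli⟩ : ∃ y ∈ W, polar Q x y = 1 ∧ LinearIndependent F ![x, y] := by
    set y₁ := (polar Q x v)⁻¹ • v
    have hy1 : polar Q x y₁ = 1 := by rw [polar_smul_right, smul_eq_mul, inv_mul_cancel₀ hp]
    by_cases hli : LinearIndependent F ![x, y₁]
    · exact ⟨y₁, W.smul_mem _ hv, hy1, hli⟩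
    obtain ⟨s, hs⟩ := not_indep_two hx0 hli
    obtain ⟨u, hu, hxu, hu0⟩ := exists_mem_ker W (polarBilin Q x) (by omega)
    have hp' : polar Q x u = 0 := hxu
    refine ⟨y₁ + u, W.add_mem (W.smul_mem _ hv) hu,
      by rw [polar_add_right, hy1, hp', add_zero], ?_⟩
    rw [LinearIndependent.pair_iff' hx0]
    intro r hr
    have hu' : u = (r - s) • x := by
      rw [sub_smul, hr, ← hs]; abel
    rw [← hs, polar_smul_right, smul_eq_mul] at hy1
    rw [hu', polar_smul_right, smul_eq_mul] at hp'
    have hrs : r - s = 0 := by linear_combination s * hp' - (r - s) * hy1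
    exact hu0 (by rw [hu', hrs, zero_smul])
  refine ⟨x, hx, y, hy, hli, hQx, hy1, fun t ht => ?_⟩
  have h0 : t • x + y = 0 := by
    refine ha _ (W.add_mem (W.smul_mem t hx) hy) ?_
    rw [QuadraticMap.map_add Q, QuadraticMap.map_smul, polar_smul_left, hQx, hy1, smul_eq_mul,
      smul_eq_mul]
    linear_combination ht
  have := (LinearIndependent.pair_iff.mp hli t 1 (by rw [one_smul]; exact h0)).2
  exact one_ne_zero this

/-- The difference of two parameters of anisotropic binary forms has the required shape. -/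
theorem exists_shift [Finite F] {ζ ζ' : F} (h : ∀ t : F, t ^ 2 + t + ζ ≠ 0)
    (h' : ∀ t : F, t ^ 2 + t + ζ' ≠ 0) : ∃ α : F, α * (1 - α) * (1 - 4 * ζ) = ζ' - ζ := by
  classical
  by_cases h2 : (2 : F) = 0
  · let S : F →+ F := AddMonoidHom.mk' (fun t => t ^ 2 + t) (fun s t => by linear_combination s * t * h2)
    have hk : Nat.card S.ker = 2 := by
      have : (S.ker : Set F) = {0, 1} := by
        ext t
        constructor
        · intro ht
          have ht' : t * (t + 1) = 0 := by
            have := ht; simp only [SetLike.mem_coe, AddMonoidHom.mem_ker, S, AddMonoidHom.mk'_apply] at this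
            linear_combination this
          rcases mul_eq_zero.mp ht' with h0 | h0
          · exact Or.inl h0
          · exact Or.inr (show t = 1 by linear_combination h0 - h2)
        · rintro (rfl | rfl)
          · simp [S]
          · simp only [SetLike.mem_coe, AddMonoidHom.mem_ker, S, AddMonoidHom.mk'_apply]
            linear_combination h2
      change Nat.card (S.ker : Set F) = 2
      rw [this, Nat.card_coe_set_eq, Set.ncard_pair zero_ne_one]
    have hidx : S.range.index = 2 := by
      have e1 := AddSubgroup.index_mul_card S.range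
      have e2 := AddSubgroup.index_mul_card S.ker
      rw [AddSubgroup.index_ker, hk] at e2
      have hpos : 0 < Nat.card S.range := Nat.card_pos
      nlinarith
    have hz : ζ ∉ S.range := by
      rintro ⟨t, ht⟩
      exact h t (by simp only [S, AddMonoidHom.mk'_apply] at ht; linear_combination ht + ζ * h2)
    have hz' : ζ' ∉ S.range := by
      rintro ⟨t, ht⟩
      exact h' t (by simp only [S, AddMonoidHom.mk'_apply] at ht; linear_combination ht + ζ' * h2)
    obtain ⟨t, ht⟩ := (AddSubgroup.add_mem_iff_of_index_two hidx).mpr (iff_of_false hz hz')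
    simp only [S, AddMonoidHom.mk'_apply] at ht
    exact ⟨t, by linear_combination ht + (-t ^ 2 - t * (1 - t) * 2 * ζ + ζ) * h2⟩
  · have key : ∀ z : F, (∀ t : F, t ^ 2 + t + z ≠ 0) → ¬ IsSquare (1 - 4 * z) := by
      rintro z hz ⟨r, hr⟩
      exact hz ((r - 1) / 2) (by field_simp; linear_combination -hr)
    have hn := key ζ h
    have hn' := key ζ' h'
    cases nonempty_fintype F
    have hd0 : 1 - 4 * ζ ≠ 0 := fun e => hn (e ▸ IsSquare.zero)
    have hd0' : 1 - 4 * ζ' ≠ 0 := fun e => hn' (e ▸ IsSquare.zero)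
    obtain ⟨r, hr⟩ : IsSquare ((1 - 4 * ζ') * (1 - 4 * ζ)) := by
      rw [← quadraticChar_one_iff_isSquare (mul_ne_zero hd0' hd0), map_mul,
        quadraticChar_neg_one_iff_not_isSquare.mpr hn,
        quadraticChar_neg_one_iff_not_isSquare.mpr hn']
      rfl
    refine ⟨(1 + r / (1 - 4 * ζ)) / 2, ?_⟩
    field_simp
    linear_combination hr

/-- Moving a normal basis of an anisotropic plane to another parameter. -/
theorem plane_adjust [Finite F] (Q : QuadraticForm F V) {x y : V} (hx : Q x = 1)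
    (hxy : polar Q x y = 1) (hli : LinearIndependent F ![x, y])
    (hy : ∀ t : F, t ^ 2 + t + Q y ≠ 0) {ζ : F} (hζ : ∀ t : F, t ^ 2 + t + ζ ≠ 0) :
    ∃ y' ∈ Submodule.span F {x, y}, LinearIndependent F ![x, y'] ∧ polar Q x y' = 1 ∧ Q y' = ζ := by
  obtain ⟨α, hα⟩ := exists_shift hy hζ
  have hp : polar Q x (α • x + (1 - 2 * α) • y) = 1 := by
    rw [polar_add_right, polar_smul_right, polar_smul_right, polar_self, hx, hxy]
    simp only [smul_eq_mul, two_smul]; ring
  have hv : Q (α • x + (1 - 2 * α) • y) = ζ := by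
    rw [QuadraticMap.map_add Q, QuadraticMap.map_smul, QuadraticMap.map_smul, polar_smul_left,
      polar_smul_right, hx, hxy]
    simp only [smul_eq_mul]
    linear_combination hα
  refine ⟨_, ?_, ?_, hp, hv⟩
  · exact Submodule.mem_span_pair.mpr ⟨α, 1 - 2 * α, rfl⟩
  · rw [LinearIndependent.pair_iff]
    intro s t hst
    have h1 : (s + t * α) • x + (t * (1 - 2 * α)) • y = 0 := by
      rw [add_smul, ← smul_smul, ← smul_smul, add_assoc, ← smul_add]; exact hst
    obtain ⟨e1, e2⟩ := LinearIndependent.pair_iff.mp hli _ _ h1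
    have ht : t = 0 := by
      rcases mul_eq_zero.mp e2 with h | h
      · exact h
      · exfalso
        refine hζ (-α) ?_
        linear_combination -hα + Q y * (1 - 2 * α) * h
    exact ⟨by rw [ht] at e1; simpa using e1, ht⟩

/-! ### The standard forms as quadratic forms -/

/-- `Cfsg.quadFormPlus` as a quadratic form. -/
def qPlus (m : ℕ) (F : Type*) [Field F] : QuadraticForm F (Fin m ⊕ Fin m → F) :=
  ∑ i : Fin m, QuadraticMap.linMulLin (LinearMap.proj (Sum.inl i)) (LinearMap.proj (Sum.inr i))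

/-- The binary form `z₁² + a z₁ z₂ + b z₂²`. -/
def qBin (F : Type*) [Field F] (a b : F) : QuadraticForm F (Fin 2 → F) :=
  QuadraticMap.linMulLin (LinearMap.proj 0) (LinearMap.proj 0) +
    a • QuadraticMap.linMulLin (LinearMap.proj 0) (LinearMap.proj 1) +
    b • QuadraticMap.linMulLin (LinearMap.proj 1) (LinearMap.proj 1)

/-- `Cfsg.quadFormMinus` as a quadratic form. -/
def qMinus (m : ℕ) (F : Type*) [Field F] (a b : F) :
    QuadraticForm F ((Fin m ⊕ Fin m) ⊕ Fin 2 → F) :=
  (qPlus m F).comp (LinearMap.funLeft F F Sum.inl) + (qBin F a b).comp (LinearMap.funLeft F F Sum.inr)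

/-- `Cfsg.quadFormOdd` as a quadratic form. -/
def qOdd (m : ℕ) (F : Type*) [Field F] : QuadraticForm F (Unit ⊕ (Fin m ⊕ Fin m) → F) :=
  QuadraticMap.linMulLin (LinearMap.proj (Sum.inl ())) (LinearMap.proj (Sum.inl ())) +
    (qPlus m F).comp (LinearMap.funLeft F F Sum.inr)

theorem qPlus_apply (m : ℕ) (v : Fin m ⊕ Fin m → F) : qPlus m F v = Cfsg.quadFormPlus m F v := by
  simp [qPlus, Cfsg.quadFormPlus]

theorem qBin_apply (a b : F) (v : Fin 2 → F) :
    qBin F a b v = v 0 ^ 2 + a * v 0 * v 1 + b * v 1 ^ 2 := by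
  simp [qBin]; ring

theorem qMinus_apply (m : ℕ) (a b : F) (v : (Fin m ⊕ Fin m) ⊕ Fin 2 → F) :
    qMinus m F a b v = Cfsg.quadFormMinus m F a b v := by
  simp [qMinus, qPlus_apply, qBin_apply, Cfsg.quadFormMinus, Cfsg.quadFormPlus]

theorem qOdd_apply (m : ℕ) (v : Unit ⊕ (Fin m ⊕ Fin m) → F) :
    qOdd m F v = Cfsg.quadFormOdd m F v := by
  simp [qOdd, qPlus_apply, Cfsg.quadFormOdd, Cfsg.quadFormPlus, pow_two]

theorem qPlus_coe (m : ℕ) : ⇑(qPlus m F) = Cfsg.quadFormPlus m F := funext (qPlus_apply m)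

theorem qMinus_coe (m : ℕ) (a b : F) : ⇑(qMinus m F a b) = Cfsg.quadFormMinus m F a b :=
  funext (qMinus_apply m a b)

theorem qOdd_coe (m : ℕ) : ⇑(qOdd m F) = Cfsg.quadFormOdd m F := funext (qOdd_apply m)

/-- A decomposition without anisotropic part gives an isometry with the plus form. -/
theorem iso_plus [FiniteDimensional F V] (Q : QuadraticForm F V) {k : ℕ} {e f : Fin k → V}
    (h : Hyp Q e f) (hdim : finrank F V = 2 * k) :
    ∃ g : V ≃ₗ[F] (Fin k ⊕ Fin k → F), ∀ v, Cfsg.quadFormPlus k F (g v) = Q v := by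
  obtain ⟨b, -, -, -, hval⟩ := h.exists_basis (ι := Fin 0) (z := Fin.elim0)
    linearIndependent_empty_type (fun _ l => l.elim0) (fun _ l => l.elim0) (by simp [hdim])
  refine ⟨b.equivFun.trans (LinearEquiv.funCongrLeft F F (Equiv.sumEmpty _ _).symm), fun v => ?_⟩
  rw [hval v]
  simp [Cfsg.quadFormPlus, LinearEquiv.funCongrLeft_apply, LinearMap.funLeft_apply]

/-- A decomposition with anisotropic plane gives an isometry with any minus form `(1, ζ)`. -/
theorem iso_minus_one [Finite F] [FiniteDimensional F V] (Q : QuadraticForm F V) {k : ℕ}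
    {e f : Fin k → V} {W : Submodule F V} (h : Decomp Q ⊤ k e f W) (hW : finrank F W = 2)
    {ζ : F} (hζ : ∀ t : F, t ^ 2 + t + ζ ≠ 0) :
    ∃ g : V ≃ₗ[F] ((Fin k ⊕ Fin k) ⊕ Fin 2 → F), ∀ v, Cfsg.quadFormMinus k F 1 ζ (g v) = Q v := by
  obtain ⟨hH, -, -, -, horth, hd, han, hnd⟩ := h
  obtain ⟨x, hx, y, hy, hli, hQx, hxy, hroot⟩ := exists_plane_normal Q han hnd hW
  obtain ⟨y', hy', hli', hxy', hQy'⟩ := plane_adjust Q hQx hxy hli hroot hζ
  have hy'W : y' ∈ W :=
    Submodule.span_le.mpr (by simp [Set.insert_subset_iff, hx, hy]) hy'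
  rw [finrank_top] at hd
  have hmem : ∀ l, (![x, y'] : Fin 2 → V) l ∈ W := fun l => by fin_cases l <;> assumption
  obtain ⟨b, -, -, -, hval⟩ := hH.exists_basis hli'
    (fun i l => (horth i _ (hmem l)).1) (fun i l => (horth i _ (hmem l)).2) (by simp; omega)
  refine ⟨b.equivFun, fun v => ?_⟩
  rw [hval v, Fin.sum_univ_two, QuadraticMap.map_add Q, QuadraticMap.map_smul,
    QuadraticMap.map_smul, polar_smul_left, polar_smul_right]
  simp [Cfsg.quadFormMinus, hQx, hxy', hQy']
  ring

theorem qBin_aniso {a b : F}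
    (hab : ∀ z₁ z₂ : F, z₁ ^ 2 + a * z₁ * z₂ + b * z₂ ^ 2 = 0 → z₁ = 0 ∧ z₂ = 0) :
    Aniso (qBin F a b) ⊤ := by
  intro v _ hv
  rw [qBin_apply] at hv
  obtain ⟨h0, h1⟩ := hab _ _ hv
  funext i
  fin_cases i
  · exact h0
  · exact h1

theorem qBin_disc_ne [Finite F] {a b : F}
    (hab : ∀ z₁ z₂ : F, z₁ ^ 2 + a * z₁ * z₂ + b * z₂ ^ 2 = 0 → z₁ = 0 ∧ z₂ = 0) :
    4 * b - a ^ 2 ≠ 0 := by
  intro h
  by_cases h2 : (2 : F) = 0
  · have ha : a = 0 := (pow_eq_zero_iff two_ne_zero).mp (by linear_combination -h + 2 * b * h2)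
    obtain ⟨r, hr⟩ := isSquare_of_two_eq_zero h2 b
    exact one_ne_zero (hab r 1 (by rw [ha, hr]; linear_combination r * r * h2)).2
  · exact one_ne_zero (hab (-a / 2) 1 (by field_simp; linear_combination h)).2

theorem qBin_nondeg [Finite F] {a b : F}
    (hab : ∀ z₁ z₂ : F, z₁ ^ 2 + a * z₁ * z₂ + b * z₂ ^ 2 = 0 → z₁ = 0 ∧ z₂ = 0) :
    Nondeg (qBin F a b) ⊤ := by
  intro u _ hu
  have hp : ∀ v : Fin 2 → F, polar (qBin F a b) u v =
      2 * u 0 * v 0 + a * (u 0 * v 1 + u 1 * v 0) + 2 * b * u 1 * v 1 := by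
    intro v
    simp only [polar, qBin_apply, Pi.add_apply]
    ring
  have h0 := hu ![1, 0] trivial
  have h1 := hu ![0, 1] trivial
  simp only [hp, Matrix.cons_val_zero, Matrix.cons_val_one] at h0 h1
  have d0 : (4 * b - a ^ 2) * u 0 = 0 := by linear_combination 2 * b * h0 - a * h1
  have d1 : (4 * b - a ^ 2) * u 1 = 0 := by linear_combination 2 * h1 - a * h0
  have hd := qBin_disc_ne hab
  funext i
  fin_cases i
  · exact (mul_eq_zero.mp d0).resolve_left hd
  · exact (mul_eq_zero.mp d1).resolve_left hd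

/-- All anisotropic binary forms are isometric. -/
theorem exists_zeta [Finite F] {a b : F}
    (hab : ∀ z₁ z₂ : F, z₁ ^ 2 + a * z₁ * z₂ + b * z₂ ^ 2 = 0 → z₁ = 0 ∧ z₂ = 0) :
    ∃ (ζ : F) (g : (Fin 2 → F) ≃ₗ[F] (Fin 2 → F)), (∀ t : F, t ^ 2 + t + ζ ≠ 0) ∧
      ∀ v, qBin F a b (g v) = qBin F 1 ζ v := by
  obtain ⟨x, -, y, -, hli, hx, hxy, hy⟩ := exists_plane_normal (qBin F a b) (qBin_aniso hab)
    (qBin_nondeg hab) (by simp)
  let B : Basis (Fin 2) F (Fin 2 → F) := basisOfLinearIndependentOfCardEqFinrank hli (by simp)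
  refine ⟨qBin F a b y, B.equivFun.symm, hy, fun v => ?_⟩
  have hB : ⇑B = ![x, y] := coe_basisOfLinearIndependentOfCardEqFinrank hli _
  simp only [Basis.equivFun_symm_apply, Fin.sum_univ_two, hB, Matrix.cons_val_zero,
    Matrix.cons_val_one]
  rw [QuadraticMap.map_add (qBin F a b), QuadraticMap.map_smul, QuadraticMap.map_smul,
    polar_smul_left, polar_smul_right, hx, hxy, qBin_apply 1]
  simp only [smul_eq_mul]
  ring

/-- A decomposition with anisotropic plane gives an isometry with any minus form. -/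
theorem iso_minus [Finite F] [FiniteDimensional F V] (Q : QuadraticForm F V) {k : ℕ}
    {e f : Fin k → V} {W : Submodule F V} (h : Decomp Q ⊤ k e f W) (hW : finrank F W = 2)
    {a b : F} (hab : ∀ z₁ z₂ : F, z₁ ^ 2 + a * z₁ * z₂ + b * z₂ ^ 2 = 0 → z₁ = 0 ∧ z₂ = 0) :
    ∃ g : V ≃ₗ[F] ((Fin k ⊕ Fin k) ⊕ Fin 2 → F), ∀ v, Cfsg.quadFormMinus k F a b (g v) = Q v := by
  obtain ⟨ζ, g₂, hζ, hg₂⟩ := exists_zeta hab
  obtain ⟨g, hg⟩ := iso_minus_one Q h hW hζ
  let G : ((Fin k ⊕ Fin k) ⊕ Fin 2 → F) ≃ₗ[F] ((Fin k ⊕ Fin k) ⊕ Fin 2 → F) :=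
    (LinearEquiv.sumArrowLequivProdArrow _ _ F F).trans
      (((LinearEquiv.refl F (Fin k ⊕ Fin k → F)).prodCongr g₂).trans
        (LinearEquiv.sumArrowLequivProdArrow _ _ F F).symm)
  refine ⟨g.trans G, fun v => ?_⟩
  rw [← hg v, LinearEquiv.trans_apply]
  have h1 : ∀ i, G (g v) (Sum.inl i) = g v (Sum.inl i) := fun i => rfl
  have h2 : (fun i => G (g v) (Sum.inr i)) = g₂ (fun i => g v (Sum.inr i)) := rfl
  rw [← qMinus_apply, ← qMinus_apply]
  simp only [qMinus, QuadraticMap.add_apply, QuadraticMap.comp_apply]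
  congr 1
  exact (congrArg (qBin F a b) h2).trans (hg₂ _)

/-- Two spaces of equal dimension and equal even anisotropic part are isometric. -/
theorem iso_of_decomp [Finite F] [FiniteDimensional F V] {V' : Type*} [AddCommGroup V']
    [Module F V'] [FiniteDimensional F V'] (Q : QuadraticForm F V) (Q' : QuadraticForm F V')
    {k : ℕ} {e f : Fin k → V} {W : Submodule F V} (h : Decomp Q ⊤ k e f W)
    {e' f' : Fin k → V'} {W' : Submodule F V'} (h' : Decomp Q' ⊤ k e' f' W')
    (hW : finrank F W' = finrank F W) (he : finrank F W = 0 ∨ finrank F W = 2) :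
    ∃ g : V ≃ₗ[F] V', ∀ v, Q' (g v) = Q v := by
  rcases he with h0 | h0
  · have hd := h.2.2.2.2.2.1
    have hd' := h'.2.2.2.2.2.1
    rw [finrank_top] at hd hd'
    obtain ⟨g, hg⟩ := iso_plus Q h.1 (by omega)
    obtain ⟨g', hg'⟩ := iso_plus Q' h'.1 (by omega)
    exact ⟨g.trans g'.symm, fun v => by rw [← hg', LinearEquiv.trans_apply, g'.apply_symm_apply, hg]⟩
  · obtain ⟨x, -, y, -, -, -, -, hζ⟩ := exists_plane_normal Q h.2.2.2.2.2.2.1 h.2.2.2.2.2.2.2 h0
    obtain ⟨g, hg⟩ := iso_minus_one Q h h0 hζ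
    obtain ⟨g', hg'⟩ := iso_minus_one Q' h' (hW.trans h0) hζ
    exact ⟨g.trans g'.symm, fun v => by rw [← hg', LinearEquiv.trans_apply, g'.apply_symm_apply, hg]⟩

end Cfsg.Agent.QuadClassify
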