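import Mathlib
import Cfsg.Agent.Lib.OrthUnitaryPrelude
import Cfsg.Agent.Lib.QuadClassify

/-!
Membership in the commutator subgroup of an orthogonal group through lists of reflections, and the
two classes of maximal totally singular subspaces.
-/

set_option autoImplicit false

namespace Cfsg.Agent.OmegaClasses

open QuadraticMap Module
open Cfsg.Agent.OrthUnitaryQuad
open Cfsg.Agent.OrthUnitaryRefl
open Cfsg.Agent.OrthUnitaryOmega
open Cfsg.Agent.OrthUnitaryPrelude

variable {F V : Type*} [Field F] [AddCommGroup V] [Module F V] {Q : QuadraticForm F V}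

/-- All entries are non-singular. -/
def NS (Q : QuadraticForm F V) (vs : List V) : Prop := ∀ v ∈ vs, Q v ≠ 0

theorem NS.tail {v : V} {vs : List V} (h : NS Q (v :: vs)) : NS Q vs :=
  fun w hw => h w (List.mem_cons_of_mem _ hw)

theorem NS.head {v : V} {vs : List V} (h : NS Q (v :: vs)) : Q v ≠ 0 := h v (by simp)

theorem NS.append {vs ws : List V} (h : NS Q vs) (h' : NS Q ws) : NS Q (vs ++ ws) :=
  fun v hv => (List.mem_append.1 hv).elim (h v) (h' v)

open scoped Classical in
/-- The product of the reflections in a list of vectors. -/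
noncomputable def rprod (Q : QuadraticForm F V) : List V → orth Q
  | [] => 1
  | v :: vs => (if h : Q v ≠ 0 then refl Q v h else 1) * rprod Q vs

@[simp] theorem rprod_nil : rprod Q [] = 1 := rfl

theorem rprod_cons {v : V} (hv : Q v ≠ 0) (vs : List V) :
    rprod Q (v :: vs) = refl Q v hv * rprod Q vs := by
  rw [rprod, dif_pos hv]

theorem rprod_append (vs ws : List V) : rprod Q (vs ++ ws) = rprod Q vs * rprod Q ws := by
  induction vs with
  | nil => simp
  | cons v vs ih => simp only [List.cons_append, rprod, ih, mul_assoc]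

theorem rprod_singleton {v : V} (hv : Q v ≠ 0) : rprod Q [v] = refl Q v hv := by
  rw [rprod_cons hv, rprod_nil, mul_one]

theorem exists_rprod (hgen : reflGroup Q = ⊤) (g : orth Q) :
    ∃ vs, NS Q vs ∧ g = rprod Q vs := by
  have hg : g ∈ reflGroup Q := hgen ▸ Subgroup.mem_top g
  induction hg using Subgroup.closure_induction_left with
  | one => exact ⟨[], by simp [NS], rfl⟩
  | mul_left r hr y _ ih =>
    obtain ⟨v, hv, rfl⟩ := hr
    obtain ⟨vs, hvs, rfl⟩ := ih
    exact ⟨v :: vs, List.forall_mem_cons.2 ⟨hv, hvs⟩, (rprod_cons hv vs).symm⟩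
  | inv_mul_cancel r hr y _ ih =>
    obtain ⟨v, hv, rfl⟩ := hr
    obtain ⟨vs, hvs, rfl⟩ := ih
    exact ⟨v :: vs, List.forall_mem_cons.2 ⟨hv, hvs⟩, by
      rw [inv_eq_of_mul_eq_one_right (refl_sq v hv)]; exact (rprod_cons hv vs).symm⟩

/-- A reflection fixes the orthogonal vectors. -/
theorem rprod_fix {vs : List V} (hvs : NS Q vs) {x : V} (hx : ∀ v ∈ vs, polar Q v x = 0) :
    (rprod Q vs).1 x = x := by
  induction vs with
  | nil => rfl
  | cons v vs ih =>
    rw [rprod_cons hvs.head, orth_mul_apply, ih hvs.tail fun w hw => hx w (List.mem_cons_of_mem _ hw),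
      refl_apply, hx v (by simp)]
    simp

/-- Transport along an isometric linear map. -/
theorem rprod_map {W : Type*} [AddCommGroup W] [Module F W] {Q' : QuadraticForm F W}
    (j : V →ₗ[F] W) (hj : ∀ x, Q' (j x) = Q x) {vs : List V} (hvs : NS Q vs) (x : V) :
    (rprod Q' (vs.map j)).1 (j x) = j ((rprod Q vs).1 x) := by
  induction vs with
  | nil => rfl
  | cons v vs ih =>
    have hp : ∀ a b, polar Q' (j a) (j b) = polar Q a b := fun a b => by simp [polar, ← map_add, hj]
    rw [List.map_cons, rprod_cons (by rw [hj]; exact hvs.head), rprod_cons hvs.head, orth_mul_apply,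
      orth_mul_apply, ih hvs.tail, refl_apply, refl_apply, hj, hp, map_sub, map_smul]

theorem NS.map {W : Type*} [AddCommGroup W] [Module F W] {Q' : QuadraticForm F W}
    (j : V →ₗ[F] W) (hj : ∀ x, Q' (j x) = Q x) {vs : List V} (hvs : NS Q vs) :
    NS Q' (vs.map j) := by
  intro w hw
  obtain ⟨v, hv, rfl⟩ := List.mem_map.1 hw
  rw [hj]; exact hvs v hv

theorem prod_map {W : Type*} [AddCommGroup W] [Module F W] {Q' : QuadraticForm F W}
    (j : V →ₗ[F] W) (hj : ∀ x, Q' (j x) = Q x) (vs : List V) :
    ((vs.map j).map Q').prod = (vs.map Q).prod := by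
  rw [List.map_map]
  exact congrArg List.prod (List.map_congr_left fun v _ => hj v)

theorem conj_rprod (g : orth Q) {vs : List V} (hvs : NS Q vs) :
    g * rprod Q vs * g⁻¹ = rprod Q (vs.map g.1) := by
  induction vs with
  | nil => simp
  | cons v vs ih =>
    rw [List.map_cons, rprod_cons hvs.head, rprod_cons (by rw [map_orth g]; exact hvs.head),
      ← ih hvs.tail, ← conj_refl g v hvs.head]
    group

theorem prod_ne_zero {vs : List V} (hvs : NS Q vs) : (vs.map Q).prod ≠ 0 := by
  apply List.prod_ne_zero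
  simpa [NS] using hvs

theorem detHom_rprod [FiniteDimensional F V] {vs : List V} (hvs : NS Q vs) :
    detHom Q (rprod Q vs) = (-1) ^ vs.length := by
  induction vs with
  | nil => simp
  | cons v vs ih => rw [rprod_cons hvs.head, map_mul, detHom_refl, ih hvs.tail, List.length_cons,
      pow_succ']

/-! ### The membership criterion -/

theorem reflGroup_top [Fintype F] [FiniteDimensional F V] (hnd : (polarBilin Q).Nondegenerate)
    (hexc : Fintype.card F ≠ 2 ∨ finrank F V ≠ 4) : reflGroup Q = ⊤ :=
  reflGroup_eq_top (isReg_of_nondegenerate hnd) (hexc.imp_left exists_ne_zero_one)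

/-- A product of reflections is in the commutator subgroup exactly when it has even length and
square product of values. -/
theorem rprod_mem_iff [Fintype F] [FiniteDimensional F V] (hnd : (polarBilin Q).Nondegenerate)
    (hexc : Fintype.card F ≠ 2 ∨ finrank F V ≠ 4) {vs : List V} (hvs : NS Q vs) :
    rprod Q vs ∈ commutator (orth Q) ↔ Even vs.length ∧ IsSquare (vs.map Q).prod := by
  classical
  haveI : Finite V := Module.finite_of_finite F
  by_cases h2 : (2 : F) = 0
  · have hsq : IsSquare (vs.map Q).prod := QuadClassify.isSquare_of_two_eq_zero h2 _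
    obtain ⟨D, hD⟩ := exists_dickson h2 hnd
    rw [(even_main h2 hnd hexc D hD).1, and_iff_left hsq]
    have h10 : Multiplicative.ofAdd (1 : F) ≠ 1 := by simp
    have h11 : Multiplicative.ofAdd (1 : F) * Multiplicative.ofAdd 1 = 1 := by
      rw [← ofAdd_add, show (1 : F) + 1 = 0 by linear_combination h2]; rfl
    clear hsq
    induction vs with
    | nil => simp
    | cons v vs ih =>
      have hval : D (rprod Q vs) = 1 ∨ D (rprod Q vs) = Multiplicative.ofAdd 1 :=
        (even_main h2 hnd hexc D hD).2.1 _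
      have hih : D (rprod Q vs) = 1 ↔ Even vs.length := ih hvs.tail
      rw [rprod_cons hvs.head, map_mul, hD, List.length_cons, Nat.even_add_one]
      rcases hval with h | h
      · simp [h, hih.1 h]
      · have hne : ¬ Even vs.length := fun he => h10 (h ▸ hih.2 he)
        simp [h, h11, hne]
  · rw [(odd_main h2 (isReg_of_nondegenerate hnd)).1, detHom_rprod hvs]
    have ht : ((theta Q (rprod Q vs) : ℤˣ) : ℤ) =
        (-1) ^ vs.length * quadraticChar F (vs.map Q).prod := by
      induction vs with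
      | nil => simp
      | cons v vs ih =>
        have hv := hvs.head
        rw [rprod_cons hv, map_mul, theta_refl h2, List.map_cons, List.prod_cons, map_mul,
          Units.val_mul, ih hvs.tail, List.length_cons, pow_succ']
        split_ifs with hs
        · rw [(quadraticChar_one_iff_isSquare hv).2 hs, Units.val_neg, Units.val_one]; ring
        · rw [quadraticChar_neg_one_iff_not_isSquare.2 hs, Units.val_one]; ring
    have hne : (-1 : Fˣ) ≠ 1 := fun h => h2 (by
      have := congrArg Units.val h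
      simp only [Units.val_neg, Units.val_one] at this
      linear_combination -this)
    rw [show theta Q (rprod Q vs) = 1 ↔ ((theta Q (rprod Q vs) : ℤˣ) : ℤ) = 1 from Units.ext_iff,
      ht, ← quadraticChar_one_iff_isSquare (prod_ne_zero hvs)]
    rcases Nat.even_or_odd vs.length with he | ho
    · simp [he, he.neg_one_pow]
    · simp [ho.neg_one_pow, hne, Nat.not_even_iff_odd.2 ho]

/-! ### Orthogonal lists and hyperbolic pairs -/

/-- The action of reflections in pairwise orthogonal vectors. -/
theorem rprod_orthogonal {vs : List V} (hvs : NS Q vs)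
    (hp : vs.Pairwise fun a b => polar Q a b = 0) (x : V) :
    (rprod Q vs).1 x = x - (vs.map fun v => ((Q v)⁻¹ * polar Q v x) • v).sum := by
  induction vs with
  | nil => simp
  | cons v vs ih =>
    rw [List.pairwise_cons] at hp
    rw [rprod_cons hvs.head, orth_mul_apply, ih hvs.tail hp.2, refl_apply, List.map_cons,
      List.sum_cons]
    have h0 : polar Q v (vs.map fun w => ((Q w)⁻¹ * polar Q w x) • w).sum = 0 := by
      rw [← polarBilin_apply_apply, map_list_sum, List.map_map]
      refine List.sum_eq_zero fun y hy => ?_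
      obtain ⟨w, hw, rfl⟩ := List.mem_map.1 hy
      simp [hp.1 w hw]
    rw [polar_sub_right, h0, sub_zero]
    abel

/-- The two vectors whose reflections scale a hyperbolic pair. -/
theorem scale_apply {e f : V} (he : Q e = 0) (hf : Q f = 0) (hef : polar Q e f = 1) {d : F}
    (hd : d ≠ 0) :
    NS Q [e - f, e - d • f] ∧ ([e - f, e - d • f].map Q).prod = d ∧
      ∀ x, (rprod Q [e - f, e - d • f]).1 x =
        x + ((d - 1) * polar Q f x) • e + ((d⁻¹ - 1) * polar Q e x) • f := by
  have hval : ∀ c : F, Q (e - c • f) = -c := fun c => by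
    rw [sub_eq_add_neg, ← neg_smul, QuadraticMap.map_add (⇑Q), he, QuadraticMap.map_smul, hf,
      polar_smul_right, hef]
    simp
  have h1 : Q (e - f) = -1 := by simpa using hval 1
  have hee : polar Q e e = 0 := by rw [polar_self_mul, he, mul_zero]
  have hff : polar Q f f = 0 := by rw [polar_self_mul, hf, mul_zero]
  have hfe : polar Q f e = 1 := by rw [polar_comm]; exact hef
  have hns : NS Q [e - f, e - d • f] := by
    intro v hv
    simp only [List.mem_cons, List.not_mem_nil, or_false] at hv
    rcases hv with rfl | rfl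
    · rw [h1]; simp
    · rw [hval]; simpa using hd
  refine ⟨hns, ?_, fun x => ?_⟩
  · simp [h1, hval]
  · rw [rprod_cons hns.head, rprod_singleton (hns.tail.head), orth_mul_apply, refl_apply, refl_apply,
      h1, hval]
    simp only [polar_sub_right, polar_sub_left, polar_smul_right, polar_smul_left, hee, hff, hef,
      hfe, smul_eq_mul]
    match_scalars <;> field_simp <;> ring

/-- Reflections negating the span of hyperbolic pairs. -/
theorem hyp_negate {k : ℕ} {e f : Fin k → V} (h : QuadClassify.Hyp Q e f) :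
    ∃ vs, NS Q vs ∧ Even vs.length ∧ (vs.map Q).prod = (-1) ^ k ∧ ∀ x, (rprod Q vs).1 x =
      x - (2 : F) • ∑ j, (polar Q (f j) x • e j + polar Q (e j) x • f j) := by
  have hfe : ∀ i j, polar Q (f i) (e j) = if i = j then 1 else 0 := fun i j => by
    rw [polar_comm, h.pef]; simp [eq_comm]
  have hp : ∀ j, Q (e j + f j) = 1 := fun j => by
    rw [QuadraticMap.map_add (⇑Q), h.qe, h.qf, h.pef]; simp
  have hm : ∀ j, Q (e j - f j) = -1 := fun j => by
    rw [sub_eq_add_neg, QuadraticMap.map_add (⇑Q), h.qe, QuadraticMap.map_neg, h.qf, polar_neg_right, h.pef]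
    simp
  set vs := (List.ofFn fun j => e j + f j) ++ List.ofFn fun j => e j - f j
  have hns : NS Q vs := by
    refine NS.append ?_ ?_ <;> intro v hv <;> obtain ⟨j, rfl⟩ := List.mem_ofFn.1 hv
    · rw [hp]; exact one_ne_zero
    · rw [hm]; exact neg_ne_zero.2 one_ne_zero
  have hpw : vs.Pairwise fun a b => polar Q a b = 0 := by
    rw [List.pairwise_append]
    refine ⟨?_, ?_, ?_⟩
    · rw [List.pairwise_ofFn]
      intro i j hij
      simp [polar_add_left, polar_add_right, h.pee, h.pff, h.pef, hfe, hij.ne]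
    · rw [List.pairwise_ofFn]
      intro i j hij
      simp [polar_sub_left, polar_sub_right, h.pee, h.pff, h.pef, hfe, hij.ne]
    · intro a ha b hb
      obtain ⟨i, rfl⟩ := List.mem_ofFn.1 ha
      obtain ⟨j, rfl⟩ := List.mem_ofFn.1 hb
      simp [polar_add_left, polar_sub_right, h.pee, h.pff, h.pef, hfe]
  refine ⟨vs, hns, ⟨k, by simp [vs]⟩, ?_, fun x => ?_⟩
  · simp [vs, List.map_append, List.prod_append, Function.comp_def, hp, hm]
  · rw [rprod_orthogonal hns hpw]
    simp only [vs, List.map_append, List.sum_append, List.map_ofFn, List.sum_ofFn,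
      Function.comp_def, hp, hm, ← Finset.sum_add_distrib, Finset.smul_sum]
    congr 1
    refine Finset.sum_congr rfl fun j _ => ?_
    rw [polar_add_left, polar_sub_left]
    match_scalars <;> ring

/-- Reflections exchanging hyperbolic pairs. -/
theorem hyp_swap {k : ℕ} {e f : Fin k → V} (h : QuadClassify.Hyp Q e f) :
    ∃ vs, NS Q vs ∧ vs.length = k ∧ (vs.map Q).prod = (-1) ^ k ∧ ∀ x, (rprod Q vs).1 x =
      x + ∑ j, (polar Q (e j) x - polar Q (f j) x) • (e j - f j) := by
  have hfe : ∀ i j, polar Q (f i) (e j) = if i = j then 1 else 0 := fun i j => by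
    rw [polar_comm, h.pef]; simp [eq_comm]
  have hm : ∀ j, Q (e j - f j) = -1 := fun j => by
    rw [sub_eq_add_neg, QuadraticMap.map_add (⇑Q), h.qe, QuadraticMap.map_neg, h.qf, polar_neg_right, h.pef]
    simp
  set vs := List.ofFn fun j => e j - f j
  have hns : NS Q vs := by
    intro v hv
    obtain ⟨j, rfl⟩ := List.mem_ofFn.1 hv
    rw [hm]; exact neg_ne_zero.2 one_ne_zero
  have hpw : vs.Pairwise fun a b => polar Q a b = 0 := by
    rw [List.pairwise_ofFn]
    intro i j hij
    simp [polar_sub_left, polar_sub_right, h.pee, h.pff, h.pef, hfe, hij.ne]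
  refine ⟨vs, hns, by simp [vs], by simp [vs, Function.comp_def, hm], fun x => ?_⟩
  rw [rprod_orthogonal hns hpw, sub_eq_add_neg]
  simp only [vs, List.map_ofFn, List.sum_ofFn, Function.comp_def, hm, ← Finset.sum_neg_distrib]
  congr 1
  refine Finset.sum_congr rfl fun j _ => ?_
  rw [polar_sub_left]
  module

/-! ### Totally singular subspaces of half the dimension -/

/-- Totally singular of half the dimension. -/
def Lagr (Q : QuadraticForm F V) (U : Submodule F V) : Prop :=
  (∀ u ∈ U, Q u = 0) ∧ 2 * finrank F U = finrank F V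

theorem polar_of_sing {U : Submodule F V} (hU : ∀ u ∈ U, Q u = 0) {a b : V} (ha : a ∈ U)
    (hb : b ∈ U) : polar Q a b = 0 := by
  rw [polar, hU _ (U.add_mem ha hb), hU _ ha, hU _ hb]; ring

/-- A totally singular subspace is at most half of the space. -/
theorem two_finrank_le [FiniteDimensional F V] (hnd : (polarBilin Q).Nondegenerate)
    {U : Submodule F V} (hU : ∀ u ∈ U, Q u = 0) : 2 * finrank F U ≤ finrank F V := by
  have hd := LinearMap.BilinForm.finrank_orthogonal (B := polarBilin Q) hnd U
  have hle : U ≤ LinearMap.BilinForm.orthogonal (polarBilin Q) U :=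
    fun w hw n hn => polar_of_sing hU hn hw
  have := Submodule.finrank_mono hle
  have := Submodule.finrank_le U
  omega

theorem mem_of_orth [FiniteDimensional F V] (hnd : (polarBilin Q).Nondegenerate) {U : Submodule F V}
    (hU : Lagr Q U) {v : V} (hv : ∀ u ∈ U, polar Q u v = 0) : v ∈ U := by
  have hd := LinearMap.BilinForm.finrank_orthogonal (B := polarBilin Q) hnd U
  have hle : U ≤ LinearMap.BilinForm.orthogonal (polarBilin Q) U :=
    fun w hw n hn => polar_of_sing hU.1 hn hw
  have := hU.2
  have h := Submodule.eq_of_le_of_finrank_eq hle (by omega)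
  rw [h]; exact hv

theorem Lagr.map {U : Submodule F V} (hU : Lagr Q U) (g : orth Q) :
    Lagr Q (U.map (g.1 : V →ₗ[F] V)) := by
  refine ⟨?_, ?_⟩
  · rintro _ ⟨u, hu, rfl⟩
    exact (map_orth g u).trans (hU.1 u hu)
  · rw [LinearEquiv.finrank_map_eq]; exact hU.2

/-- Exactly one of `W` and its mirror image meets `U` in the larger dimension. -/
theorem parity_step [FiniteDimensional F V] (hnd : (polarBilin Q).Nondegenerate)
    {U W : Submodule F V} (hU : Lagr Q U) (hW : Lagr Q W) {v : V} (hv : Q v ≠ 0) :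
    Odd (finrank F ↥(U ⊓ W.map ((refl Q v hv).1 : V →ₗ[F] V)) + finrank F ↥(U ⊓ W)) := by
  set r := refl Q v hv
  set W' := W.map (r.1 : V →ₗ[F] V) with hW'def
  have hW' : Lagr Q W' := hW.map r
  set H := W ⊓ LinearMap.ker (polarBilin Q v) with hH
  obtain ⟨x, hxW, hxv⟩ : ∃ x ∈ W, polar Q v x ≠ 0 := by
    by_contra h
    push Not at h
    exact hv (hW.1 v (mem_of_orth hnd hW fun u hu => (polar_comm _ u v).trans (h u hu)))
  set x' := r.1 x with hx'
  set c := polar Q x x' with hc
  have hc0 : c ≠ 0 := by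
    rw [hc, hx', show r.1 x = x - ((Q v)⁻¹ * polar Q v x) • v from refl_apply Q v hv x,
      polar_sub_right, polar_smul_right, polar_self_mul, hW.1 x hxW, polar_comm Q x v]
    simp [hxv, hv]
  have hfixH : ∀ h ∈ H, r.1 h = h := by
    intro h hh
    have : polar Q v h = 0 := hh.2
    rw [refl_apply, this]
    simp
  have hx'W : x' ∈ W' := ⟨x, hxW, rfl⟩
  have hHW' : H ≤ W' := fun h hh => ⟨h, hh.1, hfixH h hh⟩
  have hdecW : ∀ w ∈ W, ∃ s : F, w - s • x ∈ H := by
    intro w hw
    refine ⟨polar Q v w / polar Q v x, W.sub_mem hw (W.smul_mem _ hxW), ?_⟩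
    simp [div_mul_cancel₀ _ hxv]
  have hdecW' : ∀ w ∈ W', ∃ s : F, w - s • x' ∈ H := by
    rintro _ ⟨w, hw, rfl⟩
    obtain ⟨s, hs⟩ := hdecW w hw
    refine ⟨s, ?_⟩
    have := hfixH _ hs
    rw [map_sub, map_smul, ← hx'] at this
    change r.1 w - s • x' ∈ H
    rw [this]
    exact hs
  -- a vector of U orthogonal to H but outside it
  set T := LinearMap.BilinForm.orthogonal (polarBilin Q) (U ⊔ H) with hT
  have hTU : T ≤ U := fun t ht => mem_of_orth hnd hU fun u hu => ht u (Submodule.mem_sup_left hu)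
  have hTdim : finrank F ↥(U ⊓ H) < finrank F T := by
    have h1 := LinearMap.BilinForm.finrank_orthogonal (B := polarBilin Q) hnd (U ⊔ H)
    have h2 := Submodule.finrank_sup_add_finrank_inf_eq U H
    have h3 : finrank F H < finrank F W := Submodule.finrank_lt_finrank_of_lt
      (lt_of_le_of_ne inf_le_left fun he => hxv ((he ▸ hxW : x ∈ H).2))
    have := hU.2; have := hW.2
    have := Submodule.finrank_le (U ⊔ H)
    rw [← hT] at h1
    omega
  obtain ⟨u, huT, huH⟩ : ∃ u ∈ T, u ∉ H := by
    by_contra h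
    push Not at h
    exact absurd (Submodule.finrank_mono (le_inf hTU h)) (not_le.2 hTdim)
  have huU := hTU huT
  -- decomposition
  obtain ⟨a, b, h₀, hh₀, hu⟩ : ∃ a b : F, ∃ h₀ ∈ H, u = a • x + b • x' + h₀ := by
    refine ⟨polar Q x' u / c, polar Q x u / c, u - (polar Q x' u / c) • x - (polar Q x u / c) • x', ?_,
      by abel⟩
    set y := u - (polar Q x' u / c) • x - (polar Q x u / c) • x' with hy
    have hxy : polar Q x y = 0 := by
      rw [hy, polar_sub_right, polar_sub_right, polar_smul_right, polar_smul_right,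
        polar_of_sing hW.1 hxW hxW, ← hc]
      simp [div_mul_cancel₀ _ hc0]
    have hx'y : polar Q x' y = 0 := by
      rw [hy, polar_sub_right, polar_sub_right, polar_smul_right, polar_smul_right,
        polar_of_sing hW'.1 hx'W hx'W, polar_comm Q x' x, ← hc]
      simp [div_mul_cancel₀ _ hc0]
    have hHy : ∀ h ∈ H, polar Q h y = 0 := by
      intro h hh
      rw [hy, polar_sub_right, polar_sub_right, polar_smul_right, polar_smul_right,
        polar_of_sing hW.1 hh.1 hxW, polar_of_sing hW'.1 (hHW' hh) hx'W]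
      have : polar Q h u = 0 := huT h (Submodule.mem_sup_right hh)
      simp [this]
    have hyW : y ∈ W := by
      refine mem_of_orth hnd hW fun w hw => ?_
      obtain ⟨s, hs⟩ := hdecW w hw
      have := hHy _ hs
      rw [polar_sub_left, polar_smul_left, hxy] at this
      simpa using this
    obtain ⟨s, hs⟩ := hdecW y hyW
    have hs0 : polar Q x' (y - s • x) = 0 := polar_of_sing hW'.1 hx'W (hHW' hs)
    rw [polar_sub_right, polar_smul_right, hx'y, polar_comm Q x' x, ← hc] at hs0
    have : s = 0 := by simpa [hc0] using hs0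
    rw [this, zero_smul, sub_zero] at hs
    exact hs
  have hxh : polar Q x h₀ = 0 := polar_of_sing hW.1 hxW hh₀.1
  have hxh' : polar Q x' h₀ = 0 := polar_of_sing hW'.1 hx'W (hHW' hh₀)
  have hab : a = 0 ∨ b = 0 := by
    have h1 := hU.1 u huU
    rw [hu, QuadraticMap.map_add (⇑Q), QuadraticMap.map_add (⇑Q), QuadraticMap.map_smul,
      QuadraticMap.map_smul, hW.1 x hxW, hW'.1 x' hx'W, hW.1 h₀ hh₀.1, polar_add_left,
      polar_smul_left, polar_smul_left, polar_smul_left, polar_smul_right, hxh, hxh', ← hc] at h1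
    simp only [smul_eq_mul, mul_zero, add_zero, zero_add, ← mul_assoc] at h1
    exact mul_eq_zero.1 ((mul_eq_zero.1 h1).resolve_right hc0)
  -- the common argument for both sides
  have key : ∀ (X Y : Submodule F V) (z z' : V), Lagr Q X → Lagr Q Y → H ≤ X → H ≤ Y →
      (∀ w ∈ X, ∃ s : F, w - s • z ∈ H) → (∀ w ∈ Y, ∃ s : F, w - s • z' ∈ H) →
      z ∈ X → z' ∈ Y → polar Q z z' ≠ 0 → u ∈ X →
      finrank F ↥(U ⊓ X) = finrank F ↥(U ⊓ H) + 1 ∧ finrank F ↥(U ⊓ Y) = finrank F ↥(U ⊓ H) := by
    intro X Y z z' hX hY hHX hHY hdX hdY hz hz' hzz huX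
    obtain ⟨s, hs⟩ := hdX u huX
    have hs0 : s ≠ 0 := fun h => huH (by rwa [h, zero_smul, sub_zero] at hs)
    have hY' : U ⊓ Y = U ⊓ H := by
      refine le_antisymm (fun w hw => ⟨hw.1, ?_⟩) (inf_le_inf_left _ hHY)
      obtain ⟨t, ht⟩ := hdY w hw.2
      have hp := polar_of_sing hU.1 huU hw.1
      rw [show u = s • z + (u - s • z) by abel, show w = t • z' + (w - t • z') by abel,
        polar_add_left, polar_add_right, polar_add_right, polar_smul_left, polar_smul_right,
        polar_smul_left, polar_of_sing hX.1 hz (hHX ht), polar_of_sing hY.1 (hHY hs) (hHY ht),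
        polar_smul_right, polar_of_sing hY.1 (hHY hs) hz'] at hp
      simp [hs0, hzz] at hp
      simpa [hp] using ht
    refine ⟨le_antisymm ?_ ?_, by rw [hY']⟩
    · let φ : ↥(U ⊓ X) →ₗ[F] F := (polarBilin Q z').comp (U ⊓ X).subtype
      have h1 := LinearMap.finrank_range_add_finrank_ker φ
      have h2 := Submodule.finrank_le (LinearMap.range φ)
      rw [Module.finrank_self] at h2
      have h3 : finrank F (LinearMap.ker φ) ≤ finrank F ↥(U ⊓ H) := by
        rw [← Submodule.finrank_map_subtype_eq (U ⊓ X) (LinearMap.ker φ)]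
        refine Submodule.finrank_mono ?_
        rintro _ ⟨⟨w, hwU, hwX⟩, hw, rfl⟩
        refine ⟨hwU, ?_⟩
        obtain ⟨t, ht⟩ := hdX w hwX
        have hw' : polar Q z' w = 0 := hw
        rw [show w = t • z + (w - t • z) by abel, polar_add_right, polar_smul_right,
          polar_of_sing hY.1 hz' (hHY ht), polar_comm Q z' z] at hw'
        simp [hzz] at hw'
        simpa [hw'] using ht
      omega
    · exact Nat.succ_le_of_lt (Submodule.finrank_lt_finrank_of_lt
        (SetLike.lt_iff_le_and_exists.2 ⟨inf_le_inf_left _ hHX, u, (show u ∈ U ⊓ X from ⟨huU, huX⟩),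
          fun (h : u ∈ U ⊓ H) => huH h.2⟩))
  rcases hab with h | h
  · obtain ⟨e1, e2⟩ := key W' W x' x hW' hW hHW' inf_le_left hdecW' hdecW hx'W hxW
      (by rw [polar_comm]; exact hc0) (by
        rw [hu, h, zero_smul, zero_add]
        exact W'.add_mem (W'.smul_mem _ hx'W) (hHW' hh₀))
    exact ⟨finrank F ↥(U ⊓ H), by omega⟩
  · obtain ⟨e1, e2⟩ := key W W' x x' hW hW' inf_le_left hHW' hdecW hdecW' hxW hx'W hc0 (by
        rw [hu, h, zero_smul, add_zero]
        exact W.add_mem (W.smul_mem _ hxW) hh₀.1)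
    exact ⟨finrank F ↥(U ⊓ H), by omega⟩

/-- The parity of the class of a maximal totally singular subspace changes with each reflection. -/
theorem parity_rprod [FiniteDimensional F V] (hnd : (polarBilin Q).Nondegenerate)
    {U W : Submodule F V} (hU : Lagr Q U) (hW : Lagr Q W) {vs : List V} (hvs : NS Q vs) :
    Even (finrank F ↥(U ⊓ W.map ((rprod Q vs).1 : V →ₗ[F] V)) + finrank F ↥(U ⊓ W) + vs.length) := by
  induction vs with
  | nil =>
    have : W.map ((rprod Q []).1 : V →ₗ[F] V) = W := by
      rw [rprod_nil]; exact Submodule.map_id W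
    rw [this]
    exact ⟨finrank F ↥(U ⊓ W), by simp⟩
  | cons v vs ih =>
    have hmap : W.map ((rprod Q (v :: vs)).1 : V →ₗ[F] V) =
        (W.map ((rprod Q vs).1 : V →ₗ[F] V)).map ((refl Q v hvs.head).1 : V →ₗ[F] V) := by
      rw [rprod_cons hvs.head, ← Submodule.map_comp]
      rfl
    rw [hmap]
    obtain ⟨a, ha⟩ := parity_step hnd hU (hW.map (rprod Q vs)) hvs.head
    obtain ⟨b, hb⟩ := ih hvs.tail
    exact Nat.even_iff.2 (by simp only [List.length_cons]; omega)

/-! ### Getting into the commutator subgroup -/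

/-- A non-degenerate subspace of dimension at least two represents every scalar. -/
theorem nondeg_represents [Finite F] [FiniteDimensional F V] {U : Submodule F V}
    (hU : QuadClassify.Nondeg Q U) (h2 : 2 ≤ finrank F U) (c : F) : ∃ u ∈ U, Q u = c := by
  by_cases ha : QuadClassify.Aniso Q U
  · refine QuadClassify.aniso_represents Q ha ?_ c
    by_contra h
    obtain ⟨u, hu, hu0, hQu⟩ := QuadClassify.exists_singular Q U (by omega)
    exact hu0 (ha u hu hQu)
  · obtain ⟨u, hu, hQu, hu0⟩ : ∃ u ∈ U, Q u = 0 ∧ u ≠ 0 := by simpa [QuadClassify.Aniso] using ha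
    obtain ⟨f, hf, hQf, huf⟩ := QuadClassify.exists_partner Q hU hu hu0 hQu
    refine ⟨u + c • f, U.add_mem hu (U.smul_mem c hf), ?_⟩
    rw [QuadraticMap.map_add (⇑Q), QuadraticMap.map_smul, hQu, hQf, polar_smul_right, huf]
    simp

/-- Correct an isometry by elements with a property `P` to land in the commutator subgroup. -/
theorem exists_adjust [Fintype F] [FiniteDimensional F V] (hnd : (polarBilin Q).Nondegenerate)
    (hexc : Fintype.card F ≠ 2 ∨ finrank F V ≠ 4) (P : orth Q → Prop) (h1 : P 1)
    (hmul : ∀ a b, P a → P b → P (a * b)) {vs : List V} (hvs : NS Q vs)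
    (hodd : Odd vs.length → ∃ zs, NS Q zs ∧ Odd zs.length ∧ P (rprod Q zs))
    (hsq : ∀ c : F, c ≠ 0 → IsSquare c ∨
      ∃ ws, NS Q ws ∧ Even ws.length ∧ (ws.map Q).prod = c ∧ P (rprod Q ws)) :
    ∃ h : orth Q, P h ∧ rprod Q vs * h ∈ commutator (orth Q) := by
  obtain ⟨zs, hzs, hlen, hPz⟩ : ∃ zs, NS Q zs ∧ Even (vs ++ zs).length ∧ P (rprod Q zs) := by
    rcases Nat.even_or_odd vs.length with he | ho
    · exact ⟨[], by simp [NS], by simpa using he, h1⟩
    · obtain ⟨zs, hzs, hzo, hPz⟩ := hodd ho
      exact ⟨zs, hzs, by rw [List.length_append]; exact ho.add_odd hzo, hPz⟩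
  have hn := hvs.append hzs
  set c := ((vs ++ zs).map Q).prod with hc
  rcases hsq c (prod_ne_zero hn) with h | ⟨ws, hws, hwe, hwp, hPw⟩
  · refine ⟨rprod Q zs, hPz, ?_⟩
    rw [← rprod_append, rprod_mem_iff hnd hexc hn]
    exact ⟨hlen, h⟩
  · refine ⟨rprod Q zs * rprod Q ws, hmul _ _ hPz hPw, ?_⟩
    rw [← mul_assoc, ← rprod_append, ← rprod_append, rprod_mem_iff hnd hexc (hn.append hws)]
    refine ⟨?_, c, ?_⟩
    · rw [List.length_append]; exact hlen.add hwe
    · rw [List.map_append, List.prod_append, hwp]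

/-- An element given by its matrix. -/
theorem exists_mat_iff {ι : Type} [Fintype ι] [DecidableEq ι] {Q : QuadraticForm F (ι → F)}
    {M : Matrix ι ι F} (k : orth Q) (hk : ∀ x, k.1 x = M.mulVec x) :
    (∃ g : isometryGroup F ⇑Q, g ∈ Omega F ⇑Q ∧ mat g = M) ↔ k ∈ commutator (orth Q) := by
  constructor
  · rintro ⟨g, hg, hgM⟩
    rw [← (iso_eq_iff_mat g k M hk).1 hgM]
    exact (mem_Omega_iff g).1 hg
  · intro h
    refine ⟨(iso Q).symm k, ?_, ?_⟩
    · rw [mem_Omega_iff, MulEquiv.apply_symm_apply]; exact h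
    · exact (iso_eq_iff_mat _ k M hk).2 (MulEquiv.apply_symm_apply _ _)

theorem map_mulVecLin {ι : Type} [Fintype ι] [DecidableEq ι] {Q : QuadraticForm F (ι → F)}
    (g : isometryGroup F ⇑Q) (U : Submodule F (ι → F)) :
    U.map (Matrix.mulVecLin (mat g)) = U.map ((iso Q g).1 : (ι → F) →ₗ[F] (ι → F)) := by
  rw [show Matrix.mulVecLin (mat g) = ((iso Q g).1 : (ι → F) →ₗ[F] (ι → F)) from
    LinearMap.ext fun x => (iso_apply g x).symm]

/-- The involution negating some standard hyperbolic pairs. -/
theorem diagonal_mem_iff [Fintype F] {ι : Type} [Fintype ι] [DecidableEq ι]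
    {Q : QuadraticForm F (ι → F)} (hnd : (polarBilin Q).Nondegenerate)
    (hexc : Fintype.card F ≠ 2 ∨ finrank F (ι → F) ≠ 4) {k : ℕ} (l r : Fin k → ι)
    (hl : ∀ j x, polar Q (Pi.single (r j) 1) x = x (l j))
    (hr : ∀ j x, polar Q (Pi.single (l j) 1) x = x (r j))
    (hql : ∀ j, Q (Pi.single (l j) 1) = 0) (hqr : ∀ j, Q (Pi.single (r j) 1) = 0)
    (hli : Function.Injective l) (hri : Function.Injective r) (hlr : ∀ i j, l i ≠ r j)
    (d : ι → F) (hdl : ∀ j, d (l j) = -1) (hdr : ∀ j, d (r j) = -1)
    (hd1 : ∀ s, (∀ j, l j ≠ s) → (∀ j, r j ≠ s) → d s = 1) :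
    (∃ g : isometryGroup F ⇑Q, g ∈ Omega F ⇑Q ∧ mat g = Matrix.diagonal d) ↔
      IsSquare ((-1 : F) ^ k) := by
  have hH : QuadClassify.Hyp Q (fun j => (Pi.single (l j) 1 : ι → F)) (fun j => Pi.single (r j) 1) := by
    refine ⟨hql, hqr, fun i j => ?_, fun i j => ?_, fun i j => ?_⟩
    · simp [hr, Pi.single_apply, hri.eq_iff]
    · simp [hr, Ne.symm (hlr j i)]
    · simp [hl, hlr i j]
  obtain ⟨vs, hns, hev, hprod, hact⟩ := hyp_negate hH
  have hk : ∀ x, (rprod Q vs).1 x = (Matrix.diagonal d).mulVec x := by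
    intro x
    rw [hact]
    funext s
    simp only [hl, hr, Pi.sub_apply, Pi.smul_apply, Finset.sum_apply, Pi.add_apply, smul_eq_mul,
      Matrix.mulVec_diagonal]
    by_cases hsl : ∃ j, l j = s
    · obtain ⟨j, rfl⟩ := hsl
      rw [hdl, Finset.sum_eq_single j (fun b _ hb => by
        simp [Pi.single_apply, hli.eq_iff, Ne.symm hb, hlr j b]) (by simp)]
      simp [hlr j j]
      ring
    · push Not at hsl
      by_cases hsr : ∃ j, r j = s
      · obtain ⟨j, rfl⟩ := hsr
        rw [hdr, Finset.sum_eq_single j (fun b _ hb => by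
          simp [Pi.single_apply, hri.eq_iff, Ne.symm hb, Ne.symm (hlr b j)]) (by simp)]
        simp [Ne.symm (hlr j j)]
        ring
      · push Not at hsr
        rw [hd1 s hsl hsr, Finset.sum_eq_zero (fun b _ => by simp [Ne.symm (hsl b), Ne.symm (hsr b)])]
        simp
  rw [exists_mat_iff _ hk, rprod_mem_iff hnd hexc hns, and_iff_right hev, hprod]

end Cfsg.Agent.OmegaClasses
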