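import Mathlib
import Cfsg.Agent.Lib.OmegaClasses
import Cfsg.Agent.Lib.QuadClassify

/-!
The standard quadratic forms: non-degeneracy, hyperbolic coordinates, transport to `Omega`.
-/

set_option autoImplicit false

namespace Cfsg.Agent.OmegaStd

open QuadraticMap Module
open Cfsg.Agent.QuadClassify (qPlus qMinus qOdd qPlus_coe qMinus_coe qOdd_coe)
open Cfsg.Agent.OrthUnitaryQuad Cfsg.Agent.OrthUnitaryPrelude Cfsg.Agent.OmegaClasses

variable {F : Type*} [Field F] {m : ℕ}

theorem polar_plus_single_inl (j : Fin m) (x : Fin m ⊕ Fin m → F) :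
    polar (qPlus m F) (Pi.single (Sum.inl j) 1) x = x (Sum.inr j) := by
  simp only [polar, qPlus_coe, Cfsg.quadFormPlus, Pi.add_apply, ← Finset.sum_sub_distrib]
  rw [Finset.sum_eq_single j (fun b _ hb => by simp [hb]) (by simp)]
  simp; ring

theorem polar_plus_single_inr (j : Fin m) (x : Fin m ⊕ Fin m → F) :
    polar (qPlus m F) (Pi.single (Sum.inr j) 1) x = x (Sum.inl j) := by
  simp only [polar, qPlus_coe, Cfsg.quadFormPlus, Pi.add_apply, ← Finset.sum_sub_distrib]
  rw [Finset.sum_eq_single j (fun b _ hb => by simp [hb]) (by simp)]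
  simp; ring

theorem qPlus_single (s : Fin m ⊕ Fin m) : qPlus m F (Pi.single s 1) = 0 := by
  rcases s with j | j <;> simp [qPlus_coe, Cfsg.quadFormPlus, Pi.single_apply]

theorem nondeg_plus : (polarBilin (qPlus m F)).Nondegenerate := by
  have key : ∀ x, (∀ y, polar (qPlus m F) x y = 0) → x = 0 := by
    intro x hx
    funext s
    rcases s with j | j
    · have := hx (Pi.single (Sum.inr j) 1)
      rwa [polar_comm, polar_plus_single_inr] at this
    · have := hx (Pi.single (Sum.inl j) 1)
      rwa [polar_comm, polar_plus_single_inl] at this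
  exact ⟨fun x hx => key x hx, fun x hx => key x fun y => (polar_comm _ x y).trans (hx y)⟩

theorem hyp_plus : QuadClassify.Hyp (qPlus m F) (fun j => (Pi.single (Sum.inl j) 1 : Fin m ⊕ Fin m → F))
    (fun j => Pi.single (Sum.inr j) 1) := by
  refine ⟨fun i => qPlus_single _, fun i => qPlus_single _, fun i j => ?_, fun i j => ?_, fun i j => ?_⟩
  · simp [polar_plus_single_inl, Pi.single_apply]
  · simp [polar_plus_single_inl]
  · simp [polar_plus_single_inr]

theorem finrank_plus : finrank F (Fin m ⊕ Fin m → F) = 2 * m := by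
  rw [Module.finrank_fintype_fun_eq_card, Fintype.card_sum, Fintype.card_fin]; ring

theorem finrank_ker_funLeft {ι κ : Type} [Fintype ι] [Fintype κ] {j : κ → ι}
    (hj : Function.Injective j) :
    finrank F (LinearMap.ker (LinearMap.funLeft F F j)) + Fintype.card κ = Fintype.card ι := by
  have h := LinearMap.finrank_range_add_finrank_ker (LinearMap.funLeft F F j)
  rw [LinearMap.range_eq_top.2 (LinearMap.funLeft_surjective_of_injective F F j hj), finrank_top,
    Module.finrank_fintype_fun_eq_card, Module.finrank_fintype_fun_eq_card] at h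
  omega

/-- The standard maximal totally singular subspace `y = 0`. -/
theorem lagr_plus :
    Lagr (qPlus m F) (LinearMap.ker (LinearMap.funLeft F F (Sum.inr : Fin m → Fin m ⊕ Fin m))) := by
  refine ⟨fun u hu => ?_, ?_⟩
  · have : ∀ i, u (Sum.inr i) = 0 := fun i => congrFun hu i
    simp [qPlus_coe, Cfsg.quadFormPlus, this]
  · have := finrank_ker_funLeft (F := F) (j := (Sum.inr : Fin m → Fin m ⊕ Fin m)) Sum.inr_injective
    rw [Fintype.card_sum, Fintype.card_fin] at this
    rw [finrank_plus]; omega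

theorem exc_plus [Fintype F] (h : Fintype.card F ≠ 2 ∨ m ≠ 2) :
    Fintype.card F ≠ 2 ∨ finrank F (Fin m ⊕ Fin m → F) ≠ 4 :=
  h.imp_right fun hm => by rw [finrank_plus]; omega

theorem card_ne_two_of_odd [Fintype F] {q : ℕ} (hF : Fintype.card F = q) (hq : Odd q) :
    Fintype.card F ≠ 2 := by
  rw [hF]; rintro rfl; exact absurd hq (by decide)

theorem isSquare_neg_one_pow [Fintype F] {q : ℕ} (hF : Fintype.card F = q) (hq : Odd q) (i : ℕ) :
    IsSquare ((-1 : F) ^ i) ↔ q ^ i % 4 = 1 := by
  obtain ⟨h, rfl⟩ := hq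
  have hsq : (2 * h + 1) * (2 * h + 1) % 4 = 1 := by
    rw [show (2 * h + 1) * (2 * h + 1) = 1 + 4 * (h * h + h) by ring, Nat.add_mul_mod_self_left]
  rcases Nat.even_or_odd' i with ⟨r, rfl | rfl⟩
  · rw [pow_mul, pow_mul, neg_one_sq, one_pow, pow_two, Nat.pow_mod, hsq, one_pow]
    simp [IsSquare.one]
  · rw [pow_succ, pow_succ, pow_mul, pow_mul, neg_one_sq, one_pow, one_mul,
      FiniteField.isSquare_neg_one_iff, hF, pow_two, Nat.mul_mod, Nat.pow_mod, hsq, one_pow]
    omega

theorem two_ne_zero [Fintype F] {q : ℕ} (hF : Fintype.card F = q) (hq : Odd q) : (2 : F) ≠ 0 :=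
  Ring.two_ne_zero fun h => by
    have := FiniteField.even_card_of_char_two (F := F) h
    rw [hF] at this
    obtain ⟨r, rfl⟩ := hq
    omega

/-- An element of the commutator subgroup mapping `U` into `W` gives one of `Omega` mapping `U` onto `W`. -/
theorem exists_Omega_map {ι : Type} [Fintype ι] [DecidableEq ι] {Q : QuadraticForm F (ι → F)}
    (U W : Submodule F (ι → F)) (hd : finrank F U = finrank F W) (k : orth Q)
    (hk : k ∈ commutator (orth Q)) (hUW : ∀ u ∈ U, k.1 u ∈ W) :
    ∃ g : isometryGroup F ⇑Q, g ∈ Omega F ⇑Q ∧ U.map (Matrix.mulVecLin (mat g)) = W := by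
  refine ⟨(iso Q).symm k, ?_, ?_⟩
  · rw [mem_Omega_iff, MulEquiv.apply_symm_apply]; exact hk
  · rw [map_mulVecLin, MulEquiv.apply_symm_apply]
    refine Submodule.eq_of_le_of_finrank_eq ?_ ?_
    · rintro _ ⟨u, hu, rfl⟩; exact hUW u hu
    · rw [LinearEquiv.finrank_map_eq, hd]

end Cfsg.Agent.OmegaStd
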