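import Mathlib

/-!
Symmetric bilinear forms over finite fields of odd characteristic.
-/

set_option autoImplicit false

open LinearMap (BilinForm)

namespace Cfsg.Agent.FiniteFormClass

variable {F : Type*} [Field F]

/-- `b` is a basis with Gram matrix `diag(1, …, 1, d)`. -/
def IsStd {V : Type*} [AddCommGroup V] [Module F V] {n : ℕ} (B : BilinForm F V)
    (b : Module.Basis (Fin (n + 1)) F V) (d : F) : Prop :=
  ∀ i j, B (b i) (b j) = if i = j then (if i = Fin.last n then d else 1) else 0

theorem det_congr {V : Type*} [AddCommGroup V] [Module F V] [FiniteDimensional F V]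
    (B : BilinForm F V) {ι ι' : Type*} [Fintype ι] [DecidableEq ι] [Fintype ι'] [DecidableEq ι']
    (b : Module.Basis ι F V) (c : Module.Basis ι' F V) :
    ∃ s : F, s ≠ 0 ∧ (LinearMap.BilinForm.toMatrix c B).det =
      s ^ 2 * (LinearMap.BilinForm.toMatrix b B).det := by
  classical
  let e : ι' ≃ ι := Fintype.equivOfCardEq
    ((Module.finrank_eq_card_basis c).symm.trans (Module.finrank_eq_card_basis b))
  let c' := c.reindex e
  have hc : (LinearMap.BilinForm.toMatrix c' B).det = (LinearMap.BilinForm.toMatrix c B).det := by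
    rw [← Matrix.det_submatrix_equiv_self e.symm (LinearMap.BilinForm.toMatrix c B)]
    congr 1
    ext i j
    simp [c', LinearMap.BilinForm.toMatrix_apply]
  refine ⟨(b.toMatrix c').det, ?_, ?_⟩
  · intro h
    have h1 := congrArg Matrix.det (b.toMatrix_mul_toMatrix_flip c')
    rw [Matrix.det_mul, h, zero_mul, Matrix.det_one] at h1
    exact zero_ne_one h1
  · rw [← hc, ← LinearMap.BilinForm.toMatrix_mul_basis_toMatrix b c' B, Matrix.det_mul,
      Matrix.det_mul, Matrix.det_transpose]
    ring

theorem det_of_isStd {V : Type*} [AddCommGroup V] [Module F V] {n : ℕ} {B : BilinForm F V}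
    {b : Module.Basis (Fin (n + 1)) F V} {d : F} (h : IsStd B b d) :
    (LinearMap.BilinForm.toMatrix b B).det = d := by
  have e : LinearMap.BilinForm.toMatrix b B =
      Matrix.diagonal (fun i => if i = Fin.last n then d else 1) := by
    ext i j
    rw [LinearMap.BilinForm.toMatrix_apply, h i j, Matrix.diagonal_apply]
  rw [e, Matrix.det_diagonal, Fintype.prod_ite_eq']

variable [Fintype F]

theorem exists_sq_add (h2 : (2 : F) ≠ 0) {a b : F} (ha : a ≠ 0) (hb : b ≠ 0) (c : F) :
    ∃ x y : F, a * x ^ 2 + b * y ^ 2 = c := by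
  have hodd : Fintype.card F % 2 = 1 := by
    refine FiniteField.odd_card_of_char_ne_two fun h => h2 ?_
    have : CharP F 2 := ringChar.of_eq h
    exact CharTwo.two_eq_zero
  obtain ⟨x, y, h⟩ := FiniteField.exists_root_sum_quadratic
    (f := Polynomial.C a * Polynomial.X ^ 2) (g := Polynomial.C b * Polynomial.X ^ 2 - Polynomial.C c)
    (Polynomial.degree_C_mul_X_pow 2 ha) (by
      rw [Polynomial.degree_sub_C (by rw [Polynomial.degree_C_mul_X_pow 2 hb]; norm_num)]
      exact Polynomial.degree_C_mul_X_pow 2 hb) hodd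
  exact ⟨x, y, by simp at h; linear_combination h⟩

theorem exists_isStd (h2 : (2 : F) ≠ 0) : ∀ (n : ℕ) {V : Type*} [AddCommGroup V] [Module F V]
    [FiniteDimensional F V] (B : BilinForm F V) (_ : ∀ x y, B x y = B y x) (_ : B.Nondegenerate)
    (_ : Module.finrank F V = n + 1), ∃ (b : Module.Basis (Fin (n + 1)) F V) (d : F),
      d ≠ 0 ∧ IsStd B b d := by
  intro n
  induction n with
  | zero =>
    intro V _ _ _ B _ hB hV
    let b := (Module.finBasis F V).reindex (finCongr hV)
    refine ⟨b, B (b 0) (b 0), fun h => ?_, fun i j => ?_⟩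
    · have := (LinearMap.BilinForm.nondegenerate_iff_det_ne_zero b).1 hB
      rw [Matrix.det_fin_one, LinearMap.BilinForm.toMatrix_apply] at this
      exact this h
    · have hi : i = 0 := Fin.ext (by omega)
      have hj : j = 0 := Fin.ext (by omega)
      subst hi hj; simp
  | succ n ih =>
    intro V _ _ _ B hsymm hB hV
    have := invertibleOfNonzero h2
    obtain ⟨o, ho⟩ := LinearMap.BilinForm.exists_orthogonal_basis (B := B) ⟨fun x y => hsymm x y⟩
    have hne : ∀ i, B (o i) (o i) ≠ 0 := by
      intro i h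
      have hdet := (LinearMap.BilinForm.nondegenerate_iff_det_ne_zero o).1 hB
      refine hdet (Matrix.det_eq_zero_of_row_eq_zero i fun j => ?_)
      rw [LinearMap.BilinForm.toMatrix_apply]
      by_cases hij : i = j
      · rw [← hij, h]
      · exact ho hij
    obtain ⟨p, q, hpq⟩ : ∃ p q : Fin (Module.finrank F V), p ≠ q :=
      ⟨⟨0, by omega⟩, ⟨1, by omega⟩, by simp⟩
    obtain ⟨x, y, hxy⟩ := exists_sq_add h2 (hne p) (hne q) 1
    set u := x • o p + y • o q with hu
    have huu : B u u = 1 := by
      have h1 : B (o p) (o q) = 0 := ho hpq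
      have h1' : B (o q) (o p) = 0 := by rw [hsymm]; exact h1
      simp only [hu, map_add, map_smul, LinearMap.add_apply, LinearMap.smul_apply, h1, h1', smul_eq_mul]
      linear_combination hxy
    set V' := B.orthogonal (Submodule.span F {u}) with hV'
    have hmem : ∀ v, v ∈ V' ↔ B u v = 0 := by
      intro v
      constructor
      · intro h; exact h u (Submodule.mem_span_singleton_self u)
      · intro h z hz
        obtain ⟨t, rfl⟩ := Submodule.mem_span_singleton.1 hz
        change B (t • u) v = 0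
        simp [h]
    have hu0 : u ≠ 0 := by intro h; rw [h] at huu; simp at huu
    have hdim : Module.finrank F V' = n + 1 := by
      rw [hV', LinearMap.BilinForm.finrank_orthogonal hB, hV, finrank_span_singleton hu0]; omega
    have hB' : (B.restrict V').Nondegenerate := by
      have key : ∀ z : V', (∀ w : V', B (z : V) (w : V) = 0) → z = 0 := by
        intro z hz
        apply Subtype.ext
        refine hB.1 _ fun v => ?_
        have hw : v - B u v • u ∈ V' := by rw [hmem]; simp [huu]
        have h := hz ⟨_, hw⟩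
        have hzu : B (z : V) u = 0 := by rw [hsymm]; exact (hmem _).1 z.2
        simpa [hzu] using h
      refine ⟨fun z hz => key z hz, fun z hz => key z fun w => ?_⟩
      rw [hsymm]; exact hz w
    obtain ⟨b', d, hd, hb'⟩ := ih (B.restrict V') (fun a b => hsymm a b) hB' hdim
    let v : Fin (n + 2) → V := Fin.cons u (fun i => (b' i : V))
    have hu' : ∀ i, B u (b' i : V) = 0 := fun i => (hmem _).1 (b' i).2
    have hgram : ∀ i j, B (v i) (v j) = if i = j then (if i = Fin.last (n + 1) then d else 1) else 0 := by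
      intro i j
      refine Fin.cases ?_ ?_ i <;> refine Fin.cases ?_ ?_ j
      · simp [v, huu, (Fin.last_pos (n := n + 1)).ne]
      · intro j; simp [v, hu', (Fin.succ_ne_zero j).symm]
      · intro i; simp only [v, Fin.cons_succ, Fin.cons_zero, Fin.succ_ne_zero, if_false]
        rw [hsymm]; exact hu' i
      · intro j i
        simp only [v, Fin.cons_succ, Fin.succ_inj, ← Fin.succ_last]
        exact hb' i j
    have hli : LinearIndependent F v := by
      rw [Fintype.linearIndependent_iff]
      intro g hg i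
      have h := congrArg (fun z => B z (v i)) hg
      simp only [LinearMap.BilinForm.sum_left, map_zero, LinearMap.zero_apply, map_smul,
        LinearMap.smul_apply, hgram, smul_eq_mul, mul_ite, mul_zero, Finset.sum_ite_eq',
        Finset.mem_univ, if_true] at h
      rcases ne_or_eq i (Fin.last (n + 1)) with hi | hi
      · simpa [hi] using h
      · simpa [hi, hd] using h
    refine ⟨basisOfLinearIndependentOfCardEqFinrank hli (by rw [Fintype.card_fin, hV]), d, hd, ?_⟩
    intro i j
    simp only [coe_basisOfLinearIndependentOfCardEqFinrank]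
    exact hgram i j

/-- Forms of equal dimension whose determinants differ by a square are isometric. -/
theorem exists_isometry (h2 : (2 : F) ≠ 0) {U : Type*} [AddCommGroup U] [Module F U]
    [FiniteDimensional F U] {W : Type*} [AddCommGroup W] [Module F W] [FiniteDimensional F W]
    (B : BilinForm F U) (C : BilinForm F W) (hBs : ∀ x y, B x y = B y x)
    (hCs : ∀ x y, C x y = C y x) (hB : B.Nondegenerate) (hC : C.Nondegenerate) {n : ℕ}
    (hU : Module.finrank F U = n + 1) (hW : Module.finrank F W = n + 1)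
    {ι ι' : Type*} [Fintype ι] [DecidableEq ι] [Fintype ι'] [DecidableEq ι']
    (b : Module.Basis ι F U) (c : Module.Basis ι' F W)
    (hdisc : IsSquare ((LinearMap.BilinForm.toMatrix b B).det *
      (LinearMap.BilinForm.toMatrix c C).det)) :
    ∃ e : U ≃ₗ[F] W, ∀ x y, C (e x) (e y) = B x y := by
  classical
  obtain ⟨b₀, d₁, hd₁, hb₀⟩ := exists_isStd h2 n B hBs hB hU
  obtain ⟨c₀, d₂, hd₂, hc₀⟩ := exists_isStd h2 n C hCs hC hW
  obtain ⟨s₁, hs₁, e₁⟩ := det_congr B b b₀
  obtain ⟨s₂, hs₂, e₂⟩ := det_congr C c c₀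
  rw [det_of_isStd hb₀] at e₁
  rw [det_of_isStd hc₀] at e₂
  obtain ⟨r, hr⟩ := hdisc
  set t : F := s₁ * s₂ * r / d₂ with ht
  have ht2 : t * t * d₂ = d₁ := by
    have : d₁ * d₂ = (s₁ * s₂ * r) * (s₁ * s₂ * r) := by
      rw [e₁, e₂]; linear_combination (s₁ ^ 2 * s₂ ^ 2) * hr
    rw [ht]; field_simp; linear_combination -this
  have ht0 : t ≠ 0 := fun h => hd₁ (by rw [← ht2, h]; ring)
  let w : Fin (n + 1) → Fˣ := fun i => if i = Fin.last n then Units.mk0 t ht0 else 1
  refine ⟨b₀.equiv (c₀.unitsSMul w) (Equiv.refl _), fun x y => ?_⟩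
  have : C.compl₁₂ (b₀.equiv (c₀.unitsSMul w) (Equiv.refl _) : U →ₗ[F] W)
      (b₀.equiv (c₀.unitsSMul w) (Equiv.refl _) : U →ₗ[F] W) = B := by
    refine LinearMap.BilinForm.ext_basis b₀ fun i j => ?_
    simp only [LinearMap.compl₁₂_apply, LinearEquiv.coe_coe, Module.Basis.equiv_apply,
      Equiv.refl_apply, Module.Basis.unitsSMul_apply, hb₀ i j, Units.smul_def, map_smul,
      LinearMap.smul_apply, smul_eq_mul, hc₀ i j]
    by_cases hij : i = j
    · subst hij
      by_cases hi : i = Fin.last n
      · simp [w, hi, ← mul_assoc, ht2]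
      · simp [w, hi]
    · simp [hij]
  exact LinearMap.congr_fun (LinearMap.congr_fun this x) y

omit [Fintype F] in
theorem det_swap (k : ℕ) :
    (Matrix.fromBlocks 0 1 1 0 : Matrix (Fin k ⊕ Fin k) (Fin k ⊕ Fin k) F).det = (-1) ^ k := by
  have : (Matrix.fromBlocks 0 1 1 0 : Matrix (Fin k ⊕ Fin k) (Fin k ⊕ Fin k) F) =
      Matrix.fromBlocks 1 1 0 1 * Matrix.fromBlocks 1 0 (-1) 1 * Matrix.fromBlocks 1 1 0 1 *
        Matrix.fromBlocks (-1) 0 0 1 := by
    simp [Matrix.fromBlocks_multiply]
  rw [this, Matrix.det_mul, Matrix.det_mul, Matrix.det_mul, Matrix.det_fromBlocks_zero₂₁,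
    Matrix.det_fromBlocks_zero₁₂, Matrix.det_fromBlocks_zero₂₁, Matrix.det_neg]
  simp

omit [Fintype F] in
/-- A Lagrangian forces the discriminant to be `(-1)^k` times a square. -/
theorem isSquare_of_lagrangian {U : Type*} [AddCommGroup U] [Module F U] [FiniteDimensional F U]
    (B : BilinForm F U) (hBs : ∀ x y, B x y = B y x) {k : ℕ} (hU : Module.finrank F U = 2 * k)
    (X : Submodule F U) (hX : Module.finrank F X = k) (hiso : ∀ x ∈ X, ∀ y ∈ X, B x y = 0)
    {ι : Type*} [Fintype ι] [DecidableEq ι] (b : Module.Basis ι F U) :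
    IsSquare ((-1) ^ k * (LinearMap.BilinForm.toMatrix b B).det) := by
  classical
  obtain ⟨Y, hY⟩ := Submodule.exists_isCompl X
  have hYk : Module.finrank F Y = k := by
    have := Submodule.finrank_add_eq_of_isCompl hY; omega
  let c : Module.Basis (Fin k ⊕ Fin k) F U :=
    (((Module.finBasis F X).reindex (finCongr hX)).prod
      ((Module.finBasis F Y).reindex (finCongr hYk))).map (X.prodEquivOfIsCompl Y hY)
  set M := LinearMap.BilinForm.toMatrix c B with hM
  have hblock : M = Matrix.fromBlocks 0 M.toBlocks₁₂ M.toBlocks₁₂.transpose M.toBlocks₂₂ := by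
    conv_lhs => rw [← Matrix.fromBlocks_toBlocks M]
    congr 1
    · ext i j
      simp only [Matrix.toBlocks₁₁, hM, Matrix.of_apply, LinearMap.BilinForm.toMatrix_apply,
        Matrix.zero_apply]
      refine hiso _ ?_ _ ?_ <;> simp [c]
    · ext i j
      simp [Matrix.toBlocks₂₁, Matrix.toBlocks₁₂, hM, LinearMap.BilinForm.toMatrix_apply, hBs]
  have hdet : M.det * (-1) ^ k = M.toBlocks₁₂.det ^ 2 := by
    rw [← det_swap (F := F) k, ← Matrix.det_mul]
    conv_lhs => rw [hblock]
    rw [Matrix.fromBlocks_multiply]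
    simp [Matrix.det_fromBlocks_zero₁₂, Matrix.det_transpose, pow_two]
  obtain ⟨s, hs0, hs⟩ := det_congr B b c
  refine ⟨M.toBlocks₁₂.det / s, ?_⟩
  rw [← hM] at hs
  field_simp
  linear_combination hdet - (-1) ^ k * hs

/-- The discriminant criterion for a Lagrangian. -/
theorem exists_lagrangian_of_isSquare (h2 : (2 : F) ≠ 0) {U : Type*} [AddCommGroup U] [Module F U]
    [FiniteDimensional F U] (B : BilinForm F U) (hBs : ∀ x y, B x y = B y x) (hB : B.Nondegenerate)
    {k : ℕ} (hU : Module.finrank F U = 2 * k) {ι : Type*} [Fintype ι] [DecidableEq ι]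
    (b : Module.Basis ι F U) (h : IsSquare ((-1) ^ k * (LinearMap.BilinForm.toMatrix b B).det)) :
    ∃ X : Submodule F U, Module.finrank F X = k ∧ ∀ x ∈ X, ∀ y ∈ X, B x y = 0 := by
  classical
  obtain _ | j := k
  · exact ⟨⊥, finrank_bot F U, fun x hx y _ => by simp [(Submodule.mem_bot F).1 hx]⟩
  let M : Matrix (Fin (j + 1) ⊕ Fin (j + 1)) (Fin (j + 1) ⊕ Fin (j + 1)) F := Matrix.fromBlocks 0 1 1 0
  let H : BilinForm F (Fin (j + 1) ⊕ Fin (j + 1) → F) := Matrix.toBilin' M
  have hMt : M.transpose = M := by simp [M, Matrix.fromBlocks_transpose]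
  have hH : ∀ x y, H x y = H y x := by
    intro x y
    simp only [H, Matrix.toBilin'_apply']
    rw [Matrix.dotProduct_mulVec, ← Matrix.mulVec_transpose, hMt, dotProduct_comm]
  have hdetH : (LinearMap.BilinForm.toMatrix (Pi.basisFun F (Fin (j + 1) ⊕ Fin (j + 1))) H).det =
      (-1) ^ (j + 1) := by
    rw [show LinearMap.BilinForm.toMatrix (Pi.basisFun F (Fin (j + 1) ⊕ Fin (j + 1))) H = M from
      LinearMap.BilinForm.toMatrix'_toBilin' M, det_swap]
  have hHn : H.Nondegenerate := by
    rw [LinearMap.BilinForm.nondegenerate_iff_det_ne_zero (Pi.basisFun F _), hdetH]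
    exact pow_ne_zero _ (by norm_num)
  have hW : Module.finrank F (Fin (j + 1) ⊕ Fin (j + 1) → F) = (2 * j + 1) + 1 := by
    simp; omega
  obtain ⟨e, he⟩ := exists_isometry h2 B H hBs hH hB hHn (n := 2 * j + 1) (by omega) hW b
    (Pi.basisFun F _) (by rw [hdetH, mul_comm]; exact h)
  let L : Submodule F (Fin (j + 1) ⊕ Fin (j + 1) → F) :=
    LinearMap.ker (LinearMap.funLeft F F (Sum.inr : Fin (j + 1) → Fin (j + 1) ⊕ Fin (j + 1)))
  refine ⟨L.map e.symm.toLinearMap, ?_, ?_⟩
  · rw [LinearEquiv.finrank_map_eq e.symm L]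
    have h := LinearMap.finrank_range_add_finrank_ker
      (LinearMap.funLeft F F (Sum.inr : Fin (j + 1) → Fin (j + 1) ⊕ Fin (j + 1)))
    rw [LinearMap.range_eq_top.2 (LinearMap.funLeft_surjective_of_injective F F _ Sum.inr_injective),
      finrank_top, hW, Module.finrank_fin_fun] at h
    change j + 1 + Module.finrank F L = _ at h
    omega
  · rintro _ ⟨x, hx, rfl⟩ _ ⟨y, hy, rfl⟩
    rw [← he, LinearEquiv.coe_coe, e.apply_symm_apply, e.apply_symm_apply]
    have hx' : ∀ i, x (Sum.inr i) = 0 := fun i => congrFun (LinearMap.mem_ker.1 hx) i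
    have hy' : ∀ i, y (Sum.inr i) = 0 := fun i => congrFun (LinearMap.mem_ker.1 hy) i
    simp [H, M, Matrix.toBilin'_apply, Fintype.sum_sum_type, hx', hy']

omit [Fintype F] in
/-- The determinant of a tensor product of forms. -/
theorem det_tmul {U W : Type*} [AddCommGroup U] [Module F U] [FiniteDimensional F U]
    [AddCommGroup W] [Module F W] [FiniteDimensional F W] (B : BilinForm F U) (C : BilinForm F W)
    {ι ι' : Type*} [Fintype ι] [DecidableEq ι] [Fintype ι'] [DecidableEq ι']
    (b : Module.Basis ι F U) (c : Module.Basis ι' F W) :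
    (LinearMap.BilinForm.toMatrix (b.tensorProduct c) (B.tmul C)).det =
      (LinearMap.BilinForm.toMatrix b B).det ^ Fintype.card ι' *
      (LinearMap.BilinForm.toMatrix c C).det ^ Fintype.card ι := by
  rw [← Matrix.det_kronecker]
  congr 1
  ext ⟨i, j⟩ ⟨i', j'⟩
  simp [LinearMap.BilinForm.toMatrix_apply, LinearMap.BilinForm.tmul, mul_comm]

omit [Fintype F] in
theorem tmul_symm {U W : Type*} [AddCommGroup U] [Module F U]
    [AddCommGroup W] [Module F W] (B : BilinForm F U) (C : BilinForm F W)
    (hB : ∀ x y, B x y = B y x) (hC : ∀ x y, C x y = C y x) :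
    ∀ x y, (B.tmul C) x y = (B.tmul C) y x := by
  intro x y
  induction x using TensorProduct.induction_on with
  | zero => simp
  | tmul u w =>
    induction y using TensorProduct.induction_on with
    | zero => simp
    | tmul u' w' =>
      simp only [LinearMap.BilinForm.tmul, LinearMap.BilinForm.tensorDistrib_tmul, smul_eq_mul]
      rw [hB u u', hC w w']
    | add a b ha hb => simp [ha, hb]
  | add a b ha hb => simp [ha, hb]

end Cfsg.Agent.FiniteFormClass
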