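import Mathlib

/-!
Jordan partitions of nilpotent maps through the rank sequence: existence of a nilpotent map with
given partition and the partition of a complemented invariant subspace being a sub-multiset.
-/

set_option autoImplicit false

namespace Cfsg.Agent.NilpotentPartition

variable {F V : Type*} [Field F] [AddCommGroup V] [Module F V]

theorem finrank_map_pow_step [FiniteDimensional F V] (N : Module.End F V) (W : Submodule F V) (k : ℕ) :
    Module.finrank F ↥(W.map (N ^ (k + 1))) + Module.finrank F ↥(W.map (N ^ k) ⊓ LinearMap.ker N) =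
      Module.finrank F ↥(W.map (N ^ k)) := by
  have h := LinearMap.finrank_range_add_finrank_ker (N.domRestrict (W.map (N ^ k)))
  rw [LinearMap.range_domRestrict, LinearMap.ker_domRestrict] at h
  rw [pow_succ' N k, Module.End.mul_eq_comp, Submodule.map_comp, ← h]
  congr 1
  rw [← Submodule.finrank_map_subtype_eq (W.map (N ^ k)), Submodule.map_comap_subtype]

/-- Number of Jordan blocks of size exceeding `k` of `N` on `W`. -/
noncomputable def blockCount (N : Module.End F V) (W : Submodule F V) (k : ℕ) : ℕ :=
  Module.finrank F ↥(W.map (N ^ k) ⊓ LinearMap.ker N)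

theorem blockCount_antitone [FiniteDimensional F V] (N : Module.End F V) (W : Submodule F V)
    (hW : W.map N ≤ W) (k : ℕ) : blockCount N W (k + 1) ≤ blockCount N W k := by
  apply Submodule.finrank_mono
  refine inf_le_inf_right _ ?_
  rw [pow_succ, Module.End.mul_eq_comp, Submodule.map_comp]
  exact Submodule.map_mono hW

theorem finrank_map_add [FiniteDimensional F V] (N : Module.End F V) {W C : Submodule F V}
    (hW : W.map N ≤ W) (hC : C.map N ≤ C) (hWC : IsCompl W C) (k : ℕ) :
    Module.finrank F ↥(W.map (N ^ k)) + Module.finrank F ↥(C.map (N ^ k)) =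
      Module.finrank F ↥(LinearMap.range (N ^ k)) := by
  have hinv : ∀ U : Submodule F V, U.map N ≤ U → U.map (N ^ k) ≤ U := by
    intro U hU
    induction k with
    | zero => rw [pow_zero, Module.End.one_eq_id, Submodule.map_id]
    | succ k ih =>
      rw [pow_succ, Module.End.mul_eq_comp, Submodule.map_comp]
      exact (Submodule.map_mono hU).trans ih
  rw [LinearMap.range_eq_map, ← hWC.sup_eq_top, Submodule.map_sup,
    ← Submodule.finrank_sup_add_finrank_inf_eq,
    (hWC.disjoint.mono (hinv W hW) (hinv C hC)).eq_bot, finrank_bot, add_zero]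

theorem sum_map_sub_second (μ : Multiset ℕ) (k : ℕ) :
    (μ.map (· - k)).sum + (μ.map (· - (k + 2))).sum =
      2 * (μ.map (· - (k + 1))).sum + μ.count (k + 1) := by
  induction μ using Multiset.induction_on with
  | empty => simp
  | cons b μ ih =>
    simp only [Multiset.map_cons, Multiset.sum_cons, Multiset.count_cons]
    split_ifs <;> omega

theorem exists_sub_partition [FiniteDimensional F V] (N : Module.End F V) (μ : Multiset ℕ) (p : ℕ)
    (hN : N ^ p = 0) (hμ : ∀ k, Module.finrank F ↥(LinearMap.range (N ^ k)) = (μ.map (· - k)).sum)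
    {W C : Submodule F V} (hW : W.map N ≤ W) (hC : C.map N ≤ C) (hWC : IsCompl W C) :
    ∃ ν : Multiset ℕ, ν ≤ μ ∧ ν.sum = Module.finrank F ↥W := by
  classical
  set c := blockCount N W with hc
  have hr : ∀ k, Module.finrank F ↥(W.map (N ^ (k + 1))) + c k =
      Module.finrank F ↥(W.map (N ^ k)) := finrank_map_pow_step N W
  have hcount : ∀ k, c k - c (k + 1) ≤ μ.count (k + 1) := by
    intro k
    have h0 := sum_map_sub_second μ k
    rw [← hμ, ← hμ, ← hμ, ← finrank_map_add N hW hC hWC k,
      ← finrank_map_add N hW hC hWC (k + 1), ← finrank_map_add N hW hC hWC (k + 2)] at h0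
    have h1 := hr k
    have h2 : Module.finrank F ↥(W.map (N ^ (k + 2))) + c (k + 1) =
        Module.finrank F ↥(W.map (N ^ (k + 1))) := hr (k + 1)
    have h3 := finrank_map_pow_step N C k
    have h4 : Module.finrank F ↥(C.map (N ^ (k + 2))) + blockCount N C (k + 1) =
        Module.finrank F ↥(C.map (N ^ (k + 1))) := finrank_map_pow_step N C (k + 1)
    have h5 := blockCount_antitone N W hW k
    have h6 := blockCount_antitone N C hC k
    simp only [blockCount, hc] at *
    omega
  refine ⟨∑ k ∈ Finset.range p, Multiset.replicate (c k - c (k + 1)) (k + 1), ?_, ?_⟩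
  · rw [Multiset.le_iff_count]
    intro e
    rw [Multiset.count_sum']
    simp only [Multiset.count_replicate]
    rcases e with _ | e
    · simp
    · by_cases he : e < p
      · rw [Finset.sum_eq_single_of_mem e (Finset.mem_range.mpr he) (fun k _ hk => by simp [hk])]
        simpa using hcount e
      · rw [Finset.sum_eq_zero]
        · exact Nat.zero_le _
        · intro k hk
          rw [Finset.mem_range] at hk
          rw [if_neg]; omega
  · rw [Multiset.sum_sum]
    simp only [Multiset.sum_replicate, smul_eq_mul]
    have key : ∀ m, ∑ k ∈ Finset.range m, (c k - c (k + 1)) * (k + 1) + m * c m +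
        Module.finrank F ↥(W.map (N ^ m)) = Module.finrank F ↥W := by
      intro m
      induction m with
      | zero =>
        have h0 : W.map (N ^ 0) = W := by rw [pow_zero, Module.End.one_eq_id, Submodule.map_id]
        rw [h0]; simp
      | succ m ih =>
        rw [Finset.sum_range_succ]
        have h1 := hr m
        have h5 : c (m + 1) ≤ c m := blockCount_antitone N W hW m
        obtain ⟨d, hd⟩ := Nat.exists_eq_add_of_le h5
        rw [hd, Nat.add_sub_cancel_left]
        rw [hd] at h1 ih
        rw [← ih, ← h1]
        ring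
    have hp := key p
    have hc0 : c p = 0 := by simp [hc, blockCount, hN]
    rw [hc0, mul_zero, add_zero, hN, Submodule.map_zero, finrank_bot, add_zero] at hp
    exact hp

theorem exists_nilpotent_with_partition [FiniteDimensional F V] (μ : Multiset ℕ)
    (hμ : μ.sum = Module.finrank F V) :
    ∃ N : Module.End F V, ∀ k, Module.finrank F ↥(LinearMap.range (N ^ k)) = (μ.map (· - k)).sum := by
  classical
  let L := μ.toList
  have hcard : Fintype.card (Σ i : Fin L.length, Fin (L.get i)) = Module.finrank F V := by
    rw [Fintype.card_sigma]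
    simp only [Fintype.card_fin]
    rw [← hμ, ← Multiset.sum_toList, ← List.sum_ofFn, List.ofFn_get]
  let b : Module.Basis (Σ i : Fin L.length, Fin (L.get i)) F V :=
    (Module.finBasis F V).reindex (Fintype.equivOfCardEq (by rw [hcard, Fintype.card_fin]))
  let sh : ℕ → (Σ i : Fin L.length, Fin (L.get i)) → V := fun k x =>
    if h : (x.2 : ℕ) + k < L.get x.1 then b ⟨x.1, ⟨x.2 + k, h⟩⟩ else 0
  let N : Module.End F V := b.constr F (sh 1)
  refine ⟨N, fun k => ?_⟩
  have hNk : ∀ k x, (N ^ k) (b x) = sh k x := by
    intro k
    induction k with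
    | zero => intro x; simp [sh]
    | succ k ih =>
      rintro ⟨i, l⟩
      rw [pow_succ', Module.End.mul_apply, ih]
      simp only [sh]
      by_cases h : (l : ℕ) + k < L.get i
      · rw [dif_pos h, Module.Basis.constr_basis]
        simp only [sh, Nat.add_assoc]
      · rw [dif_neg h, map_zero, dif_neg (by omega)]
  have hrange : LinearMap.range (N ^ k) =
      Submodule.span F (Set.range fun x : {x : (Σ i : Fin L.length, Fin (L.get i)) // k ≤ (x.2 : ℕ)} => b x) := by
    rw [LinearMap.range_eq_map, ← b.span_eq, Submodule.map_span]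
    apply le_antisymm <;> rw [Submodule.span_le]
    · rintro _ ⟨_, ⟨x, rfl⟩, rfl⟩
      rw [hNk]
      simp only [sh]
      split_ifs with h
      · exact Submodule.subset_span ⟨⟨⟨x.1, ⟨x.2 + k, h⟩⟩, Nat.le_add_left _ _⟩, rfl⟩
      · exact Submodule.zero_mem _
    · rintro _ ⟨⟨⟨i, l⟩, hl⟩, rfl⟩
      refine Submodule.subset_span ⟨b ⟨i, ⟨l - k, by omega⟩⟩, ⟨_, rfl⟩, ?_⟩
      rw [hNk]
      simp only [sh]
      simp only at hl
      rw [dif_pos (show l - k + k < L.get i by omega)]
      congr
      omega
  rw [hrange, finrank_span_eq_card]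
  · let e : {x : (Σ i : Fin L.length, Fin (L.get i)) // k ≤ (x.2 : ℕ)} ≃
        Σ i : Fin L.length, Fin (L.get i - k) :=
      { toFun := fun x => ⟨x.1.1, ⟨x.1.2 - k, by have := x.1.2.2; have := x.2; omega⟩⟩
        invFun := fun y => ⟨⟨y.1, ⟨y.2 + k, by have := y.2.2; omega⟩⟩, Nat.le_add_left k _⟩
        left_inv := by
          rintro ⟨⟨i, l⟩, h⟩
          simp only [Subtype.mk.injEq, Sigma.mk.injEq, heq_eq_eq, true_and]
          ext; simp only at h ⊢; omega
        right_inv := by
          rintro ⟨i, l⟩
          simp only [Sigma.mk.injEq, heq_eq_eq, true_and]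
          ext; exact Nat.add_sub_cancel _ _ }
    rw [Fintype.card_congr e, Fintype.card_sigma]
    simp only [Fintype.card_fin]
    conv_rhs => rw [← μ.coe_toList, Multiset.map_coe, Multiset.sum_coe]
    rw [← List.sum_ofFn]
    congr 1
    conv_rhs => rw [← List.ofFn_get μ.toList, List.map_ofFn]
    rfl
  · exact b.linearIndependent.comp _ Subtype.val_injective

end Cfsg.Agent.NilpotentPartition
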