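import Mathlib
import Cfsg.Prelude.Def_JordanBlocks
import Cfsg.Agent.Lib.NilpotentPartition

/-!
Unipotent Jordan type matrices: the nilpotent part, its powers and their ranks, block counts.
-/

set_option autoImplicit false

namespace Cfsg.Agent.JordanType

open Matrix

variable {F : Type*} [Field F] {t : ℕ}

/-- index type -/
abbrev Ix (d : Fin t → ℕ) := (k : Fin t) × Fin (d k)

/-- the shift by `k` along the blocks -/
def sh (d : Fin t → ℕ) (F : Type*) [Field F] (k : ℕ) : Matrix (Ix d) (Ix d) F :=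
  Matrix.of fun p q => if p.1 = q.1 ∧ (p.2 : ℕ) = q.2 + k then 1 else 0

theorem jordanTypeMatrix_eq (d : Fin t → ℕ) : Cfsg.jordanTypeMatrix d F = 1 + sh d F 1 := by
  ext ⟨a, i⟩ ⟨b, j⟩
  rw [Cfsg.jordanTypeMatrix, Matrix.add_apply]
  by_cases hab : a = b
  · subst hab
    rw [Matrix.blockDiagonal'_apply_eq]
    simp only [Cfsg.jordanBlock, sh, Matrix.of_apply, true_and]
    by_cases hij : i = j
    · subst hij; simp
    · have hij' : (i : ℕ) ≠ j := fun h => hij (Fin.ext h)
      simp [Matrix.one_apply, hij, hij']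
  · rw [Matrix.blockDiagonal'_apply_ne _ _ _ hab]
    simp [sh, Matrix.one_apply, hab]

theorem sum_indicator (d : Fin t → ℕ) (h : Fin t → ℕ → F) (hh : ∀ a n, d a ≤ n → h a n = 0) (b : Fin t) (n : ℕ) :
    ∑ r : Ix d, h r.1 r.2 * (if r.1 = b ∧ (r.2 : ℕ) = n then 1 else 0) = h b n := by
  rw [Fintype.sum_sigma, Finset.sum_eq_single b]
  · by_cases hn : n < d b
    · rw [Finset.sum_eq_single (⟨n, hn⟩ : Fin (d b))]
      · simp
      · intro i _ hi
        have : (i : ℕ) ≠ n := fun h' => hi (Fin.ext h')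
        simp [this]
      · simp
    · rw [hh b n (Nat.le_of_not_lt hn)]
      refine Finset.sum_eq_zero fun i _ => ?_
      have : (i : ℕ) ≠ n := fun h' => hn (h' ▸ i.2)
      simp [this]
  · intro a _ ha; simp [ha]
  · simp

theorem sh_mul_one (d : Fin t → ℕ) (k : ℕ) : sh d F k * sh d F 1 = sh d F (k + 1) := by
  ext ⟨a, i⟩ ⟨b, j⟩
  rw [Matrix.mul_apply]
  have := sum_indicator (F := F) d (fun c n => if a = c ∧ (i : ℕ) = n + k then 1 else 0)
    (fun c n hn => by
      rw [if_neg]; rintro ⟨rfl, h⟩; omega) b ((j : ℕ) + 1)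
  simp only [sh, Matrix.of_apply] at this ⊢
  rw [this]
  simp only [add_assoc, add_comm 1 k]

theorem sh_pow (d : Fin t → ℕ) (k : ℕ) : sh d F 1 ^ k = sh d F k := by
  induction k with
  | zero =>
    ext ⟨a, i⟩ ⟨b, j⟩
    rw [pow_zero]
    simp only [sh, Matrix.of_apply, Matrix.one_apply, add_zero, Sigma.mk.injEq]
    by_cases hab : a = b
    · subst hab; simp [Fin.ext_iff]
    · simp [hab]
  | succ k ih => rw [pow_succ, ih, sh_mul_one]

/-- the sum of `d a - k` over the blocks -/
def rk (d : Fin t → ℕ) (k : ℕ) : ℕ := ∑ a, (d a - k)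

theorem rank_sh (d : Fin t → ℕ) (k : ℕ) : (sh d F k).rank = rk d k := by
  classical
  rw [Matrix.rank_eq_finrank_span_cols]
  let S := {p : Ix d // k ≤ (p.2 : ℕ)}
  let b := Pi.basisFun F (Ix d)
  have hspan : Submodule.span F (Set.range (sh d F k).col) =
      Submodule.span F (Set.range fun p : S => b p.1) := by
    apply le_antisymm <;> rw [Submodule.span_le]
    · rintro _ ⟨⟨a, j⟩, rfl⟩
      by_cases h : (j : ℕ) + k < d a
      · refine Submodule.subset_span ⟨⟨⟨a, ⟨j + k, h⟩⟩, Nat.le_add_left _ _⟩, ?_⟩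
        funext p
        obtain ⟨c, i⟩ := p
        simp only [b, Pi.basisFun_apply, Matrix.col_apply, sh, Matrix.of_apply, Pi.single_apply, Sigma.mk.injEq]
        by_cases hc : c = a
        · subst hc; simp [Fin.ext_iff]
        · simp [hc]
      · have : (sh d F k).col ⟨a, j⟩ = 0 := by
          funext p
          obtain ⟨c, i⟩ := p
          simp only [Matrix.col_apply, sh, Matrix.of_apply, Pi.zero_apply]
          rw [if_neg]
          rintro ⟨rfl, h'⟩
          omega
        rw [this]; exact Submodule.zero_mem _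
    · rintro _ ⟨⟨⟨a, i⟩, hi⟩, rfl⟩
      simp only at hi
      refine Submodule.subset_span ⟨⟨a, ⟨i - k, by omega⟩⟩, ?_⟩
      funext p
      obtain ⟨c, j⟩ := p
      simp only [b, Pi.basisFun_apply, Matrix.col_apply, sh, Matrix.of_apply, Pi.single_apply, Sigma.mk.injEq]
      by_cases hc : c = a
      · subst hc
        simp [Fin.ext_iff, Nat.sub_add_cancel hi]
      · simp [hc]
  rw [hspan, finrank_span_eq_card (R := F) (b := fun p : S => b p.1)
    (b.linearIndependent.comp _ Subtype.val_injective)]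
  let e : S ≃ Σ a : Fin t, Fin (d a - k) :=
    { toFun := fun x => ⟨x.1.1, ⟨x.1.2 - k, by have := x.1.2.2; have := x.2; omega⟩⟩
      invFun := fun y => ⟨⟨y.1, ⟨y.2 + k, by have := y.2.2; omega⟩⟩, Nat.le_add_left k _⟩
      left_inv := by
        rintro ⟨⟨i, l⟩, h⟩
        exact Subtype.ext (congrArg (Sigma.mk i) (Fin.ext (Nat.sub_add_cancel h)))
      right_inv := by
        rintro ⟨i, l⟩
        simp only [Sigma.mk.injEq, heq_eq_eq, true_and]
        ext; exact Nat.add_sub_cancel _ _ }
  rw [Fintype.card_congr e, Fintype.card_sigma]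
  simp [rk]

theorem rk_step (d : Fin t → ℕ) (k : ℕ) :
    rk d k + rk d (k + 2) = 2 * rk d (k + 1) + (Finset.univ.filter fun a => d a = k + 1).card := by
  simp only [rk, Finset.card_filter, Finset.mul_sum, ← Finset.sum_add_distrib]
  refine Finset.sum_congr rfl fun a _ => ?_
  split_ifs <;> omega

theorem rank_pow_of_isConj {n : Type*} [Fintype n] [DecidableEq n] (d : Fin t → ℕ) (e : Ix d ≃ n) (A : Matrix n n F)
    (h : IsConj (Matrix.reindex e e (Cfsg.jordanTypeMatrix d F)) A) (k : ℕ) : ((A - 1) ^ k).rank = rk d k := by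
  obtain ⟨P, hP⟩ := h
  have h1 : (Matrix.reindex e e (Cfsg.jordanTypeMatrix d F) - 1) = Matrix.reindex e e (sh d F 1) := by
    rw [jordanTypeMatrix_eq]
    ext i j
    simp [Matrix.one_apply]
  have h2 : SemiconjBy (P : Matrix n n F) (Matrix.reindex e e (sh d F 1)) (A - 1) := by
    rw [← h1]; exact hP.sub_right (SemiconjBy.one_right _)
  have h3 := h2.pow_right k
  have hU : IsUnit (P : Matrix n n F).det := (Matrix.isUnit_iff_isUnit_det _).1 P.isUnit
  rw [← Matrix.rank_mul_eq_left_of_isUnit_det (P : Matrix n n F) _ hU, ← h3.eq,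
    Matrix.rank_mul_eq_right_of_isUnit_det _ _ hU]
  have h4 : Matrix.reindex e e (sh d F 1) ^ k = Matrix.reindex e e (sh d F 1 ^ k) := by
    rw [← Matrix.coe_reindexAlgEquiv F F]
    exact (map_pow _ _ _).symm
  rw [h4, Matrix.rank_reindex, sh_pow, rank_sh]

end Cfsg.Agent.JordanType
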