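import Mathlib
import Cfsg.Agent.Lib.SymplecticBasic

/-!
Alternating forms: symplectic bases and even rank.
-/

set_option autoImplicit false

open Matrix Cfsg.Agent.SymplecticBasic

namespace Cfsg.Agent.SymplecticAlt

variable {F : Type*} [Field F] {V : Type*} [AddCommGroup V] [Module F V] [FiniteDimensional F V]

omit [FiniteDimensional F V] in
theorem swap_neg (B : V →ₗ[F] V →ₗ[F] F) (hB : ∀ v, B v v = 0) (u v : V) : B v u = - B u v := by
  have h := hB (u + v)
  simp only [map_add, LinearMap.add_apply, hB] at h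
  linear_combination h

/-- A symplectic basis of a nondegenerate subspace. -/
theorem exists_symp_basis (B : V →ₗ[F] V →ₗ[F] F) (hB : ∀ v, B v v = 0) :
    ∀ (n : ℕ) (W : Submodule F V), Module.finrank F W = n →
      (∀ u ∈ W, (∀ v ∈ W, B u v = 0) → u = 0) →
      ∃ k, n = 2 * k ∧ ∃ e : Fin k ⊕ Fin k → V, (∀ s, e s ∈ W) ∧
        ∀ s t, B (e s) (e t) = sympForm k F (Pi.single s 1) (Pi.single t 1) := by
  intro n
  induction n using Nat.strong_induction_on with
  | _ n ih =>
    intro W hn hW
    rcases eq_or_ne W ⊥ with rfl | hne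
    · rw [finrank_bot] at hn
      exact ⟨0, by omega, fun s => isEmptyElim s, fun s => isEmptyElim s, fun s => isEmptyElim s⟩
    obtain ⟨u, hu, hu0⟩ := Submodule.exists_mem_ne_zero_of_ne_bot hne
    obtain ⟨z, hz, huz⟩ : ∃ z ∈ W, B u z ≠ 0 := by
      by_contra h; push Not at h; exact hu0 (hW u hu h)
    set v := (B u z)⁻¹ • z with hv_def
    have hv : v ∈ W := W.smul_mem _ hz
    have huv : B u v = 1 := by rw [hv_def, map_smul, smul_eq_mul, inv_mul_cancel₀ huz]
    have hvu : B v u = -1 := by rw [swap_neg B hB u v, huv]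
    let L : W →ₗ[F] F × F := ((B u).prod (B v)).comp W.subtype
    have hLsurj : Function.Surjective L := by
      rintro ⟨a, b⟩
      refine ⟨a • ⟨v, hv⟩ - b • ⟨u, hu⟩, ?_⟩
      simp [L, huv, hvu, hB]
    let W' : Submodule F V := (LinearMap.ker L).map W.subtype
    have hW' : ∀ x, x ∈ W' ↔ x ∈ W ∧ B u x = 0 ∧ B v x = 0 := by
      intro x; simp [W', L]; tauto
    have hrank : Module.finrank F W' + 2 = n := by
      have h1 := L.finrank_range_add_finrank_ker
      rw [LinearMap.range_eq_top.mpr hLsurj, finrank_top, Module.finrank_prod, Module.finrank_self,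
        hn] at h1
      rw [show Module.finrank F W' = Module.finrank F (LinearMap.ker L) from
        Submodule.finrank_map_subtype_eq _ _]
      omega
    have hnd : ∀ x ∈ W', (∀ y ∈ W', B x y = 0) → x = 0 := by
      intro x hx h
      obtain ⟨hxW, hux, hvx⟩ := (hW' x).mp hx
      refine hW x hxW fun y hy => ?_
      have hy' : y - B u y • v + B v y • u ∈ W' := (hW' _).mpr
        ⟨add_mem (sub_mem hy (W.smul_mem _ hv)) (W.smul_mem _ hu),
          by simp [huv, hB], by simp [hvu, hB]⟩
      simpa [swap_neg B hB u x, swap_neg B hB v x, hux, hvx] using h _ hy'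
    obtain ⟨k, hk, e, he, hform⟩ := ih _ (by omega) W' rfl hnd
    refine ⟨k + 1, by omega,
      Sum.elim (Fin.cons v fun i => e (Sum.inl i)) (Fin.cons u fun i => e (Sum.inr i)), ?_, ?_⟩
    · rintro (i | i) <;> refine Fin.cases ?_ (fun j => ?_) i
      · simpa using hv
      · simpa using ((hW' _).mp (he (Sum.inl j))).1
      · simpa using hu
      · simpa using ((hW' _).mp (he (Sum.inr j))).1
    · have h1 : ∀ s, B u (e s) = 0 ∧ B v (e s) = 0 := fun s => ((hW' _).mp (he s)).2
      have h2 : ∀ s, B (e s) u = 0 ∧ B (e s) v = 0 := fun s =>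
        ⟨by rw [swap_neg B hB u, (h1 s).1, neg_zero], by rw [swap_neg B hB v, (h1 s).2, neg_zero]⟩
      have hll := fun i j => hform (Sum.inl i) (Sum.inl j)
      have hlr := fun i j => hform (Sum.inl i) (Sum.inr j)
      have hrl := fun i j => hform (Sum.inr i) (Sum.inl j)
      have hrr := fun i j => hform (Sum.inr i) (Sum.inr j)
      rintro (i | i) (j | j) <;>
        refine Fin.cases ?_ (fun a => ?_) i <;> refine Fin.cases ?_ (fun b => ?_) j <;>
        simp [h1, h2, hB, huv, hvu, hll, hlr, hrl, hrr, Pi.single_apply, form_single_inl_right,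
          form_single_inr_right, (Fin.succ_ne_zero _).symm]

theorem even_finrank (B : V →ₗ[F] V →ₗ[F] F) (hB : ∀ v, B v v = 0) (W : Submodule F V)
    (hW : ∀ u ∈ W, (∀ v ∈ W, B u v = 0) → u = 0) : Even (Module.finrank F W) := by
  obtain ⟨k, hk, -⟩ := exists_symp_basis B hB _ W rfl hW
  exact ⟨k, by omega⟩

theorem even_finrank_range (B : V →ₗ[F] V →ₗ[F] F) (hB : ∀ v, B v v = 0) :
    Even (Module.finrank F (LinearMap.range B)) := by
  obtain ⟨W, hW⟩ := (LinearMap.ker B).exists_isCompl
  have hdim := Submodule.finrank_add_eq_of_isCompl hW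
  have h2 := B.finrank_range_add_finrank_ker
  have hev : Even (Module.finrank F W) := by
    refine even_finrank B hB W fun u hu h => ?_
    have hk : u ∈ LinearMap.ker B := by
      refine LinearMap.mem_ker.mpr (LinearMap.ext fun x => ?_)
      obtain ⟨a, ha, b, hb, rfl⟩ := Submodule.mem_sup.mp
        (show x ∈ LinearMap.ker B ⊔ W by rw [hW.sup_eq_top]; exact Submodule.mem_top)
      rw [map_add, h b hb, swap_neg B hB a u, LinearMap.mem_ker.mp ha]
      simp
    exact (Submodule.disjoint_def.mp hW.disjoint) u hk hu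
  have : Module.finrank F (LinearMap.range B) = Module.finrank F W := by omega
  rwa [this]

end Cfsg.Agent.SymplecticAlt
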