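import Mathlib
import Cfsg.Agent.Lib.OrthUnitaryOmega

/-!
Siegel transformations lie in the commutator subgroup; the centre of the commutator subgroup of an
orthogonal group consists of `±1`; the spinor character of `-1` on hyperbolic extensions.
-/

set_option autoImplicit false

namespace Cfsg.Agent.OrthUnitaryCentre

open QuadraticMap
open Cfsg.Agent.OrthUnitaryQuad
open Cfsg.Agent.OrthUnitaryRefl
open Cfsg.Agent.OrthUnitaryOmega

variable {F V W : Type*} [Field F] [AddCommGroup V] [Module F V] [AddCommGroup W] [Module F W]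
variable {Q : QuadraticForm F V}

/-- Two homomorphisms agreeing on reflections are equal. -/
theorem hom_ext (hgen : reflGroup Q = ⊤) {H : Type*} [Group H] (φ ψ : orth Q →* H)
    (h : ∀ v hv, φ (refl Q v hv) = ψ (refl Q v hv)) : φ = ψ := by
  refine MonoidHom.eq_of_eqOn_dense (s := {g | ∃ v hv, g = refl Q v hv}) hgen ?_
  rintro _ ⟨v, hv, rfl⟩
  exact h v hv

/-- `-1` as an isometry. -/
noncomputable def negOne (Q : QuadraticForm F V) : orth Q :=
  ⟨LinearEquiv.neg F, fun x => by simp⟩

theorem negOne_apply (x : V) : (negOne Q).1 x = -x := rfl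

theorem negOne_eq_one_of_two_eq_zero (h2 : (2 : F) = 0) : negOne Q = 1 := orth_ext fun x => by
  show -x = x
  rw [← neg_one_smul F x, show (-1 : F) = 1 by linear_combination -h2, one_smul]

theorem orthCongr_negOne {Q' : QuadraticForm F W} (e : V ≃ₗ[F] W) (h : ∀ x, Q' (e x) = Q x) :
    orthCongr e h (negOne Q) = negOne Q' := orth_ext fun y => by
  show e (-(e.symm y)) = -y
  rw [map_neg, e.apply_symm_apply]

/-- Products of two reflections of equal norm are commutators. -/
theorem refl_mul_mem_commutator [Fintype F] [FiniteDimensional F V]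
    (hQ : (polarBilin Q).Nondegenerate) {u v : V} (hu : Q u ≠ 0) (hv : Q v ≠ 0) (h : Q u = Q v) :
    refl Q u hu * refl Q v hv ∈ commutator (orth Q) := by
  rw [← Abelianization.ker_of, MonoidHom.mem_ker, map_mul,
    of_refl_eq hQ hu hv (by rw [h, div_self hv]; exact IsSquare.one), ← map_mul, refl_sq, map_one]

theorem siegel_mem_commutator_of_ne [Fintype F] [FiniteDimensional F V]
    (hQ : (polarBilin Q).Nondegenerate) {u w : V} (hu : Q u = 0) (hw : polar Q u w = 0)
    (hQw : Q w ≠ 0) : siegel Q u w hu hw ∈ commutator (orth Q) := by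
  rw [siegel_eq_refl_mul hu hw hQw]
  refine refl_mul_mem_commutator hQ _ _ ?_
  rw [QuadraticMap.map_add (⇑Q), QuadraticMap.map_smul, hu, polar_smul_right, polar_comm Q w u, hw]
  simp

/-- Elements commuting with the commutator subgroup fix every singular line. -/
theorem exists_smul_of_commute [Fintype F] [FiniteDimensional F V]
    (hQ : (polarBilin Q).Nondegenerate) (hn : 3 ≤ Module.finrank F V) {g : orth Q}
    (hg : ∀ k ∈ commutator (orth Q), g * k = k * g) {u : V} (hu : Q u = 0) :
    ∃ c : F, g.1 u = c • u := by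
  by_cases hu0 : u = 0
  · exact ⟨0, by simp [hu0]⟩
  obtain ⟨U, φ, hφ, hφe, hU⟩ := exists_split (isReg_of_nondegenerate hQ) hu hu0
  have hpol : ∀ p p', polar Q (φ p) (φ p') = polar (hypExt (Q.restrict U)) p p' :=
    fun p p' => polar_congr φ hφ p p'
  have hrk : Module.finrank F U ≠ 0 := by
    have := φ.finrank_eq
    rw [finrank_hypExt_space] at this
    omega
  obtain ⟨z, hz⟩ := exists_map_ne_zero hU hrk
  obtain ⟨z₁, hz₁⟩ : ∃ z₁, polar (Q.restrict U) z z₁ ≠ 0 := by
    by_contra hc
    push Not at hc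
    have : φ ((0, 0), z) = 0 := hQ.1 _ fun y => by
      obtain ⟨⟨⟨a, b⟩, y'⟩, rfl⟩ := φ.surjective y
      simp [hpol, polar_hypExt, hc]
    rw [LinearEquiv.map_eq_zero_iff] at this
    exact hz (by rw [show z = 0 from congrArg Prod.snd this, QuadraticMap.map_zero])
  set w := φ ((0, 0), z) with hw
  set x := φ ((0, 0), (-(polar (Q.restrict U) z z₁)⁻¹) • z₁) with hx
  have huw : polar Q u w = 0 := by simp [← hφe, hw, hpol, polar_hypExt]
  have hux : polar Q u x = 0 := by simp [← hφe, hx, hpol, polar_hypExt]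
  have hwx : polar Q w x = -1 := by
    rw [hw, hx, hpol, polar_hypExt, polar_smul_right, smul_eq_mul, neg_mul, inv_mul_cancel₀ hz₁]
    simp
  have hQw : Q w ≠ 0 := by simpa [hw, hφ, hypExt_apply] using hz
  set S := siegel Q u w hu huw with hS
  have hcomm := hg S (siegel_mem_commutator_of_ne hQ hu huw hQw)
  have h1 : g.1 (S.1 x) = S.1 (g.1 x) := by
    rw [← orth_mul_apply, ← orth_mul_apply, hcomm]
  have h2 : S.1 x = x + u := by
    rw [hS, siegel_apply, hux, hwx]
    simp
  rw [h2, map_add, hS, siegel_apply, add_sub_assoc, add_right_inj] at h1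
  set α := polar Q u (g.1 x)
  set β := polar Q w (g.1 x) + Q w * α
  have hQg : Q (g.1 u) = 0 := by rw [map_orth g, hu]
  rw [h1, sub_eq_add_neg, ← neg_smul, QuadraticMap.map_add (⇑Q), QuadraticMap.map_smul,
    QuadraticMap.map_smul, polar_smul_left, polar_smul_right, polar_comm Q w u, huw, hu] at hQg
  simp only [smul_eq_mul, mul_zero, add_zero] at hQg
  have hα : α = 0 := mul_self_eq_zero.1 ((mul_eq_zero.1 hQg).resolve_right hQw)
  exact ⟨-β, by rw [h1, hα, zero_smul, zero_sub, neg_smul]⟩

/-- An isometry fixing all singular lines is `±1`, when there is a singular vector. -/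
theorem eq_one_or_negOne_of_lines [FiniteDimensional F V] (hQ : IsReg Q) {e : V} (he : Q e = 0)
    (he0 : e ≠ 0) (hn : 3 ≤ Module.finrank F V) {g : orth Q}
    (hg : ∀ u, Q u = 0 → ∃ c : F, g.1 u = c • u) : g = 1 ∨ g = negOne Q := by
  obtain ⟨U, φ, hφ, hφe, hU⟩ := exists_split hQ he he0
  set k := (orthCongr φ hφ).symm g with hk
  have hk' : ∀ p, φ (k.1 p) = g.1 (φ p) := fun p => by
    show φ (φ.symm (g.1 (φ p))) = _
    rw [φ.apply_symm_apply]
  have hline : ∀ p, hypExt (Q.restrict U) p = 0 → ∃ c : F, k.1 p = c • p := fun p hp => by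
    obtain ⟨c, hc⟩ := hg (φ p) (by rw [hφ, hp])
    exact ⟨c, φ.injective (by rw [hk', hc, map_smul])⟩
  set e' : (F × F) × U := ((1, 0), 0) with he'
  set f' : (F × F) × U := ((0, 1), 0) with hf'
  obtain ⟨l, hl⟩ := hline e' (by simp [he', hypExt_apply])
  obtain ⟨μ, hμ⟩ := hline f' (by simp [hf', hypExt_apply])
  have hlμ : l * μ = 1 := by
    have h := polar_orth k e' f'
    rw [hl, hμ] at h
    simpa [he', hf', polar_smul_left, polar_smul_right, polar_hypExt] using h
  have hl0 : l ≠ 0 := left_ne_zero_of_mul_eq_one hlμ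
  have hμ0 : μ ≠ 0 := right_ne_zero_of_mul_eq_one hlμ
  have key : ∀ z : U, k.1 ((0, 0), z) = ((0, 0), μ • z) ∧ (Q.restrict U z ≠ 0 → l = μ) := by
    intro z
    obtain ⟨c, hc⟩ := hline ((-(Q.restrict U z), 1), z) (by simp [hypExt_apply])
    have p1 := polar_orth k ((0, 0), z) e'
    have p2 := polar_orth k ((0, 0), z) f'
    rw [hl, polar_smul_right] at p1
    rw [hμ, polar_smul_right] at p2
    have hsplit : (((-(Q.restrict U z), 1), z) : (F × F) × U)
        = (-(Q.restrict U z)) • e' + f' + (((0, 0), z) : (F × F) × U) := by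
      simp [he', hf']
    rw [hsplit, map_add, map_add, map_smul, hl, hμ] at hc
    generalize k.1 ((0, 0), z) = y at p1 p2 hc
    obtain ⟨⟨a, b⟩, y'⟩ := y
    simp [he', hf', polar_hypExt, hl0, hμ0] at p1 p2
    subst p1 p2
    simp [he', hf', Prod.ext_iff] at hc
    obtain ⟨⟨h1, h2⟩, h3⟩ := hc
    refine ⟨by rw [h3, h2], fun hz => ?_⟩
    have h4 : Q.restrict U z * l = Q.restrict U z * μ := by
      rw [QuadraticMap.restrict_apply]
      linear_combination h1 - Q (z : V) * h2
    exact mul_left_cancel₀ hz h4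
  have hrk : Module.finrank F U ≠ 0 := by
    have := φ.finrank_eq
    rw [finrank_hypExt_space] at this
    omega
  obtain ⟨z, hz⟩ := exists_map_ne_zero hU hrk
  obtain rfl := (key z).2 hz
  have hall : ∀ p, k.1 p = l • p := by
    rintro ⟨⟨a, b⟩, y⟩
    have hsplit : (((a, b), y) : (F × F) × U)
        = a • e' + b • f' + (((0, 0), y) : (F × F) × U) := by simp [he', hf']
    rw [hsplit, map_add, map_add, map_smul, map_smul, hl, hμ, (key y).1]
    simp [he', hf', mul_comm]
  have hgl : ∀ x, g.1 x = l • x := fun x => by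
    obtain ⟨p, rfl⟩ := φ.surjective x
    rw [← hk', hall, map_smul]
  rcases mul_self_eq_one_iff.1 hlμ with rfl | rfl
  · exact Or.inl (orth_ext fun x => by rw [hgl, one_smul]; rfl)
  · exact Or.inr (orth_ext fun x => by rw [hgl, neg_one_smul]; rfl)

open scoped Classical in
/-- The centre of the commutator subgroup. -/
theorem card_center_commutator [Fintype F] [Finite V] [FiniteDimensional F V]
    (hQ : (polarBilin Q).Nondegenerate) {e : V} (he : Q e = 0) (he0 : e ≠ 0)
    (hn : 3 ≤ Module.finrank F V) :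
    Nat.card (Subgroup.center (commutator (orth Q)))
      = if (2 : F) ≠ 0 ∧ negOne Q ∈ commutator (orth Q) then 2 else 1 := by
  have hmem : ∀ c : commutator (orth Q), c ∈ Subgroup.center (commutator (orth Q)) →
      c.1 = 1 ∨ c.1 = negOne Q := fun c hc =>
    eq_one_or_negOne_of_lines (isReg_of_nondegenerate hQ) he he0 hn fun u hu =>
      exists_smul_of_commute hQ hn (fun k hk => by
        exact (congrArg Subtype.val (Subgroup.mem_center_iff.1 hc ⟨k, hk⟩)).symm) hu
  split_ifs with h
  · obtain ⟨h2, hm⟩ := h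
    have hc : (⟨negOne Q, hm⟩ : commutator (orth Q)) ∈ Subgroup.center (commutator (orth Q)) := by
      rw [Subgroup.mem_center_iff]
      intro k
      apply Subtype.ext
      exact orth_ext fun x => by
        show k.1.1 (-x) = -(k.1.1 x)
        rw [map_neg]
    rw [Nat.card_eq_two_iff]
    refine ⟨1, ⟨_, hc⟩, ?_, Set.eq_univ_of_forall fun c => ?_⟩
    · intro h
      have h' : e = -e := congrArg (fun c : Subgroup.center (commutator (orth Q)) => c.1.1.1 e) h
      have : (2 : F) • e = 0 := by rw [two_smul]; nth_rw 2 [h']; exact add_neg_cancel e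
      exact he0 ((smul_eq_zero.1 this).resolve_left h2)
    · rcases hmem c.1 c.2 with hc1 | hc1
      · exact Or.inl (Subtype.ext (Subtype.ext hc1))
      · exact Or.inr (Subtype.ext (Subtype.ext hc1))
  · refine Nat.card_eq_one_iff_unique.2 ⟨⟨fun a b => ?_⟩, ⟨1⟩⟩
    have key : ∀ c : Subgroup.center (commutator (orth Q)), c.1.1 = 1 := fun c => by
      rcases hmem c.1 c.2 with hc | hc
      · exact hc
      · rw [hc]
        refine negOne_eq_one_of_two_eq_zero ?_
        by_contra h2
        exact h ⟨h2, hc ▸ c.1.2⟩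
    exact Subtype.ext (Subtype.ext ((key a).trans (key b).symm))

/-! ### Determinant and spinor character -/

variable [Fintype F]

theorem reflGroup_top_of_two_ne_zero [FiniteDimensional F V] (h2 : (2 : F) ≠ 0) (hQ : IsReg Q) :
    reflGroup Q = ⊤ :=
  reflGroup_eq_top hQ (Or.inl ⟨-1, neg_ne_zero.2 one_ne_zero,
    fun h => h2 (by linear_combination -h)⟩)

theorem detHom_theta_orthCongr [Finite V] [Finite W] [FiniteDimensional F V]
    [FiniteDimensional F W] (h2 : (2 : F) ≠ 0) (hQ : IsReg Q) {Q' : QuadraticForm F W}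
    (e : V ≃ₗ[F] W) (h : ∀ x, Q' (e x) = Q x) (g : orth Q) :
    detHom Q' (orthCongr e h g) = detHom Q g ∧ theta Q' (orthCongr e h g) = theta Q g := by
  classical
  have hgen := reflGroup_top_of_two_ne_zero h2 hQ
  refine ⟨DFunLike.congr_fun (hom_ext hgen ((detHom Q').comp (orthCongr e h).toMonoidHom)
    (detHom Q) fun v hv => ?_) g, DFunLike.congr_fun (hom_ext hgen
    ((theta Q').comp (orthCongr e h).toMonoidHom) (theta Q) fun v hv => ?_) g⟩
  · show detHom Q' (orthCongr e h (refl Q v hv)) = _
    rw [orthCongr_refl e h v hv, detHom_refl, detHom_refl]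
  · show theta Q' (orthCongr e h (refl Q v hv)) = _
    rw [orthCongr_refl e h v hv, theta_refl h2, theta_refl h2, h]

theorem detHom_theta_hypLift [Finite W] [FiniteDimensional F W] (h2 : (2 : F) ≠ 0)
    {P : QuadraticForm F W} (hP : IsReg P) (g : orth P) :
    detHom (hypExt P) (hypLift P g) = detHom P g ∧ theta (hypExt P) (hypLift P g) = theta P g := by
  classical
  have hgen := reflGroup_top_of_two_ne_zero h2 hP
  refine ⟨DFunLike.congr_fun (hom_ext hgen ((detHom (hypExt P)).comp (hypLift P))
    (detHom P) fun v hv => ?_) g, DFunLike.congr_fun (hom_ext hgen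
    ((theta (hypExt P)).comp (hypLift P)) (theta P) fun v hv => ?_) g⟩
  · show detHom (hypExt P) (hypLift P (refl P v hv)) = _
    rw [hypLift_refl, detHom_refl, detHom_refl]
  · show theta (hypExt P) (hypLift P (refl P v hv)) = _
    rw [hypLift_refl, theta_refl h2, theta_refl h2]
    simp [hypExt_apply]

open scoped Classical in
/-- The characters of `-1` after adding a hyperbolic plane. -/
theorem negOne_hypExt [Finite W] [FiniteDimensional F W] (h2 : (2 : F) ≠ 0)
    {P : QuadraticForm F W} (hP : IsReg P) :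
    detHom (hypExt P) (negOne (hypExt P)) = detHom P (negOne P) ∧
      theta (hypExt P) (negOne (hypExt P))
        = (if IsSquare (-1 : F) then 1 else -1) * theta P (negOne P) := by
  set a : (F × F) × W := ((1, 1), 0) with ha
  set b : (F × F) × W := ((1, -1), 0) with hb
  have hQa : hypExt P a = 1 := by simp [ha, hypExt_apply]
  have hQb : hypExt P b = -1 := by simp [hb, hypExt_apply]
  have ha0 : hypExt P a ≠ 0 := by rw [hQa]; exact one_ne_zero
  have hb0 : hypExt P b ≠ 0 := by rw [hQb]; exact neg_ne_zero.2 one_ne_zero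
  have hdec : negOne (hypExt P)
      = refl (hypExt P) a ha0 * refl (hypExt P) b hb0 * hypLift P (negOne P) := by
    apply orth_ext
    rintro ⟨⟨x, y⟩, z⟩
    rw [orth_mul_apply, orth_mul_apply]
    show (((-x, -y), -z) : (F × F) × W) = (refl _ a ha0).1 ((refl _ b hb0).1 ((x, y), -z))
    rw [refl_apply, refl_apply, hQa, hQb]
    simp only [ha, hb, polar_hypExt, polar_zero_left, Prod.smul_mk,
      Prod.mk_sub_mk, smul_eq_mul, smul_zero, sub_zero, Prod.mk.injEq, and_true, inv_one, inv_neg]
    constructor <;> ring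
  obtain ⟨hd, ht⟩ := detHom_theta_hypLift h2 hP (negOne P)
  rw [hdec, map_mul, map_mul, map_mul, map_mul, hd, ht, detHom_refl, detHom_refl, theta_refl h2,
    theta_refl h2, hQa, hQb, if_pos IsSquare.one]
  refine ⟨by simp, ?_⟩
  split_ifs <;> simp

end Cfsg.Agent.OrthUnitaryCentre
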