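import Mathlib
import Cfsg.Agent.Lib.OrthUnitaryCentre

/-!
Orthogonal groups in dimension at least five over finite fields, in every characteristic: the group
generated by singular Siegel transformations is perfect, equals the commutator subgroup, and is
simple modulo its centre.
-/

set_option autoImplicit false

namespace Cfsg.Agent.OrthUnitarySimple

open QuadraticMap
open Cfsg.Agent.OrthUnitaryQuad
open Cfsg.Agent.OrthUnitaryRefl
open Cfsg.Agent.OrthUnitaryOmega
open Cfsg.Agent.OrthUnitaryCentre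
open scoped commutatorElement

variable {F V : Type*} [Field F] [AddCommGroup V] [Module F V] {Q : QuadraticForm F V}

/-- The subgroup generated by Siegel transformations of orthogonal singular pairs. -/
noncomputable def sGroup (Q : QuadraticForm F V) : Subgroup (orth Q) :=
  Subgroup.closure {g | ∃ u w hu hw, Q w = 0 ∧ g = siegel Q u w hu hw}

theorem siegel_mem_sGroup {u w : V} (hu : Q u = 0) (hw : polar Q u w = 0) (hQw : Q w = 0) :
    siegel Q u w hu hw ∈ sGroup Q :=
  Subgroup.subset_closure ⟨u, w, hu, hw, hQw, rfl⟩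

theorem siegel_congr {u w w' : V} (hu : Q u = 0) (hw : polar Q u w = 0) (h : w = w') :
    siegel Q u w hu hw = siegel Q u w' hu (h ▸ hw) := by
  subst h
  rfl

theorem conj_siegel (g : orth Q) (u w : V) (hu : Q u = 0) (hw : polar Q u w = 0) :
    g * siegel Q u w hu hw * g⁻¹
      = siegel Q (g.1 u) (g.1 w) (by rw [map_orth g, hu]) (by rw [polar_orth g, hw]) := by
  rw [mul_inv_eq_iff_eq_mul]
  apply orth_ext
  intro x
  rw [orth_mul_apply, orth_mul_apply, siegel_apply, siegel_apply]
  simp only [map_sub, map_add, map_smul, polar_orth g, map_orth g]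

theorem sGroup_normal : (sGroup Q).Normal := by
  refine ⟨fun x hx g => ?_⟩
  induction hx using Subgroup.closure_induction with
  | mem x hx =>
    obtain ⟨u, w, hu, hw, hQw, rfl⟩ := hx
    rw [conj_siegel]
    exact siegel_mem_sGroup _ _ (by rw [map_orth g, hQw])
  | one => simp [Subgroup.one_mem]
  | mul a b _ _ ha hb =>
    rw [show g * (a * b) * g⁻¹ = (g * a * g⁻¹) * (g * b * g⁻¹) by group]
    exact Subgroup.mul_mem _ ha hb
  | inv a _ ha =>
    rw [show g * a⁻¹ * g⁻¹ = (g * a * g⁻¹)⁻¹ by group]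
    exact Subgroup.inv_mem _ ha

theorem siegel_eq_one {u w : V} (hu : Q u = 0) (hw : polar Q u w = 0) {a : F} (h : w = a • u) :
    siegel Q u w hu hw = 1 := by
  subst h
  apply orth_ext
  intro x
  rw [siegel_apply, polar_smul_left, QuadraticMap.map_smul, hu]
  simp only [smul_eq_mul, mul_zero, zero_mul, add_zero, smul_smul]
  rw [mul_comm (polar (⇑Q) u x) a, add_sub_cancel_right]
  rfl

theorem siegel_zero_left {w : V} (hu : Q 0 = 0) (hw : polar Q 0 w = 0) :
    siegel Q 0 w hu hw = 1 :=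
  orth_ext fun x => by rw [siegel_apply]; simp

theorem siegel_scale {u w : V} {c : F} (hu : Q (c • u) = 0) (hw : polar Q (c • u) w = 0)
    (hu' : Q u = 0) (hw' : polar Q u (c • w) = 0) :
    siegel Q (c • u) w hu hw = siegel Q u (c • w) hu' hw' := by
  apply orth_ext
  intro x
  rw [siegel_apply, siegel_apply, polar_smul_left, polar_smul_left, QuadraticMap.map_smul]
  simp only [smul_eq_mul]
  module

theorem siegel_comm {u w₁ w₂ : V} (hu : Q u = 0) (h₁ : polar Q u w₁ = 0) (h₂ : polar Q u w₂ = 0) :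
    siegel Q u w₁ hu h₁ * siegel Q u w₂ hu h₂ = siegel Q u w₂ hu h₂ * siegel Q u w₁ hu h₁ := by
  rw [siegel_mul hu h₁ h₂, siegel_mul hu h₂ h₁]
  exact siegel_congr _ _ (add_comm _ _)

theorem nondegenerate_of_split (hQ : (polarBilin Q).Nondegenerate) {U : Submodule F V}
    (φ : ((F × F) × U) ≃ₗ[F] V) (hφ : ∀ p, Q (φ p) = hypExt (Q.restrict U) p) :
    (polarBilin (Q.restrict U)).Nondegenerate := by
  have key : ∀ x : U, (∀ y, polar (Q.restrict U) x y = 0) → x = 0 := by
    intro x hx
    have h0 : φ ((0, 0), x) = 0 := hQ.1 _ fun y => by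
      obtain ⟨⟨⟨a, b⟩, y'⟩, rfl⟩ := φ.surjective y
      show polar Q (φ ((0, 0), x)) (φ ((a, b), y')) = 0
      rw [polar_congr φ hφ, polar_hypExt, hx]
      ring
    rw [LinearEquiv.map_eq_zero_iff] at h0
    exact congrArg Prod.snd h0
  refine ⟨fun x hx => key x hx, fun x hx => key x fun y => ?_⟩
  rw [polar_comm]
  exact hx y

variable [Fintype F]

theorem exists_singular [FiniteDimensional F V] (hQ : IsReg Q) (hn : 3 ≤ Module.finrank F V) :
    ∃ x, Q x = 0 ∧ x ≠ 0 := by
  by_contra hc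
  push Not at hc
  obtain ⟨v, hv⟩ := exists_map_ne_zero hQ (by omega)
  have hv0 : v ≠ 0 := fun h => hv (by rw [h, QuadraticMap.map_zero])
  have hfr : ∀ (p : Submodule F V), Module.finrank F p ≤ 2 → p < ⊤ := fun p hp => by
    refine lt_top_iff_ne_top.2 fun he => ?_
    rw [he, finrank_top] at hp
    omega
  have hker : ∀ f : V →ₗ[F] F, 2 ≤ Module.finrank F (LinearMap.ker f) := fun f => by
    have := LinearMap.finrank_range_add_finrank_ker f
    have h1 := Submodule.finrank_le (LinearMap.range f)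
    rw [Module.finrank_self] at h1
    omega
  obtain ⟨w, hwk, hws⟩ : ∃ w, w ∈ LinearMap.ker (polarBilin Q v) ∧ w ∉ Submodule.span F {v} := by
    by_contra hc'
    push Not at hc'
    have h1 := Submodule.finrank_mono (show LinearMap.ker (polarBilin Q v) ≤ Submodule.span F {v}
      from hc')
    have h2 := hker (polarBilin Q v)
    rw [finrank_span_singleton hv0] at h1
    omega
  have hvw : polar Q v w = 0 := hwk
  have hQw : Q w ≠ 0 := fun h0 => hws (by rw [hc w h0]; exact Submodule.zero_mem _)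
  by_cases h2 : (2 : F) = 0
  · have : CharP F 2 := CharTwo.of_one_ne_zero_of_two_eq_zero one_ne_zero h2
    obtain ⟨t, ht⟩ := FiniteField.isSquare_of_char_two (ringChar.eq F 2) (Q w / Q v)
    refine hws (Submodule.mem_span_singleton.2 ⟨t, sub_eq_zero.1 (hc _ ?_)⟩)
    rw [sub_eq_add_neg, QuadraticMap.map_add (⇑Q), QuadraticMap.map_smul, QuadraticMap.map_neg,
      polar_neg_right, polar_smul_left, hvw, smul_eq_mul, ← ht, div_mul_cancel₀ _ hv, smul_zero]
    linear_combination Q w * h2
  · obtain ⟨z, -, hz⟩ := SetLike.exists_of_lt (hfr (Submodule.span F {v, w}) (by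
      classical
      have := finrank_span_finset_le_card (R := F) (({v, w} : Finset V))
      rw [Finset.coe_pair] at this
      exact this.trans Finset.card_le_two))
    set z' := z - (polar Q v z / (2 * Q v)) • v - (polar Q w z / (2 * Q w)) • w with hz'
    have h1 : polar Q v z' = 0 := by
      rw [hz', polar_sub_right, polar_sub_right, polar_smul_right, polar_smul_right, polar_self_mul,
        hvw]
      simp only [smul_eq_mul]
      field_simp
      ring
    have h3 : polar Q w z' = 0 := by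
      rw [hz', polar_sub_right, polar_sub_right, polar_smul_right, polar_smul_right, polar_self_mul,
        polar_comm Q w v, hvw]
      simp only [smul_eq_mul]
      field_simp
      ring
    have hQz : Q z' ≠ 0 := fun h0 => hz (by
      have h := hc _ h0
      rw [hz', sub_eq_zero, sub_eq_iff_eq_add] at h
      rw [h]
      exact Submodule.add_mem _ (Submodule.smul_mem _ _ (Submodule.subset_span (by simp)))
        (Submodule.smul_mem _ _ (Submodule.subset_span (by simp))))
    obtain ⟨x, y, hxy⟩ := FiniteField.exists_root_sum_quadratic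
      (f := Polynomial.C (Q v) * Polynomial.X ^ 2 + Polynomial.C 0 * Polynomial.X
        + Polynomial.C (Q z'))
      (g := Polynomial.C (Q w) * Polynomial.X ^ 2 + Polynomial.C 0 * Polynomial.X
        + Polynomial.C 0)
      (Polynomial.degree_quadratic hv) (Polynomial.degree_quadratic hQw) (card_mod_two h2)
    simp at hxy
    have h0 : x • v + y • w + z' = 0 := hc _ (by
      rw [QuadraticMap.map_add (⇑Q), QuadraticMap.map_add (⇑Q) (x • v), QuadraticMap.map_smul,
        QuadraticMap.map_smul, polar_smul_left, polar_smul_right, hvw, polar_add_left,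
        polar_smul_left, polar_smul_left, h1, h3]
      simp only [smul_eq_mul]
      linear_combination hxy)
    have h4 : polar Q (x • v + y • w + z') z' = 0 := by rw [h0, polar_zero_left]
    rw [polar_add_left, polar_add_left, polar_smul_left, polar_smul_left, h1, h3,
      polar_self_mul] at h4
    simp only [smul_zero, zero_add] at h4
    exact hQz ((mul_eq_zero.1 h4).resolve_left h2)

variable [FiniteDimensional F V]

/-- A frame at a singular vector. -/
theorem exists_frame (hQ : (polarBilin Q).Nondegenerate) (hn : 5 ≤ Module.finrank F V) {u : V}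
    (hu : Q u = 0) (hu0 : u ≠ 0) :
    ∃ (U : Submodule F V) (φ : ((F × F) × U) ≃ₗ[F] V),
      (∀ p, Q (φ p) = hypExt (Q.restrict U) p) ∧ φ ((1, 0), 0) = u ∧
        (polarBilin (Q.restrict U)).Nondegenerate ∧ 3 ≤ Module.finrank F U ∧
          ∃ z, Q.restrict U z = 0 ∧ z ≠ 0 := by
  obtain ⟨U, φ, hφ, hφu, -⟩ := exists_split (isReg_of_nondegenerate hQ) hu hu0
  have hU := nondegenerate_of_split hQ φ hφ
  have hd : 3 ≤ Module.finrank F U := by
    have := φ.finrank_eq
    rw [finrank_hypExt_space] at this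
    omega
  exact ⟨U, φ, hφ, hφu, hU, hd, exists_singular (isReg_of_nondegenerate hU) hd⟩

omit [Fintype F] [FiniteDimensional F V] in
/-- In an isotropic space every vector is a sum of three singular vectors. -/
theorem exists_three_singular (hQ : IsReg Q) {e : V} (he : Q e = 0) (he0 : e ≠ 0) (z : V) :
    ∃ z₁ z₂ z₃, Q z₁ = 0 ∧ Q z₂ = 0 ∧ Q z₃ = 0 ∧ z = z₁ + z₂ + z₃ := by
  obtain ⟨U, φ, hφ, -, -⟩ := exists_split hQ he he0
  obtain ⟨⟨⟨a, b⟩, x⟩, rfl⟩ := φ.surjective z
  refine ⟨φ ((a + Q.restrict U x, 0), 0), φ ((0, b - 1), 0), φ ((-(Q.restrict U x), 1), x),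
    ?_, ?_, ?_, ?_⟩
  · simp [hφ, hypExt_apply]
  · simp [hφ, hypExt_apply]
  · simp [hφ, hypExt_apply]
  · rw [← map_add, ← map_add]
    simp

omit [Fintype F] [FiniteDimensional F V] in
theorem siegel_add_mem {u w₁ w₂ : V} (hu : Q u = 0) (h₁ : polar Q u w₁ = 0)
    (h₂ : polar Q u w₂ = 0) (m₁ : siegel Q u w₁ hu h₁ ∈ sGroup Q)
    (m₂ : siegel Q u w₂ hu h₂ ∈ sGroup Q) :
    siegel Q u (w₁ + w₂) hu (by rw [polar_add_right, h₁, h₂, add_zero]) ∈ sGroup Q := by
  rw [← siegel_mul hu h₁ h₂]
  exact Subgroup.mul_mem _ m₁ m₂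

theorem siegel_mem (hQ : (polarBilin Q).Nondegenerate) (hn : 5 ≤ Module.finrank F V) {u w : V}
    (hu : Q u = 0) (hw : polar Q u w = 0) : siegel Q u w hu hw ∈ sGroup Q := by
  by_cases hu0 : u = 0
  · subst hu0
    rw [siegel_zero_left]
    exact Subgroup.one_mem _
  obtain ⟨U, φ, hφ, hφu, hU, hd, z₀, hz₀, hz₀0⟩ := exists_frame hQ hn hu hu0
  have hpol := fun p p' => polar_congr φ hφ p p'
  obtain ⟨⟨⟨a, b⟩, z⟩, rfl⟩ := φ.surjective w
  have hb : b = 0 := by simpa [← hφu, hpol, polar_hypExt] using hw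
  subst hb
  obtain ⟨z₁, z₂, z₃, h₁, h₂, h₃, rfl⟩ :=
    exists_three_singular (isReg_of_nondegenerate hU) hz₀ hz₀0 z
  have hperp : ∀ (t : F) (y : U), polar Q u (φ ((t, 0), y)) = 0 := fun t y => by
    simp [← hφu, hpol, polar_hypExt]
  have key : ∀ y : U, Q.restrict U y = 0 → ∀ t : F,
      siegel Q u (φ ((t, 0), y)) hu (hperp t y) ∈ sGroup Q := fun y hy t =>
    siegel_mem_sGroup _ _ (by rw [hφ, hypExt_apply, hy]; simp)
  have hsum : φ ((a, 0), z₁ + z₂ + z₃) = φ ((a, 0), z₁) + φ ((0, 0), z₂) + φ ((0, 0), z₃) := by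
    rw [← map_add, ← map_add]
    simp
  rw [siegel_congr hu hw hsum]
  exact siegel_add_mem hu (by rw [polar_add_right, hperp, hperp, add_zero]) (hperp _ _)
    (siegel_add_mem hu (hperp _ _) (hperp _ _) (key z₁ h₁ a) (key z₂ h₂ 0)) (key z₃ h₃ 0)

theorem sGroup_le_bracket (hQ : (polarBilin Q).Nondegenerate) (hn : 5 ≤ Module.finrank F V) :
    sGroup Q ≤ ⁅sGroup Q, sGroup Q⁆ := by
  rw [sGroup, Subgroup.closure_le]
  rintro _ ⟨u, w, hu, hw, hQw, rfl⟩
  rw [← sGroup, SetLike.mem_coe]
  by_cases hu0 : u = 0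
  · subst hu0
    rw [siegel_zero_left]
    exact Subgroup.one_mem _
  obtain ⟨U, φ, hφ, hφu, hU, hd, -⟩ := exists_frame hQ hn hu hu0
  have hpol := fun p p' => polar_congr φ hφ p p'
  obtain ⟨⟨⟨t, s⟩, z⟩, rfl⟩ := φ.surjective w
  have hs : s = 0 := by simpa [← hφu, hpol, polar_hypExt] using hw
  subst hs
  have hz : Q.restrict U z = 0 := by simpa [hφ, hypExt_apply] using hQw
  by_cases hz0 : z = 0
  · subst hz0
    rw [siegel_eq_one hu hw (a := t) (by rw [← hφu, ← map_smul]; simp)]
    exact Subgroup.one_mem _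
  obtain ⟨U', ψ, hψ, hψz, -⟩ := exists_split (isReg_of_nondegenerate hU) hz hz0
  have hU' := nondegenerate_of_split hU ψ hψ
  have hd' : Module.finrank F U' ≠ 0 := by
    have := ψ.finrank_eq
    rw [finrank_hypExt_space] at this
    omega
  obtain ⟨a, ha⟩ := exists_map_ne_zero (isReg_of_nondegenerate hU') hd'
  obtain ⟨b', hb'⟩ : ∃ b', polar ((Q.restrict U).restrict U') a b' = -1 := by
    obtain ⟨b₁, hb₁⟩ : ∃ b₁, polar ((Q.restrict U).restrict U') a b₁ ≠ 0 := by
      by_contra hc
      push Not at hc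
      exact ha (by rw [hU'.1 a hc, QuadraticMap.map_zero])
    exact ⟨(-(polar ((Q.restrict U).restrict U') a b₁)⁻¹) • b₁, by
      rw [polar_smul_right, smul_eq_mul, neg_mul, inv_mul_cancel₀ hb₁]⟩
  set A := φ ((0, 0), ψ ((0, 0), a)) with hA
  set B := φ ((0, 0), ψ ((0, 0), b')) with hB
  have hpz : ∀ y, polar (Q.restrict U) z (ψ ((0, 0), y)) = 0 := fun y => by
    rw [← hψz, polar_congr ψ hψ]; simp [polar_hypExt]
  have hwA : polar Q (φ ((t, 0), z)) A = 0 := by simp [hA, hpol, polar_hypExt, hpz]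
  have hwB : polar Q (φ ((t, 0), z)) B = 0 := by simp [hB, hpol, polar_hypExt, hpz]
  have huA : polar Q u A = 0 := by simp [hA, ← hφu, hpol, polar_hypExt]
  have huB : polar Q u B = 0 := by simp [hB, ← hφu, hpol, polar_hypExt]
  have hAB : polar Q A B = -1 := by
    rw [hA, hB, hpol, polar_hypExt, polar_congr ψ hψ, polar_hypExt, hb']
    ring
  set g := siegel Q (φ ((t, 0), z)) A hQw hwA with hg
  have hgu : g.1 u = u := by
    rw [hg, siegel_apply, polar_comm Q _ u, hw, polar_comm Q A u, huA]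
    simp
  have hgB : g.1 B = B + φ ((t, 0), z) := by
    rw [hg, siegel_apply, hwB, hAB]
    simp
  have hgmem : g ∈ sGroup Q := siegel_mem hQ hn hQw hwA
  clear_value g
  have hm : ⁅g, siegel Q u B hu huB⁆ = siegel Q u (φ ((t, 0), z)) hu hw := by
    rw [commutatorElement_def, mul_inv_eq_iff_eq_mul, conj_siegel, siegel_mul hu hw huB]
    apply orth_ext
    intro x
    rw [siegel_apply, siegel_apply, hgu, hgB, add_comm B]
  rw [← hm]
  exact Subgroup.commutator_mem_commutator hgmem (siegel_mem hQ hn _ _)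

theorem sGroup_le_commutator (hQ : (polarBilin Q).Nondegenerate) (hn : 5 ≤ Module.finrank F V) :
    sGroup Q ≤ commutator (orth Q) :=
  (sGroup_le_bracket hQ hn).trans (by
    rw [commutator_def]
    exact Subgroup.commutator_mono le_top le_top)

theorem exists_move_norm (hQ : (polarBilin Q).Nondegenerate) (hn : 5 ≤ Module.finrank F V)
    {x y : V} (hx : Q x ≠ 0) (h : Q x = Q y) : ∃ g ∈ sGroup Q, g.1 x = y := by
  obtain ⟨e₀, he₀, he₀0⟩ := exists_singular (isReg_of_nondegenerate hQ) (by omega)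
  obtain ⟨U, φ, hφ, hφe, hU, hd, z₀, hz₀, hz₀0⟩ := exists_frame hQ hn he₀ he₀0
  have hpol := fun p p' => polar_congr φ hφ p p'
  have key : ∀ x : V, Q x ≠ 0 → ∃ g ∈ sGroup Q, g.1 x = φ ((Q x, 1), 0) := by
    intro x hx
    set e := φ ((1, 0), 0) with he
    set f := φ ((0, 1), 0) with hf
    have he0 : Q e = 0 := by simp [he, hφ, hypExt_apply]
    have hf0 : Q f = 0 := by simp [hf, hφ, hypExt_apply]
    have step3 : ∀ (a : F) (z : U), a + Q.restrict U z = Q x →
        ∃ g ∈ sGroup Q, g.1 (φ ((a, 1), z)) = φ ((Q x, 1), 0) := by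
      intro a z ha
      have hew : polar Q e (φ ((0, 0), -z)) = 0 := by simp [he, hpol, polar_hypExt]
      refine ⟨_, siegel_mem hQ hn he0 hew, ?_⟩
      rw [siegel_apply, he, hpol, hpol, polar_hypExt, polar_hypExt, hφ, hypExt_apply,
        ← map_smul, ← map_smul, ← map_add, ← map_sub]
      congr 1
      simp only [Prod.smul_mk, Prod.mk_add_mk, Prod.mk_sub_mk, smul_eq_mul, Prod.mk.injEq,
        polar_neg_left, QuadraticMap.map_neg, polar_self_mul]
      refine ⟨⟨?_, ?_⟩, ?_⟩
      · simp only [QuadraticMap.restrict_apply] at ha ⊢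
        simp [polar_self_mul]
        linear_combination ha
      · simp
      · simp
    have step2 : ∀ (a b : F) (z : U), z ≠ 0 → a * b + Q.restrict U z = Q x →
        ∃ g ∈ sGroup Q, g.1 (φ ((a, b), z)) = φ ((Q x, 1), 0) := by
      intro a b z hz hab
      obtain ⟨z₁, hz₁⟩ : ∃ z₁, Q.restrict U z₁ = 0 ∧ polar (Q.restrict U) z₁ z ≠ 0 := by
        by_contra hc
        push Not at hc
        refine hz (hU.2 z fun y => ?_)
        obtain ⟨y₁, y₂, y₃, h₁, h₂, h₃, rfl⟩ :=
          exists_three_singular (isReg_of_nondegenerate hU) hz₀ hz₀0 y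
        show polar (Q.restrict U) (y₁ + y₂ + y₃) z = 0
        rw [polar_add_left, polar_add_left, hc _ h₁, hc _ h₂, hc _ h₃, add_zero, add_zero]
      set s := (b - 1) / polar (Q.restrict U) z₁ z with hs
      have hsz : s * polar (Q.restrict U) z₁ z = b - 1 := div_mul_cancel₀ _ hz₁.2
      have hfw : polar Q f (φ ((0, 0), s • z₁)) = 0 := by simp [hf, hpol, polar_hypExt]
      obtain ⟨g, hg, hgx⟩ := step3 a (z + (a * s) • z₁) (by
        rw [QuadraticMap.map_add (⇑(Q.restrict U)), QuadraticMap.map_smul, polar_smul_right,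
          hz₁.1, polar_comm (⇑(Q.restrict U)) z z₁]
        simp only [smul_eq_mul]
        linear_combination hab + a * hsz)
      refine ⟨g * siegel Q f (φ ((0, 0), s • z₁)) hf0 hfw,
        Subgroup.mul_mem _ hg (siegel_mem hQ hn hf0 hfw), ?_⟩
      rw [orth_mul_apply, ← hgx]
      congr 1
      rw [siegel_apply, hf, hpol, hpol, polar_hypExt, polar_hypExt, hφ, hypExt_apply,
        ← map_smul, ← map_smul, ← map_add, ← map_sub]
      congr 1
      simp only [Prod.smul_mk, Prod.mk_add_mk, Prod.mk_sub_mk, smul_eq_mul, Prod.mk.injEq,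
        QuadraticMap.map_smul, polar_smul_left, hz₁.1, mul_zero, zero_mul, add_zero, zero_add,
        polar_zero_left, mul_one, sub_zero, smul_zero]
      refine ⟨⟨?_, ?_⟩, ?_⟩
      · trivial
      · linear_combination -hsz
      · rw [smul_smul]
    obtain ⟨⟨⟨a, b⟩, z⟩, rfl⟩ := φ.surjective x
    have hab : a * b + Q.restrict U z = Q (φ ((a, b), z)) := by rw [hφ, hypExt_apply]
    by_cases hz : z = 0
    · subst hz
      have hb : b ≠ 0 := fun h0 => hx (by simp [hφ, hypExt_apply, h0])
      have hew : polar Q e (φ ((0, 0), z₀)) = 0 := by simp [he, hpol, polar_hypExt]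
      obtain ⟨g, hg, hgx⟩ := step2 a b (b • z₀) (smul_ne_zero hb hz₀0) (by
        rw [QuadraticMap.map_smul, hz₀, smul_zero, add_zero]
        simpa using hab)
      refine ⟨g * siegel Q e (φ ((0, 0), z₀)) he0 hew,
        Subgroup.mul_mem _ hg (siegel_mem hQ hn he0 hew), ?_⟩
      rw [orth_mul_apply, ← hgx]
      congr 1
      rw [siegel_apply, he, hpol, hpol, polar_hypExt, polar_hypExt, hφ, hypExt_apply,
        ← map_smul, ← map_smul, ← map_add, ← map_sub]
      congr 1
      simp [hz₀]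
    · exact step2 a b z hz hab
  obtain ⟨g₁, hg₁, hg₁x⟩ := key x hx
  obtain ⟨g₂, hg₂, hg₂y⟩ := key y (h ▸ hx)
  refine ⟨g₂⁻¹ * g₁, Subgroup.mul_mem _ (Subgroup.inv_mem _ hg₂) hg₁, ?_⟩
  rw [orth_mul_apply, hg₁x, h, ← hg₂y]
  exact g₂.1.symm_apply_apply y

theorem commutator_eq_sGroup (hQ : (polarBilin Q).Nondegenerate)
    (hn : 5 ≤ Module.finrank F V) : commutator (orth Q) = sGroup Q := by
  refine le_antisymm ?_ (sGroup_le_commutator hQ hn)
  haveI := sGroup_normal (Q := Q)
  have hgen := reflGroup_eq_top (isReg_of_nondegenerate hQ) (Or.inr (by omega))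
  set π := QuotientGroup.mk' (sGroup Q)
  have hbase : ∀ u hu v hv, Commute (π (refl Q u hu)) (π (refl Q v hv)) := by
    intro u hu v hv
    obtain ⟨g, hg, hgv⟩ := exists_move_norm hQ hn hv (map_orth (refl Q u hu) v).symm
    have h1 : refl Q u hu * refl Q v hv * (refl Q u hu)⁻¹ = g * refl Q v hv * g⁻¹ := by
      rw [conj_refl, conj_refl]
      congr 1
      exact hgv.symm
    have h2 := congrArg π h1
    rw [map_mul, map_mul, map_mul, map_mul, map_inv, map_inv,
      show π g = 1 from (QuotientGroup.eq_one_iff g).2 hg, one_mul, inv_one, mul_one,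
      mul_inv_eq_iff_eq_mul] at h2
    exact h2
  have hall : ∀ a b : orth Q, Commute (π a) (π b) := by
    intro a b
    have ha : a ∈ reflGroup Q := hgen ▸ Subgroup.mem_top a
    have hb : b ∈ reflGroup Q := hgen ▸ Subgroup.mem_top b
    induction ha, hb using Subgroup.closure_induction₂ with
    | mem x y hx hy =>
      obtain ⟨u, hu, rfl⟩ := hx
      obtain ⟨v, hv, rfl⟩ := hy
      exact hbase u hu v hv
    | one_left x hx => rw [map_one]; exact Commute.one_left _
    | one_right x hx => rw [map_one]; exact Commute.one_right _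
    | mul_left x y z _ _ _ h₁ h₂ => rw [map_mul]; exact h₁.mul_left h₂
    | mul_right x y z _ _ _ h₁ h₂ => rw [map_mul]; exact h₁.mul_right h₂
    | inv_left x y _ _ h => rw [map_inv]; exact h.inv_left
    | inv_right x y _ _ h => rw [map_inv]; exact h.inv_right
  rw [commutator_def, Subgroup.commutator_le]
  intro a _ b _
  rw [← QuotientGroup.eq_one_iff, ← QuotientGroup.mk'_apply, map_commutatorElement,
    commutatorElement_eq_one_iff_mul_comm]
  exact hall a b

theorem eq_top_of_moves (hQ : (polarBilin Q).Nondegenerate) (hn : 5 ≤ Module.finrank F V)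
    (N : Subgroup (sGroup Q)) [N.Normal] (n₀ : sGroup Q) (hn₀ : n₀ ∈ N) {u₀ : V}
    (hu₀ : Q u₀ = 0) (hmv : ∀ c : F, n₀.1.1 u₀ ≠ c • u₀) : N = ⊤ := by
  set R : V → V → Prop := fun u v => ∃ n ∈ N, ∃ c : F, n.1.1 u = c • v with hR
  have hne0 : u₀ ≠ 0 := fun h => hmv 0 (by rw [h]; simp)
  have Rsymm : ∀ {u v}, u ≠ 0 → R u v → R v u := by
    rintro u v hu ⟨n, hn', c, hc⟩
    have hc0 : c ≠ 0 := fun h => hu (n.1.1.map_eq_zero_iff.1 (by rw [hc, h, zero_smul]))
    refine ⟨n⁻¹, N.inv_mem hn', c⁻¹, n.1.1.injective ?_⟩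
    rw [map_smul, hc, inv_smul_smul₀ hc0]
    exact n.1.1.apply_symm_apply v
  have Rtrans : ∀ {u v w}, R u v → R v w → R u w := by
    rintro u v w ⟨n, hn', c, hc⟩ ⟨m, hm, d, hd⟩
    refine ⟨m * n, N.mul_mem hm hn', c * d, ?_⟩
    show m.1.1 (n.1.1 u) = _
    rw [hc, map_smul, hd, smul_smul]
  have Rconj : ∀ {u v} (g : sGroup Q), R u v → R (g.1.1 u) (g.1.1 v) := by
    rintro u v g ⟨n, hn', c, hc⟩
    refine ⟨g * n * g⁻¹, Subgroup.Normal.conj_mem inferInstance n hn' g, c, ?_⟩
    show g.1.1 (n.1.1 (g.1.1.symm (g.1.1 u))) = _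
    rw [LinearEquiv.symm_apply_apply, hc, map_smul]
  -- a pair of non-orthogonal related lines
  obtain ⟨a, b, ha, hb, hab, hRab⟩ : ∃ a b, Q a = 0 ∧ Q b = 0 ∧ polar Q a b ≠ 0 ∧ R a b := by
    set v := n₀.1.1 u₀ with hv
    have hQv : Q v = 0 := by rw [hv, map_orth, hu₀]
    have huv : R u₀ v := ⟨n₀, hn₀, 1, by rw [one_smul]⟩
    by_cases hp : polar Q u₀ v = 0
    swap
    · exact ⟨u₀, v, hu₀, hQv, hp, huv⟩
    obtain ⟨U, φ, hφ, hφu, hU, hd, -⟩ := exists_frame hQ hn hu₀ hne0
    have hpol := fun p p' => polar_congr φ hφ p p'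
    obtain ⟨⟨⟨t, s⟩, z⟩, hφv⟩ := φ.surjective v
    have hs : s = 0 := by simpa [← hφu, ← hφv, hpol, polar_hypExt] using hp
    subst hs
    have hz : Q.restrict U z = 0 := by simpa [← hφv, hφ, hypExt_apply] using hQv
    have hz0 : z ≠ 0 := fun h => hmv t (by
      rw [← hφv, ← hφu, ← map_smul, h]; simp)
    obtain ⟨U', ψ, hψ, hψz, -⟩ := exists_split (isReg_of_nondegenerate hU) hz hz0
    have hd' : Module.finrank F U' ≠ 0 := by
      have := ψ.finrank_eq
      rw [finrank_hypExt_space] at this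
      omega
    obtain ⟨w, hw⟩ := exists_map_ne_zero
      (isReg_of_nondegenerate (nondegenerate_of_split hU ψ hψ)) hd'
    set p := φ ((0, 0), ψ ((0, 1), 0)) with hp'
    set W := φ ((0, 0), ψ ((0, 0), w)) with hW
    have hQp : Q p = 0 := by simp [hp', hφ, hypExt_apply, hψ]
    have hpW : polar Q p W = 0 := by simp [hp', hW, hpol, polar_hypExt, polar_congr ψ hψ]
    have hpv : polar Q p v = 1 := by
      rw [hp', ← hφv, ← hψz, hpol, polar_hypExt, polar_congr ψ hψ, polar_hypExt]; simp
    have hWv : polar Q W v = 0 := by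
      rw [hW, ← hφv, ← hψz, hpol, polar_hypExt, polar_congr ψ hψ, polar_hypExt]; simp
    have hpu : polar Q p u₀ = 0 := by rw [hp', ← hφu, hpol, polar_hypExt]; simp
    have hWu : polar Q W u₀ = 0 := by rw [hW, ← hφu, hpol, polar_hypExt]; simp
    set g : sGroup Q := ⟨siegel Q p W hQp hpW, siegel_mem hQ hn hQp hpW⟩ with hg
    have hgu : g.1.1 u₀ = u₀ := by
      show (siegel Q p W hQp hpW).1 u₀ = u₀
      rw [siegel_apply, hpu, hWu]; simp
    have hgv : polar Q v (g.1.1 v) ≠ 0 := by
      show polar Q v ((siegel Q p W hQp hpW).1 v) ≠ 0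
      rw [siegel_apply, hpv, hWv, polar_sub_right, polar_add_right, polar_smul_right,
        polar_smul_right, polar_self_mul, hQv, polar_comm Q v W, hWv, polar_comm Q v p, hpv]
      have : Q W ≠ 0 := by simpa [hW, hφ, hψ, hypExt_apply] using hw
      simpa using this
    have h1 := Rconj g huv
    rw [hgu] at h1
    exact ⟨v, g.1.1 v, hQv, by rw [map_orth, hQv], hgv, Rtrans (Rsymm hne0 huv) h1⟩
  have hstar : ∀ {a b b'}, Q a = 0 → Q b = 0 → Q b' = 0 → polar Q a b ≠ 0 → polar Q a b' ≠ 0 →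
      R a b → R a b' := by
    intro a b b' ha hb hb' hab hab' hR'
    set f := (polar Q a b)⁻¹ • b with hf
    set f' := (polar Q a b')⁻¹ • b' with hf'
    have haf : polar Q a f = 1 := by rw [hf, polar_smul_right, smul_eq_mul, inv_mul_cancel₀ hab]
    have haf' : polar Q a f' = 1 := by
      rw [hf', polar_smul_right, smul_eq_mul, inv_mul_cancel₀ hab']
    have hQf : Q f = 0 := by rw [hf, QuadraticMap.map_smul, hb, smul_zero]
    have hQf' : Q f' = 0 := by rw [hf', QuadraticMap.map_smul, hb', smul_zero]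
    have hw : polar Q a (f' - f) = 0 := by rw [polar_sub_right, haf', haf, sub_self]
    set g : sGroup Q := ⟨siegel Q a (f' - f) ha hw, siegel_mem hQ hn ha hw⟩ with hg
    have hga : g.1.1 a = a := by
      show (siegel Q a (f' - f) ha hw).1 a = a
      rw [siegel_apply, polar_self_mul, ha, polar_comm Q (f' - f) a, hw]; simp
    have hgf : g.1.1 f = f' := by
      show (siegel Q a (f' - f) ha hw).1 f = f'
      have hz : polar Q (f' - f) f + Q (f' - f) = 0 := by
        have h := QuadraticMap.map_add (⇑Q) (f' - f) f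
        rw [sub_add_cancel, hQf', hQf] at h
        linear_combination -h
      rw [siegel_apply, haf, mul_one, hz, zero_smul, one_smul, sub_zero, add_sub_cancel]
    obtain ⟨n, hn', c, hc⟩ := Rconj g hR'
    refine ⟨n, hn', c * (polar Q a b * (polar Q a b')⁻¹), ?_⟩
    rw [hga] at hc
    have : g.1.1 (polar Q a b • f) = (polar Q a b * (polar Q a b')⁻¹) • b' := by
      rw [map_smul, hgf, hf', smul_smul]
    rw [show polar Q a b • f = b by rw [hf, smul_inv_smul₀ hab]] at this
    rw [hc, this, smul_smul]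
  have ha0 : a ≠ 0 := fun h => hab (by rw [h, polar_zero_left])
  have hall : ∀ w, Q w = 0 → w ≠ 0 → R a w := by
    intro w hw hw0
    by_cases hp : polar Q a w = 0
    swap
    · exact hstar ha hb hw hab hp hRab
    obtain ⟨z₁, h₁⟩ := exists_polar_ne_zero (isReg_of_nondegenerate hQ) ha ha0
    obtain ⟨z₂, h₂⟩ := exists_polar_ne_zero (isReg_of_nondegenerate hQ) hw hw0
    obtain ⟨z, hza, hzw⟩ : ∃ z, polar Q a z ≠ 0 ∧ polar Q w z ≠ 0 := by
      by_cases h₁' : polar Q w z₁ = 0
      · by_cases h₂' : polar Q a z₂ = 0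
        · exact ⟨z₁ + z₂, by rw [polar_add_right, h₂', add_zero]; exact h₁,
            by rw [polar_add_right, h₁', zero_add]; exact h₂⟩
        · exact ⟨z₂, h₂', h₂⟩
      · exact ⟨z₁, h₁, h₁'⟩
    set z' := z + (-(Q z / polar Q a z)) • a with hz'
    have hQz : Q z' = 0 := by
      rw [hz', QuadraticMap.map_add (⇑Q), QuadraticMap.map_smul, ha, polar_smul_right,
        polar_comm Q z a]
      simp only [smul_eq_mul]
      field_simp
      ring
    have haz : polar Q a z' ≠ 0 := by
      rw [hz', polar_add_right, polar_smul_right, polar_self_mul, ha]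
      simpa using hza
    have hzw' : polar Q z' w ≠ 0 := by
      rw [polar_comm, hz', polar_add_right, polar_smul_right, polar_comm Q w a, hp]
      simpa using hzw
    have h1 := hstar ha hb hQz hab haz hRab
    exact Rtrans h1 (hstar hQz ha hw (by rw [polar_comm]; exact haz) hzw' (Rsymm ha0 h1))
  -- the quotient by `N` is generated by an abelian image
  set π := QuotientGroup.mk' N
  have hred : ∀ (x : sGroup Q), (∃ u w hu hw, x.1 = siegel Q u w hu hw) →
      ∃ w hw, π x = π ⟨siegel Q a w ha hw, siegel_mem hQ hn ha hw⟩ := by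
    rintro x ⟨u, w, hu, hw, hx⟩
    by_cases hu0 : u = 0
    · subst hu0
      refine ⟨0, polar_zero_right Q a, ?_⟩
      congr 1
      apply Subtype.ext
      show x.1 = siegel Q a 0 ha (polar_zero_right Q a)
      rw [hx, siegel_zero_left, siegel_eq_one ha _ (a := 0) (zero_smul F a).symm]
    obtain ⟨n, hn', c, hc⟩ := Rsymm ha0 (hall u hu hu0)
    have hc0 : c ≠ 0 := fun h => hu0 (n.1.1.map_eq_zero_iff.1 (by rw [hc, h, zero_smul]))
    have hw' : polar Q a (c • n.1.1 w) = 0 := by
      rw [polar_smul_right, ← polar_smul_left, ← hc, polar_orth, hw]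
    refine ⟨c • n.1.1 w, hw', ?_⟩
    have hconj : n * x * n⁻¹ = ⟨siegel Q a (c • n.1.1 w) ha hw', siegel_mem hQ hn ha hw'⟩ := by
      apply Subtype.ext
      show n.1 * x.1 * n.1⁻¹ = _
      rw [hx, conj_siegel]
      apply orth_ext
      intro y
      rw [siegel_apply, siegel_apply, hc, polar_smul_left, polar_smul_left, QuadraticMap.map_smul]
      simp only [smul_eq_mul]
      module
    rw [← hconj, map_mul, map_mul, map_inv, show π n = 1 from (QuotientGroup.eq_one_iff n).2 hn',
      one_mul, inv_one, mul_one]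
  have hclos : Subgroup.closure
      {x : sGroup Q | ∃ u w hu hw, x.1 = siegel Q u w hu hw} = ⊤ := by
    apply Subgroup.map_injective (sGroup Q).subtype_injective
    rw [MonoidHom.map_closure, ← MonoidHom.range_eq_map, Subgroup.range_subtype]
    refine le_antisymm ?_ ?_
    · rw [Subgroup.closure_le]
      rintro _ ⟨x, -, rfl⟩
      exact x.2
    · conv_lhs => rw [sGroup]
      refine Subgroup.closure_mono ?_
      rintro _ ⟨u, w, hu, hw, hQw, rfl⟩
      exact ⟨⟨_, siegel_mem_sGroup hu hw hQw⟩, ⟨u, w, hu, hw, rfl⟩, rfl⟩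
  have hcomm : ∀ x y : sGroup Q, Commute (π x) (π y) := by
    intro x y
    have hx := hclos ▸ Subgroup.mem_top x
    have hy := hclos ▸ Subgroup.mem_top y
    induction hx, hy using Subgroup.closure_induction₂ with
    | mem x y hx hy =>
      obtain ⟨w₁, hw₁, e₁⟩ := hred x hx
      obtain ⟨w₂, hw₂, e₂⟩ := hred y hy
      rw [e₁, e₂]
      refine Commute.map ?_ π
      exact Subtype.ext (siegel_comm ha hw₁ hw₂)
    | one_left x hx => rw [map_one]; exact Commute.one_left _
    | one_right x hx => rw [map_one]; exact Commute.one_right _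
    | mul_left x y z _ _ _ h₁ h₂ => rw [map_mul]; exact h₁.mul_left h₂
    | mul_right x y z _ _ _ h₁ h₂ => rw [map_mul]; exact h₁.mul_right h₂
    | inv_left x y _ _ h => rw [map_inv]; exact h.inv_left
    | inv_right x y _ _ h => rw [map_inv]; exact h.inv_right
  have hle : commutator (sGroup Q) ≤ N := by
    rw [commutator_def, Subgroup.commutator_le]
    intro x _ y _
    rw [← QuotientGroup.eq_one_iff, ← QuotientGroup.mk'_apply, map_commutatorElement,
      commutatorElement_eq_one_iff_mul_comm]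
    exact hcomm x y
  rw [eq_top_iff]
  refine le_trans ?_ hle
  intro x _
  have hx : x.1 ∈ ⁅sGroup Q, sGroup Q⁆ := sGroup_le_bracket hQ hn x.2
  rw [← Subgroup.map_subtype_commutator] at hx
  obtain ⟨y, hy, hyx⟩ := hx
  rwa [← Subtype.ext hyx]

theorem isSimpleGroup_sGroup (hQ : (polarBilin Q).Nondegenerate)
    (hn : 5 ≤ Module.finrank F V) :
    IsSimpleGroup (sGroup Q ⧸ Subgroup.center (sGroup Q)) := by
  obtain ⟨e, he, he0⟩ := exists_singular (isReg_of_nondegenerate hQ) (by omega)
  have hcentral : ∀ x : sGroup Q, (∀ u, Q u = 0 → ∃ c : F, x.1.1 u = c • u) →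
      x ∈ Subgroup.center (sGroup Q) := by
    intro x hx
    rw [Subgroup.mem_center_iff]
    intro y
    apply Subtype.ext
    show y.1 * x.1 = x.1 * y.1
    rcases eq_one_or_negOne_of_lines (isReg_of_nondegenerate hQ) he he0 (by omega) hx with h | h
    · rw [h, one_mul, mul_one]
    · rw [h]
      exact orth_ext fun z => map_neg y.1.1 z
  obtain ⟨U, φ, hφ, hφe, hU, hd, z, hz, hz0⟩ := exists_frame hQ hn he he0
  have hzp : polar Q e (φ ((0, 0), z)) = 0 := by simp [← hφe, polar_congr φ hφ, polar_hypExt]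
  set x₀ : sGroup Q := ⟨siegel Q e (φ ((0, 0), z)) he hzp, siegel_mem hQ hn he hzp⟩
  haveI : Nontrivial (sGroup Q ⧸ Subgroup.center (sGroup Q)) := by
    refine ⟨⟨QuotientGroup.mk x₀, 1, fun h => ?_⟩⟩
    rw [QuotientGroup.eq_one_iff] at h
    have hmem : x₀.1 ∈ commutator (orth Q) := sGroup_le_commutator hQ hn x₀.2
    obtain ⟨c, hc⟩ := exists_smul_of_commute hQ (by omega) (g := x₀.1) (fun k hk => by
      rw [commutator_eq_sGroup hQ hn] at hk
      exact (congrArg Subtype.val (Subgroup.mem_center_iff.1 h ⟨k, hk⟩)).symm)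
      (u := φ ((0, 1), 0)) (by simp [hφ, hypExt_apply])
    have hc' : (siegel Q e (φ ((0, 0), z)) he hzp).1 (φ ((0, 1), 0)) = c • φ ((0, 1), 0) := hc
    rw [siegel_apply, ← hφe, polar_congr φ hφ, polar_congr φ hφ, hφ, ← map_smul, ← map_smul,
      ← map_smul, ← map_add, ← map_sub] at hc'
    have h2 := congrArg Prod.snd (φ.injective hc')
    simp [polar_hypExt, hz] at h2
    exact hz0 h2
  refine ⟨fun H hH => ?_⟩
  by_cases hfix : ∀ x : sGroup Q, x ∈ H.comap (QuotientGroup.mk' _) → ∀ u, Q u = 0 →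
      ∃ c : F, x.1.1 u = c • u
  · left
    rw [Subgroup.eq_bot_iff_forall]
    intro y hy
    obtain ⟨x, rfl⟩ := QuotientGroup.mk'_surjective _ y
    rw [QuotientGroup.mk'_apply, QuotientGroup.eq_one_iff]
    exact hcentral x (hfix x hy)
  · right
    push Not at hfix
    obtain ⟨x, hx, u, hu, hmv⟩ := hfix
    have htop := eq_top_of_moves hQ hn (H.comap (QuotientGroup.mk' _)) x hx hu hmv
    exact Subgroup.comap_injective (QuotientGroup.mk'_surjective _)
      (htop.trans (Subgroup.comap_top _).symm)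

end Cfsg.Agent.OrthUnitarySimple
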