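import Mathlib
import Cfsg.Prelude.Def_GeometricClasses
import Cfsg.Agent.Lib.OmegaClasses
import Cfsg.Agent.Lib.OrthUnitarySimple

/-!
Tools for subspace stabilisers inside `Geo.omegaGL`: quadratic forms given as functions, completion
of totally singular subspaces, Siegel elements.
-/

set_option autoImplicit false

namespace Cfsg.Agent.OmegaGeo

open QuadraticMap Module
open Cfsg.Agent.OrthUnitaryQuad Cfsg.Agent.OrthUnitaryPrelude Cfsg.Agent.OmegaClasses
open scoped Matrix

section Glue

variable {F : Type*} [Field F] {ι : Type} [Fintype ι] [DecidableEq ι]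

omit [Fintype ι] [DecidableEq ι] in
/-- A quadratic form function is a quadratic form. -/
theorem exists_quad {Q : (ι → F) → F} (h : Cfsg.Geo.IsNondegenerateQuadraticForm Q) :
    ∃ q : QuadraticForm F (ι → F), ⇑q = Q ∧ (polarBilin q).Nondegenerate := by
  let q : QuadraticForm F (ι → F) := QuadraticMap.ofPolar Q
    (fun a x => by rw [h.smul, smul_eq_mul, pow_two])
    h.polar_bilinear.add_left (fun a x y => by rw [h.polar_bilinear.smul_left, smul_eq_mul])
  refine ⟨q, rfl, ?_, ?_⟩ <;> intro v hv <;> by_contra h0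
  · obtain ⟨x, hx⟩ := (h.nondegenerate v h0).2
    exact hx (hv x)
  · obtain ⟨x, hx⟩ := (h.nondegenerate v h0).1
    exact hx (hv x)

variable {q : QuadraticForm F (ι → F)}

/-- The matrix group element of an orthogonal map. -/
noncomputable def toGL (q : QuadraticForm F (ι → F)) (k : orth q) : GL ι F :=
  (((iso q).symm k : isometryGroup F ⇑q) : GL ι F)

theorem toGL_mulVec (k : orth q) (x : ι → F) : (toGL q k : Matrix ι ι F) *ᵥ x = k.1 x := by
  conv_rhs => rw [← MulEquiv.apply_symm_apply (iso q) k, iso_apply]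
  rfl

theorem toGL_mem {k : orth q} (hk : k ∈ commutator (orth q)) :
    toGL q k ∈ Cfsg.Geo.omegaGL ⇑q :=
  ⟨(iso q).symm k, (mem_Omega_iff _).2 (by rw [MulEquiv.apply_symm_apply]; exact hk), rfl⟩

theorem exists_of_mem_omegaGL {g : GL ι F} (hg : g ∈ Cfsg.Geo.omegaGL ⇑q) :
    ∃ k ∈ commutator (orth q), toGL q k = g := by
  obtain ⟨g', hg', rfl⟩ := hg
  exact ⟨iso q g', (mem_Omega_iff g').1 hg', by rw [toGL, MulEquiv.symm_apply_apply]; rfl⟩

theorem mem_stabilizer_iff {g : GL ι F} {W : Submodule F (ι → F)} :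
    g ∈ Cfsg.Geo.subspaceStabilizer W ↔ ∀ v, v ∈ W ↔ (g : Matrix ι ι F) *ᵥ v ∈ W :=
  Iff.rfl

theorem toGL_mem_stabilizer_iff {k : orth q} {W : Submodule F (ι → F)} :
    toGL q k ∈ Cfsg.Geo.subspaceStabilizer W ↔ W.map (k.1 : (ι → F) →ₗ[F] (ι → F)) = W := by
  rw [mem_stabilizer_iff]
  simp only [toGL_mulVec]
  constructor
  · intro h
    ext v
    constructor
    · rintro ⟨u, hu, rfl⟩
      exact (h u).1 hu
    · intro hv
      refine ⟨k.1.symm v, (h _).2 (by rwa [LinearEquiv.apply_symm_apply]), k.1.apply_symm_apply v⟩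
  · intro h v
    refine ⟨fun hv => h ▸ Submodule.mem_map_of_mem hv, fun hv => ?_⟩
    rw [← h] at hv
    obtain ⟨u, hu, hu'⟩ := hv
    exact k.1.injective hu' ▸ hu

end Glue

variable {F V : Type*} [Field F] [AddCommGroup V] [Module F V] [FiniteDimensional F V]
  {Q : QuadraticForm F V}

/-- Completion of a totally singular subspace by a given maximal one. -/
theorem lagr_extend (hnd : (polarBilin Q).Nondegenerate) {U₀ W : Submodule F V} (hU₀ : Lagr Q U₀)
    (hW : ∀ w ∈ W, Q w = 0) :
    Lagr Q (W ⊔ U₀ ⊓ LinearMap.BilinForm.orthogonal (polarBilin Q) W) := by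
  set P := LinearMap.BilinForm.orthogonal (polarBilin Q) W with hP
  have hsing : ∀ u ∈ W ⊔ U₀ ⊓ P, Q u = 0 := by
    intro u hu
    obtain ⟨a, ha, b, hb, rfl⟩ := Submodule.mem_sup.1 hu
    have hab : polar Q a b = 0 := hb.2 a ha
    rw [QuadraticMap.map_add (⇑Q), hW a ha, hU₀.1 b hb.1, hab]
    simp
  refine ⟨hsing, le_antisymm (two_finrank_le hnd hsing) ?_⟩
  have h1 := Submodule.finrank_sup_add_finrank_inf_eq W (U₀ ⊓ P)
  have h2 := Submodule.finrank_sup_add_finrank_inf_eq U₀ W
  have h3 : LinearMap.BilinForm.orthogonal (polarBilin Q) (U₀ ⊔ W) ≤ U₀ ⊓ P := fun v hv =>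
    ⟨mem_of_orth hnd hU₀ fun u hu => hv u (Submodule.mem_sup_left hu),
      fun w hw => hv w (Submodule.mem_sup_right hw)⟩
  have h4 := LinearMap.BilinForm.finrank_orthogonal (B := polarBilin Q) hnd (U₀ ⊔ W)
  have h5 := Submodule.finrank_mono h3
  have h6 : finrank F ↥(W ⊓ (U₀ ⊓ P)) ≤ finrank F ↥(U₀ ⊓ W) :=
    Submodule.finrank_mono fun x hx => ⟨hx.2.1, hx.1⟩
  have h7 := Submodule.finrank_le (U₀ ⊔ W)
  have := hU₀.2
  omega

/-- A singular dual vector orthogonal to a subspace. -/
theorem exists_sing_dual (hnd : (polarBilin Q).Nondegenerate) {a : V} {S : Submodule F V}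
    (ha : Q a = 0) (haS : a ∉ S) (hperp : ∀ s ∈ S, polar Q s a = 0) :
    ∃ f, Q f = 0 ∧ polar Q a f = 1 ∧ ∀ s ∈ S, polar Q s f = 0 := by
  have hrefl : (polarBilin Q).IsRefl := fun x y h => (polar_comm _ y x).trans h
  obtain ⟨y, hy, hay⟩ : ∃ y ∈ LinearMap.BilinForm.orthogonal (polarBilin Q) S, polar Q a y ≠ 0 := by
    by_contra h
    push Not at h
    refine haS ?_
    rw [← LinearMap.BilinForm.orthogonal_orthogonal hnd hrefl S]
    exact fun y hy => (polar_comm _ y a).trans (h y hy)
  refine ⟨(polar Q a y)⁻¹ • y - (((polar Q a y)⁻¹ * (polar Q a y)⁻¹) * Q y) • a, ?_, ?_, ?_⟩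
  · rw [sub_eq_add_neg, ← neg_smul, QuadraticMap.map_add (⇑Q), QuadraticMap.map_smul,
      QuadraticMap.map_smul, polar_smul_left, polar_smul_right, ha, polar_comm Q y a]
    simp only [smul_eq_mul]
    field_simp
    ring
  · rw [polar_sub_right, polar_smul_right, polar_smul_right, polar_self_mul, ha]
    simp [inv_mul_cancel₀ hay]
  · intro s hs
    have hsy : polar Q s y = 0 := hy s hs
    rw [polar_sub_right, polar_smul_right, polar_smul_right, hsy, hperp s hs]
    simp

/-- A singular Siegel element of the commutator subgroup. -/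
theorem exists_siegel [Fintype F] (hnd : (polarBilin Q).Nondegenerate) (hn : 5 ≤ finrank F V)
    {e f : V} (he : Q e = 0) (hf : Q f = 0) (hef : polar Q f e = 0) :
    ∃ k ∈ commutator (orth Q), ∀ x : V, k.1 x = x + polar Q f x • e - polar Q e x • f := by
  refine ⟨siegel Q f e hf hef, OrthUnitarySimple.sGroup_le_commutator hnd hn
    (OrthUnitarySimple.siegel_mem hnd hn hf hef), fun x => ?_⟩
  rw [siegel_apply, he]
  simp

/-- Some element of the commutator subgroup moves a given maximal totally singular subspace. -/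
theorem exists_move [Fintype F] (hnd : (polarBilin Q).Nondegenerate) (hn : 5 ≤ finrank F V)
    {U : Submodule F V} (hU : Lagr Q U) :
    ∃ k ∈ commutator (orth Q), U.map (k.1 : V →ₗ[F] V) ≠ U := by
  have hm : 3 ≤ finrank F U := by have := hU.2; omega
  obtain ⟨w₁, hw₁, hw₁0⟩ := Submodule.exists_mem_ne_zero_of_ne_bot (p := U)
    (fun h => by rw [h, finrank_bot] at hm; omega)
  obtain ⟨f₁, hf₁, h11, -⟩ := exists_sing_dual hnd (S := ⊥) (hU.1 _ hw₁)
    (fun h => hw₁0 ((Submodule.mem_bot F).1 h)) (fun s hs => by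
      rw [(Submodule.mem_bot F).1 hs]; simp)
  obtain ⟨w₂, hw₂, hw₂0⟩ := Submodule.exists_mem_ne_zero_of_ne_bot
    (p := U ⊓ LinearMap.ker (polarBilin Q f₁)) (fun h => by
      have h1 := LinearMap.finrank_range_add_finrank_ker ((polarBilin Q f₁).comp U.subtype)
      have h2 := Submodule.finrank_le (LinearMap.range ((polarBilin Q f₁).comp U.subtype))
      rw [Module.finrank_self] at h2
      have h3 : finrank F (LinearMap.ker ((polarBilin Q f₁).comp U.subtype)) ≤
          finrank F ↥(U ⊓ LinearMap.ker (polarBilin Q f₁)) := by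
        rw [← Submodule.finrank_map_subtype_eq U]
        refine Submodule.finrank_mono ?_
        rintro _ ⟨⟨x, hx⟩, hxk, rfl⟩
        exact ⟨hx, hxk⟩
      rw [h, finrank_bot] at h3
      omega)
  have h21 : polar Q f₁ w₂ = 0 := hw₂.2
  obtain ⟨f₂, hf₂, h22, hS⟩ := exists_sing_dual hnd (S := Submodule.span F {w₁, f₁}) (hU.1 _ hw₂.1)
    (fun h => by
      obtain ⟨c, d, hcd⟩ := Submodule.mem_span_pair.1 h
      have e1 := congrArg (polar Q w₁) hcd
      rw [polar_of_sing hU.1 hw₁ hw₂.1, polar_add_right, polar_smul_right, polar_smul_right,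
        polar_of_sing hU.1 hw₁ hw₁, h11] at e1
      have e2 := congrArg (polar Q f₁) hcd
      rw [h21, polar_add_right, polar_smul_right, polar_smul_right, polar_comm Q f₁ w₁, h11,
        polar_self_mul, hf₁] at e2
      simp only [smul_eq_mul, mul_zero, mul_one, zero_add, add_zero] at e1 e2
      rw [e1, e2, zero_smul, zero_smul, add_zero] at hcd
      exact hw₂0 hcd.symm)
    (fun s hs => by
      obtain ⟨c, d, rfl⟩ := Submodule.mem_span_pair.1 hs
      rw [polar_add_left, polar_smul_left, polar_smul_left, polar_of_sing hU.1 hw₁ hw₂.1, h21]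
      simp)
  have h12 : polar Q w₁ f₂ = 0 := hS _ (Submodule.subset_span (Set.mem_insert _ _))
  obtain ⟨k, hk, hact⟩ := exists_siegel hnd hn hf₂ hf₁
    (hS _ (Submodule.subset_span (Set.mem_insert_of_mem _ rfl)))
  refine ⟨k, hk, fun h => ?_⟩
  have hmem : k.1 w₁ ∈ U := h ▸ Submodule.mem_map_of_mem hw₁
  rw [hact, polar_comm Q f₁ w₁, h11, polar_comm Q f₂ w₁, h12, one_smul, zero_smul, sub_zero,
    U.add_mem_iff_right hw₁] at hmem
  have := polar_of_sing hU.1 hw₂.1 hmem
  rw [h22] at this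
  exact one_ne_zero this

/-- An element of the commutator subgroup keeps each of the two classes. -/
theorem even_finrank [Fintype F] (hnd : (polarBilin Q).Nondegenerate)
    (hexc : Fintype.card F ≠ 2 ∨ finrank F V ≠ 4) {U : Submodule F V} (hU : Lagr Q U) {k : orth Q}
    (hk : k ∈ commutator (orth Q)) :
    Even (finrank F ↥(U ⊓ U.map (k.1 : V →ₗ[F] V)) + finrank F U) := by
  obtain ⟨vs, hns, rfl⟩ := exists_rprod (reflGroup_top hnd hexc) k
  have he := ((rprod_mem_iff hnd hexc hns).1 hk).1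
  have hpar := parity_rprod hnd hU hU hns
  rw [inf_idem] at hpar
  exact (Nat.even_add.1 hpar).2 he

end Cfsg.Agent.OmegaGeo
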