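import Mathlib
import Cfsg.Agent.Lib.OmegaGeo
import Cfsg.Agent.Lib.OmegaStd

/-!
From subgroups of `orth Q` to maximality inside `Geo.omegaGL`.
-/

set_option autoImplicit false

namespace Cfsg.Agent.OmegaMaxGlue

open QuadraticMap Module
open Cfsg.Agent.OrthUnitaryQuad Cfsg.Agent.OrthUnitaryPrelude Cfsg.Agent.OmegaClasses
  Cfsg.Agent.OmegaGeo

variable {F : Type*} [Field F] {ι : Type} [Fintype ι] [DecidableEq ι]
  {q : QuadraticForm F (ι → F)}

/-- `toGL` as a homomorphism. -/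
noncomputable def glHom (q : QuadraticForm F (ι → F)) : orth q →* GL ι F :=
  (isometryGroup F ⇑q).subtype.comp (iso q).symm.toMonoidHom

theorem glHom_apply (k : orth q) : glHom q k = toGL q k := rfl

theorem isMaximalIn_stabilizer {W : Submodule F (ι → F)}
    (hmove : ∃ k ∈ commutator (orth q), W.map (k.1 : (ι → F) →ₗ[F] (ι → F)) ≠ W)
    (hmax : ∀ M : Subgroup (orth q),
      (∀ k ∈ commutator (orth q), W.map (k.1 : (ι → F) →ₗ[F] (ι → F)) = W → k ∈ M) →
      ∀ g ∈ M, g ∈ commutator (orth q) → W.map (g.1 : (ι → F) →ₗ[F] (ι → F)) ≠ W →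
      commutator (orth q) ≤ M) :
    Cfsg.Geo.IsMaximalIn (Cfsg.Geo.omegaGL ⇑q)
      (Cfsg.Geo.subspaceStabilizer W ⊓ Cfsg.Geo.omegaGL ⇑q) := by
  refine ⟨lt_of_le_of_ne inf_le_right fun h => ?_, fun M hHM hMΩ => ?_⟩
  · obtain ⟨k, hk, hne⟩ := hmove
    have := toGL_mem hk
    rw [← h] at this
    exact hne (toGL_mem_stabilizer_iff.1 this.1)
  · rcases eq_or_ne M (Cfsg.Geo.subspaceStabilizer W ⊓ Cfsg.Geo.omegaGL ⇑q) with h | h
    · exact Or.inl h
    refine Or.inr (le_antisymm hMΩ ?_)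
    obtain ⟨x, hx, hxW⟩ := SetLike.exists_of_lt (lt_of_le_of_ne hHM (Ne.symm h))
    obtain ⟨g, hg, rfl⟩ := exists_of_mem_omegaGL (hMΩ hx)
    have hle := hmax (M.comap (glHom q))
      (fun k hk hkW => hHM ⟨toGL_mem_stabilizer_iff.2 hkW, toGL_mem hk⟩) g hx hg
      (fun hgW => hxW ⟨toGL_mem_stabilizer_iff.2 hgW, toGL_mem hg⟩)
    intro y hy
    obtain ⟨k, hk, rfl⟩ := exists_of_mem_omegaGL hy
    exact hle hk

theorem nondeg_odd {m : ℕ} (h2 : (2 : F) ≠ 0) :
    (polarBilin (QuadClassify.qOdd m F)).Nondegenerate := by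
  have hp : ∀ x y : Unit ⊕ (Fin m ⊕ Fin m) → F, polar (QuadClassify.qOdd m F) x y =
      2 * (x (Sum.inl ()) * y (Sum.inl ())) +
        polar (QuadClassify.qPlus m F) (x ∘ Sum.inr) (y ∘ Sum.inr) := by
    intro x y
    simp only [polar, QuadClassify.qOdd_apply, QuadClassify.qPlus_apply, Cfsg.quadFormOdd,
      Cfsg.quadFormPlus, Pi.add_apply, Pi.add_comp, Function.comp_apply]
    ring
  have key : ∀ x, (∀ y, polar (QuadClassify.qOdd m F) x y = 0) → x = 0 := by
    intro x hx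
    have e2 : x ∘ Sum.inr = 0 := OmegaStd.nondeg_plus.1 _ fun y => by
      have := hx (Sum.elim 0 y)
      rw [hp] at this
      simpa using this
    funext s
    rcases s with s | s
    · have := hx (Sum.elim (fun _ => 1) 0)
      rw [hp, e2] at this
      simpa [h2] using this
    · exact congrFun e2 s
  exact ⟨fun x hx => key x hx, fun x hx => key x fun y => (polar_comm _ x y).trans (hx y)⟩

end Cfsg.Agent.OmegaMaxGlue
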