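import Cfsg.Agent.Lib.StemBasic
import Mathlib

/-!
Commutator pairings in central extensions, and the vanishing of bi-additive pairings on a finite
field which are alternating and invariant under nonzero squares (for fields of order different
from 4 and 9).
-/

set_option autoImplicit false

namespace Cfsg.Agent.StemPairing

open scoped commutatorElement
open Polynomial

section Brackets

variable {Γ G : Type*} [Group Γ] [Group G] {σ : Γ →* G}

theorem bracket_mem_ker {a b : Γ} (h : Commute (σ a) (σ b)) : σ ⁅a, b⁆ = 1 := by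
  rw [map_commutatorElement, commutatorElement_eq_one_iff_mul_comm]
  exact h

theorem bracket_congr (hc : σ.ker ≤ Subgroup.center Γ) {a a' b b' : Γ} (ha : σ a = σ a')
    (hb : σ b = σ b') : ⁅a, b⁆ = ⁅a', b'⁆ := by
  obtain ⟨z, hz, rfl⟩ := StemBasic.exists_ker_mul ha
  obtain ⟨y, hy, rfl⟩ := StemBasic.exists_ker_mul hb
  have hzc : ∀ g, Commute g z := StemBasic.ker_comm hc hz
  have hyc : ∀ g, Commute g y := StemBasic.ker_comm hc hy
  have e1 : z * (b' * y) * z⁻¹ = b' * y := by rw [← (hzc (b' * y)).eq, mul_inv_cancel_right]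
  have e2 : y * a'⁻¹ * y⁻¹ = a'⁻¹ := by rw [← (hyc a'⁻¹).eq, mul_inv_cancel_right]
  calc ⁅a' * z, b' * y⁆ = a' * (z * (b' * y) * z⁻¹) * a'⁻¹ * (y⁻¹ * b'⁻¹) := by
        simp only [commutatorElement_def, mul_inv_rev, mul_assoc]
    _ = a' * b' * (y * a'⁻¹ * y⁻¹) * b'⁻¹ := by rw [e1]; simp only [mul_assoc]
    _ = _ := by rw [e2, commutatorElement_def]

theorem bracket_mul_left (hc : σ.ker ≤ Subgroup.center Γ) {a a' b : Γ}
    (h : Commute (σ a') (σ b)) : ⁅a * a', b⁆ = ⁅a, b⁆ * ⁅a', b⁆ := by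
  have hz := StemBasic.ker_comm hc (bracket_mem_ker h)
  have e : ⁅a * a', b⁆ = a * ⁅a', b⁆ * a⁻¹ * ⁅a, b⁆ := by
    simp only [commutatorElement_def]; group
  rw [e, hz a, mul_inv_cancel_right, hz ⁅a, b⁆]

theorem bracket_mul_right (hc : σ.ker ≤ Subgroup.center Γ) {a b b' : Γ}
    (h : Commute (σ a) (σ b')) : ⁅a, b * b'⁆ = ⁅a, b⁆ * ⁅a, b'⁆ := by
  have hz := StemBasic.ker_comm hc (bracket_mem_ker h)
  have e : ⁅a, b * b'⁆ = ⁅a, b⁆ * (b * ⁅a, b'⁆ * b⁻¹) := by
    simp only [commutatorElement_def]; group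
  rw [e, hz b, mul_inv_cancel_right]

/-- Conjugation does not change the commutator of elements with commuting images. -/
theorem bracket_conj (hc : σ.ker ≤ Subgroup.center Γ) (g : Γ) {a b a' b' : Γ}
    (h : Commute (σ a) (σ b)) (ha : σ (g * a * g⁻¹) = σ a') (hb : σ (g * b * g⁻¹) = σ b') :
    ⁅a', b'⁆ = ⁅a, b⁆ := by
  rw [← bracket_congr hc ha hb, ← conjugate_commutatorElement,
    StemBasic.ker_comm hc (bracket_mem_ker h) g, mul_inv_cancel_right]

/-- A subgroup whose preimage is commutative has no multiplier. -/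
theorem kerFree_of_bracket {H : Subgroup G}
    (h : ∀ a b : Γ, σ a ∈ H → σ b ∈ H → ⁅a, b⁆ = 1) : StemBasic.KerFree σ H := by
  rintro w ⟨w', hw', rfl⟩ -
  have : commutator (H.comap σ) = ⊥ := by
    rw [_root_.commutator_def, eq_bot_iff, Subgroup.commutator_le]
    intro x _ y _
    rw [Subgroup.mem_bot]
    exact Subtype.ext (h _ _ x.2 y.2)
  rw [this, SetLike.mem_coe, Subgroup.mem_bot] at hw'
  rw [hw']; rfl

end Brackets

variable {F : Type*} [Field F] [Fintype F]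

theorem exists_squares_char_two (h2 : ringChar F = 2) (hq : 5 ≤ Fintype.card F) :
    ∃ s t u : F, s ≠ 0 ∧ t ≠ 0 ∧ u ≠ 0 ∧ s ^ 2 + t ^ 2 = u ^ 2 ∧
      (s ^ 2) ^ 2 + s ^ 2 * t ^ 2 + (t ^ 2) ^ 2 ≠ 0 := by
  classical
  set P : F[X] := X * (X - C 1) * (X ^ 2 + X + C 1) with hP
  have hdeg : P.natDegree ≤ 4 := by rw [hP]; compute_degree
  have h3 : (X ^ 2 + X + C 1 : F[X]) ≠ 0 := by
    intro h
    have := congrArg (eval 0) h
    simp at this
  have hP0 : P ≠ 0 := mul_ne_zero (mul_ne_zero X_ne_zero (X_sub_C_ne_zero 1)) h3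
  obtain ⟨a, ha⟩ : ∃ a : F, P.eval a ≠ 0 := by
    by_contra hcon
    simp only [not_exists, not_not] at hcon
    exact hP0 (Polynomial.eq_zero_of_natDegree_lt_card_of_eval_eq_zero P (f := fun a : F => a)
      (fun a b h => h) hcon (by omega))
  simp only [hP, eval_mul, eval_X, eval_sub, eval_C, eval_add, eval_pow, mul_ne_zero_iff] at ha
  obtain ⟨⟨ha0, ha1⟩, ha2⟩ := ha
  have : CharP F 2 := ringChar.of_eq h2
  obtain ⟨t, ht⟩ := FiniteField.isSquare_of_char_two h2 a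
  obtain ⟨u, hu⟩ := FiniteField.isSquare_of_char_two h2 (1 + a)
  refine ⟨1, t, u, one_ne_zero, ?_, ?_, ?_, ?_⟩
  · rintro rfl; exact ha0 (by rw [ht, mul_zero])
  · rintro rfl
    rw [mul_zero] at hu
    exact ha1 (by rw [sub_eq_zero]; exact CharTwo.add_eq_zero.1 (by rw [add_comm]; exact hu))
  · rw [one_pow, pow_two t, pow_two u, ← ht, ← hu]
  · rw [one_pow, one_pow, one_mul, pow_two t, ← ht]
    intro h; exact ha2 (by linear_combination h)

theorem exists_squares_odd (h2 : (2 : F) ≠ 0) (hq : 16 ≤ Fintype.card F) :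
    ∃ s t u : F, s ≠ 0 ∧ t ≠ 0 ∧ u ≠ 0 ∧ s ^ 2 + t ^ 2 = u ^ 2 ∧
      (s ^ 2) ^ 2 + s ^ 2 * t ^ 2 + (t ^ 2) ^ 2 ≠ 0 := by
  classical
  set P : F[X] := X * (X ^ 4 - C 1) *
    ((X ^ 2 - C 1) ^ 4 + C 4 * X ^ 2 * (X ^ 2 - C 1) ^ 2 + C 16 * X ^ 4) with hP
  have hdeg : P.natDegree ≤ 13 := by rw [hP]; compute_degree
  have h3 : ((X ^ 2 - C 1) ^ 4 + C 4 * X ^ 2 * (X ^ 2 - C 1) ^ 2 + C 16 * X ^ 4 : F[X]) ≠ 0 := by
    intro h
    have := congrArg (eval 0) h
    simp at this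
  have hP0 : P ≠ 0 :=
    mul_ne_zero (mul_ne_zero X_ne_zero (X_pow_sub_C_ne_zero (by norm_num) 1)) h3
  obtain ⟨x, hx⟩ : ∃ x : F, P.eval x ≠ 0 := by
    by_contra hcon
    simp only [not_exists, not_not] at hcon
    exact hP0 (Polynomial.eq_zero_of_natDegree_lt_card_of_eval_eq_zero P (f := fun a : F => a)
      (fun a b h => h) hcon (by omega))
  simp only [hP, eval_mul, eval_X, eval_sub, eval_C, eval_add, eval_pow, mul_ne_zero_iff] at hx
  obtain ⟨⟨hx0, hx1⟩, hx2⟩ := hx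
  have h4 : x ^ 2 - 1 ≠ 0 := fun h => hx1 (by linear_combination (x ^ 2 + 1) * h)
  have h5 : x ^ 2 + 1 ≠ 0 := fun h => hx1 (by linear_combination (x ^ 2 - 1) * h)
  refine ⟨2 * x, x ^ 2 - 1, x ^ 2 + 1, mul_ne_zero h2 hx0, h4, h5, by ring, ?_⟩
  intro h
  exact hx2 (by linear_combination h)

theorem exists_squares (hnp : ¬ (Fintype.card F).Prime) (h4 : Fintype.card F ≠ 4)
    (h9 : Fintype.card F ≠ 9) :
    ∃ s t u : F, s ≠ 0 ∧ t ≠ 0 ∧ u ≠ 0 ∧ s ^ 2 + t ^ 2 = u ^ 2 ∧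
      (s ^ 2) ^ 2 + s ^ 2 * t ^ 2 + (t ^ 2) ^ 2 ≠ 0 := by
  obtain ⟨n, hp, hn⟩ := FiniteField.card F (ringChar F)
  have : (ringChar F).Prime := hp
  have hn2 : 2 ≤ (n : ℕ) := by
    rcases Nat.lt_or_ge (n : ℕ) 2 with h | h
    · have hn1 : (n : ℕ) = 1 := le_antisymm (Nat.lt_succ_iff.mp h) n.pos
      exact absurd (by rw [hn, hn1, pow_one]; exact hp) hnp
    · exact h
  by_cases h2 : ringChar F = 2
  · refine exists_squares_char_two h2 ?_
    rw [hn, h2] at h4 ⊢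
    rcases hn2.eq_or_lt with h | h
    · rw [← h] at h4; norm_num at h4
    · calc 5 ≤ 2 ^ 3 := by norm_num
        _ ≤ _ := Nat.pow_le_pow_right (by norm_num) h
  · refine exists_squares_odd (Ring.two_ne_zero h2) ?_
    have h3 : 3 ≤ ringChar F := by have := hp.two_le; omega
    rw [hn] at h9 ⊢
    rcases hn2.eq_or_lt with h | h
    · rw [← h] at h9 ⊢
      rcases h3.eq_or_lt with h' | h'
      · rw [← h'] at h9; norm_num at h9
      · calc 16 ≤ 4 ^ 2 := by norm_num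
          _ ≤ _ := Nat.pow_le_pow_left h' 2
    · calc 16 ≤ 3 ^ 3 := by norm_num
        _ ≤ ringChar F ^ 3 := Nat.pow_le_pow_left h3 3
        _ ≤ _ := Nat.pow_le_pow_right (by omega) h

variable {M : Type*} [Group M]

theorem add_zero_one (f : F → M) (h : ∀ x y, f (x + y) = f x * f y) : f 0 = 1 := by
  have := h 0 0
  rw [add_zero] at this
  exact right_eq_mul.1 this

theorem pairing_eq_one (h4 : Fintype.card F ≠ 4) (h9 : Fintype.card F ≠ 9) (B : F → F → M)
    (hl : ∀ x x' y, B (x + x') y = B x y * B x' y) (hr : ∀ x y y', B x (y + y') = B x y * B x y')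
    (halt : ∀ x, B x x = 1)
    (hinv : ∀ t : F, t ≠ 0 → ∀ x y, B (t ^ 2 * x) (t ^ 2 * y) = B x y) (x y : F) : B x y = 1 := by
  have hr0 : ∀ a, B a 0 = 1 := fun a => add_zero_one (B a) (hr a)
  have hl0 : ∀ b, B 0 b = 1 := fun b => add_zero_one (fun a => B a b) (fun a a' => hl a a' b)
  by_cases hnp : (Fintype.card F).Prime
  · haveI := Fact.mk hnp
    have : CharP F (Fintype.card F) := charP_of_card_eq_prime rfl
    have hrep : ∀ a : F, ∃ k : ℕ, a = k := by
      intro a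
      have hs : Function.Surjective (ZMod.castHom (dvd_refl _) F : ZMod (Fintype.card F) →+* F) :=
        (ZMod.castHom_bijective F rfl).2
      obtain ⟨b, rfl⟩ := hs a
      exact ⟨b.val, by rw [← map_natCast (ZMod.castHom (dvd_refl _) F) b.val, ZMod.natCast_zmod_val]⟩
    have hk : ∀ (k : ℕ) (b : F), b = 1 → B k b = 1 := by
      intro k b hb
      subst hb
      induction k with
      | zero => simpa using hl0 1
      | succ k ih => rw [Nat.cast_succ, hl, ih, halt, one_mul]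
    obtain ⟨k, rfl⟩ := hrep x
    obtain ⟨l, rfl⟩ := hrep y
    induction l with
    | zero => simpa using hr0 _
    | succ l ih => rw [Nat.cast_succ, hr, ih, hk k 1 rfl, one_mul]
  obtain ⟨s, t, u, hs, ht, hu, hsum, hc⟩ := exists_squares hnp h4 h9
  have key : ∀ (w : F), w ≠ 0 → ∀ a b, B (w ^ 2 * a) b = B a (b / w ^ 2) := by
    intro w hw a b
    conv_lhs => rw [show b = w ^ 2 * (b / w ^ 2) by field_simp]
    rw [hinv w hw]
  have h1 : ∀ b, B x (b / u ^ 2) = B x (b / s ^ 2 + b / t ^ 2) := by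
    intro b
    rw [hr, ← key u hu, ← key s hs, ← key t ht, ← hl, ← hsum, add_mul]
  set c : F := 1 / s ^ 2 + 1 / t ^ 2 - 1 / u ^ 2 with hcdef
  have hc0 : c ≠ 0 := by
    have hu2 : (s ^ 2 + t ^ 2) ≠ 0 := by rw [hsum]; exact pow_ne_zero 2 hu
    have : c = ((s ^ 2) ^ 2 + s ^ 2 * t ^ 2 + (t ^ 2) ^ 2) / (s ^ 2 * t ^ 2 * (s ^ 2 + t ^ 2)) := by
      rw [hcdef, ← hsum]; field_simp; ring
    rw [this]
    exact div_ne_zero hc (mul_ne_zero (mul_ne_zero (pow_ne_zero 2 hs) (pow_ne_zero 2 ht)) hu2)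
  have h2 := h1 (y / c)
  rw [show (y / c) / s ^ 2 + (y / c) / t ^ 2 = y / c * c + (y / c) / u ^ 2 by rw [hcdef]; ring,
    div_mul_cancel₀ y hc0, hr] at h2
  exact right_eq_mul.1 h2

end Cfsg.Agent.StemPairing
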