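import Cfsg.Agent.Lib.StemBasic
import Mathlib

/-!
Canonical lifts of `p`-elements in central extensions with kernel of order prime to `p`.
-/

set_option autoImplicit false

namespace Cfsg.Agent.StemLift

open Subgroup

variable {Γ G : Type*} [Group Γ] [Group G]

/-- `g` has `p`-power order. -/
def IsPElem (p : ℕ) (g : G) : Prop := ∃ k : ℕ, g ^ p ^ k = 1

variable {p : ℕ}

theorem isPElem_one : IsPElem p (1 : G) := ⟨0, one_pow _⟩

theorem isPElem_of_pow {g : G} (h : g ^ p = 1) : IsPElem p g := ⟨1, by rwa [pow_one]⟩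

theorem IsPElem.map {g : G} {H : Type*} [Group H] (f : G →* H) (h : IsPElem p g) :
    IsPElem p (f g) := by
  obtain ⟨k, hk⟩ := h
  exact ⟨k, by rw [← map_pow, hk, map_one]⟩

theorem isPElem_map_iff {g : G} {H : Type*} [Group H] (f : G →* H) (hf : Function.Injective f) :
    IsPElem p (f g) ↔ IsPElem p g := by
  constructor
  · rintro ⟨k, hk⟩
    exact ⟨k, hf (by rw [map_pow, hk, map_one])⟩
  · exact IsPElem.map f

theorem IsPElem.conj {g : G} (h : IsPElem p g) (x : G) : IsPElem p (x * g * x⁻¹) := by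
  obtain ⟨k, hk⟩ := h
  exact ⟨k, by rw [conj_pow, hk, mul_one, mul_inv_cancel]⟩

theorem IsPElem.inv {g : G} (h : IsPElem p g) : IsPElem p g⁻¹ := by
  obtain ⟨k, hk⟩ := h
  exact ⟨k, by rw [inv_pow, hk, inv_one]⟩

theorem IsPElem.mul_of_commute {a b : G} (ha : IsPElem p a) (hb : IsPElem p b) (hab : Commute a b) :
    IsPElem p (a * b) := by
  obtain ⟨k, hk⟩ := ha
  obtain ⟨l, hl⟩ := hb
  refine ⟨k + l, ?_⟩
  rw [hab.mul_pow, pow_add, pow_mul, hk, one_pow, mul_comm (p ^ k), pow_mul, hl, one_pow, one_mul]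

/-- If `g` is a `p`-element normalising a subgroup `N` of `p`-elements, then `n * g` is one. -/
theorem IsPElem.mul_of_normalizes {N : Subgroup G} (hN : ∀ x ∈ N, IsPElem p x) {g : G}
    (hg : IsPElem p g) (hnorm : ∀ x ∈ N, g * x * g⁻¹ ∈ N) {n : G} (hn : n ∈ N) :
    IsPElem p (n * g) := by
  have hnorm' : ∀ (i : ℕ), ∀ x ∈ N, g ^ i * x * (g ^ i)⁻¹ ∈ N := by
    intro i
    induction i with
    | zero => intro x hx; simpa using hx
    | succ i ih =>
      intro x hx
      have := hnorm _ (ih x hx)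
      simpa [pow_succ', mul_assoc] using this
  have key : ∀ i : ℕ, ∃ x ∈ N, (n * g) ^ i = x * g ^ i := by
    intro i
    induction i with
    | zero => exact ⟨1, N.one_mem, by simp⟩
    | succ i ih =>
      obtain ⟨x, hx, he⟩ := ih
      refine ⟨x * (g ^ i * n * (g ^ i)⁻¹), N.mul_mem hx (hnorm' i n hn), ?_⟩
      rw [pow_succ, he, pow_succ]
      group
  obtain ⟨k, hk⟩ := hg
  obtain ⟨x, hx, he⟩ := key (p ^ k)
  rw [hk, mul_one] at he
  obtain ⟨l, hl⟩ := hN x hx
  exact ⟨k + l, by rw [pow_add, pow_mul, he, hl]⟩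

/-- A chosen `p`-element preimage. -/
noncomputable def lift (p : ℕ) (σ : Γ →* G) (u : G) : Γ :=
  Classical.epsilon fun g => σ g = u ∧ IsPElem p g

variable {σ : Γ →* G} [Finite Γ]

theorem exists_lift (hs : Function.Surjective σ) (hZ : Nat.Coprime (Nat.card σ.ker) p) {u : G}
    (hu : IsPElem p u) : ∃ g, σ g = u ∧ IsPElem p g := by
  obtain ⟨k, hk⟩ := hu
  obtain ⟨g, rfl⟩ := hs u
  have hcop : (Nat.card σ.ker).Coprime (orderOf (σ g)) :=
    Nat.Coprime.coprime_dvd_right (orderOf_dvd_of_pow_eq_one hk) (hZ.pow_right k)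
  obtain ⟨r, hr⟩ := exists_pow_eq_self_of_coprime hcop
  refine ⟨(g ^ Nat.card σ.ker) ^ r, by rw [map_pow, map_pow, hr], k, ?_⟩
  have h1 : (g ^ p ^ k) ^ Nat.card σ.ker = 1 := by
    have : g ^ p ^ k ∈ σ.ker := by rw [MonoidHom.mem_ker, map_pow, hk]
    have h2 := pow_card_eq_one' (x := (⟨g ^ p ^ k, this⟩ : σ.ker))
    simpa using congrArg Subtype.val h2
  rw [← pow_mul, ← pow_mul, show Nat.card σ.ker * (r * p ^ k) = p ^ k * Nat.card σ.ker * r by ring,
    pow_mul, pow_mul, h1, one_pow]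

theorem lift_unique (hc : σ.ker ≤ center Γ) (hZ : Nat.Coprime (Nat.card σ.ker) p) {g g' : Γ}
    (h : σ g = σ g') (hg : IsPElem p g) (hg' : IsPElem p g') : g = g' := by
  obtain ⟨z, hz, rfl⟩ := StemBasic.exists_ker_mul h
  have hzc : Commute g' z := StemBasic.ker_comm hc hz g'
  have : IsPElem p (g'⁻¹ * (g' * z)) :=
    hg'.inv.mul_of_commute hg (((Commute.refl g').mul_right hzc).inv_left)
  rw [inv_mul_cancel_left] at this
  obtain ⟨k, hk⟩ := this
  have h1 := StemBasic.orderOf_dvd_card_ker (σ := σ) hz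
  have h2 := orderOf_dvd_of_pow_eq_one hk
  have : z = 1 := orderOf_eq_one_iff.1 (Nat.eq_one_of_dvd_coprimes (hZ.pow_right k) h1 h2)
  rw [this, mul_one]

variable (hs : Function.Surjective σ) (hc : σ.ker ≤ center Γ)
  (hZ : Nat.Coprime (Nat.card σ.ker) p)

include hs hZ in
theorem lift_spec {u : G} (hu : IsPElem p u) :
    σ (lift p σ u) = u ∧ IsPElem p (lift p σ u) :=
  Classical.epsilon_spec (exists_lift hs hZ hu)

include hs hc hZ in
theorem lift_eq {g : Γ} (hg : IsPElem p g) : lift p σ (σ g) = g :=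
  lift_unique hc hZ (lift_spec hs hZ (hg.map σ)).1 (lift_spec hs hZ (hg.map σ)).2 hg

include hs hc hZ in
theorem lift_one : lift p σ (1 : G) = 1 := by
  have := lift_eq hs hc hZ (isPElem_one (p := p) (G := Γ))
  rwa [map_one] at this

include hs hc hZ in
theorem lift_conj {u : G} (hu : IsPElem p u) (g : Γ) :
    g * lift p σ u * g⁻¹ = lift p σ (σ g * u * (σ g)⁻¹) := by
  obtain ⟨h1, h2⟩ := lift_spec hs hZ hu
  rw [← lift_eq hs hc hZ (h2.conj g), map_mul, map_mul, map_inv, h1]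

include hs hc hZ in
theorem lift_mul {u v : G} (hu : IsPElem p u) (hv : IsPElem p v) (h : Commute u v) :
    lift p σ u * lift p σ v = lift p σ (u * v) := by
  obtain ⟨h1, h2⟩ := lift_spec hs hZ hu
  obtain ⟨h3, h4⟩ := lift_spec hs hZ hv
  have hcomm : Commute (lift p σ u) (lift p σ v) := by
    have := lift_conj hs hc hZ hv (lift p σ u)
    rw [h1, h.eq, mul_inv_cancel_right] at this
    exact mul_inv_eq_iff_eq_mul.1 this
  rw [← lift_eq hs hc hZ (h2.mul_of_commute h4 hcomm), map_mul, h1, h3]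

end Cfsg.Agent.StemLift
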