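import Cfsg.Agent.Lib.StemPairing
import Cfsg.Agent.Lib.StemLift
import Cfsg.Agent.Lib.PSLCard
import Cfsg.Agent.Lib.PSL2Elements
import Mathlib

/-!
Stem extensions of `SL₂(q)`: no kernel prime to `q`, and none at all unless `q ∈ {4, 9}`.
-/

set_option autoImplicit false

namespace Cfsg.Agent.StemSL2

open Subgroup
open scoped MatrixGroups commutatorElement

variable {F : Type*} [Field F] [Fintype F]

theorem card_SL2' : Nat.card SL(2, F) =
    Fintype.card F * ((Fintype.card F + 1) * (Fintype.card F - 1)) := by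
  rw [PSLCard.card_SL2, Nat.card_eq_fintype_card, ← Nat.sq_sub_sq, one_pow]

theorem exists_split : ∃ g : Fˣ, orderOf (PSL2Elements.d g) = Fintype.card F - 1 := by
  obtain ⟨g, hg⟩ := IsCyclic.exists_ofOrder_eq_natCard (α := Fˣ)
  refine ⟨g, ?_⟩
  show orderOf (PSL2Elements.dHom g) = _
  rw [orderOf_injective _ PSL2Elements.dHom_injective, hg, PSLCard.card_units_field,
    Nat.card_eq_fintype_card]

theorem exists_nonsplit : ∃ a : SL(2, F), orderOf a = Fintype.card F + 1 := by
  obtain ⟨A, hA⟩ := PSL2Elements.exists_nonsplit (F := F)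
  obtain ⟨hcyc, hcard⟩ := PSL2Elements.centralizer_nonsplit hA
  obtain ⟨g, hg⟩ := IsCyclic.exists_ofOrder_eq_natCard
    (α := Subgroup.centralizer ({A} : Set SL(2, F)))
  exact ⟨g, by rw [Subgroup.orderOf_coe, hg, hcard, Nat.card_eq_fintype_card]⟩

theorem index_zpowers (a : SL(2, F)) :
    (zpowers a).index * orderOf a =
      Fintype.card F * ((Fintype.card F + 1) * (Fintype.card F - 1)) := by
  rw [← card_SL2', ← Nat.card_zpowers]
  exact (zpowers a).index_mul_card

theorem two_mul_dvd_card_closure {G : Type*} [Group G] [Finite G] (a b : G)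
    (hab : b * a * b⁻¹ = a⁻¹) (hbb : b * b ∈ zpowers a) (hb : b ∉ zpowers a) :
    2 * orderOf a ∣ Nat.card (closure ({a, b} : Set G)) := by
  set H := closure ({a, b} : Set G)
  set A := zpowers a
  have haH : a ∈ H := subset_closure (Set.mem_insert _ _)
  have hbH : b ∈ H := subset_closure (Set.mem_insert_of_mem _ rfl)
  have hAH : A ≤ H := zpowers_le.2 haH
  have hbN : ∀ x : G, x ∈ A → b * x * b⁻¹ ∈ A := by
    rintro _ ⟨k, rfl⟩
    simp only [← conj_zpow, hab]
    exact zpow_mem (inv_mem (mem_zpowers a)) k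
  have hnorm : ∀ g ∈ H, (∀ x ∈ A, g * x * g⁻¹ ∈ A) ∧ (∀ x ∈ A, g⁻¹ * x * g ∈ A) := by
    intro g hg
    induction hg using closure_induction with
    | mem g hg =>
      rcases hg with rfl | rfl
      · exact ⟨fun x hx => A.mul_mem (A.mul_mem (mem_zpowers _) hx) (A.inv_mem (mem_zpowers _)),
          fun x hx => A.mul_mem (A.mul_mem (A.inv_mem (mem_zpowers _)) hx) (mem_zpowers _)⟩
      · refine ⟨hbN, fun x hx => ?_⟩
        have e : g⁻¹ * x * g = (g * g)⁻¹ * (g * x * g⁻¹) * (g * g) := by group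
        rw [e]
        exact A.mul_mem (A.mul_mem (A.inv_mem hbb) (hbN x hx)) hbb
    | one => exact ⟨fun x hx => by simpa using hx, fun x hx => by simpa using hx⟩
    | mul x y _ _ hx hy =>
      exact ⟨fun z hz => by simpa [mul_assoc] using hx.1 _ (hy.1 z hz),
        fun z hz => by simpa [mul_assoc] using hy.2 _ (hx.2 z hz)⟩
    | inv x _ hx =>
      exact ⟨fun z hz => by simpa using hx.2 z hz, fun z hz => by simpa using hx.1 z hz⟩
  have : (A.subgroupOf H).Normal := ⟨fun x hx g => (hnorm g g.2).1 x hx⟩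
  have hord : orderOf (QuotientGroup.mk' (A.subgroupOf H) ⟨b, hbH⟩) = 2 := by
    refine orderOf_eq_prime ?_ ?_
    · rw [← map_pow]
      refine (QuotientGroup.eq_one_iff _).2 ?_
      show b ^ 2 ∈ A
      rwa [pow_two]
    · intro h
      exact hb ((QuotientGroup.eq_one_iff (N := A.subgroupOf H) _).1 h)
  have h2 := hord ▸ orderOf_dvd_natCard (QuotientGroup.mk' (A.subgroupOf H) ⟨b, hbH⟩)
  have hA : Nat.card (A.subgroupOf H) = orderOf a := by
    rw [Nat.card_congr (subgroupOfEquivOfLe hAH).toEquiv, Nat.card_zpowers]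
  have := Subgroup.card_eq_card_quotient_mul_card_subgroup (A.subgroupOf H)
  rw [this, hA]
  exact Nat.mul_dvd_mul_right h2 _

variable (p : ℕ) [Fact p.Prime] [CharP F p]

theorem pow_half_eq_neg_one (h2 : (2 : F) ≠ 0) {a : SL(2, F)} {m : ℕ} (hm : 0 < m)
    (ha : orderOf a = 2 * m) : a ^ m = -1 := by
  refine (PSL2Elements.eq_one_or_neg_one_of_sq_eq_one h2 ?_).resolve_left ?_
  · rw [← pow_mul, mul_comm, ← ha, pow_orderOf_eq_one]
  · exact pow_ne_one_of_lt_orderOf hm.ne' (by omega)

include p in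
/-- A non-split torus is inverted by an element squaring to `-1`. -/
theorem exists_invert (h2 : (2 : F) ≠ 0) {a : SL(2, F)} (ha : orderOf a = Fintype.card F + 1) :
    ∃ g : SL(2, F), g * a * g⁻¹ = a⁻¹ ∧ g * g = -1 := by
  obtain ⟨n, hp, hn⟩ := FiniteField.card F p
  have hp3 : 3 ≤ p := by
    rcases Nat.lt_or_ge p 3 with h | h
    · exfalso
      have := hp.two_le
      have hp2 : p = 2 := by omega
      subst hp2
      exact h2 CharTwo.two_eq_zero
    · exact h
  have hq : 3 ≤ Fintype.card F := by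
    rw [hn]; exact hp3.trans (Nat.le_self_pow n.pos.ne' p)
  have hcop : Nat.Coprime (Fintype.card F + 1) p := by
    rw [Nat.coprime_comm, hp.coprime_iff_not_dvd, hn]
    intro h
    have := Nat.dvd_sub h (dvd_pow_self p n.pos.ne')
    simp at this
    omega
  have htr : PSL2Elements.tr a ^ 2 ≠ 4 := by
    intro h4
    have hpow : a ^ (2 * p) = 1 := by
      have : PSL2Elements.tr a = 2 ∨ PSL2Elements.tr a = -2 := by
        refine sq_eq_sq_iff_eq_or_eq_neg.1 ?_
        rw [h4]; norm_num
      rcases this with h | h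
      · rw [mul_comm, pow_mul, PSL2Elements.pow_char p h, one_pow]
      · have := PSL2Elements.pow_char p (A := -a) (by rw [PSL2Elements.tr_neg, h, neg_neg])
        rw [pow_mul, ← neg_sq a, ← pow_mul, mul_comm, pow_mul, this, one_pow]
    have hd := orderOf_dvd_of_pow_eq_one hpow
    rw [ha] at hd
    have := Nat.le_of_dvd two_pos (hcop.dvd_of_dvd_mul_right hd)
    omega
  obtain ⟨g, hg⟩ := isConj_iff.1 (PSL2Elements.isConj_inv htr)
  refine ⟨g, hg, ?_⟩
  obtain ⟨-, hC⟩ := PSL2Elements.centralizer_semisimple htr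
  have hle : zpowers a ≤ centralizer ({a} : Set SL(2, F)) :=
    zpowers_le.2 (mem_centralizer_singleton_iff.2 rfl)
  have heq : zpowers a = centralizer ({a} : Set SL(2, F)) := by
    refine Subgroup.eq_of_le_of_card_ge hle ?_
    rw [Nat.card_zpowers, ha]
    rcases hC with ⟨-, h⟩ | ⟨-, h⟩ <;> rw [h, Nat.card_eq_fintype_card] <;> omega
  have hgg : g * g ∈ zpowers a := by
    rw [heq, mem_centralizer_singleton_iff]
    have e1 : g * g * a * (g * g)⁻¹ = a := by
      calc g * g * a * (g * g)⁻¹ = g * (g * a * g⁻¹) * g⁻¹ := by group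
        _ = g * a⁻¹ * g⁻¹ := by rw [hg]
        _ = (g * a * g⁻¹)⁻¹ := by group
        _ = a := by rw [hg, inv_inv]
    exact mul_inv_eq_iff_eq_mul.1 e1
  obtain ⟨j, hj⟩ := mem_zpowers_iff.1 hgg
  have h5 : (g * g) ^ 2 = 1 := by
    have e : g * a ^ j * g⁻¹ = (a ^ j)⁻¹ := by rw [← conj_zpow, hg, inv_zpow]
    rw [hj, show g * (g * g) * g⁻¹ = g * g by group] at e
    rw [pow_two]
    nth_rewrite 1 [e]
    exact inv_mul_cancel _
  refine (PSL2Elements.eq_one_or_neg_one_of_sq_eq_one h2 h5).resolve_left fun h1 => ?_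
  have h6 : g ^ 2 = 1 := by rw [pow_two, h1]
  have h7 : g * a * g⁻¹ = a := by
    rcases PSL2Elements.eq_one_or_neg_one_of_sq_eq_one h2 h6 with rfl | rfl
    · simp
    · simp
  have h8 : a ^ 2 = 1 := by
    rw [h7] at hg
    rw [pow_two]
    nth_rewrite 1 [hg]
    rw [inv_mul_cancel]
  have := orderOf_dvd_of_pow_eq_one h8
  rw [ha] at this
  have := Nat.le_of_dvd two_pos this
  omega

variable {Γ : Type*} [Group Γ] [Finite Γ] {σ : Γ →* SL(2, F)}

include p in
/-- No kernel elements of prime order different from the characteristic. -/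
theorem kill_prime (hσ : Cfsg.IsStemExtension σ) {ℓ : ℕ} (hl : ℓ.Prime) (hlp : ℓ ≠ p) {z : Γ}
    (hz : σ z = 1) (ho : orderOf z = ℓ) : False := by
  obtain ⟨n, hp, hn⟩ := FiniteField.card F p
  have hlq : ¬ ℓ ∣ Fintype.card F := by
    rw [hn]
    intro h
    exact hlp ((Nat.prime_dvd_prime_iff_eq hl hp).1 (hl.dvd_of_dvd_pow h))
  have hq1 : 1 < Fintype.card F := Fintype.one_lt_card
  have hz1 : z ≠ 1 := fun h => by
    rw [h, orderOf_one] at ho
    exact hl.ne_one ho.symm
  have kill : ∀ H : Subgroup SL(2, F), StemBasic.KerFree σ H → ¬ ℓ ∣ H.index → False :=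
    fun H hH hH' => hz1 (StemBasic.eq_one_of_kerFree hσ hH hz (by rw [ho]; exact hl.coprime_iff_not_dvd.2 hH'))
  obtain ⟨g, hg⟩ := exists_split (F := F)
  obtain ⟨a, ha⟩ := exists_nonsplit (F := F)
  set q := Fintype.card F with hq
  by_cases h2 : ℓ = 2
  · subst h2
    have h2F : (2 : F) ≠ 0 := by
      intro h
      exact hlp ((Nat.prime_dvd_prime_iff_eq hp Nat.prime_two).1
        ((CharP.cast_eq_zero_iff F p 2).1 (by exact_mod_cast h))).symm
    have hqodd : q % 2 = 1 := by omega
    have hq4 : q % 4 = 1 ∨ q % 4 = 3 := by omega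
    have main : ∀ (a b : SL(2, F)) (o : ℕ), orderOf a = o → o % 2 = 0 → 0 < o →
        b * a * b⁻¹ = a⁻¹ → b * b = -1 → b ∉ zpowers a →
        ∀ r, o * r = q * ((q + 1) * (q - 1)) → r % 4 ≠ 0 → False := by
      intro a b o ho2 heven hpos hinv hb hbn r hr hr4
      have hm := pow_half_eq_neg_one h2F (a := a) (m := o / 2) (by omega) (by omega)
      refine kill (closure {a, b}) (StemBasic.kerFree_dicyclic σ hσ.1 hσ.2.1 a b (o / 2) hinv
        (hb.trans hm.symm) (by omega)) ?_
      intro hdvd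
      obtain ⟨i, hi⟩ := hdvd
      obtain ⟨c, hc⟩ := two_mul_dvd_card_closure a b hinv (by rw [hb, ← hm]; exact npow_mem_zpowers _ _) hbn
      have hprod := (closure ({a, b} : Set SL(2, F))).index_mul_card
      rw [card_SL2', ← hq, hi, hc, ho2, ← hr] at hprod
      have : r = 4 * (i * c) :=
        Nat.eq_of_mul_eq_mul_left hpos (by rw [← hprod]; ring)
      omega
    rcases hq4 with h4 | h4
    · refine main (PSL2Elements.d g) PSL2Elements.w (q - 1) hg (by omega) (by omega) ?_
        PSL2Elements.w_sq ?_ (q * (q + 1)) (by ring) ?_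
      · rw [PSL2Elements.w_conj_d]
        exact map_inv PSL2Elements.dHom g
      · intro hw
        obtain ⟨k, hk⟩ := mem_zpowers_iff.1 hw
        have : PSL2Elements.dHom (g ^ k) = PSL2Elements.w := by rw [map_zpow]; exact hk
        have := congrArg (fun A : SL(2, F) => A.1 1 0) this
        simp [PSL2Elements.dHom, PSL2Elements.d, PSL2Elements.w] at this
      · rw [Nat.mul_mod, Nat.add_mod, h4]; simp
    · obtain ⟨b, hb1, hb2⟩ := exists_invert p h2F ha
      refine main a b (q + 1) ha (by omega) (by omega) hb1 hb2 ?_ (q * (q - 1)) (by ring) ?_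
      · intro hb
        obtain ⟨k, hk⟩ := mem_zpowers_iff.1 hb
        rw [← hk] at hb1
        have e : a ^ k * a * (a ^ k)⁻¹ = a := by group
        rw [e] at hb1
        have : a ^ 2 = 1 := by
          rw [pow_two]; nth_rewrite 1 [hb1]; rw [inv_mul_cancel]
        have := Nat.le_of_dvd two_pos (ha ▸ orderOf_dvd_of_pow_eq_one this)
        omega
      · have : (q - 1) % 4 = 2 := by omega
        rw [Nat.mul_mod, h4, this]; simp
  · by_cases hsplit : ℓ ∣ q + 1
    · refine kill (zpowers a) (StemBasic.kerFree_zpowers σ hσ.2.1 a) ?_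
      have h := index_zpowers a
      rw [ha] at h
      have hidx : (zpowers a).index = q * (q - 1) :=
        Nat.eq_of_mul_eq_mul_right (show 0 < q + 1 by omega) (by rw [h]; ring)
      rw [hidx]
      intro hd
      rcases hl.dvd_mul.1 hd with hd | hd
      · exact hlq hd
      · have := Nat.dvd_sub hsplit hd
        rw [show q + 1 - (q - 1) = 2 by omega] at this
        exact h2 ((Nat.prime_dvd_prime_iff_eq hl Nat.prime_two).1 this)
    · refine kill (zpowers (PSL2Elements.d g)) (StemBasic.kerFree_zpowers σ hσ.2.1 _) ?_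
      have h := index_zpowers (PSL2Elements.d g)
      rw [hg] at h
      have hidx : (zpowers (PSL2Elements.d g)).index = q * (q + 1) :=
        Nat.eq_of_mul_eq_mul_right (show 0 < q - 1 by omega) (by rw [h]; ring)
      rw [hidx]
      intro hd
      rcases hl.dvd_mul.1 hd with hd | hd
      · exact hlq hd
      · exact hsplit hd

theorem kerFree_unipotent (hs : Function.Surjective σ) (hc : σ.ker ≤ center Γ)
    (h4 : Fintype.card F ≠ 4) (h9 : Fintype.card F ≠ 9) :
    StemBasic.KerFree σ (PSL2Elements.uHom (F := F)).range := by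
  let L : F → Γ := fun x => Function.surjInv hs (PSL2Elements.u x)
  have hL : ∀ x, σ (L x) = PSL2Elements.u x := fun x => Function.surjInv_eq hs _
  have hcomm : ∀ x y, Commute (σ (L x)) (σ (L y)) := fun x y => by
    rw [hL, hL]
    show _ = _
    rw [PSL2Elements.u_mul, PSL2Elements.u_mul, add_comm]
  have hB : ∀ x y, ⁅L x, L y⁆ = 1 := by
    refine StemPairing.pairing_eq_one h4 h9 (fun x y => ⁅L x, L y⁆) ?_ ?_ ?_ ?_
    · intro x x' y
      show _ = ⁅L x, L y⁆ * ⁅L x', L y⁆
      rw [← StemPairing.bracket_mul_left hc (hcomm x' y)]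
      exact StemPairing.bracket_congr hc (by rw [map_mul, hL, hL, hL, PSL2Elements.u_mul]) rfl
    · intro x y y'
      show _ = ⁅L x, L y⁆ * ⁅L x, L y'⁆
      rw [← StemPairing.bracket_mul_right hc (hcomm x y')]
      exact StemPairing.bracket_congr hc rfl (by rw [map_mul, hL, hL, hL, PSL2Elements.u_mul])
    · intro x; exact commutatorElement_self _
    · intro t ht x y
      obtain ⟨g, hg⟩ := hs (PSL2Elements.d (Units.mk0 t ht))
      refine StemPairing.bracket_conj hc g (hcomm x y) ?_ ?_
      · rw [map_mul, map_mul, map_inv, hg, hL, hL, PSL2Elements.d_conj_u, Units.val_mk0]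
      · rw [map_mul, map_mul, map_inv, hg, hL, hL, PSL2Elements.d_conj_u, Units.val_mk0]
  refine StemPairing.kerFree_of_bracket fun a b ha hb => ?_
  obtain ⟨x, hx⟩ := ha
  obtain ⟨y, hy⟩ := hb
  rw [StemPairing.bracket_congr hc (a' := L x.toAdd) (b' := L y.toAdd)
    (by rw [hL, ← hx]; rfl) (by rw [hL, ← hy]; rfl)]
  exact hB _ _

include p in
theorem ker_eq_bot (hσ : Cfsg.IsStemExtension σ) (h4 : Fintype.card F ≠ 4)
    (h9 : Fintype.card F ≠ 9) : σ.ker = ⊥ := by
  refine StemBasic.ker_eq_bot_of_primes fun ℓ hl z hz ho => ?_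
  by_cases hlp : ℓ = p
  · subst hlp
    obtain ⟨n, hp, hn⟩ := FiniteField.card F ℓ
    have hq1 : 1 < Fintype.card F := Fintype.one_lt_card
    have hidx : (PSL2Elements.uHom (F := F)).range.index =
        (Fintype.card F + 1) * (Fintype.card F - 1) := by
      have h := (PSL2Elements.uHom (F := F)).range.index_mul_card
      rw [card_SL2', ← Nat.card_congr (MonoidHom.ofInjective PSL2Elements.uHom_injective).toEquiv,
        Nat.card_congr Multiplicative.toAdd, Nat.card_eq_fintype_card] at h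
      exact Nat.eq_of_mul_eq_mul_right (by omega) (h.trans (mul_comm _ _))
    have hz1 : z = 1 := by
      refine StemBasic.eq_one_of_kerFree hσ (kerFree_unipotent hσ.1 hσ.2.1 h4 h9) hz ?_
      rw [ho, hidx, hl.coprime_iff_not_dvd]
      intro hd
      have hdq : ℓ ∣ Fintype.card F := hn ▸ dvd_pow_self ℓ n.pos.ne'
      rcases hl.dvd_mul.1 hd with hd | hd
      · have := Nat.dvd_sub hd hdq
        simp at this
        exact hl.ne_one this
      · have := Nat.dvd_sub hdq hd
        rw [Nat.sub_sub_self hq1.le, Nat.dvd_one] at this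
        exact hl.ne_one this
    rw [hz1, orderOf_one] at ho
    exact hl.ne_one ho.symm
  · exact kill_prime p hσ hl hlp hz ho

end Cfsg.Agent.StemSL2
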