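import Cfsg.Agent.Lib.ChevRootCentralizer

/-!
Criteria for lying in `B` or in `H`, and trivial centraliser of the unit root elements.
-/

set_option autoImplicit false
set_option linter.unusedSectionVars false

namespace Cfsg.Agent.ChevBorelCriterion

open Cfsg.Lie Cfsg.Agent.ChevalleyEngine Cfsg.Agent.ChevalleyCert Cfsg.Agent.ChevalleyRoots
open Cfsg.Agent.ChevalleyCore Cfsg.Agent.ChevalleyTorus Cfsg.Agent.ChevWeyl Cfsg.Agent.ChevBruhat
open Cfsg.Agent.ChevRootCentralizer

variable {D : ChevalleyDatum} (C : Cert D) {F : Type*} [Field F] (S : Sys D F)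

include C

include S in
/-- a root element of a fundamental root is outside `upSub` unless trivial -/
theorem simple_notMem_upSub (i : Fin D.rank) {a : F} (h : xg C (D.simple i) a ∈ upSub D F i) : a = 0 := by
  obtain ⟨e, he, h1, -⟩ := S.acts_simple i (D.simple i) (S.X.simple_lt i.isLt)
  rw [S.X.img_simple i (S.X.simple_lt i.isLt), S.X.reflect_simple i.isLt] at h1
  have h2 := S.nn_conj_upSub i (show S.xg (D.simple i) a ∈ upSub D F i by rwa [sysXg C S])
  rw [h1] at h2
  have hneg : D.IsNegRoot (D.neg (D.simple i)) := by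
    have hp := S.X.simple_lt i.isLt
    rw [← S.X.pos_neg_iff (S.X.root_facts hp).1, (S.X.root_facts hp).2.1]
    exact S.X.simple_pos i.isLt
  have := S.xg_neg_notMem_B hneg (Sys.U_le_B (Sys.upSub_le_U _ h2))
  exact (mul_eq_zero.mp this).resolve_left he

include S in
/-- if `m y m⁻¹ ∈ U` then `y` lies in the part of `U` kept positive by `m` -/
theorem mem_kept {w0 : S.X.W} (hw0 : ∀ r, D.IsPosRoot r → D.IsNegRoot (S.X.img w0 r))
    (m : ↥(D.monomialSubgroup F)) {y : GL D.Idx F} (hy : y ∈ D.posUnipotent F)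
    (hmy : (m : GL D.Idx F) * y * (m : GL D.Idx F)⁻¹ ∈ D.posUnipotent F) :
    y ∈ S.Uw (w0 * S.toW m) := by
  obtain ⟨n0, hn0⟩ := S.toW_surjective w0
  obtain ⟨b, hb, u, hu, e⟩ := S.exists_form (n0 * m) (Sys.U_le_B hy)
  rw [map_mul, hn0] at hu
  have hUconj : (m : GL D.Idx F) * u * (m : GL D.Idx F)⁻¹ ∈ D.posUnipotent F := by
    refine Sys.conj_closure_le (T := {g : GL D.Idx F | ∃ r t, r ∈ S.X.invSet (w0 * S.toW m) ∧ g = S.xg r t})
      _ ?_ hu
    rintro x ⟨r, t, hr, rfl⟩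
    rw [S.X.mem_invSet, S.X.img_mul] at hr
    obtain ⟨c, -, h1, -⟩ := S.acts_toW m r hr.1.1
    rw [h1]
    refine S.xg_mem_U ?_ _
    rcases S.X.pos_or_neg (S.X.img_lt (S.toW m) hr.1.1) with h | h
    · exact h
    · have hp := (S.X.pos_neg_iff h.1).mpr h
      have h2 := hw0 _ hp
      rw [S.X.img_neg w0 h.1] at h2
      have h3 := (S.X.pos_neg_iff (S.X.root_facts (S.X.img_lt w0 h.1)).1).mpr h2
      rw [(S.X.root_facts (S.X.img_lt w0 h.1)).2.1] at h3
      exact absurd hr.2 (S.X.not_pos_and_neg h3)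
  have key : (n0 : GL D.Idx F) * ((m : GL D.Idx F) * (y * u⁻¹) * (m : GL D.Idx F)⁻¹) * (n0 : GL D.Idx F)⁻¹ = b := by
    calc (n0 : GL D.Idx F) * ((m : GL D.Idx F) * (y * u⁻¹) * (m : GL D.Idx F)⁻¹) * (n0 : GL D.Idx F)⁻¹
        = ((n0 * m : ↥(D.monomialSubgroup F)) : GL D.Idx F) * y * u⁻¹ *
            ((n0 * m : ↥(D.monomialSubgroup F)) : GL D.Idx F)⁻¹ := by
          rw [Subgroup.coe_mul]; group
      _ = b := by rw [e]; group
  have hz : (m : GL D.Idx F) * (y * u⁻¹) * (m : GL D.Idx F)⁻¹ ∈ D.posUnipotent F := by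
    have := mul_mem hmy (inv_mem hUconj)
    simpa [mul_assoc] using this
  have hV : (n0 : GL D.Idx F) * ((m : GL D.Idx F) * (y * u⁻¹) * (m : GL D.Idx F)⁻¹) * (n0 : GL D.Idx F)⁻¹ ∈
      D.negUnipotent F := by
    refine Sys.conj_closure_le (T := {g : GL D.Idx F | ∃ (r : ℕ) (t : F), D.IsPosRoot r ∧
      (g : Matrix D.Idx D.Idx F) = D.x F r t}) _ ?_ hz
    rintro x ⟨r, t, hr, hx⟩
    obtain ⟨c, -, h1, -⟩ := S.acts_toW n0 r hr.1
    rw [S.eq_xg.mp hx, h1, hn0]
    exact S.xg_mem_V (hw0 r hr) _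
  have hb1 : b = 1 := by
    have h := Subgroup.mem_inf.mpr ⟨hb, key ▸ hV⟩
    rwa [S.B_inf_V, Subgroup.mem_bot] at h
  rw [hb1, one_mul] at e
  rwa [mul_left_cancel e]

include S in
/-- `g ∈ B` as soon as it conjugates every fundamental unit root element into `U` -/
theorem mem_B_of_simple {g : GL D.Idx F} (hg : g ∈ D.group F)
    (h : ∀ i, i < D.rank → ∃ t : F, t ≠ 0 ∧ g * xg C (D.simple i) t * g⁻¹ ∈ D.posUnipotent F) :
    g ∈ D.borelSubgroup F := by
  obtain ⟨u, hu, m, u', hu', rfl⟩ := decomp C S hg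
  obtain ⟨w0, hw0⟩ := S.exists_w0
  have hpos : ∀ i : Fin D.rank, D.IsPosRoot (S.X.img (S.toW m) (D.simple i)) := by
    intro i
    refine (S.X.pos_or_neg (S.X.img_lt _ (S.X.simple_lt i.isLt))).resolve_right fun hneg => ?_
    obtain ⟨t, ht, hgt⟩ := h i i.isLt
    set y := u' * xg C (D.simple i) t * u'⁻¹ with hy
    have hyU : y ∈ D.posUnipotent F :=
      mul_mem (mul_mem hu' (ChevalleyUnipotent.xg_mem_U C (C.simple_mem i i.isLt).1
        (C.simple_mem i i.isLt).2 t)) (inv_mem hu')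
    have hmy : (m : GL D.Idx F) * y * (m : GL D.Idx F)⁻¹ ∈ D.posUnipotent F := by
      have := mul_mem (mul_mem (inv_mem hu) hgt) hu
      simpa [hy, mul_assoc] using this
    have hup : y ∈ upSub D F i := by
      refine (Subgroup.closure_le _).2 ?_ (mem_kept C S hw0 m hyU hmy)
      rintro x ⟨r, c, hr, rfl⟩
      rw [S.X.mem_invSet, S.X.img_mul] at hr
      refine S.xg_mem_upSub hr.1 (fun he => ?_) c
      rw [he] at hr
      have h2 := hw0 _ ((S.X.pos_neg_iff hneg.1).mpr hneg)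
      rw [S.X.img_neg w0 hneg.1] at h2
      have h3 := (S.X.pos_neg_iff (S.X.root_facts (S.X.img_lt w0 hneg.1)).1).mpr h2
      rw [(S.X.root_facts (S.X.img_lt w0 hneg.1)).2.1] at h3
      exact S.X.not_pos_and_neg h3 hr.2
    obtain ⟨v, hv, a, e⟩ := S.U_decomp i.isLt hu'
    have h4 : S.xg (D.simple i) t ∈ upSub D F i := by
      have h6 : v⁻¹ * y * v = S.xg (D.simple i) t := by
        rw [hy, e, ← sysXg C S]
        have : S.xg (D.simple i) a * S.xg (D.simple i) t * (S.xg (D.simple i) a)⁻¹ = S.xg (D.simple i) t := by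
          rw [← S.xg_add, S.xg_inv, ← S.xg_add, add_neg_cancel_comm]
        conv_rhs => rw [← this]
        group
      rw [← h6]
      exact mul_mem (mul_mem (inv_mem hv) hup) hv
    exact ht (simple_notMem_upSub C S i (by rwa [sysXg C S] at h4))
  have hw : S.toW m = 1 := by
    rw [← S.X.inv_eq_zero_iff, Weyl.inv, Finset.card_eq_zero, Finset.eq_empty_iff_forall_notMem]
    intro r hr
    rw [S.X.mem_invSet] at hr
    exact S.X.not_pos_and_neg (S.X.pos_img_of_simples _ hr.1 fun k hk _ => hpos ⟨k, hk⟩) hr.2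
  have hH : (m : GL D.Idx F) ∈ D.diagonalSubgroup F := S.toW_ker.le hw
  exact mul_mem (mul_mem (Sys.U_le_B hu) (Sys.H_le_B hH)) (Sys.U_le_B hu')

/-- the torus character is multiplicative along reflections -/
theorem tchar_eq_one {c : Fin D.rank → Fˣ} (h : ∀ i : Fin D.rank, tchar D c (D.simple i) = 1) :
    ∀ r, r < D.nroots → tchar D c r = 1 := by
  refine root_induction C (P := fun r => tchar D c r = 1) (fun i hi => h ⟨i, hi⟩) ?_
  intro i r hi hr ih
  have e : tchar D c (wr D i r) = tchar D c r * (tchar D c (D.simple i)) ^ (-D.cartan i r) := by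
    simp only [tchar]
    rw [← Finset.prod_zpow, ← Finset.prod_mul_distrib]
    refine Finset.prod_congr rfl fun j _ => ?_
    rw [cartan_w C hi j.isLt hr, ← zpow_mul, ← zpow_add]
    congr 1
    ring
  rw [e, ih, h ⟨i, hi⟩, one_zpow, mul_one]

include S in
/-- only the identity commutes with all the unit root elements of `±` fundamental roots -/
theorem eq_one_of_commute {g : GL D.Idx F} (hg : g ∈ D.group F)
    (h : ∀ i, i < D.rank → Commute g (xg C (D.simple i) 1) ∧ Commute g (xg C (D.neg (D.simple i)) 1))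
    (hneg : ∀ i, i < D.rank → Commute g (xg C (D.neg (D.simple i)) (-1))) :
    g = 1 := by
  have hB : g ∈ D.borelSubgroup F := mem_B_of_simple C S hg fun i hi => ⟨1, one_ne_zero, by
    rw [(h i hi).1.eq, mul_inv_cancel_right]
    exact ChevalleyUnipotent.xg_mem_U C (C.simple_mem i hi).1 (C.simple_mem i hi).2 1⟩
  obtain ⟨w0, hw0⟩ := S.exists_w0
  obtain ⟨m, hm, hmw⟩ := stab_lift C S [] (by simp) (Subgroup.centralizer {g}) (fun i _ => by
    refine Subgroup.mem_centralizer_singleton_iff.2 (Commute.eq ?_).symm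
    have h1 := (h i i.isLt).1
    have h2 : Commute g (xg C (D.neg (D.simple i)) (-(1 : F)⁻¹)) := by simpa using hneg i i.isLt
    exact (h1.mul_right h2).mul_right h1) w0 (by simp)
  have hmg : Commute g (m : GL D.Idx F) := (Subgroup.mem_centralizer_singleton_iff.1 hm).symm
  obtain ⟨hh, hhH, u, hu, rfl⟩ := S.mem_B_iff.mp hB
  have hh' : (m : GL D.Idx F) * hh * (m : GL D.Idx F)⁻¹ ∈ D.diagonalSubgroup F :=
    S.conj_H (S.acts_toW m) hhH
  have hV : (m : GL D.Idx F) * u * (m : GL D.Idx F)⁻¹ ∈ D.negUnipotent F := by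
    refine Sys.conj_closure_le (T := {g : GL D.Idx F | ∃ (r : ℕ) (t : F), D.IsPosRoot r ∧
      (g : Matrix D.Idx D.Idx F) = D.x F r t}) _ ?_ hu
    rintro x ⟨r, t, hr, hx⟩
    obtain ⟨c, -, h1, -⟩ := S.acts_toW m r hr.1
    rw [S.eq_xg.mp hx, h1, hmw]
    exact S.xg_mem_V (hw0 r hr) _
  have e : (m : GL D.Idx F) * u * (m : GL D.Idx F)⁻¹ =
      ((m : GL D.Idx F) * hh * (m : GL D.Idx F)⁻¹)⁻¹ * (hh * u) := by
    rw [← mul_right_inj ((m : GL D.Idx F) * hh * (m : GL D.Idx F)⁻¹), mul_inv_cancel_left]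
    calc (m : GL D.Idx F) * hh * (m : GL D.Idx F)⁻¹ * ((m : GL D.Idx F) * u * (m : GL D.Idx F)⁻¹)
        = (m : GL D.Idx F) * (hh * u) * (m : GL D.Idx F)⁻¹ := by group
      _ = hh * u := by rw [← hmg.eq, mul_inv_cancel_right]
  have h1 : (m : GL D.Idx F) * u * (m : GL D.Idx F)⁻¹ = 1 := by
    have hb : (m : GL D.Idx F) * u * (m : GL D.Idx F)⁻¹ ∈ D.borelSubgroup F := by
      rw [e]
      exact mul_mem (inv_mem (Sys.H_le_B hh')) hB
    have := Subgroup.mem_inf.mpr ⟨hb, hV⟩
    rwa [S.B_inf_V, Subgroup.mem_bot] at this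
  have hu1 : u = 1 := by
    have := congrArg (fun z => (m : GL D.Idx F)⁻¹ * z * (m : GL D.Idx F)) h1
    simpa [mul_assoc] using this
  subst hu1
  obtain ⟨c, rfl⟩ := (ChevalleyTorus.mem_H_iff C).1 hhH
  rw [mul_one] at *
  have hc : ∀ i : Fin D.rank, tchar D c (D.simple i) = 1 := by
    intro i
    have h2 := (h i i.isLt).1
    have h3 := torus_conj_xg C (simple_lt C i.isLt) c 1
    rw [h2.eq, mul_inv_cancel_right, mul_one] at h3
    exact Units.ext (ChevBruhatInstance.xg_injective C (simple_lt C i.isLt) (simple_lt C i.isLt)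
      one_ne_zero h3).2.symm
  apply Units.ext
  rw [coe_torus, tmat, Units.val_one, ← Matrix.diagonal_one]
  congr 1
  funext q
  rcases q with a | s
  · rfl
  · simp [tchar_eq_one C hc s.val s.isLt]

include S in
/-- a diagonal element of the group normalising the positive root subgroups lies in `H` -/
theorem mem_H_of_diag {g : GL D.Idx F} (hg : g ∈ D.group F)
    (hd : ∀ i j, i ≠ j → (g : Matrix D.Idx D.Idx F) i j = 0)
    (h : ∀ i, i < D.rank → ∃ t : F, g * xg C (D.simple i) 1 * g⁻¹ = xg C (D.simple i) t) :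
    g ∈ D.diagonalSubgroup F := by
  have hB : g ∈ D.borelSubgroup F := mem_B_of_simple C S hg fun i hi => by
    obtain ⟨t, ht⟩ := h i hi
    exact ⟨1, one_ne_zero, ht ▸ ChevalleyUnipotent.xg_mem_U C (C.simple_mem i hi).1 (C.simple_mem i hi).2 t⟩
  obtain ⟨v, hv, hh, hhH, rfl⟩ := (ChevalleyTorus.mem_B_iff C).1 hB
  have : v = 1 := by
    refine ChevalleyUnipotent.eq_one_of_diag _ le_rfl (ChevalleyUnipotent.U_le_upper C hv) fun i j hij => ?_
    obtain ⟨c, rfl⟩ := (ChevalleyTorus.mem_H_iff C).1 hhH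
    have h1 := hd i j hij
    rw [mul_H_entry C hhH] at h1
    refine (mul_eq_zero.mp h1).resolve_right ?_
    rw [coe_torus, tmat, Matrix.diagonal_apply_eq]
    rcases j with a | s
    · exact one_ne_zero
    · exact Units.ne_zero _
  subst this
  rw [one_mul]
  exact hhH

end Cfsg.Agent.ChevBorelCriterion
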