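import Mathlib

/-!
The automorphism group of a finite field as a group of ring automorphisms.
-/

set_option autoImplicit false

namespace Cfsg.Agent.ChevAutGalois

variable {F : Type*} [Field F]

/-- ring automorphisms are automorphisms over the prime field -/
def toGal (p : ℕ) [Algebra (ZMod p) F] : (F ≃+* F) ≃* (F ≃ₐ[ZMod p] F) where
  toFun σ := AlgEquiv.ofRingEquiv (f := σ) fun x =>
    RingHom.congr_fun (RingHom.ext_zmod (σ.toRingHom.comp (algebraMap (ZMod p) F)) (algebraMap (ZMod p) F)) x
  invFun σ := σ.toRingEquiv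
  left_inv _ := RingEquiv.ext fun _ => rfl
  right_inv _ := AlgEquiv.ext fun _ => rfl
  map_mul' _ _ := AlgEquiv.ext fun _ => rfl

theorem isCyclic_ringAut [Finite F] : IsCyclic (F ≃+* F) := by
  obtain ⟨p, hp⟩ := CharP.exists F
  haveI := hp
  haveI : Fact p.Prime := ⟨CharP.char_is_prime F p⟩
  letI : Algebra (ZMod p) F := ZMod.algebra F p
  exact isCyclic_of_surjective (toGal (F := F) p).symm (MulEquiv.surjective _)

theorem card_ringAut [Fintype F] (p f : ℕ) [Fact p.Prime] [CharP F p]
    (hF : Fintype.card F = p ^ f) : Nat.card (F ≃+* F) = f := by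
  letI : Algebra (ZMod p) F := ZMod.algebra F p
  rw [Nat.card_congr (toGal (F := F) p).toEquiv, IsGalois.card_aut_eq_finrank]
  have h := Module.card_eq_pow_finrank (K := ZMod p) (V := F)
  rw [ZMod.card, hF] at h
  exact (Nat.pow_right_injective (Fact.out : p.Prime).two_le h).symm

end Cfsg.Agent.ChevAutGalois
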