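import Mathlib

/-!
A homomorphism out of `SL₂(F)` from the rank-one relations: `x` additive, `n(t) = x(t) y(-t⁻¹) x(t)`,
`h(t) = n(t) n(-1)` multiplicative, `h` normalising `x` with weight 2, and `n(1)` exchanging `x` and `y`.
-/

set_option autoImplicit false

namespace Cfsg.Agent.ChevalleySL2

open Matrix
open scoped MatrixGroups

variable {F : Type*} [Field F] {G : Type*} [Group G] (x y : F → G)

/-- `n(t)` -/
def nn (t : F) : G := x t * y (-t⁻¹) * x t

/-- `h(t)` -/
def hh (t : F) : G := nn x y t * nn x y (-1)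

/-- the rank-one relations -/
structure Rels : Prop where
  xadd : ∀ a b, x a * x b = x (a + b)
  yadd : ∀ a b, y a * y b = y (a + b)
  hmul : ∀ a b : F, a ≠ 0 → b ≠ 0 → hh x y a * hh x y b = hh x y (a * b)
  hx : ∀ a : F, a ≠ 0 → ∀ t, hh x y a * x t = x (a ^ 2 * t) * hh x y a
  swap : ∀ t, nn x y 1 * x t * (nn x y 1)⁻¹ = y (-t)

variable {x y} (R : Rels x y)
include R

theorem x_zero : x 0 = 1 := by simpa using R.xadd 0 0

theorem y_zero : y 0 = 1 := by simpa using R.yadd 0 0

theorem x_inv (t : F) : (x t)⁻¹ = x (-t) :=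
  inv_eq_of_mul_eq_one_right (by rw [R.xadd, add_neg_cancel, x_zero R])

theorem y_inv (t : F) : (y t)⁻¹ = y (-t) :=
  inv_eq_of_mul_eq_one_right (by rw [R.yadd, add_neg_cancel, y_zero R])

theorem nn_inv (t : F) : (nn x y t)⁻¹ = nn x y (-t) := by
  simp only [nn, _root_.mul_inv_rev, x_inv R, y_inv R, inv_neg, neg_neg, mul_assoc]

theorem nn_eq (t : F) : nn x y t = hh x y t * nn x y 1 := by
  rw [hh, mul_assoc, ← nn_inv R 1, inv_mul_cancel, mul_one]

theorem hh_one : hh x y 1 = 1 := by rw [hh, ← nn_inv R 1, mul_inv_cancel]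

theorem nn_sq : nn x y 1 * nn x y 1 = hh x y (-1) := by
  have hm := R.hmul (-1) (-1) (neg_ne_zero.2 one_ne_zero) (neg_ne_zero.2 one_ne_zero)
  rw [neg_mul_neg, one_mul, hh_one R] at hm
  have h1 : hh x y (-1) = (nn x y 1 * nn x y 1)⁻¹ := by rw [hh, _root_.mul_inv_rev, nn_inv R 1]
  have h2 : hh x y (-1) = (hh x y (-1))⁻¹ := eq_inv_of_mul_eq_one_right hm
  rw [h2, h1, inv_inv]

theorem nn_mul (t : F) (ht : t ≠ 0) : nn x y t * nn x y 1 = hh x y (-t) := by
  rw [nn_eq R t, mul_assoc, nn_sq R, R.hmul _ _ ht (neg_ne_zero.2 one_ne_zero), mul_neg_one]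

theorem swap' (t : F) : (nn x y 1)⁻¹ * x t * nn x y 1 = y (-t) := by
  have h := R.swap t
  have h2 : nn x y 1 * nn x y 1 * x t = x t * (nn x y 1 * nn x y 1) := by
    rw [nn_sq R, R.hx _ (neg_ne_zero.2 one_ne_zero)]; simp
  rw [← h]
  calc (nn x y 1)⁻¹ * x t * nn x y 1
      = (nn x y 1)⁻¹ * (x t * (nn x y 1 * nn x y 1)) * (nn x y 1)⁻¹ := by simp [mul_assoc]
    _ = (nn x y 1)⁻¹ * (nn x y 1 * nn x y 1 * x t) * (nn x y 1)⁻¹ := by rw [h2]
    _ = _ := by simp [mul_assoc]

theorem y_expand {b : F} (hb : b ≠ 0) : y (-b) = x (-b⁻¹) * nn x y b⁻¹ * x (-b⁻¹) := by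
  rw [← x_inv R, nn, inv_inv]; group

omit R
/-- the map on the entries -/
noncomputable def phiE (x y : F → G) (a b c d : F) : G :=
  open Classical in
  if c = 0 then x (b * a) * hh x y a
  else x (a / c) * nn x y (-c⁻¹) * x (d / c)

/-- the map -/
noncomputable def phiFun (x y : F → G) (g : SL(2, F)) : G :=
  phiE x y ((g : Matrix (Fin 2) (Fin 2) F) 0 0) ((g : Matrix (Fin 2) (Fin 2) F) 0 1)
    ((g : Matrix (Fin 2) (Fin 2) F) 1 0) ((g : Matrix (Fin 2) (Fin 2) F) 1 1)

/-- upper unitriangular -/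
def upper (t : F) : SL(2, F) := ⟨!![1, t; 0, 1], by simp [det_fin_two_of]⟩

/-- lower unitriangular -/
def lower (t : F) : SL(2, F) := ⟨!![1, 0; t, 1], by simp [det_fin_two_of]⟩

/-- the element `!![0, 1; -1, 0]` -/
def wel : SL(2, F) := ⟨!![0, 1; -1, 0], by simp [det_fin_two_of]⟩

theorem det_eq (g : SL(2, F)) : (g : Matrix (Fin 2) (Fin 2) F) 0 0 * (g : Matrix (Fin 2) (Fin 2) F) 1 1 - (g : Matrix (Fin 2) (Fin 2) F) 0 1 * (g : Matrix (Fin 2) (Fin 2) F) 1 0 = 1 := by
  rw [← det_fin_two (g : Matrix (Fin 2) (Fin 2) F)]; exact g.2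

theorem mul_upper (g : SL(2, F)) (t : F) :
    ((g * upper t : SL(2, F)) : Matrix (Fin 2) (Fin 2) F) = !![(g : Matrix (Fin 2) (Fin 2) F) 0 0, (g : Matrix (Fin 2) (Fin 2) F) 0 0 * t + (g : Matrix (Fin 2) (Fin 2) F) 0 1; (g : Matrix (Fin 2) (Fin 2) F) 1 0, (g : Matrix (Fin 2) (Fin 2) F) 1 0 * t + (g : Matrix (Fin 2) (Fin 2) F) 1 1] := by
  change (g : Matrix (Fin 2) (Fin 2) F) * !![1, t; 0, 1] = _
  ext i j
  fin_cases i <;> fin_cases j <;> simp [upper, Matrix.mul_apply, Fin.sum_univ_two]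

theorem mul_wel (g : SL(2, F)) :
    ((g * wel : SL(2, F)) : Matrix (Fin 2) (Fin 2) F) = !![-(g : Matrix (Fin 2) (Fin 2) F) 0 1, (g : Matrix (Fin 2) (Fin 2) F) 0 0; -(g : Matrix (Fin 2) (Fin 2) F) 1 1, (g : Matrix (Fin 2) (Fin 2) F) 1 0] := by
  change (g : Matrix (Fin 2) (Fin 2) F) * !![0, 1; -1, 0] = _
  ext i j
  fin_cases i <;> fin_cases j <;> simp [wel, Matrix.mul_apply, Fin.sum_univ_two]

include R

theorem phiE_upper {a b c d : F} (hdet : a * d - b * c = 1) (t : F) :
    phiE x y a (a * t + b) c (c * t + d) = phiE x y a b c d * x t := by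
  unfold phiE
  by_cases hc : c = 0
  · have ha : a ≠ 0 := by intro h; rw [h, hc] at hdet; simp at hdet
    rw [if_pos hc, if_pos hc, mul_assoc, R.hx _ ha, ← mul_assoc, R.xadd]
    congr 2; ring
  · rw [if_neg hc, if_neg hc, mul_assoc _ (x (d / c)) (x t), R.xadd]
    congr 2; field_simp; ring

theorem phiE_wel {a b c d : F} (hdet : a * d - b * c = 1) :
    phiE x y (-b) a (-d) c = phiE x y a b c d * nn x y 1 := by
  unfold phiE
  by_cases hc : c = 0
  · have ha : a ≠ 0 := by intro h; rw [h, hc] at hdet; simp at hdet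
    have hd : d = a⁻¹ := eq_inv_of_mul_eq_one_right (by linear_combination hdet + b * hc)
    rw [if_pos hc, if_neg (by rw [hd]; simpa using inv_ne_zero ha), mul_assoc (x _) (hh x y _), ← nn_eq R, hc, hd]
    simp only [zero_div, x_zero R, mul_one, inv_neg, inv_inv, neg_neg]
    congr 2; field_simp
  · by_cases hd : d = 0
    · have hb : b = -c⁻¹ := by
        rw [hd] at hdet; field_simp; linear_combination -hdet
      rw [if_pos (by rw [hd, neg_zero]), if_neg hc, hd, zero_div, x_zero R, mul_one, mul_assoc,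
        nn_mul R _ (neg_ne_zero.2 (inv_ne_zero hc)), hb]
      congr 2; field_simp
    · rw [if_neg (neg_ne_zero.2 hd), if_neg hc]
      have ht : -c⁻¹ ≠ 0 := neg_ne_zero.2 (inv_ne_zero hc)
      have hg : c / d ≠ 0 := div_ne_zero hc hd
      have e1 : x (d / c) * nn x y 1 = nn x y 1 * y (-(d / c)) := by
        rw [← swap' R]; group
      have e2 : y (-(d / c)) = x (-(c / d)) * nn x y (c / d) * x (-(c / d)) := by
        have := y_expand R (div_ne_zero hd hc)
        rwa [inv_div] at this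
      rw [show x (a / c) * nn x y (-c⁻¹) * x (d / c) * nn x y 1 =
          x (a / c) * nn x y (-c⁻¹) * (x (d / c) * nn x y 1) by group, e1, e2,
        show x (a / c) * nn x y (-c⁻¹) * (nn x y 1 * (x (-(c / d)) * nn x y (c / d) * x (-(c / d)))) =
          x (a / c) * (nn x y (-c⁻¹) * nn x y 1 * x (-(c / d))) * nn x y (c / d) * x (-(c / d)) by group,
        nn_mul R _ ht, R.hx _ (neg_ne_zero.2 ht), nn_eq R (c / d), ← mul_assoc (x (a / c)), R.xadd,
        show ∀ u v w z k : G, u * v * (w * z) * k = u * ((v * w) * z) * k from fun u v w z k => by group,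
        R.hmul _ _ (neg_ne_zero.2 ht) hg, ← nn_eq R]
      congr 1
      · congr 1
        · congr 1; field_simp; linear_combination -hdet
        · congr 1; field_simp
      · congr 1; field_simp

theorem phi_mul_upper (g : SL(2, F)) (t : F) : phiFun x y (g * upper t) = phiFun x y g * x t := by
  unfold phiFun
  rw [mul_upper g t]
  exact phiE_upper R (det_eq g) t

theorem phi_mul_wel (g : SL(2, F)) : phiFun x y (g * wel) = phiFun x y g * nn x y 1 := by
  unfold phiFun
  rw [mul_wel g]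
  exact phiE_wel R (det_eq g)

theorem phi_one : phiFun x y (1 : SL(2, F)) = 1 := by simp [phiFun, phiE, x_zero R, hh_one R]

theorem phi_upper (t : F) : phiFun x y (upper t) = x t := by simp [phiFun, phiE, upper, hh_one R]

theorem phi_wel : phiFun x y (wel : SL(2, F)) = nn x y 1 := by simp [phiFun, phiE, wel, x_zero R]

omit R
theorem lower_eq (u : F) : lower u = wel * upper (-u) * (wel * wel * wel) := by
  apply Subtype.ext
  change (!![1, 0; u, 1] : Matrix (Fin 2) (Fin 2) F) =
    !![0, 1; -1, 0] * !![1, -u; 0, 1] * (!![0, 1; -1, 0] * !![0, 1; -1, 0] * !![0, 1; -1, 0])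
  ext i j
  fin_cases i <;> fin_cases j <;> simp [lower, wel, upper, Matrix.mul_apply, Fin.sum_univ_two]

theorem wel_pow_four : (wel : SL(2, F)) * (wel * wel * wel) = 1 := by
  apply Subtype.ext
  change (!![0, 1; -1, 0] : Matrix (Fin 2) (Fin 2) F) * (!![0, 1; -1, 0] * !![0, 1; -1, 0] * !![0, 1; -1, 0]) = 1
  ext i j
  fin_cases i <;> fin_cases j <;> simp [wel, Matrix.mul_apply, Fin.sum_univ_two]

/-- the elements `x(t)` and `w` generate, already as a monoid -/
theorem gen_top : Submonoid.closure (Set.range (upper : F → SL(2, F)) ∪ {wel}) = ⊤ := by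
  rw [eq_top_iff]
  rintro g -
  set M := Submonoid.closure (Set.range (upper : F → SL(2, F)) ∪ {wel})
  have hu : ∀ t, upper t ∈ M := fun t => Submonoid.subset_closure (Or.inl ⟨t, rfl⟩)
  have hw : (wel : SL(2, F)) ∈ M := Submonoid.subset_closure (Or.inr rfl)
  have hl : ∀ t, lower t ∈ M := fun t => by rw [lower_eq]; exact mul_mem (mul_mem hw (hu _)) (mul_mem (mul_mem hw hw) hw)
  have hmain : ∀ g : SL(2, F), (g : Matrix (Fin 2) (Fin 2) F) 1 0 ≠ 0 → g ∈ M := by
    intro g hc
    have hdet := det_eq g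
    have : g = upper (((g : Matrix (Fin 2) (Fin 2) F) 0 0 - 1) / (g : Matrix (Fin 2) (Fin 2) F) 1 0) * lower ((g : Matrix (Fin 2) (Fin 2) F) 1 0) * upper (((g : Matrix (Fin 2) (Fin 2) F) 1 1 - 1) / (g : Matrix (Fin 2) (Fin 2) F) 1 0) := by
      apply Subtype.ext
      change (g : Matrix (Fin 2) (Fin 2) F) = !![1, _; 0, 1] * !![1, 0; _, 1] * !![1, _; 0, 1]
      ext i j
      fin_cases i <;> fin_cases j <;> simp [upper, lower, Matrix.mul_apply, Fin.sum_univ_two] <;> field_simp
      all_goals (first | ring1 | linear_combination -hdet | linear_combination hdet)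
    rw [this]
    exact mul_mem (mul_mem (hu _) (hl _)) (hu _)
  by_cases hc : (g : Matrix (Fin 2) (Fin 2) F) 1 0 = 0
  · have h1 : g * wel ∈ M := by
      refine hmain _ ?_
      rw [mul_wel]
      simp only [Matrix.of_apply, cons_val', cons_val_zero, cons_val_one, cons_val_fin_one]
      intro h
      have hdet := det_eq g
      rw [hc, neg_eq_zero.1 h] at hdet
      simp at hdet
    have := mul_mem h1 (mul_mem (mul_mem hw hw) hw)
    rwa [mul_assoc g, wel_pow_four, mul_one] at this
  · exact hmain g hc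

include R

theorem phi_mul (g g' : SL(2, F)) : phiFun x y (g * g') = phiFun x y g * phiFun x y g' := by
  have hg : g' ∈ Submonoid.closure (Set.range (upper : F → SL(2, F)) ∪ {wel}) := by
    rw [gen_top]; exact Submonoid.mem_top _
  induction hg using Submonoid.closure_induction generalizing g with
  | mem a ha =>
    rcases ha with ⟨t, rfl⟩ | rfl
    · rw [phi_mul_upper R, phi_upper R]
    · rw [phi_mul_wel R, phi_wel R]
  | one => rw [mul_one, phi_one R, mul_one]
  | mul a b _ _ ha hb => rw [← mul_assoc, hb, ha, hb a, mul_assoc]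

/-- the homomorphism out of `SL₂(F)` -/
noncomputable def phi : SL(2, F) →* G where
  toFun := phiFun x y
  map_one' := phi_one R
  map_mul' := phi_mul R

theorem phi_lower (t : F) : phi R (lower t) = y t := by
  have h4 : phi R (wel * wel * wel) = (nn x y 1)⁻¹ := by
    refine eq_inv_of_mul_eq_one_right ?_
    rw [show nn x y 1 = phi R wel from (phi_wel R).symm, ← map_mul, wel_pow_four, map_one]
  rw [lower_eq, map_mul, map_mul, h4, show phi R wel = nn x y 1 from phi_wel R,
    show phi R (upper (-t)) = x (-t) from phi_upper R (-t), R.swap, neg_neg]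

theorem range_phi : (phi R).range = Subgroup.closure (Set.range x ∪ Set.range y) := by
  apply le_antisymm
  · rintro _ ⟨g, rfl⟩
    have hn : nn x y 1 ∈ Subgroup.closure (Set.range x ∪ Set.range y) :=
      mul_mem (mul_mem (Subgroup.subset_closure (Or.inl ⟨1, rfl⟩)) (Subgroup.subset_closure (Or.inr ⟨_, rfl⟩)))
        (Subgroup.subset_closure (Or.inl ⟨1, rfl⟩))
    have hg : g ∈ Submonoid.closure (Set.range (upper : F → SL(2, F)) ∪ {wel}) := by
      rw [gen_top]; exact Submonoid.mem_top _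
    induction hg using Submonoid.closure_induction with
    | mem a ha =>
      rcases ha with ⟨t, rfl⟩ | rfl
      · exact Subgroup.subset_closure (Or.inl ⟨t, (phi_upper R t).symm⟩)
      · rw [show phi R wel = nn x y 1 from phi_wel R]; exact hn
    | one => rw [map_one]; exact one_mem _
    | mul a b _ _ ha hb => rw [map_mul]; exact mul_mem ha hb
  · rw [Subgroup.closure_le]
    rintro _ (⟨t, rfl⟩ | ⟨t, rfl⟩)
    · exact ⟨upper t, phi_upper R t⟩
    · exact ⟨lower t, phi_lower R t⟩

end Cfsg.Agent.ChevalleySL2
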