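import Cfsg.Agent.Lib.ChevalleyTorus
import Cfsg.Agent.Lib.ChevalleySL2

/-!
The rank-one subgroups `⟨X_r, X_{-r}⟩`, the groups `U_p`, solubility of `B`.
-/

set_option autoImplicit false
set_option linter.unusedSimpArgs false
set_option linter.unusedSectionVars false

namespace Cfsg.Agent.ChevalleyRankOne

open Cfsg.Lie Cfsg.Agent.ChevalleyEngine Cfsg.Agent.ChevalleyCert Cfsg.Agent.ChevalleyRoots
open Cfsg.Agent.ChevalleyCore Cfsg.Agent.ChevalleyUnipotent Cfsg.Agent.ChevalleyTorus
open scoped Matrix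

variable {D : ChevalleyDatum} (C : Cert D) {F : Type*} [Field F]
include C

/-- `n_r(1) x_r(t) n_r(1)⁻¹ = x_{-r}(-t)` -/
theorem ng_conj_self {r : ℕ} (hr : r < D.nroots) :
    ∀ t : F, ng C r 1 * xg C r t * (ng C r 1)⁻¹ = xg C (D.neg r) (-t) := by
  refine root_induction C (P := fun r => ∀ t : F, ng C r 1 * xg C r t * (ng C r 1)⁻¹ = xg C (D.neg r) (-t))
    ?_ ?_ r hr
  · intro i hi t
    rw [ng_simple_conj C hi (simple_lt C hi), C.eta_simple i hi,
      show D.reflectRoot i (D.simple i) = D.neg (D.simple i) from w_simple C hi]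
    simp
  · intro i r hi hr ih t
    have hwr := C.w_lt i r hi hr
    obtain ⟨e, he⟩ : ∃ e, e = (C.eta i r : F) := ⟨_, rfl⟩
    have he1 : e = 1 ∨ e = -1 := by
      rcases C.eta_sq i r with h | h <;> rw [he, h] <;> simp
    have key : ng C (wr D i r) e * xg C (wr D i r) t * (ng C (wr D i r) e)⁻¹ = xg C (D.neg (wr D i r)) (-t) := by
      have h := congrArg (MulAut.conj (ng C (D.simple i) (1 : F))) (ih (e * t))
      simp only [map_mul, map_inv, MulAut.conj_apply] at h
      rw [ng_simple_conj_ng C hi hr, ng_simple_conj C hi hr, ng_simple_conj C hi (C.neg_lt r),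
        eta_neg_eq C hi hr, show D.reflectRoot i (D.neg r) = D.neg (wr D i r) from w_neg C hi hr, ← he, mul_one,
        ← mul_assoc, mul_neg, ← mul_assoc, show e * e = 1 by rw [he, eta_cast_sq C], one_mul] at h
      exact h
    rcases he1 with h1 | h1
    · rwa [h1] at key
    · rw [h1, ← ng_inv C, inv_inv] at key
      have hsq : ng C (wr D i r) (1 : F) * ng C (wr D i r) 1 = hg C (wr D i r) (-1) := by
        apply Units.ext
        rw [ng_pair C hwr 1 1 one_ne_zero one_ne_zero, coe_hg_eq C hwr (neg_ne_zero.2 one_ne_zero), div_one]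
      have h2 := hg_conj_xg C hwr hwr (neg_ne_zero.2 (one_ne_zero (α := F))) t
      rw [C.pair_self _ hwr, ← hsq, zpow_two, neg_mul_neg, one_mul, one_mul] at h2
      rw [← key]
      calc ng C (wr D i r) 1 * xg C (wr D i r) t * (ng C (wr D i r) 1)⁻¹
          = (ng C (wr D i r) 1)⁻¹ * (ng C (wr D i r) 1 * ng C (wr D i r) 1 * xg C (wr D i r) t) *
              (ng C (wr D i r) 1)⁻¹ := by group
        _ = (ng C (wr D i r) 1)⁻¹ * (xg C (wr D i r) t * (ng C (wr D i r) 1 * ng C (wr D i r) 1)) *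
              (ng C (wr D i r) 1)⁻¹ := by rw [h2]
        _ = _ := by group

theorem rels {r : ℕ} (hr : r < D.nroots) :
    ChevalleySL2.Rels (fun t : F => xg C r t) (fun t : F => xg C (D.neg r) t) where
  xadd a b := xg_mul C r a b
  yadd a b := xg_mul C _ a b
  hmul a b ha hb := hg_mul C hr ha hb
  hx a ha t := by
    have h := hg_conj_xg C hr hr ha t
    rw [C.pair_self r hr, show ((2 : ℤ)) = ((2 : ℕ) : ℤ) from rfl, zpow_natCast] at h
    exact h
  swap t := ng_conj_self C hr t

theorem rootSubgroup_eq (r : ℕ) :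
    D.rootSubgroup F r = Subgroup.closure (Set.range fun t : F => xg C r t) := by
  unfold ChevalleyDatum.rootSubgroup
  congr 1
  ext g
  exact ⟨fun ⟨t, ht⟩ => ⟨t, ((xg_eq_iff C).1 ht).symm⟩, fun ⟨t, ht⟩ => ⟨t, (xg_eq_iff C).2 ht.symm⟩⟩

theorem exists_sl2 {r : ℕ} (hr : r < D.nroots) :
    ∃ φ : Matrix.SpecialLinearGroup (Fin 2) F →* GL D.Idx F,
      φ.range = D.rootSubgroup F r ⊔ D.rootSubgroup F (D.neg r) ∧
      ∀ (g : Matrix.SpecialLinearGroup (Fin 2) F) (t : F),
        ((g : Matrix (Fin 2) (Fin 2) F) = !![1, t; 0, 1] → ((φ g : GL D.Idx F) : Matrix D.Idx D.Idx F) = D.x F r t) ∧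
        ((g : Matrix (Fin 2) (Fin 2) F) = !![1, 0; t, 1] →
          ((φ g : GL D.Idx F) : Matrix D.Idx D.Idx F) = D.x F (D.neg r) t) := by
  refine ⟨ChevalleySL2.phi (rels C hr), ?_, fun g t => ⟨fun hg' => ?_, fun hg' => ?_⟩⟩
  · rw [ChevalleySL2.range_phi, Subgroup.closure_union, rootSubgroup_eq C, rootSubgroup_eq C]
  · have : g = ChevalleySL2.upper t := Subtype.ext hg'
    rw [this]
    exact congrArg Units.val (ChevalleySL2.phi_upper (rels C hr) t)
  · have : g = ChevalleySL2.lower t := Subtype.ext hg'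
    rw [this]
    exact congrArg Units.val (ChevalleySL2.phi_lower (rels C hr) t)

/-- a positive root other than the fundamental root `p` involves another fundamental root -/
theorem exists_other {i s : ℕ} (hi : i < D.rank) (hs : D.nroots / 2 ≤ s) (hs' : s < D.nroots)
    (hne : s ≠ D.simple i) : ∃ j, j < D.rank ∧ j ≠ i ∧ 0 < C.coef s j := by
  by_contra hc
  push Not at hc
  have hw := simple_perm C hi hs hs' hne
  have hwl := C.w_lt i s hi hs'
  have h0 : ∀ j, j < D.rank → j ≠ i → C.coef s j = 0 := fun j hj hji =>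
    le_antisymm (hc j hj hji) (C.coef_pos s j hs hs' hj)
  have hA : D.cartan i s = C.coef s i * 2 := by
    rw [cartan_lin' C hi hs', Finset.sum_eq_single i
      (fun j hj hji => by rw [h0 j (Finset.mem_range.1 hj) hji, zero_mul]) (by simp [hi]), cartan_self C hi]
  have h1 := C.coef_pos _ i hw hwl hi
  have h2 := C.coef_w i s i hi hs' hi
  rw [if_pos rfl, hA] at h2
  have h3 := C.coef_pos s i hs hs' hi
  have h4 : C.coef s i = 0 := by omega
  have h5 : D.cartan i s = 0 := by rw [hA, h4]; ring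
  have : D.neg s = s := coef_inj C (C.neg_lt s) hs' fun j hj => by
    rw [C.coef_neg s j hs' hj]
    by_cases hji : j = i
    · subst hji; rw [h4]; ring
    · rw [h0 j hj hji]; ring
  exact neg_ne C hs' this

/-- the subgroup `U_p` -/
def uP (i : ℕ) : Subgroup (GL D.Idx F) :=
  Subgroup.closure {g : GL D.Idx F | ∃ (s : ℕ) (t : F), D.IsPosRoot s ∧ s ≠ D.simple i ∧
    (g : Matrix D.Idx D.Idx F) = D.x F s t}

omit C in
theorem coef_pos_root (C : Cert D) {k j : ℕ} (hk : k < D.nroots) (hj : j < D.rank) (h : 0 < C.coef k j) :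
    D.nroots / 2 ≤ k := by
  by_contra hc
  have := C.coef_pos (D.neg k) j ((neg_pos C hk).2 (by omega)) (C.neg_lt k) hj
  rw [C.coef_neg k j hk hj] at this
  omega

/-- conjugating a generator of `U_p` by `x_{±p}` stays in `U_p` -/
theorem uP_conj {i r : ℕ} (hi : i < D.rank) (hr : r = D.simple i ∨ r = D.neg (D.simple i)) (t : F)
    {s : ℕ} (hs : D.IsPosRoot s) (hne : s ≠ D.simple i) (u : F) :
    xg C r t * xg C s u * (xg C r t)⁻¹ ∈ uP (D := D) (F := F) i := by
  obtain ⟨hs1, hs2⟩ := (isPos C).1 hs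
  obtain ⟨j, hj, hji, hjs⟩ := exists_other C hi hs1 hs2 hne
  have hpl := simple_lt C hi
  have hrl : r < D.nroots := by rcases hr with rfl | rfl <;> first | exact hpl | exact C.neg_lt _
  have hcr : C.coef r j = 0 := by
    rcases hr with rfl | rfl
    · rw [C.coef_simple i j hi hj, if_neg hji]
    · rw [C.coef_neg _ j hpl hj, C.coef_simple i j hi hj, if_neg hji, neg_zero]
  have h1 : s ≠ r := fun h => by rw [h, hcr] at hjs; omega
  have h2 : s ≠ D.neg r := fun h => by rw [h, C.coef_neg r j hrl hj, hcr] at hjs; omega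
  have h := comm_formula C hrl hs2 h1 h2 (-t) u
  have e : xg C r t * xg C s u * (xg C r t)⁻¹ = xg C s u * wg C (D.commWord F r s (-t) u) := by
    rw [xg_inv, mul_assoc, h, ← mul_assoc, ← mul_assoc, xg_mul, add_neg_cancel, xg_zero, one_mul]
  rw [e]
  refine mul_mem (Subgroup.subset_closure ⟨s, u, hs, hne, rfl⟩) (Subgroup.list_prod_mem _ ?_)
  intro g hg'
  simp only [ChevalleyDatum.commWord, List.map_map, List.mem_map] at hg'
  obtain ⟨c, hc, rfl⟩ := hg'
  obtain ⟨c1, _, c3, c4⟩ := commTerms_mem C hrl hs2 hc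
  have hpos : 0 < C.coef c.1 j := by
    rw [c4 j hj, hcr]
    have : (1 : ℤ) ≤ c.2.2.2 := by exact_mod_cast c3
    nlinarith
  refine Subgroup.subset_closure ⟨c.1, _, (isPos C).2 ⟨coef_pos_root C c1 hj hpos, c1⟩, ?_, rfl⟩
  intro h
  rw [h, C.coef_simple i j hi hj, if_neg hji] at hpos
  omega

theorem root_pair_le_normalizer {i : ℕ} (hi : i < D.rank) :
    D.rootSubgroup F (D.simple i) ⊔ D.rootSubgroup F (D.neg (D.simple i)) ≤
      Subgroup.normalizer (uP (D := D) (F := F) i : Set (GL D.Idx F)) := by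
  refine closure_le_normalizer fun k hk => ?_
  rintro g ⟨s, u, hs, hne, hg'⟩
  obtain rfl := (xg_eq_iff C).1 hg'
  rw [rootSubgroup_eq C, rootSubgroup_eq C, ← Subgroup.closure_union] at hk
  have main : ∀ k ∈ Subgroup.closure (Set.range (fun t : F => xg C (D.simple i) t) ∪
      Set.range (fun t : F => xg C (D.neg (D.simple i)) t)),
      (∀ v ∈ uP (D := D) (F := F) i, k * v * k⁻¹ ∈ uP (D := D) (F := F) i) ∧
        (∀ v ∈ uP (D := D) (F := F) i, k⁻¹ * v * k ∈ uP (D := D) (F := F) i) := by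
    intro k hk
    induction hk using Subgroup.closure_induction with
    | mem x hx =>
      have gen : ∀ r, (r = D.simple i ∨ r = D.neg (D.simple i)) → ∀ t : F, ∀ v ∈ uP (D := D) (F := F) i,
          xg C r t * v * (xg C r t)⁻¹ ∈ uP (D := D) (F := F) i := by
        intro r hr t v hv
        induction hv using Subgroup.closure_induction with
        | mem w hw =>
          obtain ⟨s, u, hs, hne, hw⟩ := hw
          obtain rfl := (xg_eq_iff C).1 hw
          exact uP_conj C hi hr t hs hne u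
        | one => simp
        | mul a b _ _ ha hb => simpa [mul_assoc] using mul_mem ha hb
        | inv a _ ha => simpa [mul_assoc] using inv_mem ha
      rcases hx with ⟨t, rfl⟩ | ⟨t, rfl⟩
      · exact ⟨fun v hv => gen _ (Or.inl rfl) t v hv, fun v hv => by
          have := gen _ (Or.inl rfl) (-t) v hv; rwa [← xg_inv, inv_inv] at this⟩
      · exact ⟨fun v hv => gen _ (Or.inr rfl) t v hv, fun v hv => by
          have := gen _ (Or.inr rfl) (-t) v hv; rwa [← xg_inv, inv_inv] at this⟩
    | one => simp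
    | mul a b _ _ ha hb =>
      exact ⟨fun v hv => by simpa [mul_assoc] using ha.1 _ (hb.1 v hv),
        fun v hv => by simpa [mul_assoc] using hb.2 _ (ha.2 v hv)⟩
    | inv a _ ha => exact ⟨fun v hv => by simpa using ha.2 v hv, fun v hv => by simpa using ha.1 v hv⟩
  exact (main k hk).1 _ (Subgroup.subset_closure ⟨s, u, hs, hne, rfl⟩)

theorem uP_sup {i : ℕ} (hi : i < D.rank) :
    uP (D := D) (F := F) i ⊔ D.rootSubgroup F (D.simple i) = D.posUnipotent F := by
  refine le_antisymm (sup_le ?_ ?_) ?_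
  · rw [uP, Subgroup.closure_le]
    rintro g ⟨s, t, hs, _, hg'⟩
    exact Subgroup.subset_closure ⟨s, t, hs, hg'⟩
  · rw [ChevalleyDatum.rootSubgroup, Subgroup.closure_le]
    rintro g ⟨t, hg'⟩
    exact Subgroup.subset_closure ⟨_, t, (isPos C).2 (C.simple_mem i hi), hg'⟩
  · rw [ChevalleyDatum.posUnipotent, Subgroup.closure_le]
    rintro g ⟨r, t, hr, hg'⟩
    by_cases h : r = D.simple i
    · subst h; exact Subgroup.mem_sup_right (Subgroup.subset_closure ⟨t, hg'⟩)
    · exact Subgroup.mem_sup_left (Subgroup.subset_closure ⟨r, t, hr, h, hg'⟩)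

end Cfsg.Agent.ChevalleyRankOne
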