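import Cfsg.Agent.Lib.ChevalleyParabolic

/-!
Consequences of the Bruhat form for parabolic subgroups and conjugacy in the torus.
-/

set_option autoImplicit false
set_option linter.unusedSectionVars false

namespace Cfsg.Agent.ChevalleyParabolicBN

open Cfsg.Lie Cfsg.Agent.ChevalleyCert Cfsg.Agent.ChevalleyRoots Cfsg.Agent.ChevalleyCore
  Cfsg.Agent.ChevalleyTorus Cfsg.Agent.ChevBruhat Cfsg.Agent.ChevalleyParabolic

variable {D : ChevalleyDatum} {F : Type*} [Field F] (C : Cert D) (S : ChevBruhat.Sys D F)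
include C S

theorem sys_xg (r : ℕ) (t : F) : S.xg r t = xg C r t := Units.ext (by rw [S.coe_xg, coe_xg])

theorem sys_nn (r : ℕ) (t : F) : S.nn r t = ng C r t := Units.ext (by rw [S.coe_nn, coe_ng])

theorem Uw_conj (w : S.X.W) {h u : GL D.Idx F} (hh : h ∈ D.diagonalSubgroup F) (hu : u ∈ S.Uw w) :
    h * u * h⁻¹ ∈ S.Uw w := by
  have e : S.Uw w = Subgroup.closure {g : GL D.Idx F | ∃ (r : ℕ) (t : F), r ∈ S.X.invSet w ∧
      (g : Matrix D.Idx D.Idx F) = D.x F r t} := by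
    unfold ChevBruhat.Sys.Uw
    congr 1
    ext g
    exact ⟨fun ⟨r, t, hr, e⟩ => ⟨r, t, hr, by rw [e, S.coe_xg]⟩,
      fun ⟨r, t, hr, e⟩ => ⟨r, t, hr, Units.ext (e.trans (S.coe_xg r t).symm)⟩⟩
  rw [e] at hu ⊢
  exact (Subgroup.mem_normalizer_iff.1 (H_le_normalizer C _ hh) u).1 hu

theorem conj_in_N {h₁ h₂ g : GL D.Idx F} (h1 : h₁ ∈ D.diagonalSubgroup F) (h2 : h₂ ∈ D.diagonalSubgroup F)
    (hg' : g ∈ D.group F) (hc : g * h₁ * g⁻¹ = h₂) :
    ∃ n ∈ D.monomialSubgroup F, n * h₁ * n⁻¹ = h₂ := by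
  obtain ⟨b, hb, n, u, hu, rfl⟩ := S.exists_cell_form hg'
  obtain ⟨v, hv, k, hk, rfl⟩ := (ChevalleyTorus.mem_B_iff C).1 hb
  have hN : ((n : GL D.Idx F)) ∈ D.monomialSubgroup F := n.2
  have hnh : (n : GL D.Idx F) * h₁ * (n : GL D.Idx F)⁻¹ ∈ D.diagonalSubgroup F :=
    (Subgroup.mem_normalizer_iff.1 (N_le_normalizer_H C hN) h₁).1 h1
  set A := v * (k * ((n : GL D.Idx F) * h₁ * (n : GL D.Idx F)⁻¹)) with hA
  set A' := (h₂ * v * h₂⁻¹) * (h₂ * k) with hA'
  have hu' : h₁⁻¹ * u * h₁ ∈ S.Uw (S.toW n) := by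
    simpa using Uw_conj C S (S.toW n) (inv_mem h1) hu
  have hv' : h₂ * v * h₂⁻¹ ∈ D.posUnipotent F :=
    (Subgroup.mem_normalizer_iff.1 (H_le_normalizer_U C h2) v).1 hv
  have e : A * n * (h₁⁻¹ * u * h₁) = A' * n * u := by
    have e1 : A * n * (h₁⁻¹ * u * h₁) = (v * k * n * u) * h₁ := by rw [hA]; group
    have e2 : A' * n * u = h₂ * (v * k * n * u) := by rw [hA']; group
    rw [e1, e2, ← hc]
    group
  have hAB : A ∈ D.borelSubgroup F := mul_mem (Subgroup.mem_sup_left hv) (Subgroup.mem_sup_right (mul_mem hk hnh))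
  have hA'B : A' ∈ D.borelSubgroup F :=
    mul_mem (Subgroup.mem_sup_left hv') (Subgroup.mem_sup_right (mul_mem h2 hk))
  obtain ⟨hAA, -⟩ := S.form_unique n hAB hA'B hu' hu e
  refine ⟨n, hN, ?_⟩
  have h3 : v⁻¹ * (h₂ * v * h₂⁻¹) = k * ((n : GL D.Idx F) * h₁ * (n : GL D.Idx F)⁻¹) * (h₂ * k)⁻¹ := by
    have h4 := congrArg (fun z => v⁻¹ * z * (h₂ * k)⁻¹) hAA
    simp only [hA, hA'] at h4
    group at h4 ⊢
    exact h4.symm
  have h5 : v⁻¹ * (h₂ * v * h₂⁻¹) ∈ (⊥ : Subgroup (GL D.Idx F)) := by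
    rw [← ChevalleyTorus.U_inf_H C]
    exact Subgroup.mem_inf.2 ⟨Subgroup.mul_mem _ (Subgroup.inv_mem _ hv) hv',
      h3 ▸ Subgroup.mul_mem _ (Subgroup.mul_mem _ hk hnh) (Subgroup.inv_mem _ (Subgroup.mul_mem _ h2 hk))⟩
  rw [Subgroup.mem_bot, h3, mul_inv_eq_one, H_comm C h2 hk] at h5
  exact mul_left_cancel h5

theorem parabolic_le_group (J : Set ℕ) : D.parabolicSubgroup F J ≤ D.group F := by
  refine sup_le S.B_le_group ((Subgroup.closure_le _).2 ?_)
  rintro g ⟨j, _, hj, hg'⟩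
  obtain rfl : g = S.nn (D.simple j) 1 := Units.ext (hg'.trans (S.coe_nn _ _).symm)
  exact S.nn_mem_group (S.X.simple_lt hj) 1

theorem normalizer_eq {J : Set ℕ} (hJ : ∀ j ∈ J, j < D.rank) :
    Subgroup.normalizer (D.unipotentRadical F J : Set (GL D.Idx F)) ⊓ D.group F = D.parabolicSubgroup F J := by
  refine le_antisymm ?_ (le_inf (parabolic_le_normalizer C J) (parabolic_le_group C S J))
  intro g hg'
  set M : Subgroup ↥(D.group F) :=
    (Subgroup.normalizer (D.unipotentRadical F J : Set (GL D.Idx F))).subgroupOf (D.group F) with hM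
  have hBM : S.bnPair.B ≤ M := fun x hx => Subgroup.mem_subgroupOf.2
    (parabolic_le_normalizer C J ((le_sup_left : D.borelSubgroup F ≤ _) (Subgroup.mem_subgroupOf.1 hx)))
  have heq := Cfsg.Agent.BNPairLib.eq_parabolic S.bnPair hBM
  have hgM : (⟨g, hg'.2⟩ : ↥(D.group F)) ∈ M := Subgroup.mem_subgroupOf.2 hg'.1
  rw [heq] at hgM
  suffices hsub : S.bnPair.parabolic {s | s ∈ S.bnPair.S ∧ s ∈ M} ≤
      (D.parabolicSubgroup F J).subgroupOf (D.group F) from Subgroup.mem_subgroupOf.1 (hsub hgM)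
  refine sup_le (fun x hx => Subgroup.mem_subgroupOf.2
    ((le_sup_left : D.borelSubgroup F ≤ _) (Subgroup.mem_subgroupOf.1 hx))) ((Subgroup.closure_le _).2 ?_)
  rintro s ⟨hs, hsM⟩
  obtain ⟨i, hi⟩ := S.sSet_eq hs
  rw [sys_nn C S] at hi
  show (s : GL D.Idx F) ∈ D.parabolicSubgroup F J
  by_cases hiJ : i.val ∈ J
  · rw [hi]; exact ns_mem_parabolic C hiJ i.isLt
  exfalso
  have hp := (isPos C).2 (C.simple_mem i.val i.isLt)
  have hnot : ¬ D.InRootSub J (D.simple i.val) := fun h => by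
    have := (inRootSub_iff C hp.1).1 h i.val i.isLt hiJ
    rw [C.coef_simple i.val i.val i.isLt i.isLt, if_pos rfl] at this
    exact one_ne_zero this
  have hx : xg C (D.simple i.val) (1 : F) ∈ D.unipotentRadical F J :=
    Subgroup.subset_closure ⟨_, 1, hp, hnot, coe_xg C _ _⟩
  have h1 := (Subgroup.mem_normalizer_iff.1 (Subgroup.mem_subgroupOf.1 hsM) _).1 hx
  rw [hi] at h1
  rw [show ng C (D.simple i.val) (1 : F) * xg C (D.simple i.val) 1 * (ng C (D.simple i.val) 1)⁻¹ =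
    xg C (D.neg (D.simple i.val)) ((C.eta i.val (D.simple i.val) : F) * 1) by
      rw [ng_simple_conj C i.isLt hp.1]; exact congrArg (fun z => xg C z _) (w_simple C i.isLt)] at h1
  have hneg : D.IsNegRoot (D.neg (D.simple i.val)) := (isNeg C).2 (by
    have := (C.simple_mem i.val i.isLt).1
    have := neg_pos C (C.neg_lt (D.simple i.val))
    rw [neg_neg' C hp.1] at this
    omega)
  have hB : D.unipotentRadical F J ≤ D.borelSubgroup F :=
    (Subgroup.closure_le _).2 fun g ⟨r, t, h, _, hg'⟩ =>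
      (le_sup_left : D.posUnipotent F ≤ D.borelSubgroup F) (Subgroup.subset_closure ⟨r, t, h, hg'⟩)
  have h2 := S.xg_neg_notMem_B hneg (by rw [sys_xg C S]; exact hB h1)
  rw [mul_one, C.eta_simple i.val i.isLt] at h2
  simp at h2

end Cfsg.Agent.ChevalleyParabolicBN
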