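import Cfsg.Agent.Lib.ChevBruhatInstance

/-!
The positive unipotent subgroup is a Sylow subgroup in the natural characteristic.
-/

set_option autoImplicit false
set_option linter.unusedSectionVars false

namespace Cfsg.Agent.ChevalleySylow

open Cfsg.Lie Cfsg.Agent.ChevalleyCert Cfsg.Agent.ChevBruhat

variable {D : ChevalleyDatum} {F : Type*} [Field F] [Fintype F] (C : Cert D) (S : ChevBruhat.Sys D F)
include C S

/-- index of `U` in the group -/
theorem card_group_eq [Fintype S.X.W] :
    Nat.card ↥(D.group F) = Fintype.card F ^ (D.nroots / 2) *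
      (Nat.card ↥(D.diagonalSubgroup F) * ∑ w : S.X.W, Fintype.card F ^ S.X.inv w) := by
  rw [S.card_group, S.card_B, ChevalleyUnipotent.card_U C, Nat.card_eq_fintype_card (α := F), mul_assoc]

theorem prime_not_dvd_card_H (p : ℕ) [Fact p.Prime] [CharP F p] :
    ¬ p ∣ Nat.card ↥(D.diagonalSubgroup F) := by
  classical
  have hp : p.Prime := Fact.out
  rw [ChevalleyTorus.H_eq_range C]
  intro h
  have h' := h.trans (Subgroup.card_range_dvd (ChevalleyTorus.torus D (F := F)))
  rw [Nat.card_fun, Nat.card_fin, Nat.card_eq_fintype_card, Fintype.card_units] at h'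
  obtain ⟨n, _, hq⟩ := FiniteField.card F p
  have h2 := hp.dvd_of_dvd_pow h'
  have h3 : p ∣ Fintype.card F := hq ▸ dvd_pow_self p n.pos.ne'
  have h4 : 1 ≤ Fintype.card F := Fintype.card_pos
  have h5 := Nat.dvd_sub h3 h2
  rw [show Fintype.card F - (Fintype.card F - 1) = 1 by omega] at h5
  exact hp.not_dvd_one h5

theorem prime_not_dvd_sum [Fintype S.X.W] (p : ℕ) [Fact p.Prime] [CharP F p] :
    ¬ p ∣ ∑ w : S.X.W, Fintype.card F ^ S.X.inv w := by
  classical
  have hp : p.Prime := Fact.out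
  obtain ⟨n, _, hq⟩ := FiniteField.card F p
  rw [← Finset.sum_erase_add _ _ (Finset.mem_univ (1 : S.X.W)), S.X.inv_eq_zero_iff.2 rfl, pow_zero]
  intro h
  have h1 : p ∣ ∑ w ∈ (Finset.univ : Finset S.X.W).erase 1, Fintype.card F ^ S.X.inv w := by
    refine Finset.dvd_sum fun w hw => dvd_pow (hq ▸ dvd_pow_self p n.pos.ne') ?_
    exact fun h0 => (Finset.mem_erase.1 hw).1 (S.X.inv_eq_zero_iff.1 h0)
  exact hp.not_dvd_one ((Nat.dvd_add_right h1).1 h)

theorem exists_sylow (p : ℕ) [Fact p.Prime] [CharP F p] :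
    ∃ P : Sylow p ↥(D.group F), (P : Subgroup ↥(D.group F)) = (D.posUnipotent F).subgroupOf (D.group F) := by
  classical
  have hp : p.Prime := Fact.out
  haveI : Finite S.X.W := Finite.of_injective _ S.X.ρ_injective
  letI : Fintype S.X.W := Fintype.ofFinite _
  obtain ⟨n, _, hq⟩ := FiniteField.card F p
  have hU : Nat.card ((D.posUnipotent F).subgroupOf (D.group F)) = p ^ ((n : ℕ) * (D.nroots / 2)) := by
    rw [Nat.card_congr (Subgroup.subgroupOfEquivOfLe S.U_le_group).toEquiv, ChevalleyUnipotent.card_U C, hq, pow_mul]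
  have hidx := Subgroup.card_mul_index ((D.posUnipotent F).subgroupOf (D.group F))
  rw [hU, card_group_eq C S, hq, ← pow_mul] at hidx
  have hidx' := Nat.eq_of_mul_eq_mul_left (pow_pos hp.pos _) hidx
  refine ⟨(IsPGroup.of_card hU).toSylow ?_, rfl⟩
  rw [hidx', hp.dvd_mul, ← hq]
  push Not
  exact ⟨prime_not_dvd_card_H C S p, prime_not_dvd_sum C S p⟩

end Cfsg.Agent.ChevalleySylow
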