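import Cfsg.Agent.Lib.ChevBruhatInstance
import Cfsg.Agent.Lib.ChevalleySylow
import Cfsg.Agent.Lib.ChevalleyParabolicBN

/-!
Rigidity for automorphisms of a Chevalley group: after an inner automorphism the image of every
fundamental root subgroup is a fundamental root subgroup.
-/

set_option autoImplicit false
set_option linter.unusedSimpArgs false
set_option linter.unusedSectionVars false

namespace Cfsg.Agent.ChevAutRigid

open Cfsg.Lie Cfsg.Agent.ChevalleyCert Cfsg.Agent.ChevalleyCore Cfsg.Agent.ChevBruhat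
open Cfsg.Agent Cfsg.Agent.ChevWeyl

variable {D : ChevalleyDatum} {F : Type*} [Field F] (C : Cert D) (S : Sys D F)

theorem sxg (r : ℕ) (t : F) : S.xg r t = xg C r t := ChevalleyParabolicBN.sys_xg C S r t

/-- a root element inside the group -/
def xG (r : ℕ) (t : F) : ↥(D.group F) := ⟨xg C r t, xg_mem_group C r t⟩

theorem coe_xG (r : ℕ) (t : F) : (xG C r t : GL D.Idx F) = xg C r t := rfl

theorem xG_mul (r : ℕ) (t u : F) : xG C r t * xG C r u = xG C r (t + u) := Subtype.ext (xg_mul C r t u)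

theorem xG_zero (r : ℕ) : xG C r (0 : F) = 1 :=
  mul_left_cancel (a := xG C r (0 : F)) (by rw [xG_mul, add_zero, mul_one])

theorem xG_inv (r : ℕ) (t : F) : (xG C r t)⁻¹ = xG C r (-t) := Subtype.ext (xg_inv C r t)

theorem xG_inj {r r' : ℕ} (hr : r < D.nroots) (hr' : r' < D.nroots) {t t' : F} (ht : t ≠ 0)
    (h : xG C r t = xG C r' t') : r = r' ∧ t = t' :=
  ChevBruhatInstance.xg_injective C hr hr' ht (congrArg Subtype.val h)

theorem xG_inj' {r : ℕ} (hr : r < D.nroots) {t t' : F} (h : xG C r t = xG C r t') : t = t' := by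
  rcases eq_or_ne t 0 with rfl | ht
  · by_contra hne
    exact hne (xG_inj C hr hr (Ne.symm hne) h.symm).2.symm
  · exact (xG_inj C hr hr ht h).2

/-- the element `n_{p_i}(t)` inside the group -/
def nG (i : ℕ) (t : F) : ↥(D.group F) :=
  xG C (D.simple i) t * xG C (D.neg (D.simple i)) (-t⁻¹) * xG C (D.simple i) t

/-- the element `h_{p_i}(t)` inside the group -/
def hG (i : ℕ) (t : F) : ↥(D.group F) := nG C i t * nG C i (-1)

theorem coe_nG (i : ℕ) (t : F) : (nG C i t : GL D.Idx F) = ng C (D.simple i) t := rfl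

theorem coe_hG (i : ℕ) (t : F) : (hG C i t : GL D.Idx F) = hg C (D.simple i) t := rfl

/-- `U` inside the group -/
def UG (D : ChevalleyDatum) (F : Type*) [Field F] : Subgroup ↥(D.group F) :=
  (D.posUnipotent F).subgroupOf (D.group F)

/-- `V` inside the group -/
def VG (D : ChevalleyDatum) (F : Type*) [Field F] : Subgroup ↥(D.group F) :=
  (D.negUnipotent F).subgroupOf (D.group F)

/-- `B` inside the group -/
def BG (D : ChevalleyDatum) (F : Type*) [Field F] : Subgroup ↥(D.group F) :=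
  (D.borelSubgroup F).subgroupOf (D.group F)

theorem mem_UG {y : ↥(D.group F)} : y ∈ UG D F ↔ (y : GL D.Idx F) ∈ D.posUnipotent F := Iff.rfl
theorem mem_VG {y : ↥(D.group F)} : y ∈ VG D F ↔ (y : GL D.Idx F) ∈ D.negUnipotent F := Iff.rfl
theorem mem_BG {y : ↥(D.group F)} : y ∈ BG D F ↔ (y : GL D.Idx F) ∈ D.borelSubgroup F := Iff.rfl

theorem UG_le_BG : UG D F ≤ BG D F := fun _ h => Sys.U_le_B h

include S in
theorem UG_inf_VG {y : ↥(D.group F)} (hu : y ∈ UG D F) (hv : y ∈ VG D F) : y = 1 := by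
  have h : (y : GL D.Idx F) ∈ (⊥ : Subgroup (GL D.Idx F)) :=
    S.B_inf_V.le ⟨Sys.U_le_B hu, hv⟩
  exact Subtype.ext h

/-! ### an element of `N` over the longest Weyl element -/

/-- `w` turns every positive root into a negative one -/
def IsLong (w : S.X.W) : Prop := ∀ r, D.IsPosRoot r → D.IsNegRoot (S.X.img w r)

theorem IsLong.neg {w : S.X.W} (hw : IsLong S w) {r : ℕ} (hr : D.IsNegRoot r) :
    D.IsPosRoot (S.X.img w r) := by
  have h := hw _ ((S.X.pos_neg_iff hr.1).mpr hr)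
  rw [S.X.img_neg w hr.1] at h
  have h2 := (S.X.pos_neg_iff h.1).mpr h
  rwa [(S.X.root_facts (S.X.img_lt w hr.1)).2.1] at h2

theorem IsLong.inv {w : S.X.W} (hw : IsLong S w) : IsLong S w⁻¹ := by
  intro r hr
  refine (S.X.pos_or_neg (S.X.img_lt _ hr.1)).resolve_left fun hp => ?_
  have h := hw _ hp
  rw [S.X.img_img_inv] at h
  exact S.X.not_pos_and_neg hr h

theorem long_U {n : ↥(D.monomialSubgroup F)} (hn : IsLong S (S.toW n)) {x : GL D.Idx F}
    (hx : x ∈ D.posUnipotent F) :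
    (n : GL D.Idx F) * x * (n : GL D.Idx F)⁻¹ ∈ D.negUnipotent F := by
  refine Sys.conj_closure_le (T := {g : GL D.Idx F | ∃ (r : ℕ) (t : F), D.IsPosRoot r ∧
    (g : Matrix D.Idx D.Idx F) = D.x F r t}) _ ?_ hx
  rintro y ⟨r, t, hr, hy⟩
  obtain ⟨c, -, h1, -⟩ := S.acts_toW n r hr.1
  rw [S.eq_xg.mp hy, h1]
  exact S.xg_mem_V (hn r hr) _

theorem long_V {n : ↥(D.monomialSubgroup F)} (hn : IsLong S (S.toW n)) {x : GL D.Idx F}
    (hx : x ∈ D.negUnipotent F) :
    (n : GL D.Idx F) * x * (n : GL D.Idx F)⁻¹ ∈ D.posUnipotent F := by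
  refine Sys.conj_closure_le (T := {g : GL D.Idx F | ∃ (r : ℕ) (t : F), D.IsNegRoot r ∧
    (g : Matrix D.Idx D.Idx F) = D.x F r t}) _ ?_ hx
  rintro y ⟨r, t, hr, hy⟩
  obtain ⟨c, -, h1, -⟩ := S.acts_toW n r hr.1
  rw [S.eq_xg.mp hy, h1]
  exact S.xg_mem_U (hn.neg S hr) _

/-- the element of the group given by an element of `N` -/
def ofN (n : ↥(D.monomialSubgroup F)) : ↥(D.group F) := ⟨n, S.N_le_group n.2⟩

theorem conj_mem_VG {n : ↥(D.monomialSubgroup F)} (hn : IsLong S (S.toW n)) {y : ↥(D.group F)} :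
    ofN S n * y * (ofN S n)⁻¹ ∈ VG D F ↔ y ∈ UG D F := by
  refine ⟨fun h => ?_, fun h => long_U S hn h⟩
  have hn' : IsLong S (S.toW n⁻¹) := by rw [map_inv]; exact hn.inv S
  have h' := long_V S hn' (mem_VG.mp h)
  simpa [ofN, mem_UG, mul_assoc] using h'

theorem conj_mem_UG {n : ↥(D.monomialSubgroup F)} (hn : IsLong S (S.toW n)) {y : ↥(D.group F)} :
    ofN S n * y * (ofN S n)⁻¹ ∈ UG D F ↔ y ∈ VG D F := by
  refine ⟨fun h => ?_, fun h => long_V S hn h⟩
  have hn' : IsLong S (S.toW n⁻¹) := by rw [map_inv]; exact hn.inv S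
  have h' := long_U S hn' (mem_UG.mp h)
  simpa [ofN, mem_VG, mul_assoc] using h'

theorem exists_long : ∃ n : ↥(D.monomialSubgroup F), IsLong S (S.toW n) := by
  obtain ⟨w, hw⟩ := S.exists_w0
  obtain ⟨n, rfl⟩ := S.toW_surjective w
  exact ⟨n, hw⟩

include S in
/-- the normaliser of `U` is `B` -/
theorem normalizer_UG : Subgroup.normalizer (UG D F : Set ↥(D.group F)) = BG D F := by
  apply le_antisymm
  · intro g hg
    obtain ⟨b, hb, n, u, hu, e⟩ := S.exists_cell_form g.2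
    suffices h : (n : GL D.Idx F) ∈ D.diagonalSubgroup F by
      rw [mem_BG, e]
      exact mul_mem (mul_mem hb (Sys.H_le_B h)) (Sys.U_le_B (S.Uw_le_U _ hu))
    have hone : S.toW n = 1 := by
      rw [← S.X.inv_eq_zero_iff, Weyl.inv, Finset.card_eq_zero, Finset.eq_empty_iff_forall_notMem]
      intro r hr
      obtain ⟨hp, hneg⟩ := S.X.mem_invSet.mp hr
      obtain ⟨c, hc, h1, -⟩ := S.acts_toW n r hp.1
      have hu' : u ∈ D.posUnipotent F := S.Uw_le_U _ hu
      have hx : u⁻¹ * S.xg r 1 * u ∈ D.posUnipotent F :=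
        mul_mem (mul_mem (inv_mem hu') (S.xg_mem_U hp _)) hu'
      have h2 := (Subgroup.mem_normalizer_iff.mp hg
        ⟨u⁻¹ * S.xg r 1 * u, S.U_le_group hx⟩).mp hx
      have h2' : (g : GL D.Idx F) * (u⁻¹ * S.xg r 1 * u) * (g : GL D.Idx F)⁻¹ ∈ D.borelSubgroup F :=
        Sys.U_le_B h2
      have h3 : S.xg (S.X.img (S.toW n) r) (c * 1) ∈ D.borelSubgroup F := by
        rw [← h1]
        have := mul_mem (mul_mem (inv_mem hb) h2') hb
        simpa [e, mul_assoc] using this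
      exact hc (by simpa using S.xg_neg_notMem_B hneg h3)
    have := (S.toW_eq_iff (n := 1) (m := n)).mp (by rw [map_one, hone])
    simpa using this
  · intro g hg
    obtain ⟨h, hh, u, hu, e⟩ := S.mem_B_iff.mp (mem_BG.mp hg)
    have hn : (g : GL D.Idx F) ∈ Subgroup.normalizer (D.posUnipotent F : Set (GL D.Idx F)) := by
      rw [e]
      exact mul_mem (S.H_le_normalizer hh) (Subgroup.le_normalizer hu)
    rw [Subgroup.mem_normalizer_iff]
    intro y
    exact Subgroup.mem_normalizer_iff.mp hn (y : GL D.Idx F)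

/-! ### normalising the automorphism -/

/-- `θ` fixes `U` and `V` -/
structure Fix (θ : ↥(D.group F) ≃* ↥(D.group F)) : Prop where
  U : ∀ y, θ y ∈ UG D F ↔ y ∈ UG D F
  V : ∀ y, θ y ∈ VG D F ↔ y ∈ VG D F

include S in
theorem Fix.B {θ : ↥(D.group F) ≃* ↥(D.group F)} (hθ : Fix θ) (y : ↥(D.group F)) :
    θ y ∈ BG D F ↔ y ∈ BG D F := by
  rw [← normalizer_UG S, Subgroup.mem_normalizer_iff, Subgroup.mem_normalizer_iff]
  refine ⟨fun h x => ?_, fun h x => ?_⟩
  · have := h (θ x)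
    rwa [← map_inv, ← map_mul, ← map_mul, hθ.U, hθ.U] at this
  · obtain ⟨x, rfl⟩ := θ.surjective x
    rw [← map_inv, ← map_mul, ← map_mul, hθ.U, hθ.U]
    exact h x

include C S in
theorem exists_fix [Finite F] (θ : ↥(D.group F) ≃* ↥(D.group F)) :
    ∃ (x : ↥(D.group F)) (θ' : ↥(D.group F) ≃* ↥(D.group F)),
      Fix θ' ∧ ∀ y, θ y = x * θ' y * x⁻¹ := by
  classical
  letI : Fintype F := Fintype.ofFinite F
  obtain ⟨p, hp⟩ := CharP.exists F
  haveI := hp
  haveI : Fact p.Prime := ⟨CharP.char_is_prime F p⟩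
  obtain ⟨P, hP⟩ := ChevalleySylow.exists_sylow C S p
  obtain ⟨x, hx⟩ : ∃ x : ↥(D.group F), x • P = θ • P := MulAction.exists_smul_eq _ P (θ • P)
  have h1 : ∀ y, x⁻¹ * θ y * x ∈ UG D F ↔ y ∈ UG D F := by
    intro y
    have hmem : θ y ∈ ((x • P : Sylow p ↥(D.group F)) : Subgroup ↥(D.group F)) ↔
        θ y ∈ ((θ • P : Sylow p ↥(D.group F)) : Subgroup ↥(D.group F)) := by rw [hx]
    rw [Sylow.pointwise_smul_def, Sylow.coe_subgroup_smul] at hmem
    rw [hP] at hmem
    rw [Subgroup.mem_pointwise_smul_iff_inv_smul_mem,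
      Subgroup.mem_pointwise_smul_iff_inv_smul_mem] at hmem
    simp only [MulAut.smul_def, MulAut.inv_apply_self, MulAut.conj_inv_apply] at hmem
    exact hmem
  set θ₁ : ↥(D.group F) ≃* ↥(D.group F) := θ.trans (MulAut.conj x⁻¹) with hθ₁
  have hθ₁' : ∀ y, θ₁ y = x⁻¹ * θ y * x := fun y => by simp [hθ₁]
  have hU1 : ∀ y, θ₁ y ∈ UG D F ↔ y ∈ UG D F := fun y => by rw [hθ₁']; exact h1 y
  obtain ⟨n0, hn0⟩ := exists_long S
  obtain ⟨b, hb, n, u, hu, e⟩ := S.exists_cell_form (θ₁ (ofN S n0)).2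
  set g := θ₁ (ofN S n0) with hg
  have hgU : ∀ z, z ∈ UG D F → ∃ v ∈ VG D F, θ₁ v = g * z * g⁻¹ := fun z hz => by
    refine ⟨ofN S n0 * θ₁.symm z * (ofN S n0)⁻¹, (conj_mem_VG S hn0).mpr ?_, by simp [hg]⟩
    rw [← hU1]; simpa using hz
  have hlong : IsLong S (S.toW n) := by
    intro r hr
    refine (S.X.pos_or_neg (S.X.img_lt _ hr.1)).resolve_left fun hp' => ?_
    have hu' : u ∈ D.posUnipotent F := S.Uw_le_U _ hu
    have hz : u⁻¹ * S.xg r 1 * u ∈ D.posUnipotent F :=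
      mul_mem (mul_mem (inv_mem hu') (S.xg_mem_U hr _)) hu'
    obtain ⟨v, hv, hθv⟩ := hgU ⟨_, S.U_le_group hz⟩ hz
    obtain ⟨c, hc, hc1, -⟩ := S.acts_toW n r hr.1
    have hbn : b ∈ Subgroup.normalizer (D.posUnipotent F : Set (GL D.Idx F)) := by
      obtain ⟨h, hh, u₀, hu₀, rfl⟩ := S.mem_B_iff.mp hb
      exact mul_mem (S.H_le_normalizer hh) (Subgroup.le_normalizer hu₀)
    have hin : θ₁ v ∈ UG D F := by
      rw [hθv, mem_UG]
      have := (Subgroup.mem_normalizer_iff.mp hbn _).mp (hc1 1 ▸ S.xg_mem_U hp' (c * 1))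
      simpa [e, mul_assoc] using this
    have hv1 := UG_inf_VG S ((hU1 v).mp hin) hv
    rw [hv1, map_one, eq_comm] at hθv
    have hone : S.xg r 1 = 1 := by
      have : (⟨u⁻¹ * S.xg r 1 * u, S.U_le_group hz⟩ : ↥(D.group F)) = 1 := conj_eq_one_iff.mp hθv
      have h' : u⁻¹ * S.xg r 1 * u⁻¹⁻¹ = 1 := by rw [inv_inv]; exact congrArg Subtype.val this
      exact conj_eq_one_iff.mp h'
    exact one_ne_zero (S.xg_eq_one hr.1 hone)
  set b' : ↥(D.group F) := ⟨b, S.B_le_group hb⟩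
  set u' : ↥(D.group F) := ⟨u, S.U_le_group (S.Uw_le_U _ hu)⟩
  have hge : g = b' * ofN S n * u' := Subtype.ext e
  have hu'U : u' ∈ UG D F := S.Uw_le_U _ hu
  have hb'N : b' ∈ Subgroup.normalizer (UG D F : Set ↥(D.group F)) := by
    rw [normalizer_UG S]; exact hb
  refine ⟨x * b', θ₁.trans (MulAut.conj b'⁻¹), ⟨fun y => ?_, fun y => ?_⟩, fun y => ?_⟩
  · simp only [MulEquiv.trans_apply, MulAut.conj_apply, inv_inv]
    rw [← hU1 y]
    exact (Subgroup.mem_normalizer_iff''.mp hb'N _).symm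
  · simp only [MulEquiv.trans_apply, MulAut.conj_apply, inv_inv]
    have hy : θ₁ y = g * θ₁ ((ofN S n0)⁻¹ * y * ofN S n0) * g⁻¹ := by
      simp [hg, mul_assoc]
    rw [hy, hge]
    rw [show b'⁻¹ * (b' * ofN S n * u' * θ₁ ((ofN S n0)⁻¹ * y * ofN S n0) * (b' * ofN S n * u')⁻¹) * b' =
      ofN S n * (u' * θ₁ ((ofN S n0)⁻¹ * y * ofN S n0) * u'⁻¹) * (ofN S n)⁻¹ by group,
      conj_mem_VG S hlong, Subgroup.mul_mem_cancel_right _ (inv_mem hu'U),
      Subgroup.mul_mem_cancel_left _ hu'U, hU1,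
      ← conj_mem_VG S hn0]
    simp [mul_assoc]
  · simp [hθ₁', mul_assoc]

/-! ### minimal parabolic subgroups -/

/-- the representative of a fundamental reflection -/
def sG (i : Fin D.rank) : ↥(D.group F) :=
  ⟨S.nn (D.simple i) 1, S.nn_mem_group (S.X.simple_lt i.isLt) 1⟩

theorem sG_mem (i : Fin D.rank) : sG S i ∈ S.bnPair.S := ⟨i, i.isLt, S.coe_nn _ _⟩

/-- the minimal parabolic subgroups -/
noncomputable def Par (i : Fin D.rank) : Subgroup ↥(D.group F) := S.bnPair.parabolic {sG S i}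

theorem BG_le_Par (i : Fin D.rank) : BG D F ≤ Par S i :=
  BNPairLib.B_le_parabolic S.bnPair {sG S i}

theorem sG_mem_Par (i : Fin D.rank) : sG S i ∈ Par S i :=
  BNPairLib.rep_mem_parabolic _ (Set.mem_singleton _)

include C in
theorem sG_inj {i j : Fin D.rank} (h : sG S i = sG S j) : i = j := by
  have hn : S.sN i = S.sN j := Subtype.ext (congrArg Subtype.val h :)
  have hw : S.X.C.simple i = S.X.C.simple j := by rw [← S.toW_sN, ← S.toW_sN, hn]
  have hp := S.X.simple_lt i.isLt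
  have h1 : D.IsNegRoot (D.reflectRoot j (D.simple i)) := by
    rw [← S.X.img_simple j hp, ← hw, S.X.img_simple i hp, S.X.reflect_simple i.isLt,
      ← S.X.pos_neg_iff (S.X.root_facts hp).1, (S.X.root_facts hp).2.1]
    exact S.X.simple_pos i.isLt
  rcases (S.X.neg_reflect j.isLt hp).mp h1 with h2 | h2
  · exact absurd h2.1 (S.X.not_pos_and_neg (S.X.simple_pos i.isLt))
  · exact Fin.ext (ChevalleyRoots.simple_inj C i.isLt j.isLt h2)

include C in
theorem Par_inj {i j : Fin D.rank} (h : sG S i ∈ Par S j) : i = j := by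
  have := (BNPairLib.rep_mem_parabolic_iff S.bnPair (J := {sG S j})
    (Set.singleton_subset_iff.mpr (sG_mem S j)) ⟨sG S i, sG_mem S i⟩).mp h
  exact sG_inj C S this

include C in
/-- `θ` permutes the minimal parabolic subgroups -/
theorem exists_perm {θ : ↥(D.group F) ≃* ↥(D.group F)} (hθ : Fix θ) :
    ∃ π : Equiv.Perm (Fin D.rank), ∀ i y, θ y ∈ Par S (π i) ↔ y ∈ Par S i := by
  have key : ∀ i, ∃ j, ∀ y, θ y ∈ Par S j ↔ y ∈ Par S i := by
    intro i
    let M : Subgroup ↥(D.group F) := (Par S i).comap θ.symm.toMonoidHom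
    have hB : S.bnPair.B ≤ M := fun b hb =>
      BG_le_Par S i ((Fix.B S hθ (θ.symm b)).mp (by rw [MulEquiv.apply_symm_apply]; exact hb))
    have hM := BNPairLib.eq_parabolic S.bnPair hB
    obtain ⟨s, hs, hsM⟩ : ∃ s, s ∈ S.bnPair.S ∧ s ∈ M := by
      by_contra hcon
      push Not at hcon
      have he : {s | s ∈ S.bnPair.S ∧ s ∈ M} = (∅ : Set ↥(D.group F)) :=
        Set.eq_empty_iff_forall_notMem.mpr fun s hs => hcon s hs.1 hs.2
      rw [he, Cfsg.BNPair.parabolic, Subgroup.closure_empty, sup_bot_eq] at hM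
      have h1 : θ (sG S i) ∈ M := by simpa [M] using sG_mem_Par S i
      rw [hM] at h1
      exact BNPairLib.rep_not_mem S.bnPair ⟨_, sG_mem S i⟩ ((Fix.B S hθ _).mp h1)
    obtain ⟨j, hj, hje⟩ := hs
    have hsj : s = sG S ⟨j, hj⟩ := Subtype.ext (Units.ext (hje.trans (S.coe_nn _ _).symm))
    refine ⟨⟨j, hj⟩, fun y => ⟨fun hy => ?_, fun hy => ?_⟩⟩
    · have hle : Par S ⟨j, hj⟩ ≤ M := by
        refine sup_le hB ((Subgroup.closure_le _).mpr ?_)
        rintro _ rfl
        exact hsj ▸ hsM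
      simpa [M] using hle hy
    · let M' : Subgroup ↥(D.group F) := (Par S ⟨j, hj⟩).comap θ.toMonoidHom
      have hB' : S.bnPair.B ≤ M' := fun b hb => BG_le_Par S _ ((Fix.B S hθ _).mpr hb)
      have hM' := BNPairLib.eq_parabolic S.bnPair hB'
      have hle : M' ≤ Par S i := by
        intro z hz
        have hle : Par S ⟨j, hj⟩ ≤ M := by
          refine sup_le hB ((Subgroup.closure_le _).mpr ?_)
          rintro _ rfl
          exact hsj ▸ hsM
        simpa [M] using hle hz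
      obtain ⟨r, hr, hrM⟩ : ∃ r, r ∈ S.bnPair.S ∧ r ∈ M' := by
        by_contra hcon
        push Not at hcon
        have he : {s | s ∈ S.bnPair.S ∧ s ∈ M'} = (∅ : Set ↥(D.group F)) :=
          Set.eq_empty_iff_forall_notMem.mpr fun s hs => hcon s hs.1 hs.2
        rw [he, Cfsg.BNPair.parabolic, Subgroup.closure_empty, sup_bot_eq] at hM'
        have h1 : θ.symm (sG S ⟨j, hj⟩) ∈ M' := by simpa [M'] using sG_mem_Par S ⟨j, hj⟩
        rw [hM'] at h1
        have h2 := (Fix.B S hθ (θ.symm (sG S ⟨j, hj⟩))).mpr h1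
        rw [MulEquiv.apply_symm_apply] at h2
        exact BNPairLib.rep_not_mem S.bnPair ⟨_, sG_mem S _⟩ h2
      obtain ⟨k, hk, hke⟩ := hr
      have hrk : r = sG S ⟨k, hk⟩ := Subtype.ext (Units.ext (hke.trans (S.coe_nn _ _).symm))
      have hki : (⟨k, hk⟩ : Fin D.rank) = i := Par_inj C S (hrk ▸ hle hrM)
      have hPar : Par S i ≤ M' := by
        refine sup_le hB' ((Subgroup.closure_le _).mpr ?_)
        rintro _ rfl
        exact hki ▸ hrk ▸ hrM
      exact hPar hy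
  choose f hf using key
  have hinj : Function.Injective f := by
    intro i i' h
    refine Par_inj C S ?_
    rw [← hf i', ← h, hf i]
    exact sG_mem_Par S i
  exact ⟨Equiv.ofBijective f (Finite.injective_iff_bijective.mp hinj), hf⟩

include C in
theorem neg_simple_mem_Par (i : Fin D.rank) (t : F) :
    xG C (D.neg (D.simple i)) t ∈ Par S i := by
  have hp := S.X.simple_lt i.isLt
  obtain ⟨c, hc, h1, -⟩ := S.acts_simple i (D.simple i) hp
  rw [S.X.img_simple i hp, S.X.reflect_simple i.isLt] at h1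
  have he : xG C (D.neg (D.simple i)) t =
      sG S i * ⟨S.xg (D.simple i) (c⁻¹ * t), S.xg_mem_group hp _⟩ * (sG S i)⁻¹ := by
    apply Subtype.ext
    change xg C _ t = S.nn (D.simple i) 1 * S.xg _ (c⁻¹ * t) * (S.nn (D.simple i) 1)⁻¹
    rw [h1, ← mul_assoc, mul_inv_cancel₀ hc, one_mul, sxg C]
  rw [he]
  refine mul_mem (mul_mem (sG_mem_Par S i) (BG_le_Par S i ?_)) (inv_mem (sG_mem_Par S i))
  exact Sys.U_le_B (S.xg_mem_U (S.X.simple_pos i.isLt) _)

include C S in
theorem neg_simple_mem_VG (i : Fin D.rank) (t : F) : xG C (D.neg (D.simple i)) t ∈ VG D F := by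
  rw [mem_VG, coe_xG, ← sxg C S]
  refine S.xg_mem_V ?_ t
  have hp := S.X.simple_lt i.isLt
  rw [← S.X.pos_neg_iff (S.X.root_facts hp).1, (S.X.root_facts hp).2.1]
  exact S.X.simple_pos i.isLt

include C in
/-- `V ∩ P_i = X_{-p_i}` -/
theorem VG_inf_Par {i : Fin D.rank} {y : ↥(D.group F)} (hv : y ∈ VG D F) (hy : y ∈ Par S i) :
    ∃ t, y = xG C (D.neg (D.simple i)) t := by
  obtain ⟨w, hw, hwy⟩ := (BNPairLib.mem_parabolic S.bnPair
    (Set.singleton_subset_iff.mpr (sG_mem S i))).mp hy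
  have hone : ∀ z : ↥(D.group F), z ∈ VG D F → z ∈ BG D F →
      ∃ t, z = xG C (D.neg (D.simple i)) t := fun z h1 h2 => by
    refine ⟨0, ?_⟩
    rw [xG_zero]
    have h : (z : GL D.Idx F) ∈ (⊥ : Subgroup (GL D.Idx F)) := S.B_inf_V.le ⟨h2, h1⟩
    exact Subtype.ext h
  have hw2 : w = 1 ∨ w = BNPairLib.σ S.bnPair ⟨sG S i, sG_mem S i⟩ := by
    obtain ⟨l, hl, rfl⟩ := BNPairLib.exists_wd_of_mem_closure S.bnPair hw
    clear hwy hw
    induction l with
    | nil => exact Or.inl rfl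
    | cons s l ih =>
      have hs : s = ⟨sG S i, sG_mem S i⟩ := Subtype.ext (hl s (by simp))
      rw [BNPairLib.wd_cons, hs]
      rcases ih (fun x hx => hl x (List.mem_cons_of_mem _ hx)) with h | h <;> rw [h]
      · exact Or.inr (mul_one _)
      · exact Or.inl (BNPairLib.σ_mul_self _ _)
  rcases hw2 with rfl | rfl
  · exact hone y hv ((BNPairLib.mem_cell_one _).mp hwy)
  obtain ⟨a, ha, b, hb, rfl⟩ := BNPairLib.exists_eq_mul S.bnPair
    ⟨sG S i, S.bnPair.subset (sG_mem S i)⟩ rfl hwy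
  obtain ⟨h, hh, v, hv', z, hbe⟩ := S.B_decomp i.isLt (show (b : GL D.Idx F) ∈ _ from hb)
  set N₀ := S.nn (D.simple i) 1 with hN
  have hb' : (a : GL D.Idx F) * (N₀ * h * N₀⁻¹) * (N₀ * v * N₀⁻¹) ∈ D.borelSubgroup F :=
    mul_mem (mul_mem ha (Sys.H_le_B (S.conj_H (S.acts_simple i) hh)))
      (Sys.U_le_B (Sys.upSub_le_U _ (S.nn_conj_upSub i hv')))
  set b' := (a : GL D.Idx F) * (N₀ * h * N₀⁻¹) * (N₀ * v * N₀⁻¹) with hb'e
  have hy' : ((a * sG S i * b : ↥(D.group F)) : GL D.Idx F) = b' * N₀ * S.xg (D.simple i) z := by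
    change (a : GL D.Idx F) * N₀ * (b : GL D.Idx F) = _
    rw [hbe, hb'e]; group
  rcases eq_or_ne z 0 with rfl | hz
  · exfalso
    rw [S.xg_zero, mul_one] at hy'
    obtain ⟨n0, hn0⟩ := exists_long S
    have hu := (conj_mem_VG S hn0 (y := (ofN S n0)⁻¹ * (a * sG S i * b) * ofN S n0)).mp
      (by simpa [mul_assoc] using hv)
    have he : b' * ((S.sN i * n0 : ↥(D.monomialSubgroup F)) : GL D.Idx F) * 1 =
        1 * (n0 : GL D.Idx F) *
          (((ofN S n0)⁻¹ * (a * sG S i * b) * ofN S n0 : ↥(D.group F)) : GL D.Idx F) := by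
      simp only [Subgroup.coe_mul, InvMemClass.coe_inv] at hy' ⊢
      change b' * (N₀ * (n0 : GL D.Idx F)) * 1 =
        1 * (n0 : GL D.Idx F) * ((n0 : GL D.Idx F)⁻¹ *
          ((a : GL D.Idx F) * (sG S i : GL D.Idx F) * (b : GL D.Idx F)) * (n0 : GL D.Idx F))
      rw [hy']; group
    have h1 := S.toW_unique hb' (one_mem _) (one_mem _) (Sys.U_le_B hu) he
    rw [map_mul, S.toW_sN, mul_eq_right] at h1
    have hp := S.X.simple_lt i.isLt
    have h2 := S.X.img_simple i hp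
    rw [h1, S.X.img_one, S.X.reflect_simple i.isLt] at h2
    exact ChevalleyRoots.neg_ne C hp h2.symm
  · refine ⟨z⁻¹, ?_⟩
    have hsplit : N₀ * S.xg (D.simple i) z = (N₀ * S.nn (D.simple i) z) *
        S.xg (D.simple i) (-z) * S.xg (D.neg (D.simple i)) z⁻¹ := by
      rw [mul_assoc, mul_assoc]
      congr 1
      simp only [Sys.nn, nOf, ← S.xg_inv]
      group
    have hbig : b' * ((N₀ * S.nn (D.simple i) z) * S.xg (D.simple i) (-z)) ∈ D.borelSubgroup F :=
      mul_mem hb' (mul_mem (Sys.H_le_B (S.nn_mul_nn_mem (S.X.simple_lt i.isLt) one_ne_zero hz))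
        (Sys.U_le_B (S.xg_mem_U (S.X.simple_pos i.isLt) _)))
    rw [mul_assoc b', hsplit, ← mul_assoc b'] at hy'
    have hVbig : b' * ((N₀ * S.nn (D.simple i) z) * S.xg (D.simple i) (-z)) ∈ D.negUnipotent F := by
      have h1 := mul_mem (mem_VG.mp hv) (inv_mem (mem_VG.mp (neg_simple_mem_VG C S i z⁻¹)))
      rw [hy', coe_xG, ← sxg C S] at h1
      simpa [mul_assoc] using h1
    have hone' : b' * ((N₀ * S.nn (D.simple i) z) * S.xg (D.simple i) (-z)) = 1 :=
      Subgroup.mem_bot.mp (S.B_inf_V.le ⟨hbig, hVbig⟩)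
    apply Subtype.ext
    rw [hy', hone', one_mul, coe_xG, sxg C]

/-! ### the permutation of the nodes -/

/-- a long element maps fundamental roots to negatives of fundamental roots -/
theorem long_simple {w : S.X.W} (hw : IsLong S w) (i : Fin D.rank) :
    ∃ k : Fin D.rank, S.X.img w (D.neg (D.simple i)) = D.simple k := by
  have hp := S.X.simple_lt i.isLt
  have hneg : D.IsNegRoot (D.neg (D.simple i)) := by
    rw [← S.X.pos_neg_iff (S.X.root_facts hp).1, (S.X.root_facts hp).2.1]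
    exact S.X.simple_pos i.isLt
  set r := S.X.img w (D.neg (D.simple i)) with hr
  have hrp : D.IsPosRoot r := hw.neg S hneg
  have hvr : S.X.img w⁻¹ r = D.neg (D.simple i) := by rw [hr, S.X.img_inv_img]
  obtain ⟨k, hk, hk0⟩ : ∃ k, k < D.rank ∧ cor D r k ≠ 0 := by
    by_contra hcon
    push Not at hcon
    exact S.X.not_pos_and_neg hrp ((S.X.neg_iff hrp.1).mpr fun j hj => (hcon j hj).le)
  refine ⟨⟨k, hk⟩, ?_⟩
  have hkl := S.X.simple_lt hk
  have hkneg : D.IsNegRoot (S.X.img w⁻¹ (D.simple k)) := hw.inv S _ (S.X.simple_pos hk)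
  have hzero : ∀ j < D.rank, j ≠ i.val → cor D (S.X.img w⁻¹ (D.simple k)) j = 0 := by
    intro j hj hji
    have h1 := S.X.cor_img w⁻¹ hrp.1 j hj
    rw [hvr, (S.X.root_facts' hp hj).1, S.X.cor_simple i.isLt hj, if_neg hji, neg_zero] at h1
    have hle : ∀ l ∈ Finset.range D.rank,
        cor D r l * cor D (S.X.img w⁻¹ (D.simple l)) j ≤ 0 := fun l hl => by
      have hl' := Finset.mem_range.mp hl
      have hn := hw.inv S _ (S.X.simple_pos hl')
      exact mul_nonpos_of_nonneg_of_nonpos ((S.X.pos_iff hrp.1).mp hrp l hl')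
        ((S.X.neg_iff hn.1).mp hn j hj)
    have h2 := (Finset.sum_eq_zero_iff_of_nonpos hle).mp h1.symm k (Finset.mem_range.mpr hk)
    exact (mul_eq_zero.mp h2).resolve_left hk0
  have hs : D.neg (S.X.img w⁻¹ (D.simple k)) = D.simple i :=
    S.simple_supp ((S.X.pos_neg_iff hkneg.1).mpr hkneg) i.isLt fun j hj hji => by
      rw [(S.X.root_facts' hkneg.1 hj).1, hzero j hj hji, neg_zero]
  have heq : S.X.img w⁻¹ (D.simple k) = D.neg (D.simple i) := by
    rw [← hs, (S.X.root_facts hkneg.1).2.1]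
  exact (S.X.img_injective _ (heq.trans hvr.symm)).symm

end Cfsg.Agent.ChevAutRigid
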