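import Cfsg.Agent.Lib.TwistedOrders
import Cfsg.Agent.Lib.ChevAutRigid
import Cfsg.Agent.Lib.ChevalleySylow

/-!
Rigidity for automorphisms of a twisted group given by classes of fundamental roots: after an inner
automorphism the subgroups `X_J` and `X_{-J}` of the classes are permuted.
-/

set_option autoImplicit false
set_option linter.unusedSimpArgs false
set_option linter.unusedSectionVars false

namespace Cfsg.Agent.TwistAutRigid

open Cfsg.Lie Cfsg.Agent Cfsg.Agent.ChevalleyCert Cfsg.Agent.ChevalleyCore Cfsg.Agent.ChevWeyl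
  Cfsg.Agent.ChevBruhat Cfsg.Agent.TwistedCore

variable {D : ChevalleyDatum} {C : Cert D} {F : Type*} [Field F] [Fintype F]
  {T : Twist C F} {G1 : Subgroup (GL D.Idx F)} (K : Classes T G1)

/-- `U¹` inside the group -/
def U1 (G1 : Subgroup (GL D.Idx F)) : Subgroup ↥G1 := (D.posUnipotent F).subgroupOf G1

/-- `V¹` inside the group -/
def V1 (G1 : Subgroup (GL D.Idx F)) : Subgroup ↥G1 := (D.negUnipotent F).subgroupOf G1

/-- `B¹` inside the group -/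
def B1 (G1 : Subgroup (GL D.Idx F)) : Subgroup ↥G1 := (D.borelSubgroup F).subgroupOf G1

theorem U1_le_B1 : U1 G1 ≤ B1 G1 := fun _ h => Sys.U_le_B h

include K in
theorem U1_inf_V1 {y : ↥G1} (hu : y ∈ U1 G1) (hv : y ∈ V1 G1) : y = 1 :=
  Subtype.ext (Subgroup.mem_bot.mp (T.S.B_inf_V.le ⟨Sys.U_le_B hu, hv⟩))

theorem bnPair_B : K.bnPair.B = B1 G1 := by
  ext g
  exact ⟨fun h => (Subgroup.mem_subgroupOf.mp h).1, fun h => Subgroup.mem_subgroupOf.mpr ⟨h, g.2⟩⟩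

/-- the representative of a class inside the group -/
def cG (J : K.κ) : ↥G1 := ⟨K.cn J, K.cn_G1 J⟩

theorem cG_mem (J : K.κ) : cG K J ∈ K.bnPair.S := ⟨J, rfl⟩

theorem cG_inj {J J' : K.κ} (h : cG K J = cG K J') : J = J' := by
  have hN : K.cnN J = K.cnN J' := Subtype.ext (congrArg Subtype.val h :)
  have hw : K.cw J = K.cw J' := (K.cn_toW J).symm.trans ((congrArg T.S.toW hN).trans (K.cn_toW J'))
  obtain ⟨i, hi, hiJ⟩ := K.cls_surj J
  have h1 := K.simple_mem J hi hiJ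
  rw [hw] at h1
  have h2 := ((K.mem_cw J' _).mp h1).2 i hi
  rw [T.X.cor_simple hi hi, if_pos rfl] at h2
  exact hiJ.symm.trans (h2 one_ne_zero)

include K in
theorem exists_ne_one (J : K.κ) : ∃ x ∈ T.UF (K.cw J), x ≠ 1 := by
  refine (Subgroup.bot_or_exists_ne_one (T.UF (K.cw J))).resolve_left fun hbot => ?_
  have h1 := K.UJ_card J
  rw [hbot, Nat.card_eq_fintype_card, Fintype.card_ofSubsingleton, one_pow] at h1
  rcases (Nat.pow_eq_one).mp h1.symm with h | h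
  · exact K.one_lt_Q.ne' h
  · exact (K.inv_cw_pos J).ne' h

include K in
/-- if a fixed element of the Weyl group is not trivial, some element of `U¹` is moved to `V` -/
theorem exists_moved {n : ↥(D.monomialSubgroup F)} (hn : (n : GL D.Idx F) ∈ G1) (h1 : T.S.toW n ≠ 1) :
    ∃ x : ↥G1, x ≠ 1 ∧ x ∈ U1 G1 ∧
      (n : GL D.Idx F) * x * (n : GL D.Idx F)⁻¹ ∈ D.negUnipotent F := by
  obtain ⟨J, -, -, -, -, hsub⟩ := K.exists_class_descent (K.toW_fix hn) h1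
  obtain ⟨x, hx, hx1⟩ := exists_ne_one K J
  refine ⟨⟨x, K.UF_le (K.cw_fix J) hx⟩, fun h => hx1 (congrArg Subtype.val h :), T.S.Uw_le_U _ hx.1, ?_⟩
  refine T.S.conj_Uw_mem_V n ?_
  refine Subgroup.closure_mono ?_ hx.1
  rintro g ⟨r, t, hr, rfl⟩
  exact ⟨r, t, hsub hr, rfl⟩

include K in
/-- the normaliser of `U¹` is `B¹` -/
theorem normalizer_U1 : Subgroup.normalizer (U1 G1 : Set ↥G1) = B1 G1 := by
  apply le_antisymm
  · intro g hg
    obtain ⟨b, hb, n, hn, u, hu, e⟩ := K.exists_form1 g.2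
    have hu' : u ∈ D.posUnipotent F := T.S.Uw_le_U _ hu.1
    suffices h : (n : GL D.Idx F) ∈ D.diagonalSubgroup F by
      show (g : GL D.Idx F) ∈ D.borelSubgroup F
      rw [e]
      exact mul_mem (mul_mem hb.1 (Sys.H_le_B h)) (Sys.U_le_B hu')
    suffices hone : T.S.toW n = 1 by
      have := (T.S.toW_eq_iff (n := 1) (m := n)).mp (by rw [map_one, hone])
      simpa using this
    by_contra hne
    obtain ⟨x, hx1, hxU, hxV⟩ := exists_moved K hn hne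
    have hug : u ∈ G1 := K.UF_le (K.toW_fix hn) hu
    set u' : ↥G1 := ⟨u, hug⟩
    have hu'' : u' ∈ U1 G1 := hu'
    have hz : u'⁻¹ * x * u' ∈ U1 G1 := mul_mem (mul_mem (inv_mem hu'') hxU) hu''
    have h2 := (Subgroup.mem_normalizer_iff.mp hg _).mp hz
    have h2' : (g : GL D.Idx F) * (u⁻¹ * (x : GL D.Idx F) * u) * (g : GL D.Idx F)⁻¹ ∈ D.borelSubgroup F :=
      Sys.U_le_B h2
    have h3 : (n : GL D.Idx F) * x * (n : GL D.Idx F)⁻¹ ∈ D.borelSubgroup F := by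
      have hbB : b ∈ D.borelSubgroup F := hb.1
      have := mul_mem (mul_mem (inv_mem hbB) h2') hbB
      simpa [e, mul_assoc] using this
    have h4 : (n : GL D.Idx F) * x * (n : GL D.Idx F)⁻¹ = 1 :=
      Subgroup.mem_bot.mp (T.S.B_inf_V.le ⟨h3, hxV⟩)
    exact hx1 (Subtype.ext (conj_eq_one_iff.mp h4))
  · intro g hg
    obtain ⟨h, hh, u, hu, e⟩ := T.S.mem_B_iff.mp (show (g : GL D.Idx F) ∈ D.borelSubgroup F from hg)
    have hn : (g : GL D.Idx F) ∈ Subgroup.normalizer (D.posUnipotent F : Set (GL D.Idx F)) := by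
      rw [e]
      exact mul_mem (T.S.H_le_normalizer hh) (Subgroup.le_normalizer hu)
    rw [Subgroup.mem_normalizer_iff]
    intro y
    exact Subgroup.mem_normalizer_iff.mp hn (y : GL D.Idx F)

include K in
/-- an element of the group over the longest element of the Weyl group -/
theorem exists_long : ∃ n : ↥(D.monomialSubgroup F), (n : GL D.Idx F) ∈ G1 ∧
    ChevAutRigid.IsLong T.S (T.S.toW n) := by
  obtain ⟨w0, hw0, hneg, -⟩ := T.exists_w0_fix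
  obtain ⟨n, hn, e⟩ := K.exists_rep hw0
  exact ⟨n, hn, e ▸ hneg⟩

theorem conj_mem_V1 {n : ↥(D.monomialSubgroup F)} (hn : (n : GL D.Idx F) ∈ G1)
    (hl : ChevAutRigid.IsLong T.S (T.S.toW n)) {y : ↥G1} :
    (⟨n, hn⟩ : ↥G1) * y * (⟨n, hn⟩ : ↥G1)⁻¹ ∈ V1 G1 ↔ y ∈ U1 G1 := by
  refine ⟨fun h => ?_, fun h => ChevAutRigid.long_U T.S hl h⟩
  have hl' : ChevAutRigid.IsLong T.S (T.S.toW n⁻¹) := by rw [map_inv]; exact hl.inv T.S
  have h' := ChevAutRigid.long_V T.S hl' (show _ ∈ D.negUnipotent F from h)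
  simpa [U1, Subgroup.mem_subgroupOf, mul_assoc] using h'

theorem conj_mem_U1 {n : ↥(D.monomialSubgroup F)} (hn : (n : GL D.Idx F) ∈ G1)
    (hl : ChevAutRigid.IsLong T.S (T.S.toW n)) {y : ↥G1} :
    (⟨n, hn⟩ : ↥G1) * y * (⟨n, hn⟩ : ↥G1)⁻¹ ∈ U1 G1 ↔ y ∈ V1 G1 := by
  refine ⟨fun h => ?_, fun h => ChevAutRigid.long_V T.S hl h⟩
  have hl' : ChevAutRigid.IsLong T.S (T.S.toW n⁻¹) := by rw [map_inv]; exact hl.inv T.S
  have h' := ChevAutRigid.long_U T.S hl' (show _ ∈ D.posUnipotent F from h)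
  simpa [V1, Subgroup.mem_subgroupOf, mul_assoc] using h'

include K in
/-- `U¹` is a Sylow subgroup -/
theorem exists_sylow (p : ℕ) [Fact p.Prime] [CharP F p] :
    ∃ P : Sylow p ↥G1, (P : Subgroup ↥G1) = U1 G1 := by
  classical
  have hp : p.Prime := Fact.out
  obtain ⟨f, -, hf⟩ := FiniteField.card F p
  have hU : IsPGroup p ↥(D.posUnipotent F) :=
    IsPGroup.of_card (n := (f : ℕ) * (D.nroots / 2)) (by rw [ChevalleyUnipotent.card_U C, hf, pow_mul])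
  have hUF : ∀ w : T.X.W, IsPGroup p ↥(T.UF w) := fun w =>
    hU.to_le (inf_le_left.trans (T.S.Uw_le_U w))
  have h1 : IsPGroup p ↥(D.posUnipotent F ⊓ G1) := hU.to_le inf_le_left
  have hU1 : IsPGroup p ↥(U1 G1) := by
    refine h1.of_injective ((G1.subtype.comp (U1 G1).subtype).codRestrict _ fun y => ?_) ?_
    · exact Subgroup.mem_inf.mpr ⟨y.2, y.1.2⟩
    · exact fun a b h => Subtype.ext (Subtype.ext (congrArg (fun z : ↥(D.posUnipotent F ⊓ G1) => (z : GL D.Idx F)) h :))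
  haveI : Finite T.X.W := Finite.of_injective _ T.X.ρ_injective
  letI : Fintype T.fixW := Fintype.ofFinite _
  refine ⟨hU1.toSylow ?_, rfl⟩
  have hidx := Subgroup.card_mul_index (U1 G1)
  have hc : Nat.card ↥(U1 G1) = Nat.card ↥(D.posUnipotent F ⊓ G1) := by
    refine Nat.card_congr ⟨fun y => ⟨y.1, y.2, y.1.2⟩, fun y => ⟨⟨y, y.2.2⟩, y.2.1⟩, fun _ => rfl, fun _ => rfl⟩
  rw [K.card_G1, K.card_B1, hc, mul_comm (Nat.card ↥(D.diagonalSubgroup F ⊓ G1)), mul_assoc] at hidx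
  rw [Nat.eq_of_mul_eq_mul_left Nat.card_pos hidx, hp.dvd_mul]
  push Not
  refine ⟨fun h => ChevalleySylow.prime_not_dvd_card_H C T.S p
    (h.trans (Subgroup.card_dvd_of_le inf_le_left)), ?_⟩
  rw [← Finset.sum_erase_add _ _ (Finset.mem_univ (1 : T.fixW))]
  intro h
  have hb : T.UF (1 : T.X.W) = ⊥ := by
    rw [eq_bot_iff]
    refine inf_le_left.trans ?_
    rw [Sys.Uw, Subgroup.closure_le]
    rintro g ⟨r, t, hr, -⟩
    rw [T.X.mem_invSet, T.X.img_one] at hr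
    exact absurd hr.2 (T.X.not_pos_and_neg hr.1)
  rw [show T.UF ((1 : T.fixW) : T.X.W) = ⊥ from hb, Subgroup.card_bot] at h
  refine hp.not_dvd_one ((Nat.dvd_add_right (Finset.dvd_sum fun w hw => ?_)).1 h)
  obtain ⟨k, hk⟩ := IsPGroup.iff_card.mp (hUF (w : T.X.W))
  rcases Nat.eq_zero_or_pos k with rfl | hk0
  · exfalso
    have hw1 : (w : T.X.W) ≠ 1 := fun e => (Finset.mem_erase.1 hw).1 (Subtype.ext e)
    have h2 := (K.main w.2).2.1
    rw [hk, pow_zero, one_pow] at h2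
    rcases (Nat.pow_eq_one).mp h2.symm with h | h
    · exact K.one_lt_Q.ne' h
    · exact hw1 (T.X.inv_eq_zero_iff.mp h)
  · exact hk ▸ dvd_pow_self p hk0.ne'

/-- `θ` fixes `U¹` and `V¹` -/
structure Fix (G1 : Subgroup (GL D.Idx F)) (θ : ↥G1 ≃* ↥G1) : Prop where
  U : ∀ y, θ y ∈ U1 G1 ↔ y ∈ U1 G1
  V : ∀ y, θ y ∈ V1 G1 ↔ y ∈ V1 G1

include K in
theorem Fix.B {θ : ↥G1 ≃* ↥G1} (hθ : Fix G1 θ) (y : ↥G1) : θ y ∈ B1 G1 ↔ y ∈ B1 G1 := by
  rw [← normalizer_U1 K, Subgroup.mem_normalizer_iff, Subgroup.mem_normalizer_iff]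
  refine ⟨fun h x => ?_, fun h x => ?_⟩
  · have := h (θ x)
    rwa [← map_inv, ← map_mul, ← map_mul, hθ.U, hθ.U] at this
  · obtain ⟨x, rfl⟩ := θ.surjective x
    rw [← map_inv, ← map_mul, ← map_mul, hθ.U, hθ.U]
    exact h x

theorem Fix.symm {θ : ↥G1 ≃* ↥G1} (hθ : Fix G1 θ) : Fix G1 θ.symm :=
  ⟨fun y => by rw [← hθ.U, MulEquiv.apply_symm_apply], fun y => by rw [← hθ.V, MulEquiv.apply_symm_apply]⟩

include K in
theorem exists_fix (θ : ↥G1 ≃* ↥G1) :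
    ∃ (x : ↥G1) (θ' : ↥G1 ≃* ↥G1), Fix G1 θ' ∧ ∀ y, θ y = x * θ' y * x⁻¹ := by
  classical
  obtain ⟨p, hp⟩ := CharP.exists F
  haveI := hp
  haveI : Fact p.Prime := ⟨CharP.char_is_prime F p⟩
  obtain ⟨P, hP⟩ := exists_sylow K p
  obtain ⟨x, hx⟩ : ∃ x : ↥G1, x • P = θ • P := MulAction.exists_smul_eq _ P (θ • P)
  have h1 : ∀ y, x⁻¹ * θ y * x ∈ U1 G1 ↔ y ∈ U1 G1 := by
    intro y
    have hmem : θ y ∈ ((x • P : Sylow p ↥G1) : Subgroup ↥G1) ↔
        θ y ∈ ((θ • P : Sylow p ↥G1) : Subgroup ↥G1) := by rw [hx]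
    rw [Sylow.pointwise_smul_def, Sylow.coe_subgroup_smul] at hmem
    rw [hP] at hmem
    rw [Subgroup.mem_pointwise_smul_iff_inv_smul_mem,
      Subgroup.mem_pointwise_smul_iff_inv_smul_mem] at hmem
    simp only [MulAut.smul_def, MulAut.inv_apply_self, MulAut.conj_inv_apply] at hmem
    exact hmem
  set θ₁ : ↥G1 ≃* ↥G1 := θ.trans (MulAut.conj x⁻¹) with hθ₁
  have hθ₁' : ∀ y, θ₁ y = x⁻¹ * θ y * x := fun y => by simp [hθ₁]
  have hU1 : ∀ y, θ₁ y ∈ U1 G1 ↔ y ∈ U1 G1 := fun y => by rw [hθ₁']; exact h1 y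
  obtain ⟨n0, hn0G, hn0⟩ := exists_long K
  set m0 : ↥G1 := ⟨n0, hn0G⟩
  obtain ⟨b, hb, n, hnG, u, hu, e⟩ := K.exists_form1 (θ₁ m0).2
  set g := θ₁ m0 with hg
  have hgU : ∀ z, z ∈ U1 G1 → ∃ v ∈ V1 G1, θ₁ v = g * z * g⁻¹ := fun z hz => by
    refine ⟨m0 * θ₁.symm z * m0⁻¹, (conj_mem_V1 hn0G hn0).mpr ?_, by simp [hg]⟩
    rw [← hU1]; simpa using hz
  set u' : ↥G1 := ⟨u, K.UF_le (K.toW_fix hnG) hu⟩
  set b' : ↥G1 := ⟨b, hb.2⟩
  set n' : ↥G1 := ⟨n, hnG⟩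
  have hu'U : u' ∈ U1 G1 := T.S.Uw_le_U _ hu.1
  have hb'N : b' ∈ Subgroup.normalizer (U1 G1 : Set ↥G1) := by rw [normalizer_U1 K]; exact hb.1
  have hge : g = b' * n' * u' := Subtype.ext e
  have hlong : ChevAutRigid.IsLong T.S (T.S.toW n) := by
    have hone : T.S.toW (n0 * n) = 1 := by
      by_contra hne
      obtain ⟨y, hy1, hyU, hyV⟩ := exists_moved K (n := n0 * n) (Subgroup.mul_mem _ hn0G hnG) hne
      have h2 : m0 * (n' * y * n'⁻¹) * m0⁻¹ ∈ V1 G1 := by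
        show ((m0 * (n' * y * n'⁻¹) * m0⁻¹ : ↥G1) : GL D.Idx F) ∈ D.negUnipotent F
        simpa [m0, n', mul_assoc] using hyV
      rw [conj_mem_V1 hn0G hn0] at h2
      obtain ⟨v, hv, hθv⟩ := hgU (u'⁻¹ * y * u') (mul_mem (mul_mem (inv_mem hu'U) hyU) hu'U)
      have hin : θ₁ v ∈ U1 G1 := by
        rw [hθv, hge, show b' * n' * u' * (u'⁻¹ * y * u') * (b' * n' * u')⁻¹ =
          b' * (n' * y * n'⁻¹) * b'⁻¹ by group]
        exact (Subgroup.mem_normalizer_iff.mp hb'N _).mp h2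
      rw [U1_inf_V1 K ((hU1 v).mp hin) hv, map_one, eq_comm, conj_eq_one_iff] at hθv
      exact hy1 (conj_eq_one_iff.mp (by rw [inv_inv]; exact hθv :
        u'⁻¹ * y * u'⁻¹⁻¹ = 1))
    intro r hr
    rw [map_mul, mul_eq_one_iff_inv_eq] at hone
    rw [← hone]
    exact hn0.inv T.S r hr
  refine ⟨x * b', θ₁.trans (MulAut.conj b'⁻¹), ⟨fun y => ?_, fun y => ?_⟩, fun y => ?_⟩
  · simp only [MulEquiv.trans_apply, MulAut.conj_apply, inv_inv]
    rw [← hU1 y]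
    exact (Subgroup.mem_normalizer_iff''.mp hb'N _).symm
  · simp only [MulEquiv.trans_apply, MulAut.conj_apply, inv_inv]
    have hy : θ₁ y = g * θ₁ (m0⁻¹ * y * m0) * g⁻¹ := by simp [hg, mul_assoc]
    rw [hy, hge]
    rw [show b'⁻¹ * (b' * n' * u' * θ₁ (m0⁻¹ * y * m0) * (b' * n' * u')⁻¹) * b' =
      n' * (u' * θ₁ (m0⁻¹ * y * m0) * u'⁻¹) * n'⁻¹ by group,
      conj_mem_V1 hnG hlong, Subgroup.mul_mem_cancel_right _ (inv_mem hu'U),
      Subgroup.mul_mem_cancel_left _ hu'U, hU1, ← conj_mem_V1 hn0G hn0]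
    simp [m0, mul_assoc]
  · simp [hθ₁', mul_assoc]

/-! ### classes -/

/-- `X_J` inside the group -/
def XJ (J : K.κ) : Subgroup ↥G1 := (T.UF (K.cw J)).subgroupOf G1

/-- `X_{-J}` inside the group -/
def YJ (J : K.κ) : Subgroup ↥G1 := (XJ K J).map (MulAut.conj (cG K J)).toMonoidHom

theorem XJ_le (J : K.κ) : XJ K J ≤ U1 G1 := fun _ h => T.S.Uw_le_U _ h.1

theorem YJ_le (J : K.κ) : YJ K J ≤ V1 G1 := by
  rintro _ ⟨x, hx, rfl⟩
  exact T.S.conj_Uw_mem_V (K.cnN J) (by rw [K.cn_toW J]; exact hx.1)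

theorem card_XJ (J : K.κ) : Nat.card ↥(XJ K J) = Nat.card ↥(T.UF (K.cw J)) :=
  Nat.card_congr (Subgroup.subgroupOfEquivOfLe (K.UF_le (K.cw_fix J))).toEquiv

theorem card_YJ (J : K.κ) : Nat.card ↥(YJ K J) = Nat.card ↥(XJ K J) :=
  Nat.card_congr (Subgroup.equivMapOfInjective _ _ (MulAut.conj (cG K J)).injective).symm.toEquiv

/-- the minimal parabolic subgroup of a class -/
noncomputable def Par (J : K.κ) : Subgroup ↥G1 := K.bnPair.parabolic {cG K J}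

theorem B1_le_Par (J : K.κ) : B1 G1 ≤ Par K J :=
  (bnPair_B K).symm.le.trans (BNPairLib.B_le_parabolic K.bnPair _)

theorem cG_mem_Par (J : K.κ) : cG K J ∈ Par K J :=
  BNPairLib.rep_mem_parabolic _ (Set.mem_singleton _)

theorem Par_le {J : K.κ} {M : Subgroup ↥G1} (hB : B1 G1 ≤ M) (h : cG K J ∈ M) : Par K J ≤ M :=
  sup_le ((bnPair_B K).le.trans hB) ((Subgroup.closure_le _).mpr (Set.singleton_subset_iff.mpr h))

theorem YJ_le_Par (J : K.κ) : YJ K J ≤ Par K J := by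
  rintro _ ⟨x, hx, rfl⟩
  exact mul_mem (mul_mem (cG_mem_Par K J) (B1_le_Par K J (U1_le_B1 (XJ_le K J hx))))
    (inv_mem (cG_mem_Par K J))

theorem Par_inj {J J' : K.κ} (h : cG K J ∈ Par K J') : J = J' :=
  cG_inj K ((BNPairLib.rep_mem_parabolic_iff K.bnPair (J := {cG K J'})
    (Set.singleton_subset_iff.mpr (cG_mem K J')) ⟨cG K J, cG_mem K J⟩).mp h)

theorem exists_rep_mem {M : Subgroup ↥G1} (hB : B1 G1 ≤ M) {z : ↥G1} (hz : z ∈ M) (hzB : z ∉ B1 G1) :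
    ∃ J, cG K J ∈ M := by
  by_contra hcon
  push Not at hcon
  have hM := BNPairLib.eq_parabolic K.bnPair ((bnPair_B K).le.trans hB)
  have he : {s | s ∈ K.bnPair.S ∧ s ∈ M} = (∅ : Set ↥G1) := by
    refine Set.eq_empty_iff_forall_notMem.mpr ?_
    rintro _ ⟨⟨J, rfl⟩, hs⟩
    exact hcon J hs
  rw [he, Cfsg.BNPair.parabolic, Subgroup.closure_empty, sup_bot_eq] at hM
  rw [hM, bnPair_B] at hz
  exact hzB hz

theorem cG_notMem (J : K.κ) : cG K J ∉ B1 G1 :=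
  bnPair_B K ▸ BNPairLib.rep_not_mem K.bnPair ⟨_, cG_mem K J⟩

/-- `θ` permutes the minimal parabolic subgroups -/
theorem exists_perm {θ : ↥G1 ≃* ↥G1} (hθ : Fix G1 θ) :
    ∃ π : Equiv.Perm K.κ, ∀ J y, θ y ∈ Par K (π J) ↔ y ∈ Par K J := by
  classical
  have key : ∀ {α : ↥G1 ≃* ↥G1}, Fix G1 α → ∀ J, ∃ J', ∀ y, y ∈ Par K J' → α y ∈ Par K J := by
    intro α hα J
    let M : Subgroup ↥G1 := (Par K J).comap α.toMonoidHom
    have hB : B1 G1 ≤ M := fun b hb => B1_le_Par K J ((Fix.B K hα b).mpr hb)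
    have hz : α.symm (cG K J) ∈ M := by simpa [M] using cG_mem_Par K J
    have hzB : α.symm (cG K J) ∉ B1 G1 := fun h =>
      cG_notMem K J (by simpa using (Fix.B K hα _).mpr h)
    obtain ⟨J', hJ'⟩ := exists_rep_mem K hB hz hzB
    exact ⟨J', fun y hy => Par_le K hB hJ' hy⟩
  have key2 : ∀ J, ∃ J', ∀ y, θ y ∈ Par K J' ↔ y ∈ Par K J := by
    intro J
    obtain ⟨J', hJ'⟩ := key hθ.symm J
    obtain ⟨J'', hJ''⟩ := key hθ J'
    have hJJ : J'' = J := Par_inj K (by simpa using hJ' _ (hJ'' _ (cG_mem_Par K J'')))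
    refine ⟨J', fun y => ⟨fun hy => by simpa using hJ' _ hy, fun hy => hJ'' _ (hJJ ▸ hy)⟩⟩
  choose f hf using key2
  have hinj : Function.Injective f := by
    intro J J' h
    refine Par_inj K ?_
    rw [← hf J', ← h, hf J]
    exact cG_mem_Par K J
  haveI : Finite K.κ := Finite.of_surjective (fun i : Fin D.rank => K.cls i) fun J => by
    obtain ⟨i, hi, e⟩ := K.cls_surj J
    exact ⟨⟨i, hi⟩, e⟩
  exact ⟨Equiv.ofBijective f (Finite.injective_iff_bijective.mp hinj), hf⟩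

/-- a coset form for the minimal parabolic subgroups -/
theorem Par_form {J : K.κ} {y : ↥G1} (hy : y ∈ Par K J) :
    y ∈ B1 G1 ∨ ∃ b ∈ B1 G1, ∃ x ∈ XJ K J, y = b * cG K J * x := by
  obtain ⟨w, hw, hwy⟩ := (BNPairLib.mem_parabolic K.bnPair
    (Set.singleton_subset_iff.mpr (cG_mem K J))).mp hy
  have hw2 : w = 1 ∨ w = BNPairLib.σ K.bnPair ⟨cG K J, cG_mem K J⟩ := by
    obtain ⟨l, hl, rfl⟩ := BNPairLib.exists_wd_of_mem_closure K.bnPair hw
    clear hwy hw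
    induction l with
    | nil => exact Or.inl rfl
    | cons s l ih =>
      have hs : s = ⟨cG K J, cG_mem K J⟩ := Subtype.ext (hl s (by simp))
      rw [BNPairLib.wd_cons, hs]
      rcases ih (fun x hx => hl x (List.mem_cons_of_mem _ hx)) with h | h <;> rw [h]
      · exact Or.inr (mul_one _)
      · exact Or.inl (BNPairLib.σ_mul_self _ _)
  rcases hw2 with rfl | rfl
  · exact Or.inl (bnPair_B K ▸ (BNPairLib.mem_cell_one _).mp hwy)
  obtain ⟨a, ha, b, hb, rfl⟩ := BNPairLib.exists_eq_mul K.bnPair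
    ⟨cG K J, K.bnPair.subset (cG_mem K J)⟩ rfl hwy
  rw [bnPair_B] at ha hb
  obtain ⟨b₂, hb₂, n, hn, u, hu, e⟩ := K.exists_form1 (a * cG K J * b).2
  have e' : (a : GL D.Idx F) * K.cn J * b = b₂ * (n : GL D.Idx F) * u := e
  have hwn : T.S.toW n = K.cw J :=
    (T.S.toW_unique (n := K.cnN J) ha hb₂.1 hb (Sys.U_le_B (T.S.Uw_le_U _ hu.1)) e').symm.trans (K.cn_toW J)
  have hH : (n : GL D.Idx F) * (K.cn J)⁻¹ ∈ D.borelSubgroup F := by
    apply Sys.H_le_B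
    have h1 := T.S.toW_eq_iff.mp ((K.cn_toW J).trans hwn.symm)
    have := T.S.conj_H (T.S.acts_toW (K.cnN J)) h1
    simpa [mul_assoc] using this
  refine Or.inr ⟨⟨b₂ * ((n : GL D.Idx F) * (K.cn J)⁻¹), mul_mem hb₂.2 (mul_mem hn (inv_mem (K.cn_G1 J)))⟩,
    mul_mem hb₂.1 hH, ⟨u, K.UF_le (K.toW_fix hn) hu⟩, (show u ∈ T.UF (K.cw J) by rw [← hwn]; exact hu),
    Subtype.ext ?_⟩
  refine e'.trans ?_
  show _ = b₂ * ((n : GL D.Idx F) * (K.cn J)⁻¹) * K.cn J * u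
  group

/-- `V¹ ∩ P_J = X_{-J}` -/
theorem V1_inf_Par (J : K.κ) : V1 G1 ⊓ Par K J = YJ K J := by
  classical
  obtain ⟨p, hp⟩ := CharP.exists F
  haveI := hp
  haveI hpf : Fact p.Prime := ⟨CharP.char_is_prime F p⟩
  have hle : YJ K J ≤ V1 G1 ⊓ Par K J := le_inf (YJ_le K J) (YJ_le_Par K J)
  refine (Subgroup.eq_of_le_of_card_ge hle ?_).symm
  -- the count
  have hB : ∀ y : ↥(V1 G1 ⊓ Par K J), (y : ↥G1) ∈ B1 G1 → y = 1 := fun y hy =>
    Subtype.ext (Subtype.ext (Subgroup.mem_bot.mp (T.S.B_inf_V.le ⟨hy, y.2.1⟩)))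
  have hex : ∀ y : ↥(V1 G1 ⊓ Par K J), (y : ↥G1) ∉ B1 G1 →
      ∃ z : ↥(XJ K J), ∃ b ∈ B1 G1, (y : ↥G1) = b * cG K J * z := fun y hy => by
    rcases Par_form K y.2.2 with h | ⟨b, hb, z, hz, h⟩
    · exact absurd h hy
    · exact ⟨⟨z, hz⟩, b, hb, h⟩
  choose z b hb hz using hex
  let φ : ↥(V1 G1 ⊓ Par K J) → Option ↥(XJ K J) := fun y =>
    if h : (y : ↥G1) ∈ B1 G1 then none else some (z y h)
  have hφ : Function.Injective φ := by
    intro y y' h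
    by_cases h1 : (y : ↥G1) ∈ B1 G1 <;> by_cases h2 : (y' : ↥G1) ∈ B1 G1
    · rw [hB y h1, hB y' h2]
    · simp [φ, h1, h2] at h
    · simp [φ, h1, h2] at h
    · simp only [φ, dif_neg h1, dif_neg h2, Option.some.injEq] at h
      have hq : ((y * y'⁻¹ : ↥(V1 G1 ⊓ Par K J)) : ↥G1) ∈ B1 G1 := by
        rw [Subgroup.coe_mul, Subgroup.coe_inv, hz y h1, hz y' h2, h,
          show b y h1 * cG K J * ↑(z y' h2) * (b y' h2 * cG K J * ↑(z y' h2))⁻¹ = b y h1 * (b y' h2)⁻¹ by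
            group]
        exact mul_mem (hb y h1) (inv_mem (hb y' h2))
      exact mul_inv_eq_one.mp (hB _ hq)
  have hcard := Nat.card_le_card_of_injective φ hφ
  rw [Finite.card_option, ← card_YJ] at hcard
  -- powers of `p`
  obtain ⟨P, hP⟩ := exists_sylow K p
  obtain ⟨n0, hn0G, hn0⟩ := exists_long K
  have hV : IsPGroup p ↥(V1 G1) := by
    have hU : IsPGroup p ↥(U1 G1) := hP ▸ P.isPGroup'
    refine hU.of_injective (((MulAut.conj (⟨n0, hn0G⟩ : ↥G1)).toMonoidHom.comp (V1 G1).subtype).codRestrict _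
      fun y => (conj_mem_U1 hn0G hn0).mpr y.2) ?_
    intro a b h
    exact Subtype.ext ((MulAut.conj _).injective (congrArg Subtype.val h :))
  have hbig : IsPGroup p ↥(V1 G1 ⊓ Par K J) := hV.to_le inf_le_left
  obtain ⟨a, ha⟩ := IsPGroup.iff_card.mp hbig
  obtain ⟨c, hc⟩ := IsPGroup.iff_card.mp (hbig.to_le hle)
  have h1 : 1 < Nat.card ↥(YJ K J) := by
    rw [card_YJ, card_XJ, Finite.one_lt_card_iff_nontrivial, Subgroup.nontrivial_iff_exists_ne_one]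
    exact exists_ne_one K J
  by_contra hlt
  rw [ha, hc] at hlt hcard
  rw [hc] at h1
  push Not at hlt
  have hp2 := hpf.out.two_le
  have h2 : c < a := (Nat.pow_lt_pow_iff_right hp2).mp hlt
  have h3 : p ^ (c + 1) ≤ p ^ a := Nat.pow_le_pow_right (by omega) h2
  rw [pow_succ] at h3
  have : 2 * p ^ c ≤ p ^ c * p := by rw [mul_comm 2]; exact Nat.mul_le_mul_left _ hp2
  omega

include K in
/-- the element over `w₀` carries `X_{-J}` to `X_J` when `w₀` fixes every class up to sign -/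
theorem long_conj_YJ {n0 : ↥(D.monomialSubgroup F)} (hn0G : (n0 : GL D.Idx F) ∈ G1)
    (hop : ∀ J, ∀ r ∈ T.X.invSet (K.cw J), T.X.img (T.S.toW n0) (D.neg r) ∈ T.X.invSet (K.cw J))
    (J : K.κ) : (YJ K J).map (MulAut.conj (⟨n0, hn0G⟩ : ↥G1)).toMonoidHom = XJ K J := by
  refine Subgroup.eq_of_le_of_card_ge ?_ ?_
  · rintro _ ⟨_, ⟨x, hx, rfl⟩, rfl⟩
    have hm : (n0 : GL D.Idx F) * K.cn J ∈ G1 := mul_mem hn0G (K.cn_G1 J)
    refine ⟨?_, K.G1_le (Subtype.prop _)⟩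
    have hacts := T.S.acts_toW (n0 * K.cnN J)
    have : ((n0 * K.cnN J : ↥(D.monomialSubgroup F)) : GL D.Idx F) * x *
        ((n0 * K.cnN J : ↥(D.monomialSubgroup F)) : GL D.Idx F)⁻¹ ∈ T.S.Uw (K.cw J) := by
      refine Sys.conj_closure_le (T := {g | ∃ r t, r ∈ T.X.invSet (K.cw J) ∧ g = T.S.xg r t}) _ ?_ hx.1
      rintro y ⟨r, t, hr, rfl⟩
      obtain ⟨hpos, hneg⟩ := T.X.mem_invSet.mp hr
      obtain ⟨c, -, hc, -⟩ := hacts r hpos.1
      rw [hc, map_mul, K.cn_toW J, T.X.img_mul]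
      refine Subgroup.subset_closure ⟨_, _, ?_, rfl⟩
      have hs : D.neg (T.X.img (K.cw J) r) ∈ T.X.invSet (K.cw J) := by
        rw [T.X.mem_invSet]
        refine ⟨(T.X.pos_neg_iff hneg.1).mpr hneg, ?_⟩
        have h2 : T.X.img (K.cw J) (T.X.img (K.cw J) r) = r := by
          rw [← T.X.img_mul, show K.cw J * K.cw J = 1 from K.cl_sq J, T.X.img_one]
        rw [T.X.img_neg _ hneg.1, h2, ← T.X.pos_neg_iff (T.X.root_facts hpos.1).1,
          (T.X.root_facts hpos.1).2.1]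
        exact hpos
      have := hop J _ hs
      rwa [(T.X.root_facts hneg.1).2.1] at this
    simpa [cG, mul_assoc] using this
  · rw [Nat.card_congr (Subgroup.equivMapOfInjective _ _
      (MulAut.conj (⟨n0, hn0G⟩ : ↥G1)).injective).symm.toEquiv, card_YJ]

include K in
/-- the automorphism permutes the subgroups of the classes -/
theorem exists_class_perm {θ : ↥G1 ≃* ↥G1} (hθ : Fix G1 θ)
    (hop : ∃ w : T.X.W, (∀ r, D.IsPosRoot r → D.IsNegRoot (T.X.img w r)) ∧ w ∈ T.fixW ∧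
      ∀ J, ∀ r ∈ T.X.invSet (K.cw J), T.X.img w (D.neg r) ∈ T.X.invSet (K.cw J)) :
    ∃ π : Equiv.Perm K.κ, (∀ J y, θ y ∈ XJ K (π J) ↔ y ∈ XJ K J) ∧
      (∀ J y, θ y ∈ YJ K (π J) ↔ y ∈ YJ K J) ∧
      ∀ J, Nat.card ↥(XJ K (π J)) = Nat.card ↥(XJ K J) := by
  obtain ⟨π, hπ⟩ := exists_perm K hθ
  obtain ⟨w, hwl, hwf, hwop⟩ := hop
  obtain ⟨n0, hn0G, e⟩ := K.exists_rep hwf
  subst e
  set m0 : ↥G1 := ⟨n0, hn0G⟩
  have hY : ∀ J y, θ y ∈ YJ K (π J) ↔ y ∈ YJ K J := fun J y => by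
    rw [← V1_inf_Par, ← V1_inf_Par, Subgroup.mem_inf, Subgroup.mem_inf, hθ.V, hπ]
  -- `θ m0` differs from `m0` by an element of `B¹` normalising `V¹`
  set h := θ m0 * m0⁻¹ with hh
  have hUV : ∀ y, h * y * h⁻¹ ∈ U1 G1 ↔ y ∈ U1 G1 := fun y => by
    obtain ⟨v, hv⟩ : ∃ v, θ v = m0⁻¹ * y * m0 := θ.surjective _
    have e1 : h * y * h⁻¹ = θ (m0 * v * m0⁻¹) := by rw [map_mul, map_mul, map_inv, hv, hh]; group
    rw [e1, hθ.U, conj_mem_U1 hn0G hwl, ← hθ.V, hv, ← conj_mem_U1 hn0G hwl]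
    simp [m0, mul_assoc]
  have hVV : ∀ y, h * y * h⁻¹ ∈ V1 G1 ↔ y ∈ V1 G1 := fun y => by
    obtain ⟨v, hv⟩ : ∃ v, θ v = m0⁻¹ * y * m0 := θ.surjective _
    have e1 : h * y * h⁻¹ = θ (m0 * v * m0⁻¹) := by rw [map_mul, map_mul, map_inv, hv, hh]; group
    rw [e1, hθ.V, conj_mem_V1 hn0G hwl, ← hθ.U, hv, ← conj_mem_V1 hn0G hwl]
    simp [m0, mul_assoc]
  have hB : h ∈ B1 G1 := by
    rw [← normalizer_U1 K, Subgroup.mem_normalizer_iff]
    exact fun y => (hUV y).symm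
  have hYh : ∀ J y, h * y * h⁻¹ ∈ YJ K J ↔ y ∈ YJ K J := fun J y => by
    rw [← V1_inf_Par, Subgroup.mem_inf, Subgroup.mem_inf, hVV,
      Subgroup.mul_mem_cancel_right _ (inv_mem (B1_le_Par K J hB)),
      Subgroup.mul_mem_cancel_left _ (B1_le_Par K J hB)]
  have hX : ∀ J y, y ∈ XJ K J ↔ m0⁻¹ * y * m0 ∈ YJ K J := fun J y => by
    conv_lhs => rw [← long_conj_YJ K hn0G hwop J]
    rw [Subgroup.mem_map_equiv, MulAut.conj_symm_apply]
  refine ⟨π, fun J y => ?_, hY, fun J => ?_⟩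
  · rw [hX, hX J y, ← hY J]
    have e1 : θ (m0⁻¹ * y * m0) = (m0⁻¹ * h⁻¹ * m0) * (m0⁻¹ * θ y * m0) * (m0⁻¹ * h⁻¹ * m0)⁻¹ := by
      rw [map_mul, map_mul, map_inv, hh]; group
    set k := m0⁻¹ * h⁻¹ * m0 with hk
    rw [e1]
    have hkU : ∀ z, k * z * k⁻¹ ∈ U1 G1 ↔ z ∈ U1 G1 := fun z => by
      have a : k * z * k⁻¹ = m0⁻¹ * (h⁻¹ * (m0 * z * m0⁻¹) * h) * m0 := by rw [hk]; group
      have b := hVV (h⁻¹ * (m0 * z * m0⁻¹) * h)
      rw [show h * (h⁻¹ * (m0 * z * m0⁻¹) * h) * h⁻¹ = m0 * z * m0⁻¹ by group, conj_mem_V1 hn0G hwl] at b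
      rw [a, b, ← conj_mem_V1 hn0G hwl]
      simp [m0, mul_assoc]
    have hkV : ∀ z, k * z * k⁻¹ ∈ V1 G1 ↔ z ∈ V1 G1 := fun z => by
      have a : k * z * k⁻¹ = m0⁻¹ * (h⁻¹ * (m0 * z * m0⁻¹) * h) * m0 := by rw [hk]; group
      have b := hUV (h⁻¹ * (m0 * z * m0⁻¹) * h)
      rw [show h * (h⁻¹ * (m0 * z * m0⁻¹) * h) * h⁻¹ = m0 * z * m0⁻¹ by group, conj_mem_U1 hn0G hwl] at b
      rw [a, b, ← conj_mem_U1 hn0G hwl]
      simp [m0, mul_assoc]
    have hkB : k ∈ B1 G1 := by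
      rw [← normalizer_U1 K, Subgroup.mem_normalizer_iff]
      exact fun z => (hkU z).symm
    rw [← V1_inf_Par, Subgroup.mem_inf, Subgroup.mem_inf, hkV,
      Subgroup.mul_mem_cancel_right _ (inv_mem (B1_le_Par K _ hkB)),
      Subgroup.mul_mem_cancel_left _ (B1_le_Par K _ hkB)]
  · rw [← card_YJ, ← card_YJ K J]
    exact (Nat.card_congr (θ.toEquiv.subtypeEquiv fun y => (hY J y).symm)).symm

end Cfsg.Agent.TwistAutRigid
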