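import Cfsg.Agent.Lib.ChevalleySL2

/-!
An automorphism permuting the two unipotent subgroups of a homomorphic image of `SL₂` is semilinear.
-/

set_option autoImplicit false
set_option linter.unusedSectionVars false

namespace Cfsg.Agent.TwistAutSL2

open Matrix Cfsg.Agent.ChevalleySL2
open scoped MatrixGroups

variable {L : Type*} [Field L] {G : Type*} [Group G]

theorem upper_val (t : L) : ((upper t : SL(2, L)) : Matrix (Fin 2) (Fin 2) L) = !![1, t; 0, 1] := rfl

theorem lower_val (t : L) : ((lower t : SL(2, L)) : Matrix (Fin 2) (Fin 2) L) = !![1, 0; t, 1] := rfl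

/-- the element `n(t)` of `SL₂` -/
def nel (t : L) : SL(2, L) := upper t * lower (-t⁻¹) * upper t

theorem nel_conj {t : L} (ht : t ≠ 0) (u : L) :
    nel t * upper u * (nel t)⁻¹ = lower (-(u / t ^ 2)) := by
  rw [mul_inv_eq_iff_eq_mul]
  ext i j
  fin_cases i <;> fin_cases j <;>
    simp [nel, upper_val, lower_val, Matrix.SpecialLinearGroup.coe_mul, Matrix.mul_apply, Fin.sum_univ_two] <;>
    (try field_simp) <;> (try ring_nf) <;> simp

/-- the data: two injective unipotent images with trivial intersection -/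
structure Pair (Φ : SL(2, L) →* G) (U V : Subgroup G) : Prop where
  memU : ∀ t, Φ (upper t) ∈ U
  memV : ∀ t, Φ (lower t) ∈ V
  disj : ∀ g, g ∈ U → g ∈ V → g = 1
  upper_eq_one : ∀ t, Φ (upper t) = 1 → t = 0

variable {Φ : SL(2, L) →* G} {U V : Subgroup G} (P : Pair Φ U V)
include P

theorem upper_inj {a b : L} (h : Φ (upper a) = Φ (upper b)) : a = b := by
  refine sub_eq_zero.mp (P.upper_eq_one _ ?_)
  rw [show upper (a - b) = upper a * (upper b)⁻¹ from ?_, map_mul, map_inv, h, mul_inv_cancel]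
  rw [eq_mul_inv_iff_mul_eq]
  ext i j
  fin_cases i <;> fin_cases j <;> simp [upper_val, Matrix.SpecialLinearGroup.coe_mul, Matrix.mul_apply, Fin.sum_univ_two]

theorem entry_zero {g : SL(2, L)} (h : Φ g = 1) : (g : Matrix (Fin 2) (Fin 2) L) 0 1 = 0 := by
  by_contra hb
  set M := (g : Matrix (Fin 2) (Fin 2) L) with hM
  have hdet := ChevalleySL2.det_eq g
  rw [← hM] at hdet
  let w : SL(2, L) := ⟨!![0, M 0 1; -(M 0 1)⁻¹, 0], by simp [det_fin_two_of, hb]⟩
  have hwv : (w : Matrix (Fin 2) (Fin 2) L) = !![0, M 0 1; -(M 0 1)⁻¹, 0] := rfl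
  have e : g = lower (M 1 1 / M 0 1) * w * lower (M 0 0 / M 0 1) := by
    ext i j
    fin_cases i <;> fin_cases j <;>
      simp [lower_val, hwv, Matrix.SpecialLinearGroup.coe_mul, Matrix.mul_apply, Fin.sum_univ_two, ← hM] <;> field_simp
    · linear_combination -hdet
  rw [e, map_mul, map_mul] at h
  have hw : Φ w ∈ V := by
    have h2 : Φ w = (Φ (lower (M 1 1 / M 0 1)))⁻¹ * (Φ (lower (M 0 0 / M 0 1)))⁻¹ := by
      rw [eq_inv_mul_iff_mul_eq, eq_inv_iff_mul_eq_one, h]
    rw [h2]
    exact mul_mem (inv_mem (P.memV _)) (inv_mem (P.memV _))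
  have e2 : w * lower 1 * w⁻¹ = upper (-(M 0 1) ^ 2) := by
    rw [mul_inv_eq_iff_eq_mul]
    ext i j
    fin_cases i <;> fin_cases j <;>
      simp [lower_val, upper_val, hwv, Matrix.SpecialLinearGroup.coe_mul, Matrix.mul_apply, Fin.sum_univ_two] <;> field_simp <;> ring
  have hV : Φ (upper (-(M 0 1) ^ 2)) ∈ V := by
    rw [← e2, map_mul, map_mul, map_inv]
    exact mul_mem (mul_mem hw (P.memV _)) (inv_mem hw)
  have := P.upper_eq_one _ (P.disj _ (P.memU _) hV)
  exact hb (by simpa using this)

theorem rank_one {a s u : L}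
    (h : Φ (upper a * lower s * upper a * upper 1 * (upper a * lower s * upper a)⁻¹) = Φ (lower u)) :
    1 + a * s = 0 := by
  rw [← mul_inv_eq_one, ← map_inv, ← map_mul] at h
  have := entry_zero P h
  simp [upper_val, lower_val, Matrix.SpecialLinearGroup.coe_mul, Matrix.mul_apply, Fin.sum_univ_two, Matrix.SpecialLinearGroup.coe_inv,
    Matrix.adjugate_fin_two] at this
  have h2 : (1 + a * s) ^ 2 = 0 := by linear_combination this
  exact pow_eq_zero_iff two_ne_zero |>.mp h2

theorem semilinear [Finite L] (θ : G ≃* G) (f g : L → L) (hf : ∀ t, θ (Φ (upper t)) = Φ (upper (f t)))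
    (hg : ∀ t, θ (Φ (lower t)) = Φ (lower (g t))) (h1 : f 1 = 1) :
    ∃ τ : L ≃+* L, ∀ t, f t = τ t ∧ g t = τ t := by
  have hadd : ∀ a b, f (a + b) = f a + f b := fun a b => by
    refine upper_inj P ?_
    have e : ∀ a b : L, upper (a + b) = upper a * upper b := fun a b => by
      ext i j
      fin_cases i <;> fin_cases j <;> simp [upper_val, Matrix.SpecialLinearGroup.coe_mul, Matrix.mul_apply, Fin.sum_univ_two, add_comm]
    rw [← hf, e, map_mul, map_mul, hf, hf, ← map_mul, ← e]
  have h0 : f 0 = 0 := by simpa using hadd 0 0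
  have hneg : ∀ a, f (-a) = -f a := fun a => by
    have := hadd a (-a); rw [add_neg_cancel, h0] at this; linear_combination -this
  have hinj : Function.Injective f := fun a b h => by
    refine upper_inj P (θ.injective ?_)
    rw [hf, hf, h]
  have hsurj : Function.Surjective f := Finite.surjective_of_injective hinj
  have hne : ∀ t, t ≠ 0 → f t ≠ 0 := fun t ht h => ht (hinj (h.trans h0.symm))
  have hrel : ∀ t, t ≠ 0 → g (-t⁻¹) = -(f t)⁻¹ := by
    intro t ht
    obtain ⟨u, hu⟩ := hsurj 1
    have h := congrArg θ (congrArg Φ (nel_conj ht u))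
    simp only [nel, map_mul, map_inv, hf, hg, hu] at h
    simp only [← map_mul, ← map_inv] at h
    have h2 := rank_one P h
    have h3 := hne t ht
    apply mul_left_cancel₀ h3
    rw [mul_neg, mul_inv_cancel₀ h3]
    linear_combination h2
  have hn : ∀ t, t ≠ 0 → θ (Φ (nel t)) = Φ (nel (f t)) := fun t ht => by
    simp only [nel, map_mul, hf, hg, hrel t ht]
  have hlow : ∀ a b : L, Φ (lower a) = Φ (lower b) → a = b := fun a b h => by
    have h' := congrArg (fun z => Φ (nel (1 : L))⁻¹ * z * Φ (nel (1 : L))) h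
    have e : ∀ a : L, (nel (1 : L))⁻¹ * lower a * nel 1 = upper (-a) := fun a => by
      have := nel_conj (L := L) one_ne_zero (-a)
      simp only [one_pow, div_one, neg_neg] at this
      rw [← this]; group
    simp only [← map_inv, ← map_mul, e] at h'
    exact neg_injective (upper_inj P h')
  have hsq : ∀ t, t ≠ 0 → ∀ u, g (-(u / t ^ 2)) = -(f u / f t ^ 2) := by
    intro t ht u
    refine hlow _ _ ?_
    rw [← hg, ← nel_conj ht u, ← nel_conj (hne t ht) (f u)]
    simp only [map_mul, map_inv, hf, hn t ht]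
  have hgf : ∀ t, g t = f t := fun t => by
    have := hsq 1 one_ne_zero (-t)
    simpa [h1, hneg] using this
  have hdiv : ∀ t, t ≠ 0 → ∀ u, f (u / t ^ 2) = f u / f t ^ 2 := fun t ht u => by
    have := hsq t ht u
    rwa [hgf, hneg, neg_inj] at this
  have hmulsq : ∀ u t, f (u * t ^ 2) = f u * f t ^ 2 := by
    intro u t
    rcases eq_or_ne t 0 with rfl | ht
    · simp [h0]
    have := hdiv t ht (u * t ^ 2)
    rw [mul_div_assoc, div_self (pow_ne_zero 2 ht), mul_one] at this
    rw [this, div_mul_cancel₀ _ (pow_ne_zero 2 (hne t ht))]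
  have hmul : ∀ a b, f (a * b) = f a * f b := by
    by_cases h2 : (2 : L) = 0
    · intro a b
      haveI : CharP L 2 := CharTwo.of_one_ne_zero_of_two_eq_zero one_ne_zero h2
      obtain ⟨c, rfl⟩ : ∃ c, c ^ 2 = b := by
        refine Finite.surjective_of_injective (f := fun c : L => c ^ 2) (fun x y h => ?_) b
        exact CharTwo.sq_inj.mp h
      rw [hmulsq, ← one_mul (c ^ 2), hmulsq, h1]
      ring
    · intro a b
      have e := hmulsq 1 (a + b)
      have ea := hmulsq 1 a
      have eb := hmulsq 1 b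
      rw [one_mul, h1, one_mul] at e ea eb
      have e2 : f (2 * (a * b)) = 2 * (f a * f b) := by
        have h3 : (a + b) ^ 2 = a ^ 2 + b ^ 2 + 2 * (a * b) := by ring
        rw [h3, hadd, hadd, ea, eb, hadd a b] at e
        linear_combination e
      rw [two_mul, hadd, ← two_mul] at e2
      exact mul_left_cancel₀ h2 e2
  exact ⟨{ Equiv.ofBijective f ⟨hinj, hsurj⟩ with map_mul' := hmul, map_add' := hadd }, fun t => ⟨rfl, hgf t⟩⟩

end Cfsg.Agent.TwistAutSL2
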