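import Cfsg.Agent.Lib.ChevalleyCheckSound
import Cfsg.Prelude.Def_ChevB2

/-!
Packed copies of the tables of type B2 and the kernel checks of their validity.
-/

set_option autoImplicit false
set_option maxRecDepth 100000

namespace Cfsg.Agent.ChevalleyDataB2

open Cfsg.Lie Cfsg.Agent.ChevalleyCheck Cfsg.Agent.ChevalleyCheckSound Cfsg.Agent.ChevalleyCert

def tables : Tables where
  heads := (.node 4
 (.node 2
 (.node 1
 (.leaf 0x37002900000000000000000000)
 (.leaf 0x670000004600390000001a00000000))
 (.node 3
 (.leaf 0x790056000000000029000000160000)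
 (.leaf 0x69000000000000002700000000)))
 (.node 6
 (.node 5
 (.leaf 0x7900000000000000370000)
 (.leaf 0x8a0000007700000000004a0027))
 (.node 7
 (.leaf 0x8600000067005a00000039)
 (.leaf 0x7700690000))))
  coefs := (.node 4
 (.node 2
 (.node 1
 (.leaf 0x1ee)
 (.leaf 0x1ef))
 (.node 3
 (.leaf 0x20f)
 (.leaf 0x1f0)))
 (.node 6
 (.node 5
 (.leaf 0x230)
 (.leaf 0x211))
 (.node 7
 (.leaf 0x231)
 (.leaf 0x232))))
  refl := (.node 1
 (.leaf 0x406020700050103)
 (.leaf 0x705060304010200))
  sgn := (.node 1
 (.leaf 0xff)
 (.leaf 0x5a))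
  cart := (.node 1
 (.leaf 0xa8a6a686)
 (.leaf 0x897a6978))
  coro := (.node 4
 (.node 2
 (.node 1
 (.leaf 0x1ef)
 (.leaf 0x1cf))
 (.node 3
 (.leaf 0x20f)
 (.leaf 0x1f0)))
 (.node 6
 (.node 5
 (.leaf 0x230)
 (.leaf 0x211))
 (.node 7
 (.leaf 0x251)
 (.leaf 0x231))))

theorem basic : chkBasic chevB2 = true := by decide +kernel
theorem fast : chkFast chevB2 tables = true := by decide +kernel
theorem rows : chkRows chevB2 tables 0 8 = true := by decide +kernel
theorem step : chkStep chevB2 tables 0 8 = true := by decide +kernel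
theorem coef : chkCoef chevB2 tables = true := by decide +kernel
theorem lin : chkLin chevB2 tables 0 8 = true := by decide +kernel
theorem refl0 : chkRefl chevB2 tables 0 = true := by decide +kernel
theorem refl1 : chkRefl chevB2 tables 1 = true := by decide +kernel
theorem refl : ∀ i, i < chevB2.rank → chkRefl chevB2 tables i = true
  | 0, _ => refl0
  | 1, _ => refl1
  | k + 2, h => absurd h (show ¬ k + 2 < 2 by omega)
theorem equiv0 : chkEquivAt chevB2 tables 0 0 8 = true := by decide +kernel
theorem equiv1 : chkEquivAt chevB2 tables 1 0 8 = true := by decide +kernel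
theorem equiv : ∀ i, i < chevB2.rank → chkEquivAt chevB2 tables i 0 8 = true
  | 0, _ => equiv0
  | 1, _ => equiv1
  | k + 2, h => absurd h (show ¬ k + 2 < 2 by omega)
theorem nmat0 : chkNMat chevB2 tables 0 = true := by decide +kernel
theorem nmat1 : chkNMat chevB2 tables 1 = true := by decide +kernel
theorem nmat : ∀ i, i < chevB2.rank → chkNMat chevB2 tables i = true
  | 0, _ => nmat0
  | 1, _ => nmat1
  | k + 2, h => absurd h (show ¬ k + 2 < 2 by omega)
theorem descend : chkDescend chevB2 tables = true := by decide +kernel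
theorem brk : chkBrk chevB2 tables = true := by decide +kernel
theorem comm : chkComm chevB2 tables 0 8 = true := by decide +kernel

/-- The certificate of the datum. -/
def cert : Cert chevB2 :=
  certOfChecks ⟨basic, fast, rows, step, coef, lin, refl, equiv, nmat, descend, brk, comm⟩

end Cfsg.Agent.ChevalleyDataB2
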