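import Cfsg.Agent.Lib.ChevalleyCheckSound
import Cfsg.Prelude.Def_ChevD4

/-!
Packed copies of the tables of type D4 and the kernel checks of their validity.
-/

set_option autoImplicit false
set_option maxRecDepth 100000

namespace Cfsg.Agent.ChevalleyDataD4

open Cfsg.Lie Cfsg.Agent.ChevalleyCheck Cfsg.Agent.ChevalleyCheckSound Cfsg.Agent.ChevalleyCert

def tables : Tables where
  heads := (.node 12
 (.node 6
 (.node 3
 (.node 1
 (.leaf 0xa70099008900770000005900470037002900000000000000000000000000000000000000000000000000000000)
 (.node 2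
 (.leaf 0xf7000000c700b700000077006900000000000000490039000000000019000000000000000000000000000000000000)
 (.leaf 0x10900d70000000000b70087000000690000000000590000002900000000001700000000000000000000000000000000)))
 (.node 4
 (.leaf 0x11900e70000000000c70097000000000069000000000059000000290000000000170000000000000000000000000000)
 (.node 5
 (.leaf 0x127000000e700d7000000a7000000000000006900000000004900390000000000000019000000000000000000000000)
 (.leaf 0x1270117010700f70000000000000000000000000000000000000059004900390029000000000000000000000000))))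
 (.node 9
 (.node 7
 (.leaf 0x14901390000000000000000000000c700b7000000990089000000000000000000000000002700170000000000000000)
 (.node 8
 (.leaf 0x1570000013900000000000000d70000000000b700a90000007900000000000000000000003700000019000000000000)
 (.leaf 0x1670000000001390000000000e70000000000c7000000a9000000790000000000000000004700000000001900000000)))
 (.node 10
 (.leaf 0x17900000000000001390000000000e700d7000000000000009900890000000000000000005700000000000000170000)
 (.node 11
 (.leaf 0x1590149000000000000010900f90000000000000000000000000087007700000000000000370027000000000000)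
 (.leaf 0x16900000149000000000119000000f9000000000000000000000097000000770000000000470000002700000000)))))
 (.node 18
 (.node 15
 (.node 13
 (.leaf 0x17900000159000000000129000001090000000000000000000000a700000087000000000057000000370000)
 (.node 14
 (.leaf 0x17901690000000000000129011900000000000000000000000000a70097000000000000005700470000)
 (.leaf 0x189000000000000014900000000000000000117010700000000000000c900b90000000000670000000000000027)))
 (.node 16
 (.leaf 0x18700000000015900000000000000000127000000f7000000d90000000000b9000000000067000000000039)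
 (.node 17
 (.leaf 0x18700000169000000000000000000000127000000f700e90000000000c9000000000000006700000049)
 (.leaf 0x189017900000000000000000000000001170107000000e900d90000000000000000000000670057))))
 (.node 21
 (.node 19
 (.leaf 0x17701670157014700000000000000000000000000000000000000a90099008900790000)
 (.node 20
 (.leaf 0x1870000000000000167015700000000013700000000000000f9000000c900b900000079)
 (.leaf 0x1890000000001770000014700000000013700000000010900d90000000000b90087)))
 (.node 22
 (.leaf 0x189000000000177000001470000000001370000011900e90000000000c90097)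
 (.node 23
 (.leaf 0x187000000000167015700000000000001370129000000e900d9000000a9)
 (.leaf 0x177016901590147000001290117010700f90000))))))
  coefs := (.node 12
 (.node 6
 (.node 3
 (.node 1
 (.leaf 0x7bdcf)
 (.node 2
 (.leaf 0x7bdef)
 (.leaf 0x83def)))
 (.node 4
 (.leaf 0x7c1ef)
 (.node 5
 (.leaf 0x841ef)
 (.leaf 0x8420f))))
 (.node 9
 (.node 7
 (.leaf 0x7bdf0)
 (.node 8
 (.leaf 0x83df0)
 (.leaf 0x7c1f0)))
 (.node 10
 (.leaf 0x841f0)
 (.node 11
 (.leaf 0x83e10)
 (.leaf 0x7c210)))))
 (.node 18
 (.node 15
 (.node 13
 (.leaf 0x8c210)
 (.node 14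
 (.leaf 0x84610)
 (.leaf 0x84230)))
 (.node 16
 (.leaf 0x8c230)
 (.node 17
 (.leaf 0x84630)
 (.leaf 0x8c630))))
 (.node 21
 (.node 19
 (.leaf 0x84211)
 (.node 20
 (.leaf 0x84231)
 (.leaf 0x8c231)))
 (.node 22
 (.leaf 0x84631)
 (.node 23
 (.leaf 0x8c631)
 (.leaf 0x8c651))))))
  refl := (.node 2
 (.node 1
 (.leaf 0x1711100f0e05161514130d0c0b0a04030201120908070600)
 (.leaf 0x161715141213110d0c09100f08070e0b0a06040503020001))
 (.node 3
 (.leaf 0x1714131615120f0e11100a0c0b0d07060908050201040300)
 (.leaf 0x17151613141210110e0f0d0b0c0a08090607050304010200)))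
  sgn := (.node 2
 (.node 1
 (.leaf 0x7c3e0)
 (.leaf 0x887e11))
 (.node 3
 (.leaf 0x6324c6)
 (.leaf 0x52994a)))
  cart := (.node 2
 (.node 1
 (.leaf 0x89999a777788889999677778)
 (.leaf 0x978897899a77996778978897))
 (.node 3
 (.leaf 0x8997789977a8869977899778)
 (.leaf 0x89797897978a689797897978)))
  coro := (.node 12
 (.node 6
 (.node 3
 (.node 1
 (.leaf 0x7bdcf)
 (.node 2
 (.leaf 0x7bdef)
 (.leaf 0x83def)))
 (.node 4
 (.leaf 0x7c1ef)
 (.node 5
 (.leaf 0x841ef)
 (.leaf 0x8420f))))
 (.node 9
 (.node 7
 (.leaf 0x7bdf0)
 (.node 8
 (.leaf 0x83df0)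
 (.leaf 0x7c1f0)))
 (.node 10
 (.leaf 0x841f0)
 (.node 11
 (.leaf 0x83e10)
 (.leaf 0x7c210)))))
 (.node 18
 (.node 15
 (.node 13
 (.leaf 0x8c210)
 (.node 14
 (.leaf 0x84610)
 (.leaf 0x84230)))
 (.node 16
 (.leaf 0x8c230)
 (.node 17
 (.leaf 0x84630)
 (.leaf 0x8c630))))
 (.node 21
 (.node 19
 (.leaf 0x84211)
 (.node 20
 (.leaf 0x84231)
 (.leaf 0x8c231)))
 (.node 22
 (.leaf 0x84631)
 (.node 23
 (.leaf 0x8c631)
 (.leaf 0x8c651))))))

theorem basic : chkBasic chevD4 = true := by decide +kernel
theorem fast : chkFast chevD4 tables = true := by decide +kernel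
theorem rows : chkRows chevD4 tables 0 24 = true := by decide +kernel
theorem step : chkStep chevD4 tables 0 24 = true := by decide +kernel
theorem coef : chkCoef chevD4 tables = true := by decide +kernel
theorem lin : chkLin chevD4 tables 0 24 = true := by decide +kernel
theorem refl0 : chkRefl chevD4 tables 0 = true := by decide +kernel
theorem refl1 : chkRefl chevD4 tables 1 = true := by decide +kernel
theorem refl2 : chkRefl chevD4 tables 2 = true := by decide +kernel
theorem refl3 : chkRefl chevD4 tables 3 = true := by decide +kernel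
theorem refl : ∀ i, i < chevD4.rank → chkRefl chevD4 tables i = true
  | 0, _ => refl0
  | 1, _ => refl1
  | 2, _ => refl2
  | 3, _ => refl3
  | k + 4, h => absurd h (show ¬ k + 4 < 4 by omega)
theorem equiv0 : chkEquivAt chevD4 tables 0 0 24 = true := by decide +kernel
theorem equiv1 : chkEquivAt chevD4 tables 1 0 24 = true := by decide +kernel
theorem equiv2 : chkEquivAt chevD4 tables 2 0 24 = true := by decide +kernel
theorem equiv3 : chkEquivAt chevD4 tables 3 0 24 = true := by decide +kernel
theorem equiv : ∀ i, i < chevD4.rank → chkEquivAt chevD4 tables i 0 24 = true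
  | 0, _ => equiv0
  | 1, _ => equiv1
  | 2, _ => equiv2
  | 3, _ => equiv3
  | k + 4, h => absurd h (show ¬ k + 4 < 4 by omega)
theorem nmat0 : chkNMat chevD4 tables 0 = true := by decide +kernel
theorem nmat1 : chkNMat chevD4 tables 1 = true := by decide +kernel
theorem nmat2 : chkNMat chevD4 tables 2 = true := by decide +kernel
theorem nmat3 : chkNMat chevD4 tables 3 = true := by decide +kernel
theorem nmat : ∀ i, i < chevD4.rank → chkNMat chevD4 tables i = true
  | 0, _ => nmat0
  | 1, _ => nmat1
  | 2, _ => nmat2
  | 3, _ => nmat3
  | k + 4, h => absurd h (show ¬ k + 4 < 4 by omega)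
theorem descend : chkDescend chevD4 tables = true := by decide +kernel
theorem brk : chkBrk chevD4 tables = true := by decide +kernel
theorem comm : chkComm chevD4 tables 0 24 = true := by decide +kernel

/-- The certificate of the datum. -/
def cert : Cert chevD4 :=
  certOfChecks ⟨basic, fast, rows, step, coef, lin, refl, equiv, nmat, descend, brk, comm⟩

end Cfsg.Agent.ChevalleyDataD4
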