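import Cfsg.Agent.Lib.ChevalleyCheckSound
import Cfsg.Prelude.Def_ChevE7
import Cfsg.Agent.Lib.ChevalleyDataE7A
import Cfsg.Agent.Lib.ChevalleyDataE7B
import Cfsg.Agent.Lib.ChevalleyDataE7C
import Cfsg.Agent.Lib.ChevalleyDataE7D

/-!
Packed copies of the tables of type E7 and the kernel checks of their validity.
-/

set_option autoImplicit false
set_option maxRecDepth 100000

namespace Cfsg.Agent.ChevalleyDataE7

open Cfsg.Lie Cfsg.Agent.ChevalleyCheck Cfsg.Agent.ChevalleyCheckSound Cfsg.Agent.ChevalleyCert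

theorem rows : chkRows chevE7 tables 0 126 = true :=
  (rows_join 0 120 6 (rows_join 0 60 60 rows_0 rows_1) rows_2)
theorem step : chkStep chevE7 tables 0 126 = true :=
  (step_join 0 120 6 (step_join 0 60 60 step_0 step_1) step_2)
theorem lin : chkLin chevE7 tables 0 126 = true :=
  (lin_join 0 120 6 (lin_join 0 60 60 lin_0 lin_1) lin_2)
theorem refl : ∀ i, i < chevE7.rank → chkRefl chevE7 tables i = true
  | 0, _ => refl0
  | 1, _ => refl1
  | 2, _ => refl2
  | 3, _ => refl3
  | 4, _ => refl4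
  | 5, _ => refl5
  | 6, _ => refl6
  | k + 7, h => absurd h (show ¬ k + 7 < 7 by omega)
theorem equiv0 : chkEquivAt chevE7 tables 0 0 126 = true :=
  (equiv_join 0 0 120 6 equiv0_0 equiv0_1)
theorem equiv1 : chkEquivAt chevE7 tables 1 0 126 = true :=
  (equiv_join 1 0 120 6 equiv1_0 equiv1_1)
theorem equiv2 : chkEquivAt chevE7 tables 2 0 126 = true :=
  (equiv_join 2 0 120 6 equiv2_0 equiv2_1)
theorem equiv3 : chkEquivAt chevE7 tables 3 0 126 = true :=
  (equiv_join 3 0 120 6 equiv3_0 equiv3_1)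
theorem equiv4 : chkEquivAt chevE7 tables 4 0 126 = true :=
  (equiv_join 4 0 120 6 equiv4_0 equiv4_1)
theorem equiv5 : chkEquivAt chevE7 tables 5 0 126 = true :=
  (equiv_join 5 0 120 6 equiv5_0 equiv5_1)
theorem equiv6 : chkEquivAt chevE7 tables 6 0 126 = true :=
  (equiv_join 6 0 120 6 equiv6_0 equiv6_1)
theorem equiv : ∀ i, i < chevE7.rank → chkEquivAt chevE7 tables i 0 126 = true
  | 0, _ => equiv0
  | 1, _ => equiv1
  | 2, _ => equiv2
  | 3, _ => equiv3
  | 4, _ => equiv4
  | 5, _ => equiv5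
  | 6, _ => equiv6
  | k + 7, h => absurd h (show ¬ k + 7 < 7 by omega)
theorem nmat : ∀ i, i < chevE7.rank → chkNMat chevE7 tables i = true
  | 0, _ => nmat0
  | 1, _ => nmat1
  | 2, _ => nmat2
  | 3, _ => nmat3
  | 4, _ => nmat4
  | 5, _ => nmat5
  | 6, _ => nmat6
  | k + 7, h => absurd h (show ¬ k + 7 < 7 by omega)
theorem comm : chkComm chevE7 tables 0 126 = true :=
  (comm_join 0 120 6 (comm_join 0 60 60 comm_0 comm_1) comm_2)

/-- The certificate of the datum. -/
def cert : Cert chevE7 :=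
  certOfChecks ⟨basic, fast, rows, step, coef, lin, refl, equiv, nmat, descend, brk, comm⟩

end Cfsg.Agent.ChevalleyDataE7
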