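import Cfsg.Agent.Lib.ChevalleyCheckSound
import Cfsg.Prelude.Def_ChevE8
import Cfsg.Agent.Lib.ChevalleyDataE8Tables

/-!
Packed copies of the tables of type E8 and the kernel checks of their validity.
-/

set_option autoImplicit false
set_option maxRecDepth 100000

namespace Cfsg.Agent.ChevalleyDataE8

open Cfsg.Lie Cfsg.Agent.ChevalleyCheck Cfsg.Agent.ChevalleyCheckSound Cfsg.Agent.ChevalleyCert

theorem equiv0_0 : chkEquivAt chevE8 tables 0 0 120 = true := by decide +kernel
theorem equiv0_1 : chkEquivAt chevE8 tables 0 120 120 = true := by decide +kernel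
theorem equiv1_0 : chkEquivAt chevE8 tables 1 0 120 = true := by decide +kernel
theorem equiv1_1 : chkEquivAt chevE8 tables 1 120 120 = true := by decide +kernel
theorem equiv2_0 : chkEquivAt chevE8 tables 2 0 120 = true := by decide +kernel
theorem equiv2_1 : chkEquivAt chevE8 tables 2 120 120 = true := by decide +kernel
theorem equiv3_0 : chkEquivAt chevE8 tables 3 0 120 = true := by decide +kernel
theorem equiv3_1 : chkEquivAt chevE8 tables 3 120 120 = true := by decide +kernel

end Cfsg.Agent.ChevalleyDataE8
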