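import Cfsg.Agent.Lib.ChevalleyCheckSound
import Cfsg.Prelude.Def_ChevE8
import Cfsg.Agent.Lib.ChevalleyDataE8Tables

/-!
Packed copies of the tables of type E8 and the kernel checks of their validity.
-/

set_option autoImplicit false
set_option maxRecDepth 100000

namespace Cfsg.Agent.ChevalleyDataE8

open Cfsg.Lie Cfsg.Agent.ChevalleyCheck Cfsg.Agent.ChevalleyCheckSound Cfsg.Agent.ChevalleyCert

theorem nmat0 : chkNMat chevE8 tables 0 = true := by decide +kernel
theorem nmat1 : chkNMat chevE8 tables 1 = true := by decide +kernel
theorem nmat2 : chkNMat chevE8 tables 2 = true := by decide +kernel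
theorem nmat3 : chkNMat chevE8 tables 3 = true := by decide +kernel
theorem nmat4 : chkNMat chevE8 tables 4 = true := by decide +kernel
theorem nmat5 : chkNMat chevE8 tables 5 = true := by decide +kernel
theorem nmat6 : chkNMat chevE8 tables 6 = true := by decide +kernel
theorem nmat7 : chkNMat chevE8 tables 7 = true := by decide +kernel
theorem brk : chkBrk chevE8 tables = true := by decide +kernel

end Cfsg.Agent.ChevalleyDataE8
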