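import Cfsg.Agent.Lib.ChevalleyCheckSound
import Cfsg.Prelude.Def_ChevE8
import Cfsg.Agent.Lib.ChevalleyDataE8Tables

/-!
Packed copies of the tables of type E8 and the kernel checks of their validity.
-/

set_option autoImplicit false
set_option maxRecDepth 100000

namespace Cfsg.Agent.ChevalleyDataE8

open Cfsg.Lie Cfsg.Agent.ChevalleyCheck Cfsg.Agent.ChevalleyCheckSound Cfsg.Agent.ChevalleyCert

theorem basic : chkBasic chevE8 = true := by decide +kernel
theorem fast : chkFast chevE8 tables = true := by decide +kernel
theorem rows_0 : chkRows chevE8 tables 0 60 = true := by decide +kernel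
theorem rows_1 : chkRows chevE8 tables 60 60 = true := by decide +kernel
theorem rows_2 : chkRows chevE8 tables 120 60 = true := by decide +kernel
theorem rows_3 : chkRows chevE8 tables 180 60 = true := by decide +kernel
theorem step_0 : chkStep chevE8 tables 0 60 = true := by decide +kernel
theorem step_1 : chkStep chevE8 tables 60 60 = true := by decide +kernel
theorem step_2 : chkStep chevE8 tables 120 60 = true := by decide +kernel
theorem step_3 : chkStep chevE8 tables 180 60 = true := by decide +kernel
theorem coef : chkCoef chevE8 tables = true := by decide +kernel
theorem lin_0 : chkLin chevE8 tables 0 60 = true := by decide +kernel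
theorem lin_1 : chkLin chevE8 tables 60 60 = true := by decide +kernel
theorem lin_2 : chkLin chevE8 tables 120 60 = true := by decide +kernel
theorem lin_3 : chkLin chevE8 tables 180 60 = true := by decide +kernel
theorem refl0 : chkRefl chevE8 tables 0 = true := by decide +kernel
theorem refl1 : chkRefl chevE8 tables 1 = true := by decide +kernel
theorem refl2 : chkRefl chevE8 tables 2 = true := by decide +kernel
theorem refl3 : chkRefl chevE8 tables 3 = true := by decide +kernel
theorem refl4 : chkRefl chevE8 tables 4 = true := by decide +kernel
theorem refl5 : chkRefl chevE8 tables 5 = true := by decide +kernel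
theorem refl6 : chkRefl chevE8 tables 6 = true := by decide +kernel
theorem refl7 : chkRefl chevE8 tables 7 = true := by decide +kernel
theorem descend : chkDescend chevE8 tables = true := by decide +kernel
theorem comm_0 : chkComm chevE8 tables 0 60 = true := by decide +kernel
theorem comm_1 : chkComm chevE8 tables 60 60 = true := by decide +kernel
theorem comm_2 : chkComm chevE8 tables 120 60 = true := by decide +kernel
theorem comm_3 : chkComm chevE8 tables 180 60 = true := by decide +kernel

end Cfsg.Agent.ChevalleyDataE8
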