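import Cfsg.Agent.Lib.ChevalleyCheckSound
import Cfsg.Prelude.Def_ChevE8
import Cfsg.Agent.Lib.ChevalleyDataE8A
import Cfsg.Agent.Lib.ChevalleyDataE8B
import Cfsg.Agent.Lib.ChevalleyDataE8C
import Cfsg.Agent.Lib.ChevalleyDataE8D

/-!
Packed copies of the tables of type E8 and the kernel checks of their validity.
-/

set_option autoImplicit false
set_option maxRecDepth 100000

namespace Cfsg.Agent.ChevalleyDataE8

open Cfsg.Lie Cfsg.Agent.ChevalleyCheck Cfsg.Agent.ChevalleyCheckSound Cfsg.Agent.ChevalleyCert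

theorem rows : chkRows chevE8 tables 0 240 = true :=
  (rows_join 0 180 60 (rows_join 0 120 60 (rows_join 0 60 60 rows_0 rows_1) rows_2) rows_3)
theorem step : chkStep chevE8 tables 0 240 = true :=
  (step_join 0 180 60 (step_join 0 120 60 (step_join 0 60 60 step_0 step_1) step_2) step_3)
theorem lin : chkLin chevE8 tables 0 240 = true :=
  (lin_join 0 180 60 (lin_join 0 120 60 (lin_join 0 60 60 lin_0 lin_1) lin_2) lin_3)
theorem refl : ∀ i, i < chevE8.rank → chkRefl chevE8 tables i = true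
  | 0, _ => refl0
  | 1, _ => refl1
  | 2, _ => refl2
  | 3, _ => refl3
  | 4, _ => refl4
  | 5, _ => refl5
  | 6, _ => refl6
  | 7, _ => refl7
  | k + 8, h => absurd h (show ¬ k + 8 < 8 by omega)
theorem equiv0 : chkEquivAt chevE8 tables 0 0 240 = true :=
  (equiv_join 0 0 120 120 equiv0_0 equiv0_1)
theorem equiv1 : chkEquivAt chevE8 tables 1 0 240 = true :=
  (equiv_join 1 0 120 120 equiv1_0 equiv1_1)
theorem equiv2 : chkEquivAt chevE8 tables 2 0 240 = true :=
  (equiv_join 2 0 120 120 equiv2_0 equiv2_1)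
theorem equiv3 : chkEquivAt chevE8 tables 3 0 240 = true :=
  (equiv_join 3 0 120 120 equiv3_0 equiv3_1)
theorem equiv4 : chkEquivAt chevE8 tables 4 0 240 = true :=
  (equiv_join 4 0 120 120 equiv4_0 equiv4_1)
theorem equiv5 : chkEquivAt chevE8 tables 5 0 240 = true :=
  (equiv_join 5 0 120 120 equiv5_0 equiv5_1)
theorem equiv6 : chkEquivAt chevE8 tables 6 0 240 = true :=
  (equiv_join 6 0 120 120 equiv6_0 equiv6_1)
theorem equiv7 : chkEquivAt chevE8 tables 7 0 240 = true :=
  (equiv_join 7 0 120 120 equiv7_0 equiv7_1)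
theorem equiv : ∀ i, i < chevE8.rank → chkEquivAt chevE8 tables i 0 240 = true
  | 0, _ => equiv0
  | 1, _ => equiv1
  | 2, _ => equiv2
  | 3, _ => equiv3
  | 4, _ => equiv4
  | 5, _ => equiv5
  | 6, _ => equiv6
  | 7, _ => equiv7
  | k + 8, h => absurd h (show ¬ k + 8 < 8 by omega)
theorem nmat : ∀ i, i < chevE8.rank → chkNMat chevE8 tables i = true
  | 0, _ => nmat0
  | 1, _ => nmat1
  | 2, _ => nmat2
  | 3, _ => nmat3
  | 4, _ => nmat4
  | 5, _ => nmat5
  | 6, _ => nmat6
  | 7, _ => nmat7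
  | k + 8, h => absurd h (show ¬ k + 8 < 8 by omega)
theorem comm : chkComm chevE8 tables 0 240 = true :=
  (comm_join 0 180 60 (comm_join 0 120 60 (comm_join 0 60 60 comm_0 comm_1) comm_2) comm_3)

/-- The certificate of the datum. -/
def cert : Cert chevE8 :=
  certOfChecks ⟨basic, fast, rows, step, coef, lin, refl, equiv, nmat, descend, brk, comm⟩

end Cfsg.Agent.ChevalleyDataE8
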