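import Cfsg.Agent.Lib.ChevalleyCheckSound
import Cfsg.Prelude.Def_ChevG2

/-!
Packed copies of the tables of type G2 and the kernel checks of their validity.
-/

set_option autoImplicit false
set_option maxRecDepth 100000

namespace Cfsg.Agent.ChevalleyDataG2

open Cfsg.Lie Cfsg.Agent.ChevalleyCheck Cfsg.Agent.ChevalleyCheckSound Cfsg.Agent.ChevalleyCert

def tables : Tables where
  heads := (.node 6
 (.node 3
 (.node 1
 (.leaf 0x670047003900000029000000000000000000000000)
 (.node 2
 (.leaf 0x7700000057000000390000001900000000000000000000)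
 (.leaf 0x9700870000005a004600000000002b001b000000000000)))
 (.node 4
 (.leaf 0xa90000008a000000650059000000360000001500000000)
 (.node 5
 (.leaf 0xa9009600750000000000490000003a002500000000)
 (.leaf 0xb900000000008900000000000000470000000000170000))))
 (.node 9
 (.node 7
 (.leaf 0xc90000000000990000000000000057000000000027)
 (.node 8
 (.leaf 0xbb00a60000009700000000006b004a00370000)
 (.leaf 0xcb000000aa00000087007b0000005600000037)))
 (.node 10
 (.leaf 0xc500b500000000009a0086000000590049)
 (.node 11
 (.leaf 0xc7000000a70000008900000069)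
 (.leaf 0xb7000000a7009900790000)))))
  coefs := (.node 6
 (.node 3
 (.node 1
 (.leaf 0x1cd)
 (.node 2
 (.leaf 0x1ed)
 (.leaf 0x1ee)))
 (.node 4
 (.leaf 0x1ef)
 (.node 5
 (.leaf 0x20f)
 (.leaf 0x1f0))))
 (.node 9
 (.node 7
 (.leaf 0x230)
 (.node 8
 (.leaf 0x211)
 (.leaf 0x231)))
 (.node 10
 (.leaf 0x232)
 (.node 11
 (.leaf 0x233)
 (.leaf 0x253)))))
  refl := (.node 1
 (.leaf 0xb060809040a010702030500)
 (.leaf 0xa0b09070805060304020001))
  sgn := (.node 1
 (.leaf 0x696)
 (.leaf 0x969))
  cart := (.node 1
 (.leaf 0x8b97a5b69758)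
 (.leaf 0x97897a697897))
  coro := (.node 6
 (.node 3
 (.node 1
 (.leaf 0x1cf)
 (.node 2
 (.leaf 0x1ef)
 (.leaf 0x1ae)))
 (.node 4
 (.leaf 0x1af)
 (.node 5
 (.leaf 0x20f)
 (.leaf 0x1f0))))
 (.node 9
 (.node 7
 (.leaf 0x230)
 (.node 8
 (.leaf 0x211)
 (.leaf 0x271)))
 (.node 10
 (.leaf 0x272)
 (.node 11
 (.leaf 0x231)
 (.leaf 0x251)))))

theorem basic : chkBasic chevG2 = true := by decide +kernel
theorem fast : chkFast chevG2 tables = true := by decide +kernel
theorem rows : chkRows chevG2 tables 0 12 = true := by decide +kernel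
theorem step : chkStep chevG2 tables 0 12 = true := by decide +kernel
theorem coef : chkCoef chevG2 tables = true := by decide +kernel
theorem lin : chkLin chevG2 tables 0 12 = true := by decide +kernel
theorem refl0 : chkRefl chevG2 tables 0 = true := by decide +kernel
theorem refl1 : chkRefl chevG2 tables 1 = true := by decide +kernel
theorem refl : ∀ i, i < chevG2.rank → chkRefl chevG2 tables i = true
  | 0, _ => refl0
  | 1, _ => refl1
  | k + 2, h => absurd h (show ¬ k + 2 < 2 by omega)
theorem equiv0 : chkEquivAt chevG2 tables 0 0 12 = true := by decide +kernel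
theorem equiv1 : chkEquivAt chevG2 tables 1 0 12 = true := by decide +kernel
theorem equiv : ∀ i, i < chevG2.rank → chkEquivAt chevG2 tables i 0 12 = true
  | 0, _ => equiv0
  | 1, _ => equiv1
  | k + 2, h => absurd h (show ¬ k + 2 < 2 by omega)
theorem nmat0 : chkNMat chevG2 tables 0 = true := by decide +kernel
theorem nmat1 : chkNMat chevG2 tables 1 = true := by decide +kernel
theorem nmat : ∀ i, i < chevG2.rank → chkNMat chevG2 tables i = true
  | 0, _ => nmat0
  | 1, _ => nmat1
  | k + 2, h => absurd h (show ¬ k + 2 < 2 by omega)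
theorem descend : chkDescend chevG2 tables = true := by decide +kernel
theorem brk : chkBrk chevG2 tables = true := by decide +kernel
theorem comm : chkComm chevG2 tables 0 12 = true := by decide +kernel

/-- The certificate of the datum. -/
def cert : Cert chevG2 :=
  certOfChecks ⟨basic, fast, rows, step, coef, lin, refl, equiv, nmat, descend, brk, comm⟩

end Cfsg.Agent.ChevalleyDataG2
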