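import Cfsg.Agent.Lib.ChevalleyCore
import Cfsg.Agent.Lib.ChevalleyDataG2
import Cfsg.Agent.Lib.ChevalleyDataB2
import Cfsg.Agent.Lib.ChevalleyDataD4
import Cfsg.Agent.Lib.ChevalleyDataF4
import Cfsg.Agent.Lib.ChevalleyDataE6
import Cfsg.Agent.Lib.ChevalleyDataE7
import Cfsg.Agent.Lib.ChevalleyDataE8

/-!
The certificate of each of the seven tabulated data.
-/

set_option autoImplicit false

namespace Cfsg.Agent.ChevalleyAll

open Cfsg.Lie Cfsg.Agent.ChevalleyCert

theorem cert_nonempty (D : ChevalleyDatum)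
    (hD : D ∈ [chevG2, chevB2, chevD4, chevF4, chevE6, chevE7, chevE8]) : Nonempty (Cert D) := by
  simp only [List.mem_cons, List.not_mem_nil, or_false] at hD
  rcases hD with rfl | rfl | rfl | rfl | rfl | rfl | rfl
  exacts [⟨ChevalleyDataG2.cert⟩, ⟨ChevalleyDataB2.cert⟩, ⟨ChevalleyDataD4.cert⟩, ⟨ChevalleyDataF4.cert⟩,
    ⟨ChevalleyDataE6.cert⟩, ⟨ChevalleyDataE7.cert⟩, ⟨ChevalleyDataE8.cert⟩]

/-- the certificate of a tabulated datum -/
noncomputable def cert (D : ChevalleyDatum)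
    (hD : D ∈ [chevG2, chevB2, chevD4, chevF4, chevE6, chevE7, chevE8]) : Cert D :=
  Classical.choice (cert_nonempty D hD)

end Cfsg.Agent.ChevalleyAll
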