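import Cfsg.Agent.Lib.ChevalleyExp

/-!
Core API of the Chevalley groups of a certified datum over a field: root elements, commutator formula, the elements
`n_r(t)` and `h_r(t)`.
-/

set_option autoImplicit false
set_option linter.unusedSimpArgs false
set_option linter.unusedSectionVars false

namespace Cfsg.Agent.ChevalleyCore

open Cfsg.Lie Cfsg.Agent.ChevalleyEngine Cfsg.Agent.ChevalleyCert Cfsg.Agent.ChevalleyRoots
open Cfsg.Agent.ChevalleyAdjoint Cfsg.Agent.ChevalleyExp
open scoped Matrix

variable {D : ChevalleyDatum}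

section Ring

variable (C : Cert D) (R : Type*) [CommRing R]

theorem ev_X {S : Type*} [CommRing S] (g : Fin 2 → S) (i : Fin 2) :
    MvPolynomial.eval₂Hom (Int.castRingHom S) g (MvPolynomial.X i) = g i := by simp

theorem mul_map {S : Type*} [CommRing S] (f : R →+* S) (A B : Matrix D.Idx D.Idx R) :
    (A * B).map f = A.map f * B.map f := Matrix.map_mul

include C

theorem xR_add_ring {r : ℕ} (hr : r < D.nroots) (t u : R) : xR D R r t * xR D R r u = xR D R r (t + u) := by
  let f : MvPolynomial (Fin 2) ℤ →+* MvPolynomial (Fin 2) ℚ := MvPolynomial.map (Int.castRingHom ℚ)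
  have hf : Function.Injective f := MvPolynomial.map_injective _ Int.cast_injective
  have hP : xR D (MvPolynomial (Fin 2) ℤ) r (MvPolynomial.X 0) * xR D (MvPolynomial (Fin 2) ℤ) r (MvPolynomial.X 1) =
      xR D (MvPolynomial (Fin 2) ℤ) r (MvPolynomial.X 0 + MvPolynomial.X 1) := by
    apply Matrix.map_injective hf
    beta_reduce
    rw [mul_map, xR_map, xR_map, xR_map, map_add, ChevalleyExp.xR_add C hr]
  have := congrArg (fun A => A.map (MvPolynomial.eval₂Hom (Int.castRingHom R) ![t, u])) hP
  simp only [mul_map, xR_map] at this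
  simpa using this

theorem wordR_map {S : Type*} [CommRing S] (f : R →+* S) (w : List (ℕ × R)) :
    (wordR D R w).map f = wordR D S (w.map fun p => (p.1, f p.2)) := by
  induction w with
  | nil => simp [wordR]
  | cons p w ih =>
    simp only [wordR, List.map_cons, List.prod_cons, mul_map, xR_map] at ih ⊢
    rw [ih]

theorem commR_map {S : Type*} [CommRing S] (f : R →+* S) (r s : ℕ) (t u : R) :
    (commR D R r s t u).map (fun p => (p.1, f p.2)) = commR D S r s (f t) (f u) := by
  simp [commR, List.map_map, Function.comp_def]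

theorem comm_ring {r s : ℕ} (hr : r < D.nroots) (hs : s < D.nroots) (h1 : s ≠ r) (h2 : s ≠ D.neg r)
    (hC : D.chainEntry r s = [] ∨ CaseA D r s ∨ CaseB D r s) (t u : R) :
    xR D R s u * xR D R r t = xR D R r t * xR D R s u * wordR D R (commR D R r s t u) := by
  let f : MvPolynomial (Fin 2) ℤ →+* MvPolynomial (Fin 2) ℚ := MvPolynomial.map (Int.castRingHom ℚ)
  have hf : Function.Injective f := MvPolynomial.map_injective _ Int.cast_injective
  have hP : xR D (MvPolynomial (Fin 2) ℤ) s (MvPolynomial.X 1) * xR D (MvPolynomial (Fin 2) ℤ) r (MvPolynomial.X 0) =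
      xR D (MvPolynomial (Fin 2) ℤ) r (MvPolynomial.X 0) * xR D (MvPolynomial (Fin 2) ℤ) s (MvPolynomial.X 1) *
        wordR D (MvPolynomial (Fin 2) ℤ) (commR D (MvPolynomial (Fin 2) ℤ) r s (MvPolynomial.X 0) (MvPolynomial.X 1)) := by
    apply Matrix.map_injective hf
    beta_reduce
    simp only [mul_map, xR_map, wordR_map C, commR_map C]
    exact ChevalleyExp.comm_formula C hr hs h1 h2 hC _ _
  have := congrArg (fun A => A.map (MvPolynomial.eval₂Hom (Int.castRingHom R) ![t, u])) hP
  simp only [mul_map, xR_map, wordR_map C, commR_map C] at this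
  simpa using this

end Ring

variable {F : Type*} [Field F] (C : Cert D)

/-- the value of the chain of `(r, s)` at `u` -/
theorem chainCoeff_sum {r s : ℕ} (C : Cert D) (hr : r < D.nroots) (u : ℕ) (t : F) :
    ((D.chainCoeff r s u).map fun km => ((km.2 : ℤ) : F) * t ^ km.1).sum =
      ((D.chainEntry r s).zipIdx.map fun q => if q.1.1 = u then (q.1.2 : F) * t ^ (q.2 + 1) else 0).sum := by
  have hfil : (D.chain.getD r #[]).toList.filter (fun e => decide (e.1 = s)) =
      ((D.chain.getD r #[]).toList.find? (fun e => decide (e.1 = s))).toList := by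
    have hnd := C.row_sorted r hr
    generalize (D.chain.getD r #[]).toList = l at hnd ⊢
    induction l with
    | nil => rfl
    | cons a l ih =>
      rw [List.map_cons, List.nodup_cons] at hnd
      by_cases ha : a.1 = s
      · rw [List.filter_cons_of_pos (by simp [ha]), List.find?_cons_of_pos (by simp [ha])]
        have : l.filter (fun e => decide (e.1 = s)) = [] :=
          List.filter_eq_nil_iff.2 fun e he => by
            simp only [decide_eq_true_eq]
            exact fun h => hnd.1 (List.mem_map.2 ⟨e, he, h.trans ha.symm⟩)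
        simp [this]
      · rw [List.filter_cons_of_neg (by simp [ha]), List.find?_cons_of_neg (by simp [ha])]
        exact ih hnd.2
  have aux : ∀ l : List ((ℕ × ℤ) × ℕ),
      (((l.filter fun q => decide (q.1.1 = u)).map fun q => (q.2 + 1, q.1.2)).map
        fun km : ℕ × ℤ => ((km.2 : ℤ) : F) * t ^ km.1).sum =
      (l.map fun q => if q.1.1 = u then (q.1.2 : F) * t ^ (q.2 + 1) else 0).sum := by
    intro l
    induction l with
    | nil => rfl
    | cons a l ih =>
      by_cases ha : a.1.1 = u
      · rw [List.filter_cons_of_pos (by simp [ha]), List.map_cons, List.map_cons, List.sum_cons, ih, List.map_cons,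
          List.sum_cons, if_pos ha]
      · rw [List.filter_cons_of_neg (by simp [ha]), ih, List.map_cons, List.sum_cons, if_neg ha, zero_add]
  rw [ChevalleyDatum.chainCoeff, hfil, ChevalleyCheckSound.row_of]
  obtain ⟨o, ho⟩ : ∃ o, (D.chain.getD r #[]).toList.find? (fun e => decide (e.1 = s)) = o := ⟨_, rfl⟩
  unfold ChevalleyCheck.row
  rw [ho]
  rcases o with _ | e
  · rfl
  · simpa using aux e.2.toList.zipIdx

include C

/-- the matrix of `Def_Chevalley` is the exponential series -/
theorem x_eq_xR {r : ℕ} (hr : r < D.nroots) (t : F) : D.x F r t = xR D F r t := by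
  rw [ChevalleyDatum.x, dif_pos hr]
  ext row col
  simp only [xR, Matrix.add_apply, Matrix.smul_apply, Matrix.map_apply, smul_eq_mul]
  rcases col with i | s
  · rcases row with a | u
    · simp [ChevalleyDatum.xMat, xm, Matrix.one_apply, eq_comm]
    · by_cases hu : u.val = r
      · have : u = ⟨r, hr⟩ := Fin.ext hu
        subst this
        simp [ChevalleyDatum.xMat, xm, Matrix.one_apply, ChevalleyDatum.cartan]
        ring
      · have : u ≠ ⟨r, hr⟩ := fun h => hu (by rw [h])
        simp [ChevalleyDatum.xMat, xm, Matrix.one_apply, hu, this]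
  · by_cases h1 : s.val = r
    · have : s = ⟨r, hr⟩ := Fin.ext h1
      subst this
      rcases row with a | u <;> simp [ChevalleyDatum.xMat, xm, Matrix.one_apply, eq_comm]
    have h1' : s ≠ ⟨r, hr⟩ := fun h => h1 (by rw [h])
    by_cases h2 : s.val = D.neg r
    · have h2' : s.val = D.negIdx.getD r 0 := h2
      have hne : r ≠ D.neg r := fun h => neg_ne C hr h.symm
      rcases row with a | u
      · simp only [ChevalleyDatum.xMat, xm, Matrix.of_apply, if_neg h1', if_neg h1, if_pos h2', if_pos h2,
          Matrix.one_apply, reduceCtorEq, if_false, if_true, cc]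
        norm_num
        ring
      · simp only [ChevalleyDatum.xMat, xm, Matrix.of_apply, if_neg h1', if_neg h1, if_pos h2', if_pos h2,
          Matrix.one_apply, Sum.inr.injEq]
        by_cases hur : u.val = r
        · have hu : u = ⟨r, hr⟩ := Fin.ext hur
          subst hu
          simp [Ne.symm h1']
        · have hu : ¬ u = ⟨r, hr⟩ := fun h => hur (by rw [h])
          simp [hur, hu]
    · have h2' : ¬ s.val = D.negIdx.getD r 0 := h2
      rcases row with a | u
      · simp only [ChevalleyDatum.xMat, xm, Matrix.of_apply, if_neg h1', if_neg h1, if_neg h2', if_neg h2,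
          Matrix.one_apply, reduceCtorEq, if_false]
        norm_num
      · simp only [ChevalleyDatum.xMat, xm, Matrix.of_apply, Matrix.one_apply, h1', if_false, h1, h2', h2,
          Sum.inr.injEq]
        rw [chainCoeff_sum C hr, add_assoc, add_assoc]
        congr 1
        have hlen : (D.chainEntry r s.val).length ≤ 3 := by
          by_cases h : D.chainEntry r s.val = []
          · simp [h]
          · exact (entry_info C hr h).2.2.2.1
        simp only [ChevalleyDatum.chainRoot, ChevalleyDatum.chainM]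
        obtain ⟨el, hl⟩ : ∃ el, D.chainEntry r s.val = el := ⟨_, rfl⟩
        simp only [hl]
        rcases el with _ | ⟨a, _ | ⟨b, _ | ⟨c, _ | ⟨d, l⟩⟩⟩⟩
        case cons.cons.cons.cons => simp [hl] at hlen; omega
        all_goals simp [apply_ite (fun z : ℤ => (z : F)), mul_ite, mul_comm t, mul_comm (t ^ 2), mul_comm (t ^ 3)]

omit C in
theorem x_out {r : ℕ} (hr : ¬ r < D.nroots) (t : F) : D.x F r t = 1 := by
  rw [ChevalleyDatum.x, dif_neg hr]

theorem x_mul (r : ℕ) (t u : F) : D.x F r t * D.x F r u = D.x F r (t + u) := by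
  by_cases hr : r < D.nroots
  · simp only [x_eq_xR C hr]; exact xR_add_ring C F hr t u
  · simp [x_out hr]

theorem x_zero (r : ℕ) : D.x F r 0 = 1 := by
  by_cases hr : r < D.nroots
  · rw [x_eq_xR C hr, xR_zero]
  · exact x_out hr 0

/-- the root element as an element of `GL` -/
def xg (r : ℕ) (t : F) : GL D.Idx F :=
  ⟨D.x F r t, D.x F r (-t), by rw [x_mul C, add_neg_cancel, x_zero C], by rw [x_mul C, neg_add_cancel, x_zero C]⟩

@[simp] theorem coe_xg (r : ℕ) (t : F) : ((xg C r t : GL D.Idx F) : Matrix D.Idx D.Idx F) = D.x F r t := rfl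

theorem xg_eq_iff {r : ℕ} {t : F} {g : GL D.Idx F} :
    (g : Matrix D.Idx D.Idx F) = D.x F r t ↔ g = xg C r t :=
  ⟨fun h => Units.ext h, fun h => by rw [h, coe_xg]⟩

theorem xg_mul (r : ℕ) (t u : F) : xg C r t * xg C r u = xg C r (t + u) := Units.ext (x_mul C r t u)

@[simp] theorem xg_zero (r : ℕ) : xg C r (0 : F) = 1 := Units.ext (x_zero C r)

theorem xg_inv (r : ℕ) (t : F) : (xg C r t)⁻¹ = xg C r (-t) :=
  inv_eq_of_mul_eq_one_right (by rw [xg_mul, add_neg_cancel, xg_zero])

theorem xg_mem_group (r : ℕ) (t : F) : xg C r t ∈ D.group F := by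
  by_cases hr : r < D.nroots
  · exact Subgroup.subset_closure ⟨⟨r, hr⟩, t, by simp [coe_xg, ChevalleyDatum.x, hr]⟩
  · have : xg C r t = 1 := Units.ext (x_out hr t)
    rw [this]; exact one_mem _

/-- word in root elements as an element of `GL` -/
def wg (w : List (ℕ × F)) : GL D.Idx F := (w.map fun p => xg C p.1 p.2).prod

theorem coe_wg (w : List (ℕ × F)) : ((wg C w : GL D.Idx F) : Matrix D.Idx D.Idx F) = D.wordMat F w := by
  induction w with
  | nil => simp [wg, ChevalleyDatum.wordMat]
  | cons p w ih =>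
    simp only [wg, ChevalleyDatum.wordMat, List.map_cons, List.prod_cons, Units.val_mul, coe_xg] at ih ⊢
    rw [ih]

theorem prodMat_xLin_eq {R : Type*} [CommRing R] (t u : R) (r : ℕ) (c : ℤ) (a b : ℕ) :
    linMat D t u (xLin r c a b) = xR D R r ((c : R) * t ^ a * u ^ b) := by
  simp only [xLin, linMat, monoMat, List.map_cons, List.map_nil, List.sum_cons, List.sum_nil, opR, opMat,
    List.prod_cons, List.prod_nil, mul_one, Int.cast_one, one_smul, add_zero, pow_zero, Int.cast_pow, xR]
  rw [mul_pow, mul_pow, mul_pow, mul_pow, ← pow_mul, ← pow_mul, ← pow_mul, ← pow_mul, mul_comm a 2, mul_comm b 2,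
    mul_comm a 3, mul_comm b 3]
  abel

/-- Chevalley's commutator formula -/
theorem comm_formula {r s : ℕ} (hr : r < D.nroots) (hs : s < D.nroots) (h1 : s ≠ r) (h2 : s ≠ D.neg r)
    (t u : F) :
    xg C s u * xg C r t = xg C r t * xg C s u * wg C (D.commWord F r s t u) := by
  have hmem : ∀ p ∈ D.commWord F r s t u, p.1 < D.nroots := by
    intro p hp
    obtain ⟨c, hc, rfl⟩ := List.mem_map.1 hp
    exact (commTerms_mem C hr hs hc).1
  apply Units.ext
  simp only [Units.val_mul, coe_xg, coe_wg, x_eq_xR C hr, x_eq_xR C hs]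
  have hw : D.wordMat F (D.commWord F r s t u) = wordR D F (commR D F r s t u) := by
    rw [show commR D F r s t u = D.commWord F r s t u from rfl, ChevalleyDatum.wordMat, wordR]
    congr 1
    exact List.map_congr_left fun p hp => x_eq_xR C (hmem p hp) _
  rw [hw]
  by_cases he : D.chainEntry r s = []
  · exact comm_ring C F hr hs h1 h2 (Or.inl he) t u
  rcases C.commOK r s hr hs h1 h2 he with h | h | h
  · exact comm_ring C F hr hs h1 h2 (Or.inr (Or.inl h)) t u
  · exact comm_ring C F hr hs h1 h2 (Or.inr (Or.inr h)) t u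
  · have key : ∀ (a b : MvPolynomial (Fin 2) ℤ),
        xR D _ s b * xR D _ r a = xR D _ r a * xR D _ s b * wordR D _ (commR D _ r s a b) := by
      intro a b
      have h' := h (MvPolynomial (Fin 2) ℤ) a b
      simp only [prodMat, commLeft, commRight, List.map_cons, List.map_nil, List.cons_append, List.nil_append,
        List.prod_cons, List.prod_nil, mul_one, prodMat_xLin_eq C, Int.cast_one, one_mul, pow_zero, pow_one,
        List.map_map] at h'
      rw [h', mul_assoc]
      congr 2
      simp only [wordR, commR, List.map_map]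
      congr 1
      apply List.map_congr_left
      intro c _
      simp only [Function.comp, prodMat_xLin_eq C]
      congr 1
      rw [neg_pow]; push_cast; ring
    have := congrArg (fun A => A.map (MvPolynomial.eval₂Hom (Int.castRingHom F) ![t, u]))
      (key (MvPolynomial.X 0) (MvPolynomial.X 1))
    simp only [mul_map, xR_map, wordR_map C, commR_map C] at this
    simpa using this

/-! ### the elements n_r(t), h_r(t) -/

/-- `n_r(t) = x_r(t) x_{-r}(-t⁻¹) x_r(t)` -/
def ng (r : ℕ) (t : F) : GL D.Idx F := xg C r t * xg C (D.neg r) (-t⁻¹) * xg C r t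

/-- `h_r(t) = n_r(t) n_r(-1)` -/
def hg (r : ℕ) (t : F) : GL D.Idx F := ng C r t * ng C r (-1)

theorem coe_ng (r : ℕ) (t : F) : ((ng C r t : GL D.Idx F) : Matrix D.Idx D.Idx F) = D.nMat F r t := by
  simp [ng, ChevalleyDatum.nMat, ChevalleyDatum.nWord, ChevalleyDatum.wordMat, mul_assoc]

theorem coe_hg (r : ℕ) (t : F) : ((hg C r t : GL D.Idx F) : Matrix D.Idx D.Idx F) = D.hMat F r t := by
  simp [hg, ng, ChevalleyDatum.hMat, ChevalleyDatum.hWord, ChevalleyDatum.nWord, ChevalleyDatum.wordMat, mul_assoc]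

theorem ng_inv (r : ℕ) (t : F) : (ng C r t)⁻¹ = ng C r (-t) := by
  simp [ng, xg_inv, inv_neg, mul_assoc]

theorem xz_cast {r : ℕ} (hr : r < D.nroots) (c : ℤ) : castM F (xz D r c) = D.x F r (c : F) := by
  rw [x_eq_xR C hr, xz, castM_add, castM_add, castM_add, castM_one, castM_smul, castM_smul, castM_smul, xR]
  push_cast
  rfl

theorem nMat_simple {i : ℕ} (hi : i < D.rank) :
    D.nMat F (D.simple i) 1 = castM F (mn D C.eta i) := by
  rw [← C.nMat_eq i hi, castM_mul, castM_mul, xz_cast C (simple_lt C hi), xz_cast C (C.neg_lt _)]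
  simp [ChevalleyDatum.nMat, ChevalleyDatum.nWord, ChevalleyDatum.wordMat, mul_assoc]

theorem coe_ng_simple {i : ℕ} (hi : i < D.rank) :
    ((ng C (D.simple i) (1 : F) : GL D.Idx F) : Matrix D.Idx D.Idx F) = castM F (mn D C.eta i) := by
  rw [coe_ng, nMat_simple C hi]

theorem ng_simple_conj {i s : ℕ} (hi : i < D.rank) (hs : s < D.nroots) (t : F) :
    ng C (D.simple i) 1 * xg C s t * (ng C (D.simple i) 1)⁻¹ =
      xg C (D.reflectRoot i s) ((C.eta i s : F) * t) := by
  rw [mul_inv_eq_iff_eq_mul]
  apply Units.ext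
  have hw := C.w_lt i s hi hs
  simp only [Units.val_mul, coe_xg, coe_ng_simple C hi, x_eq_xR C hs, x_eq_xR C hw]
  simp only [xR, mul_add, add_mul, mul_one, one_mul, mul_smul_comm, smul_mul_assoc, ← castM_mul,
    mn_xm C hi hs le_rfl, mn_xm C hi hs (show 1 ≤ 2 by norm_num), mn_xm C hi hs (show 1 ≤ 3 by norm_num),
    castM_smul, smul_smul, mul_pow, pow_one, Int.cast_pow, wr]
  simp only [mul_comm]

/-- diagonal character of the root lattice attached to a node -/
def nodeDiag (i : ℕ) (c : F) : Matrix D.Idx D.Idx F := Matrix.diagonal fun q => c ^ (cf C q i)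

theorem nodeDiag_mul (i : ℕ) {c : F} (hc : c ≠ 0) : nodeDiag C i c * nodeDiag C i c⁻¹ = 1 := by
  rw [nodeDiag, nodeDiag, Matrix.diagonal_mul_diagonal, ← Matrix.diagonal_one]
  congr 1
  funext q
  rw [inv_zpow, mul_inv_cancel₀ (zpow_ne_zero _ hc)]

theorem nodeDiag_xm {i k r : ℕ} (hi : i < D.rank) (hk : 1 ≤ k) (hr : r < D.nroots) {c : F} (hc : c ≠ 0) :
    nodeDiag C i c * castM F (xm D k r) =
      c ^ ((k : ℤ) * C.coef r i) • (castM F (xm D k r) * nodeDiag C i c) := by
  ext row col
  rw [nodeDiag, Matrix.diagonal_mul, Matrix.smul_apply, Matrix.mul_diagonal, smul_eq_mul]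
  simp only [castM, Matrix.map_apply]
  by_cases h : xm D k r row col = 0
  · simp [h]
  · rw [xm_cf C hk hr h hi, zpow_add₀ hc]; ring

theorem nodeDiag_x {i r : ℕ} (hi : i < D.rank) (hr : r < D.nroots) {c : F} (hc : c ≠ 0) (t : F) :
    nodeDiag C i c * D.x F r t = D.x F r (c ^ C.coef r i * t) * nodeDiag C i c := by
  have hp : ∀ k : ℕ, c ^ ((k : ℤ) * C.coef r i) = (c ^ C.coef r i) ^ k := fun k => by
    rw [mul_comm, zpow_mul, zpow_natCast]
  simp only [x_eq_xR C hr, xR, mul_add, add_mul, mul_one, one_mul, mul_smul_comm, smul_mul_assoc,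
    nodeDiag_xm C hi le_rfl hr hc, nodeDiag_xm C hi (show 1 ≤ 2 by norm_num) hr hc,
    nodeDiag_xm C hi (show 1 ≤ 3 by norm_num) hr hc, hp, smul_smul, mul_pow, pow_one, mul_comm]

theorem nMat_simple_t {i : ℕ} (hi : i < D.rank) {c : F} (hc : c ≠ 0) :
    D.nMat F (D.simple i) c = nodeDiag C i c * castM F (mn D C.eta i) * nodeDiag C i c⁻¹ := by
  have hp := simple_lt C hi
  have e1 : c ^ C.coef (D.simple i) i = c := by rw [C.coef_simple i i hi hi]; simp
  have e2 : c ^ C.coef (D.neg (D.simple i)) i = c⁻¹ := by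
    rw [C.coef_neg _ i hp hi, C.coef_simple i i hi hi]; simp
  have h : nodeDiag C i c * D.nMat F (D.simple i) 1 = D.nMat F (D.simple i) c * nodeDiag C i c := by
    simp only [ChevalleyDatum.nMat, ChevalleyDatum.nWord, ChevalleyDatum.wordMat, List.map_cons, List.map_nil,
      List.prod_cons, List.prod_nil, mul_one, inv_one]
    rw [← mul_assoc, nodeDiag_x C hi hp hc, mul_assoc, ← mul_assoc (nodeDiag C i c),
      nodeDiag_x C hi (C.neg_lt _) hc, mul_assoc, nodeDiag_x C hi hp hc, e1, e2]
    simp [mul_assoc]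
  rw [← nMat_simple C hi, h, mul_assoc, nodeDiag_mul C i hc, mul_one]

/-- the diagonal matrix of `h_r(t)` -/
def hDiag (D : ChevalleyDatum) (r : ℕ) (t : F) : Matrix D.Idx D.Idx F :=
  Matrix.diagonal (Sum.elim (fun _ => (1 : F)) fun s : Fin D.nroots => t ^ D.pairing r s.val)

theorem mn_entry {i : ℕ} (hi : i < D.rank) (row : D.Idx) (s : Fin D.nroots) :
    mn D C.eta i row (Sum.inr s) = C.eta i s.val * evec D (wr D i s.val) row := by
  have := congrFun (mn_evec C hi s.isLt) row
  rwa [evec_eq s.isLt, Matrix.mulVec_single_one, Pi.smul_apply, smul_eq_mul] at this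

theorem ng_simple_pair {i : ℕ} (hi : i < D.rank) {a b : F} (ha : a ≠ 0) (hb : b ≠ 0) :
    D.nMat F (D.simple i) a * D.nMat F (D.simple i) b = hDiag D (D.simple i) (-(a / b)) := by
  rw [nMat_simple_t C hi ha, nMat_simple_t C hi hb]
  ext row col
  rw [Matrix.mul_apply]
  simp only [nodeDiag, castM, Matrix.diagonal_mul, Matrix.mul_diagonal, Matrix.map_apply]
  rcases col with j | s
  · have h4 : ((mn D C.eta i * mn D C.eta i) row (Sum.inl j) : ℤ) =
        (1 : Matrix D.Idx D.Idx ℤ) row (Sum.inl j) := by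
      have : (mn D C.eta i * mn D C.eta i) *ᵥ Pi.single (Sum.inl j) 1 = Pi.single (Sum.inl j) 1 := by
        rw [← Matrix.mulVec_mulVec, mn_inl C.eta hi, Matrix.mulVec_sub, Matrix.mulVec_smul, mn_inl C.eta hi,
          mn_inl C.eta hi, show ((⟨i, hi⟩ : Fin D.rank) : ℕ) = i from rfl, cartan_self C hi]
        module
      have := congrFun this row
      rw [Matrix.mulVec_single_one, Matrix.col_apply] at this
      rw [this, Matrix.one_apply, Pi.single_apply]
    have hrr : ∀ m : D.Idx, mn D C.eta i m (Sum.inl j) ≠ 0 → cf C m i = 0 := by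
      rintro (m | m) hm
      · rfl
      · simp [mn] at hm
    have hrow : ∀ m : Fin D.rank, ((mn D C.eta i row (Sum.inl m) : ℤ) : F) ≠ 0 → cf C row i = 0 := by
      intro m hm
      rcases row with u | u
      · rfl
      · simp [mn] at hm
    have step : ∀ m : D.Idx,
        a ^ cf C row i * (mn D C.eta i row m : F) * a⁻¹ ^ cf C m i *
          (b ^ cf C m i * (mn D C.eta i m (Sum.inl j) : F) * b⁻¹ ^ cf C (Sum.inl j) i) =
        ((mn D C.eta i row m * mn D C.eta i m (Sum.inl j) : ℤ) : F) := by
      intro m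
      by_cases hm : mn D C.eta i m (Sum.inl j) = 0
      · simp [hm]
      · have hm0 := hrr m hm
        rcases m with m | m
        · by_cases hr0 : ((mn D C.eta i row (Sum.inl m) : ℤ) : F) = 0
          · simp [hr0]
          · simp [hm0, hrow m hr0, show cf C (Sum.inl j : D.Idx) i = 0 from rfl]
        · simp [mn] at hm
    rw [Finset.sum_congr rfl fun m _ => step m, ← Int.cast_sum, ← Matrix.mul_apply, h4, hDiag,
      Matrix.one_apply, Matrix.diagonal_apply]
    by_cases h : row = Sum.inl j
    · subst h; simp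
    · simp [h]
  · have hw := C.w_lt i s.val hi s.isLt
    rw [Finset.sum_eq_single (Sum.inr ⟨wr D i s.val, hw⟩)]
    · rw [mn_entry C hi, mn_entry C hi, evec_eq hw, Pi.single_eq_same,
        show wr D i (wr D i s.val) = s.val from w_invol C hi s.isLt, evec_eq s.isLt]
      simp only [mul_one, hDiag, Matrix.diagonal_apply]
      by_cases h : row = Sum.inr s
      · subst h
        have hmul : ((C.eta i (wr D i s.val) : ℤ) : F) * ((C.eta i s.val : ℤ) : F) = (-1) ^ D.cartan i s.val := by
          rw [← Int.cast_mul, mul_comm, C.eta_mul i s.val hi s.isLt]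
          push_cast
          rcases Int.natAbs_eq (D.cartan i s.val) with e | e <;> conv_rhs => rw [e]
          · rw [zpow_natCast]
          · rw [zpow_neg, zpow_natCast, ← inv_pow, inv_neg_one]
        simp only [Pi.single_eq_same, Int.cast_mul, mul_one, if_true, Sum.elim_inr, cf]
        have e3 : C.coef (wr D i s.val) i = C.coef s.val i - D.cartan i s.val := by
          rw [C.coef_w i s.val i hi s.isLt hi, if_pos rfl]
        rw [pairing_simple C hi, show -(a / b) = (-1) * (a / b) by ring, mul_zpow, ← hmul, div_zpow,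
          e3, zpow_sub₀ (inv_ne_zero ha), zpow_sub₀ hb, inv_zpow, inv_zpow, inv_zpow]
        field_simp
      · simp [h, Pi.single_eq_of_ne h]
    · intro m _ hne
      rw [mn_entry C hi m s, evec_eq hw, Pi.single_eq_of_ne hne]
      simp
    · simp

theorem mn_hDiag {i r : ℕ} (hi : i < D.rank) (hr : r < D.nroots) (c : F) :
    castM F (mn D C.eta i) * hDiag D r c = hDiag D (wr D i r) c * castM F (mn D C.eta i) := by
  ext row col
  rw [hDiag, hDiag, Matrix.mul_diagonal, Matrix.diagonal_mul]
  simp only [castM, Matrix.map_apply]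
  rcases col with j | s
  · rcases row with a | u <;> simp [mn]
  · rw [mn_entry C hi row s]
    by_cases h : evec D (wr D i s.val) row = 0
    · simp [h]
    · rw [evec_eq (C.w_lt i s.val hi s.isLt)] at h ⊢
      have h' : row = Sum.inr ⟨wr D i s.val, C.w_lt i s.val hi s.isLt⟩ := by
        by_contra hne; exact h (Pi.single_eq_of_ne hne _)
      subst h'
      simp only [Sum.elim_inr, pairing_w C hi hr s.isLt]
      ring

theorem eta_cast_sq (i s : ℕ) : (C.eta i s : F) * (C.eta i s : F) = 1 := by
  rw [← Int.cast_mul, eta_mul_self C, Int.cast_one]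

theorem eta_cast_ne (i s : ℕ) : (C.eta i s : F) ≠ 0 := fun h => by
  have := eta_cast_sq C (F := F) i s
  rw [h, zero_mul] at this
  exact zero_ne_one this

theorem eta_neg_eq {i s : ℕ} (hi : i < D.rank) (hs : s < D.nroots) : C.eta i (D.neg s) = C.eta i s := by
  have h := C.eta_neg i s hi hs
  rcases C.eta_sq i s with e | e <;> rw [e] at h ⊢ <;> omega

/-- conjugation of `n_r(t)` by the fundamental `n_p(1)` -/
theorem ng_simple_conj_ng {i r : ℕ} (hi : i < D.rank) (hr : r < D.nroots) (t : F) :
    ng C (D.simple i) 1 * ng C r t * (ng C (D.simple i) 1)⁻¹ =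
      ng C (D.reflectRoot i r) ((C.eta i r : F) * t) := by
  conv_lhs => rw [ng.eq_1 C r t, ← MulAut.conj_apply, map_mul, map_mul]
  simp only [MulAut.conj_apply, ng_simple_conj C hi hr, ng_simple_conj C hi (C.neg_lt r)]
  rw [ng.eq_1 C (D.reflectRoot i r), show D.reflectRoot i (D.neg r) = D.neg (D.reflectRoot i r) from w_neg C hi hr,
    eta_neg_eq C hi hr, mul_inv, show ((C.eta i r : F))⁻¹ = (C.eta i r : F) from
      inv_eq_of_mul_eq_one_right (eta_cast_sq C i r), mul_neg]

/-- `n_r(a) n_r(b)` is diagonal -/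
theorem ng_pair {r : ℕ} (hr : r < D.nroots) :
    ∀ a b : F, a ≠ 0 → b ≠ 0 →
      ((ng C r a * ng C r b : GL D.Idx F) : Matrix D.Idx D.Idx F) = hDiag D r (-(a / b)) := by
  refine root_induction C (P := fun r => ∀ a b : F, a ≠ 0 → b ≠ 0 →
      ((ng C r a * ng C r b : GL D.Idx F) : Matrix D.Idx D.Idx F) = hDiag D r (-(a / b))) ?_ ?_ r hr
  · intro i hi a b ha hb
    rw [Units.val_mul, coe_ng, coe_ng, ng_simple_pair C hi ha hb]
  · intro i r hi hr ih a b ha hb
    have e1 := eta_cast_sq C (F := F) i r
    have h1 : ng C (D.simple i) 1 * (ng C r ((C.eta i r : F) * a) * ng C r ((C.eta i r : F) * b)) *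
        (ng C (D.simple i) 1)⁻¹ = ng C (wr D i r) a * ng C (wr D i r) b := by
      conv_lhs => rw [← MulAut.conj_apply, map_mul]
      simp only [MulAut.conj_apply, ng_simple_conj_ng C hi hr, ← mul_assoc, e1, one_mul]
    have h2 := ih _ _ (mul_ne_zero (eta_cast_ne C i r) ha) (mul_ne_zero (eta_cast_ne C i r) hb)
    rw [mul_div_mul_left _ _ (eta_cast_ne C i r)] at h2
    rw [← h1]
    rw [Units.val_mul, Units.val_mul, h2, coe_ng_simple C hi, mn_hDiag C hi hr, mul_assoc, ← coe_ng_simple C hi,
      ← Units.val_mul, mul_inv_cancel, Units.val_one, mul_one]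

/-- `h_r(t)` is diagonal -/
theorem coe_hg_eq {r : ℕ} (hr : r < D.nroots) {t : F} (ht : t ≠ 0) :
    ((hg C r t : GL D.Idx F) : Matrix D.Idx D.Idx F) = hDiag D r t := by
  rw [hg, ng_pair C hr t (-1) ht (neg_ne_zero.2 one_ne_zero)]
  congr 1
  ring

theorem hMat_eq {r : ℕ} (hr : r < D.nroots) {t : F} (ht : t ≠ 0) : D.hMat F r t = hDiag D r t := by
  rw [← coe_hg C, coe_hg_eq C hr ht]

/-- multiplicativity of `h_r` -/
theorem hg_mul {r : ℕ} (hr : r < D.nroots) {t u : F} (ht : t ≠ 0) (hu : u ≠ 0) :
    hg C r t * hg C r u = hg C r (t * u) := by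
  apply Units.ext
  rw [Units.val_mul, coe_hg_eq C hr ht, coe_hg_eq C hr hu, coe_hg_eq C hr (mul_ne_zero ht hu), hDiag, hDiag, hDiag,
    Matrix.diagonal_mul_diagonal]
  congr 1
  funext q
  rcases q with j | s <;> simp [mul_zpow]

theorem hg_one {r : ℕ} (hr : r < D.nroots) : hg C r (1 : F) = 1 := by
  apply Units.ext
  rw [coe_hg_eq C hr one_ne_zero, hDiag, Units.val_one, ← Matrix.diagonal_one]
  congr 1
  funext q
  rcases q with j | s <;> simp

/-- `n_r(t) = h_r(t) n_r(1)` -/
theorem ng_eq (r : ℕ) (t : F) : ng C r t = hg C r t * ng C r 1 := by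
  rw [hg, mul_assoc, ← ng_inv C r 1, inv_mul_cancel, mul_one]

/-- `h_r(c) x_s(t) h_r(c)⁻¹ = x_s(c^⟨s,r^∨⟩ t)` -/
theorem hg_conj_xg {r s : ℕ} (hr : r < D.nroots) (hs : s < D.nroots) {c : F} (hc : c ≠ 0) (t : F) :
    hg C r c * xg C s t = xg C s (c ^ D.pairing r s * t) * hg C r c := by
  apply Units.ext
  have key : ∀ k : ℕ, 1 ≤ k → hDiag D r c * castM F (xm D k s) =
      (c ^ D.pairing r s) ^ k • (castM F (xm D k s) * hDiag D r c) := by
    intro k hk
    ext row col
    rw [hDiag, Matrix.diagonal_mul, Matrix.smul_apply, Matrix.mul_diagonal, smul_eq_mul]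
    simp only [castM, Matrix.map_apply]
    by_cases h : xm D k s row col = 0
    · simp [h]
    · have hp : ∀ q : D.Idx, Sum.elim (fun _ => (1 : F)) (fun u : Fin D.nroots => c ^ D.pairing r u.val) q =
          c ^ ∑ j ∈ Finset.range D.rank, cc D r j * wgt q j := by
        rintro (a | u)
        · simp [wgt]
        · simp [wgt, pairing_eq C]
      rw [hp, hp, ← zpow_natCast, ← zpow_mul, ← mul_comm, pairing_eq C, Finset.sum_mul]
      rw [mul_left_comm, ← zpow_add₀ hc, ← Finset.sum_add_distrib]
      congr 2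
      exact Finset.sum_congr rfl fun j hj => by rw [xm_wgt C hk hs h (Finset.mem_range.1 hj)]; ring
  simp only [Units.val_mul, coe_xg, coe_hg_eq C hr hc, x_eq_xR C hs, xR, mul_add, add_mul, mul_one, one_mul,
    mul_smul_comm, smul_mul_assoc, key 1 le_rfl, key 2 (by norm_num), key 3 (by norm_num), smul_smul, mul_pow,
    pow_one, mul_comm]

end Cfsg.Agent.ChevalleyCore
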