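import Cfsg.Agent.Lib.ChevalleyCore

/-!
The unipotent subgroups `U`, `V` of a certified Chevalley datum: triangularity, ordered product form, uniqueness.
-/

set_option autoImplicit false
set_option linter.unusedSimpArgs false
set_option linter.unusedSectionVars false

namespace Cfsg.Agent.ChevalleyUnipotent

open Cfsg.Lie Cfsg.Agent.ChevalleyEngine Cfsg.Agent.ChevalleyCert Cfsg.Agent.ChevalleyRoots
open Cfsg.Agent.ChevalleyAdjoint Cfsg.Agent.ChevalleyExp Cfsg.Agent.ChevalleyCore
open scoped Matrix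

/-! ### matrices raising a weight -/

section Raise

variable {ι : Type*} [Fintype ι] [DecidableEq ι] {F : Type*} [Field F] (w : ι → ℤ)

/-- every non-zero entry raises the weight by at least `d` -/
def Raise (d : ℤ) (A : Matrix ι ι F) : Prop := ∀ i j, A i j ≠ 0 → w j + d ≤ w i

theorem raise_zero (d : ℤ) : Raise w d (0 : Matrix ι ι F) := fun _ _ h => absurd rfl h

theorem raise_mono {d e : ℤ} (h : e ≤ d) {A : Matrix ι ι F} (hA : Raise w d A) : Raise w e A :=
  fun i j hij => le_trans (by omega) (hA i j hij)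

theorem raise_add {d : ℤ} {A B : Matrix ι ι F} (hA : Raise w d A) (hB : Raise w d B) : Raise w d (A + B) := by
  intro i j h
  by_cases ha : A i j = 0
  · exact hB i j (by simpa [ha] using h)
  · exact hA i j ha

theorem raise_smul {d : ℤ} (c : F) {A : Matrix ι ι F} (hA : Raise w d A) : Raise w d (c • A) := by
  intro i j h
  exact hA i j fun h0 => h (by simp [h0])

theorem raise_mul {d e : ℤ} {A B : Matrix ι ι F} (hA : Raise w d A) (hB : Raise w e B) :
    Raise w (d + e) (A * B) := by
  intro i j h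
  rw [Matrix.mul_apply] at h
  obtain ⟨k, _, hk⟩ := Finset.exists_ne_zero_of_sum_ne_zero h
  have h1 := hA i k fun h0 => hk (by simp [h0])
  have h2 := hB k j fun h0 => hk (by simp [h0])
  omega

theorem raise_sub_one_mul {d : ℤ} (hd : 0 ≤ d) {A B : Matrix ι ι F} (hA : Raise w d (A - 1))
    (hB : Raise w d (B - 1)) : Raise w d (A * B - 1) := by
  rw [show A * B - 1 = (A - 1) * (B - 1) + ((A - 1) + (B - 1)) by noncomm_ring]
  exact raise_add w (raise_mono w (by omega) (raise_mul w hA hB)) (raise_add w hA hB)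

/-- the group of matrices `1 +` (raising the weight by at least `d`) -/
def upperAt (d : ℕ) : Subgroup (GL ι F) where
  carrier := {g | Raise w d ((g : Matrix ι ι F) - 1) ∧ Raise w d (((g⁻¹ : GL ι F) : Matrix ι ι F) - 1)}
  one_mem' := by simp [Raise]
  mul_mem' {g h} hg hh := by
    refine ⟨?_, ?_⟩
    · rw [Units.val_mul]; exact raise_sub_one_mul w (by omega) hg.1 hh.1
    · rw [mul_inv_rev, Units.val_mul]; exact raise_sub_one_mul w (by omega) hh.2 hg.2
  inv_mem' {g} hg := ⟨hg.2, by rw [inv_inv]; exact hg.1⟩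

theorem mem_upperAt {d : ℕ} {g : GL ι F} :
    g ∈ upperAt w d ↔ Raise w d ((g : Matrix ι ι F) - 1) ∧ Raise w d (((g⁻¹ : GL ι F) : Matrix ι ι F) - 1) :=
  Iff.rfl

/-- entries of an element of `upperAt w d` where the weight is raised by less than `d` -/
theorem upperAt_entry {d : ℕ} {g : GL ι F} (hg : g ∈ upperAt w d) {i j : ι} (h : w i < w j + d) :
    (g : Matrix ι ι F) i j = (1 : Matrix ι ι F) i j := by
  by_contra hne
  have := hg.1 i j (by rw [Matrix.sub_apply]; exact sub_ne_zero.2 hne)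
  omega

theorem upperAt_diag {d : ℕ} (hd : 1 ≤ d) {g : GL ι F} (hg : g ∈ upperAt w d) (i : ι) :
    (g : Matrix ι ι F) i i = 1 := by
  rw [upperAt_entry w hg (by omega), Matrix.one_apply_eq]

/-- a diagonal element of `upperAt w 1` is trivial -/
theorem eq_one_of_diag {d : ℕ} (hd : 1 ≤ d) {g : GL ι F} (hg : g ∈ upperAt w d)
    (hdiag : ∀ i j, i ≠ j → (g : Matrix ι ι F) i j = 0) : g = 1 := by
  apply Units.ext
  ext i j
  rw [Units.val_one]
  by_cases h : i = j
  · subst h; rw [upperAt_diag w hd hg, Matrix.one_apply_eq]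
  · rw [hdiag i j h, Matrix.one_apply_ne h]

/-- raising and lowering at the same time is trivial -/
theorem eq_one_of_both {d e : ℕ} (hd : 1 ≤ d) (he : 1 ≤ e) {g : GL ι F} (hg : g ∈ upperAt w d)
    (hg' : g ∈ upperAt (fun i => - w i) e) : g = 1 := by
  refine eq_one_of_diag w hd hg fun i j hij => ?_
  by_contra hne
  have h0 : ((g : Matrix ι ι F) - 1) i j ≠ 0 := by simpa [Matrix.one_apply_ne hij] using hne
  have h1 := hg.1 i j h0
  have h2 := hg'.1 i j h0
  simp only at h2
  omega

end Raise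

variable {D : ChevalleyDatum} (C : Cert D) {F : Type*} [Field F]

include C

theorem raise_xm {k r : ℕ} (hk : 1 ≤ k) (hr : r < D.nroots) :
    Raise (kq C) ((k : ℤ) * key C r) (castM F (xm D k r)) := by
  intro i j h
  have h' : xm D k r i j ≠ 0 := fun h0 => h (by simp [castM, h0])
  rw [xm_kq C hk hr h']

theorem raise_x {r : ℕ} (hr : r < D.nroots) (hp : 0 < key C r) (t : F) :
    Raise (kq C) (key C r) (D.x F r t - 1) := by
  rw [x_eq_xR C hr, xR, show (1 : Matrix D.Idx D.Idx F) + t • castM F (xm D 1 r) + t ^ 2 • castM F (xm D 2 r) +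
    t ^ 3 • castM F (xm D 3 r) - 1 = t • castM F (xm D 1 r) + (t ^ 2 • castM F (xm D 2 r) + t ^ 3 • castM F (xm D 3 r))
    by abel]
  refine raise_add _ (raise_smul _ _ (raise_mono _ ?_ (raise_xm C le_rfl hr)))
    (raise_add _ (raise_smul _ _ (raise_mono _ ?_ (raise_xm C (by norm_num) hr)))
      (raise_smul _ _ (raise_mono _ ?_ (raise_xm C (by norm_num) hr)))) <;> push_cast <;> omega

theorem xg_mem_upper {r d : ℕ} (hr : r < D.nroots) (hd : (d : ℤ) ≤ key C r) (hp : 0 < key C r) (t : F) :
    xg C r t ∈ upperAt (kq C) d := by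
  refine ⟨?_, ?_⟩
  · rw [coe_xg]; exact raise_mono _ hd (raise_x C hr hp t)
  · rw [xg_inv, coe_xg]; exact raise_mono _ hd (raise_x C hr hp (-t))

theorem xg_mem_lower {r d : ℕ} (hr : r < D.nroots) (hd : (d : ℤ) ≤ - key C r) (hp : key C r < 0) (t : F) :
    xg C r t ∈ upperAt (fun q => - kq C q) d := by
  have h : ∀ u : F, Raise (fun q => - kq C q) d (D.x F r u - 1) := by
    intro u
    rw [x_eq_xR C hr, xR, show (1 : Matrix D.Idx D.Idx F) + u • castM F (xm D 1 r) + u ^ 2 • castM F (xm D 2 r) +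
      u ^ 3 • castM F (xm D 3 r) - 1 =
        u • castM F (xm D 1 r) + (u ^ 2 • castM F (xm D 2 r) + u ^ 3 • castM F (xm D 3 r)) by abel]
    have hk : ∀ k, 1 ≤ k → Raise (fun q => - kq C q) d (castM F (xm D k r)) := by
      intro k hk i j h
      have h' : xm D k r i j ≠ 0 := fun h0 => h (by simp [castM, h0])
      have := xm_kq C hk hr h'
      have h2 : (k : ℤ) * key C r ≤ key C r := by nlinarith [show (1 : ℤ) ≤ k by exact_mod_cast hk]
      simp only
      omega
    exact raise_add _ (raise_smul _ _ (hk 1 le_rfl))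
      (raise_add _ (raise_smul _ _ (hk 2 (by norm_num))) (raise_smul _ _ (hk 3 (by norm_num))))
  exact ⟨by rw [coe_xg]; exact h t, by rw [xg_inv, coe_xg]; exact h (-t)⟩

/-! ### the filtration of `U` -/

/-- positive roots with index at least `k` generate this subgroup -/
def uGe (k : ℕ) : Subgroup (GL D.Idx F) :=
  Subgroup.closure {g | ∃ (r : ℕ) (t : F), k ≤ r ∧ D.nroots / 2 ≤ r ∧ r < D.nroots ∧ g = xg C r t}

theorem xg_mem_uGe {k r : ℕ} (hk : k ≤ r) (hp : D.nroots / 2 ≤ r) (hr : r < D.nroots) (t : F) :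
    xg C r t ∈ uGe C (F := F) k := Subgroup.subset_closure ⟨r, t, hk, hp, hr, rfl⟩

theorem posUnipotent_eq : D.posUnipotent F = uGe C (F := F) (D.nroots / 2) := by
  unfold ChevalleyDatum.posUnipotent uGe
  congr 1
  ext g
  constructor
  · rintro ⟨r, t, hr, hg⟩
    have := (isPos C).1 hr
    exact ⟨r, t, this.1, this.1, this.2, Units.ext hg⟩
  · rintro ⟨r, t, _, h1, h2, rfl⟩
    exact ⟨r, t, (isPos C).2 ⟨h1, h2⟩, rfl⟩

theorem xg_mem_U {r : ℕ} (hp : D.nroots / 2 ≤ r) (hr : r < D.nroots) (t : F) :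
    xg C r t ∈ D.posUnipotent F := by
  rw [posUnipotent_eq C]; exact xg_mem_uGe C hp hp hr t

theorem xg_mem_V {r : ℕ} (hn : r < D.nroots / 2) (t : F) : xg C r t ∈ D.negUnipotent F :=
  Subgroup.subset_closure ⟨r, t, (isNeg C).2 hn, rfl⟩

theorem uGe_top {k : ℕ} (hk : D.nroots ≤ k) : uGe C (F := F) k = ⊥ := by
  rw [uGe, Subgroup.closure_eq_bot_iff]
  rintro g ⟨r, t, h1, _, h3, rfl⟩
  omega

theorem uGe_mono {j k : ℕ} (h : j ≤ k) : uGe C (F := F) k ≤ uGe C (F := F) j := by
  apply Subgroup.closure_mono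
  rintro g ⟨r, t, h1, h2, h3, rfl⟩
  exact ⟨r, t, h.trans h1, h2, h3, rfl⟩

theorem uGe_le_upper {k d : ℕ} (h : ∀ r, k ≤ r → D.nroots / 2 ≤ r → r < D.nroots → (d : ℤ) ≤ key C r) :
    uGe C (F := F) k ≤ upperAt (kq C) d := by
  rw [uGe, Subgroup.closure_le]
  rintro g ⟨r, t, h1, h2, h3, rfl⟩
  exact xg_mem_upper C h3 (h r h1 h2 h3) ((key_pos C h3).2 h2) t

theorem U_le_upper : D.posUnipotent F ≤ upperAt (kq C) 1 := by
  rw [posUnipotent_eq C]
  exact uGe_le_upper C fun r _ h2 h3 => by have := (key_pos C h3).2 h2; omega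

theorem V_le_lower : D.negUnipotent F ≤ upperAt (fun q => - kq C q) 1 := by
  rw [ChevalleyDatum.negUnipotent, Subgroup.closure_le]
  rintro g ⟨r, t, hr, hg⟩
  have hrlt := hr.1
  have hk : key C r < 0 := by
    have h1 := key_ne_zero C hrlt
    have h2 := key_pos C hrlt
    have h3 := (isNeg C).1 hr
    omega
  rw [(xg_eq_iff C).1 hg]
  exact xg_mem_lower C hrlt (by omega) hk t

/-- key of a root of the commutator formula -/
theorem key_commTerm {r s : ℕ} (hr : r < D.nroots) (hs : s < D.nroots) {c : ℕ × ℤ × ℕ × ℕ}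
    (hc : c ∈ D.commTerms r s) :
    key C c.1 = (c.2.2.1 : ℤ) * key C r + (c.2.2.2 : ℤ) * key C s :=
  key_lin C _ _ (commTerms_mem C hr hs hc).2.2.2

/-- commuting two positive root elements changes only higher root subgroups -/
theorem comm_higher {r s : ℕ} (hr : D.nroots / 2 ≤ r) (hr' : r < D.nroots) (hs : D.nroots / 2 ≤ s)
    (hs' : s < D.nroots) (h : s ≠ r) (t u : F) :
    ∃ v ∈ uGe C (F := F) (max r s + 1), xg C s u * xg C r t = xg C r t * xg C s u * v := by
  have hne : s ≠ D.neg r := by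
    have := C.neg_eq r hr'; have := C.even; omega
  refine ⟨wg C (D.commWord F r s t u), ?_, comm_formula C hr' hs' h hne t u⟩
  apply Subgroup.list_prod_mem
  intro g hg
  simp only [ChevalleyDatum.commWord, List.map_map, List.mem_map] at hg
  obtain ⟨c, hc, rfl⟩ := hg
  obtain ⟨h1, h2, h3, _⟩ := commTerms_mem C hr' hs' hc
  have hk := key_commTerm C hr' hs' hc
  have p1 := (key_pos C hr').2 hr
  have p2 := (key_pos C hs').2 hs
  have i1 : (1 : ℤ) ≤ c.2.2.1 := by exact_mod_cast h2
  have j1 : (1 : ℤ) ≤ c.2.2.2 := by exact_mod_cast h3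
  have g1 : key C r < key C c.1 := by rw [hk]; nlinarith
  have g2 : key C s < key C c.1 := by rw [hk]; nlinarith
  have l1 : r < c.1 := by
    rcases Nat.lt_trichotomy r c.1 with h | h | h
    · exact h
    · rw [h] at g1; omega
    · have := key_lt C hr' h; omega
  have l2 : s < c.1 := by
    rcases Nat.lt_trichotomy s c.1 with h | h | h
    · exact h
    · rw [h] at g2; omega
    · have := key_lt C hs' h; omega
  exact xg_mem_uGe C (by omega) (by omega) h1 _

theorem xg_conj_uGe {k : ℕ} (hk : D.nroots / 2 ≤ k) (hk' : k < D.nroots) (t : F) :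
    ∀ v ∈ uGe C (F := F) (k + 1), xg C k t * v * (xg C k t)⁻¹ ∈ uGe C (F := F) (k + 1) := by
  intro v hv
  induction hv using Subgroup.closure_induction with
  | mem g hg =>
    obtain ⟨r, u, h1, h2, h3, rfl⟩ := hg
    obtain ⟨w, hw, he⟩ := comm_higher C hk hk' h2 h3 (by omega) (-t) u
    rw [xg_inv, mul_assoc, he, ← mul_assoc, ← mul_assoc, xg_mul, add_neg_cancel, xg_zero, one_mul]
    exact mul_mem (xg_mem_uGe C h1 h2 h3 u) (uGe_mono C (by omega) hw)
  | one => simp
  | mul a b _ _ ha hb => simpa [mul_assoc] using mul_mem ha hb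
  | inv a _ ha => simpa [mul_assoc] using inv_mem ha

theorem uGe_split {k : ℕ} (hk : D.nroots / 2 ≤ k) (hk' : k < D.nroots) {g : GL D.Idx F}
    (hg : g ∈ uGe C (F := F) k) : ∃ t : F, ∃ v ∈ uGe C (F := F) (k + 1), g = xg C k t * v := by
  induction hg using Subgroup.closure_induction with
  | mem x hx =>
    obtain ⟨r, u, h1, h2, h3, rfl⟩ := hx
    by_cases h : r = k
    · subst h; exact ⟨u, 1, one_mem _, by simp⟩
    · exact ⟨0, xg C r u, xg_mem_uGe C (by omega) h2 h3 u, by simp⟩
  | one => exact ⟨0, 1, one_mem _, by simp⟩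
  | mul a b _ _ ha hb =>
    obtain ⟨t, v, hv, rfl⟩ := ha
    obtain ⟨u, w, hw, rfl⟩ := hb
    refine ⟨t + u, (xg C k u)⁻¹ * v * xg C k u * w, mul_mem ?_ hw, ?_⟩
    · have := xg_conj_uGe C hk hk' (-u) v hv
      rwa [← xg_inv, inv_inv] at this
    · rw [← xg_mul]; group
  | inv a _ ha =>
    obtain ⟨t, v, hv, rfl⟩ := ha
    refine ⟨-t, xg C k t * v⁻¹ * (xg C k t)⁻¹, xg_conj_uGe C hk hk' t _ (inv_mem hv), ?_⟩
    rw [← xg_inv]; group

/-- the ordered product over the roots `k, k+1, …` -/
def uProd (k : ℕ) (t : ℕ → F) : GL D.Idx F :=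
  ((List.range' k (D.nroots - k)).map fun r => xg C r (t r)).prod

theorem uProd_succ {k : ℕ} (hk : k < D.nroots) (t : ℕ → F) :
    uProd C k t = xg C k (t k) * uProd C (k + 1) t := by
  rw [uProd, uProd, show D.nroots - k = (D.nroots - (k + 1)) + 1 by omega, List.range'_succ, List.map_cons,
    List.prod_cons]

theorem uProd_top {k : ℕ} (hk : D.nroots ≤ k) (t : ℕ → F) : uProd C k t = 1 := by
  simp [uProd, show D.nroots - k = 0 by omega]

theorem uProd_mem {k : ℕ} (hk : D.nroots / 2 ≤ k) (t : ℕ → F) : uProd C k t ∈ uGe C (F := F) k := by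
  apply Subgroup.list_prod_mem
  intro g hg
  obtain ⟨r, hr, rfl⟩ := List.mem_map.1 hg
  rw [List.mem_range'_1] at hr
  exact xg_mem_uGe C hr.1 (by omega) (by omega) _

theorem exists_uProd {k : ℕ} (hk : D.nroots / 2 ≤ k) {g : GL D.Idx F} (hg : g ∈ uGe C (F := F) k) :
    ∃ t : ℕ → F, (∀ r, r < k ∨ D.nroots ≤ r → t r = 0) ∧ g = uProd C k t := by
  induction hn : D.nroots - k generalizing k g with
  | zero =>
    rw [uGe_top C (by omega), Subgroup.mem_bot] at hg
    exact ⟨fun _ => 0, fun _ _ => rfl, by rw [uProd_top C (by omega), hg]⟩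
  | succ n ih =>
    obtain ⟨a, v, hv, rfl⟩ := uGe_split C hk (by omega) hg
    obtain ⟨t, h0, rfl⟩ := ih (by omega) hv (by omega)
    refine ⟨Function.update t k a, fun r hr => ?_, ?_⟩
    · rw [Function.update_of_ne (by omega)]; exact h0 r (by omega)
    · rw [uProd_succ C (show k < D.nroots by omega), Function.update_self]
      congr 1
      unfold uProd
      congr 1
      exact List.map_congr_left fun r hr => by
        rw [List.mem_range'_1] at hr
        rw [Function.update_of_ne (by omega)]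

/-- some coefficient of a coroot is non-zero in `F` -/
theorem cc_ne_zero {r : ℕ} (hr : r < D.nroots) :
    ∃ j : Fin D.rank, ((cc D r j.val : ℤ) : F) ≠ 0 := by
  by_contra h
  push Not at h
  have key : ∀ l : List ℕ, (∀ j ∈ l, j < D.rank) →
      ((((l.map fun j => (cc D r j).natAbs).foldr Nat.gcd 0 : ℕ) : F)) = 0 := by
    intro l
    induction l with
    | nil => simp
    | cons a l ih =>
      intro hl
      simp only [List.map_cons, List.foldr_cons]
      have h1 : (((cc D r a).natAbs : ℕ) : F) = 0 := by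
        have := h ⟨a, hl a (List.mem_cons_self ..)⟩
        rcases Int.natAbs_eq (cc D r a) with e | e <;> rw [e] at this <;> simpa using this
      have h2 := ih fun j hj => hl j (List.mem_cons_of_mem _ hj)
      rw [ringChar.spec] at h1 h2 ⊢
      exact Nat.dvd_gcd h1 h2
  have := key (List.range D.rank) fun j hj => List.mem_range.1 hj
  rw [C.cc_gcd r hr] at this
  simp at this

theorem x_entry {r : ℕ} (hr : r < D.nroots) (t : F) (j : Fin D.rank) :
    (D.x F r t) (Sum.inl j) (Sum.inr ⟨D.neg r, C.neg_lt r⟩) = (cc D r j.val : F) * t := by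
  simp [x_eq_xR C hr, xR, xm, neg_ne C hr, mul_comm]

theorem uGe_succ_entry {k : ℕ} (hk : D.nroots / 2 ≤ k) (hk' : k < D.nroots) {v : GL D.Idx F}
    (hv : v ∈ uGe C (F := F) (k + 1)) :
    v ∈ upperAt (kq C) ((key C k).toNat + 1) := by
  refine uGe_le_upper C (fun r h1 _ h3 => ?_) hv
  have h4 := key_lt C h3 (show k < r by omega)
  have h5 := (key_pos C hk').2 hk
  omega

theorem coeff_unique {k : ℕ} (hk : D.nroots / 2 ≤ k) (hk' : k < D.nroots) {t t' : F} {v v' : GL D.Idx F}
    (hv : v ∈ uGe C (F := F) (k + 1)) (hv' : v' ∈ uGe C (F := F) (k + 1))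
    (h : xg C k t * v = xg C k t' * v') : t = t' ∧ v = v' := by
  have hm : xg C k (t - t') = v' * v⁻¹ := by
    rw [sub_eq_neg_add, ← xg_mul, ← xg_inv, inv_mul_eq_iff_eq_mul, ← mul_assoc, ← h, mul_assoc,
      mul_inv_cancel, mul_one]
  have hu := uGe_succ_entry C hk hk' (mul_mem hv' (inv_mem hv))
  rw [← hm] at hu
  obtain ⟨j, hj⟩ := cc_ne_zero C (F := F) hk'
  have hkp := (key_pos C hk').2 hk
  have e := upperAt_entry (kq C) hu (i := Sum.inl j) (j := Sum.inr ⟨D.neg k, C.neg_lt k⟩)
    (by simp only [kq, Sum.elim_inl, Sum.elim_inr]; rw [key_neg C hk']; omega)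
  rw [coe_xg, x_entry C hk', Matrix.one_apply_ne (by simp)] at e
  have ht : t = t' := by
    rcases mul_eq_zero.1 e with h0 | h0
    · exact absurd h0 hj
    · exact sub_eq_zero.1 h0
  subst ht
  exact ⟨rfl, mul_left_cancel h⟩

theorem uProd_inj {k : ℕ} (hk : D.nroots / 2 ≤ k) {t t' : ℕ → F} (h : uProd C k t = uProd C k t') :
    ∀ r, k ≤ r → r < D.nroots → t r = t' r := by
  induction hn : D.nroots - k generalizing k with
  | zero => intro r h1 h2; omega
  | succ n ih =>
    rw [uProd_succ C (show k < D.nroots by omega) t, uProd_succ C (show k < D.nroots by omega) t'] at h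
    obtain ⟨e1, e2⟩ := coeff_unique C hk (by omega) (uProd_mem C (by omega) t) (uProd_mem C (by omega) t') h
    intro r h1 h2
    rcases eq_or_lt_of_le h1 with rfl | h1'
    · exact e1
    · exact ih (by omega) e2 (by omega) r h1' h2

theorem posRoots_eq : D.posRoots = List.range' (D.nroots / 2) (D.nroots - D.nroots / 2) := by
  rw [ChevalleyDatum.posRoots, List.range_eq_range',
    show D.nroots = D.nroots / 2 + (D.nroots - D.nroots / 2) by omega, ← List.range'_append_1, List.filter_append]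
  have e1 : (List.range' 0 (D.nroots / 2)).filter (fun r => decide (D.IsPosRoot r)) = [] := by
    rw [List.filter_eq_nil_iff]
    intro r hr
    rw [List.mem_range'_1] at hr
    simp only [decide_eq_true_eq]
    exact fun h => by have := ((isPos C).1 h).1; omega
  have e2 : (List.range' (0 + D.nroots / 2) (D.nroots - D.nroots / 2)).filter (fun r => decide (D.IsPosRoot r)) =
      List.range' (D.nroots / 2) (D.nroots - D.nroots / 2) := by
    rw [zero_add, List.filter_eq_self]
    intro r hr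
    rw [List.mem_range'_1] at hr
    simp only [decide_eq_true_eq]
    exact (isPos C).2 ⟨hr.1, by omega⟩
  rw [show D.nroots / 2 + (D.nroots - D.nroots / 2) = D.nroots by omega] at *
  rw [e1, e2, List.nil_append]

theorem uProd_coe (t : ℕ → F) :
    ((uProd C (D.nroots / 2) t : GL D.Idx F) : Matrix D.Idx D.Idx F) =
      D.wordMat F (D.posRoots.map fun r => (r, t r)) := by
  rw [posRoots_eq C, ← coe_wg C, wg, List.map_map]
  rfl

/-- `U` is parametrised by the ordered products -/
theorem U_normal_form {g : GL D.Idx F} (hg : g ∈ D.posUnipotent F) :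
    ∃! t : ℕ → F, (∀ r, ¬ D.IsPosRoot r → t r = 0) ∧ g = uProd C (D.nroots / 2) t := by
  rw [posUnipotent_eq C] at hg
  obtain ⟨t, h0, rfl⟩ := exists_uProd C le_rfl hg
  refine ⟨t, ⟨fun r hr => h0 r ?_, rfl⟩, ?_⟩
  · by_contra hc
    exact hr ((isPos C).2 ⟨by omega, by omega⟩)
  · rintro t' ⟨h0', he⟩
    funext r
    by_cases hr : D.IsPosRoot r
    · exact (uProd_inj C le_rfl he r ((isPos C).1 hr).1 ((isPos C).1 hr).2).symm
    · rw [h0' r hr]
      refine (h0 r ?_).symm
      by_contra hc
      exact hr ((isPos C).2 ⟨by omega, by omega⟩)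

theorem card_U [Fintype F] : Nat.card (D.posUnipotent F) = Fintype.card F ^ (D.nroots / 2) := by
  classical
  have hN : D.nroots - D.nroots / 2 = D.nroots / 2 := by have := C.even; omega
  let f : (Fin (D.nroots / 2) → F) → D.posUnipotent F := fun a =>
    ⟨uProd C (D.nroots / 2) (fun r => if h : r - D.nroots / 2 < D.nroots / 2 then a ⟨_, h⟩ else 0),
      by rw [posUnipotent_eq C]; exact uProd_mem C le_rfl _⟩
  have hf : Function.Bijective f := by
    constructor
    · intro a b hab
      funext i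
      have := uProd_inj C le_rfl (congrArg Subtype.val hab) (D.nroots / 2 + i.val) (by omega) (by omega)
      simpa using this
    · rintro ⟨g, hg⟩
      rw [posUnipotent_eq C] at hg
      obtain ⟨t, _, rfl⟩ := exists_uProd C le_rfl hg
      refine ⟨fun i => t (D.nroots / 2 + i.val), Subtype.ext ?_⟩
      simp only [f, uProd]
      congr 1
      apply List.map_congr_left
      intro r hr
      rw [List.mem_range'_1] at hr
      rw [dif_pos (show r - D.nroots / 2 < D.nroots / 2 by omega), show D.nroots / 2 + (r - D.nroots / 2) = r by omega]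
  rw [← Nat.card_congr (Equiv.ofBijective f hf), Nat.card_fun, Nat.card_fin, Nat.card_eq_fintype_card]

end Cfsg.Agent.ChevalleyUnipotent
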