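import Cfsg.Agent.Lib.ChevalleyTorus

/-!
Groups generated by root elements satisfying Steinberg's relations (R1) and (R2) and mapping onto the
Chevalley group: injectivity on the conjugates of `U`, and the action of the elements `n_i(t)`.
-/

set_option autoImplicit false
set_option linter.unusedSectionVars false

namespace Cfsg.Agent.StBasic

open Cfsg.Lie Cfsg.Agent.ChevalleyEngine Cfsg.Agent.ChevalleyCert Cfsg.Agent.ChevalleyRoots
open Cfsg.Agent.ChevalleyCore Cfsg.Agent.ChevalleyUnipotent Cfsg.Agent.ChevalleyTorus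

variable {D : ChevalleyDatum} {C : Cert D} {F : Type*} [Field F] {Γ : Type*} [Group Γ]

/-- A family of root elements satisfying (R1) and (R2) over the root elements of the Chevalley group. -/
structure Sys (C : Cert D) (F : Type*) [Field F] (Γ : Type*) [Group Γ] where
  /-- the root elements -/
  x : ℕ → F → Γ
  /-- the map to the Chevalley group -/
  θ : Γ →* GL D.Idx F
  x_add : ∀ r, r < D.nroots → ∀ t u : F, x r t * x r u = x r (t + u)
  comm : ∀ r s, r < D.nroots → s < D.nroots → s ≠ r → s ≠ D.neg r → ∀ t u : F,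
    x s u * x r t = x r t * x s u * ((D.commWord F r s t u).map fun p => x p.1 p.2).prod
  θ_x : ∀ r, r < D.nroots → ∀ t : F, θ (x r t) = xg C r t
  gen : Subgroup.closure {g : Γ | ∃ r, r < D.nroots ∧ ∃ t : F, g = x r t} = ⊤

variable (S : Sys C F Γ)

theorem x_zero {r : ℕ} (hr : r < D.nroots) : S.x r 0 = 1 := by
  have h := S.x_add r hr 0 0
  rw [add_zero] at h
  exact mul_eq_left.1 h

theorem x_inv {r : ℕ} (hr : r < D.nroots) (t : F) : (S.x r t)⁻¹ = S.x r (-t) :=
  inv_eq_of_mul_eq_one_right (by rw [S.x_add r hr, add_neg_cancel, x_zero S hr])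

/-! ### roots and words -/

omit S in
theorem lt_of_commTerms (C : Cert D) {r s : ℕ} (hr : r < D.nroots) (hs : s < D.nroots)
    {c : ℕ × ℤ × ℕ × ℕ} (hc : c ∈ D.commTerms r s) : c.1 < D.nroots :=
  (commTerms_mem C hr hs hc).1

omit S in
theorem coef_nonpos (C : Cert D) {r j : ℕ} (hr : r < D.nroots / 2) (hj : j < D.rank) : C.coef r j ≤ 0 := by
  have hr' : r < D.nroots := by omega
  have h := C.coef_pos (D.neg r) j ((neg_pos C hr').2 hr) (C.neg_lt r) hj
  rw [C.coef_neg r j hr' hj] at h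
  omega

omit S in
theorem wact_append (l m : List ℕ) (r : ℕ) : wact (D := D) (l ++ m) r = wact (D := D) l (wact (D := D) m r) := by
  simp [wact, List.foldr_append]

omit S in
theorem wact_rev (C : Cert D) {l : List ℕ} (hl : ∀ i ∈ l, i < D.rank) {r : ℕ} (hr : r < D.nroots) :
    wact (D := D) l.reverse (wact (D := D) l r) = r := by
  induction l with
  | nil => rfl
  | cons i l ih =>
    have hl' : ∀ j ∈ l, j < D.rank := fun j hj => hl j (List.mem_cons_of_mem _ hj)
    rw [List.reverse_cons, wact_append, wact_cons]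
    show wact (D := D) l.reverse (wr D i (wr D i (wact (D := D) l r))) = r
    rw [w_invol C (hl i (List.mem_cons_self ..)) (wact_lt C hl' hr), ih hl']

omit S in
theorem rev_lt {l : List ℕ} (hl : ∀ i ∈ l, i < D.rank) : ∀ i ∈ l.reverse, i < D.rank :=
  fun i hi => hl i (List.mem_reverse.1 hi)

omit S in
/-- the roots in the commutator of two roots of `w(Φ⁺)` come from higher positive roots -/
theorem term_higher (C : Cert D) {l : List ℕ} (hl : ∀ i ∈ l, i < D.rank) {r s : ℕ}
    (hr : D.nroots / 2 ≤ r) (hr' : r < D.nroots) (hs : D.nroots / 2 ≤ s) (hs' : s < D.nroots)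
    {c : ℕ × ℤ × ℕ × ℕ} (hc : c ∈ D.commTerms (wact (D := D) l r) (wact (D := D) l s)) :
    ∃ q, max r s < q ∧ q < D.nroots ∧ wact (D := D) l q = c.1 := by
  have hR := wact_lt C hl hr'
  have hS := wact_lt C hl hs'
  obtain ⟨hk, hi, hj, hco⟩ := commTerms_mem C hR hS hc
  set q := wact (D := D) l.reverse c.1 with hq
  have hq' : q < D.nroots := wact_lt C (rev_lt hl) hk
  have hw : wact (D := D) l q = c.1 := by
    have := wact_rev C (rev_lt hl) hk
    rwa [List.reverse_reverse] at this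
  have hcq : ∀ j, j < D.rank →
      C.coef q j = (c.2.2.1 : ℤ) * C.coef r j + (c.2.2.2 : ℤ) * C.coef s j := by
    intro j hj
    conv_rhs => rw [← wact_rev C hl hr', ← wact_rev C hl hs',
      wact_coef C (rev_lt hl) hR hj, wact_coef C (rev_lt hl) hS hj, Finset.mul_sum, Finset.mul_sum,
      ← Finset.sum_add_distrib]
    rw [hq, wact_coef C (rev_lt hl) hk hj]
    refine Finset.sum_congr rfl fun k hk' => ?_
    rw [hco k (Finset.mem_range.1 hk')]
    ring
  have hkey := key_lin C _ _ hcq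
  have p1 := (key_pos C hr').2 hr
  have p2 := (key_pos C hs').2 hs
  have i1 : (1 : ℤ) ≤ c.2.2.1 := by exact_mod_cast hi
  have j1 : (1 : ℤ) ≤ c.2.2.2 := by exact_mod_cast hj
  have g1 : key C r < key C q := by rw [hkey]; nlinarith
  have g2 : key C s < key C q := by rw [hkey]; nlinarith
  have mono : ∀ {a : ℕ}, a < D.nroots → key C a < key C q → a < q := by
    intro a ha h
    rcases Nat.lt_trichotomy a q with h' | h' | h'
    · exact h'
    · rw [h'] at h; omega
    · have := key_lt C ha h'; omega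
  exact ⟨q, max_lt (mono hr' g1) (mono hs' g2), hq', hw⟩

/-! ### the subgroups `w(U)` -/

/-- the subgroup generated by the root elements of `w(Φ⁺)`, from the `k`th root on -/
def UG (l : List ℕ) (k : ℕ) : Subgroup Γ :=
  Subgroup.closure {g | ∃ r, k ≤ r ∧ D.nroots / 2 ≤ r ∧ r < D.nroots ∧ ∃ t : F, g = S.x (wact (D := D) l r) t}

theorem x_mem_UG {l : List ℕ} {k r : ℕ} (hk : k ≤ r) (hp : D.nroots / 2 ≤ r) (hr : r < D.nroots) (t : F) :
    S.x (wact (D := D) l r) t ∈ UG S l k :=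
  Subgroup.subset_closure ⟨r, hk, hp, hr, t, rfl⟩

theorem UG_mono {l : List ℕ} {j k : ℕ} (h : j ≤ k) : UG S l k ≤ UG S l j := by
  refine Subgroup.closure_mono ?_
  rintro g ⟨r, hk, hp, hr, t, rfl⟩
  exact ⟨r, h.trans hk, hp, hr, t, rfl⟩

theorem UG_top {l : List ℕ} {k : ℕ} (hk : D.nroots ≤ k) : UG S l k = ⊥ := by
  rw [UG, Subgroup.closure_eq_bot_iff]
  rintro g ⟨r, h1, _, h2, -⟩
  omega

theorem x_conj_UG {l : List ℕ} (hl : ∀ i ∈ l, i < D.rank) {k : ℕ} (hk : D.nroots / 2 ≤ k)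
    (hk' : k < D.nroots) (t : F) :
    ∀ v ∈ UG S l (k + 1), S.x (wact (D := D) l k) t * v * (S.x (wact (D := D) l k) t)⁻¹ ∈ UG S l (k + 1) := by
  intro v hv
  induction hv using Subgroup.closure_induction with
  | mem g hg =>
    obtain ⟨r, h1, h2, h3, u, rfl⟩ := hg
    set a := wact (D := D) l k
    set b := wact (D := D) l r
    have ha : a < D.nroots := wact_lt C hl hk'
    have hb : b < D.nroots := wact_lt C hl h3
    have hne : b ≠ a := fun h => by
      have := wact_rev C hl h3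
      rw [show wact (D := D) l r = a from h, wact_rev C hl hk'] at this
      omega
    have hneg : b ≠ D.neg a := fun h => by
      have := wact_rev C hl h3
      rw [show wact (D := D) l r = D.neg a from h, wact_neg C (rev_lt hl) ha, wact_rev C hl hk'] at this
      have := (neg_pos C hk').1 (this ▸ h2)
      omega
    have hc := S.comm a b ha hb hne hneg (-t) u
    rw [← x_inv S ha, mul_assoc ((S.x a t)⁻¹)] at hc
    have e : S.x a t * S.x b u * (S.x a t)⁻¹ =
        S.x b u * ((D.commWord F a b (-t) u).map fun p => S.x p.1 p.2).prod := by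
      rw [mul_assoc, hc, mul_inv_cancel_left]
    rw [e]
    refine mul_mem (x_mem_UG S h1 h2 h3 u) (Subgroup.list_prod_mem _ ?_)
    intro g hg
    simp only [ChevalleyDatum.commWord, List.map_map, List.mem_map] at hg
    obtain ⟨c, hc, rfl⟩ := hg
    obtain ⟨q, hq1, hq2, hq3⟩ := term_higher C hl hk hk' h2 h3 hc
    simp only [Function.comp_apply, ← hq3]
    exact x_mem_UG S (by omega) (by omega) hq2 _
  | one => simp
  | mul a b _ _ ha hb =>
    have := mul_mem ha hb
    simpa [mul_assoc] using this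
  | inv a _ ha =>
    have := inv_mem ha
    simpa [mul_assoc] using this

theorem UG_split {l : List ℕ} (hl : ∀ i ∈ l, i < D.rank) {k : ℕ} (hk : D.nroots / 2 ≤ k)
    (hk' : k < D.nroots) {g : Γ} (hg : g ∈ UG S l k) :
    ∃ t : F, ∃ v ∈ UG S l (k + 1), g = S.x (wact (D := D) l k) t * v := by
  have hw : wact (D := D) l k < D.nroots := wact_lt C hl hk'
  induction hg using Subgroup.closure_induction with
  | mem y hy =>
    obtain ⟨r, h1, h2, h3, u, rfl⟩ := hy
    rcases eq_or_lt_of_le h1 with rfl | h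
    · exact ⟨u, 1, one_mem _, (mul_one _).symm⟩
    · exact ⟨0, _, x_mem_UG S h h2 h3 u, by rw [x_zero S hw, one_mul]⟩
  | one => exact ⟨0, 1, one_mem _, by rw [x_zero S hw, one_mul]⟩
  | mul a b _ _ ha hb =>
    obtain ⟨t, v, hv, rfl⟩ := ha
    obtain ⟨u, w, hw', rfl⟩ := hb
    refine ⟨t + u, (S.x (wact (D := D) l k) u)⁻¹ * v * S.x (wact (D := D) l k) u * w, mul_mem ?_ hw', ?_⟩
    · have := x_conj_UG S hl hk hk' (-u) v hv
      rwa [← x_inv S hw, inv_inv] at this
    · rw [← S.x_add _ hw]; group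
  | inv a _ ha =>
    obtain ⟨t, v, hv, rfl⟩ := ha
    refine ⟨-t, S.x (wact (D := D) l k) t * v⁻¹ * (S.x (wact (D := D) l k) t)⁻¹,
      x_conj_UG S hl hk hk' t _ (inv_mem hv), ?_⟩
    rw [← x_inv S hw]; group

theorem θ_UG {l : List ℕ} (hl : ∀ i ∈ l, i < D.rank) {k : ℕ} {g : Γ} (hg : g ∈ UG S l k) :
    (nword C l)⁻¹ * S.θ g * nword C l ∈ uGe C (F := F) k := by
  induction hg using Subgroup.closure_induction with
  | mem y hy =>
    obtain ⟨r, h1, h2, h3, u, rfl⟩ := hy
    obtain ⟨e, he, h⟩ := nword_conj C (F := F) hl h3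
    have h' := h (e * u)
    rw [← mul_assoc e e u, he, one_mul] at h'
    rw [S.θ_x _ (wact_lt C hl h3), ← h']
    simp only [mul_assoc, inv_mul_cancel_left, inv_mul_cancel, mul_one]
    exact xg_mem_uGe C h1 h2 h3 _
  | one => simp
  | mul a b _ _ ha hb =>
    have := mul_mem ha hb
    simpa [mul_assoc] using this
  | inv a _ ha =>
    have := inv_mem ha
    simpa [mul_assoc] using this

/-- `θ` is injective on `w(U)`. -/
theorem eq_one_of_UG {l : List ℕ} (hl : ∀ i ∈ l, i < D.rank) {g : Γ}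
    (hg : g ∈ UG S l (D.nroots / 2)) (h1 : S.θ g = 1) : g = 1 := by
  suffices ∀ n k, D.nroots - k = n → D.nroots / 2 ≤ k → ∀ g ∈ UG S l k, S.θ g = 1 → g = 1 from
    this _ _ rfl le_rfl g hg h1
  intro n
  induction n with
  | zero =>
    intro k hn _ g hg _
    rwa [UG_top S (by omega), Subgroup.mem_bot] at hg
  | succ n ih =>
    intro k hn hk g hg h1
    have hk' : k < D.nroots := by omega
    obtain ⟨t, v, hv, rfl⟩ := UG_split S hl hk hk' hg
    obtain ⟨e, he, h⟩ := nword_conj C (F := F) hl hk'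
    have h' := h (e * t)
    rw [← mul_assoc e e t, he, one_mul] at h'
    rw [map_mul, S.θ_x _ (wact_lt C hl hk'), ← h'] at h1
    have h2 : xg C k (e * t) * ((nword C l)⁻¹ * S.θ v * nword C l) = xg C k 0 * 1 := by
      rw [xg_zero, mul_one]
      have := congrArg (fun y => (nword C l)⁻¹ * y * nword C l) h1
      simpa [mul_assoc] using this
    obtain ⟨e1, e2⟩ := coeff_unique C hk hk' (θ_UG S hl hv) (one_mem _) h2
    have ht : t = 0 := by
      have := congrArg (fun y => e * y) e1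
      simpa [← mul_assoc, he] using this
    have hv1 : S.θ v = 1 := by
      have := congrArg (fun y => nword C l * y * (nword C l)⁻¹) e2
      simpa [mul_assoc] using this
    rw [ih (k + 1) (by omega) (by omega) v hv hv1, ht, x_zero S (wact_lt C hl hk'), mul_one]

theorem eq_of_UG {l : List ℕ} (hl : ∀ i ∈ l, i < D.rank) {g g' : Γ}
    (hg : g ∈ UG S l (D.nroots / 2)) (hg' : g' ∈ UG S l (D.nroots / 2)) (h : S.θ g = S.θ g') : g = g' := by
  rw [← mul_inv_eq_one]
  exact eq_one_of_UG S hl (mul_mem hg (inv_mem hg')) (by rw [map_mul, map_inv, h, mul_inv_cancel])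

/-! ### the elements `n_i(t)` -/

/-- `n_i(t)` -/
def n (i : ℕ) (t : F) : Γ := S.x (D.simple i) t * S.x (D.neg (D.simple i)) (-t⁻¹) * S.x (D.simple i) t

/-- `h_i(t) = n_i(t) n_i(-1)` -/
def h (i : ℕ) (t : F) : Γ := n S i t * n S i (-1)

theorem θ_n {i : ℕ} (hi : i < D.rank) (t : F) : S.θ (n S i t) = ng C (D.simple i) t := by
  rw [n, map_mul, map_mul, S.θ_x _ (simple_lt C hi), S.θ_x _ (C.neg_lt _)]
  rfl

theorem θ_h {i : ℕ} (hi : i < D.rank) (t : F) : S.θ (h S i t) = hg C (D.simple i) t := by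
  rw [h, map_mul, θ_n S hi, θ_n S hi]
  rfl

theorem n_inv {i : ℕ} (hi : i < D.rank) (t : F) : (n S i t)⁻¹ = n S i (-t) := by
  simp [n, x_inv S (simple_lt C hi), x_inv S (C.neg_lt _), inv_neg, mul_assoc]

/-- the coefficient of `n_i(t) x_s(u) n_i(t)⁻¹` -/
def cn (C : Cert D) (i : ℕ) (t : F) (s : ℕ) : F := t ^ D.cartan i (wr D i s) * (C.eta i s : F)

omit S in
theorem cn_ne_zero (C : Cert D) {i : ℕ} {t : F} (ht : t ≠ 0) (s : ℕ) : cn C i t s ≠ 0 :=
  mul_ne_zero (zpow_ne_zero _ ht) (eta_cast_ne C i s)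

omit S in
theorem ng_conj_xg (C : Cert D) {i s : ℕ} (hi : i < D.rank) (hs : s < D.nroots) {t : F} (ht : t ≠ 0) (u : F) :
    ng C (D.simple i) t * xg C s u * (ng C (D.simple i) t)⁻¹ = xg C (wr D i s) (cn C i t s * u) := by
  rw [ng_eq, mul_inv_rev]
  calc _ = hg C (D.simple i) t * (ng C (D.simple i) 1 * xg C s u * (ng C (D.simple i) 1)⁻¹) *
        (hg C (D.simple i) t)⁻¹ := by group
    _ = _ := by
      rw [ng_simple_conj C hi hs, hg_conj_xg C (simple_lt C hi) (C.w_lt i s hi hs) ht,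
        mul_inv_cancel_right, pairing_simple C hi, cn, mul_assoc]

/-- The data used to write the simple root elements with other root elements: for each `i` a word `l`
and positive roots `b`, `c`, and the position of the term of `p_i` in the commutator of their images. -/
def GenAt (D : ChevalleyDatum) (i : ℕ) (w : List ℕ × ℕ × ℕ × ℕ) : Prop :=
  (∀ j ∈ w.1, j < D.rank) ∧ D.nroots / 2 ≤ w.2.1 ∧ w.2.1 < D.nroots ∧ D.nroots / 2 ≤ w.2.2.1 ∧
    w.2.2.1 < D.nroots ∧
    let b := wact (D := D) w.1 w.2.1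
    let c := wact (D := D) w.1 w.2.2.1
    let p := D.simple i
    let ts := D.commTerms b c
    b ≠ p ∧ b ≠ D.neg p ∧ c ≠ p ∧ c ≠ D.neg p ∧ c ≠ b ∧ c ≠ D.neg b ∧
      match ts[w.2.2.2]? with
      | none => False
      | some T => T.1 = p ∧ (T.2.1 = 1 ∨ T.2.1 = -1) ∧ (T.2.2.1 = 1 ∨ T.2.2.2 = 1) ∧
          ∀ T' ∈ ts.take w.2.2.2 ++ ts.drop (w.2.2.2 + 1), T'.1 ≠ p ∧ T'.1 ≠ D.neg p

/-- every simple root element is a word in the other root elements -/
def Gen (D : ChevalleyDatum) : Prop := ∀ i, i < D.rank → ∃ w, GenAt D i w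

theorem conj_mem_closure {A : Set Γ} {K : Subgroup Γ} {g : Γ} (hA : ∀ a ∈ A, g * a * g⁻¹ ∈ K) :
    ∀ v ∈ Subgroup.closure A, g * v * g⁻¹ ∈ K := by
  intro v hv
  induction hv using Subgroup.closure_induction with
  | mem a ha => exact hA a ha
  | one => simp
  | mul a b _ _ ha hb => simpa [mul_assoc] using mul_mem ha hb
  | inv a _ ha => simpa [mul_assoc] using inv_mem ha

/-- root elements with a coefficient of sign `ε` outside the node `i` -/
def side (i : ℕ) (ε : ℤ) : Subgroup Γ :=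
  Subgroup.closure {g | ∃ v, v < D.nroots ∧ (∃ j, j < D.rank ∧ j ≠ i ∧ 0 < ε * C.coef v j) ∧
    ∃ u : F, g = S.x v u}

theorem x_conj_side {i : ℕ} (hi : i < D.rank) {a : ℕ} (ha : a = D.simple i ∨ a = D.neg (D.simple i))
    (ε : ℤ) (t : F) : ∀ v ∈ side S i ε, S.x a t * v * (S.x a t)⁻¹ ∈ side S i ε := by
  have hp := simple_lt C hi
  have hco : ∀ j, j < D.rank → j ≠ i → C.coef a j = 0 := by
    intro j hj hji
    rcases ha with rfl | rfl
    · rw [C.coef_simple i j hi hj, if_neg hji]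
    · rw [C.coef_neg _ j hp hj, C.coef_simple i j hi hj, if_neg hji, neg_zero]
  have hal : a < D.nroots := by rcases ha with rfl | rfl; exacts [hp, C.neg_lt _]
  refine conj_mem_closure ?_
  rintro g ⟨v, hv, ⟨j, hj, hji, hpos⟩, u, rfl⟩
  have hne : v ≠ a := fun h => by rw [h, hco j hj hji, mul_zero] at hpos; omega
  have hneg : v ≠ D.neg a := fun h => by
    rw [h, C.coef_neg a j hal hj, hco j hj hji, neg_zero, mul_zero] at hpos; omega
  have hc := S.comm a v hal hv hne hneg (-t) u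
  rw [← x_inv S hal, mul_assoc ((S.x a t)⁻¹)] at hc
  rw [mul_assoc, hc, mul_inv_cancel_left]
  refine mul_mem (Subgroup.subset_closure ⟨v, hv, ⟨j, hj, hji, hpos⟩, u, rfl⟩)
    (Subgroup.list_prod_mem _ ?_)
  intro g hg
  simp only [ChevalleyDatum.commWord, List.map_map, List.mem_map] at hg
  obtain ⟨c, hc, rfl⟩ := hg
  obtain ⟨h1, _, h3, h4⟩ := commTerms_mem C hal hv hc
  refine Subgroup.subset_closure ⟨c.1, h1, ⟨j, hj, hji, ?_⟩, _, rfl⟩
  rw [h4 j hj, hco j hj hji, mul_zero, zero_add, mul_left_comm]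
  exact mul_pos (by exact_mod_cast h3) hpos

theorem n_conj_side {i : ℕ} (hi : i < D.rank) (ε : ℤ) (t : F) {v : Γ} (hv : v ∈ side S i ε) :
    n S i t * v * (n S i t)⁻¹ ∈ side S i ε := by
  have := x_conj_side S hi (Or.inl rfl) ε t _
    (x_conj_side S hi (Or.inr rfl) ε (-t⁻¹) _ (x_conj_side S hi (Or.inl rfl) ε t v hv))
  simpa [n, mul_assoc] using this

omit S in
theorem exists_side (C : Cert D) {i s : ℕ} (hi : i < D.rank) (hs : D.nroots / 2 ≤ s)
    (hs' : s < D.nroots) (hne : s ≠ D.simple i) : ∃ j, j < D.rank ∧ j ≠ i ∧ 0 < C.coef s j := by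
  by_contra hc
  push Not at hc
  have h0 : ∀ j, j < D.rank → j ≠ i → C.coef s j = 0 := fun j hj hji =>
    le_antisymm (hc j hj hji) (C.coef_pos s j hs hs' hj)
  have h1 := C.coef_pos _ i (simple_perm C hi hs hs' hne) (C.w_lt i s hi hs') hi
  have hA : D.cartan i s = C.coef s i * 2 := by
    rw [cartan_lin' C hi hs', Finset.sum_eq_single i
      (fun j hj hji => by rw [h0 j (Finset.mem_range.1 hj) hji, zero_mul]) (by simp [hi]), cartan_self C hi]
  rw [C.coef_w i s i hi hs' hi, if_pos rfl, hA] at h1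
  have h2 := C.coef_pos s i hs hs' hi
  refine neg_ne C hs' (coef_inj C (C.neg_lt s) hs' fun j hj => ?_)
  rw [C.coef_neg s j hs' hj]
  by_cases hji : j = i
  · subst hji; omega
  · rw [h0 j hj hji, neg_zero]

/-- a positive root system containing a side -/
theorem exists_side_le (ε : ℤ) (hε : ε = 1 ∨ ε = -1) :
    ∃ l : List ℕ, (∀ i ∈ l, i < D.rank) ∧ ∀ i, side S i ε ≤ UG S l (D.nroots / 2) := by
  rcases hε with rfl | rfl
  · refine ⟨[], by simp, fun i => (Subgroup.closure_le _).2 ?_⟩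
    rintro g ⟨v, hv, ⟨j, hj, -, hpos⟩, u, rfl⟩
    have hv2 : D.nroots / 2 ≤ v := by
      by_contra hc
      have := coef_nonpos C (r := v) (by omega) hj
      omega
    exact x_mem_UG S (l := []) hv2 hv2 hv u
  · obtain ⟨l, hl, hlong⟩ := exists_long_word C
    refine ⟨l, hl, fun i => (Subgroup.closure_le _).2 ?_⟩
    rintro g ⟨v, hv, ⟨j, hj, -, hpos⟩, u, rfl⟩
    have hv2 : v < D.nroots / 2 := by
      by_contra hc
      have := C.coef_pos v j (by omega) hv hj
      omega
    obtain ⟨r, hr, hrv⟩ := wact_bij C hl hv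
    have hp : D.nroots / 2 ≤ r := by
      by_contra hc
      have h1 := hlong (D.neg r) ((neg_pos C hr).2 (by omega)) (C.neg_lt r)
      rw [wact_neg C hl hr, hrv] at h1
      have := (neg_pos C hv).2 hv2
      omega
    rw [← hrv]
    exact x_mem_UG S hp hp hr u

variable (hG : Gen D)

omit S in
theorem cons_lt {i : ℕ} {l : List ℕ} (hi : i < D.rank) (hl : ∀ j ∈ l, j < D.rank) :
    ∀ j ∈ i :: l, j < D.rank := by
  intro j hj
  rcases List.mem_cons.1 hj with rfl | h
  exacts [hi, hl j h]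

theorem n_conj_ne {i s : ℕ} (hi : i < D.rank) (hs : s < D.nroots) (hp : s ≠ D.simple i)
    (hn : s ≠ D.neg (D.simple i)) {t : F} (ht : t ≠ 0) (u : F) :
    n S i t * S.x s u * (n S i t)⁻¹ = S.x (wr D i s) (cn C i t s * u) := by
  have hw := C.w_lt i s hi hs
  obtain ⟨ε, hε, j, hj, hji, hpos⟩ : ∃ ε : ℤ, (ε = 1 ∨ ε = -1) ∧ ∃ j, j < D.rank ∧ j ≠ i ∧
      0 < ε * C.coef s j := by
    by_cases h : D.nroots / 2 ≤ s
    · obtain ⟨j, hj, hji, h0⟩ := exists_side C hi h hs hp
      exact ⟨1, Or.inl rfl, j, hj, hji, by omega⟩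
    · have hne : D.neg s ≠ D.simple i := fun h => hn (by rw [← h, neg_neg' C hs])
      obtain ⟨j, hj, hji, h0⟩ := exists_side C hi ((neg_pos C hs).2 (by omega)) (C.neg_lt s) hne
      rw [C.coef_neg s j hs hj] at h0
      exact ⟨-1, Or.inr rfl, j, hj, hji, by omega⟩
  obtain ⟨l, hl, hle⟩ := exists_side_le S ε hε
  refine eq_of_UG S hl (hle i (n_conj_side S hi ε t (Subgroup.subset_closure
    ⟨s, hs, ⟨j, hj, hji, hpos⟩, u, rfl⟩))) (hle i (Subgroup.subset_closure
      ⟨wr D i s, hw, ⟨j, hj, hji, ?_⟩, _, rfl⟩)) ?_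
  · rwa [C.coef_w i s j hi hs hj, if_neg hji, sub_zero]
  · rw [map_mul, map_mul, map_inv, θ_n S hi, S.θ_x s hs, S.θ_x _ hw, ng_conj_xg C hi hs ht]

include hG in
theorem exists_word {i : ℕ} (hi : i < D.rank) : ∃ l : List ℕ, (∀ j ∈ l, j < D.rank) ∧
    (∃ r, D.nroots / 2 ≤ r ∧ r < D.nroots ∧ wact (D := D) l r = D.simple i) ∧
    ∀ a : F, S.x (D.simple i) a ∈ Subgroup.closure {g : Γ | ∃ r, D.nroots / 2 ≤ r ∧ r < D.nroots ∧
      wact (D := D) l r ≠ D.simple i ∧ wact (D := D) l r ≠ D.neg (D.simple i) ∧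
      ∃ u : F, g = S.x (wact (D := D) l r) u} := by
  obtain ⟨⟨l, r, s, m⟩, hl, hr, hr', hs, hs', hb1, hb2, hc1, hc2, hcb, hcn, hm⟩ := hG i hi
  dsimp only at *
  set b := wact (D := D) l r
  set c := wact (D := D) l s
  set ts := D.commTerms b c with hts
  rcases hT : ts[m]? with _ | T
  · rw [hT] at hm; exact hm.elim
  rw [hT] at hm
  obtain ⟨hTp, hTc, hTe, hrest⟩ := hm
  obtain ⟨hmlt, hTm⟩ := List.getElem?_eq_some_iff.1 hT
  have hsplit : ts = ts.take m ++ T :: ts.drop (m + 1) := by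
    conv_lhs => rw [← List.take_append_drop m ts, List.drop_eq_getElem_cons hmlt, hTm]
  have hTmem : T ∈ ts := hTm ▸ List.getElem_mem hmlt
  obtain ⟨q, hq, hq', hqw⟩ := term_higher C hl hr hr' hs hs' hTmem
  refine ⟨l, hl, ⟨q, by omega, hq', hqw.trans hTp⟩, fun a => ?_⟩
  set K := Subgroup.closure {g : Γ | ∃ r, D.nroots / 2 ≤ r ∧ r < D.nroots ∧
      wact (D := D) l r ≠ D.simple i ∧ wact (D := D) l r ≠ D.neg (D.simple i) ∧
      ∃ u : F, g = S.x (wact (D := D) l r) u}
  obtain ⟨t, u, htu⟩ : ∃ t u : F, (T.2.1 : F) * (-t) ^ T.2.2.1 * u ^ T.2.2.2 = a := by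
    have hC : (T.2.1 : F) * (T.2.1 : F) = 1 := by rcases hTc with e | e <;> simp [e]
    rcases hTe with e | e
    · exact ⟨-((T.2.1 : F) * a), 1, by rw [e, neg_neg, pow_one, one_pow, mul_one, ← mul_assoc, hC, one_mul]⟩
    · exact ⟨-1, (T.2.1 : F) * a, by rw [e, neg_neg, one_pow, pow_one, mul_one, ← mul_assoc, hC, one_mul]⟩
  have hxb : ∀ v : F, S.x b v ∈ K := fun v => Subgroup.subset_closure ⟨r, hr, hr', hb1, hb2, v, rfl⟩
  have hxc : ∀ v : F, S.x c v ∈ K := fun v => Subgroup.subset_closure ⟨s, hs, hs', hc1, hc2, v, rfl⟩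
  have hW : ((D.commWord F b c t u).map fun p => S.x p.1 p.2).prod ∈ K := by
    have he := S.comm b c (wact_lt C hl hr') (wact_lt C hl hs') hcb hcn t u
    have : ((D.commWord F b c t u).map fun p => S.x p.1 p.2).prod =
        (S.x b t * S.x c u)⁻¹ * (S.x c u * S.x b t) := by rw [he, inv_mul_cancel_left]
    rw [this]
    exact mul_mem (inv_mem (mul_mem (hxb t) (hxc u))) (mul_mem (hxc u) (hxb t))
  have hrest' : ∀ L : List (ℕ × ℤ × ℕ × ℕ), (∀ T' ∈ L, T' ∈ ts.take m ++ ts.drop (m + 1)) →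
      (L.map fun c' => S.x c'.1 ((c'.2.1 : F) * (-t) ^ c'.2.2.1 * u ^ c'.2.2.2)).prod ∈ K := by
    intro L hL
    refine Subgroup.list_prod_mem _ fun g hg => ?_
    obtain ⟨T', hT', rfl⟩ := List.mem_map.1 hg
    have hin : T' ∈ ts := by
      rcases List.mem_append.1 (hL T' hT') with h | h
      · exact List.mem_of_mem_take h
      · exact List.mem_of_mem_drop h
    obtain ⟨q', h1, h2, h3⟩ := term_higher C hl hr hr' hs hs' hin
    obtain ⟨h4, h5⟩ := hrest T' (hL T' hT')
    exact Subgroup.subset_closure ⟨q', by omega, h2, by rwa [h3], by rwa [h3], _, by rw [h3]⟩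
  rw [show D.commWord F b c t u = ts.map fun c' => (c'.1, (c'.2.1 : F) * (-t) ^ c'.2.2.1 * u ^ c'.2.2.2)
    from rfl, List.map_map, hsplit, List.map_append, List.map_cons, List.prod_append, List.prod_cons] at hW
  simp only [Function.comp_def, hTp, htu] at hW
  have h1 := hrest' (ts.take m) fun T' h => List.mem_append_left _ h
  have h2 := hrest' (ts.drop (m + 1)) fun T' h => List.mem_append_right _ h
  exact (Subgroup.mul_mem_cancel_right K h2).1 ((Subgroup.mul_mem_cancel_left K h1).1 hW)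

include hG in
theorem n_conj_simple {i : ℕ} (hi : i < D.rank) {t : F} (ht : t ≠ 0) (u : F) :
    n S i t * S.x (D.simple i) u * (n S i t)⁻¹ =
      S.x (D.neg (D.simple i)) (cn C i t (D.simple i) * u) := by
  obtain ⟨l, hl, ⟨q, hq, hq', hqw⟩, hmem⟩ := exists_word S hG hi
  have hl' := cons_lt hi hl
  have hw : wr D i (D.simple i) = D.neg (D.simple i) := w_simple C hi
  refine eq_of_UG S hl' (conj_mem_closure ?_ _ (hmem u)) ?_ ?_
  · rintro g ⟨r, hr, hr', h1, h2, v, rfl⟩
    rw [n_conj_ne S hi (wact_lt C hl hr') h1 h2 ht, ← wact_cons]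
    exact x_mem_UG S hr hr hr' _
  · rw [← hw, ← hqw, ← wact_cons]
    exact x_mem_UG S hq hq hq' _
  · rw [map_mul, map_mul, map_inv, θ_n S hi, S.θ_x _ (simple_lt C hi), S.θ_x _ (C.neg_lt _),
      ng_conj_xg C hi (simple_lt C hi) ht, hw]

omit S in
theorem xg_inj (C : Cert D) {r : ℕ} (hr : r < D.nroots) {t u : F} (h : xg C r t = xg C r u) : t = u := by
  obtain ⟨j, hj⟩ := cc_ne_zero C (F := F) hr
  have e := congrArg (fun g : GL D.Idx F =>
    (g : Matrix D.Idx D.Idx F) (Sum.inl j) (Sum.inr ⟨D.neg r, C.neg_lt r⟩)) h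
  simp only [coe_xg, x_entry C hr] at e
  exact mul_left_cancel₀ hj e

include hG in
/-- The action of `n_i(t)` on all root elements. -/
theorem n_conj {i s : ℕ} (hi : i < D.rank) (hs : s < D.nroots) {t : F} (ht : t ≠ 0) (u : F) :
    n S i t * S.x s u * (n S i t)⁻¹ = S.x (wr D i s) (cn C i t s * u) := by
  by_cases hp : s = D.simple i
  · subst hp
    rw [w_simple C hi]
    exact n_conj_simple S hG hi ht u
  by_cases hn : s = D.neg (D.simple i)
  · subst hn
    have hw : wr D i (D.neg (D.simple i)) = D.simple i := by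
      rw [← w_simple C hi, w_invol C hi (simple_lt C hi)]
    have hc := cn_ne_zero C (i := i) (neg_ne_zero.2 ht) (D.simple i)
    have h1 := n_conj_simple S hG hi (neg_ne_zero.2 ht) (u / cn C i (-t) (D.simple i))
    rw [mul_div_cancel₀ u hc] at h1
    have h2 : n S i t * S.x (D.neg (D.simple i)) u * (n S i t)⁻¹ =
        S.x (D.simple i) (u / cn C i (-t) (D.simple i)) := by
      rw [← h1, ← n_inv S hi t]; group
    rw [h2, hw]
    congr 1
    refine xg_inj C (simple_lt C hi) ?_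
    have h3 := congrArg S.θ h2
    rw [map_mul, map_mul, map_inv, θ_n S hi, S.θ_x _ (C.neg_lt _), S.θ_x _ (simple_lt C hi),
      ng_conj_xg C hi (C.neg_lt _) ht, hw] at h3
    exact h3.symm
  · exact n_conj_ne S hi hs hp hn ht u

end Cfsg.Agent.StBasic
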