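import Cfsg.Agent.Lib.SuzukiGroupBasic

/-!
The Suzuki group `Cfsg.Sz F m` as an abstract group: Borel subgroup, Sylow 2-subgroup, double
transitivity, order, perfectness, simplicity.
-/

set_option autoImplicit false

namespace Cfsg.Agent.SuzukiGroupStructure

open scoped Matrix Pointwise LinearAlgebra.Projectivization commutatorElement
open MulAction Cfsg.Agent.SuzukiGroupBasic

variable {F : Type*} [Field F] {m : ℕ} [hP : Param F m]

set_option quotPrecheck false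
local notation "G" => ↥(Cfsg.Sz F m)
local notation "∞" => Cfsg.suzukiPointInfinity F
local notation "o" => Cfsg.suzukiPointZero F

/-- The translation as an element of the Suzuki group. -/
def Ts (a b : F) : ↥(Cfsg.Sz F m) := ⟨T m a b, T_mem a b⟩

/-- The torus element as an element of the Suzuki group. -/
def Hs (k : Fˣ) : ↥(Cfsg.Sz F m) := ⟨H m k, H_mem k⟩

/-- The Weyl element as an element of the Suzuki group. -/
def Ws : ↥(Cfsg.Sz F m) := ⟨W F, W_mem⟩

theorem smul_def (g : G) (p : ℙ F (Fin 4 → F)) :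
    g • p = (g : Matrix.SpecialLinearGroup (Fin 4) F) • p := rfl

instance finite_instance : Finite (Cfsg.Sz F m) := by
  have := finiteF (F := F) (m := m)
  infer_instance

theorem Ts_mul (a b c d : F) :
    (Ts a b : G) * Ts c d = Ts (a + c) (b + d + sg m a * c) := Subtype.ext (T_mul a b c d)

theorem Ts_zero : (Ts 0 0 : G) = 1 := Subtype.ext T_zero

theorem Ts_inv (a b : F) : (Ts a b : G)⁻¹ = Ts a (b + sg m a * a) := by
  have := charTwo (F := F) (m := m)
  apply inv_eq_of_mul_eq_one_right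
  rw [Ts_mul, ← Ts_zero]
  congr 1 <;> grind

theorem Ts_injective {a b c d : F} (h : (Ts a b : G) = Ts c d) : a = c ∧ b = d :=
  T_injective (congrArg Subtype.val h)

theorem Ts_eq_one {a b : F} (h : (Ts a b : G) = 1) : a = 0 ∧ b = 0 :=
  Ts_injective (h.trans Ts_zero.symm)

theorem Hs_mul (k l : Fˣ) : (Hs k : G) * Hs l = Hs (k * l) := Subtype.ext (H_mul k l)

theorem Hs_one : (Hs 1 : G) = 1 := Subtype.ext H_one

theorem Hs_injective : Function.Injective (Hs : Fˣ → G) :=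
  fun _ _ h => H_injective (congrArg Subtype.val h)

/-- The torus as the image of `Fˣ`. -/
def torusHom : Fˣ →* ↥(Cfsg.Sz F m) where
  toFun := Hs
  map_one' := Hs_one
  map_mul' k l := (Hs_mul k l).symm

theorem Hs_Ts (k : Fˣ) (a b : F) :
    (Hs k : G) * Ts a b * (Hs k)⁻¹ = Ts (k * a) ((k : F) * sg m (k : F) * b) := by
  rw [mul_inv_eq_iff_eq_mul]
  exact Subtype.ext (H_T k a b)

theorem Ws_mul_Ws : (Ws : G) * Ws = 1 := Subtype.ext W_mul_W

theorem Ws_inv : (Ws : G)⁻¹ = Ws := inv_eq_of_mul_eq_one_right Ws_mul_Ws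

theorem Ws_Hs (k : Fˣ) : (Ws : G) * Hs k * Ws⁻¹ = Hs k⁻¹ := by
  rw [mul_inv_eq_iff_eq_mul]
  exact Subtype.ext (W_H k)

theorem Ts_smul_inf (a b : F) : (Ts a b : G) • ∞ = ∞ := T_smul_inf a b
theorem Ts_smul_pt (a b x y : F) :
    (Ts a b : G) • pt m x y = pt m (x + a) (y + sg m a * x + b) := T_smul_pt a b x y
theorem Ts_smul_zero (a b : F) : (Ts a b : G) • o = pt m a b := by
  rw [zero_eq_pt (m := m), Ts_smul_pt]; simp
theorem Hs_smul_inf (k : Fˣ) : (Hs k : G) • ∞ = ∞ := H_smul_inf k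
theorem Hs_smul_pt (k : Fˣ) (x y : F) :
    (Hs k : G) • pt m x y = pt m (k * x) ((k : F) * sg m (k : F) * y) := H_smul_pt k x y
theorem Hs_smul_zero (k : Fˣ) : (Hs k : G) • o = o := by
  rw [zero_eq_pt (m := m), Hs_smul_pt]; simp
theorem Ws_smul_inf : (Ws : G) • ∞ = o := W_smul_inf
theorem Ws_smul_zero : (Ws : G) • o = ∞ := W_smul_zero

theorem smul_mem_ovoid (g : G) {p : ℙ F (Fin 4 → F)} (hp : p ∈ suzukiOvoid F m) :
    g • p ∈ suzukiOvoid F m := by
  have h := Set.smul_mem_smul_set (a := (g : Matrix.SpecialLinearGroup (Fin 4) F)) hp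
  rwa [mem_stabilizer_iff.mp g.2] at h

theorem eq_pt_of_ne {p : ℙ F (Fin 4 → F)} (hp : p ∈ suzukiOvoid F m) (hne : p ≠ ∞) :
    ∃ x y, p = pt m x y := (mem_ovoid.mp hp).resolve_left hne

theorem exists_Ts_zero {p : ℙ F (Fin 4 → F)} (hp : p ∈ suzukiOvoid F m) (hne : p ≠ ∞) :
    ∃ a b, (Ts a b : G) • o = p := by
  obtain ⟨x, y, rfl⟩ := eq_pt_of_ne hp hne
  exact ⟨x, y, Ts_smul_zero x y⟩

theorem fix_inf_zero {g : G} (h1 : g • ∞ = ∞) (h2 : g • o = o) : ∃ k, g = Hs k := by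
  obtain ⟨k, hk⟩ := eq_H_of_fix g.2 h1 h2
  exact ⟨k, Subtype.ext hk⟩

theorem fix_inf_iff {g : G} : g • ∞ = ∞ ↔ ∃ a b k, g = Ts a b * Hs k := by
  constructor
  · intro h
    have hne : g • o ≠ ∞ := fun h' => by
      have := MulAction.injective g (h'.trans h.symm)
      rw [zero_eq_pt (m := m)] at this
      exact pt_ne_inf _ _ this
    obtain ⟨a, b, hab⟩ := exists_Ts_zero (smul_mem_ovoid g zero_mem) hne
    obtain ⟨k, hk⟩ := fix_inf_zero (g := (Ts a b)⁻¹ * g)
      (by rw [mul_smul, h, inv_smul_eq_iff, Ts_smul_inf])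
      (by rw [mul_smul, inv_smul_eq_iff, hab])
    exact ⟨a, b, k, by rw [← hk, mul_inv_cancel_left]⟩
  · rintro ⟨a, b, k, rfl⟩
    rw [mul_smul, Hs_smul_inf, Ts_smul_inf]

theorem Ts_Hs_injective {a b c d : F} {k l : Fˣ} (h : (Ts a b : G) * Hs k = Ts c d * Hs l) :
    a = c ∧ b = d ∧ k = l := by
  have h' := congrArg (fun g : G => g • o) h
  simp only [mul_smul, Hs_smul_zero, Ts_smul_zero] at h'
  obtain ⟨rfl, rfl⟩ := pt_injective h'
  exact ⟨rfl, rfl, Hs_injective (mul_left_cancel h)⟩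

/-- Bruhat decomposition. -/
theorem bruhat (g : G) : (g • ∞ = ∞) ∨ ∃ a b, ∃ h : G, h • ∞ = ∞ ∧ g = Ts a b * Ws * h := by
  by_cases hg : g • ∞ = ∞
  · exact Or.inl hg
  · obtain ⟨a, b, hab⟩ := exists_Ts_zero (smul_mem_ovoid g inf_mem) hg
    refine Or.inr ⟨a, b, Ws⁻¹ * (Ts a b)⁻¹ * g, ?_, by group⟩
    rw [mul_smul, mul_smul, inv_smul_eq_iff, Ws_smul_inf, inv_smul_eq_iff, hab]

theorem exists_to_inf {p : ℙ F (Fin 4 → F)} (hp : p ∈ suzukiOvoid F m) :
    ∃ g : G, g • ∞ = p := by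
  by_cases h : p = ∞
  · exact ⟨1, by rw [one_smul, h]⟩
  · obtain ⟨a, b, hab⟩ := exists_Ts_zero hp h
    exact ⟨Ts a b * Ws, by rw [mul_smul, Ws_smul_inf, hab]⟩

theorem two_trans {p q p' q' : ℙ F (Fin 4 → F)} (hp : p ∈ suzukiOvoid F m)
    (hq : q ∈ suzukiOvoid F m) (hp' : p' ∈ suzukiOvoid F m) (hq' : q' ∈ suzukiOvoid F m)
    (hne : p ≠ q) (hne' : p' ≠ q') : ∃ g : G, g • p = p' ∧ g • q = q' := by
  have key : ∀ {p q : ℙ F (Fin 4 → F)}, p ∈ suzukiOvoid F m → q ∈ suzukiOvoid F m → p ≠ q →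
      ∃ g : G, g • ∞ = p ∧ g • o = q := by
    intro p q hp hq hne
    obtain ⟨g, hg⟩ := exists_to_inf (m := m) hp
    have h1 : g⁻¹ • q ≠ ∞ := fun h => hne (by rw [← hg, ← h, smul_inv_smul])
    obtain ⟨a, b, hab⟩ := exists_Ts_zero (smul_mem_ovoid g⁻¹ hq) h1
    exact ⟨g * Ts a b, by rw [mul_smul, Ts_smul_inf, hg], by rw [mul_smul, hab, smul_inv_smul]⟩
  obtain ⟨g, hg1, hg2⟩ := key hp hq hne
  obtain ⟨g', hg1', hg2'⟩ := key hp' hq' hne'
  exact ⟨g' * g⁻¹, by rw [mul_smul, ← hg1, inv_smul_smul, hg1'],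
    by rw [mul_smul, ← hg2, inv_smul_smul, hg2']⟩

omit hP in
theorem inf_ne_zero : (∞ : ℙ F (Fin 4 → F)) ≠ o := fun h => by
  rw [zero_eq_pt (m := 0)] at h
  exact pt_ne_inf _ _ h.symm

/-- An element fixing three points of the ovoid is trivial. -/
theorem eq_one_of_fix_three {g : G} {p q r : ℙ F (Fin 4 → F)} (hp : p ∈ suzukiOvoid F m)
    (hq : q ∈ suzukiOvoid F m) (hr : r ∈ suzukiOvoid F m) (hpq : p ≠ q) (hqr : q ≠ r)
    (hpr : p ≠ r) (h1 : g • p = p) (h2 : g • q = q) (h3 : g • r = r) : g = 1 := by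
  obtain ⟨c, hc1, hc2⟩ := two_trans (m := m) hp hq inf_mem zero_mem hpq inf_ne_zero
  have e : ∀ s : ℙ F (Fin 4 → F), g • s = s → (c * g * c⁻¹) • (c • s) = c • s := fun s hs => by
    rw [mul_smul, mul_smul, inv_smul_smul, hs]
  have e1 := e p h1; have e2 := e q h2; have e3 := e r h3
  rw [hc1] at e1; rw [hc2] at e2
  have hne : c • r ≠ ∞ := fun h => hpr (MulAction.injective c (hc1.trans h.symm))
  obtain ⟨x, y, hxy⟩ := eq_pt_of_ne (smul_mem_ovoid c hr) hne
  obtain ⟨k, hk⟩ := fix_inf_zero e1 e2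
  rw [hxy, hk, Hs_smul_pt] at e3
  obtain ⟨ex, ey⟩ := pt_injective e3
  have hk1 : (k : F) = 1 := by
    by_cases hx : x = 0
    · have hy : y ≠ 0 := by
        rintro rfl
        apply hqr
        apply MulAction.injective c
        change c • q = c • r
        rw [hc2, hxy, hx, zero_eq_pt (m := m)]
      have h1 : (k : F) * sg m (k : F) = 1 := mul_left_eq_self₀.mp ey |>.resolve_right hy
      have h2 : sg m (k : F) = (k : F)⁻¹ := eq_inv_of_mul_eq_one_right h1
      have h3 := sg_sg (m := m) (k : F)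
      rw [h2, sg_inv, h2, inv_inv] at h3
      exact (mul_left_eq_self₀.mp ((pow_two (k : F)).symm.trans h3.symm)).resolve_right k.ne_zero
    · exact (mul_left_eq_self₀.mp ex).resolve_right hx
  rw [show k = 1 from Units.ext hk1, Hs_one, mul_inv_eq_one, mul_eq_left] at hk
  exact hk

theorem eq_one_of_fix_all {g : G} (h : ∀ p ∈ suzukiOvoid F m, g • p = p) : g = 1 := by
  obtain ⟨x, hx, -⟩ := exists_ne_zero_one (F := F) (m := m)
  refine eq_one_of_fix_three inf_mem zero_mem (mem_ovoid.mpr (Or.inr ⟨x, 0, rfl⟩))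
    inf_ne_zero ?_ (fun h' => pt_ne_inf _ _ h'.symm) (h _ inf_mem) (h _ zero_mem)
    (h _ (mem_ovoid.mpr (Or.inr ⟨x, 0, rfl⟩)))
  rw [zero_eq_pt (m := m)]
  exact fun h' => hx (pt_injective h').1.symm

/-! ### Orders -/

/-- The Borel subgroup. -/
abbrev borel : Subgroup ↥(Cfsg.Sz F m) := stabilizer ↥(Cfsg.Sz F m) (Cfsg.suzukiPointInfinity F)

theorem natCard_borel : Nat.card (borel : Subgroup G) =
    (2 ^ (2 * m + 1)) ^ 2 * (2 ^ (2 * m + 1) - 1) := by
  have := finiteF (F := F) (m := m)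
  let f : (F × F) × Fˣ → (borel : Subgroup G) := fun p =>
    ⟨Ts p.1.1 p.1.2 * Hs p.2, mem_stabilizer_iff.mpr (fix_inf_iff.mpr ⟨_, _, _, rfl⟩)⟩
  have hf : Function.Bijective f := by
    constructor
    · rintro ⟨⟨a, b⟩, k⟩ ⟨⟨c, d⟩, l⟩ h
      obtain ⟨rfl, rfl, rfl⟩ := Ts_Hs_injective (congrArg Subtype.val h)
      rfl
    · rintro ⟨g, hg⟩
      obtain ⟨a, b, k, rfl⟩ := fix_inf_iff.mp (mem_stabilizer_iff.mp hg)
      exact ⟨((a, b), k), rfl⟩
  rw [← Nat.card_eq_of_bijective f hf, Nat.card_prod, Nat.card_prod, Nat.card_units, natCard (F := F) (m := m),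
    pow_two]

theorem orbit_inf : orbit G (∞ : ℙ F (Fin 4 → F)) = suzukiOvoid F m := by
  ext p
  constructor
  · rintro ⟨g, rfl⟩; exact smul_mem_ovoid g inf_mem
  · intro hp
    obtain ⟨g, hg⟩ := exists_to_inf (m := m) hp
    exact ⟨g, hg⟩

theorem index_borel : (borel : Subgroup G).index = (2 ^ (2 * m + 1)) ^ 2 + 1 := by
  have := finiteF (F := F) (m := m)
  rw [index_stabilizer, orbit_inf, ncard_ovoid, natCard (F := F) (m := m)]

theorem natCard_Sz : Nat.card (Cfsg.Sz F m) =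
    (2 ^ (2 * m + 1)) ^ 2 * ((2 ^ (2 * m + 1)) ^ 2 + 1) * (2 ^ (2 * m + 1) - 1) := by
  rw [← Subgroup.card_mul_index (borel : Subgroup G), natCard_borel, index_borel]
  ring

theorem natCard_twoPoint :
    Nat.card ↥(borel ⊓ stabilizer G o : Subgroup G) = 2 ^ (2 * m + 1) - 1 := by
  have := finiteF (F := F) (m := m)
  let f : Fˣ → (borel ⊓ stabilizer G o : Subgroup G) := fun k =>
    ⟨Hs k, mem_stabilizer_iff.mpr (Hs_smul_inf k), mem_stabilizer_iff.mpr (Hs_smul_zero k)⟩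
  have hf : Function.Bijective f := by
    refine ⟨fun k l h => Hs_injective (congrArg Subtype.val h), ?_⟩
    rintro ⟨g, hg1, hg2⟩
    obtain ⟨k, rfl⟩ := fix_inf_zero (mem_stabilizer_iff.mp hg1) (mem_stabilizer_iff.mp hg2)
    exact ⟨k, rfl⟩
  rw [← Nat.card_eq_of_bijective f hf, Nat.card_units, natCard (F := F) (m := m)]

/-- The two-point stabiliser is the torus. -/
noncomputable def twoPointEquiv : ↥(borel ⊓ stabilizer G o : Subgroup G) ≃* Fˣ :=
  (MulEquiv.ofBijective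
    ({ toFun := fun k => ⟨Hs k, mem_stabilizer_iff.mpr (Hs_smul_inf k),
          mem_stabilizer_iff.mpr (Hs_smul_zero k)⟩
       map_one' := Subtype.ext Hs_one
       map_mul' := fun k l => Subtype.ext (Hs_mul k l).symm } :
      Fˣ →* ↥(borel ⊓ stabilizer G o : Subgroup G))
    ⟨fun k l h => Hs_injective (congrArg Subtype.val h), by
      rintro ⟨g, hg1, hg2⟩
      obtain ⟨k, rfl⟩ := fix_inf_zero (mem_stabilizer_iff.mp hg1) (mem_stabilizer_iff.mp hg2)
      exact ⟨k, rfl⟩⟩).symm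

/-! ### The Sylow 2-subgroup -/

/-- The group of translations. -/
def unipotent : Subgroup ↥(Cfsg.Sz F m) where
  carrier := {g | ∃ a b, g = Ts a b}
  one_mem' := ⟨0, 0, Ts_zero.symm⟩
  mul_mem' := by rintro _ _ ⟨a, b, rfl⟩ ⟨c, d, rfl⟩; exact ⟨_, _, Ts_mul a b c d⟩
  inv_mem' := by rintro _ ⟨a, b, rfl⟩; exact ⟨_, _, Ts_inv a b⟩

theorem Ts_mem (a b : F) : (Ts a b : G) ∈ (unipotent : Subgroup G) := ⟨a, b, rfl⟩

theorem natCard_unipotent : Nat.card (unipotent : Subgroup G) = (2 ^ (2 * m + 1)) ^ 2 := by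
  have := finiteF (F := F) (m := m)
  rw [← Nat.card_eq_of_bijective
    (fun p : F × F => (⟨Ts p.1 p.2, Ts_mem p.1 p.2⟩ : (unipotent : Subgroup G)))
    ⟨fun p q h => Prod.ext (Ts_injective (congrArg Subtype.val h)).1
      (Ts_injective (congrArg Subtype.val h)).2,
     by rintro ⟨_, a, b, rfl⟩; exact ⟨(a, b), rfl⟩⟩, Nat.card_prod, natCard (F := F) (m := m), pow_two]

theorem unipotent_le_borel : (unipotent : Subgroup G) ≤ borel := by
  rintro _ ⟨a, b, rfl⟩; exact mem_stabilizer_iff.mpr (Ts_smul_inf a b)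

theorem conj_mem_unipotent {g : G} (hg : g • ∞ = ∞) {u : G} (hu : u ∈ (unipotent : Subgroup G)) :
    g * u * g⁻¹ ∈ (unipotent : Subgroup G) := by
  obtain ⟨a, b, k, rfl⟩ := fix_inf_iff.mp hg
  obtain ⟨c, d, rfl⟩ := hu
  rw [show Ts a b * Hs k * Ts c d * (Ts a b * Hs k)⁻¹ =
    Ts a b * (Hs k * Ts c d * (Hs k)⁻¹) * (Ts a b)⁻¹ by group, Hs_Ts]
  exact mul_mem (mul_mem (Ts_mem _ _) (Ts_mem _ _)) (inv_mem (Ts_mem _ _))

theorem fix_of_unipotent_fix {p : ℙ F (Fin 4 → F)} (hp : p ∈ suzukiOvoid F m)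
    (h : ∀ u ∈ (unipotent : Subgroup G), u • p = p) : p = ∞ := by
  by_contra hne
  obtain ⟨x, y, rfl⟩ := eq_pt_of_ne hp hne
  have h1 := h _ (Ts_mem (1 : F) 0)
  rw [Ts_smul_pt] at h1
  simpa using (pt_injective h1).1

theorem normalizer_unipotent :
    Subgroup.normalizer ((unipotent : Subgroup G) : Set G) = borel := by
  refine le_antisymm (fun g hg => ?_) (fun g hg => ?_)
  · rw [mem_stabilizer_iff]
    refine fix_of_unipotent_fix (smul_mem_ovoid g inf_mem) fun u hu => ?_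
    have h1 : g⁻¹ * u * g ∈ (unipotent : Subgroup G) := by
      simpa using (Subgroup.mem_normalizer_iff.mp (inv_mem hg) u).mp hu
    have h2 : (g⁻¹ * u * g) • ∞ = ∞ := mem_stabilizer_iff.mp (unipotent_le_borel h1)
    rwa [mul_smul, mul_smul, inv_smul_eq_iff] at h2
  · rw [mem_stabilizer_iff] at hg
    refine Subgroup.mem_normalizer_iff.mpr fun u => ⟨conj_mem_unipotent hg, fun h => ?_⟩
    have h1 := conj_mem_unipotent (g := g⁻¹) (by rw [inv_smul_eq_iff, hg]) h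
    simpa [mul_assoc] using h1

theorem isPGroup_unipotent : IsPGroup 2 (unipotent : Subgroup G) := by
  have : Fact (Nat.Prime 2) := ⟨Nat.prime_two⟩
  exact IsPGroup.of_card (by rw [natCard_unipotent, ← pow_mul])

theorem odd_index_unipotent : ¬ 2 ∣ (unipotent : Subgroup G).index := by
  have h := Subgroup.card_mul_index (unipotent : Subgroup G)
  rw [natCard_unipotent, natCard_Sz, mul_assoc] at h
  have := Nat.eq_of_mul_eq_mul_left (by positivity) h
  rw [this]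
  have h2 : 2 ∣ 2 ^ (2 * m + 1) := dvd_pow_self 2 (by omega)
  intro hd
  rcases (Nat.Prime.dvd_mul Nat.prime_two).mp hd with h3 | h3
  · have h4 : 2 ∣ (2 ^ (2 * m + 1)) ^ 2 := dvd_pow h2 two_ne_zero
    omega
  · have h5 : 1 ≤ 2 ^ (2 * m + 1) := Nat.one_le_two_pow
    omega

/-- The standard Sylow 2-subgroup. -/
noncomputable def sylowU : Sylow 2 ↥(Cfsg.Sz F m) :=
  haveI : Fact (Nat.Prime 2) := ⟨Nat.prime_two⟩
  isPGroup_unipotent.toSylow odd_index_unipotent

theorem coe_sylowU : ((sylowU : Sylow 2 G) : Subgroup G) = unipotent := rfl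

theorem exists_conj_sylow (P : Sylow 2 G) :
    ∃ g : G, (P : Subgroup G) = (unipotent : Subgroup G).map (MulAut.conj g).toMonoidHom := by
  have : Fact (Nat.Prime 2) := ⟨Nat.prime_two⟩
  obtain ⟨g, hg⟩ := MulAction.exists_smul_eq G (sylowU : Sylow 2 G) P
  exact ⟨g, by rw [← hg, Sylow.coe_subgroup_smul, coe_sylowU]; rfl⟩

theorem exists_sylow_equiv (P : Sylow 2 G) :
    Nonempty ((unipotent : Subgroup G) ≃* (P : Subgroup G)) := by
  obtain ⟨g, hg⟩ := exists_conj_sylow P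
  rw [hg]
  exact ⟨Subgroup.equivMapOfInjective _ _ (MulAut.conj g).injective⟩

/-! ### Structure of the translation group -/

theorem exists_mul_sg (c : F) : ∃ k : F, k * sg m k = c := by
  have := finiteF (F := F) (m := m)
  have hinj : Function.Injective fun k : F => k * sg m k := by
    intro k l h
    simp only at h
    rcases eq_or_ne l 0 with rfl | hl
    · rw [sg_zero, mul_zero, mul_eq_zero, sg_eq_zero, or_self] at h; exact h
    have h1 : k / l * sg m (k / l) = 1 := by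
      rw [sg_div, div_mul_div_comm, h, div_self (mul_ne_zero hl (sg_ne_zero hl))]
    set r := k / l with hr
    have h2 : sg m r = r⁻¹ := eq_inv_of_mul_eq_one_right h1
    have h3 := sg_sg (m := m) r
    rw [h2, sg_inv, h2, inv_inv] at h3
    have hr0 : r ≠ 0 := by rintro h0; rw [h0, zero_mul] at h1; exact zero_ne_one h1
    have := (mul_left_eq_self₀.mp ((pow_two r).symm.trans h3.symm)).resolve_right hr0
    exact (div_eq_one_iff_eq hl).mp this
  exact (Finite.injective_iff_surjective.mp hinj) c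

theorem Ts_commutator (a b c d : F) :
    ⁅(Ts a b : G), (Ts c d : G)⁆ = Ts 0 (sg m a * c + sg m c * a) := by
  have := charTwo (F := F) (m := m)
  rw [commutatorElement_def, Ts_inv, Ts_inv, Ts_mul, Ts_mul, Ts_mul]
  congr 1
  · grind
  · simp only [sg_add]; grind

theorem exists_commutator (b : F) :
    ∃ u ∈ (unipotent : Subgroup G), ∃ v ∈ (unipotent : Subgroup G), ⁅u, v⁆ = (Ts 0 b : G) := by
  have := charTwo (F := F) (m := m)
  obtain ⟨c, hc0, hc1⟩ := exists_ne_zero_one (F := F) (m := m)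
  have hne : c + sg m c ≠ 0 := fun h => by
    rcases eq_zero_or_one_of_sg_self (m := m) (CharTwo.add_eq_zero.mp h).symm with h | h
    exacts [hc0 h, hc1 h]
  obtain ⟨k, hk⟩ := exists_mul_sg (m := m) (b / (c + sg m c))
  refine ⟨Ts k 0, Ts_mem _ _, Ts (k * c) 0, Ts_mem _ _, ?_⟩
  rw [Ts_commutator, sg_mul]
  congr 1
  have h : k * sg m k * (c + sg m c) = b := by rw [hk, div_mul_cancel₀ _ hne]
  linear_combination h

theorem commute_Ts_iff (a b : F) :
    (∀ u ∈ (unipotent : Subgroup G), u * Ts a b = Ts a b * u) ↔ a = 0 := by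
  have := charTwo (F := F) (m := m)
  constructor
  · intro h
    by_contra ha
    obtain ⟨c, hc0, hc1⟩ := exists_ne_zero_one (F := F) (m := m)
    have e := h _ (Ts_mem (a * c) 0)
    rw [Ts_mul, Ts_mul] at e
    have e2 := (Ts_injective e).2
    rw [sg_mul] at e2
    have hsg : sg m c = c := by
      have h1 : sg m a * a * (sg m c + c) = 0 := by linear_combination e2 + (CharTwo.add_self_eq_zero (sg m a * (a * c)))
      exact CharTwo.add_eq_zero.mp
        ((mul_eq_zero.mp h1).resolve_left (mul_ne_zero (sg_ne_zero ha) ha))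
    rcases eq_zero_or_one_of_sg_self hsg with h | h
    exacts [hc0 h, hc1 h]
  · rintro rfl u ⟨c, d, rfl⟩
    rw [Ts_mul, Ts_mul]
    congr 1
    · ring
    · simp only [sg_zero, mul_zero, zero_mul, add_zero]; ring

theorem mem_center_unipotent {u : (unipotent : Subgroup G)} :
    u ∈ Subgroup.center (unipotent : Subgroup G) ↔ ∃ b, (u : G) = Ts 0 b := by
  obtain ⟨_, a, b, rfl⟩ := u
  rw [Subgroup.mem_center_iff]
  constructor
  · intro h
    have := (commute_Ts_iff (m := m) a b).mp fun v hv => congrArg Subtype.val (h ⟨v, hv⟩)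
    exact ⟨b, by rw [this]⟩
  · rintro ⟨b', hb⟩ ⟨v, hv⟩
    refine Subtype.ext ?_
    exact (commute_Ts_iff (m := m) a b).mpr (Ts_injective hb).1 v hv

theorem natCard_center_unipotent :
    Nat.card (Subgroup.center (unipotent : Subgroup G)) = 2 ^ (2 * m + 1) := by
  rw [← natCard (F := F) (m := m)]
  refine (Nat.card_eq_of_bijective
    (fun b : F => (⟨⟨Ts 0 b, Ts_mem 0 b⟩, mem_center_unipotent.mpr ⟨b, rfl⟩⟩ :
      Subgroup.center (unipotent : Subgroup G))) ⟨fun b c h => ?_, ?_⟩).symm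
  · exact (Ts_injective (congrArg (fun z => (z.1.1 : G)) h)).2
  · rintro ⟨u, hu⟩
    obtain ⟨b, hb⟩ := mem_center_unipotent.mp hu
    exact ⟨b, Subtype.ext (Subtype.ext hb.symm)⟩

theorem center_eq_commutator :
    Subgroup.center (unipotent : Subgroup G) = commutator (unipotent : Subgroup G) := by
  refine le_antisymm (fun u hu => ?_) ?_
  · obtain ⟨b, hb⟩ := mem_center_unipotent.mp hu
    obtain ⟨x, hx, y, hy, hxy⟩ := exists_commutator (m := m) b
    rw [show u = ⁅(⟨x, hx⟩ : (unipotent : Subgroup G)), ⟨y, hy⟩⁆ from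
      Subtype.ext (hb.trans hxy.symm)]
    exact Subgroup.commutator_mem_commutator (Subgroup.mem_top _) (Subgroup.mem_top _)
  · rw [commutator_def, Subgroup.commutator_le]
    rintro ⟨_, a, b, rfl⟩ - ⟨_, c, d, rfl⟩ -
    exact mem_center_unipotent.mpr ⟨_, Ts_commutator a b c d⟩

theorem Ts_sq (a b : F) : (Ts a b : G) ^ 2 = Ts 0 (sg m a * a) := by
  have := charTwo (F := F) (m := m)
  rw [pow_two, Ts_mul]
  congr 1 <;> grind

theorem Ts_pow_four (a b : F) : (Ts a b : G) ^ 4 = 1 := by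
  calc (Ts a b : G) ^ 4 = ((Ts a b : G) ^ 2) ^ 2 := by rw [← pow_mul]
    _ = 1 := by rw [Ts_sq, Ts_sq, sg_zero, zero_mul, Ts_zero]

theorem Ts_sq_eq_one {a b : F} : (Ts a b : G) ^ 2 = 1 ↔ a = 0 := by
  rw [Ts_sq]
  refine ⟨fun h => ?_, fun h => by rw [h, mul_zero, Ts_zero]⟩
  rcases mul_eq_zero.mp (Ts_eq_one h).2 with h1 | h1
  exacts [sg_eq_zero.mp h1, h1]

theorem exponent_unipotent : Monoid.exponent (unipotent : Subgroup G) = 4 := by
  have hdvd : Monoid.exponent (unipotent : Subgroup G) ∣ 4 :=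
    Monoid.exponent_dvd_of_forall_pow_eq_one fun u => by
      obtain ⟨_, a, b, rfl⟩ := u
      exact Subtype.ext (Ts_pow_four a b)
  have hn : ¬ Monoid.exponent (unipotent : Subgroup G) ∣ 2 := fun h => by
    have h1 := Monoid.exponent_dvd_iff_forall_pow_eq_one.mp h ⟨_, Ts_mem (1 : F) 0⟩
    exact one_ne_zero (Ts_sq_eq_one.mp (congrArg Subtype.val h1))
  have h4 : Monoid.exponent (unipotent : Subgroup G) ∈ ({1, 2, 4} : Finset ℕ) := by
    have := Nat.mem_divisors.mpr ⟨hdvd, by norm_num⟩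
    rwa [show Nat.divisors 4 = {1, 2, 4} from by decide] at this
  simp only [Finset.mem_insert, Finset.mem_singleton] at h4
  rcases h4 with h | h | h
  · exact absurd (h ▸ one_dvd 2) hn
  · exact absurd h.dvd hn
  · exact h

/-! ### Perfectness and simplicity -/

theorem commutator_eq_top : commutator G = ⊤ := by
  have hchar := charTwo (F := F) (m := m)
  set N := commutator G with hN
  have hmem : ∀ x y : G, ⁅x, y⁆ ∈ N := fun x y =>
    Subgroup.commutator_mem_commutator (Subgroup.mem_top x) (Subgroup.mem_top y)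
  have hn : N.Normal := inferInstance
  obtain ⟨k, hk0, hk1⟩ := exists_ne_zero_one (F := F) (m := m)
  have hT0 : ∀ b : F, (Ts 0 b : G) ∈ N := fun b => by
    obtain ⟨u, -, v, -, huv⟩ := exists_commutator (m := m) b
    exact huv ▸ hmem u v
  have hT : ∀ a b : F, (Ts a b : G) ∈ N := fun a b => by
    set c := a / (k + 1)
    have hk1' : k + 1 ≠ 0 := fun h => hk1 (CharTwo.add_eq_zero.mp h)
    obtain ⟨e, he⟩ : ∃ e, ⁅(Hs (Units.mk0 k hk0) : G), (Ts c 0 : G)⁆ = Ts a e := by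
      refine ⟨k * sg m k * 0 + (0 + sg m c * c) + sg m (k * c) * c, ?_⟩
      rw [commutatorElement_def, Hs_Ts, Ts_inv, Ts_mul]
      congr 1
      simp only [Units.val_mk0, c]
      field_simp
    have h1 := mul_mem (hmem (Hs (Units.mk0 k hk0)) (Ts c 0)) (hT0 (b + e))
    rw [he, Ts_mul, add_zero, mul_zero, add_zero] at h1
    rwa [show e + (b + e) = b by grind] at h1
  have hsq : ∀ l : Fˣ, ∃ r : Fˣ, r * r = l := fun l => by
    refine ⟨l ^ (2 ^ (2 * m)), ?_⟩
    apply Units.ext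
    rw [← pow_add, Units.val_pow_eq_pow_val, ← two_mul, ← pow_succ', pow_q]
  have hH : ∀ l : Fˣ, (Hs l : G) ∈ N := fun l => by
    obtain ⟨r, hr⟩ := hsq l
    have h1 := hmem Ws (Hs r⁻¹)
    rw [commutatorElement_def, Ws_Hs, inv_inv] at h1
    have h2 : (Hs r⁻¹ : G)⁻¹ = Hs r := inv_eq_of_mul_eq_one_left (by rw [Hs_mul, mul_inv_cancel, Hs_one])
    rwa [h2, Hs_mul, hr] at h1
  have hB : ∀ g : G, g • ∞ = ∞ → g ∈ N := fun g hg => by
    obtain ⟨a, b, l, rfl⟩ := fix_inf_iff.mp hg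
    exact mul_mem (hT a b) (hH l)
  have hW : (Ws : G) ∈ N := by
    have hx : (Ws : G) * Ts 1 0 * Ws⁻¹ ∈ N := hn.conj_mem _ (hT 1 0) Ws
    have hne : ((Ws : G) * Ts 1 0 * Ws⁻¹) • ∞ ≠ ∞ := by
      intro h
      rw [Ws_inv, mul_smul, mul_smul, Ws_smul_inf, Ts_smul_zero, ← eq_inv_smul_iff, Ws_inv,
        Ws_smul_inf, zero_eq_pt (m := m)] at h
      exact one_ne_zero (pt_injective h).1
    rcases bruhat ((Ws : G) * Ts 1 0 * Ws⁻¹) with h | ⟨a, b, h, hh, he⟩
    · exact absurd h hne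
    · have : (Ws : G) = (Ts a b)⁻¹ * ((Ws : G) * Ts 1 0 * Ws⁻¹) * h⁻¹ := by rw [he]; group
      rw [this]
      exact mul_mem (mul_mem (inv_mem (hT a b)) hx) (inv_mem (hB h hh))
  rw [eq_top_iff]
  intro g _
  rcases bruhat g with h | ⟨a, b, h, hh, rfl⟩
  · exact hB g h
  · exact mul_mem (mul_mem (hT a b) hW) (hB h hh)

theorem eq_top_of_normal (N : Subgroup G) [hn : N.Normal] (h : N ≠ ⊥) : N = ⊤ := by
  obtain ⟨n, hnN, hn1⟩ := (Subgroup.bot_or_exists_ne_one N).resolve_left h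
  obtain ⟨p, hp, hpne⟩ : ∃ p ∈ suzukiOvoid F m, n • p ≠ p := by
    by_contra hc
    push Not at hc
    exact hn1 (eq_one_of_fix_all hc)
  have htr : ∀ q ∈ suzukiOvoid F m, ∃ x ∈ N, x • ∞ = q := by
    intro q hq
    by_cases hq' : q = ∞
    · exact ⟨1, N.one_mem, by rw [one_smul, hq']⟩
    · obtain ⟨c, hc1, hc2⟩ :=
        two_trans (m := m) hp (smul_mem_ovoid n hp) inf_mem hq (Ne.symm hpne) (Ne.symm hq')
      exact ⟨c * n * c⁻¹, hn.conj_mem n hnN c,
        by rw [← hc1, mul_smul, mul_smul, inv_smul_smul, hc2]⟩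
  set π := QuotientGroup.mk' N
  have hsurj : ∀ x : G ⧸ N, ∃ b : G, b • ∞ = ∞ ∧ π b = x := by
    intro x
    obtain ⟨g, rfl⟩ := QuotientGroup.mk'_surjective N x
    obtain ⟨y, hy, hye⟩ := htr _ (smul_mem_ovoid g inf_mem)
    refine ⟨y⁻¹ * g, by rw [mul_smul, ← hye, inv_smul_smul], ?_⟩
    rw [map_mul, map_inv, QuotientGroup.mk'_apply, (QuotientGroup.eq_one_iff y).mpr hy, inv_one,
      one_mul]
  have hperf : commutator (G ⧸ N) = ⊤ := by
    rw [commutator_def, ← Subgroup.map_top_of_surjective π (QuotientGroup.mk'_surjective N),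
      ← Subgroup.map_commutator, ← commutator_def, commutator_eq_top]
  have hU : ∀ x : G ⧸ N, x ∈ (unipotent : Subgroup G).map π := by
    intro x
    have : x ∈ commutator (G ⧸ N) := hperf ▸ Subgroup.mem_top x
    rw [commutator_def] at this
    refine (Subgroup.commutator_le.mpr ?_) this
    intro y _ z _
    obtain ⟨b, hb, rfl⟩ := hsurj y
    obtain ⟨c, hc, rfl⟩ := hsurj z
    refine ⟨⁅b, c⁆, ?_, map_commutatorElement π b c⟩
    obtain ⟨a1, b1, k, rfl⟩ := fix_inf_iff.mp hb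
    obtain ⟨a2, b2, l, rfl⟩ := fix_inf_iff.mp hc
    rw [commutatorElement_def]
    have e : Ts a1 b1 * Hs k * (Ts a2 b2 * Hs l) * (Ts a1 b1 * Hs k)⁻¹ * (Ts a2 b2 * Hs l)⁻¹ =
        (Ts a1 b1 : G) * (Hs k * Ts a2 b2 * (Hs k)⁻¹) * ((Hs l) * (Ts a1 b1)⁻¹ * (Hs l)⁻¹) *
          (Ts a2 b2)⁻¹ := by
      have hc : (Hs k : G) * Hs l = Hs l * Hs k := by rw [Hs_mul, Hs_mul, mul_comm]
      calc _ = Ts a1 b1 * (Hs k * Ts a2 b2 * (Hs k)⁻¹) * (Hs k * Hs l) * (Hs k)⁻¹ *
          (Ts a1 b1)⁻¹ * (Hs l)⁻¹ * (Ts a2 b2)⁻¹ := by group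
        _ = _ := by rw [hc]; group
    rw [e]
    exact mul_mem (mul_mem (mul_mem (Ts_mem _ _) (conj_mem_unipotent (Hs_smul_inf k) (Ts_mem _ _)))
      (conj_mem_unipotent (Hs_smul_inf l) (inv_mem (Ts_mem _ _)))) (inv_mem (Ts_mem _ _))
  have hone : ∀ x : G ⧸ N, x = 1 := by
    have hab : ∀ y z : G ⧸ N, ⁅y, z⁆ ∈ ((unipotent : Subgroup G).map π ⊓ Subgroup.center (G ⧸ N)) := by
      intro y z
      obtain ⟨_, ⟨a, b, rfl⟩, rfl⟩ := hU y
      obtain ⟨_, ⟨c, d, rfl⟩, rfl⟩ := hU z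
      refine Subgroup.mem_inf.mpr ⟨hU _, Subgroup.mem_center_iff.mpr fun w => ?_⟩
      obtain ⟨_, ⟨e, f, rfl⟩, rfl⟩ := hU w
      rw [← map_commutatorElement, Ts_commutator, ← map_mul, ← map_mul]
      exact congrArg π ((commute_Ts_iff (m := m) 0 _).mpr rfl _ (Ts_mem e f))
    have hcen : ∀ x : G ⧸ N, x ∈ Subgroup.center (G ⧸ N) := by
      intro x
      have hx : x ∈ commutator (G ⧸ N) := hperf ▸ Subgroup.mem_top x
      rw [commutator_def] at hx
      exact (Subgroup.commutator_le.mpr fun y _ z _ => (Subgroup.mem_inf.mp (hab y z)).2) hx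
    intro x
    have hx : x ∈ commutator (G ⧸ N) := hperf ▸ Subgroup.mem_top x
    rw [commutator_def] at hx
    have : ⁅(⊤ : Subgroup (G ⧸ N)), ⊤⁆ ≤ ⊥ := Subgroup.commutator_le.mpr fun y _ z _ => by
      rw [Subgroup.mem_bot, commutatorElement_eq_one_iff_mul_comm]
      exact Subgroup.mem_center_iff.mp (hcen z) y
    exact Subgroup.mem_bot.mp (this hx)
  rw [eq_top_iff]
  intro g _
  exact (QuotientGroup.eq_one_iff g).mp (hone g)

theorem isSimpleGroup : IsSimpleGroup (Cfsg.Sz F m) := by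
  have : Nontrivial G := by
    refine ⟨⟨Ts 1 0, 1, fun h => one_ne_zero (Ts_eq_one h).1⟩⟩
  exact ⟨fun N hN => Classical.or_iff_not_imp_left.mpr fun h => eq_top_of_normal N h⟩

end Cfsg.Agent.SuzukiGroupStructure
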