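import Cfsg.Prelude.Def_Sz
import Cfsg.Agent.Lib.SuzukiGroupStructure

/-!
The two models of the Suzuki groups agree: `Cfsg.Lie.Sz F (2^(m+1)) ≃* Cfsg.Sz F m`.
-/

set_option autoImplicit false

namespace Cfsg.Agent.SuzukiGroupLie

open scoped Matrix Pointwise LinearAlgebra.Projectivization
open MulAction Cfsg.Agent.SuzukiGroupBasic Cfsg.Agent.SuzukiGroupStructure Cfsg.Lie

variable {F : Type*} [Field F] {m : ℕ} [hP : Param F m]

/-- Matrices satisfying the defining conditions of the Lie model. -/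
def IsGen (m : ℕ) (M : Matrix (Fin 4) (Fin 4) F) : Prop :=
  (∀ u v, altForm4 (M *ᵥ u) (M *ᵥ v) = altForm4 u v) ∧
    star4 M = M.map fun x => x ^ (2 ^ (m + 1))

omit hP in
theorem mem_gen_iff {g : GL (Fin 4) F} :
    (g ∈ Sp4 F ∧ star4 (g : Matrix (Fin 4) (Fin 4) F) =
      (g : Matrix (Fin 4) (Fin 4) F).map fun x => x ^ (2 ^ (m + 1))) ↔
    IsGen m (g : Matrix (Fin 4) (Fin 4) F) := Iff.rfl

theorem isGen_Tm (a b : F) : IsGen m (Tm m a b) := by
  have := charTwo (F := F) (m := m)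
  refine ⟨fun u v => ?_, ?_⟩
  · simp [Tm, altForm4, Matrix.mulVec, dotProduct, Fin.sum_univ_four]
    grind
  · change star4 (Tm m a b) = (Tm m a b).map (sg m)
    ext i j
    fin_cases i <;> fin_cases j <;>
      simp [Tm, star4, pairOf, ff, sg_add, sg_mul, sg_sg, sg_pow] <;> grind

theorem isGen_Hm (k : Fˣ) : IsGen m (Hm m (k : F)) := by
  have := charTwo (F := F) (m := m)
  have ht := tg_ne_zero (m := m) k.ne_zero
  have hk := k.ne_zero
  have hs := tg_mul_tg (m := m) (k : F)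
  refine ⟨fun u v => ?_, ?_⟩
  · simp [Hm, altForm4, Matrix.mulVec_diagonal]
    field_simp
  · change star4 (Hm m (k : F)) = (Hm m (k : F)).map (sg m)
    ext i j
    fin_cases i <;> fin_cases j <;>
      simp [Hm, star4, pairOf, sg_mul, sg_inv, sg_tg] <;> field_simp <;> grind

omit hP in
theorem isGen_W [CharP F 2] : IsGen m (suzukiForm F) := by
  refine ⟨fun u v => ?_, ?_⟩
  · simp [suzukiForm, altForm4, Matrix.mulVec, dotProduct, Fin.sum_univ_four]
    grind
  · change star4 (suzukiForm F) = (suzukiForm F).map (sg m)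
    ext i j
    fin_cases i <;> fin_cases j <;>
      simp [suzukiForm, star4, pairOf, CharTwo.neg_eq, CharTwo.sub_eq_add]

/-- The image of the Suzuki group in `GL₄`. -/
noncomputable def toGLImage (m : ℕ) : Subgroup (GL (Fin 4) F) :=
  (Cfsg.Sz F m).map Matrix.SpecialLinearGroup.toGL

/-- The predicate singling out the ovoid. -/
def Abs (m : ℕ) (v : Fin 4 → F) : Prop :=
  ∃ u : Fin 4 → F, altForm4 u v = 0 ∧
    ∀ p : Fin 4, u (pairOf p).1 * v (pairOf p).2 - u (pairOf p).2 * v (pairOf p).1 = sg m (v p)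

theorem abs_inf (c : F) : Abs m (c • ![1, 0, 0, 0] : Fin 4 → F) := by
  have := charTwo (F := F) (m := m)
  refine ⟨![0, sg m c / c, 0, 0], by simp [altForm4], fun p => ?_⟩
  rcases eq_or_ne c 0 with rfl | hc
  · fin_cases p <;> simp [pairOf]
  · fin_cases p <;> simp [pairOf, CharTwo.neg_eq, hc, div_mul_cancel₀]

theorem minor_expand [CharP F 2] (M : Matrix (Fin 4) (Fin 4) F) (u v : Fin 4 → F)
    (huv : altForm4 u v = 0) (p : Fin 4) :
    (M *ᵥ u) (pairOf p).1 * (M *ᵥ v) (pairOf p).2 - (M *ᵥ u) (pairOf p).2 * (M *ᵥ v) (pairOf p).1 =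
      (star4 M *ᵥ fun r => u (pairOf r).1 * v (pairOf r).2 - u (pairOf r).2 * v (pairOf r).1) p +
      (u 0 * v 3 - u 3 * v 0) *
        altForm4 (M (pairOf p).1) (M (pairOf p).2) := by
  simp only [altForm4] at huv
  fin_cases p <;>
    simp [star4, pairOf, altForm4, Matrix.mulVec, dotProduct, Fin.sum_univ_four] <;> grind

omit hP in
theorem gram_cols (M : Matrix (Fin 4) (Fin 4) F) (i j : Fin 4) :
    (Mᵀ * suzukiForm F * M) i j = altForm4 (fun k => M k i) (fun k => M k j) := by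
  simp [Matrix.mul_apply, Fin.sum_univ_four, suzukiForm, altForm4]; ring

omit hP in
theorem gram_rows (M : Matrix (Fin 4) (Fin 4) F) (i j : Fin 4) :
    (M * suzukiForm F * Mᵀ) i j = altForm4 (M i) (M j) := by
  simp [Matrix.mul_apply, Fin.sum_univ_four, suzukiForm, altForm4]; ring

omit hP in
theorem gram_gen {M : Matrix (Fin 4) (Fin 4) F} (hg : IsGen m M) :
    Mᵀ * suzukiForm F * M = suzukiForm F := by
  ext i j
  have h := hg.1 (Pi.single i 1) (Pi.single j 1)
  have e : ∀ k : Fin 4, M *ᵥ Pi.single k 1 = fun l => M l k := fun k => by ext l; simp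
  rw [e i, e j] at h
  rw [gram_cols, h]
  fin_cases i <;> fin_cases j <;> simp [altForm4, suzukiForm]

theorem abs_mulVec {g : GL (Fin 4) F} (hg : IsGen m (g : Matrix (Fin 4) (Fin 4) F))
    {v : Fin 4 → F} (hv : Abs m v) : Abs m ((g : Matrix (Fin 4) (Fin 4) F) *ᵥ v) := by
  have := charTwo (F := F) (m := m)
  set M := (g : Matrix (Fin 4) (Fin 4) F) with hM
  obtain ⟨u, hu, he⟩ := hv
  refine ⟨M *ᵥ u, by rw [hg.1, hu], fun p => ?_⟩
  have hJ : Mᵀ * suzukiForm F * M = suzukiForm F := gram_gen hg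
  have hrows : M * suzukiForm F * Mᵀ = suzukiForm F := by
    have hJJ : suzukiForm F * suzukiForm F = 1 := by
      ext i j
      fin_cases i <;> fin_cases j <;> simp [suzukiForm, Matrix.mul_apply, Fin.sum_univ_four]
    have h1 : (suzukiForm F * Mᵀ * suzukiForm F) * M = 1 := by
      rw [mul_assoc (suzukiForm F), mul_assoc (suzukiForm F), hJ, hJJ]
    have h2 := mul_eq_one_comm.mp h1
    calc M * suzukiForm F * Mᵀ = M * suzukiForm F * Mᵀ * (suzukiForm F * suzukiForm F) := by
          rw [hJJ, mul_one]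
      _ = M * (suzukiForm F * Mᵀ * suzukiForm F) * suzukiForm F := by simp only [mul_assoc]
      _ = suzukiForm F := by rw [h2, one_mul]
  have hrow : altForm4 (M (pairOf p).1) (M (pairOf p).2) = 0 := by
    have h := congrFun (congrFun hrows (pairOf p).1) (pairOf p).2
    rw [gram_rows] at h
    rw [h]
    fin_cases p <;> simp [suzukiForm, pairOf]
  rw [minor_expand M u v hu p, hrow, mul_zero, add_zero, hg.2]
  simp only [he]
  simp only [Matrix.mulVec, dotProduct, Matrix.map_apply]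
  change ∑ i, sg m (M p i) * sg m (v i) = sg m (∑ i, M p i * v i)
  simp only [Fin.sum_univ_four, sg_add, sg_mul]

theorem ovoid_of_abs {v : Fin 4 → F} (hv0 : v ≠ 0) (hv : Abs m v) :
    Projectivization.mk F v hv0 ∈ suzukiOvoid F m := by
  have := charTwo (F := F) (m := m)
  rw [mem_ovoid]
  by_cases h3 : v 3 = 0
  · left
    obtain ⟨u, hu, he⟩ := hv
    have e0 := he 0; have e1 := he 1; have e2 := he 2; have e3 := he 3
    simp only [pairOf, Matrix.cons_val_zero, Matrix.cons_val_one, Matrix.cons_val,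
      CharTwo.sub_eq_add] at e0 e1 e2 e3
    simp only [altForm4] at hu
    rw [h3] at e2 e3 hu
    simp only [sg_zero, mul_zero, zero_add] at e2 e3 hu
    have h2 : v 2 = 0 := by
      rcases mul_eq_zero.mp e3 with h | h
      · rw [h, zero_mul] at e2
        exact sg_eq_zero.mp e2.symm
      · exact h
    simp only [h2, sg_zero, mul_zero, zero_add] at e1 e2 hu
    have h1 : v 1 = 0 := by
      by_contra hne
      have hu3 : u 3 = 0 := (mul_eq_zero.mp e2).resolve_right hne
      simp only [hu3, zero_mul, add_zero] at hu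
      have hu2 : u 2 = 0 := (mul_eq_zero.mp hu).resolve_right hne
      rw [hu2, zero_mul] at e1
      exact hne (sg_eq_zero.mp e1.symm)
    rw [suzukiPointInfinity, Projectivization.mk_eq_mk_iff']
    refine ⟨v 0, ?_⟩
    ext i; fin_cases i <;> simp [h1, h2, h3]
  · right
    set a := v 2 / v 3
    set b := v 1 / v 3
    set c := v 0 / v 3 - ff m a b
    refine ⟨a, b, ?_⟩
    let g : GL (Fin 4) F := Matrix.SpecialLinearGroup.toGL ((T m a b : Matrix.SpecialLinearGroup (Fin 4) F)⁻¹)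
    have hmul : ((v 3)⁻¹ • v : Fin 4 → F) = Tm m a b *ᵥ ![c, 0, 0, 1] := by
      ext i; fin_cases i <;>
        simp [Tm, Matrix.mulVec, dotProduct, Fin.sum_univ_four, a, b, c, inv_mul_eq_div, h3]
    have hinv : (T m a b : Matrix.SpecialLinearGroup (Fin 4) F)⁻¹ = T m a (b + sg m a * a) :=
      congrArg Subtype.val (Ts_inv (m := m) a b)
    have hg : IsGen m ((g : GL (Fin 4) F) : Matrix (Fin 4) (Fin 4) F) := by
      simp only [g, hinv]
      exact isGen_Tm a _
    have hscal : Abs m ((v 3)⁻¹ • v) := by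
      obtain ⟨u, hu, he⟩ := hv
      refine ⟨(sg m (v 3)⁻¹ / (v 3)⁻¹) • u, ?_, fun p => ?_⟩
      · simp only [altForm4, Pi.smul_apply, smul_eq_mul] at hu ⊢
        linear_combination (sg m (v 3)⁻¹ / (v 3)⁻¹ * (v 3)⁻¹) * hu
      · simp only [Pi.smul_apply, smul_eq_mul, sg_mul, ← he p]
        field_simp
    have h4 : Abs m (![c, 0, 0, 1] : Fin 4 → F) := by
      have h5 := abs_mulVec hg hscal
      rw [hmul, Matrix.mulVec_mulVec] at h5
      have e : ((g : GL (Fin 4) F) : Matrix (Fin 4) (Fin 4) F) * Tm m a b = 1 := by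
        change ((((T m a b : Matrix.SpecialLinearGroup (Fin 4) F)⁻¹ * T m a b) :
          Matrix.SpecialLinearGroup (Fin 4) F) : Matrix (Fin 4) (Fin 4) F) = 1
        rw [inv_mul_cancel, Matrix.SpecialLinearGroup.coe_one]
      rwa [e, Matrix.one_mulVec] at h5
    have hc : c = 0 := by
      obtain ⟨u, -, he⟩ := h4
      have e0 := he 0; have e2 := he 2
      simp [pairOf] at e0 e2
      rw [e2] at e0
      exact sg_eq_zero.mp (by simpa [eq_comm] using e0)
    rw [pt, Projectivization.mk_eq_mk_iff']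
    refine ⟨v 3, ?_⟩
    have h6 : ff m a b = v 0 / v 3 := (sub_eq_zero.mp hc).symm
    ext i; fin_cases i <;> simp [pv, h6, a, b, mul_div_cancel₀, h3]

theorem abs_of_ovoid {v : Fin 4 → F} (hv0 : v ≠ 0)
    (h : Projectivization.mk F v hv0 ∈ suzukiOvoid F m) : Abs m v := by
  have := charTwo (F := F) (m := m)
  rcases mem_ovoid.mp h with h | ⟨x, y, h⟩
  · obtain ⟨c, rfl⟩ := (Projectivization.mk_eq_mk_iff' F _ _ _ _).mp h
    exact abs_inf c
  · obtain ⟨c, rfl⟩ := (Projectivization.mk_eq_mk_iff' F _ _ _ _).mp h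
    let g : GL (Fin 4) F := Matrix.SpecialLinearGroup.toGL (T m x y)
    let w : GL (Fin 4) F := Matrix.SpecialLinearGroup.toGL (W F)
    have h1 := abs_mulVec (g := g) (isGen_Tm x y)
      (abs_mulVec (g := w) isGen_W (abs_inf (m := m) c))
    have e : ((g : GL (Fin 4) F) : Matrix (Fin 4) (Fin 4) F) *ᵥ
        (((w : GL (Fin 4) F) : Matrix (Fin 4) (Fin 4) F) *ᵥ (c • ![1, 0, 0, 0])) = c • pv m x y := by
      change Tm m x y *ᵥ (suzukiForm F *ᵥ (c • ![1, 0, 0, 0])) = c • pv m x y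
      ext i
      fin_cases i <;>
        simp [Tm, suzukiForm, pv, Matrix.mulVec, dotProduct, Fin.sum_univ_four, mul_comm]
    rwa [e] at h1

theorem det_of_gen {M : Matrix (Fin 4) (Fin 4) F} (hg : IsGen m M) : M.det = 1 := by
  have := charTwo (F := F) (m := m)
  have hJ : Mᵀ * suzukiForm F * M = suzukiForm F := gram_gen hg
  have h1 := congrArg Matrix.det hJ
  rw [Matrix.det_mul, Matrix.det_mul, Matrix.det_transpose, det_form, mul_one] at h1
  rcases mul_self_eq_one_iff.mp h1 with h | h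
  · exact h
  · rwa [CharTwo.neg_eq] at h

theorem lieSz_eq : Cfsg.Lie.Sz F (2 ^ (m + 1)) = toGLImage m := by
  refine le_antisymm ?_ ?_
  · rw [Cfsg.Lie.Sz, Subgroup.closure_le]
    intro g hg
    have hg' : IsGen m (g : Matrix (Fin 4) (Fin 4) F) := mem_gen_iff.mp hg
    let g' : Matrix.SpecialLinearGroup (Fin 4) F :=
      ⟨(g : Matrix (Fin 4) (Fin 4) F), det_of_gen hg'⟩
    refine ⟨g', ?_, Units.ext rfl⟩
    show g' ∈ Cfsg.Sz F m
    refine mem_Sz_of_mapsTo fun p hp => ?_
    induction p using Projectivization.ind with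
    | h v hv =>
      rw [Projectivization.smul_mk]
      exact ovoid_of_abs _ (abs_mulVec hg' (abs_of_ovoid hv hp))
  · rintro _ ⟨g, hg, rfl⟩
    have := charTwo (F := F) (m := m)
    have hT : ∀ a b : F, Matrix.SpecialLinearGroup.toGL (T m a b) ∈ Cfsg.Lie.Sz F (2 ^ (m + 1)) :=
      fun a b => Subgroup.subset_closure (mem_gen_iff.mpr (isGen_Tm a b))
    have hH : ∀ k : Fˣ, Matrix.SpecialLinearGroup.toGL (H m k) ∈ Cfsg.Lie.Sz F (2 ^ (m + 1)) :=
      fun k => Subgroup.subset_closure (mem_gen_iff.mpr (isGen_Hm k))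
    have hW : Matrix.SpecialLinearGroup.toGL (W F) ∈ Cfsg.Lie.Sz F (2 ^ (m + 1)) :=
      Subgroup.subset_closure (mem_gen_iff.mpr isGen_W)
    have hB : ∀ h : ↥(Cfsg.Sz F m), h • suzukiPointInfinity F = suzukiPointInfinity F →
        Matrix.SpecialLinearGroup.toGL (h : Matrix.SpecialLinearGroup (Fin 4) F) ∈
          Cfsg.Lie.Sz F (2 ^ (m + 1)) := fun h hh => by
      obtain ⟨a, b, k, rfl⟩ := fix_inf_iff.mp hh
      rw [Subgroup.coe_mul, map_mul]
      exact mul_mem (hT a b) (hH k)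
    rcases bruhat (⟨g, hg⟩ : ↥(Cfsg.Sz F m)) with h | ⟨a, b, h, hh, he⟩
    · exact hB _ h
    · rw [show g = ((Ts a b * Ws * h : ↥(Cfsg.Sz F m)) : Matrix.SpecialLinearGroup (Fin 4) F) from
        congrArg Subtype.val he, Subgroup.coe_mul, Subgroup.coe_mul, map_mul, map_mul]
      exact mul_mem (mul_mem (hT a b) hW) (hB h hh)

theorem toGL_injective' :
    Function.Injective (Matrix.SpecialLinearGroup.toGL :
      Matrix.SpecialLinearGroup (Fin 4) F →* GL (Fin 4) F) :=
  fun _ _ h => Subtype.ext (congrArg Units.val h)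

/-- The isomorphism between the two models. -/
noncomputable def lieEquiv : ↥(Cfsg.Lie.Sz F (2 ^ (m + 1))) ≃* ↥(Cfsg.Sz F m) :=
  (MulEquiv.subgroupCongr lieSz_eq).trans
    (Subgroup.equivMapOfInjective (Cfsg.Sz F m) Matrix.SpecialLinearGroup.toGL toGL_injective').symm

theorem finite_lie : Finite ↥(Cfsg.Lie.Sz F (2 ^ (m + 1))) :=
  Finite.of_equiv _ (lieEquiv (F := F) (m := m)).symm.toEquiv

end Cfsg.Agent.SuzukiGroupLie
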