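import Cfsg.Agent.Lib.ChevalleyAdjoint
import Mathlib.RingTheory.Nilpotent.Exp

/-!
Root elements over a commutative `ℚ`-algebra as exponentials, and the commutator formula there.
-/

set_option autoImplicit false
set_option linter.unusedSimpArgs false

namespace Cfsg.Agent.ChevalleyExp

open Cfsg.Lie Cfsg.Agent.ChevalleyEngine Cfsg.Agent.ChevalleyCert Cfsg.Agent.ChevalleyRoots
open Cfsg.Agent.ChevalleyAdjoint
open scoped Matrix

section General

/-- cast of an integer matrix -/
abbrev castM {ι : Type*} (R : Type*) [IntCast R] (A : Matrix ι ι ℤ) : Matrix ι ι R := A.map (Int.cast)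

variable {ι : Type*} [Fintype ι] [DecidableEq ι] {R : Type*} [CommRing R]

theorem castM_add (A B : Matrix ι ι ℤ) : castM R (A + B) = castM R A + castM R B := by ext; simp

theorem castM_sub (A B : Matrix ι ι ℤ) : castM R (A - B) = castM R A - castM R B := by ext; simp

theorem castM_smul (c : ℤ) (A : Matrix ι ι ℤ) : castM R (c • A) = (c : R) • castM R A := by
  ext i j; simp only [Matrix.map_apply, Matrix.smul_apply, smul_eq_mul, Int.cast_mul]

theorem castM_mul (A B : Matrix ι ι ℤ) : castM R (A * B) = castM R A * castM R B := by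
  simpa [castM] using (Matrix.map_mul (f := Int.castRingHom R) (L := A) (M := B))

theorem castM_one : castM R (1 : Matrix ι ι ℤ) = 1 := Matrix.map_one _ Int.cast_zero Int.cast_one

theorem castM_zero : castM R (0 : Matrix ι ι ℤ) = 0 := by ext; simp

theorem castM_pow (A : Matrix ι ι ℤ) (n : ℕ) : castM R (A ^ n) = castM R A ^ n := by
  induction n with
  | zero => simp [castM_one]
  | succ n ih => rw [pow_succ, pow_succ, castM_mul, ih]

end General

variable (D : ChevalleyDatum)

/-- `x_r(t)` over a commutative ring -/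
def xR (R : Type*) [CommRing R] (r : ℕ) (t : R) : Matrix D.Idx D.Idx R :=
  1 + t • castM R (xm D 1 r) + t ^ 2 • castM R (xm D 2 r) + t ^ 3 • castM R (xm D 3 r)

/-- product of root elements over a commutative ring -/
def wordR (R : Type*) [CommRing R] (w : List (ℕ × R)) : Matrix D.Idx D.Idx R :=
  (w.map fun p => xR D R p.1 p.2).prod

/-- the commutator word over a commutative ring -/
def commR (R : Type*) [CommRing R] (r s : ℕ) (t u : R) : List (ℕ × R) :=
  (D.commTerms r s).map fun c => (c.1, (c.2.1 : R) * (-t) ^ c.2.2.1 * u ^ c.2.2.2)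

theorem xR_map {R S : Type*} [CommRing R] [CommRing S] (f : R →+* S) (r : ℕ) (t : R) :
    (xR D R r t).map f = xR D S r (f t) := by
  ext i j
  simp only [xR, Matrix.map_apply, Matrix.add_apply, Matrix.smul_apply, smul_eq_mul, map_add, map_mul, map_pow,
    map_intCast]
  rw [Matrix.one_apply, Matrix.one_apply]
  split <;> simp

theorem xR_zero (R : Type*) [CommRing R] (r : ℕ) : xR D R r 0 = 1 := by simp [xR]

variable {D} (C : Cert D) {K : Type*} [CommRing K] [Algebra ℚ K]

/-- `ad v` with coefficients in a commutative ring -/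
noncomputable def adK (D : ChevalleyDatum) (K : Type*) [CommRing K] : (D.Idx → K) →ₗ[K] Matrix D.Idx D.Idx K :=
  Fintype.linearCombination K (fun q => castM K (adI D (Pi.single q 1)))

theorem smul_cast_eq (q : ℚ) (k : ℤ) (A : Matrix D.Idx D.Idx K) :
    q • ((k : K) • A) = (q * k : ℚ) • A := by
  ext i j
  rw [Matrix.smul_apply, Matrix.smul_apply, Matrix.smul_apply]
  simp only [Algebra.smul_def, map_mul, map_intCast, Algebra.algebraMap_self, RingHom.id_apply, smul_eq_mul, Matrix.smul_apply]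
  ring

include C

theorem adK_cast (v : D.Idx → ℤ) : adK D K (fun q => (v q : K)) = castM K (adI D v) := by
  conv_rhs => rw [adI_eq, pi_eq_sum_univ' v, map_sum]
  rw [adK, Fintype.linearCombination_apply]
  ext a b
  simp only [Matrix.sum_apply, Matrix.smul_apply, Matrix.map_apply, map_smul, smul_eq_mul, Int.cast_sum,
    Int.cast_mul, ← adI_eq]

theorem adK_brk {r : ℕ} (hr : r < D.nroots) (v : D.Idx → K) :
    castM K (xm D 1 r) * adK D K v - adK D K v * castM K (xm D 1 r) = adK D K (castM K (xm D 1 r) *ᵥ v) := by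
  have : (LinearMap.mulLeft K (castM K (xm D 1 r)) - LinearMap.mulRight K (castM K (xm D 1 r))).comp (adK D K) =
      (adK D K).comp (Matrix.mulVecLin (castM K (xm D 1 r))) := by
    refine (Pi.basisFun K D.Idx).ext fun q => ?_
    simp only [Pi.basisFun_apply, LinearMap.comp_apply, LinearMap.sub_apply, LinearMap.mulLeft_apply,
      LinearMap.mulRight_apply, Matrix.mulVecLin_apply]
    have h1 : (Pi.single q 1 : D.Idx → K) = fun p => (((Pi.single q 1 : D.Idx → ℤ) p : ℤ) : K) := by
      funext p; by_cases hp : p = q <;> simp [hp]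
    have h2 : castM K (xm D 1 r) *ᵥ (Pi.single q 1 : D.Idx → K) =
        fun p => (((xm D 1 r *ᵥ Pi.single q 1) p : ℤ) : K) := by
      rw [Matrix.mulVec_single_one, Matrix.mulVec_single_one]; rfl
    rw [h2, h1, adK_cast C, adK_cast C, ← castM_mul, ← castM_mul, ← castM_sub, brk C hr (Pi.single q 1)]
  simpa only [LinearMap.comp_apply, LinearMap.sub_apply, LinearMap.mulLeft_apply, LinearMap.mulRight_apply,
    Matrix.mulVecLin_apply] using LinearMap.congr_fun this v

theorem smul_pow_four {r : ℕ} (hr : r < D.nroots) (t : K) : (t • castM K (xm D 1 r)) ^ 4 = 0 := by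
  rw [smul_pow, ← castM_pow, xm_pow_four C hr, castM_zero, smul_zero]

theorem nilp {r : ℕ} (hr : r < D.nroots) (t : K) : IsNilpotent (t • castM K (xm D 1 r)) :=
  ⟨4, smul_pow_four C hr t⟩

theorem exp_eq {r : ℕ} (hr : r < D.nroots) (t : K) :
    IsNilpotent.exp (t • castM K (xm D 1 r)) = xR D K r t := by
  rw [IsNilpotent.exp_eq_sum (smul_pow_four C hr t)]
  simp only [Finset.sum_range_succ, Finset.sum_range_zero, zero_add, smul_pow, ← castM_pow, xR]
  rw [pow_zero (xm D 1 r), pow_one (xm D 1 r), castM_one, xm_sq C hr, xm_cube C hr, castM_smul, castM_smul,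
    smul_comm (t ^ 2), smul_comm (t ^ 3), smul_cast_eq, smul_cast_eq]
  norm_num [Nat.factorial]

theorem xR_add {r : ℕ} (hr : r < D.nroots) (t u : K) : xR D K r t * xR D K r u = xR D K r (t + u) := by
  rw [← exp_eq C hr, ← exp_eq C hr, ← exp_eq C hr, ← IsNilpotent.exp_add_of_commute _ (nilp C hr t) (nilp C hr u),
    add_smul]
  exact ((Commute.refl _).smul_left t).smul_right u

theorem xR_inv {r : ℕ} (hr : r < D.nroots) (t : K) : xR D K r (-t) * xR D K r t = 1 := by
  rw [xR_add C hr, neg_add_cancel, xR_zero]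

omit C in
theorem conj_sum {A : Type*} [Ring A] [Algebra ℚ A] (Y : A) (a : Fin 7 → A) (b : A)
    (h0 : Y * b = a 1 + b * Y) (h : ∀ n : Fin 6, n.val ≠ 0 → Y * a n.castSucc = a n.succ + a n.castSucc * Y)
    (h4 : a 4 = 0) (h5 : a 5 = 0) (h6 : a 6 = 0) (hY : Y ^ 4 = 0) :
    (1 + Y + (2⁻¹ : ℚ) • Y ^ 2 + (6⁻¹ : ℚ) • Y ^ 3) * b =
      (b + a 1 + (2⁻¹ : ℚ) • a 2 + (6⁻¹ : ℚ) • a 3) * (1 + Y + (2⁻¹ : ℚ) • Y ^ 2 + (6⁻¹ : ℚ) • Y ^ 3) := by
  have e1 : Y * a 1 = a 2 + a 1 * Y := h 1 (by decide)
  have e2 : Y * a 2 = a 3 + a 2 * Y := h 2 (by decide)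
  have e3 : Y * a 3 = a 4 + a 3 * Y := h 3 (by decide)
  rw [h4, zero_add] at e3
  have p2 : Y * (Y * b) = a 2 + (2 : ℚ) • (a 1 * Y) + b * (Y * Y) := by
    rw [h0, mul_add, e1, ← mul_assoc Y b, h0, add_mul, mul_assoc]; module
  have p3 : Y * (Y * (Y * b)) = a 3 + (3 : ℚ) • (a 2 * Y) + (3 : ℚ) • (a 1 * (Y * Y)) + b * (Y * (Y * Y)) := by
    rw [p2, mul_add, mul_add, e2, mul_smul_comm, ← mul_assoc Y (a 1), e1, ← mul_assoc Y b, h0]
    simp only [add_mul, smul_add, mul_assoc]; module
  have hY' : Y * (Y * (Y * Y)) = 0 := by rw [← hY]; simp only [pow_succ, pow_zero, one_mul, mul_assoc]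
  have hY'' : Y * (Y * (Y * (Y * b))) = 0 := by
    rw [show Y * (Y * (Y * (Y * b))) = (Y * (Y * (Y * Y))) * b by simp only [mul_assoc], hY', zero_mul]
  have hY5 : ∀ x : A, x * (Y * (Y * (Y * Y))) = 0 := fun x => by rw [hY', mul_zero]
  have p4 : (4 : ℚ) • (a 3 * Y) + (6 : ℚ) • (a 2 * (Y * Y)) + (4 : ℚ) • (a 1 * (Y * (Y * Y))) = 0 := by
    rw [← hY'', p3, mul_add, mul_add, mul_add, e3, mul_smul_comm, mul_smul_comm,
      ← mul_assoc Y (a 2), e2, ← mul_assoc Y (a 1), e1, ← mul_assoc Y b, h0]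
    simp only [add_mul, smul_add, mul_assoc, hY5]; module
  have p5 : (10 : ℚ) • (a 3 * (Y * Y)) + (10 : ℚ) • (a 2 * (Y * (Y * Y))) = 0 := by
    have := congrArg (fun x => Y * x) p4
    simp only [mul_zero, mul_add, mul_smul_comm] at this
    rw [← mul_assoc Y (a 3), e3, ← mul_assoc Y (a 2), e2, ← mul_assoc Y (a 1), e1] at this
    simp only [add_mul, smul_add, mul_assoc, hY5, smul_zero, add_zero] at this
    rw [← this]; module
  have p6 : (20 : ℚ) • (a 3 * (Y * (Y * Y))) = 0 := by
    have := congrArg (fun x => Y * x) p5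
    simp only [mul_zero, mul_add, mul_smul_comm] at this
    rw [← mul_assoc Y (a 3), e3, ← mul_assoc Y (a 2), e2] at this
    simp only [add_mul, smul_add, mul_assoc, hY5, smul_zero, add_zero] at this
    rw [← this]; module
  simp only [pow_succ, pow_zero, one_mul, add_mul, mul_add, mul_one, mul_assoc, smul_mul_assoc, mul_smul_comm,
    smul_add]
  rw [p3, p2, h0]
  simp only [mul_add, mul_assoc, smul_add, mul_smul_comm]
  linear_combination (norm := module) (-24⁻¹ : ℚ) • p4 + (-120⁻¹ : ℚ) • p5 + (-720⁻¹ : ℚ) • p6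

theorem conj_ad {r : ℕ} (hr : r < D.nroots) (t : K) (v : D.Idx → K) :
    xR D K r t * adK D K v = adK D K (xR D K r t *ᵥ v) * xR D K r t := by
  set Y := t • castM K (xm D 1 r) with hYdef
  have key : ∀ w, Y * adK D K w = adK D K (Y *ᵥ w) + adK D K w * Y := by
    intro w
    rw [hYdef, Matrix.smul_mulVec, map_smul, ← adK_brk C hr, smul_mul_assoc, mul_smul_comm, smul_sub]
    abel
  have hY := smul_pow_four C hr t
  have e : xR D K r t = 1 + Y + (2⁻¹ : ℚ) • Y ^ 2 + (6⁻¹ : ℚ) • Y ^ 3 := by
    rw [← exp_eq C hr, IsNilpotent.exp_eq_sum hY, hYdef]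
    simp [Finset.sum_range_succ, Nat.factorial]
  have hz : ∀ n, 4 ≤ n → adK D K ((Y ^ n) *ᵥ v) = 0 := fun n hn => by
    rw [pow_eq_zero_of_le hn hY, Matrix.zero_mulVec, map_zero]
  rw [e]
  have := conj_sum Y (fun n : Fin 7 => adK D K ((Y ^ (n : ℕ)) *ᵥ v)) (adK D K v)
    (by simpa using key v)
    (fun n _ => by
      simp only [Fin.val_castSucc, Fin.val_succ]
      rw [key, Matrix.mulVec_mulVec, ← pow_succ'])
    (hz 4 le_rfl) (hz 5 (by norm_num)) (hz 6 (by norm_num)) hY
  rw [this]
  congr 1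
  simp only [Matrix.add_mulVec, Matrix.one_mulVec, map_add, Matrix.smul_mulVec, LinearMap.map_smul_of_tower]
  simp

omit C in
theorem semiconj_exp {A : Type*} [Ring A] [Algebra ℚ A] {g P Q : A} (h : g * P = Q * g)
    (hP : IsNilpotent P) (hQ : IsNilpotent Q) : g * IsNilpotent.exp P = IsNilpotent.exp Q * g := by
  obtain ⟨a, ha⟩ := hP
  obtain ⟨b, hb⟩ := hQ
  rw [IsNilpotent.exp_eq_sum (pow_eq_zero_of_le (le_max_left a b) ha),
    IsNilpotent.exp_eq_sum (pow_eq_zero_of_le (le_max_right a b) hb), Finset.mul_sum, Finset.sum_mul]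
  refine Finset.sum_congr rfl fun k _ => ?_
  rw [mul_smul_comm, smul_mul_assoc]
  congr 1
  exact (SemiconjBy.pow_right (show SemiconjBy g P Q from h) k).eq

omit C in
theorem exp_list {A : Type*} [Ring A] [Algebra ℚ A] :
    ∀ (l : List A), (∀ x ∈ l, IsNilpotent x) → (∀ x ∈ l, ∀ y ∈ l, Commute x y) →
      IsNilpotent l.sum ∧ IsNilpotent.exp l.sum = (l.map IsNilpotent.exp).prod
  | [], _, _ => by simp [IsNilpotent.exp_zero]
  | x :: l, hn, hc => by
    obtain ⟨i1, i2⟩ := exp_list l (fun y hy => hn y (List.mem_cons_of_mem _ hy))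
      (fun y hy z hz => hc y (List.mem_cons_of_mem _ hy) z (List.mem_cons_of_mem _ hz))
    have hx := hn x (List.mem_cons_self ..)
    have hcomm : Commute x l.sum :=
      Commute.list_sum_right _ _ fun y hy => hc x (List.mem_cons_self ..) y (List.mem_cons_of_mem _ hy)
    rw [List.sum_cons, List.map_cons, List.prod_cons]
    exact ⟨hcomm.isNilpotent_add hx i1, by rw [IsNilpotent.exp_add_of_commute hcomm hx i1, i2]⟩

omit C in
/-- basis vector of a root over `K` -/
def eK (D : ChevalleyDatum) (K : Type*) [CommRing K] (s : ℕ) : D.Idx → K := fun q => ((evec D s q : ℤ) : K)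

theorem adK_eK {s : ℕ} (hs : s < D.nroots) : adK D K (eK D K s) = castM K (xm D 1 s) := by
  unfold eK; rw [adK_cast C, adI_evec hs]

theorem cast_mulVec (A : Matrix D.Idx D.Idx ℤ) (v : D.Idx → ℤ) :
    castM K A *ᵥ (fun q => (v q : K)) = fun q => (((A *ᵥ v) q : ℤ) : K) := by
  funext q
  simp only [Matrix.mulVec, dotProduct, Matrix.map_apply, Int.cast_sum, Int.cast_mul]

/-- image of a root vector under a root element -/
theorem xR_eK {r s : ℕ} (hr : r < D.nroots) (hs : s < D.nroots) (h1 : s ≠ r) (h2 : s ≠ D.neg r) (t : K) :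
    xR D K r t *ᵥ eK D K s =
      eK D K s + ((D.chainEntry r s).zipIdx.map fun q => ((q.1.2 : K) * t ^ (q.2 + 1)) • eK D K q.1.1).sum := by
  have hk : ∀ k, castM K (xm D k r) *ᵥ eK D K s =
      match (D.chainEntry r s)[k - 1]? with | none => 0 | some q => (q.2 : K) • eK D K q.1 := by
    intro k
    unfold eK
    rw [cast_mulVec C, xm_other k hs h1 h2]
    rcases (D.chainEntry r s)[k - 1]? with _ | q <;> funext v <;> simp
  simp only [xR, Matrix.add_mulVec, Matrix.one_mulVec, Matrix.smul_mulVec, hk]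
  rw [add_assoc, add_assoc]
  congr 1
  have hlen : (D.chainEntry r s).length ≤ 3 := by
    by_cases h : D.chainEntry r s = []
    · simp [h]
    · exact (entry_info C hr h).2.2.2.1
  rcases hl : D.chainEntry r s with _ | ⟨a, _ | ⟨b, _ | ⟨c, _ | ⟨d, l⟩⟩⟩⟩
  case cons.cons.cons.cons => simp [hl] at hlen; omega
  all_goals simp [smul_smul, mul_comm (t ^ 2), mul_comm (t ^ 3), mul_comm t]
  all_goals abel

theorem chainComm_commute {r s : ℕ} (hr : r < D.nroots) (hs : s < D.nroots) (h : ChainComm D r s) {a b : ℕ}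
    (ha : a ∈ s :: (D.chainEntry r s).map Prod.fst) (hb : b ∈ s :: (D.chainEntry r s).map Prod.fst) :
    Commute (castM K (xm D 1 a)) (castM K (xm D 1 b)) := by
  have hlt : ∀ c ∈ s :: (D.chainEntry r s).map Prod.fst, c < D.nroots := by
    intro c hc
    rcases List.mem_cons.1 hc with rfl | hc
    · exact hs
    · obtain ⟨q, hq, rfl⟩ := List.mem_map.1 hc
      exact ((entry_info C hr (List.ne_nil_of_mem hq)).2.2.2.2 q hq).1
  rcases h a ha b hb with rfl | ⟨hne, hnone⟩
  · exact Commute.refl _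
  · by_cases hab : a = b
    · subst hab; exact Commute.refl _
    have := brk C (hlt a ha) (evec D b)
    rw [BrkV, adI_evec (hlt b hb), xm_other 1 (hlt b hb) (Ne.symm hab) hne] at this
    rw [hdN_eq C] at hnone
    rw [show (1 - 1 : ℕ) = 0 from rfl, hnone] at this
    simp only [adI_eq, map_zero, sub_eq_zero] at this
    show _ * _ = _ * _
    rw [← castM_mul, ← castM_mul, this]

theorem commR_eq (r s : ℕ) (t u : K) (h : D.commTerms r s = linTerms D r s) :
    commR D K r s t u =
      (D.chainEntry r s).zipIdx.map fun q => (q.1.1, (q.1.2 : K) * (-t) ^ (q.2 + 1) * u) := by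
  rw [commR, h, linTerms, List.map_map]
  exact List.map_congr_left fun q _ => by simp

/-- linear case, in the form `x_r(-t) x_s(u) = x_s(u) W x_r(-t)` -/
theorem caseA_conj {r s : ℕ} (hr : r < D.nroots) (hs : s < D.nroots) (h1 : s ≠ r) (h2 : s ≠ D.neg r)
    (hA : CaseA D r s) (t u : K) :
    xR D K r (-t) * xR D K s u = xR D K s u * wordR D K (commR D K r s t u) * xR D K r (-t) := by
  obtain ⟨hT, hC⟩ := hA
  have hent : ∀ q ∈ D.chainEntry r s, q.1 < D.nroots := fun q hq =>
    ((entry_info C hr (List.ne_nil_of_mem hq)).2.2.2.2 q hq).1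
  let terms : List (ℕ × K) :=
    (s, u) :: (D.chainEntry r s).zipIdx.map fun q => (q.1.1, (q.1.2 : K) * (-t) ^ (q.2 + 1) * u)
  have hmem : ∀ p ∈ terms, p.1 ∈ s :: (D.chainEntry r s).map Prod.fst ∧ p.1 < D.nroots := by
    intro p hp
    rcases List.mem_cons.1 hp with rfl | hp
    · exact ⟨List.mem_cons_self .., hs⟩
    · obtain ⟨q, hq, rfl⟩ := List.mem_map.1 hp
      have := List.mem_zipIdx hq
      have hmem : q.1 ∈ D.chainEntry r s := by
        rw [this.2.2]; exact List.getElem_mem _
      exact ⟨List.mem_cons_of_mem _ (List.mem_map_of_mem hmem), hent _ hmem⟩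
  have hlist := exp_list (terms.map fun p => p.2 • castM K (xm D 1 p.1))
    (fun x hx => by obtain ⟨p, hp, rfl⟩ := List.mem_map.1 hx; exact nilp C (hmem p hp).2 _)
    (fun x hx y hy => by
      obtain ⟨p, hp, rfl⟩ := List.mem_map.1 hx
      obtain ⟨q, hq, rfl⟩ := List.mem_map.1 hy
      exact ((chainComm_commute C hr hs hC (hmem p hp).1 (hmem q hq).1).smul_left _).smul_right _)
  have hsum : (terms.map fun p => p.2 • castM K (xm D 1 p.1)).sum =
      adK D K (u • (xR D K r (-t) *ᵥ eK D K s)) := by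
    rw [xR_eK C hr hs h1 h2, smul_add, map_add, List.smul_sum, map_list_sum, map_smul, adK_eK C hs]
    simp only [terms, List.map_cons, List.sum_cons, List.map_map]
    congr 2
    apply List.map_congr_left
    intro q hq
    have hk : q.1.1 < D.nroots := hent _ (by rw [(List.mem_zipIdx hq).2.2]; exact List.getElem_mem _)
    simp only [Function.comp, smul_smul, map_smul, adK_eK C hk]
    congr 1
    ring
  have hW : ((terms.map fun p => p.2 • castM K (xm D 1 p.1)).map IsNilpotent.exp).prod =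
      xR D K s u * wordR D K (commR D K r s t u) := by
    rw [commR_eq C r s t u hT, wordR, List.map_map]
    simp only [terms, List.map_cons, List.prod_cons, Function.comp, exp_eq C hs]
    congr 2
    simp only [List.map_map]
    apply List.map_congr_left
    intro q hq
    simp only [Function.comp]
    exact exp_eq C (hent _ (by rw [(List.mem_zipIdx hq).2.2]; exact List.getElem_mem _)) _
  rw [← hW, ← hlist.2, ← exp_eq C hs u]
  refine semiconj_exp ?_ (nilp C hs u) hlist.1
  rw [hsum, ← adK_eK C hs, mul_smul_comm, conj_ad C hr, map_smul, smul_mul_assoc]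

theorem caseA_comm {r s : ℕ} (hr : r < D.nroots) (hs : s < D.nroots) (h1 : s ≠ r) (h2 : s ≠ D.neg r)
    (hA : CaseA D r s) (t u : K) :
    xR D K s u * xR D K r t = xR D K r t * xR D K s u * wordR D K (commR D K r s t u) := by
  have h := caseA_conj C hr hs h1 h2 hA t u
  have e1 : xR D K r t * xR D K r (-t) = 1 := by rw [xR_add C hr, add_neg_cancel, xR_zero]
  have e2 : xR D K r (-t) * xR D K r t = 1 := xR_inv C hr t
  calc xR D K s u * xR D K r t
      = (xR D K r t * xR D K r (-t)) * xR D K s u * xR D K r t := by rw [e1, one_mul]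
    _ = xR D K r t * (xR D K r (-t) * xR D K s u) * xR D K r t := by simp only [mul_assoc]
    _ = xR D K r t * (xR D K s u * wordR D K (commR D K r s t u)) * (xR D K r (-t) * xR D K r t) := by
        rw [h]; simp only [mul_assoc]
    _ = _ := by rw [e2, mul_one, ← mul_assoc]

theorem caseB_comm {r s : ℕ} (hr : r < D.nroots) (hs : s < D.nroots) (h1 : s ≠ r) (h2 : s ≠ D.neg r)
    (hB : CaseB D r s) (t u : K) :
    xR D K s u * xR D K r t = xR D K r t * xR D K s u * wordR D K (commR D K r s t u) := by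
  obtain ⟨hA, k, m, c, c', e1, e2⟩ := hB
  have h1' : r ≠ D.neg s := fun h => h2 (by rw [h, neg_neg' C hs])
  have h := caseA_comm C hs hr (Ne.symm h1) h1' hA u t
  have hk : k < D.nroots := (commTerms_mem C hr hs (by rw [e1]; simp : (k, c, 1, 1) ∈ D.commTerms r s)).1
  have hm : m < D.nroots := (commTerms_mem C hr hs (by rw [e1]; simp : (m, c', 1, 2) ∈ D.commTerms r s)).1
  have hmem : ∀ p, (p, -c, 1, 1) ∈ D.commTerms s r ∨ (p, c', 2, 1) ∈ D.commTerms s r →
      p ∈ r :: (D.chainEntry s r).map Prod.fst := by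
    intro p hp
    rw [hA.1, linTerms] at hp
    rcases hp with hp | hp <;>
    · obtain ⟨q, hq, hq'⟩ := List.mem_map.1 hp
      simp only [Prod.mk.injEq] at hq'
      refine List.mem_cons_of_mem _ (List.mem_map.2 ⟨q.1, ?_, hq'.1⟩)
      rw [(List.mem_zipIdx hq).2.2]; exact List.getElem_mem _
  have hcomm : Commute (castM K (xm D 1 k)) (castM K (xm D 1 m)) :=
    chainComm_commute C hs hr hA.2 (hmem k (Or.inl (by rw [e2]; simp))) (hmem m (Or.inr (by rw [e2]; simp)))
  have hc : ∀ a b : K, xR D K k a * xR D K m b = xR D K m b * xR D K k a := by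
    intro a b
    rw [← exp_eq C hk, ← exp_eq C hm]
    exact semiconj_exp (((semiconj_exp ((hcomm.smul_left a).smul_right b).eq.symm (nilp C hk a) (nilp C hk a))).symm)
      (nilp C hm b) (nilp C hm b)
  simp only [commR, e1, e2, wordR, List.map_cons, List.map_nil, List.prod_cons, List.prod_nil, mul_one,
    Int.cast_neg, pow_one] at h ⊢
  rw [h]
  have hm' : (c' : K) * (-u) ^ 2 * t + (c' : K) * -t * u ^ 2 = 0 := by ring
  have hk' : -(c : K) * -u * t + (c : K) * -t * u = 0 := by ring
  have key : ∀ a b a' b' : K, a + a' = 0 → b + b' = 0 →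
      xR D K k a * xR D K m b * (xR D K k a' * xR D K m b') = 1 := by
    intro a b a' b' ha hb
    rw [show xR D K k a * xR D K m b * (xR D K k a' * xR D K m b') =
      xR D K k a * (xR D K m b * xR D K k a') * xR D K m b' by simp only [mul_assoc], ← hc,
      show xR D K k a * (xR D K k a' * xR D K m b) * xR D K m b' =
      (xR D K k a * xR D K k a') * (xR D K m b * xR D K m b') by simp only [mul_assoc],
      xR_add C hk, xR_add C hm, ha, hb, xR_zero, xR_zero, one_mul]
  rw [mul_assoc (xR D K s u * xR D K r t), key _ _ _ _ hk' hm', mul_one]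

/-- the commutator formula over a `ℚ`-algebra -/
theorem comm_formula {r s : ℕ} (hr : r < D.nroots) (hs : s < D.nroots) (h1 : s ≠ r) (h2 : s ≠ D.neg r)
    (hC : D.chainEntry r s = [] ∨ CaseA D r s ∨ CaseB D r s) (t u : K) :
    xR D K s u * xR D K r t = xR D K r t * xR D K s u * wordR D K (commR D K r s t u) := by
  rcases hC with h | h | h
  · refine caseA_comm C hr hs h1 h2 ⟨?_, ?_⟩ t u
    · have h' := antisym_entry C hr hs h
      simp [ChevalleyDatum.commTerms, ChevalleyDatum.chainRoot, ChevalleyDatum.chainM, linTerms, h, h']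
    · intro a ha b hb
      simp [h] at ha hb
      exact Or.inl (ha.trans hb.symm)
  · exact caseA_comm C hr hs h1 h2 h t u
  · exact caseB_comm C hr hs h1 h2 h t u

end Cfsg.Agent.ChevalleyExp
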