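import Cfsg.Agent.Lib.CoxeterTables
import Cfsg.Prelude.Def_ChevStructure
import Cfsg.Prelude.Def_ChevAutomorphisms

/-!
The Weyl group of a tabulated Chevalley datum as a Coxeter group acting on root indices:
linearity on coroots, inversion counts, the length generating function.
-/

set_option autoImplicit false

namespace Cfsg.Agent.ChevWeyl
open Cfsg.Lie Cfsg.Agent.CoxeterTables

variable (D : ChevalleyDatum)

/-- coefficient `i` of the coroot of `r` -/
def cor (r i : ℕ) : ℤ := (D.coroot.getD r #[]).getD i 0

/-- the coroot of `r` as a list -/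
def corRow (r : ℕ) : List ℤ := (D.coroot.toList.getD r #[]).toList

/-- the index of the negative root, by list lookup -/
def negL (r : ℕ) : ℕ := D.negIdx.toList.getD r 0

/-- a coroot row supported on the set `g` of nodes -/
def rowSupp (g : List ℕ) (row : List ℤ) : Bool :=
  row.zipIdx.all fun p => decide (p.2 ∈ g ∨ p.1 = 0)

/-- the root `r` is supported on the set `g` of nodes -/
def suppIn (g : List ℕ) (r : ℕ) : Bool := rowSupp g (corRow D r)

/-- `reflectRoot` with the Cartan integer supplied -/
def reflWith (i : ℕ) (A : ℤ) (s : ℕ) : ℕ :=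
  if s = D.simple i then D.neg (D.simple i)
  else if s = D.neg (D.simple i) then D.simple i
  else if 0 < A then (D.chainRoot (D.neg (D.simple i)) s A.toNat).getD s
  else if A < 0 then (D.chainRoot (D.simple i) s (-A).toNat).getD s
  else s

/-- the Cartan integers at the fundamental root `p_i` -/
def cartanCol (i : ℕ) : List ℤ := (List.range D.rank).map fun k => D.cartan k (D.simple i)

/-- `2(r, p_i)/(r, r)` from the coroot row -/
def rowPairing (row : List ℤ) (i : ℕ) : ℤ := (List.zipWith (· * ·) row (cartanCol D i)).sum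

/-- checks on the packed permutations against the reflections -/
def reflOK (P : List ℕ) : Bool :=
  (List.range D.rank).all fun i =>
    decide ((D.cartanSR.getD i #[]).size = D.nroots) &&
    (D.cartanSR.getD i #[]).toList.zipIdx.all fun p => decide (reflWith D i p.1 p.2 = act P i p.2)

/-- basic checks on one root with coroot row `row` -/
def rootOK (P : List ℕ) (row : List ℤ) (r : ℕ) : Bool :=
  decide (negL D r < D.nroots) && decide (negL D (negL D r) = r) &&
  decide ((∀ c ∈ row, (0 : ℤ) ≤ c) ↔ D.nroots / 2 ≤ r) &&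
  decide ((∀ c ∈ row, c ≤ (0 : ℤ)) ↔ r < D.nroots / 2) &&
  decide (row.length = D.rank) &&
  decide (corRow D (negL D r) = row.map fun c => -c) &&
  (List.range D.rank).all fun i =>
    decide (act P i r < D.nroots) &&
    decide (act P i (negL D r) = negL D (act P i r)) &&
    decide (D.nroots / 2 ≤ r → r ≠ D.simple i → D.nroots / 2 ≤ act P i r) &&
    decide (corRow D (act P i r) = row.set i (row.getD i 0 - rowPairing D row i))

/-- basic checks of the datum -/
def combOK (P : List ℕ) : Bool :=
  decide (D.coroot.size = D.nroots) && reflOK D P &&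
  D.coroot.toList.zipIdx.all (fun p => rootOK D P p.1.toList p.2) &&
  (List.range D.rank).all fun i =>
    decide (D.simple i < D.nroots) && decide (D.nroots / 2 ≤ D.simple i) &&
    decide (act P i (D.simple i) = negL D (D.simple i)) &&
    decide (corRow D (D.simple i) = (List.range D.rank).map fun j => if j = i then 1 else 0)

/-- checks of one coset table relative to lengths -/
def lenOK (P : List ℕ) (L : Level) : Bool :=
  L.gens.all (fun s => decide (s < D.rank)) && L.sub.all (fun s => decide (s ∈ L.gens)) &&
  D.coroot.toList.zipIdx.all (fun p => decide ((L.setAt 0).testBit p.2 = true ↔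
    (D.nroots / 2 ≤ p.2 ∧ rowSupp L.gens p.1.toList = true ∧ rowSupp L.sub p.1.toList = false))) &&
  (List.range L.size).all fun v =>
    decide (((List.range D.nroots).filter
      fun r => (L.setAt v).testBit r && decide (r < D.nroots / 2)).length = (L.word v).length) &&
    L.sub.all fun k => decide (D.nroots / 2 ≤ actWord P (L.word v) (D.simple k))

/-- all checks on the chain -/
def chainLenOK (P : List ℕ) (Ls : List Level) : Bool := Ls.all (lenOK D P)

/-- the hypotheses on a datum -/
structure Weyl where
  C : CoxeterMatrix (Fin D.rank)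
  P : List ℕ
  chain : List Level
  hact : actOK C P D.nroots = true
  hchain : chainOK (natMatrix C) P D.nroots (List.range D.rank) chain = true
  hcomb : combOK D P = true
  hlen : chainLenOK D P chain = true

namespace Weyl

variable {D} (X : Weyl D)
include X

/-- the Weyl group -/
abbrev W : Type := X.C.Group

omit X in
lemma zipIdx_mem {α : Type*} {l : List α} {n : ℕ} (h : n < l.length) : (l[n], n) ∈ l.zipIdx := by
  rw [List.mk_mem_zipIdx_iff_getElem?, List.getElem?_eq_getElem h]

omit X in
lemma getD_toList {α : Type*} (a : Array α) (n : ℕ) (d : α) (h : n < a.size) :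
    a.getD n d = a.toList[n]'(by simpa using h) := by
  simp [Array.getD, h]

lemma coroot_mem {r : ℕ} (hr : r < D.nroots) :
    (D.coroot.getD r #[], r) ∈ D.coroot.toList.zipIdx := by
  have h := X.hcomb
  simp only [combOK, Bool.and_eq_true, decide_eq_true_eq] at h
  have hlt : r < D.coroot.size := by omega
  have : D.coroot.getD r #[] = D.coroot.toList[r]'(by simpa using hlt) := by
    simp [Array.getD, hlt]
  rw [this]
  exact zipIdx_mem _

omit X in
lemma cor_eq (s j : ℕ) : cor D s j = (corRow D s).getD j 0 := by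
  unfold cor corRow
  have hx : D.coroot.toList.getD s #[] = D.coroot.getD s #[] := by
    simp only [Array.getD, List.getD_eq_getElem?_getD]
    split <;> simp_all
  rw [hx]
  generalize D.coroot.getD s #[] = x
  simp only [Array.getD, List.getD_eq_getElem?_getD]
  split <;> simp_all

omit X in
lemma corRow_eq (s : ℕ) : corRow D s = (D.coroot.getD s #[]).toList := by
  unfold corRow
  simp only [Array.getD, List.getD_eq_getElem?_getD]
  split <;> simp_all

omit X in
lemma negL_eq (s : ℕ) : negL D s = D.neg s := by
  unfold negL ChevalleyDatum.neg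
  simp only [Array.getD, List.getD_eq_getElem?_getD]
  split <;> simp_all

lemma root_raw {r : ℕ} (hr : r < D.nroots) : rootOK D X.P (corRow D r) r = true := by
  have h := X.hcomb
  simp only [combOK, negL_eq, Bool.and_eq_true, List.all_eq_true] at h
  rw [corRow_eq]
  exact h.1.2 _ (X.coroot_mem hr)

lemma pos_iff_le {r : ℕ} (hr : r < D.nroots) : D.IsPosRoot r ↔ D.nroots / 2 ≤ r := by
  have h := X.root_raw hr
  simp only [rootOK, negL_eq, Bool.and_eq_true, decide_eq_true_eq] at h
  rw [← h.1.1.1.1.2, corRow_eq]
  exact ⟨fun h => h.2, fun h => ⟨hr, h⟩⟩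

lemma neg_iff_lt {r : ℕ} (hr : r < D.nroots) : D.IsNegRoot r ↔ r < D.nroots / 2 := by
  have h := X.root_raw hr
  simp only [rootOK, negL_eq, Bool.and_eq_true, decide_eq_true_eq] at h
  rw [← h.1.1.1.2, corRow_eq]
  exact ⟨fun h => h.2, fun h => ⟨hr, h⟩⟩

lemma reflect_eq_act {r i : ℕ} (hr : r < D.nroots) (hi : i < D.rank) :
    D.reflectRoot i r = act X.P i r := by
  have h := X.hcomb
  simp only [combOK, reflOK, Bool.and_eq_true, List.all_eq_true, List.mem_range,
    decide_eq_true_eq] at h
  obtain ⟨hs, hall⟩ := h.1.1.2 i hi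
  have hlt : r < (D.cartanSR.getD i #[]).size := by omega
  have hc : D.cartan i r = (D.cartanSR.getD i #[]).toList[r]'(by simpa using hlt) := by
    exact getD_toList _ _ _ hlt
  have := hall _ (zipIdx_mem (l := (D.cartanSR.getD i #[]).toList) (by simpa using hlt))
  simp only at this
  rw [← hc] at this
  exact this

lemma simple_lt {i : ℕ} (hi : i < D.rank) : D.simple i < D.nroots := by
  have h := X.hcomb
  simp only [combOK, negL_eq, Bool.and_eq_true, List.all_eq_true, List.mem_range, decide_eq_true_eq] at h
  exact (h.2 i hi).1.1.1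

lemma simple_pos {i : ℕ} (hi : i < D.rank) : D.IsPosRoot (D.simple i) := by
  have h := X.hcomb
  simp only [combOK, negL_eq, Bool.and_eq_true, List.all_eq_true, List.mem_range, decide_eq_true_eq] at h
  exact (X.pos_iff_le (X.simple_lt hi)).mpr (h.2 i hi).1.1.2

lemma reflect_simple {i : ℕ} (hi : i < D.rank) :
    D.reflectRoot i (D.simple i) = D.neg (D.simple i) := by
  have h := X.hcomb
  simp only [combOK, negL_eq, Bool.and_eq_true, List.all_eq_true, List.mem_range, decide_eq_true_eq] at h
  rw [X.reflect_eq_act (X.simple_lt hi) hi]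
  exact (h.2 i hi).1.2

lemma cor_simple {i j : ℕ} (hi : i < D.rank) (hj : j < D.rank) :
    cor D (D.simple i) j = if j = i then 1 else 0 := by
  have h := X.hcomb
  simp only [combOK, negL_eq, Bool.and_eq_true, List.all_eq_true, List.mem_range, decide_eq_true_eq] at h
  rw [cor_eq, (h.2 i hi).2, List.getD_eq_getElem _ _ (by simpa using hj)]
  simp

lemma root_facts {r : ℕ} (hr : r < D.nroots) :
    D.neg r < D.nroots ∧ D.neg (D.neg r) = r ∧ (D.IsPosRoot r ↔ ¬ D.IsNegRoot r) ∧
      (D.coroot.getD r #[]).size = D.rank := by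
  have h := X.root_raw hr
  simp only [rootOK, negL_eq, Bool.and_eq_true, decide_eq_true_eq] at h
  obtain ⟨⟨⟨⟨⟨⟨a, b⟩, -⟩, -⟩, e⟩, -⟩, -⟩ := h
  refine ⟨a, b, by rw [X.pos_iff_le hr, X.neg_iff_lt hr]; omega, ?_⟩
  simpa [corRow_eq] using e

lemma rowPairing_eq {r i : ℕ} (hr : r < D.nroots) :
    rowPairing D (corRow D r) i = D.pairing r (D.simple i) := by
  have hl : (corRow D r).length = D.rank := by
    simpa [corRow_eq] using (X.root_facts hr).2.2.2
  have hrow : corRow D r = (List.range D.rank).map fun k => cor D r k := by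
    refine List.ext_getElem (by simp [hl]) fun k h1 h2 => ?_
    rw [List.getElem_map, List.getElem_range, cor_eq, List.getD_eq_getElem _ _ h1]
  unfold rowPairing cartanCol ChevalleyDatum.pairing
  rw [hrow, List.zipWith_map, List.zipWith_self]
  rfl

lemma root_facts' {r i : ℕ} (hr : r < D.nroots) (hi : i < D.rank) :
    cor D (D.neg r) i = - cor D r i ∧ act X.P i r = D.reflectRoot i r ∧
      D.reflectRoot i r < D.nroots ∧
      D.reflectRoot i (D.neg r) = D.neg (D.reflectRoot i r) ∧
      (D.IsPosRoot r → r ≠ D.simple i → D.IsPosRoot (D.reflectRoot i r)) ∧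
      ∀ j < D.rank, cor D (D.reflectRoot i r) j =
        cor D r j - if j = i then D.pairing r (D.simple i) else 0 := by
  have h := X.root_raw hr
  simp only [rootOK, negL_eq, Bool.and_eq_true, List.all_eq_true, List.mem_range, decide_eq_true_eq] at h
  obtain ⟨⟨⟨-, e⟩, f⟩, g⟩ := h
  obtain ⟨⟨⟨g2, g3⟩, g4⟩, g5⟩ := g i hi
  have g1 := X.reflect_eq_act hr hi
  have a := (X.root_facts hr).1
  refine ⟨?_, g1.symm, g1 ▸ g2, ?_, ?_, ?_⟩
  · rw [cor_eq, cor_eq, f, List.getD_eq_getElem _ _ (by simpa [e] using hi),
      List.getD_eq_getElem _ _ (by simpa [e] using hi), List.getElem_map]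
  · rw [g1, X.reflect_eq_act a hi, g3]
  · intro hp hne
    rw [g1, X.pos_iff_le g2]
    exact g4 ((X.pos_iff_le hr).mp hp) hne
  · intro j hj
    rw [g1, cor_eq, g5, X.rowPairing_eq hr, List.getD_eq_getElem _ _ (by simpa [e] using hj),
      List.getElem_set]
    by_cases hji : j = i
    · subst hji; simp [cor_eq]
    · rw [if_neg (Ne.symm hji), if_neg hji, sub_zero, cor_eq r j,
        List.getD_eq_getElem (corRow D r) 0 (show j < _ by rw [e]; exact hj)]

lemma pos_iff {r : ℕ} (hr : r < D.nroots) : D.IsPosRoot r ↔ ∀ j < D.rank, 0 ≤ cor D r j := by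
  have hs := (X.root_facts hr).2.2.2
  unfold cor ChevalleyDatum.IsPosRoot
  generalize D.coroot.getD r #[] = a at *
  constructor
  · intro h j hj
    apply h.2
    have hlt : j < a.size := by omega
    simp [Array.getD, hlt]
  · intro h
    refine ⟨hr, fun c hc => ?_⟩
    obtain ⟨j, hj, rfl⟩ := List.getElem_of_mem hc
    rw [Array.length_toList] at hj
    have := h j (by omega)
    simpa [Array.getD, hj] using this

lemma neg_iff {r : ℕ} (hr : r < D.nroots) : D.IsNegRoot r ↔ ∀ j < D.rank, cor D r j ≤ 0 := by
  have hs := (X.root_facts hr).2.2.2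
  unfold cor ChevalleyDatum.IsNegRoot
  generalize D.coroot.getD r #[] = a at *
  constructor
  · intro h j hj
    apply h.2
    have hlt : j < a.size := by omega
    simp [Array.getD, hlt]
  · intro h
    refine ⟨hr, fun c hc => ?_⟩
    obtain ⟨j, hj, rfl⟩ := List.getElem_of_mem hc
    rw [Array.length_toList] at hj
    have := h j (by omega)
    simpa [Array.getD, hj] using this

lemma pos_neg_iff {r : ℕ} (hr : r < D.nroots) : D.IsPosRoot (D.neg r) ↔ D.IsNegRoot r := by
  rw [X.pos_iff (X.root_facts hr).1, X.neg_iff hr]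
  refine forall₂_congr fun j hj => ?_
  rw [(X.root_facts' hr hj).1]
  omega

/-- the action on root indices -/
noncomputable def ρ : X.W →* Equiv.Perm (Fin D.nroots) :=
  Classical.choose (coxeter_sound X.C X.hact X.hchain).2

lemma ρ_injective : Function.Injective X.ρ :=
  (Classical.choose_spec (coxeter_sound X.C X.hact X.hchain).2).1

lemma ρ_simple_act (i : Fin D.rank) (r : Fin D.nroots) :
    (X.ρ (X.C.simple i) r : ℕ) = act X.P i r :=
  (Classical.choose_spec (coxeter_sound X.C X.hact X.hchain).2).2 i r

lemma ρ_simple (i : Fin D.rank) (r : Fin D.nroots) :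
    (X.ρ (X.C.simple i) r : ℕ) = D.reflectRoot i r := by
  rw [X.ρ_simple_act, (X.root_facts' r.isLt i.isLt).2.1]

/-- the root moved to by `w` -/
noncomputable def img (w : X.W) (r : ℕ) : ℕ :=
  if h : r < D.nroots then (X.ρ w ⟨r, h⟩).val else r

lemma img_lt (w : X.W) {r : ℕ} (hr : r < D.nroots) : X.img w r < D.nroots := by
  rw [img, dif_pos hr]; exact Fin.isLt _

@[simp] lemma img_one (r : ℕ) : X.img 1 r = r := by
  unfold img; split <;> simp

lemma img_mul (v w : X.W) (r : ℕ) : X.img (v * w) r = X.img v (X.img w r) := by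
  unfold img
  by_cases hr : r < D.nroots
  · simp only [dif_pos hr, Fin.is_lt, dif_pos, map_mul, Equiv.Perm.mul_apply, Fin.eta]
  · simp only [dif_neg hr]

lemma img_simple (i : Fin D.rank) {r : ℕ} (hr : r < D.nroots) :
    X.img (X.C.simple i) r = D.reflectRoot i r := by
  rw [img, dif_pos hr, X.ρ_simple]

lemma img_injective (w : X.W) {r s : ℕ} (h : X.img w r = X.img w s) : r = s := by
  have := congrArg (X.img w⁻¹) h
  rwa [← X.img_mul, ← X.img_mul, inv_mul_cancel, X.img_one, X.img_one] at this

lemma img_inv_img (w : X.W) (r : ℕ) : X.img w⁻¹ (X.img w r) = r := by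
  rw [← X.img_mul, inv_mul_cancel, X.img_one]

lemma img_img_inv (w : X.W) (r : ℕ) : X.img w (X.img w⁻¹ r) = r := by
  rw [← X.img_mul, mul_inv_cancel, X.img_one]

lemma w_induction {p : X.W → Prop} (one : p 1)
    (step : ∀ (i : Fin D.rank) (w : X.W), p w → p (X.C.simple i * w)) (w : X.W) : p w := by
  refine X.C.toCoxeterSystem.simple_induction_left (p := p) w one (fun w i hw => ?_)
  exact step i w hw

lemma img_neg (w : X.W) : ∀ {r : ℕ}, r < D.nroots → X.img w (D.neg r) = D.neg (X.img w r) := by
  induction w using X.w_induction with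
  | one => intro r _; simp
  | step i w ih =>
    intro r hr
    rw [X.img_mul, X.img_mul, ih hr, X.img_simple i (X.root_facts (X.img_lt w hr)).1,
      X.img_simple i (X.img_lt w hr), (X.root_facts' (X.img_lt w hr) i.isLt).2.2.2.1]

omit X in
lemma pairing_eq_sum (r s : ℕ) :
    D.pairing r s = ∑ k ∈ Finset.range D.rank, cor D r k * D.cartan k s := by
  unfold ChevalleyDatum.pairing cor
  rw [Finset.sum_range, Fin.sum_univ_def, ← List.map_coe_finRange_eq_range, List.map_map]
  rfl

lemma cor_img (w : X.W) : ∀ {r : ℕ}, r < D.nroots → ∀ j < D.rank,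
    cor D (X.img w r) j =
      ∑ k ∈ Finset.range D.rank, cor D r k * cor D (X.img w (D.simple k)) j := by
  induction w using X.w_induction with
  | one =>
    intro r _ j hj
    rw [Finset.sum_eq_single j]
    · simp [X.cor_simple hj hj]
    · intro k hk hkj
      simp [X.cor_simple (Finset.mem_range.mp hk) hj, Ne.symm hkj]
    · intro h; exact absurd (Finset.mem_range.mpr hj) h
  | step i w ih =>
    intro r hr j hj
    rw [X.img_mul, X.img_simple i (X.img_lt w hr),
      (X.root_facts' (X.img_lt w hr) i.isLt).2.2.2.2.2 j hj]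
    have hstep : ∀ k ∈ Finset.range D.rank, cor D (X.img (X.C.simple i * w) (D.simple k)) j =
        cor D (X.img w (D.simple k)) j -
          if j = i.val then D.pairing (X.img w (D.simple k)) (D.simple i) else 0 := by
      intro k hk
      have hk' := X.simple_lt (Finset.mem_range.mp hk)
      rw [X.img_mul, X.img_simple i (X.img_lt w hk'),
        (X.root_facts' (X.img_lt w hk') i.isLt).2.2.2.2.2 j hj]
    rw [Finset.sum_congr rfl (fun k hk => by rw [hstep k hk]), ih hr j hj]
    simp only [mul_sub, Finset.sum_sub_distrib]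
    congr 1
    split
    · rw [pairing_eq_sum]
      simp only [pairing_eq_sum, Finset.mul_sum]
      rw [Finset.sum_comm]
      refine Finset.sum_congr rfl fun l hl => ?_
      rw [ih hr l (Finset.mem_range.mp hl), Finset.sum_mul]
      exact Finset.sum_congr rfl fun k _ => by ring
    · simp

lemma pos_img_of_simples (w : X.W) {r : ℕ} (hr : D.IsPosRoot r)
    (h : ∀ k < D.rank, cor D r k ≠ 0 → D.IsPosRoot (X.img w (D.simple k))) :
    D.IsPosRoot (X.img w r) := by
  rw [X.pos_iff (X.img_lt w hr.1)]
  intro j hj
  rw [X.cor_img w hr.1 j hj]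
  refine Finset.sum_nonneg fun k hk => ?_
  have hk := Finset.mem_range.mp hk
  by_cases h0 : cor D r k = 0
  · simp [h0]
  · exact mul_nonneg ((X.pos_iff hr.1).mp hr k hk) ((X.pos_iff (h k hk h0).1).mp (h k hk h0) j hj)

/-- the positive roots made negative by `w` -/
noncomputable def invSet (w : X.W) : Finset ℕ :=
  (Finset.range D.nroots).filter fun r => D.IsPosRoot r ∧ D.IsNegRoot (X.img w r)

/-- the number of positive roots made negative by `w` -/
noncomputable def inv (w : X.W) : ℕ := (X.invSet w).card

lemma mem_invSet {w : X.W} {r : ℕ} :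
    r ∈ X.invSet w ↔ D.IsPosRoot r ∧ D.IsNegRoot (X.img w r) := by
  simp only [invSet, Finset.mem_filter, Finset.mem_range]
  exact ⟨fun h => h.2, fun h => ⟨h.1.1, h⟩⟩

lemma not_pos_and_neg {r : ℕ} (h : D.IsPosRoot r) : ¬ D.IsNegRoot r :=
  ((X.root_facts h.1).2.2.1).mp h

lemma pos_or_neg {r : ℕ} (h : r < D.nroots) : D.IsPosRoot r ∨ D.IsNegRoot r := by
  by_cases hn : D.IsNegRoot r
  · exact Or.inr hn
  · exact Or.inl (((X.root_facts h).2.2.1).mpr hn)

lemma neg_reflect {i : ℕ} (hi : i < D.rank) {r : ℕ} (hr : r < D.nroots) :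
    D.IsNegRoot (D.reflectRoot i r) ↔
      ((D.IsNegRoot r ∧ r ≠ D.neg (D.simple i)) ∨ r = D.simple i) := by
  have hp := X.simple_pos hi
  constructor
  · intro h
    by_cases h1 : r = D.simple i
    · exact Or.inr h1
    refine Or.inl ⟨?_, ?_⟩
    · rcases X.pos_or_neg hr with h2 | h2
      · exact absurd h (X.not_pos_and_neg ((X.root_facts' hr hi).2.2.2.2.1 h2 h1))
      · exact h2
    · intro h2
      rw [h2, (X.root_facts' hp.1 hi).2.2.2.1, X.reflect_simple hi,
        (X.root_facts hp.1).2.1] at h
      exact X.not_pos_and_neg hp h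
  · rintro (⟨h1, h2⟩ | rfl)
    · have hpos : D.IsPosRoot (D.neg r) := (X.pos_neg_iff hr).mpr h1
      have hne : D.neg r ≠ D.simple i := fun h => h2 (by rw [← h, (X.root_facts hr).2.1])
      have := (X.root_facts' hpos.1 hi).2.2.2.2.1 hpos hne
      rw [(X.root_facts' hr hi).2.2.2.1] at this
      exact (X.pos_neg_iff (X.root_facts' hr hi).2.2.1).mp this
    · rw [X.reflect_simple hi, ← X.pos_neg_iff (X.root_facts hp.1).1, (X.root_facts hp.1).2.1]
      exact hp

lemma inv_simple_mul_of_pos (i : Fin D.rank) {w : X.W}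
    (h : D.IsPosRoot (X.img w⁻¹ (D.simple i))) :
    X.inv (X.C.simple i * w) = X.inv w + 1 := by
  have hset : X.invSet (X.C.simple i * w) = insert (X.img w⁻¹ (D.simple i)) (X.invSet w) := by
    ext r
    rw [Finset.mem_insert, mem_invSet, mem_invSet]
    constructor
    · rintro ⟨h1, h2⟩
      rw [X.img_mul, X.img_simple i (X.img_lt w h1.1), X.neg_reflect i.isLt (X.img_lt w h1.1)] at h2
      rcases h2 with h2 | h2
      · exact Or.inr ⟨h1, h2.1⟩
      · exact Or.inl (by rw [← h2, X.img_inv_img])
    · rintro (rfl | ⟨h1, h2⟩)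
      · refine ⟨h, ?_⟩
        rw [X.img_mul, X.img_img_inv, X.img_simple i (X.simple_lt i.isLt),
          X.neg_reflect i.isLt (X.simple_lt i.isLt)]
        exact Or.inr rfl
      · refine ⟨h1, ?_⟩
        rw [X.img_mul, X.img_simple i (X.img_lt w h1.1), X.neg_reflect i.isLt (X.img_lt w h1.1)]
        refine Or.inl ⟨h2, fun he => ?_⟩
        have : X.img w⁻¹ (D.neg (D.simple i)) = r := by rw [← he, X.img_inv_img]
        rw [X.img_neg w⁻¹ (X.simple_lt i.isLt)] at this
        exact X.not_pos_and_neg h ((X.pos_neg_iff h.1).mp (this ▸ h1))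
  rw [inv, hset, Finset.card_insert_of_notMem, inv]
  rw [mem_invSet, X.img_img_inv]
  exact fun hh => X.not_pos_and_neg (X.simple_pos i.isLt) hh.2

lemma inv_simple_mul_of_neg (i : Fin D.rank) {w : X.W}
    (h : D.IsNegRoot (X.img w⁻¹ (D.simple i))) :
    X.inv (X.C.simple i * w) + 1 = X.inv w := by
  have hs : X.C.simple i * X.C.simple i = 1 := X.C.toCoxeterSystem.simple_mul_simple_self i
  have hpos : D.IsPosRoot (X.img (X.C.simple i * w)⁻¹ (D.simple i)) := by
    rw [mul_inv_rev, X.img_mul, inv_eq_of_mul_eq_one_right hs,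
      X.img_simple i (X.simple_lt i.isLt), X.reflect_simple i.isLt,
      X.img_neg _ (X.simple_lt i.isLt), X.pos_neg_iff h.1]
    exact h
  have := X.inv_simple_mul_of_pos i hpos
  rw [← mul_assoc, hs, one_mul] at this
  exact this.symm

/-- the subgroup generated by the simple reflections listed in `g` -/
abbrev par (g : List ℕ) : Subgroup X.W := gSub (gen X.C) g

lemma suppIn_iff {g : List ℕ} {r : ℕ} (hr : r < D.nroots) :
    suppIn D g r = true ↔ ∀ j < D.rank, j ∉ g → cor D r j = 0 := by
  have hl : (corRow D r).length = D.rank := by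
    simpa [corRow_eq] using (X.root_facts hr).2.2.2
  simp only [suppIn, rowSupp, List.all_eq_true, decide_eq_true_eq]
  constructor
  · intro h j hj hjg
    rw [cor_eq, List.getD_eq_getElem _ _ (by omega)]
    exact (h _ (zipIdx_mem (l := corRow D r) (n := j) (by omega))).resolve_left hjg
  · rintro h ⟨c, j⟩ hcj
    rw [List.mk_mem_zipIdx_iff_getElem?] at hcj
    obtain ⟨hj, rfl⟩ := List.getElem?_eq_some_iff.mp hcj
    by_cases hjg : j ∈ g
    · exact Or.inl hjg
    · right
      have := h j (by omega) hjg
      rwa [cor_eq, List.getD_eq_getElem _ _ hj] at this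

lemma cor_par_outside {g : List ℕ} (hg : ∀ s ∈ g, s < D.rank) {x : X.W} (hx : x ∈ X.par g) :
    ∀ {r : ℕ}, r < D.nroots → ∀ j < D.rank, j ∉ g → cor D (X.img x r) j = cor D r j := by
  refine Subgroup.closure_induction_left
    (p := fun y _ => ∀ {r : ℕ}, r < D.nroots → ∀ j < D.rank, j ∉ g →
      cor D (X.img y r) j = cor D r j) ?_ ?_ ?_ hx
  · intro r _ j _ _; simp
  · rintro _ ⟨s, hs, rfl⟩ y _ ih r hr j hj hjg
    have hgen : gen X.C s = X.C.simple ⟨s, hg s hs⟩ := by simp [gen, hg s hs]
    rw [X.img_mul, hgen, X.img_simple _ (X.img_lt y hr),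
      (X.root_facts' (X.img_lt y hr) (hg s hs)).2.2.2.2.2 j hj, ih hr j hj hjg,
      if_neg (fun h : j = s => hjg (by rw [h]; exact hs)), sub_zero]
  · rintro _ ⟨s, hs, rfl⟩ y _ ih r hr j hj hjg
    have hgen : gen X.C s = X.C.simple ⟨s, hg s hs⟩ := by simp [gen, hg s hs]
    have hinv : (X.C.simple ⟨s, hg s hs⟩)⁻¹ = X.C.simple ⟨s, hg s hs⟩ :=
      inv_eq_of_mul_eq_one_right (X.C.toCoxeterSystem.simple_mul_simple_self _)
    rw [hgen, hinv, X.img_mul, X.img_simple _ (X.img_lt y hr),
      (X.root_facts' (X.img_lt y hr) (hg s hs)).2.2.2.2.2 j hj, ih hr j hj hjg,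
      if_neg (fun h : j = s => hjg (by rw [h]; exact hs)), sub_zero]

lemma img_wprod (w : List ℕ) (hw : ∀ s ∈ w, s < D.rank) {r : ℕ} (hr : r < D.nroots) :
    X.img (wprod (gen X.C) w) r = actWord X.P w r := by
  induction w with
  | nil => simp [actWord]
  | cons s w ih =>
    have hs := hw s List.mem_cons_self
    have hgen : gen X.C s = X.C.simple ⟨s, hs⟩ := by simp [gen, hs]
    rw [wprod_cons, X.img_mul, actWord, hgen,
      ← ih (fun t ht => hw t (List.mem_cons_of_mem _ ht)),
      X.img_simple _ (X.img_lt _ hr), (X.root_facts' (X.img_lt _ hr) hs).2.1]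

lemma act_lt (s r : ℕ) (hr : r < D.nroots) : act X.P s r < D.nroots := by
  obtain ⟨hlt, -⟩ := exists_action X.C X.hact
  rcases hlt s r hr with h | h
  · exact h
  · have hlen : X.P.length = D.rank := by
      have hA := X.hact
      simp only [actOK, Bool.and_eq_true, decide_eq_true_eq] at hA
      exact hA.1
    rw [act, List.getD_eq_default _ _ (by omega)]
    simpa using (lt_of_le_of_lt (Nat.zero_le r) hr)

lemma word_letters {L : Level} (hT : tableOK (natMatrix X.C) L = true)
    (hS : setsOK X.P D.nroots L = true) :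
    ∀ v < L.size, ∀ s ∈ L.word v, s ∈ L.gens := by
  suffices h : ∀ m, ∀ v < L.size, (L.word v).length = m → ∀ s ∈ L.word v, s ∈ L.gens from
    fun v hv => h _ v hv rfl
  intro m
  induction m using Nat.strong_induction_on with
  | _ m ih =>
    intro v hv hm
    simp only [setsOK, Bool.and_eq_true, List.all_eq_true, List.mem_range] at hS
    simp only [tableOK, Bool.and_eq_true, List.all_eq_true, List.mem_range] at hT
    have h := hS.2 v hv
    cases hw : L.word v with
    | nil => simp
    | cons s w =>
      rw [hw] at h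
      simp only [Bool.and_eq_true, decide_eq_true_eq] at h
      obtain ⟨⟨hs, hc⟩, -⟩ := h
      have hall := hT.2 v hv s hs
      simp only [edgeOK, hc, Bool.and_eq_true, one_ne_zero, if_false, if_true,
        List.isEmpty_iff, decide_eq_true_eq] at hall
      have hw' := hall.2.2
      rw [hw] at hw'
      obtain ⟨-, rfl⟩ := List.cons_eq_cons.mp hw'
      intro t ht
      rcases List.mem_cons.mp ht with rfl | ht
      · exact hs
      · exact ih _ (by rw [← hm, hw]; simp) _ hall.1.1 rfl t ht

open Finset in
/-- length generating function along a checked chain -/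
theorem par_poincare : ∀ (g : List ℕ) (Ls : List Level),
    chainOK (natMatrix X.C) X.P D.nroots g Ls = true → chainLenOK D X.P Ls = true →
    (∀ s ∈ g, s < D.rank) →
    ∀ (q : ℕ) [Fintype ↥(X.par g)],
      ∑ x : ↥(X.par g), q ^ X.inv x =
        (Ls.map fun L => ∑ v ∈ range L.size, q ^ (L.word v).length).prod
  | g, [], h, _, _ => by
    intro q _
    simp only [chainOK, List.isEmpty_iff] at h
    subst h
    have hbot : X.par [] = ⊥ := by simp [par, gSub]
    have : Subsingleton ↥(X.par []) := by rw [hbot]; infer_instance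
    rw [Fintype.sum_subsingleton _ (⟨1, one_mem _⟩ : ↥(X.par []))]
    have h1 : X.inv 1 = 0 := by
      rw [inv, Finset.card_eq_zero, Finset.eq_empty_iff_forall_notMem]
      intro r hr
      rw [mem_invSet, X.img_one] at hr
      exact X.not_pos_and_neg hr.1 hr.2
    simp [h1]
  | g, L :: Ls, h, hl, hg => by
    intro q _
    simp only [chainOK, Bool.and_eq_true, decide_eq_true_eq] at h
    obtain ⟨⟨⟨rfl, hT⟩, hS⟩, hrest⟩ := h
    simp only [chainLenOK, List.all_cons, Bool.and_eq_true] at hl
    obtain ⟨hL, hLs⟩ := hl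
    simp only [lenOK, Bool.and_eq_true, List.all_eq_true, List.mem_range, decide_eq_true_eq] at hL
    obtain ⟨⟨⟨-, hsub⟩, hS0⟩, hv⟩ := hL
    have hgs : ∀ s ∈ L.sub, s < D.rank := fun s hs => hg s (hsub s hs)
    have hρact : ∀ s ∈ L.gens, ∀ r : Fin D.nroots,
        (X.ρ (gen X.C s) r).val = act X.P s r.val := by
      intro s hs r
      simp [gen, hg s hs, X.ρ_simple_act]
    have hKH : X.par L.sub ≤ X.par L.gens :=
      Subgroup.closure_mono (Set.image_mono fun k hk => hsub k hk)
    have hcover := level_cover (gen_rels X.C) hT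
    have hwm := level_words (gen_rels X.C) hT hS
    have hsets := level_sets (ρ := X.ρ) (gen_rels X.C) X.act_lt hρact hT hS
    have hlet := X.word_letters hT hS
    have hnd : L.sets.length = L.size ∧ L.sets.Nodup := by
      simp only [setsOK, Bool.and_eq_true, decide_eq_true_eq] at hS
      exact ⟨hS.1.1.1.1, hS.1.1.1.2⟩
    have : Finite ↥(X.par L.sub) :=
      Finite.of_injective (Subgroup.inclusion hKH) (Subgroup.inclusion_injective hKH)
    have := Fintype.ofFinite ↥(X.par L.sub)
    let F : Fin L.size × ↥(X.par L.sub) → ↥(X.par L.gens) :=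
      fun p => ⟨wprod (gen X.C) (L.word p.1) * p.2, mul_mem (hwm _ p.1.isLt) (hKH p.2.2)⟩
    -- membership in the separating set
    have hmem0 : ∀ r < D.nroots, ((L.setAt 0).testBit r = true ↔
        (D.IsPosRoot r ∧ suppIn D L.gens r = true ∧ suppIn D L.sub r = false)) := by
      intro r hr
      rw [X.pos_iff_le hr]
      rw [suppIn, suppIn, corRow_eq]
      exact hS0 _ (X.coroot_mem hr)
    -- elements of the smaller parabolic preserve support in `sub` and the separating set
    have hsupp : ∀ x ∈ X.par L.sub, ∀ r < D.nroots,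
        suppIn D L.sub r = true → suppIn D L.sub (X.img x r) = true := by
      intro x hx r hr h
      rw [X.suppIn_iff hr] at h
      rw [X.suppIn_iff (X.img_lt x hr)]
      intro j hj hjs
      rw [X.cor_par_outside hgs hx hr j hj hjs, h j hj hjs]
    have hset0 : ∀ x ∈ X.par L.sub, ∀ r < D.nroots, (L.setAt 0).testBit r = true →
        (L.setAt 0).testBit (X.img x r) = true := by
      intro x hx r hr h
      rw [hmem0 r hr] at h
      obtain ⟨h1, h2, h3⟩ := h
      have hj : ∃ j < D.rank, j ∉ L.sub ∧ cor D r j ≠ 0 := by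
        by_contra hc
        push Not at hc
        rw [(X.suppIn_iff hr).mpr hc] at h3
        exact Bool.noConfusion h3
      obtain ⟨j, hj, hjs, hne⟩ := hj
      have hcj := X.cor_par_outside hgs hx hr j hj hjs
      have hlt := X.img_lt x hr
      rw [hmem0 _ hlt]
      refine ⟨?_, ?_, ?_⟩
      · rcases X.pos_or_neg hlt with h | h
        · exact h
        · have := (X.neg_iff hlt).mp h j hj
          have := (X.pos_iff hr).mp h1 j hj
          omega
      · rw [X.suppIn_iff hr] at h2
        rw [X.suppIn_iff (X.img_lt x hr)]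
        intro k hk hkg
        rw [X.cor_par_outside hg (hKH hx) hr k hk hkg, h2 k hk hkg]
      · by_contra hc
        simp only [Bool.not_eq_false] at hc
        exact hne (hcj ▸ (X.suppIn_iff hlt).mp hc j hj hjs)
    have hvpos : ∀ v < L.size, ∀ r, D.IsPosRoot r → suppIn D L.sub r = true →
        D.IsPosRoot (X.img (wprod (gen X.C) (L.word v)) r) := by
      intro v hvlt r hr hs
      refine X.pos_img_of_simples _ hr fun k hk hne => ?_
      have hks : k ∈ L.sub := by
        by_contra hc
        exact hne ((X.suppIn_iff hr.1).mp hs k hk hc)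
      rw [X.img_wprod _ (fun s hs => hg s (hlet v hvlt s hs)) (X.simple_lt hk)]
      exact (X.pos_iff_le (by rw [← X.img_wprod _ (fun s hs => hg s (hlet v hvlt s hs)) (X.simple_lt hk)]; exact X.img_lt _ (X.simple_lt hk))).mpr ((hv v hvlt).2 k hks)
    have hvneg : ∀ v < L.size, ∀ r, D.IsNegRoot r → suppIn D L.sub r = true →
        D.IsNegRoot (X.img (wprod (gen X.C) (L.word v)) r) := by
      intro v hvlt r hr hs
      have hs' : suppIn D L.sub (D.neg r) = true := by
        rw [X.suppIn_iff hr.1] at hs
        rw [X.suppIn_iff (X.root_facts hr.1).1]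
        intro j hj hjs
        rw [(X.root_facts' hr.1 hj).1, hs j hj hjs, neg_zero]
      have := hvpos v hvlt _ ((X.pos_neg_iff hr.1).mpr hr) hs'
      rw [X.img_neg _ hr.1] at this
      exact (X.pos_neg_iff (X.img_lt _ hr.1)).mp this
    have hlength : ∀ (v : ℕ), v < L.size → ∀ x ∈ X.par L.sub,
        X.inv (wprod (gen X.C) (L.word v) * x) = (L.word v).length + X.inv x := by
      intro v hvlt x hx
      classical
      have hv1 := (hv v hvlt).1
      have hsplit : X.invSet (wprod (gen X.C) (L.word v) * x) =
          ((Finset.range D.nroots).filter fun r => (L.setAt 0).testBit r = true ∧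
            D.IsNegRoot (X.img (wprod (gen X.C) (L.word v) * x) r)) ∪ X.invSet x := by
        ext r
        simp only [Finset.mem_union, Finset.mem_filter, Finset.mem_range, mem_invSet]
        constructor
        · rintro ⟨h1, h2⟩
          by_cases h0 : (L.setAt 0).testBit r = true
          · exact Or.inl ⟨h1.1, h0, h2⟩
          · refine Or.inr ⟨h1, ?_⟩
            rcases X.pos_or_neg (X.img_lt x h1.1) with hp | hn
            · exfalso
              by_cases hsg : suppIn D L.gens r = true
              · have hss : suppIn D L.sub r = true := by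
                  by_contra hc
                  exact h0 ((hmem0 r h1.1).mpr ⟨h1, hsg, by simpa using hc⟩)
                have := hvpos v hvlt _ hp (hsupp x hx r h1.1 hss)
                rw [← X.img_mul] at this
                exact X.not_pos_and_neg this h2
              · -- outside the parabolic the coefficient is unchanged
                rw [X.suppIn_iff h1.1] at hsg
                push Not at hsg
                obtain ⟨j, hj, hjg, hne⟩ := hsg
                have hc := X.cor_par_outside hg (mul_mem (hwm v hvlt) (hKH hx)) h1.1 j hj hjg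
                have := (X.neg_iff h2.1).mp h2 j hj
                have := (X.pos_iff h1.1).mp h1 j hj
                omega
            · exact hn
        · rintro (⟨h1, h2, h3⟩ | ⟨h1, h2⟩)
          · exact ⟨((hmem0 r h1).mp h2).1, h3⟩
          · refine ⟨h1, ?_⟩
            have hss : suppIn D L.sub r = true := by
              rw [X.suppIn_iff h1.1]
              intro j hj hjs
              have hc := X.cor_par_outside hgs hx h1.1 j hj hjs
              have := (X.neg_iff h2.1).mp h2 j hj
              have := (X.pos_iff h1.1).mp h1 j hj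
              omega
            rw [X.img_mul]
            exact hvneg v hvlt _ h2 (hsupp x hx r h1.1 hss)
      have hdisj : Disjoint
          ((Finset.range D.nroots).filter fun r => (L.setAt 0).testBit r = true ∧
            D.IsNegRoot (X.img (wprod (gen X.C) (L.word v) * x) r)) (X.invSet x) := by
        rw [Finset.disjoint_left]
        intro r hr hr'
        simp only [Finset.mem_filter, Finset.mem_range] at hr
        rw [mem_invSet] at hr'
        have h := hset0 x hx r hr.1 hr.2.1
        rw [hmem0 _ (X.img_lt x hr.1)] at h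
        exact X.not_pos_and_neg h.1 hr'.2
      rw [inv, hsplit, Finset.card_union_of_disjoint hdisj, inv]
      congr 1
      rw [← hv1, ← List.toFinset_card_of_nodup (List.nodup_range.filter _)]
      refine Finset.card_bij (fun r _ => X.img (wprod (gen X.C) (L.word v) * x) r) ?_ ?_ ?_
      · intro r hr
        simp only [Finset.mem_filter, Finset.mem_range] at hr
        simp only [List.mem_toFinset, List.mem_filter, List.mem_range, Bool.and_eq_true,
          decide_eq_true_eq]
        refine ⟨hr.2.2.1, ?_, (X.neg_iff_lt hr.2.2.1).mp hr.2.2⟩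
        have h := hset0 x hx r hr.1 hr.2.1
        have himg := (hsets v hvlt).1
        have hin : (X.ρ (wprod (gen X.C) (L.word v)) ⟨X.img x r, X.img_lt x hr.1⟩) ∈
            toSet (R := D.nroots) (L.setAt v) := by
          rw [← himg]; exact ⟨_, h, rfl⟩
        rw [X.img_mul, img, dif_pos (X.img_lt x hr.1)]
        exact hin
      · intro r _ r' _ h
        exact X.img_injective _ h
      · intro s hs
        simp only [List.mem_toFinset, List.mem_filter, List.mem_range, Bool.and_eq_true,
          decide_eq_true_eq] at hs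
        obtain ⟨hs1, hs2, hs3⟩ := hs
        have himg := (hsets v hvlt).1
        have hin : (⟨s, hs1⟩ : Fin D.nroots) ∈ toSet (R := D.nroots) (L.setAt v) := hs2
        rw [← himg] at hin
        obtain ⟨y, hy, hy'⟩ := hin
        have hyb : (L.setAt 0).testBit y.val = true := hy
        refine ⟨X.img x⁻¹ y.val, ?_, ?_⟩
        · simp only [Finset.mem_filter, Finset.mem_range]
          refine ⟨X.img_lt _ y.isLt, hset0 _ (inv_mem hx) y.val y.isLt hyb, ?_⟩
          rw [X.img_mul, X.img_img_inv, img, dif_pos y.isLt, Fin.eta, hy']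
          exact (X.neg_iff_lt hs1).mpr hs3
        · rw [X.img_mul, X.img_img_inv, img, dif_pos y.isLt, Fin.eta, hy']
    have hF : Function.Bijective F := by
      constructor
      · rintro ⟨v, x⟩ ⟨v', x'⟩ he
        have he' : wprod (gen X.C) (L.word v) * (x : X.W) = wprod (gen X.C) (L.word v') * x' :=
          congrArg Subtype.val he
        have hK : ∀ z ∈ X.par L.sub, X.ρ z '' toSet (R := D.nroots) (L.setAt 0) =
            toSet (L.setAt 0) := by
          intro z hz
          ext y
          constructor
          · rintro ⟨r, hr, rfl⟩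
            have := hset0 z hz r.val r.isLt hr
            rwa [img, dif_pos r.isLt] at this
          · intro hy
            refine ⟨X.ρ z⁻¹ y, ?_, by simp⟩
            have := hset0 z⁻¹ (inv_mem hz) y.val y.isLt hy
            rwa [img, dif_pos y.isLt] at this
        have h1 : toSet (R := D.nroots) (L.setAt v) = toSet (L.setAt v') := by
          rw [← (hsets v v.isLt).1, ← (hsets v' v'.isLt).1]
          conv_lhs => rw [← hK x x.2, ← Set.image_comp, ← Equiv.Perm.coe_mul, ← map_mul, he']
          rw [map_mul, Equiv.Perm.coe_mul, Set.image_comp, hK x' x'.2]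
        have h2 := toSet_inj (hsets v v.isLt).2 (hsets v' v'.isLt).2 h1
        rw [Level.setAt, Level.setAt, List.getD_eq_getElem _ _ (by omega),
          List.getD_eq_getElem _ _ (by omega)] at h2
        obtain rfl : v = v' := Fin.ext ((hnd.2.getElem_inj_iff).mp h2)
        rw [Subtype.ext (mul_left_cancel he')]
      · rintro ⟨y, hy⟩
        obtain ⟨v, hv, x, hx, rfl⟩ := hcover y hy
        exact ⟨(⟨v, hv⟩, ⟨x, hx⟩), rfl⟩
    rw [← Fintype.sum_bijective F hF (fun p => q ^ X.inv ((F p : ↥(X.par L.gens)) : X.W))
      (fun y => q ^ X.inv (y : X.W)) (fun p => rfl)]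
    rw [Fintype.sum_prod_type, List.map_cons, List.prod_cons,
      ← par_poincare L.sub Ls hrest hLs hgs q, Finset.sum_range, Finset.sum_mul]
    refine Finset.sum_congr rfl fun v _ => ?_
    rw [Finset.mul_sum]
    refine Finset.sum_congr rfl fun x _ => ?_
    show q ^ X.inv (wprod (gen X.C) (L.word v) * x) = _
    rw [hlength v v.isLt x x.2, pow_add]

instance instFiniteW (X : Weyl D) : Finite X.W :=
  Finite.of_injective X.ρ X.ρ_injective

/-- length generating function of the Weyl group -/
theorem poincare [Fintype X.W] (q : ℕ) : ∑ w : X.W, q ^ X.inv w =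
    (X.chain.map fun L => ∑ v ∈ Finset.range L.size, q ^ (L.word v).length).prod := by
  have htop : X.par (List.range D.rank) = ⊤ := gSub_range X.C
  have : Fintype ↥(X.par (List.range D.rank)) := Fintype.ofFinite _
  rw [← X.par_poincare _ X.chain X.hchain X.hlen (fun s hs => List.mem_range.mp hs) q]
  refine Fintype.sum_bijective (fun w => (⟨w, by rw [htop]; trivial⟩ : ↥(X.par (List.range D.rank))))
    ⟨fun a b h => congrArg Subtype.val h, fun y => ⟨y.1, rfl⟩⟩ _ _ (fun _ => rfl)

/-- only the identity makes no positive root negative -/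
theorem eq_one_of_inv_eq_zero {w : X.W} (h : X.inv w = 0) : w = 1 := by
  classical
  have := Fintype.ofFinite X.W
  have hP := X.poincare 0
  have hsum : ∑ w : X.W, 0 ^ X.inv w = (Finset.univ.filter fun w => X.inv w = 0).card := by
    rw [Finset.card_filter]
    refine Finset.sum_congr rfl fun w _ => ?_
    split_ifs with h0 <;> simp [h0]
  have hrhs : (X.chain.map fun L => ∑ v ∈ Finset.range L.size, 0 ^ (L.word v).length).prod ≤ 1 := by
    have hle : ∀ l : List ℕ, (∀ x ∈ l, x ≤ 1) → l.prod ≤ 1 := by
      intro l
      induction l with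
      | nil => simp
      | cons a l ih =>
        intro h
        rw [List.prod_cons]
        exact Nat.mul_le_mul (h a List.mem_cons_self)
          (ih fun x hx => h x (List.mem_cons_of_mem _ hx))
    refine hle _ ?_
    intro x hx
    obtain ⟨L, hL, rfl⟩ := List.mem_map.mp hx
    obtain ⟨hT, hS⟩ := chain_mem _ _ _ _ _ X.hchain L hL
    have h0 : ∀ v ∈ Finset.range L.size, v ≠ 0 → (0 : ℕ) ^ (L.word v).length = 0 := by
      intro v hv hv0
      simp only [setsOK, Bool.and_eq_true, List.all_eq_true, List.mem_range] at hS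
      have := hS.2 v (Finset.mem_range.mp hv)
      cases hw : L.word v with
      | nil => rw [hw] at this; simp [hv0] at this
      | cons s l => simp
    rw [Finset.sum_eq_single 0 h0]
    · exact pow_le_one₀ le_rfl zero_le_one
    · intro h
      simp only [tableOK, Bool.and_eq_true, decide_eq_true_eq] at hT
      exact absurd (Finset.mem_range.mpr hT.1.1.1) h
  rw [hsum] at hP
  have h1 : X.inv 1 = 0 := by
    rw [inv, Finset.card_eq_zero, Finset.eq_empty_iff_forall_notMem]
    intro r hr
    rw [mem_invSet, X.img_one] at hr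
    exact X.not_pos_and_neg hr.1 hr.2
  exact Finset.card_le_one.mp (hP.trans_le hrhs) w (by simp [h]) 1 (by simp [h1])
where
  chain_mem (M : ℕ → ℕ → ℕ) (P : List ℕ) (R : ℕ) : ∀ (g : List ℕ) (Ls : List Level),
      chainOK M P R g Ls = true → ∀ L ∈ Ls, tableOK M L = true ∧ setsOK P R L = true
    | _, [], _, _, hL => by simp at hL
    | g, L' :: Ls, h, L, hL => by
      simp only [chainOK, Bool.and_eq_true, decide_eq_true_eq] at h
      rcases List.mem_cons.mp hL with rfl | hL
      · exact ⟨h.1.1.2, h.1.2⟩
      · exact chain_mem M P R _ Ls h.2 L hL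

lemma inv_eq_zero_iff {w : X.W} : X.inv w = 0 ↔ w = 1 := by
  refine ⟨X.eq_one_of_inv_eq_zero, ?_⟩
  rintro rfl
  rw [inv, Finset.card_eq_zero, Finset.eq_empty_iff_forall_notMem]
  intro r hr
  rw [mem_invSet, X.img_one] at hr
  exact X.not_pos_and_neg hr.1 hr.2

lemma exists_descent {w : X.W} (hw : w ≠ 1) :
    ∃ i : Fin D.rank, D.IsNegRoot (X.img w⁻¹ (D.simple i)) := by
  by_contra hc
  push Not at hc
  have hne : w⁻¹ ≠ 1 := by simpa using hw
  apply hne
  rw [← X.inv_eq_zero_iff, inv, Finset.card_eq_zero, Finset.eq_empty_iff_forall_notMem]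
  intro r hr
  rw [mem_invSet] at hr
  refine X.not_pos_and_neg (X.pos_img_of_simples w⁻¹ hr.1 fun k hk _ => ?_) hr.2
  exact ((X.root_facts (X.img_lt _ (X.simple_lt hk))).2.2.1).mpr (hc ⟨k, hk⟩)

end Weyl

end Cfsg.Agent.ChevWeyl
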