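import Cfsg.Agent.Lib.CoxeterWeyl
import Cfsg.Agent.Lib.ChevWeyl
import Cfsg.Prelude.Def_ChevG2
import Cfsg.Prelude.Def_ChevB2
import Cfsg.Prelude.Def_ChevD4
import Cfsg.Prelude.Def_ChevF4
import Cfsg.Prelude.Def_ChevE6
import Cfsg.Prelude.Def_ChevE7
import Cfsg.Prelude.Def_ChevE8

/-! The Weyl structures of the seven tabulated data. -/

set_option autoImplicit false

namespace Cfsg.Agent.ChevWeylData
open Cfsg.Lie Cfsg.Agent.ChevWeyl Cfsg.Agent.CoxeterData Cfsg.Agent.CoxeterWeyl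

noncomputable def g2 : Weyl chevG2 :=
  ⟨CoxeterMatrix.G₂, g2Perm, g2Chain, g2_act, g2_chain, by decide +kernel, by decide +kernel⟩
noncomputable def b2 : Weyl chevB2 :=
  ⟨CoxeterMatrix.B 2, b2Perm, b2Chain, b2_act, b2_chain, by decide +kernel, by decide +kernel⟩
noncomputable def d4 : Weyl chevD4 :=
  ⟨coxeterD4, d4Perm, d4Chain, d4_act, d4_chain, by decide +kernel, by decide +kernel⟩
noncomputable def f4 : Weyl chevF4 :=
  ⟨CoxeterMatrix.F₄, f4Perm, f4Chain, f4_act, f4_chain, by decide +kernel, by decide +kernel⟩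
noncomputable def e6 : Weyl chevE6 :=
  ⟨CoxeterMatrix.E₆, e6Perm, e6Chain, e6_act, e6_chain, by decide +kernel, by decide +kernel⟩
noncomputable def e7 : Weyl chevE7 :=
  ⟨CoxeterMatrix.E₇, e7Perm, e7Chain, e7_act, e7_chain, by decide +kernel, by decide +kernel⟩
noncomputable def e8 : Weyl chevE8 :=
  ⟨CoxeterMatrix.E₈, e8Perm, e8Chain, e8_act, e8_chain, by decide +kernel, by decide +kernel⟩

end Cfsg.Agent.ChevWeylData
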