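import Cfsg.Agent.Lib.TwistedTools
import Cfsg.Agent.Lib.ChevWeylData
import Cfsg.Prelude.Def_LieTwisted

/-!
`²E₆(q)` as fixed points of the graph symmetry with a field automorphism: the classes of fundamental roots.
-/

set_option autoImplicit false
set_option linter.unusedSectionVars false
set_option maxRecDepth 20000

namespace Cfsg.Agent.TwistedE6

open Cfsg.Lie Cfsg.Agent.ChevalleyCert Cfsg.Agent.ChevalleyCore Cfsg.Agent.ChevalleyRoots Cfsg.Agent.ChevalleyTorus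
  Cfsg.Agent.TwistedCore Cfsg.Agent.TwistedTools Cfsg.Agent.ChevWeyl Cfsg.Agent.ChevBruhat

/-- the certificate -/
noncomputable def c6 : Cert chevE6 := ChevalleyAll.cert chevE6 (by simp)

/-- the index of a node -/
abbrev nd (i : ℕ) (h : i < chevE6.rank := by decide) : Fin chevE6.rank := ⟨i, h⟩

/-- the node of a class with one element -/
def sn : Fin 2 → Fin chevE6.rank
  | 0 => nd 1
  | 1 => nd 3

/-- the first node of a class with two elements -/
def pn : Fin 2 → Fin chevE6.rank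
  | 0 => nd 0
  | 1 => nd 2

/-- the second node of a class with two elements -/
def pm : Fin 2 → Fin chevE6.rank
  | 0 => nd 5
  | 1 => nd 4

/-- the root of a class with one element -/
abbrev sr (j : Fin 2) : ℕ := chevE6.simple (sn j).val

/-- the first root of a class with two elements -/
abbrev ra (j : Fin 2) : ℕ := chevE6.simple (pn j).val

/-- the second root of a class with two elements -/
abbrev rb (j : Fin 2) : ℕ := chevE6.simple (pm j).val

theorem roots_eq : sr 0 = e6p2 ∧ sr 1 = e6p4 ∧ ra 0 = e6p1 ∧ rb 0 = e6p6 ∧ ra 1 = e6p3 ∧ rb 1 = e6p5 ∧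
    chevE6.neg (sr 0) = e6m2 ∧ chevE6.neg (sr 1) = e6m4 ∧ chevE6.neg (ra 0) = e6m1 ∧ chevE6.neg (rb 0) = e6m6 ∧
    chevE6.neg (ra 1) = e6m3 ∧ chevE6.neg (rb 1) = e6m5 := by
  decide +kernel

/-- the four commuting pairs of roots of a class with two elements -/
theorem orth_ok : ∀ j : Fin 2, ∀ r ∈ [ra j, chevE6.neg (ra j)], ∀ s ∈ [rb j, chevE6.neg (rb j)],
    r < chevE6.nroots ∧ s < chevE6.nroots ∧ s ≠ r ∧ s ≠ chevE6.neg r ∧ chevE6.commTerms r s = [] := by
  decide +kernel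

variable {K : Type*} [Field K]

theorem comm (j : Fin 2) {r s : ℕ} (hr : r ∈ [ra j, chevE6.neg (ra j)]) (hs : s ∈ [rb j, chevE6.neg (rb j)])
    (t u : K) : Commute (xg c6 r t) (xg c6 s u) := by
  obtain ⟨h1, h2, h3, h4, h5⟩ := orth_ok j r hr s hs
  exact commute_xg c6 h1 h2 h3 h4 h5 t u

/-- the product of two root elements of a class -/
noncomputable def pr (j : Fin 2) (a b : K) : GL chevE6.Idx K := xg c6 (ra j) a * xg c6 (rb j) b

/-- the product of two opposite root elements of a class -/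
noncomputable def prn (j : Fin 2) (a b : K) : GL chevE6.Idx K :=
  xg c6 (chevE6.neg (ra j)) a * xg c6 (chevE6.neg (rb j)) b

theorem pr_mul (j : Fin 2) (a b a' b' : K) : pr j a b * pr j a' b' = pr j (a + a') (b + b') := by
  have h : Commute (xg c6 (ra j) a') (xg c6 (rb j) b) := comm j (by simp) (by simp) _ _
  unfold pr
  rw [← xg_mul c6, ← xg_mul c6]
  calc xg c6 (ra j) a * xg c6 (rb j) b * (xg c6 (ra j) a' * xg c6 (rb j) b')
      = xg c6 (ra j) a * (xg c6 (rb j) b * xg c6 (ra j) a') * xg c6 (rb j) b' := by group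
    _ = _ := by rw [← h.eq]; group

theorem commute_ng (j : Fin 2) (a b : K) : Commute (ng c6 (ra j) a) (ng c6 (rb j) b) := by
  have h : ∀ r ∈ [ra j, chevE6.neg (ra j)], ∀ t : K, Commute (xg c6 r t) (ng c6 (rb j) b) := fun r hr t =>
    ((comm j hr (by simp) _ _).mul_right (comm j hr (by simp) _ _)).mul_right (comm j hr (by simp) _ _)
  exact ((h _ (by simp) _).mul_left (h _ (by simp) _)).mul_left (h _ (by simp) _)

/-- the product of two `n_p(t)` of a class -/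
noncomputable def pnn (j : Fin 2) (a b : K) : GL chevE6.Idx K := ng c6 (ra j) a * ng c6 (rb j) b

theorem pnn_eq (j : Fin 2) (a b : K) : pnn j a b = pr j a b * prn j (-a⁻¹) (-b⁻¹) * pr j a b := by
  unfold pnn pr prn ng
  rw [triple_mul (comm j (by simp) (by simp) _ _).symm (comm j (by simp) (by simp) _ _).symm
    (comm j (by simp) (by simp) _ _).symm]

variable (q : ℕ)

theorem xg_mem_sr (j : Fin 2) {t : K} (ht : t ^ q = t) :
    xg c6 (sr j) t ∈ twistedE6 K q ∧ xg c6 (chevE6.neg (sr j)) t ∈ twistedE6 K q := by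
  obtain ⟨e0, e1, -, -, -, -, g0, g1, -⟩ := roots_eq
  have key : ∀ r ∈ [e6p2, e6m2, e6p4, e6m4], xg c6 r t ∈ twistedE6 K q := by
    intro r hr
    have := mem_gen c6 (A := e6Words K q) (Or.inl ⟨t, ht, r, hr, rfl⟩)
    simpa [wg, twistedE6] using this
  fin_cases j
  · exact ⟨key _ (by simp [← e0]), key _ (by simp [← g0])⟩
  · exact ⟨key _ (by simp [← e1]), key _ (by simp [← g1])⟩

theorem pr_mem (j : Fin 2) (t : K) : pr j t (t ^ q) ∈ twistedE6 K q ∧ prn j t (t ^ q) ∈ twistedE6 K q := by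
  obtain ⟨-, -, a0, b0, a1, b1, -, -, c0, d0, c1', d1⟩ := roots_eq
  have key : ∀ rs ∈ [(e6p1, e6p6), (e6m1, e6m6), (e6p3, e6p5), (e6m3, e6m5)],
      xg c6 rs.1 t * xg c6 rs.2 (t ^ q) ∈ twistedE6 K q := by
    intro rs hrs
    have := mem_gen c6 (A := e6Words K q) (Or.inr ⟨t, rs, hrs, rfl⟩)
    simpa [wg, twistedE6] using this
  fin_cases j
  · exact ⟨key (ra 0, rb 0) (by rw [a0, b0]; simp), key (chevE6.neg (ra 0), chevE6.neg (rb 0)) (by rw [c0, d0]; simp)⟩
  · exact ⟨key (ra 1, rb 1) (by rw [a1, b1]; simp), key (chevE6.neg (ra 1), chevE6.neg (rb 1)) (by rw [c1', d1]; simp)⟩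

/-- the twist -/
noncomputable def tw (f : K →+* K) : Twist c6 K :=
  graphTwist c6 ChevWeylData.e6 (by decide +kernel) ChevalleyGraph.symE6 f (by decide +kernel) (by decide +kernel)

variable {q} (f : K →+* K) (hf : ∀ t, f t = t ^ q)

include hf in
theorem neg_inv_pow (t : K) : (-t⁻¹) ^ q = -(t ^ q)⁻¹ := by rw [← hf, map_neg, map_inv₀, hf]

include hf in
theorem pnn_mem (j : Fin 2) (t : K) : pnn j t (t ^ q) ∈ twistedE6 K q := by
  rw [pnn_eq, ← neg_inv_pow f hf t]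
  exact mul_mem (mul_mem (pr_mem q j t).1 (pr_mem q j _).2) (pr_mem q j t).1

include hf in
theorem ngs_mem (j : Fin 2) {t : K} (ht : t ^ q = t) : ng c6 (sr j) t ∈ twistedE6 K q := by
  unfold ng
  refine mul_mem (mul_mem (xg_mem_sr q j ht).1 (xg_mem_sr q j ?_).2) (xg_mem_sr q j ht).1
  rw [neg_inv_pow f hf, ht]

theorem pi_facts : ∀ j : Fin 2, ChevalleyGraph.symE6.pi (sn j).val = (sn j).val ∧
    ChevalleyGraph.symE6.pi (pn j).val = (pm j).val ∧ ChevalleyGraph.symE6.pi (pm j).val = (pn j).val := by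
  decide +kernel

include hf in
theorem sg_sr (j : Fin 2) (t : K) :
    (tw f).sg (xg c6 (sr j) t) = xg c6 (sr j) (t ^ q) ∧
      (tw f).sg (xg c6 (chevE6.neg (sr j)) t) = xg c6 (chevE6.neg (sr j)) (t ^ q) := by
  have h1 := (tw f).sg_simple (sn j).isLt t
  have h2 := (tw f).sg_negSimple (sn j).isLt t
  rw [show (tw f).ρs (sn j).val = (sn j).val from (pi_facts j).1, show (tw f).fr (sn j).val t = t ^ q from hf t] at h1 h2
  exact ⟨h1, h2⟩

include hf in
theorem sg_pr (j : Fin 2) (a b : K) :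
    (tw f).sg (pr j a b) = pr j (b ^ q) (a ^ q) ∧ (tw f).sg (prn j a b) = prn j (b ^ q) (a ^ q) := by
  have ea : (tw f).ρs (pn j).val = (pm j).val := (pi_facts j).2.1
  have eb : (tw f).ρs (pm j).val = (pn j).val := (pi_facts j).2.2
  have fa : ∀ i t, (tw f).fr i t = t ^ q := fun i t => hf t
  constructor
  · unfold pr
    rw [(tw f).sg_mul (xg_mem_group c6 _ _) (xg_mem_group c6 _ _), (tw f).sg_simple (pn j).isLt,
      (tw f).sg_simple (pm j).isLt, ea, eb, fa, fa]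
    exact (comm j (by simp) (by simp) _ _).eq.symm
  · unfold prn
    rw [(tw f).sg_mul (xg_mem_group c6 _ _) (xg_mem_group c6 _ _), (tw f).sg_negSimple (pn j).isLt,
      (tw f).sg_negSimple (pm j).isLt, ea, eb, fa, fa]
    exact (comm j (by simp) (by simp) _ _).eq.symm

variable [Fintype K] (hK : Fintype.card K = q ^ 2)

include hK in
theorem pow_q2 (t : K) : (t ^ q) ^ q = t := by rw [← pow_mul, ← pow_two, ← hK, FiniteField.pow_card]

include hf hK in
theorem le_fixed : twistedE6 K q ≤ (tw f).Fixed := by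
  refine gen_le c6 ?_
  obtain ⟨e0, e1, a0, b0, a1, b1, g0, g1, c0, d0, c1', d1⟩ := roots_eq
  have hS : ∀ j t, t ^ q = t → xg c6 (sr j) t ∈ (tw f).Fixed ∧ xg c6 (chevE6.neg (sr j)) t ∈ (tw f).Fixed :=
    fun j t ht => ⟨⟨xg_mem_group c6 _ _, by rw [(sg_sr f hf j t).1, ht]⟩,
      ⟨xg_mem_group c6 _ _, by rw [(sg_sr f hf j t).2, ht]⟩⟩
  have hP : ∀ j t, pr j t (t ^ q) ∈ (tw f).Fixed ∧ prn j t (t ^ q) ∈ (tw f).Fixed :=
    fun j t => ⟨⟨mul_mem (xg_mem_group c6 _ _) (xg_mem_group c6 _ _), by rw [(sg_pr f hf j _ _).1, pow_q2 hK]⟩,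
      ⟨mul_mem (xg_mem_group c6 _ _) (xg_mem_group c6 _ _), by rw [(sg_pr f hf j _ _).2, pow_q2 hK]⟩⟩
  rintro w (⟨t, ht, r, hr, rfl⟩ | ⟨t, rs, hrs, rfl⟩)
  · have e : wg c6 [(r, t)] = xg c6 r t := by simp [wg]
    rw [e]
    simp only [List.mem_cons, List.not_mem_nil, or_false] at hr
    rcases hr with rfl | rfl | rfl | rfl
    · rw [← e0]; exact (hS 0 t ht).1
    · rw [← g0]; exact (hS 0 t ht).2
    · rw [← e1]; exact (hS 1 t ht).1
    · rw [← g1]; exact (hS 1 t ht).2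
  · have e : wg c6 [(rs.1, t), (rs.2, t ^ q)] = xg c6 rs.1 t * xg c6 rs.2 (t ^ q) := by simp [wg]
    rw [e]
    simp only [List.mem_cons, List.not_mem_nil, or_false] at hrs
    rcases hrs with rfl | rfl | rfl | rfl
    · rw [← a0, ← b0]; exact (hP 0 t).1
    · rw [← c0, ← d0]; exact (hP 0 t).2
    · rw [← a1, ← b1]; exact (hP 1 t).1
    · rw [← c1', ← d1]; exact (hP 1 t).2

/-! ### the classes -/

/-- the word of a class -/
def cl6 : Fin 2 ⊕ Fin 2 → List (Fin chevE6.rank)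
  | .inl j => [sn j]
  | .inr j => [pn j, pm j]

/-- the class of a node -/
def cls6 (i : ℕ) : Fin 2 ⊕ Fin 2 :=
  if i = 1 then .inl 0 else if i = 3 then .inl 1 else if i = 0 ∨ i = 5 then .inr 0 else .inr 1

/-- the roots of a class -/
def lst : Fin 2 ⊕ Fin 2 → List ℕ
  | .inl j => [sr j]
  | .inr j => [ra j, rb j]

theorem invSet_cl6 : ∀ J : Fin 2 ⊕ Fin 2, ∀ r < chevE6.nroots,
    ((chevE6.IsPosRoot r ∧ chevE6.IsNegRoot (Twist.wact' chevE6 (cl6 J) r)) ↔ r ∈ lst J) ∧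
    ((r ∈ lst J) ↔ (chevE6.IsPosRoot r ∧ ∀ k < chevE6.rank, cor chevE6 r k ≠ 0 → cls6 k = J)) := by
  decide +kernel

theorem lst_lt : ∀ J : Fin 2 ⊕ Fin 2, ∀ r ∈ lst J, r < chevE6.nroots := by decide +kernel

theorem mem_invSet_cl6 (J : Fin 2 ⊕ Fin 2) (r : ℕ) :
    r ∈ (tw f).X.invSet ((tw f).wd (cl6 J)) ↔ r ∈ lst J :=
  ((tw f).mem_invSet_wd (cl6 J) r).trans
    ⟨fun h => (invSet_cl6 J r h.1.1).1.mp h, fun h => (invSet_cl6 J r (lst_lt J r h)).1.mpr h⟩

theorem xg_mem_Uw (J : Fin 2 ⊕ Fin 2) {r : ℕ} (hr : r ∈ lst J) (t : K) :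
    xg c6 r t ∈ (tw f).S.Uw ((tw f).wd (cl6 J)) :=
  Subgroup.subset_closure ⟨r, t, (mem_invSet_cl6 f J r).mpr hr, rfl⟩

theorem winv_cl6 : ∀ j : Fin 2, winv chevE6 ChevWeylData.e6.P (cl6 (.inl j)) = 1 ∧
    winv chevE6 ChevWeylData.e6.P (cl6 (.inr j)) = 2 := by
  decide +kernel

/-- the map of a root subgroup -/
noncomputable def srHom (j : Fin 2) : Multiplicative K →* GL chevE6.Idx K where
  toFun t := xg c6 (sr j) t.toAdd
  map_one' := xg_zero c6 _
  map_mul' a b := (xg_mul c6 _ _ _).symm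

/-- the map of the root subgroups of a pair -/
noncomputable def prHom (j : Fin 2) : Multiplicative (K × K) →* GL chevE6.Idx K where
  toFun p := pr j p.toAdd.1 p.toAdd.2
  map_one' := by simp [pr]
  map_mul' p p' := by simp [pr_mul]

theorem sr_inj (j : Fin 2) {t t' : K} (h : xg c6 (sr j) t = xg c6 (sr j) t') : t = t' := by
  have hl : sr j < chevE6.nroots := simple_lt c6 (sn j).isLt
  by_cases h0 : t = 0
  · by_contra hne
    have hne' : t' ≠ 0 := fun e => hne (h0.trans e.symm)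
    exact hne ((ChevBruhatInstance.xg_injective c6 hl hl hne' h.symm).2).symm
  · exact (ChevBruhatInstance.xg_injective c6 hl hl h0 h).2

theorem Uw_pair (j : Fin 2) : (tw f).S.Uw ((tw f).wd (cl6 (.inr j))) ≤ (prHom (K := K) j).range ∧
    Function.Injective (prHom (K := K) j) := by
  have hle : (tw f).S.Uw ((tw f).wd (cl6 (.inr j))) ≤ (prHom (K := K) j).range := by
    rw [Sys.Uw, Subgroup.closure_le]
    rintro g ⟨r, t, hr, rfl⟩
    have := (mem_invSet_cl6 f _ r).mp hr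
    simp only [lst, List.mem_cons, List.not_mem_nil, or_false] at this
    show xg c6 r t ∈ _
    rcases this with rfl | rfl
    · exact ⟨Multiplicative.ofAdd (t, 0), by simp [prHom, pr]⟩
    · exact ⟨Multiplicative.ofAdd (0, t), by simp [prHom, pr]⟩
  have hc := (tw f).S.card_Uw ((tw f).wd (cl6 (.inr j)))
  rw [show (tw f).S.X.inv ((tw f).wd (cl6 (.inr j))) = 2 from ((tw f).inv_wd _).trans (winv_cl6 j).2] at hc
  have hdom : Nat.card (Multiplicative (K × K)) = Nat.card K ^ 2 := by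
    rw [Nat.card_congr Multiplicative.toAdd, Nat.card_prod, pow_two]
  have hle1 : Nat.card K ^ 2 ≤ Nat.card (prHom (K := K) j).range := hc ▸ Subgroup.card_le_of_le hle
  have hr : Function.Bijective (prHom (K := K) j).rangeRestrict :=
    (MonoidHom.rangeRestrict_surjective _).bijective_of_nat_card_le (by rw [hdom]; exact hle1)
  exact ⟨hle, fun a b h => hr.1 (Subtype.ext h)⟩

theorem pr_inj (j : Fin 2) {a b a' b' : K} (h : pr j a b = pr j a' b') : a = a' ∧ b = b' := by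
  have := (Uw_pair (RingHom.id K) j).2
    (show prHom j (Multiplicative.ofAdd (a, b)) = prHom j (Multiplicative.ofAdd (a', b')) from h)
  simpa using this

theorem pr_mem_Uw (j : Fin 2) (a b : K) : pr j a b ∈ (tw f).S.Uw ((tw f).wd (cl6 (.inr j))) :=
  mul_mem (xg_mem_Uw f _ (by simp [lst]) a) (xg_mem_Uw f _ (by simp [lst]) b)

include hf in
theorem UF_single (j : Fin 2) {u : GL chevE6.Idx K} (hu : u ∈ (tw f).UF ((tw f).wd (cl6 (.inl j)))) :
    ∃ t : K, t ^ q = t ∧ u = xg c6 (sr j) t := by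
  have hle : (tw f).S.Uw ((tw f).wd (cl6 (.inl j))) ≤ (srHom (K := K) j).range := by
    rw [Sys.Uw, Subgroup.closure_le]
    rintro g ⟨r, t, hr, rfl⟩
    have := (mem_invSet_cl6 f _ r).mp hr
    simp only [lst, List.mem_cons, List.not_mem_nil, or_false] at this
    subst this
    exact ⟨Multiplicative.ofAdd t, rfl⟩
  obtain ⟨t, rfl⟩ := hle hu.1
  have h : (tw f).sg (xg c6 (sr j) t.toAdd) = xg c6 (sr j) t.toAdd := hu.2.2
  rw [(sg_sr f hf j _).1] at h
  exact ⟨t.toAdd, sr_inj j h, rfl⟩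

include hf in
theorem UF_pair (j : Fin 2) {u : GL chevE6.Idx K} (hu : u ∈ (tw f).UF ((tw f).wd (cl6 (.inr j)))) :
    ∃ t : K, u = pr j t (t ^ q) := by
  obtain ⟨p, rfl⟩ := (Uw_pair f j).1 hu.1
  obtain ⟨a, b⟩ := p
  have h : (tw f).sg (pr j a b) = pr j a b := hu.2.2
  rw [(sg_pr f hf j _ _).1] at h
  refine ⟨a, ?_⟩
  show pr j a b = _
  rw [(pr_inj j h).2]

include hf hK in
theorem card_UF_single (j : Fin 2) : Nat.card ↥((tw f).UF ((tw f).wd (cl6 (.inl j)))) = q := by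
  rw [← TwistedField.card_fix hK]
  refine (Nat.card_eq_of_bijective (fun t => (⟨xg c6 (sr j) t.1, xg_mem_Uw f _ (by simp [lst]) _,
    le_fixed f hf hK (xg_mem_sr q j t.2).1⟩ : ↥((tw f).UF ((tw f).wd (cl6 (.inl j)))))) ⟨?_, ?_⟩).symm
  · rintro ⟨a, ha⟩ ⟨b, hb⟩ h
    exact Subtype.ext (sr_inj j (congrArg Subtype.val h))
  · rintro ⟨u, hu⟩
    obtain ⟨t, ht, rfl⟩ := UF_single f hf j hu
    exact ⟨⟨t, ht⟩, rfl⟩

include hf hK in
theorem card_UF_pair (j : Fin 2) : Nat.card ↥((tw f).UF ((tw f).wd (cl6 (.inr j)))) = q ^ 2 := by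
  rw [← hK, ← Nat.card_eq_fintype_card]
  refine (Nat.card_eq_of_bijective (fun t : K => (⟨pr j t (t ^ q), pr_mem_Uw f j _ _,
    le_fixed f hf hK (pr_mem q j t).1⟩ : ↥((tw f).UF ((tw f).wd (cl6 (.inr j)))))) ⟨?_, ?_⟩).symm
  · intro a b h
    exact (pr_inj j (congrArg Subtype.val h)).1
  · rintro ⟨u, hu⟩
    obtain ⟨t, rfl⟩ := UF_pair f hf j hu
    exact ⟨t, rfl⟩

/-- the representative of a class -/
noncomputable def cn6 : Fin 2 ⊕ Fin 2 → GL chevE6.Idx K
  | .inl j => ng c6 (sr j) 1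
  | .inr j => pnn j 1 1

theorem cn6_toW (J : Fin 2 ⊕ Fin 2) : ∃ h : cn6 (K := K) J ∈ chevE6.monomialSubgroup K,
    (tw f).S.toW ⟨_, h⟩ = (tw f).wd (cl6 J) := by
  rcases J with j | j
  · obtain ⟨h, hw⟩ := (tw f).toW_prod_ng [(sn j, (1 : Kˣ))]
    have e : (([(sn j, (1 : Kˣ))]).map fun p => ng c6 (chevE6.simple p.1.val) (p.2 : K)).prod =
        cn6 (K := K) (.inl j) := by
      simp [cn6]
    exact ⟨e ▸ h, by simp only [← e]; exact hw⟩
  · obtain ⟨h, hw⟩ := (tw f).toW_prod_ng [(pn j, (1 : Kˣ)), (pm j, 1)]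
    have e : (([(pn j, (1 : Kˣ)), (pm j, 1)]).map fun p => ng c6 (chevE6.simple p.1.val) (p.2 : K)).prod =
        cn6 (K := K) (.inr j) := by
      simp [cn6, pnn]
    exact ⟨e ▸ h, by simp only [← e]; exact hw⟩

/-- the classes -/
noncomputable def classes : Classes (tw f) (twistedE6 K q) where
  κ := Fin 2 ⊕ Fin 2
  cls := cls6
  cls_surj := by decide +kernel
  orbit i hi k hk h := by
    have key : ∀ i < chevE6.rank, ∀ k < chevE6.rank, cls6 k = cls6 i →
        ∃ n < 2, ChevalleyGraph.symE6.pi^[n] i = k := by decide +kernel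
    obtain ⟨n, -, hn⟩ := key i hi k hk h
    exact ⟨n, hn⟩
  cl := cl6
  cl_cls := by
    have key : ∀ J : Fin 2 ⊕ Fin 2, ∀ k : Fin chevE6.rank, k ∈ cl6 J → cls6 k.val = J := by decide +kernel
    exact key
  cl_sq J := (tw f).wd_mul_self fun r hr =>
    (by decide +kernel : ∀ J : Fin 2 ⊕ Fin 2, ∀ r < chevE6.nroots,
      Twist.wact' chevE6 (cl6 J) (Twist.wact' chevE6 (cl6 J) r) = r) J r hr
  mem_cw J r := (mem_invSet_cl6 f J r).trans
    ⟨fun h => (invSet_cl6 J r (lst_lt J r h)).2.mp h, fun h => (invSet_cl6 J r h.1.1).2.mpr h⟩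
  cn := cn6
  cn_G1 J := by
    rcases J with j | j
    · exact ngs_mem f hf j (one_pow q)
    · have := pnn_mem f hf j (1 : K)
      simpa [cn6] using this
  cn_N J := (cn6_toW f J).1
  cn_toW J := (cn6_toW f J).2
  G1_le := le_fixed f hf hK
  UJ_le J u hu := by
    rcases J with j | j
    · obtain ⟨t, ht, rfl⟩ := UF_single f hf j hu
      exact (xg_mem_sr q j ht).1
    · obtain ⟨t, rfl⟩ := UF_pair f hf j hu
      exact (pr_mem q j t).1
  Q := q
  e := 1
  one_lt_Q := TwistedField.one_lt_base hK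
  UJ_card J := by
    rw [pow_one, (tw f).inv_wd]
    rcases J with j | j
    · rw [card_UF_single f hf hK, show winv chevE6 (tw f).X.P (cl6 (.inl j)) = 1 from (winv_cl6 j).1, pow_one]
    · rw [card_UF_pair f hf hK, show winv chevE6 (tw f).X.P (cl6 (.inr j)) = 2 from (winv_cl6 j).2]

theorem node_cases : ∀ i < chevE6.rank, (∃ j : Fin 2, i = (sn j).val) ∨
    ∃ j : Fin 2, i = (pn j).val ∨ i = (pm j).val := by
  decide +kernel

theorem cls6_eq : ∀ j : Fin 2, cls6 (sn j).val = .inl j ∧ cls6 (pn j).val = .inr j ∧ cls6 (pm j).val = .inr j ∧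
    ra j ≠ rb j := by
  decide +kernel

include hf hK in
theorem coef : ∀ i < chevE6.rank, ∃ v ∈ upSub chevE6 K i, ∃ a : K, a ≠ 0 ∧
    v * xg c6 (chevE6.simple i) a ∈ (tw f).UF ((tw f).wd (cl6 (cls6 i))) := by
  intro i hi
  have hfx := le_fixed f hf hK
  have hup : ∀ {s : ℕ} (t : K), chevE6.IsPosRoot s → s ≠ chevE6.simple i → xg c6 s t ∈ upSub chevE6 K i :=
    fun t hs hne => (tw f).S.xg_mem_upSub hs hne t
  have hone : (1 : K) ^ q = 1 := one_pow q
  rcases node_cases i hi with ⟨j, rfl⟩ | ⟨j, rfl | rfl⟩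
  · refine ⟨1, one_mem _, 1, one_ne_zero, ?_⟩
    rw [one_mul, (cls6_eq j).1]
    exact ⟨xg_mem_Uw f _ (by simp [lst]) _, hfx (xg_mem_sr q j hone).1⟩
  · refine ⟨xg c6 (rb j) 1, hup 1 ((tw f).X.simple_pos (pm j).isLt) (cls6_eq j).2.2.2.symm, 1, one_ne_zero, ?_⟩
    rw [(cls6_eq j).2.1, ← (comm j (by simp) (by simp) (1 : K) 1).eq]
    exact ⟨pr_mem_Uw f j 1 1, hfx (by simpa [pr] using (pr_mem q j (1 : K)).1)⟩
  · refine ⟨xg c6 (ra j) 1, hup 1 ((tw f).X.simple_pos (pn j).isLt) (cls6_eq j).2.2.2, 1, one_ne_zero, ?_⟩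
    rw [(cls6_eq j).2.2.1]
    exact ⟨pr_mem_Uw f j 1 1, hfx (by simpa [pr] using (pr_mem q j (1 : K)).1)⟩

end Cfsg.Agent.TwistedE6
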