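import Cfsg.Agent.Lib.ChevAutOut

/-!
Counting diagram symmetries and the node permutations of automorphisms.
-/

set_option autoImplicit false
set_option linter.unusedSimpArgs false
set_option linter.unusedSectionVars false
set_option maxRecDepth 10000

namespace Cfsg.Agent.ChevAutSyms

open Cfsg.Lie Cfsg.Agent.ChevalleyCert
open Cfsg.Agent Cfsg.Agent.ChevAutForm Cfsg.Agent.ChevAutOut

/-- partial symmetries on the first `k` nodes, as lists of images -/
def syms (D : ChevalleyDatum) : ℕ → List (List ℕ)
  | 0 => [[]]
  | k + 1 => (syms D k).flatMap fun l => ((List.range D.rank).filter fun v =>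
      !l.contains v && (List.range k).all fun a =>
        decide (D.bonds (l.getD a 0) v = D.bonds a k)).map fun v => l ++ [v]

theorem mem_syms {D : ChevalleyDatum} {π : Equiv.Perm (Fin D.rank)} (h : D.IsDiagramSymmetry π) :
    ∀ k, k ≤ D.rank → (List.ofFn fun i : Fin D.rank => (π i).val).take k ∈ syms D k := by
  intro k
  induction k with
  | zero => intro _; simp [syms]
  | succ k ih =>
    intro hk
    have hk' : k < D.rank := hk
    simp only [syms, List.mem_flatMap, List.mem_map, List.mem_filter, List.mem_range,
      Bool.and_eq_true, Bool.not_eq_true', List.all_eq_true, decide_eq_true_eq]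
    refine ⟨_, ih hk'.le, (π ⟨k, hk'⟩).val, ⟨(π ⟨k, hk'⟩).isLt, ?_, ?_⟩, ?_⟩
    · rw [Bool.eq_false_iff]
      intro hc
      rw [List.contains_iff_mem, List.mem_take_iff_getElem] at hc
      obtain ⟨a, ha, e⟩ := hc
      simp only [List.length_ofFn, lt_min_iff] at ha
      rw [List.getElem_ofFn] at e
      have := congrArg Fin.val (π.injective (Fin.ext e))
      simp only at this
      omega
    · intro a ha
      have hak : a < D.rank := ha.trans hk'
      have e : ((List.ofFn fun i : Fin D.rank => (π i).val).take k).getD a 0 = (π ⟨a, hak⟩).val := by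
        rw [List.getD_eq_getElem _ _ (by simp [ha, hak]), List.getElem_take, List.getElem_ofFn]
      rw [e]
      exact h ⟨a, hak⟩ ⟨k, hk'⟩ fun e' => absurd (congrArg Fin.val e') (by simp only; omega)
    · rw [List.take_add_one, List.getElem?_eq_getElem (by simp [hk']), List.getElem_ofFn]
      simp

/-- at most as many symmetries as the enumeration finds -/
theorem card_le_syms (D : ChevalleyDatum) (K : Subgroup (Equiv.Perm (Fin D.rank)))
    (h : ∀ π ∈ K, D.IsDiagramSymmetry π) : Nat.card ↥K ≤ (syms D D.rank).length := by
  classical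
  let f : ↥K → {l : List ℕ // l ∈ (syms D D.rank).toFinset} := fun π =>
    ⟨List.ofFn fun i => (π.1 i).val, by
      rw [List.mem_toFinset]
      have := mem_syms (h π π.2) D.rank le_rfl
      rwa [List.take_of_length_le (by simp)] at this⟩
  have hf : Function.Injective f := fun a b e => by
    have e' := List.ofFn_inj.1 (congrArg Subtype.val e)
    exact Subtype.ext (Equiv.ext fun i => Fin.ext (congrFun e' i))
  refine (Nat.card_le_card_of_injective f hf).trans ?_
  rw [Nat.card_eq_fintype_card, Fintype.card_coe]
  exact List.toFinset_card_le _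

theorem syms_G2 : (syms chevG2 chevG2.rank).length = 2 := by decide +kernel
theorem syms_B2 : (syms chevB2 chevB2.rank).length = 2 := by decide +kernel
theorem syms_F4 : (syms chevF4 chevF4.rank).length = 2 := by decide +kernel
theorem syms_D4 : (syms chevD4 chevD4.rank).length = 6 := by decide +kernel
theorem syms_E6 : (syms chevE6 chevE6.rank).length = 2 := by decide +kernel
theorem syms_E7 : (syms chevE7 chevE7.rank).length = 1 := by decide +kernel
theorem syms_E8 : (syms chevE8 chevE8.rank).length = 1 := by decide +kernel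

variable {D : ChevalleyDatum} {F : Type*} [Field F] [Finite F] (X : Ctx D F)

theorem card_range_le : Nat.card ↥(pHom X).range ≤ (syms D D.rank).length :=
  card_le_syms D _ fun _ ⟨θ, e⟩ => e ▸ pHom_sym X θ

/-- an automorphism with the given values puts its permutation in the range -/
theorem mem_range_of_form {θ : MulAut ↥(D.group F)} {π : Equiv.Perm (Fin D.rank)}
    {τ : F ≃+* F} {c : Fin D.rank → Fˣ} (h : Form X.C θ π τ c) : π ∈ (pHom X).range :=
  ⟨⟨θ, Form.fix X.C h X.S⟩, pHom_eq X h⟩

theorem card_range_eq_two {π : Equiv.Perm (Fin D.rank)} (hne : π ≠ 1) (h : π ∈ (pHom X).range)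
    (hs : (syms D D.rank).length = 2) : Nat.card ↥(pHom X).range = 2 := by
  refine le_antisymm (hs ▸ card_range_le X) ?_
  exact Finite.one_lt_card_iff_nontrivial.2 ⟨⟨π, h⟩, 1, fun e => hne (congrArg Subtype.val e)⟩

theorem card_range_eq_one (hs : (syms D D.rank).length = 1) : Nat.card ↥(pHom X).range = 1 :=
  le_antisymm (hs ▸ card_range_le X) Nat.card_pos

/-- the outer automorphism count -/
theorem card_out_eq [Fintype F] {p f d m : ℕ} [Fact p.Prime] [CharP F p]
    (hF : Fintype.card F = p ^ f) (Sm : ChevalleyTorusCard.Smith D d m) :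
    Nat.card (Cfsg.Out ↥(D.group F)) =
      Nat.card ↥(pHom X).range * (Nat.gcd d (p ^ f - 1) ^ m * f) := by
  have h1 := card_out X
  have h2 := ChevalleyTorusCard.card_H (F := F) X.C Sm
  have hu : Nat.card Fˣ = Fintype.card F - 1 := by
    classical rw [Nat.card_eq_fintype_card, Fintype.card_units]
  rw [ChevAutGalois.card_ringAut p f hF, hu, ← h2, hF] at h1
  refine Nat.eq_of_mul_eq_mul_right (Nat.card_pos (α := ↥(D.diagonalSubgroup F))) ?_
  rw [h1, Nat.gcd_comm]
  ring

end Cfsg.Agent.ChevAutSyms
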