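import Cfsg.Agent.Lib.ChevExcGraphData
import Cfsg.Agent.Lib.ChevAutSyms

/-!
The exceptional graph automorphisms on the fundamental root elements, and the symmetries they realise.
-/

set_option autoImplicit false
set_option linter.unusedSimpArgs false
set_option linter.unusedSectionVars false
set_option maxRecDepth 10000

namespace Cfsg.Agent.ChevExcGraphReal

open Cfsg.Lie Cfsg.Agent.ChevalleyCert
open Cfsg.Agent Cfsg.Agent.ChevExcGraph Cfsg.Agent.ChevExcGraphData

/-- how the symmetry moves the fundamental roots and their negatives -/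
def OnSimple {D : ChevalleyDatum} (E : Exc D) (pi ex : ℕ → ℕ) : Prop :=
  ∀ i : Fin D.rank, E.rho (D.simple i) = D.simple (pi i) ∧
    E.rho (D.neg (D.simple i)) = D.neg (D.simple (pi i)) ∧
    E.e (D.simple i) = ex i ∧ E.e (D.neg (D.simple i)) = ex i

theorem exists_simple_aut {D : ChevalleyDatum}
    (hD : D ∈ [chevG2, chevB2, chevD4, chevF4, chevE6, chevE7, chevE8]) (E : Exc D)
    (hp : E.p = 2 ∨ E.p = 3) {pi ex : ℕ → ℕ} (hs : OnSimple E pi ex)
    {F : Type*} [Field F] [CharP F E.p] (hperf : ∀ x : F, ∃ y : F, y ^ E.p = x) :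
    ∃ α : ↥(D.group F) ≃* ↥(D.group F), ∀ (g : ↥(D.group F)) (i : ℕ) (t : F), i < D.rank →
      (((g : GL D.Idx F) : Matrix D.Idx D.Idx F) = D.x F (D.simple i) t →
        ((α g : GL D.Idx F) : Matrix D.Idx D.Idx F) = D.x F (D.simple (pi i)) (t ^ ex i)) ∧
      (((g : GL D.Idx F) : Matrix D.Idx D.Idx F) = D.x F (D.neg (D.simple i)) t →
        ((α g : GL D.Idx F) : Matrix D.Idx D.Idx F) = D.x F (D.neg (D.simple (pi i))) (t ^ ex i)) := by
  obtain ⟨C⟩ := ChevalleyAll.cert_nonempty D hD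
  obtain ⟨α, hα⟩ := ChevExcGraph.exists_aut E C (ChevBruhatInstance.sys D hD F) hp hperf
  refine ⟨α, fun g i t hi => ?_⟩
  obtain ⟨h1, h2, h3, h4⟩ := hs ⟨i, hi⟩
  exact ⟨fun h => by rw [hα g _ t (ChevalleyRoots.simple_lt C hi) h, h1, h3],
    fun h => by rw [hα g _ t (C.neg_lt _) h, h2, h4]⟩

theorem onB2 : OnSimple excB2 (fun i => piB2.getD i 0) (fun i => ([2, 1] : List ℕ).getD i 1) := by
  unfold OnSimple; decide +kernel

theorem onG2 : OnSimple excG2 (fun i => piG2.getD i 0) (fun i => ([3, 1] : List ℕ).getD i 1) := by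
  unfold OnSimple; decide +kernel

theorem onF4 : OnSimple excF4 (fun i => piF4.getD i 0) (fun i => ([2, 2, 1, 1] : List ℕ).getD i 1) := by
  unfold OnSimple; decide +kernel

/-- swap of the two nodes of G2 -/
def swG2 : Equiv.Perm (Fin chevG2.rank) := Fin.revPerm

/-- reversal of the diagram of F4 -/
def swF4 : Equiv.Perm (Fin chevF4.rank) := Fin.revPerm

theorem swG2_facts : swG2 ≠ 1 ∧ ∀ i : Fin chevG2.rank, (swG2 i).val = piG2.getD i 0 ∧
    chevG2.graphExp 3 i (swG2 i) = ([3, 1] : List ℕ).getD i 1 := by decide +kernel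

theorem swF4_facts : swF4 ≠ 1 ∧ ∀ i : Fin chevF4.rank, (swF4 i).val = piF4.getD i 0 ∧
    chevF4.graphExp 2 i (swF4 i) = ([2, 2, 1, 1] : List ℕ).getD i 1 := by decide +kernel

open Cfsg.Agent.ChevAutOut in
theorem mem_range {D : ChevalleyDatum} (E : Exc D) (hp : E.p = 2 ∨ E.p = 3) {pi ex : ℕ → ℕ}
    (hs : OnSimple E pi ex) {π : Equiv.Perm (Fin D.rank)}
    (hπ : ∀ i : Fin D.rank, (π i).val = pi i ∧ D.graphExp E.p i (π i) = ex i)
    {F : Type*} [Field F] [Finite F] [CharP F E.p] (X : Ctx D F) : π ∈ (pHom X).range := by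
  haveI : Fact E.p.Prime := ⟨by rcases hp with h | h <;> rw [h] <;> norm_num⟩
  have hperf : ∀ x : F, ∃ y : F, y ^ E.p = x :=
    fun x => (bijective_frobenius F E.p).2 x
  obtain ⟨α, hα⟩ := exists_simple_aut X.hD E hp hs hperf
  have hr : ringChar F = E.p := ringChar.eq F E.p
  refine ChevAutSyms.mem_range_of_form X (θ := α) (τ := RingEquiv.refl F) (c := 1) ?_
  constructor
  · intro i t
    have h := (hα (ChevAutRigid.xG X.C (D.simple i) t) i t i.isLt).1 (ChevAutStd.coe_coe_xG X.C _ _)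
    rw [ChevAutStd.eq_xG X.C h, ChevAutForm.ex, hr, (hπ i).2, (hπ i).1]
    simp
  · intro i t
    have h := (hα (ChevAutRigid.xG X.C (D.neg (D.simple i)) t) i t i.isLt).2
      (ChevAutStd.coe_coe_xG X.C _ _)
    rw [ChevAutStd.eq_xG X.C h, ChevAutForm.ex, hr, (hπ i).2, (hπ i).1]
    simp

end Cfsg.Agent.ChevExcGraphReal
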