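import Cfsg.Prelude.Def_LieTwisted
import Cfsg.Agent.Lib.TitsTwoData15

/-!
Bit-packed matrices of size 52 over the field with two elements, and their relation to the generators of ²F₄(2).
Column `j` of a packed matrix occupies the bits `64 j … 64 j + 51`.
-/

set_option autoImplicit false
set_option maxRecDepth 100000
set_option maxHeartbeats 800000

namespace Cfsg.Agent.TitsTwo15

open Cfsg.Lie

/-- one bit in each of `n` columns -/
def ones : ℕ → ℕ
  | 0 => 0
  | n + 1 => 1 + 2 ^ 64 * ones n

theorem onesP_eq : onesP = ones 52 := by decide +kernel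

/-- column `k` of a packed matrix -/
def colk (A k : ℕ) : ℕ := (A >>> (64 * k)) % 2 ^ 64

/-- partial product over the first `k` values of the inner index -/
def mulAux (A B : ℕ) : ℕ → ℕ
  | 0 => 0
  | k + 1 => mulAux A B k ^^^ (colk A k * ((B >>> k) &&& onesP))

/-- product of packed matrices -/
def mulP (A B : ℕ) : ℕ := mulAux A B 52

/-- a bit as an element of the field with two elements -/
def bz (b : Bool) : ZMod 2 := bif b then 1 else 0

theorem bz_xor : ∀ a b : Bool, bz (a != b) = bz a + bz b := by decide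
theorem bz_and : ∀ a b : Bool, bz (a && b) = bz a * bz b := by decide
theorem bz_inj : ∀ {a b : Bool}, bz a = bz b → a = b := by decide

theorem spread_succ (P k n : ℕ) :
    (P >>> k) &&& ones (n + 1) = 2 ^ 64 * ((P >>> (64 + k)) &&& ones n) + (P.testBit k).toNat := by
  apply Nat.eq_of_testBit_eq
  intro p
  have h1 : (P.testBit k).toNat < 2 ^ 64 := (Bool.toNat_le _).trans_lt (by norm_num)
  have h2 : ones (n + 1) = 2 ^ 64 * ones n + 1 := by
    show 1 + 2 ^ 64 * ones n = _
    omega
  rw [Nat.testBit_two_pow_mul_add _ h1, Nat.testBit_and, h2,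
    Nat.testBit_two_pow_mul_add _ (by norm_num : (1 : ℕ) < 2 ^ 64), Nat.testBit_shiftRight]
  by_cases hp : p < 64
  · simp only [hp, if_true]
    rcases Nat.eq_zero_or_pos p with rfl | hp0
    · cases h : P.testBit k <;> simp [h]
    · have e1 : (1 : ℕ).testBit p = false :=
        Nat.testBit_lt_two_pow (Nat.one_lt_two_pow hp0.ne')
      have e2 : ((P.testBit k).toNat).testBit p = false :=
        Nat.testBit_lt_two_pow ((Bool.toNat_le _).trans_lt (Nat.one_lt_two_pow hp0.ne'))
      simp [e1, e2]
  · simp only [hp, if_false]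
    rw [Nat.testBit_and, Nat.testBit_shiftRight]
    congr 2
    omega

theorem mul_spread (a : ℕ) (ha : a < 2 ^ 64) :
    ∀ (n P k j i : ℕ), j < n → i < 64 →
      (a * ((P >>> k) &&& ones n)).testBit (64 * j + i) = (P.testBit (64 * j + k) && a.testBit i) := by
  intro n
  induction n with
  | zero => intro P k j i hj; exact absurd hj (Nat.not_lt_zero _)
  | succ n ih =>
    intro P k j i hj hi
    have h1 : a * (P.testBit k).toNat < 2 ^ 64 := by
      cases P.testBit k
      · simp
      · simpa using ha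
    rw [spread_succ, Nat.mul_add, show a * (2 ^ 64 * ((P >>> (64 + k)) &&& ones n))
        = 2 ^ 64 * (a * ((P >>> (64 + k)) &&& ones n)) by ring,
      Nat.testBit_two_pow_mul_add _ h1]
    cases j with
    | zero =>
      simp only [Nat.mul_zero, Nat.zero_add, hi, if_true]
      cases h : P.testBit k <;> simp [h]
    | succ j =>
      have hn : ¬ (64 * (j + 1) + i < 64) := by omega
      simp only [hn, if_false]
      rw [show 64 * (j + 1) + i - 64 = 64 * j + i by omega, ih P (64 + k) j i (by omega) hi]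
      congr 2
      omega

theorem colk_testBit (A k i : ℕ) (hi : i < 64) : (colk A k).testBit i = A.testBit (64 * k + i) := by
  unfold colk
  rw [Nat.testBit_mod_two_pow, Nat.testBit_shiftRight]
  simp [hi]

/-- the matrix of a packed natural number -/
def toM (P : ℕ) : Matrix (Fin 52) (Fin 52) (ZMod 2) := fun i j => bz (P.testBit (64 * j.val + i.val))

theorem mulAux_entry (A B : ℕ) (i j : Fin 52) : ∀ k : ℕ, bz ((mulAux A B k).testBit (64 * j.val + i.val)) =
    ∑ x ∈ Finset.range k, bz (A.testBit (64 * x + i.val)) * bz (B.testBit (64 * j.val + x)) := by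
  intro k
  induction k with
  | zero => simp [mulAux, bz]
  | succ k ih =>
    rw [Finset.sum_range_succ, ← ih, show mulAux A B (k + 1) =
        mulAux A B k ^^^ (colk A k * ((B >>> k) &&& onesP)) from rfl, Nat.testBit_xor, onesP_eq]
    rw [bz_xor, mul_spread (colk A k) (Nat.mod_lt _ (by norm_num)) 52 B k j.val i.val j.isLt (by omega), bz_and,
      colk_testBit _ _ _ (by omega), mul_comm (bz (B.testBit _))]

theorem toM_mul (A B : ℕ) : toM (mulP A B) = toM A * toM B := by
  ext i j
  rw [Matrix.mul_apply]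
  show bz ((mulP A B).testBit _) = _
  rw [mulP, mulAux_entry, ← Fin.sum_univ_eq_sum_range]
  rfl

theorem toM_one : toM oneP = 1 := by
  have h : ((List.finRange 52).all fun i : Fin 52 => (List.finRange 52).all fun j : Fin 52 =>
      oneP.testBit (64 * j.val + i.val) == decide (i.val = j.val)) = true := by decide +kernel
  simp only [List.all_eq_true, List.mem_finRange, true_implies, beq_iff_eq] at h
  ext i j
  rw [Matrix.one_apply]
  show bz (oneP.testBit _) = _
  rw [h i j]
  by_cases e : i = j
  · simp [e, bz]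
  · have hh : i.val ≠ j.val := fun hh => e (Fin.ext hh)
    simp [e, decide_eq_false hh, bz]

/-! ### The root elements and the generators -/

/-- the group of invertible matrices of size 52 on the index set of F₄ -/
abbrev GF : Type := GL chevF4.Idx (ZMod 2)

/-- the index set of F₄ as `Fin 52` -/
def eIdx : chevF4.Idx ≃ Fin 52 := (finSumFinEquiv : Fin 4 ⊕ Fin 48 ≃ Fin 52)

/-- the matrix of an element, on `Fin 52` -/
noncomputable def Φ : GF →* Matrix (Fin 52) (Fin 52) (ZMod 2) :=
  (Matrix.reindexAlgEquiv (ZMod 2) (ZMod 2) eIdx).toMonoidHom.comp (Units.coeHom _)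

theorem Φ_apply (g : GF) (i j : Fin 52) :
    Φ g i j = (g : Matrix chevF4.Idx chevF4.Idx (ZMod 2)) (eIdx.symm i) (eIdx.symm j) := rfl

theorem Φ_inj : Function.Injective Φ := fun g h e => by
  apply Units.ext
  ext a b
  have := congrFun (congrFun e (eIdx a)) (eIdx b)
  simpa [Φ_apply] using this

/-- packed root element by position -/
def rootP (k : ℕ) : ℕ := rootPs.getD k oneP

theorem rootP_sq (k : ℕ) : toM (rootP k) * toM (rootP k) = 1 := by
  have h : ∀ k < 13, Nat.beq (mulP (rootP k) (rootP k)) oneP = true := by decide +kernel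
  by_cases hk : k < 13
  · rw [← toM_mul, Nat.eq_of_beq_eq_true (h k hk), toM_one]
  · have e : rootP k = oneP := by
      unfold rootP
      rw [List.getD_eq_default]
      show rootPs.length ≤ k
      have : rootPs.length = 12 := by decide +kernel
      omega
    rw [e, toM_one, one_mul]

/-- a root element -/
noncomputable def rx (k : ℕ) : GF :=
  Units.map (Matrix.reindexAlgEquiv (ZMod 2) (ZMod 2) eIdx).symm.toMonoidHom
    ⟨toM (rootP k), toM (rootP k), rootP_sq k, rootP_sq k⟩

theorem Φ_rx (k : ℕ) : Φ (rx k) = toM (rootP k) := by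
  ext i j
  simp [Φ_apply, rx, Matrix.reindexAlgEquiv]

/-- product of packed root elements -/
def rootProd (w : List ℕ) : ℕ := w.foldl (fun acc k => mulP acc (rootP k)) oneP

/-- a generator of ²F₄(2) -/
noncomputable def gl (i : ℕ) : GF := ((genRoots.getD i []).map rx).prod

/-- packed generator -/
def gP (i : ℕ) : ℕ := genPs.getD i oneP

theorem foldl_val {f : ℕ → GF} {p : ℕ → ℕ} (h : ∀ k, Φ (f k) = toM (p k)) :
    ∀ (w : List ℕ) (a : ℕ) (g : GF), Φ g = toM a →
      Φ (g * (w.map f).prod) = toM (w.foldl (fun acc k => mulP acc (p k)) a) := by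
  intro w
  induction w with
  | nil => intro a g hg; simpa using hg
  | cons k w ih =>
    intro a g hg
    rw [List.map_cons, List.prod_cons, ← mul_assoc, List.foldl_cons]
    exact ih _ _ (by rw [map_mul, hg, h k, toM_mul])

theorem Φ_gl (i : ℕ) : Φ (gl i) = toM (gP i) := by
  have h := foldl_val Φ_rx (genRoots.getD i []) oneP 1 (by rw [map_one, toM_one])
  rw [one_mul] at h
  unfold gl
  rw [h]
  have hb : ∀ i < 8, Nat.beq (rootProd (genRoots.getD i [])) (gP i) = true := by decide +kernel
  by_cases hi : i < 8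
  · exact congrArg toM (Nat.eq_of_beq_eq_true (hb i hi))
  · have e1 : genRoots.getD i [] = [] := List.getD_eq_default _ _ (by
      have : genRoots.length = 8 := by decide +kernel
      omega)
    have e2 : gP i = oneP := List.getD_eq_default _ _ (by
      have : genPs.length = 8 := by decide +kernel
      omega)
    rw [e1, e2, List.foldl_nil]

/-- a word in the generators -/
noncomputable def ev (w : List ℕ) : GF := (w.map gl).prod

/-- packed value of a word -/
def evP (w : List ℕ) : ℕ := w.foldl (fun acc i => mulP acc (gP i)) oneP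

theorem Φ_ev (w : List ℕ) : Φ (ev w) = toM (evP w) := by
  have h := foldl_val Φ_gl w oneP 1 (by rw [map_one, toM_one])
  rw [one_mul] at h
  exact h

theorem ev_eq {v w : List ℕ} (h : Nat.beq (evP v) (evP w) = true) : ev v = ev w := by
  apply Φ_inj
  rw [Φ_ev, Φ_ev, Nat.eq_of_beq_eq_true h]

theorem ev_append (v w : List ℕ) : ev (v ++ w) = ev v * ev w := by
  simp [ev]

theorem ev_nil : ev [] = 1 := rfl

theorem ev_single (i : ℕ) : ev [i] = gl i := by simp [ev]

theorem ev_cons (i : ℕ) (w : List ℕ) : ev (i :: w) = gl i * ev w := List.prod_cons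

/-! ### The group -/

/-- the entries of a root element at parameter one, computed from the Chevalley datum -/
def rootOK (k : ℕ) : Bool :=
  (List.finRange 52).all fun i : Fin 52 => (List.finRange 52).all fun j : Fin 52 =>
    decide (chevF4.x (ZMod 2) (rootIds.getD k 0) 1 (eIdx.symm i) (eIdx.symm j) =
      bz ((rootP k).testBit (64 * j.val + i.val)))

theorem rootOK_all : ∀ k < 12, rootOK k = true := by decide +kernel

theorem coe_rx {k : ℕ} (hk : k < 12) :
    ((rx k : GF) : Matrix chevF4.Idx chevF4.Idx (ZMod 2)) = chevF4.x (ZMod 2) (rootIds.getD k 0) 1 := by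
  have h := rootOK_all k hk
  simp only [rootOK, List.all_eq_true, List.mem_finRange, true_implies, decide_eq_true_eq] at h
  ext a b
  have e := congrFun (congrFun (Φ_rx k) (eIdx a)) (eIdx b)
  rw [Φ_apply] at e
  replace e := e.trans (h (eIdx a) (eIdx b)).symm
  simpa using e

theorem x_zero (r : ℕ) : chevF4.x (ZMod 2) r 0 = 1 := by
  have hc : ∀ a b c : ℕ,
      ((chevF4.chainCoeff a b c).map fun km => ((km.2 : ℤ) : ZMod 2) * (0 : ZMod 2) ^ km.1).sum = 0 := by
    intro a b c
    apply List.sum_eq_zero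
    intro z hz
    simp only [ChevalleyDatum.chainCoeff, List.mem_map, List.mem_flatMap] at hz
    obtain ⟨km, ⟨_, _, q, _, rfl⟩, rfl⟩ := hz
    simp
  unfold ChevalleyDatum.x
  split
  · ext row col
    rcases col with i | s <;> rcases row with i' | u <;>
      simp [ChevalleyDatum.xMat, Matrix.one_apply, hc] <;> (repeat' split) <;> simp_all [eq_comm]
  · rfl

theorem gl_coe (i : ℕ) (hi : i < 8) : ((gl i : GF) : Matrix chevF4.Idx chevF4.Idx (ZMod 2)) =
    chevF4.wordMat (ZMod 2) ((genRoots.getD i []).map fun k => (rootIds.getD k 0, 1)) := by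
  have hl : ∀ i < 8, ∀ k ∈ genRoots.getD i [], k < 12 := by decide +kernel
  unfold gl ChevalleyDatum.wordMat
  rw [show ((((genRoots.getD i []).map rx).prod : GF) : Matrix chevF4.Idx chevF4.Idx (ZMod 2)) =
    (((genRoots.getD i []).map rx).map (Units.coeHom _)).prod from map_list_prod (Units.coeHom _) _]
  rw [List.map_map, List.map_map]
  congr 1
  refine List.map_congr_left fun k hk => ?_
  exact coe_rx (hl i hi k hk)

theorem wordMat_gen {g : GF}
    (h : ∃ w ∈ f4Words (ZMod 2) 1, (g : Matrix chevF4.Idx chevF4.Idx (ZMod 2)) = chevF4.wordMat (ZMod 2) w) :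
    g = 1 ∨ ∃ i < 8, g = gl i := by
  obtain ⟨w, hw, hg⟩ := h
  have h1 : (1 : ZMod 2) + 1 = 0 := rfl
  have h2 : ∀ t : ZMod 2, t = 0 ∨ t = 1 := by decide
  have key : ∀ i < 8, chevF4.wordMat (ZMod 2) w =
      chevF4.wordMat (ZMod 2) ((genRoots.getD i []).map fun k => (rootIds.getD k 0, 1)) →
      g = 1 ∨ ∃ i < 8, g = gl i :=
    fun i hi e => Or.inr ⟨i, hi, Units.ext ((hg.trans e).trans (gl_coe i hi).symm)⟩
  have keyOne : chevF4.wordMat (ZMod 2) w = 1 → g = 1 ∨ ∃ i < 8, g = gl i :=
    fun e => Or.inl (Units.ext (hg.trans e))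
  rcases hw with ⟨t, rfl | rfl⟩ | ⟨t, u, rfl | rfl⟩
  · rcases h2 t with rfl | rfl
    · exact keyOne (by simp [f4PairWord, ChevalleyDatum.wordMat, x_zero])
    · exact key 0 (by norm_num)
        (by simp [f4PairWord, ChevalleyDatum.wordMat, genRoots, rootIds, f4p1, f4p4])
  · rcases h2 t with rfl | rfl
    · exact keyOne (by simp [f4PairWord, ChevalleyDatum.wordMat, x_zero])
    · exact key 4 (by norm_num)
        (by simp [f4PairWord, ChevalleyDatum.wordMat, genRoots, rootIds, f4m1, f4m4])
  · rcases h2 t with rfl | rfl <;> rcases h2 u with rfl | rfl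
    · exact keyOne (by simp [b2ClassWord, ChevalleyDatum.wordMat, x_zero])
    · exact key 2 (by norm_num)
        (by simp [b2ClassWord, ChevalleyDatum.wordMat, x_zero, genRoots, rootIds, f4a, f4b, f4ab, f4aab])
    · exact key 1 (by norm_num)
        (by simp [b2ClassWord, ChevalleyDatum.wordMat, x_zero, genRoots, rootIds, f4a, f4b, f4ab, f4aab])
    · exact key 3 (by norm_num)
        (by simp [b2ClassWord, ChevalleyDatum.wordMat, x_zero, genRoots, rootIds, f4a, f4b, f4ab, f4aab, h1])
  · rcases h2 t with rfl | rfl <;> rcases h2 u with rfl | rfl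
    · exact keyOne (by simp [b2ClassWord, ChevalleyDatum.wordMat, x_zero])
    · exact key 6 (by norm_num)
        (by simp [b2ClassWord, ChevalleyDatum.wordMat, x_zero, genRoots, rootIds, f4ma, f4mb, f4mab, f4maab])
    · exact key 5 (by norm_num)
        (by simp [b2ClassWord, ChevalleyDatum.wordMat, x_zero, genRoots, rootIds, f4ma, f4mb, f4mab, f4maab])
    · exact key 7 (by norm_num)
        (by simp [b2ClassWord, ChevalleyDatum.wordMat, x_zero, genRoots, rootIds, f4ma, f4mb, f4mab, f4maab, h1])

theorem gl_mem (i : ℕ) : gl i ∈ twistedF4 (ZMod 2) 1 := by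
  by_cases hi : i < 8
  · have h1 : (1 : ZMod 2) + 1 = 0 := rfl
    refine Subgroup.subset_closure ?_
    rw [Set.mem_ofPred_eq, gl_coe i hi]
    interval_cases i
    · exact ⟨_, Or.inl ⟨1, Or.inl rfl⟩, by
        simp [f4PairWord, ChevalleyDatum.wordMat, genRoots, rootIds, f4p1, f4p4]⟩
    · exact ⟨_, Or.inr ⟨1, 0, Or.inl rfl⟩, by
        simp [b2ClassWord, ChevalleyDatum.wordMat, x_zero, genRoots, rootIds, f4a, f4b, f4ab, f4aab]⟩
    · exact ⟨_, Or.inr ⟨0, 1, Or.inl rfl⟩, by
        simp [b2ClassWord, ChevalleyDatum.wordMat, x_zero, genRoots, rootIds, f4a, f4b, f4ab, f4aab]⟩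
    · exact ⟨_, Or.inr ⟨1, 1, Or.inl rfl⟩, by
        simp [b2ClassWord, ChevalleyDatum.wordMat, x_zero, genRoots, rootIds, f4a, f4b, f4ab, f4aab, h1]⟩
    · exact ⟨_, Or.inl ⟨1, Or.inr rfl⟩, by
        simp [f4PairWord, ChevalleyDatum.wordMat, genRoots, rootIds, f4m1, f4m4]⟩
    · exact ⟨_, Or.inr ⟨1, 0, Or.inr rfl⟩, by
        simp [b2ClassWord, ChevalleyDatum.wordMat, x_zero, genRoots, rootIds, f4ma, f4mb, f4mab, f4maab]⟩
    · exact ⟨_, Or.inr ⟨0, 1, Or.inr rfl⟩, by
        simp [b2ClassWord, ChevalleyDatum.wordMat, x_zero, genRoots, rootIds, f4ma, f4mb, f4mab, f4maab]⟩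
    · exact ⟨_, Or.inr ⟨1, 1, Or.inr rfl⟩, by
        simp [b2ClassWord, ChevalleyDatum.wordMat, x_zero, genRoots, rootIds, f4ma, f4mb, f4mab, f4maab, h1]⟩
  · have e : genRoots.getD i [] = [] := List.getD_eq_default _ _ (by
      have : genRoots.length = 8 := by decide +kernel
      omega)
    have e' : gl i = 1 := by rw [gl, e]; rfl
    rw [e']
    exact one_mem _

attribute [irreducible] ev gl rx Φ evP mulP

end Cfsg.Agent.TitsTwo15
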