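import Cfsg.Agent.Lib.TwistedTools
import Cfsg.Agent.Lib.ChevWeylData
import Cfsg.Agent.Lib.ChevExcGraphReal
import Cfsg.Agent.Lib.TitsTwoBase15
import Cfsg.Prelude.Def_LieTwisted

/-!
`²F₄(q)` as fixed points of the exceptional symmetry with a field automorphism: the two classes of fundamental
roots.
-/

set_option autoImplicit false
set_option linter.unusedSectionVars false
set_option maxRecDepth 20000

namespace Cfsg.Agent.TwistedF4Classes

open Cfsg.Lie Cfsg.Agent.ChevalleyCert Cfsg.Agent.ChevalleyCore Cfsg.Agent.ChevalleyRoots Cfsg.Agent.ChevalleyTorus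
  Cfsg.Agent.TwistedCore Cfsg.Agent.TwistedTools Cfsg.Agent.ChevWeyl Cfsg.Agent.ChevBruhat

/-- the certificate -/
noncomputable def cf : Cert chevF4 := ChevalleyAll.cert chevF4 (by simp)

/-- the index of a node -/
abbrev nd (i : ℕ) (h : i < chevF4.rank := by decide) : Fin chevF4.rank := ⟨i, h⟩

theorem roots_eq : chevF4.simple 0 = f4p1 ∧ chevF4.simple 1 = f4a ∧ chevF4.simple 2 = f4b ∧
    chevF4.simple 3 = f4p4 ∧ chevF4.neg f4p1 = f4m1 ∧ chevF4.neg f4p4 = f4m4 ∧ chevF4.neg f4a = f4ma ∧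
    chevF4.neg f4b = f4mb := by
  decide +kernel

variable {K : Type*} [Field K] [Fintype K] [CharP K 2] (m : ℕ)

/-- the exponent of the field endomorphism -/
local notation "ε" => (2 ^ m : ℕ)

variable (K) in
theorem exists_graph : ∃ α : ↥(chevF4.group K) ≃* ↥(chevF4.group K), ∀ (g : ↥(chevF4.group K)) (r : ℕ) (t : K),
    r < chevF4.nroots → ((g : GL chevF4.Idx K) : Matrix chevF4.Idx chevF4.Idx K) = chevF4.x K r t →
      ((α g : GL chevF4.Idx K) : Matrix chevF4.Idx chevF4.Idx K) =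
        chevF4.x K (ChevExcGraphData.excF4.rho r) (t ^ ChevExcGraphData.excF4.e r) := by
  have : CharP K ChevExcGraphData.excF4.p := (inferInstance : CharP K 2)
  exact ChevExcGraph.exists_aut ChevExcGraphData.excF4 cf (ChevBruhatInstance.sys chevF4 (by simp) K) (Or.inl rfl)
    fun x => (bijective_frobenius K 2).2 x

variable (K) in
/-- the exceptional graph automorphism -/
noncomputable def graph : ↥(chevF4.group K) ≃* ↥(chevF4.group K) := Classical.choose (exists_graph K)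

theorem graph_x {r : ℕ} (hr : r < chevF4.nroots) (t : K) (h : xg cf r t ∈ chevF4.group K) :
    (graph K ⟨_, h⟩ : GL chevF4.Idx K) =
      xg cf (ChevExcGraphData.excF4.rho r) (t ^ ChevExcGraphData.excF4.e r) :=
  Units.ext ((Classical.choose_spec (exists_graph K) ⟨_, h⟩ r t hr (coe_xg cf r t)).trans (coe_xg cf _ _).symm)

theorem frob_mem {g : GL chevF4.Idx K} (hg : g ∈ chevF4.group K) :
    Matrix.GeneralLinearGroup.map (iterateFrobenius K 2 m) g ∈ chevF4.group K := by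
  induction hg using Subgroup.closure_induction with
  | mem g hg =>
    obtain ⟨⟨r, hr⟩, t, hg⟩ := hg
    obtain rfl : g = xg cf r t := Units.ext (hg.trans (by simp [ChevalleyDatum.x, hr]))
    rw [xg_map]
    exact xg_mem_group cf _ _
  | one => rw [map_one]; exact one_mem _
  | mul a b _ _ ha hb => rw [map_mul]; exact mul_mem ha hb
  | inv a _ ha => rw [map_inv]; exact inv_mem ha

/-- the endomorphism -/
noncomputable def sigma : ↥(chevF4.group K) →* GL chevF4.Idx K :=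
  (chevF4.group K).subtype.comp ((graph K).toMonoidHom.comp
    (((Matrix.GeneralLinearGroup.map (iterateFrobenius K 2 m)).comp (chevF4.group K).subtype).codRestrict _
      fun g => frob_mem m g.2))

theorem sigma_x {r : ℕ} (hr : r < chevF4.nroots) (t : K) (h : xg cf r t ∈ chevF4.group K) :
    sigma m ⟨_, h⟩ =
      xg cf (ChevExcGraphData.excF4.rho r) (t ^ (ε * ChevExcGraphData.excF4.e r)) := by
  have e : ((Matrix.GeneralLinearGroup.map (iterateFrobenius K 2 m)).comp (chevF4.group K).subtype).codRestrict _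
      (fun g => frob_mem m g.2) ⟨_, h⟩ = ⟨xg cf r (t ^ ε), xg_mem_group cf _ _⟩ :=
    Subtype.ext ((xg_map cf _ r t).trans (by rw [iterateFrobenius_def]))
  show ((graph K _ : ↥(chevF4.group K)) : GL chevF4.Idx K) = _
  rw [e, graph_x hr, pow_mul]

theorem node_ok : ∀ i < chevF4.rank, ChevExcGraphData.excF4.rho (chevF4.simple i) =
    chevF4.simple (ChevExcGraphData.piF4.getD i 0) ∧
    ChevExcGraphData.excF4.rho (chevF4.neg (chevF4.simple i)) =
      chevF4.neg (chevF4.simple (ChevExcGraphData.piF4.getD i 0)) ∧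
    ChevExcGraphData.excF4.e (chevF4.simple i) = 2 ^ (if i < 2 then 1 else 0) ∧
    ChevExcGraphData.excF4.e (chevF4.neg (chevF4.simple i)) = 2 ^ (if i < 2 then 1 else 0) := by
  decide +kernel

theorem node_lt : ∀ i < chevF4.rank, chevF4.simple i < chevF4.nroots ∧
    chevF4.neg (chevF4.simple i) < chevF4.nroots ∧ ChevExcGraphData.piF4.getD i 0 < chevF4.rank := by
  decide +kernel

/-- the twist -/
noncomputable def tw : Twist cf K where
  wX := ChevWeylData.f4
  supp := by decide +kernel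
  ρ := ChevExcGraphData.excF4.rho
  ρs i := ChevExcGraphData.piF4.getD i 0
  ρi i := ChevExcGraphData.piF4.getD i 0
  fr i := iterateFrobenius K 2 (m + if i < 2 then 1 else 0)
  σ := sigma m
  ρs_lt := by decide +kernel
  ρ_lt r hr := (ChevExcGraphData.excF4.rho_ok r hr).1
  ρ_inj := by
    have key : ∀ r < chevF4.nroots, ChevExcGraphData.excF4.rho (ChevExcGraphData.excF4.rho r) = r := by
      decide +kernel
    intro r hr s hs h
    rw [← key r hr, h, key s hs]
  ρ_simple i hi := (node_ok i hi).1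
  ρ_neg := by decide +kernel
  ρ_refl := by decide +kernel
  ρ_pos := by decide +kernel
  σ_pos i hi t h := by
    obtain ⟨e1, -, e3, -⟩ := node_ok i hi
    rw [sigma_x m (node_lt i hi).1, e1, e3, ← pow_add, iterateFrobenius_def]
  σ_neg i hi t h := by
    obtain ⟨-, e2, -, e4⟩ := node_ok i hi
    rw [sigma_x m (node_lt i hi).2.1, e2, e4, ← pow_add, iterateFrobenius_def]

theorem sg_x {r : ℕ} (hr : r < chevF4.nroots) (t : K) :
    (tw (K := K) m).sg (xg cf r t) =
      xg cf (ChevExcGraphData.excF4.rho r) (t ^ (ε * ChevExcGraphData.excF4.e r)) := by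
  rw [(tw m).sg_eq (xg_mem_group cf r t)]
  exact sigma_x m hr t _

theorem sg_vals (t : K) :
    (tw (K := K) m).sg (xg cf f4p1 t) = xg cf f4p4 (t ^ (ε * 2)) ∧
    (tw (K := K) m).sg (xg cf f4p4 t) = xg cf f4p1 (t ^ ε) ∧
    (tw (K := K) m).sg (xg cf f4m1 t) = xg cf f4m4 (t ^ (ε * 2)) ∧
    (tw (K := K) m).sg (xg cf f4m4 t) = xg cf f4m1 (t ^ ε) ∧
    (tw (K := K) m).sg (xg cf f4a t) = xg cf f4b (t ^ (ε * 2)) ∧
    (tw (K := K) m).sg (xg cf f4b t) = xg cf f4a (t ^ ε) ∧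
    (tw (K := K) m).sg (xg cf f4ab t) = xg cf f4aab (t ^ (ε * 2)) ∧
    (tw (K := K) m).sg (xg cf f4aab t) = xg cf f4ab (t ^ ε) ∧
    (tw (K := K) m).sg (xg cf f4ma t) = xg cf f4mb (t ^ (ε * 2)) ∧
    (tw (K := K) m).sg (xg cf f4mb t) = xg cf f4ma (t ^ ε) ∧
    (tw (K := K) m).sg (xg cf f4mab t) = xg cf f4maab (t ^ (ε * 2)) ∧
    (tw (K := K) m).sg (xg cf f4maab t) = xg cf f4mab (t ^ ε) := by
  have key : ∀ p ∈ [(f4p1, f4p4, 2), (f4p4, f4p1, 1), (f4m1, f4m4, 2), (f4m4, f4m1, 1), (f4a, f4b, 2),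
      (f4b, f4a, 1), (f4ab, f4aab, 2), (f4aab, f4ab, 1), (f4ma, f4mb, 2), (f4mb, f4ma, 1), (f4mab, f4maab, 2),
      (f4maab, f4mab, 1)], p.1 < chevF4.nroots ∧ ChevExcGraphData.excF4.rho p.1 = p.2.1 ∧
      ChevExcGraphData.excF4.e p.1 = p.2.2 := by decide +kernel
  have get : ∀ r r' x, (r, r', x) ∈ [(f4p1, f4p4, 2), (f4p4, f4p1, 1), (f4m1, f4m4, 2), (f4m4, f4m1, 1), (f4a, f4b, 2),
      (f4b, f4a, 1), (f4ab, f4aab, 2), (f4aab, f4ab, 1), (f4ma, f4mb, 2), (f4mb, f4ma, 1), (f4mab, f4maab, 2),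
      (f4maab, f4mab, 1)] → ∀ t : K, (tw (K := K) m).sg (xg cf r t) = xg cf r' (t ^ (ε * x)) := by
    intro r r' x hx t
    obtain ⟨h1, h2, h3⟩ := key _ hx
    rw [sg_x m h1, show ChevExcGraphData.excF4.rho r = r' from h2, show ChevExcGraphData.excF4.e r = x from h3]
  have one : ∀ r r', (r, r', 1) ∈ [(f4p1, f4p4, 2), (f4p4, f4p1, 1), (f4m1, f4m4, 2), (f4m4, f4m1, 1), (f4a, f4b, 2),
      (f4b, f4a, 1), (f4ab, f4aab, 2), (f4aab, f4ab, 1), (f4ma, f4mb, 2), (f4mb, f4ma, 1), (f4mab, f4maab, 2),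
      (f4maab, f4mab, 1)] → ∀ t : K, (tw (K := K) m).sg (xg cf r t) = xg cf r' (t ^ ε) := fun r r' hx t => by
    rw [get r r' 1 hx, mul_one]
  exact ⟨get _ _ _ (by simp) t, one _ _ (by simp) t, get _ _ _ (by simp) t, one _ _ (by simp) t,
    get _ _ _ (by simp) t, one _ _ (by simp) t, get _ _ _ (by simp) t, one _ _ (by simp) t,
    get _ _ _ (by simp) t, one _ _ (by simp) t, get _ _ _ (by simp) t, one _ _ (by simp) t⟩

/-! ### the pair class -/

theorem orth_ok : ∀ r ∈ [f4p1, f4m1], ∀ s ∈ [f4p4, f4m4], r < chevF4.nroots ∧ s < chevF4.nroots ∧ s ≠ r ∧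
    s ≠ chevF4.neg r ∧ chevF4.commTerms r s = [] := by
  decide +kernel

theorem comm_pair {r s : ℕ} (hr : r ∈ [f4p1, f4m1]) (hs : s ∈ [f4p4, f4m4]) (t u : K) :
    Commute (xg cf r t) (xg cf s u) := by
  obtain ⟨h1, h2, h3, h4, h5⟩ := orth_ok r hr s hs
  exact commute_xg cf h1 h2 h3 h4 h5 t u

/-- the product of the two root elements of the pair class -/
noncomputable def pr (a b : K) : GL chevF4.Idx K := xg cf f4p1 a * xg cf f4p4 b

/-- the product of the two opposite root elements of the pair class -/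
noncomputable def prn (a b : K) : GL chevF4.Idx K := xg cf f4m1 a * xg cf f4m4 b

theorem pr_mul (a b a' b' : K) : pr a b * pr a' b' = pr (a + a') (b + b') := by
  have h : Commute (xg cf f4p1 a') (xg cf f4p4 b) := comm_pair (by simp) (by simp) _ _
  unfold pr
  rw [← xg_mul cf, ← xg_mul cf]
  calc xg cf f4p1 a * xg cf f4p4 b * (xg cf f4p1 a' * xg cf f4p4 b')
      = xg cf f4p1 a * (xg cf f4p4 b * xg cf f4p1 a') * xg cf f4p4 b' := by group
    _ = _ := by rw [← h.eq]; group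

/-! ### the class of type B₂ -/

/-- the four roots of the class, in order -/
abbrev bl : List ℕ := [f4a, f4b, f4ab, f4aab]

/-- their negatives -/
abbrev bln : List ℕ := [f4ma, f4mb, f4mab, f4maab]

/-- the ordered product over four roots -/
noncomputable def four (l : List ℕ) (a b c d : K) : GL chevF4.Idx K :=
  xg cf (l.getD 0 0) a * xg cf (l.getD 1 0) b * xg cf (l.getD 2 0) c * xg cf (l.getD 3 0) d

theorem terms_ok : ∀ l ∈ [bl, bln],
    ((chevF4.commTerms (l.getD 0 0) (l.getD 1 0)).map fun c => (c.1, c.2.1.natAbs % 2, c.2.2)) =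
      [(l.getD 2 0, 1, 1, 1), (l.getD 3 0, 1, 2, 1)] ∧
    ∀ p ∈ [((0 : ℕ), (2 : ℕ)), (0, 3), (1, 2), (1, 3), (2, 3)],
      ∀ c ∈ chevF4.commTerms (l.getD p.1 0) (l.getD p.2 0), c.2.1 % 2 = 0 := by
  decide +kernel

theorem four_lt : ∀ l ∈ [bl, bln], ∀ i < 4, ∀ j < 4, l.getD i 0 < chevF4.nroots ∧
    (i ≠ j → l.getD j 0 ≠ l.getD i 0 ∧ l.getD j 0 ≠ chevF4.neg (l.getD i 0)) := by
  decide +kernel

theorem cast_even {z : ℤ} (h : z % 2 = 0) : (z : K) = 0 :=
  (CharP.intCast_eq_zero_iff K 2 z).mpr (Int.dvd_of_emod_eq_zero h)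

theorem cast_odd {z : ℤ} (h : z.natAbs % 2 = 1) : (z : K) = 1 := by
  obtain ⟨k, hk⟩ : ∃ k, z = 2 * k + 1 := ⟨z / 2, by omega⟩
  rw [hk, Int.cast_add, Int.cast_mul, cast_even (K := K) (z := 2) rfl, zero_mul, zero_add, Int.cast_one]

theorem wg_zeros : ∀ (w : List (ℕ × K)), (∀ p ∈ w, p.2 = 0) → wg cf w = 1
  | [], _ => wg_nil cf
  | p :: w, h => by
    rw [wg_cons, wg_zeros w fun q hq => h q (List.mem_cons_of_mem _ hq), h p List.mem_cons_self, xg_zero, one_mul]

theorem comm_four {l : List ℕ} (hl : l ∈ [bl, bln]) {i j : ℕ}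
    (hij : (i, j) ∈ [((0 : ℕ), (2 : ℕ)), (0, 3), (1, 2), (1, 3), (2, 3)]) (t u : K) :
    Commute (xg cf (l.getD i 0) t) (xg cf (l.getD j 0) u) := by
  have hlt : i < 4 ∧ j < 4 ∧ i ≠ j := by
    simp only [List.mem_cons, List.not_mem_nil, or_false, Prod.mk.injEq] at hij; omega
  obtain ⟨hr, hne⟩ := four_lt l hl i hlt.1 j hlt.2.1
  obtain ⟨hs, -⟩ := four_lt l hl j hlt.2.1 i hlt.1
  have h := comm_formula cf hr hs (hne hlt.2.2).1 (hne hlt.2.2).2 t u
  rw [wg_zeros (chevF4.commWord K _ _ t u), mul_one] at h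
  · exact h.symm
  · intro p hp
    obtain ⟨c, hc, rfl⟩ := List.mem_map.mp hp
    simp [cast_even (K := K) ((terms_ok l hl).2 _ hij c hc)]

theorem swap_ab {l : List ℕ} (hl : l ∈ [bl, bln]) (t u : K) :
    xg cf (l.getD 1 0) u * xg cf (l.getD 0 0) t = four l t u (t * u) (t ^ 2 * u) := by
  obtain ⟨hr, hne⟩ := four_lt l hl 0 (by norm_num) 1 (by norm_num)
  obtain ⟨hs, -⟩ := four_lt l hl 1 (by norm_num) 0 (by norm_num)
  have h := comm_formula cf hr hs (hne (by norm_num)).1 (hne (by norm_num)).2 t u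
  rw [h, four]
  have ht := (terms_ok l hl).1
  rcases hc : chevF4.commTerms (l.getD 0 0) (l.getD 1 0) with
      _ | ⟨⟨r1, k1, a1, b1⟩, _ | ⟨⟨r2, k2, a2, b2⟩, _ | ⟨c3, r⟩⟩⟩ <;>
    rw [hc] at ht <;> simp only [List.map_cons, List.map_nil, List.cons.injEq, Prod.mk.injEq, reduceCtorEq,
      and_false, and_true] at ht
  obtain ⟨⟨h1, h2, h3, h4⟩, h5, h6, h7, h8⟩ := ht
  rw [show chevF4.commWord K (l.getD 0 0) (l.getD 1 0) t u =
      [(l.getD 2 0, t * u), (l.getD 3 0, t ^ 2 * u)] by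
    rw [ChevalleyDatum.commWord, hc]
    simp only [List.map_cons, List.map_nil, h1, h3, h4, h5, h7, h8, cast_odd (K := K) h2, cast_odd (K := K) h6,
      one_mul, CharTwo.neg_eq, pow_one]]
  simp [wg, mul_assoc]

theorem four_mul {l : List ℕ} (hl : l ∈ [bl, bln]) (a b c d a' b' c' d' : K) :
    four l a b c d * four l a' b' c' d' = four l (a + a') (b + b') (c + c' + a' * b) (d + d' + a' ^ 2 * b) := by
  have hac := fun t u : K => (comm_four hl (i := 0) (j := 2) (by simp) t u).eq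
  have had := fun t u : K => (comm_four hl (i := 0) (j := 3) (by simp) t u).eq
  have hbc := fun t u : K => (comm_four hl (i := 1) (j := 2) (by simp) t u).eq
  have hbd := fun t u : K => (comm_four hl (i := 1) (j := 3) (by simp) t u).eq
  have hcd := fun t u : K => (comm_four hl (i := 2) (j := 3) (by simp) t u).eq
  have hsw : ∀ t u : K, xg cf (l.getD 1 0) u * xg cf (l.getD 0 0) t =
      xg cf (l.getD 0 0) t * xg cf (l.getD 1 0) u * xg cf (l.getD 2 0) (t * u) *
        xg cf (l.getD 3 0) (t ^ 2 * u) := fun t u => swap_ab hl t u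
  unfold four
  set A := xg (F := K) cf (l.getD 0 0)
  set B := xg (F := K) cf (l.getD 1 0)
  set C := xg (F := K) cf (l.getD 2 0)
  set E := xg (F := K) cf (l.getD 3 0)
  have mA : ∀ t u, A t * A u = A (t + u) := fun t u => xg_mul cf _ t u
  have mB : ∀ t u, B t * B u = B (t + u) := fun t u => xg_mul cf _ t u
  have mC : ∀ t u, C t * C u = C (t + u) := fun t u => xg_mul cf _ t u
  have mE : ∀ t u, E t * E u = E (t + u) := fun t u => xg_mul cf _ t u
  calc A a * B b * C c * E d * (A a' * B b' * C c' * E d')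
      = A a * B b * C c * (E d * A a') * B b' * C c' * E d' := by group
    _ = A a * B b * (C c * A a') * E d * B b' * C c' * E d' := by rw [← had]; group
    _ = A a * (B b * A a') * C c * (E d * B b') * C c' * E d' := by rw [← hac]; group
    _ = A a * A a' * B b * C (a' * b) * E (a' ^ 2 * b) * (C c * B b') * E d * C c' * E d' := by
        rw [hsw, ← hbd]; group
    _ = A a * A a' * B b * C (a' * b) * (E (a' ^ 2 * b) * B b') * C c * (E d * C c') * E d' := by
        rw [← hbc]; group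
    _ = A a * A a' * B b * (C (a' * b) * B b') * (E (a' ^ 2 * b) * C c) * C c' * (E d * E d') := by
        rw [← hbd, ← hcd]; group
    _ = A a * A a' * (B b * B b') * C (a' * b) * C c * (E (a' ^ 2 * b) * C c') * (E d * E d') := by
        rw [← hbc, ← hcd]; group
    _ = (A a * A a') * (B b * B b') * (C (a' * b) * C c * C c') * (E (a' ^ 2 * b) * (E d * E d')) := by
        rw [← hcd]; group
    _ = _ := by
        rw [mA, mB, mC, mC, mE, mE, show a' * b + c + c' = c + c' + a' * b by ring,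
          show a' ^ 2 * b + (d + d') = d + d' + a' ^ 2 * b by ring]

/-! ### the generators are fixed -/

variable (hK : Fintype.card K = 2 ^ (2 * m + 1))

include hK in
theorem pow_twist (t : K) : (t ^ ε) ^ (ε * 2) = t ∧ (t ^ (ε * 2)) ^ ε = t := by
  have h : ε * (ε * 2) = Fintype.card K := by rw [hK, pow_succ, two_mul, pow_add, mul_assoc]
  constructor <;> rw [← pow_mul]
  · rw [h, FiniteField.pow_card]
  · rw [mul_comm (ε * 2), h, FiniteField.pow_card]

theorem zero_pow_eps : (0 : K) ^ ε = 0 := zero_pow (by positivity)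

theorem sg_pr (a b : K) :
    (tw (K := K) m).sg (pr a b) = pr (b ^ ε) (a ^ (ε * 2)) ∧
    (tw (K := K) m).sg (prn a b) = prn (b ^ ε) (a ^ (ε * 2)) := by
  constructor
  · unfold pr
    rw [(tw m).sg_mul (xg_mem_group cf _ _) (xg_mem_group cf _ _), (sg_vals m a).1, (sg_vals m b).2.1]
    exact (comm_pair (by simp) (by simp) _ _).eq.symm
  · unfold prn
    rw [(tw m).sg_mul (xg_mem_group cf _ _) (xg_mem_group cf _ _), (sg_vals m a).2.2.1, (sg_vals m b).2.2.2.1]
    exact (comm_pair (by simp) (by simp) _ _).eq.symm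

theorem four_group (l : List ℕ) (a b c d : K) : four l a b c d ∈ chevF4.group K :=
  mul_mem (mul_mem (mul_mem (xg_mem_group cf _ _) (xg_mem_group cf _ _)) (xg_mem_group cf _ _)) (xg_mem_group cf _ _)

theorem four_single (l : List ℕ) (x : K) : four l x 0 0 0 = xg cf (l.getD 0 0) x ∧
    four l 0 x 0 0 = xg cf (l.getD 1 0) x ∧ four l 0 0 x 0 = xg cf (l.getD 2 0) x ∧
    four l 0 0 0 x = xg cf (l.getD 3 0) x := by
  simp [four]

theorem sg_four {l : List ℕ} (hl : l ∈ [bl, bln]) (a b c d : K) :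
    (tw (K := K) m).sg (four l a b c d) =
      four l (b ^ ε) (a ^ (ε * 2)) (d ^ ε + b ^ ε * a ^ (ε * 2)) (c ^ (ε * 2) + (b ^ ε) ^ 2 * a ^ (ε * 2)) := by
  have hg : ∀ (r : ℕ) (t : K), xg cf r t ∈ chevF4.group K := fun r t => xg_mem_group cf r t
  have hs : (tw (K := K) m).sg (four l a b c d) = (tw (K := K) m).sg (xg cf (l.getD 0 0) a) *
      (tw (K := K) m).sg (xg cf (l.getD 1 0) b) * (tw (K := K) m).sg (xg cf (l.getD 2 0) c) *
      (tw (K := K) m).sg (xg cf (l.getD 3 0) d) := by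
    unfold four
    rw [(tw m).sg_mul (mul_mem (mul_mem (hg _ _) (hg _ _)) (hg _ _)) (hg _ _),
      (tw m).sg_mul (mul_mem (hg _ _) (hg _ _)) (hg _ _), (tw m).sg_mul (hg _ _) (hg _ _)]
  have hv : (tw (K := K) m).sg (xg cf (l.getD 0 0) a) = xg cf (l.getD 1 0) (a ^ (ε * 2)) ∧
      (tw (K := K) m).sg (xg cf (l.getD 1 0) b) = xg cf (l.getD 0 0) (b ^ ε) ∧
      (tw (K := K) m).sg (xg cf (l.getD 2 0) c) = xg cf (l.getD 3 0) (c ^ (ε * 2)) ∧
      (tw (K := K) m).sg (xg cf (l.getD 3 0) d) = xg cf (l.getD 2 0) (d ^ ε) := by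
    simp only [List.mem_cons, List.not_mem_nil, or_false] at hl
    rcases hl with rfl | rfl
    · exact ⟨(sg_vals m a).2.2.2.2.1, (sg_vals m b).2.2.2.2.2.1, (sg_vals m c).2.2.2.2.2.2.1,
        (sg_vals m d).2.2.2.2.2.2.2.1⟩
    · exact ⟨(sg_vals m a).2.2.2.2.2.2.2.2.1, (sg_vals m b).2.2.2.2.2.2.2.2.2.1,
        (sg_vals m c).2.2.2.2.2.2.2.2.2.2.1, (sg_vals m d).2.2.2.2.2.2.2.2.2.2.2⟩
  obtain ⟨v0, v1, v2, v3⟩ := hv
  rw [hs, v0, v1, v2, v3, ← (four_single l _).2.1, ← (four_single l _).1, ← (four_single l (c ^ (ε * 2))).2.2.2,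
    ← (four_single l (d ^ ε)).2.2.1, four_mul hl, four_mul hl, four_mul hl]
  congr 1 <;> ring

/-- a fixed element of the class of type B₂ -/
noncomputable def bw (l : List ℕ) (t u : K) : GL chevF4.Idx K := four l (t ^ ε) t (t ^ (ε + 1) + u) (u ^ (ε * 2))

theorem wg_two (r s : ℕ) (a b : K) : wg cf [(r, a), (s, b)] = xg cf r a * xg cf s b := by simp [wg]

theorem wg_four (p q r s : ℕ) (a b c d : K) :
    wg cf [(p, a), (q, b), (r, c), (s, d)] = xg cf p a * xg cf q b * xg cf r c * xg cf s d := by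
  simp [wg, mul_assoc]

theorem gens (t u : K) :
    wg cf (f4PairWord ε f4p1 f4p4 t) = pr (t ^ ε) t ∧ wg cf (f4PairWord ε f4m1 f4m4 t) = prn (t ^ ε) t ∧
    wg cf (b2ClassWord ε f4a f4b f4ab f4aab t u) = bw m bl t u ∧
    wg cf (b2ClassWord ε f4ma f4mb f4mab f4maab t u) = bw m bln t u := by
  refine ⟨wg_two _ _ _ _, wg_two _ _ _ _, ?_, ?_⟩ <;>
    rw [b2ClassWord, wg_four, mul_comm 2 ε] <;> rfl

theorem gens_mem (t u : K) :
    pr (t ^ ε) t ∈ twistedF4 K ε ∧ prn (t ^ ε) t ∈ twistedF4 K ε ∧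
    bw m bl t u ∈ twistedF4 K ε ∧ bw m bln t u ∈ twistedF4 K ε := by
  obtain ⟨e1, e2, e3, e4⟩ := gens m t u
  exact ⟨e1 ▸ mem_gen cf (A := f4Words K ε) (Or.inl ⟨t, Or.inl rfl⟩),
    e2 ▸ mem_gen cf (A := f4Words K ε) (Or.inl ⟨t, Or.inr rfl⟩),
    e3 ▸ mem_gen cf (A := f4Words K ε) (Or.inr ⟨t, u, Or.inl rfl⟩),
    e4 ▸ mem_gen cf (A := f4Words K ε) (Or.inr ⟨t, u, Or.inr rfl⟩)⟩

include hK in
theorem sg_bw {l : List ℕ} (hl : l ∈ [bl, bln]) (t u : K) : (tw (K := K) m).sg (bw m l t u) = bw m l t u := by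
  rw [bw, sg_four m hl]
  have h2 : ∀ x y : K, (x + y) ^ (ε * 2) = x ^ (ε * 2) + y ^ (ε * 2) := fun x y => by
    rw [← pow_succ]; exact add_pow_char_pow x y 2 (m + 1)
  have e1 : (u ^ (ε * 2)) ^ ε = u := (pow_twist m hK u).2
  have e2 : (t ^ ε) ^ (ε * 2) = t := (pow_twist m hK t).1
  rw [e1, e2, h2, pow_succ, mul_pow, e2]
  congr 1
  · ring
  · rw [show (t : K) * t ^ (ε * 2) = (t ^ ε) ^ 2 * t by rw [← pow_mul]; ring, add_right_comm,
      CharTwo.add_self_eq_zero, zero_add]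

include hK in
theorem le_fixed : twistedF4 K ε ≤ (tw (K := K) m).Fixed := by
  refine gen_le cf ?_
  have hp : ∀ t : K, pr (t ^ ε) t ∈ (tw (K := K) m).Fixed ∧ prn (t ^ ε) t ∈ (tw (K := K) m).Fixed := fun t =>
    ⟨⟨mul_mem (xg_mem_group cf _ _) (xg_mem_group cf _ _), by rw [(sg_pr m _ _).1, (pow_twist m hK t).1]⟩,
      ⟨mul_mem (xg_mem_group cf _ _) (xg_mem_group cf _ _), by rw [(sg_pr m _ _).2, (pow_twist m hK t).1]⟩⟩
  have hb : ∀ l ∈ [bl, bln], ∀ t u : K, bw m l t u ∈ (tw (K := K) m).Fixed := fun l hl t u =>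
    ⟨four_group _ _ _ _ _, sg_bw m hK hl t u⟩
  rintro w (⟨t, rfl | rfl⟩ | ⟨t, u, rfl | rfl⟩)
  · rw [(gens m t t).1]; exact (hp t).1
  · rw [(gens m t t).2.1]; exact (hp t).2
  · rw [(gens m t u).2.2.1]; exact hb _ (by simp) t u
  · rw [(gens m t u).2.2.2]; exact hb _ (by simp) t u

/-! ### the classes -/

/-- the word of a class (`true`: the class of type B₂) -/
def clF : Bool → List (Fin chevF4.rank)
  | false => [nd 0, nd 3]
  | true => [nd 1, nd 2, nd 1, nd 2]

/-- the class of a node -/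
def clsF (i : ℕ) : Bool := decide (i = 1 ∨ i = 2)

/-- the roots of a class -/
def lstF : Bool → List ℕ
  | false => [f4p1, f4p4]
  | true => [f4a, f4b, f4ab, f4aab]

theorem invSet_clF : ∀ J : Bool, ∀ r < chevF4.nroots,
    ((chevF4.IsPosRoot r ∧ chevF4.IsNegRoot (Twist.wact' chevF4 (clF J) r)) ↔ r ∈ lstF J) ∧
    ((r ∈ lstF J) ↔ (chevF4.IsPosRoot r ∧ ∀ k < chevF4.rank, cor chevF4 r k ≠ 0 → clsF k = J)) := by
  decide +kernel

theorem lstF_lt : ∀ J : Bool, ∀ r ∈ lstF J, r < chevF4.nroots := by decide +kernel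

theorem winv_clF : winv chevF4 ChevWeylData.f4.P (clF false) = 2 ∧
    winv chevF4 ChevWeylData.f4.P (clF true) = 4 := by
  decide +kernel

theorem mem_invSet_clF (J : Bool) (r : ℕ) :
    r ∈ (tw (K := K) m).X.invSet ((tw m).wd (clF J)) ↔ r ∈ lstF J :=
  ((tw m).mem_invSet_wd (clF J) r).trans
    ⟨fun h => (invSet_clF J r h.1.1).1.mp h, fun h => (invSet_clF J r (lstF_lt J r h)).1.mpr h⟩

theorem xg_mem_Uw (J : Bool) {r : ℕ} (hr : r ∈ lstF J) (t : K) :
    xg cf r t ∈ (tw (K := K) m).S.Uw ((tw m).wd (clF J)) :=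
  Subgroup.subset_closure ⟨r, t, (mem_invSet_clF m J r).mpr hr, rfl⟩

theorem pr_mem_Uw (a b : K) : pr a b ∈ (tw (K := K) m).S.Uw ((tw m).wd (clF false)) :=
  mul_mem (xg_mem_Uw m _ (by simp [lstF]) a) (xg_mem_Uw m _ (by simp [lstF]) b)

theorem four_mem_Uw (a b c d : K) : four bl a b c d ∈ (tw (K := K) m).S.Uw ((tw m).wd (clF true)) :=
  mul_mem (mul_mem (mul_mem (xg_mem_Uw m _ (by simp [lstF, bl]) a) (xg_mem_Uw m _ (by simp [lstF, bl]) b))
    (xg_mem_Uw m _ (by simp [lstF, bl]) c)) (xg_mem_Uw m _ (by simp [lstF, bl]) d)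

/-- the map of the pair class -/
noncomputable def prHom : Multiplicative (K × K) →* GL chevF4.Idx K where
  toFun p := pr p.toAdd.1 p.toAdd.2
  map_one' := by simp [pr]
  map_mul' p p' := by simp [pr_mul]

theorem Uw_pair : (tw (K := K) m).S.Uw ((tw m).wd (clF false)) ≤ (prHom (K := K)).range ∧
    Function.Injective (prHom (K := K)) := by
  have hle : (tw (K := K) m).S.Uw ((tw m).wd (clF false)) ≤ (prHom (K := K)).range := by
    rw [Sys.Uw, Subgroup.closure_le]
    rintro g ⟨r, t, hr, rfl⟩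
    have := (mem_invSet_clF m _ r).mp hr
    simp only [lstF, List.mem_cons, List.not_mem_nil, or_false] at this
    show xg cf r t ∈ _
    rcases this with rfl | rfl
    · exact ⟨Multiplicative.ofAdd (t, 0), by simp [prHom, pr]⟩
    · exact ⟨Multiplicative.ofAdd (0, t), by simp [prHom, pr]⟩
  have hc := (tw (K := K) m).S.card_Uw ((tw m).wd (clF false))
  rw [show (tw (K := K) m).S.X.inv ((tw m).wd (clF false)) = 2 from ((tw m).inv_wd _).trans winv_clF.1] at hc
  have hdom : Nat.card (Multiplicative (K × K)) = Nat.card K ^ 2 := by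
    rw [Nat.card_congr Multiplicative.toAdd, Nat.card_prod, pow_two]
  have hle1 : Nat.card K ^ 2 ≤ Nat.card (prHom (K := K)).range := hc ▸ Subgroup.card_le_of_le hle
  have hr : Function.Bijective (prHom (K := K)).rangeRestrict :=
    (MonoidHom.rangeRestrict_surjective _).bijective_of_nat_card_le (by rw [hdom]; exact hle1)
  exact ⟨hle, fun a b h => hr.1 (Subtype.ext h)⟩

theorem pr_inj {a b a' b' : K} (h : pr a b = pr a' b') : a = a' ∧ b = b' := by
  have := (Uw_pair (K := K) 0).2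
    (show prHom (Multiplicative.ofAdd (a, b)) = prHom (Multiplicative.ofAdd (a', b')) from h)
  simpa using this

/-- the subgroup of the ordered products of the class of type B₂ -/
def fourSub : Subgroup (GL chevF4.Idx K) where
  carrier := {g | ∃ p : (K × K) × (K × K), g = four bl p.1.1 p.1.2 p.2.1 p.2.2}
  one_mem' := ⟨((0, 0), (0, 0)), by simp [four]⟩
  mul_mem' := by
    rintro _ _ ⟨p, rfl⟩ ⟨p', rfl⟩
    exact ⟨((_, _), (_, _)), four_mul (by simp) ..⟩
  inv_mem' := by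
    rintro _ ⟨⟨⟨a, b⟩, c, d⟩, rfl⟩
    refine ⟨((a, b), (c + a * b, d + a ^ 2 * b)), ?_⟩
    apply inv_eq_of_mul_eq_one_right
    rw [four_mul (by simp), CharTwo.add_self_eq_zero, CharTwo.add_self_eq_zero,
      show c + (c + a * b) + a * b = (c + c) + (a * b + a * b) by ring,
      show d + (d + a ^ 2 * b) + a ^ 2 * b = (d + d) + (a ^ 2 * b + a ^ 2 * b) by ring]
    simp [CharTwo.add_self_eq_zero, four]

theorem Uw_four : (tw (K := K) m).S.Uw ((tw m).wd (clF true)) ≤ fourSub (K := K) ∧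
    Function.Injective fun p : (K × K) × (K × K) => four bl p.1.1 p.1.2 p.2.1 p.2.2 := by
  have hle : (tw (K := K) m).S.Uw ((tw m).wd (clF true)) ≤ fourSub (K := K) := by
    rw [Sys.Uw, Subgroup.closure_le]
    rintro g ⟨r, t, hr, rfl⟩
    have := (mem_invSet_clF m _ r).mp hr
    simp only [lstF, List.mem_cons, List.not_mem_nil, or_false] at this
    show xg cf r t ∈ fourSub
    rcases this with rfl | rfl | rfl | rfl
    · exact ⟨((t, 0), (0, 0)), ((four_single bl t).1).symm⟩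
    · exact ⟨((0, t), (0, 0)), ((four_single bl t).2.1).symm⟩
    · exact ⟨((0, 0), (t, 0)), ((four_single bl t).2.2.1).symm⟩
    · exact ⟨((0, 0), (0, t)), ((four_single bl t).2.2.2).symm⟩
  have hc := (tw (K := K) m).S.card_Uw ((tw m).wd (clF true))
  rw [show (tw (K := K) m).S.X.inv ((tw m).wd (clF true)) = 4 from ((tw m).inv_wd _).trans winv_clF.2] at hc
  refine ⟨hle, ?_⟩
  let ψ : (K × K) × (K × K) → ↥(fourSub (K := K)) := fun p => ⟨four bl p.1.1 p.1.2 p.2.1 p.2.2, p, rfl⟩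
  have hs : Function.Surjective ψ := fun ⟨g, p, hp⟩ => ⟨p, Subtype.ext hp.symm⟩
  have hb : Function.Bijective ψ := hs.bijective_of_nat_card_le (by
    have h1 := hc ▸ Subgroup.card_le_of_le hle
    refine le_trans (le_of_eq ?_) h1
    simp
    ring)
  exact fun a b h => hb.1 (Subtype.ext h)

theorem four_inj {a b c d a' b' c' d' : K} (h : four bl a b c d = four bl a' b' c' d') :
    a = a' ∧ b = b' ∧ c = c' ∧ d = d' := by
  have := (Uw_four (K := K) 0).2 (a₁ := ((a, b), (c, d))) (a₂ := ((a', b'), (c', d'))) h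
  simp only [Prod.mk.injEq] at this
  exact ⟨this.1.1, this.1.2, this.2.1, this.2.2⟩

theorem UF_pair {u : GL chevF4.Idx K} (hu : u ∈ (tw (K := K) m).UF ((tw m).wd (clF false))) :
    ∃ t : K, u = pr (t ^ ε) t := by
  obtain ⟨p, rfl⟩ := (Uw_pair m).1 hu.1
  obtain ⟨a, b⟩ := p
  have h : (tw (K := K) m).sg (pr a b) = pr a b := hu.2.2
  rw [(sg_pr m _ _).1] at h
  exact ⟨b, show pr a b = _ by rw [(pr_inj h).1]⟩

include hK in
theorem UF_four {g : GL chevF4.Idx K} (hu : g ∈ (tw (K := K) m).UF ((tw m).wd (clF true))) :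
    ∃ t u : K, g = bw m bl t u := by
  obtain ⟨⟨⟨a, b⟩, c, d⟩, rfl⟩ := (Uw_four m).1 hu.1
  have h : (tw (K := K) m).sg (four bl a b c d) = four bl a b c d := hu.2.2
  rw [sg_four m (by simp)] at h
  obtain ⟨ha, hb, hc, -⟩ := four_inj h
  refine ⟨b, d ^ ε, ?_⟩
  show four bl a b c d = _
  rw [hb] at hc
  rw [bw, (pow_twist m hK d).1, pow_succ, ha]
  rw [ha, add_comm] at hc
  rw [hc]

include hK in
theorem card_UF_pair : Nat.card ↥((tw (K := K) m).UF ((tw m).wd (clF false))) = 2 ^ (2 * m + 1) := by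
  rw [← hK, ← Nat.card_eq_fintype_card]
  refine (Nat.card_eq_of_bijective (fun t : K => (⟨pr (t ^ ε) t, pr_mem_Uw m _ _,
    le_fixed m hK (gens_mem m t t).1⟩ : ↥((tw (K := K) m).UF ((tw m).wd (clF false))))) ⟨?_, ?_⟩).symm
  · intro a b h
    exact (pr_inj (congrArg Subtype.val h)).2
  · rintro ⟨u, hu⟩
    obtain ⟨t, rfl⟩ := UF_pair m hu
    exact ⟨t, rfl⟩

include hK in
theorem card_UF_four : Nat.card ↥((tw (K := K) m).UF ((tw m).wd (clF true))) = (2 ^ (2 * m + 1)) ^ 2 := by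
  rw [← hK, ← Nat.card_eq_fintype_card, pow_two, ← Nat.card_prod]
  refine (Nat.card_eq_of_bijective (fun p : K × K => (⟨bw m bl p.1 p.2, four_mem_Uw m _ _ _ _,
    le_fixed m hK (gens_mem m p.1 p.2).2.2.1⟩ : ↥((tw (K := K) m).UF ((tw m).wd (clF true))))) ⟨?_, ?_⟩).symm
  · rintro ⟨t, u⟩ ⟨t', u'⟩ h
    obtain ⟨-, h2, h3, -⟩ := four_inj (congrArg Subtype.val h)
    simp only at h2 h3
    subst h2
    rw [add_right_inj] at h3
    rw [h3]
  · rintro ⟨g, hg⟩
    obtain ⟨t, u, rfl⟩ := UF_four m hK hg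
    exact ⟨(t, u), rfl⟩

/-- a root element with parameter one, carried over from the field with two elements -/
theorem map_rx {k : ℕ} (hk : k < 12) :
    Matrix.GeneralLinearGroup.map (ZMod.castHom (dvd_refl 2) K) (TitsTwo15.rx k) =
      xg cf (TitsTwo15.rootIds.getD k 0) (1 : K) := by
  have e : TitsTwo15.rx k = xg cf (TitsTwo15.rootIds.getD k 0) (1 : ZMod 2) :=
    Units.ext ((TitsTwo15.coe_rx hk).trans (coe_xg cf _ _).symm)
  rw [e, xg_map, map_one]

/-- equal packed products give equal products of root elements with parameter one -/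
theorem prod_eq {v w : List ℕ} (h : Nat.beq (TitsTwo15.rootProd v) (TitsTwo15.rootProd w) = true)
    (hv : ∀ k ∈ v, k < 12) (hw : ∀ k ∈ w, k < 12) :
    (v.map fun k => xg cf (TitsTwo15.rootIds.getD k 0) (1 : K)).prod =
      (w.map fun k => xg cf (TitsTwo15.rootIds.getD k 0) (1 : K)).prod := by
  have key : ∀ l : List ℕ, (∀ k ∈ l, k < 12) →
      (l.map fun k => xg cf (TitsTwo15.rootIds.getD k 0) (1 : K)).prod =
        Matrix.GeneralLinearGroup.map (ZMod.castHom (dvd_refl 2) K) (l.map TitsTwo15.rx).prod := by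
    intro l hl
    rw [map_list_prod, List.map_map]
    exact congrArg List.prod (List.map_congr_left fun k hk => (map_rx (hl k hk)).symm)
  rw [key v hv, key w hw]
  congr 1
  apply TitsTwo15.Φ_inj
  have h1 := fun l : List ℕ => TitsTwo15.foldl_val TitsTwo15.Φ_rx l TitsTwo15.oneP 1
    (by rw [map_one, TitsTwo15.toM_one])
  simp only [one_mul] at h1
  rw [h1, h1]
  exact congrArg TitsTwo15.toM (Nat.eq_of_beq_eq_true h)

/-- the representative of a class -/
noncomputable def cnF : Bool → GL chevF4.Idx K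
  | false => ng cf f4p1 1 * ng cf f4p4 1
  | true => ng cf f4a 1 * ng cf f4b 1 * ng cf f4a 1 * ng cf f4b 1

theorem cnF_toW (J : Bool) : ∃ h : cnF (K := K) J ∈ chevF4.monomialSubgroup K,
    (tw (K := K) m).S.toW ⟨_, h⟩ = (tw m).wd (clF J) := by
  obtain ⟨e0, e1, e2, e3, -⟩ := roots_eq
  rcases J with _ | _
  · obtain ⟨h, hw⟩ := (tw (K := K) m).toW_prod_ng [(nd 0, (1 : Kˣ)), (nd 3, 1)]
    have e : (([(nd 0, (1 : Kˣ)), (nd 3, 1)]).map fun p => ng cf (chevF4.simple p.1.val) (p.2 : K)).prod =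
        cnF (K := K) false := by
      simp [cnF, e0, e3]
    exact ⟨e ▸ h, by simp only [← e]; exact hw⟩
  · obtain ⟨h, hw⟩ := (tw (K := K) m).toW_prod_ng [(nd 1, (1 : Kˣ)), (nd 2, 1), (nd 1, 1), (nd 2, 1)]
    have e : (([(nd 1, (1 : Kˣ)), (nd 2, 1), (nd 1, 1), (nd 2, 1)]).map
        fun p => ng cf (chevF4.simple p.1.val) (p.2 : K)).prod = cnF (K := K) true := by
      simp [cnF, e1, e2, mul_assoc]
    exact ⟨e ▸ h, by simp only [← e]; exact hw⟩

theorem cnF_mem (J : Bool) : cnF (K := K) J ∈ twistedF4 K ε := by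
  obtain ⟨-, -, -, -, g1, g4, ga, gb⟩ := roots_eq
  obtain ⟨p1, p2, b1, b2⟩ := gens_mem (K := K) m 1 0
  obtain ⟨-, -, z1, z2⟩ := gens_mem (K := K) m 0 1
  rw [one_pow] at p1 p2
  rcases J with _ | _
  · have e : cnF (K := K) false = pr 1 1 * prn 1 1 * pr 1 1 := by
      show ng cf f4p1 1 * ng cf f4p4 1 = _
      unfold ng pr prn
      rw [g1, g4, inv_one, CharTwo.neg_eq, triple_mul (comm_pair (by simp) (by simp) _ _).symm
        (comm_pair (by simp) (by simp) _ _).symm (comm_pair (by simp) (by simp) _ _).symm]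
    rw [e]
    exact mul_mem (mul_mem p1 p2) p1
  · have ez : ∀ l, bw (K := K) m l 0 1 = xg cf (l.getD 2 0) 1 * xg cf (l.getD 3 0) 1 := fun l => by
      simp [bw, four]
    rw [ez] at z1 z2
    have h := prod_eq (K := K) (v := [8, 3, 8, 7, 4, 7, 8, 3, 8, 7, 4, 7]) (w := [9, 10, 2, 1, 9, 10, 2, 1, 9, 10])
      (by decide +kernel) (by decide) (by decide)
    have hids : TitsTwo15.rootIds.getD 8 0 = f4a ∧ TitsTwo15.rootIds.getD 3 0 = f4ma ∧
        TitsTwo15.rootIds.getD 7 0 = f4b ∧ TitsTwo15.rootIds.getD 4 0 = f4mb ∧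
        TitsTwo15.rootIds.getD 9 0 = f4ab ∧ TitsTwo15.rootIds.getD 10 0 = f4aab ∧
        TitsTwo15.rootIds.getD 2 0 = f4mab ∧ TitsTwo15.rootIds.getD 1 0 = f4maab := by decide +kernel
    obtain ⟨i8, i3, i7, i4, i9, i10, i2, i1⟩ := hids
    simp only [List.map_cons, List.map_nil, List.prod_cons, List.prod_nil, mul_one, i8, i3, i7, i4, i9, i10, i2,
      i1] at h
    have e : cnF (K := K) true =
        (xg cf f4ab 1 * xg cf f4aab 1) * (xg cf f4mab 1 * xg cf f4maab 1) * (xg cf f4ab 1 * xg cf f4aab 1) *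
          (xg cf f4mab 1 * xg cf f4maab 1) * (xg cf f4ab 1 * xg cf f4aab 1) := by
      show ng cf f4a 1 * ng cf f4b 1 * ng cf f4a 1 * ng cf f4b 1 = _
      unfold ng
      rw [ga, gb, inv_one, CharTwo.neg_eq]
      simpa only [mul_assoc] using h
    rw [e]
    exact mul_mem (mul_mem (mul_mem (mul_mem z1 z2) z1) z2) z1

/-- the classes -/
noncomputable def classes : Classes (tw (K := K) m) (twistedF4 K ε) where
  κ := Bool
  cls := clsF
  cls_surj := by decide +kernel
  orbit i hi k hk h := by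
    have key : ∀ i < chevF4.rank, ∀ k < chevF4.rank, clsF k = clsF i →
        ∃ n < 2, (fun j => ChevExcGraphData.piF4.getD j 0)^[n] i = k := by decide +kernel
    obtain ⟨n, -, hn⟩ := key i hi k hk h
    exact ⟨n, hn⟩
  cl := clF
  cl_cls := by
    have key : ∀ J : Bool, ∀ k : Fin chevF4.rank, k ∈ clF J → clsF k.val = J := by decide +kernel
    exact key
  cl_sq J := (tw m).wd_mul_self fun r hr =>
    (by decide +kernel : ∀ J : Bool, ∀ r < chevF4.nroots,
      Twist.wact' chevF4 (clF J) (Twist.wact' chevF4 (clF J) r) = r) J r hr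
  mem_cw J r := (mem_invSet_clF m J r).trans
    ⟨fun h => (invSet_clF J r (lstF_lt J r h)).2.mp h, fun h => (invSet_clF J r h.1.1).2.mpr h⟩
  cn := cnF
  cn_G1 J := cnF_mem m J
  cn_N J := (cnF_toW m J).1
  cn_toW J := (cnF_toW m J).2
  G1_le := le_fixed m hK
  UJ_le J u hu := by
    rcases J with _ | _
    · obtain ⟨t, rfl⟩ := UF_pair m hu
      exact (gens_mem m t t).1
    · obtain ⟨t, u, rfl⟩ := UF_four m hK hu
      exact (gens_mem m t u).2.2.1
  Q := 2 ^ (2 * m + 1)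
  e := 2
  one_lt_Q := Nat.one_lt_two_pow (by omega)
  UJ_card J := by
    rw [(tw m).inv_wd]
    rcases J with _ | _
    · rw [card_UF_pair m hK, show winv chevF4 (tw (K := K) m).X.P (clF false) = 2 from winv_clF.1]
    · rw [card_UF_four m hK, show winv chevF4 (tw (K := K) m).X.P (clF true) = 4 from winv_clF.2, ← pow_mul]

end Cfsg.Agent.TwistedF4Classes
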