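import Cfsg.Agent.Lib.ChevalleyTorus
import Cfsg.Agent.Lib.ChevalleyAll

/-!
Graph automorphisms of Chevalley groups with simple lacing.
-/

set_option autoImplicit false
set_option linter.unusedSimpArgs false
set_option maxRecDepth 10000

namespace Cfsg.Agent.ChevalleyGraph

open Cfsg.Lie Cfsg.Agent.ChevalleyEngine Cfsg.Agent.ChevalleyCert Cfsg.Agent.ChevalleyRoots Cfsg.Agent.ChevalleyExp
  Cfsg.Agent.ChevalleyCore

/-- a symmetry of the tables induced by a permutation of the fundamental roots, with signs -/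
structure Sym (D : ChevalleyDatum) where
  pi : ℕ → ℕ
  pinv : ℕ → ℕ
  rho : ℕ → ℕ
  rinv : ℕ → ℕ
  eps : ℕ → ℤ
  pi_ok : ∀ i < D.rank, pi i < D.rank ∧ pinv i < D.rank ∧ pinv (pi i) = i ∧ pi (pinv i) = i
  rho_ok : ∀ r < D.nroots, rho r < D.nroots ∧ rinv r < D.nroots ∧ rinv (rho r) = r ∧ rho (rinv r) = r
  simple_ok : ∀ i < D.rank, rho (D.simple i) = D.simple (pi i) ∧ eps (D.simple i) = 1 ∧ eps (D.neg (D.simple i)) = 1
  neg_ok : ∀ r < D.nroots, D.neg (rho r) = rho (D.neg r) ∧ eps (D.neg r) = eps r ∧ eps r * eps r = 1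
  cart_ok : ∀ r < D.nroots, ∀ i < D.rank, D.cartan (pi i) (rho r) = D.cartan i r ∧ cc D (rho r) (pi i) = cc D r i
  chain_ok : ∀ r < D.nroots, ∀ s < D.nroots, (D.chainEntry r s).length ≤ 1 ∧
    D.chainEntry (rho r) (rho s) = (D.chainEntry r s).map fun q => (rho q.1, eps r * eps s * eps q.1 * q.2)

variable {D : ChevalleyDatum} (S : Sym D) (C : Cert D)

/-- the permutation of the coordinates -/
def sig : D.Idx ≃ D.Idx :=
  Equiv.sumCongr
    { toFun := fun i => ⟨S.pi i, (S.pi_ok i i.isLt).1⟩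
      invFun := fun i => ⟨S.pinv i, (S.pi_ok i i.isLt).2.1⟩
      left_inv := fun i => Fin.ext (S.pi_ok i i.isLt).2.2.1
      right_inv := fun i => Fin.ext (S.pi_ok i i.isLt).2.2.2 }
    { toFun := fun r => ⟨S.rho r, (S.rho_ok r r.isLt).1⟩
      invFun := fun r => ⟨S.rinv r, (S.rho_ok r r.isLt).2.1⟩
      left_inv := fun r => Fin.ext (S.rho_ok r r.isLt).2.2.1
      right_inv := fun r => Fin.ext (S.rho_ok r r.isLt).2.2.2 }

/-- the sign of a coordinate -/
def sgn (q : D.Idx) : ℤ := Sum.elim (fun _ => 1) (fun u : Fin D.nroots => S.eps u) q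

theorem sgn_sq (q : D.Idx) : sgn S q * sgn S q = 1 := by
  rcases q with a | u
  · simp [sgn]
  · exact (S.neg_ok u u.isLt).2.2

theorem rho_inj {r s : ℕ} (hr : r < D.nroots) (hs : s < D.nroots) (h : S.rho r = S.rho s) : r = s := by
  rw [← (S.rho_ok r hr).2.2.1, h, (S.rho_ok s hs).2.2.1]

include C in
theorem xm_sig {k r : ℕ} (hk : 1 ≤ k) (hr : r < D.nroots) (a b : D.Idx) :
    xm D k (S.rho r) (sig S a) (sig S b) * S.eps r ^ k = sgn S a * sgn S b * xm D k r a b := by
  have he := (S.neg_ok r hr).2.2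
  have hinj : ∀ x, x < D.nroots → (S.rho x = S.rho r ↔ x = r) := fun x hx =>
    ⟨rho_inj S hx hr, fun h => by rw [h]⟩
  rcases b with i | s
  · rcases a with j | u
    · simp [xm, sig, sgn]
    · simp only [xm, sig, sgn, Matrix.of_apply, Equiv.sumCongr_apply, Sum.map_inl, Sum.map_inr, Equiv.coe_fn_mk,
        Sum.elim_inl, Sum.elim_inr, hinj u.val u.isLt, (S.cart_ok r hr i.val i.isLt).1]
      by_cases h : k = 1 ∧ u.val = r
      · simp only [if_pos h]; rw [h.1, h.2, pow_one]; ring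
      · simp only [if_neg h]; simp
  · have hn : D.neg (S.rho r) = S.rho (D.neg r) := (S.neg_ok r hr).1
    have hinjn : S.rho s.val = S.rho (D.neg r) ↔ s.val = D.neg r :=
      ⟨rho_inj S s.isLt (C.neg_lt r), fun h => by rw [h]⟩
    simp only [xm, sig, sgn, Matrix.of_apply, Equiv.sumCongr_apply, Sum.map_inl, Sum.map_inr, Equiv.coe_fn_mk,
        Sum.elim_inl, Sum.elim_inr, hn, hinj s.val s.isLt, hinjn]
    by_cases h1 : s.val = r
    · rw [if_pos h1, if_pos h1]; simp
    rw [if_neg h1, if_neg h1]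
    by_cases h2 : s.val = D.neg r
    · rw [if_pos h2, if_pos h2, h2, (S.neg_ok r hr).2.1]
      rcases a with j | u
      · simp only [Sum.map_inl, Sum.map_inr, Sum.elim_inl, Sum.elim_inr, Equiv.coe_fn_mk, (S.cart_ok r hr j.val j.isLt).2]
        by_cases h : k = 1
        · simp only [if_pos h]; rw [h, pow_one]; ring
        · simp only [if_neg h]; simp
      · simp only [Sum.map_inl, Sum.map_inr, Sum.elim_inl, Sum.elim_inr, Equiv.coe_fn_mk, hinj u.val u.isLt]
        by_cases h : k = 2 ∧ u.val = r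
        · simp only [if_pos h]; rw [h.1, h.2, pow_two, he]; ring
        · simp only [if_neg h]; simp
    rw [if_neg h2, if_neg h2]
    rcases a with j | u
    · simp
    simp only [Sum.map_inl, Sum.map_inr, Sum.elim_inl, Sum.elim_inr, Equiv.coe_fn_mk]
    obtain ⟨hlen, hmap⟩ := S.chain_ok r hr s.val s.isLt
    simp only [ChevalleyDatum.chainRoot, ChevalleyDatum.chainM, hmap]
    obtain ⟨k, rfl⟩ : ∃ m, k = m + 1 := ⟨k - 1, by omega⟩
    simp only [Nat.add_sub_cancel, List.getElem?_map]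
    rcases hq : (D.chainEntry r s.val)[k]? with _ | q
    · simp
    obtain ⟨_, _, _, _, hq1, _, _⟩ := entry_getElem C hr hq
    obtain rfl : k = 0 := by
      have := (List.getElem?_eq_some_iff.1 hq).1
      omega
    simp only [Option.map_some, Option.some.injEq, Option.getD_some]
    by_cases h : q.1 = u.val
    · rw [if_pos (by rw [h]), if_pos h, zero_add, pow_one, ← h]
      calc S.eps r * S.eps s.val * S.eps q.1 * q.2 * S.eps r
          = (S.eps r * S.eps r) * (S.eps q.1 * S.eps s.val * q.2) := by ring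
        _ = S.eps q.1 * S.eps s.val * q.2 := by rw [he, one_mul]
    · rw [if_neg (fun e => h (rho_inj S hq1 u.isLt e)), if_neg h]; simp

section Field

variable {F : Type*} [Field F]

/-- conjugation by the signed permutation matrix -/
def conjM (D : ChevalleyDatum) (S : Sym D) : Matrix D.Idx D.Idx F ≃* Matrix D.Idx D.Idx F where
  toFun M := Matrix.of fun a b =>
    (sgn S ((sig S).symm a) : F) * (sgn S ((sig S).symm b) : F) * M ((sig S).symm a) ((sig S).symm b)
  invFun M := Matrix.of fun a b => (sgn S a : F) * (sgn S b : F) * M (sig S a) (sig S b)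
  left_inv M := by
    ext a b
    simp only [Matrix.of_apply, Equiv.symm_apply_apply]
    have h : ∀ q, ((sgn S q : F)) * (sgn S q : F) = 1 := fun q => by rw [← Int.cast_mul, sgn_sq, Int.cast_one]
    linear_combination ((sgn S b : F) * (sgn S b : F) * M a b) * h a + M a b * h b
  right_inv M := by
    ext a b
    simp only [Matrix.of_apply, Equiv.apply_symm_apply]
    have h : ∀ q, ((sgn S q : F)) * (sgn S q : F) = 1 := fun q => by rw [← Int.cast_mul, sgn_sq, Int.cast_one]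
    linear_combination ((sgn S ((sig S).symm b) : F) * (sgn S ((sig S).symm b) : F) * M a b) * h ((sig S).symm a) +
      M a b * h ((sig S).symm b)
  map_mul' M N := by
    ext a b
    simp only [Matrix.of_apply, Matrix.mul_apply, Finset.mul_sum]
    rw [← Equiv.sum_comp (sig S).symm]
    refine Finset.sum_congr rfl fun c _ => ?_
    have h : ((sgn S ((sig S).symm c) : F)) * (sgn S ((sig S).symm c) : F) = 1 := by
      rw [← Int.cast_mul, sgn_sq, Int.cast_one]
    linear_combination (-(sgn S ((sig S).symm a) : F) * (sgn S ((sig S).symm b) : F) *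
      M ((sig S).symm a) ((sig S).symm c) * N ((sig S).symm c) ((sig S).symm b)) * h

include C in
theorem conjM_x {r : ℕ} (hr : r < D.nroots) (t : F) :
    conjM D S (D.x F r t) = D.x F (S.rho r) ((S.eps r : F) * t) := by
  have key : ∀ (k : ℕ), 1 ≤ k → ∀ a b, ((xm D k (S.rho r) (sig S a) (sig S b) : ℤ) : F) * (S.eps r : F) ^ k =
      (sgn S a : F) * (sgn S b : F) * (xm D k r a b : F) := fun k hk a b => by
    simpa only [Int.cast_mul, Int.cast_pow] using congrArg (Int.cast : ℤ → F) (xm_sig S C hk hr a b)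
  rw [x_eq_xR C hr, x_eq_xR C (S.rho_ok r hr).1]
  ext a' b'
  obtain ⟨a, rfl⟩ := (sig S).surjective a'
  obtain ⟨b, rfl⟩ := (sig S).surjective b'
  simp only [conjM, MulEquiv.coe_mk, Equiv.coe_fn_mk, Matrix.of_apply, Equiv.symm_apply_apply, xR, Matrix.add_apply,
    Matrix.smul_apply, castM, Matrix.map_apply, smul_eq_mul, Int.coe_castRingHom, Matrix.one_apply, (sig S).injective.eq_iff]
  have h1 : (sgn S a : F) * (sgn S b : F) * (if a = b then 1 else 0) = if a = b then 1 else 0 := by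
    split
    · rename_i h; subst h; rw [← Int.cast_mul, sgn_sq, Int.cast_one, one_mul]
    · rw [mul_zero]
  linear_combination h1 - t * key 1 le_rfl a b - t ^ 2 * key 2 (by norm_num) a b - t ^ 3 * key 3 (by norm_num) a b

include C in
theorem exists_aut : ∃ α : ↥(D.group F) ≃* ↥(D.group F), ∀ (g : ↥(D.group F)) (r : ℕ) (t : F), r < D.nroots →
    ((g : GL D.Idx F) : Matrix D.Idx D.Idx F) = D.x F r t →
      ((α g : GL D.Idx F) : Matrix D.Idx D.Idx F) = D.x F (S.rho r) ((S.eps r : F) * t) := by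
  let φ : GL D.Idx F ≃* GL D.Idx F := Units.mapEquiv (conjM D S)
  have hφ : ∀ (r : ℕ) (t : F), r < D.nroots → φ (xg C r t) = xg C (S.rho r) ((S.eps r : F) * t) := fun r t hr =>
    Units.ext (conjM_x S C hr t)
  have hmap : (D.group F).map φ.toMonoidHom = D.group F := by
    apply le_antisymm
    · rw [ChevalleyDatum.group, MonoidHom.map_closure, Subgroup.closure_le]
      rintro _ ⟨g, ⟨⟨r, hr⟩, t, hg'⟩, rfl⟩
      obtain rfl : g = xg C r t := Units.ext (hg'.trans (by simp [ChevalleyDatum.x, hr]))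
      show φ (xg C r t) ∈ D.group F
      rw [hφ r t hr]
      exact xg_mem_group C _ _
    · conv_lhs => rw [ChevalleyDatum.group]
      rw [Subgroup.closure_le]
      rintro g ⟨⟨r, hr⟩, t, hg'⟩
      obtain rfl : g = xg C r t := Units.ext (hg'.trans (by simp [ChevalleyDatum.x, hr]))
      refine ⟨xg C (S.rinv r) ((S.eps (S.rinv r) : F) * t), xg_mem_group C _ _, ?_⟩
      show φ _ = _
      rw [hφ _ _ (S.rho_ok r hr).2.1, (S.rho_ok r hr).2.2.2, ← mul_assoc, ← Int.cast_mul,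
        (S.neg_ok _ (S.rho_ok r hr).2.1).2.2, Int.cast_one, one_mul]
  refine ⟨(φ.subgroupMap (D.group F)).trans (MulEquiv.subgroupCongr hmap), fun g r t hr hg' => ?_⟩
  show ((φ (g : GL D.Idx F) : GL D.Idx F) : Matrix D.Idx D.Idx F) = _
  rw [(Units.ext hg' : (g : GL D.Idx F) = xg C r t), hφ r t hr, coe_xg]

include C in
theorem exists_simple_aut : ∃ α : ↥(D.group F) ≃* ↥(D.group F), ∀ (g : ↥(D.group F)) (i : ℕ) (t : F), i < D.rank →
      (((g : GL D.Idx F) : Matrix D.Idx D.Idx F) = D.x F (D.simple i) t →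
        ((α g : GL D.Idx F) : Matrix D.Idx D.Idx F) = D.x F (D.simple (S.pi i)) t) ∧
      (((g : GL D.Idx F) : Matrix D.Idx D.Idx F) = D.x F (D.neg (D.simple i)) t →
        ((α g : GL D.Idx F) : Matrix D.Idx D.Idx F) = D.x F (D.neg (D.simple (S.pi i))) t) := by
  obtain ⟨α, hα⟩ := exists_aut S C (F := F)
  refine ⟨α, fun g i t hi => ?_⟩
  obtain ⟨h1, h2, h3⟩ := S.simple_ok i hi
  have hs := simple_lt C hi
  refine ⟨fun h => ?_, fun h => ?_⟩
  · rw [hα g _ t hs h, h1, h2, Int.cast_one, one_mul]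
  · rw [hα g _ t (C.neg_lt _) h, ← (S.neg_ok _ hs).1, h1, h3, Int.cast_one, one_mul]

end Field

/-- graph symmetry -/
def symE6 : Sym chevE6 where
  pi := fun i => ([5, 1, 4, 3, 2, 0] : List ℕ).getD i 0
  pinv := fun i => ([5, 1, 4, 3, 2, 0] : List ℕ).getD i 0
  rho := fun i => ([0, 1, 2, 5, 16, 3, 6, 17, 8, 19, 22, 11, 26, 30, 33, 35, 4, 7, 18, 9, 20, 23, 10, 21, 24, 25, 12, 27, 31, 34, 13, 28, 32, 14, 29, 15, 56, 42, 57, 39, 43, 58, 37, 40, 44, 59, 46, 47, 50, 61, 48, 51, 62, 53, 64, 67, 36, 38, 41, 45, 60, 49, 52, 63, 54, 65, 68, 55, 66, 69, 70, 71] : List ℕ).getD i 0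
  rinv := fun i => ([0, 1, 2, 5, 16, 3, 6, 17, 8, 19, 22, 11, 26, 30, 33, 35, 4, 7, 18, 9, 20, 23, 10, 21, 24, 25, 12, 27, 31, 34, 13, 28, 32, 14, 29, 15, 56, 42, 57, 39, 43, 58, 37, 40, 44, 59, 46, 47, 50, 61, 48, 51, 62, 53, 64, 67, 36, 38, 41, 45, 60, 49, 52, 63, 54, 65, 68, 55, 66, 69, 70, 71] : List ℕ).getD i 0
  eps := fun i => ([1, 1, 1, 1, -1, 1, 1, -1, 1, -1, -1, 1, -1, 1, -1, 1, -1, -1, 1, -1, 1, 1, -1, 1, 1, 1, -1, 1, -1, 1, 1, -1, 1, -1, 1, 1, 1, 1, -1, 1, -1, 1, 1, -1, 1, -1, 1, 1, 1, -1, 1, 1, -1, 1, -1, -1, 1, -1, 1, -1, 1, -1, -1, 1, -1, 1, 1, -1, 1, 1, 1, 1] : List ℤ).getD i 1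
  pi_ok := by decide +kernel
  rho_ok := by decide +kernel
  simple_ok := by decide +kernel
  neg_ok := by decide +kernel
  cart_ok := by decide +kernel
  chain_ok := by decide +kernel

/-- graph symmetry -/
def symD4a : Sym chevD4 where
  pi := fun i => ([2, 1, 3, 0] : List ℕ).getD i 0
  pinv := fun i => ([3, 1, 0, 2] : List ℕ).getD i 0
  rho := fun i => ([0, 1, 6, 2, 7, 10, 3, 8, 4, 9, 11, 5, 18, 12, 14, 19, 15, 20, 13, 16, 21, 17, 22, 23] : List ℕ).getD i 0
  rinv := fun i => ([0, 1, 3, 6, 8, 11, 2, 4, 7, 9, 5, 10, 13, 18, 14, 16, 19, 21, 12, 15, 17, 20, 22, 23] : List ℕ).getD i 0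
  eps := fun i => ([1, 1, -1, 1, -1, 1, -1, 1, -1, 1, 1, 1, 1, 1, 1, -1, 1, -1, 1, -1, 1, -1, 1, 1] : List ℤ).getD i 1
  pi_ok := by decide +kernel
  rho_ok := by decide +kernel
  simple_ok := by decide +kernel
  neg_ok := by decide +kernel
  cart_ok := by decide +kernel
  chain_ok := by decide +kernel

/-- graph symmetry -/
def symD4b : Sym chevD4 where
  pi := fun i => ([3, 1, 0, 2] : List ℕ).getD i 0
  pinv := fun i => ([2, 1, 3, 0] : List ℕ).getD i 0
  rho := fun i => ([0, 1, 3, 6, 8, 11, 2, 4, 7, 9, 5, 10, 13, 18, 14, 16, 19, 21, 12, 15, 17, 20, 22, 23] : List ℕ).getD i 0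
  rinv := fun i => ([0, 1, 6, 2, 7, 10, 3, 8, 4, 9, 11, 5, 18, 12, 14, 19, 15, 20, 13, 16, 21, 17, 22, 23] : List ℕ).getD i 0
  eps := fun i => ([1, 1, 1, -1, -1, 1, -1, -1, 1, 1, 1, 1, 1, 1, 1, 1, -1, -1, 1, -1, -1, 1, 1, 1] : List ℤ).getD i 1
  pi_ok := by decide +kernel
  rho_ok := by decide +kernel
  simple_ok := by decide +kernel
  neg_ok := by decide +kernel
  cart_ok := by decide +kernel
  chain_ok := by decide +kernel

end Cfsg.Agent.ChevalleyGraph
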