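import Cfsg.Agent.Lib.ChevalleyTorus
import Cfsg.Agent.Lib.ChevalleyAll

/-!
The order of the diagonal subgroup of a Chevalley group over a finite field.
-/

set_option autoImplicit false

namespace Cfsg.Agent.ChevalleyTorusCard

open Cfsg.Lie Cfsg.Agent.ChevalleyCert Cfsg.Agent.ChevalleyRoots Cfsg.Agent.ChevalleyTorus

section Act

variable {X : Type*} [AddCommGroup X] {a b c : Type*} [Fintype a] [Fintype b] [Fintype c]

/-- an integer matrix acting on tuples in an abelian group -/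
def act (M : Matrix a b ℤ) (v : b → X) : a → X := fun i => ∑ k, M i k • v k

theorem act_mul (M : Matrix a b ℤ) (N : Matrix b c ℤ) (v : c → X) : act (M * N) v = act M (act N v) := by
  funext i
  simp only [act, Matrix.mul_apply, Finset.smul_sum, Finset.sum_smul, mul_smul]
  exact Finset.sum_comm

theorem act_add (M N : Matrix a b ℤ) (v : b → X) : act (M + N) v = act M v + act N v := by
  funext i; simp [act, add_smul, Finset.sum_add_distrib]

theorem act_smul (d : ℕ) (M : Matrix a b ℤ) (v : b → X) : act ((d : ℤ) • M) v = d • act M v := by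
  funext i; simp only [act, Pi.smul_apply, Matrix.smul_apply, smul_eq_mul, mul_smul, Finset.smul_sum, natCast_zsmul]

theorem act_nsmul (d : ℕ) (M : Matrix a b ℤ) (v : b → X) : act M (d • v) = d • act M v := by
  funext i; simp only [act, Pi.smul_apply, Finset.smul_sum]; exact Finset.sum_congr rfl fun k _ => smul_comm _ _ _

theorem act_zero (M : Matrix a b ℤ) : act M (0 : b → X) = 0 := by funext i; simp [act]

theorem act_one [DecidableEq a] (v : a → X) : act (1 : Matrix a a ℤ) v = v := by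
  funext i; simp [act, Matrix.one_apply]

theorem comb_eq_zero [Fintype a] (M : Matrix a b ℤ) (v : b → X) (r : a → ℤ) (h : act M v = 0) :
    ∑ k, (∑ i, r i * M i k) • v k = 0 := by
  have h1 := act_mul (Matrix.of fun (_ : Unit) i => r i) M v
  rw [h, act_zero] at h1
  exact congrFun h1 ()

theorem card_kernel {n m d : ℕ} (A : Matrix (Fin n) (Fin n) ℤ) (M R : Matrix (Fin n) (Fin m) ℤ)
    (P U : Matrix (Fin m) (Fin n) ℤ) (T : Matrix (Fin n) (Fin n) ℤ) (h1 : P * M = 1) (h2 : A * M = (d : ℤ) • R)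
    (h3 : U * A = (d : ℤ) • P) (h4 : T * A + M * P = 1) :
    Nat.card {v : Fin n → X // act A v = 0} = Nat.card {x : X // d • x = 0} ^ m := by
  let e : {v : Fin n → X // act A v = 0} ≃ (Fin m → {x : X // d • x = 0}) :=
  { toFun := fun v k => ⟨act P v.1 k, by
      have h : d • act P v.1 = 0 := by rw [← act_smul, ← h3, act_mul, v.2, act_zero]
      exact congrFun h k⟩
    invFun := fun z => ⟨act M (fun k => (z k).1), by
      have h : d • (fun k => (z k).1) = 0 := funext fun k => (z k).2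
      rw [← act_mul, h2, act_smul, ← act_nsmul, h, act_zero]⟩
    left_inv := fun v => Subtype.ext (by
      show act M (act P v.1) = v.1
      have h := congrArg (fun N => act N v.1) h4
      simp only [act_add, act_mul, v.2, act_zero, zero_add, act_one] at h
      exact h)
    right_inv := fun z => funext fun k => Subtype.ext (by
      show act P (act M fun k => (z k).1) k = (z k).1
      rw [← act_mul, h1, act_one]) }
  rw [Nat.card_congr e, Nat.card_fun, Nat.card_fin]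

end Act

variable {D : ChevalleyDatum} {F : Type*} [Field F]

theorem tchar_ofMul (c : Fin D.rank → Fˣ) (s : ℕ) :
    Additive.ofMul (tchar D c s) = ∑ i : Fin D.rank, D.cartan i.val s • Additive.ofMul (c i) := by
  rw [tchar, ofMul_prod]
  rfl

theorem mem_ker (C : Cert D) {A : Matrix (Fin D.rank) (Fin D.rank) ℤ}
    (hA : ∀ j i, A j i = D.cartan i.val (D.simple j.val)) (c : Fin D.rank → Fˣ) :
    c ∈ (torus D (F := F)).ker ↔ act A (fun i => Additive.ofMul (c i)) = 0 := by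
  have key : ∀ s, tchar D c s = 1 ↔ ∑ i : Fin D.rank, D.cartan i.val s • Additive.ofMul (c i) = 0 := by
    intro s; rw [← tchar_ofMul, ofMul_eq_zero]
  rw [MonoidHom.mem_ker]
  constructor
  · intro h
    funext j
    have h' := congrArg (fun g : GL D.Idx F => (g : Matrix D.Idx D.Idx F)
      (Sum.inr ⟨_, simple_lt C j.isLt⟩) (Sum.inr ⟨_, simple_lt C j.isLt⟩)) h
    simp [tmat] at h'
    simpa [act, hA] using (key _).1 h'
  · intro h
    have hall : ∀ s : Fin D.nroots, tchar D c s = 1 := by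
      intro s
      rw [key]
      have hlin : ∀ i : Fin D.rank, D.cartan i.val s.val = ∑ j : Fin D.rank, C.coef s.val j.val * A j i := by
        intro i
        rw [C.cartan_lin i.val s.val i.isLt s.isLt, sum_range_list, ← Fin.sum_univ_eq_sum_range]
        simp [hA]
      simp only [hlin]
      exact comb_eq_zero A _ (fun j => C.coef s.val j.val) h
    apply Units.ext
    rw [coe_torus, tmat, Units.val_one, ← Matrix.diagonal_one]
    congr 1
    funext q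
    rcases q with a | s <;> simp [hall]

/-- the data of a Smith normal form of the Cartan matrix with invariants `d` (`m` times) and `1` -/
structure Smith (D : ChevalleyDatum) (d m : ℕ) where
  A : Matrix (Fin D.rank) (Fin D.rank) ℤ
  M : Matrix (Fin D.rank) (Fin m) ℤ
  R : Matrix (Fin D.rank) (Fin m) ℤ
  P : Matrix (Fin m) (Fin D.rank) ℤ
  U : Matrix (Fin m) (Fin D.rank) ℤ
  T : Matrix (Fin D.rank) (Fin D.rank) ℤ
  hA : ∀ j i, A j i = D.cartan i.val (D.simple j.val)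
  h1 : P * M = 1
  h2 : A * M = (d : ℤ) • R
  h3 : U * A = (d : ℤ) • P
  h4 : T * A + M * P = 1

theorem card_H [Fintype F] {d m : ℕ} (C : Cert D) (S : Smith D d m) :
    Nat.gcd (Fintype.card F - 1) d ^ m * Nat.card (D.diagonalSubgroup F) = (Fintype.card F - 1) ^ D.rank := by
  classical
  have hu : Nat.card Fˣ = Fintype.card F - 1 := by rw [Nat.card_eq_fintype_card, Fintype.card_units]
  have hd : Nat.card {x : Additive Fˣ // d • x = 0} = Nat.gcd (Fintype.card F - 1) d := by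
    rw [← hu, ← IsCyclic.card_powMonoidHom_ker (G := Fˣ) d]
    exact Nat.card_congr (Equiv.subtypeEquiv Additive.toMul fun x => Iff.rfl)
  have hk : Nat.card (torus D (F := F)).ker = Nat.gcd (Fintype.card F - 1) d ^ m := by
    rw [← hd, ← card_kernel (X := Additive Fˣ) S.A S.M S.R S.P S.U S.T S.h1 S.h2 S.h3 S.h4]
    exact Nat.card_congr (Equiv.subtypeEquiv (Equiv.arrowCongr (Equiv.refl _) Additive.ofMul)
      fun c => mem_ker C S.hA c)
  have h := (torus D (F := F)).ker.card_mul_index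
  rw [Subgroup.index_ker, ← H_eq_range C, hk, Nat.card_fun, hu, Nat.card_fin] at h
  exact h

/-- Smith normal form of the Cartan matrix of type G2 -/
def smithG2 : Smith chevG2 1 0 where
  A := (!![2, -1; -3, 2] : Matrix (Fin 2) (Fin 2) ℤ)
  M := (0 : Matrix (Fin 2) (Fin 0) ℤ)
  R := (0 : Matrix (Fin 2) (Fin 0) ℤ)
  P := (0 : Matrix (Fin 0) (Fin 2) ℤ)
  U := (0 : Matrix (Fin 0) (Fin 2) ℤ)
  T := (!![2, 1; 3, 2] : Matrix (Fin 2) (Fin 2) ℤ)
  hA := congrFun₂ (by decide +kernel :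
    (!![2, -1; -3, 2] : Matrix (Fin 2) (Fin 2) ℤ) = Matrix.of fun j i => chevG2.cartan i.val (chevG2.simple j.val))
  h1 := by decide +kernel
  h2 := by decide +kernel
  h3 := by decide +kernel
  h4 := by decide +kernel

/-- Smith normal form of the Cartan matrix of type B2 -/
def smithB2 : Smith chevB2 2 1 where
  A := (!![2, -1; -2, 2] : Matrix (Fin 2) (Fin 2) ℤ)
  M := (!![1; 2] : Matrix (Fin 2) (Fin 1) ℤ)
  R := (!![0; 1] : Matrix (Fin 2) (Fin 1) ℤ)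
  P := (!![1, 0] : Matrix (Fin 1) (Fin 2) ℤ)
  U := (!![2, 1] : Matrix (Fin 1) (Fin 2) ℤ)
  T := (!![0, 0; -1, 0] : Matrix (Fin 2) (Fin 2) ℤ)
  hA := congrFun₂ (by decide +kernel :
    (!![2, -1; -2, 2] : Matrix (Fin 2) (Fin 2) ℤ) = Matrix.of fun j i => chevB2.cartan i.val (chevB2.simple j.val))
  h1 := by decide +kernel
  h2 := by decide +kernel
  h3 := by decide +kernel
  h4 := by decide +kernel

/-- Smith normal form of the Cartan matrix of type D4 -/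
def smithD4 : Smith chevD4 2 2 where
  A := (!![2, -1, 0, 0; -1, 2, -1, -1; 0, -1, 2, 0; 0, -1, 0, 2] : Matrix (Fin 4) (Fin 4) ℤ)
  M := (!![0, 1; 0, 2; -1, 1; 1, 2] : Matrix (Fin 4) (Fin 2) ℤ)
  R := (!![0, 0; 0, 0; -1, 0; 1, 1] : Matrix (Fin 4) (Fin 2) ℤ)
  P := (!![-2, 0, 0, 1; 1, 0, 0, 0] : Matrix (Fin 2) (Fin 4) ℤ)
  U := (!![-3, -2, -1, 0; 2, 2, 1, 1] : Matrix (Fin 2) (Fin 4) ℤ)
  T := (!![0, 0, 0, 0; -1, 0, 0, 0; -2, -1, 0, 0; 0, 0, 0, 0] : Matrix (Fin 4) (Fin 4) ℤ)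
  hA := congrFun₂ (by decide +kernel :
    (!![2, -1, 0, 0; -1, 2, -1, -1; 0, -1, 2, 0; 0, -1, 0, 2] : Matrix (Fin 4) (Fin 4) ℤ) = Matrix.of fun j i => chevD4.cartan i.val (chevD4.simple j.val))
  h1 := by decide +kernel
  h2 := by decide +kernel
  h3 := by decide +kernel
  h4 := by decide +kernel

/-- Smith normal form of the Cartan matrix of type F4 -/
def smithF4 : Smith chevF4 1 0 where
  A := (!![2, -1, 0, 0; -1, 2, -1, 0; 0, -2, 2, -1; 0, 0, -1, 2] : Matrix (Fin 4) (Fin 4) ℤ)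
  M := (0 : Matrix (Fin 4) (Fin 0) ℤ)
  R := (0 : Matrix (Fin 4) (Fin 0) ℤ)
  P := (0 : Matrix (Fin 0) (Fin 4) ℤ)
  U := (0 : Matrix (Fin 0) (Fin 4) ℤ)
  T := (!![2, 3, 2, 1; 3, 6, 4, 2; 4, 8, 6, 3; 2, 4, 3, 2] : Matrix (Fin 4) (Fin 4) ℤ)
  hA := congrFun₂ (by decide +kernel :
    (!![2, -1, 0, 0; -1, 2, -1, 0; 0, -2, 2, -1; 0, 0, -1, 2] : Matrix (Fin 4) (Fin 4) ℤ) = Matrix.of fun j i => chevF4.cartan i.val (chevF4.simple j.val))
  h1 := by decide +kernel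
  h2 := by decide +kernel
  h3 := by decide +kernel
  h4 := by decide +kernel

/-- Smith normal form of the Cartan matrix of type E6 -/
def smithE6 : Smith chevE6 3 1 where
  A := (!![2, 0, -1, 0, 0, 0; 0, 2, 0, -1, 0, 0; -1, 0, 2, -1, 0, 0; 0, -1, -1, 2, -1, 0; 0, 0, 0, -1, 2, -1; 0, 0, 0, 0, -1, 2] : Matrix (Fin 6) (Fin 6) ℤ)
  M := (!![-2; -3; -4; -6; -5; -4] : Matrix (Fin 6) (Fin 1) ℤ)
  R := (!![0; 0; 0; 0; 0; -1] : Matrix (Fin 6) (Fin 1) ℤ)
  P := (!![-2, 1, 0, 0, 0, 0] : Matrix (Fin 1) (Fin 6) ℤ)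
  U := (!![-5, 0, -4, -3, -2, -1] : Matrix (Fin 1) (Fin 6) ℤ)
  T := (!![-2, 1, -1, 0, 0, 0; -4, 2, -2, 0, 0, 0; -5, 2, -2, 0, 0, 0; -8, 3, -4, 0, 0, 0; -7, 2, -4, -1, 0, 0; -6, 1, -4, -2, -1, 0] : Matrix (Fin 6) (Fin 6) ℤ)
  hA := congrFun₂ (by decide +kernel :
    (!![2, 0, -1, 0, 0, 0; 0, 2, 0, -1, 0, 0; -1, 0, 2, -1, 0, 0; 0, -1, -1, 2, -1, 0; 0, 0, 0, -1, 2, -1; 0, 0, 0, 0, -1, 2] : Matrix (Fin 6) (Fin 6) ℤ) = Matrix.of fun j i => chevE6.cartan i.val (chevE6.simple j.val))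
  h1 := by decide +kernel
  h2 := by decide +kernel
  h3 := by decide +kernel
  h4 := by decide +kernel

/-- Smith normal form of the Cartan matrix of type E7 -/
def smithE7 : Smith chevE7 2 1 where
  A := (!![2, 0, -1, 0, 0, 0, 0; 0, 2, 0, -1, 0, 0, 0; -1, 0, 2, -1, 0, 0, 0; 0, -1, -1, 2, -1, 0, 0; 0, 0, 0, -1, 2, -1, 0; 0, 0, 0, 0, -1, 2, -1; 0, 0, 0, 0, 0, -1, 2] : Matrix (Fin 7) (Fin 7) ℤ)
  M := (!![-2; -3; -4; -6; -5; -4; -3] : Matrix (Fin 7) (Fin 1) ℤ)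
  R := (!![0; 0; 0; 0; 0; 0; -1] : Matrix (Fin 7) (Fin 1) ℤ)
  P := (!![-2, 1, 0, 0, 0, 0, 0] : Matrix (Fin 1) (Fin 7) ℤ)
  U := (!![-4, -1, -4, -4, -3, -2, -1] : Matrix (Fin 1) (Fin 7) ℤ)
  T := (!![-2, 1, -1, 0, 0, 0, 0; -4, 2, -2, 0, 0, 0, 0; -5, 2, -2, 0, 0, 0, 0; -8, 3, -4, 0, 0, 0, 0; -7, 2, -4, -1, 0, 0, 0; -6, 1, -4, -2, -1, 0, 0; -5, 0, -4, -3, -2, -1, 0] : Matrix (Fin 7) (Fin 7) ℤ)
  hA := congrFun₂ (by decide +kernel :
    (!![2, 0, -1, 0, 0, 0, 0; 0, 2, 0, -1, 0, 0, 0; -1, 0, 2, -1, 0, 0, 0; 0, -1, -1, 2, -1, 0, 0; 0, 0, 0, -1, 2, -1, 0; 0, 0, 0, 0, -1, 2, -1; 0, 0, 0, 0, 0, -1, 2] : Matrix (Fin 7) (Fin 7) ℤ) = Matrix.of fun j i => chevE7.cartan i.val (chevE7.simple j.val))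
  h1 := by decide +kernel
  h2 := by decide +kernel
  h3 := by decide +kernel
  h4 := by decide +kernel

/-- Smith normal form of the Cartan matrix of type E8 -/
def smithE8 : Smith chevE8 1 0 where
  A := (!![2, 0, -1, 0, 0, 0, 0, 0; 0, 2, 0, -1, 0, 0, 0, 0; -1, 0, 2, -1, 0, 0, 0, 0; 0, -1, -1, 2, -1, 0, 0, 0; 0, 0, 0, -1, 2, -1, 0, 0; 0, 0, 0, 0, -1, 2, -1, 0; 0, 0, 0, 0, 0, -1, 2, -1; 0, 0, 0, 0, 0, 0, -1, 2] : Matrix (Fin 8) (Fin 8) ℤ)
  M := (0 : Matrix (Fin 8) (Fin 0) ℤ)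
  R := (0 : Matrix (Fin 8) (Fin 0) ℤ)
  P := (0 : Matrix (Fin 0) (Fin 8) ℤ)
  U := (0 : Matrix (Fin 0) (Fin 8) ℤ)
  T := (!![4, 5, 7, 10, 8, 6, 4, 2; 5, 8, 10, 15, 12, 9, 6, 3; 7, 10, 14, 20, 16, 12, 8, 4; 10, 15, 20, 30, 24, 18, 12, 6; 8, 12, 16, 24, 20, 15, 10, 5; 6, 9, 12, 18, 15, 12, 8, 4; 4, 6, 8, 12, 10, 8, 6, 3; 2, 3, 4, 6, 5, 4, 3, 2] : Matrix (Fin 8) (Fin 8) ℤ)
  hA := congrFun₂ (by decide +kernel :
    (!![2, 0, -1, 0, 0, 0, 0, 0; 0, 2, 0, -1, 0, 0, 0, 0; -1, 0, 2, -1, 0, 0, 0, 0; 0, -1, -1, 2, -1, 0, 0, 0; 0, 0, 0, -1, 2, -1, 0, 0; 0, 0, 0, 0, -1, 2, -1, 0; 0, 0, 0, 0, 0, -1, 2, -1; 0, 0, 0, 0, 0, 0, -1, 2] : Matrix (Fin 8) (Fin 8) ℤ) = Matrix.of fun j i => chevE8.cartan i.val (chevE8.simple j.val))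
  h1 := by decide +kernel
  h2 := by decide +kernel
  h3 := by decide +kernel
  h4 := by decide +kernel

end Cfsg.Agent.ChevalleyTorusCard
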