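import Cfsg.Agent.Lib.TwistedWeyl
import Cfsg.Agent.Lib.ChevalleyGraph
import Cfsg.Agent.Lib.ChevalleyTorusCard

/-!
Twists from graph symmetries and field automorphisms; commuting root elements; counting in finite fields.
-/

set_option autoImplicit false
set_option linter.unusedSectionVars false

namespace Cfsg.Agent.TwistedTools

open Cfsg.Lie Cfsg.Agent.ChevalleyCert Cfsg.Agent.ChevalleyCore Cfsg.Agent.ChevalleyRoots Cfsg.Agent.ChevalleyExp
  Cfsg.Agent.TwistedCore Cfsg.Agent.ChevWeyl Cfsg.Agent.ChevBruhat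

variable {D : ChevalleyDatum} (C : Cert D) {F : Type*} [Field F]

theorem commute_xg {r s : ℕ} (hr : r < D.nroots) (hs : s < D.nroots) (h1 : s ≠ r) (h2 : s ≠ D.neg r)
    (h3 : D.commTerms r s = []) (t u : F) : Commute (xg C r t) (xg C s u) := by
  have h := comm_formula C hr hs h1 h2 t u
  rw [show D.commWord F r s t u = [] by rw [ChevalleyDatum.commWord, h3]; rfl] at h
  show xg C r t * xg C s u = xg C s u * xg C r t
  simpa [wg] using h.symm

theorem mem_gen {A : Set (List (ℕ × F))} {w : List (ℕ × F)} (hw : w ∈ A) : wg C w ∈ D.genSubgroup F A :=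
  Subgroup.subset_closure ⟨w, hw, coe_wg C w⟩

theorem gen_le {A : Set (List (ℕ × F))} {K : Subgroup (GL D.Idx F)} (h : ∀ w ∈ A, wg C w ∈ K) :
    D.genSubgroup F A ≤ K := by
  rw [ChevalleyDatum.genSubgroup, Subgroup.closure_le]
  rintro g ⟨w, hw, hg⟩
  obtain rfl : g = wg C w := Units.ext (hg.trans (coe_wg C w).symm)
  exact h w hw

theorem wg_cons (p : ℕ × F) (w : List (ℕ × F)) : wg C (p :: w) = xg C p.1 p.2 * wg C w := by
  simp [wg]

theorem wg_nil : wg C ([] : List (ℕ × F)) = 1 := by
  simp [wg]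

/-- regrouping a product of two commuting triples -/
theorem triple_mul {G : Type*} [Group G] {a a' b b' : G} (h1 : Commute b a') (h2 : Commute b' a) (h3 : Commute b a) :
    a * b * (a' * b') * (a * b) = a * a' * a * (b * b' * b) := by
  calc a * b * (a' * b') * (a * b) = a * (b * a') * (b' * a) * b := by group
    _ = a * (a' * b) * (a * b') * b := by rw [h1.eq, h2.eq]
    _ = a * a' * (b * a) * b' * b := by group
    _ = a * a' * (a * b) * b' * b := by rw [h3.eq]
    _ = _ := by group

theorem xg_map {K : Type*} [Field K] (f : F →+* K) (r : ℕ) (t : F) :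
    Matrix.GeneralLinearGroup.map f (xg C r t) = xg C r (f t) := by
  apply Units.ext
  show (D.x F r t).map f = D.x K r (f t)
  by_cases hr : r < D.nroots
  · rw [x_eq_xR C hr, x_eq_xR C hr, xR_map]
  · rw [x_out hr, x_out hr, Matrix.map_one _ (map_zero f) (map_one f)]

/-- a graph symmetry composed with a field endomorphism -/
noncomputable def graphTwist (X : Weyl D) (hX : suppCheck D = true) (S : ChevalleyGraph.Sym D) (f : F →+* F)
    (hrefl : ∀ i < D.rank, ∀ r < D.nroots, S.rho (D.reflectRoot i r) = D.reflectRoot (S.pi i) (S.rho r))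
    (hpos : ∀ r < D.nroots, D.nroots / 2 ≤ r → D.nroots / 2 ≤ S.rho r) : Twist C F where
  wX := X
  supp := hX
  ρ := S.rho
  ρs := S.pi
  ρi := S.pinv
  fr := fun _ => f
  σ := (((Units.mapEquiv (ChevalleyGraph.conjM (F := F) D S)).toMonoidHom).comp
    (Matrix.GeneralLinearGroup.map f)).comp (D.group F).subtype
  ρs_lt := S.pi_ok
  ρ_lt r hr := (S.rho_ok r hr).1
  ρ_inj r hr s hs h := ChevalleyGraph.rho_inj S hr hs h
  ρ_simple i hi := (S.simple_ok i hi).1
  ρ_neg r hr := ((S.neg_ok r hr).1).symm
  ρ_refl := hrefl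
  ρ_pos := hpos
  σ_pos i hi t h := by
    have hs := simple_lt C hi
    show (Units.mapEquiv (ChevalleyGraph.conjM (F := F) D S)) (Matrix.GeneralLinearGroup.map f (xg C _ t)) = _
    rw [xg_map]
    apply Units.ext
    show ChevalleyGraph.conjM D S (D.x F (D.simple i) (f t)) = _
    rw [ChevalleyGraph.conjM_x S C hs, (S.simple_ok i hi).1, (S.simple_ok i hi).2.1, Int.cast_one, one_mul]
    rfl
  σ_neg i hi t h := by
    have hs := simple_lt C hi
    show (Units.mapEquiv (ChevalleyGraph.conjM (F := F) D S)) (Matrix.GeneralLinearGroup.map f (xg C _ t)) = _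
    rw [xg_map]
    apply Units.ext
    show ChevalleyGraph.conjM D S (D.x F (D.neg (D.simple i)) (f t)) = _
    rw [ChevalleyGraph.conjM_x S C (C.neg_lt _), ← (S.neg_ok _ hs).1, (S.simple_ok i hi).1,
      (S.simple_ok i hi).2.2, Int.cast_one, one_mul]
    rfl

include C in
theorem torus_eq_one_iff (c : Fin D.rank → Fˣ) :
    ChevalleyTorus.torus D c = 1 ↔ ∀ j : Fin D.rank, ChevalleyTorus.tchar D c (D.simple j.val) = 1 := by
  rw [← MonoidHom.mem_ker, ChevalleyTorusCard.mem_ker C
    (A := Matrix.of fun j i => D.cartan i.val (D.simple j.val)) (fun _ _ => rfl) c]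
  constructor
  · intro h j
    rw [← ofMul_eq_zero, ChevalleyTorusCard.tchar_ofMul]
    exact congrFun h j
  · intro h
    funext j
    show _ = (0 : Additive Fˣ)
    rw [← ofMul_one, ← h j, ChevalleyTorusCard.tchar_ofMul]
    rfl

end Cfsg.Agent.TwistedTools

namespace Cfsg.Agent.TwistedField

variable {K : Type*} [Field K] [Fintype K]

theorem exists_frob {q n : ℕ} (hK : Fintype.card K = q ^ n) (hn : n ≠ 0) :
    ∃ f : K →+* K, ∀ t, f t = t ^ q := by
  obtain ⟨p, _⟩ := CharP.exists K
  obtain ⟨e, hp, hpe⟩ := FiniteField.card K p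
  haveI := Fact.mk hp
  obtain ⟨j, -, hj⟩ : ∃ j, j ≤ (e : ℕ) ∧ q = p ^ j := by
    rw [← Nat.dvd_prime_pow hp, ← hpe, hK]
    exact dvd_pow_self q hn
  exact ⟨iterateFrobenius K p j, fun x => by rw [iterateFrobenius_def, hj]⟩

theorem one_lt_base {q n : ℕ} (hK : Fintype.card K = q ^ n) : 1 < q := by
  have := Fintype.one_lt_card (α := K)
  rw [hK] at this
  rcases q with _ | _ | q
  · rcases n with _ | n <;> simp at this
  · simp at this
  · omega

theorem card_units_eq : Nat.card Kˣ = Fintype.card K - 1 := by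
  classical
  rw [Nat.card_eq_fintype_card, Fintype.card_units]

/-- the number of `m`-th roots of unity -/
theorem card_units_pow {m : ℕ} :
    Nat.card {t : Kˣ // t ^ m = 1} = Nat.gcd (Fintype.card K - 1) m := by
  rw [← card_units_eq, ← IsCyclic.card_powMonoidHom_ker (G := Kˣ) m]
  exact Nat.card_congr (Equiv.subtypeEquiv (Equiv.refl _) fun x => Iff.rfl)

/-- the units of the subfield with `q` elements -/
theorem card_units_fix {q n : ℕ} (hK : Fintype.card K = q ^ n) :
    Nat.card {t : Kˣ // t ^ q = t} = q - 1 := by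
  have hq := one_lt_base hK
  have h : Nat.card {t : Kˣ // t ^ q = t} = Nat.card {t : Kˣ // t ^ (q - 1) = 1} := by
    refine Nat.card_congr (Equiv.subtypeEquiv (Equiv.refl _) fun t => ?_)
    obtain ⟨k, rfl⟩ : ∃ k, q = k + 1 := ⟨q - 1, by omega⟩
    simp [pow_succ]
  rw [h, card_units_pow, hK]
  apply Nat.gcd_eq_right
  simpa using Nat.sub_dvd_pow_sub_pow q 1 n

/-- the subfield with `q` elements -/
theorem card_fix {q n : ℕ} (hK : Fintype.card K = q ^ n) :
    Nat.card {t : K // t ^ q = t} = q := by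
  classical
  have hq := one_lt_base hK
  have h := card_units_fix hK
  rw [Nat.card_eq_fintype_card, Fintype.card_subtype] at h ⊢
  have hsplit : (Finset.univ.filter fun t : K => t ^ q = t) =
      insert 0 ((Finset.univ.filter fun t : Kˣ => t ^ q = t).image Units.val) := by
    ext t
    simp only [Finset.mem_filter, Finset.mem_univ, true_and, Finset.mem_insert, Finset.mem_image]
    constructor
    · intro ht
      rcases eq_or_ne t 0 with rfl | h0
      · exact Or.inl rfl
      · exact Or.inr ⟨Units.mk0 t h0, Units.ext (by simpa using ht), rfl⟩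
    · rintro (rfl | ⟨u, hu, rfl⟩)
      · exact zero_pow (by omega)
      · rw [← Units.val_pow_eq_pow_val, hu]
  rw [hsplit, Finset.card_insert_of_notMem, Finset.card_image_of_injective _ Units.val_injective, h]
  · omega
  · simp

end Cfsg.Agent.TwistedField
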