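import Cfsg.Agent.Lib.J2Minimal

set_option autoImplicit false
set_option maxRecDepth 100000

/-! The reflection group `2·J2` acts on its 315 reflections with kernel its centre `{±1}`. -/

namespace Cfsg.Agent.J2Group

open Cfsg.Agent.IcosianData Cfsg.Agent.IcosianCoords Cfsg.Agent.IcosianRefl Cfsg.Agent.J2VectorData
  Cfsg.Agent.J2Lines Cfsg.Agent.J2Minimal Cfsg.Spor Quaternion

theorem exists_refl {f : Equiv.Perm icoLeech} (hf : IsIcoReflection f) : ∃ k, f = refl k := by
  obtain ⟨r, hr, hfr⟩ := hf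
  obtain ⟨k, hk, u, hu, he⟩ := exists_root r.2 hr
  refine ⟨⟨k, hk⟩, Equiv.ext fun x => Subtype.ext ?_⟩
  rw [hfr, refl_apply, he, qrefl_unit (unit_star hu).1]

/-- The permutation group of lines. -/
def lineGroup : Subgroup (Equiv.Perm (Fin 315)) := Subgroup.closure (Set.range gperm)

lemma gperm_mem (g : Fin 4) : gperm g ∈ lineGroup := Subgroup.subset_closure ⟨g, rfl⟩

theorem lineGroup_transitive : ∀ k : Fin 315, ∃ σ ∈ lineGroup, σ 0 = k := by
  have key : ∀ d : ℕ, ∀ k : Fin 315, rootDepth.getD k 0 = d → ∃ σ ∈ lineGroup, σ 0 = k := by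
    intro d
    induction d using Nat.strong_induction_on with
    | _ d ih =>
      intro k hd
      by_cases h0 : k = 0
      · exact ⟨1, lineGroup.one_mem, by rw [h0]; rfl⟩
      have h := List.all_eq_true.mp tree_ok k (List.mem_range.mpr k.2)
      simp only [Bool.or_eq_true, Bool.and_eq_true, decide_eq_true_eq] at h
      rcases h with h | ⟨⟨⟨hg, hp⟩, hke⟩, hlt⟩
      · exact absurd (Fin.ext h) h0
      obtain ⟨σ, hσ, hσ0⟩ := ih _ (hd ▸ hlt) ⟨_, hp⟩ rfl
      refine ⟨gperm ⟨_, hg⟩ * σ, mul_mem (gperm_mem _) hσ, ?_⟩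
      rw [Equiv.Perm.mul_apply, hσ0]
      exact Fin.ext hke
  exact fun k => key _ k rfl

/-- Compatible pairs of a lattice permutation and a line permutation. -/
def Compat (g : Equiv.Perm icoLeech) (σ : Equiv.Perm (Fin 315)) : Prop :=
  ∀ k, g * refl k * g⁻¹ = refl (σ k)

lemma compat_mul {g h : Equiv.Perm icoLeech} {σ τ : Equiv.Perm (Fin 315)} (hg : Compat g σ) (hh : Compat h τ) :
    Compat (g * h) (σ * τ) := fun k => by
  rw [Equiv.Perm.mul_apply, ← hg, ← hh]; group

lemma compat_one : Compat 1 1 := fun k => by simp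

lemma compat_inv {g : Equiv.Perm icoLeech} {σ : Equiv.Perm (Fin 315)} (hg : Compat g σ) : Compat g⁻¹ σ⁻¹ := fun k => by
  have := hg (σ⁻¹ k)
  rw [Equiv.Perm.inv_def, Equiv.apply_symm_apply] at this
  rw [Equiv.Perm.inv_def σ, ← this]; group

lemma compat_gen (g : Fin 4) : Compat (refl (gfin g)) (gperm g) := refl_conj g

/-- The group generated by the four reflections. -/
noncomputable def gens : Subgroup (Equiv.Perm icoLeech) := Subgroup.closure (Set.range fun g => refl (gfin g))

lemma exists_line {g : Equiv.Perm icoLeech} (hg : g ∈ gens) : ∃ σ ∈ lineGroup, Compat g σ := by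
  induction hg using Subgroup.closure_induction with
  | mem x hx => obtain ⟨i, rfl⟩ := hx; exact ⟨_, gperm_mem i, compat_gen i⟩
  | one => exact ⟨1, one_mem _, compat_one⟩
  | mul a b _ _ ha hb =>
    obtain ⟨σ, hσ, h1⟩ := ha; obtain ⟨τ, hτ, h2⟩ := hb
    exact ⟨σ * τ, mul_mem hσ hτ, compat_mul h1 h2⟩
  | inv a _ ha => obtain ⟨σ, hσ, h1⟩ := ha; exact ⟨σ⁻¹, inv_mem hσ, compat_inv h1⟩

lemma exists_lift {σ : Equiv.Perm (Fin 315)} (hσ : σ ∈ lineGroup) : ∃ g ∈ gens, Compat g σ := by
  induction hσ using Subgroup.closure_induction with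
  | mem x hx => obtain ⟨i, rfl⟩ := hx; exact ⟨_, Subgroup.subset_closure ⟨i, rfl⟩, compat_gen i⟩
  | one => exact ⟨1, one_mem _, compat_one⟩
  | mul a b _ _ ha hb =>
    obtain ⟨g, hg, h1⟩ := ha; obtain ⟨h, hh, h2⟩ := hb
    exact ⟨g * h, mul_mem hg hh, compat_mul h1 h2⟩
  | inv a _ ha => obtain ⟨g, hg, h1⟩ := ha; exact ⟨g⁻¹, inv_mem hg, compat_inv h1⟩

theorem zero_ne : ((List.range 315).all fun k => decide (k = 0) ||
    (reflOK (root 0) (root k) && !decide (reflC (root 0) (root k) = neg3 (root k)))) = true := by decide +kernel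

theorem refl_injective : Function.Injective refl := by
  intro j k h
  obtain ⟨σ, hσ, hσj⟩ := lineGroup_transitive j
  obtain ⟨g, -, hg⟩ := exists_lift (inv_mem hσ)
  have h1 := hg k
  rw [← h, hg j, ← hσj] at h1
  simp only [Equiv.Perm.inv_def, Equiv.symm_apply_apply] at h1
  by_contra hne
  set m := σ.symm k with hm
  have hm0 : m ≠ 0 := fun e => hne (by rw [← hσj, ← e, hm, Equiv.apply_symm_apply])
  have hz := List.all_eq_true.mp zero_ne m (List.mem_range.mpr m.2)
  simp only [Bool.or_eq_true, Bool.and_eq_true, decide_eq_true_eq, Bool.not_eq_true', decide_eq_false_iff_not] at hz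
  rcases hz with e | ⟨h2, h3⟩
  · exact hm0 (Fin.ext e)
  · refine h3 (val3_injective ?_)
    have h4 := congrArg (fun f : Equiv.Perm icoLeech =>
      ((f ⟨val3 (root m), (root_facts m m.2).1⟩ : icoLeech) : Fin 3 → ℍ[ℝ])) h1
    simp only [refl_apply] at h4
    rw [qrefl_self (root_facts m m.2).2.1] at h4
    rw [← qrefl_val3 h2, val3_neg3]
    exact h4

theorem refl_mem_gens (k : Fin 315) : refl k ∈ gens := by
  obtain ⟨σ, hσ, h0⟩ := lineGroup_transitive k
  obtain ⟨g, hg, hc⟩ := exists_lift hσ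
  rw [← h0, ← hc 0]
  have : refl 0 ∈ gens := Subgroup.subset_closure ⟨0, rfl⟩
  exact mul_mem (mul_mem hg this) (inv_mem hg)

theorem gens_eq : gens = twoJ2 := by
  refine le_antisymm ((Subgroup.closure_le _).mpr ?_) ((Subgroup.closure_le _).mpr ?_)
  · rintro _ ⟨i, rfl⟩; exact Subgroup.subset_closure (isRefl_refl _)
  · intro f hf
    obtain ⟨k, rfl⟩ := exists_refl hf
    exact refl_mem_gens k

lemma refl_mem (k : Fin 315) : refl k ∈ twoJ2 := gens_eq ▸ refl_mem_gens k

lemma exists_sigma (g : twoJ2) : ∃ σ, σ ∈ lineGroup ∧ Compat g σ := exists_line (gens_eq.symm ▸ g.2)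

/-- The action on lines. -/
noncomputable def toLines : twoJ2 →* Equiv.Perm (Fin 315) where
  toFun g := (exists_sigma g).choose
  map_one' := Equiv.ext fun k => refl_injective (by
    rw [← (exists_sigma 1).choose_spec.2 k]; simp)
  map_mul' a b := Equiv.ext fun k => refl_injective (by
    rw [← (exists_sigma (a * b)).choose_spec.2 k,
      ← compat_mul (exists_sigma a).choose_spec.2 (exists_sigma b).choose_spec.2 k]
    rfl)

lemma toLines_spec (g : twoJ2) : Compat g (toLines g) := (exists_sigma g).choose_spec.2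

lemma toLines_refl (g : Fin 4) : toLines ⟨refl (gfin g), refl_mem _⟩ = gperm g :=
  Equiv.ext fun k => refl_injective (by rw [← toLines_spec, compat_gen])

theorem range_toLines : toLines.range = lineGroup := by
  refine le_antisymm ?_ ((Subgroup.closure_le _).mpr ?_)
  · rintro _ ⟨g, rfl⟩; exact (exists_sigma g).choose_spec.1
  · rintro _ ⟨i, rfl⟩; exact ⟨_, toLines_refl i⟩

theorem ker_eq_center : toLines.ker = Subgroup.center twoJ2 := by
  ext g
  rw [MonoidHom.mem_ker, Subgroup.mem_center_iff]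
  constructor
  · intro hg h
    have key : ∀ x ∈ twoJ2, x * (g : Equiv.Perm icoLeech) = g * x := by
      intro x hx
      induction hx using Subgroup.closure_induction with
      | mem x hx =>
        obtain ⟨k, rfl⟩ := exists_refl hx
        have h1 := toLines_spec g k
        rw [hg, Equiv.Perm.one_apply] at h1
        exact (mul_inv_eq_iff_eq_mul.mp h1).symm
      | one => simp
      | mul a b _ _ ha hb => rw [mul_assoc, hb, ← mul_assoc, ha, mul_assoc]
      | inv a _ ha =>
        have := congrArg (fun y => a⁻¹ * y * a⁻¹) ha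
        simpa [mul_assoc] using this.symm
    exact Subtype.ext (key h h.2)
  · intro hg
    refine Equiv.ext fun k => refl_injective ?_
    rw [← toLines_spec]
    have := congrArg Subtype.val (hg ⟨refl k, refl_mem k⟩)
    rw [Equiv.Perm.one_apply, mul_inv_eq_iff_eq_mul]
    exact this.symm

/-- Elements act by left-linear isometries. -/
theorem exists_linear {g : Equiv.Perm icoLeech} (hg : g ∈ gens) :
    ∃ L : (Fin 3 → ℍ[ℝ]) → (Fin 3 → ℍ[ℝ]), (∀ x y, L (x + y) = L x + L y) ∧
      (∀ c x, L (lsmul c x) = lsmul c (L x)) ∧ (∀ x y, qip (L x) (L y) = qip x y) ∧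
      ∀ x : icoLeech, ((g x : icoLeech) : Fin 3 → ℍ[ℝ]) = L x := by
  induction hg using Subgroup.closure_induction_right with
  | one => exact ⟨id, fun _ _ => rfl, fun _ _ => rfl, fun _ _ => rfl, fun _ => rfl⟩
  | mul_right x y _ hy ih =>
    obtain ⟨i, rfl⟩ := hy
    obtain ⟨L, h1, h2, h3, h4⟩ := ih
    have hn := gen_norm i.2
    exact ⟨L ∘ qrefl (val3 (root (gfin i))), fun a b => by simp [Function.comp, qrefl_add, h1],
      fun c a => by simp [Function.comp, qrefl_lsmul, h2],
      fun a b => by simp only [Function.comp]; rw [h3]; exact qip_qrefl hn a b,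
      fun a => by rw [Equiv.Perm.mul_apply, h4]; rfl⟩
  | mul_inv_cancel x y _ hy ih =>
    obtain ⟨i, rfl⟩ := hy
    obtain ⟨L, h1, h2, h3, h4⟩ := ih
    have hn := gen_norm i.2
    exact ⟨L ∘ qrefl (val3 (root (gfin i))), fun a b => by simp [Function.comp, qrefl_add, h1],
      fun c a => by simp [Function.comp, qrefl_lsmul, h2],
      fun a b => by simp only [Function.comp]; rw [h3]; exact qip_qrefl hn a b,
      fun a => by rw [refl_inv, Equiv.Perm.mul_apply, h4]; rfl⟩

theorem special_roots :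
    root 0 = ⟨zero, zero, ⟨-4, 0, 0, 0, 0, 0, 0, 0⟩⟩ ∧ root 9 = ⟨zero, ⟨-4, 0, 0, 0, 0, 0, 0, 0⟩, zero⟩ ∧
    root 314 = ⟨⟨-4, 0, 0, 0, 0, 0, 0, 0⟩, zero, zero⟩ ∧
    root 10 = ⟨neg one, neg one, ⟨-1, 0, -1, 0, 1, 0, -1, 2⟩⟩ ∧
    (root 18).x = neg one ∧ (root 18).y = neg qi ∧ (root 26).x = neg one ∧
    (root 26).y = ⟨0, 0, 0, 0, -2, 0, 0, 0⟩ := by decide +kernel

lemma val_neg_two : val ⟨-4, 0, 0, 0, 0, 0, 0, 0⟩ = ((-2 : ℝ) : ℍ[ℝ]) := by
  ext <;> simp [val_re, val_imI, val_imJ, val_imK] <;> norm_num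

/-- The product of the three axis reflections is minus the identity. -/
theorem axis_product (x : icoLeech) :
    (((refl 0 * refl 9 * refl 314) x : icoLeech) : Fin 3 → ℍ[ℝ]) = -(x : Fin 3 → ℍ[ℝ]) := by
  obtain ⟨e0, e9, e14, -⟩ := special_roots
  simp only [Equiv.Perm.mul_apply, refl_apply]
  rw [show ((0 : Fin 315) : ℕ) = 0 from rfl, show ((9 : Fin 315) : ℕ) = 9 from rfl,
    show ((314 : Fin 315) : ℕ) = 314 from rfl, e0, e9, e14]
  funext t
  fin_cases t <;>
    simp [qrefl, qip, val3, Fin.sum_univ_three, val_zero, val_neg_two, Quaternion.star_coe,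
      Quaternion.mul_coe_eq_smul, Quaternion.coe_mul_eq_smul, smul_smul] <;>
    module

theorem center_cases {g : twoJ2} (hg : g ∈ toLines.ker) :
    g = 1 ∨ (g : Equiv.Perm icoLeech) = refl 0 * refl 9 * refl 314 := by
  obtain ⟨L, hadd, hsm, hiso, hL⟩ := exists_linear (g := (g : Equiv.Perm icoLeech)) (by rw [gens_eq]; exact g.2)
  have hneg : ∀ x, L (-x) = -L x := fun x => by
    have h0 : L 0 = 0 := by
      have := hadd 0 0
      rw [add_zero] at this
      simpa using this
    have := hadd x (-x)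
    rw [add_neg_cancel, h0] at this
    exact (neg_eq_of_add_eq_zero_right this.symm).symm
  have heig : ∀ k : Fin 315, ∃ c : ℍ[ℝ], L (val3 (root k)) = lsmul c (val3 (root k)) := by
    intro k
    obtain ⟨hl, hn, -⟩ := root_facts k k.2
    have h1 := toLines_spec g k
    rw [hg, Equiv.Perm.one_apply, mul_inv_eq_iff_eq_mul] at h1
    have h2 := congrArg (fun f : Equiv.Perm icoLeech => ((f ⟨_, hl⟩ : icoLeech) : Fin 3 → ℍ[ℝ])) h1
    simp only [Equiv.Perm.mul_apply] at h2
    have h3 : ((refl k ⟨_, hl⟩ : icoLeech) : Fin 3 → ℍ[ℝ]) = -val3 (root k) := by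
      rw [refl_apply, qrefl_self hn]
    rw [hL, h3, refl_apply, hL, hneg] at h2
    refine ⟨(1 / 2 : ℝ) • (1 / 2 : ℝ) • qip (L (val3 (root k))) (val3 (root k)), ?_⟩
    have h4 : L (val3 (root k)) + L (val3 (root k)) =
        lsmul ((1 / 2 : ℝ) • qip (L (val3 (root k))) (val3 (root k))) (val3 (root k)) := by
      rw [qrefl_eq] at h2
      rw [eq_sub_iff_add_eq, ← sub_eq_zero] at h2
      funext t
      have h5 := congrFun h2 t
      simp only [Pi.sub_apply, Pi.add_apply, Pi.neg_apply, Pi.zero_apply] at h5 ⊢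
      linear_combination (norm := abel) -h5
    funext t
    have h5 := congrFun h4 t
    simp only [lsmul, Pi.add_apply, smul_mul_assoc] at h5 ⊢
    rw [← h5, smul_add, ← add_smul]
    norm_num
  obtain ⟨e0, e9, e14, e10, e18x, e18y, e26x, e26y⟩ := special_roots
  obtain ⟨cz, hz⟩ := heig 0
  obtain ⟨cy, hy⟩ := heig 9
  obtain ⟨cx, hx⟩ := heig 314
  rw [show ((0 : Fin 315) : ℕ) = 0 from rfl, e0] at hz
  rw [show ((9 : Fin 315) : ℕ) = 9 from rfl, e9] at hy
  rw [show ((314 : Fin 315) : ℕ) = 314 from rfl, e14] at hx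
  have hLx : ∀ x : Fin 3 → ℍ[ℝ], L x = ![x 0 * cx, x 1 * cy, x 2 * cz] := by
    intro x
    have hd : x = lsmul ((-1 / 2 : ℝ) • x 0) (val3 ⟨⟨-4, 0, 0, 0, 0, 0, 0, 0⟩, zero, zero⟩) +
        lsmul ((-1 / 2 : ℝ) • x 1) (val3 ⟨zero, ⟨-4, 0, 0, 0, 0, 0, 0, 0⟩, zero⟩) +
        lsmul ((-1 / 2 : ℝ) • x 2) (val3 ⟨zero, zero, ⟨-4, 0, 0, 0, 0, 0, 0, 0⟩⟩) := by
      funext t
      fin_cases t <;>
        simp [lsmul, val3, val_zero, val_neg_two, Quaternion.mul_coe_eq_smul, Quaternion.coe_mul_eq_smul, smul_smul]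
    conv_lhs => rw [hd, hadd, hadd, hsm, hsm, hsm, hx, hy, hz]
    funext t
    fin_cases t <;>
      simp [lsmul, val3, val_zero, val_neg_two, Quaternion.mul_coe_eq_smul, Quaternion.coe_mul_eq_smul, smul_smul] <;>
      norm_num
  obtain ⟨c, hc⟩ := heig 10
  rw [show ((10 : Fin 315) : ℕ) = 10 from rfl, e10, hLx] at hc
  have hone : val (neg one) = -1 := by rw [val_neg, val_one]
  have hqi : val (neg qi) = -qI := by rw [val_neg, val_qi]
  have q0 := congrFun hc 0
  have q1 := congrFun hc 1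
  have q2 := congrFun hc 2
  simp [lsmul, val3, hone] at q0 q1 q2
  have comm : ∀ (k : Fin 315) (q : ℍ[ℝ]), (root k).x = neg one → val (root k).y = -q → q * cx = cx * q := by
    intro k q hkx hky
    obtain ⟨c', hc'⟩ := heig k
    rw [hLx] at hc'
    have p0 := congrFun hc' 0
    have p1 := congrFun hc' 1
    simp [lsmul, val3, hkx, hone, hky] at p0 p1
    rw [← p0] at p1
    rwa [q1.trans q0.symm] at p1
  have ci := comm 18 qI e18x (by rw [show ((18 : Fin 315) : ℕ) = 18 from rfl, e18y, hqi])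
  have cj := comm 26 (val ⟨0, 0, 0, 0, 2, 0, 0, 0⟩) e26x (by
    rw [show ((26 : Fin 315) : ℕ) = 26 from rfl, e26y, ← val_neg]; rfl)
  have hreal : cx = ((cx.re : ℝ) : ℍ[ℝ]) := by
    have i2 := congrArg QuaternionAlgebra.imJ ci
    have i3 := congrArg QuaternionAlgebra.imK ci
    have j3 := congrArg QuaternionAlgebra.imK cj
    have r0 : qI.re = 0 := rfl
    have r1 : qI.imI = 1 := rfl
    have r2 : qI.imJ = 0 := rfl
    have r3 : qI.imK = 0 := rfl
    simp [r0, r1, r2, r3, val_re, val_imI, val_imJ, val_imK] at i2 i3 j3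
    ext <;> simp <;> linarith
  have hz' : cz = cx := by
    have hne : val ⟨-1, 0, -1, 0, 1, 0, -1, 2⟩ ≠ 0 := fun h => by
      rw [← val_zero] at h
      exact absurd (val_injective h) (by decide)
    rw [← q0, hreal, Quaternion.coe_commutes] at q2
    exact (mul_left_cancel₀ hne q2).trans hreal.symm
  have hLs : ∀ x : Fin 3 → ℍ[ℝ], L x = fun t => x t * cx := by
    intro x
    rw [hLx]
    funext t
    fin_cases t <;> simp [hz', q1.trans q0.symm]
  have hsq : cx.re * cx.re = 1 := by
    have hn := (root_facts 314 (by norm_num)).2.1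
    have h1 := hiso (val3 (root 314)) (val3 (root 314))
    rw [hn, hLs, e14] at h1
    rw [hreal] at h1
    simp [qip, val3, Fin.sum_univ_three, val_zero, val_neg_two] at h1
    have h2 := congrArg QuaternionAlgebra.re h1
    simp at h2
    rw [show QuaternionAlgebra.re (4 : ℍ[ℝ]) = 4 from rfl] at h2
    linarith
  rcases mul_self_eq_one_iff.mp hsq with h | h
  · left
    refine Subtype.ext (Equiv.ext fun x => Subtype.ext ?_)
    rw [hL, hLs, hreal, h]
    simp
  · right
    refine Equiv.ext fun x => Subtype.ext ?_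
    rw [hL, hLs, hreal, h, axis_product]
    funext t
    simp

theorem card_ker : Nat.card toLines.ker = 2 := by
  set z : twoJ2 := ⟨refl 0 * refl 9 * refl 314, mul_mem (mul_mem (refl_mem _) (refl_mem _)) (refl_mem _)⟩ with hz
  have hzk : z ∈ toLines.ker := by
    rw [MonoidHom.mem_ker]
    refine Equiv.ext fun k => refl_injective ?_
    rw [← toLines_spec, Equiv.Perm.one_apply, mul_inv_eq_iff_eq_mul]
    refine Equiv.ext fun x => Subtype.ext ?_
    show (((refl 0 * refl 9 * refl 314) (refl k x) : icoLeech) : Fin 3 → ℍ[ℝ]) = _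
    rw [axis_product, Equiv.Perm.mul_apply, refl_apply, refl_apply, show ((z : Equiv.Perm icoLeech) x : Fin 3 → ℍ[ℝ]) = -(x : Fin 3 → ℍ[ℝ]) from axis_product x]
    have := qrefl_add (val3 (root k)) (-(x : Fin 3 → ℍ[ℝ])) x
    have h0 : qrefl (val3 (root k)) 0 = 0 := by
      have h00 := qrefl_add (val3 (root k)) 0 0
      rw [add_zero] at h00
      simpa using h00
    rw [neg_add_cancel, h0] at this
    exact neg_eq_of_add_eq_zero_left this.symm
  have hz1 : z ≠ 1 := fun h => by
    have h1 := axis_product ⟨val3 (root 0), (root_facts 0 (by norm_num)).1⟩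
    rw [show J2Lines.refl 0 * J2Lines.refl 9 * J2Lines.refl 314 = 1 from congrArg Subtype.val h, Equiv.Perm.one_apply] at h1
    have h2 := congrFun h1 2
    change val3 (root 0) 2 = -val3 (root 0) 2 at h2
    rw [special_roots.1] at h2
    have h3 := congrArg QuaternionAlgebra.re h2
    simp [val3, val_neg_two] at h3
    linarith
  rw [Nat.card_eq_two_iff]
  refine ⟨1, ⟨z, hzk⟩, fun h => hz1 (congrArg Subtype.val h).symm, ?_⟩
  refine Set.eq_univ_of_forall fun g => ?_
  rcases center_cases g.2 with h | h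
  · exact Or.inl (Subtype.ext h)
  · exact Or.inr (Subtype.ext (Subtype.ext h))

/-- `J2` is the permutation group of the 315 lines. -/
noncomputable def toLineGroup : J2 ≃* lineGroup :=
  (QuotientGroup.quotientMulEquivOfEq ker_eq_center.symm).trans
    ((QuotientGroup.quotientKerEquivRange toLines).trans (MulEquiv.subgroupCongr range_toLines))

end Cfsg.Agent.J2Group
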