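import Cfsg.Agent.Lib.J3Mat90
import Cfsg.Agent.Lib.J3Data90

/-! The defining matrices of the triple cover and their packed codes. -/

set_option autoImplicit false
set_option maxRecDepth 100000

namespace Cfsg.Agent.J3Gens90

open CosetCertCore J3Mat90 J3Data90
open Cfsg.Spor

/-- The bit pair of the power of `ω` with exponent `n`. -/
def wb (n : ZMod 3) : Bool × Bool :=
  if n = 0 then (true, false) else if n = 1 then (false, true) else (true, true)

/-- The exponent of the translation coefficient. -/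
def lamN (Z z : F9) : ZMod 3 :=
  if z = 0 then 0
  else if F9.div Z z = F9.I - F9.one then 1
  else if F9.div Z z = -F9.I - F9.one then 2
  else 0

def bits (M : ℕ) (w z : F9) : Bool × Bool := (lo M (ix w) (ix z), hi M (ix w) (ix z))

noncomputable def codeA (Z : F9) : ℕ := origGens.getD (ix Z : ℕ) 0
noncomputable def codeE (Z : F9) : ℕ := origGens.getD (9 + ix Z : ℕ) 0
noncomputable def codeD (Z : F9) : ℕ := origGens.getD (18 + ix Z : ℕ) 0
noncomputable def codeB (Z : F9) : ℕ := origGens.getD (26 + ix Z : ℕ) 0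
noncomputable def codeC (Z : F9) : ℕ := origGens.getD (34 + ix Z : ℕ) 0

theorem bitsA : ∀ Z w z : F9, bits (codeA Z) w z =
    if w = z then wb (Z.1 * w.1 + Z.2 * w.2) else (false, false) := by decide +kernel

theorem bitsE : ∀ Z w z : F9, bits (codeE Z) w z =
    if w = z then wb ((Z.1 - w.1) ^ 2 + (Z.2 - w.2) ^ 2) else (false, false) := by decide +kernel

theorem bitsD : ∀ Z w z : F9, bits (codeD Z) w z =
    if w = z + Z then wb (lamN Z z) else (false, false) := by decide +kernel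

theorem bitsB : ∀ Z w z : F9, Z ≠ 0 → bits (codeB Z) w z =
    if w = F9.mul Z z then (true, false) else (false, false) := by decide +kernel

theorem bitsC : ∀ Z w z : F9, Z ≠ 0 → bits (codeC Z) w z =
    (if z = 0 then (if w = 0 then (true, false) else (false, false))
    else if w = -F9.div Z z ∨ w = F9.mul F9.I (F9.div Z z) ∨ w = -F9.mul F9.I (F9.div Z z)
      then (true, false) else (false, false)) := by decide +kernel

theorem bits_one : ∀ w z : F9, bits one w z = if w = z then (true, false) else (false, false) := by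
  decide +kernel

theorem bits_scal : ∀ w z : F9, bits scal w z = if w = z then (false, true) else (false, false) := by
  decide +kernel

section
variable {F : Type*} [Field F] (ω : F)

theorem ev_apply (M : ℕ) (w z : F9) : ev ω M w z = e2 ω (bits M w z).1 (bits M w z).2 := rfl

theorem e2_wb (h2 : (2 : F) = 0) (hω : ω ^ 2 + ω + 1 = 0) (n : ZMod 3) :
    e2 ω (wb n).1 (wb n).2 = omegaPow F ω n := by
  fin_cases n
  · show e2 ω true false = ω ^ 0
    simp [e2]
  · show e2 ω false true = ω ^ 1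
    simp [e2]
  · show e2 ω true true = ω ^ 2
    simp only [e2, if_true]
    linear_combination (ω + 1) * h2 - hω

theorem ev_one : ev ω one = 1 := by
  ext w z
  rw [ev_apply, bits_one, Matrix.one_apply]
  split <;> simp [e2]

theorem ev_scal : ev ω scal = ω • (1 : Matrix F9 F9 F) := by
  ext w z
  rw [ev_apply, bits_scal, Matrix.smul_apply, Matrix.one_apply]
  split <;> simp [e2]

variable (h2 : (2 : F) = 0) (hω : ω ^ 2 + ω + 1 = 0)
include h2 hω

theorem ev_A (Z : F9) : ev ω (codeA Z) = j3A F ω Z := by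
  ext w z
  rw [ev_apply, bitsA, j3A, Matrix.diagonal_apply]
  split
  · exact e2_wb ω h2 hω _
  · simp [e2]

theorem ev_E (Z : F9) : ev ω (codeE Z) = j3E F ω Z := by
  ext w z
  rw [ev_apply, bitsE, j3E, Matrix.diagonal_apply]
  split
  · exact e2_wb ω h2 hω _
  · simp [e2]

theorem ev_D (Z : F9) : ev ω (codeD Z) = j3D F ω Z := by
  ext w z
  rw [ev_apply, bitsD, j3D, Matrix.of_apply]
  split
  · rw [e2_wb ω h2 hω]
    unfold lamN j3Lam
    split_ifs
    · show ω ^ 0 = 1
      rw [pow_zero]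
    · show ω ^ 1 = ω
      rw [pow_one]
    · rfl
    · show ω ^ 0 = 1
      rw [pow_zero]
  · simp [e2]

theorem ev_B (Z : F9) (hZ : Z ≠ 0) : ev ω (codeB Z) = j3B F Z := by
  ext w z
  rw [ev_apply, bitsB Z w z hZ, j3B, Matrix.of_apply]
  split <;> simp [e2]

theorem ev_C (Z : F9) (hZ : Z ≠ 0) : ev ω (codeC Z) = j3C F Z := by
  ext w z
  rw [ev_apply, bitsC Z w z hZ, j3C, Matrix.of_apply]
  split_ifs <;> simp [e2]

omit h2 hω in
theorem ix_B : ∀ Z : F9, Z ≠ 0 → 26 + (ix Z : ℕ) < 43 ∧ 34 + (ix Z : ℕ) < 43 := by decide +kernel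

/-- Every defining matrix has a code in the list. -/
theorem gens_code {m : Matrix F9 F9 F} (hm : m ∈ j3Gens F ω) :
    ∃ n < 43, ev ω (origGens.getD n 0) = m := by
  obtain (((⟨Z, rfl⟩ | ⟨Z, rfl⟩) | ⟨Z, rfl⟩) | ⟨Z, hZ, rfl⟩) | ⟨Z, hZ, rfl⟩ := hm
  · exact ⟨ix Z, by omega, ev_A ω h2 hω Z⟩
  · exact ⟨9 + ix Z, by omega, ev_E ω h2 hω Z⟩
  · exact ⟨18 + ix Z, by omega, ev_D ω h2 hω Z⟩
  · exact ⟨26 + ix Z, (ix_B Z hZ).1, ev_B ω h2 hω Z hZ⟩
  · exact ⟨34 + ix Z, (ix_B Z hZ).2, ev_C ω h2 hω Z hZ⟩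

/-- The codes entering the two words are defining matrices. -/
theorem word_gens :
    ev ω (origGens.getD 13 0) ∈ j3Gens F ω ∧ ev ω (origGens.getD 17 0) ∈ j3Gens F ω ∧
    ev ω (origGens.getD 22 0) ∈ j3Gens F ω ∧ ev ω (origGens.getD 37 0) ∈ j3Gens F ω := by
  refine ⟨?_, ?_, ?_, ?_⟩
  · left; left; left; right
    exact ⟨(1, 1), (ev_E ω h2 hω (1, 1)).symm⟩
  · left; left; left; right
    exact ⟨(2, 2), (ev_E ω h2 hω (2, 2)).symm⟩
  · left; left; right
    exact ⟨(1, 1), (ev_D ω h2 hω (1, 1)).symm⟩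
  · right
    exact ⟨(1, 0), by decide, ev_C ω h2 hω (1, 0) (by decide)⟩

end

end Cfsg.Agent.J3Gens90
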