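import Mathlib
import Cfsg.Prelude.Def_Sporadic_a

/-!
Elementary facts about the quadratic residue code of length 24 and the rank 24 lattice built from it:
self-orthogonality, doubly evenness, an information set, two congruences valid on the whole lattice,
sign changes and coordinate permutations as lattice automorphisms, and the frame subgroup spanned by
the vectors with coordinates divisible by four.
-/

set_option autoImplicit false

namespace Cfsg.Agent.LeechFrame

open Finset

/-- The 24 generators of the code. -/
def gen (i : Fin 24) : GolayPt → ZMod 2 :=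
  if i.val < 23 then qrWord (i.val : ZMod 23) else 1

/-- The combination of generators selected by a bit mask. -/
def cw (c : ℕ) : GolayPt → ZMod 2 := ∑ i : Fin 24, if c.testBit i.val then gen i else 0

theorem gen_mem (i : Fin 24) : gen i ∈ golayCode := by
  unfold gen
  split
  · exact Submodule.subset_span (Or.inl ⟨_, rfl⟩)
  · exact Submodule.subset_span (Or.inr rfl)

theorem one_mem : (1 : GolayPt → ZMod 2) ∈ golayCode := Submodule.subset_span (Or.inr rfl)

theorem cw_mem (c : ℕ) : cw c ∈ golayCode := by
  refine Submodule.sum_mem _ fun i _ => ?_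
  split
  · exact gen_mem i
  · exact Submodule.zero_mem _

theorem gen_range : ∀ w ∈ Set.range qrWord ∪ {1}, ∃ i : Fin 24, gen i = w := by
  rintro w (⟨t, rfl⟩ | rfl)
  · refine ⟨⟨t.val, by have := t.val_lt; omega⟩, ?_⟩
    rw [gen, if_pos (ZMod.val_lt t), ZMod.natCast_zmod_val]
  · exact ⟨23, rfl⟩

theorem z2 (a : ZMod 2) : a = 0 ∨ a = 1 := by revert a; decide

theorem mem_supports {w : GolayPt → ZMod 2} (hw : w ∈ golayCode) :
    support₂ w ∈ supports (golayCode : Set (GolayPt → ZMod 2)) :=
  ⟨w, hw, rfl⟩

theorem mem_support₂ {w : GolayPt → ZMod 2} {i : GolayPt} : i ∈ support₂ w ↔ w i ≠ 0 := by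
  simp [support₂]

theorem univ_mem : (univ : Finset GolayPt) ∈ supports (golayCode : Set (GolayPt → ZMod 2)) := by
  refine ⟨1, one_mem, ?_⟩
  ext i
  simp [mem_support₂]

theorem empty_mem : (∅ : Finset GolayPt) ∈ supports (golayCode : Set (GolayPt → ZMod 2)) := by
  refine ⟨0, Submodule.zero_mem _, ?_⟩
  ext i
  simp [mem_support₂]

/-! ### Self-orthogonality and weights -/

theorem dot_eq (u v : GolayPt → ZMod 2) :
    ∑ i, u i * v i = (((support₂ u ∩ support₂ v).card : ℕ) : ZMod 2) := by
  rw [Finset.card_eq_sum_ones, Nat.cast_sum,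
    show support₂ u ∩ support₂ v = univ.filter fun i => u i ≠ 0 ∧ v i ≠ 0 by
      ext i; simp [mem_support₂],
    Finset.sum_filter]
  refine Finset.sum_congr rfl fun i _ => ?_
  rcases z2 (u i) with hu | hu <;> rcases z2 (v i) with hv | hv <;> simp [hu, hv]

theorem gen_orth : ∀ i j : Fin 24, ∑ p, gen i p * gen j p = 0 := by decide +kernel

theorem code_orth {u v : GolayPt → ZMod 2} (hu : u ∈ golayCode) (hv : v ∈ golayCode) :
    ∑ p, u p * v p = 0 := by
  unfold golayCode at hu hv
  induction hu using Submodule.span_induction with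
  | mem w hw =>
    obtain ⟨i, rfl⟩ := gen_range w hw
    induction hv using Submodule.span_induction with
    | mem w' hw' => obtain ⟨j, rfl⟩ := gen_range w' hw'; exact gen_orth i j
    | zero => simp
    | add a b _ _ ha hb => simp [mul_add, Finset.sum_add_distrib, ha, hb]
    | smul c a _ ha => simp [mul_left_comm _ c, ← Finset.mul_sum, ha]
  | zero => simp
  | add a b _ _ ha hb => simp [add_mul, Finset.sum_add_distrib, ha, hb]
  | smul c a _ ha => simp [mul_assoc, ← Finset.mul_sum, ha]

theorem inter_even {u v : GolayPt → ZMod 2} (hu : u ∈ golayCode) (hv : v ∈ golayCode) :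
    2 ∣ (support₂ u ∩ support₂ v).card := by
  have h := code_orth hu hv
  rw [dot_eq, ZMod.natCast_eq_zero_iff_even] at h
  exact h.two_dvd

theorem support_add (u v : GolayPt → ZMod 2) :
    support₂ (u + v) = (support₂ u ∪ support₂ v) \ (support₂ u ∩ support₂ v) := by
  ext i
  rcases z2 (u i) with hu | hu <;> rcases z2 (v i) with hv | hv <;>
    simp [mem_support₂, hu, hv]
  decide

theorem gen_weight : ∀ i : Fin 24, (support₂ (gen i)).card % 4 = 0 := by decide +kernel

theorem weight_four_dvd {u : GolayPt → ZMod 2} (hu : u ∈ golayCode) :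
    4 ∣ (support₂ u).card := by
  have hu' : u ∈ Submodule.span (ZMod 2) (Set.range qrWord ∪ {1}) := hu
  induction hu' using Submodule.span_induction with
  | mem w hw =>
    obtain ⟨i, rfl⟩ := gen_range w hw
    exact Nat.dvd_of_mod_eq_zero (gen_weight i)
  | zero => simp [support₂]
  | add a b ha' hb' ha hb =>
    have h1 := ha ha'
    have h2 := hb hb'
    obtain ⟨k, hk⟩ := inter_even ha' hb'
    rw [support_add, card_sdiff_of_subset (inter_subset_left.trans subset_union_left)]
    have := card_union_add_card_inter (support₂ a) (support₂ b)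
    omega
  | smul c a ha' ha =>
    rcases z2 c with rfl | rfl
    · simp [support₂]
    · simpa using ha ha'

/-! ### The lattice -/

theorem leechSet_le {x : GolayPt → ℤ} (hx : x ∈ leechSet) : x ∈ leechLattice :=
  AddSubgroup.subset_closure hx

theorem congruences {x : GolayPt → ℤ} (hx : x ∈ leechLattice) :
    (∀ w ∈ golayCode, (4 : ℤ) ∣ ∑ i ∈ support₂ w, x i) ∧
      (8 : ℤ) ∣ (∑ i, x i - 4 * x none) := by
  unfold leechLattice at hx
  induction hx using AddSubgroup.closure_induction with
  | mem y hy =>
    obtain ⟨m, hpar, hsum, hcls⟩ := hy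
    constructor
    · intro w hw
      obtain ⟨u, hu, hu'⟩ := hcls (m % 2 + 2)
      have hval : ∀ i, (4 : ℤ) ∣ y i - (m % 2 + if i ∈ support₂ u then 2 else 0) := by
        intro i
        have h1 := hpar i
        have h2 : i ∈ support₂ u ↔ y i ≡ m % 2 + 2 [ZMOD 4] := by
          rw [hu', mem_filter]; simp
        unfold Int.ModEq at h1 h2
        split <;> rename_i h3 <;> rw [h2] at h3 <;> omega
      have hs : (4 : ℤ) ∣ ∑ i ∈ support₂ w,
          (y i - (m % 2 + if i ∈ support₂ u then 2 else 0)) :=
        Finset.dvd_sum fun i _ => hval i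
      rw [Finset.sum_sub_distrib, Finset.sum_add_distrib, Finset.sum_ite_mem,
        Finset.sum_const, Finset.sum_const, nsmul_eq_mul, nsmul_eq_mul] at hs
      obtain ⟨k, hk⟩ := inter_even hw hu
      obtain ⟨l, hl⟩ := weight_four_dvd hw
      rw [hk, hl] at hs
      push_cast at hs
      have h4 : (4 : ℤ) ∣ 4 * (l : ℤ) * (m % 2) + 2 * (k : ℤ) * 2 :=
        ⟨l * (m % 2) + k, by ring⟩
      omega
    · have h1 := hpar none
      unfold Int.ModEq at h1 hsum
      omega
  | zero => simp
  | add a b _ _ ha hb =>
    refine ⟨fun w hw => ?_, ?_⟩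
    · simpa [Finset.sum_add_distrib] using dvd_add (ha.1 w hw) (hb.1 w hw)
    · have := dvd_add ha.2 hb.2
      simp only [Pi.add_apply, Finset.sum_add_distrib]
      omega
  | neg a _ ha =>
    refine ⟨fun w hw => by simpa using ha.1 w hw, ?_⟩
    have := dvd_neg.mpr ha.2
    simp only [Pi.neg_apply, Finset.sum_neg_distrib]
    omega

/-! ### Lattice automorphisms -/

theorem map_lattice (φ : (GolayPt → ℤ) →+ (GolayPt → ℤ)) (hφ : ∀ x ∈ leechSet, φ x ∈ leechSet)
    {x : GolayPt → ℤ} (hx : x ∈ leechLattice) : φ x ∈ leechLattice := by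
  unfold leechLattice at hx ⊢
  induction hx using AddSubgroup.closure_induction with
  | mem y hy => exact AddSubgroup.subset_closure (hφ y hy)
  | zero => simp
  | add a b _ _ ha hb => simpa using AddSubgroup.add_mem _ ha hb
  | neg a _ ha => simpa using AddSubgroup.neg_mem _ ha

theorem exists_mem_Co0 (φ ψ : (GolayPt → ℤ) →+ (GolayPt → ℤ))
    (hφ : ∀ x ∈ leechSet, φ x ∈ leechSet) (hψ : ∀ x ∈ leechSet, ψ x ∈ leechSet)
    (h1 : ∀ x, φ (ψ x) = x) (h2 : ∀ x, ψ (φ x) = x) (hn : ∀ x, sqNorm (φ x) = sqNorm x) :
    ∃ g : ↥Co0, ∀ v : ↥leechLattice, ((g • v : ↥leechLattice) : GolayPt → ℤ) = φ v := by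
  refine ⟨⟨{ toFun := fun v => ⟨φ v, map_lattice φ hφ v.2⟩
             invFun := fun v => ⟨ψ v, map_lattice ψ hψ v.2⟩
             left_inv := fun v => Subtype.ext (h2 _)
             right_inv := fun v => Subtype.ext (h1 _) }, ?_⟩, fun v => rfl⟩
  exact ⟨fun v w => Subtype.ext (map_add φ _ _), fun v => hn _⟩

/-- Negate the coordinates in the support of `w`. -/
def signHom (w : GolayPt → ZMod 2) : (GolayPt → ℤ) →+ (GolayPt → ℤ) where
  toFun x i := if w i = 0 then x i else -x i
  map_zero' := by ext i; simp
  map_add' x y := by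
    ext i
    by_cases h : w i = 0 <;> simp [h]
    ring

theorem signHom_apply (w : GolayPt → ZMod 2) (x : GolayPt → ℤ) (i : GolayPt) :
    signHom w x i = if w i = 0 then x i else -x i := rfl

theorem signHom_invol (w : GolayPt → ZMod 2) (x : GolayPt → ℤ) : signHom w (signHom w x) = x := by
  ext i
  by_cases h : w i = 0 <;> simp [signHom_apply, h]

theorem signHom_sqNorm (w : GolayPt → ZMod 2) (x : GolayPt → ℤ) :
    sqNorm (signHom w x) = sqNorm x := by
  refine Finset.sum_congr rfl fun i _ => ?_
  by_cases h : w i = 0 <;> simp [signHom_apply, h]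

theorem signHom_leechSet {w : GolayPt → ZMod 2} (hw : w ∈ golayCode) :
    ∀ x ∈ leechSet, signHom w x ∈ leechSet := by
  intro x hx
  have hc := (congruences (leechSet_le hx)).1 w hw
  obtain ⟨m, hpar, hsum, hcls⟩ := hx
  refine ⟨m, fun i => ?_, ?_, fun k => ?_⟩
  · have h1 := hpar i
    unfold Int.ModEq at h1 ⊢
    by_cases h : w i = 0 <;> simp only [signHom_apply, h, if_true, if_false] <;> omega
  · have h1 : ∑ i, signHom w x i = ∑ i, x i - 2 * ∑ i ∈ support₂ w, x i := by
      rw [support₂, Finset.sum_filter, Finset.mul_sum, ← Finset.sum_sub_distrib]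
      refine Finset.sum_congr rfl fun i _ => ?_
      by_cases h : w i = 0 <;> simp [signHom_apply, h]
      ring
    unfold Int.ModEq at hsum ⊢
    omega
  · obtain ⟨u, hu, hu'⟩ := hcls k
    have hmem : ∀ i, (u i ≠ 0 ↔ x i ≡ k [ZMOD 4]) := by
      intro i
      rw [← mem_support₂, hu', mem_filter]
      simp
    by_cases hk : k % 2 = 1 ∧ m % 2 = 1
    · refine ⟨u + w, Submodule.add_mem _ hu hw, ?_⟩
      ext i
      rw [mem_support₂, mem_filter]
      have h1 := hpar i
      have h2 := hmem i
      unfold Int.ModEq at h1 h2 ⊢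
      rcases z2 (u i) with a | a <;> rcases z2 (w i) with b | b <;>
        simp [signHom_apply, a, b, show (1 : ZMod 2) + 1 = 0 from by decide] at h2 ⊢ <;> omega
    · refine ⟨u, hu, ?_⟩
      ext i
      rw [mem_support₂, mem_filter]
      have h1 := hpar i
      have h2 := hmem i
      unfold Int.ModEq at h1 h2 ⊢
      rw [h2]
      by_cases b : w i = 0 <;>
        simp only [signHom_apply, b, if_true, if_false, mem_univ, true_and] <;> omega

theorem exists_sign {w : GolayPt → ZMod 2} (hw : w ∈ golayCode) :
    ∃ g : ↥Co0, ∀ v : ↥leechLattice,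
      ((g • v : ↥leechLattice) : GolayPt → ℤ) = signHom w v :=
  exists_mem_Co0 _ _ (signHom_leechSet hw) (signHom_leechSet hw) (signHom_invol w)
    (signHom_invol w) (signHom_sqNorm w)

/-- Precomposition with a permutation of the points. -/
def permHom (π : Equiv.Perm GolayPt) : (GolayPt → ℤ) →+ (GolayPt → ℤ) where
  toFun x := fun i => x (π i)
  map_zero' := rfl
  map_add' _ _ := rfl

/-- The permutation preserves the code. -/
def CodeStable (π : Equiv.Perm GolayPt) : Prop :=
  ∀ w ∈ golayCode, (fun i => w (π i)) ∈ golayCode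

theorem codeStable_of_gen (π : Equiv.Perm GolayPt)
    (h : ∀ i : Fin 24, (fun p => gen i (π p)) ∈ golayCode) : CodeStable π := by
  intro w hw
  unfold golayCode at hw
  induction hw using Submodule.span_induction with
  | mem w hw => obtain ⟨i, rfl⟩ := gen_range w hw; exact h i
  | zero => exact Submodule.zero_mem _
  | add a b _ _ ha hb => exact Submodule.add_mem _ ha hb
  | smul c a _ ha => exact Submodule.smul_mem _ c ha

theorem permHom_leechSet {π : Equiv.Perm GolayPt} (hπ : CodeStable π) :
    ∀ x ∈ leechSet, permHom π x ∈ leechSet := by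
  rintro x ⟨m, hpar, hsum, hcls⟩
  refine ⟨m, fun i => hpar (π i), ?_, fun k => ?_⟩
  · show (∑ i, x (π i)) ≡ _ [ZMOD 8]
    rw [Equiv.sum_comp π]
    exact hsum
  · obtain ⟨u, hu, hu'⟩ := hcls k
    refine ⟨_, hπ u hu, ?_⟩
    ext i
    rw [mem_support₂, mem_filter, ← mem_support₂ (w := u) (i := π i), hu', mem_filter]
    simp [permHom]

theorem exists_perm {π : Equiv.Perm GolayPt} (hπ : CodeStable π) (hπ' : CodeStable π.symm) :
    ∃ g : ↥Co0, ∀ v : ↥leechLattice,
      ((g • v : ↥leechLattice) : GolayPt → ℤ) = fun i => (v : GolayPt → ℤ) (π i) :=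
  exists_mem_Co0 (permHom π) (permHom π.symm) (permHom_leechSet hπ) (permHom_leechSet hπ')
    (fun x => funext fun i => by simp [permHom]) (fun x => funext fun i => by simp [permHom])
    (fun x => Equiv.sum_comp π (fun i => x i ^ 2))

/-- Translation of the residues, fixing the extra point. -/
def shift (s : ZMod 23) : Equiv.Perm GolayPt := Equiv.optionCongr (Equiv.addRight s)

theorem shift_none (s : ZMod 23) : shift s none = none := rfl

theorem shift_some (s x : ZMod 23) : shift s (some x) = some (x + s) := rfl

theorem shift_symm (s : ZMod 23) : (shift s).symm = shift (-s) := by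
  refine Equiv.ext fun p => ?_
  rw [Equiv.symm_apply_eq]
  cases p <;> simp [shift_none, shift_some]

theorem codeStable_shift (s : ZMod 23) : CodeStable (shift s) := by
  refine codeStable_of_gen _ fun i => ?_
  unfold gen
  split
  · have h : (fun p => qrWord (i.val : ZMod 23) (shift s p)) = qrWord ((i.val : ZMod 23) - s) := by
      funext p
      cases p with
      | none => rfl
      | some x =>
        simp only [shift_some, qrWord]
        refine if_congr ?_ rfl rfl
        constructor <;> rintro ⟨r, hr⟩ <;> exact ⟨r, by linear_combination hr⟩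
    rw [h]
    exact Submodule.subset_span (Or.inl ⟨_, rfl⟩)
  · exact one_mem

/-- The coefficient masks expressing the images of the generators under `projInv`. -/
def invMask : Fin 24 → ℕ :=
  ![8388609, 1392, 738, 1469, 823, 8389121, 1594, 8388974, 1684, 33, 8389018, 8388613, 1992, 129,
    8390253, 8388617, 1025, 8388625, 735, 8388673, 8388865, 8390087, 8388611, 8388608]

theorem gen_projInv : ∀ (i : Fin 24) (p : GolayPt),
    gen i (projInvFun p) = ∑ j : Fin 24, if (invMask i).testBit j.val then gen j p else 0 := by
  decide +kernel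

theorem projInv_symm : projInv.symm = projInv := Equiv.ext fun _ => rfl

theorem codeStable_projInv : CodeStable projInv := by
  refine codeStable_of_gen _ fun i => ?_
  convert cw_mem (invMask i) using 1
  funext p
  show gen i (projInvFun p) = _
  rw [gen_projInv, cw, Finset.sum_apply]
  exact Finset.sum_congr rfl fun j _ => by split <;> rfl

/-! ### Vectors of the frame -/

theorem mem_leech_of_four_dvd {x : GolayPt → ℤ} (h4 : ∀ i, (4 : ℤ) ∣ x i)
    (h8 : (8 : ℤ) ∣ ∑ i, x i) : x ∈ leechLattice := by
  refine leechSet_le ⟨0, fun i => ?_, ?_, fun k => ?_⟩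
  · have := h4 i
    unfold Int.ModEq
    omega
  · unfold Int.ModEq
    omega
  · by_cases hk : (4 : ℤ) ∣ k
    · convert univ_mem using 1
      refine Finset.filter_true_of_mem fun i _ => ?_
      have := h4 i
      unfold Int.ModEq
      omega
    · convert empty_mem using 1
      refine Finset.filter_false_of_mem fun i _ => ?_
      have := h4 i
      unfold Int.ModEq
      omega

/-- `c` at `i` and `d` at `j`, added. -/
def two (i j : GolayPt) (c d : ℤ) : GolayPt → ℤ := Pi.single i c + Pi.single j d

theorem two_mem (i j : GolayPt) (c d : ℤ) (hc : (4 : ℤ) ∣ c) (hd : (4 : ℤ) ∣ d)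
    (h : (8 : ℤ) ∣ c + d) : two i j c d ∈ leechLattice := by
  refine mem_leech_of_four_dvd (fun l => ?_) ?_
  · simp only [two, Pi.add_apply, Pi.single_apply]
    split <;> split <;> first | (exact dvd_add ‹_› ‹_›) | simp [hc, hd]
  · simpa [two, Finset.sum_add_distrib] using h

/-- The vector `4 e_i - 4 e_j`. -/
def M (i j : GolayPt) : ↥leechLattice :=
  ⟨two i j 4 (-4), two_mem i j 4 (-4) (by norm_num) (by norm_num) (by norm_num)⟩

/-- The vector `4 e_i + 4 e_j`. -/
def P (i j : GolayPt) : ↥leechLattice :=
  ⟨two i j 4 4, two_mem i j 4 4 (by norm_num) (by norm_num) (by norm_num)⟩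

/-- The vector `8 e_i`. -/
def U (i : GolayPt) : ↥leechLattice :=
  ⟨two i i 4 4, two_mem i i 4 4 (by norm_num) (by norm_num) (by norm_num)⟩

theorem M_add (i j k : GolayPt) : M i j + M j k = M i k := by
  apply Subtype.ext
  funext l
  simp only [AddSubgroup.coe_add, M, two, Pi.add_apply, Pi.single_apply]
  split_ifs <;> ring

theorem M_swap (i j : GolayPt) : M i j = -M j i := by
  apply Subtype.ext
  funext l
  simp only [AddSubgroup.coe_neg, M, two, Pi.add_apply, Pi.neg_apply, Pi.single_apply]
  split_ifs <;> ring

theorem P_eq (i j : GolayPt) : P i j = M i j + U j := by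
  apply Subtype.ext
  funext l
  simp only [AddSubgroup.coe_add, M, P, U, two, Pi.add_apply, Pi.single_apply]
  split_ifs <;> ring

theorem U_eq (i j : GolayPt) : U i = U j + (M i j + M i j) := by
  apply Subtype.ext
  funext l
  simp only [AddSubgroup.coe_add, M, U, two, Pi.add_apply, Pi.single_apply]
  split_ifs <;> ring

theorem exists_word_separating :
    ∀ i j : GolayPt, i ≠ j → ∃ t : Fin 24, gen t i ≠ gen t j := by decide +kernel

theorem exists_sign_M_P (i j : GolayPt) (hij : i ≠ j) :
    ∃ g : ↥Co0, g • M i j = P i j ∨ g • M i j = -P i j := by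
  obtain ⟨t, ht⟩ := exists_word_separating i j hij
  obtain ⟨g, hg⟩ := exists_sign (gen_mem t)
  refine ⟨g, ?_⟩
  rcases z2 (gen t i) with a | a <;> rcases z2 (gen t j) with b | b
  · exact absurd (a.trans b.symm) ht
  · left
    apply Subtype.ext
    rw [hg]
    funext l
    simp only [signHom_apply, M, P, two, Pi.add_apply, Pi.single_apply]
    by_cases h1 : l = i
    · subst h1; simp [a, hij]
    · by_cases h2 : l = j
      · subst h2; simp [b, h1]
      · simp [h1, h2]
  · right
    apply Subtype.ext
    rw [hg]
    funext l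
    simp only [signHom_apply, AddSubgroup.coe_neg, M, P, two, Pi.neg_apply, Pi.add_apply,
      Pi.single_apply]
    by_cases h1 : l = i
    · subst h1; simp [a, hij]
    · by_cases h2 : l = j
      · subst h2; simp [b, h1]
      · simp [h1, h2]
  · exact absurd (a.trans b.symm) ht

theorem perm_M {π : Equiv.Perm GolayPt} {g : ↥Co0}
    (hg : ∀ v : ↥leechLattice,
      ((g • v : ↥leechLattice) : GolayPt → ℤ) = fun i => (v : GolayPt → ℤ) (π i))
    (i j : GolayPt) : g • M (π i) (π j) = M i j := by
  apply Subtype.ext
  rw [hg]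
  funext l
  simp [M, two, Pi.single_apply, π.injective.eq_iff]

/-- The eleven points which together with `some 0` form the information set used. -/
def infoPt (k : Fin 11) : GolayPt := some ((k.val + 1 : ℕ) : ZMod 23)

/-- Masks of code words meeting the information set in one of the points `infoPt k`. -/
def infoMask : Fin 11 → ℕ :=
  ![280, 8389785, 1400, 8390330, 8390551, 8390093, 2000, 1347, 101, 8390243, 8390181]

theorem info_spec :
    ∀ k : Fin 11, cw (infoMask k) (some 0) = 0 ∧
      ∀ l : Fin 11, cw (infoMask k) (infoPt l) = if l = k then 1 else 0 := by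
  decide +kernel

/-- Generators of the frame subgroup. -/
def frameGen : Option (Fin 11) → ↥leechLattice
  | none => U (some 0)
  | some k => M (infoPt k) (some 0)

theorem frame_independent (c : Option (Fin 11) → ℤ)
    (h : ∃ y : ↥leechLattice, ∑ k, c k • frameGen k = y + y) : ∀ k, (2 : ℤ) ∣ c k := by
  obtain ⟨y, hy⟩ := h
  have hy' := congrArg (fun v : ↥leechLattice => (v : GolayPt → ℤ)) hy
  simp only [AddSubgroup.val_finsetSum, AddSubgroup.coe_zsmul, AddSubgroup.coe_add] at hy'
  have hval : ∀ l : GolayPt, (y : GolayPt → ℤ) l =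
      (if l = some 0 then 4 * c none - 2 * ∑ k, c (some k) else 0) +
        ∑ k, (if l = infoPt k then 2 * c (some k) else 0) := by
    intro l
    have := congrFun hy' l
    simp only [Finset.sum_apply, Pi.smul_apply, Fintype.sum_option, Pi.add_apply, frameGen, U, M,
      two, Pi.single_apply, smul_eq_mul, mul_add, Finset.sum_add_distrib, mul_ite, mul_zero] at this
    split_ifs with h0
    · have hne : ∀ k, l ≠ infoPt k := by
        subst h0
        intro k
        revert k
        decide
      simp only [h0, if_true, Finset.mul_sum] at this ⊢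
      simp only [h0 ▸ hne, if_false, Finset.sum_const_zero, add_zero] at this ⊢
      rw [← Finset.sum_mul] at this
      rw [← Finset.mul_sum]
      omega
    · simp only [h0, if_false, Finset.sum_const_zero, add_zero, zero_add] at this
      rw [show ∑ k, (if l = infoPt k then 2 * c (some k) else 0)
          = ∑ k, (if l = infoPt k then c (some k) else 0) * 2 from
        Finset.sum_congr rfl fun k _ => by split_ifs <;> ring]
      rw [← Finset.sum_mul]
      have e : ∑ k, (if l = infoPt k then c (some k) * 4 else 0) =
          (∑ k, (if l = infoPt k then c (some k) else 0)) * 4 := by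
        rw [Finset.sum_mul]
        exact Finset.sum_congr rfl fun k _ => by split_ifs <;> ring
      omega
  have hcong := congruences y.2
  have hk : ∀ k, (2 : ℤ) ∣ c (some k) := by
    intro k
    obtain ⟨h0, hl⟩ := info_spec k
    have := hcong.1 _ (cw_mem (infoMask k))
    simp only [hval, Finset.sum_add_distrib] at this
    rw [Finset.sum_comm, Finset.sum_ite_eq', if_neg (by simp [mem_support₂, h0])] at this
    simp only [Finset.sum_ite_eq', mem_support₂, hl, ite_ne_right_iff] at this
    simp only [ne_eq, one_ne_zero, not_false_eq_true, and_true] at this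
    rw [Finset.sum_ite_eq', if_pos (mem_univ _)] at this
    omega
  rintro (_ | k)
  · have := hcong.2
    simp only [hval, Finset.sum_add_distrib] at this
    rw [Finset.sum_comm] at this
    simp only [Finset.sum_ite_eq', mem_univ, if_true] at this
    simp only [infoPt, reduceCtorEq, if_false, Finset.sum_const_zero, add_zero, mul_zero,
      sub_zero] at this
    rw [← Finset.mul_sum] at this
    omega
  · exact hk k

end Cfsg.Agent.LeechFrame
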