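import Cfsg.Agent.Lib.LeechOrder
import Cfsg.Agent.Lib.GolaySimple
import Cfsg.Agent.Lib.GolayStab
import Cfsg.Agent.Lib.HallCore
import Cfsg.Agent.Lib.LeechFrame

/-!
Stabilisers in the lattice automorphism group of the classes modulo twice the lattice: their normal
2-subgroups have order at most 2^11 for the classes of norm 32 and 48, and at most 2^12 for norm 64,
where equality forces the group of sign changes.
-/

set_option autoImplicit false

open scoped symmDiff Pointwise

set_option linter.style.haveILetI false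

namespace Cfsg.Agent.LeechStab

open Cfsg Cfsg.Agent.GolayBasic Cfsg.Agent.LeechBasic Cfsg.Agent.LeechAut Cfsg.Agent.LeechIndex
open Cfsg.Agent.LeechMonomial Cfsg.Agent.LeechOrder

/-- The code supports. -/
abbrev CodeSupp : Set (Finset GolayPt) := supports (golayCode : Set (GolayPt → ZMod 2))

/-! ### The monomial group -/

theorem monomial_mul {σ τ : Equiv.Perm GolayPt} (hσ : σ ∈ M24) (hτ : τ ∈ M24) {c d : Finset GolayPt}
    (hc : c ∈ CodeSupp) (hd : d ∈ CodeSupp) :
    monomial σ hσ c hc * monomial τ hτ d hd = monomial (σ * τ) (mul_mem hσ hτ) (c ∆ (σ • d))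
      (symmDiff_mem_supports hc (GolayPerm.smul_mem_supports hσ hd)) := by
  refine ext_frame fun i => Subtype.ext ?_
  rw [mul_smul, coe_monomial_smul, coe_monomial_smul, coe_monomial_smul]
  funext j
  simp only [signedPerm]
  have hmem : j ∈ σ • d ↔ σ.symm j ∈ d := by
    rw [← Finset.inv_smul_mem_iff, Equiv.Perm.smul_def, Equiv.Perm.inv_def]
  have hsymm : (σ * τ).symm j = τ.symm (σ.symm j) := rfl
  rw [hsymm]
  by_cases h1 : j ∈ c <;> by_cases h2 : σ.symm j ∈ d <;>
    simp [Finset.mem_symmDiff, h1, h2, hmem]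

/-- The monomial group. -/
abbrev mono : Subgroup Co0 := MulAction.stabilizer Co0 stdL

theorem mem_mono {g : Co0} : g ∈ mono ↔ ∃ (σ : Equiv.Perm GolayPt) (hσ : σ ∈ M24)
    (c : Finset GolayPt) (hc : c ∈ CodeSupp), g = monomial σ hσ c hc := by
  rw [mem_stabilizer_stdL, mapsStd_iff]

theorem monomial_mem {σ : Equiv.Perm GolayPt} (hσ : σ ∈ M24) {c : Finset GolayPt}
    (hc : c ∈ CodeSupp) : monomial σ hσ c hc ∈ mono :=
  mem_mono.mpr ⟨_, _, _, _, rfl⟩

theorem monomial_congr {σ τ : Equiv.Perm GolayPt} (hσ : σ ∈ M24) (hτ : τ ∈ M24)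
    {c d : Finset GolayPt} (hc : c ∈ CodeSupp) (hd : d ∈ CodeSupp) (h1 : σ = τ) (h2 : c = d) :
    monomial σ hσ c hc = monomial τ hτ d hd := by
  subst h1; subst h2; rfl

theorem monomial_one : monomial 1 (one_mem _) ∅ empty_mem_supports = (1 : Co0) := by
  refine ext_frame fun i => Subtype.ext ?_
  rw [coe_monomial_smul, one_smul]
  funext j
  simp [signedPerm, show (1 : Equiv.Perm GolayPt).symm = 1 from rfl]

/-- The permutation part of a monomial element. -/
noncomputable def part (g : mono) : M24 :=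
  ⟨(mem_mono.mp g.2).choose, (mem_mono.mp g.2).choose_spec.choose⟩

theorem part_eq {g : mono} {σ : Equiv.Perm GolayPt} {hσ : σ ∈ M24} {c : Finset GolayPt}
    {hc : c ∈ CodeSupp} (h : (g : Co0) = monomial σ hσ c hc) : (part g : Equiv.Perm GolayPt) = σ := by
  obtain ⟨hσ', c', hc', e⟩ := (mem_mono.mp g.2).choose_spec
  exact (monomial_injective hσ' hσ hc' hc (e.symm.trans h)).1

/-- The permutation part, as a homomorphism. -/
noncomputable def prj : mono →* M24 :=
  MonoidHom.mk' part fun g h => by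
    obtain ⟨σ, hσ, c, hc, eg⟩ := mem_mono.mp g.2
    obtain ⟨τ, hτ, d, hd, eh⟩ := mem_mono.mp h.2
    refine Subtype.ext ?_
    rw [Subgroup.coe_mul, part_eq eg, part_eq eh]
    exact part_eq (by rw [Subgroup.coe_mul, eg, eh, monomial_mul])

theorem prj_eq {g : mono} {σ : Equiv.Perm GolayPt} {hσ : σ ∈ M24} {c : Finset GolayPt}
    {hc : c ∈ CodeSupp} (h : (g : Co0) = monomial σ hσ c hc) : (prj g : Equiv.Perm GolayPt) = σ :=
  part_eq h

/-- The pure permutations, as a homomorphism. -/
def permHom : M24 →* Co0 :=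
  MonoidHom.mk' (fun σ => monomial σ.1 σ.2 ∅ empty_mem_supports) fun σ τ => by
    rw [monomial_mul]
    exact monomial_congr _ _ _ _ rfl (by simp)

theorem permHom_injective : Function.Injective permHom := fun σ τ h =>
  Subtype.ext (monomial_injective σ.2 τ.2 empty_mem_supports empty_mem_supports h).1

/-- Sign changes. -/
def signElt (c : CodeSupp) : Co0 := monomial 1 (one_mem _) c.1 c.2

theorem signElt_mul (c d : CodeSupp) : signElt c * signElt d =
    signElt ⟨c.1 ∆ d.1, symmDiff_mem_supports c.2 d.2⟩ := by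
  rw [signElt, signElt, monomial_mul]
  exact monomial_congr _ _ _ _ (one_mul _) (by rw [one_smul])

theorem signElt_sq (c : CodeSupp) : signElt c * signElt c = 1 := by
  rw [signElt_mul, ← monomial_one]
  exact monomial_congr _ _ _ _ rfl (symmDiff_self _)

theorem exists_sign_of_ker {g : mono} (h : prj g = 1) : ∃ c : CodeSupp, (g : Co0) = signElt c := by
  obtain ⟨σ, hσ, c, hc, e⟩ := mem_mono.mp g.2
  refine ⟨⟨c, hc⟩, e.trans (monomial_congr _ _ _ _ ?_ rfl)⟩
  rw [← prj_eq e, h]
  rfl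

theorem signElt_injective : Function.Injective signElt := fun c d h =>
  Subtype.ext (monomial_injective (one_mem _) (one_mem _) c.2 d.2 h).2

theorem card_codeSupp : Nat.card CodeSupp = 4096 := by
  rw [Nat.card_coe_set_eq]
  show (support₂ '' (golayCode : Set (GolayPt → ZMod 2))).ncard = 4096
  rw [Set.InjOn.ncard_image (fun v _ w _ h => support₂_inj h), ← Nat.card_coe_set_eq]
  exact card_golayCode

theorem card_even : Nat.card {c : CodeSupp // none ∈ c.1 ↔ some 0 ∈ c.1} = 2048 := by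
  let f : Fin 4096 → CodeSupp := fun x => ⟨mset (enc x),
    (mset_mem_supports (enc_lt x.2)).2 (inCode_enc x.2)⟩
  have hf : Function.Bijective f := by
    refine (Nat.bijective_iff_injective_and_card f).mpr ⟨fun x y h => ?_, by rw [card_codeSupp]; simp⟩
    exact Fin.ext (injOn_mset_enc x.2 y.2 (congrArg Subtype.val h))
  rw [← Nat.card_congr (Equiv.subtypeEquiv (p := fun x : Fin 4096 =>
      (enc x).testBit 23 = (enc x).testBit 0) (Equiv.ofBijective f hf) fun x => ?_)]
  · rw [Nat.card_eq_fintype_card, Fintype.card_subtype]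
    decide +kernel
  · show _ ↔ (none ∈ mset (enc x) ↔ some 0 ∈ mset (enc x))
    rw [mem_mset, mem_mset]
    exact Bool.eq_iff_iff

/-! ### Class stabilisers -/

/-- The stabiliser of a class modulo twice the lattice. -/
def classStab (v : leechLattice) : Subgroup Co0 where
  carrier := {g | ((g • v : leechLattice) : GolayPt → ℤ) - (v : GolayPt → ℤ) ∈ twiceLeech}
  one_mem' := by simp
  mul_mem' := fun {g h} hg hh => by
    have := add_mem (twiceLeech_smul g (v := h • v) (y := v) hh) hg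
    simp only [Set.mem_setOf_eq, mul_smul]
    rwa [sub_add_sub_cancel] at this
  inv_mem' := fun {g} hg => by
    have := neg_mem (twiceLeech_smul g⁻¹ (v := g • v) (y := v) hg)
    rwa [inv_smul_smul, neg_sub] at this

theorem mem_classStab {v : leechLattice} {g : Co0} :
    g ∈ classStab v ↔ ((g • v : leechLattice) : GolayPt → ℤ) - v ∈ twiceLeech := Iff.rfl

theorem conj_mem_classStab {g h : Co0} {v : leechLattice} :
    g * h * g⁻¹ ∈ classStab (g • v) ↔ h ∈ classStab v := by
  rw [mem_classStab, mem_classStab]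
  have e : (g * h * g⁻¹) • g • v = g • h • v := by rw [← mul_smul, inv_mul_cancel_right, mul_smul]
  rw [e]
  refine ⟨fun h' => ?_, fun h' => twiceLeech_smul g h'⟩
  have := twiceLeech_smul g⁻¹ h'
  rwa [inv_smul_smul, inv_smul_smul] at this

theorem smul_eq_or_neg {v : leechLattice} {g : Co0} (hn : sqNorm (v : GolayPt → ℤ) < 64)
    (hg : g ∈ classStab v) : g • v = v ∨ g • v = -v := by
  rcases LeechMod2.congr_short v.2 hg (by rw [sqNorm_smul]; omega) (by omega) with e | e | e
  · exact Or.inl (Subtype.ext e)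
  · exact Or.inr (Subtype.ext e)
  · omega

theorem mem_classStab_of_eq_or_neg {v : leechLattice} {g : Co0} (h : g • v = v ∨ g • v = -v) :
    g ∈ classStab v := by
  rw [mem_classStab]
  rcases h with h | h <;> rw [h]
  · rw [sub_self]; exact zero_mem _
  · exact mem_twiceLeech.mpr ⟨_, (-v).2, by rw [AddSubgroup.coe_neg, two_nsmul]; abel⟩

theorem ne_neg {v : leechLattice} (h : 0 < sqNorm (v : GolayPt → ℤ)) : v ≠ -v := by
  intro e
  have : (v : GolayPt → ℤ) = 0 := funext fun i => by
    have := congrFun (congrArg Subtype.val e) i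
    simp only [AddSubgroup.coe_neg, Pi.neg_apply] at this
    simp only [Pi.zero_apply]
    omega
  rw [this] at h
  simp [sqNorm] at h

theorem card_pm {G : Type*} [Group G] [Finite G] {H K : Subgroup G} (hKH : K ≤ H) {t : G}
    (ht : t ∈ H) (htK : t ∉ K) (hcov : ∀ h ∈ H, h ∈ K ∨ t⁻¹ * h ∈ K) :
    Nat.card H = 2 * Nat.card K := by
  have hf : Function.Bijective (fun q : Bool × K =>
      (⟨(if q.1 then t else 1) * q.2.1, mul_mem (by split_ifs <;> [exact ht; exact H.one_mem]) (hKH q.2.2)⟩ : H)) := by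
    constructor
    · rintro ⟨a, k⟩ ⟨b, l⟩ h
      have h' := congrArg Subtype.val h
      cases a <;> cases b <;> simp only [Bool.false_eq_true, if_false, if_true, one_mul] at h'
      · rw [Subtype.ext h']
      · exact absurd (by rw [eq_mul_inv_of_mul_eq h'.symm]; exact mul_mem k.2 (inv_mem l.2)) htK
      · exact absurd (by rw [eq_mul_inv_of_mul_eq h']; exact mul_mem l.2 (inv_mem k.2)) htK
      · rw [Subtype.ext (mul_left_cancel h')]
    · rintro ⟨h, hh⟩
      rcases hcov h hh with hk | hk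
      · exact ⟨(false, ⟨h, hk⟩), Subtype.ext (by simp)⟩
      · exact ⟨(true, ⟨_, hk⟩), Subtype.ext (by simp)⟩
  rw [← Nat.card_eq_of_bijective _ hf, Nat.card_prod, Nat.card_eq_fintype_card, Fintype.card_bool]

theorem card_classStab {N : ℕ} (hN : N = 32 ∨ N = 48) {v : leechLattice}
    (hv : sqNorm (v : GolayPt → ℤ) = N) :
    Nat.card (classStab v) * LeechCount.countLattice LeechCount.allVals N = 2 * Nat.card Co0 := by
  haveI := finite_Co0
  have hN' : sqNorm (v : GolayPt → ℤ) < 64 := by rcases hN with rfl | rfl <;> rw [hv] <;> norm_num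
  have hpos : 0 < sqNorm (v : GolayPt → ℤ) := by rcases hN with rfl | rfl <;> rw [hv] <;> norm_num
  have h1 : Nat.card (classStab v) = 2 * Nat.card (MulAction.stabilizer Co0 v) := by
    refine card_pm (t := negAut) (fun g hg => mem_classStab_of_eq_or_neg (Or.inl hg))
      (mem_classStab_of_eq_or_neg (Or.inr (negAut_smul v))) (fun h => ?_) fun g hg => ?_
    · exact ne_neg hpos (((negAut_smul v).symm.trans h).symm)
    · rcases smul_eq_or_neg hN' hg with e | e
      · exact Or.inl e
      · refine Or.inr ?_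
        rw [MulAction.mem_stabilizer_iff, mul_smul, e, inv_smul_eq_iff, negAut_smul]
  have horb : (MulAction.orbit Co0 v).ncard = LeechCount.countLattice LeechCount.allVals N := by
    rw [← LeechCount.ncard_norm N (by rcases hN with rfl | rfl <;> norm_num),
      ← Set.ncard_image_of_injective _ Subtype.val_injective]
    congr 1
    ext y
    constructor
    · rintro ⟨_, ⟨g, rfl⟩, rfl⟩
      exact ⟨(g • v).2, by rw [sqNorm_smul]; exact hv⟩
    · rintro ⟨h1, h2⟩
      obtain ⟨g, hg⟩ := LeechOrbit.exists_smul_eq (N := N) (by omega) (v := v) (w := ⟨y, h1⟩) hv h2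
      exact ⟨_, ⟨g, rfl⟩, congrArg Subtype.val hg⟩
  rw [h1, mul_assoc, ← horb, ← MulAction.index_stabilizer, Subgroup.card_mul_index]

theorem card_dvd_two_pow {A : Subgroup Co0} (hA : IsPGroup 2 A) {k m : ℕ} (hm : Odd m)
    (h : Nat.card A ∣ 2 ^ k * m) : Nat.card A ≤ 2 ^ k := by
  haveI := finite_Co0
  haveI : Fact (Nat.Prime 2) := ⟨Nat.prime_two⟩
  obtain ⟨j, hj⟩ := IsPGroup.iff_card.mp hA
  rw [hj] at h ⊢
  exact Nat.le_of_dvd (Nat.two_pow_pos k)
    ((Nat.Coprime.pow_left j (Nat.coprime_two_left.mpr hm)).dvd_of_dvd_mul_right h)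

theorem small48 {v : leechLattice} (hv : sqNorm (v : GolayPt → ℤ) = 48) {A : Subgroup Co0}
    (hA : IsPGroup 2 A) (hle : A ≤ classStab v) : Nat.card A ≤ 2 ^ 11 := by
  have h := card_classStab (Or.inr rfl) (v := v) (N := 48) (by exact_mod_cast hv)
  rw [LeechCount.count_48, card_Co0] at h
  refine card_dvd_two_pow hA (m := 484147125) (by decide) ?_
  have h2 : Nat.card (classStab v) = 2 ^ 11 * 484147125 := by omega
  rw [← h2]
  exact Subgroup.card_dvd_of_le hle

/-! ### The class of `(4, 4, 0, …)` -/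

/-- The vector `(4, 4, 0, …)`. -/
abbrev vecP : leechLattice := LeechFrame.P none (some 0)

theorem coe_vecP (j : GolayPt) : (vecP : GolayPt → ℤ) j = if j = none ∨ j = some 0 then 4 else 0 := by
  show LeechFrame.two none (some 0) 4 4 j = _
  simp only [LeechFrame.two, Pi.add_apply, Pi.single_apply]
  by_cases h1 : j = none
  · subst h1; simp
  · by_cases h2 : j = some 0 <;> simp [h1, h2]

theorem sqNorm_vecP : sqNorm (vecP : GolayPt → ℤ) = 32 := by
  rw [sqNorm, Finset.sum_congr rfl fun j _ => by rw [coe_vecP j]]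
  decide +kernel

/-- Fixing the pair setwise. -/
def PairFix (σ : Equiv.Perm GolayPt) : Prop :=
  (σ none = none ∧ σ (some 0) = some 0) ∨ (σ none = some 0 ∧ σ (some 0) = none)

theorem monomial_vecP {σ : Equiv.Perm GolayPt} (hσ : σ ∈ M24) {c : Finset GolayPt}
    (hc : c ∈ CodeSupp) (j : GolayPt) :
    ((monomial σ hσ c hc • vecP : leechLattice) : GolayPt → ℤ) (σ j) =
      if σ j ∈ c then -(vecP : GolayPt → ℤ) j else (vecP : GolayPt → ℤ) j := by
  rw [coe_monomial_smul]
  simp [signedPerm]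

theorem pairFix_of_mem {σ : Equiv.Perm GolayPt} (hσ : σ ∈ M24) {c : Finset GolayPt}
    (hc : c ∈ CodeSupp) (h : monomial σ hσ c hc ∈ classStab vecP) :
    PairFix σ ∧ (none ∈ c ↔ some 0 ∈ c) := by
  have h1 := smul_eq_or_neg (by rw [sqNorm_vecP]; norm_num) h
  have hsupp : ∀ j, (j = none ∨ j = some 0) → (σ j = none ∨ σ j = some 0) := by
    intro j hj
    by_contra hne
    have h2 := monomial_vecP hσ hc j
    rw [coe_vecP j, if_pos hj] at h2
    rcases h1 with e | e <;> rw [e] at h2
    · rw [coe_vecP, if_neg hne] at h2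
      split_ifs at h2 <;> norm_num at h2
    · simp only [AddSubgroup.coe_neg, Pi.neg_apply] at h2
      rw [coe_vecP, if_neg hne] at h2
      split_ifs at h2 <;> norm_num at h2
  have ha := hsupp none (Or.inl rfl)
  have hb := hsupp (some 0) (Or.inr rfl)
  have hne : σ none ≠ σ (some 0) := fun e => by simpa using σ.injective e
  refine ⟨?_, ?_⟩
  · rcases ha with ha | ha <;> rcases hb with hb | hb
    · exact absurd (ha.trans hb.symm) hne
    · exact Or.inl ⟨ha, hb⟩
    · exact Or.inr ⟨ha, hb⟩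
    · exact absurd (ha.trans hb.symm) hne
  · have hsign : ∀ j, (j = none ∨ j = some 0) →
        (σ j ∈ c ↔ monomial σ hσ c hc • vecP = -vecP) := by
      intro j hj
      have h2 := monomial_vecP hσ hc j
      rw [coe_vecP j, if_pos hj] at h2
      have hne' : vecP ≠ -vecP := ne_neg (by rw [sqNorm_vecP]; norm_num)
      constructor
      · intro hcj
        refine h1.resolve_left fun e => ?_
        rw [e, coe_vecP, if_pos (hsupp j hj), if_pos hcj] at h2
        norm_num at h2
      · intro e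
        by_contra hcj
        rw [e, AddSubgroup.coe_neg, Pi.neg_apply, coe_vecP, if_pos (hsupp j hj), if_neg hcj] at h2
        norm_num at h2
    have hiff := (hsign none (Or.inl rfl)).trans (hsign (some 0) (Or.inr rfl)).symm
    rcases ha with ha | ha <;> rcases hb with hb | hb
    · exact absurd (ha.trans hb.symm) hne
    · rwa [ha, hb] at hiff
    · rw [ha, hb] at hiff; exact hiff.symm
    · exact absurd (ha.trans hb.symm) hne

theorem mem_of_pairFix {σ : Equiv.Perm GolayPt} (hσ : σ ∈ M24) (h : PairFix σ) :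
    monomial σ hσ ∅ empty_mem_supports ∈ classStab vecP := by
  refine mem_classStab_of_eq_or_neg (Or.inl (Subtype.ext (funext fun i => ?_)))
  obtain ⟨j, rfl⟩ := σ.surjective i
  rw [monomial_vecP, if_neg (Finset.notMem_empty _), coe_vecP, coe_vecP]
  have hiff : (σ j = none ∨ σ j = some 0) ↔ (j = none ∨ j = some 0) := by
    have k1 := σ.injective.eq_iff (a := j) (b := none)
    have k2 := σ.injective.eq_iff (a := j) (b := some 0)
    rcases h with ⟨h1, h2⟩ | ⟨h1, h2⟩ <;> rw [h1] at k1 <;> rw [h2] at k2 <;> rw [k1, k2]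
    exact or_comm
  simp only [hiff]

theorem signElt_mem (c : CodeSupp) (h : none ∈ c.1 ↔ some 0 ∈ c.1) :
    signElt c ∈ classStab vecP := by
  refine mem_classStab_of_eq_or_neg ?_
  by_cases h1 : none ∈ c.1
  · right
    refine Subtype.ext (funext fun i => ?_)
    have e := monomial_vecP (one_mem M24) c.2 i
    rw [Equiv.Perm.one_apply] at e
    rw [signElt, e, AddSubgroup.coe_neg, Pi.neg_apply, coe_vecP]
    by_cases h3 : i = none ∨ i = some 0
    · have h2 : i ∈ c.1 := by rcases h3 with rfl | rfl <;> [exact h1; exact h.mp h1]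
      rw [if_pos h2]
    · simp [h3]
  · left
    refine Subtype.ext (funext fun i => ?_)
    have e := monomial_vecP (one_mem M24) c.2 i
    rw [Equiv.Perm.one_apply] at e
    rw [signElt, e, coe_vecP]
    by_cases h3 : i = none ∨ i = some 0
    · have h2 : i ∉ c.1 := by rcases h3 with rfl | rfl <;> [exact h1; exact fun k => h1 (h.mpr k)]
      rw [if_neg h2]
    · simp [h3]

theorem exists_swap : ∃ σ ∈ M24, σ none = some 0 ∧ σ (some 0) = none := by
  obtain ⟨g, hg, h1, h2⟩ := GolayStab.exists_map_two (p := some 0) (q := none) (by simp)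
  exact ⟨g, hg, h1, h2⟩

theorem mem_M22 {σ : Equiv.Perm GolayPt} :
    σ ∈ Spor.M22 ↔ σ ∈ M24 ∧ σ none = none ∧ σ (some 0) = some 0 := by
  simp [Spor.M22, Spor.M23, MulAction.mem_stabilizer_iff, and_assoc]

theorem inj5 {α : Type*} {a b c d e : α} (h1 : a ≠ b) (h2 : a ≠ c) (h3 : a ≠ d) (h4 : a ≠ e)
    (h5 : b ≠ c) (h6 : b ≠ d) (h7 : b ≠ e) (h8 : c ≠ d) (h9 : c ≠ e) (h10 : d ≠ e) :
    Function.Injective ![a, b, c, d, e] := by
  intro i j h
  fin_cases i <;> fin_cases j <;> simp_all

/-- A permutation of the code's group swapping two points and commuting with their pointwise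
stabiliser does not exist. -/
theorem no_central_swap {σ : Equiv.Perm GolayPt} (hσ : σ ∈ M24) (h1 : σ none = some 0)
    (h2 : σ (some 0) = none) (hcomm : ∀ π ∈ Spor.M22, σ * π = π * σ) : False := by
  have hfix : ∀ x, x ≠ none → x ≠ some 0 → σ x = x := by
    intro x hxa hxb
    by_contra hne
    have hya : σ x ≠ none := fun e => hxb (σ.injective (e.trans h2.symm))
    have hyb : σ x ≠ some 0 := fun e => hxa (σ.injective (e.trans h1.symm))
    obtain ⟨w, hw⟩ : ∃ w : GolayPt, w ∉ ({none, some 0, x, σ x} : Finset GolayPt) := by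
      by_contra hno
      push Not at hno
      have h3 := Finset.card_le_card (fun w _ => hno w : Finset.univ ⊆ ({none, some 0, x, σ x} : Finset GolayPt))
      rw [card_univ_pt] at h3
      have := h3.trans Finset.card_le_four
      omega
    obtain ⟨u, hu⟩ : ∃ u : GolayPt, u ∉ ({none, some 0, x, σ x, w} : Finset GolayPt) := by
      by_contra hno
      push Not at hno
      have h3 := Finset.card_le_card (fun w' _ => hno w' : Finset.univ ⊆ ({none, some 0, x, σ x, w} : Finset GolayPt))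
      rw [card_univ_pt] at h3
      have := h3.trans Finset.card_le_five
      omega
    simp only [Finset.mem_insert, Finset.mem_singleton, not_or] at hw hu
    obtain ⟨π, hπ, hmap⟩ := GolayM24.exists_map_five_five ![none, some 0, x, σ x, w]
      ![none, some 0, x, w, u] (inj5 (by simp) (Ne.symm hxa) (Ne.symm hya) (Ne.symm hw.1) (Ne.symm hxb) (Ne.symm hyb)
        (Ne.symm hw.2.1) (Ne.symm hne) (Ne.symm hw.2.2.1) (Ne.symm hw.2.2.2))
      (inj5 (by simp) (Ne.symm hxa) (Ne.symm hw.1) (Ne.symm hu.1) (Ne.symm hxb) (Ne.symm hw.2.1)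
        (Ne.symm hu.2.1) (Ne.symm hw.2.2.1) (Ne.symm hu.2.2.1) (Ne.symm hu.2.2.2.2))
    have e0 : π none = none := hmap 0
    have e1 : π (some 0) = some 0 := hmap 1
    have e2 : π x = x := hmap 2
    have e3 : π (σ x) = w := hmap 3
    have := congrArg (fun f : Equiv.Perm GolayPt => f x) (hcomm π (mem_M22.mpr ⟨hπ, e0, e1⟩))
    simp only [Equiv.Perm.mul_apply, e2, e3] at this
    exact hw.2.2.2 this.symm
  obtain ⟨c, hc, hsep⟩ := exists_separating (i := (none : GolayPt)) (j := some 0) (by simp)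
  have hs : c ∆ (σ • c) ∈ CodeSupp := symmDiff_mem_supports hc (GolayPerm.smul_mem_supports hσ hc)
  have hset : c ∆ (σ • c) = {none, some 0} := by
    ext i
    obtain ⟨j, rfl⟩ := σ.surjective i
    rw [Finset.mem_symmDiff, ← Equiv.Perm.smul_def, Finset.smul_mem_smul_finset_iff,
      Equiv.Perm.smul_def, Finset.mem_insert, Finset.mem_singleton]
    by_cases ha : j = none
    · subst ha; rw [h1]; simp; tauto
    by_cases hb : j = some 0
    · subst hb; rw [h2]; simp; tauto
    rw [hfix j ha hb]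
    simp [ha, hb]
  rw [hset] at hs
  rcases card_support_cases hs with h | h | h | h | h <;> simp at h

theorem normal_small {G : Type*} [Group G] [Finite G] [IsSimpleGroup G] (N : Subgroup G)
    (hn : ∀ g : G, ∀ x ∈ N, g * x * g⁻¹ ∈ N) (hN : IsPGroup 2 N)
    (hG : ∀ k : ℕ, Nat.card G ≠ 2 ^ k) : N = ⊥ := by
  haveI : Fact (Nat.Prime 2) := ⟨Nat.prime_two⟩
  haveI : N.Normal := ⟨fun x hx g => hn g x hx⟩
  refine (IsSimpleGroup.eq_bot_or_eq_top_of_normal N inferInstance).resolve_right fun h => ?_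
  obtain ⟨k, hk⟩ := IsPGroup.iff_card.mp hN
  rw [h, Subgroup.card_top] at hk
  exact hG k hk

theorem not_two_pow {n : ℕ} (p : ℕ) (hp : p.Prime) (hp2 : p ≠ 2) (hd : p ∣ n) (k : ℕ) : n ≠ 2 ^ k :=
  fun e => hp2 ((Nat.prime_dvd_prime_iff_eq hp Nat.prime_two).mp (hp.dvd_of_dvd_pow (e ▸ hd)))

theorem prj_eq_one_of_pair {A : Subgroup Co0} (hA : IsPGroup 2 A) (hle : A ≤ classStab vecP)
    (hAm : A ≤ mono) (hnorm : ∀ g ∈ classStab vecP, ∀ a ∈ A, g * a * g⁻¹ ∈ A) {g : mono}
    (hg : (g : Co0) ∈ A) : prj g = 1 := by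
  haveI := GolaySimple.isSimpleGroup_M22
  haveI := finite_Co0
  -- the permutation parts inside the pointwise stabiliser
  let B : Subgroup (Equiv.Perm GolayPt) := ((A.subgroupOf mono).map prj).map M24.subtype
  have hB : ∀ {τ}, τ ∈ B → ∃ a : mono, (a : Co0) ∈ A ∧ (prj a : Equiv.Perm GolayPt) = τ := by
    rintro _ ⟨_, ⟨a, ha, rfl⟩, rfl⟩
    exact ⟨a, ha, rfl⟩
  have hBp : IsPGroup 2 B :=
    ((hA.of_equiv (Subgroup.subgroupOfEquivOfLe hAm).symm).map prj).map M24.subtype
  have hBn : ∀ π ∈ Spor.M22, ∀ τ ∈ B, π * τ * π⁻¹ ∈ B := by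
    intro π hπ τ hτ
    obtain ⟨hπM, hπa, hπb⟩ := mem_M22.mp hπ
    obtain ⟨a, ha, rfl⟩ := hB hτ
    set t : mono := ⟨monomial π hπM ∅ empty_mem_supports, monomial_mem _ _⟩ with htd
    refine ⟨prj (t * a * t⁻¹), ⟨t * a * t⁻¹, hnorm _ (mem_of_pairFix hπM (Or.inl ⟨hπa, hπb⟩)) _ ha, rfl⟩, ?_⟩
    simp only [map_mul, map_inv, Subgroup.coe_subtype]
    rw [prj_eq (g := t) (hσ := hπM) (hc := empty_mem_supports) rfl]
  have htriv : B.subgroupOf Spor.M22 = ⊥ :=
    normal_small _ (fun π τ hτ => hBn π π.2 τ hτ)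
      ((hBp.comap_of_injective Spor.M22.subtype Subtype.coe_injective))
      (fun k => by rw [GolayM24.card_M22]; exact not_two_pow 3 Nat.prime_three (by norm_num) (by norm_num) k)
  have hfix : ∀ τ ∈ B, τ none = none → τ (some 0) = some 0 → τ ∈ M24 → τ = 1 := by
    intro τ hτ h1 h2 h3
    have : (⟨τ, mem_M22.mpr ⟨h3, h1, h2⟩⟩ : Spor.M22) ∈ B.subgroupOf Spor.M22 := hτ
    rw [htriv, Subgroup.mem_bot] at this
    exact congrArg Subtype.val this
  have hgB : ((prj g : M24) : Equiv.Perm GolayPt) ∈ B := ⟨_, ⟨g, hg, rfl⟩, rfl⟩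
  obtain ⟨σ, hσ, c, hc, e⟩ := mem_mono.mp g.2
  have hpf := (pairFix_of_mem hσ hc (e ▸ hle hg)).1
  rw [prj_eq e] at hgB
  refine Subtype.ext ((prj_eq e).trans ?_)
  rcases hpf with ⟨h1, h2⟩ | ⟨h1, h2⟩
  · exact hfix σ hgB h1 h2 hσ
  · refine (no_central_swap hσ h1 h2 fun π hπ => ?_).elim
    obtain ⟨hπM, hπa, hπb⟩ := mem_M22.mp hπ
    have hin : π * σ * π⁻¹ * σ⁻¹ ∈ B := mul_mem (hBn π hπ σ hgB) (inv_mem hgB)
    have hsa : σ⁻¹ none = some 0 := Equiv.Perm.inv_eq_iff_eq.mpr h2.symm
    have hsb : σ⁻¹ (some 0) = none := Equiv.Perm.inv_eq_iff_eq.mpr h1.symm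
    have hpa : π⁻¹ none = none := Equiv.Perm.inv_eq_iff_eq.mpr hπa.symm
    have hpb : π⁻¹ (some 0) = some 0 := Equiv.Perm.inv_eq_iff_eq.mpr hπb.symm
    have := hfix _ hin (by simp only [Equiv.Perm.mul_apply, hsa, hpb, h2, hπa])
      (by simp only [Equiv.Perm.mul_apply, hsb, hpa, h1, hπb])
      (mul_mem (mul_mem (mul_mem hπM hσ) (inv_mem hπM)) (inv_mem hσ))
    rw [mul_inv_eq_one] at this
    exact (mul_inv_eq_iff_eq_mul.mp this).symm

theorem card_monoP : 2 ^ 19 ∣ Nat.card ↥(mono ⊓ classStab vecP) := by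
  haveI := finite_Co0
  set H := mono ⊓ classStab vecP with hH
  let φ : H →* M24 := prj.comp (Subgroup.inclusion inf_le_left)
  -- the kernel
  have hker : 2048 ≤ Nat.card φ.ker ∧ Nat.card φ.ker ≤ 2048 := by
    constructor
    · rw [← card_even]
      refine Nat.card_le_card_of_injective (fun c => (⟨⟨signElt c.1,
        ⟨monomial_mem _ _, signElt_mem c.1 c.2⟩⟩, ?_⟩ : φ.ker)) ?_
      · exact Subtype.ext (prj_eq (g := Subgroup.inclusion inf_le_left (⟨signElt c.1, _⟩ : H)) (hσ := one_mem _) (hc := c.1.2) rfl)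
      · intro c d h
        exact Subtype.ext (signElt_injective (congrArg (fun x : φ.ker => ((x : H) : Co0)) h))
    · rw [← card_even]
      choose f hf using fun x : φ.ker => exists_sign_of_ker (g := Subgroup.inclusion inf_le_left x.1) x.2
      refine Nat.card_le_card_of_injective (fun x => (⟨f x, ?_⟩ : {c : CodeSupp // none ∈ c.1 ↔ some 0 ∈ c.1})) ?_
      · exact (pairFix_of_mem (one_mem M24) (f x).2 (by
          have h2 := x.1.2.2
          rwa [show (x.1 : Co0) = signElt (f x) from hf x] at h2)).2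
      · intro x y h
        have : f x = f y := congrArg Subtype.val h
        exact Subtype.ext (Subtype.ext ((hf x).trans ((congrArg signElt this).trans (hf y).symm)))
  obtain ⟨s, hs, hsa, hsb⟩ := exists_swap
  have hrange : Nat.card (φ.range.map M24.subtype) = 2 * Nat.card Spor.M22 := by
    have hmem : ∀ {σ : Equiv.Perm GolayPt} (hσ : σ ∈ M24), PairFix σ → σ ∈ φ.range.map M24.subtype := by
      intro σ hσ h
      exact ⟨_, ⟨⟨_, monomial_mem hσ empty_mem_supports, mem_of_pairFix hσ h⟩, rfl⟩,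
        prj_eq (g := Subgroup.inclusion inf_le_left (⟨_, monomial_mem hσ empty_mem_supports, mem_of_pairFix hσ h⟩ : H))
          (hσ := hσ) (hc := empty_mem_supports) rfl⟩
    refine card_pm (t := s) (fun π hπ => hmem (mem_M22.mp hπ).1 (Or.inl (mem_M22.mp hπ).2))
      (hmem hs (Or.inr ⟨hsa, hsb⟩)) (fun h => by simpa [hsa] using (mem_M22.mp h).2.1) ?_
    rintro _ ⟨_, ⟨x, rfl⟩, rfl⟩
    obtain ⟨σ, hσ, c, hc, e⟩ := mem_mono.mp x.2.1
    have hp : ((φ x : M24) : Equiv.Perm GolayPt) = σ := prj_eq (g := Subgroup.inclusion inf_le_left x) e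
    simp only [Subgroup.coe_subtype, hp]
    rcases (pairFix_of_mem hσ hc (e ▸ x.2.2)).1 with ⟨h1, h2⟩ | ⟨h1, h2⟩
    · exact Or.inl (mem_M22.mpr ⟨hσ, h1, h2⟩)
    · refine Or.inr (mem_M22.mpr ⟨mul_mem (inv_mem hs) hσ, ?_, ?_⟩)
      · rw [Equiv.Perm.mul_apply, h1]; exact Equiv.Perm.inv_eq_iff_eq.mpr hsa.symm
      · rw [Equiv.Perm.mul_apply, h2]; exact Equiv.Perm.inv_eq_iff_eq.mpr hsb.symm
  rw [GolayM24.card_M22, ← Nat.card_congr (Subgroup.equivMapOfInjective _ _ M24.subtype_injective).toEquiv] at hrange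
  rw [Subgroup.card_eq_card_quotient_mul_card_subgroup φ.ker,
    Nat.card_congr (QuotientGroup.quotientKerEquivRange φ).toEquiv, hrange]
  have : Nat.card φ.ker = 2048 := le_antisymm hker.2 hker.1
  rw [this]
  exact ⟨3465, by norm_num⟩

theorem signs32P {A : Subgroup Co0} (hA : IsPGroup 2 A) (hle : A ≤ classStab vecP)
    (hnorm : ∀ g ∈ classStab vecP, ∀ a ∈ A, g * a * g⁻¹ ∈ A) :
    ∀ a ∈ A, ∃ c : CodeSupp, a = signElt c := by
  haveI := finite_Co0
  haveI : Fact (Nat.Prime 2) := ⟨Nat.prime_two⟩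
  have hcard : Nat.card (classStab vecP) = 2 ^ 19 * 161382375 := by
    have h := card_classStab (Or.inl rfl) (v := vecP) (N := 32) (by exact_mod_cast sqNorm_vecP)
    rw [LeechCount.count_32, card_Co0] at h
    exact Nat.eq_of_mul_eq_mul_right (by norm_num) (h.trans (by norm_num))
  -- a Sylow subgroup inside the monomial part
  obtain ⟨P0, hP0⟩ := Sylow.exists_subgroup_card_pow_prime 2 card_monoP
  let P1 : Subgroup (classStab vecP) := (P0.map (mono ⊓ classStab vecP).subtype).subgroupOf (classStab vecP)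
  have hP0le : P0.map (mono ⊓ classStab vecP).subtype ≤ mono ⊓ classStab vecP := Subgroup.map_subtype_le _
  have hP1 : Nat.card P1 = 2 ^ (Nat.card (classStab vecP)).factorization 2 := by
    have h19 : (Nat.card (classStab vecP)).factorization 2 = 19 := by
      rw [hcard, Nat.factorization_mul (by norm_num) (by norm_num), Nat.factorization_pow]
      simp [Nat.Prime.factorization_self Nat.prime_two, Nat.factorization_eq_zero_of_not_dvd]
    rw [h19, Nat.card_congr (Subgroup.subgroupOfEquivOfLe (hP0le.trans inf_le_right)).toEquiv,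
      ← Nat.card_congr (Subgroup.equivMapOfInjective _ _ (Subgroup.subtype_injective _)).toEquiv, hP0]
  let S : Sylow 2 (classStab vecP) := Sylow.ofCard P1 hP1
  haveI : (A.subgroupOf (classStab vecP)).Normal := ⟨fun a ha g => hnorm g g.2 a ha⟩
  have hAS : A.subgroupOf (classStab vecP) ≤ (S : Subgroup (classStab vecP)) :=
    (HallCore.le_pCore (hA.of_equiv (Subgroup.subgroupOfEquivOfLe hle).symm)).trans
      (HallCore.pCore_le_sylow S)
  have hAm : A ≤ mono := fun a ha => (hP0le (hAS (show (⟨a, hle ha⟩ : classStab vecP) ∈ A.subgroupOf _ from ha))).1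
  choose f hf using fun a : A => exists_sign_of_ker (g := ⟨a.1, hAm a.2⟩)
    (prj_eq_one_of_pair hA hle hAm hnorm (g := ⟨a.1, hAm a.2⟩) a.2)
  exact fun a ha => ⟨f ⟨a, ha⟩, hf ⟨a, ha⟩⟩

theorem small32P {A : Subgroup Co0} (hA : IsPGroup 2 A) (hle : A ≤ classStab vecP)
    (hnorm : ∀ g ∈ classStab vecP, ∀ a ∈ A, g * a * g⁻¹ ∈ A) : Nat.card A ≤ 2 ^ 11 := by
  haveI := finite_Co0
  choose f hf using fun a : A => signs32P hA hle hnorm a.1 a.2
  rw [show (2 : ℕ) ^ 11 = 2048 by norm_num, ← card_even]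
  refine Nat.card_le_card_of_injective (fun a => (⟨f a, ?_⟩ : {c : CodeSupp // none ∈ c.1 ↔ some 0 ∈ c.1})) ?_
  · exact (pairFix_of_mem (one_mem M24) (f a).2 (by
      have h2 := hle a.2
      rwa [show (a : Co0) = signElt (f a) from hf a] at h2)).2
  · intro a b h
    have : f a = f b := congrArg Subtype.val h
    exact Subtype.ext ((hf a).trans ((congrArg signElt this).trans (hf b).symm))

theorem small32 {v : leechLattice} (hv : sqNorm (v : GolayPt → ℤ) = 32) {A : Subgroup Co0}
    (hA : IsPGroup 2 A) (hle : A ≤ classStab v)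
    (hnorm : ∀ g ∈ classStab v, ∀ a ∈ A, g * a * g⁻¹ ∈ A) : Nat.card A ≤ 2 ^ 11 := by
  obtain ⟨g, rfl⟩ := LeechOrbit.exists_smul_eq (N := 32) (Or.inl rfl) (v := vecP) (w := v)
    (by exact_mod_cast sqNorm_vecP) (by exact_mod_cast hv)
  set c := (MulAut.conj g⁻¹).toMonoidHom with hc
  have hcard : Nat.card (A.map c) = Nat.card A :=
    (Nat.card_congr (Subgroup.equivMapOfInjective A c (MulAut.conj g⁻¹).injective).toEquiv).symm
  rw [← hcard]
  refine small32P (hA.map c) ?_ ?_
  · rintro _ ⟨a, ha, rfl⟩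
    simp only [hc, MulEquiv.coe_toMonoidHom, MulAut.conj_apply, inv_inv]
    rw [← conj_mem_classStab (g := g)]
    simpa [mul_assoc] using hle ha
  · rintro h hh _ ⟨a, ha, rfl⟩
    refine ⟨g * h * g⁻¹ * a * (g * h * g⁻¹)⁻¹, hnorm _ (conj_mem_classStab.mpr hh) a ha, ?_⟩
    simp only [hc, MulEquiv.coe_toMonoidHom, MulAut.conj_apply, inv_inv]
    group

/-! ### The crosses -/

theorem classStab_frame : classStab (frame none) = mono := by
  ext g
  rw [MulAction.mem_stabilizer_iff, stdL_eq, smul_crossL, mem_classStab]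
  constructor
  · intro h
    refine crossL_eq ⟨by rw [sqNorm_smul]; exact sqNorm_frame none, ?_⟩
    have := neg_mem h
    rwa [neg_sub] at this
  · intro h
    have hv : g • frame none ∈ norm64 := (sqNorm_smul g _).trans (sqNorm_frame none)
    have := (h ▸ mem_crossL_self hv : g • frame none ∈ crossL (frame none)).2
    have := neg_mem this
    rwa [neg_sub] at this

theorem cross_signs {A : Subgroup Co0} (hA : IsPGroup 2 A) (hle : A ≤ mono)
    (hnorm : ∀ g ∈ mono, ∀ a ∈ A, g * a * g⁻¹ ∈ A) : ∀ a ∈ A, ∃ c : CodeSupp, a = signElt c := by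
  haveI := finite_Co0
  haveI := GolaySimple.isSimpleGroup_M24
  have hbot : (A.subgroupOf mono).map prj = ⊥ := by
    refine normal_small _ ?_ ((hA.of_equiv (Subgroup.subgroupOfEquivOfLe hle).symm).map prj)
      (fun k => by rw [GolayM24.card_M24]; exact not_two_pow 3 Nat.prime_three (by norm_num) (by norm_num) k)
    rintro σ _ ⟨b, hb, rfl⟩
    set t : mono := ⟨permHom σ, monomial_mem σ.2 empty_mem_supports⟩
    refine ⟨t * b * t⁻¹, hnorm _ t.2 _ hb, ?_⟩
    rw [map_mul, map_mul, map_inv,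
      show prj t = σ from Subtype.ext (prj_eq (g := t) (hσ := σ.2) (hc := empty_mem_supports) rfl)]
  intro a ha
  exact exists_sign_of_ker (g := ⟨a, hle ha⟩)
    (Subgroup.mem_bot.mp (hbot ▸ (⟨⟨a, hle ha⟩, ha, rfl⟩ : prj ⟨a, hle ha⟩ ∈ (A.subgroupOf mono).map prj)))

theorem cross64 {v : leechLattice} (hv : sqNorm (v : GolayPt → ℤ) = 64) {A : Subgroup Co0}
    (hA : IsPGroup 2 A) (hle : A ≤ classStab v)
    (hnorm : ∀ g ∈ classStab v, ∀ a ∈ A, g * a * g⁻¹ ∈ A) :
    Nat.card A ≤ 2 ^ 12 ∧ (Nat.card A = 2 ^ 12 → (∀ a ∈ A, a * a = 1) ∧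
      (∀ a ∈ A, ∀ b ∈ A, a * b = b * a) ∧ ∃ K : Subgroup Co0, K ≤ classStab v ∧
        A ⊔ K = classStab v ∧ A ⊓ K = ⊥ ∧ Nonempty (K ≃* M24)) := by
  haveI := finite_Co0
  haveI := GolaySimple.isSimpleGroup_M24
  obtain ⟨g, rfl⟩ := LeechOrbit.exists_smul_eq (N := 64) (Or.inr (Or.inr rfl)) (v := frame none)
    (w := v) (by exact_mod_cast sqNorm_frame none) (by exact_mod_cast hv)
  set c := (MulAut.conj g).toMonoidHom with hc
  have hcl : classStab (g • frame none) = mono.map c := by
    ext x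
    rw [Subgroup.mem_map, ← classStab_frame]
    constructor
    · intro hx
      refine ⟨g⁻¹ * x * g, (conj_mem_classStab (g := g)).mp (by simpa [mul_assoc] using hx), ?_⟩
      simp [hc, mul_assoc]
    · rintro ⟨y, hy, rfl⟩
      exact conj_mem_classStab.mpr hy
  rw [hcl] at hle hnorm ⊢
  have hcinj : Function.Injective c := (MulAut.conj g).injective
  set A' := A.comap c with hA'
  have hAA : A'.map c = A := Subgroup.map_comap_eq_self_of_surjective (MulAut.conj g).surjective A
  have hA'm : A' ≤ mono := by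
    intro a ha
    obtain ⟨b, hb, e⟩ := hle (show c a ∈ A from ha)
    rwa [← hcinj e]
  have hA'p : IsPGroup 2 A' := hA.comap_of_injective c hcinj
  have hA'card : Nat.card A = Nat.card A' := by
    rw [← hAA]
    exact (Nat.card_congr (Subgroup.equivMapOfInjective A' c hcinj).toEquiv).symm
  choose f hf using fun a : A' => cross_signs hA'p hA'm (fun x hx y hy => by
    show c (x * y * x⁻¹) ∈ A
    rw [map_mul, map_mul, map_inv]
    exact hnorm _ ⟨x, hx, rfl⟩ _ hy) a.1 a.2
  have hfinj : Function.Injective f := fun a b h =>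
    Subtype.ext ((hf a).trans ((congrArg signElt h).trans (hf b).symm))
  refine ⟨?_, fun hcard => ?_⟩
  · rw [hA'card, show (2 : ℕ) ^ 12 = 4096 by norm_num, ← card_codeSupp]
    exact Nat.card_le_card_of_injective f hfinj
  have hsurj : ∀ s : CodeSupp, signElt s ∈ A' := by
    intro s
    obtain ⟨a, rfl⟩ := ((Nat.bijective_iff_injective_and_card f).mpr ⟨hfinj, by
      rw [← hA'card, hcard, card_codeSupp]; norm_num⟩).2 s
    rw [← hf a]; exact a.2
  have helt : ∀ a ∈ A, ∃ s : CodeSupp, a = c (signElt s) := by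
    intro a ha
    rw [← hAA] at ha
    obtain ⟨b, hb, rfl⟩ := ha
    exact ⟨f ⟨b, hb⟩, congrArg c (hf ⟨b, hb⟩)⟩
  refine ⟨fun a ha => ?_, fun a ha b hb => ?_, permHom.range.map c, ?_, ?_, ?_, ?_⟩
  · obtain ⟨s, rfl⟩ := helt a ha
    rw [← map_mul, signElt_sq, map_one]
  · obtain ⟨s, rfl⟩ := helt a ha
    obtain ⟨t, rfl⟩ := helt b hb
    rw [← map_mul, ← map_mul, signElt_mul, signElt_mul]
    exact congrArg (fun x => c (signElt x)) (Subtype.ext (symmDiff_comm _ _))
  · refine Subgroup.map_mono ?_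
    rintro _ ⟨σ, rfl⟩
    exact monomial_mem σ.2 empty_mem_supports
  · refine le_antisymm (sup_le hle ?_) ?_
    · refine Subgroup.map_mono ?_
      rintro _ ⟨σ, rfl⟩
      exact monomial_mem σ.2 empty_mem_supports
    · rintro _ ⟨x, hx, rfl⟩
      obtain ⟨σ, hσ, s, hs, rfl⟩ := mem_mono.mp hx
      have e : monomial σ hσ s hs = signElt ⟨s, hs⟩ * permHom ⟨σ, hσ⟩ := by
        show _ = monomial 1 (one_mem _) s hs * monomial σ hσ ∅ empty_mem_supports
        rw [monomial_mul]
        exact monomial_congr _ _ _ _ (one_mul σ).symm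
          (by rw [Finset.smul_finset_empty]; exact (symmDiff_bot s).symm)
      rw [e, map_mul]
      refine Subgroup.mul_mem_sup ?_ ⟨_, ⟨_, rfl⟩, rfl⟩
      exact hsurj _
  · rw [eq_bot_iff]
    rintro _ ⟨ha, _, ⟨σ, rfl⟩, rfl⟩
    obtain ⟨s, e⟩ := helt _ ha
    have h1 := monomial_injective σ.2 (one_mem _) empty_mem_supports s.2 (hcinj e)
    rw [Subgroup.mem_bot, show permHom σ = 1 from
      Eq.trans (monomial_congr σ.2 (one_mem _) empty_mem_supports empty_mem_supports h1.1 rfl)
        monomial_one, map_one]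
  · exact ⟨((MonoidHom.ofInjective permHom_injective).trans
      (Subgroup.equivMapOfInjective _ c hcinj)).symm⟩

/-- Every non-trivial class contains a vector of norm 32, 48 or 64. -/
theorem exists_short (x : leechLattice) (hx : (x : GolayPt → ℤ) ∉ twiceLeech) :
    ∃ y : leechLattice, (sqNorm (y : GolayPt → ℤ) = 32 ∨ sqNorm (y : GolayPt → ℤ) = 48 ∨
      sqNorm (y : GolayPt → ℤ) = 64) ∧ (x : GolayPt → ℤ) - y ∈ twiceLeech := by
  obtain ⟨y, hy, hyn, hxy⟩ := LeechMod2.main.1 x x.2
  refine ⟨⟨y, hy⟩, ?_, hxy⟩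
  have hy0 : y ≠ 0 := fun e => hx (by rwa [e, sub_zero] at hxy)
  have h32 := thirtytwo_le_sqNorm (mem_leechLattice.mp hy) hy0
  have h16 := sixteen_dvd_sqNorm (mem_leechLattice.mp hy)
  show sqNorm y = 32 ∨ sqNorm y = 48 ∨ sqNorm y = 64
  omega

end Cfsg.Agent.LeechStab
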