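import Cfsg.Agent.Lib.PSL2Sylow

/-!
Sylow 2-subgroups of `SL(2,q)` for odd `q`.
-/

set_option autoImplicit false

namespace Cfsg.Agent.PSL2SylowTwo

open Matrix
open Cfsg.Agent.PSL2Elements
open scoped MatrixGroups

theorem quatHom_injective {G : Type*} [Group G] (n : ℕ) [NeZero n] (c x : G)
    (hc : c ^ (2 * n) = 1) (hx : x * x = c ^ n) (hxc : x * c * x⁻¹ = c⁻¹)
    (hord : orderOf c = 2 * n) (hmem : x ∉ Subgroup.zpowers c) :
    Function.Injective (PSL2Small.quatHom n c x hc hx hxc) := by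
  rw [injective_iff_map_eq_one]
  rintro (i | i) h
  · change c ^ i.val = 1 at h
    have hlt := ZMod.val_lt i
    have hd : orderOf c ∣ i.val := orderOf_dvd_of_pow_eq_one h
    rw [hord] at hd
    rw [QuaternionGroup.one_def]
    exact congrArg QuaternionGroup.a ((ZMod.val_eq_zero i).1 (Nat.eq_zero_of_dvd_of_lt hd hlt))
  · change x * c ^ i.val = 1 at h
    refine absurd ?_ hmem
    rw [eq_inv_of_mul_eq_one_left h]
    exact inv_mem (pow_mem (Subgroup.mem_zpowers c) _)

variable {F : Type*} [Field F] [Finite F]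

theorem two_ne_zero_of_odd (hq : Odd (Nat.card F)) : (2 : F) ≠ 0 := by
  intro h
  have := Fintype.ofFinite F
  have : CharP F 2 := CharTwo.of_one_ne_zero_of_two_eq_zero one_ne_zero h
  have hmod := FiniteField.even_card_of_char_two (F := F) (ringChar.eq F 2)
  rw [Nat.card_eq_fintype_card, Nat.odd_iff] at hq
  omega

theorem orderOf_w (h2 : (2 : F) ≠ 0) : orderOf (w : SL(2, F)) = 4 := by
  have : Fact (Nat.Prime 2) := ⟨Nat.prime_two⟩
  refine orderOf_eq_prime_pow (p := 2) (n := 1) ?_ ?_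
  · rw [pow_one, sq, w_sq]
    intro h
    have := congrArg tr h
    rw [tr_neg, tr_one] at this
    exact mul_ne_zero h2 h2 (by linear_combination -this)
  · rw [show (2 : ℕ) ^ (1 + 1) = 2 * 2 from rfl, pow_mul, sq (w : SL(2, F)), w_sq, neg_one_sq]

/-- The centraliser of `w` is cyclic of order divisible by 4, equal to `q - 1` or `q + 1`. -/
theorem centralizer_w (hq : Odd (Nat.card F)) :
    IsCyclic (Subgroup.centralizer ({w} : Set SL(2, F))) ∧
      4 ∣ Nat.card (Subgroup.centralizer ({w} : Set SL(2, F))) ∧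
      (Nat.card (Subgroup.centralizer ({w} : Set SL(2, F))) = Nat.card F - 1 ∨
        Nat.card (Subgroup.centralizer ({w} : Set SL(2, F))) = Nat.card F + 1) := by
  have h2 := two_ne_zero_of_odd hq
  obtain ⟨hc, hcard⟩ := centralizer_semisimple (A := (w : SL(2, F))) (tr_w_ne h2)
  refine ⟨hc, ?_, hcard.imp And.right And.right⟩
  rw [← orderOf_w h2]
  exact Subgroup.orderOf_dvd_natCard _ (Subgroup.mem_centralizer_singleton_iff.2 rfl)

/-- Some element inverts the centraliser of `w` and squares to `-1`. -/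
theorem exists_inverting (hq : Odd (Nat.card F)) :
    ∃ x : SL(2, F), x * x = -1 ∧ x ∉ Subgroup.centralizer ({w} : Set SL(2, F)) ∧
      ∀ a ∈ Subgroup.centralizer ({w} : Set SL(2, F)), x * a * x⁻¹ = a⁻¹ := by
  have h2 := two_ne_zero_of_odd hq
  have hnc : (w : SL(2, F)) ∉ Subgroup.center SL(2, F) := fun h =>
    tr_w_ne h2 (tr_sq_eq_four_of_mem_center h)
  obtain ⟨x, hx⟩ := isConj_iff.1 (isConj_inv (A := (w : SL(2, F))) (tr_w_ne h2))
  have winv : (w : SL(2, F))⁻¹ = -w :=
    inv_eq_of_mul_eq_one_right (by rw [mul_neg, w_sq, neg_neg])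
  have hxw : x.1 * w.1 = -w.1 * x.1 := by
    rw [← coe_neg', ← winv, ← coe_mul', ← coe_mul', ← hx]
    exact congrArg Subtype.val (inv_mul_cancel_right (x * w) x).symm
  have hinv : ∀ a ∈ Subgroup.centralizer ({w} : Set SL(2, F)), x * a * x⁻¹ = a⁻¹ := by
    intro a ha
    rw [Subgroup.mem_centralizer_singleton_iff] at ha
    obtain ⟨s, t, hst⟩ := exists_eq_of_commute hnc (congrArg Subtype.val ha)
    have hd : s ^ 2 + t ^ 2 = 1 := by
      have := det_eq a
      rw [hst] at this
      simp [w] at this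
      linear_combination this
    have hconj : (x * a).1 = (s • (1 : Matrix (Fin 2) (Fin 2) F) + t • -w.1) * x.1 := by
      rw [coe_mul', hst, mul_add, add_mul, mul_smul_comm, mul_smul_comm, hxw, mul_one,
        smul_mul_assoc, smul_mul_assoc, one_mul]
    have hinv' : (a⁻¹).1 = s • (1 : Matrix (Fin 2) (Fin 2) F) + t • -w.1 := by
      rw [show (a⁻¹).1 = Matrix.adjugate a.1 from rfl, Matrix.adjugate_fin_two]
      simp only [hst]
      ext i j
      fin_cases i <;> fin_cases j <;> simp [w]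
    rw [mul_inv_eq_iff_eq_mul]
    exact Subtype.ext (by rw [hconj, coe_mul', hinv'])
  have hxc : x ∉ Subgroup.centralizer ({w} : Set SL(2, F)) := fun h => by
    rw [Subgroup.mem_centralizer_singleton_iff] at h
    have : (w : SL(2, F)) = w⁻¹ := by
      rw [← hx, h]; group
    have h4 := orderOf_w h2
    have h2' : (w : SL(2, F)) ^ 2 = 1 := by rw [sq, mul_eq_one_iff_eq_inv]; exact this
    have := Nat.le_of_dvd two_pos (orderOf_dvd_of_pow_eq_one h2')
    omega
  refine ⟨x, ?_, hxc, hinv⟩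
  have hxx : x * x ∈ Subgroup.centralizer ({w} : Set SL(2, F)) := by
    rw [Subgroup.mem_centralizer_singleton_iff]
    have h1 : x * w⁻¹ * x⁻¹ = w := by rw [← conj_inv, hx, inv_inv]
    rw [← mul_inv_eq_iff_eq_mul]
    calc x * x * w * (x * x)⁻¹ = x * (x * w * x⁻¹) * x⁻¹ := by group
      _ = w := by rw [hx, h1]
  have hsq : (x * x) ^ 2 = 1 := by
    have := hinv _ hxx
    rw [show x * (x * x) * x⁻¹ = x * x by group] at this
    rw [sq, mul_eq_one_iff_eq_inv]
    exact this
  refine (eq_one_or_neg_one_of_sq_eq_one h2 hsq).resolve_left fun h1 => hxc ?_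
  rcases eq_one_or_neg_one_of_sq_eq_one h2 (A := x) (by rw [sq, h1]) with rfl | rfl <;>
    simp [Subgroup.mem_centralizer_singleton_iff]

/-- The Sylow 2-subgroups of `SL(2,q)`, `q` odd, are generalised quaternion; their order is twice
the 2-part of the order of the centraliser of `w`. -/
theorem sylow_two_quaternion (hq : Odd (Nat.card F)) (P : Sylow 2 SL(2, F)) :
    ∃ k : ℕ, 1 ≤ k ∧ Nonempty ((P : Subgroup SL(2, F)) ≃* QuaternionGroup (2 ^ k)) := by
  have h2 := two_ne_zero_of_odd hq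
  have : Fact (Nat.Prime 2) := ⟨Nat.prime_two⟩
  obtain ⟨hcyc, h4, hm⟩ := centralizer_w hq
  obtain ⟨x, hx2, hxT, hinv⟩ := exists_inverting hq
  set T := Subgroup.centralizer ({w} : Set SL(2, F)) with hT
  obtain ⟨k, m, hodd, hmk⟩ := Nat.exists_eq_pow_mul_and_not_dvd
    (Nat.card_pos (α := T)).ne' 2 (by norm_num)
  have hk : 2 ≤ k := by
    by_contra hlt
    rw [hmk] at h4
    interval_cases k
    · exact hodd ((dvd_trans (by norm_num) h4).trans (by simp))
    · rw [pow_one] at h4
      exact hodd (Nat.dvd_of_mul_dvd_mul_left two_pos (show 2 * 2 ∣ 2 * m from h4))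
  obtain ⟨j, rfl⟩ : ∃ j, k = j + 1 := ⟨k - 1, by omega⟩
  obtain ⟨g, hg⟩ := hcyc.exists_ofOrder_eq_natCard
  have hcord : orderOf ((g : SL(2, F)) ^ m) = 2 ^ (j + 1) := by
    have hm0 : m ≠ 0 := fun h => hodd (h ▸ dvd_zero 2)
    rw [orderOf_pow' _ hm0, Subgroup.orderOf_coe, hg, hmk, Nat.gcd_mul_left_left,
      Nat.mul_div_cancel _ (Nat.pos_of_ne_zero hm0)]
  set c := (g : SL(2, F)) ^ m with hc
  have hcT : c ∈ T := pow_mem g.2 m
  have hc2n : c ^ (2 * 2 ^ j) = 1 := by rw [← pow_succ', ← hcord, pow_orderOf_eq_one]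
  have hcn : c ^ (2 ^ j) = -1 := by
    refine (eq_one_or_neg_one_of_sq_eq_one h2 (by rw [← pow_mul, mul_comm]; exact hc2n)).resolve_left
      fun h1 => ?_
    have hd := Nat.le_of_dvd (by positivity) (orderOf_dvd_of_pow_eq_one h1)
    rw [hcord, pow_succ] at hd
    have : 0 < 2 ^ j := by positivity
    omega
  let φ := PSL2Small.quatHom (2 ^ j) c x hc2n (by rw [hx2, hcn]) (hinv c hcT)
  have hφ : Function.Injective φ := quatHom_injective (2 ^ j) c x hc2n _ _ (by rw [hcord, pow_succ'])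
    (fun h => hxT ((Subgroup.zpowers_le.2 hcT) h))
  have hrcard : Nat.card φ.range = 2 ^ (j + 2) := by
    rw [← Nat.card_congr (MonoidHom.ofInjective hφ).toEquiv, Nat.card_eq_fintype_card,
      QuaternionGroup.card]
    ring
  obtain ⟨Q, hQ⟩ := IsPGroup.exists_le_sylow (IsPGroup.of_card hrcard : IsPGroup 2 φ.range)
  have hQcard : Nat.card Q = 2 ^ (j + 2) := by
    have hq1 := PSLCard.one_lt_card F
    have hqodd : ¬ 2 ∣ Nat.card F := by rw [Nat.odd_iff] at hq; omega
    have hsq : Nat.card F ^ 2 - 1 = (Nat.card F + 1) * (Nat.card F - 1) := by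
      rw [← Nat.sq_sub_sq, one_pow]
    have hpow : 2 ^ (j + 1) * m = 4 * (2 ^ (j - 1) * m) := by
      rw [show j + 1 = (j - 1) + 2 by omega, pow_add]; ring
    rcases hm with hm | hm
    · refine PSL2Sylow.sylow_card_eq (b := Nat.card F * (m * ((Nat.card F + 1) / 2))) ?_ ?_ Q
      · rw [PSLCard.card_SL2, hsq, ← hm, hmk]
        have he : Nat.card F + 1 = 2 * ((Nat.card F + 1) / 2) := by omega
        conv_lhs => rw [he]
        ring
      · intro hd
        rcases Nat.prime_two.dvd_mul.1 hd with h | h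
        · exact hqodd h
        rcases Nat.prime_two.dvd_mul.1 h with h | h
        · exact hodd h
        · rw [hmk, hpow] at hm
          omega
    · refine PSL2Sylow.sylow_card_eq (b := Nat.card F * (m * ((Nat.card F - 1) / 2))) ?_ ?_ Q
      · rw [PSLCard.card_SL2, hsq, ← hm, hmk]
        have he : Nat.card F - 1 = 2 * ((Nat.card F - 1) / 2) := by omega
        conv_lhs => rw [he]
        ring
      · intro hd
        rcases Nat.prime_two.dvd_mul.1 hd with h | h
        · exact hqodd h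
        rcases Nat.prime_two.dvd_mul.1 h with h | h
        · exact hodd h
        · rw [hmk, hpow] at hm
          omega
  have hQeq : φ.range = (Q : Subgroup SL(2, F)) :=
    Subgroup.eq_of_le_of_card_ge hQ (le_of_eq (hQcard.trans hrcard.symm))
  exact ⟨j, by omega, ⟨(Sylow.equiv P Q).trans
    ((MulEquiv.subgroupCongr hQeq.symm).trans (MonoidHom.ofInjective hφ).symm)⟩⟩

/-- The image of `A` in `PSL` has order dividing `2` when `A ^ 4 = 1`. -/
theorem sq_psl_eq_one (h2 : (2 : F) ≠ 0) {A : SL(2, F)} (h : A ^ 4 = 1) :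
    (QuotientGroup.mk A : ProjectiveSpecialLinearGroup (Fin 2) F) ^ 2 = 1 := by
  rw [← QuotientGroup.mk_pow, QuotientGroup.eq_one_iff, mem_center_iff]
  exact eq_one_or_neg_one_of_sq_eq_one h2 (by rw [← pow_mul]; exact h)

/-- For `q ≡ ±3 mod 8` the Sylow 2-subgroups of `PSL(2,q)` are Klein four groups. -/
theorem sylow_two_klein (hq : Nat.card F % 8 = 3 ∨ Nat.card F % 8 = 5)
    (P : Sylow 2 (ProjectiveSpecialLinearGroup (Fin 2) F)) :
    IsKleinFour (P : Subgroup (ProjectiveSpecialLinearGroup (Fin 2) F)) := by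
  have hodd : Odd (Nat.card F) := by rw [Nat.odd_iff]; omega
  have h2 := two_ne_zero_of_odd hodd
  have : Fact (Nat.Prime 2) := ⟨Nat.prime_two⟩
  have hcard : Nat.card (P : Subgroup (ProjectiveSpecialLinearGroup (Fin 2) F)) = 2 ^ 2 := by
    refine PSL2Sylow.sylow_card_eq (b := Nat.card F * ((Nat.card F ^ 2 - 1) / 8)) ?_ ?_ P
    · rw [PSLCard.card_PSL2_odd hodd]
      have h8 : (Nat.card F ^ 2 - 1) % 8 = 0 := by
        have : Nat.card F ^ 2 % 8 = 1 := by
          rcases hq with h | h <;> simp [Nat.pow_mod, h]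
        omega
      conv_lhs => rw [show Nat.card F ^ 2 - 1 = 8 * ((Nat.card F ^ 2 - 1) / 8) by omega]
      rw [show Nat.card F * (8 * ((Nat.card F ^ 2 - 1) / 8)) =
        2 * (2 ^ 2 * (Nat.card F * ((Nat.card F ^ 2 - 1) / 8))) by ring, Nat.mul_div_cancel_left _ two_pos]
    · intro hd
      rcases Nat.prime_two.dvd_mul.1 hd with h | h
      · omega
      · have : Nat.card F ^ 2 % 16 = 9 := by
          have h16 : Nat.card F % 16 = 3 ∨ Nat.card F % 16 = 5 ∨ Nat.card F % 16 = 11 ∨
              Nat.card F % 16 = 13 := by omega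
          rcases h16 with h | h | h | h <;> simp [Nat.pow_mod, h]
        omega
  have hexp : ∀ y : (P : Subgroup (ProjectiveSpecialLinearGroup (Fin 2) F)), y ^ 2 = 1 := by
    rintro ⟨y, hy⟩
    obtain ⟨A, rfl⟩ := QuotientGroup.mk_surjective y
    refine Subtype.ext (sq_psl_eq_one h2 ?_)
    have hy4 : (⟨_, hy⟩ : (P : Subgroup (ProjectiveSpecialLinearGroup (Fin 2) F))) ^ (2 ^ 2) = 1 := by
      rw [← hcard]; exact pow_card_eq_one'
    have hA : A ^ 4 ∈ Subgroup.center SL(2, F) := by
      rw [← QuotientGroup.eq_one_iff, QuotientGroup.mk_pow]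
      exact congrArg Subtype.val hy4
    have hA8 : A ^ 8 = 1 := by
      rw [show (8 : ℕ) = 4 * 2 from rfl, pow_mul]
      rcases (mem_center_iff _).1 hA with h | h <;> rw [h] <;> simp
    have hpchar : ∃ p : ℕ, ∃ _ : Fact p.Prime, CharP F p :=
      ⟨ringChar F, ⟨CharP.char_is_prime F _⟩, inferInstance⟩
    obtain ⟨p, _, _⟩ := hpchar
    have hd8 : orderOf A ∣ 2 ^ 3 := orderOf_dvd_of_pow_eq_one hA8
    have hp2 : p ≠ 2 := fun h => by
      subst h; exact h2 (CharP.cast_eq_zero F 2)
    have hcop : (orderOf A).Coprime p :=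
      Nat.Coprime.coprime_dvd_left hd8
        (Nat.Coprime.pow_left 3 ((Nat.coprime_primes Nat.prime_two Fact.out).2 (Ne.symm hp2)))
    have key : ∀ M : ℕ, A ^ M = 1 → M % 8 ≠ 0 → A ^ 4 = 1 := fun M hM hM8 => by
      obtain ⟨i, hi, hord⟩ := (Nat.dvd_prime_pow Nat.prime_two).1 hd8
      have hdM := orderOf_dvd_of_pow_eq_one hM
      rw [hord] at hdM
      apply orderOf_dvd_iff_pow_eq_one.1
      rw [hord]
      interval_cases i <;> first | decide | omega
    rcases pow_of_coprime p A hcop with h | h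
    · exact key _ h (by omega)
    · exact key _ h (by omega)
  have hnt : Nontrivial (P : Subgroup (ProjectiveSpecialLinearGroup (Fin 2) F)) :=
    Finite.one_lt_card_iff_nontrivial.1 (by rw [hcard]; norm_num)
  refine ⟨hcard, ?_⟩
  refine (Nat.prime_two.eq_one_or_self_of_dvd _ (Monoid.exponent_dvd_iff_forall_pow_eq_one.2 hexp)).resolve_left
    fun h => ?_
  exact not_subsingleton _ (Monoid.exp_eq_one_iff.1 h)

end Cfsg.Agent.PSL2SylowTwo
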