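import Mathlib
import Cfsg.Prelude.Def_Transfer
import Cfsg.Agent.Lib.HallSolvable

/-!
Finite solvable groups in which cyclic subgroups of equal prime power order are conjugate and in
which, for a prime `q`, some two commuting elements of order `q` generate a noncyclic group while no
element has order `q^2`: the `q`-elements form a normal elementary abelian subgroup.
-/

set_option autoImplicit false
set_option linter.style.haveILetI false

namespace Cfsg.Agent.AbelianConjMulti28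

open Subgroup
open scoped Pointwise

universe u

/-- Cyclic subgroups of equal prime power order are conjugate. -/
def CyConj (G : Type u) [Group G] : Prop :=
  ∀ r : ℕ, r.Prime → ∀ (x y : G) (k : ℕ), orderOf x = r ^ k → orderOf y = r ^ k →
    ∃ g : G, g * x * g⁻¹ ∈ zpowers y

/-- Some two commuting elements of order `q` generate a noncyclic group. -/
def Multi (G : Type u) [Group G] (q : ℕ) : Prop :=
  ∃ x y : G, orderOf x = q ∧ orderOf y = q ∧ Commute x y ∧ y ∉ zpowers x

variable {G : Type u} [Group G]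

theorem zpowers_eq_of_conj_mem [Finite G] {x y g : G} (h : g * x * g⁻¹ ∈ zpowers y)
    (ho : orderOf x = orderOf y) : zpowers (g * x * g⁻¹) = zpowers y := by
  refine Subgroup.eq_of_le_of_card_ge (zpowers_le.2 h) ?_
  rw [Nat.card_zpowers, Nat.card_zpowers, ← ho]
  exact ((MulAut.conj g).orderOf_eq x).ge

/-- A normal subgroup with an element of prime order `q` contains every element of order `q`. -/
theorem mem_of_orderOf_eq [Finite G] (hC : CyConj G) {q : ℕ} (hq : q.Prime) {N : Subgroup G}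
    (hN : N.Normal) {x y : G} (hx : x ∈ N) (hxo : orderOf x = q) (hyo : orderOf y = q) : y ∈ N := by
  obtain ⟨g, hg⟩ := hC q hq x y 1 (by rw [pow_one, hxo]) (by rw [pow_one, hyo])
  have h := zpowers_eq_of_conj_mem hg (hxo.trans hyo.symm)
  have hy : y ∈ zpowers (g * x * g⁻¹) := h ▸ mem_zpowers y
  exact zpowers_le.2 (hN.conj_mem x hx g) hy

/-- For a faithful action of a noncyclic abelian group, stabilisers cannot all be alike. -/
theorem not_faithful [Finite G] {p q : ℕ} (hp : p.Prime) (hq : q.Prime) (hpq : p ≠ q) {V R : Subgroup G}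
    (hV : V.Normal) (hVel : Cfsg.IsElementaryAbelian p V) (hV1 : V ≠ ⊥)
    (hRc : ∀ a ∈ R, ∀ b ∈ R, a * b = b * a) {x y : G} (hx : x ∈ R) (hy : y ∈ R)
    (hxq : x ^ q = 1) (hyq : y ^ q = 1) (hxy : y ∉ zpowers x) (hx1 : x ≠ 1)
    (hfaith : ∀ r ∈ R, (∀ v ∈ V, r * v = v * r) → r = 1)
    (htrans : ∀ v ∈ V, ∀ w ∈ V, v ≠ 1 → w ≠ 1 →
      ∃ g : G, (∀ r, r ∈ R ↔ g * r * g⁻¹ ∈ R) ∧ g * v * g⁻¹ ∈ zpowers w) :
    False := by
  have hVc : ∀ a ∈ V, ∀ b ∈ V, a * b = b * a := fun a ha b hb =>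
    congrArg Subtype.val (hVel.1.is_comm.comm ⟨a, ha⟩ ⟨b, hb⟩)
  have : Fact p.Prime := ⟨hp⟩
  -- the point stabilisers
  let St : G → Subgroup G := fun v => R ⊓ centralizer ({v} : Set G)
  have hSt : ∀ v r, r ∈ St v ↔ r ∈ R ∧ r * v = v * r := fun v r => by
    simp only [St, mem_inf, mem_centralizer_singleton_iff]
  have hcardle : ∀ v ∈ V, v ≠ 1 → ∀ w ∈ V, w ≠ 1 → Nat.card (St v) ≤ Nat.card (St w) := by
    intro v hv hv1 w hw hw1
    obtain ⟨g, hgR, hgv⟩ := htrans v hv w hw hv1 hw1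
    have ho : orderOf v = orderOf w := by
      rw [orderOf_eq_prime (hVel.2 v hv) hv1, orderOf_eq_prime (hVel.2 w hw) hw1]
    have hz := zpowers_eq_of_conj_mem hgv ho
    refine Nat.card_le_card_of_injective (fun r => (⟨g * r.1 * g⁻¹, ?_⟩ : St w)) ?_
    · obtain ⟨hr, hrv⟩ := (hSt _ _).1 r.2
      refine (hSt _ _).2 ⟨(hgR _).1 hr, ?_⟩
      obtain ⟨k, hk⟩ := mem_zpowers_iff.1 (hz ▸ mem_zpowers w : w ∈ zpowers (g * v * g⁻¹))
      have hc : Commute (g * r.1 * g⁻¹) (g * v * g⁻¹) := Commute.conj (show Commute r.1 v from hrv) g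
      rw [← hk]
      exact (hc.zpow_right k).eq
    · intro a b e
      simpa using congrArg Subtype.val e
  have hcard : ∀ v ∈ V, v ≠ 1 → ∀ w ∈ V, w ≠ 1 → Nat.card (St v) = Nat.card (St w) :=
    fun v hv hv1 w hw hw1 => le_antisymm (hcardle v hv hv1 w hw hw1) (hcardle w hw hw1 v hv hv1)
  -- some nontrivial element fixes a nontrivial vector
  obtain ⟨r₀, hr₀, hr₀1, v₀, hv₀, hv₀1, hfix⟩ :
      ∃ r ∈ R, r ≠ 1 ∧ ∃ v ∈ V, v ≠ 1 ∧ r * v = v * r := by
    by_contra hno
    push Not at hno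
    haveI := hV
    letI : CommGroup V := { (inferInstance : Group V) with mul_comm := fun a b => hVel.1.is_comm.comm a b }
    let φ : G → V → V := fun r v => ⟨r * v * r⁻¹, hV.conj_mem _ v.2 r⟩
    have hφm : ∀ r (s : Finset ℕ) (f : ℕ → V), φ r (∏ i ∈ s, f i) = ∏ i ∈ s, φ r (f i) := by
      intro r s f
      let F : V →* V := MonoidHom.mk' (φ r) fun a b => Subtype.ext (by simp [φ, mul_assoc])
      exact map_prod F f s
    -- the product over the orbit of a fixed point free element is trivial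
    have horb : ∀ r ∈ R, r ≠ 1 → r ^ q = 1 → ∀ v : V, ∏ i ∈ Finset.range q, φ (r ^ i) v = 1 := by
      intro r hr hr1 hrq v
      set P := ∏ i ∈ Finset.range q, φ (r ^ i) v with hP
      have hshift : φ r P = P := by
        rw [hP, hφm]
        obtain ⟨t, rfl⟩ : ∃ t, q = t + 1 := ⟨q - 1, by have := hq.pos; omega⟩
        have e : ∀ i, φ r (φ (r ^ i) v) = φ (r ^ (i + 1)) v := fun i =>
          Subtype.ext (by simp [φ, pow_succ', mul_assoc])
        simp only [e]
        rw [Finset.prod_range_succ, hrq, Finset.prod_range_succ' (fun i => φ (r ^ i) v) t, pow_zero]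
      by_contra hne
      refine hno r hr hr1 P P.2 (fun h => hne (Subtype.ext h)) ?_
      have h := congrArg Subtype.val hshift
      simp only [φ] at h
      rwa [mul_inv_eq_iff_eq_mul] at h
    have hcomm : Commute x y := hRc x hx y hy
    obtain ⟨v, hv, hv1⟩ := (V.ne_bot_iff_exists_ne_one).1 hV1 |>.elim fun w hw =>
      (⟨w.1, w.2, fun h => hw (Subtype.ext h)⟩ : ∃ v, v ∈ V ∧ v ≠ 1)
    apply hv1
    have hy1 : y ≠ 1 := fun h => hxy (h ▸ one_mem _)
    have h1 : ∀ j, ∏ i ∈ Finset.range q, φ ((x * y ^ j) ^ i) ⟨v, hv⟩ = 1 := by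
      intro j
      refine horb _ (mul_mem hx (pow_mem hy j)) ?_ ?_ _
      · intro h
        by_cases hj : q ∣ j
        · obtain ⟨t, rfl⟩ := hj
          rw [pow_mul, hyq, one_pow, mul_one] at h
          exact hx1 h
        · -- then `y` is a power of `x`
          apply hxy
          have h2 : y ^ j ∈ zpowers x := by
            rw [(eq_inv_of_mul_eq_one_right h)]; exact inv_mem (mem_zpowers x)
          obtain ⟨t, -, ht⟩ := Nat.exists_mul_mod_eq_one_of_coprime
            ((hq.coprime_iff_not_dvd.2 hj).symm) hq.one_lt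
          have h3 : y = (y ^ j) ^ t := by
            rw [← pow_mul, ← Nat.div_add_mod (j * t) q, pow_add, pow_mul, hyq, one_pow, one_mul,
              ht, pow_one]
          rw [h3]; exact pow_mem h2 t
      · rw [(hcomm.pow_right j).mul_pow, hxq, one_mul, ← pow_mul, mul_comm, pow_mul, hyq, one_pow]
    have h2 : ∏ i ∈ Finset.range q, ∏ j ∈ Finset.range q, φ ((x * y ^ j) ^ i) ⟨v, hv⟩ = 1 := by
      rw [Finset.prod_comm]; exact Finset.prod_eq_one fun j _ => h1 j
    obtain ⟨t, ht⟩ : ∃ t, q = t + 1 := ⟨q - 1, by have := hq.pos; omega⟩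
    have h3 : ∀ i ∈ Finset.range t,
        ∏ j ∈ Finset.range q, φ ((x * y ^ j) ^ (i + 1)) ⟨v, hv⟩ = 1 := by
      intro i hi
      have hi' : ¬ q ∣ i + 1 := Nat.not_dvd_of_pos_of_lt (by omega) (by
        have := Finset.mem_range.1 hi; omega)
      have e : ∀ j, φ ((x * y ^ j) ^ (i + 1)) ⟨v, hv⟩ =
          φ (x ^ (i + 1)) (φ ((y ^ (i + 1)) ^ j) ⟨v, hv⟩) := fun j => Subtype.ext (by
        simp only [φ, (hcomm.pow_right j).mul_pow, ← pow_mul, mul_comm j]
        simp [mul_assoc])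
      simp only [e]
      rw [← hφm, horb (y ^ (i + 1)) (pow_mem hy _) (fun h => hi' (by
        have := orderOf_dvd_of_pow_eq_one h
        rwa [orderOf_eq_prime (hp := ⟨hq⟩) hyq hy1] at this))
        (by rw [← pow_mul, mul_comm, pow_mul, hyq, one_pow])]
      exact Subtype.ext (by simp [φ])
    rw [ht, Finset.prod_range_succ', Finset.prod_eq_one (by rw [← ht]; exact h3), one_mul] at h2
    rw [← ht] at h2
    have h4 : (⟨v, hv⟩ : V) ^ q = 1 := by
      rw [← h2]
      simp [φ]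
    have h5 : v ^ q = 1 := congrArg Subtype.val h4
    exact (orderOf_eq_one_iff).1 (Nat.eq_one_of_dvd_coprimes
      ((Nat.coprime_primes hp hq).2 hpq) (orderOf_dvd_of_pow_eq_one (hVel.2 v hv))
      (orderOf_dvd_of_pow_eq_one h5))
  -- the stabiliser of `v₀`
  set S := St v₀ with hS
  have hr₀S : r₀ ∈ S := (hSt _ _).2 ⟨hr₀, hfix⟩
  obtain ⟨u, hu, huW⟩ : ∃ u ∈ V, ∃ r ∈ S, r * u ≠ u * r := by
    by_contra hno
    push Not at hno
    exact hr₀1 (hfaith r₀ hr₀ fun v hv => hno v hv r₀ hr₀S)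
  have hu1 : u ≠ 1 := by
    rintro rfl; obtain ⟨r, -, hr⟩ := huW; simp at hr
  set T := St u with hT
  have hvu : v₀ * u ∈ V := mul_mem hv₀ hu
  have hvu1 : v₀ * u ≠ 1 := by
    intro h
    obtain ⟨r, hr, hru⟩ := huW
    apply hru
    rw [eq_inv_of_mul_eq_one_right h]
    exact (show Commute r v₀ from ((hSt _ _).1 hr).2).inv_right.eq
  have hinv : ∀ s ∈ R, ∀ r ∈ R, ∀ v, s * v = v * s → s * (r * v * r⁻¹) = r * v * r⁻¹ * s := by
    intro s hs r hr v h
    have hc : Commute s r := hRc s hs r hr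
    exact ((hc.mul_right h).mul_right hc.inv_right).eq
  have hsub : St (v₀ * u) ≤ S ⊓ T := by
    intro r hr
    obtain ⟨hrR, hrc⟩ := (hSt _ _).1 hr
    -- `w` is fixed by both stabilisers
    set w := r * v₀ * r⁻¹ * v₀⁻¹ with hw
    have hweq : w = u * (r * u * r⁻¹)⁻¹ := by
      have h1 : r * v₀ * r⁻¹ * (r * u * r⁻¹) = v₀ * u := by
        rw [show r * v₀ * r⁻¹ * (r * u * r⁻¹) = r * (v₀ * u) * r⁻¹ by group, hrc,
          mul_inv_cancel_right]
      have h2 : r * v₀ * r⁻¹ = v₀ * u * (r * u * r⁻¹)⁻¹ := eq_mul_inv_of_mul_eq h1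
      have h3 : u * (r * u * r⁻¹)⁻¹ ∈ V := mul_mem hu (inv_mem (hV.conj_mem u hu r))
      rw [hw, h2, mul_assoc v₀ u, hVc v₀ hv₀ _ h3, mul_inv_cancel_right]
    have hwS : ∀ s ∈ S, s * w = w * s := fun s hs => by
      obtain ⟨hsR, hsc⟩ := (hSt _ _).1 hs
      exact ((show Commute s (r * v₀ * r⁻¹) from hinv s hsR r hrR v₀ hsc).mul_right
        (show Commute s v₀ from hsc).inv_right).eq
    have hwT : ∀ s ∈ T, s * w = w * s := fun s hs => by
      obtain ⟨hsR, hsc⟩ := (hSt _ _).1 hs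
      rw [hweq]
      exact ((show Commute s u from hsc).mul_right
        (show Commute s (r * u * r⁻¹) from hinv s hsR r hrR u hsc).inv_right).eq
    have hw1 : w = 1 := by
      by_contra hw1
      have hwV : w ∈ V := mul_mem (hV.conj_mem v₀ hv₀ r) (inv_mem hv₀)
      have hSw : S = St w := Subgroup.eq_of_le_of_card_ge
        (fun s hs => (hSt _ _).2 ⟨((hSt _ _).1 hs).1, hwS s hs⟩) (hcard w hwV hw1 v₀ hv₀ hv₀1).le
      have hTw : T = St w := Subgroup.eq_of_le_of_card_ge
        (fun s hs => (hSt _ _).2 ⟨((hSt _ _).1 hs).1, hwT s hs⟩) (hcard w hwV hw1 u hu hu1).le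
      obtain ⟨s, hs, hsu⟩ := huW
      rw [hSw, ← hTw] at hs
      exact hsu ((hSt _ _).1 hs).2
    refine ⟨(hSt _ _).2 ⟨hrR, ?_⟩, (hSt _ _).2 ⟨hrR, ?_⟩⟩
    · rw [hw, mul_inv_eq_one, mul_inv_eq_iff_eq_mul] at hw1
      exact hw1
    · rw [hweq, mul_inv_eq_one] at hw1
      rw [eq_mul_inv_iff_mul_eq] at hw1
      exact hw1.symm
  have hSsub : S ≤ T := by
    have h : St (v₀ * u) = S := Subgroup.eq_of_le_of_card_ge (fun r hr => (hsub hr).1)
      (hcard v₀ hv₀ hv₀1 _ hvu hvu1).le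
    intro r hr
    rw [← h] at hr
    exact (hsub hr).2
  obtain ⟨r, hr, hru⟩ := huW
  exact hru ((hSt _ _).1 (hSsub hr)).2

theorem multi_normal_aux (n : ℕ) : ∀ (G : Type u) [Group G] [Finite G], Group.IsSolvable G →
    Nat.card G < n → CyConj G → ∀ q : ℕ, q.Prime → (∀ x : G, orderOf x ≠ q ^ 2) → Multi G q →
      ∃ N : Subgroup G, N.Normal ∧ Cfsg.IsElementaryAbelian q N ∧
        ∀ x : G, (∃ k, orderOf x = q ^ k) → x ∈ N := by
  induction n with
  | zero => intro G _ _ _ h; omega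
  | succ n ih =>
    intro G _ _ hsol hn hC q hq hsq hM
    haveI := Fact.mk hq
    obtain ⟨x, y, hxo, hyo, hxy, hyx⟩ := hM
    have hx1 : x ≠ 1 := fun h => hq.ne_one (by rw [← hxo, h, orderOf_one])
    haveI : Nontrivial G := ⟨⟨x, 1, hx1⟩⟩
    obtain ⟨V, hVmin⟩ := HallSolvable.exists_minNormal (G := G)
    haveI := hVmin.normal
    obtain ⟨p, d, hp, hd, hVc, hVel⟩ := hVmin.card_eq_pow
    haveI := Fact.mk hp
    have hqel : ∀ z : G, (∃ k, orderOf z = q ^ k) → z = 1 ∨ orderOf z = q := by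
      rintro z ⟨k, hk⟩
      match k, hk with
      | 0, hk => exact Or.inl (orderOf_eq_one_iff.1 (by simpa using hk))
      | 1, hk => exact Or.inr (by simpa using hk)
      | k + 2, hk =>
        refine absurd ?_ (hsq (z ^ q ^ k))
        rw [orderOf_pow, hk, Nat.gcd_eq_right (pow_dvd_pow q (by omega)),
          Nat.pow_div (by omega) hq.pos, show k + 2 - k = 2 by omega]
    obtain ⟨v, hv⟩ := exists_prime_orderOf_dvd_card' (G := V) p (by rw [hVc]; exact dvd_pow_self p hd.ne')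
    by_cases hpq : p = q
    · subst hpq
      refine ⟨V, inferInstance, hVel, fun z hz => ?_⟩
      rcases hqel z hz with h | h
      · rw [h]; exact one_mem _
      · exact mem_of_orderOf_eq hC hp hVmin.normal v.2 (by rw [Subgroup.orderOf_coe, hv]) h
    -- the quotient
    let π : G →* G ⧸ V := QuotientGroup.mk' V
    have hker : ∀ a : G, π a = 1 ↔ a ∈ V := fun a => QuotientGroup.eq_one_iff a
    have hlift : ∀ r : ℕ, r.Prime → ∀ (a : G ⧸ V) (k : ℕ), orderOf a = r ^ k →
        ∃ b : G, π b = a ∧ ∃ j, orderOf b = r ^ j := by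
      intro r hr a k hk
      haveI := Fact.mk hr
      obtain ⟨b₀, rfl⟩ := QuotientGroup.mk'_surjective V a
      have h0 : orderOf b₀ ≠ 0 := (orderOf_pos b₀).ne'
      obtain ⟨j, m, hm, hjm⟩ := Nat.exists_eq_pow_mul_and_not_dvd h0 r hr.ne_one
      have hcop : Nat.Coprime m (r ^ k) := Nat.Coprime.pow_right _ (hr.coprime_iff_not_dvd.2 hm).symm
      obtain ⟨s, hs⟩ : ∃ s, (π b₀ ^ m) ^ s = π b₀ := by
        obtain ⟨s, hs⟩ := exists_pow_eq_self_of_coprime (x := π b₀) (n := m) (hk.symm ▸ hcop)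
        exact ⟨s, hs⟩
      refine ⟨(b₀ ^ m) ^ s, by rw [map_pow, map_pow]; exact hs, ?_⟩
      have hd' : orderOf ((b₀ ^ m) ^ s) ∣ r ^ j := by
        apply orderOf_dvd_of_pow_eq_one
        rw [← pow_mul, ← pow_mul, show m * (s * r ^ j) = r ^ j * m * s by ring, ← hjm, pow_mul,
          pow_orderOf_eq_one, one_pow]
      obtain ⟨i, -, hi⟩ := (Nat.dvd_prime_pow hr).1 hd'
      exact ⟨i, hi⟩
    have hVp : ∀ a ∈ V, ∀ k r, r.Prime → r ≠ p → orderOf a = r ^ k → a = 1 := by
      intro a ha k r hr hrp hk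
      refine orderOf_eq_one_iff.1 (Nat.eq_one_of_dvd_coprimes
        (Nat.Coprime.pow_left k ((Nat.coprime_primes hr hp).2 hrp)) (hk ▸ dvd_refl _)
        (orderOf_dvd_of_pow_eq_one (hVel.2 a ha)))
    have hordeq : ∀ r : ℕ, r.Prime → r ≠ p → ∀ b : G, (∃ j, orderOf b = r ^ j) →
        orderOf (π b) = orderOf b := by
      rintro r hr hrp b ⟨j, hj⟩
      refine Nat.dvd_antisymm (orderOf_map_dvd π b) (orderOf_dvd_of_pow_eq_one ?_)
      have hm : b ^ orderOf (π b) ∈ V := (hker _).1 (by rw [map_pow, pow_orderOf_eq_one])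
      obtain ⟨i, -, hi⟩ := (Nat.dvd_prime_pow hr).1 (hj ▸ orderOf_pow_dvd (x := b) (orderOf (π b)))
      exact hVp _ hm i r hr hrp hi
    have hlift' : ∀ r : ℕ, r.Prime → ∀ (a : G ⧸ V) (k : ℕ), orderOf a = r ^ k →
        ∃ b : G, π b = a ∧ orderOf b = r ^ (if r = p ∧ k ≠ 0 then k + 1 else k) ∨
          (r = p ∧ k = 0 ∧ a = 1 ∧ π b = a ∧ b = 1) := by
      intro r hr a k hk
      by_cases hk0 : k = 0
      · subst hk0
        have ha : a = 1 := orderOf_eq_one_iff.1 (by simpa using hk)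
        exact ⟨1, Or.inl ⟨by simp [ha], by simp⟩⟩
      obtain ⟨b, rfl, j, hj⟩ := hlift r hr a k hk
      refine ⟨b, Or.inl ⟨rfl, ?_⟩⟩
      by_cases hrp : r = p
      · subst hrp
        rw [if_pos ⟨rfl, hk0⟩]
        have hm : b ^ r ^ k ∈ V := (hker _).1 (by rw [map_pow, ← hk, pow_orderOf_eq_one])
        have h2 : b ^ r ^ (k + 1) = 1 := by rw [pow_succ, pow_mul]; exact hVel.2 _ hm
        obtain ⟨i, hi, hie⟩ := (Nat.dvd_prime_pow hr).1 (orderOf_dvd_of_pow_eq_one h2)
        rcases eq_or_lt_of_le hi with h3 | h3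
        · rw [hie, h3]
        exfalso
        have h4 : orderOf (π b) ∣ orderOf b := orderOf_map_dvd π b
        rw [hk, hie] at h4
        have h5 : k ≤ i := (Nat.pow_dvd_pow_iff_le_right hr.one_lt).1 h4
        have hik : i = k := by omega
        subst hik
        have h6 : orderOf (b ^ r ^ (i - 1)) = r := by
          rw [orderOf_pow, hie, Nat.gcd_eq_right (pow_dvd_pow r (by omega)),
            Nat.pow_div (by omega) hr.pos, show i - (i - 1) = 1 by omega, pow_one]
        have h7 := mem_of_orderOf_eq hC hr hVmin.normal v.2 (by rw [Subgroup.orderOf_coe, hv]) h6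
        rw [← hker, map_pow] at h7
        have h8 := orderOf_dvd_of_pow_eq_one h7
        rw [hk, Nat.pow_dvd_pow_iff_le_right hr.one_lt] at h8
        omega
      · rw [if_neg (fun h => hrp h.1), ← hordeq r hr hrp b ⟨j, hj⟩, hk]
    have hCq : CyConj (G ⧸ V) := by
      intro r hr a b k ha hb
      obtain ⟨a', ha'⟩ := hlift' r hr a k ha
      obtain ⟨b', hb'⟩ := hlift' r hr b k hb
      rcases ha' with ⟨ha1, ha2⟩ | ⟨-, -, ha1, -, -⟩
      swap
      · subst ha1; exact ⟨1, by simp⟩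
      rcases hb' with ⟨hb1, hb2⟩ | ⟨-, hk0, -, -, -⟩
      swap
      · subst hk0
        rw [pow_zero, orderOf_eq_one_iff] at ha
        exact ⟨1, by simp [ha]⟩
      obtain ⟨g, hg⟩ := hC r hr a' b' _ ha2 hb2
      refine ⟨π g, ?_⟩
      obtain ⟨i, hi⟩ := mem_zpowers_iff.1 hg
      exact mem_zpowers_iff.2 ⟨i, by rw [← ha1, ← hb1, ← map_zpow, hi]; simp⟩
    have hsqq : ∀ a : G ⧸ V, orderOf a ≠ q ^ 2 := by
      intro a ha
      obtain ⟨b, rfl, j, hj⟩ := hlift q hq a 2 ha
      exact hsq b ((hordeq q hq (Ne.symm hpq) b ⟨j, hj⟩).symm.trans ha)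
    have hMq : Multi (G ⧸ V) q := by
      refine ⟨π x, π y, ?_, ?_, hxy.map π, fun h => hyx ?_⟩
      · rw [hordeq q hq (Ne.symm hpq) x ⟨1, by simpa using hxo⟩, hxo]
      · rw [hordeq q hq (Ne.symm hpq) y ⟨1, by simpa using hyo⟩, hyo]
      obtain ⟨i, hi⟩ := mem_zpowers_iff.1 h
      rw [← map_zpow] at hi
      have hm : y * (x ^ i)⁻¹ ∈ V := (hker _).1 (by rw [map_mul, map_inv, ← hi, mul_inv_cancel])
      have hpw : (y * (x ^ i)⁻¹) ^ q = 1 := by
        rw [((hxy.symm).zpow_right i).inv_right.mul_pow, ← hyo, pow_orderOf_eq_one, one_mul, inv_pow,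
          ← zpow_natCast, ← zpow_mul, mul_comm, zpow_mul, zpow_natCast, hyo, ← hxo,
          pow_orderOf_eq_one, one_zpow, inv_one]
      have h1 : y * (x ^ i)⁻¹ = 1 := orderOf_eq_one_iff.1 (Nat.eq_one_of_dvd_coprimes
        ((Nat.coprime_primes hp hq).2 hpq) (orderOf_dvd_of_pow_eq_one (hVel.2 _ hm))
        (orderOf_dvd_of_pow_eq_one hpw))
      rw [mul_inv_eq_one] at h1
      exact h1 ▸ zpow_mem (mem_zpowers x) i
    have hlt : Nat.card (G ⧸ V) < n := by
      have := HallSolvable.card_quotient_lt hVmin.ne_bot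
      omega
    obtain ⟨M, hMn, hMel, hMmem⟩ := ih (G ⧸ V) inferInstance hlt hCq q hq hsqq hMq
    set L := M.comap π with hL
    haveI : L.Normal := hMn.comap π
    obtain ⟨Q⟩ : Nonempty (Sylow q G) := inferInstance
    have hQel : ∀ z ∈ (Q : Subgroup G), ∃ k, orderOf z = q ^ k := fun z hz => by
      obtain ⟨k, hk⟩ := IsPGroup.iff_orderOf.1 Q.isPGroup' ⟨z, hz⟩
      exact ⟨k, by rwa [Subgroup.orderOf_mk] at hk⟩
    have hQL : (Q : Subgroup G) ≤ L := fun z hz => by
      obtain ⟨k, hk⟩ := hQel z hz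
      exact hMmem _ ⟨k, by rw [hordeq q hq (Ne.symm hpq) z ⟨k, hk⟩, hk]⟩
    -- `Q` is elementary abelian
    have hQ1 : ∀ a ∈ (Q : Subgroup G), π a = 1 → a = 1 := fun a ha h => by
      obtain ⟨k, hk⟩ := hQel a ha
      exact hVp a ((hker a).1 h) k q hq (Ne.symm hpq) hk
    have hQc : ∀ a ∈ (Q : Subgroup G), ∀ b ∈ (Q : Subgroup G), a * b = b * a := by
      intro a ha b hb
      have h1 : π a * π b = π b * π a :=
        congrArg Subtype.val (hMel.1.is_comm.comm ⟨π a, hQL ha⟩ ⟨π b, hQL hb⟩)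
      have h2 : π (a * b * (b * a)⁻¹) = 1 := by
        rw [map_mul, map_inv, map_mul, map_mul, h1, mul_inv_cancel]
      exact mul_inv_eq_one.1 (hQ1 _ (mul_mem (mul_mem ha hb) (inv_mem (mul_mem hb ha))) h2)
    have hQpow : ∀ a ∈ (Q : Subgroup G), a ^ q = 1 := fun a ha => by
      rcases hqel a (hQel a ha) with h | h
      · rw [h, one_pow]
      · rw [← h, pow_orderOf_eq_one]
    set C := centralizer (V : Set G) with hCdef
    haveI : C.Normal := by rw [hCdef]; infer_instance
    by_cases hR0 : ∃ z ∈ (Q : Subgroup G), z ∈ C ∧ z ≠ 1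
    · obtain ⟨z₀, hz₀, hz₀C, hz₀1⟩ := hR0
      have hz₀o : orderOf z₀ = q := orderOf_eq_prime (hQpow z₀ hz₀) hz₀1
      have hQC : (Q : Subgroup G) ≤ C := fun a ha => by
        rcases hqel a (hQel a ha) with h | h
        · rw [h]; exact one_mem _
        · exact mem_of_orderOf_eq hC hq inferInstance hz₀C hz₀o h
      -- the `q`-elements of `C ⊓ L` form a normal subgroup
      refine ⟨(Q : Subgroup G), ?_, ⟨⟨⟨fun a b => Subtype.ext (hQc a a.2 b b.2)⟩⟩, hQpow⟩, ?_⟩
      all_goals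
        have hmem : ∀ z, z ∈ C → z ∈ L → z ^ q = 1 → z ∈ (Q : Subgroup G) := by
          intro z hzC hzL hzq
          -- `z = r w` with `r ∈ Q` and `w ∈ V`
          obtain ⟨r, hr, hrz⟩ : ∃ r ∈ (Q : Subgroup G), π r = π z := by
            have hmap : (Q : Subgroup G).map π = M := by
              refine le_antisymm (Subgroup.map_le_iff_le_comap.2 hQL) ?_
              haveI : Finite (G ⧸ V) := inferInstance
              let Q' : Sylow q (G ⧸ V) := Q.mapSurjective (QuotientGroup.mk'_surjective V)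
              have hMp : IsPGroup q M := fun a => ⟨1, Subtype.ext (by
                rw [pow_one]; exact hMel.2 a a.2)⟩
              have h := Q'.is_maximal' hMp (Subgroup.map_le_iff_le_comap.2 hQL)
              exact h.le
            obtain ⟨r, hr, hrz⟩ := (hmap ▸ hzL : π z ∈ (Q : Subgroup G).map π)
            exact ⟨r, hr, hrz⟩
          have hw : r⁻¹ * z ∈ V := (hker _).1 (by rw [map_mul, map_inv, hrz, inv_mul_cancel])
          have hc : Commute r (r⁻¹ * z) := ((mem_centralizer_iff.1 (hQC hr)) _ hw).symm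
          have h1 : (r⁻¹ * z) ^ q = 1 := by
            have h2 := hc.mul_pow q
            rw [mul_inv_cancel_left, hzq, hQpow r hr, one_mul] at h2
            exact h2.symm
          have h3 : r⁻¹ * z = 1 := orderOf_eq_one_iff.1 (Nat.eq_one_of_dvd_coprimes
            ((Nat.coprime_primes hp hq).2 hpq) (orderOf_dvd_of_pow_eq_one (hVel.2 _ hw))
            (orderOf_dvd_of_pow_eq_one h1))
          rwa [inv_mul_eq_one.1 h3] at hr
      · refine ⟨fun a ha g => hmem _ (Subgroup.Normal.conj_mem inferInstance a (hQC ha) g)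
          (Subgroup.Normal.conj_mem inferInstance a (hQL ha) g) ?_⟩
        rw [conj_pow, hQpow a ha, mul_one, mul_inv_cancel]
      · intro z hz
        rcases hqel z hz with h | h
        · rw [h]; exact one_mem _
        · refine hmem z (mem_of_orderOf_eq hC hq inferInstance hz₀C hz₀o h) ?_ (h ▸ pow_orderOf_eq_one z)
          exact hMmem _ ⟨1, by rw [hordeq q hq (Ne.symm hpq) z hz, h, pow_one]⟩
    -- now `Q` acts faithfully on `V`
    push Not at hR0
    exfalso
    haveI := hVmin.normal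
    obtain ⟨Q', hQ'⟩ : ∃ Q' : Sylow q G, zpowers x ⊔ zpowers y ≤ (Q' : Subgroup G) := by
      refine IsPGroup.exists_le_sylow (IsPGroup.to_sup_of_normal_left'
        (IsPGroup.of_card (n := 1) (by rw [Nat.card_zpowers, hxo, pow_one]))
        (IsPGroup.of_card (n := 1) (by rw [Nat.card_zpowers, hyo, pow_one])) ?_)
      intro z hz
      obtain ⟨i, rfl⟩ := mem_zpowers_iff.1 hz
      refine mem_normalizer_iff.2 fun w => ?_
      constructor <;> intro hw
      · obtain ⟨j, rfl⟩ := mem_zpowers_iff.1 hw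
        rw [((hxy.zpow_zpow j i).symm).eq, mul_inv_cancel_right]
        exact zpow_mem (mem_zpowers x) j
      · obtain ⟨j, hj⟩ := mem_zpowers_iff.1 hw
        have h1 : w = (y ^ i)⁻¹ * x ^ j * y ^ i := by rw [hj]; group
        rw [h1, mul_assoc, (hxy.zpow_zpow j i).eq, inv_mul_cancel_left]
        exact zpow_mem (mem_zpowers x) j
    obtain ⟨g, hg⟩ := MulAction.exists_smul_eq G Q' Q
    set x' := g * x * g⁻¹
    set y' := g * y * g⁻¹
    have hmemQ : ∀ z ∈ ({x, y} : Set G), g * z * g⁻¹ ∈ (Q : Subgroup G) := by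
      intro z hz
      rw [← hg, Sylow.coe_subgroup_smul]
      refine Subgroup.smul_mem_pointwise_smul z (MulAut.conj g) _ (hQ' ?_)
      rcases hz with rfl | hz
      · exact mem_sup_left (mem_zpowers _)
      · rw [Set.mem_singleton_iff] at hz
        subst hz
        exact mem_sup_right (mem_zpowers _)
    refine not_faithful hp hq hpq hVmin.normal hVel hVmin.ne_bot hQc
      (hmemQ x (by simp)) (hmemQ y (by simp))
      (by rw [conj_pow, ← hxo, pow_orderOf_eq_one, mul_one, mul_inv_cancel])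
      (by rw [conj_pow, ← hyo, pow_orderOf_eq_one, mul_one, mul_inv_cancel])
      (fun h => hyx ?_) (fun h => hx1 (by simpa using h)) (fun r hr h => ?_) ?_
    · obtain ⟨i, hi⟩ := mem_zpowers_iff.1 h
      rw [conj_zpow, mul_left_inj, mul_right_inj] at hi
      exact hi ▸ zpow_mem (mem_zpowers x) i
    · exact hR0 r hr (mem_centralizer_iff.2 fun w hw => (h w hw).symm)
    · intro a ha b hb ha1 hb1
      obtain ⟨g, hg⟩ := hC p hp a b 1 (by rw [pow_one, orderOf_eq_prime (hVel.2 a ha) ha1])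
        (by rw [pow_one, orderOf_eq_prime (hVel.2 b hb) hb1])
      -- Frattini
      have htop : Subgroup.normalizer ((Q : Subgroup G) : Set G) ⊔ V = ⊤ := by
        have h1 := Sylow.normalizer_sup_eq_top (Q.subtype hQL)
        rw [Sylow.coe_subtype, Subgroup.map_subgroupOf_eq_of_le hQL] at h1
        refine eq_top_iff.2 (h1 ▸ sup_le le_sup_left ?_)
        intro z hz
        obtain ⟨r, hr, hrz⟩ : π z ∈ (Q : Subgroup G).map π := by
          let Q2 : Sylow q (G ⧸ V) := Q.mapSurjective (QuotientGroup.mk'_surjective V)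
          have hMp : IsPGroup q M := fun a => ⟨1, Subtype.ext (by
            rw [pow_one]; exact hMel.2 a a.2)⟩
          exact (Q2.is_maximal' hMp (Subgroup.map_le_iff_le_comap.2 hQL)).le hz
        have hw : r⁻¹ * z ∈ V := (hker _).1 (by rw [map_mul, map_inv, hrz, inv_mul_cancel])
        have := mul_mem (mem_sup_left (S := Subgroup.normalizer ((Q : Subgroup G) : Set G)) (T := V)
          (Subgroup.le_normalizer hr)) (mem_sup_right hw)
        rwa [mul_inv_cancel_left] at this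
      obtain ⟨m, hm, w, hw, hmw⟩ := mem_sup_of_normal_right.1 (htop ▸ mem_top g)
      refine ⟨m, fun r => mem_normalizer_iff.1 hm r, ?_⟩
      have hwa : w * a = a * w :=
        congrArg Subtype.val (hVel.1.is_comm.comm ⟨w, hw⟩ ⟨a, ha⟩)
      have e : g * a * g⁻¹ = m * a * m⁻¹ := by
        rw [← hmw, mul_inv_rev, mul_assoc m w a, hwa]; group
      rwa [e] at hg

theorem multi_normal [Finite G] (hsol : Group.IsSolvable G) (hC : CyConj G) {q : ℕ} (hq : q.Prime)
    (hsq : ∀ x : G, orderOf x ≠ q ^ 2) (hM : Multi G q) :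
    ∃ N : Subgroup G, N.Normal ∧ Cfsg.IsElementaryAbelian q N ∧
      ∀ x : G, (∃ k, orderOf x = q ^ k) → x ∈ N :=
  multi_normal_aux _ G hsol (Nat.lt_succ_self _) hC q hq hsq hM

end Cfsg.Agent.AbelianConjMulti28
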