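import Mathlib
import Cfsg.Prelude.Def_Transfer
import Cfsg.Prelude.Def_Solvable
import Cfsg.Agent.Lib.AbelianConjMulti28
import Cfsg.Agent.Lib.FrobeniusOrderConj
import Cfsg.Agent.Lib.PGroupsCyclic
import Cfsg.Agent.Lib.ComponentsFitting
import Cfsg.Agent.Lib.HallSolvable

/-!
Finite solvable groups in which abelian subgroups of equal order are conjugate: all subgroups of
equal order are conjugate.
-/

set_option autoImplicit false
set_option linter.style.haveILetI false

namespace Cfsg.Agent.AbelianConjBE28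

open Subgroup Cfsg.Agent.AbelianConjMulti28
open scoped Pointwise

universe u

section Four

variable {T : Type*} [Group T]

theorem eq_or_inv_of_four {u w : T} (hu : orderOf u = 4) (hw : orderOf w = 4)
    (h : w ∈ zpowers u) : w = u ∨ w = u⁻¹ := by
  have hfin : IsOfFinOrder u := orderOf_pos_iff.1 (by omega)
  obtain ⟨k, rfl⟩ := hfin.mem_powers_iff_mem_zpowers.2 h
  simp only at hw ⊢
  rw [← pow_mod_orderOf, hu] at hw ⊢
  have h4 : u ^ 4 = 1 := hu ▸ pow_orderOf_eq_one u
  have hk : k % 4 = 0 ∨ k % 4 = 1 ∨ k % 4 = 2 ∨ k % 4 = 3 := by omega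
  rcases hk with e | e | e | e <;> rw [e] at hw ⊢
  · simp at hw
  · exact Or.inl (pow_one u)
  · rw [orderOf_pow' u (by norm_num), hu] at hw
    norm_num at hw
  · exact Or.inr (eq_inv_of_mul_eq_one_left (by rw [← pow_succ, h4]))

/-- A homomorphism which does not separate the elements of order four (up to inversion). -/
theorem trivial_of_four {K : Type*} [Group K] (f : T →* K)
    (htri : ∃ u v : T, orderOf u = 4 ∧ orderOf v = 4 ∧ orderOf (u * v) = 4)
    (hgen : ∀ D : Subgroup T, (∀ t, orderOf t = 4 → t ∈ D) → D = ⊤)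
    (hconj : ∀ t u : T, orderOf t = 4 → orderOf u = 4 → f u = f t ∨ f u = (f t)⁻¹) :
    ∀ t, f t = 1 := by
  obtain ⟨u, v, hu, hv, huv⟩ := htri
  have h4 : f u ^ 4 = 1 := by rw [← map_pow, ← hu, pow_orderOf_eq_one, map_one]
  have hε : f u = 1 := by
    have key : ∀ ε : K, ε ^ 4 = 1 → (ε * ε = ε ∨ ε * ε = ε⁻¹) → ε = 1 := by
      rintro ε h ( h' | h')
      · simpa using h'
      · have h3 : ε ^ 3 = 1 := by
          rw [pow_succ, pow_two, h', inv_mul_cancel]
        rw [pow_succ, h3, one_mul] at h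
        exact h
    have h1 := hconj u v hu hv
    have h2 := hconj u (u * v) hu huv
    rw [map_mul] at h2
    rcases h1 with e | e <;> rw [e] at h2
    · exact key _ h4 h2
    · rw [mul_inv_cancel] at h2
      rcases h2 with h2 | h2
      · exact h2.symm
      · exact inv_eq_one.1 h2.symm
  have hall : ∀ t : T, orderOf t = 4 → t ∈ f.ker := by
    intro t ht
    rw [MonoidHom.mem_ker]
    rcases hconj u t hu ht with e | e <;> rw [e, hε]
    exact inv_one
  intro t
  have := hgen f.ker hall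
  exact MonoidHom.mem_ker.1 (this ▸ mem_top t)

open QuaternionGroup in
/-- Facts about generalised quaternion groups. -/
theorem quat_facts {n : ℕ} (hn : 1 ≤ n) (e : T ≃* QuaternionGroup (2 ^ n)) :
    (∃ u v : T, orderOf u = 4 ∧ orderOf v = 4 ∧ orderOf (u * v) = 4) ∧
      (∀ D : Subgroup T, (∀ t, orderOf t = 4 → t ∈ D) → D = ⊤) ∧
      ¬ ∀ a b : T, a * b = b * a := by
  have ho : ∀ q : QuaternionGroup (2 ^ n), orderOf (e.symm q) = orderOf q := fun q =>
    e.symm.orderOf_eq q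
  refine ⟨?_, ?_, ?_⟩
  · set w : QuaternionGroup (2 ^ n) := a 1 ^ (2 ^ (n - 1)) with hw
    obtain ⟨i, hi⟩ : ∃ i, w = a i := ⟨((2 ^ (n - 1) : ℕ) : ZMod (2 * 2 ^ n)), a_one_pow _⟩
    refine ⟨e.symm (xa 0), e.symm ((xa 0)⁻¹ * w), by rw [ho, orderOf_xa], ?_, ?_⟩
    · rw [ho, hi]
      exact orderOf_xa _
    · rw [← map_mul, ho, mul_inv_cancel_left, hw, orderOf_pow' _ (by positivity), orderOf_a_one,
        ← pow_succ']
      rw [Nat.gcd_eq_right (pow_dvd_pow 2 (by omega)), Nat.pow_div (by omega) two_pos,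
        show n + 1 - (n - 1) = 2 by omega]
      norm_num
  · intro D hD
    rw [eq_top_iff]
    intro t _
    rw [← e.symm_apply_apply t]
    rcases e t with i | i
    · rw [show (a i : QuaternionGroup (2 ^ n)) = xa 0 * xa (i - ((2 ^ n : ℕ) : ZMod (2 * 2 ^ n))) by simp, map_mul]
      exact mul_mem (hD _ (by rw [ho, orderOf_xa])) (hD _ (by rw [ho, orderOf_xa]))
    · exact hD _ (by rw [ho, orderOf_xa])
  · intro h
    have h1 := h (e.symm (xa 0)) (e.symm (a 1))
    rw [← map_mul, ← map_mul] at h1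
    have h2 := e.symm.injective h1
    simp only [xa_mul_a, a_mul_xa, xa.injEq, zero_add, zero_sub] at h2
    have h3 : ((2 : ℕ) : ZMod (2 * 2 ^ n)) = 0 := by
      push_cast
      linear_combination h2
    rw [ZMod.natCast_eq_zero_iff] at h3
    have h4 := Nat.le_of_dvd two_pos h3
    have : 2 ^ 1 ≤ 2 ^ n := Nat.pow_le_pow_right two_pos hn
    omega

end Four

/-- Automorphisms of a cyclic group commute. -/
theorem mulAut_comm_of_isCyclic {N : Type*} [Group N] [IsCyclic N] (σ τ : MulAut N) :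
    Commute σ τ := by
  obtain ⟨a, ha⟩ := MonoidHom.map_cyclic σ.toMonoidHom
  obtain ⟨b, hb⟩ := MonoidHom.map_cyclic τ.toMonoidHom
  refine MulEquiv.ext fun x => ?_
  have ha' : ∀ y, σ y = y ^ a := ha
  have hb' : ∀ y, τ y = y ^ b := hb
  rw [MulAut.mul_apply, MulAut.mul_apply, ha', hb', ha', hb', ← zpow_mul, ← zpow_mul, mul_comm]

/-- The Sylow `2`-subgroup is normal of order `8`. -/
theorem sylow_two_normal {H : Type u} [Group H] [Finite H] (hsol : Group.IsSolvable H)
    (hC : CyConj H) (hodd : ∀ q : ℕ, q.Prime → q ≠ 2 → ∀ P : Subgroup H, IsPGroup q P → IsCyclic P)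
    (hinv : ¬ Multi H 2) (T : Sylow 2 H) {n : ℕ} (hn : 1 ≤ n)
    (e : (T : Subgroup H) ≃* QuaternionGroup (2 ^ n)) : (T : Subgroup H).Normal ∧ n = 1 := by
  obtain ⟨htri, hgen, hnc⟩ := quat_facts hn e
  have hconj : ∀ t u : (T : Subgroup H), orderOf t = 4 → orderOf u = 4 →
      ∃ h : H, h * t * h⁻¹ = u ∨ h * t * h⁻¹ = (u : H)⁻¹ := by
    intro t u ht hu
    rw [← Subgroup.orderOf_coe] at ht hu
    obtain ⟨h, hh⟩ := hC 2 Nat.prime_two (t : H) u 2 (by rw [ht]; norm_num) (by rw [hu]; norm_num)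
    exact ⟨h, eq_or_inv_of_four hu (((MulAut.conj h).orderOf_eq (t : H)).trans ht) hh⟩
  -- `T` lies in the derived subgroup
  have hTD : (T : Subgroup H) ≤ commutator H := by
    have := trivial_of_four (Abelianization.of.comp (T : Subgroup H).subtype) htri hgen
      (fun t u ht hu => by
        obtain ⟨h, hh⟩ := hconj t u ht hu
        simp only [MonoidHom.comp_apply, Subgroup.coe_subtype]
        rcases hh with hh | hh
        · left
          rw [← hh, map_mul, map_mul, map_inv, mul_comm, inv_mul_cancel_left]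
        · right
          rw [← inv_inv (u : H), ← hh, map_inv, map_mul, map_mul, map_inv, mul_comm (_ * _),
            inv_mul_cancel_left])
    intro x hx
    rw [← Abelianization.ker_of]
    exact MonoidHom.mem_ker.2 (this ⟨x, hx⟩)
  -- odd cores are centralised by the derived subgroup
  have hoddc : ∀ q : ℕ, q.Prime → q ≠ 2 →
      Cfsg.pCore q H ≤ centralizer ((T : Subgroup H) : Set H) := by
    intro q hq hq2
    haveI : (Cfsg.pCore q H).Normal := inferInstance
    haveI : IsCyclic (Cfsg.pCore q H) := hodd q hq hq2 _ (ComponentsCores.isPGroup_pCore q)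
    have hker : commutator H ≤ (MulAut.conjNormal (H := Cfsg.pCore q H)).ker := by
      rw [_root_.commutator_def, Subgroup.commutator_le]
      intro g _ h _
      rw [MonoidHom.mem_ker, map_commutatorElement, commutatorElement_eq_one_iff_commute]
      exact mulAut_comm_of_isCyclic _ _
    intro x hx
    rw [mem_centralizer_iff]
    intro t ht
    have h1 : MulAut.conjNormal t = 1 := MonoidHom.mem_ker.1 (hker (hTD ht))
    have h2 := congrArg (fun σ : MulAut (Cfsg.pCore q H) => ((σ ⟨x, hx⟩ : Cfsg.pCore q H) : H)) h1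
    simp only [MulAut.conjNormal_apply, MulAut.one_apply] at h2
    exact (mul_inv_eq_iff_eq_mul.1 h2)
  -- the normality of `T`
  have hnorm : (T : Subgroup H).Normal := by
    haveI : (Cfsg.pCore 2 H).Normal := inferInstance
    have hO : Cfsg.pCore 2 H ≤ (T : Subgroup H) := by
      obtain ⟨Q, hQ⟩ := (ComponentsCores.isPGroup_pCore (G := H) 2).exists_le_sylow
      obtain ⟨g, hg⟩ := MulAction.exists_smul_eq H Q T
      rw [← hg, Sylow.coe_subgroup_smul, ← HallTheorem.conj_smul_normal g (Cfsg.pCore 2 H)]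
      exact FrobeniusOrderConj.conj_smul_mono hQ
    by_cases hc : ∃ c ∈ Cfsg.pCore 2 H, orderOf c = 4
    · obtain ⟨c, hc, hco⟩ := hc
      have hall : ∀ u : (T : Subgroup H), orderOf u = 4 → (u : H) ∈ Cfsg.pCore 2 H := by
        intro u hu
        obtain ⟨h, hh⟩ := hconj ⟨c, hO hc⟩ u (by rw [← Subgroup.orderOf_coe]; exact hco) hu
        have hm : h * c * h⁻¹ ∈ Cfsg.pCore 2 H :=
          Subgroup.Normal.conj_mem inferInstance c hc h
        rcases hh with hh | hh <;> rw [show ((⟨c, hO hc⟩ : (T : Subgroup H)) : H) = c from rfl] at hh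
        · exact hh ▸ hm
        · simpa using inv_mem (hh ▸ hm : (u : H)⁻¹ ∈ Cfsg.pCore 2 H)
      have htop := hgen ((Cfsg.pCore 2 H).subgroupOf T) hall
      rw [le_antisymm (Subgroup.subgroupOf_eq_top.1 htop) hO]
      infer_instance
    · push Not at hc
      exfalso
      have hsq : ∀ x ∈ Cfsg.pCore 2 H, x ^ 2 = 1 := by
        intro x hx
        obtain ⟨k, hk⟩ := IsPGroup.iff_orderOf.1 (ComponentsCores.isPGroup_pCore (G := H) 2) ⟨x, hx⟩
        rw [Subgroup.orderOf_mk] at hk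
        refine orderOf_dvd_iff_pow_eq_one.1 ?_
        rw [hk]
        by_contra hd
        have h2k : 2 ≤ k := by
          by_contra hlt
          exact hd (Nat.pow_dvd_pow 2 (show k ≤ 1 by omega) |>.trans (by norm_num))
        refine hc (x ^ 2 ^ (k - 2)) (pow_mem hx _) ?_
        rw [orderOf_pow' x (by positivity), hk, Nat.gcd_eq_right (pow_dvd_pow 2 (by omega)),
          Nat.pow_div (by omega) two_pos, show k - (k - 2) = 2 by omega]
        norm_num
      have hO2 : Cfsg.pCore 2 H ≤ centralizer ((T : Subgroup H) : Set H) := by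
        intro x hx
        rw [mem_centralizer_iff]
        intro t ht
        by_cases hx1 : x = 1
        · simp [hx1]
        set y := t * x * t⁻¹ with hy
        have hy' : y ∈ Cfsg.pCore 2 H := Subgroup.Normal.conj_mem inferInstance x hx t
        have hy1 : y ≠ 1 := fun h => hx1 (by rwa [hy, mul_inv_eq_one, mul_eq_left] at h)
        have hxo := orderOf_eq_prime (hsq x hx) hx1
        have hyo := orderOf_eq_prime (hsq y hy') hy1
        have hxy : Commute x y := by
          have h2 : (x * y) ^ 2 = 1 := hsq _ (mul_mem hx hy')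
          have hxi : x⁻¹ = x := inv_eq_of_mul_eq_one_right (by rw [← pow_two, hsq x hx])
          have hyi : y⁻¹ = y := inv_eq_of_mul_eq_one_right (by rw [← pow_two, hsq y hy'])
          calc x * y = (x * y)⁻¹ := (inv_eq_of_mul_eq_one_right (by rw [← pow_two, h2])).symm
            _ = y * x := by rw [mul_inv_rev, hxi, hyi]
        have hmem : y ∈ zpowers x := by
          by_contra hn'
          exact hinv ⟨x, y, hxo, hyo, hxy, hn'⟩
        obtain ⟨k, hk⟩ := (isOfFinOrder_of_finite x).mem_powers_iff_mem_zpowers.2 hmem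
        simp only at hk
        rw [← pow_mod_orderOf, hxo] at hk
        rcases Nat.mod_two_eq_zero_or_one k with e | e <;> rw [e] at hk
        · rw [pow_zero] at hk
          exact absurd hk.symm hy1
        · rw [pow_one, hy] at hk
          exact (eq_mul_inv_iff_mul_eq.1 hk).symm
      have hF : Cfsg.fittingSubgroup H ≤ centralizer ((T : Subgroup H) : Set H) := by
        rw [ComponentsFitting.fittingSubgroup_eq_iSup]
        refine iSup_le fun p => ?_
        by_cases hp : (p : ℕ) = 2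
        · rw [hp]; exact hO2
        · exact hoddc p (Nat.prime_of_mem_primeFactors p.2) hp
      have hTC : (T : Subgroup H) ≤ centralizer (Cfsg.fittingSubgroup H : Set H) :=
        le_centralizer_iff.1 hF
      have hTF : (T : Subgroup H) ≤ Cfsg.fittingSubgroup H :=
        hTC.trans HallSolvable.centralizer_fitting_le
      exact hnc fun a b => Subtype.ext (mem_centralizer_iff.1 (hF (hTF b.2)) a a.2)
  refine ⟨hnorm, ?_⟩
  -- the cyclic subgroup of index two would be invariant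
  by_contra hne
  have hn2 : 2 ≤ n := by omega
  haveI := hnorm
  let φ : H →* MulAut (T : Subgroup H) := MulAut.conjNormal
  set s := e.symm (QuaternionGroup.a 1 ^ 2 ^ (n - 1)) with hs
  set r := e.symm (QuaternionGroup.xa 0) with hr
  have hso : orderOf s = 4 := by
    rw [hs, e.symm.orderOf_eq, orderOf_pow' _ (by positivity), QuaternionGroup.orderOf_a_one,
      ← pow_succ', Nat.gcd_eq_right (pow_dvd_pow 2 (by omega)), Nat.pow_div (by omega) two_pos,
      show n + 1 - (n - 1) = 2 by omega]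
    norm_num
  have hro : orderOf r = 4 := by rw [hr, e.symm.orderOf_eq, QuaternionGroup.orderOf_xa]
  obtain ⟨h, hh⟩ := hconj s r hso hro
  let ψ : QuaternionGroup (2 ^ n) ≃* QuaternionGroup (2 ^ n) := (e.symm.trans (φ h)).trans e
  have hψ : ψ (QuaternionGroup.a 1 ^ 2 ^ (n - 1)) = QuaternionGroup.xa 0 ∨
      ψ (QuaternionGroup.a 1 ^ 2 ^ (n - 1)) = (QuaternionGroup.xa 0)⁻¹ := by
    have hφ : φ h s = r ∨ φ h s = r⁻¹ := by
      rcases hh with hh | hh
      · exact Or.inl (Subtype.ext (by simpa [φ] using hh))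
      · exact Or.inr (Subtype.ext (by simpa [φ] using hh))
    show e (φ h (e.symm _)) = _ ∨ e (φ h (e.symm _)) = _
    rw [← hs]
    rcases hφ with h1 | h1
    · exact Or.inl (by rw [h1, hr, e.apply_symm_apply])
    · exact Or.inr (by rw [h1, map_inv, hr, e.apply_symm_apply])
  rw [map_pow] at hψ
  cases hq : ψ (QuaternionGroup.a 1) with
  | a i =>
    have hpw : ∀ k : ℕ, ∃ j, (QuaternionGroup.a i : QuaternionGroup (2 ^ n)) ^ k =
        QuaternionGroup.a j := by
      intro k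
      induction k with
      | zero => exact ⟨0, by simp⟩
      | succ k ih =>
        obtain ⟨j, hj⟩ := ih
        exact ⟨j + i, by rw [pow_succ, hj, QuaternionGroup.a_mul_a]⟩
    obtain ⟨j, hj⟩ := hpw (2 ^ (n - 1))
    rw [hq, hj] at hψ
    rcases hψ with h1 | h1
    · simp at h1
    · have h2 : (QuaternionGroup.a j : QuaternionGroup (2 ^ n)) =
          QuaternionGroup.xa (((2 ^ n : ℕ) : ZMod (2 * 2 ^ n)) + 0) := h1
      simp at h2
  | xa i =>
    have h1 := ψ.orderOf_eq (QuaternionGroup.a 1)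
    rw [hq, QuaternionGroup.orderOf_xa, QuaternionGroup.orderOf_a_one] at h1
    have : 2 ^ 2 ≤ 2 ^ n := Nat.pow_le_pow_right two_pos hn2
    omega

section Main

variable {G : Type u} [Group G]

/-- Abelian subgroups of equal order are conjugate. -/
def ConjAb (G : Type u) [Group G] : Prop :=
  ∀ A B : Subgroup G, IsMulCommutative A → IsMulCommutative B → Nat.card A = Nat.card B →
    ∃ g : G, MulAut.conj g • A = B

theorem isMulCommutative_of_le_centralizer {A : Subgroup G} (h : A ≤ centralizer (A : Set G)) :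
    IsMulCommutative A :=
  ⟨⟨fun a b => Subtype.ext (mem_centralizer_iff.1 (h b.2) a a.2)⟩⟩

theorem commutative_zpowers (x : G) : IsMulCommutative (zpowers x) :=
  ⟨⟨fun a b => Subtype.ext (by
    obtain ⟨i, hi⟩ := mem_zpowers_iff.1 a.2
    obtain ⟨j, hj⟩ := mem_zpowers_iff.1 b.2
    show (a : G) * b = b * a
    rw [← hi, ← hj, ← zpow_add, ← zpow_add, add_comm])⟩⟩

theorem cyConj (hB : ConjAb G) : CyConj G := by
  intro r _ x y k hx hy
  obtain ⟨g, hg⟩ := hB (zpowers x) (zpowers y) (commutative_zpowers x) (commutative_zpowers y)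
    (by rw [Nat.card_zpowers, Nat.card_zpowers, hx, hy])
  refine ⟨g, ?_⟩
  rw [← hg]
  exact Subgroup.smul_mem_pointwise_smul x (MulAut.conj g) _ (mem_zpowers x)

theorem multi_no_sq [Finite G] (hB : ConjAb G) {q : ℕ} (hq : q.Prime) (hM : Multi G q) (z : G) :
    orderOf z ≠ q ^ 2 := by
  intro hz
  haveI := Fact.mk hq
  obtain ⟨x, y, hxo, hyo, hxy, hyx⟩ := hM
  set C := closure ({x, y} : Set G) with hC
  have hCc : C ≤ centralizer (C : Set G) := by
    rw [hC, centralizer_closure, closure_le]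
    intro a ha
    rw [SetLike.mem_coe, mem_centralizer_iff]
    intro b hb
    rcases ha with rfl | rfl <;> rcases hb with rfl | rfl <;> first | rfl | exact hxy.eq | exact hxy.eq.symm
  have hCe : ∀ a ∈ C, a ^ q = 1 := by
    intro a ha
    induction ha using closure_induction with
    | mem b hb =>
      rcases hb with rfl | rfl
      · rw [← hxo, pow_orderOf_eq_one]
      · rw [← hyo, pow_orderOf_eq_one]
    | one => exact one_pow q
    | mul a b ha hb iha ihb =>
      rw [(show Commute a b from mem_centralizer_iff.1 (hCc hb) a ha).mul_pow, iha, ihb, one_mul]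
    | inv a _ ih => rw [inv_pow, ih, inv_one]
  have hCp : IsPGroup q C := fun a => ⟨1, Subtype.ext (by rw [pow_one]; exact hCe a a.2)⟩
  obtain ⟨k, hk⟩ := IsPGroup.iff_card.1 hCp
  have hk2 : 2 ≤ k := by
    by_contra hlt
    have hle : C ≤ zpowers x := by
      refine (Subgroup.eq_of_le_of_card_ge (zpowers_le.2 (subset_closure (by simp))) ?_).ge
      rw [hk, Nat.card_zpowers, hxo]
      exact (Nat.pow_le_pow_right hq.pos (show k ≤ 1 by omega)).trans (pow_one q).le
    exact hyx (hle (subset_closure (by simp)))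
  obtain ⟨U, hU⟩ := Sylow.exists_subgroup_card_pow_prime (G := C) q (n := 2)
    (by rw [hk]; exact pow_dvd_pow q hk2)
  set U' := U.map C.subtype with hU'
  have hUle : U' ≤ C := map_subtype_le U
  obtain ⟨g, hg⟩ := hB U' (zpowers z)
    (isMulCommutative_of_le_centralizer (hUle.trans (hCc.trans (centralizer_le hUle))))
    (commutative_zpowers z)
    (by rw [hU', Subgroup.card_map_of_injective C.subtype_injective, hU, Nat.card_zpowers, hz])
  obtain ⟨w, hw, hwz⟩ : z ∈ MulAut.conj g • U' := hg ▸ mem_zpowers z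
  have h1 : z ^ q = 1 := by
    rw [← hwz]
    show ((MulAut.conj g).toMonoidHom w) ^ q = 1
    rw [← map_pow, hCe w (hUle hw), map_one]
  have h2 := Nat.le_of_dvd hq.pos (hz ▸ orderOf_dvd_of_pow_eq_one h1)
  nlinarith [hq.two_le]

/-- A subgroup is determined by its elements of prime power order. -/
theorem le_of_elements [Finite G] {K D : Subgroup G}
    (h : ∀ x ∈ K, ∀ q : ℕ, q.Prime → (∃ k, orderOf x = q ^ k) → x ∈ D) : K ≤ D := by
  rw [← subgroupOf_eq_top, ← card_eq_iff_eq_top]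
  refine Nat.dvd_antisymm (card_subgroup_dvd_card _) ?_
  refine (Nat.dvd_iff_prime_pow_dvd_dvd _ _).mpr fun q k hq hd => ?_
  haveI := Fact.mk hq
  obtain ⟨P⟩ : Nonempty (Sylow q K) := inferInstance
  refine (P.pow_dvd_card_of_pow_dvd_card hd).trans (card_dvd_of_le fun x hx => ?_)
  obtain ⟨j, hj⟩ := IsPGroup.iff_orderOf.1 P.isPGroup' ⟨x, hx⟩
  exact h x x.2 q hq ⟨j, by rw [← hj, Subgroup.orderOf_mk, Subgroup.orderOf_coe]⟩

/-- Without commuting independent elements of order `q`, a `q`-subgroup has a unique subgroup of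
order `q`. -/
theorem unique_order [Finite G] {q : ℕ} (hq : q.Prime) (hM : ¬ Multi G q) {P : Subgroup G}
    (hP : IsPGroup q P) {x y : G} (hx : x ∈ P) (hy : y ∈ P) (hxo : orderOf x = q)
    (hyo : orderOf y = q) : zpowers x = zpowers y := by
  haveI := Fact.mk hq
  haveI : Nontrivial P := ⟨⟨⟨x, hx⟩, 1, fun h => hq.ne_one (by
    rw [← hxo, show x = 1 from congrArg Subtype.val h, orderOf_one])⟩⟩
  haveI := hP.center_nontrivial
  obtain ⟨z, hz⟩ := exists_prime_orderOf_dvd_card' (G := center P) q (by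
    obtain ⟨k, hk⟩ := IsPGroup.iff_card.1 (hP.to_subgroup (center P))
    rw [hk]
    refine dvd_pow_self q fun h0 => ?_
    rw [h0, pow_zero] at hk
    exact (Finite.one_lt_card (α := center P)).ne' hk)
  have key : ∀ w ∈ P, orderOf w = q → zpowers w = zpowers ((z : P) : G) := by
    intro w hw hwo
    have hc : Commute w ((z : P) : G) :=
      congrArg Subtype.val (mem_center_iff.1 z.2 ⟨w, hw⟩)
    have hzo : orderOf ((z : P) : G) = q := by rw [Subgroup.orderOf_coe, Subgroup.orderOf_coe, hz]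
    have hmem : ((z : P) : G) ∈ zpowers w := by
      by_contra hn
      exact hM ⟨w, _, hwo, hzo, hc, hn⟩
    exact (Subgroup.eq_of_le_of_card_ge (zpowers_le.2 hmem)
      (by rw [Nat.card_zpowers, Nat.card_zpowers, hwo, hzo])).symm
  rw [key x hx hxo, key y hy hyo]

theorem cyclic_or_quat [Finite G] {q : ℕ} (hq : q.Prime) (hM : ¬ Multi G q) {P : Subgroup G}
    (hP : IsPGroup q P) :
    IsCyclic P ∨ (q = 2 ∧ ∃ n : ℕ, 1 ≤ n ∧ Nonempty (P ≃* QuaternionGroup (2 ^ n))) := by
  haveI := Fact.mk hq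
  by_cases hc : IsCyclic P
  · exact Or.inl hc
  refine Or.inr ?_
  have huniq : ∀ A B : Subgroup P, Nat.card A = q → Nat.card B = q → A = B := by
    intro A B hA hB
    apply Subgroup.map_injective P.subtype_injective
    have gen : ∀ C : Subgroup P, Nat.card C = q →
        ∃ x ∈ P, orderOf x = q ∧ C.map P.subtype = zpowers x := by
      intro C hC
      obtain ⟨x, hx⟩ := exists_prime_orderOf_dvd_card' (G := C) q (dvd_of_eq hC.symm)
      refine ⟨((x : P) : G), (x : P).2, by rw [Subgroup.orderOf_coe, Subgroup.orderOf_coe, hx], ?_⟩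
      refine (Subgroup.eq_of_le_of_card_ge (zpowers_le.2 (show ((x : P) : G) ∈ C.map P.subtype from ⟨x, x.2, rfl⟩)) ?_).symm
      rw [Subgroup.card_map_of_injective P.subtype_injective, hC, Nat.card_zpowers,
        Subgroup.orderOf_coe, Subgroup.orderOf_coe, hx]
    obtain ⟨x, hx, hxo, hxe⟩ := gen A hA
    obtain ⟨y, hy, hyo, hye⟩ := gen B hB
    rw [hxe, hye, unique_order hq hM hP hx hy hxo hyo]
  rcases PGroupsCyclic.isCyclic_or_quaternion hP huniq with h | ⟨hq2, n, ⟨e⟩⟩
  · exact absurd h hc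
  refine ⟨hq2, n, Nat.one_le_iff_ne_zero.2 fun h0 => hc ?_, ⟨e⟩⟩
  subst h0
  haveI : IsCyclic (QuaternionGroup (2 ^ 0)) := by
    rw [pow_zero]; exact QuaternionGroup.quaternionGroup_one_isCyclic
  exact isCyclic_of_injective e.toMonoidHom e.injective

/-- The abelian normal Hall subgroup with a complement. -/
theorem exists_setting [Finite G] (hsol : Group.IsSolvable G) (hB : ConjAb G) :
    ∃ E H : Subgroup G, E.Normal ∧ IsMulCommutative E ∧
      Cfsg.IsPiHall {q | Multi G q} E ∧ Cfsg.IsPiHall {q | Multi G q}ᶜ H ∧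
      (∀ x ∈ E, x ∈ H → x = 1) ∧ ∀ g : G, ∃ e ∈ E, ∃ h ∈ H, g = e * h := by
  haveI := hsol
  obtain ⟨E, hE⟩ := HallTheorem.exists_isPiHall_of_solvable (G := G) {q | Multi G q}
  obtain ⟨H, hH⟩ := HallTheorem.exists_isPiHall_of_solvable (G := G) {q | Multi G q}ᶜ
  have hN : ∀ q : ℕ, q.Prime → Multi G q → ∃ N : Subgroup G, N.Normal ∧
      Cfsg.IsElementaryAbelian q N ∧ (∀ x : G, (∃ k, orderOf x = q ^ k) → x ∈ N) ∧ N ≤ E := by
    intro q hq hM
    haveI := Fact.mk hq
    obtain ⟨N, hNn, hNel, hNmem⟩ := multi_normal hsol (cyConj hB) hq (multi_no_sq hB hq hM) hM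
    haveI := hNn
    refine ⟨N, hNn, hNel, hNmem, ?_⟩
    obtain ⟨k, hk⟩ := IsPGroup.iff_card.1
      (show IsPGroup q N from fun a => ⟨1, Subtype.ext (by rw [pow_one]; exact hNel.2 a a.2)⟩)
    obtain ⟨g, hg⟩ := HallTheorem.le_conj_isPiHall (HallSolvable.isPiSeparable_of_solvable _)
      (HallTheorem.complSolvable_of_solvable _) (U := N) (H := E)
      (fun r hr hd => by
        rw [hk] at hd
        exact ((Nat.prime_dvd_prime_iff_eq hr hq).1 (hr.dvd_of_dvd_pow hd)).symm ▸ hM) hE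
    have h2 := FrobeniusOrderConj.conj_smul_mono (g := g⁻¹) hg
    rwa [HallTheorem.conj_smul_normal, smul_smul, ← map_mul, inv_mul_cancel, map_one, one_smul] at h2
  have hmul : ∀ (x : G) (C : Subgroup G), x ∈ C → Nat.card C = Nat.card E → ∀ q : ℕ, q.Prime →
      (∃ k, orderOf x = q ^ k) → x = 1 ∨ Multi G q := by
    intro x C hx hc q hq ⟨k, hk⟩
    rcases Nat.eq_zero_or_pos k with h0 | h0
    · exact Or.inl (orderOf_eq_one_iff.1 (by rw [hk, h0, pow_zero]))
    · exact Or.inr (hE.1 q hq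
        (hc ▸ ((dvd_pow_self q h0.ne').trans (hk ▸ Subgroup.orderOf_dvd_natCard C hx))))
  have hEn : E.Normal := by
    refine ⟨fun a ha g => ?_⟩
    have hle : MulAut.conj g • E ≤ E := le_of_elements fun x hx q hq hxq => by
      rcases hmul x _ hx (HallTheorem.card_conj_smul g E) q hq hxq with h | h
      · rw [h]; exact one_mem _
      · obtain ⟨N, -, -, hmem, hle⟩ := hN q hq h
        exact hle (hmem x hxq)
    exact hle (Subgroup.smul_mem_pointwise_smul a (MulAut.conj g) E ha)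
  have hEc : E ≤ centralizer (E : Set G) := le_of_elements fun x hx q hq hxq => by
    rcases hmul x E hx rfl q hq hxq with h | h
    · rw [h]; exact one_mem _
    obtain ⟨N, hNn, hNel, hmem, -⟩ := hN q hq h
    refine le_centralizer_iff.1 (?_ : E ≤ centralizer (N : Set G)) (hmem x hxq)
    refine le_of_elements fun y hy r hr hyr => ?_
    rcases hmul y E hy rfl r hr hyr with h' | h'
    · rw [h']; exact one_mem _
    rw [mem_centralizer_iff]
    intro a ha
    by_cases hqr : q = r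
    · subst hqr
      exact congrArg Subtype.val (hNel.1.is_comm.comm ⟨a, ha⟩ ⟨y, hmem y hyr⟩)
    obtain ⟨N', hN'n, hN'el, hmem', -⟩ := hN r hr h'
    haveI := Fact.mk hq
    haveI := Fact.mk hr
    exact (commute_of_normal_of_disjoint _ _ hNn hN'n (IsPGroup.disjoint_of_ne q r hqr _ _
      (fun a => ⟨1, Subtype.ext (by rw [pow_one]; exact hNel.2 a a.2)⟩)
      (fun a => ⟨1, Subtype.ext (by rw [pow_one]; exact hN'el.2 a a.2)⟩)) a y ha (hmem' y hyr)).eq
  have hdis : E ⊓ H = ⊥ := by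
    rw [← card_eq_one, Nat.eq_one_iff_not_exists_prime_dvd]
    intro q hq hd
    exact hH.1 q hq (hd.trans (card_dvd_of_le inf_le_right))
      (hE.1 q hq (hd.trans (card_dvd_of_le inf_le_left)))
  have hsup : E ⊔ H = ⊤ := by
    rw [← index_eq_one, Nat.eq_one_iff_not_exists_prime_dvd]
    intro q hq hd
    by_cases hM : Multi G q
    · exact hE.2 q hq hM (hd.trans (index_dvd_of_le le_sup_left))
    · exact hH.2 q hq hM (hd.trans (index_dvd_of_le le_sup_right))
  refine ⟨E, H, hEn, isMulCommutative_of_le_centralizer hEc, hE, hH, fun x hx hx' => ?_, fun g => ?_⟩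
  · exact mem_bot.1 (hdis ▸ mem_inf.2 ⟨hx, hx'⟩)
  · haveI := hEn
    obtain ⟨e, he, h, hh, rfl⟩ := mem_sup_of_normal_left.1 (hsup ▸ mem_top g)
    exact ⟨e, he, h, hh, rfl⟩

theorem card_sup_of_commute [Finite G] {X Z : Subgroup G} (hc : ∀ x ∈ X, ∀ z ∈ Z, x * z = z * x)
    (hd : ∀ x ∈ X, x ∈ Z → x = 1) :
    Nat.card ↥(X ⊔ Z) = Nat.card X * Nat.card Z ∧
      ∀ w ∈ X ⊔ Z, ∃ x ∈ X, ∃ z ∈ Z, w = x * z := by
  have hcm : ∀ (x : X) (z : Z), Commute (X.subtype x) (Z.subtype z) := fun x z => hc x x.2 z z.2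
  set f := X.subtype.noncommCoprod Z.subtype hcm with hf
  have hr : f.range = X ⊔ Z := by
    rw [hf, MonoidHom.noncommCoprod_range, Subgroup.range_subtype, Subgroup.range_subtype]
  have hfa : ∀ a : ↥X × ↥Z, f a = (a.1 : G) * (a.2 : G) := fun a => rfl
  refine ⟨?_, fun w hw => ?_⟩
  · rw [← hr, ← Nat.card_prod]
    refine (Nat.card_congr (MonoidHom.ofInjective ?_).toEquiv).symm
    rw [injective_iff_map_eq_one]
    rintro ⟨x, z⟩ h
    rw [hfa] at h
    have hx : (x : G) = 1 := hd x x.2 (eq_inv_of_mul_eq_one_left h ▸ inv_mem z.2)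
    rw [hx, one_mul] at h
    exact Prod.ext (Subtype.ext hx) (Subtype.ext h)
  · rw [← hr] at hw
    obtain ⟨a, rfl⟩ := hw
    exact ⟨a.1, a.1.2, a.2, a.2.2, hfa a⟩

theorem conj_mem_proj {E H : Subgroup G} (hEn : E.Normal) (hdis : ∀ x ∈ E, x ∈ H → x = 1)
    {e h x : G} (he : e ∈ E) (hh : h ∈ H) (hx : x ∈ H) (hm : e * h * x * (e * h)⁻¹ ∈ H) :
    e * h * x * (e * h)⁻¹ = h * x * h⁻¹ := by
  set u := h * x * h⁻¹ with hu
  have huH : u ∈ H := mul_mem (mul_mem hh hx) (inv_mem hh)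
  have h1 : e * h * x * (e * h)⁻¹ = e * u * e⁻¹ := by rw [hu]; group
  rw [h1] at hm ⊢
  have h2 : e * u * e⁻¹ * u⁻¹ ∈ E := by
    have h3 := mul_mem he (hEn.conj_mem _ (inv_mem he) u)
    rwa [show e * (u * e⁻¹ * u⁻¹) = e * u * e⁻¹ * u⁻¹ by group] at h3
  exact mul_inv_eq_one.1 (hdis _ h2 (mul_mem hm (inv_mem huH)))

theorem conj_eq_self {E : Subgroup G} (hEc : IsMulCommutative E) {e y : G} (he : e ∈ E) (hy : y ∈ E) :
    e * y * e⁻¹ = y := by
  rw [show e * y = y * e from congrArg Subtype.val (hEc.is_comm.comm ⟨e, he⟩ ⟨y, hy⟩),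
    mul_inv_cancel_right]

/-- An automorphism of an elementary abelian group which fixes every cyclic subgroup is a power map. -/
theorem exists_power_map {P : Type*} [Group P] [Nontrivial P] {q : ℕ} (hq : q.Prime)
    (hc : ∀ a b : P, a * b = b * a) (he : ∀ a : P, a ^ q = 1) (φ : MulAut P)
    (hφ : ∀ x, φ x ∈ zpowers x) : ∃ a : ℤ, ∀ x, φ x = x ^ a := by
  haveI := Fact.mk hq
  obtain ⟨x₀, hx₀⟩ := exists_ne (1 : P)
  obtain ⟨a, ha⟩ := mem_zpowers_iff.1 (hφ x₀)
  refine ⟨a, fun y => ?_⟩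
  by_cases hy : y ∈ zpowers x₀
  · obtain ⟨i, rfl⟩ := mem_zpowers_iff.1 hy
    rw [map_zpow, ← ha, ← zpow_mul, ← zpow_mul, mul_comm]
  obtain ⟨b, hb⟩ := mem_zpowers_iff.1 (hφ y)
  obtain ⟨c, hc'⟩ := mem_zpowers_iff.1 (hφ (x₀ * y))
  have hy1 : y ≠ 1 := fun h => hy (h ▸ one_mem _)
  rw [map_mul, ← ha, ← hb, (show Commute x₀ y from hc x₀ y).mul_zpow] at hc'
  have h1 : x₀ ^ (a - c) = y ^ (c - b) := by
    have h2 : x₀ ^ a = x₀ ^ c * (y ^ c * (y ^ b)⁻¹) := by
      rw [← mul_assoc, hc', mul_inv_cancel_right]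
    rw [zpow_sub, zpow_sub, h2, hc (x₀ ^ c), mul_inv_cancel_right]
  by_cases h0 : x₀ ^ (a - c) = 1
  · have hxo := orderOf_eq_prime (he x₀) hx₀
    have hyo := orderOf_eq_prime (he y) hy1
    have d1 := orderOf_dvd_iff_zpow_eq_one.2 h0
    have d2 := orderOf_dvd_iff_zpow_eq_one.2 (h1.symm.trans h0)
    rw [hxo] at d1
    rw [hyo] at d2
    have d3 : (orderOf y : ℤ) ∣ a - b := by
      rw [hyo, show a - b = (a - c) + (c - b) by ring]; exact dvd_add d1 d2
    rw [← hb]
    exact ((PGroupsCyclic.zpow_eq_iff_dvd y a b).2 d3).symm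
  · exfalso
    have hzo := orderOf_eq_prime (he (y ^ (c - b))) (fun h => h0 (h1.trans h))
    have hyo := orderOf_eq_prime (he y) hy1
    haveI : Finite (zpowers y) := Nat.finite_of_card_ne_zero (by
      rw [Nat.card_zpowers, hyo]; exact hq.ne_zero)
    have h2 : zpowers (y ^ (c - b)) = zpowers y :=
      Subgroup.eq_of_le_of_card_ge (zpowers_le.2 (zpow_mem (mem_zpowers y) _))
        (by rw [Nat.card_zpowers, Nat.card_zpowers, hzo, hyo])
    apply hy
    have h3 : y ∈ zpowers (y ^ (c - b)) := h2 ▸ mem_zpowers y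
    exact zpowers_le.2 (h1 ▸ zpow_mem (mem_zpowers x₀) (a - c)) h3

/-- If the quaternion group `T` normalises a subgroup meeting `P` properly, it centralises `P`. -/
theorem centralise_of_invariant [Finite G] (hB : ConjAb G) {E H : Subgroup G}
    (hEc : IsMulCommutative E) (hdec : ∀ g : G, ∃ e ∈ E, ∃ h ∈ H, g = e * h)
    {q : ℕ} (hq : q.Prime) {P : Subgroup G} (hPn : P.Normal) (hPE : P ≤ E)
    (hPel : Cfsg.IsElementaryAbelian q P) {T : Subgroup G}
    (hTn : ∀ h ∈ H, ∀ t ∈ T, h * t * h⁻¹ ∈ T)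
    (htri : ∃ u v : T, orderOf u = 4 ∧ orderOf v = 4 ∧ orderOf (u * v) = 4)
    (hgen : ∀ D : Subgroup T, (∀ t, orderOf t = 4 → t ∈ D) → D = ⊤)
    (hconj : ∀ t u : T, orderOf t = 4 → orderOf u = 4 →
      ∃ h ∈ H, h * t * h⁻¹ = u ∨ h * t * h⁻¹ = (u : G)⁻¹)
    {X : Subgroup G} (hTX : ∀ t ∈ T, ∀ x ∈ X, t * x * t⁻¹ ∈ X) (h1 : X ⊓ P ≠ ⊥) (h2 : X ⊓ P ≠ P) :
    ∀ t ∈ T, ∀ x ∈ P, t * x = x * t := by
  haveI := Fact.mk hq
  haveI := hPn
  have hPc : ∀ a ∈ P, ∀ b ∈ P, a * b = b * a := fun a ha b hb =>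
    congrArg Subtype.val (hPel.1.is_comm.comm ⟨a, ha⟩ ⟨b, hb⟩)
  have hcomm : ∀ U : Subgroup G, U ≤ P → IsMulCommutative U := fun U hU =>
    ⟨⟨fun a b => Subtype.ext (hPc a (hU a.2) b (hU b.2))⟩⟩
  obtain ⟨k, hk⟩ := IsPGroup.iff_card.1 (show IsPGroup q ↥(X ⊓ P) from
    fun a => ⟨1, Subtype.ext (by rw [pow_one]; exact hPel.2 a a.2.2)⟩)
  have hk0 : k ≠ 0 := fun h => h1 (card_eq_one.1 (by rw [hk, h, pow_zero]))
  have hkP : q ^ k < Nat.card P := by
    rw [← hk]
    by_contra hle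
    exact h2 (Subgroup.eq_of_le_of_card_ge inf_le_right (not_lt.1 hle))
  have hdown : ∀ i, ∀ U : Subgroup G, U ≤ P → Nat.card U = q ^ (k - i) →
      ∀ t ∈ T, ∀ u ∈ U, t * u * t⁻¹ ∈ U := by
    intro i
    induction i with
    | zero =>
      intro U hU hc t ht u hu
      obtain ⟨g, hg⟩ := hB (X ⊓ P) U (hcomm _ inf_le_right) (hcomm U hU) (by rw [hk, hc, Nat.sub_zero])
      obtain ⟨e, he, h, hh, rfl⟩ := hdec g
      rw [← hg] at hu ⊢
      obtain ⟨y, hy, hyu⟩ := hu
      have hyu' : u = e * h * y * (e * h)⁻¹ := hyu.symm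
      have hyP : y ∈ P := hy.2
      have hconjh : ∀ z ∈ P, e * h * z * (e * h)⁻¹ = h * z * h⁻¹ := fun z hz => by
        rw [show e * h * z * (e * h)⁻¹ = e * (h * z * h⁻¹) * e⁻¹ by group,
          conj_eq_self hEc he (hPE (hPn.conj_mem z hz h))]
      have ht' : h⁻¹ * t * h ∈ T := by simpa using hTn h⁻¹ (inv_mem hh) t ht
      set z := h⁻¹ * t * h * y * (h⁻¹ * t * h)⁻¹ with hz
      have hzm : z ∈ X ⊓ P := ⟨hTX _ ht' y hy.1, hPn.conj_mem y hyP _⟩
      have h3 := Subgroup.smul_mem_pointwise_smul z (MulAut.conj (e * h)) (X ⊓ P) hzm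
      rw [MulAut.smul_def, MulAut.conj_apply, hconjh z hzm.2] at h3
      rw [hyu', hconjh y hyP]
      rwa [hz, show h * (h⁻¹ * t * h * y * (h⁻¹ * t * h)⁻¹) * h⁻¹ = t * (h * y * h⁻¹) * t⁻¹ by group]
        at h3
    | succ i ih =>
      intro U hU hc t ht u hu
      by_cases hik : k ≤ i
      · refine ih U hU ?_ t ht u hu
        rw [hc, show k - (i + 1) = k - i by omega]
      have hpow : q ^ (k - i) = q ^ (k - (i + 1)) * q := by
        rw [← pow_succ, show k - (i + 1) + 1 = k - i by omega]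
      have hext : ∀ a ∈ P, a ∉ U → Nat.card ↥(U ⊔ zpowers a) = q ^ (k - i) ∧ U ⊔ zpowers a ≤ P := by
        intro a ha hau
        have ha1 : a ≠ 1 := fun h => hau (h ▸ one_mem _)
        have hao := orderOf_eq_prime (hPel.2 a ha) ha1
        refine ⟨?_, sup_le hU (zpowers_le.2 ha)⟩
        rw [(card_sup_of_commute (fun x hx z hz => hPc x (hU hx) z (zpowers_le.2 ha hz))
          fun x hx hxz => ?_).1, hc, Nat.card_zpowers, hao, hpow]
        by_contra hx1
        have hxo := orderOf_eq_prime (hPel.2 x (hU hx)) hx1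
        have h3 : zpowers x = zpowers a := Subgroup.eq_of_le_of_card_ge (zpowers_le.2 hxz)
          (by rw [Nat.card_zpowers, Nat.card_zpowers, hxo, hao])
        exact hau (zpowers_le.2 hx (h3 ▸ mem_zpowers a))
      have hlt : q ^ (k - (i + 1)) < Nat.card P :=
        lt_of_le_of_lt (Nat.pow_le_pow_right hq.pos (by omega)) hkP
      obtain ⟨a, ha, hau⟩ : ∃ a ∈ P, a ∉ U := SetLike.not_le_iff_exists.1 fun hle => by
        have := Subgroup.card_le_of_le hle
        omega
      obtain ⟨hV1, hV1P⟩ := hext a ha hau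
      obtain ⟨b, hb, hbV⟩ : ∃ b ∈ P, b ∉ U ⊔ zpowers a := SetLike.not_le_iff_exists.1 fun hle => by
        have := Subgroup.card_le_of_le hle
        have := Nat.pow_le_pow_right hq.pos (show k - i ≤ k by omega)
        omega
      obtain ⟨hV2, hV2P⟩ := hext b hb (fun h => hbV (mem_sup_left h))
      set W := (U ⊔ zpowers a) ⊓ (U ⊔ zpowers b)
      have hWU : W = U := by
        have hd : Nat.card W ∣ q ^ (k - i) := hV1 ▸ card_dvd_of_le inf_le_left
        obtain ⟨j, hj, hje⟩ := (Nat.dvd_prime_pow hq).1 hd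
        refine (Subgroup.eq_of_le_of_card_ge (le_inf le_sup_left le_sup_left) ?_).symm
        rw [hc, hje]
        refine Nat.pow_le_pow_right hq.pos ?_
        by_contra hlt
        have h4 : U ⊔ zpowers b = W := (Subgroup.eq_of_le_of_card_ge inf_le_right (by
          rw [hV2, hje, show j = k - i by omega])).symm
        exact hbV ((h4 ▸ mem_sup_right (mem_zpowers b) : b ∈ W).1)
      have hW : u ∈ W := hWU ▸ hu
      rw [← hWU]
      exact ⟨ih _ hV1P hV1 t ht u hW.1, ih _ hV2P hV2 t ht u hW.2⟩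
  haveI : Nontrivial P := (nontrivial_iff_ne_bot P).2 fun h => h1 (by rw [h, inf_bot_eq])
  let f : T →* MulAut P := (MulAut.conjNormal (H := P)).comp T.subtype
  have hpow : ∀ t : T, ∃ a : ℤ, ∀ x : P, f t x = x ^ a := fun t => by
    refine exists_power_map hq (fun a b => Subtype.ext (hPc a a.2 b b.2))
      (fun a => Subtype.ext (hPel.2 a a.2)) (f t) fun x => ?_
    by_cases hx : x = 1
    · rw [hx, map_one]; exact one_mem _
    have hxo : orderOf (x : G) = q := by
      rw [Subgroup.orderOf_coe]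
      exact orderOf_eq_prime (Subtype.ext (hPel.2 x x.2)) hx
    have hm := hdown (k - 1) (zpowers (x : G)) (zpowers_le.2 x.2) (by
      rw [Nat.card_zpowers, hxo, show k - (k - 1) = 1 by omega, pow_one]) t t.2 x (mem_zpowers _)
    obtain ⟨j, hj⟩ := mem_zpowers_iff.1 hm
    exact mem_zpowers_iff.2 ⟨j, Subtype.ext (by simpa [f] using hj)⟩
  have htriv := trivial_of_four f htri hgen fun t u ht hu => by
    obtain ⟨h, -, hh⟩ := hconj t u ht hu
    obtain ⟨a, ha⟩ := hpow t
    have hw : MulAut.conjNormal (H := P) (h * t * h⁻¹) = f t := by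
      refine MulEquiv.ext fun x => ?_
      rw [map_mul, map_mul, MulAut.mul_apply, MulAut.mul_apply]
      change MulAut.conjNormal h (f t ((MulAut.conjNormal h⁻¹) x)) = f t x
      rw [ha, ha, map_zpow, ← MulAut.mul_apply, ← map_mul, mul_inv_cancel, map_one, MulAut.one_apply]
    rcases hh with hh | hh <;> rw [hh] at hw
    · exact Or.inl hw
    · rw [map_inv] at hw
      exact Or.inr (inv_eq_iff_eq_inv.1 hw)
  intro t ht x hx
  have h3 := congrArg (fun σ : MulAut P => ((σ ⟨x, hx⟩ : P) : G)) (htriv ⟨t, ht⟩)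
  simp only [f, MonoidHom.comp_apply, Subgroup.coe_subtype, MulAut.conjNormal_apply,
    MulAut.one_apply] at h3
  exact mul_inv_eq_iff_eq_mul.1 h3

/-- `p`-subgroups of equal order are conjugate if the Sylow `p`-subgroups are cyclic. -/
theorem pconj_at_of_cyclic [Finite G] {p : ℕ} [Fact p.Prime] (h : ∀ P : Sylow p G, IsCyclic P)
    {A B : Subgroup G} (hA : IsPGroup p A) (hB : IsPGroup p B) (hc : Nat.card A = Nat.card B) :
    ∃ g : G, MulAut.conj g • A = B := by
  obtain ⟨P, hP⟩ := hA.exists_le_sylow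
  obtain ⟨Q, hQ⟩ := hB.exists_le_sylow
  obtain ⟨g, hg⟩ := MulAction.exists_smul_eq G P Q
  refine ⟨g, ?_⟩
  have hg' : MulAut.conj g • (P : Subgroup G) = (Q : Subgroup G) := congrArg Sylow.toSubgroup hg
  have hA' : MulAut.conj g • A ≤ (Q : Subgroup G) := hg' ▸ FrobeniusOrderConj.conj_smul_mono hP
  exact PGroupsCyclic.eq_of_card_eq_of_isCyclic (h Q) hA' hQ
    (by rw [FrobeniusOrderConj.card_smul, hc])

theorem hall_not_multi {H : Subgroup G} (hH : Cfsg.IsPiHall {q | Multi G q}ᶜ H) {q : ℕ}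
    (hq : q.Prime) (hd : q ∣ Nat.card H) : ¬ Multi G q := hH.1 q hq hd

theorem cyclic_or_quat_of_le [Finite G] {H : Subgroup G}
    (hH : Cfsg.IsPiHall {q | Multi G q}ᶜ H) {q : ℕ} (hq : q.Prime) {P : Subgroup G}
    (hP : IsPGroup q P) (hPH : P ≤ H) :
    IsCyclic P ∨ (q = 2 ∧ ∃ n : ℕ, 1 ≤ n ∧ Nonempty (P ≃* QuaternionGroup (2 ^ n))) := by
  haveI := Fact.mk hq
  obtain ⟨k, hk⟩ := IsPGroup.iff_card.1 hP
  rcases Nat.eq_zero_or_pos k with h0 | h0
  · refine Or.inl ?_
    rw [h0, pow_zero, card_eq_one] at hk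
    subst hk
    infer_instance
  refine cyclic_or_quat hq (hall_not_multi hH hq ?_) hP
  exact ((dvd_pow_self q h0.ne').trans hk.symm.dvd).trans (card_dvd_of_le hPH)

theorem mem_of_hall [Finite G] {E : Subgroup G} (hEn : E.Normal) {π : Set ℕ}
    (hE : Cfsg.IsPiHall π E) {q : ℕ} (hq : q.Prime) (hqπ : q ∈ π) {x : G}
    (hx : ∃ k, orderOf x = q ^ k) : x ∈ E := by
  haveI := hEn
  obtain ⟨k, hk⟩ := hx
  rw [← QuotientGroup.eq_one_iff, ← orderOf_eq_one_iff]
  have h1 : orderOf (x : G ⧸ E) ∣ q ^ k := hk ▸ orderOf_map_dvd (QuotientGroup.mk' E) x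
  have h2 : orderOf (x : G ⧸ E) ∣ E.index := orderOf_dvd_natCard (x : G ⧸ E)
  refine Nat.eq_one_of_dvd_coprimes (Nat.Coprime.pow_left k ?_) h1 h2
  exact hq.coprime_iff_not_dvd.2 (hE.2 q hq hqπ)

/-- `p`-subgroups of equal order in `N(X) ⊓ H` are conjugate there. -/
theorem pconj_complement [Finite G] (hsol : Group.IsSolvable G) (hB : ConjAb G) {E H : Subgroup G}
    (hEn : E.Normal) (hEc : IsMulCommutative E) (hE : Cfsg.IsPiHall {q | Multi G q} E)
    (hH : Cfsg.IsPiHall {q | Multi G q}ᶜ H) (hdis : ∀ x ∈ E, x ∈ H → x = 1)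
    (hdec : ∀ g : G, ∃ e ∈ E, ∃ h ∈ H, g = e * h) {X : Subgroup G} (hX : X ≤ E) :
    FrobeniusOrderConj.PConj ↥(normalizer (X : Set G) ⊓ H) := by
  haveI := hsol
  set K := normalizer (X : Set G) ⊓ H with hK
  intro q hq P Q hP hQ hc
  haveI := Fact.mk hq
  by_cases hcyc : ∀ S : Sylow q K, IsCyclic S
  · exact pconj_at_of_cyclic hcyc hP hQ hc
  push Not at hcyc
  obtain ⟨S, hS⟩ := hcyc
  set S' := (S : Subgroup K).map K.subtype with hS'
  have hKH : K ≤ H := inf_le_right
  have hS'H : S' ≤ H := (map_subtype_le _).trans hKH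
  have hS'c : ¬ IsCyclic S' := fun h => hS
    (isCyclic_of_injective ((S : Subgroup K).equivMapOfInjective _ K.subtype_injective).toMonoidHom
      (MulEquiv.injective _))
  rcases cyclic_or_quat_of_le hH hq (S.isPGroup'.map K.subtype) hS'H with h | ⟨rfl, m, hm, ⟨eS⟩⟩
  · exact absurd h hS'c
  -- the Sylow subgroup of `H`
  have hCH : CyConj H := by
    intro r hr x y j hx hy
    rw [← Subgroup.orderOf_coe] at hx hy
    obtain ⟨g, hg⟩ := cyConj hB r hr (x : G) y j hx hy
    obtain ⟨e, he, h, hh, rfl⟩ := hdec g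
    have h1 := conj_mem_proj hEn hdis he hh x.2 (zpowers_le.2 y.2 hg)
    rw [h1] at hg
    obtain ⟨i, hi⟩ := mem_zpowers_iff.1 hg
    exact ⟨⟨h, hh⟩, mem_zpowers_iff.2 ⟨i, Subtype.ext (by simpa using hi)⟩⟩
  have hodd : ∀ r : ℕ, r.Prime → r ≠ 2 → ∀ U : Subgroup H, IsPGroup r U → IsCyclic U := by
    intro r hr hr2 U hU
    rcases cyclic_or_quat_of_le hH hr (hU.map H.subtype) (map_subtype_le _) with h | ⟨h, -⟩
    · exact isCyclic_of_injective (U.equivMapOfInjective _ H.subtype_injective).toMonoidHom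
        (MulEquiv.injective _)
    · exact absurd h hr2
  have h2H : 2 ∣ Nat.card H := by
    refine (?_ : 2 ∣ Nat.card S').trans (card_dvd_of_le hS'H)
    rw [Nat.card_congr eS.toEquiv, Nat.card_eq_fintype_card, QuaternionGroup.card]
    exact Dvd.dvd.mul_right (by norm_num) _
  have h2M : ¬ Multi G 2 := hall_not_multi hH hq h2H
  have hinvH : ¬ Multi H 2 := by
    rintro ⟨x, y, hx, hy, hxy, hne⟩
    refine h2M ⟨x, y, by rw [Subgroup.orderOf_coe, hx], by rw [Subgroup.orderOf_coe, hy],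
      hxy.map H.subtype, fun h => hne ?_⟩
    obtain ⟨i, hi⟩ := mem_zpowers_iff.1 h
    exact mem_zpowers_iff.2 ⟨i, Subtype.ext (by simpa using hi)⟩
  obtain ⟨T₀, hT₀⟩ := ((S.isPGroup'.map K.subtype).comap_subtype (K := H)).exists_le_sylow
  set T := (T₀ : Subgroup H).map H.subtype with hT
  have hS'T : S' ≤ T := fun x hx => ⟨⟨x, hS'H hx⟩, hT₀ hx, rfl⟩
  have hTp : IsPGroup 2 T := T₀.isPGroup'.map H.subtype
  rcases cyclic_or_quat_of_le hH hq hTp (map_subtype_le _) with h | ⟨-, n, hn, ⟨eT⟩⟩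
  · exact absurd (isCyclic_of_injective (inclusion hS'T) (inclusion_injective hS'T)) hS'c
  obtain ⟨hTnorm, hn1⟩ := sylow_two_normal inferInstance hCH hodd hinvH T₀ hn
    (((T₀ : Subgroup H).equivMapOfInjective _ H.subtype_injective).trans eT)
  subst hn1
  have hTcard : Nat.card T = 8 := by
    rw [Nat.card_congr eT.toEquiv, Nat.card_eq_fintype_card, QuaternionGroup.card]
    norm_num
  have hTS : S' = T := by
    refine Subgroup.eq_of_le_of_card_ge hS'T ?_
    rw [hTcard, Nat.card_congr eS.toEquiv, Nat.card_eq_fintype_card, QuaternionGroup.card]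
    have : 2 ^ 1 ≤ 2 ^ m := Nat.pow_le_pow_right two_pos hm
    omega
  have hTK : T ≤ K := hTS ▸ map_subtype_le _
  have hTn : ∀ h ∈ H, ∀ t ∈ T, h * t * h⁻¹ ∈ T := by
    rintro h hh t ⟨t', ht', rfl⟩
    exact ⟨⟨h, hh⟩ * t' * ⟨h, hh⟩⁻¹, hTnorm.conj_mem t' ht' ⟨h, hh⟩, rfl⟩
  have hsub : ∀ U : Subgroup K, IsPGroup 2 U → U.map K.subtype ≤ T := by
    intro U hU x hx
    obtain ⟨R, hR⟩ := ((hU.map K.subtype).comap_subtype (K := H)).exists_le_sylow
    obtain ⟨g, hg⟩ := MulAction.exists_smul_eq H T₀ R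
    have hRT : (R : Subgroup H) = T₀ := by
      haveI := hTnorm
      rw [← hg, Sylow.coe_subgroup_smul, HallTheorem.conj_smul_normal g (T₀ : Subgroup H)]
    have hxH : x ∈ H := hKH (map_subtype_le U hx)
    exact ⟨⟨x, hxH⟩, hRT ▸ hR (mem_subgroupOf.2 hx : (⟨x, hxH⟩ : H) ∈ _), rfl⟩
  set P' := P.map K.subtype with hP'
  set Q' := Q.map K.subtype with hQ'
  have hPc : Nat.card P' = Nat.card Q' := by
    rw [hP', hQ', Subgroup.card_map_of_injective K.subtype_injective,
      Subgroup.card_map_of_injective K.subtype_injective, hc]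
  have hback : ∀ k : K, MulAut.conj (k : G) • P' = Q' → MulAut.conj k • P = Q := by
    intro k hk
    apply Subgroup.map_injective K.subtype_injective
    rw [HallTheorem.map_conj_smul]
    exact hk
  by_cases hPQ : P' = Q'
  · exact ⟨1, hback 1 (by rw [OneMemClass.coe_one, map_one, one_smul, hPQ])⟩
  obtain ⟨j, hj⟩ := IsPGroup.iff_card.1 (hP.map K.subtype)
  rw [← hP'] at hj
  have hj3 : j ≤ 3 := by
    have := Subgroup.card_le_of_le (hsub P hP)
    rw [hTcard, ← hP', hj] at this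
    exact (Nat.pow_le_pow_iff_right (by norm_num : 1 < 2)).1 (this.trans (by norm_num))
  have hj2 : j = 2 := by
    rcases (show j = 0 ∨ j = 1 ∨ j = 2 ∨ j = 3 by omega) with rfl | rfl | rfl | rfl
    · exact absurd ((card_eq_one.1 hj).trans (card_eq_one.1 (hPc ▸ hj)).symm) hPQ
    · exfalso
      apply hPQ
      have gen : ∀ U : Subgroup G, Nat.card U = 2 ^ 1 →
          ∃ x, orderOf x = 2 ∧ U = zpowers x := by
        intro U hU
        obtain ⟨x, hx⟩ := exists_prime_orderOf_dvd_card' (G := U) 2 (dvd_of_eq (by rw [hU, pow_one]))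
        refine ⟨x, by rw [Subgroup.orderOf_coe, hx], (Subgroup.eq_of_le_of_card_ge
          (zpowers_le.2 x.2) ?_).symm⟩
        rw [hU, Nat.card_zpowers, Subgroup.orderOf_coe, hx, pow_one]
      obtain ⟨x, hx, hxe⟩ := gen P' hj
      obtain ⟨y, hy, hye⟩ := gen Q' (hPc ▸ hj)
      rw [hxe, hye]
      exact unique_order hq h2M hTp (hsub P hP (hxe ▸ mem_zpowers x : x ∈ P'))
        (hsub Q hQ (hye ▸ mem_zpowers y : y ∈ Q')) hx hy
    · rfl
    · exact absurd ((Subgroup.eq_of_le_of_card_ge (hsub P hP) (by rw [hTcard, ← hP', hj]; norm_num)).trans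
        (Subgroup.eq_of_le_of_card_ge (hsub Q hQ) (by rw [hTcard, ← hQ', ← hPc, hj]; norm_num)).symm) hPQ
  subst hj2
  have gen4 : ∀ U : Subgroup G, U ≤ T → Nat.card U = 2 ^ 2 →
      ∃ c, orderOf c = 4 ∧ U = zpowers c := by
    intro U hU hUc
    rcases cyclic_or_quat hq h2M (IsPGroup.of_card hUc) with h | ⟨-, i, hi, ⟨e⟩⟩
    · obtain ⟨c, hc⟩ := h.exists_ofOrder_eq_natCard
      refine ⟨c, by rw [Subgroup.orderOf_coe, hc, hUc]; norm_num, (Subgroup.eq_of_le_of_card_ge
        (zpowers_le.2 c.2) ?_).symm⟩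
      rw [Nat.card_zpowers, Subgroup.orderOf_coe, hc]
    · exfalso
      rw [Nat.card_congr e.toEquiv, Nat.card_eq_fintype_card, QuaternionGroup.card] at hUc
      have : 2 ^ 1 ≤ 2 ^ i := Nat.pow_le_pow_right two_pos hi
      omega
  obtain ⟨c, hco, hce⟩ := gen4 P' (hsub P hP) hj
  obtain ⟨d, hdo, hde⟩ := gen4 Q' (hsub Q hQ) (hPc ▸ hj)
  have hcT : c ∈ T := hsub P hP (hce ▸ mem_zpowers c : c ∈ P')
  have hdT : d ∈ T := hsub Q hQ (hde ▸ mem_zpowers d : d ∈ Q')
  have hTH : T ≤ H := map_subtype_le _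
  -- the part of `X` centralised by `T`
  set Y := X ⊓ centralizer (T : Set G) with hY
  obtain ⟨htri, hgen, -⟩ := quat_facts hn eT
  have hconjT : ∀ t u : T, orderOf t = 4 → orderOf u = 4 →
      ∃ h ∈ H, h * t * h⁻¹ = u ∨ h * t * h⁻¹ = (u : G)⁻¹ := by
    intro t u ht hu
    rw [← Subgroup.orderOf_coe] at ht hu
    obtain ⟨g, hg⟩ := cyConj hB 2 hq (t : G) u 2 (by rw [ht]; norm_num) (by rw [hu]; norm_num)
    obtain ⟨e, he, h, hh, rfl⟩ := hdec g
    rw [conj_mem_proj hEn hdis he hh (hTH t.2) (zpowers_le.2 (hTH u.2) hg)] at hg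
    exact ⟨h, hh, eq_or_inv_of_four hu (((MulAut.conj h).orderOf_eq (t : G)).trans ht) hg⟩
  have hW : ∀ w ∈ T, orderOf w = 4 →
      IsMulCommutative ↥(Y ⊔ zpowers w) ∧ Nat.card ↥(Y ⊔ zpowers w) = Nat.card Y * 4 ∧
        ∀ a ∈ Y ⊔ zpowers w, ∃ x ∈ Y, ∃ z ∈ zpowers w, a = x * z := by
    intro w hw hwo
    have hcom : ∀ x ∈ Y, ∀ z ∈ zpowers w, x * z = z * x := fun x hx z hz =>
      (mem_centralizer_iff.1 hx.2 z (zpowers_le.2 hw hz)).symm
    obtain ⟨h1, h2⟩ := card_sup_of_commute hcom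
      (fun x hx hxz => hdis x (hX hx.1) (zpowers_le.2 (hTH hw) hxz))
    refine ⟨isMulCommutative_of_le_centralizer ?_, by rw [h1, Nat.card_zpowers, hwo], h2⟩
    refine sup_le (le_centralizer_iff.1 (sup_le ?_ ?_)) (le_centralizer_iff.1 (sup_le ?_ ?_)) <;>
      intro a ha <;> rw [mem_centralizer_iff] <;> intro b hb
    · exact congrArg Subtype.val (hEc.is_comm.comm ⟨b, hX hb.1⟩ ⟨a, hX ha.1⟩)
    · exact hcom b hb a ha
    · exact (hcom a ha b hb).symm
    · obtain ⟨i, rfl⟩ := mem_zpowers_iff.1 ha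
      obtain ⟨k, rfl⟩ := mem_zpowers_iff.1 hb
      rw [← zpow_add, ← zpow_add, add_comm]
  obtain ⟨hWc, hWcard, -⟩ := hW c hcT hco
  obtain ⟨hWc', hWcard', hWmem'⟩ := hW d hdT hdo
  obtain ⟨g, hg⟩ := hB _ _ hWc hWc' (hWcard.trans hWcard'.symm)
  obtain ⟨e, he, h, hh, rfl⟩ := hdec g
  have himg : ∀ a ∈ Y ⊔ zpowers c, e * h * a * (e * h)⁻¹ ∈ Y ⊔ zpowers d := fun a ha =>
    hg ▸ Subgroup.smul_mem_pointwise_smul a (MulAut.conj (e * h)) _ ha
  have hcd : h * c * h⁻¹ ∈ zpowers d := by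
    obtain ⟨x, hx, z, hz, hxz⟩ := hWmem' _ (himg c (mem_sup_right (mem_zpowers c)))
    have hcom : Commute x z := (mem_centralizer_iff.1 hx.2 z (zpowers_le.2 hdT hz)).symm
    have h4 : (x * z) ^ 4 = 1 := by
      rw [← hxz, conj_pow, ← hco, pow_orderOf_eq_one, mul_one, mul_inv_cancel]
    rw [hcom.mul_pow] at h4
    have hx4 : x ^ 4 = 1 := hdis _ (pow_mem (hX hx.1) 4) (by
      rw [eq_inv_of_mul_eq_one_left h4]
      exact inv_mem (pow_mem (zpowers_le.2 (hTH hdT) hz) 4))
    have hx1 : x = 1 := by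
      refine orderOf_eq_one_iff.1 (Nat.eq_one_of_dvd_coprimes (Nat.Coprime.pow_left 2 ?_)
        (orderOf_dvd_of_pow_eq_one (show x ^ 2 ^ 2 = 1 from hx4)) (orderOf_dvd_natCard E (hX hx.1)))
      exact Nat.prime_two.coprime_iff_not_dvd.2 fun hd => h2M (hE.1 2 hq hd)
    rw [hx1, one_mul] at hxz
    have hzH : e * h * c * (e * h)⁻¹ ∈ H := hxz ▸ zpowers_le.2 (hTH hdT) hz
    rw [← conj_mem_proj hEn hdis he hh (hTH hcT) hzH, hxz]
    exact hz
  have hYY : ∀ x ∈ Y, h * x * h⁻¹ ∈ Y := by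
    intro x hx
    have hxE : h * x * h⁻¹ ∈ E := hEn.conj_mem x (hX hx.1) h
    have hmem := himg x (mem_sup_left hx)
    rw [show e * h * x * (e * h)⁻¹ = e * (h * x * h⁻¹) * e⁻¹ by group, conj_eq_self hEc he hxE]
      at hmem
    obtain ⟨y, hy, z, hz, hyz⟩ := hWmem' _ hmem
    have hz1 : z = 1 := hdis z (by
      have h5 : y⁻¹ * (h * x * h⁻¹) ∈ E := mul_mem (inv_mem (hX hy.1)) hxE
      rwa [hyz, inv_mul_cancel_left] at h5) (zpowers_le.2 (hTH hdT) hz)
    rw [hyz, hz1, mul_one]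
    exact hy
  have hhX : ∀ x ∈ X, h * x * h⁻¹ ∈ X := by
    have hle : X ≤ X.comap (MulAut.conj h).toMonoidHom := by
      refine le_of_elements fun x hx r hr hxr => ?_
      show h * x * h⁻¹ ∈ X
      by_cases hx1 : x = 1
      · simp [hx1]
      obtain ⟨i, hi⟩ := hxr
      have hi0 : i ≠ 0 := fun h0 => hx1 (orderOf_eq_one_iff.1 (by rw [hi, h0, pow_zero]))
      have hM : Multi G r := hE.1 r hr
        ((dvd_pow_self r hi0).trans (hi ▸ orderOf_dvd_natCard E (hX hx)))
      obtain ⟨N, hNn, hNel, hNmem⟩ := multi_normal hsol (cyConj hB) hr (multi_no_sq hB hr hM) hM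
      have hNE : N ≤ E := fun y hy => mem_of_hall hEn hE hr hM (by
        by_cases hy1 : y = 1
        · exact ⟨0, by simp [hy1]⟩
        · haveI := Fact.mk hr
          exact ⟨1, by rw [pow_one]; exact orderOf_eq_prime (hNel.2 y hy) hy1⟩)
      have hxN : x ∈ N := hNmem x ⟨i, hi⟩
      by_cases hfull : X ⊓ N = N
      · exact (hfull.ge (hNn.conj_mem x hxN h)).1
      have hbot : X ⊓ N ≠ ⊥ := fun h0 => hx1 (mem_bot.1 (h0 ▸ mem_inf.2 ⟨hx, hxN⟩))
      refine (hYY x ⟨hx, mem_centralizer_iff.2 fun t ht => ?_⟩).1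
      exact centralise_of_invariant hB hEc hdec hr hNn hNE hNel hTn htri hgen hconjT
        (fun t ht y hy => (mem_normalizer_iff.1 (hTK ht).1 y).1 hy) hbot hfull t ht x hxN
    exact fun x hx => hle hx
  have hhN : h ∈ normalizer (X : Set G) := by
    have heq : MulAut.conj h • X = X := by
      refine Subgroup.eq_of_le_of_card_ge ?_ (FrobeniusOrderConj.card_smul h X).ge
      rintro - ⟨x, hx, rfl⟩
      exact hhX x hx
    rw [mem_normalizer_iff]
    intro x
    refine ⟨hhX x, fun hm => ?_⟩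
    rw [← heq] at hm
    obtain ⟨y, hy, hyx⟩ := hm
    have : y = x := (MulAut.conj h).injective hyx
    exact this ▸ hy
  refine ⟨⟨h, hhN, hh⟩, hback _ ?_⟩
  rw [hce, hde]
  refine Subgroup.eq_of_le_of_card_ge ?_ (by
    rw [FrobeniusOrderConj.card_smul, Nat.card_zpowers, Nat.card_zpowers, hco, hdo])
  rintro - ⟨a, ha, rfl⟩
  obtain ⟨i, rfl⟩ := mem_zpowers_iff.1 ha
  show h * c ^ i * h⁻¹ ∈ zpowers d
  rw [← conj_zpow]
  exact zpow_mem hcd i

/-- A subgroup normalising `X = C ⊓ E` splits, up to conjugation, over `X` inside `N(X) ⊓ H`. -/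
theorem exists_split [Finite G] (hsol : Group.IsSolvable G) {π : Set ℕ} {E H : Subgroup G}
    (hEn : E.Normal) (hEc : IsMulCommutative E) (hE : Cfsg.IsPiHall π E)
    (hH : Cfsg.IsPiHall πᶜ H) (hdis : ∀ x ∈ E, x ∈ H → x = 1)
    (hdec : ∀ g : G, ∃ e ∈ E, ∃ h ∈ H, g = e * h) (C : Subgroup G) :
    ∃ m ∈ normalizer ((C ⊓ E : Subgroup G) : Set G), ∃ D ≤ normalizer ((C ⊓ E : Subgroup G) : Set G) ⊓ H,
      MulAut.conj m • C = (C ⊓ E) ⊔ D ∧ Nat.card D * Nat.card ↥(C ⊓ E) = Nat.card C := by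
  haveI := hsol
  haveI := hEn
  set X := C ⊓ E with hX
  set M := normalizer (X : Set G) with hM
  have hCM : C ≤ M := by
    refine CoprimeAction.le_normalizer_inf Subgroup.le_normalizer ?_
    rw [Subgroup.normalizer_eq_top_iff.2 hEn]
    exact le_top
  have hEM : E ≤ M := fun e he => mem_normalizer_iff.2 fun x => by
    constructor
    · intro hx
      rwa [conj_eq_self hEc he hx.2]
    · intro hx
      have hxE : x ∈ E := by
        have h := mul_mem (mul_mem (inv_mem he) hx.2) he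
        rwa [show e⁻¹ * (e * x * e⁻¹) * e = x by group] at h
      rwa [conj_eq_self hEc he hxE] at hx
  set K := M ⊓ H with hK
  -- a complement in `C`
  set X₀ := E.subgroupOf C with hX₀
  have hXc : Nat.card X₀ = Nat.card X := by
    rw [hX₀, ← inf_subgroupOf_right, hX, inf_comm E C,
      Nat.card_congr (subgroupOfEquivOfLe inf_le_left).toEquiv]
  have hX₀π : HallCore.PiNat π (Nat.card X₀) := fun r hr hd =>
    hE.1 r hr (hd.trans (hXc ▸ card_dvd_of_le inf_le_right))
  have hX₀i : HallCore.PiNat πᶜ X₀.index := fun r hr hd hrπ =>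
    hE.2 r hr hrπ (hd.trans (Subgroup.relIndex_dvd_index_of_normal E C))
  obtain ⟨C₀, hC₀⟩ := HallTheorem.exists_isPiHall_of_solvable (G := C) πᶜ
  rw [HallTheorem.isPiHall_iff, compl_compl] at hC₀
  have hcard : Nat.card C₀ = X₀.index := by
    have h1 : Nat.card C₀ * C₀.index = X₀.index * Nat.card X₀ := by
      rw [C₀.card_mul_index, X₀.index_mul_card]
    exact Nat.dvd_antisymm
      ((HallCore.PiNat.coprime (π := πᶜ) hC₀.1 (by rwa [compl_compl])).dvd_of_dvd_mul_right
        ⟨C₀.index, h1.symm⟩)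
      ((HallCore.PiNat.coprime (π := πᶜ) hX₀i (by rw [compl_compl]; exact hC₀.2)).dvd_of_dvd_mul_right
        ⟨Nat.card X₀, h1⟩)
  have hsup : X₀ ⊔ C₀ = ⊤ := by
    rw [← index_eq_one, Nat.eq_one_iff_not_exists_prime_dvd]
    intro r hr hd
    exact hX₀i r hr (hd.trans (index_dvd_of_le le_sup_left))
      (hC₀.2 r hr (hd.trans (index_dvd_of_le le_sup_right)))
  set C' := C₀.map C.subtype with hC'
  have hC'c : Nat.card C' = X₀.index := by
    rw [hC', Subgroup.card_map_of_injective C.subtype_injective, hcard]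
  have hsup' : X ⊔ C' = C := by
    have := congrArg (Subgroup.map C.subtype) hsup
    rwa [Subgroup.map_sup, subgroupOf_map_subtype, inf_comm, ← MonoidHom.range_eq_map,
      Subgroup.range_subtype] at this
  -- `K` is a Hall subgroup of `M`
  have hKc : Cfsg.IsPiHall πᶜ (K.subgroupOf M) := by
    rw [HallTheorem.isPiHall_iff, compl_compl]
    refine ⟨fun r hr hd => hH.1 r hr ?_, ?_⟩
    · rw [Nat.card_congr (subgroupOfEquivOfLe (inf_le_left : K ≤ M)).toEquiv] at hd
      exact hd.trans (card_dvd_of_le inf_le_right)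
    have hcompl : IsComplement' (E.subgroupOf M) (K.subgroupOf M) := by
      refine isComplement'_of_disjoint_and_mul_eq_univ ?_ (Set.eq_univ_of_forall fun w => ?_)
      · rw [disjoint_iff, eq_bot_iff]
        intro w hw
        exact mem_bot.2 (Subtype.ext (hdis w hw.1 hw.2.2))
      · obtain ⟨e, he, h, hh, hw⟩ := hdec (w : G)
        have hhM : h ∈ M := by
          have h1 := mul_mem (inv_mem (hEM he)) w.2
          rwa [hw, inv_mul_cancel_left] at h1
        exact ⟨⟨e, hEM he⟩, he, ⟨h, hhM⟩, ⟨hhM, hh⟩, Subtype.ext hw.symm⟩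
    intro r hr hd
    rw [hcompl.index_eq_card, Nat.card_congr (subgroupOfEquivOfLe hEM).toEquiv] at hd
    exact hE.1 r hr hd
  have hC'M : C' ≤ M := (map_subtype_le _).trans hCM
  obtain ⟨m, hm⟩ := HallTheorem.le_conj_isPiHall (HallSolvable.isPiSeparable_of_solvable _)
    (HallTheorem.complSolvable_of_solvable _) (U := C'.subgroupOf M)
    (fun r hr hd => hC₀.1 r hr (by
      rwa [Nat.card_congr (subgroupOfEquivOfLe hC'M).toEquiv, hC'c, ← hcard] at hd)) hKc
  have hm' : C' ≤ MulAut.conj (m : G) • K := by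
    have h1 := Subgroup.map_mono (f := M.subtype) hm
    rwa [HallTheorem.map_conj_smul, map_subgroupOf_eq_of_le hC'M,
      map_subgroupOf_eq_of_le inf_le_left] at h1
  refine ⟨(m : G)⁻¹, inv_mem m.2, MulAut.conj (m : G)⁻¹ • C', ?_, ?_, ?_⟩
  · have h1 := FrobeniusOrderConj.conj_smul_mono (g := (m : G)⁻¹) hm'
    rwa [smul_smul, ← map_mul, inv_mul_cancel, map_one, one_smul] at h1
  · conv_lhs => rw [← hsup']
    rw [Subgroup.smul_sup, CoprimeSZ.conj_smul_eq_self (inv_mem m.2)]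
  · rw [FrobeniusOrderConj.card_smul, hC'c, ← hXc, X₀.index_mul_card]

theorem card_inf_eq [Finite G] {π : Set ℕ} {E : Subgroup G} (hEn : E.Normal)
    (hE : Cfsg.IsPiHall π E) {A B : Subgroup G} (h : Nat.card A = Nat.card B) :
    Nat.card ↥(A ⊓ E) = Nat.card ↥(B ⊓ E) := by
  haveI := hEn
  have key : ∀ A B : Subgroup G, Nat.card A = Nat.card B →
      Nat.card ↥(A ⊓ E) ∣ Nat.card ↥(B ⊓ E) := by
    intro A B hAB
    have h1 : Nat.card ↥(A ⊓ E) ∣ Nat.card (E.subgroupOf B) * (E.subgroupOf B).index := by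
      rw [card_mul_index, ← hAB]
      exact card_dvd_of_le inf_le_left
    have h3 : Nat.card (E.subgroupOf B) = Nat.card ↥(B ⊓ E) := by
      rw [← inf_subgroupOf_right, inf_comm E B,
        Nat.card_congr (subgroupOfEquivOfLe inf_le_left).toEquiv]
    rw [← h3]
    refine (Nat.coprime_of_dvd fun r hr hr1 hr2 => ?_).dvd_of_dvd_mul_right h1
    exact hE.2 r hr (hE.1 r hr (hr1.trans (card_dvd_of_le inf_le_right)))
      (hr2.trans (Subgroup.relIndex_dvd_index_of_normal E B))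
  exact Nat.dvd_antisymm (key A B h) (key B A h.symm)

theorem subgroups_conj [Finite G] (hsol : Group.IsSolvable G) (hB : ConjAb G) (A B : Subgroup G)
    (h : Nat.card A = Nat.card B) : ∃ g : G, MulAut.conj g • A = B := by
  haveI := hsol
  obtain ⟨E, H, hEn, hEc, hE, hH, hdis, hdec⟩ := exists_setting hsol hB
  haveI := hEn
  have hcomm : ∀ U : Subgroup G, U ≤ E → IsMulCommutative U := fun U hU =>
    ⟨⟨fun a b => Subtype.ext
      (congrArg Subtype.val (hEc.is_comm.comm ⟨a.1, hU a.2⟩ ⟨b.1, hU b.2⟩) :)⟩⟩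
  obtain ⟨g₀, hg₀⟩ := hB (A ⊓ E) (B ⊓ E) (hcomm _ inf_le_right) (hcomm _ inf_le_right)
    (card_inf_eq hEn hE h)
  set A₁ := MulAut.conj g₀ • A with hA₁
  set X := B ⊓ E with hX
  have hA₁X : A₁ ⊓ E = X := by
    rw [← hg₀, Subgroup.smul_inf, HallTheorem.conj_smul_normal g₀ E]
  obtain ⟨a, haM, DA, hDA, hAeq, hAc⟩ := exists_split hsol hEn hEc hE hH hdis hdec A₁
  obtain ⟨b, hbM, DB, hDB, hBeq, hBc⟩ := exists_split hsol hEn hEc hE hH hdis hdec B
  rw [hA₁X] at haM hDA hAeq hAc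
  set K := normalizer (X : Set G) ⊓ H with hK
  have hDc : Nat.card DA = Nat.card DB := by
    rw [hA₁, FrobeniusOrderConj.card_smul, h, ← hBc] at hAc
    exact Nat.eq_of_mul_eq_mul_right Nat.card_pos hAc
  have hodd : ∀ p : ℕ, p.Prime → p ≠ 2 → ∀ P : Sylow p K, IsCyclic P := by
    intro p hp hp2 P
    rcases cyclic_or_quat_of_le hH hp (P.isPGroup'.map K.subtype)
      ((map_subtype_le _).trans inf_le_right) with h' | ⟨h', -⟩
    · exact isCyclic_of_injective
        ((P : Subgroup K).equivMapOfInjective _ K.subtype_injective).toMonoidHom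
        (MulEquiv.injective _)
    · exact absurd h' hp2
  obtain ⟨k, hk⟩ := FrobeniusOrderConj.aux _ K inferInstance (Nat.lt_succ_self _)
    (pconj_complement hsol hB hEn hEc hE hH hdis hdec (X := X) inf_le_right) 2 hodd
    (DA.subgroupOf K) (DB.subgroupOf K) (by
      rw [Nat.card_congr (subgroupOfEquivOfLe hDA).toEquiv,
        Nat.card_congr (subgroupOfEquivOfLe hDB).toEquiv, hDc])
  have hk' := FrobeniusOrderConj.sub_conj hDA hDB k hk
  refine ⟨b⁻¹ * ((k : G) * (a * g₀)), ?_⟩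
  rw [map_mul, map_mul, map_mul, mul_smul, mul_smul, mul_smul, ← hA₁, hAeq, Subgroup.smul_sup,
    CoprimeSZ.conj_smul_eq_self k.2.1, hk', ← hBeq, smul_smul, ← map_mul, inv_mul_cancel, map_one,
    one_smul]

end Main

end Cfsg.Agent.AbelianConjBE28
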