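import Mathlib

/-!
Orders of abelian permutation groups: `|A|` divides the product of the orbit sizes, and the
resulting bounds for the symmetric and alternating groups.
-/

set_option autoImplicit false

namespace Cfsg.Agent.AbelianPerm52

/-- Largest product of a partition of `n`. -/
def maxProd : ℕ → ℕ
  | 0 => 1
  | 1 => 1
  | 2 => 2
  | 3 => 3
  | 4 => 4
  | n + 5 => 3 * maxProd (n + 2)

/-- Largest product of a partition of `n` with no part congruent to `2` mod `4`. -/
def maxProdEven : ℕ → ℕ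
  | 0 => 1
  | 1 => 1
  | 2 => 1
  | 3 => 3
  | 4 => 4
  | 5 => 5
  | 6 => 9
  | 7 => 12
  | 8 => 16
  | n + 9 => 3 * maxProdEven (n + 6)

theorem maxProd_succ (n : ℕ) (h : 5 ≤ n) : maxProd n = 3 * maxProd (n - 3) := by
  obtain ⟨m, rfl⟩ := Nat.exists_eq_add_of_le' h
  rw [maxProd]
  rfl

theorem maxProdEven_succ (n : ℕ) (h : 9 ≤ n) : maxProdEven n = 3 * maxProdEven (n - 3) := by
  obtain ⟨m, rfl⟩ := Nat.exists_eq_add_of_le' h
  rw [maxProdEven]
  rfl

theorem maxProd_super : ∀ a b : ℕ, maxProd a * maxProd b ≤ maxProd (a + b) := by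
  intro a
  induction a using Nat.strong_induction_on with
  | _ a ih =>
    intro b
    by_cases ha : 5 ≤ a
    · rw [maxProd_succ a ha, maxProd_succ (a + b) (by omega), mul_assoc,
        show a + b - 3 = a - 3 + b by omega]
      exact Nat.mul_le_mul_left 3 (ih (a - 3) (by omega) b)
    induction b using Nat.strong_induction_on with
    | _ b ihb =>
      by_cases hb : 5 ≤ b
      · rw [maxProd_succ b hb, maxProd_succ (a + b) (by omega), mul_left_comm,
          show a + b - 3 = a + (b - 3) by omega]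
        exact Nat.mul_le_mul_left 3 (ihb (b - 3) (by omega))
      · have base : ∀ x < 5, ∀ y < 5, maxProd x * maxProd y ≤ maxProd (x + y) := by decide
        exact base a (by omega) b (by omega)

theorem maxProdEven_super : ∀ a b : ℕ, maxProdEven a * maxProdEven b ≤ maxProdEven (a + b) := by
  intro a
  induction a using Nat.strong_induction_on with
  | _ a ih =>
    intro b
    by_cases ha : 9 ≤ a
    · rw [maxProdEven_succ a ha, maxProdEven_succ (a + b) (by omega), mul_assoc,
        show a + b - 3 = a - 3 + b by omega]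
      exact Nat.mul_le_mul_left 3 (ih (a - 3) (by omega) b)
    induction b using Nat.strong_induction_on with
    | _ b ihb =>
      by_cases hb : 9 ≤ b
      · rw [maxProdEven_succ b hb, maxProdEven_succ (a + b) (by omega), mul_left_comm,
          show a + b - 3 = a + (b - 3) by omega]
        exact Nat.mul_le_mul_left 3 (ihb (b - 3) (by omega))
      · have base : ∀ x < 9, ∀ y < 9, maxProdEven x * maxProdEven y ≤ maxProdEven (x + y) := by decide
        exact base a (by omega) b (by omega)

theorem le_maxProd : ∀ a : ℕ, a ≤ maxProd a := by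
  intro a
  induction a using Nat.strong_induction_on with
  | _ a ih =>
    by_cases ha : 5 ≤ a
    · rw [maxProd_succ a ha]
      have := ih (a - 3) (by omega)
      omega
    · have base : ∀ x < 5, x ≤ maxProd x := by decide
      exact base a (by omega)

theorem le_maxProdEven : ∀ a : ℕ, a ≠ 2 → a ≤ maxProdEven a := by
  intro a
  induction a using Nat.strong_induction_on with
  | _ a ih =>
    intro h
    by_cases ha : 9 ≤ a
    · rw [maxProdEven_succ a ha]
      have := ih (a - 3) (by omega) (by omega)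
      omega
    · have base : ∀ x < 9, x ≠ 2 → x ≤ maxProdEven x := by decide
      exact base a (by omega) h

theorem maxProd_closed (k : ℕ) :
    maxProd (3 * k) = 3 ^ k ∧ maxProd (3 * k + 4) = 4 * 3 ^ k ∧ maxProd (3 * k + 2) = 2 * 3 ^ k := by
  induction k with
  | zero => decide
  | succ k ih =>
    obtain ⟨h1, h2, h3⟩ := ih
    refine ⟨?_, ?_, ?_⟩
    · rcases k with _ | k
      · decide
      rw [maxProd_succ _ (by omega), show 3 * (k + 1 + 1) - 3 = 3 * (k + 1) by omega, h1]
      ring
    · rw [maxProd_succ _ (by omega), show 3 * (k + 1) + 4 - 3 = 3 * k + 4 by omega, h2]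
      ring
    · rw [maxProd_succ _ (by omega), show 3 * (k + 1) + 2 - 3 = 3 * k + 2 by omega, h3]
      ring

theorem maxProdEven_closed (k : ℕ) :
    maxProdEven (3 * k) = 3 ^ k ∧ maxProdEven (3 * k + 4) = 4 * 3 ^ k ∧
      maxProdEven (3 * k + 8) = 16 * 3 ^ k := by
  induction k using Nat.strong_induction_on with
  | _ k ih =>
    refine ⟨?_, ?_, ?_⟩
    · by_cases h : k < 3
      · interval_cases k <;> decide
      · rw [maxProdEven_succ _ (by omega), show 3 * k - 3 = 3 * (k - 1) by omega, (ih (k - 1) (by omega)).1,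
          ← pow_succ', show k - 1 + 1 = k by omega]
    · by_cases h : k < 2
      · interval_cases k <;> decide
      · rw [maxProdEven_succ _ (by omega), show 3 * k + 4 - 3 = 3 * (k - 1) + 4 by omega,
          (ih (k - 1) (by omega)).2.1, mul_left_comm, ← pow_succ', show k - 1 + 1 = k by omega]
    · by_cases h : k < 1
      · interval_cases k <;> decide
      · rw [maxProdEven_succ _ (by omega), show 3 * k + 8 - 3 = 3 * (k - 1) + 8 by omega,
          (ih (k - 1) (by omega)).2.2, mul_left_comm, ← pow_succ', show k - 1 + 1 = k by omega]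

theorem prod_le_maxProd {ι : Type*} (s : Finset ι) (f : ι → ℕ) :
    ∏ i ∈ s, f i ≤ maxProd (∑ i ∈ s, f i) := by
  classical
  induction s using Finset.induction_on with
  | empty => simp [maxProd]
  | insert a s ha ih =>
    rw [Finset.prod_insert ha, Finset.sum_insert ha]
    exact (Nat.mul_le_mul (le_maxProd _) ih).trans (maxProd_super _ _)

theorem prod_le_maxProdEven {ι : Type*} (s : Finset ι) (f : ι → ℕ) (h : ∀ i ∈ s, f i ≠ 2) :
    ∏ i ∈ s, f i ≤ maxProdEven (∑ i ∈ s, f i) := by
  classical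
  induction s using Finset.induction_on with
  | empty => simp [maxProdEven]
  | insert a s ha ih =>
    rw [Finset.prod_insert ha, Finset.sum_insert ha]
    exact (Nat.mul_le_mul (le_maxProdEven _ (h a (Finset.mem_insert_self a s)))
      (ih fun i hi => h i (Finset.mem_insert_of_mem hi))).trans (maxProdEven_super _ _)

/-! ### The orbit bound -/

section Orbits

variable {α : Type*} [Fintype α] (A : Subgroup (Equiv.Perm α))

/-- The orbits of `A`. -/
abbrev Orb : Type _ := MulAction.orbitRel.Quotient A α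

/-- Orbit size. -/
noncomputable def osize (o : Orb A) : ℕ := Nat.card (MulAction.orbit A o.out)

/-- The point stabiliser of the representative of an orbit. -/
noncomputable def stab (o : Orb A) : Subgroup A := MulAction.stabilizer A o.out

theorem index_stab (o : Orb A) : (stab A o).index = osize A o := by
  rw [stab, MulAction.index_stabilizer, osize, Nat.card_coe_set_eq]

theorem sum_osize : ∑ᶠ o : Orb A, osize A o = Nat.card α := by
  classical
  have := Fintype.ofFinite (Orb A)
  rw [finsum_eq_sum_of_fintype, Nat.card_congr (MulAction.selfEquivSigmaOrbits A α), Nat.card_sigma]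
  rfl

theorem mem_rep (x : α) : x ∈ MulAction.orbit A (Quotient.out (Quotient.mk'' x : Orb A)) := by
  have h : (MulAction.orbitRel A α) (Quotient.out (Quotient.mk'' x : Orb A)) x :=
    Quotient.exact' (Quotient.out_eq' _)
  exact MulAction.orbitRel_apply.1 ((MulAction.orbitRel A α).symm' h)

theorem eq_one_of_fixes (hA : ∀ a ∈ A, ∀ b ∈ A, a * b = b * a) {a : A}
    (h : ∀ o : Orb A, a ∈ stab A o) : a = 1 := by
  apply Subtype.ext
  ext x
  obtain ⟨b, hb⟩ := mem_rep A x
  have h1 : (a : Equiv.Perm α) (Quotient.out (Quotient.mk'' x : Orb A)) =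
      Quotient.out (Quotient.mk'' x : Orb A) := h _
  change (a : Equiv.Perm α) x = x
  rw [← hb]
  change ((a : Equiv.Perm α) * (b : Equiv.Perm α)) _ = (b : Equiv.Perm α) _
  rw [hA _ a.2 _ b.2, Equiv.Perm.mul_apply, h1]

theorem fixes_orbit (hA : ∀ a ∈ A, ∀ b ∈ A, a * b = b * a) {a : A} {o : Orb A} (h : a ∈ stab A o)
    {x : α} (hx : x ∈ MulAction.orbit A o.out) : (a : Equiv.Perm α) x = x := by
  obtain ⟨b, rfl⟩ := hx
  have h1 : (a : Equiv.Perm α) o.out = o.out := h
  change ((a : Equiv.Perm α) * (b : Equiv.Perm α)) _ = (b : Equiv.Perm α) _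
  rw [hA _ a.2 _ b.2, Equiv.Perm.mul_apply, h1]

/-- `|A|` divides the product of the orbit sizes; if it is equal and some orbit has size `≡ 2`
mod `4`, then `A` has an odd permutation. -/
theorem card_dvd_prod [DecidableEq α] (hA : ∀ a ∈ A, ∀ b ∈ A, a * b = b * a) :
    Nat.card A ∣ ∏ᶠ o : Orb A, osize A o ∧
      (Nat.card A = ∏ᶠ o : Orb A, osize A o → ∀ o : Orb A, osize A o % 4 = 2 →
        ∃ a ∈ A, Equiv.Perm.sign a = -1) := by
  classical
  have := Fintype.ofFinite (Orb A)
  have hn : ∀ o, (stab A o).Normal := fun o =>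
    ⟨fun n hn g => by
      rwa [show g * n * g⁻¹ = n from by
        rw [show g * n = n * g from Subtype.ext (hA _ g.2 _ n.2), mul_inv_cancel_right]]⟩
  let Φ : A →* ((o : Orb A) → A ⧸ stab A o) := MonoidHom.pi fun o => QuotientGroup.mk' (stab A o)
  have hinj : Function.Injective Φ := by
    rw [injective_iff_map_eq_one]
    intro a ha
    refine eq_one_of_fixes A hA fun o => ?_
    exact (QuotientGroup.eq_one_iff a).1 (congrFun ha o)
  have hcard : Nat.card ((o : Orb A) → A ⧸ stab A o) = ∏ᶠ o : Orb A, osize A o := by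
    rw [Nat.card_pi, finprod_eq_prod_of_fintype]
    exact Finset.prod_congr rfl fun o _ => by
      rw [← index_stab]; rfl
  refine ⟨hcard ▸ ?_, fun heq o ho => ?_⟩
  · rw [Nat.card_congr (MonoidHom.ofInjective hinj).toEquiv]
    exact Subgroup.card_subgroup_dvd_card _
  have hbij : Function.Bijective Φ := hinj.bijective_of_nat_card_le (by rw [hcard, heq])
  -- an element acting as an involution on the orbit `o` and trivially elsewhere
  have h2 : 2 ∣ Nat.card (A ⧸ stab A o) := by
    rw [← Subgroup.index_eq_card, index_stab]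
    omega
  obtain ⟨z, hz⟩ := exists_prime_orderOf_dvd_card' 2 h2
  obtain ⟨a, ha⟩ := hbij.2 (Pi.mulSingle o z)
  have hfix : ∀ o', o' ≠ o → a ∈ stab A o' := fun o' hne =>
    (QuotientGroup.eq_one_iff a).1 ((congrFun ha o').trans (Pi.mulSingle_eq_of_ne (M := fun o => A ⧸ stab A o) hne z))
  have hna : a ∉ stab A o := fun h => by
    have h1 : z = 1 := by
      rw [← Pi.mulSingle_eq_same (M := fun o => A ⧸ stab A o) o z, ← ha]
      exact (QuotientGroup.eq_one_iff a).2 h
    rw [h1, orderOf_one] at hz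
    omega
  have ha2 : a ^ 2 = 1 := by
    apply hbij.1
    rw [map_pow, ha, map_one, ← Pi.mulSingle_pow, ← hz, pow_orderOf_eq_one, Pi.mulSingle_one]
  refine ⟨a, a.2, ?_⟩
  have hsupp : ((a : Equiv.Perm α).support : Set α) = MulAction.orbit A o.out := by
    ext x
    rw [Finset.mem_coe, Equiv.Perm.mem_support]
    constructor
    · intro hx
      by_contra hxo
      apply hx
      have hmem := mem_rep A x
      exact fixes_orbit A hA (hfix _ fun he => hxo (he ▸ hmem)) hmem
    · rintro ⟨b, rfl⟩ hx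
      apply hna
      change (a : Equiv.Perm α) o.out = o.out
      apply (b : Equiv.Perm α).injective
      change ((b : Equiv.Perm α) * (a : Equiv.Perm α)) o.out = (b : Equiv.Perm α) o.out
      rw [hA _ b.2 _ a.2]
      exact hx
  have hc : (a : Equiv.Perm α).support.card = osize A o := by
    rw [osize, ← hsupp, Nat.card_coe_set_eq, Set.ncard_coe_finset]
  have hord : ∀ c ∈ (a : Equiv.Perm α).cycleType, c = 2 := by
    intro c hc'
    have h1 := Equiv.Perm.dvd_of_mem_cycleType hc'
    have h2 : orderOf (a : Equiv.Perm α) ∣ 2 :=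
      orderOf_dvd_of_pow_eq_one (by rw [← Subgroup.coe_pow, ha2, Subgroup.coe_one])
    have h3 := Nat.le_of_dvd two_pos (h1.trans h2)
    have h4 := Equiv.Perm.two_le_of_mem_cycleType hc'
    omega
  rw [Equiv.Perm.sign_of_cycleType]
  have hrep := Multiset.eq_replicate_of_mem hord
  have hs : (a : Equiv.Perm α).cycleType.sum = osize A o := by rw [Equiv.Perm.sum_cycleType, hc]
  rw [hrep] at hs ⊢
  simp only [Multiset.sum_replicate, Multiset.card_replicate, smul_eq_mul] at hs ⊢
  exact Odd.neg_one_pow (Nat.odd_iff.2 (by omega))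

/-- Bound for abelian subgroups of the symmetric group. -/
theorem card_le_maxProd (hA : ∀ a ∈ A, ∀ b ∈ A, a * b = b * a) :
    Nat.card A ≤ maxProd (Nat.card α) := by
  classical
  have := Fintype.ofFinite (Orb A)
  obtain ⟨hd, -⟩ := card_dvd_prod A hA
  rw [← sum_osize A, finsum_eq_sum_of_fintype]
  rw [finprod_eq_prod_of_fintype] at hd
  refine (Nat.le_of_dvd (Finset.prod_pos fun o _ => ?_) hd).trans (prod_le_maxProd _ _)
  rw [← index_stab]
  exact Nat.pos_of_ne_zero Subgroup.index_ne_zero_of_finite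

/-- Bound for abelian subgroups of the alternating group. -/
theorem card_le_of_even [DecidableEq α] (hA : ∀ a ∈ A, ∀ b ∈ A, a * b = b * a)
    (heven : ∀ a ∈ A, Equiv.Perm.sign a = 1) :
    Nat.card A ≤ maxProdEven (Nat.card α) ∨ 2 * Nat.card A ≤ maxProd (Nat.card α) := by
  classical
  have := Fintype.ofFinite (Orb A)
  obtain ⟨hd, hfull⟩ := card_dvd_prod A hA
  rw [← sum_osize A, finsum_eq_sum_of_fintype]
  rw [finprod_eq_prod_of_fintype] at hd hfull
  have hpos : 0 < ∏ o : Orb A, osize A o := Finset.prod_pos fun o _ => by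
    rw [← index_stab]
    exact Nat.pos_of_ne_zero Subgroup.index_ne_zero_of_finite
  by_cases h : ∀ o : Orb A, osize A o ≠ 2
  · exact Or.inl ((Nat.le_of_dvd hpos hd).trans (prod_le_maxProdEven _ _ fun o _ => h o))
  · right
    push Not at h
    obtain ⟨o, ho⟩ := h
    obtain ⟨c, hc⟩ := hd
    have hc2 : 2 ≤ c := by
      rcases Nat.lt_or_ge c 2 with hlt | hge
      · exfalso
        interval_cases c
        · simp [hc] at hpos
        · obtain ⟨a, ha, hs⟩ := hfull (by rw [hc, mul_one]) o (by omega)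
          rw [heven a ha] at hs
          exact absurd hs (by decide)
      · exact hge
    calc 2 * Nat.card A ≤ c * Nat.card A := Nat.mul_le_mul_right _ hc2
      _ = ∏ o : Orb A, osize A o := by rw [hc, mul_comm]
      _ ≤ _ := prod_le_maxProd _ _

end Orbits

/-! ### Examples -/

/-- An abelian subgroup of `Sym(n)` of order `m`, inside `Alt(n)` when `ev`. -/
def HasAb (ev : Prop) (n m : ℕ) : Prop :=
  ∃ A : Subgroup (Equiv.Perm (Fin n)), (∀ a ∈ A, ∀ b ∈ A, a * b = b * a) ∧
    Nat.card A = m ∧ (ev → ∀ a ∈ A, Equiv.Perm.sign a = 1)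

theorem hasAb_zero (ev : Prop) (n : ℕ) : HasAb ev n 1 := by
  refine ⟨⊥, ?_, by simp, ?_⟩
  · simp
  · simp

theorem HasAb.add {ev : Prop} {a b x y : ℕ} (h1 : HasAb ev a x) (h2 : HasAb ev b y) :
    HasAb ev (a + b) (x * y) := by
  obtain ⟨A, hA, cA, sA⟩ := h1
  obtain ⟨B, hB, cB, sB⟩ := h2
  let φ : Equiv.Perm (Fin a) × Equiv.Perm (Fin b) →* Equiv.Perm (Fin (a + b)) :=
    (finSumFinEquiv.permCongrHom.toMonoidHom).comp (Equiv.Perm.sumCongrHom (Fin a) (Fin b))
  have hφ : Function.Injective φ :=
    finSumFinEquiv.permCongrHom.injective.comp Equiv.Perm.sumCongrHom_injective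
  refine ⟨(A.prod B).map φ, ?_, ?_, ?_⟩
  · rintro _ ⟨⟨u, v⟩, ⟨hu, hv⟩, rfl⟩ _ ⟨⟨u', v'⟩, ⟨hu', hv'⟩, rfl⟩
    rw [← map_mul, ← map_mul, Prod.mk_mul_mk, Prod.mk_mul_mk, hA _ hu _ hu', hB _ hv _ hv']
  · rw [← Nat.card_congr ((A.prod B).equivMapOfInjective φ hφ).toEquiv,
      Nat.card_congr (A.prodEquiv B).toEquiv, Nat.card_prod, cA, cB]
  · rintro he _ ⟨⟨u, v⟩, ⟨hu, hv⟩, rfl⟩
    change Equiv.Perm.sign (finSumFinEquiv.permCongr (Equiv.sumCongr u v)) = 1
    rw [Equiv.Perm.sign_permCongr, Equiv.Perm.sign_sumCongr, sA he u hu, sB he v hv, one_mul]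

theorem HasAb.blocks {ev : Prop} {a x : ℕ} (h : HasAb ev a x) :
    ∀ k : ℕ, HasAb ev (a * k) (x ^ k)
  | 0 => by simpa using hasAb_zero ev (a * 0)
  | k + 1 => by
    rw [Nat.mul_succ, pow_succ]
    exact (HasAb.blocks h k).add h

theorem hasAb_two : HasAb False 2 2 :=
  ⟨⊤, fun a _ b _ => (by decide : ∀ a b : Equiv.Perm (Fin 2), a * b = b * a) a b, by
    rw [Subgroup.card_top, Nat.card_perm, Nat.card_fin]; rfl, False.elim⟩

theorem hasAb_three (ev : Prop) : HasAb ev 3 3 := by
  refine ⟨alternatingGroup (Fin 3), ?_, ?_, fun _ a ha => Equiv.Perm.mem_alternatingGroup.1 ha⟩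
  · have key : ∀ a b : Equiv.Perm (Fin 3), Equiv.Perm.sign a = 1 → Equiv.Perm.sign b = 1 →
        a * b = b * a := by decide
    exact fun a ha b hb => key a b (Equiv.Perm.mem_alternatingGroup.1 ha) (Equiv.Perm.mem_alternatingGroup.1 hb)
  · rw [nat_card_alternatingGroup]
    simp [Nat.factorial]

theorem hasAb_four (ev : Prop) : HasAb ev 4 4 := by
  let σ : Equiv.Perm (Fin 4) := Equiv.swap 0 1 * Equiv.swap 2 3
  let τ : Equiv.Perm (Fin 4) := Equiv.swap 0 2 * Equiv.swap 1 3
  let S : Finset (Equiv.Perm (Fin 4)) := {1, σ, τ, σ * τ}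
  have hmul : ∀ x ∈ S, ∀ y ∈ S, x * y ∈ S ∧ x * y = y * x := by decide
  have hinv : ∀ x ∈ S, x⁻¹ ∈ S ∧ Equiv.Perm.sign x = 1 := by decide
  have hcard : S.card = 4 := by decide
  let A : Subgroup (Equiv.Perm (Fin 4)) :=
    { carrier := S
      one_mem' := Finset.mem_insert_self _ _
      mul_mem' := fun hx hy => (hmul _ hx _ hy).1
      inv_mem' := fun hx => (hinv _ hx).1 }
  refine ⟨A, fun a ha b hb => (hmul a ha b hb).2, ?_, fun _ a ha => (hinv a ha).2⟩
  change Nat.card (S : Set (Equiv.Perm (Fin 4))) = 4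
  rw [Nat.card_coe_set_eq, Set.ncard_coe_finset, hcard]

end Cfsg.Agent.AbelianPerm52
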