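import Mathlib

set_option autoImplicit false

/-!
# Inverting an abelian permutation group orbit by orbit
-/

namespace Cfsg.AbelianSylowInversion

open Equiv

/-- An element of order two modulo the centraliser makes `N/C` of even order. -/
theorem two_dvd_index {G : Type*} [Group G] (P : Subgroup G) {τ : G}
    (hN : τ ∈ Subgroup.normalizer (P : Set G)) (hC : τ ∉ Subgroup.centralizer (P : Set G))
    (h2 : τ * τ = 1) :
    2 ∣ ((Subgroup.centralizer (P : Set G)).subgroupOf (Subgroup.normalizer (P : Set G))).index := by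
  set C := (Subgroup.centralizer (P : Set G)).subgroupOf (Subgroup.normalizer (P : Set G)) with hCd
  haveI : C.Normal := by
    refine ⟨fun c hc g => ?_⟩
    rw [hCd, Subgroup.mem_subgroupOf, Subgroup.mem_centralizer_iff] at hc ⊢
    intro x hx
    have hy : (g : G)⁻¹ * x * g ∈ P := by
      have := (Subgroup.mem_normalizer_iff.1 (inv_mem g.2) x).1 hx
      simpa using this
    have e := hc _ hy
    simp only [Subgroup.coe_mul, Subgroup.coe_inv]
    calc x * ((g : G) * c * (g : G)⁻¹) = g * ((g : G)⁻¹ * x * g * c) * (g : G)⁻¹ := by group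
      _ = g * (c * ((g : G)⁻¹ * x * g)) * (g : G)⁻¹ := by rw [e]
      _ = _ := by group
  rw [Subgroup.index_eq_card]
  have ho : orderOf ((⟨τ, hN⟩ : Subgroup.normalizer (P : Set G)) :
      Subgroup.normalizer (P : Set G) ⧸ C) = 2 := by
    refine orderOf_eq_prime ?_ ?_
    · rw [sq, ← QuotientGroup.mk_mul]
      rw [show (⟨τ, hN⟩ : Subgroup.normalizer (P : Set G)) * ⟨τ, hN⟩ = 1 from Subtype.ext h2]
      rfl
    · rw [Ne, QuotientGroup.eq_one_iff]
      exact hC
  rw [← ho]
  exact orderOf_dvd_natCard _

variable {α : Type*} (P : Subgroup (Perm α))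

/-- A representative of the orbit. -/
noncomputable def rep (x : α) : α :=
  (Quotient.mk (MulAction.orbitRel P α) x).out

lemma rep_spec (x : α) : ∃ g ∈ P, g (rep P x) = x := by
  have h : (MulAction.orbitRel P α) (rep P x) x :=
    Quotient.mk_out (s := MulAction.orbitRel P α) x
  obtain ⟨⟨g, hg⟩, hgx⟩ := h
  refine ⟨g⁻¹, inv_mem hg, ?_⟩
  rw [Perm.inv_eq_iff_eq]
  exact hgx.symm

lemma rep_apply {a : Perm α} (ha : a ∈ P) (x : α) : rep P (a x) = rep P x := by
  have : (MulAction.orbitRel P α) (a x) x := ⟨⟨a, ha⟩, rfl⟩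
  unfold rep
  rw [Quotient.sound this]

/-- Invert each orbit about its representative. -/
noncomputable def invFun (x : α) : α := (rep_spec P x).choose⁻¹ (rep P x)

variable (hab : ∀ a ∈ P, ∀ b ∈ P, a * b = b * a)
include hab

lemma invFun_eq {g : Perm α} (hg : g ∈ P) {x : α} (hx : g (rep P x) = x) :
    invFun P x = g⁻¹ (rep P x) := by
  obtain ⟨hk, hkx⟩ := (rep_spec P x).choose_spec
  set k := (rep_spec P x).choose with hkdef
  show k⁻¹ (rep P x) = g⁻¹ (rep P x)
  rw [Perm.inv_eq_iff_eq, ← Perm.mul_apply, ← hab _ (inv_mem hg) _ hk, Perm.mul_apply, hkx,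
    Perm.eq_inv_iff_eq.2 hx]

lemma invFun_apply {a : Perm α} (ha : a ∈ P) (x : α) :
    invFun P (a x) = a⁻¹ (invFun P x) := by
  obtain ⟨g, hg, hgx⟩ := rep_spec P x
  rw [invFun_eq P hab (g := a * g) (mul_mem ha hg) (by rw [rep_apply P ha, Perm.mul_apply, hgx]),
    invFun_eq P hab hg hgx, rep_apply P ha, hab _ ha _ hg, mul_inv_rev, Perm.mul_apply]

lemma rep_invFun (x : α) : rep P (invFun P x) = rep P x := by
  obtain ⟨g, hg, hgx⟩ := rep_spec P x
  rw [invFun_eq P hab hg hgx, rep_apply P (inv_mem hg)]
  conv_rhs => rw [← hgx, rep_apply P hg]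

lemma invFun_invFun (x : α) : invFun P (invFun P x) = x := by
  obtain ⟨g, hg, hgx⟩ := rep_spec P x
  rw [invFun_eq P hab (g := g⁻¹) (inv_mem hg)
    (by rw [rep_invFun P hab, invFun_eq P hab hg hgx]), inv_inv, rep_invFun P hab]
  exact hgx

open Classical in
/-- Inversion on the orbits in the set `S` of representatives. -/
noncomputable def tau (S : Set α) : Perm α :=
  Function.Involutive.toPerm (fun x => if rep P x ∈ S then invFun P x else x) (fun x => by
    by_cases h : rep P x ∈ S
    · simp only [h, if_true, rep_invFun P hab, invFun_invFun P hab]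
    · simp only [h, if_false])

omit hab in
open Classical in
/-- Restriction of an element of `P` to the orbits in `S`. -/
noncomputable def res (S : Set α) : P →* Perm α where
  toFun a :=
    { toFun := fun x => if rep P x ∈ S then (a : Perm α) x else x
      invFun := fun x => if rep P x ∈ S then (a : Perm α)⁻¹ x else x
      left_inv := fun x => by
        by_cases h : rep P x ∈ S
        · simp [h, rep_apply P a.2]
        · simp [h]
      right_inv := fun x => by
        by_cases h : rep P x ∈ S
        · have hh : rep P ((a : Perm α)⁻¹ x) ∈ S := by rw [rep_apply P (inv_mem a.2)]; exact h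
          simp only [h, if_true, hh]
          exact Equiv.apply_symm_apply _ x
        · simp [h] }
  map_one' := by ext x; simp
  map_mul' a b := by
    ext x
    by_cases h : rep P x ∈ S
    · simp [h, rep_apply P b.2]
    · simp [h]

lemma tau_apply (S : Set α) (x : α) [Decidable (rep P x ∈ S)] :
    tau P hab S x = if rep P x ∈ S then invFun P x else x := by
  unfold tau
  change @ite _ _ (Classical.propDecidable _) _ _ = _
  congr 1

lemma tau_sq (S : Set α) : tau P hab S * tau P hab S = 1 := by
  ext x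
  rw [Perm.mul_apply, Perm.one_apply]
  unfold tau
  exact Function.Involutive.toPerm_involutive _ x

omit hab in
lemma res_apply (S : Set α) (a : P) (x : α) [Decidable (rep P x ∈ S)] :
    res P S a x = if rep P x ∈ S then (a : Perm α) x else x := by
  unfold res
  simp only [MonoidHom.coe_mk, OneHom.coe_mk, coe_fn_mk]
  split_ifs with h <;> rfl

lemma conj_tau (S : Set α) (a : P) :
    tau P hab S * (a : Perm α) * tau P hab S = (a : Perm α) * (res P S a)⁻¹ * (res P S a)⁻¹ := by
  classical
  ext x
  simp only [Perm.mul_apply]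
  rw [← map_inv, res_apply P S a⁻¹ x]
  by_cases h : rep P x ∈ S
  · rw [if_pos h, res_apply, rep_apply P (a⁻¹).2, if_pos h, tau_apply P hab S x, if_pos h,
      tau_apply P hab S, if_pos (by rw [rep_apply P a.2, rep_invFun P hab]; exact h),
      invFun_apply P hab a.2, invFun_invFun P hab]
    simp
  · rw [if_neg h, res_apply, if_neg h, tau_apply P hab S x, if_neg h, tau_apply P hab S,
      if_neg (by rwa [rep_apply P a.2])]

lemma res_univ (a : P) : res P Set.univ a = (a : Perm α) := by
  classical
  ext x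
  rw [res_apply]
  simp

lemma tau_mul_compl (S : Set α) :
    tau P hab Set.univ = tau P hab S * tau P hab Sᶜ := by
  classical
  ext x
  rw [Perm.mul_apply, tau_apply, if_pos (Set.mem_univ _), tau_apply P hab Sᶜ x]
  by_cases h : rep P x ∈ S
  · rw [if_neg (by simpa using h), tau_apply, if_pos h]
  · rw [if_pos (by simpa using h), tau_apply, if_neg (by rwa [rep_invFun P hab])]

variable {p : ℕ} [hp : Fact p.Prime] (hp2 : p ≠ 2) (hPp : IsPGroup p P)
include hp2 hPp

lemma not_commute_tau (S : Set α) {a : P} {x : α} (hx : rep P x ∈ S) (hax : (a : Perm α) x ≠ x) :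
    tau P hab S * (a : Perm α) ≠ (a : Perm α) * tau P hab S := by
  classical
  intro h
  obtain ⟨k, hk⟩ := hPp a
  have e : tau P hab S * (a : Perm α) * tau P hab S = a := by
    rw [h, mul_assoc, tau_sq, mul_one]
  rw [conj_tau, mul_assoc, mul_eq_left, ← mul_inv_rev, inv_eq_one, ← map_mul] at e
  have e' := congrArg (fun f : Perm α => f x) e
  simp only [res_apply, if_pos hx, Perm.one_apply] at e'
  apply hax
  have hodd : Odd (p ^ k) := (hp.out.odd_of_ne_two hp2).pow
  obtain ⟨m, hm⟩ := hodd
  have hfix : ((a : Perm α) * a) ∈ MulAction.stabilizer (Perm α) x := e'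
  have h1 : (a : Perm α) ^ (2 * m) ∈ MulAction.stabilizer (Perm α) x := by
    rw [pow_mul, sq]
    exact pow_mem hfix m
  have h2 : (a : Perm α) ^ (2 * m) * a = 1 := by
    rw [← pow_succ, ← hm, ← Subgroup.coe_pow, hk]; rfl
  have h3 : (a : Perm α) = ((a : Perm α) ^ (2 * m))⁻¹ := eq_inv_of_mul_eq_one_right h2
  have h4 := inv_mem h1
  rw [← h3] at h4
  exact h4

/-- Maximality makes the orbit restrictions elements of `P`. -/
lemma res_mem (hmax : ∀ Q : Subgroup (Perm α), IsPGroup p Q → P ≤ Q → Q = P) (S : Set α) (a : P) :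
    res P S a ∈ P := by
  classical
  have hc : ∀ b c : P, Commute (b : Perm α) (res P S c) := by
    intro b c
    ext x
    simp only [Perm.mul_apply, res_apply]
    rw [rep_apply P b.2]
    by_cases h : rep P x ∈ S
    · rw [if_pos h, if_pos h, ← Perm.mul_apply, hab _ b.2 _ c.2, Perm.mul_apply]
    · rw [if_neg h, if_neg h]
  let f : P × P →* Perm α := P.subtype.noncommCoprod (res P S) hc
  have hf : IsPGroup p f.range := by
    rintro ⟨_, ⟨b, c⟩, rfl⟩
    obtain ⟨i, hi⟩ := hPp b
    obtain ⟨j, hj⟩ := hPp c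
    refine ⟨i + j, Subtype.ext ?_⟩
    show f (b, c) ^ p ^ (i + j) = 1
    rw [← map_pow, Prod.pow_mk, pow_add, pow_mul, hi, one_pow]
    rw [mul_comm, pow_mul, hj, one_pow]
    exact map_one f
  have := hmax f.range hf (fun b hb => ⟨(⟨b, hb⟩, 1), by
    show b * res P S 1 = b
    rw [map_one, mul_one]⟩)
  have h : res P S a ∈ f.range := ⟨(1, a), one_mul (res P S a)⟩
  rwa [this] at h

lemma tau_mem_normalizer (hmax : ∀ Q : Subgroup (Perm α), IsPGroup p Q → P ≤ Q → Q = P)
    (S : Set α) : tau P hab S ∈ Subgroup.normalizer (P : Set (Perm α)) := by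
  have hinv : (tau P hab S)⁻¹ = tau P hab S := inv_eq_of_mul_eq_one_right (tau_sq P hab S)
  have key : ∀ a ∈ P, tau P hab S * a * tau P hab S ∈ P := by
    intro a ha
    rw [show a = ((⟨a, ha⟩ : P) : Perm α) from rfl, conj_tau]
    exact mul_mem (mul_mem ha (inv_mem (res_mem P hab hp2 hPp hmax S _)))
      (inv_mem (res_mem P hab hp2 hPp hmax S _))
  rw [Subgroup.mem_normalizer_iff]
  intro a
  rw [hinv]
  refine ⟨key a, fun h => ?_⟩
  have := key _ h
  have e : tau P hab S * (tau P hab S * a * tau P hab S) * tau P hab S = a := by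
    simp only [← mul_assoc, tau_sq, one_mul]
    rw [mul_assoc, tau_sq, mul_one]
  rwa [e] at this

end Cfsg.AbelianSylowInversion
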