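import Mathlib
import Cfsg.Agent.Lib.PGroupsBasic

/-!
Abelian `p`-groups generated by two elements: the homocyclic case, and the automorphisms of order
`p` of homocyclic groups of rank two for `p ≥ 5`.
-/

set_option autoImplicit false

namespace Cfsg.Agent.AbelianTwoGen88

open Subgroup
open Cfsg.Agent

variable {G : Type*} [CommGroup G] [Finite G] {p : ℕ} [hp : Fact p.Prime]

theorem frattini_eq_range (hG : IsPGroup p G) : frattini G = (powMonoidHom p : G →* G).range := by
  refine le_antisymm (PGroupsBasic.frattini_le_of_elementary_quotient (p := p) ?_ fun x => ⟨x, rfl⟩)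
    ?_
  · refine Subgroup.commutator_le.2 fun a _ b _ => ?_
    rw [commutatorElement_eq_one_iff_mul_comm.2 (mul_comm a b)]
    exact one_mem _
  · rintro _ ⟨x, rfl⟩
    exact PGroupsBasic.pow_mem_frattini hG x

theorem exists_min_exponent (hG : IsPGroup p G) :
    ∃ k : ℕ, (∀ x : G, x ^ p ^ k = 1) ∧ ∀ j < k, ∃ x : G, x ^ p ^ j ≠ 1 := by
  classical
  obtain ⟨n, hn⟩ := IsPGroup.iff_card.1 hG
  have hex : ∃ k, ∀ x : G, x ^ p ^ k = 1 := ⟨n, fun x => hn ▸ pow_card_eq_one'⟩
  refine ⟨Nat.find hex, Nat.find_spec hex, fun j hj => ?_⟩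
  simpa [not_forall] using Nat.find_min hex hj

/-- The elements killed by `p ^ k` when the exponent is `p ^ (k + 1)`. -/
theorem frattini_le_ker (hG : IsPGroup p G) {k : ℕ} (hk : ∀ x : G, x ^ p ^ (k + 1) = 1) :
    frattini G ≤ (powMonoidHom (p ^ k) : G →* G).ker := by
  rw [frattini_eq_range hG]
  rintro _ ⟨x, rfl⟩
  show (x ^ p) ^ p ^ k = 1
  rw [← pow_mul, ← pow_succ', hk]

theorem characteristic_ker (n : ℕ) : (powMonoidHom n : G →* G).ker.Characteristic := by
  refine characteristic_iff_map_le.2 fun φ => ?_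
  rintro _ ⟨x, hx, rfl⟩
  show (φ x) ^ n = 1
  rw [← map_pow, show x ^ n = 1 from hx, map_one]

theorem card_range_mul (hG : IsPGroup p G) {k : ℕ}
    (hk : ∀ x : G, x ^ p ^ (k + 1) = 1) (i : ℕ) (hi : i ≤ k) :
    Nat.card (powMonoidHom (p ^ k) : G →* G).range *
        Nat.card (powMonoidHom (p ^ (i + 1)) : G →* G).range ≤
      Nat.card (powMonoidHom (p ^ i) : G →* G).range := by
  have _ := hG
  set R := (powMonoidHom (p ^ i) : G →* G).range with hR
  set f : R →* G := (powMonoidHom p).comp R.subtype with hf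
  have hrange : f.range = (powMonoidHom (p ^ (i + 1)) : G →* G).range := by
    ext y
    constructor
    · rintro ⟨⟨_, x, rfl⟩, rfl⟩
      exact ⟨x, by simp [hf, ← pow_mul, ← pow_succ]⟩
    · rintro ⟨x, rfl⟩
      exact ⟨⟨x ^ p ^ i, x, rfl⟩, by simp [hf, ← pow_mul, ← pow_succ]⟩
  have hle : (powMonoidHom (p ^ k) : G →* G).range ≤ R := by
    rintro _ ⟨x, rfl⟩
    refine ⟨x ^ p ^ (k - i), ?_⟩
    show (x ^ p ^ (k - i)) ^ p ^ i = x ^ p ^ k
    rw [← pow_mul, ← pow_add, Nat.sub_add_cancel hi]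
  have hker : (powMonoidHom (p ^ k) : G →* G).range.subgroupOf R ≤ f.ker := by
    rintro ⟨y, hy⟩ hyk
    obtain ⟨x, rfl⟩ := hyk
    show (x ^ p ^ k) ^ p = 1
    rw [← pow_mul, ← pow_succ, hk]
  have h1 := f.ker.card_mul_index
  rw [index_ker, hrange] at h1
  rw [← h1]
  refine Nat.mul_le_mul_right _ ((le_of_eq ?_).trans (card_le_of_le hker))
  exact (Nat.card_congr (subgroupOfEquivOfLe hle).toEquiv).symm

theorem pow_le_card (hG : IsPGroup p G) {k : ℕ} (hk : ∀ x : G, x ^ p ^ (k + 1) = 1)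
    (h2 : p ^ 2 ≤ Nat.card (powMonoidHom (p ^ k) : G →* G).range) :
    p ^ (2 * (k + 1)) ≤ Nat.card G := by
  have key : ∀ j ≤ k + 1,
      p ^ (2 * j) ≤ Nat.card (powMonoidHom (p ^ (k + 1 - j)) : G →* G).range := by
    intro j
    induction j with
    | zero => intro _; simp [Nat.one_le_iff_ne_zero, Nat.card_pos.ne']
    | succ j ih =>
      intro hj
      have h := card_range_mul hG hk (k + 1 - (j + 1)) (by omega)
      rw [show k + 1 - (j + 1) + 1 = k + 1 - j by omega] at h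
      calc p ^ (2 * (j + 1)) = p ^ 2 * p ^ (2 * j) := by ring
        _ ≤ _ := (Nat.mul_le_mul h2 (ih (by omega))).trans h
  refine (key (k + 1) le_rfl).trans ?_
  exact Nat.le_of_dvd Nat.card_pos (card_subgroup_dvd_card _)

/-- The hom `ZMod m →+ Additive G` sending `1` to an element killed by `m`. -/
def zmodPow (x : G) (m : ℕ) (hm : x ^ m = 1) : ZMod m →+ Additive G :=
  ZMod.lift m ⟨zmultiplesHom (Additive G) (Additive.ofMul x), by
    simp only [zmultiplesHom_apply, natCast_zsmul, ← ofMul_pow, hm, ofMul_one]⟩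

theorem zmodPow_one (x : G) (m : ℕ) (hm : x ^ m = 1) : zmodPow x m hm 1 = Additive.ofMul x := by
  rw [zmodPow, ← Int.cast_one (R := ZMod m), ZMod.lift_coe]
  simp

/-- The structure of a two-generated abelian group of exponent `p ^ (k + 1)` whose socle layer
`G ^ (p ^ k)` has order `p ^ 2`. -/
theorem homocyclic (hG : IsPGroup p G) (hrk : (frattini G).index = p ^ 2) {k : ℕ}
    (hk : ∀ x : G, x ^ p ^ (k + 1) = 1)
    (h2 : p ^ 2 ≤ Nat.card (powMonoidHom (p ^ k) : G →* G).range) :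
    Nonempty (G ≃* Multiplicative (ZMod (p ^ (k + 1)) × ZMod (p ^ (k + 1)))) := by
  classical
  haveI := Fintype.ofFinite G
  obtain ⟨T, -, hT, hTc⟩ := PGroupsBasic.exists_basis_subset hG (Finset.univ : Finset G) (by simp)
  rw [hrk] at hT
  obtain ⟨a, b, -, rfl⟩ := Finset.card_eq_two.1 (Nat.pow_right_injective hp.out.two_le hT)
  let f : Multiplicative (ZMod (p ^ (k + 1)) × ZMod (p ^ (k + 1))) →* G :=
    AddMonoidHom.toMultiplicativeLeft
      ((zmodPow a _ (hk a)).coprod (zmodPow b _ (hk b)))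
  have ha : a ∈ f.range := ⟨Multiplicative.ofAdd (1, 0), by
    simp [f, AddMonoidHom.toMultiplicativeLeft, zmodPow_one]⟩
  have hb : b ∈ f.range := ⟨Multiplicative.ofAdd (0, 1), by
    simp [f, AddMonoidHom.toMultiplicativeLeft, zmodPow_one]⟩
  have hsurj : Function.Surjective f := by
    rw [← MonoidHom.range_eq_top, eq_top_iff, ← hTc, closure_le]
    rintro y hy
    rcases (by simpa using hy : y = a ∨ y = b) with rfl | rfl
    exacts [ha, hb]
  haveI : NeZero (p ^ (k + 1)) := ⟨pow_ne_zero _ hp.out.ne_zero⟩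
  have hcard : Nat.card (Multiplicative (ZMod (p ^ (k + 1)) × ZMod (p ^ (k + 1)))) = Nat.card G := by
    refine le_antisymm ?_ (Nat.card_le_card_of_surjective f hsurj)
    refine (le_of_eq ?_).trans (pow_le_card hG hk h2)
    simp [Nat.card_congr Multiplicative.toAdd, ← pow_add, two_mul]
  exact ⟨(MulEquiv.ofBijective f ((Nat.bijective_iff_surjective_and_card f).2 ⟨hsurj, hcard⟩)).symm⟩

/-- In that situation every element of order `p` is a `p`-th power when the exponent exceeds `p`. -/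
theorem omega_le_frattini (hG : IsPGroup p G) (hrk : (frattini G).index = p ^ 2) {k : ℕ}
    (hk0 : k ≠ 0) (hk : ∀ x : G, x ^ p ^ (k + 1) = 1)
    (h2 : p ^ 2 ≤ Nat.card (powMonoidHom (p ^ k) : G →* G).range) {x : G} (hx : x ^ p = 1) :
    x ∈ frattini G := by
  rw [frattini_eq_range hG] at hrk ⊢
  have h3 : Nat.card (powMonoidHom p : G →* G).ker = p ^ 2 := by
    have h := (powMonoidHom p : G →* G).ker.card_mul_index
    rw [index_ker] at h
    have h' := (powMonoidHom p : G →* G).range.card_mul_index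
    rw [hrk, mul_comm] at h'
    exact Nat.eq_of_mul_eq_mul_right Nat.card_pos (h.trans h'.symm)
  have hle : (powMonoidHom (p ^ k) : G →* G).range ≤ (powMonoidHom p : G →* G).ker := by
    rintro _ ⟨y, rfl⟩
    show (y ^ p ^ k) ^ p = 1
    rw [← pow_mul, ← pow_succ, hk]
  have heq := Subgroup.eq_of_le_of_card_ge hle (h3 ▸ h2)
  obtain ⟨y, hy⟩ : x ∈ (powMonoidHom (p ^ k) : G →* G).range := heq ▸ (show x ∈ (powMonoidHom p : G →* G).ker from hx)
  refine ⟨y ^ p ^ (k - 1), ?_⟩
  show (y ^ p ^ (k - 1)) ^ p = x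
  rw [← pow_mul, ← pow_succ, Nat.sub_add_cancel (Nat.one_le_iff_ne_zero.2 hk0)]
  exact hy

/-- For `p ≥ 5`, an automorphism of order dividing `p` which is unipotent of class two modulo the
Frattini subgroup acts trivially modulo it, when all elements of order `p` are `p`-th powers. -/
theorem trivial_mod_frattini (hG : IsPGroup p G) (h5 : 5 ≤ p)
    (hom : ∀ x : G, x ^ p = 1 → x ∈ frattini G) (α : MulAut G) (hα : α ^ p = 1)
    (h2 : ∀ x : G, (x⁻¹ * α x)⁻¹ * α (x⁻¹ * α x) ∈ frattini G) (x : G) :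
    x⁻¹ * α x ∈ frattini G := by
  let δ : G →* G := MonoidHom.mk' (fun y => y⁻¹ * α y) fun a b => by
    simp only [map_mul, mul_inv]
    exact mul_mul_mul_comm _ _ _ _
  have hfr := frattini_eq_range (p := p) hG
  have hd2 : ∀ y, δ (δ y) ∈ frattini G := h2
  have hd3 : δ (δ (δ x)) ∈ frattini G := hd2 (δ x)
  set Q := (powMonoidHom (p * p) : G →* G).range with hQ
  have hd4 : δ (δ (δ (δ x))) ∈ Q := by
    obtain ⟨w, hw⟩ := hfr ▸ hd2 x
    obtain ⟨v, hv⟩ := hfr ▸ hd2 w
    change w ^ p = _ at hw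
    change v ^ p = _ at hv
    refine ⟨v, ?_⟩
    show v ^ (p * p) = _
    rw [pow_mul, hv, ← map_pow, ← map_pow, hw]
  have hQδ : ∀ y ∈ Q, δ y ∈ Q := by
    rintro _ ⟨w, rfl⟩
    exact ⟨δ w, (map_pow δ w (p * p)).symm⟩
  let π := QuotientGroup.mk' Q
  have hπδ : ∀ a b : G, π a = π b → π (δ a) = π (δ b) := by
    intro a b h
    refine QuotientGroup.eq.2 ?_
    rw [← map_inv, ← map_mul]
    exact hQδ _ (QuotientGroup.eq.1 h)
  have form : ∀ n : ℕ, π ((α ^ n) x) =
      π (x * δ x ^ n * δ (δ x) ^ n.choose 2 * δ (δ (δ x)) ^ n.choose 3) := by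
    intro n
    induction n with
    | zero => simp
    | succ n ih =>
      have e : (α ^ (n + 1)) x = (α ^ n) x * δ ((α ^ n) x) := by
        rw [pow_succ', MulAut.mul_apply]
        exact (mul_inv_cancel_left _ _).symm
      have h4 : π (δ (δ (δ (δ x)))) = 1 := (QuotientGroup.eq_one_iff _).2 hd4
      rw [e, map_mul, hπδ _ _ ih, ih, Nat.choose_succ_succ n 1, Nat.choose_succ_succ n 2,
        Nat.choose_one_right]
      simp only [map_mul, map_pow, h4, one_pow, mul_one, pow_succ, pow_add, Nat.succ_eq_add_one,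
        Nat.reduceAdd]
      ac_rfl
  have hpQ : ∀ y ∈ frattini G, ∀ m, p ∣ m → π (y ^ m) = 1 := by
    rintro y hy m ⟨j, rfl⟩
    obtain ⟨w, rfl⟩ := hfr ▸ hy
    refine (QuotientGroup.eq_one_iff _).2 ⟨w ^ j, ?_⟩
    show (w ^ j) ^ (p * p) = (w ^ p) ^ (p * j)
    rw [← pow_mul, ← pow_mul]
    ring_nf
  have h := form p
  rw [hα, MulAut.one_apply, map_mul, map_mul, map_mul,
    hpQ _ (hd2 x) _ (hp.out.dvd_choose_self two_ne_zero (by omega)),
    hpQ _ hd3 _ (hp.out.dvd_choose_self three_ne_zero (by omega)), mul_one, mul_one,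
    left_eq_mul] at h
  obtain ⟨w, hw⟩ := (QuotientGroup.eq_one_iff _).1 h
  change w ^ (p * p) = δ x ^ p at hw
  have h1 : (δ x / w ^ p) ^ p = 1 := by rw [div_pow, ← pow_mul, hw, div_self']
  have h2 : w ^ p ∈ frattini G := PGroupsBasic.pow_mem_frattini hG w
  show δ x ∈ frattini G
  simpa using mul_mem (hom _ h1) h2

end Cfsg.Agent.AbelianTwoGen88
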