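import Mathlib
import Cfsg.Prelude.Def_Sporadic_a

namespace Cfsg.Agent.AbstractGolay

open Finset

abbrev V := Fin 24 → ZMod 2

/-- Indicator word of a set. -/
def ind (s : Finset (Fin 24)) : V := fun i => if i ∈ s then 1 else 0

/-- Support of a word. -/
def sup (w : V) : Finset (Fin 24) := univ.filter fun i => w i ≠ 0

theorem z2 (a : ZMod 2) : a = 0 ∨ a = 1 := by revert a; decide

theorem sup_ind (s : Finset (Fin 24)) : sup (ind s) = s := by
  ext i; simp [sup, ind]

theorem ind_sup (w : V) : ind (sup w) = w := by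
  funext i; rcases z2 (w i) with h | h <;> simp [sup, ind, h]

theorem norm_eq (w : V) : hammingNorm w = (sup w).card := rfl

theorem sup_sub (u v : V) : sup (u - v) = symmDiff (sup u) (sup v) := by
  ext i
  rcases z2 (u i) with hu | hu <;> rcases z2 (v i) with hv | hv <;>
    simp [sup, Finset.mem_symmDiff, hu, hv]

theorem card_sub (u v : V) :
    (sup (u - v)).card + 2 * (sup u ∩ sup v).card = (sup u).card + (sup v).card := by
  rw [sup_sub]
  have h : symmDiff (sup u) (sup v) = (sup u ∪ sup v) \ (sup u ∩ sup v) := by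
    ext i; simp only [mem_symmDiff, mem_sdiff, mem_union, mem_inter]; tauto
  rw [h, card_sdiff_of_subset (inter_subset_left.trans subset_union_left)]
  have := card_union_add_card_inter (sup u) (sup v)
  have := card_le_card (inter_subset_left.trans subset_union_left : sup u ∩ sup v ⊆ sup u ∪ sup v)
  omega

theorem dot_eq (u v : V) : ∑ i, u i * v i = ((sup u ∩ sup v).card : ZMod 2) := by
  rw [Finset.card_eq_sum_ones, Nat.cast_sum]
  have h : sup u ∩ sup v = univ.filter fun i => u i ≠ 0 ∧ v i ≠ 0 := by ext i; simp [sup]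
  rw [h, Finset.sum_filter]
  refine Finset.sum_congr rfl fun i _ => ?_
  rcases z2 (u i) with hu | hu <;> rcases z2 (v i) with hv | hv <;> simp [hu, hv]

/-- Sets with at most three elements away from the point `p`. -/
def reps (p : Fin 24) : Finset (Finset (Fin 24)) :=
  ((range 4).biUnion fun k => (univ.erase p).powersetCard k) ∪
    ((range 4).biUnion fun k => (univ.erase p).powersetCard k).image (insert p)

theorem mem_reps {p : Fin 24} {s : Finset (Fin 24)} (h : s ∈ reps p) : (s.erase p).card ≤ 3 := by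
  simp only [reps, mem_union, mem_biUnion, mem_image, mem_range, mem_powersetCard] at h
  rcases h with ⟨k, hk, hs, rfl⟩ | ⟨r, ⟨k, hk, hr, rfl⟩, rfl⟩
  · exact (card_le_card (erase_subset _ _)).trans (by omega)
  · rw [erase_insert_eq_erase]
    exact (card_le_card (erase_subset _ _)).trans (by omega)

theorem card_reps (p : Fin 24) : (reps p).card = 4096 := by
  set A := (range 4).biUnion fun k => (univ.erase p).powersetCard k with hA
  have hp : ∀ s ∈ A, p ∉ s := by
    intro s hs
    simp only [hA, mem_biUnion, mem_powersetCard] at hs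
    obtain ⟨k, -, hs, -⟩ := hs
    exact fun h => notMem_erase p univ (hs h)
  have hcA : A.card = 2048 := by
    rw [hA, card_biUnion ?_]
    · simp only [card_powersetCard, card_erase_of_mem (mem_univ p), card_univ, Fintype.card_fin]
      decide
    · intro a _ b _ hab
      exact (pairwise_disjoint_powersetCard (univ.erase p)) hab
  have hinj : Set.InjOn (insert p) (A : Set (Finset (Fin 24))) := by
    intro a ha b hb h
    rw [← erase_insert (hp a ha), h, erase_insert (hp b hb)]
  have hd : Disjoint A (A.image (insert p)) := by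
    rw [disjoint_left]
    intro s hs hs'
    obtain ⟨r, -, rfl⟩ := mem_image.1 hs'
    exact hp _ hs (mem_insert_self _ _)
  rw [reps, card_union_of_disjoint hd, card_image_of_injOn hinj, hcA]

variable {C : Submodule (ZMod 2) V}

/-- The hypotheses. -/
structure IsGolay (C : Submodule (ZMod 2) V) : Prop where
  dim : Module.finrank (ZMod 2) C = 12
  orth : ∀ v ∈ C, ∀ w ∈ C, ∑ i, v i * w i = 0
  min : ∀ w ∈ C, w ≠ 0 → 8 ≤ hammingNorm w

theorem IsGolay.card_quot (h : IsGolay C) : Nat.card (V ⧸ C) = 4096 := by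
  haveI : Module.Finite (ZMod 2) (V ⧸ C) := inferInstance
  have h1 := Submodule.finrank_quotient_add_finrank C
  rw [Module.finrank_fin_fun, h.dim] at h1
  rw [Module.natCard_eq_pow_finrank (K := ZMod 2), show Module.finrank (ZMod 2) (V ⧸ C) = 12 by omega,
    Nat.card_zmod]
  norm_num

theorem IsGolay.inter_even (h : IsGolay C) {u v : V} (hu : u ∈ C) (hv : v ∈ C) :
    2 ∣ (sup u ∩ sup v).card := by
  have := h.orth u hu v hv
  rw [dot_eq] at this
  exact (ZMod.natCast_eq_zero_iff _ 2).1 this

theorem IsGolay.even (h : IsGolay C) {u : V} (hu : u ∈ C) : 2 ∣ (sup u).card := by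
  simpa using h.inter_even hu hu

theorem IsGolay.eq_of_close (h : IsGolay C) {u v : V} (huv : u - v ∈ C)
    (hc : (sup (u - v)).card < 8) : u = v := by
  by_contra hne
  have := h.min _ huv (sub_ne_zero.2 hne)
  rw [norm_eq] at this
  omega

/-- Every coset has a member with at most three points away from any given point. -/
theorem IsGolay.leader (h : IsGolay C) (p : Fin 24) (x : V) :
    ∃ u : V, u - x ∈ C ∧ ((sup u).erase p).card ≤ 3 := by
  classical
  haveI : Fintype (V ⧸ C) := Fintype.ofFinite _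
  let f : {s // s ∈ reps p} → V ⧸ C := fun s => Submodule.Quotient.mk (ind s.1)
  have hinj : Function.Injective f := by
    rintro ⟨s, hs⟩ ⟨t, ht⟩ hst
    have hm : ind s - ind t ∈ C := (Submodule.Quotient.eq C).1 hst
    refine Subtype.ext ?_
    show s = t
    rw [← sup_ind s, ← sup_ind t, h.eq_of_close hm]
    have hle : sup (ind s - ind t) ⊆ insert p (s.erase p ∪ t.erase p) := by
      intro i hi
      rw [sup_sub, sup_ind, sup_ind, mem_symmDiff] at hi
      simp only [mem_insert, mem_union, mem_erase]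
      by_cases hip : i = p
      · exact Or.inl hip
      · tauto
    have h1 := card_le_card hle
    have h2 := card_insert_le p (s.erase p ∪ t.erase p)
    have h3 := card_union_le (s.erase p) (t.erase p)
    have h4 := mem_reps hs
    have h5 := mem_reps ht
    omega
  have hbij : Function.Bijective f :=
    (Nat.bijective_iff_injective_and_card f).2
      ⟨hinj, by rw [Nat.card_eq_fintype_card, Fintype.card_coe, card_reps, h.card_quot]⟩
  obtain ⟨⟨s, hs⟩, hf⟩ := hbij.2 (Submodule.Quotient.mk x)
  exact ⟨ind s, (Submodule.Quotient.eq C).1 hf, by rw [sup_ind]; exact mem_reps hs⟩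

theorem IsGolay.octad_exists (h : IsGolay C) (s : Finset (Fin 24)) (hs : s.card = 5) :
    ∃ c ∈ C, (sup c).card = 8 ∧ s ⊆ sup c := by
  obtain ⟨p, hp⟩ := card_pos.1 (show 0 < s.card by omega)
  obtain ⟨u, hu, hu3⟩ := h.leader p (ind s)
  refine ⟨ind s - u, by rw [← neg_sub]; exact C.neg_mem hu, ?_⟩
  have hu4 : (sup u).card ≤ 4 := by
    have h1 := card_insert_le p ((sup u).erase p)
    have h2 : sup u ⊆ insert p ((sup u).erase p) := fun i hi => by
      by_cases hip : i = p <;> simp [hip, hi]
    have := card_le_card h2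
    omega
  have hne : ind s - u ≠ 0 := by
    intro h0
    have : u = ind s := (sub_eq_zero.1 h0).symm
    rw [this, sup_ind, card_erase_of_mem hp] at hu3
    omega
  have hcm : ind s - u ∈ C := by rw [← neg_sub]; exact C.neg_mem hu
  have h8 := h.min _ hcm hne
  rw [norm_eq] at h8
  have hd := card_sub (ind s) u
  rw [sup_ind, hs] at hd
  have hev := h.even hcm
  refine ⟨by omega, ?_⟩
  have hz : (s ∩ sup u).card = 0 := by omega
  rw [sup_sub, sup_ind]
  intro i hi
  rw [mem_symmDiff]
  exact Or.inl ⟨hi, fun hiu => by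
    have := card_eq_zero.1 hz
    exact notMem_empty i (this ▸ mem_inter.2 ⟨hi, hiu⟩)⟩

theorem IsGolay.octad_unique (h : IsGolay C) {c d : V} (hc : c ∈ C) (hd : d ∈ C)
    (hc8 : (sup c).card = 8) (hd8 : (sup d).card = 8) {s : Finset (Fin 24)} (hs : s.card = 5)
    (h1 : s ⊆ sup c) (h2 : s ⊆ sup d) : c = d := by
  refine h.eq_of_close (C.sub_mem hc hd) ?_
  have := card_sub c d
  have := card_le_card (subset_inter h1 h2)
  omega

theorem IsGolay.steiner (h : IsGolay C) :
    Cfsg.IsSteinerSystem 5 8 (Cfsg.wordsOfWeight (C : Set V) 8) := by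
  refine ⟨fun b hb => hb.2, fun s hs => ?_⟩
  obtain ⟨c, hc, hc8, hsc⟩ := h.octad_exists s hs
  refine ⟨sup c, ⟨⟨⟨c, hc, rfl⟩, hc8⟩, hsc⟩, ?_⟩
  rintro b ⟨⟨⟨d, hd, rfl⟩, hd8⟩, hsd⟩
  show sup d = sup c
  rw [h.octad_unique hd hc hd8 hc8 hs hsd hsc]

/-- Induction over the code by adding octads. -/
theorem IsGolay.induction (h : IsGolay C) (P : V → Prop) (h0 : P 0)
    (hstep : ∀ c ∈ C, ∀ o ∈ C, (sup o).card = 8 → P (c - o) → P c) : ∀ c ∈ C, P c := by
  suffices ∀ n, ∀ c ∈ C, (sup c).card ≤ n → P c from fun c hc => this _ c hc le_rfl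
  intro n
  induction n with
  | zero =>
    intro c hc hn
    have h00 : sup c = ∅ := card_eq_zero.1 (Nat.le_zero.1 hn)
    rw [← ind_sup c, h00]
    convert h0
    funext i; simp [ind]
  | succ n ih =>
    intro c hc hn
    by_cases hc0 : c = 0
    · exact hc0 ▸ h0
    have h8 := h.min c hc hc0
    rw [norm_eq] at h8
    obtain ⟨s, hs, hs5⟩ := exists_subset_card_eq (show 5 ≤ (sup c).card by omega)
    obtain ⟨o, ho, ho8, hso⟩ := h.octad_exists s hs5
    refine hstep c hc o ho ho8 (ih _ (C.sub_mem hc ho) ?_)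
    have := card_sub c o
    have := card_le_card (subset_inter hs hso)
    omega

theorem IsGolay.doubly_even (h : IsGolay C) : ∀ c ∈ C, 4 ∣ (sup c).card := by
  apply h.induction
  · simp [sup]
  · intro c hc o ho ho8 hco
    have := card_sub c o
    have := h.inter_even hc ho
    omega

theorem IsGolay.span_octads (h : IsGolay C) :
    Submodule.span (ZMod 2) {w : V | w ∈ C ∧ hammingNorm w = 8} = C := by
  refine le_antisymm (Submodule.span_le.2 fun w hw => hw.1) ?_
  show ∀ c ∈ C, c ∈ Submodule.span (ZMod 2) {w : V | w ∈ C ∧ hammingNorm w = 8}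
  apply h.induction
  · exact Submodule.zero_mem _
  · intro c _ o ho ho8 hco
    have : c = (c - o) + o := (sub_add_cancel _ _).symm
    rw [this]
    exact Submodule.add_mem _ hco (Submodule.subset_span ⟨ho, ho8⟩)

/-- The members of weight at most four of a coset. -/
theorem IsGolay.coset (h : IsGolay C) (w : V) :
    (∃ u : V, {u : V | u - w ∈ C ∧ hammingNorm u ≤ 4} = {u} ∧ hammingNorm u ≤ 3) ∨
    ({u : V | u - w ∈ C ∧ hammingNorm u ≤ 4}.ncard = 6 ∧
      ∀ u ∈ {u : V | u - w ∈ C ∧ hammingNorm u ≤ 4}, hammingNorm u = 4 ∧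
        ∀ u' ∈ {u : V | u - w ∈ C ∧ hammingNorm u ≤ 4}, u ≠ u' → Disjoint (sup u) (sup u')) := by
  classical
  set S := {u : V | u - w ∈ C ∧ hammingNorm u ≤ 4} with hS
  have hdiff : ∀ u ∈ S, ∀ v ∈ S, u - v ∈ C := by
    intro u hu v hv
    rw [show u - v = (u - w) - (v - w) by abel]
    exact C.sub_mem hu.1 hv.1
  by_cases h3 : ∃ u ∈ S, hammingNorm u ≤ 3
  · obtain ⟨u, hu, hu3⟩ := h3
    refine Or.inl ⟨u, Set.Subset.antisymm (fun v hv => ?_) (Set.singleton_subset_iff.2 hu), hu3⟩
    refine h.eq_of_close (hdiff v hv u hu) ?_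
    have := card_sub v u
    have := hv.2
    rw [norm_eq] at this hu3
    omega
  push Not at h3
  have h4 : ∀ u ∈ S, (sup u).card = 4 := fun u hu => by
    have := h3 u hu; have := hu.2
    rw [norm_eq] at *
    omega
  have hdisj : ∀ u ∈ S, ∀ v ∈ S, u ≠ v → Disjoint (sup u) (sup v) := by
    intro u hu v hv hne
    rw [disjoint_iff_inter_eq_empty, ← card_eq_zero]
    have h8 := h.min _ (hdiff u hu v hv) (sub_ne_zero.2 hne)
    rw [norm_eq] at h8
    have := card_sub u v
    have := h4 u hu; have := h4 v hv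
    omega
  refine Or.inr ⟨?_, fun u hu => ⟨h4 u hu, fun v hv => hdisj u hu v hv⟩⟩
  set T := (Set.toFinite S).toFinset with hT
  have hcover : T.biUnion sup = univ := by
    rw [eq_univ_iff_forall]
    intro p
    obtain ⟨u, hu, hu3⟩ := h.leader p w
    have hle : (sup u).card ≤ ((sup u).erase p).card + 1 :=
      (card_le_card (show sup u ⊆ insert p ((sup u).erase p) from fun i hi => by
        by_cases hip : i = p <;> simp [hip, hi])).trans (card_insert_le _ _)
    have hm : u ∈ S := ⟨hu, by rw [norm_eq]; omega⟩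
    refine mem_biUnion.2 ⟨u, (Set.Finite.mem_toFinset _).2 hm, ?_⟩
    by_contra hp
    rw [erase_eq_of_notMem hp] at hu3
    have := h4 u hm
    omega
  have hcard := congrArg Finset.card hcover
  rw [card_biUnion, sum_congr rfl (fun u hu => h4 u ((Set.Finite.mem_toFinset _).1 hu)),
    sum_const, smul_eq_mul, card_univ, Fintype.card_fin] at hcard
  · rw [Set.ncard_eq_toFinset_card S (Set.toFinite S)]
    omega
  · intro u hu v hv hne
    exact hdisj u ((Set.Finite.mem_toFinset _).1 hu) v ((Set.Finite.mem_toFinset _).1 hv) hne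

section Steiner

variable {α : Type*} [Fintype α] [DecidableEq α]

theorem blocks_through (hα : Fintype.card α = 24) {B : Finset (Finset α)}
    (hB : Cfsg.IsSteinerSystem 5 8 (B : Set (Finset α))) (T : Finset α) (hT : T.card ≤ 5) :
    (B.filter (T ⊆ ·)).card * (8 - T.card).choose (5 - T.card) =
      (24 - T.card).choose (5 - T.card) := by
  classical
  have h1 : ((B.filter (T ⊆ ·)).sigma fun b => (b \ T).powersetCard (5 - T.card)).card =
      ((univ \ T).powersetCard (5 - T.card)).card := by
    refine card_bij (fun x _ => x.2) ?_ ?_ ?_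
    · rintro ⟨b, r⟩ h
      simp only [mem_sigma, mem_filter, mem_powersetCard] at h ⊢
      exact ⟨fun i hi => mem_sdiff.2 ⟨mem_univ i, (mem_sdiff.1 (h.2.1 hi)).2⟩, h.2.2⟩
    · rintro ⟨b, r⟩ hb ⟨b', r'⟩ hb' (rfl : r = r')
      simp only [mem_sigma, mem_filter, mem_powersetCard] at hb hb'
      have hd : Disjoint T r := disjoint_left.2 fun i hiT hir => (mem_sdiff.1 (hb.2.1 hir)).2 hiT
      have hc : (T ∪ r).card = 5 := by rw [card_union_of_disjoint hd, hb.2.2]; omega
      obtain ⟨b₀, -, huniq⟩ := hB.2 _ hc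
      have e1 := huniq b ⟨hb.1.1, union_subset hb.1.2 (hb.2.1.trans sdiff_subset)⟩
      have e2 := huniq b' ⟨hb'.1.1, union_subset hb'.1.2 (hb'.2.1.trans sdiff_subset)⟩
      rw [e1, e2]
    · intro r hr
      simp only [mem_powersetCard] at hr
      have hd : Disjoint T r := disjoint_left.2 fun i hiT hir => (mem_sdiff.1 (hr.1 hir)).2 hiT
      have hc : (T ∪ r).card = 5 := by rw [card_union_of_disjoint hd, hr.2]; omega
      obtain ⟨b, ⟨hb, hsub⟩, -⟩ := hB.2 _ hc
      refine ⟨⟨b, r⟩, ?_, rfl⟩
      simp only [mem_sigma, mem_filter, mem_powersetCard]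
      exact ⟨⟨hb, subset_union_left.trans hsub⟩, fun i hi => mem_sdiff.2
        ⟨hsub (mem_union_right _ hi), (mem_sdiff.1 (hr.1 hi)).2⟩, hr.2⟩
  rw [card_sigma, sum_congr rfl (g := fun _ => (8 - T.card).choose (5 - T.card)) ?_, sum_const,
    smul_eq_mul, card_powersetCard, card_sdiff_of_subset (subset_univ T), card_univ, hα] at h1
  · exact h1
  · intro b hb
    rw [card_powersetCard, card_sdiff_of_subset (mem_filter.1 hb).2, hB.1 b (mem_filter.1 hb).1]

theorem triple_counts (hα : Fintype.card α = 24) {B : Finset (Finset α)}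
    (hB : Cfsg.IsSteinerSystem 5 8 (B : Set (Finset α))) (Y : Finset α) (hY : Y.card = 3) :
    (B.filter fun b => (b ∩ Y).card = 3).card = 21 ∧
    (B.filter fun b => (b ∩ Y).card = 2).card = 168 ∧
    (B.filter fun b => (b ∩ Y).card = 1).card = 360 ∧
    (B.filter fun b => (b ∩ Y).card = 0).card = 210 := by
  classical
  set n := fun k => (B.filter fun b => (b ∩ Y).card = k).card
  have key : ∀ j : ℕ, ∑ k ∈ range 4, n k * k.choose j =
      ∑ T ∈ Y.powersetCard j, (B.filter (T ⊆ ·)).card := by
    intro j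
    rw [show (∑ T ∈ Y.powersetCard j, (B.filter (T ⊆ ·)).card) =
      ∑ b ∈ B, ((b ∩ Y).powersetCard j).card by
        simp only [card_eq_sum_ones, sum_filter]
        rw [sum_comm]
        refine sum_congr rfl fun b _ => ?_
        rw [← sum_filter]
        refine sum_congr ?_ fun _ _ => rfl
        ext T
        simp only [mem_filter, mem_powersetCard, subset_inter_iff]
        tauto]
    rw [← sum_fiberwise_of_maps_to (s := B) (t := range 4) (g := fun b => (b ∩ Y).card)
      (fun b _ => mem_range.2 (by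
        have := card_le_card (inter_subset_right : b ∩ Y ⊆ Y)
        omega))]
    refine sum_congr rfl fun k _ => ?_
    rw [sum_congr rfl (g := fun _ => k.choose j) (fun b hb => by
      rw [card_powersetCard, (mem_filter.1 hb).2]), sum_const, smul_eq_mul]
  have lam : ∀ j, j ≤ 3 → ∀ T ∈ Y.powersetCard j,
      (B.filter (T ⊆ ·)).card * (8 - j).choose (5 - j) = (24 - j).choose (5 - j) := by
    intro j hj T hT
    obtain ⟨-, rfl⟩ := mem_powersetCard.1 hT
    exact blocks_through hα hB T (by omega)
  have tot : ∀ j, j ≤ 3 → (∑ k ∈ range 4, n k * k.choose j) * (8 - j).choose (5 - j) =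
      Nat.choose 3 j * (24 - j).choose (5 - j) := by
    intro j hj
    rw [key, sum_mul, sum_congr rfl (lam j hj), sum_const, smul_eq_mul, card_powersetCard, hY]
  have t0 := tot 0 (by omega)
  have t1 := tot 1 (by omega)
  have t2 := tot 2 (by omega)
  have t3 := tot 3 (by omega)
  simp [sum_range_succ, Nat.choose_eq_descFactorial_div_factorial, Nat.descFactorial,
    Nat.factorial] at t0 t1 t2 t3
  show n 3 = 21 ∧ n 2 = 168 ∧ n 1 = 360 ∧ n 0 = 210
  omega

end Steiner

end Cfsg.Agent.AbstractGolay
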