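import Mathlib

/-!
Additive and quadratic maps of a finite field of characteristic two as combinations of automorphisms.
-/

set_option autoImplicit false

namespace Cfsg.Agent.AdditiveCharTwo

variable {F : Type*} [Field F]

theorem linearIndependent_aut :
    LinearIndependent F (fun σ : F ≃+* F => ((σ : F →+* F) : F → F)) :=
  (linearIndependent_monoidHom F F).comp
    (fun σ : F ≃+* F => ((σ : F →+* F) : F →* F)) fun _σ _τ h =>
      RingEquiv.ext fun x => DFunLike.congr_fun h x

/-- Combination of automorphisms. -/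
noncomputable def comb [Fintype (F ≃+* F)] (c : (F ≃+* F) → F) : F →+ F where
  toFun x := ∑ σ, c σ * σ x
  map_zero' := by simp
  map_add' x y := by simp [mul_add, Finset.sum_add_distrib]

theorem comb_injective [Fintype (F ≃+* F)] : Function.Injective (comb : ((F ≃+* F) → F) → F →+ F) := by
  intro c c' h
  funext σ
  have li := Fintype.linearIndependent_iff.1 (linearIndependent_aut (F := F))
  have hsum : ∑ τ : F ≃+* F, (c τ - c' τ) • ((τ : F →+* F) : F → F) = 0 := by
    funext x
    have hx : ∑ τ, c τ * τ x = ∑ τ, c' τ * τ x := DFunLike.congr_fun h x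
    simp only [Finset.sum_apply, Pi.smul_apply, smul_eq_mul, RingEquiv.coe_toRingHom, sub_mul,
      Finset.sum_sub_distrib, hx, sub_self, Pi.zero_apply]
  exact sub_eq_zero.1 (li (fun τ => c τ - c' τ) hsum σ)

omit [Field F] in
theorem finite_aut [Finite F] [Add F] [Mul F] : Finite (F ≃+* F) :=
  Finite.of_injective (fun σ : F ≃+* F => (σ : F → F)) DFunLike.coe_injective

omit [Field F] in
theorem finite_addHom [Finite F] [AddZeroClass F] : Finite (F →+ F) :=
  Finite.of_injective (fun f : F →+ F => (f : F → F)) DFunLike.coe_injective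

variable [Fintype F] [CharP F 2]

theorem card_addHom : Nat.card (F →+ F) = Nat.card ((F ≃+* F) → F) := by
  have := finite_aut (F := F)
  have := Fact.mk Nat.prime_two
  letI : Algebra (ZMod 2) F := ZMod.algebra F 2
  have e : (F ≃ₐ[ZMod 2] F) ≃ (F ≃+* F) :=
    { toFun := fun σ => σ.toRingEquiv
      invFun := fun σ => AlgEquiv.ofRingEquiv (f := σ) fun r =>
        DFunLike.congr_fun (RingHom.ext_zmod ((σ : F →+* F).comp (algebraMap (ZMod 2) F))
          (algebraMap (ZMod 2) F)) r
      left_inv := fun σ => by ext; rfl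
      right_inv := fun σ => by ext; rfl }
  rw [Nat.card_congr (AddMonoidHom.toZModLinearMapEquiv 2 (M := F) (M₁ := F)).toEquiv,
    Module.natCard_eq_pow_finrank (K := ZMod 2) (V := F →ₗ[ZMod 2] F), Module.finrank_linearMap,
    pow_mul, Nat.card_fun, ← Module.natCard_eq_pow_finrank (K := ZMod 2) (V := F)]
  congr 1
  rw [← Nat.card_congr e]
  exact (IsGalois.card_aut_eq_finrank (ZMod 2) F).symm

theorem comb_surjective [Fintype (F ≃+* F)] :
    Function.Surjective (comb : ((F ≃+* F) → F) → F →+ F) :=
  have := finite_addHom (F := F)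
  (Function.Injective.bijective_of_nat_card_le comb_injective card_addHom.le).2

theorem exists_coeff (f : F →+ F) :
    ∃ (s : Finset (F ≃+* F)) (c : (F ≃+* F) → F), ∀ x : F, f x = ∑ σ ∈ s, c σ * σ x := by
  have := finite_aut (F := F)
  have := Fintype.ofFinite (F ≃+* F)
  obtain ⟨c, rfl⟩ := comb_surjective f
  exact ⟨Finset.univ, c, fun _ => rfl⟩

theorem exists_coeff₂ (B : F →+ F →+ F) :
    ∃ (s : Finset ((F ≃+* F) × (F ≃+* F))) (c : (F ≃+* F) × (F ≃+* F) → F),
      ∀ x y : F, B x y = ∑ p ∈ s, c p * (p.1 x * p.2 y) := by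
  have := finite_aut (F := F)
  have := Fintype.ofFinite (F ≃+* F)
  choose c hc using fun x : F => comb_surjective (B x)
  have hadd : ∀ x x', c (x + x') = c x + c x' := fun x x' => comb_injective (AddMonoidHom.ext fun y => by
    rw [hc, map_add, AddMonoidHom.add_apply, ← hc, ← hc]
    simp [comb, add_mul, Finset.sum_add_distrib])
  choose d hd using fun τ : F ≃+* F => comb_surjective
    (AddMonoidHom.mk' (fun x : F => c x τ) fun x x' => by rw [hadd]; rfl)
  refine ⟨Finset.univ, fun p => d p.2 p.1, fun x y => ?_⟩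
  rw [← hc x, Fintype.sum_prod_type_right]
  show (∑ τ, c x τ * τ y) = _
  refine Finset.sum_congr rfl fun τ _ => ?_
  have := DFunLike.congr_fun (hd τ) x
  simp only [comb, AddMonoidHom.coe_mk, ZeroHom.coe_mk, AddMonoidHom.mk'_apply] at this
  rw [← this, Finset.sum_mul]
  exact Finset.sum_congr rfl fun σ _ => mul_assoc _ _ _

theorem exists_coeff_quadratic (q : F → F)
    (hq : ∀ x y z : F, q (x + y + z) + q (x + y) + q (x + z) + q (y + z) + q x + q y + q z = 0) :
    ∃ (s : Finset ((F ≃+* F) × (F ≃+* F))) (c : (F ≃+* F) × (F ≃+* F) → F),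
      ∀ x : F, q x = ∑ p ∈ s, c p * (p.1 x * p.2 x) := by
  have h2 : (2 : F) = 0 := by simpa using CharP.cast_eq_zero F 2
  letI : Algebra (ZMod 2) F := ZMod.algebra F 2
  have hq0 : q 0 = 0 := by
    have := hq 0 0 0
    simp only [add_zero] at this
    linear_combination this - 3 * q 0 * h2
  have hzm : ∀ r : ZMod 2, r = 0 ∨ r = 1 := by decide
  let Q : QuadraticMap (ZMod 2) F F := QuadraticMap.ofPolar q
    (fun r x => by rcases hzm r with rfl | rfl <;> simp [hq0])
    (fun x x' y => by
      have := hq x x' y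
      simp only [QuadraticMap.polar]
      linear_combination this - (q (x + x') + q x + q x' + q y + q (x + y) + q (x' + y) - q x - q x' - q y) * h2)
    (fun r x y => by rcases hzm r with rfl | rfl <;> simp [QuadraticMap.polar, hq0])
  let bm := Module.finBasis (ZMod 2) F
  let T := Q.toBilin bm
  let B : F →+ F →+ F := AddMonoidHom.mk' (fun x => (T x).toAddMonoidHom)
    (fun x y => by ext; simp)
  obtain ⟨s, c, hc⟩ := exists_coeff₂ B
  refine ⟨s, c, fun x => ?_⟩
  rw [← hc x x]
  have := DFunLike.congr_fun (QuadraticMap.toQuadraticMap_toBilin Q bm) x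
  exact this.symm

end Cfsg.Agent.AdditiveCharTwo
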