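import Mathlib

/-! Permutations agreeing on every triple with an affine map are affine. -/

set_option autoImplicit false

namespace Cfsg.Agent.AffineClosure

variable {p : ℕ} [Fact p.Prime] {V : Type*} [AddCommGroup V] [Module (ZMod p) V] [Finite V]

theorem exists_affine (hp : p ≠ 2) (σ : Equiv.Perm V)
    (h : ∀ x y z : V, ∃ (A : V ≃ₗ[ZMod p] V) (b : V), σ x = A x + b ∧ σ y = A y + b ∧ σ z = A z + b) :
    ∃ (A : V ≃ₗ[ZMod p] V) (b : V), ∀ x, σ x = A x + b := by
  set τ : V → V := fun x => σ x - σ 0 with hτ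
  have hcomb : ∀ (x y : V) (c : ZMod p), τ (x + c • (y - x)) = τ x + c • (τ y - τ x) := by
    intro x y c
    obtain ⟨A, b, h1, h2, h3⟩ := h x y (x + c • (y - x))
    simp only [hτ, h1, h2, h3, map_add, map_smul, map_sub, add_sub_add_right_eq_sub, sub_sub_sub_cancel_right]
    abel
  have hτ0 : τ 0 = 0 := sub_self _
  have hsmul : ∀ (c : ZMod p) (y : V), τ (c • y) = c • τ y := fun c y => by
    simpa [hτ0] using hcomb 0 y c
  have h2 : (2 : ZMod p) ≠ 0 := by
    intro h2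
    have h2' : ((2 : ℕ) : ZMod p) = 0 := by exact_mod_cast h2
    rw [ZMod.natCast_eq_zero_iff] at h2'
    exact hp ((Nat.prime_dvd_prime_iff_eq Fact.out Nat.prime_two).mp h2')
  have hadd : ∀ x y : V, τ (x + y) = τ x + τ y := by
    intro x y
    have h1 := hcomb x y (2 : ZMod p)⁻¹
    have e : x + (2 : ZMod p)⁻¹ • (y - x) = (2 : ZMod p)⁻¹ • (x + y) := by
      have : (2 : ZMod p)⁻¹ • ((2 : ZMod p) • x) = x := inv_smul_smul₀ h2 x
      calc x + (2 : ZMod p)⁻¹ • (y - x) = (2 : ZMod p)⁻¹ • ((2 : ZMod p) • x) + (2 : ZMod p)⁻¹ • (y - x) := by rw [this]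
        _ = (2 : ZMod p)⁻¹ • ((2 : ZMod p) • x + (y - x)) := (smul_add _ _ _).symm
        _ = (2 : ZMod p)⁻¹ • (x + y) := by rw [two_smul]; congr 1; abel
    have e' : τ x + (2 : ZMod p)⁻¹ • (τ y - τ x) = (2 : ZMod p)⁻¹ • (τ x + τ y) := by
      have : (2 : ZMod p)⁻¹ • ((2 : ZMod p) • τ x) = τ x := inv_smul_smul₀ h2 _
      calc τ x + (2 : ZMod p)⁻¹ • (τ y - τ x) = (2 : ZMod p)⁻¹ • ((2 : ZMod p) • τ x) + (2 : ZMod p)⁻¹ • (τ y - τ x) := by rw [this]
        _ = (2 : ZMod p)⁻¹ • ((2 : ZMod p) • τ x + (τ y - τ x)) := (smul_add _ _ _).symm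
        _ = _ := by rw [two_smul]; congr 1; abel
    rw [e, e', hsmul] at h1
    exact smul_right_injective V (inv_ne_zero h2) h1
  let L : V →ₗ[ZMod p] V := { toFun := τ, map_add' := hadd, map_smul' := hsmul }
  have hinj : Function.Injective L := fun a b hab => σ.injective (sub_left_inj.mp hab)
  refine ⟨LinearEquiv.ofBijective L ⟨hinj, Finite.surjective_of_injective hinj⟩, σ 0, fun x => ?_⟩
  show σ x = (σ x - σ 0) + σ 0
  rw [sub_add_cancel]

end Cfsg.Agent.AffineClosure
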