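import Mathlib

set_option autoImplicit false

/-! Powers of a 3 × 3 matrix of determinant 1 computed through its characteristic polynomial. -/

namespace Cfsg.Agent.SpectrumThreeByThree

open Matrix

variable {R : Type*} [CommRing R]

/-- Multiplication by `A` on coordinates with respect to `A^2, A, 1`. -/
def step (t c : R) (v : R × R × R) : R × R × R := (v.1 * t + v.2.1, v.2.2 - v.1 * c, v.1)

lemma cube_eq (A : Matrix (Fin 3) (Fin 3) R) (h : A.det = 1) :
    A * (A * A) = A.trace • (A * A) - A.adjugate.trace • A + 1 := by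
  rw [← one_smul R (1 : Matrix (Fin 3) (Fin 3) R), ← h, Matrix.adjugate_fin_three, Matrix.det_fin_three]
  ext i j
  fin_cases i <;> fin_cases j <;>
    simp [Matrix.mul_apply, Fin.sum_univ_three, Matrix.trace_fin_three] <;> ring

lemma pow_eq (A : Matrix (Fin 3) (Fin 3) R) (h : A.det = 1) (k : ℕ) :
    A ^ k = ((step A.trace A.adjugate.trace)^[k] (0, 0, 1)).1 • (A * A) +
      ((step A.trace A.adjugate.trace)^[k] (0, 0, 1)).2.1 • A +
      ((step A.trace A.adjugate.trace)^[k] (0, 0, 1)).2.2 • (1 : Matrix (Fin 3) (Fin 3) R) := by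
  induction k with
  | zero => simp
  | succ k ih =>
    rw [pow_succ', ih, Function.iterate_succ_apply']
    simp only [step, mul_add, Matrix.mul_smul, mul_one]
    rw [cube_eq A h]
    module

lemma pow_eq_one (A : Matrix (Fin 3) (Fin 3) R) (h : A.det = 1) (k : ℕ)
    (hk : (step A.trace A.adjugate.trace)^[k] (0, 0, 1) = (0, 0, 1)) : A ^ k = 1 := by
  rw [pow_eq A h, hk]
  simp

lemma map_step {S : Type*} [CommRing S] (φ : R →+* S) (t c : R) (k : ℕ) :
    (step (φ t) (φ c))^[k] (0, 0, 1) = Prod.map φ (Prod.map φ φ) ((step t c)^[k] (0, 0, 1)) := by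
  induction k with
  | zero => simp
  | succ k ih =>
    rw [Function.iterate_succ_apply', Function.iterate_succ_apply', ih]
    simp [step]

/-- A witness for an element of order `n` in a quotient by the centre. -/
lemma orderOf_mk_center {G : Type*} [Group G] (g h : G) (n : ℕ) (hn : 0 < n) (h1 : g ^ n = 1)
    (h2 : ∀ m < n, 0 < m → g ^ m * h ≠ h * g ^ m) :
    orderOf (g : G ⧸ Subgroup.center G) = n := by
  rw [orderOf_eq_iff hn]
  refine ⟨by rw [← QuotientGroup.mk_pow, h1]; rfl, fun m hm hm0 hc => h2 m hm hm0 ?_⟩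
  rw [← QuotientGroup.mk_pow, QuotientGroup.eq_one_iff] at hc
  exact ((Subgroup.mem_center_iff.1 hc) h).symm

end Cfsg.Agent.SpectrumThreeByThree
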