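import Mathlib
import Cfsg.Agent.Lib.SpectrumThreeByThree

set_option autoImplicit false
set_option maxRecDepth 100000

/-! `F_4^2 ⋊ SL(2,4)` and its fibre powers over `SL(2,4)` have the element orders of `A_6`. -/

namespace Cfsg.Agent.AffineFourSpectrum

open Matrix SpectrumThreeByThree

theorem alt_six_pow : ∀ g : Equiv.Perm (Fin 6), Equiv.Perm.sign g = 1 → g ^ 3 = 1 ∨ g ^ 4 = 1 ∨ g ^ 5 = 1 := by
  decide +kernel

theorem alt_six_two : ∃ g : alternatingGroup (Fin 6), orderOf g = 2 :=
  ⟨⟨Equiv.swap 0 1 * Equiv.swap 2 3, by simp [Equiv.Perm.mem_alternatingGroup]⟩, by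
    haveI := Fact.mk (Nat.prime_two); exact orderOf_eq_prime (by decide) (by decide)⟩

theorem alt_six_three : ∃ g : alternatingGroup (Fin 6), orderOf g = 3 :=
  ⟨⟨Equiv.swap 0 1 * Equiv.swap 1 2, by simp [Equiv.Perm.mem_alternatingGroup]⟩, by
    haveI := Fact.mk (Nat.prime_three); exact orderOf_eq_prime (by decide) (by decide)⟩

theorem alt_six_four : ∃ g : alternatingGroup (Fin 6), orderOf g = 4 :=
  ⟨⟨Equiv.swap 0 1 * Equiv.swap 1 2 * Equiv.swap 2 3 * Equiv.swap 4 5, by simp [Equiv.Perm.mem_alternatingGroup]⟩, by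
    haveI := Fact.mk (Nat.prime_two); exact orderOf_eq_prime_pow (p := 2) (n := 1) (by decide) (by decide)⟩

theorem alt_six_five : ∃ g : alternatingGroup (Fin 6), orderOf g = 5 :=
  ⟨⟨Equiv.swap 0 1 * Equiv.swap 1 2 * Equiv.swap 2 3 * Equiv.swap 3 4, by simp [Equiv.Perm.mem_alternatingGroup]⟩, by
    haveI := Fact.mk (Nat.prime_five); exact orderOf_eq_prime (by decide) (by decide)⟩

lemma range_orderOf_eq {G : Type*} [Group G] (h : ∀ g : G, g ^ 3 = 1 ∨ g ^ 4 = 1 ∨ g ^ 5 = 1)
    (h2 : ∃ g : G, orderOf g = 2) (h3 : ∃ g : G, orderOf g = 3) (h4 : ∃ g : G, orderOf g = 4)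
    (h5 : ∃ g : G, orderOf g = 5) :
    Set.range (orderOf : G → ℕ) = {1, 2, 3, 4, 5} := by
  ext n
  constructor
  · rintro ⟨g, rfl⟩
    rcases h g with h | h | h <;>
      (have h1 := Nat.le_of_dvd (by norm_num) (orderOf_dvd_of_pow_eq_one h)
       have h0 : orderOf g ≠ 0 := fun h0 => by
        have := orderOf_dvd_of_pow_eq_one h
        rw [h0] at this; norm_num at this
       simp only [Set.mem_insert_iff, Set.mem_singleton_iff]; omega)
  · simp only [Set.mem_insert_iff, Set.mem_singleton_iff]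
    rintro (rfl | rfl | rfl | rfl | rfl)
    · exact ⟨1, orderOf_one⟩
    exacts [h2, h3, h4, h5]

theorem range_alt_six : Set.range (orderOf : alternatingGroup (Fin 6) → ℕ) = {1, 2, 3, 4, 5} :=
  range_orderOf_eq (fun g => by
    rcases alt_six_pow g.1 (Equiv.Perm.mem_alternatingGroup.mp g.2) with h | h | h
    · exact Or.inl (Subtype.ext h)
    · exact Or.inr (Or.inl (Subtype.ext h))
    · exact Or.inr (Or.inr (Subtype.ext h))) alt_six_two alt_six_three alt_six_four alt_six_five

variable (F : Type*) [Field F]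

/-- `F^2 ⋊ SL(2,F)` inside `SL(3,F)`. -/
def aff : Subgroup (Matrix.SpecialLinearGroup (Fin 3) F) where
  carrier := {M | (M : Matrix (Fin 3) (Fin 3) F) 2 0 = 0 ∧ (M : Matrix (Fin 3) (Fin 3) F) 2 1 = 0 ∧
    (M : Matrix (Fin 3) (Fin 3) F) 2 2 = 1}
  one_mem' := by simp
  mul_mem' := by
    rintro a b ⟨a0, a1, a2⟩ ⟨b0, b1, b2⟩
    simp [Matrix.mul_apply, Fin.sum_univ_three, a0, a1, a2, b0, b1, b2]
  inv_mem' := by
    rintro a ⟨a0, a1, a2⟩
    have hd : (a : Matrix (Fin 3) (Fin 3) F).det = 1 := a.2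
    rw [Matrix.det_fin_three] at hd
    suffices h : (a : Matrix (Fin 3) (Fin 3) F).adjugate 2 0 = 0 ∧ (a : Matrix (Fin 3) (Fin 3) F).adjugate 2 1 = 0 ∧
        (a : Matrix (Fin 3) (Fin 3) F).adjugate 2 2 = 1 from h
    rw [Matrix.adjugate_fin_three]
    simp [a0, a1, a2] at hd ⊢
    linear_combination hd

lemma closure_eq :
    Subgroup.closure {M : Matrix.SpecialLinearGroup (Fin 3) F |
        (M : Matrix (Fin 3) (Fin 3) F) 2 0 = 0 ∧ (M : Matrix (Fin 3) (Fin 3) F) 2 1 = 0 ∧
          (M : Matrix (Fin 3) (Fin 3) F) 2 2 = 1} = aff F :=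
  Subgroup.closure_eq (aff F)

/-- The linear part. -/
def lin : aff F →* Matrix (Fin 2) (Fin 2) F where
  toFun h := Matrix.of fun i j => (h.1 : Matrix (Fin 3) (Fin 3) F) i.castSucc j.castSucc
  map_one' := by ext i j; fin_cases i <;> fin_cases j <;> simp
  map_mul' a b := by
    obtain ⟨b0, b1, -⟩ := b.2
    ext i j
    fin_cases i <;> fin_cases j <;>
      simp [Matrix.mul_apply, Fin.sum_univ_three, Fin.sum_univ_two, b0, b1]

variable {F}

lemma lin_apply (h : aff F) (i j : Fin 2) :
    lin F h i j = (h.1 : Matrix (Fin 3) (Fin 3) F) i.castSucc j.castSucc := rfl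

lemma two_eq_zero [Fintype F] (hF : Fintype.card F = 4) : (2 : F) = 0 := by
  have h := Nat.cast_card_eq_zero F
  rw [hF] at h
  have : (2 : F) * 2 = 0 := by rw [← h]; norm_num
  exact mul_self_eq_zero.mp this

lemma trichotomy [Fintype F] (hF : Fintype.card F = 4) (t : F) : t = 0 ∨ t = 1 ∨ t * t + t + 1 = 0 := by
  rcases eq_or_ne t 0 with h | h
  · exact Or.inl h
  have h3 : t ^ 3 = 1 := by simpa [hF] using FiniteField.pow_card_sub_one_eq_one t h
  rcases eq_or_ne t 1 with h1 | h1
  · exact Or.inr (Or.inl h1)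
  refine Or.inr (Or.inr ?_)
  have : (t - 1) * (t * t + t + 1) = 0 := by linear_combination h3
  exact (mul_eq_zero.mp this).resolve_left (sub_ne_zero.mpr h1)

/-- The exponent attached to a trace. -/
noncomputable def expo (t : F) : ℕ :=
  letI := Classical.decEq F
  if t = 0 then 4 else if t = 1 then 3 else 5

lemma expo_cases (t : F) : expo t = 3 ∨ expo t = 4 ∨ expo t = 5 := by
  unfold expo; split_ifs <;> simp

lemma pow_expo [Fintype F] (hF : Fintype.card F = 4) (h : aff F) : h ^ expo (lin F h).trace = 1 := by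
  obtain ⟨a0, a1, a2⟩ := h.2
  have h2 := two_eq_zero hF
  set A : Matrix (Fin 3) (Fin 3) F := (h.1 : Matrix (Fin 3) (Fin 3) F) with hA
  have hd : A.det = 1 := h.1.2
  have hd' : A 0 0 * A 1 1 - A 0 1 * A 1 0 = 1 := by
    rw [Matrix.det_fin_three, a0, a1, a2] at hd
    linear_combination hd
  set t : F := (lin F h).trace with ht
  have ht' : t = A 0 0 + A 1 1 := by rw [ht, Matrix.trace_fin_two]; rfl
  have htr : A.trace = t + 1 := by rw [Matrix.trace_fin_three, ht', a2]
  have hadj : A.adjugate.trace = t + 1 := by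
    rw [Matrix.adjugate_fin_three, Matrix.trace_fin_three, ht']
    simp [a0, a1, a2]
    linear_combination hd'
  refine Subtype.ext (Subtype.ext ((Matrix.SpecialLinearGroup.coe_pow h.1 _).trans (pow_eq_one A hd _ ?_)))
  rw [htr, hadj]
  rcases trichotomy hF t with h0 | h0 | h0
  · have : expo t = 4 := by simp [expo, h0]
    rw [this, h0]
    simp [Function.iterate_succ_apply', step]
    all_goals grind
  · have : expo t = 3 := by simp [expo, h0]
    rw [this, h0]
    simp [Function.iterate_succ_apply', step]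
    all_goals grind
  · have hn0 : t ≠ 0 := fun hh => by simp [hh] at h0
    have hn1 : t ≠ 1 := fun hh => by
      rw [hh] at h0
      exact one_ne_zero (α := F) (by linear_combination h0 - h2)
    have : expo t = 5 := by simp [expo, hn0, hn1]
    rw [this]
    simp [Function.iterate_succ_apply', step]
    refine ⟨?_, ?_, ?_⟩ <;> grind

/-- A block matrix. -/
def mk3 (a b c d u v : F) (h : a * d - b * c = 1) : aff F :=
  ⟨⟨!![a, b, u; c, d, v; 0, 0, 1], by simp [Matrix.det_fin_three]; linear_combination h⟩,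
    by refine ⟨?_, ?_, ?_⟩ <;> rfl⟩

lemma mk3_coe (a b c d u v : F) (h : a * d - b * c = 1) :
    ((mk3 a b c d u v h).1 : Matrix (Fin 3) (Fin 3) F) = !![a, b, u; c, d, v; 0, 0, 1] := rfl

lemma trace_mk3 (a b c d u v : F) (h : a * d - b * c = 1) : (lin F (mk3 a b c d u v h)).trace = a + d := by
  rw [Matrix.trace_fin_two, lin_apply, lin_apply, mk3_coe]
  simp

/-- Translations. -/
def transl (u : F) : aff F := mk3 1 0 0 1 u 0 (by ring)

lemma lin_transl (u : F) : lin F (transl u) = 1 := by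
  ext i j; fin_cases i <;> fin_cases j <;> simp [lin_apply, transl, mk3_coe]

lemma transl_sq [Fintype F] (hF : Fintype.card F = 4) (u : F) : transl u ^ 2 = 1 := by
  have h2 := two_eq_zero hF
  refine Subtype.ext (Subtype.ext ((Matrix.SpecialLinearGroup.coe_pow (transl u).1 2).trans ?_))
  rw [transl, mk3_coe, pow_two]
  show _ = (1 : Matrix (Fin 3) (Fin 3) F)
  ext i j; fin_cases i <;> fin_cases j <;> simp [Matrix.mul_apply, Fin.sum_univ_three]
  linear_combination u * h2

lemma transl_injective : Function.Injective (transl (F := F)) := fun u v h => by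
  have := congrArg (fun M : aff F => (M.1 : Matrix (Fin 3) (Fin 3) F) 0 2) h
  simpa [transl, mk3_coe] using this

lemma ne_one_of {a b c d u v : F} {h : a * d - b * c = 1} (hne : ¬ (a = 1 ∧ u = 0)) :
    mk3 a b c d u v h ≠ 1 := fun h1 => hne
  ⟨by simpa [mk3_coe] using congrArg (fun M : aff F => (M.1 : Matrix (Fin 3) (Fin 3) F) 0 0) h1,
   by simpa [mk3_coe] using congrArg (fun M : aff F => (M.1 : Matrix (Fin 3) (Fin 3) F) 0 2) h1⟩

lemma exists_two [Fintype F] (hF : Fintype.card F = 4) : ∃ g : aff F, orderOf g = 2 :=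
  haveI := Fact.mk Nat.prime_two
  ⟨transl 1, orderOf_eq_prime (transl_sq hF 1) (ne_one_of (by simp))⟩

lemma exists_three [Fintype F] (hF : Fintype.card F = 4) : ∃ g : aff F, orderOf g = 3 := by
  haveI := Fact.mk Nat.prime_three
  have hd : (0 : F) * 1 - 1 * 1 = 1 := by linear_combination -(two_eq_zero hF)
  refine ⟨mk3 0 1 1 1 0 0 hd, orderOf_eq_prime ?_ (ne_one_of (by simp))⟩
  have h := pow_expo hF (mk3 0 1 1 1 0 0 hd)
  simpa [trace_mk3, expo] using h

lemma exists_five [Fintype F] (hF : Fintype.card F = 4) : ∃ g : aff F, orderOf g = 5 := by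
  haveI := Fact.mk Nat.prime_five
  obtain ⟨w, hw0, hw1⟩ : ∃ w : F, w ≠ 0 ∧ w ≠ 1 := by
    classical
    have : ((Finset.univ.erase (0 : F)).erase 1).Nonempty := Finset.card_pos.mp (by simp [hF])
    obtain ⟨w, hw⟩ := this
    simp at hw
    exact ⟨w, hw.2, hw.1⟩
  have hd : (0 : F) * w - 1 * 1 = 1 := by linear_combination -(two_eq_zero hF)
  refine ⟨mk3 0 1 1 w 0 0 hd, orderOf_eq_prime ?_ (ne_one_of (by simp))⟩
  have h := pow_expo hF (mk3 0 1 1 w 0 0 hd)
  simpa [trace_mk3, expo, hw0, hw1] using h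

lemma exists_four [Fintype F] (hF : Fintype.card F = 4) : ∃ g : aff F, orderOf g = 4 := by
  haveI := Fact.mk Nat.prime_two
  have hd : (1 : F) * 1 - 1 * 0 = 1 := by ring
  refine ⟨mk3 1 1 0 1 0 1 hd, orderOf_eq_prime_pow (p := 2) (n := 1) ?_ ?_⟩
  · intro h
    have h' := congrArg (fun M : Matrix.SpecialLinearGroup (Fin 3) F => (M : Matrix (Fin 3) (Fin 3) F) 0 2)
      (congrArg Subtype.val h)
    simp [pow_two, mk3_coe, Matrix.mul_apply, Fin.sum_univ_three] at h'
  · have h := pow_expo hF (mk3 1 1 0 1 0 1 hd)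
    have e : (1 : F) + 1 = 0 := by linear_combination two_eq_zero hF
    simpa [trace_mk3, expo, e] using h

theorem range_aff [Fintype F] (hF : Fintype.card F = 4) :
    Set.range (orderOf : aff F → ℕ) = {1, 2, 3, 4, 5} :=
  range_orderOf_eq (fun g => by
    have h := pow_expo hF g
    rcases expo_cases (lin F g).trace with e | e | e <;> rw [e] at h
    exacts [Or.inl h, Or.inr (Or.inl h), Or.inr (Or.inr h)])
    (exists_two hF) (exists_three hF) (exists_four hF) (exists_five hF)

variable (F)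

/-- `k` copies of the module. -/
def power (k : ℕ) : Subgroup (Fin k → aff F) where
  carrier := {h | ∀ i j, lin F (h i) = lin F (h j)}
  one_mem' := by simp
  mul_mem' := fun ha hb i j => by simp [ha i j, hb i j]
  inv_mem' := by
    intro a ha i j
    have e : ∀ i, lin F ((a⁻¹) i) * lin F (a i) = 1 := fun i => by rw [← map_mul]; simp
    have e' : ∀ i, lin F (a i) * lin F ((a⁻¹) i) = 1 := fun i => by rw [← map_mul]; simp
    calc lin F ((a⁻¹) i) = lin F ((a⁻¹) i) * (lin F (a j) * lin F ((a⁻¹) j)) := by rw [e', mul_one]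
      _ = lin F ((a⁻¹) j) := by rw [← ha i j, ← mul_assoc, e, one_mul]

variable {F}

theorem range_power [Fintype F] (hF : Fintype.card F = 4) (k : ℕ) :
    Set.range (orderOf : power F (k + 1) → ℕ) = {1, 2, 3, 4, 5} := by
  have diag : ∀ g : aff F, ∃ h : power F (k + 1), orderOf h = orderOf g := fun g => by
    let δ : aff F →* power F (k + 1) :=
      { toFun := fun g => ⟨fun _ => g, fun _ _ => rfl⟩
        map_one' := rfl
        map_mul' := fun _ _ => rfl }
    exact ⟨δ g, orderOf_injective δ (fun a b h => congrArg (fun f : power F (k + 1) => f.1 0) h) g⟩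
  refine range_orderOf_eq (fun g => ?_) ?_ ?_ ?_ ?_
  · have h : g ^ expo (lin F (g.1 0)).trace = 1 := Subtype.ext (funext fun i => by
      rw [g.2 0 i]
      exact pow_expo hF (g.1 i))
    rcases expo_cases (lin F (g.1 0)).trace with e | e | e <;> rw [e] at h
    exacts [Or.inl h, Or.inr (Or.inl h), Or.inr (Or.inr h)]
  all_goals first
    | (obtain ⟨g, hg⟩ := exists_two hF; obtain ⟨h, hh⟩ := diag g; exact ⟨h, hh.trans hg⟩)
    | (obtain ⟨g, hg⟩ := exists_three hF; obtain ⟨h, hh⟩ := diag g; exact ⟨h, hh.trans hg⟩)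
    | (obtain ⟨g, hg⟩ := exists_four hF; obtain ⟨h, hh⟩ := diag g; exact ⟨h, hh.trans hg⟩)
    | (obtain ⟨g, hg⟩ := exists_five hF; obtain ⟨h, hh⟩ := diag g; exact ⟨h, hh.trans hg⟩)

lemma card_power [Fintype F] (hF : Fintype.card F = 4) (k : ℕ) : 4 ^ k ≤ Nat.card (power F k) := by
  haveI : Finite (Matrix.SpecialLinearGroup (Fin 3) F) := inferInstance
  calc 4 ^ k = Nat.card (Fin k → F) := by simp [hF, Nat.card_eq_fintype_card]
    _ ≤ Nat.card (power F k) := Nat.card_le_card_of_injective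
      (fun u => (⟨fun i => transl (u i), fun i j => by rw [lin_transl, lin_transl]⟩ : power F k))
      (fun u v h => funext fun i => transl_injective (congrArg (fun f : power F k => f.1 i) h))

end Cfsg.Agent.AffineFourSpectrum
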