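import Mathlib
import Cfsg.Prelude.Def_FusionSystem

/-!
Basic API for fusion systems (`Cfsg.FusionSystem`).

Maps are handled as total functions `f : Ω → Ω`: `Mor F P f` says that some map of `F` with source
`P` agrees with `f` on `P`. This avoids dependent types when restricting, composing and inverting.
`im P f` is the image subgroup.
-/

set_option autoImplicit false

namespace Cfsg.Agent.FusionSysBasic

open Cfsg

variable {Ω : Type*} [Group Ω] {S : Subgroup Ω} {F : FusionSystem S}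

/-- Some map of `F` with source `P` agrees with `f` on `P`. -/
def Mor (F : FusionSystem S) (P : Subgroup Ω) (f : Ω → Ω) : Prop :=
  ∃ φ ∈ F.Hom P, ∀ x : P, φ x = f x

open Classical in
/-- A homomorphism on a subgroup, extended by `1` to a total function. -/
noncomputable def toFun {P : Subgroup Ω} (φ : P →* Ω) : Ω → Ω :=
  fun x => if h : x ∈ P then φ ⟨x, h⟩ else 1

theorem toFun_apply {P : Subgroup Ω} (φ : P →* Ω) {x : Ω} (h : x ∈ P) : toFun φ x = φ ⟨x, h⟩ :=
  dif_pos h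

theorem toFun_coe {P : Subgroup Ω} (φ : P →* Ω) (x : P) : toFun φ x = φ x :=
  toFun_apply φ x.2

theorem mor_toFun {P : Subgroup Ω} {φ : P →* Ω} (h : φ ∈ F.Hom P) : Mor F P (toFun φ) :=
  ⟨φ, h, fun x => (toFun_coe φ x).symm⟩

theorem mor_iff_hom {P : Subgroup Ω} {φ : P →* Ω} {f : Ω → Ω} (h : ∀ x : P, φ x = f x) :
    Mor F P f ↔ φ ∈ F.Hom P := by
  constructor
  · rintro ⟨ψ, hψ, he⟩
    have : φ = ψ := MonoidHom.ext fun x => (h x).trans (he x).symm
    exact this ▸ hψ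
  · exact fun hφ => ⟨φ, hφ, h⟩

/-- The image of a subgroup under a function. -/
def im (P : Subgroup Ω) (f : Ω → Ω) : Subgroup Ω := Subgroup.closure (f '' (P : Set Ω))

/-- Conjugation as a function. -/
def cj (g : Ω) : Ω → Ω := fun x => g * x * g⁻¹

theorem cj_apply (g x : Ω) : cj g x = g * x * g⁻¹ := rfl

theorem cj_cj (g h x : Ω) : cj g (cj h x) = cj (g * h) x := by
  simp only [cj_apply]; group

theorem cj_one (x : Ω) : cj 1 x = x := by simp [cj_apply]

theorem cj_inv_cj (g x : Ω) : cj g⁻¹ (cj g x) = x := by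
  rw [cj_cj, inv_mul_cancel, cj_one]

theorem cj_cj_inv (g x : Ω) : cj g (cj g⁻¹ x) = x := by
  rw [cj_cj, mul_inv_cancel, cj_one]

theorem im_congr {P : Subgroup Ω} {f g : Ω → Ω} (h : ∀ x ∈ P, f x = g x) : im P f = im P g := by
  unfold im
  rw [Set.image_congr h]

theorem im_mono {P Q : Subgroup Ω} {f : Ω → Ω} (h : Q ≤ P) : im Q f ≤ im P f :=
  Subgroup.closure_mono (Set.image_mono h)

theorem apply_mem_im {P : Subgroup Ω} {f : Ω → Ω} {x : Ω} (h : x ∈ P) : f x ∈ im P f :=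
  Subgroup.subset_closure ⟨x, h, rfl⟩

theorem im_le_iff {P Q : Subgroup Ω} {f : Ω → Ω} : im P f ≤ Q ↔ ∀ x ∈ P, f x ∈ Q := by
  simp only [im, Subgroup.closure_le, Set.image_subset_iff]
  rfl

theorem im_id (P : Subgroup Ω) : im P (fun x => x) = P := by
  simp [im]

theorem im_cj (P : Subgroup Ω) (g : Ω) : im P (cj g) = P.map (MulAut.conj g).toMonoidHom := by
  unfold im
  have : (cj g) '' (P : Set Ω) = (P.map (MulAut.conj g).toMonoidHom : Subgroup Ω) := by
    rw [Subgroup.coe_map]; rfl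
  rw [this, Subgroup.closure_eq]

theorem mem_im_cj {P : Subgroup Ω} {g y : Ω} : y ∈ im P (cj g) ↔ cj g⁻¹ y ∈ P := by
  rw [im_cj, Subgroup.mem_map]
  constructor
  · rintro ⟨x, hx, rfl⟩
    have : (MulAut.conj g).toMonoidHom x = cj g x := rfl
    rwa [this, cj_inv_cj]
  · intro h
    exact ⟨_, h, cj_cj_inv g y⟩

theorem im_im_cj (P : Subgroup Ω) (g h : Ω) : im (im P (cj h)) (cj g) = im P (cj (g * h)) := by
  ext y
  simp only [mem_im_cj, cj_cj, mul_inv_rev]

theorem mem_normalizer_iff_im_cj {P : Subgroup Ω} {g : Ω} :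
    g ∈ Subgroup.normalizer (P : Set Ω) ↔ im P (cj g) = P := by
  rw [im_cj]; exact Subgroup.mem_normalizer_iff_map_conj_eq

theorem cj_mem_of_normalizer {P : Subgroup Ω} {g x : Ω}
    (hg : g ∈ Subgroup.normalizer (P : Set Ω)) (hx : x ∈ P) : cj g x ∈ P :=
  (Subgroup.mem_normalizer_iff.mp hg x).mp hx

namespace Mor

variable {P Q : Subgroup Ω} {f g : Ω → Ω}

theorem le (h : Mor F P f) : P ≤ S := (F.le_of_mem h.choose_spec.1).1

theorem apply_mem (h : Mor F P f) {x : Ω} (hx : x ∈ P) : f x ∈ S := by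
  obtain ⟨φ, hφ, he⟩ := h
  have := (F.le_of_mem hφ).2 ⟨x, hx⟩
  rwa [he ⟨x, hx⟩] at this

theorem congr (h : Mor F P f) (hfg : ∀ x ∈ P, f x = g x) : Mor F P g := by
  obtain ⟨φ, hφ, he⟩ := h
  exact ⟨φ, hφ, fun x => (he x).trans (hfg x x.2)⟩

theorem map_mul (h : Mor F P f) {x y : Ω} (hx : x ∈ P) (hy : y ∈ P) :
    f (x * y) = f x * f y := by
  obtain ⟨φ, -, he⟩ := h
  have := φ.map_mul ⟨x, hx⟩ ⟨y, hy⟩
  simp only [he, Subgroup.coe_mul] at this
  exact this

theorem map_one (h : Mor F P f) : f 1 = 1 := by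
  obtain ⟨φ, -, he⟩ := h
  have := φ.map_one
  simp only [he, Subgroup.coe_one] at this
  exact this

theorem map_inv (h : Mor F P f) {x : Ω} (hx : x ∈ P) : f x⁻¹ = (f x)⁻¹ := by
  obtain ⟨φ, -, he⟩ := h
  have := φ.map_inv ⟨x, hx⟩
  simp only [he, Subgroup.coe_inv] at this
  exact this

theorem map_cj (h : Mor F P f) {x y : Ω} (hx : x ∈ P) (hy : y ∈ P) :
    f (cj x y) = cj (f x) (f y) := by
  simp only [cj_apply]
  rw [h.map_mul (P.mul_mem hx hy) (P.inv_mem hx), h.map_mul hx hy, h.map_inv hx]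

theorem injOn (h : Mor F P f) {x y : Ω} (hx : x ∈ P) (hy : y ∈ P) (e : f x = f y) : x = y := by
  obtain ⟨φ, hφ, he⟩ := h
  have := F.injective_of_mem hφ (a₁ := ⟨x, hx⟩) (a₂ := ⟨y, hy⟩) (by rw [he, he]; exact e)
  exact congrArg Subtype.val this

theorem eq_one_of_apply (h : Mor F P f) {x : Ω} (hx : x ∈ P) (e : f x = 1) : x = 1 :=
  h.injOn hx P.one_mem (e.trans h.map_one.symm)

theorem mem_im (h : Mor F P f) {y : Ω} : y ∈ im P f ↔ ∃ x ∈ P, f x = y := by
  constructor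
  · intro hy
    have hle : im P f ≤ h.choose.range := by
      rw [im_le_iff]; intro x hx
      exact ⟨⟨x, hx⟩, h.choose_spec.2 ⟨x, hx⟩⟩
    obtain ⟨x, hx⟩ := hle hy
    exact ⟨x, x.2, (h.choose_spec.2 x).symm.trans hx⟩
  · rintro ⟨x, hx, rfl⟩
    exact apply_mem_im hx

theorem im_le (h : Mor F P f) : im P f ≤ S :=
  im_le_iff.mpr fun _ hx => h.apply_mem hx

theorem range_eq_im {φ : P →* Ω} (hφ : φ ∈ F.Hom P) (he : ∀ x : P, φ x = f x) :
    φ.range = im P f := by
  ext y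
  rw [(show Mor F P f from ⟨φ, hφ, he⟩).mem_im, MonoidHom.mem_range]
  constructor
  · rintro ⟨x, rfl⟩; exact ⟨x, x.2, (he x).symm⟩
  · rintro ⟨x, hx, rfl⟩; exact ⟨⟨x, hx⟩, he _⟩

theorem restrict_to (h : Mor F P f) (hQ : Q ≤ P) : Mor F Q f := by
  obtain ⟨φ, hφ, he⟩ := h
  have h1 : conjHom Q (1 : Ω) ∈ F.Hom Q :=
    F.conj_mem (hQ.trans (F.le_of_mem hφ).1) S.one_mem
  have hc : ∀ x : Q, conjHom Q (1 : Ω) x = (x : Ω) := fun x => by simp [conjHom]
  refine ⟨_, F.comp_mem h1 hφ (fun x => by rw [hc]; exact hQ x.2), fun x => ?_⟩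
  show φ _ = _
  rw [he]
  exact congrArg f (hc x)

theorem comp (hf : Mor F P f) (hg : Mor F Q g) (hfQ : ∀ x ∈ P, f x ∈ Q) :
    Mor F P (g ∘ f) := by
  obtain ⟨φ, hφ, he⟩ := hf
  obtain ⟨ψ, hψ, he'⟩ := hg
  refine ⟨_, F.comp_mem hφ hψ (fun x => by rw [he]; exact hfQ x x.2), fun x => ?_⟩
  show ψ _ = _
  rw [he']
  exact congrArg g (he x)

theorem comp_im (hf : Mor F P f) (hg : Mor F (im P f) g) : Mor F P (g ∘ f) :=
  hf.comp hg fun _ => apply_mem_im

theorem exists_inv (h : Mor F P f) :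
    ∃ g, Mor F (im P f) g ∧ (∀ x ∈ P, g (f x) = x) ∧ (∀ y ∈ im P f, f (g y) = y) ∧
      (∀ y ∈ im P f, g y ∈ P) := by
  obtain ⟨φ, hφ, he⟩ := id h
  obtain ⟨ψ, hψ, hinv⟩ := F.inv_mem hφ
  have e := range_eq_im hφ he
  have key : ∀ x ∈ P, toFun ψ (f x) = x := by
    intro x hx
    have h2 : f x ∈ φ.range := ⟨⟨x, hx⟩, he ⟨x, hx⟩⟩
    rw [toFun_apply ψ h2]
    refine Eq.trans ?_ (hinv ⟨x, hx⟩)
    congr 1
    exact Subtype.ext (he ⟨x, hx⟩).symm
  refine ⟨toFun ψ, e ▸ mor_toFun hψ, key, ?_, ?_⟩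
  · intro y hy
    obtain ⟨x, hx, rfl⟩ := h.mem_im.mp hy
    rw [key x hx]
  · intro y hy
    obtain ⟨x, hx, rfl⟩ := h.mem_im.mp hy
    rwa [key x hx]

theorem im_comp (hf : Mor F P f) (g : Ω → Ω) : im (im P f) g = im P (g ∘ f) := by
  refine le_antisymm (im_le_iff.mpr fun y hy => ?_) (im_le_iff.mpr fun x hx => ?_)
  · obtain ⟨x, hx, rfl⟩ := hf.mem_im.mp hy
    exact apply_mem_im (f := g ∘ f) hx
  · exact apply_mem_im (apply_mem_im hx)

/-- `f` as an isomorphism onto its image. -/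
noncomputable def iso (h : Mor F P f) (hQ : im P f = Q) : P ≃* Q :=
  MulEquiv.ofBijective
    ({ toFun := fun x => ⟨f x, hQ ▸ apply_mem_im x.2⟩
       map_one' := Subtype.ext h.map_one
       map_mul' := fun x y => Subtype.ext (h.map_mul x.2 y.2) } : P →* Q)
    ⟨fun x y e => Subtype.ext (h.injOn x.2 y.2 (congrArg Subtype.val e)), fun y => by
      obtain ⟨x, hx, e⟩ := h.mem_im.mp (hQ.symm ▸ y.2 : (y : Ω) ∈ im P f)
      exact ⟨⟨x, hx⟩, Subtype.ext e⟩⟩

theorem iso_apply (h : Mor F P f) (hQ : im P f = Q) (x : P) : (h.iso hQ x : Ω) = f x := rfl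

theorem card_im (h : Mor F P f) : Nat.card (im P f) = Nat.card P :=
  (Nat.card_congr (h.iso rfl).toEquiv).symm

end Mor

theorem mor_id {P : Subgroup Ω} (hP : P ≤ S) : Mor F P (fun x => x) :=
  ⟨conjHom P 1, F.conj_mem hP S.one_mem, fun x => by simp [conjHom]⟩

theorem mor_cj {P : Subgroup Ω} (hP : P ≤ S) {g : Ω} (hg : g ∈ S) : Mor F P (cj g) :=
  ⟨conjHom P g, F.conj_mem hP hg, fun _ => rfl⟩

theorem cj_mem_S {g x : Ω} (hg : g ∈ S) (hx : x ∈ S) : cj g x ∈ S :=
  S.mul_mem (S.mul_mem hg hx) (S.inv_mem hg)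

/-! ### Conjugacy of subgroups -/

theorem isConj_iff {P Q : Subgroup Ω} : F.IsConj P Q ↔ ∃ f, Mor F P f ∧ im P f = Q := by
  constructor
  · rintro ⟨φ, hφ, rfl⟩
    exact ⟨toFun φ, mor_toFun hφ, (Mor.range_eq_im hφ fun x => (toFun_coe φ x).symm).symm⟩
  · rintro ⟨f, ⟨φ, hφ, he⟩, rfl⟩
    exact ⟨φ, hφ, Mor.range_eq_im hφ he⟩

theorem isConj_refl {P : Subgroup Ω} (hP : P ≤ S) : F.IsConj P P :=
  isConj_iff.mpr ⟨_, mor_id hP, im_id P⟩

theorem isConj_symm {P Q : Subgroup Ω} (h : F.IsConj P Q) : F.IsConj Q P := by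
  obtain ⟨f, hf, rfl⟩ := isConj_iff.mp h
  obtain ⟨g, hg, hgf, -, -⟩ := hf.exists_inv
  refine isConj_iff.mpr ⟨g, hg, ?_⟩
  rw [hf.im_comp]
  exact (im_congr hgf).trans (im_id P)

theorem isConj_trans {P Q R : Subgroup Ω} (h : F.IsConj P Q) (h' : F.IsConj Q R) :
    F.IsConj P R := by
  obtain ⟨f, hf, rfl⟩ := isConj_iff.mp h
  obtain ⟨g, hg, rfl⟩ := isConj_iff.mp h'
  exact isConj_iff.mpr ⟨_, hf.comp_im hg, (hf.im_comp g).symm⟩

theorem isConj_left_le {P Q : Subgroup Ω} (h : F.IsConj P Q) : P ≤ S := by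
  obtain ⟨φ, hφ, -⟩ := h
  exact (F.le_of_mem hφ).1

theorem isConj_right_le {P Q : Subgroup Ω} (h : F.IsConj P Q) : Q ≤ S :=
  isConj_left_le (isConj_symm h)

theorem isConj_card {P Q : Subgroup Ω} (h : F.IsConj P Q) : Nat.card P = Nat.card Q := by
  obtain ⟨f, hf, rfl⟩ := isConj_iff.mp h
  exact hf.card_im.symm

/-! ### Finiteness -/

theorem finite_of_le [Finite S] {P : Subgroup Ω} (hP : P ≤ S) : Finite P :=
  Finite.of_injective (Subgroup.inclusion hP) (Subgroup.inclusion_injective hP)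

theorem eq_of_le_of_card_ge [Finite S] {P Q : Subgroup Ω} (hQ : Q ≤ S) (h : P ≤ Q)
    (hc : Nat.card Q ≤ Nat.card P) : P = Q := by
  haveI := finite_of_le hQ
  exact Subgroup.eq_of_le_of_card_ge h hc

theorem Mor.im_eq_of_le [Finite S] {P Q : Subgroup Ω} {f : Ω → Ω} (h : Mor F P f)
    (hQ : Q ≤ S) (hle : im P f ≤ Q) (hc : Nat.card Q ≤ Nat.card P) : im P f = Q :=
  eq_of_le_of_card_ge hQ hle (h.card_im.symm ▸ hc)

theorem Mor.im_self [Finite S] {P : Subgroup Ω} {f : Ω → Ω} (h : Mor F P f)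
    (hP : ∀ x ∈ P, f x ∈ P) : im P f = P :=
  h.im_eq_of_le h.le (im_le_iff.mpr hP) le_rfl

theorem mem_normalizer_of_cj_le [Finite S] {P : Subgroup Ω} (hP : P ≤ S) {g : Ω}
    (h : ∀ x ∈ P, cj g x ∈ P) : g ∈ Subgroup.normalizer (P : Set Ω) := by
  rw [mem_normalizer_iff_im_cj]
  refine eq_of_le_of_card_ge hP (im_le_iff.mpr h) ?_
  rw [im_cj]
  exact le_of_eq (Nat.card_congr (Subgroup.equivMapOfInjective P _ (MulAut.conj g).injective).toEquiv)

/-! ### Automorphism groups -/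

/-- An automorphism of a subgroup as a total function. -/
noncomputable def afun {P : Subgroup Ω} (α : MulAut P) : Ω → Ω :=
  toFun (P.subtype.comp α.toMonoidHom)

theorem afun_coe {P : Subgroup Ω} (α : MulAut P) (x : P) : afun α x = (α x : Ω) :=
  toFun_coe _ x

theorem afun_apply {P : Subgroup Ω} (α : MulAut P) {x : Ω} (hx : x ∈ P) :
    afun α x = (α ⟨x, hx⟩ : Ω) :=
  afun_coe α ⟨x, hx⟩

theorem afun_mem {P : Subgroup Ω} (α : MulAut P) {x : Ω} (hx : x ∈ P) : afun α x ∈ P := by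
  rw [afun_apply α hx]; exact (α ⟨x, hx⟩).2

theorem afun_mul {P : Subgroup Ω} (α β : MulAut P) {x : Ω} (hx : x ∈ P) :
    afun (α * β) x = afun α (afun β x) := by
  rw [afun_apply _ hx, afun_apply β hx, afun_coe]
  rfl

theorem afun_one {P : Subgroup Ω} {x : Ω} (hx : x ∈ P) : afun (1 : MulAut P) x = x := by
  rw [afun_apply _ hx]; rfl

theorem afun_inv_apply {P : Subgroup Ω} (α : MulAut P) {x : Ω} (hx : x ∈ P) :
    afun α⁻¹ (afun α x) = x := by
  rw [← afun_mul _ _ hx, inv_mul_cancel, afun_one hx]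

theorem afun_apply_inv {P : Subgroup Ω} (α : MulAut P) {x : Ω} (hx : x ∈ P) :
    afun α (afun α⁻¹ x) = x := by
  rw [← afun_mul _ _ hx, mul_inv_cancel, afun_one hx]

theorem afun_ext {P : Subgroup Ω} {α β : MulAut P} (h : ∀ x ∈ P, afun α x = afun β x) :
    α = β := by
  refine MulEquiv.ext fun x => Subtype.ext ?_
  have := h x x.2
  rwa [afun_coe, afun_coe] at this

theorem im_afun {P : Subgroup Ω} (α : MulAut P) : im P (afun α) = P := by
  refine le_antisymm (im_le_iff.mpr fun x hx => afun_mem α hx) fun y hy => ?_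
  have := apply_mem_im (f := afun α) (afun_mem α⁻¹ hy)
  rwa [afun_apply_inv α hy] at this

theorem mor_afun_iff {P : Subgroup Ω} {α : MulAut P} :
    Mor F P (afun α) ↔ P.subtype.comp α.toMonoidHom ∈ F.Hom P :=
  mor_iff_hom fun x => (afun_coe α x).symm

/-- The subgroup of automorphisms that are maps of the system. -/
def autSub (F : FusionSystem S) {P : Subgroup Ω} (hP : P ≤ S) : Subgroup (MulAut P) where
  carrier := {α | Mor F P (afun α)}
  one_mem' := (mor_id hP).congr fun _ hx => (afun_one hx).symm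
  mul_mem' {α β} hα hβ := (Mor.comp (F := F) hβ hα fun _ hx => afun_mem β hx).congr
    fun _ hx => (afun_mul α β hx).symm
  inv_mem' {α} hα := by
    obtain ⟨g, hg, hgf, -, -⟩ := (id hα : Mor F P (afun α)).exists_inv
    rw [im_afun] at hg
    refine hg.congr fun x hx => ?_
    conv_lhs => rw [← afun_apply_inv α hx]
    exact hgf _ (afun_mem _ hx)

theorem autGroup_eq {P : Subgroup Ω} (hP : P ≤ S) : F.autGroup P = autSub F hP := by
  have : {α : MulAut P | P.subtype.comp α.toMonoidHom ∈ F.Hom P} = (autSub F hP : Set _) := by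
    ext α; exact mor_afun_iff.symm
  rw [FusionSystem.autGroup, this, Subgroup.closure_eq]

theorem mem_autGroup {P : Subgroup Ω} (hP : P ≤ S) {α : MulAut P} :
    α ∈ F.autGroup P ↔ Mor F P (afun α) := by
  rw [autGroup_eq hP]; rfl

theorem mem_autGroup_of_mor {P : Subgroup Ω} {α : MulAut P} (h : Mor F P (afun α)) :
    α ∈ F.autGroup P :=
  (mem_autGroup h.le).mpr h

theorem Mor.exists_aut {P : Subgroup Ω} {f : Ω → Ω} (h : Mor F P f) (hP : im P f = P) :
    ∃ α ∈ F.autGroup P, ∀ x ∈ P, afun α x = f x := by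
  refine ⟨h.iso hP, mem_autGroup_of_mor (h.congr fun x hx => ?_), fun x hx => ?_⟩ <;>
    rw [afun_apply _ hx] <;> rfl

theorem autGroup_mono {E : FusionSystem S} (h : F ≤ E) (P : Subgroup Ω) :
    F.autGroup P ≤ E.autGroup P :=
  Subgroup.closure_mono fun _ hα => h P hα

/-! ### Automorphisms induced by conjugation -/

/-- `Aut_K(P)` as the image of `N_K(P)`. -/
def nHom (K P : Subgroup Ω) : ↥(K ⊓ Subgroup.normalizer (P : Set Ω)) →* MulAut P :=
  P.normalizerMonoidHom.comp (Subgroup.inclusion inf_le_right)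

theorem afun_nHom {K P : Subgroup Ω} (g : ↥(K ⊓ Subgroup.normalizer (P : Set Ω))) {x : Ω}
    (hx : x ∈ P) : afun (nHom K P g) x = cj (g : Ω) x := by
  rw [afun_apply _ hx]; rfl

theorem autInducedBy_eq_range (K P : Subgroup Ω) : autInducedBy K P = (nHom K P).range := by
  have : {α : MulAut P | ∃ g ∈ K, ∀ x : P, ((α x : P) : Ω) = g * (x : Ω) * g⁻¹} =
      ((nHom K P).range : Set (MulAut P)) := by
    ext α
    simp only [Set.mem_setOf_eq, SetLike.mem_coe, MonoidHom.mem_range]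
    constructor
    · rintro ⟨g, hg, he⟩
      have hn : g ∈ Subgroup.normalizer (P : Set Ω) := by
        rw [Subgroup.mem_normalizer_iff]
        refine fun x => ⟨fun hx => ?_, fun hx => ?_⟩
        · have := he ⟨x, hx⟩; rw [← this]; exact (α _).2
        · have h2 : g * (α.symm ⟨_, hx⟩ : Ω) * g⁻¹ = g * x * g⁻¹ := by
            rw [← he, MulEquiv.apply_symm_apply]
          have h3 : (α.symm ⟨_, hx⟩ : Ω) = x := mul_left_cancel (mul_right_cancel h2)
          rw [← h3]; exact (α.symm _).2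
      exact ⟨⟨g, hg, hn⟩, afun_ext fun x hx => by
        rw [afun_nHom _ hx, afun_apply _ hx]; exact (he ⟨x, hx⟩).symm⟩
    · rintro ⟨g, rfl⟩
      exact ⟨g, g.2.1, fun x => by rw [← afun_coe]; exact afun_nHom g x.2⟩
  rw [autInducedBy, this, Subgroup.closure_eq]

theorem mem_autInducedBy {K P : Subgroup Ω} {α : MulAut P} :
    α ∈ autInducedBy K P ↔
      ∃ g ∈ K, g ∈ Subgroup.normalizer (P : Set Ω) ∧ ∀ x ∈ P, afun α x = cj g x := by
  rw [autInducedBy_eq_range, MonoidHom.mem_range]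
  constructor
  · rintro ⟨g, rfl⟩
    exact ⟨g, g.2.1, g.2.2, fun x hx => afun_nHom g hx⟩
  · rintro ⟨g, hg, hn, he⟩
    exact ⟨⟨g, hg, hn⟩, afun_ext fun x hx => by rw [afun_nHom _ hx, he x hx]⟩

theorem autInducedBy_le {P : Subgroup Ω} (hP : P ≤ S) : autInducedBy S P ≤ F.autGroup P := by
  intro α hα
  obtain ⟨g, hg, -, he⟩ := mem_autInducedBy.mp hα
  exact mem_autGroup_of_mor ((mor_cj hP hg).congr fun x hx => (he x hx).symm)

theorem autInducedBy_mono {K L : Subgroup Ω} (h : K ≤ L) (P : Subgroup Ω) :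
    autInducedBy K P ≤ autInducedBy L P :=
  Subgroup.closure_mono fun _ ⟨g, hg, he⟩ => ⟨g, h hg, he⟩

theorem autInducedBy_self (P : Subgroup Ω) : autInducedBy P P = Inn P := by
  ext α
  rw [mem_autInducedBy, MonoidHom.mem_range]
  constructor
  · rintro ⟨g, hg, -, he⟩
    exact ⟨⟨g, hg⟩, afun_ext fun x hx => by rw [he x hx, afun_apply _ hx]; rfl⟩
  · rintro ⟨g, rfl⟩
    exact ⟨g, g.2, Subgroup.le_normalizer g.2, fun x hx => by rw [afun_apply _ hx]; rfl⟩

theorem inn_le_autInducedBy {P : Subgroup Ω} (hP : P ≤ S) : Inn P ≤ autInducedBy S P :=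
  (autInducedBy_self P).ge.trans (autInducedBy_mono hP P)

theorem inn_le_autGroup {P : Subgroup Ω} (hP : P ≤ S) : Inn P ≤ F.autGroup P :=
  (inn_le_autInducedBy hP).trans (autInducedBy_le hP)

theorem mem_centralizerIn {P : Subgroup Ω} {g : Ω} :
    g ∈ FusionSystem.centralizerIn S P ↔ g ∈ S ∧ ∀ x ∈ P, cj g x = x := by
  simp only [FusionSystem.centralizerIn, Subgroup.mem_inf, Subgroup.mem_centralizer_iff,
    SetLike.mem_coe, cj_apply, mul_inv_eq_iff_eq_mul]
  exact and_congr_right fun _ => forall₂_congr fun _ _ => eq_comm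

theorem mem_normalizerIn {P : Subgroup Ω} {g : Ω} :
    g ∈ FusionSystem.normalizerIn S P ↔ g ∈ S ∧ g ∈ Subgroup.normalizer (P : Set Ω) :=
  Iff.rfl

theorem centralizerIn_le_normalizerIn {P : Subgroup Ω} :
    FusionSystem.centralizerIn S P ≤ FusionSystem.normalizerIn S P :=
  inf_le_inf_left S (Subgroup.centralizer_le_normalizer _)

theorem le_normalizerIn {P : Subgroup Ω} (hP : P ≤ S) : P ≤ FusionSystem.normalizerIn S P :=
  le_inf hP Subgroup.le_normalizer

theorem nHom_ker_card (S P : Subgroup Ω) :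
    Nat.card (nHom S P).ker = Nat.card (FusionSystem.centralizerIn S P) := by
  refine Nat.card_congr
    ⟨fun g => ⟨(g : ↥(S ⊓ Subgroup.normalizer (P : Set Ω))), mem_centralizerIn.mpr
        ⟨(g : ↥(S ⊓ Subgroup.normalizer (P : Set Ω))).2.1, fun x hx => ?_⟩⟩,
      fun g => ⟨⟨g, centralizerIn_le_normalizerIn g.2⟩, afun_ext fun x hx => ?_⟩,
      fun g => rfl, fun g => rfl⟩
  · rw [← afun_nHom _ hx, MonoidHom.mem_ker.mp g.2, afun_one hx]
  · rw [afun_one hx, afun_nHom _ hx]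
    exact (mem_centralizerIn.mp g.2).2 x hx

theorem card_normalizerIn (S P : Subgroup Ω) :
    Nat.card (FusionSystem.normalizerIn S P) =
      Nat.card (autInducedBy S P) * Nat.card (FusionSystem.centralizerIn S P) := by
  rw [autInducedBy_eq_range, ← nHom_ker_card S P,
    ← Nat.card_congr (QuotientGroup.quotientKerEquivRange (nHom S P)).toEquiv,
    ← Subgroup.card_eq_card_quotient_mul_card_subgroup]
  rfl

theorem isPGroup_autInducedBy {p : ℕ} (hS : IsPGroup p S) (P : Subgroup Ω) :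
    IsPGroup p (autInducedBy S P) := by
  rw [autInducedBy_eq_range]
  exact (hS.to_le inf_le_left).of_surjective (nHom S P).rangeRestrict
    (nHom S P).rangeRestrict_surjective

theorem finite_autGroup [Finite S] (P : Subgroup Ω) : Finite (F.autGroup P) := by
  by_cases hP : P ≤ S
  · haveI := finite_of_le hP
    infer_instance
  · have : F.autGroup P = ⊥ := by
      rw [FusionSystem.autGroup, Subgroup.closure_eq_bot_iff]
      exact fun α hα => absurd (F.le_of_mem hα).1 hP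
    rw [this]; infer_instance

/-! ### Transport of automorphisms along a map of the system -/

/-- Conjugation of automorphisms by the isomorphism induced by `f`. -/
noncomputable def Mor.transport {P Q : Subgroup Ω} {f : Ω → Ω} (h : Mor F P f)
    (hQ : im P f = Q) : MulAut P ≃* MulAut Q :=
  MulAut.congr (h.iso hQ)

theorem Mor.afun_transport {P Q : Subgroup Ω} {f : Ω → Ω} (h : Mor F P f)
    (hQ : im P f = Q) (α : MulAut P) {x : Ω} (hx : x ∈ P) :
    afun (h.transport hQ α) (f x) = f (afun α x) := by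
  have e : f x = (h.iso hQ ⟨x, hx⟩ : Ω) := rfl
  rw [e, afun_coe, afun_apply α hx]
  simp [Mor.transport, MulAut.congr, Mor.iso_apply]

theorem Mor.transport_mem {P Q : Subgroup Ω} {f : Ω → Ω} (h : Mor F P f)
    (hQ : im P f = Q) {α : MulAut P} (hα : α ∈ F.autGroup P) :
    h.transport hQ α ∈ F.autGroup Q := by
  obtain ⟨g, hg, hgf, hfg, hgP⟩ := h.exists_inv
  have h1 : Mor F (im P f) ((f ∘ afun α) ∘ g) :=
    hg.comp (((mem_autGroup h.le).mp hα).comp h fun x hx => afun_mem α hx) hgP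
  refine mem_autGroup_of_mor ((hQ ▸ h1).congr fun y hy => ?_)
  obtain ⟨x, hx, rfl⟩ := h.mem_im.mp (hQ ▸ hy)
  rw [h.afun_transport hQ α hx]
  simp only [Function.comp_apply, hgf x hx]

theorem Mor.map_transport {P Q : Subgroup Ω} {f : Ω → Ω} (h : Mor F P f)
    (hQ : im P f = Q) :
    (F.autGroup P).map (h.transport hQ).toMonoidHom = F.autGroup Q := by
  refine le_antisymm ?_ fun β hβ => ?_
  · rintro _ ⟨α, hα, rfl⟩
    exact h.transport_mem hQ hα
  · obtain ⟨g, hg, hgf, -, -⟩ := h.exists_inv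
    rw [hQ] at hg
    have hgQ : im Q g = P := by
      rw [← hQ, h.im_comp]
      exact (im_congr hgf).trans (im_id P)
    refine ⟨hg.transport hgQ β, hg.transport_mem hgQ hβ, ?_⟩
    refine afun_ext fun y hy => ?_
    obtain ⟨x, hx, rfl⟩ := h.mem_im.mp (hQ ▸ hy)
    show afun (h.transport hQ (hg.transport hgQ β)) (f x) = _
    rw [h.afun_transport hQ _ hx]
    conv_lhs => rw [← hgf x hx]
    rw [hg.afun_transport hgQ β hy]
    obtain ⟨x', hx', e'⟩ := h.mem_im.mp (show afun β (f x) ∈ im P f by rw [hQ]; exact afun_mem β hy)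
    rw [← e', hgf x' hx']

theorem isConj_card_autGroup {P Q : Subgroup Ω} (h : F.IsConj P Q) :
    Nat.card (F.autGroup P) = Nat.card (F.autGroup Q) := by
  obtain ⟨f, hf, hQ⟩ := isConj_iff.mp h
  rw [← hf.map_transport hQ]
  exact Nat.card_congr
    (Subgroup.equivMapOfInjective _ _ (hf.transport hQ).injective).toEquiv

/-! ### The extender -/

/-- The extender as an explicit subgroup. -/
def extSub {P : Subgroup Ω} {f : Ω → Ω} (hf : Mor F P f) : Subgroup Ω where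
  carrier := {g | g ∈ S ∧ g ∈ Subgroup.normalizer (P : Set Ω) ∧
    ∃ h ∈ S, ∀ x ∈ P, f (cj g x) = cj h (f x)}
  one_mem' := ⟨S.one_mem, Subgroup.one_mem _, 1, S.one_mem, fun x _ => by simp only [cj_one]⟩
  mul_mem' {a b} := fun ⟨ha, ha', h, hh, he⟩ ⟨hb, hb', k, hk, he'⟩ =>
    ⟨S.mul_mem ha hb, Subgroup.mul_mem _ ha' hb', h * k, S.mul_mem hh hk, fun x hx => by
      rw [← cj_cj, he _ (cj_mem_of_normalizer hb' hx), he' x hx, cj_cj]⟩
  inv_mem' {a} := fun ⟨ha, ha', h, hh, he⟩ =>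
    ⟨S.inv_mem ha, Subgroup.inv_mem _ ha', h⁻¹, S.inv_mem hh, fun x hx => by
      have hx' := cj_mem_of_normalizer (Subgroup.inv_mem _ ha') hx
      have := he _ hx'
      rw [cj_cj_inv] at this
      rw [this, cj_inv_cj]⟩

theorem mem_extender {P : Subgroup Ω} {φ : P →* Ω} {f : Ω → Ω} (hφ : φ ∈ F.Hom P)
    (he : ∀ x : P, φ x = f x) {g : Ω} :
    g ∈ FusionSystem.extender S P φ ↔ g ∈ S ∧ g ∈ Subgroup.normalizer (P : Set Ω) ∧
      ∃ h ∈ S, ∀ x ∈ P, f (cj g x) = cj h (f x) := by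
  have hf : Mor F P f := ⟨φ, hφ, he⟩
  have : {g : Ω | g ∈ S ∧ g ∈ Subgroup.normalizer (P : Set Ω) ∧
      ∃ h ∈ S, ∀ (x : P) (hx : g * (x : Ω) * g⁻¹ ∈ P), φ ⟨g * x * g⁻¹, hx⟩ = h * φ x * h⁻¹} =
      (extSub hf : Set Ω) := by
    ext a
    refine and_congr_right fun _ => and_congr_right fun ha => exists_congr fun h =>
      and_congr_right fun _ => ?_
    constructor
    · intro e x hx
      have := e ⟨x, hx⟩ (cj_mem_of_normalizer ha hx)
      rwa [he, he] at this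
    · intro e x hx
      rw [he, he]
      exact e x x.2
  rw [FusionSystem.extender, this, Subgroup.closure_eq]
  rfl

/-- Receptive subgroups, in the language of `Mor`. -/
theorem receptive_iff {Q : Subgroup Ω} :
    F.IsReceptive Q ↔ Q ≤ S ∧ ∀ (P : Subgroup Ω) (f : Ω → Ω) (N : Subgroup Ω), Mor F P f →
      im P f = Q → N ≤ S → N ≤ Subgroup.normalizer (P : Set Ω) →
      (∀ g ∈ N, ∃ h ∈ S, ∀ x ∈ P, f (cj g x) = cj h (f x)) →
      ∃ f', Mor F (P ⊔ N) f' ∧ ∀ x ∈ P, f' x = f x := by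
  refine and_congr_right fun hQS => ⟨fun h P f N ⟨φ, hφ, he⟩ him hNS hNn hN => ?_,
    fun h P φ hφ hr => ?_⟩
  · obtain ⟨ψ, hψ, hag⟩ := h P φ hφ ((Mor.range_eq_im hφ he).trans him)
    have hPe : P ≤ FusionSystem.extender S P φ := fun x hx =>
      (mem_extender hφ he).mpr ⟨(F.le_of_mem hφ).1 hx, Subgroup.le_normalizer hx, f x,
        Mor.apply_mem ⟨φ, hφ, he⟩ hx, fun y hy => Mor.map_cj ⟨φ, hφ, he⟩ hx hy⟩
    have hNe : N ≤ FusionSystem.extender S P φ := fun g hg =>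
      (mem_extender hφ he).mpr ⟨hNS hg, hNn hg, hN g hg⟩
    refine ⟨toFun ψ, (mor_toFun hψ).restrict_to (sup_le hPe hNe), fun x hx => ?_⟩
    rw [toFun_apply ψ (hPe hx), hag x hx (hPe hx), he ⟨x, hx⟩]
  · have he : ∀ x : P, φ x = toFun φ x := fun x => (toFun_coe φ x).symm
    have hm : ∀ {g : Ω}, g ∈ FusionSystem.extender S P φ ↔ _ := fun {g} => mem_extender hφ he
    obtain ⟨f', hf', hag⟩ := h P (toFun φ) (FusionSystem.extender S P φ) (mor_toFun hφ)
      ((Mor.range_eq_im hφ he).symm.trans hr)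
      (fun g hg => (hm.mp hg).1) (fun g hg => (hm.mp hg).2.1) (fun g hg => (hm.mp hg).2.2)
    have hf'' := hf'.restrict_to (le_sup_right : FusionSystem.extender S P φ ≤ _)
    obtain ⟨ψ, hψ, hψe⟩ := hf''
    exact ⟨ψ, hψ, fun x hP hN => (hψe ⟨x, hN⟩).trans
      ((hag x hP).trans (toFun_apply φ hP))⟩

end Cfsg.Agent.FusionSysBasic
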