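import Cfsg.Agent.Lib.FusionSysBasic

/-!
Saturation of fusion systems: receptive subgroups are fully centralized, the extension lemma
`N_S(Q) → N_S(P)`, and the equivalence of the usual definitions of saturation
(Roberts–Shpectorov).
-/

set_option autoImplicit false

namespace Cfsg.Agent.FusionSysSaturated

open Cfsg Cfsg.FusionSystem Cfsg.Agent.FusionSysBasic

variable {Ω : Type*} [Group Ω] {S : Subgroup Ω} {F : FusionSystem S} {p : ℕ}

/-! ### Sylow subgroups of subgroups -/

/-- `R` is (as a subgroup of `A`) a Sylow `p`-subgroup of `A`. -/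
def SylIn {G : Type*} [Group G] (p : ℕ) (R A : Subgroup G) : Prop :=
  ∃ T : Sylow p A, (T : Subgroup A) = R.subgroupOf A

theorem sylIn_iff_card {G : Type*} [Group G] [Fact p.Prime] {R A : Subgroup G} [Finite A]
    (hRA : R ≤ A) :
    SylIn p R A ↔ Nat.card R = p ^ (Nat.card A).factorization p := by
  have e : Nat.card (R.subgroupOf A) = Nat.card R :=
    Nat.card_congr (Subgroup.subgroupOfEquivOfLe hRA).toEquiv
  constructor
  · rintro ⟨T, hT⟩
    rw [← e, ← hT]
    exact T.card_eq_multiplicity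
  · intro h
    exact ⟨Sylow.ofCard (R.subgroupOf A) (e.trans h), rfl⟩

theorem sylIn_absorb {G : Type*} [Group G] [Fact p.Prime] {R A K : Subgroup G} [Finite A]
    (hR : SylIn p R A) (hK : IsPGroup p K) (hKA : K ≤ A) :
    ∃ a ∈ A, ∀ k ∈ K, a * k * a⁻¹ ∈ R := by
  obtain ⟨T, hT⟩ := hR
  obtain ⟨Q, hQ⟩ := (hK.of_equiv (Subgroup.subgroupOfEquivOfLe hKA).symm).exists_le_sylow
  obtain ⟨a, ha⟩ := MulAction.exists_smul_eq A Q T
  refine ⟨a, a.2, fun k hk => ?_⟩
  have h1 : a * ⟨k, hKA hk⟩ * a⁻¹ ∈ ((a • Q : Sylow p A) : Subgroup A) := by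
    refine Subgroup.mem_map.mpr ⟨⟨k, hKA hk⟩, hQ hk, ?_⟩
    simp [MulDistribMulAction.toMonoidEnd_apply]
  rw [ha, hT] at h1
  exact h1

/-- A `p`-subgroup that is not Sylow has an element of `p`-power order normalizing it outside. -/
theorem exists_normalizing_of_not_sylIn {G : Type*} [Group G] [Fact p.Prime] {R A : Subgroup G}
    [Finite A] (hR : IsPGroup p R) (hRA : R ≤ A) (h : ¬ SylIn p R A) :
    ∃ a ∈ A, a ∉ R ∧ a ∈ Subgroup.normalizer (R : Set G) ∧ ∃ k, orderOf a = p ^ k := by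
  have hR' : IsPGroup p (R.subgroupOf A) := hR.of_equiv (Subgroup.subgroupOfEquivOfLe hRA).symm
  obtain ⟨T, hT⟩ := hR'.exists_le_sylow
  have hne : R.subgroupOf A ≠ T := fun e => h ⟨T, e.symm⟩
  haveI := T.2.isNilpotent
  have hlt : (R.subgroupOf A).subgroupOf T < ⊤ := by
    refine lt_top_iff_ne_top.mpr fun e => hne (le_antisymm hT ?_)
    rwa [Subgroup.subgroupOf_eq_top] at e
  obtain ⟨t, htn, htR⟩ :=
    SetLike.exists_of_lt (normalizerCondition_of_isNilpotent _ hlt)
  refine ⟨((t : A) : G), (t : A).2, fun e => htR e, ?_, ?_⟩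
  · rw [Subgroup.mem_normalizer_iff]
    intro x
    constructor
    · intro hx
      exact (Subgroup.mem_normalizer_iff.mp htn ⟨⟨x, hRA hx⟩, hT (show (⟨x, hRA hx⟩ : A) ∈ _ from hx)⟩).mp hx
    · intro hx
      have hxA : x ∈ A := by
        have := A.mul_mem (A.mul_mem (A.inv_mem (t : A).2) (hRA hx)) (t : A).2
        convert this using 1
        group
      have hxT : (⟨x, hxA⟩ : A) ∈ (T : Subgroup A) := by
        have h2 : (⟨_, hRA hx⟩ : A) ∈ (T : Subgroup A) := hT hx
        have := T.toSubgroup.mul_mem (T.toSubgroup.mul_mem (T.toSubgroup.inv_mem t.2) h2) t.2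
        convert this using 1
        ext
        simp [mul_assoc]
      exact (Subgroup.mem_normalizer_iff.mp htn ⟨⟨x, hxA⟩, hxT⟩).mpr hx
  · obtain ⟨k, hk⟩ := (IsPGroup.iff_orderOf.mp T.2) t
    exact ⟨k, by rw [← hk, Subgroup.orderOf_coe, Subgroup.orderOf_coe]⟩

/-! ### Maps on a join -/

theorem mor_sup_induction {A B T : Subgroup Ω} {f : Ω → Ω} (h : Mor F (A ⊔ B) f)
    (hA : ∀ a ∈ A, f a ∈ T) (hB : ∀ b ∈ B, f b ∈ T) {x : Ω} (hx : x ∈ A ⊔ B) : f x ∈ T := by
  obtain ⟨φ, -, he⟩ := h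
  have : A ⊔ B ≤ (T.comap φ).map (A ⊔ B).subtype := by
    refine sup_le (fun a ha => ?_) fun b hb => ?_
    · exact ⟨⟨a, Subgroup.mem_sup_left ha⟩, by rw [SetLike.mem_coe, Subgroup.mem_comap, he]; exact hA a ha, rfl⟩
    · exact ⟨⟨b, Subgroup.mem_sup_right hb⟩, by rw [SetLike.mem_coe, Subgroup.mem_comap, he]; exact hB b hb, rfl⟩
  obtain ⟨y, hy, rfl⟩ := this hx
  rw [SetLike.mem_coe, Subgroup.mem_comap, he] at hy
  exact hy

theorem sup_normalizerIn {P : Subgroup Ω} (hP : P ≤ S) : P ⊔ normalizerIn S P = normalizerIn S P :=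
  sup_eq_right.mpr (le_normalizerIn hP)

theorem mor_normalizer_mem {P Q : Subgroup Ω} {f : Ω → Ω} (hf : Mor F (normalizerIn S P) f)
    (hP : P ≤ S) (hQ : im P f = Q) {g : Ω} (hg : g ∈ normalizerIn S P) :
    f g ∈ normalizerIn S Q := by
  refine ⟨hf.apply_mem hg, ?_⟩
  have hr := hf.restrict_to (le_normalizerIn hP)
  show f g ∈ Subgroup.normalizer (Q : Set Ω)
  rw [mem_normalizer_iff_im_cj, ← hQ]
  calc im (im P f) (cj (f g)) = im P (cj (f g) ∘ f) := hr.im_comp _
    _ = im P (f ∘ cj g) := im_congr fun x hx => (hf.map_cj hg (le_normalizerIn hP hx)).symm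
    _ = im (im P (cj g)) f := ((mor_cj (F := F) hP hg.1).im_comp f).symm
    _ = im P f := by rw [mem_normalizer_iff_im_cj.mp hg.2]

theorem mor_centralizer_iff {P Q : Subgroup Ω} {f : Ω → Ω} (hf : Mor F (normalizerIn S P) f)
    (hP : P ≤ S) (hQ : im P f = Q) {g : Ω} (hg : g ∈ normalizerIn S P) :
    f g ∈ centralizerIn S Q ↔ g ∈ centralizerIn S P := by
  have hr := hf.restrict_to (le_normalizerIn hP)
  rw [mem_centralizerIn, mem_centralizerIn, ← hQ]
  refine and_congr ⟨fun _ => hg.1, fun _ => hf.apply_mem hg⟩ ⟨fun h x hx => ?_, fun h y hy => ?_⟩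
  · refine hf.injOn (le_normalizerIn hP (cj_mem_of_normalizer hg.2 hx)) (le_normalizerIn hP hx) ?_
    rw [hf.map_cj hg (le_normalizerIn hP hx)]
    exact h _ (apply_mem_im hx)
  · obtain ⟨x, hx, rfl⟩ := hr.mem_im.mp hy
    rw [← hf.map_cj hg (le_normalizerIn hP hx), h x hx]

/-! ### Receptive and fully automized subgroups -/

variable [Finite S]

theorem finite_normalizerIn (P : Subgroup Ω) : Finite (normalizerIn S P) :=
  finite_of_le inf_le_left

theorem finite_centralizerIn (P : Subgroup Ω) : Finite (centralizerIn S P) :=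
  finite_of_le inf_le_left

theorem card_le_of_mor {A B : Subgroup Ω} {f : Ω → Ω} (hf : Mor F A f) (hB : B ≤ S)
    (h : ∀ x ∈ A, f x ∈ B) : Nat.card A ≤ Nat.card B := by
  haveI := finite_of_le hB
  rw [← hf.card_im]
  exact Subgroup.card_le_of_le (im_le_iff.mpr h)

/-- Every map onto a receptive subgroup extends to the centralizer. -/
theorem exists_extension_centralizer {P Q : Subgroup Ω} {f : Ω → Ω} (hQ : F.IsReceptive Q)
    (hf : Mor F P f) (him : im P f = Q) :
    ∃ f', Mor F (P ⊔ centralizerIn S P) f' ∧ (∀ x ∈ P, f' x = f x) ∧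
      ∀ c ∈ centralizerIn S P, f' c ∈ centralizerIn S Q := by
  obtain ⟨-, hrec⟩ := receptive_iff.mp hQ
  obtain ⟨f', hf', hag⟩ := hrec P f (centralizerIn S P) hf him inf_le_left
    (centralizerIn_le_normalizerIn.trans inf_le_right)
    (fun g hg => ⟨1, S.one_mem, fun x hx => by rw [(mem_centralizerIn.mp hg).2 x hx, cj_one]⟩)
  refine ⟨f', hf', hag, fun c hc => mem_centralizerIn.mpr
    ⟨hf'.apply_mem (Subgroup.mem_sup_right hc), fun y hy => ?_⟩⟩
  obtain ⟨x, hx, rfl⟩ := hf.mem_im.mp (him.symm ▸ hy)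
  rw [← hag x hx, ← hf'.map_cj (Subgroup.mem_sup_right hc) (Subgroup.mem_sup_left hx),
    (mem_centralizerIn.mp hc).2 x hx]

theorem fullyCentralized_of_receptive {Q : Subgroup Ω} (hQ : F.IsReceptive Q) :
    F.IsFullyCentralized Q := by
  refine ⟨hQ.1, fun P hP => ?_⟩
  obtain ⟨f, hf, him⟩ := isConj_iff.mp (isConj_symm hP)
  obtain ⟨f', hf', -, hC⟩ := exists_extension_centralizer hQ hf him
  exact card_le_of_mor (hf'.restrict_to le_sup_right) inf_le_left hC

/-- If `P` is fully automized and receptive and `Q` is conjugate to `P`, some map `N_S(Q) → N_S(P)`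
carries `Q` onto `P`. -/
theorem exists_map_normalizer [Fact p.Prime] (hS : IsPGroup p S) {P Q : Subgroup Ω}
    (h₁ : F.IsFullyAutomized p P) (h₂ : F.IsReceptive P) (hQ : F.IsConj Q P) :
    ∃ f, Mor F (normalizerIn S Q) f ∧ (∀ x ∈ normalizerIn S Q, f x ∈ normalizerIn S P) ∧
      im Q f = P := by
  obtain ⟨f₀, hf₀, him⟩ := isConj_iff.mp hQ
  haveI := finite_autGroup (F := F) P
  have hQS := hf₀.le
  let e := hf₀.transport him
  obtain ⟨a, ha, haR⟩ := sylIn_absorb (K := (autInducedBy S Q).map e.toMonoidHom)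
    (h₁.2 : SylIn p (autInducedBy S P) (F.autGroup P))
    ((isPGroup_autInducedBy hS Q).map _)
    (hf₀.map_transport him ▸ Subgroup.map_mono (autInducedBy_le hQS))
  have hf₁ : Mor F Q (afun a ∘ f₀) := hf₀.comp ((mem_autGroup h₁.1).mp ha)
    fun x hx => him ▸ apply_mem_im hx
  have him₁ : im Q (afun a ∘ f₀) = P := by rw [← hf₀.im_comp, him, im_afun]
  obtain ⟨-, hrec⟩ := receptive_iff.mp h₂
  obtain ⟨f, hf, hag⟩ := hrec Q _ (normalizerIn S Q) hf₁ him₁ inf_le_left inf_le_right (by
    intro g hg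
    obtain ⟨h, hh, -, he⟩ :=
      mem_autInducedBy.mp (haR (e (nHom S Q ⟨g, hg⟩)) ⟨_, autInducedBy_eq_range S Q ▸ ⟨_, rfl⟩, rfl⟩)
    refine ⟨h, hh, fun x hx => ?_⟩
    have hfx : f₀ x ∈ P := him ▸ apply_mem_im hx
    show afun a (f₀ (cj g x)) = cj h (afun a (f₀ x))
    rw [← he _ (afun_mem a hfx), afun_mul _ _ (afun_mem a hfx), afun_inv_apply a hfx,
      afun_mul _ _ hfx, hf₀.afun_transport him _ hx, afun_nHom _ hx])
  have him₂ : im Q f = P := (im_congr hag).trans him₁
  rw [sup_normalizerIn hQS] at hf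
  exact ⟨f, hf, fun x hx => mor_normalizer_mem hf hQS him₂ hx, him₂⟩

theorem fullyNormalized_of_automized_receptive [Fact p.Prime] (hS : IsPGroup p S)
    {P : Subgroup Ω} (h₁ : F.IsFullyAutomized p P) (h₂ : F.IsReceptive P) :
    F.IsFullyNormalized P := by
  refine ⟨h₁.1, fun Q hQ => ?_⟩
  obtain ⟨f, hf, hfN, -⟩ := exists_map_normalizer hS h₁ h₂ (isConj_symm hQ)
  exact card_le_of_mor hf inf_le_left hfN

theorem exists_fullyNormalized {P : Subgroup Ω} (hP : P ≤ S) :
    ∃ Q, F.IsConj P Q ∧ F.IsFullyNormalized Q := by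
  have hfin : {Q : Subgroup Ω | F.IsConj P Q}.Finite := by
    have : {Q : Subgroup Ω | Q ≤ S}.Finite := by
      refine Set.Finite.of_finite_image (f := fun Q : Subgroup Ω => Q.subgroupOf S) (Set.toFinite _) ?_
      intro A hA B hB e
      have := congrArg (Subgroup.map S.subtype) e
      simpa [Subgroup.subgroupOf_map_subtype, inf_eq_left.mpr (show A ≤ S from hA),
        inf_eq_left.mpr (show B ≤ S from hB)] using this
    exact this.subset fun Q hQ => isConj_right_le hQ
  obtain ⟨Q, hQ, hmax⟩ :=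
    Set.exists_max_image _ (fun Q => Nat.card (normalizerIn S Q)) hfin ⟨P, isConj_refl hP⟩
  exact ⟨Q, hQ, isConj_right_le hQ, fun R hR => hmax R (isConj_trans hQ hR)⟩

theorem exists_fullyCentralized {P : Subgroup Ω} (hP : P ≤ S) :
    ∃ Q, F.IsConj P Q ∧ F.IsFullyCentralized Q := by
  have hfin : {Q : Subgroup Ω | F.IsConj P Q}.Finite := by
    have : {Q : Subgroup Ω | Q ≤ S}.Finite := by
      refine Set.Finite.of_finite_image (f := fun Q : Subgroup Ω => Q.subgroupOf S) (Set.toFinite _) ?_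
      intro A hA B hB e
      have := congrArg (Subgroup.map S.subtype) e
      simpa [Subgroup.subgroupOf_map_subtype, inf_eq_left.mpr (show A ≤ S from hA),
        inf_eq_left.mpr (show B ≤ S from hB)] using this
    exact this.subset fun Q hQ => isConj_right_le hQ
  obtain ⟨Q, hQ, hmax⟩ :=
    Set.exists_max_image _ (fun Q => Nat.card (centralizerIn S Q)) hfin ⟨P, isConj_refl hP⟩
  exact ⟨Q, hQ, isConj_right_le hQ, fun R hR => hmax R (isConj_trans hQ hR)⟩

section Saturated

variable [Fact p.Prime] (hS : IsPGroup p S) (hF : F.IsSaturated p)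

include hS hF

/-- The comparison of a fully normalized subgroup with a fully automized receptive conjugate. -/
theorem exists_iso_normalizer {P : Subgroup Ω} (hP : F.IsFullyNormalized P) :
    ∃ Q, F.IsFullyAutomized p Q ∧ F.IsReceptive Q ∧ F.IsConj P Q ∧
      ∃ f, Mor F (normalizerIn S P) f ∧ im (normalizerIn S P) f = normalizerIn S Q ∧
        im P f = Q := by
  obtain ⟨Q, hPQ, hQa, hQr⟩ := hF P hP.1
  obtain ⟨f, hf, hfN, him⟩ := exists_map_normalizer hS hQa hQr hPQ
  exact ⟨Q, hQa, hQr, hPQ, f, hf,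
    hf.im_eq_of_le inf_le_left (im_le_iff.mpr hfN) (hP.2 Q hPQ), him⟩

theorem fullyCentralized_of_fullyNormalized {P : Subgroup Ω} (hP : F.IsFullyNormalized P) :
    F.IsFullyCentralized P := by
  obtain ⟨Q, -, hQr, hPQ, f, hf, hfN, him⟩ := exists_iso_normalizer hS hF hP
  refine ⟨hP.1, fun R hR =>
    le_trans ((fullyCentralized_of_receptive hQr).2 R (isConj_trans (isConj_symm hPQ) hR)) ?_⟩
  have hr := hf.restrict_to (centralizerIn_le_normalizerIn (P := P))
  have : centralizerIn S Q ≤ im (centralizerIn S P) f := by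
    intro y hy
    obtain ⟨x, hx, rfl⟩ := hf.mem_im.mp (hfN.symm ▸ centralizerIn_le_normalizerIn hy)
    exact apply_mem_im ((mor_centralizer_iff hf hP.1 him hx).mp hy)
  have hfin := finite_of_le (S := S) hr.im_le
  exact (Subgroup.card_le_of_le this).trans hr.card_im.le

theorem fullyAutomized_of_fullyNormalized {P : Subgroup Ω} (hP : F.IsFullyNormalized P) :
    F.IsFullyAutomized p P := by
  obtain ⟨Q, hQa, hQr, hPQ, f, hf, hfN, -⟩ := exists_iso_normalizer hS hF hP
  refine ⟨hP.1, ?_⟩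
  haveI := finite_autGroup (F := F) P
  haveI := finite_autGroup (F := F) Q
  refine (sylIn_iff_card (autInducedBy_le hP.1)).mpr ?_
  rw [isConj_card_autGroup hPQ, ← (sylIn_iff_card (autInducedBy_le hQa.1)).mp hQa.2]
  have e : Nat.card (normalizerIn S P) = Nat.card (normalizerIn S Q) := by
    rw [← hfN, hf.card_im]
  have eC : Nat.card (centralizerIn S P) = Nat.card (centralizerIn S Q) :=
    le_antisymm ((fullyCentralized_of_receptive hQr).2 P (isConj_symm hPQ))
      ((fullyCentralized_of_fullyNormalized hS hF hP).2 Q hPQ)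
  rw [card_normalizerIn, card_normalizerIn, eC] at e
  haveI := finite_centralizerIn (S := S) Q
  exact Nat.eq_of_mul_eq_mul_right Nat.card_pos e

theorem receptive_of_fullyCentralized {P : Subgroup Ω} (hP : F.IsFullyCentralized P) :
    F.IsReceptive P := by
  obtain ⟨Q, hPQ, hQa, hQr⟩ := hF P hP.1
  obtain ⟨f, hf, hfN, him⟩ := exists_map_normalizer hS hQa hQr hPQ
  have hC : im (centralizerIn S P) f = centralizerIn S Q := by
    refine (hf.restrict_to centralizerIn_le_normalizerIn).im_eq_of_le inf_le_left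
      (im_le_iff.mpr fun x hx => (mor_centralizer_iff hf hP.1 him
        (centralizerIn_le_normalizerIn hx)).mpr hx) (hP.2 Q hPQ)
  refine receptive_iff.mpr ⟨hP.1, fun R φ N hφ hR hNS hNn hN => ?_⟩
  have hφP : ∀ x ∈ R, φ x ∈ P := fun x hx => hR ▸ apply_mem_im hx
  have hφN : ∀ x ∈ R, φ x ∈ normalizerIn S P := fun x hx => le_normalizerIn hP.1 (hφP x hx)
  have h1 : Mor F R (f ∘ φ) := hφ.comp hf hφN
  have him1 : im R (f ∘ φ) = Q := by rw [← hφ.im_comp, hR, him]
  have hN' : ∀ g ∈ N, ∃ h ∈ normalizerIn S P, ∀ x ∈ R, φ (cj g x) = cj h (φ x) := by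
    intro g hg
    obtain ⟨h, hh, he⟩ := hN g hg
    refine ⟨h, ⟨hh, mem_normalizer_of_cj_le hP.1 fun y hy => ?_⟩, he⟩
    obtain ⟨x, hx, rfl⟩ := hφ.mem_im.mp (hR.symm ▸ hy)
    rw [← he x hx]
    exact hφP _ (cj_mem_of_normalizer (hNn hg) hx)
  obtain ⟨θ, hθ, hag⟩ := (receptive_iff.mp hQr).2 R _ N h1 him1 hNS hNn fun g hg => by
    obtain ⟨h, hh, he⟩ := hN' g hg
    refine ⟨f h, hf.apply_mem hh, fun x hx => ?_⟩
    show f (φ (cj g x)) = cj (f h) (f (φ x))
    rw [he x hx, hf.map_cj hh (hφN x hx)]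
  obtain ⟨fi, hfi, hfif, -, -⟩ := hf.exists_inv
  have key : ∀ x ∈ R ⊔ N, θ x ∈ im (normalizerIn S P) f := by
    refine fun x hx => mor_sup_induction hθ (fun a ha => ?_) (fun g hg => ?_) hx
    · rw [hag a ha]; exact apply_mem_im (hφN a ha)
    · obtain ⟨h, hh, he⟩ := hN' g hg
      have hd : (f h)⁻¹ * θ g ∈ centralizerIn S Q := by
        refine mem_centralizerIn.mpr ⟨S.mul_mem (S.inv_mem (hf.apply_mem hh))
          (hθ.apply_mem (Subgroup.mem_sup_right hg)), fun y hy => ?_⟩
        obtain ⟨a, ha, rfl⟩ := h1.mem_im.mp (him1.symm ▸ hy)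
        have e1 : θ (cj g a) = cj (f h) (f (φ a)) := by
          rw [hag _ (cj_mem_of_normalizer (hNn hg) ha)]
          show f (φ (cj g a)) = _
          rw [he a ha, hf.map_cj hh (hφN a ha)]
        rw [hθ.map_cj (Subgroup.mem_sup_right hg) (Subgroup.mem_sup_left ha), hag a ha] at e1
        rw [← cj_cj]
        show cj _ (cj (θ g) (f (φ a))) = _
        simp only [Function.comp_apply] at e1
        rw [e1, cj_inv_cj]
        rfl
      have := (im (normalizerIn S P) f).mul_mem (apply_mem_im (f := f) hh)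
        (im_mono (f := f) centralizerIn_le_normalizerIn (hC.symm ▸ hd))
      rwa [mul_inv_cancel_left] at this
  refine ⟨_, hθ.comp hfi key, fun x hx => ?_⟩
  show fi (θ x) = φ x
  rw [hag x hx]
  exact hfif _ (hφN x hx)

theorem receptive_of_fullyNormalized {P : Subgroup Ω} (hP : F.IsFullyNormalized P) :
    F.IsReceptive P :=
  receptive_of_fullyCentralized hS hF (fullyCentralized_of_fullyNormalized hS hF hP)

/-- In a saturated system every conjugate of a fully normalized subgroup maps to it with its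
normalizer. -/
theorem exists_map_to_fullyNormalized {P Q : Subgroup Ω} (hP : F.IsFullyNormalized P)
    (hQ : F.IsConj Q P) :
    ∃ f, Mor F (normalizerIn S Q) f ∧ (∀ x ∈ normalizerIn S Q, f x ∈ normalizerIn S P) ∧
      im Q f = P :=
  exists_map_normalizer hS (fullyAutomized_of_fullyNormalized hS hF hP)
    (receptive_of_fullyNormalized hS hF hP) hQ

end Saturated

theorem saturated_iff [Fact p.Prime] (hS : IsPGroup p S) :
    F.IsSaturated p ↔ ((∀ P : Subgroup Ω, F.IsFullyNormalized P →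
        F.IsFullyCentralized P ∧ F.IsFullyAutomized p P) ∧
      ∀ P : Subgroup Ω, F.IsFullyCentralized P → F.IsReceptive P) := by
  refine ⟨fun hF => ⟨fun P hP => ⟨fullyCentralized_of_fullyNormalized hS hF hP,
    fullyAutomized_of_fullyNormalized hS hF hP⟩,
    fun P hP => receptive_of_fullyCentralized hS hF hP⟩, fun h P hP => ?_⟩
  obtain ⟨Q, hQ, hn⟩ := exists_fullyNormalized (F := F) hP
  exact ⟨Q, hQ, (h.1 Q hn).2, h.2 Q (h.1 Q hn).1⟩

theorem isConj_self_eq {Q : Subgroup Ω} (h : F.IsConj S Q) : Q = S :=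
  eq_of_le_of_card_ge le_rfl (isConj_right_le h) (isConj_card h).le

theorem fullyNormalized_self : F.IsFullyNormalized S :=
  ⟨le_rfl, fun Q hQ => by rw [isConj_self_eq hQ]⟩

theorem fullyAutomized_of_saturated_self (hF : F.IsSaturated p) :
    F.IsFullyAutomized p S := by
  obtain ⟨Q, hQ, ha, -⟩ := hF S le_rfl
  exact isConj_self_eq hQ ▸ ha

/-- The saturation criterion: `Aut_S(S)` is Sylow in `Aut_F(S)` and fully normalized subgroups are
receptive. -/
theorem saturated_of_receptive [Fact p.Prime] (hS : IsPGroup p S)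
    (h₁ : F.IsFullyAutomized p S) (h₂ : ∀ P : Subgroup Ω, F.IsFullyNormalized P → F.IsReceptive P) :
    F.IsSaturated p := by
  suffices ∀ (n : ℕ) (P : Subgroup Ω), F.IsFullyNormalized P →
      Nat.card S - Nat.card P ≤ n → F.IsFullyAutomized p P by
    intro P hP
    obtain ⟨Q, hQ, hn⟩ := exists_fullyNormalized (F := F) hP
    exact ⟨Q, hQ, this _ Q hn le_rfl, h₂ Q hn⟩
  intro n
  induction n with
  | zero =>
    intro P hP h0
    rwa [eq_of_le_of_card_ge le_rfl hP.1 (by omega)]
  | succ n IH =>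
    intro P hP hn
    by_contra hna
    haveI := finite_autGroup (F := F) P
    have hPS : P < S := lt_of_le_of_ne hP.1 fun e => hna (e ▸ h₁)
    obtain ⟨α, hαA, hαR, hαn, k, hk⟩ := exists_normalizing_of_not_sylIn (p := p)
      (isPGroup_autInducedBy hS P) (autInducedBy_le (F := F) hP.1)
      fun h => hna ⟨hP.1, h⟩
    have hfα := (mem_autGroup hP.1).mp hαA
    set N := normalizerIn S P with hN
    obtain ⟨f, hf, hag⟩ := (receptive_iff.mp (h₂ P hP)).2 P (afun α) N hfα (im_afun α) inf_le_left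
      inf_le_right fun g hg => by
        have hc : nHom S P ⟨g, hg⟩ ∈ autInducedBy S P :=
          autInducedBy_eq_range S P ▸ ⟨_, rfl⟩
        obtain ⟨h, hh, -, he⟩ :=
          mem_autInducedBy.mp ((Subgroup.mem_normalizer_iff.mp hαn _).mp hc)
        refine ⟨h, hh, fun x hx => ?_⟩
        rw [← he _ (afun_mem α hx), afun_mul _ _ (afun_mem α hx), afun_inv_apply α hx,
          afun_mul _ _ hx, afun_nHom _ hx]
    rw [sup_normalizerIn hP.1] at hf
    have himP : im P f = P := (im_congr hag).trans (im_afun α)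
    obtain ⟨β, hβA, hβ⟩ := hf.exists_aut
      (hf.im_self fun x hx => mor_normalizer_mem hf hP.1 himP hx)
    haveI := finite_autGroup (F := F) N
    -- replace `β` by a power of `p`-power order
    obtain ⟨m, hm, β', hβ'A, hβ', hord⟩ : ∃ m : ℕ, m.Coprime p ∧ ∃ β' ∈ F.autGroup N,
        (∀ x ∈ P, afun β' x = afun (α ^ m) x) ∧ ∃ j, orderOf β' = p ^ j := by
      have hfin : IsOfFinOrder β := by
        have := isOfFinOrder_of_finite (⟨β, hβA⟩ : F.autGroup N)
        exact (F.autGroup N).subtype.isOfFinOrder this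
      have hpos : orderOf β ≠ 0 := (orderOf_pos_iff.mpr hfin).ne'
      obtain ⟨j, m, hm, hjm⟩ := Nat.exists_eq_pow_mul_and_not_dvd hpos p
        (Fact.out (p := p.Prime)).ne_one
      refine ⟨m, (((Fact.out (p := p.Prime)).coprime_iff_not_dvd).mpr hm).symm, β ^ m,
        pow_mem hβA m, ?_, j, ?_⟩
      · have : ∀ i : ℕ, ∀ x ∈ P, afun (β ^ i) x = afun (α ^ i) x := by
          intro i
          induction i with
          | zero =>
            intro x hx
            rw [pow_zero, pow_zero, afun_one (le_normalizerIn hP.1 hx), afun_one hx]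
          | succ i ih =>
            intro x hx
            rw [pow_succ, pow_succ, afun_mul _ _ (le_normalizerIn hP.1 hx), afun_mul _ _ hx,
              hβ x (le_normalizerIn hP.1 hx), hag x hx, ih _ (afun_mem α hx)]
        exact this m
      · have hm0 : m ≠ 0 := by rintro rfl; simp at hm
        rw [orderOf_pow' _ hm0, hjm, Nat.gcd_mul_left_left, Nat.mul_div_cancel _
          (Nat.pos_of_ne_zero hm0)]
    obtain ⟨j, hj⟩ := hord
    -- move `N` to a fully normalized conjugate
    obtain ⟨K, hK, hKn⟩ := exists_fullyNormalized (F := F) (P := N) inf_le_left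
    have hPN : P < N := by
      haveI := hS.isNilpotent
      have hlt : P.subgroupOf S < ⊤ := lt_top_iff_ne_top.mpr fun e =>
        hPS.not_ge (Subgroup.subgroupOf_eq_top.mp e)
      obtain ⟨t, htn, htP⟩ := SetLike.exists_of_lt (normalizerCondition_of_isNilpotent _ hlt)
      refine lt_of_le_of_ne (le_normalizerIn hP.1) fun e => htP ?_
      have : (t : Ω) ∈ N := ⟨t.2, mem_normalizer_of_cj_le hP.1 fun x hx =>
        (Subgroup.mem_normalizer_iff.mp htn ⟨x, hP.1 hx⟩).mp hx⟩
      rwa [← e] at this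
    have hKa : F.IsFullyAutomized p K := by
      refine IH K hKn ?_
      have h1 : Nat.card P < Nat.card N := by
        haveI := finite_normalizerIn (S := S) P
        exact lt_of_le_of_ne (Subgroup.card_le_of_le hPN.le)
          fun e => hPN.ne (eq_of_le_of_card_ge inf_le_left hPN.le e.ge)
      have h2 : Nat.card N ≤ Nat.card S := Subgroup.card_le_of_le inf_le_left
      rw [← isConj_card hK]
      omega
    obtain ⟨e, he, heK⟩ := isConj_iff.mp hK
    haveI := finite_autGroup (F := F) K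
    obtain ⟨a, ha, haR⟩ := sylIn_absorb
      (K := (Subgroup.zpowers β').map (he.transport heK).toMonoidHom) hKa.2
      ((IsPGroup.of_card (n := j) (by rw [Nat.card_zpowers, hj])).map _)
      (he.map_transport heK ▸ Subgroup.map_mono (Subgroup.zpowers_le.mpr hβ'A))
    obtain ⟨h, hh, -, hhe⟩ := mem_autInducedBy.mp
      (haR _ ⟨β', Subgroup.mem_zpowers β', rfl⟩)
    -- the composite map
    set u := afun a ∘ e with hu
    have hu' : Mor F N u := he.comp ((mem_autGroup hKn.1).mp ha) fun x hx => heK ▸ apply_mem_im hx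
    have huK : im N u = K := by rw [hu, ← he.im_comp, heK, im_afun]
    have hcomm : ∀ x ∈ N, cj h (u x) = u (afun β' x) := by
      intro x hx
      have hex : e x ∈ K := heK ▸ apply_mem_im hx
      show cj h (afun a (e x)) = afun a (e (afun β' x))
      rw [← hhe _ (afun_mem a hex)]
      show afun (a * he.transport heK β' * a⁻¹) (afun a (e x)) = _
      rw [afun_mul _ _ (afun_mem a hex), afun_inv_apply a hex, afun_mul _ _ hex,
        he.afun_transport heK _ hx]
    have hPP : F.IsConj P (im P u) := isConj_iff.mpr ⟨u, hu'.restrict_to hPN.le, rfl⟩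
    have hPS' : im P u ≤ S := isConj_right_le hPP
    have hKle : K ≤ normalizerIn S (im P u) := by
      rw [← huK, im_le_iff]
      intro g hg
      refine ⟨hu'.apply_mem hg, mem_normalizer_of_cj_le hPS' fun y hy => ?_⟩
      obtain ⟨x, hx, rfl⟩ := (hu'.restrict_to hPN.le).mem_im.mp hy
      rw [← hu'.map_cj hg (hPN.le hx)]
      exact apply_mem_im (cj_mem_of_normalizer hg.2 hx)
    have hhmem : h ∈ normalizerIn S (im P u) := by
      refine ⟨hh, mem_normalizer_of_cj_le hPS' fun y hy => ?_⟩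
      obtain ⟨x, hx, rfl⟩ := (hu'.restrict_to hPN.le).mem_im.mp hy
      rw [hcomm x (hPN.le hx), hβ' x hx]
      exact apply_mem_im (afun_mem _ hx)
    have hKeq : K = normalizerIn S (im P u) := eq_of_le_of_card_ge inf_le_left hKle
      ((hP.2 _ hPP).trans (by rw [← huK, hu'.card_im]))
    obtain ⟨g, hg, rfl⟩ := hu'.mem_im.mp (huK.symm ▸ hKeq.symm ▸ hhmem)
    have hαm : α ^ m ∈ autInducedBy S P := by
      refine mem_autInducedBy.mpr ⟨g, hg.1, hg.2, fun x hx => ?_⟩
      rw [← hβ' x hx]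
      refine hu'.injOn (afun_mem β' (hPN.le hx))
        (hPN.le (cj_mem_of_normalizer hg.2 hx)) ?_
      rw [hu'.map_cj hg (hPN.le hx), ← hcomm x (hPN.le hx)]
    apply hαR
    obtain ⟨i, hi⟩ := exists_pow_eq_self_of_coprime (x := α) (n := m)
      (hk.symm ▸ (Nat.Coprime.pow_right k hm))
    rw [← hi]
    exact pow_mem hαm i

theorem saturated_iff_receptive [Fact p.Prime] (hS : IsPGroup p S) :
    F.IsSaturated p ↔
      (F.IsFullyAutomized p S ∧ ∀ P : Subgroup Ω, F.IsFullyNormalized P → F.IsReceptive P) :=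
  ⟨fun hF => ⟨fullyAutomized_of_saturated_self hF,
    fun _ hP => receptive_of_fullyNormalized hS hF hP⟩,
    fun h => saturated_of_receptive hS h.1 h.2⟩

end Cfsg.Agent.FusionSysSaturated
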