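import Mathlib
import Cfsg.Prelude.Def_FusionComponents
import Cfsg.Agent.Lib.FusionSysBasic
import Cfsg.Agent.Lib.FusionSysSaturated

/-!
Small additions to the fusion-system API: subsystems, strongly closed subgroups, and one step of
"fully normalized passes to a subsystem over a strongly closed subgroup".
-/

set_option autoImplicit false

namespace Cfsg.Agent.FusionKit88

open Cfsg Cfsg.FusionSystem Cfsg.Agent.FusionSysBasic Cfsg.Agent.FusionSysSaturated

variable {Ω : Type*} [Group Ω] {S T : Subgroup Ω} {F : FusionSystem S} {E : FusionSystem T}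

theorem sub_mor (h : E.IsSubsystemOf F) {P : Subgroup Ω} {f : Ω → Ω} (hf : Mor E P f) :
    Mor F P f := by
  obtain ⟨φ, hφ, he⟩ := hf
  exact ⟨φ, h P hφ, he⟩

theorem sub_le (h : E.IsSubsystemOf F) : T ≤ S :=
  (sub_mor h (mor_id le_rfl : Mor E T _)).le

theorem sub_isConj (h : E.IsSubsystemOf F) {P Q : Subgroup Ω} (hc : E.IsConj P Q) :
    F.IsConj P Q := by
  obtain ⟨φ, hφ, hr⟩ := hc
  exact ⟨φ, h P hφ, hr⟩

theorem closed_apply (hT : F.StronglyClosed T) {P : Subgroup Ω} {f : Ω → Ω} (hf : Mor F P f)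
    (hP : P ≤ T) {x : Ω} (hx : x ∈ P) : f x ∈ T := by
  obtain ⟨φ, hφ, he⟩ := hf
  rw [← he ⟨x, hx⟩]
  exact hT.2 P hP φ hφ ⟨x, hx⟩

theorem closed_apply' (hT : F.StronglyClosed T) {P : Subgroup Ω} {f : Ω → Ω} (hf : Mor F P f)
    {x : Ω} (hx : x ∈ P) (hxT : x ∈ T) : f x ∈ T :=
  closed_apply hT (hf.restrict_to inf_le_left : Mor F (P ⊓ T) f) inf_le_right ⟨hx, hxT⟩

theorem subnormal_le {p : ℕ} (h : E.IsSubnormalIn F p) : T ≤ S := by
  induction h with
  | refl F p => exact le_rfl
  | step _ h2 ih => exact ih.trans (sub_le h2.1.2.2.1)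

theorem subnormal_saturated {p : ℕ} (h : E.IsSubnormalIn F p) :
    F.IsSaturated p → E.IsSaturated p := by
  induction h with
  | refl F p => exact id
  | step _ h2 ih => exact fun _ => ih h2.1.1

theorem fullyNormalized_sub {p : ℕ} [Fact p.Prime] [Finite S] (hS : IsPGroup p S)
    (hF : F.IsSaturated p) (hsub : E.IsSubsystemOf F) (hT : F.StronglyClosed T) {P : Subgroup Ω}
    (hPT : P ≤ T) (hP : F.IsFullyNormalized P) : E.IsFullyNormalized P := by
  refine ⟨hPT, fun Q hQ => ?_⟩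
  obtain ⟨f, hf, hfN, him⟩ :=
    exists_map_to_fullyNormalized hS hF hP (isConj_symm (sub_isConj hsub hQ))
  have hle : normalizerIn T Q ≤ normalizerIn S Q := inf_le_inf_right _ hT.1
  have hf' : Mor F (normalizerIn T Q) f := hf.restrict_to hle
  exact card_le_of_mor hf' (inf_le_left.trans hT.1)
    fun x hx => ⟨closed_apply hT hf' inf_le_left hx, (hfN x (hle hx)).2⟩

end Cfsg.Agent.FusionKit88
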