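import Mathlib

set_option autoImplicit false

namespace Cfsg.Agent.SylowCount

open Subgroup Pointwise

variable {G : Type*} [Group G] [Finite G] {p : ℕ} [Fact p.Prime]

theorem relIndex_eq_sup (H A : Subgroup G) [A.Normal] :
    H.relIndex A = H.relIndex (H ⊔ A) := by
  have h1 := Subgroup.relIndex_mul_relIndex ⊥ H (H ⊔ A) bot_le le_sup_left
  have h2 := Subgroup.relIndex_mul_relIndex ⊥ A (H ⊔ A) bot_le le_sup_right
  have h3 := Subgroup.relIndex_mul_relIndex ⊥ (H ⊓ A) A bot_le inf_le_right
  have h4 := Subgroup.relIndex_mul_relIndex ⊥ (H ⊓ A) H bot_le inf_le_left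
  rw [Subgroup.relIndex_sup_right] at h2
  rw [Subgroup.inf_relIndex_right] at h3
  rw [inf_comm H A, Subgroup.inf_relIndex_right] at h4
  rw [inf_comm H A] at h3
  simp only [Subgroup.relIndex_bot_left] at h1 h2 h3 h4
  have e : Nat.card H * H.relIndex (H ⊔ A) = Nat.card A * A.relIndex H := h1.trans h2.symm
  rw [← h3, ← h4] at e
  have hi : 0 < Nat.card ↥(A ⊓ H) := Nat.card_pos
  have ha : 0 < A.relIndex H := Nat.pos_of_ne_zero Subgroup.index_ne_zero_of_finite
  exact (Nat.eq_of_mul_eq_mul_left (Nat.mul_pos hi ha) (e.trans (by ring))).symm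

theorem eq_of_le_normalizer {P Q : Sylow p G}
    (h : (Q : Subgroup G) ≤ Subgroup.normalizer ((P : Subgroup G) : Set G)) : Q = P := by
  have h1 := P.is_maximal' (IsPGroup.to_sup_of_normal_left' P.isPGroup' Q.isPGroup' h) le_sup_left
  exact Sylow.ext (Q.is_maximal' P.isPGroup' (le_sup_right.trans_eq h1)).symm

/-- Sylow subgroups of `G` below `H` are the Sylow subgroups of `H`. -/
theorem card_sylow_below (H : Subgroup G) (P : Sylow p G) (hP : (P : Subgroup G) ≤ H) :
    Nat.card (Sylow p H) = Nat.card {Q : Sylow p G // (Q : Subgroup G) ≤ H} := by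
  refine (Nat.card_congr (Equiv.ofBijective (fun Q : {Q : Sylow p G // (Q : Subgroup G) ≤ H} => Q.1.subtype Q.2) ⟨?_, ?_⟩)).symm
  · intro Q R h
    exact Subtype.ext (Sylow.subtype_injective h)
  · intro R
    obtain ⟨h, rfl⟩ := MulAction.exists_smul_eq H (P.subtype hP) R
    exact ⟨⟨h • P, Sylow.smul_le hP h⟩, (Sylow.smul_subtype hP h).symm⟩

theorem card_sylow_eq_relIndex (H : Subgroup G) (P : Sylow p G) (hP : (P : Subgroup G) ≤ H) :
    Nat.card (Sylow p H) = (Subgroup.normalizer ((P : Subgroup G) : Set G)).relIndex H := by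
  rw [Sylow.card_eq_index_normalizer (P.subtype hP), Subgroup.relIndex,
    Subgroup.subgroupOf_normalizer_eq hP]
  rfl

theorem sylow_le_of_normal {H : Subgroup G} [H.Normal] (hp : ¬ p ∣ H.index) (Q : Sylow p G) :
    (Q : Subgroup G) ≤ H := by
  rw [← Subgroup.relIndex_eq_one]
  obtain ⟨k, hk⟩ := Q.isPGroup'.exists_card_eq
  have h1 : H.relIndex Q ∣ p ^ k := hk ▸ Subgroup.relIndex_dvd_card H Q
  have h2 : H.relIndex Q ∣ H.index := Subgroup.relIndex_dvd_index_of_normal H Q
  exact Nat.eq_one_of_dvd_coprimes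
    (Nat.Coprime.pow_left k ((Nat.Prime.coprime_iff_not_dvd Fact.out).mpr hp)) h1 h2

theorem card_sylow_normal (H : Subgroup G) [H.Normal] (hp : ¬ p ∣ H.index) :
    Nat.card (Sylow p H) = Nat.card (Sylow p G) := by
  obtain ⟨P⟩ : Nonempty (Sylow p G) := inferInstance
  rw [card_sylow_below H P (sylow_le_of_normal hp P)]
  exact Nat.card_congr (Equiv.subtypeUnivEquiv fun Q => sylow_le_of_normal hp Q)

theorem mapSurjective_eq_iff (K : Subgroup G) [K.Normal] (P Q : Sylow p G) :
    P.mapSurjective (QuotientGroup.mk'_surjective K) = Q.mapSurjective (QuotientGroup.mk'_surjective K) ↔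
      (P : Subgroup G) ⊔ K = (Q : Subgroup G) ⊔ K := by
  rw [Sylow.ext_iff, Sylow.coe_mapSurjective, Sylow.coe_mapSurjective, Subgroup.map_eq_map_iff,
    QuotientGroup.ker_mk']

theorem card_sylow_quotient (K : Subgroup G) [K.Normal]
    (h : ∀ P Q : Sylow p G, (Q : Subgroup G) ≤ (P : Subgroup G) ⊔ K → Q = P) :
    Nat.card (Sylow p (G ⧸ K)) = Nat.card (Sylow p G) := by
  refine (Nat.card_congr (Equiv.ofBijective
    (Sylow.mapSurjective (p := p) (QuotientGroup.mk'_surjective K))
    ⟨fun P Q e => ?_, Sylow.mapSurjective_surjective (QuotientGroup.mk'_surjective K) p⟩)).symm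
  exact (h P Q (le_sup_left.trans_eq ((mapSurjective_eq_iff K P Q).mp e).symm)).symm

theorem card_sylow_quotient_pGroup (K : Subgroup G) [K.Normal] (hK : IsPGroup p K) :
    Nat.card (Sylow p (G ⧸ K)) = Nat.card (Sylow p G) :=
  card_sylow_quotient K fun P Q h =>
    Sylow.ext (Q.is_maximal' P.isPGroup' (h.trans (sup_le le_rfl (hK.le_sylow_of_normal P)))).symm

theorem card_sylow_quotient_central (K : Subgroup G) [K.Normal] (hK : K ≤ Subgroup.center G) :
    Nat.card (Sylow p (G ⧸ K)) = Nat.card (Sylow p G) :=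
  card_sylow_quotient K fun P Q h => eq_of_le_normalizer (h.trans (sup_le Subgroup.le_normalizer
    (hK.trans (Subgroup.center_le_normalizer _))))

theorem card_sylow_mul (K : Subgroup G) [K.Normal] (P : Sylow p G) :
    Nat.card (Sylow p G) = Nat.card (Sylow p (G ⧸ K)) * Nat.card (Sylow p ((P : Subgroup G) ⊔ K : Subgroup G)) := by
  classical
  let φ : Sylow p G → Sylow p (G ⧸ K) := Sylow.mapSurjective (QuotientGroup.mk'_surjective K)
  have hequiv : ∀ (g : G) (Q : Sylow p G), φ (g • Q) = (QuotientGroup.mk' K g) • φ Q := by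
    intro g Q
    apply Sylow.ext
    simp only [φ, Sylow.coe_mapSurjective, Sylow.coe_subgroup_smul]
    ext y
    rw [Subgroup.mem_map, Subgroup.mem_pointwise_smul_iff_inv_smul_mem, Subgroup.mem_map]
    constructor
    · rintro ⟨x, hx, rfl⟩
      rw [Subgroup.mem_pointwise_smul_iff_inv_smul_mem] at hx
      exact ⟨_, hx, by simp⟩
    · rintro ⟨x, hx, e⟩
      refine ⟨g * x * g⁻¹, ?_, ?_⟩
      · rw [Subgroup.mem_pointwise_smul_iff_inv_smul_mem]
        simpa [mul_assoc] using hx
      · simp only [MulAut.smul_def, MulAut.conj_inv_apply] at e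
        rw [map_mul, map_mul, map_inv, e]
        group
  have hfib : ∀ R : Sylow p (G ⧸ K), Nat.card {Q // φ Q = R} = Nat.card {Q // φ Q = φ P} := by
    intro R
    obtain ⟨r, rfl⟩ := MulAction.exists_smul_eq (G ⧸ K) (φ P) R
    obtain ⟨g, rfl⟩ := QuotientGroup.mk'_surjective K r
    refine (Nat.card_congr ((MulAction.toPerm g).subtypeEquiv fun Q => ?_)).symm
    simp only [MulAction.toPerm_apply]
    rw [hequiv, smul_left_cancel_iff]
  have hP : Nat.card {Q // φ Q = φ P} = Nat.card (Sylow p ((P : Subgroup G) ⊔ K : Subgroup G)) := by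
    rw [card_sylow_below _ P le_sup_left]
    refine Nat.card_congr (Equiv.subtypeEquivRight fun Q => ?_)
    rw [mapSurjective_eq_iff]
    constructor
    · intro h; exact le_sup_left.trans_eq h
    · intro h
      refine le_antisymm (sup_le h le_sup_right) (sup_le ?_ le_sup_right)
      -- both joins have the same order, being images of Sylow subgroups
      have h1 : (Q : Subgroup G) ⊔ K ≤ (P : Subgroup G) ⊔ K := sup_le h le_sup_right
      have h2 : φ Q = φ P := by
        apply Sylow.ext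
        refine ((φ Q).is_maximal' (φ P).isPGroup' ?_).symm
        simp only [φ, Sylow.coe_mapSurjective]
        rw [Subgroup.map_le_map_iff, QuotientGroup.ker_mk']
        exact h
      exact le_sup_left.trans_eq ((mapSurjective_eq_iff K Q P).mp h2).symm
  cases nonempty_fintype (Sylow p G)
  cases nonempty_fintype (Sylow p (G ⧸ K))
  rw [← Nat.card_congr (Equiv.sigmaFiberEquiv φ), Nat.card_sigma, Finset.sum_congr rfl (fun R _ => (hfib R).trans hP),
    Finset.sum_const, Finset.card_univ, smul_eq_mul, ← Nat.card_eq_fintype_card]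

theorem inf_normal_isPGroup (P : Sylow p G) (K : Subgroup G) : IsPGroup p ((P : Subgroup G) ⊓ K : Subgroup G) :=
  P.isPGroup'.to_le inf_le_left

theorem inf_normal_not_dvd (P : Sylow p G) (K : Subgroup G) [K.Normal] :
    ¬ p ∣ (((P : Subgroup G) ⊓ K).subgroupOf K).index := by
  intro h
  apply P.not_dvd_index
  refine h.trans ?_
  change ((P : Subgroup G) ⊓ K).relIndex K ∣ _
  rw [Subgroup.inf_relIndex_right, relIndex_eq_sup (P : Subgroup G) K]
  exact Subgroup.relIndex_dvd_index_of_le le_sup_left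

/-- `P ⊓ K` as a Sylow subgroup of the normal subgroup `K`. -/
noncomputable def infSylow (P : Sylow p G) (K : Subgroup G) [K.Normal] : Sylow p K :=
  IsPGroup.toSylow ((inf_normal_isPGroup P K).of_equiv (Subgroup.subgroupOfEquivOfLe inf_le_right).symm)
    (inf_normal_not_dvd P K)

theorem card_sylow_normal_eq_relIndex (P : Sylow p G) (K : Subgroup G) [K.Normal] :
    Nat.card (Sylow p K) = (Subgroup.normalizer (((P : Subgroup G) ⊓ K : Subgroup G) : Set G)).relIndex K := by
  rw [Sylow.card_eq_index_normalizer (infSylow P K), Subgroup.relIndex,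
    Subgroup.subgroupOf_normalizer_eq inf_le_right]
  rfl

theorem normalizer_le_normalizer_inf (P : Subgroup G) (K : Subgroup G) [hK : K.Normal] :
    Subgroup.normalizer (P : Set G) ≤ Subgroup.normalizer ((P ⊓ K : Subgroup G) : Set G) := by
  intro g hg
  rw [Subgroup.mem_normalizer_iff] at hg ⊢
  intro x
  simp only [Subgroup.mem_inf]
  rw [hg x]
  constructor
  · exact fun ⟨a, b⟩ => ⟨a, hK.conj_mem x b g⟩
  · exact fun ⟨a, b⟩ => ⟨a, by simpa [mul_assoc] using hK.conj_mem _ b g⁻¹⟩

/-- Hall's formula for the number of Sylow subgroups. -/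
theorem card_sylow_formula (K : Subgroup G) [K.Normal] (P : Sylow p G) (N : Subgroup G)
    (hN : N = ((P : Subgroup G) ⊔ K) ⊓ Subgroup.normalizer (((P : Subgroup G) ⊓ K : Subgroup G) : Set G)) :
    Nat.card (Sylow p G) = Nat.card (Sylow p (G ⧸ K)) * Nat.card (Sylow p K) * Nat.card (Sylow p N) := by
  have hPN : (P : Subgroup G) ≤ N := hN ▸ le_inf le_sup_left
    (Subgroup.le_normalizer.trans (normalizer_le_normalizer_inf _ K))
  have hNH : N ≤ (P : Subgroup G) ⊔ K := hN ▸ inf_le_left
  have hsup : N ⊔ K = (P : Subgroup G) ⊔ K :=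
    le_antisymm (sup_le hNH le_sup_right) (sup_le (hPN.trans le_sup_left) le_sup_right)
  have e1 : (Subgroup.normalizer ((P : Subgroup G) : Set G) ⊓ N).relIndex N * N.relIndex ((P : Subgroup G) ⊔ K)
      = (Subgroup.normalizer ((P : Subgroup G) : Set G) ⊓ N).relIndex ((P : Subgroup G) ⊔ K) :=
    Subgroup.relIndex_mul_relIndex _ _ _ inf_le_right hNH
  have e2 : Subgroup.normalizer ((P : Subgroup G) : Set G) ⊓ N =
      Subgroup.normalizer ((P : Subgroup G) : Set G) ⊓ ((P : Subgroup G) ⊔ K) := by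
    rw [hN, inf_comm ((P : Subgroup G) ⊔ K), ← inf_assoc,
      inf_eq_left.mpr (normalizer_le_normalizer_inf (P : Subgroup G) K)]
  have e3 : N.relIndex ((P : Subgroup G) ⊔ K) = Nat.card (Sylow p K) := by
    rw [card_sylow_normal_eq_relIndex P K, ← hsup, ← relIndex_eq_sup N K,
      ← Subgroup.inf_relIndex_right, hN, inf_comm ((P : Subgroup G) ⊔ K), inf_assoc,
      inf_eq_right.mpr (le_sup_right : K ≤ (P : Subgroup G) ⊔ K), Subgroup.inf_relIndex_right]
  rw [card_sylow_mul K P, mul_assoc, card_sylow_eq_relIndex _ P le_sup_left, card_sylow_eq_relIndex N P hPN,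
    ← Subgroup.inf_relIndex_right _ ((P : Subgroup G) ⊔ K), ← e2, ← e1, Subgroup.inf_relIndex_right, e3]
  ring

end Cfsg.Agent.SylowCount
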