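import Mathlib
import Cfsg.Agent.Lib.FusionKit88
import Cfsg.Agent.Lib.SylowCount

/-!
The Frattini argument inside `Aut_F(R)` for a fully normalized `R`, combined with receptivity.
-/

set_option autoImplicit false

namespace Cfsg.Agent.FusionFrattini88

open Cfsg Cfsg.FusionSystem Cfsg.Agent.FusionSysBasic Cfsg.Agent.FusionSysSaturated

variable {Ω : Type*} [Group Ω] {S : Subgroup Ω} [Finite S] {F : FusionSystem S} {p : ℕ}
  [Fact p.Prime]

/-- If `M` is normalized by `Aut_F(R)` and contains the automorphisms induced by `N ≤ N_S(R)`, every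
element of `Aut_F(R)` is an element of `M` followed by one that extends to `R ⊔ N`. -/
theorem frattini_ext (hS : IsPGroup p S) (hF : F.IsSaturated p) {R : Subgroup Ω}
    (hR : F.IsFullyNormalized R) (M : Subgroup (MulAut R))
    (hMn : ∀ a ∈ F.autGroup R, ∀ m ∈ M, m ∈ F.autGroup R → a * m * a⁻¹ ∈ M)
    {N : Subgroup Ω} (hN : N ≤ normalizerIn S R)
    (hNM : ∀ (g : Ω) (hg : g ∈ N), nHom S R ⟨g, hN hg⟩ ∈ M) {α : MulAut R}
    (hα : α ∈ F.autGroup R) :
    ∃ β ∈ F.autGroup R, ∃ m ∈ M, m ∈ F.autGroup R ∧ α = β * m ∧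
      ∃ f, Mor F (R ⊔ N) f ∧ ∀ x ∈ R, f x = afun β x := by
  haveI : Finite (F.autGroup R) := finite_autGroup R
  have hRS := hR.1
  let K : Subgroup (F.autGroup R) := M.subgroupOf (F.autGroup R)
  haveI hKn : K.Normal := ⟨fun m hm a => hMn a.1 a.2 m.1 hm m.2⟩
  obtain ⟨P0, hP0⟩ := (fullyAutomized_of_fullyNormalized hS hF hR).2
  let Q := SylowCount.infSylow P0 K
  have hQ : ((Q : Subgroup K)).map K.subtype = (P0 : Subgroup (F.autGroup R)) ⊓ K := by
    show (((P0 : Subgroup (F.autGroup R)) ⊓ K).subgroupOf K).map K.subtype = _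
    rw [Subgroup.subgroupOf_map_subtype, inf_eq_left]
    exact inf_le_right
  have htop := Sylow.normalizer_sup_eq_top (N := K) Q
  rw [hQ] at htop
  have hmem : (⟨α, hα⟩ : F.autGroup R) ∈
      Subgroup.normalizer (((P0 : Subgroup (F.autGroup R)) ⊓ K : Subgroup (F.autGroup R)) : Set (F.autGroup R)) ⊔ K := by
    rw [htop]; trivial
  obtain ⟨b, hb, m, hm, hbm⟩ := Subgroup.mem_sup_of_normal_right.1 hmem
  refine ⟨b, b.2, m, hm, m.2, (congrArg Subtype.val hbm).symm, ?_⟩
  have hbf : Mor F R (afun (b : MulAut R)) := (mem_autGroup hRS).1 b.2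
  refine (receptive_iff.1 (receptive_of_fullyNormalized hS hF hR)).2 R _ N hbf (im_afun _)
    (hN.trans inf_le_left) (hN.trans inf_le_right) fun g hg => ?_
  have hcg : (⟨nHom S R ⟨g, hN hg⟩, autInducedBy_le hRS ((autInducedBy_eq_range S R).ge ⟨_, rfl⟩)⟩ :
      F.autGroup R) ∈ (P0 : Subgroup (F.autGroup R)) ⊓ K := by
    refine ⟨?_, hNM g hg⟩
    show _ ∈ (P0 : Subgroup (F.autGroup R))
    rw [hP0, Subgroup.mem_subgroupOf]
    exact (autInducedBy_eq_range S R).ge ⟨_, rfl⟩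
  have h2 := ((Subgroup.mem_normalizer_iff.1 hb _).1 hcg).1
  change _ ∈ (P0 : Subgroup (F.autGroup R)) at h2
  rw [hP0, Subgroup.mem_subgroupOf] at h2
  obtain ⟨h, hh⟩ := (autInducedBy_eq_range S R).le h2
  refine ⟨h, h.2.1, fun x hx => ?_⟩
  rw [← afun_nHom h (afun_mem _ hx), hh, ← afun_nHom ⟨g, hN hg⟩ hx]
  simp only [Subgroup.coe_mul, Subgroup.coe_inv]
  rw [afun_mul _ _ (afun_mem _ hx), afun_mul _ _ (afun_mem _ (afun_mem _ hx)), afun_inv_apply _ hx]

theorem card_lt_normalizerIn {T P : Subgroup Ω} (hS : IsPGroup p S) (hTS : T ≤ S) (hPT : P < T) :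
    Nat.card P < Nat.card (normalizerIn T P) := by
  haveI := finite_of_le hTS
  haveI : Group.IsNilpotent T := (hS.to_le hTS).isNilpotent
  have hlt : P.subgroupOf T < ⊤ := by
    refine lt_of_le_of_ne le_top fun e => hPT.not_ge ?_
    exact Subgroup.subgroupOf_eq_top.mp e
  obtain ⟨x, hx, hxP⟩ := SetLike.exists_of_lt (Group.normalizerCondition_of_isNilpotent (G := T) _ hlt)
  have hxN : (x : Ω) ∈ normalizerIn T P := by
    refine ⟨x.2, mem_normalizer_of_cj_le (hPT.le.trans hTS) fun y hy => ?_⟩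
    exact (Subgroup.mem_normalizer_iff.mp hx ⟨y, hPT.le hy⟩).mp hy
  have hle : P ≤ normalizerIn T P := le_normalizerIn hPT.le
  haveI : Finite (normalizerIn T P) := finite_of_le (inf_le_left.trans hTS)
  refine lt_of_le_of_ne (Subgroup.card_le_of_le hle) fun e => hxP ?_
  exact (Subgroup.eq_of_le_of_card_ge hle e.ge).ge hxN

end Cfsg.Agent.FusionFrattini88
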