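import Cfsg.Agent.Lib.FusionSysAlperin

/-!
Normal and central subgroups of fusion systems, normalizer and centralizer systems.
-/

set_option autoImplicit false

namespace Cfsg.Agent.FusionSysNormal

open Cfsg Cfsg.FusionSystem Cfsg.Agent.FusionSysBasic Cfsg.Agent.FusionSysSaturated
  Cfsg.Agent.FusionSysAlperin

variable {Ω : Type*} [Group Ω] {S : Subgroup Ω} {F : FusionSystem S} {p : ℕ}

/-! ### Maps on joins -/

theorem eqOn_sup {A B : Subgroup Ω} {f g : Ω → Ω} (hf : Mor F (A ⊔ B) f) (hg : Mor F (A ⊔ B) g)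
    (hA : ∀ a ∈ A, f a = g a) (hB : ∀ b ∈ B, f b = g b) {x : Ω} (hx : x ∈ A ⊔ B) :
    f x = g x := by
  obtain ⟨φ, -, he⟩ := hf
  obtain ⟨ψ, -, he'⟩ := hg
  have : A ⊔ B ≤ (φ.eqLocus ψ).map (A ⊔ B).subtype := by
    refine sup_le (fun a ha => ?_) fun b hb => ?_
    · exact ⟨⟨a, Subgroup.mem_sup_left ha⟩,
        (he _).trans ((hA a ha).trans (he' ⟨a, Subgroup.mem_sup_left ha⟩).symm), rfl⟩
    · exact ⟨⟨b, Subgroup.mem_sup_right hb⟩,
        (he _).trans ((hB b hb).trans (he' ⟨b, Subgroup.mem_sup_right hb⟩).symm), rfl⟩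
  obtain ⟨y, hy, rfl⟩ := this hx
  exact (he y).symm.trans ((hy : φ y = ψ y).trans (he' y))

theorem im_sup {A B : Subgroup Ω} {f : Ω → Ω} (hf : Mor F (A ⊔ B) f) :
    im (A ⊔ B) f = im A f ⊔ im B f := by
  refine le_antisymm (im_le_iff.mpr fun x hx => mor_sup_induction hf
    (fun a ha => Subgroup.mem_sup_left (apply_mem_im ha))
    (fun b hb => Subgroup.mem_sup_right (apply_mem_im hb)) hx) ?_
  exact sup_le (im_mono le_sup_left) (im_mono le_sup_right)

/-! ### Translations of the definitions -/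

theorem map_subgroupOf_eq_im {R Q : Subgroup Ω} {ψ : R →* Ω} {f : Ω → Ω} (hQR : Q ≤ R)
    (hψ : ψ ∈ F.Hom R) (he : ∀ x : R, ψ x = f x) : (Q.subgroupOf R).map ψ = im Q f := by
  ext y
  rw [((show Mor F R f from ⟨ψ, hψ, he⟩).restrict_to hQR).mem_im, Subgroup.mem_map]
  exact ⟨fun ⟨x, hx, e⟩ => ⟨x, hx, (he x).symm.trans e⟩,
    fun ⟨x, hx, e⟩ => ⟨⟨x, hQR hx⟩, hx, (he _).trans e⟩⟩

theorem ext_normal_iff {P Q : Subgroup Ω} {φ : P →* Ω} {f : Ω → Ω} (he : ∀ x : P, φ x = f x) :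
    (∃ ψ ∈ F.Hom (P ⊔ Q), (∀ x : P, ψ (Subgroup.inclusion le_sup_left x) = φ x) ∧
        (Q.subgroupOf (P ⊔ Q)).map ψ = Q) ↔
      ∃ f', Mor F (P ⊔ Q) f' ∧ (∀ x ∈ P, f' x = f x) ∧ im Q f' = Q := by
  constructor
  · rintro ⟨ψ, hψ, hag, hQ⟩
    refine ⟨toFun ψ, mor_toFun hψ, fun x hx => ?_, ?_⟩
    · exact ((toFun_apply ψ (Subgroup.mem_sup_left hx)).trans (hag ⟨x, hx⟩)).trans (he _)
    · rwa [← map_subgroupOf_eq_im (f := toFun ψ) le_sup_right hψ fun x => (toFun_coe ψ x).symm]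
  · rintro ⟨f', ⟨ψ, hψ, he'⟩, hag, hQ⟩
    refine ⟨ψ, hψ, fun x => ((he' _).trans (hag x x.2)).trans (he x).symm, ?_⟩
    rw [map_subgroupOf_eq_im le_sup_right hψ he', hQ]

theorem ext_central_iff {P Q : Subgroup Ω} {φ : P →* Ω} {f : Ω → Ω} (he : ∀ x : P, φ x = f x) :
    (∃ ψ ∈ F.Hom (P ⊔ Q), (∀ x : P, ψ (Subgroup.inclusion le_sup_left x) = φ x) ∧
        ∀ x : Q, ψ (Subgroup.inclusion le_sup_right x) = x) ↔
      ∃ f', Mor F (P ⊔ Q) f' ∧ (∀ x ∈ P, f' x = f x) ∧ ∀ x ∈ Q, f' x = x := by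
  constructor
  · rintro ⟨ψ, hψ, hag, hQ⟩
    exact ⟨toFun ψ, mor_toFun hψ,
      fun x hx => ((toFun_apply ψ (Subgroup.mem_sup_left hx)).trans (hag ⟨x, hx⟩)).trans (he _),
      fun x hx => (toFun_apply ψ (Subgroup.mem_sup_right hx)).trans (hQ ⟨x, hx⟩)⟩
  · rintro ⟨f', ⟨ψ, hψ, he'⟩, hag, hQ⟩
    exact ⟨ψ, hψ, fun x => ((he' _).trans (hag x x.2)).trans (he x).symm,
      fun x => (he' _).trans (hQ x x.2)⟩

theorem isNormal_iff {Q : Subgroup Ω} :
    F.IsNormal Q ↔ Q ≤ S ∧ ∀ (P : Subgroup Ω) (f : Ω → Ω), Mor F P f →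
      ∃ f', Mor F (P ⊔ Q) f' ∧ (∀ x ∈ P, f' x = f x) ∧ im Q f' = Q := by
  refine and_congr_right fun _ => ⟨fun h P f ⟨φ, hφ, he⟩ => (ext_normal_iff he).mp (h P φ hφ),
    fun h P φ hφ => (ext_normal_iff fun x => (toFun_coe φ x).symm).mpr (h P _ (mor_toFun hφ))⟩

theorem isCentral_iff {Q : Subgroup Ω} :
    F.IsCentral Q ↔ Q ≤ S ∧ ∀ (P : Subgroup Ω) (f : Ω → Ω), Mor F P f →
      ∃ f', Mor F (P ⊔ Q) f' ∧ (∀ x ∈ P, f' x = f x) ∧ ∀ x ∈ Q, f' x = x := by
  refine and_congr_right fun _ => ⟨fun h P f ⟨φ, hφ, he⟩ => (ext_central_iff he).mp (h P φ hφ),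
    fun h P φ hφ => (ext_central_iff fun x => (toFun_coe φ x).symm).mpr (h P _ (mor_toFun hφ))⟩

theorem stronglyClosed_iff {Q : Subgroup Ω} :
    F.StronglyClosed Q ↔ Q ≤ S ∧ ∀ (P : Subgroup Ω) (f : Ω → Ω), P ≤ Q → Mor F P f →
      ∀ x ∈ P, f x ∈ Q := by
  refine and_congr_right fun _ => ⟨fun h P f hPQ ⟨φ, hφ, he⟩ x hx => ?_,
    fun h P hPQ φ hφ x => ?_⟩
  · rw [← he ⟨x, hx⟩]; exact h P hPQ φ hφ ⟨x, hx⟩
  · rw [← toFun_coe φ x]; exact h P _ hPQ (mor_toFun hφ) x x.2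

theorem weaklyClosed_iff {Q : Subgroup Ω} :
    F.WeaklyClosed Q ↔ Q ≤ S ∧ ∀ f : Ω → Ω, Mor F Q f → im Q f = Q := by
  refine and_congr_right fun _ => ⟨fun h f ⟨φ, hφ, he⟩ => ?_, fun h φ hφ => ?_⟩
  · exact (Mor.range_eq_im hφ he).symm.trans (h φ hφ)
  · exact (Mor.range_eq_im hφ fun x => (toFun_coe φ x).symm).trans (h _ (mor_toFun hφ))

theorem isConjElt_iff {x y : Ω} :
    F.IsConjElt x y ↔ ∃ f, Mor F (Subgroup.zpowers x) f ∧ f x = y :=
  ⟨fun ⟨φ, hφ, e⟩ => ⟨_, mor_toFun hφ, (toFun_apply φ (Subgroup.mem_zpowers x)).trans e⟩,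
    fun ⟨_, ⟨φ, hφ, he⟩, e⟩ => ⟨φ, hφ, (he _).trans e⟩⟩

theorem isConjElt_of_mor {P : Subgroup Ω} {f : Ω → Ω} (hf : Mor F P f) {x : Ω} (hx : x ∈ P) :
    F.IsConjElt x (f x) :=
  isConjElt_iff.mpr ⟨f, hf.restrict_to (Subgroup.zpowers_le.mpr hx), rfl⟩

/-! ### Consequences of normality -/

theorem normal_le {Q : Subgroup Ω} (h : F.IsNormal Q) : Q ≤ S := h.1

theorem normal_invariant {P Q : Subgroup Ω} {f : Ω → Ω} (hQ : F.IsNormal Q) (hf : Mor F P f)
    {x : Ω} (hxP : x ∈ P) (hxQ : x ∈ Q) : f x ∈ Q := by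
  obtain ⟨f', -, hag, him⟩ := (isNormal_iff.mp hQ).2 P f hf
  rw [← hag x hxP, ← him]
  exact apply_mem_im hxQ

theorem stronglyClosed_of_normal {Q : Subgroup Ω} (hQ : F.IsNormal Q) : F.StronglyClosed Q :=
  stronglyClosed_iff.mpr ⟨hQ.1, fun _ _ hPQ hf _ hx => normal_invariant hQ hf hx (hPQ hx)⟩

theorem stronglyClosed_invariant {P Q : Subgroup Ω} {f : Ω → Ω} (hQ : F.StronglyClosed Q)
    (hf : Mor F P f) {x : Ω} (hxP : x ∈ P) (hxQ : x ∈ Q) : f x ∈ Q :=
  (stronglyClosed_iff.mp hQ).2 (P ⊓ Q) f inf_le_right (hf.restrict_to inf_le_left) x ⟨hxP, hxQ⟩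

theorem cj_mem_of_stronglyClosed {Q : Subgroup Ω} (hQ : F.StronglyClosed Q) {g x : Ω}
    (hg : g ∈ S) (hx : x ∈ Q) : cj g x ∈ Q :=
  stronglyClosed_invariant hQ (mor_cj (F := F) hQ.1 hg) hx hx

theorem le_normalizer_of_stronglyClosed {Q : Subgroup Ω} (hQ : F.StronglyClosed Q) :
    S ≤ Subgroup.normalizer (Q : Set Ω) := by
  intro g hg
  rw [Subgroup.mem_normalizer_iff]
  refine fun x => ⟨fun hx => cj_mem_of_stronglyClosed hQ hg hx, fun hx => ?_⟩
  have := cj_mem_of_stronglyClosed hQ (S.inv_mem hg) (show cj g x ∈ Q from hx)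
  rwa [cj_inv_cj] at this

theorem le_normalizer_of_normal {Q : Subgroup Ω} (hQ : F.IsNormal Q) :
    S ≤ Subgroup.normalizer (Q : Set Ω) :=
  le_normalizer_of_stronglyClosed (stronglyClosed_of_normal hQ)

/-- A characteristic subgroup of a normal subgroup is normal. -/
theorem normal_of_characteristic {Q U : Subgroup Ω} (hQ : F.IsNormal Q) (hUQ : U ≤ Q)
    (hU : (U.subgroupOf Q).Characteristic) : F.IsNormal U := by
  rw [isNormal_iff] at hQ ⊢
  refine ⟨hUQ.trans hQ.1, fun P f hf => ?_⟩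
  obtain ⟨f', hf', hag, him⟩ := hQ.2 P f hf
  refine ⟨f', hf'.restrict_to (sup_le_sup_left hUQ _), hag, ?_⟩
  have hq := hf'.restrict_to (le_sup_right : Q ≤ P ⊔ Q)
  have h1 := Subgroup.characteristic_iff_map_eq.mp hU (hq.iso him)
  ext y
  rw [(hq.restrict_to hUQ).mem_im]
  constructor
  · rintro ⟨x, hx, rfl⟩
    have : hq.iso him ⟨x, hUQ hx⟩ ∈ U.subgroupOf Q := by
      rw [← h1]; exact ⟨_, hx, rfl⟩
    exact this
  · intro hy
    have : (⟨y, hUQ hy⟩ : Q) ∈ (U.subgroupOf Q).map (hq.iso him).toMonoidHom := by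
      rw [h1]; exact hy
    obtain ⟨x, hx, e⟩ := this
    exact ⟨x, hx, congrArg Subtype.val e⟩

/-! ### `O_p(F)` and `Z(F)` -/

section Finite

variable [Finite S]

theorem normal_bot : F.IsNormal ⊥ :=
  isNormal_iff.mpr ⟨bot_le, fun P f hf => ⟨f, by rwa [sup_bot_eq], fun _ _ => rfl,
    le_antisymm (im_le_iff.mpr fun x hx => by
      rw [Subgroup.mem_bot] at hx ⊢; rw [hx, hf.map_one]) bot_le⟩⟩

theorem central_bot : F.IsCentral ⊥ :=
  isCentral_iff.mpr ⟨bot_le, fun P f hf => ⟨f, by rwa [sup_bot_eq], fun _ _ => rfl,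
    fun x hx => by rw [Subgroup.mem_bot.mp hx, hf.map_one]⟩⟩

theorem normal_sup {Q R : Subgroup Ω} (hQ : F.IsNormal Q) (hR : F.IsNormal R) :
    F.IsNormal (Q ⊔ R) := by
  rw [isNormal_iff] at hQ hR ⊢
  refine ⟨sup_le hQ.1 hR.1, fun P f hf => ?_⟩
  obtain ⟨f₁, hf₁, hag₁, him₁⟩ := hQ.2 P f hf
  obtain ⟨f₂, hf₂, hag₂, him₂⟩ := hR.2 _ f₁ hf₁
  refine ⟨f₂, by rwa [← sup_assoc], fun x hx => ?_, ?_⟩
  · rw [hag₂ x (Subgroup.mem_sup_left hx), hag₁ x hx]
  · rw [im_sup (hf₂.restrict_to (sup_le_sup_right le_sup_right _)), him₂,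
      im_congr fun x hx => hag₂ x (Subgroup.mem_sup_right hx), him₁]

theorem central_sup {Q R : Subgroup Ω} (hQ : F.IsCentral Q) (hR : F.IsCentral R) :
    F.IsCentral (Q ⊔ R) := by
  rw [isCentral_iff] at hQ hR ⊢
  refine ⟨sup_le hQ.1 hR.1, fun P f hf => ?_⟩
  obtain ⟨f₁, hf₁, hag₁, him₁⟩ := hQ.2 P f hf
  obtain ⟨f₂, hf₂, hag₂, him₂⟩ := hR.2 _ f₁ hf₁
  refine ⟨f₂, by rwa [← sup_assoc], fun x hx => ?_, fun x hx => ?_⟩
  · rw [hag₂ x (Subgroup.mem_sup_left hx), hag₁ x hx]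
  · exact eqOn_sup (hf₂.restrict_to (sup_le_sup_right le_sup_right _))
      (mor_id (sup_le hQ.1 hR.1))
      (fun a ha => (hag₂ a (Subgroup.mem_sup_right ha)).trans (him₁ a ha)) him₂ hx

theorem finite_le_S : {Q : Subgroup Ω | Q ≤ S}.Finite := by
  refine Set.Finite.of_finite_image (f := fun Q : Subgroup Ω => Q.subgroupOf S) (Set.toFinite _) ?_
  intro A hA B hB e
  have := congrArg (Subgroup.map S.subtype) e
  simpa [Subgroup.subgroupOf_map_subtype, inf_eq_left.mpr (show A ≤ S from hA),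
    inf_eq_left.mpr (show B ≤ S from hB)] using this

theorem sSup_mem_of_closed {s : Set (Subgroup Ω)} (hs : ∀ Q ∈ s, Q ≤ S) (hb : ⊥ ∈ s)
    (hsup : ∀ Q ∈ s, ∀ R ∈ s, Q ⊔ R ∈ s) : sSup s ∈ s := by
  obtain ⟨M, hM, hmax⟩ := Set.exists_max_image s (fun Q => Nat.card Q)
    (finite_le_S.subset hs) ⟨⊥, hb⟩
  suffices sSup s = M by rwa [this]
  refine le_antisymm (sSup_le fun Q hQ => ?_) (le_sSup hM)
  rw [eq_of_le_of_card_ge (hs _ (hsup M hM Q hQ)) le_sup_left (hmax _ (hsup M hM Q hQ))]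
  exact le_sup_right

theorem core_isNormal : F.IsNormal F.core :=
  sSup_mem_of_closed (s := {Q | F.IsNormal Q}) (fun _ h => h.1) normal_bot
    fun _ hQ _ hR => normal_sup hQ hR

theorem center_isCentral : F.IsCentral F.center :=
  sSup_mem_of_closed (s := {Q | F.IsCentral Q}) (fun _ h => h.1) central_bot
    fun _ hQ _ hR => central_sup hQ hR

theorem le_core {Q : Subgroup Ω} (hQ : F.IsNormal Q) : Q ≤ F.core := le_sSup hQ

theorem le_center {Q : Subgroup Ω} (hQ : F.IsCentral Q) : Q ≤ F.center := le_sSup hQ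

end Finite

/-! ### Systems of maps extending to `Q` -/

/-- The maps of `F` between subgroups of `T` that extend to `Q` with a property `C` there. -/
def extSystem (F : FusionSystem S) (T Q : Subgroup Ω) (C : (Ω → Ω) → Prop) (hT : T ≤ S)
    (hQ : Q ≤ S) (hcj : ∀ g ∈ T, C (cj g)) (him : ∀ f, Mor F Q f → C f → im Q f = Q)
    (hcomp : ∀ f g, Mor F Q f → Mor F Q g → C f → C g → C (g ∘ f))
    (hinv : ∀ f g, Mor F Q f → Mor F Q g → C f → (∀ x ∈ Q, g (f x) = x) → C g) :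
    FusionSystem T where
  Hom P := {φ | φ ∈ F.Hom P ∧ P ≤ T ∧ (∀ x : P, φ x ∈ T) ∧
    ∃ f', Mor F (P ⊔ Q) f' ∧ (∀ x : P, f' x = φ x) ∧ C f'}
  le_of_mem h := ⟨h.2.1, h.2.2.1⟩
  injective_of_mem h := F.injective_of_mem h.1
  conj_mem := by
    intro P g hP hg
    exact ⟨F.conj_mem (hP.trans hT) (hT hg), hP,
      fun x => T.mul_mem (T.mul_mem hg (hP x.2)) (T.inv_mem hg),
      cj g, mor_cj (sup_le (hP.trans hT) hQ) (hT hg), fun x => rfl, hcj g hg⟩
  comp_mem := by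
    rintro P R φ ψ ⟨hφ, hP, hφT, f, hf, hfe, hfC⟩ ⟨hψ, hR, hψT, g, hg, hge, hgC⟩ h
    have hfQ := hf.restrict_to (le_sup_right : Q ≤ P ⊔ Q)
    refine ⟨F.comp_mem hφ hψ h, hP, fun x => hψT _, g ∘ f, hf.comp hg fun x hx => ?_, fun x => ?_,
      hcomp f g hfQ (hg.restrict_to le_sup_right) hfC hgC⟩
    · refine mor_sup_induction hf (fun a ha => Subgroup.mem_sup_left ?_)
        (fun b hb => Subgroup.mem_sup_right ?_) hx
      · rw [hfe ⟨a, ha⟩]; exact h ⟨a, ha⟩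
      · exact (him f hfQ hfC).le (apply_mem_im hb)
    · show g (f x) = _
      rw [hfe x]
      exact hge ⟨φ x, h x⟩
  inv_mem := by
    rintro P φ ⟨hφ, hP, hφT, f, hf, hfe, hfC⟩
    obtain ⟨ψ, hψ, hinv'⟩ := F.inv_mem hφ
    obtain ⟨g, hg, hgf, -, -⟩ := hf.exists_inv
    have hfQ := hf.restrict_to (le_sup_right : Q ≤ P ⊔ Q)
    rw [im_sup hf, him f hfQ hfC, ← Mor.range_eq_im hφ fun x => (hfe x).symm] at hg
    refine ⟨ψ, ⟨hψ, ?_, ?_, g, hg, ?_, hinv f g hfQ (hg.restrict_to le_sup_right) hfC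
      fun x hx => hgf x (Subgroup.mem_sup_right hx)⟩, hinv'⟩
    · rintro _ ⟨x, rfl⟩; exact hφT x
    · rintro ⟨_, x, rfl⟩
      rw [hinv' x]; exact hP x.2
    · rintro ⟨_, x, rfl⟩
      show g (φ x) = _
      rw [hinv' x, ← hfe x]
      exact hgf x (Subgroup.mem_sup_left x.2)

theorem mor_extSystem {T Q : Subgroup Ω} {C : (Ω → Ω) → Prop} {hT : T ≤ S} {hQ : Q ≤ S}
    {hcj : ∀ g ∈ T, C (cj g)} {him : ∀ f, Mor F Q f → C f → im Q f = Q}
    {hcomp : ∀ f g, Mor F Q f → Mor F Q g → C f → C g → C (g ∘ f)}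
    {hinv : ∀ f g, Mor F Q f → Mor F Q g → C f → (∀ x ∈ Q, g (f x) = x) → C g}
    {P : Subgroup Ω} {f : Ω → Ω} :
    Mor (extSystem F T Q C hT hQ hcj him hcomp hinv) P f ↔
      Mor F P f ∧ P ≤ T ∧ (∀ x ∈ P, f x ∈ T) ∧
        ∃ f', Mor F (P ⊔ Q) f' ∧ (∀ x ∈ P, f' x = f x) ∧ C f' := by
  constructor
  · rintro ⟨φ, ⟨hφ, hP, hφT, f', hf', hag, hC⟩, he⟩
    exact ⟨⟨φ, hφ, he⟩, hP, fun x hx => he ⟨x, hx⟩ ▸ hφT ⟨x, hx⟩, f', hf',
      fun x hx => (hag ⟨x, hx⟩).trans (he ⟨x, hx⟩), hC⟩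
  · rintro ⟨⟨φ, hφ, he⟩, hP, hfT, f', hf', hag, hC⟩
    exact ⟨φ, ⟨hφ, hP, fun x => (he x).symm ▸ hfT x x.2, f', hf',
      fun x => (hag x x.2).trans (he x).symm, hC⟩, he⟩

/-- The normalizer system of `Q`. -/
def normalizerSystem (F : FusionSystem S) (Q : Subgroup Ω) (hQ : Q ≤ S) :
    FusionSystem (normalizerIn S Q) :=
  extSystem F (normalizerIn S Q) Q (fun f => im Q f = Q) inf_le_left hQ
    (fun _ hg => mem_normalizer_iff_im_cj.mp hg.2) (fun _ _ h => h)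
    (fun f g hf _ h h' => by rw [← hf.im_comp, h, h'])
    (fun f g hf _ h hgf => by
      have e := hf.im_comp g
      rw [h] at e
      rw [e]
      exact (im_congr hgf).trans (im_id Q))

theorem isNormalizerSystem_normalizerSystem (Q : Subgroup Ω) (hQ : Q ≤ S) :
    F.IsNormalizerSystem Q (normalizerSystem F Q hQ) := by
  intro P
  ext φ
  refine and_congr_right fun hφ => and_congr_right fun _ => and_congr_right fun _ => ?_
  rw [ext_normal_iff fun x => (toFun_coe φ x).symm]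
  exact exists_congr fun f' => and_congr_right fun _ => and_congr_left fun _ =>
    ⟨fun h x hx => (h ⟨x, hx⟩).trans (toFun_apply φ hx).symm,
      fun h x => (h x x.2).trans (toFun_coe φ x)⟩

/-- The centralizer system of `Q`. -/
def centralizerSystem (F : FusionSystem S) (Q : Subgroup Ω) (hQ : Q ≤ S) :
    FusionSystem (centralizerIn S Q) :=
  extSystem F (centralizerIn S Q) Q (fun f => ∀ x ∈ Q, f x = x) inf_le_left hQ
    (fun _ hg => (mem_centralizerIn.mp hg).2)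
    (fun _ _ h => (im_congr h).trans (im_id Q))
    (fun f g _ _ h h' x hx => by rw [Function.comp_apply, h x hx, h' x hx])
    (fun f g _ _ h hgf x hx => by
      conv_rhs => rw [← hgf x hx, h x hx])

theorem isCentralizerSystem_centralizerSystem (Q : Subgroup Ω) (hQ : Q ≤ S) :
    F.IsCentralizerSystem Q (centralizerSystem F Q hQ) := by
  intro P
  ext φ
  refine and_congr_right fun hφ => and_congr_right fun _ => and_congr_right fun _ => ?_
  rw [ext_central_iff fun x => (toFun_coe φ x).symm]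
  exact exists_congr fun f' => and_congr_right fun _ => and_congr_left fun _ =>
    ⟨fun h x hx => (h ⟨x, hx⟩).trans (toFun_apply φ hx).symm,
      fun h x => (h x x.2).trans (toFun_coe φ x)⟩

theorem mor_normalizerSystem_iff {Q : Subgroup Ω} {E : FusionSystem (normalizerIn S Q)}
    (hE : F.IsNormalizerSystem Q E) {P : Subgroup Ω} {f : Ω → Ω} :
    Mor E P f ↔ Mor F P f ∧ P ≤ normalizerIn S Q ∧ (∀ x ∈ P, f x ∈ normalizerIn S Q) ∧
      ∃ f', Mor F (P ⊔ Q) f' ∧ (∀ x ∈ P, f' x = f x) ∧ im Q f' = Q := by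
  constructor
  · rintro ⟨φ, hφ, he⟩
    rw [hE P] at hφ
    obtain ⟨hF, hP, hT, hx⟩ := hφ
    exact ⟨⟨φ, hF, he⟩, hP, fun x hx => he ⟨x, hx⟩ ▸ hT ⟨x, hx⟩, (ext_normal_iff he).mp hx⟩
  · rintro ⟨⟨φ, hF, he⟩, hP, hT, hx⟩
    exact ⟨φ, (hE P) ▸ ⟨hF, hP, fun x => (he x).symm ▸ hT x x.2, (ext_normal_iff he).mpr hx⟩, he⟩

theorem mor_centralizerSystem_iff {Q : Subgroup Ω} {E : FusionSystem (centralizerIn S Q)}
    (hE : F.IsCentralizerSystem Q E) {P : Subgroup Ω} {f : Ω → Ω} :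
    Mor E P f ↔ Mor F P f ∧ P ≤ centralizerIn S Q ∧ (∀ x ∈ P, f x ∈ centralizerIn S Q) ∧
      ∃ f', Mor F (P ⊔ Q) f' ∧ (∀ x ∈ P, f' x = f x) ∧ ∀ x ∈ Q, f' x = x := by
  constructor
  · rintro ⟨φ, hφ, he⟩
    rw [hE P] at hφ
    obtain ⟨hF, hP, hT, hx⟩ := hφ
    exact ⟨⟨φ, hF, he⟩, hP, fun x hx => he ⟨x, hx⟩ ▸ hT ⟨x, hx⟩, (ext_central_iff he).mp hx⟩
  · rintro ⟨⟨φ, hF, he⟩, hP, hT, hx⟩
    exact ⟨φ, (hE P) ▸ ⟨hF, hP, fun x => (he x).symm ▸ hT x x.2, (ext_central_iff he).mpr hx⟩, he⟩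

/-! ### Criteria -/

section Criteria

variable [Finite S] [Fact p.Prime]

/-- The maps extending to `Q` form a system over `S` when `S` normalizes `Q`. -/
theorem isNormal_of_le_autGroup (hS : IsPGroup p S) (hF : F.IsSaturated p) {Q : Subgroup Ω}
    (h : ∀ P : Subgroup Ω, (P = S ∨ F.IsEssential p P) →
      Q ≤ P ∧ ∀ α ∈ F.autGroup P, ∀ x ∈ Q, afun α x ∈ Q) : F.IsNormal Q := by
  obtain ⟨hQS, hinvS⟩ := h S (Or.inl rfl)
  have hn : ∀ g ∈ S, im Q (cj g) = Q := by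
    intro g hg
    obtain ⟨α, hα, he⟩ := (mor_cj (F := F) le_rfl hg).exists_aut
      ((mor_cj (F := F) le_rfl hg).im_self fun x hx => cj_mem_S hg hx)
    refine (mor_cj (F := F) hQS hg).im_self fun x hx => ?_
    rw [← he x (hQS hx)]
    exact hinvS α hα x hx
  let E : FusionSystem S :=
    extSystem F S Q (fun f => im Q f = Q) le_rfl hQS hn (fun _ _ h => h)
      (fun f g hf _ h h' => by rw [← hf.im_comp, h, h'])
      (fun f g hf _ h hgf => by
        have e := hf.im_comp g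
        rw [h] at e
        rw [e]
        exact (im_congr hgf).trans (im_id Q))
  have hle : F ≤ E := by
    refine alperin hS hF fun P hP α hα => mem_autGroup_of_mor (mor_extSystem.mpr ?_)
    obtain ⟨hQP, hQinv⟩ := h P hP
    have hPS : P ≤ S := by
      rcases hP with rfl | hP
      · exact le_rfl
      · exact hP.1.1
    have hm := (mem_autGroup hPS).mp hα
    refine ⟨hm, hPS, fun x hx => hm.apply_mem hx, afun α, ?_, fun _ _ => rfl,
      (hm.restrict_to hQP).im_self fun x hx => hQinv α hα x hx⟩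
    rwa [sup_eq_left.mpr hQP]
  refine isNormal_iff.mpr ⟨hQS, fun P f hf => ?_⟩
  exact (mor_extSystem.mp (mor_mono hle hf)).2.2.2

/-- If every element of `Q` is alone in its class then `Q` is central. -/
theorem isCentral_of_fixed (hS : IsPGroup p S) (hF : F.IsSaturated p) {Q : Subgroup Ω}
    (hQS : Q ≤ S) (h : ∀ x ∈ Q, ∀ y : Ω, F.IsConjElt x y → y = x) : F.IsCentral Q := by
  have hfix : ∀ {P : Subgroup Ω} {f : Ω → Ω}, Mor F P f → ∀ x ∈ P, x ∈ Q → f x = x :=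
    fun hf x hxP hxQ => h x hxQ _ (isConjElt_of_mor hf hxP)
  let E : FusionSystem S :=
    extSystem F S Q (fun f => ∀ x ∈ Q, f x = x) le_rfl hQS
      (fun g hg x hx => hfix (mor_cj (F := F) hQS hg) x hx hx)
      (fun _ _ h => (im_congr h).trans (im_id Q))
      (fun f g _ _ h h' x hx => by rw [Function.comp_apply, h x hx, h' x hx])
      (fun f g _ _ h hgf x hx => by
        conv_rhs => rw [← hgf x hx, h x hx])
  have hle : F ≤ E := by
    refine alperin hS hF fun P hP α hα => mem_autGroup_of_mor (mor_extSystem.mpr ?_)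
    have hPS : P ≤ S := by
      rcases hP with rfl | hP
      · exact le_rfl
      · exact hP.1.1
    have hQP : Q ≤ P := by
      rcases hP with rfl | hP
      · exact hQS
      · refine fun q hq => centralizerIn_le_of_centric hP.1
          (mem_centralizerIn.mpr ⟨hQS hq, fun x hx => ?_⟩)
        have h1 := hfix (mor_cj (F := F) hQS (hPS hx)) q hq hq
        simp only [cj_apply] at h1 ⊢
        rw [mul_inv_eq_iff_eq_mul] at h1 ⊢
        exact h1.symm
    have hm := (mem_autGroup hPS).mp hα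
    refine ⟨hm, hPS, fun x hx => hm.apply_mem hx, afun α, ?_, fun _ _ => rfl,
      fun x hx => hfix hm x (hQP hx) hx⟩
    rwa [sup_eq_left.mpr hQP]
  refine isCentral_iff.mpr ⟨hQS, fun P f hf => ?_⟩
  exact (mor_extSystem.mp (mor_mono hle hf)).2.2.2

/-- A subgroup whose normalizer trace in `Aut_F(P)` lies in a normal `p`-subgroup is contained in
the centric radical subgroup `P`. -/
theorem le_of_normal_pSubgroup (hS : IsPGroup p S) {P Q : Subgroup Ω} (hc : F.IsCentric P)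
    (hr : F.IsRadical p P) (hQS : Q ≤ S) (hn : P ≤ Subgroup.normalizer (Q : Set Ω))
    {M : Subgroup (MulAut P)} (hMA : M ≤ F.autGroup P) (hMp : IsPGroup p M)
    (hMn : ∀ α ∈ F.autGroup P, ∀ m ∈ M, α * m * α⁻¹ ∈ M)
    (hg : ∀ g : ↥(S ⊓ Subgroup.normalizer (P : Set Ω)), (g : Ω) ∈ Q → nHom S P g ∈ M) :
    Q ≤ P := by
  have hMI : M ≤ Inn P := by
    intro m hm
    rw [← hr.2]
    refine ⟨⟨m, hMA hm⟩, ?_, rfl⟩
    refine (le_sSup (show M.subgroupOf (F.autGroup P) ∈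
      {N : Subgroup (F.autGroup P) | N.Normal ∧ IsPGroup p N} from ⟨⟨fun n hn' a => hMn a a.2 n hn'⟩,
        hMp.of_equiv (Subgroup.subgroupOfEquivOfLe hMA).symm⟩) : _ ≤ pCore p (F.autGroup P)) ?_
    exact hm
  by_contra hle
  obtain ⟨g, hgS, hgP, hgn⟩ :=
    lt_normalizerIn hS (sup_le hc.1 hQS) (left_lt_sup.mpr hle)
  rw [← SetLike.mem_coe, Subgroup.coe_mul_of_left_le_normalizer_right _ _ hn] at hgS
  obtain ⟨u, hu, q, hq, rfl⟩ := Set.mem_mul.mp hgS
  have hqn : q ∈ Subgroup.normalizer (P : Set Ω) := by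
    simpa using mul_mem (inv_mem (Subgroup.le_normalizer (H := P) hu)) hgn
  refine hgP (P.mul_mem hu ?_)
  exact mem_of_nHom_mem_inn hc.1 (centralizerIn_le_of_centric hc) ⟨q, hQS hq, hqn⟩
    (hMI (hg _ hq))

/-- A normal subgroup is contained in every centric radical subgroup. -/
theorem normal_le_centric_radical (hS : IsPGroup p S) {P Q : Subgroup Ω} (hQ : F.IsNormal Q)
    (hc : F.IsCentric P) (hr : F.IsRadical p P) : Q ≤ P := by
  have hPS := hc.1
  have hnQ : P ≤ Subgroup.normalizer (Q : Set Ω) := hPS.trans (le_normalizer_of_normal hQ)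
  refine le_of_normal_pSubgroup hS hc hr hQ.1 hnQ
    (M := autInducedBy (P ⊔ Q) P) ?_ (isPGroup_autInducedBy (hS.to_le (sup_le hPS hQ.1)) P) ?_ ?_
  · exact (autInducedBy_mono (sup_le hPS hQ.1) P).trans (autInducedBy_le hPS)
  · intro α hα m hm
    obtain ⟨g, hg, hgn, hge⟩ := mem_autInducedBy.mp hm
    obtain ⟨f, hf, hag, him⟩ := (isNormal_iff.mp hQ).2 P (afun α) ((mem_autGroup hPS).mp hα)
    refine mem_autInducedBy.mpr ⟨f g, mor_sup_induction hf
      (fun a ha => Subgroup.mem_sup_left (by rw [hag a ha]; exact afun_mem α ha))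
      (fun b hb => Subgroup.mem_sup_right (him.le (apply_mem_im hb))) hg, ?_, ?_⟩
    · refine mem_normalizer_of_cj_le hPS fun x hx => ?_
      have hx' := afun_mem α⁻¹ hx
      rw [← afun_apply_inv α hx, ← hag _ hx', ← hf.map_cj hg (Subgroup.mem_sup_left hx'),
        hag _ (cj_mem_of_normalizer hgn hx')]
      exact afun_mem α (cj_mem_of_normalizer hgn hx')
    · intro x hx
      have hx' := afun_mem α⁻¹ hx
      rw [afun_mul _ _ hx, afun_mul _ _ hx', hge _ hx',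
        ← hag _ (cj_mem_of_normalizer hgn hx'), hf.map_cj hg (Subgroup.mem_sup_left hx'),
        hag _ hx', afun_apply_inv α hx]
  · intro g hg
    exact mem_autInducedBy.mpr
      ⟨g, Subgroup.mem_sup_right hg, g.2.2, fun x hx => afun_nHom g hx⟩

theorem isNormal_of_le_centric_radical (hS : IsPGroup p S) (hF : F.IsSaturated p)
    {Q : Subgroup Ω} (hQ : F.StronglyClosed Q)
    (h : ∀ P : Subgroup Ω, F.IsEssential p P → Q ≤ P) : F.IsNormal Q := by
  refine isNormal_of_le_autGroup hS hF fun P hP => ?_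
  have hQP : Q ≤ P := by
    rcases hP with rfl | hP
    · exact hQ.1
    · exact h P hP
  refine ⟨hQP, fun α hα x hx => ?_⟩
  have hPS : P ≤ S := by
    rcases hP with rfl | hP
    · exact le_rfl
    · exact hP.1.1
  exact stronglyClosed_invariant hQ ((mem_autGroup hPS).mp hα) (hQP hx) hx

end Criteria

/-! ### Stabilizers of series -/

theorem afun_map_mul {P : Subgroup Ω} (α : MulAut P) {x y : Ω} (hx : x ∈ P) (hy : y ∈ P) :
    afun α (x * y) = afun α x * afun α y := by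
  rw [afun_apply _ (P.mul_mem hx hy), afun_apply _ hx, afun_apply _ hy]
  exact congrArg Subtype.val (α.map_mul ⟨x, hx⟩ ⟨y, hy⟩)

theorem pow_fix_step {X Y : Subgroup Ω} {P : Subgroup Ω} (hY : Y ≤ P) {α : MulAut P}
    (hfix : ∀ x ∈ X, afun α x = x) (hstep : ∀ y ∈ Y, y⁻¹ * afun α y ∈ X) :
    ∀ (k : ℕ), ∀ y ∈ Y, afun (α ^ k) y = y * (y⁻¹ * afun α y) ^ k := by
  intro k
  induction k with
  | zero => intro y hy; rw [pow_zero, pow_zero, afun_one (hY hy), mul_one]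
  | succ k ih =>
    intro y hy
    have hd : y⁻¹ * afun α y ∈ P := P.mul_mem (P.inv_mem (hY hy)) (afun_mem α (hY hy))
    have hk : afun α ((y⁻¹ * afun α y) ^ k) = (y⁻¹ * afun α y) ^ k :=
      hfix _ (pow_mem (hstep y hy) k)
    rw [pow_succ', afun_mul _ _ (hY hy), ih y hy]
    have hmul : afun α (y * (y⁻¹ * afun α y) ^ k) = afun α y * afun α ((y⁻¹ * afun α y) ^ k) :=
      afun_map_mul α (hY hy) (pow_mem hd k)
    rw [hmul, hk, pow_succ' (y⁻¹ * afun α y) k, ← mul_assoc, mul_inv_cancel_left]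

/-- An automorphism of a finite `p`-group stabilizing a series has `p`-power order. -/
theorem pow_eq_one_of_stabilizes [Fact p.Prime] {P : Subgroup Ω} [Finite P] (hP : IsPGroup p P)
    {n : ℕ} (X : ℕ → Subgroup Ω) (h0 : X 0 = ⊥) (hn : X n = P) (hX : ∀ i, X i ≤ P)
    (hmono : ∀ i < n, X i ≤ X (i + 1))
    {α : MulAut P} (h : ∀ i < n, ∀ y ∈ X (i + 1), y⁻¹ * afun α y ∈ X i) :
    ∃ k : ℕ, α ^ p ^ k = 1 := by
  obtain ⟨c, hc⟩ := IsPGroup.iff_card.mp hP
  refine ⟨c * n, ?_⟩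
  have hpow : ∀ i ≤ n, ∀ y ∈ X i, afun (α ^ p ^ (c * i)) y = y := by
    intro i
    induction i with
    | zero =>
      intro _ y hy
      rw [h0, Subgroup.mem_bot] at hy
      subst hy
      rw [afun_apply _ P.one_mem]
      exact congrArg Subtype.val (map_one (α ^ p ^ (c * 0)))
    | succ i ih =>
      intro hi y hy
      rw [show c * (i + 1) = c * i + c by ring, pow_add, pow_mul]
      set β := α ^ p ^ (c * i) with hβ
      have hstep : ∀ z ∈ X (i + 1), z⁻¹ * afun β z ∈ X i := by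
        suffices ∀ (m : ℕ), ∀ z ∈ X (i + 1), z⁻¹ * afun (α ^ m) z ∈ X i from this _
        intro m
        induction m with
        | zero => intro z hz; rw [pow_zero, afun_one (hX _ hz), inv_mul_cancel]; exact one_mem _
        | succ m ihm =>
          intro z hz
          have hPz := hX _ hz
          rw [pow_succ', afun_mul _ _ hPz]
          have hinv : ∀ w ∈ X i, afun α w ∈ X i := by
            intro w hw
            obtain _ | j := i
            · rw [h0, Subgroup.mem_bot] at hw ⊢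
              rw [hw, afun_apply _ P.one_mem]
              exact congrArg Subtype.val (map_one α)
            · have := (X (j + 1)).mul_mem hw (hmono j (by omega) (h j (by omega) w hw))
              rwa [mul_inv_cancel_left] at this
          have hdm := ihm z hz
          have hsplit : afun α (afun (α ^ m) z) =
              afun α z * afun α (z⁻¹ * afun (α ^ m) z) := by
            have e : afun (α ^ m) z = z * (z⁻¹ * afun (α ^ m) z) := (mul_inv_cancel_left _ _).symm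
            conv_lhs => rw [e]
            exact afun_map_mul α hPz (hX _ hdm)
          rw [hsplit, ← mul_assoc]
          exact mul_mem (h i (by omega) z hz) (hinv _ hdm)
      rw [pow_fix_step (hX _) (ih (by omega)) hstep _ y hy]
      have hdvd : (y⁻¹ * afun β y) ^ p ^ c = 1 := by
        have := pow_card_eq_one' (G := P) (x := ⟨_, hX i (hstep y hy)⟩)
        rw [hc] at this
        exact congrArg Subtype.val this
      rw [hdvd, mul_one]
  refine afun_ext fun x hx => ?_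
  rw [afun_one hx]
  exact hpow n le_rfl x (hn.symm ▸ hx)

end Cfsg.Agent.FusionSysNormal
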