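import Mathlib
import Cfsg.Prelude.Def_PLocal
import Cfsg.Agent.Lib.FusionFrattini88
import Cfsg.Agent.Lib.FusionSysNormal

/-! In a saturated system over `S` of class at most `n(p-1)+1` the agemo `Z(S)^{p^n}` is normal. -/

set_option autoImplicit false
set_option linter.style.haveILetI false

open Cfsg Cfsg.FusionSystem
open Cfsg.Agent.FusionSysBasic Cfsg.Agent.FusionSysSaturated

namespace Cfsg.Agent.AgemoCentreNormal

/-- In a commutative ring, `(1+X)^p = 1 + pX(1+Xq) + X^p`. -/
theorem exists_binom {R : Type*} [CommRing R] {p : ℕ} (hp : p.Prime) (X : R) :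
    ∃ q : R, (1 + X) ^ p = 1 + (p : R) * X * (1 + X * q) + X ^ p ∧
      ∀ Y, Commute X Y → Commute q Y := by
  refine ⟨∑ i ∈ Finset.range (p - 2), ((Nat.choose p (i + 2) / p : ℕ) : R) * X ^ i, ?_,
    fun Y _ => Commute.all _ _⟩
  obtain ⟨m, rfl⟩ : ∃ m, p = m + 2 := ⟨p - 2, by have := hp.two_le; omega⟩
  have hd : ∀ i ∈ Finset.range m, (m + 2) ∣ Nat.choose (m + 2) (i + 2) := fun i hi =>
    hp.dvd_choose_self (by omega) (by have := Finset.mem_range.mp hi; omega)
  rw [add_comm 1 X, add_pow, Finset.sum_range_succ, Finset.sum_range_succ' _ (m + 1),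
    Finset.sum_range_succ' _ m]
  simp only [one_pow, mul_one, Nat.choose_self, Nat.cast_one, Nat.choose_zero_right, pow_zero,
    zero_add, pow_one, Nat.choose_one_right]
  have e : ∀ i ∈ Finset.range m, X ^ (i + 1 + 1) * (Nat.choose (m + 2) (i + 1 + 1) : R) =
      ((m + 2 : ℕ) : R) * X * (X * ((Nat.choose (m + 2) (i + 2) / (m + 2) : ℕ) * X ^ i)) := by
    intro i hi
    obtain ⟨c, hc⟩ := hd i hi
    rw [show i + 1 + 1 = i + 2 from rfl, hc, Nat.mul_div_cancel_left _ (by omega : 0 < m + 2)]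
    push_cast
    ring
  rw [Finset.sum_congr rfl e, ← Finset.mul_sum, ← Finset.mul_sum]
  rw [Nat.add_sub_cancel]
  ring

/-- If `u^p = 1` and `(u-1)^(n(p-1)+1) = 0` then `p^n (u-1) = 0`. -/
theorem pow_mul_sub_one_eq_zero {R : Type*} [Ring R] {p n : ℕ} (hp : p.Prime) {u : R}
    (hu : u ^ p = 1) (hD : (u - 1) ^ (n * (p - 1) + 1) = 0) : (p : R) ^ n * (u - 1) = 0 := by
  set D := u - 1 with hDdef
  obtain ⟨q, hq, -⟩ := exists_binom hp (Polynomial.X : Polynomial ℤ)
  have h := congrArg (Polynomial.aeval D) hq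
  simp only [map_add, map_mul, map_pow, map_one, Polynomial.aeval_X, map_natCast] at h
  set a := Polynomial.aeval D q
  have hDa : Commute D a := by
    have := (Commute.all (Polynomial.X : Polynomial ℤ) q).map (Polynomial.aeval D)
    simpa [a] using this
  rw [hDdef, add_sub_cancel, hu, add_assoc, ← hDdef, left_eq_add] at h
  obtain ⟨w, hw⟩ : IsUnit (1 + D * a) :=
    (hDa.isNilpotent_mul_right ⟨_, hD⟩).isUnit_one_add
  have hcD : Commute D (w : R) := by
    rw [hw]
    exact (Commute.one_right D).add_right ((Commute.refl D).mul_right hDa)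
  set b : R := -((w⁻¹ : Rˣ) : R) with hb
  have hbD : Commute D b := by rw [hb]; exact (hcD.units_inv_right).neg_right
  have hpD : (p : R) * D = D ^ p * b := by
    rw [eq_neg_of_add_eq_zero_right h, hb, neg_mul_neg, ← hw, mul_assoc _ (w : R), Units.mul_inv,
      mul_one]
  have key : ∀ j : ℕ, (p : R) ^ j * D = D ^ (j * (p - 1) + 1) * b ^ j := by
    intro j
    induction j with
    | zero => simp
    | succ j ih =>
      obtain ⟨q', hq'⟩ : ∃ q', p = q' + 1 := ⟨p - 1, by have := hp.one_lt; omega⟩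
      have e : (j + 1) * (p - 1) + 1 = j * (p - 1) + p := by
        rw [Nat.succ_mul, hq', Nat.add_sub_cancel]; omega
      calc (p : R) ^ (j + 1) * D = (p : R) * ((p : R) ^ j * D) := by rw [pow_succ', mul_assoc]
        _ = (p : R) * (D * D ^ (j * (p - 1))) * b ^ j := by rw [ih, pow_succ', ← mul_assoc]
        _ = D ^ p * (b * D ^ (j * (p - 1))) * b ^ j := by rw [← mul_assoc, hpD, mul_assoc (D ^ p)]
        _ = D ^ p * (D ^ (j * (p - 1)) * b) * b ^ j := by rw [(hbD.pow_left _).eq]
        _ = _ := by rw [e, add_comm, pow_add, ← mul_assoc, mul_assoc _ b, ← pow_succ']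
  rw [key n, hD, zero_mul]

variable {Ω : Type*} [Group Ω] {S : Subgroup Ω}

/-- An element acting with order `p` on an abelian subgroup fixes its `p^n`-th powers. -/
theorem conj_pow_eq {p n : ℕ} [Fact p.Prime]
    (hcl : Subgroup.lowerCentralSeries S (n * (p - 1) + 1) = ⊥) {W : Subgroup Ω}
    (hWS : W ≤ S) (hWc : ∀ a ∈ W, ∀ b ∈ W, a * b = b * a) {g : Ω} (hg : g ∈ S)
    (hgW : g ∈ Subgroup.normalizer (W : Set Ω))
    (hgp : ∀ w ∈ W, g ^ p * w = w * g ^ p) {v : Ω} (hv : v ∈ W) :
    g * v ^ p ^ n * g⁻¹ = v ^ p ^ n := by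
  letI : CommGroup W := { (inferInstance : Group W) with
    mul_comm := fun a b => Subtype.ext (hWc a a.2 b b.2) }
  let E := AddMonoid.End (Additive W)
  let ρ : ↥(Subgroup.normalizer (W : Set Ω)) →* E :=
    { toFun := fun x => MonoidHom.toAdditive (W.normalizerMonoidHom x).toMonoidHom
      map_one' := AddMonoidHom.ext fun w => by
        show Additive.ofMul (W.normalizerMonoidHom 1 (Additive.toMul w)) = w
        rw [map_one]; rfl
      map_mul' := fun x y => AddMonoidHom.ext fun w => by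
        show Additive.ofMul (W.normalizerMonoidHom (x * y) (Additive.toMul w)) =
          Additive.ofMul (W.normalizerMonoidHom x (W.normalizerMonoidHom y (Additive.toMul w)))
        rw [map_mul]; rfl }
  set u : E := ρ ⟨g, hgW⟩ with hu
  have hval : ∀ (x : ↥(Subgroup.normalizer (W : Set Ω))) (w : Additive W),
      ((Additive.toMul (ρ x w) : W) : Ω) = (x : Ω) * (Additive.toMul w : W) * (x : Ω)⁻¹ :=
    fun x w => rfl
  have hup : u ^ p = 1 := by
    rw [hu, ← map_pow]
    refine AddMonoidHom.ext fun w => Additive.toMul.injective (Subtype.ext ?_)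
    show ((Additive.toMul (ρ _ w) : W) : Ω) = _
    rw [hval]
    simp only [SubgroupClass.coe_pow]
    rw [hgp _ (Additive.toMul w : W).2, mul_inv_cancel_right]
    rfl
  have hD : ∀ (i : ℕ) (w : Additive W),
      ((Additive.toMul (((u - 1) ^ i) w) : W) : Ω) ∈ Subgroup.lowerCentralSeries S i := by
    intro i
    induction i with
    | zero => exact fun w => hWS (Additive.toMul w : W).2
    | succ i ih =>
      intro w
      rw [pow_succ']
      show ((Additive.toMul (u (((u - 1) ^ i) w) - ((u - 1) ^ i) w) : W) : Ω) ∈ _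
      rw [toMul_sub, Subgroup.coe_div, div_eq_mul_inv, hval]
      have h1 := inv_mem (Subgroup.commutator_mem_commutator (ih w) hg)
      rw [Subgroup.lowerCentralSeries_succ]
      simpa [commutatorElement_def, mul_assoc] using h1
  have hnil : (u - 1) ^ (n * (p - 1) + 1) = 0 := by
    refine AddMonoidHom.ext fun w => Additive.toMul.injective (Subtype.ext ?_)
    have h1 := hD (n * (p - 1) + 1) w
    rw [hcl, Subgroup.mem_bot] at h1
    exact h1
  have h0 := congrArg (fun f : E => f (Additive.ofMul (⟨v, hv⟩ : W)))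
    (pow_mul_sub_one_eq_zero (Fact.out : p.Prime) hup hnil)
  simp only [← Nat.cast_pow, ← nsmul_eq_mul] at h0
  change p ^ n • (u (Additive.ofMul ⟨v, hv⟩) - Additive.ofMul ⟨v, hv⟩) = 0 at h0
  rw [smul_sub, sub_eq_zero, ← map_nsmul] at h0
  have h1 := congrArg (fun z : Additive W => ((Additive.toMul z : W) : Ω)) h0
  simp only [toMul_nsmul, hval, u, Subgroup.coe_mk, toMul_ofMul, SubgroupClass.coe_pow] at h1
  exact h1

variable {F : FusionSystem S} {p n : ℕ}

/-- `Z(S)^{p^n}`. -/
def agemoCentre (p n : ℕ) (S : Subgroup Ω) : Subgroup Ω :=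
  powerClosure p n (S ⊓ Subgroup.centralizer (S : Set Ω))

theorem mem_agemoCentre {x : Ω} : x ∈ agemoCentre p n S ↔
    ∃ z ∈ S ⊓ Subgroup.centralizer (S : Set Ω), x = z ^ p ^ n := by
  refine ⟨fun h => ?_, fun ⟨z, hz, e⟩ => Subgroup.subset_closure ⟨z, hz, e⟩⟩
  refine Subgroup.closure_induction (fun y hy => hy) ⟨1, one_mem _, by simp⟩ ?_ ?_ h
  · rintro a b _ _ ⟨z, hz, rfl⟩ ⟨z', hz', rfl⟩
    exact ⟨z * z', mul_mem hz hz', ((show Commute z z' from hz'.2 z hz.1).mul_pow _).symm⟩
  · rintro a _ ⟨z, hz, rfl⟩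
    exact ⟨z⁻¹, inv_mem hz, (inv_pow z _).symm⟩

theorem agemoCentre_le : agemoCentre p n S ≤ S ⊓ Subgroup.centralizer (S : Set Ω) := fun x hx => by
  obtain ⟨z, hz, rfl⟩ := mem_agemoCentre.mp hx
  exact pow_mem hz _

variable [Finite S] [Fact p.Prime]

/-- Every map of the system preserves `Z(S)^{p^n}`. -/
theorem apply_mem (hS : IsPGroup p S) (hF : F.IsSaturated p)
    (hcl : Subgroup.lowerCentralSeries S (n * (p - 1) + 1) = ⊥) :
    ∀ (P : Subgroup Ω) (f : Ω → Ω), Mor F P f → ∀ x ∈ agemoCentre p n S, x ∈ P →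
      f x ∈ agemoCentre p n S := by
  set Q := agemoCentre p n S with hQ
  suffices ∀ (d : ℕ) (P : Subgroup Ω) (f : Ω → Ω), Nat.card S - Nat.card P = d → Mor F P f →
      ∀ x ∈ Q, x ∈ P → f x ∈ Q from fun P f hf => this _ P f rfl hf
  intro d
  induction d using Nat.strong_induction_on with
  | _ d ih =>
  intro P f hd hf x hxQ hxP
  have hPS := hf.le
  have hbig : ∀ (P' : Subgroup Ω) (f' : Ω → Ω), Mor F P' f' → Nat.card P < Nat.card P' →
      ∀ y ∈ Q, y ∈ P' → f' y ∈ Q := by
    intro P' f' hf' hlt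
    have h2 : Nat.card P' ≤ Nat.card S := Subgroup.card_le_of_le hf'.le
    exact ih _ (by omega) P' f' rfl hf'
  rcases eq_or_lt_of_le hPS with rfl | hlt
  · -- automorphisms of `S`
    obtain ⟨z, hz, rfl⟩ := mem_agemoCentre.mp hxQ
    have himS : ∀ y ∈ P, ∃ y' ∈ P, f y' = y := fun y hy =>
      hf.mem_im.mp ((hf.im_self fun a ha => hf.apply_mem ha).symm ▸ hy)
    have hfz : f z ∈ P ⊓ Subgroup.centralizer (P : Set Ω) := by
      refine ⟨hf.apply_mem hz.1, fun y hy => ?_⟩
      obtain ⟨y', hy', rfl⟩ := himS y hy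
      rw [← hf.map_mul hy' hz.1, ← hf.map_mul hz.1 hy', hz.2 y' hy']
    refine mem_agemoCentre.mpr ⟨f z, hfz, ?_⟩
    have hpow : ∀ m : ℕ, f (z ^ m) = f z ^ m := by
      intro m
      induction m with
      | zero => rw [pow_zero, pow_zero, hf.map_one]
      | succ m ihm => rw [pow_succ, pow_succ, hf.map_mul (pow_mem hz.1 m) hz.1, ihm]
    exact hpow _
  obtain ⟨R, hPR, hR⟩ := exists_fullyNormalized (F := F) hPS
  have hRS := hR.1
  have hcard : Nat.card P = Nat.card R := isConj_card hPR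
  -- maps to `R` extending to normalizers
  have hP' : F.IsConj P (im P f) := isConj_iff.mpr ⟨f, hf, rfl⟩
  obtain ⟨h, hh, hhN, hhP⟩ := exists_map_to_fullyNormalized hS hF hR hPR
  obtain ⟨h', hh', hh'N, hh'P⟩ := exists_map_to_fullyNormalized hS hF hR
    (isConj_trans (isConj_symm hP') hPR)
  have hQN : ∀ {U : Subgroup Ω}, U ≤ S → Q ≤ normalizerIn S U := fun {U} hU y hy =>
    ⟨(agemoCentre_le hy).1, Subgroup.centralizer_le_normalizer _
      (fun a ha => (agemoCentre_le hy).2 a (hU ha))⟩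
  have hNgt : ∀ {U : Subgroup Ω}, U ≤ S → Nat.card U = Nat.card P →
      Nat.card U < Nat.card (normalizerIn S U) := fun {U} hU hc => by
    refine FusionFrattini88.card_lt_normalizerIn hS le_rfl (lt_of_le_of_ne hU fun e => ?_)
    have h2 : Nat.card P < Nat.card S :=
      lt_of_le_of_ne (Subgroup.card_le_of_le hPS) fun e' =>
        hlt.ne (Subgroup.eq_of_le_of_card_ge hPS e'.ge)
    rw [e] at hc
    omega
  have hxh : h x ∈ Q := hbig _ h hh (hNgt hPS rfl) x hxQ (hQN hPS hxQ)
  have hxR : h x ∈ R := hhP ▸ apply_mem_im hxP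
  -- the automorphism of `R`
  have hP'S : im P f ≤ S := hf.im_le
  have hcardP' : Nat.card (im P f) = Nat.card P := hf.card_im
  have hh'r := hh'.restrict_to (le_normalizerIn hP'S)
  have hr := hh.restrict_to (le_normalizerIn hPS)
  obtain ⟨hi, hhi, hhif, -, hhim⟩ := hr.exists_inv
  rw [hhP] at hhi
  have hhiP : ∀ y ∈ R, hi y ∈ P := by
    intro y hy
    obtain ⟨a, ha, rfl⟩ := hr.mem_im.mp (hhP.symm ▸ hy)
    rw [hhif a ha]; exact ha
  have hg : Mor F R (fun y => h' (f (hi y))) := by
    have h1 : Mor F R (f ∘ hi) := Mor.comp (F := F) hhi hf hhiP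
    exact Mor.comp (F := F) h1 hh'r fun y hy => apply_mem_im (hhiP y hy)
  obtain ⟨α, hα, hαe⟩ := hg.exists_aut (hg.im_self fun y hy =>
    hh'P ▸ apply_mem_im (apply_mem_im (hhiP y hy)))
  -- the automorphisms of `R` preserve `Q`
  have hαQ : afun α (h x) ∈ Q := by
    by_cases hZR : S ⊓ Subgroup.centralizer (S : Set Ω) ≤ R
    · let WZ : Subgroup Ω := R ⊓ Subgroup.centralizer (R : Set Ω)
      let M : Subgroup (MulAut R) :=
        { carrier := {m | ∀ v ∈ WZ, afun m (v ^ p ^ n) = v ^ p ^ n}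
          one_mem' := fun v hv => afun_one (pow_mem hv.1 _)
          mul_mem' := fun {a b} ha hb v hv => by
            rw [afun_mul a b (pow_mem hv.1 _), hb v hv, ha v hv]
          inv_mem' := fun {a} ha v hv => by
            conv_lhs => rw [← ha v hv]
            exact afun_inv_apply a (pow_mem hv.1 _) }
      have hMn : ∀ a ∈ F.autGroup R, ∀ m ∈ M, m ∈ F.autGroup R → a * m * a⁻¹ ∈ M := by
        intro a _ m hm _ v hv
        have hv' : afun a⁻¹ v ∈ WZ := by
          refine ⟨afun_mem _ hv.1, fun y hy => ?_⟩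
          have h1 := hv.2 (afun a y) (afun_mem a hy)
          have h2 := congrArg (afun a⁻¹) h1
          have e1 : ∀ s t, s ∈ R → t ∈ R → afun a⁻¹ (s * t) = afun a⁻¹ s * afun a⁻¹ t :=
            fun s t hs ht => by
              rw [afun_apply _ hs, afun_apply _ ht, afun_apply _ (mul_mem hs ht), ← Subgroup.coe_mul,
                ← map_mul]
              rfl
          rwa [e1 _ _ (afun_mem a hy) hv.1, e1 _ _ hv.1 (afun_mem a hy), afun_inv_apply a hy] at h2
        have e2 : afun a⁻¹ (v ^ p ^ n) = afun a⁻¹ v ^ p ^ n := by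
          rw [afun_apply _ hv.1, afun_apply _ (pow_mem hv.1 _), ← SubgroupClass.coe_pow, ← map_pow]
          rfl
        rw [afun_mul _ _ (pow_mem hv.1 _), afun_mul _ _ (afun_mem _ (pow_mem hv.1 _)), e2,
          hm _ hv', ← e2, afun_apply_inv a (pow_mem hv.1 _)]
      let N : Subgroup Ω := (M.comap (nHom S R)).map (Subgroup.subtype _)
      have hNle : N ≤ normalizerIn S R := Subgroup.map_subtype_le _
      obtain ⟨β, -, m, hm, -, hαm, f', hf', hf'e⟩ := FusionFrattini88.frattini_ext hS hF hR M hMn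
        hNle (fun g hg => by
          obtain ⟨g', hg', e⟩ := hg
          rw [show (⟨g, hNle ⟨g', hg', e⟩⟩ : ↥(S ⊓ Subgroup.normalizer (R : Set Ω))) = g' from
            Subtype.ext e.symm]
          exact hg') hα
      obtain ⟨v, hv, hvx⟩ := mem_agemoCentre.mp hxh
      have hvW : v ∈ WZ := ⟨hZR hv, fun y hy => hv.2 y (hRS hy)⟩
      have hfix : afun m (h x) = h x := by rw [hvx]; exact hm v hvW
      rw [hαm, afun_mul _ _ hxR, hfix, ← hf'e _ hxR]
      refine hbig _ f' hf' ?_ _ hxh (Subgroup.mem_sup_left hxR)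
      -- some element outside `R` acts with order `p` on the centre of `R`
      rw [hcard]
      obtain ⟨g, hgN, hgR⟩ := Set.exists_of_ssubset (show (R : Set Ω) ⊂ normalizerIn S R from
        lt_of_le_of_ne (le_normalizerIn hRS) fun e => by
          have := hNgt hRS hcard.symm
          rw [← SetLike.coe_injective e] at this
          exact lt_irrefl _ this)
      obtain ⟨k, hk⟩ := hS ⟨g, hgN.1⟩
      have hk' : g ^ p ^ k ∈ R := by
        have : g ^ p ^ k = 1 := by simpa using congrArg Subtype.val hk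
        rw [this]; exact one_mem R
      classical
      obtain ⟨g', hg'N, hg'R, hg'p⟩ : ∃ g' ∈ normalizerIn S R, g' ∉ R ∧ g' ^ p ∈ R := by
        have hex : ∃ i, g ^ p ^ i ∈ R := ⟨k, hk'⟩
        obtain ⟨i, hi'⟩ : ∃ i, Nat.find hex = i + 1 := Nat.exists_eq_succ_of_ne_zero fun h0 => by
          have := Nat.find_spec hex
          rw [h0, pow_zero, pow_one] at this
          exact hgR this
        refine ⟨g ^ p ^ i, pow_mem hgN _, Nat.find_min hex (by omega), ?_⟩
        rw [← pow_mul, ← pow_succ, ← hi']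
        exact Nat.find_spec hex
      have hRN : R ≤ N := fun r hr => by
        refine ⟨⟨r, hRS hr, Subgroup.le_normalizer hr⟩, fun w hw => ?_, rfl⟩
        rw [afun_nHom _ (pow_mem hw.1 _), cj_apply]
        have := (pow_mem hw (p ^ n)).2 r hr
        exact mul_inv_eq_iff_eq_mul.mpr this
      have hg'mem : g' ∈ N := by
        refine ⟨⟨g', hg'N⟩, fun w hw => ?_, rfl⟩
        rw [afun_nHom _ (pow_mem hw.1 _), cj_apply]
        refine conj_pow_eq hcl (W := WZ) (inf_le_left.trans hRS) (fun a ha b hb => hb.2 a ha.1)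
          hg'N.1 ?_ (fun a ha => ha.2 _ hg'p) hw
        refine mem_normalizer_of_cj_le (inf_le_left.trans hRS) fun a ha => ⟨cj_mem_of_normalizer hg'N.2 ha.1, fun y hy => ?_⟩
        have hy' : g'⁻¹ * y * g' ∈ R := by
          simpa [cj_apply] using cj_mem_of_normalizer (inv_mem hg'N.2) hy
        rw [cj_apply]
        calc y * (g' * a * g'⁻¹) = g' * ((g'⁻¹ * y * g') * a) * g'⁻¹ := by group
          _ = g' * (a * (g'⁻¹ * y * g')) * g'⁻¹ := by rw [ha.2 _ hy']
          _ = _ := by group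
      haveI : Finite ↥(R ⊔ N) := finite_of_le (sup_le hRS (hNle.trans inf_le_left))
      refine lt_of_le_of_ne (Subgroup.card_le_of_le le_sup_left) fun e => hg'R ?_
      rw [Subgroup.eq_of_le_of_card_ge le_sup_left e.ge]
      exact Subgroup.mem_sup_right hg'mem
    · obtain ⟨f', hf', hf'e, -⟩ := exists_extension_centralizer (P := R)
        (receptive_of_fullyNormalized hS hF hR) ((mem_autGroup hRS).mp hα) (im_afun α)
      rw [← hf'e _ hxR]
      refine hbig _ f' hf' ?_ _ hxh (Subgroup.mem_sup_left hxR)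
      rw [hcard]
      haveI : Finite ↥(R ⊔ centralizerIn S R) := finite_of_le (sup_le hRS inf_le_left)
      refine lt_of_le_of_ne (Subgroup.card_le_of_le le_sup_left) fun e => hZR fun z hz => ?_
      rw [Subgroup.eq_of_le_of_card_ge le_sup_left e.ge]
      exact Subgroup.mem_sup_right ⟨hz.1, fun y hy => hz.2 y (hRS hy)⟩
  rw [hαe _ hxR, hhif x hxP] at hαQ
  -- pull back along the map of the image
  have hfxP : f x ∈ im P f := apply_mem_im hxP
  obtain ⟨y, hy, hye⟩ : ∃ y ∈ Q, h' y = h' (f x) := by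
    have hQ' := hh'.restrict_to (hQN hP'S)
    exact hQ'.mem_im.mp ((hQ'.im_self fun y hy =>
      hbig _ h' hh' (hcardP' ▸ hNgt hP'S hcardP') y hy (hQN hP'S hy)).symm ▸ hαQ)
  rw [← hh'.injOn (hQN hP'S hy) (le_normalizerIn hP'S hfxP) hye]
  exact hy

theorem isNormal_agemoCentre (hS : IsPGroup p S) (hF : F.IsSaturated p)
    (hcl : Subgroup.lowerCentralSeries S (n * (p - 1) + 1) = ⊥) :
    F.IsNormal (agemoCentre p n S) := by
  refine FusionSysNormal.isNormal_of_le_autGroup hS hF fun P hP => ?_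
  have hPS : P ≤ S := by
    rcases hP with rfl | hP
    · exact le_rfl
    · exact hP.1.1
  have hQP : agemoCentre p n S ≤ P := by
    rcases hP with rfl | hP
    · exact agemoCentre_le.trans inf_le_left
    · exact fun y hy => FusionSysAlperin.centralizerIn_le_of_centric hP.1
        ⟨(agemoCentre_le hy).1, fun a ha => (agemoCentre_le hy).2 a (hPS ha)⟩
  exact ⟨hQP, fun α hα x hx => apply_mem hS hF hcl P _ ((mem_autGroup hPS).mp hα) x hx (hQP hx)⟩

end Cfsg.Agent.AgemoCentreNormal
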