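import Mathlib

/-!
The scalar equations of the exceptional character argument for `3^3 : 2^2`.
-/

set_option autoImplicit false

namespace Cfsg.Agent.Alg108

/-- `a²/b + c²/d - (a+c)²/(b+d)`. -/
noncomputable def defect (a b c d : ℂ) : ℂ := a ^ 2 / b + c ^ 2 / d - (a + c) ^ 2 / (b + d)

lemma defect_eq (a b c d : ℂ) (hb : b ≠ 0) (hd : d ≠ 0) (hbd : b + d ≠ 0) :
    defect a b c d = (a / b - c / d) ^ 2 * (b * d / (b + d)) := by
  unfold defect; field_simp; ring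

/-- A class meeting the involutions in one type. -/
theorem singleton (uj uk um lj lk lm κ : ℂ) (hκ : κ ≠ 0) (hj : lj ≠ 0) (hk : lk ≠ 0) (hm : lm ≠ 0)
    (hj1 : 1 + lj ≠ 0) (hk1 : 1 + lk ≠ 0) (hm1 : 1 + lm ≠ 0) (hkm : lk + lm ≠ 0) (hjm : lj + lm ≠ 0)
    (Aj : defect 1 1 uj lj = 0) (Ak : defect 1 1 uk lk = κ) (Am : defect 1 1 um lm = κ)
    (Bj : defect uk lk um lm = 0) (Bk : defect uj lj um lm = κ) : lj = 1 := by
  rw [defect_eq _ _ _ _ one_ne_zero hj hj1] at Aj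
  rw [defect_eq _ _ _ _ one_ne_zero hk hk1] at Ak
  rw [defect_eq _ _ _ _ one_ne_zero hm hm1] at Am
  rw [defect_eq _ _ _ _ hk hm hkm] at Bj
  rw [defect_eq _ _ _ _ hj hm hjm] at Bk
  simp only [div_one, one_mul] at Aj Ak Am
  set a := uj / lj
  set b := uk / lk
  set c := um / lm
  have ha : a = 1 := by
    rcases mul_eq_zero.mp Aj with h | h
    · rw [pow_eq_zero_iff two_ne_zero, sub_eq_zero] at h; exact h.symm
    · exact absurd h (div_ne_zero hj hj1)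
  have hbc : b = c := by
    rcases mul_eq_zero.mp Bj with h | h
    · rw [pow_eq_zero_iff two_ne_zero, sub_eq_zero] at h; exact h
    · exact absurd h (div_ne_zero (mul_ne_zero hk hm) hkm)
  rw [ha] at Bk
  have hsq : (1 - c) ^ 2 ≠ 0 := fun h => hκ (by rw [← Bk, h, zero_mul])
  have h : lj * lm / (lj + lm) = lm / (1 + lm) := mul_left_cancel₀ hsq (Bk.trans Am.symm)
  rw [div_eq_div_iff hjm hm1] at h
  have : lm * lm * (lj - 1) = 0 := by linear_combination h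
  rcases mul_eq_zero.mp this with h' | h'
  · exact absurd h' (mul_ne_zero hm hm)
  · exact sub_eq_zero.mp h'

/-- A class meeting the involutions in two types `k`, `m`, when the third has `lj = 1`. -/
theorem pair (uj uk um lj lk lm κ : ℂ) (hκ : κ ≠ 0) (hlj : lj = 1) (huj : uj * uj = 1)
    (hk : lk ≠ 0) (hm : lm ≠ 0) (hk1 : 1 + lk ≠ 0) (hm1 : 1 + lm ≠ 0) (hkm : lk + lm ≠ 0)
    (Aj : defect 1 1 uj lj = 4 * κ) (Ak : defect 1 1 uk lk = κ) (Am : defect 1 1 um lm = κ)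
    (Bj : defect uk lk um lm = 0) (Bk : defect uj lj um lm = κ) (Bm : defect uj lj uk lk = κ) :
    lk = 1 ∧ lm = 1 := by
  subst hlj
  rw [defect_eq _ _ _ _ one_ne_zero hk hk1] at Ak
  rw [defect_eq _ _ _ _ one_ne_zero hm hm1] at Am
  rw [defect_eq _ _ _ _ hk hm hkm] at Bj
  rw [defect_eq _ _ _ _ one_ne_zero hm hm1] at Bk
  rw [defect_eq _ _ _ _ one_ne_zero hk hk1] at Bm
  simp only [div_one, one_mul] at Ak Am Bk Bm
  have huj' : uj = -1 := by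
    rcases mul_self_eq_one_iff.mp huj with h | h
    · exfalso
      rw [h] at Aj
      unfold defect at Aj
      norm_num at Aj
      exact hκ Aj
    · exact h
  rw [huj'] at Aj Bk Bm
  have hκ' : κ = 1 / 2 := by
    unfold defect at Aj
    norm_num at Aj
    linear_combination (-1 / 4 : ℂ) * Aj
  have key : ∀ p l : ℂ, l ≠ 0 → 1 + l ≠ 0 → (1 - p) ^ 2 * (l / (1 + l)) = κ →
      (-1 - p) ^ 2 * (l / (1 + l)) = κ → l = 1 := by
    intro p l hl hl1 h1 h2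
    have h3 := mul_right_cancel₀ (div_ne_zero hl hl1) (h1.trans h2.symm)
    have hp : p = 0 := by linear_combination (-1 / 4 : ℂ) * h3
    rw [hp, hκ'] at h1
    rw [sub_zero, one_pow, one_mul, div_eq_div_iff hl1 two_ne_zero] at h1
    linear_combination h1
  exact ⟨key _ _ hk hk1 Ak Bm, key _ _ hm hm1 Am Bk⟩

/-- A class meeting the involutions in all three types. -/
theorem triple (u₁ u₂ u₃ l₁ l₂ l₃ κ : ℂ) (hκ : κ ≠ 0) (h₁ : l₁ ≠ 0) (h₂ : l₂ ≠ 0) (h₃ : l₃ ≠ 0)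
    (e₁ : 1 + l₁ ≠ 0) (e₂ : 1 + l₂ ≠ 0) (e₃ : 1 + l₃ ≠ 0) (h12 : l₁ + l₂ ≠ 0) (h13 : l₁ + l₃ ≠ 0)
    (hs : 1 + l₁ + l₂ + l₃ ≠ 0)
    (A₁ : defect 1 1 u₁ l₁ = 4 * κ) (A₂ : defect 1 1 u₂ l₂ = 4 * κ) (A₃ : defect 1 1 u₃ l₃ = 4 * κ)
    (B₃ : defect u₁ l₁ u₂ l₂ = 0) (B₂ : defect u₁ l₁ u₃ l₃ = 0)
    (Γ : 1 + u₁ ^ 2 / l₁ + u₂ ^ 2 / l₂ + u₃ ^ 2 / l₃ - (1 + u₁ + u₂ + u₃) ^ 2 / (1 + l₁ + l₂ + l₃) =
      6 * κ) : l₁ = 1 ∧ l₂ = 1 ∧ l₃ = 1 := by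
  rw [defect_eq _ _ _ _ one_ne_zero h₁ e₁] at A₁
  rw [defect_eq _ _ _ _ one_ne_zero h₂ e₂] at A₂
  rw [defect_eq _ _ _ _ one_ne_zero h₃ e₃] at A₃
  rw [defect_eq _ _ _ _ h₁ h₂ h12] at B₃
  rw [defect_eq _ _ _ _ h₁ h₃ h13] at B₂
  simp only [div_one, one_mul] at A₁ A₂ A₃
  obtain ⟨a, rfl⟩ : ∃ a, u₁ = a * l₁ := ⟨u₁ / l₁, (div_mul_cancel₀ u₁ h₁).symm⟩
  obtain ⟨b, rfl⟩ : ∃ b, u₂ = b * l₂ := ⟨u₂ / l₂, (div_mul_cancel₀ u₂ h₂).symm⟩
  obtain ⟨c, rfl⟩ : ∃ c, u₃ = c * l₃ := ⟨u₃ / l₃, (div_mul_cancel₀ u₃ h₃).symm⟩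
  simp only [mul_div_assoc, div_self h₁, div_self h₂, div_self h₃, mul_one] at A₁ A₂ A₃ B₃ B₂
  obtain rfl : a = b := by
    rcases mul_eq_zero.mp B₃ with h | h
    · rw [pow_eq_zero_iff two_ne_zero, sub_eq_zero] at h; exact h
    · exact absurd h (by rw [← mul_div_assoc]; exact div_ne_zero (mul_ne_zero h₁ h₂) h12)
  obtain rfl : a = c := by
    rcases mul_eq_zero.mp B₂ with h | h
    · rw [pow_eq_zero_iff two_ne_zero, sub_eq_zero] at h; exact h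
    · exact absurd h (by rw [← mul_div_assoc]; exact div_ne_zero (mul_ne_zero h₁ h₃) h13)
  have hA : (1 - a) ^ 2 ≠ 0 := fun h => hκ (by
    rw [h, zero_mul] at A₁
    linear_combination (-1 / 4 : ℂ) * A₁)
  have heq : ∀ l : ℂ, 1 + l ≠ 0 → (1 - a) ^ 2 * (l / (1 + l)) = 4 * κ → l = l₁ := by
    intro l hl h
    have h' := mul_left_cancel₀ hA (h.trans A₁.symm)
    rw [div_eq_div_iff hl e₁] at h'
    linear_combination h'
  have q₂ := heq l₂ e₂ A₂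
  have q₃ := heq l₃ e₃ A₃
  rw [q₂, q₃] at hs Γ ⊢
  have hΓ : (1 - a) ^ 2 * (3 * l₁ / (1 + l₁ + l₁ + l₁)) = 6 * κ := by
    rw [← Γ]
    field_simp
    ring
  have hr : 2 * (3 * l₁ / (1 + l₁ + l₁ + l₁)) = 3 * (l₁ / (1 + l₁)) := by
    apply mul_left_cancel₀ hA
    linear_combination 2 * hΓ - 3 * A₁
  rw [← mul_div_assoc, ← mul_div_assoc, div_eq_div_iff hs e₁] at hr
  have : 3 * l₁ * (1 - l₁) = 0 := by linear_combination hr
  rcases mul_eq_zero.mp this with h | h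
  · exact absurd h (mul_ne_zero three_ne_zero h₁)
  · refine ⟨?_, ?_, ?_⟩ <;> linear_combination -h

end Cfsg.Agent.Alg108
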