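import Mathlib

/-!
The algebra of the class equations for `3^3 : S_4`.
-/

set_option autoImplicit false

namespace Cfsg.Agent.Alg648

theorem core (y z w Y a e A f : ℂ) (hy : y ≠ 0) (hz : z ≠ 0) (hw : w ≠ 0) (hY0 : Y ≠ 0)
    (hY : Y = y + z + w) (h6 : 1 + y + z ≠ 0) (h8 : 1 + Y + w ≠ 0)
    (E1 : e ^ 2 / y - e ^ 2 / Y = 8 / 3)
    (E2 : a ^ 2 + e ^ 2 / y - (a + e) ^ 2 / (1 + y + z) = 8 / 3)
    (E3 : a ^ 2 + e ^ 2 / Y - (a + e) ^ 2 / (1 + Y + w) = 4 / 3)
    (E4 : f ^ 2 / z + f ^ 2 / w = 2 / 3)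
    (E5 : A ^ 2 + f ^ 2 / z - (A + f) ^ 2 / (1 + y + z) = 4 / 3)
    (E6 : A ^ 2 + f ^ 2 / w - (A - f) ^ 2 / (1 + Y + w) = 1)
    (E7 : a * A - (a + e) * (A + f) / (1 + y + z) = 4 / 3)
    (E8 : a * A - (a + e) * (A - f) / (1 + Y + w) = 2 / 3) : w = 3 := by
  set P := a + e with hP
  set L := 1 + Y with hL
  have hyz : y + z = Y - w := by rw [hY]; ring
  have e6 : 1 + y + z = L - w := by rw [hL, hY]; ring
  have e8 : 1 + Y + w = L + w := rfl
  rw [e6] at h6 E2 E5 E7
  rw [e8] at h8 E3 E6 E8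
  -- basic consequences
  have F9 : a ^ 2 + e ^ 2 / Y = P ^ 2 / (L - w) := by linear_combination E2 - E1
  have FP : 3 * w * P ^ 2 = 2 * (L - w) * (L + w) := by
    have h : P ^ 2 / (L - w) - P ^ 2 / (L + w) = 4 / 3 := by linear_combination E3 - F9
    field_simp at h
    linear_combination h / 2
  have hP0 : P ≠ 0 := by
    intro h
    rw [h] at FP
    have : (2 : ℂ) * (L - w) * (L + w) ≠ 0 := mul_ne_zero (mul_ne_zero two_ne_zero h6) h8
    exact this (by linear_combination -FP)
  have Ff : A * w + f * L = -(w * P / 2) := by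
    have h : P * (A - f) / (L + w) - P * (A + f) / (L - w) = 2 / 3 := by linear_combination E7 - E8
    field_simp at h
    apply mul_left_cancel₀ hP0
    linear_combination (-1 / 6) * h + (1 / 6) * FP
  have Fsq : (A * w + f * L) ^ 2 = w * ((L - w) * (L + w)) / 6 := by
    rw [Ff]; linear_combination (w / 12) * FP
  have Fsum : 2 * L * (A ^ 2 + f ^ 2) + 4 * w * A * f =
      (L - w) * (L + w) * (2 * A ^ 2 - 5 / 3) := by
    have h : (A + f) ^ 2 / (L - w) + (A - f) ^ 2 / (L + w) = 2 * A ^ 2 - 5 / 3 := by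
      linear_combination -E5 - E6 + E4
    field_simp at h
    linear_combination h / 3
  have FA : 6 * Y * A ^ 2 = 5 * L + w := by
    apply mul_left_cancel₀ (mul_ne_zero h6 h8)
    rw [hL] at *
    linear_combination 6 * Fsq - 3 * (1 + Y) * Fsum
  -- the case `L = 0` is impossible
  have hL0 : L ≠ 0 := by
    intro h
    rw [h] at FP FA Ff E6 E8 F9
    have hYm : Y = -1 := by rw [hL] at h; linear_combination h
    rw [hYm] at FA F9
    have hP2 : P = -2 * A := by
      apply mul_left_cancel₀ hw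
      linear_combination 2 * Ff
    have hA2 : A ^ 2 = -w / 6 := by linear_combination -FA / 6
    simp only [zero_add, zero_sub, div_neg, neg_div] at F9 E6 E8
    field_simp at F9 E6 E8
    have hae : (a - e) * w = -P := by
      apply mul_left_cancel₀ hP0
      rw [hP]; rw [hP] at F9
      linear_combination F9
    have ha : 2 * a * w = P * w - P := by rw [hP] at hae ⊢; linear_combination hae
    have haA : 6 * (a * A) = w - 1 := by
      apply mul_left_cancel₀ hw
      linear_combination 3 * A * ha + 3 * A * (w - 1) * hP2 - 6 * (w - 1) * hA2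
    have hAf : 12 * (A * f) = w * (w - 7) := by
      rw [hP2] at E8
      linear_combination w * haA - 2 * E8 + 12 * hA2
    exact absurd (show (1 : ℂ) = -1 by
      apply mul_left_cancel₀ hw
      linear_combination (-1) * E6 + (w - 1) * hA2 + (1 / 6) * hAf) (by norm_num)
  have Faa : 3 * (L * a - P) * A = 3 * L - w := by
    have h7 : (a * A - 4 / 3) * (L - w) = P * (A + f) := by
      field_simp at E7
      linear_combination E7 / 3
    apply mul_left_cancel₀ h6
    linear_combination 3 * L * h7 + 3 * P * Ff - (1 / 2) * FP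
  have Fa2 : 3 * (L * a - P) ^ 2 = 2 * Y * (L + w) := by
    have h : (a ^ 2 * Y + e ^ 2) * (L - w) = P ^ 2 * Y := by
      field_simp at F9
      linear_combination F9
    have he : e = P - a := by rw [hP]; ring
    rw [he] at h
    apply mul_left_cancel₀ h6
    rw [hL] at *
    linear_combination 3 * (1 + Y) * h + Y * FP
  have FL : L = 3 * w := by
    have h : (5 * L + w) * (L + w) = (3 * L - w) ^ 2 := by
      rw [← FA, ← Faa]
      linear_combination (-3 * A ^ 2) * Fa2
    apply mul_left_cancel₀ hL0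
    linear_combination (-1 / 4) * h
  -- one parameter
  have hA0 : A ≠ 0 := by
    intro h
    rw [h] at FA
    apply hw
    rw [FL] at FA
    linear_combination -FA / 16
  obtain ⟨q, hq⟩ : ∃ q, P = 4 * q * A := ⟨P / (4 * A), by field_simp⟩
  have FYA : 3 * Y * A ^ 2 = 8 * w := by rw [FL] at FA; linear_combination FA / 2
  have hYq : Y = 8 * q ^ 2 := by
    rw [FL, hq] at FP
    apply mul_left_cancel₀ (mul_ne_zero hw hw)
    linear_combination (-Y / 16) * FP + q ^ 2 * w * FYA
  have hq0 : q ≠ 0 := by rintro rfl; apply hY0; rw [hYq]; ring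
  have hwq : 3 * w = 1 + 8 * q ^ 2 := by rw [← FL, hL, hYq]
  have hAq : 3 * q ^ 2 * A ^ 2 = w := by rw [hYq] at FYA; linear_combination FYA / 8
  have haq : 3 * w * a = 4 * q * A * (1 + 2 * q) := by
    rw [FL, hq] at Faa
    apply mul_left_cancel₀ hA0
    linear_combination Faa / 3 - (8 / 3) * hAq
  have heq : 3 * w * e = 8 * q ^ 2 * A * (4 * q - 1) := by
    linear_combination (-3 * w) * hP + 3 * w * hq - haq + 4 * q * A * hwq
  have hfq : 3 * f = -(A * (1 + 2 * q)) := by
    rw [FL, hq] at Ff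
    apply mul_left_cancel₀ hw
    linear_combination Ff
  have hy2 : y * (40 * q ^ 2 - 8 * q + 4) = 8 * q ^ 2 * (4 * q - 1) ^ 2 := by
    have h : e ^ 2 * (Y - y) = 8 / 3 * (y * Y) := by
      field_simp at E1
      linear_combination E1 / 3
    have he2 : 27 * w * e ^ 2 = 64 * q ^ 2 * (4 * q - 1) ^ 2 := by
      apply mul_left_cancel₀ hw
      linear_combination (3 * (3 * w * e + 8 * q ^ 2 * A * (4 * q - 1))) * heq +
        64 * q ^ 2 * (4 * q - 1) ^ 2 * hAq
    apply mul_left_cancel₀ (pow_ne_zero 2 hq0)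
    linear_combination (-27 * w / 64) * h + ((Y - y) / 64) * he2 +
      (q ^ 2 * (4 * q - 1) ^ 2 - (9 / 8) * y * w) * hYq - 3 * q ^ 2 * y * hwq
  have hf2 : 27 * q ^ 2 * f ^ 2 = (1 + 2 * q) ^ 2 * w := by
    linear_combination 3 * q ^ 2 * (3 * f - A * (1 + 2 * q)) * hfq + (1 + 2 * q) ^ 2 * hAq
  have hz2 : z * (18 * q ^ 2 - (1 + 2 * q) ^ 2) = (1 + 2 * q) ^ 2 * w := by
    have h : f ^ 2 * (z + w) = 2 / 3 * (z * w) := by
      field_simp at E4
      linear_combination E4 / 3
    apply mul_left_cancel₀ hw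
    linear_combination (-27 * q ^ 2) * h + (z + w) * hf2
  have hpol : q ^ 2 * (q - 1) * (2 * q + 1) * (1 + 8 * q ^ 2) = 0 := by
    linear_combination (1 / 48) * (18 * q ^ 2 - (1 + 2 * q) ^ 2) * hy2 +
      (1 / 48) * (40 * q ^ 2 - 8 * q + 4) * hz2 -
      (1 / 48) * (40 * q ^ 2 - 8 * q + 4) * (18 * q ^ 2 - (1 + 2 * q) ^ 2) * hyz -
      (1 / 48) * (40 * q ^ 2 - 8 * q + 4) * (18 * q ^ 2 - (1 + 2 * q) ^ 2) * hYq +
      (1 / 144) * (40 * q ^ 2 - 8 * q + 4) * (18 * q ^ 2) * hwq
  rcases mul_eq_zero.mp hpol with h | h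
  · rcases mul_eq_zero.mp h with h | h
    · rcases mul_eq_zero.mp h with h | h
      · exact absurd (pow_eq_zero_iff (two_ne_zero) |>.mp h) hq0
      · rw [sub_eq_zero] at h
        rw [h] at hwq
        linear_combination hwq / 3
    · exfalso
      have hf0 : f = 0 := by
        have : 3 * f = 0 := by linear_combination hfq - A * h
        exact (mul_eq_zero.mp this).resolve_left three_ne_zero
      rw [hf0] at E4
      norm_num at E4
  · exact absurd (by linear_combination hwq + h) (mul_ne_zero three_ne_zero hw)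

end Cfsg.Agent.Alg648
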