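import Mathlib
import Cfsg.Agent.Lib.Alg648

/-!
From the class equations for `3^3 : S_4` to a character of degree three.
-/

set_option autoImplicit false

namespace Cfsg.Agent.Alg648b

/-- Patterns `2, 3, 3', a₁, a₀, c₁, b₊`; rows `3+3'-a₁`, `c₁-a₁-2`, `1+2+3-a₀`, `b₊-c₁-1-3'`. -/
theorem degree_three (l u v : Fin 7 → ℂ) (k0 k1 : ℂ) (hk0 : k0 ≠ 0) (hk1 : k1 ≠ 0)
    (hl : ∀ p, l p ≠ 0)
    (l3 : l 3 = l 1 + l 2) (l5 : l 5 = l 0 + l 3) (l4 : l 4 = 1 + l 0 + l 1)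
    (l6 : l 6 = 1 + l 2 + l 5)
    (u3 : u 3 = u 1 + u 2) (u5 : u 5 = u 0 + u 3) (u4 : u 4 = 1 + u 0 + u 1)
    (u6 : u 6 = 1 + u 2 + u 5)
    (v3 : v 3 = v 1 + v 2) (v5 : v 5 = v 0 + v 3) (v4 : v 4 = 1 + v 0 + v 1)
    (v6 : v 6 = 1 + v 2 + v 5)
    (a0 : u 1 ^ 2 / l 1 + u 2 ^ 2 / l 2 - u 3 ^ 2 / l 3 = 0)
    (a1 : -(u 0 ^ 2 / l 0) - u 3 ^ 2 / l 3 + u 5 ^ 2 / l 5 = -(8 / 3) * k0 ^ 2)
    (a2 : 1 + u 0 ^ 2 / l 0 + u 1 ^ 2 / l 1 - u 4 ^ 2 / l 4 = 8 / 3 * k0 ^ 2)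
    (a3 : -1 - u 2 ^ 2 / l 2 - u 5 ^ 2 / l 5 + u 6 ^ 2 / l 6 = -(4 / 3) * k0 ^ 2)
    (b0 : v 1 ^ 2 / l 1 + v 2 ^ 2 / l 2 - v 3 ^ 2 / l 3 = 2 / 3 * k1 ^ 2)
    (b1 : -(v 0 ^ 2 / l 0) - v 3 ^ 2 / l 3 + v 5 ^ 2 / l 5 = 0)
    (b2 : 1 + v 0 ^ 2 / l 0 + v 1 ^ 2 / l 1 - v 4 ^ 2 / l 4 = 4 / 3 * k1 ^ 2)
    (b3 : -1 - v 2 ^ 2 / l 2 - v 5 ^ 2 / l 5 + v 6 ^ 2 / l 6 = -(k1 ^ 2))
    (c2 : 1 + u 0 * v 0 / l 0 + u 1 * v 1 / l 1 - u 4 * v 4 / l 4 = 4 / 3 * (k0 * k1))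
    (c3 : -1 - u 2 * v 2 / l 2 - u 5 * v 5 / l 5 + u 6 * v 6 / l 6 = -(2 / 3) * (k0 * k1)) :
    l 2 = 3 := by
  have hy := hl 0
  have hz := hl 1
  have hw := hl 2
  have hS : l 1 + l 2 ≠ 0 := l3 ▸ hl 3
  have hY : l 5 ≠ 0 := hl 5
  have h6 : 1 + l 0 + l 1 ≠ 0 := l4 ▸ hl 4
  have h8 : 1 + l 5 + l 2 ≠ 0 := by
    rw [show 1 + l 5 + l 2 = l 6 by rw [l6]; ring]; exact hl 6
  have hY5 : l 5 = l 0 + l 1 + l 2 := by rw [l5, l3]; ring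
  -- the shifts
  obtain ⟨ρ, hρ1, hρ2⟩ : ∃ ρ, u 1 = ρ * l 1 ∧ u 2 = ρ * l 2 := by
    refine ⟨u 1 / l 1, by field_simp, ?_⟩
    rw [u3, l3] at a0
    field_simp at a0
    have h : (u 1 * l 2 - u 2 * l 1) ^ 2 = 0 := by linear_combination a0
    have h' := pow_eq_zero_iff (two_ne_zero) |>.mp h
    field_simp
    linear_combination -h'
  have hρ3 : u 3 = ρ * (l 1 + l 2) := by rw [u3, hρ1, hρ2]; ring
  obtain ⟨σ, hσ0, hσ3⟩ : ∃ σ, v 0 = σ * l 0 ∧ v 3 = σ * l 3 := by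
    refine ⟨v 0 / l 0, by field_simp, ?_⟩
    rw [v5] at b1
    have h3 := hl 3
    rw [l5] at b1
    have hYY : l 0 + l 3 ≠ 0 := l5 ▸ hY
    field_simp at b1
    have h : (v 0 * l 3 - v 3 * l 0) ^ 2 = 0 := by linear_combination -b1
    have h' := pow_eq_zero_iff (two_ne_zero) |>.mp h
    field_simp
    linear_combination -h'
  have hv2 : v 2 = σ * (l 1 + l 2) - v 1 := by rw [← l3, ← hσ3, v3]; ring
  -- normalised unknowns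
  obtain ⟨a, ha'⟩ : ∃ a, 1 = k0 * a + ρ := ⟨(1 - ρ) / k0, by field_simp; ring⟩
  obtain ⟨e, he'⟩ : ∃ e, u 0 = k0 * e + ρ * l 0 := ⟨(u 0 - ρ * l 0) / k0, by field_simp; ring⟩
  obtain ⟨A, hA'⟩ : ∃ A, 1 = k1 * A + σ := ⟨(1 - σ) / k1, by field_simp; ring⟩
  obtain ⟨f, hf'⟩ : ∃ f, v 1 = k1 * f + σ * l 1 := ⟨(v 1 - σ * l 1) / k1, by field_simp; ring⟩
  have hv2' : v 2 = -(k1 * f) + σ * l 2 := by rw [hv2, hf']; ring
  have hu5 : u 5 = k0 * e + ρ * l 5 := by rw [u5, hρ3, he', hY5]; ring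
  have hv5 : v 5 = σ * l 5 := by rw [v5, hσ0, hσ3, l5]; ring
  have hu4 : u 4 = k0 * (a + e) + ρ * (1 + l 0 + l 1) := by
    rw [u4, he', hρ1]; linear_combination ha'
  have hu6 : u 6 = k0 * (a + e) + ρ * (1 + l 5 + l 2) := by
    rw [u6, hu5, hρ2]; linear_combination ha'
  have hv4 : v 4 = k1 * (A + f) + σ * (1 + l 0 + l 1) := by
    rw [v4, hσ0, hf']; linear_combination hA'
  have hv6 : v 6 = k1 * (A - f) + σ * (1 + l 5 + l 2) := by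
    rw [v6, hv5, hv2']; linear_combination hA'
  have l4' := l4
  have l6' : l 6 = 1 + l 5 + l 2 := by rw [l6]; ring
  have hρA : ρ = 1 - k0 * a := by linear_combination -ha'
  have hσA : σ = 1 - k1 * A := by linear_combination -hA'
  refine Alg648.core (l 0) (l 1) (l 2) (l 5) a e A f hy hz hw hY hY5 h6 h8 ?_ ?_ ?_ ?_ ?_ ?_ ?_ ?_
  · rw [hρ3, hu5, he', l3] at a1
    field_simp at a1 ⊢
    rw [hY5] at a1 ⊢
    apply mul_left_cancel₀ (pow_ne_zero 2 hk0)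
    linear_combination (-1) * a1
  · rw [hu4, hρ1, he', l4'] at a2
    rw [hρA] at a2
    field_simp at a2 ⊢
    apply mul_left_cancel₀ (pow_ne_zero 2 hk0)
    linear_combination a2
  · rw [hu6, hρ2, hu5, l6'] at a3
    rw [hρA] at a3
    field_simp at a3 ⊢
    apply mul_left_cancel₀ (pow_ne_zero 2 hk0)
    linear_combination -a3
  · rw [hσ3, hf', hv2', l3] at b0
    field_simp at b0 ⊢
    apply mul_left_cancel₀ (pow_ne_zero 2 hk1)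
    linear_combination b0
  · rw [hv4, hσ0, hf', l4'] at b2
    rw [hσA] at b2
    field_simp at b2 ⊢
    apply mul_left_cancel₀ (pow_ne_zero 2 hk1)
    linear_combination b2
  · rw [hv6, hv2', hv5, l6'] at b3
    rw [hσA] at b3
    field_simp at b3 ⊢
    apply mul_left_cancel₀ (pow_ne_zero 2 hk1)
    linear_combination -b3
  · rw [hu4, hv4, hρ1, hσ0, he', hf', l4'] at c2
    rw [hρA, hσA] at c2
    field_simp at c2 ⊢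
    apply mul_left_cancel₀ (mul_ne_zero hk0 hk1)
    linear_combination c2
  · rw [hu6, hv6, hρ2, hv2', hu5, hv5, l6'] at c3
    rw [hρA, hσA] at c3
    field_simp at c3 ⊢
    apply mul_left_cancel₀ (mul_ne_zero hk0 hk1)
    linear_combination -c3

end Cfsg.Agent.Alg648b
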