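import Mathlib
import Cfsg.Prelude.Def_Transfer

namespace Cfsg.Agent.BurnsideSmall

open Subgroup

/-- An automorphism of prime order `q` of a 2-group of order at most 8 has `q ∈ {2,3,7}`. -/
theorem aut_prime_order {P : Type*} [Group P] [Finite P] (hle : Nat.card P ∣ 8) (φ : MulAut P)
    {q : ℕ} (hq : q.Prime) (hφ : orderOf φ = q) : q = 2 ∨ q = 3 ∨ q = 7 := by
  have := Fact.mk hq
  let F : Subgroup P := φ.toMonoidHom.eqLocus (MonoidHom.id P)
  have hne : F ≠ ⊤ := by
    intro h
    have : φ = 1 := by
      ext x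
      have hx : x ∈ F := h ▸ mem_top x
      exact hx
    rw [this, orderOf_one] at hφ
    exact hq.one_lt.ne hφ
  have hZ : IsPGroup q (zpowers φ) := IsPGroup.of_card (n := 1) (by rw [Nat.card_zpowers, hφ, pow_one])
  have hmod := hZ.card_modEq_card_fixedPoints P
  have hfix : Nat.card (MulAction.fixedPoints (zpowers φ) P) = Nat.card F := by
    apply Nat.card_congr
    refine Equiv.subtypeEquivRight fun x => ?_
    constructor
    · intro hx
      exact hx ⟨φ, mem_zpowers φ⟩
    · intro hx ⟨ψ, hψ⟩
      obtain ⟨k, rfl⟩ := mem_zpowers_iff.mp hψ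
      have hs : φ ∈ MulAction.stabilizer (MulAut P) x := hx
      exact zpow_mem hs k
  rw [hfix] at hmod
  have hdvd : Nat.card F ∣ Nat.card P := card_subgroup_dvd_card F
  have hlt : Nat.card F < Nat.card P := by
    rcases (Nat.le_of_dvd Nat.card_pos hdvd).lt_or_eq with h | h
    · exact h
    · exact absurd (eq_top_of_card_eq F h) hne
  have hd : q ∣ Nat.card P - Nat.card F := (Nat.modEq_iff_dvd' hlt.le).mp hmod.symm
  have hP8 : Nat.card P ∈ Nat.divisors 8 := Nat.mem_divisors.mpr ⟨hle, by norm_num⟩
  have hF8 : Nat.card F ∈ Nat.divisors 8 := Nat.mem_divisors.mpr ⟨hdvd.trans hle, by norm_num⟩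
  have h8 : Nat.divisors 8 = {1, 2, 4, 8} := by decide
  rw [h8] at hP8 hF8
  simp only [Finset.mem_insert, Finset.mem_singleton] at hP8 hF8
  have hq8 : q ≤ 7 := by
    have := Nat.le_of_dvd (by omega) hd
    omega
  rcases hP8 with h | h | h | h <;> rcases hF8 with h' | h' | h' | h' <;>
    rw [h, h'] at hlt hd <;> (try omega) <;> revert hd hq <;> interval_cases q <;> decide

/-- Burnside's transfer criterion in the form used here. -/
theorem hasNormalPComplement_of_normalizer_le_centralizer {G : Type*} [Group G] [Finite G] {p : ℕ}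
    [Fact p.Prime] (P : Sylow p G)
    (h : normalizer (P : Set G) ≤ centralizer (P : Set G)) : Cfsg.HasNormalPComplement p G :=
  ⟨P, (MonoidHom.transferSylow P h).ker, inferInstance, MonoidHom.ker_transferSylow_isComplement' P h⟩

/-- An abelian Sylow 2-subgroup of order dividing 8 in a group with the relevant order conditions
gives a normal 2-complement. -/
theorem hasNormalPComplement_two {G : Type*} [Group G] [Finite G] (T : Sylow 2 G)
    [IsMulCommutative T] (h8 : Nat.card T ∣ 8)
    (hq : ∀ q : ℕ, q = 3 ∨ q = 7 → q ∣ Nat.card G →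
      ∀ φ : MulAut (T : Subgroup G), orderOf φ ≠ q) :
    Cfsg.HasNormalPComplement 2 G := by
  apply hasNormalPComplement_of_normalizer_le_centralizer T
  set f := (T : Subgroup G).normalizerMonoidHom with hf
  have hker := (T : Subgroup G).normalizerMonoidHom_ker
  suffices h : Nat.card f.range = 1 by
    have hk : f.ker = ⊤ := by
      rw [← index_eq_one, index_ker]; exact h
    rw [hf, hker, subgroupOf_eq_top] at hk
    exact hk
  by_contra hne
  obtain ⟨q, hqp, hqd⟩ := Nat.exists_prime_and_dvd hne
  have := Fact.mk hqp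
  obtain ⟨φ, hφ⟩ := exists_prime_orderOf_dvd_card' q hqd
  have hφ' : orderOf (φ : MulAut (T : Subgroup G)) = q := by rw [orderOf_coe]; exact hφ
  have hidx : q ∣ (T : Subgroup G).index := by
    have h1 : Nat.card f.range ∣ (T : Subgroup G).index := by
      rw [← index_ker, hf, hker]
      refine (index_dvd_of_le ?_).trans (relIndex_dvd_index_of_le le_normalizer)
      exact comap_mono (le_centralizer _)
    exact hqd.trans h1
  rcases aut_prime_order h8 _ hqp hφ' with rfl | rfl | rfl
  · exact T.not_dvd_index hidx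
  · exact hq 3 (Or.inl rfl) (hidx.trans (index_dvd_card _)) _ hφ'
  · exact hq 7 (Or.inr rfl) (hidx.trans (index_dvd_card _)) _ hφ'

end Cfsg.Agent.BurnsideSmall
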