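import Cfsg.Agent.Lib.StrongPEmb
import Cfsg.Agent.Lib.CoprimeGen
import Cfsg.Agent.Lib.CoprimeSZ
import Cfsg.Agent.Lib.LocalBasics
import Cfsg.Agent.Lib.TransferAlperin

/-!
# Groups whose Sylow graph is disconnected have a smallest normal subgroup of order divisible by `p`
-/

set_option autoImplicit false

namespace Cfsg.Agent.SylowChainNormal62

open Subgroup
open scoped Pointwise

variable {G : Type*} [Group G] [Finite G] {p : ℕ} [hp : Fact p.Prime]

/-- The elements carrying `S` to a Sylow subgroup in its own component. -/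
def comp (S : Sylow p G) : Subgroup G where
  carrier := {g | StrongPEmb.Reach p S (g • S)}
  one_mem' := by
    show StrongPEmb.Reach p S ((1 : G) • S)
    rw [one_smul]
    exact Relation.ReflTransGen.refl
  mul_mem' := fun {a b} ha hb => by
    show StrongPEmb.Reach p S ((a * b) • S)
    rw [mul_smul]
    exact ha.trans (hb.smul a)
  inv_mem' := fun {a} ha => by
    show StrongPEmb.Reach p S (a⁻¹ • S)
    have := (ha.smul a⁻¹).symm
    rwa [inv_smul_smul] at this

theorem mem_comp {S : Sylow p G} {g x : G} (hx : x ∈ (S : Subgroup G)) (hx1 : x ≠ 1)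
    (hgx : g⁻¹ * x * g ∈ (S : Subgroup G)) : g ∈ comp S := by
  refine Relation.ReflTransGen.single ?_
  intro h
  refine hx1 (mem_bot.mp (h ▸ mem_inf.mpr ⟨hx, ?_⟩))
  rw [TransferAlperin.smul_coe_eq_cj, TransferAlperin.mem_cj]
  exact hgx

theorem connected_of_comp_eq_top (S : Sylow p G) (h : comp S = ⊤) :
    Cfsg.IsSylowChainConnected p G := by
  rw [StrongPEmb.chainConnected_iff]
  have hall : ∀ A : Sylow p G, StrongPEmb.Reach p S A := fun A => by
    obtain ⟨g, rfl⟩ := MulAction.exists_smul_eq G S A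
    exact (h ▸ mem_top g : g ∈ comp S)
  exact fun A B => (hall A).symm.trans (hall B)

theorem sylow_inf_ne_bot (S : Sylow p G) {Y : Subgroup G} [Y.Normal] (hY : p ∣ Nat.card Y) :
    (S : Subgroup G) ⊓ Y ≠ ⊥ := by
  intro h
  refine StrongPEmb.not_dvd_relIndex_sylow S Y ?_
  rwa [← inf_relIndex_right, h, relIndex_bot_left]

theorem normalizer_le_comp (S : Sylow p G) {D : Subgroup G} (hD : D ≤ (S : Subgroup G))
    (hD1 : D ≠ ⊥) : normalizer (D : Set G) ≤ comp S := by
  intro g hg
  obtain ⟨x, hx, hx1⟩ := StrongPEmb.exists_mem_ne_one hD1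
  exact mem_comp (hD hx) hx1 (hD (((mem_normalizer_iff''.mp hg) x).mp hx))

/-- Two normal subgroups of order divisible by `p` meeting in a `p'`-group connect the Sylow graph. -/
theorem connected_of_two_normal {Y₁ Y₂ : Subgroup G} [Y₁.Normal] [Y₂.Normal] (h1 : p ∣ Nat.card Y₁)
    (h2 : p ∣ Nat.card Y₂) (h12 : ¬ p ∣ Nat.card (Y₁ ⊓ Y₂ : Subgroup G)) :
    Cfsg.IsSylowChainConnected p G := by
  obtain ⟨S⟩ : Nonempty (Sylow p G) := inferInstance
  refine connected_of_comp_eq_top S (eq_top_iff.mpr ?_)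
  set W := Y₁ ⊓ Y₂ with hW
  set P₁ := (S : Subgroup G) ⊓ Y₁ with hP₁
  set P₂ := (S : Subgroup G) ⊓ Y₂ with hP₂
  have hP₁1 : P₁ ≠ ⊥ := sylow_inf_ne_bot S h1
  have hP₂1 : P₂ ≠ ⊥ := sylow_inf_ne_bot S h2
  have hcopW : ∀ D : Subgroup G, IsPGroup p D → (Nat.card D).Coprime (Nat.card W) := by
    intro D hD
    obtain ⟨k, hk⟩ := IsPGroup.iff_card.mp hD
    exact hk ▸ (((Nat.Prime.coprime_iff_not_dvd hp.out).mpr h12).pow_left k)
  have hSW : ∀ x, x ∈ (S : Subgroup G) → x ∈ W → x = 1 := fun x hx hx' => by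
    have h := (disjoint_of_coprime_natCard (hcopW _ S.isPGroup')).eq_bot
    exact mem_bot.mp (h ▸ mem_inf.mpr ⟨hx, hx'⟩)
  -- `W` is generated by centralizers
  have hWK : W ≤ comp S := by
    obtain ⟨⟨e₁, he₁⟩, ho₁⟩ := exists_prime_orderOf_dvd_card' (G := P₁) p
      (((S.isPGroup'.to_le inf_le_left : IsPGroup p P₁)).card_eq_or_dvd.resolve_left
        fun h => hP₁1 (card_eq_one.mp h))
    obtain ⟨⟨e₂, he₂⟩, ho₂⟩ := exists_prime_orderOf_dvd_card' (G := P₂) p
      (((S.isPGroup'.to_le inf_le_left : IsPGroup p P₂)).card_eq_or_dvd.resolve_left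
        fun h => hP₂1 (card_eq_one.mp h))
    rw [Subgroup.orderOf_mk] at ho₁ ho₂
    have hc : e₁ * e₂ = e₂ * e₁ := by
      refine commutatorElement_eq_one_iff_mul_comm.mp (hSW _ ?_ ⟨?_, ?_⟩)
      · exact (S : Subgroup G).mul_mem ((S : Subgroup G).mul_mem ((S : Subgroup G).mul_mem he₁.1 he₂.1)
          ((S : Subgroup G).inv_mem he₁.1)) ((S : Subgroup G).inv_mem he₂.1)
      · rw [commutatorElement_def, mul_assoc, mul_assoc, ← mul_assoc e₂]
        exact Y₁.mul_mem he₁.2 ((inferInstance : Y₁.Normal).conj_mem _ (Y₁.inv_mem he₁.2) e₂)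
      · rw [commutatorElement_def]
        exact Y₂.mul_mem ((inferInstance : Y₂.Normal).conj_mem _ he₂.2 e₁) (Y₂.inv_mem he₂.2)
    set E := Subgroup.closure ({e₁, e₂} : Set G) with hE
    haveI : IsMulCommutative E := by
      refine Subgroup.isMulCommutative_closure ?_
      intro x hx y hy
      rcases hx with rfl | rfl <;> rcases hy with rfl | rfl <;>
        first
          | rfl
          | exact hc
          | exact hc.symm
    have hES : E ≤ (S : Subgroup G) := by
      rw [hE, closure_le]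
      rintro x (rfl | rfl)
      · exact he₁.1
      · exact he₂.1
    have hnc : ¬ IsCyclic E := by
      intro hcy
      haveI := hcy
      have m₁ : e₁ ∈ E := subset_closure (Or.inl rfl)
      have m₂ : e₂ ∈ E := subset_closure (Or.inr rfl)
      have hmem : e₂ ∈ Y₁ := by
        classical
        haveI := Fintype.ofFinite E
        have hle := IsCyclic.card_pow_eq_one_le (α := E) hp.out.pos
        have hsub : (zpowers (⟨e₁, m₁⟩ : E) : Set E).toFinset ⊆
            Finset.univ.filter (fun a : E => a ^ p = 1) := by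
          intro a ha
          rw [Set.mem_toFinset] at ha
          obtain ⟨k, rfl⟩ := mem_zpowers_iff.mp ha
          rw [Finset.mem_filter]
          refine ⟨Finset.mem_univ _, ?_⟩
          rw [← zpow_natCast, ← zpow_mul, mul_comm, zpow_mul, zpow_natCast]
          rw [show (⟨e₁, m₁⟩ : E) ^ p = 1 from Subtype.ext (by simp [← ho₁, pow_orderOf_eq_one]),
            one_zpow]
        have heq := Finset.eq_of_subset_of_card_le hsub (hle.trans (le_of_eq (by
          rw [← Nat.card_coe_set_eq _ |>.trans (Set.ncard_eq_toFinset_card' _), SetLike.coe_sort_coe,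
            Nat.card_zpowers, Subgroup.orderOf_mk, ho₁])))
        have h3 : (⟨e₂, m₂⟩ : E) ∈ zpowers (⟨e₁, m₁⟩ : E) := by
          have h5 : (⟨e₂, m₂⟩ : E) ∈ Finset.univ.filter (fun a : E => a ^ p = 1) := by
            rw [Finset.mem_filter]
            exact ⟨Finset.mem_univ _, Subtype.ext (by simp [← ho₂, pow_orderOf_eq_one])⟩
          rw [← heq, Set.mem_toFinset] at h5
          exact h5
        obtain ⟨k, hk⟩ := mem_zpowers_iff.mp h3
        rw [← show (e₁ : G) ^ k = e₂ from congrArg Subtype.val hk]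
        exact Y₁.zpow_mem he₁.2 k
      have h4 := hSW e₂ he₂.1 ⟨hmem, he₂.2⟩
      rw [h4, orderOf_one] at ho₂
      exact hp.out.one_lt.ne ho₂
    refine CoprimeGen.le_of_centralizers hnc le_normalizer_of_normal
      (hcopW E (S.isPGroup'.to_le hES)) ?_
    intro a ha ha1 w hw
    refine mem_comp (hES ha) ha1 ?_
    rw [mul_assoc, ← mem_centralizer_singleton_iff.mp hw.2, inv_mul_cancel_left]
    exact hES ha
  -- `Y₁ ≤ W N(P₂)`
  have hY₁ : Y₁ ≤ comp S := by
    intro y hy
    have hle : P₂.map (MulAut.conj y).toMonoidHom ≤ W ⊔ P₂ := by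
      rintro _ ⟨a, ha, rfl⟩
      have h3 : y * a * y⁻¹ * a⁻¹ ∈ W := by
        refine ⟨?_, Y₂.mul_mem ((inferInstance : Y₂.Normal).conj_mem a ha.2 y) (Y₂.inv_mem ha.2)⟩
        rw [show y * a * y⁻¹ * a⁻¹ = y * (a * y⁻¹ * a⁻¹) by group]
        exact Y₁.mul_mem hy ((inferInstance : Y₁.Normal).conj_mem _ (Y₁.inv_mem hy) a)
      show y * a * y⁻¹ ∈ W ⊔ P₂
      rw [show y * a * y⁻¹ = (y * a * y⁻¹ * a⁻¹) * a by group]
      exact mul_mem (mem_sup_left h3) (mem_sup_right ha)
    have hP₂p : IsPGroup p P₂ := S.isPGroup'.to_le inf_le_left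
    have hsol : Group.IsSolvable P₂ := by haveI := hP₂p.isNilpotent; infer_instance
    obtain ⟨r, hr, he⟩ := CoprimeSZ.exists_conj_of_card_eq (N := W)
      (le_normalizer_of_normal : P₂ ≤ normalizer (W : Set G)) (hcopW _ hP₂p) (Or.inl hsol) hle
      (card_map_of_injective (MulAut.conj y).injective)
    rw [CoprimeSZ.conj_smul_eq_map] at he
    have hn : r⁻¹ * y ∈ normalizer (P₂ : Set G) := by
      refine TransferAlperin.mem_normalizer_of_cj_eq ?_
      rw [TransferAlperin.cj_mul]
      change TransferAlperin.cj r⁻¹ (P₂.map (MulAut.conj y).toMonoidHom) = P₂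
      rw [← he]
      exact TransferAlperin.cj_inv_cj r P₂
    rw [show y = r * (r⁻¹ * y) by group]
    exact mul_mem (hWK hr) (normalizer_le_comp S inf_le_left hP₂1 hn)
  -- Frattini
  obtain ⟨Q, hQ⟩ := LocalBasics.exists_sylow_inf S Y₁
  have hQm : (Q : Subgroup Y₁).map Y₁.subtype = P₁ := by rw [hQ, subgroupOf_map_subtype]
  refine (Q.normalizer_sup_eq_top).ge.trans (sup_le ?_ hY₁)
  rw [hQm]
  exact normalizer_le_comp S inf_le_left hP₁1

omit hp in
theorem connected_map {H : Type*} [Group H] [Finite H] [Fact p.Prime] (e : G ≃* H)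
    (h : Cfsg.IsSylowChainConnected p G) : Cfsg.IsSylowChainConnected p H := by
  rw [StrongPEmb.chainConnected_iff] at h ⊢
  have hs : Function.Surjective e.toMonoidHom := e.surjective
  have hinj : Function.Injective e.toMonoidHom := e.injective
  have hs' : Function.Surjective e.symm.toMonoidHom := e.symm.surjective
  intro A B
  have hr : StrongPEmb.Reach p ((A.mapSurjective hs').mapSurjective hs)
      ((B.mapSurjective hs').mapSurjective hs) := by
    refine Relation.ReflTransGen.lift (fun C : Sylow p G => C.mapSurjective hs) (fun C D hCD => ?_)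
      (A.mapSurjective hs') (B.mapSurjective hs') (h _ _)
    show ((C.mapSurjective hs : Sylow p H) : Subgroup H) ⊓ (D.mapSurjective hs : Sylow p H) ≠ ⊥
    rwa [Sylow.coe_mapSurjective, Sylow.coe_mapSurjective, ← Subgroup.map_inf _ _ _ hinj, ne_eq,
      map_eq_bot_iff_of_injective _ hinj]
  have heq : ∀ C : Sylow p H, (C.mapSurjective hs').mapSurjective hs = C := by
    intro C
    apply Sylow.ext
    rw [Sylow.coe_mapSurjective, Sylow.coe_mapSurjective, Subgroup.map_map]
    convert Subgroup.map_id (C : Subgroup H)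
    ext x
    simp
  rwa [heq, heq] at hr

end Cfsg.Agent.SylowChainNormal62
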