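import Cfsg.Prelude.Def_SylowChains
import Cfsg.Agent.Lib.AlperinGoldschmidt62
import Cfsg.Agent.Lib.SylowChainNormal62

/-!
# The strong form of the Alperin–Goldschmidt theorem

Only the subgroups `H` whose quotient `N(H)/H` has a disconnected Sylow graph are needed, with factors in
`O^p` of the smallest normal subgroup over `H` of order divisible by `p`, and a last factor in `N(P)`.
-/

set_option autoImplicit false

namespace Cfsg.Agent.AlperinStrong62

open Subgroup Cfsg.Agent.TransferAlperin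

variable {G : Type*} [Group G] {p : ℕ}

/-- The stations. -/
def GoodH (p : ℕ) (P H : Subgroup G) : Prop :=
  H ≤ P ∧ ¬ p ∣ (P ⊓ normalizer (H : Set G)).relIndex (normalizer (H : Set G)) ∧
  P ⊓ centralizer (H : Set G) ≤ H ∧
  (Cfsg.pPrimePCore p ↥(normalizer (H : Set G))).map (normalizer (H : Set G)).subtype =
    H ⊔ centralizer (H : Set G) ∧
  ¬ Cfsg.IsSylowChainConnected p (↥(normalizer (H : Set G)) ⧸ H.subgroupOf (normalizer (H : Set G)))

/-- `X/H` is the smallest normal subgroup of `N(H)/H` of order divisible by `p`. -/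
def XP (p : ℕ) (H X : Subgroup G) : Prop :=
  H ≤ X ∧ X ≤ normalizer (H : Set G) ∧ (X.subgroupOf (normalizer (H : Set G))).Normal ∧
  p ∣ H.relIndex X ∧
  ∀ Y : Subgroup G, H ≤ Y → Y ≤ normalizer (H : Set G) →
    (Y.subgroupOf (normalizer (H : Set G))).Normal → p ∣ H.relIndex Y → X ≤ Y

/-- The conjugation isomorphism between two normalizers. -/
noncomputable def nEquiv (y : G) (H : Subgroup G) :
    ↥(normalizer (H : Set G)) ≃* ↥(normalizer ((cj y H : Subgroup G) : Set G)) :=
  ((normalizer (H : Set G)).equivMapOfInjective (MulAut.conj y).toMonoidHom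
    (MulAut.conj y).injective).trans (MulEquiv.subgroupCongr (cj_normalizer y H))

theorem coe_nEquiv (y : G) (H : Subgroup G) (x : ↥(normalizer (H : Set G))) :
    ((nEquiv y H x : ↥(normalizer ((cj y H : Subgroup G) : Set G))) : G) = y * x * y⁻¹ := rfl

theorem map_nEquiv (y : G) (H Y : Subgroup G) :
    (Y.subgroupOf (normalizer (H : Set G))).map (nEquiv y H).toMonoidHom =
      (cj y Y).subgroupOf (normalizer ((cj y H : Subgroup G) : Set G)) := by
  ext z
  rw [mem_subgroupOf, mem_map]
  constructor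
  · rintro ⟨x, hx, rfl⟩
    exact conj_mem_cj (mem_subgroupOf.mp hx)
  · intro hz
    refine ⟨(nEquiv y H).symm z, ?_, MulEquiv.apply_symm_apply _ _⟩
    have h1 := coe_nEquiv y H ((nEquiv y H).symm z)
    rw [MulEquiv.apply_symm_apply] at h1
    rw [mem_subgroupOf]
    have h2 := mem_cj.mp hz
    rw [h1] at h2
    simpa [mul_assoc] using h2

theorem mem_pPrimePCore_iff {H K : Type*} [Group H] [Group K] [Finite H] [Finite K] [Fact p.Prime]
    (e : H ≃* K) (x : H) : e x ∈ Cfsg.pPrimePCore p K ↔ x ∈ Cfsg.pPrimePCore p H := by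
  haveI := HallCore.pPrimeCore_normal p H
  haveI := HallCore.pPrimeCore_normal p K
  let f := QuotientGroup.congr (Cfsg.pPrimeCore p H) (Cfsg.pPrimeCore p K) e
    (HallCore.map_equiv_pPrimeCore e)
  show QuotientGroup.mk' (Cfsg.pPrimeCore p K) (e x) ∈ Cfsg.pCore p (K ⧸ Cfsg.pPrimeCore p K) ↔
    QuotientGroup.mk' (Cfsg.pPrimeCore p H) x ∈ Cfsg.pCore p (H ⧸ Cfsg.pPrimeCore p H)
  rw [← HallCore.map_equiv_pCore f, show QuotientGroup.mk' (Cfsg.pPrimeCore p K) (e x) =
    f.toMonoidHom (QuotientGroup.mk' (Cfsg.pPrimeCore p H) x) from rfl, mem_map_iff_mem (f := f.toMonoidHom) f.injective]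

theorem cj_eq_iff {y : G} {H K : Subgroup G} : cj y H = K ↔ H = cj y⁻¹ K := by
  constructor
  · rintro rfl
    rw [cj_inv_cj]
  · rintro rfl
    rw [cj_cj_inv]

theorem cj_centralizer (y : G) (H : Subgroup G) :
    cj y (centralizer (H : Set G)) = centralizer ((cj y H : Subgroup G) : Set G) := by
  refine le_antisymm (cj_centralizer_le y H) ?_
  have h1 := cj_mono y (cj_centralizer_le y⁻¹ (cj y H))
  rwa [cj_cj_inv, cj_inv_cj] at h1

/-- Transport of a station by an element of `N(P)`. -/
theorem GoodH.conj [Finite G] [Fact p.Prime] {P H : Subgroup G} {y : G} (hy : y ∈ normalizer (P : Set G))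
    (h : GoodH p P H) : GoodH p P (cj y H) := by
  obtain ⟨h1, h2, h3, h4, h5⟩ := h
  have hP : cj y P = P := cj_eq_self hy
  refine ⟨hP ▸ cj_mono y h1, ?_, ?_, ?_, ?_⟩
  · have h7 : P ⊓ cj y (normalizer (H : Set G)) = cj y (P ⊓ normalizer (H : Set G)) := by
      conv_lhs => rw [← hP]
      exact (Subgroup.map_inf _ _ _ (MulAut.conj y).injective).symm
    have h8 : (cj y (P ⊓ normalizer (H : Set G))).relIndex (cj y (normalizer (H : Set G))) =
        (P ⊓ normalizer (H : Set G)).relIndex (normalizer (H : Set G)) :=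
      relIndex_map_map_of_injective _ _ (MulAut.conj y).injective
    rwa [← cj_normalizer, h7, h8]
  · have h6 := cj_mono y h3
    rw [cj, Subgroup.map_inf _ _ _ (MulAut.conj y).injective, ← cj, ← cj, hP, cj_centralizer] at h6
    exact h6
  · have h6 := congrArg (cj y) h4
    rw [show cj y (H ⊔ centralizer (H : Set G)) = cj y H ⊔ cj y (centralizer (H : Set G)) from
      Subgroup.map_sup _ _ _, cj_centralizer] at h6
    refine Eq.trans ?_ h6
    refine Eq.trans ?_ (Subgroup.map_map _ _ _).symm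
    ext z
    simp only [mem_map]
    constructor
    · rintro ⟨w, hw, rfl⟩
      refine ⟨(nEquiv y H).symm w, (mem_pPrimePCore_iff (nEquiv y H) _).mp (by
        rwa [MulEquiv.apply_symm_apply]), ?_⟩
      have h7 := coe_nEquiv y H ((nEquiv y H).symm w)
      rw [MulEquiv.apply_symm_apply] at h7
      exact h7.symm
    · rintro ⟨w, hw, rfl⟩
      exact ⟨nEquiv y H w, (mem_pPrimePCore_iff (nEquiv y H) w).mpr hw, rfl⟩
  · intro hc
    haveI : (H.subgroupOf (normalizer (H : Set G))).Normal := normal_in_normalizer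
    haveI : ((cj y H).subgroupOf (normalizer ((cj y H : Subgroup G) : Set G))).Normal :=
      normal_in_normalizer
    exact h5 (SylowChainNormal62.connected_map
      (QuotientGroup.congr _ _ (nEquiv y H) (map_nEquiv y H H)).symm hc)

theorem XP.conj {H X : Subgroup G} (y : G) (h : XP p H X) : XP p (cj y H) (cj y X) := by
  obtain ⟨h1, h2, h3, h4, h5⟩ := h
  refine ⟨cj_mono y h1, ?_, ?_, ?_, fun Y hY1 hY2 hY3 hY4 => ?_⟩
  · rw [← cj_normalizer]
    exact cj_mono y h2
  · rw [← map_nEquiv]
    exact h3.map _ (nEquiv y H).surjective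
  · rwa [cj, cj, relIndex_map_map_of_injective _ _ (MulAut.conj y).injective]
  · have h6 := cj_mono y (h5 (cj y⁻¹ Y) (by simpa [cj_inv_cj] using cj_mono y⁻¹ hY1) ?_ ?_ ?_)
    · rwa [cj_cj_inv] at h6
    · have h7 := cj_mono y⁻¹ hY2
      rwa [cj_normalizer, cj_inv_cj] at h7
    · have h7 : ((Y.subgroupOf (normalizer ((cj y H : Subgroup G) : Set G))).map
          (nEquiv y H).symm.toMonoidHom).Normal := hY3.map _ (nEquiv y H).symm.surjective
      have h8 : ((cj y⁻¹ Y).subgroupOf (normalizer (H : Set G))).map (nEquiv y H).toMonoidHom =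
          Y.subgroupOf (normalizer ((cj y H : Subgroup G) : Set G)) := by
        rw [map_nEquiv, cj_cj_inv]
      rw [← h8, Subgroup.map_map, show (nEquiv y H).symm.toMonoidHom.comp (nEquiv y H).toMonoidHom =
        MonoidHom.id _ from MonoidHom.ext fun z => (nEquiv y H).symm_apply_apply z, Subgroup.map_id] at h7
      exact h7
    · have h7 : H.relIndex (cj y⁻¹ Y) = (cj y H).relIndex Y := by
        conv_rhs => rw [← cj_cj_inv y Y, cj, cj,
          relIndex_map_map_of_injective _ _ (MulAut.conj y).injective]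
      rwa [h7]

theorem residual_conj [Finite G] [Fact p.Prime] {X : Subgroup G} (y : G) {x : G}
    (hx : x ∈ (Cfsg.pResidual p ↥X).map X.subtype) :
    y * x * y⁻¹ ∈ (Cfsg.pResidual p ↥(cj y X)).map (cj y X).subtype := by
  obtain ⟨w, hw, rfl⟩ := hx
  exact ⟨(MulAut.conj y).toMonoidHom.subgroupMap X w,
    TransferPResidual.map_pResidual_le ((MulAut.conj y).toMonoidHom.subgroupMap X)
      (mem_map_of_mem _ hw), rfl⟩

/-- Conjugation by factors in `O^p(X)` of stations. -/
inductive Chain (p : ℕ) (P : Subgroup G) : Subgroup G → G → Prop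
  | refl (T : Subgroup G) : Chain p P T 1
  | cons (T H X : Subgroup G) (x g : G) : GoodH p P H → XP p H X →
      x ∈ (Cfsg.pResidual p ↥X).map X.subtype → T ≤ H →
      Chain p P (cj x⁻¹ T) g → Chain p P T (x * g)

theorem Chain.mono {P T : Subgroup G} {g : G} (h : Chain p P T g) :
    ∀ {S : Subgroup G}, S ≤ T → Chain p P S g := by
  induction h with
  | refl T => exact fun _ => Chain.refl _
  | cons T H X x g hH hX hx hT _ ih =>
    exact fun hS => Chain.cons _ H X x g hH hX hx (hS.trans hT) (ih (cj_mono _ hS))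

theorem Chain.trans {P T : Subgroup G} {g : G} (h : Chain p P T g) :
    ∀ {k : G}, Chain p P (cj g⁻¹ T) k → Chain p P T (g * k) := by
  induction h with
  | refl T => intro k hk; simpa [cj_one] using hk
  | cons T H X x g hH hX hx hT _ ih =>
    intro k hk
    rw [mul_assoc]
    exact Chain.cons _ H X x _ hH hX hx hT (ih (by rwa [← cj_mul, ← mul_inv_rev]))

theorem Chain.symm {P T : Subgroup G} {g : G} (h : Chain p P T g) :
    Chain p P (cj g⁻¹ T) g⁻¹ := by
  induction h with
  | refl T => simpa [cj_one] using Chain.refl (p := p) (P := P) T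
  | cons T H X x g hH hX hx hT _ ih =>
    rw [mul_inv_rev, cj_mul]
    refine ih.trans ?_
    rw [inv_inv, cj_cj_inv]
    have hxN : x⁻¹ ∈ normalizer (H : Set G) := inv_mem (hX.2.1 (map_subtype_le _ hx))
    have h1 := Chain.cons (cj x⁻¹ T) H X x⁻¹ 1 hH hX (inv_mem hx)
      ((cj_mono _ hT).trans (cj_eq_self hxN).le) (Chain.refl _)
    rwa [mul_one] at h1

theorem Chain.conj [Finite G] [Fact p.Prime] {P T : Subgroup G} {g y : G}
    (hy : y ∈ normalizer (P : Set G)) (h : Chain p P T g) :
    Chain p P (cj y T) (y * g * y⁻¹) := by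
  induction h with
  | refl T => rw [mul_one, mul_inv_cancel]; exact Chain.refl _
  | cons T H X x g hH hX hx hT _ ih =>
    rw [show y * (x * g) * y⁻¹ = (y * x * y⁻¹) * (y * g * y⁻¹) by group]
    refine Chain.cons _ _ _ _ _ (hH.conj hy) (hX.conj y) (residual_conj y hx) (cj_mono _ hT) ?_
    rwa [← cj_mul, show (y * x * y⁻¹)⁻¹ * y = y * x⁻¹ by group, cj_mul]

/-- A factor centralizing `T`, a chain, and a factor in `N(P)`. -/
def Rep (p : ℕ) (P T : Subgroup G) (g : G) : Prop :=
  ∃ c ∈ centralizer (T : Set G), ∃ h, Chain p P T h ∧ ∃ y ∈ normalizer (P : Set G), g = c * h * y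

theorem Rep.mono {P T S : Subgroup G} {g : G} (h : Rep p P T g) (hS : S ≤ T) : Rep p P S g := by
  obtain ⟨c, hc, k, hk, y, hy, rfl⟩ := h
  exact ⟨c, centralizer_le (SetLike.coe_subset_coe.mpr hS) hc, k, hk.mono hS, y, hy, rfl⟩

theorem cj_rep {T : Subgroup G} {c : G} (hc : c ∈ centralizer (T : Set G)) (h y : G) :
    cj (c * h * y)⁻¹ T = cj y⁻¹ (cj h⁻¹ T) := by
  rw [mul_inv_rev, mul_inv_rev, cj_mul, cj_mul,
    cj_eq_self (inv_mem (centralizer_le_normalizer _ hc))]

theorem mem_centralizer_cj {T : Subgroup G} {c : G} (hc : c ∈ centralizer (T : Set G)) (y : G) :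
    y * c * y⁻¹ ∈ centralizer ((cj y T : Subgroup G) : Set G) :=
  cj_centralizer_le y T (conj_mem_cj hc)

theorem Rep.trans [Finite G] [Fact p.Prime] {P T : Subgroup G} {g k : G} (h : Rep p P T g)
    (h' : Rep p P (cj g⁻¹ T) k) : Rep p P T (g * k) := by
  obtain ⟨c, hc, h1, hh1, y, hy, rfl⟩ := h
  rw [cj_rep hc] at h'
  obtain ⟨c', hc', h2, hh2, y', hy', rfl⟩ := h'
  have hc2 : y * c' * y⁻¹ ∈ centralizer ((cj h1⁻¹ T : Subgroup G) : Set G) := by
    have := mem_centralizer_cj hc' y
    rwa [cj_cj_inv] at this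
  have hc3 : h1 * (y * c' * y⁻¹) * h1⁻¹ ∈ centralizer (T : Set G) := by
    have := mem_centralizer_cj hc2 h1
    rwa [cj_cj_inv] at this
  have hh3 : Chain p P (cj h1⁻¹ T) (y * h2 * y⁻¹) := by
    have := hh2.conj hy
    rwa [cj_cj_inv] at this
  exact ⟨c * (h1 * (y * c' * y⁻¹) * h1⁻¹), mul_mem hc hc3, h1 * (y * h2 * y⁻¹), hh1.trans hh3,
    y * y', mul_mem hy hy', by group⟩

theorem Rep.symm [Finite G] [Fact p.Prime] {P T : Subgroup G} {g : G} (h : Rep p P T g) :
    Rep p P (cj g⁻¹ T) g⁻¹ := by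
  obtain ⟨c, hc, k, hk, y, hy, rfl⟩ := h
  rw [cj_rep hc]
  refine ⟨y⁻¹ * (k⁻¹ * c⁻¹ * k) * y, ?_, y⁻¹ * k⁻¹ * y, ?_, y⁻¹, inv_mem hy, by group⟩
  · have h2 := mem_centralizer_cj (mem_centralizer_cj (inv_mem hc) k⁻¹) y⁻¹
    rwa [inv_inv, inv_inv] at h2
  · have h2 := hk.symm.conj (inv_mem hy)
    rwa [inv_inv] at h2

theorem rep_of_centralizer {P T : Subgroup G} {c : G} (hc : c ∈ centralizer (T : Set G)) :
    Rep p P T c :=
  ⟨c, hc, 1, Chain.refl _, 1, one_mem _, by simp⟩

theorem rep_of_normalizer {P T : Subgroup G} {y : G} (hy : y ∈ normalizer (P : Set G)) :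
    Rep p P T y :=
  ⟨1, one_mem _, 1, Chain.refl _, y, hy, by simp⟩

/-- The inverse convention used in the induction. -/
abbrev Φ (p : ℕ) (P T : Subgroup G) (g : G) : Prop := Rep p P T g⁻¹

theorem phi_trans [Finite G] [Fact p.Prime] {P T : Subgroup G} {g h : G} (h1 : Φ p P T g)
    (h2 : Φ p P (cj g T) h) : Φ p P T (h * g) := by
  show Rep p P T (h * g)⁻¹
  rw [mul_inv_rev]
  exact h1.trans (by rwa [inv_inv])

theorem phi_inv [Finite G] [Fact p.Prime] {P T : Subgroup G} {g : G} (h1 : Φ p P T g) :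
    Φ p P (cj g T) g⁻¹ := by
  show Rep p P (cj g T) g⁻¹⁻¹
  have h2 := Rep.symm h1
  rw [inv_inv] at h2 ⊢
  exact h2

/-- The base of the induction. -/
theorem base [Finite G] [hp : Fact p.Prime] (P : Sylow p G) {T : Subgroup G}
    (hT : T ≤ (P : Subgroup G)) (hfn : IsFullyNormalized p (P : Subgroup G) T)
    (hcen : (P : Subgroup G) ⊓ centralizer (T : Set G) ≤ T)
    (hbig : ∀ S g, S ≤ (P : Subgroup G) → cj g S ≤ (P : Subgroup G) → Nat.card T < Nat.card S →
      Φ p (P : Subgroup G) S g) :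
    ∀ c ∈ normalizer (T : Set G), Φ p (P : Subgroup G) T c := by
  -- extension
  have hext : ∀ D : Subgroup G, D ≤ (P : Subgroup G) → ¬ D ≤ T → ∀ n ∈ normalizer (T : Set G),
      n ∈ normalizer (D : Set G) → Φ p (P : Subgroup G) T n := by
    intro D hD hnot n hnT hnD
    have hE : cj n (T ⊔ D) = T ⊔ D := by
      rw [cj, Subgroup.map_sup, ← cj, ← cj, cj_eq_self hnT, cj_eq_self hnD]
    exact (hbig _ n (sup_le hT hD) (hE.le.trans (sup_le hT hD))
      (Set.Finite.card_lt_card (Set.toFinite _) (SetLike.coe_ssubset_coe.mpr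
        (lt_of_le_of_ne le_sup_left fun e => hnot (e ▸ le_sup_right))))).mono le_sup_left
  have hmul : ∀ a ∈ normalizer (T : Set G), ∀ b, Φ p (P : Subgroup G) T a → Φ p (P : Subgroup G) T b →
      Φ p (P : Subgroup G) T (b * a) := fun a ha b h1 h2 =>
    phi_trans h1 (by rwa [cj_eq_self ha])
  set N := normalizer (T : Set G) with hN
  rcases eq_or_lt_of_le hT with rfl | hlt
  · exact fun c hc => rep_of_normalizer (inv_mem hc)
  haveI hTn : (T.subgroupOf N).Normal := normal_in_normalizer
  have hidx := not_dvd_relIndex_of_isFullyNormalized P hfn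
  rw [← hN] at hidx
  have hPNp : IsPGroup p ↥((P : Subgroup G).subgroupOf N) := P.isPGroup'.comap_subtype
  have hPNi : ¬ p ∣ ((P : Subgroup G).subgroupOf N).index := by
    have h1 := hidx
    rwa [inf_relIndex_right] at h1
  let R : Sylow p N := hPNp.toSylow hPNi
  have hR : (R : Subgroup N) = (P : Subgroup G).subgroupOf N := rfl
  have hRT : ¬ (R : Subgroup N).map N.subtype ≤ T := by
    rw [hR, subgroupOf_map_subtype]
    intro h
    have h1 := card_lt_card_inf_normalizer P.isPGroup' hlt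
    rw [← hN] at h1
    exact h1.not_ge (card_le_of_le h)
  have hRP : (R : Subgroup N).map N.subtype ≤ (P : Subgroup G) := by
    rw [hR, subgroupOf_map_subtype]
    exact inf_le_left
  have hTR : T.subgroupOf N ≤ (R : Subgroup N) := by
    rw [hR]
    exact comap_mono hT
  set q := QuotientGroup.mk' (T.subgroupOf N) with hq
  have hqs : Function.Surjective q := QuotientGroup.mk'_surjective _
  intro c hc
  rcases AlperinGoldschmidt62.good_or_reduce P hT hfn hcen with hG | ⟨D, hDP, hDT, hred⟩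
  swap
  · -- not radical enough
    obtain ⟨k, hk, hkD⟩ := hred c hc
    have hkN : k * c ∈ N := mul_mem (centralizer_le_normalizer _ hk) hc
    have h1 := hext D hDP hDT (k * c) hkN hkD
    have h2 := hmul (k * c) hkN k⁻¹ h1 (rep_of_centralizer (by rwa [inv_inv]))
    rwa [inv_mul_cancel_left] at h2
  by_cases hconn : Cfsg.IsSylowChainConnected p (↥N ⧸ T.subgroupOf N)
  · -- connected quotient
    set Rb := R.mapSurjective hqs with hRb
    have hRbn : ∀ w : N, q w • Rb = Rb → w ∈ normalizer ((R : Subgroup N) : Set N) := by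
      intro w hw
      rw [Sylow.smul_eq_iff_mem_normalizer] at hw
      have h1 : w ∈ (normalizer ((Rb : Subgroup (N ⧸ T.subgroupOf N)) : Set (N ⧸ T.subgroupOf N))).comap q :=
        hw
      rw [comap_normalizer_eq_of_surjective _ hqs, hRb, Sylow.coe_mapSurjective, hq,
        QuotientGroup.comap_map_mk', sup_eq_right.mpr hTR] at h1
      exact h1
    have claim : ∀ S' : Sylow p (N ⧸ T.subgroupOf N), StrongPEmb.Reach p Rb S' →
        ∃ u : N, Φ p (P : Subgroup G) T u ∧ S' = q u • Rb := by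
      intro S' hS'
      induction hS' with
      | refl => exact ⟨1, rep_of_centralizer (by simp), by rw [map_one, one_smul]⟩
      | @tail A B _ hAB ih =>
        obtain ⟨u, hu, rfl⟩ := ih
        obtain ⟨vb, rfl⟩ := MulAction.exists_smul_eq (N ⧸ T.subgroupOf N) Rb B
        obtain ⟨v, rfl⟩ := hqs vb
        refine ⟨v, ?_, rfl⟩
        obtain ⟨z, hzAB, hz⟩ := StrongPEmb.exists_mem_ne_one hAB
        rw [mem_inf, smul_coe_eq_cj, smul_coe_eq_cj, mem_cj, mem_cj, hRb,
          Sylow.coe_mapSurjective] at hzAB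
        obtain ⟨hz1, hz2⟩ := hzAB
        obtain ⟨a, ha, haz⟩ := hz1
        obtain ⟨b, hb, hbz⟩ := hz2
        set w := u⁻¹ * v with hw
        have hab : q a = q (w * b * w⁻¹) := by
          rw [hw]
          simp only [map_mul, map_inv, mul_inv_rev, inv_inv, haz, hbz]
          group
        have hwb : w * b * w⁻¹ ∈ (R : Subgroup N) := by
          have h1 := (QuotientGroup.eq.mp hab : a⁻¹ * (w * b * w⁻¹) ∈ T.subgroupOf N)
          have h2 := (R : Subgroup N).mul_mem ha (hTR h1)
          rwa [mul_inv_cancel_left] at h2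
        have hbT : ¬ zpowers ((b : N) : G) ≤ T := by
          rw [zpowers_le]
          intro h
          refine hz ?_
          have h1 : q b = 1 := (QuotientGroup.eq_one_iff b).mpr h
          rw [hbz] at h1
          calc z = q v * ((q v)⁻¹ * z * q v) * (q v)⁻¹ := by group
            _ = 1 := by rw [h1, mul_one, mul_inv_cancel]
        have hbP : ((b : N) : G) ∈ (P : Subgroup G) := hRP ⟨b, hb, rfl⟩
        have hwbP : ((w : N) : G) * b * (w : G)⁻¹ ∈ (P : Subgroup G) := hRP ⟨_, hwb, rfl⟩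
        have hw1 : Φ p (P : Subgroup G) T (w : G) := by
          refine (hbig (T ⊔ zpowers ((b : N) : G)) (w : G) (sup_le hT (zpowers_le.mpr hbP)) ?_
            (Set.Finite.card_lt_card (Set.toFinite _) (SetLike.coe_ssubset_coe.mpr
              (lt_of_le_of_ne le_sup_left fun e => hbT (e ▸ le_sup_right))))).mono le_sup_left
          rw [cj, Subgroup.map_sup, ← cj, cj_eq_self w.2]
          refine sup_le hT ?_
          rw [MonoidHom.map_zpowers, zpowers_le]
          exact hwbP
        have h3 := hmul (w : G) w.2 (u : G) hw1 hu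
        rwa [show (u : G) * (w : N) = (v : G) by rw [hw]; push_cast; group] at h3
    obtain ⟨u, hu, hueq⟩ := claim (q ⟨c, hc⟩ • Rb) (StrongPEmb.chainConnected_iff.mp hconn _ _)
    have hw : q (u⁻¹ * ⟨c, hc⟩) • Rb = Rb := by rw [map_mul, map_inv, mul_smul, hueq, inv_smul_smul]
    have h1 := hext _ hRP hRT ((u⁻¹ * ⟨c, hc⟩ : N) : G) (u⁻¹ * ⟨c, hc⟩ : N).2
      (le_normalizer_map N.subtype (mem_map_of_mem N.subtype (hRbn _ hw)))
    have h2 := hmul _ (u⁻¹ * ⟨c, hc⟩ : N).2 (u : G) h1 hu
    rwa [show (u : G) * ((u⁻¹ * ⟨c, hc⟩ : N) : G) = c by push_cast; group] at h2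
  · -- disconnected quotient
    obtain ⟨hgT, hgC, hgd, -⟩ := hG
    obtain ⟨hd1, hd2, hd3, -, hd5⟩ := hgd
    have hO : (Cfsg.pPrimeCore p N).map N.subtype ≤ centralizer (T : Set G) := by
      intro k hk
      rw [mem_centralizer_iff]
      intro t ht
      exact (hd3 k hk t ht).symm
    have hgood : GoodH p (P : Subgroup G) T := by
      refine ⟨hT, hidx, hcen, ?_, hconn⟩
      refine le_antisymm ?_ (sup_le hd2 hgC)
      rw [← hd5, sup_comm]
      exact sup_le_sup_left hO _
    -- the smallest normal subgroup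
    have hrel : ∀ Y : Subgroup G, T ≤ Y → Y ≤ N →
        Nat.card ((Y.subgroupOf N).map q) = T.relIndex Y := by
      intro Y hTY hYN
      rw [← relIndex_bot_left, ← QuotientGroup.map_mk'_self (T.subgroupOf N), relIndex_map_map,
        QuotientGroup.ker_mk', sup_idem, sup_eq_left.mpr (show T.subgroupOf N ≤ Y.subgroupOf N from comap_mono hTY), relIndex_subgroupOf hYN]
    obtain ⟨X, ⟨hX1, hX2, hX3, hX4⟩, hXmin⟩ := Set.exists_min_image
      {Y : Subgroup G | T ≤ Y ∧ Y ≤ N ∧ (Y.subgroupOf N).Normal ∧ p ∣ T.relIndex Y}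
      (fun Y => Nat.card Y) (Set.toFinite _) ⟨N, le_normalizer, le_rfl,
        by rw [subgroupOf_self]; infer_instance, by
          by_contra hnd
          refine hRT ?_
          rintro _ ⟨r, hr, rfl⟩
          have hqR : (R : Subgroup N).map q = ⊥ := by
            rcases (R.isPGroup'.map q).card_eq_or_dvd with h | h
            · exact card_eq_one.mp h
            · refine absurd (h.trans ?_) hnd
              rw [← hrel N le_normalizer le_rfl, subgroupOf_self]
              exact card_dvd_of_le (map_mono le_top)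
          have h1 : q r = 1 := mem_bot.mp (hqR ▸ mem_map_of_mem q hr)
          exact (QuotientGroup.eq_one_iff r).mp h1⟩
    have hXP : XP p T X := by
      refine ⟨hX1, hX2, hX3, hX4, fun Y hY1 hY2 hY3 hY4 => ?_⟩
      haveI := hX3
      haveI := hY3
      have hXYn : ((X ⊓ Y).subgroupOf N).Normal := by
        exact (inferInstance : ((X.subgroupOf N) ⊓ (Y.subgroupOf N)).Normal)
      by_cases hd : p ∣ T.relIndex (X ⊓ Y)
      · have h1 := hXmin (X ⊓ Y) ⟨le_inf hX1 hY1, inf_le_left.trans hX2, hXYn, hd⟩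
        have h2 := eq_of_le_of_card_ge (inf_le_left : X ⊓ Y ≤ X) h1
        exact h2 ▸ inf_le_right
      · exfalso
        haveI : ((X.subgroupOf N).map q).Normal := hX3.map _ hqs
        haveI : ((Y.subgroupOf N).map q).Normal := hY3.map _ hqs
        refine hconn (SylowChainNormal62.connected_of_two_normal (Y₁ := (X.subgroupOf N).map q)
          (Y₂ := (Y.subgroupOf N).map q) (by rwa [hrel X hX1 hX2]) (by rwa [hrel Y hY1 hY2]) ?_)
        have h3 : (X.subgroupOf N).map q ⊓ (Y.subgroupOf N).map q = ((X ⊓ Y).subgroupOf N).map q := by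
          refine le_antisymm ?_ (le_inf (map_mono (comap_mono inf_le_left))
            (map_mono (comap_mono inf_le_right)))
          rintro _ ⟨⟨a, ha, rfl⟩, ⟨b, hb, hba⟩⟩
          refine ⟨a, ⟨ha, ?_⟩, rfl⟩
          have h4 := comap_mono (f := N.subtype) hY1 (QuotientGroup.eq.mp hba)
          have h5 := (Y.subgroupOf N).mul_mem hb h4
          rw [mul_inv_cancel_left] at h5
          exact h5
        rwa [h3, hrel _ (le_inf hX1 hY1) (inf_le_left.trans hX2)]
    -- Frattini
    haveI := hX3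
    obtain ⟨Q, hQ⟩ := LocalBasics.exists_sylow_inf R (X.subgroupOf N)
    set D := ((Q : Subgroup (X.subgroupOf N)).map (X.subgroupOf N).subtype).map N.subtype with hD
    have hQm : (Q : Subgroup (X.subgroupOf N)).map (X.subgroupOf N).subtype =
        (R : Subgroup N) ⊓ X.subgroupOf N := by rw [hQ, subgroupOf_map_subtype]
    have hDP : D ≤ (P : Subgroup G) := (map_mono (hQm.le.trans inf_le_left)).trans hRP
    have hDT : ¬ D ≤ T := by
      intro h
      haveI : ((X.subgroupOf N).map q).Normal := hX3.map _ hqs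
      refine SylowChainNormal62.sylow_inf_ne_bot (R.mapSurjective hqs) (Y := (X.subgroupOf N).map q)
        (by rwa [hrel X hX1 hX2]) (eq_bot_iff.mpr ?_)
      rw [Sylow.coe_mapSurjective]
      rintro _ ⟨⟨a, ha, rfl⟩, ⟨b, hb, hba⟩⟩
      have h4 := comap_mono (f := N.subtype) hX1 (QuotientGroup.eq.mp hba)
      have haX : a ∈ X.subgroupOf N := by
        have h5 := (X.subgroupOf N).mul_mem hb h4
        rwa [mul_inv_cancel_left] at h5
      have haT : (a : G) ∈ T := h ⟨a, hQm.ge ⟨ha, haX⟩, rfl⟩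
      exact mem_bot.mpr ((QuotientGroup.eq_one_iff a).mpr haT)
    obtain ⟨x, hx, d, hd, hxd⟩ := mem_sup_of_normal_left.mp
      ((by rw [sup_comm]; exact Q.normalizer_sup_eq_top :
        X.subgroupOf N ⊔ normalizer (((Q : Subgroup (X.subgroupOf N)).map
          (X.subgroupOf N).subtype : Subgroup N) : Set N) = ⊤).ge (mem_top (⟨c, hc⟩ : N)))
    have hxQ : (⟨x, hx⟩ : X.subgroupOf N) ∈ Cfsg.pResidual p ↥(X.subgroupOf N) ⊔
        (Q : Subgroup (X.subgroupOf N)) := by
      rw [sup_comm, TransferPResidual.sylow_sup_pResidual]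
      trivial
    obtain ⟨r, hr, s, hs, hrs⟩ := mem_sup_of_normal_left.mp hxQ
    have hrX : (((r : X.subgroupOf N) : N) : G) ∈ (Cfsg.pResidual p ↥X).map X.subtype := by
      refine ⟨subgroupOfEquivOfLe hX2 r, ?_, rfl⟩
      exact TransferPResidual.map_pResidual_le (subgroupOfEquivOfLe hX2).toMonoidHom
        (mem_map_of_mem _ hr)
    set e := ((s : X.subgroupOf N) : N) * d with he
    have heD : (e : G) ∈ normalizer (D : Set G) := by
      refine le_normalizer_map N.subtype (mem_map_of_mem N.subtype (mul_mem ?_ hd))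
      exact le_normalizer (mem_map_of_mem _ hs)
    have h1 := hext D hDP hDT (e : G) e.2 heD
    have h2 : Φ p (P : Subgroup G) T (((r : X.subgroupOf N) : N) : G) :=
      ⟨1, one_mem _, _, Chain.cons T T X _ 1 hgood hXP (inv_mem hrX) le_rfl (Chain.refl _), 1,
        one_mem _, by simp⟩
    have h3 := hmul _ e.2 _ h1 h2
    rwa [show (((r : X.subgroupOf N) : N) : G) * (e : G) = c by
      have h4 : ((((r * s : X.subgroupOf N) : N) * d : N) : G) = c := by rw [hrs]; exact congrArg Subtype.val hxd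
      rw [← h4, he]
      push_cast
      group] at h3

/-- **Alperin–Goldschmidt, strong form.** -/
theorem alperin [Finite G] [Fact p.Prime] (P : Sylow p G) {T : Subgroup G} {g : G}
    (hT : T ≤ (P : Subgroup G)) (hgT : cj g⁻¹ T ≤ (P : Subgroup G)) :
    Rep p (P : Subgroup G) T g := by
  suffices key : ∀ T g, T ≤ (P : Subgroup G) → cj g T ≤ (P : Subgroup G) →
      Φ p (P : Subgroup G) T g by
    have h := key T g⁻¹ hT hgT
    rwa [Φ, inv_inv] at h
  exact alperin_induction_centric P (Φ p (P : Subgroup G))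
    (fun T g h _ _ _ h1 h2 => phi_trans h1 h2) (fun T g _ _ h1 => phi_inv h1)
    (fun S T g hST _ _ h => Rep.mono h hST) (fun T _ c hc => rep_of_centralizer (inv_mem hc))
    (fun T hT hfn hcen _ hbig c hc _ => base P hT hfn hcen hbig c hc)

/-- A chain as a list. -/
theorem Chain.exists_fin {P T : Subgroup G} {g : G} (h : Chain p P T g) :
    ∃ (n : ℕ) (H X : Fin n → Subgroup G) (x : Fin n → G), (List.ofFn x).prod = g ∧
      (∀ i, GoodH p P (H i) ∧ XP p (H i) (X i) ∧ x i ∈ (Cfsg.pResidual p ↥(X i)).map (X i).subtype) ∧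
      ∀ i : Fin n, cj (((List.ofFn x).take i.val).prod)⁻¹ T ≤ H i := by
  induction h with
  | refl T =>
    exact ⟨0, Fin.elim0, Fin.elim0, Fin.elim0, by simp, fun i => i.elim0, fun i => i.elim0⟩
  | cons T H X x g hH hX hx hT _ ih =>
    obtain ⟨n, Hs, Xs, xs, hp', hst, hle⟩ := ih
    refine ⟨n + 1, Fin.cons H Hs, Fin.cons X Xs, Fin.cons x xs, ?_, ?_, ?_⟩
    · simp [List.ofFn_succ, hp']
    · intro i
      cases i using Fin.cases with
      | zero => exact ⟨hH, hX, hx⟩
      | succ j => exact hst j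
    · intro i
      cases i using Fin.cases with
      | zero => simpa [cj_one] using hT
      | succ j => simpa [List.ofFn_succ, cj_mul, mul_inv_rev] using hle j

end Cfsg.Agent.AlperinStrong62
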