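import Mathlib

/-!
Alperin's fusion theorem with tame intersections and factors of prime power order.
Conjugation is on the right: `cmap A g` is the image of `A` under `x ↦ g⁻¹ x g`.
-/

set_option autoImplicit false

namespace Cfsg.Agent.AlperinTame

variable {G : Type*} [Group G] {p : ℕ}

/-- `A` conjugated by `g` on the right. -/
def cmap (A : Subgroup G) (g : G) : Subgroup G := A.map (MulAut.conj g⁻¹).toMonoidHom

lemma mem_cmap {A : Subgroup G} {g x : G} : x ∈ cmap A g ↔ g * x * g⁻¹ ∈ A := by
  constructor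
  · rintro ⟨a, ha, rfl⟩
    simpa [mul_assoc] using ha
  · intro h
    exact ⟨g * x * g⁻¹, h, by simp [mul_assoc]⟩

lemma conj_mem_cmap {A : Subgroup G} {g a : G} (ha : a ∈ A) : g⁻¹ * a * g ∈ cmap A g := by
  rw [mem_cmap]; simpa [mul_assoc] using ha

@[simp] lemma cmap_one (A : Subgroup G) : cmap A (1 : G) = A := by ext x; simp [mem_cmap]

lemma cmap_mul (A : Subgroup G) (g h : G) : cmap A (g * h) = cmap (cmap A g) h := by
  ext x; simp [mem_cmap, mul_assoc]

lemma cmap_mono {A B : Subgroup G} (h : A ≤ B) (g : G) : cmap A g ≤ cmap B g :=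
  Subgroup.map_mono h

lemma cmap_cancel (A : Subgroup G) (g : G) : cmap (cmap A g) g⁻¹ = A := by
  rw [← cmap_mul, mul_inv_cancel, cmap_one]

lemma card_cmap (A : Subgroup G) (g : G) : Nat.card (cmap A g) = Nat.card A :=
  (Nat.card_congr (A.equivMapOfInjective _ (MulAut.conj g⁻¹).injective).toEquiv).symm

lemma cmap_eq_self_iff {A : Subgroup G} {g : G} :
    cmap A g = A ↔ g ∈ Subgroup.normalizer (A : Set G) := by
  rw [Subgroup.mem_normalizer_iff]
  constructor
  · intro h x
    conv_lhs => rw [← h]
    exact mem_cmap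
  · intro h
    ext x
    rw [mem_cmap]
    exact (h x).symm

lemma cmap_normalizer (A : Subgroup G) (g : G) :
    Subgroup.normalizer (cmap A g : Set G) = cmap (Subgroup.normalizer (A : Set G)) g := by
  ext x
  rw [← cmap_eq_self_iff, mem_cmap, ← cmap_eq_self_iff]
  constructor
  · intro h
    rw [cmap_mul, cmap_mul, h, cmap_cancel]
  · intro h
    calc cmap (cmap A g) x = cmap A (g * x) := (cmap_mul A g x).symm
      _ = cmap A (g * x * g⁻¹ * g) := by simp [mul_assoc]
      _ = cmap A g := by rw [cmap_mul, h]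

/-- `P ⊓ Q` is a tame intersection. -/
def IsTame (p : ℕ) (P Q : Sylow p G) : Prop :=
  ¬ p ∣ ((P : Subgroup G) ⊓ Subgroup.normalizer
      ((((P : Subgroup G) ⊓ (Q : Subgroup G)) : Subgroup G) : Set G)).relIndex
      (Subgroup.normalizer ((((P : Subgroup G) ⊓ (Q : Subgroup G)) : Subgroup G) : Set G)) ∧
  ¬ p ∣ ((Q : Subgroup G) ⊓ Subgroup.normalizer
      ((((P : Subgroup G) ⊓ (Q : Subgroup G)) : Subgroup G) : Set G)).relIndex
      (Subgroup.normalizer ((((P : Subgroup G) ⊓ (Q : Subgroup G)) : Subgroup G) : Set G))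

/-- One step: `x` normalizes the tame intersection `P ⊓ Q` and is a `p`-element unless `Q = P`. -/
def IsStep (P Q : Sylow p G) (x : G) : Prop :=
  IsTame p P Q ∧ x ∈ Subgroup.normalizer ((((P : Subgroup G) ⊓ (Q : Subgroup G)) : Subgroup G) : Set G) ∧
    ((Q : Subgroup G) = (P : Subgroup G) ∨ ∃ k : ℕ, orderOf x = p ^ k)

/-- `g` carries `A` into `P` by a chain of steps inside tame intersections. -/
inductive Chain (P : Sylow p G) : Subgroup G → G → Prop
  | refl (A : Subgroup G) : Chain P A 1
  | cons (A : Subgroup G) (Q : Sylow p G) (x g : G) :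
      IsStep P Q x → A ≤ (P : Subgroup G) ⊓ (Q : Subgroup G) → Chain P (cmap A x) g → Chain P A (x * g)

lemma Chain.single {P : Sylow p G} {A : Subgroup G} {Q : Sylow p G} {x : G} (h : IsStep P Q x)
    (hA : A ≤ (P : Subgroup G) ⊓ (Q : Subgroup G)) : Chain P A x := by
  simpa using Chain.cons A Q x 1 h hA (Chain.refl _)

lemma Chain.mono {P : Sylow p G} {A : Subgroup G} {g : G} (h : Chain P A g) :
    ∀ {B : Subgroup G}, B ≤ A → Chain P B g := by
  induction h with
  | refl A => exact fun _ => Chain.refl _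
  | cons A Q x g hs hA _ ih =>
    exact fun hB => Chain.cons _ Q x g hs (hB.trans hA) (ih (cmap_mono hB x))

lemma Chain.trans {P : Sylow p G} {A : Subgroup G} {g : G} (h : Chain P A g) :
    ∀ {k : G}, Chain P (cmap A g) k → Chain P A (g * k) := by
  induction h with
  | refl A => intro k hk; simpa using hk
  | cons A Q x g hs hA _ ih =>
    intro k hk
    rw [mul_assoc]
    exact Chain.cons A Q x _ hs hA (ih (by rwa [← cmap_mul]))

lemma Chain.symm {P : Sylow p G} {A : Subgroup G} {g : G} (h : Chain P A g) :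
    Chain P (cmap A g) g⁻¹ := by
  induction h with
  | refl A => simpa using Chain.refl (P := P) A
  | cons A Q x g hs hA _ ih =>
    rw [mul_inv_rev, cmap_mul]
    refine ih.trans ?_
    rw [cmap_cancel]
    refine Chain.single ⟨hs.1, inv_mem hs.2.1, hs.2.2.imp id (fun ⟨k, hk⟩ => ⟨k, by rw [orderOf_inv, hk]⟩)⟩ ?_
    calc cmap A x ≤ cmap ((P : Subgroup G) ⊓ (Q : Subgroup G)) x := cmap_mono hA x
      _ = _ := cmap_eq_self_iff.2 hs.2.1

lemma lt_normalizer_inf [Finite G] [Fact p.Prime] {R A : Subgroup G} (hR : IsPGroup p R)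
    (hAR : A < R) : A < R ⊓ Subgroup.normalizer (A : Set G) := by
  refine lt_of_le_of_ne (le_inf hAR.le Subgroup.le_normalizer) (fun heq => hAR.ne ?_)
  haveI : Group.IsNilpotent R := hR.isNilpotent
  have htop : A.subgroupOf R = ⊤ := by
    apply normalizerCondition_iff_only_full_group_self_normalizing.1 normalizerCondition_of_isNilpotent
    refine le_antisymm (fun x hx => ?_) Subgroup.le_normalizer
    have hxA : (x : G) ∈ R ⊓ Subgroup.normalizer (A : Set G) := by
      refine ⟨x.2, ?_⟩
      show (x : G) ∈ Subgroup.normalizer (A : Set G)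
      rw [Subgroup.mem_normalizer_iff]
      intro a
      rw [Subgroup.mem_normalizer_iff] at hx
      constructor
      · intro ha
        exact (hx ⟨a, hAR.le ha⟩).1 ha
      · intro ha
        have haR : a ∈ R := by
          have := R.mul_mem (R.mul_mem (R.inv_mem x.2) (hAR.le ha)) x.2
          simpa [mul_assoc] using this
        exact (hx ⟨a, haR⟩).2 ha
    rw [← heq] at hxA
    exact hxA
  exact le_antisymm hAR.le (Subgroup.subgroupOf_eq_top.1 htop)

lemma isPGroup_cmap {A : Subgroup G} (hA : IsPGroup p A) (g : G) : IsPGroup p (cmap A g) :=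
  hA.map _

lemma eq_of_not_dvd_relIndex [Finite G] [Fact p.Prime] {U V : Subgroup G} (hUV : U ≤ V)
    (hV : IsPGroup p V) (h : ¬ p ∣ U.relIndex V) : U = V := by
  refine le_antisymm hUV (Subgroup.relIndex_eq_one.1 ?_)
  obtain ⟨k, hk⟩ := IsPGroup.iff_card.1 hV
  exact Nat.eq_one_of_dvd_coprimes ((((Fact.out : p.Prime).coprime_iff_not_dvd).2 h).pow_left k)
    (hk ▸ Subgroup.relIndex_dvd_card U V) dvd_rfl

/-- Every subgroup of `P` has a fully normalized conjugate, by an element carrying `N_P(A)` into `P`. -/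
lemma exists_fullyNormalized [Finite G] [Fact p.Prime] (P : Sylow p G) (A : Subgroup G)
    (hA : A ≤ P) : ∃ h : G, cmap A h ≤ P ∧
      cmap ((P : Subgroup G) ⊓ Subgroup.normalizer (A : Set G)) h ≤ P ∧
      ¬ p ∣ ((P : Subgroup G) ⊓ Subgroup.normalizer (cmap A h : Set G)).relIndex
        (Subgroup.normalizer (cmap A h : Set G)) := by
  set N := Subgroup.normalizer (A : Set G) with hN
  have hp0 : IsPGroup p (((P : Subgroup G) ⊓ N).subgroupOf N) :=
    IsPGroup.comap_of_injective (P.isPGroup'.to_le inf_le_left) N.subtype N.subtype_injective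
  obtain ⟨U, hU⟩ := hp0.exists_le_sylow
  let U0 : Subgroup G := (U : Subgroup N).map N.subtype
  have hU0N : U0 ≤ N := Subgroup.map_subtype_le _
  obtain ⟨T, hT⟩ := (U.isPGroup'.map N.subtype).exists_le_sylow
  obtain ⟨g, hg⟩ := MulAction.exists_smul_eq G T P
  refine ⟨g⁻¹, ?_⟩
  have hgP : ∀ x ∈ U0, g * x * g⁻¹ ∈ P := by
    intro x hx
    rw [← hg]
    exact ⟨x, hT hx, rfl⟩
  have hU0 : cmap U0 g⁻¹ ≤ P := by
    intro x hx
    rw [mem_cmap, inv_inv] at hx
    show x ∈ (P : Subgroup G)
    have h0 : g * (g⁻¹ * x * g) * g⁻¹ ∈ (P : Subgroup G) := hgP _ hx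
    simpa [mul_assoc] using h0
  have hPN : (P : Subgroup G) ⊓ N ≤ U0 := fun x hx => ⟨⟨x, hx.2⟩, hU hx, rfl⟩
  refine ⟨(cmap_mono (fun x hx => hPN ⟨hA hx, Subgroup.le_normalizer hx⟩) _).trans hU0,
    (cmap_mono hPN _).trans hU0, fun hd => ?_⟩
  rw [cmap_normalizer, ← hN] at hd
  have h1 : ((P : Subgroup G) ⊓ cmap N g⁻¹).relIndex (cmap N g⁻¹) ∣
      (cmap U0 g⁻¹).relIndex (cmap N g⁻¹) :=
    Subgroup.relIndex_dvd_of_le_left _ (le_inf hU0 (cmap_mono hU0N _))
  have h2 : (cmap U0 g⁻¹).relIndex (cmap N g⁻¹) = (U : Subgroup N).index := by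
    rw [cmap, cmap, Subgroup.relIndex_map_map_of_injective _ _ (MulEquiv.injective _)]
    show (((U : Subgroup N).map N.subtype).comap N.subtype).index = _
    rw [Subgroup.comap_map_eq_self_of_injective N.subtype_injective]
  exact U.not_dvd_index (h2 ▸ hd.trans h1)

lemma isStep_self [Finite G] [Fact p.Prime] (P : Sylow p G) {x : G}
    (hx : x ∈ Subgroup.normalizer ((P : Subgroup G) : Set G)) : IsStep P P x := by
  refine ⟨⟨?_, ?_⟩, by rwa [inf_idem], Or.inl rfl⟩ <;>
  · rw [inf_idem, inf_eq_left.2 Subgroup.le_normalizer]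
    exact fun h => P.not_dvd_index (h.trans (Subgroup.relIndex_dvd_index_of_le Subgroup.le_normalizer))

/-- The set of elements of the normalizer of `B` that decompose on `B` forms a subgroup. -/
def stabChain (P : Sylow p G) (B : Subgroup G) : Subgroup G where
  carrier := {z | cmap B z = B ∧ Chain P B z}
  one_mem' := ⟨cmap_one B, Chain.refl B⟩
  mul_mem' := by
    rintro a b ⟨ha, ha'⟩ ⟨hb, hb'⟩
    exact ⟨by rw [cmap_mul, ha, hb], ha'.trans (by rwa [ha])⟩
  inv_mem' := by
    rintro a ⟨ha, ha'⟩
    refine ⟨?_, by simpa [ha] using ha'.symm⟩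
    conv_lhs => rw [← ha]
    exact cmap_cancel B a

lemma mem_stabChain {P : Sylow p G} {B : Subgroup G} {z : G} :
    z ∈ stabChain P B ↔ cmap B z = B ∧ Chain P B z := Iff.rfl

/-- Alperin's fusion theorem (tame intersections, `p`-element factors). -/
theorem alperin [Finite G] [Fact p.Prime] (P : Sylow p G) :
    ∀ (A : Subgroup G), A ≤ P → ∀ g : G, cmap A g ≤ P → Chain P A g := by
  suffices h : ∀ d : ℕ, ∀ (A : Subgroup G), Nat.card G - Nat.card A = d → A ≤ P →
      ∀ g : G, cmap A g ≤ P → Chain P A g from fun A hA g hg => h _ A rfl hA g hg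
  intro d
  induction d using Nat.strong_induction_on with
  | _ d ih =>
  intro A hd hA g hg
  rcases eq_or_lt_of_le hA with hAP | hAP
  · subst hAP
    have : cmap (P : Subgroup G) g = (P : Subgroup G) :=
      Subgroup.eq_of_le_of_card_ge hg (le_of_eq (card_cmap _ _).symm)
    exact Chain.single (isStep_self P (cmap_eq_self_iff.1 this)) (by rw [inf_idem])
  · have up : ∀ (D : Subgroup G), Nat.card A < Nat.card D → D ≤ P → ∀ k : G, cmap D k ≤ P →
        Chain P D k := by
      intro D hD hDP k hk
      refine ih _ ?_ D rfl hDP k hk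
      have := Subgroup.card_le_card_group D
      omega
    have cardlt : ∀ {X Y : Subgroup G}, X < Y → Nat.card X < Nat.card Y := fun {X Y} hXY =>
      lt_of_le_of_ne (Subgroup.card_le_of_le hXY.le)
        (fun h => hXY.ne (Subgroup.eq_of_le_of_card_ge hXY.le h.ge))
    have hA'P : cmap A g < (P : Subgroup G) := by
      refine lt_of_le_of_ne hg (fun h => ?_)
      have := cardlt hAP
      rw [← card_cmap A g, h] at this
      omega
    obtain ⟨h, hhA, hhN, hfull⟩ := exists_fullyNormalized P A hA
    have hch : Chain P A h :=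
      (up _ (cardlt (lt_normalizer_inf P.isPGroup' hAP)) inf_le_left h hhN).mono
        (le_inf hA Subgroup.le_normalizer)
    set B := cmap A h with hB
    -- fully normalized conjugate of the target
    have hA'lt := lt_normalizer_inf P.isPGroup' hA'P
    -- decomposition of every element normalizing `B`
    have hBP : B < (P : Subgroup G) := by
      refine lt_of_le_of_ne hhA (fun h0 => ?_)
      have := cardlt hAP
      rw [← card_cmap A h, ← hB, h0] at this
      omega
    set N := Subgroup.normalizer (B : Set G) with hN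
    set T := (P : Subgroup G) ⊓ N with hT
    have hTlt : B < T := lt_normalizer_inf P.isPGroup' hBP
    have hTcard : Nat.card A < Nat.card T := by
      rw [← card_cmap A h, ← hB]; exact cardlt hTlt
    have hall : N ≤ stabChain P B := by
      by_cases hex : ∃ y ∈ N, T ⊓ cmap T y = B
      · obtain ⟨y, hy, hyB⟩ := hex
        obtain ⟨Q, hQ⟩ := (isPGroup_cmap (P.isPGroup'.to_le (inf_le_left : T ≤ P)) y).exists_le_sylow
        have hTyN : cmap T y ≤ N := by
          refine (cmap_mono inf_le_right y).trans (le_of_eq ?_)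
          rw [hN, ← cmap_normalizer, cmap_eq_self_iff.2 hy]
        have hyrel : ¬ p ∣ (cmap T y).relIndex N := by
          have hNy : cmap N y = N := by rw [hN, ← cmap_normalizer, cmap_eq_self_iff.2 hy]
          rw [← hNy, cmap, cmap, Subgroup.relIndex_map_map_of_injective _ _ (MulEquiv.injective _)]
          exact hfull
        have hQN : (Q : Subgroup G) ⊓ N = cmap T y := by
          refine (eq_of_not_dvd_relIndex (le_inf hQ hTyN) (Q.isPGroup'.to_le inf_le_left) ?_).symm
          exact fun h0 => hyrel (h0.trans (Dvd.intro _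
            (Subgroup.relIndex_mul_relIndex _ _ N (le_inf hQ hTyN) inf_le_right)))
        have hPQ : (P : Subgroup G) ⊓ (Q : Subgroup G) = B := by
          have hle : B ≤ (P : Subgroup G) ⊓ (Q : Subgroup G) := by
            refine le_inf hBP.le (le_trans ?_ hQ)
            calc B = T ⊓ cmap T y := hyB.symm
              _ ≤ cmap T y := inf_le_right
          rcases eq_or_lt_of_le hle with h0 | h0
          · exact h0.symm
          · exfalso
            have hlt := lt_normalizer_inf (P.isPGroup'.to_le inf_le_left) h0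
            refine not_le_of_gt hlt (le_trans (fun x hx => ?_) hyB.le)
            exact ⟨⟨hx.1.1, hx.2⟩, hQN ▸ (⟨hx.1.2, hx.2⟩ : x ∈ (Q : Subgroup G) ⊓ N)⟩
        have htame : IsTame p P Q := by
          unfold IsTame
          rw [hPQ, ← hN, hQN]
          exact ⟨hfull, hyrel⟩
        let K : Subgroup N := Subgroup.closure {z : N | ∃ k : ℕ, orderOf z = p ^ k}
        have hKle : K ≤ (stabChain P B).subgroupOf N := by
          rw [Subgroup.closure_le]
          rintro z ⟨k, hk⟩
          refine ⟨cmap_eq_self_iff.2 z.2, Chain.single ⟨htame, ?_, Or.inr ⟨k, ?_⟩⟩ (le_of_eq hPQ.symm)⟩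
          · rw [hPQ]; exact z.2
          · rw [N.coe_subtype, Subgroup.orderOf_coe]; exact hk
        haveI : K.Normal := by
          refine ⟨fun x hx z => ?_⟩
          have key : K ≤ K.comap (MulAut.conj z).toMonoidHom := by
            rw [Subgroup.closure_le]
            rintro w ⟨k, hk⟩
            refine Subgroup.subset_closure ⟨k, ?_⟩
            rw [MulEquiv.coe_toMonoidHom, MulEquiv.orderOf_eq, hk]
          exact key hx
        have hT0p : IsPGroup p (T.subgroupOf N) :=
          IsPGroup.comap_of_injective (P.isPGroup'.to_le inf_le_left) N.subtype N.subtype_injective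
        let T0 : Sylow p N := hT0p.toSylow hfull
        have hTK : (T0 : Subgroup N) ≤ K := by
          intro z hz
          obtain ⟨k, hk⟩ := (IsPGroup.iff_orderOf.1 T0.isPGroup') ⟨z, hz⟩
          exact Subgroup.subset_closure ⟨k, by rwa [Subgroup.orderOf_mk] at hk⟩
        have hnorm : Subgroup.normalizer ((T0 : Subgroup N) : Set N) ≤ (stabChain P B).subgroupOf N := by
          intro m hm
          have hTm : cmap T (m : G) = T := by
            rw [Subgroup.mem_normalizer_iff] at hm
            ext x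
            rw [mem_cmap]
            constructor
            · intro hx
              have hxN : x ∈ N := by
                have := N.mul_mem (N.mul_mem (N.inv_mem m.2) hx.2) m.2
                simpa [mul_assoc] using this
              exact (hm ⟨x, hxN⟩).2 hx
            · intro hx
              exact (hm ⟨x, hx.2⟩).1 hx
          exact ⟨cmap_eq_self_iff.2 m.2,
            (up T hTcard inf_le_left m (hTm.le.trans inf_le_left)).mono hTlt.le⟩
        intro z hz
        have htop : Subgroup.normalizer ((T0 : Subgroup N) : Set N) ⊔ K = ⊤ :=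
          T0.normalizer_sup_eq_top' hTK
        exact sup_le hnorm hKle (htop.symm ▸ Subgroup.mem_top (⟨z, hz⟩ : N))
      · push Not at hex
        intro y hy
        have hyN : cmap B y = B := cmap_eq_self_iff.2 hy
        have hBle : B ≤ T ⊓ cmap T y := le_inf hTlt.le (hyN.symm.le.trans (cmap_mono hTlt.le y))
        have hD : B < T ⊓ cmap T y := lt_of_le_of_ne hBle (hex y hy).symm
        have hc : Chain P (T ⊓ cmap T y) y⁻¹ := by
          refine up _ ?_ (inf_le_left.trans inf_le_left) _ ?_
          · rw [← card_cmap A h, ← hB]; exact cardlt hD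
          · exact (cmap_mono inf_le_right _).trans ((cmap_cancel T y).le.trans inf_le_left)
        have hinv : cmap B y⁻¹ = B := cmap_eq_self_iff.2 (inv_mem hy)
        exact (inv_mem_iff (H := stabChain P B)).1 ⟨hinv, hc.mono hBle⟩
    -- the conjugator from the target to `B`
    obtain ⟨U, hU⟩ : ∃ U : Sylow p N, (U : Subgroup N) = T.subgroupOf N :=
      ⟨(IsPGroup.comap_of_injective (P.isPGroup'.to_le inf_le_left) N.subtype
        N.subtype_injective).toSylow hfull, rfl⟩
    set k := g⁻¹ * h with hk
    have hkB : cmap (cmap A g) k = B := by rw [← cmap_mul, hk, mul_inv_cancel_left]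
    have hS : IsPGroup p ((cmap ((P : Subgroup G) ⊓ Subgroup.normalizer (cmap A g : Set G)) k).subgroupOf N) :=
      IsPGroup.comap_of_injective (isPGroup_cmap (P.isPGroup'.to_le inf_le_left) k) N.subtype
        N.subtype_injective
    obtain ⟨V, hV⟩ := hS.exists_le_sylow
    obtain ⟨n, hn⟩ := MulAction.exists_smul_eq N V U
    set k' := k * (n : G)⁻¹ with hk'
    have hk'B : cmap (cmap A g) k' = B := by
      rw [hk', cmap_mul, hkB, cmap_eq_self_iff.2 (inv_mem n.2)]
    have hk'N : cmap ((P : Subgroup G) ⊓ Subgroup.normalizer (cmap A g : Set G)) k' ≤ P := by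
      intro x hx
      rw [hk', cmap_mul, mem_cmap, inv_inv] at hx
      have hxN : (n : G)⁻¹ * x * n ∈ N := by
        have h0 := cmap_mono (inf_le_right (a := (P : Subgroup G))) k hx
        rwa [← cmap_normalizer, hkB] at h0
      have h1 : (⟨_, hxN⟩ : N) ∈ (V : Subgroup N) := hV hx
      have h2 : n * (⟨_, hxN⟩ : N) * n⁻¹ ∈ (U : Subgroup N) := by
        rw [← hn]; exact ⟨_, h1, rfl⟩
      rw [hU] at h2
      have h3 : (n : G) * ((n : G)⁻¹ * x * n) * (n : G)⁻¹ ∈ T := h2
      show x ∈ (P : Subgroup G)
      have h8 : (n : G) * ((n : G)⁻¹ * x * n) * (n : G)⁻¹ ∈ (P : Subgroup G) := h3.1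
      simpa [mul_assoc] using h8
    have hck : Chain P (cmap A g) k' :=
      (up _ (by rw [← card_cmap A g]; exact cardlt hA'lt) inf_le_left k' hk'N).mono
        (le_inf hg Subgroup.le_normalizer)
    have hm : h⁻¹ * (g * k') ∈ N := by
      rw [hN, ← cmap_eq_self_iff, hB, ← cmap_mul, mul_inv_cancel_left, cmap_mul]
      exact hk'B
    have h4 : Chain P B (h⁻¹ * (g * k')) := (hall hm).2
    have h5 : Chain P B k'⁻¹ := hk'B ▸ hck.symm
    have h6 : Chain P B (h⁻¹ * (g * k') * k'⁻¹) := h4.trans (by
      rw [cmap_eq_self_iff.2 hm]; exact h5)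
    have h7 : Chain P A (h * (h⁻¹ * (g * k') * k'⁻¹)) := hch.trans h6
    simpa [mul_assoc] using h7

/-- A chain as a list of steps, in the form of the usual statement. -/
theorem Chain.exists_fin {P : Sylow p G} {A : Subgroup G} {g : G} (h : Chain P A g) :
    ∃ (n : ℕ) (Q : Fin n → Sylow p G) (x : Fin n → G), (List.ofFn x).prod = g ∧
      (∀ i, IsStep P (Q i) (x i)) ∧
      ∀ i : Fin n, cmap A (((List.ofFn x).take i.val).prod) ≤ (P : Subgroup G) ⊓ (Q i : Subgroup G) := by
  induction h with
  | refl A => exact ⟨0, Fin.elim0, Fin.elim0, by simp, fun i => i.elim0, fun i => i.elim0⟩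
  | cons A Q x g hs hA _ ih =>
    obtain ⟨n, Qs, xs, hp, hst, hle⟩ := ih
    refine ⟨n + 1, Fin.cons Q Qs, Fin.cons x xs, ?_, ?_, ?_⟩
    · simp [List.ofFn_succ, hp]
    · intro i
      cases i using Fin.cases with
      | zero => simpa using hs
      | succ j => simpa using hst j
    · intro i
      cases i using Fin.cases with
      | zero => simpa using hA
      | succ j => simpa [List.ofFn_succ, cmap_mul] using hle j

end Cfsg.Agent.AlperinTame
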