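import Mathlib

/-! Interface for S4100: modules of alternating groups with a vector having nonsolvable stabiliser. -/

set_option autoImplicit false

universe u

namespace Cfsg.Agent.AltCent86

/-- Every nontrivial elementary abelian `p`-group acted on by `A_d` has a nonidentity element fixed by a
nonsolvable subgroup. -/
def ModuleLemma (p d : ℕ) : Prop :=
  ∀ (V : Type u) [CommGroup V] [Finite V] [Nontrivial V] (φ : alternatingGroup (Fin d) →* MulAut V),
    (∀ v : V, v ^ p = 1) →
      ∃ v : V, v ≠ 1 ∧ ∃ K : Subgroup (alternatingGroup (Fin d)), ¬ Group.IsSolvable K ∧ ∀ g ∈ K, φ g v = v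

end Cfsg.Agent.AltCent86
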