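import Mathlib
import Cfsg.Agent.Lib.AltCent86Defs
import Cfsg.Agent.Lib.CoprimeAction

/-! Sections isomorphic to alternating groups and solvable centralisers of `p`-elements. -/

set_option autoImplicit false
set_option linter.unusedSectionVars false

universe u

namespace Cfsg.Agent.AltCent86

open Subgroup

noncomputable def altMap {a b : ℕ} (e : Fin a ↪ Fin b) : alternatingGroup (Fin a) →* alternatingGroup (Fin b) :=
  ((Equiv.Perm.viaEmbeddingHom e).comp (alternatingGroup (Fin a)).subtype).codRestrict _ fun x => by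
    rw [Equiv.Perm.mem_alternatingGroup]
    show Equiv.Perm.sign (Equiv.Perm.viaEmbedding (x : Equiv.Perm (Fin a)) e) = 1
    rw [Equiv.Perm.viaEmbedding, Equiv.Perm.sign_extendDomain]
    exact x.2

theorem altMap_injective {a b : ℕ} (e : Fin a ↪ Fin b) : Function.Injective (altMap e) := fun x y h =>
  Subtype.ext (Equiv.Perm.viaEmbeddingHom_injective e (congrArg Subtype.val h))

theorem altMap_commute {a a' b : ℕ} (e : Fin a ↪ Fin b) (e' : Fin a' ↪ Fin b) (hd : ∀ i j, e i ≠ e' j)
    (x : alternatingGroup (Fin a)) (y : alternatingGroup (Fin a')) :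
    altMap e x * altMap e' y = altMap e' y * altMap e x := by
  apply Subtype.ext
  refine (Equiv.Perm.Disjoint.commute ?_).eq
  intro z
  by_cases h : z ∈ Set.range e
  · obtain ⟨i, rfl⟩ := h
    exact Or.inr (Equiv.Perm.viaEmbedding_apply_of_notMem _ _ _ (by rintro ⟨j, hj⟩; exact hd i j hj.symm))
  · exact Or.inl (Equiv.Perm.viaEmbedding_apply_of_notMem _ _ _ h)

theorem five_not_solvable : ¬ Group.IsSolvable (alternatingGroup (Fin 5)) := by
  intro h
  have hc := IsSimpleGroup.comm_iff_isSolvable.2 h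
  have := hc ⟨Equiv.swap 0 1 * Equiv.swap 1 2, by rw [Equiv.Perm.mem_alternatingGroup]; decide⟩
    ⟨Equiv.swap 2 3 * Equiv.swap 3 4, by rw [Equiv.Perm.mem_alternatingGroup]; decide⟩
  exact absurd (congrArg Subtype.val this) (by decide)

theorem not_solvable_of_map {H A : Type*} [Group H] [Group A] (π : H →* A) {K : Subgroup H} {B : Subgroup A}
    (hK : K.map π = B) (hB : ¬ Group.IsSolvable B) : ¬ Group.IsSolvable K := by
  intro h
  subst hK
  exact hB (Group.isSolvable_of_surjective (f := π.subgroupMap K) (π.subgroupMap_surjective K))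

/-- An element whose commutators with a nonsolvable subgroup are central in that subgroup and form an
abelian group has nonsolvable centraliser. -/
theorem centralizer_not_solvable {H : Type*} [Group H] (x : H) (E Z : Subgroup H)
    (hZ : Z ≤ Subgroup.center H) (hx : ∀ k ∈ E, x⁻¹ * (k * x * k⁻¹) ∈ Z) (hE : ¬ Group.IsSolvable E) :
    ¬ Group.IsSolvable (Subgroup.centralizer ({x} : Set H)) := by
  intro hs
  let f : E →* Subgroup.center H :=
    { toFun := fun k => ⟨x⁻¹ * (k.1 * x * k.1⁻¹), hZ (hx k.1 k.2)⟩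
      map_one' := Subtype.ext (by simp)
      map_mul' := fun a b => Subtype.ext (by
        have h := (Subgroup.mem_center_iff.1 (hZ (hx b.1 b.2))) a.1
        show x⁻¹ * (a.1 * b.1 * x * (a.1 * b.1)⁻¹) = x⁻¹ * (a.1 * x * a.1⁻¹) * (x⁻¹ * (b.1 * x * b.1⁻¹))
        have hb : b.1 * x * b.1⁻¹ = x * (x⁻¹ * (b.1 * x * b.1⁻¹)) := by group
        calc x⁻¹ * (a.1 * b.1 * x * (a.1 * b.1)⁻¹) = x⁻¹ * (a.1 * (b.1 * x * b.1⁻¹) * a.1⁻¹) := by group
          _ = x⁻¹ * (a.1 * x * ((x⁻¹ * (b.1 * x * b.1⁻¹)) * a.1⁻¹)) := by group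
          _ = _ := by rw [← (Subgroup.mem_center_iff.1 (hZ (hx b.1 b.2))) a.1⁻¹]; group) }
  apply hE
  have hle : ∀ k : f.ker, ((k : E) : H) ∈ Subgroup.centralizer ({x} : Set H) := fun k => by
    have hk : x⁻¹ * ((k : E).1 * x * (k : E).1⁻¹) = 1 := congrArg Subtype.val (f.mem_ker.1 k.2)
    rw [Subgroup.mem_centralizer_singleton_iff]
    rw [inv_mul_eq_one, eq_mul_inv_iff_mul_eq] at hk
    exact hk.symm
  haveI : Group.IsSolvable f.ker := Group.isSolvable_of_isSolvable_injective
    (f := ((E.subtype.comp f.ker.subtype).codRestrict _ hle))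
    fun a b h => by
      apply Subtype.ext; apply Subtype.ext
      exact congrArg (fun z : Subgroup.centralizer ({x} : Set H) => (z : H)) h
  haveI : Group.IsSolvable (Subgroup.center H) := Group.isSolvable_of_comm fun a b => mul_comm' a b
  exact solvable_of_ker_le_range f.ker.subtype f (by simp)

/-- Minimal preimage data. -/
structure Cover (H : Type u) [Group H] (p D : ℕ) where
  π : H →* alternatingGroup (Fin D)
  surj : Function.Surjective π
  min : ∀ L : Subgroup H, L.map π = ⊤ → L = ⊤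
  solv : ∀ x : H, x ∉ Subgroup.center H → (∃ k : ℕ, orderOf x = p ^ k) →
    Group.IsSolvable (Subgroup.centralizer ({x} : Set H))

variable {H : Type u} [Group H] [Finite H] {p D : ℕ} [Fact p.Prime]

theorem exists_pgroup_over {A : Type*} [Group A] [Finite A] (π : H →* A) (hπ : Function.Surjective π) {c : A}
    (hc : c ^ p = 1) (T : Subgroup A) (hT : ∀ t ∈ T, t * c = c * t) :
    ∃ P : Subgroup H, IsPGroup p P ∧ (∃ x ∈ P, π x = c) ∧ (∀ y ∈ P, ∀ t ∈ T, t * π y = π y * t) ∧
      T ≤ (Subgroup.normalizer (P : Set H)).map π := by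
  set H1 : Subgroup H := (Subgroup.centralizer ({c} : Set A)).comap π
  have hcH : ∀ {y : H}, π y ∈ Subgroup.zpowers c → y ∈ H1 := fun {y} hy => by
    obtain ⟨n, hn⟩ := hy
    show π y ∈ Subgroup.centralizer ({c} : Set A)
    rw [Subgroup.mem_centralizer_singleton_iff, ← hn]
    exact ((Commute.refl c).zpow_left n).eq
  let M : Subgroup H1 := (Subgroup.zpowers c).comap (π.comp H1.subtype)
  haveI hMn : M.Normal := ⟨fun m hm g => by
    show π (g.1 * m.1 * g.1⁻¹) ∈ Subgroup.zpowers c
    obtain ⟨n, hn⟩ := (hm : π m.1 ∈ Subgroup.zpowers c)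
    replace hn : c ^ n = π m.1 := hn
    have hg : Commute (π g.1) c := Subgroup.mem_centralizer_singleton_iff.1 g.2
    refine ⟨n, ?_⟩
    show c ^ n = π (g.1 * m.1 * g.1⁻¹)
    rw [map_mul, map_mul, map_inv, ← hn, (hg.zpow_right n).eq, mul_inv_cancel_right]⟩
  let P : Sylow p M := default
  have hfr := Sylow.normalizer_sup_eq_top P
  set P0 : Subgroup H := ((P : Subgroup M).map M.subtype).map H1.subtype with hP0
  have hx : ∃ x ∈ P0, π x = c := by
    obtain ⟨y, hy⟩ := hπ c
    let f : M →* Subgroup.zpowers c :=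
      ((π.comp H1.subtype).comp M.subtype).codRestrict _ fun m => m.2
    have hf : Function.Surjective f := fun z => by
      obtain ⟨w, hw⟩ := hπ z.1
      exact ⟨⟨⟨w, hcH (hw ▸ z.2)⟩, by show π w ∈ Subgroup.zpowers c; exact hw ▸ z.2⟩, Subtype.ext hw⟩
    let P' : Sylow p (Subgroup.zpowers c) := P.mapSurjective hf
    have hP' : (P' : Subgroup (Subgroup.zpowers c)) = ⊤ := by
      have hpg : IsPGroup p (Subgroup.zpowers c) := fun z => ⟨1, by
        obtain ⟨z, n, rfl⟩ := z
        apply Subtype.ext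
        show (c ^ n) ^ p ^ 1 = 1
        rw [pow_one, ← zpow_natCast, ← zpow_mul, mul_comm, zpow_mul, zpow_natCast, hc, one_zpow]⟩
      exact (P'.3 (hpg.to_subgroup ⊤) le_top).symm
    have : (⟨c, Subgroup.mem_zpowers c⟩ : Subgroup.zpowers c) ∈ (P : Subgroup M).map f :=
      show _ ∈ (P' : Subgroup (Subgroup.zpowers c)) by rw [hP']; trivial
    obtain ⟨m, hm, hmc⟩ := this
    exact ⟨m.1.1, ⟨m.1, ⟨m, hm, rfl⟩, rfl⟩, congrArg Subtype.val hmc⟩
  obtain ⟨x, hxP, hxc⟩ := hx
  refine ⟨P0, (P.2.map _).map _, ⟨x, hxP, hxc⟩, ?_, ?_⟩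
  · rintro y ⟨y1, ⟨m, -, rfl⟩, rfl⟩ t ht
    obtain ⟨n, hn⟩ := (m.2 : π m.1.1 ∈ Subgroup.zpowers c)
    replace hn : c ^ n = π m.1.1 := hn
    show t * π m.1.1 = π m.1.1 * t
    rw [← hn]
    exact ((show Commute t c from hT t ht).zpow_right n).eq
  · intro t ht
    obtain ⟨w, hw⟩ := hπ t
    have hw1 : w ∈ H1 := show π w ∈ Subgroup.centralizer ({c} : Set A) by
      rw [hw, Subgroup.mem_centralizer_singleton_iff]; exact hT t ht
    have htop : (⟨w, hw1⟩ : H1) ∈ Subgroup.normalizer (((P : Subgroup M).map M.subtype : Subgroup H1) : Set H1) ⊔ M :=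
      hfr ▸ Subgroup.mem_top _
    obtain ⟨a, ha, m, hm, ham⟩ := Subgroup.mem_sup_of_normal_right.1 htop
    obtain ⟨n, hn⟩ := (hm : π m.1 ∈ Subgroup.zpowers c)
    replace hn : c ^ n = π m.1 := hn
    refine ⟨a.1 * x ^ n, mul_mem ?_ (Subgroup.le_normalizer (Subgroup.zpow_mem _ hxP n)), ?_⟩
    · exact Subgroup.le_normalizer_map H1.subtype ⟨a, ha, rfl⟩
    · have hwm : a.1 * m.1 = w := congrArg Subtype.val ham
      rw [map_mul, map_zpow, hxc, hn, ← map_mul, ← hw]
      exact congrArg π hwm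

/-- Every Sylow subgroup of the kernel of a minimal cover is normal. -/
theorem sylow_ker_normal (C : Cover H p D) {r : ℕ} [Fact r.Prime] (R : Sylow r C.π.ker) :
    ((R : Subgroup C.π.ker).map C.π.ker.subtype).Normal := by
  refine Subgroup.normalizer_eq_top_iff.1 (C.min _ ?_)
  have h := congrArg (Subgroup.map C.π) (Sylow.normalizer_sup_eq_top R)
  rwa [Subgroup.map_sup, (Subgroup.map_eq_bot_iff _).2 le_rfl, sup_bot_eq,
    Subgroup.map_top_of_surjective _ C.surj] at h

/-- A kernel element of order prime to `p` of a minimal cover centralises the `p`-part. -/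
theorem ker_le_centralizer (C : Cover H p D) (S : Sylow p C.π.ker) {R : Subgroup H} (hR : R.Normal)
    (hRk : R ≤ C.π.ker) {r : ℕ} [Fact r.Prime] (hrp : r ≠ p) (hRr : IsPGroup r R) :
    R ≤ Subgroup.centralizer (((S : Subgroup C.π.ker).map C.π.ker.subtype : Subgroup H) : Set H) := by
  haveI := hR
  haveI := sylow_ker_normal C S
  intro a ha
  rw [Subgroup.mem_centralizer_iff]
  intro b hb
  exact (Subgroup.commute_of_normal_of_disjoint _ _ (sylow_ker_normal C S) hR
    (IsPGroup.disjoint_of_ne p r hrp.symm _ _ (S.2.map _) hRr) b a hb ha).eq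

theorem ker_eq_iSup_sylow (C : Cover H p D) (L : Subgroup H)
    (hL : ∀ (r : ℕ) [Fact r.Prime] (R : Sylow r C.π.ker), (R : Subgroup C.π.ker).map C.π.ker.subtype ≤ L) :
    C.π.ker ≤ L := by
  have hcard : Nat.card C.π.ker ∣ Nat.card (L.subgroupOf C.π.ker) := by
    rw [← Nat.factorization_prime_le_iff_dvd Nat.card_pos.ne' Nat.card_pos.ne']
    intro r hr
    haveI : Fact r.Prime := ⟨hr⟩
    obtain ⟨R⟩ : Nonempty (Sylow r C.π.ker) := inferInstance
    have hle : (R : Subgroup C.π.ker) ≤ L.subgroupOf C.π.ker := fun z hz => hL r R ⟨z, hz, rfl⟩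
    have h := Subgroup.card_dvd_of_le hle
    rw [R.card_eq_multiplicity] at h
    exact (hr.pow_dvd_iff_le_factorization Nat.card_pos.ne').1 h
  have htop : L.subgroupOf C.π.ker = ⊤ :=
    Subgroup.eq_top_of_card_eq _ (Nat.dvd_antisymm (Subgroup.card_subgroup_dvd_card _) hcard)
  exact Subgroup.subgroupOf_eq_top.1 htop

theorem notMem_center (C : Cover H p D) {c : alternatingGroup (Fin D)} {b : alternatingGroup (Fin D)}
    (hb : b * c ≠ c * b) {x : H} (hx : C.π x = c) : x ∉ Subgroup.center H := fun h => by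
  obtain ⟨y, hy⟩ := C.surj b
  exact hb (by rw [← hx, ← hy, ← map_mul, ← map_mul, Subgroup.mem_center_iff.1 h y])

theorem false_of_moduleLemma (C : Cover H p D) (hML : ModuleLemma.{u} p D) (B : Subgroup (alternatingGroup (Fin D)))
    (hB : ¬ Group.IsSolvable B) {c : alternatingGroup (Fin D)} (hc : c ^ p = 1)
    (hcB : ∀ t ∈ B, t * c = c * t) {b : alternatingGroup (Fin D)} (hb : b * c ≠ c * b) : False := by
  obtain ⟨S⟩ : Nonempty (Sylow p C.π.ker) := inferInstance
  set Q : Subgroup H := (S : Subgroup C.π.ker).map C.π.ker.subtype with hQdef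
  haveI hQn : Q.Normal := sylow_ker_normal C S
  have hQp : IsPGroup p Q := S.2.map _
  have hQk : Q ≤ C.π.ker := Subgroup.map_subtype_le _
  by_cases hQc : Q ≤ Subgroup.center H
  · obtain ⟨P, hP, ⟨x, hxP, hxc⟩, hPT, hBN⟩ := exists_pgroup_over C.π C.surj hc B hcB
    set E := Subgroup.normalizer (P : Set H) ⊓ B.comap C.π
    have hEB : E.map C.π = B := le_antisymm
      (by rintro t ⟨w, hw, rfl⟩; exact hw.2)
      (fun t ht => by obtain ⟨w, hw, rfl⟩ := hBN ht; exact ⟨w, ⟨hw, ht⟩, rfl⟩)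
    have hZ : P ⊓ C.π.ker ≤ Subgroup.center H := by
      refine le_trans (fun y hy => ?_) hQc
      have hyp : IsPGroup p ((P ⊓ C.π.ker).subgroupOf C.π.ker) :=
        (hP.to_le inf_le_left).comap_of_injective _ C.π.ker.subtype_injective
      obtain ⟨S', hS'⟩ := hyp.exists_le_sylow
      have : S' = S := by
        haveI : (S : Subgroup C.π.ker).Normal := by
          have := hQn.comap C.π.ker.subtype
          rwa [Subgroup.comap_map_eq_self_of_injective C.π.ker.subtype_injective] at this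
        haveI := Sylow.unique_of_normal S inferInstance
        exact Subsingleton.elim _ _
      exact ⟨⟨y, hy.2⟩, this ▸ hS' hy, rfl⟩
    have hxp : ∃ k : ℕ, orderOf x = p ^ k := by
      obtain ⟨k, hk⟩ := IsPGroup.iff_orderOf.1 hP ⟨x, hxP⟩
      exact ⟨k, by simpa using hk⟩
    refine centralizer_not_solvable x E (P ⊓ C.π.ker) hZ (fun k hk => ⟨P.mul_mem (P.inv_mem hxP)
      ((Subgroup.mem_normalizer_iff.1 hk.1 x).1 hxP), ?_⟩) (not_solvable_of_map C.π hEB hB)
      (C.solv x (notMem_center C hb hxc) hxp)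
    show C.π (x⁻¹ * (k * x * k⁻¹)) = 1
    rw [map_mul, map_mul, map_mul, map_inv, map_inv, hxc, hcB _ hk.2, mul_inv_cancel_right, inv_mul_cancel]
  · set Z : Subgroup H := Q ⊓ Subgroup.center H with hZdef
    haveI : Z.Normal := Subgroup.normal_inf_normal _ _
    let q : H →* H ⧸ Z := QuotientGroup.mk' Z
    have hqs : Function.Surjective q := QuotientGroup.mk'_surjective Z
    haveI hQq : (Q.map q).Normal := hQn.map q hqs
    let Q' : Subgroup (H ⧸ Z) := Q.map q
    have hQ'p : IsPGroup p Q' := hQp.map q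
    haveI : Nontrivial Q' := by
      rw [Subgroup.nontrivial_iff_ne_bot]
      intro h
      rw [Subgroup.map_eq_bot_iff, QuotientGroup.ker_mk'] at h
      exact hQc (h.trans inf_le_right)
    haveI := hQ'p.center_nontrivial
    let V : Subgroup (H ⧸ Z) :=
      { carrier := {v | v ∈ Q' ∧ (∀ w ∈ Q', w * v = v * w) ∧ v ^ p = 1}
        one_mem' := ⟨one_mem _, fun w _ => by simp, one_pow _⟩
        mul_mem' := fun {a b} ha hb => ⟨mul_mem ha.1 hb.1, fun w hw => by
            rw [← mul_assoc, ha.2.1 w hw, mul_assoc, hb.2.1 w hw, mul_assoc],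
          by rw [Commute.mul_pow (hb.2.1 a ha.1), ha.2.2, hb.2.2, one_mul]⟩
        inv_mem' := fun {a} ha => ⟨inv_mem ha.1, fun w hw => (Commute.inv_right (ha.2.1 w hw)).eq,
          by rw [inv_pow, ha.2.2, inv_one]⟩ }
    have hVn : V.Normal := ⟨fun v hv g => ⟨hQq.conj_mem _ hv.1 g, fun w hw => by
      have h1 := hv.2.1 (g⁻¹ * w * g⁻¹⁻¹) (hQq.conj_mem _ hw g⁻¹)
      calc w * (g * v * g⁻¹) = g * ((g⁻¹ * w * g⁻¹⁻¹) * v) * g⁻¹ := by group
        _ = g * (v * (g⁻¹ * w * g⁻¹⁻¹)) * g⁻¹ := by rw [h1]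
        _ = g * v * g⁻¹ * w := by group, by rw [conj_pow, hv.2.2, mul_one, mul_inv_cancel]⟩⟩
    haveI := hVn
    have hVab : ∀ a b : V, a * b = b * a := fun a b => Subtype.ext (b.2.2.1 a.1 a.2.1)
    letI : CommGroup V := { (inferInstance : Group V) with mul_comm := hVab }
    haveI : Nontrivial V := by
      obtain ⟨z, hz⟩ : ∃ z : Subgroup.center Q', z ≠ 1 := exists_ne 1
      have hzp : IsPGroup p (Subgroup.center Q') := hQ'p.to_subgroup _
      have hdvd : p ∣ Nat.card (Subgroup.center Q') := by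
        obtain ⟨n, hn⟩ := hzp.exists_card_eq
        rcases n with _ | n
        · exact absurd hn (by simpa using (Finite.one_lt_card (α := Subgroup.center Q')).ne')
        · exact hn ▸ dvd_pow_self p n.succ_ne_zero
      obtain ⟨y, hy⟩ := exists_prime_orderOf_dvd_card' p hdvd
      refine ⟨⟨⟨y.1.1, y.1.2, fun w hw => congrArg Subtype.val (Subgroup.mem_center_iff.1 y.2 ⟨w, hw⟩), ?_⟩,
        1, ?_⟩⟩
      · have h := pow_orderOf_eq_one y
        rw [hy] at h
        exact congrArg (fun u : Subgroup.center Q' => (u.1.1 : H ⧸ Z)) h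
      · intro h
        have : y = 1 := Subtype.ext (Subtype.ext (congrArg Subtype.val h :))
        rw [this, orderOf_one] at hy
        exact (Fact.out : p.Prime).ne_one hy.symm
    let ψ : H →* MulAut V := MulAut.conjNormal.comp q
    have hψ : C.π.ker ≤ ψ.ker := ker_eq_iSup_sylow C _ fun r _ R => by
      intro a ha
      rw [MonoidHom.mem_ker]
      ext v
      show q a * v.1 * (q a)⁻¹ = v.1
      rw [mul_inv_eq_iff_eq_mul]
      by_cases hrp : r = p
      · subst hrp
        haveI := Sylow.unique_of_normal S (by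
          have := hQn.comap C.π.ker.subtype
          rwa [Subgroup.comap_map_eq_self_of_injective C.π.ker.subtype_injective] at this)
        have hRS : R = S := Subsingleton.elim _ _
        subst hRS
        exact v.2.2.1 _ ⟨a, ha, rfl⟩
      · haveI := sylow_ker_normal C R
        obtain ⟨w, hw, hwv⟩ := v.2.1
        rw [← hwv, ← map_mul, ← map_mul,
          Subgroup.mem_centralizer_iff.1 (ker_le_centralizer C S inferInstance (Subgroup.map_subtype_le _) hrp
            (R.2.map _) ha) w hw]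
    let φ : alternatingGroup (Fin D) →* MulAut V :=
      C.π.liftOfSurjective C.surj ⟨ψ, hψ⟩
    have hφ : ∀ a : H, φ (C.π a) = ψ a := fun a =>
      MonoidHom.liftOfRightInverse_comp_apply C.π _ _ _ a
    obtain ⟨v, hv, K, hK, hfix⟩ := hML V φ fun v => Subtype.ext v.2.2.2
    obtain ⟨x, hxQ, hxv⟩ := v.2.1
    have hxc : x ∉ Subgroup.center H := fun h => hv <| Subtype.ext <| by
      show v.1 = 1
      rw [← hxv]
      exact (QuotientGroup.eq_one_iff x).2 ⟨hxQ, h⟩
    have hxp : ∃ k : ℕ, orderOf x = p ^ k := by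
      obtain ⟨k, hk⟩ := IsPGroup.iff_orderOf.1 hQp ⟨x, hxQ⟩
      exact ⟨k, by simpa using hk⟩
    refine centralizer_not_solvable x (K.comap C.π) Z inf_le_right (fun k hk => ?_)
      (not_solvable_of_map C.π (Subgroup.map_comap_eq_self_of_surjective C.surj K) hK) (C.solv x hxc hxp)
    rw [← QuotientGroup.eq_one_iff]
    have h := congrArg Subtype.val (hfix _ hk)
    rw [hφ] at h
    have h' : q k * v.1 * (q k)⁻¹ = v.1 := h
    show q (x⁻¹ * (k * x * k⁻¹)) = 1
    rw [map_mul, map_mul, map_mul, map_inv, map_inv, hxv, h', inv_mul_cancel]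

theorem false_of_coprime (C : Cover H p D) (B : Subgroup (alternatingGroup (Fin D)))
    (hB : ¬ Group.IsSolvable B) (hpB : ¬ p ∣ Nat.card B) {c : alternatingGroup (Fin D)} (hc : c ^ p = 1)
    (hcB : ∀ t ∈ B, t * c = c * t) {b : alternatingGroup (Fin D)} (hb : b * c ≠ c * b) : False := by
  obtain ⟨P, hP, ⟨x, hxP, hxc⟩, -, hBN⟩ := exists_pgroup_over C.π C.surj hc B hcB
  have hne : Set.Nonempty {L : Subgroup H | L ≤ Subgroup.normalizer (P : Set H) ⊓ B.comap C.π ∧ B ≤ L.map C.π} :=
    ⟨_, le_rfl, fun t ht => by obtain ⟨w, hw, rfl⟩ := hBN ht; exact ⟨w, ⟨hw, ht⟩, rfl⟩⟩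
  obtain ⟨E, ⟨hEle, hEB⟩, hEmin⟩ := Set.Finite.exists_minimal (Set.toFinite _) hne
  have hEB' : E.map C.π = B := le_antisymm
    (Subgroup.map_le_iff_le_comap.2 (hEle.trans inf_le_right)) hEB
  let f : E →* B := (C.π.comp E.subtype).codRestrict B fun e => (hEle e.2).2
  have hf : Function.Surjective f := fun t => by
    obtain ⟨w, hw, hwt⟩ := hEB t.2
    exact ⟨⟨w, hw⟩, Subtype.ext hwt⟩
  obtain ⟨R⟩ : Nonempty (Sylow p f.ker) := inferInstance
  have hR : ((R : Subgroup f.ker).map f.ker.subtype).Normal := by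
    refine Subgroup.normalizer_eq_top_iff.1 ?_
    have h := congrArg (Subgroup.map f) (Sylow.normalizer_sup_eq_top R)
    rw [Subgroup.map_sup, (Subgroup.map_eq_bot_iff f.ker).2 le_rfl, sup_bot_eq,
      Subgroup.map_top_of_surjective _ hf] at h
    set L := Subgroup.normalizer ((((R : Subgroup f.ker).map f.ker.subtype) : Subgroup E) : Set E)
    have hL : L.map E.subtype ∈ {L : Subgroup H | L ≤ Subgroup.normalizer (P : Set H) ⊓ B.comap C.π ∧ B ≤ L.map C.π} :=
      ⟨(Subgroup.map_subtype_le L).trans hEle, fun t ht => by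
        obtain ⟨w, hw, hwt⟩ := (h ▸ Subgroup.mem_top _ : (⟨t, ht⟩ : B) ∈ L.map f)
        exact ⟨w.1, ⟨w, hw, rfl⟩, congrArg Subtype.val hwt⟩⟩
    have h2 := hEmin hL (Subgroup.map_subtype_le L)
    exact eq_top_iff.2 fun w _ => by
      obtain ⟨w', hw', e⟩ := h2 w.2
      rwa [← (Subtype.ext e : w' = w)]
  haveI := hR
  set R' : Subgroup E := (R : Subgroup f.ker).map f.ker.subtype with hR'
  have hRk : R' ≤ f.ker := Subgroup.map_subtype_le _
  have hcop : (Nat.card R').Coprime R'.index := by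
    obtain ⟨n, hn⟩ := (R.2.map f.ker.subtype).exists_card_eq
    rw [hn]
    refine Nat.Coprime.pow_left n ((Fact.out : p.Prime).coprime_iff_not_dvd.2 ?_)
    rw [← Subgroup.relIndex_mul_index hRk]
    refine (Fact.out : p.Prime).not_dvd_mul ?_ ?_
    · rw [Subgroup.relIndex, hR', Subgroup.subgroupOf, Subgroup.comap_map_eq_self_of_injective f.ker.subtype_injective]
      exact R.not_dvd_index
    · rwa [Subgroup.index_ker, MonoidHom.range_eq_top.2 hf, Subgroup.card_top]
  obtain ⟨L, hL⟩ := Subgroup.exists_right_complement'_of_coprime hcop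
  have hLf : L.map f = ⊤ := by
    have h := congrArg (Subgroup.map f) hL.sup_eq_top
    rwa [Subgroup.map_sup, (Subgroup.map_eq_bot_iff R').2 hRk, bot_sup_eq,
      Subgroup.map_top_of_surjective _ hf] at h
  have hLE : L = ⊤ := by
    have h2 := hEmin (y := L.map E.subtype) ⟨(Subgroup.map_subtype_le L).trans hEle, fun t ht => by
        obtain ⟨w, hw, hwt⟩ := (hLf ▸ Subgroup.mem_top _ : (⟨t, ht⟩ : B) ∈ L.map f)
        exact ⟨w.1, ⟨w, hw, rfl⟩, congrArg Subtype.val hwt⟩⟩ (Subgroup.map_subtype_le L)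
    exact eq_top_iff.2 fun w _ => by
      obtain ⟨w', hw', e⟩ := h2 w.2
      rwa [← (Subtype.ext e : w' = w)]
  have hR1 : Nat.card R' = 1 := by
    have h := hL.card_mul
    rw [hLE, Subgroup.card_top] at h
    exact Nat.eq_of_mul_eq_mul_right Nat.card_pos (h.trans (one_mul _).symm)
  have hpE : ¬ p ∣ Nat.card E := by
    intro h
    have := R'.card_mul_index
    rw [hR1, one_mul] at this
    rw [← this] at h
    have hc2 := hcop
    rw [hR1] at hc2
    have hidx : ¬ p ∣ R'.index := by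
      rw [← Subgroup.relIndex_mul_index hRk]
      refine (Fact.out : p.Prime).not_dvd_mul ?_ ?_
      · rw [Subgroup.relIndex, hR', Subgroup.subgroupOf, Subgroup.comap_map_eq_self_of_injective f.ker.subtype_injective]
        exact R.not_dvd_index
      · rwa [Subgroup.index_ker, MonoidHom.range_eq_top.2 hf, Subgroup.card_top]
    exact hidx h
  have hD : IsPGroup p (P ⊓ C.π.ker : Subgroup H) := hP.to_le inf_le_left
  obtain ⟨y, hy, hxy⟩ := CoprimeAction.exists_fixed_mem_coset (A := E) (D := P ⊓ C.π.ker)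
    (CoprimeAction.le_normalizer_inf (hEle.trans inf_le_left)
      (le_top.trans (Subgroup.normalizer_eq_top_iff.2 inferInstance).ge))
    (by
      obtain ⟨n, hn⟩ := hD.exists_card_eq
      rw [hn]
      exact Nat.Coprime.pow_right n (((Fact.out : p.Prime).coprime_iff_not_dvd.2 hpE).symm))
    (Or.inr (CoprimeAction.isSolvable_of_isPGroup hD)) x
    (fun a ha => ⟨by
      rw [mul_assoc, mul_assoc, ← mul_assoc a]
      exact P.mul_mem (P.inv_mem hxP) ((Subgroup.mem_normalizer_iff.1 (hEle ha).1 x).1 hxP), by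
      show C.π (x⁻¹ * a * x * a⁻¹) = 1
      rw [map_mul, map_mul, map_mul, map_inv, map_inv, hxc, mul_assoc c⁻¹, hcB _ (hEle ha).2, ← mul_assoc,
        inv_mul_cancel, one_mul, mul_inv_cancel]⟩)
  have hyP : y ∈ P := by simpa using mul_mem hxP hxy.1
  have hyc : C.π y = c := by
    have h : C.π (x⁻¹ * y) = 1 := hxy.2
    rw [map_mul, map_inv, hxc, inv_mul_eq_one] at h
    exact h.symm
  have hyp : ∃ k : ℕ, orderOf y = p ^ k := by
    obtain ⟨k, hk⟩ := IsPGroup.iff_orderOf.1 hP ⟨y, hyP⟩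
    exact ⟨k, by simpa using hk⟩
  refine centralizer_not_solvable y E ⊥ bot_le (fun k hk => ?_) (not_solvable_of_map C.π hEB' hB)
    (C.solv y (notMem_center C hb hyc) hyp)
  rw [Subgroup.mem_bot, inv_mul_eq_one, eq_mul_inv_iff_mul_eq]
  exact (Subgroup.mem_centralizer_iff.1 hy k hk).symm

end Cfsg.Agent.AltCent86
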