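import Cfsg.Agent.Lib.AltCent86
import Cfsg.Prelude.Def_LocalEven

/-! Assembly of the bound on alternating sections, given the two small module lemmas. -/

set_option autoImplicit false
set_option linter.unusedSectionVars false

universe u

namespace Cfsg.Agent.AltCent86

variable {G : Type u} [Group G] [Finite G] {p : ℕ} [Fact p.Prime]

theorem exists_cover
    (h : ∀ x : G, x ∉ Subgroup.center G → (∃ k : ℕ, orderOf x = p ^ k) → Group.IsSolvable (Subgroup.centralizer ({x} : Set G)))
    {d D : ℕ} (hDd : D ≤ d) (hinv : Cfsg.Involves (alternatingGroup (Fin d)) G) :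
    ∃ H : Subgroup G, Nonempty (Cover H p D) := by
  obtain ⟨K, R, hR, ⟨e⟩⟩ := hinv
  let f : K →* alternatingGroup (Fin d) := e.toMonoidHom.comp (QuotientGroup.mk' (R.subgroupOf K))
  have hf : Function.Surjective f := e.surjective.comp (QuotientGroup.mk'_surjective _)
  let ι := altMap (Fin.castLEEmb hDd)
  let P : Subgroup G → Prop := fun H => ∃ π : H →* alternatingGroup (Fin D), Function.Surjective π
  have hP : P ((ι.range.comap f).map K.subtype) := by
    refine ⟨((MonoidHom.ofInjective (altMap_injective (Fin.castLEEmb hDd))).symm.toMonoidHom.comp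
      ((f.subgroupComap ι.range))).comp
      ((ι.range.comap f).equivMapOfInjective K.subtype K.subtype_injective).symm.toMonoidHom, ?_⟩
    exact ((MonoidHom.ofInjective (altMap_injective (Fin.castLEEmb hDd))).symm.surjective.comp
      (MonoidHom.subgroupComap_surjective_of_surjective f _ hf)).comp
      ((ι.range.comap f).equivMapOfInjective K.subtype K.subtype_injective).symm.surjective
  obtain ⟨H, hH, hmin⟩ := Set.Finite.exists_minimal (Set.toFinite {H | P H}) ⟨_, hP⟩
  obtain ⟨π, hπ⟩ := hH
  refine ⟨H, ⟨⟨π, hπ, fun L hL => ?_, fun x hx hxp => ?_⟩⟩⟩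
  · have hPL : P (L.map H.subtype) := by
      refine ⟨(π.comp L.subtype).comp (L.equivMapOfInjective H.subtype H.subtype_injective).symm.toMonoidHom, ?_⟩
      have hs : Function.Surjective (π.comp L.subtype) := fun a => by
        obtain ⟨w, hw, hwa⟩ := (hL ▸ Subgroup.mem_top a : a ∈ L.map π)
        exact ⟨⟨w, hw⟩, hwa⟩
      exact hs.comp (L.equivMapOfInjective H.subtype H.subtype_injective).symm.surjective
    refine eq_top_iff.2 fun w _ => ?_
    obtain ⟨w', hw', e'⟩ := hmin hPL (Subgroup.map_subtype_le L) w.2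
    rwa [← (Subtype.ext e' : w' = w)]
  · have hxG : (x : G) ∉ Subgroup.center G := fun hc =>
      hx (Subgroup.mem_center_iff.2 fun y => Subtype.ext (Subgroup.mem_center_iff.1 hc y.1))
    haveI := h x.1 hxG (by obtain ⟨k, hk⟩ := hxp; exact ⟨k, by rw [Subgroup.orderOf_coe, hk]⟩)
    exact Group.isSolvable_of_isSolvable_injective
      (f := (H.subtype.comp (Subgroup.centralizer ({x} : Set H)).subtype).codRestrict
        (Subgroup.centralizer ({(x : G)} : Set G)) fun y => Subgroup.mem_centralizer_singleton_iff.2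
          (congrArg Subtype.val (Subgroup.mem_centralizer_singleton_iff.1 y.2)))
      fun a b hab => Subtype.ext (Subtype.ext
        (congrArg (fun z : Subgroup.centralizer ({(x : G)} : Set G) => (z : G)) hab))

theorem pattern {k D : ℕ} (hD : k + 5 = D) (c0 : alternatingGroup (Fin k)) (hc : c0 ^ p = 1) (hne : c0 ≠ 1) :
    ∃ (B : Subgroup (alternatingGroup (Fin D))) (c b : alternatingGroup (Fin D)), ¬ Group.IsSolvable B ∧
      Nat.card B ∣ 60 ∧ c ^ p = 1 ∧ (∀ t ∈ B, t * c = c * t) ∧ b * c ≠ c * b := by
  subst hD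
  let ιB := altMap (Fin.natAddEmb k : Fin 5 ↪ Fin (k + 5))
  let ιc := altMap (Fin.castAddEmb 5 : Fin k ↪ Fin (k + 5))
  have hcard : Nat.card (alternatingGroup (Fin 5)) = 60 := by
    rw [nat_card_alternatingGroup, Nat.card_fin]; rfl
  have hB : ¬ Group.IsSolvable ιB.range := fun h => five_not_solvable <|
    Group.isSolvable_of_isSolvable_injective (f := ιB.rangeRestrict)
      (MonoidHom.rangeRestrict_injective_iff.2 (altMap_injective _))
  have hcomm : ∀ t ∈ ιB.range, t * ιc c0 = ιc c0 * t := by
    rintro _ ⟨y, rfl⟩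
    refine altMap_commute _ _ (fun i j h => ?_) y c0
    have := congrArg Fin.val h
    change k + (i : ℕ) = (j : ℕ) at this
    omega
  have hb : ∃ b, b * ιc c0 ≠ ιc c0 * b := by
    by_contra hall
    push_neg at hall
    haveI := alternatingGroup.isSimpleGroup (show 5 ≤ Nat.card (Fin (k + 5)) by simp)
    rcases (inferInstance : (Subgroup.center (alternatingGroup (Fin (k + 5)))).Normal).eq_bot_or_eq_top with h | h
    · exact hne (altMap_injective _ (by
        rw [map_one, ← Subgroup.mem_bot, ← h]; exact Subgroup.mem_center_iff.2 hall))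
    · exact hB (Group.isSolvable_of_comm fun a b => Subtype.ext
        ((Subgroup.mem_center_iff.1 (h ▸ Subgroup.mem_top (b : alternatingGroup (Fin (k+5)))) a.1)))
  obtain ⟨b, hb⟩ := hb
  refine ⟨ιB.range, ιc c0, b, hB, ?_, by rw [← map_pow, hc, map_one], hcomm, hb⟩
  exact (Subgroup.card_range_dvd ιB).trans hcard.dvd

theorem bound (hp3 : p ≠ 3)
    (h : ∀ x : G, x ∉ Subgroup.center G → (∃ k : ℕ, orderOf x = p ^ k) → Group.IsSolvable (Subgroup.centralizer ({x} : Set G)))
    (d : ℕ) (hinv : Cfsg.Involves (alternatingGroup (Fin d)) G)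
    (h2 : ModuleLemma.{u} 2 9) (h5 : ModuleLemma.{u} 5 10) :
    d ≤ p + 4 + (if p = 2 then 2 else 0) := by
  by_contra hlt
  push_neg at hlt
  have hp := (Fact.out : p.Prime)
  by_cases hp2 : p = 2
  · subst hp2
    rw [if_pos rfl] at hlt
    obtain ⟨H, ⟨C⟩⟩ := exists_cover h (show 9 ≤ d by omega) hinv
    obtain ⟨B, c, b, hB, -, hc, hcB, hb⟩ := pattern (p := 2) (show 4 + 5 = 9 from rfl)
      ⟨Equiv.swap 0 1 * Equiv.swap 2 3, by rw [Equiv.Perm.mem_alternatingGroup]; decide⟩
      (Subtype.ext (by decide)) (fun h => absurd (congrArg Subtype.val h) (by decide))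
    exact false_of_moduleLemma C h2 B hB hc hcB hb
  · rw [if_neg hp2] at hlt
    obtain ⟨H, ⟨C⟩⟩ := exists_cover h (show p + 5 ≤ d by omega) hinv
    have hp5 : 5 ≤ p := by
      have := hp.two_le
      rcases Nat.lt_or_ge p 5 with hlt' | hge
      · interval_cases p
        · exact absurd rfl hp2
        · exact absurd rfl hp3
        · exact absurd hp (by decide)
      · exact hge
    obtain ⟨n, rfl⟩ : ∃ n, p = n + 2 := ⟨p - 2, by omega⟩
    have hcyc := isCycle_finRotate (n := n)
    have hord : orderOf (finRotate (n + 2)) = n + 2 := by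
      rw [hcyc.orderOf, support_finRotate, Finset.card_univ, Fintype.card_fin]
    obtain ⟨B, c, b, hB, hB60, hc, hcB, hb⟩ := pattern (p := n + 2) (k := n + 2) (D := n + 2 + 5) rfl
      ⟨finRotate (n + 2), by
        rw [Equiv.Perm.mem_alternatingGroup, sign_finRotate]
        exact Even.neg_one_pow (by
          rcases hp.eq_two_or_odd with h' | h' <;> [omega; exact Nat.even_iff.2 (by omega)])⟩
      (Subtype.ext (by
        show finRotate (n + 2) ^ (n + 2) = 1
        conv_lhs => arg 2; rw [← hord]
        exact pow_orderOf_eq_one _))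
      (fun h => hcyc.ne_one (congrArg Subtype.val h))
    by_cases h60 : n + 2 ∣ 60
    · have : n + 2 = 5 := by
        have hle := Nat.le_of_dvd (by norm_num) h60
        rcases (hp.dvd_mul.1 (show n + 2 ∣ 4 * 15 from h60)) with h4 | h15
        · exact absurd (Nat.le_of_dvd (by norm_num) h4) (by omega)
        · rcases hp.dvd_mul.1 (show n + 2 ∣ 3 * 5 from h15) with h3 | h5'
          · exact absurd (Nat.le_of_dvd (by norm_num) h3) (by omega)
          · have := Nat.le_of_dvd (by norm_num) h5'; omega
      have hn : n = 3 := by omega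
      subst hn
      exact false_of_moduleLemma C h5 B hB hc hcB hb
    · exact false_of_coprime C B hB (fun hdvd => h60 (hdvd.trans hB60)) hc hcB hb

end Cfsg.Agent.AltCent86
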