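import Cfsg.Agent.Lib.AltCent86TwoTerms0
import Cfsg.Agent.Lib.AltCent86TwoTerms1
import Cfsg.Agent.Lib.AltCent86TwoTerms2

/-! Every nontrivial `F₂ A₉`-module has a nonzero vector with nonsolvable stabiliser. -/

set_option autoImplicit false
set_option maxRecDepth 20000

universe u

namespace Cfsg.Agent.AltCent86.Two

def terms : List Term := terms0 ++ terms1 ++ terms2 ++ terms3 ++ terms4 ++ terms5 ++ terms6 ++ terms7 ++ terms8
theorem terms_mask : maskAll terms = 1 := by decide +kernel
theorem terms_ok : ∀ B ∈ terms, termOk tables bases B = true := by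
  intro B hB
  simp only [terms, List.mem_append] at hB
  rcases hB with ((((((((h | h) | h) | h) | h) | h) | h) | h) | h)
  · exact List.all_eq_true.1 terms0_ok B h
  · exact List.all_eq_true.1 terms1_ok B h
  · exact List.all_eq_true.1 terms2_ok B h
  · exact List.all_eq_true.1 terms3_ok B h
  · exact List.all_eq_true.1 terms4_ok B h
  · exact List.all_eq_true.1 terms5_ok B h
  · exact List.all_eq_true.1 terms6_ok B h
  · exact List.all_eq_true.1 terms7_ok B h
  · exact List.all_eq_true.1 terms8_ok B h

theorem moduleTwo : ModuleLemma.{u} 2 9 :=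
  moduleLemma_of_cert valid bases terms bases_ok terms_ok terms_mask

end Cfsg.Agent.AltCent86.Two
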