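import Cfsg.Agent.Lib.AltCent86Defs

/-! A checker for orbit-sum certificates over the cosets of a Sylow 2-subgroup of `A₉`. -/

set_option autoImplicit false
set_option linter.unusedSectionVars false

universe u

namespace Cfsg.Agent.AltCent86.Two

abbrev A9 := alternatingGroup (Fin 9)

/-- Packed map: the image of `x` is in bits `4x .. 4x+3`. -/
def app (c : ℕ) (x : Fin 9) : Fin 9 := ⟨(c >>> (4 * x.val) &&& 15) % 9, Nat.mod_lt _ (by norm_num)⟩

def pts (f : Fin 9 → Fin 9) (g : Fin 9 → Fin 9) : Bool := (List.finRange 9).all fun x => f x == g x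

theorem pts_iff {f g : Fin 9 → Fin 9} : pts f g = true ↔ ∀ x, f x = g x := by
  simp [pts, List.all_eq_true]

structure Tables where
  N : ℕ
  R : ℕ → ℕ
  par : ℕ → ℕ × ℕ
  S : ℕ → ℕ
  spar : ℕ → ℕ × ℕ
  sgen : List ℕ

variable (T : Tables)

def elt (g : ℕ × ℕ) (x : Fin 9) : Fin 9 := app (T.R g.1) (app (T.S g.2) x)

def inRange (g : ℕ × ℕ) : Bool := decide (g.1 < T.N) && decide (g.2 < 64)

/-- `g · rep i = rep t.1 · S t.2`. -/
def move (g : ℕ × ℕ) (i : ℕ) (t : ℕ × ℕ) : Bool :=
  inRange T t && decide (i < T.N) && pts (fun x => elt T g (app (T.R i) x)) (elt T t)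

def moves (g : ℕ × ℕ) : List ℕ → List (ℕ × ℕ) → Bool
  | [], [] => true
  | i :: is, t :: ts => move T g i t && moves g is ts
  | _, _ => false

structure Base where
  a : ℕ × ℕ
  b : ℕ × ℕ
  o : ℕ
  L : List ℕ
  ta : List (ℕ × ℕ)
  tb : List (ℕ × ℕ)

def iter (f : Fin 9 → Fin 9) : ℕ → Fin 9 → Fin 9
  | 0, x => x
  | n + 1, x => f (iter f n x)

def baseOk (B : Base) : Bool :=
  inRange T B.a && inRange T B.b && (decide (B.o = 5) || decide (B.o = 7))
    && pts (iter (elt T B.a) 2) id && pts (iter (elt T B.b) 3) id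
    && pts (iter (fun x => elt T B.a (elt T B.b x)) B.o) id && !(pts (elt T B.a) id)
    && moves T B.a B.L B.ta && List.isPerm (B.ta.map Prod.fst) B.L
    && moves T B.b B.L B.tb && List.isPerm (B.tb.map Prod.fst) B.L

structure Term where
  g : ℕ × ℕ
  base : ℕ
  t : List (ℕ × ℕ)

def termOk (bs : List Base) (u : Term) : Bool :=
  inRange T u.g && (match bs[u.base]? with
    | some B => moves T u.g B.L u.t
    | none => false)

def mask : List (ℕ × ℕ) → ℕ
  | [] => 0
  | t :: ts => 2 ^ t.1 ^^^ mask ts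

def maskAll : List Term → ℕ
  | [] => 0
  | u :: us => mask u.t ^^^ maskAll us

/-- The realisation facts about the tables. -/
structure Valid : Prop where
  realR : ∀ i, i < T.N → ∃ σ : A9, ∀ x, (σ : Equiv.Perm (Fin 9)) x = app (T.R i) x
  one : 0 < T.N ∧ ∀ x, app (T.R 0) x = x
  sone : ∀ x, app (T.S 0) x = x
  spar : ∀ r, r < 64 → r ≠ 0 → (T.spar r).1 < r ∧ ∃ q, T.sgen[(T.spar r).2]? = some q ∧
    ∀ x, app (T.S r) x = app q (app (T.S (T.spar r).1) x)
  sreal : ∀ q ∈ T.sgen, ∃ σ : A9, ∀ x, (σ : Equiv.Perm (Fin 9)) x = app q x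
  sclosed : ∀ q ∈ T.sgen, ∀ r, r < 64 → ∃ r', r' < 64 ∧ ∀ x, app q (app (T.S r) x) = app (T.S r') x
  sexp : ∀ r, r < 64 → ∀ x, iter (app (T.S r)) 8 x = x

variable {T}

theorem iter_pow (σ : A9) (f : Fin 9 → Fin 9) (h : ∀ x, (σ : Equiv.Perm (Fin 9)) x = f x) :
    ∀ n x, ((σ ^ n : A9) : Equiv.Perm (Fin 9)) x = iter f n x
  | 0, x => by simp [iter]
  | n + 1, x => by
    rw [pow_succ', Subgroup.coe_mul, Equiv.Perm.mul_apply, iter_pow σ f h n x, h]
    rfl

theorem ext9 {σ τ : A9} (h : ∀ x, (σ : Equiv.Perm (Fin 9)) x = (τ : Equiv.Perm (Fin 9)) x) : σ = τ :=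
  Subtype.ext (Equiv.ext h)

theorem closure_not_solvable {A : Type*} [Group A] (a b : A) (o : ℕ) (ho : o = 5 ∨ o = 7) (ha : a ^ 2 = 1) (hb : b ^ 3 = 1)
    (hab : (a * b) ^ o = 1) (ha1 : a ≠ 1) : ¬ Group.IsSolvable (Subgroup.closure ({a, b} : Set A)) := by
  intro hs
  set K := Subgroup.closure ({a, b} : Set A)
  have haK : a ∈ K := Subgroup.subset_closure (by simp)
  have hbK : b ∈ K := Subgroup.subset_closure (by simp)
  let f : K →* Abelianization K := Abelianization.of
  set x := f ⟨a, haK⟩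
  set y := f ⟨b, hbK⟩
  have hx : x ^ 2 = 1 := by rw [← map_pow]; convert map_one f using 2; exact Subtype.ext ha
  have hy : y ^ 3 = 1 := by rw [← map_pow]; convert map_one f using 2; exact Subtype.ext hb
  have hxy : (x * y) ^ o = 1 := by rw [← map_mul, ← map_pow]; convert map_one f using 2; exact Subtype.ext hab
  have h6 : (x * y) ^ 6 = 1 := by
    rw [mul_pow, show (6 : ℕ) = 2 * 3 from rfl, pow_mul x, hx, one_pow, show (2 * 3 : ℕ) = 3 * 2 from rfl, pow_mul y, hy,
      one_pow, one_mul]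
  have hxy1 : x * y = 1 := by
    have h : (x * y) ^ Nat.gcd o 6 = 1 := pow_gcd_eq_one.2 ⟨hxy, h6⟩
    rcases ho with rfl | rfl <;> simpa using h
  have hx1 : x = 1 := by
    have hxinv : y = x⁻¹ := eq_inv_of_mul_eq_one_right hxy1
    have h3 : x ^ 3 = 1 := by rw [hxinv, inv_pow, inv_eq_one] at hy; exact hy
    rwa [pow_succ, hx, one_mul] at h3
  have hy1 : y = 1 := by rwa [hx1, one_mul] at hxy1
  have htop : commutator K = ⊤ := by
    rw [eq_top_iff]
    rintro ⟨z, hz⟩ -
    rw [← Abelianization.ker_of, MonoidHom.mem_ker]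
    revert hz
    refine fun hz => Subgroup.closure_induction (p := fun z hz => f ⟨z, hz⟩ = 1) ?_ ?_ ?_ ?_ hz
    · intro z hz
      rcases hz with rfl | rfl
      · exact hx1
      · exact hy1
    · exact map_one f
    · intro u w hu hw h1 h2
      rw [show (⟨u * w, _⟩ : K) = ⟨u, hu⟩ * ⟨w, hw⟩ from rfl, map_mul, h1, h2, one_mul]
    · intro u hu h1
      rw [show (⟨u⁻¹, _⟩ : K) = ⟨u, hu⟩⁻¹ from rfl, map_inv, h1, inv_one]
  haveI : Nontrivial K := ⟨⟨⟨a, haK⟩, 1, fun h => ha1 (congrArg Subtype.val h)⟩⟩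
  exact (Group.IsSolvable.commutator_lt_top_of_nontrivial K).ne htop

variable {V : Type u} [CommGroup V] [Finite V]

/-- The soundness of the certificate. -/
theorem moduleLemma_of_cert (hT : Valid T) (bs : List Base) (ts : List Term)
    (hbs : ∀ B ∈ bs, baseOk T B = true) (hts : ∀ u ∈ ts, termOk T bs u = true) (hmask : maskAll ts = 1) :
    ModuleLemma.{u} 2 9 := by
  intro V _ _ _ φ hV
  by_contra hno
  push_neg at hno
  classical
  -- a nontrivial fixed vector of the Sylow group
  let sG : Set A9 := {σ | ∃ q ∈ T.sgen, ∀ x, (σ : Equiv.Perm (Fin 9)) x = app q x}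
  let U : Subgroup A9 := Subgroup.closure sG
  have hU : ∀ σ ∈ U, ∃ r, r < 64 ∧ ∀ x, (σ : Equiv.Perm (Fin 9)) x = app (T.S r) x := by
    intro σ hσ
    rw [← Subgroup.mem_toSubmonoid, Subgroup.closure_toSubmonoid_of_finite] at hσ
    refine Submonoid.closure_induction_left (s := sG) (motive := fun σ _ => ∃ r, r < 64 ∧ ∀ x, (σ : Equiv.Perm (Fin 9)) x = app (T.S r) x)
      ?_ ?_ hσ
    · exact ⟨0, by norm_num, fun x => by simp [hT.sone]⟩
    · rintro q ⟨c, hc, hq⟩ y - ⟨r, hr, hy⟩
      obtain ⟨r', hr', h⟩ := hT.sclosed c hc r hr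
      exact ⟨r', hr', fun x => by rw [Subgroup.coe_mul, Equiv.Perm.mul_apply, hy, hq, h]⟩
  have hUp : IsPGroup 2 U := fun σ => ⟨3, by
    obtain ⟨r, hr, h⟩ := hU σ.1 σ.2
    refine Subtype.ext (ext9 fun x => ?_)
    rw [SubgroupClass.coe_pow, iter_pow _ _ h]
    simpa using hT.sexp r hr x⟩
  letI : MulAction U V := MulAction.compHom V (φ.comp U.subtype)
  haveI : Fact (Nat.Prime 2) := ⟨Nat.prime_two⟩
  have hVp : IsPGroup 2 V := fun v => ⟨1, by simpa using hV v⟩
  have hdvd : 2 ∣ Nat.card V := by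
    obtain ⟨n, hn⟩ := hVp.exists_card_eq
    rcases n with _ | n
    · exact absurd hn (by simpa using (Finite.one_lt_card (α := V)).ne')
    · exact hn ▸ dvd_pow_self 2 n.succ_ne_zero
  obtain ⟨v, hvfix, hv1⟩ := hUp.exists_fixed_point_of_prime_dvd_card_of_fixed_point V hdvd
    (a := 1) (fun σ => map_one (φ σ.1))
  replace hv1 : v ≠ 1 := fun h => hv1 h.symm
  have hfix : ∀ r, r < 64 → ∃ σ : A9, (∀ x, (σ : Equiv.Perm (Fin 9)) x = app (T.S r) x) ∧ φ σ v = v := by
    intro r
    induction r using Nat.strong_induction_on with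
    | _ r ih =>
      intro hr
      by_cases h0 : r = 0
      · subst h0
        exact ⟨1, fun x => by simp [hT.sone], by simp⟩
      · obtain ⟨hlt, q, hq, hx⟩ := hT.spar r hr h0
        obtain ⟨τ, hτ, hτv⟩ := ih _ hlt (hlt.trans hr)
        have hmem : q ∈ T.sgen := List.mem_of_getElem? hq
        obtain ⟨σ, hσ⟩ := hT.sreal q hmem
        have hσv : φ σ v = v := hvfix ⟨σ, Subgroup.subset_closure ⟨q, hmem, hσ⟩⟩
        exact ⟨σ * τ, fun x => by rw [Subgroup.coe_mul, Equiv.Perm.mul_apply, hτ, hσ, hx],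
          by rw [map_mul, MulAut.mul_apply, hτv, hσv]⟩
  -- coset representatives
  let ρ : ℕ → A9 := fun i => if h : i < T.N then (hT.realR i h).choose else 1
  let s : ℕ → A9 := fun r => if h : r < 64 then (hfix r h).choose else 1
  have hρ : ∀ i, i < T.N → ∀ x, (ρ i : Equiv.Perm (Fin 9)) x = app (T.R i) x := fun i hi x => by
    simp only [ρ, dif_pos hi]; exact (hT.realR i hi).choose_spec x
  have hs : ∀ r, r < 64 → (∀ x, (s r : Equiv.Perm (Fin 9)) x = app (T.S r) x) ∧ φ (s r) v = v := fun r hr => by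
    simp only [s, dif_pos hr]; exact (hfix r hr).choose_spec
  have helt : ∀ g, inRange T g = true → ∀ x, ((ρ g.1 * s g.2 : A9) : Equiv.Perm (Fin 9)) x = elt T g x := by
    intro g hg x
    simp only [inRange, Bool.and_eq_true, decide_eq_true_eq] at hg
    rw [Subgroup.coe_mul, Equiv.Perm.mul_apply, (hs _ hg.2).1, hρ _ hg.1]
    rfl
  let F : ℕ → V := fun i => φ (ρ i) v
  have hmove : ∀ g i t, inRange T g = true → move T g i t = true → φ (ρ g.1 * s g.2) (F i) = F t.1 := by
    intro g i t hg hm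
    simp only [move, Bool.and_eq_true, decide_eq_true_eq, pts_iff] at hm
    obtain ⟨⟨ht, hi⟩, hx⟩ := hm
    have he : ρ g.1 * s g.2 * ρ i = ρ t.1 * s t.2 := ext9 fun x => by
      rw [helt t ht, Subgroup.coe_mul, Equiv.Perm.mul_apply, helt g hg, hρ i hi, hx]
    have ht' := ht
    simp only [inRange, Bool.and_eq_true, decide_eq_true_eq] at ht'
    show φ _ (φ (ρ i) v) = φ (ρ t.1) v
    rw [← MulAut.mul_apply, ← map_mul, he, map_mul, MulAut.mul_apply, (hs _ ht'.2).2]
  have hmoves : ∀ g (is : List ℕ) (tl : List (ℕ × ℕ)), inRange T g = true → moves T g is tl = true →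
      φ (ρ g.1 * s g.2) (is.map F).prod = ((tl.map Prod.fst).map F).prod := by
    intro g is
    induction is with
    | nil => intro tl hg h; cases tl <;> simp [moves] at h ⊢
    | cons i is ih =>
      intro tl hg h
      cases tl with
      | nil => simp [moves] at h
      | cons t tl =>
        simp only [moves, Bool.and_eq_true] at h
        simp only [List.map_cons, List.prod_cons]
        rw [map_mul (φ (ρ g.1 * s g.2)), hmove g i t hg h.1, ih tl hg h.2]
  have hbase : ∀ B ∈ bs, (B.L.map F).prod = 1 := by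
    intro B hB
    have h := hbs B hB
    simp only [baseOk, Bool.and_eq_true, Bool.or_eq_true, decide_eq_true_eq, pts_iff,
      List.isPerm_iff, id_eq] at h
    obtain ⟨⟨⟨⟨⟨⟨⟨⟨⟨⟨ha, hb⟩, ho⟩, ha2⟩, hb3⟩, hab⟩, ha1⟩, hma⟩, hpa⟩, hmb⟩, hpb⟩ := h
    set a := ρ B.a.1 * s B.a.2
    set b := ρ B.b.1 * s B.b.2
    by_contra hne
    have hfa : φ a (B.L.map F).prod = (B.L.map F).prod := by rw [hmoves _ _ _ ha hma, (hpa.map F).prod_eq]
    have hfb : φ b (B.L.map F).prod = (B.L.map F).prod := by rw [hmoves _ _ _ hb hmb, (hpb.map F).prod_eq]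
    have hns : ¬ Group.IsSolvable (Subgroup.closure ({a, b} : Set A9)) := closure_not_solvable a b B.o ho
      (ext9 fun x => by rw [iter_pow a _ (helt _ ha)]; simpa using ha2 x)
      (ext9 fun x => by rw [iter_pow b _ (helt _ hb)]; simpa using hb3 x)
      (ext9 fun x => by
        rw [iter_pow (a * b) (fun x => elt T B.a (elt T B.b x))
          (fun x => by rw [Subgroup.coe_mul, Equiv.Perm.mul_apply, helt _ hb, helt _ ha])]
        simpa using hab x)
      (fun h1 => by
        have hpt : pts (elt T B.a) id = true := pts_iff.2 fun x => by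
          rw [← helt _ ha x]; show ((a : A9) : Equiv.Perm (Fin 9)) x = _; rw [h1]; rfl
        simp [hpt] at ha1)
    obtain ⟨g, hg, hgv⟩ := hno _ hne _ hns
    refine hgv ?_
    clear hgv
    induction hg using Subgroup.closure_induction with
    | mem z hz =>
      rcases hz with rfl | rfl
      · exact hfa
      · exact hfb
    | one => simp
    | mul y z _ _ hy hz => rw [map_mul, MulAut.mul_apply, hz, hy]
    | inv y _ hy =>
      have e1 : φ y⁻¹ (φ y (B.L.map F).prod) = (B.L.map F).prod := by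
        rw [← MulAut.mul_apply, ← map_mul, inv_mul_cancel, map_one, MulAut.one_apply]
      rwa [hy] at e1
  -- the parity map
  let ψ : ℕ → V := fun m => ∏ i ∈ Finset.range T.N, if Nat.testBit m i then F i else 1
  have hψ : ∀ m n, ψ (m ^^^ n) = ψ m * ψ n := fun m n => by
    simp only [ψ, ← Finset.prod_mul_distrib]
    refine Finset.prod_congr rfl fun i _ => ?_
    rw [Nat.testBit_xor]
    cases Nat.testBit m i <;> cases Nat.testBit n i <;> simp [← pow_two, hV]
  have hpow : ∀ i, i < T.N → ψ (2 ^ i) = F i := fun i hi => by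
    show ∏ j ∈ Finset.range T.N, _ = _
    rw [Finset.prod_eq_single i (fun j _ hji => by simp [Nat.testBit_two_pow, Ne.symm hji])
      (fun h => absurd (Finset.mem_range.2 hi) h)]
    simp [Nat.testBit_two_pow]
  have hψ0 : ψ 0 = 1 := Finset.prod_eq_one fun i _ => by simp
  have hmaskF : ∀ g (is : List ℕ) (tl : List (ℕ × ℕ)), moves T g is tl = true →
      ψ (mask tl) = ((tl.map Prod.fst).map F).prod := by
    intro g is tl
    induction tl generalizing is with
    | nil => intro _; simpa [mask] using hψ0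
    | cons t tl ih =>
      intro h
      cases is with
      | nil => simp [moves] at h
      | cons i is =>
        simp only [moves, move, inRange, Bool.and_eq_true, decide_eq_true_eq] at h
        simp only [mask, List.map_cons, List.prod_cons, hψ, hpow _ h.1.1.1.1, ih is h.2]
  have hall : ψ (maskAll ts) = 1 := by
    clear hmask
    induction ts with
    | nil => exact hψ0
    | cons u us ih =>
      rw [maskAll, hψ, ih fun z hz => hts z (List.mem_cons_of_mem _ hz), mul_one]
      have h := hts u (List.mem_cons_self ..)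
      simp only [termOk, Bool.and_eq_true] at h
      obtain ⟨hg, h⟩ := h
      cases hB : bs[u.base]? with
      | none => simp [hB] at h
      | some B =>
        simp only [hB] at h
        rw [hmaskF _ _ _ h, ← hmoves _ _ _ hg h, hbase B (List.mem_of_getElem? hB), map_one]
  have h1 : ψ 1 = v := by
    rw [show (1 : ℕ) = 2 ^ 0 from rfl, hpow 0 hT.one.1]
    show φ (ρ 0) v = v
    rw [show ρ 0 = 1 from ext9 fun x => by rw [hρ 0 hT.one.1, hT.one.2]; rfl, map_one, MulAut.one_apply]
  rw [hmask, h1] at hall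
  exact hv1 hall

end Cfsg.Agent.AltCent86.Two
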