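import Mathlib

/-!
Involutions of alternating groups and the derived subgroup of their centralizers; facts for degrees at most five.
-/

set_option autoImplicit false
set_option maxRecDepth 8000

namespace Cfsg.Agent.AltCommCent91

open Equiv Equiv.Perm
open scoped commutatorElement

variable {α : Type*} [Fintype α] [DecidableEq α]

theorem swap_commute {a : Perm α} {z w : α} (h : (a z = z ∧ a w = w) ∨ (a z = w ∧ a w = z)) :
    a * swap z w = swap z w * a := by
  rw [mul_swap_eq_swap_mul]
  rcases h with ⟨h1, h2⟩ | ⟨h1, h2⟩ <;> rw [h1, h2]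
  rw [swap_comm]

theorem sign_two_swaps {p q r s : α} (hpq : p ≠ q) (hrs : r ≠ s) : swap p q * swap r s ∈ alternatingGroup α := by
  rw [mem_alternatingGroup, map_mul, sign_swap hpq, sign_swap hrs]
  decide

/-- Two transpositions of an involution form a commutator in its centralizer. -/
theorem pair_mem (hα : 6 ≤ Fintype.card α) (a : alternatingGroup α) (ha : ∀ x, (a : Perm α) ((a : Perm α) x) = x)
    {p q r s : α} (hp : (a : Perm α) p = q) (hr : (a : Perm α) r = s) (hpq : p ≠ q) (hrs : r ≠ s)
    (hrp : r ≠ p) (hrq : r ≠ q) :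
    (⟨swap p q * swap r s, sign_two_swaps hpq hrs⟩ : alternatingGroup α) ∈
      ⁅Subgroup.centralizer ({a} : Set (alternatingGroup α)), Subgroup.centralizer ({a} : Set (alternatingGroup α))⁆ := by
  classical
  have hq : (a : Perm α) q = p := by rw [← hp, ha]
  have hs : (a : Perm α) s = r := by rw [← hr, ha]
  have hsp : s ≠ p := fun e => hrq (by rw [← hs, e, hp])
  have hsq : s ≠ q := fun e => hrp (by rw [← hs, e, hq])
  set Q : Finset α := {p, q, r, s} with hQ
  have hQc : Q.card ≤ 4 := Finset.card_le_four
  obtain ⟨z, w, hzw, hz, hw, hzwc⟩ : ∃ z w, z ≠ w ∧ z ∉ Q ∧ w ∉ Q ∧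
      (((a : Perm α) z = z ∧ (a : Perm α) w = w) ∨ ((a : Perm α) z = w ∧ (a : Perm α) w = z)) := by
    by_cases h : ∃ z, z ∉ Q ∧ (a : Perm α) z ≠ z
    · obtain ⟨z, hz, hne⟩ := h
      refine ⟨z, (a : Perm α) z, fun e => hne e.symm, hz, fun hw => hz ?_, Or.inr ⟨rfl, ha z⟩⟩
      simp only [hQ, Finset.mem_insert, Finset.mem_singleton] at hw ⊢
      rw [← ha z]
      rcases hw with e | e | e | e <;> simp [e, hp, hq, hr, hs]
    · push Not at h
      have h2 : 1 < Qᶜ.card := by rw [Finset.card_compl]; omega
      obtain ⟨z, hz, w, hw, hne⟩ := Finset.one_lt_card.1 h2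
      rw [Finset.mem_compl] at hz hw
      exact ⟨z, w, hne, hz, hw, Or.inl ⟨h z hz, h w hw⟩⟩
  simp only [hQ, Finset.mem_insert, Finset.mem_singleton, not_or] at hz hw
  obtain ⟨hzp, hzq, hzr, hzs⟩ := hz
  obtain ⟨hwp, hwq, hwr, hws⟩ := hw
  set u : Perm α := swap p r * swap q s with hu
  have up : u p = r := by simp [hu, swap_apply_of_ne_of_ne hpq hsp.symm]
  have uq : u q = s := by simp [hu, swap_apply_of_ne_of_ne hsp hrs.symm]
  have ur : u r = p := by simp [hu, swap_apply_of_ne_of_ne hrq hrs]
  have us : u s = q := by simp [hu, swap_apply_of_ne_of_ne hpq.symm hrq.symm]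
  have uz : u z = z := by simp [hu, swap_apply_of_ne_of_ne hzq hzs, swap_apply_of_ne_of_ne hzp hzr]
  have uw : u w = w := by simp [hu, swap_apply_of_ne_of_ne hwq hws, swap_apply_of_ne_of_ne hwp hwr]
  have hcpr : swap p r * swap q s = swap q s * swap p r :=
    swap_commute (Or.inl ⟨swap_apply_of_ne_of_ne hpq.symm hrq.symm, swap_apply_of_ne_of_ne hsp hrs.symm⟩)
  have huu : u * u = 1 := by
    rw [hu]
    nth_rewrite 2 [hcpr]
    rw [mul_assoc, ← mul_assoc (swap q s), swap_mul_self, one_mul, swap_mul_self]
  set v : Perm α := swap p q * swap z w with hv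
  have hcv : swap p q * swap z w = swap z w * swap p q :=
    swap_commute (Or.inl ⟨swap_apply_of_ne_of_ne hzp hzq, swap_apply_of_ne_of_ne hwp hwq⟩)
  have hvv : v * v = 1 := by
    rw [hv]
    nth_rewrite 2 [hcv]
    rw [mul_assoc, ← mul_assoc (swap z w), swap_mul_self, one_mul, swap_mul_self]
  have huz : u * swap z w = swap z w * u := swap_commute (Or.inl ⟨uz, uw⟩)
  have hupq : u * swap p q = swap r s * u := by rw [mul_swap_eq_swap_mul, up, uq]
  have hau : (a : Perm α) * u = u * a := by
    have e1 : (a : Perm α) * swap p r = swap q s * a := by rw [mul_swap_eq_swap_mul, hp, hr]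
    have e2 : (a : Perm α) * swap q s = swap p r * a := by rw [mul_swap_eq_swap_mul, hq, hs]
    rw [hu, ← mul_assoc, e1, mul_assoc, e2, ← mul_assoc, hcpr]
  have hav : (a : Perm α) * v = v * a := by
    rw [hv, ← mul_assoc, swap_commute (a := (a : Perm α)) (Or.inr ⟨hp, hq⟩), mul_assoc, swap_commute hzwc,
      ← mul_assoc]
  let U : alternatingGroup α := ⟨u, sign_two_swaps hrp.symm hsq.symm⟩
  let V : alternatingGroup α := ⟨v, sign_two_swaps hpq hzw⟩
  have hU : U ∈ Subgroup.centralizer ({a} : Set (alternatingGroup α)) :=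
    Subgroup.mem_centralizer_singleton_iff.2 (Subtype.ext hau.symm)
  have hV : V ∈ Subgroup.centralizer ({a} : Set (alternatingGroup α)) :=
    Subgroup.mem_centralizer_singleton_iff.2 (Subtype.ext hav.symm)
  have hUV : (⟨swap p q * swap r s, sign_two_swaps hpq hrs⟩ : alternatingGroup α) = ⁅U, V⁆ := by
    apply Subtype.ext
    rw [commutatorElement_def]
    show swap p q * swap r s = u * v * u⁻¹ * v⁻¹
    rw [inv_eq_of_mul_eq_one_right huu, inv_eq_of_mul_eq_one_right hvv]
    have hprs : swap p q * swap r s = swap r s * swap p q :=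
      swap_commute (Or.inl ⟨swap_apply_of_ne_of_ne hrp hrq, swap_apply_of_ne_of_ne hsp hsq⟩)
    symm
    calc u * v * u * v = (u * swap p q) * (swap z w * u) * v := by rw [hv]; group
      _ = swap r s * u * (u * swap z w) * (swap p q * swap z w) := by rw [hupq, huz, hv]
      _ = swap r s * (u * u) * (swap z w * swap p q) * swap z w := by group
      _ = swap r s * (swap p q * swap z w) * swap z w := by rw [huu, mul_one, hcv]
      _ = swap r s * swap p q * (swap z w * swap z w) := by group
      _ = _ := by rw [swap_mul_self, mul_one, hprs]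
  rw [hUV]
  exact Subgroup.commutator_mem_commutator hU hV

/-- In degree at least six an involution lies in the derived subgroup of its centralizer. -/
theorem mem_commutator_centralizer (hα : 6 ≤ Fintype.card α) (a : alternatingGroup α) (ha : a * a = 1) :
    a ∈ ⁅Subgroup.centralizer ({a} : Set (alternatingGroup α)), Subgroup.centralizer ({a} : Set (alternatingGroup α))⁆ := by
  classical
  have ha' : ∀ x, (a : Perm α) ((a : Perm α) x) = x := fun x => by
    have h := congrArg (fun g : alternatingGroup α => (g : Perm α) x) ha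
    simpa using h
  suffices H : ∀ n, ∀ b : alternatingGroup α, (Finset.univ.filter fun x => (b : Perm α) x ≠ x).card ≤ n →
      (∀ x, (b : Perm α) x = x ∨ (b : Perm α) x = (a : Perm α) x) →
      b ∈ ⁅Subgroup.centralizer ({a} : Set (alternatingGroup α)), Subgroup.centralizer ({a} : Set (alternatingGroup α))⁆ from
    H _ a le_rfl fun x => Or.inr rfl
  intro n
  induction n with
  | zero =>
    intro b hb _
    have : b = 1 := by
      apply Subtype.ext
      ext x
      have h : x ∉ Finset.univ.filter fun x => (b : Perm α) x ≠ x := by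
        rw [Finset.card_eq_zero.1 (Nat.le_zero.1 hb)]; simp
      simpa using h
    rw [this]
    exact one_mem _
  | succ n ih =>
    intro b hb hsub
    by_cases hb1 : b = 1
    · rw [hb1]; exact one_mem _
    obtain ⟨p, hp⟩ : ∃ p, (b : Perm α) p ≠ p := by
      by_contra h
      push Not at h
      exact hb1 (Subtype.ext (Equiv.ext h))
    have hbp : (b : Perm α) p = (a : Perm α) p := (hsub p).resolve_left hp
    set q := (a : Perm α) p with hq
    have hpq : p ≠ q := fun e => hp (hbp.trans e.symm)
    have hbq : (b : Perm α) q = p := by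
      rcases hsub q with e | e
      · exact absurd ((b : Perm α).injective (hbp.trans e.symm)) hpq
      · rw [e, ha']
    obtain ⟨r, hr, hrp, hrq⟩ : ∃ r, (b : Perm α) r ≠ r ∧ r ≠ p ∧ r ≠ q := by
      by_contra h
      push Not at h
      have hbs : (b : Perm α) = swap p q := by
        ext x
        by_cases hxp : x = p
        · rw [hxp, hbp, swap_apply_left]
        by_cases hxq : x = q
        · rw [hxq, hbq, swap_apply_right]
        rw [swap_apply_of_ne_of_ne hxp hxq]
        by_contra hx
        exact hxq (h x hx hxp)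
      have hs := mem_alternatingGroup.1 b.2
      rw [hbs, sign_swap hpq] at hs
      exact absurd hs (by decide)
    have hbr : (b : Perm α) r = (a : Perm α) r := (hsub r).resolve_left hr
    set s := (a : Perm α) r with hs
    have hrs : r ≠ s := fun e => hr (hbr.trans e.symm)
    have hsp : s ≠ p := fun e => hrq (by rw [hq, ← e, hs, ha'])
    have hsq : s ≠ q := fun e => hrp ((a : Perm α).injective e)
    have hbs : (b : Perm α) s = r := by
      rcases hsub s with e | e
      · exact absurd ((b : Perm α).injective (hbr.trans e.symm)) hrs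
      · rw [e, hs, ha']
    set c : alternatingGroup α := ⟨swap p q * swap r s, sign_two_swaps hpq hrs⟩ with hc
    have hcmem := pair_mem hα a ha' rfl rfl hpq hrs hrp hrq
    have hfix : ∀ x, x = p ∨ x = q ∨ x = r ∨ x = s → ((b * c : alternatingGroup α) : Perm α) x = x := by
      intro x hx
      show (b : Perm α) (swap p q (swap r s x)) = x
      rcases hx with rfl | rfl | rfl | rfl
      · rw [swap_apply_of_ne_of_ne hrp.symm hsp.symm, swap_apply_left, hbq]
      · rw [swap_apply_of_ne_of_ne hrq.symm hsq.symm, swap_apply_right, hbp]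
      · rw [swap_apply_left, swap_apply_of_ne_of_ne hsp hsq, hbs]
      · rw [swap_apply_right, swap_apply_of_ne_of_ne hrp hrq, hbr]
    have hother : ∀ x, ¬ (x = p ∨ x = q ∨ x = r ∨ x = s) → ((b * c : alternatingGroup α) : Perm α) x = (b : Perm α) x := by
      intro x hx
      push Not at hx
      show (b : Perm α) (swap p q (swap r s x)) = (b : Perm α) x
      rw [swap_apply_of_ne_of_ne hx.2.2.1 hx.2.2.2, swap_apply_of_ne_of_ne hx.1 hx.2.1]
    have hmem := ih (b * c) ?_ ?_
    · have h := Subgroup.mul_mem _ hmem (Subgroup.inv_mem _ hcmem)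
      rwa [mul_inv_cancel_right] at h
    · have hlt : (Finset.univ.filter fun x => ((b * c : alternatingGroup α) : Perm α) x ≠ x).card <
          (Finset.univ.filter fun x => (b : Perm α) x ≠ x).card := by
        apply Finset.card_lt_card
        rw [Finset.ssubset_iff_of_subset]
        · exact ⟨p, by simp [hbp, hpq.symm], by simp only [Finset.mem_filter, Finset.mem_univ, true_and, ne_eq, not_not]; exact hfix p (Or.inl rfl)⟩
        · intro x hx
          simp only [Finset.mem_filter, Finset.mem_univ, true_and] at hx ⊢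
          by_cases h : x = p ∨ x = q ∨ x = r ∨ x = s
          · exact absurd (hfix x h) hx
          · rwa [hother x h] at hx
      omega
    · intro x
      by_cases h : x = p ∨ x = q ∨ x = r ∨ x = s
      · exact Or.inl (hfix x h)
      · rw [hother x h]; exact hsub x

/-! ### Small degrees -/

theorem no_involution {m : ℕ} (hm : m ≤ 3) (a : alternatingGroup (Fin m)) (ha : a * a = 1) : a = 1 := by
  interval_cases m <;> revert a <;> decide +kernel

/-- The properties of the alternating groups of degree four and five that are needed. -/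
structure Small (A : Type*) [Group A] : Prop where
  conj : ∀ a b : A, a * a = 1 → b * b = 1 → a ≠ 1 → b ≠ 1 → ∃ c, c * a * c⁻¹ = b
  pow8 : ∀ a : A, a ^ 8 = 1 → a * a = 1
  ndvd : ¬ 8 ∣ Nat.card A
  dvd : 4 ∣ Nat.card A
  four : ∀ a : A, a * a = 1 → a ≠ 1 → ∃ b, b * b = 1 ∧ b ≠ 1 ∧ b ≠ a ∧ a * b = b * a
  prod : ∀ x : A, x ≠ 1 → x * x ≠ 1 → ∃ c, ∃ y ∈ [x, x * x, x⁻¹],
    x * (c * y * c⁻¹) ≠ 1 ∧ x * (c * y * c⁻¹) * (x * (c * y * c⁻¹)) = 1

theorem card_four : Nat.card (alternatingGroup (Fin 4)) = 12 := by
  rw [Nat.card_eq_fintype_card]; decide +kernel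

theorem card_five : Nat.card (alternatingGroup (Fin 5)) = 60 := by
  rw [Nat.card_eq_fintype_card]; decide +kernel

theorem small_four : Small (alternatingGroup (Fin 4)) where
  conj := by decide +kernel
  pow8 := by decide +kernel
  ndvd := by rw [card_four]; norm_num
  dvd := by rw [card_four]; norm_num
  four := by decide +kernel
  prod := by decide +kernel

theorem small_five : Small (alternatingGroup (Fin 5)) where
  conj := by decide +kernel
  pow8 := by decide +kernel
  ndvd := by rw [card_five]; norm_num
  dvd := by rw [card_five]; norm_num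
  four := by decide +kernel
  prod := by decide +kernel

theorem five_noncomm : ∃ a b : alternatingGroup (Fin 5), a * a = 1 ∧ b * b = 1 ∧ a * b ≠ b * a := by
  decide +kernel

theorem four_comm : ∀ a b : alternatingGroup (Fin 4), a * a = 1 → b * b = 1 → a * b = b * a := by
  decide +kernel

theorem four_noncentral : ∀ x : alternatingGroup (Fin 4), x ^ 3 = 1 → x ≠ 1 → ∃ a, a * a = 1 ∧ x * a ≠ a * x := by
  decide +kernel

theorem four_exists_three : ∃ x : alternatingGroup (Fin 4), x ^ 3 = 1 ∧ x ≠ 1 := by decide +kernel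

end Cfsg.Agent.AltCommCent91
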