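import Mathlib

/-!
Every even permutation of at least five points is a product of two permutations of one cycle type,
each even and with at least two 2-cycles.
-/

set_option autoImplicit false

namespace Cfsg.Agent.PermTwinFactor20

open Equiv Equiv.Perm

variable {α : Type*} [Fintype α] [DecidableEq α]

/-- `σ` is a product, inside its support, of permutations of cycle types `A` and `B`. -/
def Dec (σ : Perm α) (A B : Multiset ℕ) : Prop :=
  ∃ h v : Perm α, h * v = σ ∧ h.support ⊆ σ.support ∧ v.support ⊆ σ.support ∧
    h.cycleType = A ∧ v.cycleType = B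

theorem Dec.mul {σ τ : Perm α} {A B C D : Multiset ℕ} (hd : Perm.Disjoint σ τ) (h1 : Dec σ A B)
    (h2 : Dec τ C D) : Dec (σ * τ) (A + C) (B + D) := by
  obtain ⟨h, v, rfl, hh, hv, rfl, rfl⟩ := h1
  obtain ⟨h', v', rfl, hh', hv', rfl, rfl⟩ := h2
  have hdd := disjoint_iff_disjoint_support.1 hd
  have d1 : Perm.Disjoint h h' := disjoint_iff_disjoint_support.2 (hdd.mono hh hh')
  have d2 : Perm.Disjoint v v' := disjoint_iff_disjoint_support.2 (hdd.mono hv hv')
  have d3 : Perm.Disjoint v h' := disjoint_iff_disjoint_support.2 (hdd.mono hv hh')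
  refine ⟨h * h', v * v', ?_, ?_, ?_, d1.cycleType_mul, d2.cycleType_mul⟩
  · rw [mul_assoc, ← mul_assoc h', ← d3.commute.eq]; simp only [mul_assoc]
  · rw [d1.support_mul, hd.support_mul]; exact Finset.union_subset_union hh hh'
  · rw [d2.support_mul, hd.support_mul]; exact Finset.union_subset_union hv hv'

theorem Dec.symm {σ : Perm α} {A B : Multiset ℕ} (h1 : Dec σ A B) : Dec σ B A := by
  obtain ⟨h, v, rfl, hh, hv, rfl, rfl⟩ := h1
  refine ⟨v, v⁻¹ * h * v, by group, hv, ?_, rfl, ?_⟩
  · rw [mul_assoc]
    refine (support_mul_le _ _).trans (Finset.union_subset ?_ (le_refl _))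
    rw [support_inv]; exact hv
  · have e : v⁻¹ * h * v = v⁻¹ * h * v⁻¹⁻¹ := by rw [inv_inv]
    rw [e, cycleType_conj]

theorem Dec.conj {σ τ : Perm α} {A B : Multiset ℕ} (h1 : Dec σ A B)
    (he : τ.cycleType = σ.cycleType) : Dec τ A B := by
  obtain ⟨h, v, rfl, hh, hv, rfl, rfl⟩ := h1
  obtain ⟨g, rfl⟩ := isConj_iff.1 (isConj_iff_cycleType_eq.2 he.symm)
  refine ⟨g * h * g⁻¹, g * v * g⁻¹, by group, ?_, ?_, cycleType_conj, cycleType_conj⟩
  · rw [support_conj, support_conj]; exact Finset.map_subset_map.2 hh
  · rw [support_conj, support_conj]; exact Finset.map_subset_map.2 hv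

theorem Dec.of_model {k : ℕ} {s : Perm (Fin k)} {A B : Multiset ℕ} (h1 : Dec s A B)
    {σ : Perm α} (he : σ.cycleType = s.cycleType) (hk : k ≤ Fintype.card α) : Dec σ A B := by
  obtain ⟨f⟩ : Nonempty (Fin k ↪ α) := Function.Embedding.nonempty_of_card_le (by simpa using hk)
  obtain ⟨h, v, rfl, hh, hv, rfl, rfl⟩ := h1
  classical
  let e : Fin k ≃ {x // x ∈ Set.range f} := Equiv.ofInjective f f.injective
  have hs : ∀ u : Perm (Fin k), (u.extendDomain e).support = u.support.map e.asEmbedding :=
    fun u => support_extend_domain e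
  refine Dec.conj (σ := (h * v).extendDomain e) ⟨h.extendDomain e, v.extendDomain e,
    by rw [extendDomain_mul], ?_, ?_, cycleType_extendDomain e, cycleType_extendDomain e⟩
    (by rw [he, cycleType_extendDomain e])
  · rw [hs, hs]; exact Finset.map_subset_map.2 hh
  · rw [hs, hs]; exact Finset.map_subset_map.2 hv

theorem cycleType_invol {h : Perm α} (h2 : h * h = 1) :
    h.cycleType = Multiset.replicate (h.support.card / 2) 2 := by
  have he : ∀ k ∈ h.cycleType, k = 2 := fun k hk => by
    have h3 : k ∣ 2 := (dvd_of_mem_cycleType hk).trans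
      (orderOf_dvd_of_pow_eq_one (by rw [pow_two]; exact h2))
    have h4 := two_le_of_mem_cycleType hk
    have h5 := Nat.le_of_dvd (by norm_num) h3
    omega
  have e := Multiset.eq_replicate_card.2 he
  have hs := sum_cycleType h
  rw [e, Multiset.sum_replicate, smul_eq_mul] at hs
  rw [← hs, Nat.mul_div_cancel _ (by norm_num)]
  exact e

/-- Multiplying an involution by a transposition joining two of its 2-cycles. -/
theorem cycleType_invol_mul_swap {h : Perm α} (h2 : h * h = 1) {x y : α} (hx : h x ≠ x)
    (hy : h y ≠ y) (hxy : y ≠ x) (hxy' : y ≠ h x) :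
    (h * swap x y).cycleType = 4 ::ₘ Multiset.replicate (h.support.card / 2 - 2) 2 := by
  have hh : ∀ z, h (h z) = z := fun z => by rw [← Perm.mul_apply, h2, Perm.one_apply]
  have n1 : h y ≠ x := fun e => hxy' (by rw [← e, hh])
  have n2 : h y ≠ h x := fun e => hxy (h.injective e)
  set q : Perm α := [x, h y, y, h x].formPerm with hq
  set r : Perm α := swap x (h x) * swap y (h y) * h with hr
  have hnd : [x, h y, y, h x].Nodup := by
    simp only [List.nodup_cons, List.mem_cons, List.not_mem_nil, or_false, List.nodup_nil,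
      and_true, not_or]
    exact ⟨⟨fun e => n1 e.symm, fun e => hxy e.symm, fun e => hx e.symm⟩, ⟨hy, n2⟩, hxy', not_false⟩
  have hqc : q.cycleType = {4} := by
    have hsupp : q.support.card = 4 := by
      rw [hq, List.support_formPerm_of_nodup _ hnd (by simp), List.toFinset_card_of_nodup hnd]
      rfl
    rw [(List.isCycle_formPerm hnd (by simp)).cycleType, ← hq, hsupp]
  have rfix : ∀ z, z = x ∨ z = h x ∨ z = y ∨ z = h y → r z = z := by
    rintro z (rfl | rfl | rfl | rfl)
    · simp only [hr, Perm.mul_apply]
      rw [swap_apply_of_ne_of_ne (a := y) (fun e => hxy' e.symm) (fun e => n2 e.symm),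
        swap_apply_right]
    · simp only [hr, Perm.mul_apply, hh]
      rw [swap_apply_of_ne_of_ne (a := y) (Ne.symm hxy) (Ne.symm n1), swap_apply_left]
    · simp only [hr, Perm.mul_apply]
      rw [swap_apply_right, swap_apply_of_ne_of_ne hxy hxy']
    · simp only [hr, Perm.mul_apply, hh]
      rw [swap_apply_left, swap_apply_of_ne_of_ne n1 n2]
  have rmove : ∀ z, z ≠ x → z ≠ h x → z ≠ y → z ≠ h y → r z = h z := by
    intro z a b c d
    have e1 : h z ≠ x := fun e => b (by rw [← e, hh])
    have e2 : h z ≠ h x := fun e => a (h.injective e)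
    have e3 : h z ≠ y := fun e => d (by rw [← e, hh])
    have e4 : h z ≠ h y := fun e => c (h.injective e)
    simp [hr, Perm.mul_apply, swap_apply_of_ne_of_ne, e1, e2, e3, e4]
  have hr2 : r * r = 1 := by
    ext z
    rw [Perm.mul_apply, Perm.one_apply]
    by_cases hz : z = x ∨ z = h x ∨ z = y ∨ z = h y
    · rw [rfix z hz, rfix z hz]
    · push Not at hz
      obtain ⟨a, b, c, d⟩ := hz
      rw [rmove z a b c d, rmove (h z) (fun e => b (by rw [← e, hh])) (fun e => a (h.injective e))
        (fun e => d (by rw [← e, hh])) (fun e => c (h.injective e)), hh]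
  have hqs : q.support = {x, h y, y, h x} := by
    rw [hq, List.support_formPerm_of_nodup _ hnd (by simp)]
    ext; simp
  have hd : Perm.Disjoint q r := by
    intro z
    by_cases hz : z ∈ q.support
    · rw [hqs] at hz
      simp only [Finset.mem_insert, Finset.mem_singleton] at hz
      exact Or.inr (rfix z (by tauto))
    · exact Or.inl (notMem_support.1 hz)
  have hprod : h * swap x y = q * r := by
    ext z
    rw [Perm.mul_apply, Perm.mul_apply]
    by_cases hz : z = x ∨ z = h x ∨ z = y ∨ z = h y
    · rw [rfix z hz]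
      rcases hz with rfl | rfl | rfl | rfl
      · rw [swap_apply_left, hq, List.formPerm_apply_head _ _ _ hnd]
      · rw [swap_apply_of_ne_of_ne hx (fun e => hxy' e.symm), hh, hq]
        exact (List.formPerm_apply_getLast x [h y, y, h x]).symm
      · rw [swap_apply_right, hq]
        exact (List.formPerm_apply_lt_getElem _ hnd 2 (by simp)).symm
      · rw [swap_apply_of_ne_of_ne n1 hy, hh, hq]
        exact (List.formPerm_apply_lt_getElem _ hnd 1 (by simp)).symm
    · push Not at hz
      obtain ⟨a, b, c, d⟩ := hz
      rw [rmove z a b c d, swap_apply_of_ne_of_ne a c, eq_comm, ← notMem_support, hqs]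
      simp only [Finset.mem_insert, Finset.mem_singleton, not_or]
      exact ⟨fun e => b (by rw [← e, hh]), fun e => c (h.injective e),
        fun e => d (by rw [← e, hh]), fun e => a (h.injective e)⟩
  have hrs : h.support = q.support ∪ r.support := by
    ext z
    rw [hqs]
    simp only [Finset.mem_union, mem_support, Finset.mem_insert, Finset.mem_singleton]
    by_cases hz : z = x ∨ z = h x ∨ z = y ∨ z = h y
    · have : h z ≠ z := by
        rcases hz with rfl | rfl | rfl | rfl
        exacts [hx, fun e => hx (h.injective e), hy, fun e => hy (h.injective e)]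
      tauto
    · push Not at hz
      obtain ⟨a, b, c, d⟩ := hz
      rw [rmove z a b c d]
      tauto
  have hcard : h.support.card = 4 + r.support.card := by
    rw [hrs, Finset.card_union_of_disjoint (disjoint_iff_disjoint_support.1 hd), ← sum_cycleType q,
      hqc, Multiset.sum_singleton]
  rw [hprod, hd.cycleType_mul, hqc, cycleType_invol hr2, hcard,
    show (4 + r.support.card) / 2 - 2 = r.support.card / 2 by omega, Multiset.singleton_add]

section Model

variable {k : ℕ}

theorem cycleType_rot (hk : 2 ≤ k) : (finRotate k).cycleType = {k} := by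
  obtain ⟨m, rfl⟩ : ∃ m, k = m + 2 := ⟨k - 2, by omega⟩
  exact cycleType_finRotate

theorem val_rot (i : Fin k) :
    ((finRotate k i : Fin k) : ℕ) = if (i : ℕ) + 1 = k then 0 else (i : ℕ) + 1 := by
  obtain ⟨m, rfl⟩ : ∃ m, k = m + 1 := ⟨k - 1, by have := i.2; omega⟩
  rw [coe_finRotate]
  simp [Fin.ext_iff, Fin.val_last]

/-- The second reflection. -/
def refl' (k : ℕ) : Perm (Fin k) := Fin.revPerm * finRotate k

theorem val_refl (i : Fin k) :
    ((refl' k i : Fin k) : ℕ) = if (i : ℕ) + 1 = k then k - 1 else k - 2 - (i : ℕ) := by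
  have := i.2
  rw [refl', Perm.mul_apply, Fin.revPerm_apply, Fin.val_rev, val_rot]
  split_ifs <;> omega

theorem refl_sq : refl' k * refl' k = 1 := by
  ext i
  have := i.2
  rw [Perm.mul_apply, Perm.one_apply, val_refl, val_refl]
  split_ifs <;> omega

theorem rev_sq : (Fin.revPerm : Perm (Fin k)) * Fin.revPerm = 1 := by
  ext i; simp

theorem rev_mul_refl : Fin.revPerm * refl' k = finRotate k := by
  rw [refl', ← mul_assoc, rev_sq, one_mul]

theorem card_rev (hk : 2 ≤ k) : (Fin.revPerm : Perm (Fin k)).support.card / 2 = k / 2 := by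
  rcases Nat.even_or_odd' k with ⟨t, rfl | rfl⟩
  · have : (Fin.revPerm : Perm (Fin (2 * t))).support = Finset.univ := by
      ext i
      have := i.2
      simp only [mem_support, Finset.mem_univ, iff_true, ne_eq, Fin.ext_iff, Fin.revPerm_apply,
        Fin.val_rev]
      omega
    rw [this, Finset.card_univ, Fintype.card_fin]
  · have : (Fin.revPerm : Perm (Fin (2 * t + 1))).support =
        Finset.univ.erase ⟨t, by omega⟩ := by
      ext i
      have := i.2
      simp only [mem_support, Finset.mem_erase, Finset.mem_univ, and_true, ne_eq, Fin.ext_iff,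
        Fin.revPerm_apply, Fin.val_rev]
      omega
    rw [this, Finset.card_erase_of_mem (Finset.mem_univ _), Finset.card_univ, Fintype.card_fin]
    omega

theorem card_refl (hk : 2 ≤ k) : (refl' k).support.card / 2 = (k - 1) / 2 := by
  rcases Nat.even_or_odd' k with ⟨t, rfl | rfl⟩
  · have : (refl' (2 * t)).support =
        (Finset.univ.erase ⟨2 * t - 1, by omega⟩).erase ⟨t - 1, by omega⟩ := by
      ext i
      have := i.2
      simp only [mem_support, Finset.mem_erase, Finset.mem_univ, and_true, ne_eq, Fin.ext_iff,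
        val_refl]
      split_ifs <;> omega
    rw [this, Finset.card_erase_of_mem, Finset.card_erase_of_mem (Finset.mem_univ _),
      Finset.card_univ, Fintype.card_fin]
    · omega
    · simp [Fin.ext_iff]; omega
  · have : (refl' (2 * t + 1)).support = Finset.univ.erase ⟨2 * t, by omega⟩ := by
      ext i
      have := i.2
      simp only [mem_support, Finset.mem_erase, Finset.mem_univ, and_true, ne_eq, Fin.ext_iff,
        val_refl]
      split_ifs <;> omega
    rw [this, Finset.card_erase_of_mem (Finset.mem_univ _), Finset.card_univ, Fintype.card_fin]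

theorem support_rot (hk : 2 ≤ k) : (finRotate k).support = Finset.univ := by
  obtain ⟨m, rfl⟩ : ∃ m, k = m + 2 := ⟨k - 2, by omega⟩
  exact support_finRotate

theorem dec_rot (hk : 2 ≤ k) : Dec (finRotate k) (Multiset.replicate (k / 2) 2)
    (Multiset.replicate ((k - 1) / 2) 2) := by
  refine ⟨Fin.revPerm, refl' k, rev_mul_refl, by simp [support_rot hk], by simp [support_rot hk],
    ?_, ?_⟩
  · rw [cycleType_invol rev_sq, card_rev hk]
  · rw [cycleType_invol refl_sq, card_refl hk]

theorem dec_rot_flip (hk : 5 ≤ k) : Dec (finRotate k)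
    (4 ::ₘ Multiset.replicate (k / 2 - 2) 2) (4 ::ₘ Multiset.replicate ((k - 1) / 2 - 2) 2) := by
  let x : Fin k := ⟨0, by omega⟩
  let y : Fin k := ⟨1, by omega⟩
  refine ⟨Fin.revPerm * swap x y, swap x y * refl' k, ?_, by simp [support_rot (by omega : 2 ≤ k)],
    by simp [support_rot (by omega : 2 ≤ k)], ?_, ?_⟩
  · rw [mul_assoc, ← mul_assoc (swap x y), swap_mul_self, one_mul, rev_mul_refl]
  · rw [cycleType_invol_mul_swap rev_sq, card_rev (by omega)]
    all_goals simp only [x, y, ne_eq, Fin.ext_iff, Fin.revPerm_apply, Fin.val_rev]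
    all_goals omega
  · have e : swap x y * refl' k = (refl' k * swap x y)⁻¹ := by
      rw [mul_inv_rev, swap_inv, eq_comm]
      congr 1
      exact inv_eq_of_mul_eq_one_right refl_sq
    rw [e, cycleType_inv, cycleType_invol_mul_swap refl_sq, card_refl (by omega)]
    all_goals simp only [x, y, ne_eq, Fin.ext_iff, val_refl]
    all_goals (try split_ifs) <;> omega

end Model

theorem support_card_le (σ : Perm α) : σ.support.card ≤ Fintype.card α := Finset.card_le_univ _

theorem dec_cycle {c : Perm α} (hc : c.IsCycle) :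
    Dec c (Multiset.replicate (c.support.card / 2) 2)
      (Multiset.replicate ((c.support.card - 1) / 2) 2) :=
  (dec_rot hc.two_le_card_support).of_model
    (by rw [cycleType_rot hc.two_le_card_support, hc.cycleType]) (support_card_le c)

theorem dec_cycle_flip {c : Perm α} (hc : c.IsCycle) (h5 : 5 ≤ c.support.card) :
    Dec c (4 ::ₘ Multiset.replicate (c.support.card / 2 - 2) 2)
      (4 ::ₘ Multiset.replicate ((c.support.card - 1) / 2 - 2) 2) :=
  (dec_rot_flip h5).of_model
    (by rw [cycleType_rot hc.two_le_card_support, hc.cycleType]) (support_card_le c)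

/-- Two disjoint cycles of one length. -/
theorem dec_pair {c d : Perm α} (hc : c.IsCycle) (hd : d.IsCycle) (hdis : Perm.Disjoint c d)
    (he : c.support.card = d.support.card) :
    Dec (c * d) (Multiset.replicate c.support.card 2) (Multiset.replicate c.support.card 2) := by
  obtain ⟨g, hg⟩ := isConj_iff.1 (isConj_iff_cycleType_eq.2
    (show c.cycleType = d⁻¹.cycleType by rw [cycleType_inv, hc.cycleType, hd.cycleType, he]))
  have hsd : ∀ x, x ∈ c.support → g x ∈ d.support := by
    intro x hx
    have : d⁻¹.support = c.support.map g.toEmbedding := by rw [← hg, support_conj]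
    rw [← support_inv, this]
    exact Finset.mem_map.2 ⟨x, hx, rfl⟩
  have hsd' : ∀ y, y ∈ d.support → g⁻¹ y ∈ c.support := by
    intro y hy
    have : d⁻¹.support = c.support.map g.toEmbedding := by rw [← hg, support_conj]
    rw [← support_inv, this] at hy
    obtain ⟨x, hx, rfl⟩ := Finset.mem_map.1 hy
    simpa using hx
  have hcd := disjoint_iff_disjoint_support.1 hdis
  let f : α → α := fun x => if x ∈ c.support then g x else if x ∈ d.support then g⁻¹ x else x
  have fc : ∀ x, x ∈ c.support → f x = g x := fun x hx => if_pos hx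
  have fd : ∀ x, x ∈ d.support → f x = g⁻¹ x := fun x hx =>
    (if_neg (Finset.disjoint_right.1 hcd hx)).trans (if_pos hx)
  have fo : ∀ x, x ∉ c.support → x ∉ d.support → f x = x := fun x hx hx' =>
    (if_neg hx).trans (if_neg hx')
  have ff : ∀ x, f (f x) = x := by
    intro x
    by_cases h1 : x ∈ c.support
    · rw [fc x h1, fd _ (hsd x h1)]; simp
    by_cases h2 : x ∈ d.support
    · rw [fd x h2, fc _ (hsd' x h2)]; simp
    rw [fo x h1 h2, fo x h1 h2]
  let h : Perm α := ⟨f, f, ff, ff⟩
  have hh : ∀ x, h x = f x := fun _ => rfl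
  have h2 : h * h = 1 := by ext x; simp [hh, ff]
  have kc : ∀ x, x ∈ c.support → (c * d) x = c x := fun x hx => by
    rw [Perm.mul_apply, notMem_support.1 (Finset.disjoint_left.1 hcd hx)]
  have kd : ∀ x, x ∈ d.support → (c * d) x = d x := fun x hx => by
    rw [Perm.mul_apply, notMem_support.1 (Finset.disjoint_right.1 hcd (apply_mem_support.2 hx))]
  have hgc : ∀ x, d (g (c x)) = g x := fun x => by
    have : d⁻¹ (g x) = g (c x) := by rw [← hg]; simp
    rw [← this]; simp
  have hinv : ∀ x, h ((c * d) (h ((c * d) x))) = x := by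
    intro x
    simp only [hh]
    by_cases h1 : x ∈ c.support
    · rw [kc x h1, fc _ (apply_mem_support.2 h1), kd _ (hsd _ (apply_mem_support.2 h1)), hgc,
        fd _ (hsd x h1)]
      simp
    by_cases h2 : x ∈ d.support
    · rw [kd x h2, fd _ (apply_mem_support.2 h2)]
      have hu := hsd' _ (apply_mem_support.2 h2)
      rw [kc _ hu, fc _ (apply_mem_support.2 hu)]
      have := hgc (g⁻¹ (d x))
      rw [show g (g⁻¹ (d x)) = d x by simp] at this
      exact d.injective this
    · rw [show (c * d) x = x by
        rw [Perm.mul_apply, notMem_support.1 h2, notMem_support.1 h1], fo x h1 h2,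
        show (c * d) x = x by rw [Perm.mul_apply, notMem_support.1 h2, notMem_support.1 h1],
        fo x h1 h2]
  set v : Perm α := h * (c * d) with hv
  have hv2 : v * v = 1 := by ext x; simpa [hv, Perm.mul_apply] using hinv x
  have hsh : h.support = (c * d).support := by
    rw [hdis.support_mul]
    ext x
    rw [mem_support, hh, Finset.mem_union]
    by_cases h1 : x ∈ c.support
    · rw [fc x h1]
      exact iff_of_true (fun e => Finset.disjoint_left.1 hcd h1 (e ▸ hsd x h1)) (Or.inl h1)
    by_cases h2 : x ∈ d.support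
    · rw [fd x h2]
      exact iff_of_true (fun e => h1 (e ▸ hsd' x h2)) (Or.inr h2)
    simp [fo x h1 h2, h1, h2]
  have hsv : v.support = (c * d).support := by
    rw [hdis.support_mul]
    ext x
    rw [mem_support, Finset.mem_union, hv, Perm.mul_apply, hh]
    by_cases h1 : x ∈ c.support
    · rw [kc x h1, fc _ (apply_mem_support.2 h1)]
      exact iff_of_true (fun e => Finset.disjoint_left.1 hcd h1
        (e ▸ hsd _ (apply_mem_support.2 h1))) (Or.inl h1)
    by_cases h2 : x ∈ d.support
    · rw [kd x h2, fd _ (apply_mem_support.2 h2)]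
      exact iff_of_true (fun e => h1 (e ▸ hsd' _ (apply_mem_support.2 h2))) (Or.inr h2)
    rw [show (c * d) x = x by rw [Perm.mul_apply, notMem_support.1 h2, notMem_support.1 h1],
      fo x h1 h2]
    simp [h1, h2]
  have hcard : (c * d).support.card / 2 = c.support.card := by
    rw [hdis.card_support_mul, ← he]; omega
  refine ⟨h, v, by rw [hv, ← mul_assoc, h2, one_mul], hsh.le, hsv.le, ?_, ?_⟩
  · rw [cycleType_invol h2, hsh, hcard]
  · rw [cycleType_invol hv2, hsv, hcard]

/-- The reflection length of a permutation. -/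
def len (σ : Perm α) : ℕ := (σ.cycleType.map fun k => k - 1).sum

theorem len_mul {σ τ : Perm α} (hd : Perm.Disjoint σ τ) : len (σ * τ) = len σ + len τ := by
  rw [len, hd.cycleType_mul, Multiset.map_add, Multiset.sum_add]; rfl

theorem len_cycle {c : Perm α} (hc : c.IsCycle) : len c = c.support.card - 1 := by
  simp [len, hc.cycleType]

/-- Balanced products of involutions. -/
theorem dec_invol (σ : Perm α) : Dec σ (Multiset.replicate ((len σ + 1) / 2) 2)
    (Multiset.replicate (len σ / 2) 2) := by
  induction σ using cycle_induction_on with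
  | base_one => exact ⟨1, 1, by simp, by simp, by simp, by simp [len], by simp [len]⟩
  | base_cycles c hc =>
    have := hc.two_le_card_support
    rw [len_cycle hc, show (c.support.card - 1 + 1) / 2 = c.support.card / 2 by omega]
    exact dec_cycle hc
  | induction_disjoint σ τ hd _ h1 h2 =>
    rw [len_mul hd]
    rcases Nat.even_or_odd' (len σ) with ⟨a, e | e⟩ <;>
      rcases Nat.even_or_odd' (len τ) with ⟨b, e' | e'⟩ <;> rw [e] at h1 <;> rw [e'] at h2 <;>
      rw [e, e']
    rotate_left 3
    · have h := h1.mul hd h2.symm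
      simp only [← Multiset.replicate_add] at h
      convert h using 2 <;> congr 1 <;> omega
    all_goals
      have h := h1.mul hd h2
      simp only [← Multiset.replicate_add] at h
      convert h using 2 <;> congr 1 <;> omega

theorem sign_eq (σ : Perm α) : Perm.sign σ = (-1) ^ len σ := by
  induction σ using cycle_induction_on with
  | base_one => simp [len]
  | base_cycles c hc =>
    have := hc.two_le_card_support
    rw [len_cycle hc, hc.sign, ← pow_sub_one_mul (by omega : c.support.card ≠ 0)]
    simp
  | induction_disjoint σ τ hd _ h1 h2 => rw [map_mul, h1, h2, len_mul hd, pow_add]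

theorem even_len {σ : Perm α} (h : Perm.sign σ = 1) : Even (len σ) := by
  rw [sign_eq] at h
  exact (neg_one_pow_eq_one_iff_even (by decide)).1 h

/-- Even, and with two 2-cycles. -/
def Good (T : Multiset ℕ) : Prop := 2 ≤ T.count 2 ∧ Even (T.map fun k => k - 1).sum

/-- Twin factorisation. -/
def Twin (σ : Perm α) : Prop :=
  ∃ h v : Perm α, h * v = σ ∧ h.cycleType = v.cycleType ∧ Good h.cycleType

theorem Dec.twin {σ : Perm α} {A B : Multiset ℕ} (h : Dec σ A B) (hAB : A = B) (hA : Good A) :
    Twin σ := by
  obtain ⟨h, v, e, -, -, rfl, rfl⟩ := h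
  exact ⟨h, v, e, hAB, hA⟩

theorem good_replicate {j : ℕ} (h2 : 2 ≤ j) (he : Even j) : Good (Multiset.replicate j 2) := by
  refine ⟨by rw [Multiset.count_replicate_self]; exact h2, ?_⟩
  simpa using he

theorem good_cons_replicate {j : ℕ} (h2 : 2 ≤ j) (he : Odd j) :
    Good (4 ::ₘ Multiset.replicate j 2) := by
  refine ⟨by rw [Multiset.count_cons_of_ne (by norm_num), Multiset.count_replicate_self]; exact h2,
    ?_⟩
  simp only [Multiset.map_cons, Multiset.map_replicate, Multiset.sum_cons, Multiset.sum_replicate]
  rcases he with ⟨a, rfl⟩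
  exact ⟨a + 2, by simp; ring⟩

theorem good_three_replicate {j : ℕ} (h2 : 2 ≤ j) (he : Even j) :
    Good (3 ::ₘ Multiset.replicate j 2) := by
  refine ⟨by rw [Multiset.count_cons_of_ne (by norm_num), Multiset.count_replicate_self]; exact h2,
    ?_⟩
  simp only [Multiset.map_cons, Multiset.map_replicate, Multiset.sum_cons, Multiset.sum_replicate]
  rcases he with ⟨a, rfl⟩
  exact ⟨a + 1, by simp; ring⟩

theorem good_223 : Good {2, 2, 3} := ⟨by decide, by decide⟩

theorem dec_seven {σ : Perm α} (h : σ.cycleType = {7}) : Dec σ {2, 2, 3} {2, 2, 3} := by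
  refine Dec.of_model (k := 7) (s := finRotate 7) ?_ (by rw [h, cycleType_rot (by norm_num)]) ?_
  · let e : Fin 7 ≃ Fin 7 := ⟨![2, 5, 0, 6, 1, 4, 3], ![2, 4, 0, 6, 5, 1, 3], by decide, by decide⟩
    refine ⟨e, e.symm * finRotate 7, by ext i; simp, by simp [support_rot], by simp [support_rot],
      ?_, ?_⟩ <;> decide +kernel
  · have := sum_cycleType_le σ
    rw [h] at this
    simpa using this

theorem dec_six_two {σ : Perm α} (h : σ.cycleType = {6, 2}) : Dec σ {2, 2, 3} {2, 2, 3} := by
  let s : Perm (Fin 8) := ⟨![1, 2, 3, 4, 5, 0, 7, 6], ![5, 0, 1, 2, 3, 4, 7, 6], by decide, by decide⟩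
  have hs : s.support = Finset.univ := by decide +kernel
  refine Dec.of_model (k := 8) (s := s) ?_ (by rw [h]; decide +kernel) ?_
  · let e : Fin 8 ≃ Fin 8 :=
      ⟨![0, 2, 1, 6, 7, 3, 5, 4], ![0, 2, 1, 5, 7, 6, 3, 4], by decide, by decide⟩
    refine ⟨e, e.symm * s, by ext i; simp, by simp [hs], by simp [hs], ?_, ?_⟩ <;> decide +kernel
  · have := sum_cycleType_le σ
    rw [h] at this
    simpa using this

theorem three_cases (m : Multiset ℕ) (h2 : ∀ k ∈ m, 2 ≤ k) (hs : (m.map fun k => k - 1).sum = 2) :
    m = {3} ∨ m = {2, 2} := by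
  induction m using Multiset.induction_on with
  | empty => simp at hs
  | cons a m _ =>
    have ha := h2 a (Multiset.mem_cons_self _ _)
    rw [Multiset.map_cons, Multiset.sum_cons] at hs
    induction m using Multiset.induction_on with
    | empty => simp at hs; left; rw [show a = 3 by omega]; rfl
    | cons b m _ =>
      have hb := h2 b (by simp)
      rw [Multiset.map_cons, Multiset.sum_cons] at hs
      induction m using Multiset.induction_on with
      | empty =>
        simp at hs; right; rw [show a = 2 by omega, show b = 2 by omega]; rfl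
      | cons c m _ =>
        have hc := h2 c (by simp)
        rw [Multiset.map_cons, Multiset.sum_cons] at hs
        omega

theorem one_case (m : Multiset ℕ) (h2 : ∀ k ∈ m, 2 ≤ k) (hs : (m.map fun k => k - 1).sum = 1) :
    m = {2} := by
  induction m using Multiset.induction_on with
  | empty => simp at hs
  | cons a m _ =>
    have ha := h2 a (Multiset.mem_cons_self _ _)
    rw [Multiset.map_cons, Multiset.sum_cons] at hs
    induction m using Multiset.induction_on with
    | empty => simp at hs; rw [show a = 2 by omega]; rfl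
    | cons b m _ =>
      have hb := h2 b (by simp)
      rw [Multiset.map_cons, Multiset.sum_cons] at hs
      omega

theorem zero_case (m : Multiset ℕ) (h2 : ∀ k ∈ m, 2 ≤ k)
    (hs : (m.map fun k => k - 1).sum = 0) : m = 0 := by
  induction m using Multiset.induction_on with
  | empty => rfl
  | cons a m _ =>
    have ha := h2 a (Multiset.mem_cons_self _ _)
    rw [Multiset.map_cons, Multiset.sum_cons] at hs
    omega

theorem exists_four (h5 : 4 ≤ Fintype.card α) :
    ∃ a b c d : α, a ≠ b ∧ a ≠ c ∧ a ≠ d ∧ b ≠ c ∧ b ≠ d ∧ c ≠ d := by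
  obtain ⟨f⟩ : Nonempty (Fin 4 ↪ α) := Function.Embedding.nonempty_of_card_le (by simpa using h5)
  exact ⟨f 0, f 1, f 2, f 3, by simp, by simp, by simp, by simp, by simp, by simp⟩

theorem twin (h5 : 5 ≤ Fintype.card α) (σ : Perm α) (hσ : Perm.sign σ = 1) : Twin σ := by
  obtain ⟨j, hj⟩ := even_len hσ
  have h0 := dec_invol σ
  rw [show (len σ + 1) / 2 = j by omega, show len σ / 2 = j by omega] at h0
  rcases Nat.even_or_odd j with hje | hjo
  · rcases Nat.eq_zero_or_pos j with rfl | hjp
    · obtain ⟨a, b, c, d, hab, hac, had, hbc, hbd, hcd⟩ := exists_four (α := α) (by omega)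
      have hσ1 : σ = 1 := cycleType_eq_zero.1 (zero_case _ (fun k => two_le_of_mem_cycleType) hj)
      have hd : Perm.Disjoint (swap a b) (swap c d) := disjoint_iff_disjoint_support.2 (by
        rw [support_swap hab, support_swap hcd]
        simp [hac, had, hbc, hbd, Ne.symm hac, Ne.symm had, Ne.symm hbc, Ne.symm hbd])
      refine ⟨swap a b * swap c d, (swap a b * swap c d)⁻¹, by rw [hσ1, mul_inv_cancel],
        (cycleType_inv _).symm, ?_⟩
      rw [hd.cycleType_mul, (swap_isSwap_iff.2 hab).isCycle.cycleType,
        (swap_isSwap_iff.2 hcd).isCycle.cycleType, support_swap hab, support_swap hcd,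
        Finset.card_pair hab, Finset.card_pair hcd]
      exact ⟨by decide, by decide⟩
    · exact h0.twin rfl (good_replicate (by rcases hje with ⟨i, hi⟩; omega) hje)
  -- `j` odd
  obtain ⟨i, hi⟩ := hjo
  by_cases hf : σ.support.card + 2 ≤ Fintype.card α
  · obtain ⟨h, v, e, hh, hv, hA, hB⟩ := h0
    obtain ⟨a, ha, b, hb, hab⟩ := Finset.one_lt_card.1
      (show 1 < (σ.supportᶜ).card by rw [Finset.card_compl]; omega)
    rw [Finset.mem_compl] at ha hb
    have hd : ∀ u : Perm α, u.support ⊆ σ.support → Perm.Disjoint u (swap a b) := fun u hu =>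
      disjoint_iff_disjoint_support.2 (by
        rw [support_swap hab]
        simp only [Finset.disjoint_insert_right, Finset.disjoint_singleton_right]
        exact ⟨fun h' => ha (hu h'), fun h' => hb (hu h')⟩)
    have hct : ∀ u : Perm α, u.support ⊆ σ.support → u.cycleType = Multiset.replicate j 2 →
        (u * swap a b).cycleType = Multiset.replicate (j + 1) 2 := fun u hu h' => by
      rw [(hd u hu).cycleType_mul, h', (swap_isSwap_iff.2 hab).isCycle.cycleType, support_swap hab,
        Finset.card_pair hab, Multiset.replicate_succ, add_comm, Multiset.singleton_add]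
    refine ⟨h * swap a b, v * swap a b, ?_, by rw [hct h hh hA, hct v hv hB], ?_⟩
    · rw [(hd v hv).commute.eq, mul_assoc, ← mul_assoc (swap a b), swap_mul_self, one_mul, e]
    · rw [hct h hh hA]; exact good_replicate (by omega) ⟨i + 1, by omega⟩
  have hfac : ∀ c ∈ σ.cycleFactorsFinset, Perm.Disjoint (σ * c⁻¹) c ∧ σ = c * (σ * c⁻¹) ∧
      len σ = len c + len (σ * c⁻¹) ∧ c.IsCycle ∧
      σ.cycleType = c.support.card ::ₘ (σ * c⁻¹).cycleType := by
    intro c hc
    have hd := disjoint_mul_inv_of_mem_cycleFactorsFinset hc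
    have e : σ = c * (σ * c⁻¹) := by rw [← hd.commute.eq]; group
    have hcc := (mem_cycleFactorsFinset_iff.1 hc).1
    refine ⟨hd, e, ?_, hcc, ?_⟩
    · conv_lhs => rw [e]
      exact len_mul hd.symm
    · conv_lhs => rw [e]
      rw [hd.symm.cycleType_mul, hcc.cycleType, Multiset.singleton_add]
  have hmem : ∀ k ∈ σ.cycleType, ∃ c ∈ σ.cycleFactorsFinset, c.support.card = k := by
    intro k hk
    rw [cycleType_def, Multiset.mem_map] at hk
    obtain ⟨c, hc, e⟩ := hk
    exact ⟨c, hc, e⟩
  by_cases hnd : σ.cycleType.Nodup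
  swap
  · -- two cycles of one length
    rw [Multiset.nodup_iff_count_le_one] at hnd
    push Not at hnd
    obtain ⟨k, hk⟩ := hnd
    obtain ⟨c, hc, hck⟩ := hmem k (Multiset.count_pos.1 (by omega))
    obtain ⟨hd, e, hl, hcc, hct⟩ := hfac c hc
    have hk' : k ∈ (σ * c⁻¹).cycleType := by
      rw [hct, hck, Multiset.count_cons_self] at hk
      exact Multiset.count_pos.1 (by omega)
    rw [cycleType_def, Multiset.mem_map] at hk'
    obtain ⟨d, hdm, hdk⟩ := hk'
    have hdm' : d ∈ (σ * c⁻¹).cycleFactorsFinset := hdm
    replace hdk : d.support.card = k := hdk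
    have hd2 := disjoint_mul_inv_of_mem_cycleFactorsFinset hdm'
    have hdc := (mem_cycleFactorsFinset_iff.1 hdm').1
    set ρ := σ * c⁻¹ * d⁻¹ with hρ
    have hcd : Perm.Disjoint c d := disjoint_iff_disjoint_support.2
      ((disjoint_iff_disjoint_support.1 hd.symm).mono_right
        (mem_cycleFactorsFinset_support_le hdm'))
    have e1 : σ * c⁻¹ = d * ρ := by rw [← hd2.commute.eq, hρ]; group
    have hcdρ : Perm.Disjoint (c * d) ρ := by
      refine Disjoint.mul_left ?_ hd2.symm
      refine disjoint_iff_disjoint_support.2 ((disjoint_iff_disjoint_support.1 hd.symm).mono_right ?_)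
      rw [e1, hd2.symm.support_mul]
      exact Finset.subset_union_right
    have e2 : σ = c * d * ρ := by rw [mul_assoc, ← e1]; exact e
    have hk2 := hcc.two_le_card_support
    have hlρ : len σ = (k - 1) + (k - 1) + len ρ := by
      rw [e2, len_mul hcdρ, len_mul hcd, len_cycle hcc, len_cycle hdc, hck, hdk]
    have H := (dec_pair hcc hdc hcd (hck.trans hdk.symm)).mul hcdρ (dec_invol ρ)
    rw [← e2, hck, show (len ρ + 1) / 2 = j + 1 - k by omega, show len ρ / 2 = j + 1 - k by omega,
      ← Multiset.replicate_add, show k + (j + 1 - k) = j + 1 by omega] at H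
    exact H.twin rfl (good_replicate (by omega) ⟨i + 1, by omega⟩)
  by_cases h3 : 3 ∈ σ.cycleType
  · obtain ⟨c, hc, hck⟩ := hmem 3 h3
    obtain ⟨hd, e, hl, hcc, hct⟩ := hfac c hc
    rw [len_cycle hcc, hck] at hl
    have hj3 : j ≠ 1 := by
      intro hj1
      have := zero_case _ (fun k => two_le_of_mem_cycleType)
        (show ((σ * c⁻¹).cycleType.map fun k => k - 1).sum = 0 by
          change len (σ * c⁻¹) = 0; omega)
      have hs := sum_cycleType σ
      rw [hct, this, hck] at hs
      simp at hs
      omega
    have h3c : IsThreeCycle c := card_support_eq_three_iff.1 hck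
    have hcs : Dec c {3} {3} := by
      refine ⟨c * c, c * c, ?_, (support_mul_le _ _).trans (by simp), (support_mul_le _ _).trans
        (by simp), h3c.isThreeCycle_sq, h3c.isThreeCycle_sq⟩
      have : c ^ 3 = 1 := by rw [← h3c.orderOf, pow_orderOf_eq_one]
      calc c * c * (c * c) = c ^ 3 * c := by simp only [pow_succ, pow_zero, one_mul, mul_assoc]
        _ = c := by rw [this, one_mul]
    have H := hcs.mul hd.symm (dec_invol (σ * c⁻¹))
    rw [← e, show (len (σ * c⁻¹) + 1) / 2 = j - 1 by omega,
      show len (σ * c⁻¹) / 2 = j - 1 by omega, Multiset.singleton_add] at H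
    exact H.twin rfl (good_three_replicate (by omega) ⟨i, by omega⟩)
  by_cases hbig : ∃ k ∈ σ.cycleType, 5 ≤ k
  · obtain ⟨k, hk, hk5⟩ := hbig
    obtain ⟨c, hc, hck⟩ := hmem k hk
    obtain ⟨hd, e, hl, hcc, hct⟩ := hfac c hc
    rw [len_cycle hcc, hck] at hl
    rw [hck] at hct
    by_cases hj5 : 5 ≤ j
    · have hA := dec_cycle_flip hcc (by omega)
      rw [hck] at hA
      rcases Nat.even_or_odd' k with ⟨s, hs | hs⟩
      · have H := hA.mul hd.symm (dec_invol (σ * c⁻¹)).symm
        rw [← e, Multiset.cons_add, Multiset.cons_add, ← Multiset.replicate_add,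
          ← Multiset.replicate_add, show k / 2 - 2 + len (σ * c⁻¹) / 2 = j - 2 by omega,
          show (k - 1) / 2 - 2 + (len (σ * c⁻¹) + 1) / 2 = j - 2 by omega] at H
        exact H.twin rfl (good_cons_replicate (by omega) ⟨i - 1, by omega⟩)
      · have H := hA.mul hd.symm (dec_invol (σ * c⁻¹))
        rw [← e, Multiset.cons_add, Multiset.cons_add, ← Multiset.replicate_add,
          ← Multiset.replicate_add, show k / 2 - 2 + (len (σ * c⁻¹) + 1) / 2 = j - 2 by omega,
          show (k - 1) / 2 - 2 + len (σ * c⁻¹) / 2 = j - 2 by omega] at H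
        exact H.twin rfl (good_cons_replicate (by omega) ⟨i - 1, by omega⟩)
    · have hj3 : len σ = 6 := by omega
      have h2 : ∀ l ∈ (σ * c⁻¹).cycleType, 2 ≤ l := fun l => two_le_of_mem_cycleType
      have hrest : ((σ * c⁻¹).cycleType.map fun l => l - 1).sum = 6 - (k - 1) := by
        change len (σ * c⁻¹) = _; omega
      have hk7 : k ≤ 7 := by omega
      rcases (show k = 5 ∨ k = 6 ∨ k = 7 by omega) with rfl | rfl | rfl
      · rcases three_cases _ h2 hrest with h' | h' <;> rw [h'] at hct
        · exact absurd (by rw [hct]; simp) h3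
        · rw [hct] at hnd; simp at hnd
      · rw [one_case _ h2 hrest] at hct
        exact (dec_six_two hct).twin rfl good_223
      · rw [zero_case _ h2 hrest] at hct
        exact (dec_seven hct).twin rfl good_223
  · -- only lengths 2 and 4
    exfalso
    push Not at hbig
    have hsub : σ.cycleType ≤ {2, 4} := by
      refine (Multiset.le_iff_subset hnd).2 fun k hk => ?_
      have h1 := hbig k hk
      have h2 := two_le_of_mem_cycleType hk
      have h3' : k ≠ 3 := fun e => h3 (e ▸ hk)
      rcases (show k = 2 ∨ k = 4 by omega) with rfl | rfl <;> simp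
    have hle : len σ ≤ 4 := by
      obtain ⟨r, hr⟩ := Multiset.le_iff_exists_add.1 hsub
      have := congrArg (fun m => (Multiset.map (fun k => k - 1) m).sum) hr
      simp only [Multiset.map_add, Multiset.sum_add] at this
      change _ = len σ + _ at this
      simp at this
      omega
    have hl2 : ((σ.cycleType.map fun k => k - 1)).sum = 2 := by
      change len σ = 2; omega
    rcases three_cases _ (fun k => two_le_of_mem_cycleType) hl2 with h' | h'
    · exact h3 (by rw [h']; simp)
    · rw [h'] at hnd; simp at hnd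

end Cfsg.Agent.PermTwinFactor20
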