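import Mathlib

/-!
A double cover of the alternating group of degree `n`, realised by spin operators over the field of three elements.
The operators act on functions on bit vectors of length `m` (later `m = n + n`, which is even).
-/

set_option autoImplicit false

namespace Cfsg.Agent.AltDoubleCover

/-- operators on bit vectors of length `m`, as matrices -/
abbrev Op (m : ℕ) := Matrix (Fin m → Bool) (Fin m → Bool) (ZMod 3)

def sg (b : Bool) : ZMod 3 := if b then -1 else 1

theorem sg_not (b : Bool) : sg (!b) = -sg b := by cases b <;> simp [sg]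

theorem sg_sq (b : Bool) : sg b * sg b = 1 := by cases b <;> simp [sg]

theorem sg_inj {a b : Bool} (h : sg a = sg b) : a = b := by
  revert h; cases a <;> cases b <;> simp only [sg] <;> decide

variable {m : ℕ}

def flipAt (k : Fin m) (S : Fin m → Bool) : Fin m → Bool := Function.update S k (!S k)

theorem flipAt_flipAt (k : Fin m) (S : Fin m → Bool) : flipAt k (flipAt k S) = S := by
  funext i; by_cases h : i = k
  · subst h; simp [flipAt]
  · simp [flipAt, h]

theorem flipAt_comm (j k : Fin m) (S : Fin m → Bool) :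
    flipAt j (flipAt k S) = flipAt k (flipAt j S) := by
  by_cases h : j = k
  · subst h; rfl
  · funext i
    simp only [flipAt, Function.update_apply]
    split_ifs <;> simp_all

/-- sign of the bits below `k` -/
def sgnLo (k : Fin m) (S : Fin m → Bool) : ZMod 3 := ∏ j, if j < k then sg (S j) else 1

/-- sign of the bits above `k` -/
def sgnHi (k : Fin m) (S : Fin m → Bool) : ZMod 3 := ∏ j, if k < j then sg (S j) else 1

theorem prod_flip (p : Fin m → Prop) [DecidablePred p] (j : Fin m) (S : Fin m → Bool) :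
    (∏ i, if p i then sg (flipAt j S i) else 1) =
      (if p j then (-1 : ZMod 3) else 1) * ∏ i, if p i then sg (S i) else 1 := by
  have h1 : (if p j then (-1 : ZMod 3) else 1) = ∏ i, if i = j then (if p i then -1 else 1) else 1 := by
    simp
  rw [h1, ← Finset.prod_mul_distrib]
  refine Finset.prod_congr rfl fun i _ => ?_
  by_cases h : i = j
  · subst h; by_cases hp : p i <;> simp [hp, flipAt, sg_not]
  · simp [flipAt, h]

theorem sgnLo_flipAt (k j : Fin m) (S : Fin m → Bool) :
    sgnLo k (flipAt j S) = (if j < k then -1 else 1) * sgnLo k S :=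
  prod_flip (fun i => i < k) j S

theorem sgnHi_flipAt (k j : Fin m) (S : Fin m → Bool) :
    sgnHi k (flipAt j S) = (if k < j then -1 else 1) * sgnHi k S :=
  prod_flip (fun i => k < i) j S

theorem prod_sq (p : Fin m → Prop) [DecidablePred p] (S : Fin m → Bool) :
    (∏ i, if p i then sg (S i) else 1) * (∏ i, if p i then sg (S i) else 1) = 1 := by
  rw [← Finset.prod_mul_distrib]
  refine Finset.prod_eq_one fun i _ => ?_
  split_ifs <;> simp [sg_sq]

theorem sgnLo_sq (k : Fin m) (S : Fin m → Bool) : sgnLo k S * sgnLo k S = 1 :=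
  prod_sq (fun i => i < k) S

theorem sgnHi_sq (k : Fin m) (S : Fin m → Bool) : sgnHi k S * sgnHi k S = 1 :=
  prod_sq (fun i => k < i) S

/-- left Clifford generator -/
def gam (k : Fin m) : Op m := Matrix.of fun S T => if T = flipAt k S then sgnLo k S else 0

/-- right Clifford generator -/
def del (k : Fin m) : Op m := Matrix.of fun S T => if T = flipAt k S then sgnHi k S else 0

theorem gam_apply (k : Fin m) (S T : Fin m → Bool) :
    gam k S T = if T = flipAt k S then sgnLo k S else 0 := rfl

theorem del_apply (k : Fin m) (S T : Fin m → Bool) :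
    del k S T = if T = flipAt k S then sgnHi k S else 0 := rfl

theorem gam_mul_apply (k : Fin m) (A : Op m) (S T : Fin m → Bool) :
    (gam k * A) S T = sgnLo k S * A (flipAt k S) T := by
  rw [Matrix.mul_apply, Finset.sum_eq_single (flipAt k S)]
  · simp [gam_apply]
  · intro U _ hU; simp [gam_apply, hU]
  · simp

theorem del_mul_apply (k : Fin m) (A : Op m) (S T : Fin m → Bool) :
    (del k * A) S T = sgnHi k S * A (flipAt k S) T := by
  rw [Matrix.mul_apply, Finset.sum_eq_single (flipAt k S)]
  · simp [del_apply]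
  · intro U _ hU; simp [del_apply, hU]
  · simp

theorem mul_gam_apply (k : Fin m) (A : Op m) (S T : Fin m → Bool) :
    (A * gam k) S T = A S (flipAt k T) * sgnLo k (flipAt k T) := by
  rw [Matrix.mul_apply, Finset.sum_eq_single (flipAt k T)]
  · simp [gam_apply, flipAt_flipAt]
  · intro U _ hU
    have : T ≠ flipAt k U := fun h => hU (by rw [h, flipAt_flipAt])
    simp [gam_apply, this]
  · simp

theorem mul_del_apply (k : Fin m) (A : Op m) (S T : Fin m → Bool) :
    (A * del k) S T = A S (flipAt k T) * sgnHi k (flipAt k T) := by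
  rw [Matrix.mul_apply, Finset.sum_eq_single (flipAt k T)]
  · simp [del_apply, flipAt_flipAt]
  · intro U _ hU
    have : T ≠ flipAt k U := fun h => hU (by rw [h, flipAt_flipAt])
    simp [del_apply, this]
  · simp

theorem gam_sq (k : Fin m) : gam k * gam k = (1 : Op m) := by
  refine Matrix.ext fun S T => ?_
  rw [gam_mul_apply, gam_apply, flipAt_flipAt, sgnLo_flipAt, if_neg (lt_irrefl k), one_mul,
    mul_ite, mul_zero, sgnLo_sq, Matrix.one_apply]
  by_cases h : S = T
  · simp [h]
  · simp [h, Ne.symm h]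

theorem gam_anti {j k : Fin m} (h : j ≠ k) : gam j * gam k = -(gam k * gam j) := by
  refine Matrix.ext fun S T => ?_
  rw [gam_mul_apply, Matrix.neg_apply, gam_mul_apply, gam_apply, gam_apply, flipAt_comm j k,
    sgnLo_flipAt, sgnLo_flipAt]
  rcases lt_or_gt_of_ne h with h | h
  · rw [if_pos h, if_neg (not_lt.mpr h.le)]; split_ifs <;> ring
  · rw [if_neg (not_lt.mpr h.le), if_pos h]; split_ifs <;> ring

theorem gam_del_comm (j k : Fin m) : gam j * del k = del k * gam j := by
  refine Matrix.ext fun S T => ?_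
  rw [gam_mul_apply, del_mul_apply, gam_apply, del_apply, flipAt_comm j k, sgnLo_flipAt,
    sgnHi_flipAt]
  rcases lt_trichotomy j k with h | h | h
  · simp [not_lt.mpr h.le]; ring_nf
  · subst h; simp; ring_nf
  · simp [h]; ring_nf

theorem two_eq : (2 : ZMod 3) = -1 := by decide

theorem neg_ne_self {x : ZMod 3} (h : x ≠ 0) : -x ≠ x := by revert h; revert x; decide

theorem gam_injective {i j : Fin m} (h : gam i = gam j) : i = j := by
  by_contra hne
  have h2 := congrFun (congrFun h (fun _ => false)) (flipAt i (fun _ => false))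
  have h3 : flipAt i (fun _ => false) ≠ flipAt j (fun _ => false) := by
    intro e
    have := congrFun e i
    simp [flipAt, hne] at this
  simp [gam_apply, h3] at h2
  have h4 := sgnLo_sq i (fun _ => false)
  rw [h2] at h4
  simp at h4

/-- the diagonal product `gam k * del k` separates basis vectors when `m` is even -/
theorem diag_separates (hm : Even m) {S T : Fin m → Bool}
    (h : ∀ k, sgnLo k S * sgnHi k (flipAt k S) = sgnLo k T * sgnHi k (flipAt k T)) : S = T := by
  have e : ∀ (k : Fin m) (U : Fin m → Bool),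
      sgnLo k U * sgnHi k (flipAt k U) = (∏ j, sg (U j)) * sg (U k) := by
    intro k U
    rw [sgnHi_flipAt, if_neg (lt_irrefl k), one_mul]
    have h1 : sg (U k) = ∏ j, if j = k then sg (U j) else 1 := by simp
    rw [h1, sgnLo, sgnHi, ← Finset.prod_mul_distrib, ← Finset.prod_mul_distrib]
    refine Finset.prod_congr rfl fun j _ => ?_
    rcases lt_trichotomy j k with h | h | h
    · simp [h, h.ne, not_lt.mpr h.le]
    · subst h; simp [sg_sq]
    · simp [h, h.ne', not_lt.mpr h.le]
  simp only [e] at h
  obtain ⟨r, hr⟩ := hm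
  set a := ∏ j, sg (S j) with ha
  set b := ∏ j, sg (T j) with hb
  have hsq : ∀ U : Fin m → Bool, (∏ j, sg (U j)) * (∏ j, sg (U j)) = 1 := fun U => by
    rw [← Finset.prod_mul_distrib]; exact Finset.prod_eq_one fun j _ => sg_sq (U j)
  have hS : ∀ k, sg (S k) = a * b * sg (T k) := fun k => by
    rw [mul_assoc, ← h k, ← mul_assoc, hsq S, one_mul]
  have hab : a * b = 1 := by
    have h2 : a = (a * b) ^ m * b := by
      conv_lhs => rw [ha]
      rw [Finset.prod_congr rfl fun k _ => hS k, Finset.prod_mul_distrib]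
      simp [hb]
    have h3 : (a * b) ^ m = 1 := by
      have h4 : (a * b) * (a * b) = 1 := by
        rw [mul_mul_mul_comm, hsq S, hsq T, one_mul]
      rw [hr, ← two_mul, pow_mul, pow_two, h4, one_pow]
    rw [h3, one_mul] at h2
    rw [h2]; exact hsq T
  funext k
  exact sg_inj (by rw [hS k, hab, one_mul])

theorem flip_connected {β : Type*} (c : (Fin m → Bool) → β) (h : ∀ k S, c (flipAt k S) = c S)
    (S : Fin m → Bool) : c S = c fun _ => false := by
  suffices ∀ (t : Finset (Fin m)) (S : Fin m → Bool), (∀ i, S i = true → i ∈ t) →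
      c S = c fun _ => false from this Finset.univ S fun i _ => Finset.mem_univ i
  intro t
  induction t using Finset.induction with
  | empty =>
    intro S hS
    congr 1; funext i
    simpa using hS i
  | insert a t _ ih =>
    intro S hS
    by_cases ha : S a = true
    · rw [← h a S]
      refine ih _ fun i hi => ?_
      by_cases hia : i = a
      · subst hia; simp [flipAt, ha] at hi
      · have : S i = true := by simpa [flipAt, hia] using hi
        simpa [hia] using hS i this
    · refine ih S fun i hi => ?_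
      have hia : i ≠ a := fun e => ha (e ▸ hi)
      simpa [hia] using hS i hi

/-- for even `m` only scalars commute with all left and right generators -/
theorem scalar_of_commute (hm : Even m) (x : Op m)
    (hg : ∀ k, x * gam k = gam k * x) (hd : ∀ k, x * del k = del k * x) :
    ∃ c : ZMod 3, x = c • (1 : Op m) := by
  have hgd : ∀ k S T, x S T * (sgnLo k T * sgnHi k (flipAt k T)) =
      (sgnLo k S * sgnHi k (flipAt k S)) * x S T := by
    intro k S T
    have h : x * (gam k * del k) = gam k * (del k * x) := by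
      rw [← mul_assoc, hg, mul_assoc, hd]
    have h1 := congrFun (congrFun h S) T
    rw [← mul_assoc, mul_del_apply, mul_gam_apply, flipAt_flipAt, gam_mul_apply, del_mul_apply,
      flipAt_flipAt] at h1
    rw [← mul_assoc, mul_assoc (sgnLo k S)]
    exact h1
  have hdiag : ∀ S T, S ≠ T → x S T = 0 := by
    intro S T hST
    by_contra hne
    exact hST (diag_separates hm fun k =>
      mul_right_cancel₀ hne ((hgd k S T).symm.trans (mul_comm _ _)))
  have hflip : ∀ k S, x (flipAt k S) (flipAt k S) = x S S := by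
    intro k S
    have h1 := congrFun (congrFun (hg k) S) (flipAt k S)
    rw [mul_gam_apply, flipAt_flipAt, gam_mul_apply] at h1
    have h3 : sgnLo k S ≠ 0 := fun h => by simpa [h] using sgnLo_sq k S
    apply mul_left_cancel₀ h3
    rw [← h1]; ring
  refine ⟨x (fun _ => false) (fun _ => false), Matrix.ext fun S T => ?_⟩
  by_cases h : S = T
  · subst h
    rw [Matrix.smul_apply, Matrix.one_apply_eq, smul_eq_mul, mul_one]
    exact flip_connected (fun S => x S S) hflip S
  · simp [hdiag S T h, h]

theorem gam_sub_mul_self {i j : Fin m} (hij : i ≠ j) :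
    (gam i - gam j) * (gam i - gam j) = -1 := by
  have : (gam i - gam j) * (gam i - gam j) = (2 : ZMod 3) • (1 : Op m) := by
    rw [sub_mul, mul_sub, mul_sub, gam_sq, gam_sq, gam_anti hij, two_smul]; abel
  rw [this, two_eq]
  exact neg_one_smul (ZMod 3) _

theorem gam_sub_mul_gam {i j : Fin m} (hij : i ≠ j) (k : Fin m) :
    (gam i - gam j) * gam k = -(gam (Equiv.swap i j k) * (gam i - gam j)) := by
  by_cases hi : k = i
  · subst hi
    rw [Equiv.swap_apply_left, sub_mul, mul_sub, gam_sq, gam_sq, neg_sub]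
  · by_cases hj : k = j
    · subst hj
      rw [Equiv.swap_apply_right, sub_mul, mul_sub, gam_sq, gam_sq, neg_sub]
    · rw [Equiv.swap_apply_of_ne_of_ne hi hj, sub_mul, mul_sub, gam_anti (Ne.symm hi),
        gam_anti (Ne.symm hj), neg_sub]; abel

theorem gam_sub_anti {a b c d : Fin m} (h1 : a ≠ c) (h2 : a ≠ d) (h3 : b ≠ c) (h4 : b ≠ d) :
    (gam a - gam b) * (gam c - gam d) = -((gam c - gam d) * (gam a - gam b)) := by
  rw [sub_mul, mul_sub, mul_sub, sub_mul, mul_sub, mul_sub, gam_anti h1, gam_anti h2,
    gam_anti h3, gam_anti h4]; abel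

/-- `x` lies over the permutation `σ` -/
def Over (x : (Op m)ˣ) (σ : Equiv.Perm (Fin m)) : Prop :=
  (∀ k, (x : Op m) * del k = del k * (x : Op m)) ∧
    ∀ k, (x : Op m) * gam k = gam (σ k) * (x : Op m)

theorem Over.mul {x y : (Op m)ˣ} {σ τ : Equiv.Perm (Fin m)}
    (hx : Over x σ) (hy : Over y τ) : Over (x * y) (σ * τ) := by
  constructor <;> intro k
  · rw [Units.val_mul, mul_assoc, hy.1, ← mul_assoc, hx.1, mul_assoc]
  · rw [Units.val_mul, mul_assoc, hy.2, ← mul_assoc, hx.2, mul_assoc]; rfl

theorem Over.inv {x : (Op m)ˣ} {σ : Equiv.Perm (Fin m)}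
    (hx : Over x σ) : Over x⁻¹ σ⁻¹ := by
  constructor <;> intro k
  · rw [Units.inv_mul_eq_iff_eq_mul, ← mul_assoc, hx.1, Units.mul_inv_cancel_right]
  · rw [Units.inv_mul_eq_iff_eq_mul, ← mul_assoc, hx.2]
    simp

theorem over_one : Over (1 : (Op m)ˣ) 1 := by
  constructor <;> intro k <;> simp

theorem Over.unique {x : (Op m)ˣ} {σ τ : Equiv.Perm (Fin m)}
    (h1 : Over x σ) (h2 : Over x τ) : σ = τ := by
  refine Equiv.ext fun k => gam_injective ?_
  exact (Units.mul_left_inj x).mp ((h1.2 k).symm.trans (h2.2 k))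

/-- lift of a transposition -/
def swapUnit (i j : Fin m) (hij : i ≠ j) : (Op m)ˣ where
  val := gam i - gam j
  inv := -(gam i - gam j)
  val_inv := by rw [mul_neg, gam_sub_mul_self hij, neg_neg]
  inv_val := by rw [neg_mul, gam_sub_mul_self hij, neg_neg]

theorem swapUnit_sq {i j : Fin m} (hij : i ≠ j) : swapUnit i j hij * swapUnit i j hij = -1 :=
  Units.ext (gam_sub_mul_self hij)

theorem swapUnit_anti {a b c d : Fin m} (hab : a ≠ b) (hcd : c ≠ d) (h1 : a ≠ c) (h2 : a ≠ d)
    (h3 : b ≠ c) (h4 : b ≠ d) :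
    swapUnit a b hab * swapUnit c d hcd = -(swapUnit c d hcd * swapUnit a b hab) :=
  Units.ext (gam_sub_anti h1 h2 h3 h4)

theorem swapUnit_del {i j : Fin m} (hij : i ≠ j) (k : Fin m) :
    ((swapUnit i j hij : (Op m)ˣ) : Op m) * del k =
      del k * (swapUnit i j hij : (Op m)ˣ) := by
  show (gam i - gam j) * del k = del k * (gam i - gam j)
  rw [sub_mul, mul_sub, gam_del_comm, gam_del_comm]

theorem swapUnit_pair_over {a b c d : Fin m} (hab : a ≠ b) (hcd : c ≠ d) :
    Over (swapUnit a b hab * swapUnit c d hcd) (Equiv.swap a b * Equiv.swap c d) := by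
  constructor <;> intro k
  · rw [Units.val_mul, mul_assoc, swapUnit_del, ← mul_assoc, swapUnit_del, mul_assoc]
  · show (gam a - gam b) * (gam c - gam d) * gam k =
      gam (Equiv.swap a b (Equiv.swap c d k)) * ((gam a - gam b) * (gam c - gam d))
    rw [mul_assoc, gam_sub_mul_gam hcd, mul_neg, ← mul_assoc, gam_sub_mul_gam hab]
    noncomm_ring

theorem pin_lift (σ : Equiv.Perm (Fin m)) :
    ∃ x : (Op m)ˣ,
      (∀ k, (x : Op m) * del k = del k * (x : Op m)) ∧
      ∀ k, (x : Op m) * gam k =
        (((Equiv.Perm.sign σ : ℤ) : ZMod 3)) • (gam (σ k) * (x : Op m)) := by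
  induction σ using Equiv.Perm.swap_induction_on with
  | one => exact ⟨1, by simp, by simp⟩
  | swap_mul f i j hij ih =>
    obtain ⟨x, hxd, hxg⟩ := ih
    refine ⟨swapUnit i j hij * x, fun k => ?_, fun k => ?_⟩
    · rw [Units.val_mul, mul_assoc, hxd, ← mul_assoc, swapUnit_del, mul_assoc]
    · rw [Units.val_mul, mul_assoc, hxg, mul_smul_comm, ← mul_assoc]
      show _ • ((gam i - gam j) * gam (f k) * _) = _
      rw [gam_sub_mul_gam hij]
      simp [Equiv.Perm.sign_swap hij, mul_assoc]
      rfl

/-- extend a permutation of `Fin n` to `Fin (n + n)` -/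
def ext' (n : ℕ) : Equiv.Perm (Fin n) →* Equiv.Perm (Fin (n + n)) where
  toFun σ := finSumFinEquiv.permCongr (Equiv.sumCongr σ 1)
  map_one' := by refine Equiv.ext fun x => ?_; simp
  map_mul' σ τ := by
    refine Equiv.ext fun x => ?_
    obtain ⟨y, rfl⟩ := finSumFinEquiv.surjective x
    cases y <;> simp [Equiv.permCongr_apply]

theorem ext'_castAdd (n : ℕ) (σ : Equiv.Perm (Fin n)) (i : Fin n) :
    ext' n σ (Fin.castAdd n i) = Fin.castAdd n (σ i) := by
  simp [ext', Equiv.permCongr_apply]

theorem ext'_injective (n : ℕ) : Function.Injective (ext' n) := fun σ τ h =>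
  Equiv.ext fun i => Fin.castAdd_injective n n (by rw [← ext'_castAdd, ← ext'_castAdd, h])

theorem ext'_swap (n : ℕ) (a b : Fin n) :
    ext' n (Equiv.swap a b) = Equiv.swap (Fin.castAdd n a) (Fin.castAdd n b) := by
  refine Equiv.ext fun x => ?_
  obtain ⟨y, rfl⟩ := finSumFinEquiv.surjective x
  cases y with
  | inl i =>
    rw [finSumFinEquiv_apply_left, ext'_castAdd]
    exact ((Fin.castAdd_injective n n).swap_apply a b i).symm
  | inr i =>
    rw [finSumFinEquiv_apply_right, Equiv.swap_apply_of_ne_of_ne]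
    · show finSumFinEquiv (Sum.map (Equiv.swap a b) id (finSumFinEquiv.symm _)) = _
      rw [← finSumFinEquiv_apply_right, Equiv.symm_apply_apply]
      simp
    · simp [Fin.ext_iff]; omega
    · simp [Fin.ext_iff]; omega

theorem sign_ext' (n : ℕ) (σ : Equiv.Perm (Fin n)) :
    Equiv.Perm.sign (ext' n σ) = Equiv.Perm.sign σ := by
  simp [ext', Equiv.Perm.sign_sumCongr]

/-- the double cover -/
def cover (n : ℕ) : Subgroup (Op (n + n))ˣ where
  carrier := {x | ∃ σ : alternatingGroup (Fin n), Over x (ext' n σ)}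
  mul_mem' := by
    rintro x y ⟨σ, hx⟩ ⟨τ, hy⟩
    exact ⟨σ * τ, by simpa using hx.mul hy⟩
  one_mem' := ⟨1, by simpa using over_one⟩
  inv_mem' := by
    rintro x ⟨σ, hx⟩
    exact ⟨σ⁻¹, by simpa using hx.inv⟩

instance finite_cover (n : ℕ) : Finite (cover n) := inferInstance

/-- the covering map -/
noncomputable def proj (n : ℕ) : cover n →* alternatingGroup (Fin n) where
  toFun x := x.2.choose
  map_one' := by
    apply Subtype.ext; apply ext'_injective
    exact (1 : cover n).2.choose_spec.unique (by simpa using over_one)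
  map_mul' x y := by
    apply Subtype.ext; apply ext'_injective
    exact (x * y).2.choose_spec.unique (by simpa using x.2.choose_spec.mul y.2.choose_spec)

theorem over_proj (n : ℕ) (x : cover n) : Over x.1 (ext' n (proj n x)) := x.2.choose_spec

theorem proj_eq {n : ℕ} {x : cover n} {σ : alternatingGroup (Fin n)} (h : Over x.1 (ext' n σ)) :
    proj n x = σ :=
  Subtype.ext (ext'_injective n ((over_proj n x).unique h))

theorem proj_surjective (n : ℕ) : Function.Surjective (proj n) := by
  intro σ
  obtain ⟨x, hd, hg⟩ := pin_lift (ext' n σ)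
  have hs : Equiv.Perm.sign (ext' n σ) = 1 := by
    rw [sign_ext']; exact σ.2
  have h : Over x (ext' n σ) := ⟨hd, fun k => by simpa [hs] using hg k⟩
  exact ⟨⟨x, σ, h⟩, proj_eq h⟩

theorem neg_one_mem (n : ℕ) : (-1 : (Op (n + n))ˣ) ∈ cover n :=
  ⟨1, by constructor <;> intro k <;> simp⟩

/-- the central involution -/
def z (n : ℕ) : cover n := ⟨-1, neg_one_mem n⟩

theorem z_sq (n : ℕ) : z n * z n = 1 := Subtype.ext (by simp [z])

theorem z_mem_center (n : ℕ) : z n ∈ Subgroup.center (cover n) :=
  Subgroup.mem_center_iff.mpr fun g => Subtype.ext (by simp [z])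

theorem z_ne_one (n : ℕ) : z n ≠ 1 := by
  intro h
  have h1 := congrArg (fun x : cover n =>
    ((x.1 : (Op (n + n))ˣ) : Op (n + n)) (fun _ => false) (fun _ => false)) h
  simp only [z, Units.val_neg, Units.val_one, OneMemClass.coe_one, Matrix.neg_apply,
    Matrix.one_apply_eq] at h1
  exact neg_ne_self one_ne_zero h1

theorem orderOf_z (n : ℕ) : orderOf (z n) = 2 :=
  orderOf_eq_prime_iff.mpr ⟨by rw [pow_two]; exact z_sq n, z_ne_one n⟩

theorem proj_z (n : ℕ) : proj n (z n) = 1 :=
  proj_eq (by constructor <;> intro k <;> simp [z])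

theorem zmod3_cases (c : ZMod 3) : c = 0 ∨ c = 1 ∨ c = -1 := by revert c; decide

theorem eq_one_or_z {n : ℕ} {x : cover n} (h : proj n x = 1) : x = 1 ∨ x = z n := by
  have hx := over_proj n x
  rw [h] at hx
  obtain ⟨c, hc⟩ := scalar_of_commute ⟨n, rfl⟩ (x.1 : Op (n + n))
    (fun k => by simpa using hx.2 k) hx.1
  rcases zmod3_cases c with rfl | rfl | rfl
  · exfalso
    rw [zero_smul] at hc
    have := x.1.mul_inv
    rw [hc, zero_mul] at this
    exact zero_ne_one this
  · left; exact Subtype.ext (Units.ext (by simpa using hc))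
  · right; exact Subtype.ext (Units.ext (by simpa [z] using hc))

theorem ker_proj (n : ℕ) : (proj n).ker = Subgroup.zpowers (z n) := by
  refine le_antisymm (fun x hx => ?_) (Subgroup.zpowers_le.mpr (proj_z n))
  rcases eq_one_or_z hx with rfl | rfl
  · exact one_mem _
  · exact Subgroup.mem_zpowers _

/-- lift of a product of two disjoint transpositions -/
def pairLift {n : ℕ} (a b c d : Fin n) (hab : a ≠ b) (hcd : c ≠ d) : cover n :=
  ⟨swapUnit (Fin.castAdd n a) (Fin.castAdd n b) (fun h => hab (Fin.castAdd_injective n n h)) *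
      swapUnit (Fin.castAdd n c) (Fin.castAdd n d) (fun h => hcd (Fin.castAdd_injective n n h)),
    ⟨⟨Equiv.swap a b * Equiv.swap c d, by simp [hab, hcd]⟩, by
      simpa [ext'_swap] using swapUnit_pair_over (m := n + n)
        (fun h => hab (Fin.castAdd_injective n n h)) (fun h => hcd (Fin.castAdd_injective n n h))⟩⟩

theorem proj_pairLift {n : ℕ} (a b c d : Fin n) (hab : a ≠ b) (hcd : c ≠ d) :
    (proj n (pairLift a b c d hab hcd) : Equiv.Perm (Fin n)) = Equiv.swap a b * Equiv.swap c d := by
  have h : proj n (pairLift a b c d hab hcd) =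
      ⟨Equiv.swap a b * Equiv.swap c d, by simp [hab, hcd]⟩ :=
    proj_eq (by
      simpa [pairLift, ext'_swap] using swapUnit_pair_over (m := n + n)
        (fun h => hab (Fin.castAdd_injective n n h)) (fun h => hcd (Fin.castAdd_injective n n h)))
  exact congrArg Subtype.val h

/-- disjointness of two pairs -/
def Disj {n : ℕ} (a b c d : Fin n) : Prop := a ≠ c ∧ a ≠ d ∧ b ≠ c ∧ b ≠ d

theorem swapUnit_anti' {n : ℕ} {a b c d : Fin n} (hab : a ≠ b) (hcd : c ≠ d) (h : Disj a b c d) :
    swapUnit (Fin.castAdd n a) (Fin.castAdd n b) (fun h => hab (Fin.castAdd_injective n n h)) *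
      swapUnit (Fin.castAdd n c) (Fin.castAdd n d) (fun h => hcd (Fin.castAdd_injective n n h)) =
    -(swapUnit (Fin.castAdd n c) (Fin.castAdd n d) (fun h => hcd (Fin.castAdd_injective n n h)) *
      swapUnit (Fin.castAdd n a) (Fin.castAdd n b) (fun h => hab (Fin.castAdd_injective n n h))) :=
  swapUnit_anti _ _ (fun e => h.1 (Fin.castAdd_injective n n e))
    (fun e => h.2.1 (Fin.castAdd_injective n n e)) (fun e => h.2.2.1 (Fin.castAdd_injective n n e))
    (fun e => h.2.2.2 (Fin.castAdd_injective n n e))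

theorem pairLift_sq {n : ℕ} {a b c d : Fin n} (hab : a ≠ b) (hcd : c ≠ d) (h : Disj a b c d) :
    pairLift a b c d hab hcd * pairLift a b c d hab hcd = z n := by
  apply Subtype.ext
  simp only [pairLift, z, Subgroup.coe_mul]
  set u := swapUnit (Fin.castAdd n a) (Fin.castAdd n b) _
  set v := swapUnit (Fin.castAdd n c) (Fin.castAdd n d) _
  have h1 : u * v = -(v * u) := swapUnit_anti' hab hcd h
  have hu : u * u = -1 := swapUnit_sq _
  have hv : v * v = -1 := swapUnit_sq _
  calc (u * v) * (u * v) = (u * v) * (-(v * u)) := by rw [← h1]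
    _ = -(u * (v * v) * u) := by rw [mul_neg]; group
    _ = -1 := by simp [hv, hu]

theorem pairLift_comm {n : ℕ} {a b c d a' b' c' d' : Fin n} (hab : a ≠ b) (hcd : c ≠ d)
    (hab' : a' ≠ b') (hcd' : c' ≠ d') (h1 : Disj a b a' b') (h2 : Disj a b c' d')
    (h3 : Disj c d a' b') (h4 : Disj c d c' d') :
    Commute (pairLift a b c d hab hcd) (pairLift a' b' c' d' hab' hcd') := by
  apply Subtype.ext
  simp only [pairLift, Subgroup.coe_mul]
  set u := swapUnit (Fin.castAdd n a) (Fin.castAdd n b) _
  set v := swapUnit (Fin.castAdd n c) (Fin.castAdd n d) _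
  set u' := swapUnit (Fin.castAdd n a') (Fin.castAdd n b') _
  set v' := swapUnit (Fin.castAdd n c') (Fin.castAdd n d') _
  have e1 : u * u' = -(u' * u) := swapUnit_anti' hab hab' h1
  have e2 : u * v' = -(v' * u) := swapUnit_anti' hab hcd' h2
  have e3 : v * u' = -(u' * v) := swapUnit_anti' hcd hab' h3
  have e4 : v * v' = -(v' * v) := swapUnit_anti' hcd hcd' h4
  calc u * v * (u' * v') = u * (v * u') * v' := by group
    _ = -((u * u') * (v * v')) := by rw [e3]; simp [mul_assoc]
    _ = -((u' * u) * (v' * v)) := by rw [e1, e4]; simp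
    _ = -(u' * (u * v') * v) := by group
    _ = u' * v' * (u * v) := by rw [e2]; simp [mul_assoc]

/-- for distinct `a b c d` the central involution is a commutator -/
theorem z_eq_commutator {n : ℕ} {a b c d : Fin n} (hab : a ≠ b) (hcd : c ≠ d) (hac : a ≠ c)
    (hbd : b ≠ d) (h : Disj a b c d) :
    z n = pairLift a b c d hab hcd * pairLift a c b d hac hbd *
      (pairLift a b c d hab hcd)⁻¹ * (pairLift a c b d hac hbd)⁻¹ := by
  set X := pairLift a b c d hab hcd
  set Y := pairLift a c b d hac hbd
  obtain ⟨-, hY⟩ := over_proj n Y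
  simp only [Y, proj_pairLift, map_mul, ext'_swap] at hY
  obtain ⟨h1, h2, h3, h4⟩ := h
  have inj := Fin.castAdd_injective n n
  have img : ∀ t : Fin n, (Equiv.swap (Fin.castAdd n a) (Fin.castAdd n c) *
      Equiv.swap (Fin.castAdd n b) (Fin.castAdd n d)) (Fin.castAdd n t) =
      Fin.castAdd n (Equiv.swap a c (Equiv.swap b d t)) := by
    intro t
    rw [Equiv.Perm.mul_apply, inj.swap_apply, inj.swap_apply]
  have hY' : ∀ t : Fin n, (Y.1 : Op (n + n)) * gam (Fin.castAdd n t) =
      gam (Fin.castAdd n (Equiv.swap a c (Equiv.swap b d t))) * Y.1 := by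
    intro t; rw [← img t]; exact hY _
  have ea : Equiv.swap a c (Equiv.swap b d a) = c := by
    rw [Equiv.swap_apply_of_ne_of_ne hab h2, Equiv.swap_apply_left]
  have eb : Equiv.swap a c (Equiv.swap b d b) = d := by
    rw [Equiv.swap_apply_left, Equiv.swap_apply_of_ne_of_ne (Ne.symm h2) (Ne.symm hcd)]
  have ec : Equiv.swap a c (Equiv.swap b d c) = a := by
    rw [Equiv.swap_apply_of_ne_of_ne (Ne.symm h3) hcd, Equiv.swap_apply_right]
  have ed : Equiv.swap a c (Equiv.swap b d d) = b := by
    rw [Equiv.swap_apply_right, Equiv.swap_apply_of_ne_of_ne (Ne.symm hab) h3]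
  have key : Y * X = z n * (X * Y) := by
    apply Subtype.ext; apply Units.ext
    show (Y.1 : Op (n + n)) *
        ((gam (Fin.castAdd n a) - gam (Fin.castAdd n b)) *
          (gam (Fin.castAdd n c) - gam (Fin.castAdd n d))) =
      -1 * (((gam (Fin.castAdd n a) - gam (Fin.castAdd n b)) *
          (gam (Fin.castAdd n c) - gam (Fin.castAdd n d))) * Y.1)
    rw [← mul_assoc, mul_sub (Y.1 : Op (n + n)), hY', hY', ea, eb, ← sub_mul,
      mul_assoc, mul_sub (Y.1 : Op (n + n)), hY', hY', ec, ed, ← sub_mul,
      ← mul_assoc,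
      gam_sub_anti (fun e => h1 (inj e.symm)) (fun e => h3 (inj e.symm))
        (fun e => h2 (inj e.symm)) (fun e => h4 (inj e.symm))]
    simp
  have hz := z_mem_center n
  rw [Subgroup.mem_center_iff] at hz
  have key2 : X * Y = z n * (Y * X) := by rw [key, ← mul_assoc, z_sq, one_mul]
  rw [key2]
  group

end Cfsg.Agent.AltDoubleCover
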