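import Cfsg.Prelude.Def_KGroupFacts
import Cfsg.Agent.Lib.TransferPow
import Mathlib

/-!
Basic tools for stem extensions in the sense of `Cfsg.IsStemExtension`.
-/

set_option autoImplicit false

namespace Cfsg.Agent.StemBasic

open Subgroup
open scoped commutatorElement

universe u v

variable {Γ : Type u} {G : Type v} [Group Γ] [Group G]

theorem mul_comm_of_mem_center {z : Γ} (hz : z ∈ center Γ) (g : Γ) : g * z = z * g :=
  mem_center_iff.1 hz g

theorem ker_comm {σ : Γ →* G} (hc : σ.ker ≤ center Γ) {z : Γ} (hz : σ z = 1) (g : Γ) :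
    g * z = z * g :=
  mul_comm_of_mem_center (hc hz) g

theorem exists_ker_mul {σ : Γ →* G} {a b : Γ} (h : σ a = σ b) : ∃ z, σ z = 1 ∧ a = b * z :=
  ⟨b⁻¹ * a, by rw [map_mul, map_inv, h, inv_mul_cancel], by rw [mul_inv_cancel_left]⟩

/-- A central element of prime order `ℓ` in `Γ'` and in a subgroup `K` of index prime to `ℓ`
lies in `K'`. -/
theorem mem_commutator_of_index [Finite Γ] {K : Subgroup Γ} {z : Γ} (hzK : z ∈ K)
    (hc : z ∈ center Γ) (hd : z ∈ commutator Γ) (hcop : Nat.Coprime (orderOf z) K.index) :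
    z ∈ (commutator K).map K.subtype := by
  have h := TransferPow.central_pow_index_eq_one (Abelianization.of (G := K)) ⟨z, hzK⟩ hc hd
  have h' : Abelianization.of (G := K) ⟨z, hzK⟩ = 1 := by
    refine TransferPow.eq_one_of_pow_eq_one_of_coprime h ?_ hcop.symm (m := K.index) (n := orderOf z)
    rw [← map_pow]
    have : (⟨z, hzK⟩ : K) ^ orderOf z = 1 := Subtype.ext (by simp [pow_orderOf_eq_one])
    rw [this, map_one]
  refine ⟨⟨z, hzK⟩, ?_, rfl⟩
  rw [← Abelianization.ker_of]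
  exact h'

theorem index_comap {σ : Γ →* G} (hs : Function.Surjective σ) (H : Subgroup G) :
    (H.comap σ).index = H.index := Subgroup.index_comap_of_surjective H hs

/-- `H` has no multiplier in `σ`: the kernel meets the commutator subgroup of the preimage of `H`
trivially. -/
def KerFree (σ : Γ →* G) (H : Subgroup G) : Prop :=
  ∀ w ∈ (commutator (H.comap σ)).map (H.comap σ).subtype, σ w = 1 → w = 1

theorem eq_one_of_kerFree [Finite Γ] {σ : Γ →* G} (hσ : Cfsg.IsStemExtension σ) {H : Subgroup G}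
    (hH : KerFree σ H) {z : Γ} (hz : σ z = 1) (hcop : Nat.Coprime (orderOf z) H.index) : z = 1 := by
  refine hH z (mem_commutator_of_index ?_ (hσ.2.1 hz) (hσ.2.2 hz) ?_) hz
  · show σ z ∈ H
    rw [hz]; exact H.one_mem
  · rwa [index_comap hσ.1]

/-- Kill elements of prime order. -/
theorem ker_eq_bot_of_primes [Finite Γ] {σ : Γ →* G}
    (h : ∀ ℓ : ℕ, ℓ.Prime → ∀ z : Γ, σ z = 1 → orderOf z = ℓ → False) : σ.ker = ⊥ := by
  rw [Subgroup.eq_bot_iff_forall]
  intro z hz
  by_contra hne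
  have h1 : orderOf z ≠ 1 := fun e => hne (orderOf_eq_one_iff.1 e)
  obtain ⟨ℓ, hl, hd⟩ := Nat.exists_prime_and_dvd h1
  refine h ℓ hl (z ^ (orderOf z / ℓ)) (by rw [map_pow, MonoidHom.mem_ker.1 hz, one_pow]) ?_
  exact orderOf_pow_orderOf_div (orderOf_pos z).ne' hd

theorem orderOf_dvd_card_ker [Finite Γ] {σ : Γ →* G} {z : Γ} (hz : σ z = 1) :
    orderOf z ∣ Nat.card σ.ker := by
  have h := orderOf_dvd_natCard (⟨z, hz⟩ : σ.ker)
  rwa [← orderOf_injective σ.ker.subtype Subtype.coe_injective] at h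

/-- A cyclic subgroup has commutative preimage. -/
theorem kerFree_zpowers (σ : Γ →* G) (hc : σ.ker ≤ center Γ) (a : G) :
    KerFree σ (zpowers a) := by
  intro w hw _
  obtain ⟨w', hw', rfl⟩ := hw
  let f : (zpowers a).comap σ →* zpowers a :=
    (σ.comp ((zpowers a).comap σ).subtype).codRestrict _ fun x => x.2
  have hk : f.ker ≤ center _ := by
    intro x hx
    have hx' : σ (x : Γ) = 1 := congrArg Subtype.val (MonoidHom.mem_ker.1 hx)
    exact mem_center_iff.2 fun g => Subtype.ext (ker_comm hc hx' (g : Γ))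
  have hab := f.isMulCommutative_of_isCyclic_of_ker_le_center hk
  have : commutator ((zpowers a).comap σ) = ⊥ := by
    rw [_root_.commutator_def, Subgroup.commutator_eq_bot_iff_le_centralizer]
    intro x _ y _
    exact hab.is_comm.comm _ _
  rw [this, SetLike.mem_coe, Subgroup.mem_bot] at hw'
  rw [hw']; rfl

/-- The commutator subgroup of a group generated by `α`, `β` and central elements, with `β`
inverting the commutator, is cyclic. -/
theorem commutator_le_zpowers {K : Type*} [Group K] (α β : K)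
    (hgen : closure ({α, β} ∪ (center K : Set K)) = ⊤)
    (c : K) (hc : β * α * β⁻¹ * α⁻¹ = c) (hα : α * c * α⁻¹ ∈ zpowers c) (hβ : β * c * β⁻¹ ∈ zpowers c)
    (hα' : α⁻¹ * c * α ∈ zpowers c) (hβ' : β⁻¹ * c * β ∈ zpowers c) :
    commutator K ≤ zpowers c := by
  have hstab : ∀ g : K, (∀ x ∈ zpowers c, g * x * g⁻¹ ∈ zpowers c) ∧
      (∀ x ∈ zpowers c, g⁻¹ * x * g ∈ zpowers c) := by
    intro g
    have hg : g ∈ closure ({α, β} ∪ (center K : Set K)) := hgen ▸ mem_top g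
    have key : ∀ g : K, g * c * g⁻¹ ∈ zpowers c → ∀ x ∈ zpowers c, g * x * g⁻¹ ∈ zpowers c := by
      intro g h x hx
      obtain ⟨k, rfl⟩ := hx
      simp only [← conj_zpow]
      exact zpow_mem h k
    have key' : ∀ g : K, g⁻¹ * c * g ∈ zpowers c → ∀ x ∈ zpowers c, g⁻¹ * x * g ∈ zpowers c := by
      intro g h x hx
      have := key g⁻¹ (by simpa using h) x hx
      simpa using this
    induction hg using closure_induction with
    | mem g hg =>
      rcases hg with (rfl | rfl) | hg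
      · exact ⟨key _ hα, key' _ hα'⟩
      · exact ⟨key _ hβ, key' _ hβ'⟩
      · refine ⟨fun x hx => ?_, fun x hx => ?_⟩
        · rw [← mem_center_iff.1 hg x, mul_inv_cancel_right]; exact hx
        · rw [mul_assoc, mem_center_iff.1 hg x, inv_mul_cancel_left]; exact hx
    | one => exact ⟨fun x hx => by simpa using hx, fun x hx => by simpa using hx⟩
    | mul a b _ _ ha hb =>
      refine ⟨fun x hx => ?_, fun x hx => ?_⟩
      · have := ha.1 _ (hb.1 x hx)
        simpa [mul_assoc] using this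
      · have := hb.2 _ (ha.2 x hx)
        simpa [mul_assoc] using this
    | inv a _ ha =>
      refine ⟨fun x hx => ?_, fun x hx => ?_⟩
      · simpa using ha.2 x hx
      · simpa using ha.1 x hx
  have hn : (zpowers c).Normal := ⟨fun x hx g => (hstab g).1 x hx⟩
  have hcomm : ∀ a b : K ⧸ zpowers c, a * b = b * a := by
    have hgen' : closure ((QuotientGroup.mk' (zpowers c)) '' ({α, β} ∪ (center K : Set K))) = ⊤ := by
      rw [← MonoidHom.map_closure, hgen,
        Subgroup.map_top_of_surjective _ (QuotientGroup.mk'_surjective _)]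
    have hαβ : (QuotientGroup.mk' (zpowers c)) α * QuotientGroup.mk' (zpowers c) β =
        QuotientGroup.mk' (zpowers c) β * QuotientGroup.mk' (zpowers c) α := by
      rw [← map_mul, ← map_mul, QuotientGroup.mk'_eq_mk']
      refine ⟨α⁻¹ * (β⁻¹ * (c * β) * α) * 1, ?_, ?_⟩
      · rw [mul_one]
        have h1 : β⁻¹ * c * β ∈ zpowers c := hβ'
        have := (hstab α).2 _ h1
        simpa [mul_assoc] using this
      · rw [← hc]; group
    have : IsMulCommutative (closure ((QuotientGroup.mk' (zpowers c)) '' ({α, β} ∪ (center K : Set K)))) := by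
      refine Subgroup.isMulCommutative_closure ?_
      rintro _ ⟨x, hx, rfl⟩ _ ⟨y, hy, rfl⟩
      rcases hx with hx | hx
      · rcases hy with hy | hy
        · rcases hx with rfl | rfl <;> rcases hy with rfl | rfl <;>
            first | rfl | exact hαβ | exact hαβ.symm
        · rw [← map_mul, ← map_mul, mem_center_iff.1 hy x]
      · rw [← map_mul, ← map_mul, mem_center_iff.1 hx y]
    rw [hgen'] at this
    intro a b
    exact congrArg Subtype.val (this.is_comm.comm ⟨a, mem_top a⟩ ⟨b, mem_top b⟩)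
  rw [← QuotientGroup.ker_mk' (zpowers c)]
  rw [_root_.commutator_def, Subgroup.commutator_le]
  intro a _ b _
  rw [MonoidHom.mem_ker, map_commutatorElement, commutatorElement_eq_one_iff_mul_comm]
  exact hcomm _ _

/-- A dicyclic subgroup `⟨a, b⟩` with `b a b⁻¹ = a⁻¹`, `b² = a ^ m`, `orderOf a = 2m`. -/
theorem kerFree_dicyclic (σ : Γ →* G) (hs : Function.Surjective σ) (hc : σ.ker ≤ center Γ)
    (a b : G) (m : ℕ) (hab : b * a * b⁻¹ = a⁻¹) (hb : b * b = a ^ m) (ha : orderOf a = 2 * m) :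
    KerFree σ (closure {a, b}) := by
  intro w hw hw1
  obtain ⟨w', hw', rfl⟩ := hw
  obtain ⟨α, rfl⟩ := hs a
  obtain ⟨β, rfl⟩ := hs b
  set H := closure {σ α, σ β} with hH
  set K := H.comap σ with hK
  have hαK : α ∈ K := subset_closure (Set.mem_insert _ _)
  have hβK : β ∈ K := subset_closure (Set.mem_insert_of_mem _ rfl)
  obtain ⟨z, hz, hz'⟩ := exists_ker_mul (σ := σ) (a := β * α * β⁻¹) (b := α⁻¹) (by simpa using hab)
  obtain ⟨v, hv, hv'⟩ := exists_ker_mul (σ := σ) (a := β * β) (b := α ^ m) (by simpa using hb)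
  have zc := ker_comm hc hz
  have vc := ker_comm hc hv
  have hzc : ∀ g : Γ, Commute g z := zc
  -- `β` fixes `α ^ m`
  have h1 : β * α ^ m * β⁻¹ = α ^ m := by
    have e : α ^ m = β * β * v⁻¹ := by rw [hv', mul_inv_cancel_right]
    have e2 : Commute β v⁻¹ := (show Commute β v from vc β).inv_right
    rw [e]
    rw [mul_assoc β (β * β * v⁻¹), mul_assoc (β * β), e2.symm.inv_right.eq]
    group
  have h2 : β * α ^ m * β⁻¹ = (α ^ m)⁻¹ * z ^ m := by
    rw [← conj_pow, hz', Commute.mul_pow (hzc α⁻¹), inv_pow]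
  have h3 : z ^ m = α ^ (2 * m) := by
    rw [h1] at h2
    rw [two_mul, pow_add]
    nth_rewrite 2 [h2]
    rw [mul_inv_cancel_left]
  obtain ⟨c, hcdef⟩ : ∃ c, c = (α⁻¹ * α⁻¹) * z := ⟨_, rfl⟩
  have hc1 : β * α * β⁻¹ * α⁻¹ = c := by
    rw [hz', hcdef, mul_assoc α⁻¹ z, ← zc α⁻¹, mul_assoc]
  have hzcomm : Commute α c := by
    rw [hcdef]
    exact ((Commute.refl α).inv_right.mul_right (Commute.refl α).inv_right).mul_right (hzc α)
  have hβc : β * c * β⁻¹ = c⁻¹ := by
    have e1 : β * α⁻¹ * β⁻¹ = z⁻¹ * α := by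
      rw [show β * α⁻¹ * β⁻¹ = (β * α * β⁻¹)⁻¹ by group, hz', mul_inv_rev, inv_inv]
    have e2 : β * z * β⁻¹ = z := by rw [zc β, mul_inv_cancel_right]
    have e3 : β * c * β⁻¹ = (β * α⁻¹ * β⁻¹) * (β * α⁻¹ * β⁻¹) * (β * z * β⁻¹) := by
      rw [hcdef]; group
    rw [e3, e1, e2, hcdef, mul_inv_rev, mul_inv_rev, inv_inv]
    calc z⁻¹ * α * (z⁻¹ * α) * z = z⁻¹ * α * z⁻¹ * (α * z) := by simp only [mul_assoc]
      _ = z⁻¹ * α * z⁻¹ * (z * α) := by rw [zc α]
      _ = z⁻¹ * (α * α) := by group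
  have hcK : c ∈ K := by
    rw [← hc1]
    exact K.mul_mem (K.mul_mem (K.mul_mem hβK hαK) (K.inv_mem hβK)) (K.inv_mem hαK)
  have hgen : closure ({(⟨α, hαK⟩ : K), ⟨β, hβK⟩} ∪ (center K : Set K)) = ⊤ := by
    rw [eq_top_iff]
    rintro ⟨g, hg⟩ -
    set T := closure ({(⟨α, hαK⟩ : K), ⟨β, hβK⟩} ∪ (center K : Set K)) with hT
    have : H ≤ (T.map K.subtype).map σ := by
      rw [hH, closure_le]
      rintro x (rfl | rfl)
      · exact ⟨α, ⟨⟨α, hαK⟩, subset_closure (Or.inl (Set.mem_insert _ _)), rfl⟩, rfl⟩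
      · exact ⟨β, ⟨⟨β, hβK⟩, subset_closure (Or.inl (Set.mem_insert_of_mem _ rfl)), rfl⟩, rfl⟩
    obtain ⟨_, ⟨⟨g', hg'⟩, hgT, rfl⟩, he⟩ := this hg
    obtain ⟨y, hy, hy'⟩ := exists_ker_mul (σ := σ) (a := g) (b := g') he.symm
    have hyK : y ∈ K := by
      show σ y ∈ H
      rw [hy]; exact H.one_mem
    have hyc : (⟨y, hyK⟩ : K) ∈ center K :=
      mem_center_iff.2 fun x => Subtype.ext (ker_comm hc hy x)
    have : (⟨g, hg⟩ : K) = ⟨g', hg'⟩ * ⟨y, hyK⟩ := Subtype.ext hy'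
    rw [this]
    exact T.mul_mem hgT (subset_closure (Or.inr hyc))
  have hcen : α * c * α⁻¹ = c := by rw [hzcomm.eq, mul_inv_cancel_right]
  have hcen' : α⁻¹ * c * α = c := by rw [mul_assoc, ← hzcomm.eq, inv_mul_cancel_left]
  have hβc' : β⁻¹ * c * β = c⁻¹ := by
    have : c = β⁻¹ * c⁻¹ * β := by rw [← hβc]; group
    calc β⁻¹ * c * β = (β⁻¹ * c⁻¹ * β)⁻¹ := by group
      _ = c⁻¹ := by rw [← this]
  have hc1' : (⟨β, hβK⟩ : K) * ⟨α, hαK⟩ * (⟨β, hβK⟩ : K)⁻¹ * (⟨α, hαK⟩ : K)⁻¹ = ⟨c, hcK⟩ := by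
    apply Subtype.ext
    rw [Subgroup.coe_mul, Subgroup.coe_mul, Subgroup.coe_mul, Subgroup.coe_inv, Subgroup.coe_inv]
    exact hc1
  have hcz : commutator K ≤ zpowers (⟨c, hcK⟩ : K) := by
    refine commutator_le_zpowers (⟨α, hαK⟩ : K) ⟨β, hβK⟩ hgen ⟨c, hcK⟩ hc1' ?_ ?_ ?_ ?_
    · refine mem_zpowers_iff.2 ⟨1, Subtype.ext ?_⟩
      rw [zpow_one]; exact hcen.symm
    · refine mem_zpowers_iff.2 ⟨-1, Subtype.ext ?_⟩
      rw [zpow_neg_one]; exact hβc.symm
    · refine mem_zpowers_iff.2 ⟨1, Subtype.ext ?_⟩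
      rw [zpow_one]; exact hcen'.symm
    · refine mem_zpowers_iff.2 ⟨-1, Subtype.ext ?_⟩
      rw [zpow_neg_one]; exact hβc'.symm
  obtain ⟨j, rfl⟩ := hcz hw'
  have hj : σ α ^ (-(2 * j) : ℤ) = 1 := by
    rw [← hw1]
    show _ = σ ((⟨c, hcK⟩ : K) ^ j : K)
    rw [Subgroup.coe_zpow, map_zpow, show σ ((⟨c, hcK⟩ : K) : Γ) = σ ((α⁻¹ * α⁻¹) * z) from congrArg σ hcdef, map_mul, hz, mul_one, map_mul, map_inv, ← zpow_neg_one,
      ← zpow_add, ← zpow_mul]
    congr 1; ring
  rw [← orderOf_dvd_iff_zpow_eq_one, ha, dvd_neg] at hj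
  push_cast at hj
  obtain ⟨k, rfl⟩ := (mul_dvd_mul_iff_left (two_ne_zero : (2 : ℤ) ≠ 0)).1 hj
  show ((⟨c, hcK⟩ : K) ^ ((m : ℤ) * k) : K).1 = 1
  have hcm : c ^ m = 1 := by
    have hcz : Commute (α⁻¹ * α⁻¹) z := hzc _
    rw [hcdef, hcz.mul_pow, ← pow_two, ← pow_mul, inv_pow, h3, inv_mul_cancel]
  rw [Subgroup.coe_zpow, zpow_mul, zpow_natCast, hcm, one_zpow]

theorem isStem_id (G : Type v) [Group G] : Cfsg.IsStemExtension (MonoidHom.id G) :=
  ⟨Function.surjective_id, by simp, by simp⟩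

theorem hasCyclic_one {G : Type v} [Group G] [Finite G]
    (h : ∀ (Γ : Type v) [Group Γ] [Finite Γ] (σ : Γ →* G), Cfsg.IsStemExtension σ → σ.ker = ⊥) :
    Cfsg.HasCyclicSchurMultiplier G 1 := by
  refine ⟨⟨G, inferInstance, inferInstance, MonoidHom.id G, isStem_id G, ?_⟩, ?_⟩
  · have : Subsingleton (MonoidHom.id G).ker := by
      rw [MonoidHom.ker_id]; infer_instance
    exact ⟨{ toFun := fun _ => 1, invFun := fun _ => 1,
             left_inv := fun _ => Subsingleton.elim _ _, right_inv := fun _ => Subsingleton.elim _ _,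
             map_mul' := fun _ _ => Subsingleton.elim _ _ }⟩
  · intro Γ _ _ σ hσ
    refine ⟨1, fun x => ⟨1, ?_⟩⟩
    have : (x : Γ) = 1 := Subgroup.mem_bot.1 (h Γ σ hσ ▸ x.2)
    exact Subtype.ext this.symm

theorem commutator_eq_top_of_stem {σ : Γ →* G} (hσ : Cfsg.IsStemExtension σ)
    (hG : commutator G = ⊤) : commutator Γ = ⊤ := by
  rw [eq_top_iff]
  intro g _
  have : σ g ∈ (commutator Γ).map σ := by
    rw [_root_.commutator_def, Subgroup.map_commutator, Subgroup.map_top_of_surjective σ hσ.1,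
      ← _root_.commutator_def, hG]
    exact mem_top _
  obtain ⟨g', hg', he⟩ := this
  obtain ⟨z, hz, rfl⟩ := exists_ker_mul (σ := σ) (a := g) (b := g') he.symm
  exact mul_mem hg' (hσ.2.2 hz)

/-- A perfect group with trivial multiplier, mapping onto `Q` with central kernel, gives the
multiplier of `Q`. -/
theorem hasSchurMultiplier_of_cover {Q : Type u} [Group Q] {Γ : Type u} [Group Γ] [Finite Γ]
    (σ : Γ →* Q) (hs : Function.Surjective σ) (hc : σ.ker ≤ center Γ)
    (hperf : commutator Γ = ⊤)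
    (htriv : ∀ (Δ : Type u) [Group Δ] [Finite Δ] (τ : Δ →* Γ), Cfsg.IsStemExtension τ → τ.ker = ⊥)
    {A : Type v} [CommGroup A] (e : σ.ker ≃* A) : Cfsg.HasSchurMultiplier Q A := by
  refine ⟨⟨Γ, inferInstance, inferInstance, σ, ⟨hs, hc, hperf ▸ le_top⟩, ⟨e⟩⟩, ?_⟩
  intro Δ _ _ τ hτ
  let P : Subgroup (Γ × Δ) :=
    MonoidHom.eqLocus (σ.comp (MonoidHom.fst Γ Δ)) (τ.comp (MonoidHom.snd Γ Δ))
  let D : Subgroup P := commutator P
  let π₁ : D →* Γ := (MonoidHom.fst Γ Δ).comp (P.subtype.comp D.subtype)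
  have hfst : Function.Surjective ((MonoidHom.fst Γ Δ).comp P.subtype) := fun g => by
    obtain ⟨d, hd⟩ := hτ.1 (σ g)
    exact ⟨⟨(g, d), hd.symm⟩, rfl⟩
  have hkerfst : ((MonoidHom.fst Γ Δ).comp P.subtype).ker ≤ center P := by
    intro x hx
    have h1 : (x : Γ × Δ).1 = 1 := MonoidHom.mem_ker.1 hx
    have h2 : τ (x : Γ × Δ).2 = 1 := by
      have := x.2
      simp only [P, MonoidHom.eqLocus, MonoidHom.coe_comp, MonoidHom.coe_fst, MonoidHom.coe_snd,
        Function.comp_apply] at this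
      have h' : σ (x : Γ × Δ).1 = τ (x : Γ × Δ).2 := x.2
      rw [← h', h1, map_one]
    refine mem_center_iff.2 fun g => Subtype.ext (Prod.ext ?_ ?_)
    · simp [h1]
    · exact ker_comm hτ.2.1 h2 _
  have hD : D.map ((MonoidHom.fst Γ Δ).comp P.subtype) = ⊤ := by
    rw [show D = commutator P from rfl, _root_.commutator_def, Subgroup.map_commutator,
      Subgroup.map_top_of_surjective _ hfst, ← _root_.commutator_def, hperf]
  have hπ₁ : Function.Surjective π₁ := fun g => by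
    obtain ⟨x, hx, hxe⟩ := (hD ▸ mem_top g : g ∈ D.map _)
    exact ⟨⟨x, hx⟩, hxe⟩
  have hDperf : commutator D = ⊤ := by
    rw [eq_top_iff]
    rintro ⟨x, hx⟩ -
    have key : commutator P ≤ (commutator D).map D.subtype := by
      rw [_root_.commutator_def, Subgroup.commutator_le]
      intro a _ b _
      obtain ⟨⟨a', ha'⟩, hae⟩ := hπ₁ ((a : Γ × Δ).1)
      obtain ⟨⟨b', hb'⟩, hbe⟩ := hπ₁ ((b : Γ × Δ).1)
      obtain ⟨y, hy, rfl⟩ := exists_ker_mul (σ := (MonoidHom.fst Γ Δ).comp P.subtype) (a := a) (b := a') hae.symm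
      obtain ⟨y', hy', rfl⟩ := exists_ker_mul (σ := (MonoidHom.fst Γ Δ).comp P.subtype) (a := b) (b := b') hbe.symm
      have cy : ∀ g, Commute g y := fun g => mem_center_iff.1 (hkerfst hy) g
      have cy' : ∀ g, Commute g y' := fun g => mem_center_iff.1 (hkerfst hy') g
      have : ⁅a' * y, b' * y'⁆ = ⁅a', b'⁆ := by
        have e1 : y * (b' * y') * y⁻¹ = b' * y' := by rw [← (cy (b' * y')).eq, mul_inv_cancel_right]
        have e2 : y' * a'⁻¹ * y'⁻¹ = a'⁻¹ := by rw [← (cy' a'⁻¹).eq, mul_inv_cancel_right]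
        calc ⁅a' * y, b' * y'⁆ = a' * (y * (b' * y') * y⁻¹) * a'⁻¹ * (y'⁻¹ * b'⁻¹) := by
              simp only [commutatorElement_def, mul_inv_rev, mul_assoc]
          _ = a' * b' * (y' * a'⁻¹ * y'⁻¹) * b'⁻¹ := by rw [e1]; simp only [mul_assoc]
          _ = _ := by rw [e2, commutatorElement_def]
      rw [this]
      exact ⟨⁅(⟨a', ha'⟩ : D), ⟨b', hb'⟩⁆,
        Subgroup.commutator_mem_commutator (mem_top _) (mem_top _), rfl⟩
    obtain ⟨x', hx', he⟩ := key hx
    have : x' = ⟨x, hx⟩ := Subtype.ext he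
    exact this ▸ hx'
  have hstem : Cfsg.IsStemExtension π₁ := by
    refine ⟨hπ₁, fun x hx => ?_, hDperf ▸ le_top⟩
    exact mem_center_iff.2 fun g => Subtype.ext (mem_center_iff.1 (hkerfst (x := (x : P)) hx) (g : P))
  have hbot := htriv D π₁ hstem
  let E := MulEquiv.ofBijective π₁ ⟨(MonoidHom.ker_eq_bot_iff π₁).1 hbot, hπ₁⟩
  let β : Γ →* Δ := (MonoidHom.snd Γ Δ).comp (P.subtype.comp (D.subtype.comp E.symm.toMonoidHom))
  have hβ : ∀ g, τ (β g) = σ g := by
    intro g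
    have h1 : ((E.symm g : D) : P).1.1 = g := E.apply_symm_apply g
    have h2 := ((E.symm g : D) : P).2
    conv_rhs => rw [← h1]
    exact h2.symm
  have hβs : Function.Surjective β := by
    rw [← MonoidHom.range_eq_top, eq_top_iff, ← commutator_eq_top_of_stem hτ (by
      rw [eq_top_iff, ← Subgroup.map_top_of_surjective σ hs, ← hperf, _root_.commutator_def,
        Subgroup.map_commutator, _root_.commutator_def]
      exact Subgroup.commutator_mono le_top le_top)]
    rw [_root_.commutator_def, Subgroup.commutator_le]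
    intro a _ b _
    obtain ⟨a', ha'⟩ := hs (τ a)
    obtain ⟨b', hb'⟩ := hs (τ b)
    obtain ⟨y, hy, rfl⟩ := exists_ker_mul (σ := τ) (a := a) (b := β a') (by rw [hβ, ha'])
    obtain ⟨y', hy', rfl⟩ := exists_ker_mul (σ := τ) (a := b) (b := β b') (by rw [hβ, hb'])
    refine ⟨⁅a', b'⁆, ?_⟩
    have cy : ∀ g, Commute g y := ker_comm hτ.2.1 hy
    have cy' : ∀ g, Commute g y' := ker_comm hτ.2.1 hy'
    rw [map_commutatorElement]
    have e1 : y * (β b' * y') * y⁻¹ = β b' * y' := by rw [← (cy (β b' * y')).eq, mul_inv_cancel_right]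
    have e2 : y' * (β a')⁻¹ * y'⁻¹ = (β a')⁻¹ := by rw [← (cy' (β a')⁻¹).eq, mul_inv_cancel_right]
    calc ⁅β a', β b'⁆ = β a' * β b' * (y' * (β a')⁻¹ * y'⁻¹) * (β b')⁻¹ := by
            rw [e2, commutatorElement_def]
      _ = β a' * (y * (β b' * y') * y⁻¹) * (β a')⁻¹ * (y'⁻¹ * (β b')⁻¹) := by
            rw [e1]; simp only [mul_assoc]
      _ = _ := by simp only [commutatorElement_def, mul_inv_rev, mul_assoc]
  let ρ : σ.ker →* τ.ker := (β.comp σ.ker.subtype).codRestrict _ fun x => by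
    rw [MonoidHom.mem_ker]
    exact (hβ x).trans x.2
  refine ⟨ρ.comp e.symm.toMonoidHom, (show Function.Surjective ρ from fun y => ?_).comp e.symm.surjective⟩
  obtain ⟨g, hg⟩ := hβs y
  exact ⟨⟨g, by rw [MonoidHom.mem_ker, ← hβ, hg]; exact y.2⟩, Subtype.ext hg⟩

end Cfsg.Agent.StemBasic
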