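import Mathlib
import Cfsg.Prelude.Def_SporadicB
import Cfsg.Agent.S2493
import Cfsg.Agent.S3335
import Cfsg.Agent.Lib.CarmichaelLifts

/-!
Any two nonsplit double covers of an alternating group of degree at least eight are isomorphic.
-/

set_option autoImplicit false

namespace Cfsg.Agent.AltCoverUnique21

open Cfsg.Agent.S2493 (Cov eq_one_or_eq)

universe u v

variable {n : ℕ}

/-- The presented generators in the alternating group. -/
theorem exists_pres (hn : 8 ≤ n) :
    ∃ (φ : PresentedGroup (S3335.rels (n - 2)) ≃* alternatingGroup (Fin n)) (x : ℕ → alternatingGroup (Fin n)),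
      CarmichaelLifts.Rels (n - 2) x ∧ ∀ i : Fin (n - 2), x i = φ (PresentedGroup.of i) := by
  obtain ⟨φ⟩ := S3335.result n (by omega)
  let x : ℕ → alternatingGroup (Fin n) := fun i =>
    if h : i < n - 2 then φ (PresentedGroup.of ⟨i, h⟩) else 1
  have hxof : ∀ i : Fin (n - 2), x i = φ (PresentedGroup.of i) := fun i => dif_pos i.2
  have hrel : ∀ r, r ∈ _ → φ (PresentedGroup.mk _ r) = 1 := fun r hr => by
    rw [PresentedGroup.one_of_mem hr, map_one]
  refine ⟨φ, x, ⟨?_, fun i h1 h2 => ?_, fun i h => ?_, fun i j h1 h2 => ?_⟩, hxof⟩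
  · rw [show x 0 = _ from hxof ⟨0, by omega⟩]
    exact (map_pow φ _ _).symm.trans ((congrArg φ (map_pow _ _ _).symm).trans
      (hrel _ (.inl (.inl (.inl ⟨_, rfl, rfl⟩)))))
  · rw [show x i = _ from hxof ⟨i, h2⟩]
    exact (map_pow φ _ _).symm.trans ((congrArg φ (map_pow _ _ _).symm).trans
      (hrel _ (.inl (.inl (.inr ⟨⟨i, h2⟩, h1, rfl⟩)))))
  · rw [show x i = _ from hxof ⟨i, by omega⟩, show x (i + 1) = _ from hxof ⟨i + 1, h⟩, ← map_mul]
    have := hrel _ (.inl (.inr ⟨⟨i, by omega⟩, ⟨i + 1, h⟩, rfl, rfl⟩))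
    rwa [map_pow, map_mul, map_pow] at this
  · rw [show x i = _ from hxof ⟨i, by omega⟩, show x j = _ from hxof ⟨j, h2⟩, ← map_mul]
    have := hrel _ (.inr ⟨⟨i, by omega⟩, ⟨j, h2⟩, h1, rfl⟩)
    rwa [map_pow, map_mul, map_pow] at this

/-- The lifts of the generators, with the central involution as the common value. -/
theorem exists_lifts {C : Type u} [Group C] (hn : 8 ≤ n)
    (h : Cfsg.IsNonsplitDoubleCover C (alternatingGroup (Fin n)))
    (φ : PresentedGroup (S3335.rels (n - 2)) ≃* alternatingGroup (Fin n))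
    {x : ℕ → alternatingGroup (Fin n)} (hx : CarmichaelLifts.Rels (n - 2) x)
    (hxof : ∀ i : Fin (n - 2), x i = φ (PresentedGroup.of i)) :
    ∃ (π : C →* alternatingGroup (Fin n)) (z : C) (f : ℕ → C), Cov π z ∧
      (∀ i, i < n - 2 → π (f i) = x i) ∧
      f 0 ^ 3 = 1 ∧ (∀ i, 1 ≤ i → i < n - 2 → f i ^ 2 = z) ∧
      (∀ i, i + 1 < n - 2 → (f i * f (i + 1)) ^ 3 = z) ∧
      ∀ i j, i + 1 < j → j < n - 2 → (f i * f j) ^ 2 = z := by
  obtain ⟨hZ, ⟨e⟩, hns⟩ := h
  obtain ⟨⟨z, hz⟩, hzne⟩ : ∃ z : Subgroup.center C, z ≠ 1 := by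
    haveI : Nontrivial (Subgroup.center C) := by
      haveI := Nat.finite_of_card_ne_zero (α := Subgroup.center C) (by omega)
      exact Finite.one_lt_card_iff_nontrivial.mp (by omega)
    exact exists_ne 1
  have hz1 : z ≠ 1 := fun e => hzne (Subtype.ext e)
  let π : C →* alternatingGroup (Fin n) := e.toMonoidHom.comp (QuotientGroup.mk' (Subgroup.center C))
  have hker : ∀ h, π h = 1 ↔ h ∈ Subgroup.center C := fun h => by
    show e (QuotientGroup.mk h) = 1 ↔ _
    rw [map_eq_one_iff _ e.injective, QuotientGroup.eq_one_iff]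
  have hsurj : Function.Surjective π := e.surjective.comp Quotient.mk''_surjective
  have hsq : z * z = 1 := by
    have h2 := pow_card_eq_one' (G := ↥(Subgroup.center C)) (x := ⟨z, hz⟩)
    rw [hZ, sq] at h2
    exact congrArg Subtype.val h2
  have hC : Cov π z := ⟨hsurj, fun w => by
    rw [hker]
    refine ⟨fun hw => eq_one_or_eq hZ hz hz1 hw, ?_⟩
    rintro (rfl | rfl)
    exacts [one_mem _, hz], fun w => (Subgroup.mem_center_iff.1 hz w).symm, hsq, hz1⟩
  obtain ⟨c, f, hc, -, hfσ, hf0, hfsq, hfbr, hffar⟩ :=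
    CarmichaelLifts.exists_relations hsurj (fun w hw => (hker w).1 hw) (by omega : 6 ≤ n - 2) hx
  rcases (hC.ker c).1 hc with rfl | rfl
  · exfalso
    let Φ := PresentedGroup.toGroup (f := fun i : Fin (n - 2) => f i) (h := S3335.lift_rels _
      (fun i hi => by show f i ^ 3 = 1; rw [hi, hf0])
      (fun i hi => by show f i ^ 2 = 1; rw [hfsq i hi i.2])
      (fun i j hij => by show (f i * f j) ^ 3 = 1; rw [hij, hfbr i (hij ▸ j.2)])
      (fun i j hij => by show (f i * f j) ^ 2 = 1; rw [hffar i j hij j.2]))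
    have hcomp : π.comp Φ = φ.toMonoidHom := PresentedGroup.ext fun i => by
      show π (Φ (PresentedGroup.of i)) = φ (PresentedGroup.of i)
      rw [show Φ (PresentedGroup.of i) = f i from PresentedGroup.toGroup.of _, ← hxof]
      exact hfσ i i.2
    refine hns Φ.range ⟨?_, ?_⟩
    · rintro ⟨⟨a, ha⟩, ⟨_, p, rfl⟩⟩ ⟨⟨a', ha'⟩, ⟨_, p', rfl⟩⟩ (he : a * Φ p = a' * Φ p')
      have h1 := congrArg π he
      rw [map_mul, map_mul, (hker a).2 ha, (hker a').2 ha', one_mul, one_mul] at h1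
      have h2 : φ p = φ p' :=
        (DFunLike.congr_fun hcomp p).symm.trans (h1.trans (DFunLike.congr_fun hcomp p'))
      obtain rfl := φ.injective h2
      obtain rfl := mul_right_cancel he
      rfl
    · intro y
      obtain ⟨p, hp⟩ := φ.surjective (π y)
      refine ⟨(⟨y * (Φ p)⁻¹, (hker _).1 ?_⟩, ⟨Φ p, p, rfl⟩), inv_mul_cancel_right y (Φ p)⟩
      rw [map_mul, map_inv, show π (Φ p) = π y from (DFunLike.congr_fun hcomp p).trans hp, mul_inv_cancel]
  · exact ⟨π, c, f, hC, hfσ, hf0, hfsq, hfbr, hffar⟩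

/-- Two nonsplit double covers are isomorphic. -/
theorem cover_unique {C : Type u} {C' : Type v} [Group C] [Group C'] (hn : 8 ≤ n)
    (h : Cfsg.IsNonsplitDoubleCover C (alternatingGroup (Fin n)))
    (h' : Cfsg.IsNonsplitDoubleCover C' (alternatingGroup (Fin n))) : Nonempty (C ≃* C') := by
  obtain ⟨φ, x, hx, hxof⟩ := exists_pres hn
  obtain ⟨π, z, f, hC, hfσ, hf0, hfsq, hfbr, hffar⟩ := exists_lifts hn h φ hx hxof
  obtain ⟨π', z', f', hC', hfσ', hf0', hfsq', hfbr', hffar'⟩ := exists_lifts hn h' φ hx hxof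
  let Z0 : Subgroup (C × C') :=
    { carrier := {w | w = 1 ∨ w = (z, z')}
      one_mem' := Or.inl rfl
      mul_mem' := by
        rintro a b (rfl | rfl) (rfl | rfl)
        exacts [Or.inl (one_mul 1), Or.inr (one_mul _), Or.inr (mul_one _),
          Or.inl (Prod.ext hC.sq hC'.sq)]
      inv_mem' := by
        rintro a (rfl | rfl)
        exacts [Or.inl inv_one, Or.inr (inv_eq_of_mul_eq_one_right (Prod.ext hC.sq hC'.sq))] }
  haveI : Z0.Normal := by
    constructor
    rintro a (rfl | rfl) ⟨g, g'⟩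
    · exact Or.inl (by simp)
    · refine Or.inr (Prod.ext ?_ ?_)
      · show g * z * g⁻¹ = z
        rw [← hC.central, mul_inv_cancel_right]
      · show g' * z' * g'⁻¹ = z'
        rw [← hC'.central, mul_inv_cancel_right]
  have hm : ∀ w : C × C', w = (z, z') → QuotientGroup.mk' Z0 w = 1 := fun w hw =>
    (QuotientGroup.eq_one_iff w).mpr (Or.inr hw)
  let F : Fin (n - 2) → (C × C') ⧸ Z0 := fun i => QuotientGroup.mk' Z0 (f i, f' i)
  let Φ := PresentedGroup.toGroup (f := F) (h := S3335.lift_rels F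
    (fun i hi => by
      show (QuotientGroup.mk' Z0 (f i, f' i)) ^ 3 = 1
      rw [← map_pow, hi, Prod.pow_mk, hf0, hf0']; exact map_one _)
    (fun i hi => by
      show (QuotientGroup.mk' Z0 (f i, f' i)) ^ 2 = 1
      rw [← map_pow]
      exact hm _ (Prod.ext (hfsq i hi i.2) (hfsq' i hi i.2)))
    (fun i j hij => by
      show (QuotientGroup.mk' Z0 (f i, f' i) * QuotientGroup.mk' Z0 (f j, f' j)) ^ 3 = 1
      rw [← map_mul, ← map_pow, hij]
      exact hm _ (Prod.ext (hfbr i (hij ▸ j.2)) (hfbr' i (hij ▸ j.2))))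
    (fun i j hij => by
      show (QuotientGroup.mk' Z0 (f i, f' i) * QuotientGroup.mk' Z0 (f j, f' j)) ^ 2 = 1
      rw [← map_mul, ← map_pow]
      exact hm _ (Prod.ext (hffar i j hij j.2) (hffar' i j hij j.2))))
  let L : Subgroup (C × C') := Φ.range.comap (QuotientGroup.mk' Z0)
  let P : (C × C') ⧸ Z0 →* alternatingGroup (Fin n) := QuotientGroup.lift Z0 (π.comp (MonoidHom.fst C C')) (by
    rintro a (rfl | rfl)
    · exact map_one _
    · exact (hC.ker z).2 (Or.inr rfl))
  let P' : (C × C') ⧸ Z0 →* alternatingGroup (Fin n) := QuotientGroup.lift Z0 (π'.comp (MonoidHom.snd C C')) (by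
    rintro a (rfl | rfl)
    · exact map_one _
    · exact (hC'.ker z').2 (Or.inr rfl))
  have hP : ∀ p, P (Φ p) = φ p := DFunLike.congr_fun (PresentedGroup.ext (φ := P.comp Φ) (ψ := φ.toMonoidHom)
    fun i => by
      show P (Φ (PresentedGroup.of i)) = φ (PresentedGroup.of i)
      rw [show Φ (PresentedGroup.of i) = F i from PresentedGroup.toGroup.of _, ← hxof]
      exact hfσ i i.2)
  have hP' : ∀ p, P' (Φ p) = φ p := DFunLike.congr_fun (PresentedGroup.ext (φ := P'.comp Φ) (ψ := φ.toMonoidHom)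
    fun i => by
      show P' (Φ (PresentedGroup.of i)) = φ (PresentedGroup.of i)
      rw [show Φ (PresentedGroup.of i) = F i from PresentedGroup.toGroup.of _, ← hxof]
      exact hfσ' i i.2)
  let p1 : L →* C := (MonoidHom.fst C C').comp L.subtype
  let p2 : L →* C' := (MonoidHom.snd C C').comp L.subtype
  have hmem : ∀ w : L, π w.1.1 = π' w.1.2 := by
    rintro ⟨⟨a, b⟩, p, hp⟩
    show P (QuotientGroup.mk' Z0 (a, b)) = P' (QuotientGroup.mk' Z0 (a, b))
    rw [← hp, hP, hP']
  have hone : ∀ w : L, π w.1.1 = 1 → (w : C × C') = 1 ∨ (w : C × C') = (z, z') := by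
    rintro ⟨⟨a, b⟩, p, hp⟩ hw
    have h1 : φ p = 1 := by rw [← hP, hp]; exact hw
    rw [φ.injective (h1.trans (map_one φ).symm), map_one] at hp
    exact (QuotientGroup.eq_one_iff _).mp hp.symm
  have hzL : ((z, z') : C × C') ∈ L := ⟨1, by rw [map_one, hm _ rfl]⟩
  have hb1 : Function.Bijective p1 := by
    constructor
    · rw [← MonoidHom.ker_eq_bot_iff, Subgroup.eq_bot_iff_forall]
      intro w hw
      have hw' : w.1.1 = 1 := hw
      rcases hone w (by rw [hw', map_one]) with h1 | h1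
      · exact Subtype.ext h1
      · exact absurd ((congrArg Prod.fst h1).symm.trans hw') hC.ne
    · intro a
      obtain ⟨p, hp⟩ := φ.surjective (π a)
      obtain ⟨⟨a0, b0⟩, hab⟩ := QuotientGroup.mk'_surjective Z0 (Φ p)
      have hw : (a0, b0) ∈ L := ⟨p, hab.symm⟩
      have : π (a0⁻¹ * a) = 1 := by
        rw [map_mul, map_inv, ← hp, ← hP, ← hab]
        exact inv_mul_cancel _
      rcases (hC.ker _).1 this with h1 | h1
      · exact ⟨⟨_, hw⟩, inv_mul_eq_one.mp h1⟩
      · exact ⟨⟨_, mul_mem hw hzL⟩, show a0 * z = a by rw [← h1, mul_inv_cancel_left]⟩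
  have hb2 : Function.Bijective p2 := by
    constructor
    · rw [← MonoidHom.ker_eq_bot_iff, Subgroup.eq_bot_iff_forall]
      intro w hw
      have hw' : w.1.2 = 1 := hw
      rcases hone w (by rw [hmem w, hw', map_one]) with h1 | h1
      · exact Subtype.ext h1
      · exact absurd ((congrArg Prod.snd h1).symm.trans hw') hC'.ne
    · intro b
      obtain ⟨p, hp⟩ := φ.surjective (π' b)
      obtain ⟨⟨a0, b0⟩, hab⟩ := QuotientGroup.mk'_surjective Z0 (Φ p)
      have hw : (a0, b0) ∈ L := ⟨p, hab.symm⟩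
      have : π' (b0⁻¹ * b) = 1 := by
        rw [map_mul, map_inv, ← hp, ← hP', ← hab]
        exact inv_mul_cancel _
      rcases (hC'.ker _).1 this with h1 | h1
      · exact ⟨⟨_, hw⟩, inv_mul_eq_one.mp h1⟩
      · exact ⟨⟨_, mul_mem hw hzL⟩, show b0 * z' = b by rw [← h1, mul_inv_cancel_left]⟩
  exact ⟨(MulEquiv.ofBijective p1 hb1).symm.trans (MulEquiv.ofBijective p2 hb2)⟩

end Cfsg.Agent.AltCoverUnique21
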