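import Mathlib
import Cfsg.Prelude.Def_SporadicB
import Cfsg.Agent.S3335
import Cfsg.Agent.Lib.CarmichaelLifts

/-!
A nonsplit double cover of an alternating group of degree at least eight is unique up to
isomorphism: Carmichael's generators lift with all relators equal to the central involution.
-/

set_option autoImplicit false

namespace Cfsg.Agent.AltCoverUnique49

/-- Elements satisfying Carmichael's relations generate a group no larger than the alternating one. -/
theorem card_closure_le {n : ℕ} (hn : 3 ≤ n) {X : Type*} [Group X] (f : Fin (n - 2) → X)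
    (h3 : ∀ i : Fin (n - 2), i.val = 0 → f i ^ 3 = 1) (h2 : ∀ i : Fin (n - 2), 1 ≤ i.val → f i ^ 2 = 1)
    (hb : ∀ i j : Fin (n - 2), j.val = i.val + 1 → (f i * f j) ^ 3 = 1)
    (hc : ∀ i j : Fin (n - 2), i.val + 1 < j.val → (f i * f j) ^ 2 = 1) :
    Nat.card (Subgroup.closure (Set.range f)) ≤ Nat.card (alternatingGroup (Fin n)) := by
  obtain ⟨φ⟩ := Cfsg.Agent.S3335.result n hn
  have := Finite.of_equiv _ φ.symm.toEquiv
  let Φ := PresentedGroup.toGroup (f := f) (h := Cfsg.Agent.S3335.lift_rels f h3 h2 hb hc)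
  have hr : Φ.range = Subgroup.closure (Set.range f) := by
    rw [MonoidHom.range_eq_map, ← PresentedGroup.closure_range_of, MonoidHom.map_closure,
      ← Set.range_comp]
    congr 2
    funext i
    exact PresentedGroup.toGroup.of _
  rw [← hr, ← Nat.card_congr φ.toEquiv]
  exact Nat.card_le_card_of_surjective _ Φ.rangeRestrict_surjective

/-- Generators of a double cover with every relator equal to the central involution. -/
structure Lift (n : ℕ) (C : Type*) [Group C] where
  z : C
  f : Fin (n - 2) → C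
  zne : z ≠ 1
  zsq : z * z = 1
  central : ∀ g, z * g = g * z
  cube : ∀ i : Fin (n - 2), i.val = 0 → f i ^ 3 = 1
  sq : ∀ i : Fin (n - 2), 1 ≤ i.val → f i ^ 2 = z
  braid : ∀ i j : Fin (n - 2), j.val = i.val + 1 → (f i * f j) ^ 3 = z
  far : ∀ i j : Fin (n - 2), i.val + 1 < j.val → (f i * f j) ^ 2 = z
  gen : Subgroup.closure (Set.range f) = ⊤
  card : Nat.card C = 2 * Nat.card (alternatingGroup (Fin n))

theorem exists_lift {n : ℕ} (hn : 8 ≤ n) {C : Type*} [Group C] [Finite C]
    (h : Cfsg.IsNonsplitDoubleCover C (alternatingGroup (Fin n))) : Nonempty (Lift n C) := by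
  obtain ⟨hZ, ⟨e⟩, hns⟩ := h
  let π : C →* alternatingGroup (Fin n) := e.toMonoidHom.comp (QuotientGroup.mk' _)
  have hsurj : Function.Surjective π := e.surjective.comp (QuotientGroup.mk'_surjective _)
  have hker : ∀ g, π g = 1 ↔ g ∈ Subgroup.center C := fun g => by
    show e (QuotientGroup.mk g) = 1 ↔ _
    rw [← map_one e, e.injective.eq_iff, QuotientGroup.eq_one_iff]
  obtain ⟨φ⟩ := Cfsg.Agent.S3335.result n (by omega)
  let x : ℕ → alternatingGroup (Fin n) := fun i =>
    if h : i < n - 2 then φ (PresentedGroup.of ⟨i, h⟩) else 1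
  have hxof : ∀ i : Fin (n - 2), x i = φ (PresentedGroup.of i) := fun i => dif_pos i.2
  have hrel : ∀ r, r ∈ _ → φ (PresentedGroup.mk _ r) = 1 := fun r hr => by
    rw [PresentedGroup.one_of_mem hr, map_one]
  have hx : Cfsg.Agent.CarmichaelLifts.Rels (n - 2) x := by
    refine ⟨?_, fun i h1 h2 => ?_, fun i h => ?_, fun i j h1 h2 => ?_⟩
    · rw [show x 0 = _ from hxof ⟨0, by omega⟩]
      exact (map_pow φ _ _).symm.trans ((congrArg φ (map_pow _ _ _).symm).trans
        (hrel _ (.inl (.inl (.inl ⟨_, rfl, rfl⟩)))))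
    · rw [show x i = _ from hxof ⟨i, h2⟩]
      exact (map_pow φ _ _).symm.trans ((congrArg φ (map_pow _ _ _).symm).trans
        (hrel _ (.inl (.inl (.inr ⟨⟨i, h2⟩, h1, rfl⟩)))))
    · rw [show x i = _ from hxof ⟨i, by omega⟩, show x (i + 1) = _ from hxof ⟨i + 1, h⟩, ← map_mul]
      have := hrel _ (.inl (.inr ⟨⟨i, by omega⟩, ⟨i + 1, h⟩, rfl, rfl⟩))
      rwa [map_pow, map_mul, map_pow] at this
    · rw [show x i = _ from hxof ⟨i, by omega⟩, show x j = _ from hxof ⟨j, h2⟩, ← map_mul]
      have := hrel _ (.inr ⟨⟨i, by omega⟩, ⟨j, h2⟩, h1, rfl⟩)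
      rwa [map_pow, map_mul, map_pow] at this
  obtain ⟨c, f, hcσ, hc2, hfσ, hf0, hfsq, hfbr, hffar⟩ :=
    Cfsg.Agent.CarmichaelLifts.exists_relations hsurj (fun w hw => (hker w).1 hw)
      (by omega : 6 ≤ n - 2) hx
  let F : Fin (n - 2) → C := fun i => f i
  have hmap : (Subgroup.closure (Set.range F)).map π = ⊤ := by
    rw [MonoidHom.map_closure, ← Set.range_comp, eq_top_iff,
      ← Subgroup.map_top_of_surjective φ.toMonoidHom φ.surjective,
      ← PresentedGroup.closure_range_of, MonoidHom.map_closure, ← Set.range_comp]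
    refine Subgroup.closure_mono ?_
    rintro _ ⟨i, rfl⟩
    exact ⟨i, (hfσ i i.2).trans (hxof i)⟩
  have hlift : ∀ g, ∃ l ∈ Subgroup.closure (Set.range F), π l = π g := fun g => by
    have : π g ∈ (Subgroup.closure (Set.range F)).map π := hmap ▸ Subgroup.mem_top _
    exact this
  have hcard : Nat.card C = 2 * Nat.card (alternatingGroup (Fin n)) := by
    rw [Subgroup.card_eq_card_quotient_mul_card_subgroup (Subgroup.center C), hZ,
      Nat.card_congr e.toEquiv, mul_comm]
  have hc1 : c ≠ 1 := by
    intro hc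
    have hle : Nat.card (Subgroup.closure (Set.range F)) ≤ Nat.card (alternatingGroup (Fin n)) :=
      card_closure_le (by omega) F (fun i hi => by show f i ^ 3 = 1; rw [hi, hf0])
        (fun i hi => by show f i ^ 2 = 1; rw [hfsq i hi i.2, hc])
        (fun i j hij => by show (f i * f j) ^ 3 = 1; rw [hij, hfbr i (hij ▸ j.2), hc])
        (fun i j hij => by show (f i * f j) ^ 2 = 1; rw [hffar i j hij j.2, hc])
    let r : Subgroup.closure (Set.range F) → alternatingGroup (Fin n) := fun l => π l
    have hr : Function.Surjective r := fun a => by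
      obtain ⟨g, rfl⟩ := hsurj a
      obtain ⟨l, hl, e'⟩ := hlift g
      exact ⟨⟨l, hl⟩, e'⟩
    have hinj : Function.Injective r :=
      (Nat.bijective_iff_surjective_and_card r).2
        ⟨hr, le_antisymm hle (Nat.card_le_card_of_surjective r hr)⟩ |>.1
    refine hns (Subgroup.closure (Set.range F)) (Subgroup.isComplement'_of_card_mul_and_disjoint ?_ ?_)
    · rw [hZ, hcard, le_antisymm hle (Nat.card_le_card_of_surjective r hr)]
    · rw [Subgroup.disjoint_def]
      intro g hg hgl
      have : (⟨g, hgl⟩ : Subgroup.closure (Set.range F)) = ⟨1, one_mem _⟩ :=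
        hinj (show π g = π 1 by rw [(hker g).2 hg, map_one])
      exact congrArg Subtype.val this
  have hcz : c ∈ Subgroup.center C := (hker c).1 hcσ
  have hgen : Subgroup.closure (Set.range F) = ⊤ := by
    rw [eq_top_iff]
    intro g _
    obtain ⟨l, hl, e'⟩ := hlift g
    have hw : l⁻¹ * g ∈ Subgroup.center C := (hker _).1 (by rw [map_mul, map_inv, e', inv_mul_cancel])
    have hcF : c ∈ Subgroup.closure (Set.range F) := by
      rw [← hfsq 1 le_rfl (by omega)]
      exact pow_mem (show f 1 ∈ Subgroup.closure (Set.range F) from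
        Subgroup.subset_closure ⟨(⟨1, by omega⟩ : Fin (n - 2)), rfl⟩) 2
    have hwF : l⁻¹ * g ∈ Subgroup.closure (Set.range F) := by
      obtain ⟨u, v, -, huv⟩ := Nat.card_eq_two_iff.mp hZ
      have mem : ∀ t : Subgroup.center C, t = u ∨ t = v := fun t => by
        have : t ∈ ({u, v} : Set _) := huv ▸ Set.mem_univ t
        simpa using this
      have h1 : (⟨c, hcz⟩ : Subgroup.center C) ≠ 1 := fun h => hc1 (congrArg Subtype.val h)
      have hor : (⟨l⁻¹ * g, hw⟩ : Subgroup.center C) = 1 ∨
          (⟨l⁻¹ * g, hw⟩ : Subgroup.center C) = ⟨c, hcz⟩ := by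
        rcases mem 1 with h | h <;> rcases mem ⟨c, hcz⟩ with h' | h' <;>
          rcases mem ⟨l⁻¹ * g, hw⟩ with h'' | h'' <;> grind
      rcases hor with h | h
      · rw [show l⁻¹ * g = 1 from congrArg Subtype.val h]; exact one_mem _
      · rw [show l⁻¹ * g = c from congrArg Subtype.val h]; exact hcF
    simpa using mul_mem hl hwF
  exact ⟨{
    z := c
    f := F
    zne := hc1
    zsq := hc2
    central := fun g => (Subgroup.mem_center_iff.1 hcz g).symm
    cube := fun i hi => by show f i ^ 3 = 1; rw [hi, hf0]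
    sq := fun i hi => hfsq i hi i.2
    braid := fun i j hij => by show (f i * f j) ^ 3 = c; rw [hij, hfbr i (hij ▸ j.2)]
    far := fun i j hij => hffar i j hij j.2
    gen := hgen
    card := hcard }⟩

theorem cover_unique {C C' : Type*} [Group C] [Finite C] [Group C'] [Finite C'] (n : ℕ) (hn : 8 ≤ n)
    (h : Cfsg.IsNonsplitDoubleCover C (alternatingGroup (Fin n)))
    (h' : Cfsg.IsNonsplitDoubleCover C' (alternatingGroup (Fin n))) : Nonempty (C ≃* C') := by
  obtain ⟨a⟩ := exists_lift hn h
  obtain ⟨b⟩ := exists_lift hn h'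
  let w : C × C' := (a.z, b.z)
  have : (Subgroup.zpowers w).Normal := ⟨fun x hx g => by
    obtain ⟨k, rfl⟩ := hx
    have hc : Commute g (w ^ k) :=
      (show Commute g w from Prod.ext (a.central g.1).symm (b.central g.2).symm).zpow_right k
    rw [show g * w ^ k * g⁻¹ = w ^ k by rw [hc.eq, mul_inv_cancel_right]]
    exact ⟨k, rfl⟩⟩
  let P : Fin (n - 2) → C × C' := fun i => (a.f i, b.f i)
  let m := QuotientGroup.mk' (Subgroup.zpowers w)
  have hw1 : m w = 1 := (QuotientGroup.eq_one_iff w).2 (Subgroup.mem_zpowers w)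
  have hK : Nat.card (Subgroup.closure (Set.range fun i => m (P i))) ≤
      Nat.card (alternatingGroup (Fin n)) :=
    card_closure_le (by omega) (fun i => m (P i))
      (fun i hi => by
        rw [← map_pow, show P i ^ 3 = 1 from Prod.ext (a.cube i hi) (b.cube i hi), map_one])
      (fun i hi => by
        rw [← map_pow, show P i ^ 2 = w from Prod.ext (a.sq i hi) (b.sq i hi), hw1])
      (fun i j hij => by
        rw [← map_mul, ← map_pow,
          show (P i * P j) ^ 3 = w from Prod.ext (a.braid i j hij) (b.braid i j hij), hw1])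
      (fun i j hij => by
        rw [← map_mul, ← map_pow,
          show (P i * P j) ^ 2 = w from Prod.ext (a.far i j hij) (b.far i j hij), hw1])
  set K := Subgroup.closure (Set.range fun i => m (P i)) with hKdef
  set L : Subgroup (C × C') := K.comap m with hLdef
  have hP : ∀ i, P i ∈ L := fun i => Subgroup.subset_closure ⟨i, rfl⟩
  have hD : Nat.card (Subgroup.zpowers w) = 2 := by
    rw [Nat.card_zpowers]
    exact orderOf_eq_prime (by rw [pow_two]; exact Prod.ext a.zsq b.zsq)
      (fun e => a.zne (congrArg Prod.fst e))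
  have hLcard : Nat.card L ≤ 2 * Nat.card (alternatingGroup (Fin n)) := by
    have e1 : L.index = K.index := Subgroup.index_comap_of_surjective _ (QuotientGroup.mk'_surjective _)
    have e2 := Subgroup.card_mul_index L
    have e3 := Subgroup.card_mul_index K
    have e4 := Subgroup.card_eq_card_quotient_mul_card_subgroup (Subgroup.zpowers w)
    rw [← e3, hD] at e4
    have hi : 0 < K.index := Nat.pos_of_ne_zero Subgroup.index_ne_zero_of_finite
    have : Nat.card L * K.index = (2 * Nat.card K) * K.index := by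
      rw [← e1, e2, e4, e1]; ring
    rw [Nat.eq_of_mul_eq_mul_right hi this]
    exact Nat.mul_le_mul_left 2 hK
  have hb1 : Function.Bijective ((MonoidHom.fst C C').comp L.subtype) := by
    have hs : Function.Surjective ((MonoidHom.fst C C').comp L.subtype) := by
      rw [← MonoidHom.range_eq_top, eq_top_iff, ← a.gen, Subgroup.closure_le]
      rintro _ ⟨i, rfl⟩
      exact ⟨⟨P i, hP i⟩, rfl⟩
    exact (Nat.bijective_iff_surjective_and_card _).2
      ⟨hs, le_antisymm (hLcard.trans_eq a.card.symm) (Nat.card_le_card_of_surjective _ hs)⟩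
  have hb2 : Function.Bijective ((MonoidHom.snd C C').comp L.subtype) := by
    have hs : Function.Surjective ((MonoidHom.snd C C').comp L.subtype) := by
      rw [← MonoidHom.range_eq_top, eq_top_iff, ← b.gen, Subgroup.closure_le]
      rintro _ ⟨i, rfl⟩
      exact ⟨⟨P i, hP i⟩, rfl⟩
    exact (Nat.bijective_iff_surjective_and_card _).2
      ⟨hs, le_antisymm (hLcard.trans_eq b.card.symm) (Nat.card_le_card_of_surjective _ hs)⟩
  exact ⟨(MulEquiv.ofBijective _ hb1).symm.trans (MulEquiv.ofBijective _ hb2)⟩

end Cfsg.Agent.AltCoverUnique49
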