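import Mathlib
import Cfsg.Agent.Lib.PrimeCycle
import Cfsg.Agent.S3573

/-!
Derangements of largest prime order for subgroups of alternating groups: if `M` is a maximal
invariant subgroup of `Alt(m)` and `r` is the largest prime divisor of its index, then some element
of order `r` has no conjugate in `M`.

The only arithmetical input is that `C(m,k)` has a prime divisor `p` with `k < p` or `m < p * p`.
-/

set_option autoImplicit false
set_option linter.unusedSectionVars false
set_option maxRecDepth 4000

namespace Cfsg.Agent.AltDerangement87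

open Equiv Equiv.Perm MulAction
open scoped Pointwise

section Arith

theorem two_mul_primes_lt : ∀ s : ℕ, 9 ≤ s →
    2 * ((Finset.range (s + 1)).filter Nat.Prime).card < s := by
  intro s
  induction s using Nat.strong_induction_on with
  | _ s ih =>
    intro hs
    rcases (by omega : s = 9 ∨ s = 10 ∨ 11 ≤ s) with rfl | rfl | h
    · decide
    · decide
    · obtain ⟨t, rfl⟩ : ∃ t, s = t + 2 := ⟨s - 2, by omega⟩
      have h1 := ih t (by omega) (by omega)
      have h2 : ((Finset.range (t + 2 + 1)).filter Nat.Prime).card ≤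
          ((Finset.range (t + 1)).filter Nat.Prime).card + 1 := by
        rw [Finset.range_add_one (n := t + 2), Finset.filter_insert,
          Finset.range_add_one (n := t + 1), Finset.filter_insert]
        by_cases ha : (t + 2).Prime
        · have hb : ¬ (t + 1).Prime := fun hb => by
            rcases hb.eq_two_or_odd with h' | h'
            · omega
            · rcases ha.eq_two_or_odd with h'' | h'' <;> omega
          rw [if_pos ha, if_neg hb]
          exact Finset.card_insert_le _ _
        · rw [if_neg ha]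
          split
          · exact Finset.card_insert_le _ _
          · omega
      omega

theorem pow_le_choose_mul : ∀ k m : ℕ, k ≤ m → m ^ k ≤ m.choose k * k ^ k := by
  intro k
  induction k with
  | zero => intro m _; simp
  | succ j ih =>
    intro m hm
    obtain ⟨n, rfl⟩ : ∃ n, m = n + 1 := ⟨m - 1, by omega⟩
    rcases Nat.eq_zero_or_pos j with rfl | hj
    · simp
    have hjn : j ≤ n := by omega
    have h1 := ih n hjn
    have h2 : (n + 1) * n.choose j = (n + 1).choose (j + 1) * (j + 1) := Nat.add_one_mul_choose_eq n j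
    have h3 : (n + 1) * j ≤ n * (j + 1) := by nlinarith
    have h4 : (n + 1) ^ j * j ^ j ≤ n.choose j * (j + 1) ^ j * j ^ j := by
      calc (n + 1) ^ j * j ^ j = ((n + 1) * j) ^ j := (mul_pow _ _ _).symm
        _ ≤ (n * (j + 1)) ^ j := Nat.pow_le_pow_left h3 j
        _ = n ^ j * (j + 1) ^ j := mul_pow _ _ _
        _ ≤ n.choose j * j ^ j * (j + 1) ^ j := Nat.mul_le_mul_right _ h1
        _ = n.choose j * (j + 1) ^ j * j ^ j := by ring
    have h5 := Nat.le_of_mul_le_mul_right h4 (pow_pos hj j)
    calc (n + 1) ^ (j + 1) = (n + 1) * (n + 1) ^ j := by ring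
      _ ≤ (n + 1) * (n.choose j * (j + 1) ^ j) := Nat.mul_le_mul_left _ h5
      _ = (n + 1).choose (j + 1) * (j + 1) * (j + 1) ^ j := by rw [← mul_assoc, h2]
      _ = _ := by ring

theorem choose_le_pow {m k : ℕ} (hk : k ≤ m) (hm : 0 < m) (B : ℕ)
    (hB : ∀ p : ℕ, p.Prime → p ∣ m.choose k → p ≤ B) :
    m.choose k ≤ m ^ ((Finset.range (B + 1)).filter Nat.Prime).card := by
  have h0 : m.choose k ≠ 0 := (Nat.choose_pos hk).ne'
  calc m.choose k = ∏ p ∈ (m.choose k).primeFactors, p ^ (m.choose k).factorization p :=
        Nat.prod_primeFactors_pow_factorization h0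
    _ ≤ ∏ _p ∈ (m.choose k).primeFactors, m :=
        Finset.prod_le_prod' fun p _ => Nat.pow_factorization_choose_le hm
    _ = m ^ (m.choose k).primeFactors.card := Finset.prod_const _
    _ ≤ _ := Nat.pow_le_pow_right hm (Finset.card_le_card fun p hp => by
        rw [Nat.mem_primeFactors] at hp
        rw [Finset.mem_filter, Finset.mem_range]
        exact ⟨Nat.lt_succ_of_le (hB p hp.1 hp.2.1), hp.1⟩)

theorem dvd_choose_of_mod_lt {p m k : ℕ} (hp : p.Prime) (h : m % p < k % p) : p ∣ m.choose k := by
  haveI := Fact.mk hp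
  have h1 := Choose.choose_modEq_choose_mod_mul_choose_div_nat (p := p) (n := m) (k := k)
  rw [Nat.choose_eq_zero_of_lt h, zero_mul] at h1
  exact Nat.modEq_zero_iff_dvd.1 h1

theorem mod_lt_of_dvd_choose {p m k : ℕ} (hp : p.Prime) (hk : k ≤ m)
    (hbig : k < p ∨ m < p * p) (h : p ∣ m.choose k) : m % p < k % p := by
  haveI := Fact.mk hp
  by_contra hc
  push Not at hc
  have h1 := Choose.choose_modEq_choose_mod_mul_choose_div_nat (p := p) (n := m) (k := k)
  have h2 : p ∣ (m % p).choose (k % p) * (m / p).choose (k / p) :=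
    Nat.modEq_zero_iff_dvd.1 (h1.symm.trans (Nat.modEq_zero_iff_dvd.2 h))
  have key : ∀ a b : ℕ, a < p → b ≤ a → ¬ p ∣ a.choose b := fun a b ha hb hd => by
    have h3 : p ∣ a.factorial := by
      rw [← Nat.choose_mul_factorial_mul_factorial hb, mul_assoc]
      exact hd.trans (Dvd.intro _ rfl)
    exact absurd (hp.dvd_factorial.1 h3) (by omega)
  rcases hp.dvd_mul.1 h2 with h3 | h3
  · exact key _ _ (Nat.mod_lt _ hp.pos) hc h3
  · rcases hbig with hb | hb
    · rw [Nat.div_eq_of_lt hb, Nat.choose_zero_right] at h3
      exact hp.one_lt.ne' (Nat.dvd_one.1 h3)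
    · exact key _ _ ((Nat.div_lt_iff_lt_mul hp.pos).2 hb) (Nat.div_le_div_right hk) h3

theorem exists_good_prime {m k : ℕ} (hk : 1 ≤ k) (hkm : 2 * k < m) :
    ∃ p : ℕ, p.Prime ∧ p ∣ m.choose k ∧ (k < p ∨ m < p * p) := by
  by_cases hm : m < 94
  · have h : ∀ m ∈ List.range 94, ∀ k ∈ List.range 47, 1 ≤ k → 2 * k < m →
        ∃ p ∈ [2, 3, 5, 7, 11, 13, 17, 19, 23, 29, 31, 37, 41, 43, 47, 53, 59, 61, 67, 71, 73, 79,
          83, 89], (m : ℕ) % p < (k : ℕ) % p ∧ ((k : ℕ) < p ∨ (m : ℕ) < p * p) := by decide +kernel
    obtain ⟨p, hp, h1, h2⟩ := h m (List.mem_range.2 hm) k (List.mem_range.2 (by omega)) hk hkm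
    have hpp : p.Prime := by
      simp only [List.mem_cons, List.not_mem_nil, or_false] at hp
      rcases hp with rfl | rfl | rfl | rfl | rfl | rfl | rfl | rfl | rfl | rfl | rfl | rfl | rfl |
        rfl | rfl | rfl | rfl | rfl | rfl | rfl | rfl | rfl | rfl | rfl <;> norm_num
    exact ⟨p, hpp, dvd_choose_of_mod_lt hpp h1, h2⟩
  · by_contra hne
    push Not at hne
    have hsmall : ∀ p : ℕ, p.Prime → p ∣ m.choose k → p ≤ min k (Nat.sqrt m) := fun p hp hd =>
      le_min (hne p hp hd).1 (Nat.le_sqrt.2 (hne p hp hd).2)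
    set s := min k (Nat.sqrt m) with hs
    set π := ((Finset.range (s + 1)).filter Nat.Prime).card with hπ
    have hup := choose_le_pow (by omega : k ≤ m) (by omega) s hsmall
    have hsk : s ≤ k := min_le_left _ _
    have hs1 : 1 ≤ s := le_min hk (Nat.le_sqrt.2 (by omega))
    have hss : s * s ≤ m := (Nat.mul_le_mul (min_le_right k _) (min_le_right k _)).trans (Nat.sqrt_le m)
    have hmono : m.choose s ≤ m.choose k := by
      have hmo : ∀ j, s ≤ j → 2 * j < m + 1 → m.choose s ≤ m.choose j := by
        intro j hj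
        induction j, hj using Nat.le_induction with
        | base => exact fun _ => le_rfl
        | succ j hj ih => exact fun h => (ih (by omega)).trans (Nat.choose_le_succ_of_lt_half_left (by omega))
      exact hmo k hsk (by omega)
    have hlow := pow_le_choose_mul s m (by omega)
    have hmain : m ^ s ≤ m ^ π * s ^ s :=
      hlow.trans (Nat.mul_le_mul_right _ (hmono.trans hup))
    by_cases h9 : 9 ≤ s
    · have hπs := two_mul_primes_lt s h9
      have h1 : m ^ (2 * s) ≤ m ^ (2 * π) * m ^ s := by
        calc m ^ (2 * s) = (m ^ s) ^ 2 := by rw [mul_comm, pow_mul]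
          _ ≤ (m ^ π * s ^ s) ^ 2 := Nat.pow_le_pow_left hmain 2
          _ = m ^ (2 * π) * (s * s) ^ s := by rw [mul_pow, ← pow_mul, mul_comm π 2, mul_pow s s s]; ring
          _ ≤ m ^ (2 * π) * m ^ s := Nat.mul_le_mul_left _ (Nat.pow_le_pow_left hss s)
      rw [← pow_add] at h1
      have := (Nat.pow_le_pow_iff_right (by omega : 1 < m)).1 h1
      omega
    · have hm94 : 94 ≤ m := by omega
      have hπs : π ≤ s := by
        rw [hπ]
        exact (Finset.card_le_card (s := (Finset.range (s + 1)).filter Nat.Prime)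
          (t := Finset.Icc 1 s) fun p hp => by
            rw [Finset.mem_filter, Finset.mem_range] at hp
            exact Finset.mem_Icc.2 ⟨hp.2.one_lt.le, by omega⟩).trans (by simp)
      have h2 : 94 ^ (s - π) ≤ s ^ s := by
        have h3 : m ^ π * m ^ (s - π) ≤ m ^ π * s ^ s := by
          rw [← pow_add, Nat.add_sub_cancel' hπs]; exact hmain
        exact (Nat.pow_le_pow_left hm94 _).trans (Nat.le_of_mul_le_mul_left h3 (pow_pos (by omega) π))
      rw [hπ] at h2
      interval_cases s <;> revert h2 <;> decide +kernel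

end Arith

section Perm

/-- An element of `q`-power order is conjugate into any subgroup of index prime to `q`. -/
theorem exists_conj_mem {X : Type*} [Group X] [Finite X] {K : Subgroup X} {q : ℕ} [Fact q.Prime]
    (hK : ¬ q ∣ K.index) {x : X} (hx : ∃ j : ℕ, orderOf x = q ^ j) :
    ∃ g : X, g⁻¹ * x * g ∈ K := by
  obtain ⟨j, hj⟩ := hx
  have hp : IsPGroup q ↥(Subgroup.zpowers x) :=
    IsPGroup.of_card (n := j) (by rw [Nat.card_zpowers, hj])
  obtain ⟨c, hc⟩ := hp.nonempty_fixed_point_of_prime_not_dvd_card (X ⧸ K)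
    (by rwa [← Subgroup.index])
  induction c using QuotientGroup.induction_on with
  | _ g =>
    refine ⟨g, ?_⟩
    have h : (((x⁻¹ * g : X)) : X ⧸ K) = (g : X ⧸ K) :=
      hc ⟨x⁻¹, inv_mem (Subgroup.mem_zpowers x)⟩
    have h' := QuotientGroup.eq.1 h
    rw [mul_inv_rev, inv_inv] at h'
    exact h'

theorem not_sq_dvd_factorial {r m : ℕ} (hr : r.Prime) (h : m < 2 * r) : ¬ r * r ∣ m.factorial := by
  intro hd
  have hle : m.factorial ∣ (2 * r - 1).factorial := Nat.factorial_dvd_factorial (by omega)
  have hd' := hd.trans hle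
  obtain ⟨t, ht⟩ : ∃ t, 2 * r - 1 = r + t ∧ t < r := ⟨r - 1, by have := hr.two_le; omega⟩
  rw [ht.1] at hd'
  have hfac : (r + t).factorial = r.factorial * (r + 1).ascFactorial t :=
    (Nat.factorial_mul_ascFactorial r t).symm
  rw [hfac, ← Nat.mul_factorial_pred hr.ne_zero, mul_assoc] at hd'
  rcases hr.dvd_mul.1 (Nat.dvd_of_mul_dvd_mul_left hr.pos hd') with h1 | h1
  · exact absurd (hr.dvd_factorial.1 h1) (by have := hr.two_le; omega)
  · obtain ⟨i, hi, hdi⟩ : ∃ i, i < t ∧ r ∣ r + 1 + i := by
      have hgen : ∀ u, r ∣ (r + 1).ascFactorial u → ∃ i, i < u ∧ r ∣ r + 1 + i := by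
        intro u
        induction u with
        | zero => intro h0; exact absurd (Nat.dvd_one.1 (by simpa using h0)) hr.one_lt.ne'
        | succ u ih =>
          intro h0
          rw [Nat.ascFactorial_succ] at h0
          rcases hr.dvd_mul.1 h0 with h2 | h2
          · exact ⟨u, by omega, h2⟩
          · obtain ⟨i, hi, hdi⟩ := ih h2
            exact ⟨i, by omega, hdi⟩
      exact hgen t h1
    rw [add_assoc] at hdi
    have h3 := Nat.le_of_dvd (by omega) ((Nat.dvd_add_right (dvd_refl r)).1 hdi)
    omega

variable {m : ℕ}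

local notation "Alt" => alternatingGroup (Fin m)

/-- the even permutations preserving `s` -/
def evenStab (s : Finset (Fin m)) : Subgroup (Perm (Fin m)) :=
  stabilizer (Perm (Fin m)) s ⊓ alternatingGroup (Fin m)

theorem exists_even_map (s s' : Finset (Fin m)) (hcard : s.card = s'.card)
    (h2 : s.card + 2 ≤ m) :
    ∃ g ∈ Alt, g • s = s' := by
  classical
  have e : {x // x ∈ s} ≃ {x // x ∈ s'} := Fintype.equivOfCardEq (by simpa using hcard)
  let g₀ : Perm (Fin m) := e.extendSubtype
  have hg₀ : g₀ • s = s' := by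
    refine Finset.eq_of_subset_of_card_le (fun y hy => ?_) (by rw [Finset.card_smul_finset, hcard])
    obtain ⟨x, hx, rfl⟩ := Finset.mem_smul_finset.1 hy
    show e.extendSubtype x ∈ s'
    rw [Equiv.extendSubtype_apply_of_mem _ _ hx]
    exact (e ⟨x, hx⟩).2
  rcases Int.units_eq_one_or (Perm.sign g₀) with h | h
  · exact ⟨g₀, mem_alternatingGroup.2 h, hg₀⟩
  · obtain ⟨a, ha, b, hb, hab⟩ := Finset.one_lt_card.1 (by
      rw [Finset.card_compl, Fintype.card_fin, ← hcard]; omega : 1 < s'ᶜ.card)
    refine ⟨Equiv.swap a b * g₀, mem_alternatingGroup.2 (by rw [map_mul, sign_swap hab, h]; rfl), ?_⟩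
    rw [mul_smul, hg₀]
    refine Finset.eq_of_subset_of_card_le (fun y hy => ?_) (by rw [Finset.card_smul_finset])
    obtain ⟨x, hx, rfl⟩ := Finset.mem_smul_finset.1 hy
    rw [Finset.mem_compl] at ha hb
    rw [Perm.smul_def, Equiv.swap_apply_of_ne_of_ne (fun h => ha (by rw [← h]; exact hx))
      (fun h => hb (by rw [← h]; exact hx))]
    exact hx

theorem relIndex_evenStab (s : Finset (Fin m)) (h2 : s.card + 2 ≤ m) :
    (evenStab s).relIndex Alt = m.choose s.card := by
  classical
  have hsub : (evenStab s).subgroupOf Alt = stabilizer ↥(Alt) s := by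
    ext g
    simp only [evenStab, Subgroup.mem_subgroupOf, Subgroup.mem_inf, mem_stabilizer_iff]
    exact ⟨fun h => h.1, fun h => ⟨h, g.2⟩⟩
  have horb : MulAction.orbit ↥(Alt) s =
      ↑(Finset.powersetCard s.card (Finset.univ : Finset (Fin m))) := by
    ext s'
    rw [Finset.mem_coe, Finset.mem_powersetCard]
    refine ⟨?_, fun h => ?_⟩
    · rintro ⟨g, rfl⟩
      exact ⟨Finset.subset_univ _, Finset.card_smul_finset (g : Perm (Fin m)) s⟩
    · obtain ⟨g, hg, hgs⟩ := exists_even_map s s' h.2.symm h2
      exact ⟨⟨g, hg⟩, hgs⟩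
  rw [Subgroup.relIndex, hsub, MulAction.index_stabilizer, horb, Set.ncard_coe_finset,
    Finset.card_powersetCard, Finset.card_univ, Fintype.card_fin]

theorem exists_cycleType {q : ℕ} (hq : 2 ≤ q) (hqm : q ≤ m) :
    ∃ g : Perm (Fin m), g.cycleType = {q} :=
  (Equiv.Perm.exists_with_cycleType_iff (Fin m) (m := ({q} : Multiset ℕ))).2
    ⟨by simpa using hqm, by simp [hq]⟩

/-- The core statement in `Fin m`. -/
theorem perm_case (hm : 5 ≤ m) (H : Subgroup (Perm (Fin m))) (r : ℕ) (hr : r.Prime)
    (hmax : ∀ Y : Subgroup (Perm (Fin m)), H ⊓ Alt ≤ Y → Y ≤ Alt →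
      (∀ h ∈ H, ∀ y ∈ Y, h * y * h⁻¹ ∈ Y) → Y = H ⊓ Alt ∨ Y = Alt)
    (hne : H ⊓ Alt ≠ Alt)
    (hrd : r ∣ (H ⊓ Alt).relIndex Alt)
    (hrmax : ∀ q : ℕ, q.Prime → q ∣ (H ⊓ Alt).relIndex Alt → q ≤ r)
    (hall : ∀ g ∈ Alt, orderOf g = r → ∃ τ : Perm (Fin m), τ * g * τ⁻¹ ∈ H) : False := by
  classical
  haveI := Fact.mk hr
  set M : Subgroup (Perm (Fin m)) := H ⊓ Alt with hM
  have hMA : M ≤ Alt := inf_le_right
  have hcardM : Nat.card M * M.relIndex Alt = Nat.card ↥(Alt) := by
    rw [Subgroup.relIndex,
      ← Nat.card_congr (Subgroup.subgroupOfEquivOfLe hMA).toEquiv, Subgroup.card_mul_index]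
  have hAfac : Nat.card ↥(Alt) ∣ m.factorial := by
    have h := Subgroup.card_subgroup_dvd_card (Alt)
    rwa [Nat.card_perm, Nat.card_fin] at h
  -- conjugates in `M`
  have hallM : ∀ g ∈ Alt, orderOf g = r → ∃ τ : Perm (Fin m), τ * g * τ⁻¹ ∈ M := fun g hg ho => by
    obtain ⟨τ, hτ⟩ := hall g hg ho
    exact ⟨τ, hτ, (alternatingGroup.normal).conj_mem g hg τ⟩
  -- `r ≤ m / 2`
  have hr2 : 2 * r ≤ m := by
    by_contra hc
    push Not at hc
    obtain ⟨g, hg⟩ := exists_prime_orderOf_dvd_card' (G := ↥(Alt)) r
      (hrd.trans (Dvd.intro_left _ hcardM))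
    obtain ⟨τ, hτ⟩ := hallM g g.2 (by rw [Subgroup.orderOf_coe, hg])
    have hrM : r ∣ Nat.card M := by
      have h := orderOf_dvd_natCard (G := ↥M) ⟨_, hτ⟩
      rw [Subgroup.orderOf_mk] at h
      rwa [show τ * (g : Perm (Fin m)) * τ⁻¹ = MulAut.conj τ g from rfl, MulEquiv.orderOf_eq,
        Subgroup.orderOf_coe, hg] at h
    exact not_sq_dvd_factorial hr hc ((Nat.mul_dvd_mul hrM hrd).trans (hcardM ▸ hAfac))
  -- elements of prime power order `q > r` are conjugate into `M`
  have hqM : ∀ q : ℕ, q.Prime → r < q → ∀ g ∈ Alt, (∃ j : ℕ, orderOf g = q ^ j) →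
      ∃ τ : Perm (Fin m), τ * g * τ⁻¹ ∈ M := by
    intro q hq hrq g hg ho
    haveI := Fact.mk hq
    obtain ⟨τ, hτ⟩ := exists_conj_mem (X := ↥(Alt)) (K := M.subgroupOf Alt) (q := q)
      (fun hd => absurd (hrmax q hq hd) (by omega)) (x := ⟨g, hg⟩)
      (by rw [Subgroup.orderOf_mk]; exact ho)
    refine ⟨(τ : Perm (Fin m))⁻¹, ?_⟩
    have := Subgroup.mem_subgroupOf.1 hτ
    simpa using this
  by_cases hint : ∃ s : Finset (Fin m), 1 ≤ s.card ∧ 2 * s.card ≤ m ∧ ∀ h ∈ H, h • s = s
  · -- intransitive
    obtain ⟨s, hs1, hs2, hinv⟩ := hint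
    rcases (by omega : 2 * s.card < m ∨ 2 * s.card = m) with hlt | heq
    · have hMs : M = evenStab s := by
        rcases hmax (evenStab s) (fun x hx => ⟨hinv x hx.1, hx.2⟩) inf_le_right
          (fun h hh y hy => ⟨by
            show (h * y * h⁻¹) • s = s
            rw [mul_smul, mul_smul, inv_smul_eq_iff.2 (hinv h hh).symm,
              show y • s = s from hy.1, hinv h hh],
            (alternatingGroup.normal).conj_mem y hy.2 h⟩) with h | h
        · exact h.symm
        · exfalso
          obtain ⟨a, ha⟩ := Finset.card_pos.1 hs1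
          obtain ⟨b, hb, c, hc, hbc⟩ := Finset.one_lt_card.1 (by
            rw [Finset.card_compl, Fintype.card_fin]; omega : 1 < sᶜ.card)
          rw [Finset.mem_compl] at hb hc
          have hab : a ≠ b := fun h => hb (h ▸ ha)
          have hac : a ≠ c := fun h => hc (h ▸ ha)
          have hmem : Equiv.swap a b * Equiv.swap a c ∈ evenStab s := h ▸ mem_alternatingGroup.2
            (by rw [map_mul, sign_swap hab, sign_swap hac]; rfl)
          have hc' : (Equiv.swap a b * Equiv.swap a c) • a ∈ s := by
            have hmem' := Finset.smul_mem_smul_finset (a := Equiv.swap a b * Equiv.swap a c) ha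
            rwa [show (Equiv.swap a b * Equiv.swap a c) • s = s from hmem.1] at hmem'
          rw [Perm.smul_def, Perm.mul_apply, Equiv.swap_apply_left,
            Equiv.swap_apply_of_ne_of_ne hac.symm hbc.symm] at hc'
          exact hc hc'
      have hidx : M.relIndex Alt = m.choose s.card := by
        rw [hMs]; exact relIndex_evenStab s (by omega)
      obtain ⟨p, hp, hpd, hpbig⟩ := exists_good_prime hs1 hlt
      have hpr : p ≤ r := hrmax p hp (hidx ▸ hpd)
      have hbig : s.card < r ∨ m < r * r := hpbig.imp (fun h => h.trans_le hpr)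
        (fun h => h.trans_le (Nat.mul_le_mul hpr hpr))
      have hrd' : r ∣ m.choose s.card := hidx ▸ hrd
      have hmod := mod_lt_of_dvd_choose hr (by omega) hbig hrd'
      -- an element without an invariant set
      obtain ⟨g, hgA, hgo, hgs⟩ : ∃ g ∈ Alt, orderOf g = r ∧
          ∀ s' : Finset (Fin m), s'.card = s.card → g • s' ≠ s' := by
        by_cases h2 : r = 2
        · subst h2
          have hk1 : s.card = 1 := by omega
          rw [hk1, Nat.choose_one_right] at hrd'
          have h4 : 4 ∣ m := by
            by_contra hn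
            obtain ⟨t, rfl⟩ := hrd'
            have ht : ¬ 2 ∣ t := fun h => hn (by obtain ⟨u, rfl⟩ := h; exact ⟨u, by ring⟩)
            have hq := Nat.minFac_prime (n := t) (by omega)
            have := hrmax t.minFac hq (by
              rw [hidx, hk1, Nat.choose_one_right]
              exact (Nat.minFac_dvd t).trans (dvd_mul_left t 2))
            exact ht (le_antisymm this hq.two_le ▸ Nat.minFac_dvd t)
          obtain ⟨g, hg⟩ := (Equiv.Perm.exists_with_cycleType_iff (Fin m)
            (m := Multiset.replicate (m / 2) 2)).2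
            ⟨by simp [Multiset.sum_replicate, Nat.div_mul_le_self],
              fun a ha => by rw [Multiset.eq_of_mem_replicate ha]⟩
          have hfull : g.support = Finset.univ := Finset.eq_univ_of_card _ (by
            rw [← sum_cycleType, hg, Multiset.sum_replicate, smul_eq_mul, Fintype.card_fin,
              Nat.div_mul_cancel hrd'])
          refine ⟨g, ?_, ?_, fun s' hs' heq => ?_⟩
          · rw [mem_alternatingGroup, sign_of_cycleType, hg]
            obtain ⟨t, rfl⟩ := h4
            rw [Multiset.sum_replicate, Multiset.card_replicate, smul_eq_mul,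
              show 4 * t / 2 * 2 + 4 * t / 2 = 2 * (3 * t) by omega, pow_mul]
            simp
          · refine orderOf_eq_prime ?_ ?_
            · rw [← orderOf_dvd_iff_pow_eq_one, ← lcm_cycleType, hg, Multiset.lcm_dvd]
              intro a ha; rw [Multiset.eq_of_mem_replicate ha]
            · rintro rfl
              rw [support_one] at hfull
              exact absurd (congrArg Finset.card hfull) (by simp; omega)
          · obtain ⟨a, rfl⟩ := Finset.card_eq_one.1 (hs'.trans hk1)
            rw [Finset.smul_finset_singleton, Finset.singleton_inj, Perm.smul_def] at heq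
            exact mem_support.1 (hfull ▸ Finset.mem_univ a) heq
        · have h := ((S3573.result m s.card hs1 hlt r hr hrd').1 h2).not.2 (fun ⟨_, h'⟩ => by omega)
          push Not at h
          obtain ⟨g, hgo, hg⟩ := h
          refine ⟨g, ?_, hgo, fun s' hs' heq => hg s' hs' ?_⟩
          · rw [mem_alternatingGroup]
            have h1 : Perm.sign g ^ r = 1 := by rw [← map_pow, ← hgo, pow_orderOf_eq_one, map_one]
            rcases Int.units_eq_one_or (Perm.sign g) with h | h
            · exact h
            · rw [h, (hr.odd_of_ne_two h2).neg_one_pow] at h1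
              exact absurd h1 (by decide)
          · exact heq
      obtain ⟨τ, hτ⟩ := hallM g hgA hgo
      rw [hMs] at hτ
      have h1 : (τ * g * τ⁻¹) • s = s := hτ.1
      refine hgs (τ⁻¹ • s) (Finset.card_smul_finset _ _) ?_
      rw [mul_smul, mul_smul] at h1
      exact eq_inv_smul_iff.2 h1
    · -- an invariant half
      let Y : Subgroup (Perm (Fin m)) :=
        stabilizer (Perm (Fin m)) ({s, sᶜ} : Finset (Finset (Fin m))) ⊓ Alt
      have hsc : ∀ g : Perm (Fin m), g • sᶜ = (g • s)ᶜ := fun g => by
        ext x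
        rw [Finset.mem_compl, ← Finset.inv_smul_mem_iff, Finset.mem_compl, Finset.inv_smul_mem_iff]
      have hHY : ∀ h ∈ H, h • ({s, sᶜ} : Finset (Finset (Fin m))) = {s, sᶜ} := fun h hh => by
        rw [Finset.smul_finset_insert, Finset.smul_finset_singleton, hsc, hinv h hh]
      rcases hmax Y (fun x hx => ⟨hHY x hx.1, hx.2⟩) inf_le_right (fun h hh y hy =>
          ⟨(Subgroup.mul_mem _ (Subgroup.mul_mem _ (mem_stabilizer_iff.2 (hHY h hh)) hy.1)
            (inv_mem (mem_stabilizer_iff.2 (hHY h hh)))),
            (alternatingGroup.normal).conj_mem y hy.2 h⟩) with hY | hY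
      · obtain ⟨g, hg, hgs⟩ := exists_even_map s sᶜ (by
          rw [Finset.card_compl, Fintype.card_fin]; omega) (by omega)
        have hgY : g ∈ Y := ⟨by
          show g • ({s, sᶜ} : Finset (Finset (Fin m))) = {s, sᶜ}
          rw [Finset.smul_finset_insert, Finset.smul_finset_singleton, hsc, hgs, compl_compl,
            Finset.pair_comm], hg⟩
        rw [hY] at hgY
        have := (hinv g hgY.1).symm.trans hgs
        obtain ⟨a, ha⟩ := Finset.card_pos.1 hs1
        exact Finset.mem_compl.1 (this ▸ ha) ha
      · obtain ⟨a, ha, b, hb, hab⟩ := Finset.one_lt_card.1 (by omega : 1 < s.card)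
        obtain ⟨c, hc⟩ := Finset.card_pos.1 (by rw [Finset.card_compl, Fintype.card_fin]; omega :
          0 < sᶜ.card)
        have hca : c ≠ a := fun h => Finset.mem_compl.1 hc (h ▸ ha)
        have hcb : c ≠ b := fun h => Finset.mem_compl.1 hc (h ▸ hb)
        have hg : Equiv.swap a c * Equiv.swap a b ∈ Y := hY ▸ mem_alternatingGroup.2
          (by rw [map_mul, sign_swap hca.symm, sign_swap hab]; rfl)
        have hgs : (Equiv.swap a c * Equiv.swap a b) • s ∈ ({s, sᶜ} : Finset (Finset (Fin m))) := by
          have h := Finset.smul_mem_smul_finset (a := Equiv.swap a c * Equiv.swap a b)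
            (Finset.mem_insert_self s {sᶜ})
          rwa [show (Equiv.swap a c * Equiv.swap a b) • ({s, sᶜ} : Finset (Finset (Fin m))) =
            {s, sᶜ} from hg.1] at h
        have e1 : (Equiv.swap a c * Equiv.swap a b) b = c := by
          rw [Perm.mul_apply, Equiv.swap_apply_right, Equiv.swap_apply_left]
        have e2 : (Equiv.swap a c * Equiv.swap a b) a = b := by
          rw [Perm.mul_apply, Equiv.swap_apply_left, Equiv.swap_apply_of_ne_of_ne hab.symm hcb.symm]
        rcases Finset.mem_insert.1 hgs with h | h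
        · have h' := Finset.smul_mem_smul_finset (a := Equiv.swap a c * Equiv.swap a b) hb
          rw [h, Perm.smul_def, e1] at h'
          exact Finset.mem_compl.1 hc h'
        · rw [Finset.mem_singleton] at h
          have h' := Finset.smul_mem_smul_finset (a := Equiv.swap a c * Equiv.swap a b) ha
          rw [h, Perm.smul_def, e2] at h'
          exact Finset.mem_compl.1 h' hb
  · -- transitive
    push Not at hint
    haveI htr : IsPretransitive ↥H (Fin m) := by
      refine ⟨fun a b => ?_⟩
      by_contra hab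
      let O : Finset (Fin m) := Finset.univ.filter fun x => x ∈ MulAction.orbit ↥H a
      have hO : ∀ h ∈ H, h • O = O := by
        intro h hh
        refine Finset.eq_of_subset_of_card_le (fun y hy => ?_) (by rw [Finset.card_smul_finset])
        obtain ⟨x, hx, rfl⟩ := Finset.mem_smul_finset.1 hy
        rw [Finset.mem_filter] at hx ⊢
        exact ⟨Finset.mem_univ _, MulAction.mem_orbit_of_mem_orbit (⟨h, hh⟩ : ↥H) hx.2⟩
      have haO : a ∈ O := Finset.mem_filter.2 ⟨Finset.mem_univ _, MulAction.mem_orbit_self a⟩
      have hbO : b ∈ Oᶜ := Finset.mem_compl.2 fun h => hab (Finset.mem_filter.1 h).2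
      by_cases hsz : 2 * O.card ≤ m
      · obtain ⟨h, hh, hne'⟩ := hint O (Finset.card_pos.2 ⟨a, haO⟩) hsz
        exact hne' (hO h hh)
      · obtain ⟨h, hh, hne'⟩ := hint Oᶜ (Finset.card_pos.2 ⟨b, hbO⟩)
          (by rw [Finset.card_compl, Fintype.card_fin]; omega)
        refine hne' ?_
        ext x
        rw [Finset.mem_compl, ← Finset.inv_smul_mem_iff, Finset.mem_compl]
        constructor
        · intro hx hxO; exact hx (by
            have := hO h⁻¹ (inv_mem hh)
            rw [← this]; exact Finset.smul_mem_smul_finset hxO)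
        · intro hx hxO; exact hx (by
            have := hO h hh
            rw [← this]
            simpa using Finset.smul_mem_smul_finset (a := h) hxO)
    by_cases hprim : IsPreprimitive ↥H (Fin m)
    · -- primitive
      have hge : Alt ≤ H := by
        by_cases h2 : r = 2
        · subst h2
          obtain ⟨g, hg⟩ := exists_cycleType (m := m) (q := 3) (by norm_num) (by omega)
          have h3g : g.IsThreeCycle := hg
          obtain ⟨τ, hτ⟩ := hqM 3 Nat.prime_three (by norm_num) g h3g.mem_alternatingGroup
            ⟨1, by rw [h3g.orderOf, pow_one]⟩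
          have h3c : (τ * g * τ⁻¹).IsThreeCycle := by
            rw [Equiv.Perm.IsThreeCycle, cycleType_conj]; exact hg
          exact Equiv.Perm.alternatingGroup_le_of_isPreprimitive_of_isThreeCycle_mem hprim h3c hτ.1
        · obtain ⟨g, hg⟩ := exists_cycleType (m := m) (q := r) hr.two_le (by omega)
          have hgA : g ∈ Alt := by
            rw [mem_alternatingGroup, sign_of_cycleType, hg]
            simp [(hr.odd_of_ne_two h2).add_one.neg_one_pow]
          have hgo : orderOf g = r := by rw [← lcm_cycleType, hg]; simp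
          obtain ⟨τ, hτ⟩ := hallM g hgA hgo
          have hcyc : (τ * g * τ⁻¹).IsCycle :=
            (Equiv.Perm.card_cycleType_eq_one.1 (by rw [hg]; simp)).conj
          have hsupp : (τ * g * τ⁻¹).support.card = r := by
            rw [card_support_conj, ← sum_cycleType, hg]; simp
          exact PrimeCycle.alternatingGroup_le H hprim hτ.1 hcyc (by rw [hsupp]; exact hr)
            (by rw [hsupp, Fintype.card_fin]; have := hr.two_le; omega)
      exact hne (inf_eq_right.2 hge)
    · -- imprimitive
      obtain ⟨B, hB, hB1, hB2⟩ : ∃ B : Set (Fin m), MulAction.IsBlock ↥H B ∧ 2 ≤ B.ncard ∧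
          2 * B.ncard ≤ m := by
        by_contra hcon
        push Not at hcon
        refine hprim (IsPreprimitive.mk ?_)
        intro B hB
        by_cases h1 : B.ncard ≤ 1
        · exact Or.inl (Set.ncard_le_one_iff_subsingleton.1 h1)
        · right
          have hne' : B.Nonempty := Set.nonempty_of_ncard_ne_zero (by omega)
          obtain ⟨c, hc⟩ := MulAction.IsBlock.ncard_dvd_card hB hne'
          rw [Nat.card_fin] at hc
          have := hcon B hB (by omega)
          have hc1 : c = 1 := by
            rcases (by omega : c = 0 ∨ c = 1 ∨ 2 ≤ c) with rfl | h | h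
            · omega
            · exact h
            · nlinarith
          rw [hc1, mul_one] at hc
          exact (Set.eq_univ_iff_ncard B).2 (by rw [← hc, Nat.card_fin])
      obtain ⟨q, hq, hq1, hq2⟩ := Nat.exists_prime_lt_and_le_two_mul (m / 2) (by omega)
      obtain ⟨g, hg⟩ := exists_cycleType (m := m) (q := q) hq.two_le (by omega)
      have hgA : g ∈ Alt := by
        rw [mem_alternatingGroup, sign_of_cycleType, hg]
        simp [(hq.odd_of_ne_two (by omega)).add_one.neg_one_pow]
      have hgo : orderOf g = q := by rw [← lcm_cycleType, hg]; simp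
      obtain ⟨τ, hτ⟩ := hqM q hq (by omega) g hgA ⟨1, by rw [hgo, pow_one]⟩
      set y := τ * g * τ⁻¹ with hy
      have hyo : orderOf y = q := by
        rw [hy, show τ * g * τ⁻¹ = MulAut.conj τ g from rfl, MulEquiv.orderOf_eq, hgo]
      have hne' : B.Nonempty := Set.nonempty_of_ncard_ne_zero (by omega)
      obtain ⟨b₀, hb₀⟩ := hne'
      -- each translate is preserved
      have hfix : ∀ x, y x = x := by
        intro x
        obtain ⟨h, hh⟩ := MulAction.exists_smul_eq ↥H b₀ x
        set B' : Set (Fin m) := (h : Perm (Fin m)) '' B with hB'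
        have hBlock : MulAction.IsBlock ↥H B' := hB.translate h
        have hcard' : B'.ncard = B.ncard := Set.ncard_image_of_injective _ (Equiv.injective _)
        have hx : x ∈ B' := ⟨b₀, hb₀, hh⟩
        have hyB : y '' B' = B' := by
          by_contra hne''
          have := PrimeCycle.card_mul_le_of_translates hq hyo B' (fun i => by
            rcases hBlock.smul_eq_or_disjoint (⟨y ^ i, pow_mem hτ.1 i⟩ : ↥H) with h' | h'
            · exact Or.inl h'
            · exact Or.inr h') hne''
          rw [hcard', Fintype.card_fin] at this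
          have h2q : m < 2 * q := by omega
          nlinarith
        by_contra hyx
        have hinj : Set.InjOn (fun i : ℕ => (y ^ i) x) (Finset.range q : Set ℕ) := by
          intro i hi j hj hij
          rw [Finset.mem_coe, Finset.mem_range] at hi hj
          by_contra hij'
          wlog hlt : i < j generalizing i j
          · exact this hj hi hij.symm (Ne.symm hij') (by omega)
          have h1 : (y ^ (j - i)) x = x := by
            apply (y ^ i).injective
            rw [← Perm.mul_apply, ← pow_add, Nat.add_sub_cancel' hlt.le]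
            exact hij.symm
          have hmem : y ^ (j - i) ∈ stabilizer (Perm (Fin m)) x := h1
          have hmem' : y ^ q ∈ stabilizer (Perm (Fin m)) x := by
            rw [← hyo, pow_orderOf_eq_one]; exact one_mem _
          have hgcd : Nat.Coprime (j - i) q :=
            ((Nat.Prime.coprime_iff_not_dvd hq).2 (Nat.not_dvd_of_pos_of_lt (by omega) (by omega))).symm
          have hy1 : y ∈ stabilizer (Perm (Fin m)) x := by
            obtain ⟨u, hu⟩ := exists_pow_eq_self_of_coprime (x := y) (n := j - i) (hyo.symm ▸ hgcd)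
            rw [← hu]
            exact pow_mem hmem _
          exact hyx hy1
        have hsubB : ∀ i : ℕ, (y ^ i) x ∈ B' := by
          intro i
          induction i with
          | zero => simpa using hx
          | succ i ih => rw [pow_succ', Perm.mul_apply, ← hyB]; exact ⟨_, ih, rfl⟩
        have hle : q ≤ B'.ncard := by
          have h1 := Set.ncard_le_ncard_of_injOn (s := (Finset.range q : Set ℕ)) (t := B')
            (fun i : ℕ => (y ^ i) x) (fun i _ => hsubB i) hinj (Set.toFinite _)
          rwa [Set.ncard_coe_finset, Finset.card_range] at h1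
        omega
      have : y = 1 := Equiv.ext hfix
      rw [this, orderOf_one] at hyo
      exact hq.one_lt.ne hyo

end Perm

end Cfsg.Agent.AltDerangement87
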