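import Mathlib

/-!
Subgroups of `A₈` containing an `A₅` which is centralised by an element of order `3`, with Sylow
2-subgroup of order less than `16` and a 2-element normalising but outside the `A₅`: either they
normalise the `A₅` or they are `A₇`.
-/

set_option autoImplicit false
set_option linter.all false

namespace Cfsg.Agent.AltEightOvergroup35

open Equiv Equiv.Perm Finset

variable {α : Type*} [DecidableEq α] [Fintype α]

/-- Even permutations fixing everything outside `S`. -/
def AS (S : Finset α) : Subgroup (Perm α) where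
  carrier := {g | sign g = 1 ∧ ∀ x, x ∉ S → g x = x}
  one_mem' := ⟨sign_one, fun x _ => rfl⟩
  mul_mem' := fun {a b} ha hb => ⟨by rw [Perm.sign_mul, ha.1, hb.1, one_mul], fun x hx => by
    rw [Perm.mul_apply, hb.2 x hx, ha.2 x hx]⟩
  inv_mem' := fun {a} ha => ⟨by rw [Perm.sign_inv, ha.1], fun x hx => Perm.inv_eq_iff_eq.mpr (ha.2 x hx).symm⟩

theorem mem_AS {S : Finset α} {g : Perm α} : g ∈ AS S ↔ sign g = 1 ∧ ∀ x, x ∉ S → g x = x := Iff.rfl

theorem AS_eq_map (S : Finset α) :
    AS S = (alternatingGroup {x // x ∈ S}).map (Perm.ofSubtype (p := fun x => x ∈ S)) := by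
  ext g
  constructor
  · rintro ⟨hs, hfix⟩
    have hiff : ∀ x, g x ∈ S ↔ x ∈ S := by
      intro x
      constructor
      · intro hx
        by_contra hne
        rw [hfix x hne] at hx
        exact hne hx
      · intro hx
        by_contra hne
        have := hfix _ hne
        rw [g.injective this] at hne
        exact hne hx
    have he : Perm.ofSubtype (g.subtypePerm hiff) = g :=
      Perm.ofSubtype_subtypePerm hiff fun x hx => by
        by_contra h
        exact hx (hfix x h)
    refine ⟨g.subtypePerm hiff, ?_, he⟩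
    show g.subtypePerm hiff ∈ alternatingGroup _
    rw [mem_alternatingGroup, ← Perm.sign_ofSubtype, he, hs]
  · rintro ⟨σ, hσ, rfl⟩
    exact ⟨by rw [Perm.sign_ofSubtype]; exact mem_alternatingGroup.mp hσ,
      fun x hx => Perm.ofSubtype_apply_of_not_mem σ hx⟩

theorem card_AS (S : Finset α) (h : 2 ≤ S.card) : 2 * Nat.card (AS S) = Nat.factorial S.card := by
  haveI : Nontrivial {x // x ∈ S} := Fintype.one_lt_card_iff_nontrivial.mp (by rw [Fintype.card_coe]; omega)
  rw [AS_eq_map, Subgroup.card_map_of_injective Perm.ofSubtype_injective, nat_card_alternatingGroup,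
    Nat.card_eq_fintype_card, Fintype.card_coe, Nat.two_mul_div_two_of_even]
  exact (Nat.dvd_factorial (by norm_num) h).elim fun c hc => ⟨c, by omega⟩

/-- The cycle `x → a → b → x`. -/
def tau (a b x : α) : Perm α := swap a b * swap b x

theorem tau_conj (π : Perm α) (a b x : α) : π * tau a b x * π⁻¹ = tau (π a) (π b) (π x) := by
  rw [tau, tau, Equiv.swap_apply_apply π a b, Equiv.swap_apply_apply π b x]
  group

theorem eq_tau {e : Perm α} (he : e.IsThreeCycle) {x : α} (hx : e x ≠ x) :
    e = tau (e x) (e (e x)) x ∧ e x ≠ e (e x) ∧ e (e x) ≠ x := by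
  have hxs : x ∈ e.support := Perm.mem_support.mpr hx
  have h3 := he.isCycle
  have hord : e ^ 3 = 1 := by
    rw [← he.orderOf]
    exact pow_orderOf_eq_one e
  have e3 : e (e (e x)) = x := by
    have := congrArg (fun f : Perm α => f x) hord
    simpa [pow_succ, Perm.mul_apply] using this
  have hne1 : e x ≠ e (e x) := fun h => hx (e.injective h).symm
  have hne2 : e (e x) ≠ x := fun h => hx (by
    have := congrArg e h
    rw [e3] at this
    exact this.symm)
  refine ⟨?_, hne1, hne2⟩
  have hsupp : e.support = {x, e x, e (e x)} := by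
    refine (Finset.eq_of_subset_of_card_le ?_ ?_).symm
    · intro y hy
      simp only [Finset.mem_insert, Finset.mem_singleton] at hy
      rcases hy with rfl | rfl | rfl
      · exact hxs
      · exact Perm.apply_mem_support.mpr hxs
      · exact Perm.apply_mem_support.mpr (Perm.apply_mem_support.mpr hxs)
    · rw [he.card_support, Finset.card_eq_three.mpr ⟨x, e x, e (e x), Ne.symm hx, hne2.symm, hne1, rfl⟩]
  ext y
  by_cases hy : y ∈ e.support
  · rw [hsupp] at hy
    simp only [Finset.mem_insert, Finset.mem_singleton] at hy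
    rcases hy with rfl | rfl | rfl
    · simp [tau, Equiv.swap_apply_right]
    · rw [tau, Perm.mul_apply, Equiv.swap_apply_of_ne_of_ne hne1 hx, Equiv.swap_apply_left]
    · rw [tau, Perm.mul_apply, Equiv.swap_apply_left, Equiv.swap_apply_of_ne_of_ne (Ne.symm hx) hne2.symm, e3]
  · rw [Perm.notMem_support.mp hy]
    rw [hsupp] at hy
    simp only [Finset.mem_insert, Finset.mem_singleton, not_or] at hy
    rw [tau, Perm.mul_apply, Equiv.swap_apply_of_ne_of_ne hy.2.2 hy.1,
      Equiv.swap_apply_of_ne_of_ne hy.2.1 hy.2.2]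

theorem sign_tau {a b x : α} (hab : a ≠ b) (hbx : b ≠ x) : sign (tau a b x) = 1 := by
  rw [tau, Perm.sign_mul, sign_swap hab, sign_swap hbx]
  rfl

theorem tau_mem_AS {S : Finset α} {a b x : α} (ha : a ∈ S) (hb : b ∈ S) (hx : x ∈ S)
    (hab : a ≠ b) (hbx : b ≠ x) : tau a b x ∈ AS S := by
  refine ⟨sign_tau hab hbx, fun y hy => ?_⟩
  have h1 : y ≠ a := fun h => hy (h ▸ ha)
  have h2 : y ≠ b := fun h => hy (h ▸ hb)
  have h3 : y ≠ x := fun h => hy (h ▸ hx)
  rw [tau, Perm.mul_apply, Equiv.swap_apply_of_ne_of_ne h2 h3, Equiv.swap_apply_of_ne_of_ne h1 h2]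

theorem exists_move {S : Finset α} (hS : 4 ≤ S.card) {a b c d : α} (ha : a ∈ S) (hb : b ∈ S)
    (hc : c ∈ S) (hd : d ∈ S) (hab : a ≠ b) (hcd : c ≠ d) :
    ∃ π ∈ AS S, π a = c ∧ π b = d := by
  set σ := swap a c with hσ
  set π₀ := swap (σ b) d * σ with hπ₀
  have hσb : σ b ∈ S := by
    rw [hσ]
    rcases Equiv.swap_apply_def a c b with h
    rw [h]
    split_ifs <;> assumption
  have hσbc : σ b ≠ c := fun h => hab (σ.injective (by rw [h, hσ, Equiv.swap_apply_left]))
  have h1 : π₀ a = c := by
    rw [hπ₀, Perm.mul_apply, hσ, Equiv.swap_apply_left, ← hσ,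
      Equiv.swap_apply_of_ne_of_ne (Ne.symm hσbc) hcd]
  have h2 : π₀ b = d := by rw [hπ₀, Perm.mul_apply, Equiv.swap_apply_left]
  have hfix : ∀ y, y ∉ S → π₀ y = y := by
    intro y hy
    have e1 : σ y = y := Equiv.swap_apply_of_ne_of_ne (fun h => hy (by rw [h]; exact ha))
      (fun h => hy (by rw [h]; exact hc))
    rw [hπ₀, Perm.mul_apply, e1,
      Equiv.swap_apply_of_ne_of_ne (fun h => hy (by rw [h]; exact hσb)) (fun h => hy (by rw [h]; exact hd))]
  rcases Int.units_eq_one_or (sign π₀) with hs | hs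
  · exact ⟨π₀, ⟨hs, hfix⟩, h1, h2⟩
  · have h4 : 1 < (S \ {c, d}).card := by
      have h5 := Finset.card_le_card_sdiff_add_card (s := S) (t := {c, d})
      have h6 : ({c, d} : Finset α).card ≤ 2 := Finset.card_le_two
      omega
    obtain ⟨e, he, f, hf, hef⟩ := Finset.one_lt_card.mp h4
    simp only [Finset.mem_sdiff, Finset.mem_insert, Finset.mem_singleton, not_or] at he hf
    refine ⟨swap e f * π₀, ⟨by rw [Perm.sign_mul, sign_swap hef, hs]; rfl, fun y hy => ?_⟩, ?_, ?_⟩
    · rw [Perm.mul_apply, hfix y hy,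
        Equiv.swap_apply_of_ne_of_ne (fun h => hy (by rw [h]; exact he.1)) (fun h => hy (by rw [h]; exact hf.1))]
    · rw [Perm.mul_apply, h1, Equiv.swap_apply_of_ne_of_ne (Ne.symm he.2.1) (Ne.symm hf.2.1)]
    · rw [Perm.mul_apply, h2, Equiv.swap_apply_of_ne_of_ne (Ne.symm he.2.2) (Ne.symm hf.2.2)]

theorem extend {H : Subgroup (Perm α)} {S : Finset α} (hS : 4 ≤ S.card) (hH : AS S ≤ H) {a b x : α}
    (ha : a ∈ S) (hb : b ∈ S) (hab : a ≠ b) (hx : x ∉ S) (ht : tau a b x ∈ H) :
    AS (insert x S) ≤ H := by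
  rw [AS_eq_map]
  rintro _ ⟨σ, hσ, rfl⟩
  rw [← closure_three_cycles_eq_alternating] at hσ
  suffices ∀ e : Perm {y // y ∈ insert x S}, e.IsThreeCycle → Perm.ofSubtype e ∈ H from
    (Subgroup.closure_le (K := H.comap (Perm.ofSubtype (p := fun y => y ∈ insert x S)))).mpr
      (fun e he => this e he) hσ
  intro e he
  set e' := Perm.ofSubtype (p := fun y => y ∈ insert x S) e with he'
  have h3 : e'.IsThreeCycle := by
    rw [Perm.IsThreeCycle, he', Perm.cycleType_ofSubtype]
    exact he
  have hmem : ∀ y, e' y ≠ y → y ∈ insert x S := fun y hy => by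
    by_contra h
    exact hy (Perm.ofSubtype_apply_of_not_mem e h)
  by_cases hex : e' x = x
  · refine hH ⟨h3.sign, fun y hy => ?_⟩
    by_contra hne
    rcases Finset.mem_insert.mp (hmem y hne) with rfl | h
    · exact hne hex
    · exact hy h
  obtain ⟨heq, hne1, hne2⟩ := eq_tau h3 hex
  have hin : ∀ y, e' y ≠ y → y ≠ x → y ∈ S := fun y hy hyx =>
    (Finset.mem_insert.mp (hmem y hy)).resolve_left hyx
  have hc : e' x ∈ S := hin _ (fun h => hex (e'.injective h)) hex
  have hd : e' (e' x) ∈ S := hin _ (fun h => hne1 (e'.injective h).symm) hne2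
  obtain ⟨π, hπ, hπa, hπb⟩ := exists_move hS ha hb hc hd hab hne1
  have hπx : π x = x := hπ.2 x hx
  have := H.mul_mem (H.mul_mem (hH hπ) ht) (H.inv_mem (hH hπ))
  rw [tau_conj, hπa, hπb, hπx, ← heq] at this
  exact this

theorem conj_AS {H : Subgroup (Perm α)} {S : Finset α} (hH : AS S ≤ H) {g : Perm α} (hg : g ∈ H) :
    AS (S.image g) ≤ H := by
  intro σ hσ
  have h1 : g⁻¹ * σ * g ∈ AS S := by
    refine ⟨?_, fun y hy => ?_⟩
    · rw [Perm.sign_mul, Perm.sign_mul, hσ.1, mul_one, Perm.sign_inv, Int.units_mul_self]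
    · have : g y ∉ S.image g := fun h => by
        obtain ⟨z, hz, hzy⟩ := Finset.mem_image.mp h
        exact hy (g.injective hzy ▸ hz)
      rw [Perm.mul_apply, Perm.mul_apply, hσ.2 _ this]
      simp
  have := H.mul_mem (H.mul_mem hg (hH h1)) (H.inv_mem hg)
  simpa [mul_assoc] using this

/-- Enlarge `S` by a point of a conjugate. -/
theorem grow {H : Subgroup (Perm α)} {S : Finset α} (hS : 4 ≤ S.card) (hH : AS S ≤ H)
    (hbig : Fintype.card α + 2 ≤ S.card + S.card) {g : Perm α} (hg : g ∈ H) {s : α} (hs : s ∈ S)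
    (hgs : g s ∉ S) : AS (insert (g s) S) ≤ H := by
  have hcard : 2 ≤ (S ∩ S.image g).card := by
    have h1 := Finset.card_union_add_card_inter S (S.image g)
    rw [Finset.card_image_of_injective _ g.injective] at h1
    have h2 := Finset.card_le_univ (S ∪ S.image g)
    omega
  obtain ⟨a, ha, b, hb, hab⟩ := Finset.one_lt_card.mp hcard
  rw [Finset.mem_inter] at ha hb
  refine extend hS hH ha.1 hb.1 hab hgs (conj_AS hH hg ?_)
  exact tau_mem_AS ha.2 hb.2 (Finset.mem_image_of_mem _ hs) hab fun h => hgs (h ▸ hb.1)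

variable {H L : Subgroup (Perm (Fin 8))}

/-- The main statement. -/
theorem classify (heven : H ≤ alternatingGroup (Fin 8)) (hLH : L ≤ H) (hL : Nat.card L = 60)
    (hgen : ∀ K : Subgroup (Perm (Fin 8)), (∀ g ∈ L, g * g = 1 → g ∈ K) → L ≤ K)
    {c : Perm (Fin 8)} (hc : sign c = 1) (hc3 : c ^ 3 = 1) (hc1 : c ≠ 1)
    (hcL : ∀ g ∈ L, g * c = c * g)
    (h16 : ¬ 16 ∣ Nat.card H) {t : Perm (Fin 8)} (ht : t ∈ H)
    (htN : ∀ g ∈ L, t * g * t⁻¹ ∈ L) (htL : t ∉ L) :
    (∀ h ∈ H, ∀ g ∈ L, h * g * h⁻¹ ∈ L) ∨ Nonempty (↥H ≃* alternatingGroup (Fin 7)) := by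
  classical
  have horb : ∀ x, c x ≠ x → c (c x) ≠ x ∧ c (c (c x)) = x := by
    intro x hx
    have h3 : c (c (c x)) = x := by
      have := congrArg (fun f : Perm (Fin 8) => f x) hc3
      simpa [pow_succ, Perm.mul_apply] using this
    refine ⟨fun h => hx ?_, h3⟩
    rw [h] at h3
    exact h3
  obtain ⟨g5, hg5⟩ := exists_prime_orderOf_dvd_card' (G := ↥L) (hp := ⟨Nat.prime_five⟩) 5
    (by rw [hL]; norm_num)
  have hord : orderOf (g5 : Perm (Fin 8)) = 5 := (Subgroup.orderOf_coe g5).trans hg5
  have hsupp5 : ∀ x, c x ≠ x → (g5 : Perm (Fin 8)) x = x := by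
    haveI : Fact (Nat.Prime 5) := ⟨Nat.prime_five⟩
    obtain ⟨n, hn⟩ := Perm.cycleType_prime_order (σ := (g5 : Perm (Fin 8))) (by rw [hord]; norm_num)
    rw [hord] at hn
    have h5 : (g5 : Perm (Fin 8)).support.card = 5 := by
      have h1 := Perm.sum_cycleType (g5 : Perm (Fin 8))
      have h2 := Finset.card_le_univ (g5 : Perm (Fin 8)).support
      rw [hn, Multiset.sum_replicate, smul_eq_mul] at h1
      simp only [Finset.card_univ, Fintype.card_fin] at h2
      omega
    have h5pow : (g5 : Perm (Fin 8)) ^ 5 = 1 := hord ▸ pow_orderOf_eq_one _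
    intro x hx
    by_contra hne
    -- the orbit of `g5` and the support of `c` cannot share a point
    have hcomm : Commute (g5 : Perm (Fin 8)) c := hcL _ g5.2
    have hmem : x ∈ (g5 : Perm (Fin 8)).support := Perm.mem_support.mpr hne
    have hcx : ∀ y ∈ (g5 : Perm (Fin 8)).support, c y ∈ (g5 : Perm (Fin 8)).support := fun y hy => by
      rw [Perm.mem_support] at hy ⊢
      intro h
      refine hy (c.injective ?_)
      have := congrArg (fun f : Perm (Fin 8) => f y) hcomm.eq
      simp only [Perm.mul_apply] at this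
      rw [← this, h]
    have hcy : IsCycle (g5 : Perm (Fin 8)) := by
      rw [← Perm.card_cycleType_eq_one, hn, Multiset.card_replicate]
      have h1 := Perm.sum_cycleType (g5 : Perm (Fin 8))
      rw [hn, Multiset.sum_replicate, smul_eq_mul, h5] at h1
      omega
    obtain ⟨i, hi⟩ := hcy.exists_pow_eq hne (Perm.mem_support.mp (hcx x hmem))
    have hci : ∀ m : ℕ, ((g5 : Perm (Fin 8)) ^ (i * m)) x = (c ^ m) x := by
      intro m
      induction m with
      | zero => simp
      | succ m ih =>
        rw [Nat.mul_succ, pow_add, Perm.mul_apply, hi, pow_succ, Perm.mul_apply]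
        have h1 := congrArg (fun f : Perm (Fin 8) => f x) (hcomm.pow_left (i * m)).eq
        simp only [Perm.mul_apply] at h1
        rw [h1, ih, ← Perm.mul_apply, ← pow_succ', pow_succ, Perm.mul_apply]
    have h10 := hci 10
    rw [show i * 10 = 5 * (2 * i) by ring, pow_mul, h5pow, one_pow, Perm.one_apply,
      show (10 : ℕ) = 3 * 3 + 1 by norm_num, pow_add, pow_mul, hc3, one_pow, one_mul, pow_one] at h10
    exact hx h10.symm
  -- the support of `c` has three points
  set D := c.support with hD
  have hD3 : D.card = 3 := by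
    have hord3 : orderOf c = 3 := by
      haveI : Fact (Nat.Prime 3) := ⟨Nat.prime_three⟩
      exact orderOf_eq_prime hc3 hc1
    obtain ⟨n, hn⟩ := Perm.cycleType_prime_order (σ := c) (by rw [hord3]; norm_num)
    rw [hord3] at hn
    have h1 := Perm.sum_cycleType c
    rw [hn, Multiset.sum_replicate, smul_eq_mul, ← hD] at h1
    have h2 : D.card ≤ 3 := by
      have : D ⊆ (g5 : Perm (Fin 8)).supportᶜ := fun x hx => by
        rw [Finset.mem_compl, Perm.notMem_support]
        exact hsupp5 x (Perm.mem_support.mp hx)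
      have h3 := Finset.card_le_card this
      haveI : Fact (Nat.Prime 5) := ⟨Nat.prime_five⟩
      have h5 : 5 ≤ (g5 : Perm (Fin 8)).support.card := by
        obtain ⟨m, hm⟩ := Perm.cycleType_prime_order (σ := (g5 : Perm (Fin 8))) (by rw [hord]; norm_num)
        have h4 := Perm.sum_cycleType (g5 : Perm (Fin 8))
        rw [hm, hord, Multiset.sum_replicate, smul_eq_mul] at h4
        omega
      rw [Finset.card_compl, Fintype.card_fin] at h3
      omega
    omega
  set S := Dᶜ with hS
  have hS5 : S.card = 5 := by rw [hS, Finset.card_compl, Fintype.card_fin, hD3]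
  have hfixD : L ≤ AS S := by
    refine hgen _ fun g hg hgg => ⟨mem_alternatingGroup.mp (heven (hLH hg)), fun x hx => ?_⟩
    have hxD : c x ≠ x := by
      have : x ∈ D := by simpa [hS] using hx
      exact Perm.mem_support.mp this
    obtain ⟨h2, h3⟩ := horb x hxD
    have hcg : ∀ y, g (c y) = c (g y) := fun y =>
      congrArg (fun f : Perm (Fin 8) => f y) (hcL g hg)
    have hgx : g x ∈ D := by
      rw [hD, Perm.mem_support, ← hcg]
      exact fun h => hxD (g.injective h)
    have hDeq : D = {x, c x, c (c x)} := by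
      refine (Finset.eq_of_subset_of_card_le ?_ ?_).symm
      · intro y hy
        simp only [Finset.mem_insert, Finset.mem_singleton] at hy
        rcases hy with rfl | rfl | rfl
        · exact Perm.mem_support.mpr hxD
        · exact Perm.apply_mem_support.mpr (Perm.mem_support.mpr hxD)
        · exact Perm.apply_mem_support.mpr (Perm.apply_mem_support.mpr (Perm.mem_support.mpr hxD))
      · rw [hD3, Finset.card_eq_three.mpr ⟨x, c x, c (c x), Ne.symm hxD, Ne.symm h2,
          fun h => hxD (c.injective h).symm, rfl⟩]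
    rw [hDeq] at hgx
    simp only [Finset.mem_insert, Finset.mem_singleton] at hgx
    have hgg' : g (g x) = x := by
      have := congrArg (fun f : Perm (Fin 8) => f x) hgg
      simpa using this
    rcases hgx with h | h | h
    · exact h
    · rw [h, hcg, h] at hgg'
      exact absurd hgg' h2
    · rw [h, hcg, hcg, h] at hgg'
      have : c (c (c (c x))) = c x := congrArg c h3
      rw [this] at hgg'
      exact absurd hgg' hxD
  have hLS : L = AS S := by
    refine Subgroup.eq_of_le_of_card_ge hfixD ?_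
    have := card_AS S (by omega)
    rw [hS5, show Nat.factorial 5 = 120 from rfl] at this
    rw [hL]
    omega
  have hSH : AS S ≤ H := hLS ▸ hLH
  by_cases hpres : ∀ h ∈ H, ∀ s ∈ S, h s ∈ S
  · refine Or.inl fun h hh g hg => ?_
    rw [hLS] at hg ⊢
    refine ⟨by rw [Perm.sign_mul, Perm.sign_mul, hg.1, mul_one, Perm.sign_inv, Int.units_mul_self], fun y hy => ?_⟩
    have : h⁻¹ y ∉ S := fun h' => hy (by simpa using hpres h hh _ h')
    rw [Perm.mul_apply, Perm.mul_apply, hg.2 _ this]
    simp
  push Not at hpres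
  obtain ⟨g₁, hg₁, s₁, hs₁, hx₁⟩ := hpres
  have hS6H := grow (by omega) hSH (by rw [Fintype.card_fin]; omega) hg₁ hs₁ hx₁
  set S6 := insert (g₁ s₁) S with hS6
  have hS6c : S6.card = 6 := by rw [hS6, Finset.card_insert_of_notMem hx₁, hS5]
  have ht_pres : ∀ s ∈ S, t s ∈ S := by
    intro s hs
    by_contra hts
    obtain ⟨a, ha, b, hb, hab⟩ := Finset.one_lt_card.mp (show 1 < (S.erase s).card by
      rw [Finset.card_erase_of_mem hs]; omega)
    have hτ : tau s a b ∈ L := hLS.ge (tau_mem_AS hs (Finset.mem_of_mem_erase ha)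
      (Finset.mem_of_mem_erase hb) (Finset.ne_of_mem_erase ha).symm hab)
    have h2 := (hLS.le (htN _ hτ)).2 _ hts
    simp only [Perm.mul_apply] at h2
    rw [show t⁻¹ (t s) = s by simp] at h2
    have h3 := t.injective h2
    rw [tau, Perm.mul_apply, Equiv.swap_apply_of_ne_of_ne (Finset.ne_of_mem_erase ha).symm
      (Finset.ne_of_mem_erase hb).symm, Equiv.swap_apply_left] at h3
    exact Finset.ne_of_mem_erase ha h3
  by_cases hpres6 : ∀ h ∈ H, ∀ s ∈ S6, h s ∈ S6
  · exfalso
    -- `H` would have order `720`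
    have hiff : ∀ h ∈ H, ∀ s, s ∈ S6 ↔ h s ∈ S6 := fun h hh s =>
      ⟨hpres6 h hh s, fun h' => by simpa using hpres6 h⁻¹ (H.inv_mem hh) _ h'⟩
    let r : ↥H →* Perm {y // y ∈ S6} :=
      { toFun := fun h => (h : Perm (Fin 8)).subtypePerm fun s => (hiff h h.2 s).symm
        map_one' := by ext; simp
        map_mul' := fun a b => Perm.ext fun s => rfl }
    have hr : Function.Injective r := by
      rw [injective_iff_map_eq_one]
      intro h hh
      by_contra hne
      have hfix : ∀ s ∈ S6, (h : Perm (Fin 8)) s = s := fun s hs =>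
        congrArg Subtype.val (Perm.ext_iff.mp hh ⟨s, hs⟩)
      have hsub : (h : Perm (Fin 8)).support ⊆ S6ᶜ := fun s hs => by
        rw [Finset.mem_compl]
        exact fun h' => Perm.mem_support.mp hs (hfix s h')
      have hc2 : (h : Perm (Fin 8)).support.card ≤ 2 := by
        refine (Finset.card_le_card hsub).trans ?_
        rw [Finset.card_compl, Fintype.card_fin, hS6c]
      have hne' : (h : Perm (Fin 8)) ≠ 1 := fun h' => hne (Subtype.ext h')
      have hc2' := Perm.two_le_card_support_of_ne_one hne'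
      have hsw : (h : Perm (Fin 8)).IsSwap := Perm.card_support_eq_two.mp (by omega)
      have := mem_alternatingGroup.mp (heven h.2)
      rw [hsw.sign_eq] at this
      exact absurd this (by decide)
    have hle := Nat.card_le_card_of_injective r hr
    rw [Nat.card_eq_fintype_card (α := Perm {y // y ∈ S6}), Fintype.card_perm, Fintype.card_coe, hS6c,
      show Nat.factorial 6 = 720 from rfl] at hle
    have h360 : Nat.card (AS S6) = 360 := by
      have := card_AS S6 (by omega)
      rw [hS6c, show Nat.factorial 6 = 720 from rfl] at this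
      omega
    have htA6 : t ∉ AS S6 := by
      intro htA
      refine htL (hLS.ge ⟨htA.1, fun y hy => ?_⟩)
      by_cases hy6 : y ∈ S6
      · have hy' : y = g₁ s₁ := (Finset.mem_insert.mp hy6).resolve_right hy
        have h1 := (hiff t ht y).mp hy6
        rcases Finset.mem_insert.mp h1 with h' | h'
        · rw [h', hy']
        · exfalso
          obtain ⟨s, hs, hse⟩ : ∃ s ∈ S, t s = t y := by
            have hsurj : S.image t = S := Finset.eq_of_subset_of_card_le
              (Finset.image_subset_iff.mpr ht_pres) (by rw [Finset.card_image_of_injective _ t.injective])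
            exact Finset.mem_image.mp (hsurj.ge h')
          exact hy (t.injective hse ▸ hs)
      · exact htA.2 y hy6
    obtain ⟨k, hk⟩ := Subgroup.card_dvd_of_le hS6H
    rw [h360] at hk
    have hk2 : k ≠ 0 ∧ k ≠ 1 := by
      constructor
      · rintro rfl
        exact absurd hk (by rw [mul_zero]; exact Nat.card_pos.ne')
      · rintro rfl
        exact htA6 ((Subgroup.eq_of_le_of_card_ge hS6H (by rw [hk, h360])).ge ht)
    rw [hk] at hle
    have : k = 2 := by omega
    exact h16 (by rw [hk, this]; norm_num)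
  push Not at hpres6
  obtain ⟨g₂, hg₂, s₂, hs₂, hx₂⟩ := hpres6
  have hS7H := grow (by omega) hS6H (by rw [Fintype.card_fin]; omega) hg₂ hs₂ hx₂
  set S7 := insert (g₂ s₂) S6 with hS7
  have hS7c : S7.card = 7 := by rw [hS7, Finset.card_insert_of_notMem hx₂, hS6c]
  by_cases hpres7 : ∀ h ∈ H, ∀ s ∈ S7, h s ∈ S7
  · right
    have hle : H ≤ AS S7 := by
      intro h hh
      refine ⟨mem_alternatingGroup.mp (heven hh), fun y hy => ?_⟩
      have h1 : h y ∉ S7 := fun h' => hy (by simpa using hpres7 h⁻¹ (H.inv_mem hh) _ h')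
      have hc1 : (S7ᶜ).card = 1 := by rw [Finset.card_compl, Fintype.card_fin, hS7c]
      exact Finset.card_le_one.mp hc1.le _ (Finset.mem_compl.mpr h1) _ (Finset.mem_compl.mpr hy)
    have heq : H = AS S7 := le_antisymm hle hS7H
    have e1 : ↥(alternatingGroup {y // y ∈ S7}) ≃* ↥(AS S7) :=
      ((alternatingGroup {y // y ∈ S7}).equivMapOfInjective _ Perm.ofSubtype_injective).trans
        (MulEquiv.subgroupCongr (AS_eq_map S7).symm)
    exact ⟨((MulEquiv.subgroupCongr heq).trans e1.symm).trans
      (Equiv.altCongrHom (S7.equivFinOfCardEq hS7c))⟩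
  · exfalso
    push Not at hpres7
    obtain ⟨g₃, hg₃, s₃, hs₃, hx₃⟩ := hpres7
    have hS8H := grow (by omega) hS7H (by rw [Fintype.card_fin]; omega) hg₃ hs₃ hx₃
    have hcard := card_AS (insert (g₃ s₃) S7) (by rw [Finset.card_insert_of_notMem hx₃]; omega)
    rw [Finset.card_insert_of_notMem hx₃, hS7c, show Nat.factorial (7 + 1) = 40320 from rfl] at hcard
    refine h16 (Dvd.dvd.trans ?_ (Subgroup.card_dvd_of_le hS8H))
    exact ⟨1260, by omega⟩

end Cfsg.Agent.AltEightOvergroup35
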