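import Mathlib

/-!
A Sylow 2-subgroup of the alternating group of degree 8: any two commuting elements of order 4 have
the same square, so a large abelian subgroup has more than four elements squaring to the identity.
-/

set_option autoImplicit false

namespace Cfsg.Agent.AltEightSylow95

open Equiv

/-- the bit parameters `a, c₀, c₁, d₀, d₁, d₂, d₃ = d₀ + d₁ + d₂` of an element of `2 ≀ 2 ≀ 2` -/
def act (g : Fin 64) (i : Fin 8) : Fin 8 :=
  let b := fun k => (g.val / 2 ^ k) % 2
  let i2 := i.val / 4
  let i1 := i.val / 2 % 2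
  let i0 := i.val % 2
  let c := if i2 = 0 then b 1 else b 2
  let d := if i2 = 0 then (if i1 = 0 then b 3 else b 4) else (if i1 = 0 then b 5 else (b 3 + b 4 + b 5) % 2)
  ⟨4 * ((i2 + b 0) % 2) + 2 * ((i1 + c) % 2) + (i0 + d) % 2, by omega⟩

/-- the parameters of a product, read off the images of `0, 2, 4` -/
def mul (g h : Fin 64) : Fin 64 :=
  let v := fun i => (act g (act h i)).val
  ⟨(v 0 / 4) % 2 + 2 * (v 0 / 2 % 2) + 4 * (v 4 / 2 % 2) + 8 * (v 0 % 2) + 16 * (v 2 % 2) + 32 * (v 4 % 2),
    by omega⟩

theorem act_mul : ∀ g h : Fin 64, ∀ i : Fin 8, act (mul g h) i = act g (act h i) := by decide +kernel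

theorem act_inj : ∀ g h : Fin 64, (∀ i : Fin 8, act g i = act h i) → g = h := by decide +kernel

theorem act_zero : ∀ i : Fin 8, act 0 i = i := by decide +kernel

theorem key : ∀ g h : Fin 64, mul g h = mul h g →
    mul g g = 0 ∨ mul h h = 0 ∨ mul g g = mul h h := by decide +kernel

/-- the parameters of the inverse -/
def inv (g : Fin 64) : Fin 64 := mul g (mul g g)

theorem act_inv : ∀ g : Fin 64, ∀ i : Fin 8, act (inv g) (act g i) = i ∧ act g (act (inv g) i) = i := by
  decide +kernel

/-- the permutation with given parameters -/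
def perm (g : Fin 64) : Perm (Fin 8) :=
  ⟨act g, act (inv g), fun i => (act_inv g i).1, fun i => (act_inv g i).2⟩

theorem sign_perm : ∀ g : Fin 64, Perm.sign (perm g) = 1 := by decide +kernel

theorem perm_mul (g h : Fin 64) : perm (mul g h) = perm g * perm h :=
  Equiv.ext fun i => act_mul g h i

theorem perm_zero : perm 0 = 1 := Equiv.ext act_zero

theorem perm_inj : Function.Injective perm := fun g h e => act_inj g h fun i => Equiv.congr_fun e i

/-- the element of the alternating group with given parameters -/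
def elt (g : Fin 64) : alternatingGroup (Fin 8) := ⟨perm g, Perm.mem_alternatingGroup.2 (sign_perm g)⟩

theorem elt_mul (g h : Fin 64) : elt (mul g h) = elt g * elt h := Subtype.ext (perm_mul g h)

theorem elt_zero : elt 0 = 1 := Subtype.ext perm_zero

theorem elt_inj : Function.Injective elt := fun _ _ e => perm_inj (congrArg Subtype.val e)

/-- the Sylow subgroup as a subgroup of the alternating group -/
def syl : Subgroup (alternatingGroup (Fin 8)) where
  carrier := Set.range elt
  one_mem' := ⟨0, elt_zero⟩
  mul_mem' := by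
    rintro _ _ ⟨g, rfl⟩ ⟨h, rfl⟩
    exact ⟨mul g h, elt_mul g h⟩
  inv_mem' := by
    rintro _ ⟨g, rfl⟩
    refine ⟨inv g, eq_inv_of_mul_eq_one_left ?_⟩
    rw [← elt_mul, ← elt_zero]
    congr 1
    revert g; decide +kernel

theorem card_syl : Nat.card syl = 64 := by
  show Nat.card (Set.range elt) = 64
  rw [Nat.card_range_of_injective elt_inj, Nat.card_fin]

/-- the Sylow subgroup -/
noncomputable def sylow : Sylow 2 (alternatingGroup (Fin 8)) :=
  Sylow.ofCard syl (by
    rw [card_syl, nat_card_alternatingGroup, Nat.card_fin, show Nat.factorial 8 / 2 = 64 * 315 by decide,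
      Nat.factorization_mul (by norm_num) (by norm_num), Finsupp.add_apply,
      Nat.factorization_eq_zero_of_not_dvd (by norm_num : ¬ 2 ∣ 315), add_zero,
      show (64 : ℕ) = 2 ^ 6 from rfl, Nat.Prime.factorization_pow Nat.prime_two, Finsupp.single_eq_same])

theorem syl_key {a b : alternatingGroup (Fin 8)} (ha : a ∈ syl) (hb : b ∈ syl) (hab : a * b = b * a) :
    a * a = 1 ∨ b * b = 1 ∨ a * a = b * b := by
  obtain ⟨g, rfl⟩ := ha
  obtain ⟨h, rfl⟩ := hb
  simp only [← elt_mul, ← elt_zero] at hab ⊢
  exact (key g h (elt_inj hab)).imp (congrArg elt) (Or.imp (congrArg elt) (congrArg elt))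

/-- An abelian subgroup of order at least 16 of a Sylow 2-subgroup of `A 8` has more than four elements
squaring to one. -/
theorem abelian_bound {A : Type*} [CommGroup A] [Finite A] (f : A →* alternatingGroup (Fin 8))
    (hf : Function.Injective f) (S : Sylow 2 (alternatingGroup (Fin 8))) (hS : ∀ a, f a ∈ (S : Subgroup _))
    (hA : 16 ≤ Nat.card A) : 4 < Nat.card (powMonoidHom 2 : A →* A).ker := by
  obtain ⟨c, hc⟩ := MulAction.exists_smul_eq (alternatingGroup (Fin 8)) S sylow
  let e := MulAut.conj c
  have hmem : ∀ a, e (f a) ∈ syl := fun a => by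
    show e (f a) ∈ ((sylow : Sylow 2 (alternatingGroup (Fin 8))) : Subgroup _)
    rw [← hc, Sylow.coe_subgroup_smul]
    exact Subgroup.smul_mem_pointwise_smul (f a) (MulAut.conj c) _ (hS a)
  have hk : ∀ a b : A, a ^ 2 = 1 ∨ b ^ 2 = 1 ∨ a ^ 2 = b ^ 2 := by
    intro a b
    have hi : Function.Injective (e.toMonoidHom.comp f) := e.injective.comp hf
    have h := syl_key (hmem a) (hmem b) (by rw [← map_mul, ← map_mul, ← map_mul, ← map_mul, mul_comm a b])
    simp only [← pow_two] at h
    refine h.imp (fun h => hi ?_) (Or.imp (fun h => hi ?_) fun h => hi ?_)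
    · simpa [map_pow] using h
    · simpa [map_pow] using h
    · simpa [map_pow] using h
  have h2 : Nat.card (powMonoidHom 2 : A →* A).range ≤ 2 := by
    classical
    have : Fintype A := Fintype.ofFinite A
    obtain ⟨u, hu⟩ : ∃ u, ∀ x : A, x ^ 2 = 1 ∨ x ^ 2 = u := by
      by_cases h : ∃ x : A, x ^ 2 ≠ 1
      · obtain ⟨x, hx⟩ := h
        exact ⟨x ^ 2, fun y => (hk x y).resolve_left hx |>.imp id Eq.symm⟩
      · push Not at h
        exact ⟨1, fun y => Or.inl (h y)⟩
    refine le_trans ?_ (Finset.card_le_two (a := (1 : A)) (b := u))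
    rw [Nat.card_eq_fintype_card, ← Finset.card_univ]
    refine Finset.card_le_card_of_injOn (fun x => (x : A)) (fun x _ => ?_) Subtype.val_injective.injOn
    obtain ⟨y, hy⟩ := x.2
    rw [Finset.mem_coe, Finset.mem_insert, Finset.mem_singleton]
    show (x : A) = 1 ∨ (x : A) = u
    rw [← hy]
    exact hu y
  have := (powMonoidHom 2 : A →* A).ker.card_mul_index
  rw [Subgroup.index_ker] at this
  nlinarith

end Cfsg.Agent.AltEightSylow95
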