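import Cfsg.Agent.Lib.AltFusionModel

/-!
A chunk of `p` blocks inside `Fin m × ZMod p` seen as a plane over `ZMod p`, and the subgroup of
monomial permutations generated by `p`-elements.
-/

set_option autoImplicit false

namespace Cfsg.Agent.AltFusionChunk

open Equiv Equiv.Perm
open Cfsg.Agent.AltFusionModel

variable {p m : ℕ} [hp : Fact p.Prime]

local notation "Mdl" => Fin m × ZMod p
local notation "Vec" => ZMod p × ZMod p

omit hp in
theorem mem_normalizer_of_conj {G : Type*} [Group G] [Finite G] (H : Subgroup G) {g : G}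
    (h : ∀ x ∈ H, g * x * g⁻¹ ∈ H) : g ∈ Subgroup.normalizer (H : Set G) := by
  rw [Subgroup.mem_normalizer_iff]
  intro x
  refine ⟨h x, fun hx => ?_⟩
  have hinj : Function.Injective (fun y : H => (⟨g * y * g⁻¹, h y y.2⟩ : H)) := by
    intro a b hab
    simpa using congrArg Subtype.val hab
  obtain ⟨y, hy⟩ := Finite.surjective_of_injective hinj ⟨_, hx⟩
  have : (y : G) = x := by simpa using congrArg Subtype.val hy
  exact this ▸ y.2

omit hp in
theorem mem_normalizer_closure {G : Type*} [Group G] [Finite G] {s : Set G} {g : G}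
    (h : ∀ x ∈ s, g * x * g⁻¹ ∈ Subgroup.closure s) :
    g ∈ Subgroup.normalizer (Subgroup.closure s : Set G) := by
  refine mem_normalizer_of_conj _ fun x hx => ?_
  induction hx using Subgroup.closure_induction with
  | mem x hx => exact h x hx
  | one => simp
  | mul a b _ _ iha ihb => rw [← conj_mul]; exact mul_mem iha ihb
  | inv a _ iha => rw [← conj_inv]; exact inv_mem iha

/-- A monomial permutation normalises the translations. -/
theorem conj_tr (π : Perm (Fin m)) (r : Fin m → (ZMod p)ˣ) (e : Fin m → ZMod p) :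
    Pp m p π * Dd m p r * Tr m p (Multiplicative.ofAdd e) * (Pp m p π * Dd m p r)⁻¹ =
      Tr m p (Multiplicative.ofAdd fun j => r (π⁻¹ j) * e (π⁻¹ j)) := by
  rw [mul_inv_eq_iff_eq_mul]
  refine Equiv.ext fun z => ?_
  simp [Perm.mul_apply, Tr_apply, Dd_apply, Pp_apply, mul_add]

theorem mono_normalizes (π : Perm (Fin m)) (r : Fin m → (ZMod p)ˣ)
    (b : Multiplicative (Fin m → ZMod p)) :
    Pp m p π * Dd m p r * Tr m p b ∈ Subgroup.normalizer ((Tr m p).range : Set (Perm Mdl)) := by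
  refine mul_mem (mem_normalizer_of_conj _ ?_) (Subgroup.le_normalizer ⟨b, rfl⟩)
  rintro _ ⟨c, rfl⟩
  exact ⟨_, (conj_tr π r c.toAdd).symm⟩

omit hp in
theorem addLeft_pow {A : Type*} [AddGroup A] (v : A) (k : ℕ) :
    (Equiv.addLeft v) ^ k = Equiv.addLeft (k • v) := by
  induction k with
  | zero => ext w; simp
  | succ k ih => ext w; simp [pow_succ', ih, succ_nsmul', add_assoc]

variable (ε : ZMod p ↪ Fin m)

/-- The blocks of the chunk as a plane. -/
def kap : Vec ↪ Mdl := ε.prodMap (Function.Embedding.refl _)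

theorem kap_apply (v : Vec) : kap ε v = (ε v.1, v.2) := rfl

theorem range_kap {z : Mdl} : z ∈ Set.range (kap ε) ↔ z.1 ∈ Set.range ε := by
  constructor
  · rintro ⟨v, rfl⟩; exact ⟨v.1, rfl⟩
  · rintro ⟨u, hu⟩; exact ⟨(u, z.2), Prod.ext hu rfl⟩

/-- Permutations of the plane as permutations of the blocks. -/
noncomputable def lift : Perm Vec →* Perm Mdl := Perm.viaEmbeddingHom (kap ε)

theorem lift_apply (f : Perm Vec) (v : Vec) : lift ε f (kap ε v) = kap ε (f v) := by
  rw [lift, Perm.viaEmbeddingHom_apply, Perm.viaEmbedding_apply]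

theorem lift_apply_of_not (f : Perm Vec) {z : Mdl} (hz : z.1 ∉ Set.range ε) : lift ε f z = z := by
  rw [lift, Perm.viaEmbeddingHom_apply,
    Perm.viaEmbedding_apply_of_notMem _ _ _ (mt (range_kap ε).1 hz)]

/-- Permutations agreeing on the chunk and outside it are equal. -/
theorem ext_chunk {f g : Perm Mdl} (h1 : ∀ v, f (kap ε v) = g (kap ε v))
    (h2 : ∀ z : Mdl, z.1 ∉ Set.range ε → f z = g z) : f = g := by
  refine Equiv.ext fun z => ?_
  by_cases hz : z.1 ∈ Set.range ε
  · obtain ⟨v, rfl⟩ := (range_kap ε).2 hz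
    exact h1 v
  · exact h2 z hz

/-- The cycle on the chunk. -/
noncomputable def sh : Perm (Fin m) := Perm.viaEmbeddingHom ε (Equiv.addLeft 1)

theorem via_eps_apply (f : Perm (ZMod p)) (u : ZMod p) :
    Perm.viaEmbeddingHom ε f (ε u) = ε (f u) := by
  rw [Perm.viaEmbeddingHom_apply, Perm.viaEmbedding_apply]

theorem via_eps_of_not (f : Perm (ZMod p)) {j : Fin m} (hj : j ∉ Set.range ε) :
    Perm.viaEmbeddingHom ε f j = j := by
  rw [Perm.viaEmbeddingHom_apply, Perm.viaEmbedding_apply_of_notMem _ _ _ hj]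

theorem sh_pow (k : ℕ) : sh ε ^ k = Perm.viaEmbeddingHom ε (Equiv.addLeft (k : ZMod p)) := by
  rw [sh, ← map_pow, addLeft_pow, nsmul_eq_mul, mul_one]

theorem Pp_via (f : Perm (ZMod p)) :
    Pp m p (Perm.viaEmbeddingHom ε f) = lift ε (Equiv.prodCongr f (Equiv.refl _)) := by
  refine ext_chunk ε (fun v => ?_) fun z hz => ?_
  · rw [Pp_apply, lift_apply, kap_apply, via_eps_apply]; rfl
  · rw [Pp_apply, lift_apply_of_not ε _ hz, via_eps_of_not ε _ hz]

theorem Pp_sh : Pp m p (sh ε) = lift ε (Equiv.addLeft (1, 0)) := by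
  rw [sh, Pp_via]
  congr 1
  refine Equiv.ext fun v => ?_
  simp [Prod.ext_iff]

/-- The generators of the normal subgroup `R`. -/
noncomputable def R0 : Subgroup (Perm Mdl) :=
  Subgroup.closure ({Pp m p (sh ε)} ∪
    {M | ∃ b : Fin m → ZMod p, (∀ u, b (ε u) = b (ε 0)) ∧ M = Tr m p (Multiplicative.ofAdd b)})

theorem Pp_sh_mem : Pp m p (sh ε) ∈ R0 ε := Subgroup.subset_closure (Or.inl rfl)

theorem Tr_mem {b : Fin m → ZMod p} (hb : ∀ u, b (ε u) = b (ε 0)) :
    Tr m p (Multiplicative.ofAdd b) ∈ R0 ε := Subgroup.subset_closure (Or.inr ⟨b, hb, rfl⟩)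

open scoped Classical in
/-- The part of `b` outside the chunk. -/
noncomputable def off (b : Fin m → ZMod p) : Fin m → ZMod p :=
  fun j => if j ∈ Set.range ε then 0 else b j

theorem off_eps (b : Fin m → ZMod p) (u : ZMod p) : off ε b (ε u) = 0 := by
  classical
  rw [off, if_pos ⟨u, rfl⟩]

theorem off_of_not (b : Fin m → ZMod p) {j : Fin m} (hj : j ∉ Set.range ε) : off ε b j = b j := by
  classical
  rw [off, if_neg hj]

theorem Tr_split {b : Fin m → ZMod p} (hb : ∀ u, b (ε u) = b (ε 0)) :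
    Tr m p (Multiplicative.ofAdd b) =
      lift ε (Equiv.addLeft (0, b (ε 0))) * Tr m p (Multiplicative.ofAdd (off ε b)) := by
  refine ext_chunk ε (fun v => ?_) fun z hz => ?_
  · rw [Perm.mul_apply, Tr_apply, Tr_apply, kap_apply, off_eps, zero_add, hb]
    show _ = lift ε _ (kap ε v)
    rw [lift_apply, kap_apply]
    simp
  · rw [Perm.mul_apply, Tr_apply, Tr_apply, off_of_not ε b hz,
      lift_apply_of_not ε _ (z := (z.1, b z.1 + z.2)) hz]

theorem off_mem (b : Fin m → ZMod p) : Tr m p (Multiplicative.ofAdd (off ε b)) ∈ R0 ε :=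
  Tr_mem ε fun u => by rw [off_eps, off_eps]

theorem shift_mem (v : Vec) : lift ε (Equiv.addLeft v) ∈ R0 ε := by
  classical
  have h1 : ∀ u : ZMod p, lift ε (Equiv.addLeft (u, 0)) ∈ R0 ε := by
    intro u
    have h := (R0 ε).pow_mem (Pp_sh_mem ε) u.val
    rw [Pp_sh, ← map_pow, addLeft_pow, Prod.smul_mk, nsmul_eq_mul, smul_zero, mul_one,
      ZMod.natCast_zmod_val] at h
    exact h
  have h2 : ∀ x : ZMod p, lift ε (Equiv.addLeft (0, x)) ∈ R0 ε := by
    intro x
    let b : Fin m → ZMod p := fun j => if j ∈ Set.range ε then x else 0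
    have hb : ∀ u, b (ε u) = x := fun u => if_pos ⟨u, rfl⟩
    have h := Tr_mem ε (b := b) fun u => by rw [hb, hb]
    rw [Tr_split ε fun u => by rw [hb, hb], hb] at h
    rwa [(R0 ε).mul_mem_cancel_right (off_mem ε b)] at h
  have e : Equiv.addLeft v = Equiv.addLeft (v.1, (0 : ZMod p)) * Equiv.addLeft (0, v.2) := by
    rw [← Equiv.addLeft_add]; simp
  rw [e, map_mul]
  exact mul_mem (h1 _) (h2 _)

theorem lift_commute_off (f : Perm Vec) (b : Fin m → ZMod p) :
    Commute (lift ε f) (Tr m p (Multiplicative.ofAdd (off ε b))) := by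
  refine ext_chunk ε (fun v => ?_) fun z hz => ?_
  · rw [Perm.mul_apply, Perm.mul_apply, lift_apply, Tr_apply, Tr_apply, kap_apply, kap_apply,
      off_eps, off_eps, zero_add, zero_add]
    exact lift_apply ε f v
  · rw [Perm.mul_apply, Perm.mul_apply, lift_apply_of_not ε _ hz, lift_apply_of_not ε]
    rw [Tr_apply]; exact hz

/-- Linear permutations of the chunk normalise `R0`. -/
theorem linear_normalizes (e : Vec ≃+ Vec) :
    lift ε e.toEquiv ∈ Subgroup.normalizer (R0 ε : Set (Perm Mdl)) := by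
  have key : ∀ v : Vec, e.toEquiv * Equiv.addLeft v * (e.toEquiv : Perm Vec)⁻¹ =
      Equiv.addLeft (e v) := by
    intro v
    rw [mul_inv_eq_iff_eq_mul]
    exact Equiv.ext fun w => map_add e v w
  refine mem_normalizer_closure ?_
  rintro M (rfl | ⟨b, hb, rfl⟩)
  · show _ ∈ R0 ε
    rw [Pp_sh, ← map_inv, ← map_mul, ← map_mul, key]
    exact shift_mem ε _
  · show _ ∈ R0 ε
    rw [Tr_split ε hb, ← conj_mul, (lift_commute_off ε _ b).eq, mul_inv_cancel_right, ← map_inv,
      ← map_mul, ← map_mul, key]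
    exact mul_mem (shift_mem ε _) (off_mem ε b)

/-- A transvection `(u, x) ↦ (u, x + c * u)`. -/
def uu (c : ZMod p) : Vec ≃+ Vec where
  toFun v := (v.1, v.2 + c * v.1)
  invFun v := (v.1, v.2 - c * v.1)
  left_inv v := by simp
  right_inv v := by simp
  map_add' v w := by ext <;> simp <;> ring

/-- A transvection `(u, x) ↦ (u + c * x, x)`. -/
def ll (c : ZMod p) : Vec ≃+ Vec where
  toFun v := (v.1 + c * v.2, v.2)
  invFun v := (v.1 - c * v.2, v.2)
  left_inv v := by simp
  right_inv v := by simp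
  map_add' v w := by ext <;> simp <;> ring

theorem uu_apply (c : ZMod p) (v : Vec) : uu c v = (v.1, v.2 + c * v.1) := rfl

theorem ll_apply (c : ZMod p) (v : Vec) : ll c v = (v.1 + c * v.2, v.2) := rfl

theorem uu_pow (c : ZMod p) : ((uu c).toEquiv : Perm Vec) ^ p = 1 := by
  have h : ∀ (k : ℕ) v, (((uu c).toEquiv : Perm Vec) ^ k) v = (v.1, v.2 + k * c * v.1) := by
    intro k
    induction k with
    | zero => intro v; simp
    | succ k ih =>
      intro v
      rw [pow_succ', Perm.mul_apply, ih]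
      show ((v.1, _) : Vec) = _
      ext
      · rfl
      · show v.2 + k * c * v.1 + c * v.1 = _; push_cast; ring
  exact Equiv.ext fun v => by rw [h]; simp

theorem ll_pow (c : ZMod p) : ((ll c).toEquiv : Perm Vec) ^ p = 1 := by
  have h : ∀ (k : ℕ) v, (((ll c).toEquiv : Perm Vec) ^ k) v = (v.1 + k * c * v.2, v.2) := by
    intro k
    induction k with
    | zero => intro v; simp
    | succ k ih =>
      intro v
      rw [pow_succ', Perm.mul_apply, ih]
      show ((_, v.2) : Vec) = _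
      ext
      · show v.1 + k * c * v.2 + c * v.2 = _; push_cast; ring
      · rfl
  exact Equiv.ext fun v => by rw [h]; simp

/-- The transvections `uu` are translations of the blocks. -/
theorem lift_uu (c : ZMod p) :
    ∃ b : Fin m → ZMod p, lift ε (uu c).toEquiv = Tr m p (Multiplicative.ofAdd b) := by
  classical
  refine ⟨fun j => if h : ∃ u, ε u = j then c * h.choose else 0,
    ext_chunk ε (fun v => ?_) fun z hz => ?_⟩
  · rw [lift_apply, Tr_apply]
    have h : ∃ u, ε u = ε v.1 := ⟨v.1, rfl⟩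
    show _ = (ε v.1, (if h : ∃ u, ε u = ε v.1 then c * h.choose else 0) + v.2)
    rw [dif_pos h, ε.injective h.choose_spec]
    exact Prod.ext rfl (add_comm _ _)
  · rw [lift_apply_of_not ε _ hz, Tr_apply, dif_neg (fun ⟨u, hu⟩ => hz ⟨u, hu⟩), zero_add]

/-- The twist by `a`. -/
noncomputable def hh (a : (ZMod p)ˣ) : Perm Mdl :=
  Pp m p (Perm.viaEmbeddingHom ε (mulP p a)) *
    Dd m p (∏ u, Pi.mulSingle (ε u) a⁻¹)

theorem dd_eps (a : (ZMod p)ˣ) (u : ZMod p) :
    (∏ v, Pi.mulSingle (ε v) a⁻¹ : Fin m → (ZMod p)ˣ) (ε u) = a⁻¹ := by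
  rw [Finset.prod_apply, Finset.prod_eq_single u]
  · simp
  · intro v _ hv
    exact Pi.mulSingle_eq_of_ne (fun h => hv (ε.injective h).symm) _
  · simp

theorem dd_of_not (a : (ZMod p)ˣ) {j : Fin m} (hj : j ∉ Set.range ε) :
    (∏ v, Pi.mulSingle (ε v) a⁻¹ : Fin m → (ZMod p)ˣ) j = 1 := by
  rw [Finset.prod_apply]
  exact Finset.prod_eq_one fun v _ => Pi.mulSingle_eq_of_ne (fun h => hj ⟨v, h.symm⟩) _

theorem hh_eq (a : (ZMod p)ˣ) :
    hh ε a = lift ε ((ll (a : ZMod p)).toEquiv * (uu (-((a⁻¹ : (ZMod p)ˣ) : ZMod p))).toEquiv *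
      (ll (a : ZMod p)).toEquiv *
      ((ll (-1 : ZMod p)).toEquiv * (uu (1 : ZMod p)).toEquiv * (ll (-1 : ZMod p)).toEquiv)) := by
  refine ext_chunk ε (fun v => ?_) fun z hz => ?_
  · rw [hh, Perm.mul_apply, Dd_apply, Pp_apply, lift_apply]
    show (Perm.viaEmbeddingHom ε (mulP p a) (ε v.1),
      (((∏ u, Pi.mulSingle (ε u) a⁻¹ : Fin m → (ZMod p)ˣ) (ε v.1) : (ZMod p)ˣ) : ZMod p) * v.2) =
      kap ε (ll _ (uu _ (ll _ (ll _ (uu _ (ll _ v))))))
    rw [dd_eps, via_eps_apply]
    simp only [ll_apply, uu_apply, kap_apply, mulP_apply]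
    have h1 : (a : ZMod p) * ((a⁻¹ : (ZMod p)ˣ) : ZMod p) = 1 := by
      rw [← Units.val_mul, mul_inv_cancel, Units.val_one]
    refine Prod.ext (congrArg ε ?_) ?_
    · linear_combination ((a : ZMod p) * v.1 - v.2) * h1
    · linear_combination v.1 * h1
  · rw [hh, Perm.mul_apply, Dd_apply, Pp_apply, dd_of_not ε a hz, via_eps_of_not ε _ hz,
      lift_apply_of_not ε _ hz]
    simp

theorem sign_mulP_prod (a : (ZMod p)ˣ) :
    ∏ j, (∏ v, Pi.mulSingle (ε v) a⁻¹ : Fin m → (ZMod p)ˣ) j = a⁻¹ := by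
  simp only [Finset.prod_apply]
  rw [Finset.prod_comm, Finset.prod_congr rfl fun v _ => Finset.prod_pi_mulSingle' (ε v) a⁻¹ _]
  simp only [Finset.mem_univ, if_true, Finset.prod_const, Finset.card_univ, ZMod.card]
  calc a⁻¹ ^ p = a⁻¹ ^ (p - 1 + 1) := by
        congr 1
        have := hp.out.pos
        omega
    _ = a⁻¹ := by rw [pow_succ, ZMod.units_pow_card_sub_one_eq_one, one_mul]

theorem sign_hh (hodd : p ≠ 2) (a : (ZMod p)ˣ) : sign (hh ε a) = 1 := by
  classical
  have hs : sign (Perm.viaEmbeddingHom ε (mulP p a)) = sign (mulP p a) := by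
    rw [Perm.viaEmbeddingHom_apply, Perm.viaEmbedding]
    convert Perm.sign_extendDomain (mulP p a) _
  rw [hh, map_mul, sign_Pp, sign_Dd, sign_mulP_prod, map_inv, map_inv, hs]
  rcases Int.units_eq_one_or (sign (mulP p a)) with h | h <;> rw [h]
  · simp
  · rw [(hp.out.odd_of_ne_two hodd).neg_one_pow]; rfl

/-! ### The monomial subgroup generated by `p`-elements -/

/-- Generated by the `p`-elements normalising the translations. -/
def K0 (m p : ℕ) : Subgroup (Perm (Fin m × ZMod p)) :=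
  Subgroup.closure {M : Perm (Fin m × ZMod p) |
    M ∈ Subgroup.normalizer ((Tr m p).range : Set (Perm (Fin m × ZMod p))) ∧
    ∃ k : ℕ, M ^ p ^ k = 1}

theorem K0_conj {D M : Perm Mdl} (hD : D ∈ Subgroup.normalizer ((Tr m p).range : Set (Perm Mdl)))
    (hM : M ∈ K0 m p) : D * M * D⁻¹ ∈ K0 m p := by
  induction hM using Subgroup.closure_induction with
  | mem x hx =>
    obtain ⟨h1, k, hk⟩ := hx
    refine Subgroup.subset_closure ⟨mul_mem (mul_mem hD h1) (inv_mem hD), k, ?_⟩
    rw [conj_pow, hk, mul_one, mul_inv_cancel]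
  | one => simp
  | mul a b _ _ iha ihb => rw [← conj_mul]; exact mul_mem iha ihb
  | inv a _ iha => rw [← conj_inv]; exact inv_mem iha

include ε in
theorem Pp_mem (hodd : p ≠ 2) {π : Perm (Fin m)} (hπ : sign π = 1) : Pp m p π ∈ K0 m p := by
  have h3 : 3 ≤ p := by
    have := hp.out.two_le; omega
  have hu : ∀ i j : ℕ, i < 3 → j < 3 → i ≠ j → ε (i : ZMod p) ≠ ε (j : ZMod p) := by
    intro i j hi hj hij h
    have h' := congrArg ZMod.val (ε.injective h)
    rw [ZMod.val_natCast_of_lt (by omega), ZMod.val_natCast_of_lt (by omega)] at h'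
    exact hij h'
  set σ := sh ε
  set τ := Equiv.swap (ε ((0 : ℕ) : ZMod p)) (ε ((1 : ℕ) : ZMod p)) with hτ
  have hγ : (σ * τ * σ⁻¹ * τ).IsThreeCycle := by
    rw [hτ, ← Equiv.swap_apply_apply]
    have e1 : ∀ k : ℕ, σ (ε (k : ZMod p)) = ε ((k + 1 : ℕ) : ZMod p) := fun k => by
      rw [show σ = sh ε from rfl, sh, via_eps_apply]; simp [add_comm]
    rw [e1, e1, Equiv.swap_comm (ε ((0 + 1 : ℕ) : ZMod p)) (ε ((1 + 1 : ℕ) : ZMod p)),
      Equiv.swap_comm (ε ((0 : ℕ) : ZMod p)) (ε ((1 : ℕ) : ZMod p))]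
    rw [Equiv.swap_comm (ε ((1 + 1 : ℕ) : ZMod p))]
    exact Perm.isThreeCycle_swap_mul_swap_same (hu 1 2 (by omega) (by omega) (by omega))
      (hu 1 0 (by omega) (by omega) (by omega)) (hu 2 0 (by omega) (by omega) (by omega))
  have hσp : ∀ h : Perm (Fin m), Pp m p (h * σ * h⁻¹) ∈ K0 m p := by
    intro h
    refine Subgroup.subset_closure ⟨?_, 1, ?_⟩
    · have := mono_normalizes (m := m) (h * σ * h⁻¹) (1 : Fin m → (ZMod p)ˣ) 1
      rwa [map_one, map_one, mul_one, mul_one] at this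
    · rw [pow_one, ← map_pow, conj_pow]
      have : σ ^ p = 1 := by
        rw [show σ = sh ε from rfl, sh_pow, ZMod.natCast_self, Equiv.addLeft_zero]
        exact map_one _
      rw [this, mul_one, mul_inv_cancel, map_one]
  have hle : alternatingGroup (Fin m) ≤ (K0 m p).comap (Pp m p) := by
    rw [← closure_three_cycles_eq_alternating, Subgroup.closure_le]
    intro γ hγ'
    obtain ⟨h, rfl⟩ := isConj_iff.1 (Perm.isConj_iff_cycleType_eq.2 (hγ.trans hγ'.symm))
    show Pp m p (h * (σ * τ * σ⁻¹ * τ) * h⁻¹) ∈ K0 m p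
    have e : h * (σ * τ * σ⁻¹ * τ) * h⁻¹ =
        (h * σ * h⁻¹) * ((h * τ) * σ * (h * τ)⁻¹)⁻¹ := by
      rw [_root_.mul_inv_rev h τ, _root_.mul_inv_rev, _root_.mul_inv_rev, inv_inv, hτ,
        Equiv.swap_inv]
      group
      simp [mul_assoc]
    rw [e, map_mul, map_inv]
    exact mul_mem (hσp h) (inv_mem (hσp (h * τ)))
  exact hle (mem_alternatingGroup.2 hπ)

include ε in
theorem Dd_mem (hodd : p ≠ 2) {t : Fin m → (ZMod p)ˣ} (ht : ∏ i, t i = 1) :
    Dd m p t ∈ K0 m p := by
  classical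
  have h3 : 3 ≤ m := by
    have h := Fintype.card_le_of_embedding ε
    rw [ZMod.card, Fintype.card_fin] at h
    have := hp.out.two_le; omega
  have pair : ∀ (i j : Fin m) (a : (ZMod p)ˣ),
      Dd m p (Pi.mulSingle i a * Pi.mulSingle j a⁻¹) ∈ K0 m p := by
    intro i j a
    by_cases hij : i = j
    · subst hij
      rw [← Pi.mulSingle_mul, mul_inv_cancel, Pi.mulSingle_one, map_one]
      exact one_mem _
    obtain ⟨l, hli, hlj⟩ : ∃ l : Fin m, l ≠ i ∧ l ≠ j := by
      have : 0 < ((Finset.univ.erase i).erase j).card := by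
        rw [Finset.card_erase_of_mem (Finset.mem_erase.2 ⟨Ne.symm hij, Finset.mem_univ j⟩),
          Finset.card_erase_of_mem (Finset.mem_univ i), Finset.card_univ, Fintype.card_fin]
        omega
      obtain ⟨l, hl⟩ := Finset.card_pos.1 this
      exact ⟨l, Finset.ne_of_mem_erase (Finset.mem_of_mem_erase hl), Finset.ne_of_mem_erase hl⟩
    set σ : Perm (Fin m) := Equiv.swap j l * Equiv.swap i l
    have hσi : σ i = j := by
      rw [Perm.mul_apply, Equiv.swap_apply_left, Equiv.swap_apply_right]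
    have hσs : sign σ = 1 := by
      rw [map_mul, Perm.sign_swap (Ne.symm hlj), Perm.sign_swap (Ne.symm hli)]; rfl
    have hD : Dd m p (Pi.mulSingle i a) ∈
        Subgroup.normalizer ((Tr m p).range : Set (Perm Mdl)) := by
      have := mono_normalizes (1 : Perm (Fin m)) (Pi.mulSingle i a) (1 : Multiplicative (Fin m → ZMod p))
      rwa [map_one, map_one, mul_one, one_mul] at this
    have h1 := mul_mem (K0_conj hD (Pp_mem ε hodd hσs)) (inv_mem (Pp_mem ε hodd hσs))
    have e : Dd m p (Pi.mulSingle i a) * Pp m p σ * (Dd m p (Pi.mulSingle i a))⁻¹ *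
        (Pp m p σ)⁻¹ = Dd m p (Pi.mulSingle i a * Pi.mulSingle j a⁻¹) := by
      rw [mul_assoc (Dd m p (Pi.mulSingle i a)), ← map_inv (Dd m p), Pp_Dd, map_mul,
        mul_assoc, mul_inv_cancel_right, ← map_mul]
      congr 1
      funext k
      rw [Pi.mul_apply, Pi.mul_apply]
      congr 1
      by_cases hk : k = j
      · subst hk
        rw [Pi.mulSingle_eq_same, Pi.inv_apply, ← hσi, Perm.inv_def, Equiv.symm_apply_apply,
          Pi.mulSingle_eq_same]
      · rw [Pi.mulSingle_eq_of_ne hk, Pi.inv_apply, Pi.mulSingle_eq_of_ne, inv_one]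
        intro h
        exact hk (by rw [← hσi, ← h]; simp)
    rwa [e] at h1
  let i0 : Fin m := ⟨0, by omega⟩
  have key : ∀ s : Finset (Fin m),
      Dd m p ((∏ i ∈ s, Pi.mulSingle i (t i)) * Pi.mulSingle i0 (∏ i ∈ s, t i)⁻¹) ∈ K0 m p := by
    intro s
    induction s using Finset.induction_on with
    | empty => simp
    | insert i s hi ih =>
      rw [Finset.prod_insert hi, Finset.prod_insert hi, mul_inv, Pi.mulSingle_mul, mul_mul_mul_comm,
        map_mul]
      exact mul_mem (pair i i0 (t i)) ih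
  have := key Finset.univ
  rwa [Finset.univ_prod_mulSingle, ht, inv_one, Pi.mulSingle_one, mul_one] at this

include ε in
theorem mono_mem (hodd : p ≠ 2) {π : Perm (Fin m)} {t : Fin m → (ZMod p)ˣ}
    (hs : sign (Pp m p π * Dd m p t) = 1) (ht : ∏ i, t i = 1) :
    Pp m p π * Dd m p t ∈ K0 m p := by
  refine mul_mem (Pp_mem ε hodd ?_) (Dd_mem ε hodd ht)
  rw [map_mul, sign_Pp, sign_Dd, ht, map_one, map_one, mul_one] at hs
  rcases Int.units_eq_one_or (sign π) with h | h
  · exact h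
  · rw [h, (hp.out.odd_of_ne_two hodd).neg_one_pow] at hs
    exact absurd hs (by decide)

/-! ### Permutations centralising `R0` -/

variable {α : Type*} [Fintype α] [DecidableEq α] (ι : Fin m × ZMod p ↪ α)

omit [Fintype α] [DecidableEq α] in
theorem fixed_iff_of_commute {y M : Perm α} (h : Commute y M) (w : α) : M (y w) = y w ↔ M w = w := by
  rw [← Perm.mul_apply, ← h.eq, Perm.mul_apply, y.injective.eq_iff]

theorem centralizer_chunk (hcov : ∀ u v, u ∉ Set.range ι → v ∉ Set.range ι → u = v) {y : Perm α}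
    (hy : ∀ M ∈ R0 ε, Commute y (Perm.viaEmbeddingHom ι M)) :
    y ∈ (R0 ε).map (Perm.viaEmbeddingHom ι) := by
  classical
  -- the chunk is preserved
  have hin : ∀ v : Vec, ∃ w : Vec, y (ι (kap ε v)) = ι (kap ε w) := by
    intro v
    have hM := hy _ (shift_mem ε (0, 1))
    have hmov : Perm.viaEmbeddingHom ι (lift ε (Equiv.addLeft ((0 : ZMod p), (1 : ZMod p))))
        (y (ι (kap ε v))) ≠ y (ι (kap ε v)) := by
      rw [Ne, fixed_iff_of_commute hM, via_apply, lift_apply, ι.injective.eq_iff,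
        (kap ε).injective.eq_iff]
      simp [Prod.ext_iff]
    by_cases hr : y (ι (kap ε v)) ∈ Set.range ι
    · obtain ⟨z, hz⟩ := hr
      by_cases hz' : z.1 ∈ Set.range ε
      · obtain ⟨w, rfl⟩ := (range_kap ε).2 hz'
        exact ⟨w, hz.symm⟩
      · rw [← hz, via_apply, lift_apply_of_not ε _ hz'] at hmov
        exact absurd rfl hmov
    · exact absurd (via_apply_of_not ι _ hr) hmov
  obtain ⟨f0, hf0⟩ := hin 0
  have hchunk : ∀ v : Vec, y (ι (kap ε v)) = ι (kap ε (v + f0)) := by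
    intro v
    have h := (hy _ (shift_mem ε v)).eq
    have h' := congrArg (fun g : Perm α => g (ι (kap ε 0))) h
    simp only [Perm.mul_apply] at h'
    rw [via_apply, lift_apply, hf0, via_apply, lift_apply] at h'
    simpa using h'
  have hoff : ∀ i : Fin m, i ∉ Set.range ε → ∃ c, ∀ x : ZMod p, y (ι (i, x)) = ι (i, x + c) := by
    intro i hi
    have hc : ∀ k : ZMod p, Commute y (Perm.viaEmbeddingHom ι
        (Tr m p (Multiplicative.ofAdd (Pi.single i k : Fin m → ZMod p)))) := fun k =>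
      hy _ (Tr_mem ε fun u => by
        rw [Pi.single_eq_of_ne (fun h => hi ⟨u, h⟩), Pi.single_eq_of_ne (fun h => hi ⟨0, h⟩)])
    obtain ⟨-, -, hfix⟩ := cycle_facts ι i
    obtain ⟨c, hc0⟩ := (hfix (y (ι (i, 0)))).1 fun e =>
      (hfix (ι (i, 0))).2 ⟨0, rfl⟩ ((fixed_iff_of_commute (hc 1) _).1 e)
    refine ⟨c, fun x => ?_⟩
    have h' := congrArg (fun g : Perm α => g (ι (i, (0 : ZMod p)))) (hc x).eq
    simp only [Perm.mul_apply, via_apply, Tr_apply, Pi.single_eq_same, add_zero, hc0] at h'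
    exact h'
  choose c hc using hoff
  let b : Fin m → ZMod p := fun i => if h : i ∈ Set.range ε then 0 else c i h
  refine ⟨lift ε (Equiv.addLeft f0) * Tr m p (Multiplicative.ofAdd (off ε b)),
    mul_mem (shift_mem ε f0) (off_mem ε b), eq_of_agree (Set.range ι) hcov ?_⟩
  rintro _ ⟨z, rfl⟩
  rw [via_apply, Perm.mul_apply, Tr_apply]
  by_cases hz : z.1 ∈ Set.range ε
  · obtain ⟨v, rfl⟩ := (range_kap ε).2 hz
    rw [kap_apply, off_eps, zero_add]
    show ι (lift ε _ (kap ε v)) = y (ι (kap ε v))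
    rw [lift_apply, hchunk]
    simp [add_comm]
  · rw [lift_apply_of_not ε _ (by exact hz), off_of_not ε b hz, hc z.1 hz z.2]
    have hb : b z.1 = c z.1 hz := dif_neg hz
    rw [hb, add_comm]

end Cfsg.Agent.AltFusionChunk
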