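import Cfsg.Agent.S5160

/-!
A simplicity criterion for the fusion system of a finite group on a Sylow subgroup.
-/

set_option autoImplicit false

namespace Cfsg.Agent.FusionSimpleCrit

open Cfsg Cfsg.FusionSystem Cfsg.Agent.FusionSysBasic Cfsg.Agent.FusionSysSaturated
  Cfsg.Agent.FusionSysGroup

variable {G : Type*} [Group G] [Finite G] {p : ℕ} [Fact p.Prime] {S : Sylow p G}

omit [Finite G] [Fact p.Prime] in
/-- A strongly closed subgroup contains all conjugates of its elements that lie in `S`. -/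
theorem mem_of_conj {T : Subgroup G}
    (hT : (groupFusionSystem (S : Subgroup G)).StronglyClosed T) {t g : G} (ht : t ∈ T)
    (hg : g * t * g⁻¹ ∈ (S : Subgroup G)) : g * t * g⁻¹ ∈ T := by
  have hle : Subgroup.zpowers t ≤ T := Subgroup.zpowers_le.2 ht
  have hm : Mor (groupFusionSystem (S : Subgroup G)) (Subgroup.zpowers t) (cj g) := by
    refine mor_group_iff.2 ⟨hle.trans hT.1, g, fun _ _ => rfl, ?_⟩
    rintro x ⟨i, rfl⟩
    show g * t ^ i * g⁻¹ ∈ (S : Subgroup G)
    rw [← conj_zpow]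
    exact (S : Subgroup G).zpow_mem hg i
  obtain ⟨φ, hφ, he⟩ := hm
  have := hT.2 _ hle φ hφ ⟨t, Subgroup.mem_zpowers t⟩
  rwa [he ⟨t, Subgroup.mem_zpowers t⟩, cj_apply] at this

omit [Finite G] [Fact p.Prime] in
/-- A strongly closed subgroup is normalised by `S`. -/
theorem conj_mem_of_mem {T : Subgroup G}
    (hT : (groupFusionSystem (S : Subgroup G)).StronglyClosed T) {t s : G} (ht : t ∈ T)
    (hs : s ∈ (S : Subgroup G)) : s * t * s⁻¹ ∈ T :=
  mem_of_conj hT ht ((S : Subgroup G).mul_mem ((S : Subgroup G).mul_mem hs (hT.1 ht))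
    ((S : Subgroup G).inv_mem hs))

/-- A nontrivial strongly closed subgroup meets the centre of `S`. -/
theorem exists_central_mem {T : Subgroup G}
    (hT : (groupFusionSystem (S : Subgroup G)).StronglyClosed T) (hne : T ≠ ⊥) :
    ∃ z ∈ T, z ≠ 1 ∧ z ∈ (S : Subgroup G) ∧ ∀ s ∈ (S : Subgroup G), s * z = z * s := by
  have hle := hT.1
  have : (T.subgroupOf (S : Subgroup G)).Normal := ⟨fun x hx g => by
    rw [Subgroup.mem_subgroupOf] at hx ⊢
    exact conj_mem_of_mem hT hx g.2⟩
  have hnt : Nontrivial (T.subgroupOf (S : Subgroup G)) := by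
    rw [Subgroup.nontrivial_iff_ne_bot, Ne, Subgroup.subgroupOf_eq_bot]
    intro hd
    exact hne (disjoint_self.1 (hd.mono_right hle))
  have key : Nontrivial ↥(T.subgroupOf (S : Subgroup G) ⊓ Subgroup.center (S : Subgroup G)) := by
    rw [Subgroup.nontrivial_iff_ne_bot]
    intro hbot
    obtain ⟨k, hk⟩ := (IsPGroup.iff_card).1 (S.2.to_subgroup (T.subgroupOf (S : Subgroup G)))
    have hpd : p ∣ Nat.card (T.subgroupOf (S : Subgroup G)) := by
      have : 1 < Nat.card (T.subgroupOf (S : Subgroup G)) := Finite.one_lt_card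
      rw [hk] at this ⊢
      rcases k with _ | k
      · simp at this
      · exact dvd_pow_self p k.succ_ne_zero
    let _inst : MulAction (S : Subgroup G) (T.subgroupOf (S : Subgroup G)) :=
      MulAction.compHom _ (MulAut.conjNormal (H := T.subgroupOf (S : Subgroup G)))
    obtain ⟨b, hb, hb1⟩ := S.2.exists_fixed_point_of_prime_dvd_card_of_fixed_point
      (T.subgroupOf (S : Subgroup G)) hpd (a := 1) (fun s => map_one (MulAut.conjNormal (H := T.subgroupOf (S : Subgroup G)) s))
    apply hb1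
    have hbmem : (b : (S : Subgroup G)) ∈
        T.subgroupOf (S : Subgroup G) ⊓ Subgroup.center (S : Subgroup G) := by
      refine ⟨b.2, Subgroup.mem_center_iff.2 fun s => ?_⟩
      have := congrArg Subtype.val (hb s)
      exact mul_inv_eq_iff_eq_mul.1 this
    rw [hbot, Subgroup.mem_bot] at hbmem
    exact (Subtype.ext hbmem).symm
  obtain ⟨⟨z, hz⟩, hz1⟩ :=
    exists_ne (1 : ↥(T.subgroupOf (S : Subgroup G) ⊓ Subgroup.center (S : Subgroup G)))
  refine ⟨z, hz.1, fun h => hz1 (Subtype.ext (Subtype.ext h)), z.2, fun s hs => ?_⟩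
  exact congrArg Subtype.val (Subgroup.mem_center_iff.1 hz.2 ⟨s, hs⟩)

/-- Elements whose conjugation is obtained from centric normal subgroups of `S`. -/
def goodSet (S : Sylow p G) : Set G :=
  {g | g ∈ Subgroup.centralizer ((S : Subgroup G) : Set G)} ∪
  {g | g ∈ Subgroup.normalizer ((S : Subgroup G) : Set G) ∧ ∃ R : Subgroup G,
    R ≤ (S : Subgroup G) ∧ (S : Subgroup G) ≤ Subgroup.normalizer (R : Set G) ∧
    Subgroup.centralizer (R : Set G) ≤ R ∧ g ∈ Subgroup.normalizer (R : Set G) ∧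
    g ∈ Subgroup.closure {a : G | a ∈ Subgroup.normalizer (R : Set G) ∧ ∃ k : ℕ, orderOf a = p ^ k}}

omit [Fact p.Prime] in
theorem centric_of_centralizer_le {R : Subgroup G} (hR : R ≤ (S : Subgroup G))
    (hC : Subgroup.centralizer (R : Set G) ≤ R) :
    (groupFusionSystem (S : Subgroup G)).IsCentric R := by
  refine ⟨hR, fun Q hQ => ?_⟩
  obtain ⟨-, -, g, rfl⟩ := isConj_group_iff.1 hQ
  intro x hx
  rw [mem_im_cj]
  refine hC (Subgroup.mem_centralizer_iff.2 fun y hy => ?_)
  have := Subgroup.mem_centralizer_iff.1 hx.2 (cj g y) (apply_mem_im hy)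
  simp only [cj_apply] at this ⊢
  calc y * (g⁻¹ * x * g⁻¹⁻¹) = g⁻¹ * ((g * y * g⁻¹) * x) * g := by group
    _ = g⁻¹ * (x * (g * y * g⁻¹)) * g := by rw [this]
    _ = (g⁻¹ * x * g⁻¹⁻¹) * y := by group

theorem fullyNormalized_of_normal {R : Subgroup G} (hR : R ≤ (S : Subgroup G))
    (hn : (S : Subgroup G) ≤ Subgroup.normalizer (R : Set G)) :
    (groupFusionSystem (S : Subgroup G)).IsFullyNormalized R := by
  refine ⟨hR, fun Q _ => ?_⟩
  rw [show normalizerIn (S : Subgroup G) R = (S : Subgroup G) from inf_eq_left.2 hn]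
  exact Subgroup.card_le_of_le inf_le_left

/-- Simplicity criterion. -/
theorem isSimple_of_closed_gen (hS1 : (S : Subgroup G) ≠ ⊥)
    (ha : ∀ T : Subgroup G, (groupFusionSystem (S : Subgroup G)).StronglyClosed T →
      T ≠ ⊥ → T = (S : Subgroup G))
    (hb : Subgroup.normalizer ((S : Subgroup G) : Set G) ≤
      Subgroup.closure (((S : Subgroup G) : Set G) ∪ goodSet S)) :
    (groupFusionSystem (S : Subgroup G)).IsSimple p := by
  refine ⟨saturated_group S, hS1, fun T E hE => ?_⟩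
  obtain ⟨⟨hsat, -, hinv⟩, -⟩ := hE
  by_cases hT : T = ⊥
  · exact Or.inl hT
  have h := ha T hinv.2.1 hT
  subst h
  refine Or.inr ⟨rfl, fun P => Set.Subset.antisymm (hinv.1 P) fun φ hφ => ?_⟩
  have hle : Subgroup.normalizer ((S : Subgroup G) : Set G) ≤ S5160.stab E le_rfl := by
    refine hb.trans ((Subgroup.closure_le _).2 ?_)
    rintro g (hg | hg | ⟨hgS, R, hR, hSR, hC, hgR, hg⟩)
    · exact ⟨Subgroup.le_normalizer hg, mor_cj le_rfl hg⟩
    · refine ⟨Subgroup.centralizer_le_normalizer _ hg, (mor_id le_rfl).congr fun x hx => ?_⟩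
      rw [cj_apply, ← Subgroup.mem_centralizer_iff.1 hg x hx, mul_inv_cancel_right]
    · have hfn := fullyNormalized_of_normal hR hSR
      have hgE : g ∈ S5160.stab E hR :=
        ((Subgroup.closure_le _).2 fun a ha' =>
          S5160.pElements_mem hinv hR hfn ha'.1 ha'.2) hg
      exact ⟨hgS, S5160.extend hsat hinv.1 hgS R (centric_of_centralizer_le hR hC) hgR hgE.2⟩
  obtain ⟨hP, hφS, k, hk⟩ := id hφ
  have hkS : ∀ x ∈ P, cj k x ∈ (S : Subgroup G) := fun x hx => by
    have := hφS ⟨x, hx⟩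
    rwa [hk] at this
  obtain ⟨g, hg, hm⟩ := S5160.frattini hinv hP hkS
  have hfin := S5160.mor_cj_comp hm (hle hg).2 fun x hx => hm.apply_mem hx
  rw [mul_inv_cancel_left] at hfin
  exact (mor_iff_hom hk).mp hfin

end Cfsg.Agent.FusionSimpleCrit
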