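import Cfsg.Agent.Lib.AltFusionModel
import Cfsg.Agent.Lib.FusionSimpleCrit

/-!
Strongly closed subgroups in the `p`-fusion system of an alternating group, `p` odd.
-/

set_option autoImplicit false

namespace Cfsg.Agent.AltFusionClosed

open Equiv Equiv.Perm
open Cfsg Cfsg.FusionSystem Cfsg.Agent.AltFusionModel Cfsg.Agent.FusionSimpleCrit
  Cfsg.Agent.FusionSysBasic Cfsg.Agent.FusionSysGroup

variable {α : Type*} [Fintype α] [DecidableEq α] {p : ℕ} [hp : Fact p.Prime]

theorem mem_image {H : Subgroup (alternatingGroup α)} {y : alternatingGroup α} :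
    (y : Perm α) ∈ H.map (alternatingGroup α).subtype ↔ y ∈ H := by
  refine ⟨?_, Subgroup.mem_map_of_mem _⟩
  rintro ⟨z, hz, he⟩
  rwa [← Subtype.ext he]

theorem sign_pElem (hodd : p ≠ 2) {x : Perm α} {k : ℕ} (h : x ^ p ^ k = 1) : sign x = 1 :=
  sign_eq_one_of_pow ((hp.out.odd_of_ne_two hodd).pow) h

theorem pgroup_le_alt (hodd : p ≠ 2) {K : Subgroup (Perm α)} (hK : IsPGroup p K) :
    K ≤ alternatingGroup α := fun x hx => by
  obtain ⟨k, hk⟩ := hK ⟨x, hx⟩
  exact mem_alternatingGroup.2 (sign_pElem hodd (congrArg Subtype.val hk))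

variable (S : Sylow p (alternatingGroup α)) (T : Subgroup (alternatingGroup α))

/-- Every conjugate of `x` lying in `S` lies in `T`. -/
def Good (x : Perm α) : Prop :=
  ∀ y : alternatingGroup α, (y : Perm α) = x → ∀ g : alternatingGroup α,
    g * y * g⁻¹ ∈ (S : Subgroup (alternatingGroup α)) → g * y * g⁻¹ ∈ T

variable {S T} (hT : (groupFusionSystem (S : Subgroup (alternatingGroup α))).StronglyClosed T)
include hT

theorem good_of_mem {y : alternatingGroup α} (hy : y ∈ T) : Good S T y.1 := by
  intro z hz g hg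
  rw [Subtype.ext hz] at hg ⊢
  exact mem_of_conj hT hy hg

theorem good_one : Good S T 1 := good_of_mem hT (one_mem T)

omit hT in
theorem good_conj {x : Perm α} (h : Good S T x) (g : alternatingGroup α) :
    Good S T (g.1 * x * g.1⁻¹) := by
  intro y hy k hk
  have hy' : ((g⁻¹ * y * g : alternatingGroup α) : Perm α) = x := by
    push_cast
    rw [hy]
    group
  have e : k * g * (g⁻¹ * y * g) * (k * g)⁻¹ = k * y * k⁻¹ := by group
  have := h _ hy' (k * g) (by rw [e]; exact hk)
  rwa [e] at this

/-- Products inside a `p`-subgroup. -/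
theorem good_mul_sub {K : Subgroup (alternatingGroup α)} (hK : IsPGroup p K) {a b : alternatingGroup α}
    (ha : a ∈ K) (hb : b ∈ K) (hga : Good S T a.1) (hgb : Good S T b.1) :
    Good S T (a * b).1 := by
  intro y hy g hg
  rw [Subtype.ext hy] at hg ⊢
  obtain ⟨Q, hQ⟩ := hK.exists_le_sylow
  obtain ⟨h, hh⟩ := MulAction.exists_smul_eq (alternatingGroup α) Q S
  have hin : ∀ z ∈ K, h * z * h⁻¹ ∈ (S : Subgroup (alternatingGroup α)) := fun z hz => by
    rw [← hh]; exact ⟨z, hQ hz, rfl⟩
  have h1 := hga a rfl h (hin a ha)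
  have h2 := hgb b rfl h (hin b hb)
  have h3 : h * (a * b) * h⁻¹ ∈ T := by rw [← conj_mul]; exact mul_mem h1 h2
  have e : (g * h⁻¹) * (h * (a * b) * h⁻¹) * (g * h⁻¹)⁻¹ = g * (a * b) * g⁻¹ := by group
  rw [← e]
  exact mem_of_conj hT h3 (e.symm ▸ hg)

theorem good_mul (hodd : p ≠ 2) {K : Subgroup (Perm α)} (hK : IsPGroup p K) {a b : Perm α}
    (ha : a ∈ K) (hb : b ∈ K) (hga : Good S T a) (hgb : Good S T b) : Good S T (a * b) :=
  good_mul_sub hT (K := K.subgroupOf (alternatingGroup α))
    (hK.comap_of_injective _ Subtype.val_injective)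
    (a := ⟨a, pgroup_le_alt hodd hK ha⟩) (b := ⟨b, pgroup_le_alt hodd hK hb⟩) ha hb hga hgb

omit hT in
theorem conj_mono {m : ℕ} (π : Perm (Fin m)) (r : Fin m → (ZMod p)ˣ) (e : Fin m → ZMod p) :
    Pp m p π * Dd m p r * Tr m p (Multiplicative.ofAdd e) * (Pp m p π * Dd m p r)⁻¹ =
      Tr m p (Multiplicative.ofAdd fun j => r (π⁻¹ j) * e (π⁻¹ j)) := by
  rw [mul_inv_eq_iff_eq_mul]
  refine Equiv.ext fun z => ?_
  simp [Perm.mul_apply, Tr_apply, Dd_apply, Pp_apply, mul_add]

variable {m : ℕ} (ι : Fin m × ZMod p ↪ α)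

omit hT in
theorem exists_block {Q : Subgroup (Perm α)} (hQ : IsPGroup p Q)
    (hcov : ∀ u v, u ∉ Set.range ι → v ∉ Set.range ι → u = v)
    (hE : ∀ i, Perm.viaEmbeddingHom ι (cyc i) ∈ Q) {y : Perm α} (hyc : y.IsCycle)
    (hyp : y.support.card = p) (hy : y ∈ Q) :
    ∃ (j : Fin m) (k : ℕ), y = (Perm.viaEmbeddingHom ι (cyc j)) ^ k := by
  classical
  obtain ⟨a, ha⟩ : ∃ a, a ∈ y.support ∧ a ∈ Set.range ι := by
    obtain ⟨a, ha, b, hb, hne⟩ := Finset.one_lt_card.1 (show 1 < y.support.card by
      have := hp.out.one_lt; omega)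
    by_cases h : a ∈ Set.range ι
    · exact ⟨a, ha, h⟩
    · exact ⟨b, hb, by_contra fun hb' => hne (hcov a b h hb')⟩
  obtain ⟨⟨j, x⟩, rfl⟩ := ha.2
  obtain ⟨hc', hcard', hfix'⟩ := cycle_facts ι j
  obtain ⟨k, hk⟩ := eq_pow_of_overlap hQ hyc hc' hyp hcard' hy (hE j)
    (Perm.mem_support.1 ha.1) ((hfix' _).2 ⟨x, rfl⟩)
  exact ⟨j, k, hk⟩

variable (hodd : p ≠ 2) (hm : 3 ≤ m) (hcov : ∀ u v, u ∉ Set.range ι → v ∉ Set.range ι → u = v)
  (hE : ∀ b, Perm.viaEmbeddingHom ι (Tr m p b) ∈
    (S : Subgroup (alternatingGroup α)).map (alternatingGroup α).subtype)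
include hodd hm hcov hE

/-- Some block cycle lies in a nontrivial strongly closed subgroup. -/
theorem exists_cyc_good (hne : T ≠ ⊥) :
    ∃ i, Good S T (Perm.viaEmbeddingHom ι (cyc i)) := by
  classical
  set S' := (S : Subgroup (alternatingGroup α)).map (alternatingGroup α).subtype with hS'
  have hS'p : IsPGroup p S' := S.2.map _
  have hTp : IsPGroup p T := S.2.to_le hT.1
  obtain ⟨w, hw⟩ : ∃ w : T, orderOf w = p := by
    obtain ⟨k, hk⟩ := IsPGroup.iff_card.1 hTp
    refine exists_prime_orderOf_dvd_card' p ?_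
    rw [hk]
    refine dvd_pow_self p ?_
    rintro rfl
    exact hne (Subgroup.card_eq_one.1 (hk.trans (pow_zero p)))
  have hw1 : ((w : alternatingGroup α) : Perm α) ^ p = 1 := by
    rw [← hw]; exact_mod_cast congrArg (fun z : T => ((z : alternatingGroup α) : Perm α)) (pow_orderOf_eq_one w)
  set x : Perm α := ((w : alternatingGroup α) : Perm α) with hx
  have hxne : x ≠ 1 := by
    intro h
    have : w = 1 := Subtype.ext (Subtype.ext h)
    rw [this, orderOf_one] at hw
    exact hp.out.one_lt.ne hw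
  set C := Subgroup.closure (x.cycleFactorsFinset : Set (Perm α)) with hC
  have hfac : ∀ c ∈ x.cycleFactorsFinset, c.IsCycle ∧ c.support.card = p := by
    intro c hc
    have hcyc := (Perm.mem_cycleFactorsFinset_iff.1 hc).1
    refine ⟨hcyc, ?_⟩
    have h1 : c.support.card ∈ x.cycleType := by
      rw [Perm.cycleType_def]
      exact Multiset.mem_map_of_mem (Finset.card ∘ Perm.support) hc
    have h2 := (Perm.dvd_of_mem_cycleType h1).trans (orderOf_dvd_of_pow_eq_one hw1)
    rcases (Nat.dvd_prime hp.out).1 h2 with h | h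
    · have := Perm.two_le_of_mem_cycleType h1
      omega
    · exact h
  have hCc : ∀ u ∈ C, ∀ v ∈ C, u * v = v * u := by
    have h1 : C ≤ Subgroup.centralizer (x.cycleFactorsFinset : Set (Perm α)) :=
      (Subgroup.closure_le _).2 fun a ha => Subgroup.mem_centralizer_iff.2 fun b hb => by
        rcases eq_or_ne b a with rfl | hne'
        · rfl
        · exact (Perm.cycleFactorsFinset_mem_commute x hb ha hne').eq
    intro u hu v hv
    have h2 : C ≤ Subgroup.centralizer {u} := (Subgroup.closure_le _).2 fun b hb =>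
      Subgroup.mem_centralizer_singleton_iff.2 (Subgroup.mem_centralizer_iff.1 (h1 hu) b hb)
    exact (Subgroup.mem_centralizer_singleton_iff.1 (h2 hv)).symm
  have hCp : IsPGroup p C := by
    rintro ⟨u, hu⟩
    refine ⟨1, Subtype.ext ?_⟩
    show u ^ p ^ 1 = 1
    rw [pow_one]
    induction hu using Subgroup.closure_induction with
    | mem a ha =>
      obtain ⟨h1, h2⟩ := hfac a ha
      rw [← h2, ← h1.orderOf, pow_orderOf_eq_one]
    | one => simp
    | mul a b ha hb iha ihb => rw [(show Commute a b from hCc a ha b hb).mul_pow, iha, ihb, one_mul]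
    | inv a _ iha => rw [inv_pow, iha, inv_one]
  obtain ⟨Q, hQ⟩ := ((hCp.comap_of_injective (alternatingGroup α).subtype Subtype.val_injective)).exists_le_sylow
  obtain ⟨h, hh⟩ := MulAction.exists_smul_eq (alternatingGroup α) Q S
  have hCS : ∀ c ∈ C, h.1 * c * h.1⁻¹ ∈ S' := by
    intro c hc
    refine ⟨h * ⟨c, pgroup_le_alt hodd hCp hc⟩ * h⁻¹, ?_, rfl⟩
    rw [← hh]
    exact ⟨⟨c, pgroup_le_alt hodd hCp hc⟩, hQ hc, rfl⟩
  -- the conjugate of `x` is a translation
  have hxC : x ∈ C := by
    have e := Perm.cycleFactorsFinset_noncommProd x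
    rw [← e]
    exact Subgroup.noncommProd_mem _ _ fun c hc => Subgroup.subset_closure hc
  have hCR : C ≤ ((Perm.viaEmbeddingHom ι).comp (Tr m p)).range.comap (MulAut.conj h.1).toMonoidHom := by
    refine (Subgroup.closure_le _).2 fun c hc => ?_
    obtain ⟨h1, h2⟩ := hfac c hc
    obtain ⟨j, k, hk⟩ := exists_block ι hS'p hcov (fun i => hE _) (h1.conj (g := h.1))
      (by rw [Perm.card_support_conj, h2]) (hCS c (Subgroup.subset_closure hc))
    refine ⟨Multiplicative.ofAdd (Pi.single j 1) ^ k, ?_⟩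
    show Perm.viaEmbeddingHom ι (Tr m p _) = h.1 * c * h.1⁻¹
    rw [hk, map_pow, map_pow]
    rfl
  obtain ⟨e, he⟩ := hCR hxC
  have hgood : Good S T (Perm.viaEmbeddingHom ι (Tr m p e)) := by
    have he' : Perm.viaEmbeddingHom ι (Tr m p e) = h.1 * x * h.1⁻¹ := he
    rw [he']
    exact good_conj (good_of_mem hT w.2) h
  obtain ⟨i, hi⟩ : ∃ i, e.toAdd i ≠ 0 := by
    by_contra! hall
    apply hxne
    have : e = 1 := Multiplicative.toAdd.injective (funext hall)
    have he' : Perm.viaEmbeddingHom ι (Tr m p e) = h.1 * x * h.1⁻¹ := he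
    rw [this, map_one, map_one] at he'
    exact conj_eq_one_iff.1 he'.symm
  -- multiply a single coordinate by `-1`
  let neg : Fin m → Fin m → (ZMod p)ˣ := fun j => Pi.mulSingle j (-1)
  have hsneg : ∀ j, sign (Dd m p (neg j)) = sign (mulP p (-1)) := by
    intro j
    rw [sign_Dd, Finset.prod_pi_mulSingle']
    simp
  obtain ⟨π, r, hsgn, hr⟩ : ∃ (π : Perm (Fin m)) (r : Fin m → (ZMod p)ˣ),
      sign (Pp m p π * Dd m p r) = 1 ∧
      ∀ j, (r (π⁻¹ j) : ZMod p) * e.toAdd (π⁻¹ j) = if j = i then -e.toAdd j else e.toAdd j := by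
    rcases Int.units_eq_one_or (sign (mulP p (-1))) with hs | hs
    · refine ⟨1, neg i, by rw [map_one, one_mul, hsneg, hs], fun j => ?_⟩
      by_cases hji : j = i
      · subst hji; simp [neg]
      · simp [neg, hji]
    · by_cases h0 : ∃ j, e.toAdd j = 0
      · obtain ⟨j₀, hj₀⟩ := h0
        refine ⟨1, neg i * neg j₀, by rw [map_one, one_mul, map_mul, map_mul, hsneg, hsneg, hs]; rfl,
          fun j => ?_⟩
        have hij : i ≠ j₀ := fun hc => hi (hc ▸ hj₀)
        by_cases hji : j = i
        · subst hji; simp [neg, hij]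
        · by_cases hjj : j = j₀
          · subst hjj; simp [hj₀, hji]
          · simp [neg, hji, hjj]
      · push Not at h0
        obtain ⟨j, k, hjk, hji, hki⟩ : ∃ j k : Fin m, j ≠ k ∧ j ≠ i ∧ k ≠ i := by
          have : 1 < (Finset.univ.erase i).card := by
            rw [Finset.card_erase_of_mem (Finset.mem_univ i), Finset.card_univ, Fintype.card_fin]
            omega
          obtain ⟨j, hj, k, hk, hjk⟩ := Finset.one_lt_card.1 this
          exact ⟨j, k, hjk, Finset.ne_of_mem_erase hj, Finset.ne_of_mem_erase hk⟩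
        let q : (ZMod p)ˣ := Units.mk0 _ (h0 k) / Units.mk0 _ (h0 j)
        refine ⟨Equiv.swap j k, neg i * (Pi.mulSingle j q * Pi.mulSingle k q⁻¹), ?_, fun l => ?_⟩
        · rw [map_mul, sign_Pp, Perm.sign_swap hjk, map_mul, map_mul, hsneg, hs, map_mul, map_mul,
            sign_Dd, sign_Dd, Finset.prod_pi_mulSingle', Finset.prod_pi_mulSingle']
          simp only [Finset.mem_univ, if_true]
          rw [map_inv, map_inv, mul_inv_cancel, mul_one, (hp.out.odd_of_ne_two hodd).neg_one_pow]
          rfl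
        · rw [Equiv.swap_inv]
          by_cases hlj : l = j
          · subst hlj
            simp [neg, hji, hki, hjk, hjk.symm, q, h0]
          · by_cases hlk : l = k
            · subst hlk
              simp [neg, hji, hki, hjk, hjk.symm, q, h0]
            · rw [Equiv.swap_apply_of_ne_of_ne hlj hlk]
              by_cases hli : l = i
              · subst hli; simp [neg, hlj, hlk]
              · simp [neg, hli, hlj, hlk]
  have hM : Perm.viaEmbeddingHom ι (Pp m p π * Dd m p r) ∈ alternatingGroup α :=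
    mem_alternatingGroup.2 (by rw [sign_via, hsgn])
  have hg2 : Good S T (Perm.viaEmbeddingHom ι
      (Tr m p (Multiplicative.ofAdd fun j => if j = i then -e.toAdd j else e.toAdd j))) := by
    have h' := good_conj hgood ⟨_, hM⟩
    rw [← funext hr, ← conj_mono]
    simpa [map_mul, map_inv, mul_assoc] using h'
  set c : ZMod p := -(2 * e.toAdd i) with hc
  have hc0 : c ≠ 0 := by
    refine neg_ne_zero.2 (mul_ne_zero ?_ hi)
    intro h2
    have : ((2 : ℕ) : ZMod p) = 0 := by exact_mod_cast h2
    rw [ZMod.natCast_eq_zero_iff] at this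
    exact hodd ((Nat.prime_dvd_prime_iff_eq hp.out Nat.prime_two).1 this)
  have hEp : IsPGroup p (((Perm.viaEmbeddingHom ι).comp (Tr m p)).range) := by
    rw [MonoidHom.range_comp]; exact isPGroup_Tr.map _
  have hinv : Good S T (Perm.viaEmbeddingHom ι (Tr m p e))⁻¹ := by
    intro y hy g hg
    have hy' : ((y⁻¹ : alternatingGroup α) : Perm α) = Perm.viaEmbeddingHom ι (Tr m p e) := by
      rw [InvMemClass.coe_inv, hy, inv_inv]
    have h1 := hgood y⁻¹ hy' g (by rw [← conj_inv]; exact inv_mem hg)
    have := inv_mem h1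
    rwa [← conj_inv, inv_inv] at this
  have hdiff : Good S T (Perm.viaEmbeddingHom ι (Tr m p (Multiplicative.ofAdd (Pi.single i c)))) := by
    have h3 := good_mul hT hodd hEp (a := (Perm.viaEmbeddingHom ι (Tr m p e))⁻¹)
      (b := Perm.viaEmbeddingHom ι
        (Tr m p (Multiplicative.ofAdd fun j => if j = i then -e.toAdd j else e.toAdd j)))
      (inv_mem ⟨e, rfl⟩) ⟨_, rfl⟩ hinv hg2
    rw [← map_inv, ← map_inv, ← map_mul, ← map_mul] at h3
    convert h3 using 4
    refine Multiplicative.toAdd.injective (funext fun j => ?_)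
    by_cases hji : j = i
    · subst hji; simp [hc]; ring
    · simp [hji]
  refine ⟨i, ?_⟩
  have hpow : ∀ k : ℕ, Good S T ((Perm.viaEmbeddingHom ι (Tr m p (Multiplicative.ofAdd (Pi.single i c)))) ^ k) := by
    intro k
    induction k with
    | zero => rw [pow_zero]; exact good_one hT
    | succ k ih =>
      rw [pow_succ]
      exact good_mul hT hodd hEp (Subgroup.pow_mem ((Perm.viaEmbeddingHom ι).comp (Tr m p)).range ⟨_, rfl⟩ k)
        ⟨_, rfl⟩ ih hdiff
  have := hpow (c⁻¹).val
  rw [← map_pow, ← map_pow, ← ofAdd_nsmul, ← Pi.single_smul', nsmul_eq_mul,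
    ZMod.natCast_zmod_val, inv_mul_cancel₀ hc0] at this
  exact this

/-- All `p`-cycles are good. -/
theorem good_cycle (hne : T ≠ ⊥) {x : Perm α} (hx : x.IsCycle) (hxp : x.support.card = p) :
    Good S T x := by
  classical
  obtain ⟨i, hi⟩ := exists_cyc_good hT ι hodd hm hcov hE hne
  intro y hy g hg
  set S' := (S : Subgroup (alternatingGroup α)).map (alternatingGroup α).subtype
  have hgy : ((g * y * g⁻¹ : alternatingGroup α) : Perm α) = g.1 * x * g.1⁻¹ := by
    push_cast; rw [hy]
  obtain ⟨j, k, hk⟩ := exists_block ι (S.2.map _) hcov (fun l => hE _) (hx.conj (g := g.1))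
    (by rw [Perm.card_support_conj, hxp]) (hgy ▸ mem_image.2 hg)
  have hj : Good S T (Perm.viaEmbeddingHom ι (cyc j)) := by
    by_cases hij : i = j
    · exact hij ▸ hi
    obtain ⟨l, hli, hlj⟩ : ∃ l : Fin m, l ≠ i ∧ l ≠ j := by
      have : 0 < ((Finset.univ.erase i).erase j).card := by
        rw [Finset.card_erase_of_mem (Finset.mem_erase.2 ⟨Ne.symm hij, Finset.mem_univ j⟩),
          Finset.card_erase_of_mem (Finset.mem_univ i), Finset.card_univ, Fintype.card_fin]
        omega
      obtain ⟨l, hl⟩ := Finset.card_pos.1 this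
      exact ⟨l, Finset.ne_of_mem_erase (Finset.mem_of_mem_erase hl), Finset.ne_of_mem_erase hl⟩
    set π : Perm (Fin m) := Equiv.swap j l * Equiv.swap i l
    have hπ : π i = j := by
      rw [Perm.mul_apply, Equiv.swap_apply_left, Equiv.swap_apply_right]
    have hM : Perm.viaEmbeddingHom ι (Pp m p π * Dd m p 1) ∈ alternatingGroup α := by
      rw [mem_alternatingGroup, sign_via, map_one, mul_one, sign_Pp, map_mul,
        Perm.sign_swap hlj.symm, Perm.sign_swap (Ne.symm hli)]
      simp
    have e : (fun j' => (((1 : Fin m → (ZMod p)ˣ) (π⁻¹ j') : (ZMod p)ˣ) : ZMod p) *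
        (Pi.single i 1 : Fin m → ZMod p) (π⁻¹ j')) = Pi.single j 1 := by
      funext j'
      simp only [Pi.one_apply, Units.val_one, one_mul]
      by_cases h : j' = j
      · subst h; rw [show π⁻¹ j' = i from π.injective (by simp [hπ])]; simp
      · rw [Pi.single_eq_of_ne h, Pi.single_eq_of_ne]
        intro h'
        exact h (by rw [← hπ, ← h']; simp)
    have h' := good_conj hi ⟨_, hM⟩
    show Good S T (Perm.viaEmbeddingHom ι (Tr m p (Multiplicative.ofAdd (Pi.single j 1))))
    rw [← e, ← conj_mono]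
    simpa [cyc, map_mul, map_inv, mul_assoc] using h'
  have hEp : IsPGroup p (((Perm.viaEmbeddingHom ι).comp (Tr m p)).range) := by
    rw [MonoidHom.range_comp]; exact isPGroup_Tr.map _
  have hjk : Good S T ((Perm.viaEmbeddingHom ι (cyc j)) ^ k) := by
    clear hk
    induction k with
    | zero => rw [pow_zero]; exact good_one hT
    | succ k ih =>
      rw [pow_succ]
      exact good_mul hT hodd hEp (Subgroup.pow_mem ((Perm.viaEmbeddingHom ι).comp (Tr m p)).range ⟨_, rfl⟩ k)
        ⟨_, rfl⟩ ih hj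
  rw [← hk] at hjk
  have := hjk (g * y * g⁻¹) hgy 1 (by rwa [one_mul, inv_one, mul_one])
  rwa [one_mul, inv_one, mul_one] at this

/-- All `p`-elements are good. -/
theorem good_pElement (hne : T ≠ ⊥) :
    ∀ (N : ℕ) (x : Perm α), x.support.card ≤ N → (∃ e, x ^ p ^ e = 1) → Good S T x := by
  classical
  intro N
  induction N with
  | zero =>
    intro x hx _
    rw [Perm.support_eq_empty_iff.1 (Finset.card_eq_zero.1 (Nat.le_zero.1 hx))]
    exact good_one hT
  | succ N ih =>
    rintro x hx ⟨e, he⟩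
    by_cases hx1 : x = 1
    · rw [hx1]; exact good_one hT
    let Ω := {a // x a ≠ a}
    have hinvar : ∀ a, (x a ≠ x (x a) ↔ a ≠ x a) := fun a => x.injective.ne_iff
    let x' : Perm Ω := x.subtypePerm fun a => by simp
    obtain ⟨m', ι', π, t, b, hsurj, hxe, f, hf⟩ := exists_model (p := p) (x := x') (e := e)
      (Equiv.ext fun a => Subtype.ext (by
        rw [Perm.subtypePerm_pow]
        show (x ^ p ^ e) a.1 = a.1
        rw [he]; rfl))
      (fun a h => a.2 (congrArg Subtype.val h))
    let κ : Fin m' × ZMod p ↪ α := ι'.trans (Function.Embedding.subtype _)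
    have hκ : ∀ w, w ∉ Set.range κ → x w = w := by
      intro w hw
      by_contra hne'
      obtain ⟨z, hz⟩ := hsurj ⟨w, hne'⟩
      exact hw ⟨z, congrArg Subtype.val hz⟩
    have hxk : x = Perm.viaEmbeddingHom κ (Pp m' p π * Dd m' p t * Tr m' p (Multiplicative.ofAdd b)) := by
      refine Equiv.ext fun w => ?_
      by_cases hw : w ∈ Set.range κ
      · obtain ⟨z, rfl⟩ := hw
        rw [via_apply]
        show x (ι' z).1 = (ι' _).1
        rw [← via_apply ι', ← hxe]
        rfl
      · rw [via_apply_of_not κ _ hw, hκ w hw]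
    have hcardx : x.support.card = m' * p := by
      have : x.support = Finset.univ.map κ := by
        ext w
        rw [Perm.mem_support]
        constructor
        · intro h
          by_contra hw
          exact h (hκ w fun ⟨z, hz⟩ => hw (hz ▸ Finset.mem_map_of_mem κ (Finset.mem_univ z)))
        · intro h
          obtain ⟨z, -, rfl⟩ := Finset.mem_map.1 h
          exact (ι' z).2
      rw [this, Finset.card_map, Finset.card_univ, Fintype.card_prod, Fintype.card_fin, ZMod.card]
    have hm'0 : 0 < m' := by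
      by_contra h0
      have : m' = 0 := by omega
      rw [this, zero_mul, Finset.card_eq_zero, Perm.support_eq_empty_iff] at hcardx
      exact hx1 hcardx
    obtain ⟨M₀, hM₀⟩ : ∃ M₀, M₀ = Pp m' p π * Dd m' p t := ⟨_, rfl⟩
    rw [← hM₀] at hf
    have hM₀z : ∀ z, (M₀ z).2 = 0 ↔ z.2 = 0 := by
      intro z
      simp [hM₀, Perm.mul_apply, Pp_apply, Dd_apply]
    let u : Perm (Fin m' × ZMod p) :=
      { toFun := fun z => if z.2 = 0 then M₀ z else z
        invFun := fun z => if z.2 = 0 then M₀⁻¹ z else z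
        left_inv := fun z => by
          by_cases h : z.2 = 0
          · simp [h, (hM₀z z).2 h]
          · simp [h]
        right_inv := fun z => by
          by_cases h : z.2 = 0
          · have h' : (M₀⁻¹ z).2 = 0 := by rw [← hM₀z]; simp [h]
            simp only [h, h', if_true, Perm.coe_inv, Equiv.apply_symm_apply] at *
          · simp [h] }
    have hu : ∀ z, u z = if z.2 = 0 then M₀ z else z := fun z => rfl
    have hcomm : u * M₀ = M₀ * u := by
      refine Equiv.ext fun z => ?_
      rw [Perm.mul_apply, Perm.mul_apply, hu, hu]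
      by_cases h : z.2 = 0
      · rw [if_pos h, if_pos ((hM₀z z).2 h)]
      · rw [if_neg h, if_neg (fun h' => h ((hM₀z z).1 h'))]
    have hupow : ∀ k z, (u ^ k) z = if z.2 = 0 then (M₀ ^ k) z else z := by
      intro k
      induction k with
      | zero => intro z; simp
      | succ k ihk =>
        intro z
        rw [pow_succ, Perm.mul_apply, ihk, hu]
        by_cases h : z.2 = 0
        · rw [if_pos h, if_pos ((hM₀z z).2 h), if_pos h, pow_succ, Perm.mul_apply]
        · simp [h]
    have hu1 : u ^ p ^ f = 1 := Equiv.ext fun z => by rw [hupow, hf]; simp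
    set v := u⁻¹ * M₀ with hv
    have hcv : Commute u⁻¹ M₀ := (show Commute u M₀ from hcomm).inv_left
    have hv1 : v ^ p ^ f = 1 := by rw [hv, hcv.mul_pow, inv_pow, hu1, hf, inv_one, one_mul]
    have hpe : ∀ g : Perm (Fin m' × ZMod p), g ^ p ^ f = 1 →
        IsPGroup p (Subgroup.zpowers (Perm.viaEmbeddingHom κ g)) := by
      intro g hg
      rintro ⟨w, hw⟩
      obtain ⟨i, rfl⟩ := Subgroup.mem_zpowers_iff.1 hw
      refine ⟨f, Subtype.ext ?_⟩
      show ((Perm.viaEmbeddingHom κ g) ^ i) ^ p ^ f = 1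
      rw [← zpow_natCast, ← _root_.zpow_mul, mul_comm, _root_.zpow_mul, zpow_natCast, ← map_pow, hg,
        map_one, one_zpow]
    have hsu : (Perm.viaEmbeddingHom κ u).support.card ≤ N := by
      refine (Finset.card_le_card (t := Finset.univ.map
        ⟨fun i => κ (i, 0), fun a b h => (Prod.ext_iff.1 (κ.injective h)).1⟩) fun w hw => ?_).trans ?_
      · rw [Perm.mem_support] at hw
        by_cases hwr : w ∈ Set.range κ
        · obtain ⟨⟨i, c⟩, rfl⟩ := hwr
          rw [via_apply, Ne, κ.injective.eq_iff, hu] at hw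
          by_cases h : c = 0
          · subst h; exact Finset.mem_map.2 ⟨i, Finset.mem_univ i, rfl⟩
          · simp [h] at hw
        · exact absurd (via_apply_of_not κ u hwr) hw
      · rw [Finset.card_map, Finset.card_univ, Fintype.card_fin]
        have := hp.out.two_le
        nlinarith
    have hsv : (Perm.viaEmbeddingHom κ v).support.card ≤ N := by
      refine (Finset.card_le_card (t := ((Finset.univ : Finset (Fin m' × ZMod p)).filter
        fun z => z.2 ≠ 0).map κ) fun w hw => ?_).trans ?_
      · rw [Perm.mem_support] at hw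
        by_cases hwr : w ∈ Set.range κ
        · obtain ⟨z, rfl⟩ := hwr
          rw [via_apply, Ne, κ.injective.eq_iff] at hw
          refine Finset.mem_map_of_mem κ (Finset.mem_filter.2 ⟨Finset.mem_univ z, fun h => hw ?_⟩)
          rw [hv, Perm.mul_apply, Perm.inv_def, Equiv.symm_apply_eq, hu, if_pos h]
        · exact absurd (via_apply_of_not κ v hwr) hw
      · rw [Finset.card_map]
        have hlt : ((Finset.univ : Finset (Fin m' × ZMod p)).filter fun z => z.2 ≠ 0).card <
            Fintype.card (Fin m' × ZMod p) :=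
          Finset.card_lt_card (Finset.filter_ssubset.2 ⟨(⟨0, hm'0⟩, 0), Finset.mem_univ _, by simp⟩)
        rw [Fintype.card_prod, Fintype.card_fin, ZMod.card] at hlt
        omega
    have gu := ih _ hsu ⟨f, by rw [← map_pow, hu1, map_one]⟩
    have gv := ih _ hsv ⟨f, by rw [← map_pow, hv1, map_one]⟩
    have huv : Subgroup.zpowers (Perm.viaEmbeddingHom κ v) ≤
        Subgroup.normalizer (Subgroup.zpowers (Perm.viaEmbeddingHom κ u) : Set (Perm α)) := by
      rw [Subgroup.zpowers_le]
      refine Subgroup.centralizer_le_normalizer _ (Subgroup.mem_centralizer_iff.2 ?_)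
      rintro w ⟨i, rfl⟩
      have : Commute u v := (Commute.refl u).inv_right.mul_right hcomm
      exact ((this.map (Perm.viaEmbeddingHom κ)).zpow_left i).eq
    have g0 : Good S T (Perm.viaEmbeddingHom κ M₀) := by
      have := good_mul hT hodd ((hpe v hv1).to_sup_of_normal_right' (hpe u hu1) huv)
        (Subgroup.mem_sup_right (Subgroup.mem_zpowers _)) (Subgroup.mem_sup_left (Subgroup.mem_zpowers _))
        gu gv
      rwa [← map_mul, hv, mul_inv_cancel_left] at this
    -- the translation part
    have hR : IsPGroup p ((Perm.viaEmbeddingHom κ).comp (Tr m' p)).range := by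
      rw [MonoidHom.range_comp]; exact isPGroup_Tr.map _
    have hTr : ∀ s : Finset (Fin m'), Good S T (Perm.viaEmbeddingHom κ
        (Tr m' p (Multiplicative.ofAdd (∑ j ∈ s, Pi.single j (b j))))) := by
      intro s
      induction s using Finset.induction_on with
      | empty => rw [Finset.sum_empty, ofAdd_zero, map_one, map_one]; exact good_one hT
      | insert j s hj ihs =>
        rw [Finset.sum_insert hj, ofAdd_add, map_mul, map_mul]
        refine good_mul hT hodd hR ⟨_, rfl⟩ ⟨_, rfl⟩ ?_ ihs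
        have hcj : ∀ k : ℕ, Good S T ((Perm.viaEmbeddingHom κ (cyc j)) ^ k) := by
          intro k
          induction k with
          | zero => rw [pow_zero]; exact good_one hT
          | succ k ihk =>
            rw [pow_succ]
            obtain ⟨h1, h2, -⟩ := cycle_facts κ j
            exact good_mul hT hodd hR
              (Subgroup.pow_mem ((Perm.viaEmbeddingHom κ).comp (Tr m' p)).range ⟨_, rfl⟩ k) ⟨_, rfl⟩ ihk
              (good_cycle hT ι hodd hm hcov hE hne h1 h2)
        have := hcj (b j).val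
        rw [cyc, ← map_pow, ← map_pow, ← ofAdd_nsmul, ← Pi.single_smul', nsmul_eq_mul,
          ZMod.natCast_zmod_val, mul_one] at this
        exact this
    have gb := hTr Finset.univ
    rw [Finset.univ_sum_single] at gb
    have hnorm : Subgroup.zpowers (Perm.viaEmbeddingHom κ M₀) ≤
        Subgroup.normalizer (((Perm.viaEmbeddingHom κ).comp (Tr m' p)).range : Set (Perm α)) := by
      rw [Subgroup.zpowers_le]
      have hle : ∀ z ∈ ((Perm.viaEmbeddingHom κ).comp (Tr m' p)).range,
          Perm.viaEmbeddingHom κ M₀ * z * (Perm.viaEmbeddingHom κ M₀)⁻¹ ∈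
            ((Perm.viaEmbeddingHom κ).comp (Tr m' p)).range := by
        rintro _ ⟨c, rfl⟩
        refine ⟨Multiplicative.ofAdd fun j => (t (π⁻¹ j) : ZMod p) * c.toAdd (π⁻¹ j), ?_⟩
        show Perm.viaEmbeddingHom κ (Tr m' p _) = _
        rw [hM₀, MonoidHom.comp_apply, ← map_inv, ← map_mul, ← map_mul]
        congr 1
        exact (conj_mono π t c.toAdd).symm
      exact mem_normalizer_of_cj_le (S := ⊤) le_top hle
    have := good_mul hT hodd ((hpe M₀ hf).to_sup_of_normal_right' hR hnorm)
      (Subgroup.mem_sup_left (Subgroup.mem_zpowers _))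
      (Subgroup.mem_sup_right (show Perm.viaEmbeddingHom κ (Tr m' p (Multiplicative.ofAdd b)) ∈
        ((Perm.viaEmbeddingHom κ).comp (Tr m' p)).range from ⟨_, rfl⟩)) g0 gb
    rwa [← map_mul, hM₀, ← hxk] at this

theorem closed_top (hne : T ≠ ⊥) : T = (S : Subgroup (alternatingGroup α)) := by
  refine le_antisymm hT.1 fun s hs => ?_
  obtain ⟨e, he⟩ := S.2 ⟨s, hs⟩
  have := good_pElement hT ι hodd hm hcov hE hne _ (s : Perm α) le_rfl
    ⟨e, congrArg (fun z => ((z : alternatingGroup α) : Perm α)) (congrArg Subtype.val he)⟩ s rfl 1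
    (by rwa [one_mul, inv_one, mul_one])
  rwa [one_mul, inv_one, mul_one] at this

end Cfsg.Agent.AltFusionClosed
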