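import Mathlib

/-!
Monomial permutations of `Fin m × ZMod p` and `p`-groups containing `m` disjoint `p`-cycles.
-/

set_option autoImplicit false

namespace Cfsg.Agent.AltFusionModel

open Equiv Equiv.Perm

variable {p m : ℕ} [hp : Fact p.Prime]

local notation "Mdl" => Fin m × ZMod p

/-- Block permutations. -/
def Pp (m p : ℕ) : Perm (Fin m) →* Perm (Fin m × ZMod p) where
  toFun π := prodCongr π (Equiv.refl _)
  map_one' := Equiv.ext fun _ => rfl
  map_mul' _ _ := Equiv.ext fun _ => rfl

/-- Multiplication as a permutation. -/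
def mulP (p : ℕ) : (ZMod p)ˣ →* Perm (ZMod p) := MulAction.toPermHom (ZMod p)ˣ (ZMod p)

theorem mulP_apply (a : (ZMod p)ˣ) (x : ZMod p) : mulP p a x = a * x := rfl

/-- Diagonal permutations. -/
def Dd (m p : ℕ) : (Fin m → (ZMod p)ˣ) →* Perm (Fin m × ZMod p) where
  toFun t := prodCongrRight fun i => mulP p (t i)
  map_one' := Equiv.ext fun z => by simp [prodCongrRight, mulP_apply]
  map_mul' s t := Equiv.ext fun z => by simp [prodCongrRight, mulP_apply, mul_assoc]

/-- Translations. -/
def Tr (m p : ℕ) : Multiplicative (Fin m → ZMod p) →* Perm (Fin m × ZMod p) where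
  toFun b := prodCongrRight fun i => Equiv.addLeft (b.toAdd i)
  map_one' := Equiv.ext fun z => by simp [prodCongrRight]
  map_mul' s t := Equiv.ext fun z => by simp [prodCongrRight, add_assoc]

theorem Pp_apply (π : Perm (Fin m)) (z : Mdl) : Pp m p π z = (π z.1, z.2) := rfl

theorem Dd_apply (t : Fin m → (ZMod p)ˣ) (z : Mdl) : Dd m p t z = (z.1, t z.1 * z.2) := rfl

theorem Tr_apply (b : Fin m → ZMod p) (z : Mdl) :
    Tr m p (Multiplicative.ofAdd b) z = (z.1, b z.1 + z.2) := rfl

/-- The cycle of block `i`. -/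
def cyc (i : Fin m) : Perm (Fin m × ZMod p) := Tr m p (Multiplicative.ofAdd (Pi.single i 1))

theorem cyc_apply (i : Fin m) (z : Mdl) :
    cyc i z = (z.1, (Pi.single i 1 : Fin m → ZMod p) z.1 + z.2) := rfl

theorem cyc_pow_apply (i : Fin m) (k : ℕ) (z : Mdl) :
    ((cyc i) ^ k) z = (z.1, (Pi.single i (k : ZMod p) : Fin m → ZMod p) z.1 + z.2) := by
  induction k with
  | zero => simp
  | succ k ih =>
    rw [pow_succ', Perm.mul_apply, ih, cyc_apply]
    refine Prod.ext rfl ?_
    show (Pi.single i (1 : ZMod p) : Fin m → ZMod p) z.1 + _ = _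
    by_cases h : z.1 = i
    · rw [h, Pi.single_eq_same, Pi.single_eq_same, Pi.single_eq_same]; push_cast; ring
    · rw [Pi.single_eq_of_ne h, Pi.single_eq_of_ne h, Pi.single_eq_of_ne h]; simp

theorem cyc_ne {i : Fin m} {z : Mdl} : cyc i z ≠ z ↔ z.1 = i := by
  rw [cyc_apply]
  constructor
  · intro h
    by_contra hne
    exact h (Prod.ext rfl (by simp [Pi.single_eq_of_ne hne]))
  · intro h he
    have := congrArg Prod.snd he
    simp [h] at this

theorem tr_pow_p (b : Multiplicative (Fin m → ZMod p)) : (Tr m p b) ^ p = 1 := by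
  rw [← map_pow, show b ^ p = 1 from ?_, map_one]
  refine Multiplicative.toAdd.injective ?_
  rw [toAdd_pow, toAdd_one]
  funext i
  simp

theorem isPGroup_Tr : IsPGroup p (Tr m p).range := by
  rintro ⟨_, b, rfl⟩
  exact ⟨1, Subtype.ext (by rw [pow_one]; exact tr_pow_p b)⟩

theorem isCycle_cyc (i : Fin m) : (cyc i : Perm (Fin m × ZMod p)).IsCycle := by
  have := hp.out.one_lt
  refine ⟨(i, 0), cyc_ne.2 rfl, fun y hy => ⟨((y.2.val : ℕ) : ℤ), ?_⟩⟩
  rw [zpow_natCast, cyc_pow_apply]
  refine Prod.ext (cyc_ne.1 hy).symm ?_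
  simp

theorem sign_Pp (π : Perm (Fin m)) : sign (Pp m p π) = sign π ^ p := by
  have h : Pp m p π = prodCongrLeft fun _ : ZMod p => π := Equiv.ext fun z => rfl
  rw [h, sign_prodCongrLeft]
  simp

theorem sign_Dd (t : Fin m → (ZMod p)ˣ) : sign (Dd m p t) = sign (mulP p (∏ i, t i)) := by
  show sign (prodCongrRight fun i => mulP p (t i)) = _
  rw [sign_prodCongrRight]
  exact (map_prod (sign.comp (mulP p)) t Finset.univ).symm

theorem sign_eq_one_of_pow {α : Type*} [Fintype α] [DecidableEq α] {x : Perm α} {k : ℕ}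
    (hk : Odd k) (h : x ^ k = 1) : sign x = 1 := by
  rcases Int.units_eq_one_or (sign x) with h1 | h1
  · exact h1
  · have := congrArg sign h
    rw [map_pow, map_one, h1, hk.neg_one_pow] at this
    exact absurd this (by decide)

theorem sign_Tr (hodd : p ≠ 2) (b : Multiplicative (Fin m → ZMod p)) : sign (Tr m p b) = 1 :=
  sign_eq_one_of_pow (hp.out.odd_of_ne_two hodd) (tr_pow_p b)

theorem Pp_Dd (π : Perm (Fin m)) (t : Fin m → (ZMod p)ˣ) :
    Pp m p π * Dd m p t = Dd m p (fun i => t (π⁻¹ i)) * Pp m p π := by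
  refine Equiv.ext fun z => ?_
  simp [Perm.mul_apply, Pp_apply, Dd_apply]

/-- A `p`-group containing two overlapping `p`-cycles contains only powers of one of them. -/
theorem eq_pow_of_overlap {α : Type*} [Fintype α] [DecidableEq α] {Q : Subgroup (Perm α)}
    (hQ : IsPGroup p Q) {x y : Perm α} (hx : x.IsCycle) (hy : y.IsCycle)
    (hxp : x.support.card = p) (hyp : y.support.card = p) (hxQ : x ∈ Q) (hyQ : y ∈ Q) {a : α}
    (hax : x a ≠ a) (hay : y a ≠ a) : ∃ k : ℕ, x = y ^ k := by
  classical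
  set K := Subgroup.closure ({x, y} : Set (Perm α)) with hK
  have hKQ : K ≤ Q := (Subgroup.closure_le _).2 (by
    rintro g (rfl | rfl)
    · exact hxQ
    · exact hyQ)
  have hKp : IsPGroup p K := hQ.to_le hKQ
  -- the orbit of `a`
  have horb : ∀ g ∈ K, ∀ w, w ∈ x.support ∪ y.support → g w ∈ x.support ∪ y.support := by
    intro g hg
    induction hg using Subgroup.closure_induction with
    | mem g hg =>
      intro w hw
      by_cases hgw : g w = w
      · rwa [hgw]
      · have : g w ∈ g.support := Perm.mem_support.2 fun e => hgw (g.injective e)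
        rcases hg with rfl | rfl
        · exact Finset.mem_union_left _ this
        · exact Finset.mem_union_right _ this
    | one => exact fun w hw => hw
    | mul g h _ _ hg hh => exact fun w hw => hg _ (hh w hw)
    | inv g _ hg =>
      intro w hw
      have hinj : Function.Injective (fun u : ↥(x.support ∪ y.support) =>
          (⟨g u.1, hg u.1 u.2⟩ : ↥(x.support ∪ y.support))) := fun u v e =>
        Subtype.ext (g.injective (congrArg Subtype.val e))
      obtain ⟨⟨u, hu⟩, he⟩ := Finite.surjective_of_injective hinj ⟨w, hw⟩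
      have : g u = w := congrArg Subtype.val he
      rw [← this, Perm.inv_def, Equiv.symm_apply_apply]
      exact hu
  have hxs : ∀ g : Perm α, g.IsCycle → g ∈ K → g a ≠ a → ∀ w ∈ g.support,
      w ∈ MulAction.orbit K a := by
    intro g hg hgK hga w hw
    obtain ⟨i, rfl⟩ := hg.exists_zpow_eq hga (Perm.mem_support.1 hw)
    exact ⟨⟨g ^ i, K.zpow_mem hgK i⟩, rfl⟩
  have horbit : MulAction.orbit K a = ↑(x.support ∪ y.support) := by
    ext w
    constructor
    · rintro ⟨⟨g, hg⟩, rfl⟩
      exact horb g hg a (Finset.mem_union_left _ (Perm.mem_support.2 hax))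
    · intro hw
      rcases Finset.mem_union.1 (Finset.mem_coe.1 hw) with h | h
      · exact hxs x hx (Subgroup.subset_closure (by simp)) hax w h
      · exact hxs y hy (Subgroup.subset_closure (by simp)) hay w h
  obtain ⟨k, hk⟩ := hKp.card_orbit a
  rw [horbit, Nat.card_coe_set_eq, Set.ncard_coe_finset] at hk
  have hlt : (x.support ∪ y.support).card < p ^ 2 := by
    have h1 : (x.support ∩ y.support).card ≥ 1 :=
      Finset.card_pos.2 ⟨a, Finset.mem_inter.2 ⟨Perm.mem_support.2 hax, Perm.mem_support.2 hay⟩⟩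
    have h2 := Finset.card_union_add_card_inter x.support y.support
    have := hp.out.two_le
    nlinarith
  have hk1 : k ≤ 1 := by
    by_contra hlt'
    have := Nat.pow_le_pow_right hp.out.pos (show 2 ≤ k by omega)
    omega
  have hsupp : x.support = y.support := by
    have hle : (x.support ∪ y.support).card ≤ p := by
      rw [hk]; exact (Nat.pow_le_pow_right hp.out.pos hk1).trans (pow_one p).le
    have e1 := Finset.eq_of_subset_of_card_le (Finset.subset_union_left (s₂ := y.support)) (by omega : _ ≤ x.support.card)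
    have e2 := Finset.eq_of_subset_of_card_le (Finset.subset_union_right (s₁ := x.support)) (by omega : _ ≤ y.support.card)
    exact e1.trans e2.symm
  -- `K` embeds in the symmetric group on the support
  let s : Subgroup (Perm α) :=
    { carrier := {g | ∀ w, w ∉ y.support → g w = w}
      one_mem' := fun _ _ => rfl
      mul_mem' := fun {g h} hg hh w hw => by rw [Perm.mul_apply, hh w hw, hg w hw]
      inv_mem' := fun {g} hg w hw => by
        conv_lhs => rw [← hg w hw]
        simp }
  have hKs : K ≤ s := (Subgroup.closure_le _).2 (by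
    rintro g (rfl | rfl) w hw
    · rw [← hsupp] at hw; exact Perm.notMem_support.1 hw
    · exact Perm.notMem_support.1 hw)
  have hcard : Nat.card K ∣ Nat.factorial p := by
    let e : s ≃* Perm {w // w ∈ y.support} :=
      { toFun := fun g => g.1.subtypePerm fun w => by
          constructor
          · intro h
            by_contra hn
            have := g.2 _ hn
            rw [this] at h
            exact hn h
          · intro h
            by_contra hn
            exact hn (by
              have e := g.2 (g.1 w) hn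
              rw [g.1.injective e] at hn
              exact absurd h hn)
        invFun := fun π => ⟨Perm.ofSubtype π, fun w hw => Perm.ofSubtype_apply_of_not_mem π hw⟩
        left_inv := fun g => Subtype.ext (Perm.ofSubtype_subtypePerm _ fun w hw => by
          by_contra hn; exact hw (g.2 w hn))
        right_inv := fun π => Perm.subtypePerm_ofSubtype π
        map_mul' := fun g h => Equiv.ext fun w => rfl }
    have h1 := Subgroup.card_dvd_of_le hKs
    rw [Nat.card_congr e.toEquiv, Nat.card_perm] at h1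
    rwa [show Nat.card {w // w ∈ y.support} = p by rw [Nat.card_eq_fintype_card, Fintype.card_coe, hyp]] at h1
  obtain ⟨e, he⟩ := IsPGroup.iff_card.1 hKp
  have he1 : e ≤ 1 := by
    by_contra hlt'
    have h2 : p ^ 2 ∣ Nat.factorial p := (pow_dvd_pow p (show 2 ≤ e by omega)).trans (he ▸ hcard)
    have h3 : p.factorial = p * (p - 1).factorial := (Nat.mul_factorial_pred hp.out.pos.ne').symm
    rw [h3, pow_two] at h2
    have := (hp.out.dvd_factorial).1 ((mul_dvd_mul_iff_left hp.out.pos.ne').1 h2)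
    have := hp.out.pos
    omega
  have hyK : y ∈ K := Subgroup.subset_closure (by simp)
  have hz : Subgroup.zpowers y = K := by
    refine Subgroup.eq_of_le_of_card_ge (Subgroup.zpowers_le.2 hyK) ?_
    rw [Nat.card_zpowers, hy.orderOf, hyp, he]
    exact (Nat.pow_le_pow_right hp.out.pos he1).trans (pow_one p).le
  have hxz : x ∈ Subgroup.zpowers y := hz ▸ Subgroup.subset_closure (by simp)
  rw [← mem_powers_iff_mem_zpowers] at hxz
  obtain ⟨k, hk⟩ := hxz
  exact ⟨k, hk.symm⟩

variable {α : Type*} [Fintype α] [DecidableEq α] (ι : Fin m × ZMod p ↪ α)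

theorem via_apply (g : Perm Mdl) (z : Mdl) : Perm.viaEmbeddingHom ι g (ι z) = ι (g z) := by
  rw [Perm.viaEmbeddingHom_apply, Perm.viaEmbedding_apply]

theorem via_apply_of_not (g : Perm Mdl) {w : α} (hw : w ∉ Set.range ι) :
    Perm.viaEmbeddingHom ι g w = w := by
  rw [Perm.viaEmbeddingHom_apply, Perm.viaEmbedding_apply_of_notMem _ _ _ hw]

theorem sign_via (g : Perm Mdl) : sign (Perm.viaEmbeddingHom ι g) = sign g := by
  classical
  rw [Perm.viaEmbeddingHom_apply, Perm.viaEmbedding]
  convert Perm.sign_extendDomain g _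

/-- Two permutations agreeing outside one point are equal. -/
theorem eq_of_agree {g h : Perm α} (s : Set α) (hs : ∀ u v, u ∉ s → v ∉ s → u = v)
    (heq : ∀ w ∈ s, g w = h w) : g = h := by
  refine Equiv.ext fun w => ?_
  by_cases hw : w ∈ s
  · exact heq w hw
  · obtain ⟨v, hv⟩ := g.surjective (h w)
    by_cases hv' : v ∈ s
    · rw [heq v hv'] at hv
      exact absurd (h.injective hv ▸ hv') hw
    · rw [hs w v hw hv', hv, hs w v hw hv']

theorem cycle_facts (i : Fin m) :
    (Perm.viaEmbeddingHom ι (cyc i)).IsCycle ∧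
    (Perm.viaEmbeddingHom ι (cyc i)).support.card = p ∧
    ∀ w, Perm.viaEmbeddingHom ι (cyc i) w ≠ w ↔ ∃ x, w = ι (i, x) := by
  classical
  have hfix : ∀ w, Perm.viaEmbeddingHom ι (cyc i) w ≠ w ↔ ∃ x, w = ι (i, x) := by
    intro w
    by_cases hw : w ∈ Set.range ι
    · obtain ⟨⟨j, x⟩, rfl⟩ := hw
      rw [via_apply, Ne, ι.injective.eq_iff, ← Ne, cyc_ne]
      exact ⟨fun h => ⟨x, by rw [← h]⟩, fun ⟨y, hy⟩ => (Prod.ext_iff.1 (ι.injective hy)).1⟩
    · rw [via_apply_of_not ι _ hw]
      exact ⟨fun h => absurd rfl h, fun ⟨x, hx⟩ => absurd ⟨_, hx.symm⟩ hw⟩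
  refine ⟨?_, ?_, hfix⟩
  · rw [Perm.viaEmbeddingHom_apply, Perm.viaEmbedding]
    convert (isCycle_cyc i).extendDomain _
  · have : (Perm.viaEmbeddingHom ι (cyc i)).support =
        Finset.univ.map ⟨fun x : ZMod p => ι (i, x), fun x y h => (Prod.ext_iff.1 (ι.injective h)).2⟩ := by
      ext w
      rw [Perm.mem_support, hfix]
      simp only [Finset.mem_map, Finset.mem_univ, true_and]
      exact ⟨fun ⟨x, hx⟩ => ⟨x, hx.symm⟩, fun ⟨x, hx⟩ => ⟨x, hx.symm⟩⟩
    rw [this, Finset.card_map, Finset.card_univ, ZMod.card]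

/-- An element permuting the cyclic subgroups `⟨cyc i⟩` is monomial. -/
theorem exists_mono {Q : Subgroup (Perm α)} (hQ : IsPGroup p Q)
    (hcov : ∀ u v, u ∉ Set.range ι → v ∉ Set.range ι → u = v)
    (hE : ∀ i, Perm.viaEmbeddingHom ι (cyc i) ∈ Q) {g : Perm α}
    (hg : ∀ i, g * Perm.viaEmbeddingHom ι (cyc i) * g⁻¹ ∈ Q) :
    ∃ (π : Perm (Fin m)) (t : Fin m → (ZMod p)ˣ) (b : Fin m → ZMod p),
      g = Perm.viaEmbeddingHom ι (Pp m p π * Dd m p t * Tr m p (Multiplicative.ofAdd b)) := by
  classical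
  have := hp.out.one_lt
  have step : ∀ i, ∃ (j : Fin m) (k : ℕ), g * Perm.viaEmbeddingHom ι (cyc i) * g⁻¹ =
      (Perm.viaEmbeddingHom ι (cyc j)) ^ k := by
    intro i
    obtain ⟨hc, hcard, hfix⟩ := cycle_facts ι i
    set y := g * Perm.viaEmbeddingHom ι (cyc i) * g⁻¹ with hy
    have hyc : y.IsCycle := hc.conj
    have hyp : y.support.card = p := by rw [hy, Perm.card_support_conj, hcard]
    obtain ⟨a, ha⟩ : ∃ a, a ∈ y.support ∧ a ∈ Set.range ι := by
      obtain ⟨a, b, hab, hy'⟩ : ∃ a b, a ≠ b ∧ a ∈ y.support ∧ b ∈ y.support := by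
        obtain ⟨a, ha, b, hb, hne⟩ := Finset.one_lt_card.1 (show 1 < y.support.card by omega)
        exact ⟨a, b, hne, ha, hb⟩
      by_cases h : a ∈ Set.range ι
      · exact ⟨a, hy'.1, h⟩
      · exact ⟨b, hy'.2, by_contra fun hb => hab (hcov a b h hb)⟩
    obtain ⟨⟨j, x⟩, rfl⟩ := ha.2
    obtain ⟨hc', hcard', hfix'⟩ := cycle_facts ι j
    obtain ⟨k, hk⟩ := eq_pow_of_overlap hQ hyc hc' hyp hcard' (hg i) (hE j)
      (Perm.mem_support.1 ha.1) ((hfix' _).2 ⟨x, rfl⟩)
    exact ⟨j, k, hk⟩
  choose f k hfk using step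
  -- images of points
  have himg : ∀ i (x : ZMod p), ∃ c, g (ι (i, x)) = ι (f i, c) := by
    intro i x
    obtain ⟨-, -, hfix⟩ := cycle_facts ι i
    obtain ⟨-, -, hfix'⟩ := cycle_facts ι (f i)
    have h1 : (g * Perm.viaEmbeddingHom ι (cyc i) * g⁻¹) (g (ι (i, x))) ≠ g (ι (i, x)) := by
      simp only [Perm.mul_apply, Perm.inv_def, Equiv.symm_apply_apply]
      exact fun e => (hfix _).2 ⟨x, rfl⟩ (g.injective e)
    rw [hfk i] at h1
    refine (hfix' _).1 fun e => h1 ?_
    generalize k i = N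
    induction N with
    | zero => simp
    | succ N ih => rw [pow_succ', Perm.mul_apply, ih, e]
  choose c hc using himg
  have hlin : ∀ i x, c i (x + 1) = c i x + (k i : ZMod p) := by
    intro i x
    have h := congrArg (fun e : Perm α => e (g (ι (i, x)))) (hfk i)
    simp only [Perm.mul_apply, Perm.inv_def, Equiv.symm_apply_apply] at h
    rw [via_apply, cyc_apply, hc i x, ← map_pow, via_apply, cyc_pow_apply] at h
    simp only [Pi.single_eq_same] at h
    rw [add_comm 1 x, hc] at h
    have := (Prod.ext_iff.1 (ι.injective h)).2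
    simp only [Pi.single_eq_same] at this
    linear_combination this
  have haff : ∀ i x, c i x = c i 0 + (k i : ZMod p) * x := by
    intro i x
    obtain ⟨N, rfl⟩ : ∃ N : ℕ, (N : ZMod p) = x := ⟨x.val, by simp⟩
    induction N with
    | zero => simp
    | succ N ih => rw [Nat.cast_succ, hlin, ih]; ring
  have hk0 : ∀ i, (k i : ZMod p) ≠ 0 := by
    intro i h0
    have e : g (ι (i, 0)) = g (ι (i, 1)) := by rw [hc, hc, haff i 1, h0, zero_mul, add_zero]
    exact zero_ne_one (Prod.ext_iff.1 (ι.injective (g.injective e))).2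
  have hf : Function.Injective f := by
    intro i i' e
    have e' : g (ι (i, (0 : ZMod p))) = g (ι (i', (k i' : ZMod p)⁻¹ * (c i 0 - c i' 0))) := by
      rw [hc, hc, e, haff i' _, mul_inv_cancel_left₀ (hk0 i')]
      congr 2
      ring
    exact (Prod.ext_iff.1 (ι.injective (g.injective e'))).1
  refine ⟨Equiv.ofBijective f ⟨hf, Finite.surjective_of_injective hf⟩,
    fun i => Units.mk0 (k i : ZMod p) (hk0 i), fun i => (k i : ZMod p)⁻¹ * c i 0,
    eq_of_agree (Set.range ι) hcov ?_⟩
  rintro _ ⟨⟨i, x⟩, rfl⟩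
  rw [via_apply, hc, haff]
  simp only [Perm.mul_apply, Tr_apply, Dd_apply, Pp_apply]
  congr 1
  refine Prod.ext rfl ?_
  show _ = (k i : ZMod p) * ((k i : ZMod p)⁻¹ * c i 0 + x)
  rw [mul_add, mul_inv_cancel_left₀ (hk0 i)]

/-- A `p`-element without fixed points is monomial for some block system. -/
theorem exists_model {x : Perm α} {e : ℕ} (hx : x ^ p ^ e = 1) (hfix : ∀ a, x a ≠ a) :
    ∃ (m : ℕ) (ι : Fin m × ZMod p ↪ α) (π : Perm (Fin m)) (t : Fin m → (ZMod p)ˣ)
      (b : Fin m → ZMod p), Function.Surjective ι ∧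
      x = Perm.viaEmbeddingHom ι (Pp m p π * Dd m p t * Tr m p (Multiplicative.ofAdd b)) ∧
      ∃ f : ℕ, (Pp m p π * Dd m p t) ^ p ^ f = 1 := by
  classical
  obtain ⟨m, hm⟩ : p ∣ Fintype.card α := by
    rw [← Finset.card_univ, ← (show x.support = Finset.univ from
      Finset.eq_univ_iff_forall.2 fun a => Perm.mem_support.2 (hfix a)), ← Perm.sum_cycleType]
    refine Multiset.dvd_sum fun l hl => ?_
    have h1 : l ∣ p ^ e := (Perm.dvd_of_mem_cycleType hl).trans (orderOf_dvd_of_pow_eq_one hx)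
    obtain ⟨j, -, rfl⟩ := (Nat.dvd_prime_pow hp.out).1 h1
    have := Perm.two_le_of_mem_cycleType hl
    exact dvd_pow_self p (by rintro rfl; simp at this)
  let e₀ : Fin m × ZMod p ≃ α := Fintype.equivOfCardEq (by
    rw [Fintype.card_prod, Fintype.card_fin, ZMod.card, hm, mul_comm])
  have hEp : IsPGroup p ((Tr m p).range.map (Perm.viaEmbeddingHom e₀.toEmbedding)) :=
    isPGroup_Tr.map _
  obtain ⟨Q₀, hQ₀⟩ := hEp.exists_le_sylow
  have hxp : IsPGroup p (Subgroup.zpowers x) := by
    refine IsPGroup.of_card (n := Classical.choose ((Nat.dvd_prime_pow hp.out).1 (orderOf_dvd_of_pow_eq_one hx))) ?_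
    rw [Nat.card_zpowers]
    exact (Classical.choose_spec ((Nat.dvd_prime_pow hp.out).1 (orderOf_dvd_of_pow_eq_one hx))).2
  obtain ⟨Q₁, hQ₁⟩ := hxp.exists_le_sylow
  obtain ⟨g, hg⟩ := MulAction.exists_smul_eq (Perm α) Q₀ Q₁
  let ι : Fin m × ZMod p ↪ α := (e₀.trans g).toEmbedding
  have hsurj : Function.Surjective ι := (e₀.trans g).surjective
  have hcov : ∀ u v, u ∉ Set.range ι → v ∉ Set.range ι → u = v :=
    fun u _ hu => absurd (hsurj u) hu
  have hvia : ∀ M, Perm.viaEmbeddingHom ι M =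
      g * Perm.viaEmbeddingHom e₀.toEmbedding M * g⁻¹ := by
    intro M
    refine eq_of_agree (Set.range ι) hcov ?_
    rintro _ ⟨z, rfl⟩
    rw [via_apply]
    simp only [Perm.mul_apply]
    show g (e₀ (M z)) = g (Perm.viaEmbeddingHom e₀.toEmbedding M (g⁻¹ (g (e₀ z))))
    rw [Perm.inv_def, Equiv.symm_apply_apply]
    exact congrArg g (via_apply e₀.toEmbedding M z).symm
  have hE : ∀ b, Perm.viaEmbeddingHom ι (Tr m p b) ∈ (Q₁ : Subgroup (Perm α)) := by
    intro b
    rw [hvia, ← hg]
    exact ⟨_, hQ₀ (Subgroup.mem_map_of_mem _ ⟨b, rfl⟩), rfl⟩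
  have hxQ : x ∈ (Q₁ : Subgroup (Perm α)) := hQ₁ (Subgroup.mem_zpowers x)
  obtain ⟨π, t, b, hxe⟩ := exists_mono ι Q₁.2 hcov (fun i => hE _)
    (g := x) fun i => mul_mem (mul_mem hxQ (hE _)) (inv_mem hxQ)
  refine ⟨m, ι, π, t, b, hsurj, hxe, ?_⟩
  have h0 : Perm.viaEmbeddingHom ι (Pp m p π * Dd m p t) ∈ (Q₁ : Subgroup (Perm α)) := by
    have := mul_mem hxQ (inv_mem (hE (Multiplicative.ofAdd b)))
    rwa [hxe, map_mul, mul_inv_cancel_right] at this
  obtain ⟨f, hf⟩ := Q₁.2 ⟨_, h0⟩
  refine ⟨f, Perm.viaEmbeddingHom_injective ι ?_⟩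
  rw [map_pow, map_one]
  exact congrArg Subtype.val hf

end Cfsg.Agent.AltFusionModel
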