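import Cfsg.Agent.Lib.FusionSimpleCrit

/-!
Extension of morphisms of a normal subsystem from self-centralizing subgroups, and the simplicity
criterion it gives.
-/

set_option autoImplicit false

namespace Cfsg.Agent.FusionSimpleExtend

open Cfsg Cfsg.FusionSystem Cfsg.Agent.FusionSysBasic Cfsg.Agent.FusionSysSaturated
  Cfsg.Agent.FusionSysGroup Cfsg.Agent.FusionSimpleCrit

variable {G : Type*} [Group G] [Finite G] {p : ℕ} [Fact p.Prime]

/-- If `C_G(R) ≤ R ≤ X ≤ S` and `g` normalises `R` and `X`, then `cj g|R ∈ E` gives `cj g|X ∈ E`. -/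
theorem extend_centralizer {S : Sylow p G} {E : FusionSystem (S : Subgroup G)}
    (hsat : E.IsSaturated p)
    (hsub : ∀ P, E.Hom P ⊆ (groupFusionSystem (S : Subgroup G)).Hom P) {X : Subgroup G}
    (hX : X ≤ (S : Subgroup G)) {g : G} (hgX : g ∈ Subgroup.normalizer (X : Set G)) :
    ∀ R : Subgroup G, R ≤ X → Subgroup.centralizer (R : Set G) ≤ R →
      g ∈ Subgroup.normalizer (R : Set G) → Mor E R (cj g) → Mor E X (cj g) := by
  intro R
  induction R using WellFoundedGT.induction with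
  | ind R ih =>
  intro hRX hC hgR hE
  by_cases hR : R = X
  · exact hR ▸ hE
  set P := normalizerIn X R with hP
  have hRS : R ≤ (S : Subgroup G) := hRX.trans hX
  have hlt : R < P := by
    haveI := (S.2.to_le hX).isNilpotent
    refine lt_of_le_of_ne (le_normalizerIn hRX) fun e => ?_
    have h1 : R.subgroupOf X < ⊤ := by
      refine lt_top_iff_ne_top.mpr fun h => hR (le_antisymm hRX ?_)
      rwa [Subgroup.subgroupOf_eq_top] at h
    obtain ⟨t, ht, htR⟩ := SetLike.exists_of_lt (normalizerCondition_of_isNilpotent _ h1)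
    refine htR ?_
    have : (t : G) ∈ P := by
      refine ⟨t.2, mem_normalizer_of_cj_le (S := X) hRX fun x hx => ?_⟩
      exact (Subgroup.mem_normalizer_iff.mp ht ⟨x, hRX hx⟩).mp hx
    rw [← e] at this
    exact this
  have hPX : P ≤ X := inf_le_left
  have hgP : g ∈ Subgroup.normalizer (P : Set G) := by
    refine mem_normalizer_of_cj_le (S := X) hPX fun x hx => ⟨?_, ?_⟩
    · exact cj_mem_of_normalizer hgX hx.1
    · exact mul_mem (mul_mem hgR hx.2) (Subgroup.inv_mem _ hgR)
  have hcen := centric_of_centralizer_le (S := S) hRS hC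
  have hrec := receptive_of_fullyCentralized S.2 hsat (S5160.centric_fullyCentralized hsub hcen)
  obtain ⟨f', hf', hag⟩ := (receptive_iff.mp hrec).2 R (cj g) P hE
    (mem_normalizer_iff_im_cj.mp hgR) (hPX.trans hX) inf_le_right
    (fun n hn => ⟨cj g n, hX (cj_mem_of_normalizer hgX hn.1), fun x _ => by
      simp only [cj_apply]; group⟩)
  have hfP : Mor E P f' := hf'.restrict_to le_sup_right
  obtain ⟨φ, hφ, hφe⟩ := hfP
  obtain ⟨-, h, hh, hhS⟩ :=
    mor_group_iff.mp (⟨φ, hsub _ hφ, hφe⟩ : Mor (groupFusionSystem (S : Subgroup G)) P f')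
  replace hfP : Mor E P (cj h) := Mor.congr ⟨φ, hφ, hφe⟩ hh
  set c := g⁻¹ * h with hc
  have hcC : c ∈ Subgroup.centralizer (R : Set G) := by
    refine Subgroup.mem_centralizer_iff.mpr fun x hx => ?_
    have e : cj h x = cj g x := by rw [← hh x (hlt.le hx)]; exact hag x hx
    have e' : cj c x = x := by rw [hc, ← cj_cj, e, cj_inv_cj]
    exact (mul_inv_eq_iff_eq_mul.mp e').symm
  have hcR : c ∈ R := hC hcC
  have hcP : c⁻¹ ∈ P := P.inv_mem (hlt.le hcR)
  have hgE : Mor E P (cj g) := by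
    refine (S5160.mor_cj_comp (mor_cj (hPX.trans hX) (hX (hPX hcP)) : Mor E P (cj c⁻¹)) hfP
      fun x hx => P.mul_mem (P.mul_mem hcP hx) (P.inv_mem hcP)).congr fun x _ => ?_
    rw [hc, _root_.mul_inv_rev, inv_inv, mul_inv_cancel_left]
  exact ih P hlt hPX ((Subgroup.centralizer_le hlt.le).trans (hC.trans hlt.le)) hgP hgE

/-- Simplicity criterion. -/
theorem isSimple_of_closed_stab {S : Sylow p G} (hS1 : (S : Subgroup G) ≠ ⊥)
    (ha : ∀ T : Subgroup G, (groupFusionSystem (S : Subgroup G)).StronglyClosed T →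
      T ≠ ⊥ → T = (S : Subgroup G))
    (hb : ∀ E : FusionSystem (S : Subgroup G), E.IsSaturated p →
      E.IsInvariantIn (groupFusionSystem (S : Subgroup G)) →
      ∀ g ∈ Subgroup.normalizer ((S : Subgroup G) : Set G), Mor E (S : Subgroup G) (cj g)) :
    (groupFusionSystem (S : Subgroup G)).IsSimple p := by
  refine ⟨saturated_group S, hS1, fun T E hE => ?_⟩
  obtain ⟨⟨hsat, -, hinv⟩, -⟩ := hE
  by_cases hT : T = ⊥
  · exact Or.inl hT
  have h := ha T hinv.2.1 hT
  subst h
  refine Or.inr ⟨rfl, fun P => Set.Subset.antisymm (hinv.1 P) fun φ hφ => ?_⟩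
  obtain ⟨hP, hφS, k, hk⟩ := id hφ
  have hkS : ∀ x ∈ P, cj k x ∈ (S : Subgroup G) := fun x hx => by
    have := hφS ⟨x, hx⟩
    rwa [hk] at this
  obtain ⟨g, hg, hm⟩ := S5160.frattini hinv hP hkS
  have hfin := S5160.mor_cj_comp hm (hb E hsat hinv g hg) fun x hx => hm.apply_mem hx
  rw [mul_inv_cancel_left] at hfin
  exact (mor_iff_hom hk).mp hfin

end Cfsg.Agent.FusionSimpleExtend
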