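import Cfsg.Agent.Lib.AltFusionChunk
import Cfsg.Agent.Lib.AltFusionClosed
import Cfsg.Agent.Lib.FusionSimpleExtend

/-!
The normalizer of a Sylow subgroup of an alternating group lies in every normal subsystem.
-/

set_option autoImplicit false

namespace Cfsg.Agent.AltFusionStab

open Equiv Equiv.Perm
open Cfsg Cfsg.FusionSystem Cfsg.Agent.AltFusionModel Cfsg.Agent.AltFusionChunk
  Cfsg.Agent.FusionSimpleCrit Cfsg.Agent.FusionSysBasic Cfsg.Agent.FusionSysGroup

variable {α : Type*} [Fintype α] [DecidableEq α] {p m : ℕ} [hp : Fact p.Prime]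
  (ι : Fin m × ZMod p ↪ α) (ε : ZMod p ↪ Fin m) {S : Sylow p (alternatingGroup α)}

local notation "Mdl" => Fin m × ZMod p

omit [DecidableEq α] in
theorem via_conj (e₀ : Fin m × ZMod p ↪ α) (g : Perm α) (M : Perm Mdl) :
    Perm.viaEmbeddingHom (e₀.trans g.toEmbedding) M =
      g * Perm.viaEmbeddingHom e₀ M * g⁻¹ := by
  classical
  refine Equiv.ext fun w => ?_
  rw [Perm.mul_apply, Perm.mul_apply]
  by_cases hw : w ∈ Set.range (e₀.trans g.toEmbedding)
  · obtain ⟨z, rfl⟩ := hw
    rw [via_apply, show g⁻¹ ((e₀.trans g.toEmbedding) z) = e₀ z from g.symm_apply_apply _, via_apply]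
    rfl
  · have hw' : g⁻¹ w ∉ Set.range e₀ := fun ⟨z, hz⟩ => hw ⟨z, by
      show g (e₀ z) = w
      rw [hz]; exact g.apply_symm_apply w⟩
    rw [via_apply_of_not _ _ hw, via_apply_of_not e₀ M hw']
    simp

/-- The even elements realised by a subgroup of the model. -/
noncomputable def img (K : Subgroup (Perm Mdl)) : Subgroup (alternatingGroup α) :=
  (K.map (Perm.viaEmbeddingHom ι)).comap (alternatingGroup α).subtype

omit hp in
theorem mem_img {K : Subgroup (Perm Mdl)} {M : Perm Mdl} {y : alternatingGroup α} (hM : M ∈ K)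
    (hy : (y : Perm α) = (Perm.viaEmbeddingHom ι) M) : y ∈ img ι K := ⟨M, hM, hy.symm⟩

omit hp in
theorem normalizer_img {K : Subgroup (Perm Mdl)} {D : Perm Mdl} {y : alternatingGroup α}
    (hD : D ∈ Subgroup.normalizer (K : Set (Perm Mdl))) (hy : (y : Perm α) = (Perm.viaEmbeddingHom ι) D) :
    y ∈ Subgroup.normalizer (img ι K : Set (alternatingGroup α)) := by
  refine mem_normalizer_of_conj _ fun z hz => ?_
  obtain ⟨M, hM, hMe⟩ := hz
  refine mem_img ι ((Subgroup.mem_normalizer_iff.1 hD M).1 hM) ?_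
  push_cast
  rw [map_mul, map_mul, map_inv, hy]
  exact congrArg (fun w => (Perm.viaEmbeddingHom ι) D * w * ((Perm.viaEmbeddingHom ι) D)⁻¹) hMe.symm

variable (hTr : ∀ b, (Perm.viaEmbeddingHom ι) (Tr m p b) ∈ (S : Subgroup (alternatingGroup α)).map (alternatingGroup α).subtype)
  (hsh : (Perm.viaEmbeddingHom ι) (Pp m p (sh ε)) ∈ (S : Subgroup (alternatingGroup α)).map (alternatingGroup α).subtype)
  (hcov : ∀ u v, u ∉ Set.range ι → v ∉ Set.range ι → u = v)

include hTr hsh in
theorem sup_mem {M : Perm Mdl} (hM : M ∈ (Tr m p).range ⊔ R0 ε) :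
    (Perm.viaEmbeddingHom ι) M ∈ (S : Subgroup (alternatingGroup α)).map (alternatingGroup α).subtype := by
  have hle : (Tr m p).range ⊔ R0 ε ≤
      ((S : Subgroup (alternatingGroup α)).map (alternatingGroup α).subtype).comap (Perm.viaEmbeddingHom ι) := by
    refine sup_le (fun x hx => ?_) ((Subgroup.closure_le _).2 ?_)
    · obtain ⟨b, rfl⟩ := hx; exact hTr b
    · rintro x (rfl | ⟨b, -, rfl⟩)
      · exact hsh
      · exact hTr _
  exact hle hM

include hTr hsh in
theorem img_le_S {K : Subgroup (Perm Mdl)} (hK : K ≤ (Tr m p).range ⊔ R0 ε) :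
    img ι K ≤ (S : Subgroup (alternatingGroup α)) := by
  rintro y ⟨M, hM, hy⟩
  exact AltFusionClosed.mem_image.1 (show (alternatingGroup α).subtype y ∈ _ from
    hy ▸ sup_mem ι ε hTr hsh (hK hM))

include hTr hsh in
theorem exists_el {M : Perm Mdl} (hM : M ∈ (Tr m p).range ⊔ R0 ε) :
    ∃ y : alternatingGroup α, y ∈ (S : Subgroup (alternatingGroup α)) ∧ (y : Perm α) = (Perm.viaEmbeddingHom ι) M := by
  obtain ⟨y, hy, he⟩ := sup_mem ι ε hTr hsh hM
  exact ⟨y, hy, he⟩

include hTr hsh hcov in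
theorem centralizer_R :
    Subgroup.centralizer (img ι (R0 ε) : Set (alternatingGroup α)) ≤ img ι (R0 ε) := by
  intro y hy
  obtain ⟨M, hM, hMe⟩ := centralizer_chunk ε ι hcov (y := (y : Perm α)) fun M hM => by
    obtain ⟨z, -, hz⟩ := exists_el ι ε hTr hsh (Subgroup.mem_sup_right hM)
    have h := congrArg Subtype.val (Subgroup.mem_centralizer_iff.1 hy z (mem_img ι hM hz))
    push_cast at h
    rw [hz] at h
    exact h.symm
  exact mem_img ι hM hMe.symm

include hTr hsh hcov in
theorem centralizer_E1 :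
    Subgroup.centralizer (img ι (Tr m p).range : Set (alternatingGroup α)) ≤
      img ι (Tr m p).range := by
  intro y hy
  have hcomm : ∀ b, (y : Perm α) * (Perm.viaEmbeddingHom ι) (Tr m p b) = (Perm.viaEmbeddingHom ι) (Tr m p b) * y := fun b => by
    obtain ⟨z, -, hz⟩ := exists_el ι ε hTr hsh (Subgroup.mem_sup_left (⟨b, rfl⟩ :
      Tr m p b ∈ (Tr m p).range))
    have h := congrArg Subtype.val (Subgroup.mem_centralizer_iff.1 hy z (mem_img ι ⟨b, rfl⟩ hz))
    push_cast at h
    rw [hz] at h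
    exact h.symm
  obtain ⟨π, t, b, hye⟩ := exists_mono ι (S.2.map (alternatingGroup α).subtype) hcov
    (fun i => hTr _) (g := (y : Perm α)) fun i => by
      rw [show (y : Perm α) * (Perm.viaEmbeddingHom ι) (cyc i) = (Perm.viaEmbeddingHom ι) (cyc i) * y from hcomm _, mul_inv_cancel_right]
      exact hTr _
  have key : ∀ i, π i = i ∧ t i = 1 := by
    intro i
    have h := hcomm (Multiplicative.ofAdd (Pi.single i 1))
    rw [hye, ← map_mul, ← map_mul] at h
    have h' := Perm.viaEmbeddingHom_injective ι h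
    rw [mul_assoc (Pp m p π * Dd m p t), ← map_mul, mul_comm (Multiplicative.ofAdd b), map_mul,
      ← mul_assoc, ← mul_assoc (Tr m p (Multiplicative.ofAdd (Pi.single i (1 : ZMod p))))] at h'
    have h'' := mul_right_cancel h'
    rw [← mul_inv_eq_iff_eq_mul] at h''
    have e := conj_tr π t (Pi.single i 1)
    rw [h''] at e
    have e' := congrArg (fun D : Perm Mdl => (D (π i, 0)).2) e
    simp only [Tr_apply, add_zero, Perm.inv_def, Equiv.symm_apply_apply, Pi.single_eq_same,
      mul_one] at e'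
    by_cases hπ : π i = i
    · rw [hπ, Pi.single_eq_same] at e'
      exact ⟨hπ, Units.ext e'.symm⟩
    · rw [Pi.single_eq_of_ne hπ] at e'
      exact absurd e'.symm (t i).ne_zero
  have hπ : π = 1 := Equiv.ext fun i => (key i).1
  have ht : t = 1 := funext fun i => (key i).2
  rw [hπ, ht, map_one, map_one, one_mul, one_mul] at hye
  exact mem_img ι ⟨_, rfl⟩ hye

include hTr hcov in
theorem normalizer_S_E1 {y : alternatingGroup α}
    (hy : y ∈ Subgroup.normalizer ((S : Subgroup (alternatingGroup α)) : Set (alternatingGroup α))) :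
    ∃ (π : Perm (Fin m)) (t : Fin m → (ZMod p)ˣ) (b : Fin m → ZMod p),
      (y : Perm α) = (Perm.viaEmbeddingHom ι) (Pp m p π * Dd m p t * Tr m p (Multiplicative.ofAdd b)) ∧
      y ∈ Subgroup.normalizer (img ι (Tr m p).range : Set (alternatingGroup α)) := by
  obtain ⟨π, t, b, hye⟩ := exists_mono ι (S.2.map (alternatingGroup α).subtype) hcov
    (fun i => hTr _) (g := (y : Perm α)) fun i => by
      obtain ⟨z, hz, he⟩ := hTr (Multiplicative.ofAdd (Pi.single i 1))
      refine ⟨y * z * y⁻¹, (Subgroup.mem_normalizer_iff.1 hy z).1 hz, ?_⟩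
      have he' : (z : Perm α) = (Perm.viaEmbeddingHom ι) (cyc i) := he
      show ((y * z * y⁻¹ : alternatingGroup α) : Perm α) = _
      push_cast
      rw [he']
  exact ⟨π, t, b, hye, normalizer_img ι (mono_normalizes π t _) hye⟩

include hTr hsh hcov in
/-- Every element of the normalizer of `S` acts on `S` in the normal subsystem `E`. -/
theorem mor_normalizer (hodd : p ≠ 2) {E : FusionSystem (S : Subgroup (alternatingGroup α))}
    (hsat : E.IsSaturated p)
    (hinv : E.IsInvariantIn (groupFusionSystem (S : Subgroup (alternatingGroup α))))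
    {g : alternatingGroup α}
    (hg : g ∈ Subgroup.normalizer ((S : Subgroup (alternatingGroup α)) : Set (alternatingGroup α))) :
    Mor E (S : Subgroup (alternatingGroup α)) (cj g) := by
  classical
  have halt : ∀ {M : Perm Mdl}, sign M = 1 → (Perm.viaEmbeddingHom ι) M ∈ alternatingGroup α := fun h =>
    mem_alternatingGroup.2 (by rw [sign_via, h])
  have hRX : R0 ε ≤ (Tr m p).range ⊔ R0 ε := le_sup_right
  have hE1S : img ι (Tr m p).range ≤ (S : Subgroup (alternatingGroup α)) :=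
    img_le_S ι ε hTr hsh le_sup_left
  have hRS : img ι (R0 ε) ≤ (S : Subgroup (alternatingGroup α)) := img_le_S ι ε hTr hsh hRX
  have hXS : img ι ((Tr m p).range ⊔ R0 ε) ≤ (S : Subgroup (alternatingGroup α)) :=
    img_le_S ι ε hTr hsh le_rfl
  set stR := S5160.stab E hRS
  set stE := S5160.stab E hE1S
  -- transvections of the chunk act on `R` inside `E`
  let InR : Perm Mdl → Prop := fun M => ∃ y ∈ stR, (y : Perm α) = (Perm.viaEmbeddingHom ι) M
  have hlinp : ∀ e : (ZMod p × ZMod p) ≃+ (ZMod p × ZMod p), (e.toEquiv : Perm _) ^ p = 1 →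
      ∃ y : alternatingGroup α, (y : Perm α) = (Perm.viaEmbeddingHom ι) (lift ε e.toEquiv) ∧
        y ∈ Subgroup.normalizer (img ι (R0 ε) : Set (alternatingGroup α)) := by
    intro e he
    have hs : sign (lift ε e.toEquiv) = 1 :=
      sign_eq_one_of_pow (hp.out.odd_of_ne_two hodd) (by rw [← map_pow, he, map_one])
    exact ⟨⟨_, halt hs⟩, rfl, normalizer_img ι (linear_normalizes ε e) rfl⟩
  have hU : ∀ c, InR (lift ε (uu c).toEquiv) := by
    intro c
    obtain ⟨b, hb⟩ := lift_uu ε c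
    obtain ⟨y, hy, hye⟩ := exists_el ι ε hTr hsh (Subgroup.mem_sup_left (⟨_, rfl⟩ :
      Tr m p (Multiplicative.ofAdd b) ∈ (Tr m p).range))
    rw [← hb] at hye
    exact ⟨y, ⟨normalizer_img ι (linear_normalizes ε _) hye, mor_cj hRS hy⟩, hye⟩
  have hL : ∀ c, InR (lift ε (ll c).toEquiv) := by
    intro c
    obtain ⟨y, ⟨hyN, hyE⟩, hye⟩ := hU (-c)
    obtain ⟨u, hu, huN⟩ := hlinp (uu 1) (uu_pow 1)
    obtain ⟨l, hl, hlN⟩ := hlinp (ll (-1)) (ll_pow (-1))
    have hk : u * l * u ∈ Subgroup.normalizer (img ι (R0 ε) : Set (alternatingGroup α)) :=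
      mul_mem (mul_mem huN hlN) huN
    refine ⟨u * l * u * y * (u * l * u)⁻¹, ⟨mul_mem (mul_mem hk hyN) (inv_mem hk),
      S5160.conj_stable hinv hRS hk hyN hyE⟩, ?_⟩
    push_cast
    rw [hu, hl, hye, ← map_mul, ← map_mul, ← map_mul, ← map_inv, ← map_mul, ← map_mul, ← map_mul,
      ← map_mul, ← map_inv, ← map_mul]
    congr 2
    rw [mul_inv_eq_iff_eq_mul]
    refine Equiv.ext fun v => ?_
    show uu 1 (ll (-1) (uu 1 (uu (-c) v))) = ll c (uu 1 (ll (-1) (uu 1 v)))
    simp only [uu_apply, ll_apply]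
    ext <;> ring
  have hHR : ∀ a : (ZMod p)ˣ, InR (hh ε a) := by
    intro a
    obtain ⟨y1, h1, e1⟩ := hL (a : ZMod p)
    obtain ⟨y2, h2, e2⟩ := hU (-((a⁻¹ : (ZMod p)ˣ) : ZMod p))
    obtain ⟨y3, h3, e3⟩ := hL (-1)
    obtain ⟨y4, h4, e4⟩ := hU 1
    refine ⟨y1 * y2 * y1 * (y3 * y4 * y3),
      mul_mem (mul_mem (mul_mem h1 h2) h1) (mul_mem (mul_mem h3 h4) h3), ?_⟩
    push_cast
    simp only [e1, e2, e3, e4, ← map_mul, hh_eq]
  -- hence the twists act on the translations inside `E`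
  have hHE : ∀ a : (ZMod p)ˣ, ∃ y ∈ stE, (y : Perm α) = (Perm.viaEmbeddingHom ι) (hh ε a) := by
    intro a
    obtain ⟨y, ⟨hyR, hyE⟩, hye⟩ := hHR a
    have hN1 : hh ε a ∈ Subgroup.normalizer ((Tr m p).range : Set (Perm Mdl)) := by
      have := mono_normalizes (Perm.viaEmbeddingHom ε (mulP p a))
        (∏ u, Pi.mulSingle (ε u) a⁻¹) (1 : Multiplicative (Fin m → ZMod p))
      rwa [map_one, mul_one] at this
    have hN2 : hh ε a ∈ Subgroup.normalizer (R0 ε : Set (Perm Mdl)) := by
      rw [hh_eq]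
      simp only [map_mul]
      exact mul_mem (mul_mem (mul_mem (linear_normalizes ε _) (linear_normalizes ε _))
        (linear_normalizes ε _)) (mul_mem (mul_mem (linear_normalizes ε _) (linear_normalizes ε _))
          (linear_normalizes ε _))
    have hNX : hh ε a ∈ Subgroup.normalizer (((Tr m p).range ⊔ R0 ε : Subgroup (Perm Mdl)) :
        Set (Perm Mdl)) := by
      refine mem_normalizer_of_conj _ fun x hx => ?_
      have hle : (Tr m p).range ⊔ R0 ε ≤
          ((Tr m p).range ⊔ R0 ε).comap (MulAut.conj (hh ε a)).toMonoidHom :=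
        sup_le (fun z hz => Subgroup.mem_sup_left ((Subgroup.mem_normalizer_iff.1 hN1 z).1 hz))
          (fun z hz => Subgroup.mem_sup_right ((Subgroup.mem_normalizer_iff.1 hN2 z).1 hz))
      exact hle hx
    have hX : Mor E (img ι ((Tr m p).range ⊔ R0 ε)) (cj y) :=
      FusionSimpleExtend.extend_centralizer hsat hinv.1 hXS (normalizer_img ι hNX hye)
        (img ι (R0 ε)) (Subgroup.comap_mono (Subgroup.map_mono hRX))
        (centralizer_R ι ε hTr hsh hcov) hyR hyE
    exact ⟨y, ⟨normalizer_img ι hN1 hye,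
      hX.restrict_to (Subgroup.comap_mono (Subgroup.map_mono le_sup_left))⟩, hye⟩
  -- the monomial `p`-elements
  have hfn : (groupFusionSystem (S : Subgroup (alternatingGroup α))).IsFullyNormalized
      (img ι (Tr m p).range) :=
    fullyNormalized_of_normal hE1S fun s hs => by
      obtain ⟨-, -, -, -, h⟩ := normalizer_S_E1 ι hTr hcov (y := s) (Subgroup.le_normalizer hs)
      exact h
  have hK : ∀ M ∈ K0 m p, ∃ y ∈ stE, (y : Perm α) = (Perm.viaEmbeddingHom ι) M := by
    intro M hM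
    induction hM using Subgroup.closure_induction with
    | mem x hx =>
      obtain ⟨hxN, k, hk⟩ := hx
      have hs : sign x = 1 := sign_eq_one_of_pow ((hp.out.odd_of_ne_two hodd).pow) hk
      refine ⟨⟨(Perm.viaEmbeddingHom ι) x, halt hs⟩, S5160.pElements_mem hinv hE1S hfn (normalizer_img ι hxN rfl) ?_, rfl⟩
      obtain ⟨j, -, hj⟩ := (Nat.dvd_prime_pow hp.out).1
        (orderOf_dvd_of_pow_eq_one (x := (⟨(Perm.viaEmbeddingHom ι) x, halt hs⟩ : alternatingGroup α)) (n := p ^ k)
          (Subtype.ext (show (Perm.viaEmbeddingHom ι) x ^ p ^ k = 1 by rw [← map_pow, hk, map_one])))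
      exact ⟨j, hj⟩
    | one => exact ⟨1, one_mem _, by rw [map_one]; rfl⟩
    | mul a b _ _ iha ihb =>
      obtain ⟨ya, hya, ea⟩ := iha
      obtain ⟨yb, hyb, eb⟩ := ihb
      exact ⟨ya * yb, mul_mem hya hyb, by push_cast; rw [map_mul, ea, eb]⟩
    | inv a _ iha =>
      obtain ⟨ya, hya, ea⟩ := iha
      exact ⟨ya⁻¹, inv_mem hya, by push_cast; rw [map_inv, ea]⟩
  obtain ⟨π, t, b, hge, hgN⟩ := normalizer_S_E1 ι hTr hcov hg
  obtain ⟨yb, hybS, hybe⟩ := exists_el ι ε hTr hsh (Subgroup.mem_sup_left (⟨_, rfl⟩ :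
    Tr m p (Multiplicative.ofAdd b) ∈ (Tr m p).range))
  have hyb : yb ∈ stE := by
    refine ⟨normalizer_img ι (Subgroup.le_normalizer ?_) hybe, mor_cj hE1S hybS⟩
    exact ⟨_, rfl⟩
  have hsM : sign (Pp m p π * Dd m p t) = 1 := by
    have h := mem_alternatingGroup.1 g.2
    rw [hge, sign_via, map_mul, sign_Tr hodd, mul_one] at h
    exact h
  set a : (ZMod p)ˣ := ∏ i, t i with ha
  set π' : Perm (Fin m) := Perm.viaEmbeddingHom ε (mulP p a)
  set d : Fin m → (ZMod p)ˣ := ∏ u, Pi.mulSingle (ε u) a⁻¹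
  have heq : Pp m p π * Dd m p t * hh ε a =
      Pp m p (π * π') * Dd m p ((fun i => t (π' i)) * d) := by
    show Pp m p π * Dd m p t * (Pp m p π' * Dd m p d) = _
    have h1 : Pp m p π' * Dd m p (fun i => t (π' i)) = Dd m p t * Pp m p π' := by
      rw [Pp_Dd]; simp
    rw [map_mul, map_mul, ← mul_assoc, mul_assoc (Pp m p π), ← h1]
    simp only [mul_assoc]
  have hK' : Pp m p π * Dd m p t * hh ε a ∈ K0 m p := by
    rw [heq]
    refine mono_mem ε hodd ?_ ?_
    · rw [← heq, map_mul, hsM, sign_hh ε hodd, one_mul]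
    · simp only [Pi.mul_apply]
      rw [Finset.prod_mul_distrib, Equiv.prod_comp π', sign_mulP_prod, ← ha, mul_inv_cancel]
  obtain ⟨y1, hy1, e1⟩ := hK _ hK'
  obtain ⟨y2, hy2, e2⟩ := hHE a
  have hgE : g ∈ stE := by
    have : g = y1 * y2⁻¹ * yb := Subtype.ext (by
      push_cast
      rw [hge, e1, e2, hybe, ← map_inv, ← map_mul, ← map_mul, mul_inv_cancel_right])
    rw [this]
    exact mul_mem (mul_mem hy1 (inv_mem hy2)) hyb
  exact S5160.extend hsat hinv.1 hg _
    (centric_of_centralizer_le hE1S (centralizer_E1 ι ε hTr hsh hcov)) hgN hgE.2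

end Cfsg.Agent.AltFusionStab
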