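import Cfsg.Agent.Lib.AltFusionClosed

/-!
Strongly closed subgroups in the `2`-fusion system of an alternating group.
-/

set_option autoImplicit false

namespace Cfsg.Agent.AltFusionTwo

open Equiv Equiv.Perm
open Cfsg Cfsg.FusionSystem Cfsg.Agent.FusionSimpleCrit Cfsg.Agent.AltFusionClosed

variable {α : Type*} [Fintype α] [DecidableEq α]

omit [Fintype α] [DecidableEq α] in
theorem isPGroup_involution {G : Type*} [Group G] {u : G} (hu : u * u = 1) :
    IsPGroup 2 (Subgroup.zpowers u) := by
  rintro ⟨y, hy⟩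
  obtain ⟨j, rfl⟩ := Subgroup.mem_zpowers_iff.1 hy
  refine ⟨1, Subtype.ext ?_⟩
  show (u ^ j) ^ 2 ^ 1 = 1
  rw [pow_one, pow_two, ← _root_.zpow_add, ← two_mul, _root_.zpow_mul, zpow_two, hu, _root_.one_zpow]

omit [Fintype α] [DecidableEq α] in
/-- Two involutions whose product is a `2`-element lie in a common `2`-subgroup. -/
theorem exists_pgroup_pair {G : Type*} [Group G] {u v : G} (hu : u * u = 1) (hv : v * v = 1)
    {k : ℕ} (huv : (u * v) ^ 2 ^ k = 1) :
    ∃ K : Subgroup G, IsPGroup 2 K ∧ u ∈ K ∧ v ∈ K := by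
  have hux : u * (u * v) * u⁻¹ = (u * v)⁻¹ := by
    rw [inv_eq_of_mul_eq_one_right hu, _root_.mul_inv_rev, inv_eq_of_mul_eq_one_right hu,
      inv_eq_of_mul_eq_one_right hv, ← mul_assoc, hu, one_mul]
  have hzx : IsPGroup 2 (Subgroup.zpowers (u * v)) := by
    rintro ⟨y, hy⟩
    obtain ⟨j, rfl⟩ := Subgroup.mem_zpowers_iff.1 hy
    refine ⟨k, Subtype.ext ?_⟩
    show ((u * v) ^ j) ^ 2 ^ k = 1
    rw [← zpow_natCast, ← _root_.zpow_mul, mul_comm, _root_.zpow_mul, zpow_natCast, huv,
      _root_.one_zpow]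
  have hnor : Subgroup.zpowers u ≤ Subgroup.normalizer (Subgroup.zpowers (u * v) : Set G) := by
    rw [Subgroup.zpowers_le, Subgroup.mem_normalizer_iff]
    intro y
    have key : ∀ z ∈ Subgroup.zpowers (u * v), u * z * u⁻¹ ∈ Subgroup.zpowers (u * v) := by
      intro z hz
      obtain ⟨j, rfl⟩ := Subgroup.mem_zpowers_iff.1 hz
      rw [← conj_zpow, hux]
      exact zpow_mem (inv_mem (Subgroup.mem_zpowers _)) j
    refine ⟨key y, fun h => ?_⟩
    have h' := key _ h
    rwa [inv_eq_of_mul_eq_one_right hu, show u * (u * y * u) * u = (u * u) * y * (u * u) by group,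
      hu, one_mul, mul_one] at h'
  refine ⟨Subgroup.zpowers u ⊔ Subgroup.zpowers (u * v),
    (isPGroup_involution hu).to_sup_of_normal_right' hzx hnor,
    Subgroup.mem_sup_left (Subgroup.mem_zpowers u), ?_⟩
  have h' : u⁻¹ * (u * v) ∈ Subgroup.zpowers u ⊔ Subgroup.zpowers (u * v) :=
    mul_mem (inv_mem (Subgroup.mem_sup_left (Subgroup.mem_zpowers u)))
      (Subgroup.mem_sup_right (Subgroup.mem_zpowers _))
  rwa [inv_mul_cancel_left] at h'

/-- An even `2`-element is a product of two even involutions. -/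
theorem exists_involutions {x : Perm α} (hs : sign x = 1) {k : ℕ} (hx : x ^ 2 ^ k = 1) :
    ∃ r : Perm α, r * r = 1 ∧ (r * x) * (r * x) = 1 ∧ sign r = 1 ∧ sign (r * x) = 1 := by
  classical
  by_cases hx1 : x = 1
  · exact ⟨1, one_mul 1, by rw [hx1, one_mul, one_mul], map_one _, by rw [one_mul]; exact hs⟩
  let base : α → α := fun w =>
    (Quotient.mk (Perm.SameCycle.setoid x) w).out
  have hbase : ∀ w, x.SameCycle (base w) w := fun w =>
    Quotient.exact (s := Perm.SameCycle.setoid x) (Quotient.out_eq _)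
  choose j hj using hbase
  have key : ∀ (a : α) (i i' : ℤ), (x ^ i) a = (x ^ i') a → (x ^ (-i)) a = (x ^ (-i')) a := by
    intro a i i' h
    have h' := congrArg (⇑(x ^ (-i + -i'))) h
    rw [← Perm.mul_apply, ← Perm.mul_apply, ← _root_.zpow_add, ← _root_.zpow_add,
      show -i + -i' + i = -i' by ring, show -i + -i' + i' = -i by ring] at h'
    exact h'.symm
  let r : α → α := fun w => (x ^ (-j w)) (base w)
  have hr : ∀ (w : α) (i : ℤ), (x ^ i) (base w) = w → r w = (x ^ (-i)) (base w) := fun w i h =>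
    key _ _ _ ((hj w).trans h.symm)
  have hbase' : ∀ (w : α) (i : ℤ), base ((x ^ i) w) = base w := fun w i =>
    congrArg Quotient.out (Quotient.sound (s := Perm.SameCycle.setoid x)
      (⟨-i, by rw [← Perm.mul_apply, ← _root_.zpow_add, neg_add_cancel, _root_.zpow_zero]; rfl⟩ :
        x.SameCycle ((x ^ i) w) w))
  have hrr : Function.Involutive r := by
    intro w
    have hb : base (r w) = base w := by
      have : r w = (x ^ (-j w + -j w)) w := by
        rw [_root_.zpow_add, Perm.mul_apply]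
        have h' := congrArg (⇑(x ^ (-j w))) (hj w)
        rw [← Perm.mul_apply, ← _root_.zpow_add, neg_add_cancel, _root_.zpow_zero,
          Perm.one_apply] at h'
        rw [← h']
      rw [this, hbase']
    rw [hr (r w) (-j w) (by rw [hb]), neg_neg, hb, hj]
  have hrx : ∀ w, r (x w) = x⁻¹ (r w) := by
    intro w
    have hb : base (x w) = base w := by
      have := hbase' w 1
      rwa [zpow_one] at this
    rw [hr (x w) (1 + j w) (by rw [hb, _root_.zpow_add, zpow_one, Perm.mul_apply, hj]), hb,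
      neg_add, _root_.zpow_add, zpow_neg_one, Perm.mul_apply]
  let R : Perm α := hrr.toPerm
  have hR : ∀ w, R w = r w := fun w => rfl
  have hRR : R * R = 1 := Equiv.ext fun w => hrr w
  have hRx : R * x = x⁻¹ * R := Equiv.ext fun w => hrx w
  have hinv : ∀ R' : Perm α, R' * R' = 1 → R' * x = x⁻¹ * R' → (R' * x) * (R' * x) = 1 := by
    intro R' h1 h2
    calc R' * x * (R' * x) = x⁻¹ * (R' * R') * x := by rw [h2]; nth_rw 2 [← h2]; group
      _ = 1 := by rw [h1, mul_one, inv_mul_cancel]
  rcases Int.units_eq_one_or (sign R) with hsR | hsR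
  · exact ⟨R, hRR, hinv R hRR hRx, hsR, by rw [map_mul, hsR, hs, one_mul]⟩
  · obtain ⟨a, ha⟩ : ∃ a, x a ≠ a := by
      by_contra! h
      exact hx1 (Equiv.ext h)
    set c := x.cycleOf a with hc
    have hcc : c.IsCycle := Perm.isCycle_cycleOf x ha
    have hsc : sign c = -1 := by
      rw [hcc.sign]
      have hmem : c.support.card ∈ x.cycleType := by
        rw [Perm.cycleType_def]
        exact Multiset.mem_map_of_mem (Finset.card ∘ Perm.support)
          (Perm.cycleOf_mem_cycleFactorsFinset_iff.2 (Perm.mem_support.2 ha))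
      have hdvd := (Perm.dvd_of_mem_cycleType hmem).trans (orderOf_dvd_of_pow_eq_one hx)
      obtain ⟨i, -, hi⟩ := (Nat.dvd_prime_pow Nat.prime_two).1 hdvd
      have := Perm.two_le_of_mem_cycleType hmem
      have heven : Even c.support.card := by
        rcases i with _ | i
        · simp at hi; omega
        · rw [hi, pow_succ']; exact even_two_mul _
      rw [heven.neg_one_pow]
    have hxc : x * c = c * x := (Perm.cycleOf_mem_cycleFactorsFinset_iff.2 (Perm.mem_support.2 ha)
      |> Perm.self_mem_cycle_factors_commute).symm.eq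
    have hRc : R * c = c⁻¹ * R := by
      have hsame : ∀ w, x.SameCycle w (R w) := fun w => ⟨-j w + -j w, by
        rw [_root_.zpow_add, Perm.mul_apply]
        have h' := congrArg (⇑(x ^ (-j w))) (hj w)
        rw [← Perm.mul_apply, ← _root_.zpow_add, neg_add_cancel, _root_.zpow_zero,
          Perm.one_apply] at h'
        rw [← h']; rfl⟩
      refine Equiv.ext fun w => ?_
      rw [Perm.mul_apply, Perm.mul_apply, hc, Perm.cycleOf_inv, Perm.cycleOf_apply,
        Perm.cycleOf_apply]
      by_cases h : x.SameCycle a w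
      · rw [if_pos h, if_pos (Perm.sameCycle_inv.2 (h.trans (hsame w)))]
        exact hrx w
      · rw [if_neg h, if_neg (fun h' => h ((Perm.sameCycle_inv.1 h').trans (hsame w).symm))]
    have h1 : (R * c) * (R * c) = 1 := by
      calc R * c * (R * c) = c⁻¹ * (R * R) * c := by rw [hRc]; nth_rw 2 [← hRc]; group
        _ = 1 := by rw [hRR, mul_one, inv_mul_cancel]
    have h2 : (R * c) * x = x⁻¹ * (R * c) := by
      rw [mul_assoc, ← hxc, ← mul_assoc, hRx, mul_assoc]
    have hsRc : sign (R * c) = 1 := by rw [map_mul, hsR, hsc]; rfl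
    exact ⟨R * c, h1, hinv _ h1 h2, hsRc, by rw [map_mul, hsRc, hs, one_mul]⟩

variable {S : Sylow 2 (alternatingGroup α)} {T : Subgroup (alternatingGroup α)}
  (hT : (groupFusionSystem (S : Subgroup (alternatingGroup α))).StronglyClosed T)
include hT

theorem good_pair {u v : Perm α} (hu : u * u = 1) (hv : v * v = 1) (hsu : sign u = 1)
    (hsv : sign v = 1) {k : ℕ} (huv : (u * v) ^ 2 ^ k = 1) (hgu : Good S T u) (hgv : Good S T v) :
    Good S T (u * v) := by
  obtain ⟨K, hK, huK, hvK⟩ := exists_pgroup_pair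
    (u := (⟨u, mem_alternatingGroup.2 hsu⟩ : alternatingGroup α))
    (v := ⟨v, mem_alternatingGroup.2 hsv⟩) (Subtype.ext hu) (Subtype.ext hv)
    (k := k) (Subtype.ext huv)
  exact good_mul_sub hT hK huK hvK hgu hgv

/-- All double transpositions are good. -/
theorem good_double (hne : T ≠ ⊥) {a b c d : α} (hnd : [a, b, c, d].Nodup) :
    Good S T (Equiv.swap a b * Equiv.swap c d) := by
  classical
  have : Fact (Nat.Prime 2) := ⟨Nat.prime_two⟩
  obtain ⟨t, ht⟩ : ∃ t : T, orderOf t = 2 := by
    obtain ⟨k, hk⟩ := IsPGroup.iff_card.1 (S.2.to_le hT.1)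
    refine exists_prime_orderOf_dvd_card' 2 ?_
    rw [hk]
    refine dvd_pow_self 2 ?_
    rintro rfl
    exact hne (Subgroup.card_eq_one.1 (hk.trans (pow_zero 2)))
  set x : Perm α := ((t : alternatingGroup α) : Perm α) with hx
  have hxx : x * x = 1 := by
    have := congrArg (fun z : T => ((z : alternatingGroup α) : Perm α)) (pow_orderOf_eq_one t)
    rw [ht] at this
    simpa [pow_two] using this
  have hxne : x ≠ 1 := by
    intro h
    rw [show t = 1 from Subtype.ext (Subtype.ext h), orderOf_one] at ht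
    exact absurd ht (by decide)
  have hinvo : ∀ w, x (x w) = w := fun w => by rw [← Perm.mul_apply, hxx]; rfl
  obtain ⟨a₁, ha₁⟩ : ∃ w, x w ≠ w := by
    by_contra! h
    exact hxne (Equiv.ext h)
  obtain ⟨c₁, hc₁, hca, hcb⟩ : ∃ w, x w ≠ w ∧ w ≠ a₁ ∧ w ≠ x a₁ := by
    by_contra! h
    have hswap : x = Equiv.swap a₁ (x a₁) := Equiv.ext fun w => by
      by_cases h1 : w = a₁
      · rw [h1, Equiv.swap_apply_left]
      by_cases h2 : w = x a₁
      · rw [h2, Equiv.swap_apply_right, hinvo]
      rw [Equiv.swap_apply_of_ne_of_ne h1 h2]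
      by_contra h3
      exact h2 (h w h3 h1)
    have hsx : sign x = 1 := mem_alternatingGroup.1 (t : alternatingGroup α).2
    rw [hswap, Perm.sign_swap (Ne.symm ha₁)] at hsx
    exact absurd hsx (by decide)
  have hac : a₁ ≠ x c₁ := fun h => hcb (by rw [h, hinvo])
  have hbc : x a₁ ≠ x c₁ := fun h => hca (x.injective h).symm
  -- a conjugate of `x` by an even permutation
  set s := Equiv.swap (x a₁) c₁ with hs
  have hgx : Good S T (s * x * s⁻¹) := by
    have hsgn : sign (s * Equiv.swap a₁ (x a₁)) = 1 := by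
      rw [map_mul, hs, Perm.sign_swap (Ne.symm hcb), Perm.sign_swap (Ne.symm ha₁)]; rfl
    have h := good_conj (good_of_mem hT t.2)
      (⟨s * Equiv.swap a₁ (x a₁), mem_alternatingGroup.2 hsgn⟩ : alternatingGroup α)
    rw [← hx] at h
    have hcomm : Equiv.swap a₁ (x a₁) * x * (Equiv.swap a₁ (x a₁))⁻¹ = x := by
      rw [mul_inv_eq_iff_eq_mul, Equiv.mul_swap_eq_swap_mul, hinvo, Equiv.swap_comm (x a₁) a₁]
    have e : s * Equiv.swap a₁ (x a₁) * x * (s * Equiv.swap a₁ (x a₁))⁻¹ = s * x * s⁻¹ := by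
      rw [_root_.mul_inv_rev, show s * Equiv.swap a₁ (x a₁) * x * ((Equiv.swap a₁ (x a₁))⁻¹ * s⁻¹) =
        s * (Equiv.swap a₁ (x a₁) * x * (Equiv.swap a₁ (x a₁))⁻¹) * s⁻¹ by group, hcomm]
    rw [← e]
    exact h
  have hprod : x * (s * x * s⁻¹) = Equiv.swap a₁ (x c₁) * Equiv.swap (x a₁) c₁ := by
    rw [hs, Equiv.swap_inv, ← mul_assoc x, ← mul_assoc x, Equiv.mul_swap_eq_swap_mul x, hinvo,
      mul_assoc (Equiv.swap a₁ (x c₁)) x, hxx, mul_one]
  have hnd₁ : [a₁, x c₁, x a₁, c₁].Nodup := by
    simp [hac, Ne.symm ha₁, Ne.symm hca, Ne.symm hbc, hc₁, Ne.symm hcb]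
  have hct := fun {a b c d : α} (h : [a, b, c, d].Nodup) => Perm.cycleType_swap_mul_swap_of_nodup h
  have hD₁ : Good S T (Equiv.swap a₁ (x c₁) * Equiv.swap (x a₁) c₁) := by
    rw [← hprod]
    refine good_pair hT hxx (by rw [conj_mul, hxx, mul_one, mul_inv_cancel]) ?_ ?_ (k := 1) ?_
      (good_of_mem hT t.2) hgx
    · exact mem_alternatingGroup.1 (t : alternatingGroup α).2
    · rw [map_mul, map_mul, map_inv, mem_alternatingGroup.1 (t : alternatingGroup α).2, mul_one,
        mul_inv_cancel]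
    · rw [hprod, pow_one]
      have h2 : orderOf (Equiv.swap a₁ (x c₁) * Equiv.swap (x a₁) c₁) ∣ 2 := by
        rw [← Perm.lcm_cycleType, hct hnd₁]
        simp
      exact orderOf_dvd_iff_pow_eq_one.1 h2
  obtain ⟨h, hh⟩ := isConj_iff.1 (Perm.isConj_iff_cycleType_eq.2 ((hct hnd₁).trans (hct hnd).symm))
  rcases Int.units_eq_one_or (sign h) with hsh | hsh
  · rw [← hh]
    exact good_conj hD₁ ⟨h, mem_alternatingGroup.2 hsh⟩
  · set D := Equiv.swap a₁ (x c₁) * Equiv.swap (x a₁) c₁
    set τ := Equiv.swap a₁ (x c₁)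
    have hcomm : τ * D * τ⁻¹ = D := by
      rw [mul_inv_eq_iff_eq_mul]
      show τ * (τ * Equiv.swap (x a₁) c₁) = τ * Equiv.swap (x a₁) c₁ * τ
      refine (congrArg (τ * ·) (Perm.Disjoint.commute ?_).eq).trans (mul_assoc _ _ _).symm
      rw [Perm.disjoint_iff_disjoint_support, Perm.support_swap (Ne.symm hcb),
        Perm.support_swap hac]
      simp [ha₁, hac, Ne.symm hac, hbc, Ne.symm ha₁, Ne.symm hca, hc₁, Ne.symm hc₁, Ne.symm hbc, Ne.symm hcb, hca, hcb]
    have hsgn : sign (h * τ) = 1 := by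
      rw [map_mul, hsh, Perm.sign_swap hac]; rfl
    have := good_conj hD₁ ⟨h * τ, mem_alternatingGroup.2 hsgn⟩
    have e : h * τ * D * (h * τ)⁻¹ = h * D * h⁻¹ := by
      rw [_root_.mul_inv_rev, show h * τ * D * (τ⁻¹ * h⁻¹) = h * (τ * D * τ⁻¹) * h⁻¹ by group, hcomm]
    rw [← hh, ← e]
    exact this

/-- All even involutions are good. -/
theorem good_invol (hne : T ≠ ⊥) :
    ∀ (N : ℕ) (y : Perm α), y.support.card ≤ N → y * y = 1 → sign y = 1 → Good S T y := by
  classical
  intro N
  induction N with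
  | zero =>
    intro y hy _ _
    rw [Perm.support_eq_empty_iff.1 (Finset.card_eq_zero.1 (Nat.le_zero.1 hy))]
    exact good_one hT
  | succ N ih =>
    intro y hy hyy hsy
    by_cases hy1 : y = 1
    · rw [hy1]; exact good_one hT
    have hinvo : ∀ w, y (y w) = w := fun w => by rw [← Perm.mul_apply, hyy]; rfl
    obtain ⟨a, ha⟩ : ∃ w, y w ≠ w := by
      by_contra! h
      exact hy1 (Equiv.ext h)
    obtain ⟨c, hc, hca, hcb⟩ : ∃ w, y w ≠ w ∧ w ≠ a ∧ w ≠ y a := by
      by_contra! h
      have hswap : y = Equiv.swap a (y a) := Equiv.ext fun w => by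
        by_cases h1 : w = a
        · rw [h1, Equiv.swap_apply_left]
        by_cases h2 : w = y a
        · rw [h2, Equiv.swap_apply_right, hinvo]
        rw [Equiv.swap_apply_of_ne_of_ne h1 h2]
        by_contra h3
        exact h2 (h w h3 h1)
      rw [hswap, Perm.sign_swap (Ne.symm ha)] at hsy
      exact absurd hsy (by decide)
    have hac : a ≠ y c := fun h => hcb (by rw [h, hinvo])
    have hbc : y a ≠ y c := fun h => hca (y.injective h).symm
    set D := Equiv.swap a (y a) * Equiv.swap c (y c) with hD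
    have hgD : Good S T D := good_double hT hne (by
      simp [Ne.symm ha, Ne.symm hca, Ne.symm hcb, hac, hbc, Ne.symm hc])
    have hcom : ∀ u, y * Equiv.swap u (y u) = Equiv.swap u (y u) * y := fun u => by
      rw [Equiv.mul_swap_eq_swap_mul, hinvo, Equiv.swap_comm]
    have hDy : D * y = y * D := by
      rw [hD, mul_assoc, ← hcom, ← mul_assoc, ← hcom, mul_assoc]
    have hDD : D * D = 1 := by
      have hd : Equiv.swap c (y c) * Equiv.swap a (y a) = Equiv.swap a (y a) * Equiv.swap c (y c) := by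
        refine (Perm.Disjoint.commute ?_).eq
        rw [Perm.disjoint_iff_disjoint_support, Perm.support_swap (Ne.symm hc),
          Perm.support_swap (Ne.symm ha)]
        simp [hca, hcb, Ne.symm hca, Ne.symm hcb, hac, Ne.symm hac, hbc, Ne.symm hbc]
      rw [hD]
      calc Equiv.swap a (y a) * Equiv.swap c (y c) * (Equiv.swap a (y a) * Equiv.swap c (y c))
          = Equiv.swap a (y a) * (Equiv.swap c (y c) * Equiv.swap a (y a)) * Equiv.swap c (y c) := by
            group
        _ = 1 := by rw [hd, ← mul_assoc, Equiv.swap_mul_self, one_mul, Equiv.swap_mul_self]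
    set y' := D * y with hy'
    have hy'y' : y' * y' = 1 := by
      rw [hy']
      calc D * y * (D * y) = D * (y * D) * y := by group
        _ = 1 := by rw [← hDy, ← mul_assoc, hDD, one_mul, hyy]
    have hsD : sign D = 1 := by
      rw [hD, map_mul, Perm.sign_swap (Ne.symm ha), Perm.sign_swap (Ne.symm hc)]; rfl
    have hsy' : sign y' = 1 := by rw [hy', map_mul, hsD, hsy, one_mul]
    have hsupp : y'.support.card ≤ N := by
      have hsub : y'.support ⊆ y.support.erase a := by
        intro w hw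
        rw [Perm.mem_support, hy', Perm.mul_apply] at hw
        have hwa : w ≠ a := by
          rintro rfl
          apply hw
          rw [hD, Perm.mul_apply, Equiv.swap_apply_of_ne_of_ne (Ne.symm hcb) hbc,
            Equiv.swap_apply_right]
        refine Finset.mem_erase.2 ⟨hwa, Perm.mem_support.2 fun h => hw ?_⟩
        rw [h, hD, Perm.mul_apply]
        have h1 : w ≠ y a := fun e => hwa (by rw [← h, e, hinvo])
        have h2 : w ≠ c := fun e => hc (e ▸ h)
        have h3 : w ≠ y c := fun e => h2 (by rw [← h, e, hinvo])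
        rw [Equiv.swap_apply_of_ne_of_ne h2 h3, Equiv.swap_apply_of_ne_of_ne hwa h1]
      have := Finset.card_le_card hsub
      rw [Finset.card_erase_of_mem (Perm.mem_support.2 ha)] at this
      omega
    have heq : y = D * y' := by rw [hy', ← mul_assoc, hDD, one_mul]
    rw [heq]
    exact good_pair hT hDD hy'y' hsD hsy' (k := 1) (by rw [← heq, pow_one, pow_two, hyy]) hgD
      (ih y' hsupp hy'y' hsy')

theorem closed_top_two (hne : T ≠ ⊥) : T = (S : Subgroup (alternatingGroup α)) := by
  refine le_antisymm hT.1 fun s hs => ?_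
  obtain ⟨e, he⟩ := S.2 ⟨s, hs⟩
  have he' : (s : Perm α) ^ 2 ^ e = 1 :=
    congrArg (fun z => ((z : alternatingGroup α) : Perm α)) (congrArg Subtype.val he)
  obtain ⟨r, h1, h2, h3, h4⟩ := exists_involutions (mem_alternatingGroup.1 s.2) he'
  have hrs : r * (r * (s : Perm α)) = (s : Perm α) := by rw [← mul_assoc, h1, one_mul]
  have := good_pair hT h1 h2 h3 h4 (k := e) (by rw [hrs]; exact he')
    (good_invol hT hne _ r le_rfl h1 h3) (good_invol hT hne _ _ le_rfl h2 h4)
  rw [hrs] at this
  have := this s rfl 1 (by rwa [one_mul, inv_one, mul_one])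
  rwa [one_mul, inv_one, mul_one] at this

end Cfsg.Agent.AltFusionTwo
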