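import Cfsg.Agent.Lib.AltDoubleCover
import Cfsg.Prelude.Def_KGroupFacts

/-!
The pullback of the double cover of an alternating group to a perfect group of even permutations is
a stem extension as soon as an involution of the group is a product of twice an odd number of
transpositions.
-/

set_option autoImplicit false

namespace Cfsg.Agent.AltPullbackCover

open Cfsg Cfsg.Agent.AltDoubleCover

variable {n : ℕ}

/-- four points in two pairs -/
def okQ (q : Fin n × Fin n × Fin n × Fin n) : Prop :=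
  q.1 ≠ q.2.1 ∧ q.2.2.1 ≠ q.2.2.2 ∧ q.1 ≠ q.2.2.1 ∧ q.1 ≠ q.2.2.2 ∧ q.2.1 ≠ q.2.2.1 ∧ q.2.1 ≠ q.2.2.2

instance (q : Fin n × Fin n × Fin n × Fin n) : Decidable (okQ q) := by unfold okQ; infer_instance

/-- two blocks of four points are disjoint -/
def apartQ (q r : Fin n × Fin n × Fin n × Fin n) : Prop :=
  ((q.1 ≠ r.1 ∧ q.1 ≠ r.2.1 ∧ q.2.1 ≠ r.1 ∧ q.2.1 ≠ r.2.1) ∧
    (q.1 ≠ r.2.2.1 ∧ q.1 ≠ r.2.2.2 ∧ q.2.1 ≠ r.2.2.1 ∧ q.2.1 ≠ r.2.2.2)) ∧
  ((q.2.2.1 ≠ r.1 ∧ q.2.2.1 ≠ r.2.1 ∧ q.2.2.2 ≠ r.1 ∧ q.2.2.2 ≠ r.2.1) ∧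
    (q.2.2.1 ≠ r.2.2.1 ∧ q.2.2.1 ≠ r.2.2.2 ∧ q.2.2.2 ≠ r.2.2.1 ∧ q.2.2.2 ≠ r.2.2.2))

instance (q r : Fin n × Fin n × Fin n × Fin n) : Decidable (apartQ q r) := by
  unfold apartQ; infer_instance

/-- the lift of a block -/
def liftQ (q : Fin n × Fin n × Fin n × Fin n) : cover n :=
  if h : okQ q then pairLift q.1 q.2.1 q.2.2.1 q.2.2.2 h.1 h.2.1 else 1

/-- the permutation of a block -/
def permQ (q : Fin n × Fin n × Fin n × Fin n) : Equiv.Perm (Fin n) :=
  Equiv.swap q.1 q.2.1 * Equiv.swap q.2.2.1 q.2.2.2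

theorem sq_mul {G : Type*} [Group G] {a b u v : G} (h : Commute a b) (ha : a * a = u)
    (hb : b * b = v) : a * b * (a * b) = u * v := by
  rw [← ha, ← hb, mul_assoc, ← mul_assoc b, ← h.eq, mul_assoc a b b, ← mul_assoc a a]

theorem liftQ_prod : ∀ l : List (Fin n × Fin n × Fin n × Fin n), (∀ q ∈ l, okQ q) →
    l.Pairwise apartQ →
    (l.map liftQ).prod * (l.map liftQ).prod = z n ^ l.length ∧
      ((proj n (l.map liftQ).prod : alternatingGroup (Fin n)) : Equiv.Perm (Fin n)) =
        (l.map permQ).prod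
  | [], _, _ => by simp
  | q :: l, hok, hp => by
    obtain ⟨hq, hl⟩ := List.pairwise_cons.1 hp
    obtain ⟨ih1, ih2⟩ := liftQ_prod l (fun r hr => hok r (List.mem_cons_of_mem _ hr)) hl
    have hqq : okQ q := hok q List.mem_cons_self
    have hcomm : Commute (liftQ q) (l.map liftQ).prod := by
      refine Commute.list_prod_right _ _ fun y hy => ?_
      obtain ⟨r, hr, rfl⟩ := List.mem_map.1 hy
      have hrr : okQ r := hok r (List.mem_cons_of_mem _ hr)
      simp only [liftQ, dif_pos hqq, dif_pos hrr]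
      exact pairLift_comm _ _ _ _ (hq r hr).1.1 (hq r hr).1.2 (hq r hr).2.1 (hq r hr).2.2
    have hsq : liftQ q * liftQ q = z n := by
      simp only [liftQ, dif_pos hqq]
      exact pairLift_sq _ _ ⟨hqq.2.2.1, hqq.2.2.2.1, hqq.2.2.2.2.1, hqq.2.2.2.2.2⟩
    rw [List.map_cons, List.prod_cons, List.map_cons, List.prod_cons, List.length_cons]
    generalize (l.map liftQ).prod = P at hcomm ih1 ih2 ⊢
    constructor
    · rw [sq_mul hcomm hsq ih1, ← pow_succ']
    · rw [map_mul, Subgroup.coe_mul, ih2]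
      simp only [liftQ, dif_pos hqq, permQ]
      rw [proj_pairLift]

variable (H : Subgroup (Equiv.Perm (Fin n))) (hs : ∀ g ∈ H, Equiv.Perm.sign g = 1)

/-- the embedding in the alternating group -/
noncomputable def emb : H →* alternatingGroup (Fin n) :=
  H.subtype.codRestrict _ fun g => Equiv.Perm.mem_alternatingGroup.2 (hs g g.2)

/-- the extension -/
noncomputable def Ext : Subgroup (cover n) := (emb H hs).range.comap (proj n)

/-- its map onto the group -/
noncomputable def down : Ext H hs →* H :=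
  ((alternatingGroup (Fin n)).subtype.comp ((proj n).comp (Ext H hs).subtype)).codRestrict H fun x => by
    obtain ⟨g, hg⟩ := x.2
    show ((proj n (x : cover n) : alternatingGroup (Fin n)) : Equiv.Perm (Fin n)) ∈ H
    rw [← hg]
    exact g.2

theorem down_coe (x : Ext H hs) :
    ((down H hs x : H) : Equiv.Perm (Fin n)) = (proj n (x : cover n) : alternatingGroup (Fin n)) := rfl

include hs in
/-- The pullback is a stem extension with kernel of order two. -/
theorem exists_cover [Finite (cover n)] (hperf : commutator H = ⊤) (g : H) (hg : g * g = 1)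
    (l : List (Fin n × Fin n × Fin n × Fin n)) (hok : ∀ q ∈ l, okQ q) (hap : l.Pairwise apartQ)
    (hodd : Odd l.length) (hgl : (g : Equiv.Perm (Fin n)) = (l.map permQ).prod) :
    ∃ (Γ : Type) (_ : Group Γ) (_ : Finite Γ) (σ : Γ →* H),
      Cfsg.IsStemExtension σ ∧ Nonempty (σ.ker ≃* Multiplicative (ZMod 2)) := by
  have hzmem : z n ∈ Ext H hs := by
    show proj n (z n) ∈ (emb H hs).range
    rw [proj_z]; exact one_mem _
  have hker : ∀ x : Ext H hs, x ∈ (down H hs).ker ↔ x = 1 ∨ x = ⟨z n, hzmem⟩ := by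
    intro x
    rw [MonoidHom.mem_ker, ← Subtype.coe_inj (a := down H hs x), down_coe, OneMemClass.coe_one,
      OneMemClass.coe_eq_one]
    constructor
    · intro h
      rcases eq_one_or_z h with h | h
      · exact Or.inl (Subtype.ext h)
      · exact Or.inr (Subtype.ext h)
    · rintro (rfl | rfl)
      · exact map_one _
      · exact proj_z n
  have hsurj : Function.Surjective (down H hs) := by
    intro a
    obtain ⟨c, hc⟩ := proj_surjective n (emb H hs a)
    refine ⟨⟨c, ⟨a, hc.symm⟩⟩, Subtype.ext ?_⟩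
    rw [down_coe]
    show ((proj n c : alternatingGroup (Fin n)) : Equiv.Perm (Fin n)) = _
    rw [hc]
    rfl
  have hzc : (⟨z n, hzmem⟩ : Ext H hs) ∈ commutator (Ext H hs) := by
    by_contra hz
    -- otherwise the commutator subgroup maps isomorphically onto the group
    have hdis : ∀ x ∈ commutator (Ext H hs), x ∈ (down H hs).ker → x = 1 := fun x hx hk =>
      ((hker x).1 hk).resolve_right fun e => hz (e ▸ hx)
    have hmap : (commutator (Ext H hs)).map (down H hs) = ⊤ := by
      rw [commutator_def, Subgroup.map_commutator, Subgroup.map_top_of_surjective _ hsurj,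
        ← commutator_def, hperf]
    obtain ⟨u, hu, hue⟩ : g ∈ (commutator (Ext H hs)).map (down H hs) := hmap ▸ Subgroup.mem_top _
    have husq : u * u = 1 := hdis _ (mul_mem hu hu) (by
      rw [MonoidHom.mem_ker, map_mul, hue, hg])
    obtain ⟨h1, h2⟩ := liftQ_prod l hok hap
    have hproj : proj n (u : cover n) = proj n (l.map liftQ).prod := by
      apply Subtype.ext
      rw [h2, ← down_coe H hs u, hue, hgl]
    obtain ⟨k, hk⟩ := hodd
    rw [hk, pow_succ, pow_mul, pow_two, z_sq, one_pow, one_mul] at h1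
    generalize (l.map liftQ).prod = a at h1 hproj
    have hd : proj n ((u : cover n) * a⁻¹) = 1 := by rw [map_mul, map_inv, hproj, mul_inv_cancel]
    have hsq : ((u : cover n) * (u : cover n)) = z n := by
      rcases eq_one_or_z hd with h | h
      · rw [mul_inv_eq_one] at h; rw [h, h1]
      · rw [mul_inv_eq_iff_eq_mul] at h
        rw [h, mul_assoc, ← mul_assoc a, Subgroup.mem_center_iff.1 (z_mem_center n) a,
          mul_assoc (z n) a a, h1, ← mul_assoc, z_sq, one_mul]
    exact z_ne_one n (hsq.symm.trans (congrArg Subtype.val husq))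
  have hcard : Nat.card (down H hs).ker = 2 := by
    rw [Nat.card_eq_two_iff]
    refine ⟨⟨1, (hker 1).2 (Or.inl rfl)⟩, ⟨⟨z n, hzmem⟩, (hker _).2 (Or.inr rfl)⟩, fun h => ?_,
      Set.eq_univ_of_forall fun x => ?_⟩
    · exact z_ne_one n (congrArg (fun x : (down H hs).ker => ((x : Ext H hs) : cover n)) h).symm
    · rcases (hker (x : Ext H hs)).1 x.2 with h | h
      · exact Or.inl (Subtype.ext h)
      · exact Or.inr (Subtype.ext h)
  refine ⟨Ext H hs, inferInstance, inferInstance, down H hs, ⟨hsurj, ?_, ?_⟩, ?_⟩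
  · intro x hx
    rw [Subgroup.mem_center_iff]
    intro a
    rcases (hker x).1 hx with rfl | rfl
    · rw [mul_one, one_mul]
    · exact Subtype.ext (Subgroup.mem_center_iff.1 (z_mem_center n) a)
  · intro x hx
    rcases (hker x).1 hx with rfl | rfl
    · exact one_mem _
    · exact hzc
  · haveI : IsCyclic (down H hs).ker := isCyclic_of_prime_card hcard
    exact ⟨mulEquivOfCyclicCardEq (by
      rw [hcard, show Nat.card (Multiplicative (ZMod 2)) = 2 from Nat.card_zmod 2])⟩

end Cfsg.Agent.AltPullbackCover
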