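import Mathlib

/-!
The degree bound for a representation in which disjoint three-cycles fix each other's commutator spaces.
-/

set_option autoImplicit false
set_option linter.unusedSectionVars false
set_option linter.unusedVariables false
set_option linter.unusedSimpArgs false

namespace Cfsg.Agent.AltSection95

open Equiv Module

variable {k V G : Type*} [Field k] [AddCommGroup V] [Module k V] [Group G] {r : ℕ}

/-- The commutator space of `g`. -/
def R (ρ : Representation k G V) (g : G) : Submodule k V := LinearMap.range (ρ g - 1)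

section basic

variable (ρ : Representation k G V)

theorem mem_R (g : G) (v : V) : ρ g v - v ∈ R ρ g := ⟨v, rfl⟩

theorem R_le {g : G} {W : Submodule k V} (h : ∀ v, ρ g v - v ∈ W) : R ρ g ≤ W := by
  rintro _ ⟨v, rfl⟩
  exact h v

theorem R_mul (g h : G) : R ρ (g * h) ≤ R ρ g ⊔ R ρ h := R_le ρ fun v => by
  rw [map_mul, Module.End.mul_apply, show ρ g (ρ h v) - v = (ρ g (ρ h v) - ρ h v) + (ρ h v - v) by abel]
  exact Submodule.add_mem_sup (mem_R ρ g _) (mem_R ρ h v)

theorem R_inv (g : G) : R ρ g⁻¹ = R ρ g := by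
  have key : ∀ g : G, R ρ g⁻¹ ≤ R ρ g := fun g => R_le ρ fun v => by
    have := (R ρ g).neg_mem (mem_R ρ g (ρ g⁻¹ v))
    rwa [← Module.End.mul_apply, ← map_mul, mul_inv_cancel, map_one, Module.End.one_apply, neg_sub] at this
  exact le_antisymm (key g) (by simpa using key g⁻¹)

theorem R_conj (h g : G) : R ρ (h * g * h⁻¹) = (R ρ g).map (ρ h) := by
  refine le_antisymm (R_le ρ fun v => ⟨_, mem_R ρ g (ρ h⁻¹ v), ?_⟩) ?_
  · simp only [map_sub, map_mul, Module.End.mul_apply]
    congr 1
    rw [← Module.End.mul_apply, ← map_mul, mul_inv_cancel, map_one, Module.End.one_apply]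
  · rintro _ ⟨_, ⟨v, rfl⟩, rfl⟩
    refine ⟨ρ h v, ?_⟩
    simp only [LinearMap.sub_apply, Module.End.one_apply, map_sub, map_mul, Module.End.mul_apply]
    congr 1
    rw [← Module.End.mul_apply (ρ h⁻¹), ← map_mul ρ h⁻¹, inv_mul_cancel, map_one, Module.End.one_apply]

theorem stable_of_R_le {g : G} {W : Submodule k V} (h : R ρ g ≤ W) {w : V} (hw : w ∈ W) : ρ g w ∈ W := by
  simpa using W.add_mem (h (mem_R ρ g w)) hw

theorem R_pow (g : G) : ∀ n : ℕ, R ρ (g ^ n) ≤ R ρ g
  | 0 => R_le ρ fun v => by simp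
  | n + 1 => by
      rw [pow_succ]
      exact (R_mul ρ _ _).trans (sup_le (R_pow g n) le_rfl)

end basic

/-- The data of the argument: a lift of a three-cycle for every three-element set. -/
structure ChainData (ρ : Representation k G V) (φ : G →* alternatingGroup (Fin r))
    (y : Finset (Fin r) → G) : Prop where
  cover : ∀ T : Finset (Fin r), T.card = 3 → ∀ a ∈ T, ∀ b ∈ T, ∃ n : ℕ, (φ (y T ^ n) : Perm (Fin r)) a = b
  fixed : ∀ T : Finset (Fin r), T.card = 3 → ∀ x, x ∉ T → ∀ n : ℕ, (φ (y T ^ n) : Perm (Fin r)) x = x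
  free : ∀ T : Finset (Fin r), T.card = 3 → ∀ a ∈ T, ∀ n : ℕ, (φ (y T ^ n) : Perm (Fin r)) a = a →
    ∀ x, (φ (y T ^ n) : Perm (Fin r)) x = x
  equiv : ∀ (h : G) (T : Finset (Fin r)), T.card = 3 →
    h * y T * h⁻¹ = y (T.image (φ h : Perm (Fin r))) ∨ h * y T * h⁻¹ = (y (T.image (φ h : Perm (Fin r))))⁻¹
  disjoint : ∀ T T' : Finset (Fin r), T.card = 3 → T'.card = 3 → Disjoint T T' →
    ∀ v, ρ (y T') (ρ (y T) v - v) = ρ (y T) v - v
  two_le : ∀ T : Finset (Fin r), T.card = 3 → 2 ≤ finrank k (R ρ (y T))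

section chain

variable (ρ : Representation k G V) (φ : G →* alternatingGroup (Fin r)) (y : Finset (Fin r) → G)

/-- The sum of the commutator spaces of the three-cycles inside `S`. -/
def U (S : Finset (Fin r)) : Submodule k V := ⨆ T ∈ S.powersetCard 3, R ρ (y T)

variable {ρ φ y}

theorem le_U {S T : Finset (Fin r)} (h : T ⊆ S) (hT : T.card = 3) : R ρ (y T) ≤ U ρ y S :=
  le_biSup (fun T => R ρ (y T)) (Finset.mem_powersetCard.2 ⟨h, hT⟩)

theorem U_le {S : Finset (Fin r)} {W : Submodule k V} (h : ∀ T ⊆ S, T.card = 3 → R ρ (y T) ≤ W) : U ρ y S ≤ W :=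
  iSup₂_le fun T hT => h T (Finset.mem_powersetCard.1 hT).1 (Finset.mem_powersetCard.1 hT).2

theorem U_mono {S S' : Finset (Fin r)} (h : S ⊆ S') : U ρ y S ≤ U ρ y S' :=
  U_le fun _ hT hc => le_U (hT.trans h) hc

variable (D : ChainData ρ φ y)

include D

theorem R_image (h : G) {T : Finset (Fin r)} (hT : T.card = 3) :
    R ρ (y (T.image (φ h : Perm (Fin r)))) = (R ρ (y T)).map (ρ h) := by
  rcases D.equiv h T hT with e | e
  · rw [← R_conj, e]
  · rw [← R_conj, e, R_inv]

theorem map_U_le (h : G) (S : Finset (Fin r)) :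
    (U ρ y S).map (ρ h) ≤ U ρ y (S.image (φ h : Perm (Fin r))) := by
  rw [Submodule.map_le_iff_le_comap]
  refine U_le fun T hT hc => ?_
  rw [← Submodule.map_le_iff_le_comap, ← R_image D h hc]
  exact le_U (Finset.image_subset_image hT) (by rw [Finset.card_image_of_injective _ (Equiv.injective _), hc])

omit D in
theorem card_image_perm (g : Perm (Fin r)) (S : Finset (Fin r)) : (S.image g).card = S.card :=
  Finset.card_image_of_injective _ g.injective

/-- The moves inside three-element sets. -/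
theorem R_move {W : Submodule k V} {A B : Finset (Fin r)} (hA : A.card = 3) (hB : B.card = 3)
    (hAW : R ρ (y A) ≤ W) (hBW : R ρ (y B) ≤ W) (n : ℕ) :
    R ρ (y (B.image (φ (y A ^ n) : Perm (Fin r)))) ≤ W := by
  rw [R_image D _ hB, Submodule.map_le_iff_le_comap]
  exact fun w hw => stable_of_R_le ρ ((R_pow ρ _ n).trans hAW) (hBW hw)

omit D in
theorem card_three {a b c : Fin r} (hab : a ≠ b) (hac : a ≠ c) (hbc : b ≠ c) :
    ({a, b, c} : Finset (Fin r)).card = 3 := Finset.card_eq_three.2 ⟨a, b, c, hab, hac, hbc, rfl⟩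

/-- All three-cycles inside `S` are reached from those through two of its points. -/
theorem star {S : Finset (Fin r)} {W : Submodule k V} {a b : Fin r} (hab : a ≠ b)
    (h : ∀ c ∈ S, c ≠ a → c ≠ b → R ρ (y {a, b, c}) ≤ W) : U ρ y S ≤ W := by
  -- two outside points
  have h2 : ∀ a b : Fin r, a ≠ b → (∀ c ∈ S, c ≠ a → c ≠ b → R ρ (y {a, b, c}) ≤ W) → ∀ v ∈ S, ∀ w ∈ S,
      v ≠ a → v ≠ b → w ≠ a → w ≠ b → v ≠ w → R ρ (y {b, v, w}) ≤ W := by
    intro a b hab h v hv w hw va vb wa wb vw
    have hA := card_three hab va.symm vb.symm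
    obtain ⟨n, hn⟩ := D.cover _ hA b (by simp) v (by simp)
    set σ := (φ (y {a, b, v} ^ n) : Perm (Fin r))
    have hσw : σ w = w := D.fixed _ hA w (by simp [wa, wb, vw.symm]) n
    have hσa : σ a = b := by
      have hne : σ a ≠ a := fun e => vb (hn ▸ D.free _ hA a (by simp) n e b)
      have hne' : σ a ≠ v := fun e => hab (σ.injective (e.trans hn.symm))
      have hmem : σ a ∈ ({a, b, v} : Finset (Fin r)) := by
        by_contra hx
        exact hne (σ.injective (D.fixed _ hA _ hx n))
      simp only [Finset.mem_insert, Finset.mem_singleton] at hmem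
      tauto
    have := R_move D hA (card_three hab wa.symm wb.symm) (h v hv va vb) (h w hw wa wb) n
    rwa [show ({a, b, w} : Finset (Fin r)).image σ = {b, v, w} by simp [hσa, hn, hσw]] at this
  have hswap : ∀ c ∈ S, c ≠ b → c ≠ a → R ρ (y {b, a, c}) ≤ W := fun c hc h1 h3 => by
    rw [Finset.insert_comm]; exact h c hc h3 h1
  -- three outside points
  have h3 : ∀ u ∈ S, ∀ v ∈ S, ∀ w ∈ S, u ≠ a → u ≠ b → v ≠ a → v ≠ b → w ≠ a → w ≠ b → u ≠ v → u ≠ w → v ≠ w →
      R ρ (y {u, v, w}) ≤ W := by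
    intro u hu v hv w hw ua ub va vb wa wb uv uw vw
    have hA := card_three hab ua.symm ub.symm
    obtain ⟨n, hn⟩ := D.cover _ hA a (by simp) u (by simp)
    set σ := (φ (y {a, b, u} ^ n) : Perm (Fin r))
    have hσv : σ v = v := D.fixed _ hA v (by simp [va, vb, uv.symm]) n
    have hσw : σ w = w := D.fixed _ hA w (by simp [wa, wb, uw.symm]) n
    have := R_move D hA (card_three va.symm wa.symm vw) (h u hu ua ub)
      (h2 b a hab.symm hswap v hv w hw vb va wb wa vw) n
    rwa [show ({a, v, w} : Finset (Fin r)).image σ = {u, v, w} by simp [hn, hσv, hσw]] at this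
  refine U_le fun T hT hc => ?_
  by_cases ha : a ∈ T
  · by_cases hb : b ∈ T
    · obtain ⟨c, hc'⟩ : ∃ c, ((T.erase a).erase b) = {c} := Finset.card_eq_one.1 (by
        rw [Finset.card_erase_of_mem (by simp [hab.symm, hb]), Finset.card_erase_of_mem ha, hc])
      have hT' : T = {a, b, c} := by
        rw [← hc', Finset.insert_erase (by simp [hab.symm, hb]), Finset.insert_erase ha]
      have : c ∈ (T.erase a).erase b := by rw [hc']; simp
      simp only [Finset.mem_erase] at this
      rw [hT']; exact h c (hT this.2.2) this.2.1 this.1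
    · obtain ⟨v, w, hvw, e⟩ := Finset.card_eq_two.1 (show (T.erase a).card = 2 by
        rw [Finset.card_erase_of_mem ha, hc])
      have hv : v ∈ T.erase a := by rw [e]; simp
      have hw : w ∈ T.erase a := by rw [e]; simp
      rw [Finset.mem_erase] at hv hw
      rw [← Finset.insert_erase ha, e]
      exact h2 b a hab.symm hswap v (hT hv.2) w (hT hw.2) (fun x => hb (x ▸ hv.2)) hv.1
        (fun x => hb (x ▸ hw.2)) hw.1 hvw
  · by_cases hb : b ∈ T
    · obtain ⟨v, w, hvw, e⟩ := Finset.card_eq_two.1 (show (T.erase b).card = 2 by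
        rw [Finset.card_erase_of_mem hb, hc])
      have hv : v ∈ T.erase b := by rw [e]; simp
      have hw : w ∈ T.erase b := by rw [e]; simp
      rw [Finset.mem_erase] at hv hw
      rw [← Finset.insert_erase hb, e]
      exact h2 a b hab h v (hT hv.2) w (hT hw.2) (fun x => ha (x ▸ hv.2)) hv.1
        (fun x => ha (x ▸ hw.2)) hw.1 hvw
    · obtain ⟨u, v, w, huv, huw, hvw, rfl⟩ := Finset.card_eq_three.1 hc
      simp only [Finset.mem_insert, Finset.mem_singleton, not_or] at ha hb
      exact h3 u (hT (by simp)) v (hT (by simp)) w (hT (by simp)) (Ne.symm ha.1) (Ne.symm hb.1)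
        (Ne.symm ha.2.1) (Ne.symm hb.2.1) (Ne.symm ha.2.2) (Ne.symm hb.2.2) huv huw hvw

variable (hφ : Function.Surjective φ) (hr : 9 ≤ r) [FiniteDimensional k V]
  (hirr : ∀ W : Submodule k V, (∀ g, ∀ w ∈ W, ρ g w ∈ W) → W = ⊥ ∨ W = ⊤)

include hφ hirr

omit D in
theorem exists_fix_set {S : Finset (Fin r)} {m v : Fin r} (hS : 2 ≤ S.card) (hm : m ∉ S) (hv : v ∉ S) :
    ∃ h : G, S.image (φ h : Perm (Fin r)) = S ∧ (φ h : Perm (Fin r)) m = v := by
  obtain ⟨a, ha, b, hb, hab⟩ := Finset.one_lt_card.1 hS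
  by_cases hmv : m = v
  · exact ⟨1, by simp, by simp [hmv]⟩
  obtain ⟨h, hh⟩ := hφ ⟨Equiv.swap a b * Equiv.swap m v, Equiv.Perm.mem_alternatingGroup.2 (by
    rw [map_mul, Equiv.Perm.sign_swap hab, Equiv.Perm.sign_swap hmv]; rfl)⟩
  have hav : a ≠ v := fun e => hv (e ▸ ha)
  have hbv : b ≠ v := fun e => hv (e ▸ hb)
  refine ⟨h, ?_, by simp [hh, Equiv.swap_apply_of_ne_of_ne hav.symm hbv.symm]⟩
  refine Finset.eq_of_subset_of_card_le (fun x hx => ?_) (by rw [card_image_perm])
  obtain ⟨z, hz, rfl⟩ := Finset.mem_image.1 hx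
  have hzm : z ≠ m := fun e => hm (e ▸ hz)
  have hzv : z ≠ v := fun e => hv (e ▸ hz)
  rw [hh]
  simp only [Equiv.Perm.mul_apply, Equiv.swap_apply_of_ne_of_ne hzm hzv]
  rcases eq_or_ne z a with rfl | hza
  · simpa using hb
  rcases eq_or_ne z b with rfl | hzb
  · simpa using ha
  · rwa [Equiv.swap_apply_of_ne_of_ne hza hzb]

theorem U_ne_bot {S : Finset (Fin r)} (hS : 3 ≤ S.card) : U ρ y S ≠ ⊥ := by
  obtain ⟨T, hTS, hT⟩ := Finset.exists_subset_card_eq hS
  intro e
  have := D.two_le T hT
  have h0 : R ρ (y T) = ⊥ := eq_bot_iff.2 ((le_U hTS hT).trans e.le)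
  rw [h0, finrank_bot] at this
  omega

include hr in
theorem strict {S : Finset (Fin r)}
    (hS : 3 ≤ S.card) (hS' : S.card + 3 ≤ r) {m : Fin r} (hm : m ∉ S) : U ρ y S < U ρ y (insert m S) := by
  classical
  refine lt_of_le_of_ne (U_mono (Finset.subset_insert m S)) fun e => ?_
  obtain ⟨a, ha, b, hb, hab⟩ := Finset.one_lt_card.1 (show 1 < S.card by omega)
  have hle : ∀ c, c ≠ a → c ≠ b → R ρ (y {a, b, c}) ≤ U ρ y S := by
    intro c hca hcb
    by_cases hc : c ∈ S
    · exact le_U (by simp [Finset.insert_subset_iff, ha, hb, hc]) (card_three hab hca.symm hcb.symm)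
    obtain ⟨h, hSh, hmc⟩ := exists_fix_set hφ hirr (by omega) hm hc
    have h1 : R ρ (y {a, b, c}) ≤ U ρ y (insert c S) :=
      le_U (by simp [Finset.insert_subset_iff, ha, hb]) (card_three hab hca.symm hcb.symm)
    have h2 : U ρ y (insert c S) ≤ (U ρ y (insert m S)).map (ρ h) := by
      have h3 := map_U_le D h⁻¹ (insert c S)
      have : (insert c S).image (φ h⁻¹ : Perm (Fin r)) = insert m S := by
        have hinv : ∀ x, (φ h⁻¹ : Perm (Fin r)) ((φ h : Perm (Fin r)) x) = x := fun x => by simp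
        conv_lhs => rw [← hSh, ← hmc, ← Finset.image_insert, Finset.image_image]
        rw [show ((φ h⁻¹ : Perm (Fin r)) ∘ (φ h : Perm (Fin r))) = id from funext hinv, Finset.image_id]
      rw [this] at h3
      intro w hw
      refine ⟨ρ h⁻¹ w, h3 ⟨w, hw, rfl⟩, ?_⟩
      rw [← Module.End.mul_apply, ← map_mul, mul_inv_cancel, map_one, Module.End.one_apply]
    rw [← e] at h2
    have h4 := map_U_le D h S
    rw [hSh] at h4
    exact h1.trans (h2.trans h4)
  have hall : ∀ T : Finset (Fin r), T.card = 3 → R ρ (y T) ≤ U ρ y S := fun T hT =>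
    (le_U (Finset.subset_univ T) hT).trans (star D (S := Finset.univ) hab fun c _ h1 h2 => hle c h1 h2)
  have htop : U ρ y S = ⊤ := by
    refine (hirr _ fun g w hw => ?_).resolve_left (U_ne_bot D hφ hirr hS)
    have h5 := map_U_le D g S
    exact (U_le fun T _ hT => hall T hT) (h5 ⟨w, hw, rfl⟩)
  obtain ⟨u, hu, huc⟩ := Finset.exists_subset_card_eq (s := Sᶜ) (n := 3) (by
    rw [Finset.card_compl, Fintype.card_fin]; omega)
  have hker : U ρ y S ≤ LinearMap.ker (ρ (y u) - 1) := U_le fun T hT hc => by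
    rintro _ ⟨v, rfl⟩
    simp only [LinearMap.mem_ker, LinearMap.sub_apply, Module.End.one_apply, sub_eq_zero]
    exact D.disjoint T u hc huc (Finset.disjoint_left.2 fun x hx hxu => Finset.mem_compl.1 (hu hxu) (hT hx)) v
  rw [htop] at hker
  have := D.two_le u huc
  rw [R, show ρ (y u) - 1 = 0 from LinearMap.ker_eq_top.1 (top_le_iff.1 hker), LinearMap.range_zero,
    finrank_bot] at this
  omega

include hr

theorem U_add_le {S S' : Finset (Fin r)} (hS : 3 ≤ S.card) (h : S ⊆ S') (hS' : S'.card + 2 ≤ r) :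
    finrank k (U ρ y S) + (S'.card - S.card) ≤ finrank k (U ρ y S') := by
  classical
  induction hn : S'.card - S.card generalizing S with
  | zero => simpa using Submodule.finrank_mono (U_mono (ρ := ρ) (y := y) h)
  | succ n ih =>
    obtain ⟨m, hm', hm⟩ := Finset.exists_of_ssubset (Finset.ssubset_iff_subset_ne.2 ⟨h, fun e => by
      rw [e] at hn; omega⟩)
    have hc := Finset.card_le_card h
    have := ih (S := insert m S) (by rw [Finset.card_insert_of_notMem hm]; omega)
      (Finset.insert_subset hm' h) (by rw [Finset.card_insert_of_notMem hm]; omega)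
    have := Submodule.finrank_lt_finrank_of_lt (strict D hφ hr hirr hS (by omega) hm)
    omega

theorem le_finrank_U {S : Finset (Fin r)} (hS : 3 ≤ S.card) (hS' : S.card + 2 ≤ r) :
    S.card ≤ finrank k (U ρ y S) + 1 := by
  obtain ⟨T, hTS, hT⟩ := Finset.exists_subset_card_eq hS
  have h1 := U_add_le D hφ hr hirr hT.ge hTS hS'
  have h2 := (D.two_le T hT).trans (Submodule.finrank_mono (le_U (ρ := ρ) (y := y) (subset_refl T) hT))
  omega

theorem finrank_U_le {S : Finset (Fin r)} (hS : 3 ≤ S.card) (hS' : S.card + 3 ≤ r) :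
    finrank k (U ρ y S) + (r - 3 - S.card) + 2 ≤ finrank k V := by
  classical
  obtain ⟨T, hT, hTc⟩ := Finset.exists_subset_card_eq (s := Sᶜ) (n := 3) (by
    rw [Finset.card_compl, Fintype.card_fin]; omega)
  have hsub : S ⊆ Tᶜ := fun x hx => Finset.mem_compl.2 fun hxT => Finset.mem_compl.1 (hT hxT) hx
  have hc : (Tᶜ).card = r - 3 := by rw [Finset.card_compl, Fintype.card_fin, hTc]
  have h1 := U_add_le D hφ hr hirr hS hsub (by omega)
  have hker : U ρ y Tᶜ ≤ LinearMap.ker (ρ (y T) - 1) := U_le fun T' hT' hc' => by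
    rintro _ ⟨v, rfl⟩
    simp only [LinearMap.mem_ker, LinearMap.sub_apply, Module.End.one_apply, sub_eq_zero]
    exact D.disjoint T' T hc' hTc (Finset.disjoint_left.2 fun x hx hxT => Finset.mem_compl.1 (hT' hx) hxT) v
  have h2 := LinearMap.finrank_range_add_finrank_ker (ρ (y T) - 1)
  have h3 := D.two_le T hTc
  have h4 := Submodule.finrank_mono hker
  rw [R] at h3
  omega

theorem finrank_U_eq (hn : finrank k V + 2 ≤ r) {S : Finset (Fin r)} (hS : 3 ≤ S.card) (hS' : S.card ≤ 5) :
    finrank k (U ρ y S) + 1 = S.card := by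
  have := le_finrank_U D hφ hr hirr hS (by omega)
  have := finrank_U_le D hφ hr hirr hS (by omega)
  omega


/-- The line `L a b`. -/
def Line (ρ : Representation k G V) (y : Finset (Fin r) → G) (a b : Fin r) : Submodule k V :=
  ⨅ (c : Fin r) (_ : c ≠ a) (_ : c ≠ b), R ρ (y {a, b, c})

omit D hφ hr hirr in
theorem Line_le {a b c : Fin r} (hca : c ≠ a) (hcb : c ≠ b) : Line ρ y a b ≤ R ρ (y {a, b, c}) :=
  iInf_le_of_le c (iInf_le_of_le hca (iInf_le _ hcb))

omit D hφ hr hirr in
theorem Line_comm (a b : Fin r) : Line ρ y a b = Line ρ y b a := by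
  have key : ∀ a b : Fin r, Line ρ y a b ≤ Line ρ y b a := fun a b => by
    refine le_iInf fun c => le_iInf fun h1 => le_iInf fun h2 => ?_
    rw [Finset.insert_comm]
    exact Line_le h2 h1
  exact le_antisymm (key a b) (key b a)

omit D hφ hr hirr in
theorem U_triple {T : Finset (Fin r)} (hT : T.card = 3) : U ρ y T = R ρ (y T) :=
  le_antisymm (U_le fun T' h hc => by rw [Finset.eq_of_subset_of_card_le h (by omega)]) (le_U (subset_refl _) hT)

section lines

variable (hn : finrank k V + 2 ≤ r)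

include hn

theorem finrank_R {T : Finset (Fin r)} (hT : T.card = 3) : finrank k (R ρ (y T)) = 2 := by
  have := finrank_U_eq D hφ hr hirr hn hT.ge (by omega)
  rw [U_triple hT] at this
  omega

theorem finrank_inf {a b c d : Fin r} (hab : a ≠ b) (hac : a ≠ c) (had : a ≠ d) (hbc : b ≠ c) (hbd : b ≠ d)
    (hcd : c ≠ d) : finrank k ↥(R ρ (y {a, b, c}) ⊓ R ρ (y {a, b, d})) = 1 := by
  have h4 : ({a, b, c, d} : Finset (Fin r)).card = 4 :=
    Finset.card_eq_four.2 ⟨a, b, c, d, hab, hac, had, hbc, hbd, hcd, rfl⟩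
  have h1 := finrank_U_eq D hφ hr hirr hn (S := {a, b, c, d}) (by omega) (by omega)
  have hsup : R ρ (y {a, b, c}) ⊔ R ρ (y {a, b, d}) = U ρ y {a, b, c, d} := by
    refine le_antisymm (sup_le (le_U (by simp [Finset.insert_subset_iff]) (card_three hab hac hbc))
      (le_U (by simp [Finset.insert_subset_iff]) (card_three hab had hbd))) (star D hab fun e he h1 h2 => ?_)
    simp only [Finset.mem_insert, Finset.mem_singleton] at he
    rcases he with rfl | rfl | rfl | rfl
    exacts [absurd rfl h1, absurd rfl h2, le_sup_left, le_sup_right]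
  have := Submodule.finrank_sup_add_finrank_inf_eq (R ρ (y {a, b, c})) (R ρ (y {a, b, d}))
  rw [hsup, finrank_R D hφ hr hirr hn (card_three hab hac hbc),
    finrank_R D hφ hr hirr hn (card_three hab had hbd)] at this
  omega

theorem Line_eq {a b c d : Fin r} (hab : a ≠ b) (hac : a ≠ c) (had : a ≠ d) (hbc : b ≠ c) (hbd : b ≠ d)
    (hcd : c ≠ d) : Line ρ y a b = R ρ (y {a, b, c}) ⊓ R ρ (y {a, b, d}) := by
  refine le_antisymm (le_inf (Line_le hac.symm hbc.symm) (Line_le had.symm hbd.symm))
    (le_iInf fun e => le_iInf fun hea => le_iInf fun heb => ?_)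
  by_cases hec : e = c
  · exact hec ▸ inf_le_left
  by_cases hed : e = d
  · exact hed ▸ inf_le_right
  by_contra hle
  -- the three planes lie in a three-dimensional space
  set C := R ρ (y {a, b, c}) with hC
  set D' := R ρ (y {a, b, d}) with hD'
  set E := R ρ (y {a, b, e}) with hE
  have hCE : finrank k ↥(C ⊓ E) = 1 := finrank_inf D hφ hr hirr hn hab hac hea.symm hbc heb.symm (Ne.symm hec)
  have hDE : finrank k ↥(D' ⊓ E) = 1 := finrank_inf D hφ hr hirr hn hab had hea.symm hbd heb.symm (Ne.symm hed)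
  have hne : C ⊓ E ≠ D' ⊓ E := by
    intro heq
    have h1 : C ⊓ E ≤ C ⊓ D' := le_inf inf_le_left (heq.le.trans inf_le_left)
    have h2 := Submodule.eq_of_le_of_finrank_eq h1 (by
      rw [hCE, finrank_inf D hφ hr hirr hn hab hac had hbc hbd hcd])
    exact hle (h2.ge.trans inf_le_right)
  have hsum : (C ⊓ E) ⊔ (D' ⊓ E) = E := by
    refine Submodule.eq_of_le_of_finrank_le (sup_le inf_le_right inf_le_right) ?_
    have hlt : C ⊓ E < (C ⊓ E) ⊔ (D' ⊓ E) := lt_of_le_of_ne le_sup_left fun h3 => hne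
      (Submodule.eq_of_le_of_finrank_eq (le_of_sup_eq' h3.symm) (by rw [hCE, hDE])).symm
    have := Submodule.finrank_lt_finrank_of_lt hlt
    have hE2 : finrank k E = 2 := finrank_R D hφ hr hirr hn (card_three hab hea.symm heb.symm)
    omega
  have hECD : E ≤ C ⊔ D' := hsum ▸ sup_le (inf_le_left.trans le_sup_left) (inf_le_left.trans le_sup_right)
  have h5 : (insert e {a, b, c, d} : Finset (Fin r)).card = 5 := by
    rw [Finset.card_insert_of_notMem (by simp [hea, heb, hec, hed]),
      Finset.card_eq_four.2 ⟨a, b, c, d, hab, hac, had, hbc, hbd, hcd, rfl⟩]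
  have h4 : ({a, b, c, d} : Finset (Fin r)).card = 4 :=
    Finset.card_eq_four.2 ⟨a, b, c, d, hab, hac, had, hbc, hbd, hcd, rfl⟩
  have hU : U ρ y (insert e {a, b, c, d}) ≤ U ρ y {a, b, c, d} := by
    refine star D hab fun f hf h1 h2 => ?_
    simp only [Finset.mem_insert, Finset.mem_singleton] at hf
    have hc' : C ≤ U ρ y {a, b, c, d} := le_U (by simp [Finset.insert_subset_iff]) (card_three hab hac hbc)
    have hd' : D' ≤ U ρ y {a, b, c, d} := le_U (by simp [Finset.insert_subset_iff]) (card_three hab had hbd)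
    rcases hf with rfl | rfl | rfl | rfl | rfl
    exacts [hECD.trans (sup_le hc' hd'), absurd rfl h1, absurd rfl h2, hc', hd']
  have := Submodule.finrank_mono hU
  have := finrank_U_eq D hφ hr hirr hn (S := {a, b, c, d}) (by omega) (by omega)
  have := finrank_U_eq D hφ hr hirr hn (S := insert e {a, b, c, d}) (by omega) (by omega)
  omega

theorem exists_pair (a b : Fin r) : ∃ c d : Fin r, c ≠ a ∧ c ≠ b ∧ d ≠ a ∧ d ≠ b ∧ c ≠ d := by
  obtain ⟨c, hc, d, hd, hcd⟩ := Finset.one_lt_card.1 (show 1 < (({a, b} : Finset (Fin r))ᶜ).card by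
    rw [Finset.card_compl, Fintype.card_fin]
    have := Finset.card_le_two (a := a) (b := b)
    omega)
  simp only [Finset.mem_compl, Finset.mem_insert, Finset.mem_singleton, not_or] at hc hd
  exact ⟨c, d, hc.1, hc.2, hd.1, hd.2, hcd⟩

theorem finrank_Line {a b : Fin r} (hab : a ≠ b) : finrank k (Line ρ y a b) = 1 := by
  obtain ⟨c, d, hca, hcb, hda, hdb, hcd⟩ := exists_pair D hφ hr hirr hn a b
  rw [Line_eq D hφ hr hirr hn hab hca.symm hda.symm hcb.symm hdb.symm hcd]
  exact finrank_inf D hφ hr hirr hn hab hca.symm hda.symm hcb.symm hdb.symm hcd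

theorem map_Line (g : G) {a b : Fin r} (hab : a ≠ b) :
    (Line ρ y a b).map (ρ g) = Line ρ y ((φ g : Perm (Fin r)) a) ((φ g : Perm (Fin r)) b) := by
  set σ := (φ g : Perm (Fin r))
  have hinj : Function.Injective (ρ g) := fun u v e => by
    have := congrArg (ρ g⁻¹) e
    simpa [← Module.End.mul_apply, ← map_mul] using this
  obtain ⟨c, d, hca, hcb, hda, hdb, hcd⟩ := exists_pair D hφ hr hirr hn a b
  rw [Line_eq D hφ hr hirr hn hab hca.symm hda.symm hcb.symm hdb.symm hcd,
    Line_eq D hφ hr hirr hn (σ.injective.ne hab) (σ.injective.ne hca.symm) (σ.injective.ne hda.symm)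
      (σ.injective.ne hcb.symm) (σ.injective.ne hdb.symm) (σ.injective.ne hcd),
    Submodule.map_inf _ hinj, ← R_image D g (card_three hab hca.symm hcb.symm),
    ← R_image D g (card_three hab hda.symm hdb.symm)]
  simp [σ]

/-- Two lines at a point differ. -/
theorem Line_ne (hV : 1 < finrank k V) {a b c : Fin r} (hab : a ≠ b) (hac : a ≠ c) (hbc : b ≠ c) :
    Line ρ y a b ≠ Line ρ y a c := by
  intro e
  -- all lines at `a` coincide
  have hstar : ∀ d, d ≠ a → Line ρ y a d = Line ρ y a b := by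
    intro d hda
    by_cases hdb : d = b
    · rw [hdb]
    by_cases hdc : d = c
    · rw [hdc, e]
    have h1 : Line ρ y a b ≤ Line ρ y a d := by
      rw [Line_eq D hφ hr hirr hn (Ne.symm hda) hab hac hdb hdc hbc]
      refine le_inf ((Line_le hda hdb).trans ?_) (e.le.trans ((Line_le hda hdc).trans ?_))
      · rw [show ({a, b, d} : Finset (Fin r)) = {a, d, b} by ext; simp; tauto]
      · rw [show ({a, c, d} : Finset (Fin r)) = {a, d, c} by ext; simp; tauto]
    exact (Submodule.eq_of_le_of_finrank_eq h1 (by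
      rw [finrank_Line D hφ hr hirr hn hab, finrank_Line D hφ hr hirr hn (Ne.symm hda)])).symm
  -- all lines coincide
  have hall : ∀ u v, u ≠ v → Line ρ y u v = Line ρ y a b := by
    intro u v huv
    by_cases hu : u = a
    · exact hu ▸ hstar v (hu ▸ huv.symm)
    by_cases hv : v = a
    · rw [Line_comm, hv]; exact hstar u hu
    obtain ⟨g, hg⟩ : ∃ g, (φ g : Perm (Fin r)) a = u := by
      obtain ⟨T, hT, hTc⟩ := Finset.exists_superset_card_eq (s := ({a, u} : Finset (Fin r))) (n := 3)
        (by have := Finset.card_le_two (a := a) (b := u); omega) (by rw [Fintype.card_fin]; omega)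
      obtain ⟨n, hn'⟩ := D.cover T hTc a (hT (by simp)) u (hT (by simp))
      exact ⟨_, hn'⟩
    set σ := (φ g : Perm (Fin r))
    have hb' : σ.symm a ≠ a := fun h => hu (by rw [← hg, ← h, Equiv.apply_symm_apply, h])
    have hv' : σ.symm v ≠ a := fun h => huv (by rw [← hg, ← h, Equiv.apply_symm_apply])
    have h1 := map_Line D hφ hr hirr hn g (a := a) (b := σ.symm v) hv'.symm
    have h2 := map_Line D hφ hr hirr hn g (a := a) (b := σ.symm a) hb'.symm
    rw [hg, Equiv.apply_symm_apply, hstar _ hv'] at h1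
    rw [hg, Equiv.apply_symm_apply, hstar _ hb', Line_comm u a, hstar u hu] at h2
    rw [← h1, h2]
  rcases hirr (Line ρ y a b) (fun g w hw => by
    rw [← hall _ _ ((φ g : Perm (Fin r)).injective.ne hab), ← map_Line D hφ hr hirr hn g hab]
    exact ⟨w, hw, rfl⟩) with h | h
  · have := finrank_Line D hφ hr hirr hn hab
    rw [h, finrank_bot] at this
    omega
  · have := finrank_Line D hφ hr hirr hn hab
    rw [h, finrank_top] at this
    omega

theorem R_eq_sup (hV : 1 < finrank k V) {a b c : Fin r} (hab : a ≠ b) (hac : a ≠ c) (hbc : b ≠ c) :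
    R ρ (y {a, b, c}) = Line ρ y a b ⊔ Line ρ y a c := by
  refine (Submodule.eq_of_le_of_finrank_le (sup_le (Line_le hac.symm hbc.symm) ((Line_le hab.symm hbc).trans ?_)) ?_).symm
  · rw [show ({a, c, b} : Finset (Fin r)) = {a, b, c} by ext; simp; tauto]
  · have hlt : Line ρ y a b < Line ρ y a b ⊔ Line ρ y a c := lt_of_le_of_ne le_sup_left fun h3 =>
      Line_ne D hφ hr hirr hn hV hab hac hbc (Submodule.eq_of_le_of_finrank_eq (le_of_sup_eq' h3.symm)
        (by rw [finrank_Line D hφ hr hirr hn hac, finrank_Line D hφ hr hirr hn hab])).symm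
    have := Submodule.finrank_lt_finrank_of_lt hlt
    rw [finrank_Line D hφ hr hirr hn hab] at this
    rw [finrank_R D hφ hr hirr hn (card_three hab hac hbc)]
    omega

theorem indep (hV : 1 < finrank k V) {a b c : Fin r} (hab : a ≠ b) (hac : a ≠ c) (hbc : b ≠ c) :
    Line ρ y a b ⊓ Line ρ y a c = ⊥ := by
  by_contra h
  have h1 := Submodule.finrank_mono (show Line ρ y a b ⊓ Line ρ y a c ≤ Line ρ y a b from inf_le_left)
  have h0 : finrank k ↥(Line ρ y a b ⊓ Line ρ y a c) ≠ 0 := fun h2 => h (Submodule.finrank_eq_zero.1 h2)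
  rw [finrank_Line D hφ hr hirr hn hab] at h1
  have e1 := Submodule.eq_of_le_of_finrank_eq
    (show Line ρ y a b ⊓ Line ρ y a c ≤ Line ρ y a b from inf_le_left) (by rw [finrank_Line D hφ hr hirr hn hab]; omega)
  have e2 := Submodule.eq_of_le_of_finrank_eq
    (show Line ρ y a b ⊓ Line ρ y a c ≤ Line ρ y a c from inf_le_right) (by rw [finrank_Line D hφ hr hirr hn hac]; omega)
  exact Line_ne D hφ hr hirr hn hV hab hac hbc (e1.symm.trans e2)

theorem exists_points (hV : 1 < finrank k V) : ∃ e : Fin r → V,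
    ∀ a b, a ≠ b → e a - e b ≠ 0 ∧ e a - e b ∈ Line ρ y a b := by
  classical
  let o : Fin r := ⟨0, by omega⟩
  let b₀ : Fin r := ⟨1, by omega⟩
  have hob : o ≠ b₀ := by simp [o, b₀, Fin.ext_iff]
  obtain ⟨v₀, hv₀, hv₀0⟩ := Submodule.exists_mem_ne_zero_of_ne_bot (p := Line ρ y o b₀) (fun h => by
    have := finrank_Line D hφ hr hirr hn hob
    rw [h, finrank_bot] at this
    omega)
  have hdec : ∀ c, c ≠ o → c ≠ b₀ → ∃ v ∈ Line ρ y o c, v₀ - v ∈ Line ρ y b₀ c := by
    intro c hco hcb
    have hm : v₀ ∈ R ρ (y {c, o, b₀}) := by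
      rw [show ({c, o, b₀} : Finset (Fin r)) = {o, b₀, c} by ext; simp; tauto]
      exact Line_le hco hcb hv₀
    rw [R_eq_sup D hφ hr hirr hn hV hco hcb hob] at hm
    obtain ⟨v, hv, w, hw, hvw⟩ := Submodule.mem_sup.1 hm
    refine ⟨v, by rwa [Line_comm], ?_⟩
    rw [← hvw, add_sub_cancel_left, Line_comm]
    exact hw
  choose! f hf1 hf2 using hdec
  let e : Fin r → V := fun c => if c = o then 0 else if c = b₀ then v₀ else f c
  have hmem : ∀ a b, a ≠ b → e a - e b ∈ Line ρ y a b := by
    intro a b hab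
    by_cases hao : a = o
    · subst hao
      by_cases hbb : b = b₀
      · subst hbb; simpa [e, hob.symm] using (Line ρ y o b₀).neg_mem hv₀
      · simpa [e, hab.symm, hbb] using (Line ρ y o b).neg_mem (hf1 b hab.symm hbb)
    by_cases hbo : b = o
    · subst hbo
      rw [Line_comm]
      by_cases hab' : a = b₀
      · subst hab'; simpa [e, hob.symm] using hv₀
      · simpa [e, hao, hab'] using hf1 a hao hab'
    by_cases hab' : a = b₀
    · subst hab'
      simpa [e, hao, hbo, hab.symm] using hf2 b hbo hab.symm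
    by_cases hbb : b = b₀
    · subst hbb
      rw [Line_comm]
      simpa [e, hao, hbo, hab] using (Line ρ y b₀ a).neg_mem (hf2 a hao hab)
    rw [Line_eq D hφ hr hirr hn hab hao hab' hbo hbb hob]
    simp only [e, if_neg hao, if_neg hbo, if_neg hab', if_neg hbb]
    refine ⟨?_, ?_⟩
    · rw [show ({a, b, o} : Finset (Fin r)) = {o, a, b} by ext; simp; tauto,
        R_eq_sup D hφ hr hirr hn hV (Ne.symm hao) (Ne.symm hbo) hab]
      exact Submodule.sub_mem _ (Submodule.mem_sup_left (hf1 a hao hab')) (Submodule.mem_sup_right (hf1 b hbo hbb))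
    · rw [show ({a, b, b₀} : Finset (Fin r)) = {b₀, a, b} by ext; simp; tauto,
        R_eq_sup D hφ hr hirr hn hV (Ne.symm hab') (Ne.symm hbb) hab,
        show f a - f b = (v₀ - f b) - (v₀ - f a) by abel]
      exact Submodule.sub_mem _ (Submodule.mem_sup_right (hf2 b hbo hbb)) (Submodule.mem_sup_left (hf2 a hao hab'))
  have he0 : ∀ c, c ≠ o → e c ≠ 0 := by
    intro c hco hc
    by_cases hcb : c = b₀
    · subst hcb; exact hv₀0 (by simpa [e, hco] using hc)
    · have hfc : f c = 0 := by simpa [e, hco, hcb] using hc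
      have h1 : v₀ ∈ Line ρ y b₀ o ⊓ Line ρ y b₀ c := ⟨by rwa [Line_comm], by simpa [hfc] using hf2 c hco hcb⟩
      rw [indep D hφ hr hirr hn hV hob.symm (Ne.symm hcb) (Ne.symm hco)] at h1
      exact hv₀0 ((Submodule.mem_bot _).1 h1)
  refine ⟨e, fun a b hab => ⟨fun h0 => ?_, hmem a b hab⟩⟩
  by_cases hao : a = o
  · exact he0 b (hao ▸ hab.symm) (by simpa [e, hao] using h0)
  by_cases hbo : b = o
  · exact he0 a hao (by simpa [e, hbo] using h0)
  have h1 : e a ∈ Line ρ y o a := by
    have := (Line ρ y a o).sub_mem (hmem a o hao) (Submodule.zero_mem _)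
    simpa [e, Line_comm] using this
  have h2 : e a ∈ Line ρ y o b := by
    rw [sub_eq_zero] at h0
    have := hmem b o hbo
    simpa [h0, e, Line_comm] using this
  have h3 : e a ∈ Line ρ y o a ⊓ Line ρ y o b := ⟨h1, h2⟩
  rw [indep D hφ hr hirr hn hV (Ne.symm hao) (Ne.symm hbo) hab] at h3
  exact he0 a hao ((Submodule.mem_bot _).1 h3)

/-- The conclusion. -/
theorem natural (hV : 1 < finrank k V) : finrank k V + 2 = r ∧ (r : k) = 0 := by
  classical
  obtain ⟨e, he⟩ := exists_points D hφ hr hirr hn hV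
  have two : ∀ a b c : Fin r, a ≠ b → a ≠ c → b ≠ c → ∀ s t : k, s • (e a - e b) + t • (e b - e c) = 0 →
      s = 0 ∧ t = 0 := by
    intro a b c hab hac hbc s t h
    have h1 : s • (e a - e b) ∈ Line ρ y b a ⊓ Line ρ y b c := by
      refine ⟨Submodule.smul_mem _ _ (by rw [Line_comm]; exact (he a b hab).2), ?_⟩
      rw [eq_neg_of_add_eq_zero_left h]
      exact Submodule.neg_mem _ (Submodule.smul_mem _ _ (he b c hbc).2)
    rw [indep D hφ hr hirr hn hV hab.symm hbc hac, Submodule.mem_bot] at h1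
    rw [h1, zero_add] at h
    exact ⟨(smul_eq_zero.1 h1).resolve_right (he a b hab).1, (smul_eq_zero.1 h).resolve_right (he b c hbc).1⟩
  have hscal : ∀ (g : G) (a b : Fin r), a ≠ b → ∃ l : k,
      ρ g (e a - e b) = l • (e ((φ g : Perm (Fin r)) a) - e ((φ g : Perm (Fin r)) b)) := by
    intro g a b hab
    have h1 : ρ g (e a - e b) ∈ Line ρ y ((φ g : Perm (Fin r)) a) ((φ g : Perm (Fin r)) b) := by
      rw [← map_Line D hφ hr hirr hn g hab]; exact ⟨_, (he a b hab).2, rfl⟩
    have hab' := (φ g : Perm (Fin r)).injective.ne hab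
    obtain ⟨c, hc⟩ := (finrank_eq_one_iff_of_nonzero' (⟨_, (he _ _ hab').2⟩ : Line ρ y _ _)
      (fun h => (he _ _ hab').1 (congrArg Subtype.val h))).1 (finrank_Line D hφ hr hirr hn hab') ⟨_, h1⟩
    exact ⟨c, (congrArg Subtype.val hc).symm⟩
  choose! l hl using hscal
  let Φ : (Fin r → k) →ₗ[k] V := Fintype.linearCombination k e
  let Ψ : (Fin r → k) →ₗ[k] V × k := Φ.prod (∑ i, LinearMap.proj i)
  have hΦ : ∀ c : Fin r → k, Φ c = ∑ i, c i • e i := fun c => Fintype.linearCombination_apply k e c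
  have hker : finrank k (LinearMap.ker Ψ) + (finrank k V + 1) ≥ r := by
    have := LinearMap.finrank_range_add_finrank_ker Ψ
    have h2 := Submodule.finrank_le (LinearMap.range Ψ)
    rw [Module.finrank_fin_fun] at this
    rw [Module.finrank_prod, Module.finrank_self] at h2
    omega
  have hmemker : ∀ c, c ∈ LinearMap.ker Ψ ↔ ∑ i, c i • e i = 0 ∧ ∑ i, c i = 0 := fun c => by
    rw [LinearMap.mem_ker, Prod.ext_iff]
    simp [Ψ, hΦ]
  have hconst : ∀ c ∈ LinearMap.ker Ψ, ∀ a b, c a = c b := by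
    intro c hc a b
    obtain ⟨hc1, hc2⟩ := (hmemker c).1 hc
    by_contra hcab
    have hab : a ≠ b := fun h => hcab (h ▸ rfl)
    obtain ⟨d, -, hda, hdb, -⟩ := exists_pair D hφ hr hirr hn a b
    obtain ⟨g, hg⟩ := hφ ⟨Equiv.swap a b * Equiv.swap b d, Equiv.Perm.mem_alternatingGroup.2 (by
      rw [map_mul, Equiv.Perm.sign_swap hab, Equiv.Perm.sign_swap hdb.symm]; rfl)⟩
    set σ := (φ g : Perm (Fin r)) with hσ
    -- the moved combination vanishes
    have hlam : ∀ u v w : Fin r, u ≠ v → u ≠ w → v ≠ w → l g u v = l g v w := by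
      intro u v w huv huw hvw
      have h3 := hl g u w huw
      rw [show e u - e w = (e u - e v) + (e v - e w) by abel, map_add, hl g u v huv, hl g v w hvw] at h3
      have h4 := two (σ u) (σ v) (σ w) (σ.injective.ne huv) (σ.injective.ne huw) (σ.injective.ne hvw)
        (l g u v - l g u w) (l g v w - l g u w) (by
          rw [show (0 : V) = l g u w • (e (σ u) - e (σ w)) - l g u w • (e (σ u) - e (σ w)) by abel]
          nth_rewrite 1 [← h3]
          module)
      exact (sub_eq_zero.1 h4.1).trans (sub_eq_zero.1 h4.2).symm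
    have hsymm : ∀ u v, u ≠ v → l g u v = l g v u := by
      intro u v huv
      obtain ⟨w, -, hwu, hwv, -⟩ := exists_pair D hφ hr hirr hn u v
      obtain ⟨z, hz⟩ := (({u, v, w} : Finset (Fin r))ᶜ).card_pos.1 (by
        rw [Finset.card_compl, Fintype.card_fin]
        have := Finset.card_le_three (a := u) (b := v) (c := w)
        omega)
      simp only [Finset.mem_compl, Finset.mem_insert, Finset.mem_singleton, not_or] at hz
      obtain ⟨hzu, hzv, hzw⟩ := hz
      rw [hlam u v w huv hwu.symm hwv.symm, hlam v w z hwv.symm (Ne.symm hzv) (Ne.symm hzw),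
        hlam w z v (Ne.symm hzw) hwv hzv, hlam z v u hzv hzu huv.symm]
    have hmove : ∑ i, c i • e (σ i) = 0 := by
      have key : ∀ i, i ≠ d → ρ g (e i - e d) = l g a d • (e (σ i) - e (σ d)) := by
        intro i hid
        rw [hl g i d hid]
        congr 1
        by_cases hia : i = a
        · rw [hia]
        · rw [hlam i d a hid hia hda, hsymm d a hda]
      have h5 : ∀ i, ρ g (e i - e d) = l g a d • (e (σ i) - e (σ d)) := fun i => by
        by_cases hid : i = d
        · subst hid; simp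
        · exact key i hid
      have hla : l g a d ≠ 0 := fun h0 => by
        have h6 := h5 a
        rw [h0, zero_smul] at h6
        have h7 := congrArg (ρ g⁻¹) h6
        rw [← Module.End.mul_apply, ← map_mul, inv_mul_cancel, map_one, Module.End.one_apply, map_zero] at h7
        exact (he a d hda.symm).1 h7
      have h8 : l g a d • ∑ i, c i • (e (σ i) - e (σ d)) = 0 := by
        rw [Finset.smul_sum]
        calc ∑ i, l g a d • c i • (e (σ i) - e (σ d)) = ∑ i, ρ g (c i • (e i - e d)) :=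
              Finset.sum_congr rfl fun i _ => by rw [map_smul, h5, smul_comm]
          _ = ρ g (∑ i, c i • (e i - e d)) := (map_sum _ _ _).symm
          _ = 0 := by simp [smul_sub, Finset.sum_sub_distrib, ← Finset.sum_smul, hc1, hc2]
      have h9 := (smul_eq_zero.1 h8).resolve_left hla
      simpa [smul_sub, Finset.sum_sub_distrib, ← Finset.sum_smul, hc2] using h9
    have h10 : ∑ i, (c (σ.symm i) - c i) • e i = 0 := by
      simp only [sub_smul, Finset.sum_sub_distrib, hc1, sub_zero]
      rw [← hmove]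
      exact Fintype.sum_equiv σ.symm _ _ fun i => by simp
    rw [← Finset.sum_subset (Finset.subset_univ {a, b, d}) (fun i _ hi => by
      simp only [Finset.mem_insert, Finset.mem_singleton, not_or] at hi
      rw [show σ.symm i = i from σ.symm_apply_eq.2 (by
        simp [hσ, hg, Equiv.swap_apply_def, hi.1, hi.2.1, hi.2.2]), sub_self, zero_smul]),
      Finset.sum_insert (by simp [hab, hda.symm]), Finset.sum_pair hdb.symm] at h10
    have ha : σ.symm a = d := σ.symm_apply_eq.2 (by
      simp [hσ, hg, Equiv.swap_apply_def, hdb, hab.symm])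
    have hb : σ.symm b = a := σ.symm_apply_eq.2 (by
      simp [hσ, hg, Equiv.swap_apply_def, hab, hda.symm])
    have hd : σ.symm d = b := σ.symm_apply_eq.2 (by
      simp [hσ, hg, Equiv.swap_apply_def, hdb, hda, hab.symm])
    rw [ha, hb, hd] at h10
    have h11 := two a b d hab hda.symm hdb.symm (c d - c a) (c d - c b) (by rw [← h10]; module)
    exact hcab ((sub_eq_zero.1 h11.1).symm.trans (sub_eq_zero.1 h11.2))
  let o : Fin r := ⟨0, by omega⟩
  have hle : LinearMap.ker Ψ ≤ Submodule.span k {fun _ : Fin r => (1 : k)} := fun c hc => by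
    rw [Submodule.mem_span_singleton]
    exact ⟨c o, funext fun i => by simp [hconst c hc o i]⟩
  have h1 : finrank k (LinearMap.ker Ψ) ≤ 1 :=
    (Submodule.finrank_mono hle).trans ((finrank_span_le_card _).trans (by simp))
  refine ⟨by omega, ?_⟩
  obtain ⟨c, hc, hc0⟩ := Submodule.exists_mem_ne_zero_of_ne_bot (p := LinearMap.ker Ψ) (fun h => by
    rw [h, finrank_bot] at hker; omega)
  have h2 := ((hmemker c).1 hc).2
  rw [Finset.sum_congr rfl fun i _ => hconst c hc i o, Finset.sum_const, Finset.card_univ, Fintype.card_fin,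
    nsmul_eq_mul, mul_eq_zero] at h2
  exact h2.resolve_right fun h => hc0 (funext fun i => by rw [hconst c hc i o, h]; rfl)

end lines

/-- The degree bound under the chain data. -/
theorem chain_bound (hV : 1 < finrank k V) : r ≤ finrank k V + 2 ∧ ((r : k) ≠ 0 → r ≤ finrank k V + 1) := by
  by_cases hn : finrank k V + 2 ≤ r
  · obtain ⟨h1, h2⟩ := natural D hφ hr hirr hn hV
    exact ⟨by omega, fun h => absurd h2 h⟩
  · exact ⟨by omega, fun _ => by omega⟩

end chain

end Cfsg.Agent.AltSection95
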