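import Cfsg.Agent.Lib.AltSectionLift95

/-!
Facts about concrete small permutations.
-/

set_option autoImplicit false
set_option maxRecDepth 8000

namespace Cfsg.Agent.AltSection95

open Equiv

variable {s r m : ℕ}

theorem cyc_eq_iff (ι : Fin s ↪ Fin r) (h : alternatingGroup (Fin r))
    (h1 : ∀ j, (h : Perm (Fin r)) (ι j) = ι ((rot s : Perm (Fin s)) j))
    (h2 : ∀ x, (∀ j, ι j ≠ x) → (h : Perm (Fin r)) x = x) : cyc ι = h :=
  ((eq_emb_iff ι (rot s) h).2 ⟨h1, fun x hx => h2 x fun j hj => hx ⟨j, hj⟩⟩).symm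

/-- Two overlapping three-cycles generate `A 5`'s five-cycle and an element inverting it. -/
theorem five_from_threes (Q : Subgroup (alternatingGroup (Fin 5)))
    (ha : cyc (⟨![0, 1, 2], by decide⟩ : Fin 3 ↪ Fin 5) ∈ Q)
    (hb : cyc (⟨![2, 3, 4], by decide⟩ : Fin 3 ↪ Fin 5) ∈ Q) :
    rot 5 ∈ Q ∧ ∃ g ∈ Q, g * rot 5 * g⁻¹ = (rot 5)⁻¹ := by
  rw [cyc_eq_iff _ ⟨Equiv.swap 0 2 * Equiv.swap 2 1, Perm.mem_alternatingGroup.2 (by decide)⟩ (by decide) (by decide)] at ha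
  rw [cyc_eq_iff _ ⟨Equiv.swap 2 4 * Equiv.swap 4 3, Perm.mem_alternatingGroup.2 (by decide)⟩ (by decide) (by decide)] at hb
  set a : alternatingGroup (Fin 5) :=
    ⟨Equiv.swap 0 2 * Equiv.swap 2 1, Perm.mem_alternatingGroup.2 (by decide)⟩ with hA
  set b : alternatingGroup (Fin 5) :=
    ⟨Equiv.swap 2 4 * Equiv.swap 4 3, Perm.mem_alternatingGroup.2 (by decide)⟩ with hB
  have e1 : rot 5 = a * b * a * b * a * a := by rw [hA, hB]; decide
  refine ⟨e1 ▸ Q.mul_mem (Q.mul_mem (Q.mul_mem (Q.mul_mem (Q.mul_mem ha hb) ha) hb) ha) ha,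
    a * b * a * a * b, Q.mul_mem (Q.mul_mem (Q.mul_mem (Q.mul_mem ha hb) ha) ha) hb, ?_⟩
  rw [hA, hB]
  decide

/-- All five-cycles generate `A 5`. -/
theorem closure_cyc_five : Subgroup.closure (Set.range fun σ : Fin 5 ↪ Fin 5 => cyc σ) = ⊤ := by
  set N := Subgroup.closure (Set.range fun σ : Fin 5 ↪ Fin 5 => cyc σ)
  have hN : N.Normal := by
    refine ⟨fun n hn g => ?_⟩
    induction hn using Subgroup.closure_induction with
    | mem x hx =>
      obtain ⟨σ, rfl⟩ := hx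
      refine Subgroup.subset_closure ⟨σ.trans (g : Perm (Fin 5)).toEmbedding, ?_⟩
      exact (emb_conj σ (rot 5) g).symm
    | one => simp
    | mul x y _ _ hx hy => rw [show g * (x * y) * g⁻¹ = (g * x * g⁻¹) * (g * y * g⁻¹) by group]; exact N.mul_mem hx hy
    | inv x _ hx => rw [show g * x⁻¹ * g⁻¹ = (g * x * g⁻¹)⁻¹ by group]; exact N.inv_mem hx
  rcases hN.eq_bot_or_eq_top with h | h
  · exfalso
    have : cyc (Function.Embedding.refl (Fin 5)) ∈ N := Subgroup.subset_closure ⟨_, rfl⟩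
    rw [h, Subgroup.mem_bot] at this
    exact cyc_ne_one cycData_five _ this
  · exact h

end Cfsg.Agent.AltSection95
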