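import Cfsg.Agent.Lib.AltSectionChain95

/-!
Joint eigenvalues of commuting elements of finite order.
-/

set_option autoImplicit false
set_option linter.unusedSectionVars false

namespace Cfsg.Agent.AltSection95

open Module

variable {k V G : Type*} [Field k] [AddCommGroup V] [Module k V] [Group G] [FiniteDimensional k V]
  (ρ : Representation k G V)

theorem rho_comm {x z : G} (h : Commute x z) (v : V) : ρ x (ρ z v) = ρ z (ρ x v) := by
  rw [← Module.End.mul_apply, ← map_mul, h.eq, map_mul, Module.End.mul_apply]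

theorem rho_pow_eigen {x : G} {α : k} {v : V} (h : ρ x v = α • v) : ∀ n : ℕ, ρ (x ^ n) v = α ^ n • v
  | 0 => by simp
  | n + 1 => by rw [pow_succ, map_mul, Module.End.mul_apply, h, map_smul, rho_pow_eigen h n, smul_smul, pow_succ']

theorem root_of_eigen {x : G} {α : k} {v : V} {s : ℕ} (hx : x ^ s = 1) (hv : v ≠ 0) (h : ρ x v = α • v) :
    α ^ s = 1 := by
  have := rho_pow_eigen ρ h s
  rw [hx, map_one, Module.End.one_apply] at this
  by_contra hne
  have h0 : (α ^ s - 1) • v = 0 := by rw [sub_smul, one_smul, ← this, sub_self]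
  exact hv ((smul_eq_zero.1 h0).resolve_left (sub_ne_zero.2 hne))

/-- A vector in the commutator space fixed by an element of order prime to the characteristic is zero. -/
theorem eq_zero_of_fixed {x : G} {s : ℕ} (hx : x ^ s = 1) (hs : (s : k) ≠ 0) {w : V} (hw : w ∈ R ρ x)
    (hfix : ρ x w = w) : w = 0 := by
  obtain ⟨u, rfl⟩ := hw
  simp only [LinearMap.sub_apply, Module.End.one_apply, map_sub] at hfix ⊢
  set w := ρ x u - u with hw
  have key : ∀ i : ℕ, ρ (x ^ i) u = u + (i : k) • w := by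
    intro i
    induction i with
    | zero => simp
    | succ i ih =>
      rw [pow_succ', map_mul, Module.End.mul_apply, ih, map_add, map_smul, show ρ x w = w by
        rw [hw, map_sub]; exact hfix, Nat.cast_succ, add_smul, one_smul, hw]
      abel
  have := key s
  rw [hx, map_one, Module.End.one_apply, left_eq_add, smul_eq_zero] at this
  exact this.resolve_left hs

theorem R_stable {x z : G} (h : Commute x z) {w : V} (hw : w ∈ R ρ x) : ρ z w ∈ R ρ x := by
  obtain ⟨u, rfl⟩ := hw
  exact ⟨ρ z u, by simp only [LinearMap.sub_apply, Module.End.one_apply, map_sub, rho_comm ρ h]⟩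

variable [IsAlgClosed k]

/-- An invariant nonzero subspace contains an eigenvector. -/
theorem exists_eigen {x : G} {W : Submodule k V} (hW : W ≠ ⊥) (h : ∀ w ∈ W, ρ x w ∈ W) :
    ∃ (α : k) (v : V), v ∈ W ∧ v ≠ 0 ∧ ρ x v = α • v := by
  have : Nontrivial W := (Submodule.nontrivial_iff_ne_bot).2 hW
  obtain ⟨α, hα⟩ := Module.End.exists_eigenvalue ((ρ x).restrict h)
  obtain ⟨v, hv⟩ := hα.exists_hasEigenvector
  exact ⟨α, v, v.2, fun e => hv.2 (Subtype.ext e), congrArg Subtype.val hv.apply_eq_smul⟩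

/-- A nontrivial element of order prime to the characteristic has an eigenvalue other than `1`. -/
theorem exists_eigen_ne_one {x : G} {s : ℕ} (hx : x ^ s = 1) (hs : (s : k) ≠ 0) (h : R ρ x ≠ ⊥) :
    ∃ (α : k) (v : V), v ≠ 0 ∧ ρ x v = α • v ∧ α ≠ 1 := by
  obtain ⟨α, v, hv, hv0, hev⟩ := exists_eigen ρ h fun w hw => R_stable ρ (Commute.refl x) hw
  exact ⟨α, v, hv0, hev, fun e => hv0 (eq_zero_of_fixed ρ hx hs hv (by rw [hev, e, one_smul]))⟩

/-- Two commuting elements not fixing each other's commutator spaces have a joint eigenvalue pair free of `1`. -/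
theorem exists_joint {x z : G} {s t : ℕ} (hx : x ^ s = 1) (hz : z ^ t = 1) (hs : (s : k) ≠ 0) (ht : (t : k) ≠ 0)
    (hc : Commute x z) (h : ∃ v, ρ z (ρ x v - v) ≠ ρ x v - v) :
    ∃ (α β : k) (v : V), v ≠ 0 ∧ ρ x v = α • v ∧ ρ z v = β • v ∧ α ≠ 1 ∧ β ≠ 1 := by
  set W := (R ρ x).map (ρ z - 1) with hW
  have hW0 : W ≠ ⊥ := by
    obtain ⟨v, hv⟩ := h
    intro e
    have : (ρ z - 1) (ρ x v - v) ∈ W := ⟨_, mem_R ρ x v, rfl⟩
    rw [e, Submodule.mem_bot, LinearMap.sub_apply, Module.End.one_apply, sub_eq_zero] at this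
    exact hv this
  have hWx : ∀ w ∈ W, ρ x w ∈ W := by
    rintro _ ⟨u, hu, rfl⟩
    exact ⟨ρ x u, R_stable ρ (Commute.refl x) hu, by
      simp only [LinearMap.sub_apply, Module.End.one_apply, map_sub, rho_comm ρ hc]⟩
  have hWR : W ≤ R ρ x ⊓ R ρ z := by
    rintro _ ⟨u, hu, rfl⟩
    exact ⟨Submodule.sub_mem _ (R_stable ρ hc hu) hu, u, rfl⟩
  obtain ⟨α, v, hv, hv0, hev⟩ := exists_eigen ρ hW0 hWx
  set W' := W ⊓ Module.End.eigenspace (ρ x) α with hW'
  have hW'0 : W' ≠ ⊥ := fun e => hv0 (by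
    have : v ∈ W' := ⟨hv, Module.End.mem_eigenspace_iff.2 hev⟩
    rwa [e, Submodule.mem_bot] at this)
  have hW'z : ∀ w ∈ W', ρ z w ∈ W' := by
    rintro w ⟨hw1, hw2⟩
    refine ⟨?_, Module.End.mem_eigenspace_iff.2 ?_⟩
    · obtain ⟨u, hu, rfl⟩ := hw1
      exact ⟨ρ z u, R_stable ρ hc hu, by simp only [LinearMap.sub_apply, Module.End.one_apply, map_sub]⟩
    · rw [rho_comm ρ hc, Module.End.mem_eigenspace_iff.1 hw2, map_smul]
  obtain ⟨β, u, hu, hu0, heu⟩ := exists_eigen ρ hW'0 hW'z
  have hxu := Module.End.mem_eigenspace_iff.1 hu.2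
  exact ⟨α, β, u, hu0, hxu, heu,
    fun e => hu0 (eq_zero_of_fixed ρ hx hs (hWR hu.1).1 (by rw [hxu, e, one_smul])),
    fun e => hu0 (eq_zero_of_fixed ρ hz ht (hWR hu.1).2 (by rw [heu, e, one_smul]))⟩

omit [IsAlgClosed k] in
/-- Eigenspaces to distinct values add up inside any subspace containing them. -/
theorem sum_eigenspace_le {ι : Type*} (B : Finset ι) (x : G) (f : ι → k) (hf : Set.InjOn f B) (W : Submodule k V)
    (hW : ∀ i ∈ B, Module.End.eigenspace (ρ x) (f i) ≤ W) :
    ∑ i ∈ B, finrank k (Module.End.eigenspace (ρ x) (f i)) ≤ finrank k W := by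
  classical
  suffices h : ∑ i ∈ B, finrank k (Module.End.eigenspace (ρ x) (f i)) =
      finrank k ↥(⨆ μ ∈ B.image f, Module.End.eigenspace (ρ x) μ) by
    rw [h]
    refine Submodule.finrank_mono (iSup₂_le fun μ hμ => ?_)
    obtain ⟨i, hi, rfl⟩ := Finset.mem_image.1 hμ
    exact hW i hi
  rw [← Finset.sum_image (f := fun μ => finrank k (Module.End.eigenspace (ρ x) μ)) hf]
  generalize B.image f = S
  induction S using Finset.induction with
  | empty =>
    rw [Finset.sum_empty, show (⨆ μ ∈ (∅ : Finset k), Module.End.eigenspace (ρ x) μ) = ⊥ by simp, finrank_bot]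
  | insert a T ha ih =>
    rw [Finset.sum_insert ha, Finset.iSup_insert, ih]
    have hd : Disjoint (Module.End.eigenspace (ρ x) a) (⨆ μ ∈ T, Module.End.eigenspace (ρ x) μ) :=
      (Module.End.eigenspaces_iSupIndep (ρ x)).disjoint_biSup (y := (T : Set k)) (by simpa using ha)
    have := Submodule.finrank_sup_add_finrank_inf_eq (Module.End.eigenspace (ρ x) a)
      (⨆ μ ∈ T, Module.End.eigenspace (ρ x) μ)
    rw [hd.eq_bot, finrank_bot, add_zero] at this
    exact this.symm

omit [IsAlgClosed k] in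
/-- Eigenvectors of `z` for distinct values inside `W` bound its dimension. -/
theorem card_le_of_eigen {ι : Type*} (B : Finset ι) (z : G) (f : ι → k) (hf : Set.InjOn f B) (W : Submodule k V)
    (hB : ∀ i ∈ B, ∃ v ∈ W, v ≠ 0 ∧ ρ z v = f i • v) : B.card ≤ finrank k W := by
  classical
  choose! v hv1 hv2 hv3 using hB
  have hind : LinearIndependent k fun i : B => v i := by
    refine Module.End.eigenvectors_linearIndependent' (ρ z) (fun i : B => f i)
      (fun i j h => Subtype.ext (hf i.2 j.2 h)) _ fun i => ⟨Module.End.mem_eigenspace_iff.2 (hv3 i i.2), hv2 i i.2⟩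
  have hle : Submodule.span k (Set.range fun i : B => v i) ≤ W := Submodule.span_le.2 (by
    rintro _ ⟨i, rfl⟩; exact hv1 i i.2)
  have := Submodule.finrank_mono hle
  rwa [finrank_span_eq_card hind, Fintype.card_coe] at this

end Cfsg.Agent.AltSection95
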