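import Cfsg.Agent.Lib.AltSectionSetup95
import Cfsg.Agent.Lib.AltSectionDecide95

/-!
The case of five-cycles (characteristic not five) and the tools shared with the case of three-cycles.
-/

set_option autoImplicit false
set_option linter.unusedSectionVars false
set_option linter.unusedVariables false

namespace Cfsg.Agent.AltSection95

open Equiv Module

universe u

/-- The bound for all smaller instances. -/
def Below (μ : ℕ) : Prop :=
  ∀ (k : Type u) [Field k] [IsAlgClosed k] (V : Type u) [AddCommGroup V] [Module k V] [FiniteDimensional k V]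
    (G : Type u) [Group G] [Finite G] (ρ : Representation k G V) (r : ℕ) (φ : G →* alternatingGroup (Fin r)),
    9 ≤ r → Function.Surjective φ → Function.Injective ρ → finrank k V + Nat.card G < μ → Bd k r (finrank k V)

variable {k : Type u} {V : Type u} {G : Type u} [Field k] [IsAlgClosed k] [AddCommGroup V] [Module k V]
  [FiniteDimensional k V] [Group G] {r s : ℕ} {ρ : Representation k G V}
  {φ : G →* alternatingGroup (Fin r)} (S : Setup ρ φ)

theorem rho_injective (g : G) : Function.Injective (ρ g) := fun u v e => by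
  have := congrArg (ρ g⁻¹) e
  simpa [← Module.End.mul_apply, ← map_mul] using this

/-- Conjugating an element to a power moves eigenspaces to eigenspaces. -/
theorem eigen_conj {x z : G} {h : G} {c : ℕ} (hc : h * x * h⁻¹ = z ^ c) {α : k} {v : V} (hv : ρ z v = α • v) :
    ρ x (ρ h⁻¹ v) = α ^ c • ρ h⁻¹ v := by
  have : x * h⁻¹ = h⁻¹ * z ^ c := by rw [← hc]; group
  rw [← Module.End.mul_apply, ← map_mul, this, map_mul, Module.End.mul_apply, rho_pow_eigen ρ hv, map_smul]

theorem eigen_dim_le {x : G} {h : G} {c : ℕ} (hc : h * x * h⁻¹ = x ^ c) (α : k) :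
    finrank k (Module.End.eigenspace (ρ x) α) ≤ finrank k (Module.End.eigenspace (ρ x) (α ^ c)) := by
  rw [(Submodule.equivMapOfInjective _ (rho_injective (ρ := ρ) h⁻¹) (Module.End.eigenspace (ρ x) α)).finrank_eq]
  refine Submodule.finrank_mono ?_
  rintro _ ⟨v, hv, rfl⟩
  exact Module.End.mem_eigenspace_iff.2 (eigen_conj hc (Module.End.mem_eigenspace_iff.1 hv))

theorem eigen_le_R {x : G} {α : k} (hα : α ≠ 1) : Module.End.eigenspace (ρ x) α ≤ R ρ x := fun v hv => by
  refine ⟨(α - 1)⁻¹ • v, ?_⟩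
  rw [map_smul, LinearMap.sub_apply, Module.End.one_apply, Module.End.mem_eigenspace_iff.1 hv]
  rw [show α • v - v = (α - 1) • v by rw [sub_smul, one_smul], smul_smul,
    inv_mul_cancel₀ (sub_ne_zero.2 hα), one_smul]

/-- The elements acting trivially on a subspace. -/
def fixer (ρ : Representation k G V) (W : Submodule k V) : Subgroup G where
  carrier := {g | ∀ w ∈ W, ρ g w = w}
  one_mem' w _ := by simp
  mul_mem' {a b} ha hb w hw := by rw [map_mul, Module.End.mul_apply, hb w hw, ha w hw]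
  inv_mem' {a} ha w hw := by
    conv_lhs => rw [← ha w hw]
    rw [← Module.End.mul_apply, ← map_mul, inv_mul_cancel, map_one, Module.End.one_apply]

/-- The elements whose commutator space lies in a subspace. -/
def moverIn (ρ : Representation k G V) (W : Submodule k V) : Subgroup G where
  carrier := {g | R ρ g ≤ W}
  one_mem' := R_le ρ fun v => by simp
  mul_mem' {a b} ha hb := (R_mul ρ a b).trans (sup_le ha hb)
  inv_mem' {a} ha := (R_inv ρ a).le.trans ha

include S

/-- A subspace invariant under the elements of a smaller alternating group, on which one of its cycles is not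
trivial, has the dimension demanded for that group. -/
theorem sub_bound [Finite G] (IH : Below.{u} (finrank k V + Nat.card G)) {m t : ℕ} (hm : 9 ≤ m) (hmr : m < r)
    (ht : Std t) (htm : t + 2 ≤ m) (κ : Fin m ↪ Fin r) (u : Fin t ↪ Fin m) (W : Submodule k V)
    (hW : ∀ g, φ g ∈ (emb κ).range → ∀ w ∈ W, ρ g w ∈ W) (hu : ∃ w ∈ W, ρ (L φ (u.trans κ)) w ≠ w) :
    Bd k m (finrank k W) := by
  classical
  set Y : Subgroup G := (emb κ).range.comap φ with hY
  let e : alternatingGroup (Fin m) ≃* (emb κ).range := MonoidHom.ofInjective (emb_injective κ)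
  let ψ : Y →* alternatingGroup (Fin m) := e.symm.toMonoidHom.comp (φ.subgroupComap (emb κ).range)
  have hψ : ∀ y : Y, emb κ (ψ y) = φ y := fun y => by
    have := congrArg Subtype.val (e.apply_symm_apply (φ.subgroupComap (emb κ).range y))
    exact this
  have hψs : Function.Surjective ψ := by
    intro a
    obtain ⟨g, hg⟩ := S.surj (emb κ a)
    exact ⟨⟨g, ⟨a, hg.symm⟩⟩, emb_injective κ (by rw [hψ]; exact hg)⟩
  let ρW : Representation k Y W :=
    { toFun := fun y => (ρ (y : G)).restrict (p := W) (q := W) fun w hw => hW y y.2 w hw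
      map_one' := LinearMap.ext fun w => Subtype.ext (by
        show ρ ((1 : Y) : G) (w : V) = _
        simp)
      map_mul' := fun y z => LinearMap.ext fun w => Subtype.ext (by
        show ρ ((y * z : Y) : G) (w : V) = ρ (y : G) (ρ (z : G) (w : V))
        rw [Subgroup.coe_mul, map_mul, Module.End.mul_apply]) }
  set N := MonoidHom.ker ρW with hN
  have hNfix : ∀ y ∈ N, ∀ w ∈ W, ρ (y : G) w = w := fun y hy w hw => by
    have := congrArg (fun f => ((f ⟨w, hw⟩ : W) : V)) (MonoidHom.mem_ker.1 hy)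
    exact this
  have hsimple : IsSimpleGroup (alternatingGroup (Fin m)) :=
    alternatingGroup.isSimpleGroup (by rw [Nat.card_eq_fintype_card, Fintype.card_fin]; omega)
  rcases ((inferInstance : N.Normal).map ψ hψs).eq_bot_or_eq_top with hb | hb
  · have hle : N ≤ ψ.ker := fun y hy => by
      have : ψ y ∈ N.map ψ := ⟨y, hy, rfl⟩
      rw [hb, Subgroup.mem_bot] at this
      exact this
    refine IH k W (Y ⧸ N) (QuotientGroup.lift N ρW le_rfl) m (QuotientGroup.lift N ψ hle) hm ?_ ?_ ?_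
    · intro a
      obtain ⟨y, rfl⟩ := hψs a
      exact ⟨QuotientGroup.mk y, rfl⟩
    · intro a b hab
      induction a using QuotientGroup.induction_on with
      | _ y =>
      induction b using QuotientGroup.induction_on with
      | _ z =>
      refine QuotientGroup.eq.2 (MonoidHom.mem_ker.2 ?_)
      have hab' : ρW y = ρW z := hab
      rw [map_mul, ← hab', ← map_mul, inv_mul_cancel, map_one]
    · have h1 := Subgroup.card_quotient_dvd_card N
      have h2 : Nat.card Y < Nat.card G := by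
        refine lt_of_le_of_ne (Nat.le_of_dvd Nat.card_pos (Subgroup.card_subgroup_dvd_card Y)) fun e => ?_
        obtain ⟨y, hy⟩ : ∃ y : Fin r, y ∉ Set.range κ := by
          by_contra! h
          have := Fintype.card_le_of_surjective κ h
          simp only [Fintype.card_fin] at this
          omega
        obtain ⟨π, hπ⟩ := exists_move (show 1 + 2 ≤ r by omega) ⟨fun _ : Fin 1 => y, fun _ _ _ => Subsingleton.elim _ _⟩
          ⟨fun _ : Fin 1 => κ ⟨0, by omega⟩, fun _ _ _ => Subsingleton.elim _ _⟩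
        have hyk : (π : Perm (Fin r)) y = κ ⟨0, by omega⟩ := DFunLike.congr_fun hπ 0
        obtain ⟨g, rfl⟩ := S.surj π
        have hg : g ∈ Y := by rw [Subgroup.eq_top_of_card_eq Y e]; exact Subgroup.mem_top g
        obtain ⟨a, ha⟩ := hg
        rw [← ha, emb_apply_notMem κ a y hy] at hyk
        exact hy ⟨_, hyk.symm⟩
      have h3 := Submodule.finrank_le W
      have := Nat.le_of_dvd Nat.card_pos h1
      omega
  · exfalso
    obtain ⟨w, hw, hne⟩ := hu
    refine hne (?_ : ρ _ w = w)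
    have hmem : ∀ a, emb κ a ∈ (N.map Y.subtype).map φ := fun a => by
      have : a ∈ N.map ψ := hb ▸ Subgroup.mem_top a
      obtain ⟨y, hy, rfl⟩ := this
      exact ⟨y, ⟨y, hy, rfl⟩, (hψ y).symm⟩
    have hL : L φ (u.trans κ) ∈ N.map Y.subtype := by
      refine L_mem S ht _ (by rw [← cyc_emb]; exact hmem _) ?_
      obtain ⟨g, hg⟩ := exists_inverter ht htm u
      exact ⟨emb κ g, hmem g, by rw [← cyc_emb, ← map_inv, ← map_mul, ← map_mul, hg, map_inv]⟩
    obtain ⟨y, hy, e'⟩ := hL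
    rw [← e']
    exact hNfix y hy w hw

/-- Cycles inside five points whose lifts generate what five-cycles generate. -/
theorem mem_of_five (Q : Subgroup G) (κ : Fin 5 ↪ Fin r) (hQ : ∀ σ : Fin 5 ↪ Fin 5, L φ (σ.trans κ) ∈ Q)
    {t : ℕ} (ht : Std t) (u : Fin t ↪ Fin 5) : L φ (u.trans κ) ∈ Q := by
  have hmem : ∀ a, emb κ a ∈ Q.map φ := by
    have h : Subgroup.closure (Set.range fun σ : Fin 5 ↪ Fin 5 => cyc σ) ≤ (Q.map φ).comap (emb κ) := by
      rw [Subgroup.closure_le]
      rintro _ ⟨σ, rfl⟩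
      exact ⟨_, hQ σ, by rw [φ_L S (Or.inr (Or.inl rfl)), cyc_emb]⟩
    rw [closure_cyc_five] at h
    exact fun a => h (Subgroup.mem_top a)
  refine L_mem S ht Q (by rw [← cyc_emb]; exact hmem _) ?_
  rcases ht with rfl | rfl | rfl
  · obtain ⟨g, hg⟩ := exists_inverter (Or.inl rfl) le_rfl u
    exact ⟨emb κ g, hmem g, by rw [← cyc_emb, ← map_inv, ← map_mul, ← map_mul, hg, map_inv]⟩
  · obtain ⟨g, hg⟩ := exists_inverter_five u
    exact ⟨emb κ (emb u g), hmem _, by rw [← cyc_emb, ← map_inv, ← map_mul, ← map_mul, hg, map_inv]⟩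
  · exact absurd (Fintype.card_le_of_embedding u) (by simp)

/-- Fixed commutator spaces of five-cycles give fixed commutator spaces of three-cycles. -/
theorem disjoint_of_five
    (h5 : ∀ (f : Fin 5 ↪ Fin r) (u : Fin 3 ↪ Fin r), (∀ i j, f i ≠ u j) →
      ∀ v, ρ (L φ u) (ρ (L φ f) v - v) = ρ (L φ f) v - v) :
    ∀ ι κ : Fin 3 ↪ Fin r, (∀ i j, ι i ≠ κ j) → ∀ v, ρ (L φ κ) (ρ (L φ ι) v - v) = ρ (L φ ι) v - v := by
  intro ι κ hd v
  obtain ⟨η, hη1, hη2⟩ := exists_compl κ
  have hι : ∀ i, ι i ∈ Set.range η := fun i => hη2 _ fun ⟨j, hj⟩ => hd i j hj.symm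
  choose f hf using hι
  let ι' : Fin 3 ↪ Fin (r - 3) := ⟨f, fun a b e => ι.injective (by rw [← hf a, ← hf b, e])⟩
  obtain ⟨μ, hμ⟩ := exists_extend (show 3 ≤ 5 by norm_num) (show 5 ≤ r - 3 by have := S.nine; omega) ι'
  have he : ι = (Fin.castLEEmb (show 3 ≤ 5 by norm_num)).trans (μ.trans η) := by
    ext i
    have : μ (Fin.castLE (by norm_num) i) = ι' i := DFunLike.congr_fun hμ i
    simp only [Function.Embedding.trans_apply, Fin.coe_castLEEmb, this]
    exact congrArg Fin.val (hf i).symm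
  let Q := moverIn ρ (LinearMap.ker (ρ (L φ κ) - 1))
  have hQ : ∀ σ : Fin 5 ↪ Fin 5, L φ (σ.trans (μ.trans η)) ∈ Q := fun σ => by
    refine R_le ρ fun w => ?_
    rw [LinearMap.mem_ker, LinearMap.sub_apply, Module.End.one_apply, sub_eq_zero]
    exact h5 _ κ (fun i j e => hη1 (μ (σ i)) ⟨j, e.symm⟩) w
  have := mem_of_five S Q (μ.trans η) hQ (Or.inl rfl) (Fin.castLEEmb (show 3 ≤ 5 by norm_num))
  rw [← he] at this
  have h := this (mem_R ρ (L φ ι) v)
  rwa [LinearMap.mem_ker, LinearMap.sub_apply, Module.End.one_apply, sub_eq_zero] at h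

/-- The four eigenspaces of a five-cycle to the values other than one have equal dimension. -/
theorem five_eigen (h5k : (5 : k) ≠ 0) (f : Fin 5 ↪ Fin r) {α : k} {W : Submodule k V}
    (hα5 : α ^ 5 = 1) (hα : α ≠ 1) (hW : R ρ (L φ f) ≤ W) :
    4 * finrank k (Module.End.eigenspace (ρ (L φ f)) α) ≤ finrank k W := by
  have h5 : Std 5 := Or.inr (Or.inl rfl)
  obtain ⟨π, hπ⟩ := rot_five_double
  obtain ⟨g', hg'⟩ := exists_conj_pow (show 5 + 2 ≤ r by have := S.nine; omega) f π 2 hπ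
  obtain ⟨h, rfl⟩ := S.surj g'
  have hc := L_conj_eq_pow S h5 h f 2 hg'
  set x := L φ f
  have hpow : ∀ a b : ℕ, α ^ a = α ^ b → a % 5 = b % 5 := by
    intro a b hab
    have : Fact (Nat.Prime 5) := ⟨by norm_num⟩
    have hprim : IsPrimitiveRoot α 5 := (orderOf_eq_prime hα5 hα) ▸ IsPrimitiveRoot.orderOf α
    refine hprim.pow_inj (Nat.mod_lt _ (by norm_num)) (Nat.mod_lt _ (by norm_num)) ?_
    rwa [← pow_eq_pow_mod a hα5, ← pow_eq_pow_mod b hα5]
  have h1 := eigen_dim_le (ρ := ρ) hc α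
  have h2 := eigen_dim_le (ρ := ρ) hc (α ^ 2)
  have h3 := eigen_dim_le (ρ := ρ) hc (α ^ 4)
  rw [show (α ^ 2) ^ 2 = α ^ 4 by ring] at h2
  rw [show (α ^ 4) ^ 2 = α ^ 3 * α ^ 5 by ring, hα5, mul_one] at h3
  have hs := sum_eigenspace_le ρ ({1, 2, 3, 4} : Finset ℕ) x (fun i => α ^ i) (by
      intro a ha b hb hab
      have := hpow a b hab
      simp only [Finset.coe_insert, Finset.coe_singleton, Set.mem_insert_iff, Set.mem_singleton_iff] at ha hb
      omega) W (fun i hi => (eigen_le_R (fun e => by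
      have := hpow i 0 (by rw [e, pow_zero])
      simp only [Finset.mem_insert, Finset.mem_singleton] at hi
      omega)).trans hW)
  rw [Finset.sum_insert (by decide), Finset.sum_insert (by decide), Finset.sum_insert (by decide),
    Finset.sum_singleton, pow_one] at hs
  omega

/-- The commutator space of a three-cycle is at least two-dimensional. -/
theorem two_le_R (hk : (3 : k) ≠ 0 ∨ (5 : k) ≠ 0) (ι : Fin 3 ↪ Fin r) : 2 ≤ finrank k (R ρ (L φ ι)) := by
  have h3 : Std 3 := Or.inl rfl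
  have hr : 3 + 2 ≤ r := by have := S.nine; omega
  by_cases h3k : (3 : k) = 0
  · have h5k : (5 : k) ≠ 0 := hk.resolve_left (fun h => h h3k)
    by_contra hlt
    obtain ⟨g', hg'⟩ := exists_move (show 3 + 2 ≤ r from hr) ι
      ((⟨![0, 1, 2], by decide⟩ : Fin 3 ↪ Fin 5).trans (Fin.castLEEmb (show 5 ≤ r by omega)))
    obtain ⟨g, rfl⟩ := S.surj g'
    obtain ⟨g'', hg''⟩ := exists_move (show 3 + 2 ≤ r from hr) ι
      ((⟨![2, 3, 4], by decide⟩ : Fin 3 ↪ Fin 5).trans (Fin.castLEEmb (show 5 ≤ r by omega)))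
    obtain ⟨g₂, rfl⟩ := S.surj g''
    set κ := Fin.castLEEmb (show 5 ≤ r by omega)
    set a := (⟨![0, 1, 2], by decide⟩ : Fin 3 ↪ Fin 5).trans κ with ha
    set b := (⟨![2, 3, 4], by decide⟩ : Fin 3 ↪ Fin 5).trans κ with hb
    set W := R ρ (L φ a) ⊔ R ρ (L φ b)
    have hR : ∀ (g : G) (c : Fin 3 ↪ Fin r), ι.trans (φ g : Perm (Fin r)).toEmbedding = c →
        finrank k (R ρ (L φ c)) ≤ 1 := by
      intro g c hc
      rw [← hc, ← L_conj S h3, R_conj]
      exact (Submodule.finrank_map_le _ _).trans (by omega)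
    have hWd : finrank k W ≤ 2 := (Submodule.finrank_add_le_finrank_add_finrank _ _).trans
      (Nat.add_le_add (hR g a hg') (hR g₂ b hg''))
    let Q := moverIn ρ W
    have hQa : L φ a ∈ Q := show R ρ _ ≤ W from le_sup_left
    have hQb : L φ b ∈ Q := show R ρ _ ≤ W from le_sup_right
    obtain ⟨e1, g₃, e2, e3⟩ := five_from_threes ((Q.map φ).comap (emb κ))
      ⟨_, hQa, by rw [φ_L S h3, ha, cyc_emb]⟩ ⟨_, hQb, by rw [φ_L S h3, hb, cyc_emb]⟩
    have hf : L φ κ ∈ Q := L_mem S (Or.inr (Or.inl rfl)) Q e1 ⟨emb κ g₃, e2, by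
      rw [cyc, ← map_inv, ← map_mul, ← map_mul, e3, map_inv]⟩
    obtain ⟨α, v, hv0, hv, hα⟩ := exists_eigen_ne_one ρ (L_pow S (Or.inr (Or.inl rfl)) κ) (by exact_mod_cast h5k)
      (ρ_L_ne_one S (Or.inr (Or.inl rfl)) κ)
    have h4 := five_eigen S h5k κ (root_of_eigen ρ (L_pow S (Or.inr (Or.inl rfl)) κ) hv0 hv) hα (hf : R ρ _ ≤ W)
    have hpos : 1 ≤ finrank k (Module.End.eigenspace (ρ (L φ κ)) α) := Submodule.one_le_finrank_iff.2 fun e => hv0 (by
      have := Module.End.mem_eigenspace_iff.2 hv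
      rwa [e, Submodule.mem_bot] at this)
    omega
  · obtain ⟨α, v, hv0, hv, hα⟩ := exists_eigen_ne_one ρ (L_pow S h3 ι) (by exact_mod_cast h3k) (ρ_L_ne_one S h3 ι)
    obtain ⟨g', hg'⟩ := exists_inverter h3 hr ι
    obtain ⟨g, rfl⟩ := S.surj g'
    have hc : g * L φ ι * g⁻¹ = L φ ι ^ 2 := L_conj_eq_pow S h3 g ι 2 (hg'.trans (eq_inv_of_mul_eq_one_left (by
      rw [← pow_succ, cyc_pow cycData_three])).symm)
    have hα3 := root_of_eigen ρ (L_pow S h3 ι) hv0 hv
    have hα2 : α ^ 2 ≠ α := fun e => hα (by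
      have h0 : α ≠ 0 := fun h => by simp [h] at hα3
      exact mul_left_cancel₀ h0 (by rw [mul_one, ← pow_two, e]))
    have hg1 : ρ g⁻¹ v ≠ 0 := fun h => hv0 (rho_injective (ρ := ρ) g⁻¹ (by rw [h, map_zero]))
    have hev := eigen_conj (ρ := ρ) hc hv
    have := card_le_of_eigen ρ ({0, 1} : Finset ℕ) (L φ ι) (fun i => if i = 0 then α else α ^ 2) (by
      intro i hi j hj hij
      simp only [Finset.coe_insert, Finset.coe_singleton, Set.mem_insert_iff, Set.mem_singleton_iff] at hi hj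
      rcases hi with rfl | rfl <;> rcases hj with rfl | rfl <;> simp at hij ⊢ <;>
        first | exact hα2 hij | exact hα2 hij.symm) (R ρ (L φ ι)) (by
      intro i hi
      simp only [Finset.mem_insert, Finset.mem_singleton] at hi
      rcases hi with rfl | rfl
      · exact ⟨v, eigen_le_R hα (Module.End.mem_eigenspace_iff.2 hv), hv0, by simpa using hv⟩
      · refine ⟨ρ g⁻¹ v, eigen_le_R (fun e => ?_) (Module.End.mem_eigenspace_iff.2 hev), hg1, by simpa using hev⟩
        exact hα (by calc α = α * α ^ 2 := by rw [e, mul_one]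
          _ = α ^ 3 := by ring
          _ = 1 := hα3))
    simpa using this

/-- Eigenspaces of an element of finite order prime to the characteristic span. -/
theorem iSup_eigen_top {x : G} {n : ℕ} (hx : x ^ n = 1) (hn : (n : k) ≠ 0) :
    ⨆ μ, Module.End.eigenspace (ρ x) μ = ⊤ := by
  refine Module.End.IsSemisimple.iSup_eigenspace_eq_top (Module.End.isSemisimple_of_squarefree_aeval_eq_zero
    (p := (Polynomial.X ^ n - 1 : Polynomial k)) ((Polynomial.X_pow_sub_one_separable_iff.2 hn).squarefree) ?_)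
  rw [map_sub, Polynomial.aeval_X_pow, map_one, ← map_pow, hx, map_one, sub_self]

/-- A five-cycle and a disjoint cycle: either the latter fixes the commutator space of the former, or one of the
eigenspaces shows it. -/
theorem five_witness (h5k : (5 : k) ≠ 0) (f : Fin 5 ↪ Fin r) (u : Fin 3 ↪ Fin r) (hd : ∀ i j, f i ≠ u j)
    {v : V} (hv : ρ (L φ u) (ρ (L φ f) v - v) ≠ ρ (L φ f) v - v) :
    ∃ α : k, α ^ 5 = 1 ∧ α ≠ 1 ∧ ∃ w ∈ Module.End.eigenspace (ρ (L φ f)) α, ρ (L φ u) w ≠ w := by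
  have h5 : Std 5 := Or.inr (Or.inl rfl)
  by_contra hno
  push Not at hno
  let T := (ρ (L φ u) - 1) * (ρ (L φ f) - 1)
  have htop : (⊤ : Submodule k V) ≤ LinearMap.ker T := by
    rw [← iSup_eigen_top S (L_pow S h5 f) (by exact_mod_cast h5k)]
    refine iSup_le fun μ w hw => ?_
    have hev := Module.End.mem_eigenspace_iff.1 hw
    simp only [T, LinearMap.mem_ker, Module.End.mul_apply, LinearMap.sub_apply, Module.End.one_apply, hev,
      map_sub, map_smul]
    by_cases hw0 : w = 0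
    · simp [hw0]
    by_cases hμ : μ = 1
    · simp [hμ]
    · simp [hno μ (root_of_eigen ρ (L_pow S h5 f) hw0 hev) hμ w hw]
  have hv' : (ρ (L φ u) - 1) ((ρ (L φ f) - 1) v) = 0 := htop (Submodule.mem_top (x := v))
  simp only [LinearMap.sub_apply, Module.End.one_apply] at hv'
  exact hv (sub_eq_zero.1 hv')

/-- Elements covering permutations disjoint from a cycle preserve its eigenspaces. -/
theorem eigen_stable {t : ℕ} (ht : Std t) (f : Fin t ↪ Fin r) (g : G)
    (hfix : ∀ i, (φ g : Perm (Fin r)) (f i) = f i) (α : k) :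
    ∀ w ∈ Module.End.eigenspace (ρ (L φ f)) α, ρ g w ∈ Module.End.eigenspace (ρ (L φ f)) α := by
  intro w hw
  have h : g * L φ f * g⁻¹ = L φ f := by
    rw [L_conj S ht, show f.trans (φ g : Perm (Fin r)).toEmbedding = f from by ext i; simp [hfix]]
  have hc : Commute (L φ f) g := (mul_inv_eq_iff_eq_mul.1 h).symm
  rw [Module.End.mem_eigenspace_iff, rho_comm ρ hc, Module.End.mem_eigenspace_iff.1 hw, map_smul]

omit S in
theorem five_lift_fix {m : ℕ} {f : Fin 5 ↪ Fin r} {κ : Fin m ↪ Fin r} (hκ : ∀ j, κ j ∉ Set.range f)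
    (g : G) (hg : φ g ∈ (emb κ).range) (i : Fin 5) : (φ g : Perm (Fin r)) (f i) = f i := by
  obtain ⟨a, ha⟩ := hg
  rw [← ha, emb_apply_notMem κ a (f i) fun ⟨j, hj⟩ => hκ j ⟨i, hj.symm⟩]

/-- The characteristic is not five. -/
theorem bound_five [Finite G] (IH : Below.{u} (finrank k V + Nat.card G)) (h5k : (5 : k) ≠ 0)
    (hcase : (3 : k) = 0 ∨ 10 ≤ r) : Bd k r (finrank k V) := by
  classical
  have h3 : Std 3 := Or.inl rfl
  have h5 : Std 5 := Or.inr (Or.inl rfl)
  have hr := S.nine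
  by_cases H : ∀ (f : Fin 5 ↪ Fin r) (u : Fin 3 ↪ Fin r), (∀ i j, f i ≠ u j) →
      ∀ v, ρ (L φ u) (ρ (L φ f) v - v) = ρ (L φ f) v - v
  · exact bound_of_disjoint S (disjoint_of_five S H) (two_le_R S (Or.inr h5k))
  push Not at H
  obtain ⟨f, u, hd, v, hv⟩ := H
  obtain ⟨κ, hκ1, hκ2⟩ := exists_compl f
  have hu : ∀ j, u j ∈ Set.range κ := fun j => hκ2 _ fun ⟨i, hi⟩ => hd i j hi
  choose u₀ hu₀ using hu
  let u' : Fin 3 ↪ Fin (r - 5) := ⟨u₀, fun a b e => u.injective (by rw [← hu₀ a, ← hu₀ b, e])⟩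
  have hu' : u'.trans κ = u := by ext j; exact congrArg Fin.val (hu₀ j)
  -- the eigenspaces
  obtain ⟨α, hα5, hα1, w, hw, hwu⟩ := five_witness S h5k f u hd hv
  have h4 := five_eigen S h5k f hα5 hα1 (W := (⊤ : Submodule k V)) le_top
  rw [finrank_top] at h4
  set E := Module.End.eigenspace (ρ (L φ f)) α
  have hstab : ∀ g, φ g ∈ (emb κ).range → ∀ x ∈ E, ρ g x ∈ E := fun g hg =>
    eigen_stable S h5 f g (five_lift_fix hκ1 g hg) α
  by_cases h14 : 14 ≤ r
  · have hb := sub_bound S IH (show 9 ≤ r - 5 by omega) (show r - 5 < r by omega) h3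
      (show 3 + 2 ≤ r - 5 by omega) κ u' E hstab ⟨w, hw, by rwa [hu']⟩
    exact Bd_of_le (by have := hb.1; omega)
  by_cases h10 : 10 ≤ r
  · -- two disjoint five-cycles
    obtain ⟨μ, hμ⟩ := exists_extend (show 3 ≤ 5 by norm_num) (show 5 ≤ r - 5 by omega) u'
    obtain ⟨σ, hσ⟩ : ∃ σ : Fin 5 ↪ Fin 5, ∃ z ∈ R ρ (L φ f), ρ (L φ (σ.trans (μ.trans κ))) z ≠ z := by
      by_contra hno
      push Not at hno
      have := mem_of_five S (fixer ρ (R ρ (L φ f))) (μ.trans κ) hno h3 (Fin.castLEEmb (show 3 ≤ 5 by norm_num))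
      rw [show (Fin.castLEEmb (show 3 ≤ 5 by norm_num)).trans (μ.trans κ) = u by
        rw [← hu', ← hμ]; rfl] at this
      exact hv (this _ (mem_R ρ _ v))
    set f₂ := σ.trans (μ.trans κ) with hf₂
    obtain ⟨z, ⟨z₀, rfl⟩, hz⟩ := hσ
    have hd2 : ∀ i j, f i ≠ f₂ j := fun i j e => hκ1 (μ (σ j)) ⟨i, e⟩
    obtain ⟨a, b, x, hx0, hxa, hxb, ha1, hb1⟩ := exists_joint ρ (L_pow S h5 f) (L_pow S h5 f₂)
      (by exact_mod_cast h5k) (by exact_mod_cast h5k) (L_commute S h5 h5 hd2) ⟨z₀, by simpa using hz⟩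
    have ha5 := root_of_eigen ρ (L_pow S h5 f) hx0 hxa
    have hb5 := root_of_eigen ρ (L_pow S h5 f₂) hx0 hxb
    -- each eigenspace contains four values
    obtain ⟨π, hπ⟩ := rot_five_double
    have hmove : ∃ h : G, h * L φ f₂ * h⁻¹ = L φ f₂ ^ 4 ∧ h * L φ f * h⁻¹ = L φ f := by
      obtain ⟨g, hg⟩ := exists_inverter_five f₂
      obtain ⟨h, hh⟩ := S.surj (emb f₂ g)
      refine ⟨h, L_conj_eq_pow S h5 h f₂ 4 ?_, ?_⟩
      · rw [hh, hg]
        exact (eq_inv_of_mul_eq_one_left (by rw [← pow_succ, cyc_pow cycData_five])).symm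
      · rw [L_conj S h5, show f.trans (φ h : Perm (Fin r)).toEmbedding = f from by
          ext i; simp [hh, emb_apply_notMem f₂ g (f i) fun ⟨j, hj⟩ => hd2 i j hj.symm]]
    obtain ⟨h, hh2, hh1⟩ := hmove
    have hb4 : ρ (L φ f₂) (ρ h⁻¹ x) = b ^ 4 • ρ h⁻¹ x := eigen_conj hh2 hxb
    have ha4 : ρ (L φ f) (ρ h⁻¹ x) = a • ρ h⁻¹ x := by
      have := eigen_conj (ρ := ρ) (c := 1) (z := L φ f) (by rw [pow_one]; exact hh1) hxa
      rwa [pow_one] at this
    -- a value and its double
    obtain ⟨ι2, hι2⟩ : ∃ ι2 : Fin (5 + 5) ↪ Fin r, (Fin.castAddEmb 5).trans ι2 = f ∧ (Fin.natAddEmb 5).trans ι2 = f₂ := by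
      refine ⟨⟨Fin.append f f₂, fun i j e => ?_⟩, ?_, ?_⟩
      · induction i using Fin.addCases with
        | left i =>
          induction j using Fin.addCases with
          | left j => simp only [Fin.append_left] at e; rw [f.injective e]
          | right j => simp only [Fin.append_left, Fin.append_right] at e; exact absurd e (hd2 i j)
        | right i =>
          induction j using Fin.addCases with
          | left j => simp only [Fin.append_left, Fin.append_right] at e; exact absurd e.symm (hd2 j i)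
          | right j => simp only [Fin.append_right] at e; rw [f₂.injective e]
      · ext i; exact congrArg Fin.val (Fin.append_left f f₂ i)
      · ext i; exact congrArg Fin.val (Fin.append_right f f₂ i)
    obtain ⟨hS1, hS2⟩ := hι2
    have hswap : ∃ h : G, h * L φ f * h⁻¹ = L φ f₂ ∧ h * L φ f₂ * h⁻¹ = L φ f ^ 2 := by
      let p : alternatingGroup (Fin 10) := ⟨Equiv.mk (![5, 6, 7, 8, 9, 0, 2, 4, 1, 3]) (![5, 8, 6, 9, 7, 0, 1, 2, 3, 4])
        (by decide) (by decide), Equiv.Perm.mem_alternatingGroup.2 (by decide)⟩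
      let π₂ : Fin 5 ↪ Fin 5 := ⟨![0, 2, 4, 1, 3], by decide⟩
      have hp1 : ∀ j, (p : Perm (Fin 10)) (Fin.castAdd 5 j) = Fin.natAdd 5 j := by decide
      have hp3 : ∀ j : Fin 5, (p : Perm (Fin 10)) (Fin.natAdd 5 j) = Fin.castAdd 5 (π₂ j) := by decide
      have hπ₂ : cyc π₂ = rot 5 ^ 2 := cyc_eq_iff _ _ (by decide) (by decide)
      obtain ⟨h, hh⟩ := S.surj (emb ι2 p)
      have hmap : ∀ j : Fin 10, (φ h : Perm (Fin r)) (ι2 j) = ι2 ((p : Perm (Fin 10)) j) := fun j => by
        rw [hh, emb_apply]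
      have hl : ∀ j, ι2 (Fin.castAdd 5 j) = f j := fun j => DFunLike.congr_fun hS1 j
      have hr' : ∀ j, ι2 (Fin.natAdd 5 j) = f₂ j := fun j => DFunLike.congr_fun hS2 j
      refine ⟨h, ?_, ?_⟩
      · rw [L_conj S h5, show f.trans (φ h : Perm (Fin r)).toEmbedding = f₂ from by
          ext j; simp only [Function.Embedding.trans_apply, Equiv.coe_toEmbedding]; rw [← hl, hmap, hp1, hr']]
      · rw [L_conj S h5, show f₂.trans (φ h : Perm (Fin r)).toEmbedding = π₂.trans f from by
          ext j; simp only [Function.Embedding.trans_apply, Equiv.coe_toEmbedding]; rw [← hr', hmap, hp3, hl]]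
        refine (L_pow_eq S h5 f _ 2 ?_).symm
        rw [← cyc_emb, hπ₂, map_pow]
        rfl
    obtain ⟨h', hs1, hs2⟩ := hswap
    -- the weights
    let P : k → k → Prop := fun a b => ∃ x : V, x ≠ 0 ∧ ρ (L φ f) x = a • x ∧ ρ (L φ f₂) x = b • x
    have T1 : ∀ a b, P a b → P a (b ^ 4) := by
      rintro a b ⟨x, hx, hxa, hxb⟩
      refine ⟨ρ h⁻¹ x, fun e => hx (rho_injective (ρ := ρ) h⁻¹ (by rw [e, map_zero])), ?_, eigen_conj hh2 hxb⟩
      have := eigen_conj (ρ := ρ) (c := 1) (z := L φ f) (by rw [pow_one]; exact hh1) hxa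
      rwa [pow_one] at this
    have T2 : ∀ a b, P a b → P b (a ^ 2) := by
      rintro a b ⟨x, hx, hxa, hxb⟩
      refine ⟨ρ h'⁻¹ x, fun e => hx (rho_injective (ρ := ρ) h'⁻¹ (by rw [e, map_zero])), ?_, eigen_conj hs2 hxa⟩
      have := eigen_conj (ρ := ρ) (c := 1) (z := L φ f₂) (by rw [pow_one]; exact hs1) hxb
      rwa [pow_one] at this
    have T3 : ∀ (m : ℕ) a b, P a b → P (a ^ 2 ^ m) (b ^ 2 ^ m) := by
      intro m a b hP
      induction m with
      | zero => simpa using hP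
      | succ m ih =>
        have := T2 _ _ (T2 _ _ ih)
        rwa [← pow_mul, ← pow_mul, ← pow_succ] at this
    have : Fact (Nat.Prime 5) := ⟨by norm_num⟩
    have hprim : IsPrimitiveRoot a 5 := (orderOf_eq_prime ha5 ha1) ▸ IsPrimitiveRoot.orderOf a
    obtain ⟨e, he, rfl⟩ := hprim.eq_pow_of_pow_eq_one hb5
    have hcomb : ∀ e < 5, e ≠ 0 → ∃ m < 4, e * 2 ^ m % 5 = 1 ∧
        [e % 5, e * 4 % 5, 2 * 2 ^ m % 5, 2 * 2 ^ m * 4 % 5].Nodup := by decide
    obtain ⟨m, -, hm, hnd⟩ := hcomb e he (fun h0 => hb1 (by rw [h0, pow_zero]))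
    have hP : P a (a ^ e) := ⟨x, hx0, hxa, hxb⟩
    have hP3 : P a (a ^ (2 * 2 ^ m)) := by
      have := T3 m _ _ (T2 _ _ hP)
      rwa [← pow_mul, pow_eq_pow_mod (e * 2 ^ m) ha5, hm, pow_one, ← pow_mul] at this
    have hall : ∀ i ∈ [e % 5, e * 4 % 5, 2 * 2 ^ m % 5, 2 * 2 ^ m * 4 % 5].toFinset, P a (a ^ i) := by
      intro i hi
      simp only [List.mem_toFinset, List.mem_cons, List.not_mem_nil, or_false] at hi
      rcases hi with rfl | rfl | rfl | rfl
      · rwa [← pow_eq_pow_mod e ha5]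
      · rw [← pow_eq_pow_mod _ ha5, pow_mul]; exact T1 _ _ hP
      · rwa [← pow_eq_pow_mod _ ha5]
      · rw [← pow_eq_pow_mod _ ha5, pow_mul]; exact T1 _ _ hP3
    have hlt : ∀ i ∈ [e % 5, e * 4 % 5, 2 * 2 ^ m % 5, 2 * 2 ^ m * 4 % 5].toFinset, i < 5 := by
      intro i hi
      simp only [List.mem_toFinset, List.mem_cons, List.not_mem_nil, or_false] at hi
      omega
    have hc4 := card_le_of_eigen ρ _ (L φ f₂) (fun i => a ^ i)
      (fun i hi j hj hij => hprim.pow_inj (hlt i hi) (hlt j hj) hij) (Module.End.eigenspace (ρ (L φ f)) a) (fun i hi => by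
        obtain ⟨x, hx, hxa, hxb⟩ := hall i hi
        exact ⟨x, Module.End.mem_eigenspace_iff.2 hxa, hx, hxb⟩)
    rw [List.toFinset_card_of_nodup hnd] at hc4
    have h16 := five_eigen S h5k f ha5 ha1 (W := (⊤ : Submodule k V)) le_top
    rw [finrank_top] at h16
    simp only [List.length_cons, List.length_nil] at hc4
    exact Bd_of_le (by omega)
  · -- nine points in characteristic three
    have h3k : (3 : k) = 0 := hcase.resolve_right h10
    have hd2 : 2 ≤ finrank k E := by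
      by_contra hlt
      have hwE : (⟨w, hw⟩ : E) ≠ 0 := fun e => hwu (by rw [show w = 0 from congrArg Subtype.val e, map_zero])
      have h1 : finrank k E = 1 := by
        have : 0 < finrank k E := finrank_pos_iff_exists_ne_zero.2 ⟨_, hwE⟩
        omega
      obtain ⟨c, hc⟩ := (finrank_eq_one_iff_of_nonzero' (⟨w, hw⟩ : E) hwE).1 h1
        ⟨_, hstab (L φ u) (by rw [φ_L S h3, ← hu', ← cyc_emb]; exact ⟨_, rfl⟩) w hw⟩
      have hc' : ρ (L φ u) w = c • w := (congrArg Subtype.val hc).symm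
      have hw0 : w ≠ 0 := fun e => hwE (Subtype.ext e)
      have hc3 := root_of_eigen ρ (L_pow S h3 u) hw0 hc'
      have hc1 : c = 1 := by
        refine sub_eq_zero.1 ((pow_eq_zero_iff (three_ne_zero : (3 : ℕ) ≠ 0)).1 ?_)
        linear_combination hc3 + (-c ^ 2 + c) * h3k
      exact hwu (by rw [hc', hc1, one_smul])
    exact Bd_of_le (by omega)

end Cfsg.Agent.AltSection95
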