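import Mathlib

/-!
Lifting an element of prime order of a section to a subgroup of prime power order, with a
Frattini adjustment for elements normalising it; moving two commuting primary subgroups into an
abelian subgroup of index prime to both.
-/

set_option autoImplicit false

namespace Cfsg.Agent.AltSectionLift68

variable {H : Type*} [Group H] [Finite H] {A : Type*} [Group A] [Finite A] (π : H →* A)

/-- Lift of an element of prime order inside `U`, with the Frattini adjustment. -/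
theorem exists_lift {ℓ : ℕ} [Fact ℓ.Prime] {c : A} (hc : orderOf c = ℓ) (U : Subgroup H) {x : H}
    (hxU : x ∈ U) (hx : π x = c) :
    ∃ P : Subgroup H, IsPGroup ℓ P ∧ P ≤ U ∧ (∀ z ∈ P, π z ∈ Subgroup.zpowers c) ∧
      (∃ z ∈ P, π z = c) ∧
      ∀ (y : H) (e : ℕ), (∀ u ∈ U, y * u * y⁻¹ ∈ U) → π y * c * (π y)⁻¹ = c ^ e →
        ∃ z ∈ U, π z ∈ Subgroup.zpowers c ∧ ∀ w ∈ P, z * y * w * (z * y)⁻¹ ∈ P := by
  let M : Subgroup H := U ⊓ (Subgroup.zpowers c).comap π
  obtain ⟨S⟩ : Nonempty (Sylow ℓ M) := inferInstance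
  let f : M →* ↥(Subgroup.zpowers c) := (π.comp M.subtype).codRestrict (Subgroup.zpowers c) fun m => m.2.2
  have hfs : Function.Surjective f := by
    rintro ⟨_, k, rfl⟩
    refine ⟨⟨x ^ k, U.zpow_mem hxU k, ?_⟩, Subtype.ext ?_⟩
    · show π (x ^ k) ∈ Subgroup.zpowers c
      rw [map_zpow, hx]; exact Subgroup.zpow_mem _ (Subgroup.mem_zpowers c) k
    · show π (x ^ k) = c ^ k
      rw [map_zpow, hx]
  refine ⟨(S : Subgroup M).map M.subtype, S.isPGroup'.map _, ?_, ?_, ?_, ?_⟩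
  · rintro _ ⟨z, -, rfl⟩; exact z.2.1
  · rintro _ ⟨z, -, rfl⟩; exact z.2.2
  · have htop : (S.mapSurjective hfs : Subgroup ↥(Subgroup.zpowers c)) = ⊤ := by
      have h := (S.mapSurjective hfs).card_eq_multiplicity
      rw [Nat.card_zpowers, hc, Nat.Prime.factorization_self (Fact.out : ℓ.Prime), pow_one] at h
      exact Subgroup.eq_top_of_card_eq _ (by rw [h, Nat.card_zpowers, hc])
    have h : (⟨c, Subgroup.mem_zpowers c⟩ : ↥(Subgroup.zpowers c)) ∈ (S : Subgroup M).map f := by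
      rw [← Sylow.coe_mapSurjective hfs S, htop]; trivial
    obtain ⟨w, hw, hwe⟩ := h
    exact ⟨w, ⟨w, hw, rfl⟩, congrArg Subtype.val hwe⟩
  · intro y e hyU hyc
    have hyM : ∀ m ∈ M, y * m * y⁻¹ ∈ M := by
      rintro m ⟨hm1, k, hk⟩
      refine ⟨hyU m hm1, ?_⟩
      show π (y * m * y⁻¹) ∈ Subgroup.zpowers c
      rw [map_mul, map_mul, map_inv, ← show c ^ k = π m from hk, ← conj_zpow, hyc]
      exact Subgroup.zpow_mem _ (Subgroup.pow_mem _ (Subgroup.mem_zpowers c) e) k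
    let Q : Subgroup H := ((S : Subgroup M).map M.subtype).map (MulAut.conj y).toMonoidHom
    have hle : Q ≤ M := by
      rintro _ ⟨z, ⟨z', -, rfl⟩, rfl⟩
      exact hyM _ z'.2
    obtain ⟨S', hS'⟩ : ∃ S' : Sylow ℓ M, (S' : Subgroup M).map M.subtype = Q := by
      refine ⟨Sylow.ofCard (Q.subgroupOf M) ?_, ?_⟩
      · rw [Nat.card_congr (Subgroup.subgroupOfEquivOfLe hle).toEquiv]
        show Nat.card ↥Q = _
        rw [Subgroup.card_map_of_injective (MulAut.conj y).injective,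
          Subgroup.card_map_of_injective M.subtype_injective, S.card_eq_multiplicity]
      · rw [Sylow.coe_ofCard, Subgroup.map_subgroupOf_eq_of_le hle]
    obtain ⟨z, hz⟩ := MulAction.exists_smul_eq M S' S
    refine ⟨z, z.2.1, z.2.2, fun w hw => ?_⟩
    have h1 : y * w * y⁻¹ ∈ (S' : Subgroup M).map M.subtype := hS' ▸ ⟨w, hw, rfl⟩
    obtain ⟨v, hv, hve⟩ := h1
    refine ⟨z * v * z⁻¹, ?_, ?_⟩
    · rw [← hz, Sylow.coe_subgroup_smul]
      exact Subgroup.smul_mem_pointwise_smul v (MulAut.conj z) _ hv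
    · simp only [Subgroup.coe_subtype] at hve ⊢
      rw [Subgroup.coe_mul, Subgroup.coe_mul, Subgroup.coe_inv, hve]
      group

/-- the exponent map of a cyclic subgroup of prime order -/
theorem exists_log {ℓ : ℕ} [Fact ℓ.Prime] {c : A} (hc : orderOf c = ℓ) :
    ∃ L : Additive ↥(Subgroup.zpowers c) →+ ZMod ℓ,
      ∀ k : ℤ, L (Additive.ofMul ⟨c ^ k, k, rfl⟩) = (k : ZMod ℓ) := by
  let E : ZMod ℓ →+ Additive ↥(Subgroup.zpowers c) := ZMod.lift ℓ
    ⟨zmultiplesHom _ (Additive.ofMul (⟨c, Subgroup.mem_zpowers c⟩ : ↥(Subgroup.zpowers c))), by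
      show (ℓ : ℤ) • Additive.ofMul (⟨c, _⟩ : ↥(Subgroup.zpowers c)) = 0
      rw [natCast_zsmul, ← ofMul_pow, ← ofMul_one]
      exact congrArg Additive.ofMul (Subtype.ext (by simp [← hc, pow_orderOf_eq_one]))⟩
  have hE : ∀ k : ℤ, E (k : ZMod ℓ) = Additive.ofMul ⟨c ^ k, k, rfl⟩ := fun k => by
    simp only [E, ZMod.lift_coe, zmultiplesHom_apply, ← ofMul_zpow]
    exact congrArg Additive.ofMul (Subtype.ext (by simp))
  have hinj : Function.Injective E := by
    rw [ZMod.lift_injective]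
    intro k hk
    have h : c ^ k = 1 := by
      have h := congrArg (fun t => ((Additive.toMul t : ↥(Subgroup.zpowers c)) : A)) hk
      simpa using h
    rw [ZMod.intCast_zmod_eq_zero_iff_dvd, ← hc]
    exact orderOf_dvd_iff_zpow_eq_one.2 h
  have hsurj : Function.Surjective E := by
    intro t
    obtain ⟨k, hk⟩ := (Additive.toMul t : ↥(Subgroup.zpowers c)).2
    exact ⟨k, (hE k).trans (congrArg Additive.ofMul (Subtype.ext hk))⟩
  refine ⟨(AddEquiv.ofBijective E ⟨hinj, hsurj⟩).symm.toAddMonoidHom, fun k => ?_⟩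
  rw [← hE k]
  exact (AddEquiv.ofBijective E ⟨hinj, hsurj⟩).symm_apply_apply _

section Move

set_option linter.unusedSectionVars false

variable {G : Type*} [Group G] [Finite G] (T : Subgroup G)

/-- A `p`-subgroup commuting with a subgroup of the abelian `T` moves into `T` keeping that
subgroup fixed, if `p` does not divide the index of `T`. -/
theorem exists_conj_fix (hT : ∀ a ∈ T, ∀ b ∈ T, a * b = b * a) {p : ℕ} [Fact p.Prime]
    (hidx : ¬ p ∣ T.index) {P Q : Subgroup G} (hP : P ≤ T) (hQ : IsPGroup p Q)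
    (hcomm : ∀ x ∈ P, ∀ y ∈ Q, x * y = y * x) :
    ∃ a : G, (∀ x ∈ P, a * x * a⁻¹ = x) ∧ ∀ y ∈ Q, a * y * a⁻¹ ∈ T := by
  let C : Subgroup G := Subgroup.centralizer (P : Set G)
  have hTC : T ≤ C := fun t ht => Subgroup.mem_centralizer_iff.2 fun x hx => hT x (hP hx) t ht
  have hQC : Q ≤ C := fun t ht => Subgroup.mem_centralizer_iff.2 fun x hx => hcomm x hx t ht
  have hQ' : IsPGroup p ↥(Q.subgroupOf C) :=
    hQ.of_equiv (Subgroup.subgroupOfEquivOfLe hQC).symm
  have hnd : ¬ p ∣ Nat.card (↥C ⧸ T.subgroupOf C) := fun h =>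
    hidx (h.trans (Dvd.intro _ (Subgroup.relIndex_mul_index hTC)))
  obtain ⟨a, ha⟩ := hQ'.nonempty_fixed_point_of_prime_not_dvd_card (↥C ⧸ T.subgroupOf C) hnd
  induction a using QuotientGroup.induction_on with
  | _ a =>
    refine ⟨((a⁻¹ : ↥C) : G), fun x hx => ?_, fun y hy => ?_⟩
    · have h : x * ((a⁻¹ : ↥C) : G) = ((a⁻¹ : ↥C) : G) * x :=
        Subgroup.mem_centralizer_iff.1 (a⁻¹).2 x hx
      rw [← h, mul_inv_cancel_right]
    · let y' : ↥(Q.subgroupOf C) := ⟨⟨y, hQC hy⟩, hy⟩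
      have h1 : (QuotientGroup.mk ((y' : ↥C) * a) : ↥C ⧸ T.subgroupOf C) = QuotientGroup.mk a :=
        ha y'
      have h2 := QuotientGroup.eq.1 h1.symm
      rw [Subgroup.mem_subgroupOf] at h2
      rw [Subgroup.coe_inv, inv_inv]
      simpa [y', mul_assoc] using h2

/-- a subgroup containing a conjugate of every `p`-subgroup has index prime to `p` -/
theorem not_dvd_index {p : ℕ} [Fact p.Prime]
    (h : ∀ Q : Subgroup G, IsPGroup p Q → ∃ a : G, ∀ x ∈ Q, a * x * a⁻¹ ∈ T) :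
    ¬ p ∣ T.index := by
  obtain ⟨S⟩ : Nonempty (Sylow p G) := inferInstance
  obtain ⟨a, ha⟩ := h _ S.isPGroup'
  have hle : (S : Subgroup G).map (MulAut.conj a).toMonoidHom ≤ T := by
    rintro _ ⟨x, hx, rfl⟩; exact ha x hx
  intro hdvd
  have hdvd' := hdvd.trans (Subgroup.index_dvd_of_le hle)
  have hcard : Nat.card ((S : Subgroup G).map (MulAut.conj a).toMonoidHom) = Nat.card S :=
    Subgroup.card_map_of_injective (MulAut.conj a).injective
  have h1 := ((S : Subgroup G).map (MulAut.conj a).toMonoidHom).card_mul_index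
  have h2 := (S : Subgroup G).card_mul_index
  rw [hcard] at h1
  rw [Nat.eq_of_mul_eq_mul_left Nat.card_pos (h1.trans h2.symm)] at hdvd'
  exact S.not_dvd_index hdvd'

end Move

end Cfsg.Agent.AltSectionLift68
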