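import Cfsg.Agent.Lib.AltSectionPerm95

/-!
Canonical lifts of odd cycles to a group with central kernel over an alternating group.
-/

set_option autoImplicit false

namespace Cfsg.Agent.AltSection95

variable {G : Type*} [Group G] {r s : ℕ} (φ : G →* alternatingGroup (Fin r))

/-- A lift of `t` of the same order, conjugate to its inverse. -/
def IsLift (s : ℕ) (t : alternatingGroup (Fin r)) (x : G) : Prop :=
  φ x = t ∧ x ^ s = 1 ∧ ∃ g, g * x * g⁻¹ = x⁻¹

variable {φ} (hker : ∀ z, φ z = 1 → ∀ g, Commute z g)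

include hker

/-- A lift exists inside any subgroup that covers `t` and an element inverting it. -/
theorem exists_lift (hs : Odd s) {t : alternatingGroup (Fin r)} (ht : t ^ s = 1) (Q : Subgroup G)
    {y g : G} (hy : y ∈ Q) (hg : g ∈ Q) (hyt : φ y = t) (hgt : φ g * t * (φ g)⁻¹ = t⁻¹) :
    ∃ x ∈ Q, IsLift φ s t x := by
  obtain ⟨j, rfl⟩ := hs
  have hpow : (φ g) * t ^ j * (φ g)⁻¹ = (t ^ j)⁻¹ := by rw [← conj_pow, hgt, inv_pow]
  set Y := y ^ j with hY
  have hYt : φ Y = t ^ j := by rw [hY, map_pow, hyt]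
  set z := g * Y * g⁻¹ * Y with hz
  have hzc : φ z = 1 := by rw [hz, map_mul, map_mul, map_mul, map_inv, hYt, hpow, inv_mul_cancel]
  set x := g * Y * g⁻¹ * Y⁻¹ with hx
  have hzY : g * Y * g⁻¹ = z * Y⁻¹ := by rw [hz, mul_inv_cancel_right]
  have hxt : φ x = t := by
    rw [hx, map_mul, map_mul, map_mul, map_inv, map_inv, hYt, hpow, ← mul_inv_rev, ← pow_add]
    have : t ^ (j + j) * t = 1 := by rw [← pow_succ, show j + j + 1 = 2 * j + 1 by ring, ht]
    exact inv_eq_of_mul_eq_one_right this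
  have hxeq : x = z * (Y ^ 2)⁻¹ := by rw [hx, hzY, pow_two, mul_inv_rev, mul_assoc]
  clear_value Y z x
  have hc : ∀ w, Commute z w := hker z hzc
  have hYs : φ (Y ^ (2 * j + 1)) = 1 := by rw [map_pow, hYt, ← pow_mul, mul_comm, pow_mul, ht, one_pow]
  have hw : z ^ (2 * j + 1) = Y ^ (2 * j + 1) * Y ^ (2 * j + 1) := by
    have h1 : g * Y ^ (2 * j + 1) * g⁻¹ = Y ^ (2 * j + 1) := by
      rw [← (hker _ hYs g).eq, mul_inv_cancel_right]
    rw [← conj_pow, hzY, (hc Y⁻¹).mul_pow, inv_pow, mul_inv_eq_iff_eq_mul] at h1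
    exact h1
  have hxQ : x ∈ Q := by
    rw [hx, hY]
    exact Q.mul_mem (Q.mul_mem (Q.mul_mem hg (Q.pow_mem hy j)) (Q.inv_mem hg)) (Q.inv_mem (Q.pow_mem hy j))
  refine ⟨x, hxQ, hxt, ?_, g, ?_⟩
  · rw [hxeq, (hc _).mul_pow, hw, inv_pow, mul_inv_eq_one, ← pow_add, ← pow_mul]
    exact congrArg (fun n : ℕ => Y ^ n) (by omega)
  · calc g * x * g⁻¹ = (g * z * g⁻¹) * ((g * Y * g⁻¹) ^ 2)⁻¹ := by rw [hxeq, conj_pow]; group
      _ = z * ((z * Y⁻¹) ^ 2)⁻¹ := by rw [← (hc g).eq, mul_inv_cancel_right, hzY]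
      _ = z * ((z ^ 2)⁻¹ * Y ^ 2) := by
          rw [(hc Y⁻¹).mul_pow, mul_inv_rev, inv_pow, inv_inv, ← ((hc (Y ^ 2)).pow_left 2).inv_left.eq]
      _ = z⁻¹ * Y ^ 2 := by group
      _ = x⁻¹ := by rw [hxeq, mul_inv_rev, inv_inv, ← ((hc (Y ^ 2)).inv_left).eq]

/-- Uniqueness of the lift, when commuting elements fix it. -/
theorem isLift_unique (hs : Odd s) {t : alternatingGroup (Fin r)} {x x' : G} (hx : IsLift φ s t x)
    (hfix : ∀ c, Commute (φ c) t → c * x * c⁻¹ = x) (hx' : IsLift φ s t x') : x' = x := by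
  obtain ⟨hxt, hxs, g, hg⟩ := hx
  obtain ⟨hxt', hxs', g', hg'⟩ := hx'
  set η := x' * x⁻¹ with hη
  have hηc : ∀ w, Commute η w := hker η (by rw [hη, map_mul, map_inv, hxt, hxt', mul_inv_cancel])
  have hx'η : x' = η * x := by rw [hη, inv_mul_cancel_right]
  have hηs : η ^ s = 1 := by rw [hx'η, (hηc x).mul_pow, hxs, mul_one] at hxs'; exact hxs'
  have h1 : g' * x * g'⁻¹ = (η ^ 2)⁻¹ * x⁻¹ := by
    have e : η * (g' * x * g'⁻¹) = η⁻¹ * x⁻¹ := by
      calc η * (g' * x * g'⁻¹) = g' * (η * x) * g'⁻¹ := by rw [← mul_assoc, ← mul_assoc, (hηc g').eq]; group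
        _ = (η * x)⁻¹ := by rw [← hx'η, hg']
        _ = η⁻¹ * x⁻¹ := by rw [mul_inv_rev, ((hηc x).inv_left.inv_right).eq]
    rw [← inv_mul_eq_iff_eq_mul.2 e.symm, pow_two]
    group
  have hxx : g⁻¹ * x⁻¹ * g = x := by rw [← hg]; group
  have hcomm : Commute (φ (g⁻¹ * g')) t := by
    have h2 : φ ((g⁻¹ * g') * x * (g⁻¹ * g')⁻¹) = t := by
      rw [show (g⁻¹ * g') * x * (g⁻¹ * g')⁻¹ = g⁻¹ * (g' * x * g'⁻¹) * g by group, h1]
      have : φ ((η ^ 2)⁻¹) = 1 := by
        rw [map_inv, map_pow, hη, map_mul, map_inv, hxt, hxt']; simp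
      rw [map_mul, map_mul, map_mul, this, one_mul, ← map_mul, ← map_mul, hxx, hxt]
    rw [map_mul, map_mul, map_inv, hxt, mul_inv_eq_iff_eq_mul] at h2
    exact h2
  have h3 := hfix _ hcomm
  rw [show (g⁻¹ * g') * x * (g⁻¹ * g')⁻¹ = g⁻¹ * (g' * x * g'⁻¹) * g by group, h1,
    show g⁻¹ * ((η ^ 2)⁻¹ * x⁻¹) * g = (η ^ 2)⁻¹ * (g⁻¹ * x⁻¹ * g) by
      rw [← mul_assoc, ← ((hηc g⁻¹).pow_left 2).inv_left.eq]; group, hxx, mul_eq_right, inv_eq_one] at h3
  obtain ⟨j, rfl⟩ := hs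
  rw [pow_succ, pow_mul, h3, one_pow, one_mul] at hηs
  rw [hx'η, hηs, one_mul]

/-- An element covering an element of order prime to `s` that commutes with `t` fixes the lift. -/
theorem fix_of_coprime {t : alternatingGroup (Fin r)} {x c : G} (hxt : φ x = t) (hxs : x ^ s = 1) {e : ℕ}
    (hc : φ c ^ e = 1) (he : Nat.Coprime e s) (hct : Commute (φ c) t) : c * x * c⁻¹ = x := by
  set η := c * x * c⁻¹ * x⁻¹ with hη
  have hφη : φ η = 1 := by rw [hη, map_mul, map_mul, map_mul, map_inv, map_inv, hxt, hct.eq]; group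
  have hηc : ∀ w, Commute η w := hker η hφη
  have hcx : c * x * c⁻¹ = η * x := by rw [hη, inv_mul_cancel_right]
  clear_value η
  have h1 : η ^ s = 1 := by
    have : (c * x * c⁻¹) ^ s = 1 := by rw [conj_pow, hxs, mul_one, mul_inv_cancel]
    rw [hcx, (hηc x).mul_pow, hxs, mul_one] at this
    exact this
  have key : ∀ i : ℕ, c ^ i * x * (c ^ i)⁻¹ = η ^ i * x := by
    intro i
    induction i with
    | zero => simp
    | succ i ih =>
      calc c ^ (i + 1) * x * (c ^ (i + 1))⁻¹ = c * (c ^ i * x * (c ^ i)⁻¹) * c⁻¹ := by rw [pow_succ']; group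
        _ = c * (η ^ i * x) * c⁻¹ := by rw [ih]
        _ = η ^ i * (c * x * c⁻¹) := by rw [← mul_assoc, ← ((hηc c).pow_left i).eq]; group
        _ = η ^ (i + 1) * x := by rw [hcx, pow_succ, mul_assoc]
  have h2 : η ^ e = 1 := by
    have := key e
    rw [(hker (c ^ e) (by rw [map_pow, hc]) x).eq, mul_inv_cancel_right] at this
    exact mul_eq_right.1 this.symm
  have : η = 1 := orderOf_eq_one_iff.1 (Nat.dvd_one.1 (he ▸ Nat.dvd_gcd (orderOf_dvd_of_pow_eq_one h2)
    (orderOf_dvd_of_pow_eq_one h1)))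
  rw [hcx, this, one_mul]

omit hker

/-- The cycle lengths in use. -/
def Std (s : ℕ) : Prop := s = 3 ∨ s = 5 ∨ s = 7

theorem Std.odd (hs : Std s) : Odd s := by rcases hs with rfl | rfl | rfl <;> decide

theorem Std.data (hs : Std s) : CycData s := by
  rcases hs with rfl | rfl | rfl
  exacts [cycData_three, cycData_five, cycData_seven]

theorem exists_inverter (hs : Std s) (hr : s + 2 ≤ r) (ι : Fin s ↪ Fin r) :
    ∃ g : alternatingGroup (Fin r), g * cyc ι * g⁻¹ = (cyc ι)⁻¹ := by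
  have key : ∀ π : Equiv.Perm (Fin s), π * (rot s : Equiv.Perm (Fin s)) =
      ((rot s : Equiv.Perm (Fin s)) ^ (s - 1)) * π → ∃ g : alternatingGroup (Fin r), g * cyc ι * g⁻¹ = (cyc ι)⁻¹ := by
    intro π h
    obtain ⟨g, hg⟩ := exists_conj_pow hr ι π (s - 1) h
    refine ⟨g, hg.trans (eq_inv_of_mul_eq_one_left ?_)⟩
    rw [← pow_succ, Nat.sub_add_cancel (by have := hs.data.three_le; omega), cyc_pow hs.data]
  rcases hs with rfl | rfl | rfl
  · obtain ⟨π, h⟩ := rot_three_inv; exact key π h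
  · obtain ⟨⟨π, hπ⟩, h⟩ := rot_five_inv
    refine key π ?_
    have := congrArg Subtype.val h
    simp only [Subgroup.coe_mul, Subgroup.coe_inv, SubmonoidClass.coe_pow, mul_inv_eq_iff_eq_mul] at this
    exact this
  · obtain ⟨π, h⟩ := rot_seven_inv; exact key π h

theorem exists_inverter_five (ι : Fin 5 ↪ Fin r) :
    ∃ g : alternatingGroup (Fin 5), emb ι g * cyc ι * (emb ι g)⁻¹ = (cyc ι)⁻¹ := by
  obtain ⟨g, h⟩ := rot_five_inv
  refine ⟨g, ?_⟩
  rw [cyc, ← map_inv, ← map_mul, ← map_mul, h, ← map_inv]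
  exact congrArg (emb ι) (eq_inv_of_mul_eq_one_left (by rw [← pow_succ, cycData_five.pow]))

/-- A three-cycle on at least five points is a product of two involutions. -/
theorem cyc_three_invol {m : ℕ} (hm : 5 ≤ m) (ι : Fin 3 ↪ Fin m) :
    ∃ a b : alternatingGroup (Fin m), a * a = 1 ∧ b * b = 1 ∧ a * b = cyc ι := by
  obtain ⟨κ, hκ⟩ := exists_extend (show 3 ≤ 5 by norm_num) hm ι
  obtain ⟨a, b, ha, hb, hab⟩ := rot_three_invol
  refine ⟨emb κ a, emb κ b, by rw [← map_mul, ha, map_one], by rw [← map_mul, hb, map_one], ?_⟩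
  rw [← map_mul, hab, ← hκ, ← cyc_emb]
  congr 1
  refine (eq_emb_iff _ _ _).2 ⟨?_, ?_⟩
  · decide
  · intro x hx
    have : x = 3 ∨ x = 4 := by
      have h3 : ∀ y : Fin 5, y = 0 ∨ y = 1 ∨ y = 2 ∨ y = 3 ∨ y = 4 := by decide
      rcases h3 x with rfl | rfl | rfl | h | h
      · exact absurd ⟨0, rfl⟩ hx
      · exact absurd ⟨1, rfl⟩ hx
      · exact absurd ⟨2, rfl⟩ hx
      · exact Or.inl h
      · exact Or.inr h
    rcases this with rfl | rfl <;> decide

include hker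

/-- Elements commuting with a cycle fix a lift of it. -/
theorem fix_of_commute (hsurj : Function.Surjective φ) (hs : Std s) (hr : s + 5 ≤ r ∨ (s ≠ 3 ∧ s + 2 ≤ r))
    {ι : Fin s ↪ Fin r} {x : G} (hx : φ x = cyc ι) (hxs : x ^ s = 1) :
    ∀ c, Commute (φ c) (cyc ι) → c * x * c⁻¹ = x := by
  classical
  let N : Subgroup G :=
    { carrier := {c | c * x * c⁻¹ = x}
      one_mem' := by simp
      mul_mem' := fun {a b} (ha : a * x * a⁻¹ = x) (hb : b * x * b⁻¹ = x) => by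
        show a * b * x * (a * b)⁻¹ = x
        calc a * b * x * (a * b)⁻¹ = a * (b * x * b⁻¹) * a⁻¹ := by group
          _ = x := by rw [hb, ha]
      inv_mem' := fun {a} (ha : a * x * a⁻¹ = x) => by
        show a⁻¹ * x * a⁻¹⁻¹ = x
        conv_lhs => rw [← ha]
        group }
  have hkN : φ.ker ≤ N := fun z hz => by
    show z * x * z⁻¹ = x
    rw [(hker z hz x).eq, mul_inv_cancel_right]
  suffices h : ∀ u, Commute u (cyc ι) → u ∈ N.map φ by
    intro c hc
    obtain ⟨c', hc', e⟩ := h _ hc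
    have : c ∈ N := by
      rw [show c = c' * (c'⁻¹ * c) by group]
      exact N.mul_mem hc' (hkN (by rw [MonoidHom.mem_ker, map_mul, map_inv, e, inv_mul_cancel]))
    exact this
  have hmem : ∀ (u : alternatingGroup (Fin r)) (e : ℕ), Commute u (cyc ι) → u ^ e = 1 → Nat.Coprime e s →
      u ∈ N.map φ := by
    intro u e hu hue he
    obtain ⟨c, rfl⟩ := hsurj u
    exact ⟨c, fix_of_coprime hker hx hxs hue he hu, rfl⟩
  intro u hu
  obtain ⟨i, d, rfl, hd⟩ := centralizer_cyc hs.data ι u hu.eq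
  refine Subgroup.mul_mem _ ⟨x ^ i, ?_, by rw [map_pow, hx]⟩ ?_
  · show x ^ i * x * (x ^ i)⁻¹ = x
    rw [(Commute.pow_self x i).eq, mul_inv_cancel_right]
  obtain ⟨κ, hκ1, hκ2⟩ := exists_compl ι
  obtain ⟨d', rfl⟩ := mem_range_emb κ d fun y hy => by
    obtain ⟨j, rfl⟩ : y ∈ Set.range ι := by
      by_contra h
      exact hy (hκ2 y h)
    exact hd j
  have hcomm : ∀ w, Commute (emb κ w) (cyc ι) := by
    intro w
    have : ι.trans (emb κ w : Equiv.Perm (Fin r)).toEmbedding = ι := by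
      ext j
      have : ι j ∉ Set.range κ := fun ⟨a, ha⟩ => hκ1 a ⟨j, ha.symm⟩
      simp [emb_apply_notMem κ w _ this]
    exact mul_inv_eq_iff_eq_mul.1 (by rw [cyc_conj, this])
  have htop : Subgroup.closure (Set.range fun η : Fin 3 ↪ Fin (r - s) => cyc η) ≤ (N.map φ).comap (emb κ) := by
    rw [Subgroup.closure_le]
    rintro _ ⟨η, rfl⟩
    show emb κ (cyc η) ∈ N.map φ
    by_cases h3 : s = 3
    · obtain ⟨a, b, ha, hb, hab⟩ := cyc_three_invol (by omega) η
      rw [← hab, map_mul]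
      have he : Nat.Coprime 2 s := by subst h3; decide
      exact Subgroup.mul_mem _ (hmem _ 2 (hcomm a) (by rw [pow_two, ← map_mul, ha, map_one]) he)
        (hmem _ 2 (hcomm b) (by rw [pow_two, ← map_mul, hb, map_one]) he)
    · refine hmem _ 3 (hcomm _) (by rw [← map_pow, cyc_pow cycData_three, map_one]) ?_
      rcases hs with rfl | rfl | rfl
      · exact absurd rfl h3
      · decide
      · decide
  rw [closure_cyc_three] at htop
  exact htop (Subgroup.mem_top d')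

end Cfsg.Agent.AltSection95
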