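import Mathlib

/-!
Odd cycles in alternating groups: embeddings, transitivity on embeddings, inverters and centralisers.
-/

set_option autoImplicit false
set_option maxRecDepth 4000
set_option linter.unusedSimpArgs false

namespace Cfsg.Agent.AltSection95

open Equiv

variable {s m r : ℕ}

local notation "A " n => alternatingGroup (Fin n)

/-- The homomorphism `A s →* A r` along an embedding. -/
noncomputable def emb (ι : Fin s ↪ Fin r) : (A s) →* (A r) :=
  ((Perm.viaEmbeddingHom ι).comp (alternatingGroup (Fin s)).subtype).codRestrict _ fun g => by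
    classical
    rw [Perm.mem_alternatingGroup]
    simp only [MonoidHom.comp_apply, Subgroup.coe_subtype, Perm.viaEmbeddingHom_apply, Perm.viaEmbedding]
    rw [Perm.sign_extendDomain, Perm.mem_alternatingGroup.1 g.2]

theorem emb_val (ι : Fin s ↪ Fin r) (g : A s) : (emb ι g : Perm (Fin r)) = (g : Perm (Fin s)).viaEmbedding ι := rfl

theorem emb_apply (ι : Fin s ↪ Fin r) (g : A s) (j : Fin s) :
    (emb ι g : Perm (Fin r)) (ι j) = ι ((g : Perm (Fin s)) j) :=
  Perm.viaEmbedding_apply _ ι j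

theorem emb_apply_notMem (ι : Fin s ↪ Fin r) (g : A s) (x : Fin r) (hx : x ∉ Set.range ι) :
    (emb ι g : Perm (Fin r)) x = x :=
  Perm.viaEmbedding_apply_of_notMem _ ι x hx

theorem emb_injective (ι : Fin s ↪ Fin r) : Function.Injective (emb ι) := fun g h e => by
  refine Subtype.ext (Equiv.ext fun j => ι.injective ?_)
  rw [← emb_apply, ← emb_apply, e]

theorem eq_emb_iff (ι : Fin s ↪ Fin r) (g : A s) (h : A r) :
    h = emb ι g ↔ (∀ j, (h : Perm (Fin r)) (ι j) = ι ((g : Perm (Fin s)) j)) ∧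
      ∀ x ∉ Set.range ι, (h : Perm (Fin r)) x = x := by
  refine ⟨fun e => e ▸ ⟨emb_apply ι g, emb_apply_notMem ι g⟩, fun ⟨h1, h2⟩ => Subtype.ext (Equiv.ext fun x => ?_)⟩
  by_cases hx : x ∈ Set.range ι
  · obtain ⟨j, rfl⟩ := hx
    rw [h1, emb_apply]
  · rw [h2 x hx, emb_apply_notMem ι g x hx]

theorem emb_conj (ι : Fin s ↪ Fin r) (g : A s) (h : A r) :
    h * emb ι g * h⁻¹ = emb (ι.trans (h : Perm (Fin r)).toEmbedding) g := by
  rw [eq_emb_iff]
  refine ⟨fun j => ?_, fun x hx => ?_⟩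
  · simp [emb_apply]
  · have : ((h : Perm (Fin r))⁻¹) x ∉ Set.range ι := by
      rintro ⟨j, hj⟩
      exact hx ⟨j, by simp [hj]⟩
    rw [Subgroup.coe_mul, Subgroup.coe_mul, Subgroup.coe_inv, Perm.mul_apply, Perm.mul_apply,
      emb_apply_notMem ι g _ this]
    simp

theorem emb_emb (ι : Fin s ↪ Fin m) (κ : Fin m ↪ Fin r) (g : A s) :
    emb κ (emb ι g) = emb (ι.trans κ) g := by
  rw [eq_emb_iff]
  refine ⟨fun j => ?_, fun x hx => ?_⟩
  · simp [emb_apply]
  · by_cases h : x ∈ Set.range κ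
    · obtain ⟨j, rfl⟩ := h
      have : j ∉ Set.range ι := fun ⟨i, hi⟩ => hx ⟨i, by simp [hi]⟩
      rw [emb_apply, emb_apply_notMem ι g j this]
    · exact emb_apply_notMem κ _ x h

/-- An even permutation fixing everything outside the range of `ι` comes from `A s`. -/
theorem mem_range_emb (ι : Fin s ↪ Fin r) (h : A r) (hh : ∀ x ∉ Set.range ι, (h : Perm (Fin r)) x = x) :
    ∃ g : A s, emb ι g = h := by
  classical
  have hmem : ∀ j, (h : Perm (Fin r)) (ι j) ∈ Set.range ι := by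
    intro j
    by_contra hc
    have h1 : (h : Perm (Fin r)) ((h : Perm (Fin r)) (ι j)) = (h : Perm (Fin r)) (ι j) := hh _ hc
    exact hc ⟨j, ((h : Perm (Fin r)).injective h1).symm⟩
  choose f hf using hmem
  have finj : Function.Injective f := fun a b e =>
    ι.injective ((h : Perm (Fin r)).injective (by rw [← hf, ← hf, e]))
  let g : Perm (Fin s) := Equiv.ofBijective f (Finite.injective_iff_bijective.1 finj)
  have e : g.viaEmbedding ι = (h : Perm (Fin r)) := by
    refine Equiv.ext fun x => ?_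
    by_cases hx : x ∈ Set.range ι
    · obtain ⟨j, rfl⟩ := hx
      rw [Perm.viaEmbedding_apply]
      exact hf j
    · rw [Perm.viaEmbedding_apply_of_notMem _ ι x hx, hh x hx]
  have hg : g ∈ alternatingGroup (Fin s) := by
    rw [Perm.mem_alternatingGroup]
    have := Perm.mem_alternatingGroup.1 h.2
    rw [← e] at this
    rwa [Perm.viaEmbedding, Perm.sign_extendDomain] at this
  exact ⟨⟨g, hg⟩, Subtype.ext e⟩

/-- `A r` moves any embedding to any other, leaving two points free. -/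
theorem exists_move (hs : s + 2 ≤ r) (ι κ : Fin s ↪ Fin r) :
    ∃ g : A r, ι.trans (g : Perm (Fin r)).toEmbedding = κ := by
  classical
  obtain ⟨π, hπ⟩ := Perm.exists_extending_pair ι κ ι.injective κ.injective
  rcases Int.units_eq_one_or (Perm.sign π) with h | h
  · exact ⟨⟨π, Perm.mem_alternatingGroup.2 h⟩, by ext j; simp [hπ]⟩
  obtain ⟨a, ha, b, hb, hab⟩ := Finset.one_lt_card.1 (show 1 < ((Finset.univ.image κ)ᶜ).card by
    rw [Finset.card_compl, Finset.card_image_of_injective _ κ.injective]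
    simp
    omega)
  refine ⟨⟨Equiv.swap a b * π, Perm.mem_alternatingGroup.2 ?_⟩, ?_⟩
  · rw [map_mul, h, Perm.sign_swap hab]
    rfl
  · simp only [Finset.mem_compl, Finset.mem_image, Finset.mem_univ, true_and, not_exists] at ha hb
    ext j
    simp [hπ, Equiv.swap_apply_of_ne_of_ne (ha j) (hb j)]

/-- An embedding extends to a larger index set. -/
theorem exists_extend (hsm : s ≤ m) (hmr : m ≤ r) (ι : Fin s ↪ Fin r) :
    ∃ κ : Fin m ↪ Fin r, (Fin.castLEEmb hsm).trans κ = ι := by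
  obtain ⟨π, hπ⟩ := Perm.exists_extending_pair (Fin.castLE (hsm.trans hmr)) ι
    (Fin.castLE_injective _) ι.injective
  refine ⟨(Fin.castLEEmb hmr).trans π.toEmbedding, ?_⟩
  ext j
  have := hπ j
  simp [← this]

/-- An embedding avoiding a set and extending to a larger index set within the complement. -/
theorem exists_avoid (S : Finset (Fin r)) (h : s + S.card ≤ r) :
    ∃ κ : Fin s ↪ Fin r, ∀ j, κ j ∉ S := by
  classical
  have : Nonempty (Fin s ↪ {x : Fin r // x ∉ S}) := by
    refine Function.Embedding.nonempty_of_card_le ?_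
    simp only [Fintype.card_fin, Fintype.card_subtype]
    rw [show (Finset.univ.filter fun x => x ∉ S) = Sᶜ by ext; simp, Finset.card_compl, Fintype.card_fin]
    omega
  obtain ⟨κ⟩ := this
  exact ⟨κ.trans (Function.Embedding.subtype _), fun j => (κ j).2⟩

/-- The standard generator of the cyclic regular subgroup of `A s`, for odd `s`. -/
def rot (s : ℕ) : A s :=
  ⟨finRotate s * finRotate s, Perm.mem_alternatingGroup.2 (by rw [map_mul, Int.units_mul_self])⟩

/-- The cycle along `ι`. -/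
noncomputable def cyc (ι : Fin s ↪ Fin r) : A r := emb ι (rot s)

theorem cyc_conj (ι : Fin s ↪ Fin r) (h : A r) :
    h * cyc ι * h⁻¹ = cyc (ι.trans (h : Perm (Fin r)).toEmbedding) := emb_conj ι _ h

theorem cyc_emb (ι : Fin s ↪ Fin m) (κ : Fin m ↪ Fin r) : emb κ (cyc ι) = cyc (ι.trans κ) := emb_emb ι κ _

/-- A permutation of the indices raising `rot s` to a power gives a conjugating element of `A r`. -/
theorem exists_conj_pow (hs : s + 2 ≤ r) (ι : Fin s ↪ Fin r) (π : Perm (Fin s)) (c : ℕ)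
    (h : π * (rot s : Perm (Fin s)) = ((rot s : Perm (Fin s)) ^ c) * π) :
    ∃ g : A r, g * cyc ι * g⁻¹ = cyc ι ^ c := by
  obtain ⟨g, hg⟩ := exists_move hs ι (π.toEmbedding.trans ι)
  refine ⟨g, ?_⟩
  rw [cyc_conj, hg]
  show emb _ _ = emb ι (rot s) ^ c
  rw [← map_pow, eq_comm, eq_emb_iff]
  refine ⟨fun j => ?_, fun x hx => emb_apply_notMem ι _ x fun ⟨j, hj⟩ => hx ⟨π.symm j, by simp [hj]⟩⟩
  have := congrArg (fun p : Perm (Fin s) => p j) h
  simp only [Perm.mul_apply] at this
  simp only [Function.Embedding.trans_apply, Equiv.coe_toEmbedding]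
  rw [emb_apply, this, SubmonoidClass.coe_pow]

theorem rot_three_inv : ∃ π : Perm (Fin 3), π * (rot 3 : Perm (Fin 3)) = ((rot 3 : Perm (Fin 3)) ^ 2) * π :=
  ⟨Equiv.swap 1 2, by decide⟩

theorem rot_five_inv : ∃ g : A 5, g * rot 5 * g⁻¹ = rot 5 ^ 4 :=
  ⟨⟨Equiv.swap 1 4 * Equiv.swap 2 3, Perm.mem_alternatingGroup.2 (by decide)⟩, by decide⟩

theorem rot_five_double : ∃ π : Perm (Fin 5), π * (rot 5 : Perm (Fin 5)) = ((rot 5 : Perm (Fin 5)) ^ 2) * π :=
  ⟨Equiv.swap 1 2 * Equiv.swap 2 4 * Equiv.swap 4 3, by decide⟩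

theorem rot_seven_triple : ∃ π : Perm (Fin 7), π * (rot 7 : Perm (Fin 7)) = ((rot 7 : Perm (Fin 7)) ^ 3) * π :=
  ⟨Equiv.swap 1 3 * Equiv.swap 3 2 * Equiv.swap 2 6 * Equiv.swap 6 4 * Equiv.swap 4 5, by decide⟩

theorem rot_seven_inv : ∃ π : Perm (Fin 7), π * (rot 7 : Perm (Fin 7)) = ((rot 7 : Perm (Fin 7)) ^ 6) * π :=
  ⟨Equiv.swap 1 6 * Equiv.swap 2 5 * Equiv.swap 3 4, by decide⟩

/-- What is used of the index counts `3, 5, 7`. -/
structure CycData (s : ℕ) : Prop where
  three_le : 3 ≤ s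
  pow : rot s ^ s = 1
  regular : ∀ j₀ j : Fin s, ∃ i : ℕ, i < s ∧ ((rot s : Perm (Fin s)) ^ i) j₀ = j

theorem cycData_three : CycData 3 := ⟨le_rfl, by decide, by decide⟩
theorem cycData_five : CycData 5 := ⟨by norm_num, by decide, by decide⟩
theorem cycData_seven : CycData 7 := ⟨by norm_num, by decide, by decide⟩

theorem cyc_pow (hs : CycData s) (ι : Fin s ↪ Fin r) : cyc ι ^ s = 1 := by
  rw [cyc, ← map_pow, hs.pow, map_one]

theorem cyc_ne_one (hs : CycData s) (ι : Fin s ↪ Fin r) : cyc ι ≠ 1 := by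
  intro e
  have h1 : rot s = 1 := emb_injective ι (e.trans (map_one _).symm)
  obtain ⟨i, -, hi⟩ := hs.regular ⟨0, by have := hs.three_le; omega⟩ ⟨1, by have := hs.three_le; omega⟩
  rw [h1] at hi
  simp at hi

/-- An element commuting with a cycle is a power of it times an element fixing its support. -/
theorem centralizer_cyc (hs : CycData s) (ι : Fin s ↪ Fin r) (c : A r) (hc : c * cyc ι = cyc ι * c) :
    ∃ (i : ℕ) (d : A r), c = cyc ι ^ i * d ∧ ∀ j, (d : Perm (Fin r)) (ι j) = ι j := by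
  have hs0 : 0 < s := by have := hs.three_le; omega
  set f := cyc ι with hf
  have hpow : ∀ (i : ℕ) j, ((f ^ i : A r) : Perm (Fin r)) (ι j) = ι (((rot s : Perm (Fin s)) ^ i) j) := by
    intro i j
    rw [hf, cyc, ← map_pow, emb_apply]
    rfl
  -- the image of a point of the support is in the support
  have hmem : (c : Perm (Fin r)) (ι ⟨0, hs0⟩) ∈ Set.range ι := by
    by_contra hx
    have h1 := congrArg (fun p : A r => (p : Perm (Fin r)) (ι ⟨0, hs0⟩)) hc
    simp only [Subgroup.coe_mul, Perm.mul_apply] at h1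
    rw [hf, cyc, emb_apply, emb_apply_notMem ι _ _ hx] at h1
    have h2 := ι.injective ((c : Perm (Fin r)).injective h1)
    obtain ⟨i, -, hi⟩ := hs.regular ⟨0, hs0⟩ ⟨1, by have := hs.three_le; omega⟩
    have : ∀ i : ℕ, ((rot s : Perm (Fin s)) ^ i) ⟨0, hs0⟩ = ⟨0, hs0⟩ := fun i => by
      induction i with
      | zero => simp
      | succ i ih => rw [pow_succ, Perm.mul_apply, h2, ih]
    rw [this] at hi
    simp at hi
  obtain ⟨j, hj⟩ := hmem
  obtain ⟨i, -, hi⟩ := hs.regular ⟨0, hs0⟩ j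
  refine ⟨i, (f ^ i)⁻¹ * c, (mul_inv_cancel_left _ _).symm, fun j' => ?_⟩
  obtain ⟨i', -, hi'⟩ := hs.regular ⟨0, hs0⟩ j'
  have hcomm : (f ^ i)⁻¹ * c * f ^ i' = f ^ i' * ((f ^ i)⁻¹ * c) :=
    ((Commute.pow_pow (Commute.refl f) i i').inv_left).mul_left (Commute.pow_right hc i')
  have h0 : (((f ^ i)⁻¹ * c : A r) : Perm (Fin r)) (ι ⟨0, hs0⟩) = ι ⟨0, hs0⟩ := by
    rw [Subgroup.coe_mul, Perm.mul_apply, ← hj, ← hi, ← hpow, Subgroup.coe_inv]
    exact Perm.inv_eq_iff_eq.2 rfl
  have h1 := congrArg (fun p : A r => (p : Perm (Fin r)) (ι ⟨0, hs0⟩)) hcomm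
  simp only [Subgroup.coe_mul, Perm.mul_apply] at h1 h0
  rw [h0, hpow, hi'] at h1
  simpa [Subgroup.coe_mul, Perm.mul_apply] using h1

/-- The complement of the range of an embedding, as an embedding. -/
theorem exists_compl (ι : Fin s ↪ Fin r) :
    ∃ κ : Fin (r - s) ↪ Fin r, (∀ j, κ j ∉ Set.range ι) ∧ ∀ x ∉ Set.range ι, x ∈ Set.range κ := by
  classical
  have hc : ((Finset.univ.image ι)ᶜ).card = r - s := by
    rw [Finset.card_compl, Finset.card_image_of_injective _ ι.injective]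
    simp
  refine ⟨(((Finset.univ.image ι)ᶜ).orderEmbOfFin hc).toEmbedding, fun j hj => ?_, fun x hx => ?_⟩
  · have := Finset.orderEmbOfFin_mem _ hc j
    simp only [Finset.mem_compl, Finset.mem_image, Finset.mem_univ, true_and] at this
    exact this hj
  · show x ∈ Set.range ⇑(((Finset.univ.image ι)ᶜ).orderEmbOfFin hc)
    rw [Finset.range_orderEmbOfFin]
    simpa using hx

/-- Every element of `A m` is a product of three-cycles `cyc`. -/
theorem closure_cyc_three (m : ℕ) : Subgroup.closure (Set.range fun ι : Fin 3 ↪ Fin m => cyc ι) = ⊤ := by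
  classical
  rw [eq_top_iff, ← alternatingGroup.closure_isThreeCycles_eq_top]
  refine Subgroup.closure_mono ?_
  intro g hg
  have hg' : Perm.IsThreeCycle (g : Perm (Fin m)) := hg
  obtain ⟨a, b, c, hab, hac, hbc, he⟩ : ∃ a b c : Fin m, a ≠ b ∧ a ≠ c ∧ b ≠ c ∧
      (g : Perm (Fin m)) = Equiv.swap a b * Equiv.swap b c := by
    have hcyc := hg'.isCycle
    obtain ⟨a, ha, -⟩ := hcyc
    have h3 : ((g : Perm (Fin m)) ^ 3) = 1 := by rw [← hg'.orderOf]; exact pow_orderOf_eq_one _
    have h3a := congrArg (fun p : Perm (Fin m) => p a) h3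
    simp only [pow_succ, pow_zero, one_mul, Perm.mul_apply, Perm.one_apply] at h3a
    have hgb : (g : Perm (Fin m)) ((g : Perm (Fin m)) a) ≠ a := fun e => ha (by rw [e] at h3a; exact h3a)
    have hgb' : (g : Perm (Fin m)) ((g : Perm (Fin m)) a) ≠ (g : Perm (Fin m)) a := fun e =>
      ha ((g : Perm (Fin m)).injective e)
    have hsupp : (g : Perm (Fin m)).support =
        {a, (g : Perm (Fin m)) a, (g : Perm (Fin m)) ((g : Perm (Fin m)) a)} := by
      refine (Finset.eq_of_subset_of_card_le ?_ ?_).symm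
      · intro x hx
        simp only [Finset.mem_insert, Finset.mem_singleton] at hx
        rcases hx with rfl | rfl | rfl <;>
          simp only [Perm.mem_support, ne_eq, (g : Perm (Fin m)).injective.eq_iff] <;> assumption
      · rw [hg'.card_support, Finset.card_insert_of_notMem (by simp [Ne.symm ha, Ne.symm hgb]),
          Finset.card_pair (Ne.symm hgb')]
    refine ⟨a, (g : Perm (Fin m)) a, (g : Perm (Fin m)) ((g : Perm (Fin m)) a), Ne.symm ha, Ne.symm hgb,
      Ne.symm hgb', Equiv.ext fun x => ?_⟩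
    by_cases h1 : x = a
    · subst h1; simp [Equiv.swap_apply_def, Ne.symm ha, Ne.symm hgb]
    by_cases h2 : x = (g : Perm (Fin m)) a
    · subst h2; simp [Equiv.swap_apply_def, hgb, hgb', ha]
    by_cases h4 : x = (g : Perm (Fin m)) ((g : Perm (Fin m)) a)
    · subst h4; rw [h3a]; simp [Equiv.swap_apply_def, hgb']
    · have : x ∉ (g : Perm (Fin m)).support := by rw [hsupp]; simp [h1, h2, h4]
      rw [Perm.notMem_support.1 this]
      simp [Equiv.swap_apply_def, h1, h2, h4]
  let ι : Fin 3 ↪ Fin m := ⟨![a, c, b], by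
    intro i j h
    fin_cases i <;> fin_cases j <;> simp at h ⊢ <;> exact absurd h (by tauto)⟩
  refine ⟨ι, ((eq_emb_iff ι (rot 3) g).2 ⟨fun j => ?_, fun x hx => ?_⟩).symm⟩
  · have h0 : ι 0 = a := rfl
    have h1 : ι 1 = c := rfl
    have h2 : ι 2 = b := rfl
    obtain rfl | rfl | rfl : j = 0 ∨ j = 1 ∨ j = 2 := by omega
    all_goals simp [h0, h1, h2, he, rot, Equiv.swap_apply_def, hab, hab.symm, hac, hac.symm, hbc, hbc.symm]
  · have : x ≠ a ∧ x ≠ b ∧ x ≠ c := by
      refine ⟨fun e => hx ⟨0, e.symm⟩, fun e => hx ⟨2, e.symm⟩, fun e => hx ⟨1, e.symm⟩⟩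
    simp [he, Equiv.swap_apply_def, this.1, this.2.1, this.2.2]

/-- A three-cycle is a product of two involutions in `A 5`. -/
theorem rot_three_invol : ∃ a b : A 5, a * a = 1 ∧ b * b = 1 ∧
    (a * b : A 5) = ⟨Equiv.swap 0 2 * Equiv.swap 2 1, Perm.mem_alternatingGroup.2 (by decide)⟩ :=
  ⟨⟨Equiv.swap 0 2 * Equiv.swap 3 4, Perm.mem_alternatingGroup.2 (by decide)⟩,
    ⟨Equiv.swap 3 4 * Equiv.swap 2 1, Perm.mem_alternatingGroup.2 (by decide)⟩,
    by decide, by decide, by decide⟩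

end Cfsg.Agent.AltSection95
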