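import Cfsg.Agent.Lib.AltSectionThree95

/-!
The reduction to a minimal central cover, and the bound for all linear groups with an alternating quotient.
-/

set_option autoImplicit false
set_option linter.unusedSectionVars false
set_option linter.unusedVariables false

namespace Cfsg.Agent.AltSection95

open Equiv Module

universe u

/-- A group acting on an elementary abelian group of order `s ^ d` has a representation of dimension `d`
with the same kernel. -/
theorem exists_rep_of_elementary {G W : Type u} [Group G] [CommGroup W] [Finite W] (s : ℕ) [Fact s.Prime]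
    (hW : ∀ x : W, x ^ s = 1) (c : G →* Monoid.End W) :
    ∃ (k' : Type u) (_ : Field k') (_ : IsAlgClosed k') (d : ℕ) (τ : Representation k' G (Fin d → k')),
      Nat.card W = s ^ d ∧ ∀ g, τ g = 1 ↔ c g = 1 := by
  classical
  obtain ⟨instW⟩ : Nonempty (Module (ZMod s) (Additive W)) := ⟨AddCommGroup.zmodModule fun x =>
    show Additive.ofMul (Additive.toMul x ^ s) = 0 by rw [hW]; rfl⟩
  let L : Monoid.End W →* Module.End (ZMod s) (Additive W) :=
    { toFun := fun f => (MonoidHom.toAdditive f).toZModLinearMap s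
      map_one' := LinearMap.ext fun _ => rfl
      map_mul' := fun _ _ => LinearMap.ext fun _ => rfl }
  have hL : Function.Injective L := fun f f' h =>
    MonoidHom.ext fun x => congrArg (fun T : Module.End (ZMod s) (Additive W) => Additive.toMul (T (Additive.ofMul x))) h
  let b := Module.finBasis (ZMod s) (Additive W)
  let k' := AlgebraicClosure (ULift.{u} (ZMod s))
  let emb : ZMod s →+* k' := (algebraMap (ULift.{u} (ZMod s)) k').comp ULift.ringEquiv.symm.toRingHom
  let M : Module.End (ZMod s) (Additive W) →* Module.End k' (Fin (finrank (ZMod s) (Additive W)) → k') :=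
    (Matrix.toLinAlgEquiv' : Matrix _ _ k' ≃ₐ[k'] _).toAlgHom.toRingHom.toMonoidHom.comp
      (emb.mapMatrix.toMonoidHom.comp (LinearMap.toMatrixAlgEquiv b).toAlgHom.toRingHom.toMonoidHom)
  have hM : Function.Injective M :=
    Matrix.toLinAlgEquiv'.injective.comp ((Matrix.map_injective emb.injective).comp
      (LinearMap.toMatrixAlgEquiv b).injective)
  refine ⟨k', inferInstance, inferInstance, _, M.comp (L.comp c), ?_, fun g => ?_⟩
  · exact (Module.natCard_eq_pow_finrank (K := ZMod s) (V := Additive W)).trans (by rw [Nat.card_zmod])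
  · exact ⟨fun h => hL (hM (h.trans ((map_one M).symm.trans (congrArg M (map_one L).symm)))),
      fun h => by simp [h]⟩

variable {k : Type u} {V : Type u} {G : Type u} [Field k] [IsAlgClosed k] [AddCommGroup V] [Module k V]
  [FiniteDimensional k V] [Group G] [Finite G] {r : ℕ}

omit [Finite G] in
theorem alt_simple (hr : 5 ≤ r) : IsSimpleGroup (alternatingGroup (Fin r)) :=
  alternatingGroup.isSimpleGroup (by rw [Nat.card_eq_fintype_card, Fintype.card_fin]; omega)

omit [Finite G] in
theorem not_comm (hr : 9 ≤ r) (φ : G →* alternatingGroup (Fin r)) (hφ : Function.Surjective φ) :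
    ¬ ∀ g h : G, Commute g h := by
  intro hcomm
  set ι : Fin 3 ↪ Fin r := Fin.castLEEmb (show 3 ≤ r by omega)
  obtain ⟨g', hg'⟩ := exists_inverter (Or.inl rfl) (show 3 + 2 ≤ r by omega) ι
  obtain ⟨g, rfl⟩ := hφ g'
  obtain ⟨y, hy⟩ := hφ (cyc ι)
  rw [← hy, ← map_mul, ← map_inv, ← map_mul, (hcomm g y).eq, mul_inv_cancel_right, hy] at hg'
  refine cyc_ne_one cycData_three ι ?_
  have hp := cyc_pow cycData_three ι
  generalize cyc ι = t at hg' hp
  have h2 : t ^ 2 = 1 := by rw [pow_two]; exact eq_inv_iff_mul_eq_one.1 hg'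
  calc t = t ^ 3 * (t ^ 2)⁻¹ := by group
    _ = 1 := by rw [hp, h2, inv_one, mul_one]

/-- A representation with its kernel inside the kernel of the map to the alternating group. -/
theorem bound_of_ker_le {μ : ℕ} (IH : Below.{u} μ) {k : Type u} [Field k] [IsAlgClosed k] {W : Type u}
    [AddCommGroup W] [Module k W] [FiniteDimensional k W] (σ : Representation k G W)
    (φ : G →* alternatingGroup (Fin r)) (hr : 9 ≤ r) (hφ : Function.Surjective φ)
    (hker : MonoidHom.ker σ ≤ φ.ker) (hμ : finrank k W + Nat.card (G ⧸ MonoidHom.ker σ) < μ) :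
    Bd k r (finrank k W) := by
  refine IH k W (G ⧸ MonoidHom.ker σ) (QuotientGroup.lift (MonoidHom.ker σ) σ le_rfl) r
    (QuotientGroup.lift (MonoidHom.ker σ) φ hker) hr ?_ ?_ hμ
  · intro a
    obtain ⟨y, rfl⟩ := hφ a
    exact ⟨QuotientGroup.mk y, rfl⟩
  · intro a b hab
    induction a using QuotientGroup.induction_on with
    | _ y =>
    induction b using QuotientGroup.induction_on with
    | _ z =>
    refine QuotientGroup.eq.2 (MonoidHom.mem_ker.2 ?_)
    have hab' : σ y = σ z := hab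
    rw [map_mul, ← hab', ← map_mul, inv_mul_cancel, map_one]

omit [Finite G] in
theorem card_quot_lt [Finite G] (N : Subgroup G) {x : G} (hx : x ∈ N) (hx1 : x ≠ 1) :
    Nat.card (G ⧸ N) < Nat.card G := by
  rw [Subgroup.card_eq_card_quotient_mul_card_subgroup N]
  have h1 : 1 < Nat.card N := by
    rw [Finite.one_lt_card_iff_nontrivial]
    exact ⟨⟨x, hx⟩, 1, fun e => hx1 (congrArg Subtype.val e)⟩
  have h2 : 0 < Nat.card (G ⧸ N) := Nat.card_pos
  nlinarith

variable (ρ : Representation k G V) (φ : G →* alternatingGroup (Fin r))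

/-- An invariant proper subspace leads to a smaller instance. -/
theorem bound_reducible (IH : Below.{u} (finrank k V + Nat.card G)) (hr : 9 ≤ r) (hφ : Function.Surjective φ)
    (hinj : Function.Injective ρ) (hmin : ∀ H : Subgroup G, H.map φ = ⊤ → H = ⊤) (W : Submodule k V)
    (hW : ∀ g, ∀ w ∈ W, ρ g w ∈ W) (hb : W ≠ ⊥) (ht : W ≠ ⊤) : Bd k r (finrank k V) := by
  let σ : Representation k G W :=
    { toFun := fun g => (ρ g).restrict (p := W) (q := W) (hW g)
      map_one' := LinearMap.ext fun w => Subtype.ext (by show ρ 1 (w : V) = _; simp)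
      map_mul' := fun g h => LinearMap.ext fun w => Subtype.ext (by
        show ρ (g * h) (w : V) = ρ g (ρ h (w : V))
        rw [map_mul, Module.End.mul_apply]) }
  let τ : Representation k G (V ⧸ W) :=
    { toFun := fun g => W.mapQ W (ρ g) (fun w hw => hW g w hw)
      map_one' := LinearMap.ext fun x => by
        induction x using Submodule.Quotient.induction_on with
        | _ v => simp
      map_mul' := fun g h => LinearMap.ext fun x => by
        induction x using Submodule.Quotient.induction_on with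
        | _ v => simp }
  have hd := Submodule.finrank_quotient_add_finrank W
  have hW0 : 0 < finrank k W := Nat.pos_of_ne_zero fun e => hb (Submodule.finrank_eq_zero.1 e)
  have hWV : finrank k W < finrank k V := Submodule.finrank_lt ht
  have := alt_simple (r := r) (by omega)
  have key : ∀ N : Subgroup G, N.Normal → N ≤ φ.ker ∨ N = ⊤ := by
    intro N hN
    rcases (hN.map φ hφ).eq_bot_or_eq_top with h | h
    · exact Or.inl ((Subgroup.map_eq_bot_iff N).1 h)
    · exact Or.inr (hmin N h)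
  have hcard : ∀ N : Subgroup G, Nat.card (G ⧸ N) ≤ Nat.card G := fun N =>
    Nat.le_of_dvd Nat.card_pos (Subgroup.card_quotient_dvd_card N)
  rcases key _ (MonoidHom.normal_ker σ) with h | h
  · exact (bound_of_ker_le IH σ φ hr hφ h (by have := hcard (MonoidHom.ker σ); omega)).mono hWV.le
  rcases key _ (MonoidHom.normal_ker τ) with h' | h'
  · exact (bound_of_ker_le IH τ φ hr hφ h' (by have := hcard (MonoidHom.ker τ); omega)).mono (by omega)
  exfalso
  refine not_comm hr φ hφ fun a b => hinj ?_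
  have hA : ∀ g, ∀ w ∈ W, ρ g w = w := fun g w hw => by
    have hg : σ g = 1 := MonoidHom.mem_ker.1 (h ▸ Subgroup.mem_top g)
    exact congrArg (fun f => ((f ⟨w, hw⟩ : W) : V)) hg
  have hB : ∀ g v, ρ g v - v ∈ W := fun g v => by
    have hg : τ g = 1 := MonoidHom.mem_ker.1 (h' ▸ Subgroup.mem_top g)
    have := congrArg (fun f => f (Submodule.Quotient.mk v : V ⧸ W)) hg
    exact (Submodule.Quotient.eq W).1 this
  refine LinearMap.ext fun v => ?_
  have key2 : ∀ a b, ρ (a * b) v = ρ a v + ρ b v - v := fun a b => by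
    rw [map_mul, Module.End.mul_apply]
    have := hA a _ (hB b v)
    rw [map_sub] at this
    linear_combination (norm := module) this
  rw [key2, key2]
  abel

section central

variable (hr : 9 ≤ r) (hφ : Function.Surjective φ) (hinj : Function.Injective ρ)
  (hmin : ∀ H : Subgroup G, H.map φ = ⊤ → H = ⊤)
  (hirr : ∀ W : Submodule k V, (∀ g, ∀ w ∈ W, ρ g w ∈ W) → W = ⊥ ∨ W = ⊤)

include hr hφ hinj hmin hirr

theorem exists_ne_zero : ∃ v : V, v ≠ 0 := by
  by_contra! h
  refine not_comm hr φ hφ fun a b => hinj (LinearMap.ext fun v => ?_)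
  simp [h v]

/-- An abelian normal subgroup inside the kernel consists of scalars, or there is a smaller instance. -/
theorem bound_abelian (IH : Below.{u} (finrank k V + Nat.card G)) (A : Subgroup G) [A.Normal] (hA : A ≤ φ.ker)
    (hcomm : ∀ a ∈ A, ∀ b ∈ A, Commute a b) (hns : ∃ a ∈ A, ∀ c : k, ρ a ≠ c • 1) :
    Bd k r (finrank k V) := by
  classical
  obtain ⟨a₀, ha₀, hns⟩ := hns
  let Ω := {χ : A → k // ∃ v : V, v ≠ 0 ∧ ∀ a : A, ρ (a : G) v = χ a • v}
  let ev : Ω → V := fun χ => χ.2.choose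
  have hev0 : ∀ χ : Ω, ev χ ≠ 0 := fun χ => χ.2.choose_spec.1
  have hev : ∀ (χ : Ω) (a : A), ρ (a : G) (ev χ) = χ.1 a • ev χ := fun χ => χ.2.choose_spec.2
  have hind : LinearIndependent k ev := by
    rw [linearIndependent_iff']
    intro s
    induction s using Finset.induction with
    | empty => simp
    | insert χ₀ t hnot ih =>
      intro g hg
      have ht : ∀ χ ∈ t, g χ = 0 := by
        intro χ hχ
        obtain ⟨a, ha⟩ : ∃ a, χ.1 a ≠ χ₀.1 a := Function.ne_iff.1 fun e => hnot (Subtype.ext e ▸ hχ)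
        have h1 : ∑ i ∈ t, (g i * (i.1 a - χ₀.1 a)) • ev i = 0 := by
          have h2 := congrArg (fun v => ρ (a : G) v - χ₀.1 a • v) hg
          simp only [map_zero, smul_zero, sub_zero, map_sum, map_smul, hev, Finset.smul_sum,
            ← Finset.sum_sub_distrib] at h2
          rw [Finset.sum_insert hnot, smul_comm, sub_self, zero_add] at h2
          exact (Finset.sum_congr rfl fun i _ => by module).trans h2
        exact (mul_eq_zero.1 (ih (fun i => g i * (i.1 a - χ₀.1 a)) h1 χ hχ)).resolve_right (sub_ne_zero.2 ha)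
      intro χ hχ
      rcases Finset.mem_insert.1 hχ with rfl | hχ
      · rw [Finset.sum_insert hnot, Finset.sum_eq_zero (fun i hi => by rw [ht i hi, zero_smul]), add_zero] at hg
        exact (smul_eq_zero.1 hg).resolve_right (hev0 _)
      · exact ht χ hχ
  have : Finite Ω := hind.finite
  let _ : Fintype Ω := Fintype.ofFinite Ω
  have hΩn : Fintype.card Ω ≤ finrank k V := hind.fintype_card_le_finrank
  -- a weight exists
  have hexΩ : Nonempty Ω := by
    obtain ⟨v₀, hv₀⟩ := exists_ne_zero ρ φ hr hφ hinj hmin hirr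
    have hex : ∃ n, ∃ W : Submodule k V, W ≠ ⊥ ∧ (∀ a : A, ∀ w ∈ W, ρ (a : G) w ∈ W) ∧ finrank k W = n :=
      ⟨_, ⊤, fun e => hv₀ (by
        have : v₀ ∈ (⊤ : Submodule k V) := Submodule.mem_top
        rwa [e, Submodule.mem_bot] at this), fun _ _ _ => Submodule.mem_top, rfl⟩
    obtain ⟨W, hW0, hWA, hWn⟩ := Nat.find_spec hex
    have hsc : ∀ a : A, ∃ c : k, ∀ w ∈ W, ρ (a : G) w = c • w := by
      intro a
      obtain ⟨c, v, hv, hv0, hvc⟩ := exists_eigen ρ hW0 (hWA a)
      refine ⟨c, fun w hw => ?_⟩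
      have hle : W ≤ Module.End.eigenspace (ρ (a : G)) c := by
        have hne : W ⊓ Module.End.eigenspace (ρ (a : G)) c ≠ ⊥ := fun e => hv0 (by
          have : v ∈ W ⊓ Module.End.eigenspace (ρ (a : G)) c := ⟨hv, Module.End.mem_eigenspace_iff.2 hvc⟩
          rwa [e, Submodule.mem_bot] at this)
        have hinv : ∀ b : A, ∀ x ∈ W ⊓ Module.End.eigenspace (ρ (a : G)) c,
            ρ (b : G) x ∈ W ⊓ Module.End.eigenspace (ρ (a : G)) c := fun b x hx => by
          refine ⟨hWA b x hx.1, Module.End.mem_eigenspace_iff.2 ?_⟩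
          rw [rho_comm ρ (hcomm _ a.2 _ b.2), Module.End.mem_eigenspace_iff.1 hx.2, map_smul]
        have hmin' := Nat.find_min' hex ⟨_, hne, hinv, rfl⟩
        exact inf_eq_left.1 (Submodule.eq_of_le_of_finrank_le inf_le_left (hWn.le.trans hmin'))
      exact Module.End.mem_eigenspace_iff.1 (hle hw)
    choose c hc using hsc
    obtain ⟨v, hv, hv0⟩ := Submodule.exists_mem_ne_zero_of_ne_bot hW0
    exact ⟨⟨c, v, hv0, fun a => hc a v hv⟩⟩
  -- the group permutes the weights
  let cj : G → A → A := fun g a => ⟨g⁻¹ * a * g, by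
    have := (inferInstance : A.Normal).conj_mem a a.2 g⁻¹
    rwa [inv_inv] at this⟩
  have hmem : ∀ (g : G) (χ : Ω), ∃ v : V, v ≠ 0 ∧ ∀ a : A, ρ (a : G) v = χ.1 (cj g a) • v := by
    intro g χ
    refine ⟨ρ g (ev χ), fun e => hev0 χ (rho_injective (ρ := ρ) g (by rw [e, map_zero])), fun a => ?_⟩
    rw [← map_smul, ← hev, ← Module.End.mul_apply, ← Module.End.mul_apply, ← map_mul, ← map_mul]
    congr 2
    simp [cj, mul_assoc]
  let act : G → Ω → Ω := fun g χ => ⟨fun a => χ.1 (cj g a), hmem g χ⟩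
  have hact1 : ∀ χ, act 1 χ = χ := fun χ => Subtype.ext (funext fun a => by simp [act, cj])
  have hactm : ∀ g h χ, act (g * h) χ = act g (act h χ) := fun g h χ => Subtype.ext (funext fun a => by
    simp only [act, cj, mul_inv_rev, mul_assoc])
  let π : Representation k G (Ω → k) :=
    { toFun := fun g => LinearMap.funLeft k k (act g⁻¹)
      map_one' := LinearMap.ext fun f => funext fun χ => by simp [LinearMap.funLeft_apply, hact1]
      map_mul' := fun g h => LinearMap.ext fun f => funext fun χ => by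
        simp [LinearMap.funLeft_apply, mul_inv_rev, hactm] }
  have hker : ∀ g ∈ MonoidHom.ker π, ∀ χ, act g χ = χ := by
    intro g hg χ
    by_contra hne
    have h1 : π g (Pi.single χ 1) = Pi.single χ 1 := by rw [MonoidHom.mem_ker.1 hg]; rfl
    have h2 := congrFun h1 (act g χ)
    simp only [π, MonoidHom.coe_mk, OneHom.coe_mk, LinearMap.funLeft_apply, ← hactm, inv_mul_cancel, hact1,
      Pi.single_eq_same, Pi.single_eq_of_ne hne] at h2
    exact one_ne_zero h2
  have hNle : MonoidHom.ker π ≤ φ.ker := by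
    have := alt_simple (r := r) (by omega)
    rcases ((MonoidHom.normal_ker π).map φ hφ).eq_bot_or_eq_top with h | h
    · exact (Subgroup.map_eq_bot_iff _).1 h
    · exfalso
      have htop := hmin _ h
      obtain ⟨χ⟩ := hexΩ
      let E : Submodule k V := ⨅ a : A, Module.End.eigenspace (ρ (a : G)) (χ.1 a)
      have hE : ∀ g, ∀ w ∈ E, ρ g w ∈ E := by
        intro g w hw
        rw [Submodule.mem_iInf] at hw ⊢
        intro a
        rw [Module.End.mem_eigenspace_iff]
        have hfix := congrArg Subtype.val (hker g (htop ▸ Subgroup.mem_top g) χ)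
        have h3 := Module.End.mem_eigenspace_iff.1 (hw (cj g a))
        rw [show χ.1 a = χ.1 (cj g a) from (congrFun hfix a).symm, ← map_smul, ← h3, ← Module.End.mul_apply,
          ← Module.End.mul_apply, ← map_mul, ← map_mul]
        congr 2
        simp [cj, mul_assoc]
      have hEne : E ≠ ⊥ := fun e => hev0 χ (by
        have : ev χ ∈ E := (Submodule.mem_iInf _).2 fun a => Module.End.mem_eigenspace_iff.2 (hev χ a)
        rwa [e, Submodule.mem_bot] at this)
      have hEt := (hirr E hE).resolve_left hEne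
      refine hns (χ.1 ⟨a₀, ha₀⟩) (LinearMap.ext fun v => ?_)
      have hv : v ∈ E := hEt ▸ Submodule.mem_top
      exact Module.End.mem_eigenspace_iff.1 ((Submodule.mem_iInf _).1 hv ⟨a₀, ha₀⟩)
  have ha₀N : a₀ ∈ MonoidHom.ker π := by
    rw [MonoidHom.mem_ker]
    refine LinearMap.ext fun f => funext fun χ => ?_
    show f (act a₀⁻¹ χ) = f χ
    congr 1
    refine Subtype.ext (funext fun a => ?_)
    show χ.1 (cj a₀⁻¹ a) = χ.1 a
    refine congrArg χ.1 (Subtype.ext ?_)
    show a₀⁻¹⁻¹ * (a : G) * a₀⁻¹ = a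
    rw [inv_inv, (hcomm a₀ ha₀ a a.2).eq, mul_inv_cancel_right]
  have ha1 : a₀ ≠ 1 := fun e => hns 1 (by rw [e, map_one, one_smul])
  have hdim : finrank k (Ω → k) = Fintype.card Ω := Module.finrank_pi k
  refine (bound_of_ker_le IH π φ hr hφ hNle ?_).mono (hdim ▸ hΩn)
  have := card_quot_lt _ ha₀N ha1
  omega

end central

/-- A natural number fact. -/
theorem sq_lt_two_pow : ∀ d : ℕ, 5 ≤ d → d ^ 2 < 2 ^ d := by
  intro d hd
  induction d, hd using Nat.le_induction with
  | base => norm_num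
  | succ d hd ih => rw [pow_succ 2 d]; nlinarith

theorem sq_le_two_pow_succ : ∀ n : ℕ, (n + 1) ^ 2 ≤ 2 ^ (n + 2) ∧ n ^ 2 < 2 ^ (n + 1) := by
  intro n
  rcases Nat.lt_or_ge n 5 with h | h
  · interval_cases n <;> norm_num
  · have := sq_lt_two_pow n h
    have := sq_lt_two_pow (n + 1) (by omega)
    rw [pow_succ 2 (n + 1), pow_succ 2 n] at *
    constructor <;> nlinarith

section central

variable (hr : 9 ≤ r) (hφ : Function.Surjective φ) (hinj : Function.Injective ρ)
  (hmin : ∀ H : Subgroup G, H.map φ = ⊤ → H = ⊤)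
  (hirr : ∀ W : Submodule k V, (∀ g, ∀ w ∈ W, ρ g w ∈ W) → W = ⊥ ∨ W = ⊤)

include hr hφ hinj hmin hirr

/-- If the kernel is not scalar there is a smaller instance. -/
theorem bound_noncentral (IH : Below.{u} (finrank k V + Nat.card G))
    (hns : ∃ z, φ z = 1 ∧ ∀ c : k, ρ z ≠ c • 1) : Bd k r (finrank k V) := by
  classical
  by_cases hab : ∃ A : Subgroup G, A.Normal ∧ A ≤ φ.ker ∧ (∀ a ∈ A, ∀ b ∈ A, Commute a b) ∧
      ∃ a ∈ A, ∀ c : k, ρ a ≠ c • 1
  · obtain ⟨A, hAn, hA, hcomm, hex⟩ := hab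
    exact bound_abelian ρ φ hr hφ hinj hmin hirr IH A hA hcomm hex
  push Not at hab
  obtain ⟨v₀, hv₀⟩ := exists_ne_zero ρ φ hr hφ hinj hmin hirr
  -- the scalars in the kernel
  have hcen : ∀ z, (∃ c : k, ρ z = c • 1) → ∀ g, Commute z g := fun z ⟨c, hc⟩ g => hinj (by
    rw [map_mul, map_mul, hc, smul_mul_assoc, one_mul, mul_smul_comm, mul_one])
  let Z : Subgroup G :=
    { carrier := {z | φ z = 1 ∧ ∃ c : k, ρ z = c • 1}
      one_mem' := ⟨map_one φ, 1, by rw [map_one, one_smul]⟩
      mul_mem' := fun {a b} ⟨ha, c, hc⟩ ⟨hb, d, hd⟩ => ⟨by rw [map_mul, ha, hb, mul_one], c * d, by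
        rw [map_mul, hc, hd, smul_mul_assoc, one_mul, smul_smul]⟩
      inv_mem' := fun {a} ⟨ha, c, hc⟩ => ⟨by rw [map_inv, ha, inv_one], c⁻¹, LinearMap.ext fun v => by
        have h1 : ρ a (ρ a⁻¹ v) = v := by
          rw [← Module.End.mul_apply, ← map_mul, mul_inv_cancel, map_one, Module.End.one_apply]
        rw [hc, LinearMap.smul_apply, Module.End.one_apply] at h1
        have hc0 : c ≠ 0 := fun e => hv₀ (by
          refine rho_injective (ρ := ρ) a ?_
          rw [hc, e, zero_smul, LinearMap.zero_apply, LinearMap.zero_apply])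
        rw [LinearMap.smul_apply, Module.End.one_apply]
        nth_rewrite 2 [← h1]
        rw [smul_smul, inv_mul_cancel₀ hc0, one_smul]⟩ }
  have hZc : ∀ z ∈ Z, ∀ g, Commute z g := fun z hz => hcen z hz.2
  have hZn : Z.Normal := ⟨fun z hz g => by rwa [(hZc z hz g).symm.eq, mul_inv_cancel_right]⟩
  let q : G →* G ⧸ Z := QuotientGroup.mk' Z
  have hq : ∀ x, q x = 1 ↔ x ∈ Z := fun x => QuotientGroup.eq_one_iff x
  -- the kernel is nilpotent
  have hKnil : Group.IsNilpotent φ.ker := by
    have hle : φ.ker ≤ frattini G := by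
      refine le_iInf₂ fun M hM => ?_
      by_contra hnle
      have htop : M ⊔ φ.ker = ⊤ := hM.2 _ (lt_of_le_of_ne le_sup_left fun e => hnle (e ▸ le_sup_right))
      refine hM.1 (hmin M (eq_top_iff.2 fun x _ => ?_))
      obtain ⟨g, rfl⟩ := hφ x
      have : g ∈ M ⊔ φ.ker := htop ▸ Subgroup.mem_top g
      have h2 : φ g ∈ (M ⊔ φ.ker).map φ := ⟨g, this, rfl⟩
      rwa [Subgroup.map_sup, (Subgroup.map_eq_bot_iff φ.ker).2 le_rfl, sup_bot_eq] at h2
    have := frattini_nilpotent (G := G)
    exact (Group.isNilpotent_congr (Subgroup.subgroupOfEquivOfLe hle)).1 inferInstance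
  -- a central element of prime order modulo the scalars
  let ψ : φ.ker →* G ⧸ Z := q.comp φ.ker.subtype
  have hnil' : Group.IsNilpotent ψ.range :=
    Group.nilpotent_of_surjective ψ.rangeRestrict ψ.rangeRestrict_surjective
  obtain ⟨z₀, hz₀, hz₀s⟩ := hns
  have : Nontrivial ψ.range := by
    refine ⟨⟨ψ ⟨z₀, hz₀⟩, ⟨_, rfl⟩⟩, 1, fun e => ?_⟩
    obtain ⟨-, c, hc⟩ := (hq z₀).1 (congrArg Subtype.val e)
    exact hz₀s c hc
  obtain ⟨w, hwc, hw1⟩ := (Subgroup.bot_or_exists_ne_one (Subgroup.center ψ.range)).resolve_left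
    (Group.IsNilpotent.center_ne_bot _)
  obtain ⟨s, hs, hsdvd⟩ := Nat.exists_prime_and_dvd (show orderOf w ≠ 1 from fun e => hw1 (orderOf_eq_one_iff.1 e))
  have : Fact s.Prime := ⟨hs⟩
  have hw' : orderOf (w ^ (orderOf w / s)) = s := orderOf_pow_orderOf_div (orderOf_pos w).ne' hsdvd
  set w' := w ^ (orderOf w / s)
  have hw'c : w' ∈ Subgroup.center ψ.range := Subgroup.pow_mem _ hwc _
  obtain ⟨e₀, he₀⟩ := w'.2
  let E : Subgroup G :=
    { carrier := {e | φ e = 1 ∧ q e ^ s = 1 ∧ ∀ x, φ x = 1 → Commute (q e) (q x)}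
      one_mem' := ⟨map_one φ, by rw [map_one, one_pow], fun x _ => by rw [map_one]; exact Commute.one_left _⟩
      mul_mem' := fun {a b} ⟨ha, ha', ha''⟩ ⟨hb, hb', hb''⟩ => ⟨by rw [map_mul, ha, hb, mul_one],
        by rw [map_mul, (ha'' b hb).mul_pow, ha', hb', mul_one],
        fun x hx => by rw [map_mul]; exact (ha'' x hx).mul_left (hb'' x hx)⟩
      inv_mem' := fun {a} ⟨ha, ha', ha''⟩ => ⟨by rw [map_inv, ha, inv_one], by rw [map_inv, inv_pow, ha', inv_one],
        fun x hx => by rw [map_inv]; exact (ha'' x hx).inv_left⟩ }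
  have hEn : E.Normal := ⟨fun e ⟨he, he', he''⟩ g => ⟨by rw [map_mul, map_mul, he, mul_one, map_inv, mul_inv_cancel],
    by rw [map_mul, map_mul, map_inv, conj_pow, he', mul_one, mul_inv_cancel],
    fun x hx => by
      have h1 := he'' (g⁻¹ * x * g) (by rw [map_mul, map_mul, hx, mul_one, map_inv, inv_mul_cancel])
      rw [map_mul, map_mul, map_inv] at h1 ⊢
      calc q g * q e * (q g)⁻¹ * q x = q g * (q e * ((q g)⁻¹ * q x * q g)) * (q g)⁻¹ := by group
        _ = q g * (((q g)⁻¹ * q x * q g) * q e) * (q g)⁻¹ := by rw [h1.eq]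
        _ = q x * (q g * q e * (q g)⁻¹) := by group⟩⟩
  have he₀E : (e₀ : G) ∈ E := by
    refine ⟨e₀.2, ?_, fun x hx => ?_⟩
    · show ψ e₀ ^ s = 1
      rw [he₀, ← SubmonoidClass.coe_pow, ← hw', pow_orderOf_eq_one, OneMemClass.coe_one]
    · show Commute (ψ e₀) (ψ ⟨x, hx⟩)
      rw [he₀]
      exact congrArg Subtype.val ((Subgroup.mem_center_iff.1 hw'c) ⟨ψ ⟨x, hx⟩, ⟨_, rfl⟩⟩).symm
  have he₀Z : (e₀ : G) ∉ Z := fun h => by
    have h1 : w' = 1 := Subtype.ext (by rw [← he₀]; exact (hq _).2 h)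
    rw [h1, orderOf_one] at hw'
    exact hs.one_lt.ne hw'
  -- the commutator pairing
  let χ : G → G → k := fun e f => if h : ∃ c : k, ρ (f * e * f⁻¹ * e⁻¹) = c • 1 then h.choose else 0
  have hχ0 : ∀ e f, f * e * f⁻¹ * e⁻¹ ∈ Z → ρ (f * e * f⁻¹) = χ e f • ρ e := fun e f h => by
    have h' : ∃ c : k, ρ (f * e * f⁻¹ * e⁻¹) = c • 1 := h.2
    have hsp := h'.choose_spec
    simp only [χ, dif_pos h']
    generalize h'.choose = c at hsp ⊢
    conv_lhs => rw [show f * e * f⁻¹ = (f * e * f⁻¹ * e⁻¹) * e by group]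
    rw [map_mul, hsp, smul_mul_assoc, one_mul]
  have hcZ : ∀ e ∈ E, ∀ f, φ f = 1 → f * e * f⁻¹ * e⁻¹ ∈ Z := fun e he f hf => by
    rw [← hq, map_mul, map_mul, map_mul, map_inv, map_inv, ← (he.2.2 f hf).eq]
    group
  have hρne : ∀ e : G, ρ e ≠ 0 := fun e h => hv₀ (by
    have h1 : ρ e⁻¹ (ρ e v₀) = v₀ := by
      rw [← Module.End.mul_apply, ← map_mul, inv_mul_cancel, map_one, Module.End.one_apply]
    rw [h, LinearMap.zero_apply, map_zero] at h1
    exact h1.symm)
  have hscal : ∀ (e : G) {a b : k}, a • ρ e = b • ρ e → a = b := fun e a b h =>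
    smul_left_injective k (hρne e) h
  -- the radical
  let Rd : Subgroup G :=
    { carrier := {e | e ∈ E ∧ ∀ f ∈ E, Commute e f}
      one_mem' := ⟨E.one_mem, fun f _ => Commute.one_left f⟩
      mul_mem' := fun {a b} ha hb => ⟨E.mul_mem ha.1 hb.1, fun f hf => (ha.2 f hf).mul_left (hb.2 f hf)⟩
      inv_mem' := fun {a} ha => ⟨E.inv_mem ha.1, fun f hf => (ha.2 f hf).inv_left⟩ }
  have hRn : Rd.Normal := ⟨fun a ha g => ⟨hEn.conj_mem a ha.1 g, fun f hf => by
    have h1 := ha.2 _ (hEn.conj_mem f hf g⁻¹)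
    rw [inv_inv] at h1
    calc g * a * g⁻¹ * f = g * (a * (g⁻¹ * f * g)) * g⁻¹ := by group
      _ = g * (g⁻¹ * f * g * a) * g⁻¹ := by rw [h1.eq]
      _ = f * (g * a * g⁻¹) := by group⟩⟩
  have hRZ : ∀ a ∈ Rd, a ∈ Z := fun a ha => by
    obtain ⟨c, hc⟩ := hab Rd hRn (fun x hx => hx.1.1) (fun x hx y hy => hx.2 y hy.1) a ha
    exact ⟨ha.1.1, c, hc⟩
  -- the characters
  have hχmul : ∀ e ∈ E, ∀ f ∈ E, ∀ g ∈ E, χ e (f * g) = χ e f * χ e g := by
    intro e he f hf g hg
    refine hscal e ?_
    rw [← hχ0 e _ (hcZ e he _ (by rw [map_mul, hf.1, hg.1, mul_one])), show f * g * e * (f * g)⁻¹ = f * (g * e * g⁻¹) * f⁻¹ by group,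
      map_mul, map_mul, hχ0 e g (hcZ e he g hg.1), mul_smul_comm, smul_mul_assoc, ← map_mul, ← map_mul,
      hχ0 e f (hcZ e he f hf.1), smul_smul, mul_comm]
  -- the prime differs from the characteristic
  have hsk : (s : k) ≠ 0 := by
    intro hs0
    obtain ⟨f, hf, hne⟩ : ∃ f ∈ E, ¬ Commute (e₀ : G) f := by
      by_contra! h
      exact he₀Z (hRZ _ ⟨he₀E, h⟩)
    set c := f * e₀ * f⁻¹ * (e₀ : G)⁻¹ with hc
    have hcmem := hcZ e₀ he₀E f hf.1
    rw [← hc] at hcmem
    have h1 : c ^ s = 1 := by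
      have hz : (e₀ : G) ^ s ∈ Z := (hq _).1 (by rw [map_pow]; exact he₀E.2.1)
      have h2 : f * (e₀ : G) * f⁻¹ = c * e₀ := by rw [hc, inv_mul_cancel_right]
      have h3 := congrArg (· ^ s) h2
      simp only [conj_pow, (hZc c hcmem (e₀ : G)).mul_pow] at h3
      rw [(hZc _ hz f).symm.eq, mul_inv_cancel_right] at h3
      exact mul_eq_right.1 h3.symm
    obtain ⟨ζ, hζ⟩ := hcmem.2
    have hζs : ζ ^ s = 1 := by
      have h4 : (ζ • (1 : Module.End k V)) ^ s = 1 := by rw [← hζ, ← map_pow, h1, map_one]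
      rw [smul_pow, one_pow] at h4
      have h5 := congrArg (fun T : Module.End k V => T v₀) h4
      simp only [LinearMap.smul_apply, Module.End.one_apply] at h5
      nth_rewrite 2 [← one_smul k v₀] at h5
      exact smul_left_injective k hv₀ h5
    have : CharP k s := (CharP.charP_iff_prime_eq_zero hs).2 hs0
    have hζ1 : ζ = 1 := by
      have h6 : (ζ - 1) ^ s = 0 := by rw [sub_pow_char, hζs, one_pow, sub_self]
      exact sub_eq_zero.1 (eq_zero_of_pow_eq_zero h6)
    refine hne ?_
    have h7 : c = 1 := hinj (by rw [hζ, hζ1, one_smul, map_one])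
    show (e₀ : G) * f = f * e₀
    rw [hc, mul_inv_eq_one, mul_inv_eq_iff_eq_mul] at h7
    exact h7.symm
  -- the elementary quotient
  let W : Subgroup (G ⧸ Z) := E.map q
  have hWcomm : ∀ x y : W, x * y = y * x := by
    rintro ⟨_, e, he, rfl⟩ ⟨_, f, hf, rfl⟩
    exact Subtype.ext (he.2.2 f hf.1)
  let _ : CommGroup W := { (inferInstance : Group W) with mul_comm := hWcomm }
  have hWs : ∀ x : W, x ^ s = 1 := fun x => by
    obtain ⟨e', he', heq⟩ := x.2
    exact Subtype.ext (by rw [SubmonoidClass.coe_pow, ← heq]; exact he'.2.1)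
  -- its size
  have hWn : Nat.card W ≤ finrank k V ^ 2 := by
    have hrep : ∀ x : W, ∃ e, e ∈ E ∧ q e = x := fun x => x.2
    choose re hreE hreq using hrep
    let X : W → (E →* k) := fun x =>
      { toFun := fun f => χ (re x) f
        map_one' := hscal (re x) (by
          rw [OneMemClass.coe_one, ← hχ0 _ _ (hcZ _ (hreE x) _ (map_one φ))]
          simp)
        map_mul' := fun f g => hχmul _ (hreE x) _ f.2 _ g.2 }
    have hXinj : Function.Injective X := by
      intro x y hxy
      refine Subtype.ext ?_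
      rw [← hreq x, ← hreq y]
      have hmem : (re y)⁻¹ * re x ∈ Rd := by
        refine ⟨E.mul_mem (E.inv_mem (hreE y)) (hreE x), fun f hf => ?_⟩
        have h1 := hχ0 _ f (hcZ _ (hreE x) f hf.1)
        have h2 := hχ0 _ f (hcZ _ (hreE y) f hf.1)
        have hxy' : χ (re x) f = χ (re y) f := congrArg (fun m => m ⟨f, hf⟩) hxy
        refine (commute_iff_eq _ _).2 (hinj ?_)
        have e1 : ρ (f * re x) = χ (re x) f • ρ (re x * f) := by
          rw [map_mul ρ (re x), ← smul_mul_assoc, ← h1, ← map_mul]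
          congr 1; group
        have e2 : ρ ((re y)⁻¹ * f) = χ (re y) f • ρ (f * (re y)⁻¹) := by
          rw [show (re y)⁻¹ * f = (re y)⁻¹ * ((f * re y * f⁻¹) * (f * (re y)⁻¹)) by group, map_mul, map_mul, h2,
            smul_mul_assoc, mul_smul_comm, ← map_mul, ← map_mul]
          congr 2; group
        calc ρ ((re y)⁻¹ * re x * f) = ρ (re y)⁻¹ * ρ (re x * f) := by rw [← map_mul, mul_assoc]
          _ = ρ (f * ((re y)⁻¹ * re x)) := ?_
        have hc0 : χ (re x) f ≠ 0 := fun h => hρne (f * re x) (by rw [e1, h, zero_smul])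
        refine smul_right_injective _ hc0 ?_
        show χ (re x) f • (ρ (re y)⁻¹ * ρ (re x * f)) = χ (re x) f • ρ (f * ((re y)⁻¹ * re x))
        rw [← mul_smul_comm, ← e1, ← map_mul, ← mul_assoc, map_mul, e2, ← hxy', smul_mul_assoc, ← map_mul,
          mul_assoc]
      have h3 := (hq _).2 (hRZ _ hmem)
      rw [map_mul, map_inv, inv_mul_eq_one] at h3
      exact h3.symm
    have hind : LinearIndependent k (fun x : W => ρ (re x)) := by
      rw [linearIndependent_iff']
      intro t c hc x hx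
      by_contra hne
      obtain ⟨lin, hlin⟩ : ∃ lin : Module.End k V →ₗ[k] k, lin (ρ (re x)) ≠ 0 := by
        obtain ⟨lin, hl, -⟩ := Submodule.exists_le_ker_of_notMem (p := (⊥ : Submodule k (Module.End k V)))
          (v := ρ (re x)) (by simpa using hρne _)
        exact ⟨lin, hl⟩
      have hsum : ∀ f : E, ∑ y ∈ t, (c y * lin (ρ (re y))) • (X y f) = 0 := by
        intro f
        have h := congrArg (fun T => lin (ρ (f : G) * T * ρ (f : G)⁻¹)) hc
        simp only [Finset.mul_sum, Finset.sum_mul, mul_zero, zero_mul, map_zero, map_sum, mul_smul_comm,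
          smul_mul_assoc, map_smul, ← map_mul] at h
        rw [← h]
        refine Finset.sum_congr rfl fun y _ => ?_
        rw [hχ0 _ _ (hcZ _ (hreE y) _ f.2.1), map_smul]
        simp only [smul_eq_mul, X, MonoidHom.coe_mk, OneHom.coe_mk]
        ring
      have hXind := (linearIndependent_monoidHom E k).comp X hXinj
      rw [linearIndependent_iff'] at hXind
      have := hXind t (fun y => c y * lin (ρ (re y))) (funext fun f => by
        simpa using hsum f) x hx
      exact (mul_ne_zero hne hlin) this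
    let _ : Fintype W := Fintype.ofFinite W
    rw [Nat.card_eq_fintype_card, pow_two]
    refine hind.fintype_card_le_finrank.trans (le_of_eq ?_)
    exact Module.finrank_linearMap k k V V
  -- the representation on the quotient
  let cw : G →* Monoid.End W :=
    { toFun := fun g =>
        { toFun := fun x => ⟨q g * x * (q g)⁻¹, by
            obtain ⟨e, he, heq⟩ := x.2
            exact ⟨g * e * g⁻¹, hEn.conj_mem e he g, by rw [map_mul, map_mul, map_inv, heq]⟩⟩
          map_one' := Subtype.ext (by simp)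
          map_mul' := fun x y => Subtype.ext (by simp only [Subgroup.coe_mul]; group) }
      map_one' := MonoidHom.ext fun x => Subtype.ext (by simp; rfl)
      map_mul' := fun g h => MonoidHom.ext fun x => Subtype.ext (show q (g * h) * (x : G ⧸ Z) * (q (g * h))⁻¹ = q g * (q h * x * (q h)⁻¹) * (q g)⁻¹ by rw [map_mul]; group) }
  obtain ⟨k', _, _, d, τ', hcard, hτ⟩ := exists_rep_of_elementary s hWs cw
  have hdn : d ≤ finrank k V := by
    by_contra hlt
    have h1 : 2 ^ (finrank k V + 1) ≤ s ^ d := (Nat.pow_le_pow_right (by norm_num) (by omega)).trans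
      (Nat.pow_le_pow_left hs.two_le _)
    have h2 := (sq_le_two_pow_succ (finrank k V)).2
    omega
  have hτfix : ∀ g ∈ MonoidHom.ker τ', ∀ e ∈ E, g * e * g⁻¹ * e⁻¹ ∈ Z := fun g hg e he => by
    rw [← hq, map_mul, map_mul, map_mul, map_inv, map_inv]
    have h1 := congrArg (fun T : W →* W => ((T ⟨q e, e, he, rfl⟩ : W) : G ⧸ Z)) ((hτ g).1 (MonoidHom.mem_ker.1 hg))
    have h2 : q g * q e * (q g)⁻¹ = q e := h1
    rw [h2, mul_inv_cancel]
  have hKle : MonoidHom.ker τ' ≤ φ.ker := by
    have := alt_simple (r := r) (by omega)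
    rcases ((MonoidHom.normal_ker τ').map φ hφ).eq_bot_or_eq_top with h | h
    · exact (Subgroup.map_eq_bot_iff _).1 h
    · exfalso
      have htop := hmin _ h
      have hall : ∀ g, g * e₀ * g⁻¹ * (e₀ : G)⁻¹ ∈ Z := fun g =>
        hτfix g (htop ▸ Subgroup.mem_top g) e₀ he₀E
      let δ : G →* kˣ := MonoidHom.toHomUnits
        { toFun := fun g => χ e₀ g
          map_one' := hscal (e₀ : G) (by rw [← hχ0 _ _ (hall 1)]; simp)
          map_mul' := fun g h => hscal (e₀ : G) (by
            rw [← hχ0 _ _ (hall (g * h)), show g * h * e₀ * (g * h)⁻¹ = g * (h * e₀ * h⁻¹) * g⁻¹ by group,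
              map_mul, map_mul, hχ0 _ h (hall h), mul_smul_comm, smul_mul_assoc, ← map_mul, ← map_mul,
              hχ0 _ g (hall g), smul_smul, mul_comm]) }
      have hδ : δ.ker = ⊤ := by
        refine hmin _ (((MonoidHom.normal_ker δ).map φ hφ).eq_bot_or_eq_top.resolve_left fun hb => ?_)
        refine not_comm hr (MonoidHom.id _) Function.surjective_id fun a b => ?_
        obtain ⟨x, rfl⟩ := hφ a
        obtain ⟨y, rfl⟩ := hφ b
        have hxy : x * y * x⁻¹ * y⁻¹ ∈ δ.ker := by
          rw [MonoidHom.mem_ker, map_mul, map_mul, map_mul, map_inv, map_inv, mul_comm (δ x), mul_inv_cancel_right,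
            mul_inv_cancel]
        have h1 := (Subgroup.map_eq_bot_iff _).1 hb hxy
        rw [MonoidHom.mem_ker, map_mul, map_mul, map_mul, map_inv, map_inv, mul_inv_eq_one, mul_inv_eq_iff_eq_mul] at h1
        exact h1
      have hcomm0 : ∀ g, Commute g (e₀ : G) := fun g => by
        have h1 : χ e₀ g = 1 := congrArg Units.val (MonoidHom.mem_ker.1 (hδ ▸ Subgroup.mem_top g : g ∈ δ.ker))
        have h2 := hχ0 _ g (hall g)
        rw [h1, one_smul] at h2
        exact mul_inv_eq_iff_eq_mul.1 (hinj h2)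
      obtain ⟨c, v, -, hv0, hvc⟩ := exists_eigen ρ (W := (⊤ : Submodule k V)) (x := (e₀ : G)) (fun e => hv₀ (by
        have : v₀ ∈ (⊤ : Submodule k V) := Submodule.mem_top
        rwa [e, Submodule.mem_bot] at this)) (fun _ _ => Submodule.mem_top)
      have hEt := (hirr (Module.End.eigenspace (ρ (e₀ : G)) c) (fun g w hw => by
        rw [Module.End.mem_eigenspace_iff, rho_comm ρ (hcomm0 g).symm, Module.End.mem_eigenspace_iff.1 hw,
          map_smul])).resolve_left (fun e => hv0 (by
        have := Module.End.mem_eigenspace_iff.2 hvc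
        rwa [e, Submodule.mem_bot] at this))
      refine he₀Z ⟨e₀.2, c, LinearMap.ext fun u => ?_⟩
      exact Module.End.mem_eigenspace_iff.1 (hEt ▸ Submodule.mem_top : u ∈ Module.End.eigenspace (ρ (e₀ : G)) c)
  have he₀N : (e₀ : G) ∈ MonoidHom.ker τ' := by
    rw [MonoidHom.mem_ker]
    refine (hτ _).2 (MonoidHom.ext fun x => Subtype.ext ?_)
    obtain ⟨e, he, heq⟩ := x.2
    show q e₀ * (x : G ⧸ Z) * (q (e₀ : G))⁻¹ = x
    rw [← heq, (he₀E.2.2 e he.1).eq, mul_inv_cancel_right]
  have hdim : finrank k' (Fin d → k') = d := by rw [Module.finrank_fin_fun]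
  have hb := bound_of_ker_le IH τ' φ hr hφ hKle (by
    have := card_quot_lt _ he₀N (fun e => he₀Z (e ▸ Z.one_mem))
    omega)
  rw [hdim] at hb
  refine Bd_of_le ?_
  have h1 := hb.1
  by_contra hlt
  have h2 := sq_lt_two_pow d (by omega)
  have h3 : 2 ^ d ≤ s ^ d := Nat.pow_le_pow_left hs.two_le _
  have h4 : finrank k V ^ 2 ≤ d ^ 2 := Nat.pow_le_pow_left (by omega) _
  omega

end central

omit [FiniteDimensional k V] in
/-- The bound for every instance. -/
theorem below_all : ∀ μ, Below.{u} μ := by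
  intro μ
  induction μ with
  | zero => intro k _ _ V _ _ _ G _ _ ρ r φ _ _ _ h; omega
  | succ μ ih =>
    intro k _ _ V _ _ _ G _ _ ρ r φ hr hφ hinj hμ
    classical
    have IH : Below.{u} (finrank k V + Nat.card G) := fun k' _ _ V' _ _ _ G' _ _ ρ' r' φ' h1 h2 h3 h4 =>
      ih k' V' G' ρ' r' φ' h1 h2 h3 (by omega)
    by_cases hmin : ∀ H : Subgroup G, H.map φ = ⊤ → H = ⊤
    swap
    · push Not at hmin
      obtain ⟨H, hH, hne⟩ := hmin
      refine IH k V H (ρ.comp H.subtype) r (φ.comp H.subtype) hr ?_ ?_ ?_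
      · intro a
        obtain ⟨x, hx, rfl⟩ : a ∈ H.map φ := hH ▸ Subgroup.mem_top a
        exact ⟨⟨x, hx⟩, rfl⟩
      · exact hinj.comp H.subtype_injective
      · have : Nat.card H < Nat.card G :=
          lt_of_le_of_ne (Nat.le_of_dvd Nat.card_pos (Subgroup.card_subgroup_dvd_card H))
            fun e => hne (Subgroup.eq_top_of_card_eq H e)
        omega
    by_cases hirr : ∀ W : Submodule k V, (∀ g, ∀ w ∈ W, ρ g w ∈ W) → W = ⊥ ∨ W = ⊤
    swap
    · push Not at hirr
      obtain ⟨W, hW, hb, ht⟩ := hirr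
      exact bound_reducible ρ φ IH hr hφ hinj hmin W hW hb ht
    by_cases hker : ∀ z, φ z = 1 → ∃ c : k, ρ z = c • 1
    swap
    · push Not at hker
      exact bound_noncentral ρ φ hr hφ hinj hmin hirr IH hker
    have S : Setup ρ φ := ⟨hinj, hφ, hker, hmin, hirr, hr⟩
    by_cases h5 : (5 : k) = 0
    · exact bound_three S IH (fun h3 => one_ne_zero (α := k) (by linear_combination 2 * h3 - h5)) (Or.inl h5)
    by_cases hc : (3 : k) = 0 ∨ 10 ≤ r
    · exact bound_five S IH h5 hc
    · push Not at hc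
      exact bound_three S IH hc.1 (Or.inr (by omega))

end Cfsg.Agent.AltSection95
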