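import Cfsg.Agent.Lib.AltSectionEigen95
import Cfsg.Agent.Lib.AltSectionLift95

/-!
A representation of a minimal central cover of an alternating group: lifts of cycles and their behaviour.
-/

set_option autoImplicit false
set_option linter.unusedSectionVars false

namespace Cfsg.Agent.AltSection95

open Equiv Module

universe u

/-- The hypotheses of the central case. -/
structure Setup {k V G : Type*} [Field k] [AddCommGroup V] [Module k V] [Group G] {r : ℕ}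
    (ρ : Representation k G V) (φ : G →* alternatingGroup (Fin r)) : Prop where
  inj : Function.Injective ρ
  surj : Function.Surjective φ
  ker : ∀ z, φ z = 1 → ∃ c : k, ρ z = c • 1
  minl : ∀ H : Subgroup G, H.map φ = ⊤ → H = ⊤
  irr : ∀ W : Submodule k V, (∀ g, ∀ w ∈ W, ρ g w ∈ W) → W = ⊥ ∨ W = ⊤
  nine : 9 ≤ r

/-- The chosen lift. -/
noncomputable def L {G : Type*} [Group G] {r s : ℕ} (φ : G →* alternatingGroup (Fin r)) (ι : Fin s ↪ Fin r) : G :=
  Classical.epsilon (IsLift φ s (cyc ι))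

variable {k V G : Type*} [Field k] [AddCommGroup V] [Module k V] [Group G] {r s : ℕ}
  {ρ : Representation k G V} {φ : G →* alternatingGroup (Fin r)} (S : Setup ρ φ)

include S

theorem Setup.central : ∀ z, φ z = 1 → ∀ g, Commute z g := fun z hz g => S.inj (by
  obtain ⟨c, hc⟩ := S.ker z hz
  rw [map_mul, map_mul, hc, smul_mul_assoc, one_mul, mul_smul_comm, mul_one])

theorem L_spec (hs : Std s) (ι : Fin s ↪ Fin r) : IsLift φ s (cyc ι) (L φ ι) := by
  refine Classical.epsilon_spec (p := IsLift φ s (cyc ι)) ?_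
  have hr : s + 2 ≤ r := by have := S.nine; rcases hs with rfl | rfl | rfl <;> omega
  obtain ⟨g', hg'⟩ := exists_inverter hs hr ι
  obtain ⟨g, rfl⟩ := S.surj g'
  obtain ⟨y, hy⟩ := S.surj (cyc ι)
  obtain ⟨x, -, hx⟩ := exists_lift S.central hs.odd (cyc_pow hs.data ι) ⊤ (Subgroup.mem_top y)
    (Subgroup.mem_top g) hy hg'
  exact ⟨x, hx⟩

theorem φ_L (hs : Std s) (ι : Fin s ↪ Fin r) : φ (L φ ι) = cyc ι := (L_spec S hs ι).1

theorem L_pow (hs : Std s) (ι : Fin s ↪ Fin r) : L φ ι ^ s = 1 := (L_spec S hs ι).2.1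

theorem L_fix (hs : Std s) (ι : Fin s ↪ Fin r) : ∀ c, Commute (φ c) (cyc ι) → c * L φ ι * c⁻¹ = L φ ι :=
  fix_of_commute S.central S.surj hs (by have := S.nine; rcases hs with rfl | rfl | rfl <;> simp <;> omega)
    (φ_L S hs ι) (L_pow S hs ι)

theorem L_unique (hs : Std s) {ι : Fin s ↪ Fin r} {x : G} (hx : IsLift φ s (cyc ι) x) : x = L φ ι :=
  isLift_unique S.central hs.odd (L_spec S hs ι) (L_fix S hs ι) hx

theorem L_mem (hs : Std s) {ι : Fin s ↪ Fin r} (Q : Subgroup G) (hy : cyc ι ∈ Q.map φ)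
    (hg : ∃ g ∈ Q.map φ, g * cyc ι * g⁻¹ = (cyc ι)⁻¹) : L φ ι ∈ Q := by
  obtain ⟨y, hyQ, hy'⟩ := hy
  obtain ⟨_, ⟨g, hgQ, rfl⟩, hg'⟩ := hg
  obtain ⟨x, hxQ, hx⟩ := exists_lift S.central hs.odd (cyc_pow hs.data ι) Q hyQ hgQ hy' hg'
  exact L_unique S hs hx ▸ hxQ

theorem L_conj (hs : Std s) (h : G) (ι : Fin s ↪ Fin r) :
    h * L φ ι * h⁻¹ = L φ (ι.trans (φ h : Perm (Fin r)).toEmbedding) := by
  refine L_unique S hs ⟨by rw [map_mul, map_mul, map_inv, φ_L S hs, cyc_conj], by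
    rw [conj_pow, L_pow S hs, mul_one, mul_inv_cancel], ?_⟩
  obtain ⟨g, hg⟩ := (L_spec S hs ι).2.2
  refine ⟨h * g * h⁻¹, ?_⟩
  calc h * g * h⁻¹ * (h * L φ ι * h⁻¹) * (h * g * h⁻¹)⁻¹ = h * (g * L φ ι * g⁻¹) * h⁻¹ := by group
    _ = (h * L φ ι * h⁻¹)⁻¹ := by rw [hg]; group

theorem L_pow_eq (hs : Std s) (ι ι' : Fin s ↪ Fin r) (c : ℕ) (h : cyc ι ^ c = cyc ι') :
    L φ ι ^ c = L φ ι' := by
  refine L_unique S hs ⟨by rw [map_pow, φ_L S hs, h], by rw [← pow_mul, mul_comm, pow_mul, L_pow S hs, one_pow], ?_⟩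
  obtain ⟨g, hg⟩ := (L_spec S hs ι).2.2
  exact ⟨g, by rw [← conj_pow, hg, inv_pow]⟩

theorem L_eq_of_cyc (hs : Std s) {ι ι' : Fin s ↪ Fin r} (h : cyc ι = cyc ι') : L φ ι = L φ ι' := by
  have := L_pow_eq S hs ι ι' 1 (by rw [pow_one, h])
  rwa [pow_one] at this

theorem L_conj_eq_pow (hs : Std s) (h : G) (ι : Fin s ↪ Fin r) (c : ℕ) (hc : φ h * cyc ι * (φ h)⁻¹ = cyc ι ^ c) :
    h * L φ ι * h⁻¹ = L φ ι ^ c := by
  rw [L_conj S hs]
  exact (L_pow_eq S hs ι _ c (by rw [← hc, cyc_conj])).symm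

theorem L_conj_eq (hs : Std s) (h : G) (ι : Fin s ↪ Fin r) (ι' : Fin s ↪ Fin r)
    (hc : φ h * cyc ι * (φ h)⁻¹ = cyc ι') : h * L φ ι * h⁻¹ = L φ ι' := by
  rw [L_conj S hs]
  exact L_eq_of_cyc S hs (by rw [← hc, cyc_conj])

theorem L_commute {t : ℕ} (hs : Std s) (ht : Std t) {ι : Fin s ↪ Fin r} {κ : Fin t ↪ Fin r}
    (hd : ∀ i j, ι i ≠ κ j) : Commute (L φ ι) (L φ κ) := by
  have h : ι.trans (φ (L φ κ) : Perm (Fin r)).toEmbedding = ι := by
    ext i
    simp [φ_L S ht, cyc, emb_apply_notMem κ _ (ι i) (fun ⟨j, hj⟩ => hd i j hj.symm)]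
  have := L_conj S hs (L φ κ) ι
  rw [h, mul_inv_eq_iff_eq_mul] at this
  exact this.symm

theorem ρ_L_ne_one (hs : Std s) (ι : Fin s ↪ Fin r) : R ρ (L φ ι) ≠ ⊥ := by
  intro e
  have h1 : ρ (L φ ι) = ρ 1 := by
    rw [map_one]
    exact sub_eq_zero.1 (LinearMap.range_eq_bot.1 e)
  have := congrArg φ (S.inj h1)
  rw [φ_L S hs, map_one] at this
  exact cyc_ne_one hs.data ι this

theorem two_le_finrank [FiniteDimensional k V] : 2 ≤ finrank k V := by
  by_contra hlt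
  rcases Nat.eq_zero_or_pos (finrank k V) with h0 | h0
  · have := ρ_L_ne_one S (Or.inl rfl) (Fin.castLEEmb (show 3 ≤ r by have := S.nine; omega))
    exact this (Submodule.finrank_eq_zero.1 (Nat.le_zero.1 ((Submodule.finrank_le _).trans h0.le)))
  · have h1 : finrank k V = 1 := by omega
    -- endomorphisms of a line commute
    have hcomm : ∀ g h : G, Commute g h := fun g h => S.inj (by
      obtain ⟨v, hv, hspan⟩ := finrank_eq_one_iff'.1 h1
      refine LinearMap.ext fun w => ?_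
      obtain ⟨a, ha⟩ := hspan (ρ g v)
      obtain ⟨b, hb⟩ := hspan (ρ h v)
      obtain ⟨c, rfl⟩ := hspan w
      simp only [map_mul, Module.End.mul_apply, map_smul, ← ha, ← hb]
      rw [smul_comm a b])
    have h3 : Std 3 := Or.inl rfl
    obtain ⟨g', hg'⟩ := exists_inverter h3 (show 3 + 2 ≤ r by have := S.nine; omega)
      (Fin.castLEEmb (show 3 ≤ r by have := S.nine; omega))
    obtain ⟨g, rfl⟩ := S.surj g'
    obtain ⟨y, hy⟩ := S.surj (cyc (Fin.castLEEmb (show 3 ≤ r by have := S.nine; omega)))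
    rw [← hy, ← map_mul, ← map_inv, ← map_mul, (hcomm g y).eq, mul_inv_cancel_right, hy] at hg'
    have hp := cyc_pow (s := 3) cycData_three (Fin.castLEEmb (show 3 ≤ r by have := S.nine; omega))
    refine cyc_ne_one (s := 3) cycData_three (Fin.castLEEmb (show 3 ≤ r by have := S.nine; omega)) ?_
    generalize cyc (Fin.castLEEmb (show 3 ≤ r by have := S.nine; omega)) = t at hg' hp
    have h2 : t ^ 2 = 1 := by rw [pow_two]; exact eq_inv_iff_mul_eq_one.1 hg'
    calc t = t ^ 3 * (t ^ 2)⁻¹ := by group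
      _ = 1 := by rw [hp, h2, inv_one, mul_one]

omit S in
theorem rot_three_perm : ∀ π : Perm (Fin 3), π * (rot 3 : Perm (Fin 3)) * π⁻¹ = (rot 3 : Perm (Fin 3)) ∨
    π * (rot 3 : Perm (Fin 3)) * π⁻¹ = (rot 3 : Perm (Fin 3)) ^ 2 := by decide

theorem L_range_eq {ι ι' : Fin 3 ↪ Fin r} (h : Set.range ι = Set.range ι') :
    L φ ι' = L φ ι ∨ L φ ι' = (L φ ι)⁻¹ := by
  have hf : ∀ i, ∃ j, ι j = ι' i := fun i => h.ge ⟨i, rfl⟩
  choose f hf using hf
  have finj : Function.Injective f := fun a b e => ι'.injective (by rw [← hf a, ← hf b, e])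
  let π : Perm (Fin 3) := Equiv.ofBijective f (Finite.injective_iff_bijective.1 finj)
  have hι' : ι' = π.toEmbedding.trans ι := by ext i; simp [π, hf]
  have hcyc : ∀ c : ℕ, π * (rot 3 : Perm (Fin 3)) * π⁻¹ = (rot 3 : Perm (Fin 3)) ^ c → cyc ι' = cyc ι ^ c := by
    intro c hc
    rw [cyc, cyc, ← map_pow, eq_comm, eq_emb_iff]
    refine ⟨fun j => ?_, fun x hx => emb_apply_notMem ι _ x (h ▸ hx)⟩
    have := congrArg (fun p : Perm (Fin 3) => p (π j)) hc
    simp only [Perm.mul_apply, Perm.coe_inv, Equiv.symm_apply_apply] at this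
    rw [hι', Function.Embedding.trans_apply, Function.Embedding.trans_apply, emb_apply, SubmonoidClass.coe_pow,
      Equiv.coe_toEmbedding, this]
  rcases rot_three_perm π with hc | hc
  · exact Or.inl (L_eq_of_cyc S (Or.inl rfl) (by rw [hcyc 1 (by rw [pow_one]; exact hc), pow_one])).symm
  · refine Or.inr ((L_pow_eq S (Or.inl rfl) ι ι' 2 (hcyc 2 hc).symm).symm.trans
      (eq_inv_of_mul_eq_one_left ?_))
    rw [← pow_succ, L_pow S (Or.inl rfl)]

omit S in
/-- The lift attached to a three-element set. -/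
noncomputable def yT (φ : G →* alternatingGroup (Fin r)) (T : Finset (Fin r)) : G :=
  if h : T.card = 3 then L φ (T.orderEmbOfFin h).toEmbedding else 1

omit S in
theorem rot_three_free : ∀ n < 3, ∀ j : Fin 3, ((rot 3 : Perm (Fin 3)) ^ n) j = j → n = 0 := by decide

theorem chainData_of [FiniteDimensional k V]
    (hdisj : ∀ ι κ : Fin 3 ↪ Fin r, (∀ i j, ι i ≠ κ j) → ∀ v, ρ (L φ κ) (ρ (L φ ι) v - v) = ρ (L φ ι) v - v)
    (htwo : ∀ ι : Fin 3 ↪ Fin r, 2 ≤ finrank k (R ρ (L φ ι))) : ChainData ρ φ (yT φ) := by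
  classical
  have h3 : Std 3 := Or.inl rfl
  have hy : ∀ (T : Finset (Fin r)) (h : T.card = 3), yT φ T = L φ (T.orderEmbOfFin h).toEmbedding :=
    fun T h => dif_pos h
  have hφ : ∀ (T : Finset (Fin r)) (h : T.card = 3) (n : ℕ),
      φ (yT φ T ^ n) = emb (T.orderEmbOfFin h).toEmbedding (rot 3 ^ n) := fun T h n => by
    rw [map_pow, map_pow, hy T h, φ_L S h3, cyc]
  have hrange : ∀ (T : Finset (Fin r)) (h : T.card = 3) (x : Fin r),
      x ∈ Set.range (T.orderEmbOfFin h).toEmbedding ↔ x ∈ T := fun T h x => by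
    show x ∈ Set.range (T.orderEmbOfFin h) ↔ x ∈ T
    rw [Finset.range_orderEmbOfFin]
    rfl
  refine ⟨fun T hT a ha b hb => ?_, fun T hT x hx n => ?_, fun T hT a ha n hn x => ?_, fun h T hT => ?_, ?_, ?_⟩
  · obtain ⟨i, rfl⟩ := (hrange T hT a).2 ha
    obtain ⟨j, rfl⟩ := (hrange T hT b).2 hb
    obtain ⟨n, -, hn⟩ := cycData_three.regular i j
    exact ⟨n, by rw [hφ T hT, emb_apply, SubmonoidClass.coe_pow, hn]⟩
  · rw [hφ T hT, emb_apply_notMem _ _ x fun h => hx ((hrange T hT x).1 h)]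
  · obtain ⟨i, rfl⟩ := (hrange T hT a).2 ha
    have hmod : rot 3 ^ n = rot 3 ^ (n % 3) := by
      conv_lhs => rw [← Nat.mod_add_div n 3, pow_add, pow_mul, cycData_three.pow, one_pow, mul_one]
    rw [hφ T hT, emb_apply] at hn
    have h0 := (T.orderEmbOfFin hT).toEmbedding.injective hn
    rw [hmod, SubmonoidClass.coe_pow] at h0
    rw [hφ T hT, hmod, rot_three_free (n % 3) (Nat.mod_lt _ (by norm_num)) i h0, pow_zero, map_one]
    rfl
  · have hc : (T.image (φ h : Perm (Fin r))).card = 3 := by rw [card_image_perm, hT]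
    rw [hy T hT, hy _ hc, L_conj S h3]
    refine L_range_eq S ?_
    ext x
    rw [hrange, Finset.mem_image]
    constructor
    · rintro ⟨a, ha, rfl⟩
      obtain ⟨i, rfl⟩ := (hrange T hT a).2 ha
      exact ⟨i, rfl⟩
    · rintro ⟨i, rfl⟩
      exact ⟨_, (hrange T hT _).1 ⟨i, rfl⟩, rfl⟩
  · intro T T' hT hT' hd v
    rw [hy T hT, hy T' hT']
    refine hdisj _ _ (fun i j e => ?_) v
    exact Finset.disjoint_left.1 hd ((hrange T hT _).1 ⟨i, rfl⟩) (e ▸ (hrange T' hT' _).1 ⟨j, rfl⟩)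
  · intro T hT
    rw [hy T hT]
    exact htwo _

omit S in
/-- The bound asserted for `r` and dimension `n`. -/
def Bd (k : Type*) [Field k] (r n : ℕ) : Prop := r ≤ n + 2 ∧ ((r : k) ≠ 0 → r ≤ n + 1)

omit S in
theorem Bd_of_le {k : Type*} [Field k] {r n : ℕ} (h : r ≤ n + 1) : Bd k r n := ⟨by omega, fun _ => h⟩

omit S in
theorem Bd.mono {k : Type*} [Field k] {r m n : ℕ} (h : Bd k r m) (hmn : m ≤ n) : Bd k r n :=
  ⟨h.1.trans (by omega), fun h0 => (h.2 h0).trans (by omega)⟩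

theorem bound_of_disjoint [FiniteDimensional k V]
    (hdisj : ∀ ι κ : Fin 3 ↪ Fin r, (∀ i j, ι i ≠ κ j) → ∀ v, ρ (L φ κ) (ρ (L φ ι) v - v) = ρ (L φ ι) v - v)
    (htwo : ∀ ι : Fin 3 ↪ Fin r, 2 ≤ finrank k (R ρ (L φ ι))) : Bd k r (finrank k V) :=
  chain_bound (chainData_of S hdisj htwo) S.surj S.nine S.irr (two_le_finrank S)

end Cfsg.Agent.AltSection95
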