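import Cfsg.Agent.Lib.AltSectionFive95

/-!
The case of three-cycles (characteristic five).
-/

set_option autoImplicit false
set_option linter.unusedSectionVars false
set_option linter.unusedVariables false

namespace Cfsg.Agent.AltSection95

open Equiv Module

universe u

/-- The three facts used about closed sets of exponent triples. -/
theorem triples_list : ∀ e : Fin 3, e ≠ 0 → ∀ p q : Fin 3, p ≠ 0 → q ≠ 0 →
    (p, q) ∈ [((1 : Fin 3), e), (-1, -e), (1, -e), (-1, e)] := by decide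

theorem triples_list_full : ∀ e f : Fin 3, e ≠ 0 → f ≠ 0 → ∀ p q t : Fin 3, p ≠ 0 → q ≠ 0 → t ≠ 0 →
    (p, q, t) ∈ [((1 : Fin 3), e, f), (-1, -e, f), (1, -e, -f), (-1, e, -f),
      (e, 1, -f), (-e, -1, -f), (e, -1, f), (-e, 1, f)] := by decide

variable {k : Type u} {V : Type u} {G : Type u} [Field k] [IsAlgClosed k] [AddCommGroup V] [Module k V]
  [FiniteDimensional k V] [Group G] {r : ℕ} {ρ : Representation k G V}
  {φ : G →* alternatingGroup (Fin r)} (S : Setup ρ φ)

theorem sum_inf_eigen_le (B : Finset k) (x : G) (W : Submodule k V) :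
    ∑ μ ∈ B, finrank k ↥(W ⊓ Module.End.eigenspace (ρ x) μ) ≤ finrank k W := by
  classical
  suffices h : ∑ μ ∈ B, finrank k ↥(W ⊓ Module.End.eigenspace (ρ x) μ) =
      finrank k ↥(⨆ μ ∈ B, W ⊓ Module.End.eigenspace (ρ x) μ) by
    rw [h]
    exact Submodule.finrank_mono (iSup₂_le fun μ _ => inf_le_left)
  induction B using Finset.induction with
  | empty =>
    rw [Finset.sum_empty, show (⨆ μ ∈ (∅ : Finset k), W ⊓ Module.End.eigenspace (ρ x) μ) = ⊥ by simp, finrank_bot]
  | insert a T ha ih =>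
    rw [Finset.sum_insert ha, Finset.iSup_insert, ih]
    have hd : Disjoint (W ⊓ Module.End.eigenspace (ρ x) a) (⨆ μ ∈ T, W ⊓ Module.End.eigenspace (ρ x) μ) :=
      ((Module.End.eigenspaces_iSupIndep (ρ x)).disjoint_biSup (y := (T : Set k)) (by simpa using ha)).mono
        inf_le_right (iSup₂_mono fun μ _ => inf_le_right)
    have := Submodule.finrank_sup_add_finrank_inf_eq (W ⊓ Module.End.eigenspace (ρ x) a)
      (⨆ μ ∈ T, W ⊓ Module.End.eigenspace (ρ x) μ)
    rw [hd.eq_bot, finrank_bot, add_zero] at this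
    exact this.symm

/-- Joint eigenvectors for distinct pairs of values bound the dimension. -/
theorem card_pairs_le (B : Finset (k × k)) (y z : G) (W : Submodule k V)
    (h : ∀ c ∈ B, ∃ v ∈ W, v ≠ 0 ∧ ρ y v = c.1 • v ∧ ρ z v = c.2 • v) : B.card ≤ finrank k W := by
  classical
  rw [Finset.card_eq_sum_card_fiberwise (f := Prod.fst) (t := B.image Prod.fst)
    (fun c hc => Finset.mem_image_of_mem _ hc)]
  refine le_trans (Finset.sum_le_sum fun μ _ => ?_) (sum_inf_eigen_le (ρ := ρ) (B.image Prod.fst) y W)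
  refine card_le_of_eigen ρ _ z Prod.snd (fun c hc c' hc' e => ?_) _ fun c hc => ?_
  · simp only [Finset.coe_filter, Set.mem_setOf_eq] at hc hc'
    exact Prod.ext (hc.2.trans hc'.2.symm) e
  · simp only [Finset.mem_filter] at hc
    obtain ⟨v, hv, hv0, h1, h2⟩ := h c hc.1
    exact ⟨v, ⟨hv, Module.End.mem_eigenspace_iff.2 (hc.2 ▸ h1)⟩, hv0, h2⟩

include S

/-- Two proper eigenspaces of a three-cycle and their dimensions. -/
theorem three_eigen (ι : Fin 3 ↪ Fin r) {a : k} (ha3 : a ^ 3 = 1) (ha : a ≠ 1) :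
    finrank k (Module.End.eigenspace (ρ (L φ ι)) a) = finrank k (Module.End.eigenspace (ρ (L φ ι)) (a ^ 2)) ∧
    finrank k (Module.End.eigenspace (ρ (L φ ι)) a) + finrank k (Module.End.eigenspace (ρ (L φ ι)) (a ^ 2)) ≤
      finrank k (R ρ (L φ ι)) := by
  classical
  have h3 : Std 3 := Or.inl rfl
  obtain ⟨g', hg'⟩ := exists_inverter h3 (show 3 + 2 ≤ r by have := S.nine; omega) ι
  obtain ⟨g, rfl⟩ := S.surj g'
  have hc : g * L φ ι * g⁻¹ = L φ ι ^ 2 := L_conj_eq_pow S h3 g ι 2 (hg'.trans (eq_inv_of_mul_eq_one_left (by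
    rw [← pow_succ, cyc_pow cycData_three])).symm)
  have h1 := eigen_dim_le (ρ := ρ) hc a
  have h2 := eigen_dim_le (ρ := ρ) hc (a ^ 2)
  rw [show (a ^ 2) ^ 2 = a * a ^ 3 by ring, ha3, mul_one] at h2
  have ha0 : a ≠ 0 := fun h => by simp [h] at ha3
  have hne : a ≠ a ^ 2 := fun e => ha (mul_left_cancel₀ ha0 (by rw [mul_one, ← pow_two, ← e]))
  have ha2 : a ^ 2 ≠ 1 := fun e => ha (by calc a = a * a ^ 2 := by rw [e, mul_one]
    _ = a ^ 3 := by ring
    _ = 1 := ha3)
  have hs := sum_eigenspace_le ρ ({a, a ^ 2} : Finset k) (L φ ι) id (fun _ _ _ _ h => h) (R ρ (L φ ι))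
    (fun μ hμ => by
      simp only [Finset.mem_insert, Finset.mem_singleton] at hμ
      rcases hμ with rfl | rfl
      exacts [eigen_le_R ha, eigen_le_R ha2])
  rw [Finset.sum_pair hne] at hs
  exact ⟨le_antisymm h1 h2, hs⟩

/-- The invariant line argument and the seven-cycle: no representation of dimension below ten on eleven points
in which a three-cycle moves eight dimensions. -/
theorem eleven (hr : r = 11) (h3k : (3 : k) ≠ 0) (h7k : (7 : k) ≠ 0) (hn : finrank k V ≤ 9)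
    (h8 : ∀ ι : Fin 3 ↪ Fin r, 8 ≤ finrank k (R ρ (L φ ι))) : False := by
  classical
  have h3 : Std 3 := Or.inl rfl
  have h7 : Std 7 := Or.inr (Or.inr rfl)
  set p : (Fin 3 ↪ Fin r) → Submodule k V := fun ι => LinearMap.ker (ρ (L φ ι) - 1) with hp
  have hmem : ∀ ι (v : V), v ∈ p ι ↔ ρ (L φ ι) v = v := fun ι v => by simp [hp, sub_eq_zero]
  have hp1 : ∀ ι, finrank k (p ι) ≤ 1 := fun ι => by
    have := LinearMap.finrank_range_add_finrank_ker (ρ (L φ ι) - 1)
    have h8' := h8 ι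
    rw [R] at h8'
    show finrank k (LinearMap.ker (ρ (L φ ι) - 1)) ≤ 1
    omega
  have hdis : ∀ ι κ : Fin 3 ↪ Fin r, (∀ i j, ι i ≠ κ j) → p ι ≤ p κ := by
    intro ι κ hd v hv
    by_cases hv0 : v = 0
    · simp [hv0]
    have hline : ∀ w ∈ p ι, ∃ c : k, c • v = w := fun w hw => by
      have h1 : finrank k (p ι) = 1 := le_antisymm (hp1 ι) (Submodule.one_le_finrank_iff.2 fun e => hv0 (by
        rwa [e, Submodule.mem_bot] at hv))
      obtain ⟨c, hc⟩ := (finrank_eq_one_iff_of_nonzero' (⟨v, hv⟩ : p ι) (fun e => hv0 (congrArg Subtype.val e))).1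
        h1 ⟨w, hw⟩
      exact ⟨c, congrArg Subtype.val hc⟩
    have hpres : ∀ g : G, g * L φ ι * g⁻¹ = L φ ι → ρ g v ∈ p ι := fun g hg => by
      rw [hmem, rho_comm ρ (mul_inv_eq_iff_eq_mul.1 hg).symm, (hmem ι v).1 hv]
    obtain ⟨c, hc⟩ := hline _ (hpres (L φ κ) (mul_inv_eq_iff_eq_mul.2 (L_commute S h3 h3 hd).symm.eq))
    -- an element inverting `κ` and fixing `ι`
    obtain ⟨η, hη1, hη2⟩ := exists_compl ι
    have hκ : ∀ j, κ j ∈ Set.range η := fun j => hη2 _ fun ⟨i, hi⟩ => hd i j hi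
    choose f hf using hκ
    let κ' : Fin 3 ↪ Fin (r - 3) := ⟨f, fun a b e => κ.injective (by rw [← hf a, ← hf b, e])⟩
    have hκ' : κ'.trans η = κ := by ext j; exact congrArg Fin.val (hf j)
    obtain ⟨a, ha⟩ := exists_inverter h3 (show 3 + 2 ≤ r - 3 by omega) κ'
    obtain ⟨g, hg⟩ := S.surj (emb η a)
    have hgι : g * L φ ι * g⁻¹ = L φ ι := by
      rw [L_conj S h3, show ι.trans (φ g : Perm (Fin r)).toEmbedding = ι from by
        ext i; simp [hg, emb_apply_notMem η a (ι i) fun ⟨j, hj⟩ => hη1 j ⟨i, hj.symm⟩]]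
    have hgκ : g * L φ κ * g⁻¹ = L φ κ ^ 2 := L_conj_eq_pow S h3 g κ 2 (by
      rw [hg, ← hκ', ← cyc_emb, ← map_inv, ← map_mul, ← map_mul, ← map_pow, ha]
      congr 1
      exact (eq_inv_of_mul_eq_one_left (by rw [← pow_succ, cyc_pow cycData_three])).symm)
    have hgι' : g⁻¹ * L φ ι * g⁻¹⁻¹ = L φ ι := by
      nth_rewrite 1 [← hgι]
      group
    obtain ⟨d, hd'⟩ := hline _ (hpres g⁻¹ hgι')
    have hd0 : d ≠ 0 := fun h => hv0 (rho_injective (ρ := ρ) g⁻¹ (by rw [← hd', h, zero_smul, map_zero]))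
    have h2 := eigen_conj (ρ := ρ) hgκ hc.symm
    rw [← hd', map_smul, ← hc, smul_smul, smul_smul, mul_comm] at h2
    have hc2 : c = c ^ 2 := mul_right_cancel₀ hd0 (smul_left_injective k hv0 h2)
    have hc0 : c ≠ 0 := fun h => hv0 (rho_injective (ρ := ρ) (L φ κ) (by rw [← hc, h, zero_smul, map_zero]))
    have : c = 1 := (mul_left_cancel₀ hc0 (by rw [mul_one, ← pow_two, ← hc2])).symm
    rw [hmem, ← hc, this, one_smul]
  have hall : ∀ ι ι' : Fin 3 ↪ Fin r, p ι ≤ p ι' := by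
    intro ι ι'
    obtain ⟨κ, hκ⟩ := exists_avoid (s := 3) (Finset.univ.image ι ∪ Finset.univ.image ι') (by
      have := Finset.card_union_le (Finset.univ.image ι) (Finset.univ.image ι')
      have h1 : (Finset.univ.image ι).card ≤ 3 := Finset.card_image_le.trans (by simp)
      have h2 : (Finset.univ.image ι').card ≤ 3 := Finset.card_image_le.trans (by simp)
      omega)
    simp only [Finset.mem_union, Finset.mem_image, Finset.mem_univ, true_and, not_or, not_exists] at hκ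
    exact (hdis ι κ fun i j => (hκ j).1 i).trans (hdis κ ι' fun i j => Ne.symm ((hκ i).2 j))
  set ι₀ : Fin 3 ↪ Fin r := Fin.castLEEmb (show 3 ≤ r by omega)
  have hbot : p ι₀ = ⊥ := by
    refine (S.irr _ fun g w hw => ?_).resolve_right fun e => ρ_L_ne_one S h3 ι₀ ?_
    · refine hall (ι₀.trans (φ g : Perm (Fin r)).toEmbedding) ι₀ ?_
      rw [hmem, ← L_conj S h3, ← Module.End.mul_apply, ← map_mul, inv_mul_cancel_right, map_mul,
        Module.End.mul_apply, (hmem ι₀ w).1 hw]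
    · exact LinearMap.range_eq_bot.2 (LinearMap.ker_eq_top.1 e)
  have hfull : ∀ ι, finrank k (R ρ (L φ ι)) = finrank k V := fun ι => by
    have := LinearMap.finrank_range_add_finrank_ker (ρ (L φ ι) - 1)
    have h0 : p ι = ⊥ := le_bot_iff.1 (hbot ▸ hall ι ι₀)
    simp only [hp] at h0
    rw [h0, finrank_bot] at this
    rw [R]; omega
  -- the dimension is eight
  obtain ⟨a, v, hv0, hv, ha⟩ := exists_eigen_ne_one ρ (L_pow S h3 ι₀) (by exact_mod_cast h3k) (ρ_L_ne_one S h3 ι₀)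
  have ha3 := root_of_eigen ρ (L_pow S h3 ι₀) hv0 hv
  obtain ⟨he1, he2⟩ := three_eigen S ι₀ ha3 ha
  have heven : finrank k V = 2 * finrank k (Module.End.eigenspace (ρ (L φ ι₀)) a) := by
    have hle : LinearMap.range (ρ (L φ ι₀) - a ^ 2 • 1) ≤ Module.End.eigenspace (ρ (L φ ι₀)) a := by
      rintro _ ⟨u, rfl⟩
      rw [Module.End.mem_eigenspace_iff]
      -- the element is fixed-point-free of order three
      have hzero : ρ (L φ ι₀) (ρ (L φ ι₀) u) + ρ (L φ ι₀) u + u = 0 := by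
        have h0 : ρ (L φ ι₀) (ρ (L φ ι₀) u) + ρ (L φ ι₀) u + u ∈ p ι₀ := by
          rw [hmem]
          have h3' : ρ (L φ ι₀) (ρ (L φ ι₀) (ρ (L φ ι₀) u)) = u := by
            rw [← Module.End.mul_apply, ← map_mul, ← Module.End.mul_apply, ← map_mul,
              show L φ ι₀ * L φ ι₀ * L φ ι₀ = L φ ι₀ ^ 3 by rw [pow_succ, pow_two], L_pow S h3, map_one, Module.End.one_apply]
          rw [map_add, map_add, h3']
          abel
        rwa [hbot, Submodule.mem_bot] at h0
      have hsum : a ^ 2 + a + 1 = 0 := by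
        have : (a - 1) * (a ^ 2 + a + 1) = 0 := by linear_combination ha3
        exact (mul_eq_zero.1 this).resolve_left (sub_ne_zero.2 ha)
      simp only [LinearMap.sub_apply, LinearMap.smul_apply, Module.End.one_apply, map_sub, map_smul, smul_sub,
        smul_smul]
      rw [show a * a ^ 2 = 1 by rw [← ha3]; ring, one_smul,
        show ρ (L φ ι₀) (ρ (L φ ι₀) u) = -(ρ (L φ ι₀) u + u) from eq_neg_of_add_eq_zero_left (by rw [← add_assoc, hzero]),
        show a ^ 2 = -(a + 1) from eq_neg_of_add_eq_zero_left (by rw [← add_assoc, hsum])]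
      module
    have h1 := LinearMap.finrank_range_add_finrank_ker (ρ (L φ ι₀) - a ^ 2 • 1)
    have h2 := Submodule.finrank_mono hle
    have h4 : LinearMap.ker (ρ (L φ ι₀) - a ^ 2 • 1) = Module.End.eigenspace (ρ (L φ ι₀)) (a ^ 2) := by
      ext u; simp [Module.End.mem_eigenspace_iff, sub_eq_zero]
    rw [h4] at h1
    rw [hfull] at he2
    omega
  have hn8 : finrank k V = 8 := by
    have := h8 ι₀
    rw [hfull] at this
    omega
  -- a seven-cycle fixing four given points acts on six lines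
  have seven : ∀ (ι : Fin 3 ↪ Fin r) (g : alternatingGroup (Fin r)) (D : Finset (Fin r)), D.card ≤ 4 →
      (∀ i, ι i ∈ D) → (∀ x ∉ D, (g : Perm (Fin r)) x = x) →
      finrank k ↥(LinearMap.range (ρ (L φ ι) - ρ (L φ (ι.trans (g : Perm (Fin r)).toEmbedding)))) ≤ 2 := by
    intro ι g' D hD hιD hgD
    obtain ⟨g, rfl⟩ := S.surj g'
    obtain ⟨η, hη⟩ := exists_avoid (s := 7) D (by omega)
    have hfixη : ∀ (c : G), (∀ i, (φ c : Perm (Fin r)) (η i) = η i) → ∀ μ : k,
        ∀ w ∈ Module.End.eigenspace (ρ (L φ η)) μ, ρ c w ∈ Module.End.eigenspace (ρ (L φ η)) μ :=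
      fun c hc μ => eigen_stable S h7 η c hc μ
    obtain ⟨b, v, hv0, hv, hb⟩ := exists_eigen_ne_one ρ (L_pow S h7 η) (by exact_mod_cast h7k) (ρ_L_ne_one S h7 η)
    have hb7 := root_of_eigen ρ (L_pow S h7 η) hv0 hv
    have : Fact (Nat.Prime 7) := ⟨by norm_num⟩
    have hprim : IsPrimitiveRoot b 7 := (orderOf_eq_prime hb7 hb) ▸ IsPrimitiveRoot.orderOf b
    obtain ⟨π, hπ⟩ := rot_seven_triple
    obtain ⟨h', hh'⟩ := exists_conj_pow (show 7 + 2 ≤ r by omega) η π 3 hπ
    obtain ⟨h, rfl⟩ := S.surj h'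
    have hc := L_conj_eq_pow S h7 h η 3 hh'
    set d := fun i : ℕ => finrank k (Module.End.eigenspace (ρ (L φ η)) (b ^ i)) with hddef
    have hmono : ∀ i j : ℕ, 3 * i % 7 = j % 7 → d i ≤ d j := fun i j hij => by
      have := eigen_dim_le (ρ := ρ) hc (b ^ i)
      rwa [← pow_mul, mul_comm, pow_eq_pow_mod (3 * i) hb7, hij, ← pow_eq_pow_mod j hb7] at this
    have hd1 : 1 ≤ d 1 := Submodule.one_le_finrank_iff.2 fun e => hv0 (by
      have := Module.End.mem_eigenspace_iff.2 hv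
      rw [pow_one] at e
      rwa [e, Submodule.mem_bot] at this)
    have hlt : ∀ i ∈ ({1, 2, 3, 4, 5, 6} : Finset ℕ), i < 7 ∧ i ≠ 0 := by decide
    have hinj : Set.InjOn (fun i => b ^ i) ({1, 2, 3, 4, 5, 6} : Finset ℕ) :=
      fun i hi j hj hij => hprim.pow_inj (hlt i hi).1 (hlt j hj).1 hij
    have hsum := sum_eigenspace_le ρ ({1, 2, 3, 4, 5, 6} : Finset ℕ) (L φ η) (fun i => b ^ i) hinj
      (⊤ : Submodule k V) (fun _ _ => le_top)
    rw [Finset.sum_insert (by decide), Finset.sum_insert (by decide), Finset.sum_insert (by decide),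
      Finset.sum_insert (by decide), Finset.sum_insert (by decide), Finset.sum_singleton, finrank_top] at hsum
    have m1 := hmono 1 3 (by decide)
    have m2 := hmono 3 2 (by decide)
    have m3 := hmono 2 6 (by decide)
    have m4 := hmono 6 4 (by decide)
    have m5 := hmono 4 5 (by decide)
    have m6 := hmono 5 1 (by decide)
    have hd : ∀ i ∈ ({1, 2, 3, 4, 5, 6} : Finset ℕ), d i = 1 := by
      intro i hi
      simp only [Finset.mem_insert, Finset.mem_singleton] at hi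
      simp only [hddef] at m1 m2 m3 m4 m5 m6 hd1 ⊢
      rcases hi with rfl | rfl | rfl | rfl | rfl | rfl <;> omega
    -- both elements act alike on the lines
    have hfixι : ∀ i, (φ (L φ ι) : Perm (Fin r)) (η i) = η i := fun i => by
      rw [φ_L S h3, cyc, emb_apply_notMem ι _ _ fun ⟨j, hj⟩ => hη i (hj ▸ hιD j)]
    have hfixg : ∀ i, (φ g : Perm (Fin r)) (η i) = η i := fun i => hgD _ (hη i)
    set K := LinearMap.ker (ρ (L φ ι) - ρ (L φ (ι.trans (φ g : Perm (Fin r)).toEmbedding))) with hK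
    have hKle : ∀ i ∈ ({1, 2, 3, 4, 5, 6} : Finset ℕ), Module.End.eigenspace (ρ (L φ η)) (b ^ i) ≤ K := by
      intro i hi w hw
      by_cases hw0 : w = 0
      · simp [hw0]
      have hline : ∀ c : G, (∀ j, (φ c : Perm (Fin r)) (η j) = η j) → ∃ l : k, l • w = ρ c w := fun c hc => by
        obtain ⟨l, hl⟩ := (finrank_eq_one_iff_of_nonzero' (⟨w, hw⟩ : Module.End.eigenspace (ρ (L φ η)) (b ^ i))
          (fun e => hw0 (congrArg Subtype.val e))).1 (hd i hi) ⟨_, hfixη c hc _ w hw⟩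
        exact ⟨l, congrArg Subtype.val hl⟩
      obtain ⟨l, hl⟩ := hline _ hfixι
      obtain ⟨l', hl'⟩ := hline g⁻¹ (fun j => by
        rw [map_inv, Subgroup.coe_inv, Perm.inv_eq_iff_eq, hfixg])
      rw [LinearMap.mem_ker, LinearMap.sub_apply, ← L_conj S h3, map_mul, map_mul, Module.End.mul_apply,
        Module.End.mul_apply, ← hl', map_smul, ← hl, smul_comm, map_smul, hl', ← Module.End.mul_apply,
        ← map_mul, mul_inv_cancel, map_one, Module.End.one_apply, sub_self]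
    have h6 := sum_eigenspace_le ρ ({1, 2, 3, 4, 5, 6} : Finset ℕ) (L φ η) (fun i => b ^ i) hinj K hKle
    rw [Finset.sum_congr rfl hd] at h6
    have := LinearMap.finrank_range_add_finrank_ker
      (ρ (L φ ι) - ρ (L φ (ι.trans (φ g : Perm (Fin r)).toEmbedding)))
    simp at h6
    rw [← hK] at this
    omega
  -- the chain in five points
  let pt : Fin 5 → Fin r := fun i => ⟨i.val, by omega⟩
  have hpt : Function.Injective pt := fun i j e => Fin.ext (by simpa [pt] using congrArg Fin.val e)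
  let κ₅ : Fin 5 ↪ Fin r := ⟨pt, hpt⟩
  let X : (Fin 3 ↪ Fin 5) → Module.End k V := fun q => ρ (L φ (q.trans κ₅))
  have hX : ∀ (q q' : Fin 3 ↪ Fin 5) (g₅ : alternatingGroup (Fin 5)) (D : Finset (Fin 5)), D.card ≤ 4 →
      (∀ i, q i ∈ D) → (∀ x ∉ D, (g₅ : Perm (Fin 5)) x = x) → (∀ i, (g₅ : Perm (Fin 5)) (q i) = q' i) →
      finrank k ↥(LinearMap.range (X q - X q')) ≤ 2 := by
    intro q q' g₅ D hD hq hg hgq
    have h1 := seven (q.trans κ₅) (emb κ₅ g₅) (D.image κ₅) (Finset.card_image_le.trans hD)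
      (fun i => Finset.mem_image_of_mem _ (hq i)) (fun x hx => by
        by_cases hr : x ∈ Set.range κ₅
        · obtain ⟨j, rfl⟩ := hr
          rw [emb_apply, hg j fun hj => hx (Finset.mem_image_of_mem _ hj)]
        · exact emb_apply_notMem κ₅ _ x hr)
    rwa [show (q.trans κ₅).trans (emb κ₅ g₅ : Perm (Fin r)).toEmbedding = q'.trans κ₅ from by
      ext i; simp [emb_apply, hgq]] at h1
  let qc : Fin 3 ↪ Fin 5 := ⟨![0, 1, 2], by decide⟩
  let qd : Fin 3 ↪ Fin 5 := ⟨![1, 0, 3], by decide⟩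
  let qe : Fin 3 ↪ Fin 5 := ⟨![1, 0, 4], by decide⟩
  let qd' : Fin 3 ↪ Fin 5 := ⟨![0, 1, 3], by decide⟩
  have e1 : finrank k ↥(LinearMap.range (X qc - X qd)) ≤ 2 := hX qc qd
    ⟨Equiv.swap 0 1 * Equiv.swap 2 3, Perm.mem_alternatingGroup.2 (by decide)⟩ {0, 1, 2, 3} (by decide) (by decide)
    (by decide) (by decide)
  have e2 : finrank k ↥(LinearMap.range (X qc - X qe)) ≤ 2 := hX qc qe
    ⟨Equiv.swap 0 1 * Equiv.swap 2 4, Perm.mem_alternatingGroup.2 (by decide)⟩ {0, 1, 2, 4} (by decide) (by decide)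
    (by decide) (by decide)
  have e3 : finrank k ↥(LinearMap.range (X qd' - X qe)) ≤ 2 := hX qd' qe
    ⟨Equiv.swap 0 1 * Equiv.swap 3 4, Perm.mem_alternatingGroup.2 (by decide)⟩ {0, 1, 3, 4} (by decide) (by decide)
    (by decide) (by decide)
  have hinv : L φ (qd'.trans κ₅) = L φ (qd.trans κ₅) ^ 2 := by
    refine (L_pow_eq S h3 _ _ 2 ?_).symm
    rw [← cyc_emb, ← cyc_emb, ← map_pow]
    congr 1
    rw [cyc_eq_iff qd ⟨Equiv.swap 1 3 * Equiv.swap 3 0, Perm.mem_alternatingGroup.2 (by decide)⟩ (by decide) (by decide),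
      cyc_eq_iff qd' ⟨Equiv.swap 0 3 * Equiv.swap 3 1, Perm.mem_alternatingGroup.2 (by decide)⟩ (by decide) (by decide)]
    decide
  have hsub : LinearMap.range (X qd - X qd') ≤ LinearMap.range (X qc - X qd) ⊔ LinearMap.range (X qc - X qe) ⊔
      LinearMap.range (X qd' - X qe) := by
    rintro _ ⟨w, rfl⟩
    rw [show (X qd - X qd') w = -((X qc - X qd) w) + (X qc - X qe) w + -((X qd' - X qe) w) by
      simp only [LinearMap.sub_apply]; abel]
    exact Submodule.add_mem _ (Submodule.add_mem _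
      (Submodule.mem_sup_left (Submodule.mem_sup_left (Submodule.neg_mem _ ⟨w, rfl⟩)))
      (Submodule.mem_sup_left (Submodule.mem_sup_right ⟨w, rfl⟩))) (Submodule.mem_sup_right (Submodule.neg_mem _ ⟨w, rfl⟩))
  have hinj : LinearMap.ker (X qd - X qd') = ⊥ := by
    refine le_bot_iff.1 fun w hw => ?_
    rw [LinearMap.mem_ker, LinearMap.sub_apply, sub_eq_zero] at hw
    simp only [X, hinv, pow_two, map_mul, Module.End.mul_apply] at hw
    have h0 := le_bot_iff.1 (hbot ▸ hall (qd.trans κ₅) ι₀)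
    have : w ∈ p (qd.trans κ₅) := by
      rw [hmem]
      exact (rho_injective (ρ := ρ) (L φ (qd.trans κ₅)) hw).symm
    rwa [h0] at this
  have h1 := LinearMap.finrank_range_add_finrank_ker (X qd - X qd')
  rw [hinj, finrank_bot] at h1
  have h2 := Submodule.finrank_mono hsub
  have h4 := Submodule.finrank_add_le_finrank_add_finrank (LinearMap.range (X qc - X qd) ⊔ LinearMap.range (X qc - X qe))
    (LinearMap.range (X qd' - X qe))
  have h5 := Submodule.finrank_add_le_finrank_add_finrank (LinearMap.range (X qc - X qd)) (LinearMap.range (X qc - X qe))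
  omega

/-- The characteristic is not three, and the five-cycle case does not apply. -/
theorem bound_three [Finite G] (IH : Below.{u} (finrank k V + Nat.card G)) (h3k : (3 : k) ≠ 0)
    (hcase : (5 : k) = 0 ∨ r = 9) : Bd k r (finrank k V) := by
  classical
  have h3 : Std 3 := Or.inl rfl
  have hr := S.nine
  by_cases H : ∀ ι κ : Fin 3 ↪ Fin r, (∀ i j, ι i ≠ κ j) →
      ∀ v, ρ (L φ κ) (ρ (L φ ι) v - v) = ρ (L φ ι) v - v
  · exact bound_of_disjoint S H (two_le_R S (Or.inl h3k))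
  push Not at H
  obtain ⟨ι, κ, hd, v, hv⟩ := H
  obtain ⟨a, b, x, hx0, hxa, hxb, ha1, hb1⟩ := exists_joint ρ (L_pow S h3 ι) (L_pow S h3 κ)
    (by exact_mod_cast h3k) (by exact_mod_cast h3k) (L_commute S h3 h3 hd) ⟨v, hv⟩
  have ha3 := root_of_eigen ρ (L_pow S h3 ι) hx0 hxa
  have hb3 := root_of_eigen ρ (L_pow S h3 κ) hx0 hxb
  obtain ⟨he1, he2⟩ := three_eigen S ι ha3 ha1
  have hRn := Submodule.finrank_le (R ρ (L φ ι))
  by_cases h12 : 12 ≤ r
  · obtain ⟨η, hη1, hη2⟩ := exists_compl ι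
    have hκ : ∀ j, κ j ∈ Set.range η := fun j => hη2 _ fun ⟨i, hi⟩ => hd i j hi
    choose f hf using hκ
    let κ' : Fin 3 ↪ Fin (r - 3) := ⟨f, fun a b e => κ.injective (by rw [← hf a, ← hf b, e])⟩
    have hκ' : κ'.trans η = κ := by ext j; exact congrArg Fin.val (hf j)
    have hstab : ∀ g, φ g ∈ (emb η).range → ∀ w ∈ Module.End.eigenspace (ρ (L φ ι)) a,
        ρ g w ∈ Module.End.eigenspace (ρ (L φ ι)) a := fun g ⟨c, hc⟩ =>
      eigen_stable S h3 ι g (fun i => by
        rw [← hc, emb_apply_notMem η c (ι i) fun ⟨j, hj⟩ => hη1 j ⟨i, hj.symm⟩]) a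
    have hb' := sub_bound S IH (show 9 ≤ r - 3 by omega) (show r - 3 < r by omega) h3
      (show 3 + 2 ≤ r - 3 by omega) η κ' _ hstab ⟨x, Module.End.mem_eigenspace_iff.2 hxa, by
        rw [hκ', hxb]
        intro e
        have h0 : (b - 1) • x = 0 := by rw [sub_smul, one_smul, e, sub_self]
        exact hx0 ((smul_eq_zero.1 h0).resolve_left (sub_ne_zero.2 hb1))⟩
    exact Bd_of_le (by have := hb'.1; omega)
  -- three disjoint cycles
  obtain ⟨ν, hν⟩ := exists_avoid (s := 3) (Finset.univ.image ι ∪ Finset.univ.image κ) (by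
    have := Finset.card_union_le (Finset.univ.image ι) (Finset.univ.image κ)
    have h1 : (Finset.univ.image ι).card ≤ 3 := Finset.card_image_le.trans (by simp)
    have h2 : (Finset.univ.image κ).card ≤ 3 := Finset.card_image_le.trans (by simp)
    omega)
  simp only [Finset.mem_union, Finset.mem_image, Finset.mem_univ, true_and, not_or, not_exists] at hν
  have hιν : ∀ i j, ι i ≠ ν j := fun i j => (hν j).1 i
  have hκν : ∀ i j, κ i ≠ ν j := fun i j => (hν j).2 i
  obtain ⟨c, hc3, y, hy0, hya, hyb, hyc⟩ : ∃ c : k, c ^ 3 = 1 ∧ ∃ y : V, y ≠ 0 ∧ ρ (L φ ι) y = a • y ∧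
      ρ (L φ κ) y = b • y ∧ ρ (L φ ν) y = c • y := by
    set W := Module.End.eigenspace (ρ (L φ ι)) a ⊓ Module.End.eigenspace (ρ (L φ κ)) b with hW
    have hW0 : W ≠ ⊥ := fun e => hx0 (by
      have : x ∈ W := ⟨Module.End.mem_eigenspace_iff.2 hxa, Module.End.mem_eigenspace_iff.2 hxb⟩
      rwa [e, Submodule.mem_bot] at this)
    have hWν : ∀ w ∈ W, ρ (L φ ν) w ∈ W := by
      rintro w ⟨h1, h2⟩
      refine ⟨Module.End.mem_eigenspace_iff.2 ?_, Module.End.mem_eigenspace_iff.2 ?_⟩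
      · rw [rho_comm ρ (L_commute S h3 h3 hιν), Module.End.mem_eigenspace_iff.1 h1, map_smul]
      · rw [rho_comm ρ (L_commute S h3 h3 hκν), Module.End.mem_eigenspace_iff.1 h2, map_smul]
    obtain ⟨c, y, hyW, hy0, hyc⟩ := exists_eigen ρ hW0 hWν
    exact ⟨c, root_of_eigen ρ (L_pow S h3 ν) hy0 hyc, y, hy0, Module.End.mem_eigenspace_iff.1 hyW.1,
      Module.End.mem_eigenspace_iff.1 hyW.2, hyc⟩
  have : Fact (Nat.Prime 3) := ⟨by norm_num⟩
  have hprim : IsPrimitiveRoot a 3 := (orderOf_eq_prime ha3 ha1) ▸ IsPrimitiveRoot.orderOf a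
  obtain ⟨e, he, rfl⟩ := hprim.eq_pow_of_pow_eq_one hb3
  obtain ⟨f, hf, rfl⟩ := hprim.eq_pow_of_pow_eq_one hc3
  -- nine points
  obtain ⟨ι9, h91, h92, h93⟩ : ∃ ι9 : Fin (3 + 3 + 3) ↪ Fin r,
      (∀ j, ι9 (Fin.castAdd 3 (Fin.castAdd 3 j)) = ι j) ∧ (∀ j, ι9 (Fin.castAdd 3 (Fin.natAdd 3 j)) = κ j) ∧
      ∀ j, ι9 (Fin.natAdd (3 + 3) j) = ν j := by
    refine ⟨⟨Fin.append (Fin.append ι κ) ν, ?_⟩, fun j => (Fin.append_left (Fin.append ι κ) ν _).trans (Fin.append_left ι κ j),
      fun j => (Fin.append_left (Fin.append ι κ) ν _).trans (Fin.append_right ι κ j),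
      fun j => Fin.append_right (Fin.append ι κ) ν j⟩
    intro i j e
    induction i using Fin.addCases with
    | left i =>
      induction j using Fin.addCases with
      | left j =>
        simp only [Fin.append_left] at e
        induction i using Fin.addCases with
        | left i =>
          induction j using Fin.addCases with
          | left j => simp only [Fin.append_left] at e; rw [ι.injective e]
          | right j => simp only [Fin.append_left, Fin.append_right] at e; exact absurd e (hd i j)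
        | right i =>
          induction j using Fin.addCases with
          | left j => simp only [Fin.append_left, Fin.append_right] at e; exact absurd e.symm (hd j i)
          | right j => simp only [Fin.append_right] at e; rw [κ.injective e]
      | right j =>
        simp only [Fin.append_left, Fin.append_right] at e
        induction i using Fin.addCases with
        | left i => simp only [Fin.append_left] at e; exact absurd e (hιν i j)
        | right i => simp only [Fin.append_right] at e; exact absurd e (hκν i j)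
    | right i =>
      induction j using Fin.addCases with
      | left j =>
        simp only [Fin.append_left, Fin.append_right] at e
        induction j using Fin.addCases with
        | left j => simp only [Fin.append_left] at e; exact absurd e.symm (hιν j i)
        | right j => simp only [Fin.append_right] at e; exact absurd e.symm (hκν j i)
      | right j => simp only [Fin.append_right] at e; rw [ν.injective e]
  let i1 : Fin 3 ↪ Fin 9 := ⟨![0, 1, 2], by decide⟩
  let i2 : Fin 3 ↪ Fin 9 := ⟨![3, 4, 5], by decide⟩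
  let i3 : Fin 3 ↪ Fin 9 := ⟨![6, 7, 8], by decide⟩
  have hi1 : (i1.trans ι9 : Fin 3 ↪ Fin r) = ι := by
    ext j
    exact congrArg Fin.val ((congrArg ι9 ((by decide : ∀ j, i1 j = Fin.castAdd 3 (Fin.castAdd 3 j)) j)).trans (h91 j))
  have hi2 : (i2.trans ι9 : Fin 3 ↪ Fin r) = κ := by
    ext j
    exact congrArg Fin.val ((congrArg ι9 ((by decide : ∀ j, i2 j = Fin.castAdd 3 (Fin.natAdd 3 j)) j)).trans (h92 j))
  have hi3 : (i3.trans ι9 : Fin 3 ↪ Fin r) = ν := by
    ext j
    exact congrArg Fin.val ((congrArg ι9 ((by decide : ∀ j, i3 j = Fin.natAdd (3 + 3) j) j)).trans (h93 j))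
  -- moving cycles
  have hmv : ∀ (g : alternatingGroup (Fin 9)) (q q' : Fin 3 ↪ Fin 9) (c : ℕ),
      g * cyc q * g⁻¹ = cyc q' ^ c → ∀ h : G, φ h = emb ι9 g →
      h * L φ (q.trans ι9) * h⁻¹ = L φ (q'.trans ι9) ^ c := by
    intro g q q' c hgq h hh
    rw [L_conj S h3]
    refine (L_pow_eq S h3 _ _ c ?_).symm
    rw [← cyc_conj, ← cyc_emb, ← cyc_emb, hh, ← map_inv, ← map_mul, ← map_mul, hgq, map_pow]
  have hc1 : cyc i1 = ⟨Equiv.swap 0 2 * Equiv.swap 2 1, Perm.mem_alternatingGroup.2 (by decide)⟩ :=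
    cyc_eq_iff _ _ (by decide) (by decide)
  have hc2 : cyc i2 = ⟨Equiv.swap 3 5 * Equiv.swap 5 4, Perm.mem_alternatingGroup.2 (by decide)⟩ :=
    cyc_eq_iff _ _ (by decide) (by decide)
  have hc3' : cyc i3 = ⟨Equiv.swap 6 8 * Equiv.swap 8 7, Perm.mem_alternatingGroup.2 (by decide)⟩ :=
    cyc_eq_iff _ _ (by decide) (by decide)
  let P : Fin 3 → Fin 3 → Fin 3 → Prop := fun i j l => ∃ w : V, w ≠ 0 ∧ ρ (L φ ι) w = a ^ (i : ℕ) • w ∧
    ρ (L φ κ) w = a ^ (j : ℕ) • w ∧ ρ (L φ ν) w = a ^ (l : ℕ) • w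
  have hsq : ∀ i : Fin 3, (a ^ (i : ℕ)) ^ 2 = a ^ ((-i : Fin 3) : ℕ) := fun i => by
    rw [← pow_mul, pow_eq_pow_mod _ ha3]
    exact congrArg (a ^ ·) ((by decide : ∀ i : Fin 3, (i : ℕ) * 2 % 3 = ((-i : Fin 3) : ℕ)) i)
  obtain ⟨gR, hgR⟩ := S.surj (emb ι9 ⟨Equiv.mk (![3, 4, 5, 6, 7, 8, 0, 1, 2]) (![6, 7, 8, 0, 1, 2, 3, 4, 5])
    (by decide) (by decide), Perm.mem_alternatingGroup.2 (by decide)⟩)
  obtain ⟨gF, hgF⟩ := S.surj (emb ι9 ⟨Equiv.swap 1 2 * Equiv.swap 4 5, Perm.mem_alternatingGroup.2 (by decide)⟩)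
  obtain ⟨gX, hgX⟩ := S.surj (emb ι9 ⟨Equiv.swap 0 3 * Equiv.swap 1 4 * Equiv.swap 2 5 * Equiv.swap 7 8,
    Perm.mem_alternatingGroup.2 (by decide)⟩)
  have nz : ∀ (g : G) {w : V}, w ≠ 0 → ρ g⁻¹ w ≠ 0 := fun g w hw e =>
    hw (rho_injective (ρ := ρ) g⁻¹ (by rw [e, map_zero]))
  have hR : ∀ i j l, P i j l → P j l i := by
    rintro i j l ⟨w, hw, h1, h2, h4⟩
    have r1 := hmv _ i1 i2 1 (by rw [hc1, hc2, pow_one]; decide) gR hgR
    have r2 := hmv _ i2 i3 1 (by rw [hc2, hc3', pow_one]; decide) gR hgR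
    have r3 := hmv _ i3 i1 1 (by rw [hc3', hc1, pow_one]; decide) gR hgR
    rw [hi1, hi2] at r1; rw [hi2, hi3] at r2; rw [hi3, hi1] at r3
    exact ⟨_, nz gR hw, by simpa using eigen_conj (ρ := ρ) r1 h2, by simpa using eigen_conj (ρ := ρ) r2 h4,
      by simpa using eigen_conj (ρ := ρ) r3 h1⟩
  have hF : ∀ i j l, P i j l → P (-i) (-j) l := by
    rintro i j l ⟨w, hw, h1, h2, h4⟩
    have r1 := hmv _ i1 i1 2 (by rw [hc1]; decide) gF hgF
    have r2 := hmv _ i2 i2 2 (by rw [hc2]; decide) gF hgF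
    have r3 := hmv _ i3 i3 1 (by rw [hc3', pow_one]; decide) gF hgF
    rw [hi1] at r1; rw [hi2] at r2; rw [hi3] at r3
    exact ⟨_, nz gF hw, by rw [← hsq]; exact eigen_conj (ρ := ρ) r1 h1,
      by rw [← hsq]; exact eigen_conj (ρ := ρ) r2 h2, by simpa using eigen_conj (ρ := ρ) r3 h4⟩
  have hX : ∀ i j l, P i j l → P j i (-l) := by
    rintro i j l ⟨w, hw, h1, h2, h4⟩
    have r1 := hmv _ i1 i2 1 (by rw [hc1, hc2, pow_one]; decide) gX hgX
    have r2 := hmv _ i2 i1 1 (by rw [hc1, hc2, pow_one]; decide) gX hgX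
    have r3 := hmv _ i3 i3 2 (by rw [hc3']; decide) gX hgX
    rw [hi1, hi2] at r1; rw [hi2, hi1] at r2; rw [hi3] at r3
    exact ⟨_, nz gX hw, by simpa using eigen_conj (ρ := ρ) r1 h2, by simpa using eigen_conj (ρ := ρ) r2 h1,
      by rw [← hsq]; exact eigen_conj (ρ := ρ) r3 h4⟩
  have hG : ∀ i j l, P i j l → P i (-j) (-l) := fun i j l h => hR _ _ _ (hR _ _ _ (hF _ _ _ (hR _ _ _ h)))
  have he' : (⟨e, he⟩ : Fin 3) ≠ 0 := fun h => hb1 (by rw [show e = 0 from congrArg Fin.val h, pow_zero])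
  have hP : P 1 ⟨e, he⟩ ⟨f, hf⟩ := ⟨y, hy0, by simpa using hya, hyb, hyc⟩
  -- counting pairs in an eigenspace
  have hcount : ∀ (μ : Fin 3) (B : Finset (Fin 3 × Fin 3)), (∀ q ∈ B, P μ q.1 q.2) →
      B.card ≤ finrank k (Module.End.eigenspace (ρ (L φ ι)) (a ^ (μ : ℕ))) := by
    intro μ B hB
    have hinj : Function.Injective fun q : Fin 3 × Fin 3 => (a ^ (q.1 : ℕ), a ^ (q.2 : ℕ)) := fun q q' h => by
      simp only [Prod.mk.injEq] at h
      exact Prod.ext (Fin.ext (hprim.pow_inj q.1.2 q'.1.2 h.1)) (Fin.ext (hprim.pow_inj q.2.2 q'.2.2 h.2))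
    rw [← Finset.card_image_of_injective B hinj]
    refine card_pairs_le (ρ := ρ) _ (L φ κ) (L φ ν) _ fun c hc => ?_
    obtain ⟨q, hq, rfl⟩ := Finset.mem_image.1 hc
    obtain ⟨w, hw, h1, h2, h4⟩ := hB q hq
    exact ⟨w, Module.End.mem_eigenspace_iff.2 h1, hw, h2, h4⟩
  by_cases hf0 : (⟨f, hf⟩ : Fin 3) = 0
  · -- weights of support two
    rw [hf0] at hP
    have hall : ∀ p q : Fin 3, p ≠ 0 → q ≠ 0 → P p q 0 := by
      intro p q hp hq
      have hmem := triples_list _ he' p q hp hq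
      simp only [List.mem_cons, List.not_mem_nil, or_false, Prod.mk.injEq] at hmem
      have h1 := hG _ _ _ hP
      rw [neg_zero] at h1
      rcases hmem with ⟨rfl, rfl⟩ | ⟨rfl, rfl⟩ | ⟨rfl, rfl⟩ | ⟨rfl, rfl⟩
      · exact hP
      · exact hF _ _ _ hP
      · exact h1
      · have := hF _ _ _ h1
        rwa [neg_neg] at this
    have h0 := hcount 0 {(1, 1), (1, 2), (2, 1), (2, 2)} (fun q hq => by
      simp only [Finset.mem_insert, Finset.mem_singleton] at hq
      rcases hq with rfl | rfl | rfl | rfl <;> exact hR _ _ _ (hR _ _ _ (hall _ _ (by decide) (by decide))))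
    have hμ : ∀ μ : Fin 3, μ ≠ 0 → 4 ≤ finrank k (Module.End.eigenspace (ρ (L φ ι)) (a ^ (μ : ℕ))) := by
      intro μ hμ
      refine le_trans (by decide) (hcount μ {(1, 0), (2, 0), (0, 1), (0, 2)} fun q hq => ?_)
      simp only [Finset.mem_insert, Finset.mem_singleton] at hq
      rcases hq with rfl | rfl | rfl | rfl
      · exact hall _ _ hμ (by decide)
      · exact hall _ _ hμ (by decide)
      · exact hR _ _ _ (hall 1 μ (by decide) hμ)
      · exact hR _ _ _ (hall 2 μ (by decide) hμ)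
    have hne : ∀ i ∈ ({0, 1, 2} : Finset ℕ), i < 3 := by decide
    have hs := sum_eigenspace_le ρ ({0, 1, 2} : Finset ℕ) (L φ ι) (fun i => a ^ i)
      (fun i hi j hj hij => hprim.pow_inj (hne i hi) (hne j hj) hij) (⊤ : Submodule k V) (fun _ _ => le_top)
    rw [Finset.sum_insert (by decide), Finset.sum_insert (by decide), Finset.sum_singleton, finrank_top] at hs
    have h1 := hμ 1 (by decide)
    have h2 := hμ 2 (by decide)
    have hcard : ({(1, 1), (1, 2), (2, 1), (2, 2)} : Finset (Fin 3 × Fin 3)).card = 4 := by decide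
    rw [hcard] at h0
    simp only [Fin.val_zero, Fin.val_one, Fin.val_two] at h0 h1 h2
    exact Bd_of_le (by omega)
  -- weights of full support
  have hall : ∀ p q t : Fin 3, p ≠ 0 → q ≠ 0 → t ≠ 0 → P p q t := by
    intro p q t hp hq ht
    have hmem := triples_list_full _ _ he' hf0 p q t hp hq ht
    simp only [List.mem_cons, List.not_mem_nil, or_false, Prod.mk.injEq] at hmem
    have hx := hX _ _ _ hP
    have g1 := hF _ _ _ hP
    have g2 := hG _ _ _ hP
    have g3 := hF _ _ _ g2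
    rw [neg_neg] at g3
    have k1 := hF _ _ _ hx
    have k2 := hG _ _ _ hx
    rw [neg_neg] at k2
    have k3 := hF _ _ _ k2
    rw [neg_neg] at k3
    rcases hmem with ⟨rfl, rfl, rfl⟩ | ⟨rfl, rfl, rfl⟩ | ⟨rfl, rfl, rfl⟩ | ⟨rfl, rfl, rfl⟩ | ⟨rfl, rfl, rfl⟩ |
      ⟨rfl, rfl, rfl⟩ | ⟨rfl, rfl, rfl⟩ | ⟨rfl, rfl, rfl⟩
    exacts [hP, g1, g2, g3, hx, k1, k2, k3]
  have hμ : 4 ≤ finrank k (Module.End.eigenspace (ρ (L φ ι)) a) := by
    have := hcount 1 {(1, 1), (1, 2), (2, 1), (2, 2)} (fun q hq => by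
      simp only [Finset.mem_insert, Finset.mem_singleton] at hq
      rcases hq with rfl | rfl | rfl | rfl <;> exact hall _ _ _ (by decide) (by decide) (by decide))
    have hcard : ({(1, 1), (1, 2), (2, 1), (2, 2)} : Finset (Fin 3 × Fin 3)).card = 4 := by decide
    rw [hcard] at this
    rwa [show ((1 : Fin 3) : ℕ) = 1 from rfl, pow_one] at this
  by_cases h9 : r = 9
  · exact Bd_of_le (by omega)
  have h5 : (5 : k) = 0 := hcase.resolve_right h9
  by_cases h10 : r = 10
  · refine ⟨by omega, fun h => absurd ?_ h⟩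
    subst h10
    push_cast
    linear_combination (2 : k) * h5
  have h11 : r = 11 := by omega
  by_contra hb
  have h7k : (7 : k) ≠ 0 := fun h7 => one_ne_zero (α := k) (by linear_combination 3 * h5 - 2 * h7)
  refine eleven S h11 h3k h7k (by by_contra hn; exact hb (Bd_of_le (by omega))) fun ι' => ?_
  obtain ⟨g', hg'⟩ := exists_move (show 3 + 2 ≤ r by omega) ι ι'
  obtain ⟨g, rfl⟩ := S.surj g'
  rw [← hg', ← L_conj S h3, R_conj, ← LinearEquiv.finrank_eq
    (Submodule.equivMapOfInjective (ρ g) (rho_injective (ρ := ρ) g) (R ρ (L φ ι)))]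
  omega

end Cfsg.Agent.AltSection95
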