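import Cfsg.Agent.Lib.ChevBruhatInstance
import Cfsg.Agent.Lib.ChevalleyTorusCard
import Cfsg.Prelude.Def_ChevAutomorphisms

/-!
Fixed points of a field automorphism of a split Chevalley group with injective torus
parametrisation: the group over the fixed field.
-/

set_option autoImplicit false

namespace Cfsg.Agent.ChevFieldAut77

open Cfsg.Lie Cfsg.Agent.ChevalleyCert Cfsg.Agent.ChevBruhat

variable {D : ChevalleyDatum} {F : Type*} [Field F]

theorem coe_map {K : Type*} [Field K] (τ : K →+* F) (g : GL D.Idx K) :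
    ((Matrix.GeneralLinearGroup.map τ g : GL D.Idx F) : Matrix D.Idx D.Idx F) =
      (g : Matrix D.Idx D.Idx K).map τ := rfl

theorem map_x (C : Cert D) {K : Type*} [Field K] (τ : K →+* F) {r : ℕ} (hr : r < D.nroots) (t : K) :
    (D.x K r t).map τ = D.x F r (τ t) := by
  rw [ChevalleyCore.x_eq_xR C hr, ChevalleyCore.x_eq_xR C hr, ChevalleyExp.xR_map]

variable (C : Cert D) (S : Sys D F) (σ : F ≃+* F)

/-- the action of `σ` on matrices -/
abbrev psi : GL D.Idx F →* GL D.Idx F := Matrix.GeneralLinearGroup.map σ.toRingHom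

include C in
theorem psi_xg {r : ℕ} (hr : r < D.nroots) (t : F) : psi σ (S.xg r t) = S.xg r (σ t) := by
  apply Units.ext
  rw [coe_map, S.coe_xg, S.coe_xg]
  exact map_x C σ.toRingHom hr t

/-- root elements with parameter fixed by `σ` generate this subgroup -/
def fixGen : Subgroup (GL D.Idx F) :=
  Subgroup.closure {g | ∃ r t, r < D.nroots ∧ σ t = t ∧ g = S.xg r t}

theorem xg_mem_fixGen {r : ℕ} (hr : r < D.nroots) {t : F} (ht : σ t = t) :
    S.xg r t ∈ fixGen S σ :=
  Subgroup.subset_closure ⟨r, t, hr, ht, rfl⟩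

include C in
theorem psi_fixGen {g : GL D.Idx F} (hg : g ∈ fixGen S σ) : psi σ g = g := by
  induction hg using Subgroup.closure_induction with
  | mem x hx => obtain ⟨r, t, hr, ht, rfl⟩ := hx; rw [psi_xg C S σ hr, ht]
  | one => exact map_one _
  | mul x y _ _ hx hy => rw [map_mul, hx, hy]
  | inv x _ hx => rw [map_inv, hx]

theorem nn_mem_fixGen {r : ℕ} (hr : r < D.nroots) {t : F} (ht : σ t = t) :
    S.nn r t ∈ fixGen S σ :=
  mul_mem (mul_mem (xg_mem_fixGen S σ hr ht)
    (xg_mem_fixGen S σ (S.X.root_facts hr).1 (by rw [map_neg, map_inv₀, ht])))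
    (xg_mem_fixGen S σ hr ht)

theorem exists_rep (w : S.X.W) :
    ∃ g : ↥(D.monomialSubgroup F), (g : GL D.Idx F) ∈ fixGen S σ ∧ S.toW g = w := by
  induction w using S.X.w_induction with
  | one => exact ⟨1, one_mem _, map_one _⟩
  | step i w ih =>
    obtain ⟨g, hg, hw⟩ := ih
    exact ⟨S.sN i * g, mul_mem (nn_mem_fixGen S σ (S.X.simple_lt i.isLt) (map_one σ)) hg,
      by rw [map_mul, S.toW_sN, hw]⟩

include C in
theorem psi_mem_Uw {w : S.X.W} {u : GL D.Idx F} (hu : u ∈ S.Uw w) : psi σ u ∈ S.Uw w := by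
  induction hu using Subgroup.closure_induction with
  | mem x hx =>
    obtain ⟨r, t, hr, rfl⟩ := hx
    rw [psi_xg C S σ (S.X.mem_invSet.mp hr).1.1]
    exact Subgroup.subset_closure ⟨r, _, hr, rfl⟩
  | one => rw [map_one]; exact one_mem _
  | mul x y _ _ hx hy => rw [map_mul]; exact mul_mem hx hy
  | inv x _ hx => rw [map_inv]; exact inv_mem hx

theorem posUnipotent_eq_Uw : ∃ w0 : S.X.W, D.posUnipotent F = S.Uw w0 := by
  obtain ⟨w0, hw0⟩ := S.exists_w0
  refine ⟨w0, le_antisymm ((Subgroup.closure_le _).mpr fun g ⟨r, t, hr, hg⟩ =>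
    Subgroup.subset_closure ⟨r, t, S.X.mem_invSet.mpr ⟨hr, hw0 r hr⟩, S.eq_xg.mp hg⟩)
    (S.Uw_le_U w0)⟩

include C in
theorem fixed_Uw [Finite F] : ∀ (k : ℕ) (w : S.X.W), S.X.inv w = k → ∀ u ∈ S.Uw w,
    psi σ u = u → u ∈ fixGen S σ := by
  intro k
  induction k with
  | zero =>
    intro w hw u hu _
    have : S.Uw w = ⊥ := by
      rw [Sys.Uw, Subgroup.closure_eq_bot_iff]
      rintro g ⟨r, t, hr, -⟩
      have := Finset.card_eq_zero.mp hw
      exact absurd hr (by rw [show S.X.invSet w = ∅ from this]; simp)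
    rw [this, Subgroup.mem_bot] at hu
    rw [hu]; exact one_mem _
  | succ k ih =>
    intro w hw u hu hfix
    have h1 : w ≠ 1 := by
      rintro rfl
      rw [S.X.inv_eq_zero_iff.mpr rfl] at hw
      omega
    obtain ⟨i, hi⟩ := S.X.exists_descent h1
    obtain ⟨hinv, hpos, hmem, hsub⟩ := S.invSet_step i hi
    obtain ⟨w', hw'⟩ : ∃ w', w' = S.X.C.simple i * w := ⟨_, rfl⟩
    rw [← hw'] at hinv hpos hmem hsub
    set r := S.X.img w'⁻¹ (D.simple i) with hr_def
    have hsub' : S.Uw w' ≤ S.Uw w := Subgroup.closure_mono (by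
      rintro g ⟨r, t, hr, rfl⟩
      exact ⟨r, t, hsub hr, rfl⟩)
    obtain ⟨n', hn'⟩ := S.toW_surjective w'
    have hinj : ∀ a a', ∀ v ∈ S.Uw w', ∀ v' ∈ S.Uw w',
        S.xg r a * v = S.xg r a' * v' → a = a' ∧ v = v' := by
      intro a a' v hv v' hv' he
      have h2 : S.xg r (a - a') ∈ S.Uw w' := by
        have : S.xg r (a - a') = v' * v⁻¹ := by
          rw [eq_mul_inv_iff_mul_eq, sub_eq_add_neg, add_comm, S.xg_add, mul_assoc, he, ← mul_assoc,
            ← S.xg_add, neg_add_cancel, S.xg_zero, one_mul]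
        rw [this]; exact mul_mem hv' (inv_mem hv)
      have h3 := S.conj_Uw_mem_V n' (hn'.symm ▸ h2)
      obtain ⟨c, hc, hcp, -⟩ := S.acts_toW n' r hpos.1
      rw [hcp, hn', hr_def, S.X.img_img_inv] at h3
      have h4 : S.xg (D.simple i) (c * (a - a')) = 1 := by
        have := Subgroup.mem_inf.mpr
          ⟨Sys.U_le_B (S.xg_mem_U (S.X.simple_pos i.isLt) _), h3⟩
        rwa [S.B_inf_V, Subgroup.mem_bot] at this
      have h5 : a = a' :=
        sub_eq_zero.mp ((mul_eq_zero.mp (S.xg_eq_one (S.X.simple_lt i.isLt) h4)).resolve_left hc)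
      subst h5
      exact ⟨rfl, mul_left_cancel he⟩
    let f : F × ↥(S.Uw w') → ↥(S.Uw w) := fun p =>
      ⟨S.xg r p.1 * p.2, mul_mem (Subgroup.subset_closure ⟨r, p.1, hmem, rfl⟩) (hsub' p.2.2)⟩
    have hf : Function.Bijective f := by
      refine (Nat.bijective_iff_injective_and_card f).2 ⟨?_, ?_⟩
      · intro p p' h
        obtain ⟨h1, h2⟩ := hinj _ _ _ p.2.2 _ p'.2.2 (congrArg Subtype.val h)
        exact Prod.ext h1 (Subtype.ext h2)
      · rw [Nat.card_prod, S.card_Uw, S.card_Uw, ← hinv, pow_succ, mul_comm]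
    obtain ⟨⟨a, v, hv⟩, hav⟩ := hf.2 ⟨u, hu⟩
    have hu' : S.xg r a * v = u := congrArg Subtype.val hav
    have hfix' : S.xg r (σ a) * psi σ v = S.xg r a * v := by
      rw [← psi_xg C S σ hpos.1, ← map_mul, hu', hfix]
    obtain ⟨ha, hv'⟩ := hinj _ _ _ (psi_mem_Uw C S σ hv) _ hv hfix'
    rw [← hu']
    exact mul_mem (xg_mem_fixGen S σ hpos.1 ha) (ih w' (by omega) v hv hv')

theorem psi_torus (c : Fin D.rank → Fˣ) :
    psi σ (ChevalleyTorus.torus D c) =
      ChevalleyTorus.torus D (fun i => Units.map σ.toRingHom.toMonoidHom (c i)) := by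
  apply Units.ext
  rw [coe_map, ChevalleyTorus.coe_torus, ChevalleyTorus.coe_torus]
  unfold ChevalleyTorus.tmat
  rw [Matrix.diagonal_map (map_zero _)]
  congr 1
  funext q
  rcases q with a | s
  · simp
  · simp [ChevalleyTorus.tchar, Function.comp]

include C in
theorem torus_single_mem (i : Fin D.rank) (c : Fˣ) (hc : σ (c : F) = c) :
    ChevalleyTorus.torus D (Pi.mulSingle i c) ∈ fixGen S σ := by
  rw [← ChevalleyTorus.hg_simple C]
  have hh : ChevalleyCore.hg C (D.simple i.val) (c : F) =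
      S.nn (D.simple i.val) (c : F) * S.nn (D.simple i.val) (-1) := by
    apply Units.ext
    rw [ChevalleyCore.hg, Units.val_mul, Units.val_mul, ChevalleyCore.coe_ng, ChevalleyCore.coe_ng,
      S.coe_nn, S.coe_nn]
  rw [hh]
  exact mul_mem (nn_mem_fixGen S σ (S.X.simple_lt i.isLt) hc)
    (nn_mem_fixGen S σ (S.X.simple_lt i.isLt) (by rw [map_neg, map_one]))

include C S in
theorem psi_mem_B {b : GL D.Idx F} (hb : b ∈ D.borelSubgroup F) : psi σ b ∈ D.borelSubgroup F := by
  obtain ⟨w0, hw0⟩ := posUnipotent_eq_Uw S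
  obtain ⟨h, hh, v, hv, rfl⟩ := S.mem_B_iff.mp hb
  obtain ⟨c, rfl⟩ := (ChevalleyTorus.mem_H_iff C).1 hh
  rw [map_mul, psi_torus]
  refine mul_mem (Sys.H_le_B (ChevalleyTorus.torus_mem_H C _)) (Sys.U_le_B ?_)
  rw [hw0] at hv ⊢
  exact psi_mem_Uw C S σ hv

include C in
theorem fixed_mem [Finite F] (hinj : Function.Injective (ChevalleyTorus.torus D (F := F)))
    {g : GL D.Idx F} (hg : g ∈ D.group F) (hfix : psi σ g = g) : g ∈ fixGen S σ := by
  obtain ⟨b, hb, n, u, hu, rfl⟩ := S.exists_cell_form hg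
  obtain ⟨m, hm, hmn⟩ := exists_rep S σ (S.toW n)
  have hh : (n : GL D.Idx F) * (m : GL D.Idx F)⁻¹ ∈ D.diagonalSubgroup F := by
    have : n * m⁻¹ ∈ S.toW.ker := by simp [MonoidHom.mem_ker, hmn]
    exact S.toW_ker.le this
  set b' := b * ((n : GL D.Idx F) * (m : GL D.Idx F)⁻¹) with hb'def
  have hb' : b' ∈ D.borelSubgroup F := mul_mem hb (Sys.H_le_B hh)
  have e : b * (n : GL D.Idx F) * u = b' * (m : GL D.Idx F) * u := by rw [hb'def]; group
  rw [e] at hfix ⊢
  rw [← hmn] at hu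
  rw [map_mul, map_mul, psi_fixGen C S σ hm] at hfix
  obtain ⟨hbfix, hufix⟩ := S.form_unique m (psi_mem_B C S σ hb') hb' (psi_mem_Uw C S σ hu) hu hfix
  obtain ⟨w0, hw0⟩ := posUnipotent_eq_Uw S
  obtain ⟨h, hh', v, hv, hbv⟩ := S.mem_B_iff.mp hb'
  obtain ⟨c, rfl⟩ := (ChevalleyTorus.mem_H_iff C).1 hh'
  rw [hbv, map_mul, psi_torus] at hbfix
  have hψv : psi σ v ∈ D.posUnipotent F := by
    rw [hw0] at hv ⊢; exact psi_mem_Uw C S σ hv
  have hboth : (ChevalleyTorus.torus D c)⁻¹ *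
      ChevalleyTorus.torus D (fun i => Units.map σ.toRingHom.toMonoidHom (c i)) =
        v * (psi σ v)⁻¹ := by
    rw [inv_mul_eq_iff_eq_mul, eq_comm, ← mul_assoc, mul_inv_eq_iff_eq_mul, hbfix]
  have h1 : v * (psi σ v)⁻¹ ∈ D.posUnipotent F ⊓ D.diagonalSubgroup F :=
    Subgroup.mem_inf.mpr ⟨mul_mem hv (inv_mem hψv),
      hboth ▸ mul_mem (inv_mem (ChevalleyTorus.torus_mem_H C c)) (ChevalleyTorus.torus_mem_H C _)⟩
  rw [S.U_inf_H, Subgroup.mem_bot] at h1
  rw [h1, inv_mul_eq_one] at hboth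
  have hcfix : ∀ i, σ ((c i : Fˣ) : F) = (c i : F) := fun i =>
    (congrArg (fun f : Fin D.rank → Fˣ => ((f i : Fˣ) : F)) (hinj hboth)).symm
  rw [mul_inv_eq_one] at h1
  rw [hbv]
  refine mul_mem (mul_mem (mul_mem ?_ ?_) hm) (fixed_Uw C S σ _ _ rfl u hu hufix)
  · rw [← Finset.univ_prod_mulSingle c]
    induction (Finset.univ : Finset (Fin D.rank)) using Finset.induction_on with
    | empty => simp
    | insert a T ha ih =>
      rw [Finset.prod_insert ha, map_mul]
      exact mul_mem (torus_single_mem C S σ a (c a) (hcfix a)) ih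
  · exact fixed_Uw C S σ _ w0 rfl v (hw0 ▸ hv) h1.symm

theorem torus_injective' [Fintype F] {d m : ℕ} (Sm : ChevalleyTorusCard.Smith D d m) (C : Cert D)
    (hgcd : Nat.gcd (Fintype.card F - 1) d ^ m = 1) :
    Function.Injective (ChevalleyTorus.torus D (F := F)) := by
  classical
  have h := ChevalleyTorusCard.card_H (F := F) C Sm
  rw [hgcd, one_mul, ChevalleyTorus.H_eq_range C] at h
  have hdom : Nat.card (Fin D.rank → Fˣ) = (Fintype.card F - 1) ^ D.rank := by
    rw [Nat.card_fun, Nat.card_fin, Nat.card_eq_fintype_card, Fintype.card_units]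
  rw [← MonoidHom.ker_eq_bot_iff]
  apply Subgroup.card_eq_one.1
  have h2 := (ChevalleyTorus.torus D (F := F)).ker.card_mul_index
  rw [Subgroup.index_ker, h, hdom] at h2
  have hpos : 0 < (Fintype.card F - 1) ^ D.rank :=
    pow_pos (by have := Fintype.one_lt_card (α := F); omega) _
  exact Nat.eq_of_mul_eq_mul_right hpos (by rw [h2, one_mul])

theorem torus_injective [Fintype F] {d : ℕ} (Sm : ChevalleyTorusCard.Smith D d 0) (C : Cert D) :
    Function.Injective (ChevalleyTorus.torus D (F := F)) :=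
  torus_injective' Sm C (pow_zero _)

/-- **Fixed points of a field automorphism of prime order.** -/
theorem eqLocus_fieldAut_of_injective [Fintype F] (hD : D ∈ [chevG2, chevB2, chevD4, chevF4, chevE6, chevE7, chevE8])
    (hinj : Function.Injective (ChevalleyTorus.torus D (F := F)))
    (φ : MulAut ↥(D.group F)) (hφ : D.IsFieldAut φ) (r : ℕ) (hr : r.Prime) (ho : orderOf φ = r) :
    ∃ (F₀ : Type) (_ : Field F₀) (_ : Fintype F₀), Fintype.card F = Fintype.card F₀ ^ r ∧
      Nonempty (↥((MulEquiv.toMonoidHom φ).eqLocus (MonoidHom.id ↥(D.group F))) ≃* ↥(D.group F₀)) := by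
  classical
  set S := ChevBruhatInstance.sys D hD F
  have C := ChevalleyAll.cert D hD
  obtain ⟨σ, hσ⟩ := hφ
  have hgen : ∀ (s : ℕ) (hs : s < D.nroots) (t : F),
      ((φ ⟨S.xg s t, S.xg_mem_group hs t⟩ : ↥(D.group F)) : GL D.Idx F) = S.xg s (σ t) := by
    intro s hs t
    exact Units.ext ((hσ ⟨S.xg s t, S.xg_mem_group hs t⟩ s t hs (S.coe_xg s t)).trans
      (S.coe_xg s (σ t)).symm)
  have hφψ : ∀ g : ↥(D.group F), ((φ g : ↥(D.group F)) : GL D.Idx F) = psi σ (g : GL D.Idx F) := by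
    rintro ⟨g, hg⟩
    induction hg using Subgroup.closure_induction with
    | mem x hx =>
      obtain ⟨s, t, hst⟩ := hx
      obtain rfl : x = S.xg s.val t := S.eq_xg.mp (by
        rw [hst, ChevalleyDatum.x, dif_pos s.isLt])
      rw [hgen s.val s.isLt t, psi_xg C S σ s.isLt]
    | one =>
      show ((φ 1 : ↥(D.group F)) : GL D.Idx F) = psi σ 1
      rw [map_one, map_one]; rfl
    | mul x y hx hy ihx ihy =>
      show ((φ (⟨x, hx⟩ * ⟨y, hy⟩) : ↥(D.group F)) : GL D.Idx F) = psi σ (x * y)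
      rw [map_mul, map_mul, Subgroup.coe_mul, ihx, ihy]
    | inv x hx ihx =>
      show ((φ (⟨x, hx⟩⁻¹) : ↥(D.group F)) : GL D.Idx F) = psi σ x⁻¹
      rw [map_inv, map_inv, Subgroup.coe_inv, ihx]
  have hpow : ∀ (n : ℕ) (s : ℕ) (hs : s < D.nroots) (t : F),
      (((φ ^ n) ⟨S.xg s t, S.xg_mem_group hs t⟩ : ↥(D.group F)) : GL D.Idx F) =
        S.xg s ((σ ^ n) t) := by
    intro n
    induction n with
    | zero => intro s hs t; rw [pow_zero, pow_zero]; rfl
    | succ n ih =>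
      intro s hs t
      rw [pow_succ', pow_succ', MulAut.mul_apply, RingAut.mul_apply, hφψ, ih s hs t,
        psi_xg C S σ hs]
  have hroot : 0 < D.nroots := by
    simp only [List.mem_cons, List.not_mem_nil, or_false] at hD
    rcases hD with rfl | rfl | rfl | rfl | rfl | rfl | rfl <;> decide
  have hσr : σ ^ r = 1 := by
    ext t
    by_cases ht : (σ ^ r) t = 0
    · rw [ht]
      exact ((map_eq_zero (σ ^ r)).1 ht).symm
    have h := hpow r 0 hroot t
    rw [← ho, pow_orderOf_eq_one] at h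
    rw [← ho] at ht
    have h' : S.xg 0 t = S.xg 0 ((σ ^ orderOf φ) t) := h
    rw [← ho]
    exact ((S.xg_inj 0 0 hroot hroot _ _ ht h'.symm).2)
  have hσ1 : σ ≠ 1 := by
    intro h1
    have : φ = 1 := by
      refine MulEquiv.ext fun g => Subtype.ext ?_
      rw [hφψ g]
      apply Units.ext
      rw [coe_map, h1]
      ext i j
      rfl
    rw [this, orderOf_one] at ho
    exact hr.one_lt.ne' ho.symm
  have hordσ : orderOf σ = r := by
    haveI : Fact r.Prime := ⟨hr⟩
    exact orderOf_eq_prime hσr hσ1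
  let K := FixedPoints.subfield (Subgroup.zpowers σ) F
  haveI : Fintype K := Fintype.ofFinite K
  haveI : Finite (Subgroup.zpowers σ) :=
    Nat.finite_of_card_ne_zero (by rw [Nat.card_zpowers, hordσ]; exact hr.ne_zero)
  haveI : Fintype (Subgroup.zpowers σ) := Fintype.ofFinite _
  have hrank : Module.finrank K F = r := by
    rw [FixedPoints.finrank_eq_card, ← Nat.card_eq_fintype_card, Nat.card_zpowers, hordσ]
  have hK : ∀ x : F, x ∈ K ↔ σ x = x := by
    intro x
    constructor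
    · exact fun h => h ⟨σ, Subgroup.mem_zpowers σ⟩
    · rintro h ⟨τ, hτ⟩
      have hst : σ ∈ MulAction.stabilizer (F ≃+* F) x := h
      exact (Subgroup.zpowers_le.2 hst hτ : τ • x = x)
  obtain ⟨p, hp⟩ := CharP.exists K
  obtain ⟨⟨k, hk0⟩, hpp, hk⟩ := FiniteField.card K p
  haveI : Fact p.Prime := ⟨hpp⟩
  let F₀ := GaloisField p k
  haveI : Fintype F₀ := Fintype.ofFinite F₀
  have hcardF₀ : Fintype.card F₀ = Fintype.card K := by
    rw [hk, ← Nat.card_eq_fintype_card, GaloisField.card p k (by omega)]; rfl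
  let e : F₀ ≃+* K := FiniteField.ringEquivOfCardEq hcardF₀
  let ι : F₀ →+* F := K.subtype.comp e.toRingHom
  refine ⟨F₀, inferInstance, inferInstance, ?_, ?_⟩
  · rw [hcardF₀, ← hrank]; exact Module.card_eq_pow_finrank
  let M : GL D.Idx F₀ →* GL D.Idx F := Matrix.GeneralLinearGroup.map ι
  have hMinj : Function.Injective M := by
    intro a b hab
    apply Units.ext
    have h := congrArg (fun g : GL D.Idx F => (g : Matrix D.Idx D.Idx F)) hab
    simp only [M, coe_map] at h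
    exact Matrix.map_injective ι.injective h
  have himg : (D.group F₀).map M = fixGen S σ := by
    rw [ChevalleyDatum.group, MonoidHom.map_closure, fixGen]
    congr 1
    ext g
    constructor
    · rintro ⟨x, ⟨s, t, hst⟩, rfl⟩
      refine ⟨s, ι t, s.isLt, (hK _).1 (e t).2, ?_⟩
      apply S.eq_xg.mp
      rw [coe_map, hst, ← map_x C ι s.isLt t, ChevalleyDatum.x, dif_pos s.isLt]
    · rintro ⟨s, t, hs, ht, rfl⟩
      refine ⟨ChevalleyCore.xg C s (e.symm ⟨t, (hK t).2 ht⟩), ⟨⟨s, hs⟩, e.symm ⟨t, (hK t).2 ht⟩, ?_⟩, ?_⟩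
      · rw [ChevalleyCore.coe_xg, ChevalleyDatum.x, dif_pos hs]
      · apply S.eq_xg.mp
        rw [coe_map, ChevalleyCore.coe_xg, map_x C ι hs]
        simp [ι]
  have hloc : ((MulEquiv.toMonoidHom φ).eqLocus (MonoidHom.id ↥(D.group F))).map (D.group F).subtype =
      fixGen S σ := by
    apply le_antisymm
    · rintro _ ⟨g, hg, rfl⟩
      exact fixed_mem C S σ hinj g.2
        ((hφψ g).symm.trans (congrArg Subtype.val hg))
    · intro g hg
      have hgG : g ∈ D.group F := by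
        refine (Subgroup.closure_le _).2 ?_ hg
        rintro _ ⟨s, t, hs, -, rfl⟩
        exact S.xg_mem_group hs t
      exact ⟨⟨g, hgG⟩, Subtype.ext ((hφψ ⟨g, hgG⟩).trans (psi_fixGen C S σ hg)), rfl⟩
  exact ⟨((Subgroup.equivMapOfInjective _ _ (D.group F).subtype_injective).trans
    (MulEquiv.subgroupCongr (hloc.trans himg.symm))).trans
    (Subgroup.equivMapOfInjective _ _ hMinj).symm⟩

theorem eqLocus_fieldAut [Fintype F] (hD : D ∈ [chevG2, chevB2, chevD4, chevF4, chevE6, chevE7, chevE8])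
    {d : ℕ} (Sm : ChevalleyTorusCard.Smith D d 0)
    (φ : MulAut ↥(D.group F)) (hφ : D.IsFieldAut φ) (r : ℕ) (hr : r.Prime) (ho : orderOf φ = r) :
    ∃ (F₀ : Type) (_ : Field F₀) (_ : Fintype F₀), Fintype.card F = Fintype.card F₀ ^ r ∧
      Nonempty (↥((MulEquiv.toMonoidHom φ).eqLocus (MonoidHom.id ↥(D.group F))) ≃* ↥(D.group F₀)) :=
  eqLocus_fieldAut_of_injective hD (torus_injective Sm (ChevalleyAll.cert D hD)) φ hφ r hr ho

end Cfsg.Agent.ChevFieldAut77
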