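import Cfsg.Agent.Lib.ChevBruhatInstance
import Cfsg.Agent.Lib.ChevalleyTorusCard

/-!
Orders of the finite Chevalley groups: the Bruhat count with the length generating function of the
Weyl group written as a product, checked on coefficient lists.
-/

set_option autoImplicit false

namespace Cfsg.Agent.ChevOrder
open Cfsg.Lie Cfsg.Agent.ChevalleyCert Cfsg.Agent.ChevBruhat Cfsg.Agent.ChevWeyl
  Cfsg.Agent.CoxeterTables Cfsg.Agent.ChevBruhatInstance

/-- value of a coefficient list -/
def peval (x : ℤ) : List ℤ → ℤ
  | [] => 0
  | a :: l => a + x * peval x l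

/-- sum of coefficient lists -/
def padd : List ℤ → List ℤ → List ℤ
  | [], b => b
  | a, [] => a
  | a :: as, b :: bs => (a + b) :: padd as bs

/-- product of coefficient lists -/
def pmul : List ℤ → List ℤ → List ℤ
  | [], _ => []
  | a :: as, b => padd (b.map (a * ·)) (0 :: pmul as b)

/-- the monomial of degree `k` -/
def mono : ℕ → List ℤ
  | 0 => [1]
  | k + 1 => 0 :: mono k

/-- the product of several coefficient lists -/
def pprod : List (List ℤ) → List ℤ
  | [] => [1]
  | l :: ls => pmul l (pprod ls)

lemma peval_padd (x : ℤ) : ∀ a b, peval x (padd a b) = peval x a + peval x b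
  | [], b => by simp [padd, peval]
  | a :: as, [] => by simp [padd, peval]
  | a :: as, b :: bs => by simp only [padd, peval, peval_padd x as bs]; ring

lemma peval_map (x c : ℤ) : ∀ b, peval x (b.map (c * ·)) = c * peval x b
  | [] => by simp [peval]
  | b :: bs => by simp only [List.map_cons, peval, peval_map x c bs]; ring

lemma peval_pmul (x : ℤ) : ∀ a b, peval x (pmul a b) = peval x a * peval x b
  | [], b => by simp [pmul, peval]
  | a :: as, b => by
    simp only [pmul, peval_padd, peval_map, peval, peval_pmul x as b]; ring

lemma peval_mono (x : ℤ) : ∀ k, peval x (mono k) = x ^ k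
  | 0 => by simp [mono, peval]
  | k + 1 => by simp only [mono, peval, peval_mono x k, pow_succ]; ring

lemma peval_pprod (x : ℤ) : ∀ ls, peval x (pprod ls) = (ls.map (peval x)).prod
  | [] => by simp [pprod, peval]
  | l :: ls => by simp only [pprod, peval_pmul, peval_pprod x ls, List.map_cons, List.prod_cons]

/-- the length polynomial of a coset table -/
def levelPoly (L : Level) : List ℤ :=
  (List.range L.size).foldr (fun v acc => padd (mono (L.word v).length) acc) []

lemma peval_levelPoly (x : ℤ) (L : Level) :
    peval x (levelPoly L) = ∑ v ∈ Finset.range L.size, x ^ (L.word v).length := by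
  have key : ∀ l : List ℕ, peval x (l.foldr (fun v acc => padd (mono (L.word v).length) acc) []) =
      (l.map fun v => x ^ (L.word v).length).sum := by
    intro l
    induction l with
    | nil => simp [peval]
    | cons v l ih => simp [peval_padd, peval_mono, ih]
  rw [levelPoly, key, Finset.sum_range, Fin.sum_univ_def, ← List.map_coe_finRange_eq_range,
    List.map_map]
  rfl

/-- the coefficient list of `X ^ (d+1) - 1` -/
def cyc : ℕ → List ℤ
  | d => -1 :: mono d

lemma peval_cyc (x : ℤ) (d : ℕ) : peval x (cyc d) = x ^ (d + 1) - 1 := by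
  simp only [cyc, peval, peval_mono, pow_succ]; ring

/-- the product formula for the length polynomial -/
def polyOK (chain : List Level) (rank : ℕ) (ds : List ℕ) : Bool :=
  decide (ds.all (1 ≤ ·) = true ∧
    pmul (pprod (List.replicate rank (cyc 0))) (pprod (chain.map levelPoly)) =
      pprod (ds.map fun d => cyc (d - 1)))

variable {D : ChevalleyDatum} {F : Type*} [Field F] [Fintype F]

/-- the order formula -/
theorem order_eq (C : Cert D) (X : Weyl D) (hs : suppCheck D = true) (ds : List ℕ)
    (hpoly : polyOK X.chain D.rank ds = true) {g : ℕ}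
    (hH : g * Nat.card ↥(D.diagonalSubgroup F) = (Fintype.card F - 1) ^ D.rank) :
    g * Nat.card ↥(D.group F) =
      Fintype.card F ^ (D.nroots / 2) * (ds.map fun d => Fintype.card F ^ d - 1).prod := by
  let S : Sys D F := mkSys C X hs
  have := Fintype.ofFinite S.X.W
  have h1 := S.card_group
  rw [S.card_B, ChevalleyUnipotent.card_U C, Nat.card_eq_fintype_card (α := F)] at h1
  have hP := S.X.poincare (Fintype.card F)
  rw [hP] at h1
  rw [h1]
  set q := Fintype.card F with hq
  have hq1 : 1 ≤ q := Fintype.card_pos
  simp only [polyOK, decide_eq_true_eq, List.all_eq_true] at hpoly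
  obtain ⟨hds, hpoly⟩ := hpoly
  have hev := congrArg (peval (q : ℤ)) hpoly
  simp only [peval_pmul, peval_pprod, List.map_replicate, List.prod_replicate, List.map_map,
    Function.comp_def, peval_cyc, peval_levelPoly] at hev
  have hprod : (((ds.map fun d => q ^ d - 1).prod : ℕ) : ℤ) =
      (ds.map fun d => (q : ℤ) ^ (d - 1 + 1) - 1).prod := by
    rw [Nat.cast_list_prod, List.map_map]
    refine congrArg List.prod (List.map_congr_left fun d hd => ?_)
    have hd1 : 1 ≤ d := by simpa using hds d hd
    simp only [Function.comp_apply]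
    rw [Nat.sub_add_cancel hd1, Nat.cast_sub (Nat.one_le_pow _ _ hq1)]
    push_cast; ring
  apply Int.natCast_inj.mp
  simp only [Nat.cast_mul, Nat.cast_pow]
  rw [hprod, ← hev]
  have hH' : (g : ℤ) * Nat.card ↥(D.diagonalSubgroup F) = ((q : ℤ) ^ (0 + 1) - 1) ^ D.rank := by
    have := congrArg (Nat.cast : ℕ → ℤ) hH
    push_cast [Nat.cast_sub hq1] at this
    simpa using this
  rw [← hH', Nat.cast_list_prod, List.map_map]
  simp only [Function.comp_def, mkSys, S]
  push_cast
  ring

end Cfsg.Agent.ChevOrder
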