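import Cfsg.Agent.Lib.ChevBruhatInstance

/-!
The centralizer in a Chevalley group of a torus element whose root values are non-trivial and
pairwise distinct is the torus.
-/

set_option autoImplicit false

namespace Cfsg.Agent.ChevRegularCentralizer68

open Cfsg.Lie Cfsg.Agent.ChevalleyCert Cfsg.Agent.ChevalleyCore Cfsg.Agent.ChevalleyRoots
  Cfsg.Agent.ChevalleyTorus Cfsg.Agent.ChevalleyUnipotent Cfsg.Agent.ChevWeyl Cfsg.Agent.ChevBruhat

variable {D : ChevalleyDatum} (C : Cert D) {F : Type*} [Field F]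

include C in
theorem fixed_U (c : Fin D.rank → Fˣ) (hne : ∀ r, r < D.nroots → tchar D c r ≠ 1)
    {u : GL D.Idx F} (hu : u ∈ D.posUnipotent F)
    (h : torus D c * u * (torus D c)⁻¹ = u) : u = 1 := by
  obtain ⟨t, ⟨h0, rfl⟩, -⟩ := U_normal_form C hu
  have e : torus D c * uProd C (D.nroots / 2) t * (torus D c)⁻¹ =
      uProd C (D.nroots / 2) fun r => (tchar D c r : F) * t r := by
    rw [uProd, uProd, ← MulAut.conj_apply, map_list_prod, List.map_map]
    refine congrArg List.prod (List.map_congr_left fun r hr => ?_)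
    rw [List.mem_range'_1] at hr
    exact torus_conj_xg C (by omega) c (t r)
  rw [e] at h
  have h1 : t = fun _ => 0 := by
    funext r
    by_cases hr : D.IsPosRoot r
    · obtain ⟨hr1, hr2⟩ := (isPos C).1 hr
      have h2 := uProd_inj C le_rfl h r hr1 hr2
      by_contra ht
      apply hne r hr2
      exact Units.ext (mul_right_cancel₀ ht (h2.trans (one_mul _).symm))
    · exact h0 r hr
  rw [h1, uProd]
  exact List.prod_eq_one fun g hg => by
    obtain ⟨r, -, rfl⟩ := List.mem_map.1 hg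
    simp

include C in
/-- The centralizer of a regular torus element with distinct root values. -/
theorem mem_H_of_commute (X : Weyl D) (hs : suppCheck D = true) (c : Fin D.rank → Fˣ)
    (hne : ∀ r, r < D.nroots → tchar D c r ≠ 1)
    (hinj : ∀ r s, r < D.nroots → s < D.nroots → tchar D c r = tchar D c s → r = s)
    {y : GL D.Idx F} (hy : y ∈ D.group F) (h : torus D c * y = y * torus D c) :
    y ∈ D.diagonalSubgroup F := by
  let S : Sys D F := ChevBruhatInstance.mkSys C X hs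
  set t := torus D c with ht
  have htH : t ∈ D.diagonalSubgroup F := torus_mem_H C c
  obtain ⟨b, hb, n, u, hu, rfl⟩ := S.exists_cell_form hy
  have h' : t * (b * n * u) * t⁻¹ = b * n * u := by rw [h]; group
  have hh : t * n * t⁻¹ * (n : GL D.Idx F)⁻¹ ∈ D.diagonalSubgroup F := by
    rw [show t * n * t⁻¹ * (n : GL D.Idx F)⁻¹ = t * (n * t⁻¹ * (n : GL D.Idx F)⁻¹) by group]
    exact mul_mem htH (S.conj_H (S.acts_toW n) (inv_mem htH))
  set h₁ := t * n * t⁻¹ * (n : GL D.Idx F)⁻¹ with hh₁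
  have hu' : t * u * t⁻¹ ∈ S.Uw (S.toW n) := by
    refine Sys.conj_closure_le (T := {g : GL D.Idx F | ∃ r a, r ∈ S.X.invSet (S.toW n) ∧ g = S.xg r a}) t ?_ hu
    rintro x ⟨r, a, hr, rfl⟩
    exact Subgroup.subset_closure ⟨r, _, hr, torus_conj_xg C (S.X.mem_invSet.mp hr).1.1 c a⟩
  have hbB : t * b * t⁻¹ * h₁ ∈ D.borelSubgroup F :=
    mul_mem (mul_mem (mul_mem (Sys.H_le_B htH) hb) (inv_mem (Sys.H_le_B htH))) (Sys.H_le_B hh)
  have he : (t * b * t⁻¹ * h₁) * n * (t * u * t⁻¹) = b * n * u := by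
    conv_rhs => rw [← h']
    rw [hh₁]; group
  obtain ⟨e1, e2⟩ := S.form_unique n hbB hb hu' hu he
  have hu1 : u = 1 := fixed_U C c hne (S.Uw_le_U _ hu) e2
  obtain ⟨u₀, hu₀, h₀, hh₀, rfl⟩ := (ChevalleyTorus.mem_B_iff C).1 hb
  have e3 : (t * u₀ * t⁻¹) * (h₀ * h₁) = u₀ * h₀ := by
    conv_rhs => rw [← e1]
    rw [show t * (u₀ * h₀) * t⁻¹ = t * u₀ * t⁻¹ * h₀ by
      rw [show t * (u₀ * h₀) * t⁻¹ = t * u₀ * (h₀ * t⁻¹) by group, H_comm C hh₀ (inv_mem htH)]
      group]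
    group
  have hU : t * u₀ * t⁻¹ ∈ D.posUnipotent F :=
    (Subgroup.mem_normalizer_iff.1 (H_le_normalizer_U C htH) u₀).1 hu₀
  have e4 : u₀⁻¹ * (t * u₀ * t⁻¹) = h₀ * (h₀ * h₁)⁻¹ := by
    rw [eq_mul_inv_iff_mul_eq, mul_assoc, e3]; group
  have e5 : u₀⁻¹ * (t * u₀ * t⁻¹) = 1 := by
    have := Subgroup.mem_inf.2 ⟨mul_mem (inv_mem hu₀) hU, e4 ▸ mul_mem hh₀ (inv_mem (mul_mem hh₀ hh))⟩
    rwa [U_inf_H C, Subgroup.mem_bot] at this
  have hu₀1 : u₀ = 1 := fixed_U C c hne hu₀ (inv_mul_eq_one.1 e5).symm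
  have h11 : h₁ = 1 := by
    rw [e4, mul_inv_rev, ← mul_assoc] at e5
    have : h₀ * h₁⁻¹ = h₀ := by rw [← mul_inv_eq_one]; exact e5
    simpa using this
  have hw : S.toW n = 1 := by
    apply S.X.ρ_injective
    ext s
    obtain ⟨d, hd, h1, -⟩ := S.acts_toW n s s.isLt
    have hn : t * n = n * t := by
      calc t * (n : GL D.Idx F) = h₁ * n * t := by rw [hh₁]; group
        _ = n * t := by rw [h11, one_mul]
    have k1 : t * (n * S.xg s 1 * (n : GL D.Idx F)⁻¹) * t⁻¹ = n * (t * S.xg s 1 * t⁻¹) * (n : GL D.Idx F)⁻¹ := by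
      have : (n : GL D.Idx F)⁻¹ * t⁻¹ = t⁻¹ * (n : GL D.Idx F)⁻¹ := by rw [← mul_inv_rev, ← mul_inv_rev, hn]
      rw [show t * (n * S.xg s 1 * (n : GL D.Idx F)⁻¹) * t⁻¹ = t * n * S.xg s 1 * ((n : GL D.Idx F)⁻¹ * t⁻¹) by group,
        this, hn]
      group
    have e6 : ∀ r, r < D.nroots → ∀ a, t * S.xg r a * t⁻¹ = S.xg r ((tchar D c r : F) * a) :=
      fun r hr a => torus_conj_xg C hr c a
    rw [h1, e6 _ (S.X.img_lt _ s.isLt), e6 _ s.isLt, h1] at k1
    have k2 := (S.xg_inj _ _ (S.X.img_lt _ s.isLt) (S.X.img_lt _ s.isLt) _ _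
      (mul_ne_zero (Units.ne_zero _) (mul_ne_zero hd one_ne_zero)) k1).2
    have k3 : tchar D c (S.X.img (S.toW n) s) = tchar D c s :=
      Units.ext (mul_right_cancel₀ hd (by linear_combination k2))
    have k4 := hinj _ _ (S.X.img_lt _ s.isLt) s.isLt k3
    simpa [Weyl.img, s.isLt] using k4
  rw [hu₀1, one_mul, hu1, mul_one]
  exact mul_mem hh₀ (S.toW_ker.le hw)

end Cfsg.Agent.ChevRegularCentralizer68
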