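import Mathlib

/-!
Semisimple linear maps: conjugate when the characteristic polynomials agree; determinants of
centralising elements; existence of elements of order prime to `p` with prescribed characteristic
polynomial.
-/

set_option autoImplicit false

namespace Cfsg.Agent.SemisimpleConjGL

open Polynomial Module

universe u v w

variable {F : Type u} [Field F]

/-! ### Endomorphisms -/

section End

variable {V : Type v} [AddCommGroup V] [Module F V] [FiniteDimensional F V]

theorem aeval_apply_eigen (a : Module.End F V) {lam : F} {x : V} (h : a x = lam • x) (p : F[X]) :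
    aeval a p x = p.eval lam • x := by
  induction p using Polynomial.induction_on' with
  | add p q hp hq => simp [hp, hq, add_smul]
  | monomial k c =>
    have hk : (a ^ k) x = lam ^ k • x := by
      induction k with
      | zero => simp
      | succ k ih => rw [pow_succ, Module.End.mul_apply, h, map_smul, ih, smul_smul, pow_succ, mul_comm]
    simp [aeval_monomial, hk, smul_smul, Module.algebraMap_end_apply, mul_comm]

theorem exists_ker_of_dvd_charpoly (b : Module.End F V) {g : F[X]} (hg : Irreducible g)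
    (hd : g ∣ b.charpoly) : ∃ x : V, x ≠ 0 ∧ aeval b g x = 0 := by
  classical
  have : Fact (Irreducible g) := ⟨hg⟩
  let e := Module.finBasis F V
  set M := LinearMap.toMatrixAlgEquiv e b with hM
  let f := algebraMap F (AdjoinRoot g)
  let φ : Matrix (Fin (finrank F V)) (Fin (finrank F V)) F →ₐ[F]
      Matrix (Fin (finrank F V)) (Fin (finrank F V)) (AdjoinRoot g) :=
    (Algebra.ofId F (AdjoinRoot g)).mapMatrix
  have hroot : (φ M).charpoly.eval (AdjoinRoot.root g) = 0 := by
    change (M.map f).charpoly.eval _ = 0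
    rw [Matrix.charpoly_map, Polynomial.eval_map]
    have hc : M.charpoly = b.charpoly := LinearMap.charpoly_toMatrix b e
    obtain ⟨c, hc'⟩ := hd
    rw [hc, hc', Polynomial.eval₂_mul]
    have : Polynomial.eval₂ f (AdjoinRoot.root g) g = 0 := AdjoinRoot.eval₂_root g
    rw [this, zero_mul]
  have hdet : (Matrix.scalar _ (AdjoinRoot.root g) - φ M).det = 0 := by
    rw [← Matrix.eval_charpoly]
    exact hroot
  obtain ⟨w, hw0, hw⟩ := Matrix.exists_mulVec_eq_zero_iff.2 hdet
  rw [Matrix.sub_mulVec, sub_eq_zero] at hw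
  have hw' : Matrix.toLin' (φ M) w = AdjoinRoot.root g • w := by
    rw [Matrix.toLin'_apply, ← hw]
    funext i
    simp [Matrix.mulVec_diagonal]
  have h2 : (aeval (Matrix.toLin' (φ M)) (g.map f)) w = 0 := by
    rw [aeval_apply_eigen _ hw', Polynomial.eval_map]
    simp [show Polynomial.eval₂ f (AdjoinRoot.root g) g = 0 from AdjoinRoot.eval₂_root g]
  have h3 : (φ (aeval M g)).mulVec w = 0 := by
    rw [← aeval_algHom_apply φ M g, ← Polynomial.aeval_map_algebraMap (AdjoinRoot g)]
    rw [show Matrix.toLin' (φ M) = Matrix.toLinAlgEquiv' (φ M) from rfl,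
      aeval_algHom_apply] at h2
    exact h2
  have h4 : (aeval M g).det = 0 := by
    have h5 : (φ (aeval M g)).det = 0 := Matrix.exists_mulVec_eq_zero_iff.1 ⟨w, hw0, h3⟩
    change ((aeval M g).map f).det = 0 at h5
    rw [← RingHom.mapMatrix_apply, ← RingHom.map_det] at h5
    exact (map_eq_zero f).1 h5
  have h6 : LinearMap.det (aeval b g) = 0 := by
    rw [← LinearMap.det_toMatrix e]
    rw [show LinearMap.toMatrix e e (aeval b g) = LinearMap.toMatrixAlgEquiv e (aeval b g) from rfl,
      ← aeval_algHom_apply]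
    exact h4
  have h7 := LinearMap.bot_lt_ker_of_det_eq_zero h6
  obtain ⟨x, hx, hx0⟩ := Submodule.exists_mem_ne_zero_of_ne_bot (ne_of_gt h7)
  exact ⟨x, hx0, hx⟩

/-- Multiplication by the root. -/
noncomputable def rootMul (g : F[X]) : Module.End F (AdjoinRoot g) :=
  LinearMap.mulLeft F (AdjoinRoot.root g)

theorem rootMul_charpoly {g : F[X]} (hg : g.Monic) [Module.Finite F (AdjoinRoot g)] :
    (rootMul g).charpoly = g := by
  let pb := AdjoinRoot.powerBasis' hg
  rw [← LinearMap.charpoly_toMatrix (rootMul g) pb.basis]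
  have h : LinearMap.toMatrix pb.basis pb.basis (rootMul g) = Algebra.leftMulMatrix pb.basis pb.gen := by
    rw [Algebra.leftMulMatrix_apply]
    rfl
  rw [h, charpoly_leftMulMatrix, AdjoinRoot.powerBasis'_gen, AdjoinRoot.minpoly_root hg.ne_zero,
    hg.leadingCoeff, inv_one, map_one, mul_one]

/-- A `g`-cyclic invariant subspace. -/
theorem exists_embed (b : Module.End F V) {g : F[X]} (hg : Irreducible g) (hm : g.Monic)
    (hd : g ∣ b.charpoly) :
    ∃ ι : AdjoinRoot g →ₗ[F] V, Function.Injective ι ∧ ∀ x, ι (rootMul g x) = b (ι x) := by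
  obtain ⟨x, hx0, hx⟩ := exists_ker_of_dvd_charpoly b hg hd
  let Ψ : F[X] →ₗ[F] V := (LinearMap.applyₗ x).comp (aeval b).toLinearMap
  have hdiv : ∀ p : F[X], Ψ (g * p) = 0 := by
    intro p
    change aeval b (g * p) x = 0
    rw [mul_comm, map_mul, Module.End.mul_apply, hx, map_zero]
  have hmod : ∀ p : F[X], Ψ (p %ₘ g) = Ψ p := by
    intro p
    conv_rhs => rw [← modByMonic_add_div p g]
    rw [map_add, hdiv, add_zero]
  let ι := Ψ.comp (AdjoinRoot.modByMonicHom hm)
  have hι : ∀ p, ι (AdjoinRoot.mk g p) = Ψ p := fun p => by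
    simp only [ι, LinearMap.comp_apply, AdjoinRoot.modByMonicHom_mk, hmod]
  refine ⟨ι, ?_, fun y => ?_⟩
  · rw [injective_iff_map_eq_zero]
    intro y hy
    induction y using AdjoinRoot.induction_on with
    | _ p =>
      rw [hι] at hy
      rw [AdjoinRoot.mk_eq_zero]
      by_contra hnd
      obtain ⟨u, w, huw⟩ := hg.coprime_iff_not_dvd.2 hnd
      apply hx0
      have hsum := congrArg Ψ huw
      rw [map_add] at hsum
      change aeval b (u * g) x + aeval b (w * p) x = aeval b 1 x at hsum
      rw [map_mul, map_mul, Module.End.mul_apply, Module.End.mul_apply, hx,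
        show aeval b p x = 0 from hy, map_zero, map_zero, add_zero, map_one] at hsum
      exact hsum.symm
  · induction y using AdjoinRoot.induction_on with
    | _ p =>
      rw [rootMul, LinearMap.mulLeft_apply, ← AdjoinRoot.mk_X, ← map_mul, hι, hι]
      change aeval b (X * p) x = b (aeval b p x)
      rw [map_mul, aeval_X, Module.End.mul_apply]

/-- Splitting off a cyclic block from a semisimple endomorphism. -/
theorem exists_split (b : Module.End F V) (hb : b.IsSemisimple) {g : F[X]} (hg : Irreducible g)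
    (hm : g.Monic) (hd : g ∣ b.charpoly) :
    ∃ (Q : Submodule F V) (c : Module.End F Q) (e : (AdjoinRoot g × Q) ≃ₗ[F] V), c.IsSemisimple ∧
      e.conj ((rootMul g).prodMap c) = b ∧ b.charpoly = g * c.charpoly ∧
      Module.finrank F Q < Module.finrank F V := by
  have : Module.Finite F (AdjoinRoot g) := (AdjoinRoot.powerBasis' hm).finite
  obtain ⟨ι, hι, hcomm⟩ := exists_embed b hg hm hd
  have hinv : LinearMap.range ι ∈ Module.End.invtSubmodule b := by
    rw [Module.End.mem_invtSubmodule]
    rintro _ ⟨y, rfl⟩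
    exact ⟨rootMul g y, hcomm y⟩
  obtain ⟨Q, hQ, hc⟩ := Module.End.isSemisimple_iff.1 hb _ hinv
  let e : (AdjoinRoot g × Q) ≃ₗ[F] V :=
    ((LinearEquiv.ofInjective ι hι).prodCongr (LinearEquiv.refl F Q)).trans
      (Submodule.prodEquivOfIsCompl _ Q hc)
  let c : Module.End F Q := LinearMap.restrict b hQ
  have he : ∀ y, e y = ι y.1 + (y.2 : V) := fun y => by
    simp [e, Submodule.coe_prodEquivOfIsCompl']
  have hconj : e.conj ((rootMul g).prodMap c) = b := by
    refine LinearMap.ext fun y => ?_
    obtain ⟨z, rfl⟩ := e.surjective y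
    rw [LinearEquiv.conj_apply_apply, LinearEquiv.symm_apply_apply, he, he, map_add]
    simp only [LinearMap.prodMap_apply, hcomm]
    rfl
  have hcp : b.charpoly = g * c.charpoly := by
    rw [← hconj, LinearEquiv.charpoly_conj, LinearMap.charpoly_prodMap, rootMul_charpoly hm]
  refine ⟨Q, c, e, Module.End.IsSemisimple.restrict hQ hb, hconj, hcp, ?_⟩
  have h1 := congrArg Polynomial.natDegree hcp
  rw [LinearMap.charpoly_natDegree, (hm.natDegree_mul (LinearMap.charpoly_monic c)),
    LinearMap.charpoly_natDegree] at h1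
  have := hg.natDegree_pos
  omega

/-- Semisimple endomorphisms with equal characteristic polynomials are conjugate. -/
theorem exists_conj : ∀ (n : ℕ) {V : Type v} [AddCommGroup V] [Module F V] [FiniteDimensional F V]
    {W : Type w} [AddCommGroup W] [Module F W] [FiniteDimensional F W]
    (a : Module.End F V) (b : Module.End F W), a.IsSemisimple → b.IsSemisimple →
    a.charpoly = b.charpoly → Module.finrank F V ≤ n → ∃ e : V ≃ₗ[F] W, e.conj a = b := by
  intro n
  induction n using Nat.strong_induction_on with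
  | _ n ih =>
    intro V _ _ _ W _ _ _ a b ha hb hab hn
    have hfr : Module.finrank F V = Module.finrank F W := by
      rw [← LinearMap.charpoly_natDegree a, hab, LinearMap.charpoly_natDegree]
    by_cases h0 : Module.finrank F V = 0
    · have hV : Subsingleton V := Module.finrank_zero_iff.1 h0
      have hW : Subsingleton W := Module.finrank_zero_iff.1 (hfr ▸ h0)
      exact ⟨LinearEquiv.ofFinrankEq _ _ hfr, LinearMap.ext fun x => Subsingleton.elim _ _⟩
    · have hnu : ¬ IsUnit a.charpoly := fun hu =>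
        h0 (by rw [← LinearMap.charpoly_natDegree a]; exact natDegree_eq_zero_of_isUnit hu)
      obtain ⟨g, hm, hg, hgd⟩ := Polynomial.exists_monic_irreducible_factor a.charpoly hnu
      obtain ⟨Q, c, e, hcs, hce, hcp, hlt⟩ := exists_split a ha hg hm hgd
      obtain ⟨Q', c', e', hcs', hce', hcp', -⟩ := exists_split b hb hg hm (hab ▸ hgd)
      have hcc : c.charpoly = c'.charpoly :=
        mul_left_cancel₀ hm.ne_zero (hcp.symm.trans (hab.trans hcp'))
      obtain ⟨f, hf⟩ := ih _ (lt_of_lt_of_le hlt hn) c c' hcs hcs' hcc le_rfl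
      refine ⟨e.symm.trans (((LinearEquiv.refl F (AdjoinRoot g)).prodCongr f).trans e'), ?_⟩
      rw [← hce, ← hce']
      refine LinearMap.ext fun y => ?_
      simp [LinearEquiv.conj_apply_apply, ← hf]

/-- Over a finite field every non-zero scalar is the determinant of an element commuting with a
given semisimple endomorphism. -/
theorem exists_commute_det [Finite F] (a : Module.End F V) (ha : a.IsSemisimple)
    (hV : Module.finrank F V ≠ 0) {r : F} :
    ∃ t : Module.End F V, t * a = a * t ∧ LinearMap.det t = r := by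
  have hnu : ¬ IsUnit a.charpoly := fun hu =>
    hV (by rw [← LinearMap.charpoly_natDegree a]; exact natDegree_eq_zero_of_isUnit hu)
  obtain ⟨g, hm, hg, hgd⟩ := Polynomial.exists_monic_irreducible_factor a.charpoly hnu
  have : Fact (Irreducible g) := ⟨hg⟩
  have : Module.Finite F (AdjoinRoot g) := (AdjoinRoot.powerBasis' hm).finite
  have : Finite (AdjoinRoot g) := Module.finite_of_finite F
  obtain ⟨Q, c, e, -, hce, -, -⟩ := exists_split a ha hg hm hgd
  obtain ⟨y, hy⟩ := FiniteField.norm_surjective F (AdjoinRoot g) r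
  refine ⟨e.conj ((LinearMap.mulLeft F y).prodMap LinearMap.id), ?_, ?_⟩
  · rw [← hce]
    refine LinearMap.ext fun z => ?_
    simp [Module.End.mul_apply, LinearEquiv.conj_apply_apply, rootMul, mul_left_comm]
  · rw [LinearEquiv.conj_apply]
    change LinearMap.det ((e.toLinearMap ∘ₗ _) ∘ₗ e.symm.toLinearMap) = r
    rw [LinearMap.comp_assoc, LinearMap.det_conj, LinearMap.det_prodMap, LinearMap.det_id, mul_one, ← hy]
    rfl

end End

/-! ### Matrices -/

section Matrices

variable {ι : Type*} [Fintype ι] [DecidableEq ι]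

theorem isSemisimple_of_pow_eq_one {A : Matrix ι ι F} {m : ℕ} (hm : (m : F) ≠ 0) (h : A ^ m = 1) :
    Module.End.IsSemisimple (Matrix.toLin' A) := by
  refine Module.End.isSemisimple_of_squarefree_aeval_eq_zero (p := X ^ m - 1)
    (X_pow_sub_one_separable_iff.2 hm).squarefree ?_
  rw [map_sub, map_pow, aeval_X, map_one, ← Matrix.toLin'_pow, h, Matrix.toLin'_one]
  exact sub_self _

theorem exists_gl_conj {A B : Matrix ι ι F} (hA : Module.End.IsSemisimple (Matrix.toLin' A))
    (hB : Module.End.IsSemisimple (Matrix.toLin' B)) (h : A.charpoly = B.charpoly) :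
    ∃ P : (Matrix ι ι F)ˣ, (P : Matrix ι ι F) * A = B * (P : Matrix ι ι F) := by
  obtain ⟨e, he⟩ := exists_conj _ (Matrix.toLin' A) (Matrix.toLin' B) hA hB
    (by rw [Matrix.charpoly_toLin', Matrix.charpoly_toLin', h]) le_rfl
  refine ⟨⟨LinearMap.toMatrix' e.toLinearMap, LinearMap.toMatrix' e.symm.toLinearMap, ?_, ?_⟩, ?_⟩
  · rw [← LinearMap.toMatrix'_comp]
    simp
  · rw [← LinearMap.toMatrix'_comp]
    simp
  · apply Matrix.toLin'.injective
    rw [Matrix.toLin'_mul, Matrix.toLin'_mul]
    simp only [Matrix.toLin'_toMatrix']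
    rw [← he]
    refine LinearMap.ext fun x => ?_
    simp [LinearEquiv.conj_apply_apply]

theorem exists_gl_commute_det [Finite F] [Nonempty ι] {A : Matrix ι ι F}
    (hA : Module.End.IsSemisimple (Matrix.toLin' A)) {r : F} (hr : r ≠ 0) :
    ∃ T : (Matrix ι ι F)ˣ, (T : Matrix ι ι F) * A = A * (T : Matrix ι ι F) ∧ (T : Matrix ι ι F).det = r := by
  obtain ⟨t, ht, hd⟩ := exists_commute_det (Matrix.toLin' A) hA (by simp) (r := r)
  have hdet : (LinearMap.toMatrix' t).det = r := by rw [LinearMap.det_toMatrix', hd]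
  refine ⟨(Matrix.isUnit_iff_isUnit_det _).2 (hdet ▸ isUnit_iff_ne_zero.2 hr) |>.unit, ?_, hdet⟩
  apply Matrix.toLin'.injective
  simp only [IsUnit.unit_spec, Matrix.toLin'_mul, Matrix.toLin'_toMatrix']
  exact ht

theorem charpoly_pow_char_pow {p : ℕ} [Fact p.Prime] [CharP F p] (A : Matrix ι ι F) (k : ℕ) :
    A.charpoly ^ p ^ k = (Matrix.scalar ι (X ^ p ^ k : F[X]) - C.mapMatrix (A ^ p ^ k)).det := by
  rcases isEmpty_or_nonempty ι with hι | hι
  · simp [Matrix.charpoly]
  rw [Matrix.charpoly, ← Matrix.det_pow, Matrix.charmatrix,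
    sub_pow_char_pow_of_commute (p := p) _ (Matrix.scalar_commute _ (fun _ => Commute.all _ _) _),
    ← map_pow, ← map_pow]

theorem charpoly_eq_of_pow_eq {p : ℕ} [Fact p.Prime] [CharP F p] {A B : Matrix ι ι F} {k : ℕ}
    (h : A ^ p ^ k = B ^ p ^ k) : A.charpoly = B.charpoly := by
  apply iterateFrobenius_inj F[X] p k
  simp only [iterateFrobenius_def, charpoly_pow_char_pow, h]

end Matrices

/-! ### Elements of order prime to `p` -/

section Regular

variable {G : Type*} [Group G] [Finite G]

/-- A power of `g` of order prime to `p` with the same `p ^ k`-th power. -/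
theorem exists_regular_part (p : ℕ) [Fact p.Prime] (g : G) :
    ∃ (a k : ℕ), (orderOf (g ^ a)).Coprime p ∧ (g ^ a) ^ p ^ k = g ^ p ^ k := by
  obtain ⟨k, m, hm, hd⟩ := Nat.exists_eq_pow_mul_and_not_dvd (orderOf_pos g).ne' p (Fact.out : p.Prime).ne_one
  have hcop : (p ^ k).Coprime m :=
    Nat.Coprime.pow_left k ((Fact.out : p.Prime).coprime_iff_not_dvd.2 hm)
  obtain ⟨a, ha1, ha2⟩ := Nat.chineseRemainder hcop 0 1
  refine ⟨a, k, ?_, ?_⟩
  · have hdvd : orderOf (g ^ a) ∣ m := by
      rw [orderOf_dvd_iff_pow_eq_one, ← pow_mul, ← orderOf_dvd_iff_pow_eq_one, hd]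
      exact Nat.mul_dvd_mul_right (Nat.modEq_zero_iff_dvd.1 ha1) m
    exact Nat.Coprime.coprime_dvd_left hdvd ((Fact.out : p.Prime).coprime_iff_not_dvd.2 hm).symm
  · rw [← pow_mul, pow_eq_pow_iff_modEq, hd, mul_comm (p ^ k) m]
    have := Nat.ModEq.mul_right' (p ^ k) ha2
    rwa [one_mul] at this

end Regular

/-- Every monic polynomial of degree `n` is the characteristic polynomial of a matrix. -/
theorem exists_matrix_charpoly {n : ℕ} (f : F[X]) (hf : f.Monic) (hd : f.natDegree = n) :
    ∃ A : Matrix (Fin n) (Fin n) F, A.charpoly = f := by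
  let pb := AdjoinRoot.powerBasis' hf
  have hdim : pb.dim = n := hd
  refine ⟨Matrix.reindex (finCongr hdim) (finCongr hdim) (Algebra.leftMulMatrix pb.basis pb.gen), ?_⟩
  rw [Matrix.charpoly_reindex, charpoly_leftMulMatrix, AdjoinRoot.powerBasis'_gen,
    AdjoinRoot.minpoly_root hf.ne_zero, hf.leadingCoeff, inv_one, map_one, mul_one]

/-! ### Coordinates of the characteristic polynomial -/

/-- The coefficients below the leading one. -/
noncomputable def charCoeffs {n : ℕ} (A : Matrix (Fin n) (Fin n) F) : Fin n → F :=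
  fun i => A.charpoly.coeff i.val

theorem charpoly_eq_of_charCoeffs_eq {n : ℕ} {A B : Matrix (Fin n) (Fin n) F}
    (h : charCoeffs A = charCoeffs B) : A.charpoly = B.charpoly := by
  have hd : ∀ M : Matrix (Fin n) (Fin n) F, M.charpoly.natDegree = n := fun M => by
    rw [Matrix.charpoly_natDegree_eq_dim, Fintype.card_fin]
  ext k
  rcases lt_trichotomy k n with hk | hk | hk
  · exact congrFun h ⟨k, hk⟩
  · subst hk
    conv_lhs => arg 2; rw [← hd A]
    conv_rhs => arg 2; rw [← hd B]
    exact (Matrix.charpoly_monic A).leadingCoeff.trans (Matrix.charpoly_monic B).leadingCoeff.symm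
  · rw [coeff_eq_zero_of_natDegree_lt (by rw [hd]; exact hk), coeff_eq_zero_of_natDegree_lt (by rw [hd]; exact hk)]

theorem exists_charCoeffs {n : ℕ} (v : Fin n → F) :
    ∃ A : Matrix (Fin n) (Fin n) F, charCoeffs A = v := by
  have hlt := degree_sum_fin_lt v
  obtain ⟨A, hA⟩ := exists_matrix_charpoly (X ^ n + ∑ i : Fin n, C (v i) * X ^ (i : ℕ))
    (monic_X_pow_add hlt) (natDegree_eq_of_degree_eq_some (n := n) (by
      rw [degree_add_eq_left_of_degree_lt (by rwa [degree_X_pow]), degree_X_pow]))
  refine ⟨A, funext fun i => ?_⟩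
  change A.charpoly.coeff i.val = v i
  rw [hA, coeff_add, coeff_X_pow, if_neg i.isLt.ne, zero_add, finsetSum_coeff]
  simp [coeff_C_mul, coeff_X_pow, Fin.val_inj]

theorem charpoly_eq_of_isConj_val {G : Type*} [Group G] {ι : Type*} [Fintype ι] [DecidableEq ι]
    (φ : G →* (Matrix ι ι F)ˣ) {g h : G} (hgh : IsConj g h) :
    (φ g : Matrix ι ι F).charpoly = (φ h : Matrix ι ι F).charpoly := by
  obtain ⟨c, rfl⟩ := isConj_iff.1 hgh
  rw [map_mul, map_mul, map_inv, Units.val_mul, Units.val_mul, Matrix.coe_units_inv,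
    Matrix.charpoly_units_conj]

/-- Conjugacy classes inside `GL_n` are counted by the coefficient vectors of their characteristic
polynomials when these determine the class. -/
theorem card_classes {n : ℕ} {G : Type*} [Group G] [Finite G] {p : ℕ} [Fact p.Prime] [CharP F p]
    (φ : G →* (Matrix (Fin n) (Fin n) F)ˣ) (T : (Fin n → F) → Prop)
    (hT : ∀ g : G, T (charCoeffs (φ g : Matrix (Fin n) (Fin n) F)))
    (hsurj : ∀ v, T v → ∃ g : G, charCoeffs (φ g : Matrix (Fin n) (Fin n) F) = v)
    (hinj : ∀ g h : G, (orderOf g).Coprime p → (orderOf h).Coprime p →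
      (φ g : Matrix (Fin n) (Fin n) F).charpoly = (φ h : Matrix (Fin n) (Fin n) F).charpoly → IsConj g h) :
    Nat.card {c : ConjClasses G // ∃ g : G, ConjClasses.mk g = c ∧ (orderOf g).Coprime p} =
      Nat.card {v : Fin n → F // T v} := by
  refine Nat.card_congr (Equiv.ofBijective
    (fun c => ⟨charCoeffs (φ c.2.choose : Matrix (Fin n) (Fin n) F), hT _⟩) ⟨?_, ?_⟩)
  · intro c d h
    have h1 := c.2.choose_spec
    have h2 := d.2.choose_spec
    apply Subtype.ext
    rw [← h1.1, ← h2.1, ConjClasses.mk_eq_mk_iff_isConj]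
    exact hinj _ _ h1.2 h2.2 (charpoly_eq_of_charCoeffs_eq (congrArg Subtype.val h))
  · rintro ⟨v, hv⟩
    obtain ⟨g, hg⟩ := hsurj v hv
    obtain ⟨a, k, hcop, hpow⟩ := exists_regular_part p g
    let c : {c : ConjClasses G // ∃ g : G, ConjClasses.mk g = c ∧ (orderOf g).Coprime p} :=
      ⟨ConjClasses.mk (g ^ a), g ^ a, rfl, hcop⟩
    refine ⟨c, Subtype.ext ?_⟩
    refine Eq.trans ?_ hg
    funext i
    refine congrArg (fun q => Polynomial.coeff q i.val)
      ((charpoly_eq_of_isConj_val φ (ConjClasses.mk_eq_mk_iff_isConj.1 c.2.choose_spec.1)).trans ?_)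
    refine charpoly_eq_of_pow_eq (p := p) (k := k) ?_
    rw [← Units.val_pow_eq_pow_val, ← Units.val_pow_eq_pow_val, ← map_pow, ← map_pow, hpow]

theorem isSemisimple_of_coprime {p : ℕ} [Fact p.Prime] [CharP F p] {ι : Type*} [Fintype ι]
    [DecidableEq ι] {G : Type*} [Group G] (φ : G →* (Matrix ι ι F)ˣ) {g : G}
    (hg : (orderOf g).Coprime p) :
    Module.End.IsSemisimple (Matrix.toLin' (φ g : Matrix ι ι F)) := by
  refine isSemisimple_of_pow_eq_one (m := orderOf g) ?_ ?_
  · rw [Ne, CharP.cast_eq_zero_iff F p]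
    exact ((Fact.out : p.Prime).coprime_iff_not_dvd.1 hg.symm)
  · rw [← Units.val_pow_eq_pow_val, ← map_pow, pow_orderOf_eq_one, map_one, Units.val_one]

end Cfsg.Agent.SemisimpleConjGL
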