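import Mathlib

/-!
Square-zero endomorphisms are classified by their rank; conjugating elements of every determinant
that is a square.
-/

set_option autoImplicit false

open Module

namespace Cfsg.Agent.SquareZeroConj

variable {F V : Type*} [Field F] [AddCommGroup V] [Module F V] [FiniteDimensional F V]

/-- A square-zero endomorphism of rank `l` has a basis `u_i, N u_i, w_j`. -/
theorem exists_basis (N : V →ₗ[F] V) (hN : N ∘ₗ N = 0) (l r : ℕ)
    (hl : finrank F (LinearMap.range N) = l) (hr : 2 * l + r = finrank F V) :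
    ∃ e : Basis (Fin l ⊕ Fin l ⊕ Fin r) F V,
      (∀ i, N (e (.inl i)) = e (.inr (.inl i))) ∧ (∀ i, N (e (.inr i)) = 0) := by
  have hNN : ∀ x, N (N x) = 0 := fun x => LinearMap.congr_fun hN x
  set K := LinearMap.ker N
  set R := LinearMap.range N
  have hRK : R ≤ K := by rintro _ ⟨x, rfl⟩; exact hNN x
  obtain ⟨U, hU⟩ := exists_isCompl K
  obtain ⟨W', hW'⟩ := exists_isCompl R
  have hdimU : finrank F U = l := by
    have h1 := Submodule.finrank_add_eq_of_isCompl hU
    have h2 : finrank F ↥R + finrank F ↥K = finrank F V :=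
      LinearMap.finrank_range_add_finrank_ker N
    rw [hl] at h2
    omega
  let W : Submodule F V := W' ⊓ K
  have hdimW : finrank F W = r := by
    have hsup : R ⊔ W = K := by
      show R ⊔ W' ⊓ K = K
      rw [← sup_inf_assoc_of_le W' hRK, hW'.sup_eq_top, top_inf_eq]
    have hinf : R ⊓ W = ⊥ := by
      show R ⊓ (W' ⊓ K) = ⊥
      rw [← inf_assoc, hW'.inf_eq_bot, bot_inf_eq]
    have h1 := Submodule.finrank_sup_add_finrank_inf_eq R W
    rw [hsup, hinf, finrank_bot, hl] at h1
    have h2 : finrank F ↥R + finrank F ↥K = finrank F V :=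
      LinearMap.finrank_range_add_finrank_ker N
    rw [hl] at h2
    omega
  let bU : Basis (Fin l) F U := Module.finBasisOfFinrankEq F U hdimU
  let bW : Basis (Fin r) F W := Module.finBasisOfFinrankEq F W hdimW
  let v : Fin l ⊕ Fin l ⊕ Fin r → V :=
    Sum.elim (fun i => (bU i : V)) (Sum.elim (fun i => N (bU i)) (fun j => (bW j : V)))
  have hv : LinearIndependent F v := by
    rw [Fintype.linearIndependent_iff]
    intro c hc
    simp only [Fintype.sum_sum_type, v, Sum.elim_inl, Sum.elim_inr] at hc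
    have hWN : ∀ j, N (bW j) = 0 := fun j => LinearMap.mem_ker.1 (bW j).2.2
    have hu : ∑ i, c (.inl i) • (bU i : V) = 0 := by
      have h1 : N (∑ i, c (.inl i) • (bU i : V)) = 0 := by
        have := congrArg N hc
        simpa [map_add, map_sum, map_smul, hNN, hWN] using this
      have h2 : ∑ i, c (.inl i) • (bU i : V) ∈ U :=
        Submodule.sum_mem _ fun i _ => U.smul_mem _ (bU i).2
      have := Submodule.mem_inf.2 ⟨LinearMap.mem_ker.2 h1, h2⟩
      rw [hU.inf_eq_bot] at this
      simpa using this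
    have hu0 : ∀ i, c (.inl i) = 0 := Fintype.linearIndependent_iff.1 bU.linearIndependent _
      (Subtype.ext (by simpa using hu))
    rw [hu, zero_add] at hc
    have hw : ∑ j, c (.inr (.inr j)) • (bW j : V) = 0 := by
      have h2 : ∑ j, c (.inr (.inr j)) • (bW j : V) ∈ W :=
        Submodule.sum_mem _ fun i _ => W.smul_mem _ (bW i).2
      have h1 : ∑ j, c (.inr (.inr j)) • (bW j : V) ∈ R := by
        rw [eq_neg_of_add_eq_zero_right hc]
        exact R.neg_mem (Submodule.sum_mem _ fun i _ => R.smul_mem _ ⟨_, rfl⟩)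
      have := Submodule.mem_inf.2 ⟨h1, h2.1⟩
      rw [hW'.inf_eq_bot] at this
      simpa using this
    rw [hw, add_zero] at hc
    have hw0 : ∀ i, c (.inr (.inr i)) = 0 := Fintype.linearIndependent_iff.1 bW.linearIndependent _
      (Subtype.ext (by simpa using hw))
    have hn0 : ∀ i, c (.inr (.inl i)) = 0 := by
      refine Fintype.linearIndependent_iff.1 bU.linearIndependent _ (Subtype.ext ?_)
      have h1 : N (∑ i, c (.inr (.inl i)) • (bU i : V)) = 0 := by
        simpa [map_sum, map_smul] using hc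
      have h2 : ∑ i, c (.inr (.inl i)) • (bU i : V) ∈ U :=
        Submodule.sum_mem _ fun i _ => U.smul_mem _ (bU i).2
      have := Submodule.mem_inf.2 ⟨LinearMap.mem_ker.2 h1, h2⟩
      rw [hU.inf_eq_bot] at this
      simpa using this
    rintro (i | i | i)
    · exact hu0 i
    · exact hn0 i
    · exact hw0 i
  rcases isEmpty_or_nonempty (Fin l ⊕ Fin l ⊕ Fin r) with hE | hE
  · have h0 : Fintype.card (Fin l ⊕ Fin l ⊕ Fin r) = finrank F V := by
      simp only [Fintype.card_sum, Fintype.card_fin]; omega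
    refine ⟨(Module.finBasis F V).reindex (Fintype.equivOfCardEq (by simpa using h0.symm)), ?_, ?_⟩
    · intro i; exact (IsEmpty.false (Sum.inl i : Fin l ⊕ Fin l ⊕ Fin r)).elim
    · intro i; exact (IsEmpty.false (Sum.inr i : Fin l ⊕ Fin l ⊕ Fin r)).elim
  · refine ⟨basisOfLinearIndependentOfCardEqFinrank hv
      (by simp only [Fintype.card_sum, Fintype.card_fin]; omega), ?_, ?_⟩
    · intro i; simp [v]
    · rintro (i | i)
      · simp [v, hNN]
      · simpa [v] using LinearMap.mem_ker.1 (bW i).2.2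

theorem finrank_range_bound (N : V →ₗ[F] V) (hN : N ∘ₗ N = 0) :
    2 * finrank F (LinearMap.range N) ≤ finrank F V := by
  have h2 := LinearMap.finrank_range_add_finrank_ker N
  have hRK : LinearMap.range N ≤ LinearMap.ker N := by
    rintro _ ⟨x, rfl⟩; exact LinearMap.congr_fun hN x
  have := Submodule.finrank_mono hRK
  omega

/-- Two square-zero maps of the same rank are intertwined by a map of determinant 1,
if every element of the field is a square. -/
theorem exists_intertwine (hsq : ∀ x : F, ∃ c, c * c = x) (N M : V →ₗ[F] V)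
    (hN : N ∘ₗ N = 0) (hM : M ∘ₗ M = 0) (hN0 : N ≠ 0)
    (h : finrank F (LinearMap.range N) = finrank F (LinearMap.range M)) :
    ∃ T : V →ₗ[F] V, LinearMap.det T = 1 ∧ T ∘ₗ N = M ∘ₗ T := by
  classical
  obtain ⟨l, hl⟩ : ∃ l, finrank F (LinearMap.range N) = l := ⟨_, rfl⟩
  have hb := finrank_range_bound N hN
  obtain ⟨r, hr⟩ : ∃ r, 2 * l + r = finrank F V := ⟨_, Nat.add_sub_cancel' (hl ▸ hb)⟩
  obtain ⟨a, ha1, ha2⟩ := exists_basis N hN l r hl hr
  obtain ⟨b, hb1, hb2⟩ := exists_basis M hM l r (h ▸ hl) hr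
  have hlpos : 0 < l := by
    rw [← hl]
    by_contra h0
    exact hN0 (LinearMap.range_eq_bot.1 (Submodule.finrank_eq_zero.1 (by omega)))
  let T0 : V ≃ₗ[F] V := a.equiv b (Equiv.refl _)
  have hdet0 : LinearMap.det (T0 : V →ₗ[F] V) ≠ 0 := T0.isUnit_det'.ne_zero
  obtain ⟨c, hc⟩ := hsq (LinearMap.det (T0 : V →ₗ[F] V))⁻¹
  let e : Fin l → F := fun i => if i = ⟨0, hlpos⟩ then c else 1
  let d : Fin l ⊕ Fin l ⊕ Fin r → F := Sum.elim e (Sum.elim e (fun _ => 1))
  let D : V →ₗ[F] V := Matrix.toLin a a (Matrix.diagonal d)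
  have hD : ∀ i, D (a i) = d i • a i := by
    intro i
    simp [D, Matrix.toLin_self, Matrix.diagonal_apply]
  have hT : ∀ i, (T0 : V →ₗ[F] V) (D (a i)) = d i • b i := by
    intro i
    rw [hD, map_smul]
    simp [T0]
  refine ⟨(T0 : V →ₗ[F] V) ∘ₗ D, ?_, ?_⟩
  · rw [LinearMap.det_comp, LinearMap.det_toLin, Matrix.det_diagonal]
    simp only [Fintype.prod_sum_type, d, e, Sum.elim_inl, Sum.elim_inr, Finset.prod_ite_eq',
      Finset.mem_univ, if_true, Finset.prod_const_one, mul_one]
    rw [hc, mul_inv_cancel₀ hdet0]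
  · refine a.ext fun i => ?_
    simp only [LinearMap.comp_apply]
    rcases i with i | i
    · rw [ha1, hT, hT, map_smul, hb1]
      rfl
    · rw [ha2, hT, map_smul, hb2, map_zero, map_zero, smul_zero]

end Cfsg.Agent.SquareZeroConj
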