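import Mathlib
import Cfsg.Agent.Lib.SemisimpleConjGL
import Cfsg.Agent.Lib.SquareZeroConj

/-!
Matrices of determinant one whose square is scalar: classification up to conjugation by matrices of
determinant one, and the arithmetic deciding which types occur.
-/

set_option autoImplicit false

open Polynomial Matrix

namespace Cfsg.Agent.SLInvolutions68

universe u

variable {F : Type u} [Field F]

/-! ### Polynomials with prescribed irreducible factors -/

theorem eq_pow_mul_pow : ∀ (k : ℕ) (f A B : F[X]), f.Monic → f.natDegree ≤ k →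
    (∀ g : F[X], g.Monic → Irreducible g → g ∣ f → g = A ∨ g = B) → ∃ i j : ℕ, f = A ^ i * B ^ j := by
  intro k
  induction k with
  | zero =>
    intro f A B hf hk _
    exact ⟨0, 0, by simpa using hf.natDegree_eq_zero.mp (Nat.le_zero.mp hk)⟩
  | succ k ih =>
    intro f A B hf hk h
    by_cases h0 : f.natDegree = 0
    · exact ⟨0, 0, by simpa using hf.natDegree_eq_zero.mp h0⟩
    obtain ⟨g, hgm, hg, hgd⟩ := Polynomial.exists_monic_irreducible_factor f
      (fun hu => h0 (natDegree_eq_zero_of_isUnit hu))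
    obtain ⟨f', hf'⟩ := hgd
    have hm' : f'.Monic := hgm.of_mul_monic_left (hf' ▸ hf)
    have hdeg : f.natDegree = g.natDegree + f'.natDegree := by rw [hf', hgm.natDegree_mul hm']
    have := hg.natDegree_pos
    obtain ⟨i, j, hij⟩ := ih f' A B hm' (by omega) fun g' h1 h2 h3 =>
      h g' h1 h2 (hf' ▸ h3.mul_left g)
    rcases h g hgm hg (hf' ▸ dvd_mul_right g f') with hh | hh
    · exact ⟨i + 1, j, by rw [hf', hij, hh]; ring⟩
    · exact ⟨i, j + 1, by rw [hf', hij, hh]; ring⟩

/-! ### Conjugation -/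

section Conj

variable {ι : Type} [Fintype ι] [DecidableEq ι]

theorem dvd_of_factor {A : Matrix ι ι F} {h g : F[X]} (hh : aeval A h = 0) (hg : Irreducible g)
    (hd : g ∣ A.charpoly) : g ∣ h := by
  have h0 : aeval (Matrix.toLin' A) h = 0 := by
    rw [show Matrix.toLin' A = Matrix.toLinAlgEquiv' A from rfl, aeval_algHom_apply, hh, map_zero]
  obtain ⟨v, hv0, hv⟩ := SemisimpleConjGL.exists_ker_of_dvd_charpoly (Matrix.toLin' A) hg
    (by rwa [Matrix.charpoly_toLin'])
  by_contra hn
  obtain ⟨a, b, hab⟩ := hg.coprime_iff_not_dvd.2 hn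
  have h1 := congrArg (fun P => aeval (Matrix.toLin' A) P v) hab
  simp [Module.End.mul_apply, hv, h0] at h1
  exact hv0 h1.symm

theorem semisimple_of_squarefree {A : Matrix ι ι F} {h : F[X]} (hs : Squarefree h) (hh : aeval A h = 0) :
    Module.End.IsSemisimple (Matrix.toLin' A) :=
  Module.End.isSemisimple_of_squarefree_aeval_eq_zero (p := h) hs (by
    rw [show Matrix.toLin' A = Matrix.toLinAlgEquiv' A from rfl, aeval_algHom_apply, hh, map_zero])

theorem aeval_sq {A : Matrix ι ι F} {z : F} (hA : A * A = z • 1) : aeval A (X ^ 2 - C z) = 0 := by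
  rw [map_sub, map_pow, aeval_X, aeval_C, sq, hA, Algebra.algebraMap_eq_smul_one, sub_self]

theorem semisimple_of_sq (h2 : (2 : F) ≠ 0) {A : Matrix ι ι F} {z : F} (hz : z ≠ 0) (hA : A * A = z • 1) :
    Module.End.IsSemisimple (Matrix.toLin' A) :=
  semisimple_of_squarefree (separable_X_pow_sub_C z (by exact_mod_cast h2) hz).squarefree (aeval_sq hA)

/-- Semisimple matrices with the same characteristic polynomial are conjugate under determinant one. -/
theorem exists_sl_conj [Finite F] [Nonempty ι] {A B : Matrix ι ι F}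
    (hA : Module.End.IsSemisimple (Matrix.toLin' A)) (hB : Module.End.IsSemisimple (Matrix.toLin' B))
    (h : A.charpoly = B.charpoly) :
    ∃ P : Matrix.SpecialLinearGroup ι F, ((P⁻¹ : Matrix.SpecialLinearGroup ι F) : Matrix ι ι F) * A * (P : Matrix ι ι F) = B := by
  obtain ⟨P, hP⟩ := SemisimpleConjGL.exists_gl_conj hA hB h
  have hdP : (P : Matrix ι ι F).det ≠ 0 := ((Matrix.isUnit_iff_isUnit_det _).1 P.isUnit).ne_zero
  obtain ⟨T, hT, hTd⟩ := SemisimpleConjGL.exists_gl_commute_det hB (inv_ne_zero hdP)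
  have hd : ((T : Matrix ι ι F) * (P : Matrix ι ι F)).det = 1 := by rw [Matrix.det_mul, hTd, inv_mul_cancel₀ hdP]
  let Q : Matrix.SpecialLinearGroup ι F := ⟨(T : Matrix ι ι F) * (P : Matrix ι ι F), hd⟩
  have hQ : (Q : Matrix ι ι F) * A = B * (Q : Matrix ι ι F) := by
    show (T : Matrix ι ι F) * (P : Matrix ι ι F) * A = B * ((T : Matrix ι ι F) * (P : Matrix ι ι F))
    rw [mul_assoc, hP, ← mul_assoc, hT, mul_assoc]
  refine ⟨Q⁻¹, ?_⟩
  rw [inv_inv, hQ, mul_assoc, ← Matrix.SpecialLinearGroup.coe_mul, mul_inv_cancel,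
    Matrix.SpecialLinearGroup.coe_one, mul_one]

theorem charpoly_eq_pow {g : F[X]} (hg : Irreducible g) (hm : g.Monic) {A : Matrix ι ι F}
    (hA : aeval A g = 0) : ∃ m, g.natDegree * m = Fintype.card ι ∧ A.charpoly = g ^ m := by
  obtain ⟨i, j, h⟩ := eq_pow_mul_pow _ A.charpoly g g (Matrix.charpoly_monic A) le_rfl
    fun g' h1 h2 h3 => .inl (eq_of_monic_of_associated h1 hm
      (h2.associated_of_dvd hg (dvd_of_factor hA h2 h3)))
  rw [← pow_add] at h
  refine ⟨i + j, ?_, h⟩
  have := congrArg Polynomial.natDegree h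
  rw [Matrix.charpoly_natDegree_eq_dim, natDegree_pow] at this
  rw [this, mul_comm]

/-- Matrices annihilated by the same irreducible polynomial are conjugate. -/
theorem conj_of_irreducible [Finite F] [Nonempty ι] {g : F[X]} (hg : Irreducible g) (hm : g.Monic)
    {A B : Matrix ι ι F} (hA : aeval A g = 0) (hB : aeval B g = 0) :
    ∃ P : Matrix.SpecialLinearGroup ι F, ((P⁻¹ : Matrix.SpecialLinearGroup ι F) : Matrix ι ι F) * A * (P : Matrix ι ι F) = B := by
  obtain ⟨a, ha, ha'⟩ := charpoly_eq_pow hg hm hA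
  obtain ⟨b, hb, hb'⟩ := charpoly_eq_pow hg hm hB
  have hab : a = b := Nat.eq_of_mul_eq_mul_left hg.natDegree_pos (ha.trans hb.symm)
  exact exists_sl_conj (semisimple_of_squarefree hg.squarefree hA)
    (semisimple_of_squarefree hg.squarefree hB) (by rw [ha', hb', hab])

theorem nonsplit_poly {z : F} (hz : ¬ IsSquare z) :
    Irreducible (X ^ 2 - C z) ∧ (X ^ 2 - C z).Monic ∧ (X ^ 2 - C z).natDegree = 2 :=
  ⟨X_pow_sub_C_irreducible_of_prime Nat.prime_two fun b hb => hz ⟨b, by rw [← hb, sq]⟩,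
    monic_X_pow_sub_C z two_ne_zero, natDegree_X_pow_sub_C⟩

theorem nonsplit_conj [Finite F] [Nonempty ι] {z : F} (hz : ¬ IsSquare z) {A B : Matrix ι ι F}
    (hA : A * A = z • 1) (hB : B * B = z • 1) :
    ∃ P : Matrix.SpecialLinearGroup ι F, ((P⁻¹ : Matrix.SpecialLinearGroup ι F) : Matrix ι ι F) * A * (P : Matrix ι ι F) = B :=
  conj_of_irreducible (nonsplit_poly hz).1 (nonsplit_poly hz).2.1 (aeval_sq hA) (aeval_sq hB)

theorem nonsplit_det {z : F} (hz : ¬ IsSquare z) {A : Matrix ι ι F} (hA : A * A = z • 1) :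
    ∃ m, 2 * m = Fintype.card ι ∧ A.det = (-z) ^ m := by
  obtain ⟨hg, hgm, hgd⟩ := nonsplit_poly hz
  obtain ⟨m, hm, hc⟩ := charpoly_eq_pow hg hgm (aeval_sq hA)
  rw [hgd] at hm
  refine ⟨m, hm, ?_⟩
  rw [Matrix.det_eq_sign_charpoly_coeff, coeff_zero_eq_eval_zero, hc, ← hm, pow_mul]
  simp

theorem split_charpoly {c : F} {A : Matrix ι ι F} (hA : A * A = (c * c) • 1) :
    ∃ a b : ℕ, a + b = Fintype.card ι ∧ A.charpoly = (X - C c) ^ a * (X + C c) ^ b ∧
      A.det = c ^ (a + b) * (-1) ^ b := by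
  have h0 : aeval A ((X - C c) * (X + C c)) = 0 := by
    rw [show (X - C c) * (X + C c) = X ^ 2 - C (c * c) by rw [C_mul]; ring]
    exact aeval_sq hA
  obtain ⟨a, b, h⟩ := eq_pow_mul_pow _ A.charpoly (X - C c) (X + C c) (Matrix.charpoly_monic A) le_rfl
    fun g hgm hg hd => by
      rcases hg.prime.dvd_or_dvd (dvd_of_factor h0 hg hd) with h1 | h1
      · exact .inl (eq_of_monic_of_associated hgm (monic_X_sub_C c)
          (hg.associated_of_dvd (irreducible_X_sub_C c) h1))
      · refine .inr (eq_of_monic_of_associated hgm (monic_X_add_C c)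
          (hg.associated_of_dvd ?_ h1))
        simpa using irreducible_X_sub_C (-c)
  have hd := congrArg Polynomial.natDegree h
  rw [Matrix.charpoly_natDegree_eq_dim, ((monic_X_sub_C c).pow a).natDegree_mul ((monic_X_add_C c).pow b),
    natDegree_pow, natDegree_pow, natDegree_X_sub_C, natDegree_X_add_C, mul_one, mul_one] at hd
  refine ⟨a, b, hd.symm, h, ?_⟩
  rw [Matrix.det_eq_sign_charpoly_coeff, coeff_zero_eq_eval_zero, h, hd, eval_mul, eval_pow, eval_pow,
    eval_sub, eval_add, eval_X, eval_C, zero_sub, zero_add, neg_pow c, pow_add, pow_add]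
  have : ((-1 : F) ^ a) * (-1) ^ a = 1 := by rw [← mul_pow, neg_one_mul, neg_neg, one_pow]
  linear_combination (c ^ a * c ^ b * (-1 : F) ^ b) * this

theorem charpoly_diagonal_two (d : ι → Prop) [DecidablePred d] (c : F) :
    (Matrix.diagonal fun i => if d i then -c else c).charpoly =
      (X - C c) ^ (Finset.univ.filter fun i => ¬ d i).card *
        (X + C c) ^ (Finset.univ.filter fun i => d i).card := by
  rw [Matrix.charpoly_diagonal, ← Finset.prod_const, ← Finset.prod_const,
    ← Finset.prod_filter_mul_prod_filter_not Finset.univ d, mul_comm]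
  congr 1 <;> refine Finset.prod_congr rfl fun i hi => ?_ <;> rw [Finset.mem_filter] at hi
  · rw [if_neg hi.2]
  · rw [if_pos hi.2, C_neg, sub_neg_eq_add]

/-- An element with scalar square `c²` is conjugate to each diagonal matrix with the same multiplicities. -/
theorem split_conj [Finite F] [Nonempty ι] (h2 : (2 : F) ≠ 0) {c : F} (hc : c ≠ 0) {A : Matrix ι ι F}
    (hA : A * A = (c * c) • 1) {a b : ℕ} (hab : a + b = Fintype.card ι)
    (hcp : A.charpoly = (X - C c) ^ a * (X + C c) ^ b)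
    (d : ι → Prop) [DecidablePred d] (hd : (Finset.univ.filter fun i => d i).card = b) :
    ∃ P : Matrix.SpecialLinearGroup ι F, ((P⁻¹ : Matrix.SpecialLinearGroup ι F) : Matrix ι ι F) * A * (P : Matrix ι ι F) =
      Matrix.diagonal fun i => if d i then -c else c := by
  have hB : (Matrix.diagonal fun i => if d i then -c else c) * (Matrix.diagonal fun i => if d i then -c else c)
      = (c * c) • (1 : Matrix ι ι F) := by
    rw [Matrix.diagonal_mul_diagonal, ← Matrix.diagonal_one, ← Matrix.diagonal_smul]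
    refine congrArg Matrix.diagonal (funext fun i => ?_)
    by_cases h : d i <;> simp [h]
  refine exists_sl_conj (semisimple_of_sq h2 (mul_ne_zero hc hc) hA)
    (semisimple_of_sq h2 (mul_ne_zero hc hc) hB) ?_
  have hn : (Finset.univ.filter fun i => ¬ d i).card = a := by
    have := Finset.card_filter_add_card_filter_not (s := (Finset.univ : Finset ι)) d
    rw [hd, Finset.card_univ, ← hab] at this
    omega
  rw [hcp, charpoly_diagonal_two, hd, hn]

theorem conj_sq_scalar (P : Matrix.SpecialLinearGroup ι F) {A B : Matrix ι ι F} {z : F}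
    (hA : A * A = z • 1)
    (h : ((P⁻¹ : Matrix.SpecialLinearGroup ι F) : Matrix ι ι F) * A * (P : Matrix ι ι F) = B) : B * B = z • 1 := by
  set Q : Matrix ι ι F := ((P⁻¹ : Matrix.SpecialLinearGroup ι F) : Matrix ι ι F) with hQ
  have h1 : (P : Matrix ι ι F) * Q = 1 := by
    rw [hQ, ← Matrix.SpecialLinearGroup.coe_mul, mul_inv_cancel, Matrix.SpecialLinearGroup.coe_one]
  have h2 : Q * (P : Matrix ι ι F) = 1 := by
    rw [hQ, ← Matrix.SpecialLinearGroup.coe_mul, inv_mul_cancel, Matrix.SpecialLinearGroup.coe_one]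
  calc B * B = Q * (A * ((P : Matrix ι ι F) * Q) * A) * (P : Matrix ι ι F) := by rw [← h]; simp only [mul_assoc]
    _ = z • 1 := by rw [h1, mul_one, hA, Matrix.mul_smul, mul_one, Matrix.smul_mul, h2]

/-- Conjugating a scalar matrix changes nothing. -/
theorem split_scalar [Finite F] [Nonempty ι] (h2 : (2 : F) ≠ 0) {c : F} (hc : c ≠ 0) {A : Matrix ι ι F}
    (hA : A * A = (c * c) • 1) {a b : ℕ} (hab : a + b = Fintype.card ι)
    (hcp : A.charpoly = (X - C c) ^ a * (X + C c) ^ b)
    (hns : ∀ z : F, A ≠ z • (1 : Matrix ι ι F)) : 0 < a ∧ 0 < b := by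
  have key : ∀ (d : ι → Prop) [DecidablePred d] (e : F),
      (Finset.univ.filter fun i => d i).card = b → (∀ i, (if d i then -c else c) = e) → False := by
    intro d _ e hd he
    obtain ⟨P, hP⟩ := split_conj h2 hc hA hab hcp d hd
    rw [funext he, ← Matrix.smul_one_eq_diagonal] at hP
    apply hns e
    calc A = (P : Matrix ι ι F) * (((P⁻¹ : Matrix.SpecialLinearGroup ι F) : Matrix ι ι F) * A * (P : Matrix ι ι F))
          * ((P⁻¹ : Matrix.SpecialLinearGroup ι F) : Matrix ι ι F) := by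
          simp only [← mul_assoc, ← Matrix.SpecialLinearGroup.coe_mul, mul_inv_cancel,
            Matrix.SpecialLinearGroup.coe_one, one_mul]
          simp only [mul_assoc, ← Matrix.SpecialLinearGroup.coe_mul, mul_inv_cancel,
            Matrix.SpecialLinearGroup.coe_one, mul_one]
      _ = e • 1 := by
          rw [hP, Matrix.mul_smul, mul_one, Matrix.smul_mul, ← Matrix.SpecialLinearGroup.coe_mul,
            mul_inv_cancel, Matrix.SpecialLinearGroup.coe_one]
  constructor
  · by_contra h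
    exact key (fun _ => True) (-c) (by simp; omega) (by simp)
  · by_contra h
    exact key (fun _ => False) c (by simp; omega) (by simp)

/-- In characteristic two a non-scalar matrix with scalar square is `c (1 + N)` with `N² = 0`. -/
theorem char_two_form [Finite F] [CharP F 2] {A : Matrix ι ι F} {z : F} (hA : A * A = z • 1) (hdet : A.det ≠ 0)
    (hns : ∀ e : F, A ≠ e • (1 : Matrix ι ι F)) :
    ∃ (c : F) (N : Matrix ι ι F), c ≠ 0 ∧ N ≠ 0 ∧ N * N = 0 ∧ A = c • (1 + N) := by
  obtain ⟨c, hc⟩ := FiniteField.isSquare_of_char_two (ringChar.eq F 2) z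
  have hne : Nonempty ι := by
    by_contra h
    haveI := not_nonempty_iff.1 h
    exact hns 0 (Subsingleton.elim _ _)
  have hc0 : c ≠ 0 := by
    rintro rfl
    refine hdet (pow_eq_zero_iff (two_ne_zero) |>.1 ?_)
    rw [sq, ← Matrix.det_mul, hA, hc, mul_zero, zero_smul, Matrix.det_zero]
  have hN : A = c • (1 + (c⁻¹ • A - 1)) := by
    rw [add_sub_cancel, smul_smul, mul_inv_cancel₀ hc0, one_smul]
  refine ⟨c, c⁻¹ • A - 1, hc0, ?_, ?_, hN⟩
  · intro h
    rw [h, add_zero] at hN
    exact hns c hN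
  · have e : (c⁻¹ • A) * (c⁻¹ • A) = 1 := by
      rw [Matrix.smul_mul, Matrix.mul_smul, hA, hc, smul_smul, smul_smul]
      field_simp
      simp
    rw [sub_mul, mul_sub, e, one_mul, mul_one, CharTwo.sub_eq_add, CharTwo.sub_eq_add, CharTwo.sub_eq_add]
    rw [add_comm (1 : Matrix ι ι F) (c⁻¹ • A), CharTwo.add_self_eq_zero]

/-- A square-zero matrix of every possible rank. -/
theorem shifted_diag (σ : Equiv.Perm ι) (S : Finset ι) (hS : ∀ i ∈ S, σ i ∉ S) :
    let M : Matrix ι ι F := (Matrix.diagonal fun i => if i ∈ S then (1 : F) else 0).submatrix id σ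
    M * M = 0 ∧ M.rank = S.card := by
  intro M
  constructor
  · ext i k
    rw [Matrix.mul_apply, Matrix.zero_apply]
    refine Finset.sum_eq_zero fun j _ => ?_
    simp only [M, Matrix.submatrix_apply, id_eq, Matrix.diagonal_apply]
    by_cases h1 : i = σ j
    · by_cases h2 : j = σ k
      · subst h1
        by_cases h3 : j ∈ S
        · simp [hS j h3]
        · simp [h3]
      · simp [h2]
    · simp [h1]
  · classical
    have hM : M = (Matrix.diagonal fun i => if i ∈ S then (1 : F) else 0).submatrix (Equiv.refl ι) σ := rfl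
    rw [hM, Matrix.rank_submatrix, Matrix.rank_diagonal, ← Fintype.card_coe]
    exact Fintype.card_congr (Equiv.subtypeEquivRight fun i => by by_cases h : i ∈ S <;> simp [h])

theorem rank_bound {N : Matrix ι ι F} (hN : N * N = 0) : 2 * N.rank ≤ Fintype.card ι := by
  have := SquareZeroConj.finrank_range_bound (Matrix.toLin' N)
    (by rw [← Matrix.toLin'_mul, hN, map_zero])
  rwa [Module.finrank_fintype_fun_eq_card] at this

theorem char_two_conj (hsq : ∀ x : F, ∃ c, c * c = x) {N M : Matrix ι ι F} (hN : N * N = 0)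
    (hM : M * M = 0) (hN0 : N ≠ 0) (h : N.rank = M.rank) (c : F) :
    ∃ P : Matrix.SpecialLinearGroup ι F,
      ((P⁻¹ : Matrix.SpecialLinearGroup ι F) : Matrix ι ι F) * (c • (1 + N)) * (P : Matrix ι ι F) = c • (1 + M) := by
  obtain ⟨T, hT, hTN⟩ := SquareZeroConj.exists_intertwine hsq (Matrix.toLin' N) (Matrix.toLin' M)
    (by rw [← Matrix.toLin'_mul, hN, map_zero]) (by rw [← Matrix.toLin'_mul, hM, map_zero])
    (by simpa using hN0) h
  let Q : Matrix.SpecialLinearGroup ι F := ⟨LinearMap.toMatrix' T, by rw [LinearMap.det_toMatrix', hT]⟩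
  have hQ : (Q : Matrix ι ι F) * N = M * (Q : Matrix ι ι F) := by
    apply Matrix.toLin'.injective
    rw [Matrix.toLin'_mul, Matrix.toLin'_mul]
    simpa [Q] using hTN
  refine ⟨Q⁻¹, ?_⟩
  have hQ' : (Q : Matrix ι ι F) * (c • (1 + N)) = (c • (1 + M)) * (Q : Matrix ι ι F) := by
    rw [Matrix.mul_smul, mul_add, mul_one, hQ, Matrix.smul_mul, add_mul, one_mul]
  rw [inv_inv, hQ', mul_assoc, ← Matrix.SpecialLinearGroup.coe_mul, mul_inv_cancel,
    Matrix.SpecialLinearGroup.coe_one, mul_one]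

end Conj

/-! ### Membership helpers -/

theorem fixes_of_conj {n : ℕ} (H : Subgroup (GL (Fin n) F)) (x : Matrix.SpecialLinearGroup (Fin n) F)
    (P : Matrix.SpecialLinearGroup (Fin n) F) (g : GL (Fin n) F) (hg : g ∈ H)
    (h : ((P⁻¹ : Matrix.SpecialLinearGroup (Fin n) F) : Matrix (Fin n) (Fin n) F) * (x : Matrix (Fin n) (Fin n) F) * (P : Matrix (Fin n) (Fin n) F) = (g : Matrix (Fin n) (Fin n) F)) :
    ∃ P : Matrix.SpecialLinearGroup (Fin n) F, P⁻¹ * x * P ∈ H.comap
      (Matrix.SpecialLinearGroup.toGL : Matrix.SpecialLinearGroup (Fin n) F →* GL (Fin n) F) := by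
  refine ⟨P, ?_⟩
  rw [Subgroup.mem_comap, show Matrix.SpecialLinearGroup.toGL (P⁻¹ * x * P) = g from Units.ext ?_]
  · exact hg
  · rw [← h]
    simp only [Matrix.SpecialLinearGroup.coe_GL_coe_matrix, Matrix.SpecialLinearGroup.coe_mul]

theorem sq_coe {n : ℕ} {x : Matrix.SpecialLinearGroup (Fin n) F} {z : F}
    (h : ((x ^ 2 : Matrix.SpecialLinearGroup (Fin n) F) : Matrix (Fin n) (Fin n) F) = z • 1) :
    (x : Matrix (Fin n) (Fin n) F) * (x : Matrix (Fin n) (Fin n) F) = z • 1 := by
  rwa [sq, Matrix.SpecialLinearGroup.coe_mul] at h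

/-! ### Arithmetic in a finite field -/

theorem padicValNat_two_pow_mul {k m : ℕ} (hm : Odd m) : padicValNat 2 (2 ^ k * m) = k := by
  rw [padicValNat.mul (by positivity) hm.pos.ne', padicValNat.prime_pow,
    padicValNat.eq_zero_of_not_dvd (by rwa [← even_iff_two_dvd, Nat.not_even_iff_odd]), add_zero]

theorem exists_two_part {n : ℕ} (hn : n ≠ 0) : ∃ m, Odd m ∧ n = 2 ^ padicValNat 2 n * m := by
  obtain ⟨k, m, hm, rfl⟩ := Nat.exists_eq_two_pow_mul_odd hn
  exact ⟨m, hm, by rw [padicValNat_two_pow_mul hm]⟩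

variable [Fintype F]

attribute [local instance] Classical.propDecidable

theorem two_ne_zero_iff_odd : (2 : F) ≠ 0 ↔ Odd (Fintype.card F) := by
  constructor
  · intro h2
    refine Nat.odd_iff.2 (FiniteField.odd_card_of_char_ne_two fun h => h2 ?_)
    have := ringChar.Nat.cast_ringChar (R := F)
    rw [h] at this
    exact_mod_cast this
  · intro hodd h2
    have h : ringChar F = 2 := by
      rcases (Nat.dvd_prime Nat.prime_two).1 (ringChar.dvd (R := F) (x := 2) (by exact_mod_cast h2)) with h | h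
      · exact absurd h CharP.ringChar_ne_one
      · exact h
    exact absurd (FiniteField.even_card_of_char_two h) (by rw [Nat.odd_iff] at hodd; omega)

theorem charP_two_of_even (h : ¬ Odd (Fintype.card F)) : CharP F 2 := by
  have h2 : (2 : F) = 0 := not_not.1 fun h2 => h (two_ne_zero_iff_odd.1 h2)
  rcases (Nat.dvd_prime Nat.prime_two).1 (ringChar.dvd (R := F) (x := 2) (by exact_mod_cast h2)) with h' | h'
  · exact absurd h' CharP.ringChar_ne_one
  · exact h' ▸ ringChar.charP F

theorem exists_order_dvd {d : ℕ} (hd : d ∣ Fintype.card F - 1) : ∃ u : Fˣ, orderOf u = d := by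
  obtain ⟨g, hg⟩ := IsCyclic.exists_ofOrder_eq_natCard (α := Fˣ)
  rw [Nat.card_eq_fintype_card, Fintype.card_units] at hg
  obtain ⟨e, he⟩ := hd
  have h1 : 1 < Fintype.card F := Fintype.one_lt_card
  have he0 : e ≠ 0 := fun h => by rw [h, mul_zero] at he; omega
  refine ⟨g ^ e, ?_⟩
  rw [orderOf_pow' _ he0, hg, he, Nat.gcd_eq_right (dvd_mul_left e d), Nat.mul_div_cancel _ (Nat.pos_of_ne_zero he0)]

theorem pow_card_sub_one (c : F) (hc : c ≠ 0) : c ^ (Fintype.card F - 1) = 1 :=
  FiniteField.pow_card_sub_one_eq_one c hc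

theorem exists_pow_eq_neg_one_iff (h2 : (2 : F) ≠ 0) {n : ℕ} (hn : n ≠ 0) :
    (∃ c : F, c ^ n = -1) ↔ padicValNat 2 n < padicValNat 2 (Fintype.card F - 1) := by
  have h1 : 1 < Fintype.card F := Fintype.one_lt_card
  have hne : (-1 : F) ≠ 1 := fun h => h2 (by linear_combination -h)
  obtain ⟨m, hm, hnm⟩ := exists_two_part hn
  obtain ⟨s, hs, hqs⟩ := exists_two_part (show Fintype.card F - 1 ≠ 0 by omega)
  generalize padicValNat 2 n = v at hnm ⊢
  generalize padicValNat 2 (Fintype.card F - 1) = w at hqs ⊢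
  constructor
  · rintro ⟨c, hc⟩
    by_contra hvw
    push Not at hvw
    have hc0 : c ≠ 0 := fun h => by simp [h, hn] at hc
    have e1 : c ^ (n * s) = -1 := by rw [pow_mul, hc, hs.neg_one_pow]
    have e2 : n * s = (Fintype.card F - 1) * (2 ^ (v - w) * m) := by
      rw [hnm, hqs, show (2 : ℕ) ^ v = 2 ^ w * 2 ^ (v - w) by rw [← pow_add, Nat.add_sub_cancel' hvw]]
      ring
    rw [e2, pow_mul, pow_card_sub_one c hc0, one_pow] at e1
    exact hne e1.symm
  · intro hvw
    obtain ⟨u, hu⟩ := exists_order_dvd (F := F) (d := 2 ^ (v + 1))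
      (hqs ▸ (Nat.pow_dvd_pow 2 (by omega : v + 1 ≤ w)).mul_right s)
    have h1 : ((u : F) ^ 2 ^ v) ^ 2 = 1 := by
      rw [← pow_mul, ← pow_succ, ← hu, ← Units.val_pow_eq_pow_val, pow_orderOf_eq_one, Units.val_one]
    have h3 : (u : F) ^ 2 ^ v ≠ 1 := fun h => by
      have := orderOf_dvd_of_pow_eq_one (show u ^ 2 ^ v = 1 from Units.ext (by simpa using h))
      rw [hu] at this
      have := Nat.le_of_dvd (by positivity) this
      have : 2 ^ v < 2 ^ (v + 1) := Nat.pow_lt_pow_right (by norm_num) (by omega)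
      omega
    refine ⟨u, ?_⟩
    rw [hnm, pow_mul, (sq_eq_one_iff.1 h1).resolve_left h3, hm.neg_one_pow]

theorem exists_nonsquare_pow_eq_one_iff (h2 : (2 : F) ≠ 0) {m : ℕ} (hm0 : m ≠ 0) :
    (∃ w : F, ¬ IsSquare w ∧ w ^ m = 1) ↔ padicValNat 2 (Fintype.card F - 1) ≤ padicValNat 2 m := by
  have h1 : 1 < Fintype.card F := Fintype.one_lt_card
  have hchar : ringChar F ≠ 2 := fun h => h2 (by
    have := ringChar.Nat.cast_ringChar (R := F)
    rw [h] at this
    exact_mod_cast this)
  have hodd := FiniteField.odd_card_of_char_ne_two hchar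
  obtain ⟨m', hm', hmm⟩ := exists_two_part hm0
  obtain ⟨s, hs, hqs⟩ := exists_two_part (show Fintype.card F - 1 ≠ 0 by omega)
  generalize padicValNat 2 m = v at hmm ⊢
  generalize padicValNat 2 (Fintype.card F - 1) = e at hqs ⊢
  have he : 0 < e := by
    rcases Nat.eq_zero_or_pos e with rfl | h
    · rw [pow_zero, one_mul] at hqs
      obtain ⟨a, ha⟩ := hs; omega
    · exact h
  have hh : Fintype.card F / 2 = 2 ^ (e - 1) * s := by
    have : (2 : ℕ) ^ e * s = 2 * (2 ^ (e - 1) * s) := by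
      rw [← mul_assoc, ← pow_succ', Nat.sub_add_cancel he]
    omega
  constructor
  · rintro ⟨w, hw, hwm⟩
    by_contra hve
    push Not at hve
    have hw0 : w ≠ 0 := fun h => hw (h ▸ IsSquare.zero)
    have e1 := (FiniteField.pow_dichotomy hchar hw0).resolve_left
      (fun h => hw ((FiniteField.isSquare_iff hchar hw0).2 h))
    have e2 : (w ^ (Fintype.card F / 2)) ^ m' = 1 := by
      rw [hh, ← pow_mul, show 2 ^ (e - 1) * s * m' = m * (2 ^ (e - 1 - v) * s) by
        rw [hmm, show (2 : ℕ) ^ (e - 1) = 2 ^ v * 2 ^ (e - 1 - v) by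
          rw [← pow_add, Nat.add_sub_cancel' (by omega)]]
        ring, pow_mul, hwm, one_pow]
    rw [e1, hm'.neg_one_pow] at e2
    exact h2 (by linear_combination -e2)
  · intro hev
    obtain ⟨u, hu⟩ := exists_order_dvd (F := F) (d := 2 ^ e) (hqs ▸ dvd_mul_right _ _)
    refine ⟨u, fun hsq => ?_, ?_⟩
    · have h3 := (FiniteField.isSquare_iff hchar u.ne_zero).1 hsq
      rw [hh, ← Units.val_pow_eq_pow_val, Units.val_eq_one, ← orderOf_dvd_iff_pow_eq_one, hu,
        ← Nat.sub_add_cancel he, Nat.succ_sub_one] at h3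
      rw [pow_succ] at h3
      have := Nat.dvd_of_mul_dvd_mul_left (by positivity) h3
      obtain ⟨a, ha⟩ := hs; omega
    · rw [← Units.val_pow_eq_pow_val, Units.val_eq_one, ← orderOf_dvd_iff_pow_eq_one, hu, hmm]
      exact (Nat.pow_dvd_pow 2 hev).mul_right m'

end Cfsg.Agent.SLInvolutions68
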