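import Mathlib
import Cfsg.Agent.Lib.SLInvolutions68
import Cfsg.Agent.Lib.ChevalleyTorusCard

/-!
Integer matrices of finite order with an eigenvalue modulo a prime whose order exceeds the size:
the characteristic polynomial is cyclotomic, orbits span, and the fixed-point count of `P - q`.
-/

set_option autoImplicit false

open Polynomial Matrix

namespace Cfsg.Agent.CyclotomicCharpoly68

open Cfsg.Agent.ChevalleyTorusCard (act act_mul act_smul act_zero act_one)

theorem exists_cyclotomic_factor {m ℓ : ℕ} (hm : 0 < m) (hℓ : ℓ.Prime) (q : ℤ) :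
    ∀ (k : ℕ) (f : ℤ[X]), f.Monic → f.natDegree ≤ k →
      (∀ g : ℚ[X], Irreducible g → g ∣ f.map (Int.castRingHom ℚ) → g ∣ X ^ m - 1) →
      (ℓ : ℤ) ∣ f.eval q → ∃ e, 0 < e ∧ cyclotomic e ℤ ∣ f ∧ (ℓ : ℤ) ∣ (cyclotomic e ℤ).eval q := by
  intro k
  induction k with
  | zero =>
    intro f hf hk _ hd
    rw [hf.natDegree_eq_zero.mp (Nat.le_zero.mp hk), eval_one] at hd
    exact absurd (Int.natCast_dvd.mp hd) (by simpa using hℓ.ne_one)
  | succ k ih =>
    intro f hf hk h hd
    by_cases h0 : f.natDegree = 0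
    · exact ih f hf (by omega) h hd
    have hu : ¬ IsUnit (f.map (Int.castRingHom ℚ)) := fun hu => h0 (by
      have := natDegree_eq_zero_of_isUnit hu
      rwa [natDegree_map_eq_of_injective Int.cast_injective] at this)
    obtain ⟨g, hgm, hg, hgd⟩ := Polynomial.exists_monic_irreducible_factor _ hu
    have hg' := h g hg hgd
    rw [← prod_cyclotomic_eq_X_pow_sub_one hm ℚ] at hg'
    obtain ⟨e, he, hge⟩ := hg.prime.exists_mem_finset_dvd hg'
    have he0 : 0 < e := Nat.pos_of_mem_divisors he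
    have heq : g = cyclotomic e ℚ := eq_of_monic_of_associated hgm (cyclotomic.monic e ℚ)
      (hg.associated_of_dvd (cyclotomic.irreducible_rat he0) hge)
    rw [heq, ← map_cyclotomic_int e ℚ, map_dvd_map _ Int.cast_injective (cyclotomic.monic e ℤ)] at hgd
    obtain ⟨f', hf'⟩ := hgd
    rw [hf', eval_mul] at hd
    rcases (Nat.prime_iff_prime_int.1 hℓ).dvd_or_dvd hd with hd | hd
    · exact ⟨e, he0, ⟨f', hf'⟩, hd⟩
    · have hm' : f'.Monic := (cyclotomic.monic e ℤ).of_mul_monic_left (hf' ▸ hf)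
      have hdeg := (cyclotomic.monic e ℤ).natDegree_mul hm'
      rw [← hf', natDegree_cyclotomic] at hdeg
      have := Nat.totient_pos.2 he0
      obtain ⟨e', h1, h2, h3⟩ := ih f' hm' (by omega) (fun g hg hgd => h g hg (by
        rw [hf', Polynomial.map_mul]; exact hgd.mul_left _)) hd
      exact ⟨e', h1, hf' ▸ h2.mul_left _, h3⟩

theorem orderOf_eq_of_root {ℓ e : ℕ} [Fact ℓ.Prime] (he : ¬ ℓ ∣ e) {q : ℤ}
    (h : (ℓ : ℤ) ∣ (cyclotomic e ℤ).eval q) : orderOf (q : ZMod ℓ) = e := by
  have hne : NeZero (e : ZMod ℓ) := ⟨fun h0 => he ((ZMod.natCast_eq_zero_iff e ℓ).1 h0)⟩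
  have hr : IsPrimitiveRoot (q : ZMod ℓ) e := by
    rw [← isRoot_cyclotomic_iff, ← map_cyclotomic_int, IsRoot.def, ← eq_intCast (Int.castRingHom (ZMod ℓ)) q,
      eval_map_apply, eq_intCast, ZMod.intCast_zmod_eq_zero_iff_dvd]
    exact h
  exact hr.eq_orderOf.symm

variable {l : ℕ}

theorem charpoly_eq_cyclotomic (P : Matrix (Fin l) (Fin l) ℤ) {m d ℓ : ℕ} (hm : 0 < m)
    (hP : P ^ m = 1) (hℓ : ℓ.Prime) (hd : ¬ ℓ ∣ d) (hl : d.totient = l) (hlℓ : l < ℓ - 1) (q : ℤ)
    (hq : (ℓ : ℤ) ∣ (cyclotomic d ℤ).eval q) (hdet : (ℓ : ℤ) ∣ P.charpoly.eval q) :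
    P.charpoly = cyclotomic d ℤ := by
  have : Fact ℓ.Prime := ⟨hℓ⟩
  have hfac : ∀ g : ℚ[X], Irreducible g → g ∣ P.charpoly.map (Int.castRingHom ℚ) → g ∣ X ^ m - 1 := by
    intro g hg hgd
    rw [← Matrix.charpoly_map] at hgd
    refine SLInvolutions68.dvd_of_factor ?_ hg hgd
    rw [map_sub, map_pow, aeval_X, map_one, sub_eq_zero,
      show P.map (Int.castRingHom ℚ) = (Int.castRingHom ℚ).mapMatrix P from rfl, ← map_pow, hP, map_one]
  obtain ⟨e, he0, hed, hev⟩ :=
    exists_cyclotomic_factor hm hℓ q _ P.charpoly (Matrix.charpoly_monic P) le_rfl hfac hdet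
  have hle := Polynomial.natDegree_le_of_dvd hed (Matrix.charpoly_monic P).ne_zero
  rw [natDegree_cyclotomic, Matrix.charpoly_natDegree_eq_dim, Fintype.card_fin] at hle
  have hne : ¬ ℓ ∣ e := fun h => by
    have h1 := Nat.le_of_dvd (Nat.totient_pos.2 he0) (Nat.totient_dvd_of_dvd h)
    rw [Nat.totient_prime hℓ] at h1
    omega
  have hed' : e = d := (orderOf_eq_of_root hne hev).symm.trans (orderOf_eq_of_root hd hq)
  subst hed'
  exact eq_of_monic_of_dvd_of_natDegree_le (cyclotomic.monic e ℤ) (Matrix.charpoly_monic P) hed (by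
    rw [natDegree_cyclotomic, Matrix.charpoly_natDegree_eq_dim, Fintype.card_fin, hl])

theorem orbit_span (P : Matrix (Fin l) (Fin l) ℤ) {d : ℕ} (hd : 0 < d)
    (hc : P.charpoly = cyclotomic d ℤ) {a φ : Fin l → ℤ} (hφ : φ ≠ 0)
    (h : ∀ k : ℕ, a ⬝ᵥ (P ^ k *ᵥ φ) = 0) : a = 0 := by
  let c := Int.castRingHom ℚ
  let P' := c.mapMatrix P
  let φ' : Fin l → ℚ := fun i => (φ i : ℚ)
  let a' : Fin l → ℚ := fun i => (a i : ℚ)
  have hφ' : φ' ≠ 0 := fun h0 => hφ (funext fun i => by
    have h1 : (φ i : ℚ) = 0 := congrFun h0 i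
    exact_mod_cast h1)
  have hc' : P'.charpoly = cyclotomic d ℚ := by
    show (P.map c).charpoly = _
    rw [Matrix.charpoly_map, hc, map_cyclotomic_int]
  have hli : LinearIndependent ℚ fun k : Fin l => (P' ^ k.val) *ᵥ φ' := by
    rw [Fintype.linearIndependent_iff]
    intro g hg
    let r : ℚ[X] := ∑ k : Fin l, C (g k) * X ^ k.val
    have hr : aeval P' r *ᵥ φ' = 0 := by
      simp only [r, map_sum, map_mul, map_pow, aeval_C, aeval_X, ← Algebra.smul_def,
        Matrix.sum_mulVec, Matrix.smul_mulVec]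
      exact hg
    suffices r = 0 by
      intro k
      have h1 := congrArg (fun p => p.coeff k.val) this
      simpa [r, coeff_C_mul_X_pow, Fin.val_inj] using h1
    by_contra hr0
    have hdeg : r.natDegree < (cyclotomic d ℚ).natDegree := by
      rw [← hc', Matrix.charpoly_natDegree_eq_dim, Fintype.card_fin]
      have hlt : r.degree < (l : WithBot ℕ) := by
        simpa [r] using degree_sum_fin_lt g
      rwa [degree_eq_natDegree hr0, Nat.cast_lt] at hlt
    obtain ⟨u, v, huv⟩ := (cyclotomic.irreducible_rat hd).coprime_iff_not_dvd.2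
      fun hdvd => absurd (natDegree_le_of_dvd hdvd hr0) (by omega)
    apply hφ'
    have h1 := congrArg (fun p => aeval P' p *ᵥ φ') huv
    simp only [map_add, map_mul, map_one, ← hc', Matrix.aeval_self_charpoly, mul_zero, zero_add,
      ← Matrix.mulVec_mulVec, hr, Matrix.mulVec_zero, Matrix.one_mulVec] at h1
    exact h1.symm
  have hsp := hli.span_eq_top_of_card_eq_finrank' (by simp)
  have hperp : ∀ x : Fin l → ℚ, a' ⬝ᵥ x = 0 := by
    intro x
    have hx : x ∈ Submodule.span ℚ (Set.range fun k : Fin l => (P' ^ k.val) *ᵥ φ') := hsp ▸ trivial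
    induction hx using Submodule.span_induction with
    | mem y hy =>
      obtain ⟨k, rfl⟩ := hy
      have h1 := congrArg c (h k.val)
      rw [RingHom.map_dotProduct, map_zero] at h1
      show a' ⬝ᵥ (P' ^ k.val *ᵥ φ') = 0
      rw [← h1]
      congr 1
      funext i
      rw [Function.comp_apply, RingHom.map_mulVec, ← map_pow]
      rfl
    | zero => exact dotProduct_zero _
    | add y z _ _ hy hz => rw [dotProduct_add, hy, hz, add_zero]
    | smul t y _ hy => rw [dotProduct_smul, hy, smul_zero]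
  funext i
  have := hperp (Pi.single i 1)
  rw [dotProduct_single, mul_one] at this
  simp only [a'] at this
  exact_mod_cast this

theorem natAbs_det_sub (P : Matrix (Fin l) (Fin l) ℤ) {d N : ℕ} {q : ℤ}
    (hc : P.charpoly = cyclotomic d ℤ) (hN : (N : ℤ) = (cyclotomic d ℤ).eval q) :
    (P - q • 1).det.natAbs = N := by
  rw [← neg_sub, Matrix.det_neg, Int.natAbs_mul, Int.natAbs_pow]
  have : (q • (1 : Matrix (Fin l) (Fin l) ℤ) - P).det = N := by
    rw [hN, ← hc, Matrix.eval_charpoly]
    congr 2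
    rw [Matrix.scalar_apply, ← Matrix.smul_one_eq_diagonal]
  rw [this]; simp

section Act

variable {M M' : Type*} [AddCommGroup M] [AddCommGroup M']

/-- the action of an integer matrix as an additive homomorphism -/
def actHom (B : Matrix (Fin l) (Fin l) ℤ) : (Fin l → M) →+ (Fin l → M) where
  toFun := act B
  map_zero' := act_zero B
  map_add' v w := by funext i; simp [act, Finset.sum_add_distrib]

theorem map_act (f : M →+ M') (B : Matrix (Fin l) (Fin l) ℤ) (v : Fin l → M) :
    f ∘ act B v = act B (f ∘ v) := by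
  funext i; simp [act]

theorem det_smul_eq_zero (B : Matrix (Fin l) (Fin l) ℤ) {v : Fin l → M} (h : act B v = 0) :
    B.det • v = 0 := by
  have h1 := act_mul B.adjugate B v
  rw [h, act_zero, Matrix.adjugate_mul] at h1
  rw [← h1]
  funext i
  simp [act, Matrix.smul_apply, Matrix.one_apply, ite_smul]

theorem act_int (B : Matrix (Fin l) (Fin l) ℤ) (v : Fin l → ℤ) : act B v = B *ᵥ v := by
  funext i; simp [act, Matrix.mulVec, dotProduct]

/-- Kernel count: `|det B|` solutions over `ZMod |det B|`. -/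
theorem card_ker (B : Matrix (Fin l) (Fin l) ℤ) {N : ℕ} [NeZero N] (hB : B.det.natAbs = N) :
    Nat.card {x : Fin l → ZMod N // act B x = 0} = N := by
  let φ : (Fin l → ZMod N) →+ (Fin l → ZMod N) := actHom B
  let R : AddSubgroup (Fin l → ℤ) := (actHom (M := ℤ) B).range
  let π : (Fin l → ℤ) →+ (Fin l → ZMod N) := (Int.castAddHom (ZMod N)).compLeft (Fin l)
  have hπs : Function.Surjective π := fun x =>
    ⟨fun i => (x i).cast, funext fun i => ZMod.intCast_zmod_cast (x i)⟩
  have hnat : ∀ x, π (actHom B x) = φ (π x) := fun x => map_act (Int.castAddHom (ZMod N)) B x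
  have hdetN : (N : ℤ) ∣ B.det ∧ B.det ∣ (N : ℤ) := by
    subst hB
    exact ⟨Int.natAbs_dvd.2 dvd_rfl, Int.dvd_natAbs.2 dvd_rfl⟩
  have hcomap : φ.range.comap π = R := by
    refine le_antisymm (fun x hx => ?_) ?_
    · obtain ⟨y, hy⟩ := hx
      obtain ⟨y, rfl⟩ := hπs y
      rw [← hnat] at hy
      have hker : π (x - actHom B y) = 0 := by rw [map_sub, hy, sub_self]
      have hz : ∀ i, (N : ℤ) ∣ (x - actHom B y) i := fun i =>
        (ZMod.intCast_zmod_eq_zero_iff_dvd _ N).1 (congrFun hker i)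
      choose z hz using fun i => (hdetN.2.trans (hz i))
      refine ⟨y + B.adjugate *ᵥ z, ?_⟩
      rw [map_add]
      show actHom B y + act B (B.adjugate *ᵥ z) = x
      rw [act_int, Matrix.mulVec_mulVec, Matrix.mul_adjugate, Matrix.smul_mulVec, Matrix.one_mulVec]
      have : B.det • z = x - actHom B y := funext fun i => by
        rw [Pi.smul_apply, smul_eq_mul, hz i]
      rw [this, add_sub_cancel]
    · rintro _ ⟨y, rfl⟩
      exact ⟨π y, (hnat y).symm⟩
  have hinj : Function.Injective (Matrix.mulVecLin B) := by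
    rw [← LinearMap.ker_eq_bot, LinearMap.ker_eq_bot']
    intro x hx
    have h1 : B.det • x = 0 := det_smul_eq_zero B ((act_int B x).trans hx)
    exact (smul_eq_zero.1 h1).resolve_left fun h => NeZero.ne N (by rw [← hB, h]; rfl)
  have hidx : R.index = N := by
    let S : Submodule ℤ (Fin l → ℤ) := LinearMap.range (Matrix.mulVecLin B)
    have hS : R = S.toAddSubgroup := by
      ext x
      constructor
      · rintro ⟨y, rfl⟩; exact ⟨y, (act_int B y).symm⟩
      · rintro ⟨y, rfl⟩; exact ⟨y, act_int B y⟩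
    have h1 := Submodule.natAbs_det_equiv S (LinearEquiv.ofInjective (Matrix.mulVecLin B) hinj)
    have h2 : (S.subtype ∘ₗ AddMonoidHom.toIntLinearMap
        ((LinearEquiv.ofInjective (Matrix.mulVecLin B) hinj : (Fin l → ℤ) →+ S))) = Matrix.toLin' B :=
      LinearMap.ext fun x => rfl
    rw [h2, LinearMap.det_toLin', hB] at h1
    rw [hS, h1]
    rfl
  rw [← hcomap, AddSubgroup.index_comap_of_surjective _ hπs] at hidx
  have h1 := φ.range.card_mul_index
  have h2 := φ.ker.card_mul_index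
  rw [AddSubgroup.index_ker] at h2
  rw [hidx] at h1
  have h3 : Nat.card ↥φ.range ≠ 0 := Nat.card_pos.ne'
  have h4 : Nat.card ↥φ.ker = N := by
    apply Nat.eq_of_mul_eq_mul_right (Nat.pos_of_ne_zero h3)
    rw [h2, ← h1, mul_comm]
  exact Eq.trans (Nat.card_congr (Equiv.subtypeEquivRight fun x => Iff.rfl)) h4

/-- Kernel count inside a group whose `N`-torsion is cyclic of order `N`. -/
theorem card_ker' (B : Matrix (Fin l) (Fin l) ℤ) {N : ℕ} [NeZero N] (hB : B.det.natAbs = N)
    {u : M} (hu : addOrderOf u = N) (hgen : ∀ x : M, N • x = 0 → ∃ k : ℤ, k • u = x) :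
    Nat.card {x : Fin l → M // act B x = 0} = N := by
  let g : ZMod N →+ M := ZMod.lift N ⟨zmultiplesHom M u, by
    show (N : ℤ) • u = 0
    rw [natCast_zsmul, ← hu]
    exact addOrderOf_nsmul_eq_zero u⟩
  have hginj : Function.Injective g := by
    rw [ZMod.lift_injective]
    intro k hk
    rw [ZMod.intCast_zmod_eq_zero_iff_dvd, ← hu, addOrderOf_dvd_iff_zsmul_eq_zero]
    exact hk
  have key : ∀ x : Fin l → ZMod N, act B (g ∘ x) = g ∘ act B x := fun x => (map_act g B x).symm
  rw [← card_ker B hB]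
  refine (Nat.card_eq_of_bijective
    (fun x : {x : Fin l → ZMod N // act B x = 0} =>
      (⟨g ∘ x.1, by rw [key, x.2]; funext i; simp⟩ : {x : Fin l → M // act B x = 0})) ⟨?_, ?_⟩).symm
  · intro x y h
    exact Subtype.ext (funext fun i => hginj (congrFun (congrArg Subtype.val h) i))
  · rintro ⟨y, hy⟩
    have hN : N • y = 0 := by
      have h1 := det_smul_eq_zero B hy
      obtain ⟨c, hc⟩ : B.det ∣ (N : ℤ) := by rw [← hB]; exact Int.dvd_natAbs.2 dvd_rfl
      rw [← natCast_zsmul, hc, mul_comm, mul_smul, h1, smul_zero]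
    choose k hk using fun i => hgen (y i) (congrFun hN i)
    have hgy : g ∘ (fun i => (k i : ZMod N)) = y := funext fun i => by
      simpa [g] using hk i
    refine ⟨⟨fun i => (k i : ZMod N), funext fun i => hginj ?_⟩, Subtype.ext hgy⟩
    have h1 := congrFun (key fun i => (k i : ZMod N)) i
    rw [hgy, hy] at h1
    simpa using h1.symm

end Act

end Cfsg.Agent.CyclotomicCharpoly68
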