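import Cfsg.Agent.Lib.ChevRootCoord68
import Cfsg.Agent.Lib.CyclotomicCharpoly68
import Cfsg.Agent.Lib.ChevRegularCentralizer68
import Cfsg.Agent.Lib.ChevFieldAut77
import Cfsg.Agent.Lib.ChevOrder

/-!
Self-centralising cyclic subgroups of a simply connected Chevalley group attached to a cyclotomic
polynomial of degree equal to the rank: an element of prime order is conjugated into the torus over
an extension field, and Frobenius twists it by a Weyl element with that characteristic polynomial.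
-/

set_option autoImplicit false

namespace Cfsg.Agent.ChevCoxTorus68

open Cfsg.Lie Cfsg.Agent.ChevalleyCert Cfsg.Agent.ChevWeyl Cfsg.Agent.ChevBruhat
  Cfsg.Agent.ChevRootCoord68 Cfsg.Agent.CyclotomicCharpoly68
open Cfsg.Agent.ChevalleyTorus (torus tchar tmat)
open Cfsg.Agent.ChevalleyTorusCard (Smith act act_mul act_one act_nsmul tchar_ofMul comb_eq_zero)

variable {D : ChevalleyDatum} (C : Cert D) (Sm : Smith D 1 0)

include Sm in
theorem T_mul_A : Sm.T * Sm.A = 1 := by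
  have h := Sm.h4
  rwa [show Sm.M * Sm.P = 0 from Matrix.ext fun i j => by simp [Matrix.mul_apply], add_zero] at h

theorem A_mul_T : Sm.A * Sm.T = 1 := mul_eq_one_comm.mp (T_mul_A Sm)

theorem ev_act_A {M : Type*} [AddCommGroup M] (v : Fin D.rank → M) {s : ℕ} (hs : s < D.nroots) :
    ev C (act Sm.A v) s = ∑ i : Fin D.rank, D.cartan i.val s • v i := by
  simp only [ev, act, Finset.smul_sum]
  rw [Finset.sum_comm]
  refine Finset.sum_congr rfl fun k _ => ?_
  rw [sum_coef_cartan C k hs, Finset.sum_smul]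
  exact Finset.sum_congr rfl fun j _ => by rw [Sm.hA, ← mul_smul]

section Torus

variable {K : Type*} [Field K]

/-- the torus element with prescribed values on the fundamental roots -/
def tor (χ : Fin D.rank → Additive Kˣ) : GL D.Idx K :=
  torus D fun i => (act Sm.T χ i).toMul

include C in
theorem tchar_tor (χ : Fin D.rank → Additive Kˣ) {s : ℕ} (hs : s < D.nroots) :
    tchar D (fun i => (act Sm.T χ i).toMul) s = (ev C χ s).toMul := by
  apply Additive.ofMul.injective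
  rw [tchar_ofMul]
  show ∑ i : Fin D.rank, D.cartan i.val s • act Sm.T χ i = ev C χ s
  have hA : act Sm.A (act Sm.T χ) = χ := by rw [← act_mul, A_mul_T, act_one]
  conv_rhs => rw [← hA]
  exact (ev_act_A C Sm _ hs).symm

include C in
theorem tor_inj {χ χ' : Fin D.rank → Additive Kˣ} (h : tor Sm χ = tor Sm χ') : χ = χ' := by
  funext i
  have hi := (ChevalleyRoots.simple_lt C i.isLt)
  have h1 := congrArg (fun g : GL D.Idx K => (g : Matrix D.Idx D.Idx K)
    (Sum.inr ⟨_, hi⟩) (Sum.inr ⟨_, hi⟩)) h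
  simp only [tor, ChevalleyTorus.coe_torus, tmat, Matrix.diagonal_apply_eq, Sum.elim_inr,
    tchar_tor C Sm _ hi, ev_simple] at h1
  exact Additive.toMul.injective (Units.ext h1)

theorem tor_add (χ χ' : Fin D.rank → Additive Kˣ) : tor Sm (χ + χ') = tor Sm χ * tor Sm χ' := by
  rw [tor, tor, tor, ← map_mul]
  refine congrArg _ (funext fun i => ?_)
  rw [Pi.mul_apply, ← toMul_add]
  exact congrArg Additive.toMul (congrFun ((actHom Sm.T).map_add χ χ') i)

/-- `tor` as a homomorphism -/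
def torHom : Multiplicative (Fin D.rank → Additive Kˣ) →* GL D.Idx K :=
  MonoidHom.mk' (fun χ => tor Sm χ.toAdd) fun χ χ' => tor_add Sm χ.toAdd χ'.toAdd

theorem torus_eq_tor (c : Fin D.rank → Kˣ) :
    torus D c = tor Sm (act Sm.A fun i => Additive.ofMul (c i)) := by
  rw [tor, ← act_mul, T_mul_A, act_one]
  rfl

include C in
theorem mem_H_iff {g : GL D.Idx K} :
    g ∈ D.diagonalSubgroup K ↔ ∃ χ, tor Sm χ = g := by
  rw [ChevalleyTorus.mem_H_iff C]
  exact ⟨fun ⟨c, h⟩ => ⟨_, (torus_eq_tor Sm c).symm.trans h⟩, fun ⟨χ, h⟩ => ⟨_, h⟩⟩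

variable (X : Weyl D) (hs : suppCheck D = true)

/-- the Bruhat hypotheses over `K` -/
abbrev sysK : Sys D K := ChevBruhatInstance.mkSys C X hs

theorem tor_conj_xg (χ : Fin D.rank → Additive Kˣ) {s : ℕ} (hs' : s < D.nroots) (t : K) :
    tor Sm χ * ChevalleyCore.xg C s t * (tor Sm χ)⁻¹ =
      ChevalleyCore.xg C s (((ev C χ s).toMul : Kˣ) * t) := by
  rw [tor, ChevalleyTorus.torus_conj_xg C hs', tchar_tor C Sm χ hs']

/-- conjugation of a torus element by a monomial element -/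
theorem conj_tor (n : ↥(D.monomialSubgroup K)) (χ' : Fin D.rank → Additive Kˣ) :
    ∃ χ'', (n : GL D.Idx K) * tor Sm χ' * (n : GL D.Idx K)⁻¹ = tor Sm χ'' ∧
      ∀ s, s < D.nroots → ev C χ'' (X.img ((sysK C X hs).toW n) s) = ev C χ' s := by
  let S : Sys D K := sysK C X hs
  obtain ⟨χ'', hχ''⟩ := (mem_H_iff C Sm).1 (S.conj_H (S.acts_toW n) ((mem_H_iff C Sm).2 ⟨χ', rfl⟩))
  refine ⟨χ'', hχ''.symm, fun s hs' => ?_⟩
  obtain ⟨c, hc, h1, -⟩ := S.acts_toW n s hs'
  have e1 : ∀ a, tor Sm χ'' * S.xg (S.X.img (S.toW n) s) a * (tor Sm χ'')⁻¹ =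
      S.xg (S.X.img (S.toW n) s) (((ev C χ'' (S.X.img (S.toW n) s)).toMul : Kˣ) * a) :=
    fun a => tor_conj_xg C Sm χ'' (S.X.img_lt _ hs') a
  have e2 : ∀ a, tor Sm χ' * S.xg s a * (tor Sm χ')⁻¹ = S.xg s (((ev C χ' s).toMul : Kˣ) * a) :=
    fun a => tor_conj_xg C Sm χ' hs' a
  have k := e1 (c * 1)
  rw [← h1, hχ''] at k
  rw [show (n : GL D.Idx K) * tor Sm χ' * (n : GL D.Idx K)⁻¹ * (n * S.xg s 1 * (n : GL D.Idx K)⁻¹) *
      ((n : GL D.Idx K) * tor Sm χ' * (n : GL D.Idx K)⁻¹)⁻¹ =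
      n * (tor Sm χ' * S.xg s 1 * (tor Sm χ')⁻¹) * (n : GL D.Idx K)⁻¹ by group, e2, h1] at k
  have k2 := (S.xg_inj _ _ (S.X.img_lt _ hs') (S.X.img_lt _ hs') _ _
    (mul_ne_zero hc (mul_ne_zero (Units.ne_zero _) one_ne_zero)) k).2
  rw [mul_one, mul_one, mul_comm c] at k2
  exact (Additive.toMul.injective (Units.ext (mul_right_cancel₀ hc k2))).symm

/-- An element conjugating one torus element to another. -/
theorem transporter {χ χ' : Fin D.rank → Additive Kˣ} {y : GL D.Idx K} (hy : y ∈ D.group K)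
    (h : y * tor Sm χ' = tor Sm χ * y) :
    ∃ w : X.W, (∀ s, s < D.nroots → ev C χ (X.img w s) = ev C χ' s) ∧
      ((∀ s, s < D.nroots → ev C χ s ≠ 0) →
        ∃ n : ↥(D.monomialSubgroup K), (n : GL D.Idx K) = y ∧ (sysK C X hs).toW n = w) := by
  let S : Sys D K := sysK C X hs
  set t := tor Sm χ with ht
  set t' := tor Sm χ' with ht'
  have htH : t ∈ D.diagonalSubgroup K := (mem_H_iff C Sm).2 ⟨χ, rfl⟩
  have htH' : t' ∈ D.diagonalSubgroup K := (mem_H_iff C Sm).2 ⟨χ', rfl⟩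
  obtain ⟨b, hb, n, u, hu, rfl⟩ := S.exists_cell_form hy
  have h' : t * (b * n * u) * t'⁻¹ = b * n * u := by rw [← h]; group
  obtain ⟨χn, hχn, hevn⟩ := conj_tor C Sm X hs n χ'
  set h₁ := t * (tor Sm χn)⁻¹ with hh₁
  have hχnH : tor Sm χn ∈ D.diagonalSubgroup K := (mem_H_iff C Sm).2 ⟨χn, rfl⟩
  have hh : h₁ ∈ D.diagonalSubgroup K := mul_mem htH (inv_mem hχnH)
  have hu' : t' * u * t'⁻¹ ∈ S.Uw (S.toW n) := by
    refine Sys.conj_closure_le
      (T := {g : GL D.Idx K | ∃ r a, r ∈ S.X.invSet (S.toW n) ∧ g = S.xg r a}) t' ?_ hu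
    rintro x ⟨r, a, hr, rfl⟩
    exact Subgroup.subset_closure ⟨r, _, hr, tor_conj_xg C Sm χ' (S.X.mem_invSet.mp hr).1.1 a⟩
  have hbB : t * b * t⁻¹ * h₁ ∈ D.borelSubgroup K :=
    mul_mem (mul_mem (mul_mem (Sys.H_le_B htH) hb) (inv_mem (Sys.H_le_B htH))) (Sys.H_le_B hh)
  have he : (t * b * t⁻¹ * h₁) * n * (t' * u * t'⁻¹) = b * n * u := by
    conv_rhs => rw [← h']
    rw [hh₁, ← hχn, ← ht']; group
  obtain ⟨e1, e2⟩ := S.form_unique n hbB hb hu' hu he
  obtain ⟨u₀, hu₀, h₀, hh₀, rfl⟩ := (ChevalleyTorus.mem_B_iff C).1 hb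
  have e3 : (t * u₀ * t⁻¹) * (h₀ * h₁) = u₀ * h₀ := by
    conv_rhs => rw [← e1]
    rw [show t * (u₀ * h₀) * t⁻¹ = t * u₀ * t⁻¹ * h₀ by
      rw [show t * (u₀ * h₀) * t⁻¹ = t * u₀ * (h₀ * t⁻¹) by group,
        ChevalleyTorus.H_comm C hh₀ (inv_mem htH)]
      group]
    group
  have hU : t * u₀ * t⁻¹ ∈ D.posUnipotent K :=
    (Subgroup.mem_normalizer_iff.1 (ChevalleyTorus.H_le_normalizer_U C htH) u₀).1 hu₀
  have e4 : u₀⁻¹ * (t * u₀ * t⁻¹) = h₀ * (h₀ * h₁)⁻¹ := by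
    rw [eq_mul_inv_iff_mul_eq, mul_assoc, e3]; group
  have e5 : u₀⁻¹ * (t * u₀ * t⁻¹) = 1 := by
    have := Subgroup.mem_inf.2 ⟨mul_mem (inv_mem hu₀) hU,
      e4 ▸ mul_mem hh₀ (inv_mem (mul_mem hh₀ hh))⟩
    rwa [ChevalleyTorus.U_inf_H C, Subgroup.mem_bot] at this
  have h11 : h₁ = 1 := by
    have e6 := e5
    rw [e4, mul_inv_rev, ← mul_assoc] at e6
    have : h₀ * h₁⁻¹ = h₀ := by rw [← mul_inv_eq_one]; exact e6
    simpa using this
  have hχ : χ = χn := tor_inj C Sm (mul_inv_eq_one.1 (hh₁.symm.trans h11))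
  subst hχ
  refine ⟨S.toW n, hevn, fun hne => ?_⟩
  have hne' : ∀ s, s < D.nroots → ev C χ' s ≠ 0 := fun s hs' => by
    rw [← hevn s hs']; exact hne _ (X.img_lt _ hs')
  have hnz : ∀ ψ : Fin D.rank → Additive Kˣ, (∀ s, s < D.nroots → ev C ψ s ≠ 0) →
      ∀ r, r < D.nroots → tchar D (fun i => (act Sm.T ψ i).toMul) r ≠ 1 := fun ψ hψ r hr h1 => by
    rw [tchar_tor C Sm ψ hr] at h1
    exact hψ r hr (Additive.toMul.injective h1)
  have hu1 : u = 1 :=
    ChevRegularCentralizer68.fixed_U C _ (hnz χ' hne') (S.Uw_le_U _ hu) e2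
  have hu₀1 : u₀ = 1 :=
    ChevRegularCentralizer68.fixed_U C _ (hnz χ hne) hu₀ (inv_mul_eq_one.1 e5).symm
  refine ⟨⟨h₀, Sys.H_le_N hh₀⟩ * n, ?_, ?_⟩
  · simp [hu1, hu₀1]
  · rw [map_mul, S.toW_eq (S.acts_H hh₀), one_mul]

end Torus

section Pm

variable (X : Weyl D)

/-- the matrix of `w` on functionals -/
noncomputable def Pm (w : X.W) : Matrix (Fin D.rank) (Fin D.rank) ℤ :=
  Matrix.of fun j k => C.coef (X.img w (D.simple j.val)) k.val

theorem act_Pm {M : Type*} [AddCommGroup M] (w : X.W) (f : Fin D.rank → M) :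
    act (Pm C X w) f = wact C X w f := rfl

theorem act_sub_smul {M : Type*} [AddCommGroup M] (w : X.W) (q : ℤ) (f : Fin D.rank → M) :
    act (Pm C X w - q • 1) f = wact C X w f - q • f := by
  funext j
  simp only [act, wact, ev, Pm, Matrix.sub_apply, Matrix.smul_apply, smul_eq_mul, sub_smul,
    Finset.sum_sub_distrib, Matrix.of_apply, Pi.sub_apply, Pi.smul_apply]
  congr 1
  rw [Finset.sum_eq_single j]
  · simp
  · intro b _ hb; simp [Matrix.one_apply_ne (Ne.symm hb)]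
  · simp

theorem Pm_pow (w : X.W) : ∀ k : ℕ, Pm C X (w ^ k) = Pm C X w ^ k := by
  have hext : ∀ A B : Matrix (Fin D.rank) (Fin D.rank) ℤ,
      (∀ f : Fin D.rank → ℤ, act A f = act B f) → A = B := fun A B h => Matrix.ext fun j k => by
    simpa [act, Pi.single_apply] using congrFun (h (Pi.single k 1)) j
  intro k
  induction k with
  | zero =>
    refine hext _ _ fun f => ?_
    rw [pow_zero, pow_zero, act_one, act_Pm, wact_one]
  | succ k ih =>
    refine hext _ _ fun f => ?_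
    rw [pow_succ, pow_succ', act_Pm, wact_mul, act_mul, ← ih, act_Pm, act_Pm]

end Pm

section Frobenius

variable {F K : Type*} [Field F] [Field K]

include C in
theorem map_mem_group (ι : F →+* K) {g : GL D.Idx F} (hg : g ∈ D.group F) :
    Matrix.GeneralLinearGroup.map ι g ∈ D.group K := by
  induction hg using Subgroup.closure_induction with
  | mem g hg =>
    obtain ⟨r, t, h⟩ := hg
    refine Subgroup.subset_closure ⟨r, ι t, ?_⟩
    have e := ChevFieldAut77.map_x C ι r.2 t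
    rw [ChevalleyDatum.x, dif_pos r.2, ChevalleyDatum.x, dif_pos r.2] at e
    rw [ChevFieldAut77.coe_map, h]
    exact e
  | one => rw [map_one]; exact one_mem _
  | mul a b _ _ ha hb => rw [map_mul]; exact mul_mem ha hb
  | inv a _ ha => rw [map_inv]; exact inv_mem ha

theorem mem_range_of_pow_card [Fintype F] (ι : F →+* K) {x : K} (hx : x ^ Fintype.card F = x) :
    x ∈ Set.range ι := by
  classical
  by_contra hne
  have hq : 1 < Fintype.card F := Fintype.one_lt_card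
  have h := Polynomial.card_le_degree_of_subset_roots
    (p := (Polynomial.X ^ Fintype.card F - Polynomial.X : Polynomial K))
    (Z := insert x (Finset.univ.image ι)) (by
      intro z hz
      rw [Polynomial.mem_roots (FiniteField.X_pow_card_sub_X_ne_zero K hq)]
      simp only [Finset.mem_val, Finset.mem_insert, Finset.mem_image, Finset.mem_univ, true_and] at hz
      rcases hz with rfl | ⟨a, rfl⟩
      · simp [sub_eq_zero, hx]
      · simp [sub_eq_zero, ← map_pow, FiniteField.pow_card])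
  rw [Finset.card_insert_of_notMem (by simpa using hne), Finset.card_image_of_injective _ ι.injective,
    Finset.card_univ, FiniteField.X_pow_card_sub_X_natDegree_eq K hq] at h
  omega

end Frobenius

theorem exists_prim {K : Type*} [Field K] [Fintype K] {k : ℕ} (hk : k ∣ Fintype.card K - 1) :
    ∃ u : Additive Kˣ, addOrderOf u = k ∧ ∀ x : Additive Kˣ, k • x = 0 → ∃ i : ℤ, i • u = x := by
  classical
  obtain ⟨g, hg⟩ := IsCyclic.exists_ofOrder_eq_natCard (α := Kˣ)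
  rw [Nat.card_eq_fintype_card, Fintype.card_units] at hg
  obtain ⟨e, he⟩ := hk
  have h1 : 1 < Fintype.card K := Fintype.one_lt_card
  have he0 : e ≠ 0 := fun h => by rw [h, mul_zero] at he; omega
  have hu : orderOf (g ^ e) = k := by
    rw [orderOf_pow' _ he0, hg, he, Nat.gcd_eq_right (dvd_mul_left e k),
      Nat.mul_div_cancel _ (Nat.pos_of_ne_zero he0)]
  have hk0 : k ≠ 0 := fun h => by rw [h, zero_mul] at he; omega
  have : NeZero k := ⟨hk0⟩
  refine ⟨Additive.ofMul (g ^ e), by rw [addOrderOf_ofMul_eq_orderOf, hu], fun x hx => ?_⟩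
  obtain ⟨i, -, hi⟩ :=
    (hu ▸ IsPrimitiveRoot.orderOf (g ^ e) : IsPrimitiveRoot (g ^ e) k).eq_pow_of_mem_rootsOfUnity
      (ξ := x.toMul) ((mem_rootsOfUnity _ _).2 hx)
  refine ⟨i, ?_⟩
  rw [natCast_zsmul, ← ofMul_pow, hi]
  rfl

include C Sm in
/-- An element of prime order prime to the index of the torus is conjugate into the torus. -/
theorem exists_conj_mem_torus {K : Type*} [Field K] [Fintype K] (X : Weyl D)
    (hs : suppCheck D = true) (ds : List ℕ) (hpoly : ChevOrder.polyOK X.chain D.rank ds = true)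
    (hlen : ds.length = D.rank) {ℓ : ℕ} [Fact ℓ.Prime] (hcong : (Fintype.card K : ZMod ℓ) = 1)
    (hds : ∀ e ∈ ds, ¬ ℓ ∣ e) {h : GL D.Idx K} (hh : h ∈ D.group K) (hord : h ^ ℓ = 1) :
    ∃ g ∈ D.group K, g * h * g⁻¹ ∈ D.diagonalSubgroup K := by
  classical
  let S : Sys D K := ChevBruhatInstance.mkSys C X hs
  set Q := Fintype.card K with hQ
  have hQ1 : 1 < Q := Fintype.one_lt_card
  have hH : 1 * Nat.card ↥(D.diagonalSubgroup K) = (Q - 1) ^ D.rank := by
    simpa using ChevalleyTorusCard.card_H (F := K) C Sm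
  have hG := ChevOrder.order_eq (F := K) C X hs ds hpoly hH
  rw [one_mul, ← hQ] at hG
  rw [one_mul] at hH
  set R := (ds.map fun e => ∑ i ∈ Finset.range e, Q ^ i).prod with hR
  have hprod : (ds.map fun e => Q ^ e - 1).prod = R * (Q - 1) ^ ds.length := by
    rw [hR]
    clear hpoly hlen hds hG hR R
    induction ds with
    | nil => simp
    | cons a l ih =>
      rw [List.map_cons, List.prod_cons, ih, List.map_cons, List.prod_cons, List.length_cons, pow_succ,
        ← geom_sum_mul_of_one_le hQ1.le a]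
      ring
  let T : Subgroup ↥(D.group K) := (D.diagonalSubgroup K).subgroupOf (D.group K)
  have hT : Nat.card ↥T = (Q - 1) ^ D.rank :=
    (Nat.card_congr (Subgroup.subgroupOfEquivOfLe S.H_le_group).toEquiv).trans hH
  have hidx : T.index = Q ^ (D.nroots / 2) * R := by
    have := T.card_mul_index
    rw [hT, hG, hprod, hlen] at this
    apply Nat.eq_of_mul_eq_mul_left (pow_pos (show 0 < Q - 1 by omega) D.rank)
    rw [this]; ring
  have hℓ : ℓ.Prime := Fact.out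
  have hnd : ¬ ℓ ∣ T.index := by
    rw [hidx, hℓ.dvd_mul]
    rintro (h1 | h1)
    · have := (ZMod.natCast_eq_zero_iff _ ℓ).2 (hℓ.dvd_of_dvd_pow h1)
      rw [hcong] at this
      exact one_ne_zero this
    · rw [hR] at h1
      obtain ⟨a, ha, hdvd⟩ := hℓ.prime.dvd_prod_iff.1 h1
      obtain ⟨e, he, rfl⟩ := List.mem_map.1 ha
      refine hds e he ((ZMod.natCast_eq_zero_iff _ ℓ).1 ?_)
      rw [← (ZMod.natCast_eq_zero_iff _ ℓ).2 hdvd]
      simp [hcong]
  let x : ↥(D.group K) := ⟨h, hh⟩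
  have hx : x ^ ℓ = 1 := Subtype.ext hord
  have hp : IsPGroup ℓ ↥(Subgroup.zpowers x) := by
    intro y
    obtain ⟨y, k, rfl⟩ := y
    refine ⟨1, Subtype.ext ?_⟩
    show (x ^ k) ^ (ℓ ^ 1) = 1
    rw [pow_one, ← zpow_natCast, ← zpow_mul, mul_comm, zpow_mul, zpow_natCast, hx, one_zpow]
  obtain ⟨a, ha⟩ := hp.nonempty_fixed_point_of_prime_not_dvd_card (↥(D.group K) ⧸ T) hnd
  induction a using QuotientGroup.induction_on with
  | _ a =>
    have h1 : (QuotientGroup.mk (x * a) : ↥(D.group K) ⧸ T) = QuotientGroup.mk a :=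
      ha ⟨x, Subgroup.mem_zpowers x⟩
    have h2 := QuotientGroup.eq.1 h1.symm
    refine ⟨((a⁻¹ : ↥(D.group K)) : GL D.Idx K), SetLike.coe_mem _, ?_⟩
    rw [Subgroup.mem_subgroupOf] at h2
    rw [Subgroup.coe_inv, inv_inv]
    simpa [mul_assoc, x] using h2

theorem two_torsion_unique {A : Type*} [AddCommGroup A] [Finite A] (h4 : ¬ 4 ∣ Nat.card A)
    {a b : A} (ha : a ≠ 0) (hb : b ≠ 0) (ha2 : 2 • a = 0) (hb2 : 2 • b = 0) : a = b := by
  by_contra hne
  apply h4
  let fa : ZMod 2 →+ A := ZMod.lift 2 ⟨zmultiplesHom A a, (natCast_zsmul a 2).trans ha2⟩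
  let fb : ZMod 2 →+ A := ZMod.lift 2 ⟨zmultiplesHom A b, (natCast_zsmul b 2).trans hb2⟩
  have h1a : fa 1 = a := by
    rw [← Int.cast_one]
    exact (ZMod.lift_coe _ _ _).trans (one_zsmul a)
  have h1b : fb 1 = b := by
    rw [← Int.cast_one]
    exact (ZMod.lift_coe _ _ _).trans (one_zsmul b)
  have hinj : Function.Injective (fa.coprod fb) := by
    rw [injective_iff_map_eq_zero]
    rintro ⟨i, j⟩ h
    rw [AddMonoidHom.coprod_apply] at h
    have hcase : ∀ i : ZMod 2, i = 0 ∨ i = 1 := by decide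
    rcases hcase i with rfl | rfl <;> rcases hcase j with rfl | rfl
    · rfl
    · exact absurd (by simpa [h1b] using h) hb
    · exact absurd (by simpa [h1a] using h) ha
    · refine absurd ?_ hne
      rw [h1a, h1b] at h
      rw [eq_neg_of_add_eq_zero_left h, neg_eq_iff_add_eq_zero, ← two_nsmul]
      exact hb2
  simpa [Nat.card_prod] using AddSubgroup.card_dvd_of_injective _ hinj

include Sm in
/-- The self-centralising cyclic subgroup. -/
theorem exists_selfCentralizing_cyclic (X : Weyl D) (hs : suppCheck D = true) {m : ℕ}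
    (nm : Num C m) (ds : List ℕ) (hpoly : ChevOrder.polyOK X.chain D.rank ds = true)
    (hlen : ds.length = D.rank) {F : Type*} [Field F] [Fintype F] {d N ℓ : ℕ} (hd : d ∈ ds)
    (hd0 : 0 < d) (hl : d.totient = D.rank)
    (hN : (N : ℤ) = (Polynomial.cyclotomic d ℤ).eval (Fintype.card F : ℤ))
    (hℓ : ℓ.Prime) (hℓN : ℓ ∣ N) (hℓd : ¬ ℓ ∣ d)
    (hbig : ∀ p, p.Prime → d ∣ p - 1 → m < p ∧ D.rank < p - 1 ∧ ∀ e ∈ ds, ¬ p ∣ e)
    (hsmall : ∀ p, p.Prime → p ∣ N → p ≤ m → p = 2 ∧ ¬ 4 ∣ N) :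
    ∃ H : Subgroup ↥(D.group F), IsCyclic ↥H ∧ Nat.card ↥H = N ∧
      Subgroup.centralizer (H : Set ↥(D.group F)) = H := by
  classical
  have : Fact ℓ.Prime := ⟨hℓ⟩
  have : NeZero d := ⟨hd0.ne'⟩
  obtain ⟨p, hp⟩ := CharP.exists F
  have : Fact p.Prime := ⟨CharP.char_is_prime F p⟩
  let K := FiniteField.Extension F p d
  let : Fintype K := Fintype.ofFinite _
  let ι : F →+* K := algebraMap F K
  set q := Fintype.card F with hq_def
  have hq1 : 1 < q := Fintype.one_lt_card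
  have hcardK : Fintype.card K = q ^ d := by
    rw [← Nat.card_eq_fintype_card, FiniteField.natCard_extension, Nat.card_eq_fintype_card]
  -- arithmetic
  have hℓeval : (ℓ : ℤ) ∣ (Polynomial.cyclotomic d ℤ).eval (q : ℤ) := hN ▸ Int.natCast_dvd_natCast.2 hℓN
  have hordq : orderOf (((q : ℤ) : ZMod ℓ)) = d := orderOf_eq_of_root hℓd hℓeval
  rw [Int.cast_natCast] at hordq
  have hqne : (q : ZMod ℓ) ≠ 0 := fun h0 => by
    rw [h0, orderOf_eq_zero_iff'.2 fun n hn => by rw [zero_pow hn.ne']; exact zero_ne_one] at hordq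
    omega
  obtain ⟨hmℓ, hlℓ, hdsℓ⟩ := hbig ℓ hℓ (hordq ▸ ZMod.orderOf_dvd_card_sub_one hqne)
  have hcong : (Fintype.card K : ZMod ℓ) = 1 := by
    rw [hcardK, Nat.cast_pow, ← hordq, pow_orderOf_eq_one]
  have hNQ : N ∣ Fintype.card K - 1 := by
    have h1 : (Polynomial.cyclotomic d ℤ).eval (q : ℤ) ∣ (q : ℤ) ^ d - 1 := by
      simpa using Polynomial.eval_dvd (x := (q : ℤ)) (Polynomial.cyclotomic.dvd_X_pow_sub_one d ℤ)
    rw [← hN] at h1
    rw [hcardK, ← Int.natCast_dvd_natCast, Nat.cast_sub (Nat.one_le_pow _ _ (by omega))]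
    simpa using h1
  have hN0 : N ≠ 0 := fun h0 => by
    rw [h0, zero_dvd_iff, hcardK] at hNQ
    have := Nat.one_lt_pow hd0.ne' hq1
    omega
  have : NeZero N := ⟨hN0⟩
  -- the element of order `ℓ`
  have hℓG : ℓ ∣ Nat.card ↥(D.group F) := by
    have hH : 1 * Nat.card ↥(D.diagonalSubgroup F) = (q - 1) ^ D.rank := by
      simpa using ChevalleyTorusCard.card_H (F := F) C Sm
    have hG := ChevOrder.order_eq (F := F) C X hs ds hpoly hH
    rw [one_mul] at hG
    rw [hG]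
    refine dvd_mul_of_dvd_right (Dvd.dvd.trans ?_
      (List.dvd_prod (List.mem_map.2 ⟨d, hd, rfl⟩))) _
    rw [← ZMod.natCast_eq_zero_iff, ← hq_def, Nat.cast_sub (Nat.one_le_pow _ _ (by omega)),
      Nat.cast_pow, ← hordq, pow_orderOf_eq_one, Nat.cast_one, sub_self]
  obtain ⟨h₀, hh₀⟩ := exists_prime_orderOf_dvd_card' ℓ hℓG
  let mp : GL D.Idx F →* GL D.Idx K := Matrix.GeneralLinearGroup.map ι
  have hmp : Function.Injective mp := by
    intro a b hab
    apply Units.ext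
    have h := congrArg (fun g : GL D.Idx K => (g : Matrix D.Idx D.Idx K)) hab
    simp only [mp, ChevFieldAut77.coe_map] at h
    exact Matrix.map_injective ι.injective h
  set h := mp (h₀ : GL D.Idx F) with hh_def
  have hordh : orderOf h = ℓ := by rw [hh_def, orderOf_injective mp hmp, Subgroup.orderOf_coe, hh₀]
  obtain ⟨g, hg, hgt⟩ := exists_conj_mem_torus C Sm X hs ds hpoly hlen hcong hdsℓ
    (map_mem_group C ι h₀.2) (by rw [← hordh]; exact pow_orderOf_eq_one h)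
  obtain ⟨χt, hχt⟩ := (mem_H_iff C Sm).1 hgt
  -- Frobenius
  let σ : K ≃+* K := (FiniteField.frobeniusAlgEquivOfAlgebraic F K).toRingEquiv
  have hσ : ∀ x, σ x = x ^ q := fun x => rfl
  let S : Sys D K := ChevBruhatInstance.mkSys C X hs
  let ψ : GL D.Idx K →* GL D.Idx K := ChevFieldAut77.psi σ
  have hψtor : ∀ χ, ψ (tor Sm χ) = tor Sm (q • χ) := by
    intro χ
    rw [tor, tor, ChevFieldAut77.psi_torus, act_nsmul]
    refine congrArg _ (funext fun i => Units.ext ?_)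
    simp [toMul_nsmul, hσ]
  have hψι : ∀ y : GL D.Idx F, ψ (mp y) = mp y := by
    intro y
    apply Units.ext
    rw [ChevFieldAut77.coe_map, ChevFieldAut77.coe_map]
    ext i j
    show σ (ι _) = ι _
    rw [hσ, ← map_pow, FiniteField.pow_card]
  have hψG : ψ g ∈ D.group K := map_mem_group C σ.toRingHom hg
  set n' := g * (ψ g)⁻¹ with hn'
  have hn'G : n' ∈ D.group K := mul_mem hg (inv_mem hψG)
  have hψh : ψ h = h := hψι _
  have hn't : n' * tor Sm (q • χt) = tor Sm χt * n' := by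
    rw [← hψtor, hn', hχt, map_mul, map_mul, map_inv, hψh]
    simp [mul_assoc, hh_def, mp]
  obtain ⟨w, hw, hnN⟩ := transporter C Sm X hs hn'G hn't
  -- the Weyl element
  have hχt0 : χt ≠ 0 := fun h0 => by
    have h2 : tor Sm (0 : Fin D.rank → Additive Kˣ) = 1 := map_one (torHom Sm)
    rw [h0, h2] at hχt
    have : h = 1 := conj_eq_one_iff.1 hχt.symm
    rw [this, orderOf_one] at hordh
    exact hℓ.one_lt.ne hordh
  have hχtℓ : ℓ • χt = 0 := by
    apply tor_inj C Sm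
    have h2 := map_pow (torHom Sm) (Multiplicative.ofAdd χt) ℓ
    rw [← ofAdd_nsmul] at h2
    refine (h2.trans ?_).trans (map_one (torHom Sm)).symm
    show tor Sm χt ^ ℓ = 1
    rw [hχt, conj_pow, ← hordh, pow_orderOf_eq_one, mul_one, mul_inv_cancel]
  set P := Pm C X w with hP
  have hker : ∀ χ : Fin D.rank → Additive Kˣ, act (P - (q : ℤ) • 1) χ = 0 ↔
      ∀ s, s < D.nroots → ev C χ (X.img w s) = q • ev C χ s := by
    intro χ
    rw [act_sub_smul, sub_eq_zero, natCast_zsmul]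
    constructor
    · intro h s hs'; rw [← ev_wact C X w χ hs', h, ev_nsmul]
    · intro h
      funext j
      exact (h _ (X.simple_lt j.isLt)).trans (by rw [ev_simple, Pi.smul_apply])
  have htA : act (P - (q : ℤ) • 1) χt = 0 :=
    (hker χt).2 fun s hs' => by rw [hw s hs', ev_nsmul]
  have hchar : P.charpoly = Polynomial.cyclotomic d ℤ := by
    refine charpoly_eq_cyclotomic P (m := orderOf w) (orderOf_pos w) ?_ hℓ hℓd hl hlℓ q hℓeval ?_
    · rw [hP, ← Pm_pow, pow_orderOf_eq_one, ← pow_zero w, Pm_pow, pow_zero]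
    · have h1 := det_smul_eq_zero _ htA
      obtain ⟨j, hj⟩ := Function.ne_iff.1 hχt0
      have hordj : addOrderOf (χt j) = ℓ := addOrderOf_eq_prime (congrFun hχtℓ j) hj
      have h2 : (ℓ : ℤ) ∣ (P - (q : ℤ) • 1).det := by
        rw [← hordj, addOrderOf_dvd_iff_zsmul_eq_zero]
        exact congrFun h1 j
      rw [Matrix.eval_charpoly, Matrix.scalar_apply, ← Matrix.smul_one_eq_diagonal, ← neg_sub,
        Matrix.det_neg]
      exact dvd_mul_of_dvd_right h2 _
  have hdet := natAbs_det_sub P hchar hN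
  have hirr : ∀ φ : Fin D.rank → ℤ, φ ≠ 0 → ∀ s, s < D.nroots →
      ∃ k : ℕ, ev C φ (X.img (w ^ k) s) ≠ 0 := by
    intro φ hφ s hs'
    by_contra hcon
    push Not at hcon
    have hz := orbit_span P hd0 hchar hφ (a := fun j => C.coef s j.val) fun k => by
      rw [hP, ← Pm_pow, ← act_int, act_Pm, ← hcon k, ← ev_wact C X _ φ hs']
      simp [dotProduct, ev]
    refine ChevalleyRoots.neg_ne C hs' (ChevalleyRoots.coef_inj C (C.neg_lt s) hs' fun j hj => ?_)
    have := congrFun hz ⟨j, hj⟩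
    simp only [Pi.zero_apply] at this
    rw [C.coef_neg s j hs' hj, this, neg_zero]
  -- the fixed subgroup
  obtain ⟨u, hu, hgen⟩ := exists_prim (K := K) hNQ
  let A : AddSubgroup (Fin D.rank → Additive Kˣ) := (actHom (P - (q : ℤ) • 1)).ker
  have hA : ∀ χ, χ ∈ A ↔ act (P - (q : ℤ) • 1) χ = 0 := fun χ => Iff.rfl
  have hcardA : Nat.card ↥A = N :=
    Eq.trans (Nat.card_congr (Equiv.subtypeEquivRight fun χ => hA χ)) (card_ker' _ hdet hu hgen)
  have hNA : ∀ χ ∈ A, N • χ = 0 := fun χ hχ => by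
    have := card_nsmul_eq_zero' (G := ↥A) (x := ⟨χ, hχ⟩)
    rw [hcardA] at this
    exact congrArg Subtype.val this
  have hlift : ∀ χ ∈ A, ∃ f : Fin D.rank → ℤ, ∀ s, ev C χ s = ev C f s • u := by
    intro χ hχ
    choose f hf using fun j => hgen (χ j) (congrFun (hNA χ hχ) j)
    exact ⟨f, fun s => by rw [← ev_smul_const]; exact congrArg (ev C · s) (funext hf).symm⟩
  have hdvd : ∀ a : ℤ, a • u = 0 ↔ (N : ℤ) ∣ a := fun a => by
    rw [← hu, addOrderOf_dvd_iff_zsmul_eq_zero]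
  have hregular : ∀ r : ℕ, r.Prime → r ∣ N → m < r → ∀ χ ∈ A, r • χ = 0 → χ ≠ 0 →
      ∀ s, s < D.nroots → ev C χ s ≠ 0 := by
    intro r hr hrN hmr χ hχ hrχ hχ0 s hs' hz
    obtain ⟨v, hv, hvgen⟩ := exists_prim (K := K) (hrN.trans hNQ)
    choose f hf using fun j => hvgen (χ j) (congrFun hrχ j)
    have hev : ∀ a, ev C χ a = ev C f a • v := fun a => by
      rw [← ev_smul_const]; exact congrArg (ev C · a) (funext hf).symm
    have hdvd' : ∀ a : ℤ, a • v = 0 ↔ (r : ℤ) ∣ a := fun a => by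
      rw [← hv, addOrderOf_dvd_iff_zsmul_eq_zero]
    refine no_zero nm X hs hr hmr f (fun hall => hχ0 (funext fun j => ?_)) w q
      (fun a ha => (hdvd' _).1 ?_) hirr hs' ((hdvd' _).1 ((hev s).symm.trans hz))
    · rw [← hf j]; exact (hdvd' _).2 (hall j)
    · rw [sub_smul, mul_smul, ← hev, ← hev, (hker χ).1 hχ a ha, natCast_zsmul, sub_self]
  have hpdvd : ∀ χ ∈ A, χ ≠ 0 → ∃ r k : ℕ, r.Prime ∧ r ∣ N ∧ k • χ ≠ 0 ∧ r • (k • χ) = 0 := by
    intro χ hχ hχ0
    have ho : addOrderOf χ ∣ N := addOrderOf_dvd_iff_nsmul_eq_zero.2 (hNA χ hχ)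
    obtain ⟨r, hr, hrd⟩ := Nat.exists_prime_and_dvd
      (mt AddMonoid.addOrderOf_eq_one_iff.1 hχ0)
    refine ⟨r, addOrderOf χ / r, hr, hrd.trans ho, ?_, ?_⟩
    · rw [Ne, ← addOrderOf_dvd_iff_nsmul_eq_zero]
      intro hdv
      have hpos : 0 < addOrderOf χ := Nat.pos_of_ne_zero fun h0 => hN0 (by simpa [h0] using ho)
      have := Nat.le_of_dvd (Nat.div_pos (Nat.le_of_dvd hpos hrd) hr.pos) hdv
      have := Nat.div_lt_self hpos hr.one_lt
      omega
    · rw [← mul_nsmul', Nat.mul_div_cancel' hrd, addOrderOf_nsmul_eq_zero]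
  obtain ⟨r₀, hr₀, htwo⟩ : ∃ r₀, r₀ < D.nroots ∧ ∀ τ ∈ A, ¬ 4 ∣ N → τ ≠ 0 → 2 • τ = 0 →
      ev C τ r₀ ≠ 0 := by
    by_cases hex : ¬ 4 ∣ N ∧ ∃ τ ∈ A, τ ≠ 0 ∧ 2 • τ = 0
    · obtain ⟨h4, τ, hτ, hτ0, hτ2⟩ := hex
      obtain ⟨j, hj⟩ := Function.ne_iff.1 hτ0
      refine ⟨_, X.simple_lt j.isLt, fun τ' hτ' _ h0 h2 => ?_⟩
      have he : (⟨τ', hτ'⟩ : ↥A) = ⟨τ, hτ⟩ := two_torsion_unique (by rwa [hcardA])
        (fun e => h0 (congrArg Subtype.val e)) (fun e => hτ0 (congrArg Subtype.val e))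
        (Subtype.ext h2) (Subtype.ext hτ2)
      rw [ev_simple, show τ' = τ from congrArg Subtype.val he]
      exact hj
    · exact ⟨_, top_lt nm, fun τ hτ h4 h0 h2 => absurd ⟨h4, τ, hτ, h0, h2⟩ hex⟩
  let E : ↥A →+ Additive Kˣ :=
    AddMonoidHom.mk' (fun χ => ev C χ.1 r₀) fun a b => ev_add C a.1 b.1 r₀
  have hEinj : Function.Injective E := by
    rw [injective_iff_map_eq_zero]
    rintro ⟨χ, hχ⟩ hz
    by_contra hne
    obtain ⟨r, k, hr, hrN, hk0, hrk⟩ := hpdvd χ hχ fun h0 => hne (Subtype.ext h0)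
    have hmem : k • χ ∈ A := A.nsmul_mem hχ k
    have hz' : ev C (k • χ) r₀ = 0 := by
      rw [ev_nsmul, show ev C χ r₀ = 0 from hz, smul_zero]
    rcases le_or_gt r m with hle | hlt
    · obtain ⟨rfl, h4⟩ := hsmall r hr hrN hle
      exact htwo _ hmem h4 hk0 hrk hz'
    · exact hregular r hr hrN hlt _ hmem hrk hk0 r₀ hr₀ hz'
  have : IsAddCyclic ↥A := isAddCyclic_of_injective E hEinj
  obtain ⟨⟨χ₀, hχ₀⟩, hgenA⟩ := IsAddCyclic.exists_generator (α := ↥A)
  have hord₀ : addOrderOf χ₀ = N := by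
    have := addOrderOf_eq_card_of_forall_mem_zmultiples hgenA
    rw [hcardA] at this
    rwa [← AddSubgroup.addOrderOf_coe] at this
  have hreg₀ : ∀ s, s < D.nroots → ev C χ₀ s ≠ 0 := by
    intro s hs' hz
    obtain ⟨c, hc⟩ := hℓN
    have hc0 : c • χ₀ ≠ 0 := by
      rw [Ne, ← addOrderOf_dvd_iff_nsmul_eq_zero, hord₀, hc]
      intro hdv
      have hcp : 0 < c := Nat.pos_of_ne_zero fun h0 => hN0 (by rw [hc, h0, mul_zero])
      have := Nat.le_of_dvd hcp hdv
      nlinarith [hℓ.one_lt]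
    refine hregular ℓ hℓ ⟨c, hc⟩ hmℓ _ (A.nsmul_mem hχ₀ c) ?_ hc0 s hs' ?_
    · rw [← mul_nsmul', ← hc]; exact hNA χ₀ hχ₀
    · rw [ev_nsmul, hz, smul_zero]
  have hregt : ∀ s, s < D.nroots → ev C χt s ≠ 0 :=
    hregular ℓ hℓ hℓN hmℓ χt htA hχtℓ hχt0
  obtain ⟨n, hnval, hnw⟩ := hnN hregt
  have hnconj : ∀ χ, ∃ χ'', n' * tor Sm (q • χ) * n'⁻¹ = tor Sm χ'' ∧
      ∀ s, s < D.nroots → ev C χ'' (X.img w s) = q • ev C χ s := by
    intro χ
    obtain ⟨χ'', h1, h2⟩ := conj_tor C Sm X hs n (q • χ)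
    refine ⟨χ'', by rw [← hnval]; exact h1, fun s hs' => ?_⟩
    rw [← hnw, ← ev_nsmul]
    exact h2 s hs'
  -- descent
  have hfix : ∀ χ ∈ A, ψ (g⁻¹ * tor Sm χ * g) = g⁻¹ * tor Sm χ * g := by
    intro χ hχ
    obtain ⟨χ'', h1, h2⟩ := hnconj χ
    have he : χ'' = χ := by
      funext j
      have hj := X.img_lt w⁻¹ (X.simple_lt j.isLt)
      have h3 := h2 _ hj
      rw [← (hker χ).1 hχ _ hj, X.img_img_inv, ev_simple, ev_simple] at h3
      exact h3
    rw [he] at h1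
    rw [map_mul, map_mul, map_inv, hψtor, ← h1, hn']
    group
  have hdesc : ∀ χ ∈ A, ∃ y : ↥(D.group F), mp (y : GL D.Idx F) = g⁻¹ * tor Sm χ * g := by
    intro χ hχ
    have hmem : g⁻¹ * tor Sm χ * g ∈ D.group K :=
      mul_mem (mul_mem (inv_mem hg) (S.H_le_group ((mem_H_iff C Sm).2 ⟨χ, rfl⟩))) hg
    have hfg := ChevFieldAut77.fixed_mem C S σ (ChevFieldAut77.torus_injective Sm C) hmem (hfix χ hχ)
    have key : ∀ x ∈ ChevFieldAut77.fixGen S σ, ∃ y ∈ D.group F, mp y = x := by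
      intro x hx
      induction hx using Subgroup.closure_induction with
      | mem x hx =>
        obtain ⟨r, t, hr, ht, rfl⟩ := hx
        rw [hσ] at ht
        obtain ⟨t₀, rfl⟩ := mem_range_of_pow_card ι ht
        refine ⟨ChevalleyCore.xg C r t₀,
          (ChevBruhatInstance.mkSys (F := F) C X hs).xg_mem_group hr t₀, Units.ext ?_⟩
        rw [ChevFieldAut77.coe_map, ChevalleyCore.coe_xg, S.coe_xg]
        exact ChevFieldAut77.map_x C ι hr t₀
      | one => exact ⟨1, one_mem _, map_one mp⟩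
      | mul a b _ _ ha hb =>
        obtain ⟨y, hy, rfl⟩ := ha
        obtain ⟨z, hz, rfl⟩ := hb
        exact ⟨y * z, mul_mem hy hz, map_mul mp y z⟩
      | inv a _ ha =>
        obtain ⟨y, hy, rfl⟩ := ha
        exact ⟨y⁻¹, inv_mem hy, map_inv mp y⟩
    obtain ⟨y, hy, he⟩ := key _ hfg
    exact ⟨⟨y, hy⟩, he⟩
  let Φ : ↥(D.group F) →* GL D.Idx K :=
    (MulAut.conj g).toMonoidHom.comp (mp.comp (D.group F).subtype)
  have hΦinj : Function.Injective Φ :=
    (MulAut.conj g).injective.comp (hmp.comp (D.group F).subtype_injective)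
  obtain ⟨y₀, hy₀⟩ := hdesc χ₀ hχ₀
  have hΦy₀ : Φ y₀ = tor Sm χ₀ := by
    show g * mp (y₀ : GL D.Idx F) * g⁻¹ = _
    rw [hy₀]; group
  have htorinj : Function.Injective (torHom (K := K) Sm) := fun a b hab =>
    Multiplicative.toAdd.injective (tor_inj C Sm hab)
  refine ⟨Subgroup.zpowers y₀, inferInstance, ?_, le_antisymm (fun y hy => ?_) ?_⟩
  · rw [Nat.card_zpowers, ← orderOf_injective Φ hΦinj y₀, hΦy₀,
      show tor Sm χ₀ = torHom Sm (Multiplicative.ofAdd χ₀) from rfl,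
      orderOf_injective _ htorinj, orderOf_ofAdd_eq_addOrderOf, hord₀]
  · have hcomm : Φ y * tor Sm χ₀ = tor Sm χ₀ * Φ y := by
      rw [← hΦy₀, ← map_mul, ← map_mul,
        (Subgroup.mem_centralizer_iff.1 hy y₀ (Subgroup.mem_zpowers y₀)).symm]
    have hΦG : Φ y ∈ D.group K := mul_mem (mul_mem hg (map_mem_group C ι y.2)) (inv_mem hg)
    obtain ⟨v, hv, hvN⟩ := transporter C Sm X hs hΦG hcomm
    obtain ⟨n₁, hn₁, hn₁w⟩ := hvN hreg₀
    have hv1 : v = 1 := by
      obtain ⟨f, hf⟩ := hlift χ₀ hχ₀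
      refine no_fix nm X hs (N := (N : ℤ)) (by exact_mod_cast Nat.pos_of_ne_zero hN0) f
        (fun s hs' hd' => hreg₀ s hs' (by rw [hf, (hdvd _).2 hd'])) v fun s hs' => (hdvd _).1 ?_
      rw [sub_smul, ← hf, ← hf, hv s hs', sub_self]
    have hH : Φ y ∈ D.diagonalSubgroup K := by
      rw [← hn₁]
      exact S.toW_ker.le (MonoidHom.mem_ker.2 (hn₁w.trans hv1))
    obtain ⟨χ, hχ⟩ := (mem_H_iff C Sm).1 hH
    obtain ⟨χ'', h1, h2⟩ := hnconj χ
    have he : χ'' = χ := by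
      apply tor_inj C Sm
      rw [← h1, ← hψtor, hχ, hn']
      show g * (ψ g)⁻¹ * ψ (g * mp (y : GL D.Idx F) * g⁻¹) * (g * (ψ g)⁻¹)⁻¹ =
        g * mp (y : GL D.Idx F) * g⁻¹
      rw [map_mul, map_mul, map_inv, hψι]
      group
    have hχA : χ ∈ A := (hA χ).2 ((hker χ).2 fun s hs' => by
      have := h2 s hs'
      rwa [he] at this)
    obtain ⟨k, hk⟩ := AddSubgroup.mem_zmultiples_iff.1 (hgenA ⟨χ, hχA⟩)
    have hk' : k • χ₀ = χ := congrArg Subtype.val hk
    refine Subgroup.mem_zpowers_iff.2 ⟨k, hΦinj ?_⟩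
    rw [map_zpow, hΦy₀, ← hχ, ← hk']
    exact ((map_zpow (torHom Sm) (Multiplicative.ofAdd χ₀) k).symm.trans (congrArg _ (ofAdd_zsmul k χ₀).symm))
  · intro y hy
    obtain ⟨i, rfl⟩ := Subgroup.mem_zpowers_iff.1 hy
    refine Subgroup.mem_centralizer_iff.2 fun z hz => ?_
    obtain ⟨j, rfl⟩ := Subgroup.mem_zpowers_iff.1 hz
    rw [← zpow_add, ← zpow_add, add_comm]

end Cfsg.Agent.ChevCoxTorus68
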