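import Mathlib

/-!
Averaging over a finite group spanned by reflections: some translate of any endomorphism avoids a
prescribed non-zero eigenvalue. Also: fixed points of an automorphism of coprime order on a free
`ZMod (r ^ E)`-module are free.
-/

set_option autoImplicit false

namespace Cfsg.Agent.ReflectionAverage68

section Avg

variable {k U : Type*} [CommRing k] [AddCommGroup U] [Module k U]

theorem alt_shift {ι : Type*} [DecidableEq ι] [Fintype ι] (f : U [⋀^ι]→ₗ[k] k) (v : ι → U)
    (j₀ : ι) (κ : ι → k) (h : κ j₀ = 0) : f (fun j => v j + κ j • v j₀) = f v := by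
  classical
  have key : ∀ T : Finset ι, j₀ ∉ T →
      f (T.piecewise (fun j => v j + κ j • v j₀) v) = f v := by
    intro T
    induction T using Finset.induction_on with
    | empty => intro _; rw [Finset.piecewise_empty]
    | insert i T hi ih =>
      intro hT
      rw [Finset.mem_insert, not_or] at hT
      rw [Finset.piecewise_insert, f.map_update_add, f.map_update_smul]
      set u := T.piecewise (fun j => v j + κ j • v j₀) v with hu
      have h0 : f (Function.update u i (v j₀)) = 0 := by
        have h1 : u j₀ = v j₀ := Finset.piecewise_eq_of_notMem _ _ _ hT.2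
        rw [← h1]
        exact f.map_update_self _ (Ne.symm hT.1)
      have h2 : Function.update u i (v i) = u := by
        rw [show v i = u i from (Finset.piecewise_eq_of_notMem _ _ _ hi).symm, Function.update_eq_self]
      rw [h2, h0, smul_zero, add_zero, ih hT.2]
  have h := key (Finset.univ.erase j₀) (Finset.notMem_erase _ _)
  rw [← h]
  congr 1
  funext j
  by_cases hj : j = j₀
  · subst hj
    rw [Finset.piecewise_eq_of_notMem _ _ _ (Finset.notMem_erase _ _), ‹κ j = 0›, zero_smul, add_zero]
  · rw [Finset.piecewise_eq_of_mem _ _ _ (Finset.mem_erase.2 ⟨hj, Finset.mem_univ _⟩)]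

variable {G : Type*} [Group G] [Finite G]

/-- Averaged over a group spanned by reflections, `det (c - y g)` is `c ^ dim U`. -/
theorem sum_det [IsDomain k] [Module.Finite k U] [Module.Free k U] [Fintype G] (ρ : G →* Module.End k U)
    (h2 : (2 : k) ≠ 0)
    (hgen : Submodule.span k {a : U | ∃ σ : G, ρ σ a = -a ∧ ∀ x, ρ σ x - x ∈ k ∙ a} = ⊤)
    (y : Module.End k U) (c : k) :
    ∑ g, LinearMap.det (c • (1 : Module.End k U) - y * ρ g) =
      (Fintype.card G : k) * c ^ Module.finrank k U := by
  classical
  let e := Module.finBasis k U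
  let f := e.det
  let col : G → (Fin (Module.finrank k U) → U) → Fin (Module.finrank k U) → U :=
    fun g x j => -(y (ρ g (x j)))
  let ce : Fin (Module.finrank k U) → U := fun j => c • e j
  have hS : ∀ S : Finset (Fin (Module.finrank k U)), S.Nonempty → ∀ x,
      ∑ g, f (S.piecewise (col g x) ce) = 0 := by
    intro S hS x
    obtain ⟨j₀, hj₀⟩ := hS
    suffices h : ∀ a, ∑ g, f (S.piecewise (col g (Function.update x j₀ a)) ce) = 0 by
      simpa using h (x j₀)
    intro a
    have hupd : ∀ g z, S.piecewise (col g (Function.update x j₀ z)) ce =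
        Function.update (S.piecewise (col g x) ce) j₀ (-(y (ρ g z))) := by
      intro g z
      funext j
      by_cases hj : j = j₀
      · subst hj; simp [col, hj₀]
      · by_cases hjS : j ∈ S <;> simp [col, hj, hjS]
    have ha : a ∈ Submodule.span k {a : U | ∃ σ : G, ρ σ a = -a ∧ ∀ x, ρ σ x - x ∈ k ∙ a} :=
      hgen ▸ Submodule.mem_top
    induction ha using Submodule.span_induction with
    | mem a ha =>
      obtain ⟨σ, hσa, hσ⟩ := ha
      set z := Function.update x j₀ a with hz
      have hza : z j₀ = a := by simp [hz]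
      choose κ hκ using fun j => Submodule.mem_span_singleton.1 (hσ (z j))
      have e1 : ∑ g, f (S.piecewise (col g z) ce) =
          ∑ g, f (S.piecewise (col g (fun j => ρ σ (z j))) ce) := by
        rw [← Equiv.sum_comp (Equiv.mulRight σ) fun g => f (S.piecewise (col g z) ce)]
        refine Finset.sum_congr rfl fun g _ => ?_
        congr 2
        funext j
        simp [col]
      have e2 : ∀ g, f (S.piecewise (col g (fun j => ρ σ (z j))) ce) =
          -f (S.piecewise (col g z) ce) := by
        intro g
        set v := S.piecewise (col g z) ce with hv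
        have hv₀ : v j₀ = -(y (ρ g a)) := by simp [hv, col, hj₀, hza]
        have hneg : f (Function.update v j₀ (-(v j₀))) = -f v := by
          rw [f.map_update_neg, Function.update_eq_self]
        rw [← hneg, ← alt_shift f (Function.update v j₀ (-(v j₀))) j₀
          (fun j => if j = j₀ then 0 else if j ∈ S then -κ j else 0) (by simp)]
        congr 1
        funext j
        by_cases hj : j = j₀
        · subst hj
          simp [col, hj₀, hza, hv₀, hσa]
        · by_cases hjS : j ∈ S
          · have h1 : ρ σ (z j) = z j + κ j • a := by rw [hκ j, add_sub_cancel]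
            simp [col, hj, hjS, hv, h1, hza, hj₀, add_comm]
          · simp [hj, hjS, hv]
      have h3 : ∑ g, f (S.piecewise (col g z) ce) = -∑ g, f (S.piecewise (col g z) ce) := by
        conv_lhs => rw [e1]
        rw [← Finset.sum_neg_distrib]
        exact Finset.sum_congr rfl fun g _ => e2 g
      have h4 : (2 : k) * ∑ g, f (S.piecewise (col g z) ce) = 0 := by linear_combination h3
      exact (mul_eq_zero.1 h4).resolve_left h2
    | zero => simp only [hupd, map_zero, neg_zero, AlternatingMap.map_update_zero, Finset.sum_const_zero]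
    | add a b _ _ ha hb =>
      simp only [hupd, map_add, neg_add, AlternatingMap.map_update_add, Finset.sum_add_distrib] at ha hb ⊢
      rw [ha, hb, add_zero]
    | smul t a _ ha =>
      simp only [hupd, map_smul, ← smul_neg, AlternatingMap.map_update_smul, smul_eq_mul,
        ← Finset.mul_sum] at ha ⊢
      rw [ha, mul_zero]
  have hsum : ∑ g, LinearMap.det (c • (1 : Module.End k U) - y * ρ g) =
      (Fintype.card G : k) * f ce := by
    have hg : ∀ g, LinearMap.det (c • (1 : Module.End k U) - y * ρ g) =
        ∑ S : Finset (Fin (Module.finrank k U)), f (S.piecewise (col g e) ce) := by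
      intro g
      have h : f.toMultilinearMap (col g e + ce) =
          ∑ S : Finset (Fin (Module.finrank k U)), f.toMultilinearMap (S.piecewise (col g e) ce) :=
        f.toMultilinearMap.map_add_univ (col g e) ce
      refine Eq.trans ?_ h
      show _ = f (col g e + ce)
      have hd := e.det_comp (c • (1 : Module.End k U) - y * ρ g) e
      rw [e.det_self, mul_one] at hd
      rw [← hd]
      show e.det _ = e.det _
      congr 1
      funext j
      simp [col, ce, sub_eq_add_neg, add_comm]
    simp only [hg]
    rw [Finset.sum_comm, Finset.sum_eq_single (∅ : Finset (Fin (Module.finrank k U)))]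
    · simp only [Finset.piecewise_empty, Finset.sum_const, Finset.card_univ, nsmul_eq_mul]
    · intro S _ hne
      exact hS S (Finset.nonempty_iff_ne_empty.2 hne) e
    · simp
  rw [hsum]
  congr 1
  show e.det (fun j => c • e j) = _
  rw [AlternatingMap.map_smul_univ, e.det_self, smul_eq_mul, mul_one, Finset.prod_const,
    Finset.card_univ, Fintype.card_fin]

/-- An endomorphism maps onto every multiple by its determinant. -/
theorem det_smul_mem_range [Module.Finite k U] [Module.Free k U] (T : Module.End k U) (x : U) :
    LinearMap.det T • x ∈ LinearMap.range T := by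
  classical
  let b := Module.Free.chooseBasis k U
  refine ⟨Matrix.toLin b b (LinearMap.toMatrix b b T).adjugate x, ?_⟩
  have h : Matrix.toLin b b (LinearMap.toMatrix b b T * (LinearMap.toMatrix b b T).adjugate) x =
      LinearMap.det T • x := by
    rw [Matrix.mul_adjugate, LinearMap.det_toMatrix, map_smul, Matrix.toLin_one, LinearMap.smul_apply,
      LinearMap.id_apply]
  rw [← h, Matrix.toLin_mul b b b, LinearMap.comp_apply, Matrix.toLin_toMatrix]

end Avg

section Free

variable {r E : ℕ}

theorem zmod_isLocalRing (hr : r.Prime) (hE : E ≠ 0) : IsLocalRing (ZMod (r ^ E)) := by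
  have : Fact (1 < r ^ E) := ⟨Nat.one_lt_pow hE hr.one_lt⟩
  have : NeZero (r ^ E) := ⟨(pow_pos hr.pos E).ne'⟩
  have key : ∀ a : ZMod (r ^ E), a ∈ nonunits (ZMod (r ^ E)) ↔ (r : ZMod (r ^ E)) ∣ a := by
    intro a
    constructor
    · intro h
      have h1 : ¬ Nat.Coprime a.val (r ^ E) := fun hc => h (by
        rw [← ZMod.natCast_zmod_val a]; exact (ZMod.isUnit_iff_coprime _ _).2 hc)
      rw [Nat.coprime_pow_right_iff (Nat.pos_of_ne_zero hE), Nat.coprime_comm,
        hr.coprime_iff_not_dvd, not_not] at h1
      obtain ⟨c, hc⟩ := h1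
      exact ⟨c, by rw [← ZMod.natCast_zmod_val a, hc, Nat.cast_mul]⟩
    · rintro ⟨c, rfl⟩ h
      have h1 := (ZMod.isUnit_iff_coprime r (r ^ E)).1 (isUnit_of_mul_isUnit_left h)
      rw [Nat.coprime_pow_right_iff (Nat.pos_of_ne_zero hE), hr.coprime_iff_not_dvd] at h1
      exact h1 dvd_rfl
  refine IsLocalRing.of_nonunits_add fun a b ha hb => ?_
  exact (key _).2 (dvd_add ((key a).1 ha) ((key b).1 hb))

/-- Fixed points of an automorphism of order prime to `r` of a free `ZMod (r ^ E)`-module. -/
theorem nonempty_ker_equiv (hr : r.Prime) (hE : E ≠ 0) {n M a : ℕ}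
    (T : Module.End (ZMod (r ^ E)) (Fin n → ZMod (r ^ E))) (hM : ¬ r ∣ M) (hT : T ^ M = 1)
    (hcard : Nat.card ↥(LinearMap.ker (T - 1)) = (r ^ E) ^ a) :
    Nonempty (↥(LinearMap.ker (T - 1)) ≃+ (Fin a → ZMod (r ^ E))) := by
  have := zmod_isLocalRing hr hE
  have : NeZero (r ^ E) := ⟨(pow_pos hr.pos E).ne'⟩
  have hu : IsUnit ((M : ZMod (r ^ E))) := by
    rw [ZMod.isUnit_iff_coprime, Nat.coprime_pow_right_iff (Nat.pos_of_ne_zero hE), Nat.coprime_comm]
    exact hr.coprime_iff_not_dvd.2 hM
  obtain ⟨u, hu⟩ := hu
  let e : Module.End (ZMod (r ^ E)) (Fin n → ZMod (r ^ E)) :=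
    (↑u⁻¹ : ZMod (r ^ E)) • ∑ i ∈ Finset.range M, T ^ i
  have hmem : ∀ x, e x ∈ LinearMap.ker (T - 1) := by
    intro x
    rw [LinearMap.mem_ker, ← Module.End.mul_apply]
    show ((T - 1) * ((↑u⁻¹ : ZMod (r ^ E)) • ∑ i ∈ Finset.range M, T ^ i)) x = 0
    rw [mul_smul_comm, mul_geom_sum, hT, sub_self, smul_zero, LinearMap.zero_apply]
  have hfix : ∀ x ∈ LinearMap.ker (T - 1), e x = x := by
    intro x hx
    rw [LinearMap.mem_ker, LinearMap.sub_apply, Module.End.one_apply, sub_eq_zero] at hx
    have hp : ∀ i : ℕ, (T ^ i) x = x := by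
      intro i
      induction i with
      | zero => simp
      | succ i ih => rw [pow_succ, Module.End.mul_apply, hx, ih]
    simp only [e, LinearMap.smul_apply, LinearMap.sum_apply, hp, Finset.sum_const, Finset.card_range]
    rw [← Nat.cast_smul_eq_nsmul (ZMod (r ^ E)), ← hu, ← mul_smul, Units.inv_mul, one_smul]
  have hproj : Module.Projective (ZMod (r ^ E)) ↥(LinearMap.ker (T - 1)) :=
    Module.Projective.of_split (LinearMap.ker (T - 1)).subtype (e.codRestrict _ hmem)
      (LinearMap.ext fun x => Subtype.ext (hfix _ x.2))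
  have : Module.Free (ZMod (r ^ E)) ↥(LinearMap.ker (T - 1)) := Module.free_of_flat_of_isLocalRing
  let b := Module.finBasis (ZMod (r ^ E)) ↥(LinearMap.ker (T - 1))
  have hb := Nat.card_congr b.equivFun.toEquiv
  rw [hcard, Nat.card_fun, Nat.card_fin, Nat.card_zmod] at hb
  have hba := Nat.pow_right_injective (Nat.one_lt_pow hE hr.one_lt) hb
  exact ⟨((b.reindex (finCongr hba.symm)).equivFun).toAddEquiv⟩

end Free

end Cfsg.Agent.ReflectionAverage68
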