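import Mathlib

/-!
Sylow `r`-subgroups of `GL_n(q)` and `SL_n(q)` for `n < r`, `r ∤ q`: homocyclic of exponent the
`r`-part of `q ^ d - 1`, `d` the order of `q` modulo `r`.
-/

set_option autoImplicit false

namespace Cfsg.Agent.SylowGLTorus

open Finset Polynomial
open scoped MatrixGroups

/-! ### Arithmetic -/

section Arith

variable {r q : ℕ} [hr : Fact r.Prime]

theorem cast_ne_zero (hrq : ¬ r ∣ q) : (q : ZMod r) ≠ 0 := by
  rwa [Ne, ZMod.natCast_eq_zero_iff]

theorem ord_pos (hrq : ¬ r ∣ q) : 0 < orderOf (q : ZMod r) := by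
  rw [orderOf_pos_iff, isOfFinOrder_iff_pow_eq_one]
  exact ⟨r - 1, by have := hr.out.two_le; omega, ZMod.pow_card_sub_one_eq_one (cast_ne_zero hrq)⟩

theorem dvd_pow_sub_one_iff (hq : 0 < q) (i : ℕ) : r ∣ q ^ i - 1 ↔ orderOf (q : ZMod r) ∣ i := by
  rw [← ZMod.natCast_eq_zero_iff, Nat.cast_sub (Nat.one_le_pow _ _ hq), sub_eq_zero,
    Nat.cast_pow, Nat.cast_one, orderOf_dvd_iff_pow_eq_one]

/-- The exponent of the `r`-part of `q ^ d - 1`. -/
noncomputable def expA (r q : ℕ) : ℕ := (q ^ orderOf (q : ZMod r) - 1).factorization r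

theorem pow_sub_one_ne_zero (hq : 1 < q) {i : ℕ} (hi : i ≠ 0) : q ^ i - 1 ≠ 0 := by
  have := Nat.one_lt_pow hi hq
  omega

theorem padicValNat_cyclotomic (hq : 1 < q) (hrq : ¬ r ∣ q) :
    padicValNat r ((Polynomial.cyclotomic (orderOf (q : ZMod r)) ℤ).eval (q : ℤ)).natAbs = expA r q := by
  classical
  set d := orderOf (q : ZMod r) with hd
  have hdpos : 0 < d := ord_pos hrq
  have hev : ∀ e : ℕ, 0 < e →
      q ^ e - 1 = ∏ i ∈ e.divisors, ((Polynomial.cyclotomic i ℤ).eval (q : ℤ)).natAbs := by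
    intro e he
    have h := congrArg (fun f : ℤ[X] => (f.eval (q : ℤ)).natAbs) (prod_cyclotomic_eq_X_pow_sub_one he ℤ)
    simp only [Polynomial.eval_prod, eval_sub, eval_pow, eval_X, eval_one] at h
    rw [show ((q : ℤ) ^ e - 1) = ((q ^ e - 1 : ℕ) : ℤ) by
      rw [Nat.cast_sub (Nat.one_le_pow _ _ (by omega))]; simp, Int.natAbs_natCast] at h
    rw [← h]
    exact map_prod Int.natAbsHom _ _
  have hne : ∀ i ∈ d.divisors, ((Polynomial.cyclotomic i ℤ).eval (q : ℤ)).natAbs ≠ 0 := by
    intro i hi h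
    apply pow_sub_one_ne_zero hq hdpos.ne'
    rw [hev d hdpos]
    exact Finset.prod_eq_zero hi h
  rw [← Nat.factorization_def _ hr.out, expA, ← hd, hev d hdpos,
    Nat.factorization_prod hne, Finsupp.finsetSum_apply,
    Finset.sum_eq_single d]
  · intro i hi hid
    refine Nat.factorization_eq_zero_of_not_dvd fun hdvd => ?_
    have hidd : i ∣ d := (Nat.mem_divisors.1 hi).1
    have hipos : 0 < i := Nat.pos_of_mem_divisors hi
    have h1 : r ∣ q ^ i - 1 := by
      rw [hev i hipos]
      exact hdvd.trans (Finset.dvd_prod_of_mem _ (Nat.mem_divisors_self i hipos.ne'))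
    exact hid (Nat.dvd_antisymm hidd ((dvd_pow_sub_one_iff (by omega) i).1 h1))
  · intro h
    exact absurd (Nat.mem_divisors_self d hdpos.ne') h

theorem factorization_pow_sub_one' (hq : 1 < q) {i : ℕ} (hi : i ≠ 0) (hir : i < r * orderOf (q : ZMod r)) :
    (q ^ i - 1).factorization r = if orderOf (q : ZMod r) ∣ i then expA r q else 0 := by
  set d := orderOf (q : ZMod r) with hd
  split_ifs with h
  · obtain ⟨j, rfl⟩ := h
    have hd0 : d ≠ 0 := left_ne_zero_of_mul hi
    have hj0 : j ≠ 0 := right_ne_zero_of_mul hi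
    have hjr : j < r := Nat.lt_of_mul_lt_mul_left (a := d) (by rw [mul_comm d r]; exact hir)
    have hgeom : q ^ (d * j) - 1 = (∑ t ∈ Finset.range j, (q ^ d) ^ t) * (q ^ d - 1) := by
      rw [geom_sum_mul_of_one_le (Nat.one_le_pow _ _ (by omega)), ← pow_mul]
    have hnd : ¬ r ∣ ∑ t ∈ Finset.range j, (q ^ d) ^ t := by
      rw [← ZMod.natCast_eq_zero_iff]
      push_cast
      rw [hd, pow_orderOf_eq_one]
      simp only [one_pow, Finset.sum_const, Finset.card_range, nsmul_eq_mul, mul_one]
      rw [ZMod.natCast_eq_zero_iff]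
      exact fun h => absurd (Nat.le_of_dvd (Nat.pos_of_ne_zero hj0) h) (not_le.2 hjr)
    rw [hgeom, Nat.factorization_mul (fun h => hnd (by rw [h]; exact dvd_zero r)) (pow_sub_one_ne_zero hq hd0)]
    simp [Nat.factorization_eq_zero_of_not_dvd hnd, expA, ← hd]
  · exact Nat.factorization_eq_zero_of_not_dvd fun hdvd => h ((dvd_pow_sub_one_iff (by omega) i).1 hdvd)

theorem factorization_pow_sub_one (hq : 1 < q) {i : ℕ} (hi : i ≠ 0) (hir : i < r) :
    (q ^ i - 1).factorization r = if orderOf (q : ZMod r) ∣ i then expA r q else 0 := by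
  by_cases hrq : r ∣ q
  · have hd : orderOf (q : ZMod r) = 0 := by
      rw [orderOf_eq_zero_iff', (ZMod.natCast_eq_zero_iff q r).2 hrq]
      exact fun k hk => by rw [zero_pow hk.ne']; exact zero_ne_one
    rw [hd, if_neg (fun h => hi (Nat.zero_dvd.1 h))]
    refine Nat.factorization_eq_zero_of_not_dvd fun h => hi ?_
    have := (dvd_pow_sub_one_iff (r := r) (by omega : 0 < q) i).1 h
    rwa [hd, zero_dvd_iff] at this
  · exact factorization_pow_sub_one' hq hi
      (lt_of_lt_of_le hir (Nat.le_mul_of_pos_right r (ord_pos hrq)))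

end Arith

/-! ### Group orders -/

section Orders

variable {F : Type*} [Field F] [Fintype F] {q : ℕ} {r : ℕ} [hr : Fact r.Prime]

theorem factorization_card_GL' (hq : Fintype.card F = q) {n : ℕ} (hrn : n < r * orderOf (q : ZMod r)) (hrq : ¬ r ∣ q) :
    (Nat.card (GL (Fin n) F)).factorization r = n / orderOf (q : ZMod r) * expA r q := by
  subst hq
  have hq1 : 1 < Fintype.card F := Fintype.one_lt_card
  set q := Fintype.card F
  have hne : ∀ i : Fin n, q ^ n - q ^ (i : ℕ) = q ^ (i : ℕ) * (q ^ (n - i) - 1) := by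
    intro i
    rw [Nat.mul_sub, mul_one, ← pow_add, Nat.add_sub_cancel' i.isLt.le]
  have hne0 : ∀ i : Fin n, q ^ (i : ℕ) * (q ^ (n - i) - 1) ≠ 0 := fun i =>
    mul_ne_zero (pow_ne_zero _ (by omega)) (pow_sub_one_ne_zero hq1 (by have := i.isLt; omega))
  rw [Matrix.card_GL_field, Finset.prod_congr rfl fun i _ => hne i,
    Nat.factorization_prod fun i _ => hne0 i, Finsupp.finsetSum_apply]
  have hterm : ∀ i : Fin n, (q ^ (i : ℕ) * (q ^ (n - i) - 1)).factorization r =
      if orderOf (q : ZMod r) ∣ n - i then expA r q else 0 := by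
    intro i
    have hi := i.isLt
    rw [Nat.factorization_mul (pow_ne_zero _ (by omega)) (pow_sub_one_ne_zero hq1 (by omega)),
      Finsupp.add_apply, Nat.factorization_pow]
    simp [Nat.factorization_eq_zero_of_not_dvd hrq,
      factorization_pow_sub_one' (r := r) hq1 (show n - (i : ℕ) ≠ 0 by omega) (lt_of_le_of_lt (Nat.sub_le n (i : ℕ)) hrn)]
  simp only [hterm, ← Finset.sum_filter, Finset.sum_const, smul_eq_mul]
  congr 1
  rw [← Nat.Ioc_filter_dvd_card_eq_div]
  refine Finset.card_bij (fun i _ => n - i.val) ?_ ?_ ?_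
  · intro i hi
    simp only [Finset.mem_filter, Finset.mem_univ, true_and] at hi
    simp only [Finset.mem_filter, Finset.mem_Ioc]
    exact ⟨⟨by omega, by omega⟩, hi⟩
  · intro i _ j _ h
    exact Fin.ext (by omega)
  · intro j hj
    simp only [Finset.mem_filter, Finset.mem_Ioc] at hj
    refine ⟨⟨n - j, by omega⟩, ?_, by simp; omega⟩
    simp only [Finset.mem_filter, Finset.mem_univ, true_and]
    rw [Nat.sub_sub_self hj.1.2]
    exact hj.2

theorem factorization_card_GL (hq : Fintype.card F = q) {n : ℕ} (hrn : n < r) (hrq : ¬ r ∣ q) :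
    (Nat.card (GL (Fin n) F)).factorization r = n / orderOf (q : ZMod r) * expA r q :=
  factorization_card_GL' hq (lt_of_lt_of_le hrn (Nat.le_mul_of_pos_right r (ord_pos hrq))) hrq

theorem factorization_card_SL (hq : Fintype.card F = q) {n : ℕ} (hn : 0 < n) (hrn : n < r) (hrq : ¬ r ∣ q) :
    (Nat.card (Matrix.SpecialLinearGroup (Fin n) F)).factorization r + (q - 1).factorization r =
      n / orderOf (q : ZMod r) * expA r q := by
  have : Nonempty (Fin n) := ⟨⟨0, hn⟩⟩
  have hq1 : 1 < q := hq ▸ Fintype.one_lt_card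
  have hdet : Function.Surjective (Matrix.GeneralLinearGroup.det : GL (Fin n) F →* Fˣ) := by
    intro u
    refine ⟨Matrix.GeneralLinearGroup.mkOfDetNeZero
      (Matrix.diagonal (Function.update (1 : Fin n → F) ⟨0, hn⟩ u)) ?_, Units.ext ?_⟩
    · simp [Matrix.det_diagonal, Finset.prod_update_of_mem]
    · simp [Matrix.GeneralLinearGroup.mkOfDetNeZero, Matrix.det_diagonal, Finset.prod_update_of_mem]
  have hker : Nat.card (Matrix.GeneralLinearGroup.det : GL (Fin n) F →* Fˣ).ker =
      Nat.card (Matrix.SpecialLinearGroup (Fin n) F) := by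
    refine (Nat.card_congr (Equiv.ofBijective (fun g : Matrix.SpecialLinearGroup (Fin n) F =>
      (⟨Matrix.SpecialLinearGroup.toGL g, MonoidHom.mem_ker.2 (Units.ext g.2)⟩ :
        (Matrix.GeneralLinearGroup.det : GL (Fin n) F →* Fˣ).ker)) ⟨?_, ?_⟩)).symm
    · intro a b h
      exact Subtype.ext (congrArg Units.val (congrArg Subtype.val h))
    · rintro ⟨g, hg⟩
      exact ⟨⟨g, congrArg Units.val (MonoidHom.mem_ker.1 hg)⟩, Subtype.ext (Units.ext rfl)⟩
  have hmul : Nat.card (GL (Fin n) F) = (q - 1) * Nat.card (Matrix.SpecialLinearGroup (Fin n) F) := by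
    rw [← hker, (Matrix.GeneralLinearGroup.det : GL (Fin n) F →* Fˣ).ker.card_eq_card_quotient_mul_card_subgroup,
      Nat.card_congr (QuotientGroup.quotientKerEquivOfSurjective _ hdet).toEquiv, Nat.card_units,
      Nat.card_eq_fintype_card, hq]
  rw [← factorization_card_GL hq hrn hrq, hmul,
    Nat.factorization_mul (by omega) Nat.card_pos.ne', Finsupp.add_apply, add_comm]

end Orders

/-! ### The tori -/

section Torus

/-- A group that embeds with full `r`-part is the Sylow `r`-subgroup. -/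
theorem nonempty_equiv_of_injective {G V : Type*} [Group G] [Finite G] [Group V] {r : ℕ} [Fact r.Prime]
    (f : V →* G) (hf : Function.Injective f) (hV : Nat.card V = r ^ (Nat.card G).factorization r)
    (P : Sylow r G) : Nonempty (↥(P : Subgroup G) ≃* V) := by
  let Q : Sylow r G := Sylow.ofCard f.range (by
    rw [← Nat.card_congr (MonoidHom.ofInjective hf).toEquiv, hV])
  exact ⟨(P.equiv Q).trans (MonoidHom.ofInjective hf).symm⟩

variable {F : Type*} [Field F] [Fintype F] {q : ℕ} {r : ℕ} [hr : Fact r.Prime]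

/-- An element of order the `r`-part of `q ^ d - 1` in `GL_d(q)`. -/
theorem exists_cyclic_block (hq : Fintype.card F = q) (hrq : ¬ r ∣ q) :
    ∃ φ : Multiplicative (ZMod (r ^ expA r q)) →* GL (Fin (orderOf (q : ZMod r))) F,
      Function.Injective φ := by
  set d := orderOf (q : ZMod r) with hd
  have : NeZero d := ⟨(ord_pos hrq).ne'⟩
  obtain ⟨p, hp⟩ := CharP.exists F
  have : Fact p.Prime := ⟨CharP.char_is_prime F p⟩
  let L := FiniteField.Extension F p d
  have : Fintype L := Fintype.ofFinite L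
  have hL : Nat.card Lˣ = q ^ d - 1 := by
    rw [Nat.card_units, FiniteField.natCard_extension, Nat.card_eq_fintype_card, hq]
  obtain ⟨g, hg⟩ := IsCyclic.exists_generator (α := Lˣ)
  have hgord : orderOf g = q ^ d - 1 := by rw [orderOf_eq_card_of_forall_mem_zpowers hg, hL]
  have hdvd : r ^ expA r q ∣ orderOf g := by
    rw [hgord]
    exact Nat.ordProj_dvd _ _
  set ω := g ^ (orderOf g / r ^ expA r q) with hω
  have hωord : orderOf ω = r ^ expA r q := by
    have hg0 : orderOf g ≠ 0 := (orderOf_pos g).ne'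
    rw [hω, orderOf_pow_of_dvd (fun h => ?_) (Nat.div_dvd_of_dvd hdvd), Nat.div_div_self hdvd hg0]
    rw [Nat.div_eq_zero_iff] at h
    rcases h with h | h
    · exact absurd h (pow_ne_zero _ hr.out.ne_zero)
    · exact absurd (Nat.le_of_dvd (Nat.pos_of_ne_zero hg0) hdvd) (not_le.2 h)
  have hcard : Nat.card (Subgroup.zpowers ω) = r ^ expA r q := by rw [Nat.card_zpowers, hωord]
  let e : Multiplicative (ZMod (r ^ expA r q)) ≃* Subgroup.zpowers ω :=
    hcard ▸ zmodCyclicMulEquiv inferInstance
  let b := Module.finBasisOfFinrankEq F L (FiniteField.finrank_extension F p d)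
  refine ⟨((Units.map (Algebra.leftMulMatrix b).toMonoidHom).comp (Subgroup.zpowers ω).subtype).comp
    e.toMonoidHom, ?_⟩
  intro x y h
  apply e.injective
  apply Subtype.ext
  apply Units.ext
  exact Algebra.leftMulMatrix_injective b (congrArg Units.val h)

/-- Block diagonal embedding of `m` copies of `GL_d`, completed by an identity block. -/
def blockHom {d m s : ℕ} : (Fin m → Matrix (Fin d) (Fin d) F) →*
    Matrix ((Fin d × Fin m) ⊕ Fin s) ((Fin d × Fin m) ⊕ Fin s) F where
  toFun M := Matrix.fromBlocks (Matrix.blockDiagonal M) 0 0 1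
  map_one' := by simp [Matrix.blockDiagonal_one]
  map_mul' M N := by simp [Matrix.fromBlocks_multiply, Pi.mul_def]

omit [Fintype F] in
theorem blockHom_injective {d m s : ℕ} : Function.Injective (blockHom (F := F) (d := d) (m := m) (s := s)) := by
  intro M N h
  funext k
  ext i j
  have := congrFun (congrFun h (Sum.inl (i, k))) (Sum.inl (j, k))
  simpa [blockHom, Matrix.blockDiagonal_apply] using this

/-- The homocyclic subgroup of `GL_n`. -/
theorem exists_torus (hq : Fintype.card F = q) (hrq : ¬ r ∣ q) (n : ℕ) :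
    ∃ f : (Fin (n / orderOf (q : ZMod r)) → Multiplicative (ZMod (r ^ expA r q))) →* GL (Fin n) F,
      Function.Injective f := by
  set d := orderOf (q : ZMod r) with hd
  obtain ⟨φ, hφ⟩ := exists_cyclic_block hq hrq
  let e : (Fin d × Fin (n / d)) ⊕ Fin (n % d) ≃ Fin n :=
    ((Equiv.sumCongr finProdFinEquiv (Equiv.refl _)).trans finSumFinEquiv).trans
      (finCongr (Nat.div_add_mod n d))
  let M : (Fin (n / d) → Multiplicative (ZMod (r ^ expA r q))) →* Matrix (Fin n) (Fin n) F :=
    (Matrix.reindexAlgEquiv F F e).toMulEquiv.toMonoidHom.comp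
      (blockHom.comp (MonoidHom.compLeft ((Units.coeHom _).comp φ) _))
  refine ⟨M.toHomUnits, fun x y h => ?_⟩
  have h1 : M x = M y := congrArg Units.val h
  have h2 := (Matrix.reindexAlgEquiv F F e).injective h1
  funext k
  exact hφ (Units.ext (congrFun (blockHom_injective h2) k))

end Torus

end Cfsg.Agent.SylowGLTorus
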