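import Cfsg.Agent.Lib.ChevTorusValues68
import Cfsg.Agent.Lib.ReflectionAverage68
import Cfsg.Agent.Lib.ChevCoxTorus68
import Cfsg.Agent.Lib.SylowGLTorus
import Cfsg.Agent.Lib.ChevOrder

/-!
Sylow subgroups of Chevalley groups for primes prime to the characteristic and to the order of the
Weyl group: they are conjugate over an extension field into the torus and are the fixed points there
of a Frobenius twisted by a Weyl element, hence homocyclic.
-/

set_option autoImplicit false

namespace Cfsg.Agent.ChevSylowTorus68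

open Cfsg.Lie Cfsg.Agent.ChevalleyCert Cfsg.Agent.ChevWeyl Cfsg.Agent.ChevBruhat
  Cfsg.Agent.ChevRootCoord68 Cfsg.Agent.ChevTorusValues68 Cfsg.Agent.CyclotomicCharpoly68
open Cfsg.Agent.ChevCoxTorus68 (Pm act_Pm map_mem_group mem_range_of_pow_card exists_prim Pm_pow)
open Cfsg.Agent.ChevalleyTorus (torus tchar tmat)
open Cfsg.Agent.ChevalleyTorusCard (Smith act act_mul act_one act_zero)
open Cfsg.Agent.SylowGLTorus (expA ord_pos dvd_pow_sub_one_iff padicValNat_cyclotomic pow_sub_one_ne_zero)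

variable {D : ChevalleyDatum}

theorem act_eq_mulVec {l m : ℕ} (B : Matrix (Fin l) (Fin l) ℤ) (x : Fin l → ZMod m) :
    act B x = (B.map (Int.cast : ℤ → ZMod m)).mulVec x := by
  funext i
  simp [act, Matrix.mulVec, dotProduct, zsmul_eq_mul]

theorem exists_left_inverse {δ μ m : ℕ} (Sm : Smith D δ μ) (hm : δ.Coprime m) [NeZero m] :
    ∃ T' : Matrix (Fin D.rank) (Fin D.rank) ℤ, ∀ f : Fin D.rank → ZMod m, act (Sm.A * T') f = f := by
  have hu : IsUnit (δ : ZMod m) := (ZMod.isUnit_iff_coprime δ m).2 hm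
  obtain ⟨u, hu⟩ := hu
  set k : ℤ := (((↑u⁻¹ : ZMod m).val : ℕ) : ℤ) with hk
  refine ⟨k • ((δ : ℤ) • Sm.T + Sm.M * Sm.U), fun f => ?_⟩
  have hTA : ((δ : ℤ) • Sm.T + Sm.M * Sm.U) * Sm.A =
      (δ : ℤ) • (1 : Matrix (Fin D.rank) (Fin D.rank) ℤ) := by
    rw [Matrix.add_mul, Matrix.smul_mul, Matrix.mul_assoc, Sm.h3, Matrix.mul_smul, ← smul_add, Sm.h4]
  set c := (Int.castRingHom (ZMod m)).mapMatrix (m := Fin D.rank) with hc
  have h1 : c (k • ((δ : ℤ) • Sm.T + Sm.M * Sm.U)) * c Sm.A = 1 := by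
    rw [← map_mul, Matrix.smul_mul, hTA, smul_smul]
    ext i j
    simp only [hc, RingHom.mapMatrix_apply, Matrix.map_apply, Matrix.smul_apply, Matrix.one_apply,
      smul_eq_mul, eq_intCast, Int.cast_mul, Int.cast_natCast, hk]
    rw [ZMod.natCast_zmod_val, ← hu, Units.inv_mul, one_mul]
    split <;> simp
  rw [act_eq_mulVec]
  show (c (Sm.A * _)).mulVec f = f
  rw [map_mul, mul_eq_one_comm.mp h1, Matrix.one_mulVec]

theorem ev_map {M M' : Type*} [AddCommGroup M] [AddCommGroup M'] (C : Cert D) (g : M →+ M')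
    (f : Fin D.rank → M) (s : ℕ) : ev C (g ∘ f) s = g (ev C f s) := by
  simp [ev]

theorem card_W (X : Weyl D) : Nat.card X.W = (X.chain.map CoxeterTables.Level.size).prod := by
  have := Fintype.ofFinite X.W
  rw [Nat.card_eq_fintype_card]
  simpa [Function.comp_def] using X.poincare 1

theorem Pm_mul (C : Cert D) (X : Weyl D) (a b : X.W) : Pm C X (a * b) = Pm C X b * Pm C X a := by
  refine Matrix.ext fun j k => ?_
  have := congrFun (show act (Pm C X (a * b)) (Pi.single k (1 : ℤ)) =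
    act (Pm C X b * Pm C X a) (Pi.single k (1 : ℤ)) by
      rw [act_Pm, wact_mul, act_mul, act_Pm, act_Pm]) j
  simpa [act, Pi.single_apply] using this

theorem factorization_list_prod {r q : ℕ} [Fact r.Prime] (hq : 1 < q) :
    ∀ ds : List ℕ, (∀ e ∈ ds, ¬ r ∣ e) →
      (ds.map fun e => q ^ e - 1).prod ≠ 0 ∧
      ((ds.map fun e => q ^ e - 1).prod).factorization r =
        (ds.filter fun e => orderOf (q : ZMod r) ∣ e).length * expA r q := by
  intro ds
  induction ds with
  | nil => simp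
  | cons e l ih =>
    intro h
    have hre : ¬ r ∣ e := h e List.mem_cons_self
    obtain ⟨h1, h2⟩ := ih fun x hx => h x (List.mem_cons_of_mem _ hx)
    have he : e ≠ 0 := fun h0 => hre (h0 ▸ dvd_zero r)
    have hne := pow_sub_one_ne_zero (q := q) hq he
    rw [List.map_cons, List.prod_cons]
    refine ⟨mul_ne_zero hne h1, ?_⟩
    rw [Nat.factorization_mul hne h1, Finsupp.add_apply, h2, List.filter_cons]
    by_cases hd : orderOf (q : ZMod r) ∣ e
    · rw [if_pos (by simpa using hd), List.length_cons]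
      obtain ⟨j, rfl⟩ := hd
      have hj : ¬ r ∣ j := fun hj => hre (hj.mul_left _)
      set d := orderOf (q : ZMod r) with hd
      have hgeom : q ^ (d * j) - 1 = (∑ t ∈ Finset.range j, (q ^ d) ^ t) * (q ^ d - 1) := by
        rw [geom_sum_mul_of_one_le (Nat.one_le_pow _ _ (by omega)), ← pow_mul]
      have hnd : ¬ r ∣ ∑ t ∈ Finset.range j, (q ^ d) ^ t := by
        rw [← ZMod.natCast_eq_zero_iff]
        push_cast
        rw [hd, pow_orderOf_eq_one]
        simp only [one_pow, Finset.sum_const, Finset.card_range, nsmul_eq_mul, mul_one]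
        rwa [ZMod.natCast_eq_zero_iff]
      rw [hgeom, Nat.factorization_mul (fun h0 => hnd (by rw [h0]; exact dvd_zero r))
        (pow_sub_one_ne_zero hq (left_ne_zero_of_mul he))]
      simp [Nat.factorization_eq_zero_of_not_dvd hnd, expA, ← hd]
      ring
    · rw [if_neg (by simpa using hd), Nat.factorization_eq_zero_of_not_dvd fun hdvd =>
        hd ((dvd_pow_sub_one_iff (by omega) e).1 hdvd), zero_add]

variable (C : Cert D)

include C in
/-- An `r`-subgroup is conjugate into the torus when `r` is prime to its index. -/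
theorem exists_conj_torus {K : Type*} [Field K] [Fintype K] (X : Weyl D)
    (hs : suppCheck D = true) {δ μ : ℕ} (Sm : Smith D δ μ) (ds : List ℕ)
    (hpoly : ChevOrder.polyOK X.chain D.rank ds = true)
    (hlen : ds.length = D.rank) {r : ℕ} [Fact r.Prime] (hcong : (Fintype.card K : ZMod r) = 1)
    (hds : ∀ e ∈ ds, ¬ r ∣ e) {Q : Subgroup ↥(D.group K)} (hQ : IsPGroup r ↥Q) :
    ∃ g ∈ D.group K, ∀ x ∈ Q, g * (x : GL D.Idx K) * g⁻¹ ∈ D.diagonalSubgroup K := by
  classical
  let S : Sys D K := ChevBruhatInstance.mkSys C X hs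
  set q := Fintype.card K with hq
  have hq1 : 1 < q := Fintype.one_lt_card
  have hH := ChevalleyTorusCard.card_H (F := K) C Sm
  have hG := ChevOrder.order_eq (F := K) C X hs ds hpoly hH
  rw [← hq] at hG hH
  set e₀ := Nat.gcd (q - 1) δ ^ μ with he₀
  set R := (ds.map fun e => ∑ i ∈ Finset.range e, q ^ i).prod with hR
  have hprod : (ds.map fun e => q ^ e - 1).prod = R * (q - 1) ^ ds.length := by
    rw [hR]
    clear hpoly hlen hds hG hR R
    induction ds with
    | nil => simp
    | cons a l ih =>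
      rw [List.map_cons, List.prod_cons, ih, List.map_cons, List.prod_cons, List.length_cons, pow_succ,
        ← geom_sum_mul_of_one_le hq1.le a]
      ring
  let T : Subgroup ↥(D.group K) := (D.diagonalSubgroup K).subgroupOf (D.group K)
  have hT : Nat.card ↥T = Nat.card ↥(D.diagonalSubgroup K) :=
    Nat.card_congr (Subgroup.subgroupOfEquivOfLe S.H_le_group).toEquiv
  have hidx : T.index = q ^ (D.nroots / 2) * R := by
    rw [← T.card_mul_index, hT, ← mul_assoc, hH, hprod, hlen] at hG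
    apply Nat.eq_of_mul_eq_mul_left (pow_pos (show 0 < q - 1 by omega) D.rank)
    rw [hG]; ring
  have hr : r.Prime := Fact.out
  have hnd : ¬ r ∣ T.index := by
    rw [hidx, hr.dvd_mul]
    rintro (h1 | h1)
    · have := (ZMod.natCast_eq_zero_iff _ r).2 (hr.dvd_of_dvd_pow h1)
      rw [hcong] at this
      exact one_ne_zero this
    · rw [hR] at h1
      obtain ⟨a, ha, hdvd⟩ := hr.prime.dvd_prod_iff.1 h1
      obtain ⟨e, he, rfl⟩ := List.mem_map.1 ha
      refine hds e he ((ZMod.natCast_eq_zero_iff _ r).1 ?_)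
      rw [← (ZMod.natCast_eq_zero_iff _ r).2 hdvd]
      simp [hcong]
  obtain ⟨a, ha⟩ := hQ.nonempty_fixed_point_of_prime_not_dvd_card (↥(D.group K) ⧸ T) hnd
  induction a using QuotientGroup.induction_on with
  | _ a =>
    refine ⟨((a⁻¹ : ↥(D.group K)) : GL D.Idx K), SetLike.coe_mem _, fun x hx => ?_⟩
    have h1 : (QuotientGroup.mk (x * a) : ↥(D.group K) ⧸ T) = QuotientGroup.mk a := ha ⟨x, hx⟩
    have h2 := QuotientGroup.eq.1 h1.symm
    rw [Subgroup.mem_subgroupOf] at h2
    rw [Subgroup.coe_inv, inv_inv]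
    simpa [mul_assoc] using h2

/-- the coefficient vector of a root -/
def coefZ (s : ℕ) : Fin D.rank → ℤ := fun j => C.coef s j.val

theorem vecMul_coefZ (X : Weyl D) (x : X.W) {s : ℕ} (hs : s < D.nroots) :
    Matrix.vecMul (coefZ C s) (Pm C X x) = coefZ C (X.img x s) := by
  funext k
  have := ev_wact C X x (Pi.single k (1 : ℤ)) hs
  simpa [ev, wact, coefZ, Pi.single_apply, Matrix.vecMul, dotProduct, Pm] using this

theorem coefZ_reflect (X : Weyl D) (v : X.W) (i : Fin D.rank) {s : ℕ} (hs : s < D.nroots) :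
    coefZ C (X.img (v * X.C.simple i * v⁻¹) s) =
      coefZ C s - D.cartan i.val (X.img v⁻¹ s) • coefZ C (X.img v (D.simple i.val)) := by
  funext k
  have h := X.img_lt v⁻¹ hs
  have e : ∀ s, ev C (Pi.single k (1 : ℤ)) s = C.coef s k.val := fun s => by
    simp [ev, Pi.single_apply]
  show C.coef _ k.val = C.coef s k.val - D.cartan i.val _ * C.coef _ k.val
  rw [← e, ← e, ← e, X.img_mul, X.img_mul, X.img_simple i h,
    ← ev_wact C X v _ (X.root_facts' h i.isLt).2.2.1, ev_reflect C _ i h, ev_wact C X v _ h,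
    X.img_img_inv, smul_eq_mul]
  rfl

include C in
/-- Sylow subgroups are homocyclic. -/
theorem nonempty_sylow_equiv (X : Weyl D) (hs : suppCheck D = true) {δ μ : ℕ} (Sm : Smith D δ μ)
    (ds : List ℕ) (hpoly : ChevOrder.polyOK X.chain D.rank ds = true) (hlen : ds.length = D.rank)
    (hWcard : (X.chain.map CoxeterTables.Level.size).prod = ds.prod) (hδ : δ ∣ ds.prod) (h2 : 2 ∣ ds.prod)
    {F : Type*} [Field F] [Fintype F] (r : ℕ) [Fact r.Prime] (hrq : ¬ r ∣ Fintype.card F)
    (hrW : ¬ r ∣ ds.prod) (P : Sylow r ↥(D.group F)) :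
    Nonempty (↥(P : Subgroup ↥(D.group F)) ≃*
      (Fin (ds.filter (fun e => orderOf (Fintype.card F : ZMod r) ∣ e)).length →
        Multiplicative (ZMod (r ^ expA r (Fintype.card F))))) := by
  classical
  have hr : r.Prime := Fact.out
  set q := Fintype.card F with hq_def
  have hq1 : 1 < q := Fintype.one_lt_card
  set d := orderOf (q : ZMod r) with hd_def
  have hdpos : 0 < d := ord_pos hrq
  set E := expA r q with hE_def
  have hrdvd : r ∣ q ^ d - 1 := (dvd_pow_sub_one_iff (by omega) d).2 dvd_rfl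
  have hE : E ≠ 0 :=
    (hr.factorization_pos_of_dvd (pow_sub_one_ne_zero hq1 hdpos.ne') hrdvd).ne'
  set m := r ^ E with hm_def
  have : NeZero m := ⟨(pow_pos hr.pos E).ne'⟩
  have hdr : ¬ r ∣ d := fun h => by
    have h1 : d ∣ r - 1 := ZMod.orderOf_dvd_card_sub_one (SylowGLTorus.cast_ne_zero hrq)
    have := Nat.le_of_dvd (by have := hr.two_le; omega) h1
    have := Nat.le_of_dvd hdpos h
    have := hr.two_le
    omega
  have hds : ∀ e ∈ ds, ¬ r ∣ e := fun e he h => hrW (h.trans (List.dvd_prod he))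
  have hrδ : δ.Coprime m := Nat.Coprime.pow_right _ (Nat.coprime_comm.1
    (hr.coprime_iff_not_dvd.2 fun h => hrW (h.trans hδ)))
  have hqm : q.Coprime m := Nat.Coprime.pow_right _ (Nat.coprime_comm.1 (hr.coprime_iff_not_dvd.2 hrq))
  -- the extension field
  have : NeZero d := ⟨hdpos.ne'⟩
  obtain ⟨p, hp⟩ := CharP.exists F
  have : Fact p.Prime := ⟨CharP.char_is_prime F p⟩
  let K := FiniteField.Extension F p d
  let : Fintype K := Fintype.ofFinite _
  let ι : F →+* K := algebraMap F K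
  have hcardK : Fintype.card K = q ^ d := by
    rw [← Nat.card_eq_fintype_card, FiniteField.natCard_extension, Nat.card_eq_fintype_card]
  have hcong : (Fintype.card K : ZMod r) = 1 := by
    rw [hcardK, Nat.cast_pow, hd_def, pow_orderOf_eq_one]
  have hmQ : m ∣ Fintype.card K - 1 := hcardK ▸ Nat.ordProj_dvd (q ^ d - 1) r
  obtain ⟨u, hu, hugen⟩ := exists_prim (K := K) hmQ
  let gM : ZMod m →+ Additive Kˣ := ZMod.lift m ⟨zmultiplesHom _ u, by
    show (m : ℤ) • u = 0
    rw [natCast_zsmul, ← hu]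
    exact addOrderOf_nsmul_eq_zero u⟩
  have hgM : Function.Injective gM := by
    rw [ZMod.lift_injective]
    intro k hk
    rw [ZMod.intCast_zmod_eq_zero_iff_dvd, ← hu, addOrderOf_dvd_iff_zsmul_eq_zero]
    exact hk
  have hgMsurj : ∀ (x : Additive Kˣ) (j : ℕ), r ^ j • x = 0 → ∃ z, gM z = x := by
    intro x j hx
    have h1 : addOrderOf x ∣ r ^ j := addOrderOf_dvd_iff_nsmul_eq_zero.2 hx
    obtain ⟨i, -, hi⟩ := (Nat.dvd_prime_pow hr).1 h1
    have h2 : r ^ i ∣ q ^ d - 1 := by
      rw [← hi, ← hcardK]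
      have h3 : addOrderOf x ∣ Nat.card (Additive Kˣ) := addOrderOf_dvd_natCard x
      rwa [Nat.card_congr Additive.toMul, Nat.card_eq_fintype_card, Fintype.card_units] at h3
    have h3 : i ≤ E := (hr.pow_dvd_iff_le_factorization (pow_sub_one_ne_zero hq1 hdpos.ne')).1 h2
    have h4 : m • x = 0 := addOrderOf_dvd_iff_nsmul_eq_zero.1 (hi ▸ Nat.pow_dvd_pow r h3)
    obtain ⟨k, hk⟩ := hugen x h4
    exact ⟨(k : ZMod m), by simp [gM, hk]⟩
  -- the Sylow subgroup in the torus
  let mp : GL D.Idx F →* GL D.Idx K := Matrix.GeneralLinearGroup.map ι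
  have hmp : Function.Injective mp := by
    intro a b hab
    apply Units.ext
    have h := congrArg (fun g : GL D.Idx K => (g : Matrix D.Idx D.Idx K)) hab
    simp only [mp, ChevFieldAut77.coe_map] at h
    exact Matrix.map_injective ι.injective h
  let j₀ : ↥(D.group F) →* ↥(D.group K) :=
    (mp.comp (D.group F).subtype).codRestrict (D.group K) fun y => map_mem_group C ι y.2
  obtain ⟨g, hg, hgt⟩ := exists_conj_torus C X hs Sm ds hpoly hlen hcong hds (P.isPGroup'.map j₀)
  let Φ : ↥(D.group F) →* GL D.Idx K :=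
    (MulAut.conj g).toMonoidHom.comp (mp.comp (D.group F).subtype)
  have hΦinj : Function.Injective Φ :=
    (MulAut.conj g).injective.comp (hmp.comp (D.group F).subtype_injective)
  have hΦ : ∀ y : ↥(P : Subgroup ↥(D.group F)), ∃ c, torus D c = Φ y.1 := fun y =>
    (ChevalleyTorus.mem_H_iff C).1 (hgt (j₀ y.1) (Subgroup.mem_map_of_mem _ y.2))
  choose cY hcY using hΦ
  have hcvpow : ∀ (c : Fin D.rank → Kˣ) (n : ℕ), cv (c ^ n) = n • cv c := fun c n => by
    induction n with
    | zero => funext j; simp [cv, ChevalleyTorus.tchar_one]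
    | succ n ih => rw [pow_succ, cv_mul, ih, succ_nsmul]
  have hfY : ∀ y, ∃ f : Fin D.rank → ZMod m, gM ∘ f = cv (cY y) := by
    intro y
    obtain ⟨j, hj⟩ := P.isPGroup' y
    have h1 : torus D (cY y ^ r ^ j) = torus D 1 := by
      rw [map_pow, hcY, ← map_pow, ← Subgroup.coe_pow, hj, Subgroup.coe_one, map_one, map_one]
    have h3 := cv_eq_of_torus_eq C h1
    rw [hcvpow, show cv (1 : Fin D.rank → Kˣ) = 0 from funext fun j => by
      simp [cv, ChevalleyTorus.tchar_one]] at h3
    choose f hf using fun i => hgMsurj (cv (cY y) i) j (congrFun h3 i)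
    exact ⟨f, funext hf⟩
  choose fY hfY using hfY
  let ΦP : ℕ → Prop := fun s => ∀ y, ev C (fY y) s = 0
  -- Frobenius
  let σ : K ≃+* K := (FiniteField.frobeniusAlgEquivOfAlgebraic F K).toRingEquiv
  have hσ : ∀ x, σ x = x ^ q := fun x => rfl
  let S : Sys D K := ChevBruhatInstance.mkSys C X hs
  let ψ : GL D.Idx K →* GL D.Idx K := ChevFieldAut77.psi σ
  have hψtor : ∀ c, ψ (torus D c) = torus D (c ^ q) := by
    intro c
    rw [ChevFieldAut77.psi_torus]
    refine congrArg _ (funext fun i => Units.ext ?_)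
    simp [hσ]
  have hψι : ∀ y : GL D.Idx F, ψ (mp y) = mp y := by
    intro y
    apply Units.ext
    rw [ChevFieldAut77.coe_map, ChevFieldAut77.coe_map]
    ext i j
    show σ (ι _) = ι _
    rw [hσ, ← map_pow, FiniteField.pow_card]
  have hψG : ψ g ∈ D.group K := map_mem_group C σ.toRingHom hg
  set n' := g * (ψ g)⁻¹ with hn'
  have hn'G : n' ∈ D.group K := mul_mem hg (inv_mem hψG)
  have hrel : ∀ y, n' * torus D (cY y ^ q) = torus D (cY y) * n' := by
    intro y
    rw [← hψtor, hcY]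
    show g * (ψ g)⁻¹ * ψ (g * mp (y.1 : GL D.Idx F) * g⁻¹) =
      g * mp (y.1 : GL D.Idx F) * g⁻¹ * (g * (ψ g)⁻¹)
    rw [map_mul, map_mul, map_inv, hψι]
    group
  obtain ⟨u₀, u₁, n, hn'eq, hu₀, hu₁, hcell⟩ := cell_data C X hs hn'G
  set w : X.W := S.toW n with hw_def
  have hevq : ∀ (c : Fin D.rank → Kˣ) (f : Fin D.rank → ZMod m), gM ∘ f = cv c →
      ∀ s, ev C (cv (c ^ q)) s = gM (q • ev C f s) := fun c f hf s => by
    rw [hcvpow, ev_nsmul, ← hf, ev_map, map_nsmul]
  have hwY : ∀ y s, s < D.nroots → ev C (fY y) (X.img w s) = q • ev C (fY y) s := by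
    intro y s hs'
    obtain ⟨c'', h1, h2⟩ := conj_torus C X hs n (cY y ^ q)
    have h3 := cv_eq_of_torus_eq C ((hcell _ _ (hrel y)).2.2.symm.trans h1)
    apply hgM
    rw [← hevq _ _ (hfY y) s, ← h2 s hs', ← h3, ← ev_map, hfY]
  have hqunit : IsUnit (q : ZMod m) := (ZMod.isUnit_iff_coprime q m).2 hqm
  have hqcancel : ∀ x : ZMod m, q • x = 0 → x = 0 := fun x hx => by
    rw [nsmul_eq_mul] at hx
    exact hqunit.mul_right_eq_zero.1 hx
  -- the reflection group
  let gens : Set X.W := {x | ∃ (v : X.W) (i : Fin D.rank),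
    ΦP (X.img v (D.simple i.val)) ∧ x = v * X.C.simple i * v⁻¹}
  let WP : Subgroup X.W := Subgroup.closure gens
  have hfixW : ∀ f : Fin D.rank → ZMod m, (∀ s, s < D.nroots → ΦP s → ev C f s = 0) →
      ∀ x ∈ WP, ∀ s, s < D.nroots → ev C f (X.img x s) = ev C f s := by
    intro f hf x hx
    induction hx using Subgroup.closure_induction with
    | mem x hx =>
      obtain ⟨v, i, hi, rfl⟩ := hx
      intro s hs'
      have h := X.img_lt v⁻¹ hs'
      rw [X.img_mul, X.img_mul, X.img_simple i h,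
        ← ev_wact C X v f (X.root_facts' h i.isLt).2.2.1, ev_reflect C _ i h,
        ev_wact C X v f h, X.img_img_inv]
      have h0 : wact C X v f i = 0 := hf _ (X.img_lt v (X.simple_lt i.isLt)) hi
      rw [h0, smul_zero, sub_zero]
    | one => intro s _; rw [X.img_one]
    | mul a b _ _ ha hb => intro s hs'; rw [X.img_mul, ha _ (X.img_lt b hs'), hb _ hs']
    | inv a _ ha => intro s hs'; rw [← ha _ (X.img_lt _ hs'), X.img_img_inv]
  have hfixP : ∀ y, ∀ x ∈ WP, ∀ s, s < D.nroots → ev C (fY y) (X.img x s) = ev C (fY y) s :=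
    fun y => hfixW (fY y) fun s _ h => h y
  have hWPstab : ∀ x ∈ WP, ∀ s, s < D.nroots → ΦP s → ΦP (X.img x s) := fun x hx s hs' h y => by
    rw [hfixP y x hx s hs']; exact h y
  -- the lattice spanned by the roots vanishing on the Sylow subgroup
  let Λ : Submodule ℤ (Fin D.rank → ℤ) :=
    Submodule.span ℤ {x | ∃ s, s < D.nroots ∧ ΦP s ∧ x = coefZ C s}
  let L : X.W → Module.End ℤ (Fin D.rank → ℤ) := fun x => (Pm C X x).vecMulLinear
  have hLcoef : ∀ x s, s < D.nroots → L x (coefZ C s) = coefZ C (X.img x s) :=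
    fun x s hs' => vecMul_coefZ C X x hs'
  have hstab : ∀ x : X.W, (∀ s, s < D.nroots → ΦP s → ΦP (X.img x s)) → ∀ v ∈ Λ, L x v ∈ Λ := by
    intro x hx v hv
    induction hv using Submodule.span_induction with
    | mem v hv =>
      obtain ⟨s, hs', hP', rfl⟩ := hv
      rw [hLcoef x s hs']
      exact Submodule.subset_span ⟨_, X.img_lt x hs', hx s hs' hP', rfl⟩
    | zero => rw [map_zero]; exact zero_mem _
    | add a b _ _ ha hb => rw [map_add]; exact add_mem ha hb
    | smul t a _ ha => rw [map_smul]; exact Λ.smul_mem t ha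
  have hLone : L 1 = 1 := by
    refine LinearMap.ext fun v => ?_
    show Matrix.vecMul v (Pm C X 1) = v
    rw [← pow_zero (1 : X.W), Pm_pow, pow_zero, Matrix.vecMul_one]
  let ρ : ↥WP →* Module.End ℤ ↥Λ :=
    { toFun := fun x => (L x.1).restrict (hstab x.1 (hWPstab x.1 x.2))
      map_one' := LinearMap.ext fun v => Subtype.ext (LinearMap.congr_fun hLone v.1)
      map_mul' := fun a b => LinearMap.ext fun v => Subtype.ext (by
        show Matrix.vecMul v.1 (Pm C X (a.1 * b.1)) =
          Matrix.vecMul (Matrix.vecMul v.1 (Pm C X b.1)) (Pm C X a.1)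
        rw [Pm_mul, Matrix.vecMul_vecMul]) }
  have hwΦ : ∀ s, s < D.nroots → ΦP s → ΦP (X.img w s) := fun s hs' h y => by
    rw [hwY y s hs', h y, smul_zero]
  let yL : Module.End ℤ ↥Λ := (L w).restrict (hstab w hwΦ)
  have hgen : Submodule.span ℤ {a : ↥Λ | ∃ σ : ↥WP, ρ σ a = -a ∧ ∀ x, ρ σ x - x ∈ ℤ ∙ a} = ⊤ := by
    apply eq_top_iff.2
    rw [← Submodule.span_span_coe_preimage (R := ℤ)
      (s := {x : Fin D.rank → ℤ | ∃ s, s < D.nroots ∧ ΦP s ∧ x = coefZ C s})]
    refine Submodule.span_mono ?_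
    rintro ⟨a, ha⟩ ⟨s, hs', hP', hsa⟩
    simp only at hsa
    subst hsa
    obtain ⟨v, i, hvi⟩ : ∃ (v : X.W) (i : Fin D.rank), X.img v (D.simple i.val) = s :=
      S.exists_root_img hs' 
    subst hvi
    refine ⟨⟨v * X.C.simple i * v⁻¹, Subgroup.subset_closure ⟨v, i, hP', rfl⟩⟩, Subtype.ext ?_, ?_⟩
    · show L _ (coefZ C _) = -coefZ C _
      rw [hLcoef _ _ hs', coefZ_reflect C X v i hs', X.img_inv_img,
        ChevalleyRoots.cartan_self C i.isLt]
      abel
    · rintro ⟨x, hx⟩
      suffices h : ∃ t : ℤ, t • coefZ C (X.img v (D.simple i.val)) = L (v * X.C.simple i * v⁻¹) x - x by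
        obtain ⟨t, ht⟩ := h
        exact Submodule.mem_span_singleton.2 ⟨t, Subtype.ext ht⟩
      induction hx using Submodule.span_induction with
      | mem x hx =>
        obtain ⟨s, hs'', -, rfl⟩ := hx
        refine ⟨-D.cartan i.val (X.img v⁻¹ s), ?_⟩
        rw [hLcoef _ _ hs'', coefZ_reflect C X v i hs'', neg_smul]
        abel
      | zero => exact ⟨0, by simp⟩
      | add a b _ _ ha hb =>
        obtain ⟨ta, hta⟩ := ha
        obtain ⟨tb, htb⟩ := hb
        exact ⟨ta + tb, by rw [add_smul, hta, htb, map_add]; abel⟩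
      | smul t a _ ha =>
        obtain ⟨ta, hta⟩ := ha
        exact ⟨t * ta, by rw [mul_smul, hta, map_smul, smul_sub]⟩
  have hW : Nat.card X.W = ds.prod := (card_W X).trans hWcard
  have := Fintype.ofFinite ↥WP
  have hsum := ReflectionAverage68.sum_det ρ two_ne_zero hgen yL (q : ℤ)
  have hrZ : Prime (r : ℤ) := Nat.prime_iff_prime_int.1 hr
  obtain ⟨v, hv⟩ : ∃ v : ↥WP, ¬ (r : ℤ) ∣ LinearMap.det ((q : ℤ) • (1 : Module.End ℤ ↥Λ) - yL * ρ v) := by
    by_contra hcon
    push Not at hcon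
    have h := Finset.dvd_sum (s := (Finset.univ : Finset ↥WP)) fun v _ => hcon v
    rw [hsum] at h
    rcases hrZ.dvd_or_dvd h with h | h
    · rw [Int.natCast_dvd_natCast] at h
      have h5 := WP.card_subgroup_dvd_card
      rw [hW, Nat.card_eq_fintype_card] at h5
      exact hrW (h.trans h5)
    · exact hrq (Int.natCast_dvd_natCast.1 (hrZ.dvd_of_dvd_pow h))
  set w' := w * v.1 with hw'
  -- roots vanishing on the Sylow subgroup vanish on the eigenspace
  have hvanish : ∀ f : Fin D.rank → ZMod m,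
      (∀ s, s < D.nroots → ev C f (X.img w' s) = q • ev C f s) →
      ∀ s, s < D.nroots → ΦP s → ev C f s = 0 := by
    intro f hf
    let φ : (Fin D.rank → ℤ) →+ ZMod m := AddMonoidHom.mk' (fun x => ∑ j, x j • f j)
      fun a b => by simp [add_smul, Finset.sum_add_distrib]
    set T := (q : ℤ) • (1 : Module.End ℤ ↥Λ) - yL * ρ v with hT
    have hker : ∀ x : ↥Λ, φ (T x : Fin D.rank → ℤ) = 0 := by
      rintro ⟨x, hx⟩
      show φ ((q : ℤ) • x - L w (L v.1 x)) = 0
      induction hx using Submodule.span_induction with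
      | mem x hx =>
        obtain ⟨s, hs', -, rfl⟩ := hx
        rw [hLcoef _ _ hs', hLcoef _ _ (X.img_lt _ hs'), ← X.img_mul, map_sub, map_zsmul]
        show (q : ℤ) • ev C f s - ev C f (X.img w' s) = 0
        rw [hf s hs', natCast_zsmul, sub_self]
      | zero => simp
      | add a b _ _ ha hb =>
        rw [map_add, map_add, smul_add, add_sub_add_comm, map_add, ha, hb, add_zero]
      | smul t a _ ha => rw [map_smul, map_smul, smul_comm, ← smul_sub, map_zsmul, ha, smul_zero]
    intro s hs' hP'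
    let x₀ : ↥Λ := ⟨coefZ C s, Submodule.subset_span ⟨s, hs', hP', rfl⟩⟩
    obtain ⟨z, hz⟩ := ReflectionAverage68.det_smul_mem_range T x₀
    have h1 := hker z
    rw [hz] at h1
    have h2 : LinearMap.det T • ev C f s = 0 := by
      rw [← h1, Submodule.coe_smul, map_zsmul]
      rfl
    rw [zsmul_eq_mul] at h2
    have hunit : IsUnit ((LinearMap.det T : ℤ) : ZMod m) := by
      rw [ZMod.coe_int_isUnit_iff_isCoprime, hm_def, Nat.cast_pow]
      exact ((Prime.coprime_iff_not_dvd hrZ).2 hv).pow_left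
    exact hunit.mul_right_eq_zero.1 h2
  -- the eigenspace
  let A' : AddSubgroup (Fin D.rank → ZMod m) :=
    { carrier := {f | ∀ s, s < D.nroots → ev C f (X.img w' s) = q • ev C f s}
      add_mem' := fun {a b} ha hb s hs' => by rw [ev_add, ev_add, ha s hs', hb s hs', smul_add]
      zero_mem' := fun s _ => by rw [ev_zero, ev_zero, smul_zero]
      neg_mem' := fun {a} ha s hs' => by
        rw [← zero_sub a, ev_sub, ev_sub, ev_zero, ev_zero, ha s hs', smul_sub, smul_zero] }
  obtain ⟨T', hT'⟩ := exists_left_inverse Sm hrδ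
  let cf : (Fin D.rank → ZMod m) → Fin D.rank → Kˣ := fun f i => (act T' (gM ∘ f) i).toMul
  have hcf : ∀ f, cv (cf f) = gM ∘ f := by
    intro f
    have h1 : cv (cf f) = act Sm.A (act T' (gM ∘ f)) := funext fun j => by
      rw [cv, ChevalleyTorusCard.tchar_ofMul]
      exact Finset.sum_congr rfl fun i _ => congrArg (· • _) (Sm.hA j i).symm
    rw [h1, ← act_mul, ← map_act, hT']
  have htor_add : ∀ f f', torus D (cf (f + f')) = torus D (cf f) * torus D (cf f') := by
    intro f f'
    rw [← map_mul]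
    refine torus_ext C ?_
    rw [cv_mul, hcf, hcf, hcf]
    funext j; simp
  have hfixed : ∀ f ∈ A', n' * torus D (cf f ^ q) * n'⁻¹ = torus D (cf f) := by
    intro f hf
    have hv0 := hvanish f hf
    have hw2 : ∀ s, s < D.nroots → ev C f (X.img w s) = q • ev C f s := by
      intro s hs'
      have h := hf _ (X.img_lt v.1⁻¹ hs')
      rwa [hw', X.img_mul, X.img_img_inv, hfixW f hv0 _ (inv_mem v.2) s hs'] at h
    obtain ⟨c'', h1, h2⟩ := conj_torus C X hs n (cf f ^ q)
    have hc'' : cv c'' = cv (cf f) := by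
      funext j
      have hj := X.img_lt w⁻¹ (X.simple_lt j.isLt)
      have h3 := h2 _ hj
      rw [hevq _ _ (hcf f).symm, ← hw2 _ hj] at h3
      change ev C (cv c'') (X.img w (X.img w⁻¹ (D.simple j.val))) = _ at h3
      rw [X.img_img_inv, ev_simple, ev_simple] at h3
      rw [h3, hcf]
      rfl
    have hchar1 : ∀ (c : Fin D.rank → Kˣ) s, s < D.nroots → (tchar D c s = 1 ↔ ev C (cv c) s = 0) :=
      fun c s hs' => by rw [ev_cv C c hs', ofMul_eq_zero]
    have hu1 : torus D (cf f ^ q) * u₁ * (torus D (cf f ^ q))⁻¹ = u₁ := by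
      refine commute_of_commute C hu₁ (P := fun c => ∃ y, c = cY y ^ q) ?_ fun s hs' hall => ?_
      · rintro _ ⟨y, rfl⟩; exact (hcell _ _ (hrel y)).2.1
      · rw [hchar1 _ s hs', hevq _ _ (hcf f).symm, hv0 s hs' fun y => hqcancel _ (hgM ?_),
          smul_zero, map_zero]
        rw [← hevq _ _ (hfY y) s, map_zero, ← hchar1 _ s hs']
        exact hall _ ⟨y, rfl⟩
    have hu0 : torus D (cf f) * u₀ * (torus D (cf f))⁻¹ = u₀ := by
      refine commute_of_commute C hu₀ (P := fun c => ∃ y, c = cY y) ?_ fun s hs' hall => ?_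
      · rintro _ ⟨y, rfl⟩; exact (hcell _ _ (hrel y)).1
      · rw [hchar1 _ s hs', hcf, ev_map, hv0 s hs' fun y => hgM ?_, map_zero]
        rw [← ev_map, hfY, map_zero, ← hchar1 _ s hs']
        exact hall _ ⟨y, rfl⟩
    rw [← torus_ext C hc'', ← h1] at hu0 ⊢
    rw [hn'eq]
    have hc1 : u₁ * torus D (cf f ^ q) = torus D (cf f ^ q) * u₁ := (mul_inv_eq_iff_eq_mul.1 hu1).symm
    have hc0 : ∀ t : GL D.Idx K, t * u₀ * t⁻¹ = u₀ → u₀ * t * u₀⁻¹ = t := fun t ht => by
      rw [mul_inv_eq_iff_eq_mul]; exact (mul_inv_eq_iff_eq_mul.1 ht).symm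
    calc u₀ * (n : GL D.Idx K) * u₁ * torus D (cf f ^ q) * (u₀ * (n : GL D.Idx K) * u₁)⁻¹
        = u₀ * ((n : GL D.Idx K) * ((u₁ * torus D (cf f ^ q)) * u₁⁻¹) * (n : GL D.Idx K)⁻¹) * u₀⁻¹ := by
          group
      _ = u₀ * ((n : GL D.Idx K) * torus D (cf f ^ q) * (n : GL D.Idx K)⁻¹) * u₀⁻¹ := by
          rw [hc1, mul_inv_cancel_right]
      _ = _ := hc0 _ hu0
  -- descent
  have hdesc : ∀ f ∈ A', ∃ y : ↥(D.group F), Φ y = torus D (cf f) := by
    intro f hf
    set x := g⁻¹ * torus D (cf f) * g with hx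
    have hxG : x ∈ D.group K :=
      mul_mem (mul_mem (inv_mem hg) (S.H_le_group (ChevalleyTorus.torus_mem_H C _))) hg
    have hxfix : ψ x = x := by
      rw [hx, map_mul, map_mul, map_inv, hψtor, ← hfixed f hf, hn']
      group
    have hfg := fixed_pow_mem C X hs σ Sm hxG hxfix
    have key : ∀ z ∈ ChevFieldAut77.fixGen S σ, ∃ y ∈ D.group F, mp y = z := by
      intro z hz
      induction hz using Subgroup.closure_induction with
      | mem z hz =>
        obtain ⟨a, t, ha, ht, rfl⟩ := hz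
        rw [hσ] at ht
        obtain ⟨t₀, rfl⟩ := mem_range_of_pow_card ι ht
        refine ⟨ChevalleyCore.xg C a t₀,
          (ChevBruhatInstance.mkSys (F := F) C X hs).xg_mem_group ha t₀, Units.ext ?_⟩
        rw [ChevFieldAut77.coe_map, ChevalleyCore.coe_xg, S.coe_xg]
        exact ChevFieldAut77.map_x C ι ha t₀
      | one => exact ⟨1, one_mem _, map_one mp⟩
      | mul a b _ _ ha hb =>
        obtain ⟨y, hy, rfl⟩ := ha
        obtain ⟨z, hz, rfl⟩ := hb
        exact ⟨y * z, mul_mem hy hz, map_mul mp y z⟩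
      | inv a _ ha =>
        obtain ⟨y, hy, rfl⟩ := ha
        exact ⟨y⁻¹, inv_mem hy, map_inv mp y⟩
    obtain ⟨k, hk⟩ : ∃ k : ℕ, (δ * k : ZMod m) = 1 := by
      obtain ⟨uδ, huδ⟩ := (ZMod.isUnit_iff_coprime δ m).2 hrδ
      exact ⟨(↑uδ⁻¹ : ZMod m).val, by rw [ZMod.natCast_zmod_val, ← huδ, Units.mul_inv]⟩
    have hxm : x ^ m = 1 := by
      have h1 : torus D (cf f) ^ m = 1 := by
        rw [← map_pow, ← map_one (torus D (F := K))]
        refine torus_ext C ?_
        rw [hcvpow, hcf, show cv (1 : Fin D.rank → Kˣ) = 0 from funext fun j => by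
          simp [cv, ChevalleyTorus.tchar_one]]
        funext j
        simp only [Pi.smul_apply, Function.comp_apply, ← map_nsmul, Pi.zero_apply]
        rw [nsmul_eq_mul, ZMod.natCast_self, zero_mul, map_zero]
      rw [hx, show g⁻¹ * torus D (cf f) * g = g⁻¹ * torus D (cf f) * (g⁻¹)⁻¹ by rw [inv_inv],
        conj_pow, h1, mul_one, mul_inv_cancel]
    have hxk : (x ^ δ) ^ k = x := by
      have h1 : δ * k ≡ 1 [MOD orderOf x] := by
        refine Nat.ModEq.of_dvd (orderOf_dvd_of_pow_eq_one hxm) ?_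
        rw [← ZMod.natCast_eq_natCast_iff]
        simpa using hk
      rw [← pow_mul, pow_eq_pow_iff_modEq.2 h1, pow_one]
    obtain ⟨y, hy, hye⟩ := key _ (Subgroup.pow_mem _ hfg k)
    rw [hxk] at hye
    refine ⟨⟨y, hy⟩, ?_⟩
    show g * mp y * g⁻¹ = _
    rw [hye, hx]
    group
  choose Y hY using hdesc
  let Yh : Multiplicative ↥A' →* ↥(D.group F) := MonoidHom.mk'
    (fun f => Y f.toAdd.1 f.toAdd.2) fun f f' => hΦinj (by
      refine Eq.trans (hY _ _) (Eq.trans ?_ (map_mul Φ _ _).symm)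
      rw [hY, hY]
      exact htor_add f.toAdd.1 f'.toAdd.1)
  have hYinj : Function.Injective Yh := by
    intro f f' h
    have h1 := congrArg Φ h
    simp only [Yh, MonoidHom.mk'_apply, hY] at h1
    have h2 := cv_eq_of_torus_eq C h1
    rw [hcf, hcf] at h2
    exact Multiplicative.toAdd.injective (Subtype.ext (funext fun i => hgM (congrFun h2 i)))
  have hPle : (P : Subgroup ↥(D.group F)) ≤ Yh.range := by
    intro y hy
    have hmem : fY ⟨y, hy⟩ ∈ A' := fun s hs' => by
      rw [hw', X.img_mul, hwY _ _ (X.img_lt _ hs'), hfixP _ _ v.2 s hs']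
    refine ⟨Multiplicative.ofAdd ⟨_, hmem⟩, hΦinj ?_⟩
    show Φ (Y _ hmem) = _
    rw [hY, ← hcY ⟨y, hy⟩]
    exact torus_ext C ((hcf _).trans (hfY _))
  have hRp : IsPGroup r ↥Yh.range := by
    rintro ⟨_, f, rfl⟩
    refine ⟨E, Subtype.ext ?_⟩
    show Yh f ^ r ^ E = 1
    rw [← map_pow]
    have : f ^ r ^ E = 1 := Multiplicative.toAdd.injective (by
      rw [toAdd_pow, toAdd_one]
      refine Subtype.ext (funext fun i => ?_)
      rw [AddSubmonoidClass.coe_nsmul, Pi.smul_apply, nsmul_eq_mul, ← hm_def, ZMod.natCast_self, zero_mul]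
      rfl)
    rw [this, map_one]
  have hPeq : Yh.range = (P : Subgroup ↥(D.group F)) := P.is_maximal' hRp hPle
  let e1 : ↥(P : Subgroup ↥(D.group F)) ≃* Multiplicative ↥A' :=
    (MulEquiv.subgroupCongr hPeq.symm).trans (MonoidHom.ofInjective hYinj).symm
  set a := (ds.filter fun e => d ∣ e).length with ha
  have hcardA : Nat.card ↥A' = m ^ a := by
    have h1 := P.card_eq_multiplicity
    rw [Nat.card_congr e1.toEquiv, Nat.card_congr Multiplicative.toAdd] at h1
    rw [h1, hm_def, ← pow_mul, mul_comm]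
    congr 1
    have hH := ChevalleyTorusCard.card_H (F := F) C Sm
    have hG := ChevOrder.order_eq (F := F) C X hs ds hpoly hH
    obtain ⟨hne, hfac⟩ := factorization_list_prod (r := r) hq1 ds hds
    have hgcd : ¬ r ∣ Nat.gcd (q - 1) δ ^ μ := fun h =>
      hrW (((hr.dvd_of_dvd_pow h).trans (Nat.gcd_dvd_right _ _)).trans hδ)
    rw [← hq_def] at hG
    have h3 := congrArg (fun x => x.factorization r) hG
    rw [Nat.factorization_mul (fun h0 => hgcd (by rw [h0]; exact dvd_zero r)) Nat.card_pos.ne',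
      Nat.factorization_mul (pow_ne_zero _ (by omega)) hne] at h3
    simp only [Finsupp.add_apply, Nat.factorization_eq_zero_of_not_dvd hgcd,
      Nat.factorization_eq_zero_of_not_dvd (fun h => hrq (hr.dvd_of_dvd_pow h)), zero_add] at h3
    rw [h3, hfac]
  -- freeness
  let cR := (Int.castRingHom (ZMod m)).mapMatrix (m := Fin D.rank)
  obtain ⟨qu, hqu⟩ := hqunit
  let Tm : Matrix (Fin D.rank) (Fin D.rank) (ZMod m) := (↑qu⁻¹ : ZMod m) • cR (Pm C X w')
  let T : Module.End (ZMod m) (Fin D.rank → ZMod m) := Matrix.toLinAlgEquiv' Tm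
  have hqd : (qu⁻¹ : (ZMod m)ˣ) ^ d = 1 := by
    rw [inv_pow, inv_eq_one]
    apply Units.ext
    rw [Units.val_pow_eq_pow_val, hqu, Units.val_one, ← sub_eq_zero]
    have : ((q ^ d - 1 : ℕ) : ZMod m) = 0 :=
      (ZMod.natCast_eq_zero_iff _ _).2 (Nat.ordProj_dvd _ r)
    rwa [Nat.cast_sub (Nat.one_le_pow _ _ (by omega)), Nat.cast_pow, Nat.cast_one] at this
  have hTpow : T ^ (orderOf w' * d) = 1 := by
    show Matrix.toLinAlgEquiv' Tm ^ _ = 1
    rw [← map_pow]
    have : Tm ^ (orderOf w' * d) = 1 := by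
      rw [smul_pow, ← map_pow, ← Pm_pow, pow_mul, pow_mul, pow_orderOf_eq_one, one_pow,
        ← pow_zero w', Pm_pow, pow_zero, map_one, ← pow_mul, mul_comm, pow_mul,
        ← Units.val_pow_eq_pow_val, hqd, Units.val_one, one_pow, one_smul]
    rw [this, map_one]
  have hMr : ¬ r ∣ orderOf w' * d := by
    rw [hr.dvd_mul, not_or]
    exact ⟨fun h => hrW ((h.trans (orderOf_dvd_natCard w')).trans hW.dvd), hdr⟩
  have hker : ∀ f, f ∈ LinearMap.ker (T - 1) ↔ f ∈ A' := by
    intro f
    have h1 : T f = (↑qu⁻¹ : ZMod m) • wact C X w' f := by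
      show Matrix.mulVec ((↑qu⁻¹ : ZMod m) • cR (Pm C X w')) f = _
      rw [Matrix.smul_mulVec, ← act_Pm C X w' f, act_eq_mulVec]
      rfl
    rw [LinearMap.mem_ker, LinearMap.sub_apply, Module.End.one_apply, sub_eq_zero, h1]
    constructor
    · intro h s hs'
      have h2 : wact C X w' f = q • f := by
        funext j
        have := congrFun h j
        rw [Pi.smul_apply, smul_eq_mul, Units.inv_mul_eq_iff_eq_mul] at this
        rw [this, hqu, Pi.smul_apply, nsmul_eq_mul]
      rw [← ev_wact C X w' f hs', h2, ev_nsmul]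
    · intro h
      funext j
      have h2 := h _ (X.simple_lt j.isLt)
      rw [ev_simple] at h2
      rw [Pi.smul_apply, smul_eq_mul, Units.inv_mul_eq_iff_eq_mul, hqu, ← nsmul_eq_mul]
      exact h2
  let e2 : ↥(LinearMap.ker (T - 1)) ≃+ ↥A' :=
    { toFun := fun f => ⟨f.1, (hker f.1).1 f.2⟩
      invFun := fun f => ⟨f.1, (hker f.1).2 f.2⟩
      left_inv := fun _ => rfl
      right_inv := fun _ => rfl
      map_add' := fun _ _ => rfl }
  obtain ⟨e3⟩ := ReflectionAverage68.nonempty_ker_equiv hr hE (M := orderOf w' * d) (a := a) T hMr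
    hTpow ((Nat.card_congr e2.toEquiv).trans hcardA)
  exact ⟨(e1.trans (e2.symm.trans e3).toMultiplicative).trans
    (MulEquiv.funMultiplicative (Fin a) (ZMod m))⟩

end Cfsg.Agent.ChevSylowTorus68
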