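import Cfsg.Agent.Lib.TwistedF4Torus

/-!
An element of a Chevalley group carrying a torus element to a torus element acts on it through the
monomial part of its normal form; consequence for the torus of `²F₄(q)`.
-/

set_option autoImplicit false
set_option linter.unusedSectionVars false

namespace Cfsg.Agent.TorusAutomizer15

open Cfsg.Lie Cfsg.Agent.ChevalleyCert Cfsg.Agent.ChevalleyTorus Cfsg.Agent.ChevWeyl Cfsg.Agent.ChevBruhat
  Cfsg.Agent.TwistedCore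

variable {D : ChevalleyDatum} {F : Type*} [Field F]

theorem monomial_conj (S : Sys D F)
    (hc : ∀ a ∈ D.diagonalSubgroup F, ∀ b ∈ D.diagonalSubgroup F, a * b = b * a)
    {b u : GL D.Idx F} {n : ↥(D.monomialSubgroup F)} (hb : b ∈ D.borelSubgroup F)
    (hu : u ∈ S.Uw (S.toW n)) {s s' : GL D.Idx F} (hs : s ∈ D.diagonalSubgroup F)
    (hs' : s' ∈ D.diagonalSubgroup F) (h : s * (b * n * u) = (b * n * u) * s') :
    (n : GL D.Idx F) * s' * (n : GL D.Idx F)⁻¹ = s := by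
  set t := (n : GL D.Idx F) * s' * (n : GL D.Idx F)⁻¹ with ht
  have htH : t ∈ D.diagonalSubgroup F := S.conj_H (S.acts_toW n) hs'
  have hu' : s'⁻¹ * u * s'⁻¹⁻¹ ∈ S.Uw (S.toW n) := by
    refine Sys.conj_closure_le
      (T := {g : GL D.Idx F | ∃ r a, r ∈ S.X.invSet (S.toW n) ∧ g = S.xg r a}) _ ?_ hu
    rintro x ⟨r, a, hr, rfl⟩
    obtain ⟨c, -, h1, -⟩ := S.acts_H (inv_mem hs') r (S.X.mem_invSet.mp hr).1.1
    rw [h1, S.X.img_one]
    exact Subgroup.subset_closure ⟨r, _, hr, rfl⟩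
  have e : (b * t) * n * (s'⁻¹ * u * s'⁻¹⁻¹) = (s * b) * n * u := by
    calc (b * t) * (n : GL D.Idx F) * (s'⁻¹ * u * s'⁻¹⁻¹) = (b * n * u) * s' := by rw [ht]; group
      _ = s * (b * n * u) := h.symm
      _ = (s * b) * n * u := by group
  obtain ⟨e1, -⟩ := S.form_unique n (mul_mem hb (Sys.H_le_B htH)) (mul_mem (Sys.H_le_B hs) hb) hu' hu e
  obtain ⟨a, ha, v, hv, rfl⟩ := S.mem_B_iff.mp hb
  have hv' : t⁻¹ * v * t⁻¹⁻¹ ∈ D.posUnipotent F := S.H_conj_U (inv_mem htH) hv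
  have e2 : (s * a)⁻¹ * (a * t) = v * (t⁻¹ * v * t⁻¹⁻¹)⁻¹ := by
    rw [inv_mul_eq_iff_eq_mul,
      show s * a * (v * (t⁻¹ * v * t⁻¹⁻¹)⁻¹) = s * (a * v) * (t⁻¹ * v⁻¹ * t) by group, ← e1]
    group
  have e3 : (s * a)⁻¹ * (a * t) = 1 := by
    have := Subgroup.mem_inf.mpr ⟨e2 ▸ mul_mem hv (inv_mem hv'), mul_mem (inv_mem (mul_mem hs ha)) (mul_mem ha htH)⟩
    rwa [S.U_inf_H, Subgroup.mem_bot] at this
  rw [inv_mul_eq_one, hc s hs a ha] at e3
  exact (mul_left_cancel e3).symm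

section Twisted

variable [Fintype F] {C : Cert D} {T : Twist C F} {G1 : Subgroup (GL D.Idx F)} (K : Classes T G1)

include K in
theorem automizer_pow {k : ℕ}
    (hk : ∀ n ∈ D.monomialSubgroup F ⊓ G1, n ^ k ∈ D.diagonalSubgroup F)
    (P : Subgroup (GL D.Idx F)) (hP : P ≤ D.diagonalSubgroup F) {g : GL D.Idx F} (hg : g ∈ G1)
    (hnorm : ∀ x ∈ P, g * x * g⁻¹ ∈ P) {x : GL D.Idx F} (hx : x ∈ P) :
    g ^ k * x * (g ^ k)⁻¹ = x := by
  obtain ⟨b, hb, n, hn, u, hu, he⟩ := K.exists_form1 hg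
  have key : ∀ y ∈ P, (n : GL D.Idx F) * y * (n : GL D.Idx F)⁻¹ = g * y * g⁻¹ := fun y hy =>
    monomial_conj T.S (fun a ha b hb => H_comm C ha hb) hb.1 hu.1 (hP (hnorm y hy)) (hP hy)
      (by rw [← he]; group)
  have it : ∀ j : ℕ, g ^ j * x * (g ^ j)⁻¹ ∈ P ∧
      (n : GL D.Idx F) ^ j * x * ((n : GL D.Idx F) ^ j)⁻¹ = g ^ j * x * (g ^ j)⁻¹ := by
    intro j
    induction j with
    | zero => simpa using hx
    | succ j ih =>
      have e : ∀ a : GL D.Idx F, a ^ (j + 1) * x * (a ^ (j + 1))⁻¹ = a * (a ^ j * x * (a ^ j)⁻¹) * a⁻¹ :=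
        fun a => by rw [pow_succ']; group
      rw [e g, e (n : GL D.Idx F)]
      exact ⟨hnorm _ ih.1, by rw [ih.2, key _ ih.1]⟩
  rw [← (it k).2, H_comm C (hk _ ⟨n.2, hn⟩) (hP hx)]
  group

end Twisted

open Cfsg.Agent.TwistedF4Classes in
/-- the automizer of a subgroup of the torus of `²F₄(q)` has exponent dividing 16 -/
theorem twistedF4_automizer {K : Type*} [Field K] [Fintype K] [CharP K 2] (m : ℕ)
    (hK : Fintype.card K = 2 ^ (2 * m + 1)) (P : Subgroup (GL chevF4.Idx K))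
    (hP : P ≤ chevF4.diagonalSubgroup K) {g : GL chevF4.Idx K} (hg : g ∈ twistedF4 K (2 ^ m))
    (hnorm : ∀ x ∈ P, g * x * g⁻¹ ∈ P) {x : GL chevF4.Idx K} (hx : x ∈ P) :
    g ^ 16 * x * (g ^ 16)⁻¹ = x := by
  refine automizer_pow (classes (K := K) m hK) (fun n hn => ?_) P hP hg hnorm hx
  obtain ⟨φ, -, hker⟩ := exists_N1 (K := K) m hK
  have h1 : φ ⟨n, hn⟩ ^ 16 = 1 := by
    have h := pow_card_eq_one' (x := φ ⟨n, hn⟩)
    rwa [DihedralGroup.nat_card] at h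
  rw [← map_pow, ← MonoidHom.mem_ker, hker, Subgroup.mem_subgroupOf] at h1
  exact h1.1

end Cfsg.Agent.TorusAutomizer15
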