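import Cfsg.Agent.Lib.ChevCoxTorus68
import Cfsg.Agent.Lib.ChevSylowTorus68
import Cfsg.Agent.Lib.TorusAutomizer15

/-!
An element of a Chevalley group acts on the torus elements it carries into the torus as one Weyl
group element; eigenvalues of such an action on a character of a stable subgroup are roots of the
characteristic polynomial of the matrix of that element.
-/

set_option autoImplicit false

namespace Cfsg.Agent.TorusAutomiser68

open Cfsg.Lie Cfsg.Agent.ChevalleyCert Cfsg.Agent.ChevWeyl Cfsg.Agent.ChevBruhat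
  Cfsg.Agent.ChevRootCoord68 Cfsg.Agent.CyclotomicCharpoly68
open Cfsg.Agent.ChevCoxTorus68 (Pm act_Pm tor tor_inj torHom mem_H_iff conj_tor Pm_pow)
open Cfsg.Agent.ChevalleyTorusCard (Smith act act_mul act_one act_zero)

variable {D : ChevalleyDatum} (C : Cert D) (Sm : Smith D 1 0) (X : Weyl D)

theorem Pm_one : Pm C X 1 = 1 := by
  have h := Pm_pow C X (1 : X.W) 0
  rwa [pow_zero, pow_zero] at h

variable (hs : suppCheck D = true) {K : Type*} [Field K]

include hs in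
/-- One Weyl element describes the conjugation on all torus elements carried into the torus. -/
theorem exists_weyl {g : GL D.Idx K} (hg : g ∈ D.group K) :
    ∃ v : X.W, ∀ χ χ' : Fin D.rank → Additive Kˣ,
      g * tor Sm χ * g⁻¹ = tor Sm χ' → χ' = act (Pm C X v) χ := by
  let S : Sys D K := ChevBruhatInstance.mkSys C X hs
  obtain ⟨b, hb, n, u, hu, rfl⟩ := S.exists_cell_form hg
  let w : X.W := S.toW n
  refine ⟨w⁻¹, fun χ χ' h => ?_⟩
  have h1 := TorusAutomizer15.monomial_conj S (fun a ha b hb => ChevalleyTorus.H_comm C ha hb) hb hu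
    ((mem_H_iff C Sm).2 ⟨χ', rfl⟩) ((mem_H_iff C Sm).2 ⟨χ, rfl⟩) (by rw [← h]; group)
  obtain ⟨χ'', h2, h3⟩ := conj_tor C Sm X hs n χ
  rw [tor_inj C Sm (h1.symm.trans h2)]
  funext j
  rw [act_Pm]
  show χ'' j = ev C χ (X.img _ (D.simple j.val))
  have h4 : ev C χ'' (X.img w (X.img w⁻¹ (D.simple j.val))) = ev C χ (X.img w⁻¹ (D.simple j.val)) :=
    h3 _ (X.img_lt w⁻¹ (X.simple_lt j.isLt))
  rw [X.img_img_inv, ev_simple] at h4
  exact h4

include C X Sm hs in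
/-- A normalising element powered to the order of the Weyl group centralises. -/
theorem pow_card_commute {P : Subgroup (GL D.Idx K)} (hP : P ≤ D.diagonalSubgroup K)
    {g : GL D.Idx K} (hg : g ∈ D.group K) (hn : ∀ x ∈ P, g * x * g⁻¹ ∈ P) {x : GL D.Idx K}
    (hx : x ∈ P) : g ^ Nat.card X.W * x * (g ^ Nat.card X.W)⁻¹ = x := by
  obtain ⟨v, hv⟩ := exists_weyl C Sm X hs hg
  obtain ⟨χ, rfl⟩ := (mem_H_iff C Sm).1 (hP hx)
  have it : ∀ j : ℕ, tor Sm (act (Pm C X v ^ j) χ) ∈ P ∧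
      g ^ j * tor Sm χ * (g ^ j)⁻¹ = tor Sm (act (Pm C X v ^ j) χ) := by
    intro j
    induction j with
    | zero => rw [pow_zero, pow_zero, act_one, one_mul, inv_one, mul_one]; exact ⟨hx, rfl⟩
    | succ j ih =>
      obtain ⟨ih1, ih2⟩ := ih
      obtain ⟨χ', hχ'⟩ := (mem_H_iff C Sm).1 (hP (hn _ ih1))
      have e : χ' = act (Pm C X v ^ (j + 1)) χ := by
        rw [pow_succ', act_mul]; exact hv _ _ hχ'.symm
      subst e
      refine ⟨hχ' ▸ hn _ ih1, ?_⟩
      rw [hχ', ← ih2, pow_succ']; group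
  rw [(it _).2, ← Pm_pow, pow_card_eq_one', Pm_one, act_one]

section Eigen

variable {n : ℕ} {M : Type*} [AddCommGroup M] (Λ : AddSubgroup (Fin n → M))
  (P : Matrix (Fin n) (Fin n) ℤ) (hP : ∀ χ ∈ Λ, act P χ ∈ Λ) {R : Type*} [CommRing R]
  (ψ : ↥Λ →+ R) (a : ℤ) (hψ : ∀ χ : ↥Λ, ψ ⟨act P χ.1, hP _ χ.2⟩ = (a : R) * ψ χ)

include hψ in
theorem iterate (χ : ↥Λ) : ∀ i : ℕ, ∃ h : act (P ^ i) χ.1 ∈ Λ, ψ ⟨_, h⟩ = (a : R) ^ i * ψ χ := by
  intro i
  induction i with
  | zero =>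
    have e : act (P ^ 0) χ.1 = χ.1 := by rw [pow_zero, act_one]
    refine ⟨by rw [e]; exact χ.2, ?_⟩
    rw [pow_zero (a : R), one_mul]
    exact congrArg ψ (Subtype.ext e)
  | succ i ih =>
    obtain ⟨h1, h2⟩ := ih
    have e : act (P ^ (i + 1)) χ.1 = act P (act (P ^ i) χ.1) := by rw [pow_succ', act_mul]
    refine ⟨by rw [e]; exact hP _ h1, ?_⟩
    rw [pow_succ' (a : R), mul_assoc, ← h2, ← hψ ⟨_, h1⟩]
    exact congrArg ψ (Subtype.ext e)

include hψ in
/-- evaluation of a character eigen for `P` -/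
theorem charpoly_eval_zero (χ : ↥Λ) : ((P.charpoly.eval a : ℤ) : R) * ψ χ = 0 := by
  choose hm hv using iterate Λ P hP ψ a hψ χ
  set N := P.charpoly.natDegree + 1
  have hadd : ∀ A B : Matrix (Fin n) (Fin n) ℤ, act (A + B) χ.1 = act A χ.1 + act B χ.1 :=
    fun A B => by funext j; simp [act, add_smul, Finset.sum_add_distrib]
  have hsum : ∀ (s : Finset ℕ) (f : ℕ → Matrix (Fin n) (Fin n) ℤ),
      act (∑ i ∈ s, f i) χ.1 = ∑ i ∈ s, act (f i) χ.1 := fun s f => by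
    classical
    induction s using Finset.induction_on with
    | empty => funext j; simp [act]
    | insert i s hi ih => rw [Finset.sum_insert hi, Finset.sum_insert hi, hadd, ih]
  have h0 : (∑ i ∈ Finset.range N, P.charpoly.coeff i • (⟨_, hm i⟩ : ↥Λ)) = 0 := by
    apply Subtype.ext
    rw [AddSubmonoidClass.coe_finsetSum]
    have h := hsum (Finset.range N) fun i => P.charpoly.coeff i • P ^ i
    rw [← Polynomial.aeval_eq_sum_range, Matrix.aeval_self_charpoly] at h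
    refine Eq.trans (Finset.sum_congr rfl fun i _ => ?_) (h.symm.trans ?_)
    · funext j; simp [act, Finset.smul_sum, mul_smul]
    · funext j; simp [act]
  have h1 := congrArg ψ h0
  rw [map_sum, map_zero] at h1
  rw [Polynomial.eval_eq_sum_range, Int.cast_sum, Finset.sum_mul, ← h1]
  refine Finset.sum_congr rfl fun i _ => ?_
  rw [map_zsmul, hv, zsmul_eq_mul, Int.cast_mul, Int.cast_pow, mul_assoc]

end Eigen

section EigenPrime

variable {n : ℕ} {M : Type*} [AddCommGroup M] (Λ : AddSubgroup (Fin n → M))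
  (P : Matrix (Fin n) (Fin n) ℤ) (hP : ∀ χ ∈ Λ, act P χ ∈ Λ) {ℓ : ℕ} [Fact ℓ.Prime]
  (ψ : ↥Λ →+ ZMod ℓ) (a : ℤ) (hψ : ∀ χ : ↥Λ, ψ ⟨act P χ.1, hP _ χ.2⟩ = (a : ZMod ℓ) * ψ χ)

include hψ in
theorem det_dvd {χ : ↥Λ} (hχ : ψ χ ≠ 0) : (ℓ : ℤ) ∣ (Matrix.scalar (Fin n) a - P).det := by
  have h := (mul_eq_zero.1 (charpoly_eval_zero Λ P hP ψ a hψ χ)).resolve_right hχ
  rwa [Matrix.eval_charpoly, ZMod.intCast_zmod_eq_zero_iff_dvd] at h

include hψ in
theorem pow_cast_eq_one {k : ℕ} (hk : P ^ k = 1) {χ : ↥Λ} (hχ : ψ χ ≠ 0) :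
    (a : ZMod ℓ) ^ k = 1 := by
  obtain ⟨h1, h2⟩ := iterate Λ P hP ψ a hψ χ k
  have e : (⟨_, h1⟩ : ↥Λ) = χ := Subtype.ext (show act (P ^ k) χ.1 = χ.1 by rw [hk, act_one])
  rw [e] at h2
  exact mul_right_cancel₀ hχ (h2.symm.trans (one_mul _).symm)

end EigenPrime

end Cfsg.Agent.TorusAutomiser68
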