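import Cfsg.Agent.Lib.AltSectionLift68
import Cfsg.Agent.Lib.TorusAutomiser68

/-!
The eigenvalue forced on a Weyl element by an element of a section inverting or powering an element
of prime order lifted into the torus.
-/

set_option autoImplicit false

namespace Cfsg.Agent.AltSectionTorus68

open Cfsg.Lie Cfsg.Agent.ChevalleyCert Cfsg.Agent.ChevWeyl
open Cfsg.Agent.ChevCoxTorus68 (Pm tor tor_inj tor_add mem_H_iff)
open Cfsg.Agent.ChevalleyTorusCard (Smith act)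

variable {D : ChevalleyDatum} (C : Cert D) (Sm : Smith D 1 0) (X : Weyl D) {K : Type*} [Field K]

include C Sm in
theorem eigen {H : Type*} [Group H] {A : Type*} [Group A] [Finite A] (π : H →* A)
    (j : H →* GL D.Idx K) (hj : Function.Injective j) {g : H} {v : X.W}
    (hv : ∀ χ χ' : Fin D.rank → Additive Kˣ,
      j g * tor Sm χ * (j g)⁻¹ = tor Sm χ' → χ' = act (Pm C X v) χ)
    {ℓ : ℕ} [Fact ℓ.Prime] {c : A} (hc : orderOf c = ℓ) {P : Subgroup H}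
    (hPc : ∀ z ∈ P, π z ∈ Subgroup.zpowers c) {z : H} (hz : z ∈ P) (hzc : π z = c)
    (hn : ∀ w ∈ P, g * w * g⁻¹ ∈ P) {e : ℕ} (hgc : π g * c * (π g)⁻¹ = c ^ e)
    (hPT : ∀ x ∈ P, j x ∈ D.diagonalSubgroup K) :
    (ℓ : ℤ) ∣ (Matrix.scalar (Fin D.rank) (e : ℤ) - Pm C X v).det ∧
      ((e : ℤ) : ZMod ℓ) ^ Nat.card X.W = 1 := by
  obtain ⟨L, hL⟩ := AltSectionLift68.exists_log hc
  let Λ : AddSubgroup (Fin D.rank → Additive Kˣ) :=
    { carrier := {χ | ∃ x ∈ P, j x = tor Sm χ}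
      add_mem' := fun {a b} ⟨x, hx, ex⟩ ⟨y, hy, ey⟩ =>
        ⟨x * y, mul_mem hx hy, by rw [map_mul, ex, ey, tor_add]⟩
      zero_mem' := ⟨1, one_mem _, by rw [map_one]; exact (map_one (ChevCoxTorus68.torHom Sm)).symm⟩
      neg_mem' := fun {a} ⟨x, hx, ex⟩ => ⟨x⁻¹, inv_mem hx, by
        rw [map_inv, ex]
        exact (map_inv (ChevCoxTorus68.torHom (K := K) Sm) (Multiplicative.ofAdd a)).symm⟩ }
  have hmem : ∀ χ : ↥Λ, ∃ x ∈ P, j x = tor Sm χ.1 := fun χ => χ.2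
  choose xf hxf hxe using hmem
  let ψ : ↥Λ →+ ZMod ℓ := AddMonoidHom.mk'
    (fun χ => L (Additive.ofMul ⟨π (xf χ), hPc _ (hxf χ)⟩)) fun a b => by
      have h : xf (a + b) = xf a * xf b := hj (by rw [map_mul, hxe, hxe, hxe]; exact tor_add Sm a.1 b.1)
      rw [← map_add, ← ofMul_mul]
      exact congrArg (fun t => L (Additive.ofMul t)) (Subtype.ext (by simp [h]))
  have hst : ∀ χ ∈ Λ, act (Pm C X v) χ ∈ Λ := by
    rintro χ ⟨x, hx, ex⟩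
    obtain ⟨χ', hχ'⟩ := (mem_H_iff C Sm).1 (hPT _ (hn x hx))
    refine ⟨_, hn x hx, ?_⟩
    rw [← hv χ χ' (by rw [← ex, hχ', map_mul, map_mul, map_inv]), hχ']
  have hψ : ∀ χ : ↥Λ, ψ ⟨act (Pm C X v) χ.1, hst _ χ.2⟩ = ((e : ℤ) : ZMod ℓ) * ψ χ := by
    intro χ
    set χ1 : ↥Λ := ⟨act (Pm C X v) χ.1, hst _ χ.2⟩
    obtain ⟨χ', hχ'⟩ := (mem_H_iff C Sm).1 (hPT _ (hn _ (hxf χ)))
    have h : xf χ1 = g * xf χ * g⁻¹ := hj (by
      rw [hxe, ← hχ']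
      exact congrArg (tor Sm) (hv χ.1 χ' (by rw [← hxe, hχ', map_mul, map_mul, map_inv])).symm)
    obtain ⟨k, hk⟩ := Subgroup.mem_zpowers_iff.1 (hPc _ (hxf χ))
    have h1 : π (xf χ1) = c ^ ((e : ℤ) * k) := by
      rw [h, map_mul, map_mul, map_inv, ← hk, ← conj_zpow, hgc, zpow_mul, zpow_natCast]
    show L (Additive.ofMul ⟨π (xf χ1), _⟩) = _ * L (Additive.ofMul ⟨π (xf χ), _⟩)
    rw [show (⟨π (xf χ1), hPc _ (hxf χ1)⟩ : ↥(Subgroup.zpowers c)) = ⟨c ^ ((e : ℤ) * k), _, rfl⟩ from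
      Subtype.ext h1, show (⟨π (xf χ), hPc _ (hxf χ)⟩ : ↥(Subgroup.zpowers c)) = ⟨c ^ k, _, rfl⟩ from
      Subtype.ext hk.symm, hL, hL, Int.cast_mul]
  obtain ⟨χz, hχz⟩ := (mem_H_iff C Sm).1 (hPT z hz)
  let χ0 : ↥Λ := ⟨χz, z, hz, hχz.symm⟩
  have h0 : ψ χ0 ≠ 0 := by
    have h : xf χ0 = z := hj (by rw [hxe]; exact hχz)
    show L (Additive.ofMul ⟨π (xf χ0), _⟩) ≠ 0
    rw [show (⟨π (xf χ0), hPc _ (hxf χ0)⟩ : ↥(Subgroup.zpowers c)) = ⟨c ^ (1 : ℤ), _, rfl⟩ from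
      Subtype.ext (show π (xf χ0) = c ^ (1 : ℤ) by rw [h, hzc, zpow_one]), hL, Int.cast_one]
    exact one_ne_zero
  exact ⟨TorusAutomiser68.det_dvd Λ _ hst ψ _ hψ h0,
    TorusAutomiser68.pow_cast_eq_one Λ _ hst ψ _ hψ
      (by rw [← ChevCoxTorus68.Pm_pow, pow_card_eq_one', TorusAutomiser68.Pm_one]) h0⟩

end Cfsg.Agent.AltSectionTorus68
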