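import Mathlib
import Cfsg.Agent.Lib.AltEightSylow95
import Cfsg.Agent.Lib.AltSectionPerm95

/-!
A finite group with a torus whose automizer has exponent dividing 6 and order dividing 12 has no
alternating section of degree 7 (index of the torus prime to 5) or 8 (odd index of the torus
normalizer, at most four elements of the torus squaring to one).
-/

set_option autoImplicit false

namespace Cfsg.Agent.AltSectionTorus95

open Equiv

/-- restrict a surjection onto `A r` to one onto `A s` -/
theorem reduce {s r : ℕ} (hsr : s ≤ r) {H : Type*} [Group H] (π : H →* alternatingGroup (Fin r))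
    (hπ : Function.Surjective π) :
    ∃ (H' : Subgroup H) (π' : H' →* alternatingGroup (Fin s)), Function.Surjective π' := by
  let f := AltSection95.emb (Fin.castLEEmb hsr)
  have hf : Function.Injective f := fun a b h => by
    apply Subtype.ext
    refine Equiv.ext fun j => (Fin.castLEEmb hsr).injective ?_
    rw [← AltSection95.emb_apply, ← AltSection95.emb_apply, show AltSection95.emb (Fin.castLEEmb hsr) a = AltSection95.emb (Fin.castLEEmb hsr) b from h]
  refine ⟨f.range.comap π, (MonoidHom.ofInjective hf).symm.toMonoidHom.comp (π.subgroupComap _), ?_⟩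
  exact (MonoidHom.ofInjective hf).symm.surjective.comp (π.subgroupComap_surjective_of_surjective _ hπ)

/-- the five cycle and an element squaring it in `A 7` -/
theorem exists_five : ∃ c d : alternatingGroup (Fin 7), orderOf c = 5 ∧ d * c * d⁻¹ = c ^ 2 := by
  let c : Perm (Fin 7) := ⟨![1, 2, 3, 4, 0, 5, 6], ![4, 0, 1, 2, 3, 5, 6], by decide, by decide⟩
  let d : Perm (Fin 7) := ⟨![0, 2, 4, 1, 3, 6, 5], ![0, 3, 1, 4, 2, 6, 5], by decide, by decide⟩
  have hc : Perm.sign c = 1 := by decide +kernel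
  have hd : Perm.sign d = 1 := by decide +kernel
  refine ⟨⟨c, hc⟩, ⟨d, hd⟩, ?_, Subtype.ext ?_⟩
  · rw [← Subgroup.orderOf_coe]
    have : Fact (Nat.Prime 5) := ⟨by norm_num⟩
    exact orderOf_eq_prime (by decide +kernel : c ^ 5 = 1) (by decide +kernel : c ≠ 1)
  · show d * c * d⁻¹ = c ^ 2
    decide +kernel

theorem no_seven {G : Type*} [Group G] [Finite G] (T : Subgroup G) (hidx : ¬ 5 ∣ T.index)
    (hauto : ∀ P : Subgroup G, P ≤ T → ∀ g : G, (∀ x ∈ P, g * x * g⁻¹ ∈ P) →
      ∀ x ∈ P, g ^ 6 * x * (g ^ 6)⁻¹ = x)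
    {H : Type*} [Group H] (ι : H →* G) (hι : Function.Injective ι) {r : ℕ} (hr : 7 ≤ r)
    (π : H →* alternatingGroup (Fin r)) (hπ : Function.Surjective π) : False := by
  have : Fact (Nat.Prime 5) := ⟨by norm_num⟩
  obtain ⟨H', π', hπ'⟩ := reduce hr π hπ
  have : Finite H := Finite.of_injective ι hι
  obtain ⟨c, d, hc, hdc⟩ := exists_five
  let ι' : H' →* G := ι.comp H'.subtype
  have hι' : Function.Injective ι' := hι.comp H'.subtype_injective
  let M : Subgroup H' := (Subgroup.zpowers c).comap π'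
  obtain ⟨y, hy⟩ := hπ' d
  obtain ⟨P⟩ : Nonempty (Sylow 5 M) := inferInstance
  have hyM : y ∈ Subgroup.normalizer (M : Set H') := by
    have hmap : (Subgroup.zpowers c).map (MulAut.conj d).toMonoidHom = Subgroup.zpowers c := by
      apply Subgroup.eq_of_le_of_card_ge
      · rw [MonoidHom.map_zpowers, Subgroup.zpowers_le]
        show d * c * d⁻¹ ∈ _
        rw [hdc]; exact Subgroup.pow_mem _ (Subgroup.mem_zpowers c) 2
      · rw [Subgroup.card_map_of_injective (MulAut.conj d).injective]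
    rw [Subgroup.mem_normalizer_iff]
    intro z
    show π' z ∈ Subgroup.zpowers c ↔ π' (y * z * y⁻¹) ∈ Subgroup.zpowers c
    rw [map_mul, map_mul, map_inv, hy]
    constructor
    · intro hz
      rw [← hmap]
      exact ⟨π' z, hz, rfl⟩
    · intro hz
      rw [← hmap] at hz
      obtain ⟨w, hw, hwe⟩ := hz
      rwa [← (MulAut.conj d).injective hwe]
  obtain ⟨P', hP'⟩ : ∃ P' : Sylow 5 M, (P' : Subgroup M).map M.subtype =
      ((P : Subgroup M).map M.subtype).map (MulAut.conj y).toMonoidHom := by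
    have hle : ((P : Subgroup M).map M.subtype).map (MulAut.conj y).toMonoidHom ≤ M := by
      rintro _ ⟨z, ⟨z', -, rfl⟩, rfl⟩
      exact (Subgroup.mem_normalizer_iff.mp hyM _).mp z'.2
    refine ⟨Sylow.ofCard ((((P : Subgroup M).map M.subtype).map (MulAut.conj y).toMonoidHom).subgroupOf M) ?_, ?_⟩
    · rw [Nat.card_congr (Subgroup.subgroupOfEquivOfLe hle).toEquiv,
        Subgroup.card_map_of_injective (MulAut.conj y).injective,
        Subgroup.card_map_of_injective M.subtype_injective, P.card_eq_multiplicity]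
    · rw [Sylow.coe_ofCard, Subgroup.map_subgroupOf_eq_of_le hle]
  obtain ⟨z, hz⟩ := MulAction.exists_smul_eq M P' P
  set g : H' := (z : H') * y with hgdef
  have hgP : ∀ x ∈ (P : Subgroup M).map M.subtype, g * x * g⁻¹ ∈ (P : Subgroup M).map M.subtype := by
    intro x hx
    have h1 : y * x * y⁻¹ ∈ (P' : Subgroup M).map M.subtype := hP' ▸ ⟨x, hx, rfl⟩
    obtain ⟨w, hw, hwe⟩ := h1
    refine ⟨z * w * z⁻¹, ?_, ?_⟩
    · rw [← hz, Sylow.coe_subgroup_smul]
      exact Subgroup.smul_mem_pointwise_smul w (MulAut.conj z) _ hw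
    · simp only [Subgroup.coe_subtype] at hwe ⊢
      rw [Subgroup.coe_mul, Subgroup.coe_mul, Subgroup.coe_inv, hwe, hgdef]
      group
  obtain ⟨x, hxP, hπx⟩ : ∃ x ∈ (P : Subgroup M).map M.subtype, π' x = c := by
    let f : M →* ↥(Subgroup.zpowers c) := π'.subgroupComap _
    have hfs : Function.Surjective f := π'.subgroupComap_surjective_of_surjective _ hπ'
    have htop : (P.mapSurjective hfs : Subgroup ↥(Subgroup.zpowers c)) = ⊤ := by
      have := (P.mapSurjective hfs).card_eq_multiplicity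
      rw [Nat.card_zpowers, hc, Nat.Prime.factorization_self (by norm_num), pow_one] at this
      exact Subgroup.eq_top_of_card_eq _ (by rw [this, Nat.card_zpowers, hc])
    have : (⟨c, Subgroup.mem_zpowers c⟩ : ↥(Subgroup.zpowers c)) ∈ (P : Subgroup M).map f := by
      rw [← Sylow.coe_mapSurjective hfs P, htop]; trivial
    obtain ⟨w, hw, hwe⟩ := this
    exact ⟨w, ⟨w, hw, rfl⟩, congrArg Subtype.val hwe⟩
  -- a Sylow 5-subgroup inside `T`
  obtain ⟨S0⟩ : Nonempty (Sylow 5 T) := inferInstance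
  obtain ⟨S, hST⟩ : ∃ S : Sylow 5 G, (S : Subgroup G) ≤ T := by
    refine ⟨Sylow.ofCard ((S0 : Subgroup T).map T.subtype) ?_, Subgroup.map_subtype_le _⟩
    rw [Subgroup.card_map_of_injective T.subtype_injective, S0.card_eq_multiplicity, ← T.card_mul_index,
      Nat.factorization_mul Nat.card_pos.ne' Subgroup.index_ne_zero_of_finite, Finsupp.add_apply,
      Nat.factorization_eq_zero_of_not_dvd hidx, add_zero]
  have hpg : IsPGroup 5 ↥(((P : Subgroup M).map M.subtype).map ι') := (P.isPGroup'.map _).map _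
  obtain ⟨Q, hQ⟩ := hpg.exists_le_sylow
  obtain ⟨a, ha⟩ := MulAction.exists_smul_eq G Q S
  set R : Subgroup G := (((P : Subgroup M).map M.subtype).map ι').map (MulAut.conj a).toMonoidHom with hRdef
  have hRT : R ≤ T := by
    refine le_trans ?_ hST
    rw [← ha, Sylow.coe_subgroup_smul]
    rintro _ ⟨w, hw, rfl⟩
    exact Subgroup.smul_mem_pointwise_smul w (MulAut.conj a) _ (hQ hw)
  set g' := MulAut.conj a (ι' g) with hg'
  have hn : ∀ w ∈ R, g' * w * g'⁻¹ ∈ R := by
    rintro _ ⟨_, ⟨w, hw, rfl⟩, rfl⟩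
    refine ⟨ι' (g * w * g⁻¹), ⟨_, hgP w hw, rfl⟩, ?_⟩
    simp [hg']
    group
  have key := hauto R hRT g' hn (MulAut.conj a (ι' x)) ⟨_, ⟨x, hxP, rfl⟩, rfl⟩
  have key' : g ^ 6 * x * (g ^ 6)⁻¹ = x := by
    apply hι'
    apply (MulAut.conj a).injective
    refine Eq.trans ?_ key
    simp only [hg', map_mul, map_pow, map_inv]
  have hg2 : π' g * c * (π' g)⁻¹ = c ^ 2 := by
    obtain ⟨k, hk⟩ := Subgroup.mem_zpowers_iff.mp (z.2 : π' (z : H') ∈ Subgroup.zpowers c)
    rw [hgdef, map_mul, hy, ← hk, show c ^ k * d * c * (c ^ k * d)⁻¹ = c ^ k * (d * c * d⁻¹) * (c ^ k)⁻¹ by group,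
      hdc, ((Commute.refl c).zpow_left k).pow_right 2 |>.eq, mul_inv_cancel_right]
  have hgn : ∀ j : ℕ, π' g ^ j * c * (π' g ^ j)⁻¹ = c ^ 2 ^ j := by
    intro j
    induction j with
    | zero => simp
    | succ j ih =>
      rw [show π' g ^ (j + 1) * c * (π' g ^ (j + 1))⁻¹ = π' g * (π' g ^ j * c * (π' g ^ j)⁻¹) * (π' g)⁻¹ by
        rw [pow_succ']; group, ih, ← conj_pow, hg2, ← pow_mul, ← pow_succ']
  have h6 := congrArg π' key'
  simp only [map_mul, map_pow, map_inv, hπx, hgn] at h6
  have h7 : c ^ (2 ^ 6 % orderOf c) = c ^ 1 := by rw [pow_mod_orderOf, pow_one]; exact h6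
  rw [hc, pow_inj_mod, hc] at h7
  norm_num at h7

theorem no_eight {G : Type*} [Group G] [Finite G] (N : Subgroup G) (hodd : ¬ 2 ∣ N.index)
    {W : Type*} [Group W] [Finite W] (φ : N →* W) (hW : Nat.card W ∣ 12)
    (hcomm : ∀ x ∈ φ.ker, ∀ y ∈ φ.ker, x * y = y * x)
    (htwo : Nat.card {x : N // φ x = 1 ∧ x ^ 2 = 1} ≤ 4)
    {H : Type*} [Group H] (ι : H →* G) (hι : Function.Injective ι) {r : ℕ} (hr : 8 ≤ r)
    (π : H →* alternatingGroup (Fin r)) (hπ : Function.Surjective π) : False := by
  have : Fact (Nat.Prime 2) := ⟨Nat.prime_two⟩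
  obtain ⟨H', π', hπ'⟩ := reduce hr π hπ
  have : Finite H := Finite.of_injective ι hι
  let ι' : H' →* G := ι.comp H'.subtype
  have hι' : Function.Injective ι' := hι.comp H'.subtype_injective
  obtain ⟨P⟩ : Nonempty (Sylow 2 H') := inferInstance
  obtain ⟨S0⟩ : Nonempty (Sylow 2 N) := inferInstance
  obtain ⟨S, hSN⟩ : ∃ S : Sylow 2 G, (S : Subgroup G) ≤ N := by
    refine ⟨Sylow.ofCard ((S0 : Subgroup N).map N.subtype) ?_, Subgroup.map_subtype_le _⟩
    rw [Subgroup.card_map_of_injective N.subtype_injective, S0.card_eq_multiplicity, ← N.card_mul_index,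
      Nat.factorization_mul Nat.card_pos.ne' Subgroup.index_ne_zero_of_finite, Finsupp.add_apply,
      Nat.factorization_eq_zero_of_not_dvd hodd, add_zero]
  obtain ⟨Q, hQ⟩ := (P.isPGroup'.map ι').exists_le_sylow
  obtain ⟨a, ha⟩ := MulAction.exists_smul_eq G Q S
  have hmem : ∀ u : (P : Subgroup H'), MulAut.conj a (ι' u) ∈ N := fun u => by
    apply hSN
    rw [← ha, Sylow.coe_subgroup_smul]
    exact Subgroup.smul_mem_pointwise_smul _ (MulAut.conj a) _ (hQ ⟨u, u.2, rfl⟩)
  let j : (P : Subgroup H') →* N :=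
    ((MulAut.conj a).toMonoidHom.comp (ι'.comp (P : Subgroup H').subtype)).codRestrict N hmem
  have hj : Function.Injective j := fun u v e =>
    Subtype.ext (hι' ((MulAut.conj a).injective (congrArg Subtype.val e)))
  let U0 : Subgroup (P : Subgroup H') := (φ.comp j).ker
  -- the index of `U0` is at most four
  have hidx : U0.index ≤ 4 := by
    have h1 : U0.index ∣ 12 := by
      rw [Subgroup.index_ker]
      exact (Subgroup.card_subgroup_dvd_card _).trans hW
    obtain ⟨k, hk⟩ := (P.isPGroup'.index U0)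
    rw [hk] at h1 ⊢
    rcases le_or_gt k 2 with h | h
    · exact le_trans (Nat.pow_le_pow_right (by norm_num) h) (by norm_num)
    · exact absurd ((pow_dvd_pow 2 h).trans h1) (by norm_num)
  let : CommGroup U0 :=
    { (inferInstance : Group U0) with
      mul_comm := fun u v => Subtype.ext (hj (by
        simpa only [Subgroup.coe_mul, map_mul] using hcomm (j u) u.2 (j v) v.2)) }
  have hU2 : Nat.card (powMonoidHom 2 : U0 →* U0).ker ≤ 4 := by
    refine le_trans (Nat.card_le_card_of_injective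
      (fun u => (⟨j (u : U0), (u : U0).2, ?_⟩ : {x : N // φ x = 1 ∧ x ^ 2 = 1})) ?_) htwo
    · rw [← map_pow, ← map_one j]
      exact congrArg j (congrArg Subtype.val (show (u : U0) ^ 2 = 1 from u.2))
    · intro u v e
      exact Subtype.ext (Subtype.ext (hj (congrArg Subtype.val e)))
  -- the image
  let f : U0 →* alternatingGroup (Fin 8) := π'.comp ((P : Subgroup H').subtype.comp U0.subtype)
  let S8 : Sylow 2 (alternatingGroup (Fin 8)) := P.mapSurjective hπ'
  have hf8 : ∀ u, f u ∈ (S8 : Subgroup _) := fun u => by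
    rw [Sylow.coe_mapSurjective]
    exact ⟨_, (u : (P : Subgroup H')).2, rfl⟩
  let A := f.range
  let : CommGroup A :=
    { (inferInstance : Group A) with
      mul_comm := fun u v => Subtype.ext (by
        obtain ⟨x, hx⟩ := u.2
        obtain ⟨y, hy⟩ := v.2
        rw [Subgroup.coe_mul, Subgroup.coe_mul, ← hx, ← hy, ← map_mul, ← map_mul, mul_comm x y]) }
  have hA : 16 ≤ Nat.card A := by
    let F : (P : Subgroup H') →* (S8 : Subgroup (alternatingGroup (Fin 8))) :=
      (π'.comp (P : Subgroup H').subtype).codRestrict _ fun u => by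
        rw [Sylow.coe_mapSurjective]; exact ⟨_, u.2, rfl⟩
    have hF : Function.Surjective F := by
      rintro ⟨x, hx⟩
      rw [Sylow.coe_mapSurjective] at hx
      obtain ⟨u, hu, rfl⟩ := hx
      exact ⟨⟨u, hu⟩, rfl⟩
    have h1 : (U0.map F).index ≤ 4 :=
      le_trans (Nat.le_of_dvd (Nat.pos_of_ne_zero Subgroup.index_ne_zero_of_finite)
        (U0.index_map_dvd hF)) hidx
    have h2 := (U0.map F).card_mul_index
    have h3 : Nat.card (S8 : Subgroup (alternatingGroup (Fin 8))) = 64 := by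
      rw [← AltEightSylow95.card_syl]
      exact Nat.card_congr (Sylow.equiv S8 AltEightSylow95.sylow).toEquiv
    have h4 : Nat.card (U0.map F) = Nat.card A := by
      have e : (U0.map F).map (Subgroup.subtype _) = A := by
        rw [Subgroup.map_map]
        ext x
        exact ⟨fun ⟨u, hu, e⟩ => ⟨⟨u, hu⟩, e⟩, fun ⟨u, e⟩ => ⟨u, u.2, e⟩⟩
      rw [← e, Subgroup.card_map_of_injective (Subgroup.subtype_injective _)]
    rw [h3, h4] at h2
    nlinarith
  have hb := AltEightSylow95.abelian_bound A.subtype A.subtype_injective S8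
    (fun u => by obtain ⟨x, hx⟩ := u.2; show (u : alternatingGroup (Fin 8)) ∈ _; rw [← hx]; exact hf8 x) hA
  -- quotient comparison
  have h5 : (powMonoidHom 2 : A →* A).range = (powMonoidHom 2 : U0 →* U0).range.map f.rangeRestrict := by
    ext y
    constructor
    · rintro ⟨z, rfl⟩
      obtain ⟨x, rfl⟩ := f.rangeRestrict_surjective z
      exact ⟨x ^ 2, ⟨x, rfl⟩, map_pow _ _ _⟩
    · rintro ⟨_, ⟨x, rfl⟩, rfl⟩
      exact ⟨f.rangeRestrict x, (map_pow _ _ _).symm⟩
  have h6 : Nat.card (powMonoidHom 2 : A →* A).ker ∣ Nat.card (powMonoidHom 2 : U0 →* U0).ker := by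
    have ha := (powMonoidHom 2 : A →* A).range.card_mul_index
    have hu := (powMonoidHom 2 : U0 →* U0).range.card_mul_index
    have ha' := (powMonoidHom 2 : A →* A).ker.card_mul_index
    have hu' := (powMonoidHom 2 : U0 →* U0).ker.card_mul_index
    rw [Subgroup.index_ker] at ha' hu'
    have ea : Nat.card (powMonoidHom 2 : A →* A).ker = (powMonoidHom 2 : A →* A).range.index :=
      Nat.eq_of_mul_eq_mul_left Nat.card_pos (by rw [mul_comm, ha', ha])
    have eu : Nat.card (powMonoidHom 2 : U0 →* U0).ker = (powMonoidHom 2 : U0 →* U0).range.index :=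
      Nat.eq_of_mul_eq_mul_left Nat.card_pos (by rw [mul_comm, hu', hu])
    rw [ea, eu, h5]
    exact Subgroup.index_map_dvd _ f.rangeRestrict_surjective
  have := Nat.le_of_dvd Nat.card_pos h6
  omega

end Cfsg.Agent.AltSectionTorus95
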