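import Mathlib

/-!
# Elements of order three in `A₆`

Each normalises a four-group on which it acts faithfully; the normalizer of a Sylow
three-subgroup has order `36`.
-/

set_option autoImplicit false

namespace Cfsg.Agent.AltSixThree79

open Equiv

/-- `t` spans, with its conjugate under `c`, a four-group permuted cyclically by `c`. -/
def body (c t : Perm (Fin 6)) : Bool :=
  decide (Perm.sign t = 1 ∧ t * t = 1 ∧ t ≠ 1 ∧ t * (c * t * c⁻¹) = c * t * c⁻¹ * t ∧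
    c * (c * t * c⁻¹) * c⁻¹ = t * (c * t * c⁻¹))

set_option maxRecDepth 100000 in
theorem four_aux : ∀ c : Perm (Fin 6), decide (c ^ 3 = 1 ∧ c ≠ 1 ∧ Perm.sign c = 1) = true →
    ∃ i j : Fin 6, (body c (swap i j * swap (c i) (c j)) ||
      body c (swap i (c i) * swap (c (c i)) j)) = true := by
  decide +kernel

theorem exists_four (c : ↥(alternatingGroup (Fin 6))) (h3 : c ^ 3 = 1) (h1 : c ≠ 1) :
    ∃ t : ↥(alternatingGroup (Fin 6)), t * t = 1 ∧ t ≠ 1 ∧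
      t * (c * t * c⁻¹) = c * t * c⁻¹ * t ∧ c * (c * t * c⁻¹) * c⁻¹ = t * (c * t * c⁻¹) := by
  obtain ⟨i, j, h⟩ := four_aux (c : Perm (Fin 6)) (decide_eq_true
    ⟨by rw [← Subgroup.coe_pow, h3]; rfl, fun e => h1 (Subtype.ext e),
      Perm.mem_alternatingGroup.1 c.2⟩)
  rw [Bool.or_eq_true] at h
  have key : ∀ t, body (c : Perm (Fin 6)) t = true → ∃ t : ↥(alternatingGroup (Fin 6)),
      t * t = 1 ∧ t ≠ 1 ∧ t * (c * t * c⁻¹) = c * t * c⁻¹ * t ∧
        c * (c * t * c⁻¹) * c⁻¹ = t * (c * t * c⁻¹) := by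
    intro t ht
    obtain ⟨hs, h2, hne, hc, hcc⟩ := of_decide_eq_true (show decide _ = true from ht)
    refine ⟨⟨t, Perm.mem_alternatingGroup.2 hs⟩, Subtype.ext h2, fun e => hne ?_,
      Subtype.ext hc, Subtype.ext hcc⟩
    exact congrArg Subtype.val e
  rcases h with h | h <;> exact key _ h

/-- `(012)`. -/
def c1 : ↥(alternatingGroup (Fin 6)) :=
  ⟨swap 0 1 * swap 1 2, Perm.mem_alternatingGroup.2 (by decide +kernel)⟩

/-- `(345)`. -/
def c2 : ↥(alternatingGroup (Fin 6)) :=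
  ⟨swap 3 4 * swap 4 5, Perm.mem_alternatingGroup.2 (by decide +kernel)⟩

/-- The nine elements of the Sylow subgroup. -/
def f9 (i j : Fin 3) : ↥(alternatingGroup (Fin 6)) := c1 ^ (i : ℕ) * c2 ^ (j : ℕ)

set_option maxRecDepth 100000 in
theorem f9_mul : ∀ i j k l : Fin 3, f9 i j * f9 k l = f9 (i + k) (j + l) := by decide +kernel

set_option maxRecDepth 100000 in
theorem f9_inj : ∀ i j k l : Fin 3, f9 i j = f9 k l → i = k ∧ j = l := by decide +kernel

theorem f9_zero : f9 0 0 = 1 := by simp [f9]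

/-- `⟨(012), (345)⟩`. -/
def P9 : Subgroup ↥(alternatingGroup (Fin 6)) where
  carrier := {g | ∃ i j, g = f9 i j}
  one_mem' := ⟨0, 0, f9_zero.symm⟩
  mul_mem' := by
    rintro _ _ ⟨i, j, rfl⟩ ⟨k, l, rfl⟩
    exact ⟨i + k, j + l, f9_mul i j k l⟩
  inv_mem' := by
    rintro _ ⟨i, j, rfl⟩
    refine ⟨-i, -j, inv_eq_of_mul_eq_one_right ?_⟩
    rw [f9_mul, add_neg_cancel, add_neg_cancel, f9_zero]

theorem card_P9 : Nat.card P9 = 9 := by
  let f : Fin 3 × Fin 3 → P9 := fun p => ⟨f9 p.1 p.2, p.1, p.2, rfl⟩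
  have hf : Function.Bijective f := by
    constructor
    · rintro ⟨i, j⟩ ⟨k, l⟩ e
      obtain ⟨h1, h2⟩ := f9_inj i j k l (congrArg Subtype.val e)
      rw [h1, h2]
    · rintro ⟨g, i, j, rfl⟩
      exact ⟨(i, j), rfl⟩
  rw [← Nat.card_eq_of_bijective f hf, Nat.card_prod, Nat.card_fin]

set_option maxRecDepth 100000 in
theorem norm_count : Fintype.card {n : ↥(alternatingGroup (Fin 6)) //
    (∃ i j, n * c1 * n⁻¹ = f9 i j) ∧ ∃ i j, n * c2 * n⁻¹ = f9 i j} = 36 := by decide +kernel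

theorem card_norm : Nat.card ↥(Subgroup.normalizer (P9 : Set ↥(alternatingGroup (Fin 6)))) = 36 := by
  rw [← norm_count, ← Nat.card_eq_fintype_card]
  refine Nat.card_congr (Equiv.subtypeEquivRight fun n => ⟨fun h => ?_, fun h => ?_⟩)
  · have h' := Subgroup.mem_normalizer_iff.1 h
    exact ⟨(h' c1).1 ⟨1, 0, by simp [f9]⟩, (h' c2).1 ⟨0, 1, by simp [f9]⟩⟩
  · refine Subgroup.mem_normalizer_fintype ?_
    rintro _ ⟨i, j, rfl⟩
    obtain ⟨ha, hb⟩ := h
    show n * (c1 ^ (i : ℕ) * c2 ^ (j : ℕ)) * n⁻¹ ∈ P9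
    rw [show n * (c1 ^ (i : ℕ) * c2 ^ (j : ℕ)) * n⁻¹ =
      (n * c1 ^ (i : ℕ) * n⁻¹) * (n * c2 ^ (j : ℕ) * n⁻¹) by group, ← conj_pow, ← conj_pow]
    exact mul_mem (pow_mem ha _) (pow_mem hb _)

end Cfsg.Agent.AltSixThree79
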