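/-
The characters of degrees n - 1, n(n-3)/2 and (n-1)(n-2)/2 of symmetric and alternating groups.
-/
import Mathlib
import Cfsg.Agent.Lib.CharBasicDecomp
import Cfsg.Agent.Lib.CharBasicPerm

set_option autoImplicit false

open scoped ComplexConjugate
open Finset
open Cfsg

namespace Cfsg.Agent.AltSmallChars80

open CharBasic CharBasicOrth CharBasicDecomp

variable {n : ℕ} {G : Type} [Group G] (ι : G →* Equiv.Perm (Fin n))

/-- Tuples moved by `g` along `τ`. -/
noncomputable def cnt {k : ℕ} (τ : Fin k → Fin k) (g : G) : ℕ :=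
  Nat.card {u : Fin k → Fin n // ∀ i, ι g (u i) = u (τ i)}

/-- Juxtaposition of index maps. -/
def app {a b : ℕ} (τ : Fin a → Fin a) (τ' : Fin b → Fin b) : Fin (a + b) → Fin (a + b) :=
  Fin.addCases (fun i => Fin.castAdd b (τ i)) (fun j => Fin.natAdd a (τ' j))

theorem cnt_app {a b : ℕ} (τ : Fin a → Fin a) (τ' : Fin b → Fin b) (g : G) :
    cnt ι (app τ τ') g = cnt ι τ g * cnt ι τ' g := by
  rw [cnt, cnt, cnt, ← Nat.card_prod]
  exact Nat.card_congr
    { toFun := fun u => (⟨fun i => u.1 (Fin.castAdd b i), fun i => by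
          have := u.2 (Fin.castAdd b i)
          simpa [app] using this⟩,
        ⟨fun j => u.1 (Fin.natAdd a j), fun j => by
          have := u.2 (Fin.natAdd a j)
          simpa [app] using this⟩)
      invFun := fun p => ⟨Fin.append p.1.1 p.2.1, fun i => by
        induction i using Fin.addCases with
        | left i => simpa [app] using p.1.2 i
        | right j => simpa [app] using p.2.2 j⟩
      left_inv := fun u => Subtype.ext (funext fun i => by
        induction i using Fin.addCases <;> simp)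
      right_inv := fun p => by ext <;> simp }

theorem exists_even_map {k : ℕ} (hk : k + 2 ≤ n) (u u' : Fin k → Fin n)
    (h : ∀ i j, u i = u j ↔ u' i = u' j) :
    ∃ σ : Equiv.Perm (Fin n), Equiv.Perm.sign σ = 1 ∧ ∀ i, σ (u i) = u' i := by
  classical
  have hx : ∀ x : {x // x ∈ Set.range u}, ∃ i, u i = x.1 := fun x => x.2
  choose c hc using hx
  let e : {x // x ∈ Set.range u} ≃ {y // y ∈ Set.range u'} :=
    Equiv.ofBijective (fun x => ⟨u' (c x), c x, rfl⟩) ⟨fun x y hxy => by
      have h1 := (h (c x) (c y)).2 (congrArg Subtype.val hxy)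
      rw [hc, hc] at h1
      exact Subtype.ext h1, by
      rintro ⟨_, i, rfl⟩
      exact ⟨⟨u i, i, rfl⟩, Subtype.ext ((h _ _).1 (hc _))⟩⟩
  have he : ∀ i, e.extendSubtype (u i) = u' i := fun i => by
    rw [Equiv.extendSubtype_apply_of_mem e (u i) ⟨i, rfl⟩]
    exact (h _ _).1 (hc _)
  have hcard : 1 < (Finset.univ \ Finset.univ.image u').card := by
    rw [Finset.card_sdiff, Finset.inter_univ, Finset.card_univ, Fintype.card_fin]
    have := Finset.card_image_le (s := (Finset.univ : Finset (Fin k))) (f := u')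
    rw [Finset.card_univ, Fintype.card_fin] at this
    omega
  obtain ⟨x, hx, y, hy, hxy⟩ := Finset.one_lt_card.1 hcard
  simp only [Finset.mem_sdiff, Finset.mem_univ, true_and, Finset.mem_image, not_exists] at hx hy
  rcases Int.units_eq_one_or (Equiv.Perm.sign e.extendSubtype) with h1 | h1
  · exact ⟨e.extendSubtype, h1, he⟩
  · refine ⟨Equiv.swap x y * e.extendSubtype, ?_, fun i => ?_⟩
    · rw [map_mul, Equiv.Perm.sign_swap hxy, h1]
      decide
    · rw [Equiv.Perm.mul_apply, he]
      exact Equiv.swap_apply_of_ne_of_ne (hx i) (hy i)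

/-- Set partitions of `Fin k`, as maps to least elements. -/
def parts (k : ℕ) : Finset (Fin k → Fin k) :=
  Finset.univ.filter fun v => ∀ i, v i ≤ i ∧ v (v i) = v i

variable [Fintype G]

/-- Burnside counting with a twist. -/
theorem sum_cnt (hι : Function.Injective ι)
    (hA : ∀ σ : Equiv.Perm (Fin n), Equiv.Perm.sign σ = 1 → ∃ g, ι g = σ)
    {k : ℕ} (hk : k + 2 ≤ n) (τ : Fin k → Fin k) :
    ∑ g : G, cnt ι τ g = Fintype.card G *
      ((parts k).filter fun v => ∀ i j, v i = v j ↔ v (τ i) = v (τ j)).card := by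
  classical
  have hne : ∀ (u : Fin k → Fin n) (i : Fin k),
      (Finset.univ.filter fun j => u j = u i).Nonempty := fun u i => ⟨i, by simp⟩
  let canon : (Fin k → Fin n) → (Fin k → Fin k) := fun u i =>
    (Finset.univ.filter fun j => u j = u i).min' (hne u i)
  have hcan : ∀ (u : Fin k → Fin n) (i : Fin k), u (canon u i) = u i := fun u i => by
    have := Finset.min'_mem _ (hne u i)
    exact (Finset.mem_filter.1 this).2
  have hker : ∀ (u : Fin k → Fin n) (i j : Fin k), canon u i = canon u j ↔ u i = u j := fun u i j => by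
    constructor
    · intro h; rw [← hcan u i, ← hcan u j, h]
    · intro h; simp only [canon, h]
  have hmem : ∀ u ∈ (Finset.univ : Finset (Fin k → Fin n)), canon u ∈ parts k := fun u _ => by
    refine Finset.mem_filter.2 ⟨Finset.mem_univ _, fun i =>
      ⟨Finset.min'_le _ _ (by simp), (hker u _ _).2 (hcan u i)⟩⟩
  have hswap : ∑ g : G, cnt ι τ g =
      ∑ u : Fin k → Fin n, (Finset.univ.filter fun g => ∀ i, ι g (u i) = u (τ i)).card := by
    simp only [cnt, Nat.card_eq_fintype_card, Fintype.card_subtype, Finset.card_filter]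
    exact Finset.sum_comm
  rw [hswap, ← Finset.sum_fiberwise_of_maps_to (g := canon) (t := parts k) hmem,
    Finset.card_filter, Finset.mul_sum]
  refine Finset.sum_congr rfl fun v hv => ?_
  have hv' := (Finset.mem_filter.1 hv).2
  by_cases hinv : ∀ i j, v i = v j ↔ v (τ i) = v (τ j)
  · rw [if_pos hinv, mul_one]
    let u0 : Fin k → Fin n := fun i => Fin.castLE (by omega) (v i)
    have hu0 : ∀ i j, u0 i = u0 j ↔ v i = v j := fun i j =>
      (Fin.castLE_injective _).eq_iff
    have hu0v : canon u0 = v := funext fun i => by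
      refine le_antisymm (Finset.min'_le _ (v i) (Finset.mem_filter.2
        ⟨Finset.mem_univ _, (hu0 _ _).2 (hv' i).2⟩)) (Finset.le_min' _ _ _ fun j hj => ?_)
      rw [← (hu0 _ _).1 (Finset.mem_filter.1 hj).2]
      exact (hv' j).1
    have hu : ∀ u ∈ Finset.univ.filter (fun u : Fin k → Fin n => canon u = v),
        (Finset.univ.filter fun g => ∀ i, ι g (u i) = u (τ i)).card =
          (Finset.univ.filter fun g => (fun i => ι g (u0 i)) = u).card := by
      intro u hu
      have huv : canon u = v := (Finset.mem_filter.1 hu).2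
      have k1 : ∀ i j, u i = u j ↔ v i = v j := fun i j => by rw [← huv, hker]
      obtain ⟨σ, hσ, hσu⟩ := exists_even_map hk u0 u (fun i j => (hu0 i j).trans (k1 i j).symm)
      obtain ⟨h, hh⟩ := hA σ hσ
      obtain ⟨σ', hσ', hσu'⟩ := exists_even_map hk u (fun i => u (τ i))
        (fun i j => (k1 i j).trans ((hinv i j).trans (k1 _ _).symm))
      obtain ⟨t, ht⟩ := hA σ' hσ'
      refine Finset.card_bij' (fun g _ => t⁻¹ * g * h) (fun g _ => t * g * h⁻¹) ?_ ?_ ?_ ?_
      · intro g hg
        simp only [Finset.mem_filter, Finset.mem_univ, true_and] at hg ⊢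
        funext i
        simp only [map_mul, map_inv, Equiv.Perm.mul_apply, hh, hσu, ht, hg, Equiv.Perm.inv_def,
          Equiv.symm_apply_eq, hσu']
      · intro g hg
        simp only [Finset.mem_filter, Finset.mem_univ, true_and] at hg ⊢
        intro i
        have h1 : (ι h)⁻¹ (u i) = u0 i := by
          rw [hh, Equiv.Perm.inv_def, Equiv.symm_apply_eq, hσu]
        simp only [map_mul, map_inv, Equiv.Perm.mul_apply, h1, congrFun hg i, ht, hσu']
      · intro g _; group
      · intro g _; group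
    rw [Finset.sum_congr rfl hu, ← Finset.card_eq_sum_card_fiberwise]
    · exact Finset.card_univ
    · intro g _
      refine Finset.mem_filter.2 ⟨Finset.mem_univ _, ?_⟩
      rw [← hu0v]
      funext i
      simp only [canon, (ι g).injective.eq_iff]
  · rw [if_neg hinv, mul_zero]
    refine Finset.sum_eq_zero fun u hu => Finset.card_eq_zero.2
      (Finset.filter_eq_empty_iff.2 fun g _ hg => hinv fun i j => ?_)
    have huv : canon u = v := (Finset.mem_filter.1 hu).2
    rw [← huv, hker, hker, ← hg i, ← hg j, (ι g).injective.eq_iff]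

/-- Fixed points, as a complex number. -/
noncomputable def ff (g : G) : ℂ := (Nat.card {x : Fin n // ι g x = x} : ℂ)

omit [Fintype G] in
theorem ff_eq (g : G) : ff ι g = (cnt ι (id : Fin 1 → Fin 1) g : ℂ) := by
  rw [ff, cnt]
  congr 1
  exact Nat.card_congr
    { toFun := fun x => ⟨fun _ => x.1, fun _ => x.2⟩
      invFun := fun u => ⟨u.1 0, u.2 0⟩
      left_inv := fun x => rfl
      right_inv := fun u => Subtype.ext (funext fun i => congrArg u.1 (Subsingleton.elim 0 i)) }

omit [Fintype G] in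
theorem ff_sq (g : G) : ff ι (g * g) = (cnt ι (![1, 0] : Fin 2 → Fin 2) g : ℂ) := by
  rw [ff, cnt]
  congr 1
  exact Nat.card_congr
    { toFun := fun x => ⟨![x.1, ι g x.1], Fin.forall_fin_two.2 ⟨rfl, by
        simpa [map_mul, Equiv.Perm.mul_apply] using x.2⟩⟩
      invFun := fun u => ⟨u.1 0, by
        rw [map_mul, Equiv.Perm.mul_apply, u.2 0]
        exact u.2 1⟩
      left_inv := fun x => rfl
      right_inv := fun u => Subtype.ext (funext (Fin.forall_fin_two.2 ⟨rfl, by
        simpa using u.2 0⟩)) }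

/-- Pairs up to order, as a permutation character. -/
noncomputable def sq2 (g : G) : ℂ := (ff ι g ^ 2 + ff ι (g * g)) / 2

omit [Fintype G] in
theorem isCharacter_ff : IsCharacter G (ff ι) := by
  letI : MulAction G (Fin n) := MulAction.compHom (Fin n) ι
  exact CharBasicPerm.isCharacter_fixedBy (G := G) (Fin n)

omit [Fintype G] in
theorem isCharacter_sq2 : IsCharacter G (sq2 ι) := by
  classical
  letI : MulAction G (Sym2 (Fin n)) :=
    { smul := fun g z => Sym2.map (ι g) z
      one_smul := fun z => by show Sym2.map (ι 1) z = z; simp [Sym2.map_id']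
      mul_smul := fun a b z => by
        show Sym2.map (ι (a * b)) z = Sym2.map (ι a) (Sym2.map (ι b) z)
        rw [Sym2.map_map, map_mul]; rfl }
  suffices sq2 ι = fun g => (Nat.card (MulAction.fixedBy (Sym2 (Fin n)) g) : ℂ) by
    rw [this]; exact CharBasicPerm.isCharacter_fixedBy _
  funext g
  have key : ∀ F : Sym2 (Fin n) → ℕ,
      (∑ p : Fin n × Fin n, F s(p.1, p.2)) + ∑ a, F s(a, a) = 2 * ∑ z, F z := by
    intro F
    rw [← Finset.sum_fiberwise Finset.univ (fun p : Fin n × Fin n => s(p.1, p.2)),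
      ← Finset.sum_fiberwise Finset.univ (fun a : Fin n => s(a, a)), ← Finset.sum_add_distrib,
      Finset.mul_sum]
    refine Finset.sum_congr rfl fun z _ => ?_
    rw [Finset.sum_congr rfl (g := fun _ => F z) (fun p hp => congrArg F (Finset.mem_filter.1 hp).2),
      Finset.sum_congr rfl (g := fun _ => F z) (fun a ha => congrArg F (Finset.mem_filter.1 ha).2),
      Finset.sum_const, Finset.sum_const, smul_eq_mul, smul_eq_mul, ← add_mul]
    congr 1
    induction z using Sym2.ind with
    | _ a b =>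
      by_cases hab : a = b
      · subst hab
        rw [show (Finset.univ.filter fun p : Fin n × Fin n => s(p.1, p.2) = s(a, a)) = {(a, a)} by
            ext ⟨x, y⟩; simp,
          show (Finset.univ.filter fun c : Fin n => s(c, c) = s(a, a)) = {a} by ext c; simp]
        rfl
      · rw [show (Finset.univ.filter fun p : Fin n × Fin n => s(p.1, p.2) = s(a, b)) =
            {(a, b), (b, a)} by ext ⟨x, y⟩; simp,
          show (Finset.univ.filter fun c : Fin n => s(c, c) = s(a, b)) = ∅ by
            ext c; simp; exact ⟨fun h1 h2 => hab (h1.symm.trans h2), fun h1 h2 => hab (h2.symm.trans h1)⟩,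
          Finset.card_pair (by simp [hab]), Finset.card_empty]
  have hfix : Nat.card (MulAction.fixedBy (Sym2 (Fin n)) g) =
      ∑ z : Sym2 (Fin n), if Sym2.map (ι g) z = z then 1 else 0 := by
    rw [Finset.sum_boole, Nat.card_eq_fintype_card, Fintype.card_subtype]
    rfl
  have hdiag : (∑ a : Fin n, if Sym2.map (ι g) s(a, a) = s(a, a) then 1 else 0) =
      Nat.card {x : Fin n // ι g x = x} := by
    rw [Finset.sum_boole, Nat.card_eq_fintype_card, Fintype.card_subtype]
    simp
  have hpair : (∑ p : Fin n × Fin n, if Sym2.map (ι g) s(p.1, p.2) = s(p.1, p.2) then 1 else 0) +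
      Nat.card {x : Fin n // ι g x = x} =
      Nat.card {x : Fin n // ι g x = x} * Nat.card {x : Fin n // ι g x = x} +
        Nat.card {x : Fin n // ι (g * g) x = x} := by
    have e1 : Nat.card {x : Fin n // ι g x = x} * Nat.card {x : Fin n // ι g x = x} =
        (Finset.univ.filter fun p : Fin n × Fin n => ι g p.1 = p.1 ∧ ι g p.2 = p.2).card := by
      rw [← Nat.card_prod, Nat.card_congr (Equiv.subtypeProdEquivProd
        (p := fun x => ι g x = x) (q := fun x => ι g x = x)).symm, Nat.card_eq_fintype_card,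
        Fintype.card_subtype]
    have e2 : Nat.card {x : Fin n // ι (g * g) x = x} =
        (Finset.univ.filter fun p : Fin n × Fin n => ι g p.1 = p.2 ∧ ι g p.2 = p.1).card := by
      rw [← Fintype.card_subtype, ← Nat.card_eq_fintype_card]
      exact Nat.card_congr
        { toFun := fun x => ⟨(x.1, ι g x.1), rfl, by
            simpa [map_mul, Equiv.Perm.mul_apply] using x.2⟩
          invFun := fun p => ⟨p.1.1, by rw [map_mul, Equiv.Perm.mul_apply, p.2.1, p.2.2]⟩
          left_inv := fun x => rfl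
          right_inv := fun p => Subtype.ext (Prod.ext rfl p.2.1) }
    have e3 : Nat.card {x : Fin n // ι g x = x} =
        (Finset.univ.filter fun p : Fin n × Fin n =>
          (ι g p.1 = p.1 ∧ ι g p.2 = p.2) ∧ (ι g p.1 = p.2 ∧ ι g p.2 = p.1)).card := by
      rw [← Fintype.card_subtype, ← Nat.card_eq_fintype_card]
      exact Nat.card_congr
        { toFun := fun x => ⟨(x.1, x.1), ⟨x.2, x.2⟩, x.2, x.2⟩
          invFun := fun p => ⟨p.1.1, p.2.1.1⟩
          left_inv := fun x => rfl
          right_inv := fun p => Subtype.ext (Prod.ext rfl (p.2.1.1.symm.trans p.2.2.1)) }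
    rw [e1, e2, e3, ← Finset.card_union_add_card_inter, Finset.sum_boole, Nat.cast_id]
    congr 1
    · rw [← Finset.filter_or]
      congr 1
      refine Finset.filter_congr fun p _ => ?_
      simp [Sym2.map_mk, Prod.ext_iff]
    · rw [← Finset.filter_and]
  have h2 := key fun z => if Sym2.map (ι g) z = z then 1 else 0
  rw [hdiag, hpair, ← hfix] at h2
  have h3 := congrArg (fun t : ℕ => (t : ℂ)) h2
  push_cast at h3
  rw [sq2, ff, ff, sq, h3, mul_div_cancel_left₀ _ two_ne_zero]

/-- The three characters. -/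
noncomputable def chi1 (g : G) : ℂ := ff ι g - 1
noncomputable def chi2 (g : G) : ℂ := sq2 ι g - ff ι g - ff ι g
noncomputable def chi3 (g : G) : ℂ := ff ι g * ff ι g - sq2 ι g - ff ι g + 1

theorem conj_ff (g : G) : conj (ff ι g) = ff ι g := Complex.conj_natCast _

/-- Averages of products of fixed-point counts of an element and its square. -/
theorem moments (hι : Function.Injective ι)
    (hA : ∀ σ : Equiv.Perm (Fin n), Equiv.Perm.sign σ = 1 → ∃ g, ι g = σ) (hn : 6 ≤ n) :
    ∑ g, ff ι g = Fintype.card G ∧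
    ∑ g, ff ι g ^ 2 = 2 * Fintype.card G ∧
    ∑ g, ff ι g ^ 3 = 5 * Fintype.card G ∧
    ∑ g, ff ι g ^ 4 = 15 * Fintype.card G ∧
    ∑ g, ff ι (g * g) = 2 * Fintype.card G ∧
    ∑ g, ff ι g * ff ι (g * g) = 3 * Fintype.card G ∧
    ∑ g, ff ι g ^ 2 * ff ι (g * g) = 7 * Fintype.card G ∧
    ∑ g, ff ι (g * g) ^ 2 = 7 * Fintype.card G := by
  have key : ∀ {k : ℕ} (τ : Fin k → Fin k) (c : ℕ), k + 2 ≤ n →
      ((parts k).filter fun v => ∀ i j, v i = v j ↔ v (τ i) = v (τ j)).card = c →
      ∑ g, (cnt ι τ g : ℂ) = c * Fintype.card G := fun τ c hk hc => by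
    rw [← Nat.cast_sum, sum_cnt ι hι hA hk τ, hc, Nat.cast_mul, mul_comm]
  let o : Fin 1 → Fin 1 := id
  let t : Fin 2 → Fin 2 := ![1, 0]
  have k1 := key o 1 (by omega) (by decide)
  have k2 := key (app o o) 2 (by omega) (by decide)
  have k3 := key (app (app o o) o) 5 (by omega) (by decide)
  have k4 := key (app (app (app o o) o) o) 15 (by omega) (by decide)
  have k5 := key t 2 (by omega) (by decide)
  have k6 := key (app o t) 3 (by omega) (by decide)
  have k7 := key (app (app o o) t) 7 (by omega) (by decide)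
  have k8 := key (app t t) 7 (by omega) (by decide)
  simp only [cnt_app, Nat.cast_mul] at k2 k3 k4 k6 k7 k8
  simp only [o, t] at k1 k2 k3 k4 k5 k6 k7 k8
  simp only [← ff_eq, ← ff_sq] at k1 k2 k3 k4 k5 k6 k7 k8
  push_cast at k1 k2 k3 k4 k5 k6 k7 k8
  simp only [one_mul] at k1
  refine ⟨k1, ?_, ?_, ?_, k5, k6, ?_, ?_⟩
  · rw [← k2]; exact Finset.sum_congr rfl fun g _ => by ring
  · rw [← k3]; exact Finset.sum_congr rfl fun g _ => by ring
  · rw [← k4]; exact Finset.sum_congr rfl fun g _ => by ring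
  · rw [← k7]; exact Finset.sum_congr rfl fun g _ => by ring
  · rw [← k8]; exact Finset.sum_congr rfl fun g _ => by ring

theorem isIrr_of_norm {χ : G → ℂ} (h : IsGeneralizedCharacter G χ) (h1 : classInner χ χ = 1)
    {d : ℕ} (hd : χ 1 = d) : IsIrrCharacter G χ := by
  rcases eq_or_neg_irr_of_norm_one h h1 with ⟨ψ, hψ, rfl | rfl⟩
  · exact hψ
  · obtain ⟨m, hm, hm1⟩ := isIrrCharacter_apply_one hψ
    rw [Pi.neg_apply, hm1, neg_eq_iff_add_eq_zero, ← Nat.cast_add, Nat.cast_eq_zero] at hd
    omega

theorem irr_chars (hι : Function.Injective ι)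
    (hA : ∀ σ : Equiv.Perm (Fin n), Equiv.Perm.sign σ = 1 → ∃ g, ι g = σ) (hn : 6 ≤ n) :
    IsIrrCharacter G (chi1 ι) ∧ IsIrrCharacter G (chi2 ι) ∧ IsIrrCharacter G (chi3 ι) := by
  obtain ⟨m1, m2, m3, m4, m5, m6, m7, m8⟩ := moments ι hι hA hn
  have hff := isGeneralizedCharacter_of_isCharacter (isCharacter_ff ι)
  have hsq := isGeneralizedCharacter_of_isCharacter (isCharacter_sq2 ι)
  have hone := isGeneralizedCharacter_of_isCharacter (isCharacter_one (G := G))
  have hnG : (Fintype.card G : ℂ) ≠ 0 := Nat.cast_ne_zero.2 Fintype.card_ne_zero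
  have hin : ∀ χ : G → ℂ, (∀ g, conj (χ g) = χ g) →
      (∑ g, χ g * χ g = Fintype.card G) → classInner χ χ = 1 := by
    intro χ hc hs
    rw [classInner, Finset.sum_congr rfl (fun g _ => by rw [hc g]), hs,
      Nat.card_eq_fintype_card, inv_mul_cancel₀ hnG]
  have hone' : ∑ _g : G, (1 : ℂ) = Fintype.card G := by simp
  have hcard : Nat.card {x : Fin n // ι (1 : G) x = x} = n := by
    rw [Nat.card_congr (Equiv.subtypeUnivEquiv fun x => by simp), Nat.card_eq_fintype_card,
      Fintype.card_fin]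
  have hf1 : ff ι (1 : G) = n := by rw [ff, hcard]
  refine ⟨isIrr_of_norm (d := n - 1) (isGeneralizedCharacter_sub hff hone)
      (hin _ (fun g => by simp [chi1, conj_ff]) ?_) ?_,
    isIrr_of_norm (d := (n * n - 3 * n) / 2)
      (isGeneralizedCharacter_sub (isGeneralizedCharacter_sub hsq hff) hff)
      (hin _ (fun g => by simp [chi2, sq2, conj_ff, map_ofNat]) ?_) ?_,
    isIrr_of_norm (d := (n - 1) * (n - 2) / 2)
      (isGeneralizedCharacter_add (isGeneralizedCharacter_sub
        (isGeneralizedCharacter_sub (isGeneralizedCharacter_mul hff hff) hsq) hff) hone)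
      (hin _ (fun g => by simp [chi3, sq2, conj_ff, map_ofNat]) ?_) ?_⟩
  · calc ∑ g, chi1 ι g * chi1 ι g
        = ∑ g, (ff ι g ^ 2 - 2 * ff ι g + 1) := Finset.sum_congr rfl fun g _ => by rw [chi1]; ring
      _ = _ := by
        simp only [Finset.sum_add_distrib, Finset.sum_sub_distrib, ← Finset.mul_sum, m1, m2, hone']
        ring
  · rw [chi1, hf1, Nat.cast_sub (by omega), Nat.cast_one]
  · calc ∑ g, chi2 ι g * chi2 ι g
        = ∑ g, ((1 / 4 : ℂ) * ff ι g ^ 4 + (1 / 2 : ℂ) * (ff ι g ^ 2 * ff ι (g * g)) +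
            (1 / 4 : ℂ) * ff ι (g * g) ^ 2 - 2 * ff ι g ^ 3 - 2 * (ff ι g * ff ι (g * g)) +
            4 * ff ι g ^ 2) := Finset.sum_congr rfl fun g _ => by rw [chi2, sq2]; ring
      _ = _ := by
        simp only [Finset.sum_add_distrib, Finset.sum_sub_distrib, ← Finset.mul_sum, m2, m3, m4,
          m6, m7, m8]
        ring
  · rw [chi2, sq2, one_mul, hf1, Nat.cast_div ?_ (by norm_num), Nat.cast_sub (by nlinarith)]
    · push_cast; ring
    · rcases Nat.even_or_odd n with ⟨r, hr⟩ | ⟨r, hr⟩ <;> rw [← Nat.sub_mul] <;>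
        [exact dvd_mul_of_dvd_right ⟨r, by omega⟩ _; exact dvd_mul_of_dvd_left ⟨r - 1, by omega⟩ _]
  · calc ∑ g, chi3 ι g * chi3 ι g
        = ∑ g, ((1 / 4 : ℂ) * ff ι g ^ 4 - (1 / 2 : ℂ) * (ff ι g ^ 2 * ff ι (g * g)) +
            (1 / 4 : ℂ) * ff ι (g * g) ^ 2 - ff ι g ^ 3 + ff ι g * ff ι (g * g) +
            2 * ff ι g ^ 2 - ff ι (g * g) - 2 * ff ι g + 1) :=
          Finset.sum_congr rfl fun g _ => by rw [chi3, sq2]; ring
      _ = _ := by
        simp only [Finset.sum_add_distrib, Finset.sum_sub_distrib, ← Finset.mul_sum, m1, m2, m3,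
          m4, m5, m6, m7, m8, hone']
        ring
  · rw [chi3, sq2, one_mul, hf1, Nat.cast_div ?_ (by norm_num), Nat.cast_mul,
      Nat.cast_sub (by omega), Nat.cast_sub (by omega)]
    · push_cast; ring
    · rcases Nat.even_or_odd n with ⟨r, hr⟩ | ⟨r, hr⟩
      · exact dvd_mul_of_dvd_right ⟨r - 1, by omega⟩ _
      · exact dvd_mul_of_dvd_left ⟨r, by omega⟩ _

end Cfsg.Agent.AltSmallChars80
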