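import Mathlib

set_option autoImplicit false

namespace Cfsg.Agent.AltSpectrum

/-- A permutation of `n` points has no order divisible by `p*q` for distinct primes with `n < p + q`. -/
lemma not_dvd_orderOf_perm {n p q : ℕ} (hp : p.Prime) (hq : q.Prime) (hpq : p ≠ q) (hn : n < p + q)
    (g : Equiv.Perm (Fin n)) : ¬ p * q ∣ orderOf g := by
  intro h
  classical
  have hlcm := g.lcm_cycleType
  have hp' : p ∣ g.cycleType.lcm := hlcm ▸ (dvd_mul_right p q).trans h
  have hq' : q ∣ g.cycleType.lcm := hlcm ▸ (dvd_mul_left q p).trans h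
  have key : ∀ r : ℕ, r.Prime → r ∣ g.cycleType.lcm → ∃ c ∈ g.cycleType, r ∣ c := by
    intro r hr hd
    have : ∀ s : Multiset ℕ, r ∣ s.lcm → ∃ c ∈ s, r ∣ c := by
      intro s
      induction s using Multiset.induction with
      | empty => intro h; simp at h; exact absurd h hr.ne_one
      | cons a s ih =>
        intro h
        rw [Multiset.lcm_cons] at h
        rcases (Nat.Prime.dvd_mul hr).1 (h.trans (lcm_dvd_mul a s.lcm)) with h' | h'
        · exact ⟨a, Multiset.mem_cons_self _ _, h'⟩
        · obtain ⟨c, hc, hd⟩ := ih h'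
          exact ⟨c, Multiset.mem_cons_of_mem hc, hd⟩
    exact this _ hd
  obtain ⟨c, hc, hpc⟩ := key p hp hp'
  obtain ⟨d, hd, hqd⟩ := key q hq hq'
  have hsum : g.cycleType.sum ≤ n := by
    rw [g.sum_cycleType]
    simpa using Finset.card_le_univ g.support
  have hc0 : 0 < c := lt_of_lt_of_le (by norm_num) (Equiv.Perm.two_le_of_mem_cycleType hc)
  have hd0 : 0 < d := lt_of_lt_of_le (by norm_num) (Equiv.Perm.two_le_of_mem_cycleType hd)
  by_cases hcd : c = d
  · subst hcd
    have h1 : p * q ∣ c := ((Nat.coprime_primes hp hq).2 hpq).mul_dvd_of_dvd_of_dvd hpc hqd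
    have h2 : c ≤ g.cycleType.sum := Multiset.le_sum_of_mem hc
    have h3 := Nat.le_of_dvd hc0 h1
    have := hp.two_le; have := hq.two_le
    nlinarith
  · have hd' : d ∈ g.cycleType.erase c := (Multiset.mem_erase_of_ne (Ne.symm hcd)).2 hd
    have h1 : d ≤ (g.cycleType.erase c).sum := Multiset.le_sum_of_mem hd'
    have h2 : g.cycleType.sum = c + (g.cycleType.erase c).sum := by
      conv_lhs => rw [← Multiset.cons_erase hc, Multiset.sum_cons]
    have := Nat.le_of_dvd hc0 hpc
    have := Nat.le_of_dvd hd0 hqd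
    omega

lemma no_pq_of_isospectral {G : Type*} [Group G] {n p q : ℕ} (hp : p.Prime) (hq : q.Prime) (hpq : p ≠ q)
    (hn : n < p + q)
    (hspec : Set.range (orderOf : G → ℕ) = Set.range (orderOf : ↥(alternatingGroup (Fin n)) → ℕ))
    (g : G) : ¬ p * q ∣ orderOf g := by
  obtain ⟨a, ha⟩ := hspec ▸ Set.mem_range_self g
  rw [← ha, ← Subgroup.orderOf_coe]
  exact not_dvd_orderOf_perm hp hq hpq hn _

/-- A nontrivial fixed point of an element of order `p` on a normal `q`-subgroup gives an element of order `p*q`. -/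
lemma exists_dvd_orderOf {G : Type*} [Group G] [Finite G] {p q : ℕ} [Fact p.Prime] [Fact q.Prime] (hpq : p ≠ q)
    (N : Subgroup G) [N.Normal] (hN : IsPGroup q N) (hmod : ¬ Nat.card N ≡ 1 [MOD p]) (hp : p ∣ Nat.card G) :
    ∃ g : G, p * q ∣ orderOf g := by
  obtain ⟨x, hx⟩ := exists_prime_orderOf_dvd_card' p hp
  let Z := Subgroup.zpowers x
  letI : MulAction Z N := MulAction.compHom N ((MulAut.conjNormal : G →* MulAut N).comp Z.subtype)
  have hZ : IsPGroup p Z := IsPGroup.of_card (n := 1) (by rw [pow_one, Nat.card_zpowers, hx])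
  have hfix : ∃ y : N, y ≠ 1 ∧ (x : G) * y = y * x := by
    by_contra hno
    push Not at hno
    apply hmod
    refine (IsPGroup.card_modEq_card_fixedPoints hZ N).trans ?_
    have : MulAction.fixedPoints Z N = {1} := by
      ext y
      simp only [MulAction.mem_fixedPoints, Set.mem_singleton_iff]
      constructor
      · intro hy
        by_contra hne
        apply hno y hne
        have h1 : MulAut.conjNormal x y = y := hy ⟨x, Subgroup.mem_zpowers x⟩
        have h2 := congrArg Subtype.val h1
        rw [MulAut.conjNormal_apply] at h2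
        exact mul_inv_eq_iff_eq_mul.1 h2
      · rintro rfl z
        exact map_one (MulAut.conjNormal (z : G) : MulAut N)
    rw [this]
    simp [Nat.ModEq]
  obtain ⟨y, hy, hxy⟩ := hfix
  obtain ⟨k, hk⟩ := IsPGroup.iff_orderOf.1 hN y
  refine ⟨x * y, ?_⟩
  rw [(show Commute x (y : G) from hxy).orderOf_mul_eq_mul_orderOf_of_coprime, hx, Subgroup.orderOf_coe, hk]
  · apply Nat.mul_dvd_mul_left
    cases k with
    | zero => exact absurd (orderOf_eq_one_iff.1 (by simpa using hk)) hy
    | succ k => exact dvd_pow_self q k.succ_ne_zero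
  · rw [hx, Subgroup.orderOf_coe, hk]
    exact Nat.Coprime.pow_right k ((Nat.coprime_primes Fact.out Fact.out).2 hpq)

end Cfsg.Agent.AltSpectrum
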