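import Mathlib
import Cfsg.Agent.Lib.PGroupsBasic

/-!
# Direct decompositions of Sylow `2`-subgroups of alternating groups

Iterated wreath products of groups of order two with their sign characters, their centres, and
decompositions of products of them and of kernels of the sign.
-/

set_option autoImplicit false

namespace Cfsg.Agent.AltSylowSplit29

open Subgroup

/-- The group of order two. -/
abbrev Two : Type := Multiplicative (ZMod 2)

/-- The generator. -/
abbrev sigma : Two := Multiplicative.ofAdd 1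

theorem two_cases : ∀ q : Two, q = 1 ∨ q = sigma := by decide

theorem sigma_ne : sigma ≠ 1 := by decide

theorem sigma_mul : sigma * sigma = 1 := by decide

theorem sigma_inv : sigma⁻¹ = sigma := by decide

/-! ### Decomposability -/

/-- A group is a product of two nontrivial subgroups commuting elementwise and meeting trivially. -/
def Dec (G : Type*) [Group G] : Prop :=
  ∃ S T : Subgroup G, S ≠ ⊥ ∧ T ≠ ⊥ ∧ (∀ a ∈ S, ∀ b ∈ T, a * b = b * a) ∧ S ⊓ T = ⊥ ∧ S ⊔ T = ⊤

theorem Dec.of_mulEquiv {G H : Type*} [Group G] [Group H] (e : G ≃* H) (h : Dec G) : Dec H := by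
  obtain ⟨S, T, hS, hT, hc, hi, hs⟩ := h
  refine ⟨S.map e.toMonoidHom, T.map e.toMonoidHom, ?_, ?_, ?_, ?_, ?_⟩
  · rwa [Ne, map_eq_bot_iff_of_injective _ e.injective]
  · rwa [Ne, map_eq_bot_iff_of_injective _ e.injective]
  · rintro _ ⟨a, ha, rfl⟩ _ ⟨b, hb, rfl⟩
    rw [← map_mul, hc a ha b hb, map_mul]
  · rw [← Subgroup.map_inf _ _ _ e.injective, hi, Subgroup.map_bot]
  · rw [← Subgroup.map_sup, hs, Subgroup.map_top_of_surjective _ e.surjective]

theorem dec_iff_of_mulEquiv {G H : Type*} [Group G] [Group H] (e : G ≃* H) : Dec G ↔ Dec H :=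
  ⟨Dec.of_mulEquiv e, Dec.of_mulEquiv e.symm⟩

theorem dec_prod {G H : Type*} [Group G] [Group H] [Nontrivial G] [Nontrivial H] : Dec (G × H) := by
  refine ⟨(⊤ : Subgroup G).prod ⊥, (⊥ : Subgroup G).prod ⊤, ?_, ?_, ?_, ?_, ?_⟩
  · obtain ⟨g, hg⟩ := exists_ne (1 : G)
    intro h
    have h1 : (g, (1 : H)) ∈ (⊤ : Subgroup G).prod (⊥ : Subgroup H) := ⟨mem_top _, mem_bot.2 rfl⟩
    rw [h, mem_bot, Prod.ext_iff] at h1
    exact hg h1.1
  · obtain ⟨g, hg⟩ := exists_ne (1 : H)
    intro h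
    have h1 : ((1 : G), g) ∈ (⊥ : Subgroup G).prod (⊤ : Subgroup H) := ⟨mem_bot.2 rfl, mem_top _⟩
    rw [h, mem_bot, Prod.ext_iff] at h1
    exact hg h1.2
  · rintro ⟨a, b⟩ hab ⟨c, d⟩ hcd
    obtain rfl := mem_bot.1 hab.2
    obtain rfl := mem_bot.1 hcd.1
    simp
  · rw [eq_bot_iff]
    rintro ⟨a, b⟩ ⟨h1, h2⟩
    obtain rfl := mem_bot.1 h1.2
    obtain rfl := mem_bot.1 h2.1
    exact mem_bot.2 rfl
  · rw [eq_top_iff]
    rintro ⟨a, b⟩ -
    have : ((a, b) : G × H) = (a, 1) * (1, b) := by simp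
    rw [this]
    exact mul_mem_sup ⟨mem_top _, mem_bot.2 rfl⟩ ⟨mem_bot.2 rfl, mem_top _⟩

theorem not_dec_of_center {G : Type*} [Group G] [Finite G] (hG : IsPGroup 2 G) (z : G)
    (hz : ∀ g ∈ center G, g = 1 ∨ g = z) : ¬ Dec G := by
  rintro ⟨S, T, hS, hT, hc, hi, hs⟩
  haveI := Fact.mk Nat.prime_two
  have hn : ∀ A B : Subgroup G, (∀ a ∈ A, ∀ b ∈ B, a * b = b * a) → A ⊔ B = ⊤ → A.Normal := by
    intro A B hc hs
    refine ⟨fun a ha g => ?_⟩
    have hle : A ⊔ B ≤ Subgroup.normalizer (A : Set G) := sup_le Subgroup.le_normalizer fun b hb => by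
      rw [Subgroup.mem_normalizer_iff]
      intro x
      constructor
      · intro hx
        rwa [← hc x hx b hb, mul_inv_cancel_right]
      · intro hx
        have h := hc _ hx b hb
        rw [inv_mul_cancel_right] at h
        rwa [← mul_left_cancel h] at hx
    rw [hs] at hle
    exact (Subgroup.mem_normalizer_iff.1 (hle (mem_top g)) a).1 ha
  have hmeet : ∀ A : Subgroup G, A.Normal → A ≠ ⊥ → z ∈ A ∧ z ≠ 1 := by
    intro A hA hne
    have := hA
    obtain ⟨w, hw, hw1⟩ := (Subgroup.ne_bot_iff_exists_ne_one).1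
      (PGroupsBasic.inf_center_ne_bot hG (N := A) hne) |> fun ⟨a, ha⟩ =>
        (⟨a.1, a.2, fun h => ha (Subtype.ext h)⟩ : ∃ w, w ∈ A ⊓ center G ∧ w ≠ 1)
    rcases hz w hw.2 with h | h
    · exact absurd h hw1
    · exact ⟨h ▸ hw.1, h ▸ hw1⟩
  have h1 := hmeet S (hn S T hc hs) hS
  have h2 := hmeet T (hn T S (fun a ha b hb => (hc b hb a ha).symm) (by rw [sup_comm, hs])) hT
  have h3 : z ∈ S ⊓ T := ⟨h1.1, h2.1⟩
  rw [hi, mem_bot] at h3
  exact h1.2 h3

/-! ### One wreath step -/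

section Step

variable {V : Type*} [Group V]

/-- An element of the base group. -/
def pr (u v : V) : V ≀ᵣ Two := ⟨fun x => if x = 1 then u else v, 1⟩

/-- The swap. -/
def tau : V ≀ᵣ Two := ⟨1, sigma⟩

theorem pr_mul (u v u' v' : V) : pr u v * pr u' v' = pr (u * u') (v * v') := by
  refine RegularWreathProduct.ext (funext fun x => ?_) rfl
  rcases two_cases x with rfl | rfl <;> simp [pr]

theorem pr_one : pr (1 : V) 1 = 1 := by
  refine RegularWreathProduct.ext (funext fun x => ?_) rfl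
  simp [pr]

theorem pr_inv (u v : V) : (pr u v)⁻¹ = pr u⁻¹ v⁻¹ :=
  inv_eq_of_mul_eq_one_right (by rw [pr_mul, mul_inv_cancel, mul_inv_cancel, pr_one])

theorem pr_inj {u v u' v' : V} (h : pr u v = pr u' v') : u = u' ∧ v = v' := by
  have h1 := congrArg RegularWreathProduct.left h
  constructor
  · simpa [pr] using congrFun h1 1
  · simpa [pr, sigma_ne] using congrFun h1 sigma

theorem tau_mul_tau : (tau : V ≀ᵣ Two) * tau = 1 := by
  refine RegularWreathProduct.ext (funext fun x => ?_) sigma_mul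
  simp [tau]

theorem tau_mul_pr (u v : V) : tau * pr u v = pr v u * tau := by
  refine RegularWreathProduct.ext (funext fun x => ?_) ?_
  · rcases two_cases x with rfl | rfl <;> simp [pr, tau, sigma_ne, sigma_inv, sigma_mul]
  · simp [pr, tau]

theorem exists_form (w : V ≀ᵣ Two) : (∃ u v, w = pr u v) ∨ ∃ u v, w = pr u v * tau := by
  obtain ⟨f, q⟩ := w
  rcases two_cases q with rfl | rfl
  · refine Or.inl ⟨f 1, f sigma, RegularWreathProduct.ext (funext fun x => ?_) rfl⟩
    rcases two_cases x with rfl | rfl <;> simp [pr, sigma_ne]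
  · refine Or.inr ⟨f 1, f sigma, RegularWreathProduct.ext (funext fun x => ?_) ?_⟩
    · rcases two_cases x with rfl | rfl <;> simp [pr, tau, sigma_ne]
    · simp [pr, tau]

theorem pr_tau_comm {u v u' v' : V} (h : pr u v * tau * pr u' v' = pr u' v' * (pr u v * tau)) :
    u * v' = u' * u ∧ v * u' = v' * v := by
  rw [mul_assoc, tau_mul_pr, ← mul_assoc, ← mul_assoc, pr_mul, pr_mul] at h
  exact pr_inj (mul_right_cancel h)

variable (χ : V →* ℤˣ) {z : V}

theorem mem_center_of_ker (hz1 : z ≠ 1) (hzχ : χ z = 1) (ho : ∃ g, χ g = -1)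
    (ψ : V ≀ᵣ Two →* ℤˣ) (hψ : ∀ u v, ψ (pr u v) = χ u * χ v) (hψτ : ψ tau = 1)
    {w : V ≀ᵣ Two} (hw : ∀ x, ψ x = 1 → w * x = x * w) : ∃ u ∈ center V, w = pr u u := by
  rcases exists_form w with ⟨u, v, rfl⟩ | ⟨u, v, rfl⟩
  · have h1 := hw tau hψτ
    rw [tau_mul_pr] at h1
    obtain ⟨e1, -⟩ := pr_inj (mul_right_cancel h1)
    subst e1
    refine ⟨_, mem_center_iff.2 fun g => ?_, rfl⟩
    obtain ⟨g', hg'⟩ : ∃ g', χ g' = χ g := ⟨g, rfl⟩
    have h2 := hw (pr g g) (by rw [hψ, Int.units_mul_self])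
    rw [pr_mul, pr_mul] at h2
    exact (pr_inj h2).1.symm
  · exfalso
    have h2 := hw (pr z 1) (by rw [hψ, hzχ, map_one, mul_one])
    obtain ⟨-, e2⟩ := pr_tau_comm h2
    exact hz1 (mul_left_cancel (e2.trans (by rw [one_mul, mul_one])))

theorem center_pr {u : V} (hu : u ∈ center V) : pr u u ∈ center (V ≀ᵣ Two) := by
  rw [mem_center_iff]
  intro w
  rcases exists_form w with ⟨a, b, rfl⟩ | ⟨a, b, rfl⟩
  · rw [pr_mul, pr_mul, mem_center_iff.1 hu a, mem_center_iff.1 hu b]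
  · rw [mul_assoc, tau_mul_pr, ← mul_assoc, ← mul_assoc, pr_mul, pr_mul, mem_center_iff.1 hu a,
      mem_center_iff.1 hu b]

theorem center_step {g0 : V} (hg0 : g0 ≠ 1) {w : V ≀ᵣ Two} (hw : w ∈ center (V ≀ᵣ Two)) :
    ∃ u ∈ center V, w = pr u u := by
  rcases exists_form w with ⟨u, v, rfl⟩ | ⟨u, v, rfl⟩
  · have h1 := mem_center_iff.1 hw tau
    rw [tau_mul_pr] at h1
    obtain ⟨e1, -⟩ := pr_inj (mul_right_cancel h1)
    subst e1
    refine ⟨_, mem_center_iff.2 fun g => ?_, rfl⟩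
    have h2 := mem_center_iff.1 hw (pr g 1)
    rw [pr_mul, pr_mul] at h2
    exact (pr_inj h2).1
  · exfalso
    have h2 := (mem_center_iff.1 hw (pr g0 1)).symm
    obtain ⟨-, e2⟩ := pr_tau_comm h2
    exact hg0 (mul_left_cancel (e2.trans (by rw [one_mul, mul_one])))

/-- No wreath step is a central product. -/
theorem split_step (A B : Subgroup (V ≀ᵣ Two)) (hc : ∀ a ∈ A, ∀ b ∈ B, a * b = b * a)
    (hs : A ⊔ B = ⊤) : A ≤ center _ ∨ B ≤ center _ := by
  suffices key : ∀ A B : Subgroup (V ≀ᵣ Two), (∀ a ∈ A, ∀ b ∈ B, a * b = b * a) → A ⊔ B = ⊤ →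
      (∃ u v, pr u v * tau ∈ A) → B ≤ center _ by
    by_cases hA : ∃ u v, pr u v * tau ∈ A
    · exact Or.inr (key A B hc hs hA)
    by_cases hB : ∃ u v, pr u v * tau ∈ B
    · exact Or.inl (key B A (fun a ha b hb => (hc b hb a ha).symm) (by rw [sup_comm, hs]) hB)
    exfalso
    let rh : V ≀ᵣ Two →* Two := RegularWreathProduct.rightHom
    have hle : A ⊔ B ≤ rh.ker := by
      refine sup_le (fun a ha => ?_) (fun a ha => ?_) <;>
        rcases exists_form a with ⟨u, v, rfl⟩ | ⟨u, v, rfl⟩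
      · exact rfl
      · exact absurd ⟨u, v, ha⟩ hA
      · exact rfl
      · exact absurd ⟨u, v, ha⟩ hB
    rw [hs] at hle
    exact sigma_ne (hle (mem_top tau))
  intro A B hc hs ⟨x, y, ha⟩
  have hnorm : ∀ g : V ≀ᵣ Two, ∀ b ∈ B, g * b * g⁻¹ ∈ B := by
    intro g b hb
    have hle : A ⊔ B ≤ Subgroup.normalizer (B : Set (V ≀ᵣ Two)) :=
      sup_le (fun a ha => by
        rw [Subgroup.mem_normalizer_iff]
        intro w
        constructor
        · intro hw
          rwa [hc a ha w hw, mul_inv_cancel_right]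
        · intro hw
          have h := hc a ha _ hw
          rw [inv_mul_cancel_right] at h
          rwa [← mul_left_cancel h]) Subgroup.le_normalizer
    rw [hs] at hle
    exact (Subgroup.mem_normalizer_iff.1 (hle (mem_top g)) b).1 hb
  have hbase : ∀ u v, pr u v ∈ B → pr u v ∈ center (V ≀ᵣ Two) := by
    intro u v hb
    obtain ⟨e1, e2⟩ := pr_tau_comm (hc _ ha _ hb)
    have hu : u ∈ center V := by
      rw [mem_center_iff]
      intro g
      have hcomm : pr (g * u * g⁻¹ * u⁻¹) 1 ∈ B := by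
        have := mul_mem (hnorm (pr g 1) _ hb) (inv_mem hb)
        rwa [pr_inv, pr_mul, pr_inv, pr_mul, pr_mul, one_mul, inv_one, mul_one,
          mul_inv_cancel] at this
      obtain ⟨e3, -⟩ := pr_tau_comm (hc _ ha _ hcomm)
      rw [mul_one, right_eq_mul, mul_inv_eq_one, mul_inv_eq_iff_eq_mul] at e3
      exact e3
    have huv : v = u := by
      have h := mem_center_iff.1 hu x
      rw [← h] at e1
      exact mul_left_cancel e1
    subst huv
    exact center_pr hu
  have hab : ∀ b ∈ B, ∀ b' ∈ B, b * b' = b' * b := by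
    intro b hb b' hb'
    rcases exists_form b with ⟨u, v, rfl⟩ | ⟨u, v, rfl⟩
    · exact (mem_center_iff.1 (hbase u v hb) b').symm
    rcases exists_form b' with ⟨u', v', rfl⟩ | ⟨u', v', rfl⟩
    · exact mem_center_iff.1 (hbase u' v' hb') _
    have h1 : pr (u' * u⁻¹) (v' * v⁻¹) ∈ B := by
      have := mul_mem hb' (inv_mem hb)
      rwa [mul_inv_rev, inv_eq_of_mul_eq_one_right tau_mul_tau, pr_inv, mul_assoc, ← mul_assoc tau,
        tau_mul_tau, one_mul, pr_mul] at this
    have h2 := mem_center_iff.1 (hbase _ _ h1) (pr u v * tau)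
    have e3 : pr u' v' * tau = pr (u' * u⁻¹) (v' * v⁻¹) * (pr u v * tau) := by
      rw [← mul_assoc, pr_mul, inv_mul_cancel_right, inv_mul_cancel_right]
    rw [e3]
    calc pr u v * tau * (pr (u' * u⁻¹) (v' * v⁻¹) * (pr u v * tau))
        = pr u v * tau * pr (u' * u⁻¹) (v' * v⁻¹) * (pr u v * tau) := (mul_assoc _ _ _).symm
      _ = _ := by rw [h2]
  intro b hb
  rw [mem_center_iff]
  have hle : A ⊔ B ≤ centralizer ({b} : Set (V ≀ᵣ Two)) :=
    sup_le (fun a ha => mem_centralizer_singleton_iff.2 (hc a ha b hb))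
      (fun b' hb' => mem_centralizer_singleton_iff.2 (hab b' hb' b hb))
  rw [hs] at hle
  exact fun g => mem_centralizer_singleton_iff.1 (hle (mem_top g))

end Step

/-! ### Iterated wreath products -/

/-- The Sylow `2`-subgroup of `Sym(2^r)`. -/
abbrev W (r : ℕ) : Type := IteratedWreathProduct Two r

/-- Its sign. -/
def chi (r : ℕ) : W r →* ℤˣ := Equiv.Perm.sign.comp (iteratedWreathToPermHom Two r)

theorem chi_succ (r : ℕ) (w : W r ≀ᵣ Two) :
    chi (r + 1) w = chi r (w.left 1) * chi r (w.left sigma) *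
      Equiv.Perm.sign (Equiv.mulLeft w.right) ^ 2 ^ r := by
  letI := MulAction.compHom (Fin r → Two) (iteratedWreathToPermHom Two r)
  show Equiv.Perm.sign ((Fin.succFunEquiv Two r).symm.permCongr
    (RegularWreathProduct.toPerm (W r) Two (Fin r → Two) w)) = _
  rw [Equiv.Perm.sign_permCongr]
  have e : RegularWreathProduct.toPerm (W r) Two (Fin r → Two) w =
      Equiv.prodCongrLeft (fun x => iteratedWreathToPermHom Two r (w.left x)) *
        Equiv.prodCongrRight (fun _ => Equiv.mulLeft w.right) := by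
    ext p <;> rfl
  rw [e, map_mul, Equiv.Perm.sign_prodCongrLeft, Equiv.Perm.sign_prodCongrRight, Finset.prod_const]
  congr 1
  · rw [show (Finset.univ : Finset Two) = {1, sigma} by decide, Finset.prod_pair sigma_ne.symm]
    rfl
  · simp

theorem chi_pr {r : ℕ} (u v : W r) : chi (r + 1) (pr u v) = chi r u * chi r v := by
  refine (chi_succ r _).trans ?_
  simp [pr, sigma_ne, Equiv.mulLeft_one]

theorem chi_tau {r : ℕ} : chi (r + 1) (tau : W r ≀ᵣ Two) = if r = 0 then -1 else 1 := by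
  refine (chi_succ r _).trans ?_
  have h : Equiv.Perm.sign (Equiv.mulLeft sigma) = -1 := by decide
  rw [show ((tau : W r ≀ᵣ Two).left) = 1 from rfl, Pi.one_apply, Pi.one_apply, map_one, one_mul,
    one_mul, show ((tau : W r ≀ᵣ Two).right) = sigma from rfl, h]
  rcases r with _ | r
  · simp
  · rw [if_neg (Nat.succ_ne_zero r), pow_succ', pow_mul]
    simp

theorem isPGroup_W (r : ℕ) : IsPGroup 2 (W r) :=
  IsPGroup.of_card (n := ∑ i ∈ Finset.range r, 2 ^ i) (by
    rw [IteratedWreathProduct.card, show Nat.card Two = 2 by simp])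

/-- Basic facts for every `r ≥ 1`. -/
theorem basic (r : ℕ) : ∃ z : W (r + 1),
    z ≠ 1 ∧ z ∈ center _ ∧ (∀ w ∈ center (W (r + 1)), w = 1 ∨ w = z) ∧
      chi (r + 1) z = (if r = 0 then -1 else 1) ∧
      (∃ g, g * g = 1 ∧ chi (r + 1) g = -1) := by
  induction r with
  | zero =>
    have hW : ∀ w : W 0 ≀ᵣ Two, w = 1 ∨ w = tau := by
      intro w
      rcases two_cases w.right with h | h
      · exact Or.inl (RegularWreathProduct.ext (funext fun _ => rfl) h)
      · exact Or.inr (RegularWreathProduct.ext (funext fun _ => rfl) h)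
    have hc : (tau : W 0 ≀ᵣ Two) ∈ center (W 0 ≀ᵣ Two) := mem_center_iff.2 fun w => by
      rcases hW w with rfl | rfl
      · exact (one_mul _).trans (mul_one _).symm
      · rfl
    exact ⟨(tau : W 0 ≀ᵣ Two), fun h => sigma_ne (congrArg RegularWreathProduct.right h), hc,
      fun w _ => hW w, chi_tau, ⟨(tau : W 0 ≀ᵣ Two), tau_mul_tau, chi_tau⟩⟩
  | succ r ih =>
    obtain ⟨z, hz1, hzc, hz, hzχ, g, hg, hgχ⟩ := ih
    refine ⟨(pr z z : W (r + 1) ≀ᵣ Two), fun h => hz1 (pr_inj (h.trans pr_one.symm)).1,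
      center_pr hzc, fun w hw => ?_, ?_, ⟨(pr g 1 : W (r + 1) ≀ᵣ Two), ?_, ?_⟩⟩
    · obtain ⟨u, hu, rfl⟩ := center_step hz1 (w := (w : W (r + 1) ≀ᵣ Two)) hw
      rcases hz u hu with rfl | rfl
      · exact Or.inl pr_one
      · exact Or.inr rfl
    · rw [if_neg (Nat.succ_ne_zero r)]
      exact (chi_pr z z).trans (Int.units_mul_self _)
    · show pr g (1 : W (r + 1)) * pr g 1 = 1
      rw [pr_mul, hg, one_mul, pr_one]
    · exact (chi_pr g 1).trans (by rw [hgχ, map_one, mul_one])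

/-- What is used of a factor. -/
structure Good {V : Type*} [Group V] (χ : V →* ℤˣ) : Prop where
  center_le : ∃ z : V, z ≠ 1 ∧ χ z = 1 ∧ (∃ e, e * e = z) ∧ ∀ w ∈ center V, w = 1 ∨ w = z
  odd : ∃ g, g * g = 1 ∧ χ g = -1
  split : ∀ A B : Subgroup V, (∀ a ∈ A, ∀ b ∈ B, a * b = b * a) → A ⊔ B = ⊤ →
    A ≤ center V ∨ B ≤ center V

theorem good (r : ℕ) : Good (chi (r + 2)) := by
  obtain ⟨z, hz1, hzc, hz, hzχ, g, hg, hgχ⟩ := basic r
  obtain ⟨z', hz1', -, hz', hzχ', ho⟩ := basic (r + 1)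
  refine ⟨⟨z', hz1', by rw [hzχ', if_neg (Nat.succ_ne_zero r)],
    ⟨(pr z 1 * tau : W (r + 1) ≀ᵣ Two), ?_⟩, hz'⟩, ho, split_step⟩
  have e : (pr z 1 * tau : W (r + 1) ≀ᵣ Two) * (pr z 1 * tau) = pr z z := by
    rw [mul_assoc, ← mul_assoc tau, tau_mul_pr, mul_assoc, tau_mul_tau, mul_one, pr_mul, mul_one,
      one_mul]
  refine e.trans ?_
  rcases hz' (pr z z : W (r + 1) ≀ᵣ Two) (center_pr hzc) with h | h
  · exact absurd (pr_inj (h.trans pr_one.symm)).1 hz1
  · exact h

theorem not_dec_W (r : ℕ) : ¬ Dec (W (r + 2)) := by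
  obtain ⟨z, -, -, hz, -⟩ := basic (r + 1)
  exact not_dec_of_center (isPGroup_W _) z hz

theorem not_dec_ker (r : ℕ) : ¬ Dec (chi (r + 3)).ker := by
  obtain ⟨z, hz1, -, hz, hzχ, ho⟩ := basic (r + 1)
  rw [if_neg (Nat.succ_ne_zero r)] at hzχ
  obtain ⟨g, -, hgχ⟩ := ho
  have key : ∀ k ∈ center (chi (r + 3)).ker,
      (k.1 : W (r + 2) ≀ᵣ Two) = 1 ∨ (k.1 : W (r + 2) ≀ᵣ Two) = pr z z := by
    intro k hk
    obtain ⟨u, hu, e⟩ := mem_center_of_ker (chi (r + 2)) hz1 hzχ ⟨g, hgχ⟩ (chi (r + 3))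
      chi_pr (chi_tau.trans (if_neg (Nat.succ_ne_zero _))) (w := (k.1 : W (r + 2) ≀ᵣ Two))
      fun x hx => (congrArg Subtype.val (mem_center_iff.1 hk ⟨x, hx⟩)).symm
    rcases hz u hu with rfl | rfl
    · exact Or.inl (e.trans pr_one)
    · exact Or.inr e
  refine not_dec_of_center ((isPGroup_W _).to_subgroup _)
    ⟨(pr z z : W (r + 2) ≀ᵣ Two), (chi_pr z z).trans (Int.units_mul_self _)⟩ fun k hk => ?_
  rcases key k hk with h | h
  · exact Or.inl (Subtype.ext h)
  · exact Or.inr (Subtype.ext h)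

/-! ### Products -/

section Pi

variable {ι : Type*} [Fintype ι] [DecidableEq ι] {V : ι → Type*} [∀ i, Group (V i)]
  (χ : ∀ i, V i →* ℤˣ)

/-- The product of the signs. -/
def piChi : (∀ i, V i) →* ℤˣ := ∏ i, (χ i).comp (Pi.evalMonoidHom V i)

theorem piChi_apply (g : ∀ i, V i) : piChi χ g = ∏ i, χ i (g i) := by
  simp [piChi, MonoidHom.finsetProd_apply]

theorem piChi_single (i : ι) (x : V i) : piChi χ (Pi.mulSingle i x) = χ i x := by
  rw [piChi_apply, Finset.prod_eq_single i]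
  · rw [Pi.mulSingle_eq_same]
  · intro j _ hj
    rw [Pi.mulSingle_eq_of_ne hj, map_one]
  · intro h
    exact absurd (Finset.mem_univ i) h

theorem false_of_central (hχ : ∀ i, Good (χ i))
    (S T : Subgroup (piChi χ).ker) (hc : ∀ a ∈ S, ∀ b ∈ T, a * b = b * a) (hs : S ⊔ T = ⊤)
    (hi : S ⊓ T = ⊥) (hT : T ≠ ⊥)
    (hall : ∀ i, T.map ((Pi.evalMonoidHom V i).comp (piChi χ).ker.subtype) ≤ center (V i))
    (hsq : ∀ i (x : V i), ∃ k : (piChi χ).ker, (k * k : (piChi χ).ker).1 = Pi.mulSingle i (x * x)) :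
    False := by
  classical
  have hcp : ∀ t ∈ T, ∀ i, (t : (piChi χ).ker).1 i ∈ center (V i) := fun t ht i =>
    hall i (mem_map_of_mem _ ht)
  have hTc : T ≤ center _ := by
    intro t ht
    refine mem_center_iff.2 fun k => Subtype.ext (funext fun i => ?_)
    exact mem_center_iff.1 (hcp t ht i) _
  have hT2 : ∀ t ∈ T, t * t = 1 := fun t ht => Subtype.ext (funext fun i => by
    obtain ⟨z, -, -, ⟨e, he⟩, hz⟩ := (hχ i).center_le
    show (t : (piChi χ).ker).1 i * (t : (piChi χ).ker).1 i = 1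
    have h := mem_center_iff.1 (hcp t ht i)
    rcases hz _ (hcp t ht i) with h1 | h1
    · rw [h1, one_mul]
    · rw [h1]
      have hzc : z ∈ center (V i) := h1 ▸ hcp t ht i
      rcases hz (z * z) (mul_mem hzc hzc) with h2 | h2
      · exact h2
      · rw [mul_eq_left.1 h2, one_mul])
  have hTn : ∀ a ∈ T, ∀ g, g * a = a * g := fun a ha g => mem_center_iff.1 (hTc ha) g
  -- the central elements of each factor lie in `S`
  have hsingle : ∀ (i : ι) (w : V i), w ∈ center (V i) →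
      ∃ s ∈ S, (s : (piChi χ).ker).1 = Pi.mulSingle i w := by
    intro i w hw
    obtain ⟨z, -, -, ⟨e, he⟩, hz⟩ := (hχ i).center_le
    rcases hz w hw with rfl | rfl
    · exact ⟨1, one_mem S, (Pi.mulSingle_one i).symm⟩
    · obtain ⟨k, hk⟩ := hsq i e
      have hk' : k ∈ S ⊔ T := hs ▸ mem_top k
      haveI : T.Normal := ⟨fun a ha g => by rwa [hTn a ha g, mul_inv_cancel_right]⟩
      rw [← SetLike.mem_coe, Subgroup.mul_normal] at hk'
      obtain ⟨a, ha, b, hb, rfl⟩ := hk'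
      refine ⟨a * a, mul_mem ha ha, ?_⟩
      have e' : a * b * (a * b) = a * a := by
        rw [(show Commute a b from hc a ha b hb).symm.mul_mul_mul_comm, hT2 b hb, mul_one]
      rw [← he, ← hk]
      exact congrArg Subtype.val e'.symm
  apply hT
  rw [eq_bot_iff]
  intro t ht
  have hmem : (t : (piChi χ).ker).1 ∈ S.map (piChi χ).ker.subtype := by
    refine Subgroup.pi_mem_of_mulSingle_mem _ fun i => ?_
    obtain ⟨s, hs', e⟩ := hsingle i _ (hcp t ht i)
    exact e ▸ mem_map_of_mem _ hs'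
  obtain ⟨s, hs', e⟩ := hmem
  have : t ∈ S ⊓ T := ⟨(Subtype.ext e : s = t) ▸ hs', ht⟩
  rwa [hi] at this

/-- The kernel of the sign on a product of at least two factors does not decompose. -/
theorem not_dec_ker_pi (hχ : ∀ i, Good (χ i)) {i0 j0 : ι} (hij : i0 ≠ j0) :
    ¬ Dec (piChi χ).ker := by
  rintro ⟨S, T, hS, hT, hc, hi, hs⟩
  have hother : ∀ i : ι, ∃ j, j ≠ i := fun i => by
    by_cases h : i0 = i
    · exact ⟨j0, fun h' => hij (h.trans h'.symm)⟩
    · exact ⟨i0, h⟩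
  choose g hg hgχ using fun i => (hχ i).odd
  -- projections
  let π : ∀ i, (piChi χ).ker →* V i := fun i => (Pi.evalMonoidHom V i).comp (piChi χ).ker.subtype
  have hfix : ∀ i (x : V i), ∃ k : (piChi χ).ker, π i k = x ∧
      (k * k : (piChi χ).ker).1 = Pi.mulSingle i (x * x) := by
    intro i x
    obtain ⟨j, hj⟩ := hother i
    rcases Int.units_eq_one_or (χ i x) with h | h
    · refine ⟨⟨Pi.mulSingle i x, by rw [MonoidHom.mem_ker, piChi_single, h]⟩, ?_, ?_⟩
      · exact Pi.mulSingle_eq_same i x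
      · exact (Pi.mulSingle_mul i x x).symm
    · refine ⟨⟨Pi.mulSingle i x * Pi.mulSingle j (g j), by
        rw [MonoidHom.mem_ker, map_mul, piChi_single, piChi_single, h, hgχ]; decide⟩, ?_, ?_⟩
      · show (Pi.mulSingle i x * Pi.mulSingle j (g j) : ∀ i, V i) i = x
        rw [Pi.mul_apply, Pi.mulSingle_eq_same, Pi.mulSingle_eq_of_ne hj.symm, mul_one]
      · show (Pi.mulSingle i x * Pi.mulSingle j (g j)) * (Pi.mulSingle i x * Pi.mulSingle j (g j)) =
          Pi.mulSingle i (x * x)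
        have hcm : Commute (Pi.mulSingle i x : ∀ i, V i) (Pi.mulSingle j (g j)) :=
          Pi.mulSingle_commute hj.symm x (g j)
        rw [hcm.symm.mul_mul_mul_comm, ← Pi.mulSingle_mul, ← Pi.mulSingle_mul, hg,
          Pi.mulSingle_one, mul_one]
  have hπ : ∀ i, S.map (π i) ⊔ T.map (π i) = ⊤ := fun i => by
    rw [← Subgroup.map_sup, hs, Subgroup.map_top_of_surjective]
    exact fun x => let ⟨k, hk, _⟩ := hfix i x; ⟨k, hk⟩
  have hsplit : ∀ i, S.map (π i) ≤ center (V i) ∨ T.map (π i) ≤ center (V i) := fun i =>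
    (hχ i).split _ _ (by
      rintro _ ⟨a, ha, rfl⟩ _ ⟨b, hb, rfl⟩
      rw [← map_mul, hc a ha b hb, map_mul]) (hπ i)
  choose z hz1 hzχ hze hz using fun i => (hχ i).center_le
  have hzev : ∀ i, ∀ w ∈ center (V i), χ i w = 1 := fun i w hw => by
    rcases hz i w hw with rfl | rfl
    · exact map_one _
    · exact hzχ i
  -- some side is central everywhere
  by_cases hall : ∀ i, T.map (π i) ≤ center (V i)
  · exact false_of_central χ hχ S T hc hs hi hT hall fun i x => (hfix i x).imp fun _ h => h.2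
  by_cases hall' : ∀ i, S.map (π i) ≤ center (V i)
  · exact false_of_central χ hχ T S (fun a ha b hb => (hc b hb a ha).symm) (by rw [sup_comm, hs])
      (by rw [inf_comm, hi]) hS hall' fun i x => (hfix i x).imp fun _ h => h.2
  push Not at hall hall'
  obtain ⟨i, hi'⟩ := hall
  obtain ⟨j, hj'⟩ := hall'
  classical
  let I : Finset ι := Finset.univ.filter fun k => S.map (π k) ≤ center (V k)
  let ψ : (piChi χ).ker →* ℤˣ := ∏ k ∈ I, (χ k).comp (π k)
  have hψ : ∀ a, ψ a = ∏ k ∈ I, χ k (π k a) := fun a => by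
    simp [ψ, MonoidHom.finsetProd_apply]
  have hle : S ⊔ T ≤ ψ.ker := by
    refine sup_le (fun a ha => ?_) (fun a ha => ?_)
    · rw [MonoidHom.mem_ker, hψ]
      refine Finset.prod_eq_one fun k hk => hzev k _ ((Finset.mem_filter.1 hk).2 ?_)
      exact mem_map_of_mem _ ha
    · have htot : (∏ k ∈ I, χ k (π k a)) * ∏ k ∈ Iᶜ, χ k (π k a) = 1 := by
        rw [Finset.prod_mul_prod_compl]
        exact (piChi_apply χ _).symm.trans a.2
      have h1 : ∏ k ∈ Iᶜ, χ k (π k a) = 1 := by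
        refine Finset.prod_eq_one fun k hk => hzev k _ ?_
        have hk' : ¬ S.map (π k) ≤ center (V k) := by simpa [I] using hk
        exact ((hsplit k).resolve_left hk') (mem_map_of_mem _ ha)
      rw [MonoidHom.mem_ker, hψ]
      rwa [h1, mul_one] at htot
  have hiI : i ∈ I := Finset.mem_filter.2 ⟨Finset.mem_univ i, (hsplit i).resolve_right hi'⟩
  have hjI : j ∉ I := fun h => hj' (Finset.mem_filter.1 h).2
  have hne : i ≠ j := fun h => hjI (h ▸ hiI)
  let k : (piChi χ).ker := ⟨Pi.mulSingle i (g i) * Pi.mulSingle j (g j), by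
    rw [MonoidHom.mem_ker, map_mul, piChi_single, piChi_single, hgχ, hgχ]; decide⟩
  have hk : ψ k = 1 := hle (hs ▸ mem_top k)
  rw [hψ, Finset.prod_eq_single i] at hk
  · have e : π i k = g i := by
      show (Pi.mulSingle i (g i) * Pi.mulSingle j (g j) : ∀ i, V i) i = g i
      rw [Pi.mul_apply, Pi.mulSingle_eq_same, Pi.mulSingle_eq_of_ne hne, mul_one]
    rw [e, hgχ] at hk
    exact absurd hk (by decide)
  · intro l hl hli
    have e : π l k = 1 := by
      show (Pi.mulSingle i (g i) * Pi.mulSingle j (g j) : ∀ i, V i) l = 1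
      rw [Pi.mul_apply, Pi.mulSingle_eq_of_ne hli,
        Pi.mulSingle_eq_of_ne (fun h : l = j => hjI (h ▸ hl)), mul_one]
    rw [e, map_one]
  · exact fun h => absurd hiI h

end Pi

end Cfsg.Agent.AltSylowSplit29
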