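import Mathlib

set_option autoImplicit false
set_option maxRecDepth 100000

/-! The element orders of the alternating group of degree 10. -/

namespace Cfsg.Agent.AltTenSpectrum

/-- Maximal element orders. -/
def tops : List ℕ := [21, 9, 15, 8, 10, 12]

/-- Possible pairs (lcm, parity) of multisets of at most `fuel` numbers `≥ 2` with sum `≤ b`. -/
def reach : ℕ → ℕ → List (ℕ × ℕ)
  | 0, _ => [(1, 0)]
  | fuel + 1, b => (1, 0) :: (List.range (b + 1)).flatMap fun c =>
      if 2 ≤ c then (reach fuel (b - c)).map fun e => (Nat.lcm c e.1, (c + 1 + e.2) % 2) else []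

lemma mem_reach (s : Multiset ℕ) : ∀ fuel b, (∀ x ∈ s, 2 ≤ x) → s.card ≤ fuel → s.sum ≤ b →
    (s.lcm, (s.sum + s.card) % 2) ∈ reach fuel b := by
  induction s using Multiset.induction with
  | empty => intro fuel b _ _ _; cases fuel <;> simp [reach]
  | cons a t ih =>
    intro fuel b h2 hc hb
    rw [Multiset.card_cons] at hc
    rw [Multiset.sum_cons] at hb
    obtain ⟨f', rfl⟩ : ∃ f', fuel = f' + 1 := ⟨fuel - 1, by omega⟩
    have := ih f' (b - a) (fun x hx => h2 x (Multiset.mem_cons_of_mem hx)) (by omega) (by omega)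
    simp only [reach, List.mem_cons, List.mem_flatMap, List.mem_range]
    refine Or.inr ⟨a, by omega, ?_⟩
    rw [if_pos (h2 a (Multiset.mem_cons_self _ _))]
    refine List.mem_map.mpr ⟨_, this, Prod.ext ?_ ?_⟩
    · rw [Multiset.lcm_cons]; rfl
    · simp only [Multiset.sum_cons, Multiset.card_cons]; omega

theorem reach_check : ∀ e ∈ reach 5 10, e.2 = 0 → ∃ m ∈ tops, e.1 ∣ m := by decide +kernel

theorem alt_ten_cases (g : alternatingGroup (Fin 10)) : ∃ m ∈ tops, g ^ m = 1 := by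
  classical
  have hs := (Equiv.Perm.sign_of_cycleType g.1).symm.trans (Equiv.Perm.mem_alternatingGroup.mp g.2)
  have hev : Even (g.1.cycleType.sum + g.1.cycleType.card) :=
    (neg_one_pow_eq_one_iff_even (by decide : (-1 : ℤˣ) ≠ 1)).mp hs
  have hsum : g.1.cycleType.sum ≤ 10 := by
    rw [g.1.sum_cycleType]
    simpa using Finset.card_le_univ g.1.support
  have h2 : ∀ x ∈ g.1.cycleType, 2 ≤ x := fun x hx => Equiv.Perm.two_le_of_mem_cycleType hx
  have hcard : g.1.cycleType.card ≤ 5 := by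
    have := Multiset.card_nsmul_le_sum (s := g.1.cycleType) (a := 2) h2
    rw [smul_eq_mul] at this
    omega
  obtain ⟨m, hm, hd⟩ := reach_check _ (mem_reach g.1.cycleType 5 10 h2 hcard hsum) (Nat.even_iff.mp hev)
  refine ⟨m, hm, Subtype.ext ?_⟩
  rw [SubgroupClass.coe_pow, OneMemClass.coe_one, ← orderOf_dvd_iff_pow_eq_one, ← g.1.lcm_cycleType]
  exact hd

theorem alt_ten_witness : ∀ m ∈ tops, ∃ g : alternatingGroup (Fin 10), orderOf g = m := by
  have key : ∀ m ∈ tops, ∀ g : Equiv.Perm (Fin 10), Equiv.Perm.sign g = 1 →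
      (g ^ m = 1 ∧ ∀ j < m, 0 < j → g ^ j ≠ 1) → ∃ g : alternatingGroup (Fin 10), orderOf g = m := by
    intro m hm g hg h
    refine ⟨⟨g, Equiv.Perm.mem_alternatingGroup.mpr hg⟩, ?_⟩
    rw [← Subgroup.orderOf_coe, orderOf_eq_iff (by fin_cases hm <;> omega)]
    exact h
  intro m hm
  fin_cases hm
  · exact key 21 (by decide) ([0, 1, 2, 3, 4, 5, 6].formPerm * [7, 8, 9].formPerm) (by decide +kernel) (by decide +kernel)
  · exact key 9 (by decide) ([0, 1, 2, 3, 4, 5, 6, 7, 8].formPerm) (by decide +kernel) (by decide +kernel)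
  · exact key 15 (by decide) ([0, 1, 2, 3, 4].formPerm * [5, 6, 7].formPerm) (by decide +kernel) (by decide +kernel)
  · exact key 8 (by decide) ([0, 1, 2, 3, 4, 5, 6, 7].formPerm * [8, 9].formPerm) (by decide +kernel) (by decide +kernel)
  · exact key 10 (by decide) ([0, 1, 2, 3, 4].formPerm * [5, 6].formPerm * [7, 8].formPerm) (by decide +kernel) (by decide +kernel)
  · exact key 12 (by decide) ([0, 1, 2, 3].formPerm * [4, 5, 6].formPerm * [7, 8].formPerm) (by decide +kernel) (by decide +kernel)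

lemma range_of_tops {G : Type*} [Group G] (h1 : ∀ g : G, ∃ m ∈ tops, g ^ m = 1)
    (h2 : ∀ m ∈ tops, ∃ g : G, orderOf g = m) :
    Set.range (orderOf : G → ℕ) = {n | ∃ m ∈ tops, n ∣ m} := by
  ext n
  constructor
  · rintro ⟨g, rfl⟩
    obtain ⟨m, hm, hg⟩ := h1 g
    exact ⟨m, hm, orderOf_dvd_of_pow_eq_one hg⟩
  · rintro ⟨m, hm, hn⟩
    obtain ⟨g, hg⟩ := h2 m hm
    refine ⟨g ^ (orderOf g / n), orderOf_pow_orderOf_div ?_ (hg ▸ hn)⟩
    rw [hg]; fin_cases hm <;> omega

theorem range_alt_ten : Set.range (orderOf : alternatingGroup (Fin 10) → ℕ) = {n | ∃ m ∈ tops, n ∣ m} :=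
  range_of_tops alt_ten_cases alt_ten_witness

end Cfsg.Agent.AltTenSpectrum
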