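import Cfsg.Agent.Lib.AltTenData
import Cfsg.Agent.Lib.AltTenSpectrum

set_option autoImplicit false
set_option maxRecDepth 100000

/-! Groups `((7^4)^k × W) ⋊ 2.S5` with the element orders of `A_10`. -/

namespace Cfsg.Agent.AltTenModule

open Matrix AltTenData

/-- The generators as units. -/
def unitA : GL (Fin 4) (ZMod 7) := Units.ofPowEqOne (mat genA) (ord genA) (mat_pow_ord _) (by decide +kernel)

/-- The generators as units. -/
def unitB : GL (Fin 4) (ZMod 7) := Units.ofPowEqOne (mat genB) (ord genB) (mat_pow_ord _) (by decide +kernel)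

/-- The group of order 240. -/
def comp : Subgroup (GL (Fin 4) (ZMod 7)) := Subgroup.closure {unitA, unitB}

/-- The underlying matrix. -/
def coeM : comp →* Matrix (Fin 4) (Fin 4) (ZMod 7) := (Units.coeHom _).comp comp.subtype

lemma coeM_injective : Function.Injective coeM := fun _ _ h => Subtype.ext (Units.ext h)

lemma exists_index (g : comp) : ∃ i, coeM g = mat i := by
  obtain ⟨g, hg⟩ := g
  show ∃ i, ((g : GL (Fin 4) (ZMod 7)) : Matrix (Fin 4) (Fin 4) (ZMod 7)) = mat i
  have hpow : ∀ (x : GL (Fin 4) (ZMod 7)) (nx : Fin 240 → Fin 240),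
      (∀ i, mat i * (x : Matrix (Fin 4) (Fin 4) (ZMod 7)) = mat (nx i)) →
      ∀ (k : ℕ) i, mat i * ((x ^ k : GL (Fin 4) (ZMod 7)) : Matrix (Fin 4) (Fin 4) (ZMod 7)) = mat (nx^[k] i) := by
    intro x nx hx k
    induction k with
    | zero => intro i; simp
    | succ k ih =>
      intro i
      rw [pow_succ', Units.val_mul, ← mul_assoc, hx, ih, Function.iterate_succ_apply]
  have hfin : ∀ x : GL (Fin 4) (ZMod 7), x⁻¹ = x ^ (orderOf x - 1) := fun x => by
    refine inv_eq_of_mul_eq_one_right ?_
    rw [← pow_succ', Nat.sub_add_cancel (orderOf_pos x), pow_orderOf_eq_one]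
  induction hg using Subgroup.closure_induction_right with
  | one => exact ⟨0, mat_zero.symm⟩
  | mul_right x y _ hy ih =>
    obtain ⟨i, hi⟩ := ih
    rcases hy with rfl | rfl
    · exact ⟨nextA i, by rw [Units.val_mul, hi]; exact mat_nextA i⟩
    · exact ⟨nextB i, by rw [Units.val_mul, hi]; exact mat_nextB i⟩
  | mul_inv_cancel x y _ hy ih =>
    obtain ⟨i, hi⟩ := ih
    rcases hy with rfl | rfl
    · exact ⟨nextA^[orderOf unitA - 1] i, by rw [Units.val_mul, hi, hfin]; exact hpow _ _ mat_nextA _ i⟩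
    · exact ⟨nextB^[orderOf unitB - 1] i, by rw [Units.val_mul, hi, hfin]; exact hpow _ _ mat_nextB _ i⟩

lemma exists_of_index : ∀ i, ∃ g : comp, coeM g = mat i := by
  have hclosed : ∀ i, (∃ g : comp, coeM g = mat i) →
      (∃ g : comp, coeM g = mat (nextA i)) ∧ (∃ g : comp, coeM g = mat (nextB i)) := by
    rintro i ⟨g, hg⟩
    refine ⟨⟨g * ⟨unitA, Subgroup.subset_closure (by simp)⟩, ?_⟩, ⟨g * ⟨unitB, Subgroup.subset_closure (by simp)⟩, ?_⟩⟩
    · rw [map_mul, hg]; exact mat_nextA i
    · rw [map_mul, hg]; exact mat_nextB i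
  have hreach : ∀ i : Fin 240, i ≠ 0 → ∃ j : Fin 240, j < i ∧ (nextA j = i ∨ nextB j = i) := by decide +kernel
  intro i
  induction i using WellFoundedLT.induction with
  | ind i ih =>
    by_cases hi : i = 0
    · exact ⟨1, by rw [map_one, hi, mat_zero]⟩
    obtain ⟨j, hj, e | e⟩ := hreach i hi
    · exact e ▸ (hclosed j (ih j hj)).1
    · exact e ▸ (hclosed j (ih j hj)).2

theorem minus_one_index : mat (wit.getD 2 (0, 0)).1 ^ 4 = -1 := by decide +kernel

lemma exists_z : ∃ z : comp, coeM z = -1 := by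
  obtain ⟨g, hg⟩ := exists_of_index (wit.getD 2 (0, 0)).1
  exact ⟨g ^ 4, by rw [map_pow, hg, minus_one_index]⟩

/-- The central involution. -/
noncomputable def zz : comp := exists_z.choose

lemma zz_coe : coeM zz = -1 := exists_z.choose_spec

lemma zz_central (g : comp) : zz * g = g * zz := coeM_injective (by simp [zz_coe])

lemma zz_sq : zz * zz = 1 := coeM_injective (by simp [zz_coe])

lemma zz_ne_one : zz ≠ 1 := fun h => by
  have h1 : (-1 : Matrix (Fin 4) (Fin 4) (ZMod 7)) = 1 := by rw [← zz_coe, h, map_one]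
  exact absurd h1 (by decide +kernel)

lemma comp_cases (g : comp) : g = 1 ∨ ∃ o ∈ [2, 3, 4, 5, 6, 8, 10, 12], g ^ o = 1 ∧
    (2 ∣ o → g ^ (o / 2) = zz) ∧
    ∃ f : Matrix (Fin 4) (Fin 4) (ZMod 7), f * (1 - coeM g) = 1 := by
  obtain ⟨i, hi⟩ := exists_index g
  by_cases h0 : i = 0
  · exact Or.inl (coeM_injective (by rw [hi, h0, mat_zero, map_one]))
  have h1 : ord i ≠ 1 := fun h => by
    have h2 := mat_pow_ord i
    rw [h, pow_one] at h2
    have h3 := fix_mul i h0
    rw [h2, sub_self, zero_mul] at h3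
    exact absurd h3 (by decide +kernel)
  refine Or.inr ⟨ord i, ?_, coeM_injective (by rw [map_pow, hi, mat_pow_ord, map_one]),
    fun h2 => coeM_injective (by rw [map_pow, hi, mat_pow_half i h2, zz_coe]), fix i, ?_⟩
  · have := ord_mem i
    simp only [List.mem_cons, List.not_mem_nil, or_false] at this ⊢
    omega
  · rw [hi]; exact mul_eq_one_comm.mp (fix_mul i h0)

lemma exists_orderOf {n : ℕ} (hn : n ∈ [3, 5, 8, 10, 12]) : ∃ g : comp, orderOf g = n := by
  obtain ⟨w, hw, rfl⟩ : ∃ w ∈ wit, w.2 = n := by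
    simp only [List.mem_cons, List.not_mem_nil, or_false] at hn
    rcases hn with rfl | rfl | rfl | rfl | rfl <;> decide +kernel
  obtain ⟨g, hg⟩ := exists_of_index w.1
  obtain ⟨ho, hne⟩ := wit_spec w hw
  refine ⟨g, (orderOf_eq_iff (by simp only [List.mem_cons, List.not_mem_nil, or_false] at hn; omega)).mpr ⟨?_, fun m hm hm0 h => hne m hm hm0 ?_⟩⟩
  · exact coeM_injective (by rw [map_pow, hg, ← ho, mat_pow_ord, map_one])
  · rw [← hg, ← map_pow, h, map_one]

/-- Odd functions on the complement with values in `ZMod 3`. -/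
noncomputable def oddFun : AddSubgroup (comp → ZMod 3) where
  carrier := {f | ∀ y, f (y * zz) = -f y}
  zero_mem' := by simp
  add_mem' := by
    intro a b ha hb y
    simp only [Pi.add_apply, ha y, hb y]; ring
  neg_mem' := by
    intro a ha y
    simp only [Pi.neg_apply, ha y]

variable (k : ℕ)

/-- The normal subgroup. -/
abbrev Mod' : Type := (Fin k → Fin 4 → ZMod 7) × oddFun

/-- The action. -/
noncomputable def trans (g : comp) : Mod' k →+ Mod' k where
  toFun m := (fun j => coeM g *ᵥ m.1 j,
    ⟨fun y => m.2.1 (y * g), fun y => by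
      show m.2.1 (y * zz * g) = -m.2.1 (y * g)
      rw [mul_assoc, zz_central, ← mul_assoc, m.2.2]⟩)
  map_zero' := by ext <;> simp
  map_add' a b := by
    refine Prod.ext (funext fun j => ?_) (Subtype.ext rfl)
    exact Matrix.mulVec_add (coeM g) (a.1 j) (b.1 j)

lemma trans_one (m : Mod' k) : trans k 1 m = m :=
  Prod.ext (funext fun j => (congrArg (· *ᵥ m.1 j) (map_one coeM)).trans (Matrix.one_mulVec _)) (Subtype.ext (funext fun y => congrArg m.2.1 (mul_one y)))

lemma trans_mul (g h : comp) (m : Mod' k) : trans k (g * h) m = trans k g (trans k h m) :=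
  Prod.ext (funext fun j => (congrArg (· *ᵥ m.1 j) (map_mul coeM g h)).trans (Matrix.mulVec_mulVec _ _ _).symm)
    (Subtype.ext (funext fun y => congrArg m.2.1 (mul_assoc y g h).symm))

/-- The action by automorphisms. -/
noncomputable def act : comp →* MulAut (Multiplicative (Mod' k)) where
  toFun g :=
    { toFun := fun v => Multiplicative.ofAdd (trans k g v.toAdd)
      invFun := fun v => Multiplicative.ofAdd (trans k g⁻¹ v.toAdd)
      left_inv := fun v => by simp [← trans_mul, trans_one]
      right_inv := fun v => by simp [← trans_mul, trans_one]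
      map_mul' := fun v w => by simp }
  map_one' := MulEquiv.ext fun v => congrArg Multiplicative.ofAdd (trans_one k v.toAdd)
  map_mul' g h := MulEquiv.ext fun v => congrArg Multiplicative.ofAdd (trans_mul k g h v.toAdd)

/-- The group. -/
abbrev Big : Type := Multiplicative (Mod' k) ⋊[act k] comp

variable {k}

lemma pow_left (x : Big k) (n : ℕ) :
    (x ^ n).left.toAdd = ∑ i ∈ Finset.range n, trans k (x.right ^ i) x.left.toAdd ∧ (x ^ n).right = x.right ^ n := by
  induction n with
  | zero => simp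
  | succ n ih =>
    rw [pow_succ, SemidirectProduct.mul_left, SemidirectProduct.mul_right, ih.2, toAdd_mul, ih.1,
      Finset.sum_range_succ, ← pow_succ]
    exact ⟨rfl, rfl⟩

lemma seven_smul (m : Mod' k) : 21 • m = 0 := by
  refine Prod.ext (funext fun j => funext fun i => ?_) (Subtype.ext (funext fun y => ?_))
  · show 21 • m.1 j i = 0
    rw [nsmul_eq_mul, show ((21 : ℕ) : ZMod 7) = 0 from by decide, zero_mul]
  · show 21 • m.2.1 y = 0
    rw [nsmul_eq_mul, show ((21 : ℕ) : ZMod 3) = 0 from by decide, zero_mul]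

lemma three_smul_snd (m : oddFun) : 3 • m = 0 := Subtype.ext (funext fun y => by
  show 3 • m.1 y = 0
  rw [nsmul_eq_mul, show ((3 : ℕ) : ZMod 3) = 0 from by decide, zero_mul])

lemma big_cases (x : Big k) : ∃ m ∈ AltTenSpectrum.tops, x ^ m = 1 := by
  rcases comp_cases x.right with hg | ⟨o, ho, hgo, hhalf, f, hf⟩
  · refine ⟨21, by decide, SemidirectProduct.ext (Multiplicative.toAdd.injective ?_) ?_⟩
    · rw [(pow_left x 21).1, hg]
      simp [trans_one, seven_smul]
    · rw [(pow_left x 21).2, hg, one_pow]; rfl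
  have hfst : ((x ^ o).left.toAdd).1 = 0 := by
    rw [(pow_left x o).1, Prod.fst_sum]
    funext j
    rw [Finset.sum_apply]
    show ∑ i ∈ Finset.range o, coeM (x.right ^ i) *ᵥ x.left.toAdd.1 j = 0
    rw [← Matrix.sum_mulVec]
    set M := coeM x.right with hM
    have hs : ∑ i ∈ Finset.range o, coeM (x.right ^ i) = ∑ i ∈ Finset.range o, M ^ i :=
      Finset.sum_congr rfl fun i _ => map_pow coeM _ i
    have hMo : M ^ o = 1 := by rw [hM, ← map_pow, hgo, map_one]
    have h0 : (1 - M) * ∑ i ∈ Finset.range o, M ^ i = 0 := by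
      rw [mul_neg_geom_sum, hMo, sub_self]
    have h1 := congrArg (f * ·) h0
    simp only [← mul_assoc, hf, one_mul, mul_zero] at h1
    rw [hs, h1, Matrix.zero_mulVec]
  have hsnd : 2 ∣ o → ((x ^ o).left.toAdd).2 = 0 := by
    intro h2
    obtain ⟨r, rfl⟩ := h2
    have hz := hhalf (dvd_mul_right 2 r)
    rw [Nat.mul_div_cancel_left _ two_pos] at hz
    rw [(pow_left x (2 * r)).1, Prod.snd_sum]
    refine Subtype.ext (funext fun y => ?_)
    rw [AddSubmonoidClass.coe_finset_sum, Finset.sum_apply, two_mul, Finset.sum_range_add]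
    show (∑ i ∈ Finset.range r, x.left.toAdd.2.1 (y * x.right ^ i)) +
      ∑ i ∈ Finset.range r, x.left.toAdd.2.1 (y * x.right ^ (r + i)) = 0
    rw [← Finset.sum_add_distrib]
    refine Finset.sum_eq_zero fun i _ => ?_
    rw [add_comm r i, pow_add, hz, ← mul_assoc, x.left.toAdd.2.2, add_neg_cancel]
  have hright : (x ^ o).right = 1 := (pow_left x o).2.trans hgo
  by_cases h2 : 2 ∣ o
  · have hxo : x ^ o = 1 := SemidirectProduct.ext
      (Multiplicative.toAdd.injective (Prod.ext hfst (hsnd h2))) hright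
    have htop : ∀ t ∈ ([2, 3, 4, 5, 6, 8, 10, 12] : List ℕ), 2 ∣ t → ∃ m ∈ AltTenSpectrum.tops, t ∣ m := by decide
    obtain ⟨m, hm, c, rfl⟩ := htop o ho h2
    exact ⟨o * c, hm, by rw [pow_mul, hxo, one_pow]⟩
  · have hx3 : x ^ (o * 3) = 1 := by
      rw [pow_mul]
      have he : x ^ o = SemidirectProduct.inl (x ^ o).left := SemidirectProduct.ext rfl hright
      rw [he, ← map_pow]
      have : (x ^ o).left ^ 3 = 1 := by
        apply Multiplicative.toAdd.injective
        rw [toAdd_pow]
        exact Prod.ext (by rw [Prod.smul_fst, hfst, smul_zero]; rfl) (three_smul_snd _)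
      rw [this, map_one]
    have htop : ∀ t ∈ ([2, 3, 4, 5, 6, 8, 10, 12] : List ℕ), ¬ 2 ∣ t → ∃ m ∈ AltTenSpectrum.tops, t * 3 = m := by decide
    obtain ⟨m, hm, rfl⟩ := htop o ho h2
    exact ⟨_, hm, hx3⟩

/-- The odd indicator function of `1`. -/
noncomputable def delta : oddFun :=
  letI := Classical.decEq comp
  ⟨fun y => if y = 1 then 1 else if y = zz then -1 else 0, fun y => by
    have hzz : zz * zz = 1 := zz_sq
    by_cases h1 : y = 1
    · subst h1; simp [zz_ne_one]
    by_cases h2 : y = zz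
    · subst h2; simp [hzz, zz_ne_one]
    have h3 : y * zz ≠ 1 := fun h => h2 (mul_right_cancel (h.trans hzz.symm))
    have h4 : y * zz ≠ zz := fun h => h1 (mul_eq_right.mp h)
    simp [h1, h2, h3, h4]⟩

lemma big_witness (hk : 0 < k) : ∀ m ∈ AltTenSpectrum.tops, ∃ x : Big k, orderOf x = m := by
  haveI := Classical.decEq comp
  have hinr : ∀ g : comp, orderOf (SemidirectProduct.inr g : Big k) = orderOf g :=
    orderOf_injective _ SemidirectProduct.inr_injective
  have hodd : ∀ o ∈ [3, 5], ∃ x : Big k, orderOf x = o * 3 := by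
    intro o ho
    obtain ⟨g, hg⟩ := exists_orderOf (n := o) (by simp only [List.mem_cons, List.not_mem_nil, or_false] at ho ⊢; omega)
    have ho1 : 1 < o ∧ ¬ 2 ∣ o ∧ o.Prime := by
      simp only [List.mem_cons, List.not_mem_nil, or_false] at ho
      rcases ho with rfl | rfl <;> norm_num
    let x : Big k := ⟨Multiplicative.ofAdd (0, delta), g⟩
    have hx3o : x ^ (o * 3) = 1 := by
      obtain ⟨m, hm, h⟩ := big_cases x
      have h1 : o ∣ m := by
        rw [← hg]
        refine orderOf_dvd_of_pow_eq_one ?_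
        show x.right ^ m = 1
        rw [← (pow_left x m).2, h]; rfl
      rcases comp_cases g with e | ⟨o', ho', hgo', -, f, hf⟩
      · rw [e, orderOf_one] at hg; omega
      have hoo : o ∣ o' := hg ▸ orderOf_dvd_of_pow_eq_one hgo'
      rw [pow_mul]
      have hfst : ((x ^ o).left.toAdd).1 = 0 := by
        rw [(pow_left x o).1, Prod.fst_sum]
        exact Finset.sum_eq_zero fun i _ => funext fun j => Matrix.mulVec_zero (coeM (x.right ^ i))
      have he : x ^ o = SemidirectProduct.inl (x ^ o).left :=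
        SemidirectProduct.ext rfl ((pow_left x o).2.trans (hg ▸ pow_orderOf_eq_one g))
      rw [he, ← map_pow]
      have : (x ^ o).left ^ 3 = 1 := by
        apply Multiplicative.toAdd.injective
        rw [toAdd_pow]
        exact Prod.ext (by rw [Prod.smul_fst, hfst, smul_zero]; rfl) (three_smul_snd _)
      rw [this, map_one]
    have hxo : x ^ o ≠ 1 := by
      intro h
      have h1 := congrArg (fun w : Big k => w.left.toAdd.2.1 1) h
      simp only [(pow_left x o).1, Prod.snd_sum, AddSubmonoidClass.coe_finset_sum, Finset.sum_apply] at h1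
      rw [Finset.sum_eq_single_of_mem 0 (Finset.mem_range.mpr (by omega))] at h1
      · simp [x, trans, delta] at h1
      · intro i hi hi0
        have hne1 : g ^ i ≠ 1 := pow_ne_one_of_lt_orderOf hi0 (hg ▸ Finset.mem_range.mp hi)
        have hnez : g ^ i ≠ zz := fun e => by
          have h5 : (g ^ i) ^ o = 1 := by rw [← pow_mul, mul_comm, pow_mul, ← hg, pow_orderOf_eq_one, one_pow]
          rw [e] at h5
          have h6 : zz ^ 2 = 1 := by rw [pow_two, zz_sq]
          obtain ⟨r, hr⟩ := (Nat.odd_iff.mpr (by omega : o % 2 = 1))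
          rw [hr, pow_succ, pow_mul, h6, one_pow, one_mul] at h5
          exact zz_ne_one h5
        show delta.1 (1 * g ^ i) = 0
        simp [delta, hne1, hnez]
    have hdiv : o ∣ orderOf x := by
      rw [← hg]
      exact orderOf_dvd_of_pow_eq_one (by show x.right ^ _ = 1; rw [← (pow_left x _).2, pow_orderOf_eq_one]; rfl)
    refine ⟨x, ?_⟩
    obtain ⟨c, hc⟩ := hdiv
    have hc3 : c ∣ 3 := Nat.dvd_of_mul_dvd_mul_left (by omega) (hc ▸ orderOf_dvd_of_pow_eq_one hx3o)
    rcases Nat.prime_three.eq_one_or_self_of_dvd c hc3 with rfl | rfl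
    · exact absurd (by rw [← pow_orderOf_eq_one x, hc, mul_one]) hxo
    · exact hc
  intro m hm
  simp only [AltTenSpectrum.tops, List.mem_cons, List.not_mem_nil, or_false] at hm
  rcases hm with rfl | rfl | rfl | rfl | rfl | rfl
  · refine ⟨SemidirectProduct.inl (Multiplicative.ofAdd (fun _ _ => 1, delta)), ?_⟩
    rw [orderOf_injective _ SemidirectProduct.inl_injective, orderOf_ofAdd_eq_addOrderOf, Prod.addOrderOf]
    haveI : Fact (Nat.Prime 3) := ⟨Nat.prime_three⟩
    haveI : Fact (Nat.Prime 7) := ⟨by norm_num⟩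
    rw [addOrderOf_eq_prime (p := 7), addOrderOf_eq_prime (p := 3)]
    · norm_num
    · exact three_smul_snd _
    · intro h
      have := congrArg (fun f : oddFun => f.1 1) h
      simp [delta] at this
    · funext j i
      exact ((nsmul_eq_mul _ _).trans (by rw [mul_one]; exact ZMod.natCast_self 7) : (7 : ℕ) • (1 : ZMod 7) = 0)
    · intro h
      have := congrFun (congrFun h ⟨0, hk⟩) 0
      simp at this
  · exact hodd 3 (by simp)
  · exact hodd 5 (by simp)
  · obtain ⟨g, hg⟩ := exists_orderOf (n := 8) (by simp)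
    exact ⟨SemidirectProduct.inr g, (hinr g).trans hg⟩
  · obtain ⟨g, hg⟩ := exists_orderOf (n := 10) (by simp)
    exact ⟨SemidirectProduct.inr g, (hinr g).trans hg⟩
  · obtain ⟨g, hg⟩ := exists_orderOf (n := 12) (by simp)
    exact ⟨SemidirectProduct.inr g, (hinr g).trans hg⟩

theorem exists_large (N : ℕ) :
    ∃ (H : Type) (_ : Group H) (_ : Fintype H), N < Fintype.card H ∧
      Set.range (orderOf : H → ℕ) = Set.range (orderOf : alternatingGroup (Fin 10) → ℕ) := by
  classical
  haveI : Fintype comp := Fintype.ofFinite _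
  haveI : Finite (Big (N + 1)) := Finite.of_equiv _ SemidirectProduct.equivProd.symm
  refine ⟨Big (N + 1), inferInstance, Fintype.ofFinite _, ?_, ?_⟩
  · rw [← @Nat.card_eq_fintype_card _ (Fintype.ofFinite _)]
    have h1 := Nat.card_le_card_of_injective
      (fun v : Fin (N + 1) → Fin 4 → ZMod 7 => (SemidirectProduct.inl (Multiplicative.ofAdd (v, 0)) : Big (N + 1)))
      (fun v w h => congrArg Prod.fst (Multiplicative.ofAdd.injective (SemidirectProduct.inl_injective h)))
    have h2 : N + 1 < (7 ^ 4) ^ (N + 1) := Nat.lt_pow_self (by norm_num)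
    have h3 : Nat.card (Fin (N + 1) → Fin 4 → ZMod 7) = (7 ^ 4) ^ (N + 1) := by
      rw [Nat.card_fun, Nat.card_fun, Nat.card_zmod, Nat.card_fin, Nat.card_fin]
    rw [h3] at h1
    calc N < N + 1 := Nat.lt_succ_self N
      _ < (7 ^ 4) ^ (N + 1) := h2
      _ ≤ _ := h1
  · rw [AltTenSpectrum.range_alt_ten]
    exact AltTenSpectrum.range_of_tops big_cases (big_witness (Nat.succ_pos N))

end Cfsg.Agent.AltTenModule
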