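import Mathlib

/-!
A group with a normal elementary abelian subgroup of order nine which is its own centralizer and
the full linear group on it: coordinates in the affine group of the plane over the field of three
elements.
-/

set_option autoImplicit false

namespace Cfsg.Agent.AmalgamThree19

/-- Vectors of the plane. -/
abbrev Vec : Type := ZMod 3 × ZMod 3

/-- Matrices, given by the images of the two basis vectors. -/
abbrev Mat : Type := Vec × Vec

/-- Apply a matrix. -/
def mv (M : Mat) (v : Vec) : Vec :=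
  (M.1.1 * v.1 + M.2.1 * v.2, M.1.2 * v.1 + M.2.2 * v.2)

/-- Multiply two matrices. -/
def mmul (M N : Mat) : Mat := (mv M N.1, mv M N.2)

/-- The identity matrix. -/
def idM : Mat := ((1, 0), (0, 1))

/-- The determinant. -/
def mdet (M : Mat) : ZMod 3 := M.1.1 * M.2.2 - M.2.1 * M.1.2

/-- An affine map. -/
abbrev Aff : Type := Vec × Mat

/-- Compose affine maps. -/
def amul (p q : Aff) : Aff := (p.1 + mv p.2 q.1, mmul p.2 q.2)

/-- The identity affine map. -/
def aone : Aff := (0, idM)

theorem pow_zmod_add {G : Type*} [Group G] {e : G} (he : e ^ 3 = 1) (i j : ZMod 3) :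
    e ^ (i + j).val = e ^ i.val * e ^ j.val := by
  rw [ZMod.val_add, ← pow_add, ← pow_eq_pow_mod _ he]

/-- Two commuting elements of order three. -/
structure Plane (G : Type*) [Group G] where
  e : G
  f : G
  he : e ^ 3 = 1
  hf : f ^ 3 = 1
  hcomm : Commute e f

namespace Plane

variable {G : Type*} [Group G] (P : Plane G)

/-- The element with given coordinates. -/
def pt (v : Vec) : G := P.e ^ v.1.val * P.f ^ v.2.val

theorem pt_add (v w : Vec) : P.pt (v + w) = P.pt v * P.pt w := by
  unfold pt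
  rw [Prod.fst_add, Prod.snd_add, pow_zmod_add P.he, pow_zmod_add P.hf]
  have h : Commute (P.e ^ w.1.val) (P.f ^ v.2.val) := P.hcomm.pow_pow _ _
  rw [mul_assoc (P.e ^ v.1.val), ← mul_assoc (P.e ^ w.1.val), h.eq]
  simp only [mul_assoc]

theorem pt_zero : P.pt 0 = 1 := by simp [pt]

theorem pt_neg (v : Vec) : P.pt (-v) = (P.pt v)⁻¹ :=
  eq_inv_of_mul_eq_one_left (by rw [← pt_add, neg_add_cancel, pt_zero])

theorem pt_e : P.pt (1, 0) = P.e := by
  have : ((1 : ZMod 3)).val = 1 := rfl
  simp [pt, this]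

theorem pt_f : P.pt (0, 1) = P.f := by
  have : ((1 : ZMod 3)).val = 1 := rfl
  simp [pt, this]

/-- The element acts on the plane through the given matrix. -/
def Acts (k : G) (M : Mat) : Prop := ∀ w, k * P.pt w * k⁻¹ = P.pt (mv M w)

theorem acts_of {k : G} {M : Mat} (he : k * P.e * k⁻¹ = P.pt M.1)
    (hf : k * P.f * k⁻¹ = P.pt M.2) : P.Acts k M := by
  intro w
  have hpow : ∀ (u : Vec) (n : ℕ), P.pt u ^ n = P.pt (n • u) := by
    intro u n
    induction n with
    | zero => simp [pt_zero]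
    | succ n ih => rw [pow_succ, ih, succ_nsmul, pt_add]
  have h1 : k * P.pt w * k⁻¹ = (k * P.e * k⁻¹) ^ w.1.val * (k * P.f * k⁻¹) ^ w.2.val := by
    unfold pt
    rw [conj_pow, conj_pow]
    group
  rw [h1, he, hf, hpow, hpow, ← pt_add]
  congr 1
  ext <;> simp [mv, mul_comm]

theorem acts_mul {k l : G} {M N : Mat} (h : P.Acts k M) (h' : P.Acts l N) :
    P.Acts (k * l) (mmul M N) := by
  intro w
  have e : mv (mmul M N) w = mv M (mv N w) := by
    ext <;> simp [mv, mmul] <;> ring
  rw [e, ← h, ← h']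
  group

theorem acts_one : P.Acts 1 idM := by
  intro w
  simp [mv, idM]

theorem acts_pt {k : G} {M : Mat} (h : P.Acts k M) (v : Vec) : P.Acts (P.pt v * k) M := by
  intro w
  calc P.pt v * k * P.pt w * (P.pt v * k)⁻¹ = P.pt v * (k * P.pt w * k⁻¹) * (P.pt v)⁻¹ := by group
    _ = P.pt v * P.pt (mv M w) * (P.pt v)⁻¹ := by rw [h]
    _ = P.pt (mv M w) := by rw [← pt_neg, ← pt_add, ← pt_add]; congr 1; abel

variable (K : Subgroup G)

/-- The element has the given affine coordinates. -/
def Rep (a : G) (p : Aff) : Prop := ∃ k ∈ K, a = P.pt p.1 * k ∧ P.Acts k p.2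

/-- Only the identity of the complement acts trivially. -/
def Faithful : Prop := ∀ k ∈ K, P.Acts k idM → k = 1

variable {K}

theorem rep_of_mem {k : G} {M : Mat} (hk : k ∈ K) (h : P.Acts k M) : P.Rep K k (0, M) :=
  ⟨k, hk, by simp [pt_zero], h⟩

theorem rep_pt (v : Vec) : P.Rep K (P.pt v) (v, idM) :=
  ⟨1, K.one_mem, by simp, P.acts_one⟩

theorem rep_one : P.Rep K 1 aone := P.rep_of_mem K.one_mem P.acts_one

theorem rep_mul {a b : G} {p q : Aff} (h : P.Rep K a p) (h' : P.Rep K b q) :
    P.Rep K (a * b) (amul p q) := by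
  obtain ⟨k, hk, rfl, hkM⟩ := h
  obtain ⟨l, hl, rfl, hlM⟩ := h'
  refine ⟨k * l, mul_mem hk hl, ?_, P.acts_mul hkM hlM⟩
  show P.pt p.1 * k * (P.pt q.1 * l) = P.pt (p.1 + mv p.2 q.1) * (k * l)
  rw [pt_add, ← hkM]
  group

theorem rep_eq_one {a : G} (hK : P.Faithful K) (h : P.Rep K a aone) : a = 1 := by
  obtain ⟨k, hk, rfl, hkM⟩ := h
  simp [aone, pt_zero, hK k hk hkM]

theorem rep_prod (ρ : ℕ → Aff) (g : ℕ → G) (L : List ℕ) (h : ∀ i ∈ L, P.Rep K (g i) (ρ i)) :
    P.Rep K (L.map g).prod (L.foldr (fun i p => amul (ρ i) p) aone) := by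
  induction L with
  | nil => exact P.rep_one
  | cons i L ih =>
    rw [List.map_cons, List.prod_cons]
    exact P.rep_mul (h i List.mem_cons_self) (ih fun j hj => h j (List.mem_cons_of_mem _ hj))

end Plane

end Cfsg.Agent.AmalgamThree19
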