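import Mathlib

/-!
The projective special linear group of dimension two over seven elements has one class of
involutions.
-/

set_option autoImplicit false
set_option maxRecDepth 100000
set_option synthInstance.maxSize 8000

namespace Cfsg.Agent.AmalgamThree19

theorem trace_zero : ∀ a b c d : ZMod 7, a * d - b * c = 1 →
    b * (a + d) = 0 → c * (a + d) = 0 → a * a + b * c = d * d + b * c →
    (a = d ∧ b = 0 ∧ c = 0) ∨ d = -a := by
  decide +kernel

theorem represents_one : ∀ a b c : ZMod 7, a * -a - b * c = 1 →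
    ∃ u v : ZMod 7, u * (c * u + -a * v) - v * (a * u + b * v) = 1 := by
  decide +kernel

open Matrix

/-- The element exchanging the two basis vectors. -/
def J7 : Matrix.SpecialLinearGroup (Fin 2) (ZMod 7) :=
  ⟨!![0, -1; 1, 0], by simp [Matrix.det_fin_two_of]⟩

theorem exists_conj_J7 {M : Matrix.SpecialLinearGroup (Fin 2) (ZMod 7)}
    (h1 : M * M ∈ Subgroup.center (Matrix.SpecialLinearGroup (Fin 2) (ZMod 7)))
    (h2 : M ∉ Subgroup.center (Matrix.SpecialLinearGroup (Fin 2) (ZMod 7))) :
    IsConj J7 M := by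
  have hsc : ∀ i j, i ≠ j → (M * M).1 i j = 0 := by
    obtain ⟨r, -, hr⟩ := Matrix.SpecialLinearGroup.mem_center_iff.1 h1
    intro i j hij
    rw [← hr]; simp [Matrix.scalar_apply, Matrix.diagonal, hij]
  have hdiag : (M * M).1 0 0 = (M * M).1 1 1 := by
    obtain ⟨r, -, hr⟩ := Matrix.SpecialLinearGroup.mem_center_iff.1 h1
    rw [← hr]; simp [Matrix.scalar_apply]
  have h01 := hsc 0 1 (by decide)
  have h10 := hsc 1 0 (by decide)
  rw [Matrix.SpecialLinearGroup.coe_mul, Matrix.mul_apply, Fin.sum_univ_two] at h01 h10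
  rw [Matrix.SpecialLinearGroup.coe_mul, Matrix.mul_apply, Fin.sum_univ_two, Matrix.mul_apply,
    Fin.sum_univ_two] at hdiag
  have hdet : M.1 0 0 * M.1 1 1 - M.1 0 1 * M.1 1 0 = 1 := by
    rw [← Matrix.det_fin_two]; exact M.2
  rcases trace_zero _ (M.1 0 1) (M.1 1 0) _ hdet (by linear_combination h01)
    (by linear_combination h10) (by linear_combination hdiag) with ⟨e, eb, ec⟩ | e
  · exfalso
    apply h2
    refine Subgroup.mem_center_iff.2 fun N => ?_
    ext i j
    simp only [Matrix.SpecialLinearGroup.coe_mul, Matrix.mul_apply, Fin.sum_univ_two]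
    fin_cases i <;> fin_cases j <;> simp [eb, ec, e, mul_comm]
  · rw [e] at hdet
    obtain ⟨u, v, huv⟩ := represents_one _ _ _ hdet
    let U : Matrix.SpecialLinearGroup (Fin 2) (ZMod 7) :=
      ⟨!![u, M.1 0 0 * u + M.1 0 1 * v; v, M.1 1 0 * u + -M.1 0 0 * v], by
        rw [Matrix.det_fin_two_of]; linear_combination huv⟩
    refine isConj_iff.2 ⟨U, ?_⟩
    have hUJ : U * J7 = M * U := by
      ext i j
      simp only [Matrix.SpecialLinearGroup.coe_mul, Matrix.mul_apply, Fin.sum_univ_two]
      fin_cases i <;> fin_cases j <;> simp [U, J7, e]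
      · linear_combination u * hdet
      · linear_combination v * hdet
    rw [hUJ]; group

theorem psl_seven_involutions
    {a b : ProjectiveSpecialLinearGroup (Fin 2) (ZMod 7)} (ha : a * a = 1) (ha1 : a ≠ 1)
    (hb : b * b = 1) (hb1 : b ≠ 1) : IsConj a b := by
  have key : ∀ x : ProjectiveSpecialLinearGroup (Fin 2) (ZMod 7), x * x = 1 → x ≠ 1 →
      IsConj (QuotientGroup.mk' _ J7) x := by
    intro x hx hx1
    obtain ⟨M, rfl⟩ := QuotientGroup.mk'_surjective _ x
    refine MonoidHom.map_isConj _ (exists_conj_J7 ?_ fun h => hx1 ?_)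
    · rw [← map_mul] at hx
      exact (QuotientGroup.eq_one_iff _).1 hx
    · exact (QuotientGroup.eq_one_iff _).2 h
  exact (key a ha ha1).symm.trans (key b hb hb1)

end Cfsg.Agent.AmalgamThree19
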