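import Cfsg.Agent.Lib.AmalgamThree19Frame
import Cfsg.Agent.Lib.AmalgamThree19L27
import Cfsg.Agent.S3331

/-!
The possible relations between the generators, from the structure of the centralizer of an
involution with a self-centralizing element of order three.
-/

set_option autoImplicit false
set_option maxRecDepth 100000
set_option synthInstance.maxSize 8000

namespace Cfsg.Agent.AmalgamThree19

/-- The product of the two swaps, cubed. -/
def wC : List ℕ := [4, 5, 4, 5, 4, 5]
/-- The element of order three. -/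
def wX : List ℕ := [0, 2]
/-- An element of order four. -/
def wQ : List ℕ := [0, 4]
/-- The commutator of two words. -/
def wCom (a b : List ℕ) : List ℕ := a ++ b ++ a.reverse ++ b.reverse
/-- The relation of the first kind. -/
def wA3 : List ℕ := (wC ++ wX) ++ (wC ++ wX) ++ (wC ++ wX)
/-- The relation of the second kind. -/
def wB3 : List ℕ := (wC ++ [0] ++ wX) ++ (wC ++ [0] ++ wX) ++ (wC ++ [0] ++ wX)
/-- The first relation of the third kind. -/
def wK5 : List ℕ := (wC ++ wX) ++ (wC ++ wX) ++ (wC ++ wX) ++ (wC ++ wX) ++ (wC ++ wX)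
/-- The second relation of the third kind. -/
def wK2 : List ℕ := wCom (wX ++ wQ ++ wX.reverse) (wC ++ wQ ++ wC.reverse)

theorem s3_cases : ∀ ξ σ α : Equiv.Perm (Fin 3), ξ ^ 3 = 1 → ξ ≠ 1 → σ * ξ * σ⁻¹ = ξ⁻¹ →
    α * σ = σ * α → α = 1 ∨ α = σ := by
  decide +kernel

theorem a5_cases : ∀ ξ : Equiv.Perm (Fin 5), Equiv.Perm.sign ξ = 1 → ξ ^ 3 = 1 → ξ ≠ 1 →
    ∀ σ : Equiv.Perm (Fin 5), Equiv.Perm.sign σ = 1 → σ * ξ * σ⁻¹ = ξ⁻¹ → σ * σ = 1 →
    ∀ α : Equiv.Perm (Fin 5), Equiv.Perm.sign α = 1 → α * σ = σ * α →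
      ((α * ξ) ^ 3 = 1 ∧ α * ξ ≠ 1) ∨ ((α * σ * ξ) ^ 3 = 1 ∧ α * σ * ξ ≠ 1) ∨
      ((α * ξ) ^ 5 = 1 ∧ α * ξ ≠ 1) := by
  decide +kernel

theorem a5_four : ∀ ξ : Equiv.Perm (Fin 5), Equiv.Perm.sign ξ = 1 → ξ ^ 3 = 1 → ξ ≠ 1 →
    ∀ σ : Equiv.Perm (Fin 5), Equiv.Perm.sign σ = 1 → σ * ξ * σ⁻¹ = ξ⁻¹ → σ * σ = 1 →
    ∀ χ : Equiv.Perm (Fin 5), Equiv.Perm.sign χ = 1 → χ * χ = 1 → χ * σ = σ * χ →
      χ * (ξ * χ * ξ⁻¹) = ξ * χ * ξ⁻¹ * χ → χ = 1 := by
  decide +kernel

theorem a5_five : ∀ y : Equiv.Perm (Fin 5), Equiv.Perm.sign y = 1 → y ^ 5 = 1 → y ≠ 1 →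
    ∃ h : Equiv.Perm (Fin 5), Equiv.Perm.sign h = 1 ∧ h ^ 3 = 1 ∧ h ≠ 1 ∧ (h⁻¹ * y) ^ 3 = 1 ∧
      h⁻¹ * y ≠ 1 ∧ h = y * y * ((h * y * h⁻¹) * (h * y * h⁻¹)) := by
  decide +kernel

section SelfCent

variable {X : Type*} [Group X] [Finite X] {x : X}

/-- An element of order divisible by three is a conjugate of a power of the self-centralizing one. -/
theorem cube_of (hx : orderOf x = 3)
    (hC : ∀ u, u * x = x * u → u ∈ Subgroup.zpowers x) {g : X} (h3 : 3 ∣ orderOf g) :
    g ^ 3 = 1 := by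
  haveI : Fact (Nat.Prime 3) := ⟨Nat.prime_three⟩
  have hcard : Nat.card (Subgroup.zpowers x) = 3 := by rw [Nat.card_zpowers, hx]
  obtain ⟨P, hP⟩ := (IsPGroup.of_card (p := 3) (n := 1) (by rw [hcard]; norm_num)).exists_le_sylow
  have hxP : x ∈ (P : Subgroup X) := hP (Subgroup.mem_zpowers x)
  have hPx : (P : Subgroup X) = Subgroup.zpowers x := by
    refine le_antisymm (fun u hu => hC u ?_) hP
    haveI : Nontrivial (P : Subgroup X) := ⟨⟨⟨x, hxP⟩, 1, fun h => by
      have : x = 1 := congrArg Subtype.val h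
      rw [this, orderOf_one] at hx
      norm_num at hx⟩⟩
    haveI := P.2.center_nontrivial
    obtain ⟨w, hw⟩ := exists_ne (1 : Subgroup.center (P : Subgroup X))
    have hwx := hC (w.1 : X) (congrArg Subtype.val (Subgroup.mem_center_iff.1 w.2 ⟨x, hxP⟩)).symm
    have hwu : (w.1 : X) * u = u * w.1 :=
      (congrArg Subtype.val (Subgroup.mem_center_iff.1 w.2 ⟨u, hu⟩)).symm
    have hgen : x ∈ Subgroup.zpowers (w.1 : X) := by
      have hle : Subgroup.zpowers (w.1 : X) ≤ Subgroup.zpowers x := Subgroup.zpowers_le.2 hwx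
      have heq : Subgroup.zpowers (w.1 : X) = Subgroup.zpowers x := by
        refine Subgroup.eq_of_le_of_card_ge hle ?_
        rw [hcard]
        have hd := Subgroup.card_dvd_of_le hle
        rw [hcard] at hd
        rcases (Nat.dvd_prime Nat.prime_three).1 hd with h | h
        · exfalso
          rw [Nat.card_zpowers, orderOf_eq_one_iff] at h
          exact hw (Subtype.ext (Subtype.ext h))
        · omega
      rw [heq]; exact Subgroup.mem_zpowers x
    obtain ⟨n, hn⟩ := Subgroup.mem_zpowers_iff.1 hgen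
    rw [← hn]
    exact ((show Commute (w.1 : X) u from hwu).symm.zpow_right n).eq
  have hg0 : orderOf g ≠ 0 := (orderOf_pos g).ne'
  obtain ⟨y, hy⟩ : ∃ y, y = g ^ (orderOf g / 3) := ⟨_, rfl⟩
  have hoy : orderOf y = 3 := hy ▸ orderOf_pow_orderOf_div hg0 h3
  obtain ⟨Q, hQ⟩ := (IsPGroup.of_card (p := 3) (n := 1) (G := Subgroup.zpowers y)
    (by rw [Nat.card_zpowers, hoy]; norm_num)).exists_le_sylow
  obtain ⟨k, rfl⟩ := MulAction.exists_smul_eq X P Q
  have hyk := hQ (Subgroup.mem_zpowers y)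
  rw [Sylow.smul_def] at hyk
  obtain ⟨w, hw, hwy⟩ := Subgroup.mem_map.1 hyk
  rw [hPx] at hw
  change k * w * k⁻¹ = y at hwy
  have hwne : w ≠ 1 := fun h => by
    rw [h, mul_one, mul_inv_cancel] at hwy
    rw [← hwy, orderOf_one] at hoy
    norm_num at hoy
  have hxw : x ∈ Subgroup.zpowers w := by
    have hle : Subgroup.zpowers w ≤ Subgroup.zpowers x := Subgroup.zpowers_le.2 hw
    have hd := Subgroup.card_dvd_of_le hle
    rw [hcard] at hd
    rcases (Nat.dvd_prime Nat.prime_three).1 hd with h | h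
    · exact absurd (by rwa [Nat.card_zpowers, orderOf_eq_one_iff] at h) hwne
    · rw [Subgroup.eq_of_le_of_card_ge hle (by omega)]; exact Subgroup.mem_zpowers x
  have hgy : g * y = y * g := by rw [hy]; exact ((Commute.refl g).pow_right _).eq
  have hcw : k⁻¹ * g * k * w = w * (k⁻¹ * g * k) := by
    calc k⁻¹ * g * k * w = k⁻¹ * (g * (k * w * k⁻¹)) * k := by group
      _ = k⁻¹ * ((k * w * k⁻¹) * g) * k := by rw [hwy, hgy]
      _ = w * (k⁻¹ * g * k) := by group
  obtain ⟨n, hn⟩ := Subgroup.mem_zpowers_iff.1 hxw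
  have hmem := hC (k⁻¹ * g * k) (hn ▸ ((show Commute (k⁻¹ * g * k) w from hcw).zpow_right n).eq)
  have h1 : (k⁻¹ * g * k) ^ 3 = 1 := by
    have h2 := orderOf_dvd_natCard (⟨_, hmem⟩ : Subgroup.zpowers x)
    rw [hcard, Subgroup.orderOf_mk] at h2
    exact orderOf_dvd_iff_pow_eq_one.1 h2
  have h3' := conj_pow (i := 3) (a := k⁻¹) (b := g)
  rw [inv_inv] at h3'
  rw [h3'] at h1
  calc g ^ 3 = k * (k⁻¹ * g ^ 3 * k) * k⁻¹ := by group
    _ = 1 := by rw [h1]; group

variable {Y : Type*} [Group Y]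

theorem cube_of_image (hx : orderOf x = 3) (hC : ∀ u, u * x = x * u → u ∈ Subgroup.zpowers x)
    (φ : X →* Y) {g : X} (h : φ g ^ 3 = 1) (h1 : φ g ≠ 1) : g ^ 3 = 1 := by
  haveI : Fact (Nat.Prime 3) := ⟨Nat.prime_three⟩
  refine cube_of hx hC ?_
  rw [← orderOf_eq_prime h h1]
  exact orderOf_map_dvd φ g

/-- Over an elementary abelian normal subgroup with alternating quotient, elements over order five
have order five. -/
theorem five_of (hx : orderOf x = 3) (hC : ∀ u, u * x = x * u → u ∈ Subgroup.zpowers x)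
    (φ : X →* Equiv.Perm (Fin 5)) (hsurj : ∀ p, Equiv.Perm.sign p = 1 → ∃ u, φ u = p)
    (hsign : ∀ u, Equiv.Perm.sign (φ u) = 1)
    (hab : ∀ a ∈ φ.ker, ∀ b ∈ φ.ker, a * b = b * a) (hsq : ∀ a ∈ φ.ker, a * a = 1)
    {g : X} (h5 : φ g ^ 5 = 1) (h1 : φ g ≠ 1) : g ^ 5 = 1 := by
  obtain ⟨hb, hs, hb3, hb1, hk3, hk1, hgen⟩ := a5_five _ (hsign g) h5 h1
  obtain ⟨h, rfl⟩ := hsurj hb hs
  obtain ⟨n, hn⟩ : ∃ n, n = g ^ 5 := ⟨_, rfl⟩
  have hnN : n ∈ φ.ker := by rw [MonoidHom.mem_ker, hn, map_pow, h5]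
  obtain ⟨k, hk⟩ : ∃ k, k = h⁻¹ * g := ⟨_, rfl⟩
  -- an element over order three has all norms trivial
  have norm3 : ∀ m ∈ φ.ker, ∀ u : X, φ u ^ 3 = 1 → φ u ≠ 1 →
      m * (u * m * u⁻¹) * (u * (u * m * u⁻¹) * u⁻¹) = 1 := by
    intro m hm u hu hu1
    have e1 : u ^ 3 = 1 := cube_of_image hx hC φ hu hu1
    have e2 : (m * u) ^ 3 = 1 := cube_of_image hx hC φ
      (by rw [map_mul, MonoidHom.mem_ker.1 hm, one_mul]; exact hu)
      (by rw [map_mul, MonoidHom.mem_ker.1 hm, one_mul]; exact hu1)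
    calc m * (u * m * u⁻¹) * (u * (u * m * u⁻¹) * u⁻¹)
        = (m * u) * (m * u) * (m * u) * (u * u * u)⁻¹ := by group
      _ = (m * u) ^ 3 * (u ^ 3)⁻¹ := by simp only [pow_succ, pow_zero, one_mul]
      _ = 1 := by rw [e1, e2]; group
  have hconj : ∀ m ∈ φ.ker, ∀ u : X, u * m * u⁻¹ ∈ φ.ker := fun m hm u =>
    (inferInstance : φ.ker.Normal).conj_mem m hm u
  obtain ⟨v, hv⟩ : ∃ v, v = h⁻¹ * n * h := ⟨_, rfl⟩
  have hvN : v ∈ φ.ker := by
    rw [hv]; have := hconj n hnN h⁻¹; rwa [inv_inv] at this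
  have hgn : g * n = n * g := by rw [hn]; exact ((Commute.refl g).pow_right 5).eq
  have kn : k * n * k⁻¹ = v := by
    rw [hk, hv]
    calc h⁻¹ * g * n * (h⁻¹ * g)⁻¹ = h⁻¹ * (g * n * g⁻¹) * h := by group
      _ = h⁻¹ * n * h := by rw [hgn, mul_inv_cancel_right]
  have hv' : h * v * h⁻¹ = n := by rw [hv]; group
  have hhn : h * n * h⁻¹ = n * v := by
    have e := norm3 v hvN h hb3 hb1
    rw [hv'] at e
    calc h * n * h⁻¹ = (v * n) * (v * n * (h * n * h⁻¹)) := by
          rw [show (v * n) * (v * n * (h * n * h⁻¹)) = (v * n) * (v * n) * (h * n * h⁻¹) by group,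
            hsq _ (mul_mem hvN hnN), one_mul]
      _ = n * v := by rw [e, mul_one, hab _ hvN _ hnN]
  have hkv : k * v * k⁻¹ = n * v := by
    have e := norm3 n hnN k (by rw [hk, map_mul, map_inv]; exact hk3)
      (by rw [hk, map_mul, map_inv]; exact hk1)
    rw [kn] at e
    calc k * v * k⁻¹ = (n * v) * (n * v * (k * v * k⁻¹)) := by
          rw [show (n * v) * (n * v * (k * v * k⁻¹)) = (n * v) * (n * v) * (k * v * k⁻¹) by group,
            hsq _ (mul_mem hnN hvN), one_mul]
      _ = n * v := by rw [e, mul_one]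
  have hgv : g * v * g⁻¹ = v := by
    calc g * v * g⁻¹ = h * (k * v * k⁻¹) * h⁻¹ := by rw [hk]; group
      _ = (h * n * h⁻¹) * (h * v * h⁻¹) := by rw [hkv]; group
      _ = v := by
        rw [hhn, hv', mul_assoc, hab v hvN n hnN, ← mul_assoc, hsq n hnN, one_mul]
  let C := Subgroup.centralizer ({n, v} : Set X)
  have memC : ∀ {u : X}, u * n = n * u → u * v = v * u → u ∈ C := by
    intro u e1 e2
    refine Subgroup.mem_centralizer_iff.2 ?_
    rintro w (rfl | rfl)
    · exact e1.symm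
    · exact e2.symm
  have hgC : g ∈ C := memC hgn (by
    calc g * v = g * v * g⁻¹ * g := by group
      _ = v * g := by rw [hgv])
  have hcm : ∀ u : X, u * (g * v * g⁻¹) = u * v := fun u => by rw [hgv]
  have hC1 : h * g * h⁻¹ ∈ C := by
    have c1 : h * g * h⁻¹ * (h * v * h⁻¹) = h * v * h⁻¹ * (h * g * h⁻¹) := by
      calc h * g * h⁻¹ * (h * v * h⁻¹) = h * (g * v * g⁻¹) * g * h⁻¹ := by group
        _ = _ := by rw [hgv]; group
    have c2 : h * g * h⁻¹ * (h * n * h⁻¹) = h * n * h⁻¹ * (h * g * h⁻¹) := by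
      calc h * g * h⁻¹ * (h * n * h⁻¹) = h * (g * n) * h⁻¹ := by group
        _ = _ := by rw [hgn]; group
    rw [hv'] at c1
    rw [hhn] at c2
    refine memC c1 ?_
    have c3 : Commute (h * g * h⁻¹) (n⁻¹ * (n * v)) :=
      (show Commute (h * g * h⁻¹) n from c1).inv_right.mul_right c2
    rw [inv_mul_cancel_left] at c3
    exact c3.eq
  have hh : h ∈ C := by
    obtain ⟨m, hm⟩ : ∃ m, m = (g * g * ((h * g * h⁻¹) * (h * g * h⁻¹)))⁻¹ * h := ⟨_, rfl⟩
    have hmN : m ∈ φ.ker := by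
      rw [MonoidHom.mem_ker, hm]
      simp only [map_mul, map_inv]
      exact inv_mul_eq_one.2 hgen.symm
    have : h = g * g * ((h * g * h⁻¹) * (h * g * h⁻¹)) * m := by rw [hm]; group
    rw [this]
    exact mul_mem (mul_mem (mul_mem hgC hgC) (mul_mem hC1 hC1))
      (memC (hab _ hmN _ hnN) (hab _ hmN _ hvN))
  have h1' : h * n * h⁻¹ = n := by
    rw [← Subgroup.mem_centralizer_iff.1 hh n (Or.inl rfl)]; group
  rw [hhn] at h1'
  have hv1 : v = 1 := left_eq_mul.1 h1'.symm
  rw [hv1] at hv'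
  rw [← hn, ← hv']
  group

end SelfCent

variable {G : Type*} [Group G]

/-- The value of a word. -/
def Gens.val (D : Gens G) (w : List ℕ) : G := (w.map D.g).prod

/-- A relation up to the involution. -/
def Gens.ModR (D : Gens G) (w : List ℕ) : Prop := D.val w = 1 ∨ D.val (w ++ [1]) = 1

theorem relation_words :
    okA [1, 0, 1, 0] = true ∧ okA [1, 2, 1, 2] = true ∧ okA [1, 4, 1, 4] = true ∧
    okA [4, 0, 4, 0, 1] = true ∧ okB [5, 1, 5, 0] = true ∧ okB [5, 0, 5, 1] = true ∧
    okA [0, 4, 0, 4, 1] = true ∧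
    okA (wCom wQ (wX ++ wQ ++ wX.reverse) ++ [1]) = true := by
  decide +kernel

theorem cases_of [Finite G] (D : Gens G) :
    D.ModR wA3 ∨ D.ModR wB3 ∨ (D.ModR wK5 ∧ D.ModR wK2) := by
  classical
  obtain ⟨w10, w12, w14, w404, w515, w505, w040, wV⟩ := relation_words
  obtain ⟨s, hs⟩ : ∃ s, s = D.g 0 := ⟨_, rfl⟩
  obtain ⟨r, hr⟩ : ∃ r, r = D.g 1 := ⟨_, rfl⟩
  obtain ⟨a, ha⟩ : ∃ a, a = D.g 2 := ⟨_, rfl⟩
  obtain ⟨P, hP⟩ : ∃ P, P = D.g 4 := ⟨_, rfl⟩
  obtain ⟨R, hR⟩ : ∃ R, R = D.g 5 := ⟨_, rfl⟩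
  have s2 : s * s = 1 := hs ▸ D.invol 0
  have r2 : r * r = 1 := hr ▸ D.invol 1
  have a2 : a * a = 1 := ha ▸ D.invol 2
  have P2 : P * P = 1 := hP ▸ D.invol 4
  have R2 : R * R = 1 := hR ▸ D.invol 5
  have si : s⁻¹ = s := inv_eq_of_mul_eq_one_right s2
  have ri : r⁻¹ = r := inv_eq_of_mul_eq_one_right r2
  have ai : a⁻¹ = a := inv_eq_of_mul_eq_one_right a2
  have Pi : P⁻¹ = P := inv_eq_of_mul_eq_one_right P2
  have Ri : R⁻¹ = R := inv_eq_of_mul_eq_one_right R2
  have com_of : ∀ {u : G}, u * u = 1 → r * (u * (r * (u * 1))) = 1 → u * r = r * u := by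
    intro u hu h
    have hu' : u⁻¹ = u := inv_eq_of_mul_eq_one_right hu
    calc u * r = r⁻¹ * (r * (u * (r * (u * 1)))) * u⁻¹ := by group
      _ = r * u := by rw [h, ri, hu', mul_one]
  have sr : s * r = r * s := com_of s2 (by simpa [hs, hr] using D.relA _ w10)
  have ar : a * r = r * a := com_of a2 (by simpa [ha, hr] using D.relA _ w12)
  have Pr : P * r = r * P := com_of P2 (by simpa [hP, hr] using D.relA _ w14)
  have PsP : P * s * P⁻¹ = r * s := by
    have h := D.relA _ w404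
    simp only [List.map_cons, List.map_nil, List.prod_cons, List.prod_nil, mul_one] at h
    rw [← hs, ← hP, ← hr] at h
    rw [Pi]
    calc P * s * P = (P * (s * (P * (s * r)))) * r⁻¹ * s⁻¹ := by group
      _ = r * s := by rw [h, one_mul, ri, si]
  have PrP : P * r * P⁻¹ = r := by rw [Pr, mul_inv_cancel_right]
  have RrR : R * r * R⁻¹ = s := by
    have h := D.relB _ w515
    simp only [List.map_cons, List.map_nil, List.prod_cons, List.prod_nil, mul_one] at h
    rw [← hs, ← hR, ← hr] at h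
    rw [Ri]
    calc R * r * R = (R * (r * (R * s))) * s⁻¹ := by group
      _ = s := by rw [h, one_mul, si]
  have RsR : R * s * R⁻¹ = r := by
    have h := D.relB _ w505
    simp only [List.map_cons, List.map_nil, List.prod_cons, List.prod_nil, mul_one] at h
    rw [← hs, ← hR, ← hr] at h
    rw [Ri]
    calc R * s * R = (R * (s * (R * r))) * r⁻¹ := by group
      _ = r := by rw [h, one_mul, ri]
  obtain ⟨f, hf⟩ : ∃ f, f = P * R := ⟨_, rfl⟩
  obtain ⟨c, hc⟩ : ∃ c, c = f * f * f := ⟨_, rfl⟩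
  have fr : f * r * f⁻¹ = r * s := by
    calc f * r * f⁻¹ = P * (R * r * R⁻¹) * P⁻¹ := by rw [hf]; group
      _ = r * s := by rw [RrR, PsP]
  have fs : f * s * f⁻¹ = r := by
    calc f * s * f⁻¹ = P * (R * s * R⁻¹) * P⁻¹ := by rw [hf]; group
      _ = r := by rw [RsR, PrP]
  have frs : f * (r * s) * f⁻¹ = s := by
    calc f * (r * s) * f⁻¹ = (f * r * f⁻¹) * (f * s * f⁻¹) := by group
      _ = s := by
        rw [fr, fs, mul_assoc, sr, ← mul_assoc, r2, one_mul]
  have cr : c * r = r * c := by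
    calc c * r = f * (f * (f * r * f⁻¹) * f⁻¹) * f⁻¹ * c := by rw [hc]; group
      _ = r * c := by rw [fr, frs, fs]
  have cs : c * s = s * c := by
    calc c * s = f * (f * (f * s * f⁻¹) * f⁻¹) * f⁻¹ * c := by rw [hc]; group
      _ = s * c := by rw [fs, fr, frs]
  set H := Subgroup.centralizer ({r} : Set G) with hH
  have mH : ∀ {u : G}, u * r = r * u → u ∈ H := fun h =>
    Subgroup.mem_centralizer_singleton_iff.2 h
  let rH : H := ⟨r, mH rfl⟩
  haveI hN : (Subgroup.zpowers rH).Normal := ⟨fun u hu v => by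
    obtain ⟨n, rfl⟩ := Subgroup.mem_zpowers_iff.1 hu
    have hv : Commute v rH := Subtype.ext (Subgroup.mem_centralizer_singleton_iff.1 v.2)
    rw [(hv.zpow_right n).eq, mul_inv_cancel_right]
    exact Subgroup.mem_zpowers_iff.2 ⟨n, rfl⟩⟩
  let π : H →* H ⧸ Subgroup.zpowers rH := QuotientGroup.mk' _
  have memR : ∀ {u : H}, π u = 1 → (u : G) = 1 ∨ (u : G) = r := by
    intro u hu
    obtain ⟨n, rfl⟩ := Subgroup.mem_zpowers_iff.1 ((QuotientGroup.eq_one_iff u).1 hu)
    rcases Int.even_or_odd n with ⟨k, rfl⟩ | ⟨k, rfl⟩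
    · left
      rw [Subgroup.coe_zpow, ← two_mul, zpow_mul, show (rH : G) ^ (2 : ℤ) = 1 by
        rw [show (2 : ℤ) = ((2 : ℕ) : ℤ) from rfl, zpow_natCast, sq]; exact r2, one_zpow]
    · right
      rw [Subgroup.coe_zpow, zpow_add, zpow_mul, show (rH : G) ^ (2 : ℤ) = 1 by
        rw [show (2 : ℤ) = ((2 : ℕ) : ℤ) from rfl, zpow_natCast, sq]; exact r2, one_zpow,
        one_mul, zpow_one]
  let xH : H := ⟨s * a, mH (by rw [mul_assoc, ar, ← mul_assoc, sr, mul_assoc])⟩
  let sH : H := ⟨s, mH sr⟩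
  let PH : H := ⟨P, mH Pr⟩
  let cH : H := ⟨c, mH cr⟩
  obtain ⟨x', hx'⟩ : ∃ x', x' = π xH := ⟨_, rfl⟩
  have x3 : (s * a) ^ 3 = 1 := by rw [hs, ha]; exact D.x_cube
  have xne : s * a ≠ 1 := by rw [hs, ha]; exact D.x_ne
  have rne : r ≠ 1 := hr ▸ D.r_ne
  have x'ne : x' ≠ 1 := by
    intro h
    rcases memR (hx' ▸ h) with h | h
    · exact xne h
    · apply rne
      have := x3
      rw [show s * a = r from h, pow_succ, sq, r2, one_mul] at this
      exact this
  have x'3 : x' ^ 3 = 1 := by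
    rw [hx', ← map_pow, show xH ^ 3 = 1 from Subtype.ext x3, map_one]
  haveI : Fact (Nat.Prime 3) := ⟨Nat.prime_three⟩
  have hox : orderOf x' = 3 := orderOf_eq_prime x'3 x'ne
  have hC : ∀ u, u * x' = x' * u → u ∈ Subgroup.zpowers x' := by
    intro u hu
    obtain ⟨v, rfl⟩ := QuotientGroup.mk'_surjective _ u
    have h1 : π (v * xH * v⁻¹ * xH⁻¹) = 1 := by
      rw [map_mul, map_mul, map_mul, map_inv, map_inv, ← hx']
      change π v * x' = x' * π v at hu
      rw [hu]; group
    have hvr : (v : G) * r = r * v := Subgroup.mem_centralizer_singleton_iff.1 v.2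
    have hcomm : (v : G) * (s * a) = s * a * v := by
      rcases memR h1 with h | h
      · calc (v : G) * (s * a) = (v * xH * v⁻¹ * xH⁻¹ : H) * (s * a * v) := by
              simp only [Subgroup.coe_mul, Subgroup.coe_inv]
              show (v : G) * (s * a) = v * (s * a) * (v : G)⁻¹ * (s * a)⁻¹ * (s * a * v)
              group
          _ = _ := by rw [h, one_mul]
      · exfalso
        apply rne
        have e1 : (v : G) * (s * a) * (v : G)⁻¹ = r * (s * a) := by
          calc (v : G) * (s * a) * (v : G)⁻¹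
              = (v * xH * v⁻¹ * xH⁻¹ : H) * (s * a) := by
                simp only [Subgroup.coe_mul, Subgroup.coe_inv]
                show _ = (v : G) * (s * a) * (v : G)⁻¹ * (s * a)⁻¹ * (s * a)
                group
            _ = _ := by rw [h]
        have e2 : (r * (s * a)) ^ 3 = 1 := by rw [← e1, conj_pow, x3]; group
        have e3 : Commute r (s * a) :=
          (Subgroup.mem_centralizer_singleton_iff.1 xH.2).symm
        rw [e3.mul_pow, x3, mul_one, pow_succ, sq, r2, one_mul] at e2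
        exact e2
    obtain ⟨i, j, hij⟩ := D.cent v (by rw [← hs, ← ha]; exact hcomm) (by rw [← hr]; exact hvr)
    have hv : v = xH ^ i * rH ^ j := Subtype.ext (by
      rw [hij, ← hs, ← ha, ← hr]; rfl)
    have hπr : π rH = 1 := (QuotientGroup.eq_one_iff _).2 (Subgroup.mem_zpowers rH)
    show π v ∈ _
    rw [hv, map_mul, map_pow, map_pow, hπr, one_pow, mul_one, ← hx']
    exact pow_mem (Subgroup.mem_zpowers x') i
  have hcard : Nat.card (Subgroup.zpowers x') = 3 := by rw [Nat.card_zpowers, hox]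
  have hcent : Subgroup.centralizer (Subgroup.zpowers x' : Set (H ⧸ Subgroup.zpowers rH)) =
      Subgroup.zpowers x' := by
    refine le_antisymm (fun u hu => hC u ?_) ?_
    · exact (Subgroup.mem_centralizer_iff.1 hu x' (Subgroup.mem_zpowers x')).symm
    · intro u hu
      refine Subgroup.mem_centralizer_iff.2 fun w hw => ?_
      obtain ⟨m, rfl⟩ := Subgroup.mem_zpowers_iff.1 hu
      obtain ⟨n, rfl⟩ := Subgroup.mem_zpowers_iff.1 hw
      exact ((Commute.refl x').zpow_zpow n m).eq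
  obtain ⟨σ, hσ⟩ : ∃ σ, σ = π sH := ⟨_, rfl⟩
  obtain ⟨α, hα⟩ : ∃ α, α = π cH := ⟨_, rfl⟩
  obtain ⟨χ, hχ⟩ : ∃ χ, χ = π (sH * PH) := ⟨_, rfl⟩
  have σ2 : σ * σ = 1 := by
    rw [hσ, ← map_mul, show sH * sH = 1 from Subtype.ext s2, map_one]
  have σx : σ * x' * σ⁻¹ = x'⁻¹ := by
    rw [hσ, hx', ← map_mul, ← map_inv, ← map_mul, ← map_inv]
    congr 1
    refine Subtype.ext ?_
    show s * (s * a) * s⁻¹ = (s * a)⁻¹
    rw [mul_inv_rev, ai, si, ← mul_assoc, s2, one_mul]
  have ασ : α * σ = σ * α := by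
    rw [hσ, hα, ← map_mul, ← map_mul]
    exact congrArg π (Subtype.ext cs)
  -- translating relations in the quotient to words
  have hval : ∀ (u : H) (w : List ℕ), (u : G) = D.val w → π u = 1 → D.ModR w := by
    intro u w hw hu
    rcases memR hu with h | h
    · exact Or.inl (hw ▸ h)
    · right
      show D.val (w ++ [1]) = 1
      have : D.val (w ++ [1]) = D.val w * D.g 1 := by simp [Gens.val]
      rw [this, ← hw, h, ← hr, r2]
  have hwA : (α * x') ^ 3 = 1 → D.ModR wA3 := fun h => hval ((cH * xH) ^ 3) wA3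
    (by
      show (c * (s * a)) ^ 3 = _
      simp only [Gens.val, wA3, wC, wX, List.cons_append, List.nil_append, List.map_cons,
        List.map_nil, List.prod_cons, List.prod_nil, pow_succ, pow_zero, one_mul, mul_one,
        hc, hf, hs, ha, hP, hR, mul_assoc])
    (by rw [map_pow, map_mul, ← hα, ← hx', h])
  have hwB : (α * σ * x') ^ 3 = 1 → D.ModR wB3 := fun h => hval ((cH * sH * xH) ^ 3) wB3
    (by
      show (c * s * (s * a)) ^ 3 = _
      simp only [Gens.val, wB3, wC, wX, List.cons_append, List.nil_append, List.map_cons,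
        List.map_nil, List.prod_cons, List.prod_nil, pow_succ, pow_zero, one_mul, mul_one,
        hc, hf, hs, ha, hP, hR, mul_assoc])
    (by rw [map_pow, map_mul, map_mul, ← hα, ← hσ, ← hx', h])
  have hqq : s * P * (s * P) = r := by
    have h := D.relA _ w040
    simp only [List.map_cons, List.map_nil, List.prod_cons, List.prod_nil, mul_one] at h
    rw [← hs, ← hP, ← hr] at h
    calc s * P * (s * P) = s * (P * (s * (P * r))) * r⁻¹ := by group
      _ = r := by rw [h, one_mul, ri]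
  rcases Cfsg.Agent.S3331.result (Subgroup.zpowers x') hcard hcent with
    ⟨N, hNn, -, hN3, hq⟩ | ⟨N, hNn, hNab, hN2, ⟨e⟩⟩ | ⟨e⟩
  · have hxN : x' ∉ N := fun h => by
      have hd := orderOf_dvd_natCard (⟨x', h⟩ : N)
      rw [Subgroup.orderOf_mk, hox] at hd
      have := Nat.dvd_gcd hd (dvd_refl 3)
      rw [hN3] at this
      norm_num at this
    rcases hq with hq | ⟨⟨e⟩⟩
    · exfalso
      haveI : IsCyclic ((H ⧸ Subgroup.zpowers rH) ⧸ N) := isCyclic_of_prime_card hq
      obtain ⟨y, hy⟩ : ∃ y, y = QuotientGroup.mk' N x' := ⟨_, rfl⟩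
      have h1 : y = y⁻¹ := by
        have h := congrArg (QuotientGroup.mk' N) σx
        simp only [map_mul, map_inv] at h
        rw [← hy] at h
        rw [← h, IsCyclic.commGroup.mul_comm (QuotientGroup.mk' N σ) y, mul_inv_cancel_right]
      have h2 : y ^ 3 = 1 := by rw [hy, ← map_pow, x'3, map_one]
      have h4 : y * y = 1 := by nth_rewrite 2 [h1]; exact mul_inv_cancel y
      apply hxN
      rw [← QuotientGroup.eq_one_iff x']
      change QuotientGroup.mk' N x' = 1
      rw [← hy]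
      rw [pow_succ, sq, h4, one_mul] at h2
      exact h2
    · let φ : (H ⧸ Subgroup.zpowers rH) →* Equiv.Perm (Fin 3) :=
        e.toMonoidHom.comp (QuotientGroup.mk' N)
      have φx3 : φ x' ^ 3 = 1 := by rw [← map_pow, x'3, map_one]
      have φxne : φ x' ≠ 1 := fun h => hxN ((QuotientGroup.eq_one_iff x').1
        (e.map_eq_one_iff.1 h))
      have φσ : φ σ * φ x' * (φ σ)⁻¹ = (φ x')⁻¹ := by
        rw [← map_inv, ← map_mul, ← map_mul, σx, map_inv]
      rcases s3_cases _ _ _ φx3 φxne φσ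
        (by rw [← map_mul, ← map_mul, ασ] : φ α * φ σ = φ σ * φ α) with h | h
      · exact Or.inl (hwA (cube_of_image hox hC φ (by rw [map_mul, h, one_mul, φx3])
          (by rw [map_mul, h, one_mul]; exact φxne)))
      · refine Or.inr (Or.inl (hwB (cube_of_image hox hC φ ?_ ?_)))
        all_goals rw [map_mul, map_mul, h, ← map_mul φ σ σ, σ2, map_one, one_mul]
        exacts [φx3, φxne]
  · let φ : (H ⧸ Subgroup.zpowers rH) →* Equiv.Perm (Fin 5) :=
      ((alternatingGroup (Fin 5)).subtype.comp e.toMonoidHom).comp (QuotientGroup.mk' N)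
    have hker : ∀ {u}, u ∈ φ.ker → u ∈ N := fun {u} hu =>
      (QuotientGroup.eq_one_iff u).1 (e.map_eq_one_iff.1 (Subtype.ext hu))
    have hsgn : ∀ u, Equiv.Perm.sign (φ u) = 1 := fun u =>
      Equiv.Perm.mem_alternatingGroup.1 (e (QuotientGroup.mk' N u)).2
    have hsurj : ∀ p, Equiv.Perm.sign p = 1 → ∃ u, φ u = p := fun p hp => by
      obtain ⟨u, hu⟩ := QuotientGroup.mk'_surjective N
        (e.symm ⟨p, Equiv.Perm.mem_alternatingGroup.2 hp⟩)
      exact ⟨u, by show ((e (QuotientGroup.mk' N u) : alternatingGroup (Fin 5)) : _) = p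
                   rw [hu, e.apply_symm_apply]⟩
    have hab : ∀ u ∈ φ.ker, ∀ v ∈ φ.ker, u * v = v * u := fun u hu v hv =>
      congrArg Subtype.val (hNab.is_comm.comm ⟨u, hker hu⟩ ⟨v, hker hv⟩)
    have hsq : ∀ u ∈ φ.ker, u * u = 1 := fun u hu => by
      rw [← sq]; exact hN2 u (hker hu)
    have φx3 : φ x' ^ 3 = 1 := by rw [← map_pow, x'3, map_one]
    have φxne : φ x' ≠ 1 := fun h => by
      have h' := hker h
      have h2 := hN2 x' h'
      have := orderOf_dvd_of_pow_eq_one h2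
      rw [hox] at this
      norm_num at this
    have φσ : φ σ * φ x' * (φ σ)⁻¹ = (φ x')⁻¹ := by
      rw [← map_inv, ← map_mul, ← map_mul, σx, map_inv]
    have φσ2 : φ σ * φ σ = 1 := by rw [← map_mul, σ2, map_one]
    have φασ : φ α * φ σ = φ σ * φ α := by rw [← map_mul, ← map_mul, ασ]
    rcases a5_cases _ (hsgn x') φx3 φxne _ (hsgn σ) φσ φσ2 _ (hsgn α) φασ with
      ⟨h, h'⟩ | ⟨h, h'⟩ | ⟨h, h'⟩
    · exact Or.inl (hwA (cube_of_image hox hC φ (by rw [map_mul]; exact h)
        (by rw [map_mul]; exact h')))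
    · exact Or.inr (Or.inl (hwB (cube_of_image hox hC φ (by rw [map_mul, map_mul]; exact h)
        (by rw [map_mul, map_mul]; exact h'))))
    · refine Or.inr (Or.inr ⟨hval ((cH * xH) ^ 5) wK5 ?_ ?_, ?_⟩)
      · show (c * (s * a)) ^ 5 = _
        simp only [Gens.val, wK5, wC, wX, List.cons_append, List.nil_append, List.map_cons,
          List.map_nil, List.prod_cons, List.prod_nil, pow_succ, pow_zero, one_mul, mul_one,
          hc, hf, hs, ha, hP, hR, mul_assoc]
      · rw [map_pow, map_mul, ← hα, ← hx']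
        exact five_of hox hC φ hsurj hsgn hab hsq (by rw [map_mul]; exact h)
          (by rw [map_mul]; exact h')
      · have χ2 : χ * χ = 1 := by
          rw [hχ, ← map_mul, show sH * PH * (sH * PH) = rH from Subtype.ext hqq]
          exact (QuotientGroup.eq_one_iff _).2 (Subgroup.mem_zpowers rH)
        have χσ : χ * σ = σ * χ := by
          have h1 : χ * σ = σ * π PH * σ := by rw [hχ, hσ, map_mul]
          have hPs : π PH * σ = σ * π PH := by
            rw [hσ, ← map_mul, ← map_mul]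
            have e1 : PH * sH = rH * (sH * PH) := Subtype.ext (by
              show P * s = r * (s * P)
              rw [← mul_assoc, ← PsP]; group)
            rw [e1, map_mul π rH, show π rH = 1 from
              (QuotientGroup.eq_one_iff _).2 (Subgroup.mem_zpowers rH), one_mul]
          rw [h1, mul_assoc, hPs, hχ, hσ, map_mul]
        have χx : χ * (x' * χ * x'⁻¹) = x' * χ * x'⁻¹ * χ := by
          have h := D.relA _ wV
          simp only [wCom, wQ, wX, List.cons_append, List.nil_append, List.reverse_cons,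
            List.reverse_nil, List.map_cons, List.map_nil, List.prod_cons, List.prod_nil,
            mul_one] at h
          rw [← hs, ← hP, ← ha, ← hr] at h
          have e1 : ((sH * PH) * (xH * (sH * PH) * xH⁻¹) * (sH * PH)⁻¹ *
              (xH * (sH * PH) * xH⁻¹)⁻¹) * rH = 1 := Subtype.ext (by
            show s * P * (s * a * (s * P) * (s * a)⁻¹) * (s * P)⁻¹ *
              (s * a * (s * P) * (s * a)⁻¹)⁻¹ * r = 1
            simp only [mul_inv_rev, inv_inv, si, ai, Pi, mul_assoc]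
            exact h)
          have e2 := congrArg π e1
          rw [map_mul, show π rH = 1 from (QuotientGroup.eq_one_iff rH).2 (Subgroup.mem_zpowers rH), mul_one,
            map_one] at e2
          simp only [map_mul, map_inv] at e2
          rw [← hx', hσ.symm] at e2
          rw [hχ, map_mul, ← hσ]
          exact mul_inv_eq_one.1 (by rw [mul_inv_rev, ← mul_assoc]; exact e2)
        have hφχ : φ χ = 1 := a5_four _ (hsgn x') φx3 φxne _ (hsgn σ) φσ φσ2 _ (hsgn χ)
          (by rw [← map_mul, χ2, map_one]) (by rw [← map_mul, ← map_mul, χσ])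
          (by simp only [← map_inv, ← map_mul]; rw [χx])
        refine hval ((xH * (sH * PH) * xH⁻¹) * (cH * (sH * PH) * cH⁻¹) *
          (xH * (sH * PH) * xH⁻¹)⁻¹ * (cH * (sH * PH) * cH⁻¹)⁻¹) wK2 ?_ ?_
        · show (s * a * (s * P) * (s * a)⁻¹) * (c * (s * P) * c⁻¹) *
            (s * a * (s * P) * (s * a)⁻¹)⁻¹ * (c * (s * P) * c⁻¹)⁻¹ = _
          simp only [hc, hf, mul_inv_rev, inv_inv, si, ai, Pi, Ri]
          simp only [Gens.val, wK2, wCom, wC, wQ, wX, List.cons_append, List.nil_append,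
            List.reverse_cons, List.reverse_nil, List.map_cons,
            List.map_nil, List.prod_cons, List.prod_nil, mul_one, hs, ha, hP, hR, mul_assoc]
        · simp only [map_mul, map_inv]
          rw [← map_mul π sH PH, ← hχ, ← hx', ← hα]
          have e1 := hab (x' * χ * x'⁻¹) ((inferInstance : φ.ker.Normal).conj_mem χ hφχ x')
            (α * χ * α⁻¹) ((inferInstance : φ.ker.Normal).conj_mem χ hφχ α)
          rw [e1]; group
  · exfalso
    obtain ⟨e⟩ := e
    have χ2 : χ * χ = 1 := by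
      rw [hχ, ← map_mul, show sH * PH * (sH * PH) = rH from Subtype.ext hqq]
      exact (QuotientGroup.eq_one_iff _).2 (Subgroup.mem_zpowers rH)
    have σne : σ ≠ 1 := fun h => by
      apply x'ne
      have := σx
      rw [h, one_mul, inv_one, mul_one] at this
      have h4 : x' * x' = 1 := by nth_rewrite 2 [this]; exact mul_inv_cancel x'
      have h5 := x'3
      rwa [pow_succ, sq, h4, one_mul] at h5
    have χne : χ ≠ 1 := fun h => by
      rcases memR (hχ ▸ h) with h | h
      · apply rne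
        have h' : s * P = 1 := h
        rw [h', one_mul] at hqq
        exact hqq.symm
      · apply rne
        have h' : s * P = r := h
        rw [h', r2] at hqq
        exact hqq.symm
    have hc' := psl_seven_involutions (a := e σ) (b := e χ) (by rw [← map_mul, σ2, map_one])
      (fun h => σne (e.map_eq_one_iff.1 h)) (by rw [← map_mul, χ2, map_one])
      (fun h => χne (e.map_eq_one_iff.1 h))
    obtain ⟨u, hu⟩ := isConj_iff.1 hc'
    obtain ⟨v, rfl⟩ := e.surjective u
    rw [← map_inv, ← map_mul, ← map_mul] at hu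
    obtain ⟨v, rfl⟩ := QuotientGroup.mk'_surjective _ v
    have h1 : π (v * sH * v⁻¹ * (sH * PH)⁻¹) = 1 := by
      rw [map_mul, map_inv, map_mul, map_mul, map_inv, ← hσ, ← hχ]
      change (π v * σ * (π v)⁻¹) * χ⁻¹ = 1
      rw [mul_inv_eq_one]
      exact e.injective hu
    have key : ∀ k : G, k = 1 ∨ k = r → (v : G) * s * (v : G)⁻¹ = k * (s * P) → False := by
      intro k hk h
      apply rne
      have h3 : ((v : G) * s * (v : G)⁻¹) * ((v : G) * s * (v : G)⁻¹) = 1 := by
        calc _ = (v : G) * (s * s) * (v : G)⁻¹ := by group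
          _ = 1 := by rw [s2]; group
      rw [h] at h3
      rcases hk with hk | hk
      · rw [hk, one_mul, hqq] at h3; exact h3
      · rw [hk] at h3
        have hcm : (r : G) * (s * P) = s * P * r :=
          (Subgroup.mem_centralizer_singleton_iff.1 (sH * PH).2).symm
        rw [show r * (s * P) * (r * (s * P)) = r * ((s * P) * r) * (s * P) by group, ← hcm,
          show r * (r * (s * P)) * (s * P) = r * r * (s * P * (s * P)) by group, r2, one_mul,
          hqq] at h3
        exact h3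
    refine key _ (memR h1) ?_
    simp only [Subgroup.coe_mul, Subgroup.coe_inv]
    show _ = (v : G) * s * (v : G)⁻¹ * (s * P)⁻¹ * (s * P)
    group

end Cfsg.Agent.AmalgamThree19
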