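import Mathlib

/-!
Kernel-checkable certificates for coset enumeration in groups generated by involutions.

A certificate is a table of facts about a map `v : ℕ → X` (X a set with an action): a fact `(p, q, c)` says
`v p = v q` when `c = 0` and `g (c - 1) • v p = v q` otherwise. Every fact is justified by a path of
earlier facts spelling a relator, a subgroup generator, or a trivial word.
-/

set_option autoImplicit false

namespace Cfsg.Agent.CosetCertCore

/-- A binary tree of packed chunks of 256 entries. -/
inductive Tbl : Type
  | leaf (n : Nat) : Tbl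
  | node (l r : Tbl) : Tbl

/-- Evaluate `n` before passing it on (kernel evaluation aid). -/
noncomputable def force {β : Type} (n : Nat) (k : Nat → β) : β :=
  Nat.rec (motive := fun _ => β) (k 0) (fun m _ => k (m + 1)) n

theorem force_eq {β : Type} (n : Nat) (k : Nat → β) : force n k = k n := by
  cases n <;> rfl

/-- The chunk number `i` of a tree. -/
noncomputable def chunk (t : Tbl) : Nat → Nat :=
  Tbl.rec (motive := fun _ => Nat → Nat) (fun n _ => n)
    (fun _ _ l r i => force (Nat.shiftRight i 1) fun j =>
      cond (Nat.beq (Nat.land i 1) 0) (l j) (r j)) t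

/-- Entry `i` of a table with entries of `w` bits. -/
noncomputable def entry (t : Tbl) (w i : Nat) : Nat :=
  Nat.land (Nat.shiftRight (chunk t (Nat.shiftRight i 8)) (Nat.land i 255 * w)) (2 ^ w - 1)

/-- Letter code (0: equality, `x + 1`: generator `x`) of a packed fact. -/
def fc (e : Nat) : Nat := Nat.land e 15
/-- First endpoint of a packed fact. -/
def fp (e : Nat) : Nat := Nat.land (Nat.shiftRight e 4) 16777215
/-- Second endpoint of a packed fact. -/
def fq (e : Nat) : Nat := Nat.shiftRight e 28

/-- Follow `fuel` facts with indices packed in `pk` starting from `cur`, spelling exactly the word `W`. -/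
noncomputable def walk (F : Nat → Nat) (bound : Nat) :
    Nat → Nat → Nat → List Nat → Option Nat := fun fuel =>
  Nat.rec (motive := fun _ => Nat → Nat → List Nat → Option Nat)
    (fun _ cur W => List.rec (motive := fun _ => Option Nat) (some cur) (fun _ _ _ => none) W)
    (fun _ ih pk cur W =>
      force (Nat.land pk 1048575) fun f =>
      force (F f) fun e =>
      force (cond (Nat.beq cur (fp e)) (fq e) (fp e)) fun nx =>
      force (Nat.shiftRight pk 20) fun pk' =>
      cond (Nat.blt f bound && (Nat.beq cur (fp e) || Nat.beq cur (fq e)))
        (cond (Nat.beq (fc e) 0) (ih pk' nx W)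
          (List.rec (motive := fun _ => Option Nat) none
            (fun y r _ => cond (Nat.beq (y + 1) (fc e)) (ih pk' nx r) none) W))
        none) fuel

/-- Case analysis on an optional number as a Boolean. -/
def optAll (o : Option Nat) (k : Nat → Bool) : Bool :=
  match o with
  | none => false
  | some a => k a

/-- The static data of a certificate. -/
structure Cert where
  F : Tbl
  D : Tbl
  rels : List (List Nat)
  sgens : List (List Nat)

/-- Fact number `i`. -/
noncomputable def Cert.fact (C : Cert) (i : Nat) : Nat := entry C.F 64 i

/-- Check a path `p → mid → q` through the word `B` and then `A` (the letter of the fact completes `A`). -/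
noncomputable def splitCheck (C : Cert) (i e split len pk : Nat) (B A : List Nat) (k : Nat → Bool) : Bool :=
  optAll (walk C.fact i split pk (fp e) B) fun mid =>
    force mid fun m =>
    k m && optAll (walk C.fact i (len - split) (Nat.shiftRight pk (20 * split)) m A) fun r =>
      Nat.beq r (fq e)

/-- Check a word justification. -/
noncomputable def wordCheck (C : Cert) (i e rot split len pk : Nat) (w : List Nat) (k : Nat → Bool) : Bool :=
  cond (Nat.beq (fc e) 0) (splitCheck C i e split len pk (w.drop rot) (w.take rot) k)
    (Nat.blt 0 rot && Nat.ble rot w.length && Nat.beq (w.getD (rot - 1) 0 + 1) (fc e) &&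
      splitCheck C i e split len pk (w.drop rot) (w.take (rot - 1)) k)

/-- Check a justification `j` of fact `i` whose packed value is `e`. -/
noncomputable def justOk (C : Cert) (i e j : Nat) : Bool :=
  force (Nat.land j 255) fun code =>
  force (Nat.land (Nat.shiftRight j 8) 4095) fun rot =>
  force (Nat.land (Nat.shiftRight j 20) 4095) fun split =>
  force (Nat.land (Nat.shiftRight j 32) 4095) fun len =>
  force (Nat.shiftRight j 44) fun pk =>
  cond (Nat.beq code 0)
    (Nat.blt 0 (fc e) && Nat.blt (fp e) (fq e) && Nat.beq (entry C.D 32 (fq e)) i)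
    (cond (Nat.beq code 1)
      (optAll (walk C.fact i len pk (fp e) (cond (Nat.beq (fc e) 0) [] [fc e - 1]))
        fun r => Nat.beq r (fq e))
      (cond (Nat.beq code 2)
        (Nat.beq (fc e) 0 && optAll (walk C.fact i len pk (fp e) [rot, rot]) fun r => Nat.beq r (fq e))
        (cond (Nat.blt (code - 3) C.rels.length)
          (wordCheck C i e rot split len pk (C.rels.getD (code - 3) []) fun _ => true)
          (Nat.blt (code - 3 - C.rels.length) C.sgens.length &&
            wordCheck C i e rot split len pk (C.sgens.getD (code - 3 - C.rels.length) [])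
              fun m => Nat.beq m 0))))

/-- Check the justifications `L` of the facts numbered from `lo` on. -/
noncomputable def checkList (C : Cert) (L : List Nat) : Nat → Bool :=
  List.rec (motive := fun _ => Nat → Bool) (fun _ => true)
    (fun j _ ih i => force (C.fact i) (fun e => justOk C i e j) && force (i + 1) ih) L

theorem walk_zero (F : Nat → Nat) (bound pk cur : Nat) (W : List Nat) :
    walk F bound 0 pk cur W = if W = [] then some cur else none := by
  cases W <;> rfl

/-- One step of `walk`. -/
noncomputable def stepTo (F : Nat → Nat) (f cur : Nat) : Nat :=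
  cond (Nat.beq cur (fp (F f))) (fq (F f)) (fp (F f))

theorem walk_succ_nil (F : Nat → Nat) (bound n pk cur : Nat) :
    walk F bound (n + 1) pk cur [] =
      cond (Nat.blt (Nat.land pk 1048575) bound &&
          (Nat.beq cur (fp (F (Nat.land pk 1048575))) || Nat.beq cur (fq (F (Nat.land pk 1048575)))))
        (cond (Nat.beq (fc (F (Nat.land pk 1048575))) 0)
          (walk F bound n (Nat.shiftRight pk 20) (stepTo F (Nat.land pk 1048575) cur) []) none)
        none := by
  simp only [walk, stepTo, force_eq]

theorem walk_succ_cons (F : Nat → Nat) (bound n pk cur y : Nat) (t : List Nat) :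
    walk F bound (n + 1) pk cur (y :: t) =
      cond (Nat.blt (Nat.land pk 1048575) bound &&
          (Nat.beq cur (fp (F (Nat.land pk 1048575))) || Nat.beq cur (fq (F (Nat.land pk 1048575)))))
        (cond (Nat.beq (fc (F (Nat.land pk 1048575))) 0)
          (walk F bound n (Nat.shiftRight pk 20) (stepTo F (Nat.land pk 1048575) cur) (y :: t))
          (cond (Nat.beq (y + 1) (fc (F (Nat.land pk 1048575))))
            (walk F bound n (Nat.shiftRight pk 20) (stepTo F (Nat.land pk 1048575) cur) t) none))
        none := by
  simp only [walk, stepTo, force_eq]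

theorem checkList_cons (C : Cert) (j : Nat) (t : List Nat) (i : Nat) :
    checkList C (j :: t) i = (justOk C i (C.fact i) j && checkList C t (i + 1)) := by
  simp only [checkList, force_eq]

section Semantics

variable {G X : Type*} [Group G] [MulAction G X] (g : Nat → G)

/-- Act successively by the letters of a word. -/
def act (w : List Nat) (a : X) : X := w.foldl (fun a x => g x • a) a

/-- The product of the letters of a word. -/
def val (w : List Nat) : G := (w.map g).prod

theorem val_nil : val g [] = 1 := rfl

theorem val_cons (x : Nat) (w : List Nat) : val g (x :: w) = g x * val g w := by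
  simp [val]

theorem act_nil (a : X) : act g [] a = a := rfl

theorem act_cons (x : Nat) (w : List Nat) (a : X) : act g (x :: w) a = act g w (g x • a) := rfl

theorem act_append (w₁ w₂ : List Nat) (a : X) : act g (w₁ ++ w₂) a = act g w₂ (act g w₁ a) := by
  simp [act, List.foldl_append]

theorem inv_of_sq (hg : ∀ x, g x * g x = 1) (x : Nat) : (g x)⁻¹ = g x :=
  inv_eq_of_mul_eq_one_right (hg x)

theorem act_eq (hg : ∀ x, g x * g x = 1) (w : List Nat) (a : X) :
    act g w a = (val g w)⁻¹ • a := by
  induction w generalizing a with
  | nil => simp [act, val]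
  | cons x w ih => rw [act_cons, ih, val_cons, mul_inv_rev, inv_of_sq g hg, mul_smul]

theorem act_rel (hg : ∀ x, g x * g x = 1) {w : List Nat} (hw : val g w = 1) (a : X) :
    act g w a = a := by
  rw [act_eq g hg, hw, inv_one, one_smul]

theorem smul_self (hg : ∀ x, g x * g x = 1) (x : Nat) (a : X) : g x • (g x • a) = a := by
  rw [smul_smul, hg, one_smul]

theorem act_inj (hg : ∀ x, g x * g x = 1) (w : List Nat) {a b : X} (h : act g w a = act g w b) :
    a = b := by
  rw [act_eq g hg, act_eq g hg] at h
  exact MulAction.injective _ h

variable (v : Nat → X)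

/-- Meaning of a packed fact. -/
def Sem (e : Nat) : Prop :=
  if fc e = 0 then v (fp e) = v (fq e) else g (fc e - 1) • v (fp e) = v (fq e)

/-- All facts below `n` hold. -/
def AllValid (C : Cert) (n : Nat) : Prop := ∀ i < n, Sem g v (C.fact i)

theorem walk_sound (hg : ∀ x, g x * g x = 1) (F : Nat → Nat) (bound : Nat)
    (hF : ∀ i < bound, Sem g v (F i)) :
    ∀ (fuel pk cur : Nat) (W : List Nat) (r : Nat),
      walk F bound fuel pk cur W = some r → act g W (v cur) = v r := by
  intro fuel
  induction fuel with
  | zero =>
    intro pk cur W r h
    rw [walk_zero] at h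
    split at h
    · rename_i hW
      subst hW
      simp only [Option.some.injEq] at h
      rw [h, act_nil]
    · simp at h
  | succ n ih =>
    intro pk cur W r h
    have key : ∀ y, (Nat.blt (Nat.land pk 1048575) bound = true) →
        (Nat.beq cur (fp (F (Nat.land pk 1048575))) ||
          Nat.beq cur (fq (F (Nat.land pk 1048575)))) = true →
        (fc (F (Nat.land pk 1048575)) = 0 → v (stepTo F (Nat.land pk 1048575) cur) = v cur) ∧
        (y + 1 = fc (F (Nat.land pk 1048575)) →
          v (stepTo F (Nat.land pk 1048575) cur) = g y • v cur) := by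
      intro y hb hor
      generalize Nat.land pk 1048575 = f at hb hor ⊢
      have hs := hF f (Nat.blt_eq.mp hb)
      simp only [Bool.or_eq_true, Nat.beq_eq] at hor
      unfold Sem at hs
      unfold stepTo
      refine ⟨fun h0 => ?_, fun hy => ?_⟩
      · rw [if_pos h0] at hs
        by_cases hp : cur = fp (F f)
        · rw [Nat.beq_eq.mpr hp, cond_true, hp]; exact hs.symm
        · have hb2 : Nat.beq cur (fp (F f)) = false := by
            rw [← Bool.not_eq_true, Nat.beq_eq]; exact hp
          rw [hb2, cond_false, hor.resolve_left hp]; exact hs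
      · rw [if_neg (by omega), show fc (F f) - 1 = y by omega] at hs
        by_cases hp : cur = fp (F f)
        · rw [Nat.beq_eq.mpr hp, cond_true, hp]; exact hs.symm
        · have hb2 : Nat.beq cur (fp (F f)) = false := by
            rw [← Bool.not_eq_true, Nat.beq_eq]; exact hp
          rw [hb2, cond_false, hor.resolve_left hp, ← hs, smul_self g hg]
    cases W with
    | nil =>
      rw [walk_succ_nil] at h
      simp only [Bool.cond_eq_ite, Bool.and_eq_true] at h
      split at h
      · rename_i hc
        split at h
        · rename_i h0
          rw [← ih _ _ _ _ h, (key 0 hc.1 hc.2).1 (Nat.beq_eq.mp h0)]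
        · simp at h
      · simp at h
    | cons y t =>
      rw [walk_succ_cons] at h
      simp only [Bool.cond_eq_ite, Bool.and_eq_true] at h
      split at h
      · rename_i hc
        split at h
        · rename_i h0
          rw [← ih _ _ _ _ h, (key 0 hc.1 hc.2).1 (Nat.beq_eq.mp h0)]
        · split at h
          · rename_i hy
            rw [act_cons, ← ih _ _ _ _ h, (key y hc.1 hc.2).2 (Nat.beq_eq.mp hy)]
          · simp at h
      · simp at h

theorem optAll_eq_true {o : Option Nat} {k : Nat → Bool} (h : optAll o k = true) :
    ∃ r, o = some r ∧ k r = true := by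
  cases o with
  | none => simp [optAll] at h
  | some a => exact ⟨a, rfl, h⟩

theorem take_succ_getD (w : List Nat) {r : Nat} (h0 : 0 < r) (h1 : r ≤ w.length) :
    w.take r = w.take (r - 1) ++ [w.getD (r - 1) 0] := by
  obtain ⟨s, rfl⟩ : ∃ s, r = s + 1 := ⟨r - 1, by omega⟩
  rw [Nat.add_sub_cancel, List.take_succ_eq_append_getElem (by omega)]
  rw [List.getD_eq_getElem _ _ (by omega)]

theorem splitCheck_sound (hg : ∀ x, g x * g x = 1) (C : Cert) {i : Nat} (hv : AllValid g v C i)
    {e split len pk : Nat} {B A : List Nat} {k : Nat → Bool}
    (h : splitCheck C i e split len pk B A k = true) :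
    ∃ mid, k mid = true ∧ act g B (v (fp e)) = v mid ∧ act g A (v mid) = v (fq e) := by
  obtain ⟨mid, hm, h⟩ := optAll_eq_true h
  rw [force_eq, Bool.and_eq_true] at h
  obtain ⟨r, hr, h2⟩ := optAll_eq_true h.2
  refine ⟨mid, h.1, walk_sound g v hg C.fact i hv _ _ _ _ _ hm, ?_⟩
  rw [walk_sound g v hg C.fact i hv _ _ _ _ _ hr, Nat.beq_eq.mp h2]

/-- Core of the soundness of a word justification. -/
theorem wordCheck_sound (hg : ∀ x, g x * g x = 1) (C : Cert) {i : Nat} (hv : AllValid g v C i)
    {e rot split len pk : Nat} {w : List Nat} {k : Nat → Bool}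
    (hk : ∀ m, k m = true → act g w (v m) = v m)
    (h : wordCheck C i e rot split len pk w k = true) : Sem g v e := by
  unfold wordCheck at h
  unfold Sem
  by_cases h0 : fc e = 0
  · rw [h0] at h
    simp only [Nat.beq_refl, cond_true] at h
    obtain ⟨mid, hm, hB, hA⟩ := splitCheck_sound g v hg C hv h
    rw [if_pos h0]
    have hw := hk mid hm
    rw [← List.take_append_drop rot w, act_append, hA] at hw
    exact act_inj g hg (w.drop rot) (hB.trans hw.symm)
  · have hb : Nat.beq (fc e) 0 = false := by
      rw [← Bool.not_eq_true, Nat.beq_eq]; exact h0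
    rw [hb] at h
    simp only [cond_false, Bool.and_eq_true, Nat.blt_eq, Nat.ble_eq, Nat.beq_eq] at h
    obtain ⟨⟨⟨h1, h2⟩, h3⟩, h4⟩ := h
    obtain ⟨mid, hm, hB, hA⟩ := splitCheck_sound g v hg C hv h4
    rw [if_neg h0]
    have hw := hk mid hm
    rw [← List.take_append_drop rot w, act_append, take_succ_getD w h1 h2, act_append, hA] at hw
    have : act g [w.getD (rot - 1) 0] (v (fq e)) = v (fp e) :=
      act_inj g hg (w.drop rot) (hw.trans hB.symm)
    rw [act_cons, act_nil, show w.getD (rot - 1) 0 = fc e - 1 by omega] at this
    rw [← this, smul_self g hg]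

variable (base : X)

/-- The hypotheses under which a certificate is sound. -/
structure Ctx (C : Cert) : Prop where
  invol : ∀ x, g x * g x = 1
  rels : ∀ w ∈ C.rels, val g w = 1
  sgens : ∀ w ∈ C.sgens, act g w base = base

/-- The map from nodes to points: follow the definition facts down to node 0. -/
noncomputable def nodeVal (C : Cert) : Nat → X :=
  Nat.strongRec fun n ih =>
    if h : fp (C.fact (entry C.D 32 n)) < n then
      g (fc (C.fact (entry C.D 32 n)) - 1) • ih _ h
    else base

theorem nodeVal_eq (C : Cert) (n : Nat) : nodeVal g base C n =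
    if fp (C.fact (entry C.D 32 n)) < n then
      g (fc (C.fact (entry C.D 32 n)) - 1) • nodeVal g base C (fp (C.fact (entry C.D 32 n)))
    else base := by
  conv_lhs => unfold nodeVal; rw [Nat.strongRec_eq]
  split <;> rfl

theorem nodeVal_zero (C : Cert) : nodeVal g base C 0 = base := by
  rw [nodeVal_eq, if_neg (Nat.not_lt_zero _)]

theorem justOk_sound {C : Cert} (hC : Ctx g base C) {i j : Nat}
    (hv : AllValid g (nodeVal g base C) C i) (h : justOk C i (C.fact i) j = true) :
    Sem g (nodeVal g base C) (C.fact i) := by
  simp only [justOk, force_eq] at h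
  generalize hcode : Nat.land j 255 = code at h
  generalize hrot : Nat.land (Nat.shiftRight j 8) 4095 = rot at h
  generalize hsplit : Nat.land (Nat.shiftRight j 20) 4095 = split at h
  generalize hlen : Nat.land (Nat.shiftRight j 32) 4095 = len at h
  generalize hpk : Nat.shiftRight j 44 = pk at h
  cases hc0 : Nat.beq code 0 with
  | true =>
    rw [hc0] at h
    simp only [cond_true, Bool.and_eq_true, Nat.blt_eq, Nat.beq_eq] at h
    obtain ⟨⟨h1, h2⟩, h3⟩ := h
    unfold Sem
    rw [if_neg (by omega), nodeVal_eq g base C (fq (C.fact i)), h3, if_pos h2]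
  | false =>
    rw [hc0] at h
    cases hc1 : Nat.beq code 1 with
    | true =>
      rw [hc1] at h
      obtain ⟨r, hr, hq⟩ := optAll_eq_true (by simpa only [cond_true, cond_false] using h)
      have hw := walk_sound g _ hC.invol C.fact i hv _ _ _ _ _ hr
      rw [Nat.beq_eq.mp hq] at hw
      unfold Sem
      by_cases h0 : fc (C.fact i) = 0
      · rw [if_pos h0]; simpa [h0, act] using hw
      · have hb : Nat.beq (fc (C.fact i)) 0 = false := by
          rw [← Bool.not_eq_true, Nat.beq_eq]; exact h0
        rw [if_neg h0]; simpa [hb, act] using hw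
    | false =>
      rw [hc1] at h
      cases hc2 : Nat.beq code 2 with
      | true =>
        rw [hc2] at h
        simp only [cond_true, cond_false, Bool.and_eq_true, Nat.beq_eq] at h
        obtain ⟨r, hr, hq⟩ := optAll_eq_true h.2
        have hw := walk_sound g _ hC.invol C.fact i hv _ _ _ _ _ hr
        rw [Nat.beq_eq.mp hq] at hw
        unfold Sem
        rw [if_pos h.1, ← hw, act_cons, act_cons, act_nil, smul_self g hC.invol]
      | false =>
        rw [hc2] at h
        simp only [cond_false] at h
        cases hr : Nat.blt (code - 3) C.rels.length with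
        | true =>
          rw [hr] at h
          simp only [cond_true] at h
          refine wordCheck_sound g _ hC.invol C hv (fun m _ => ?_) h
          apply act_rel g hC.invol
          apply hC.rels
          rw [Nat.blt_eq] at hr
          rw [List.getD_eq_getElem _ _ hr]
          exact List.getElem_mem hr
        | false =>
          rw [hr] at h
          simp only [cond_false, Bool.and_eq_true, Nat.blt_eq] at h
          refine wordCheck_sound g _ hC.invol C hv (fun m hm => ?_) h.2
          rw [Nat.beq_eq.mp hm, nodeVal_zero]
          apply hC.sgens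
          rw [List.getD_eq_getElem _ _ h.1]
          exact List.getElem_mem h.1

theorem checkList_sound {C : Cert} (hC : Ctx g base C) :
    ∀ (L : List Nat) (lo : Nat), AllValid g (nodeVal g base C) C lo → checkList C L lo = true →
      AllValid g (nodeVal g base C) C (lo + L.length) := by
  intro L
  induction L with
  | nil => intro lo h _; simpa using h
  | cons j t ih =>
    intro lo hv h
    rw [checkList_cons, Bool.and_eq_true] at h
    have hs := justOk_sound g base hC hv h.1
    have hv' : AllValid g (nodeVal g base C) C (lo + 1) := by
      intro k hk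
      rcases Nat.lt_succ_iff_lt_or_eq.mp hk with hk | hk
      · exact hv k hk
      · rw [hk]; exact hs
    have := ih (lo + 1) hv' h.2
    rw [List.length_cons, show lo + (t.length + 1) = lo + 1 + t.length by omega]
    exact this

end Semantics

end Cfsg.Agent.CosetCertCore
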