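import Cfsg.Agent.Lib.AmalgamThree19Cases
import Cfsg.Agent.Lib.CosetCertCore

/-!
A closed certificate bounds the number of cosets of the first parabolic subgroup.
-/

set_option autoImplicit false
set_option maxRecDepth 100000

namespace Cfsg.Agent.AmalgamThree19

open Cfsg.Agent.CosetCertCore

/-- The check of one edge of the closed table. -/
noncomputable def closedEdge (C : Cert) (n m : Nat) (nodes nbr : Tbl) (p x : Nat) : Bool :=
  force (entry nodes 32 p) fun a =>
  force (entry nbr 44 (p * 6 + x)) fun e =>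
  force (Nat.land e 1048575) fun q =>
  force (Nat.shiftRight e 20) fun i =>
  force (entry nodes 32 q) fun b =>
  force (C.fact i) fun f =>
  Nat.blt q n && Nat.blt i m && Nat.beq (fc f) (x + 1) &&
    ((Nat.beq (fp f) a && Nat.beq (fq f) b) || (Nat.beq (fp f) b && Nat.beq (fq f) a))

/-- The check of the whole table. -/
noncomputable def closedCheck (C : Cert) (n m : Nat) (nodes nbr : Tbl) : Bool :=
  Nat.beq (entry nodes 32 0) 0 && Nat.blt 0 n &&
    (List.range n).all fun p => (List.range 6).all fun x => closedEdge C n m nodes nbr p x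

/-- Six involutions generating a group, the first five of them lying in the subgroup. -/
structure Six (G : Type*) [Group G] (K : Subgroup G) where
  g : ℕ → G
  invol : ∀ i, g i * g i = 1
  big : ∀ i, 6 ≤ i → g i = 1
  closure_top : Subgroup.closure (Set.range g) = ⊤

/-- The six generators of the amalgam. -/
def Gens.six {G : Type*} [Group G] (D : Gens G) : Six G D.A :=
  ⟨D.g, D.invol, D.big, D.closure_top⟩

theorem card_quotient_le {G : Type*} [Group G] {K : Subgroup G} (D : Six G K) (C : Cert)
    (nodes nbr : Tbl) (n m : Nat) (h : ∀ w ∈ C.rels, (w.map D.g).prod = 1)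
    (hs : ∀ w ∈ C.sgens, ∃ i, D.g i ∈ K ∧ w = [i])
    (hvalid : ∀ base : G ⧸ K, Ctx D.g base C → AllValid D.g (nodeVal D.g base C) C m)
    (hclosed : closedCheck C n m nodes nbr = true) : Nat.card (G ⧸ K) ≤ n := by
  set base : G ⧸ K := ((1 : G) : G ⧸ K) with hbase
  have hctx : Ctx D.g base C := by
    refine ⟨D.invol, fun w hw => h w hw, fun w hw => ?_⟩
    obtain ⟨i, hi, rfl⟩ := hs w hw
    rw [act_cons, act_nil, hbase, MulAction.Quotient.smul_mk, smul_eq_mul, mul_one,
      QuotientGroup.eq, mul_one]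
    exact inv_mem hi
  have hv : AllValid D.g (nodeVal D.g base C) C m := hvalid base hctx
  simp only [closedCheck, Bool.and_eq_true, List.all_eq_true, List.mem_range, Nat.beq_eq,
    Nat.blt_eq] at hclosed
  obtain ⟨⟨h0, hn⟩, hedge⟩ := hclosed
  let pt : Fin n → G ⧸ K := fun p => nodeVal D.g base C (entry nodes 32 p.1)
  have hstep : ∀ k, k < 6 → ∀ p : Fin n, ∃ q, D.g k • pt p = pt q := by
    intro k hk p
    have he := hedge p.1 p.2 k hk
    simp only [closedEdge, force_eq, Bool.and_eq_true, Bool.or_eq_true, Nat.blt_eq,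
      Nat.beq_eq] at he
    obtain ⟨⟨⟨hq, hi⟩, hx⟩, hor⟩ := he
    refine ⟨⟨_, hq⟩, ?_⟩
    have hs := hv _ hi
    unfold Sem at hs
    rw [hx, if_neg (by omega), Nat.add_sub_cancel] at hs
    rcases hor with ⟨ha, hb⟩ | ⟨hb, ha⟩
    · rw [ha, hb] at hs; exact hs
    · rw [ha, hb] at hs
      exact (congrArg (D.g k • ·) hs).symm.trans (smul_self D.g D.invol k _)
  have hclosed' : ∀ k, ∀ s ∈ Set.range pt, D.g k • s ∈ Set.range pt := by
    rintro k _ ⟨p, rfl⟩
    by_cases hk : k < 6
    · obtain ⟨q, hq⟩ := hstep k hk p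
      exact ⟨q, hq.symm⟩
    · exact ⟨p, by rw [D.big k (by omega), one_smul]⟩
  have hall : ∀ u ∈ Subgroup.closure (Set.range D.g), ∀ s ∈ Set.range pt,
      u • s ∈ Set.range pt ∧ u⁻¹ • s ∈ Set.range pt := by
    intro u hu
    induction hu using Subgroup.closure_induction with
    | mem u hu =>
      obtain ⟨k, rfl⟩ := hu
      intro s hs
      rw [inv_of_sq D.g D.invol]
      exact ⟨hclosed' k s hs, hclosed' k s hs⟩
    | one => intro s hs; simp [hs]
    | mul a c _ _ iha ihc =>
      intro s hs
      rw [mul_smul, mul_inv_rev, mul_smul]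
      exact ⟨(iha _ (ihc s hs).1).1, (ihc _ (iha s hs).2).2⟩
    | inv a _ iha => intro s hs; rw [inv_inv]; exact ⟨(iha s hs).2, (iha s hs).1⟩
  have hsurj : Function.Surjective pt := by
    intro s
    induction s using QuotientGroup.induction_on with
    | _ u =>
      have hp : pt ⟨0, hn⟩ = base := by
        simp only [pt, h0]; exact nodeVal_zero D.g base C
      obtain ⟨q, hq⟩ := (hall u (D.closure_top ▸ Subgroup.mem_top u) base ⟨_, hp⟩).1
      refine ⟨q, hq.trans ?_⟩
      rw [hbase, MulAction.Quotient.smul_mk, smul_eq_mul, mul_one]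
  have := Nat.card_le_card_of_surjective pt hsurj
  rwa [Nat.card_fin] at this

end Cfsg.Agent.AmalgamThree19
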