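import Cfsg.Agent.Lib.AmalgamThree19CertA0C0
import Cfsg.Agent.Lib.AmalgamThree19CertA0C1
import Cfsg.Agent.Lib.AmalgamThree19CertA0C2
import Cfsg.Agent.Lib.AmalgamThree19CertA0C3
import Cfsg.Agent.Lib.AmalgamThree19CertA0C4
import Cfsg.Agent.Lib.AmalgamThree19Closed

/-! The certificate is valid and closed. -/

set_option autoImplicit false
set_option maxRecDepth 100000
set_option Elab.async false

namespace Cfsg.Agent.AmalgamThree19CertA0

open Cfsg.Agent.CosetCertCore Cfsg.Agent.AmalgamThree19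

theorem all_valid {G X : Type*} [Group G] [MulAction G X] (g : Nat → G) (base : X)
    (h : Ctx g base cert) : AllValid g (nodeVal g base cert) cert 10052 := by
  have h0 : AllValid g (nodeVal g base cert) cert 0 := fun _ hi => absurd hi (Nat.not_lt_zero _)
  have h1 := checkList_sound g base h Cfsg.Agent.AmalgamThree19CertA0C0.just0 0 h0 Cfsg.Agent.AmalgamThree19CertA0C0.check0
  rw [Cfsg.Agent.AmalgamThree19CertA0C0.len0] at h1
  have h2 := checkList_sound g base h Cfsg.Agent.AmalgamThree19CertA0C0.just1 256 h1 Cfsg.Agent.AmalgamThree19CertA0C0.check1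
  rw [Cfsg.Agent.AmalgamThree19CertA0C0.len1] at h2
  have h3 := checkList_sound g base h Cfsg.Agent.AmalgamThree19CertA0C0.just2 512 h2 Cfsg.Agent.AmalgamThree19CertA0C0.check2
  rw [Cfsg.Agent.AmalgamThree19CertA0C0.len2] at h3
  have h4 := checkList_sound g base h Cfsg.Agent.AmalgamThree19CertA0C0.just3 768 h3 Cfsg.Agent.AmalgamThree19CertA0C0.check3
  rw [Cfsg.Agent.AmalgamThree19CertA0C0.len3] at h4
  have h5 := checkList_sound g base h Cfsg.Agent.AmalgamThree19CertA0C0.just4 1024 h4 Cfsg.Agent.AmalgamThree19CertA0C0.check4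
  rw [Cfsg.Agent.AmalgamThree19CertA0C0.len4] at h5
  have h6 := checkList_sound g base h Cfsg.Agent.AmalgamThree19CertA0C0.just5 1280 h5 Cfsg.Agent.AmalgamThree19CertA0C0.check5
  rw [Cfsg.Agent.AmalgamThree19CertA0C0.len5] at h6
  have h7 := checkList_sound g base h Cfsg.Agent.AmalgamThree19CertA0C0.just6 1536 h6 Cfsg.Agent.AmalgamThree19CertA0C0.check6
  rw [Cfsg.Agent.AmalgamThree19CertA0C0.len6] at h7
  have h8 := checkList_sound g base h Cfsg.Agent.AmalgamThree19CertA0C0.just7 1792 h7 Cfsg.Agent.AmalgamThree19CertA0C0.check7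
  rw [Cfsg.Agent.AmalgamThree19CertA0C0.len7] at h8
  have h9 := checkList_sound g base h Cfsg.Agent.AmalgamThree19CertA0C1.just8 2048 h8 Cfsg.Agent.AmalgamThree19CertA0C1.check8
  rw [Cfsg.Agent.AmalgamThree19CertA0C1.len8] at h9
  have h10 := checkList_sound g base h Cfsg.Agent.AmalgamThree19CertA0C1.just9 2304 h9 Cfsg.Agent.AmalgamThree19CertA0C1.check9
  rw [Cfsg.Agent.AmalgamThree19CertA0C1.len9] at h10
  have h11 := checkList_sound g base h Cfsg.Agent.AmalgamThree19CertA0C1.just10 2560 h10 Cfsg.Agent.AmalgamThree19CertA0C1.check10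
  rw [Cfsg.Agent.AmalgamThree19CertA0C1.len10] at h11
  have h12 := checkList_sound g base h Cfsg.Agent.AmalgamThree19CertA0C1.just11 2816 h11 Cfsg.Agent.AmalgamThree19CertA0C1.check11
  rw [Cfsg.Agent.AmalgamThree19CertA0C1.len11] at h12
  have h13 := checkList_sound g base h Cfsg.Agent.AmalgamThree19CertA0C1.just12 3072 h12 Cfsg.Agent.AmalgamThree19CertA0C1.check12
  rw [Cfsg.Agent.AmalgamThree19CertA0C1.len12] at h13
  have h14 := checkList_sound g base h Cfsg.Agent.AmalgamThree19CertA0C1.just13 3328 h13 Cfsg.Agent.AmalgamThree19CertA0C1.check13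
  rw [Cfsg.Agent.AmalgamThree19CertA0C1.len13] at h14
  have h15 := checkList_sound g base h Cfsg.Agent.AmalgamThree19CertA0C1.just14 3584 h14 Cfsg.Agent.AmalgamThree19CertA0C1.check14
  rw [Cfsg.Agent.AmalgamThree19CertA0C1.len14] at h15
  have h16 := checkList_sound g base h Cfsg.Agent.AmalgamThree19CertA0C1.just15 3840 h15 Cfsg.Agent.AmalgamThree19CertA0C1.check15
  rw [Cfsg.Agent.AmalgamThree19CertA0C1.len15] at h16
  have h17 := checkList_sound g base h Cfsg.Agent.AmalgamThree19CertA0C2.just16 4096 h16 Cfsg.Agent.AmalgamThree19CertA0C2.check16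
  rw [Cfsg.Agent.AmalgamThree19CertA0C2.len16] at h17
  have h18 := checkList_sound g base h Cfsg.Agent.AmalgamThree19CertA0C2.just17 4352 h17 Cfsg.Agent.AmalgamThree19CertA0C2.check17
  rw [Cfsg.Agent.AmalgamThree19CertA0C2.len17] at h18
  have h19 := checkList_sound g base h Cfsg.Agent.AmalgamThree19CertA0C2.just18 4608 h18 Cfsg.Agent.AmalgamThree19CertA0C2.check18
  rw [Cfsg.Agent.AmalgamThree19CertA0C2.len18] at h19
  have h20 := checkList_sound g base h Cfsg.Agent.AmalgamThree19CertA0C2.just19 4864 h19 Cfsg.Agent.AmalgamThree19CertA0C2.check19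
  rw [Cfsg.Agent.AmalgamThree19CertA0C2.len19] at h20
  have h21 := checkList_sound g base h Cfsg.Agent.AmalgamThree19CertA0C2.just20 5120 h20 Cfsg.Agent.AmalgamThree19CertA0C2.check20
  rw [Cfsg.Agent.AmalgamThree19CertA0C2.len20] at h21
  have h22 := checkList_sound g base h Cfsg.Agent.AmalgamThree19CertA0C2.just21 5376 h21 Cfsg.Agent.AmalgamThree19CertA0C2.check21
  rw [Cfsg.Agent.AmalgamThree19CertA0C2.len21] at h22
  have h23 := checkList_sound g base h Cfsg.Agent.AmalgamThree19CertA0C2.just22 5632 h22 Cfsg.Agent.AmalgamThree19CertA0C2.check22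
  rw [Cfsg.Agent.AmalgamThree19CertA0C2.len22] at h23
  have h24 := checkList_sound g base h Cfsg.Agent.AmalgamThree19CertA0C2.just23 5888 h23 Cfsg.Agent.AmalgamThree19CertA0C2.check23
  rw [Cfsg.Agent.AmalgamThree19CertA0C2.len23] at h24
  have h25 := checkList_sound g base h Cfsg.Agent.AmalgamThree19CertA0C3.just24 6144 h24 Cfsg.Agent.AmalgamThree19CertA0C3.check24
  rw [Cfsg.Agent.AmalgamThree19CertA0C3.len24] at h25
  have h26 := checkList_sound g base h Cfsg.Agent.AmalgamThree19CertA0C3.just25 6400 h25 Cfsg.Agent.AmalgamThree19CertA0C3.check25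
  rw [Cfsg.Agent.AmalgamThree19CertA0C3.len25] at h26
  have h27 := checkList_sound g base h Cfsg.Agent.AmalgamThree19CertA0C3.just26 6656 h26 Cfsg.Agent.AmalgamThree19CertA0C3.check26
  rw [Cfsg.Agent.AmalgamThree19CertA0C3.len26] at h27
  have h28 := checkList_sound g base h Cfsg.Agent.AmalgamThree19CertA0C3.just27 6912 h27 Cfsg.Agent.AmalgamThree19CertA0C3.check27
  rw [Cfsg.Agent.AmalgamThree19CertA0C3.len27] at h28
  have h29 := checkList_sound g base h Cfsg.Agent.AmalgamThree19CertA0C3.just28 7168 h28 Cfsg.Agent.AmalgamThree19CertA0C3.check28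
  rw [Cfsg.Agent.AmalgamThree19CertA0C3.len28] at h29
  have h30 := checkList_sound g base h Cfsg.Agent.AmalgamThree19CertA0C3.just29 7424 h29 Cfsg.Agent.AmalgamThree19CertA0C3.check29
  rw [Cfsg.Agent.AmalgamThree19CertA0C3.len29] at h30
  have h31 := checkList_sound g base h Cfsg.Agent.AmalgamThree19CertA0C3.just30 7680 h30 Cfsg.Agent.AmalgamThree19CertA0C3.check30
  rw [Cfsg.Agent.AmalgamThree19CertA0C3.len30] at h31
  have h32 := checkList_sound g base h Cfsg.Agent.AmalgamThree19CertA0C3.just31 7936 h31 Cfsg.Agent.AmalgamThree19CertA0C3.check31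
  rw [Cfsg.Agent.AmalgamThree19CertA0C3.len31] at h32
  have h33 := checkList_sound g base h Cfsg.Agent.AmalgamThree19CertA0C4.just32 8192 h32 Cfsg.Agent.AmalgamThree19CertA0C4.check32
  rw [Cfsg.Agent.AmalgamThree19CertA0C4.len32] at h33
  have h34 := checkList_sound g base h Cfsg.Agent.AmalgamThree19CertA0C4.just33 8448 h33 Cfsg.Agent.AmalgamThree19CertA0C4.check33
  rw [Cfsg.Agent.AmalgamThree19CertA0C4.len33] at h34
  have h35 := checkList_sound g base h Cfsg.Agent.AmalgamThree19CertA0C4.just34 8704 h34 Cfsg.Agent.AmalgamThree19CertA0C4.check34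
  rw [Cfsg.Agent.AmalgamThree19CertA0C4.len34] at h35
  have h36 := checkList_sound g base h Cfsg.Agent.AmalgamThree19CertA0C4.just35 8960 h35 Cfsg.Agent.AmalgamThree19CertA0C4.check35
  rw [Cfsg.Agent.AmalgamThree19CertA0C4.len35] at h36
  have h37 := checkList_sound g base h Cfsg.Agent.AmalgamThree19CertA0C4.just36 9216 h36 Cfsg.Agent.AmalgamThree19CertA0C4.check36
  rw [Cfsg.Agent.AmalgamThree19CertA0C4.len36] at h37
  have h38 := checkList_sound g base h Cfsg.Agent.AmalgamThree19CertA0C4.just37 9472 h37 Cfsg.Agent.AmalgamThree19CertA0C4.check37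
  rw [Cfsg.Agent.AmalgamThree19CertA0C4.len37] at h38
  have h39 := checkList_sound g base h Cfsg.Agent.AmalgamThree19CertA0C4.just38 9728 h38 Cfsg.Agent.AmalgamThree19CertA0C4.check38
  rw [Cfsg.Agent.AmalgamThree19CertA0C4.len38] at h39
  have h40 := checkList_sound g base h Cfsg.Agent.AmalgamThree19CertA0C4.just39 9984 h39 Cfsg.Agent.AmalgamThree19CertA0C4.check39
  rw [Cfsg.Agent.AmalgamThree19CertA0C4.len39] at h40
  exact h40

theorem closed_ok : closedCheck cert 13 10052 nodes nbr = true := by decide +kernel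

theorem sgens_lt : ∀ w ∈ sgens, w = [0] ∨ w = [1] ∨ w = [2] ∨ w = [3] ∨ w = [4] := by decide +kernel

/-- The subgroup has at most this many cosets. -/
theorem card_le {G : Type*} [Group G] {K : Subgroup G} (D : Six G K) (h : ∀ w ∈ rels, (w.map D.g).prod = 1)
    (hK : ∀ i < 5, D.g i ∈ K) : Nat.card (G ⧸ K) ≤ 13 :=
  card_quotient_le D cert nodes nbr 13 10052 h
    (fun w hw => by
      rcases sgens_lt w hw with rfl | rfl | rfl | rfl | rfl <;> exact ⟨_, hK _ (by norm_num), rfl⟩)
    (fun base hc => all_valid D.g base hc) closed_ok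

end Cfsg.Agent.AmalgamThree19CertA0
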