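import Cfsg.Agent.Lib.AmalgamThree19CertA1C0
import Cfsg.Agent.Lib.AmalgamThree19CertA1C1
import Cfsg.Agent.Lib.AmalgamThree19CertA1C2
import Cfsg.Agent.Lib.AmalgamThree19CertA1C3
import Cfsg.Agent.Lib.AmalgamThree19CertA1C4
import Cfsg.Agent.Lib.AmalgamThree19CertA1C5
import Cfsg.Agent.Lib.AmalgamThree19CertA1C6
import Cfsg.Agent.Lib.AmalgamThree19CertA1C7
import Cfsg.Agent.Lib.AmalgamThree19CertA1C8
import Cfsg.Agent.Lib.AmalgamThree19CertA1C9
import Cfsg.Agent.Lib.AmalgamThree19CertA1C10
import Cfsg.Agent.Lib.AmalgamThree19CertA1C11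
import Cfsg.Agent.Lib.AmalgamThree19CertA1C12
import Cfsg.Agent.Lib.AmalgamThree19CertA1C13
import Cfsg.Agent.Lib.AmalgamThree19CertA1C14
import Cfsg.Agent.Lib.AmalgamThree19Closed

/-! The certificate is valid and closed. -/

set_option autoImplicit false
set_option maxRecDepth 100000
set_option Elab.async false

namespace Cfsg.Agent.AmalgamThree19CertA1

open Cfsg.Agent.CosetCertCore Cfsg.Agent.AmalgamThree19

theorem all_valid {G X : Type*} [Group G] [MulAction G X] (g : Nat → G) (base : X)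
    (h : Ctx g base cert) : AllValid g (nodeVal g base cert) cert 29166 := by
  have h0 : AllValid g (nodeVal g base cert) cert 0 := fun _ hi => absurd hi (Nat.not_lt_zero _)
  have h1 := checkList_sound g base h Cfsg.Agent.AmalgamThree19CertA1C0.just0 0 h0 Cfsg.Agent.AmalgamThree19CertA1C0.check0
  rw [Cfsg.Agent.AmalgamThree19CertA1C0.len0] at h1
  have h2 := checkList_sound g base h Cfsg.Agent.AmalgamThree19CertA1C0.just1 256 h1 Cfsg.Agent.AmalgamThree19CertA1C0.check1
  rw [Cfsg.Agent.AmalgamThree19CertA1C0.len1] at h2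
  have h3 := checkList_sound g base h Cfsg.Agent.AmalgamThree19CertA1C0.just2 512 h2 Cfsg.Agent.AmalgamThree19CertA1C0.check2
  rw [Cfsg.Agent.AmalgamThree19CertA1C0.len2] at h3
  have h4 := checkList_sound g base h Cfsg.Agent.AmalgamThree19CertA1C0.just3 768 h3 Cfsg.Agent.AmalgamThree19CertA1C0.check3
  rw [Cfsg.Agent.AmalgamThree19CertA1C0.len3] at h4
  have h5 := checkList_sound g base h Cfsg.Agent.AmalgamThree19CertA1C0.just4 1024 h4 Cfsg.Agent.AmalgamThree19CertA1C0.check4
  rw [Cfsg.Agent.AmalgamThree19CertA1C0.len4] at h5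
  have h6 := checkList_sound g base h Cfsg.Agent.AmalgamThree19CertA1C0.just5 1280 h5 Cfsg.Agent.AmalgamThree19CertA1C0.check5
  rw [Cfsg.Agent.AmalgamThree19CertA1C0.len5] at h6
  have h7 := checkList_sound g base h Cfsg.Agent.AmalgamThree19CertA1C0.just6 1536 h6 Cfsg.Agent.AmalgamThree19CertA1C0.check6
  rw [Cfsg.Agent.AmalgamThree19CertA1C0.len6] at h7
  have h8 := checkList_sound g base h Cfsg.Agent.AmalgamThree19CertA1C0.just7 1792 h7 Cfsg.Agent.AmalgamThree19CertA1C0.check7
  rw [Cfsg.Agent.AmalgamThree19CertA1C0.len7] at h8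
  have h9 := checkList_sound g base h Cfsg.Agent.AmalgamThree19CertA1C1.just8 2048 h8 Cfsg.Agent.AmalgamThree19CertA1C1.check8
  rw [Cfsg.Agent.AmalgamThree19CertA1C1.len8] at h9
  have h10 := checkList_sound g base h Cfsg.Agent.AmalgamThree19CertA1C1.just9 2304 h9 Cfsg.Agent.AmalgamThree19CertA1C1.check9
  rw [Cfsg.Agent.AmalgamThree19CertA1C1.len9] at h10
  have h11 := checkList_sound g base h Cfsg.Agent.AmalgamThree19CertA1C1.just10 2560 h10 Cfsg.Agent.AmalgamThree19CertA1C1.check10
  rw [Cfsg.Agent.AmalgamThree19CertA1C1.len10] at h11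
  have h12 := checkList_sound g base h Cfsg.Agent.AmalgamThree19CertA1C1.just11 2816 h11 Cfsg.Agent.AmalgamThree19CertA1C1.check11
  rw [Cfsg.Agent.AmalgamThree19CertA1C1.len11] at h12
  have h13 := checkList_sound g base h Cfsg.Agent.AmalgamThree19CertA1C1.just12 3072 h12 Cfsg.Agent.AmalgamThree19CertA1C1.check12
  rw [Cfsg.Agent.AmalgamThree19CertA1C1.len12] at h13
  have h14 := checkList_sound g base h Cfsg.Agent.AmalgamThree19CertA1C1.just13 3328 h13 Cfsg.Agent.AmalgamThree19CertA1C1.check13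
  rw [Cfsg.Agent.AmalgamThree19CertA1C1.len13] at h14
  have h15 := checkList_sound g base h Cfsg.Agent.AmalgamThree19CertA1C1.just14 3584 h14 Cfsg.Agent.AmalgamThree19CertA1C1.check14
  rw [Cfsg.Agent.AmalgamThree19CertA1C1.len14] at h15
  have h16 := checkList_sound g base h Cfsg.Agent.AmalgamThree19CertA1C1.just15 3840 h15 Cfsg.Agent.AmalgamThree19CertA1C1.check15
  rw [Cfsg.Agent.AmalgamThree19CertA1C1.len15] at h16
  have h17 := checkList_sound g base h Cfsg.Agent.AmalgamThree19CertA1C2.just16 4096 h16 Cfsg.Agent.AmalgamThree19CertA1C2.check16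
  rw [Cfsg.Agent.AmalgamThree19CertA1C2.len16] at h17
  have h18 := checkList_sound g base h Cfsg.Agent.AmalgamThree19CertA1C2.just17 4352 h17 Cfsg.Agent.AmalgamThree19CertA1C2.check17
  rw [Cfsg.Agent.AmalgamThree19CertA1C2.len17] at h18
  have h19 := checkList_sound g base h Cfsg.Agent.AmalgamThree19CertA1C2.just18 4608 h18 Cfsg.Agent.AmalgamThree19CertA1C2.check18
  rw [Cfsg.Agent.AmalgamThree19CertA1C2.len18] at h19
  have h20 := checkList_sound g base h Cfsg.Agent.AmalgamThree19CertA1C2.just19 4864 h19 Cfsg.Agent.AmalgamThree19CertA1C2.check19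
  rw [Cfsg.Agent.AmalgamThree19CertA1C2.len19] at h20
  have h21 := checkList_sound g base h Cfsg.Agent.AmalgamThree19CertA1C2.just20 5120 h20 Cfsg.Agent.AmalgamThree19CertA1C2.check20
  rw [Cfsg.Agent.AmalgamThree19CertA1C2.len20] at h21
  have h22 := checkList_sound g base h Cfsg.Agent.AmalgamThree19CertA1C2.just21 5376 h21 Cfsg.Agent.AmalgamThree19CertA1C2.check21
  rw [Cfsg.Agent.AmalgamThree19CertA1C2.len21] at h22
  have h23 := checkList_sound g base h Cfsg.Agent.AmalgamThree19CertA1C2.just22 5632 h22 Cfsg.Agent.AmalgamThree19CertA1C2.check22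
  rw [Cfsg.Agent.AmalgamThree19CertA1C2.len22] at h23
  have h24 := checkList_sound g base h Cfsg.Agent.AmalgamThree19CertA1C2.just23 5888 h23 Cfsg.Agent.AmalgamThree19CertA1C2.check23
  rw [Cfsg.Agent.AmalgamThree19CertA1C2.len23] at h24
  have h25 := checkList_sound g base h Cfsg.Agent.AmalgamThree19CertA1C3.just24 6144 h24 Cfsg.Agent.AmalgamThree19CertA1C3.check24
  rw [Cfsg.Agent.AmalgamThree19CertA1C3.len24] at h25
  have h26 := checkList_sound g base h Cfsg.Agent.AmalgamThree19CertA1C3.just25 6400 h25 Cfsg.Agent.AmalgamThree19CertA1C3.check25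
  rw [Cfsg.Agent.AmalgamThree19CertA1C3.len25] at h26
  have h27 := checkList_sound g base h Cfsg.Agent.AmalgamThree19CertA1C3.just26 6656 h26 Cfsg.Agent.AmalgamThree19CertA1C3.check26
  rw [Cfsg.Agent.AmalgamThree19CertA1C3.len26] at h27
  have h28 := checkList_sound g base h Cfsg.Agent.AmalgamThree19CertA1C3.just27 6912 h27 Cfsg.Agent.AmalgamThree19CertA1C3.check27
  rw [Cfsg.Agent.AmalgamThree19CertA1C3.len27] at h28
  have h29 := checkList_sound g base h Cfsg.Agent.AmalgamThree19CertA1C3.just28 7168 h28 Cfsg.Agent.AmalgamThree19CertA1C3.check28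
  rw [Cfsg.Agent.AmalgamThree19CertA1C3.len28] at h29
  have h30 := checkList_sound g base h Cfsg.Agent.AmalgamThree19CertA1C3.just29 7424 h29 Cfsg.Agent.AmalgamThree19CertA1C3.check29
  rw [Cfsg.Agent.AmalgamThree19CertA1C3.len29] at h30
  have h31 := checkList_sound g base h Cfsg.Agent.AmalgamThree19CertA1C3.just30 7680 h30 Cfsg.Agent.AmalgamThree19CertA1C3.check30
  rw [Cfsg.Agent.AmalgamThree19CertA1C3.len30] at h31
  have h32 := checkList_sound g base h Cfsg.Agent.AmalgamThree19CertA1C3.just31 7936 h31 Cfsg.Agent.AmalgamThree19CertA1C3.check31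
  rw [Cfsg.Agent.AmalgamThree19CertA1C3.len31] at h32
  have h33 := checkList_sound g base h Cfsg.Agent.AmalgamThree19CertA1C4.just32 8192 h32 Cfsg.Agent.AmalgamThree19CertA1C4.check32
  rw [Cfsg.Agent.AmalgamThree19CertA1C4.len32] at h33
  have h34 := checkList_sound g base h Cfsg.Agent.AmalgamThree19CertA1C4.just33 8448 h33 Cfsg.Agent.AmalgamThree19CertA1C4.check33
  rw [Cfsg.Agent.AmalgamThree19CertA1C4.len33] at h34
  have h35 := checkList_sound g base h Cfsg.Agent.AmalgamThree19CertA1C4.just34 8704 h34 Cfsg.Agent.AmalgamThree19CertA1C4.check34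
  rw [Cfsg.Agent.AmalgamThree19CertA1C4.len34] at h35
  have h36 := checkList_sound g base h Cfsg.Agent.AmalgamThree19CertA1C4.just35 8960 h35 Cfsg.Agent.AmalgamThree19CertA1C4.check35
  rw [Cfsg.Agent.AmalgamThree19CertA1C4.len35] at h36
  have h37 := checkList_sound g base h Cfsg.Agent.AmalgamThree19CertA1C4.just36 9216 h36 Cfsg.Agent.AmalgamThree19CertA1C4.check36
  rw [Cfsg.Agent.AmalgamThree19CertA1C4.len36] at h37
  have h38 := checkList_sound g base h Cfsg.Agent.AmalgamThree19CertA1C4.just37 9472 h37 Cfsg.Agent.AmalgamThree19CertA1C4.check37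
  rw [Cfsg.Agent.AmalgamThree19CertA1C4.len37] at h38
  have h39 := checkList_sound g base h Cfsg.Agent.AmalgamThree19CertA1C4.just38 9728 h38 Cfsg.Agent.AmalgamThree19CertA1C4.check38
  rw [Cfsg.Agent.AmalgamThree19CertA1C4.len38] at h39
  have h40 := checkList_sound g base h Cfsg.Agent.AmalgamThree19CertA1C4.just39 9984 h39 Cfsg.Agent.AmalgamThree19CertA1C4.check39
  rw [Cfsg.Agent.AmalgamThree19CertA1C4.len39] at h40
  have h41 := checkList_sound g base h Cfsg.Agent.AmalgamThree19CertA1C5.just40 10240 h40 Cfsg.Agent.AmalgamThree19CertA1C5.check40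
  rw [Cfsg.Agent.AmalgamThree19CertA1C5.len40] at h41
  have h42 := checkList_sound g base h Cfsg.Agent.AmalgamThree19CertA1C5.just41 10496 h41 Cfsg.Agent.AmalgamThree19CertA1C5.check41
  rw [Cfsg.Agent.AmalgamThree19CertA1C5.len41] at h42
  have h43 := checkList_sound g base h Cfsg.Agent.AmalgamThree19CertA1C5.just42 10752 h42 Cfsg.Agent.AmalgamThree19CertA1C5.check42
  rw [Cfsg.Agent.AmalgamThree19CertA1C5.len42] at h43
  have h44 := checkList_sound g base h Cfsg.Agent.AmalgamThree19CertA1C5.just43 11008 h43 Cfsg.Agent.AmalgamThree19CertA1C5.check43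
  rw [Cfsg.Agent.AmalgamThree19CertA1C5.len43] at h44
  have h45 := checkList_sound g base h Cfsg.Agent.AmalgamThree19CertA1C5.just44 11264 h44 Cfsg.Agent.AmalgamThree19CertA1C5.check44
  rw [Cfsg.Agent.AmalgamThree19CertA1C5.len44] at h45
  have h46 := checkList_sound g base h Cfsg.Agent.AmalgamThree19CertA1C5.just45 11520 h45 Cfsg.Agent.AmalgamThree19CertA1C5.check45
  rw [Cfsg.Agent.AmalgamThree19CertA1C5.len45] at h46
  have h47 := checkList_sound g base h Cfsg.Agent.AmalgamThree19CertA1C5.just46 11776 h46 Cfsg.Agent.AmalgamThree19CertA1C5.check46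
  rw [Cfsg.Agent.AmalgamThree19CertA1C5.len46] at h47
  have h48 := checkList_sound g base h Cfsg.Agent.AmalgamThree19CertA1C5.just47 12032 h47 Cfsg.Agent.AmalgamThree19CertA1C5.check47
  rw [Cfsg.Agent.AmalgamThree19CertA1C5.len47] at h48
  have h49 := checkList_sound g base h Cfsg.Agent.AmalgamThree19CertA1C6.just48 12288 h48 Cfsg.Agent.AmalgamThree19CertA1C6.check48
  rw [Cfsg.Agent.AmalgamThree19CertA1C6.len48] at h49
  have h50 := checkList_sound g base h Cfsg.Agent.AmalgamThree19CertA1C6.just49 12544 h49 Cfsg.Agent.AmalgamThree19CertA1C6.check49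
  rw [Cfsg.Agent.AmalgamThree19CertA1C6.len49] at h50
  have h51 := checkList_sound g base h Cfsg.Agent.AmalgamThree19CertA1C6.just50 12800 h50 Cfsg.Agent.AmalgamThree19CertA1C6.check50
  rw [Cfsg.Agent.AmalgamThree19CertA1C6.len50] at h51
  have h52 := checkList_sound g base h Cfsg.Agent.AmalgamThree19CertA1C6.just51 13056 h51 Cfsg.Agent.AmalgamThree19CertA1C6.check51
  rw [Cfsg.Agent.AmalgamThree19CertA1C6.len51] at h52
  have h53 := checkList_sound g base h Cfsg.Agent.AmalgamThree19CertA1C6.just52 13312 h52 Cfsg.Agent.AmalgamThree19CertA1C6.check52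
  rw [Cfsg.Agent.AmalgamThree19CertA1C6.len52] at h53
  have h54 := checkList_sound g base h Cfsg.Agent.AmalgamThree19CertA1C6.just53 13568 h53 Cfsg.Agent.AmalgamThree19CertA1C6.check53
  rw [Cfsg.Agent.AmalgamThree19CertA1C6.len53] at h54
  have h55 := checkList_sound g base h Cfsg.Agent.AmalgamThree19CertA1C6.just54 13824 h54 Cfsg.Agent.AmalgamThree19CertA1C6.check54
  rw [Cfsg.Agent.AmalgamThree19CertA1C6.len54] at h55
  have h56 := checkList_sound g base h Cfsg.Agent.AmalgamThree19CertA1C6.just55 14080 h55 Cfsg.Agent.AmalgamThree19CertA1C6.check55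
  rw [Cfsg.Agent.AmalgamThree19CertA1C6.len55] at h56
  have h57 := checkList_sound g base h Cfsg.Agent.AmalgamThree19CertA1C7.just56 14336 h56 Cfsg.Agent.AmalgamThree19CertA1C7.check56
  rw [Cfsg.Agent.AmalgamThree19CertA1C7.len56] at h57
  have h58 := checkList_sound g base h Cfsg.Agent.AmalgamThree19CertA1C7.just57 14592 h57 Cfsg.Agent.AmalgamThree19CertA1C7.check57
  rw [Cfsg.Agent.AmalgamThree19CertA1C7.len57] at h58
  have h59 := checkList_sound g base h Cfsg.Agent.AmalgamThree19CertA1C7.just58 14848 h58 Cfsg.Agent.AmalgamThree19CertA1C7.check58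
  rw [Cfsg.Agent.AmalgamThree19CertA1C7.len58] at h59
  have h60 := checkList_sound g base h Cfsg.Agent.AmalgamThree19CertA1C7.just59 15104 h59 Cfsg.Agent.AmalgamThree19CertA1C7.check59
  rw [Cfsg.Agent.AmalgamThree19CertA1C7.len59] at h60
  have h61 := checkList_sound g base h Cfsg.Agent.AmalgamThree19CertA1C7.just60 15360 h60 Cfsg.Agent.AmalgamThree19CertA1C7.check60
  rw [Cfsg.Agent.AmalgamThree19CertA1C7.len60] at h61
  have h62 := checkList_sound g base h Cfsg.Agent.AmalgamThree19CertA1C7.just61 15616 h61 Cfsg.Agent.AmalgamThree19CertA1C7.check61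
  rw [Cfsg.Agent.AmalgamThree19CertA1C7.len61] at h62
  have h63 := checkList_sound g base h Cfsg.Agent.AmalgamThree19CertA1C7.just62 15872 h62 Cfsg.Agent.AmalgamThree19CertA1C7.check62
  rw [Cfsg.Agent.AmalgamThree19CertA1C7.len62] at h63
  have h64 := checkList_sound g base h Cfsg.Agent.AmalgamThree19CertA1C7.just63 16128 h63 Cfsg.Agent.AmalgamThree19CertA1C7.check63
  rw [Cfsg.Agent.AmalgamThree19CertA1C7.len63] at h64
  have h65 := checkList_sound g base h Cfsg.Agent.AmalgamThree19CertA1C8.just64 16384 h64 Cfsg.Agent.AmalgamThree19CertA1C8.check64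
  rw [Cfsg.Agent.AmalgamThree19CertA1C8.len64] at h65
  have h66 := checkList_sound g base h Cfsg.Agent.AmalgamThree19CertA1C8.just65 16640 h65 Cfsg.Agent.AmalgamThree19CertA1C8.check65
  rw [Cfsg.Agent.AmalgamThree19CertA1C8.len65] at h66
  have h67 := checkList_sound g base h Cfsg.Agent.AmalgamThree19CertA1C8.just66 16896 h66 Cfsg.Agent.AmalgamThree19CertA1C8.check66
  rw [Cfsg.Agent.AmalgamThree19CertA1C8.len66] at h67
  have h68 := checkList_sound g base h Cfsg.Agent.AmalgamThree19CertA1C8.just67 17152 h67 Cfsg.Agent.AmalgamThree19CertA1C8.check67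
  rw [Cfsg.Agent.AmalgamThree19CertA1C8.len67] at h68
  have h69 := checkList_sound g base h Cfsg.Agent.AmalgamThree19CertA1C8.just68 17408 h68 Cfsg.Agent.AmalgamThree19CertA1C8.check68
  rw [Cfsg.Agent.AmalgamThree19CertA1C8.len68] at h69
  have h70 := checkList_sound g base h Cfsg.Agent.AmalgamThree19CertA1C8.just69 17664 h69 Cfsg.Agent.AmalgamThree19CertA1C8.check69
  rw [Cfsg.Agent.AmalgamThree19CertA1C8.len69] at h70
  have h71 := checkList_sound g base h Cfsg.Agent.AmalgamThree19CertA1C8.just70 17920 h70 Cfsg.Agent.AmalgamThree19CertA1C8.check70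
  rw [Cfsg.Agent.AmalgamThree19CertA1C8.len70] at h71
  have h72 := checkList_sound g base h Cfsg.Agent.AmalgamThree19CertA1C8.just71 18176 h71 Cfsg.Agent.AmalgamThree19CertA1C8.check71
  rw [Cfsg.Agent.AmalgamThree19CertA1C8.len71] at h72
  have h73 := checkList_sound g base h Cfsg.Agent.AmalgamThree19CertA1C9.just72 18432 h72 Cfsg.Agent.AmalgamThree19CertA1C9.check72
  rw [Cfsg.Agent.AmalgamThree19CertA1C9.len72] at h73
  have h74 := checkList_sound g base h Cfsg.Agent.AmalgamThree19CertA1C9.just73 18688 h73 Cfsg.Agent.AmalgamThree19CertA1C9.check73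
  rw [Cfsg.Agent.AmalgamThree19CertA1C9.len73] at h74
  have h75 := checkList_sound g base h Cfsg.Agent.AmalgamThree19CertA1C9.just74 18944 h74 Cfsg.Agent.AmalgamThree19CertA1C9.check74
  rw [Cfsg.Agent.AmalgamThree19CertA1C9.len74] at h75
  have h76 := checkList_sound g base h Cfsg.Agent.AmalgamThree19CertA1C9.just75 19200 h75 Cfsg.Agent.AmalgamThree19CertA1C9.check75
  rw [Cfsg.Agent.AmalgamThree19CertA1C9.len75] at h76
  have h77 := checkList_sound g base h Cfsg.Agent.AmalgamThree19CertA1C9.just76 19456 h76 Cfsg.Agent.AmalgamThree19CertA1C9.check76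
  rw [Cfsg.Agent.AmalgamThree19CertA1C9.len76] at h77
  have h78 := checkList_sound g base h Cfsg.Agent.AmalgamThree19CertA1C9.just77 19712 h77 Cfsg.Agent.AmalgamThree19CertA1C9.check77
  rw [Cfsg.Agent.AmalgamThree19CertA1C9.len77] at h78
  have h79 := checkList_sound g base h Cfsg.Agent.AmalgamThree19CertA1C9.just78 19968 h78 Cfsg.Agent.AmalgamThree19CertA1C9.check78
  rw [Cfsg.Agent.AmalgamThree19CertA1C9.len78] at h79
  have h80 := checkList_sound g base h Cfsg.Agent.AmalgamThree19CertA1C9.just79 20224 h79 Cfsg.Agent.AmalgamThree19CertA1C9.check79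
  rw [Cfsg.Agent.AmalgamThree19CertA1C9.len79] at h80
  have h81 := checkList_sound g base h Cfsg.Agent.AmalgamThree19CertA1C10.just80 20480 h80 Cfsg.Agent.AmalgamThree19CertA1C10.check80
  rw [Cfsg.Agent.AmalgamThree19CertA1C10.len80] at h81
  have h82 := checkList_sound g base h Cfsg.Agent.AmalgamThree19CertA1C10.just81 20736 h81 Cfsg.Agent.AmalgamThree19CertA1C10.check81
  rw [Cfsg.Agent.AmalgamThree19CertA1C10.len81] at h82
  have h83 := checkList_sound g base h Cfsg.Agent.AmalgamThree19CertA1C10.just82 20992 h82 Cfsg.Agent.AmalgamThree19CertA1C10.check82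
  rw [Cfsg.Agent.AmalgamThree19CertA1C10.len82] at h83
  have h84 := checkList_sound g base h Cfsg.Agent.AmalgamThree19CertA1C10.just83 21248 h83 Cfsg.Agent.AmalgamThree19CertA1C10.check83
  rw [Cfsg.Agent.AmalgamThree19CertA1C10.len83] at h84
  have h85 := checkList_sound g base h Cfsg.Agent.AmalgamThree19CertA1C10.just84 21504 h84 Cfsg.Agent.AmalgamThree19CertA1C10.check84
  rw [Cfsg.Agent.AmalgamThree19CertA1C10.len84] at h85
  have h86 := checkList_sound g base h Cfsg.Agent.AmalgamThree19CertA1C10.just85 21760 h85 Cfsg.Agent.AmalgamThree19CertA1C10.check85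
  rw [Cfsg.Agent.AmalgamThree19CertA1C10.len85] at h86
  have h87 := checkList_sound g base h Cfsg.Agent.AmalgamThree19CertA1C10.just86 22016 h86 Cfsg.Agent.AmalgamThree19CertA1C10.check86
  rw [Cfsg.Agent.AmalgamThree19CertA1C10.len86] at h87
  have h88 := checkList_sound g base h Cfsg.Agent.AmalgamThree19CertA1C10.just87 22272 h87 Cfsg.Agent.AmalgamThree19CertA1C10.check87
  rw [Cfsg.Agent.AmalgamThree19CertA1C10.len87] at h88
  have h89 := checkList_sound g base h Cfsg.Agent.AmalgamThree19CertA1C11.just88 22528 h88 Cfsg.Agent.AmalgamThree19CertA1C11.check88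
  rw [Cfsg.Agent.AmalgamThree19CertA1C11.len88] at h89
  have h90 := checkList_sound g base h Cfsg.Agent.AmalgamThree19CertA1C11.just89 22784 h89 Cfsg.Agent.AmalgamThree19CertA1C11.check89
  rw [Cfsg.Agent.AmalgamThree19CertA1C11.len89] at h90
  have h91 := checkList_sound g base h Cfsg.Agent.AmalgamThree19CertA1C11.just90 23040 h90 Cfsg.Agent.AmalgamThree19CertA1C11.check90
  rw [Cfsg.Agent.AmalgamThree19CertA1C11.len90] at h91
  have h92 := checkList_sound g base h Cfsg.Agent.AmalgamThree19CertA1C11.just91 23296 h91 Cfsg.Agent.AmalgamThree19CertA1C11.check91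
  rw [Cfsg.Agent.AmalgamThree19CertA1C11.len91] at h92
  have h93 := checkList_sound g base h Cfsg.Agent.AmalgamThree19CertA1C11.just92 23552 h92 Cfsg.Agent.AmalgamThree19CertA1C11.check92
  rw [Cfsg.Agent.AmalgamThree19CertA1C11.len92] at h93
  have h94 := checkList_sound g base h Cfsg.Agent.AmalgamThree19CertA1C11.just93 23808 h93 Cfsg.Agent.AmalgamThree19CertA1C11.check93
  rw [Cfsg.Agent.AmalgamThree19CertA1C11.len93] at h94
  have h95 := checkList_sound g base h Cfsg.Agent.AmalgamThree19CertA1C11.just94 24064 h94 Cfsg.Agent.AmalgamThree19CertA1C11.check94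
  rw [Cfsg.Agent.AmalgamThree19CertA1C11.len94] at h95
  have h96 := checkList_sound g base h Cfsg.Agent.AmalgamThree19CertA1C11.just95 24320 h95 Cfsg.Agent.AmalgamThree19CertA1C11.check95
  rw [Cfsg.Agent.AmalgamThree19CertA1C11.len95] at h96
  have h97 := checkList_sound g base h Cfsg.Agent.AmalgamThree19CertA1C12.just96 24576 h96 Cfsg.Agent.AmalgamThree19CertA1C12.check96
  rw [Cfsg.Agent.AmalgamThree19CertA1C12.len96] at h97
  have h98 := checkList_sound g base h Cfsg.Agent.AmalgamThree19CertA1C12.just97 24832 h97 Cfsg.Agent.AmalgamThree19CertA1C12.check97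
  rw [Cfsg.Agent.AmalgamThree19CertA1C12.len97] at h98
  have h99 := checkList_sound g base h Cfsg.Agent.AmalgamThree19CertA1C12.just98 25088 h98 Cfsg.Agent.AmalgamThree19CertA1C12.check98
  rw [Cfsg.Agent.AmalgamThree19CertA1C12.len98] at h99
  have h100 := checkList_sound g base h Cfsg.Agent.AmalgamThree19CertA1C12.just99 25344 h99 Cfsg.Agent.AmalgamThree19CertA1C12.check99
  rw [Cfsg.Agent.AmalgamThree19CertA1C12.len99] at h100
  have h101 := checkList_sound g base h Cfsg.Agent.AmalgamThree19CertA1C12.just100 25600 h100 Cfsg.Agent.AmalgamThree19CertA1C12.check100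
  rw [Cfsg.Agent.AmalgamThree19CertA1C12.len100] at h101
  have h102 := checkList_sound g base h Cfsg.Agent.AmalgamThree19CertA1C12.just101 25856 h101 Cfsg.Agent.AmalgamThree19CertA1C12.check101
  rw [Cfsg.Agent.AmalgamThree19CertA1C12.len101] at h102
  have h103 := checkList_sound g base h Cfsg.Agent.AmalgamThree19CertA1C12.just102 26112 h102 Cfsg.Agent.AmalgamThree19CertA1C12.check102
  rw [Cfsg.Agent.AmalgamThree19CertA1C12.len102] at h103
  have h104 := checkList_sound g base h Cfsg.Agent.AmalgamThree19CertA1C12.just103 26368 h103 Cfsg.Agent.AmalgamThree19CertA1C12.check103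
  rw [Cfsg.Agent.AmalgamThree19CertA1C12.len103] at h104
  have h105 := checkList_sound g base h Cfsg.Agent.AmalgamThree19CertA1C13.just104 26624 h104 Cfsg.Agent.AmalgamThree19CertA1C13.check104
  rw [Cfsg.Agent.AmalgamThree19CertA1C13.len104] at h105
  have h106 := checkList_sound g base h Cfsg.Agent.AmalgamThree19CertA1C13.just105 26880 h105 Cfsg.Agent.AmalgamThree19CertA1C13.check105
  rw [Cfsg.Agent.AmalgamThree19CertA1C13.len105] at h106
  have h107 := checkList_sound g base h Cfsg.Agent.AmalgamThree19CertA1C13.just106 27136 h106 Cfsg.Agent.AmalgamThree19CertA1C13.check106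
  rw [Cfsg.Agent.AmalgamThree19CertA1C13.len106] at h107
  have h108 := checkList_sound g base h Cfsg.Agent.AmalgamThree19CertA1C13.just107 27392 h107 Cfsg.Agent.AmalgamThree19CertA1C13.check107
  rw [Cfsg.Agent.AmalgamThree19CertA1C13.len107] at h108
  have h109 := checkList_sound g base h Cfsg.Agent.AmalgamThree19CertA1C13.just108 27648 h108 Cfsg.Agent.AmalgamThree19CertA1C13.check108
  rw [Cfsg.Agent.AmalgamThree19CertA1C13.len108] at h109
  have h110 := checkList_sound g base h Cfsg.Agent.AmalgamThree19CertA1C13.just109 27904 h109 Cfsg.Agent.AmalgamThree19CertA1C13.check109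
  rw [Cfsg.Agent.AmalgamThree19CertA1C13.len109] at h110
  have h111 := checkList_sound g base h Cfsg.Agent.AmalgamThree19CertA1C13.just110 28160 h110 Cfsg.Agent.AmalgamThree19CertA1C13.check110
  rw [Cfsg.Agent.AmalgamThree19CertA1C13.len110] at h111
  have h112 := checkList_sound g base h Cfsg.Agent.AmalgamThree19CertA1C13.just111 28416 h111 Cfsg.Agent.AmalgamThree19CertA1C13.check111
  rw [Cfsg.Agent.AmalgamThree19CertA1C13.len111] at h112
  have h113 := checkList_sound g base h Cfsg.Agent.AmalgamThree19CertA1C14.just112 28672 h112 Cfsg.Agent.AmalgamThree19CertA1C14.check112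
  rw [Cfsg.Agent.AmalgamThree19CertA1C14.len112] at h113
  have h114 := checkList_sound g base h Cfsg.Agent.AmalgamThree19CertA1C14.just113 28928 h113 Cfsg.Agent.AmalgamThree19CertA1C14.check113
  rw [Cfsg.Agent.AmalgamThree19CertA1C14.len113] at h114
  exact h114

theorem closed_ok : closedCheck cert 220 29166 nodes nbr = true := by decide +kernel

theorem sgens_lt : ∀ w ∈ sgens, w = [0] ∨ w = [1] ∨ w = [2] ∨ w = [3] ∨ w = [4] := by decide +kernel

/-- The subgroup has at most this many cosets. -/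
theorem card_le {G : Type*} [Group G] {K : Subgroup G} (D : Six G K) (h : ∀ w ∈ rels, (w.map D.g).prod = 1)
    (hK : ∀ i < 5, D.g i ∈ K) : Nat.card (G ⧸ K) ≤ 220 :=
  card_quotient_le D cert nodes nbr 220 29166 h
    (fun w hw => by
      rcases sgens_lt w hw with rfl | rfl | rfl | rfl | rfl <;> exact ⟨_, hK _ (by norm_num), rfl⟩)
    (fun base hc => all_valid D.g base hc) closed_ok

end Cfsg.Agent.AmalgamThree19CertA1
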