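import Cfsg.Agent.Lib.AmalgamThree19CertB1C0
import Cfsg.Agent.Lib.AmalgamThree19Closed

/-! The certificate is valid and closed. -/

set_option autoImplicit false
set_option maxRecDepth 100000
set_option Elab.async false

namespace Cfsg.Agent.AmalgamThree19CertB1

open Cfsg.Agent.CosetCertCore Cfsg.Agent.AmalgamThree19

theorem all_valid {G X : Type*} [Group G] [MulAction G X] (g : Nat → G) (base : X)
    (h : Ctx g base cert) : AllValid g (nodeVal g base cert) cert 505 := by
  have h0 : AllValid g (nodeVal g base cert) cert 0 := fun _ hi => absurd hi (Nat.not_lt_zero _)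
  have h1 := checkList_sound g base h Cfsg.Agent.AmalgamThree19CertB1C0.just0 0 h0 Cfsg.Agent.AmalgamThree19CertB1C0.check0
  rw [Cfsg.Agent.AmalgamThree19CertB1C0.len0] at h1
  have h2 := checkList_sound g base h Cfsg.Agent.AmalgamThree19CertB1C0.just1 256 h1 Cfsg.Agent.AmalgamThree19CertB1C0.check1
  rw [Cfsg.Agent.AmalgamThree19CertB1C0.len1] at h2
  exact h2

theorem closed_ok : closedCheck cert 1 505 nodes nbr = true := by decide +kernel

theorem sgens_lt : ∀ w ∈ sgens, w = [0] ∨ w = [1] ∨ w = [2] ∨ w = [3] ∨ w = [4] := by decide +kernel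

/-- The subgroup has at most this many cosets. -/
theorem card_le {G : Type*} [Group G] {K : Subgroup G} (D : Six G K) (h : ∀ w ∈ rels, (w.map D.g).prod = 1)
    (hK : ∀ i < 5, D.g i ∈ K) : Nat.card (G ⧸ K) ≤ 1 :=
  card_quotient_le D cert nodes nbr 1 505 h
    (fun w hw => by
      rcases sgens_lt w hw with rfl | rfl | rfl | rfl | rfl <;> exact ⟨_, hK _ (by norm_num), rfl⟩)
    (fun base hc => all_valid D.g base hc) closed_ok

end Cfsg.Agent.AmalgamThree19CertB1
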