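import Cfsg.Agent.Lib.AmalgamThree19Cases

/-!
The cube of the product of the two swaps commutes with the torus.
-/

set_option autoImplicit false
set_option maxRecDepth 100000

namespace Cfsg.Agent.AmalgamThree19

variable {G : Type*} [Group G]

/-- The first commutation relation. -/
def wCS : List ℕ := wC ++ [0] ++ wC.reverse ++ [0]
/-- The second commutation relation. -/
def wCR : List ℕ := wC ++ [1] ++ wC.reverse ++ [1]

theorem Gens.cube_comm (D : Gens G) : D.val wCS = 1 ∧ D.val wCR = 1 := by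
  obtain ⟨w10, w12, w14, w404, w515, w505, w040, wV⟩ := relation_words
  obtain ⟨s, hs⟩ : ∃ s, s = D.g 0 := ⟨_, rfl⟩
  obtain ⟨r, hr⟩ : ∃ r, r = D.g 1 := ⟨_, rfl⟩
  obtain ⟨a, ha⟩ : ∃ a, a = D.g 2 := ⟨_, rfl⟩
  obtain ⟨P, hP⟩ : ∃ P, P = D.g 4 := ⟨_, rfl⟩
  obtain ⟨R, hR⟩ : ∃ R, R = D.g 5 := ⟨_, rfl⟩
  have s2 : s * s = 1 := hs ▸ D.invol 0
  have r2 : r * r = 1 := hr ▸ D.invol 1
  have a2 : a * a = 1 := ha ▸ D.invol 2
  have P2 : P * P = 1 := hP ▸ D.invol 4
  have R2 : R * R = 1 := hR ▸ D.invol 5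
  have si : s⁻¹ = s := inv_eq_of_mul_eq_one_right s2
  have ri : r⁻¹ = r := inv_eq_of_mul_eq_one_right r2
  have ai : a⁻¹ = a := inv_eq_of_mul_eq_one_right a2
  have Pi : P⁻¹ = P := inv_eq_of_mul_eq_one_right P2
  have Ri : R⁻¹ = R := inv_eq_of_mul_eq_one_right R2
  have com_of : ∀ {u : G}, u * u = 1 → r * (u * (r * (u * 1))) = 1 → u * r = r * u := by
    intro u hu h
    have hu' : u⁻¹ = u := inv_eq_of_mul_eq_one_right hu
    calc u * r = r⁻¹ * (r * (u * (r * (u * 1)))) * u⁻¹ := by group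
      _ = r * u := by rw [h, ri, hu', mul_one]
  have sr : s * r = r * s := com_of s2 (by simpa [hs, hr] using D.relA _ w10)
  have ar : a * r = r * a := com_of a2 (by simpa [ha, hr] using D.relA _ w12)
  have Pr : P * r = r * P := com_of P2 (by simpa [hP, hr] using D.relA _ w14)
  have PsP : P * s * P⁻¹ = r * s := by
    have h := D.relA _ w404
    simp only [List.map_cons, List.map_nil, List.prod_cons, List.prod_nil, mul_one] at h
    rw [← hs, ← hP, ← hr] at h
    rw [Pi]
    calc P * s * P = (P * (s * (P * (s * r)))) * r⁻¹ * s⁻¹ := by group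
      _ = r * s := by rw [h, one_mul, ri, si]
  have PrP : P * r * P⁻¹ = r := by rw [Pr, mul_inv_cancel_right]
  have RrR : R * r * R⁻¹ = s := by
    have h := D.relB _ w515
    simp only [List.map_cons, List.map_nil, List.prod_cons, List.prod_nil, mul_one] at h
    rw [← hs, ← hR, ← hr] at h
    rw [Ri]
    calc R * r * R = (R * (r * (R * s))) * s⁻¹ := by group
      _ = s := by rw [h, one_mul, si]
  have RsR : R * s * R⁻¹ = r := by
    have h := D.relB _ w505
    simp only [List.map_cons, List.map_nil, List.prod_cons, List.prod_nil, mul_one] at h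
    rw [← hs, ← hR, ← hr] at h
    rw [Ri]
    calc R * s * R = (R * (s * (R * r))) * r⁻¹ := by group
      _ = r := by rw [h, one_mul, ri]
  obtain ⟨f, hf⟩ : ∃ f, f = P * R := ⟨_, rfl⟩
  obtain ⟨c, hc⟩ : ∃ c, c = f * f * f := ⟨_, rfl⟩
  have fr : f * r * f⁻¹ = r * s := by
    calc f * r * f⁻¹ = P * (R * r * R⁻¹) * P⁻¹ := by rw [hf]; group
      _ = r * s := by rw [RrR, PsP]
  have fs : f * s * f⁻¹ = r := by
    calc f * s * f⁻¹ = P * (R * s * R⁻¹) * P⁻¹ := by rw [hf]; group
      _ = r := by rw [RsR, PrP]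
  have frs : f * (r * s) * f⁻¹ = s := by
    calc f * (r * s) * f⁻¹ = (f * r * f⁻¹) * (f * s * f⁻¹) := by group
      _ = s := by
        rw [fr, fs, mul_assoc, sr, ← mul_assoc, r2, one_mul]
  have cr : c * r = r * c := by
    calc c * r = f * (f * (f * r * f⁻¹) * f⁻¹) * f⁻¹ * c := by rw [hc]; group
      _ = r * c := by rw [fr, frs, fs]
  have cs : c * s = s * c := by
    calc c * s = f * (f * (f * s * f⁻¹) * f⁻¹) * f⁻¹ * c := by rw [hc]; group
      _ = s * c := by rw [fs, fr, frs]
  have e1 : c * s * c⁻¹ * s = 1 := by rw [cs, mul_inv_cancel_right, s2]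
  have e2 : c * r * c⁻¹ * r = 1 := by rw [cr, mul_inv_cancel_right, r2]
  rw [hc, hf] at e1 e2
  simp only [mul_inv_rev, Pi, Ri, mul_assoc] at e1 e2
  simp only [hs, hr, hP, hR] at e1 e2
  constructor
  · simp only [Gens.val, wCS, wC, List.reverse_cons, List.reverse_nil, List.cons_append, List.nil_append,
      List.map_cons, List.map_nil, List.prod_cons, List.prod_nil, mul_one]
    exact e1
  · simp only [Gens.val, wCR, wC, List.reverse_cons, List.reverse_nil, List.cons_append, List.nil_append,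
      List.map_cons, List.map_nil, List.prod_cons, List.prod_nil, mul_one]
    exact e2

end Cfsg.Agent.AmalgamThree19
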