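import Cfsg.Agent.Lib.AmalgamThree19Para

/-!
The generators of the amalgam of two parabolic subgroups and their coordinates.
-/

set_option autoImplicit false
set_option maxRecDepth 100000

namespace Cfsg.Agent.AmalgamThree19

/-- Coordinates of the letters in the first parabolic subgroup. -/
def rhoA : ℕ → Aff
  | 0 => (0, ((1, 0), (0, -1)))
  | 1 => (0, ((-1, 0), (0, -1)))
  | 2 => (0, ((1, 0), (1, -1)))
  | 3 => ((0, -1), ((-1, 0), (0, -1)))
  | 4 => (0, ((0, -1), (-1, 0)))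
  | _ => aone

/-- Coordinates of the letters in the second parabolic subgroup. -/
def rhoB : ℕ → Aff
  | 0 => (0, ((1, 0), (0, -1)))
  | 1 => (0, ((-1, 0), (0, 1)))
  | 2 => ((0, -1), ((1, 0), (0, -1)))
  | 3 => (0, ((-1, 0), (1, 1)))
  | 5 => (0, ((0, -1), (-1, 0)))
  | _ => aone

/-- The coordinates of a word. -/
def wordVal (ρ : ℕ → Aff) (w : List ℕ) : Aff := w.foldr (fun i p => amul (ρ i) p) aone

/-- A word in the letters of the first parabolic. -/
def okA (w : List ℕ) : Bool := w.all (fun i => i < 5) && decide (wordVal rhoA w = aone)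

/-- A word in the letters of the second parabolic. -/
def okB (w : List ℕ) : Bool :=
  w.all (fun i => i < 4 || i == 5) && decide (wordVal rhoB w = aone)

/-- Six generators with the relations of the two parabolic subgroups. -/
structure Gens (G : Type*) [Group G] where
  A : Subgroup G
  g : ℕ → G
  invol : ∀ i, g i * g i = 1
  big : ∀ i, 6 ≤ i → g i = 1
  relA : ∀ w, okA w = true → (w.map g).prod = 1
  relB : ∀ w, okB w = true → (w.map g).prod = 1
  mem : ∀ i, i < 5 → g i ∈ A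
  not_mem : g 5 ∉ A
  closure_A : A ≤ Subgroup.closure (g '' {i | i < 5})
  closure_top : Subgroup.closure (Set.range g) = ⊤
  cardA : Nat.card A = 432
  x_cube : (g 0 * g 2) ^ 3 = 1
  x_ne : g 0 * g 2 ≠ 1
  r_ne : g 1 ≠ 1
  cent : ∀ u, u * (g 0 * g 2) = (g 0 * g 2) * u → u * g 1 = g 1 * u →
    ∃ i j : ℕ, u = (g 0 * g 2) ^ i * g 1 ^ j

variable {G : Type*} [Group G]

theorem mv_ext : ∀ M N : Mat, mv M (1, 0) = mv N (1, 0) → mv M (0, 1) = mv N (0, 1) → M = N := by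
  decide +kernel

/-- Short words of the first parabolic. -/
def shortA : List (List ℕ) :=
  [[], [0], [1], [2], [4], [0, 1], [0, 2], [0, 4], [1, 2]] ++
  [[1, 4], [2, 0], [2, 4], [4, 2], [0, 1, 2], [0, 1, 4], [0, 2, 4], [0, 4, 2], [1, 2, 0]] ++
  [[1, 2, 4], [1, 4, 2], [2, 0, 4], [2, 4, 0], [2, 4, 2], [4, 2, 0], [4, 2, 4]]

/-- Short words of the second parabolic. -/
def shortB : List (List ℕ) :=
  [[], [0], [1], [3], [5], [0, 1], [0, 3], [0, 5], [1, 3]] ++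
  [[1, 5], [3, 0], [3, 5], [5, 3], [0, 1, 3], [0, 1, 5], [0, 3, 5], [0, 5, 3], [1, 3, 0]] ++
  [[1, 3, 5], [1, 5, 3], [3, 0, 5], [3, 5, 0], [3, 5, 3], [5, 3, 0], [5, 3, 5]]

theorem gl_count : ∀ M : Mat, mdet M ≠ 0 →
    ∃ w ∈ shortA, ∃ w' ∈ shortA, (wordVal rhoA (w ++ w')).2 = M := by
  decide +kernel

theorem gl_countB : ∀ M : Mat, mdet M ≠ 0 →
    ∃ w ∈ shortB, ∃ w' ∈ shortB, (wordVal rhoB (w ++ w')).2 = M := by
  decide +kernel

theorem gl_words : ∀ w ∈ shortA, ∀ w' ∈ shortA, ∀ i ∈ w ++ w', i < 5 := by decide +kernel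

theorem gl_wordsB : ∀ w ∈ shortB, ∀ w' ∈ shortB, ∀ i ∈ w ++ w', i < 4 ∨ i = 5 := by
  decide +kernel

theorem cent_coord : ∀ p : Aff, mdet p.2 ≠ 0 → amul p ((0, 1), idM) = amul ((0, 1), idM) p →
    amul p (0, ((-1, 0), (0, 1))) = amul (0, ((-1, 0), (0, 1))) p →
    p ∈ ([aone, ((0, 1), idM), ((0, 2), idM), (0, ((-1, 0), (0, 1))), ((0, 1), ((-1, 0), (0, 1))),
      ((0, 2), ((-1, 0), (0, 1)))] : List Aff) := by
  decide +kernel

theorem cent_inverse : ∀ p ∈ ([aone, ((0, 1), idM), ((0, 2), idM), (0, ((-1, 0), (0, 1))),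
      ((0, 1), ((-1, 0), (0, 1))), ((0, 2), ((-1, 0), (0, 1)))] : List Aff),
    ∃ i : Fin 3, ∃ j : Fin 2, amul p (wordVal rhoB (List.replicate j.1 1 ++
      (List.replicate i.1 [0, 2]).flatten)) = aone := by
  decide +kernel

theorem Plane.pt_ne (P : Plane G) : P.pt (-1, 0) = P.e⁻¹ := by
  rw [← P.pt_e, ← P.pt_neg]
  exact congrArg P.pt (by decide)

theorem Plane.pt_nf (P : Plane G) : P.pt (0, -1) = P.f⁻¹ := by
  rw [← P.pt_f, ← P.pt_neg]
  exact congrArg P.pt (by decide)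

theorem Plane.pt_ef (P : Plane G) : P.pt (1, 1) = P.e * P.f := by
  rw [← P.pt_e, ← P.pt_f, ← P.pt_add]
  exact congrArg P.pt (by decide)

theorem Plane.pt_nef (P : Plane G) : P.pt (-1, 1) = P.e⁻¹ * P.f := by
  rw [← P.pt_e, ← P.pt_f, ← P.pt_neg, ← P.pt_add]
  exact congrArg P.pt (by decide)

namespace Para

variable {A E : Subgroup G}

theorem rep_unique (h : Para A E) {P : Plane G} (b : Basis E P) {K : Subgroup G}
    (hK : P.Faithful K) {a : G} {p q : Aff} (hp : P.Rep K a p) (hq : P.Rep K a q) : p = q := by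
  obtain ⟨k, hk, rfl, hkM⟩ := hp
  obtain ⟨l, hl, he, hlM⟩ := hq
  have hkl : k * l⁻¹ = P.pt (q.1 - p.1) := by
    rw [sub_eq_neg_add, P.pt_add, P.pt_neg]
    calc k * l⁻¹ = (P.pt p.1)⁻¹ * (P.pt p.1 * k) * l⁻¹ := by group
      _ = _ := by rw [he]; group
  have h1 : k * l⁻¹ = 1 := hK _ (mul_mem hk (inv_mem hl)) fun w => by
    rw [hkl, ← P.pt_neg, ← P.pt_add, ← P.pt_add, show mv idM w = w by simp [mv, idM]]
    congr 1
    abel
  have hkl' : k = l := mul_inv_eq_one.1 h1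
  have hv : p.1 = q.1 := by
    have h2 := hkl.symm.trans h1
    exact (sub_eq_zero.1 (b.inj (h2.trans P.pt_zero.symm))).symm
  subst hkl'
  refine Prod.ext hv (mv_ext _ _ (b.inj ?_) (b.inj ?_)) <;> rw [← hkM, ← hlM]

theorem rep_self (h : Para A E) {P : Plane G} (b : Basis E P) {r : G} (hrA : r ∈ A)
    (hr2 : r * r = 1) (hr : ∀ x ∈ E, r * x * r⁻¹ = x⁻¹) {a : G} (ha : a ∈ A) :
    ∃ p : Aff, mdet p.2 ≠ 0 ∧ P.Rep (A ⊓ Subgroup.centralizer ({r} : Set G)) a p := by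
  obtain ⟨M, hM, haM⟩ := h.exists_acts_self b ha
  obtain ⟨k, hk, hkM⟩ := h.exists_mem_cent b hrA hr2 hr hM
  have hE : a * k⁻¹ ∈ E := h.cent _ (mul_mem ha (inv_mem (Subgroup.mem_inf.1 hk).1)) fun x hx => by
    obtain ⟨w, hw⟩ := h.exists_pt b (h.normal k⁻¹ (inv_mem (Subgroup.mem_inf.1 hk).1) x hx)
    rw [inv_inv] at hw
    calc a * k⁻¹ * x = a * (k⁻¹ * x * k) * a⁻¹ * (a * k⁻¹) := by group
      _ = k * (k⁻¹ * x * k) * k⁻¹ * (a * k⁻¹) := by rw [hw, haM, hkM]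
      _ = x * (a * k⁻¹) := by group
  obtain ⟨v, hv⟩ := h.exists_pt b hE
  exact ⟨(v, M), hM, k, hk, by rw [← hv]; group, hkM⟩

end Para

/-- The inputs of the construction. -/
structure Setup (A B E F : Subgroup G) (Z : Subgroup G) : Prop where
  pA : Para A E
  pB : Para B F
  hgen : A ⊔ B = ⊤
  ne : E ≠ F
  leB : E ≤ B
  leA : F ≤ A
  ZE : Z ≤ E
  ZF : Z ≤ F
  Zne : Z ≠ ⊥
  hNZ : Subgroup.normalizer (Z : Set G) ≤ A ⊓ B

theorem conj_swap {a b : G} (ha : a * a = 1) (h : a * b * a⁻¹ = b⁻¹) : a * b * (a * b) = 1 := by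
  have ha' : a⁻¹ = a := inv_eq_of_mul_eq_one_right ha
  rw [ha'] at h
  calc a * b * (a * b) = (a * b * a) * b := by group
    _ = 1 := by rw [h]; group

theorem inverted_mem_normalizer {E Z : Subgroup G} (hZ : Z ≤ E) {r : G}
    (hr : ∀ x ∈ E, r * x * r⁻¹ = x⁻¹) : r ∈ Subgroup.normalizer (Z : Set G) := by
  rw [Subgroup.mem_normalizer_iff]
  refine fun x => ⟨fun hx => ?_, fun hx => ?_⟩
  · rw [hr x (hZ hx)]; exact inv_mem hx
  · have h1 := hr _ (hZ hx)
    have h2 : x = (r * x * r⁻¹)⁻¹ := by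
      have : r * x * r⁻¹ = x⁻¹ := by
        have h3 : r⁻¹ * (r * x * r⁻¹)⁻¹ * r = r * x * r⁻¹ := by
          rw [← h1]; group
        have h4 : x⁻¹ = r * x * r⁻¹ := by
          calc x⁻¹ = r⁻¹ * (r * x * r⁻¹)⁻¹ * r := by group
            _ = r * x * r⁻¹ := h3
        exact h4.symm
      rw [this, inv_inv]
    rw [h2]; exact inv_mem hx

theorem exists_gens [Finite G] {A B E F Z : Subgroup G} (S : Setup A B E F Z) :
    Nonempty (Gens G) := by
  classical
  obtain ⟨r, hrA, hr2, hr⟩ := S.pA.exists_neg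
  have hr' : r⁻¹ = r := inv_eq_of_mul_eq_one_right hr2
  have hrB : r ∈ B := (Subgroup.mem_inf.1 (S.hNZ (inverted_mem_normalizer S.ZE hr))).2
  obtain ⟨t0, ht0B, ht02, ht0⟩ := S.pB.exists_neg
  -- an inverting involution of the second subgroup which commutes with the first
  have hvF : r * t0 * r⁻¹ * t0⁻¹ ∈ F := by
    refine S.pB.cent _ (mul_mem (mul_mem (mul_mem hrB ht0B) (inv_mem hrB)) (inv_mem ht0B))
      fun x hx => ?_
    have h1 := ht0 _ (S.pB.normal r⁻¹ (inv_mem hrB) x⁻¹ (inv_mem hx))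
    rw [inv_inv] at h1
    calc r * t0 * r⁻¹ * t0⁻¹ * x = r * t0 * r⁻¹ * (t0⁻¹ * x * t0) * t0⁻¹ := by group
      _ = r * t0 * r⁻¹ * x⁻¹ * t0⁻¹ := by
        have h2 := ht0 x⁻¹ (inv_mem hx)
        rw [inv_inv] at h2
        rw [show t0⁻¹ * x * t0 = x⁻¹ by
          calc t0⁻¹ * x * t0 = t0⁻¹ * (t0 * x⁻¹ * t0⁻¹) * t0 := by rw [h2]
            _ = x⁻¹ := by group]
      _ = r * (t0 * (r⁻¹ * x⁻¹ * r) * t0⁻¹) * r⁻¹ * (r * t0 * r⁻¹ * t0⁻¹) := by group
      _ = x * (r * t0 * r⁻¹ * t0⁻¹) := by rw [h1]; group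
  obtain ⟨v, hv⟩ : ∃ v, v = r * t0 * r⁻¹ * t0⁻¹ := ⟨_, rfl⟩
  rw [← hv] at hvF
  have ht0' : t0⁻¹ = t0 := inv_eq_of_mul_eq_one_right ht02
  have hrt : r * t0 * r⁻¹ = v * t0 := by rw [hv]; group
  have hrv : r * v * r⁻¹ = v⁻¹ := by
    refine eq_inv_of_mul_eq_one_left ?_
    calc r * v * r⁻¹ * v = r * (v * t0) * r⁻¹ * (r * t0 * r⁻¹)⁻¹ * v := by group
      _ = r * (r * t0 * r⁻¹) * r⁻¹ * (v * t0)⁻¹ * v := by rw [hrt]
      _ = (r * r) * t0 * (r * r)⁻¹ * t0⁻¹ := by simp only [mul_inv_rev, mul_assoc,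
            inv_mul_cancel_left, inv_mul_cancel, mul_one]
      _ = 1 := by rw [hr2]; group
  obtain ⟨t, ht⟩ : ∃ t, t = v⁻¹ * t0 := ⟨_, rfl⟩
  have htB : t ∈ B := ht ▸ mul_mem (inv_mem (S.pB.le hvF)) ht0B
  have ht2 : t * t = 1 := by
    rw [ht]
    calc v⁻¹ * t0 * (v⁻¹ * t0) = v⁻¹ * (t0 * v⁻¹ * t0⁻¹) * (t0 * t0) := by group
      _ = 1 := by rw [ht0 _ (inv_mem hvF), ht02]; group
  have ht' : t⁻¹ = t := inv_eq_of_mul_eq_one_right ht2
  have htn : ∀ x ∈ F, t * x * t⁻¹ = x⁻¹ := fun x hx => by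
    rw [ht]
    calc v⁻¹ * t0 * x * (v⁻¹ * t0)⁻¹ = v⁻¹ * (t0 * x * t0⁻¹) * v := by group
      _ = x⁻¹ := by
        rw [ht0 x hx, S.pB.comm _ (inv_mem hvF) _ (inv_mem hx)]; group
  have hrtc : r * t = t * r := by
    have h1 : r * t * r⁻¹ = t := by
      rw [ht]
      calc r * (v⁻¹ * t0) * r⁻¹ = (r * v * r⁻¹)⁻¹ * (r * t0 * r⁻¹) := by group
        _ = v * v * t0 := by rw [hrv, hrt]; group
        _ = v⁻¹ * t0 := by
          congr 1
          refine eq_inv_of_mul_eq_one_left ?_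
          rw [← S.pB.cube v hvF, pow_succ, sq]
    calc r * t = r * t * r⁻¹ * r := by group
      _ = t * r := by rw [h1]
  have htA : t ∈ A := (Subgroup.mem_inf.1 (S.hNZ (inverted_mem_normalizer S.ZF htn))).1
  have hEF : ¬ E ≤ F := fun h => S.ne (Subgroup.eq_of_le_of_card_ge h (by
    rw [S.pA.card, S.pB.card]))
  have hFE : ¬ F ≤ E := fun h => S.ne (Subgroup.eq_of_le_of_card_ge h (by
    rw [S.pA.card, S.pB.card])).symm
  -- elements of one subgroup outside the other which are fixed by the involution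
  have hcross : ∀ {P' Q' A' B' : Subgroup G}, Para A' P' → Para B' Q' → P' ≤ B' → Q' ≤ A' →
      ¬ Q' ≤ P' → ∀ w : G, w ∈ B' → w * w = 1 →
      (∀ x ∈ P', w * x * w⁻¹ = x⁻¹) → ∃ x ∈ Q', x ∉ P' ∧ x * w = w * x := by
    intro P' Q' A' B' hP hQ hPB hle hnle w hwB hw2 hw
    obtain ⟨x0, hx0, hx0P⟩ := SetLike.not_le_iff_exists.1 hnle
    have hxc : w * x0 * w⁻¹ ∈ Q' := hQ.normal w hwB x0 hx0
    have hw' : w⁻¹ = w := inv_eq_of_mul_eq_one_right hw2
    have hfix : w * (x0 * (w * x0 * w⁻¹)) * w⁻¹ = x0 * (w * x0 * w⁻¹) := by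
      rw [hQ.comm _ hx0 _ hxc]
      calc w * (w * x0 * w⁻¹ * x0) * w⁻¹ = (w * w) * x0 * (w⁻¹ * x0 * w⁻¹) := by group
        _ = x0 * (w * x0 * w⁻¹) := by rw [hw2, one_mul, hw']
        _ = w * x0 * w⁻¹ * x0 := hQ.comm _ hx0 _ hxc
    by_cases h1 : x0 * (w * x0 * w⁻¹) ∈ P'
    · exfalso
      have h2 := hw _ h1
      rw [hfix] at h2
      have h3 : x0 * (w * x0 * w⁻¹) = 1 := by
        have h4 := hP.cube _ h1
        rw [pow_succ, sq] at h4
        nth_rewrite 2 [h2] at h4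
        rwa [mul_inv_cancel, one_mul] at h4
      have h5 : w * x0 * w⁻¹ = x0⁻¹ := eq_inv_of_mul_eq_one_right h3
      apply hx0P
      refine hP.cent x0 (hle hx0) fun c hc => ?_
      obtain ⟨d, hd⟩ : ∃ d, d = x0 * c * x0⁻¹ * c⁻¹ := ⟨_, rfl⟩
      have hdP : d ∈ P' := hd ▸ mul_mem (hP.normal x0 (hle hx0) c hc) (inv_mem hc)
      have hdQ : d ∈ Q' := by
        rw [hd, show x0 * c * x0⁻¹ * c⁻¹ = x0 * (c * x0⁻¹ * c⁻¹) by group]
        exact mul_mem hx0 (hQ.normal c (hPB hc) _ (inv_mem hx0))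
      have e1 : c⁻¹ * x0 * c * x0⁻¹ = d := by
        calc c⁻¹ * x0 * c * x0⁻¹ = c⁻¹ * (x0 * c * x0⁻¹ * c⁻¹) * c := by group
          _ = c⁻¹ * (c * d) := by rw [← hd, mul_assoc, hP.comm _ hdP _ hc]
          _ = d := by group
      have e2 : x0⁻¹ * c⁻¹ * x0 * c = d := by
        calc x0⁻¹ * c⁻¹ * x0 * c = x0⁻¹ * (c⁻¹ * x0 * c * x0⁻¹) * x0 := by group
          _ = x0⁻¹ * (x0 * d) := by rw [e1, mul_assoc, hQ.comm _ hdQ _ hx0]
          _ = d := by group
      have e3 : w * d * w⁻¹ = d := by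
        conv_lhs => rw [hd]
        calc w * (x0 * c * x0⁻¹ * c⁻¹) * w⁻¹
            = (w * x0 * w⁻¹) * (w * c * w⁻¹) * (w * x0 * w⁻¹)⁻¹ * (w * c * w⁻¹)⁻¹ := by group
          _ = x0⁻¹ * c⁻¹ * x0 * c := by rw [hw c hc, h5, inv_inv, inv_inv]
          _ = d := e2
      rw [hw d hdP] at e3
      have e4 : d = 1 := by
        have h4 := hP.cube _ hdP
        rw [pow_succ, sq] at h4
        nth_rewrite 2 [← e3] at h4
        rwa [mul_inv_cancel, one_mul] at h4
      calc x0 * c = d * (c * x0) := by rw [hd]; group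
        _ = c * x0 := by rw [e4, one_mul]
    · refine ⟨x0 * (w * x0 * w⁻¹), mul_mem hx0 hxc, h1, ?_⟩
      calc x0 * (w * x0 * w⁻¹) * w = w * (x0 * (w * x0 * w⁻¹)) * w⁻¹ * w := by rw [hfix]
        _ = w * (x0 * (w * x0 * w⁻¹)) := by group
  obtain ⟨x, hxF, hxE, hxr⟩ := hcross S.pA S.pB S.leB S.leA hFE r hrB hr2 hr
  obtain ⟨y, hyE, hyF, hyt⟩ := hcross S.pB S.pA S.leA S.leB hEF t htA ht2 htn
  obtain ⟨z, hz⟩ : ∃ z, z = x * y * x⁻¹ * y⁻¹ := ⟨_, rfl⟩
  have hzE : z ∈ E := hz ▸ mul_mem (S.pA.normal x (S.leA hxF) y hyE) (inv_mem hyE)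
  have hzF : z ∈ F := by
    rw [hz, show x * y * x⁻¹ * y⁻¹ = x * (y * x⁻¹ * y⁻¹) by group]
    exact mul_mem hxF (S.pB.normal y (S.leB hyE) _ (inv_mem hxF))
  obtain ⟨z0, hz0, hz01⟩ := Z.bot_or_exists_ne_one.resolve_left S.Zne
  have hz1 : z ≠ 1 := by
    intro h1
    have hxy : x * y = y * x := by
      calc x * y = z * (y * x) := by rw [hz]; group
        _ = y * x := by rw [h1, one_mul]
    let P0 : Plane G := ⟨z0, y, S.pA.cube _ (S.ZE hz0), S.pA.cube _ hyE,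
      S.pA.comm _ (S.ZE hz0) _ hyE⟩
    have b0 : Para.Basis E P0 := S.pA.basis_of (S.ZE hz0) hyE hz01 fun hm =>
      hyF ((Subgroup.zpowers_le.2 (S.ZF hz0)) hm)
    refine hxE (S.pA.cent x (S.leA hxF) fun w hw => ?_)
    obtain ⟨v, rfl⟩ := S.pA.exists_pt b0 hw
    have c1 : Commute x z0 := S.pB.comm _ hxF _ (S.ZF hz0)
    exact ((c1.pow_right _).mul_right ((show Commute x y from hxy).pow_right _)).eq
  have hoz : orderOf z = 3 := by
    haveI : Fact (Nat.Prime 3) := ⟨Nat.prime_three⟩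
    exact orderOf_eq_prime (S.pA.cube z hzE) hz1
  have hI : Nat.card ↥(E ⊓ F) = 3 := by
    have hd : Nat.card ↥(E ⊓ F) ∣ 3 ^ 2 :=
      (Subgroup.card_dvd_of_le inf_le_left).trans (by rw [S.pA.card]; norm_num)
    obtain ⟨k, hk, e⟩ := (Nat.dvd_prime_pow Nat.prime_three).1 hd
    interval_cases k
    · exfalso
      have : z ∈ (⊥ : Subgroup G) := by
        rw [← Subgroup.eq_bot_of_card_eq (E ⊓ F) (by rw [e]; norm_num)]; exact ⟨hzE, hzF⟩
      exact hz1 (Subgroup.mem_bot.1 this)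
    · simpa using e
    · exfalso
      refine hEF fun a ha => ?_
      have h9 := Subgroup.eq_of_le_of_card_ge (inf_le_left : E ⊓ F ≤ E)
        (by rw [S.pA.card, e]; norm_num)
      rw [← h9] at ha
      exact ha.2
  have hzp : Subgroup.zpowers z = E ⊓ F := Subgroup.eq_of_le_of_card_ge
    (Subgroup.zpowers_le.2 ⟨hzE, hzF⟩) (by rw [hI, Nat.card_zpowers, hoz])
  have hZ : Z = Subgroup.zpowers z := by
    rw [hzp]
    refine Subgroup.eq_of_le_of_card_ge (le_inf S.ZE S.ZF) ?_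
    rw [hI]
    have hd : Nat.card Z ∣ 3 := by
      rw [← hI]; exact Subgroup.card_dvd_of_le (le_inf S.ZE S.ZF)
    rcases (Nat.dvd_prime Nat.prime_three).1 hd with h | h
    · exact absurd (Subgroup.eq_bot_of_card_eq _ h) S.Zne
    · omega
  let PA : Plane G := ⟨z, y, S.pA.cube z hzE, S.pA.cube y hyE, S.pA.comm _ hzE _ hyE⟩
  let PB : Plane G := ⟨z, x, S.pB.cube z hzF, S.pB.cube x hxF, S.pB.comm _ hzF _ hxF⟩
  have bA : Para.Basis E PA := S.pA.basis_of hzE hyE hz1 fun hm =>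
    hyF ((Subgroup.zpowers_le.2 hzF) hm)
  have bB : Para.Basis F PB := S.pB.basis_of hzF hxF hz1 fun hm =>
    hxE ((Subgroup.zpowers_le.2 hzE) hm)
  let KA := A ⊓ Subgroup.centralizer ({r} : Set G)
  let KB := B ⊓ Subgroup.centralizer ({t} : Set G)
  have fA : PA.Faithful KA := S.pA.faithful bA hr
  have fB : PB.Faithful KB := S.pB.faithful bB htn
  have aR : PA.Acts r ((-1, 0), (0, -1)) := PA.acts_of
    (by rw [PA.pt_ne]; exact hr z hzE) (by rw [PA.pt_nf]; exact hr y hyE)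
  have bT : PB.Acts t ((-1, 0), (0, -1)) := PB.acts_of
    (by rw [PB.pt_ne]; exact htn z hzF) (by rw [PB.pt_nf]; exact htn x hxF)
  have aT : PA.Acts t ((-1, 0), (0, 1)) := PA.acts_of
    (by rw [PA.pt_ne]; exact htn z hzF)
    (by rw [PA.pt_f]; show t * y * t⁻¹ = y; rw [← hyt, mul_inv_cancel_right])
  have bR : PB.Acts r ((-1, 0), (0, 1)) := PB.acts_of
    (by rw [PB.pt_ne]; exact hr z hzE)
    (by rw [PB.pt_f]; show r * x * r⁻¹ = x; rw [← hxr, mul_inv_cancel_right])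
  have aX : PA.Acts x ((1, 0), (1, 1)) := PA.acts_of
    (by rw [PA.pt_e]; show x * z * x⁻¹ = z; rw [S.pB.comm x hxF z hzF, mul_inv_cancel_right])
    (by rw [PA.pt_ef]; show x * y * x⁻¹ = z * y; rw [hz]; group)
  have bY : PB.Acts y ((1, 0), (-1, 1)) := PB.acts_of
    (by rw [PB.pt_e]; show y * z * y⁻¹ = z; rw [S.pA.comm y hyE z hzE, mul_inv_cancel_right])
    (by rw [PB.pt_nef]; show y * x * y⁻¹ = z⁻¹ * x; rw [hz]; group)
  obtain ⟨p, hp, pM⟩ := S.pA.exists_mem_cent bA hrA hr2 hr (M := ((0, -1), (-1, 0))) (by decide)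
  obtain ⟨q, hq, qM⟩ := S.pB.exists_mem_cent bB htB ht2 htn (M := ((0, -1), (-1, 0))) (by decide)
  have mcA : ∀ {u : G}, u ∈ A → u * r = r * u → u ∈ KA := fun h1 h2 =>
    Subgroup.mem_inf.2 ⟨h1, Subgroup.mem_centralizer_singleton_iff.2 h2⟩
  have mcB : ∀ {u : G}, u ∈ B → u * t = t * u → u ∈ KB := fun h1 h2 =>
    Subgroup.mem_inf.2 ⟨h1, Subgroup.mem_centralizer_singleton_iff.2 h2⟩
  have kAr : r ∈ KA := mcA hrA rfl
  have kAt : t ∈ KA := mcA htA hrtc.symm
  have kAx : x ∈ KA := mcA (S.leA hxF) hxr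
  have kBr : r ∈ KB := mcB hrB hrtc
  have kBt : t ∈ KB := mcB htB rfl
  have kBy : y ∈ KB := mcB (S.leB hyE) hyt
  have eqA : ∀ {u : G} {p q : Aff}, PA.Rep KA u p → p = q → PA.Rep KA u q := fun h e => e ▸ h
  have eqB : ∀ {u : G} {p q : Aff}, PB.Rep KB u p → p = q → PB.Rep KB u q := fun h e => e ▸ h
  have rA1 : PA.Rep KA r (rhoA 1) := PA.rep_of_mem kAr aR
  have rA0 : PA.Rep KA (r * t) (rhoA 0) :=
    eqA (PA.rep_mul rA1 (PA.rep_of_mem kAt aT)) (by decide)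
  have rA2 : PA.Rep KA (r * t * x) (rhoA 2) :=
    eqA (PA.rep_mul rA0 (PA.rep_of_mem kAx aX)) (by decide)
  have rA3 : PA.Rep KA (r * y) (rhoA 3) := by
    have h1 : PA.Rep KA y ((0, 1), idM) := by
      have h2 := PA.rep_pt (K := KA) (0, 1)
      rwa [PA.pt_f] at h2
    exact eqA (PA.rep_mul rA1 h1) (by decide)
  have rA4 : PA.Rep KA p (rhoA 4) := PA.rep_of_mem hp pM
  have rB1 : PB.Rep KB r (rhoB 1) := PB.rep_of_mem kBr bR
  have rB0 : PB.Rep KB (r * t) (rhoB 0) :=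
    eqB (PB.rep_mul rB1 (PB.rep_of_mem kBt bT)) (by decide)
  have rBx : PB.Rep KB x ((0, 1), idM) := by
    have h2 := PB.rep_pt (K := KB) (0, 1)
    rwa [PB.pt_f] at h2
  have rB2 : PB.Rep KB (r * t * x) (rhoB 2) := eqB (PB.rep_mul rB0 rBx) (by decide)
  have rB3 : PB.Rep KB (r * y) (rhoB 3) :=
    eqB (PB.rep_mul rB1 (PB.rep_of_mem kBy bY)) (by decide)
  have rB5 : PB.Rep KB q (rhoB 5) := PB.rep_of_mem hq qM
  let g : ℕ → G := fun i => match i with
    | 0 => r * t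
    | 1 => r
    | 2 => r * t * x
    | 3 => r * y
    | 4 => p
    | 5 => q
    | _ => 1
  have hrA' : ∀ i < 5, PA.Rep KA (g i) (rhoA i) := by
    intro i hi; interval_cases i <;> assumption
  have hrB' : ∀ i, (i < 4 ∨ i = 5) → PB.Rep KB (g i) (rhoB i) := by
    rintro i (hi | rfl)
    · interval_cases i <;> assumption
    · exact rB5
  have hinvA : ∀ i < 5, g i * g i = 1 := fun i hi => PA.rep_eq_one fA
    (eqA (PA.rep_mul (hrA' i hi) (hrA' i hi)) (by interval_cases i <;> decide))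
  have hx3 : (g 0 * g 2) = x := by
    show r * t * (r * t * x) = x
    have h0 : r * t * (r * t) = 1 := hinvA 0 (by norm_num)
    rw [← mul_assoc, h0, one_mul]
  have hy3 : g 1 * g 3 = y := by
    show r * (r * y) = y
    rw [← mul_assoc, hr2, one_mul]
  have hA5 : ∀ i < 5, g i ∈ A := fun i hi => by
    obtain ⟨k, hk, e, -⟩ := hrA' i hi
    rw [e]; exact mul_mem (S.pA.le (Para.pt_mem bA _)) (Subgroup.mem_inf.1 hk).1
  have hclA : A ≤ Subgroup.closure (g '' {i | i < 5}) := by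
    intro a ha
    set C := Subgroup.closure (g '' {i | i < 5})
    have hg : ∀ i < 5, g i ∈ C := fun i hi => Subgroup.subset_closure ⟨i, hi, rfl⟩
    have hxC : x ∈ C := hx3 ▸ mul_mem (hg 0 (by norm_num)) (hg 2 (by norm_num))
    have hyC : y ∈ C := hy3 ▸ mul_mem (hg 1 (by norm_num)) (hg 3 (by norm_num))
    have hzC : z ∈ C := hz ▸ mul_mem (mul_mem (mul_mem hxC hyC) (inv_mem hxC)) (inv_mem hyC)
    obtain ⟨⟨v, M⟩, hM, hrep⟩ := S.pA.rep_self bA hrA hr2 hr ha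
    obtain ⟨w, hw, w', hw', he⟩ := gl_count M hM
    have hlt : ∀ i ∈ w ++ w', i < 5 := gl_words w hw w' hw'
    have h1 : PA.Rep KA (((w ++ w').map g).prod) (wordVal rhoA (w ++ w')) :=
      PA.rep_prod rhoA g _ fun i hi => hrA' i (hlt i hi)
    have hmem : ((w ++ w').map g).prod ∈ C := list_prod_mem (fun u hu => by
      obtain ⟨i, hi, rfl⟩ := List.mem_map.1 hu
      exact hg i (hlt i hi))
    obtain ⟨k, hk, e, kM⟩ := h1
    obtain ⟨l, hl, e', lM⟩ := hrep
    rw [he] at kM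
    have hkl : l * k⁻¹ = 1 := by
      refine fA _ (mul_mem hl (inv_mem hk)) fun u => ?_
      obtain ⟨u', hu'⟩ := S.pA.exists_pt bA
        (S.pA.normal k⁻¹ (inv_mem (Subgroup.mem_inf.1 hk).1) _ (Para.pt_mem bA u))
      rw [inv_inv] at hu'
      rw [show mv idM u = u by simp [mv, idM]]
      calc l * k⁻¹ * PA.pt u * (l * k⁻¹)⁻¹ = l * (k⁻¹ * PA.pt u * k) * l⁻¹ := by group
        _ = k * PA.pt u' * k⁻¹ := by rw [hu', lM, kM]
        _ = PA.pt u := by rw [← hu']; group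
    have hfin : a = PA.pt v * (PA.pt (wordVal rhoA (w ++ w')).1)⁻¹ * ((w ++ w').map g).prod := by
      rw [e', e, mul_inv_eq_one.1 hkl]; group
    have hpt : ∀ u, PA.pt u ∈ C := fun u => mul_mem (pow_mem hzC _) (pow_mem hyC _)
    rw [hfin]
    exact mul_mem (mul_mem (hpt _) (inv_mem (hpt _))) hmem
  refine ⟨{
    A := A
    g := g
    invol := fun i => ?_
    big := fun i hi => ?_
    relA := fun w hw => ?_
    relB := fun w hw => ?_
    mem := hA5
    not_mem := ?_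
    closure_A := hclA
    closure_top := ?_
    cardA := S.pA.cardA
    x_cube := by rw [hx3]; exact S.pB.cube x hxF
    x_ne := by rw [hx3]; exact fun h => hxE (h ▸ E.one_mem)
    r_ne := ?_
    cent := ?_ }⟩
  · rcases lt_or_ge i 5 with hi | hi
    · exact hinvA i hi
    · rcases hi.lt_or_eq with hi' | rfl
      · rw [show g i = 1 from ?_, one_mul]
        obtain ⟨k, rfl⟩ : ∃ k, i = k + 6 := ⟨i - 6, by omega⟩
        rfl
      · exact PB.rep_eq_one fB
          (eqB (PB.rep_mul (hrB' 5 (Or.inr rfl)) (hrB' 5 (Or.inr rfl))) (by decide))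
  · obtain ⟨k, rfl⟩ : ∃ k, i = k + 6 := ⟨i - 6, by omega⟩
    rfl
  · simp only [okA, Bool.and_eq_true, List.all_eq_true, decide_eq_true_eq] at hw
    refine PA.rep_eq_one fA ?_
    have h1 := PA.rep_prod (K := KA) rhoA g w fun i hi => hrA' i (hw.1 i hi)
    rw [show w.foldr (fun i p => amul (rhoA i) p) aone = aone from hw.2] at h1
    exact h1
  · simp only [okB, Bool.and_eq_true, List.all_eq_true, decide_eq_true_eq, Bool.or_eq_true,
      beq_iff_eq] at hw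
    refine PB.rep_eq_one fB ?_
    have h1 := PB.rep_prod (K := KB) rhoB g w fun i hi => hrB' i (hw.1 i hi)
    rw [show w.foldr (fun i p => amul (rhoB i) p) aone = aone from hw.2] at h1
    exact h1
  · intro hqA
    have h1 : q * z * q⁻¹ ∈ E := S.pA.normal q hqA z hzE
    have h2 := qM (1, 0)
    rw [PB.pt_e] at h2
    change q * z * q⁻¹ = PB.pt (mv ((0, -1), (-1, 0)) (1, 0)) at h2
    rw [show mv ((0, -1), (-1, 0)) (1, 0) = ((0, -1) : Vec) by decide, PB.pt_nf] at h2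
    change q * z * q⁻¹ = x⁻¹ at h2
    rw [h2] at h1
    exact hxE (inv_mem_iff.1 h1)
  · set C := Subgroup.closure (Set.range g)
    have hg : ∀ i, g i ∈ C := fun i => Subgroup.subset_closure ⟨i, rfl⟩
    have hAC : A ≤ C := hclA.trans (Subgroup.closure_mono (Set.image_subset_range _ _))
    have hxC : x ∈ C := hx3 ▸ mul_mem (hg 0) (hg 2)
    have hyC : y ∈ C := hy3 ▸ mul_mem (hg 1) (hg 3)
    rw [eq_top_iff, ← S.hgen, sup_le_iff]
    refine ⟨hAC, fun b hb => ?_⟩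
    obtain ⟨⟨v, M⟩, hM, hrep⟩ := S.pB.rep_self bB htB ht2 htn hb
    obtain ⟨w, hw, w', hw', he⟩ := gl_countB M hM
    have h1 : PB.Rep KB (((w ++ w').map g).prod) (wordVal rhoB (w ++ w')) :=
      PB.rep_prod rhoB g _ fun i hi => hrB' i (gl_wordsB w hw w' hw' i hi)
    have hmem : ((w ++ w').map g).prod ∈ C := list_prod_mem (fun u hu => by
      obtain ⟨i, -, rfl⟩ := List.mem_map.1 hu
      exact hg i)
    have hzC : z ∈ C := hz ▸ mul_mem (mul_mem (mul_mem hxC hyC) (inv_mem hxC)) (inv_mem hyC)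
    obtain ⟨k, hk, e, kM⟩ := h1
    obtain ⟨l, hl, e', lM⟩ := hrep
    rw [he] at kM
    have hkl : l * k⁻¹ = 1 := by
      refine fB _ (mul_mem hl (inv_mem hk)) fun u => ?_
      obtain ⟨u', hu'⟩ := S.pB.exists_pt bB
        (S.pB.normal k⁻¹ (inv_mem (Subgroup.mem_inf.1 hk).1) _ (Para.pt_mem bB u))
      rw [inv_inv] at hu'
      rw [show mv idM u = u by simp [mv, idM]]
      calc l * k⁻¹ * PB.pt u * (l * k⁻¹)⁻¹ = l * (k⁻¹ * PB.pt u * k) * l⁻¹ := by group
        _ = k * PB.pt u' * k⁻¹ := by rw [hu', lM, kM]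
        _ = PB.pt u := by rw [← hu']; group
    have hfin : b = PB.pt v * (PB.pt (wordVal rhoB (w ++ w')).1)⁻¹ * ((w ++ w').map g).prod := by
      rw [e', e, mul_inv_eq_one.1 hkl]; group
    have hpt : ∀ u, PB.pt u ∈ C := fun u => mul_mem (pow_mem hzC _) (pow_mem hxC _)
    rw [hfin]
    exact mul_mem (mul_mem (hpt _) (inv_mem (hpt _))) hmem
  · intro h1
    have := hr z hzE
    rw [show r = 1 from h1, one_mul, inv_one, mul_one] at this
    have h4 := S.pA.cube z hzE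
    rw [pow_succ, sq] at h4
    nth_rewrite 2 [this] at h4
    rw [mul_inv_cancel, one_mul] at h4
    exact hz1 h4
  · intro u hux hur
    rw [hx3] at hux ⊢
    change u * r = r * u at hur
    obtain ⟨k, hk, kM⟩ := S.pB.exists_mem_cent bB htB ht2 htn (M := ((0, 1), (1, 0))) (by decide)
    have hkz : k * z * k⁻¹ = x := by
      have h2 := kM (1, 0)
      rw [PB.pt_e, show mv ((0, 1), (1, 0)) (1, 0) = ((0, 1) : Vec) by decide, PB.pt_f] at h2
      exact h2
    have hu : u ∈ B := by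
      have h1 : k⁻¹ * u * k * z = z * (k⁻¹ * u * k) := by
        calc k⁻¹ * u * k * z = k⁻¹ * (u * (k * z * k⁻¹)) * k := by group
          _ = k⁻¹ * ((k * z * k⁻¹) * u) * k := by rw [hkz, hux]
          _ = z * (k⁻¹ * u * k) := by group
      have h2 : k⁻¹ * u * k ∈ Subgroup.normalizer (Z : Set G) := by
        rw [hZ]
        refine Subgroup.centralizer_le_normalizer _ (Subgroup.mem_centralizer_iff.2 fun w hw => ?_)
        obtain ⟨n, rfl⟩ := Subgroup.mem_zpowers_iff.1 hw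
        exact ((show Commute (k⁻¹ * u * k) z from h1).zpow_right n).symm.eq
      have hkB := (Subgroup.mem_inf.1 hk).1
      have := mul_mem (mul_mem hkB (Subgroup.mem_inf.1 (S.hNZ h2)).2) (inv_mem hkB)
      rwa [show k * (k⁻¹ * u * k) * k⁻¹ = u by group] at this
    obtain ⟨c, hc, hrep⟩ := S.pB.rep_self bB htB ht2 htn hu
    have e1 := S.pB.rep_unique bB fB (PB.rep_mul hrep rBx) (hux.symm ▸ PB.rep_mul rBx hrep)
    have e2 := S.pB.rep_unique bB fB (PB.rep_mul hrep rB1) (hur.symm ▸ PB.rep_mul rB1 hrep)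
    obtain ⟨i, j, hij⟩ := cent_inverse c (cent_coord c hc e1 e2)
    have h3 : PB.Rep KB (u * (((List.replicate j.1 1 ++
        (List.replicate i.1 [0, 2]).flatten)).map g).prod) aone := by
      refine eqB (PB.rep_mul hrep (PB.rep_prod rhoB g _ fun n hn => hrB' n ?_)) hij
      rcases List.mem_append.1 hn with hn | hn
      · left; rw [List.eq_of_mem_replicate hn]; norm_num
      · obtain ⟨l, hl, hn⟩ := List.mem_flatten.1 hn
        rw [List.eq_of_mem_replicate hl] at hn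
        left; fin_cases hn <;> norm_num
    have h4 := PB.rep_eq_one fB h3
    have h5 : (((List.replicate j.1 1 ++ (List.replicate i.1 [0, 2]).flatten)).map g).prod =
        r ^ j.1 * x ^ i.1 := by
      have hx' : ∀ n : ℕ, (((List.replicate n [0, 2]).flatten).map g).prod = x ^ n := by
        intro n
        induction n with
        | zero => simp
        | succ n ih =>
          rw [List.replicate_succ, List.flatten_cons, List.map_append, List.prod_append, ih,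
            pow_succ']
          congr 1
          simp [hx3]
      rw [List.map_append, List.prod_append, hx', List.map_replicate, List.prod_replicate]
      rfl
    rw [h5] at h4
    refine ⟨3 - i.1, j.1, ?_⟩
    have hx3' : x ^ (3 - i.1) * x ^ i.1 = 1 := by
      rw [← pow_add, Nat.sub_add_cancel (by omega), S.pB.cube x hxF]
    have hrr : r ^ j.1 * r ^ j.1 = 1 := by rw [← (Commute.refl r).mul_pow, hr2, one_pow]
    calc u = u * (r ^ j.1 * x ^ i.1) * (x ^ i.1)⁻¹ * (r ^ j.1)⁻¹ := by group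
      _ = x ^ (3 - i.1) * r ^ j.1 := by
        rw [h4, one_mul, ← eq_inv_of_mul_eq_one_left hx3', inv_eq_of_mul_eq_one_right hrr]

end Cfsg.Agent.AmalgamThree19
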