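import Cfsg.Agent.Lib.CommGraphL33Base

/-!
The elements of `SL(3,3)` with centralizer order divisible by `27` are the transvections.
-/

set_option autoImplicit false
set_option maxRecDepth 100000

namespace Cfsg.Agent.CommGraphL33

open Matrix

theorem card_SL33 {F : Type} [Field F] [Finite F] (hF : Nat.card F = 3) :
    Nat.card (Matrix.SpecialLinearGroup (Fin 3) F) = 5616 := by
  have h := PSLCard.card_SL (F := F) 3
  rw [hF] at h
  generalize Nat.card (Matrix.SpecialLinearGroup (Fin 3) F) = n at h ⊢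
  norm_num [Fin.prod_univ_three] at h
  omega

theorem card_S : Nat.card S = 5616 := by
  have h := card_SL33 (F := ZMod 3) (Nat.card_zmod 3)
  exact h

theorem center_S : Subgroup.center S = ⊥ := by
  rw [← Subgroup.card_eq_one, PSLCard.card_center_SL, Nat.card_zmod]; rfl

/-- `SL(3,3)` is `PSL(3,3)` -/
noncomputable def projEquiv : S ≃* Matrix.ProjectiveSpecialLinearGroup (Fin 3) (ZMod 3) :=
  ((QuotientGroup.quotientMulEquivOfEq center_S).trans QuotientGroup.quotientBot).symm

instance isSimple_S : IsSimpleGroup S := by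
  haveI : IsSimpleGroup (Matrix.ProjectiveSpecialLinearGroup (Fin 3) (ZMod 3)) :=
    PSLSimple.isSimpleGroup_PSL_fin' (by norm_num) (by norm_num)
  exact projEquiv.isSimpleGroup

/-- upper unitriangular matrices -/
def umat (a b c : ZMod 3) : Matrix (Fin 3) (Fin 3) (ZMod 3) := !![1, a, c; 0, 1, b; 0, 0, 1]

theorem det_umat : ∀ a b c : ZMod 3, (umat a b c).det = 1 := by decide +kernel

def u (t : ZMod 3 × ZMod 3 × ZMod 3) : S := ⟨umat t.1 t.2.1 t.2.2, det_umat _ _ _⟩

theorem umat_mul (a b c a' b' c' : ZMod 3) :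
    umat a b c * umat a' b' c' = umat (a + a') (b + b') (c + c' + a * b') := by
  ext i j
  fin_cases i <;> fin_cases j <;> simp [umat, Matrix.mul_apply, Fin.sum_univ_three] <;> ring

theorem u_mul (s t : ZMod 3 × ZMod 3 × ZMod 3) :
    u s * u t = u (s.1 + t.1, s.2.1 + t.2.1, s.2.2 + t.2.2 + s.1 * t.2.1) :=
  Subtype.ext (umat_mul _ _ _ _ _ _)

theorem u_zero : u (0, 0, 0) = 1 := by
  apply Subtype.ext
  ext i j
  fin_cases i <;> fin_cases j <;> rfl

/-- the upper unitriangular group -/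
def U : Subgroup S where
  carrier := Set.range u
  one_mem' := ⟨_, u_zero⟩
  mul_mem' := by rintro _ _ ⟨s, rfl⟩ ⟨t, rfl⟩; exact ⟨_, (u_mul s t).symm⟩
  inv_mem' := by
    rintro _ ⟨⟨a, b, c⟩, rfl⟩
    refine ⟨(-a, -b, -c + a * b), eq_inv_of_mul_eq_one_left ?_⟩
    rw [u_mul, ← u_zero]
    congr 1
    refine Prod.ext (by simp) (Prod.ext (by simp) ?_)
    simp

theorem u_injective : Function.Injective u := by
  rintro ⟨a, b, c⟩ ⟨a', b', c'⟩ h
  have h' := congrArg Subtype.val h
  have h1 := congrFun (congrFun h' 0) 1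
  have h2 := congrFun (congrFun h' 1) 2
  have h3 := congrFun (congrFun h' 0) 2
  simp [u, umat] at h1 h2 h3
  simp [h1, h2, h3]

theorem card_U : Nat.card U = 27 := by
  have : Nat.card U = Nat.card (Set.range u) := rfl
  rw [this, Nat.card_range_of_injective u_injective]
  simp

theorem factorization_card : (Nat.card S).factorization 3 = 3 := by
  rw [card_S]
  have h : (5616 : ℕ) = 3 ^ 3 * 208 := by norm_num
  rw [h, Nat.factorization_mul (by norm_num) (by norm_num), Nat.Prime.factorization_pow Nat.prime_three]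
  simp [Nat.factorization_eq_zero_of_not_dvd (show ¬ 3 ∣ 208 by norm_num)]

/-- the centralizer as a subgroup has the size of the commuting set -/
theorem card_comm_eq {G : Type*} [Group G] (x : G) :
    Nat.card {y : G // Commute x y} = Nat.card (Subgroup.centralizer ({x} : Set G)) := by
  refine Nat.card_congr (Equiv.subtypeEquivRight fun y => ?_)
  rw [Subgroup.mem_centralizer_singleton_iff]
  exact ⟨fun h => h.eq.symm, fun h => (show Commute y x from h).symm⟩

theorem comm_gens_u {y : S} (h1 : Commute y (u (1, 0, 0))) (h2 : Commute y (u (0, 1, 0))) :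
    ∃ c, y = z13 c := by
  have e1 := congrArg Subtype.val h1.eq
  have e2 := congrArg Subtype.val h2.eq
  change y.1 * umat 1 0 0 = umat 1 0 0 * y.1 at e1
  change y.1 * umat 0 1 0 = umat 0 1 0 * y.1 at e2
  have hd : Matrix.det y.1 = 1 := y.2
  generalize hA : y.1 = A at e1 e2 hd
  have a := fun i j => congrFun (congrFun e1 i) j
  have b := fun i j => congrFun (congrFun e2 i) j
  simp only [umat, Matrix.mul_apply, Fin.sum_univ_three] at a b
  have a01 := a 0 1; have a11 := a 1 1; have a21 := a 2 1; have a02 := a 0 2; have a00 := a 0 0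
  have b02 := b 0 2; have b12 := b 1 2; have b22 := b 2 2; have b01 := b 0 1; have b11 := b 1 1
  have b10 := b 1 0; have b00 := b 0 0
  simp at a01 a11 a21 a02 a00 b02 b12 b22 b01 b11 b10 b00
  rw [Matrix.det_fin_three] at hd
  have h21 : A 2 1 = 0 := by grind
  have h20 : A 2 0 = 0 := by grind
  have h10 : A 1 0 = 0 := by grind
  have h12 : A 1 2 = 0 := by grind
  have h01 : A 0 1 = 0 := by grind
  have h11 : A 1 1 = A 0 0 := by grind
  have h22 : A 2 2 = A 0 0 := by grind
  rw [h21, h20, h10, h12, h01, h11, h22] at hd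
  have hone : ∀ t : ZMod 3, t * t * t = 1 → t = 1 := by decide +kernel
  have h00 : A 0 0 = 1 := hone _ (by linear_combination hd)
  refine ⟨A 0 2, Subtype.ext (hA.trans ?_)⟩
  ext i j
  fin_cases i <;> fin_cases j <;> simp [z13, e13, h21, h20, h10, h12, h01, h11, h22, h00]

theorem z13_commute_u (c : ZMod 3) (t : ZMod 3 × ZMod 3 × ZMod 3) : Commute (z13 c) (u t) := by
  apply Subtype.ext
  obtain ⟨a, b, d⟩ := t
  change e13 c * umat a b d = umat a b d * e13 c
  ext i j
  fin_cases i <;> fin_cases j <;> simp [e13, umat, Matrix.mul_apply, Fin.sum_univ_three]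
  ring

theorem z13_zero : z13 0 = 1 := by
  apply Subtype.ext
  ext i j
  fin_cases i <;> fin_cases j <;> rfl

theorem e13_conj (A B : Matrix (Fin 3) (Fin 3) (ZMod 3)) (b : ZMod 3) (h : A * B = 1) :
    A * e13 b * B = 1 + Matrix.of fun i j => b * A i 0 * B 2 j := by
  have he : e13 b = 1 + Matrix.single 0 2 b := by
    ext i j
    fin_cases i <;> fin_cases j <;> simp [e13]
  rw [he, Matrix.mul_add, Matrix.mul_one, Matrix.add_mul, h]
  congr 1
  ext i j
  rw [Matrix.of_apply, Matrix.mul_apply, Fin.sum_univ_three]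
  simp
  left
  ring

theorem comm_e13_shape {A : Matrix (Fin 3) (Fin 3) (ZMod 3)} (e : e13 1 * A = A * e13 1) :
    A 1 0 = 0 ∧ A 2 0 = 0 ∧ A 2 1 = 0 ∧ A 2 2 = A 0 0 := by
  have q := fun i j => congrFun (congrFun e i) j
  simp only [e13, Matrix.mul_apply, Fin.sum_univ_three] at q
  have q00 := q 0 0; have q12 := q 1 2; have q01 := q 0 1; have q02 := q 0 2
  simp at q00 q12 q01 q02
  refine ⟨?_, ?_, ?_, ?_⟩ <;> grind

theorem ext_shape {A B : Matrix (Fin 3) (Fin 3) (ZMod 3)} (a1 : A 1 0 = 0) (a2 : A 2 0 = 0)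
    (a3 : A 2 1 = 0) (a4 : A 2 2 = A 0 0) (b1 : B 1 0 = 0) (b2 : B 2 0 = 0)
    (b3 : B 2 1 = 0) (b4 : B 2 2 = B 0 0) (c0 : A 0 0 = B 0 0) (c1 : A 1 1 = B 1 1)
    (c2 : A 0 1 = B 0 1) (c3 : A 0 2 = B 0 2) (c4 : A 1 2 = B 1 2) : A = B := by
  ext i j
  fin_cases i <;> fin_cases j <;> simp_all

theorem pv_cover : ∀ v : Fin 3 → ZMod 3, v ≠ 0 → ∃ p s, v = fun i => s * pv p i := by
  decide +kernel

theorem tv_one_eq (a : Fl) : ∃ g : S, g * z13 1 * g⁻¹ = tv a 1 := by
  obtain ⟨hd, h⟩ := gMat_spec a.1.1 a.1.2 a.2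
  refine ⟨⟨gMat a.1.1 a.1.2, hd⟩, mul_inv_eq_iff_eq_mul.2 (Subtype.ext ?_)⟩
  exact h

theorem tv_sq (a : Fl) : tv a 1 * tv a 1 = tv a 2 ∧ tv a 2 * tv a 2 = tv a 1 ∧
    tv a 1 ≠ 1 ∧ tv a 2 ≠ 1 := by
  obtain ⟨h1, h2, h3, h4⟩ := tv_mat_sq a.1.1 a.1.2 a.2
  exact ⟨Subtype.ext h1, Subtype.ext h2, fun h => h3 (congrArg Subtype.val h),
    fun h => h4 (congrArg Subtype.val h)⟩

theorem zmod_cases : ∀ c : ZMod 3, c ≠ 0 → c = 1 ∨ c = 2 := by decide +kernel

theorem commute_tv_one_iff (a : Fl) {c : ZMod 3} (hc : c ≠ 0) (y : S) :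
    Commute (tv a c) y ↔ Commute (tv a 1) y := by
  rcases zmod_cases c hc with rfl | rfl
  · rfl
  · constructor
    · intro h; rw [← (tv_sq a).2.1]; exact h.mul_left h
    · intro h; rw [← (tv_sq a).1]; exact h.mul_left h

theorem commute_tv_iff (a b : Fl) {c d : ZMod 3} (hc : c ≠ 0) (hd : d ≠ 0) :
    Commute (tv a c) (tv b d) ↔ Adj a b := by
  rw [commute_tv_one_iff a hc]
  rw [Commute.symm_iff, commute_tv_one_iff b hd, Commute.symm_iff]
  refine Iff.trans ⟨fun h => congrArg Subtype.val h.eq, fun h => Subtype.ext h⟩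
    (comm_mat_one a.1.1 a.1.2 a.2 b.1.1 b.1.2 b.2)

theorem isTv_tv (a : Fl) {c : ZMod 3} (hc : c ≠ 0) : IsTv (tv a c) := by
  refine ⟨?_, ?_⟩
  · rcases zmod_cases c hc with rfl | rfl
    · exact (tv_sq a).2.2.1
    · exact (tv_sq a).2.2.2
  rw [Nat.card_congr (Equiv.subtypeEquivRight fun y => commute_tv_one_iff a hc y), card_comm_eq]
  obtain ⟨g, hg⟩ := tv_one_eq a
  have hle : U.map (MulAut.conj g).toMonoidHom ≤ Subgroup.centralizer ({tv a 1} : Set S) := by
    rintro _ ⟨_, ⟨t, rfl⟩, rfl⟩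
    rw [Subgroup.mem_centralizer_singleton_iff, ← hg]
    change (MulAut.conj g) (u t) * (MulAut.conj g) (z13 1) =
      (MulAut.conj g) (z13 1) * (MulAut.conj g) (u t)
    rw [← map_mul, ← map_mul, (z13_commute_u 1 t).eq]
  have h := Subgroup.card_dvd_of_le hle
  rwa [Subgroup.card_map_of_injective (MulAut.conj g).injective, card_U] at h

set_option maxHeartbeats 400000 in
theorem exists_tv_of_isTv {x : S} (hx : IsTv x) : ∃ a c, c ≠ 0 ∧ x = tv a c := by
  classical
  set C := Subgroup.centralizer ({x} : Set S)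
  have hC : 27 ∣ Nat.card C := by rw [← card_comm_eq]; exact hx.2
  obtain ⟨Q⟩ : Nonempty (Sylow 3 C) := inferInstance
  have hQC : Nat.card Q = 27 := by
    rw [Q.card_eq_multiplicity]
    have h1 : 3 ≤ (Nat.card C).factorization 3 :=
      (Nat.prime_three.pow_dvd_iff_le_factorization Nat.card_pos.ne').1 hC
    have h2 : (Nat.card C).factorization 3 ≤ 3 :=
      ((Nat.factorization_le_iff_dvd Nat.card_pos.ne' Nat.card_pos.ne').2
        (Subgroup.card_subgroup_dvd_card C) 3).trans factorization_card.le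
    rw [le_antisymm h2 h1]; rfl
  have hQ' : Nat.card ((Q : Subgroup C).map C.subtype) = 27 := by
    rw [Subgroup.card_map_of_injective C.subtype_injective]; exact hQC
  let P : Sylow 3 S := Sylow.ofCard ((Q : Subgroup C).map C.subtype)
    (by rw [hQ', factorization_card]; rfl)
  let P0 : Sylow 3 S := Sylow.ofCard U (by rw [card_U, factorization_card]; rfl)
  obtain ⟨g, hg⟩ := MulAction.exists_smul_eq S P0 P
  have hcomm : ∀ t, Commute (g⁻¹ * x * g) (u t) := by
    intro t
    have hm : g * u t * g⁻¹ ∈ (P : Subgroup S) := by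
      rw [← hg, Sylow.smul_def, Sylow.pointwise_smul_def]
      exact Subgroup.mem_map_of_mem _ (show u t ∈ U from ⟨t, rfl⟩)
    have hm' : g * u t * g⁻¹ ∈ C := Subgroup.map_subtype_le _ hm
    have h := (show Commute (g * u t * g⁻¹) x from
      Subgroup.mem_centralizer_singleton_iff.1 hm').symm
    have h2 := h.map (MulAut.conj g⁻¹).toMonoidHom
    simpa [MulAut.conj_apply, mul_assoc] using h2
  obtain ⟨b, hb⟩ := comm_gens_u (hcomm _) (hcomm _)
  have hb0 : b ≠ 0 := by
    rintro rfl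
    rw [z13_zero] at hb
    apply hx.1
    calc x = g * (g⁻¹ * x * g) * g⁻¹ := by group
      _ = 1 := by rw [hb]; group
  have hxg : x = g * z13 b * g⁻¹ := by rw [← hb]; group
  -- `x = 1 + b (g e₁)(e₃ g⁻¹)`
  let v : Fin 3 → ZMod 3 := fun i => g.1 i 0
  let w : Fin 3 → ZMod 3 := fun j => (g⁻¹ : S).1 2 j
  have hgg : g.1 * (g⁻¹ : S).1 = 1 := congrArg Subtype.val (mul_inv_cancel g)
  have hgg' : (g⁻¹ : S).1 * g.1 = 1 := congrArg Subtype.val (inv_mul_cancel g)
  have hxmat : x.1 = 1 + Matrix.of fun i j => b * v i * w j := by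
    rw [hxg]
    exact e13_conj g.1 (g⁻¹ : S).1 b hgg
  have hdot : w 0 * v 0 + w 1 * v 1 + w 2 * v 2 = 0 := by
    have := congrFun (congrFun hgg' 2) 0
    simpa [Matrix.mul_apply, Fin.sum_univ_three, v, w] using this
  have hv : v ≠ 0 := by
    intro h
    have h' := congrFun (congrFun hgg' 0) 0
    have hz : ∀ i, g.1 i 0 = 0 := fun i => congrFun h i
    rw [Matrix.mul_apply, Finset.sum_eq_zero (fun k _ => by rw [hz, mul_zero])] at h'
    exact absurd h' (by decide)
  have hw : w ≠ 0 := by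
    intro h
    have h' := congrFun (congrFun hgg' 2) 2
    have hz : ∀ j, (g⁻¹ : S).1 2 j = 0 := fun j => congrFun h j
    rw [Matrix.mul_apply, Finset.sum_eq_zero (fun k _ => by rw [hz, zero_mul])] at h'
    exact absurd h' (by decide)
  obtain ⟨p, s, hs⟩ := pv_cover v hv
  obtain ⟨l, t, ht⟩ := pv_cover w hw
  have hs0 : s ≠ 0 := by rintro rfl; apply hv; rw [hs]; funext i; simp
  have ht0 : t ≠ 0 := by rintro rfl; apply hw; rw [ht]; funext i; simp
  have hinc : inc p l = true := by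
    rw [inc, beq_iff_eq]
    have : s * t * (pv p 0 * pv l 0 + pv p 1 * pv l 1 + pv p 2 * pv l 2) = 0 := by
      rw [← hdot, hs, ht]; ring
    exact (mul_eq_zero.1 this).resolve_left (mul_ne_zero hs0 ht0)
  refine ⟨⟨(p, l), hinc⟩, b * s * t, mul_ne_zero (mul_ne_zero hb0 hs0) ht0, Subtype.ext ?_⟩
  rw [hxmat]
  change _ = mat p l (b * s * t)
  rw [mat]
  congr 1
  ext i j
  simp only [Matrix.of_apply, hs, ht]
  ring

/-- only the identity commutes with all transvections -/
theorem eq_one_of_commute_tv {y : S} (h : ∀ a : Fl, Commute y (tv a 1)) : y = 1 := by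
  obtain ⟨c, hc⟩ : ∃ c, y = z13 c := by
    apply comm_gens_u
    · have : tv ⟨(0, 1), by decide⟩ 1 = u (1, 0, 0) := Subtype.ext (by decide +kernel)
      rw [← this]; exact h _
    · have : tv ⟨(1, 2), by decide⟩ 1 = u (0, 1, 0) := Subtype.ext (by decide +kernel)
      rw [← this]; exact h _
  subst hc
  have h' := congrArg Subtype.val (h ⟨(2, 0), by decide⟩).eq
  change e13 c * mat 2 0 1 = mat 2 0 1 * e13 c at h'
  have key : ∀ c : ZMod 3, e13 c * mat 2 0 1 = mat 2 0 1 * e13 c → c = 0 := by decide +kernel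
  rw [key c h', z13_zero]

/-- a transvection has a small centralizer -/
theorem card_comm_tv_le (a : Fl) {c : ZMod 3} (hc : c ≠ 0) :
    Nat.card {y : S // Commute (tv a c) y} ≤ 243 := by
  rw [Nat.card_congr (Equiv.subtypeEquivRight fun y => commute_tv_one_iff a hc y)]
  obtain ⟨g, hg⟩ := tv_one_eq a
  let f : {y : S // Commute (tv a 1) y} → (Fin 5 → ZMod 3) := fun y =>
    let A : Matrix (Fin 3) (Fin 3) (ZMod 3) := (g⁻¹ * y.1 * g).1
    ![A 0 0, A 1 1, A 0 1, A 0 2, A 1 2]
  have hf : Function.Injective f := by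
    rintro ⟨y, hy⟩ ⟨y', hy'⟩ hyy
    apply Subtype.ext
    suffices h : g⁻¹ * y * g = g⁻¹ * y' * g by simpa using h
    have key : ∀ z : S, Commute (tv a 1) z → Commute (z13 1) (g⁻¹ * z * g) := by
      intro z hz
      rw [← hg] at hz
      have := hz.map (MulAut.conj g⁻¹).toMonoidHom
      simpa [MulAut.conj_apply, mul_assoc] using this
    have sh : ∀ z : S, Commute (z13 1) z →
        z.1 1 0 = 0 ∧ z.1 2 0 = 0 ∧ z.1 2 1 = 0 ∧ z.1 2 2 = z.1 0 0 := by
      intro z hz
      exact comm_e13_shape (congrArg Subtype.val hz.eq)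
    obtain ⟨a1, a2, a3, a4⟩ := sh _ (key y hy)
    obtain ⟨b1, b2, b3, b4⟩ := sh _ (key y' hy')
    have c0 := congrFun hyy 0; have c1 := congrFun hyy 1; have c2 := congrFun hyy 2
    have c3 := congrFun hyy 3; have c4 := congrFun hyy 4
    simp [f] at c0 c1 c2 c3 c4
    exact Subtype.ext (ext_shape a1 a2 a3 a4 b1 b2 b3 b4 c0 c1 c2 c3 c4)
  refine (Nat.card_le_card_of_injective f hf).trans ?_
  simp

end Cfsg.Agent.CommGraphL33
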