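import Cfsg.Agent.Lib.AmalgamThree19Model
import Cfsg.Agent.Lib.AmalgamThree19CertP
import Cfsg.Agent.Lib.AmalgamThree19CertA0
import Cfsg.Agent.Lib.AmalgamThree19CertA1
import Cfsg.Agent.Lib.GolayEnum
import Cfsg.Agent.Lib.GolaySolve
import Cfsg.Agent.Lib.GolaySimple
import Cfsg.Agent.Lib.CommGraphL33Transv

/-!
The two groups with their generators.
-/

set_option autoImplicit false
set_option maxRecDepth 100000

namespace Cfsg.Agent.AmalgamThree19

open Cfsg Cfsg.Agent.GolayPerm Cfsg.Agent.GolayEnum Cfsg.Agent.GolaySolve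

/-- A group with six generators satisfying the relations. -/
structure Model (M : Type*) [Group M] (n : ℕ) (rs : List (List ℕ)) where
  g : ℕ → M
  invol : ∀ i, g i * g i = 1
  big : ∀ i, 6 ≤ i → g i = 1
  rel : ∀ w ∈ rs, (w.map g).prod = 1
  relP : ∀ w ∈ AmalgamThree19CertP.rels, w ≠ [5] → (w.map g).prod = 1
  top : Subgroup.closure (Set.range g) = ⊤
  card : Nat.card M = n * 432
  simple : IsSimpleGroup M

/-- The words of a subgroup of order twenty-seven. -/
def w27 : List (List ℕ) :=
  [[], [0, 2], [1, 3], [0, 2, 0, 2],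
   [1, 3, 0, 2], [0, 2, 1, 3], [1, 3, 1, 3], [1, 3, 0, 2, 0, 2],
   [0, 2, 1, 3, 0, 2], [1, 3, 1, 3, 0, 2], [0, 2, 0, 2, 1, 3], [1, 3, 0, 2, 1, 3],
   [0, 2, 1, 3, 1, 3], [0, 2, 1, 3, 0, 2, 0, 2], [1, 3, 1, 3, 0, 2, 0, 2], [0, 2, 0, 2, 1, 3, 0, 2],
   [1, 3, 0, 2, 1, 3, 0, 2], [0, 2, 1, 3, 1, 3, 0, 2], [1, 3, 1, 3, 0, 2, 1, 3], [1, 3, 0, 2, 1, 3, 1, 3],
   [0, 2, 0, 2, 1, 3, 0, 2, 0, 2], [1, 3, 0, 2, 1, 3, 0, 2, 0, 2], [0, 2, 1, 3, 1, 3, 0, 2, 0, 2], [1, 3, 1, 3, 0, 2, 1, 3, 0, 2],
   [1, 3, 0, 2, 1, 3, 1, 3, 0, 2], [1, 3, 1, 3, 0, 2, 1, 3, 0, 2, 0, 2], [1, 3, 0, 2, 1, 3, 1, 3, 0, 2, 0, 2]]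

/-- The powers of a word. -/
def powers (w : List ℕ) (n : ℕ) : List (List ℕ) :=
  (List.range n).map fun k => (List.replicate k w).flatten

/-- Squares of the letters. -/
def squares : List (List ℕ) := (List.range 6).map fun i => [i, i]

theorem invol_of {M : Type*} [Group M] {C : Type} [DecidableEq C] (T : Coding M C) (g : ℕ → C)
    (hbig : ∀ i, 6 ≤ i → g i = T.one) (h : T.relsOk g squares = true) :
    ∀ i, T.rep (g i) * T.rep (g i) = 1 := by
  intro i
  by_cases hi : i < 6
  · have := T.prod_of_relsOk g h (w := [i, i])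
      (List.mem_map.2 ⟨i, List.mem_range.2 hi, rfl⟩)
    simpa using this
  · rw [hbig i (by omega), T.rep_one, one_mul]

/-! ### The sporadic group -/

/-- A code of a permutation. -/
def okP (P : ℕ) : Bool := valid P && (pcomp P idP == P)

theorem okP_one : okP idP = true := by decide +kernel

/-- The codes of the permutations of the twenty-four points. -/
noncomputable def codingP : Coding (Equiv.Perm GolayPt) ℕ where
  mul := pcomp
  one := idP
  ok := okP
  rep := permOf
  ok_one := okP_one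
  rep_one := permOf_idP
  rep_mul a b ha hb hc := by
    simp only [okP, Bool.and_eq_true] at ha hb hc
    exact permOf_pcomp ha.1 hb.1 hc.1 rfl
  inj a b ha hb h := by
    simp only [okP, Bool.and_eq_true, beq_iff_eq] at ha hb
    exact eq_of_permOf_eq ha.1 hb.1 ha.2 hb.2 h

/-- The generators. -/
def gM12 : ℕ → ℕ
  | 0 => 0x8da6fac2f2a390c59ccd524a410c20
  | 1 => 0xbae957b6289ba44b1cd0524ac18820
  | 2 => 0x2ceb4b36295ba4c79e06522e418440
  | 3 => 0x9aeb1ba2847a98db3932380b018826
  | 4 => 0xb9eb47b6309964652c88b31c910c20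
  | 5 => 0x5c6b3a22d07b9a2b9d32518a323001
  | _ => idP

theorem gM12_big : ∀ i, 6 ≤ i → gM12 i = idP := by
  intro i hi
  obtain ⟨k, rfl⟩ := Nat.exists_eq_add_of_le hi
  rw [Nat.add_comm]
  rfl

theorem gM12_mem : (List.range 7).all (fun i => memCheck [] 340831 (gM12 i)) = true := by
  decide +kernel

theorem gM12_perm_mem (i : ℕ) : permOf (gM12 i) ∈ Spor.M12 := by
  refine mem_M12_of_check ?_
  rcases lt_or_ge i 7 with hi | hi
  · exact List.all_eq_true.1 gM12_mem i (List.mem_range.2 hi)
  · rw [gM12_big i (by omega), ← gM12_big 6 le_rfl]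
    exact List.all_eq_true.1 gM12_mem 6 (List.mem_range.2 (by norm_num))

/-- The generators in the sporadic group. -/
noncomputable def elM12 (i : ℕ) : Spor.M12 := ⟨permOf (gM12 i), gM12_perm_mem i⟩

theorem gM12_sq : codingP.relsOk gM12 squares = true := by decide +kernel
theorem gM12_relA : codingP.relsOk gM12 AmalgamThree19CertA1.rels = true := by decide +kernel
theorem gM12_relP :
    codingP.relsOk gM12 (AmalgamThree19CertP.rels.filter fun w => !(w == [5])) = true := by
  decide +kernel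
theorem gM12_eleven : codingP.groupCheck gM12 (powers [2, 4, 5] 11) 11 = true := by decide +kernel
theorem gM12_five : codingP.groupCheck gM12 (powers [2, 4, 2, 5] 5) 5 = true := by decide +kernel
theorem gM12_eight : codingP.groupCheck gM12 (powers [0, 2, 4] 8) 8 = true := by decide +kernel
theorem gM12_27 : codingP.groupCheck gM12 w27 27 = true := by decide +kernel

theorem elM12_prod {w : List ℕ} (h : (w.map fun i => codingP.rep (gM12 i)).prod = 1) :
    (w.map elM12).prod = 1 := by
  refine Subtype.ext ?_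
  rw [SubmonoidClass.coe_list_prod, List.map_map]
  exact h

theorem dvd_card_elM12 {ws : List (List ℕ)} {n : ℕ} (h : codingP.groupCheck gM12 ws n = true) :
    n ∣ Nat.card (Subgroup.closure (Set.range elM12)) := by
  have h' := codingP.dvd_card_closure gM12 h
  rwa [← Subgroup.card_subtype, MonoidHom.map_closure, ← Set.range_comp]

/-- The sporadic group with its generators. -/
noncomputable def modelM12 : Model Spor.M12 220 AmalgamThree19CertA1.rels where
  g := elM12
  invol i := Subtype.ext (by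
    rw [Subgroup.coe_mul]
    exact invol_of codingP gM12 gM12_big gM12_sq i)
  big i hi := Subtype.ext (by
    show permOf (gM12 i) = 1
    rw [gM12_big i hi, permOf_idP])
  rel w hw := elM12_prod (codingP.prod_of_relsOk gM12 gM12_relA hw)
  relP w hw h5 := elM12_prod (codingP.prod_of_relsOk gM12 gM12_relP
    (List.mem_filter.2 ⟨hw, by simpa using h5⟩))
  top := by
    haveI := GolaySimple.isSimpleGroup_M12
    set H := Subgroup.closure (Set.range elM12) with hH
    have h11 : 11 ∣ Nat.card H := dvd_card_elM12 gM12_eleven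
    have h5 : 5 ∣ Nat.card H := dvd_card_elM12 gM12_five
    have h8 : 8 ∣ Nat.card H := dvd_card_elM12 gM12_eight
    have h27 : 27 ∣ Nat.card H := dvd_card_elM12 gM12_27
    have hd : 11880 ∣ Nat.card H := Nat.Coprime.mul_dvd_of_dvd_of_dvd (by norm_num : Nat.Coprime 440 27)
      (Nat.Coprime.mul_dvd_of_dvd_of_dvd (by norm_num : Nat.Coprime 55 8)
        (Nat.Coprime.mul_dvd_of_dvd_of_dvd (by norm_num : Nat.Coprime 11 5) h11 h5) h8) h27
    obtain ⟨q, hq⟩ := hd
    have hi := H.card_mul_index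
    rw [GolayM24.card_M12, hq] at hi
    refine eq_top_of_index H (m := 8) ⟨q, ?_⟩ ?_ (by norm_num)
    · have : 11880 * (q * H.index) = 11880 * 8 := by rw [← mul_assoc, hi]
      rw [mul_comm H.index q]
      exact (Nat.eq_of_mul_eq_mul_left (by norm_num) this).symm
    · rw [GolayM24.card_M12]; decide +kernel
  card := by rw [GolayM24.card_M12]
  simple := GolaySimple.isSimpleGroup_M12

/-! ### The linear group -/

/-- A row. -/
abbrev V3 : Type := ZMod 3 × ZMod 3 × ZMod 3

/-- The rows of a matrix. -/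
abbrev T3 : Type := V3 × V3 × V3

/-- A row times a matrix. -/
def vmul (v : V3) (B : T3) : V3 :=
  (v.1 * B.1.1 + v.2.1 * B.2.1.1 + v.2.2 * B.2.2.1,
    v.1 * B.1.2.1 + v.2.1 * B.2.1.2.1 + v.2.2 * B.2.2.2.1,
    v.1 * B.1.2.2 + v.2.1 * B.2.1.2.2 + v.2.2 * B.2.2.2.2)

/-- The product. -/
def tmul (A B : T3) : T3 := (vmul A.1 B, vmul A.2.1 B, vmul A.2.2 B)

/-- The identity. -/
def tone : T3 := ((1, 0, 0), (0, 1, 0), (0, 0, 1))

/-- The matrix of the rows. -/
def tmat (A : T3) : Matrix (Fin 3) (Fin 3) (ZMod 3) :=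
  !![A.1.1, A.1.2.1, A.1.2.2; A.2.1.1, A.2.1.2.1, A.2.1.2.2; A.2.2.1, A.2.2.2.1, A.2.2.2.2]

/-- The determinant. -/
def tdet : T3 → ZMod 3
  | ((a, b, c), (d, e, f), (g, h, i)) =>
    a * e * i - a * f * h - b * d * i + b * f * g + c * d * h - c * e * g

theorem tdet_eq (A : T3) : (tmat A).det = tdet A := by
  obtain ⟨⟨a, b, c⟩, ⟨d, e, f⟩, ⟨g, h, i⟩⟩ := A
  simp [tmat, tdet, Matrix.det_fin_three]

theorem tmat_mul (A B : T3) : tmat (tmul A B) = tmat A * tmat B := by
  ext i j
  fin_cases i <;> fin_cases j <;> simp [tmat, tmul, vmul, Matrix.mul_apply, Fin.sum_univ_three]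

theorem tmat_inj {A B : T3} (h : tmat A = tmat B) : A = B := by
  obtain ⟨⟨a, b, c⟩, ⟨d, e, f⟩, ⟨g, k, i⟩⟩ := A
  obtain ⟨⟨a', b', c'⟩, ⟨d', e', f'⟩, ⟨g', k', i'⟩⟩ := B
  have := fun p q => congrFun (congrFun h p) q
  have h00 := this 0 0; have h01 := this 0 1; have h02 := this 0 2
  have h10 := this 1 0; have h11 := this 1 1; have h12 := this 1 2
  have h20 := this 2 0; have h21 := this 2 1; have h22 := this 2 2
  simp [tmat] at h00 h01 h02 h10 h11 h12 h20 h21 h22
  simp [h00, h01, h02, h10, h11, h12, h20, h21, h22]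

/-- A code of an element. -/
def okL (A : T3) : Bool := decide (tdet A = 1)

/-- The element of a code. -/
noncomputable def repL (A : T3) : CommGraphL33.S :=
  if h : tdet A = 1 then ⟨tmat A, (tdet_eq A).trans h⟩ else 1

theorem repL_val {A : T3} (h : okL A = true) :
    (repL A : Matrix (Fin 3) (Fin 3) (ZMod 3)) = tmat A := by
  have := of_decide_eq_true h
  simp [repL, this]

theorem tmat_one : tmat tone = 1 := by
  ext i j
  fin_cases i <;> fin_cases j <;> rfl

theorem okL_one : okL tone = true := by decide +kernel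

/-- The codes of the linear group. -/
noncomputable def codingL : Coding CommGraphL33.S T3 where
  mul := tmul
  one := tone
  ok := okL
  rep := repL
  ok_one := okL_one
  rep_one := Subtype.ext ((repL_val okL_one).trans tmat_one)
  rep_mul a b ha hb hc := Subtype.ext (by
    rw [Matrix.SpecialLinearGroup.coe_mul, repL_val ha, repL_val hb, repL_val hc, tmat_mul])
  inj a b ha hb h := tmat_inj (by rw [← repL_val ha, ← repL_val hb, h])

/-- The generators. -/
def gL : ℕ → T3
  | 0 => ((2, 0, 0), (0, 1, 0), (0, 0, 2))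
  | 1 => ((2, 0, 0), (0, 2, 0), (0, 0, 1))
  | 2 => ((2, 2, 0), (0, 1, 0), (0, 0, 2))
  | 3 => ((2, 0, 0), (0, 2, 2), (0, 0, 1))
  | 4 => ((0, 1, 0), (1, 0, 0), (0, 0, 2))
  | 5 => ((2, 0, 0), (0, 0, 1), (0, 1, 0))
  | _ => tone

theorem gL_big : ∀ i, 6 ≤ i → gL i = tone := by
  intro i hi
  obtain ⟨k, rfl⟩ := Nat.exists_eq_add_of_le hi
  rw [Nat.add_comm]
  rfl

theorem gL_sq : codingL.relsOk gL squares = true := by decide +kernel
theorem gL_relA : codingL.relsOk gL AmalgamThree19CertA0.rels = true := by decide +kernel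
theorem gL_relP :
    codingL.relsOk gL (AmalgamThree19CertP.rels.filter fun w => !(w == [5])) = true := by
  decide +kernel
theorem gL_thirteen : codingL.groupCheck gL (powers [0, 2, 4, 5] 13) 13 = true := by decide +kernel
theorem gL_eight : codingL.groupCheck gL (powers [0, 2, 4] 8) 8 = true := by decide +kernel
theorem gL_27 : codingL.groupCheck gL w27 27 = true := by decide +kernel

/-- The linear group with its generators. -/
noncomputable def modelL : Model CommGraphL33.S 13 AmalgamThree19CertA0.rels where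
  g i := codingL.rep (gL i)
  invol := invol_of _ _ gL_big gL_sq
  big i hi := by rw [gL_big i hi]; exact codingL.rep_one
  rel w hw := codingL.prod_of_relsOk gL gL_relA hw
  relP w hw h5 := codingL.prod_of_relsOk gL gL_relP
    (List.mem_filter.2 ⟨hw, by simpa using h5⟩)
  top := by
    haveI := CommGraphL33.isSimple_S
    set H := Subgroup.closure (Set.range fun i => codingL.rep (gL i)) with hH
    have h13 : 13 ∣ Nat.card H := codingL.dvd_card_closure gL gL_thirteen
    have h8 : 8 ∣ Nat.card H := codingL.dvd_card_closure gL gL_eight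
    have h27 : 27 ∣ Nat.card H := codingL.dvd_card_closure gL gL_27
    have hd : 2808 ∣ Nat.card H := Nat.Coprime.mul_dvd_of_dvd_of_dvd (by norm_num : Nat.Coprime 104 27)
      (Nat.Coprime.mul_dvd_of_dvd_of_dvd (by norm_num : Nat.Coprime 13 8) h13 h8) h27
    obtain ⟨q, hq⟩ := hd
    have hi := H.card_mul_index
    rw [CommGraphL33.card_S, hq] at hi
    refine eq_top_of_index H (m := 2) ⟨q, ?_⟩ ?_ (by norm_num)
    · have : 2808 * (q * H.index) = 2808 * 2 := by rw [← mul_assoc, hi]
      rw [mul_comm H.index q]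
      exact (Nat.eq_of_mul_eq_mul_left (by norm_num) this).symm
    · rw [CommGraphL33.card_S]; decide +kernel
  card := by rw [CommGraphL33.card_S]
  simple := CommGraphL33.isSimple_S

end Cfsg.Agent.AmalgamThree19
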