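import Cfsg.Agent.Lib.AmalgamThree19CubeComm
import Cfsg.Agent.Lib.AmalgamThree19Models
import Cfsg.Agent.Lib.AmalgamThree19CertB0
import Cfsg.Agent.Lib.AmalgamThree19CertB1
import Cfsg.Agent.Lib.AmalgamThree19CertK0
import Cfsg.Agent.Lib.AmalgamThree19CertK1
import Cfsg.Agent.Lib.AmalgamThree19CertK2
import Cfsg.Agent.Lib.AmalgamThree19CertK3

/-!
The group generated by the two parabolic subgroups.
-/

set_option autoImplicit false
set_option maxRecDepth 100000

namespace Cfsg.Agent.AmalgamThree19

variable {G : Type*} [Group G]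

/-- A relation which follows from the two parabolics and a list of further relations. -/
def relOK (bases : List (List ℕ)) (w : List ℕ) : Bool :=
  okA w || okB w || (List.range (w.length + 1)).any fun k =>
    decide (w.drop k ++ w.take k ∈ bases) || decide ((w.drop k ++ w.take k).reverse ∈ bases)

theorem Gens.inv_gen (D : Gens G) (i : ℕ) : (D.g i)⁻¹ = D.g i :=
  inv_eq_of_mul_eq_one_right (D.invol i)

theorem Gens.val_reverse (D : Gens G) : ∀ w : List ℕ, D.val w.reverse = (D.val w)⁻¹
  | [] => by simp [Gens.val]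
  | i :: w => by
    have ih := D.val_reverse w
    simp only [Gens.val] at ih ⊢
    rw [List.reverse_cons, List.map_append, List.prod_append, ih, List.map_cons, List.map_nil,
      List.prod_cons, List.prod_nil, List.map_cons, List.prod_cons, mul_inv_rev, mul_one,
      D.inv_gen]

theorem Gens.val_rotate (D : Gens G) (u v : List ℕ) (h : D.val (u ++ v) = 1) :
    D.val (v ++ u) = 1 := by
  simp only [Gens.val, List.map_append, List.prod_append] at h ⊢
  exact mul_eq_one_comm.1 h

theorem Gens.prod_of_relOK (D : Gens G) {bases : List (List ℕ)} (hb : ∀ w ∈ bases, D.val w = 1)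
    {w : List ℕ} (h : relOK bases w = true) : (w.map D.g).prod = 1 := by
  simp only [relOK, Bool.or_eq_true, List.any_eq_true, decide_eq_true_eq] at h
  rcases h with (h | h) | ⟨k, -, h⟩
  · exact D.relA w h
  · exact D.relB w h
  · show D.val w = 1
    rw [← List.take_append_drop k w]
    refine D.val_rotate _ _ ?_
    rcases h with h | h
    · exact hb _ h
    · have := hb _ h
      rwa [D.val_reverse, inv_eq_one] at this

theorem relsP_okA : AmalgamThree19CertP.rels.all
    (fun w => decide (w = [5]) || (okA w && w.all fun i => decide (i < 5))) = true := by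
  decide +kernel

theorem relsA0_ok : AmalgamThree19CertA0.rels.all (relOK [wCS, wCR, wA3]) = true := by
  decide +kernel
theorem relsA1_ok : AmalgamThree19CertA1.rels.all (relOK [wCS, wCR, wA3 ++ [1]]) = true := by
  decide +kernel
theorem relsB0_ok : AmalgamThree19CertB0.rels.all (relOK [wCS, wCR, wB3]) = true := by
  decide +kernel
theorem relsB1_ok : AmalgamThree19CertB1.rels.all (relOK [wCS, wCR, wB3 ++ [1]]) = true := by
  decide +kernel
theorem relsK0_ok : AmalgamThree19CertK0.rels.all (relOK [wCS, wCR, wK5, wK2]) = true := by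
  decide +kernel
theorem relsK1_ok : AmalgamThree19CertK1.rels.all (relOK [wCS, wCR, wK5, wK2 ++ [1]]) = true := by
  decide +kernel
theorem relsK2_ok : AmalgamThree19CertK2.rels.all (relOK [wCS, wCR, wK5 ++ [1], wK2]) = true := by
  decide +kernel
theorem relsK3_ok :
    AmalgamThree19CertK3.rels.all (relOK [wCS, wCR, wK5 ++ [1], wK2 ++ [1]]) = true := by
  decide +kernel

theorem Gens.collapse [Finite G] (D : Gens G) (h : Nat.card (G ⧸ D.A) ≤ 1) : False := by
  have h' : D.A.index ≤ 1 := by rwa [Subgroup.index_eq_card]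
  have h0 : D.A.index ≠ 0 := Subgroup.index_ne_zero_of_finite
  have hA : D.A = ⊤ := Subgroup.index_eq_one.1 (by omega)
  exact D.not_mem (hA ▸ Subgroup.mem_top _)

/-- A certificate and a model which satisfy the same relations determine the group. -/
theorem Gens.iso_of [Finite G] (D : Gens G) {M : Type*} [Group M] [Finite M] {n : ℕ}
    {rs : List (List ℕ)} (T : Model M n rs) (hrs : ∀ w ∈ rs, (w.map D.g).prod = 1)
    (hcert : ∀ (Γ : Subgroup (G × M)) (K : Subgroup Γ) (E : Six Γ K),
      (∀ w ∈ rs, (w.map E.g).prod = 1) → (∀ i < 5, E.g i ∈ K) → Nat.card (Γ ⧸ K) ≤ n) :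
    Nonempty (G ≃* M) := by
  let p : ℕ → G × M := fun i => (D.g i, T.g i)
  have hp : ∀ w : List ℕ, (w.map p).prod = ((w.map D.g).prod, (w.map T.g).prod) := by
    intro w
    induction w with
    | nil => rfl
    | cons i w ih => simp [ih, p]
  let Γ : Subgroup (G × M) := Subgroup.closure (Set.range p)
  let γ : ℕ → Γ := fun i => ⟨p i, Subgroup.subset_closure ⟨i, rfl⟩⟩
  have hγ : ∀ w : List ℕ, ((w.map γ).prod : G × M) = (w.map p).prod := by
    intro w
    rw [SubmonoidClass.coe_list_prod, List.map_map]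
    rfl
  have hinv : ∀ i, γ i * γ i = 1 := fun i =>
    Subtype.ext (Prod.ext (D.invol i) (T.invol i))
  have hbig : ∀ i, 6 ≤ i → γ i = 1 := fun i hi =>
    Subtype.ext (Prod.ext (D.big i hi) (T.big i hi))
  have htop : Subgroup.closure (Set.range γ) = ⊤ := by
    rw [show Set.range γ = ((↑) : Γ → G × M) ⁻¹' Set.range p from ?_]
    · exact Subgroup.closure_closure_coe_preimage
    · ext u
      exact ⟨fun ⟨i, hi⟩ => ⟨i, congrArg Subtype.val hi⟩, fun ⟨i, hi⟩ => ⟨i, Subtype.ext hi⟩⟩
  let K : Subgroup Γ := Subgroup.closure (γ '' {i | i < 5})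
  have h1 : Nat.card (Γ ⧸ K) ≤ n := hcert Γ K ⟨γ, hinv, hbig, htop⟩
    (fun w hw => Subtype.ext (by rw [hγ, hp, hrs w hw, T.rel w hw]; rfl))
    (fun i hi => Subgroup.subset_closure ⟨i, hi, rfl⟩)
  let κ : ℕ → K := fun i => if hi : i < 5 then ⟨γ i, Subgroup.subset_closure ⟨i, hi, rfl⟩⟩ else 1
  have hκ : ∀ i, i < 5 → (κ i : Γ) = γ i := fun i hi => by simp [κ, hi]
  have hκ' : ∀ i, ¬ i < 5 → κ i = 1 := fun i hi => by simp [κ, hi]
  have htopK : Subgroup.closure (Set.range κ) = ⊤ := by
    refine top_le_iff.1 ((Subgroup.closure_closure_coe_preimage (k := γ '' {i | i < 5})).ge.trans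
      (Subgroup.closure_mono ?_))
    rintro u ⟨i, hi, he⟩
    exact ⟨i, Subtype.ext ((hκ i hi).trans he)⟩
  have hK1 : Nat.card (K ⧸ (⊥ : Subgroup K)) ≤ 432 := by
    have hκinv : ∀ i, κ i * κ i = 1 := fun i => by
      by_cases hi : i < 5
      · exact Subtype.ext (by rw [Subgroup.coe_mul, hκ i hi]; exact hinv i)
      · rw [hκ' i hi, one_mul]
    refine card_quotient_le ⟨κ, hκinv, fun i hi => hκ' i (by omega), htopK⟩
      AmalgamThree19CertP.cert AmalgamThree19CertP.nodes AmalgamThree19CertP.nbr 432 3637 ?_ ?_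
      (fun base hc => AmalgamThree19CertP.all_valid _ base hc) AmalgamThree19CertP.closed_ok
    · intro w (hw : w ∈ AmalgamThree19CertP.rels)
      show (w.map κ).prod = 1
      have h := List.all_eq_true.1 relsP_okA w hw
      simp only [Bool.or_eq_true, Bool.and_eq_true, decide_eq_true_eq, List.all_eq_true] at h
      by_cases h5 : w = [5]
      · subst h5; simp [hκ' 5 (by omega)]
      · obtain ⟨hA, hlt⟩ := h.resolve_left h5
        refine Subtype.ext ?_
        rw [SubmonoidClass.coe_list_prod, List.map_map,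
          show w.map (Subtype.val ∘ κ) = w.map γ from
            List.map_congr_left fun i hi => hκ i (hlt i hi)]
        exact Subtype.ext (by rw [hγ, hp, D.relA w hA, T.relP w hw h5]; rfl)
    · intro w (hw : w ∈ AmalgamThree19CertP.sgens)
      simp [AmalgamThree19CertP.sgens] at hw
  have hK : Nat.card K ≤ 432 := by
    rwa [Nat.card_congr (QuotientGroup.quotientBot (G := K)).toEquiv] at hK1
  have hΓ : Nat.card Γ ≤ Nat.card M := by
    rw [T.card, Subgroup.card_eq_card_quotient_mul_card_subgroup K]
    exact Nat.mul_le_mul h1 hK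
  let π : Γ →* M := (MonoidHom.snd G M).comp Γ.subtype
  have hπ : Function.Surjective π := by
    rw [← MonoidHom.range_eq_top, eq_top_iff, ← T.top, Subgroup.closure_le]
    rintro _ ⟨i, rfl⟩
    exact ⟨γ i, rfl⟩
  have hπ' : Function.Bijective π :=
    (Nat.bijective_iff_surjective_and_card π).2
      ⟨hπ, le_antisymm hΓ (Nat.card_le_card_of_surjective π hπ)⟩
  let e : Γ ≃* M := MulEquiv.ofBijective π hπ'
  let φ : M →* G := ((MonoidHom.fst G M).comp Γ.subtype).comp e.symm.toMonoidHom
  have hφ : Function.Surjective φ := by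
    rw [← MonoidHom.range_eq_top, eq_top_iff, ← D.closure_top, Subgroup.closure_le]
    rintro _ ⟨i, rfl⟩
    exact ⟨e (γ i), by show (e.symm (e (γ i)) : G × M).1 = _; rw [e.symm_apply_apply]⟩
  haveI := T.simple
  refine ⟨(MulEquiv.ofBijective φ ⟨?_, hφ⟩).symm⟩
  rw [← MonoidHom.ker_eq_bot_iff]
  refine ((MonoidHom.normal_ker φ).eq_bot_or_eq_top).resolve_right fun hk => D.r_ne ?_
  obtain ⟨m, hm⟩ := hφ (D.g 1)
  rw [← hm]
  exact MonoidHom.mem_ker.1 (hk ▸ Subgroup.mem_top m)

/-- The group is one of the two. -/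
theorem Gens.classify [Finite G] (D : Gens G) :
    Nonempty (G ≃* Spor.M12) ∨ Nonempty (G ≃* CommGraphL33.S) := by
  obtain ⟨hs, hr⟩ := D.cube_comm
  have key : ∀ {rs bases : List (List ℕ)}, rs.all (relOK bases) = true →
      (∀ w ∈ bases, D.val w = 1) → ∀ w ∈ rs, (w.map D.g).prod = 1 :=
    fun h hb w hw => D.prod_of_relOK hb (List.all_eq_true.1 h w hw)
  rcases cases_of D with h | h | ⟨h, h'⟩
  · rcases h with h | h
    · exact Or.inr (D.iso_of modelL (key relsA0_ok (by simp [hs, hr, h]))
        fun Γ K E he hK => AmalgamThree19CertA0.card_le E he hK)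
    · exact Or.inl (D.iso_of modelM12 (key relsA1_ok (by simp [hs, hr, h]))
        fun Γ K E he hK => AmalgamThree19CertA1.card_le E he hK)
  · rcases h with h | h
    · exact (D.collapse (AmalgamThree19CertB0.card_le D.six
        (key relsB0_ok (by simp [hs, hr, h])) D.mem)).elim
    · exact (D.collapse (AmalgamThree19CertB1.card_le D.six
        (key relsB1_ok (by simp [hs, hr, h])) D.mem)).elim
  · rcases h with h | h <;> rcases h' with h' | h'
    · exact (D.collapse (AmalgamThree19CertK0.card_le D.six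
        (key relsK0_ok (by simp [hs, hr, h, h'])) D.mem)).elim
    · exact (D.collapse (AmalgamThree19CertK1.card_le D.six
        (key relsK1_ok (by simp [hs, hr, h, h'])) D.mem)).elim
    · exact (D.collapse (AmalgamThree19CertK2.card_le D.six
        (key relsK2_ok (by simp [hs, hr, h, h'])) D.mem)).elim
    · exact (D.collapse (AmalgamThree19CertK3.card_le D.six
        (key relsK3_ok (by simp [hs, hr, h, h'])) D.mem)).elim

end Cfsg.Agent.AmalgamThree19
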