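import Mathlib

/-!
Checking relations and orders of subgroups in a group whose elements have computable codes.
-/

set_option autoImplicit false
set_option maxRecDepth 100000

namespace Cfsg.Agent.AmalgamThree19

/-- Computable codes for the elements of a group. -/
structure Coding (M : Type*) [Group M] (C : Type) where
  mul : C → C → C
  one : C
  ok : C → Bool
  rep : C → M
  ok_one : ok one = true
  rep_one : rep one = 1
  rep_mul : ∀ a b, ok a = true → ok b = true → ok (mul a b) = true → rep (mul a b) = rep a * rep b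
  inj : ∀ a b, ok a = true → ok b = true → rep a = rep b → a = b

namespace Coding

variable {M : Type*} [Group M] {C : Type}

/-- The code of the value of a word, when all partial products are valid. -/
def run (T : Coding M C) (g : ℕ → C) : List ℕ → Option C
  | [] => some T.one
  | i :: w => (T.run g w).bind fun p =>
      if T.ok (g i) && T.ok (T.mul (g i) p) then some (T.mul (g i) p) else none

theorem run_spec (T : Coding M C) (g : ℕ → C) :
    ∀ (w : List ℕ) {p : C}, T.run g w = some p →
      T.ok p = true ∧ (w.map fun i => T.rep (g i)).prod = T.rep p := by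
  intro w
  induction w with
  | nil =>
    intro p h
    simp only [run, Option.some.injEq] at h
    subst h
    exact ⟨T.ok_one, by simp [T.rep_one]⟩
  | cons i w ih =>
    intro p h
    simp only [run, Option.bind_eq_some_iff] at h
    obtain ⟨q, hq, h⟩ := h
    split at h
    · next hok =>
      simp only [Bool.and_eq_true] at hok
      simp only [Option.some.injEq] at h
      subst h
      obtain ⟨hq1, hq2⟩ := ih hq
      exact ⟨hok.2, by rw [List.map_cons, List.prod_cons, hq2, T.rep_mul _ _ hok.1 hq1 hok.2]⟩
    · simp at h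

variable [DecidableEq C]

/-- All the words are relations. -/
def relsOk (T : Coding M C) (g : ℕ → C) (rs : List (List ℕ)) : Bool :=
  rs.all fun w => decide (T.run g w = some T.one)

theorem prod_of_relsOk (T : Coding M C) (g : ℕ → C) {rs : List (List ℕ)}
    (h : T.relsOk g rs = true) {w : List ℕ} (hw : w ∈ rs) :
    (w.map fun i => T.rep (g i)).prod = 1 := by
  have h1 := List.all_eq_true.1 h w hw
  rw [(T.run_spec g w (of_decide_eq_true h1)).2, T.rep_one]

/-- The words have `n` distinct values which form a group. -/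
def groupCheck (T : Coding M C) (g : ℕ → C) (ws : List (List ℕ)) (n : ℕ) : Bool :=
  let L := ws.filterMap (T.run g)
  decide (L.length = n) && decide L.Nodup && decide (T.one ∈ L) &&
      L.all fun a => L.all fun b => T.ok (T.mul a b) && decide (T.mul a b ∈ L)

theorem dvd_card_closure [Finite M] (T : Coding M C) (g : ℕ → C) {ws : List (List ℕ)} {n : ℕ}
    (h : T.groupCheck g ws n = true) :
    n ∣ Nat.card (Subgroup.closure (Set.range fun i => T.rep (g i))) := by
  obtain ⟨L, hL⟩ : ∃ L, L = ws.filterMap (T.run g) := ⟨_, rfl⟩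
  simp only [groupCheck, ← hL] at h
  simp only [Bool.and_eq_true, decide_eq_true_eq, List.all_eq_true] at h
  obtain ⟨⟨⟨hlen, hnd⟩, h1⟩, hmul⟩ := h
  have hval : ∀ a ∈ L, T.ok a = true ∧
      T.rep a ∈ Subgroup.closure (Set.range fun i => T.rep (g i)) := by
    intro a ha
    obtain ⟨w, -, hw⟩ := List.mem_filterMap.1 (hL ▸ ha)
    obtain ⟨h2, h3⟩ := T.run_spec g w hw
    refine ⟨h2, h3 ▸ list_prod_mem fun x hx => ?_⟩
    obtain ⟨i, -, rfl⟩ := List.mem_map.1 hx
    exact Subgroup.subset_closure ⟨i, rfl⟩
  let S : Set M := {x | ∃ a ∈ L, T.rep a = x}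
  let K : Subgroup M := Subgroup.closure S
  have hSK : ∀ x, x ∈ K → x ∈ S := by
    have hm : ∀ x ∈ S, ∀ y ∈ S, x * y ∈ S := by
      rintro _ ⟨a, ha, rfl⟩ _ ⟨b, hb, rfl⟩
      exact ⟨_, (hmul a ha b hb).2, T.rep_mul a b (hval a ha).1 (hval b hb).1 (hmul a ha b hb).1⟩
    have hp : ∀ x ∈ S, ∀ k : ℕ, x ^ k ∈ S := fun x hx k => by
      induction k with
      | zero => exact ⟨_, h1, by rw [pow_zero, T.rep_one]⟩
      | succ k ih => rw [pow_succ]; exact hm _ ih _ hx
    intro x hx
    induction hx using Subgroup.closure_induction with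
    | mem x hx => exact hx
    | one => exact ⟨_, h1, T.rep_one⟩
    | mul x y _ _ ihx ihy => exact hm _ ihx _ ihy
    | inv x _ ih =>
      obtain ⟨k, hk⟩ : ∃ k : ℕ, x ^ k = x⁻¹ := ⟨orderOf x - 1, by
        have hpos := orderOf_pos x
        refine eq_inv_of_mul_eq_one_left ?_
        rw [← pow_succ, Nat.sub_add_cancel hpos, pow_orderOf_eq_one]⟩
      exact hk ▸ hp x ih k
  have hset : (K : Set M) = S := Set.Subset.antisymm hSK Subgroup.subset_closure
  have hcard : Nat.card K = n := by
    classical
    have e : Set.ncard S = n := by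
      have : S = ((L.map T.rep).toFinset : Set M) := by
        ext x
        simp [S]
      rw [this, Set.ncard_coe_finset, List.toFinset_card_of_nodup, List.length_map, hlen]
      exact hnd.map_on fun a ha b hb e => T.inj a b (hval a ha).1 (hval b hb).1 e
    rw [← e, ← hset]
    rfl
  rw [← hcard]
  refine Subgroup.card_dvd_of_le ((Subgroup.closure_le _).2 ?_)
  rintro _ ⟨a, ha, rfl⟩
  exact (hval a ha).2

end Coding

/-- A subgroup of a simple group of too small index is everything. -/
theorem eq_top_of_index {M : Type*} [Group M] [Finite M] [IsSimpleGroup M] (H : Subgroup M)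
    {m : ℕ} (hd : H.index ∣ m) (hnd : ∀ k ∈ m.divisors, k ≠ 1 → ¬ Nat.card M ∣ k.factorial)
    (hm : m ≠ 0) : H = ⊤ := by
  by_contra hH
  have hne : H.index ≠ 1 := fun h => hH (Subgroup.index_eq_one.1 h)
  refine hnd _ (Nat.mem_divisors.2 ⟨hd, hm⟩) hne ?_
  have hcore : H.normalCore = ⊥ := by
    refine (Subgroup.Normal.eq_bot_or_eq_top H.normalCore_normal).resolve_right fun h => hH ?_
    exact top_le_iff.1 (h ▸ H.normalCore_le)
  have hinj : Function.Injective (MulAction.toPermHom M (M ⧸ H)) := by
    rw [← MonoidHom.ker_eq_bot_iff, ← Subgroup.normalCore_eq_ker, hcore]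
  have := Subgroup.card_dvd_of_injective _ hinj
  rwa [Nat.card_perm, ← Subgroup.index_eq_card] at this

end Cfsg.Agent.AmalgamThree19
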