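import Cfsg.Agent.Lib.AmalgamThree19Affine
import Cfsg.Prelude.Def_Solvable
import Cfsg.Prelude.Def_CaseTheorems

/-!
The structure of one of the two parabolic subgroups of the amalgam.
-/

set_option autoImplicit false

namespace Cfsg.Agent.AmalgamThree19

variable {G : Type*} [Group G]

/-- A subgroup which is a faithful extension of the plane by all of its linear maps. -/
structure Para (A E : Subgroup G) : Prop where
  le : E ≤ A
  comm : ∀ a ∈ E, ∀ b ∈ E, a * b = b * a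
  cube : ∀ a ∈ E, a ^ 3 = 1
  card : Nat.card E = 9
  normal : ∀ a ∈ A, ∀ x ∈ E, a * x * a⁻¹ ∈ E
  cent : ∀ a ∈ A, (∀ x ∈ E, a * x = x * a) → a ∈ E
  cardA : Nat.card A = 432

theorem para_of (A : Subgroup G) [Finite A]
    (eA : A ⧸ Cfsg.pCore 3 A ≃* GL (Fin 2) (ZMod 3))
    (hOA : IsMulCommutative (Cfsg.pCore 3 A) ∧ (∀ x ∈ Cfsg.pCore 3 A, x ^ 3 = 1) ∧
      Nat.card (Cfsg.pCore 3 A) = 9 ∧
      Subgroup.centralizer ((Cfsg.pCore 3 A : Subgroup A) : Set A) = Cfsg.pCore 3 A) :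
    Para A ((Cfsg.pCore 3 A).map A.subtype) where
  le := Subgroup.map_subtype_le _
  comm := by
    rintro _ ⟨a, ha, rfl⟩ _ ⟨b, hb, rfl⟩
    have h := hOA.1.is_comm.comm (⟨a, ha⟩ : Cfsg.pCore 3 A) ⟨b, hb⟩
    simpa using congrArg (fun z : Cfsg.pCore 3 A => ((z : A) : G)) h
  cube := by
    rintro _ ⟨a, ha, rfl⟩
    simpa using congrArg (fun z : A => (z : G)) (hOA.2.1 a ha)
  card := by
    rw [Subgroup.card_subtype]
    exact hOA.2.2.1
  normal := by
    rintro a ha _ ⟨x, hx, rfl⟩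
    exact ⟨⟨a, ha⟩ * x * ⟨a, ha⟩⁻¹,
      (inferInstance : (Cfsg.pCore 3 A).Normal).conj_mem x hx ⟨a, ha⟩, by simp⟩
  cent := by
    intro a ha h
    refine ⟨⟨a, ha⟩, ?_, rfl⟩
    rw [← hOA.2.2.2]
    refine Subgroup.mem_centralizer_iff.2 fun x hx => Subtype.ext ?_
    exact (h (x : G) ⟨x, hx, rfl⟩).symm
  cardA := by
    have hGL : Nat.card (GL (Fin 2) (ZMod 3)) = 48 := by
      rw [Matrix.card_GL_field]; simp [Fin.prod_univ_two]
    rw [Subgroup.card_eq_card_quotient_mul_card_subgroup (Cfsg.pCore 3 A), hOA.2.2.1,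
      Nat.card_congr eA.toEquiv, hGL]

theorem det_zero_kernel : ∀ M : Mat, mdet M = 0 → ∃ w : Vec, w ≠ 0 ∧ mv M w = 0 := by
  decide +kernel

theorem det_count : (Finset.univ.filter fun M : Mat => mdet M ≠ 0).card = 48 := by decide +kernel

theorem neg_comm : ∀ M : Mat, mmul ((-1, 0), (0, -1)) M = mmul M ((-1, 0), (0, -1)) := by
  decide +kernel

namespace Para

variable {A E : Subgroup G}

/-- Two elements generating the plane. -/
structure Basis (E : Subgroup G) (P : Plane G) : Prop where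
  e_mem : P.e ∈ E
  f_mem : P.f ∈ E
  inj : Function.Injective P.pt

theorem pt_mem {P : Plane G} (b : Basis E P) (v : Vec) : P.pt v ∈ E :=
  mul_mem (pow_mem b.e_mem _) (pow_mem b.f_mem _)

theorem exists_pt (h : Para A E) {P : Plane G} (b : Basis E P) {x : G} (hx : x ∈ E) :
    ∃ v, x = P.pt v := by
  haveI : Finite E := Nat.finite_of_card_ne_zero (by rw [h.card]; norm_num)
  let F : Vec → E := fun v => ⟨P.pt v, pt_mem b v⟩
  have hF : Function.Bijective F :=
    (Nat.bijective_iff_injective_and_card F).2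
      ⟨fun u v e => b.inj (congrArg Subtype.val e), by
        rw [h.card, Nat.card_eq_fintype_card]; rfl⟩
  obtain ⟨v, hv⟩ := hF.2 ⟨x, hx⟩
  exact ⟨v, (congrArg Subtype.val hv).symm⟩

theorem exists_acts_self (h : Para A E) {P : Plane G} (b : Basis E P) {a : G} (ha : a ∈ A) :
    ∃ M : Mat, mdet M ≠ 0 ∧ P.Acts a M := by
  obtain ⟨v, hv⟩ := h.exists_pt b (h.normal a ha _ b.e_mem)
  obtain ⟨w, hw⟩ := h.exists_pt b (h.normal a ha _ b.f_mem)
  refine ⟨(v, w), fun h0 => ?_, P.acts_of hv hw⟩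
  obtain ⟨u, hu, hu0⟩ := det_zero_kernel _ h0
  have := P.acts_of (M := (v, w)) hv hw u
  rw [hu0, P.pt_zero, conj_eq_one_iff] at this
  exact hu (b.inj (this.trans P.pt_zero.symm))

theorem exists_acts (h : Para A E) {P : Plane G} (b : Basis E P) {M : Mat} (hM : mdet M ≠ 0) :
    ∃ a ∈ A, P.Acts a M := by
  classical
  haveI : Finite A := Nat.finite_of_card_ne_zero (by rw [h.cardA]; norm_num)
  let Inv : Type := {N : Mat // mdet N ≠ 0}
  have key : ∀ a : A, ∃ N : Inv, P.Acts (a : G) N.1 := fun a => by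
    obtain ⟨N, hN, hN'⟩ := h.exists_acts_self b a.2
    exact ⟨⟨N, hN⟩, hN'⟩
  choose ψ hψ using key
  let E' := E.subgroupOf A
  let φ : A ⧸ E' → Inv := fun q => ψ q.out
  have hφ : Function.Injective φ := by
    intro q q' e
    rw [← q.out_eq', ← q'.out_eq', QuotientGroup.eq]
    refine Subgroup.mem_subgroupOf.2 (h.cent _ (SetLike.coe_mem _) fun x hx => ?_)
    obtain ⟨v, rfl⟩ := h.exists_pt b hx
    have h1 := hψ q.out v
    have h2 := hψ q'.out v
    rw [show ψ q'.out = ψ q.out from e.symm] at h2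
    rw [← h1] at h2
    simp only [Subgroup.coe_mul, Subgroup.coe_inv]
    calc (q.out : G)⁻¹ * (q'.out : G) * P.pt v
        = (q.out : G)⁻¹ * ((q'.out : G) * P.pt v * (q'.out : G)⁻¹) * (q'.out : G) := by group
      _ = (q.out : G)⁻¹ * ((q.out : G) * P.pt v * (q.out : G)⁻¹) * (q'.out : G) := by rw [h2]
      _ = P.pt v * ((q.out : G)⁻¹ * (q'.out : G)) := by group
  have hI : Nat.card Inv = 48 := by
    rw [Nat.card_eq_fintype_card, Fintype.card_subtype, det_count]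
  have hq : Nat.card (A ⧸ E') = 48 := by
    have h1 := Subgroup.card_eq_card_quotient_mul_card_subgroup E'
    have h2 : Nat.card E' = 9 := by
      rw [Nat.card_congr (Subgroup.subgroupOfEquivOfLe h.le).toEquiv, h.card]
    rw [h.cardA, h2] at h1
    omega
  haveI : Finite (A ⧸ E') := inferInstance
  obtain ⟨q, hq'⟩ := ((Nat.bijective_iff_injective_and_card φ).2 ⟨hφ, by rw [hI, hq]⟩).2 ⟨M, hM⟩
  refine ⟨(q.out : G), q.out.2, ?_⟩
  have h1 := hψ q.out
  rw [show ψ q.out = (⟨M, hM⟩ : Inv) from hq'] at h1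
  exact h1

theorem basis_of (h : Para A E) {P : Plane G} (he : P.e ∈ E) (hf : P.f ∈ E) (he1 : P.e ≠ 1)
    (hfe : P.f ∉ Subgroup.zpowers P.e) : Basis E P := by
  haveI : Fact (Nat.Prime 3) := ⟨Nat.prime_three⟩
  have hoe : orderOf P.e = 3 := orderOf_eq_prime P.he he1
  refine ⟨he, hf, fun v w hvw => ?_⟩
  by_contra hne
  have h0 : P.pt (v - w) = 1 := by rw [sub_eq_add_neg, P.pt_add, P.pt_neg, hvw, mul_inv_cancel]
  have key : ∀ u : Vec, u ≠ 0 → P.pt u = 1 → False := by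
    intro u hu h1
    have hmem : P.f ^ u.2.val ∈ Subgroup.zpowers P.e := by
      rw [show P.f ^ u.2.val = (P.e ^ u.1.val)⁻¹ from eq_inv_of_mul_eq_one_right h1]
      exact inv_mem (pow_mem (Subgroup.mem_zpowers P.e) _)
    by_cases h2 : u.2 = 0
    · apply hu
      refine Prod.ext ?_ h2
      have h3 : P.e ^ u.1.val = 1 := by simpa [Plane.pt, h2] using h1
      have h4 := orderOf_dvd_of_pow_eq_one h3
      rw [hoe] at h4
      exact (ZMod.val_eq_zero _).1 (Nat.eq_zero_of_dvd_of_lt h4 (ZMod.val_lt _))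
    · have hcases : u.2.val = 1 ∨ u.2.val = 2 := by
        have := ZMod.val_lt u.2
        have : u.2.val ≠ 0 := fun hh => h2 ((ZMod.val_eq_zero _).1 hh)
        omega
      rcases hcases with hh | hh <;> rw [hh] at hmem
      · exact hfe (by simpa using hmem)
      · refine hfe ?_
        have := inv_mem hmem
        rwa [show (P.f ^ 2)⁻¹ = P.f from inv_eq_of_mul_eq_one_right (by
          rw [← pow_succ]; exact P.hf)] at this
  exact key _ (sub_ne_zero.2 hne) h0

theorem exists_basis (h : Para A E) : ∃ P : Plane G, Basis E P := by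
  classical
  haveI : Finite E := Nat.finite_of_card_ne_zero (by rw [h.card]; norm_num)
  haveI : Fact (Nat.Prime 3) := ⟨Nat.prime_three⟩
  have h1 : E ≠ ⊥ := fun e => by have := h.card; rw [e, Subgroup.card_bot] at this; norm_num at this
  obtain ⟨e, he, he1⟩ := E.bot_or_exists_ne_one.resolve_left h1
  have hoe : orderOf e = 3 := orderOf_eq_prime (h.cube e he) he1
  have hlt : ¬ E ≤ Subgroup.zpowers e := fun hle => by
    haveI : Finite (Subgroup.zpowers e) := Nat.finite_of_card_ne_zero (by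
      rw [Nat.card_zpowers, hoe]; norm_num)
    have := Subgroup.card_le_of_le hle
    rw [h.card, Nat.card_zpowers, hoe] at this
    norm_num at this
  obtain ⟨f, hf, hfe⟩ := SetLike.not_le_iff_exists.1 hlt
  exact ⟨⟨e, f, h.cube e he, h.cube f hf, h.comm e he f hf⟩, h.basis_of he hf he1 hfe⟩

theorem exists_neg (h : Para A E) :
    ∃ r ∈ A, r * r = 1 ∧ ∀ x ∈ E, r * x * r⁻¹ = x⁻¹ := by
  obtain ⟨P, b⟩ := h.exists_basis
  obtain ⟨a, ha, haM⟩ := h.exists_acts b (M := ((-1, 0), (0, -1))) (by decide)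
  have hinv : ∀ x ∈ E, a * x * a⁻¹ = x⁻¹ := by
    intro x hx
    obtain ⟨v, rfl⟩ := h.exists_pt b hx
    rw [haM, ← P.pt_neg]
    congr 1
    ext <;> simp [mv]
  have hsq : a * a ∈ E := by
    refine h.cent _ (mul_mem ha ha) fun x hx => ?_
    have h1 := hinv x⁻¹ (inv_mem hx)
    rw [inv_inv] at h1
    calc a * a * x = a * (a * x * a⁻¹) * a⁻¹ * (a * a) := by group
      _ = a * x⁻¹ * a⁻¹ * (a * a) := by rw [hinv x hx]
      _ = x * (a * a) := by rw [h1]
  refine ⟨a ^ 3, pow_mem ha 3, ?_, fun x hx => ?_⟩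
  · rw [← pow_add]
    calc a ^ (3 + 3) = (a * a) ^ 3 := by rw [← sq, ← pow_mul]
      _ = 1 := h.cube _ hsq
  · have h1 : a * a * x * (a * a)⁻¹ = x := by
      rw [h.comm _ hsq x hx]; group
    calc a ^ 3 * x * (a ^ 3)⁻¹ = a * (a * a * x * (a * a)⁻¹) * a⁻¹ := by
          simp only [pow_succ, pow_zero, one_mul, mul_inv_rev, mul_assoc]
      _ = x⁻¹ := by rw [h1, hinv x hx]

theorem faithful (h : Para A E) {P : Plane G} (b : Basis E P) {r : G}
    (hr : ∀ x ∈ E, r * x * r⁻¹ = x⁻¹) :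
    P.Faithful (A ⊓ Subgroup.centralizer ({r} : Set G)) := by
  intro k hk hid
  obtain ⟨hkA, hkr⟩ := Subgroup.mem_inf.1 hk
  have hkE : k ∈ E := h.cent k hkA fun x hx => by
    obtain ⟨v, rfl⟩ := h.exists_pt b hx
    have h1 := hid v
    rw [show mv idM v = v by simp [mv, idM]] at h1
    calc k * P.pt v = k * P.pt v * k⁻¹ * k := by group
      _ = P.pt v * k := by rw [h1]
  have h1 := hr k hkE
  have h2 : r * k * r⁻¹ = k := by
    rw [(Subgroup.mem_centralizer_singleton_iff.1 hkr).symm]; group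
  rw [h2] at h1
  have h3 : k * k = 1 := by nth_rewrite 2 [h1]; exact mul_inv_cancel k
  calc k = k ^ 3 := by rw [pow_succ, sq, h3, one_mul]
    _ = 1 := h.cube k hkE

theorem exists_mem_cent (h : Para A E) {P : Plane G} (b : Basis E P) {r : G} (hrA : r ∈ A)
    (hr2 : r * r = 1) (hr : ∀ x ∈ E, r * x * r⁻¹ = x⁻¹) {M : Mat} (hM : mdet M ≠ 0) :
    ∃ k ∈ A ⊓ Subgroup.centralizer ({r} : Set G), P.Acts k M := by
  obtain ⟨a, ha, haM⟩ := h.exists_acts b hM
  have hrn : P.Acts r ((-1, 0), (0, -1)) := fun w => by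
    rw [hr _ (pt_mem b w), ← P.pt_neg]
    congr 1
    ext <;> simp [mv]
  have hr' : r⁻¹ = r := inv_eq_of_mul_eq_one_right hr2
  have hd : r * a * r⁻¹ * a⁻¹ ∈ E := by
    refine h.cent _ (mul_mem (mul_mem (mul_mem hrA ha) (inv_mem hrA)) (inv_mem ha)) fun x hx => ?_
    obtain ⟨v, rfl⟩ := h.exists_pt b hx
    have e1 : ∀ w, r * a * r⁻¹ * P.pt w * (r * a * r⁻¹)⁻¹ = a * P.pt w * a⁻¹ := by
      intro w
      have h3 := P.acts_mul (P.acts_mul hrn haM) (hr'.symm ▸ hrn : P.Acts r⁻¹ _) w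
      rw [h3, haM]
      congr 1
      ext <;> simp [mv, mmul]
    have h4 := e1 (mv ((-1, 0), (0, -1)) v)
    obtain ⟨w, hw⟩ := h.exists_pt b (h.normal a⁻¹ (inv_mem ha) _ (pt_mem b v))
    rw [inv_inv] at hw
    calc r * a * r⁻¹ * a⁻¹ * P.pt v
        = r * a * r⁻¹ * (a⁻¹ * P.pt v * a) * a⁻¹ := by group
      _ = r * a * r⁻¹ * P.pt w * (r * a * r⁻¹)⁻¹ * (r * a * r⁻¹ * a⁻¹) := by rw [hw]; group
      _ = a * P.pt w * a⁻¹ * (r * a * r⁻¹ * a⁻¹) := by rw [e1]
      _ = P.pt v * (r * a * r⁻¹ * a⁻¹) := by rw [← hw]; group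
  obtain ⟨d, hd'⟩ := h.exists_pt b hd
  refine ⟨P.pt (-d) * a, Subgroup.mem_inf.2 ⟨mul_mem (h.le (pt_mem b _)) ha,
    Subgroup.mem_centralizer_singleton_iff.2 ?_⟩, P.acts_pt haM _⟩
  have e5 : r * (P.pt (-d) * a) * r⁻¹ = P.pt (-d) * a := by
    calc r * (P.pt (-d) * a) * r⁻¹ = (r * P.pt (-d) * r⁻¹) * (r * a * r⁻¹ * a⁻¹) * a := by group
      _ = P.pt (-d) * a := by
        rw [hr _ (pt_mem b _), hd', ← P.pt_neg, ← P.pt_add]
        congr 2
        generalize d = u
        revert u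
        decide
  calc P.pt (-d) * a * r = r * (P.pt (-d) * a) * r⁻¹ * r := by rw [e5]
    _ = r * (P.pt (-d) * a) := by group

end Para

end Cfsg.Agent.AmalgamThree19
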