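import Mathlib
import Cfsg.Agent.Lib.CharInducedBurnside

/-!
Automorphism groups of anisotropic quadratic maps between elementary abelian 2-groups with
target of order at most 4 are solvable.
-/

set_option autoImplicit false
set_option linter.style.haveILetI false
set_option linter.unusedSectionVars false
set_option linter.unusedSimpArgs false
set_option linter.unreachableTactic false
set_option linter.unusedTactic false

namespace Cfsg.Agent.AnisoQuadSolvable

/-- A finite group whose order has all prime divisors among two given primes is solvable. -/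
theorem solvable_of_primes {G : Type*} [Group G] [Finite G] (p q : ℕ) (hp : p.Prime) (hq : q.Prime)
    (h : ∀ r : ℕ, r.Prime → r ∣ Nat.card G → r = p ∨ r = q) : Group.IsSolvable G := by
  have hpos : Nat.card G ≠ 0 := Nat.card_pos.ne'
  rcases eq_or_ne p q with rfl | hne
  · refine CharInduced.solvable_of_card_two_primes p p ((Nat.card G).factorization p) 0 hp hp ?_
    rw [pow_zero, mul_one]
    refine Nat.eq_pow_of_factorization_eq_single hpos (Finsupp.ext fun r => ?_)
    by_cases hr : r = p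
    · subst hr; simp
    · rw [Finsupp.single_eq_of_ne hr]
      by_contra h0
      have hm := Finsupp.mem_support_iff.2 h0
      rw [Nat.support_factorization, Nat.mem_primeFactors] at hm
      rcases h r hm.1 hm.2.1 with e | e <;> exact hr e
  · refine CharInduced.solvable_of_card_two_primes p q ((Nat.card G).factorization p)
      ((Nat.card G).factorization q) hp hq ?_
    refine Nat.eq_of_factorization_eq hpos
      (mul_ne_zero (pow_ne_zero _ hp.ne_zero) (pow_ne_zero _ hq.ne_zero)) fun r => ?_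
    rw [Nat.factorization_mul (pow_ne_zero _ hp.ne_zero) (pow_ne_zero _ hq.ne_zero),
      Finsupp.add_apply, hp.factorization_pow, hq.factorization_pow]
    by_cases h1 : r = p
    · subst h1; rw [Finsupp.single_eq_same, Finsupp.single_eq_of_ne hne, add_zero]
    by_cases h2 : r = q
    · subst h2; rw [Finsupp.single_eq_same, Finsupp.single_eq_of_ne hne.symm, zero_add]
    rw [Finsupp.single_eq_of_ne h1, Finsupp.single_eq_of_ne h2, add_zero]
    by_contra h0
    have hm := Finsupp.mem_support_iff.2 h0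
    rw [Nat.support_factorization, Nat.mem_primeFactors] at hm
    rcases h r hm.1 hm.2.1 with e | e
    · exact h1 e
    · exact h2 e

theorem solvable_of_card_le_ten {G : Type*} [Group G] [Finite G] (h : Nat.card G ≤ 10) :
    Group.IsSolvable G := by
  have key : ∀ n ∈ Finset.range 11, ∃ p ∈ ({2, 3, 5, 7} : Finset ℕ), ∃ q ∈ ({2, 3, 5, 7} : Finset ℕ),
      ∀ r ∈ Finset.range 11, r.Prime → r ∣ n → n ≠ 0 → r = p ∨ r = q := by decide +kernel
  obtain ⟨p, hp, q, hq, hpq⟩ := key _ (Finset.mem_range.2 (Nat.lt_succ_of_le h))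
  have hpr : ∀ x ∈ ({2, 3, 5, 7} : Finset ℕ), x.Prime := by decide +kernel
  exact solvable_of_primes p q (hpr p hp) (hpr q hq) fun r hr hd =>
    hpq r (Finset.mem_range.2 (Nat.lt_succ_of_le ((Nat.le_of_dvd Nat.card_pos hd).trans h))) hr hd Nat.card_pos.ne'

/-- Coordinates of the five points of a pentagon. -/
def vec (i : Fin 5) : Fin 4 → ZMod 2 := fun j => if i.val = j.val ∨ i.val = 4 then 1 else 0

theorem vec_cover : ∀ v : Fin 4 → ZMod 2, v = 0 ∨ (∃ i, v = vec i) ∨ ∃ i j, i ≠ j ∧ v = vec i + vec j := by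
  decide +kernel

theorem vec_pair : ∀ a b c d : Fin 5, a ≠ b → vec a + vec b = vec c + vec d →
    (a = c ∧ b = d) ∨ (a = d ∧ b = c) := by
  decide +kernel

theorem pentagon : ∀ d : Fin 5, d ≠ 0 → ∀ π : Equiv.Perm (Fin 5),
    (∀ k, π (k + d) = π k + d ∨ π (k + d) = π k - d) →
      (∀ k, π k = π 0 + k) ∨ (∀ k, π k = π 0 - k) := by
  decide +kernel

variable {W V : Type*} [CommGroup W] [Finite W] [CommGroup V] [Finite V]

/-- The hypotheses: `Q` is a quadratic map of elementary abelian 2-groups with no non-trivial zero. -/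
structure IsAniso (Q : W → V) : Prop where
  hW : ∀ x : W, x * x = 1
  hV : ∀ v : V, v * v = 1
  hcard : Nat.card V ≤ 4
  h0 : ∀ x, Q x = 1 ↔ x = 1
  bilin : ∀ x y z, Q (x * y * z) * Q (x * y) * Q z = (Q (x * z) * Q x * Q z) * (Q (y * z) * Q y * Q z)

variable {Q : W → V}

/-- Square of the Gauss sum attached to a subgroup of index two of the target. -/
theorem gauss (h : IsAniso Q) (U : Subgroup V) (hU : U.index = 2) (m : ℕ) (hm : Nat.card W = 2 ^ m) :
    ∃ S : ℤ, S = 2 * (Nat.card {x : W // Q x ∈ U} : ℤ) - 2 ^ m ∧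
      (S ^ 2 = 0 ∨ ∃ j, m ≤ j ∧ S ^ 2 = 2 ^ j) := by
  classical
  haveI := Fintype.ofFinite W
  let χ : V → ℤ := fun v => if v ∈ U then 1 else -1
  have χmul : ∀ a b, χ (a * b) = χ a * χ b := by
    intro a b
    have := Subgroup.mul_mem_iff_of_index_two hU (a := a) (b := b)
    by_cases ha : a ∈ U <;> by_cases hb : b ∈ U <;> simp [χ, this, ha, hb]
  have χsq : ∀ a, χ a * χ a = 1 := fun a => by by_cases ha : a ∈ U <;> simp [χ, ha]
  let f : W → ℤ := fun x => χ (Q x)
  let β : W → W → ℤ := fun x y => f (x * y) * f x * f y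
  have hβl : ∀ x y z, β (x * y) z = β x z * β y z := by
    intro x y z
    simp only [β, f, ← χmul]
    rw [h.bilin]
  have hβs : ∀ x y, β x y = β y x := by intro x y; simp only [β]; rw [mul_comm x y]; ring
  have hfm : ∀ x y, f (x * y) = β x y * f x * f y := by
    intro x y
    simp only [β, f]
    linear_combination (-(χ (Q (x * y)))) * χsq (Q x) * (χ (Q y) * χ (Q y)) +
      (-(χ (Q (x * y)))) * χsq (Q y)
  have hf1 : f 1 = 1 := by simp [f, χ, (h.h0 1).2 rfl]
  have hβ1 : ∀ x, β x 1 = 1 := by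
    intro x; simp only [β, mul_one, hf1]; exact χsq (Q x)
  let R : Subgroup W :=
    { carrier := {d | ∀ x, β x d = 1}
      one_mem' := hβ1
      mul_mem' := fun {a b} ha hb x => by rw [hβs, hβl, hβs a, hβs b, ha x, hb x, mul_one]
      inv_mem' := fun {a} ha => by rwa [show a⁻¹ = a from inv_eq_of_mul_eq_one_right (h.hW a)] }
  set S : ℤ := ∑ x : W, f x with hS
  refine ⟨S, ?_, ?_⟩
  · have e : ∀ x, f x = 2 * (if Q x ∈ U then 1 else 0) - 1 := fun x => by
      by_cases hx : Q x ∈ U <;> simp [f, χ, hx]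
    rw [hS, Finset.sum_congr rfl (fun x _ => e x), Finset.sum_sub_distrib, ← Finset.mul_sum,
      Finset.sum_boole, Finset.sum_const, Finset.card_univ, ← Nat.card_eq_fintype_card, hm,
      Nat.card_eq_fintype_card, Fintype.card_subtype]
    simp
  have hinner : ∀ d, ∑ x : W, β x d = if d ∈ R then (2 ^ m : ℤ) else 0 := by
    intro d
    by_cases hd : d ∈ R
    · rw [if_pos hd, Finset.sum_congr rfl (fun x _ => hd x), Finset.sum_const, Finset.card_univ,
        ← Nat.card_eq_fintype_card, hm]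
      simp
    · rw [if_neg hd]
      obtain ⟨a, ha⟩ : ∃ a, β a d ≠ 1 := by
        by_contra hc; push Not at hc; exact hd hc
      have key : β a d * ∑ x : W, β x d = ∑ x : W, β x d := by
        rw [Finset.mul_sum]
        rw [← Equiv.sum_comp (Equiv.mulLeft a) (fun x => β x d)]
        exact Finset.sum_congr rfl fun x _ => (hβl a x d).symm
      have : (β a d - 1) * ∑ x : W, β x d = 0 := by linear_combination key
      rcases mul_eq_zero.1 this with h1 | h1
      · exact absurd (sub_eq_zero.1 h1) ha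
      · exact h1
  have hsq : S ^ 2 = 2 ^ m * ∑ d ∈ Finset.univ.filter (· ∈ R), f d := by
    rw [sq, hS, Finset.sum_mul]
    have : ∀ x, f x * ∑ y : W, f y = ∑ d : W, β x d * f d := by
      intro x
      rw [Finset.mul_sum, ← Equiv.sum_comp (Equiv.mulLeft x) (fun y => f x * f y)]
      refine Finset.sum_congr rfl fun d _ => ?_
      show f x * f (x * d) = _
      rw [hfm]
      linear_combination (β x d * f d) * χsq (Q x)
    rw [Finset.sum_congr rfl (fun x _ => this x), Finset.sum_comm, Finset.mul_sum, Finset.sum_filter]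
    refine Finset.sum_congr rfl fun d _ => ?_
    rw [← Finset.sum_mul, hinner d]
    by_cases hd : d ∈ R <;> simp [hd]
  by_cases hneg : ∃ d0 ∈ R, f d0 = -1
  · left
    obtain ⟨d0, hd0, hf0⟩ := hneg
    have hT : ∑ d ∈ Finset.univ.filter (· ∈ R), f d = - ∑ d ∈ Finset.univ.filter (· ∈ R), f d := by
      rw [← Finset.sum_neg_distrib]
      refine Finset.sum_equiv (Equiv.mulLeft d0) (fun d => ?_) (fun d hd => ?_)
      · simp [R.mul_mem_cancel_left hd0]
      · have hd' : d ∈ R := (Finset.mem_filter.1 hd).2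
        show f d = -f (d0 * d)
        rw [hfm, hd' d0, hf0]; ring
    have hT0 : ∑ d ∈ Finset.univ.filter (· ∈ R), f d = 0 := by linarith
    rw [hsq, hT0, mul_zero]
  · right
    push Not at hneg
    have hall : ∀ d ∈ Finset.univ.filter (· ∈ R), f d = 1 := by
      intro d hd
      have h1 := hneg d (Finset.mem_filter.1 hd).2
      by_cases hu : Q d ∈ U
      · simp [f, χ, hu]
      · simp [f, χ, hu] at h1
    obtain ⟨k, -, hk⟩ := (Nat.dvd_prime_pow Nat.prime_two).1 (hm ▸ R.card_subgroup_dvd_card)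
    refine ⟨m + k, Nat.le_add_right _ _, ?_⟩
    rw [hsq, Finset.sum_congr rfl hall, Finset.sum_const, ← Fintype.card_subtype,
      ← Nat.card_eq_fintype_card, pow_add, hk]
    simp

theorem two_pow_sq {m j : ℕ} {S : ℤ} (hj : m ≤ j) (hS : S ^ 2 = 2 ^ j) :
    ∃ i, m ≤ 2 * i ∧ S.natAbs = 2 ^ i := by
  have h1 : S.natAbs ^ 2 = 2 ^ j := by
    have := congrArg Int.natAbs hS
    simpa [Int.natAbs_pow] using this
  obtain ⟨i, -, hi⟩ := (Nat.dvd_prime_pow Nat.prime_two).1 (h1 ▸ dvd_pow_self S.natAbs (by norm_num : 2 ≠ 0))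
  refine ⟨i, ?_, hi⟩
  rw [hi, ← pow_mul] at h1
  have := Nat.pow_right_injective (le_refl 2) h1
  omega

theorem mem_zpowers_iff_two (h : IsAniso Q) (v w : V) : w ∈ Subgroup.zpowers v ↔ w = 1 ∨ w = v := by
  constructor
  · intro hw
    obtain ⟨k, rfl⟩ := Subgroup.mem_zpowers_iff.1 hw
    rcases Int.even_or_odd k with ⟨l, rfl⟩ | ⟨l, rfl⟩
    · left
      rw [← two_mul, zpow_mul]; simp [zpow_two, sq, h.hV v]
    · right
      rw [zpow_add, zpow_mul]; simp [zpow_two, sq, h.hV v]
  · rintro (rfl | rfl)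
    · exact one_mem _
    · exact Subgroup.mem_zpowers _

theorem sum_counts [Fintype V] [DecidableEq V] (h : IsAniso Q) (hV : Nat.card V = 4) :
    ∑ v ∈ Finset.univ.erase (1 : V), Nat.card {x : W // Q x ∈ Subgroup.zpowers v} =
      Nat.card W + 2 := by
  classical
  haveI := Fintype.ofFinite W
  have e : ∀ v ∈ Finset.univ.erase (1 : V), Nat.card {x : W // Q x ∈ Subgroup.zpowers v} =
      1 + (Finset.univ.filter fun x : W => Q x = v).card := by
    intro v hv
    have hv1 := Finset.ne_of_mem_erase hv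
    rw [Nat.card_eq_fintype_card, Fintype.card_subtype]
    have : (Finset.univ.filter fun x : W => Q x ∈ Subgroup.zpowers v) =
        insert 1 (Finset.univ.filter fun x : W => Q x = v) := by
      ext x
      simp [mem_zpowers_iff_two h, h.h0]
    rw [this, Finset.card_insert_of_notMem, add_comm]
    simp [(h.h0 1).2 rfl, Ne.symm hv1]
  rw [Finset.sum_congr rfl e, Finset.sum_add_distrib, Finset.sum_const, Finset.card_erase_of_mem (Finset.mem_univ _),
    Finset.card_univ, ← Nat.card_eq_fintype_card, hV]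
  have hf := Finset.card_eq_sum_card_fiberwise (f := Q) (s := (Finset.univ.erase (1 : W))) (t := Finset.univ.erase (1 : V))
    (fun x hx => by
      simp only [Finset.mem_coe, Finset.mem_erase, Finset.mem_univ, and_true] at hx ⊢
      exact fun e => hx ((h.h0 x).1 e))
  rw [Finset.card_erase_of_mem (Finset.mem_univ _), Finset.card_univ] at hf
  have hsame : ∀ v ∈ Finset.univ.erase (1 : V), ((Finset.univ.erase (1 : W)).filter fun x => Q x = v) =
      Finset.univ.filter fun x : W => Q x = v := by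
    intro v hv
    ext x
    have hv1 := Finset.ne_of_mem_erase hv
    simp only [Finset.mem_filter, Finset.mem_erase, Finset.mem_univ, and_true, true_and]
    exact ⟨fun hx => hx.2, fun hx => ⟨fun e => hv1 (by rw [← hx, e, (h.h0 1).2 rfl]), hx⟩⟩
  rw [Finset.sum_congr rfl (fun v hv => congrArg Finset.card (hsame v hv))] at hf
  rw [← hf, ← Nat.card_eq_fintype_card]
  have : 1 ≤ Nat.card W := Nat.card_pos
  simp only [smul_eq_mul, mul_one]
  omega

/-- Possible sizes of the preimages of index two subgroups. -/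
theorem count_facts (h : IsAniso Q) (m : ℕ) (hm : Nat.card W = 2 ^ m) (hm3 : 3 ≤ m) :
    Nat.card V = 4 ∧ m ≤ 4 ∧
      ∀ U : Subgroup V, U.index = 2 →
        (m = 3 → Nat.card {x : W // Q x ∈ U} ∈ ({2, 4, 6, 8} : Finset ℕ)) ∧
        (m = 4 → Nat.card {x : W // Q x ∈ U} ∈ ({4, 6, 8, 10, 12, 16} : Finset ℕ)) := by
  classical
  haveI := Fintype.ofFinite W
  haveI := Fintype.ofFinite V
  have hone : ∀ U : Subgroup V, 1 ≤ Nat.card {x : W // Q x ∈ U} := by
    intro U
    haveI : Nonempty {x : W // Q x ∈ U} := ⟨⟨1, by rw [(h.h0 1).2 rfl]; exact U.one_mem⟩⟩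
    exact Nat.card_pos
  have hle : ∀ U : Subgroup V, Nat.card {x : W // Q x ∈ U} ≤ 2 ^ m := fun U =>
    hm ▸ Nat.card_le_card_of_injective _ Subtype.val_injective
  -- the target has order four
  have hV4 : Nat.card V = 4 := by
    have hp : IsPGroup 2 V := fun v => ⟨1, by simpa [sq] using h.hV v⟩
    obtain ⟨k, hk⟩ := IsPGroup.iff_card.1 hp
    have hk2 : k ≤ 2 := by
      by_contra hc
      have : 2 ^ 3 ≤ 2 ^ k := Nat.pow_le_pow_right (by norm_num) (by omega)
      have := h.hcard
      omega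
    interval_cases k
    · exfalso
      haveI : Subsingleton V := (Nat.card_eq_one_iff_unique.1 (by simpa using hk)).1
      have : Subsingleton W := ⟨fun a b => by
        rw [(h.h0 a).1 (Subsingleton.elim _ _), (h.h0 b).1 (Subsingleton.elim _ _)]⟩
      rw [Nat.card_of_subsingleton (1 : W)] at hm
      have : 2 ^ 3 ≤ 2 ^ m := Nat.pow_le_pow_right (by norm_num) hm3
      omega
    · exfalso
      obtain ⟨S, hS, hS'⟩ := gauss h ⊥ (by rw [Subgroup.index_bot, hk]; rfl) m hm
      have hN : Nat.card {x : W // Q x ∈ (⊥ : Subgroup V)} = 1 := by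
        rw [Nat.card_eq_one_iff_unique]
        refine ⟨⟨fun a b => Subtype.ext ?_⟩, ⟨⟨1, by simp [(h.h0 1).2 rfl]⟩⟩⟩
        rw [(h.h0 a.1).1 (Subgroup.mem_bot.1 a.2), (h.h0 b.1).1 (Subgroup.mem_bot.1 b.2)]
      rw [hN] at hS
      have h8 : (2:ℤ) ^ 3 ≤ 2 ^ m := pow_le_pow_right₀ (by norm_num) hm3
      rcases hS' with h0 | ⟨j, hj, hj'⟩
      · rw [sq_eq_zero_iff] at h0; subst h0; push_cast at hS; linarith
      · obtain ⟨i, hi, hi'⟩ := two_pow_sq hj hj'
        have hi2 : 2 ≤ i := by omega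
        have hdvd : (4:ℤ) ∣ S := by
          rw [← Int.dvd_natAbs, hi']
          exact_mod_cast pow_dvd_pow 2 hi2
        have hd4 : (4:ℤ) ∣ 2 ^ m := ⟨2 ^ (m - 2), by
          rw [show (4:ℤ) = 2 ^ 2 by norm_num, ← pow_add]; congr 1; omega⟩
        push_cast at hS
        omega
    · simpa using hk
  have facts : ∀ U : Subgroup V, U.index = 2 → (5 ≤ m → 4 ∣ Nat.card {x : W // Q x ∈ U}) ∧
      (m = 3 → Nat.card {x : W // Q x ∈ U} ∈ ({2, 4, 6, 8} : Finset ℕ)) ∧
      (m = 4 → Nat.card {x : W // Q x ∈ U} ∈ ({4, 6, 8, 10, 12, 16} : Finset ℕ)) := by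
    intro U hU
    obtain ⟨S, hS, hS'⟩ := gauss h U hU m hm
    have h1 := hone U
    have h2 := hle U
    generalize Nat.card {x : W // Q x ∈ U} = N at *
    rcases hS' with h0 | ⟨j, hj, hj'⟩
    · rw [sq_eq_zero_iff] at h0
      subst h0
      refine ⟨fun h5 => ?_, fun h3 => ?_, fun h4 => ?_⟩
      · have h8 : (8:ℤ) ∣ 2 ^ m := ⟨2 ^ (m - 3), by
          rw [show (8:ℤ) = 2 ^ 3 by norm_num, ← pow_add]; congr 1; omega⟩
        omega
      all_goals
        subst m
        norm_num at hS h2
        have : N = 4 ∨ N = 8 := by omega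
        rcases this with rfl | rfl <;> first | decide | omega
    · obtain ⟨i, hi, hi'⟩ := two_pow_sq hj hj'
      refine ⟨fun h5 => ?_, fun h3 => ?_, fun h4 => ?_⟩
      · have hdvd : (8:ℤ) ∣ S := by
          rw [← Int.dvd_natAbs, hi']
          exact_mod_cast pow_dvd_pow 2 (show 3 ≤ i by omega)
        have h8 : (8:ℤ) ∣ 2 ^ m := ⟨2 ^ (m - 3), by
          rw [show (8:ℤ) = 2 ^ 3 by norm_num, ← pow_add]; congr 1; omega⟩
        omega
      all_goals
        subst m
        norm_num at hS h2
        have hi5 : i < 6 := by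
          by_contra hc
          have h64 : 2 ^ 6 ≤ 2 ^ i := Nat.pow_le_pow_right (by norm_num) (by omega)
          omega
        interval_cases i <;> norm_num at hi' <;>
          rcases Int.natAbs_eq_iff.1 hi' with e | e <;> subst e <;>
          first | omega | (simp only [Finset.mem_insert, Finset.mem_singleton]; omega)
  refine ⟨hV4, ?_, fun U hU => (facts U hU).2⟩
  by_contra hm5
  push Not at hm5
  have hidx : ∀ v : V, v ≠ 1 → (Subgroup.zpowers v).index = 2 := by
    intro v hv
    have ho : orderOf v = 2 := orderOf_eq_prime (by rw [sq]; exact h.hV v) hv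
    have h1 := (Subgroup.zpowers v).card_mul_index
    rw [Nat.card_zpowers, ho, hV4] at h1
    omega
  have hpart := sum_counts h hV4
  rw [hm] at hpart
  have hdv : 4 ∣ ∑ v ∈ Finset.univ.erase (1 : V), Nat.card {x : W // Q x ∈ Subgroup.zpowers v} :=
    Finset.dvd_sum fun v hv => (facts _ (hidx v (Finset.ne_of_mem_erase hv))).1 (by omega)
  rw [hpart] at hdv
  have h4 : 4 ∣ 2 ^ m := pow_dvd_pow 2 (show 2 ≤ m by omega)
  omega

theorem fix_congr {p : ℕ} [Fact p.Prime] (g : MulAut W) (hg : orderOf g = p) (S : Set W)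
    (hS : ∀ x, x ∈ S ↔ g x ∈ S) :
    Nat.card S ≡ Nat.card {x : W // x ∈ S ∧ g x = x} [MOD p] := by
  classical
  haveI : Fintype S := Fintype.ofFinite S
  let e : Equiv.Perm S := g.toEquiv.subtypeEquiv hS
  have hcoe : ∀ (n : ℕ) (x : S), (((e ^ n) x : S) : W) = (g ^ n) (x : W) := by
    intro n
    induction n with
    | zero => intro x; simp
    | succ n ih =>
      intro x
      rw [pow_succ', Equiv.Perm.mul_apply, pow_succ', MulAut.mul_apply, ← ih x]
      rfl
  have hp : IsPGroup p (Subgroup.zpowers e) := by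
    have he : e ^ p = 1 := by
      ext x
      rw [hcoe p x, ← hg, pow_orderOf_eq_one]
      simp
    obtain ⟨i, -, hi⟩ := (Nat.dvd_prime_pow (Fact.out : p.Prime)).1
      (show orderOf e ∣ p ^ 1 by rw [pow_one]; exact orderOf_dvd_of_pow_eq_one he)
    exact IsPGroup.of_card (n := i) (by rw [Nat.card_zpowers, hi])
  let F : MulAction.fixedPoints (Subgroup.zpowers e) S ≃ {x : W // x ∈ S ∧ g x = x} :=
    { toFun := fun x => ⟨((x : S) : W), (x : S).2,
        congrArg Subtype.val (x.2 ⟨e, Subgroup.mem_zpowers e⟩)⟩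
      invFun := fun x => ⟨⟨(x : W), x.2.1⟩, fun k => by
        obtain ⟨k, hk⟩ := k
        obtain ⟨i, rfl⟩ := Subgroup.mem_zpowers_iff.1 hk
        show (e ^ i) _ = _
        exact Equiv.Perm.zpow_apply_eq_self_of_apply_eq_self (Subtype.ext x.2.2) i⟩
      left_inv := fun x => rfl
      right_inv := fun x => rfl }
  exact (hp.card_modEq_card_fixedPoints S).trans (by rw [Nat.card_congr F])

theorem pentagon_case [Fintype V] [DecidableEq V] (h : IsAniso Q) (hm : Nat.card W = 16)
    (hV4 : Nat.card V = 4) (K : Subgroup (MulAut W)) (hK : ∀ g ∈ K, ∀ x, Q (g x) = Q x)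
    (σ : MulAut W) (hσK : σ ∈ K) (hσ : orderOf σ = 5) (hσfix : ∀ x, σ x = x → x = 1)
    (hF : ∀ v : V, v ≠ 1 → Nat.card {x : W // Q x = v} = 5) :
    Nat.card K ≤ 10 := by
  classical
  haveI : Fact (Nat.Prime 5) := ⟨Nat.prime_five⟩
  obtain ⟨v0, hv0, v1, hv1, hne⟩ : ∃ v0, v0 ≠ (1 : V) ∧ ∃ v1, v1 ≠ (1 : V) ∧ v1 ≠ v0 := by
    have h1 : 1 < (Finset.univ.erase (1 : V)).card := by
      rw [Finset.card_erase_of_mem (Finset.mem_univ _), Finset.card_univ, ← Nat.card_eq_fintype_card, hV4]
      norm_num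
    obtain ⟨a, ha, b, hb, hab⟩ := Finset.one_lt_card.1 h1
    exact ⟨a, Finset.ne_of_mem_erase ha, b, Finset.ne_of_mem_erase hb, hab.symm⟩
  have hQpow : ∀ (n : ℕ) (x : W), Q ((σ ^ n) x) = Q x := fun n x => hK _ (K.pow_mem hσK n) x
  have fib : ∀ v, v ≠ (1 : V) → ∀ (x : W) (hx : Q x = v),
      Function.Bijective (fun i : Fin 5 => (⟨(σ ^ (i : ℕ)) x, (hQpow _ x).trans hx⟩ : {w : W // Q w = v})) := by
    intro v hv x hx
    haveI := Fintype.ofFinite {w : W // Q w = v}
    rw [Fintype.bijective_iff_injective_and_card, Fintype.card_fin, ← Nat.card_eq_fintype_card, hF v hv]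
    refine ⟨fun i j hij => ?_, rfl⟩
    by_contra hij'
    have h1 : (σ ^ (i : ℕ)) x = (σ ^ (j : ℕ)) x := congrArg Subtype.val hij
    wlog hlt : (i : ℕ) < j generalizing i j
    · exact this j i hij.symm (Ne.symm hij') h1.symm (by
        have : (i : ℕ) ≠ j := fun e => hij' (Fin.ext e); omega)
    have h2 : (σ ^ ((j : ℕ) - i)) x = x := (σ ^ (i : ℕ)).injective (by
      rw [← MulAut.mul_apply, ← pow_add, Nat.add_sub_cancel' hlt.le]; exact h1.symm)
    obtain ⟨c, hc⟩ : ∃ c : ℕ, ((j : ℕ) - i) * c % 5 = 1 := by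
      have : (j : ℕ) - i ∈ Finset.Ioo 0 5 := Finset.mem_Ioo.2 ⟨by omega, by omega⟩
      revert this
      generalize (j : ℕ) - i = d
      intro hd
      rw [Finset.mem_Ioo] at hd
      obtain ⟨h0, h5⟩ := hd
      interval_cases d
      · exact ⟨1, rfl⟩
      · exact ⟨3, rfl⟩
      · exact ⟨2, rfl⟩
      · exact ⟨4, rfl⟩
    have h3 : ∀ c : ℕ, (σ ^ (((j : ℕ) - i) * c)) x = x := by
      intro c
      induction c with
      | zero => simp
      | succ c ih => rw [Nat.mul_succ, pow_add, MulAut.mul_apply, h2, ih]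
    have h4 := h3 c
    rw [← pow_mod_orderOf, hσ, hc, pow_one] at h4
    rw [hσfix x h4, (h.h0 1).2 rfl] at hx
    exact hv hx.symm
  obtain ⟨⟨x0, hx0⟩⟩ : Nonempty {x : W // Q x = v0} := (Nat.card_pos_iff.1 (by rw [hF v0 hv0]; norm_num)).1
  obtain ⟨⟨y, hy⟩⟩ : Nonempty {x : W // Q x = v1} := (Nat.card_pos_iff.1 (by rw [hF v1 hv1]; norm_num)).1
  let e : Fin 5 → W := fun i => (σ ^ (i : ℕ)) x0
  have hper : ∀ (n : ℕ) (x : W), (σ ^ n) x = (σ ^ (n % 5)) x := fun n x => by
    rw [← hσ, pow_mod_orderOf]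
  have eshift : ∀ (l i : Fin 5), (σ ^ (l : ℕ)) (e i) = e (i + l) := by
    intro l i
    show (σ ^ (l : ℕ)) ((σ ^ (i : ℕ)) x0) = (σ ^ ((i + l : Fin 5) : ℕ)) x0
    rw [← MulAut.mul_apply, ← pow_add, hper, Fin.val_add, add_comm]
  -- coordinates
  let Φ : (Fin 4 → ZMod 2) → W := fun u => ∏ i : Fin 4, e i.castSucc ^ (u i).val
  have hpadd : ∀ (w : W) (a b : ZMod 2), w ^ (a + b).val = w ^ a.val * w ^ b.val := fun w a b => by
    rw [← pow_add, ZMod.val_add, ← pow_eq_pow_mod]
    rw [sq]; exact h.hW w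
  have hΦadd : ∀ u u', Φ (u + u') = Φ u * Φ u' := fun u u' => by
    simp only [Φ, Pi.add_apply, hpadd, Finset.prod_mul_distrib]
  have hprod : e 0 * e 1 * e 2 * e 3 * e 4 = 1 := by
    apply hσfix
    have h5 : σ (e 4) = e 0 := by have := eshift 1 4; simpa using this
    have h1' : σ (e 0) = e 1 := by have := eshift 1 0; simpa using this
    have h2' : σ (e 1) = e 2 := by have := eshift 1 1; simpa using this
    have h3' : σ (e 2) = e 3 := by have := eshift 1 2; simpa using this
    have h4' : σ (e 3) = e 4 := by have := eshift 1 3; simpa using this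
    rw [map_mul, map_mul, map_mul, map_mul, h1', h2', h3', h4', h5, mul_comm]
    simp only [mul_assoc]
  have he4 : e 4 = e 0 * e 1 * e 2 * e 3 := by
    have := eq_inv_of_mul_eq_one_right hprod
    rw [this, inv_eq_of_mul_eq_one_right (h.hW _)]
  have hΦvec : ∀ i, Φ (vec i) = e i := by
    intro i
    fin_cases i <;> simp [Φ, Fin.prod_univ_four, vec, ZMod.val_one, he4]
  -- surjectivity
  let R : Subgroup W :=
    { carrier := Set.range Φ
      one_mem' := ⟨0, by simp [Φ]⟩
      mul_mem' := fun {a b} ⟨u, hu⟩ ⟨u', hu'⟩ => ⟨u + u', by rw [hΦadd, hu, hu']⟩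
      inv_mem' := fun {a} ha => by rwa [show a⁻¹ = a from inv_eq_of_mul_eq_one_right (h.hW a)] }
  have heR : ∀ i, e i ∈ R := fun i => ⟨vec i, hΦvec i⟩
  have hinv : ∀ x ∈ R, σ x ∈ R := by
    rintro x ⟨u, rfl⟩
    show σ (∏ i : Fin 4, e i.castSucc ^ (u i).val) ∈ R
    rw [map_prod]
    refine R.prod_mem fun i _ => ?_
    rw [map_pow]
    refine R.pow_mem ?_ _
    have := eshift 1 i.castSucc
    rw [Fin.val_one, pow_one] at this
    rw [this]; exact heR _
  have hiff : ∀ x, x ∈ R ↔ σ x ∈ R := by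
    intro x
    refine ⟨hinv x, fun hx => ?_⟩
    have h4 : ∀ (n : ℕ) z, z ∈ R → (σ ^ n) z ∈ R := by
      intro n
      induction n with
      | zero => intro z hz; simpa using hz
      | succ n ih => intro z hz; rw [pow_succ', MulAut.mul_apply]; exact hinv _ (ih z hz)
    have := h4 4 _ hx
    rwa [← MulAut.mul_apply, ← pow_succ, show 4 + 1 = orderOf σ from hσ.symm, pow_orderOf_eq_one, MulAut.one_apply] at this
  have hRtop : R = ⊤ := by
    apply Subgroup.eq_top_of_card_eq
    rw [hm]
    have h1 := fix_congr σ hσ (R : Set W) hiff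
    have h2 : Nat.card {x : W // x ∈ (R : Set W) ∧ σ x = x} = 1 := by
      rw [Nat.card_eq_one_iff_unique]
      exact ⟨⟨fun a b => Subtype.ext ((hσfix _ a.2.2).trans (hσfix _ b.2.2).symm)⟩, ⟨⟨1, R.one_mem, map_one σ⟩⟩⟩
    rw [h2] at h1
    have h3 : 2 ≤ Nat.card R := by
      rw [Nat.succ_le_iff, Finite.one_lt_card_iff_nontrivial, Subgroup.nontrivial_iff_ne_bot]
      intro hb
      have h5 := heR 0
      rw [hb, Subgroup.mem_bot] at h5
      simp [e] at h5
      rw [h5, (h.h0 1).2 rfl] at hx0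
      exact hv0 hx0.symm
    obtain ⟨k, hk4, hk⟩ := (Nat.dvd_prime_pow Nat.prime_two).1
      (show Nat.card R ∣ 2 ^ 4 by rw [show (2:ℕ) ^ 4 = 16 from rfl, ← hm]; exact R.card_subgroup_dvd_card)
    have h6 : Nat.card (↑R : Set W) = 2 ^ k := hk
    rw [h6] at h1
    rw [hk] at h3 ⊢
    interval_cases k <;> (revert h1 h3; decide)
  have hΦinj : Function.Injective Φ := by
    haveI := Fintype.ofFinite W
    have hs : Function.Surjective Φ := fun x => (hRtop ▸ Subgroup.mem_top x : x ∈ R)
    refine ((Fintype.bijective_iff_surjective_and_card _).2 ⟨hs, ?_⟩).1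
    rw [← Nat.card_eq_fintype_card (α := W), hm]; rfl
  have hpair : ∀ a b c d : Fin 5, a ≠ b → e a * e b = e c * e d → (a = c ∧ b = d) ∨ (a = d ∧ b = c) := by
    intro a b c d hab heq
    rw [← hΦvec, ← hΦvec b, ← hΦvec c, ← hΦvec d, ← hΦadd, ← hΦadd] at heq
    exact vec_pair a b c d hab (hΦinj heq)
  obtain ⟨u, hu⟩ : y ∈ R := hRtop ▸ Subgroup.mem_top y
  obtain ⟨i, j, hij, hyij⟩ : ∃ i j, i ≠ j ∧ y = e i * e j := by
    rcases vec_cover u with rfl | ⟨i, rfl⟩ | ⟨i, j, hij, rfl⟩
    · exfalso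
      rw [← hu, show Φ 0 = 1 by simp [Φ], (h.h0 1).2 rfl] at hy
      exact hv1 hy.symm
    · exfalso
      rw [← hu, hΦvec] at hy
      exact hne (hy.symm.trans ((hQpow _ x0).trans hx0))
    · exact ⟨i, j, hij, by rw [← hu, hΦadd, hΦvec, hΦvec]⟩
  -- the permutation attached to an element of `K`
  have he_inj : Function.Injective e := fun a b hab => (fib v0 hv0 x0 hx0).1 (Subtype.ext hab)
  have hperm : ∀ g : K, ∃ π : Equiv.Perm (Fin 5), (∀ a, (g : MulAut W) (e a) = e (π a)) ∧
      ((∀ k, π k = π 0 + k) ∨ (∀ k, π k = π 0 - k)) := by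
    intro g
    have hex : ∀ a, ∃ b, e b = (g : MulAut W) (e a) := fun a => by
      obtain ⟨b, hb⟩ := (fib v0 hv0 x0 hx0).2 ⟨(g : MulAut W) (e a), by rw [hK _ g.2, hQpow, hx0]⟩
      exact ⟨b, congrArg Subtype.val hb⟩
    choose f hf using hex
    have hfi : Function.Injective f := fun a b hab => he_inj ((g : MulAut W).injective (by rw [← hf a, ← hf b, hab]))
    let π : Equiv.Perm (Fin 5) := Equiv.ofBijective f ⟨hfi, Finite.surjective_of_injective hfi⟩
    have hπ : ∀ a, (g : MulAut W) (e a) = e (π a) := fun a => (hf a).symm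
    refine ⟨π, hπ, pentagon (j - i) (sub_ne_zero.2 hij.symm) π fun k => ?_⟩
    obtain ⟨l, hl⟩ := (fib v1 hv1 y hy).2
      ⟨(g : MulAut W) ((σ ^ ((k - i : Fin 5) : ℕ)) y), by rw [hK _ g.2, hQpow, hy]⟩
    have hl' : (σ ^ (l : ℕ)) y = (g : MulAut W) ((σ ^ ((k - i : Fin 5) : ℕ)) y) := congrArg Subtype.val hl
    rw [hyij, map_mul, map_mul, map_mul, eshift, eshift, eshift, eshift, hπ, hπ] at hl'
    have hne' : π (i + (k - i)) ≠ π (j + (k - i)) := fun e' => hij (add_right_cancel (π.injective e'))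
    rw [show i + (k - i) = k by abel, show j + (k - i) = k + (j - i) by abel] at hne' hl'
    rcases hpair _ _ _ _ hne' hl'.symm with ⟨h1, h2⟩ | ⟨h1, h2⟩
    · left; rw [h1, h2]; abel
    · right; rw [h1, h2]; abel
  choose π hπ hπP using hperm
  let ψ : K → Fin 5 × Bool := fun g => (π g 0, decide (∀ k, π g k = π g 0 + k))
  have hψ : Function.Injective ψ := by
    intro g g' hgg
    simp only [ψ, Prod.mk.injEq, decide_eq_decide] at hgg
    have heq : π g = π g' := by
      apply Equiv.ext
      intro k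
      by_cases hd : ∀ k, π g k = π g 0 + k
      · rw [hd k, (hgg.2.1 hd) k, hgg.1]
      · rw [(hπP g).resolve_left hd k, (hπP g').resolve_left (fun h' => hd (hgg.2.2 h')) k, hgg.1]
    apply Subtype.ext
    apply MulEquiv.ext
    intro x
    obtain ⟨w, rfl⟩ := (hRtop ▸ Subgroup.mem_top x : x ∈ R)
    simp only [Φ, map_prod, map_pow, hπ, heq]
  calc Nat.card K ≤ Nat.card (Fin 5 × Bool) := Nat.card_le_card_of_injective ψ hψ
    _ = 10 := by simp

/-- The automorphism group of an anisotropic quadratic map with values in a group of order `≤ 4` is solvable. -/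
theorem solvable_of_isAniso (h : IsAniso Q) (K : Subgroup (MulAut W))
    (hK : ∀ g ∈ K, ∀ x, Q (g x) = Q x) : Group.IsSolvable K := by
  classical
  haveI := Fintype.ofFinite V
  have hp : IsPGroup 2 W := fun w => ⟨1, by simpa [sq] using h.hW w⟩
  obtain ⟨m, hm⟩ := IsPGroup.iff_card.1 hp
  have key : ∀ p : ℕ, p.Prime → p ∣ Nat.card K → p = 2 ∨ p = 3 ∨ Nat.card K ≤ 10 := by
    intro p hp hpd
    by_cases h23 : p = 2 ∨ p = 3
    · rcases h23 with rfl | rfl <;> simp
    push Not at h23
    right; right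
    haveI := Fact.mk hp
    obtain ⟨⟨σ, hσK⟩, hσ⟩ := exists_prime_orderOf_dvd_card' p hpd
    rw [← Subgroup.orderOf_coe] at hσ
    change orderOf σ = p at hσ
    let F : Subgroup W := MonoidHom.eqLocus σ.toMonoidHom (MonoidHom.id W)
    have hFmem : ∀ x, x ∈ F ↔ σ x = x := fun x => Iff.rfl
    obtain ⟨k, hkm, hk⟩ := (Nat.dvd_prime_pow Nat.prime_two).1 (hm ▸ F.card_subgroup_dvd_card)
    have hkm' : k < m := by
      refine lt_of_le_of_ne hkm fun e => ?_
      subst e
      have htop := Subgroup.eq_top_of_card_eq F (hk.trans hm.symm)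
      have h1 : σ = 1 := MulEquiv.ext fun x => (hFmem x).1 (htop ▸ Subgroup.mem_top x)
      rw [h1, orderOf_one] at hσ
      exact hp.one_lt.ne hσ
    have hmod : 2 ^ m ≡ 2 ^ k [MOD p] := by
      have h1 := fix_congr σ hσ Set.univ (fun x => by simp)
      rw [Nat.card_univ, hm] at h1
      rw [Nat.card_congr (Equiv.subtypeEquivRight (fun x => by simp [hFmem]) :
        {x : W // x ∈ Set.univ ∧ σ x = x} ≃ F), hk] at h1
      exact h1
    rw [Nat.ModEq.comm] at hmod
    have hdvd : p ∣ 2 ^ m - 2 ^ k := (Nat.modEq_iff_dvd' (Nat.pow_le_pow_right (by norm_num) hkm'.le)).1 hmod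
    have hpj : p ∣ 2 ^ (m - k) - 1 := by
      rw [show 2 ^ m - 2 ^ k = 2 ^ k * (2 ^ (m - k) - 1) by
        rw [Nat.mul_sub, mul_one, ← pow_add, Nat.add_sub_cancel' hkm'.le]] at hdvd
      refine (Nat.Coprime.dvd_of_dvd_mul_left ?_ hdvd)
      exact (((Nat.coprime_primes hp Nat.prime_two).2 h23.1).pow_right k)
    have hm3 : 3 ≤ m := by
      by_contra hc
      have : m - k ≤ 2 := by omega
      interval_cases hmk : m - k <;> norm_num at hpj
      · omega
      · exact hp.not_dvd_one (by rw [hpj])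
      · exact h23.2 ((Nat.prime_dvd_prime_iff_eq hp Nat.prime_three).1 hpj)
    obtain ⟨hV4, hm4, hcounts⟩ := count_facts h m hm hm3
    have hidx : ∀ v : V, v ≠ 1 → (Subgroup.zpowers v).index = 2 := by
      intro v hv
      have ho : orderOf v = 2 := orderOf_eq_prime (by rw [sq]; exact h.hV v) hv
      have h1 := (Subgroup.zpowers v).card_mul_index
      rw [Nat.card_zpowers, ho, hV4] at h1
      omega
    have hNmod : ∀ v : V, Nat.card {x : W // Q x ∈ Subgroup.zpowers v} ≡
        Nat.card {x : W // Q x ∈ Subgroup.zpowers v ∧ σ x = x} [MOD p] := fun v =>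
      fix_congr σ hσ {x | Q x ∈ Subgroup.zpowers v} (fun x => by simp [hK σ hσK])
    have hfx : ∀ v : V, 1 ≤ Nat.card {x : W // Q x ∈ Subgroup.zpowers v ∧ σ x = x} ∧
        Nat.card {x : W // Q x ∈ Subgroup.zpowers v ∧ σ x = x} ≤ 2 ^ k := by
      intro v
      haveI : Nonempty {x : W // Q x ∈ Subgroup.zpowers v ∧ σ x = x} :=
        ⟨⟨1, by rw [(h.h0 1).2 rfl]; exact one_mem _, map_one σ⟩⟩
      refine ⟨Nat.card_pos, hk ▸ Nat.card_le_card_of_injective (fun x => (⟨(x : W), x.2.2⟩ : F)) ?_⟩
      intro a b hab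
      exact Subtype.ext (congrArg (fun z : F => (z : W)) hab)
    have hsum := sum_counts h hV4
    rw [hm] at hsum
    have hcard3 : (Finset.univ.erase (1 : V)).card = 3 := by
      rw [Finset.card_erase_of_mem (Finset.mem_univ _), Finset.card_univ, ← Nat.card_eq_fintype_card, hV4]
    have hp57 : (p = 5 ∧ m = 4 ∧ k = 0) ∨ (p = 7 ∧ k ≤ 1) := by
      have hple : p ≤ 15 := by
        refine (Nat.le_of_dvd ?_ hpj).trans ?_
        · have : 2 ^ 1 ≤ 2 ^ (m - k) := Nat.pow_le_pow_right (by norm_num) (by omega)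
          omega
        · have : 2 ^ (m - k) ≤ 2 ^ 4 := Nat.pow_le_pow_right (by norm_num) (by omega)
          omega
      have hp1 := hp.two_le
      interval_cases m <;> interval_cases k <;> norm_num at hpj <;>
        interval_cases p <;> first | omega | (norm_num at hp) | (norm_num at hpj)
    rcases hp57 with ⟨rfl, rfl, rfl⟩ | ⟨rfl, hk1⟩
    · -- five
      have hN : ∀ v ∈ Finset.univ.erase (1 : V), Nat.card {x : W // Q x ∈ Subgroup.zpowers v} ∈ ({6, 16} : Finset ℕ) := by
        intro v hv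
        have h1 := (hcounts _ (hidx v (Finset.ne_of_mem_erase hv))).2 rfl
        have h2 := hNmod v
        have h3 := hfx v
        rw [show Nat.card {x : W // Q x ∈ Subgroup.zpowers v ∧ σ x = x} = 1 by
          rw [pow_zero] at h3; omega] at h2
        revert h1 h2
        generalize Nat.card {x : W // Q x ∈ Subgroup.zpowers v} = N
        intro h1
        fin_cases h1 <;> simp [Nat.ModEq]
      have h6 : ∀ v ∈ Finset.univ.erase (1 : V), Nat.card {x : W // Q x ∈ Subgroup.zpowers v} = 6 := by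
        intro v hv
        have h1 := hN v hv
        simp only [Finset.mem_insert, Finset.mem_singleton] at h1
        refine h1.resolve_right fun h16 => ?_
        have hge : ∀ w ∈ (Finset.univ.erase (1 : V)).erase v, 6 ≤ Nat.card {x : W // Q x ∈ Subgroup.zpowers w} := by
          intro w hw
          have := hN w (Finset.mem_of_mem_erase hw)
          simp only [Finset.mem_insert, Finset.mem_singleton] at this
          omega
        rw [← Finset.add_sum_erase _ _ hv, h16] at hsum
        have := Finset.card_nsmul_le_sum _ _ _ hge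
        rw [Finset.card_erase_of_mem hv, hcard3, smul_eq_mul] at this
        norm_num at hsum
        omega
      refine pentagon_case h (by rw [hm]; rfl) hV4 K hK σ hσK hσ (fun x hx => ?_) fun v hv => ?_
      · haveI : Subsingleton F := (Nat.card_eq_one_iff_unique.1 (by simpa using hk)).1
        exact congrArg Subtype.val (Subsingleton.elim (⟨x, hx⟩ : F) ⟨1, F.one_mem⟩)
      · haveI := Fintype.ofFinite W
        have h1 := h6 v (Finset.mem_erase.2 ⟨hv, Finset.mem_univ v⟩)
        rw [Nat.card_eq_fintype_card, Fintype.card_subtype] at h1 ⊢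
        rw [show (Finset.univ.filter fun x : W => Q x ∈ Subgroup.zpowers v) =
          insert 1 (Finset.univ.filter fun x : W => Q x = v) by ext x; simp [mem_zpowers_iff_two h, h.h0],
          Finset.card_insert_of_notMem (by simp [(h.h0 1).2 rfl, Ne.symm hv])] at h1
        omega
    · -- seven
      exfalso
      have h8 : ∀ v ∈ Finset.univ.erase (1 : V), 8 ≤ Nat.card {x : W // Q x ∈ Subgroup.zpowers v} := by
        intro v hv
        have h0 := hcounts _ (hidx v (Finset.ne_of_mem_erase hv))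
        have h2 := hNmod v
        have h3 := hfx v
        have h4 : (2:ℕ) ^ k ≤ 2 := by interval_cases k <;> norm_num
        revert h2 h3
        generalize Nat.card {x : W // Q x ∈ Subgroup.zpowers v ∧ σ x = x} = M
        intro h2 h3
        obtain ⟨h31, h32⟩ := h3
        have hM : M = 1 ∨ M = 2 := by omega
        rcases (show m = 3 ∨ m = 4 by omega) with rfl | rfl
        · have h1 := h0.1 rfl
          revert h1 h2
          generalize Nat.card {x : W // Q x ∈ Subgroup.zpowers v} = N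
          intro h2 h1
          have hk0 : k ≤ 1 := hk1
          rcases hM with rfl | rfl <;> fin_cases h1 <;> simp [Nat.ModEq] at h2 ⊢
          all_goals
            have : k = 0 := by
              interval_cases k
              · rfl
              · norm_num at hpj
            subst this
            norm_num at h32
        · have h1 := h0.2 rfl
          revert h1 h2
          generalize Nat.card {x : W // Q x ∈ Subgroup.zpowers v} = N
          intro h2 h1
          rcases hM with rfl | rfl <;> fin_cases h1 <;> simp [Nat.ModEq] at h2 ⊢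
      have := Finset.card_nsmul_le_sum _ _ _ h8
      rw [hcard3, hsum, smul_eq_mul] at this
      interval_cases m <;> norm_num at this
  by_cases hle : Nat.card K ≤ 10
  · exact solvable_of_card_le_ten hle
  · refine solvable_of_primes 2 3 Nat.prime_two Nat.prime_three fun r hr hd => ?_
    rcases key r hr hd with e | e | e
    · exact Or.inl e
    · exact Or.inr e
    · exact absurd e hle

end Cfsg.Agent.AnisoQuadSolvable
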