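import Mathlib
import Cfsg.Agent.S0071

/-!
The isometry group of an anisotropic quadratic map between elementary abelian 2-groups of any rank
has a normal 2-complement, so it is solvable.
-/

set_option autoImplicit false
set_option linter.style.haveILetI false
set_option linter.unusedSectionVars false

namespace Cfsg.Agent.AnisoSolvable57

universe u v

/-- A quadratic map of elementary abelian 2-groups with no non-trivial zero. -/
structure IsAnisoQuad {W : Type u} {U : Type v} [AddCommGroup W] [AddCommGroup U] (Q : W → U) :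
    Prop where
  hW : ∀ x : W, x + x = 0
  hU : ∀ v : U, v + v = 0
  aniso : ∀ x, Q x = 0 → x = 0
  polar : ∀ x y z, Q (x + y + z) + Q (x + y) + Q z =
    (Q (x + z) + Q x + Q z) + (Q (y + z) + Q y + Q z)

/-- The isometries. -/
def isom {W : Type u} {U : Type v} [AddCommGroup W] (Q : W → U) : Subgroup (W ≃ₗ[ℤ] W) where
  carrier := {g | ∀ x, Q (g x) = Q x}
  one_mem' := fun x => rfl
  mul_mem' := fun {a b} ha hb x => by
    show Q (a (b x)) = Q x
    rw [ha, hb]
  inv_mem' := fun {a} ha x => by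
    have h : a (a⁻¹ x) = x := a.apply_symm_apply x
    conv_rhs => rw [← h]
    exact (ha _).symm

section

variable {W : Type u} {U : Type v} [AddCommGroup W] [AddCommGroup U] {Q : W → U}

/-- The polar form. -/
def polarForm (Q : W → U) (x y : W) : U := Q (x + y) + Q x + Q y

theorem map_zero' (h : IsAnisoQuad Q) : Q 0 = 0 := by
  have e := h.polar 0 0 0
  simp only [add_zero] at e
  have h3 : Q 0 + Q 0 + Q 0 = Q 0 := by rw [h.hU, zero_add]
  rw [h3, h.hU] at e
  exact e

theorem map_add' (h : IsAnisoQuad Q) (x y : W) : Q (x + y) = Q x + Q y + polarForm Q x y := by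
  unfold polarForm
  rw [show Q x + Q y + (Q (x + y) + Q x + Q y) = Q (x + y) + ((Q x + Q x) + (Q y + Q y)) by abel,
    h.hU, h.hU, add_zero, add_zero]

theorem polar_comm (x y : W) : polarForm Q x y = polarForm Q y x := by
  unfold polarForm
  rw [add_comm y x]; abel

theorem polar_add_left (h : IsAnisoQuad Q) (x y z : W) :
    polarForm Q (x + y) z = polarForm Q x z + polarForm Q y z := h.polar x y z

theorem polar_add_right (h : IsAnisoQuad Q) (x y z : W) :
    polarForm Q x (y + z) = polarForm Q x y + polarForm Q x z := by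
  rw [polar_comm, polar_add_left h, polar_comm y, polar_comm z]

theorem polar_map {g : W ≃ₗ[ℤ] W} (hg : g ∈ isom Q) (x y : W) :
    polarForm Q (g x) (g y) = polarForm Q x y := by
  unfold polarForm
  rw [← map_add, hg, hg, hg]

theorem eq_of_add_eq_zero (h : IsAnisoQuad Q) {x y : W} (e : x + y = 0) : x = y := by
  calc x = x + (y + y) := by rw [h.hW, add_zero]
    _ = (x + y) + y := (add_assoc _ _ _).symm
    _ = y := by rw [e, zero_add]

/-- A fixed vector is orthogonal to the image of `u + 1`. -/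
theorem polar_image (h : IsAnisoQuad Q) {u : W ≃ₗ[ℤ] W} (hu : u ∈ isom Q) {x : W} (hx : u x = x)
    (w : W) : polarForm Q x (u w + w) = 0 := by
  have e : polarForm Q x (u w) = polarForm Q x w := by
    conv_lhs => rw [← hx]
    exact polar_map hu x w
  rw [polar_add_right h, e, h.hU]

theorem apply_image {u : W ≃ₗ[ℤ] W} (hu2 : u * u = 1) (w : W) : u (u w + w) = u w + w := by
  have e : u (u w) = w := DFunLike.congr_fun hu2 w
  rw [map_add, e, add_comm]

/-- Commuting isometries: one fixes the image of the other minus one, if the latter is an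
involution. -/
theorem fix_image (h : IsAnisoQuad Q) {u g : W ≃ₗ[ℤ] W} (hu : u ∈ isom Q) (hu2 : u * u = 1)
    (hg : g ∈ isom Q) (hc : Commute u g) (w : W) : g (u w + w) = u w + w := by
  have e1 : g (u w) = u (g w) := (DFunLike.congr_fun hc.eq w).symm
  have e2 : g (u w + w) = u (g w) + g w := by rw [map_add, e1]
  have e3 : polarForm Q (g (u w + w)) (u w + w) = 0 := by
    refine polar_image h hu ?_ w
    rw [e2]
    exact apply_image hu2 (g w)
  refine eq_of_add_eq_zero h (h.aniso _ ?_)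
  rw [map_add' h, e3, hg, h.hU, add_zero]

/-- An isometry permuting commuting involutions fixes the images. -/
theorem fix_image_of_normalizes (h : IsAnisoQuad Q) {E : Set (W ≃ₗ[ℤ] W)}
    (hE : ∀ e ∈ E, e ∈ isom Q ∧ e * e = 1) (hcomm : ∀ e ∈ E, ∀ f ∈ E, Commute e f)
    {g : W ≃ₗ[ℤ] W} (hg : g ∈ isom Q) (hnorm : ∀ e ∈ E, g * e * g⁻¹ ∈ E) {e : W ≃ₗ[ℤ] W}
    (he : e ∈ E) (w : W) : g (e w + w) = e w + w := by
  set e' := g * e * g⁻¹ with he'def
  have he' : e' ∈ E := hnorm e he
  have e1 : g (e w + w) = e' (g w) + g w := by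
    have h1 : e' (g w) = g (e (g⁻¹ (g w))) := rfl
    have h2 : g⁻¹ (g w) = w := g.symm_apply_apply w
    rw [h1, h2, map_add]
  have e2 : e' (e w + w) = e w + w :=
    fix_image h (hE e he).1 (hE e he).2 (hE e' he').1 (hcomm e he e' he') w
  have e3 : polarForm Q (g (e w + w)) (e w + w) = 0 := by
    rw [polar_comm, e1]
    exact polar_image h (hE e' he').1 e2 (g w)
  refine eq_of_add_eq_zero h (h.aniso _ ?_)
  rw [map_add' h, e3, hg, h.hU, add_zero]

/-- An involution fixes `g x + x` whenever `g` fixes its image. -/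
theorem fix_diff (h : IsAnisoQuad Q) {e g : W ≃ₗ[ℤ] W} (he : e ∈ isom Q) (hg : g ∈ isom Q)
    (hfix : ∀ w, g (e w + w) = e w + w) (x : W) : e (g x + x) = g x + x := by
  set d := g x + x with hd
  set a := e d + d with ha
  have hB : polarForm Q d a = 0 := by
    have h1 : polarForm Q (g x) a = polarForm Q x a := by
      conv_lhs => rw [show a = g a from (hfix d).symm]
      exact polar_map hg x a
    rw [hd, polar_add_left h, h1, h.hU]
  have hQ : Q a = 0 := by
    have h1 : e d = d + a := by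
      rw [ha, add_comm (e d) d, ← add_assoc, h.hW, zero_add]
    have h2 : Q (e d) = Q d := he d
    rw [h1, map_add' h, hB, add_zero] at h2
    exact add_left_cancel (a := Q d) (by rw [h2, add_zero])
  exact eq_of_add_eq_zero h (h.aniso _ hQ)

/-- An isometry permuting commuting involutions centralises them. -/
theorem commute_of_normalizes (h : IsAnisoQuad Q) {E : Set (W ≃ₗ[ℤ] W)}
    (hE : ∀ e ∈ E, e ∈ isom Q ∧ e * e = 1) (hcomm : ∀ e ∈ E, ∀ f ∈ E, Commute e f)
    {g : W ≃ₗ[ℤ] W} (hg : g ∈ isom Q) (hnorm : ∀ e ∈ E, g * e * g⁻¹ ∈ E) {e : W ≃ₗ[ℤ] W}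
    (he : e ∈ E) : Commute g e := by
  have hfix := fix_image_of_normalizes h hE hcomm hg hnorm he
  refine DFunLike.ext _ _ fun x => ?_
  show g (e x) = e (g x)
  have h1 := fix_diff h (hE e he).1 hg hfix x
  have h2 := hfix x
  rw [map_add] at h1 h2
  have h3 : g (e x) = e x + x + g x := by
    rw [← h2, add_assoc, h.hW, add_zero]
  have h4 : e (g x) = g x + x + e x := by
    rw [← h1, add_assoc, h.hW, add_zero]
  rw [h3, h4]; abel

/-- An isometry commuting with an involution `u` and trivial on `Fix u` modulo the image of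
`u + 1` is trivial on `Fix u`. -/
theorem fix_kernel (h : IsAnisoQuad Q) {u c : W ≃ₗ[ℤ] W} (hu : u ∈ isom Q) (hc : c ∈ isom Q)
    {d : W} (hd : u d = d) {w : W} (hcd : c d + d = u w + w) : c d = d := by
  have h1 : c d = d + (u w + w) := by
    rw [← hcd, add_comm (c d) d, ← add_assoc, h.hW, zero_add]
  have h2 : Q (c d) = Q d := hc d
  rw [h1, map_add' h, polar_image h hu hd w, add_zero] at h2
  have : u w + w = 0 := h.aniso _ (add_left_cancel (a := Q d) (by rw [h2, add_zero]))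
  rw [h1, this, add_zero]

/-- An isometry trivial on `Fix u` commutes with all isometries centralising `u`. -/
theorem commute_kernel (h : IsAnisoQuad Q) {u g c : W ≃ₗ[ℤ] W} (hu : u ∈ isom Q) (hu2 : u * u = 1)
    (hg : g ∈ isom Q) (hc : c ∈ isom Q) (hgu : Commute u g) (hcu : Commute u c)
    (hcF : ∀ d, u d = d → c d = d) : Commute g c := by
  refine DFunLike.ext _ _ fun x => ?_
  show g (c x) = c (g x)
  have hgd : u (g x + x) = g x + x := fix_diff h hu hg (fix_image h hu hu2 hg hgu) x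
  have hcd : u (c x + x) = c x + x := fix_diff h hu hc (fix_image h hu hu2 hc hcu) x
  set e := c x + x with he
  have hrad : ∀ z, u z = z → polarForm Q e z = 0 := by
    intro z hz
    have h1 : polarForm Q (c x) z = polarForm Q x z := by
      conv_lhs => rw [← hcF z hz]
      exact polar_map hc x z
    rw [he, polar_add_left h, h1, h.hU]
  have hge : u (g e) = g e := by
    have : g (u e) = u (g e) := (DFunLike.congr_fun hgu.eq e).symm
    rw [hcd] at this
    exact this.symm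
  have hfix : g e = e := by
    refine eq_of_add_eq_zero h (h.aniso _ ?_)
    rw [map_add' h, hg, h.hU, zero_add, polar_comm]
    exact hrad _ hge
  have h1 : c (g x) = c x + (g x + x) := by
    have : g x = x + (g x + x) := by
      rw [add_comm (g x) x, ← add_assoc, h.hW, zero_add]
    conv_lhs => rw [this, map_add, hcF _ hgd]
  have h2 : g (c x) = g x + e := by
    have : c x = x + e := by
      rw [he, add_comm (c x) x, ← add_assoc, h.hW, zero_add]
    conv_lhs => rw [this, map_add, hfix]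
  rw [h1, h2, he]; abel

end

theorem finite_equiv (W : Type u) [AddCommGroup W] [Finite W] : Finite (W ≃ₗ[ℤ] W) :=
  Finite.of_injective _ DFunLike.coe_injective

theorem two_group_commute :
    ∀ (n : ℕ) (W : Type u) [AddCommGroup W] [Finite W] (U : Type v) [AddCommGroup U] (Q : W → U),
      Nat.card W ≤ n → IsAnisoQuad Q → ∀ (P : Subgroup (W ≃ₗ[ℤ] W)), IsPGroup 2 P → P ≤ isom Q →
      ∀ h ∈ isom Q, Odd (orderOf h) → (∀ v ∈ P, h * v * h⁻¹ ∈ P) → ∀ v ∈ P, Commute h v := by
  intro n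
  induction n with
  | zero => intro W _ _ U _ Q hn; exact absurd hn (Nat.card_pos (α := W)).not_ge
  | succ n ih =>
  intro W _ _ U _ Q hn hQ P hP hPQ h hh hodd hnorm v hv
  haveI : Fact (Nat.Prime 2) := ⟨Nat.prime_two⟩
  haveI : Finite (W ≃ₗ[ℤ] W) := Finite.of_injective _ DFunLike.coe_injective
  by_cases hv1 : v = 1
  · exact hv1 ▸ Commute.one_right h
  haveI : Nontrivial P := ⟨⟨⟨v, hv⟩, 1, fun e => hv1 (congrArg Subtype.val e)⟩⟩
  -- a central involution
  haveI := hP.center_nontrivial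
  obtain ⟨k, hk0, hk⟩ := (hP.to_subgroup (Subgroup.center P)).nontrivial_iff_card.1 inferInstance
  obtain ⟨⟨⟨u, huP⟩, huZ⟩, huo⟩ := exists_prime_orderOf_dvd_card' (G := Subgroup.center P) 2
    (hk ▸ dvd_pow_self 2 hk0.ne')
  rw [← Subgroup.orderOf_coe, ← Subgroup.orderOf_coe] at huo
  change orderOf u = 2 at huo
  have hu2 : u * u = 1 := by
    rw [← sq, ← huo]; exact pow_orderOf_eq_one u
  have hu1 : u ≠ 1 := fun e => by rw [e, orderOf_one] at huo; omega
  let E : Set (W ≃ₗ[ℤ] W) := {e | e ∈ P ∧ e * e = 1 ∧ ∀ p ∈ P, Commute e p}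
  have huE : u ∈ E := ⟨huP, hu2, fun p hp =>
    (congrArg Subtype.val (Subgroup.mem_center_iff.1 huZ ⟨p, hp⟩)).symm⟩
  have hnorm' : ∀ p ∈ P, h⁻¹ * p * h ∈ P := by
    intro p hp
    haveI : Finite P := inferInstance
    obtain ⟨q, hq⟩ := (Finite.injective_iff_surjective (f := fun q : P =>
      (⟨h * q * h⁻¹, hnorm q q.2⟩ : P))).1 (fun a b e => by
        have e' := congrArg Subtype.val e
        exact Subtype.ext (mul_left_cancel (mul_right_cancel e'))) ⟨p, hp⟩
    have e' : h * (q : W ≃ₗ[ℤ] W) * h⁻¹ = p := congrArg Subtype.val hq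
    rw [← e', show h⁻¹ * (h * (q : W ≃ₗ[ℤ] W) * h⁻¹) * h = q by group]
    exact q.2
  have hEn : ∀ e ∈ E, h * e * h⁻¹ ∈ E := by
    rintro e ⟨h1, h2, h3⟩
    refine ⟨hnorm e h1, by rw [show h * e * h⁻¹ * (h * e * h⁻¹) = h * (e * e) * h⁻¹ by group, h2,
      mul_one, mul_inv_cancel], fun p hp => ?_⟩
    have := h3 _ (hnorm' p hp)
    show h * e * h⁻¹ * p = p * (h * e * h⁻¹)
    calc h * e * h⁻¹ * p = h * (e * (h⁻¹ * p * h)) * h⁻¹ := by group
      _ = h * ((h⁻¹ * p * h) * e) * h⁻¹ := by rw [this.eq]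
      _ = p * (h * e * h⁻¹) := by group
  have hhu : Commute u h := (commute_of_normalizes hQ (fun e he => ⟨hPQ he.1, he.2.1⟩)
    (fun e he f hf => he.2.2 f hf.1) hh hEn huE).symm
  have hPu : ∀ p ∈ P, Commute u p := huE.2.2
  have huQ := hPQ huP
  -- the section `F / Y`
  let φ : W →+ W := u.toAddEquiv.toAddMonoidHom + AddMonoidHom.id W
  have hφ : ∀ x, φ x = u x + x := fun _ => rfl
  let F := φ.ker
  let Y := φ.range
  have hF : ∀ x, x ∈ F ↔ u x = x := fun x =>
    ⟨fun e => eq_of_add_eq_zero hQ e, fun e => by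
      show u x + x = 0
      rw [e, hQ.hW]⟩
  have hYF : Y ≤ F := by
    rintro _ ⟨w, rfl⟩
    exact (hF _).2 (apply_image hu2 w)
  have hYpolar : ∀ x ∈ F, ∀ y ∈ Y, polarForm Q x y = 0 := by
    rintro x hx _ ⟨w, rfl⟩
    exact polar_image hQ huQ ((hF x).1 hx) w
  let S : AddSubgroup U :=
    { carrier := Q '' (Y : Set W)
      zero_mem' := ⟨0, Y.zero_mem, map_zero' hQ⟩
      add_mem' := by
        rintro _ _ ⟨a, ha, rfl⟩ ⟨b, hb, rfl⟩
        exact ⟨a + b, Y.add_mem ha hb, by
          rw [map_add' hQ, hYpolar a (hYF ha) b hb, add_zero]⟩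
      neg_mem' := by
        rintro _ ⟨a, ha, rfl⟩
        exact ⟨a, ha, (neg_eq_of_add_eq_zero_left (hQ.hU _)).symm⟩ }
  let Y' := Y.addSubgroupOf F
  let Q' : F ⧸ Y' → U ⧸ S := Quotient.lift (fun x : F => QuotientAddGroup.mk' S (Q (x : W)))
    (fun a b hab => by
      have hm : -(a : W) + b ∈ Y :=
        AddSubgroup.mem_addSubgroupOf.1 (QuotientAddGroup.leftRel_apply.1 hab : -a + b ∈ Y')
      refine QuotientAddGroup.eq.2 ?_
      have e : (b : W) = a + (-(a : W) + b) := (add_neg_cancel_left _ _).symm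
      show -Q (a : W) + Q (b : W) ∈ S
      rw [e, map_add' hQ, hYpolar _ a.2 _ hm, add_zero, neg_add_cancel_left]
      exact ⟨_, hm, rfl⟩)
  have hQ'mk : ∀ x : F, Q' (QuotientAddGroup.mk' Y' x) = QuotientAddGroup.mk' S (Q (x : W)) :=
    fun x => rfl
  have hQ' : IsAnisoQuad Q' := by
    constructor
    · intro x
      obtain ⟨x, rfl⟩ := QuotientAddGroup.mk'_surjective Y' x
      rw [← map_add, show x + x = 0 from Subtype.ext (hQ.hW _), map_zero]
    · intro x
      obtain ⟨x, rfl⟩ := QuotientAddGroup.mk'_surjective S x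
      rw [← map_add, hQ.hU, map_zero]
    · intro x hx
      obtain ⟨x, rfl⟩ := QuotientAddGroup.mk'_surjective Y' x
      rw [hQ'mk] at hx
      obtain ⟨y, hy, hyx⟩ := (QuotientAddGroup.eq_zero_iff _).1 hx
      refine (QuotientAddGroup.eq_zero_iff _).2 ?_
      show (x : W) ∈ Y
      have : (x : W) = y := eq_of_add_eq_zero hQ (hQ.aniso _ (by
        rw [map_add' hQ, hYpolar _ x.2 _ hy, hyx, hQ.hU, add_zero]))
      rw [this]; exact hy
    · intro x y z
      obtain ⟨x, rfl⟩ := QuotientAddGroup.mk'_surjective Y' x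
      obtain ⟨y, rfl⟩ := QuotientAddGroup.mk'_surjective Y' y
      obtain ⟨z, rfl⟩ := QuotientAddGroup.mk'_surjective Y' z
      simp only [← map_add, hQ'mk, AddSubgroup.coe_add]
      exact congrArg _ (hQ.polar _ _ _)
  -- the induced action
  let C : Subgroup (W ≃ₗ[ℤ] W) := isom Q ⊓ Subgroup.centralizer {u}
  have hC : ∀ g : W ≃ₗ[ℤ] W, g ∈ C ↔ g ∈ isom Q ∧ Commute u g := fun g => by
    simp only [C, Subgroup.mem_inf, Subgroup.mem_centralizer_singleton_iff]
    exact Iff.rfl.and ⟨fun e => e.symm, fun e => e.symm⟩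
  have hCF : ∀ g : C, ∀ x ∈ F, (g : W ≃ₗ[ℤ] W) x ∈ F := fun g x hx => by
    rw [hF] at hx ⊢
    have := DFunLike.congr_fun ((hC g).1 g.2).2.eq x
    show u ((g : W ≃ₗ[ℤ] W) x) = _
    rw [show u ((g : W ≃ₗ[ℤ] W) x) = (g : W ≃ₗ[ℤ] W) (u x) from this, hx]
  let res : C → (F →+ F) := fun g =>
    ((g : W ≃ₗ[ℤ] W).toAddEquiv.toAddMonoidHom.comp F.subtype).codRestrict F fun x => hCF g x x.2
  have hresY : ∀ g : C, Y' ≤ Y'.comap (res g) := by
    intro g x hx
    obtain ⟨w, hw⟩ := (hx : (x : W) ∈ Y)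
    refine ⟨w, ?_⟩
    show u w + w = (g : W ≃ₗ[ℤ] W) (x : W)
    have hw' : (x : W) = u w + w := hw.symm
    rw [hw', fix_image hQ huQ hu2 ((hC g).1 g.2).1 ((hC g).1 g.2).2 w]
  let act : C → (F ⧸ Y' →+ F ⧸ Y') := fun g => QuotientAddGroup.map Y' Y' (res g) (hresY g)
  have hact : ∀ (g : C) (x : F),
      act g (QuotientAddGroup.mk' Y' x) = QuotientAddGroup.mk' Y' (res g x) := fun _ _ => rfl
  have hmul : ∀ (a b : C) (x : F ⧸ Y'), act (a * b) x = act a (act b x) := by
    intro a b x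
    obtain ⟨x, rfl⟩ := QuotientAddGroup.mk'_surjective Y' x
    rfl
  have hone : ∀ x : F ⧸ Y', act 1 x = x := by
    intro x
    obtain ⟨x, rfl⟩ := QuotientAddGroup.mk'_surjective Y' x
    rfl
  let θ : C →* ((F ⧸ Y') ≃ₗ[ℤ] (F ⧸ Y')) :=
    { toFun := fun g => (AddMonoidHom.toAddEquiv (act g) (act g⁻¹)
        (AddMonoidHom.ext fun x => by
          show act g⁻¹ (act g x) = x
          rw [← hmul, inv_mul_cancel, hone])
        (AddMonoidHom.ext fun x => by
          show act g (act g⁻¹ x) = x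
          rw [← hmul, mul_inv_cancel, hone])).toIntLinearEquiv
      map_one' := DFunLike.ext _ _ hone
      map_mul' := fun a b => DFunLike.ext _ _ (hmul a b) }
  have hθ : ∀ g : C, θ g ∈ isom Q' := by
    intro g x
    obtain ⟨x, rfl⟩ := QuotientAddGroup.mk'_surjective Y' x
    show Q' (act g (QuotientAddGroup.mk' Y' x)) = _
    rw [hact, hQ'mk, hQ'mk]
    exact congrArg _ (((hC g).1 g.2).1 (x : W))
  have hlt : Nat.card (F ⧸ Y') ≤ n := by
    obtain ⟨w, hw⟩ : ∃ w, φ w ≠ 0 := by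
      by_contra hall
      push Not at hall
      exact hu1 (DFunLike.ext _ _ fun x => eq_of_add_eq_zero hQ (hall x))
    have h1 : 1 < Nat.card Y' := by
      refine Finite.one_lt_card_iff_nontrivial.2 ⟨⟨⟨⟨φ w, hYF ⟨w, rfl⟩⟩, ⟨w, rfl⟩⟩, 0, fun e => hw ?_⟩⟩
      exact congrArg (fun z : Y' => ((z : F) : W)) e
    have h2 := Y'.card_eq_card_quotient_mul_card_addSubgroup
    have h3 : Nat.card F ≤ Nat.card W := Nat.card_le_card_of_injective _ Subtype.val_injective
    have h4 : 0 < Nat.card (F ⧸ Y') := Nat.card_pos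
    nlinarith
  have hPC : P ≤ C := fun p hp => (hC p).2 ⟨hPQ hp, hPu p hp⟩
  have hhC : h ∈ C := (hC h).2 ⟨hh, hhu⟩
  let ι : P →* ((F ⧸ Y') ≃ₗ[ℤ] (F ⧸ Y')) := θ.comp (Subgroup.inclusion hPC)
  have hcomm' : Commute (θ ⟨h, hhC⟩) (θ ⟨v, hPC hv⟩) := by
    refine ih (F ⧸ Y') (U ⧸ S) Q' hlt hQ' ι.range
      (hP.of_surjective ι.rangeRestrict ι.rangeRestrict_surjective)
      (by rintro _ ⟨p, rfl⟩; exact hθ _) _ (hθ _) ?_ ?_ _ ⟨⟨v, hv⟩, rfl⟩
    · refine hodd.of_dvd_nat ((orderOf_map_dvd θ _).trans (dvd_of_eq ?_))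
      exact (Subgroup.orderOf_coe _).symm
    · rintro _ ⟨p, rfl⟩
      refine ⟨⟨h * p * h⁻¹, hnorm p p.2⟩, ?_⟩
      show θ _ = θ ⟨h, hhC⟩ * θ _ * (θ ⟨h, hhC⟩)⁻¹
      rw [← map_inv, ← map_mul, ← map_mul]
      rfl
  -- the commutator
  set c := h * v * h⁻¹ * v⁻¹ with hc
  have hcP : c ∈ P := P.mul_mem (hnorm v hv) (P.inv_mem hv)
  have hθc : θ ⟨c, hPC hcP⟩ = 1 := by
    have e : (⟨c, hPC hcP⟩ : C) = ⟨h, hhC⟩ * ⟨v, hPC hv⟩ * ⟨h, hhC⟩⁻¹ * ⟨v, hPC hv⟩⁻¹ :=
      Subtype.ext rfl
    rw [e, map_mul, map_mul, map_mul, map_inv, map_inv, hcomm'.eq, mul_inv_cancel_right,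
      mul_inv_cancel]
  have hcF : ∀ d, u d = d → c d = d := by
    intro d hd
    have h1 := DFunLike.congr_fun hθc (QuotientAddGroup.mk' Y' ⟨d, (hF d).2 hd⟩)
    change act ⟨c, hPC hcP⟩ (QuotientAddGroup.mk' Y' ⟨d, (hF d).2 hd⟩) =
      QuotientAddGroup.mk' Y' ⟨d, (hF d).2 hd⟩ at h1
    rw [hact] at h1
    have h2 : -(c d) + d ∈ Y := AddSubgroup.mem_addSubgroupOf.1
      ((QuotientAddGroup.eq (s := Y')).1 h1)
    rw [neg_eq_of_add_eq_zero_left (hQ.hW (c d))] at h2
    obtain ⟨w, hw⟩ := h2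
    exact fix_kernel hQ huQ (hPQ hcP) hd hw.symm
  have hhc : Commute h c := commute_kernel hQ huQ hu2 hh (hPQ hcP) hhu (hPu c hcP) hcF
  have hpow : ∀ j : ℕ, h ^ j * v * (h ^ j)⁻¹ = c ^ j * v := by
    intro j
    induction j with
    | zero => simp
    | succ j ihj =>
      have h1 : h * c ^ j = c ^ j * h := (hhc.pow_right j).eq
      calc h ^ (j + 1) * v * (h ^ (j + 1))⁻¹ = h * (h ^ j * v * (h ^ j)⁻¹) * h⁻¹ := by
            rw [pow_succ']; group
        _ = h * c ^ j * v * h⁻¹ := by rw [ihj]; group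
        _ = c ^ j * (h * v * h⁻¹ * v⁻¹) * v := by rw [h1]; group
        _ = c ^ (j + 1) * v := by rw [← hc, ← pow_succ]
  have hn1 := hpow (orderOf h)
  rw [pow_orderOf_eq_one, one_mul, inv_one, mul_one] at hn1
  have hc1 : c ^ orderOf h = 1 := mul_right_cancel (b := v) (by rw [one_mul, ← hn1])
  obtain ⟨m, hm⟩ := hP ⟨c, hcP⟩
  have hcm : c ^ 2 ^ m = 1 := congrArg Subtype.val hm
  have : c = 1 := orderOf_eq_one_iff.1 (Nat.eq_one_of_dvd_coprimes
    ((Nat.coprime_two_right.2 hodd).pow_right m)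
    (orderOf_dvd_of_pow_eq_one hc1) (orderOf_dvd_of_pow_eq_one hcm))
  show h * v = v * h
  calc h * v = c * (v * h) := by rw [hc]; group
    _ = v * h := by rw [this, one_mul]

/-- Isometry groups of anisotropic quadratic maps are solvable. -/
theorem isSolvable_isom (hFT : ∀ (X : Type u) [Group X] [Finite X], Odd (Nat.card X) → Group.IsSolvable X)
    {W : Type u} [AddCommGroup W] [Finite W] {U : Type v} [AddCommGroup U]
    {Q : W → U} (hQ : IsAnisoQuad Q) : Group.IsSolvable (isom Q) := by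
  haveI : Fact (Nat.Prime 2) := ⟨Nat.prime_two⟩
  haveI := finite_equiv W
  obtain ⟨P⟩ : Nonempty (Sylow 2 (isom Q)) := inferInstance
  obtain ⟨N, hN, hNP⟩ := (Cfsg.Agent.S0071.result P).2 fun R hRP g hg hgo => by
    rw [Subgroup.mem_centralizer_iff]
    intro r hr
    have key := two_group_commute (Nat.card W) W U Q le_rfl hQ (R.map (isom Q).subtype)
      ((P.isPGroup'.to_le hRP).map _) (Subgroup.map_subtype_le R) (g : W ≃ₗ[ℤ] W) g.2
      (by rw [Subgroup.orderOf_coe]; exact Nat.coprime_two_right.1 hgo) ?_ (r : W ≃ₗ[ℤ] W) ⟨r, hr, rfl⟩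
    · exact Subtype.ext key.eq.symm
    · rintro _ ⟨s, hs, rfl⟩
      exact ⟨g * s * g⁻¹, (Subgroup.mem_normalizer_iff.1 hg s).1 hs, rfl⟩
  haveI := hN
  have hodd : Odd (Nat.card N) := by
    have hc : (Nat.card (P : Subgroup (isom Q))).Coprime (P : Subgroup (isom Q)).index := P.card_coprime_index
    rw [hNP.index_eq_card] at hc
    rcases Nat.even_or_odd (Nat.card N) with he | ho
    · exfalso
      obtain ⟨k, hk⟩ := IsPGroup.iff_card.mp P.isPGroup'
      have hdiv : 2 ∣ Nat.card (isom Q) := he.two_dvd.trans (Subgroup.card_subgroup_dvd_card N)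
      have h2P : 2 ∣ Nat.card (P : Subgroup (isom Q)) := P.dvd_card_of_dvd_card hdiv
      have := Nat.eq_one_of_dvd_coprimes hc h2P he.two_dvd
      omega
    · exact ho
  haveI : Group.IsSolvable N := hFT N hodd
  haveI : Group.IsSolvable (isom Q ⧸ N) := by
    haveI : Group.IsNilpotent (isom Q ⧸ N) := by
      refine IsPGroup.isNilpotent (p := 2) ?_
      obtain ⟨k, hk⟩ := IsPGroup.iff_card.mp P.isPGroup'
      refine IsPGroup.of_card (n := k) ?_
      rw [← hk, ← Subgroup.index_eq_card, hNP.symm.index_eq_card]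
    infer_instance
  exact (Group.isSolvable_iff_subgroup_quotient N).mpr ⟨inferInstance, inferInstance⟩

end Cfsg.Agent.AnisoSolvable57
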