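/-
Aschbacher's theorem in prime dimension, part 1: vocabulary for matrix groups acting on column vectors,
transvections, and the fact that no geometric stabiliser contains the special linear group.
-/
import Mathlib
import Cfsg.Prelude.Def_GeometricClasses

set_option autoImplicit false

namespace Cfsg.Agent.AschPrimeBasic

open scoped Matrix
open Cfsg Cfsg.Geo

variable {ι : Type} [Fintype ι] [DecidableEq ι] {F : Type*} [Field F]

/-- the subspace `W` is mapped into itself by every member of `S` -/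
def Inv (S : Subgroup (GL ι F)) (W : Submodule F (ι → F)) : Prop :=
  ∀ g ∈ S, ∀ w ∈ W, (g : Matrix ι ι F) *ᵥ w ∈ W

/-- no proper non-zero invariant subspace -/
def Irred (S : Subgroup (GL ι F)) : Prop := ∀ W, Inv S W → W = ⊥ ∨ W = ⊤

/-- absolutely irreducible -/
def AbsIrred (S : Subgroup (GL ι F)) : Prop := ActsAbsolutelyIrreducibly (matrixSet S)

/-- `N` is normalised by `H` -/
def NormalBy (H N : Subgroup (GL ι F)) : Prop := ∀ h ∈ H, ∀ x ∈ N, h * x * h⁻¹ ∈ N

lemma irred_iff (S : Subgroup (GL ι F)) : ActsIrreducibly (matrixSet S) ↔ Irred S := by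
  unfold ActsIrreducibly Irred Inv matrixSet
  refine forall_congr' fun W => imp_congr ?_ Iff.rfl
  constructor
  · intro h g hg w hw
    simpa using h _ ⟨g, hg, rfl⟩ ⟨w, hw, rfl⟩
  · rintro h s ⟨g, hg, rfl⟩ v ⟨w, hw, rfl⟩
    simpa using h g hg w hw

lemma AbsIrred.irred {S : Subgroup (GL ι F)} (h : AbsIrred S) : Irred S := (irred_iff S).1 h.1

lemma AbsIrred.commutant {S : Subgroup (GL ι F)} (h : AbsIrred S) {M : Matrix ι ι F}
    (hM : ∀ g ∈ S, M * (g : Matrix ι ι F) = (g : Matrix ι ι F) * M) :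
    ∃ c : F, M = c • (1 : Matrix ι ι F) :=
  h.2 M fun _ ⟨g, hg, hs⟩ => hs ▸ hM g hg

lemma AbsIrred.mk' {S : Subgroup (GL ι F)} (h : Irred S)
    (hc : ∀ M : Matrix ι ι F, (∀ g ∈ S, M * (g : Matrix ι ι F) = (g : Matrix ι ι F) * M) →
      ∃ c : F, M = c • (1 : Matrix ι ι F)) : AbsIrred S :=
  ⟨(irred_iff S).2 h, fun M hM => hc M fun g hg => hM _ ⟨g, hg, rfl⟩⟩

lemma inv_iff_le_stabilizer (S : Subgroup (GL ι F)) (W : Submodule F (ι → F)) :
    Inv S W ↔ S ≤ subspaceStabilizer W := by
  constructor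
  · intro h g hg v
    refine ⟨fun hv => h g hg v hv, fun hv => ?_⟩
    have := h g⁻¹ (S.inv_mem hg) _ hv
    simpa [Matrix.mulVec_mulVec, ← Units.val_mul] using this
  · intro h g hg w hw
    exact ((h hg) w).1 hw

lemma inv_bot (S : Subgroup (GL ι F)) : Inv S ⊥ := by
  intro g _ w hw
  simp [(Submodule.mem_bot F).1 hw]

lemma inv_top (S : Subgroup (GL ι F)) : Inv S ⊤ := fun _ _ _ _ => Submodule.mem_top

lemma mulVec_inv_mulVec (g : GL ι F) (v : ι → F) :
    (g : Matrix ι ι F) *ᵥ (((g⁻¹ : GL ι F) : Matrix ι ι F) *ᵥ v) = v := by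
  rw [Matrix.mulVec_mulVec, ← Units.val_mul, mul_inv_cancel, Units.val_one, Matrix.one_mulVec]

lemma inv_mulVec_mulVec (g : GL ι F) (v : ι → F) :
    ((g⁻¹ : GL ι F) : Matrix ι ι F) *ᵥ ((g : Matrix ι ι F) *ᵥ v) = v := by
  rw [Matrix.mulVec_mulVec, ← Units.val_mul, inv_mul_cancel, Units.val_one, Matrix.one_mulVec]

/-- left multiplication on column vectors as a linear equivalence -/
def act (g : GL ι F) : (ι → F) ≃ₗ[F] (ι → F) where
  toFun v := (g : Matrix ι ι F) *ᵥ v
  map_add' u v := Matrix.mulVec_add _ u v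
  map_smul' c v := Matrix.mulVec_smul _ c v
  invFun v := ((g⁻¹ : GL ι F) : Matrix ι ι F) *ᵥ v
  left_inv v := inv_mulVec_mulVec g v
  right_inv v := mulVec_inv_mulVec g v

@[simp] lemma act_apply (g : GL ι F) (v : ι → F) : act g v = (g : Matrix ι ι F) *ᵥ v := rfl

lemma act_mul (g h : GL ι F) (v : ι → F) : act (g * h) v = act g (act h v) := by
  simp [Matrix.mulVec_mulVec]

lemma toLin'_eq_act (g : GL ι F) :
    Matrix.toLin' (g : Matrix ι ι F) = ((act g : (ι → F) ≃ₗ[F] (ι → F)) : (ι → F) →ₗ[F] (ι → F)) := by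
  apply LinearMap.ext
  intro v
  simp

/-! ### transvections -/

/-- the elementary transvection as an element of the general linear group -/
def tv (i j : ι) (hij : i ≠ j) (c : F) : GL ι F where
  val := Matrix.transvection i j c
  inv := Matrix.transvection i j (-c)
  val_inv := by rw [Matrix.transvection_mul_transvection_same i j hij]; simp
  inv_val := by rw [Matrix.transvection_mul_transvection_same i j hij]; simp

@[simp] lemma tv_val (i j : ι) (hij : i ≠ j) (c : F) :
    (tv i j hij c : Matrix ι ι F) = Matrix.transvection i j c := rfl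

lemma tv_inv_val (i j : ι) (hij : i ≠ j) (c : F) :
    (((tv i j hij c)⁻¹ : GL ι F) : Matrix ι ι F) = Matrix.transvection i j (-c) := rfl

lemma mem_sl_iff (g : GL ι F) : g ∈ specialLinear ι F ↔ (g : Matrix ι ι F).det = 1 := by
  simp [specialLinear, MonoidHom.mem_ker, Units.ext_iff]

lemma tv_mem (i j : ι) (hij : i ≠ j) (c : F) : tv i j hij c ∈ specialLinear ι F := by
  rw [mem_sl_iff]
  exact Matrix.det_transvection_of_ne i j hij c

lemma conj_mem_sl (B g : GL ι F) (hg : g ∈ specialLinear ι F) : B * g * B⁻¹ ∈ specialLinear ι F := by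
  rw [mem_sl_iff] at hg ⊢
  rw [Units.val_mul, Units.val_mul, Matrix.det_units_conj, hg]

lemma transvection_mulVec (i j : ι) (c : F) (v : ι → F) :
    Matrix.transvection i j c *ᵥ v = v + Pi.single i (c * v j) := by
  simp [Matrix.transvection, Matrix.add_mulVec, Matrix.single_mulVec]
  rfl

/-! ### scalars -/

lemma scalar_comm {z : GL ι F} (hz : z ∈ scalars ι F) (g : GL ι F) : z * g = g * z := by
  rw [mem_scalars_iff] at hz
  obtain ⟨c, hc⟩ := hz
  apply Units.ext
  simp [hc]

lemma mem_scalars_of_comm [Nonempty ι] {g : GL ι F} {c : F}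
    (h : (g : Matrix ι ι F) = c • (1 : Matrix ι ι F)) : g ∈ scalars ι F := by
  rw [mem_scalars_iff]
  refine ⟨Units.mk0 c ?_, h⟩
  rintro rfl
  have h1 := congrArg Matrix.det h
  rw [zero_smul, Matrix.det_zero] at h1
  exact (Matrix.isUnits_det_units g).ne_zero h1

lemma AbsIrred.scalar_of_comm [Nonempty ι] {S : Subgroup (GL ι F)} (h : AbsIrred S) {g : GL ι F}
    (hg : ∀ s ∈ S, g * s = s * g) : g ∈ scalars ι F := by
  obtain ⟨c, hc⟩ := h.commutant (M := (g : Matrix ι ι F)) fun s hs => by
    simpa using congrArg Units.val (hg s hs)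
  exact mem_scalars_of_comm hc

lemma eq_scalar_of_comm_transvection [Nonempty ι] {M : Matrix ι ι F}
    (h : ∀ i j : ι, i ≠ j → M * Matrix.transvection i j 1 = Matrix.transvection i j 1 * M) :
    ∃ c : F, M = c • (1 : Matrix ι ι F) := by
  obtain ⟨c, hc⟩ := Matrix.mem_range_scalar_of_commute_transvectionStruct (M := M) fun t => by
    have h1 := h t.i t.j t.hij
    simp only [Matrix.transvection, mul_add, add_mul, mul_one, one_mul, add_right_inj] at h1
    have h2 : Matrix.single t.i t.j t.c = t.c • Matrix.single t.i t.j (1 : F) := by simp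
    simp only [Commute, SemiconjBy, Matrix.TransvectionStruct.toMatrix, Matrix.transvection, mul_add,
      add_mul, mul_one, one_mul, h2, Matrix.mul_smul, Matrix.smul_mul, h1]
  exact ⟨c, by rw [← hc]; simp [Matrix.smul_one_eq_diagonal]⟩

/-! ### nothing geometric contains the special linear group -/

lemma sl_irred : Irred (specialLinear ι F) := by
  intro W hW
  by_cases hb : W = ⊥
  · exact Or.inl hb
  obtain ⟨w, hw, hw0⟩ := (Submodule.ne_bot_iff W).1 hb
  obtain ⟨j, hj⟩ := Function.ne_iff.1 hw0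
  have hmem : ∀ i, i ≠ j → (Pi.single i (1 : F) : ι → F) ∈ W := by
    intro i hij
    have h1 := hW _ (tv_mem i j hij (w j)⁻¹) w hw
    rw [tv_val, transvection_mulVec] at h1
    simpa [inv_mul_cancel₀ hj] using W.sub_mem h1 hw
  have hj' : (Pi.single j (1 : F) : ι → F) ∈ W := by
    have hsum : w = ∑ i, w i • (Pi.single i (1 : F) : ι → F) := pi_eq_sum_univ' w
    have h1 : ∑ i ∈ Finset.univ.erase j, w i • (Pi.single i (1 : F) : ι → F) ∈ W :=
      W.sum_mem fun i hi => W.smul_mem _ (hmem i (Finset.ne_of_mem_erase hi))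
    have h2 : w j • (Pi.single j (1 : F) : ι → F) ∈ W := by
      have h3 := W.sub_mem hw h1
      nth_rewrite 1 [hsum] at h3
      rwa [← Finset.add_sum_erase _ _ (Finset.mem_univ j), add_sub_cancel_right] at h3
    simpa [smul_smul, inv_mul_cancel₀ hj] using W.smul_mem (w j)⁻¹ h2
  refine Or.inr (eq_top_iff.2 fun v _ => ?_)
  rw [pi_eq_sum_univ' v]
  refine W.sum_mem fun i _ => W.smul_mem _ ?_
  by_cases hij : i = j
  · exact hij ▸ hj'
  · exact hmem i hij

lemma sl_not_le_subspaceStabilizer (W : Submodule F (ι → F)) (hb : W ≠ ⊥) (ht : W ≠ ⊤) :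
    ¬ specialLinear ι F ≤ subspaceStabilizer W := fun h =>
  (sl_irred W ((inv_iff_le_stabilizer _ _).2 h)).elim hb ht

/-- `K` of dimension at least 2 is a proper subalgebra not stable under conjugation by the special linear group -/
lemma sl_not_le_subalgebraNormalizer (h3 : 3 ≤ Fintype.card ι) (r : ℕ) (hr : 2 ≤ r)
    (K : Subalgebra F (Matrix ι ι F)) (hK : IsFieldSubalgebra r K) :
    ¬ specialLinear ι F ≤ subalgebraNormalizer K := by
  intro hle
  have : Nonempty ι := Fintype.card_pos_iff.1 (by omega)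
  have hsc : ∀ k ∈ K, ∃ c : F, k = c • (1 : Matrix ι ι F) := by
    intro k hk
    refine eq_scalar_of_comm_transvection fun i j hij => ?_
    have h1 : (tv i j hij (1 : F) : Matrix ι ι F) * k *
        (((tv i j hij (1 : F))⁻¹ : GL ι F) : Matrix ι ι F) ∈ K := ((hle (tv_mem i j hij 1)) k).1 hk
    rw [tv_inv_val, tv_val] at h1
    set T := Matrix.transvection i j (1 : F) with hT
    set T' := Matrix.transvection i j (-1 : F) with hT'
    have hTT : T' * T = 1 := by
      rw [hT, hT', Matrix.transvection_mul_transvection_same i j hij]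
      simp
    by_cases hd : T * k * T' - k = 0
    · have h2 := congrArg (· * T) (sub_eq_zero.1 hd)
      simp only [mul_assoc, hTT, mul_one] at h2
      exact h2.symm
    exfalso
    obtain ⟨y, -, hy⟩ := hK.inv _ (K.sub_mem h1 hk) hd
    have hD : (T * k * T' - k).det ≠ 0 := fun h0 => by
      have := congrArg Matrix.det hy
      simp [Matrix.det_mul, h0] at this
    -- two linear conditions on a vector
    let φ : (ι → F) →ₗ[F] F × F :=
      { toFun := fun v => (v j, (k *ᵥ v) j)
        map_add' := fun u v => by simp [Matrix.mulVec_add]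
        map_smul' := fun c v => by simp [Matrix.mulVec_smul] }
    have hlt : Module.finrank F (F × F) < Module.finrank F (ι → F) := by simp; omega
    obtain ⟨v, hv, hv0⟩ := (Submodule.ne_bot_iff _).1 (φ.ker_ne_bot_of_finrank_lt hlt)
    have hvj : v j = 0 := congrArg Prod.fst hv
    have hkvj : (k *ᵥ v) j = 0 := congrArg Prod.snd hv
    refine hD (Matrix.exists_mulVec_eq_zero_iff.1 ⟨v, hv0, ?_⟩)
    rw [Matrix.sub_mulVec, ← Matrix.mulVec_mulVec, ← Matrix.mulVec_mulVec, hT', hT,
      transvection_mulVec, transvection_mulVec]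
    simp [hvj, hkvj]
  have hKb : K = ⊥ := by
    refine eq_bot_iff.2 fun k hk => ?_
    obtain ⟨c, hc⟩ := hsc k hk
    rw [Algebra.mem_bot]
    exact ⟨c, by rw [hc, Algebra.algebraMap_eq_smul_one]⟩
  have h1 := hK.finrank_eq
  rw [hKb, Subalgebra.finrank_bot] at h1
  omega

lemma sl_not_le_lineStabilizer {t : ℕ} (D : Fin t → Submodule F (ι → F))
    (hD : IsMDecomposition 1 D) : ¬ specialLinear ι F ≤ decompositionStabilizer D := by
  intro hle
  -- a vector in each of two members
  let a : Fin t := ⟨0, by have := hD.two_le; omega⟩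
  let b : Fin t := ⟨1, by have := hD.two_le; omega⟩
  have hab : a ≠ b := by simp [a, b, Fin.ext_iff]
  have hne : ∀ i, D i ≠ ⊥ := fun i h => by
    have := hD.finrank_eq i
    rw [h, finrank_bot] at this
    omega
  obtain ⟨x, hx, hx0⟩ := (Submodule.ne_bot_iff _).1 (hne a)
  obtain ⟨y, hy, hy0⟩ := (Submodule.ne_bot_iff _).1 (hne b)
  have hdis : ∀ {i k : Fin t} {v : ι → F}, i ≠ k → v ∈ D i → v ∈ D k → v = 0 := fun h h1 h2 =>
    (Submodule.disjoint_def.1 (hD.indep.pairwiseDisjoint h)) _ h1 h2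
  -- x and y are independent: a coordinate functional
  have hind : LinearIndependent F ![x, y] := by
    rw [LinearIndependent.pair_iff' hx0]
    intro c hc
    exact hy0 (hdis hab (hc ▸ (D a).smul_mem c hx) hy)
  -- functional with φ x = 1, φ y = 0
  obtain ⟨φ, hφx, hφy⟩ : ∃ φ : (ι → F) →ₗ[F] F, φ x = 1 ∧ φ y = 0 := by
    have hnm : x ∉ Submodule.span F {y} := fun h => by
      obtain ⟨c, hc⟩ := Submodule.mem_span_singleton.1 h
      exact hx0 (hdis hab hx (hc ▸ (D b).smul_mem c hy))
    obtain ⟨ψ, hψ⟩ := Submodule.exists_dual_map_eq_bot_of_notMem hnm inferInstance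
    refine ⟨(ψ x)⁻¹ • ψ, by simp [inv_mul_cancel₀ hψ.1], ?_⟩
    have : ψ y ∈ (Submodule.span F {y}).map ψ := ⟨y, Submodule.mem_span_singleton_self y, rfl⟩
    rw [hψ.2, Submodule.mem_bot] at this
    simp [this]
  let M : Matrix ι ι F := 1 + Matrix.vecMulVec y (fun i => φ (Pi.single i 1))
  have hMv : ∀ v, M *ᵥ v = v + φ v • y := by
    intro v
    have h1 : (fun i => φ (Pi.single i 1)) ⬝ᵥ v = φ v := by
      conv_rhs => rw [pi_eq_sum_univ' v]
      simp [dotProduct, mul_comm]
    simp [M, Matrix.add_mulVec, Matrix.vecMulVec_mulVec, h1]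
  have hdet : M.det = 1 := by
    have h1 : (fun i => φ (Pi.single i 1)) ⬝ᵥ y = 0 := by
      have h2 : φ y = ∑ i, y i * φ (Pi.single i 1) := by
        conv_lhs => rw [pi_eq_sum_univ' y]
        simp
      rw [hφy] at h2
      rw [dotProduct, h2]
      simp [mul_comm]
    simp only [M, Matrix.vecMulVec_eq Unit, Matrix.det_one_add_replicateCol_mul_replicateRow, h1]
    simp
  let g : GL ι F := Matrix.GeneralLinearGroup.mkOfDetNeZero M (by rw [hdet]; exact one_ne_zero)
  obtain ⟨σ, hσ⟩ := hle (x := g) ((mem_sl_iff g).2 hdet)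
  have hgx : x + y ∈ D (σ a) := by
    rw [← hσ a]
    refine ⟨x, hx, ?_⟩
    show Matrix.toLin' M x = x + y
    rw [Matrix.toLin'_apply, hMv, hφx, one_smul]
  have hgy : y ∈ D (σ b) := by
    rw [← hσ b]
    refine ⟨y, hy, ?_⟩
    show Matrix.toLin' M y = y
    rw [Matrix.toLin'_apply, hMv, hφy, zero_smul, add_zero]
  -- y lies only in D b
  have hbb : σ b = b := by
    by_contra h
    exact hy0 (hdis h hgy hy)
  have hab' : σ a ≠ b := fun h => hab (σ.injective (h.trans hbb.symm))
  by_cases hca : σ a = a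
  · rw [hca] at hgx
    exact hy0 (hdis hab (by simpa using (D a).sub_mem hgx hx) hy)
  · -- three independent members
    have h3 : x + y ∈ D a ⊔ D b := Submodule.add_mem_sup hx hy
    have hdd : Disjoint (D (σ a)) (D a ⊔ D b) :=
      (hD.indep.disjoint_biSup (x := σ a) (y := {a, b}) (by simp [hca, hab'])).mono_right
        (sup_le (le_biSup D (by simp)) (le_biSup D (by simp)))
    have h4 : x + y = 0 := (Submodule.disjoint_def.1 hdd) _ hgx h3
    exact hx0 (hdis hab hx (by simpa [eq_neg_of_add_eq_zero_left h4] using (D b).neg_mem hy))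

/-- a form whose Gram matrix is `G` is preserved up to scalars by no transvection group -/
lemma sl_not_preserves_gram (h3 : 3 ≤ Fintype.card ι) (σ : F ≃+* F) {G : Matrix ι ι F} (hG : G ≠ 0)
    (h : ∀ g ∈ specialLinear ι F, ∃ c : F,
      (g : Matrix ι ι F)ᵀ * G * (g : Matrix ι ι F).map σ = c • G) : False := by
  apply hG
  ext i l
  by_contra hne
  obtain ⟨j, hji, hjl⟩ : ∃ j, j ≠ i ∧ j ≠ l := by
    have h2 : 0 < ((Finset.univ.erase i).erase l).card := by
      have a1 := Finset.card_erase_of_mem (Finset.mem_univ i)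
      have a2 := Finset.pred_card_le_card_erase (s := Finset.univ.erase i) (a := l)
      simp only [Finset.card_univ] at a1
      omega
    obtain ⟨j, hj⟩ := Finset.card_pos.1 h2
    simp only [Finset.mem_erase] at hj
    exact ⟨j, hj.2.1, hj.1⟩
  obtain ⟨μ, hμ⟩ := h _ (tv_mem i j hji.symm (1 : F))
  have hm : (Matrix.transvection i j (1 : F)).map σ = Matrix.transvection i j (1 : F) := by
    simp [Matrix.transvection, Matrix.map_add, Matrix.map_one, Matrix.map_single]
  rw [tv_val, hm] at hμ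
  have e1 := congrFun (congrFun hμ i) l
  have e2 := congrFun (congrFun hμ j) l
  simp [Matrix.transvection, Matrix.transpose_add, Matrix.transpose_single, add_mul, mul_add,
    hji, hji.symm, hjl, hjl.symm] at e1 e2
  have hμ1 : μ = 1 := mul_right_cancel₀ hne (by rw [one_mul]; exact e1.symm)
  subst hμ1
  simp at e2
  exact hne e2

/-- the glue for maximal subgroups -/
lemma eq_of_maximal {G : Type*} [Group G] {K H M : Subgroup G} (hH : IsMaximalIn K H)
    (hle : H ≤ M) (hK : ¬ K ≤ M) : H = M ⊓ K := by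
  rcases hH.2 (M ⊓ K) (le_inf hle hH.1.le) inf_le_right with h | h
  · exact h.symm
  · exact absurd (inf_eq_right.1 h) hK

end Cfsg.Agent.AschPrimeBasic
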