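/-
Aschbacher's theorem in prime dimension, part 5: forms fixed by absolutely irreducible groups, and subfields.
-/
import Cfsg.Agent.Lib.AschPrimeBasic

set_option autoImplicit false

namespace Cfsg.Agent.AschPrimeForms

open scoped Matrix
open Cfsg Cfsg.Geo Cfsg.Agent.AschPrimeBasic

variable {ι : Type} [Fintype ι] [DecidableEq ι] {F : Type*} [Field F]

/-- `f` is `σ`-sesquilinear -/
structure IsSesq (σ : F ≃+* F) (f : (ι → F) → (ι → F) → F) : Prop where
  add_left : ∀ x y v, f (x + y) v = f x v + f y v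
  smul_left : ∀ (c : F) (x v : ι → F), f (c • x) v = c * f x v
  add_right : ∀ v x y, f v (x + y) = f v x + f v y
  smul_right : ∀ (c : F) (v x : ι → F), f v (c • x) = σ c * f v x

lemma sesq_of_bilinear {f : (ι → F) → (ι → F) → F} (h : IsBilinearForm f) :
    IsSesq (RingEquiv.refl F) f := ⟨h.add_left, h.smul_left, h.add_right, h.smul_right⟩

lemma sesq_of_unitary {σ : F ≃+* F} {f : (ι → F) → (ι → F) → F} (h : IsUnitaryForm σ f) : IsSesq σ f :=
  ⟨h.add_left, h.smul_left,
    fun v x y => by rw [h.herm v (x + y), h.add_left, map_add, ← h.herm, ← h.herm],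
    fun c v x => by rw [h.herm v (c • x), h.smul_left, map_mul, ← h.herm]⟩

lemma IsSesq.eq_gram {σ : F ≃+* F} {f : (ι → F) → (ι → F) → F} (h : IsSesq σ f) (u v : ι → F) :
    f u v = u ⬝ᵥ (gramMatrix f *ᵥ fun i => σ (v i)) := by
  let L : (ι → F) → (ι → F) →+ F := fun w => AddMonoidHom.mk' (f w) (h.add_right w)
  let L' : (ι → F) → (ι → F) →+ F := fun w => AddMonoidHom.mk' (fun x => f x w) (fun x y => h.add_left x y w)
  have h1 : f u v = ∑ a, u a * f (Pi.single a 1) v := by
    have := map_sum (L' v) (fun a => u a • (Pi.single a (1 : F) : ι → F)) Finset.univ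
    rw [← pi_eq_sum_univ' u] at this
    simpa [L', h.smul_left] using this
  have h2 : ∀ a, f (Pi.single a 1) v = ∑ b, σ (v b) * f (Pi.single a 1) (Pi.single b 1) := by
    intro a
    have := map_sum (L (Pi.single a 1)) (fun b => v b • (Pi.single b (1 : F) : ι → F)) Finset.univ
    rw [← pi_eq_sum_univ' v] at this
    simpa [L, h.smul_right] using this
  rw [h1]
  simp only [h2, dotProduct, Matrix.mulVec, gramMatrix]
  exact Finset.sum_congr rfl fun a _ => congrArg _ (Finset.sum_congr rfl fun b _ => mul_comm _ _)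

lemma eq_of_dot {M N : Matrix ι ι F} (σ : F ≃+* F)
    (h : ∀ u v : ι → F, u ⬝ᵥ (M *ᵥ fun i => σ (v i)) = u ⬝ᵥ (N *ᵥ fun i => σ (v i))) : M = N := by
  ext a b
  have := h (Pi.single a 1) (Pi.single b 1)
  have hs : (fun i => σ ((Pi.single b (1 : F) : ι → F) i)) = Pi.single b 1 := by
    ext i
    by_cases hi : i = b <;> simp [hi]
  rw [hs] at this
  simpa [single_dotProduct, Matrix.mulVec_single_one] using this

lemma IsSesq.transform {σ : F ≃+* F} {f : (ι → F) → (ι → F) → F} (h : IsSesq σ f) (g : Matrix ι ι F)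
    (u v : ι → F) :
    f (g *ᵥ u) (g *ᵥ v) = u ⬝ᵥ ((gᵀ * gramMatrix f * g.map σ) *ᵥ fun i => σ (v i)) := by
  rw [h.eq_gram]
  have h1 : (fun i => σ ((g *ᵥ v) i)) = g.map σ *ᵥ fun i => σ (v i) := by
    ext i
    exact RingHom.map_mulVec (σ : F →+* F) g v i
  rw [h1, dotProduct_comm (g *ᵥ u), Matrix.dotProduct_mulVec, ← Matrix.mulVec_transpose, dotProduct_comm]
  simp [Matrix.mulVec_mulVec, mul_assoc]

lemma IsSesq.similar_iff {σ : F ≃+* F} {f : (ι → F) → (ι → F) → F} (h : IsSesq σ f) (g : Matrix ι ι F)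
    (c : F) :
    (∀ u v, f (g *ᵥ u) (g *ᵥ v) = c * f u v) ↔ gᵀ * gramMatrix f * g.map σ = c • gramMatrix f := by
  constructor
  · intro hg
    refine eq_of_dot σ fun u v => ?_
    rw [← h.transform, hg, h.eq_gram u v, Matrix.smul_mulVec, dotProduct_smul, smul_eq_mul]
  · intro hg u v
    rw [h.transform, hg, h.eq_gram u v, Matrix.smul_mulVec, dotProduct_smul, smul_eq_mul]

lemma IsSesq.det_ne_zero {σ : F ≃+* F} {f : (ι → F) → (ι → F) → F} (h : IsSesq σ f)
    (hnd : IsNondegenerateForm f) : (gramMatrix f).det ≠ 0 := by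
  intro h0
  obtain ⟨v, hv0, hv⟩ := Matrix.exists_mulVec_eq_zero_iff.2 h0
  have hw : (fun i => σ.symm (v i)) ≠ 0 := fun h' => hv0 (funext fun i => by
    simpa using congrArg σ (congrFun h' i))
  obtain ⟨x, hx⟩ := (hnd _ hw).1
  rw [h.eq_gram] at hx
  simp [hv] at hx

/-- the map `g ↦ g^σ` on the general linear group -/
def glMap (σ : F ≃+* F) : GL ι F →* GL ι F := Units.map ((σ : F →+* F).mapMatrix.toMonoidHom)

omit [DecidableEq ι] in
lemma map_mul_map (σ : F ≃+* F) (A B : Matrix ι ι F) : (A * B).map σ = A.map σ * B.map σ :=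
  Matrix.map_mul (f := (σ : F →+* F))

lemma glMap_val (σ : F ≃+* F) (g : GL ι F) : (glMap σ g : Matrix ι ι F) = (g : Matrix ι ι F).map σ := rfl

omit [DecidableEq ι] in
lemma map_symm_map (σ : F ≃+* F) (A : Matrix ι ι F) : (A.map σ.symm).map σ = A := by
  ext; simp

omit [DecidableEq ι] in
lemma map_map_symm (σ : F ≃+* F) (A : Matrix ι ι F) : (A.map σ).map σ.symm = A := by
  ext; simp

/-- two Gram matrices fixed by an absolutely irreducible group are proportional -/
lemma gram_unique {S : Subgroup (GL ι F)} (hS : AbsIrred S) (σ : F ≃+* F) {G G' : Matrix ι ι F}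
    (hG : G.det ≠ 0)
    (h1 : ∀ s ∈ S, (s : Matrix ι ι F)ᵀ * G * (s : Matrix ι ι F).map σ = G)
    (h2 : ∀ s ∈ S, (s : Matrix ι ι F)ᵀ * G' * (s : Matrix ι ι F).map σ = G') :
    ∃ c : F, G' = c • G := by
  have hGu : IsUnit G.det := isUnit_iff_ne_zero.2 hG
  obtain ⟨c, hc⟩ := hS.commutant (M := (G⁻¹ * G').map σ.symm) fun s hs => by
    set A := (s : Matrix ι ι F).map σ with hA
    have hAu : IsUnit A.det := Matrix.isUnits_det_units (glMap σ s)
    have key : (G⁻¹ * G') * A = A * (G⁻¹ * G') := by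
      have e1 : (s : Matrix ι ι F)ᵀ = G * A⁻¹ * G⁻¹ := by
        have h1' : (s : Matrix ι ι F)ᵀ * G * A = G := h1 s hs
        have := congrArg (fun X => X * (A⁻¹ * G⁻¹)) h1'
        simp only [← mul_assoc, Matrix.mul_nonsing_inv_cancel_right A _ hAu] at this
        rw [Matrix.mul_nonsing_inv_cancel_right G _ hGu] at this
        exact this
      have e2 := h2 s hs
      rw [e1] at e2
      have e3 := congrArg (fun X => A * (G⁻¹ * X)) e2
      simp only [mul_assoc] at e3
      rw [Matrix.nonsing_inv_mul_cancel_left G _ hGu, Matrix.mul_nonsing_inv_cancel_left A _ hAu] at e3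
      rw [mul_assoc, e3]
    have := congrArg (fun X => X.map σ.symm) key
    simp only [map_mul_map] at this
    rw [hA, map_map_symm] at this
    simpa [map_mul_map] using this
  refine ⟨σ c, ?_⟩
  have h3 : G⁻¹ * G' = σ c • (1 : Matrix ι ι F) := by
    rw [← map_symm_map σ (G⁻¹ * G'), hc]
    ext a b
    by_cases hab : a = b <;> simp [hab]
  rw [← Matrix.mul_nonsing_inv_cancel_left G G' hGu, h3, Matrix.mul_smul, mul_one]

/-- the normaliser of an absolutely irreducible isometry group consists of similarities -/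
lemma similar_of_normal [Nonempty ι] {H S : Subgroup (GL ι F)} (hS : AbsIrred S) (hn : NormalBy H S)
    {σ : F ≃+* F} {f : (ι → F) → (ι → F) → F} (hf : IsSesq σ f) (hnd : IsNondegenerateForm f)
    (hfix : FixesForm (matrixSet S) f) : H ≤ similarityGroup f := by
  intro h hh
  set G := gramMatrix f with hG
  have h1 : ∀ s ∈ S, (s : Matrix ι ι F)ᵀ * G * (s : Matrix ι ι F).map σ = G := fun s hs => by
    have := (hf.similar_iff (s : Matrix ι ι F) 1).1 fun u v => by
      rw [one_mul]; exact hfix _ ⟨s, hs, rfl⟩ u v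
    simpa using this
  set G' := (h : Matrix ι ι F)ᵀ * G * (h : Matrix ι ι F).map σ with hG'
  have h2 : ∀ s ∈ S, (s : Matrix ι ι F)ᵀ * G' * (s : Matrix ι ι F).map σ = G' := by
    intro s hs
    have e : (h : Matrix ι ι F) * (s : Matrix ι ι F) = ((h * s * h⁻¹ : GL ι F) : Matrix ι ι F) * h := by
      simp [mul_assoc]
    calc (s : Matrix ι ι F)ᵀ * G' * (s : Matrix ι ι F).map σ
        = ((h : Matrix ι ι F) * (s : Matrix ι ι F))ᵀ * G * ((h : Matrix ι ι F) * (s : Matrix ι ι F)).map σ := by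
          simp only [hG', Matrix.transpose_mul, map_mul_map, mul_assoc]
      _ = (h : Matrix ι ι F)ᵀ * (((h * s * h⁻¹ : GL ι F) : Matrix ι ι F)ᵀ * G *
            ((h * s * h⁻¹ : GL ι F) : Matrix ι ι F).map σ) * (h : Matrix ι ι F).map σ := by
          rw [e]; simp only [Matrix.transpose_mul, map_mul_map, mul_assoc]
      _ = G' := by rw [h1 _ (hn h hh s hs)]
  obtain ⟨c, hc⟩ := gram_unique hS σ (hf.det_ne_zero hnd) h1 h2
  have hc0 : c ≠ 0 := by
    rintro rfl
    rw [zero_smul, hG'] at hc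
    have := congrArg Matrix.det hc
    rw [Matrix.det_mul, Matrix.det_mul, Matrix.det_transpose, Matrix.det_zero] at this
    have a1 := (Matrix.isUnits_det_units h).ne_zero
    have a2 := (Matrix.isUnits_det_units (glMap σ h)).ne_zero
    rw [glMap_val] at a2
    exact mul_ne_zero (mul_ne_zero a1 (hf.det_ne_zero hnd)) a2 this
  exact ⟨Units.mk0 c hc0, (hf.similar_iff _ c).2 hc⟩

lemma sl_not_le_similarityGroup (h3 : 3 ≤ Fintype.card ι) {σ : F ≃+* F} {f : (ι → F) → (ι → F) → F}
    (hf : IsSesq σ f) (hnd : IsNondegenerateForm f) : ¬ specialLinear ι F ≤ similarityGroup f := by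
  intro hle
  have : Nonempty ι := Fintype.card_pos_iff.1 (by omega)
  refine sl_not_preserves_gram h3 σ (G := gramMatrix f) (fun h => hf.det_ne_zero hnd (by simp [h])) ?_
  intro g hg
  obtain ⟨c, hc⟩ := hle hg
  exact ⟨c, (hf.similar_iff _ _).1 hc⟩

/-- alternating matrices of odd size are singular -/
lemma det_eq_zero_of_alternating (hodd : Odd (Fintype.card ι)) {A : Matrix ι ι F} (hd : ∀ i, A i i = 0)
    (hs : ∀ i j, A j i = - A i j) : A.det = 0 := by
  rw [Matrix.det_apply]
  refine Finset.sum_involution (fun τ _ => τ⁻¹) ?_ ?_ (fun τ _ => Finset.mem_univ _) (fun τ _ => inv_inv τ)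
  · intro τ _
    have h1 : ∏ i, A (τ⁻¹ i) i = - ∏ i, A (τ i) i := by
      rw [← Equiv.prod_comp τ (fun i => A (τ⁻¹ i) i)]
      simp only [Equiv.Perm.inv_def, Equiv.symm_apply_apply]
      rw [Finset.prod_congr rfl (fun i _ => hs (τ i) i), Finset.prod_neg, Finset.card_univ,
        hodd.neg_one_pow, neg_one_mul]
    rw [Equiv.Perm.sign_inv, h1, smul_neg, add_neg_cancel]
  · intro τ _ hne hfix
    by_cases hex : ∃ i, τ i = i
    · obtain ⟨i, hi⟩ := hex
      exact hne (by
        have h0 : ∏ k, A (τ k) k = 0 :=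
          Finset.prod_eq_zero (Finset.mem_univ i) (by rw [hi]; exact hd i)
        rw [h0, smul_zero])
    · push Not at hex
      have hinv : ∀ i, τ (τ i) = i := fun i => by
        calc τ (τ i) = τ⁻¹ (τ i) := by rw [hfix]
          _ = i := by simp
      have : Even (Fintype.card ι) := by
        have h2 : τ.support = Finset.univ := Finset.eq_univ_of_forall fun i =>
          Equiv.Perm.mem_support.2 (hex i)
        have hsq : τ ^ 2 = 1 := by ext i; simp [sq, hinv]
        have := Equiv.Perm.two_dvd_card_support hsq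
        rw [h2, Finset.card_univ] at this
        exact even_iff_two_dvd.2 this
      exact (Nat.not_even_iff_odd.2 hodd) this

lemma no_symplectic (hodd : Odd (Fintype.card ι)) :
    ¬ ∃ f : (ι → F) → (ι → F) → F, IsSymplecticForm f := by
  rintro ⟨f, hf⟩
  exact (sesq_of_bilinear hf.bilinear).det_ne_zero hf.nondegenerate
    (det_eq_zero_of_alternating hodd (fun i => hf.alternating _) (fun i j => hf.skew _ _))

omit [DecidableEq ι] in
lemma polar_self {Q : (ι → F) → F} (hQ : IsNondegenerateQuadraticForm Q) (v : ι → F) :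
    QuadraticMap.polar Q v v = 2 * Q v := by
  have : v + v = (2 : F) • v := (two_smul F v).symm
  rw [QuadraticMap.polar, this, hQ.smul]
  ring

lemma two_ne_zero_of_quad (hodd : Odd (Fintype.card ι)) {Q : (ι → F) → F}
    (hQ : IsNondegenerateQuadraticForm Q) : (2 : F) ≠ 0 := by
  intro h2
  refine (sesq_of_bilinear hQ.polar_bilinear).det_ne_zero hQ.nondegenerate
    (det_eq_zero_of_alternating hodd (fun i => ?_) (fun i j => ?_))
  · show QuadraticMap.polar Q _ _ = 0
    rw [polar_self hQ, h2, zero_mul]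
  · show QuadraticMap.polar Q _ _ = - QuadraticMap.polar Q _ _
    have hneg : ∀ a : F, -a = a := fun a => by linear_combination (-a) * h2
    rw [hneg]
    exact QuadraticMap.polar_comm Q _ _

lemma odd_card_of_two_ne_zero [Fintype F] (h2 : (2 : F) ≠ 0) : Odd (Fintype.card F) := by
  obtain ⟨p, hp⟩ := CharP.exists F
  obtain ⟨e, hpp, he⟩ := FiniteField.card F p
  rw [he]
  refine (hpp.odd_of_ne_two fun hp2 => h2 ?_).pow
  subst hp2
  exact_mod_cast CharP.cast_eq_zero F 2

omit [Fintype ι] [DecidableEq ι] in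
lemma polar_fix {Q : (ι → F) → F} {g : (ι → F) → (ι → F)} (hg : ∀ u v, g (u + v) = g u + g v) (c : F)
    (h : ∀ v, Q (g v) = c * Q v) (u v : ι → F) :
    QuadraticMap.polar Q (g u) (g v) = c * QuadraticMap.polar Q u v := by
  simp only [QuadraticMap.polar, ← hg, h]
  ring

lemma quadSimilarity_eq (h2 : (2 : F) ≠ 0) {Q : (ι → F) → F} (hQ : IsNondegenerateQuadraticForm Q) :
    quadSimilarityGroup Q = similarityGroup (QuadraticMap.polar Q) := by
  ext g
  constructor
  · rintro ⟨c, hc⟩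
    exact ⟨c, polar_fix (fun u v => Matrix.mulVec_add _ u v) (c : F) hc⟩
  · rintro ⟨c, hc⟩
    refine ⟨c, fun v => mul_left_cancel₀ h2 ?_⟩
    rw [← polar_self hQ, hc, polar_self hQ]
    ring

lemma similar_of_normal_quad [Nonempty ι] (hodd : Odd (Fintype.card ι)) {H S : Subgroup (GL ι F)}
    (hS : AbsIrred S) (hn : NormalBy H S) {Q : (ι → F) → F} (hQ : IsNondegenerateQuadraticForm Q)
    (hfix : FixesQuadForm (matrixSet S) Q) : H ≤ quadSimilarityGroup Q := by
  rw [quadSimilarity_eq (two_ne_zero_of_quad hodd hQ) hQ]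
  refine similar_of_normal hS hn (sesq_of_bilinear hQ.polar_bilinear) hQ.nondegenerate fun s hs u v => ?_
  simpa using polar_fix (fun u v => Matrix.mulVec_add s u v) 1 (fun v => by rw [hfix s hs, one_mul]) u v

lemma sl_not_le_quadSimilarityGroup (h3 : 3 ≤ Fintype.card ι) (h2 : (2 : F) ≠ 0) {Q : (ι → F) → F}
    (hQ : IsNondegenerateQuadraticForm Q) : ¬ specialLinear ι F ≤ quadSimilarityGroup Q := by
  rw [quadSimilarity_eq h2 hQ]
  exact sl_not_le_similarityGroup h3 (sesq_of_bilinear hQ.polar_bilinear) hQ.nondegenerate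

/-! ### subfields -/

section Subfields

variable [Fintype F]

/-- the fixed subfield of a field automorphism -/
def fixedField (φ : F ≃+* F) : Subfield F := RingHom.eqLocusField (φ : F →+* F) (RingHom.id F)

omit [Fintype F] in
lemma mem_fixedField {φ : F ≃+* F} {x : F} : x ∈ fixedField φ ↔ φ x = x := Iff.rfl

lemma card_fixedField {q₁ : ℕ} (h1 : 2 ≤ q₁) (hdvd : q₁ - 1 ∣ Fintype.card F - 1) {φ : F ≃+* F}
    (hφ : ∀ x, φ x = x ^ q₁) : Nat.card (fixedField φ) = q₁ := by
  have hk := IsCyclic.card_powMonoidHom_ker Fˣ (q₁ - 1)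
  rw [Nat.card_units, Nat.card_eq_fintype_card (α := F), Nat.gcd_eq_right hdvd] at hk
  have hiff : ∀ x : F, x ≠ 0 → (x ^ q₁ = x ↔ x ^ (q₁ - 1) = 1) := by
    intro x hx
    conv_lhs => rw [show q₁ = (q₁ - 1) + 1 by omega, pow_succ]
    constructor
    · intro h; exact mul_right_cancel₀ hx (by rw [one_mul]; exact h)
    · intro h; rw [h, one_mul]
  let e : (fixedField φ)ˣ ≃ (powMonoidHom (α := Fˣ) (q₁ - 1)).ker :=
    { toFun := fun u => ⟨Units.map (fixedField φ).subtype.toMonoidHom u, by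
        rw [MonoidHom.mem_ker]
        apply Units.ext
        have hx : ((u : fixedField φ) : F) ≠ 0 := fun h => u.ne_zero (Subtype.ext h)
        have h' := mem_fixedField.1 (u : fixedField φ).2
        rw [hφ] at h'
        simpa using (hiff _ hx).1 h'⟩
      invFun := fun v => Units.mk0 ⟨((v : Fˣ) : F), by
          rw [mem_fixedField, hφ, hiff _ (v : Fˣ).ne_zero]
          simpa using congrArg Units.val (MonoidHom.mem_ker.1 v.2)⟩
        (fun h => (v : Fˣ).ne_zero (congrArg Subtype.val h))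
      left_inv := fun u => Units.ext (Subtype.ext rfl)
      right_inv := fun v => Subtype.ext (Units.ext rfl) }
  have h2 := Nat.card_congr e
  rw [hk, Nat.card_units] at h2
  omega

/-- a maximal subfield containing all fixed points of the `p^d`-power map -/
lemma exists_maximal_subfield {p e d : ℕ} [hp : Fact p.Prime] [CharP F p] (hcard : Fintype.card F = p ^ e)
    (hde : d ∣ e) (hd : d < e) :
    ∃ (φ : F ≃+* F) (r : ℕ), r.Prime ∧ Fintype.card F = Nat.card (fixedField φ) ^ r ∧
      ∀ x : F, x ^ p ^ d = x → φ x = x := by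
  obtain ⟨k, rfl⟩ := hde
  have hk : 1 < k := by
    by_contra h
    interval_cases k <;> simp_all
  obtain ⟨r, hr, hrk⟩ := Nat.exists_prime_and_dvd hk.ne'
  obtain ⟨j, rfl⟩ := hrk
  have hd0 : 0 < d := by
    rcases Nat.eq_zero_or_pos d with h | h
    · subst h; simp at hd
    · exact h
  have hj : 0 < j := by
    rcases Nat.eq_zero_or_pos j with h | h
    · subst h; simp at hk
    · exact h
  let φ := iterateFrobeniusEquiv F p (d * j)
  have hφ : ∀ x, φ x = x ^ p ^ (d * j) := fun x => iterateFrobeniusEquiv_def F p (d * j) x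
  refine ⟨φ, r, hr, ?_, ?_⟩
  · rw [card_fixedField (Nat.one_lt_pow (Nat.mul_pos hd0 hj).ne' hp.out.one_lt) ?_ hφ, hcard, ← pow_mul]
    · ring_nf
    · rw [hcard]
      exact Nat.pow_sub_one_dvd_pow_sub_one _ ⟨r, by ring⟩
  · intro x hx
    rw [hφ]
    clear φ hφ hj hk hd hcard
    induction j with
    | zero => simp
    | succ j ih => rw [Nat.mul_succ, pow_add, pow_mul, ih, hx]

/-- an element is in a subfield group as soon as a multiple of it is fixed by the field automorphism -/
lemma mem_subfieldSubgroup [Nonempty ι] {φ : F ≃+* F} {B h : GL ι F} {c : F}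
    (hc : ((B * h * B⁻¹ : GL ι F) : Matrix ι ι F).map φ = c • ((B * h * B⁻¹ : GL ι F) : Matrix ι ι F)) :
    h ∈ subfieldSubgroup (fixedField φ) B⁻¹ := by
  set h' : GL ι F := B * h * B⁻¹ with hh'
  obtain ⟨i, j, hij⟩ : ∃ i j, (h' : Matrix ι ι F) i j ≠ 0 := by
    by_contra hall
    push Not at hall
    exact h'.ne_zero (Matrix.ext hall)
  set a := (h' : Matrix ι ι F) i j with ha
  let M : Matrix ι ι (fixedField φ) := fun k l => ⟨a⁻¹ * (h' : Matrix ι ι F) k l, by
    have e1 : φ ((h' : Matrix ι ι F) k l) = c * (h' : Matrix ι ι F) k l := congrFun (congrFun hc k) l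
    have e2 : φ a = c * a := congrFun (congrFun hc i) j
    have hc0 : c ≠ 0 := fun h0 => by
      rw [h0, zero_mul] at e2
      exact hij (by simpa using e2)
    rw [mem_fixedField, map_mul, map_inv₀, e1, e2]
    field_simp⟩
  have hM : (fixedField φ).subtype.mapMatrix M = a⁻¹ • (h' : Matrix ι ι F) := by
    ext k l; rfl
  have hMdet : M.det ≠ 0 := by
    intro h0
    have h1 := RingHom.map_det (fixedField φ).subtype M
    rw [h0, map_zero, hM, Matrix.det_smul] at h1
    exact mul_ne_zero (pow_ne_zero _ (inv_ne_zero hij)) (Matrix.isUnits_det_units h').ne_zero h1.symm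
  let g₀ := Matrix.GeneralLinearGroup.mkOfDetNeZero M hMdet
  let z : GL ι F := Units.map (Matrix.scalar ι : F →+* Matrix ι ι F).toMonoidHom (Units.mk0 a hij)
  refine ⟨h', ?_, by simp [hh', mul_assoc]⟩
  have he : h' = z * Matrix.GeneralLinearGroup.map ((fixedField φ).subtype) g₀ := by
    apply Units.ext
    show _ = Matrix.scalar ι a * (fixedField φ).subtype.mapMatrix M
    rw [hM]
    simp [Matrix.scalar_apply, ← Matrix.smul_one_eq_diagonal, smul_smul, mul_inv_cancel₀ hij, inv_mul_cancel₀ hij]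
  rw [he]
  exact Subgroup.mul_mem _ (Subgroup.mem_sup_right ⟨_, rfl⟩) (Subgroup.mem_sup_left ⟨g₀, rfl⟩)

/-- a group normalising an absolutely irreducible group realised over a subfield lies in a subfield group -/
lemma le_subfieldSubgroup [Nonempty ι] {H S : Subgroup (GL ι F)} (hS : AbsIrred S) (hn : NormalBy H S)
    {φ : F ≃+* F} {B : GL ι F}
    (hfix : ∀ s ∈ S, ∀ i j, φ (((B * s * B⁻¹ : GL ι F) : Matrix ι ι F) i j) =
      ((B * s * B⁻¹ : GL ι F) : Matrix ι ι F) i j) :
    H ≤ subfieldSubgroup (fixedField φ) B⁻¹ := by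
  intro h hh
  have hf : ∀ s ∈ S, glMap φ (B * s * B⁻¹) = B * s * B⁻¹ := fun s hs =>
    Units.ext (Matrix.ext fun i j => hfix s hs i j)
  set h' : GL ι F := B * h * B⁻¹ with hh'
  have hcomm : ∀ s ∈ S, (B⁻¹ * (h'⁻¹ * glMap φ h') * B) * s = s * (B⁻¹ * (h'⁻¹ * glMap φ h') * B) := by
    intro s hs
    have e1 : h' * (B * s * B⁻¹) * h'⁻¹ = B * (h * s * h⁻¹) * B⁻¹ := by rw [hh']; group
    have e2 : glMap φ h' * (B * s * B⁻¹) * (glMap φ h')⁻¹ = h' * (B * s * B⁻¹) * h'⁻¹ := by
      rw [e1]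
      conv_lhs => rw [← hf s hs, ← map_inv, ← map_mul, ← map_mul, e1, hf _ (hn h hh s hs)]
    calc (B⁻¹ * (h'⁻¹ * glMap φ h') * B) * s
        = B⁻¹ * h'⁻¹ * (glMap φ h' * (B * s * B⁻¹) * (glMap φ h')⁻¹) * glMap φ h' * B := by group
      _ = s * (B⁻¹ * (h'⁻¹ * glMap φ h') * B) := by rw [e2]; group
  obtain ⟨c, hc⟩ := (mem_scalars_iff _).1 (hS.scalar_of_comm hcomm)
  apply mem_subfieldSubgroup (c := (c : F))
  have h1 : glMap φ h' = h' * B * (B⁻¹ * (h'⁻¹ * glMap φ h') * B) * B⁻¹ := by group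
  have h2 := congrArg Units.val h1
  rw [glMap_val, Units.val_mul (h' * B * _), Units.val_mul (h' * B), hc] at h2
  rw [← hh', h2, Matrix.mul_smul, mul_one, Units.val_mul, Matrix.smul_mul, mul_assoc, ← Units.val_mul B,
    mul_inv_cancel, Units.val_one, mul_one]

lemma sl_not_le_subfieldSubgroup (h2 : 2 ≤ Fintype.card ι) {F₀ : Subfield F} (hF₀ : F₀ ≠ ⊤) (P : GL ι F) :
    ¬ specialLinear ι F ≤ subfieldSubgroup F₀ P := by
  intro hle
  have : Nonempty ι := Fintype.card_pos_iff.1 (by omega)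
  obtain ⟨c, hc⟩ : ∃ c, c ∉ F₀ := by
    by_contra h
    push Not at h
    exact hF₀ (eq_top_iff.2 fun x _ => h x)
  obtain ⟨i, j, hij⟩ := Fintype.exists_pair_of_one_lt_card (α := ι) (by omega)
  have h1 := hle (conj_mem_sl P _ (tv_mem i j hij c))
  obtain ⟨g, hg, hgP⟩ := h1
  have hgt : g = tv i j hij c := by
    simpa [mul_assoc] using hgP
  subst hgt
  have : (scalars ι F).Normal := scalars_normal
  obtain ⟨a, ⟨g₀, rfl⟩, z, hz, he⟩ := Subgroup.mem_sup_of_normal_right.1 hg
  obtain ⟨l, hl⟩ := (mem_scalars_iff z).1 hz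
  have h2 := congrArg Units.val he
  rw [Units.val_mul, hl, Matrix.mul_smul, mul_one, tv_val] at h2
  have e1 := congrFun (congrFun h2 j) j
  have e2 := congrFun (congrFun h2 i) j
  simp [Matrix.transvection, hij, hij.symm] at e1 e2
  apply hc
  have hl' : (l : F) ∈ F₀ := by
    rw [eq_inv_of_mul_eq_one_left e1]
    exact F₀.inv_mem (SetLike.coe_mem _)
  rw [← e2]
  exact F₀.mul_mem hl' (SetLike.coe_mem _)

omit [Fintype F] in
lemma card_eq_pow_ne_top [Fintype F] {F₀ : Subfield F} {r : ℕ} (hr : r.Prime)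
    (h : Fintype.card F = Nat.card F₀ ^ r) : F₀ ≠ ⊤ := by
  rintro rfl
  have h1 : Nat.card (⊤ : Subfield F) = Fintype.card F := by
    rw [← Nat.card_eq_fintype_card]
    exact Nat.card_congr (Equiv.subtypeUnivEquiv fun x => Subfield.mem_top x)
  rw [h1] at h
  have := Nat.pow_lt_pow_right (Fintype.one_lt_card (α := F)) hr.one_lt
  rw [pow_one, ← h] at this
  exact lt_irrefl _ this

/-- enlarge a field of definition to a maximal subfield -/
lemma exists_maximal_above {F₀ : Subfield F} (hF₀ : F₀ ≠ ⊤) :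
    ∃ (φ : F ≃+* F) (r : ℕ), r.Prime ∧ Fintype.card F = Nat.card (fixedField φ) ^ r ∧
      ∀ x ∈ F₀, φ x = x := by
  classical
  obtain ⟨p, hp⟩ := CharP.exists F
  obtain ⟨e, hpp, he⟩ := FiniteField.card F p
  haveI := Fact.mk hpp
  haveI : CharP F₀ p := (CharP.subring F p F₀.toSubring)
  obtain ⟨d, -, hd⟩ := FiniteField.card F₀ p
  have hk := Module.card_eq_pow_finrank (K := F₀) (V := F)
  rw [he, hd, ← pow_mul] at hk
  have hek : (e : ℕ) = d * Module.finrank F₀ F := Nat.pow_right_injective hpp.two_le hk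
  have hlt : (d : ℕ) < e := by
    refine lt_of_le_of_ne (Nat.le_of_dvd e.pos ⟨_, hek⟩) fun h => hF₀ ?_
    have h1 : Fintype.card F₀ = Fintype.card F := by rw [hd, he, h]
    have hbij := (Fintype.bijective_iff_injective_and_card (Subtype.val : F₀ → F)).2
      ⟨Subtype.val_injective, h1⟩
    refine eq_top_iff.2 fun x _ => ?_
    obtain ⟨y, rfl⟩ := hbij.2 x
    exact y.2
  obtain ⟨φ, r, hr, hcard, hfix⟩ := exists_maximal_subfield (F := F) he ⟨_, hek⟩ hlt
  refine ⟨φ, r, hr, hcard, fun x hx => hfix x ?_⟩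
  have := FiniteField.pow_card (K := F₀) ⟨x, hx⟩
  rw [hd] at this
  exact congrArg Subtype.val this

end Subfields

end Cfsg.Agent.AschPrimeForms
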