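/-
Aschbacher's theorem, linear case in arbitrary dimension, part 1: subalgebras of the matrix algebra normalised
by an irreducible group, via the Jacobson radical, idempotents, and Wedderburn.
-/
import Cfsg.Agent.Lib.AschPrimeBasic
import Cfsg.Agent.Lib.AschPrimeForms

set_option autoImplicit false

namespace Cfsg.Agent.AschGenAlgebra

open scoped Matrix
open Cfsg Cfsg.Geo Cfsg.Agent.AschPrimeBasic

variable {ι : Type} [Fintype ι] [DecidableEq ι] {F : Type*} [Field F]

/-- the subalgebra `C` is normalised by `H` -/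
def AlgNorm (H : Subgroup (GL ι F)) (C : Subalgebra F (Matrix ι ι F)) : Prop :=
  ∀ h ∈ H, ∀ c ∈ C, (h : Matrix ι ι F) * c * ((h⁻¹ : GL ι F) : Matrix ι ι F) ∈ C

/-- conjugation by `h` as an algebra automorphism -/
def conjAlg (h : GL ι F) : Matrix ι ι F ≃ₐ[F] Matrix ι ι F where
  toFun c := (h : Matrix ι ι F) * c * ((h⁻¹ : GL ι F) : Matrix ι ι F)
  invFun c := ((h⁻¹ : GL ι F) : Matrix ι ι F) * c * (h : Matrix ι ι F)
  left_inv c := by simp [mul_assoc]
  right_inv c := by simp [mul_assoc]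
  map_mul' a b := by simp [mul_assoc]
  map_add' a b := by simp [mul_add, add_mul]
  commutes' r := by
    rw [← Algebra.commutes r (h : Matrix ι ι F), mul_assoc, ← Units.val_mul, mul_inv_cancel, Units.val_one,
      mul_one]

@[simp] lemma conjAlg_apply (h : GL ι F) (c : Matrix ι ι F) :
    conjAlg h c = (h : Matrix ι ι F) * c * ((h⁻¹ : GL ι F) : Matrix ι ι F) := rfl

lemma conjAlg_mul (g h : GL ι F) (c : Matrix ι ι F) : conjAlg (g * h) c = conjAlg g (conjAlg h c) := by
  simp [mul_assoc]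

lemma AlgNorm.map_eq {H : Subgroup (GL ι F)} {C : Subalgebra F (Matrix ι ι F)} (hC : AlgNorm H C)
    {h : GL ι F} (hh : h ∈ H) : C.map (conjAlg h).toAlgHom = C := by
  refine le_antisymm ?_ fun c hc => ?_
  · rintro _ ⟨c, hc, rfl⟩
    exact hC h hh c hc
  · refine ⟨_, hC h⁻¹ (H.inv_mem hh) c hc, ?_⟩
    show conjAlg h (conjAlg h⁻¹ c) = c
    rw [← conjAlg_mul, mul_inv_cancel]
    simp

/-- conjugation by `h` restricted to a normalised subalgebra -/
noncomputable def restr {H : Subgroup (GL ι F)} {C : Subalgebra F (Matrix ι ι F)} (hC : AlgNorm H C)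
    {h : GL ι F} (hh : h ∈ H) : C ≃ₐ[F] C :=
  ((conjAlg h).subalgebraMap C).trans (Subalgebra.equivOfEq _ _ (hC.map_eq hh))

@[simp] lemma restr_val {H : Subgroup (GL ι F)} {C : Subalgebra F (Matrix ι ι F)} (hC : AlgNorm H C)
    {h : GL ι F} (hh : h ∈ H) (c : C) :
    (restr hC hh c : Matrix ι ι F) = (h : Matrix ι ι F) * c * ((h⁻¹ : GL ι F) : Matrix ι ι F) := rfl

lemma AlgNorm.centralizer {H : Subgroup (GL ι F)} {S : Set (Matrix ι ι F)}
    (hS : ∀ h ∈ H, ∀ s ∈ S, (h : Matrix ι ι F) * s * ((h⁻¹ : GL ι F) : Matrix ι ι F) ∈ S) :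
    AlgNorm H (Subalgebra.centralizer F S) := by
  intro h hh c hc
  rw [Subalgebra.mem_centralizer_iff] at hc ⊢
  intro s hs
  have h1 := hc _ (hS h⁻¹ (H.inv_mem hh) s hs)
  have h2 := congrArg (conjAlg h) h1
  rw [map_mul (conjAlg h) _ c, map_mul (conjAlg h) c] at h2
  have e : conjAlg h (conjAlg h⁻¹ s) = s := by
    rw [← conjAlg_mul, mul_inv_cancel]; simp
  rw [conjAlg_apply h⁻¹] at e
  rw [e] at h2
  exact h2

/-! ### the radical -/

/-- the span of all images of the members of `J` -/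
def imageSpan {C : Subalgebra F (Matrix ι ι F)} (J : Ideal C) : Submodule F (ι → F) :=
  Submodule.span F {w | ∃ x ∈ J, ∃ v : ι → F, w = (x : Matrix ι ι F) *ᵥ v}

lemma imageSpan_ne_top [Nonempty ι] {C : Subalgebra F (Matrix ι ι F)} (J : Ideal C) [J.IsTwoSided] (hJ : IsNilpotent J) :
    imageSpan J ≠ ⊤ := by
  intro htop
  obtain ⟨s, hs⟩ := hJ
  have key : ∀ i : ℕ, Submodule.span F {w | ∃ x ∈ J ^ i, ∃ v : ι → F, w = (x : Matrix ι ι F) *ᵥ v} = ⊤ := by
    intro i
    induction i with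
    | zero =>
      refine eq_top_iff.2 fun v _ => Submodule.subset_span ⟨1, ?_, v, ?_⟩
      · rw [Submodule.pow_zero, Ideal.one_eq_top]; exact Submodule.mem_top
      · rw [OneMemClass.coe_one, Matrix.one_mulVec]
    | succ i ih =>
      refine eq_top_iff.2 ?_
      rw [← htop, imageSpan, Submodule.span_le]
      rintro w ⟨x, hx, v, rfl⟩
      have hv : v ∈ Submodule.span F {w | ∃ y ∈ J ^ i, ∃ v : ι → F, w = (y : Matrix ι ι F) *ᵥ v} :=
        ih ▸ Submodule.mem_top
      have h1 : (x : Matrix ι ι F) *ᵥ v ∈ (Submodule.span F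
          {w | ∃ y ∈ J ^ i, ∃ v : ι → F, w = (y : Matrix ι ι F) *ᵥ v}).map
            (Matrix.toLin' (x : Matrix ι ι F)) := ⟨v, hv, by simp⟩
      rw [Submodule.map_span] at h1
      refine Submodule.span_mono ?_ h1
      rintro _ ⟨_, ⟨y, hy, u, rfl⟩, rfl⟩
      refine ⟨x * y, ?_, u, by simp [Matrix.mulVec_mulVec]⟩
      rw [Ideal.IsTwoSided.pow_succ]
      exact Ideal.mul_mem_mul hx hy
  have := key s
  rw [hs] at this
  have h0 : ({w | ∃ x ∈ (0 : Ideal C), ∃ v : ι → F, w = (x : Matrix ι ι F) *ᵥ v} : Set (ι → F)) ⊆ {0} := by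
    rintro w ⟨x, hx, v, rfl⟩
    rw [Ideal.zero_eq_bot, Submodule.mem_bot] at hx
    simp [hx]
  have h1 := Submodule.span_mono (R := F) h0
  rw [this, Submodule.span_zero_singleton] at h1
  have h2 : (fun _ => (1 : F)) ∈ (⊥ : Submodule F (ι → F)) := h1 Submodule.mem_top
  exact one_ne_zero (congrFun ((Submodule.mem_bot F).1 h2) (Classical.arbitrary ι))

/-- a subalgebra whose radical image is forced to be trivial or everything is semisimple -/
theorem semisimple_of [Nonempty ι] (C : Subalgebra F (Matrix ι ι F))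
    (h : imageSpan (Ring.jacobson C) = ⊥ ∨ imageSpan (Ring.jacobson C) = ⊤) : IsSemisimpleRing C := by
  haveI : IsArtinianRing C := isArtinian_of_tower F inferInstance
  rw [IsArtinianRing.isSemisimpleRing_iff_jacobson]
  rcases h with h | h
  · refine (Submodule.eq_bot_iff _).2 fun x hx => Subtype.ext ?_
    apply Matrix.ext
    intro i j
    have h1 : (x : Matrix ι ι F) *ᵥ Pi.single j 1 ∈ imageSpan (Ring.jacobson C) :=
      Submodule.subset_span ⟨x, hx, _, rfl⟩
    rw [h, Submodule.mem_bot] at h1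
    simpa [Matrix.mulVec_single_one] using congrFun h1 i
  · exact absurd h (imageSpan_ne_top _ (Ideal.jacobson_bot (R := C) ▸ IsArtinianRing.isNilpotent_jacobson_bot))

/-- a normalised subalgebra of an irreducible group is semisimple -/
theorem semisimple_of_norm [Nonempty ι] {H : Subgroup (GL ι F)} (hH : Irred H)
    {C : Subalgebra F (Matrix ι ι F)} (hC : AlgNorm H C) : IsSemisimpleRing C := by
  refine semisimple_of C (hH _ ?_)
  intro g hg w hw
  have h1 : (g : Matrix ι ι F) *ᵥ w ∈ (imageSpan (Ring.jacobson C)).map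
      (Matrix.toLin' (g : Matrix ι ι F)) := ⟨w, hw, by simp⟩
  rw [imageSpan, Submodule.map_span] at h1
  refine Submodule.span_mono ?_ h1
  rintro _ ⟨_, ⟨x, hx, v, rfl⟩, rfl⟩
  haveI : RingHomSurjective (restr hC hg).toRingEquiv.toRingHom :=
    ⟨(restr hC hg).toRingEquiv.surjective⟩
  refine ⟨restr hC hg x, Ring.le_comap_jacobson (f := (restr hC hg).toRingEquiv.toRingHom) hx,
    (g : Matrix ι ι F) *ᵥ v, ?_⟩
  simp [Matrix.mulVec_mulVec, mul_assoc]

/-- a subalgebra commuting with enough matrices to act irreducibly together with them is semisimple -/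
theorem semisimple_of_comm [Nonempty ι] {S : Set (GL ι F)} {C : Subalgebra F (Matrix ι ι F)}
    (hirr : ∀ W : Submodule F (ι → F), (∀ g ∈ S, ∀ w ∈ W, (g : Matrix ι ι F) *ᵥ w ∈ W) → W = ⊥ ∨ W = ⊤)
    (hS : ∀ g ∈ S, (g : Matrix ι ι F) ∈ C ∨ ∀ c ∈ C, (g : Matrix ι ι F) * c = c * (g : Matrix ι ι F)) :
    IsSemisimpleRing C := by
  refine semisimple_of C (hirr _ ?_)
  intro g hg w hw
  have h1 : (g : Matrix ι ι F) *ᵥ w ∈ (imageSpan (Ring.jacobson C)).map
      (Matrix.toLin' (g : Matrix ι ι F)) := ⟨w, hw, by simp⟩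
  rw [imageSpan, Submodule.map_span] at h1
  refine Submodule.span_mono ?_ h1
  rintro _ ⟨_, ⟨x, hx, v, rfl⟩, rfl⟩
  rcases hS g hg with h | h
  · exact ⟨⟨_, h⟩ * x, (Ring.jacobson C).mul_mem_left _ hx, v, by simp [Matrix.mulVec_mulVec]⟩
  · refine ⟨x, hx, (g : Matrix ι ι F) *ᵥ v, ?_⟩
    simp [Matrix.mulVec_mulVec, h _ x.2]

/-! ### Wedderburn -/

/-- a semisimple subalgebra with scalar centre is a full matrix algebra -/
theorem exists_matrix_equiv [Finite F] [Nonempty ι] (C : Subalgebra F (Matrix ι ι F)) (hss : IsSemisimpleRing C)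
    (hcent : ∀ x ∈ C, (∀ y ∈ C, x * y = y * x) → ∃ c : F, x = c • (1 : Matrix ι ι F)) :
    ∃ k : ℕ, 0 < k ∧ Nonempty (Matrix (Fin k) (Fin k) F ≃ₐ[F] C) := by
  classical
  haveI := hss
  obtain ⟨m, D, d, iD, aD, fD, hd, ⟨e⟩⟩ := IsSemisimpleRing.exists_algEquiv_pi_matrix_divisionRing_finite F C
  letI := iD
  letI := aD
  haveI : ∀ i, Module.Finite F (D i) := fD
  haveI : ∀ i, Finite (D i) := fun i => Module.finite_of_finite F
  haveI := hd
  have hcentral : ∀ z : Π i, Matrix (Fin (d i)) (Fin (d i)) (D i), (∀ w, z * w = w * z) →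
      ∃ c : F, z = algebraMap F _ c := by
    intro z hz
    obtain ⟨c, hc⟩ := hcent (e.symm z : C) (e.symm z).2 fun y hy => by
      have := congrArg e.symm (hz (e ⟨y, hy⟩))
      simp only [map_mul, AlgEquiv.symm_apply_apply] at this
      exact congrArg Subtype.val this
    refine ⟨c, e.symm.injective ?_⟩
    rw [AlgEquiv.commutes]
    exact Subtype.ext (by rw [hc, Subalgebra.coe_algebraMap, Algebra.algebraMap_eq_smul_one])
  haveI : Nontrivial C := ⟨0, 1, fun h => zero_ne_one (congrArg Subtype.val h : (0 : Matrix ι ι F) = 1)⟩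
  have hm : 0 < m := by
    rcases Nat.eq_zero_or_pos m with rfl | h
    · exact absurd (e.injective (Subsingleton.elim (e 0) (e 1))) zero_ne_one
    · exact h
  have hm1 : m = 1 := by
    by_contra hne
    let a : Fin m := ⟨0, hm⟩
    let b : Fin m := ⟨1, by omega⟩
    have hab : a ≠ b := by simp [a, b, Fin.ext_iff]
    obtain ⟨c, hc⟩ := hcentral (Pi.single a 1) fun w => by
      funext i
      by_cases hi : i = a
      · subst hi; simp
      · simp [hi]
    have h1 := congrFun hc a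
    have h2 := congrFun hc b
    simp only [Pi.single_eq_same, Pi.algebraMap_apply, Pi.single_eq_of_ne hab.symm] at h1 h2
    have hc0 : c = 0 := (map_eq_zero_iff _ (algebraMap F (Matrix (Fin (d b)) (Fin (d b)) (D b))).injective).1 h2.symm
    rw [hc0, map_zero] at h1
    exact one_ne_zero h1
  subst hm1
  letI : Field (D 0) := littleWedderburn (D 0)
  have hsurj : Function.Surjective (algebraMap F (D 0)) := by
    intro x
    obtain ⟨c, hc⟩ := hcentral (Function.update (fun i => (0 : Matrix (Fin (d i)) (Fin (d i)) (D i))) 0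
      (Matrix.scalar (Fin (d 0)) x)) fun w => by
      funext i
      obtain rfl : i = 0 := Subsingleton.elim _ _
      simp only [Pi.mul_apply, Function.update_self]
      exact (Matrix.scalar_commute x (fun r => mul_comm x r) (w 0)).eq
    have h1 := congrFun hc 0
    simp only [Function.update_self, Pi.algebraMap_apply] at h1
    have h2 := congrFun (congrFun h1 0) 0
    simp [Matrix.algebraMap_matrix_apply] at h2
    exact ⟨c, h2.symm⟩
  let eD : F ≃ₐ[F] D 0 := AlgEquiv.ofBijective (Algebra.ofId F (D 0))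
    ⟨(algebraMap F (D 0)).injective, hsurj⟩
  have hev : Function.Bijective (Pi.evalAlgHom F (fun i => Matrix (Fin (d i)) (Fin (d i)) (D i)) 0) :=
    ⟨fun u v huv => funext fun i => by obtain rfl : i = 0 := Subsingleton.elim _ _; exact huv,
      fun u => ⟨Function.update (fun i => (0 : Matrix (Fin (d i)) (Fin (d i)) (D i))) 0 u, by simp⟩⟩
  refine ⟨d 0, Nat.pos_of_ne_zero (NeZero.ne _), ⟨AlgEquiv.trans eD.mapMatrix
    (AlgEquiv.trans (AlgEquiv.symm (AlgEquiv.ofBijective (Pi.evalAlgHom F (fun i => Matrix (Fin (d i)) (Fin (d i)) (D i)) 0) hev)) e.symm)⟩⟩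

/-! ### commutative subalgebras -/

/-- a finite semisimple commutative subalgebra without idempotents is a field -/
theorem inv_or_idempotent [Finite F] (C : Subalgebra F (Matrix ι ι F)) (hss : IsSemisimpleRing C)
    (hcomm : ∀ x ∈ C, ∀ y ∈ C, x * y = y * x)
    (hid : ∀ e ∈ C, e * e = e → e = 0 ∨ e = 1) : ∀ x ∈ C, x ≠ 0 → ∃ y ∈ C, x * y = 1 := by
  classical
  haveI := hss
  intro x hx hx0
  haveI : Finite (Matrix ι ι F) := inferInstance
  obtain ⟨a, b, hne, hab⟩ := Finite.exists_ne_map_eq_of_infinite (fun i : ℕ => x ^ i)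
  wlog hlt : a < b generalizing a b
  · exact this b a hne.symm hab.symm (by omega)
  have hstep : ∀ k, a ≤ k → x ^ (k + (b - a)) = x ^ k := by
    intro k hk
    rw [show k + (b - a) = (k - a) + b by omega, pow_add, ← hab, ← pow_add, Nat.sub_add_cancel hk]
  have hmul : ∀ j k, a ≤ k → x ^ (k + j * (b - a)) = x ^ k := by
    intro j
    induction j with
    | zero => simp
    | succ j ih =>
      intro k hk
      rw [show k + (j + 1) * (b - a) = k + j * (b - a) + (b - a) by ring, hstep _ (by omega), ih k hk]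
  set k := (a + 1) * (b - a) with hk
  have hk1 : a + 1 ≤ k := Nat.le_mul_of_pos_right _ (by omega)
  have hidk : x ^ k * x ^ k = x ^ k := by
    rw [← pow_add]; exact hmul (a + 1) k (by omega)
  rcases hid _ (C.pow_mem hx k) hidk with h0 | h1
  · exfalso
    let X : C := ⟨x, hx⟩
    obtain ⟨g, hg, hI⟩ := IsSemisimpleRing.ideal_eq_span_idempotent (Ideal.span {X})
    have hgX : g ∈ Ideal.span {X} := hI ▸ Ideal.mem_span_singleton_self g
    obtain ⟨c, hc⟩ := Ideal.mem_span_singleton'.1 hgX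
    have hXg : X ∈ Ideal.span {g} := hI ▸ Ideal.mem_span_singleton_self X
    obtain ⟨c', hc'⟩ := Ideal.mem_span_singleton'.1 hXg
    have hcX : Commute c X := Subtype.ext (hcomm _ c.2 _ X.2)
    have hgk : g = g ^ k := (hg.pow_eq (by omega)).symm
    rw [← hc, hcX.mul_pow, show X ^ k = 0 from Subtype.ext (by simpa using h0), mul_zero, hc] at hgk
    rw [hgk, mul_zero] at hc'
    exact hx0 (congrArg Subtype.val hc'.symm)
  · refine ⟨x ^ (k - 1), C.pow_mem hx _, ?_⟩
    rw [← pow_succ', Nat.sub_add_cancel (by omega), h1]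

/-- nontrivial idempotents in a normalised commutative algebra give an imprimitivity decomposition -/
theorem exists_decomposition [Finite F] [Nonempty ι] {H : Subgroup (GL ι F)} (hH : Irred H)
    {C : Subalgebra F (Matrix ι ι F)} (hC : AlgNorm H C) (hcomm : ∀ x ∈ C, ∀ y ∈ C, x * y = y * x)
    {e : Matrix ι ι F} (he : e ∈ C) (hee : e * e = e) (he0 : e ≠ 0) (he1 : e ≠ 1) :
    ∃ (t m : ℕ) (D : Fin t → Submodule F (ι → F)), IsMDecomposition m D ∧ H ≤ decompositionStabilizer D := by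
  classical
  let IsMin : Matrix ι ι F → Prop := fun f => f ∈ C ∧ f * f = f ∧ f ≠ 0 ∧
    ∀ g ∈ C, g * g = g → g ≠ 0 → f * g = g → g = f
  -- a minimal idempotent other than one
  obtain ⟨f, ⟨hfC, hff, hf0, hef⟩, hfmin⟩ : ∃ f, (f ∈ C ∧ f * f = f ∧ f ≠ 0 ∧ e * f = f) ∧
      ∀ g, (g ∈ C ∧ g * g = g ∧ g ≠ 0 ∧ e * g = g) →
        {v | (f : Matrix ι ι F) *ᵥ v = v}.ncard ≤ {v | (g : Matrix ι ι F) *ᵥ v = v}.ncard := by
    obtain ⟨⟨f, hf⟩, hmin⟩ := @Finite.exists_min {f // f ∈ C ∧ f * f = f ∧ f ≠ 0 ∧ e * f = f} _ _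
      ⟨⟨e, he, hee, he0, hee⟩⟩ _ (fun f => {v | (f.1 : Matrix ι ι F) *ᵥ v = v}.ncard)
    exact ⟨f, hf, fun g hg => hmin ⟨g, hg⟩⟩
  have hf1 : f ≠ 1 := fun h => he1 (by rw [h, mul_one] at hef; exact hef)
  have hfM : IsMin f := by
    refine ⟨hfC, hff, hf0, fun g hg hgg hg0 hfg => ?_⟩
    have hsub : {v | g *ᵥ v = v} ⊆ {v : ι → F | f *ᵥ v = v} := fun v (hv : g *ᵥ v = v) => by
      show f *ᵥ v = v
      rw [← hv, Matrix.mulVec_mulVec, hfg]
    have heq := Set.eq_of_subset_of_ncard_le hsub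
      (hfmin g ⟨hg, hgg, hg0, by rw [← hfg, ← mul_assoc, hef]⟩) (Set.toFinite _)
    apply Matrix.ext
    intro i j
    have h1 : f *ᵥ (f *ᵥ (Pi.single j 1 : ι → F)) = f *ᵥ Pi.single j 1 := by rw [Matrix.mulVec_mulVec, hff]
    have h3 : f *ᵥ (Pi.single j 1 : ι → F) ∈ {v | f *ᵥ v = v} := h1
    rw [← heq] at h3
    have h2 : g *ᵥ (f *ᵥ (Pi.single j 1 : ι → F)) = f *ᵥ Pi.single j 1 := h3
    rw [Matrix.mulVec_mulVec, hcomm g hg f hfC, hfg] at h2
    simpa [Matrix.mulVec_single_one] using congrFun h2 i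
  have hMorth : ∀ a b, IsMin a → IsMin b → a ≠ b → a * b = 0 := by
    intro a b ha hb hab
    by_contra h
    have hidem : (a * b) * (a * b) = a * b := by
      rw [mul_assoc, ← mul_assoc b, hcomm b hb.1 a ha.1, mul_assoc a b b, hb.2.1, ← mul_assoc, ha.2.1]
    have h1 := ha.2.2.2 _ (C.mul_mem ha.1 hb.1) hidem h (by rw [← mul_assoc, ha.2.1])
    have h2 := hb.2.2.2 _ (C.mul_mem ha.1 hb.1) hidem h (by
      rw [← mul_assoc, hcomm b hb.1 a ha.1, mul_assoc, hb.2.1])
    exact hab (h1.symm.trans h2)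
  have hMconj : ∀ h ∈ H, ∀ a, IsMin a → IsMin (conjAlg h a) := by
    intro h hh a ha
    refine ⟨hC h hh a ha.1, by rw [← map_mul, ha.2.1],
      fun h0 => ha.2.2.1 ((conjAlg h).injective (by rw [h0, map_zero])), fun g hg hgg hg0 hag => ?_⟩
    have hback : conjAlg h (conjAlg h⁻¹ g) = g := by
      rw [← conjAlg_mul, mul_inv_cancel]; simp
    have h1 := ha.2.2.2 (conjAlg h⁻¹ g) (hC h⁻¹ (H.inv_mem hh) g hg) (by rw [← map_mul, hgg])
      (fun h0 => hg0 (by rw [← hback, h0, map_zero]))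
      ((conjAlg h).injective (by rw [map_mul, hback]; exact hag))
    rw [← hback, h1]
  haveI : Finite (Matrix ι ι F) := inferInstance
  let O : Set (Matrix ι ι F) := {a | ∃ h ∈ H, conjAlg h f = a}
  haveI : Fintype O := Fintype.ofFinite O
  let t := Fintype.card O
  let ord : Fin t ≃ O := (Fintype.equivFin O).symm
  let D : Fin t → Submodule F (ι → F) := fun i => LinearMap.range (Matrix.toLin' (ord i : Matrix ι ι F))
  have hOmin : ∀ a : O, IsMin (a : Matrix ι ι F) := by
    rintro ⟨_, h, hh, rfl⟩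
    exact hMconj h hh f hfM
  have hmapD : ∀ h ∈ H, ∀ i j, (ord j : Matrix ι ι F) = conjAlg h (ord i : Matrix ι ι F) →
      (D i).map (Matrix.toLin' (h : Matrix ι ι F)) = D j := by
    intro h _ i j hij
    have hsurj : LinearMap.range (Matrix.toLin' ((h⁻¹ : GL ι F) : Matrix ι ι F)) = ⊤ :=
      LinearMap.range_eq_top.2 fun v => ⟨(h : Matrix ι ι F) *ᵥ v, by simp [Matrix.mulVec_mulVec]⟩
    simp only [D, ← LinearMap.range_comp, hij, conjAlg_apply, Matrix.toLin'_mul]
    rw [LinearMap.range_comp_of_range_eq_top _ hsurj]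
  have hact : ∀ h ∈ H, ∀ i, ∃ j, (ord j : Matrix ι ι F) = conjAlg h (ord i : Matrix ι ι F) := by
    intro h hh i
    obtain ⟨g, hg, hga⟩ := (ord i).2
    refine ⟨ord.symm ⟨conjAlg h (ord i : Matrix ι ι F), h * g, H.mul_mem hh hg, ?_⟩, by simp⟩
    rw [conjAlg_mul, hga]
  have hstab : H ≤ decompositionStabilizer D := by
    intro h hh
    choose σ hσ using hact h hh
    have hinj : Function.Injective σ := fun a b hab => ord.injective (Subtype.ext
      ((conjAlg h).injective ((hσ a).symm.trans (hab ▸ hσ b))))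
    refine ⟨Equiv.ofBijective σ ⟨hinj, Finite.surjective_of_injective hinj⟩, fun i => ?_⟩
    exact hmapD h hh i (σ i) (hσ i)
  have hfO : f ∈ O := ⟨1, H.one_mem, by simp⟩
  have htop : iSup D = ⊤ := by
    refine (hH _ ?_).resolve_left ?_
    · intro g hg w hw
      obtain ⟨σ, hσ⟩ := hstab hg
      have h1 : (g : Matrix ι ι F) *ᵥ w ∈ (iSup D).map (Matrix.toLin' (g : Matrix ι ι F)) :=
        ⟨w, hw, by simp⟩
      rw [Submodule.map_iSup] at h1
      have hle : (⨆ i, (D i).map (Matrix.toLin' (g : Matrix ι ι F))) ≤ iSup D :=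
        iSup_le fun i => (hσ i).le.trans (le_iSup D (σ i))
      exact hle h1
    · intro h0
      have h1 : LinearMap.range (Matrix.toLin' f) ≤ ⊥ := by
        rw [← h0]
        refine le_iSup_of_le (ord.symm ⟨f, hfO⟩) ?_
        simp [D]
      rw [le_bot_iff, LinearMap.range_eq_bot] at h1
      exact hf0 (by simpa using congrArg LinearMap.toMatrix' h1)
  have hindep : iSupIndep D := by
    intro i
    rw [Submodule.disjoint_def]
    intro v hv hv'
    obtain ⟨u, rfl⟩ := hv
    have h1 : ∀ w ∈ ⨆ (j) (_ : j ≠ i), D j, (ord i : Matrix ι ι F) *ᵥ w = 0 := by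
      intro w hw
      have : (⨆ (j) (_ : j ≠ i), D j) ≤ LinearMap.ker (Matrix.toLin' (ord i : Matrix ι ι F)) := by
        refine iSup₂_le fun j hj => ?_
        rintro _ ⟨x, rfl⟩
        simp [Matrix.mulVec_mulVec, hMorth _ _ (hOmin (ord i)) (hOmin (ord j))
          (fun h => hj (ord.injective (Subtype.ext h)).symm)]
      simpa using this hw
    have h2 := h1 _ hv'
    simp only [Matrix.toLin'_apply, Matrix.mulVec_mulVec, (hOmin (ord i)).2.1] at h2
    simpa using h2
  have ht : 2 ≤ t := by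
    by_contra hlt
    have htl : t ≤ 1 := by omega
    haveI : Subsingleton O := Fintype.card_le_one_iff_subsingleton.1 htl
    have h1 : iSup D = LinearMap.range (Matrix.toLin' f) := by
      refine le_antisymm (iSup_le fun i => ?_) (le_iSup_of_le (ord.symm ⟨f, hfO⟩) (by simp [D]))
      simp [D, Subsingleton.elim (ord i) ⟨f, hfO⟩]
    rw [htop] at h1
    apply hf1
    apply Matrix.ext
    intro a b
    obtain ⟨u, hu⟩ : (Pi.single b 1 : ι → F) ∈ LinearMap.range (Matrix.toLin' f) := h1 ▸ Submodule.mem_top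
    rw [Matrix.toLin'_apply] at hu
    have h2 : f *ᵥ (Pi.single b 1 : ι → F) = Pi.single b 1 := by
      rw [← hu, Matrix.mulVec_mulVec, hff]
    simpa [Matrix.mulVec_single_one, Matrix.one_apply, Pi.single_apply] using congrFun h2 a
  let i0 := ord.symm ⟨f, hfO⟩
  have hfin : ∀ i, Module.finrank F (D i) = Module.finrank F (D i0) := by
    intro i
    obtain ⟨g, hg, hga⟩ := (ord i).2
    rw [← hmapD g hg i0 i (by simp [i0, hga])]
    have := (Submodule.equivMapOfInjective (Matrix.toLin' (g : Matrix ι ι F))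
      (fun a b h => (act g).injective (by simpa using h)) (D i0)).finrank_eq
    exact this.symm
  refine ⟨t, Module.finrank F (D i0), D, ⟨ht, ?_, hfin, hindep, htop⟩, hstab⟩
  rw [Nat.pos_iff_ne_zero]
  intro h0
  have hb : D i0 = ⊥ := Submodule.finrank_eq_zero.1 h0
  simp only [D, i0, Equiv.apply_symm_apply, LinearMap.range_eq_bot] at hb
  exact hf0 (by simpa using congrArg LinearMap.toMatrix' hb)

/-- a normalised field subalgebra contains one of prime degree -/
theorem exists_prime_field [Fintype F] [Nonempty ι] {H : Subgroup (GL ι F)}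
    {C : Subalgebra F (Matrix ι ι F)} (hC : AlgNorm H C) (hcomm : ∀ x ∈ C, ∀ y ∈ C, x * y = y * x)
    (hinv : ∀ x ∈ C, x ≠ 0 → ∃ y ∈ C, x * y = 1) (hne : C ≠ ⊥) :
    ∃ (r : ℕ) (K : Subalgebra F (Matrix ι ι F)), r.Prime ∧ IsFieldSubalgebra r K ∧
      H ≤ subalgebraNormalizer K := by
  classical
  haveI : Nontrivial C := ⟨0, 1, fun h => zero_ne_one (congrArg Subtype.val h : (0 : Matrix ι ι F) = 1)⟩
  have hfld : IsField C :=
    ⟨⟨0, 1, zero_ne_one⟩, fun x y => Subtype.ext (hcomm _ x.2 _ y.2), fun {x} hx => by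
      obtain ⟨y, hy, hxy⟩ := hinv x x.2 (fun h => hx (Subtype.ext h))
      exact ⟨⟨y, hy⟩, Subtype.ext hxy⟩⟩
  letI : Field C := hfld.toField
  haveI : Fintype C := Fintype.ofFinite C
  set d := Module.finrank F C with hd
  have hd1 : 1 < d := by
    rcases Nat.lt_or_ge 1 d with h | h
    · exact h
    · exfalso
      have hpos : 0 < d := Module.finrank_pos
      exact hne (Subalgebra.eq_bot_of_finrank_one (by omega))
  obtain ⟨r, hr, j, hj⟩ := Nat.exists_prime_and_dvd hd1.ne'
  let φ : C →ₐ[F] C := (FiniteField.frobeniusAlgHom F C) ^ r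
  have hφ : ∀ x, φ x = x ^ (Fintype.card F ^ r) := fun x => by
    simp only [φ, AlgHom.coe_pow, FiniteField.coe_frobeniusAlgHom, pow_iterate]
  let L : Subalgebra F C := AlgHom.equalizer φ (AlgHom.id F C)
  let K : Subalgebra F (Matrix ι ι F) := L.map C.val
  have hmem : ∀ x, x ∈ K ↔ x ∈ C ∧ x ^ (Fintype.card F ^ r) = x := by
    intro x
    constructor
    · rintro ⟨y, hy, rfl⟩
      refine ⟨y.2, ?_⟩
      have h1 : φ y = y := hy
      rw [hφ] at h1
      simpa using congrArg Subtype.val h1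
    · rintro ⟨hx, hx'⟩
      refine ⟨⟨x, hx⟩, ?_, rfl⟩
      show φ ⟨x, hx⟩ = _
      rw [hφ]
      exact Subtype.ext (by simpa using hx')
  have hnorm : AlgNorm H K := by
    intro h hh c hc
    rw [hmem] at hc ⊢
    refine ⟨hC h hh c hc.1, ?_⟩
    conv_rhs => rw [← hc.2]
    rw [← conjAlg_apply h c, ← map_pow]
    rfl
  have hq : 1 < Fintype.card F := Fintype.one_lt_card
  have hcardC : Fintype.card C = Fintype.card F ^ d := Module.card_eq_pow_finrank
  have hbij : Function.Bijective φ := ⟨φ.toRingHom.injective, Finite.surjective_of_injective φ.toRingHom.injective⟩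
  have hLcard : Nat.card L = Fintype.card F ^ r := by
    have h1 : Nat.card (AschPrimeForms.fixedField (RingEquiv.ofBijective φ hbij : C ≃+* C)) =
        Fintype.card F ^ r := by
      refine AschPrimeForms.card_fixedField (Nat.one_lt_pow hr.ne_zero hq) ?_ (fun x => hφ x)
      rw [hcardC]
      exact Nat.pow_sub_one_dvd_pow_sub_one _ ⟨j, hj⟩
    rw [← h1]
    exact Nat.card_congr (Equiv.subtypeEquivRight fun x => Iff.rfl)
  have hrank : Module.finrank F K = r := by
    have h1 : Module.finrank F L = Module.finrank F K :=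
      (L.equivMapOfInjective C.val Subtype.val_injective).toLinearEquiv.finrank_eq
    have h2 := Module.natCard_eq_pow_finrank (K := F) (V := L)
    rw [hLcard, Nat.card_eq_fintype_card] at h2
    rw [← h1]
    exact (Nat.pow_right_injective hq h2).symm
  refine ⟨r, K, hr, ⟨fun x hx y hy => hcomm x ((hmem x).1 hx).1 y ((hmem y).1 hy).1, fun x hx hx0 => ?_, hrank⟩, ?_⟩
  · obtain ⟨y, hy, hxy⟩ := hinv x ((hmem x).1 hx).1 hx0
    refine ⟨y, (hmem y).2 ⟨hy, ?_⟩, hxy⟩
    have h1 : x ^ (Fintype.card F ^ r) * y ^ (Fintype.card F ^ r) = 1 := by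
      rw [← (show Commute x y from hcomm x ((hmem x).1 hx).1 y hy).mul_pow, hxy, one_pow]
    rw [((hmem x).1 hx).2] at h1
    calc y ^ (Fintype.card F ^ r) = (y * x) * y ^ (Fintype.card F ^ r) := by
          rw [← hcomm x ((hmem x).1 hx).1 y hy, hxy, one_mul]
      _ = y := by rw [mul_assoc, h1, mul_one]
  · intro g hg k
    refine ⟨fun hk => hnorm g hg k hk, fun hk => ?_⟩
    have h1 := hnorm g⁻¹ (H.inv_mem hg) _ hk
    simpa [mul_assoc] using h1

end Cfsg.Agent.AschGenAlgebra
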