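/-
Aschbacher's theorem, linear case in arbitrary dimension, part 2: matrix units, tensor coordinates, tensor-induced
structures and the forms on tensor powers of the plane.
-/
import Cfsg.Agent.Lib.AschGenAlgebra

set_option autoImplicit false

namespace Cfsg.Agent.AschGenTensor

open scoped Matrix Kronecker
open Cfsg Cfsg.Geo Cfsg.Agent.AschPrimeBasic Cfsg.Agent.AschGenAlgebra

variable {ι : Type} [Fintype ι] [DecidableEq ι] {F : Type*} [Field F]

/-- pulling back along a bijection of index sets -/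
def pull {κ : Type} [Fintype κ] [DecidableEq κ] (e : ι ≃ κ) : Matrix κ κ F →ₐ[F] Matrix ι ι F :=
  (Matrix.reindexAlgEquiv F F e.symm).toAlgHom

lemma pull_apply {κ : Type} [Fintype κ] [DecidableEq κ] (e : ι ≃ κ) (M : Matrix κ κ F) (a b : ι) :
    pull e M a b = M (e a) (e b) := rfl

lemma pull_injective {κ : Type} [Fintype κ] [DecidableEq κ] (e : ι ≃ κ) :
    Function.Injective (pull (F := F) e) := (Matrix.reindexAlgEquiv F F e.symm).injective

lemma pull_surjective {κ : Type} [Fintype κ] [DecidableEq κ] (e : ι ≃ κ) :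
    Function.Surjective (pull (F := F) e) := (Matrix.reindexAlgEquiv F F e.symm).surjective

/-- a group lies in a conjugated pulled-back group as soon as its members are of that shape -/
lemma mem_conj_pull {κ : Type} [Fintype κ] [DecidableEq κ] {S : Subgroup (GL κ F)} {e : ι ≃ κ}
    {P : GL ι F} {h : GL ι F} (g : GL κ F) (hg : g ∈ S)
    (hh : (h : Matrix ι ι F) = (P : Matrix ι ι F) * pull e (g : Matrix κ κ F) * ((P⁻¹ : GL ι F) : Matrix ι ι F)) :
    h ∈ (S.map (glReindex e.symm).toMonoidHom).map (MulAut.conj P).toMonoidHom :=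
  ⟨glReindex e.symm g, ⟨g, hg, rfl⟩, Units.ext (hh.symm)⟩

/-! ### matrix units -/

/-- coordinates adapted to a unital copy of a matrix algebra -/
theorem exists_coords {κ : Type} [Fintype κ] [DecidableEq κ] [Nonempty κ] [Nonempty ι]
    (φ : Matrix κ κ F →ₐ[F] Matrix ι ι F) :
    ∃ (m : ℕ) (e : ι ≃ κ × Fin m) (P : GL ι F), 0 < m ∧ ∀ X : Matrix κ κ F,
      φ X = (P : Matrix ι ι F) * pull e (X ⊗ₖ (1 : Matrix (Fin m) (Fin m) F)) * ((P⁻¹ : GL ι F) : Matrix ι ι F) := by
  classical
  obtain ⟨a0⟩ := ‹Nonempty κ›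
  let E : κ → κ → Matrix ι ι F := fun a b => φ (Matrix.single a b 1)
  have hmul : ∀ a b c, E a b * E b c = E a c := fun a b c => by
    simp only [E, ← map_mul, Matrix.single_mul_single_same, mul_one]
  have hzero : ∀ a b c d, b ≠ c → E a b * E c d = 0 := fun a b c d h => by
    simp only [E, ← map_mul]
    rw [Matrix.single_mul_single_of_ne (h := h), map_zero]
  have hsum : ∑ a, E a a = 1 := by
    simp only [E, ← map_sum]
    rw [show ∑ a, Matrix.single a a (1 : F) = 1 from ?_, map_one]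
    rw [← Matrix.diagonal_one]
    exact Matrix.sum_single_eq_diagonal _
  set U := LinearMap.range (Matrix.toLin' (E a0 a0)) with hU
  set m := Module.finrank F U with hm
  let u := Module.finBasis F U
  let w : κ × Fin m → (ι → F) := fun p => E p.1 a0 *ᵥ (u p.2 : ι → F)
  have hfix : ∀ x : U, E a0 a0 *ᵥ (x : ι → F) = x := by
    rintro ⟨_, y, rfl⟩
    simp [Matrix.mulVec_mulVec, hmul]
  have hli : LinearIndependent F w := by
    rw [Fintype.linearIndependent_iff]
    intro c hc p
    have h1 := congrArg (fun v => E a0 p.1 *ᵥ v) hc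
    simp only [Matrix.mulVec_sum, Matrix.mulVec_zero, Matrix.mulVec_smul, w, Matrix.mulVec_mulVec] at h1
    rw [Fintype.sum_prod_type, Finset.sum_eq_single p.1] at h1
    · simp only [hmul, hfix] at h1
      have h2 : ∑ i, c (p.1, i) • u i = 0 := Subtype.ext (by simpa using h1)
      exact Fintype.linearIndependent_iff.1 u.linearIndependent (fun i => c (p.1, i)) h2 p.2
    · intro a _ ha
      simp [hzero a0 p.1 a a0 (Ne.symm ha)]
    · simp
  have hspan : ⊤ ≤ Submodule.span F (Set.range w) := by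
    intro v _
    have hv : v = ∑ a, E a a0 *ᵥ (E a0 a *ᵥ v) := by
      conv_lhs => rw [← Matrix.one_mulVec v, ← hsum, Matrix.sum_mulVec]
      simp [Matrix.mulVec_mulVec, hmul]
    rw [hv]
    refine Submodule.sum_mem _ fun a _ => ?_
    have hU' : E a0 a *ᵥ v ∈ U := ⟨E a0 a *ᵥ v, by simp [Matrix.mulVec_mulVec, hmul]⟩
    have h1 := congrArg (fun x : U => E a a0 *ᵥ (x : ι → F)) (u.sum_repr ⟨_, hU'⟩)
    simp only [Submodule.coe_sum, Submodule.coe_smul, Matrix.mulVec_sum, Matrix.mulVec_smul] at h1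
    rw [← h1]
    exact Submodule.sum_mem _ fun i _ => Submodule.smul_mem _ _ (Submodule.subset_span ⟨(a, i), rfl⟩)
  let b := Module.Basis.mk hli hspan
  have hcard : Fintype.card ι = Fintype.card (κ × Fin m) := by
    have := Module.finrank_eq_card_basis b
    rwa [Module.finrank_pi] at this
  let e : ι ≃ κ × Fin m := Fintype.equivOfCardEq hcard
  let Bm : Matrix ι ι F := Matrix.of fun r j => w (e j) r
  have hBdet : Bm.det ≠ 0 := by
    have h1 : IsUnit Bm := Matrix.linearIndependent_cols_iff_isUnit.1 (hli.comp e e.injective)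
    exact ((Matrix.isUnit_iff_isUnit_det _).1 h1).ne_zero
  let P : GL ι F := Matrix.GeneralLinearGroup.mkOfDetNeZero Bm hBdet
  have hm0 : 0 < m := by
    obtain ⟨i⟩ := ‹Nonempty ι›
    exact Fin.pos_iff_nonempty.2 ⟨(e i).2⟩
  refine ⟨m, e, P, hm0, fun X => ?_⟩
  have key : ∀ a c, E a c * Bm = Bm * pull e (Matrix.single a c (1 : F) ⊗ₖ (1 : Matrix (Fin m) (Fin m) F)) := by
    intro a c
    ext r j
    have h1 : (E a c * Bm) r j = (E a c *ᵥ w (e j)) r := by
      simp [Matrix.mul_apply, Bm, Matrix.mulVec, dotProduct]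
    rw [h1, Matrix.mul_apply]
    simp only [w, Matrix.mulVec_mulVec]
    by_cases hc : c = (e j).1
    · rw [hc, hmul, Finset.sum_eq_single (e.symm (a, (e j).2))]
      · simp [Bm, pull_apply, w]
      · intro k _ hk
        have : ¬ (a = (e k).1 ∧ (e k).2 = (e j).2) := fun h => hk (by
          apply e.injective; rw [Equiv.apply_symm_apply]; exact Prod.ext h.1.symm h.2)
        simp only [pull_apply, Matrix.kroneckerMap_apply, Matrix.single, Matrix.of_apply, Matrix.one_apply]
        split_ifs <;> simp_all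
      · simp
    · rw [hzero _ _ _ _ hc, Matrix.zero_mulVec, Pi.zero_apply, Finset.sum_eq_zero]
      intro k _
      simp only [pull_apply, Matrix.kroneckerMap_apply, Matrix.single, Matrix.of_apply]
      split_ifs <;> simp_all
  have hall : φ X * Bm = Bm * pull e (X ⊗ₖ (1 : Matrix (Fin m) (Fin m) F)) := by
    conv_lhs => rw [Matrix.matrix_eq_sum_single X]
    conv_rhs => rw [Matrix.matrix_eq_sum_single X]
    have hs : ∀ (a c : κ), Matrix.single a c (X a c) = X a c • Matrix.single a c (1 : F) := fun a c => by simp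
    simp only [map_sum, hs, map_smul, Finset.sum_mul, Matrix.smul_mul]
    have hk : (∑ a, ∑ c, X a c • Matrix.single a c (1 : F)) ⊗ₖ (1 : Matrix (Fin m) (Fin m) F) =
        ∑ a, ∑ c, X a c • (Matrix.single a c (1 : F) ⊗ₖ (1 : Matrix (Fin m) (Fin m) F)) := by
      ext p q
      simp only [Matrix.kroneckerMap_apply, Matrix.sum_apply, Matrix.smul_apply, Finset.sum_mul, smul_eq_mul,
        mul_assoc]
    rw [hk]
    simp only [map_sum, map_smul, Finset.mul_sum, Matrix.mul_smul]
    exact Finset.sum_congr rfl fun a _ => Finset.sum_congr rfl fun c _ => congrArg _ (key a c)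
  have hP : (P : Matrix ι ι F) = Bm := rfl
  rw [hP, ← hall, ← hP, mul_assoc, ← Units.val_mul, mul_inv_cancel, Units.val_one, mul_one]

/-- the centraliser of `X ⊗ 1` -/
lemma kronecker_centralizer {κ μ : Type} [Fintype κ] [DecidableEq κ] [Nonempty κ] [Fintype μ] [DecidableEq μ]
    {M : Matrix (κ × μ) (κ × μ) F}
    (h : ∀ X : Matrix κ κ F, M * (X ⊗ₖ (1 : Matrix μ μ F)) = (X ⊗ₖ (1 : Matrix μ μ F)) * M) :
    ∃ B : Matrix μ μ F, M = (1 : Matrix κ κ F) ⊗ₖ B := by
  obtain ⟨a0⟩ := ‹Nonempty κ›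
  refine ⟨Matrix.of fun i j => M (a0, i) (a0, j), ?_⟩
  have hent : ∀ (a b : κ) (i j : μ) (c d : κ), (M * (Matrix.single a b (1 : F) ⊗ₖ (1 : Matrix μ μ F))) (c, i) (d, j) =
      if b = d then M (c, i) (a, j) else 0 := by
    intro a b i j c d
    rw [Matrix.mul_apply, Finset.sum_eq_single (a, j)]
    · by_cases hbd : b = d <;> simp [Matrix.single, hbd]
    · rintro ⟨x, y⟩ _ hne
      simp only [Matrix.kroneckerMap_apply, Matrix.single, Matrix.of_apply, Matrix.one_apply]
      split_ifs <;> simp_all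
    · simp
  have hent' : ∀ (a b : κ) (i j : μ) (c d : κ), ((Matrix.single a b (1 : F) ⊗ₖ (1 : Matrix μ μ F)) * M) (c, i) (d, j) =
      if a = c then M (b, i) (d, j) else 0 := by
    intro a b i j c d
    rw [Matrix.mul_apply, Finset.sum_eq_single (b, i)]
    · by_cases hbd : a = c <;> simp [Matrix.single, hbd]
    · rintro ⟨x, y⟩ _ hne
      simp only [Matrix.kroneckerMap_apply, Matrix.single, Matrix.of_apply, Matrix.one_apply]
      split_ifs <;> simp_all
    · simp
  ext ⟨c, i⟩ ⟨d, j⟩
  have h1 := congrFun (congrFun (h (Matrix.single d a0 (1 : F))) (c, i)) (a0, j)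
  rw [hent, hent', if_pos rfl] at h1
  rw [h1]
  by_cases hcd : c = d
  · subst hcd; simp
  · simp [hcd, Ne.symm hcd]

/-- automorphisms of full matrix algebras are inner -/
theorem exists_inner {κ : Type} [Fintype κ] [DecidableEq κ] (f : Matrix κ κ F ≃ₐ[F] Matrix κ κ F) :
    ∃ a : GL κ F, ∀ X, f X = (a : Matrix κ κ F) * X * ((a⁻¹ : GL κ F) : Matrix κ κ F) := by
  obtain ⟨T, hT⟩ := AlgEquiv.eq_linearEquivConjAlgEquiv
    ((Matrix.toLinAlgEquiv' (R := F) (n := κ)).symm.trans (f.trans Matrix.toLinAlgEquiv'))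
  let a : GL κ F :=
    ⟨LinearMap.toMatrix' (T : (κ → F) →ₗ[F] (κ → F)), LinearMap.toMatrix' (T.symm : (κ → F) →ₗ[F] (κ → F)),
      by rw [← LinearMap.toMatrix'_comp, LinearEquiv.comp_coe, LinearEquiv.symm_trans_self]; exact LinearMap.toMatrix'_id,
      by rw [← LinearMap.toMatrix'_comp, LinearEquiv.comp_coe, LinearEquiv.self_trans_symm]; exact LinearMap.toMatrix'_id⟩
  refine ⟨a, fun X => ?_⟩
  have h1 := congrArg (fun g : Module.End F (κ → F) ≃ₐ[F] Module.End F (κ → F) =>
    LinearMap.toMatrix' (g (Matrix.toLin' X))) hT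
  simp only [AlgEquiv.trans_apply, LinearEquiv.conjAlgEquiv_apply, LinearMap.toMatrix'_comp,
    LinearMap.toMatrix'_toLin'] at h1
  rw [show (Matrix.toLin' X : Module.End F (κ → F)) = Matrix.toLinAlgEquiv' X from rfl,
    AlgEquiv.symm_apply_apply] at h1
  rw [show (Matrix.toLinAlgEquiv' (f X) : Module.End F (κ → F)) = Matrix.toLin' (f X) from rfl,
    LinearMap.toMatrix'_toLin'] at h1
  rw [h1, mul_assoc]
  rfl

/-- a group normalising a matrix subalgebra preserves a tensor decomposition -/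
theorem exists_tensor [Nonempty ι] {H : Subgroup (GL ι F)} {C : Subalgebra F (Matrix ι ι F)} (hC : AlgNorm H C)
    {k : ℕ} (hk : 0 < k) (φ : Matrix (Fin k) (Fin k) F ≃ₐ[F] C) :
    ∃ (m : ℕ) (e : ι ≃ Fin k × Fin m) (P : GL ι F), 0 < m ∧ H ≤ tensorProductSubgroup k m e P ∧
      ∀ X, (φ X : Matrix ι ι F) = (P : Matrix ι ι F) * pull e (X ⊗ₖ (1 : Matrix (Fin m) (Fin m) F)) *
        ((P⁻¹ : GL ι F) : Matrix ι ι F) := by
  haveI : Nonempty (Fin k) := ⟨⟨0, hk⟩⟩
  obtain ⟨m, e, P, hm, hP⟩ := exists_coords (C.val.comp φ.toAlgHom)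
  refine ⟨m, e, P, hm, fun h hh => ?_, hP⟩
  obtain ⟨a, ha⟩ := exists_inner ((φ.trans (restr hC hh)).trans φ.symm)
  set g : GL ι F := P⁻¹ * h * P with hg
  obtain ⟨G, hG⟩ := pull_surjective (F := F) e (g : Matrix ι ι F)
  obtain ⟨G', hG'⟩ := pull_surjective (F := F) e ((g⁻¹ : GL ι F) : Matrix ι ι F)
  have hGG' : G * G' = 1 := pull_injective (F := F) e (by rw [map_mul, hG, hG', map_one, ← Units.val_mul, mul_inv_cancel, Units.val_one])
  have hG'G : G' * G = 1 := pull_injective (F := F) e (by rw [map_mul, hG, hG', map_one, ← Units.val_mul, inv_mul_cancel, Units.val_one])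
  have hconj : ∀ X, G * (X ⊗ₖ (1 : Matrix (Fin m) (Fin m) F)) =
      (((a : Matrix (Fin k) (Fin k) F) * X * ((a⁻¹ : GL (Fin k) F) : Matrix (Fin k) (Fin k) F)) ⊗ₖ
        (1 : Matrix (Fin m) (Fin m) F)) * G := by
    intro X
    apply pull_injective (F := F) e
    have h1 : (h : Matrix ι ι F) * (C.val.comp φ.toAlgHom) X * ((h⁻¹ : GL ι F) : Matrix ι ι F) =
        (C.val.comp φ.toAlgHom) (((φ.trans (restr hC hh)).trans φ.symm) X) := by
      simp only [AlgEquiv.trans_apply, AlgHom.comp_apply, AlgEquiv.coe_toAlgHom, AlgEquiv.apply_symm_apply,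
        Subalgebra.coe_val, restr_val]
    rw [ha, hP, hP] at h1
    rw [map_mul, map_mul, hG]
    set Y := pull e (X ⊗ₖ (1 : Matrix (Fin m) (Fin m) F))
    have h2 := congrArg (fun Z => ((P⁻¹ : GL ι F) : Matrix ι ι F) * Z * (h : Matrix ι ι F) * (P : Matrix ι ι F)) h1
    simp only [hg, Units.val_mul]
    simpa [mul_assoc] using h2
  let a1 : Matrix (Fin k) (Fin k) F := ((a⁻¹ : GL (Fin k) F) : Matrix (Fin k) (Fin k) F)
  obtain ⟨B, hB⟩ := kronecker_centralizer (M := (a1 ⊗ₖ (1 : Matrix (Fin m) (Fin m) F)) * G) (fun X => by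
    rw [mul_assoc, hconj]
    simp only [← mul_assoc, ← Matrix.mul_kronecker_mul, mul_one]
    simp [a1])
  have hGB : G = (a : Matrix (Fin k) (Fin k) F) ⊗ₖ B := by
    have h1 := congrArg (fun Z => ((a : Matrix (Fin k) (Fin k) F) ⊗ₖ (1 : Matrix (Fin m) (Fin m) F)) * Z) hB
    simp only [← mul_assoc, ← Matrix.mul_kronecker_mul, mul_one, one_mul] at h1
    simpa [a1] using h1
  have hBdet : B.det ≠ 0 := by
    intro h0
    have h1 := congrArg Matrix.det hGG'
    rw [Matrix.det_mul, hGB, Matrix.det_kronecker, h0] at h1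
    simp [zero_pow hk.ne'] at h1
  let u : GL (Fin k × Fin m) F := ⟨G, G', hGG', hG'G⟩
  refine mem_conj_pull u ⟨a, Matrix.GeneralLinearGroup.mkOfDetNeZero B hBdet, hGB⟩ ?_
  show (h : Matrix ι ι F) = _ * pull e G * _
  rw [hG, hg]
  simp [mul_assoc]

/-- swapping the two factors -/
lemma tensor_swap (k m : ℕ) (e : ι ≃ Fin k × Fin m) (P : GL ι F) :
    tensorProductSubgroup k m e P ≤ tensorProductSubgroup m k (e.trans (Equiv.prodComm _ _)) P := by
  rintro _ ⟨_, ⟨g, ⟨a, b, hab⟩, rfl⟩, rfl⟩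
  refine mem_conj_pull (glReindex (Equiv.prodComm _ _) g) ⟨b, a, ?_⟩ ?_
  · ext ⟨i, i'⟩ ⟨j, j'⟩
    show (g : Matrix (Fin k × Fin m) (Fin k × Fin m) F) (i', i) (j', j) = _
    rw [hab]
    simp [mul_comm]
  · rfl

/-! ### pure tensors and factor permutations -/

variable {k t : ℕ}

/-- the matrix of a pure tensor -/
def pureMat (U : Fin t → Matrix (Fin k) (Fin k) F) : Matrix (Fin t → Fin k) (Fin t → Fin k) F :=
  Matrix.of fun x y => ∏ i, U i (x i) (y i)

/-- the matrix of a factor permutation -/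
def permMat (σ : Equiv.Perm (Fin t)) : Matrix (Fin t → Fin k) (Fin t → Fin k) F :=
  Matrix.of fun x y => if y = x ∘ σ then 1 else 0

lemma pureMat_mul (U V : Fin t → Matrix (Fin k) (Fin k) F) :
    pureMat U * pureMat V = pureMat (fun i => U i * V i) := by
  ext x y
  simp only [Matrix.mul_apply, pureMat, Matrix.of_apply]
  rw [Finset.prod_univ_sum, Fintype.piFinset_univ]
  exact Finset.sum_congr rfl fun z _ => Finset.prod_mul_distrib.symm

lemma pureMat_one : pureMat (fun _ => (1 : Matrix (Fin k) (Fin k) F)) = (1 : Matrix (Fin t → Fin k) (Fin t → Fin k) F) := by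
  ext x y
  by_cases h : x = y
  · subst h; simp [pureMat]
  · obtain ⟨i, hi⟩ := Function.ne_iff.1 h
    rw [Matrix.one_apply_ne h, pureMat, Matrix.of_apply]
    exact Finset.prod_eq_zero (Finset.mem_univ i) (Matrix.one_apply_ne hi)

/-- the unit of a pure tensor -/
def pureUnit (gs : Fin t → GL (Fin k) F) : GL (Fin t → Fin k) F where
  val := pureMat fun i => (gs i : Matrix (Fin k) (Fin k) F)
  inv := pureMat fun i => (((gs i)⁻¹ : GL (Fin k) F) : Matrix (Fin k) (Fin k) F)
  val_inv := by rw [pureMat_mul, ← pureMat_one]; exact congrArg pureMat (funext fun i => by simp)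
  inv_val := by rw [pureMat_mul, ← pureMat_one]; exact congrArg pureMat (funext fun i => by simp)

lemma comp_injective (σ : Equiv.Perm (Fin t)) :
    Function.Injective fun x : Fin t → Fin k => x ∘ σ := fun x y h => funext fun i => by
  simpa using congrFun h (σ.symm i)

lemma permMat_mul (σ : Equiv.Perm (Fin t)) (M : Matrix (Fin t → Fin k) (Fin t → Fin k) F) (x y : Fin t → Fin k) :
    ((permMat σ : Matrix (Fin t → Fin k) (Fin t → Fin k) F) * M) x y = M (x ∘ σ) y := by
  simp [Matrix.mul_apply, permMat]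

lemma mul_permMat (σ : Equiv.Perm (Fin t)) (M : Matrix (Fin t → Fin k) (Fin t → Fin k) F) (x y : Fin t → Fin k) :
    (M * (permMat σ : Matrix (Fin t → Fin k) (Fin t → Fin k) F)) x y = M x (y ∘ σ.symm) := by
  rw [Matrix.mul_apply, Finset.sum_eq_single (y ∘ σ.symm)]
  · simp [permMat, Function.comp_def]
  · intro z _ hz
    simp only [permMat, Matrix.of_apply]
    rw [if_neg, mul_zero]
    rintro rfl
    exact hz (by simp [Function.comp_def])
  · simp

lemma permMat_pureMat (σ : Equiv.Perm (Fin t)) (U : Fin t → Matrix (Fin k) (Fin k) F) :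
    permMat σ * pureMat U = pureMat (fun i => U (σ.symm i)) * permMat σ := by
  ext x y
  rw [permMat_mul, mul_permMat]
  simp only [pureMat, Matrix.of_apply, Function.comp_apply]
  rw [← Equiv.prod_comp σ.symm]
  simp

lemma permMat_mul_symm (σ : Equiv.Perm (Fin t)) :
    permMat σ * permMat σ.symm = (1 : Matrix (Fin t → Fin k) (Fin t → Fin k) F) := by
  ext x y
  rw [permMat_mul]
  simp only [permMat, Matrix.of_apply, Matrix.one_apply, Function.comp_assoc]
  simp [eq_comm]

/-- the unit of a factor permutation -/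
def permUnit (σ : Equiv.Perm (Fin t)) : GL (Fin t → Fin k) F where
  val := permMat σ
  inv := permMat σ.symm
  val_inv := permMat_mul_symm σ
  inv_val := by simpa using permMat_mul_symm (F := F) (k := k) σ.symm

lemma pureUnit_mem (gs : Fin t → GL (Fin k) F) : pureUnit gs ∈ tensorWreathStandard k t F :=
  Subgroup.subset_closure (Or.inl ⟨gs, fun _ _ => rfl⟩)

lemma permUnit_mem (σ : Equiv.Perm (Fin t)) : permUnit σ ∈ tensorWreathStandard k t F :=
  Subgroup.subset_closure (Or.inr ⟨σ, fun _ _ => rfl⟩)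

/-- the embedding of the `j`th factor -/
def site (j : Fin t) (X : Matrix (Fin k) (Fin k) F) : Matrix (Fin t → Fin k) (Fin t → Fin k) F :=
  pureMat (Function.update (fun _ => (1 : Matrix (Fin k) (Fin k) F)) j X)

/-! ### products over commuting sites -/

/-- the matrix units of a family of commuting copies of a matrix algebra -/
def sprod : (t : ℕ) → (Fin t → (Matrix (Fin k) (Fin k) F →ₐ[F] Matrix ι ι F)) →
    (Fin t → Fin k) → (Fin t → Fin k) → Matrix ι ι F
  | 0, _, _, _ => 1
  | t + 1, ψ, x, y => ψ 0 (Matrix.single (x 0) (y 0) 1) * sprod t (fun i => ψ i.succ) (Fin.tail x) (Fin.tail y)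

lemma sprod_comm : ∀ (t : ℕ) (ψ : Fin t → (Matrix (Fin k) (Fin k) F →ₐ[F] Matrix ι ι F)) (M : Matrix ι ι F)
    (_ : ∀ i X, M * ψ i X = ψ i X * M) (x y : Fin t → Fin k),
    M * sprod t ψ x y = sprod t ψ x y * M
  | 0, _, _, _, _, _ => by simp [sprod]
  | t + 1, ψ, M, h, x, y => by
    simp only [sprod]
    rw [← mul_assoc, h, mul_assoc, sprod_comm t _ M (fun i X => h i.succ X), mul_assoc]

lemma sprod_mul : ∀ (t : ℕ) (ψ : Fin t → (Matrix (Fin k) (Fin k) F →ₐ[F] Matrix ι ι F))
    (_ : ∀ i j, i ≠ j → ∀ X Y, ψ i X * ψ j Y = ψ j Y * ψ i X) (x y z w : Fin t → Fin k),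
    sprod t ψ x y * sprod t ψ z w = if y = z then sprod t ψ x w else 0
  | 0, _, _, x, y, z, w => by simp [sprod, Subsingleton.elim y z]
  | t + 1, ψ, hc, x, y, z, w => by
    simp only [sprod]
    have h1 := sprod_comm t (fun i => ψ i.succ) (ψ 0 (Matrix.single (z 0) (w 0) 1))
      (fun i X => hc 0 i.succ (Fin.succ_ne_zero i).symm _ _) (Fin.tail x) (Fin.tail y)
    rw [mul_assoc, ← mul_assoc (sprod t _ _ _), ← h1, mul_assoc, ← mul_assoc (ψ 0 _),
      sprod_mul t _ (fun i j hij => hc i.succ j.succ (fun h => hij (Fin.succ_injective _ h))), ← map_mul]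
    by_cases h0 : y 0 = z 0
    · rw [h0, Matrix.single_mul_single_same, mul_one]
      by_cases ht : Fin.tail y = Fin.tail z
      · have : y = z := by rw [← Fin.cons_self_tail y, ← Fin.cons_self_tail z, h0, ht]
        rw [if_pos ht, if_pos this]
      · have : y ≠ z := fun h => ht (by rw [h])
        rw [if_neg ht, if_neg this, mul_zero]
    · have : y ≠ z := fun h => h0 (by rw [h])
      rw [if_neg this, Matrix.single_mul_single_of_ne (h := h0), map_zero, zero_mul]

lemma sprod_sum : ∀ (t : ℕ) (ψ : Fin t → (Matrix (Fin k) (Fin k) F →ₐ[F] Matrix ι ι F)),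
    ∑ x, sprod t ψ x x = 1
  | 0, _ => by simp [sprod]
  | t + 1, ψ => by
    rw [← (Fin.consEquiv (fun _ => Fin k)).sum_comp, Fintype.sum_prod_type]
    simp only [sprod, Fin.consEquiv, Equiv.coe_fn_mk, Fin.cons_zero, Fin.tail_cons, ← Finset.mul_sum, sprod_sum t,
      mul_one, ← map_sum]
    rw [show ∑ a, Matrix.single a a (1 : F) = 1 from ?_, map_one]
    rw [← Matrix.diagonal_one]
    exact Matrix.sum_single_eq_diagonal _

lemma sprod_site : ∀ (t : ℕ) (ψ : Fin t → (Matrix (Fin k) (Fin k) F →ₐ[F] Matrix ι ι F))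
    (_ : ∀ i j, i ≠ j → ∀ X Y, ψ i X * ψ j Y = ψ j Y * ψ i X) (j : Fin t) (X : Matrix (Fin k) (Fin k) F)
    (y : Fin t → Fin k),
    ψ j X * sprod t ψ y y = ∑ a, X a (y j) • sprod t ψ (Function.update y j a) y
  | 0, _, _, j, _, _ => j.elim0
  | t + 1, ψ, hc, j, X, y => by
    refine Fin.cases ?_ (fun i => ?_) j
    · simp only [sprod, Fin.tail_update_zero, Function.update_self, ← mul_assoc, ← map_mul]
      have h1 : X * Matrix.single (y 0) (y 0) (1 : F) = ∑ a, X a (y 0) • Matrix.single a (y 0) (1 : F) := by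
        ext b c
        simp [Matrix.mul_apply, Matrix.sum_apply, Matrix.single, ite_and]

      rw [h1, map_sum, Finset.sum_mul]
      simp only [map_smul, Matrix.smul_mul]
    · simp only [sprod]
      rw [← mul_assoc, hc i.succ 0 (Fin.succ_ne_zero i), mul_assoc,
        sprod_site t _ (fun a b hab => hc a.succ b.succ (fun h => hab (Fin.succ_injective _ h))) i X,
        Finset.mul_sum]
      refine Finset.sum_congr rfl fun a _ => ?_
      rw [Matrix.mul_smul, Fin.tail_update_succ, Function.update_of_ne (Fin.succ_ne_zero i).symm]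
      rfl

/-- commuting copies of a matrix algebra, permuted by `H`, with scalar joint centraliser give a tensor-induced
structure -/
theorem exists_wreath [Nonempty ι] {H : Subgroup (GL ι F)} {k t : ℕ} (hk : 0 < k) (ht : 0 < t)
    (A : Fin t → Subalgebra F (Matrix ι ι F)) (φ : ∀ i, Matrix (Fin k) (Fin k) F ≃ₐ[F] A i)
    (hcomm : ∀ i j, i ≠ j → ∀ x ∈ A i, ∀ y ∈ A j, x * y = y * x)
    (hcent : ∀ M : Matrix ι ι F, (∀ i, ∀ x ∈ A i, M * x = x * M) → ∃ c : F, M = c • (1 : Matrix ι ι F))
    (hperm : ∀ h ∈ H, ∃ σ : Equiv.Perm (Fin t), ∀ i, (A i).map (conjAlg h).toAlgHom = A (σ i)) :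
    ∃ (e : ι ≃ (Fin t → Fin k)) (P : GL ι F), H ≤ tensorWreathSubgroup k t e P := by
  classical
  haveI : Nonempty (Fin k) := ⟨⟨0, hk⟩⟩
  let ψ : Fin t → (Matrix (Fin k) (Fin k) F →ₐ[F] Matrix ι ι F) := fun i => (A i).val.comp (φ i).toAlgHom
  have hψc : ∀ i j, i ≠ j → ∀ X Y, ψ i X * ψ j Y = ψ j Y * ψ i X := fun i j hij X Y =>
    hcomm i j hij _ (φ i X).2 _ (φ j Y).2
  let Φl : Matrix (Fin t → Fin k) (Fin t → Fin k) F →ₗ[F] Matrix ι ι F :=
    { toFun := fun M => ∑ x, ∑ y, M x y • sprod t ψ x y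
      map_add' := fun M N => by simp [add_smul, Finset.sum_add_distrib]
      map_smul' := fun c M => by simp [smul_smul, Finset.smul_sum] }
  have hΦmul : ∀ M N, Φl (M * N) = Φl M * Φl N := by
    intro M N
    show ∑ x, ∑ w, (M * N) x w • sprod t ψ x w =
      (∑ x, ∑ y, M x y • sprod t ψ x y) * ∑ z, ∑ w, N z w • sprod t ψ z w
    rw [Finset.sum_mul]
    refine Finset.sum_congr rfl fun x _ => ?_
    simp only [Finset.sum_mul]
    simp only [Finset.mul_sum, Matrix.smul_mul, Matrix.mul_smul, sprod_mul t ψ hψc, smul_ite, smul_zero, smul_smul,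
      Finset.sum_ite_irrel, Finset.sum_const_zero, Finset.sum_ite_eq, Finset.mem_univ, if_true, Matrix.mul_apply,
      Finset.sum_smul]
    rw [Finset.sum_comm]
    exact Finset.sum_congr rfl fun i _ => Finset.sum_congr rfl fun w _ => by rw [mul_comm]
  have hΦone : Φl 1 = 1 := by
    simp only [Φl, LinearMap.coe_mk, AddHom.coe_mk, Matrix.one_apply, ite_smul, one_smul, zero_smul,
      Finset.sum_ite_eq, Finset.mem_univ, if_true]
    exact sprod_sum t ψ
  let Φ := AlgHom.ofLinearMap Φl hΦone hΦmul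
  have hsite : ∀ j X, Φ (site j X) = ψ j X := by
    intro j X
    conv_rhs => rw [← mul_one (ψ j X), ← sprod_sum t ψ, Finset.mul_sum]
    simp only [sprod_site t ψ hψc]
    show ∑ x, ∑ y, site j X x y • sprod t ψ x y = _
    rw [Finset.sum_comm]
    refine Finset.sum_congr rfl fun y _ => ?_
    symm
    refine Finset.sum_bij_ne_zero (fun a _ _ => Function.update y j a) (fun _ _ _ => Finset.mem_univ _) ?_ ?_ ?_
    · intro a _ _ b _ _ h
      simpa using congrFun h j
    · intro x _ hx
      have hs : ∀ i, i ≠ j → x i = y i := by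
        intro i hij
        by_contra h
        apply hx
        have : site j X x y = 0 := by
          simp only [site, pureMat, Matrix.of_apply]
          exact Finset.prod_eq_zero (Finset.mem_univ i) (by rw [Function.update_of_ne hij]; exact Matrix.one_apply_ne h)
        rw [this, zero_smul]
      have hx' : Function.update y j (x j) = x := by
        funext i
        by_cases hij : i = j
        · subst hij; simp
        · rw [Function.update_of_ne hij, hs i hij]
      refine ⟨x j, Finset.mem_univ _, ?_, hx'⟩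
      rw [hx']
      have : site j X x y = X (x j) (y j) := by
        simp only [site, pureMat, Matrix.of_apply]
        rw [Finset.prod_eq_single j]
        · simp
        · intro i _ hij; rw [Function.update_of_ne hij, hs i hij]; simp
        · simp
      rwa [← this]
    · intro a _ _
      congr 1
      simp only [site, pureMat, Matrix.of_apply]
      rw [Finset.prod_eq_single j]
      · simp
      · intro i _ hij; simp [Function.update_of_ne hij]
      · simp
  obtain ⟨m, e₀, P, hm, hP⟩ := exists_coords Φ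
  -- the centraliser is scalar, so the multiplicity is one
  have hm1 : m = 1 := by
    by_contra hne
    let B : Matrix (Fin m) (Fin m) F := Matrix.single ⟨0, hm⟩ ⟨1, by omega⟩ 1
    let M := (P : Matrix ι ι F) * pull e₀ ((1 : Matrix (Fin t → Fin k) (Fin t → Fin k) F) ⊗ₖ B) * ((P⁻¹ : GL ι F) : Matrix ι ι F)
    obtain ⟨c, hc⟩ := hcent M fun i x hx => by
      obtain ⟨X, hX⟩ := (φ i).surjective ⟨x, hx⟩
      have hx' : x = Φ (site i X) := by rw [hsite]; simp [ψ, hX]
      rw [hx', hP]
      simp only [M, mul_assoc, Units.inv_mul_cancel_left]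
      simp only [← mul_assoc (pull e₀ _) (pull e₀ _), ← map_mul, ← Matrix.mul_kronecker_mul, one_mul, mul_one]
    have h1 : pull e₀ ((1 : Matrix (Fin t → Fin k) (Fin t → Fin k) F) ⊗ₖ B) = pull e₀ (c • 1) := by
      have h2 := congrArg (fun Z => ((P⁻¹ : GL ι F) : Matrix ι ι F) * Z * (P : Matrix ι ι F)) hc
      simp only [M, mul_assoc, Units.inv_mul_cancel_left, Units.inv_mul, mul_one, Matrix.smul_mul, Matrix.mul_smul,
        one_mul] at h2
      rw [h2, map_smul, map_one]
    have h3 := congrFun (congrFun (pull_injective (F := F) e₀ h1) (Classical.arbitrary _, ⟨0, hm⟩)) (Classical.arbitrary _, ⟨1, by omega⟩)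
    simp [B] at h3
  subst hm1
  let e : ι ≃ (Fin t → Fin k) := e₀.trans (Equiv.prodUnique _ _)
  have hP' : ∀ X, Φ X = (P : Matrix ι ι F) * pull e X * ((P⁻¹ : GL ι F) : Matrix ι ι F) := by
    intro X
    rw [hP]
    congr 2
    ext a b
    rw [pull_apply, Matrix.kroneckerMap_apply, Subsingleton.elim (e₀ a).2 (e₀ b).2, Matrix.one_apply_eq, mul_one]
    rfl
  refine ⟨e, P, fun h hh => ?_⟩
  obtain ⟨σ, hσ⟩ := hperm h hh
  have hinner : ∀ i, ∃ a : GL (Fin k) F, ∀ X, (h : Matrix ι ι F) * ψ i X * ((h⁻¹ : GL ι F) : Matrix ι ι F) =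
      ψ (σ i) ((a : Matrix (Fin k) (Fin k) F) * X * ((a⁻¹ : GL (Fin k) F) : Matrix (Fin k) (Fin k) F)) := by
    intro i
    let r : A i ≃ₐ[F] A (σ i) := ((conjAlg h).subalgebraMap (A i)).trans (Subalgebra.equivOfEq _ _ (hσ i))
    obtain ⟨a, ha⟩ := exists_inner (((φ i).trans r).trans (φ (σ i)).symm)
    refine ⟨a, fun X => ?_⟩
    rw [← ha]
    simp [ψ, r]
  choose a ha using hinner
  let T : GL (Fin t → Fin k) F := pureUnit (fun i => a (σ.symm i)) * permUnit σ
  have hT : ∀ j X, (T : Matrix _ _ F) * site j X =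
      site (σ j) ((a j : Matrix (Fin k) (Fin k) F) * X * (((a j)⁻¹ : GL (Fin k) F) : Matrix (Fin k) (Fin k) F)) *
        (T : Matrix _ _ F) := by
    intro j X
    simp only [T, Units.val_mul, pureUnit, permUnit, site]
    rw [mul_assoc, permMat_pureMat, ← mul_assoc, pureMat_mul, ← mul_assoc, pureMat_mul]
    congr 2
    funext i
    by_cases hi : i = σ j
    · subst hi; simp [mul_assoc]
    · have : σ.symm i ≠ j := fun h => hi (by rw [← h, Equiv.apply_symm_apply])
      simp [Function.update_of_ne hi, Function.update_of_ne this]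
  let u : GL ι F := P * glReindex e.symm T * P⁻¹
  have hu : (u : Matrix ι ι F) = Φ (T : Matrix _ _ F) := by rw [hP']; rfl
  obtain ⟨c, hc⟩ := hcent ((u⁻¹ * h : GL ι F) : Matrix ι ι F) fun i x hx => by
    obtain ⟨X, hX⟩ := (φ i).surjective ⟨x, hx⟩
    have hx' : x = ψ i X := by simp [ψ, hX]
    rw [hx']
    have h1 : (h : Matrix ι ι F) * ψ i X =
        ψ (σ i) ((a i : Matrix (Fin k) (Fin k) F) * X * (((a i)⁻¹ : GL (Fin k) F) : Matrix (Fin k) (Fin k) F)) *
          (h : Matrix ι ι F) := by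
      rw [← ha, mul_assoc, ← Units.val_mul, inv_mul_cancel, Units.val_one, mul_one]
    have h2 : (u : Matrix ι ι F) * ψ i X =
        ψ (σ i) ((a i : Matrix (Fin k) (Fin k) F) * X * (((a i)⁻¹ : GL (Fin k) F) : Matrix (Fin k) (Fin k) F)) *
          (u : Matrix ι ι F) := by
      rw [hu, ← hsite, ← hsite, ← map_mul, ← map_mul, hT]
    rw [Units.val_mul, mul_assoc, h1, ← mul_assoc, ← mul_assoc]
    congr 1
    have h3 := congrArg (fun Z => ((u⁻¹ : GL ι F) : Matrix ι ι F) * Z * ((u⁻¹ : GL ι F) : Matrix ι ι F)) h2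
    simp only [mul_assoc, Units.mul_inv, mul_one, Units.inv_mul_cancel_left] at h3
    simpa only [mul_assoc] using h3.symm
  have hz : u⁻¹ * h ∈ scalars ι F := mem_scalars_of_comm hc
  obtain ⟨l, hl⟩ := (mem_scalars_iff _).1 hz
  let z : GL (Fin k) F := Units.map (Matrix.scalar (Fin k) : F →+* Matrix (Fin k) (Fin k) F).toMonoidHom l
  let Z : GL (Fin t → Fin k) F := pureUnit (Function.update (fun _ => (1 : GL (Fin k) F)) ⟨0, ht⟩ z)
  have hZ : (Z : Matrix _ _ F) = (l : F) • (1 : Matrix (Fin t → Fin k) (Fin t → Fin k) F) := by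
    rw [← pureMat_one]
    ext x y
    simp only [Z, pureUnit, Matrix.smul_apply, pureMat, Matrix.of_apply, smul_eq_mul]
    rw [← Finset.mul_prod_erase _ _ (Finset.mem_univ (⟨0, ht⟩ : Fin t)),
      ← Finset.mul_prod_erase Finset.univ (fun i => (1 : Matrix (Fin k) (Fin k) F) (x i) (y i)) (Finset.mem_univ (⟨0, ht⟩ : Fin t)),
      ← mul_assoc]
    congr 1
    · simp [z, Matrix.scalar_apply, Matrix.diagonal, Matrix.one_apply]
    · exact Finset.prod_congr rfl fun i hi => by simp [Function.update_of_ne (Finset.ne_of_mem_erase hi)]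
  refine mem_conj_pull (T * Z) (Subgroup.mul_mem _ (Subgroup.mul_mem _ (pureUnit_mem _) (permUnit_mem _)) (pureUnit_mem _)) ?_
  have h4 : (h : Matrix ι ι F) = (u : Matrix ι ι F) * ((u⁻¹ * h : GL ι F) : Matrix ι ι F) := by simp
  rw [h4, hl, hu, hP']
  simp only [Units.val_mul, hZ, map_mul, map_smul, map_one]
  simp [mul_assoc]

/-- two equal factors -/
lemma tensor_le_wreath (k : ℕ) (e : ι ≃ Fin k × Fin k) (P : GL ι F) :
    tensorProductSubgroup k k e P ≤ tensorWreathSubgroup k 2 (e.trans (finTwoArrowEquiv (Fin k)).symm) P := by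
  rintro _ ⟨_, ⟨g, ⟨a, b, hab⟩, rfl⟩, rfl⟩
  refine mem_conj_pull (glReindex (finTwoArrowEquiv (Fin k)).symm g) (Subgroup.subset_closure (Or.inl ⟨![a, b], fun x y => ?_⟩)) ?_
  · show (g : Matrix (Fin k × Fin k) (Fin k × Fin k) F) (x 0, x 1) (y 0, y 1) = _
    rw [hab]
    simp [Fin.prod_univ_two]
  · congr 2

/-! ### tensor powers of the plane -/

/-- the alternating form on the plane -/
def planeJ : Matrix (Fin 2) (Fin 2) F := !![0, 1; -1, 0]

lemma planeJ_transform (a : Matrix (Fin 2) (Fin 2) F) : aᵀ * planeJ * a = a.det • planeJ := by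
  ext i j
  fin_cases i <;> fin_cases j <;> simp [planeJ, Matrix.mul_apply, Fin.sum_univ_two, Matrix.det_fin_two] <;> ring

/-- the group of a tensor power of planes preserves a symplectic or a quadratic form up to scalars -/
theorem wreath_two_forms [Fintype F] {t : ℕ} (ht : 2 ≤ t) (e : ι ≃ (Fin t → Fin 2)) (P : GL ι F) :
    (∃ f : (ι → F) → (ι → F) → F, IsSymplecticForm f ∧ tensorWreathSubgroup 2 t e P ≤ similarityGroup f) ∨
    (∃ Q : (ι → F) → F, Odd (Fintype.card F) ∧ IsNondegenerateQuadraticForm Q ∧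
      tensorWreathSubgroup 2 t e P ≤ quadSimilarityGroup Q) := by
  classical
  let Jt : Matrix (Fin t → Fin 2) (Fin t → Fin 2) F := pureMat fun _ => planeJ
  let G : Matrix ι ι F := ((P⁻¹ : GL ι F) : Matrix ι ι F)ᵀ * pull e Jt * ((P⁻¹ : GL ι F) : Matrix ι ι F)
  let f : (ι → F) → (ι → F) → F := fun u v => u ⬝ᵥ (G *ᵥ v)
  have hJ2 : Jt * pureMat (fun _ => -planeJ) = 1 := by
    rw [pureMat_mul, ← pureMat_one]
    refine congrArg pureMat (funext fun i => ?_)
    ext a b
    fin_cases a <;> fin_cases b <;> simp [planeJ, Matrix.mul_apply, Fin.sum_univ_two]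
  have hGdet : G.det ≠ 0 := by
    have h1 := congrArg (fun M => (pull e M).det) hJ2
    simp only [map_mul, map_one, Matrix.det_mul, Matrix.det_one] at h1
    simp only [G, Matrix.det_mul, Matrix.det_transpose]
    exact mul_ne_zero (mul_ne_zero (Matrix.isUnits_det_units _).ne_zero (left_ne_zero_of_mul_eq_one h1))
      (Matrix.isUnits_det_units _).ne_zero
  have hbil : IsBilinearForm f := ⟨fun x y v => by simp [f, add_dotProduct], fun c x v => by simp [f],
    fun v x y => by simp [f, Matrix.mulVec_add, dotProduct_add], fun c v x => by simp [f, Matrix.mulVec_smul]⟩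
  have hnd : IsNondegenerateForm f := by
    intro v hv
    constructor
    · have h1 : G *ᵥ v ≠ 0 := fun h => hv (by
        by_contra hv'
        exact hGdet (Matrix.exists_mulVec_eq_zero_iff.1 ⟨v, hv', h⟩))
      obtain ⟨i, hi⟩ := Function.ne_iff.1 h1
      exact ⟨Pi.single i 1, by simpa [f] using hi⟩
    · have h1 : v ᵥ* G ≠ 0 := fun h => hv (by
        by_contra hv'
        exact hGdet (Matrix.exists_vecMul_eq_zero_iff.1 ⟨v, hv', h⟩))
      obtain ⟨i, hi⟩ := Function.ne_iff.1 h1
      exact ⟨Pi.single i 1, by simpa [f, Matrix.dotProduct_mulVec] using hi⟩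
  have htr : ∀ M : Matrix (Fin t → Fin 2) (Fin t → Fin 2) F, (pull e M)ᵀ = pull e Mᵀ := fun M => rfl
  have hJtT : Jtᵀ = (-1 : F) ^ t • Jt := by
    ext x y
    simp only [Jt, Matrix.transpose_apply, pureMat, Matrix.of_apply, Matrix.smul_apply, smul_eq_mul]
    have : ∀ a b : Fin 2, (planeJ : Matrix (Fin 2) (Fin 2) F) b a = -1 * planeJ a b := by
      intro a b; fin_cases a <;> fin_cases b <;> simp [planeJ]
    rw [Finset.prod_congr rfl fun i _ => this (x i) (y i), Finset.prod_mul_distrib, Finset.prod_const,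
      Finset.card_univ, Fintype.card_fin]
  have hGT : Gᵀ = (-1 : F) ^ t • G := by
    simp only [G, Matrix.transpose_mul, Matrix.transpose_transpose, htr, hJtT, map_smul, Matrix.mul_smul,
      Matrix.smul_mul, mul_assoc]
  have hsim : tensorWreathSubgroup 2 t e P ≤ similarityGroup f := by
    rw [tensorWreathSubgroup, Subgroup.map_map, Subgroup.map_le_iff_le_comap, tensorWreathStandard,
      Subgroup.closure_le]
    intro g hg
    have hc : ∃ c : Fˣ, (g : Matrix _ _ F)ᵀ * Jt * (g : Matrix _ _ F) = (c : F) • Jt := by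
      rcases hg with ⟨gs, hgs⟩ | ⟨σ, hσ⟩
      · refine ⟨∏ i, Matrix.GeneralLinearGroup.det (gs i), ?_⟩
        have : (g : Matrix _ _ F) = pureMat fun i => (gs i : Matrix (Fin 2) (Fin 2) F) := by
          ext x y; exact hgs x y
        have hT : (pureMat fun i => (gs i : Matrix (Fin 2) (Fin 2) F))ᵀ = pureMat fun i => (gs i : Matrix (Fin 2) (Fin 2) F)ᵀ := rfl
        rw [this, hT]
        simp only [Jt, pureMat_mul, planeJ_transform]
        ext x y
        simp [pureMat, Finset.prod_mul_distrib]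
      · refine ⟨1, ?_⟩
        have hg' : (g : Matrix (Fin t → Fin 2) (Fin t → Fin 2) F) = permMat σ := by ext x y; exact hσ x y
        have hT : (permMat σ : Matrix (Fin t → Fin 2) (Fin t → Fin 2) F)ᵀ = permMat σ.symm := by
          ext x y
          simp only [permMat, Matrix.transpose_apply, Matrix.of_apply]
          congr 1
          exact propext ⟨fun h => by subst h; simp [Function.comp_def], fun h => by subst h; simp [Function.comp_def]⟩
        rw [hg', hT, Units.val_one, one_smul, mul_assoc]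
        simp only [Jt]
        rw [← (permMat_pureMat σ fun _ => planeJ : (permMat σ : Matrix (Fin t → Fin 2) (Fin t → Fin 2) F) *
          pureMat (fun _ => planeJ) = pureMat (fun _ => planeJ) * permMat σ), ← mul_assoc]
        have := permMat_mul_symm (F := F) (k := 2) σ.symm
        rw [Equiv.symm_symm] at this
        rw [this, one_mul]
    obtain ⟨c, hc⟩ := hc
    refine ⟨c, fun u v => ?_⟩
    show ((P * glReindex e.symm g * P⁻¹ : GL ι F) : Matrix ι ι F) *ᵥ u ⬝ᵥ
      (G *ᵥ (((P * glReindex e.symm g * P⁻¹ : GL ι F) : Matrix ι ι F) *ᵥ v)) = _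
    set M := ((P * glReindex e.symm g * P⁻¹ : GL ι F) : Matrix ι ι F) with hM
    have hMG : Mᵀ * G * M = (c : F) • G := by
      have : M = (P : Matrix ι ι F) * pull e (g : Matrix _ _ F) * ((P⁻¹ : GL ι F) : Matrix ι ι F) := rfl
      rw [this]
      simp only [G, Matrix.transpose_mul, mul_assoc, Units.inv_mul_cancel_left]
      rw [← mul_assoc (P : Matrix ι ι F)ᵀ, ← Matrix.transpose_mul, Units.inv_mul, Matrix.transpose_one, one_mul,
        ← mul_assoc (pull e Jt), ← map_mul, ← mul_assoc (pull e _)ᵀ, htr, ← map_mul, ← mul_assoc (g : Matrix (Fin t → Fin 2) (Fin t → Fin 2) F)ᵀ, hc, map_smul]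
      simp [mul_assoc]
    rw [Matrix.mulVec_mulVec, dotProduct_comm, Matrix.dotProduct_mulVec, ← Matrix.mulVec_transpose, dotProduct_comm]
    simp only [Matrix.mulVec_mulVec, f]
    rw [← mul_assoc, hMG, Matrix.smul_mulVec, dotProduct_smul, smul_eq_mul]
  have hskew : ∀ v w, f v w = (-1 : F) ^ t * f w v := by
    intro v w
    have h1 : v ⬝ᵥ G *ᵥ w = w ⬝ᵥ Gᵀ *ᵥ v := by
      rw [Matrix.dotProduct_mulVec, Matrix.mulVec_transpose, dotProduct_comm]
    simp only [f, h1, hGT, Matrix.smul_mulVec, dotProduct_smul, smul_eq_mul]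
  by_cases h2 : (2 : F) ≠ 0 ∧ Even t
  · right
    refine ⟨fun v => f v v, AschPrimeForms.odd_card_of_two_ne_zero h2.1, ?_⟩
    have hpol : ∀ u v, QuadraticMap.polar (fun v => f v v) u v = 2 * f u v := by
      intro u v
      simp only [QuadraticMap.polar, hbil.add_left, hbil.add_right]
      rw [hskew v u, h2.2.neg_one_pow]
      ring
    have hQ : IsNondegenerateQuadraticForm (fun v => f v v) := by
      refine ⟨fun c v => by rw [hbil.smul_left, hbil.smul_right]; ring, ⟨?_, ?_, ?_, ?_⟩, fun v hv => ?_⟩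
      · intro x y v; simp only [hpol, hbil.add_left]; ring
      · intro c x v; simp only [hpol, hbil.smul_left]; ring
      · intro v x y; simp only [hpol, hbil.add_right]; ring
      · intro c v x; simp only [hpol, hbil.smul_right]; ring
      · obtain ⟨⟨x, hx⟩, ⟨y, hy⟩⟩ := hnd v hv
        exact ⟨⟨x, by rw [hpol]; exact mul_ne_zero h2.1 hx⟩, ⟨y, by rw [hpol]; exact mul_ne_zero h2.1 hy⟩⟩
    refine ⟨hQ, fun g hg => ?_⟩
    obtain ⟨c, hc⟩ := hsim hg
    exact ⟨c, fun v => hc v v⟩
  · left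
    have hs : (-1 : F) ^ t = -1 := by
      by_cases h : (2 : F) = 0
      · have : (-1 : F) = 1 := by linear_combination (-1 : F) * h
        rw [this, one_pow]
      · exact (Nat.not_even_iff_odd.1 fun he => h2 ⟨h, he⟩).neg_one_pow
    refine ⟨f, ⟨hbil, fun v w => by rw [hskew, hs, neg_one_mul], fun v => ?_, hnd⟩, hsim⟩
    -- alternating: skew with zero diagonal
    have hd : ∀ i, (pull e Jt) i i = 0 := by
      intro i
      simp only [pull_apply, Jt, pureMat, Matrix.of_apply]
      refine Finset.prod_eq_zero (Finset.mem_univ (⟨0, by omega⟩ : Fin t)) ?_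
      generalize (e i) _ = a
      fin_cases a <;> simp [planeJ]
    set w := ((P⁻¹ : GL ι F) : Matrix ι ι F) *ᵥ v with hw
    have hfv : f v v = ∑ i, ∑ j, w i * pull e Jt i j * w j := by
      have h1 : f v v = w ⬝ᵥ pull e Jt *ᵥ w := by
        simp only [f, G, hw, ← Matrix.mulVec_mulVec]
        rw [Matrix.dotProduct_mulVec, Matrix.vecMul_transpose]
      rw [h1]
      simp [dotProduct, Matrix.mulVec, Finset.mul_sum, mul_assoc]
    rw [hfv, ← Finset.sum_product']
    refine Finset.sum_involution (fun p _ => (p.2, p.1)) ?_ ?_ (fun _ _ => Finset.mem_univ _) (fun _ _ => rfl)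
    · rintro ⟨i, j⟩ _
      have h1 : pull e Jt j i = - pull e Jt i j := by
        have := congrFun (congrFun hJtT (e i)) (e j)
        rw [hs] at this
        simpa [pull_apply] using this
      simp only [h1]; ring
    · rintro ⟨i, j⟩ _ hne heq
      simp only [Prod.mk.injEq] at heq
      exact hne (by simp [heq.1, hd])

end Cfsg.Agent.AschGenTensor
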