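/-
Aschbacher's theorem in prime dimension, part 2: the Clifford alternative for a normal subgroup of an
irreducible matrix group of prime degree.
-/
import Cfsg.Agent.Lib.AschPrimeBasic

set_option autoImplicit false

namespace Cfsg.Agent.AschPrimeClifford

open scoped Matrix
open Cfsg Cfsg.Geo Cfsg.Agent.AschPrimeBasic

variable {ι : Type} [Fintype ι] [DecidableEq ι] {F : Type*} [Field F]

/-- the subgroup is commutative -/
def Comm (N : Subgroup (GL ι F)) : Prop := ∀ x ∈ N, ∀ y ∈ N, x * y = y * x

/-- the commutant of a set of matrices -/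
def commutant (N : Subgroup (GL ι F)) : Subalgebra F (Matrix ι ι F) :=
  Subalgebra.centralizer F (matrixSet N)

lemma mem_commutant {N : Subgroup (GL ι F)} {M : Matrix ι ι F} :
    M ∈ commutant N ↔ ∀ g ∈ N, (g : Matrix ι ι F) * M = M * (g : Matrix ι ι F) := by
  simp [commutant, Subalgebra.mem_centralizer_iff, matrixSet]

/-- evaluation of a matrix at a vector -/
def evalAt (v : ι → F) : Matrix ι ι F →ₗ[F] (ι → F) where
  toFun M := M *ᵥ v
  map_add' A B := Matrix.add_mulVec A B v
  map_smul' c A := Matrix.smul_mulVec c A v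

variable [Finite F]

/-- Irreducible groups: the commutant is a field, and its degree divides the dimension. -/
lemma commutant_field {N : Subgroup (GL ι F)} (hN : Irred N) [Nonempty ι] :
    ∃ d, IsFieldSubalgebra d (commutant N) ∧ d ∣ Fintype.card ι ∧ 0 < d := by
  classical
  set C := commutant N with hC
  have hunit : ∀ x ∈ C, x ≠ 0 → x.det ≠ 0 := by
    intro x hx hx0 hdet
    obtain ⟨v, hv0, hv⟩ := Matrix.exists_mulVec_eq_zero_iff.2 hdet
    let W : Submodule F (ι → F) := LinearMap.ker (Matrix.toLin' x)
    have hW : Inv N W := by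
      intro g hg w hw
      simp only [W, LinearMap.mem_ker, Matrix.toLin'_apply] at hw ⊢
      rw [Matrix.mulVec_mulVec, ← (mem_commutant.1 hx) g hg, ← Matrix.mulVec_mulVec, hw,
        Matrix.mulVec_zero]
    rcases hN W hW with h | h
    · exact hv0 ((Submodule.eq_bot_iff W).1 h v (by simpa [W] using hv))
    · apply hx0
      apply Matrix.toLin'.injective
      rw [map_zero]
      exact LinearMap.ker_eq_top.1 h
  have : Finite C := inferInstance
  have hnz : NoZeroDivisors C := ⟨fun {a b} hab => by
    by_contra hne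
    push Not at hne
    have ha : (a : Matrix ι ι F) ≠ 0 := fun h => hne.1 (Subtype.ext h)
    have hb : (b : Matrix ι ι F) ≠ 0 := fun h => hne.2 (Subtype.ext h)
    have h0 := congrArg (fun z : C => (z : Matrix ι ι F).det) hab
    simp [Matrix.det_mul, hunit _ a.2 ha, hunit _ b.2 hb] at h0⟩
  have : IsDomain C := NoZeroDivisors.to_isDomain C
  have hfield : IsField C := Finite.isDomain_to_isField C
  refine ⟨Module.finrank F C, ⟨?_, ?_, rfl⟩, ?_, ?_⟩
  · intro x hx y hy
    exact congrArg Subtype.val (hfield.mul_comm ⟨x, hx⟩ ⟨y, hy⟩)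
  · intro x hx hx0
    obtain ⟨y, hy⟩ := hfield.mul_inv_cancel (a := ⟨x, hx⟩) (fun h => hx0 (congrArg Subtype.val h))
    exact ⟨y, y.2, congrArg Subtype.val hy⟩
  · -- greedy decomposition into copies
    set d := Module.finrank F C with hd
    suffices ∀ k, ∀ W : Submodule F (ι → F), (∀ c ∈ C, ∀ w ∈ W, c *ᵥ w ∈ W) →
        Fintype.card ι - Module.finrank F W ≤ k → d ∣ Fintype.card ι - Module.finrank F W by
      simpa using this (Fintype.card ι) ⊥ (fun c _ w hw => by simp [(Submodule.mem_bot F).1 hw])
        (Nat.sub_le _ _)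
    intro k
    induction k with
    | zero => intro W _ hk; simp [Nat.le_zero.1 hk]
    | succ k ih =>
      intro W hW hk
      by_cases htop : W = ⊤
      · subst htop
        simp
      obtain ⟨v, hv⟩ : ∃ v, v ∉ W := by
        by_contra hcon
        exact htop (eq_top_iff.2 fun v _ => not_not.1 fun hv => hcon ⟨v, hv⟩)
      let U : Submodule F (ι → F) := (Subalgebra.toSubmodule C).map (evalAt v)
      have hinj : ∀ c ∈ C, c *ᵥ v = 0 → c = 0 := by
        intro c hc h0
        by_contra hne
        exact hunit c hc hne (Matrix.exists_mulVec_eq_zero_iff.1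
          ⟨v, fun h => hv (h ▸ W.zero_mem), h0⟩)
      have hU : Module.finrank F U = d := by
        have hi : Function.Injective ((evalAt v).comp (Subalgebra.toSubmodule C).subtype) := by
          rw [← LinearMap.ker_eq_bot, LinearMap.ker_eq_bot']
          intro c hc
          exact Subtype.ext (hinj c c.2 hc)
        have he : U = LinearMap.range ((evalAt v).comp (Subalgebra.toSubmodule C).subtype) := by
          simp [U, LinearMap.range_comp]
        rw [he, LinearMap.finrank_range_of_inj hi]
        rfl
      have hWU : W ⊓ U = ⊥ := by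
        rw [eq_bot_iff]
        rintro x ⟨hxW, c, hc, rfl⟩
        change c *ᵥ v ∈ W at hxW
        by_cases hc0 : c = 0
        · simp [hc0]
        exfalso
        obtain ⟨y, hy⟩ := hfield.mul_inv_cancel (a := ⟨c, hc⟩) (fun h => hc0 (congrArg Subtype.val h))
        have hyc : (y : Matrix ι ι F) * c = 1 := by
          rw [hfield.mul_comm] at hy
          exact congrArg Subtype.val hy
        have := hW y y.2 _ hxW
        rw [Matrix.mulVec_mulVec, hyc, Matrix.one_mulVec] at this
        exact hv this
      have hsum := Submodule.finrank_sup_add_finrank_inf_eq W U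
      rw [hWU, finrank_bot, add_zero, hU] at hsum
      have hinv : ∀ c ∈ C, ∀ w ∈ W ⊔ U, c *ᵥ w ∈ W ⊔ U := by
        intro c hc w hw
        obtain ⟨w1, hw1, u, ⟨c', hc', rfl⟩, rfl⟩ := Submodule.mem_sup.1 hw
        rw [Matrix.mulVec_add]
        refine Submodule.add_mem_sup (hW c hc _ hw1) ⟨c * c', C.mul_mem hc hc', ?_⟩
        simp [evalAt, Matrix.mulVec_mulVec]
      have hle := Submodule.finrank_le (R := F) (W ⊔ U)
      simp only [Module.finrank_pi] at hle
      have hdpos : 0 < d := Module.finrank_pos
      have hr := ih (W ⊔ U) hinv (by omega)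
      have he : Fintype.card ι - Module.finrank F W =
          (Fintype.card ι - Module.finrank F ↥(W ⊔ U)) + d := by omega
      rw [he]
      exact Nat.dvd_add hr (dvd_refl d)
  · exact Module.finrank_pos

/-- common eigenspace of `N` for the function `χ` -/
def eigen (N : Subgroup (GL ι F)) (χ : N → F) : Submodule F (ι → F) where
  carrier := {v | ∀ g : N, ((g : GL ι F) : Matrix ι ι F) *ᵥ v = χ g • v}
  add_mem' {u v} hu hv g := by rw [Matrix.mulVec_add, hu g, hv g, smul_add]
  zero_mem' g := by simp
  smul_mem' c v hv g := by rw [Matrix.mulVec_smul, hv g, smul_comm]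

omit [Finite F] in
lemma mem_eigen {N : Subgroup (GL ι F)} {χ : N → F} {v : ι → F} :
    v ∈ eigen N χ ↔ ∀ g : N, ((g : GL ι F) : Matrix ι ι F) *ᵥ v = χ g • v := Iff.rfl

omit [Finite F] in
lemma eigen_indep (N : Subgroup (GL ι F)) {t : ℕ} (χ : Fin t → N → F) (hχ : Function.Injective χ) :
    iSupIndep fun i => eigen N (χ i) := by
  classical
  rw [iSupIndep_iff_finsetSum_eq_zero_imp_eq_zero]
  intro s
  induction s using Finset.induction with
  | empty => simp
  | @insert a s ha ih =>
    intro v hv hsum
    have key : ∀ g : N, ∀ i ∈ s, (χ i g - χ a g) • v i = 0 := by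
      intro g
      refine ih (fun i => (χ i g - χ a g) • v i)
        (fun i hi => Submodule.smul_mem _ _ (hv i (Finset.mem_insert_of_mem hi))) ?_
      have h1 := congrArg (fun w => ((g : GL ι F) : Matrix ι ι F) *ᵥ w) hsum
      simp only [Matrix.mulVec_sum, Matrix.mulVec_zero] at h1
      rw [Finset.sum_congr rfl (fun i hi => hv i hi g)] at h1
      have h2 : ∑ i ∈ insert a s, (χ i g - χ a g) • v i = 0 := by
        simp only [sub_smul, Finset.sum_sub_distrib, h1, ← Finset.smul_sum, hsum, smul_zero, sub_zero]
      simpa [Finset.sum_insert ha] using h2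
    have hs : ∀ i ∈ s, v i = 0 := by
      intro i hi
      obtain ⟨g, hg⟩ : ∃ g, χ i g ≠ χ a g :=
        Function.ne_iff.1 (fun h => ha (by rw [← hχ h]; exact hi))
      exact (smul_eq_zero.1 (key g i hi)).resolve_left (sub_ne_zero.2 hg)
    intro i hi
    rcases Finset.mem_insert.1 hi with rfl | hi
    · rw [Finset.sum_insert ha, Finset.sum_eq_zero hs, add_zero] at hsum
      exact hsum
    · exact hs i hi

omit [Finite F] in
lemma finrank_iSup_of_indep {κ : Type*} [Fintype κ] [DecidableEq κ]
    {p : κ → Submodule F (ι → F)} (h : iSupIndep p) (ht : iSup p = ⊤) :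
    ∑ i, Module.finrank F (p i) = Fintype.card ι := by
  have hI := DirectSum.isInternal_submodule_of_iSupIndep_of_iSup_eq_top h ht
  rw [← Module.finrank_pi F (ι := ι),
    ← (LinearEquiv.ofBijective (DirectSum.coeLinearMap p) hI).finrank_eq]
  simp [Module.finrank_directSum]

/-- an eigenvector for a normal subgroup of prime degree gives scalars or a stabilised line decomposition -/
lemma eigen_alternative (hn : (Fintype.card ι).Prime) {H N : Subgroup (GL ι F)} (hH : Irred H)
    (hnorm : NormalBy H N) {w : ι → F} (hw : w ≠ 0) {χ₀ : N → F} (hχ₀ : w ∈ eigen N χ₀) :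
    N ≤ scalars ι F ∨
    (Comm N ∧ ∃ D : Fin (Fintype.card ι) → Submodule F (ι → F), IsMDecomposition 1 D ∧
        H ≤ decompositionStabilizer D ∧
        ∃ χ : Fin (Fintype.card ι) → N → F, Function.Injective χ ∧ ∀ i, D i = eigen N (χ i)) := by
  classical
  have : Nonempty ι := Fintype.card_pos_iff.1 hn.pos
  -- conjugate functions
  let cj : H → N → N := fun h g => ⟨(h : GL ι F) * g * (h : GL ι F)⁻¹, hnorm _ h.2 _ g.2⟩
  have hmove : ∀ (h : H) (χ : N → F) (v : ι → F), v ∈ eigen N (fun g => χ (cj h g)) →
      ((h : GL ι F) : Matrix ι ι F) *ᵥ v ∈ eigen N χ := by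
    intro h χ v hv g
    have h1 := hv ⟨(h : GL ι F)⁻¹ * g * (h : GL ι F), by
      simpa using hnorm _ (H.inv_mem h.2) _ g.2⟩
    have h2 : cj h ⟨(h : GL ι F)⁻¹ * g * (h : GL ι F), by
      simpa using hnorm _ (H.inv_mem h.2) _ g.2⟩ = g := Subtype.ext (by simp [cj, mul_assoc])
    simp only [h2] at h1
    have h3 := congrArg (fun u => ((h : GL ι F) : Matrix ι ι F) *ᵥ u) h1
    simpa [Matrix.mulVec_mulVec, Matrix.mulVec_smul, mul_assoc] using h3
  have := Fintype.ofFinite (N → F)
  let X : Finset (N → F) := Finset.univ.filter (fun χ => eigen N χ ≠ ⊥)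
  have hmem0 : χ₀ ∈ X := by
    simp only [X, Finset.mem_filter, Finset.mem_univ, true_and]
    exact (Submodule.ne_bot_iff _).2 ⟨w, hχ₀, hw⟩
  have hfinN : Finite N := inferInstance
  -- enumerate
  let e : Fin X.card → (N → F) := fun i => (X.equivFin.symm i : N → F)
  have he : Function.Injective e := Subtype.val_injective.comp X.equivFin.symm.injective
  have hesurj : ∀ χ, eigen N χ ≠ ⊥ → ∃ i, e i = χ := fun χ hχ =>
    ⟨X.equivFin ⟨χ, by simp [X, hχ]⟩, by simp [e]⟩
  have hene : ∀ i, eigen N (e i) ≠ ⊥ := fun i => by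
    have := (X.equivFin.symm i).2
    simp only [X, Finset.mem_filter, Finset.mem_univ, true_and] at this
    exact this
  let D : Fin X.card → Submodule F (ι → F) := fun i => eigen N (e i)
  have hind : iSupIndep D := eigen_indep N e he
  -- H permutes the members
  have hperm : ∀ h : H, ∀ i, ∃ k, (D i).map (Matrix.toLin' ((h : GL ι F) : Matrix ι ι F)) = D k := by
    intro h i
    let χ' : N → F := fun g => e i (cj h⁻¹ g)
    have hcj : ∀ (a : H) (g : N), cj a⁻¹ (cj a g) = g := fun a g =>
      Subtype.ext (by simp [cj, mul_assoc])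
    have hle : ∀ v ∈ D i, ((h : GL ι F) : Matrix ι ι F) *ᵥ v ∈ eigen N χ' := fun v hv =>
      hmove h χ' v (by intro g; simp only [χ', hcj]; exact hv g)
    obtain ⟨v, hv, hv0⟩ := (Submodule.ne_bot_iff _).1 (hene i)
    obtain ⟨k, hk⟩ := hesurj χ' ((Submodule.ne_bot_iff _).2 ⟨_, hle v hv, fun h0 => hv0 (by
      simpa [h0] using (inv_mulVec_mulVec (h : GL ι F) v).symm)⟩)
    refine ⟨k, le_antisymm ?_ ?_⟩
    · rintro _ ⟨u, hu, rfl⟩
      show _ ∈ eigen N (e k)
      rw [hk]
      simpa using hle u hu
    · intro u hu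
      refine ⟨((((h⁻¹ : H) : GL ι F)) : Matrix ι ι F) *ᵥ u, hmove h⁻¹ (e i) u ?_, ?_⟩
      · intro g
        have := (show u ∈ eigen N (e k) from hu) g
        rwa [hk] at this
      · simp [Matrix.mulVec_mulVec]
  choose σ hσ using hperm
  have htop : iSup D = ⊤ := by
    refine (hH (iSup D) ?_).resolve_left ?_
    · intro h hh v hv
      have h1 : (iSup D).map (Matrix.toLin' (h : Matrix ι ι F)) ≤ iSup D := by
        rw [Submodule.map_iSup]
        exact iSup_le fun i => (hσ ⟨h, hh⟩ i).le.trans (le_iSup D _)
      simpa using h1 ⟨v, hv, rfl⟩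
    · obtain ⟨i, hi⟩ := hesurj χ₀ ((Submodule.ne_bot_iff _).2 ⟨w, hχ₀, hw⟩)
      exact fun h0 => hw ((Submodule.eq_bot_iff _).1 h0 w (le_iSup D i (by simpa [D, hi] using hχ₀)))
  have hsum := finrank_iSup_of_indep hind htop
  -- transitivity of H on the members
  have hdim : ∀ i k, Module.finrank F (D i) = Module.finrank F (D k) := by
    intro i k
    suffices ∃ h : H, σ h i = k by
      obtain ⟨h, rfl⟩ := this
      rw [← hσ h i, toLin'_eq_act]
      exact ((act (h : GL ι F)).finrank_map_eq _).symm
    by_contra hno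
    let O : Submodule F (ι → F) := ⨆ h : H, D (σ h i)
    have hO : Inv H O := by
      intro a ha v hv
      have h1 : O.map (Matrix.toLin' (a : Matrix ι ι F)) ≤ O := by
        rw [Submodule.map_iSup]
        refine iSup_le fun h => ?_
        have h2 : (D (σ h i)).map (Matrix.toLin' (a : Matrix ι ι F)) = D (σ (⟨a, ha⟩ * h) i) := by
          rw [← hσ h i, ← hσ (⟨a, ha⟩ * h) i, ← Submodule.map_comp, ← Matrix.toLin'_mul]
          rfl
        exact h2.le.trans (le_iSup (fun h : H => D (σ h i)) _)
      simpa using h1 ⟨v, hv, rfl⟩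
    rcases hH O hO with h | h
    · have : D (σ 1 i) ≤ ⊥ := h ▸ le_iSup (fun h : H => D (σ h i)) 1
      exact hene _ (le_bot_iff.1 this)
    · have h1 : O ≤ ⨆ j ≠ k, D j := iSup_le fun a =>
        le_iSup₂_of_le (σ a i) (fun hh => hno ⟨a, hh⟩) le_rfl
      have h2 : D k ≤ ⊥ := by
        have := hind k
        rw [h, top_le_iff] at h1
        rw [h1] at this
        exact disjoint_top.1 this |>.le
      exact hene k (le_bot_iff.1 h2)
  have hpos : 0 < X.card := Finset.card_pos.2 ⟨χ₀, hmem0⟩
  let i₀ : Fin X.card := ⟨0, hpos⟩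
  rw [Finset.sum_congr rfl (fun i _ => hdim i i₀), Finset.sum_const, Finset.card_univ, Fintype.card_fin,
    smul_eq_mul] at hsum
  rcases (Nat.dvd_prime hn).1 ⟨_, hsum.symm⟩ with h1 | h1
  · refine Or.inl fun g hg => ?_
    have hall : ∀ v : ι → F, (g : Matrix ι ι F) *ᵥ v = e i₀ ⟨g, hg⟩ • v := by
      intro v
      have : v ∈ iSup D := htop ▸ Submodule.mem_top
      have hle : iSup D ≤ D i₀ := iSup_le fun i => (le_of_eq (congrArg D (Fin.ext (by omega))))
      exact (hle this) ⟨g, hg⟩
    refine mem_scalars_of_comm (c := e i₀ ⟨g, hg⟩) ?_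
    apply Matrix.toLin'.injective
    refine LinearMap.ext fun v => ?_
    simpa [Matrix.smul_mulVec] using hall v
  · refine Or.inr ⟨?_, ?_⟩
    · intro x hx y hy
      apply Units.ext
      apply Matrix.toLin'.injective
      refine LinearMap.ext fun v => ?_
      have : v ∈ iSup D := htop ▸ Submodule.mem_top
      simp only [Units.val_mul, Matrix.toLin'_apply]
      induction this using Submodule.iSup_induction' with
      | mem i u hu =>
        have ex := hu ⟨x, hx⟩
        have ey := hu ⟨y, hy⟩
        simp only at ex ey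
        simp only [← Matrix.mulVec_mulVec, ex, ey, Matrix.mulVec_smul, smul_smul, mul_comm]
      | zero => simp
      | add u v _ _ hu hv => simp only [Matrix.mulVec_add, hu, hv]
    · have hone : Module.finrank F (D i₀) = 1 := by
        rw [h1] at hsum
        exact (Nat.mul_eq_left hn.pos.ne').1 hsum
      refine ⟨fun i => D (Fin.cast h1.symm i), ?_, ?_,
        fun i => e (Fin.cast h1.symm i), he.comp (Fin.cast_injective _), fun i => rfl⟩
      · refine ⟨hn.two_le, Nat.one_pos, fun i => (hdim _ i₀).trans hone,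
          hind.comp (Fin.cast_injective _), ?_⟩
        exact (Function.Surjective.iSup_comp (g := D)
          (fun i => ⟨Fin.cast h1 i, by simp⟩) : (⨆ i, D (Fin.cast h1.symm i)) = _).trans htop
      · intro a ha
        let τ : Fin (Fintype.card ι) → Fin (Fintype.card ι) :=
          fun i => Fin.cast h1 (σ ⟨a, ha⟩ (Fin.cast h1.symm i))
        have hτ : Function.Injective τ := by
          intro i j hij
          have h2 : σ ⟨a, ha⟩ (Fin.cast h1.symm i) = σ ⟨a, ha⟩ (Fin.cast h1.symm j) :=
            Fin.cast_injective _ hij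
          have h3 := hσ ⟨a, ha⟩ (Fin.cast h1.symm i)
          rw [h2, ← hσ ⟨a, ha⟩ (Fin.cast h1.symm j), toLin'_eq_act] at h3
          have h4 := Submodule.map_injective_of_injective (act (a : GL ι F)).injective h3
          by_contra hne
          have h5 := hind.pairwiseDisjoint
            (i := Fin.cast h1.symm i) (j := Fin.cast h1.symm j) (fun h => hne (Fin.cast_injective _ h))
          rw [Function.onFun, h4, disjoint_self] at h5
          exact hene _ h5
        exact ⟨Equiv.ofBijective τ (Finite.injective_iff_bijective.1 hτ), fun i => by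
          simpa [τ] using hσ ⟨a, ha⟩ (Fin.cast h1.symm i)⟩

/-- The Clifford alternative in prime degree. -/
theorem alternative (hn : (Fintype.card ι).Prime) {H N : Subgroup (GL ι F)} (hH : Irred H)
    (hnorm : NormalBy H N) :
    N ≤ scalars ι F ∨ AbsIrred N ∨ (Comm N ∧
      ((∃ D : Fin (Fintype.card ι) → Submodule F (ι → F), IsMDecomposition 1 D ∧
          H ≤ decompositionStabilizer D ∧
          ∃ χ : Fin (Fintype.card ι) → N → F, Function.Injective χ ∧ ∀ i, D i = eigen N (χ i)) ∨
       (∃ K, IsFieldSubalgebra (Fintype.card ι) K ∧ H ≤ subalgebraNormalizer K ∧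
          K = commutant N ∧ matrixSet N ⊆ (K : Set (Matrix ι ι F))))) := by
  classical
  have : Nonempty ι := Fintype.card_pos_iff.1 hn.pos
  by_cases hN : Irred N
  · obtain ⟨d, hd, hdn, -⟩ := commutant_field hN
    rcases (Nat.dvd_prime hn).1 hdn with rfl | rfl
    · refine Or.inr (Or.inl (AbsIrred.mk' hN fun M hM => ?_))
      have h1 : commutant N = ⊥ := Subalgebra.eq_bot_of_finrank_one hd.finrank_eq
      have h2 : M ∈ (⊥ : Subalgebra F (Matrix ι ι F)) :=
        h1 ▸ mem_commutant.2 (fun g hg => (hM g hg).symm)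
      obtain ⟨c, hc⟩ := Algebra.mem_bot.1 h2
      exact ⟨c, by rw [← hc, Algebra.algebraMap_eq_smul_one]⟩
    · obtain ⟨i⟩ := ‹Nonempty ι›
      let v : ι → F := Pi.single i 1
      let E : (commutant N) →ₗ[F] (ι → F) :=
        (evalAt v).comp (Subalgebra.toSubmodule (commutant N)).subtype
      have hinj : Function.Injective E := by
        rw [← LinearMap.ker_eq_bot, LinearMap.ker_eq_bot']
        intro c hc
        by_contra hne
        obtain ⟨y, -, hy⟩ := hd.inv c c.2 (fun h => hne (Subtype.ext h))
        have hy' := mul_eq_one_comm.1 hy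
        have := congrArg (fun u => y *ᵥ u) (show (c : Matrix ι ι F) *ᵥ v = 0 from hc)
        simp [Matrix.mulVec_mulVec, hy'] at this
        exact one_ne_zero (α := F) (by simpa [v] using congrFun this i)
      have hsurj : Function.Surjective E := by
        refine (LinearMap.injective_iff_surjective_of_finrank_eq_finrank ?_).1 hinj
        rw [hd.finrank_eq, Module.finrank_pi]
      have hin : matrixSet N ⊆ (commutant N : Set (Matrix ι ι F)) := by
        rintro _ ⟨g, hg, rfl⟩
        obtain ⟨M, hM⟩ := hsurj ((g : Matrix ι ι F) *ᵥ v)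
        change (M : Matrix ι ι F) *ᵥ v = _ at hM
        have : (g : Matrix ι ι F) = (M : Matrix ι ι F) := by
          apply Matrix.toLin'.injective
          refine LinearMap.ext fun u => ?_
          obtain ⟨M', hM'⟩ := hsurj u
          change (M' : Matrix ι ι F) *ᵥ v = u at hM'
          rw [Matrix.toLin'_apply, Matrix.toLin'_apply, ← hM', Matrix.mulVec_mulVec,
            mem_commutant.1 M'.2 g hg, ← Matrix.mulVec_mulVec, ← hM, Matrix.mulVec_mulVec,
            Matrix.mulVec_mulVec, hd.comm _ M.2 _ M'.2]
        show (g : Matrix ι ι F) ∈ commutant N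
        rw [this]
        exact M.2
      refine Or.inr (Or.inr ⟨?_, Or.inr ⟨commutant N, hd, ?_, rfl, hin⟩⟩)
      · intro x hx y hy
        exact Units.ext (by simpa using hd.comm _ (hin ⟨x, hx, rfl⟩) _ (hin ⟨y, hy, rfl⟩))
      · intro h hh k
        constructor
        · intro hk
          refine mem_commutant.2 fun g hg => ?_
          have hg' := mem_commutant.1 hk _ (show h⁻¹ * g * h ∈ N by
            simpa using hnorm _ (H.inv_mem hh) g hg)
          simp only [Units.val_mul] at hg'
          have h3 := congrArg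
            (fun A => (h : Matrix ι ι F) * A * ((h⁻¹ : GL ι F) : Matrix ι ι F)) hg'
          simpa [mul_assoc] using h3
        · intro hk
          refine mem_commutant.2 fun g hg => ?_
          have hg' := mem_commutant.1 hk _ (hnorm h hh g hg)
          simp only [Units.val_mul] at hg'
          have h3 := congrArg
            (fun A => ((h⁻¹ : GL ι F) : Matrix ι ι F) * A * (h : Matrix ι ι F)) hg'
          simpa [mul_assoc] using h3
  · -- reducible: find a common eigenvector of N
    obtain ⟨W₀, hW₀i, hW₀b, hW₀t⟩ : ∃ W, Inv N W ∧ W ≠ ⊥ ∧ W ≠ ⊤ := by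
      unfold Irred at hN
      push Not at hN
      exact hN
    obtain ⟨W, ⟨hWi, hWb⟩, hmin⟩ := wellFounded_lt.has_min
      {W : Submodule F (ι → F) | Inv N W ∧ W ≠ ⊥} ⟨W₀, hW₀i, hW₀b⟩
    have hmin' : ∀ U, Inv N U → U ≤ W → U = ⊥ ∨ U = W := by
      intro U hU hle
      by_cases hb : U = ⊥
      · exact Or.inl hb
      rcases hle.lt_or_eq with h | h
      · exact absurd h (hmin U ⟨hU, hb⟩)
      · exact Or.inr h
    set d := Module.finrank F W with hd
    have hdpos : 0 < d := Submodule.one_le_finrank_iff.2 hWb
    -- greedy sum of translates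
    have key : ∀ k, ∀ U : Submodule F (ι → F), Inv N U → Fintype.card ι - Module.finrank F U ≤ k →
        d ∣ Fintype.card ι - Module.finrank F U := by
      intro k
      induction k with
      | zero => intro U _ hk; simp [Nat.le_zero.1 hk]
      | succ k ih =>
        intro U hU hk
        by_cases htop : U = ⊤
        · subst htop
          simp
        have hex : ∃ h : H, ¬ W.map (act (h : GL ι F) : (ι → F) →ₗ[F] (ι → F)) ≤ U := by
          by_contra hcon
          let S : Submodule F (ι → F) := ⨆ h : H, W.map (act (h : GL ι F) : (ι → F) →ₗ[F] (ι → F))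
          have hS : Inv H S := by
            intro a ha v hv
            have h1 : S.map (act a : (ι → F) →ₗ[F] (ι → F)) ≤ S := by
              rw [Submodule.map_iSup]
              refine iSup_le fun h => ?_
              rw [← Submodule.map_comp]
              refine le_trans (le_of_eq ?_)
                (le_iSup (fun h : H => W.map (act (h : GL ι F) : (ι → F) →ₗ[F] (ι → F))) (⟨a, ha⟩ * h))
              congr 1
              exact LinearMap.ext fun x => (act_mul a (h : GL ι F) x).symm
            simpa using h1 ⟨v, hv, rfl⟩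
          rcases hH S hS with h | h
          · obtain ⟨w, hw, hw0⟩ := (Submodule.ne_bot_iff W).1 hWb
            refine hw0 ((Submodule.eq_bot_iff S).1 h w ?_)
            exact le_iSup (fun h : H => W.map (act (h : GL ι F) : (ι → F) →ₗ[F] (ι → F))) 1
              ⟨w, hw, by simp⟩
          · refine htop (top_le_iff.1 (h.ge.trans (iSup_le fun a => ?_)))
            exact not_not.1 fun hh => hcon ⟨a, hh⟩
        obtain ⟨h, hnle⟩ := hex
        set W' := W.map (act (h : GL ι F) : (ι → F) →ₗ[F] (ι → F)) with hW'
        have hW'i : Inv N W' := by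
          rintro g hg _ ⟨w, hw, rfl⟩
          refine ⟨(((h : GL ι F)⁻¹ * g * (h : GL ι F) : GL ι F) : Matrix ι ι F) *ᵥ w, hWi _ ?_ w hw, ?_⟩
          · simpa using hnorm _ (H.inv_mem h.2) g hg
          · simp [Matrix.mulVec_mulVec, mul_assoc]
        have hUW : U ⊓ W' = ⊥ := by
          have hcom : Inv N ((U ⊓ W').comap (act (h : GL ι F) : (ι → F) →ₗ[F] (ι → F))) := by
            intro g hg v hv
            have hg2 := hnorm _ h.2 g hg
            simp only [Submodule.mem_comap, LinearEquiv.coe_coe, act_apply, Submodule.mem_inf] at hv ⊢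
            have e : ((h : GL ι F) : Matrix ι ι F) *ᵥ ((g : Matrix ι ι F) *ᵥ v) =
                (((h : GL ι F) * g * (h : GL ι F)⁻¹ : GL ι F) : Matrix ι ι F) *ᵥ
                  (((h : GL ι F) : Matrix ι ι F) *ᵥ v) := by
              simp [Matrix.mulVec_mulVec, mul_assoc]
            rw [e]
            exact ⟨hU _ hg2 _ hv.1, hW'i _ hg2 _ hv.2⟩
          have hle : (U ⊓ W').comap (act (h : GL ι F) : (ι → F) →ₗ[F] (ι → F)) ≤ W := by
            intro v hv
            obtain ⟨w, hw, hwv⟩ := (Submodule.mem_inf.1 hv).2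
            exact (act (h : GL ι F)).injective hwv ▸ hw
          rcases hmin' _ hcom hle with h1 | h1
          · rw [eq_bot_iff]
            intro x hx
            have : (act (h : GL ι F)).symm x ∈ (⊥ : Submodule F (ι → F)) := by
              rw [← h1]
              simpa using hx
            simpa using this
          · exfalso
            apply hnle
            rintro _ ⟨w, hw, rfl⟩
            have : w ∈ (U ⊓ W').comap (act (h : GL ι F) : (ι → F) →ₗ[F] (ι → F)) := h1 ▸ hw
            exact (Submodule.mem_inf.1 this).1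
        have hsum := Submodule.finrank_sup_add_finrank_inf_eq U W'
        rw [hUW, finrank_bot, add_zero, hW', (act (h : GL ι F)).finrank_map_eq] at hsum
        rw [← hW'] at hsum
        have hinv : Inv N (U ⊔ W') := by
          intro g hg v hv
          obtain ⟨a, ha, b, hb, rfl⟩ := Submodule.mem_sup.1 hv
          rw [Matrix.mulVec_add]
          exact Submodule.add_mem_sup (hU g hg a ha) (hW'i g hg b hb)
        have hle' := Submodule.finrank_le (R := F) (U ⊔ W')
        simp only [Module.finrank_pi] at hle'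
        have hr := ih (U ⊔ W') hinv (by omega)
        have he : Fintype.card ι - Module.finrank F U =
            (Fintype.card ι - Module.finrank F ↥(U ⊔ W')) + d := by omega
        rw [he]
        exact Nat.dvd_add hr (dvd_refl d)
    have hdvd : d ∣ Fintype.card ι := by
      simpa using key (Fintype.card ι) ⊥ (inv_bot N) (Nat.sub_le _ _)
    have hdlt : d < Fintype.card ι := by
      have h1 : ¬ W₀ < W := hmin W₀ ⟨hW₀i, hW₀b⟩
      have h2 : W ≠ ⊤ := fun h => h1 (h ▸ lt_top_iff_ne_top.2 hW₀t)
      simpa using Submodule.finrank_lt h2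
    have hd1 : d = 1 := ((Nat.dvd_prime hn).1 hdvd).resolve_right hdlt.ne
    obtain ⟨⟨w, hw⟩, hw0, hspan⟩ := finrank_eq_one_iff'.1 hd1
    have hspan' : ∀ g : N, ∃ c : F, c • w = ((g : GL ι F) : Matrix ι ι F) *ᵥ w := by
      intro g
      obtain ⟨c, hc⟩ := hspan ⟨_, hWi _ g.2 w hw⟩
      exact ⟨c, congrArg Subtype.val hc⟩
    choose χ hχ using hspan'
    rcases eigen_alternative hn hH hnorm (w := w) (fun h => hw0 (Subtype.ext h))
        (χ₀ := χ) (fun g => (hχ g).symm) with h | ⟨h1, h2⟩
    · exact Or.inl h
    · exact Or.inr (Or.inr ⟨h1, Or.inl h2⟩)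

end Cfsg.Agent.AschPrimeClifford
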