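/-
Aschbacher's theorem in prime dimension, part 3: an absolutely irreducible group of odd prime degree and
determinant one whose commutators are scalar is extraspecial of order n^3 and monomial over the n-th roots of
unity.
-/
import Cfsg.Agent.Lib.AschPrimeClifford

set_option autoImplicit false

namespace Cfsg.Agent.AschPrimeExtra

open scoped Matrix commutatorElement
open Cfsg Cfsg.Geo Cfsg.Agent.AschPrimeBasic Cfsg.Agent.AschPrimeClifford

variable {ι : Type} [Fintype ι] [DecidableEq ι] {F : Type*} [Field F]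

/-- monomial matrix with all non-zero entries `n`-th roots of unity -/
def IsMono (n : ℕ) (M : Matrix ι ι F) : Prop :=
  ∃ (π : Equiv.Perm ι) (a : ι → F), (∀ i, a i ^ n = 1) ∧ ∀ k i, M k i = if k = π i then a i else 0

lemma isMono_mul {n : ℕ} {M M' : Matrix ι ι F} (h : IsMono n M) (h' : IsMono n M') :
    IsMono n (M * M') := by
  obtain ⟨π, a, ha, hM⟩ := h
  obtain ⟨π', a', ha', hM'⟩ := h'
  refine ⟨π'.trans π, fun i => a (π' i) * a' i, fun i => by rw [mul_pow, ha, ha', one_mul], fun k i => ?_⟩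
  rw [Matrix.mul_apply, Finset.sum_eq_single (π' i)]
  · rw [hM, hM']; simp; congr
  · intro j _ hj
    simp [hM', hj]
  · simp

omit [Fintype ι] in
lemma isMono_one (n : ℕ) : IsMono n (1 : Matrix ι ι F) :=
  ⟨Equiv.refl ι, fun _ => 1, fun _ => one_pow n, fun k i => by simp [Matrix.one_apply]; congr⟩

lemma isMono_pow {n : ℕ} {M : Matrix ι ι F} (h : IsMono n M) (k : ℕ) : IsMono n (M ^ k) := by
  induction k with
  | zero => simpa using isMono_one n
  | succ k ih => rw [pow_succ]; exact isMono_mul ih h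

/-- `g` and `h` commute up to the scalar `s` -/
def Cm (g h : GL ι F) (s : F) : Prop :=
  (g : Matrix ι ι F) * (h : Matrix ι ι F) = s • ((h : Matrix ι ι F) * (g : Matrix ι ι F))

lemma Cm.mul_right {g h k : GL ι F} {s t : F} (h1 : Cm g h s) (h2 : Cm g k t) : Cm g (h * k) (s * t) := by
  unfold Cm at *
  rw [Units.val_mul, ← mul_assoc, h1, Matrix.smul_mul, mul_assoc (h : Matrix ι ι F), h2, Matrix.mul_smul,
    smul_smul, mul_assoc]

lemma Cm.pow_right {g h : GL ι F} {s : F} (h1 : Cm g h s) (k : ℕ) : Cm g (h ^ k) (s ^ k) := by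
  induction k with
  | zero => simp [Cm]
  | succ k ih => rw [pow_succ, pow_succ]; exact ih.mul_right h1

lemma Cm.comm {g h : GL ι F} (h1 : g * h = h * g) : Cm g h 1 := by
  simpa [Cm] using congrArg Units.val h1

lemma Cm.comm_iff {g h : GL ι F} : Cm g h 1 ↔ g * h = h * g := by
  simp [Cm, Units.ext_iff]

lemma Cm.unique [Nonempty ι] {g h : GL ι F} {s t : F} (h1 : Cm g h s) (h2 : Cm g h t) : s = t := by
  unfold Cm at *
  rw [h1] at h2
  by_contra hne
  have h3 : (s - t) • ((h : Matrix ι ι F) * (g : Matrix ι ι F)) = 0 := by rw [sub_smul, h2, sub_self]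
  rcases smul_eq_zero.1 h3 with h4 | h4
  · exact hne (sub_eq_zero.1 h4)
  · exact (h * g).ne_zero (by rwa [Units.val_mul])

lemma Cm.ne_zero [Nonempty ι] {g h : GL ι F} {s : F} (h1 : Cm g h s) : s ≠ 0 := by
  rintro rfl
  unfold Cm at h1
  rw [zero_smul, ← Units.val_mul] at h1
  exact (g * h).ne_zero h1

lemma Cm.symm [Nonempty ι] {g h : GL ι F} {s : F} (h1 : Cm g h s) : Cm h g s⁻¹ := by
  have hs := h1.ne_zero
  unfold Cm at *
  rw [h1, smul_smul, inv_mul_cancel₀ hs, one_smul]

lemma cm_pow_eq_one [Nonempty ι] {g h : GL ι F} {s : F} (h1 : Cm g h s) : s ^ Fintype.card ι = 1 := by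
  have h2 := congrArg Matrix.det h1
  rw [Matrix.det_mul, Matrix.det_smul, Matrix.det_mul, mul_comm (Matrix.det (h : Matrix ι ι F))] at h2
  have hne : (g : Matrix ι ι F).det * (h : Matrix ι ι F).det ≠ 0 :=
    mul_ne_zero (Matrix.isUnits_det_units g).ne_zero (Matrix.isUnits_det_units h).ne_zero
  exact mul_right_cancel₀ hne (by rw [one_mul]; exact h2.symm)

lemma exists_cm {N : Subgroup (GL ι F)} (hc : ∀ g ∈ N, ∀ h ∈ N, ⁅g, h⁆ ∈ scalars ι F)
    {g h : GL ι F} (hg : g ∈ N) (hh : h ∈ N) : ∃ s, Cm g h s := by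
  obtain ⟨s, hs⟩ := (mem_scalars_iff _).1 (hc g hg h hh)
  refine ⟨(s : F), ?_⟩
  have h1 : g * h = ⁅g, h⁆ * (h * g) := by simp [commutatorElement_def, mul_assoc]
  unfold Cm
  rw [← Units.val_mul, h1, Units.val_mul, hs, Matrix.smul_mul, one_mul, Units.val_mul]

variable [Nonempty ι]

/-- the powers of an element moved to scalar multiples of themselves by conjugation are independent -/
lemma pow_indep {x y : GL ι F} {c : F} (hyx : Cm y x c) (hprim : IsPrimitiveRoot c (Fintype.card ι)) :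
    LinearIndependent F (fun k : Fin (Fintype.card ι) => (x : Matrix ι ι F) ^ (k : ℕ)) := by
  refine Module.End.eigenvectors_linearIndependent'
    (LinearMap.mulLeft F (y : Matrix ι ι F) ∘ₗ
      LinearMap.mulRight F ((y⁻¹ : GL ι F) : Matrix ι ι F))
    (fun k : Fin (Fintype.card ι) => c ^ (k : ℕ)) ?_ _ ?_
  · intro i j hij
    exact Fin.ext (hprim.pow_inj i.2 j.2 hij)
  · intro k
    refine ⟨?_, ?_⟩
    · rw [Module.End.mem_eigenspace_iff]
      show (y : Matrix ι ι F) * ((x : Matrix ι ι F) ^ (k : ℕ) * ((y⁻¹ : GL ι F) : Matrix ι ι F)) = _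
      have h1 := hyx.pow_right (k : ℕ)
      unfold Cm at h1
      rw [Units.val_pow_eq_pow_val] at h1
      rw [← mul_assoc, h1, Matrix.smul_mul, mul_assoc, ← Units.val_mul, mul_inv_cancel, Units.val_one,
        mul_one]
    · show (x : Matrix ι ι F) ^ (k : ℕ) ≠ 0
      rw [← Units.val_pow_eq_pow_val]
      exact (x ^ (k : ℕ)).ne_zero

/-- if `x` has scalar `n`-th power and independent lower powers, its characteristic polynomial is `X^n - c₀` -/
lemma charpoly_eq {x : GL ι F} {c₀ : F}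
    (hind : LinearIndependent F (fun k : Fin (Fintype.card ι) => (x : Matrix ι ι F) ^ (k : ℕ)))
    (hpow : (x : Matrix ι ι F) ^ Fintype.card ι = c₀ • 1) :
    (x : Matrix ι ι F).charpoly = Polynomial.X ^ Fintype.card ι - Polynomial.C c₀ := by
  have hint : IsIntegral F (x : Matrix ι ι F) := Algebra.IsIntegral.isIntegral _
  set q := minpoly F (x : Matrix ι ι F) with hq
  have hqm : q.Monic := minpoly.monic hint
  have hnq : Fintype.card ι ≤ q.natDegree := by
    by_contra hlt
    push Not at hlt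
    have h1 := Polynomial.aeval_eq_sum_range' hlt (x : Matrix ι ι F)
    rw [hq, minpoly.aeval, ← Fin.sum_univ_eq_sum_range] at h1
    have h2 := Fintype.linearIndependent_iff.1 hind (fun k => q.coeff k) h1.symm
      ⟨q.natDegree, hlt⟩
    exact one_ne_zero (α := F) (by rw [← hqm.coeff_natDegree]; exact h2)
  have hdvd : q ∣ Polynomial.X ^ Fintype.card ι - Polynomial.C c₀ := by
    refine minpoly.dvd F _ ?_
    simp [hpow, Algebra.algebraMap_eq_smul_one]
  have e1 := Polynomial.eq_of_monic_of_dvd_of_natDegree_le hqm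
    (Polynomial.monic_X_pow_sub_C c₀ Fintype.card_ne_zero) hdvd
    (by rw [Polynomial.natDegree_X_pow_sub_C]; exact hnq)
  have e2 := Polynomial.eq_of_monic_of_dvd_of_natDegree_le hqm (Matrix.charpoly_monic _)
    (Matrix.minpoly_dvd_charpoly _) (by rw [Matrix.charpoly_natDegree_eq_dim]; exact hnq)
  rw [e1, ← e2]

/-- hypotheses of the class-2 analysis -/
structure Data (N : Subgroup (GL ι F)) : Prop where
  prime : (Fintype.card ι).Prime
  odd : Odd (Fintype.card ι)
  sl : N ≤ specialLinear ι F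
  abs : AbsIrred N
  comm : ∀ g ∈ N, ∀ h ∈ N, ⁅g, h⁆ ∈ scalars ι F

lemma Data.scalar_pow {N : Subgroup (GL ι F)} (hN : Data N) {g : GL ι F} (hg : g ∈ N)
    (hgs : g ∈ scalars ι F) : g ^ Fintype.card ι = 1 := by
  obtain ⟨s, hs⟩ := (mem_scalars_iff _).1 hgs
  have h1 := (mem_sl_iff g).1 (hN.sl hg)
  rw [hs, Matrix.det_smul, Matrix.det_one, mul_one] at h1
  apply Units.ext
  rw [Units.val_pow_eq_pow_val, hs, smul_pow, one_pow, h1, one_smul, Units.val_one]

lemma Data.pow_eq_one {N : Subgroup (GL ι F)} (hN : Data N) {g : GL ι F} (hg : g ∈ N) :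
    g ^ Fintype.card ι = 1 := by
  by_cases hgs : g ∈ scalars ι F
  · exact hN.scalar_pow hg hgs
  obtain ⟨y, hy, hne⟩ : ∃ y ∈ N, g * y ≠ y * g := by
    by_contra hcon
    push Not at hcon
    exact hgs (hN.abs.scalar_of_comm hcon)
  obtain ⟨c, hc⟩ := exists_cm hN.comm hy hg
  have hcn := cm_pow_eq_one hc
  have hc1 : c ≠ 1 := fun h => hne ((Cm.comm_iff.1 (h ▸ hc)).symm)
  haveI : Fact (Fintype.card ι).Prime := ⟨hN.prime⟩
  have hprim : IsPrimitiveRoot c (Fintype.card ι) := IsPrimitiveRoot.iff_orderOf.2 (orderOf_eq_prime hcn hc1)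
  have hgn : g ^ Fintype.card ι ∈ scalars ι F := by
    refine hN.abs.scalar_of_comm fun z hz => ?_
    obtain ⟨s, hs⟩ := exists_cm hN.comm hz hg
    have h1 := hs.pow_right (Fintype.card ι)
    rw [cm_pow_eq_one hs] at h1
    exact (Cm.comm_iff.1 h1).symm
  obtain ⟨c₀, hc₀⟩ := (mem_scalars_iff _).1 hgn
  rw [Units.val_pow_eq_pow_val] at hc₀
  have hcp := charpoly_eq (pow_indep hc hprim) hc₀
  have hdet := Matrix.det_eq_sign_charpoly_coeff (g : Matrix ι ι F)
  rw [hcp, (mem_sl_iff g).1 (hN.sl hg), hN.odd.neg_one_pow] at hdet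
  simp [hN.prime.ne_zero.symm, Polynomial.coeff_X_pow] at hdet
  apply Units.ext
  rw [Units.val_pow_eq_pow_val, hc₀, ← hdet, one_smul, Units.val_one]

/-- the conclusion of the class-2 analysis: `ζ` is a primitive root, and in the basis given by the columns of `B`
all elements are monomial with root of unity entries, and a diagonal element with distinct entries occurs. -/
structure Extra (N : Subgroup (GL ι F)) (ζ : F) (B : GL ι F) : Prop where
  prim : IsPrimitiveRoot ζ (Fintype.card ι)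
  card_eq : Nat.card N = Fintype.card ι ^ 3
  center_eq : Nat.card (Subgroup.center N) = Fintype.card ι
  exponent_eq : Monoid.exponent N = Fintype.card ι
  mono : ∀ g ∈ N, IsMono (Fintype.card ι) ((B⁻¹ * g * B : GL ι F) : Matrix ι ι F)
  diag : ∃ x ∈ N, ∃ d : ι → F, Function.Injective d ∧
    ((B⁻¹ * x * B : GL ι F) : Matrix ι ι F) = Matrix.diagonal d

theorem Data.extra {N : Subgroup (GL ι F)} (hN : Data N) (hnc : ¬ Comm N) :
    ∃ ζ B, Extra N ζ B := by
  classical
  obtain ⟨x, hx, y, hy, hne⟩ : ∃ x ∈ N, ∃ y ∈ N, x * y ≠ y * x := by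
    unfold Comm at hnc
    push Not at hnc
    exact hnc
  obtain ⟨ζ, hxy⟩ := exists_cm hN.comm hx hy
  haveI : Fact (Fintype.card ι).Prime := ⟨hN.prime⟩
  have hζn := cm_pow_eq_one hxy
  have hζ1 : ζ ≠ 1 := fun h => hne (Cm.comm_iff.1 (h ▸ hxy))
  have hprim : IsPrimitiveRoot ζ (Fintype.card ι) := IsPrimitiveRoot.iff_orderOf.2 (orderOf_eq_prime hζn hζ1)
  have hyx := hxy.symm
  have hprim' : IsPrimitiveRoot ζ⁻¹ (Fintype.card ι) := hprim.inv
  set n := Fintype.card ι with hn
  have hnpos : 0 < n := hN.prime.pos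
  haveI : NeZero n := ⟨hN.prime.ne_zero⟩
  -- a fixed vector of x
  have hxn := hN.pow_eq_one hx
  have hyn := hN.pow_eq_one hy
  have hcp : (x : Matrix ι ι F).charpoly = Polynomial.X ^ n - Polynomial.C 1 :=
    charpoly_eq (pow_indep hyx hprim') (by rw [one_smul, ← Units.val_pow_eq_pow_val, hxn, Units.val_one])
  obtain ⟨v, hv0, hv⟩ : ∃ v : ι → F, v ≠ 0 ∧ (x : Matrix ι ι F) *ᵥ v = v := by
    have h1 := Matrix.eval_charpoly (x : Matrix ι ι F) 1
    rw [hcp] at h1
    simp at h1
    obtain ⟨v, hv0, hv⟩ := Matrix.exists_mulVec_eq_zero_iff.2 h1.symm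
    refine ⟨v, hv0, ?_⟩
    rw [Matrix.sub_mulVec, Matrix.one_mulVec, sub_eq_zero] at hv
    exact hv.symm
  -- the basis
  let b : ℕ → (ι → F) := fun k => ((y ^ k : GL ι F) : Matrix ι ι F) *ᵥ v
  have hxb : ∀ k, (x : Matrix ι ι F) *ᵥ b k = ζ ^ k • b k := by
    intro k
    have h1 := hxy.pow_right k
    unfold Cm at h1
    simp only [b, Matrix.mulVec_mulVec, h1, Matrix.smul_mulVec]
    rw [← Matrix.mulVec_mulVec, hv]
  have hb0 : ∀ k, b k ≠ 0 := fun k h => hv0 (by
    have := inv_mulVec_mulVec (y ^ k) v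
    simp only [b] at h
    rw [h, Matrix.mulVec_zero] at this
    exact this.symm)
  let eN : ι ≃ Fin n := Fintype.equivFin ι
  have hli : LinearIndependent F (fun i => b (eN i : ℕ)) :=
    Module.End.eigenvectors_linearIndependent' (Matrix.toLin' (x : Matrix ι ι F))
      (fun i => ζ ^ (eN i : ℕ))
      (fun i j hij => eN.injective (Fin.ext (hprim.pow_inj (eN i).2 (eN j).2 hij))) _
      (fun i => ⟨by rw [Module.End.mem_eigenspace_iff, Matrix.toLin'_apply, hxb], hb0 _⟩)
  let Bm : Matrix ι ι F := Matrix.of fun r i => b (eN i : ℕ) r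
  have hBdet : Bm.det ≠ 0 := by
    have h1 : IsUnit Bm := Matrix.linearIndependent_cols_iff_isUnit.1 hli
    exact ((Matrix.isUnit_iff_isUnit_det _).1 h1).ne_zero
  let B : GL ι F := Matrix.GeneralLinearGroup.mkOfDetNeZero Bm hBdet
  have hBcol : ∀ (M : Matrix ι ι F) (i r : ι), (M * Bm) r i = (M *ᵥ b (eN i : ℕ)) r := by
    intro M i r
    simp [Matrix.mul_apply, Bm, Matrix.mulVec, dotProduct]
  let d : ι → F := fun i => ζ ^ (eN i : ℕ)
  have hxD : ((B⁻¹ * x * B : GL ι F) : Matrix ι ι F) = Matrix.diagonal d := by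
    have h1 : (x : Matrix ι ι F) * Bm = Bm * Matrix.diagonal d := by
      ext r i
      rw [hBcol, hxb, Matrix.mul_diagonal]
      simp [Bm, d, mul_comm]
    simp only [Units.val_mul, mul_assoc]
    rw [show (B : Matrix ι ι F) = Bm from rfl, h1, ← mul_assoc,
      show Bm = (B : Matrix ι ι F) from rfl, ← Units.val_mul, inv_mul_cancel, Units.val_one, one_mul]
  -- the shift
  let s : Equiv.Perm ι := eN.trans ((finRotate n).trans eN.symm)
  let P : Matrix ι ι F := Matrix.of fun r i => if r = s i then 1 else 0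
  have hyP : ((B⁻¹ * y * B : GL ι F) : Matrix ι ι F) = P := by
    have h1 : (y : Matrix ι ι F) * Bm = Bm * P := by
      ext r i
      rw [hBcol]
      have h2 : (y : Matrix ι ι F) *ᵥ b (eN i : ℕ) = b (eN (s i) : ℕ) := by
        have h3 : (eN (s i) : ℕ) = ((eN i : ℕ) + 1) % n := by
          simp only [s, Equiv.trans_apply, Equiv.apply_symm_apply]
          rw [finRotate_apply, Fin.val_add, Fin.val_one', Nat.add_mod_mod]
        simp only [b, Matrix.mulVec_mulVec, ← Units.val_mul, ← pow_succ', h3]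
        rw [pow_eq_pow_mod ((eN i : ℕ) + 1) hyn]
      rw [h2]
      simp [Matrix.mul_apply, P, Bm]
    simp only [Units.val_mul, mul_assoc]
    rw [show (B : Matrix ι ι F) = Bm from rfl, h1, ← mul_assoc,
      show Bm = (B : Matrix ι ι F) from rfl, ← Units.val_mul, inv_mul_cancel, Units.val_one, one_mul]
  -- every element is z x^a y^b
  have hnorm : ∀ g ∈ N, ∃ a b k : Fin n,
      (g : Matrix ι ι F) = ζ ^ (k : ℕ) • ((x : Matrix ι ι F) ^ (a : ℕ) * (y : Matrix ι ι F) ^ (b : ℕ)) := by
    intro g hg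
    obtain ⟨u, hu⟩ := exists_cm hN.comm hx hg
    obtain ⟨w, hw⟩ := exists_cm hN.comm hy hg
    obtain ⟨i, hi, rfl⟩ := hprim.eq_pow_of_pow_eq_one (cm_pow_eq_one hu)
    obtain ⟨j, hj, rfl⟩ := hprim.eq_pow_of_pow_eq_one (cm_pow_eq_one hw)
    set g' := g * y ^ (n - i) * x ^ j with hg'
    have hg'N : g' ∈ N := N.mul_mem (N.mul_mem hg (N.pow_mem hy _)) (N.pow_mem hx _)
    have hx' : Cm x g' 1 := by
      have h1 := (hu.mul_right (hxy.pow_right (n - i))).mul_right
        ((Cm.comm (g := x) (h := x) rfl).pow_right j)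
      rwa [one_pow, mul_one, ← pow_add, show i + (n - i) = n by omega, hζn] at h1
    have hy' : Cm y g' 1 := by
      have h1 := (hw.mul_right ((Cm.comm (g := y) (h := y) rfl).pow_right (n - i))).mul_right
        (hyx.pow_right j)
      rwa [one_pow, mul_one, inv_pow, mul_inv_cancel₀ (pow_ne_zero _ (hxy.ne_zero))] at h1
    have hgs : g' ∈ scalars ι F := by
      let h : GL ι F := B⁻¹ * g' * B
      have c1 : (B⁻¹ * x * B) * h = h * (B⁻¹ * x * B) := by
        have := Cm.comm_iff.1 hx'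
        simp only [h, mul_assoc, mul_inv_cancel_left]
        rw [← mul_assoc x, this, mul_assoc]
      have c2 : (B⁻¹ * y * B) * h = h * (B⁻¹ * y * B) := by
        have := Cm.comm_iff.1 hy'
        simp only [h, mul_assoc, mul_inv_cancel_left]
        rw [← mul_assoc y, this, mul_assoc]
      have d1 := congrArg Units.val c1
      have d2 := congrArg Units.val c2
      rw [Units.val_mul (B⁻¹ * x * B), Units.val_mul h, hxD] at d1
      rw [Units.val_mul (B⁻¹ * y * B), Units.val_mul h, hyP] at d2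
      have hdiag : ∀ r i, r ≠ i → (h : Matrix ι ι F) r i = 0 := by
        intro r i hri
        have := congrFun (congrFun d1 r) i
        rw [Matrix.diagonal_mul, Matrix.mul_diagonal] at this
        have hd : d r ≠ d i := fun h => hri (eN.injective (Fin.ext (hprim.pow_inj (eN r).2 (eN i).2 h)))
        have h0 : (d r - d i) * (h : Matrix ι ι F) r i = 0 := by
          rw [sub_mul, this]; ring
        exact (mul_eq_zero.1 h0).resolve_left (sub_ne_zero.2 hd)
      have hstep : ∀ i, (h : Matrix ι ι F) (s i) (s i) = (h : Matrix ι ι F) i i := by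
        intro i
        have := congrFun (congrFun d2 (s i)) i
        simp [Matrix.mul_apply, P] at this
        exact this.symm
      obtain ⟨i₀⟩ := ‹Nonempty ι›
      have hall : ∀ i, (h : Matrix ι ι F) i i = (h : Matrix ι ι F) (eN.symm 0) (eN.symm 0) := by
        have hk : ∀ (k : ℕ) (hk : k < n), (h : Matrix ι ι F) (eN.symm ⟨k, hk⟩) (eN.symm ⟨k, hk⟩) =
            (h : Matrix ι ι F) (eN.symm 0) (eN.symm 0) := by
          intro k
          induction k with
          | zero => intro hk; congr 1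
          | succ k ih =>
            intro hk
            rw [← ih (by omega), ← hstep (eN.symm ⟨k, by omega⟩)]
            have : s (eN.symm ⟨k, by omega⟩) = eN.symm ⟨k + 1, hk⟩ := by
              simp only [s, Equiv.trans_apply, Equiv.apply_symm_apply, finRotate_apply]
              congr 1
              ext
              simp [Fin.val_add, Fin.val_one', Nat.mod_eq_of_lt hk, Nat.add_mod_mod]
            rw [this]
        intro i
        simpa using hk (eN i : ℕ) (eN i).2
      have : h ∈ scalars ι F := by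
        refine mem_scalars_of_comm (c := (h : Matrix ι ι F) (eN.symm 0) (eN.symm 0)) ?_
        ext r i
        by_cases hri : r = i
        · subst hri; simp [hall]
        · simp [hdiag r i hri, hri]
      have h2 := (scalars_normal (ι := ι) (F := F)).conj_mem h this B
      simpa [h, mul_assoc] using h2
    obtain ⟨z, hz⟩ := (mem_scalars_iff _).1 hgs
    have hzn : (z : F) ^ n = 1 := by
      have h1 := (mem_sl_iff g').1 (hN.sl hg'N)
      rwa [hz, Matrix.det_smul, Matrix.det_one, mul_one] at h1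
    obtain ⟨k, hk, hk'⟩ := hprim.eq_pow_of_pow_eq_one hzn
    refine ⟨⟨(n - j) % n, Nat.mod_lt _ hnpos⟩, ⟨i, hi⟩, ⟨k, hk⟩, ?_⟩
    have h1 : g = g' * x ^ (n - j) * y ^ i := by
      have e1 : x ^ j * x ^ (n - j) = 1 := by rw [← pow_add, show j + (n - j) = n by omega, hxn]
      have e2 : y ^ (n - i) * y ^ i = 1 := by rw [← pow_add, show n - i + i = n by omega, hyn]
      rw [hg', mul_assoc (g * y ^ (n - i)), e1, mul_one, mul_assoc, e2, mul_one]
    rw [← hk'] at hz
    conv_lhs => rw [h1]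
    rw [Units.val_mul, Units.val_mul, hz, Matrix.smul_mul, one_mul, Matrix.smul_mul]
    simp only [← Units.val_pow_eq_pow_val]
    rw [← pow_eq_pow_mod (n - j) hxn]
  -- every element is monomial
  have hmono : ∀ g ∈ N, IsMono n ((B⁻¹ * g * B : GL ι F) : Matrix ι ι F) := by
    intro g hg
    obtain ⟨a, b', k, hgk⟩ := hnorm g hg
    have mx : IsMono n ((B⁻¹ * x * B : GL ι F) : Matrix ι ι F) := by
      refine ⟨Equiv.refl ι, d, fun i => ?_, fun r i => ?_⟩
      · simp only [d]
        rw [← pow_mul, mul_comm, pow_mul, hζn, one_pow]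
      · rw [hxD]
        by_cases h : r = i <;> simp [h]
    have my : IsMono n ((B⁻¹ * y * B : GL ι F) : Matrix ι ι F) :=
      ⟨s, fun _ => 1, fun _ => one_pow n, fun r i => by rw [hyP]; rfl⟩
    have hc : ∀ (u : GL ι F) (m : ℕ), (B⁻¹ * u * B) ^ m = B⁻¹ * u ^ m * B := by
      intro u m
      induction m with
      | zero => simp
      | succ m ih => rw [pow_succ, ih, pow_succ]; simp [mul_assoc]
    have heq : ((B⁻¹ * g * B : GL ι F) : Matrix ι ι F) =
        ζ ^ (k : ℕ) • (((B⁻¹ * x * B : GL ι F) : Matrix ι ι F) ^ (a : ℕ) *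
          ((B⁻¹ * y * B : GL ι F) : Matrix ι ι F) ^ (b' : ℕ)) := by
      rw [← Units.val_pow_eq_pow_val, ← Units.val_pow_eq_pow_val, ← Units.val_mul, hc, hc]
      simp only [mul_assoc, mul_inv_cancel_left]
      simp only [Units.val_mul, hgk, Units.val_pow_eq_pow_val, Matrix.mul_smul, Matrix.smul_mul, mul_assoc]
    rw [heq]
    obtain ⟨π, c, hc', hM⟩ := isMono_mul (isMono_pow mx (a : ℕ)) (isMono_pow my (b' : ℕ))
    refine ⟨π, fun i => ζ ^ (k : ℕ) * c i, fun i => ?_, fun r i => ?_⟩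
    · rw [mul_pow, hc', mul_one, ← pow_mul, mul_comm, pow_mul, hζn, one_pow]
    · rw [Matrix.smul_apply, hM]
      by_cases h : r = π i <;> simp [h]
  -- the central element ζ
  obtain ⟨z₀, hz₀N, hz₀⟩ : ∃ z₀ ∈ N, (z₀ : Matrix ι ι F) = ζ • (1 : Matrix ι ι F) := by
    refine ⟨⁅x, y⁆, ?_, ?_⟩
    · rw [commutatorElement_def]
      exact N.mul_mem (N.mul_mem (N.mul_mem hx hy) (N.inv_mem hx)) (N.inv_mem hy)
    · have h1 : ((x * y : GL ι F) : Matrix ι ι F) = ζ • ((y * x : GL ι F) : Matrix ι ι F) := by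
        simpa [Cm, Units.val_mul] using hxy
      have h2 : ⁅x, y⁆ = x * y * (y * x)⁻¹ := by simp [commutatorElement_def, mul_assoc]
      rw [h2, Units.val_mul, h1, Matrix.smul_mul, ← Units.val_mul, mul_inv_cancel, Units.val_one]
  have hz₀pow : ∀ m : ℕ, ((z₀ ^ m : GL ι F) : Matrix ι ι F) = ζ ^ m • (1 : Matrix ι ι F) := fun m => by
    rw [Units.val_pow_eq_pow_val, hz₀, smul_pow, one_pow]
  -- counting
  let Φ : Fin n × Fin n × Fin n → N := fun t =>
    ⟨z₀ ^ (t.2.2 : ℕ) * (x ^ (t.1 : ℕ) * y ^ (t.2.1 : ℕ)),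
      N.mul_mem (N.pow_mem hz₀N _) (N.mul_mem (N.pow_mem hx _) (N.pow_mem hy _))⟩
  have hΦval : ∀ t, ((Φ t : GL ι F) : Matrix ι ι F) =
      ζ ^ (t.2.2 : ℕ) • ((x : Matrix ι ι F) ^ (t.1 : ℕ) * (y : Matrix ι ι F) ^ (t.2.1 : ℕ)) := by
    intro t
    simp only [Φ, Units.val_mul, hz₀pow, Matrix.smul_mul, one_mul, Units.val_pow_eq_pow_val]
  have hz₀s : z₀ ∈ scalars ι F := mem_scalars_of_comm hz₀
  have hΦbij : Function.Bijective Φ := by
    constructor
    · intro t t' htt'
      -- commutators with x and y read off the exponents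
      have key : ∀ t, Cm x (Φ t) (ζ ^ (t.2.1 : ℕ)) ∧ Cm y (Φ t) (ζ⁻¹ ^ (t.1 : ℕ)) := by
        intro t
        constructor
        · have := ((Cm.comm (g := x) (h := z₀) (scalar_comm hz₀s x).symm).pow_right (t.2.2 : ℕ)).mul_right
            (((Cm.comm (g := x) (h := x) rfl).pow_right (t.1 : ℕ)).mul_right (hxy.pow_right (t.2.1 : ℕ)))
          simpa using this
        · have := ((Cm.comm (g := y) (h := z₀) (scalar_comm hz₀s y).symm).pow_right (t.2.2 : ℕ)).mul_right
            ((hyx.pow_right (t.1 : ℕ)).mul_right ((Cm.comm (g := y) (h := y) rfl).pow_right (t.2.1 : ℕ)))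
          simpa using this
      obtain ⟨k1, k2⟩ := key t
      obtain ⟨l1, l2⟩ := key t'
      rw [← htt'] at l1 l2
      have e1 : t.2.1 = t'.2.1 := Fin.ext (hprim.pow_inj t.2.1.2 t'.2.1.2 (k1.unique l1))
      have e2 : t.1 = t'.1 := Fin.ext (hprim'.pow_inj t.1.2 t'.1.2 (k2.unique l2))
      have e3 : t.2.2 = t'.2.2 := by
        have h1 := congrArg (fun g : N => ((g : GL ι F) : Matrix ι ι F)) htt'
        simp only [hΦval, e1, e2] at h1
        refine Fin.ext (hprim.pow_inj t.2.2.2 t'.2.2.2 ?_)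
        by_contra hne'
        have h3 : (ζ ^ (t.2.2 : ℕ) - ζ ^ (t'.2.2 : ℕ)) •
            ((x : Matrix ι ι F) ^ (t'.1 : ℕ) * (y : Matrix ι ι F) ^ (t'.2.1 : ℕ)) = 0 := by
          rw [sub_smul, h1, sub_self]
        rcases smul_eq_zero.1 h3 with h4 | h4
        · exact hne' (sub_eq_zero.1 h4)
        · rw [← Units.val_pow_eq_pow_val, ← Units.val_pow_eq_pow_val, ← Units.val_mul] at h4
          exact Units.ne_zero _ h4
      exact Prod.ext e2 (Prod.ext e1 e3)
    · rintro ⟨g, hg⟩
      obtain ⟨a, b', k, hgk⟩ := hnorm g hg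
      exact ⟨(a, b', k), Subtype.ext (Units.ext (by rw [hΦval, hgk]))⟩
  have hcard : Nat.card N = n ^ 3 := by
    rw [← Nat.card_eq_of_bijective Φ hΦbij]
    simp [Nat.card_eq_fintype_card, pow_succ, mul_assoc]
  have hcenter : Nat.card (Subgroup.center N) = n := by
    let Ψ : Fin n → Subgroup.center N := fun k => ⟨⟨z₀ ^ (k : ℕ), N.pow_mem hz₀N _⟩, by
      rw [Subgroup.mem_center_iff]
      intro g
      exact Subtype.ext (scalar_comm (Subgroup.pow_mem _ hz₀s _) _).symm⟩
    have : Function.Bijective Ψ := by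
      constructor
      · intro a b hab
        have h1 := congrArg (fun g : Subgroup.center N => (((g : N) : GL ι F) : Matrix ι ι F)) hab
        simp only [Ψ, hz₀pow] at h1
        obtain ⟨i₀⟩ := ‹Nonempty ι›
        exact Fin.ext (hprim.pow_inj a.2 b.2 (by simpa using congrFun (congrFun h1 i₀) i₀))
      · rintro ⟨⟨g, hg⟩, hgc⟩
        have hgs : g ∈ scalars ι F := hN.abs.scalar_of_comm fun u hu =>
          (congrArg Subtype.val (Subgroup.mem_center_iff.1 hgc ⟨u, hu⟩)).symm
        obtain ⟨c, hc⟩ := (mem_scalars_iff _).1 hgs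
        have hcn : (c : F) ^ n = 1 := by
          have h1 := (mem_sl_iff g).1 (hN.sl hg)
          rwa [hc, Matrix.det_smul, Matrix.det_one, mul_one] at h1
        obtain ⟨k, hk, hk'⟩ := hprim.eq_pow_of_pow_eq_one hcn
        exact ⟨⟨k, hk⟩, Subtype.ext (Subtype.ext (Units.ext (by simp only [Ψ, hz₀pow, hk', hc])))⟩
    rw [← Nat.card_eq_of_bijective Ψ this, Nat.card_fin]
  have hexp : Monoid.exponent N = n := by
    have h1 : Monoid.exponent N ∣ n := Monoid.exponent_dvd_of_forall_pow_eq_one fun g =>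
      Subtype.ext (by simpa using hN.pow_eq_one g.2)
    rcases (Nat.dvd_prime hN.prime).1 h1 with h2 | h2
    · exfalso
      have := Monoid.pow_exponent_eq_one (⟨z₀, hz₀N⟩ : N)
      rw [h2, pow_one] at this
      have h3 : (z₀ : Matrix ι ι F) = 1 := by
        rw [show z₀ = 1 from congrArg Subtype.val this, Units.val_one]
      obtain ⟨i₀⟩ := ‹Nonempty ι›
      rw [hz₀] at h3
      exact hζ1 (by simpa using congrFun (congrFun h3 i₀) i₀)
    · exact h2
  exact ⟨ζ, B, hprim, hcard, hcenter, hexp, hmono, x, hx, d,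
    fun i j hij => eN.injective (Fin.ext (hprim.pow_inj (eN i).2 (eN j).2 hij)), hxD⟩

end Cfsg.Agent.AschPrimeExtra
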