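/-
Aschbacher's theorem in prime dimension, part 4: a primitive irreducible group of odd prime degree has either an
extraspecial normal subgroup of order n^3 or a perfect normal subgroup that is simple modulo scalars, absolutely
irreducible and with scalar centraliser.
-/
import Cfsg.Agent.Lib.AschPrimeExtra

set_option autoImplicit false

namespace Cfsg.Agent.AschPrimeCore

open scoped Matrix commutatorElement
open Cfsg Cfsg.Geo Cfsg.Agent.AschPrimeBasic Cfsg.Agent.AschPrimeClifford Cfsg.Agent.AschPrimeExtra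

variable {ι : Type} [Fintype ι] [DecidableEq ι] {F : Type*} [Field F]

/-- conjugate of a subgroup -/
def cj (a : GL ι F) (M : Subgroup (GL ι F)) : Subgroup (GL ι F) := M.map (MulAut.conj a).toMonoidHom

lemma mem_cj {a : GL ι F} {M : Subgroup (GL ι F)} {x : GL ι F} :
    x ∈ cj a M ↔ a⁻¹ * x * a ∈ M := by
  constructor
  · rintro ⟨m, hm, rfl⟩
    simpa [mul_assoc] using hm
  · intro h
    exact ⟨_, h, by simp [mul_assoc]⟩

lemma cj_mem {a x : GL ι F} {M : Subgroup (GL ι F)} (hx : x ∈ M) : a * x * a⁻¹ ∈ cj a M :=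
  mem_cj.2 (by simpa [mul_assoc] using hx)

lemma cj_cj (a b : GL ι F) (M : Subgroup (GL ι F)) : cj a (cj b M) = cj (a * b) M := by
  ext x
  simp only [mem_cj, mul_inv_rev, mul_assoc]

lemma cj_one (M : Subgroup (GL ι F)) : cj 1 M = M := by
  ext x
  simp [mem_cj]

lemma cj_mono {a : GL ι F} {M N : Subgroup (GL ι F)} (h : M ≤ N) : cj a M ≤ cj a N :=
  Subgroup.map_mono h

lemma normalBy_cj {H N : Subgroup (GL ι F)} (h : NormalBy H N) {a : GL ι F} (ha : a ∈ H) : cj a N = N := by
  apply le_antisymm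
  · intro x hx
    have := h a ha _ (mem_cj.1 hx)
    simpa [mul_assoc] using this
  · intro x hx
    exact mem_cj.2 (by simpa using h a⁻¹ (H.inv_mem ha) x hx)

lemma normalBy_commutator {H A B : Subgroup (GL ι F)} (hA : NormalBy H A) (hB : NormalBy H B) :
    NormalBy H ⁅A, B⁆ := by
  intro a ha x hx
  have h1 : cj a ⁅A, B⁆ = ⁅A, B⁆ := by
    have := Subgroup.map_commutator A B (MulAut.conj a).toMonoidHom
    rw [cj, this]
    exact congrArg₂ _ (normalBy_cj hA ha) (normalBy_cj hB ha)
  rw [← h1]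
  exact cj_mem hx

lemma normalBy_self (H : Subgroup (GL ι F)) : NormalBy H H :=
  fun a ha x hx => H.mul_mem (H.mul_mem ha hx) (H.inv_mem ha)

lemma normalBy_scalars (H : Subgroup (GL ι F)) : NormalBy H (scalars ι F) :=
  fun a _ x hx => (scalars_normal (ι := ι) (F := F)).conj_mem x hx a

lemma normalBy_inf {H A B : Subgroup (GL ι F)} (hA : NormalBy H A) (hB : NormalBy H B) :
    NormalBy H (A ⊓ B) := fun a ha x hx => ⟨hA a ha x hx.1, hB a ha x hx.2⟩

lemma normalBy_sup {H A B : Subgroup (GL ι F)} (hA : NormalBy H A) (hB : NormalBy H B) :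
    NormalBy H (A ⊔ B) := by
  intro a ha x hx
  have h1 : cj a (A ⊔ B) = A ⊔ B := by
    rw [cj, Subgroup.map_sup]
    exact congrArg₂ _ (normalBy_cj hA ha) (normalBy_cj hB ha)
  rw [← h1]
  exact cj_mem hx

lemma NormalBy.mono {H K A : Subgroup (GL ι F)} (h : NormalBy H A) (hle : K ≤ H) : NormalBy K A :=
  fun a ha => h a (hle ha)

lemma normal_of_le_scalars {Z : Subgroup (GL ι F)} (hZ : Z ≤ scalars ι F) : Z.Normal :=
  ⟨fun z hz g => by rwa [← scalar_comm (hZ hz) g, mul_inv_cancel_right]⟩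

lemma mem_sup_scalars {A Z : Subgroup (GL ι F)} (hZ : Z ≤ scalars ι F) {x : GL ι F} (hx : x ∈ A ⊔ Z) :
    ∃ a ∈ A, ∃ z ∈ Z, a * z = x := by
  have := normal_of_le_scalars hZ
  exact Subgroup.mem_sup_of_normal_right.1 hx

lemma commutator_central_mul {a b z w : GL ι F} (hz : z ∈ scalars ι F) (hw : w ∈ scalars ι F) :
    ⁅a * z, b * w⁆ = ⁅a, b⁆ := by
  simp only [commutatorElement_def, mul_inv_rev]
  have e1 : z * (b * w) = b * w * z := scalar_comm hz _
  calc a * z * (b * w) * (z⁻¹ * a⁻¹) * (w⁻¹ * b⁻¹)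
      = a * (z * (b * w)) * z⁻¹ * a⁻¹ * w⁻¹ * b⁻¹ := by group
    _ = a * b * w * a⁻¹ * w⁻¹ * b⁻¹ := by rw [e1]; group
    _ = a * b * (w * a⁻¹) * w⁻¹ * b⁻¹ := by group
    _ = a * b * a⁻¹ * b⁻¹ := by rw [scalar_comm hw]; group

lemma commutator_sup_scalars {A Z : Subgroup (GL ι F)} (hZ : Z ≤ scalars ι F) :
    ⁅A ⊔ Z, A ⊔ Z⁆ = ⁅A, A⁆ := by
  refine le_antisymm (Subgroup.commutator_le.2 ?_) (Subgroup.commutator_mono le_sup_left le_sup_left)
  intro g hg h hh
  obtain ⟨a, ha, z, hz, rfl⟩ := mem_sup_scalars hZ hg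
  obtain ⟨b, hb, w, hw, rfl⟩ := mem_sup_scalars hZ hh
  rw [commutator_central_mul (hZ hz) (hZ hw)]
  exact Subgroup.commutator_mem_commutator ha hb

/-- an element commuting with a perfect absolutely irreducible group modulo scalars is a scalar -/
lemma scalar_of_comm_mod [Nonempty ι] {P : Subgroup (GL ι F)} (hperf : ⁅P, P⁆ = P) (habs : AbsIrred P)
    {h : GL ι F} (hh : ∀ x ∈ P, h * x * h⁻¹ * x⁻¹ ∈ scalars ι F) : h ∈ scalars ι F := by
  refine habs.scalar_of_comm fun s hs => ?_
  let C : Subgroup (GL ι F) := Subgroup.centralizer {h}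
  suffices ⁅P, P⁆ ≤ C by
    have h1 := this (hperf.symm ▸ hs)
    exact Subgroup.mem_centralizer_iff.1 h1 h rfl
  refine Subgroup.commutator_le.2 fun a ha b hb => ?_
  refine Subgroup.mem_centralizer_iff.2 fun h' h'eq => ?_
  rw [Set.mem_singleton_iff] at h'eq
  subst h'eq
  have e1 : h' * a * h'⁻¹ = (h' * a * h'⁻¹ * a⁻¹) * a := by group
  have e2 : h' * b * h'⁻¹ = (h' * b * h'⁻¹ * b⁻¹) * b := by group
  have e3 : h' * ⁅a, b⁆ * h'⁻¹ = ⁅a, b⁆ := by
    have : h' * ⁅a, b⁆ * h'⁻¹ = ⁅h' * a * h'⁻¹, h' * b * h'⁻¹⁆ := by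
      simp only [commutatorElement_def]; group
    rw [this, e1, e2, scalar_comm (hh a ha) a, scalar_comm (hh b hb) b,
      commutator_central_mul (hh a ha) (hh b hb)]
  calc h' * ⁅a, b⁆ = h' * ⁅a, b⁆ * h'⁻¹ * h' := by group
    _ = ⁅a, b⁆ * h' := by rw [e3]

/-- every abelian normal subgroup is scalar -/
def Prim (H : Subgroup (GL ι F)) : Prop :=
  ∀ N, N ≤ H → NormalBy H N → Comm N → N ≤ scalars ι F

/-- the residual core conditions other than realisability -/
structure SimpleCore (H P : Subgroup (GL ι F)) : Prop where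
  le : P ≤ H
  normal : NormalBy H P
  perfect : ⁅P, P⁆ = P
  simple : IsSimpleGroup (P ⧸ (scalars ι F).subgroupOf P)
  nonabelian : ¬ IsMulCommutative (P ⧸ (scalars ι F).subgroupOf P)
  centralizer_scalar : ∀ h ∈ H, (∀ x ∈ P, h * x * h⁻¹ * x⁻¹ ∈ scalars ι F) → h ∈ scalars ι F
  absIrred : AbsIrred P

/-- an extraspecial normal subgroup -/
structure ExtraCore (H R : Subgroup (GL ι F)) (ζ : F) (B : GL ι F) : Prop where
  le : R ≤ H
  normal : NormalBy H R
  absIrred : AbsIrred R
  extra : Extra R ζ B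
  symp : IsSymplecticTypeGroup (Fintype.card ι) R
  comm : ∀ g ∈ R, ∀ h ∈ R, ⁅g, h⁆ ∈ scalars ι F

lemma isCyclic_of_le_scalars [Finite F] {A : Subgroup (GL ι F)} (hA : A ≤ scalars ι F) : IsCyclic A := by
  have : IsCyclic (scalars ι F) :=
    isCyclic_of_surjective (Units.map (Matrix.scalar ι : F →+* Matrix ι ι F).toMonoidHom).rangeRestrict
      (MonoidHom.rangeRestrict_surjective _)
  exact isCyclic_of_injective (Subgroup.inclusion hA) (Subgroup.inclusion_injective hA)

lemma symp_of_extra [Finite F] [Nonempty ι] (hn : (Fintype.card ι).Prime) (hodd : Odd (Fintype.card ι))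
    {H R : Subgroup (GL ι F)} (hp : Prim H) (hle : R ≤ H) (hnorm : NormalBy H R) {ζ : F} {B : GL ι F}
    (he : Extra R ζ B) : IsSymplecticTypeGroup (Fintype.card ι) R := by
  refine ⟨hn, IsPGroup.of_card he.card_eq, fun A hA hAc => ?_, ?_⟩
  · let A' : Subgroup (GL ι F) := A.map R.subtype
    have hA'le : A' ≤ R := Subgroup.map_subtype_le A
    have hsc : A' ≤ scalars ι F := by
      refine hp A' (hA'le.trans hle) ?_ ?_
      · rintro a ha _ ⟨x, hx, rfl⟩
        let φ : R ≃* R :=
          { toFun := fun r => ⟨a * r * a⁻¹, hnorm a ha _ r.2⟩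
            invFun := fun r => ⟨a⁻¹ * r * a, by simpa using hnorm a⁻¹ (H.inv_mem ha) _ r.2⟩
            left_inv := fun r => Subtype.ext (by simp [mul_assoc])
            right_inv := fun r => Subtype.ext (by simp [mul_assoc])
            map_mul' := fun r s => Subtype.ext (by simp [mul_assoc]) }
        exact ⟨φ x, (hA.fixed φ).ge hx, rfl⟩
      · rintro _ ⟨x, hx, rfl⟩ _ ⟨y, hy, rfl⟩
        have h1 : (⟨x, hx⟩ : A) * ⟨y, hy⟩ = ⟨y, hy⟩ * ⟨x, hx⟩ := hAc.is_comm.comm _ _
        exact congrArg (fun z : A => ((z : R) : GL ι F)) h1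
    have := isCyclic_of_le_scalars hsc
    exact isCyclic_of_surjective (A.equivMapOfInjective R.subtype (Subgroup.subtype_injective R)).symm
      (MulEquiv.surjective _)
  · rw [he.exponent_eq]
    have : Nat.gcd 2 (Fintype.card ι) = 1 := Nat.coprime_two_left.2 hodd
    rw [this, mul_one]

theorem structure_theorem [Finite F] (hn : (Fintype.card ι).Prime) (hodd : Odd (Fintype.card ι))
    {H : Subgroup (GL ι F)} (hsl : H ≤ specialLinear ι F) (hH : Irred H) (hp : Prim H) :
    (∃ R ζ B, ExtraCore H R ζ B) ∨ (∃ P, SimpleCore H P) := by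
  classical
  have : Nonempty ι := Fintype.card_pos_iff.1 hn.pos
  -- the centre
  set Z := H ⊓ scalars ι F with hZdef
  have hZ : Z ≤ scalars ι F := inf_le_right
  have hns : ¬ H ≤ scalars ι F := by
    intro hle
    obtain ⟨i⟩ := ‹Nonempty ι›
    have hinv : Inv H (Submodule.span F {(Pi.single i 1 : ι → F)}) := by
      intro g hg w hw
      obtain ⟨c, hc⟩ := (mem_scalars_iff g).1 (hle hg)
      rw [hc, Matrix.smul_mulVec, Matrix.one_mulVec]
      exact Submodule.smul_mem _ _ hw
    have hv : (Pi.single i 1 : ι → F) ≠ 0 := fun h => one_ne_zero (α := F) (by simpa using congrFun h i)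
    rcases hH _ hinv with h | h
    · exact hv (Submodule.span_singleton_eq_bot.1 h)
    · have := finrank_span_singleton (K := F) hv
      rw [h, finrank_top, Module.finrank_pi] at this
      exact hn.one_lt.ne' this
  -- minimal nonscalar normal subgroup
  obtain ⟨N, ⟨hNle, hNn, hZN, hNs⟩, hmin⟩ := wellFounded_lt.has_min
    {N : Subgroup (GL ι F) | N ≤ H ∧ NormalBy H N ∧ Z ≤ N ∧ ¬ N ≤ scalars ι F}
    ⟨H, le_rfl, normalBy_self H, inf_le_left, hns⟩
  have hmin' : ∀ K, K ≤ N → NormalBy H K → ¬ K ≤ scalars ι F → K ⊔ Z = N := by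
    intro K hKN hK hKs
    rcases (sup_le hKN hZN).lt_or_eq with h | h
    · exact absurd h (hmin (K ⊔ Z) ⟨(sup_le hKN hZN).trans hNle,
        normalBy_sup hK (normalBy_inf (normalBy_self H) (normalBy_scalars H)), le_sup_right,
        fun hh => hKs (le_sup_left.trans hh)⟩)
    · exact h
  have hNc : ¬ Comm N := fun h => hNs (hp N hNle hNn h)
  have hNabs : AbsIrred N := by
    rcases alternative hn hH hNn with h | h | ⟨h, -⟩
    · exact absurd h hNs
    · exact h
    · exact absurd h hNc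
  by_cases hcom : ⁅N, N⁆ ≤ scalars ι F
  · left
    have hD : Data N := ⟨hn, hodd, hNle.trans hsl, hNabs, fun g hg h hh =>
      hcom (Subgroup.commutator_mem_commutator hg hh)⟩
    obtain ⟨ζ, B, he⟩ := hD.extra hNc
    exact ⟨N, ζ, B, hNle, hNn, hNabs, he, symp_of_extra hn hodd hp hNle hNn he, hD.comm⟩
  right
  set P := ⁅N, N⁆ with hPdef
  have hPN : P ≤ N := Subgroup.commutator_le.2 fun a ha b hb => by
    rw [commutatorElement_def]
    exact N.mul_mem (N.mul_mem (N.mul_mem ha hb) (N.inv_mem ha)) (N.inv_mem hb)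
  have hPn : NormalBy H P := normalBy_commutator hNn hNn
  have hPZ : P ⊔ Z = N := hmin' P hPN hPn hcom
  have hperf : ⁅P, P⁆ = P := by
    conv_rhs => rw [hPdef, ← hPZ]
    rw [commutator_sup_scalars hZ]
  have hPabs : AbsIrred P := by
    rcases alternative hn hH hPn with h | h | ⟨h, -⟩
    · exact absurd h hcom
    · exact h
    · exact absurd (hp P (hPN.trans hNle) hPn h) hcom
  have hcj : ∀ a ∈ H, cj a N = N := fun a ha => normalBy_cj hNn ha
  have hcjP : ∀ a ∈ H, cj a P = P := fun a ha => normalBy_cj hPn ha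
  -- candidates inside P
  let Z₀ := P ⊓ scalars ι F
  let cand : Subgroup (GL ι F) → Prop := fun K =>
    K ≤ P ∧ NormalBy N K ∧ Z₀ ≤ K ∧ ¬ K ≤ scalars ι F
  have hkey : ∀ K, cand K → K = P := by
    intro K hK
    obtain ⟨M, ⟨hMc, hMK⟩, hMmin⟩ := wellFounded_lt.has_min {M | cand M ∧ M ≤ K} ⟨K, hK, le_rfl⟩
    obtain ⟨hMP, hMN, hMZ, hMs⟩ := hMc
    have hMmin' : ∀ L, cand L → L ≤ M → L = M := fun L hL hLM =>
      hLM.lt_or_eq.resolve_left (hMmin L ⟨hL, hLM.trans hMK⟩)
    -- conjugates of M by elements of H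
    have hcand : ∀ a ∈ H, ∀ L, cand L → cand (cj a L) := by
      intro a ha L hL
      refine ⟨(cj_mono hL.1).trans (hcjP a ha).le, ?_, ?_, ?_⟩
      · intro b hb x hx
        rw [mem_cj] at hx ⊢
        have hb' : a⁻¹ * b * a ∈ N := mem_cj.1 ((hcj a ha).symm ▸ hb)
        have := hL.2.1 _ hb' _ hx
        simpa [mul_assoc] using this
      · intro x hx
        rw [mem_cj]
        refine hL.2.2.1 ⟨?_, ?_⟩
        · exact mem_cj.1 ((hcjP a ha).symm ▸ hx.1)
        · simpa using (scalars_normal (ι := ι) (F := F)).conj_mem x hx.2 a⁻¹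
      · intro hle
        apply hL.2.2.2
        intro x hx
        have h1 := hle (cj_mem (a := a) hx)
        simpa [mul_assoc] using (scalars_normal (ι := ι) (F := F)).conj_mem _ h1 a⁻¹
    have hMc : cand M := ⟨hMP, hMN, hMZ, hMs⟩
    have hdisj : ∀ a ∈ H, ∀ b ∈ H, cj a M ≠ cj b M → cj a M ⊓ cj b M ≤ scalars ι F := by
      intro a ha b hb hne
      by_contra hns'
      have hA := hcand a ha M hMc
      have hB := hcand b hb M hMc
      have hL : cand (cj a M ⊓ cj b M) :=
        ⟨inf_le_left.trans hA.1, normalBy_inf hA.2.1 hB.2.1, le_inf hA.2.2.1 hB.2.2.1, hns'⟩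
      have h1 : ∀ c ∈ H, cj a M ⊓ cj b M ≤ cj c M → cj a M ⊓ cj b M = cj c M := by
        intro c hc hle
        have hcc := hcand c⁻¹ (H.inv_mem hc) _ hL
        have hsub : cj c⁻¹ (cj a M ⊓ cj b M) ≤ M := by
          refine (cj_mono hle).trans (le_of_eq ?_)
          rw [cj_cj, inv_mul_cancel, cj_one]
        have := congrArg (cj c) (hMmin' _ hcc hsub)
        rwa [cj_cj, mul_inv_cancel, cj_one] at this
      exact hne ((h1 a ha inf_le_left).symm.trans (h1 b hb inf_le_right))
    have hcomm : ∀ a ∈ H, ∀ b ∈ H, cj a M ≠ cj b M →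
        ∀ x ∈ cj a M, ∀ y ∈ cj b M, ⁅x, y⁆ ∈ scalars ι F := by
      intro a ha b hb hne x hx y hy
      apply hdisj a ha b hb hne
      have hA := hcand a ha M hMc
      have hB := hcand b hb M hMc
      refine ⟨?_, ?_⟩
      · have h1 := hA.2.1 y (hPN (hB.1 hy)) x⁻¹ ((cj a M).inv_mem hx)
        have : ⁅x, y⁆ = x * (y * x⁻¹ * y⁻¹) := by rw [commutatorElement_def]; group
        exact this ▸ (cj a M).mul_mem hx h1
      · have h1 := hB.2.1 x (hPN (hA.1 hx)) y hy
        have : ⁅x, y⁆ = (x * y * x⁻¹) * y⁻¹ := rfl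
        exact this ▸ (cj b M).mul_mem h1 ((cj b M).inv_mem hy)
    by_cases hMcom : ⁅M, M⁆ ≤ scalars ι F
    · exfalso
      let S : Set (GL ι F) := ⋃ a ∈ H, (cj a M : Set (GL ι F))
      have hS : ∀ x ∈ S, ∀ y ∈ S, ⁅x, y⁆ ∈ scalars ι F := by
        intro x hx y hy
        simp only [S, Set.mem_iUnion, SetLike.mem_coe] at hx hy
        obtain ⟨a, ha, hx⟩ := hx
        obtain ⟨b, hb, hy⟩ := hy
        by_cases hab : cj a M = cj b M
        · rw [← hab] at hy
          have h1 := hMcom (Subgroup.commutator_mem_commutator (mem_cj.1 hx) (mem_cj.1 hy))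
          have h2 := (scalars_normal (ι := ι) (F := F)).conj_mem _ h1 a
          have : ⁅x, y⁆ = a * ⁅a⁻¹ * x * a, a⁻¹ * y * a⁆ * a⁻¹ := by
            simp only [commutatorElement_def]; group
          exact this ▸ h2
        · exact hcomm a ha b hb hab x hx y hy
      let J := Subgroup.closure S
      have hJP : J ≤ P := (Subgroup.closure_le P).2 fun x hx => by
        simp only [S, Set.mem_iUnion, SetLike.mem_coe] at hx
        obtain ⟨a, ha, hx⟩ := hx
        exact (hcand a ha M hMc).1 hx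
      have hJn : NormalBy H J := by
        intro a ha x hx
        have h1 : cj a J ≤ J := by
          simp only [cj, J, MonoidHom.map_closure]
          refine (Subgroup.closure_le _).2 ?_
          rintro _ ⟨y, hy, rfl⟩
          simp only [S, Set.mem_iUnion, SetLike.mem_coe] at hy
          obtain ⟨b, hb, hy⟩ := hy
          refine Subgroup.subset_closure ?_
          simp only [S, Set.mem_iUnion, SetLike.mem_coe]
          refine ⟨a * b, H.mul_mem ha hb, ?_⟩
          rw [← cj_cj]
          exact Subgroup.mem_map_of_mem _ hy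
        exact h1 (cj_mem hx)
      have hMJ : M ≤ J := fun x hx => Subgroup.subset_closure (by
        simp only [S, Set.mem_iUnion, SetLike.mem_coe]
        exact ⟨1, H.one_mem, by rwa [cj_one]⟩)
      have hJJ : ⁅J, J⁆ ≤ scalars ι F := by
        let qh := QuotientGroup.mk' (scalars ι F)
        have hq : ∀ x y : GL ι F, ⁅x, y⁆ ∈ scalars ι F → qh x * qh y = qh y * qh x := fun x y h => by
          rw [← commutatorElement_eq_one_iff_mul_comm, ← map_commutatorElement]
          exact (QuotientGroup.eq_one_iff _).2 h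
        have h1 : J ≤ (Subgroup.centralizer (qh '' S)).comap qh := (Subgroup.closure_le _).2 fun x hx =>
          Subgroup.mem_centralizer_iff.2 (by
            rintro _ ⟨y, hy, rfl⟩
            exact hq y x (hS y hy x hx))
        have h2 : J ≤ (Subgroup.centralizer (qh '' (J : Set (GL ι F)))).comap qh :=
          (Subgroup.closure_le _).2 fun x hx => Subgroup.mem_centralizer_iff.2 (by
            rintro _ ⟨y, hy, rfl⟩
            exact ((Subgroup.mem_centralizer_iff.1 (h1 hy)) _ ⟨x, hx, rfl⟩).symm)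
        refine Subgroup.commutator_le.2 fun x hx y hy => ?_
        refine (QuotientGroup.eq_one_iff _).1 ?_
        show qh ⁅x, y⁆ = 1
        rw [map_commutatorElement, commutatorElement_eq_one_iff_mul_comm]
        exact ((Subgroup.mem_centralizer_iff.1 (h2 hx)) _ ⟨y, hy, rfl⟩).symm
      have hJN := hmin' J (hJP.trans hPN) hJn (fun h => hMs (hMJ.trans h))
      apply hcom
      calc P = ⁅J, J⁆ := by rw [hPdef, ← hJN, commutator_sup_scalars hZ]
        _ ≤ scalars ι F := hJJ
    · -- the derived subgroup of M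
      set M₁ := ⁅M, M⁆ with hM₁
      have hM₁M : M₁ ≤ M := Subgroup.commutator_le.2 fun a ha b hb => by
        rw [commutatorElement_def]
        exact M.mul_mem (M.mul_mem (M.mul_mem ha hb) (M.inv_mem ha)) (M.inv_mem hb)
      have hM₁n : NormalBy N M₁ := normalBy_commutator hMN hMN
      have hZ₀n : NormalBy N Z₀ := normalBy_inf (NormalBy.mono hPn hNle) (normalBy_scalars N)
      have hM₁Z : M₁ ⊔ Z₀ = M := hMmin' _
        ⟨sup_le (hM₁M.trans hMP) inf_le_left, normalBy_sup hM₁n hZ₀n, le_sup_right,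
          fun h => hMcom (le_sup_left.trans h)⟩ (sup_le hM₁M hMZ)
      have hM₁perf : ⁅M₁, M₁⁆ = M₁ := by
        conv_rhs => rw [hM₁, ← hM₁Z]
        rw [commutator_sup_scalars (inf_le_right)]
      have hM₁abs : AbsIrred M₁ := by
        rcases alternative hn hNabs.irred hM₁n with h | h | ⟨h, -⟩
        · exact absurd h hMcom
        · exact h
        · exfalso
          apply hMcom
          rw [← hM₁perf]
          refine Subgroup.commutator_le.2 fun a ha b hb => ?_
          rw [commutatorElement_eq_one_iff_mul_comm.2 (h a ha b hb)]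
          exact (scalars ι F).one_mem
      have hfix : ∀ a ∈ H, cj a M = M := by
        intro a ha
        by_contra hne
        obtain ⟨y, hy, hys⟩ := SetLike.not_le_iff_exists.1 (hcand a ha M hMc).2.2.2
        refine hys (scalar_of_comm_mod hM₁perf hM₁abs fun x hx => ?_)
        exact hcomm a ha 1 H.one_mem (by rwa [cj_one]) y hy x (by rw [cj_one]; exact hM₁M hx)
      have hMnH : NormalBy H M := fun a ha x hx => hfix a ha ▸ cj_mem hx
      have hMZN := hmin' M (hMP.trans hPN) hMnH hMs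
      have : P ≤ M := by
        rw [hPdef, ← hMZN, commutator_sup_scalars hZ]
        exact hM₁M
      exact le_antisymm hK.1 (this.trans hMK)
  have hPs : ¬ P ≤ scalars ι F := hcom
  refine ⟨P, hPN.trans hNle, hPn, hperf, ?_, ?_, fun h _ hh => scalar_of_comm_mod hperf hPabs hh, hPabs⟩
  · have hnt : Nontrivial (P ⧸ (scalars ι F).subgroupOf P) := by
      obtain ⟨x, hx, hxs⟩ := SetLike.not_le_iff_exists.1 hPs
      exact ⟨QuotientGroup.mk ⟨x, hx⟩, 1, fun h => hxs ((QuotientGroup.eq_one_iff (⟨x, hx⟩ : P)).1 h)⟩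
    refine { exists_pair_ne := hnt.exists_pair_ne, eq_bot_or_eq_top_of_normal := fun L hL => ?_ }
    let K : Subgroup (GL ι F) := (L.comap (QuotientGroup.mk' _)).map P.subtype
    have hKP : K ≤ P := Subgroup.map_subtype_le _
    by_cases hKs : K ≤ scalars ι F
    · left
      rw [eq_bot_iff]
      intro u hu
      obtain ⟨x, rfl⟩ := QuotientGroup.mk'_surjective _ u
      exact (QuotientGroup.eq_one_iff _).2 (hKs ⟨x, hu, rfl⟩)
    · right
      have hKc : cand K := by
        refine ⟨hKP, ?_, ?_, hKs⟩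
        · rintro b hb _ ⟨x, hx, rfl⟩
          rw [← hPZ] at hb
          obtain ⟨p, hp, z, hz, rfl⟩ := mem_sup_scalars hZ hb
          refine ⟨(⟨p, hp⟩ : P) * x * (⟨p, hp⟩ : P)⁻¹, ?_, ?_⟩
          · exact (Subgroup.Normal.comap hL _).conj_mem x hx _
          · have e1 : z * (x : GL ι F) = (x : GL ι F) * z := scalar_comm (hZ hz) _
            simp only [Subgroup.coe_subtype, Subgroup.coe_mul, Subgroup.coe_inv, mul_inv_rev]
            rw [mul_assoc p z, e1]
            group
        · intro x hx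
          refine ⟨⟨x, hx.1⟩, ?_, rfl⟩
          show QuotientGroup.mk _ ∈ L
          rw [(QuotientGroup.eq_one_iff (N := (scalars ι F).subgroupOf P) (⟨x, hx.1⟩ : P)).2 hx.2]
          exact L.one_mem
      have hKeq := hkey K hKc
      rw [eq_top_iff]
      intro u _
      obtain ⟨x, rfl⟩ := QuotientGroup.mk'_surjective _ u
      have : (x : GL ι F) ∈ K := hKeq.symm ▸ x.2
      obtain ⟨y, hy, hyx⟩ := this
      exact Subtype.ext hyx ▸ hy
  · intro hc
    apply hPs
    rw [← hperf]
    refine Subgroup.commutator_le.2 fun a ha b hb => ?_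
    have h1 := hc.is_comm.comm (QuotientGroup.mk (⟨a, ha⟩ : P) : P ⧸ (scalars ι F).subgroupOf P)
      (QuotientGroup.mk ⟨b, hb⟩)
    have h2 : QuotientGroup.mk' ((scalars ι F).subgroupOf P) ⁅(⟨a, ha⟩ : P), (⟨b, hb⟩ : P)⁆ = 1 := by
      rw [map_commutatorElement, commutatorElement_eq_one_iff_mul_comm]
      exact h1
    exact (QuotientGroup.eq_one_iff (⁅(⟨a, ha⟩ : P), (⟨b, hb⟩ : P)⁆ : P)).1 h2

end Cfsg.Agent.AschPrimeCore
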