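/-
Aschbacher's theorem with a form, part 1: sesquilinear forms, adjoints, orthogonal subspaces.
-/
import Cfsg.Agent.Lib.AschPrimeBasic
import Cfsg.Agent.Lib.AschPrimeForms
import Cfsg.Agent.Lib.AschPrimeCore
import Cfsg.Agent.Lib.AschGenAlgebra
import Cfsg.Agent.Lib.AschGenTensor

set_option autoImplicit false
set_option linter.unusedSectionVars false

namespace Cfsg.Agent.AschFormBasic

open scoped Matrix
open Cfsg Cfsg.Geo Cfsg.Agent.AschPrimeBasic Cfsg.Agent.AschPrimeForms Cfsg.Agent.AschGenAlgebra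

variable {ι : Type} [Fintype ι] [DecidableEq ι] {F : Type*} [Field F]

/-- a non-degenerate σ-hermitian or σ-skew-hermitian form -/
structure FormData (σ : F ≃+* F) (ε : F) (f : (ι → F) → (ι → F) → F) : Prop where
  sesq : IsSesq σ f
  invol : ∀ a, σ (σ a) = a
  eps : ε * σ ε = 1
  nd : IsNondegenerateForm f
  herm : ∀ v w, f v w = ε * σ (f w v)

/-- the isometry group of a form -/
def Isos (H : Subgroup (GL ι F)) (f : (ι → F) → (ι → F) → F) : Prop :=
  ∀ g ∈ H, ∀ u v, f ((g : Matrix ι ι F) *ᵥ u) ((g : Matrix ι ι F) *ᵥ v) = f u v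

/-- the adjoint for the form with Gram matrix `G` -/
noncomputable def adj (σ : F ≃+* F) (G k : Matrix ι ι F) : Matrix ι ι F := (G⁻¹ * kᵀ * G).map σ

lemma pow_map_mul (σ : F ≃+* F) (A B C : Matrix ι ι F) :
    (A * B * C).map σ = A.map σ * B.map σ * C.map σ := by
  rw [map_mul_map, map_mul_map]

omit [Fintype ι] [DecidableEq ι] in
lemma map_map_invol {σ : F ≃+* F} (h : ∀ a, σ (σ a) = a) (A : Matrix ι ι F) : (A.map σ).map σ = A :=
  Matrix.ext fun i j => h (A i j)

omit [Fintype ι] [DecidableEq ι] in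
lemma map_smul_mat (σ : F ≃+* F) (c : F) (A : Matrix ι ι F) : (c • A).map σ = σ c • A.map σ :=
  Matrix.ext fun i j => map_mul σ c (A i j)

lemma map_one_mat (σ : F ≃+* F) : (1 : Matrix ι ι F).map σ = 1 := Matrix.map_one _ (map_zero σ) (map_one σ)

section
variable {σ : F ≃+* F} {ε : F} {f : (ι → F) → (ι → F) → F}

lemma FormData.det (hf : FormData σ ε f) : IsUnit (gramMatrix f).det :=
  isUnit_iff_ne_zero.2 (hf.sesq.det_ne_zero hf.nd)

lemma FormData.gram_symm (hf : FormData σ ε f) : gramMatrix f = ε • ((gramMatrix f)ᵀ.map σ) := by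
  ext a b
  exact hf.herm _ _

lemma FormData.eps_ne (hf : FormData σ ε f) : ε ≠ 0 := left_ne_zero_of_mul_eq_one hf.eps

lemma FormData.gram_symm' (hf : FormData σ ε f) : (gramMatrix f)ᵀ.map σ = σ ε • gramMatrix f := by
  conv_rhs => rw [hf.gram_symm, smul_smul, mul_comm, hf.eps, one_smul]

lemma adj_mul (hf : FormData σ ε f) (A B : Matrix ι ι F) :
    adj σ (gramMatrix f) (A * B) = adj σ (gramMatrix f) B * adj σ (gramMatrix f) A := by
  rw [adj, adj, adj, ← map_mul_map]
  congr 1
  rw [Matrix.transpose_mul]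
  simp only [mul_assoc, Matrix.mul_nonsing_inv_cancel_left _ _ hf.det]

lemma adj_add (G A B : Matrix ι ι F) : adj σ G (A + B) = adj σ G A + adj σ G B := by
  simp only [adj, Matrix.transpose_add, mul_add, add_mul]
  exact Matrix.map_add σ (map_add σ) _ _

lemma adj_smul (G : Matrix ι ι F) (c : F) (A : Matrix ι ι F) : adj σ G (c • A) = σ c • adj σ G A := by
  simp only [adj, Matrix.transpose_smul, Matrix.mul_smul, Matrix.smul_mul, map_smul_mat]

lemma adj_one (hf : FormData σ ε f) : adj σ (gramMatrix f) 1 = 1 := by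
  rw [adj, Matrix.transpose_one, mul_one, Matrix.nonsing_inv_mul _ hf.det, map_one_mat]

lemma adj_zero (G : Matrix ι ι F) : adj σ G 0 = 0 := by
  simp [adj, Matrix.map_zero]

lemma adj_adj (hf : FormData σ ε f) (A : Matrix ι ι F) :
    adj σ (gramMatrix f) (adj σ (gramMatrix f) A) = A := by
  set G := gramMatrix f with hG
  -- `Gᵀ = c • G^σ`
  have h1 : Gᵀ = ε • G.map σ := by
    have := congrArg (fun M : Matrix ι ι F => M.map σ) hf.gram_symm'
    rwa [map_map_invol hf.invol, map_smul_mat, hf.invol] at this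
  have hdσ : IsUnit (G.map σ).det := by
    rw [show G.map σ = (σ : F →+* F).mapMatrix G from rfl, ← RingHom.map_det]
    exact hf.det.map _
  have hGinv : (G⁻¹).map σ = (G.map σ)⁻¹ := by
    refine (Matrix.inv_eq_right_inv ?_).symm
    rw [← map_mul_map, Matrix.mul_nonsing_inv _ hf.det, map_one_mat]
  simp only [adj]
  rw [← Matrix.transpose_map, pow_map_mul, map_map_invol hf.invol, Matrix.transpose_mul, Matrix.transpose_mul,
    Matrix.transpose_transpose, Matrix.transpose_nonsing_inv, h1, hGinv]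
  have e : (ε • G.map σ)⁻¹ = ε⁻¹ • (G.map σ)⁻¹ := by
    refine Matrix.inv_eq_right_inv ?_
    rw [Matrix.smul_mul, Matrix.mul_smul, smul_smul, mul_inv_cancel₀ hf.eps_ne, one_smul,
      Matrix.mul_nonsing_inv _ hdσ]
  rw [e]
  simp only [Matrix.smul_mul, Matrix.mul_smul, smul_smul, mul_assoc]
  rw [Matrix.nonsing_inv_mul _ hdσ, mul_one, Matrix.nonsing_inv_mul_cancel_left _ _ hdσ]
  simp [hf.eps_ne]

lemma adjoint_apply (hf : FormData σ ε f) (k : Matrix ι ι F) (u v : ι → F) :
    f (k *ᵥ u) v = f u (adj σ (gramMatrix f) k *ᵥ v) := by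
  rw [hf.sesq.eq_gram, hf.sesq.eq_gram u]
  have h1 : (fun i => σ ((adj σ (gramMatrix f) k *ᵥ v) i)) =
      (adj σ (gramMatrix f) k).map σ *ᵥ fun i => σ (v i) :=
    funext fun i => RingHom.map_mulVec (σ : F →+* F) _ v i
  rw [h1, adj, map_map_invol hf.invol, Matrix.mulVec_mulVec, mul_assoc,
    Matrix.mul_nonsing_inv_cancel_left _ _ hf.det, ← Matrix.mulVec_mulVec, dotProduct_comm (k *ᵥ u),
    Matrix.dotProduct_mulVec, ← Matrix.mulVec_transpose, dotProduct_comm]

lemma iso_gram (hf : FormData σ ε f) {g : GL ι F}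
    (hg : ∀ u v, f ((g : Matrix ι ι F) *ᵥ u) ((g : Matrix ι ι F) *ᵥ v) = f u v) :
    (g : Matrix ι ι F)ᵀ * gramMatrix f * (g : Matrix ι ι F).map σ = gramMatrix f := by
  simpa using (hf.sesq.similar_iff (g : Matrix ι ι F) 1).1 (by simpa using hg)

/-- the adjoint of an isometry is its inverse -/
lemma adj_iso (hf : FormData σ ε f) {g : GL ι F}
    (hg : ∀ u v, f ((g : Matrix ι ι F) *ᵥ u) ((g : Matrix ι ι F) *ᵥ v) = f u v) :
    adj σ (gramMatrix f) (g : Matrix ι ι F) = ((g⁻¹ : GL ι F) : Matrix ι ι F) := by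
  set G := gramMatrix f with hG
  have h1 := iso_gram hf hg
  have h2 : adj σ G (g : Matrix ι ι F) * (g : Matrix ι ι F) = 1 := by
    have h3 : G⁻¹ * ((g : Matrix ι ι F)ᵀ * G) * (g : Matrix ι ι F).map σ = 1 := by
      rw [mul_assoc, h1, Matrix.nonsing_inv_mul _ hf.det]
    have h4 := congrArg (fun M : Matrix ι ι F => M.map σ) h3
    simp only [map_mul_map, map_map_invol hf.invol, map_one_mat] at h4
    simpa only [adj, mul_assoc, map_mul_map] using h4
  calc adj σ G (g : Matrix ι ι F) = adj σ G (g : Matrix ι ι F) * ((g : Matrix ι ι F) * ((g⁻¹ : GL ι F) : Matrix ι ι F)) := by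
        rw [Units.mul_inv, mul_one]
    _ = _ := by rw [← mul_assoc, h2, one_mul]

lemma adj_conj (hf : FormData σ ε f) {g : GL ι F}
    (hg : ∀ u v, f ((g : Matrix ι ι F) *ᵥ u) ((g : Matrix ι ι F) *ᵥ v) = f u v) (k : Matrix ι ι F) :
    adj σ (gramMatrix f) (conjAlg g k) = conjAlg g (adj σ (gramMatrix f) k) := by
  have hginv : ∀ u v, f (((g⁻¹ : GL ι F) : Matrix ι ι F) *ᵥ u) (((g⁻¹ : GL ι F) : Matrix ι ι F) *ᵥ v) = f u v := by
    intro u v
    rw [← hg, mulVec_inv_mulVec, mulVec_inv_mulVec]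
  rw [conjAlg_apply, adj_mul hf, adj_mul hf, adj_iso hf hg, adj_iso hf hginv, inv_inv, conjAlg_apply, mul_assoc]

lemma adj_sum (G : Matrix ι ι F) {κ : Type*} (s : Finset κ) (g : κ → Matrix ι ι F) :
    adj σ G (∑ i ∈ s, g i) = ∑ i ∈ s, adj σ G (g i) :=
  map_sum (AddMonoidHom.mk' (adj σ G) (adj_add G)) g s

end

/-- closed under adjoints -/
def StarClosed (σ : F ≃+* F) (G : Matrix ι ι F) (C : Subalgebra F (Matrix ι ι F)) : Prop :=
  ∀ k ∈ C, adj σ G k ∈ C

lemma StarClosed.adjointClosed {σ : F ≃+* F} {ε : F} {f : (ι → F) → (ι → F) → F} (hf : FormData σ ε f)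
    {C : Subalgebra F (Matrix ι ι F)} (hC : StarClosed σ (gramMatrix f) C) : IsAdjointClosedFor f C :=
  fun k hk => ⟨_, hC k hk, adjoint_apply hf k⟩

lemma StarClosed.adjoin {σ : F ≃+* F} {ε : F} {f : (ι → F) → (ι → F) → F} (hf : FormData σ ε f)
    {S : Set (Matrix ι ι F)} (hS : ∀ s ∈ S, adj σ (gramMatrix f) s ∈ Algebra.adjoin F S) :
    StarClosed σ (gramMatrix f) (Algebra.adjoin F S) := by
  intro k hk
  induction hk using Algebra.adjoin_induction with
  | mem x hx => exact hS x hx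
  | algebraMap c =>
    rw [Algebra.algebraMap_eq_smul_one, adj_smul, adj_one hf]
    exact Subalgebra.smul_mem _ (one_mem _) _
  | add x y _ _ hx hy => rw [adj_add]; exact add_mem hx hy
  | mul x y _ _ hx hy => rw [adj_mul hf]; exact mul_mem hy hx

lemma StarClosed.adjoin_group {σ : F ≃+* F} {ε : F} {f : (ι → F) → (ι → F) → F} (hf : FormData σ ε f)
    {N : Subgroup (GL ι F)} (hN : Isos N f) : StarClosed σ (gramMatrix f) (Algebra.adjoin F (matrixSet N)) := by
  refine StarClosed.adjoin hf ?_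
  rintro _ ⟨g, hg, rfl⟩
  rw [adj_iso hf (hN g hg)]
  exact Algebra.subset_adjoin ⟨g⁻¹, N.inv_mem hg, rfl⟩

lemma StarClosed.inf {σ : F ≃+* F} {G : Matrix ι ι F} {C D : Subalgebra F (Matrix ι ι F)}
    (hC : StarClosed σ G C) (hD : StarClosed σ G D) : StarClosed σ G (C ⊓ D) :=
  fun k hk => ⟨hC k hk.1, hD k hk.2⟩

lemma StarClosed.centralizer {σ : F ≃+* F} {ε : F} {f : (ι → F) → (ι → F) → F} (hf : FormData σ ε f)
    {C : Subalgebra F (Matrix ι ι F)} (hC : StarClosed σ (gramMatrix f) C) :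
    StarClosed σ (gramMatrix f) (Subalgebra.centralizer F (C : Set (Matrix ι ι F))) := by
  intro k hk
  rw [Subalgebra.mem_centralizer_iff] at hk ⊢
  intro c hc
  have h1 := congrArg (adj σ (gramMatrix f)) (hk _ (hC c hc))
  rw [adj_mul hf, adj_mul hf, adj_adj hf] at h1
  exact h1.symm

/-! ### orthogonal subspaces -/

section
variable [Fintype F] {σ : F ≃+* F} {ε : F} {f : (ι → F) → (ι → F) → F}

/-- the orthogonal of a subspace -/
def perp (hf : FormData σ ε f) (W : Submodule F (ι → F)) : Submodule F (ι → F) where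
  carrier := {v | ∀ w ∈ W, f v w = 0}
  add_mem' {u v} hu hv w hw := by rw [hf.sesq.add_left, hu w hw, hv w hw, add_zero]
  zero_mem' w hw := by simpa using hf.sesq.smul_left 0 0 w
  smul_mem' c v hv w hw := by rw [hf.sesq.smul_left, hv w hw, mul_zero]

lemma FormData.symm_zero (hf : FormData σ ε f) {u v : ι → F} (h : f u v = 0) : f v u = 0 := by
  rw [hf.herm, h, map_zero, mul_zero]

/-- an invariant subspace gives a totally singular one or splits the space -/
theorem reducible (hf : FormData σ ε f) {H : Subgroup (GL ι F)} (hH : Isos H f)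
    {W : Submodule F (ι → F)} (hW : Inv H W) (hb : W ≠ ⊥) (ht : W ≠ ⊤) :
    (∃ U : Submodule F (ι → F), U ≠ ⊥ ∧ U ≠ ⊤ ∧ Inv H U ∧ IsTotallySingularFor f U) ∨
    (∃ U U' : Submodule F (ι → F), U ≠ ⊥ ∧ U' ≠ ⊥ ∧ Inv H U ∧ Inv H U' ∧ IsNondegenerateOn f U ∧
      IsNondegenerateOn f U' ∧ AreOrthogonalFor f U U' ∧ U ⊓ U' = ⊥ ∧ U ⊔ U' = ⊤ ∧
      Module.finrank F U + Module.finrank F U' = Fintype.card ι) := by
  classical
  have hWp : Inv H (perp hf W) := by
    intro g hg v hv w hw
    have h1 := hW g⁻¹ (H.inv_mem hg) w hw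
    have h3 := hH g hg v (((g⁻¹ : GL ι F) : Matrix ι ι F) *ᵥ w)
    rw [mulVec_inv_mulVec] at h3
    rw [h3]
    exact hv _ h1
  by_cases hU : W ⊓ perp hf W = ⊥
  swap
  · refine Or.inl ⟨W ⊓ perp hf W, hU, fun h => ht (eq_top_iff.2 (h ▸ inf_le_left)),
      fun g hg x hx => ⟨hW g hg x hx.1, hWp g hg x hx.2⟩, fun u hu v hv => hu.2 v hv.1⟩
  right
  have hnd : ∀ U : Submodule F (ι → F), (∀ u ∈ U, (∀ x ∈ U, f u x = 0) → u = 0) → IsNondegenerateOn f U := by
    intro U h w hw hw0
    obtain ⟨x, hx, hne⟩ : ∃ x ∈ U, f w x ≠ 0 := by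
      by_contra hall
      push Not at hall
      exact hw0 (h w hw hall)
    exact ⟨⟨x, hx, fun h0 => hne (hf.symm_zero h0)⟩, x, hx, hne⟩
  let bW := Module.finBasis F W
  let L : (ι → F) →ₗ[F] (Fin (Module.finrank F W) → F) :=
    { toFun := fun v k => f v (bW k : ι → F)
      map_add' := fun u v => funext fun k => hf.sesq.add_left u v _
      map_smul' := fun c v => funext fun k => hf.sesq.smul_left c v _ }
  have hker : LinearMap.ker L ≤ perp hf W := by
    intro v hv w hw
    have hv' : ∀ k, f v (bW k : ι → F) = 0 := fun k => congrFun (LinearMap.mem_ker.1 hv) k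
    have key : ∀ x ∈ Submodule.span F (Set.range bW), f v (x : ι → F) = 0 := by
      intro x hx
      induction hx using Submodule.span_induction with
      | mem x hx => obtain ⟨k, rfl⟩ := hx; exact hv' k
      | zero => simpa using hf.sesq.smul_right 0 v 0
      | add y z _ _ hy hz => rw [Submodule.coe_add, hf.sesq.add_right, hy, hz, add_zero]
      | smul c y _ hy => rw [Submodule.coe_smul, hf.sesq.smul_right, hy, mul_zero]
    exact key ⟨w, hw⟩ (bW.mem_span _)
  have hdim : Fintype.card ι ≤ Module.finrank F W + Module.finrank F (perp hf W) := by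
    have h1 := LinearMap.finrank_range_add_finrank_ker L
    have h2 : Module.finrank F (LinearMap.range L) ≤ Module.finrank F W :=
      (Submodule.finrank_le _).trans (by simp)
    have h3 := Submodule.finrank_mono hker
    rw [Module.finrank_pi] at h1
    omega
  have hsum := Submodule.finrank_sup_add_finrank_inf_eq W (perp hf W)
  rw [hU, finrank_bot, add_zero] at hsum
  have htop : W ⊔ perp hf W = ⊤ := by
    apply Submodule.eq_top_of_finrank_eq
    have := Submodule.finrank_le (W ⊔ perp hf W)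
    rw [Module.finrank_pi] at this ⊢
    omega
  have hsz : Module.finrank F W + Module.finrank F (perp hf W) = Fintype.card ι := by
    rw [← hsum, htop, finrank_top, Module.finrank_pi]
  refine ⟨W, perp hf W, hb, fun h => ht (by rwa [h, sup_bot_eq] at htop), hW, hWp,
    hnd W fun u hu h => (Submodule.eq_bot_iff _).1 hU u ⟨hu, h⟩, hnd _ fun u hu h => ?_,
    fun u hu v hv => hf.symm_zero (hv u hu), hU, htop, hsz⟩
  by_contra hu0
  obtain ⟨-, x, hx⟩ := hf.nd u hu0
  obtain ⟨w, hw, w', hw', rfl⟩ := Submodule.mem_sup.1 (show x ∈ W ⊔ perp hf W by rw [htop]; trivial)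
  exact hx (by rw [hf.sesq.add_right, hu w hw, h w' hw', add_zero])

/-- two complementary orthogonal nondegenerate subspaces of equal dimension form a decomposition -/
lemma pair_decomposition {H : Subgroup (GL ι F)} {U U' : Submodule F (ι → F)} (hU : Inv H U) (hU' : Inv H U')
    {k : ℕ} (hk : 0 < k) (h1 : Module.finrank F U = k) (h2 : Module.finrank F U' = k) (hinf : U ⊓ U' = ⊥)
    (hsup : U ⊔ U' = ⊤) :
    IsMDecomposition k ![U, U'] ∧ H ≤ decompositionStabilizer ![U, U'] := by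
  refine ⟨⟨le_rfl, hk, fun i => ?_, ?_, ?_⟩, fun g hg => ⟨1, fun i => ?_⟩⟩
  · fin_cases i
    · exact h1
    · exact h2
  · intro i
    fin_cases i
    · have : (⨆ (j : Fin 2) (_ : j ≠ 0), (![U, U'] : Fin 2 → Submodule F (ι → F)) j) ≤ U' := by
        refine iSup₂_le fun j hj => ?_
        fin_cases j
        · exact absurd rfl hj
        · simp
      exact (disjoint_iff.2 hinf).mono_right this
    · have : (⨆ (j : Fin 2) (_ : j ≠ 1), (![U, U'] : Fin 2 → Submodule F (ι → F)) j) ≤ U := by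
        refine iSup₂_le fun j hj => ?_
        fin_cases j
        · simp
        · exact absurd rfl hj
      exact ((disjoint_iff.2 hinf).symm).mono_right this
  · exact eq_top_iff.2 (hsup ▸ sup_le (le_iSup (![U, U'] : Fin 2 → Submodule F (ι → F)) 0) (le_iSup (![U, U'] : Fin 2 → Submodule F (ι → F)) 1))
  · have key : ∀ V : Submodule F (ι → F), Inv H V → V.map (Matrix.toLin' (g : Matrix ι ι F)) = V := by
      intro V hV
      refine le_antisymm ?_ fun v hv => ⟨_, hV g⁻¹ (H.inv_mem hg) v hv, by simp [Matrix.mulVec_mulVec]⟩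
      rintro _ ⟨v, hv, rfl⟩
      simpa using hV g hg v hv
    fin_cases i
    · simpa using key U hU
    · simpa using key U' hU'

end

end Cfsg.Agent.AschFormBasic
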