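/-
Aschbacher's theorem, linear case in arbitrary dimension, part 3: absolutely irreducible groups that commute modulo
scalars, the forms they fix and the subfields over which they are realised.
-/
import Cfsg.Agent.Lib.AschGenTensor
import Cfsg.Agent.Lib.AschPrimeCore

set_option autoImplicit false

namespace Cfsg.Agent.AschGenExtra

open scoped Matrix Kronecker commutatorElement
open Cfsg Cfsg.Geo Cfsg.Agent.AschPrimeBasic Cfsg.Agent.AschPrimeForms Cfsg.Agent.AschPrimeCore
  Cfsg.Agent.AschGenAlgebra Cfsg.Agent.AschGenTensor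

variable {ι : Type} [Fintype ι] [DecidableEq ι] {F : Type*} [Field F] [Fintype F]

/-- all commutators are scalar -/
def Class2 (N : Subgroup (GL ι F)) : Prop := ∀ x ∈ N, ∀ y ∈ N, ⁅x, y⁆ ∈ scalars ι F

/-- an absolutely irreducible group spans the matrix algebra -/
theorem span_eq_top [Nonempty ι] {N : Subgroup (GL ι F)} (hN : AbsIrred N) :
    Submodule.span F (matrixSet N) = ⊤ := by
  classical
  let C := Algebra.adjoin F (matrixSet N)
  have hg : ∀ g ∈ N, (g : Matrix ι ι F) ∈ C := fun g hg => Algebra.subset_adjoin ⟨g, hg, rfl⟩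
  have hss : IsSemisimpleRing C := semisimple_of_comm (S := (N : Set (GL ι F)))
    (fun W hW => hN.irred W hW) fun g hg' => Or.inl (hg g hg')
  obtain ⟨k, hk, ⟨φ⟩⟩ := exists_matrix_equiv C hss fun x _ hx =>
    hN.commutant fun g hg' => hx _ (hg g hg')
  haveI : Nonempty (Fin k) := ⟨⟨0, hk⟩⟩
  obtain ⟨m, e, P, hm, hP⟩ := exists_coords (C.val.comp φ.toAlgHom)
  have hm1 : m = 1 := by
    by_contra hne
    let B : Matrix (Fin m) (Fin m) F := Matrix.single ⟨0, hm⟩ ⟨1, by omega⟩ 1
    let M := (P : Matrix ι ι F) * pull e ((1 : Matrix (Fin k) (Fin k) F) ⊗ₖ B) * ((P⁻¹ : GL ι F) : Matrix ι ι F)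
    obtain ⟨c, hc⟩ := hN.commutant (M := M) fun g hg' => by
      have hX : (g : Matrix ι ι F) = (C.val.comp φ.toAlgHom) (φ.symm ⟨_, hg g hg'⟩) := by simp
      rw [hX, hP]
      simp only [M, mul_assoc, Units.inv_mul_cancel_left]
      simp only [← mul_assoc (pull e _) (pull e _), ← map_mul, ← Matrix.mul_kronecker_mul, one_mul, mul_one]
    have h1 : pull e ((1 : Matrix (Fin k) (Fin k) F) ⊗ₖ B) = pull e (c • 1) := by
      have h2 := congrArg (fun Z => ((P⁻¹ : GL ι F) : Matrix ι ι F) * Z * (P : Matrix ι ι F)) hc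
      simp only [M, mul_assoc, Units.inv_mul_cancel_left, Units.inv_mul, mul_one, Matrix.smul_mul, Matrix.mul_smul]
        at h2
      rw [h2, map_smul, map_one]
    have h3 := congrFun (congrFun (pull_injective (F := F) e h1) (⟨0, hk⟩, ⟨0, hm⟩)) (⟨0, hk⟩, ⟨1, by omega⟩)
    simp [B] at h3
  subst hm1
  have htop : C = ⊤ := eq_top_iff.2 fun M _ => by
    obtain ⟨Y, hY⟩ := pull_surjective (F := F) e (((P⁻¹ : GL ι F) : Matrix ι ι F) * M * (P : Matrix ι ι F))
    let X : Matrix (Fin k) (Fin k) F := Matrix.of fun a b => Y (a, 0) (b, 0)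
    have hYX : Y = X ⊗ₖ (1 : Matrix (Fin 1) (Fin 1) F) := by
      ext ⟨a, i⟩ ⟨b, j⟩
      simp [X, Subsingleton.elim i 0, Subsingleton.elim j 0]
    have : (C.val.comp φ.toAlgHom) X = M := by
      rw [hP, ← hYX, hY]
      simp [mul_assoc]
    exact this ▸ (φ X).2
  have hcl : (Submonoid.closure (matrixSet N) : Set (Matrix ι ι F)) ⊆ matrixSet N := by
    intro x hx
    induction hx using Submonoid.closure_induction with
    | mem x hx => exact hx
    | one => exact ⟨1, N.one_mem, by simp⟩
    | mul x y _ _ hx hy =>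
      obtain ⟨a, ha, rfl⟩ := hx
      obtain ⟨b, hb, rfl⟩ := hy
      exact ⟨a * b, N.mul_mem ha hb, by simp⟩
  refine eq_top_iff.2 (le_trans ?_ (Submodule.span_mono hcl))
  rw [← Algebra.adjoin_eq_span, show Algebra.adjoin F (matrixSet N) = C from rfl, htop]
  simp

omit [Fintype F] in
/-- a commutator with a scalar value, on matrices -/
lemma conj_eq_smul {x y : GL ι F} {c : Fˣ}
    (hc : ((⁅x, y⁆ : GL ι F) : Matrix ι ι F) = (c : F) • 1) :
    (x : Matrix ι ι F) * (y : Matrix ι ι F) * ((x⁻¹ : GL ι F) : Matrix ι ι F) = (c : F) • (y : Matrix ι ι F) := by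
  have h : x * y * x⁻¹ = ⁅x, y⁆ * y := by rw [commutatorElement_def]; group
  have h' := congrArg Units.val h
  simp only [Units.val_mul, hc, Matrix.smul_mul, one_mul] at h'
  exact h'

omit [Fintype F] in
lemma commutator_ne {N : Subgroup (GL ι F)} [Nonempty ι] (hN : AbsIrred N) {x : GL ι F}
    (hx : x ∉ scalars ι F) : ∃ y ∈ N, ⁅y, x⁆ ≠ 1 := by
  by_contra h
  push Not at h
  exact hx (hN.scalar_of_comm fun y hy => (commutatorElement_eq_one_iff_mul_comm.1 (h y hy)).symm)

/-- the members of a class-2 group that are not scalar have trace zero -/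
lemma trace_eq_zero [Nonempty ι] {N : Subgroup (GL ι F)} (hN : AbsIrred N) (h2 : Class2 N) {x : GL ι F}
    (hx : x ∈ N) (hxs : x ∉ scalars ι F) : (x : Matrix ι ι F).trace = 0 := by
  obtain ⟨y, hy, hne⟩ := commutator_ne hN hxs
  obtain ⟨c, hc⟩ := (mem_scalars_iff _).1 (h2 y hy x hx)
  have h1 := congrArg Matrix.trace (conj_eq_smul hc)
  rw [Matrix.trace_mul_comm, ← mul_assoc, ← Units.val_mul, inv_mul_cancel, Units.val_one, one_mul,
    Matrix.trace_smul, smul_eq_mul] at h1
  by_contra h0
  refine hne (Units.ext ?_)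
  rw [hc, mul_right_cancel₀ h0 (show (c : F) * _ = 1 * _ by rw [one_mul]; exact h1.symm), one_smul, Units.val_one]

/-- the dimension is invertible in the field -/
lemma card_ne_zero [Nonempty ι] {N : Subgroup (GL ι F)} (hN : AbsIrred N) (h2 : Class2 N) :
    (Fintype.card ι : F) ≠ 0 := by
  intro h0
  obtain ⟨i⟩ := ‹Nonempty ι›
  have h1 : Submodule.span F (matrixSet N) ≤ LinearMap.ker (Matrix.traceLinearMap ι F F) := by
    rw [Submodule.span_le]
    rintro _ ⟨x, hx, rfl⟩
    by_cases hs : x ∈ scalars ι F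
    · obtain ⟨c, hc⟩ := (mem_scalars_iff _).1 hs
      simp [hc, h0]
    · simpa using trace_eq_zero hN h2 hx hs
  rw [span_eq_top hN] at h1
  have := h1 (Submodule.mem_top (x := Matrix.single i i (1 : F)))
  simp at this

/-- the cosets of the scalars in a class-2 absolutely irreducible group form a basis of the matrix algebra -/
theorem card_quot [Nonempty ι] {N : Subgroup (GL ι F)} (hN : AbsIrred N) (h2 : Class2 N) :
    Nat.card (N ⧸ (scalars ι F).subgroupOf N) = Fintype.card ι * Fintype.card ι := by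
  classical
  set Q := N ⧸ (scalars ι F).subgroupOf N with hQ
  haveI : Fintype Q := Fintype.ofFinite Q
  let rep : Q → GL ι F := fun q => ((Quotient.out q : N) : GL ι F)
  have hrep : ∀ q, rep q ∈ N := fun q => (Quotient.out q : N).2
  have hli : LinearIndependent F fun q => (rep q : Matrix ι ι F) := by
    rw [linearIndependent_iff']
    intro s
    induction s using Finset.induction with
    | empty => simp
    | @insert q₀ s hq₀ ih =>
      intro a ha
      have hs : ∀ q ∈ s, a q = 0 := by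
        intro q hq
        have hns : (rep q₀)⁻¹ * rep q ∉ scalars ι F := fun h => hq₀ (by
          have : q₀ = q := by
            rw [← Quotient.out_eq' q₀, ← Quotient.out_eq' q]
            exact QuotientGroup.eq.2 (Subgroup.mem_subgroupOf.2 h)
          exact this ▸ hq)
        obtain ⟨y, hy, hne⟩ := commutator_ne hN hns
        choose χ hχ using fun r => (mem_scalars_iff _).1 (h2 y hy (rep r) (hrep r))
        have hdiff : χ q ≠ χ q₀ := by
          intro hcc
          apply hne
          rw [commutatorElement_eq_one_iff_mul_comm]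
          apply Units.ext
          have e1 := conj_eq_smul (hχ q)
          have e2 := conj_eq_smul (hχ q₀)
          rw [hcc] at e1
          have key : ((y * ((rep q₀)⁻¹ * rep q) * y⁻¹ : GL ι F) : Matrix ι ι F) =
              (((rep q₀)⁻¹ * rep q : GL ι F) : Matrix ι ι F) := by
            have h3 : y * ((rep q₀)⁻¹ * rep q) * y⁻¹ = (y * rep q₀ * y⁻¹)⁻¹ * (y * rep q * y⁻¹) := by group
            have h4 : (((y * rep q₀ * y⁻¹)⁻¹ : GL ι F) : Matrix ι ι F) =
                ((χ q₀ : F))⁻¹ • (((rep q₀)⁻¹ : GL ι F) : Matrix ι ι F) := by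
              refine Units.inv_eq_of_mul_eq_one_right ?_
              simp only [Units.val_mul, e2, Matrix.smul_mul, Matrix.mul_smul, smul_smul]
              simp
            rw [h3, Units.val_mul, h4, Units.val_mul, Units.val_mul, e1]
            simp only [Matrix.smul_mul, Matrix.mul_smul, smul_smul, Units.val_mul]
            simp
          have h5 := congrArg (fun M => M * (y : Matrix ι ι F)) key
          simpa [mul_assoc] using h5
        have hz : ∑ r ∈ s, ((χ r : F) - χ q₀) • a r • (rep r : Matrix ι ι F) = 0 := by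
          have h1 : ∑ r ∈ insert q₀ s, ((χ r : F) - χ q₀) • a r • (rep r : Matrix ι ι F) = 0 := by
            simp only [sub_smul, Finset.sum_sub_distrib, ← Finset.smul_sum, ha, smul_zero, sub_zero]
            have h6 := congrArg (fun M => (y : Matrix ι ι F) * M * ((y⁻¹ : GL ι F) : Matrix ι ι F)) ha
            simp only [Finset.mul_sum, Finset.sum_mul, Matrix.mul_smul, Matrix.smul_mul, mul_zero, zero_mul,
              conj_eq_smul (hχ _)] at h6
            rw [← h6]
            exact Finset.sum_congr rfl fun r _ => smul_comm _ _ _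
          rwa [Finset.sum_insert hq₀, sub_self, zero_smul, zero_add] at h1
        have := ih (fun r => ((χ r : F) - χ q₀) * a r) (by simpa [smul_smul] using hz) q hq
        exact (mul_eq_zero.1 this).resolve_left (sub_ne_zero.2 fun h => hdiff (Units.ext h))
      intro q hq
      rcases Finset.mem_insert.1 hq with rfl | hq
      · rw [Finset.sum_insert hq₀, Finset.sum_eq_zero fun r hr => by rw [hs r hr, zero_smul], add_zero,
          smul_eq_zero] at ha
        exact ha.resolve_right (Units.ne_zero _)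
      · exact hs q hq
  have hsp : ⊤ ≤ Submodule.span F (Set.range fun q => (rep q : Matrix ι ι F)) := by
    rw [← span_eq_top hN, Submodule.span_le]
    rintro _ ⟨x, hx, rfl⟩
    have h1 : (rep (QuotientGroup.mk ⟨x, hx⟩))⁻¹ * x ∈ scalars ι F :=
      Subgroup.mem_subgroupOf.1 (QuotientGroup.eq.1 (Quotient.out_eq' (QuotientGroup.mk ⟨x, hx⟩ : Q)))
    obtain ⟨c, hc⟩ := (mem_scalars_iff _).1 h1
    have h2 : (x : Matrix ι ι F) = (c : F) • (rep (QuotientGroup.mk ⟨x, hx⟩) : Matrix ι ι F) := by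
      have := congrArg (fun M => (rep (QuotientGroup.mk ⟨x, hx⟩) : Matrix ι ι F) * M) hc
      simpa [← mul_assoc] using this
    rw [SetLike.mem_coe]
    show (x : Matrix ι ι F) ∈ _
    rw [h2]
    exact Submodule.smul_mem _ _ (Submodule.subset_span ⟨_, rfl⟩)
  have := Module.finrank_eq_card_basis (Module.Basis.mk hli hsp)
  rw [Module.finrank_matrix, Module.finrank_self, mul_one] at this
  rw [Nat.card_eq_fintype_card]
  exact this.symm

/-! ### averaging -/

/-- a non-zero matrix intertwining a class-2 group with a twisted copy of itself -/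
theorem exists_intertwiner [Nonempty ι] {N : Subgroup (GL ι F)} (hN : AbsIrred N) (h2 : Class2 N)
    (L : GL ι F → Matrix ι ι F) (R : GL ι F → Matrix ι ι F)
    (hL : ∀ x ∈ N, ∀ y ∈ N, L (x * y) = L x * L y) (hR : ∀ x ∈ N, ∀ y ∈ N, R (x * y) = R y * R x)
    (hzero : ∀ x ∈ N, x ∉ scalars ι F → (L x).trace = 0)
    (hscal : ∀ x ∈ N, x ∈ scalars ι F → (L x).trace * (R x).trace = (Fintype.card ι : F) ^ 2) :
    ∃ M : Matrix ι ι F, M ≠ 0 ∧ ∀ x ∈ N, L x * M * R x = M := by
  classical
  haveI : Fintype N := Fintype.ofFinite N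
  set G : Matrix ι ι F → Matrix ι ι F := fun X => ∑ x : N, L x * X * R x with hG
  have hinv : ∀ X, ∀ y ∈ N, L y * G X * R y = G X := by
    intro X y hy
    simp only [hG, Finset.mul_sum, Finset.sum_mul]
    refine Fintype.sum_equiv (Equiv.mulLeft (⟨y, hy⟩ : N)) _ _ fun x => ?_
    simp only [Equiv.coe_mulLeft, Subgroup.coe_mul, hL y hy x x.2, hR y hy x x.2, mul_assoc]
  by_contra hall
  push Not at hall
  have hG0 : ∀ X, G X = 0 := fun X => by
    by_contra h
    obtain ⟨x, hx, hx'⟩ := hall (G X) h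
    exact hx' (hinv X x hx)
  have h1 : ∑ a, ∑ b, G (Matrix.single a b 1) a b = 0 := by simp [hG0]
  have hsab : ∀ (A B : Matrix ι ι F) (a b : ι), (A * Matrix.single a b (1 : F) * B) a b = A a a * B b b := by
    intro A B a b
    rw [Matrix.mul_apply, Finset.sum_eq_single b]
    · simp
    · intro k _ hk
      simp [Matrix.mul_apply, Matrix.single, Ne.symm hk]
    · simp
  have h3 : ∑ a, ∑ b, G (Matrix.single a b 1) a b = ∑ x : N, (L x).trace * (R x).trace := by
    simp only [hG, Matrix.sum_apply, hsab]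
    rw [Finset.sum_congr rfl (fun a _ => Finset.sum_comm), Finset.sum_comm]
    refine Finset.sum_congr rfl fun x _ => ?_
    simp only [Matrix.trace, Matrix.diag, Finset.sum_mul_sum]
  have h4 : ∑ x : N, (L x).trace * (R x).trace =
      (Nat.card ((scalars ι F).subgroupOf N) : F) * (Fintype.card ι : F) ^ 2 := by
    have hval : ∀ x : N, (L x).trace * (R x).trace =
        if x ∈ (scalars ι F).subgroupOf N then (Fintype.card ι : F) ^ 2 else 0 := by
      intro x
      by_cases hx : (x : GL ι F) ∈ scalars ι F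
      · rw [if_pos (Subgroup.mem_subgroupOf.2 hx)]
        exact hscal x x.2 hx
      · rw [if_neg (fun h => hx (Subgroup.mem_subgroupOf.1 h)), hzero x x.2 hx, zero_mul]
    rw [Finset.sum_congr rfl fun x _ => hval x, ← Finset.sum_filter, Finset.sum_const, nsmul_eq_mul,
      ← Fintype.card_subtype, Nat.card_eq_fintype_card]
  have h5 : (Nat.card ((scalars ι F).subgroupOf N) : F) ≠ 0 := by
    intro h0
    obtain ⟨p, hp⟩ := CharP.exists F
    obtain ⟨e, hpp, -⟩ := FiniteField.card F p
    haveI := Fact.mk hpp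
    have hdvd := (CharP.cast_eq_zero_iff F p _).1 h0
    obtain ⟨x, hx⟩ := exists_prime_orderOf_dvd_card' p hdvd
    obtain ⟨c, hc⟩ := (mem_scalars_iff _).1 (Subgroup.mem_subgroupOf.1 x.2)
    have hxp : ((x : N) : GL ι F) ^ p = 1 := by
      have := congrArg (fun z : (scalars ι F).subgroupOf N => ((z : N) : GL ι F)) (pow_orderOf_eq_one x)
      rw [hx] at this
      simpa using this
    have hcp : (c : F) ^ p = 1 := by
      have := congrArg (fun z : GL ι F => (z : Matrix ι ι F) (Classical.arbitrary ι) (Classical.arbitrary ι)) hxp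
      simpa [Units.val_pow_eq_pow_val, hc, smul_pow] using this
    have hc1 : (c : F) = 1 := by
      rw [← one_pow p] at hcp
      exact frobenius_inj F p (by simpa [frobenius_def] using hcp)
    have : x = 1 := Subtype.ext (Subtype.ext (Units.ext (by simp [hc, hc1])))
    rw [this, orderOf_one] at hx
    exact hpp.one_lt.ne hx
  rw [h3, h4] at h1
  exact mul_ne_zero h5 (pow_ne_zero _ (card_ne_zero hN h2)) h1

/-- the kernel of an invariant semilinear map is trivial -/
lemma det_ne_zero_of_twisted [Nonempty ι] {N : Subgroup (GL ι F)} (hN : Irred N) (σ : F ≃+* F) {G : Matrix ι ι F}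
    (hG0 : G ≠ 0) (hG : ∀ x ∈ N, ∃ A : Matrix ι ι F, G * (x : Matrix ι ι F).map σ = A * G) : G.det ≠ 0 := by
  intro h0
  obtain ⟨v, hv0, hv⟩ := Matrix.exists_mulVec_eq_zero_iff.2 h0
  let W : Submodule F (ι → F) :=
    { carrier := {w | G *ᵥ (σ ∘ w) = 0}
      zero_mem' := by
        show G *ᵥ (σ ∘ 0) = 0
        rw [show σ ∘ (0 : ι → F) = 0 from funext fun i => map_zero σ, Matrix.mulVec_zero]
      add_mem' := fun {a b} ha hb => by
        show G *ᵥ (σ ∘ (a + b)) = 0
        rw [show σ ∘ (a + b) = σ ∘ a + σ ∘ b from funext fun i => map_add σ _ _, Matrix.mulVec_add,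
          show G *ᵥ (σ ∘ a) = 0 from ha, show G *ᵥ (σ ∘ b) = 0 from hb, add_zero]
      smul_mem' := fun c a ha => by
        show G *ᵥ (σ ∘ (c • a)) = 0
        rw [show σ ∘ (c • a) = σ c • (σ ∘ a) from funext fun i => map_mul σ _ _, Matrix.mulVec_smul,
          show G *ᵥ (σ ∘ a) = 0 from ha, smul_zero] }
  have hinv : Inv N W := by
    intro x hx w hw
    obtain ⟨A, hA⟩ := hG x hx
    show G *ᵥ (σ ∘ ((x : Matrix ι ι F) *ᵥ w)) = 0
    rw [show σ ∘ ((x : Matrix ι ι F) *ᵥ w) = (x : Matrix ι ι F).map σ *ᵥ (σ ∘ w) from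
      funext fun i => RingHom.map_mulVec (σ : F →+* F) (x : Matrix ι ι F) w i, Matrix.mulVec_mulVec, hA,
      ← Matrix.mulVec_mulVec, show G *ᵥ (σ ∘ w) = 0 from hw, Matrix.mulVec_zero]
  rcases hN W hinv with h | h
  · have hmem : σ.symm ∘ v ∈ W := by
      show G *ᵥ (σ ∘ (σ.symm ∘ v)) = 0
      rw [show σ ∘ (σ.symm ∘ v) = v from funext fun i => σ.apply_symm_apply (v i), hv]
    rw [h, Submodule.mem_bot] at hmem
    exact hv0 (funext fun i => by simpa using congrArg σ (congrFun hmem i))
  · apply hG0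
    apply Matrix.ext
    intro a b
    have hmem : (Pi.single b 1 : ι → F) ∈ W := h ▸ Submodule.mem_top
    have h1 : σ ∘ (Pi.single b (1 : F) : ι → F) = Pi.single b 1 := by
      funext i
      by_cases hi : i = b <;> simp [hi]
    have h2 : G *ᵥ (σ ∘ (Pi.single b (1 : F) : ι → F)) = 0 := hmem
    rw [h1] at h2
    simpa [Matrix.mulVec_single_one] using congrFun h2 a

/-! ### invariant forms -/

/-- a class-2 group whose scalars are unitary for `σ` preserves a form, and so does its normaliser up to scalars -/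
theorem form_cases [Nonempty ι] {H N : Subgroup (GL ι F)} (hN : AbsIrred N) (hn : NormalBy H N) (h2 : Class2 N)
    (σ : F ≃+* F) (hσ : ∀ a, σ (σ a) = a) (hp : σ = RingEquiv.refl F → (2 : F) ≠ 0)
    (hz : ∀ z ∈ N, ∀ c : F, (z : Matrix ι ι F) = c • 1 → c * σ c = 1) :
    (∃ f : (ι → F) → (ι → F) → F, IsSymplecticForm f ∧ H ≤ similarityGroup f) ∨
    (∃ (σ : F ≃+* F) (f : (ι → F) → (ι → F) → F), IsUnitaryForm σ f ∧ H ≤ similarityGroup f) ∨
    (∃ Q : (ι → F) → F, Odd (Fintype.card F) ∧ IsNondegenerateQuadraticForm Q ∧ H ≤ quadSimilarityGroup Q) := by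
  classical
  have hmap : ∀ A B : Matrix ι ι F, (A * B).map σ = A.map σ * B.map σ := map_mul_map σ
  have htr : ∀ A : Matrix ι ι F, (A.map σ).trace = σ A.trace := fun A => by simp [Matrix.trace, map_sum]
  obtain ⟨G, hG0, hG'⟩ := exists_intertwiner hN h2 (fun x => ((x⁻¹ : GL ι F) : Matrix ι ι F)ᵀ)
    (fun x => ((x⁻¹ : GL ι F) : Matrix ι ι F).map σ)
    (fun x _ y _ => by simp [Matrix.transpose_mul])
    (fun x _ y _ => by simp [hmap])
    (fun x hx hs => by
      rw [Matrix.trace_transpose]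
      exact trace_eq_zero hN h2 (N.inv_mem hx) fun h => hs (by simpa using (scalars ι F).inv_mem h))
    (fun x hx hs => by
      obtain ⟨c, hc⟩ := (mem_scalars_iff _).1 ((scalars ι F).inv_mem hs)
      have h1 := hz x⁻¹ (N.inv_mem hx) c hc
      rw [Matrix.trace_transpose, htr, hc, Matrix.trace_smul, Matrix.trace_one, smul_eq_mul, map_mul, map_natCast]
      linear_combination (Fintype.card ι : F) ^ 2 * h1)
  have hG : ∀ x ∈ N, (x : Matrix ι ι F)ᵀ * G * (x : Matrix ι ι F).map σ = G := fun x hx => by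
    simpa using hG' x⁻¹ (N.inv_mem hx)
  have hdet : G.det ≠ 0 := det_ne_zero_of_twisted hN.irred σ hG0 fun x hx => ⟨((x⁻¹ : GL ι F) : Matrix ι ι F)ᵀ, by
    conv_rhs => rw [← hG x hx]
    simp only [← mul_assoc]
    rw [← Matrix.transpose_mul, Units.mul_inv, Matrix.transpose_one, one_mul]⟩
  have hσσ : ∀ A : Matrix ι ι F, (A.map σ).map σ = A := fun A => Matrix.ext fun i j => hσ (A i j)
  obtain ⟨c, hc⟩ := gram_unique hN σ hdet hG (G' := Gᵀ.map σ) fun x hx => by
    have h1 := congrArg (fun M : Matrix ι ι F => Mᵀ.map σ) (hG x hx)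
    simp only [Matrix.transpose_mul, hmap, Matrix.transpose_transpose, Matrix.transpose_map, hσσ] at h1
    simp only [mul_assoc] at h1 ⊢
    exact h1
  have hsm : ∀ (a : F) (A : Matrix ι ι F), (a • A).map σ = σ a • A.map σ := fun a A =>
    Matrix.ext fun i j => map_mul σ a (A i j)
  have hcc : σ c * c = 1 := by
    have h1 : G = (σ c * c) • G := by
      calc G = (Gᵀ.map σ)ᵀ.map σ := by rw [Matrix.transpose_map, hσσ, Matrix.transpose_transpose]
        _ = _ := by rw [hc, Matrix.transpose_smul, hsm, hc, smul_smul]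
    obtain ⟨a, b, hab⟩ : ∃ a b, G a b ≠ 0 := by
      by_contra h
      push Not at h
      exact hG0 (Matrix.ext h)
    have h3 := congrFun (congrFun h1 a) b
    rw [Matrix.smul_apply, smul_eq_mul] at h3
    exact mul_right_cancel₀ hab (by rw [one_mul]; exact h3.symm)
  by_cases hrefl : σ = RingEquiv.refl F
  · -- bilinear
    subst hrefl
    have h20 := hp rfl
    have hid : ∀ A : Matrix ι ι F, A.map (RingEquiv.refl F) = A := fun A => rfl
    simp only [hid] at hG hc
    simp only [RingEquiv.refl_apply] at hcc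
    let f : (ι → F) → (ι → F) → F := fun u v => u ⬝ᵥ (G *ᵥ v)
    have hbil : IsBilinearForm f := ⟨fun x y v => by simp [f, add_dotProduct], fun c x v => by simp [f],
      fun v x y => by simp [f, Matrix.mulVec_add, dotProduct_add], fun c v x => by simp [f, Matrix.mulVec_smul]⟩
    have hnd : IsNondegenerateForm f := by
      intro v hv
      constructor
      · have h1 : G *ᵥ v ≠ 0 := fun h => hdet (Matrix.exists_mulVec_eq_zero_iff.1 ⟨v, hv, h⟩)
        obtain ⟨i, hi⟩ := Function.ne_iff.1 h1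
        exact ⟨Pi.single i 1, by simpa [f] using hi⟩
      · have h1 : v ᵥ* G ≠ 0 := fun h => hdet (Matrix.exists_vecMul_eq_zero_iff.1 ⟨v, hv, h⟩)
        obtain ⟨i, hi⟩ := Function.ne_iff.1 h1
        exact ⟨Pi.single i 1, by simpa [f, Matrix.dotProduct_mulVec] using hi⟩
    have hsym : ∀ v w, f v w = c * f w v := fun v w => by
      simp only [f]
      rw [Matrix.dotProduct_mulVec, ← Matrix.mulVec_transpose, hc, dotProduct_comm, Matrix.smul_mulVec,
        dotProduct_smul, smul_eq_mul]
    have hfix : FixesForm (matrixSet N) f := by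
      rintro _ ⟨x, hx, rfl⟩ u v
      have h := sesq_of_bilinear hbil
      have hgram : gramMatrix f = G := by
        ext a b
        simp [gramMatrix, f, Matrix.mulVec_single_one]
      have := (h.similar_iff (x : Matrix ι ι F) 1).2 (by rw [one_smul, hgram, hid, hG x hx]) u v
      rwa [one_mul] at this
    have hsim := similar_of_normal hN hn (sesq_of_bilinear hbil) hnd hfix
    rcases mul_self_eq_one_iff.1 hcc with rfl | rfl
    · right; right
      have hpol : QuadraticMap.polar (fun v => f v v) = fun u v => 2 * f u v := by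
        funext u v
        simp only [QuadraticMap.polar, hbil.add_left, hbil.add_right]
        rw [hsym v u]
        ring
      refine ⟨fun v => f v v, odd_card_of_two_ne_zero h20, ⟨fun a v => ?_, ?_, ?_⟩, ?_⟩
      · show f _ _ = _ * f v v
        rw [hbil.smul_left, hbil.smul_right]; ring
      · rw [hpol]
        exact ⟨fun x y v => by simp only [hbil.add_left]; ring, fun c x v => by simp only [hbil.smul_left]; ring,
          fun v x y => by simp only [hbil.add_right]; ring, fun c v x => by simp only [hbil.smul_right]; ring⟩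
      · rw [hpol]
        intro v hv
        obtain ⟨⟨x, hx⟩, ⟨y, hy⟩⟩ := hnd v hv
        exact ⟨⟨x, mul_ne_zero h20 hx⟩, ⟨y, mul_ne_zero h20 hy⟩⟩
      · intro g hg
        obtain ⟨a, ha⟩ := hsim hg
        exact ⟨a, fun v => ha v v⟩
    · left
      refine ⟨f, ⟨hbil, fun v w => by rw [hsym, neg_one_mul], fun v => ?_, hnd⟩, hsim⟩
      exact mul_left_cancel₀ h20 (show 2 * f v v = 2 * 0 by linear_combination hsym v v)
  · -- hermitian
    obtain ⟨a, ha0, ha⟩ : ∃ a : F, a ≠ 0 ∧ σ a * c = a := by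
      have hfix : ∀ t : F, σ (t + c * σ t) * c = t + c * σ t := fun t => by
        rw [map_add, map_mul, hσ]
        linear_combination t * hcc
      by_contra h
      push Not at h
      have h0 : ∀ t : F, t + c * σ t = 0 := fun t => by
        by_contra ht
        exact h _ ht (hfix t)
      have h1 : c = -1 := by
        have := h0 1
        rw [map_one, mul_one] at this
        linear_combination this
      refine hrefl (RingEquiv.ext fun t => ?_)
      have := h0 t
      rw [h1] at this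
      show σ t = t
      linear_combination (-1 : F) * this
    set G₁ := a • G with hG₁
    have hG₁h : G₁ᵀ.map σ = G₁ := by
      rw [hG₁, Matrix.transpose_smul, hsm, hc, smul_smul, ha]
    let f : (ι → F) → (ι → F) → F := fun u v => u ⬝ᵥ (G₁ *ᵥ (σ ∘ v))
    have hherm : ∀ i j, σ (G₁ j i) = G₁ i j := fun i j => congrFun (congrFun hG₁h i) j
    have hnd : IsNondegenerateForm f := by
      intro v hv
      have hG₁d : G₁.det ≠ 0 := by
        rw [hG₁, Matrix.det_smul]
        exact mul_ne_zero (pow_ne_zero _ ha0) hdet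
      have hv' : σ ∘ v ≠ 0 := fun h => hv (funext fun i => by
        simpa [hσ] using congrArg σ (congrFun h i))
      constructor
      · have h1 : G₁ *ᵥ (σ ∘ v) ≠ 0 := fun h => hG₁d (Matrix.exists_mulVec_eq_zero_iff.1 ⟨_, hv', h⟩)
        obtain ⟨i, hi⟩ := Function.ne_iff.1 h1
        exact ⟨Pi.single i 1, by simpa [f] using hi⟩
      · have h1 : v ᵥ* G₁ ≠ 0 := fun h => hG₁d (Matrix.exists_vecMul_eq_zero_iff.1 ⟨v, hv, h⟩)
        obtain ⟨i, hi⟩ := Function.ne_iff.1 h1
        refine ⟨Pi.single i 1, ?_⟩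
        have : σ ∘ (Pi.single i (1 : F) : ι → F) = Pi.single i 1 := by
          funext k
          by_cases hk : k = i <;> simp [hk]
        simp only [f, this, Matrix.dotProduct_mulVec]
        simpa using hi
    have hf : IsUnitaryForm σ f := by
      refine ⟨hrefl, hσ, fun x y v => by simp [f, add_dotProduct], fun c x v => by simp [f], fun v w => ?_, hnd⟩
      simp only [f, dotProduct, Matrix.mulVec, Function.comp_apply, map_sum, map_mul, hσ, Finset.mul_sum]
      rw [Finset.sum_comm]
      refine Finset.sum_congr rfl fun i _ => Finset.sum_congr rfl fun j _ => ?_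
      rw [hherm]
      ring
    right; left
    refine ⟨σ, f, hf, similar_of_normal hN hn (sesq_of_unitary hf) hnd ?_⟩
    rintro _ ⟨x, hx, rfl⟩ u v
    have hgram : gramMatrix f = G₁ := by
      ext i j
      have : σ ∘ (Pi.single j (1 : F) : ι → F) = Pi.single j 1 := by
        funext k
        by_cases hk : k = j <;> simp [hk]
      simp [gramMatrix, f, this, Matrix.mulVec_single_one]
    have := ((sesq_of_unitary hf).similar_iff (x : Matrix ι ι F) 1).2
      (by rw [one_smul, hgram, hG₁, Matrix.mul_smul, Matrix.smul_mul, hG x hx]) u v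
    rwa [one_mul] at this

/-! ### realisation over subfields -/

/-- a class-2 group whose scalars are fixed by `φ` is realised over the fixed field -/
theorem subfield_of_fixed [Nonempty ι] {H N : Subgroup (GL ι F)} (hN : AbsIrred N) (hn : NormalBy H N)
    (h2 : Class2 N) (φ : F ≃+* F) (hz : ∀ z ∈ N, ∀ c : F, (z : Matrix ι ι F) = c • 1 → φ c = c) :
    ∃ P : GL ι F, H ≤ subfieldSubgroup (fixedField φ) P := by
  classical
  obtain ⟨B, hB0, hB'⟩ := exists_intertwiner hN h2 (fun x => (x : Matrix ι ι F))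
    (fun x => ((x⁻¹ : GL ι F) : Matrix ι ι F).map φ) (fun x _ y _ => rfl)
    (fun x _ y _ => by simp [map_mul_map]) (fun x hx hs => trace_eq_zero hN h2 hx hs)
    (fun x hx hs => by
      obtain ⟨c, hc⟩ := (mem_scalars_iff _).1 hs
      have hinv : ((x⁻¹ : GL ι F) : Matrix ι ι F) = (c : F)⁻¹ • 1 := by
        refine Units.inv_eq_of_mul_eq_one_right ?_
        simp [hc, smul_smul]
      have e : (((x⁻¹ : GL ι F) : Matrix ι ι F).map φ).trace = (Fintype.card ι : F) * φ (c : F)⁻¹ := by
        simp [Matrix.trace, hinv, mul_comm]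
      rw [e, hc, Matrix.trace_smul, Matrix.trace_one, smul_eq_mul, map_inv₀, hz x hx c hc]
      field_simp [Units.ne_zero c])
  have hB : ∀ x ∈ N, (x : Matrix ι ι F) * B = B * (x : Matrix ι ι F).map φ := fun x hx => by
    conv_rhs => rw [← hB' x hx]
    simp only [mul_assoc, ← map_mul_map, Units.inv_mul]
    simp
  have hdet : B.det ≠ 0 := det_ne_zero_of_twisted hN.irred φ hB0 fun x hx => ⟨_, (hB x hx).symm⟩
  -- the semilinear map
  let T : (ι → F) → (ι → F) := fun v => B *ᵥ (φ ∘ v)
  have Tadd : ∀ u v, T (u + v) = T u + T v := fun u v => by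
    simp only [T]
    rw [show φ ∘ (u + v) = φ ∘ u + φ ∘ v from funext fun i => map_add φ _ _, Matrix.mulVec_add]
  have Tsmul : ∀ (a : F) v, T (a • v) = φ a • T v := fun a v => by
    simp only [T]
    rw [show φ ∘ (a • v) = φ a • (φ ∘ v) from funext fun i => map_mul φ _ _, Matrix.mulVec_smul]
  have hcomp : ∀ (M : Matrix ι ι F) (v : ι → F), φ ∘ (M *ᵥ v) = M.map φ *ᵥ (φ ∘ v) := fun M v =>
    funext fun i => RingHom.map_mulVec (φ : F →+* F) M v i
  have Tx : ∀ x ∈ N, ∀ v, T ((x : Matrix ι ι F) *ᵥ v) = (x : Matrix ι ι F) *ᵥ T v := fun x hx v => by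
    simp only [T, hcomp, Matrix.mulVec_mulVec, hB x hx]
  haveI : Finite (F ≃+* F) := Finite.of_injective (fun e => (e : F → F)) fun e e' h =>
    RingEquiv.ext fun x => congrFun h x
  set d := orderOf φ with hd
  have hd0 : 0 < d := orderOf_pos φ
  have hφd : φ ^ d = 1 := pow_orderOf_eq_one φ
  -- the power `T^d` is linear and commutes with `N`
  have Tit : ∀ k : ℕ, (∀ u v, T^[k] (u + v) = T^[k] u + T^[k] v) ∧ (∀ (a : F) v, T^[k] (a • v) = (φ ^ k) a • T^[k] v) ∧
      ∀ x ∈ N, ∀ v, T^[k] ((x : Matrix ι ι F) *ᵥ v) = (x : Matrix ι ι F) *ᵥ T^[k] v := by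
    intro k
    induction k with
    | zero => simp
    | succ k ih =>
      refine ⟨fun u v => ?_, fun a v => ?_, fun x hx v => ?_⟩
      · simp only [Function.iterate_succ', Function.comp_apply, ih.1, Tadd]
      · simp only [Function.iterate_succ', Function.comp_apply, ih.2.1, Tsmul, pow_succ']
        rfl
      · simp only [Function.iterate_succ', Function.comp_apply, ih.2.2 x hx, Tx x hx]
  let Lm : (ι → F) →ₗ[F] (ι → F) :=
    { toFun := T^[d]
      map_add' := (Tit d).1
      map_smul' := fun a v => by rw [(Tit d).2.1, hφd]; rfl }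
  obtain ⟨l, hl⟩ := hN.commutant (M := LinearMap.toMatrix' Lm) fun x hx => by
    apply Matrix.toLin'.injective
    apply LinearMap.ext
    intro v
    rw [Matrix.toLin'_mul, Matrix.toLin'_mul, Matrix.toLin'_toMatrix']
    simp only [LinearMap.comp_apply, Matrix.toLin'_apply]
    exact (Tit d).2.2 x hx v
  have hTd : ∀ v, T^[d] v = l • v := fun v => by
    have h1 := congrArg (fun M => Matrix.toLin' M v) hl
    simp only [Matrix.toLin'_toMatrix'] at h1
    rw [Matrix.toLin'_apply, Matrix.smul_mulVec, Matrix.one_mulVec] at h1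
    exact h1
  obtain ⟨w, hw⟩ : ∃ w : ι → F, w ≠ 0 := ⟨fun _ => 1, fun h => one_ne_zero (congrFun h (Classical.arbitrary ι))⟩
  have Tinj : Function.Injective T := fun u v huv => by
    have h1 : B *ᵥ (φ ∘ u - φ ∘ v) = 0 := by rw [Matrix.mulVec_sub, sub_eq_zero]; exact huv
    by_contra hne
    exact hdet (Matrix.exists_mulVec_eq_zero_iff.1 ⟨_, fun h0 => hne (funext fun i => φ.injective
      (sub_eq_zero.1 (congrFun h0 i))), h1⟩)
  have T0 : T 0 = 0 := by simpa using Tsmul 0 w
  have hl0 : l ≠ 0 := fun h0 => hw (Tinj.iterate d (by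
    rw [hTd, hTd, h0, zero_smul, zero_smul]))
  have hlfix : φ l = l := by
    have h1 : T^[d] (T w) = T (T^[d] w) := by rw [← Function.iterate_succ_apply, Function.iterate_succ_apply']
    rw [hTd, hTd, Tsmul] at h1
    have h2 : T w ≠ 0 := fun h => hw (Tinj (h.trans T0.symm))
    exact (smul_left_injective F h2 h1).symm
  -- fixed elements are norms
  obtain ⟨c, hc⟩ : ∃ c : Fˣ, ∏ i ∈ Finset.range d, (φ ^ i) (c : F) = l := by
    let nm : Fˣ →* Fˣ :=
      { toFun := fun c => ∏ i ∈ Finset.range d, Units.map ((φ ^ i : F ≃+* F) : F →* F) c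
        map_one' := by simp
        map_mul' := fun a b => by simp [Finset.prod_mul_distrib] }
    let δ : Fˣ →* Fˣ :=
      { toFun := fun y => Units.map (φ : F →* F) y * y⁻¹
        map_one' := by simp
        map_mul' := fun a b => by simp [mul_mul_mul_comm, mul_comm] }
    have hlin : ∀ c : Fˣ, nm c = 1 → c ∈ δ.range := by
      intro c hc
      let cs : ℕ → F := fun k => ∏ i ∈ Finset.range k, (φ ^ i) (c : F)
      have hcsd : cs d = 1 := by
        simpa [nm, cs, Units.coe_prod] using congrArg Units.val hc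
      obtain ⟨t, ht⟩ : ∃ t : F, ∑ k ∈ Finset.range d, cs k * (φ ^ k) t ≠ 0 := by
        by_contra h
        push Not at h
        have hinj : Function.Injective fun k : Fin d => ((φ ^ (k : ℕ) : F ≃+* F) : F →* F) := fun a b hab =>
          Fin.ext (pow_injOn_Iio_orderOf a.2 b.2 (RingEquiv.ext fun x => DFunLike.congr_fun hab x))
        have hli := (linearIndependent_monoidHom F F).comp _ hinj
        have h1 := Fintype.linearIndependent_iff.1 hli (fun k : Fin d => cs k) (by
          funext t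
          simp only [Finset.sum_apply, Pi.smul_apply, smul_eq_mul, Function.comp_apply, MonoidHom.coe_coe,
            Pi.zero_apply]
          exact (Fin.sum_univ_eq_sum_range (fun k => cs k * (φ ^ k) t) d).trans (h t)) ⟨0, hd0⟩
        simp [cs] at h1
      set y := ∑ k ∈ Finset.range d, cs k * (φ ^ k) t with hy
      refine ⟨(Units.mk0 y ht)⁻¹, ?_⟩
      have hstep : ∀ k, (c : F) * φ (cs k * (φ ^ k) t) = cs (k + 1) * (φ ^ (k + 1)) t := by
        intro k
        simp only [cs, map_mul, map_prod, Finset.prod_range_succ', pow_zero, RingAut.one_apply, pow_succ']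
        simp only [RingAut.mul_apply]
        ring
      have hshift : (c : F) * φ y = y := by
        rw [hy, map_sum, Finset.mul_sum, Finset.sum_congr rfl fun k _ => hstep k]
        have h1 := Finset.sum_range_succ' (fun k => cs k * (φ ^ k) t) d
        rw [Finset.sum_range_succ, hcsd] at h1
        simp only [cs, Finset.range_zero, Finset.prod_empty, pow_zero, RingAut.one_apply, one_mul, hφd] at h1
        exact (add_right_cancel h1).symm
      apply Units.ext
      simp [δ]
      rw [inv_mul_eq_iff_eq_mul₀ (by simpa using ht), mul_comm]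
      exact hshift.symm
    have hker : nm.range ≤ δ.ker := by
      rintro _ ⟨c, rfl⟩
      rw [MonoidHom.mem_ker]
      show Units.map (φ : F →* F) (nm c) * (nm c)⁻¹ = 1
      rw [mul_inv_eq_one]
      apply Units.ext
      simp only [nm, MonoidHom.coe_mk, OneHom.coe_mk, Units.coe_map, Units.coe_prod, map_prod, MonoidHom.coe_coe]
      have h1 := Finset.prod_range_succ' (fun i => (φ ^ i) (c : F)) d
      rw [Finset.prod_range_succ, hφd, pow_zero] at h1
      have h2 : ∏ i ∈ Finset.range d, φ ((φ ^ i) (c : F)) = ∏ i ∈ Finset.range d, (φ ^ (i + 1)) (c : F) :=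
        Finset.prod_congr rfl fun i _ => by rw [pow_succ']; rfl
      rw [h2]
      exact (mul_right_cancel₀ (by simp) h1).symm
    have hcard : Nat.card δ.ker ≤ Nat.card nm.range := by
      have e1 := Subgroup.card_mul_index nm.ker
      have e2 := Subgroup.card_mul_index δ.ker
      rw [Subgroup.index_ker] at e1 e2
      have e3 : Nat.card nm.ker ≤ Nat.card δ.range :=
        Subgroup.card_le_of_le fun c hc => hlin c (MonoidHom.mem_ker.1 hc)
      have hpos : 0 < Nat.card δ.range := Nat.card_pos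
      by_contra hlt
      push Not at hlt
      have : Nat.card nm.ker * Nat.card nm.range < Nat.card δ.range * Nat.card δ.ker :=
        Nat.mul_lt_mul_of_le_of_lt e3 hlt hpos
      rw [e1, mul_comm (Nat.card δ.range), e2] at this
      exact lt_irrefl _ this
    have heq : nm.range = δ.ker := Subgroup.eq_of_le_of_card_ge hker hcard
    have hmem : Units.mk0 l hl0 ∈ δ.ker := by
      rw [MonoidHom.mem_ker]
      show Units.map (φ : F →* F) _ * _ = 1
      rw [mul_inv_eq_one]
      exact Units.ext (by simpa using hlfix)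
    obtain ⟨c, hc⟩ := heq ▸ hmem
    exact ⟨c, by simpa [nm, Units.coe_prod] using congrArg Units.val hc⟩
  let S : (ι → F) → (ι → F) := fun v => (c : F)⁻¹ • T v
  have Sit : ∀ k v, S^[k] v = (∏ i ∈ Finset.range k, (φ ^ i) (c : F))⁻¹ • T^[k] v := by
    intro k
    induction k with
    | zero => simp
    | succ k ih =>
      intro v
      rw [Function.iterate_succ_apply', ih]
      simp only [S, Tsmul, smul_smul, map_inv₀, map_prod, Function.iterate_succ_apply']
      congr 1
      rw [Finset.prod_range_succ', mul_inv]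
      simp only [pow_succ', RingAut.mul_apply, pow_zero, RingAut.one_apply]
      ring
  have Sd : ∀ v, S^[d] v = v := fun v => by rw [Sit, hTd, hc, smul_smul, inv_mul_cancel₀ hl0, one_smul]
  have hspan : Submodule.span F {v | S v = v} = ⊤ := by
    by_contra hne
    obtain ⟨v, hv⟩ : ∃ v, v ∉ Submodule.span F {v | S v = v} := by
      by_contra h
      push Not at h
      exact hne (eq_top_iff.2 fun v _ => h v)
    obtain ⟨g, hg, hg'⟩ := Submodule.exists_dual_map_eq_bot_of_notMem hv inferInstance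
    have hsum : ∀ t : F, ∑ k ∈ Finset.range d, (φ ^ k) t * g (S^[k] v) = 0 := by
      intro t
      have hSk : ∀ k, S^[k] (t • v) = (φ ^ k) t • S^[k] v := fun k => by
        rw [Sit, Sit, (Tit k).2.1, smul_comm]
      have hfixed : S (∑ k ∈ Finset.range d, S^[k] (t • v)) = ∑ k ∈ Finset.range d, S^[k] (t • v) := by
        have Sadd : ∀ u w, S (u + w) = S u + S w := fun u w => by simp [S, Tadd]
        let SA : (ι → F) →+ (ι → F) := AddMonoidHom.mk' S Sadd
        show SA _ = _
        rw [map_sum]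
        have h1 := Finset.sum_range_succ' (fun k => S^[k] (t • v)) d
        rw [Finset.sum_range_succ, Sd] at h1
        simp only [Function.iterate_zero, id_eq] at h1
        refine Eq.trans ?_ (add_right_cancel h1).symm
        exact Finset.sum_congr rfl fun k _ => (Function.iterate_succ_apply' S k _).symm
      have h1 : g (∑ k ∈ Finset.range d, S^[k] (t • v)) = 0 := by
        have : g (∑ k ∈ Finset.range d, S^[k] (t • v)) ∈ (Submodule.span F {v | S v = v}).map g :=
          ⟨_, Submodule.subset_span hfixed, rfl⟩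
        rwa [hg', Submodule.mem_bot] at this
      simpa [map_sum, hSk] using h1
    have hinj : Function.Injective fun k : Fin d => ((φ ^ (k : ℕ) : F ≃+* F) : F →* F) := fun a b hab =>
      Fin.ext (pow_injOn_Iio_orderOf a.2 b.2 (RingEquiv.ext fun x => DFunLike.congr_fun hab x))
    have h1 := Fintype.linearIndependent_iff.1 ((linearIndependent_monoidHom F F).comp _ hinj)
      (fun k : Fin d => g (S^[(k : ℕ)] v)) (by
        funext t
        simp only [Finset.sum_apply, Pi.smul_apply, smul_eq_mul, Function.comp_apply, MonoidHom.coe_coe,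
          Pi.zero_apply]
        rw [Fin.sum_univ_eq_sum_range (fun k => g (S^[k] v) * (φ ^ k) t) d, ← hsum t]
        exact Finset.sum_congr rfl fun k _ => mul_comm _ _) ⟨0, hd0⟩
    exact hg (by simpa using h1)
  -- a basis of fixed vectors
  obtain ⟨b, hb, hspanb, hlib⟩ := exists_linearIndependent F {v : ι → F | S v = v}
  rw [hspan] at hspanb
  haveI : Fintype b := (hlib.setFinite).fintype
  let bb := Module.Basis.mk hlib (by rw [Subtype.range_coe_subtype, Set.setOf_mem_eq, hspanb])
  let e : ι ≃ b := Fintype.equivOfCardEq (by rw [← Module.finrank_eq_card_basis bb, Module.finrank_pi])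
  let Pm : Matrix ι ι F := Matrix.of fun r j => (e j : ι → F) r
  have hPdet : Pm.det ≠ 0 := ((Matrix.isUnit_iff_isUnit_det _).1
    (Matrix.linearIndependent_cols_iff_isUnit.1 (hlib.comp e e.injective))).ne_zero
  let P : GL ι F := Matrix.GeneralLinearGroup.mkOfDetNeZero Pm hPdet
  have hP : B * Pm.map φ = (c : F) • Pm := by
    ext r j
    have h1 := congrFun (hb (e j).2) r
    simp only [S, T, Pi.smul_apply, smul_eq_mul, Matrix.mulVec, dotProduct, Function.comp_apply] at h1
    rw [Matrix.mul_apply, Matrix.smul_apply, smul_eq_mul]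
    show ∑ k, B r k * φ ((e j : ι → F) k) = c * (e j : ι → F) r
    rw [← h1, ← mul_assoc, mul_inv_cancel₀ (Units.ne_zero c), one_mul]
  refine ⟨P⁻¹⁻¹, le_subfieldSubgroup hN hn fun x hx i j => ?_⟩
  rw [inv_inv]
  set Y : Matrix ι ι F := ((P⁻¹ * x * P : GL ι F) : Matrix ι ι F) with hY
  suffices Y.map φ = Y from congrFun (congrFun this i) j
  have hxP : (x : Matrix ι ι F) * Pm = Pm * Y := by
    show (x : Matrix ι ι F) * (P : Matrix ι ι F) = _ * Y
    rw [hY, show Pm = (P : Matrix ι ι F) from rfl, ← Units.val_mul, ← Units.val_mul]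
    congr 1
    group
  have h1 : B * (Pm.map φ * Y.map φ) = B * (Pm.map φ * Y) := by
    rw [← map_mul_map, ← hxP, map_mul_map, ← mul_assoc, ← hB x hx, mul_assoc, hP, Matrix.mul_smul, hxP,
      ← mul_assoc B, hP, Matrix.smul_mul]
  have hu : IsUnit (B * Pm.map φ) := by
    rw [Matrix.isUnit_iff_isUnit_det, hP, Matrix.det_smul, isUnit_iff_ne_zero]
    exact mul_ne_zero (pow_ne_zero _ (Units.ne_zero c)) hPdet
  exact hu.mul_left_cancel (by simpa [mul_assoc] using h1)

/-! ### the symplectic-type group -/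

omit [Fintype ι] [DecidableEq ι] in
/-- the formula for powers of a product with a central commutator -/
lemma mul_pow_central {G : Type*} [Group G] {x y c : G} (hc : ∀ g, c * g = g * c) (h : y * x = c * (x * y))
    (k : ℕ) : (x * y) ^ k = c ^ (k.choose 2) * (x ^ k * y ^ k) := by
  have hck : ∀ (i : ℕ) (g : G), c ^ i * g = g * c ^ i := fun i g => ((show Commute c g from hc g).pow_left i).eq
  have hyx : ∀ k : ℕ, y ^ k * x = c ^ k * (x * y ^ k) := by
    intro k
    induction k with
    | zero => simp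
    | succ k ih =>
      rw [pow_succ', mul_assoc, ih, ← mul_assoc y, ← hck, mul_assoc, ← mul_assoc y, h]
      simp only [← mul_assoc, ← pow_succ]
  induction k with
  | zero => simp
  | succ k ih =>
    rw [pow_succ, ih, Nat.choose_succ_succ, Nat.choose_one_right]
    calc c ^ (k.choose 2) * (x ^ k * y ^ k) * (x * y) = c ^ (k.choose 2) * (x ^ k * (y ^ k * x) * y) := by
          simp only [mul_assoc]
      _ = c ^ (k.choose 2) * (x ^ k * (c ^ k * (x * y ^ k)) * y) := by rw [hyx]
      _ = c ^ (k.choose 2) * ((x ^ k * c ^ k) * (x * y ^ k * y)) := by simp only [mul_assoc]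
      _ = c ^ (k.choose 2) * c ^ k * (x ^ k * x * (y ^ k * y)) := by rw [← hck k (x ^ k)]; simp only [mul_assoc]
      _ = _ := by rw [← pow_add, ← pow_succ, ← pow_succ, add_comm]

/-- a group whose non-scalar members have trace zero, in invertible dimension -/
def Traceless (R : Subgroup (GL ι F)) : Prop :=
  (Fintype.card ι : F) ≠ 0 ∧ (∀ x ∈ R, x ∉ scalars ι F → (x : Matrix ι ι F).trace = 0) ∧ ¬ R ≤ scalars ι F

/-- the outcome for an absolutely irreducible group that commutes modulo scalars -/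
def ExtraOutcome (H : Subgroup (GL ι F)) : Prop :=
  (∃ (φ : F ≃+* F) (r : ℕ) (P : GL ι F), r.Prime ∧ Fintype.card F = Nat.card (fixedField φ) ^ r ∧
    H ≤ subfieldSubgroup (fixedField φ) P) ∨
  (∃ (p e r m : ℕ) (R : Subgroup (GL ι F)), p.Prime ∧ CharP F p ∧ Fintype.card F = p ^ e ∧ r.Prime ∧
    Fintype.card ι = r ^ m ∧
    ((Odd r ∧ Odd e ∧ r ∣ p ^ e - 1 ∧ ∀ d, 0 < d → d < e → ¬ r ∣ p ^ d - 1) ∨ (r = 2 ∧ e = 1 ∧ p % 4 = 1)) ∧
    IsLinearSymplecticTypeData r R ∧ H ≤ subgroupNormalizer R ∧ Traceless R) ∨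
  (∃ f : (ι → F) → (ι → F) → F, IsSymplecticForm f ∧ H ≤ similarityGroup f) ∨
  (∃ (σ : F ≃+* F) (f : (ι → F) → (ι → F) → F), IsUnitaryForm σ f ∧ H ≤ similarityGroup f) ∨
  (∃ Q : (ι → F) → F, Odd (Fintype.card F) ∧ IsNondegenerateQuadraticForm Q ∧ H ≤ quadSimilarityGroup Q)

/-- a minimal normal class-2 group gives a symplectic-type group, a subfield or a form -/
theorem extra_cases (h3 : 3 ≤ Fintype.card ι) {H N : Subgroup (GL ι F)} (hsl : H ≤ specialLinear ι F)
    (hNle : N ≤ H) (hn : NormalBy H N) (hN : AbsIrred N) (h2 : Class2 N)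
    (hmin : ∀ K, K ≤ N → NormalBy H K → N ⊓ scalars ι F ≤ K → K ≤ scalars ι F ∨ K = N) : ExtraOutcome H := by
  classical
  haveI : Nonempty ι := Fintype.card_pos_iff.1 (by omega)
  let qh := QuotientGroup.mk' (scalars ι F)
  have hqc : ∀ x ∈ N, ∀ y ∈ N, Commute (qh x) (qh y) := fun x hx y hy => by
    show qh x * qh y = qh y * qh x
    rw [← commutatorElement_eq_one_iff_mul_comm, ← map_commutatorElement]
    exact (QuotientGroup.eq_one_iff _).2 (h2 x hx y hy)
  have hqs : ∀ x, x ∈ scalars ι F ↔ qh x = 1 := fun x => (QuotientGroup.eq_one_iff _).symm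
  have hQ := card_quot hN h2
  set n := Fintype.card ι with hn'
  set Q := N ⧸ (scalars ι F).subgroupOf N with hQdef
  have hQ1 : 1 < Nat.card Q := by rw [hQ]; exact Nat.mul_le_mul (show 2 ≤ n by omega) (show 1 ≤ n by omega)
  obtain ⟨r, hr, hrQ⟩ := Nat.exists_prime_and_dvd hQ1.ne'
  haveI := Fact.mk hr
  -- exponent `r` modulo scalars
  let K₀ : Subgroup (GL ι F) :=
    { carrier := {x | x ∈ N ∧ x ^ r ∈ scalars ι F}
      one_mem' := ⟨N.one_mem, by simpa using (scalars ι F).one_mem⟩
      mul_mem' := fun {x y} hx hy => ⟨N.mul_mem hx.1 hy.1, by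
        rw [hqs, map_pow, map_mul, (hqc x hx.1 y hy.1).mul_pow, ← map_pow, ← map_pow, (hqs _).1 hx.2,
          (hqs _).1 hy.2, one_mul]⟩
      inv_mem' := fun {x} hx => ⟨N.inv_mem hx.1, by rw [inv_pow]; exact (scalars ι F).inv_mem hx.2⟩ }
  have hns : ¬ N ≤ scalars ι F := fun h => hQ1.ne' (by
    have : Subsingleton Q := ⟨fun a b => by
      obtain ⟨a, rfl⟩ := QuotientGroup.mk_surjective a
      obtain ⟨b, rfl⟩ := QuotientGroup.mk_surjective b
      exact QuotientGroup.eq.2 (Subgroup.mem_subgroupOf.2 (h (a⁻¹ * b).2))⟩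
    exact Nat.card_of_subsingleton (1 : Q))
  have hpow : ∀ x ∈ N, x ^ r ∈ scalars ι F := by
    have hK : K₀ = N := by
      refine (hmin K₀ (fun x hx => hx.1) (fun h hh x hx => ⟨hn h hh x hx.1, ?_⟩)
        (fun x hx => ⟨hx.1, (scalars ι F).pow_mem hx.2 r⟩)).resolve_left fun hle => ?_
      · rw [show (h * x * h⁻¹) ^ r = h * x ^ r * h⁻¹ from by simpa using (map_pow (MulAut.conj h) x r).symm]
        exact (scalars_normal (ι := ι) (F := F)).conj_mem _ hx.2 h
      · obtain ⟨g, hg⟩ := exists_prime_orderOf_dvd_card' r hrQ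
        obtain ⟨x, rfl⟩ := QuotientGroup.mk_surjective g
        have h1 : (QuotientGroup.mk x : Q) ^ r = 1 := hg ▸ pow_orderOf_eq_one _
        have hx : (x : GL ι F) ∈ K₀ := ⟨x.2, by
          rw [← QuotientGroup.mk_pow, QuotientGroup.eq_one_iff] at h1
          simpa using Subgroup.mem_subgroupOf.1 h1⟩
        rw [(QuotientGroup.eq_one_iff x).2 (Subgroup.mem_subgroupOf.2 (hle hx)), orderOf_one] at hg
        exact hr.one_lt.ne hg
    intro x hx
    exact (hK.symm ▸ hx : x ∈ K₀).2
  obtain ⟨m, hm⟩ : ∃ m, n = r ^ m := by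
    have hP : IsPGroup r Q := fun g => by
      obtain ⟨x, rfl⟩ := QuotientGroup.mk_surjective g
      refine ⟨1, ?_⟩
      rw [pow_one, ← QuotientGroup.mk_pow, QuotientGroup.eq_one_iff]
      exact Subgroup.mem_subgroupOf.2 (by simpa using hpow x x.2)
    obtain ⟨k, hk⟩ := IsPGroup.iff_card.1 hP
    rw [hQ] at hk
    obtain ⟨m, -, hm⟩ := (Nat.dvd_prime_pow hr).1 (hk ▸ dvd_mul_right n n : n ∣ r ^ k)
    exact ⟨m, hm⟩
  have hm1 : 1 ≤ m := by
    rcases Nat.eq_zero_or_pos m with h | h
    · rw [h, pow_zero] at hm; omega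
    · exact h
  -- commutators have order dividing `r`
  have hcr : ∀ x ∈ N, ∀ y ∈ N, ⁅x, y⁆ ^ r = 1 := by
    intro x hx y hy
    have hc := h2 x hx y hy
    have h1 : x * y ^ r * x⁻¹ = ⁅x, y⁆ ^ r * y ^ r := by
      rw [← (show Commute ⁅x, y⁆ y from scalar_comm hc y).mul_pow,
        show x * y ^ r * x⁻¹ = (x * y * x⁻¹) ^ r from by simpa using map_pow (MulAut.conj x) y r,
        commutatorElement_def]
      congr 1
      group
    rw [← scalar_comm (hpow y hy) x, mul_inv_cancel_right] at h1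
    exact (right_eq_mul.1 h1)
  obtain ⟨x₀, hx₀, hx₀s⟩ := SetLike.not_le_iff_exists.1 hns
  obtain ⟨y₀, hy₀, hne⟩ := commutator_ne hN hx₀s
  obtain ⟨c₀, hc₀⟩ := (mem_scalars_iff _).1 (h2 y₀ hy₀ x₀ hx₀)
  have hc₀r : c₀ ^ r = 1 ∧ c₀ ≠ 1 := by
    refine ⟨Units.ext ?_, fun h => hne (Units.ext (by rw [hc₀, h]; simp))⟩
    have := congrArg (fun z : GL ι F => (z : Matrix ι ι F) (Classical.arbitrary ι) (Classical.arbitrary ι))
      (hcr y₀ hy₀ x₀ hx₀)
    simpa [Units.val_pow_eq_pow_val, hc₀, smul_pow] using this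
  have hord : orderOf c₀ = r := orderOf_eq_prime hc₀r.1 hc₀r.2
  obtain ⟨p, hp⟩ := CharP.exists F
  obtain ⟨⟨e, he0⟩, hpp, he⟩ := FiniteField.card F p
  simp only [PNat.mk_coe] at he
  haveI := Fact.mk hpp
  have hrq : r ∣ p ^ e - 1 := by
    rw [← he, ← hord, ← Fintype.card_units]
    exact orderOf_dvd_card
  have hrp : r ≠ p := by
    rintro rfl
    have h1 := Nat.dvd_sub (dvd_pow_self r he0.ne') hrq
    rw [show r ^ e - (r ^ e - 1) = 1 by have := Nat.one_le_pow e r hr.pos; omega] at h1
    exact hr.one_lt.ne' (Nat.dvd_one.1 h1)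
  have h2ne : r = 2 → (2 : F) ≠ 0 := fun h2' h => hrp (by
    have : p ∣ 2 := (CharP.cast_eq_zero_iff F p 2).1 (by exact_mod_cast h)
    rw [h2']
    exact ((Nat.prime_dvd_prime_iff_eq hpp Nat.prime_two).1 this).symm)
  -- the scalars of `N`
  have hZdet : ∀ x ∈ N, ∀ c : F, (x : Matrix ι ι F) = c • 1 → c ^ n = 1 := by
    intro x hx c hc
    have h1 := (mem_sl_iff x).1 (hsl (hNle hx))
    rwa [hc, Matrix.det_smul, Matrix.det_one, mul_one] at h1
  by_cases h4 : r = 2 ∧ ¬ 4 ∣ p ^ e - 1
  · -- the scalars are signs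
    obtain ⟨rfl, h4⟩ := h4
    refine Or.inr (Or.inr ?_)
    refine form_cases hN hn h2 (RingEquiv.refl F) (fun a => rfl) (fun _ => h2ne rfl) ?_
    intro z hz c hc
    have hcn := hZdet z hz c hc
    have hc0 : c ≠ 0 := fun h => by rw [h, zero_pow (by omega)] at hcn; exact zero_ne_one hcn
    have h1 : c ^ Nat.gcd n (p ^ e - 1) = 1 := pow_gcd_eq_one.2 ⟨hcn, by rw [← he]; exact FiniteField.pow_card_sub_one_eq_one c hc0⟩
    obtain ⟨j, -, hj⟩ := (Nat.dvd_prime_pow Nat.prime_two).1
      (hm ▸ Nat.gcd_dvd_left n (p ^ e - 1) : Nat.gcd n (p ^ e - 1) ∣ 2 ^ m)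
    rw [hj] at h1
    show c * c = 1
    rcases Nat.lt_or_ge j 2 with hj2 | hj2
    · interval_cases j <;> simp_all [sq]
    · exact absurd ((Dvd.dvd.trans (pow_dvd_pow 2 hj2) (hj ▸ Nat.gcd_dvd_right n (p ^ e - 1)))) h4
  push Not at h4
  set z := if r = 2 then 4 else r with hzdef
  have hrz : r ∣ z := by rw [hzdef]; split_ifs with h <;> simp [h]
  have hz3 : 3 ≤ z := by
    rw [hzdef]; split_ifs with h
    · norm_num
    · have := hr.two_le; omega
  have hzq : z ∣ Fintype.card F - 1 := by
    rw [he, hzdef]; split_ifs with h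
    · exact h4 h
    · exact hrq
  let μ : Subgroup (GL ι F) :=
    { carrier := {x | x ∈ scalars ι F ∧ x ^ z = 1}
      one_mem' := ⟨(scalars ι F).one_mem, one_pow z⟩
      mul_mem' := fun {x y} hx hy => ⟨(scalars ι F).mul_mem hx.1 hy.1, by
        rw [(show Commute x y from scalar_comm hx.1 y).mul_pow, hx.2, hy.2, one_mul]⟩
      inv_mem' := fun {x} hx => ⟨(scalars ι F).inv_mem hx.1, by rw [inv_pow, hx.2, inv_one]⟩ }
  have hμs : μ ≤ scalars ι F := fun x hx => hx.1
  let sc : Fˣ →* GL ι F := Units.map (Matrix.scalar ι : F →+* Matrix ι ι F).toMonoidHom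
  have hscinj : Function.Injective sc := fun a b h => Units.ext (by
    simpa [sc] using congrArg (fun u : GL ι F => (u : Matrix ι ι F) (Classical.arbitrary ι) (Classical.arbitrary ι)) h)
  have hμk : μ = (powMonoidHom (α := Fˣ) z).ker.map sc := by
    ext x
    constructor
    · rintro ⟨⟨c, rfl⟩, hx⟩
      exact ⟨c, hscinj (by rw [powMonoidHom_apply, map_pow, map_one]; exact hx), rfl⟩
    · rintro ⟨c, hc, rfl⟩
      exact ⟨⟨c, rfl⟩, by rw [← map_pow, show c ^ z = 1 from hc, map_one]⟩
  have hμcard : Nat.card μ = z := by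
    rw [hμk, Subgroup.card_map_of_injective hscinj, IsCyclic.card_powMonoidHom_ker, Nat.card_units,
      Nat.card_eq_fintype_card, Nat.gcd_eq_right hzq]
  haveI : IsCyclic μ := isCyclic_of_le_scalars hμs
  obtain ⟨⟨μ₀, hμ₀⟩, hμgen⟩ := IsCyclic.exists_ofOrder_eq_natCard (α := μ)
  rw [hμcard, ← Subgroup.orderOf_coe] at hμgen
  have hμord : orderOf μ₀ = z := hμgen
  -- commutators in `μ`, and the sign a power in `μ`
  have hcμ : ∀ x ∈ N, ∀ y ∈ N, ⁅x, y⁆ ∈ μ := fun x hx y hy => ⟨h2 x hx y hy, by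
    obtain ⟨k, hk⟩ := hrz
    rw [hk, pow_mul, hcr x hx y hy, one_pow]⟩
  have hodd' : r ≠ 2 → ∀ c : GL ι F, c ^ r = 1 → c ^ (r.choose 2) = 1 := fun h c hc => by
    obtain ⟨k, hk⟩ := Nat.Prime.dvd_choose_self hr (show (2 : ℕ) ≠ 0 by omega)
      (by have := hr.two_le; omega)
    rw [hk, pow_mul, hc, one_pow]
  have hsq : ∀ x ∈ N, ∀ y ∈ N, ∃ w ∈ μ, w ^ r = ⁅y, x⁆ ^ (r.choose 2) := by
    intro x hx y hy
    by_cases h : r = 2
    · -- the sign is a square
      have hzz : z = 4 := by rw [hzdef, if_pos h]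
      have hc := hcr y hy x hx
      rw [h] at hc ⊢
      rw [show (2 : ℕ).choose 2 = 1 from rfl, pow_one]
      obtain ⟨c, hcs⟩ := (mem_scalars_iff _).1 (h2 y hy x hx)
      by_cases hc1 : ⁅y, x⁆ = 1
      · exact ⟨1, μ.one_mem, by rw [one_pow, hc1]⟩
      refine ⟨μ₀, hμ₀, ?_⟩
      have key : ∀ a : GL ι F, a ∈ scalars ι F → a ^ 2 = 1 → a ≠ 1 → ∀ b, b ∈ scalars ι F → b ^ 2 = 1 → b ≠ 1 →
          a = b := by
        rintro _ ⟨a, rfl⟩ ha ha1 _ ⟨b, rfl⟩ hb hb1
        have aux : ∀ u : Fˣ, sc u ^ 2 = 1 → sc u ≠ 1 → (u : F) = -1 := by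
          intro u hu hu1
          rw [← map_pow, ← map_one sc] at hu
          rcases mul_self_eq_one_iff.1 (show (u : F) * u = 1 by rw [← sq]; exact congrArg Units.val (hscinj hu)) with
            h' | h'
          · exact absurd (by rw [show u = 1 from Units.ext h', map_one]) hu1
          · exact h'
        exact congrArg sc (Units.ext ((aux a ha ha1).trans (aux b hb hb1).symm))
      refine key _ ((scalars ι F).pow_mem hμ₀.1 2) ?_ ?_ _ (h2 y hy x hx) hc hc1
      · rw [← pow_mul, show 2 * 2 = z by rw [hzz]]; exact hμ₀.2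
      · intro h0
        have := Nat.le_of_dvd two_pos (orderOf_dvd_of_pow_eq_one h0)
        omega
    · exact ⟨1, μ.one_mem, by rw [one_pow, hodd' h _ (hcr y hy x hx)]⟩
  -- every element is an `r`-th root of a power
  set Z' := (N ⊓ scalars ι F) ⊔ μ with hZ'
  have hZ's : Z' ≤ scalars ι F := sup_le inf_le_right hμs
  haveI : IsCyclic Z' := isCyclic_of_le_scalars hZ's
  have hyx : ∀ x y : GL ι F, y * x = ⁅y, x⁆ * (x * y) := fun x y => by rw [commutatorElement_def]; group
  let K₁ : Subgroup (GL ι F) :=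
    { carrier := {x | x ∈ N ∧ ∃ w ∈ Z', x ^ r = w ^ r}
      one_mem' := ⟨N.one_mem, 1, Z'.one_mem, by simp⟩
      mul_mem' := fun {x y} hx hy => by
        obtain ⟨hxN, w, hw, hxw⟩ := hx
        obtain ⟨hyN, v, hv, hyv⟩ := hy
        obtain ⟨u, hu, huc⟩ := hsq x hxN y hyN
        refine ⟨N.mul_mem hxN hyN, u * (w * v), Z'.mul_mem (Subgroup.mem_sup_right hu) (Z'.mul_mem hw hv), ?_⟩
        rw [mul_pow_central (scalar_comm (h2 y hyN x hxN)) (hyx x y), hxw, hyv, ← huc,
          (show Commute u (w * v) from scalar_comm hu.1 _).mul_pow,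
          (show Commute w v from scalar_comm (hZ's hw) _).mul_pow]
      inv_mem' := fun {x} hx => by
        obtain ⟨hxN, w, hw, hxw⟩ := hx
        exact ⟨N.inv_mem hxN, w⁻¹, Z'.inv_mem hw, by rw [inv_pow, inv_pow, hxw]⟩ }
  have hroot : ∀ x ∈ N, ∃ w ∈ Z', x ^ r = w ^ r := by
    have hK : K₁ = N := by
      refine (hmin K₁ (fun x hx => hx.1) (fun h hh x hx => ⟨hn h hh x hx.1, ?_⟩)
        (fun x hx => ⟨hx.1, x, Subgroup.mem_sup_left hx, rfl⟩)).resolve_left fun hle => ?_
      · obtain ⟨-, w, hw, hxw⟩ := hx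
        refine ⟨w, hw, ?_⟩
        rw [show (h * x * h⁻¹) ^ r = h * x ^ r * h⁻¹ from by simpa using (map_pow (MulAut.conj h) x r).symm, hxw,
          ← scalar_comm ((scalars ι F).pow_mem (hZ's hw) r) h, mul_inv_cancel_right]
      · obtain ⟨⟨g, hg⟩, hgen⟩ := IsCyclic.exists_generator (α := Z')
        have hin : ∀ x ∈ N, x ^ r ∈ Z' := fun x hx => Subgroup.mem_sup_left ⟨N.pow_mem hx r, hpow x hx⟩
        have hexp : ∀ x ∈ N, ∃ a : ℤ, x ^ r = g ^ a := fun x hx => by
          obtain ⟨a, ha⟩ := Subgroup.mem_zpowers_iff.1 (hgen ⟨_, hin x hx⟩)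
          exact ⟨a, by simpa using (congrArg Subtype.val ha).symm⟩
        have hmem : ∀ x ∈ N, ∀ a : ℤ, x ^ r = g ^ a → (r : ℤ) ∣ a → x ∈ scalars ι F := fun x hx a ha hra => by
          obtain ⟨b, rfl⟩ := hra
          exact hle ⟨hx, g ^ b, Z'.zpow_mem hg b, by rw [ha, mul_comm, zpow_mul, zpow_natCast]⟩
        obtain ⟨a, ha⟩ := hexp x₀ hx₀
        obtain ⟨b, hb⟩ := hexp y₀ hy₀
        have hra : ¬ (r : ℤ) ∣ a := fun h => hx₀s (hmem x₀ hx₀ a ha h)
        obtain ⟨k, hk⟩ : ∃ k : ℕ, (r : ℤ) ∣ a * k + b := by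
          refine ⟨(-(b : ZMod r) / (a : ZMod r)).val, (ZMod.intCast_zmod_eq_zero_iff_dvd _ r).1 ?_⟩
          push_cast
          rw [ZMod.natCast_val, ZMod.cast_id, mul_div_cancel₀ _
            (fun h => hra ((ZMod.intCast_zmod_eq_zero_iff_dvd a r).1 h))]
          ring
        obtain ⟨u, hu, huc⟩ := hsq (x₀ ^ k) (N.pow_mem hx₀ k) y₀ hy₀
        obtain ⟨j, hj⟩ := Subgroup.mem_zpowers_iff.1 (hgen ⟨u, Subgroup.mem_sup_right hu⟩)
        have hj' : g ^ j = u := by simpa using congrArg Subtype.val hj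
        have h1 : (x₀ ^ k * y₀) ^ r = g ^ (j * r + (a * k + b)) := by
          rw [mul_pow_central (scalar_comm (h2 y₀ hy₀ _ (N.pow_mem hx₀ k))) (hyx _ y₀), ← huc, ← pow_mul,
            mul_comm k r, pow_mul, ha, hb, ← hj', zpow_add, zpow_add, zpow_mul, zpow_mul, zpow_natCast, zpow_natCast]
        have h5 := hmem _ (N.mul_mem (N.pow_mem hx₀ k) hy₀) _ h1 (dvd_add (dvd_mul_left _ _) hk)
        apply hne
        rw [commutatorElement_eq_one_iff_mul_comm]
        have h6 : x₀ ^ k * y₀ * x₀ = x₀ * (x₀ ^ k * y₀) := scalar_comm h5 x₀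
        rw [mul_assoc, ← mul_assoc x₀, ← pow_succ', pow_succ, mul_assoc] at h6
        exact mul_left_cancel h6
    intro x hx
    exact (hK.symm ▸ hx : x ∈ K₁).2
  -- the group
  have hcomm₂ : Class2 (N ⊔ μ) := by
    intro x hx y hy
    obtain ⟨a, ha, s, hs, rfl⟩ := mem_sup_scalars hμs hx
    obtain ⟨b, hb, t, ht, rfl⟩ := mem_sup_scalars hμs hy
    rw [commutator_central_mul (hμs hs) (hμs ht)]
    exact h2 a ha b hb
  have hcr₂ : ∀ x ∈ N ⊔ μ, ∀ y ∈ N ⊔ μ, ⁅x, y⁆ ^ r = 1 := by
    intro x hx y hy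
    obtain ⟨a, ha, s, hs, rfl⟩ := mem_sup_scalars hμs hx
    obtain ⟨b, hb, t, ht, rfl⟩ := mem_sup_scalars hμs hy
    rw [commutator_central_mul (hμs hs) (hμs ht)]
    exact hcr a ha b hb
  have hcz : ∀ c : GL ι F, c ^ r = 1 → c ^ (z.choose 2) = 1 := fun c hc => by
    by_cases h : r = 2
    · rw [hzdef, if_pos h, show (4 : ℕ).choose 2 = 2 * 3 from rfl, pow_mul]
      rw [h] at hc
      rw [hc, one_pow]
    · rw [hzdef, if_neg h]; exact hodd' h c hc
  let R : Subgroup (GL ι F) :=
    { carrier := {x | x ∈ N ⊔ μ ∧ x ^ z = 1}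
      one_mem' := ⟨(N ⊔ μ).one_mem, one_pow z⟩
      mul_mem' := fun {x y} hx hy => ⟨(N ⊔ μ).mul_mem hx.1 hy.1, by
        rw [mul_pow_central (scalar_comm (hcomm₂ y hy.1 x hx.1)) (hyx x y), hx.2, hy.2,
          hcz _ (hcr₂ y hy.1 x hx.1), one_mul, one_mul]⟩
      inv_mem' := fun {x} hx => ⟨(N ⊔ μ).inv_mem hx.1, by rw [inv_pow, hx.2, inv_one]⟩ }
  have hμR : μ ≤ R := fun x hx => ⟨Subgroup.mem_sup_right hx, hx.2⟩
  have hRmem : ∀ x ∈ N, ∃ a ∈ R, ∃ w ∈ scalars ι F, x = a * w := by
    intro x hx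
    obtain ⟨w, hw, hxw⟩ := hroot x hx
    refine ⟨x * w⁻¹, ⟨(N ⊔ μ).mul_mem (Subgroup.mem_sup_left hx) ((N ⊔ μ).inv_mem
      ((sup_le_sup_right inf_le_left μ : Z' ≤ N ⊔ μ) hw)), ?_⟩, w, hZ's hw, by group⟩
    obtain ⟨k, hk⟩ := hrz
    rw [hk, pow_mul, (show Commute x w⁻¹ from ((show Commute w x from scalar_comm (hZ's hw) x).symm.inv_right)).mul_pow,
      hxw, inv_pow, mul_inv_cancel, one_pow]
  have hRn : NormalBy H R := by
    intro h hh x hx
    refine ⟨normalBy_sup hn (fun a _ w hw => ?_) h hh x hx.1, ?_⟩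
    · rwa [← scalar_comm (hμs hw) a, mul_inv_cancel_right]
    · rw [show (h * x * h⁻¹) ^ z = h * x ^ z * h⁻¹ from by simpa using (map_pow (MulAut.conj h) x z).symm, hx.2]
      group
  have hRs : ∀ x, x ∈ R → x ∈ scalars ι F → x ∈ μ := fun x hx hs => ⟨hs, hx.2⟩
  have habs : AbsIrred R := by
    refine AbsIrred.mk' (fun W hW => hN.irred W fun g hg w hw => ?_) fun M hM => hN.commutant fun g hg => ?_
    · obtain ⟨a, ha, s, hs, rfl⟩ := hRmem g hg
      obtain ⟨c, hc⟩ := (mem_scalars_iff s).1 hs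
      rw [Units.val_mul, hc, Matrix.mul_smul, mul_one, Matrix.smul_mulVec]
      exact W.smul_mem _ (hW a ha w hw)
    · obtain ⟨a, ha, s, hs, rfl⟩ := hRmem g hg
      obtain ⟨c, hc⟩ := (mem_scalars_iff s).1 hs
      rw [Units.val_mul, hc, Matrix.mul_smul, mul_one, Matrix.mul_smul, Matrix.smul_mul, hM a ha]
  have hR2 : Class2 R := fun x hx y hy => hcomm₂ x hx.1 y hy.1
  have hscal : ∀ (x : GL ι F), x ∈ R → ∀ c : F, (x : Matrix ι ι F) = c • 1 → c ^ z = 1 := by
    intro x hx c hc
    have := congrArg (fun u : GL ι F => (u : Matrix ι ι F) (Classical.arbitrary ι) (Classical.arbitrary ι)) hx.2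
    simpa [Units.val_pow_eq_pow_val, hc, smul_pow] using this
  have hcomm_ne : ¬ Commute x₀ y₀ := fun h => hne (commutatorElement_eq_one_iff_mul_comm.2 h.eq.symm)
  have hRns : ¬ R ≤ scalars ι F := fun h => hx₀s (by
    obtain ⟨a, ha, w, hw, hxa⟩ := hRmem x₀ hx₀
    rw [hxa]
    exact (scalars ι F).mul_mem (h ha) hw)
  -- the minimal field
  by_cases hminf : ∃ d, 0 < d ∧ d < e ∧ z ∣ p ^ d - 1
  · obtain ⟨d, hd0, hde, hdd⟩ := hminf
    left
    set g := Nat.gcd d e with hg
    have hgd : z ∣ p ^ g - 1 := by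
      rw [hg, ← Nat.pow_sub_one_gcd_pow_sub_one]
      exact Nat.dvd_gcd hdd (he ▸ hzq)
    have hge : g < e := lt_of_le_of_lt (Nat.le_of_dvd hd0 (Nat.gcd_dvd_left d e)) hde
    obtain ⟨φ, r', hr', hcard, hfix⟩ := exists_maximal_subfield (F := F) he (Nat.gcd_dvd_right d e) hge
    obtain ⟨P, hP⟩ := subfield_of_fixed habs hRn hR2 φ fun x hx c hc => hfix c (by
      obtain ⟨k, hk⟩ := hgd
      have hpos : 1 ≤ p ^ g := Nat.one_le_pow _ _ hpp.pos
      rw [show p ^ g = z * k + 1 by omega, pow_add, pow_mul, hscal x hx c hc, one_pow, one_mul, pow_one])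
    exact ⟨φ, r', P, hr', hcard, hP⟩
  push Not at hminf
  rcases Nat.even_or_odd e with ⟨h, hh⟩ | heodd
  · -- unitary
    have hmpos : 0 < h := by omega
    have h1 : z ∣ p ^ h + 1 := by
      have h2' : p ^ e - 1 = (p ^ h + 1) * (p ^ h - 1) := by rw [hh, ← Nat.sq_sub_sq, pow_add, sq, one_pow]
      have hz' : z ∣ (p ^ h + 1) * (p ^ h - 1) := by rw [← h2', ← he]; exact hzq
      by_cases hr2 : r = 2
      · have hz4 : z = 4 := by rw [hzdef, if_pos hr2]
        rw [hz4]
        have hp2 : ¬ 2 ∣ p := fun h' => hrp (hr2.trans ((Nat.prime_dvd_prime_iff_eq Nat.prime_two hpp).1 h'))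
        have hodd : ¬ 2 ∣ p ^ h := fun h' => hp2 (Nat.prime_two.dvd_of_dvd_pow h')
        have h4' : ¬ 4 ∣ p ^ h - 1 := hz4 ▸ hminf h hmpos (by omega)
        omega
      · have hzr : z = r := by rw [hzdef, if_neg hr2]
        rw [hzr] at hz' ⊢
        exact (hr.dvd_mul.1 hz').resolve_right (hzr ▸ hminf h hmpos (by omega))
    let σ := iterateFrobeniusEquiv F p h
    have hσ : ∀ x, σ x = x ^ p ^ h := fun x => iterateFrobeniusEquiv_def F p h x
    have hinv : ∀ x, σ (σ x) = x := fun x => by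
      rw [hσ, hσ, ← pow_mul, ← pow_add, ← hh, ← he]
      exact FiniteField.pow_card x
    have hmul : ∀ a : F, a ^ z = 1 → a * σ a = 1 := fun a ha => by
      obtain ⟨k, hk⟩ := h1
      rw [hσ, ← pow_succ', hk, pow_mul, ha, one_pow]
    have hne' : σ ≠ RingEquiv.refl F := by
      intro hrefl
      obtain ⟨u, hu⟩ := (mem_scalars_iff μ₀).1 hμ₀.1
      have h2' := hmul u (hscal μ₀ (hμR hμ₀) u hu)
      rw [hrefl, RingEquiv.refl_apply] at h2'
      have : μ₀ ^ 2 = 1 := Units.ext (by simp [Units.val_pow_eq_pow_val, hu, sq, smul_smul, h2'])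
      have := Nat.le_of_dvd two_pos (orderOf_dvd_of_pow_eq_one this)
      omega
    refine Or.inr (Or.inr ?_)
    exact form_cases habs hRn hR2 σ hinv (fun h' => absurd h' hne') fun x hx c hc => hmul c (hscal x hx c hc)
  -- symplectic type
  have hcenter : Subgroup.center R = μ.subgroupOf R := by
    ext x
    rw [Subgroup.mem_center_iff, Subgroup.mem_subgroupOf]
    constructor
    · intro hx
      refine hRs _ x.2 (habs.scalar_of_comm fun s hs => ?_)
      exact congrArg Subtype.val (hx ⟨s, hs⟩).symm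
    · intro hx y
      exact Subtype.ext (scalar_comm (hμs hx) _).symm
  have hcenter_card : Nat.card (Subgroup.center R) = z := by
    rw [hcenter, Nat.card_congr (Subgroup.subgroupOfEquivOfLe hμR).toEquiv, hμcard]
  have hRcard : Nat.card R = z * (n * n) := by
    rw [Subgroup.card_eq_card_quotient_mul_card_subgroup ((scalars ι F).subgroupOf R), card_quot habs hR2, mul_comm]
    congr 1
    have : (scalars ι F).subgroupOf R = μ.subgroupOf R := by
      ext x
      exact ⟨fun h => Subgroup.mem_subgroupOf.2 (hRs _ x.2 h), fun h => Subgroup.mem_subgroupOf.2 (hμs h)⟩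
    rw [this, Nat.card_congr (Subgroup.subgroupOfEquivOfLe hμR).toEquiv, hμcard]
  have hzr : z = r * Nat.gcd 2 r := by
    rw [hzdef]; split_ifs with h
    · subst h; rfl
    · rw [show Nat.gcd 2 r = 1 from (Nat.coprime_primes Nat.prime_two hr).2 (Ne.symm h), mul_one]
  have hexp : Monoid.exponent R = z := by
    refine Nat.dvd_antisymm (Monoid.exponent_dvd_of_forall_pow_eq_one fun x => Subtype.ext (by simpa using x.2.2)) ?_
    rw [← hμord, show orderOf μ₀ = orderOf (⟨μ₀, hμR hμ₀⟩ : R) from (Subgroup.orderOf_mk μ₀ _).symm]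
    exact Monoid.order_dvd_exponent _
  have hzpow : z = r ∨ z = r ^ 2 := by
    rw [hzdef]; split_ifs with h
    · right; subst h; rfl
    · left; rfl
  have hsymp : IsSymplecticTypeGroup r R := by
    refine ⟨hr, fun x => ?_, fun A hA hAc => ?_, hexp.trans hzr⟩
    · rcases hzpow with h | h
      · exact ⟨1, Subtype.ext (by simpa [← h] using x.2.2)⟩
      · exact ⟨2, Subtype.ext (by simpa [← h] using x.2.2)⟩
    · set A' : Subgroup (GL ι F) := A.map R.subtype with hA'
      have hA'n : NormalBy H A' := by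
        rintro a ha _ ⟨x, hx, rfl⟩
        let φ : R ≃* R :=
          { toFun := fun r => ⟨a * r * a⁻¹, hRn a ha _ r.2⟩
            invFun := fun r => ⟨a⁻¹ * r * a, by simpa using hRn a⁻¹ (H.inv_mem ha) _ r.2⟩
            left_inv := fun r => Subtype.ext (by simp [mul_assoc])
            right_inv := fun r => Subtype.ext (by simp [mul_assoc])
            map_mul' := fun r s => Subtype.ext (by simp [mul_assoc]) }
        exact ⟨φ x, (hA.fixed φ).ge hx, rfl⟩
      have hsc : A' ≤ scalars ι F := by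
        rcases hmin ((A' ⊔ scalars ι F) ⊓ N) inf_le_right
          (normalBy_inf (normalBy_sup hA'n (normalBy_scalars H)) hn)
          (fun x hx => ⟨Subgroup.mem_sup_right hx.2, hx.1⟩) with hle | heq
        · intro x hx
          have hxR : x ∈ R := Subgroup.map_subtype_le A hx
          obtain ⟨a, ha, s, hs, hax⟩ := mem_sup_scalars hμs hxR.1
          have : a ∈ scalars ι F := hle ⟨by
            rw [eq_mul_inv_of_mul_eq hax]
            exact Subgroup.mul_mem _ (Subgroup.mem_sup_left hx) (Subgroup.mem_sup_right ((scalars ι F).inv_mem (hμs hs))), ha⟩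
          rw [← hax]
          exact (scalars ι F).mul_mem this (hμs hs)
        · exfalso
          refine hcomm_ne ?_
          have hx' : x₀ ∈ A' ⊔ scalars ι F := (heq.ge hx₀).1
          have hy' : y₀ ∈ A' ⊔ scalars ι F := (heq.ge hy₀).1
          obtain ⟨a, ha, s, hs, rfl⟩ := mem_sup_scalars le_rfl hx'
          obtain ⟨b, hb, t, ht, rfl⟩ := mem_sup_scalars le_rfl hy'
          have hab : a * b = b * a := by
            obtain ⟨a, ha, rfl⟩ := ha
            obtain ⟨b, hb, rfl⟩ := hb
            exact congrArg (fun z : A => ((z : R) : GL ι F)) (hAc.is_comm.comm ⟨a, ha⟩ ⟨b, hb⟩)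
          rw [← commutatorElement_eq_one_iff_commute, commutator_central_mul hs ht,
            commutatorElement_eq_one_iff_mul_comm]
          exact hab
      have := isCyclic_of_le_scalars hsc
      exact isCyclic_of_surjective (A.equivMapOfInjective R.subtype (Subgroup.subtype_injective R)).symm
        (MulEquiv.surjective _)
  refine Or.inr (Or.inl ⟨p, e, r, m, R, hpp, hp, he, hr, hm, ?_, ⟨hsymp, habs, p, e, hrp, ?_, ?_⟩, ?_, ?_⟩)
  · by_cases h : r = 2
    · refine Or.inr ⟨h, ?_⟩
      have hz4 : z = 4 := by rw [hzdef, if_pos h]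
      have hp2 : ¬ 2 ∣ p := fun h' => hrp (h.trans ((Nat.prime_dvd_prime_iff_eq Nat.prime_two hpp).1 h'))
      have he1 : e = 1 := by
        obtain ⟨k, hk⟩ := heodd
        rcases Nat.eq_zero_or_pos k with hk0 | hk0
        · omega
        exfalso
        refine hminf 2 two_pos (by omega) ?_
        rw [hz4]
        obtain ⟨j, rfl⟩ : ∃ j, p = 2 * j + 1 := ⟨p / 2, by omega⟩
        rw [show (2 * j + 1) ^ 2 = 4 * (j * j + j) + 1 by ring, Nat.add_sub_cancel]
        exact dvd_mul_right 4 _
      refine ⟨he1, ?_⟩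
      have h4' := h4 h
      rw [he1, pow_one] at h4'
      have := hpp.two_le
      omega
    · exact Or.inl ⟨hr.odd_of_ne_two h, heodd, hrq, fun d hd hde => by
        have := hminf d hd hde
        rwa [hzdef, if_neg h] at this⟩
  · rw [hcenter_card]
    exact ⟨hpp, hp, he, he ▸ hzq, hminf⟩
  · by_cases h : r = 2
    · have hz4 : z = 4 := by rw [hzdef, if_pos h]
      subst h
      refine Or.inr (Or.inl ⟨rfl, ?_, hcenter_card.trans hz4, ?_, m, ?_⟩)
      · obtain ⟨k, hk⟩ := heodd
        rcases Nat.eq_zero_or_pos k with hk0 | hk0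
        · omega
        exfalso
        refine hminf 2 two_pos (by omega) ?_
        have hp2 : ¬ 2 ∣ p := fun h' => hrp ((Nat.prime_dvd_prime_iff_eq Nat.prime_two hpp).1 h')
        rw [hz4]
        obtain ⟨j, rfl⟩ : ∃ j, p = 2 * j + 1 := ⟨p / 2, by omega⟩
        rw [show (2 * j + 1) ^ 2 = 4 * (j * j + j) + 1 by ring, Nat.add_sub_cancel]
        exact dvd_mul_right 4 _
      · rw [← hn', hm]
        have : 2 ≤ m := by
          by_contra hlt
          interval_cases m
          omega
        calc 4 = 2 ^ 2 := rfl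
          _ ≤ 2 ^ m := Nat.pow_le_pow_right two_pos this
      · rw [hRcard, hz4, hm]; ring
    · have hzr' : z = r := by rw [hzdef, if_neg h]
      refine Or.inl ⟨hr.odd_of_ne_two h, heodd, hcenter_card.trans hzr', m, hm1, ?_⟩
      rw [hRcard, hzr', hm]; ring
  · intro h hh
    refine Subgroup.mem_normalizer_iff.2 fun x => ⟨hRn h hh x, fun hx => ?_⟩
    simpa [mul_assoc] using hRn h⁻¹ (H.inv_mem hh) _ hx
  · exact ⟨card_ne_zero hN h2, fun x hx hs => trace_eq_zero habs hR2 hx hs, hRns⟩

/-- the special linear group normalises no traceless group -/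
lemma sl_not_le_normalizer (h3 : 3 ≤ Fintype.card ι) {R : Subgroup (GL ι F)} (hR : Traceless R) :
    ¬ specialLinear ι F ≤ subgroupNormalizer R := by
  intro hle
  haveI : Nonempty ι := Fintype.card_pos_iff.1 (by omega)
  obtain ⟨hn0, htr, hns⟩ := hR
  obtain ⟨x, hx, hxs⟩ := SetLike.not_le_iff_exists.1 hns
  -- a vector that is not an eigenvector
  obtain ⟨u, hu⟩ : ∃ u : ι → F, ∀ c : F, (x : Matrix ι ι F) *ᵥ u ≠ c • u := by
    by_contra h
    push Not at h
    apply hxs
    obtain ⟨c, hc⟩ := eq_scalar_of_comm_transvection (M := (x : Matrix ι ι F)) fun i j hij => by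
      choose χ hχ using h
      have hi := congrFun (hχ (Pi.single i 1))
      have hj := congrFun (hχ (Pi.single j 1))
      have hs := congrFun (hχ (Pi.single i 1 + Pi.single j 1))
      simp only [Matrix.mulVec_add, Pi.add_apply, hi, hj] at hs
      have e1 : χ (Pi.single i 1) = χ (Pi.single i 1 + Pi.single j 1) := by simpa [hij] using hs i
      have e2 : χ (Pi.single j 1) = χ (Pi.single i 1 + Pi.single j 1) := by simpa [hij.symm] using hs j
      apply Matrix.toLin'.injective
      apply LinearMap.ext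
      intro v
      simp only [Matrix.toLin'_apply, ← Matrix.mulVec_mulVec, transvection_mulVec, Matrix.mulVec_add]
      congr 1
      funext k
      rw [one_mul, one_mul, show Pi.single i (v j) = v j • (Pi.single i 1 : ι → F) by
        rw [← Pi.single_smul]; simp, Matrix.mulVec_smul, hχ, e1, ← e2]
      have h7 : ((x : Matrix ι ι F) *ᵥ v) j = χ (Pi.single j 1) * v j := by
        conv_lhs => rw [pi_eq_sum_univ' v, Matrix.mulVec_sum]
        simp only [Matrix.mulVec_smul]
        simp only [hχ, Finset.sum_apply, Pi.smul_apply, smul_eq_mul]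
        rw [Finset.sum_eq_single j]
        · simp [mul_comm]
        · intro l _ hl
          simp [Ne.symm hl]
        · simp
      simp [h7]
      by_cases hk : k = i <;> simp [hk, mul_comm]
    exact mem_scalars_of_comm hc
  set v := (x : Matrix ι ι F) *ᵥ u with hv
  -- a functional killing both
  let ψ : (ι → F) →ₗ[F] F × F :=
    { toFun := fun f => (f ⬝ᵥ u, f ⬝ᵥ v)
      map_add' := fun f g => by simp [add_dotProduct]
      map_smul' := fun c f => by simp }
  have hlt : Module.finrank F (F × F) < Module.finrank F (ι → F) := by simp; omega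
  obtain ⟨f, hf, hf0⟩ := (Submodule.ne_bot_iff _).1 (ψ.ker_ne_bot_of_finrank_lt hlt)
  have hfu : f ⬝ᵥ u = 0 := congrArg Prod.fst hf
  have hfv : f ⬝ᵥ v = 0 := congrArg Prod.snd hf
  set M := Matrix.vecMulVec u f with hM
  have hMM : M * M = 0 := by
    rw [hM, Matrix.vecMulVec_mul_vecMulVec, hfu]; simp
  have hMxM : M * (x : Matrix ι ι F) * M = 0 := by
    rw [hM, mul_assoc, Matrix.mul_vecMulVec, Matrix.vecMulVec_mul_vecMulVec, hfv]; simp
  let T : GL ι F := ⟨1 + M, 1 - M, by simp [mul_sub, add_mul, hMM], by simp [sub_mul, mul_add, hMM]⟩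
  have hTdet : T ∈ specialLinear ι F := by
    rw [mem_sl_iff]
    show (1 + M).det = 1
    rw [hM, Matrix.vecMulVec_eq Unit, Matrix.det_one_add_replicateCol_mul_replicateRow, hfu, add_zero]
  have hw : T * x * T⁻¹ * x⁻¹ ∈ R :=
    R.mul_mem ((Subgroup.mem_normalizer_iff.1 (hle hTdet) x).1 hx) (R.inv_mem hx)
  set w := T * x * T⁻¹ * x⁻¹ with hwdef
  have hval : (w : Matrix ι ι F) * (x : Matrix ι ι F) = (1 + M) * (x : Matrix ι ι F) * (1 - M) := by
    rw [← Units.val_mul, hwdef, inv_mul_cancel_right]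
    rfl
  have hval2 : (w : Matrix ι ι F) = 1 + M - (x : Matrix ι ι F) * M * ((x⁻¹ : GL ι F) : Matrix ι ι F) := by
    have h1 : (1 + M) * (x : Matrix ι ι F) * (1 - M) =
        (x : Matrix ι ι F) + M * (x : Matrix ι ι F) - (x : Matrix ι ι F) * M := by
      rw [mul_sub, mul_one, add_mul, add_mul, one_mul, hMxM]
      simp
    have h2 := congrArg (fun A => A * ((x⁻¹ : GL ι F) : Matrix ι ι F)) (hval.trans h1)
    simp only [mul_assoc, Units.mul_inv, mul_one, sub_mul, add_mul] at h2
    rw [h2, mul_assoc]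
  have htrw : (w : Matrix ι ι F).trace = (Fintype.card ι : F) := by
    rw [hval2, Matrix.trace_sub, Matrix.trace_add, Matrix.trace_units_conj, Matrix.trace_one, add_sub_cancel_right]
  by_cases hws : w ∈ scalars ι F
  · obtain ⟨c, hc⟩ := (mem_scalars_iff w).1 hws
    have hc1 : (c : F) = 1 := by
      rw [hc, Matrix.trace_smul, Matrix.trace_one, smul_eq_mul] at htrw
      exact mul_right_cancel₀ hn0 (by rw [htrw, one_mul])
    rw [hc1, one_smul] at hc
    have h8 : M * (x : Matrix ι ι F) = (x : Matrix ι ι F) * M := by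
      have h2 := hval
      rw [hc, one_mul, mul_sub, mul_one, add_mul, add_mul, one_mul, hMxM] at h2
      linear_combination (norm := abel) -h2
    obtain ⟨i, hi⟩ := Function.ne_iff.1 hf0
    have h9 := congrArg (fun A => A *ᵥ (Pi.single i (1 : F) : ι → F)) h8
    simp only [← Matrix.mulVec_mulVec, hM, Matrix.vecMulVec_mulVec] at h9
    simp at h9
    rw [Matrix.mulVec_smul, ← hv] at h9
    refine hu ((f i)⁻¹ * (f ⬝ᵥ fun k => (x : Matrix ι ι F) k i)) ?_
    rw [mul_smul, show (f ⬝ᵥ fun k => (x : Matrix ι ι F) k i) • u = f i • v from h9, smul_smul,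
      inv_mul_cancel₀ hi, one_smul]
  · exact hn0 (htrw.symm.trans (htr w hw hws))

end Cfsg.Agent.AschGenExtra
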