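/-
Aschbacher's theorem, linear case in arbitrary dimension, part 4: a subgroup of the special linear group lies in a
geometric stabiliser or is residual.
-/
import Cfsg.Agent.Lib.AschGenExtra

set_option autoImplicit false

namespace Cfsg.Agent.AschGenLinear

open scoped Matrix Kronecker commutatorElement
open Cfsg Cfsg.Geo Cfsg.Agent.AschPrimeBasic Cfsg.Agent.AschPrimeForms Cfsg.Agent.AschPrimeCore
  Cfsg.Agent.AschGenAlgebra Cfsg.Agent.AschGenTensor Cfsg.Agent.AschGenExtra

variable {ι : Type} [Fintype ι] [DecidableEq ι] {F : Type*} [Field F] [Fintype F]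

/-- the geometric alternatives -/
inductive Alt (H : Subgroup (GL ι F)) : Prop
  | sub (W : Submodule F (ι → F)) (hb : W ≠ ⊥) (ht : W ≠ ⊤) (le : H ≤ subspaceStabilizer W)
  | decomp (t m : ℕ) (D : Fin t → Submodule F (ι → F)) (hD : IsMDecomposition m D) (le : H ≤ decompositionStabilizer D)
  | field (r : ℕ) (K : Subalgebra F (Matrix ι ι F)) (hr : r.Prime) (hK : IsFieldSubalgebra r K)
      (dvd : r ∣ Fintype.card ι) (le : H ≤ subalgebraNormalizer K)
  | tensor (n₁ n₂ : ℕ) (e : ι ≃ Fin n₁ × Fin n₂) (P : GL ι F) (h1 : 2 ≤ n₁) (h12 : n₁ < n₂)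
      (le : H ≤ tensorProductSubgroup n₁ n₂ e P)
  | subfield (φ : F ≃+* F) (r : ℕ) (P : GL ι F) (hr : r.Prime)
      (hc : Fintype.card F = Nat.card (fixedField φ) ^ r) (le : H ≤ subfieldSubgroup (fixedField φ) P)
  | extra (p e r m : ℕ) (R : Subgroup (GL ι F)) (hp : p.Prime) (hchar : CharP F p) (hF : Fintype.card F = p ^ e)
      (hr : r.Prime) (hn : Fintype.card ι = r ^ m)
      (hmin : (Odd r ∧ Odd e ∧ r ∣ p ^ e - 1 ∧ ∀ d, 0 < d → d < e → ¬ r ∣ p ^ d - 1) ∨
        (r = 2 ∧ e = 1 ∧ p % 4 = 1))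
      (hR : IsLinearSymplecticTypeData r R) (htr : Traceless R) (le : H ≤ subgroupNormalizer R)
  | wreath (m t : ℕ) (e : ι ≃ (Fin t → Fin m)) (P : GL ι F) (hm : 3 ≤ m) (ht : 2 ≤ t)
      (le : H ≤ tensorWreathSubgroup m t e P)
  | symp (f : (ι → F) → (ι → F) → F) (hf : IsSymplecticForm f) (le : H ≤ similarityGroup f)
  | unit (σ : F ≃+* F) (f : (ι → F) → (ι → F) → F) (hf : IsUnitaryForm σ f) (le : H ≤ similarityGroup f)
  | quad (Q : (ι → F) → F) (hodd : Odd (Fintype.card F)) (hQ : IsNondegenerateQuadraticForm Q)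
      (le : H ≤ quadSimilarityGroup Q)

lemma Alt.of_extra {H : Subgroup (GL ι F)} (h : ExtraOutcome H) : Alt H := by
  rcases h with ⟨φ, r, P, hr, hc, hle⟩ | ⟨p, e, r, m, R, hp, hch, hF, hr, hn, hmin, hR, hle, htr⟩ | ⟨f, hf, hle⟩ |
    ⟨σ, f, hf, hle⟩ | ⟨Q, ho, hQ, hle⟩
  · exact .subfield φ r P hr hc hle
  · exact .extra p e r m R hp hch hF hr hn hmin hR htr hle
  · exact .symp f hf hle
  · exact .unit σ f hf hle
  · exact .quad Q ho hQ hle

lemma Alt.of_wreath {H : Subgroup (GL ι F)} {k t : ℕ} (hk : 2 ≤ k) (ht : 2 ≤ t) (e : ι ≃ (Fin t → Fin k))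
    (P : GL ι F) (h : H ≤ tensorWreathSubgroup k t e P) : Alt H := by
  by_cases hk3 : 3 ≤ k
  · exact .wreath k t e P hk3 ht h
  obtain rfl : k = 2 := by omega
  rcases wreath_two_forms ht e P with ⟨f, hf, hle⟩ | ⟨Q, ho, hQ, hle⟩
  · exact .symp f hf (h.trans hle)
  · exact .quad Q ho hQ (h.trans hle)

/-- every normalised subalgebra is trivial -/
def AlgSimple (H : Subgroup (GL ι F)) : Prop := ∀ C : Subalgebra F (Matrix ι ι F), AlgNorm H C → C = ⊥ ∨ C = ⊤

/-- the degree of a field subalgebra divides the dimension -/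
lemma field_degree_dvd [Nonempty ι] {r : ℕ} {K : Subalgebra F (Matrix ι ι F)} (hK : IsFieldSubalgebra r K) :
    r ∣ Fintype.card ι := by
  haveI : Nontrivial K := ⟨0, 1, fun h => zero_ne_one (congrArg Subtype.val h : (0 : Matrix ι ι F) = 1)⟩
  have hfld : IsField K :=
    ⟨⟨0, 1, zero_ne_one⟩, fun x y => Subtype.ext (hK.comm _ x.2 _ y.2), fun {x} hx => by
      obtain ⟨y, hy, hxy⟩ := hK.inv x x.2 (fun h => hx (Subtype.ext h))
      exact ⟨⟨y, hy⟩, Subtype.ext hxy⟩⟩
  letI : Field K := hfld.toField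
  let f : K →+* Module.End F (ι → F) := (Matrix.toLinAlgEquiv'.toAlgHom.comp K.val).toRingHom
  letI : Module K (ι → F) := Module.compHom _ f
  haveI : Module.Free K (ι → F) := Module.Free.of_divisionRing K (ι → F)
  have h := @Module.finrank_mul_finrank F K (ι → F) _ _ _ _ _ _ ⟨fun a x v => by
    show f (a • x) v = a • f x v
    simp [f]⟩ _ _ _ _
  rw [hK.finrank_eq, Module.finrank_pi] at h
  exact Dvd.intro _ h

/-- normalised subalgebras are trivial or give a geometric alternative -/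
theorem alg_cases [Nonempty ι] {H : Subgroup (GL ι F)} (hH : Irred H) : Alt H ∨ AlgSimple H := by
  classical
  refine or_iff_not_imp_left.2 fun halt C hC => ?_
  have hss := semisimple_of_norm hH hC
  set Z := C ⊓ Subalgebra.centralizer F (C : Set (Matrix ι ι F)) with hZ
  have hZn : AlgNorm H Z := fun h hh c hc =>
    ⟨hC h hh c hc.1, AlgNorm.centralizer (fun h hh s hs => hC h hh s hs) h hh c hc.2⟩
  have hZc : ∀ x ∈ Z, ∀ y ∈ Z, x * y = y * x := fun x hx y hy =>
    ((Subalgebra.mem_centralizer_iff F).1 hy.2 x hx.1)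
  have hid : ∀ e ∈ Z, e * e = e → e = 0 ∨ e = 1 := by
    intro e he hee
    by_contra h
    push Not at h
    obtain ⟨t, m, D, hD, hle⟩ := exists_decomposition hH hZn hZc he hee h.1 h.2
    exact halt (.decomp t m D hD hle)
  have hinv := inv_or_idempotent Z (semisimple_of_norm hH hZn) hZc hid
  have hZbot : Z = ⊥ := by
    by_contra hne
    obtain ⟨r, K, hr, hK, hle⟩ := exists_prime_field hZn hZc hinv hne
    exact halt (.field r K hr hK (field_degree_dvd hK) hle)
  obtain ⟨k, hk, ⟨φ⟩⟩ := exists_matrix_equiv C hss fun x hx hxc => by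
    have hxZ : x ∈ Z := ⟨hx, (Subalgebra.mem_centralizer_iff F).2 fun y hy => (hxc y hy).symm⟩
    rw [hZbot, Algebra.mem_bot] at hxZ
    obtain ⟨c, hc⟩ := hxZ
    exact ⟨c, by rw [← hc, Algebra.algebraMap_eq_smul_one]⟩
  obtain ⟨m, e, P, hm, hle, hP⟩ := exists_tensor hC hk φ
  by_cases hk1 : k = 1
  · left
    refine Subalgebra.eq_bot_of_finrank_one ?_
    rw [← φ.toLinearEquiv.finrank_eq, Module.finrank_matrix, Module.finrank_self, Fintype.card_fin, hk1]
  by_cases hm1 : m = 1
  · right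
    subst hm1
    refine eq_top_iff.2 fun M _ => ?_
    obtain ⟨Y, hY⟩ := pull_surjective (F := F) e (((P⁻¹ : GL ι F) : Matrix ι ι F) * M * (P : Matrix ι ι F))
    let X : Matrix (Fin k) (Fin k) F := Matrix.of fun a b => Y (a, 0) (b, 0)
    have hYX : Y = X ⊗ₖ (1 : Matrix (Fin 1) (Fin 1) F) := by
      ext ⟨a, i⟩ ⟨b, j⟩
      simp [X, Subsingleton.elim i 0, Subsingleton.elim j 0]
    have : (φ X : Matrix ι ι F) = M := by
      rw [hP, ← hYX, hY]
      simp [mul_assoc]
    exact this ▸ (φ X).2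
  exfalso
  rcases lt_trichotomy k m with h | h | h
  · exact halt (.tensor k m e P (by omega) h hle)
  · subst h
    exact halt (Alt.of_wreath (k := k) (t := 2) (by omega) le_rfl _ P (hle.trans (tensor_le_wreath k e P)))
  · exact halt (.tensor m k _ P (by omega) h (hle.trans (tensor_swap k m e P)))

lemma algNorm_adjoin {H : Subgroup (GL ι F)} {N : Subgroup (GL ι F)} (hn : NormalBy H N) :
    AlgNorm H (Algebra.adjoin F (matrixSet N)) := by
  intro h hh c hc
  have h1 : (conjAlg h).toAlgHom c ∈ (Algebra.adjoin F (matrixSet N)).map (conjAlg h).toAlgHom := ⟨c, hc, rfl⟩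
  rw [AlgHom.map_adjoin] at h1
  refine Algebra.adjoin_mono ?_ h1
  rintro _ ⟨_, ⟨g, hg, rfl⟩, rfl⟩
  exact ⟨h * g * h⁻¹, hn h hh g hg, by simp⟩

/-- with trivial normalised subalgebras a normalised subgroup is scalar or absolutely irreducible -/
lemma AlgSimple.alternative [Nonempty ι] {H : Subgroup (GL ι F)} (hs : AlgSimple H) {N : Subgroup (GL ι F)}
    (hn : NormalBy H N) : N ≤ scalars ι F ∨ AbsIrred N := by
  rcases hs _ (algNorm_adjoin hn) with h | h
  · left
    intro g hg
    have h1 : (g : Matrix ι ι F) ∈ (⊥ : Subalgebra F (Matrix ι ι F)) := h ▸ Algebra.subset_adjoin ⟨g, hg, rfl⟩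
    obtain ⟨c, hc⟩ := Algebra.mem_bot.1 h1
    exact mem_scalars_of_comm (c := c) (by rw [← hc, Algebra.algebraMap_eq_smul_one])
  · right
    refine AbsIrred.mk' (fun W hW => ?_) fun M hM => ?_
    · let S : Subalgebra F (Matrix ι ι F) :=
        { carrier := {A | ∀ w ∈ W, A *ᵥ w ∈ W}
          mul_mem' := fun {a b} ha hb w hw => by rw [← Matrix.mulVec_mulVec]; exact ha _ (hb w hw)
          add_mem' := fun {a b} ha hb w hw => by rw [Matrix.add_mulVec]; exact W.add_mem (ha w hw) (hb w hw)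
          algebraMap_mem' := fun c w hw => by
            rw [Algebra.algebraMap_eq_smul_one, Matrix.smul_mulVec, Matrix.one_mulVec]
            exact W.smul_mem c hw }
      have hS : (⊤ : Subalgebra F (Matrix ι ι F)) ≤ S := h ▸ Algebra.adjoin_le (by
        rintro _ ⟨g, hg, rfl⟩
        exact fun w hw => hW g hg w hw)
      by_cases hb : W = ⊥
      · exact Or.inl hb
      obtain ⟨w, hw, hw0⟩ := (Submodule.ne_bot_iff W).1 hb
      obtain ⟨j, hj⟩ := Function.ne_iff.1 hw0
      refine Or.inr (eq_top_iff.2 fun v _ => ?_)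
      have h1 := hS (Algebra.mem_top (x := Matrix.vecMulVec v (Pi.single j (w j)⁻¹))) w hw
      rw [Matrix.vecMulVec_mulVec] at h1
      simpa [inv_mul_cancel₀ (show w j ≠ 0 from hj)] using h1
    · refine eq_scalar_of_comm_transvection fun i j _ => ?_
      have h1 : (⊤ : Subalgebra F (Matrix ι ι F)) ≤ Subalgebra.centralizer F {M} := h ▸ Algebra.adjoin_le (by
        rintro _ ⟨g, hg, rfl⟩
        rw [SetLike.mem_coe, Subalgebra.mem_centralizer_iff]
        rintro _ rfl
        exact hM g hg)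
      exact (Subalgebra.mem_centralizer_iff F).1 (h1 Algebra.mem_top) M rfl

/-- an element commuting with a perfect group modulo scalars commutes with it -/
lemma commute_of_perfect {P : Subgroup (GL ι F)} (hperf : ⁅P, P⁆ = P) {h : GL ι F}
    (hh : ∀ x ∈ P, h * x * h⁻¹ * x⁻¹ ∈ scalars ι F) : ∀ x ∈ P, h * x = x * h := by
  intro x hx
  let C : Subgroup (GL ι F) := Subgroup.centralizer {h}
  suffices ⁅P, P⁆ ≤ C by exact Subgroup.mem_centralizer_iff.1 (this (hperf.symm ▸ hx)) h rfl
  refine Subgroup.commutator_le.2 fun a ha b hb => ?_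
  refine Subgroup.mem_centralizer_iff.2 fun h' h'eq => ?_
  rw [Set.mem_singleton_iff] at h'eq
  subst h'eq
  have e3 : h' * ⁅a, b⁆ * h'⁻¹ = ⁅a, b⁆ := by
    have e1 : h' * a * h'⁻¹ = (h' * a * h'⁻¹ * a⁻¹) * a := by group
    have e2 : h' * b * h'⁻¹ = (h' * b * h'⁻¹ * b⁻¹) * b := by group
    have : h' * ⁅a, b⁆ * h'⁻¹ = ⁅h' * a * h'⁻¹, h' * b * h'⁻¹⁆ := by
      simp only [commutatorElement_def]; group
    rw [this, e1, e2, scalar_comm (hh a ha) a, scalar_comm (hh b hb) b,
      commutator_central_mul (hh a ha) (hh b hb)]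
  calc h' * ⁅a, b⁆ = h' * ⁅a, b⁆ * h'⁻¹ * h' := by group
    _ = ⁅a, b⁆ * h' := by rw [e3]

/-- commuting perfect groups permuted by `H` give a tensor-induced structure -/
theorem wreath_cases [Nonempty ι] {H : Subgroup (GL ι F)} (hs : AlgSimple H) {t : ℕ}
    (M : Fin t → Subgroup (GL ι F)) (ht : 2 ≤ t) (hns : ∀ i, ¬ M i ≤ scalars ι F)
    (hcomm : ∀ i j, i ≠ j → ∀ x ∈ M i, ∀ y ∈ M j, x * y = y * x)
    (hperm : ∀ h ∈ H, ∃ σ : Equiv.Perm (Fin t), ∀ i, cj h (M i) = M (σ i))
    (htrans : ∀ i j, ∃ h ∈ H, cj h (M i) = M j) : Alt H := by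
  classical
  let S : Set (GL ι F) := ⋃ i, (M i : Set (GL ι F))
  let J := Subgroup.closure S
  have hJn : NormalBy H J := by
    intro a ha x hx
    obtain ⟨σ, hσ⟩ := hperm a ha
    have h1 : cj a J ≤ J := by
      simp only [cj, J, MonoidHom.map_closure]
      refine (Subgroup.closure_le _).2 ?_
      rintro _ ⟨y, hy, rfl⟩
      obtain ⟨i, hi⟩ := Set.mem_iUnion.1 hy
      exact Subgroup.subset_closure (Set.mem_iUnion.2 ⟨σ i, (hσ i) ▸ cj_mem (a := a) hi⟩)
    exact h1 (cj_mem hx)
  have hMJ : ∀ i, M i ≤ J := fun i x hx => Subgroup.subset_closure (Set.mem_iUnion.2 ⟨i, hx⟩)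
  let i₀ : Fin t := ⟨0, by omega⟩
  have hJabs : AbsIrred J := (hs.alternative hJn).resolve_left fun h => hns i₀ ((hMJ i₀).trans h)
  let A : Fin t → Subalgebra F (Matrix ι ι F) := fun i => Algebra.adjoin F (matrixSet (M i))
  have hgA : ∀ i, ∀ g ∈ M i, (g : Matrix ι ι F) ∈ A i := fun i g hg => Algebra.subset_adjoin ⟨g, hg, rfl⟩
  have hgc : ∀ i j, i ≠ j → ∀ g ∈ M i, ∀ c ∈ A j, (g : Matrix ι ι F) * c = c * (g : Matrix ι ι F) := by
    intro i j hij g hg c hc
    have h1 : A j ≤ Subalgebra.centralizer F {(g : Matrix ι ι F)} := Algebra.adjoin_le (by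
      rintro _ ⟨y, hy, rfl⟩
      rw [SetLike.mem_coe, Subalgebra.mem_centralizer_iff]
      rintro _ rfl
      simpa using congrArg Units.val (hcomm i j hij g hg y hy))
    exact (Subalgebra.mem_centralizer_iff F).1 (h1 hc) _ rfl
  have hAc : ∀ i j, i ≠ j → ∀ x ∈ A i, ∀ y ∈ A j, x * y = y * x := by
    intro i j hij x hx y hy
    have h1 : A i ≤ Subalgebra.centralizer F {y} := Algebra.adjoin_le (by
      rintro _ ⟨g, hg, rfl⟩
      rw [SetLike.mem_coe, Subalgebra.mem_centralizer_iff]
      intro z hz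
      rw [Set.mem_singleton_iff.1 hz]
      exact (hgc i j hij g hg y hy).symm)
    exact ((Subalgebra.mem_centralizer_iff F).1 (h1 hx) y rfl).symm
  have hcent : ∀ X : Matrix ι ι F, (∀ i, ∀ x ∈ A i, X * x = x * X) → ∃ c : F, X = c • (1 : Matrix ι ι F) := by
    intro X hX
    refine hJabs.commutant fun g hg => ?_
    induction hg using Subgroup.closure_induction with
    | mem g hg =>
      obtain ⟨i, hi⟩ := Set.mem_iUnion.1 hg
      exact hX i _ (hgA i g hi)
    | one => simp
    | mul a b _ _ ha hb => rw [Units.val_mul, ← mul_assoc, ha, mul_assoc, hb, ← mul_assoc]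
    | inv a _ ha =>
      calc X * ((a⁻¹ : GL ι F) : Matrix ι ι F)
          = ((a⁻¹ : GL ι F) : Matrix ι ι F) * ((a : Matrix ι ι F) * X) * ((a⁻¹ : GL ι F) : Matrix ι ι F) := by
            simp [← mul_assoc]
        _ = ((a⁻¹ : GL ι F) : Matrix ι ι F) * X := by rw [← ha]; simp [mul_assoc]
  have hφ : ∀ i, ∃ k, 0 < k ∧ Nonempty (Matrix (Fin k) (Fin k) F ≃ₐ[F] A i) := by
    intro i
    refine exists_matrix_equiv (A i) (semisimple_of_comm (S := S) (fun W hW => hJabs.irred W ?_) ?_) ?_
    · intro g hg w hw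
      refine (((Subgroup.closure_le _).2 ?_ : J ≤ subspaceStabilizer W) hg w).1 hw
      intro x hx v
      refine ⟨fun hv => hW x hx v hv, fun hv => ?_⟩
      obtain ⟨j, hj⟩ := Set.mem_iUnion.1 hx
      have := hW x⁻¹ (Set.mem_iUnion.2 ⟨j, (M j).inv_mem hj⟩) _ hv
      simpa [Matrix.mulVec_mulVec, ← Units.val_mul] using this
    · intro g hg
      obtain ⟨j, hj⟩ := Set.mem_iUnion.1 hg
      by_cases hji : j = i
      · subst hji; exact Or.inl (hgA j g hj)
      · exact Or.inr fun c hc => hgc j i hji g hj c hc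
    · intro x hx hxc
      refine hcent x fun j y hy => ?_
      by_cases hji : i = j
      · subst hji; exact hxc y hy
      · exact hAc i j hji x hx y hy
  choose k hk0 hk using hφ
  have hmapA : ∀ h i j, cj h (M i) = M j → (A i).map (conjAlg h).toAlgHom = A j := by
    intro h i j hij
    simp only [A, AlgHom.map_adjoin]
    congr 1
    ext y
    constructor
    · rintro ⟨_, ⟨g, hg, rfl⟩, rfl⟩
      exact ⟨h * g * h⁻¹, hij ▸ cj_mem hg, by simp⟩
    · rintro ⟨g, hg, rfl⟩
      rw [← hij] at hg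
      exact ⟨_, ⟨h⁻¹ * g * h, mem_cj.1 hg, rfl⟩, by simp [mul_assoc]⟩
  have hkk : ∀ i, k i = k i₀ := by
    intro i
    obtain ⟨h, -, hh⟩ := htrans i₀ i
    obtain ⟨φ⟩ := hk i
    obtain ⟨φ₀⟩ := hk i₀
    let e := ((φ₀.trans (((conjAlg h).subalgebraMap (A i₀)).trans (Subalgebra.equivOfEq _ _ (hmapA h i₀ i hh)))).trans
      φ.symm).toLinearEquiv.finrank_eq
    simp only [Module.finrank_matrix, Module.finrank_self, Fintype.card_fin, mul_one] at e
    exact (Nat.mul_self_inj.1 e).symm
  obtain ⟨e, P, hle⟩ := exists_wreath (H := H) (hk0 i₀) (by omega : 0 < t) A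
    (fun i => ((hk i).map fun φ => (hkk i) ▸ φ).some) hAc hcent (fun h hh => by
      obtain ⟨σ, hσ⟩ := hperm h hh
      exact ⟨σ, fun i => hmapA h i (σ i) (hσ i)⟩)
  refine Alt.of_wreath ?_ ht e P hle
  by_contra hlt
  have hk1 : k i₀ = 1 := by have := hk0 i₀; omega
  apply hns i₀
  intro g hg
  obtain ⟨φ⟩ := hk i₀
  have h2 : A i₀ = ⊥ := by
    refine Subalgebra.eq_bot_of_finrank_one ?_
    rw [← φ.toLinearEquiv.finrank_eq, Module.finrank_matrix, Module.finrank_self, Fintype.card_fin, hk1]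
  have h1 := hgA i₀ g hg
  rw [h2] at h1
  obtain ⟨c, hc⟩ := Algebra.mem_bot.1 h1
  exact mem_scalars_of_comm (c := c) (by rw [← hc, Algebra.algebraMap_eq_smul_one])

/-- trivial normalised subalgebras leave an alternative or a simple core -/
theorem core_cases (h3 : 3 ≤ Fintype.card ι) {H : Subgroup (GL ι F)} (hsl : H ≤ specialLinear ι F) (hH : Irred H)
    (hs : AlgSimple H) : Alt H ∨ ∃ P, SimpleCore H P := by
  classical
  have : Nonempty ι := Fintype.card_pos_iff.1 (by omega)
  refine or_iff_not_imp_left.2 fun halt => ?_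
  -- the centre
  set Z := H ⊓ scalars ι F with hZdef
  have hZ : Z ≤ scalars ι F := inf_le_right
  have hns : ¬ H ≤ scalars ι F := by
    intro hle
    obtain ⟨i⟩ := ‹Nonempty ι›
    have hinv : Inv H (Submodule.span F {(Pi.single i 1 : ι → F)}) := by
      intro g hg w hw
      obtain ⟨c, hc⟩ := (mem_scalars_iff g).1 (hle hg)
      rw [hc, Matrix.smul_mulVec, Matrix.one_mulVec]
      exact Submodule.smul_mem _ _ hw
    have hv : (Pi.single i 1 : ι → F) ≠ 0 := fun h => one_ne_zero (α := F) (by simpa using congrFun h i)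
    rcases hH _ hinv with h | h
    · exact hv (Submodule.span_singleton_eq_bot.1 h)
    · have := finrank_span_singleton (K := F) hv
      rw [h, finrank_top, Module.finrank_pi] at this
      omega
  -- minimal nonscalar normal subgroup
  obtain ⟨N, ⟨hNle, hNn, hZN, hNs⟩, hmin⟩ := wellFounded_lt.has_min
    {N : Subgroup (GL ι F) | N ≤ H ∧ NormalBy H N ∧ Z ≤ N ∧ ¬ N ≤ scalars ι F}
    ⟨H, le_rfl, normalBy_self H, inf_le_left, hns⟩
  have hmin' : ∀ K, K ≤ N → NormalBy H K → ¬ K ≤ scalars ι F → K ⊔ Z = N := by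
    intro K hKN hK hKs
    rcases (sup_le hKN hZN).lt_or_eq with h | h
    · exact absurd h (hmin (K ⊔ Z) ⟨(sup_le hKN hZN).trans hNle,
        normalBy_sup hK (normalBy_inf (normalBy_self H) (normalBy_scalars H)), le_sup_right,
        fun hh => hKs (le_sup_left.trans hh)⟩)
    · exact h
  have hNabs : AbsIrred N := (hs.alternative hNn).resolve_left hNs
  by_cases hcom : ⁅N, N⁆ ≤ scalars ι F
  · exfalso
    refine halt (Alt.of_extra (extra_cases h3 hsl hNle hNn hNabs
      (fun x hx y hy => hcom (Subgroup.commutator_mem_commutator hx hy)) fun K hKN hK hZK => ?_))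
    by_cases hKs : K ≤ scalars ι F
    · exact Or.inl hKs
    · right
      rw [← hmin' K hKN hK hKs, sup_of_le_left]
      exact fun x hx => hZK ⟨hZN hx, hx.2⟩
  set P := ⁅N, N⁆ with hPdef
  have hPN : P ≤ N := Subgroup.commutator_le.2 fun a ha b hb => by
    rw [commutatorElement_def]
    exact N.mul_mem (N.mul_mem (N.mul_mem ha hb) (N.inv_mem ha)) (N.inv_mem hb)
  have hPn : NormalBy H P := normalBy_commutator hNn hNn
  have hPZ : P ⊔ Z = N := hmin' P hPN hPn hcom
  have hperf : ⁅P, P⁆ = P := by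
    conv_rhs => rw [hPdef, ← hPZ]
    rw [commutator_sup_scalars hZ]
  have hPabs : AbsIrred P := (hs.alternative hPn).resolve_left hcom
  have hcj : ∀ a ∈ H, cj a N = N := fun a ha => normalBy_cj hNn ha
  have hcjP : ∀ a ∈ H, cj a P = P := fun a ha => normalBy_cj hPn ha
  -- candidates inside P
  let Z₀ := P ⊓ scalars ι F
  let cand : Subgroup (GL ι F) → Prop := fun K =>
    K ≤ P ∧ NormalBy N K ∧ Z₀ ≤ K ∧ ¬ K ≤ scalars ι F
  have hkey : ∀ K, cand K → K = P := by
    intro K hK
    obtain ⟨M, ⟨hMc, hMK⟩, hMmin⟩ := wellFounded_lt.has_min {M | cand M ∧ M ≤ K} ⟨K, hK, le_rfl⟩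
    obtain ⟨hMP, hMN, hMZ, hMs⟩ := hMc
    have hMmin' : ∀ L, cand L → L ≤ M → L = M := fun L hL hLM =>
      hLM.lt_or_eq.resolve_left (hMmin L ⟨hL, hLM.trans hMK⟩)
    -- conjugates of M by elements of H
    have hcand : ∀ a ∈ H, ∀ L, cand L → cand (cj a L) := by
      intro a ha L hL
      refine ⟨(cj_mono hL.1).trans (hcjP a ha).le, ?_, ?_, ?_⟩
      · intro b hb x hx
        rw [mem_cj] at hx ⊢
        have hb' : a⁻¹ * b * a ∈ N := mem_cj.1 ((hcj a ha).symm ▸ hb)
        have := hL.2.1 _ hb' _ hx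
        simpa [mul_assoc] using this
      · intro x hx
        rw [mem_cj]
        refine hL.2.2.1 ⟨?_, ?_⟩
        · exact mem_cj.1 ((hcjP a ha).symm ▸ hx.1)
        · simpa using (scalars_normal (ι := ι) (F := F)).conj_mem x hx.2 a⁻¹
      · intro hle
        apply hL.2.2.2
        intro x hx
        have h1 := hle (cj_mem (a := a) hx)
        simpa [mul_assoc] using (scalars_normal (ι := ι) (F := F)).conj_mem _ h1 a⁻¹
    have hMc : cand M := ⟨hMP, hMN, hMZ, hMs⟩
    have hdisj : ∀ a ∈ H, ∀ b ∈ H, cj a M ≠ cj b M → cj a M ⊓ cj b M ≤ scalars ι F := by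
      intro a ha b hb hne
      by_contra hns'
      have hA := hcand a ha M hMc
      have hB := hcand b hb M hMc
      have hL : cand (cj a M ⊓ cj b M) :=
        ⟨inf_le_left.trans hA.1, normalBy_inf hA.2.1 hB.2.1, le_inf hA.2.2.1 hB.2.2.1, hns'⟩
      have h1 : ∀ c ∈ H, cj a M ⊓ cj b M ≤ cj c M → cj a M ⊓ cj b M = cj c M := by
        intro c hc hle
        have hcc := hcand c⁻¹ (H.inv_mem hc) _ hL
        have hsub : cj c⁻¹ (cj a M ⊓ cj b M) ≤ M := by
          refine (cj_mono hle).trans (le_of_eq ?_)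
          rw [cj_cj, inv_mul_cancel, cj_one]
        have := congrArg (cj c) (hMmin' _ hcc hsub)
        rwa [cj_cj, mul_inv_cancel, cj_one] at this
      exact hne ((h1 a ha inf_le_left).symm.trans (h1 b hb inf_le_right))
    have hcomm : ∀ a ∈ H, ∀ b ∈ H, cj a M ≠ cj b M →
        ∀ x ∈ cj a M, ∀ y ∈ cj b M, ⁅x, y⁆ ∈ scalars ι F := by
      intro a ha b hb hne x hx y hy
      apply hdisj a ha b hb hne
      have hA := hcand a ha M hMc
      have hB := hcand b hb M hMc
      refine ⟨?_, ?_⟩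
      · have h1 := hA.2.1 y (hPN (hB.1 hy)) x⁻¹ ((cj a M).inv_mem hx)
        have : ⁅x, y⁆ = x * (y * x⁻¹ * y⁻¹) := by rw [commutatorElement_def]; group
        exact this ▸ (cj a M).mul_mem hx h1
      · have h1 := hB.2.1 x (hPN (hA.1 hx)) y hy
        have : ⁅x, y⁆ = (x * y * x⁻¹) * y⁻¹ := rfl
        exact this ▸ (cj b M).mul_mem h1 ((cj b M).inv_mem hy)
    by_cases hMcom : ⁅M, M⁆ ≤ scalars ι F
    · exfalso
      let S : Set (GL ι F) := ⋃ a ∈ H, (cj a M : Set (GL ι F))
      have hS : ∀ x ∈ S, ∀ y ∈ S, ⁅x, y⁆ ∈ scalars ι F := by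
        intro x hx y hy
        simp only [S, Set.mem_iUnion, SetLike.mem_coe] at hx hy
        obtain ⟨a, ha, hx⟩ := hx
        obtain ⟨b, hb, hy⟩ := hy
        by_cases hab : cj a M = cj b M
        · rw [← hab] at hy
          have h1 := hMcom (Subgroup.commutator_mem_commutator (mem_cj.1 hx) (mem_cj.1 hy))
          have h2 := (scalars_normal (ι := ι) (F := F)).conj_mem _ h1 a
          have : ⁅x, y⁆ = a * ⁅a⁻¹ * x * a, a⁻¹ * y * a⁆ * a⁻¹ := by
            simp only [commutatorElement_def]; group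
          exact this ▸ h2
        · exact hcomm a ha b hb hab x hx y hy
      let J := Subgroup.closure S
      have hJP : J ≤ P := (Subgroup.closure_le P).2 fun x hx => by
        simp only [S, Set.mem_iUnion, SetLike.mem_coe] at hx
        obtain ⟨a, ha, hx⟩ := hx
        exact (hcand a ha M hMc).1 hx
      have hJn : NormalBy H J := by
        intro a ha x hx
        have h1 : cj a J ≤ J := by
          simp only [cj, J, MonoidHom.map_closure]
          refine (Subgroup.closure_le _).2 ?_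
          rintro _ ⟨y, hy, rfl⟩
          simp only [S, Set.mem_iUnion, SetLike.mem_coe] at hy
          obtain ⟨b, hb, hy⟩ := hy
          refine Subgroup.subset_closure ?_
          simp only [S, Set.mem_iUnion, SetLike.mem_coe]
          refine ⟨a * b, H.mul_mem ha hb, ?_⟩
          rw [← cj_cj]
          exact Subgroup.mem_map_of_mem _ hy
        exact h1 (cj_mem hx)
      have hMJ : M ≤ J := fun x hx => Subgroup.subset_closure (by
        simp only [S, Set.mem_iUnion, SetLike.mem_coe]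
        exact ⟨1, H.one_mem, by rwa [cj_one]⟩)
      have hJJ : ⁅J, J⁆ ≤ scalars ι F := by
        let qh := QuotientGroup.mk' (scalars ι F)
        have hq : ∀ x y : GL ι F, ⁅x, y⁆ ∈ scalars ι F → qh x * qh y = qh y * qh x := fun x y h => by
          rw [← commutatorElement_eq_one_iff_mul_comm, ← map_commutatorElement]
          exact (QuotientGroup.eq_one_iff _).2 h
        have h1 : J ≤ (Subgroup.centralizer (qh '' S)).comap qh := (Subgroup.closure_le _).2 fun x hx =>
          Subgroup.mem_centralizer_iff.2 (by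
            rintro _ ⟨y, hy, rfl⟩
            exact hq y x (hS y hy x hx))
        have h2 : J ≤ (Subgroup.centralizer (qh '' (J : Set (GL ι F)))).comap qh :=
          (Subgroup.closure_le _).2 fun x hx => Subgroup.mem_centralizer_iff.2 (by
            rintro _ ⟨y, hy, rfl⟩
            exact ((Subgroup.mem_centralizer_iff.1 (h1 hy)) _ ⟨x, hx, rfl⟩).symm)
        refine Subgroup.commutator_le.2 fun x hx y hy => ?_
        refine (QuotientGroup.eq_one_iff _).1 ?_
        show qh ⁅x, y⁆ = 1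
        rw [map_commutatorElement, commutatorElement_eq_one_iff_mul_comm]
        exact ((Subgroup.mem_centralizer_iff.1 (h2 hx)) _ ⟨y, hy, rfl⟩).symm
      have hJN := hmin' J (hJP.trans hPN) hJn (fun h => hMs (hMJ.trans h))
      apply hcom
      calc P = ⁅J, J⁆ := by rw [hPdef, ← hJN, commutator_sup_scalars hZ]
        _ ≤ scalars ι F := hJJ
    · -- the derived subgroup of M
      set M₁ := ⁅M, M⁆ with hM₁
      have hM₁M : M₁ ≤ M := Subgroup.commutator_le.2 fun a ha b hb => by
        rw [commutatorElement_def]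
        exact M.mul_mem (M.mul_mem (M.mul_mem ha hb) (M.inv_mem ha)) (M.inv_mem hb)
      have hM₁n : NormalBy N M₁ := normalBy_commutator hMN hMN
      have hZ₀n : NormalBy N Z₀ := normalBy_inf (NormalBy.mono hPn hNle) (normalBy_scalars N)
      have hM₁Z : M₁ ⊔ Z₀ = M := hMmin' _
        ⟨sup_le (hM₁M.trans hMP) inf_le_left, normalBy_sup hM₁n hZ₀n, le_sup_right,
          fun h => hMcom (le_sup_left.trans h)⟩ (sup_le hM₁M hMZ)
      have hM₁perf : ⁅M₁, M₁⁆ = M₁ := by
        conv_rhs => rw [hM₁, ← hM₁Z]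
        rw [commutator_sup_scalars (inf_le_right)]
      have hfix : ∀ a ∈ H, cj a M = M := by
        intro a ha
        by_contra hne
        -- several conjugates: tensor-induced
        let O : Set (Subgroup (GL ι F)) := {L | ∃ b ∈ H, cj b M₁ = L}
        haveI : Fintype O := Fintype.ofFinite O
        let ord : Fin (Fintype.card O) ≃ O := (Fintype.equivFin O).symm
        have hM₁c : ∀ b : GL ι F, cj b M₁ = ⁅cj b M, cj b M⁆ := fun b => Subgroup.map_commutator M M _
        have hM₁ns : ∀ b : GL ι F, ¬ cj b M₁ ≤ scalars ι F := fun b hle => hMcom fun x hx => by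
          have h1 := hle (cj_mem (a := b) hx)
          simpa [mul_assoc] using (scalars_normal (ι := ι) (F := F)).conj_mem _ h1 b⁻¹
        have hne' : cj a M₁ ≠ cj 1 M₁ := by
          intro h
          apply hne
          have hZc : cj a Z₀ = Z₀ := normalBy_cj (normalBy_inf hPn (normalBy_scalars H)) ha
          calc cj a M = cj a (M₁ ⊔ Z₀) := by rw [hM₁Z]
            _ = cj a M₁ ⊔ cj a Z₀ := Subgroup.map_sup _ _ _
            _ = M := by rw [h, hZc, cj_one, hM₁Z]
        have h2 : 2 ≤ Fintype.card O :=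
          Fintype.one_lt_card_iff.2 ⟨⟨_, a, ha, rfl⟩, ⟨_, 1, H.one_mem, rfl⟩, fun h => hne' (congrArg Subtype.val h)⟩
        refine halt (wreath_cases hs (fun i => (ord i : Subgroup (GL ι F))) h2 ?_ ?_ ?_ ?_)
        · intro i
          obtain ⟨b, -, hbi⟩ := (ord i).2
          rw [← hbi]
          exact hM₁ns b
        · intro i j hij x hx y hy
          obtain ⟨b, hb, hbi⟩ := (ord i).2
          obtain ⟨c, hc, hcj'⟩ := (ord j).2
          have hbc : cj b M ≠ cj c M := fun h => hij (ord.injective (Subtype.ext (by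
            rw [← hbi, ← hcj', hM₁c, hM₁c, h])))
          rw [← hbi] at hx
          rw [← hcj'] at hy
          have hperfb : ⁅cj b M₁, cj b M₁⁆ = cj b M₁ := by
            conv_rhs => rw [← hM₁perf]
            exact (Subgroup.map_commutator M₁ M₁ _).symm
          refine (commute_of_perfect hperfb (h := y) (fun z hz => ?_) x hx).symm
          exact hcomm c hc b hb hbc.symm y (cj_mono hM₁M hy) z (cj_mono hM₁M hz)
        · intro h hh
          have hmem : ∀ i, cj h (ord i : Subgroup (GL ι F)) ∈ O := fun i => by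
            obtain ⟨b, hb, hbi⟩ := (ord i).2
            exact ⟨h * b, H.mul_mem hh hb, by rw [← hbi, cj_cj]⟩
          let σ : Fin (Fintype.card O) → Fin (Fintype.card O) := fun i => ord.symm ⟨_, hmem i⟩
          have hinj : Function.Injective σ := fun i j hij => ord.injective (Subtype.ext (by
            have := congrArg (fun L => cj h⁻¹ L) (congrArg Subtype.val (ord.symm.injective hij))
            simpa [cj_cj, cj_one] using this))
          exact ⟨Equiv.ofBijective σ ⟨hinj, Finite.surjective_of_injective hinj⟩,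
            fun i => (congrArg Subtype.val (ord.apply_symm_apply (⟨_, hmem i⟩ : O))).symm⟩
        · intro i j
          obtain ⟨b, hb, hbi⟩ := (ord i).2
          obtain ⟨c, hc, hcj'⟩ := (ord j).2
          exact ⟨c * b⁻¹, H.mul_mem hc (H.inv_mem hb), by rw [← hbi, cj_cj, ← hcj', inv_mul_cancel_right]⟩
      have hMnH : NormalBy H M := fun a ha x hx => hfix a ha ▸ cj_mem hx
      have hMZN := hmin' M (hMP.trans hPN) hMnH hMs
      have : P ≤ M := by
        rw [hPdef, ← hMZN, commutator_sup_scalars hZ]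
        exact hM₁M
      exact le_antisymm hK.1 (this.trans hMK)
  have hPs : ¬ P ≤ scalars ι F := hcom
  refine ⟨P, hPN.trans hNle, hPn, hperf, ?_, ?_, fun h _ hh => scalar_of_comm_mod hperf hPabs hh, hPabs⟩
  · have hnt : Nontrivial (P ⧸ (scalars ι F).subgroupOf P) := by
      obtain ⟨x, hx, hxs⟩ := SetLike.not_le_iff_exists.1 hPs
      exact ⟨QuotientGroup.mk ⟨x, hx⟩, 1, fun h => hxs ((QuotientGroup.eq_one_iff (⟨x, hx⟩ : P)).1 h)⟩
    refine { exists_pair_ne := hnt.exists_pair_ne, eq_bot_or_eq_top_of_normal := fun L hL => ?_ }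
    let K : Subgroup (GL ι F) := (L.comap (QuotientGroup.mk' _)).map P.subtype
    have hKP : K ≤ P := Subgroup.map_subtype_le _
    by_cases hKs : K ≤ scalars ι F
    · left
      rw [eq_bot_iff]
      intro u hu
      obtain ⟨x, rfl⟩ := QuotientGroup.mk'_surjective _ u
      exact (QuotientGroup.eq_one_iff _).2 (hKs ⟨x, hu, rfl⟩)
    · right
      have hKc : cand K := by
        refine ⟨hKP, ?_, ?_, hKs⟩
        · rintro b hb _ ⟨x, hx, rfl⟩
          rw [← hPZ] at hb
          obtain ⟨p, hp, z, hz, rfl⟩ := mem_sup_scalars hZ hb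
          refine ⟨(⟨p, hp⟩ : P) * x * (⟨p, hp⟩ : P)⁻¹, ?_, ?_⟩
          · exact (Subgroup.Normal.comap hL _).conj_mem x hx _
          · have e1 : z * (x : GL ι F) = (x : GL ι F) * z := scalar_comm (hZ hz) _
            simp only [Subgroup.coe_subtype, Subgroup.coe_mul, Subgroup.coe_inv, mul_inv_rev]
            rw [mul_assoc p z, e1]
            group
        · intro x hx
          refine ⟨⟨x, hx.1⟩, ?_, rfl⟩
          show QuotientGroup.mk _ ∈ L
          rw [(QuotientGroup.eq_one_iff (N := (scalars ι F).subgroupOf P) (⟨x, hx.1⟩ : P)).2 hx.2]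
          exact L.one_mem
      have hKeq := hkey K hKc
      rw [eq_top_iff]
      intro u _
      obtain ⟨x, rfl⟩ := QuotientGroup.mk'_surjective _ u
      have : (x : GL ι F) ∈ K := hKeq.symm ▸ x.2
      obtain ⟨y, hy, hyx⟩ := this
      exact Subtype.ext hyx ▸ hy
  · intro hc
    apply hPs
    rw [← hperf]
    refine Subgroup.commutator_le.2 fun a ha b hb => ?_
    have h1 := hc.is_comm.comm (QuotientGroup.mk (⟨a, ha⟩ : P) : P ⧸ (scalars ι F).subgroupOf P)
      (QuotientGroup.mk ⟨b, hb⟩)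
    have h2 : QuotientGroup.mk' ((scalars ι F).subgroupOf P) ⁅(⟨a, ha⟩ : P), (⟨b, hb⟩ : P)⁆ = 1 := by
      rw [map_commutatorElement, commutatorElement_eq_one_iff_mul_comm]
      exact h1
    exact (QuotientGroup.eq_one_iff (⁅(⟨a, ha⟩ : P), (⟨b, hb⟩ : P)⁆ : P)).1 h2

/-- Aschbacher's theorem for the special linear group: geometric or residual -/
theorem linear_alt (h3 : 3 ≤ Fintype.card ι) {H : Subgroup (GL ι F)} (hsl : H ≤ specialLinear ι F) :
    Alt H ∨ InLinearResidualClass H := by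
  classical
  have : Nonempty ι := Fintype.card_pos_iff.1 (by omega)
  by_cases hirr : ¬ Irred H
  · left
    unfold Irred at hirr
    push Not at hirr
    obtain ⟨W, hW, hb, ht⟩ := hirr
    exact .sub W hb ht ((inv_iff_le_stabilizer _ _).1 hW)
  push Not at hirr
  rcases alg_cases hirr with h | hs
  · exact Or.inl h
  rcases core_cases h3 hsl hirr hs with h | ⟨P, hP⟩
  · exact Or.inl h
  by_cases hreal : ∃ F₀ : Subfield F, F₀ ≠ ⊤ ∧ RealisableOver F₀ (matrixSet P)
  · obtain ⟨F₀, hne, C, hC⟩ := hreal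
    obtain ⟨φ, r, hr, hcard, hfix⟩ := exists_maximal_above hne
    exact Or.inl (.subfield φ r C⁻¹ hr hcard (le_subfieldSubgroup hP.absIrred hP.normal fun s hs i j =>
      hfix _ (by simpa using hC _ ⟨s, hs, rfl⟩ i j)))
  by_cases hsymp : ∃ f : (ι → F) → (ι → F) → F, IsSymplecticForm f ∧ FixesForm (matrixSet P) f
  · obtain ⟨f, hf, hfix⟩ := hsymp
    exact Or.inl (.symp f hf (similar_of_normal hP.absIrred hP.normal (sesq_of_bilinear hf.bilinear)
      hf.nondegenerate hfix))
  by_cases hquad : ∃ Q : (ι → F) → F, IsNondegenerateQuadraticForm Q ∧ FixesQuadForm (matrixSet P) Q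
  · obtain ⟨Q, hQ, hfix⟩ := hquad
    have hfp : FixesForm (matrixSet P) (QuadraticMap.polar Q) := by
      intro s hs u v
      simpa using polar_fix (fun u v => Matrix.mulVec_add s u v) 1 (fun v => by rw [hfix s hs, one_mul]) u v
    by_cases h2 : (2 : F) = 0
    · refine absurd ⟨_, ⟨hQ.polar_bilinear, fun v w => ?_, fun v => ?_, hQ.nondegenerate⟩, hfp⟩ hsymp
      · have hneg : ∀ a : F, -a = a := fun a => by linear_combination (-a) * h2
        rw [hneg]
        exact QuadraticMap.polar_comm Q _ _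
      · rw [polar_self hQ, h2, zero_mul]
    · refine Or.inl (.quad Q (odd_card_of_two_ne_zero h2) hQ ?_)
      rw [quadSimilarity_eq h2 hQ]
      exact similar_of_normal hP.absIrred hP.normal (sesq_of_bilinear hQ.polar_bilinear) hQ.nondegenerate hfp
  by_cases hunit : ∃ (σ : F ≃+* F) (f : (ι → F) → (ι → F) → F), IsUnitaryForm σ f ∧ FixesForm (matrixSet P) f
  · obtain ⟨σ, f, hf, hfix⟩ := hunit
    exact Or.inl (.unit σ f hf (similar_of_normal hP.absIrred hP.normal (sesq_of_unitary hf) hf.nondegenerate hfix))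
  push Not at hreal
  exact Or.inr ⟨P, ⟨hP.le, hP.normal, hP.perfect, hP.simple, hP.nonabelian, hP.centralizer_scalar, hP.absIrred,
    hreal⟩, hquad, hsymp, hunit⟩

end Cfsg.Agent.AschGenLinear
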