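/-
Aschbacher's theorem with a form, part 3: extension fields closed under adjoints.
-/
import Cfsg.Agent.Lib.AschFormBasic
import Cfsg.Agent.Lib.AschGenLinear
import Cfsg.Agent.Lib.GaloisDescentGL

set_option autoImplicit false
set_option linter.unusedSectionVars false

namespace Cfsg.Agent.AschFormField

open scoped Matrix
open Cfsg Cfsg.Geo Cfsg.Agent.AschPrimeBasic Cfsg.Agent.AschPrimeForms Cfsg.Agent.AschGenAlgebra
  Cfsg.Agent.AschFormBasic

variable {ι : Type} [Fintype ι] [DecidableEq ι] {F : Type*} [Field F] [Fintype F]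

/-- a normalised star-closed field subalgebra contains one of prime degree -/
theorem exists_prime_field_star [Nonempty ι] {σ : F ≃+* F} {ε : F} {f : (ι → F) → (ι → F) → F}
    (hf : FormData σ ε f) {H : Subgroup (GL ι F)} {C : Subalgebra F (Matrix ι ι F)} (hC : AlgNorm H C)
    (hs : StarClosed σ (gramMatrix f) C) (hcomm : ∀ x ∈ C, ∀ y ∈ C, x * y = y * x)
    (hinv : ∀ x ∈ C, x ≠ 0 → ∃ y ∈ C, x * y = 1) (hne : C ≠ ⊥) :
    ∃ (r : ℕ) (K : Subalgebra F (Matrix ι ι F)), r.Prime ∧ IsFieldSubalgebra r K ∧
      StarClosed σ (gramMatrix f) K ∧ AlgNorm H K ∧ r ∣ Fintype.card ι ∧ H ≤ subalgebraNormalizer K := by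
  classical
  haveI : Nontrivial C := ⟨0, 1, fun h => zero_ne_one (congrArg Subtype.val h : (0 : Matrix ι ι F) = 1)⟩
  have hfld : IsField C :=
    ⟨⟨0, 1, zero_ne_one⟩, fun x y => Subtype.ext (hcomm _ x.2 _ y.2), fun {x} hx => by
      obtain ⟨y, hy, hxy⟩ := hinv x x.2 (fun h => hx (Subtype.ext h))
      exact ⟨⟨y, hy⟩, Subtype.ext hxy⟩⟩
  letI : Field C := hfld.toField
  haveI : Fintype C := Fintype.ofFinite C
  set d := Module.finrank F C with hd
  have hd1 : 1 < d := by
    rcases Nat.lt_or_ge 1 d with h | h
    · exact h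
    · exfalso
      have hpos : 0 < d := Module.finrank_pos
      exact hne (Subalgebra.eq_bot_of_finrank_one (by omega))
  obtain ⟨r, hr, j, hj⟩ := Nat.exists_prime_and_dvd hd1.ne'
  let φ : C →ₐ[F] C := (FiniteField.frobeniusAlgHom F C) ^ r
  have hφ : ∀ x, φ x = x ^ (Fintype.card F ^ r) := fun x => by
    simp only [φ, AlgHom.coe_pow, FiniteField.coe_frobeniusAlgHom, pow_iterate]
  let L : Subalgebra F C := AlgHom.equalizer φ (AlgHom.id F C)
  let K : Subalgebra F (Matrix ι ι F) := L.map C.val
  have hmem : ∀ x, x ∈ K ↔ x ∈ C ∧ x ^ (Fintype.card F ^ r) = x := by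
    intro x
    constructor
    · rintro ⟨y, hy, rfl⟩
      refine ⟨y.2, ?_⟩
      have h1 : φ y = y := hy
      rw [hφ] at h1
      simpa using congrArg Subtype.val h1
    · rintro ⟨hx, hx'⟩
      refine ⟨⟨x, hx⟩, ?_, rfl⟩
      show φ ⟨x, hx⟩ = _
      rw [hφ]
      exact Subtype.ext (by simpa using hx')
  have hnorm : AlgNorm H K := by
    intro h hh c hc
    rw [hmem] at hc ⊢
    refine ⟨hC h hh c hc.1, ?_⟩
    conv_rhs => rw [← hc.2]
    rw [← conjAlg_apply h c, ← map_pow]
    rfl
  have hstar : StarClosed σ (gramMatrix f) K := by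
    intro c hc
    rw [hmem] at hc ⊢
    refine ⟨hs c hc.1, ?_⟩
    have key : ∀ k : ℕ, adj σ (gramMatrix f) (c ^ k) = adj σ (gramMatrix f) c ^ k := by
      intro k
      induction k with
      | zero => simp [adj_one hf]
      | succ k ih => rw [pow_succ, adj_mul hf, ih, ← pow_succ']
    rw [← key, hc.2]
  have hq : 1 < Fintype.card F := Fintype.one_lt_card
  have hcardC : Fintype.card C = Fintype.card F ^ d := Module.card_eq_pow_finrank
  have hbij : Function.Bijective φ := ⟨φ.toRingHom.injective, Finite.surjective_of_injective φ.toRingHom.injective⟩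
  have hLcard : Nat.card L = Fintype.card F ^ r := by
    have h1 : Nat.card (AschPrimeForms.fixedField (RingEquiv.ofBijective φ hbij : C ≃+* C)) =
        Fintype.card F ^ r := by
      refine AschPrimeForms.card_fixedField (Nat.one_lt_pow hr.ne_zero hq) ?_ (fun x => hφ x)
      rw [hcardC]
      exact Nat.pow_sub_one_dvd_pow_sub_one _ ⟨j, hj⟩
    rw [← h1]
    exact Nat.card_congr (Equiv.subtypeEquivRight fun x => Iff.rfl)
  have hrank : Module.finrank F K = r := by
    have h1 : Module.finrank F L = Module.finrank F K :=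
      (L.equivMapOfInjective C.val Subtype.val_injective).toLinearEquiv.finrank_eq
    have h2 := Module.natCard_eq_pow_finrank (K := F) (V := L)
    rw [hLcard, Nat.card_eq_fintype_card] at h2
    rw [← h1]
    exact (Nat.pow_right_injective hq h2).symm
  have hK : IsFieldSubalgebra r K := by
    refine ⟨fun x hx y hy => hcomm x ((hmem x).1 hx).1 y ((hmem y).1 hy).1, fun x hx hx0 => ?_, hrank⟩
    obtain ⟨y, hy, hxy⟩ := hinv x ((hmem x).1 hx).1 hx0
    refine ⟨y, (hmem y).2 ⟨hy, ?_⟩, hxy⟩
    have h1 : x ^ (Fintype.card F ^ r) * y ^ (Fintype.card F ^ r) = 1 := by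
      rw [← (show Commute x y from hcomm x ((hmem x).1 hx).1 y hy).mul_pow, hxy, one_pow]
    rw [((hmem x).1 hx).2] at h1
    calc y ^ (Fintype.card F ^ r) = (y * x) * y ^ (Fintype.card F ^ r) := by
          rw [← hcomm x ((hmem x).1 hx).1 y hy, hxy, one_mul]
      _ = y := by rw [mul_assoc, h1, mul_one]
  refine ⟨r, K, hr, hK, hstar, hnorm, AschGenLinear.field_degree_dvd hK, fun g hg k => ?_⟩
  refine ⟨fun hk => hnorm g hg k hk, fun hk => ?_⟩
  have h1 := hnorm g⁻¹ (H.inv_mem hg) _ hk
  simpa [mul_assoc] using h1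

/-- the fixed points of an involution of a finite field form a subfield of square index -/
lemma card_fixed_involution {K : Type*} [Field K] [Fintype K] (α : K ≃+* K) (h2 : ∀ x, α (α x) = x)
    (hne : α ≠ RingEquiv.refl K) : Nat.card {x : K // α x = x} ^ 2 = Nat.card K := by
  have h := GaloisDescentGL.card_fixed α
  have ho : orderOf α = 2 := orderOf_eq_prime (RingEquiv.ext fun x => by rw [sq]; exact h2 x) fun h1 => hne h1
  rwa [ho] at h

/-- two non-trivial involutions of a finite field have the same fixed points -/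
lemma fixed_eq {K : Type*} [Field K] [Fintype K] {α β : K ≃+* K} (hα : ∀ x, α (α x) = x)
    (hβ : ∀ x, β (β x) = x) (hαn : α ≠ RingEquiv.refl K) (hβn : β ≠ RingEquiv.refl K) {x : K}
    (hx : β x = x) : α x = x := by
  classical
  have hc : Nat.card (fixedField α) = Nat.card (fixedField β) := by
    have h1 := (card_fixed_involution α hα hαn).trans (card_fixed_involution β hβ hβn).symm
    exact Nat.pow_left_injective two_ne_zero h1
  set N := Nat.card (fixedField α) with hN
  have hN1 : 1 < N := by
    rw [hN, Nat.card_eq_fintype_card]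
    exact Fintype.one_lt_card
  have key : ∀ (γ : K ≃+* K), Nat.card (fixedField γ) = N → ∀ y ∈ fixedField γ, y ^ N = y := by
    intro γ hγ y hy
    have h1 := FiniteField.pow_card (K := fixedField γ) ⟨y, hy⟩
    rw [← Nat.card_eq_fintype_card, hγ] at h1
    exact congrArg Subtype.val h1
  by_contra hxα
  let S : Finset K := insert x (Finset.univ.filter fun y => α y = y)
  have hS : S.card = N + 1 := by
    rw [Finset.card_insert_of_notMem (by simp [hxα])]
    congr 1
    rw [hN, Nat.card_eq_fintype_card, ← Fintype.card_subtype]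
    exact Fintype.card_congr (Equiv.subtypeEquivRight fun y => Iff.rfl)
  have hle : S.card ≤ N := by
    set P : Polynomial K := Polynomial.X ^ N - Polynomial.X
    have hP : P ≠ 0 := FiniteField.X_pow_card_sub_X_ne_zero K hN1
    calc S.card ≤ P.roots.toFinset.card := Finset.card_le_card fun y hy => by
          rw [Multiset.mem_toFinset, Polynomial.mem_roots hP]
          simp only [S, Finset.mem_insert, Finset.mem_filter, Finset.mem_univ, true_and] at hy
          rcases hy with rfl | hy
          · simp [P, key β hc.symm y hx]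
          · simp [P, key α rfl y hy]
      _ ≤ _ := (Multiset.toFinset_card_le _).trans ((Polynomial.card_roots' _).trans
          (FiniteField.X_pow_card_sub_X_natDegree_eq K hN1).le)
  omega

/-- the adjoint map on a star-closed field subalgebra -/
theorem field_adj [Nonempty ι] {σ : F ≃+* F} {ε : F} {f : (ι → F) → (ι → F) → F} (hf : FormData σ ε f)
    {r : ℕ} (hr : r.Prime) {K : Subalgebra F (Matrix ι ι F)} (hK : IsFieldSubalgebra r K)
    (hs : StarClosed σ (gramMatrix f) K) :
    (σ ≠ RingEquiv.refl F → Odd r) ∧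
      (σ = RingEquiv.refl F → Odd r → ∀ k ∈ K, adj σ (gramMatrix f) k = k) := by
  classical
  haveI : Nontrivial K := ⟨0, 1, fun h => zero_ne_one (congrArg Subtype.val h : (0 : Matrix ι ι F) = 1)⟩
  have hfld : IsField K :=
    ⟨⟨0, 1, zero_ne_one⟩, fun x y => Subtype.ext (hK.comm _ x.2 _ y.2), fun {x} hx => by
      obtain ⟨y, hy, hxy⟩ := hK.inv x x.2 (fun h => hx (Subtype.ext h))
      exact ⟨⟨y, hy⟩, Subtype.ext hxy⟩⟩
  letI : Field K := hfld.toField
  haveI : Fintype K := Fintype.ofFinite K
  let α : K ≃+* K :=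
    { toFun := fun k => ⟨adj σ (gramMatrix f) k, hs k k.2⟩
      invFun := fun k => ⟨adj σ (gramMatrix f) k, hs k k.2⟩
      left_inv := fun k => Subtype.ext (adj_adj hf _)
      right_inv := fun k => Subtype.ext (adj_adj hf _)
      map_mul' := fun x y => Subtype.ext ((adj_mul hf _ _).trans (hK.comm _ (hs _ y.2) _ (hs _ x.2)))
      map_add' := fun x y => Subtype.ext (adj_add _ _ _) }
  have hα : ∀ x, α (α x) = x := fun x => Subtype.ext (adj_adj hf _)
  have hαc : ∀ c : F, α (algebraMap F K c) = algebraMap F K (σ c) := fun c => Subtype.ext (by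
    show adj σ (gramMatrix f) (algebraMap F (Matrix ι ι F) c) = algebraMap F (Matrix ι ι F) (σ c)
    rw [Algebra.algebraMap_eq_smul_one, adj_smul, adj_one hf, Algebra.algebraMap_eq_smul_one])
  constructor
  · intro hσ
    rcases hr.eq_two_or_odd' with rfl | h
    swap
    · exact h
    exfalso
    have hcard : Fintype.card K = Fintype.card F ^ 2 := by
      rw [Module.card_eq_pow_finrank (K := F) (V := K)]
      exact congrArg _ hK.finrank_eq
    let ψ : K →ₐ[F] K := FiniteField.frobeniusAlgHom F K
    have hψb : Function.Bijective ψ := ⟨ψ.toRingHom.injective, Finite.surjective_of_injective ψ.toRingHom.injective⟩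
    let β : K ≃+* K := RingEquiv.ofBijective ψ hψb
    have hψ : ∀ x : K, ψ x = x ^ Fintype.card F := fun x => rfl
    have hβ : ∀ x, β (β x) = x := fun x => by
      show ψ (ψ x) = x
      rw [hψ, hψ, ← pow_mul, ← sq, ← hcard]
      exact FiniteField.pow_card x
    have hβn : β ≠ RingEquiv.refl K := by
      intro h
      have hq : 1 < Fintype.card F := Fintype.one_lt_card
      set P : Polynomial K := Polynomial.X ^ Fintype.card F - Polynomial.X
      have hP : P ≠ 0 := FiniteField.X_pow_card_sub_X_ne_zero K hq
      have hle : (Finset.univ : Finset K).card ≤ Fintype.card F :=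
        (Finset.card_le_card fun y _ => by
          rw [Multiset.mem_toFinset, Polynomial.mem_roots hP]
          have hy : β y = y := by rw [h]; rfl
          simp [P, show y ^ Fintype.card F = y from hy]).trans ((Multiset.toFinset_card_le _).trans
          ((Polynomial.card_roots' _).trans (FiniteField.X_pow_card_sub_X_natDegree_eq K hq).le))
      rw [Finset.card_univ, hcard, sq] at hle
      nlinarith
    have hαn : α ≠ RingEquiv.refl K := fun h => hσ (RingEquiv.ext fun c => by
      refine (algebraMap F K).injective ?_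
      rw [← hαc, h]; rfl)
    refine hσ (RingEquiv.ext fun c => (algebraMap F K).injective ?_)
    rw [← hαc]
    exact fixed_eq hα hβ hαn hβn (ψ.commutes c)
  · intro hσ hro k hk
    by_contra hne
    have hαn : α ≠ RingEquiv.refl K := fun h => hne (congrArg Subtype.val (show α ⟨k, hk⟩ = ⟨k, hk⟩ by rw [h]; rfl))
    let L : Submodule F K :=
      { carrier := {x | α x = x}
        add_mem' := fun {a b} (ha : α a = a) (hb : α b = b) => by show α _ = _; rw [map_add, ha, hb]
        zero_mem' := map_zero α
        smul_mem' := fun c a (ha : α a = a) => by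
          show α _ = _
          rw [Algebra.smul_def, map_mul, hαc, hσ, ha]; rfl }
    have h1 := card_fixed_involution α hα hαn
    have h2 : Nat.card L = Nat.card {x : K // α x = x} := Nat.card_congr (Equiv.subtypeEquivRight fun x => Iff.rfl)
    rw [← h2, Module.natCard_eq_pow_finrank (K := F) (V := L), ← pow_mul,
      Module.natCard_eq_pow_finrank (K := F) (V := K)] at h1
    have h3 : Module.finrank F L * 2 = r :=
      (Nat.pow_right_injective (by rw [Nat.card_eq_fintype_card]; exact Fintype.one_lt_card) h1).trans hK.finrank_eq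
    exact Nat.not_even_iff_odd.2 hro ⟨Module.finrank F L, by omega⟩

/-- in characteristic two and with an alternating form, self-adjoint field elements give zero diagonal values -/
lemma alt_diag {σ : F ≃+* F} {ε : F} {f : (ι → F) → (ι → F) → F} (hf : FormData σ ε f)
    (halt : ∀ v, f v v = 0) (hsk : ∀ v w, f v w = -f w v) {r : ℕ} {K : Subalgebra F (Matrix ι ι F)}
    (hK : IsFieldSubalgebra r K) (hsa : ∀ k ∈ K, adj σ (gramMatrix f) k = k) :
    ∀ k ∈ K, ∀ v, f (k *ᵥ v) v = 0 := by
  intro k hk v
  by_cases h2 : (2 : F) = 0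
  · -- every element is a square
    have : CharP F 2 := CharTwo.of_one_ne_zero_of_two_eq_zero one_ne_zero h2
    haveI : Finite (Matrix ι ι F) := inferInstance
    have hinj : Function.Injective fun x : K => x * x := by
      intro x y hxy
      have h1 : (x : Matrix ι ι F) * x = (y : Matrix ι ι F) * y := congrArg Subtype.val hxy
      by_contra hne
      obtain ⟨z, -, hz⟩ := hK.inv ((x : Matrix ι ι F) - y) (sub_mem x.2 y.2)
        (fun h => hne (Subtype.ext (sub_eq_zero.1 h)))
      have h3 : ((x : Matrix ι ι F) - y) * ((x : Matrix ι ι F) - y) = 0 := by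
        rw [sub_mul, mul_sub, mul_sub, h1, hK.comm _ x.2 _ y.2]
        have e : ∀ a b : Matrix ι ι F, a - b - (b - a) = 0 := fun a b => by
          ext i j
          simp only [Matrix.sub_apply, Matrix.zero_apply]
          linear_combination (a i j - b i j) * h2
        exact e _ _
      have h4 : ((x : Matrix ι ι F) - y) = 0 := by
        calc ((x : Matrix ι ι F) - y) = ((x : Matrix ι ι F) - y) * (((x : Matrix ι ι F) - y) * z) := by rw [hz, mul_one]
          _ = 0 := by rw [← mul_assoc, h3, zero_mul]
      exact hne (Subtype.ext (sub_eq_zero.1 h4))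
    obtain ⟨l, hl⟩ := Finite.surjective_of_injective hinj ⟨k, hk⟩
    have hl' : (l : Matrix ι ι F) * l = k := congrArg Subtype.val hl
    rw [← hl', ← Matrix.mulVec_mulVec, adjoint_apply hf, hsa l l.2, halt]
  · have h1 : f (k *ᵥ v) v = -f (k *ᵥ v) v := by
      conv_lhs => rw [adjoint_apply hf, hsa k hk, hsk]
    exact mul_left_cancel₀ h2 (show 2 * f (k *ᵥ v) v = 2 * 0 by linear_combination h1)

end Cfsg.Agent.AschFormField
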