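/-
Aschbacher's theorem in odd prime dimension, linear case: every maximal subgroup of SL is geometric or residual.
-/
import Cfsg.Agent.Lib.AschPrimeCore
import Cfsg.Agent.Lib.AschPrimeForms

set_option autoImplicit false

namespace Cfsg.Agent.AschPrimeLinear

open scoped Matrix
open Cfsg Cfsg.Geo Cfsg.Agent.AschPrimeBasic Cfsg.Agent.AschPrimeClifford Cfsg.Agent.AschPrimeExtra
  Cfsg.Agent.AschPrimeCore Cfsg.Agent.AschPrimeForms

variable {ι : Type} [Fintype ι] [DecidableEq ι] {F : Type*} [Field F]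

/-- a family of lines in number equal to the dimension gives a basis in which its stabiliser is monomial -/
lemma lines_mono [Fintype F] {D : Fin (Fintype.card ι) → Submodule F (ι → F)} (hD : IsMDecomposition 1 D) :
    ∃ B : GL ι F, ∀ h ∈ decompositionStabilizer D,
      IsMono (Fintype.card F - 1) ((B⁻¹ * h * B : GL ι F) : Matrix ι ι F) := by
  classical
  have : ∀ i, ∃ v : ι → F, v ∈ D i ∧ v ≠ 0 ∧ ∀ w ∈ D i, ∃ c : F, c • v = w := by
    intro i
    obtain ⟨⟨v, hv⟩, hv0, hsp⟩ := finrank_eq_one_iff'.1 (hD.finrank_eq i)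
    exact ⟨v, hv, fun h => hv0 (Subtype.ext h), fun w hw => by
      obtain ⟨c, hc⟩ := hsp ⟨w, hw⟩
      exact ⟨c, congrArg Subtype.val hc⟩⟩
  choose v hv hv0 hsp using this
  let e : ι ≃ Fin (Fintype.card ι) := Fintype.equivFin ι
  have hli : LinearIndependent F (fun i => v (e i)) :=
    (hD.indep.comp e.injective).linearIndependent _ (fun i => hv (e i)) (fun i => hv0 (e i))
  let Bm : Matrix ι ι F := Matrix.of fun r i => v (e i) r
  have hBdet : Bm.det ≠ 0 := by
    have h1 : IsUnit Bm := Matrix.linearIndependent_cols_iff_isUnit.1 hli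
    exact ((Matrix.isUnit_iff_isUnit_det _).1 h1).ne_zero
  refine ⟨Matrix.GeneralLinearGroup.mkOfDetNeZero Bm hBdet, fun h hh => ?_⟩
  obtain ⟨τ, hτ⟩ := hh
  have hc : ∀ i, ∃ c : F, c ≠ 0 ∧ (h : Matrix ι ι F) *ᵥ v (e i) = c • v (τ (e i)) := by
    intro i
    have h1 : (h : Matrix ι ι F) *ᵥ v (e i) ∈ D (τ (e i)) := hτ (e i) ▸ ⟨v (e i), hv _, by simp⟩
    obtain ⟨c, hc⟩ := hsp _ _ h1
    refine ⟨c, ?_, hc.symm⟩
    rintro rfl
    have h2 := inv_mulVec_mulVec h (v (e i))
    rw [← hc, zero_smul, Matrix.mulVec_zero] at h2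
    exact hv0 _ h2.symm
  choose c hc0 hc using hc
  let π : Equiv.Perm ι := e.trans (τ.trans e.symm)
  refine ⟨π, c, fun i => FiniteField.pow_card_sub_one_eq_one _ (hc0 i), ?_⟩
  let P : Matrix ι ι F := Matrix.of fun k i => if k = π i then c i else 0
  have key : (h : Matrix ι ι F) * Bm = Bm * P := by
    ext r i
    have h1 : ((h : Matrix ι ι F) * Bm) r i = ((h : Matrix ι ι F) *ᵥ v (e i)) r := by
      simp [Matrix.mul_apply, Bm, Matrix.mulVec, dotProduct]
    rw [h1, hc]
    rw [Matrix.mul_apply, Finset.sum_eq_single (π i)]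
    · simp [P, Bm, π, mul_comm]
    · intro j _ hj
      simp [P, hj]
    · simp
  intro k i
  set B := Matrix.GeneralLinearGroup.mkOfDetNeZero Bm hBdet with hB
  rw [Units.val_mul, Units.val_mul, mul_assoc, show (B : Matrix ι ι F) = Bm from rfl, key,
    show Bm = (B : Matrix ι ι F) from rfl, ← mul_assoc, ← Units.val_mul, inv_mul_cancel, Units.val_one,
    one_mul]
  rfl

omit [DecidableEq ι] in
lemma mono_mulVec [DecidableEq ι] {M : Matrix ι ι F} {π : Equiv.Perm ι} {a : ι → F}
    (hM : ∀ k i, M k i = if k = π i then a i else 0) (w : ι → F) (i : ι) :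
    (M *ᵥ w) (π i) = a i * w i := by
  simp only [Matrix.mulVec, dotProduct, hM]
  rw [Finset.sum_eq_single i]
  · simp
  · intro j _ hj
    have : π i ≠ π j := fun h => hj (π.injective h).symm
    simp [this]
  · simp

/-- the diagonal form pulled back along `C` -/
def twist (σ : F ≃+* F) (C : GL ι F) (u v : ι → F) : F :=
  ∑ i, ((C : Matrix ι ι F) *ᵥ u) i * σ (((C : Matrix ι ι F) *ᵥ v) i)

lemma twist_fix {n : ℕ} (σ : F ≃+* F) (hσ : ∀ a : F, a ^ n = 1 → a * σ a = 1) {C g : GL ι F}
    (hg : IsMono n ((C * g * C⁻¹ : GL ι F) : Matrix ι ι F)) (u v : ι → F) :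
    twist σ C ((g : Matrix ι ι F) *ᵥ u) ((g : Matrix ι ι F) *ᵥ v) = twist σ C u v := by
  obtain ⟨π, a, ha, hM⟩ := hg
  have e : ∀ w : ι → F, (C : Matrix ι ι F) *ᵥ ((g : Matrix ι ι F) *ᵥ w) =
      ((C * g * C⁻¹ : GL ι F) : Matrix ι ι F) *ᵥ ((C : Matrix ι ι F) *ᵥ w) := by
    intro w
    simp [Matrix.mulVec_mulVec, mul_assoc]
  simp only [twist, e]
  rw [← Equiv.sum_comp π]
  refine Finset.sum_congr rfl fun i _ => ?_
  rw [mono_mulVec hM, mono_mulVec hM, map_mul]
  have h1 := hσ (a i) (ha i)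
  linear_combination (((C : Matrix ι ι F) *ᵥ u) i * σ (((C : Matrix ι ι F) *ᵥ v) i)) * h1

lemma twist_unitary [Nonempty ι] {σ : F ≃+* F} (hne : σ ≠ RingEquiv.refl F) (hinv : ∀ a, σ (σ a) = a)
    (C : GL ι F) : IsUnitaryForm σ (twist σ C) := by
  have hex : ∀ v : ι → F, v ≠ 0 → ∃ i, ((C : Matrix ι ι F) *ᵥ v) i ≠ 0 := fun v hv => by
    by_contra h
    push Not at h
    apply hv
    have := inv_mulVec_mulVec C v
    rw [show (C : Matrix ι ι F) *ᵥ v = 0 from funext h, Matrix.mulVec_zero] at this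
    exact this.symm
  refine ⟨hne, hinv, fun x y v => ?_, fun c x v => ?_, fun v w => ?_, fun v hv => ?_⟩
  · simp only [twist, Matrix.mulVec_add, Pi.add_apply, add_mul, Finset.sum_add_distrib]
  · simp only [twist, Matrix.mulVec_smul, Pi.smul_apply, smul_eq_mul, mul_assoc, Finset.mul_sum]
  · simp only [twist, map_sum, map_mul, hinv]
    exact Finset.sum_congr rfl fun i _ => mul_comm _ _
  · obtain ⟨i, hi⟩ := hex v hv
    constructor
    · refine ⟨((C⁻¹ : GL ι F) : Matrix ι ι F) *ᵥ Pi.single i 1, ?_⟩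
      simp only [twist, mulVec_inv_mulVec]
      rw [Finset.sum_eq_single i] <;> simp +contextual [hi]
    · refine ⟨((C⁻¹ : GL ι F) : Matrix ι ι F) *ᵥ Pi.single i 1, ?_⟩
      simp only [twist, mulVec_inv_mulVec]
      rw [Finset.sum_eq_single i] <;> simp +contextual [hi]

/-- the sum of squares pulled back along `C` -/
def twistQ (C : GL ι F) (v : ι → F) : F := ∑ i, ((C : Matrix ι ι F) *ᵥ v) i ^ 2

lemma polar_twistQ (C : GL ι F) (u v : ι → F) :
    QuadraticMap.polar (twistQ C) u v = 2 * twist (RingEquiv.refl F) C u v := by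
  simp only [QuadraticMap.polar, twistQ, twist, Matrix.mulVec_add, Pi.add_apply, RingEquiv.refl_apply,
    Finset.mul_sum, ← Finset.sum_sub_distrib]
  exact Finset.sum_congr rfl fun i _ => by ring

lemma twistQ_nondegenerate (h2 : (2 : F) ≠ 0) (C : GL ι F) : IsNondegenerateQuadraticForm (twistQ C) := by
  refine ⟨fun c v => ?_, ⟨fun x y v => ?_, fun c x v => ?_, fun v x y => ?_, fun c v x => ?_⟩,
    fun v hv => ?_⟩
  · simp only [twistQ, Matrix.mulVec_smul, Pi.smul_apply, smul_eq_mul, mul_pow, Finset.mul_sum]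
  · simp only [polar_twistQ, twist, Matrix.mulVec_add, Pi.add_apply, add_mul, Finset.sum_add_distrib,
      mul_add]
  · simp only [polar_twistQ, twist, Matrix.mulVec_smul, Pi.smul_apply, smul_eq_mul, Finset.mul_sum]
    exact Finset.sum_congr rfl fun i _ => by ring
  · simp only [polar_twistQ, twist, Matrix.mulVec_add, Pi.add_apply, map_add, mul_add,
      Finset.sum_add_distrib]
  · simp only [polar_twistQ, twist, Matrix.mulVec_smul, Pi.smul_apply, smul_eq_mul, Finset.mul_sum,
      map_mul, RingEquiv.refl_apply]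
    exact Finset.sum_congr rfl fun i _ => by ring
  · obtain ⟨i, hi⟩ : ∃ i, ((C : Matrix ι ι F) *ᵥ v) i ≠ 0 := by
      by_contra h
      push Not at h
      apply hv
      have := inv_mulVec_mulVec C v
      rw [show (C : Matrix ι ι F) *ᵥ v = 0 from funext h, Matrix.mulVec_zero] at this
      exact this.symm
    constructor
    · refine ⟨((C⁻¹ : GL ι F) : Matrix ι ι F) *ᵥ Pi.single i 1, ?_⟩
      rw [polar_twistQ]
      simp only [twist, mulVec_inv_mulVec]
      rw [Finset.sum_eq_single i] <;> simp +contextual [hi, h2]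
    · refine ⟨((C⁻¹ : GL ι F) : Matrix ι ι F) *ᵥ Pi.single i 1, ?_⟩
      rw [polar_twistQ]
      simp only [twist, mulVec_inv_mulVec]
      rw [Finset.sum_eq_single i] <;> simp +contextual [hi, h2]

lemma sl_not_le_extraNormalizer (h2 : 2 ≤ Fintype.card ι) {R : Subgroup (GL ι F)} {ζ : F} {B : GL ι F}
    (he : Extra R ζ B) : ¬ specialLinear ι F ≤ subgroupNormalizer R := by
  intro hle
  obtain ⟨x, hx, d, hd, hxd⟩ := he.diag
  obtain ⟨i, j, hij⟩ := Fintype.exists_pair_of_one_lt_card (α := ι) (by omega)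
  set T : GL ι F := B * tv i j hij 1 * B⁻¹ with hT
  have h1 : T * x * T⁻¹ ∈ R :=
    (Subgroup.mem_normalizer_iff.1 (hle (conj_mem_sl B _ (tv_mem i j hij 1))) x).1 hx
  obtain ⟨π, a, -, hM⟩ := he.mono _ h1
  have e : B⁻¹ * (T * x * T⁻¹) * B = tv i j hij 1 * (B⁻¹ * x * B) * (tv i j hij 1)⁻¹ := by
    rw [hT]; group
  rw [e, Units.val_mul, Units.val_mul, hxd, tv_val, tv_inv_val] at hM
  have hjj : d j ≠ 0 := by
    intro h0
    have h1 := Matrix.isUnits_det_units (B⁻¹ * x * B)
    rw [hxd, Matrix.det_diagonal] at h1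
    exact h1.ne_zero (Finset.prod_eq_zero (Finset.mem_univ j) h0)
  have e1 := hM i j
  have e2 := hM j j
  simp [Matrix.transvection, add_mul, mul_add, hij, hij.symm] at e1 e2
  have h3 : j = π j := by
    by_contra h
    exact hjj (by simpa [h] using e2)
  have h4 : i ≠ π j := by rw [← h3]; exact hij
  simp [h4] at e1
  exact hij (hd (by linear_combination -e1))

/-- every maximal subgroup of the special linear group of odd prime degree is geometric or residual -/
theorem linear_cases [Fintype F] (hn : (Fintype.card ι).Prime) (h3 : 3 ≤ Fintype.card ι)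
    {H : Subgroup (GL ι F)} (hH : IsMaximalIn (specialLinear ι F) H) :
    (∃ W : Submodule F (ι → F), W ≠ ⊥ ∧ W ≠ ⊤ ∧ H = subspaceStabilizer W ⊓ specialLinear ι F) ∨
    (5 ≤ Fintype.card F ∧ ∃ D : Fin (Fintype.card ι) → Submodule F (ι → F), IsMDecomposition 1 D ∧
      H = decompositionStabilizer D ⊓ specialLinear ι F) ∨
    (∃ K : Subalgebra F (Matrix ι ι F), IsFieldSubalgebra (Fintype.card ι) K ∧
      H = subalgebraNormalizer K ⊓ specialLinear ι F) ∨
    (∃ (F₀ : Subfield F) (r : ℕ) (P : GL ι F), r.Prime ∧ Fintype.card F = Nat.card F₀ ^ r ∧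
      H = subfieldSubgroup F₀ P ⊓ specialLinear ι F) ∨
    (∃ (p e : ℕ) (R : Subgroup (GL ι F)), p.Prime ∧ CharP F p ∧ Fintype.card F = p ^ e ∧ Odd e ∧
      Fintype.card ι ∣ p ^ e - 1 ∧ (∀ d, 0 < d → d < e → ¬ Fintype.card ι ∣ p ^ d - 1) ∧
      IsLinearSymplecticTypeData (Fintype.card ι) R ∧ H = subgroupNormalizer R ⊓ specialLinear ι F) ∨
    (Odd (Fintype.card F) ∧ ∃ Q : (ι → F) → F, IsNondegenerateQuadraticForm Q ∧
      H = quadSimilarityGroup Q ⊓ specialLinear ι F) ∨
    (∃ (σ : F ≃+* F) (f : (ι → F) → (ι → F) → F), IsUnitaryForm σ f ∧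
      H = similarityGroup f ⊓ specialLinear ι F) ∨
    InLinearResidualClass H := by
  classical
  have : Nonempty ι := Fintype.card_pos_iff.1 (by omega)
  have hodd : Odd (Fintype.card ι) := hn.odd_of_ne_two (by omega)
  have hsl : H ≤ specialLinear ι F := hH.1.le
  -- reducible
  by_cases hirr : ¬ Irred H
  · left
    unfold Irred at hirr
    push Not at hirr
    obtain ⟨W, hW, hb, ht⟩ := hirr
    exact ⟨W, hb, ht, eq_of_maximal hH ((inv_iff_le_stabilizer _ _).1 hW)
      (sl_not_le_subspaceStabilizer W hb ht)⟩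
  push Not at hirr
  right
  have quadCase : ∀ Q : (ι → F) → F, IsNondegenerateQuadraticForm Q → H ≤ quadSimilarityGroup Q →
      Odd (Fintype.card F) ∧ ∃ Q : (ι → F) → F, IsNondegenerateQuadraticForm Q ∧
        H = quadSimilarityGroup Q ⊓ specialLinear ι F := fun Q hQ hle =>
    ⟨odd_card_of_two_ne_zero (two_ne_zero_of_quad hodd hQ), Q, hQ,
      eq_of_maximal hH hle (sl_not_le_quadSimilarityGroup h3 (two_ne_zero_of_quad hodd hQ) hQ)⟩
  have unitCase : ∀ (σ : F ≃+* F) (f : (ι → F) → (ι → F) → F), IsUnitaryForm σ f →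
      H ≤ similarityGroup f → ∃ (σ : F ≃+* F) (f : (ι → F) → (ι → F) → F), IsUnitaryForm σ f ∧
        H = similarityGroup f ⊓ specialLinear ι F := fun σ f hf hle =>
    ⟨σ, f, hf, eq_of_maximal hH hle (sl_not_le_similarityGroup h3 (sesq_of_unitary hf) hf.nondegenerate)⟩
  -- monomial
  by_cases hlines : ∃ D : Fin (Fintype.card ι) → Submodule F (ι → F),
      IsMDecomposition 1 D ∧ H ≤ decompositionStabilizer D
  · obtain ⟨D, hD, hle⟩ := hlines
    by_cases h5 : 5 ≤ Fintype.card F
    · exact Or.inl ⟨h5, D, hD, eq_of_maximal hH hle (sl_not_le_lineStabilizer D hD)⟩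
    obtain ⟨B, hB⟩ := lines_mono hD
    have hB' : ∀ h ∈ H, IsMono (Fintype.card F - 1) ((B⁻¹ * h * B⁻¹⁻¹ : GL ι F) : Matrix ι ι F) :=
      fun h hh => by rw [inv_inv]; exact hB h (hle hh)
    obtain h | h | h : Fintype.card F = 2 ∨ Fintype.card F = 3 ∨ Fintype.card F = 4 := by
      have := Fintype.one_lt_card (α := F)
      omega
    · exfalso
      let w : ι → F := (B : Matrix ι ι F) *ᵥ fun _ => 1
      have hinv : Inv H (Submodule.span F {w}) := by
        intro g hg x hx
        obtain ⟨c, rfl⟩ := Submodule.mem_span_singleton.1 hx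
        obtain ⟨π, a, ha, hM⟩ := hB g (hle hg)
        have h1 : ((B⁻¹ * g * B : GL ι F) : Matrix ι ι F) *ᵥ (fun _ => 1) = fun _ => 1 := by
          funext k
          have := mono_mulVec hM (fun _ => 1) (π.symm k)
          have ha' := ha (π.symm k)
          rw [h, show (2 : ℕ) - 1 = 1 from rfl, pow_one] at ha'
          simpa [ha'] using this
        have h2 : (g : Matrix ι ι F) *ᵥ w = w := by
          have := congrArg (fun u => (B : Matrix ι ι F) *ᵥ u) h1
          simpa [w, Matrix.mulVec_mulVec, mul_assoc] using this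
        rw [Matrix.mulVec_smul, h2]
        exact Submodule.smul_mem _ c (Submodule.mem_span_singleton_self w)
      have hw : w ≠ 0 := fun h0 => by
        have := inv_mulVec_mulVec B (fun _ => (1 : F))
        simp only [w] at h0
        rw [h0, Matrix.mulVec_zero] at this
        exact zero_ne_one (α := F) (congrFun this (Classical.arbitrary ι))
      rcases hirr _ hinv with h' | h'
      · exact hw (Submodule.span_singleton_eq_bot.1 h')
      · have := finrank_span_singleton (K := F) hw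
        rw [h', finrank_top, Module.finrank_pi] at this
        omega
    · have h2 : (2 : F) ≠ 0 := by
        intro h2
        have h1 := Nat.cast_card_eq_zero F
        rw [h] at h1
        push_cast at h1
        exact one_ne_zero (α := F) (by linear_combination h1 - h2)
      refine Or.inr (Or.inr (Or.inr (Or.inr (Or.inl (quadCase (twistQ B⁻¹)
        (twistQ_nondegenerate h2 _) fun g hg => ⟨1, fun v => ?_⟩)))))
      have := twist_fix (RingEquiv.refl F) (fun a ha => by
        rw [h, show (3 : ℕ) - 1 = 2 from rfl, sq] at ha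
        simpa using ha) (hB' g hg) v v
      simp only [twist, RingEquiv.refl_apply, ← sq] at this
      simpa [twistQ] using this
    · obtain ⟨p, hp⟩ := CharP.exists F
      obtain ⟨e, hpp, he⟩ := FiniteField.card F p
      have hp2 : p = 2 := by
        have : p ∣ 2 ^ 2 := by
          rw [show (2 : ℕ) ^ 2 = Fintype.card F by rw [h]; rfl, he]
          exact dvd_pow_self p e.pos.ne'
        exact (Nat.prime_dvd_prime_iff_eq hpp Nat.prime_two).1 (hpp.dvd_of_dvd_pow this)
      subst hp2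
      haveI : Fact (Nat.Prime 2) := ⟨hpp⟩
      let σ := frobeniusEquiv F 2
      have hσ : ∀ x, σ x = x ^ 2 := fun x => frobeniusEquiv_def F 2 x
      have hinv : ∀ x, σ (σ x) = x := fun x => by
        rw [hσ, hσ, ← pow_mul, show 2 * 2 = Fintype.card F by rw [h]]
        exact FiniteField.pow_card x
      have hne : σ ≠ RingEquiv.refl F := by
        intro hr
        obtain ⟨x, hx0, hx1⟩ : ∃ x : F, x ≠ 0 ∧ x ≠ 1 := by
          by_contra hcon
          push Not at hcon
          have h1 : Fintype.card F ≤ ({0, 1} : Finset F).card := by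
            rw [← Finset.card_univ]
            refine Finset.card_le_card fun x _ => ?_
            by_cases hx : x = 0 <;> simp [hx, hcon x]
          have := Finset.card_le_two (a := (0 : F)) (b := 1)
          omega
        have h1 : x ^ 2 = x := by rw [← hσ, hr, RingEquiv.refl_apply]
        exact hx1 (mul_left_cancel₀ hx0 (by rw [mul_one, ← sq, h1]))
      refine Or.inr (Or.inr (Or.inr (Or.inr (Or.inr (Or.inl (unitCase σ (twist σ B⁻¹)
        (twist_unitary hne hinv _) fun g hg => ⟨1, fun u v => ?_⟩))))))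
      rw [Units.val_one, one_mul]
      exact twist_fix σ (fun a ha => by
        rw [h, show (4 : ℕ) - 1 = 3 from rfl] at ha
        rw [hσ, ← ha]; ring) (hB' g hg) u v
  right
  -- extension field
  by_cases hfield : ∃ K : Subalgebra F (Matrix ι ι F),
      IsFieldSubalgebra (Fintype.card ι) K ∧ H ≤ subalgebraNormalizer K
  · obtain ⟨K, hK, hle⟩ := hfield
    exact Or.inl ⟨K, hK, eq_of_maximal hH hle
      (sl_not_le_subalgebraNormalizer h3 _ (by omega) K hK)⟩
  right
  have hprim : Prim H := by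
    intro N _ hNn hNc
    rcases alternative hn hirr hNn with h | h | ⟨-, h⟩
    · exact h
    · exact fun x hx => h.scalar_of_comm fun y hy => hNc x hx y hy
    · rcases h with ⟨D, hD, hle, -⟩ | ⟨K, hK, hle, -, -⟩
      · exact absurd ⟨D, hD, hle⟩ hlines
      · exact absurd ⟨K, hK, hle⟩ hfield
  have subCase : ∀ (φ : F ≃+* F) (r : ℕ) (P : GL ι F), r.Prime →
      Fintype.card F = Nat.card (fixedField φ) ^ r → H ≤ subfieldSubgroup (fixedField φ) P →
      ∃ (F₀ : Subfield F) (r : ℕ) (P : GL ι F), r.Prime ∧ Fintype.card F = Nat.card F₀ ^ r ∧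
        H = subfieldSubgroup F₀ P ⊓ specialLinear ι F := fun φ r P hr hc hle =>
    ⟨fixedField φ, r, P, hr, hc, eq_of_maximal hH hle
      (sl_not_le_subfieldSubgroup (by omega) (card_eq_pow_ne_top hr hc) P)⟩
  rcases structure_theorem hn hodd hsl hirr hprim with ⟨R, ζ, B, hR⟩ | ⟨P, hP⟩
  · obtain ⟨p, hp⟩ := CharP.exists F
    obtain ⟨e, hpp, he⟩ := FiniteField.card F p
    haveI := Fact.mk hpp
    have hprimζ := hR.extra.prim
    have hq : Fintype.card ι ∣ p ^ (e : ℕ) - 1 := by
      rw [← he]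
      exact hprimζ.dvd_of_pow_eq_one _ (FiniteField.pow_card_sub_one_eq_one _ (hprimζ.ne_zero hn.ne_zero))
    by_cases hmin : ∃ d, 0 < d ∧ d < (e : ℕ) ∧ Fintype.card ι ∣ p ^ d - 1
    · obtain ⟨d, hd0, hde, hdd⟩ := hmin
      left
      set g := Nat.gcd d e with hg
      have hgd : Fintype.card ι ∣ p ^ g - 1 := by
        rw [hg, ← Nat.pow_sub_one_gcd_pow_sub_one]
        exact Nat.dvd_gcd hdd hq
      have hge : g < (e : ℕ) := lt_of_le_of_lt (Nat.le_of_dvd hd0 (Nat.gcd_dvd_left d e)) hde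
      obtain ⟨φ, r, hr, hcard, hfix⟩ := exists_maximal_subfield (F := F) he (Nat.gcd_dvd_right d e) hge
      refine subCase φ r B⁻¹⁻¹ hr hcard (le_subfieldSubgroup hR.absIrred hR.normal fun s hs i j => ?_)
      apply hfix
      obtain ⟨π, a, ha, hM⟩ := hR.extra.mono s hs
      rw [inv_inv, hM]
      split_ifs
      · obtain ⟨k, hk⟩ := hgd
        have hpos : 1 ≤ p ^ g := Nat.one_le_pow _ _ hpp.pos
        conv_lhs => rw [show p ^ g = Fintype.card ι * k + 1 by omega, pow_add, pow_one, pow_mul, ha,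
          one_pow, one_mul]
      · exact zero_pow (pow_ne_zero _ hpp.ne_zero)
    push Not at hmin
    rcases Nat.even_or_odd (e : ℕ) with ⟨m, hm⟩ | he_odd
    · have hmpos : 0 < m := by have := e.pos; omega
      have h1 : Fintype.card ι ∣ p ^ m + 1 := by
        have h2 : p ^ (e : ℕ) - 1 = (p ^ m + 1) * (p ^ m - 1) := by
          rw [hm, ← Nat.sq_sub_sq, pow_add, sq, one_pow]
        rw [h2] at hq
        exact (hn.dvd_mul.1 hq).resolve_right (hmin m hmpos (by omega))
      let σ := iterateFrobeniusEquiv F p m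
      have hσ : ∀ x, σ x = x ^ p ^ m := fun x => iterateFrobeniusEquiv_def F p m x
      have hinv : ∀ x, σ (σ x) = x := fun x => by
        rw [hσ, hσ, ← pow_mul, ← pow_add, ← hm, ← he]
        exact FiniteField.pow_card x
      have hmul : ∀ a : F, a ^ Fintype.card ι = 1 → a * σ a = 1 := fun a ha => by
        obtain ⟨k, hk⟩ := h1
        rw [hσ, ← pow_succ', hk, pow_mul, ha, one_pow]
      have hne : σ ≠ RingEquiv.refl F := by
        intro hr
        have h2 := hmul ζ hprimζ.pow_eq_one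
        rw [hr, RingEquiv.refl_apply, ← sq] at h2
        have := Nat.le_of_dvd two_pos (hprimζ.dvd_of_pow_eq_one 2 h2)
        omega
      refine Or.inr (Or.inr (Or.inr (Or.inl (unitCase σ _ (twist_unitary hne hinv B⁻¹) ?_))))
      refine similar_of_normal hR.absIrred hR.normal (sesq_of_unitary (twist_unitary hne hinv B⁻¹))
        (twist_unitary hne hinv B⁻¹).nondegenerate ?_
      rintro _ ⟨s, hs, rfl⟩ u v
      exact twist_fix σ hmul (by rw [inv_inv]; exact hR.extra.mono s hs) u v
    · refine Or.inr (Or.inl ⟨p, e, R, hpp, hp, he, he_odd, hq, hmin, ?_, eq_of_maximal hH ?_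
        (sl_not_le_extraNormalizer (by omega) hR.extra)⟩)
      · refine ⟨hR.symp, hR.absIrred, p, e, ?_, ?_, Or.inl ⟨hodd, he_odd, hR.extra.center_eq, 1, le_rfl,
          by rw [hR.extra.card_eq]⟩⟩
        · intro h
          rw [h] at hq
          have hpos := Nat.one_le_pow (e : ℕ) p hpp.pos
          have h2 : p ∣ 1 := by
            have := Nat.dvd_sub (dvd_pow_self p e.pos.ne') hq
            rwa [show p ^ (e : ℕ) - (p ^ (e : ℕ) - 1) = 1 by omega] at this
          exact hpp.ne_one (Nat.dvd_one.1 h2)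
        · rw [hR.extra.center_eq]
          exact ⟨hpp, hp, he, hq, hmin⟩
      · intro h hh
        refine Subgroup.mem_normalizer_iff.2 fun x => ⟨hR.normal h hh x, fun hx => ?_⟩
        simpa [mul_assoc] using hR.normal h⁻¹ (H.inv_mem hh) _ hx
  · by_cases hreal : ∃ F₀ : Subfield F, F₀ ≠ ⊤ ∧ RealisableOver F₀ (matrixSet P)
    · obtain ⟨F₀, hne, C, hC⟩ := hreal
      obtain ⟨φ, r, hr, hcard, hfix⟩ := exists_maximal_above hne
      exact Or.inl (subCase φ r C⁻¹ hr hcard (le_subfieldSubgroup hP.absIrred hP.normal fun s hs i j =>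
        hfix _ (by simpa using hC _ ⟨s, hs, rfl⟩ i j)))
    by_cases hquad : ∃ Q : (ι → F) → F, IsNondegenerateQuadraticForm Q ∧ FixesQuadForm (matrixSet P) Q
    · obtain ⟨Q, hQ, hfix⟩ := hquad
      exact Or.inr (Or.inr (Or.inl (quadCase Q hQ
        (similar_of_normal_quad hodd hP.absIrred hP.normal hQ hfix))))
    by_cases hunit : ∃ (σ : F ≃+* F) (f : (ι → F) → (ι → F) → F),
        IsUnitaryForm σ f ∧ FixesForm (matrixSet P) f
    · obtain ⟨σ, f, hf, hfix⟩ := hunit
      exact Or.inr (Or.inr (Or.inr (Or.inl (unitCase σ f hf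
        (similar_of_normal hP.absIrred hP.normal (sesq_of_unitary hf) hf.nondegenerate hfix)))))
    push Not at hreal
    exact Or.inr (Or.inr (Or.inr (Or.inr ⟨P,
      ⟨hP.le, hP.normal, hP.perfect, hP.simple, hP.nonabelian, hP.centralizer_scalar, hP.absIrred, hreal⟩,
      hquad, fun ⟨f, hf, _⟩ => no_symplectic hodd ⟨f, hf⟩, hunit⟩)))

/-- the degree of the minimal field containing the `n`-th roots of unity divides `n - 1` -/
lemma exp_dvd {n p e : ℕ} (hn : n.Prime) (hp : p.Prime) (he : 0 < e) (hdvd : n ∣ p ^ e - 1)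
    (hmin : ∀ d, 0 < d → d < e → ¬ n ∣ p ^ d - 1) : e ∣ n - 1 := by
  haveI := Fact.mk hn
  have hpn : (p : ZMod n) ≠ 0 := by
    intro h0
    rw [ZMod.natCast_eq_zero_iff] at h0
    have h1 := Nat.dvd_sub (dvd_pow h0 he.ne') hdvd
    rw [show p ^ e - (p ^ e - 1) = 1 by have := Nat.one_le_pow e p hp.pos; omega] at h1
    exact hn.ne_one (Nat.dvd_one.1 h1)
  have hf : n ∣ p ^ (n - 1) - 1 := by
    rw [← ZMod.natCast_eq_zero_iff, Nat.cast_sub (Nat.one_le_pow _ _ hp.pos), Nat.cast_pow,
      ZMod.pow_card_sub_one_eq_one hpn, Nat.cast_one, sub_self]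
  have hg : n ∣ p ^ Nat.gcd e (n - 1) - 1 := by
    rw [← Nat.pow_sub_one_gcd_pow_sub_one]
    exact Nat.dvd_gcd hdvd hf
  have hgpos : 0 < Nat.gcd e (n - 1) := Nat.gcd_pos_of_pos_left _ he
  have hge : Nat.gcd e (n - 1) ≤ e := Nat.le_of_dvd he (Nat.gcd_dvd_left _ _)
  rcases hge.lt_or_eq with h | h
  · exact absurd hg (hmin _ hgpos h)
  · exact Nat.gcd_eq_left_iff_dvd.1 h

lemma isMDecomposition_cast {a b m : ℕ} (h : a = b) {D : Fin b → Submodule F (ι → F)}
    (hD : IsMDecomposition m D) : IsMDecomposition m (D ∘ Fin.cast h) := by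
  subst h
  simpa using hD

lemma decompositionStabilizer_cast {a b : ℕ} (h : a = b) (D : Fin b → Submodule F (ι → F)) :
    decompositionStabilizer (D ∘ Fin.cast h) = decompositionStabilizer D := by
  subst h
  rfl

end Cfsg.Agent.AschPrimeLinear
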