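/-
Aschbacher's theorem with a form, part 2: commutative algebras closed under adjoints give orthogonal
decompositions, pairs of totally singular subspaces, or extension fields.
-/
import Cfsg.Agent.Lib.AschFormBasic
import Cfsg.Agent.Lib.AschPrimeLinear

set_option autoImplicit false
set_option linter.unusedSectionVars false

namespace Cfsg.Agent.AschFormImprim

open scoped Matrix
open Cfsg Cfsg.Geo Cfsg.Agent.AschPrimeBasic Cfsg.Agent.AschPrimeForms Cfsg.Agent.AschGenAlgebra
  Cfsg.Agent.AschFormBasic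

variable {ι : Type} [Fintype ι] [DecidableEq ι] {F : Type*} [Field F] [Fintype F]

/-- a transitive family of orthogonal idempotents summing to one -/
structure IdemFamily (H : Subgroup (GL ι F)) {κ : Type*} [Fintype κ] (E : κ → Matrix ι ι F) : Prop where
  idem : ∀ a, E a * E a = E a
  orth : ∀ a b, a ≠ b → E a * E b = 0
  sum : ∑ a, E a = 1
  ne : ∀ a, E a ≠ 0
  perm : ∀ h ∈ H, ∀ a, ∃ b, conjAlg h (E a) = E b
  trans : ∀ a b, ∃ h ∈ H, conjAlg h (E a) = E b

/-- the subspaces attached to a family of idempotents -/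
theorem decomp_of_family {H : Subgroup (GL ι F)} {κ : Type*} [Fintype κ] {E : κ → Matrix ι ι F}
    (hE : IdemFamily H E) (h2 : 2 ≤ Fintype.card κ) :
    ∃ (m : ℕ) (D : Fin (Fintype.card κ) → Submodule F (ι → F)) (ord : Fin (Fintype.card κ) ≃ κ),
      IsMDecomposition m D ∧ H ≤ decompositionStabilizer D ∧
      (∀ i, D i = LinearMap.range (Matrix.toLin' (E (ord i)))) ∧
      ∀ i j, ∃ h ∈ H, (D i).map (Matrix.toLin' (h : Matrix ι ι F)) = D j := by
  classical
  let ord : Fin (Fintype.card κ) ≃ κ := (Fintype.equivFin κ).symm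
  let D : Fin (Fintype.card κ) → Submodule F (ι → F) := fun i => LinearMap.range (Matrix.toLin' (E (ord i)))
  have hinj : Function.Injective E := fun a b hab => by
    by_contra h
    refine hE.ne a ?_
    calc E a = E a * E b := by rw [← hab, hE.idem]
      _ = 0 := hE.orth a b h
  have hmap : ∀ h : GL ι F, ∀ i j, E (ord j) = conjAlg h (E (ord i)) →
      (D i).map (Matrix.toLin' (h : Matrix ι ι F)) = D j := by
    intro h i j hij
    have hsurj : LinearMap.range (Matrix.toLin' ((h⁻¹ : GL ι F) : Matrix ι ι F)) = ⊤ :=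
      LinearMap.range_eq_top.2 fun v => ⟨(h : Matrix ι ι F) *ᵥ v, by simp [Matrix.mulVec_mulVec]⟩
    simp only [D, ← LinearMap.range_comp, hij, conjAlg_apply, Matrix.toLin'_mul]
    rw [LinearMap.range_comp_of_range_eq_top _ hsurj]
  have htr : ∀ i j, ∃ h ∈ H, (D i).map (Matrix.toLin' (h : Matrix ι ι F)) = D j := by
    intro i j
    obtain ⟨h, hh, hhe⟩ := hE.trans (ord i) (ord j)
    exact ⟨h, hh, hmap h i j hhe.symm⟩
  have hstab : H ≤ decompositionStabilizer D := by
    intro h hh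
    choose σ hσ using hE.perm h hh
    have hσi : Function.Injective fun i => ord.symm (σ (ord i)) := fun a b hab => ord.injective (hinj
      ((conjAlg h).injective (by rw [hσ, hσ, ord.symm.injective hab])))
    refine ⟨Equiv.ofBijective _ ⟨hσi, Finite.surjective_of_injective hσi⟩, fun i => hmap h i _ ?_⟩
    show E (ord (ord.symm (σ (ord i)))) = _
    rw [Equiv.apply_symm_apply, hσ]
  have : Nonempty (Fin (Fintype.card κ)) := ⟨⟨0, by omega⟩⟩
  have i0 : Fin (Fintype.card κ) := Classical.arbitrary _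
  have hindep : iSupIndep D := by
    intro i
    rw [Submodule.disjoint_def]
    intro v hv hv'
    obtain ⟨u, rfl⟩ := hv
    have h1 : (⨆ (j) (_ : j ≠ i), D j) ≤ LinearMap.ker (Matrix.toLin' (E (ord i))) := by
      refine iSup₂_le fun j hj => ?_
      rintro _ ⟨x, rfl⟩
      simp [Matrix.mulVec_mulVec, hE.orth _ _ (fun h => hj (ord.injective h).symm)]
    have h2 := h1 hv'
    simp only [LinearMap.mem_ker, Matrix.toLin'_apply, Matrix.mulVec_mulVec, hE.idem] at h2
    simpa using h2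
  have htop : iSup D = ⊤ := by
    refine eq_top_iff.2 fun v _ => ?_
    rw [← Matrix.one_mulVec v, ← hE.sum, Matrix.sum_mulVec]
    refine Submodule.sum_mem _ fun a _ => Submodule.mem_iSup_of_mem (ord.symm a) ⟨v, ?_⟩
    simp
  have hfin : ∀ i, Module.finrank F (D i) = Module.finrank F (D i0) := by
    intro i
    obtain ⟨g, -, hga⟩ := htr i0 i
    rw [← hga]
    exact ((Submodule.equivMapOfInjective (Matrix.toLin' (g : Matrix ι ι F))
      (fun a b h => (act g).injective (by simpa using h)) (D i0)).finrank_eq).symm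
  refine ⟨Module.finrank F (D i0), D, ord, ⟨h2, ?_, hfin, hindep, htop⟩, hstab, fun i => rfl, htr⟩
  rw [Nat.pos_iff_ne_zero]
  intro h0
  have hb : D i0 = ⊥ := Submodule.finrank_eq_zero.1 h0
  simp only [D, LinearMap.range_eq_bot] at hb
  exact hE.ne _ (by simpa using congrArg LinearMap.toMatrix' hb)

/-- the minimal idempotents of a normalised commutative algebra -/
theorem exists_idem_family [Nonempty ι] {H : Subgroup (GL ι F)} (hH : Irred H)
    {C : Subalgebra F (Matrix ι ι F)} (hC : AlgNorm H C) (hcomm : ∀ x ∈ C, ∀ y ∈ C, x * y = y * x)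
    {e : Matrix ι ι F} (he : e ∈ C) (hee : e * e = e) (he0 : e ≠ 0) (he1 : e ≠ 1) :
    ∃ (O : Finset (Matrix ι ι F)), 2 ≤ O.card ∧ IdemFamily H (fun a : O => (a : Matrix ι ι F)) ∧
      (∀ a ∈ O, a ∈ C ∧ ∀ g ∈ C, g * g = g → g ≠ 0 → a * g = g → g = a) ∧
      ∀ b ∈ C, b * b = b → b ≠ 0 → (∀ g ∈ C, g * g = g → g ≠ 0 → b * g = g → g = b) → b ∈ O := by
  classical
  let IsMin : Matrix ι ι F → Prop := fun f => f ∈ C ∧ f * f = f ∧ f ≠ 0 ∧
    ∀ g ∈ C, g * g = g → g ≠ 0 → f * g = g → g = f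
  obtain ⟨f, ⟨hfC, hff, hf0, hef⟩, hfmin⟩ : ∃ f, (f ∈ C ∧ f * f = f ∧ f ≠ 0 ∧ e * f = f) ∧
      ∀ g, (g ∈ C ∧ g * g = g ∧ g ≠ 0 ∧ e * g = g) →
        {v | (f : Matrix ι ι F) *ᵥ v = v}.ncard ≤ {v | (g : Matrix ι ι F) *ᵥ v = v}.ncard := by
    obtain ⟨⟨f, hf⟩, hmin⟩ := @Finite.exists_min {f // f ∈ C ∧ f * f = f ∧ f ≠ 0 ∧ e * f = f} _ _
      ⟨⟨e, he, hee, he0, hee⟩⟩ _ (fun f => {v | (f.1 : Matrix ι ι F) *ᵥ v = v}.ncard)
    exact ⟨f, hf, fun g hg => hmin ⟨g, hg⟩⟩
  have hf1 : f ≠ 1 := fun h => he1 (by rw [h, mul_one] at hef; exact hef)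
  have hfM : IsMin f := by
    refine ⟨hfC, hff, hf0, fun g hg hgg hg0 hfg => ?_⟩
    have hsub : {v | g *ᵥ v = v} ⊆ {v : ι → F | f *ᵥ v = v} := fun v (hv : g *ᵥ v = v) => by
      show f *ᵥ v = v
      rw [← hv, Matrix.mulVec_mulVec, hfg]
    have heq := Set.eq_of_subset_of_ncard_le hsub
      (hfmin g ⟨hg, hgg, hg0, by rw [← hfg, ← mul_assoc, hef]⟩) (Set.toFinite _)
    apply Matrix.ext
    intro i j
    have h1 : f *ᵥ (f *ᵥ (Pi.single j 1 : ι → F)) = f *ᵥ Pi.single j 1 := by rw [Matrix.mulVec_mulVec, hff]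
    have h3 : f *ᵥ (Pi.single j 1 : ι → F) ∈ {v | f *ᵥ v = v} := h1
    rw [← heq] at h3
    have h2 : g *ᵥ (f *ᵥ (Pi.single j 1 : ι → F)) = f *ᵥ Pi.single j 1 := h3
    rw [Matrix.mulVec_mulVec, hcomm g hg f hfC, hfg] at h2
    simpa [Matrix.mulVec_single_one] using congrFun h2 i
  have hMorth : ∀ a b, IsMin a → IsMin b → a ≠ b → a * b = 0 := by
    intro a b ha hb hab
    by_contra h
    have hidem : (a * b) * (a * b) = a * b := by
      rw [mul_assoc, ← mul_assoc b, hcomm b hb.1 a ha.1, mul_assoc a b b, hb.2.1, ← mul_assoc, ha.2.1]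
    have h1 := ha.2.2.2 _ (C.mul_mem ha.1 hb.1) hidem h (by rw [← mul_assoc, ha.2.1])
    have h2 := hb.2.2.2 _ (C.mul_mem ha.1 hb.1) hidem h (by
      rw [← mul_assoc, hcomm b hb.1 a ha.1, mul_assoc, hb.2.1])
    exact hab (h1.symm.trans h2)
  have hMconj : ∀ h ∈ H, ∀ a, IsMin a → IsMin (conjAlg h a) := by
    intro h hh a ha
    refine ⟨hC h hh a ha.1, by rw [← map_mul, ha.2.1],
      fun h0 => ha.2.2.1 ((conjAlg h).injective (by rw [h0, map_zero])), fun g hg hgg hg0 hag => ?_⟩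
    have hback : conjAlg h (conjAlg h⁻¹ g) = g := by
      rw [← conjAlg_mul, mul_inv_cancel]; simp
    have h1 := ha.2.2.2 (conjAlg h⁻¹ g) (hC h⁻¹ (H.inv_mem hh) g hg) (by rw [← map_mul, hgg])
      (fun h0 => hg0 (by rw [← hback, h0, map_zero]))
      ((conjAlg h).injective (by rw [map_mul, hback]; exact hag))
    rw [← hback, h1]
  let O : Finset (Matrix ι ι F) := ((Set.toFinite (↑H : Set (GL ι F))).toFinset).image fun h => conjAlg h f
  have hO : ∀ a, a ∈ O ↔ ∃ h ∈ H, conjAlg h f = a := fun a => by simp [O]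
  have hOmin : ∀ a ∈ O, IsMin a := fun a ha => by
    obtain ⟨h, hh, rfl⟩ := (hO a).1 ha
    exact hMconj h hh f hfM
  have hmove : ∀ h ∈ H, ∀ a ∈ O, conjAlg h a ∈ O := fun h hh a ha => by
    obtain ⟨g, hg, rfl⟩ := (hO a).1 ha
    exact (hO _).2 ⟨h * g, H.mul_mem hh hg, conjAlg_mul h g f⟩
  set s := ∑ a ∈ O, a with hs
  have hfO : f ∈ O := (hO f).2 ⟨1, H.one_mem, by simp⟩
  have hsfix : ∀ h ∈ H, conjAlg h s = s := by
    intro h hh
    rw [hs, map_sum]
    refine Finset.sum_bij (fun a _ => conjAlg h a) (hmove h hh) (fun a _ b _ hab => (conjAlg h).injective hab)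
      (fun b hb => ⟨conjAlg h⁻¹ b, hmove _ (H.inv_mem hh) b hb, ?_⟩) (fun a _ => rfl)
    rw [← conjAlg_mul, mul_inv_cancel]
    simp
  have hsa : ∀ a ∈ O, s * a = a := by
    intro a ha
    rw [hs, Finset.sum_mul, Finset.sum_eq_single a (fun b hb hba => hMorth b a (hOmin b hb) (hOmin a ha) hba)
      (fun h => absurd ha h), (hOmin a ha).2.1]
  have hss : s * s = s := by
    nth_rw 2 [hs]
    rw [Finset.mul_sum, Finset.sum_congr rfl hsa]
  have hs1 : s = 1 := by
    have hinv : Inv H (LinearMap.range (Matrix.toLin' s)) := by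
      rintro g hg _ ⟨u, rfl⟩
      refine ⟨(g : Matrix ι ι F) *ᵥ u, ?_⟩
      have h2 : s * (g : Matrix ι ι F) = (g : Matrix ι ι F) * s := by
        conv_lhs => rw [← hsfix g hg]
        simp [mul_assoc]
      simp [Matrix.mulVec_mulVec, h2]
    have hne : LinearMap.range (Matrix.toLin' s) ≠ ⊥ := by
      rw [Ne, LinearMap.range_eq_bot]
      intro h0
      have hs0 : s = 0 := by simpa using congrArg LinearMap.toMatrix' h0
      have := hsa f hfO
      rw [hs0, zero_mul] at this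
      exact hf0 this.symm
    apply Matrix.ext
    intro a b
    obtain ⟨u, hu⟩ : (Pi.single b 1 : ι → F) ∈ LinearMap.range (Matrix.toLin' s) :=
      ((hH _ hinv).resolve_left hne).symm ▸ Submodule.mem_top
    rw [Matrix.toLin'_apply] at hu
    have h2 : s *ᵥ (Pi.single b 1 : ι → F) = Pi.single b 1 := by
      rw [← hu, Matrix.mulVec_mulVec, hss]
    simpa [Matrix.mulVec_single_one, Matrix.one_apply, Pi.single_apply] using congrFun h2 a
  refine ⟨O, ?_, ⟨fun a => (hOmin a a.2).2.1, fun a b hab => hMorth _ _ (hOmin a a.2) (hOmin b b.2)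
    fun h => hab (Subtype.ext h), ?_, fun a => (hOmin a a.2).2.2.1,
    fun h hh a => ⟨⟨_, hmove h hh a a.2⟩, rfl⟩, fun a b => ?_⟩, fun a ha => ⟨(hOmin a ha).1, (hOmin a ha).2.2.2⟩, fun b hbC hbb hb0 hbm => ?_⟩
  · by_contra hlt
    have h1 : O = {f} := (Finset.card_le_one_iff_subset_singleton.1 (by omega : O.card ≤ 1)).elim fun x hx => by
      have hxf : f = x := by simpa using hx hfO
      subst hxf
      exact Finset.Subset.antisymm hx (by simpa using hfO)
    rw [hs, h1, Finset.sum_singleton] at hs1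
    exact hf1 hs1
  · exact (Finset.sum_coe_sort O fun a => a).trans hs1
  · obtain ⟨g, hg, hga⟩ := (hO _).1 a.2
    obtain ⟨h, hh, hhb⟩ := (hO _).1 b.2
    refine ⟨h * g⁻¹, H.mul_mem hh (H.inv_mem hg), ?_⟩
    show conjAlg (h * g⁻¹) (a : Matrix ι ι F) = b
    rw [← hga, ← conjAlg_mul, inv_mul_cancel_right, hhb]
  · obtain ⟨a, haO, hab⟩ : ∃ a ∈ O, b * a ≠ 0 := by
      by_contra hall
      push Not at hall
      apply hb0
      rw [← mul_one b, ← hs1, hs, Finset.mul_sum, Finset.sum_eq_zero hall]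
    by_contra hbO
    exact hab (hMorth b a ⟨hbC, hbb, hb0, hbm⟩ (hOmin a haO) fun h => hbO (h ▸ haO))

/-- the outcomes of the imprimitive case -/
def ImprimOutcome (f : (ι → F) → (ι → F) → F) (H : Subgroup (GL ι F)) : Prop :=
  (∃ (t m : ℕ) (D : Fin t → Submodule F (ι → F)), IsNondegenerateMDecomposition f m D ∧
      H ≤ decompositionStabilizer D ∧ ∀ i j, ∃ h ∈ H, (D i).map (Matrix.toLin' (h : Matrix ι ι F)) = D j) ∨
  (∃ (m : ℕ) (D : Fin 2 → Submodule F (ι → F)), IsMDecomposition m D ∧ (∀ i, IsTotallySingularFor f (D i)) ∧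
      H ≤ decompositionStabilizer D ∧ 2 * m = Fintype.card ι)

lemma finrank_mDecomposition {t m : ℕ} {D : Fin t → Submodule F (ι → F)} (hD : IsMDecomposition m D) :
    t * m = Fintype.card ι := by
  classical
  have h1 := DirectSum.isInternal_submodule_of_iSupIndep_of_iSup_eq_top hD.indep hD.iSup_eq_top
  have h2 := h1.collectedBasis fun i => Module.finBasis F (D i)
  have := Module.finrank_eq_card_basis h2
  rw [Module.finrank_pi, Fintype.card_sigma] at this
  simp only [Fintype.card_fin, hD.finrank_eq, Finset.sum_const, Finset.card_univ, smul_eq_mul] at this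
  exact this.symm

/-- idempotents in a star-closed commutative algebra give a form-compatible decomposition -/
theorem imprim_cases [Nonempty ι] {σ : F ≃+* F} {ε : F} {f : (ι → F) → (ι → F) → F} (hf : FormData σ ε f)
    {H : Subgroup (GL ι F)} (hI : Isos H f) (hH : Irred H) {C : Subalgebra F (Matrix ι ι F)} (hC : AlgNorm H C)
    (hs : StarClosed σ (gramMatrix f) C) (hcomm : ∀ x ∈ C, ∀ y ∈ C, x * y = y * x)
    {e : Matrix ι ι F} (he : e ∈ C) (hee : e * e = e) (he0 : e ≠ 0) (he1 : e ≠ 1) :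
    ImprimOutcome f H := by
  classical
  obtain ⟨O, hcard, hfam, hOC, hall⟩ := exists_idem_family hH hC hcomm he hee he0 he1
  set G := gramMatrix f with hG
  set A := adj σ G with hA
  have hAA : ∀ x, A (A x) = x := adj_adj hf
  have hAmul : ∀ x y, A (x * y) = A y * A x := adj_mul hf
  have hA0 : A 0 = 0 := adj_zero G
  -- the adjoint permutes the minimal idempotents
  have hAO : ∀ a : O, A (a : Matrix ι ι F) ∈ O := by
    intro a
    refine hall _ (hs _ (hOC a a.2).1) (by rw [← hAmul, hfam.idem a]) (fun h => hfam.ne a ?_) fun g hg hgg hg0 hbg => ?_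
    · rw [← hAA (a : Matrix ι ι F), h, hA0]
    · have h1 : (a : Matrix ι ι F) * A g = A g := by
        conv_rhs => rw [← hbg]
        rw [hAmul, hAA, hcomm _ (hs _ hg) _ (hOC a a.2).1]
      have h2 := (hOC a a.2).2 (A g) (hs g hg) (by rw [← hAmul, hgg]) (fun h => hg0 (by rw [← hAA g, h, hA0])) h1
      rw [← hAA g, h2]
  have hAconj : ∀ h ∈ H, ∀ x, A (conjAlg h x) = conjAlg h (A x) := fun h hh x => adj_conj hf (hI h hh) x
  let π : O → O := fun a => ⟨A (a : Matrix ι ι F), hAO a⟩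
  have hππ : ∀ a, π (π a) = a := fun a => Subtype.ext (hAA _)
  -- orthogonality of ranges
  have horth : ∀ (x y : Matrix ι ι F) (u v : ι → F), A x * y = 0 → f (x *ᵥ u) (y *ᵥ v) = 0 := by
    intro x y u v hxy
    rw [adjoint_apply hf, Matrix.mulVec_mulVec, ← hA, hxy, Matrix.zero_mulVec]
    simpa using hf.sesq.smul_right 0 u 0
  -- orthogonal decomposition from a self-adjoint family
  have mk : ∀ {κ : Type _} [Fintype κ] {E : κ → Matrix ι ι F}, IdemFamily H E → 2 ≤ Fintype.card κ →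
      (∀ a, A (E a) = E a) → ImprimOutcome f H := by
    intro κ _ E hE h2 hsa
    obtain ⟨m, D, ord, hD, hle, hDr, htr⟩ := decomp_of_family hE h2
    refine Or.inl ⟨_, m, D, ⟨hD, fun i w hw hw0 => ?_, fun i j hij u hu v hv => ?_⟩, hle, htr⟩
    · rw [hDr] at hw
      obtain ⟨w', rfl⟩ := hw
      rw [Matrix.toLin'_apply] at hw0 ⊢
      obtain ⟨⟨x, hx⟩, ⟨y, hy⟩⟩ := hf.nd _ hw0
      have hfix : E (ord i) *ᵥ (E (ord i) *ᵥ w') = E (ord i) *ᵥ w' := by
        rw [Matrix.mulVec_mulVec, hE.idem]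
      refine ⟨⟨E (ord i) *ᵥ x, ?_, fun h => hx ?_⟩, E (ord i) *ᵥ y, ?_, fun h => hy ?_⟩
      · rw [hDr]; exact ⟨x, by simp⟩
      · rw [adjoint_apply hf, ← hA, hsa, hfix] at h
        exact h
      · rw [hDr]; exact ⟨y, by simp⟩
      · rw [← hfix, adjoint_apply hf, ← hA, hsa]
        exact h
    · rw [hDr] at hu hv
      obtain ⟨u', rfl⟩ := hu
      obtain ⟨v', rfl⟩ := hv
      rw [Matrix.toLin'_apply, Matrix.toLin'_apply]
      exact horth _ _ _ _ (by rw [hsa, hE.orth _ _ fun h => hij (ord.injective h)])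
  have hcardO : Fintype.card O = O.card := Fintype.card_coe O
  by_cases hfix : ∃ a, π a = a
  · obtain ⟨a, ha⟩ := hfix
    refine mk hfam (by omega) fun b => ?_
    obtain ⟨h, hh, hab⟩ := hfam.trans a b
    rw [← hab, hAconj h hh]
    exact congrArg _ (congrArg Subtype.val ha)
  push Not at hfix
  let E : O → Matrix ι ι F := fun a => (a : Matrix ι ι F) + (π a : Matrix ι ι F)
  let P : Finset (Matrix ι ι F) := Finset.univ.image E
  by_cases hP : 2 ≤ P.card
  · refine mk (κ := P) (E := fun p => (p : Matrix ι ι F)) ?_ (by rw [Fintype.card_coe]; exact hP) fun p => ?_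
    swap
    · obtain ⟨a, -, ha⟩ := Finset.mem_image.1 p.2
      rw [← ha]
      show A ((a : Matrix ι ι F) + A (a : Matrix ι ι F)) = (a : Matrix ι ι F) + A (a : Matrix ι ι F)
      rw [hA, adj_add, ← hA, hAA, add_comm]
    have hπE : ∀ a, E (π a) = E a := fun a => by simp only [E, hππ, add_comm]
    have hEmul : ∀ a c, c ≠ a → c ≠ π a → E a * (c : Matrix ι ι F) = 0 := fun a c h1 h2 => by
      show ((a : Matrix ι ι F) + (π a : Matrix ι ι F)) * _ = 0
      rw [add_mul, hfam.orth _ _ h1.symm, hfam.orth _ _ h2.symm, add_zero]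
    have hEa : ∀ a, E a * (a : Matrix ι ι F) = a := fun a => by
      show ((a : Matrix ι ι F) + (π a : Matrix ι ι F)) * _ = _
      rw [add_mul, hfam.idem, hfam.orth _ _ (hfix a), add_zero]
    have hEperm : ∀ h ∈ H, ∀ a b : O, conjAlg h (a : Matrix ι ι F) = b → conjAlg h (E a) = E b := by
      intro h hh a b hab
      show conjAlg h ((a : Matrix ι ι F) + A (a : Matrix ι ι F)) = (b : Matrix ι ι F) + A (b : Matrix ι ι F)
      rw [map_add, ← hAconj h hh, hab]
    refine ⟨?_, ?_, ?_, ?_, ?_, ?_⟩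
    · intro p
      obtain ⟨a, -, ha⟩ := Finset.mem_image.1 p.2
      rw [← ha]
      nth_rw 2 [show E a = (a : Matrix ι ι F) + (π a : Matrix ι ι F) from rfl]
      rw [mul_add, hEa, show E a * (π a : Matrix ι ι F) = π a by rw [← hπE]; exact hEa _]
    · intro p r hpr
      obtain ⟨a, -, ha⟩ := Finset.mem_image.1 p.2
      obtain ⟨b, -, hb⟩ := Finset.mem_image.1 r.2
      have hne : ∀ c, E c = E b → c ≠ a ∧ c ≠ π a := fun c hc =>
        ⟨fun h => hpr (Subtype.ext (by rw [← ha, ← hb, ← hc, h])),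
          fun h => hpr (Subtype.ext (by rw [← ha, ← hb, ← hc, h, hπE]))⟩
      rw [← ha, ← hb, show E b = (b : Matrix ι ι F) + (π b : Matrix ι ι F) from rfl, mul_add,
        hEmul a b (hne b rfl).1 (hne b rfl).2, hEmul a (π b) (hne _ (hπE b)).1 (hne _ (hπE b)).2, add_zero]
    · rw [Finset.sum_coe_sort P (fun p => p), ← hfam.sum]
      -- every idempotent occurs in exactly one block
      have key : ∀ a : O, (∑ p ∈ P, p) * (a : Matrix ι ι F) = a := by
        intro a
        rw [Finset.sum_mul, Finset.sum_eq_single (E a) (fun p hp hpa => ?_)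
          (fun h => absurd (Finset.mem_image.2 ⟨a, Finset.mem_univ _, rfl⟩) h), hEa]
        obtain ⟨b, -, rfl⟩ := Finset.mem_image.1 hp
        exact hEmul b a (fun h => hpa (by rw [h])) fun h => hpa (by rw [h, hπE])
      calc (∑ p ∈ P, p) = (∑ p ∈ P, p) * ∑ a : O, (a : Matrix ι ι F) := by rw [hfam.sum, mul_one]
        _ = _ := by rw [Finset.mul_sum]; exact Finset.sum_congr rfl fun a _ => key a
    · intro p h0
      obtain ⟨a, -, ha⟩ := Finset.mem_image.1 p.2
      refine hfam.ne a ?_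
      rw [← hEa, ha, h0, zero_mul]
    · intro h hh p
      obtain ⟨a, -, ha⟩ := Finset.mem_image.1 p.2
      obtain ⟨b, hb⟩ := hfam.perm h hh a
      exact ⟨⟨E b, Finset.mem_image.2 ⟨b, Finset.mem_univ _, rfl⟩⟩, by rw [← ha]; exact hEperm h hh a b hb⟩
    · intro p r
      obtain ⟨a, -, ha⟩ := Finset.mem_image.1 p.2
      obtain ⟨b, -, hb⟩ := Finset.mem_image.1 r.2
      obtain ⟨h, hh, hab⟩ := hfam.trans a b
      exact ⟨h, hh, by rw [← ha, ← hb]; exact hEperm h hh a b hab⟩
  -- two totally singular halves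
  right
  obtain ⟨m, D, ord, hD, hle, hDr, -⟩ := decomp_of_family hfam (by omega)
  have hsing : ∀ i, IsTotallySingularFor f (D i) := by
    intro i u hu v hv
    rw [hDr] at hu hv
    obtain ⟨u', rfl⟩ := hu
    obtain ⟨v', rfl⟩ := hv
    rw [Matrix.toLin'_apply, Matrix.toLin'_apply]
    exact horth _ _ _ _ (hfam.orth (π (ord i)) (ord i) (hfix _))
  have h2 : Fintype.card O = 2 := by
    by_contra hne
    apply hP
    obtain ⟨a⟩ : Nonempty O := Fintype.card_pos_iff.1 (by omega)
    obtain ⟨c, hc⟩ : ∃ c, c ∉ ({a, π a} : Finset O) := by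
      by_contra hn
      push Not at hn
      have := (Finset.card_le_card (fun x _ => hn x : Finset.univ ⊆ ({a, π a} : Finset O))).trans Finset.card_le_two
      rw [Finset.card_univ] at this
      omega
    simp only [Finset.mem_insert, Finset.mem_singleton, not_or] at hc
    refine Finset.one_lt_card.2 ⟨E a, Finset.mem_image.2 ⟨a, Finset.mem_univ _, rfl⟩,
      E c, Finset.mem_image.2 ⟨c, Finset.mem_univ _, rfl⟩, fun h => hfam.ne c ?_⟩
    have h1 : E c * (c : Matrix ι ι F) = c := by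
      show ((c : Matrix ι ι F) + (π c : Matrix ι ι F)) * _ = _
      rw [add_mul, hfam.idem, hfam.orth _ _ (hfix c), add_zero]
    rw [← h, show E a = (a : Matrix ι ι F) + (π a : Matrix ι ι F) from rfl, add_mul,
      hfam.orth _ _ (Ne.symm hc.1), hfam.orth _ _ (Ne.symm hc.2), add_zero] at h1
    exact h1.symm
  refine ⟨m, fun i => D (Fin.cast h2.symm i), AschPrimeLinear.isMDecomposition_cast h2.symm hD,
    fun i => hsing _, ?_, ?_⟩
  · show H ≤ decompositionStabilizer (D ∘ Fin.cast h2.symm)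
    rw [AschPrimeLinear.decompositionStabilizer_cast]
    exact hle
  · rw [← finrank_mDecomposition hD, h2]

end Cfsg.Agent.AschFormImprim
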