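/-
Aschbacher's theorem with a form, part 4: forms in coordinates and tensor products of forms.
-/
import Cfsg.Agent.Lib.AschFormBasic
import Cfsg.Agent.Lib.AschGenTensor

set_option autoImplicit false
set_option linter.unusedSectionVars false

namespace Cfsg.Agent.AschFormTensor

open scoped Matrix Kronecker
open Cfsg Cfsg.Geo Cfsg.Agent.AschPrimeBasic Cfsg.Agent.AschPrimeForms Cfsg.Agent.AschGenAlgebra
  Cfsg.Agent.AschGenTensor Cfsg.Agent.AschFormBasic

variable {ι : Type} [Fintype ι] [DecidableEq ι] {F : Type*} [Field F]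
variable {κ : Type} [Fintype κ] [DecidableEq κ]

/-- the Gram matrix of `f` in the coordinates given by `e` and `P` -/
noncomputable def gramP (σ : F ≃+* F) (f : (ι → F) → (ι → F) → F) (e : ι ≃ κ) (P : GL ι F) : Matrix κ κ F :=
  Matrix.of fun a b =>
    ((P : Matrix ι ι F)ᵀ * gramMatrix f * (P : Matrix ι ι F).map σ) (e.symm a) (e.symm b)

lemma pull_gramP (σ : F ≃+* F) (f : (ι → F) → (ι → F) → F) (e : ι ≃ κ) (P : GL ι F) :
    pull e (gramP σ f e P) = (P : Matrix ι ι F)ᵀ * gramMatrix f * (P : Matrix ι ι F).map σ := by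
  ext a b
  simp [pull_apply, gramP]

lemma pull_map (σ : F ≃+* F) (e : ι ≃ κ) (M : Matrix κ κ F) : (pull e M).map σ = pull e (M.map σ) := rfl

lemma pull_transpose (e : ι ≃ κ) (M : Matrix κ κ F) : (pull e M)ᵀ = pull e Mᵀ := rfl

lemma pull_det (e : ι ≃ κ) (M : Matrix κ κ F) : (pull e M).det = M.det :=
  Matrix.det_submatrix_equiv_self e M

lemma gramP_det {σ : F ≃+* F} {ε : F} {f : (ι → F) → (ι → F) → F} (hf : FormData σ ε f) (e : ι ≃ κ)
    (P : GL ι F) : IsUnit (gramP σ f e P).det := by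
  rw [← pull_det e, pull_gramP, Matrix.det_mul, Matrix.det_mul, Matrix.det_transpose]
  exact ((Matrix.isUnits_det_units P).mul hf.det).mul (Matrix.isUnits_det_units (glMap σ P))

lemma gramP_symm {σ : F ≃+* F} {ε : F} {f : (ι → F) → (ι → F) → F} (hf : FormData σ ε f) (e : ι ≃ κ)
    (P : GL ι F) : (gramP σ f e P)ᵀ.map σ = σ ε • gramP σ f e P := by
  apply pull_injective (F := F) e
  rw [map_smul, ← pull_map, ← pull_transpose, pull_gramP, Matrix.transpose_mul, Matrix.transpose_mul,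
    Matrix.transpose_transpose, ← Matrix.transpose_map, map_mul_map, map_mul_map, map_map_invol hf.invol,
    ← mul_assoc, hf.gram_symm', Matrix.mul_smul, Matrix.smul_mul]

lemma formOfGram_dot (σ : F → F) (G : Matrix κ κ F) (x y : κ → F) :
    formOfGram σ G x y = x ⬝ᵥ (G *ᵥ fun b => σ (y b)) := by
  simp [formOfGram, dotProduct, Matrix.mulVec, Finset.mul_sum, mul_assoc]

/-- the form in coordinates -/
lemma form_coords {σ : F ≃+* F} {ε : F} {f : (ι → F) → (ι → F) → F} (hf : FormData σ ε f) (e : ι ≃ κ)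
    (P : GL ι F) (x y : κ → F) :
    f ((P : Matrix ι ι F) *ᵥ (x ∘ e)) ((P : Matrix ι ι F) *ᵥ (y ∘ e)) = formOfGram σ (gramP σ f e P) x y := by
  rw [hf.sesq.transform, formOfGram_dot, ← pull_gramP σ f e P]
  simp only [dotProduct, Matrix.mulVec, pull_apply, Function.comp_apply]
  refine Fintype.sum_equiv e _ _ fun a => congrArg _ (Fintype.sum_equiv e _ _ fun b => rfl)

/-- adjoints in coordinates -/
lemma adj_coords {σ : F ≃+* F} {ε : F} {f : (ι → F) → (ι → F) → F} (hf : FormData σ ε f) (e : ι ≃ κ)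
    (P : GL ι F) {W Z : Matrix κ κ F}
    (h : adj σ (gramMatrix f) ((P : Matrix ι ι F) * pull e W * ((P⁻¹ : GL ι F) : Matrix ι ι F)) =
      (P : Matrix ι ι F) * pull e Z * ((P⁻¹ : GL ι F) : Matrix ι ι F)) :
    Wᵀ * gramP σ f e P = gramP σ f e P * Z.map σ := by
  apply pull_injective (F := F) e
  rw [map_mul, map_mul, pull_gramP, ← pull_transpose, ← pull_map]
  set G := gramMatrix f with hG
  have h1 := congrArg (fun M : Matrix ι ι F => G * M.map σ) h
  simp only [adj, map_map_invol hf.invol, map_mul_map, Matrix.transpose_mul, mul_assoc] at h1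
  rw [Matrix.mul_nonsing_inv_cancel_left _ _ hf.det] at h1
  have hP : (P : Matrix ι ι F)ᵀ * ((P⁻¹ : GL ι F) : Matrix ι ι F)ᵀ = 1 := by
    rw [← Matrix.transpose_mul, Units.inv_mul, Matrix.transpose_one]
  have hPσ : ((P⁻¹ : GL ι F) : Matrix ι ι F).map σ * (P : Matrix ι ι F).map σ = 1 := by
    rw [← map_mul_map, Units.inv_mul, map_one_mat]
  have h2 := congrArg (fun M => (P : Matrix ι ι F)ᵀ * M * (P : Matrix ι ι F).map σ) h1
  simp only [mul_assoc] at h2
  rw [hPσ, mul_one, ← mul_assoc ((P : Matrix ι ι F)ᵀ) (((P⁻¹ : GL ι F) : Matrix ι ι F)ᵀ), hP, one_mul] at h2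
  simpa only [mul_assoc] using h2

/-- isometries in coordinates -/
lemma iso_coords {σ : F ≃+* F} {ε : F} {f : (ι → F) → (ι → F) → F} (hf : FormData σ ε f) (e : ι ≃ κ)
    (P : GL ι F) {g : GL ι F} (hg : ∀ u v, f ((g : Matrix ι ι F) *ᵥ u) ((g : Matrix ι ι F) *ᵥ v) = f u v)
    {T : Matrix κ κ F} (hT : (g : Matrix ι ι F) = (P : Matrix ι ι F) * pull e T * ((P⁻¹ : GL ι F) : Matrix ι ι F)) :
    Tᵀ * gramP σ f e P * T.map σ = gramP σ f e P := by
  apply pull_injective (F := F) e
  rw [map_mul, map_mul, ← pull_transpose, ← pull_map, pull_gramP]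
  have h1 := iso_gram hf hg
  rw [hT, Matrix.transpose_mul, Matrix.transpose_mul, map_mul_map, map_mul_map] at h1
  have h2 := congrArg (fun M => (P : Matrix ι ι F)ᵀ * M * (P : Matrix ι ι F).map σ) h1
  have hP : (P : Matrix ι ι F)ᵀ * ((P⁻¹ : GL ι F) : Matrix ι ι F)ᵀ = 1 := by
    rw [← Matrix.transpose_mul, Units.inv_mul, Matrix.transpose_one]
  have hPσ : ((P⁻¹ : GL ι F) : Matrix ι ι F).map σ * (P : Matrix ι ι F).map σ = 1 := by
    rw [← map_mul_map, Units.inv_mul, map_one_mat]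
  simp only [mul_assoc] at h2
  rw [hPσ, mul_one, ← mul_assoc ((P : Matrix ι ι F)ᵀ) (((P⁻¹ : GL ι F) : Matrix ι ι F)ᵀ), hP, one_mul] at h2
  simpa only [mul_assoc] using h2

/-! ### Kronecker products -/

lemma kron_map (σ : F ≃+* F) {μ : Type} (A : Matrix κ κ F) (B : Matrix μ μ F) :
    (A ⊗ₖ B).map σ = A.map σ ⊗ₖ B.map σ := by
  ext p q
  simp

lemma kron_factor {μ : Type} [Fintype μ] [DecidableEq μ] {A A' : Matrix κ κ F} {B B' : Matrix μ μ F}
    (h : A ⊗ₖ B = A' ⊗ₖ B') (hA : A' ≠ 0) (hB : B' ≠ 0) :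
    ∃ c : F, c ≠ 0 ∧ A = c • A' ∧ B = c⁻¹ • B' := by
  obtain ⟨i, j, hij⟩ : ∃ i j, A' i j ≠ 0 := by
    by_contra hn; push Not at hn; exact hA (Matrix.ext hn)
  obtain ⟨k, l, hkl⟩ : ∃ k l, B' k l ≠ 0 := by
    by_contra hn; push Not at hn; exact hB (Matrix.ext hn)
  have he : ∀ a b c d, A a b * B c d = A' a b * B' c d := fun a b c d => congrFun (congrFun h (a, c)) (b, d)
  have h0 : A i j * B k l ≠ 0 := by rw [he]; exact mul_ne_zero hij hkl
  refine ⟨B' k l / B k l, div_ne_zero hkl (right_ne_zero_of_mul h0), ?_, ?_⟩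
  · ext a b
    rw [Matrix.smul_apply, smul_eq_mul, div_mul_eq_mul_div, eq_div_iff (right_ne_zero_of_mul h0), he]
    ring
  · ext c d
    rw [Matrix.smul_apply, smul_eq_mul, inv_div, div_mul_eq_mul_div, eq_div_iff hkl]
    have e1 := he i j c d
    have e2 := he i j k l
    apply mul_left_cancel₀ (left_ne_zero_of_mul h0)
    linear_combination B' k l * e1 - B' c d * e2

lemma sym_scalar {σ : F ≃+* F} (hσ : ∀ a, σ (σ a) = a) {A : Matrix κ κ F} (hA : A ≠ 0) {c : F}
    (h : Aᵀ.map σ = c • A) : c * σ c = 1 := by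
  obtain ⟨i, j, hij⟩ : ∃ i j, A i j ≠ 0 := by
    by_contra hn; push Not at hn; exact hA (Matrix.ext hn)
  have h1 : σ (A i j) = c * A j i := congrFun (congrFun h j) i
  have h2 : σ (A j i) = c * A i j := congrFun (congrFun h i) j
  have h3 := congrArg σ h1
  rw [hσ, map_mul, h2] at h3
  apply mul_right_cancel₀ hij
  linear_combination -h3

/-- the automorphism attached to the adjoint on a star-closed copy of a matrix algebra -/
theorem exists_adj_inner {σ : F ≃+* F} {ε : F} {f : (ι → F) → (ι → F) → F} (hf : FormData σ ε f)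
    {C : Subalgebra F (Matrix ι ι F)} (hC : StarClosed σ (gramMatrix f) C)
    (φ : Matrix κ κ F ≃ₐ[F] C) :
    ∃ b : GL κ F, ∀ X : Matrix κ κ F, adj σ (gramMatrix f) (φ (Xᵀ.map σ) : Matrix ι ι F) =
      (φ (((b : Matrix κ κ F) * X * ((b⁻¹ : GL κ F) : Matrix κ κ F))) : Matrix ι ι F) := by
  set G := gramMatrix f
  let τ : Matrix κ κ F →ₐ[F] Matrix κ κ F :=
    AlgHom.ofLinearMap
      { toFun := fun X => φ.symm ⟨adj σ G (φ (Xᵀ.map σ) : Matrix ι ι F), hC _ (φ _).2⟩
        map_add' := fun X Y => by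
          rw [← map_add φ.symm]
          refine congrArg φ.symm (Subtype.ext ?_)
          show _ = adj σ G _ + adj σ G _
          rw [← adj_add, ← Subalgebra.coe_add, ← map_add φ, Matrix.transpose_add, Matrix.map_add σ (map_add σ)]
        map_smul' := fun c X => by
          rw [RingHom.id_apply, ← map_smul φ.symm]
          refine congrArg φ.symm (Subtype.ext ?_)
          show adj σ G (φ ((c • X)ᵀ.map σ) : Matrix ι ι F) = c • adj σ G _
          rw [Matrix.transpose_smul, map_smul_mat, map_smul φ, Subalgebra.coe_smul, adj_smul, hf.invol] }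
      (by
        refine φ.symm_apply_eq.2 (Subtype.ext ?_)
        show adj σ G (φ ((1 : Matrix κ κ F)ᵀ.map σ) : Matrix ι ι F) = _
        rw [Matrix.transpose_one, map_one_mat, map_one φ, OneMemClass.coe_one, adj_one hf])
      (fun X Y => by
        simp only [LinearMap.coe_mk, AddHom.coe_mk]
        rw [← map_mul φ.symm]
        refine congrArg φ.symm (Subtype.ext ?_)
        show adj σ G _ = adj σ G _ * adj σ G _
        rw [← adj_mul hf, ← Subalgebra.coe_mul, ← map_mul φ, ← map_mul_map, ← Matrix.transpose_mul])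
  have hinj : Function.Injective τ := by
    intro X Y h
    have h1 : adj σ G (φ (Xᵀ.map σ) : Matrix ι ι F) = adj σ G (φ (Yᵀ.map σ) : Matrix ι ι F) :=
      congrArg Subtype.val (φ.symm.injective h)
    have h2 := congrArg (adj σ G) h1
    rw [adj_adj hf, adj_adj hf] at h2
    have h3 := congrArg (fun M : Matrix κ κ F => (M.map σ)ᵀ) (φ.injective (Subtype.ext h2))
    simpa only [map_map_invol hf.invol, Matrix.transpose_transpose] using h3
  have hbij : Function.Bijective τ :=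
    ⟨hinj, LinearMap.surjective_of_injective (f := τ.toLinearMap) hinj⟩
  obtain ⟨b, hb⟩ := exists_inner (AlgEquiv.ofBijective τ hbij)
  refine ⟨b, fun X => ?_⟩
  rw [← hb]
  show _ = ((φ (φ.symm _)) : Matrix ι ι F)
  rw [AlgEquiv.apply_symm_apply]

/-- a star-closed tensor factor splits the form -/
theorem tensor_gram {σ : F ≃+* F} {ε : F} {f : (ι → F) → (ι → F) → F} (hf : FormData σ ε f)
    {C : Subalgebra F (Matrix ι ι F)} (hC : StarClosed σ (gramMatrix f) C) {k m : ℕ} (hk : 0 < k) (hm : 0 < m)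
    (φ : Matrix (Fin k) (Fin k) F ≃ₐ[F] C) (e : ι ≃ Fin k × Fin m) (P : GL ι F)
    (hP : ∀ X, (φ X : Matrix ι ι F) = (P : Matrix ι ι F) * pull e (X ⊗ₖ (1 : Matrix (Fin m) (Fin m) F)) *
      ((P⁻¹ : GL ι F) : Matrix ι ι F)) :
    ∃ (G₁ : Matrix (Fin k) (Fin k) F) (G₂ : Matrix (Fin m) (Fin m) F) (a b : F),
      gramP σ f e P = G₁ ⊗ₖ G₂ ∧ IsUnit G₁.det ∧ IsUnit G₂.det ∧ G₁ᵀ.map σ = a • G₁ ∧ G₂ᵀ.map σ = b • G₂ ∧
      a * σ a = 1 ∧ b * σ b = 1 ∧ a * b = σ ε := by
  haveI : Nonempty (Fin k) := ⟨⟨0, hk⟩⟩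
  obtain ⟨a₀, ha₀⟩ := exists_adj_inner hf hC φ
  set Gt := gramP σ f e P with hGt
  let a : Matrix (Fin k) (Fin k) F := (a₀ : Matrix (Fin k) (Fin k) F).map σ
  let a' : Matrix (Fin k) (Fin k) F := ((a₀⁻¹ : GL (Fin k) F) : Matrix (Fin k) (Fin k) F).map σ
  have haa : a * a' = 1 := by rw [← map_mul_map, Units.mul_inv, map_one_mat]
  have haa' : a' * a = 1 := by rw [← map_mul_map, Units.inv_mul, map_one_mat]
  have hrel : ∀ Y : Matrix (Fin k) (Fin k) F,
      (Y ⊗ₖ (1 : Matrix (Fin m) (Fin m) F)) * Gt = Gt * ((a * Y * a') ⊗ₖ (1 : Matrix (Fin m) (Fin m) F)) := by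
    intro Y
    have h := ha₀ (Y.map σ)
    rw [hP, hP] at h
    have h1 := adj_coords hf e P h
    rw [← Matrix.kroneckerMap_transpose, Matrix.transpose_one, kron_map, map_one_mat, ← Matrix.transpose_map,
      Matrix.transpose_transpose, map_map_invol hf.invol, map_mul_map, map_mul_map, map_map_invol hf.invol] at h1
    exact h1
  obtain ⟨B, hB⟩ := kronecker_centralizer (M := Gt * (a ⊗ₖ (1 : Matrix (Fin m) (Fin m) F))) fun X => by
    rw [← mul_assoc (X ⊗ₖ (1 : Matrix (Fin m) (Fin m) F)), hrel, mul_assoc, mul_assoc]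
    simp only [← Matrix.mul_kronecker_mul, mul_one, mul_assoc, haa']
  have hG : Gt = a' ⊗ₖ B := by
    have h := congrArg (fun M => M * (a' ⊗ₖ (1 : Matrix (Fin m) (Fin m) F))) hB
    simp only [mul_assoc, ← Matrix.mul_kronecker_mul, haa, one_mul, mul_one, Matrix.one_kronecker_one] at h
    exact h
  have hd := gramP_det hf e P
  rw [← hGt, hG, Matrix.det_kronecker, Fintype.card_fin, Fintype.card_fin] at hd
  have hd1 : IsUnit a'.det := IsUnit.of_mul_eq_one a.det (by rw [← Matrix.det_mul, haa', Matrix.det_one])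
  have hd2 : IsUnit B.det := (isUnit_pow_iff hk.ne').1 (isUnit_of_mul_isUnit_right hd)
  haveI : Nonempty (Fin m) := ⟨⟨0, hm⟩⟩
  have hA0 : a' ≠ 0 := fun h => by rw [h, Matrix.det_zero] at hd1; exact not_isUnit_zero hd1
  have hB0 : B ≠ 0 := fun h => by rw [h, Matrix.det_zero] at hd2; exact not_isUnit_zero hd2
  have hsy := gramP_symm hf e P
  rw [← hGt, hG, ← Matrix.kroneckerMap_transpose, kron_map, ← Matrix.smul_kronecker] at hsy
  obtain ⟨c, hc, h1, h2⟩ := kron_factor hsy
    (fun h => hA0 (by simpa [hf.eps_ne] using h)) hB0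
  rw [smul_smul] at h1
  refine ⟨a', B, c * σ ε, c⁻¹, hG, hd1, hd2, h1, h2, sym_scalar hf.invol hA0 h1, sym_scalar hf.invol hB0 h2, ?_⟩
  field_simp

/-- the forms with given Gram matrices -/
lemma gram_formOfGram (σ : F ≃+* F) (G : Matrix κ κ F) : gramMatrix (formOfGram σ G) = G := by
  ext a b
  have hs : (fun i => σ ((Pi.single b (1 : F) : κ → F) i)) = Pi.single b 1 := by
    ext i
    by_cases hi : i = b <;> simp [hi]
  simp [gramMatrix, formOfGram_dot, hs]

lemma formData_of_gram {σ : F ≃+* F} (hσ : ∀ a, σ (σ a) = a) {G : Matrix κ κ F} (hG : IsUnit G.det) {a : F}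
    (ha : a * σ a = 1) (hsy : Gᵀ.map σ = a • G) : FormData σ (σ a) (formOfGram σ G) := by
  refine ⟨⟨fun x y v => ?_, fun c x v => ?_, fun v x y => ?_, fun c v x => ?_⟩, hσ, by rw [hσ, mul_comm]; exact ha,
    fun v hv => ?_, fun v w => ?_⟩
  · simp only [formOfGram_dot, add_dotProduct]
  · simp only [formOfGram_dot, smul_dotProduct, smul_eq_mul]
  · simp only [formOfGram_dot, ← dotProduct_add, ← Matrix.mulVec_add]
    congr 2
    funext i
    exact map_add σ _ _
  · simp only [formOfGram_dot]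
    rw [show (fun b => σ ((c • x) b)) = σ c • (fun b => σ (x b)) from funext fun i => map_mul σ c _,
      Matrix.mulVec_smul, dotProduct_smul, smul_eq_mul]
  · have hv' : (fun b => σ (v b)) ≠ 0 := fun h => hv (funext fun i => by
      simpa [hσ] using congrArg σ (congrFun h i))
    constructor
    · obtain ⟨i, hi⟩ := Function.ne_iff.1 (fun h => hG.ne_zero (Matrix.exists_mulVec_eq_zero_iff.1 ⟨_, hv', h⟩) :
        G *ᵥ (fun b => σ (v b)) ≠ 0)
      exact ⟨Pi.single i 1, by simpa [formOfGram_dot] using hi⟩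
    · obtain ⟨i, hi⟩ := Function.ne_iff.1 (fun h => hG.ne_zero (Matrix.exists_vecMul_eq_zero_iff.1 ⟨_, hv, h⟩) :
        v ᵥ* G ≠ 0)
      refine ⟨Pi.single i 1, ?_⟩
      have hs : (fun b => σ ((Pi.single i (1 : F) : κ → F) b)) = Pi.single i 1 := by
        ext b
        by_cases hb : b = i <;> simp [hb]
      simp only [formOfGram_dot, hs, Matrix.dotProduct_mulVec, dotProduct_single, mul_one]
      exact hi
  · have hent : ∀ p q, G p q = σ a * σ (G q p) := fun p q => by
      have h1 : σ (G q p) = a * G p q := congrFun (congrFun hsy p) q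
      rw [h1, ← mul_assoc, mul_comm (σ a), ha, one_mul]
    simp only [formOfGram, map_sum, map_mul, hσ, Finset.mul_sum]
    rw [Finset.sum_comm]
    refine Finset.sum_congr rfl fun p _ => Finset.sum_congr rfl fun q _ => ?_
    rw [hent q p]
    ring

end Cfsg.Agent.AschFormTensor
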