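/-
Aschbacher's theorem with a form, part 5: normalised star-closed subalgebras give geometric structures.
-/
import Cfsg.Agent.Lib.AschFormImprim
import Cfsg.Agent.Lib.AschFormField
import Cfsg.Agent.Lib.AschFormTensor

set_option autoImplicit false
set_option linter.unusedSectionVars false

namespace Cfsg.Agent.AschFormAlg

open scoped Matrix Kronecker
open Cfsg Cfsg.Geo Cfsg.Agent.AschPrimeBasic Cfsg.Agent.AschPrimeForms Cfsg.Agent.AschPrimeCore
  Cfsg.Agent.AschGenAlgebra Cfsg.Agent.AschGenTensor Cfsg.Agent.AschFormBasic Cfsg.Agent.AschFormTensor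

variable {ι : Type} [Fintype ι] [DecidableEq ι] {F : Type*} [Field F] [Fintype F]

/-- every normalised commutative star-closed subalgebra is trivial -/
def CommSimple (σ : F ≃+* F) (f : (ι → F) → (ι → F) → F) (H : Subgroup (GL ι F)) : Prop :=
  ∀ C : Subalgebra F (Matrix ι ι F), AlgNorm H C → StarClosed σ (gramMatrix f) C →
    (∀ x ∈ C, ∀ y ∈ C, x * y = y * x) → C = ⊥

/-- every normalised star-closed subalgebra is trivial or everything -/
def FormSimple (σ : F ≃+* F) (f : (ι → F) → (ι → F) → F) (H : Subgroup (GL ι F)) : Prop :=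
  ∀ C : Subalgebra F (Matrix ι ι F), AlgNorm H C → StarClosed σ (gramMatrix f) C → C = ⊥ ∨ C = ⊤

/-- a tensor decomposition of the form preserved by `H` -/
structure TensorData (σ : F ≃+* F) (ε : F) (f : (ι → F) → (ι → F) → F) (H : Subgroup (GL ι F)) (k m : ℕ)
    (e : ι ≃ Fin k × Fin m) (P : GL ι F) (G₁ : Matrix (Fin k) (Fin k) F) (G₂ : Matrix (Fin m) (Fin m) F)
    (a b : F) : Prop where
  two_le₁ : 2 ≤ k
  two_le₂ : 2 ≤ m
  le : H ≤ tensorProductSubgroup k m e P
  gram : gramP σ f e P = G₁ ⊗ₖ G₂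
  det₁ : IsUnit G₁.det
  det₂ : IsUnit G₂.det
  symm₁ : G₁ᵀ.map σ = a • G₁
  symm₂ : G₂ᵀ.map σ = b • G₂
  norm₁ : a * σ a = 1
  norm₂ : b * σ b = 1
  prod : a * b = σ ε

/-- a group preserves a decomposition, a field or a tensor decomposition of the form, or is form-simple -/
theorem alg_cases [Nonempty ι] {σ : F ≃+* F} {ε : F} {f : (ι → F) → (ι → F) → F} (hf : FormData σ ε f)
    {H : Subgroup (GL ι F)} (hI : Isos H f) (hH : Irred H) :
    AschFormImprim.ImprimOutcome f H ∨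
    (∃ (r : ℕ) (K : Subalgebra F (Matrix ι ι F)), r.Prime ∧ IsFieldSubalgebra r K ∧
      StarClosed σ (gramMatrix f) K ∧ AlgNorm H K ∧ r ∣ Fintype.card ι ∧ H ≤ subalgebraNormalizer K) ∨
    (CommSimple σ f H ∧ ((∃ (k m : ℕ) (e : ι ≃ Fin k × Fin m) (P : GL ι F) (G₁ : Matrix (Fin k) (Fin k) F)
        (G₂ : Matrix (Fin m) (Fin m) F) (a b : F), TensorData σ ε f H k m e P G₁ G₂ a b) ∨ FormSimple σ f H)) := by
  classical
  by_cases himp : AschFormImprim.ImprimOutcome f H
  · exact Or.inl himp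
  right
  by_cases hfld : ∃ (r : ℕ) (K : Subalgebra F (Matrix ι ι F)), r.Prime ∧ IsFieldSubalgebra r K ∧
      StarClosed σ (gramMatrix f) K ∧ AlgNorm H K ∧ r ∣ Fintype.card ι ∧ H ≤ subalgebraNormalizer K
  · exact Or.inl hfld
  right
  have hcs : CommSimple σ f H := by
    intro C hC hs hcomm
    by_contra hne
    have hid : ∀ e ∈ C, e * e = e → e = 0 ∨ e = 1 := by
      intro e he hee
      by_contra h
      push Not at h
      exact himp (AschFormImprim.imprim_cases hf hI hH hC hs hcomm he hee h.1 h.2)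
    exact hfld (AschFormField.exists_prime_field_star hf hC hs hcomm
      (inv_or_idempotent C (semisimple_of_norm hH hC) hcomm hid) hne)
  refine ⟨hcs, or_iff_not_imp_left.2 fun hten C hC hs => ?_⟩
  set Z := C ⊓ Subalgebra.centralizer F (C : Set (Matrix ι ι F)) with hZ
  have hZn : AlgNorm H Z := fun h hh c hc =>
    ⟨hC h hh c hc.1, AlgNorm.centralizer (fun h hh s hs => hC h hh s hs) h hh c hc.2⟩
  have hZc : ∀ x ∈ Z, ∀ y ∈ Z, x * y = y * x := fun x hx y hy =>
    ((Subalgebra.mem_centralizer_iff F).1 hy.2 x hx.1)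
  have hZbot : Z = ⊥ := hcs Z hZn (hs.inf (StarClosed.centralizer hf hs)) hZc
  obtain ⟨k, hk, ⟨φ⟩⟩ := exists_matrix_equiv C (semisimple_of_norm hH hC) fun x hx hxc => by
    have hxZ : x ∈ Z := ⟨hx, (Subalgebra.mem_centralizer_iff F).2 fun y hy => (hxc y hy).symm⟩
    rw [hZbot, Algebra.mem_bot] at hxZ
    obtain ⟨c, hc⟩ := hxZ
    exact ⟨c, by rw [← hc, Algebra.algebraMap_eq_smul_one]⟩
  obtain ⟨m, e, P, hm, hle, hP⟩ := exists_tensor hC hk φ
  by_cases hk1 : k = 1
  · left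
    refine Subalgebra.eq_bot_of_finrank_one ?_
    rw [← φ.toLinearEquiv.finrank_eq, Module.finrank_matrix, Module.finrank_self, Fintype.card_fin, hk1]
  by_cases hm1 : m = 1
  · right
    subst hm1
    refine eq_top_iff.2 fun M _ => ?_
    obtain ⟨Y, hY⟩ := pull_surjective (F := F) e (((P⁻¹ : GL ι F) : Matrix ι ι F) * M * (P : Matrix ι ι F))
    let X : Matrix (Fin k) (Fin k) F := Matrix.of fun a b => Y (a, 0) (b, 0)
    have hYX : Y = X ⊗ₖ (1 : Matrix (Fin 1) (Fin 1) F) := by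
      ext ⟨a, i⟩ ⟨b, j⟩
      simp [X, Subsingleton.elim i 0, Subsingleton.elim j 0]
    have : (φ X : Matrix ι ι F) = M := by
      rw [hP, ← hYX, hY]
      simp [mul_assoc]
    exact this ▸ (φ X).2
  exfalso
  obtain ⟨G₁, G₂, a, b, hg, hd1, hd2, hs1, hs2, ha, hb, hab⟩ := tensor_gram hf hs hk hm φ e P hP
  exact hten ⟨k, m, e, P, G₁, G₂, a, b, by omega, by omega, hle, hg, hd1, hd2, hs1, hs2, ha, hb, hab⟩

/-- with trivial star-closed normalised algebras a normal subgroup is scalar or absolutely irreducible -/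
lemma FormSimple.alternative [Nonempty ι] {σ : F ≃+* F} {ε : F} {f : (ι → F) → (ι → F) → F}
    (hf : FormData σ ε f) {H : Subgroup (GL ι F)} (hs : FormSimple σ f H) {N : Subgroup (GL ι F)}
    (hn : NormalBy H N) (hN : Isos N f) : N ≤ scalars ι F ∨ AbsIrred N := by
  rcases hs _ (AschGenLinear.algNorm_adjoin hn) (StarClosed.adjoin_group hf hN) with h | h
  · left
    intro g hg
    have h1 : (g : Matrix ι ι F) ∈ (⊥ : Subalgebra F (Matrix ι ι F)) := h ▸ Algebra.subset_adjoin ⟨g, hg, rfl⟩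
    obtain ⟨c, hc⟩ := Algebra.mem_bot.1 h1
    exact mem_scalars_of_comm (c := c) (by rw [← hc, Algebra.algebraMap_eq_smul_one])
  · right
    refine AbsIrred.mk' (fun W hW => ?_) fun M hM => ?_
    · let S : Subalgebra F (Matrix ι ι F) :=
        { carrier := {A | ∀ w ∈ W, A *ᵥ w ∈ W}
          mul_mem' := fun {a b} ha hb w hw => by rw [← Matrix.mulVec_mulVec]; exact ha _ (hb w hw)
          add_mem' := fun {a b} ha hb w hw => by rw [Matrix.add_mulVec]; exact W.add_mem (ha w hw) (hb w hw)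
          algebraMap_mem' := fun c w hw => by
            rw [Algebra.algebraMap_eq_smul_one, Matrix.smul_mulVec, Matrix.one_mulVec]
            exact W.smul_mem c hw }
      have hS : (⊤ : Subalgebra F (Matrix ι ι F)) ≤ S := h ▸ Algebra.adjoin_le (by
        rintro _ ⟨g, hg, rfl⟩
        exact fun w hw => hW g hg w hw)
      by_cases hb : W = ⊥
      · exact Or.inl hb
      obtain ⟨w, hw, hw0⟩ := (Submodule.ne_bot_iff W).1 hb
      obtain ⟨j, hj⟩ := Function.ne_iff.1 hw0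
      refine Or.inr (eq_top_iff.2 fun v _ => ?_)
      have h1 := hS (Algebra.mem_top (x := Matrix.vecMulVec v (Pi.single j (w j)⁻¹))) w hw
      rw [Matrix.vecMulVec_mulVec] at h1
      simpa [inv_mul_cancel₀ (show w j ≠ 0 from hj)] using h1
    · refine eq_scalar_of_comm_transvection fun i j _ => ?_
      have h1 : (⊤ : Subalgebra F (Matrix ι ι F)) ≤ Subalgebra.centralizer F {M} := h ▸ Algebra.adjoin_le (by
        rintro _ ⟨g, hg, rfl⟩
        rw [SetLike.mem_coe, Subalgebra.mem_centralizer_iff]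
        rintro _ rfl
        exact hM g hg)
      exact (Subalgebra.mem_centralizer_iff F).1 (h1 Algebra.mem_top) M rfl

/-- the members of `H` in tensor coordinates -/
lemma TensorData.elem {σ : F ≃+* F} {ε : F} {f : (ι → F) → (ι → F) → F} {H : Subgroup (GL ι F)} {k m : ℕ}
    {e : ι ≃ Fin k × Fin m} {P : GL ι F} {G₁ : Matrix (Fin k) (Fin k) F} {G₂ : Matrix (Fin m) (Fin m) F} {a b : F}
    (hd : TensorData σ ε f H k m e P G₁ G₂ a b) (hf : FormData σ ε f) (hI : Isos H f) {h : GL ι F} (hh : h ∈ H) :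
    ∃ (A : GL (Fin k) F) (B : GL (Fin m) F) (c : F), c ≠ 0 ∧
      (h : Matrix ι ι F) = (P : Matrix ι ι F) * pull e ((A : Matrix (Fin k) (Fin k) F) ⊗ₖ (B : Matrix (Fin m) (Fin m) F)) *
        ((P⁻¹ : GL ι F) : Matrix ι ι F) ∧
      (A : Matrix (Fin k) (Fin k) F)ᵀ * G₁ * (A : Matrix (Fin k) (Fin k) F).map σ = c • G₁ ∧
      (B : Matrix (Fin m) (Fin m) F)ᵀ * G₂ * (B : Matrix (Fin m) (Fin m) F).map σ = c⁻¹ • G₂ := by
  obtain ⟨_, ⟨g, ⟨A, B, hg⟩, rfl⟩, hgh⟩ := hd.le hh
  have hval : (h : Matrix ι ι F) = (P : Matrix ι ι F) * pull e ((A : Matrix (Fin k) (Fin k) F) ⊗ₖ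
      (B : Matrix (Fin m) (Fin m) F)) * ((P⁻¹ : GL ι F) : Matrix ι ι F) := by
    rw [← hgh, ← hg]
    rfl
  have h1 := iso_coords hf e P (hI h hh) hval
  rw [hd.gram, ← Matrix.kroneckerMap_transpose, kron_map, ← Matrix.mul_kronecker_mul, ← Matrix.mul_kronecker_mul] at h1
  have : Nonempty (Fin k) := ⟨⟨0, by have := hd.two_le₁; omega⟩⟩
  have : Nonempty (Fin m) := ⟨⟨0, by have := hd.two_le₂; omega⟩⟩
  obtain ⟨c, hc, e1, e2⟩ := kron_factor h1
    (fun h => by have := hd.det₁; rw [h, Matrix.det_zero] at this; exact not_isUnit_zero this)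
    (fun h => by have := hd.det₂; rw [h, Matrix.det_zero] at this; exact not_isUnit_zero this)
  exact ⟨A, B, c, hc, hval, e1, e2⟩

/-- exchanging the two factors -/
lemma TensorData.swap {σ : F ≃+* F} {ε : F} {f : (ι → F) → (ι → F) → F} {H : Subgroup (GL ι F)} {k m : ℕ}
    {e : ι ≃ Fin k × Fin m} {P : GL ι F} {G₁ : Matrix (Fin k) (Fin k) F} {G₂ : Matrix (Fin m) (Fin m) F} {a b : F}
    (hd : TensorData σ ε f H k m e P G₁ G₂ a b) :
    TensorData σ ε f H m k (e.trans (Equiv.prodComm _ _)) P G₂ G₁ b a := by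
  refine ⟨hd.two_le₂, hd.two_le₁, hd.le.trans (tensor_swap k m e P), ?_, hd.det₂, hd.det₁, hd.symm₂, hd.symm₁,
    hd.norm₂, hd.norm₁, by rw [mul_comm, hd.prod]⟩
  ext ⟨i, x⟩ ⟨j, y⟩
  have := congrFun (congrFun hd.gram (x, i)) (y, j)
  simp only [gramP, Matrix.of_apply, Matrix.kroneckerMap_apply] at this ⊢
  rw [mul_comm (G₂ i j), ← this]
  rfl

end Cfsg.Agent.AschFormAlg
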