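/-
Aschbacher's theorem with a form, part 6: the structure of a group without reducible normal subgroups (the
argument of `AschGenLinear.core_cases` with the hypothesis weakened to subgroups of the group itself).
-/
import Cfsg.Agent.Lib.AschGenLinear

set_option autoImplicit false
set_option linter.unusedSectionVars false

namespace Cfsg.Agent.AschFormCore

open scoped Matrix Kronecker commutatorElement
open Cfsg Cfsg.Geo Cfsg.Agent.AschPrimeBasic Cfsg.Agent.AschPrimeForms Cfsg.Agent.AschPrimeCore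
  Cfsg.Agent.AschGenAlgebra Cfsg.Agent.AschGenTensor Cfsg.Agent.AschGenExtra Cfsg.Agent.AschGenLinear

variable {ι : Type} [Fintype ι] [DecidableEq ι] {F : Type*} [Field F] [Fintype F]

/-- commuting non-scalar subgroups permuted transitively by `H` -/
structure WreathFamily (H : Subgroup (GL ι F)) (t : ℕ) (M : Fin t → Subgroup (GL ι F)) : Prop where
  two_le : 2 ≤ t
  le : ∀ i, M i ≤ H
  not_scalar : ∀ i, ¬ M i ≤ scalars ι F
  comm : ∀ i j, i ≠ j → ∀ x ∈ M i, ∀ y ∈ M j, x * y = y * x
  perm : ∀ h ∈ H, ∃ σ : Equiv.Perm (Fin t), ∀ i, cj h (M i) = M (σ i)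
  trans : ∀ i j, ∃ h ∈ H, cj h (M i) = M j

/-- without reducible normal subgroups: class two, commuting conjugates, or a simple core -/
theorem core_cases (h2 : 2 ≤ Fintype.card ι) {H : Subgroup (GL ι F)} (hH : Irred H)
    (hs : ∀ N, NormalBy H N → N ≤ H → N ≤ scalars ι F ∨ AbsIrred N) :
    (∃ N, N ≤ H ∧ NormalBy H N ∧ AbsIrred N ∧ Class2 N ∧
      ∀ K, K ≤ N → NormalBy H K → N ⊓ scalars ι F ≤ K → K ≤ scalars ι F ∨ K = N) ∨
    (∃ (t : ℕ) (M : Fin t → Subgroup (GL ι F)), WreathFamily H t M) ∨ ∃ P, SimpleCore H P := by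
  classical
  have : Nonempty ι := Fintype.card_pos_iff.1 (by omega)
  refine or_iff_not_imp_left.2 fun hextra => or_iff_not_imp_left.2 fun halt => ?_
  -- the centre
  set Z := H ⊓ scalars ι F with hZdef
  have hZ : Z ≤ scalars ι F := inf_le_right
  have hns : ¬ H ≤ scalars ι F := by
    intro hle
    obtain ⟨i⟩ := ‹Nonempty ι›
    have hinv : Inv H (Submodule.span F {(Pi.single i 1 : ι → F)}) := by
      intro g hg w hw
      obtain ⟨c, hc⟩ := (mem_scalars_iff g).1 (hle hg)
      rw [hc, Matrix.smul_mulVec, Matrix.one_mulVec]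
      exact Submodule.smul_mem _ _ hw
    have hv : (Pi.single i 1 : ι → F) ≠ 0 := fun h => one_ne_zero (α := F) (by simpa using congrFun h i)
    rcases hH _ hinv with h | h
    · exact hv (Submodule.span_singleton_eq_bot.1 h)
    · have := finrank_span_singleton (K := F) hv
      rw [h, finrank_top, Module.finrank_pi] at this
      omega
  -- minimal nonscalar normal subgroup
  obtain ⟨N, ⟨hNle, hNn, hZN, hNs⟩, hmin⟩ := wellFounded_lt.has_min
    {N : Subgroup (GL ι F) | N ≤ H ∧ NormalBy H N ∧ Z ≤ N ∧ ¬ N ≤ scalars ι F}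
    ⟨H, le_rfl, normalBy_self H, inf_le_left, hns⟩
  have hmin' : ∀ K, K ≤ N → NormalBy H K → ¬ K ≤ scalars ι F → K ⊔ Z = N := by
    intro K hKN hK hKs
    rcases (sup_le hKN hZN).lt_or_eq with h | h
    · exact absurd h (hmin (K ⊔ Z) ⟨(sup_le hKN hZN).trans hNle,
        normalBy_sup hK (normalBy_inf (normalBy_self H) (normalBy_scalars H)), le_sup_right,
        fun hh => hKs (le_sup_left.trans hh)⟩)
    · exact h
  have hNabs : AbsIrred N := (hs N hNn hNle).resolve_left hNs
  by_cases hcom : ⁅N, N⁆ ≤ scalars ι F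
  · exfalso
    refine hextra ⟨N, hNle, hNn, hNabs,
      fun x hx y hy => hcom (Subgroup.commutator_mem_commutator hx hy), fun K hKN hK hZK => ?_⟩
    by_cases hKs : K ≤ scalars ι F
    · exact Or.inl hKs
    · right
      rw [← hmin' K hKN hK hKs, sup_of_le_left]
      exact fun x hx => hZK ⟨hZN hx, hx.2⟩
  set P := ⁅N, N⁆ with hPdef
  have hPN : P ≤ N := Subgroup.commutator_le.2 fun a ha b hb => by
    rw [commutatorElement_def]
    exact N.mul_mem (N.mul_mem (N.mul_mem ha hb) (N.inv_mem ha)) (N.inv_mem hb)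
  have hPn : NormalBy H P := normalBy_commutator hNn hNn
  have hPZ : P ⊔ Z = N := hmin' P hPN hPn hcom
  have hperf : ⁅P, P⁆ = P := by
    conv_rhs => rw [hPdef, ← hPZ]
    rw [commutator_sup_scalars hZ]
  have hPabs : AbsIrred P := (hs P hPn (hPN.trans hNle)).resolve_left hcom
  have hcj : ∀ a ∈ H, cj a N = N := fun a ha => normalBy_cj hNn ha
  have hcjP : ∀ a ∈ H, cj a P = P := fun a ha => normalBy_cj hPn ha
  -- candidates inside P
  let Z₀ := P ⊓ scalars ι F
  let cand : Subgroup (GL ι F) → Prop := fun K =>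
    K ≤ P ∧ NormalBy N K ∧ Z₀ ≤ K ∧ ¬ K ≤ scalars ι F
  have hkey : ∀ K, cand K → K = P := by
    intro K hK
    obtain ⟨M, ⟨hMc, hMK⟩, hMmin⟩ := wellFounded_lt.has_min {M | cand M ∧ M ≤ K} ⟨K, hK, le_rfl⟩
    obtain ⟨hMP, hMN, hMZ, hMs⟩ := hMc
    have hMmin' : ∀ L, cand L → L ≤ M → L = M := fun L hL hLM =>
      hLM.lt_or_eq.resolve_left (hMmin L ⟨hL, hLM.trans hMK⟩)
    -- conjugates of M by elements of H
    have hcand : ∀ a ∈ H, ∀ L, cand L → cand (cj a L) := by
      intro a ha L hL
      refine ⟨(cj_mono hL.1).trans (hcjP a ha).le, ?_, ?_, ?_⟩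
      · intro b hb x hx
        rw [mem_cj] at hx ⊢
        have hb' : a⁻¹ * b * a ∈ N := mem_cj.1 ((hcj a ha).symm ▸ hb)
        have := hL.2.1 _ hb' _ hx
        simpa [mul_assoc] using this
      · intro x hx
        rw [mem_cj]
        refine hL.2.2.1 ⟨?_, ?_⟩
        · exact mem_cj.1 ((hcjP a ha).symm ▸ hx.1)
        · simpa using (scalars_normal (ι := ι) (F := F)).conj_mem x hx.2 a⁻¹
      · intro hle
        apply hL.2.2.2
        intro x hx
        have h1 := hle (cj_mem (a := a) hx)
        simpa [mul_assoc] using (scalars_normal (ι := ι) (F := F)).conj_mem _ h1 a⁻¹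
    have hMc : cand M := ⟨hMP, hMN, hMZ, hMs⟩
    have hdisj : ∀ a ∈ H, ∀ b ∈ H, cj a M ≠ cj b M → cj a M ⊓ cj b M ≤ scalars ι F := by
      intro a ha b hb hne
      by_contra hns'
      have hA := hcand a ha M hMc
      have hB := hcand b hb M hMc
      have hL : cand (cj a M ⊓ cj b M) :=
        ⟨inf_le_left.trans hA.1, normalBy_inf hA.2.1 hB.2.1, le_inf hA.2.2.1 hB.2.2.1, hns'⟩
      have h1 : ∀ c ∈ H, cj a M ⊓ cj b M ≤ cj c M → cj a M ⊓ cj b M = cj c M := by
        intro c hc hle
        have hcc := hcand c⁻¹ (H.inv_mem hc) _ hL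
        have hsub : cj c⁻¹ (cj a M ⊓ cj b M) ≤ M := by
          refine (cj_mono hle).trans (le_of_eq ?_)
          rw [cj_cj, inv_mul_cancel, cj_one]
        have := congrArg (cj c) (hMmin' _ hcc hsub)
        rwa [cj_cj, mul_inv_cancel, cj_one] at this
      exact hne ((h1 a ha inf_le_left).symm.trans (h1 b hb inf_le_right))
    have hcomm : ∀ a ∈ H, ∀ b ∈ H, cj a M ≠ cj b M →
        ∀ x ∈ cj a M, ∀ y ∈ cj b M, ⁅x, y⁆ ∈ scalars ι F := by
      intro a ha b hb hne x hx y hy
      apply hdisj a ha b hb hne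
      have hA := hcand a ha M hMc
      have hB := hcand b hb M hMc
      refine ⟨?_, ?_⟩
      · have h1 := hA.2.1 y (hPN (hB.1 hy)) x⁻¹ ((cj a M).inv_mem hx)
        have : ⁅x, y⁆ = x * (y * x⁻¹ * y⁻¹) := by rw [commutatorElement_def]; group
        exact this ▸ (cj a M).mul_mem hx h1
      · have h1 := hB.2.1 x (hPN (hA.1 hx)) y hy
        have : ⁅x, y⁆ = (x * y * x⁻¹) * y⁻¹ := rfl
        exact this ▸ (cj b M).mul_mem h1 ((cj b M).inv_mem hy)
    by_cases hMcom : ⁅M, M⁆ ≤ scalars ι F
    · exfalso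
      let S : Set (GL ι F) := ⋃ a ∈ H, (cj a M : Set (GL ι F))
      have hS : ∀ x ∈ S, ∀ y ∈ S, ⁅x, y⁆ ∈ scalars ι F := by
        intro x hx y hy
        simp only [S, Set.mem_iUnion, SetLike.mem_coe] at hx hy
        obtain ⟨a, ha, hx⟩ := hx
        obtain ⟨b, hb, hy⟩ := hy
        by_cases hab : cj a M = cj b M
        · rw [← hab] at hy
          have h1 := hMcom (Subgroup.commutator_mem_commutator (mem_cj.1 hx) (mem_cj.1 hy))
          have h2 := (scalars_normal (ι := ι) (F := F)).conj_mem _ h1 a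
          have : ⁅x, y⁆ = a * ⁅a⁻¹ * x * a, a⁻¹ * y * a⁆ * a⁻¹ := by
            simp only [commutatorElement_def]; group
          exact this ▸ h2
        · exact hcomm a ha b hb hab x hx y hy
      let J := Subgroup.closure S
      have hJP : J ≤ P := (Subgroup.closure_le P).2 fun x hx => by
        simp only [S, Set.mem_iUnion, SetLike.mem_coe] at hx
        obtain ⟨a, ha, hx⟩ := hx
        exact (hcand a ha M hMc).1 hx
      have hJn : NormalBy H J := by
        intro a ha x hx
        have h1 : cj a J ≤ J := by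
          simp only [cj, J, MonoidHom.map_closure]
          refine (Subgroup.closure_le _).2 ?_
          rintro _ ⟨y, hy, rfl⟩
          simp only [S, Set.mem_iUnion, SetLike.mem_coe] at hy
          obtain ⟨b, hb, hy⟩ := hy
          refine Subgroup.subset_closure ?_
          simp only [S, Set.mem_iUnion, SetLike.mem_coe]
          refine ⟨a * b, H.mul_mem ha hb, ?_⟩
          rw [← cj_cj]
          exact Subgroup.mem_map_of_mem _ hy
        exact h1 (cj_mem hx)
      have hMJ : M ≤ J := fun x hx => Subgroup.subset_closure (by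
        simp only [S, Set.mem_iUnion, SetLike.mem_coe]
        exact ⟨1, H.one_mem, by rwa [cj_one]⟩)
      have hJJ : ⁅J, J⁆ ≤ scalars ι F := by
        let qh := QuotientGroup.mk' (scalars ι F)
        have hq : ∀ x y : GL ι F, ⁅x, y⁆ ∈ scalars ι F → qh x * qh y = qh y * qh x := fun x y h => by
          rw [← commutatorElement_eq_one_iff_mul_comm, ← map_commutatorElement]
          exact (QuotientGroup.eq_one_iff _).2 h
        have h1 : J ≤ (Subgroup.centralizer (qh '' S)).comap qh := (Subgroup.closure_le _).2 fun x hx =>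
          Subgroup.mem_centralizer_iff.2 (by
            rintro _ ⟨y, hy, rfl⟩
            exact hq y x (hS y hy x hx))
        have h2 : J ≤ (Subgroup.centralizer (qh '' (J : Set (GL ι F)))).comap qh :=
          (Subgroup.closure_le _).2 fun x hx => Subgroup.mem_centralizer_iff.2 (by
            rintro _ ⟨y, hy, rfl⟩
            exact ((Subgroup.mem_centralizer_iff.1 (h1 hy)) _ ⟨x, hx, rfl⟩).symm)
        refine Subgroup.commutator_le.2 fun x hx y hy => ?_
        refine (QuotientGroup.eq_one_iff _).1 ?_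
        show qh ⁅x, y⁆ = 1
        rw [map_commutatorElement, commutatorElement_eq_one_iff_mul_comm]
        exact ((Subgroup.mem_centralizer_iff.1 (h2 hx)) _ ⟨y, hy, rfl⟩).symm
      have hJN := hmin' J (hJP.trans hPN) hJn (fun h => hMs (hMJ.trans h))
      apply hcom
      calc P = ⁅J, J⁆ := by rw [hPdef, ← hJN, commutator_sup_scalars hZ]
        _ ≤ scalars ι F := hJJ
    · -- the derived subgroup of M
      set M₁ := ⁅M, M⁆ with hM₁
      have hM₁M : M₁ ≤ M := Subgroup.commutator_le.2 fun a ha b hb => by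
        rw [commutatorElement_def]
        exact M.mul_mem (M.mul_mem (M.mul_mem ha hb) (M.inv_mem ha)) (M.inv_mem hb)
      have hM₁n : NormalBy N M₁ := normalBy_commutator hMN hMN
      have hZ₀n : NormalBy N Z₀ := normalBy_inf (NormalBy.mono hPn hNle) (normalBy_scalars N)
      have hM₁Z : M₁ ⊔ Z₀ = M := hMmin' _
        ⟨sup_le (hM₁M.trans hMP) inf_le_left, normalBy_sup hM₁n hZ₀n, le_sup_right,
          fun h => hMcom (le_sup_left.trans h)⟩ (sup_le hM₁M hMZ)
      have hM₁perf : ⁅M₁, M₁⁆ = M₁ := by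
        conv_rhs => rw [hM₁, ← hM₁Z]
        rw [commutator_sup_scalars (inf_le_right)]
      have hfix : ∀ a ∈ H, cj a M = M := by
        intro a ha
        by_contra hne
        -- several conjugates: tensor-induced
        let O : Set (Subgroup (GL ι F)) := {L | ∃ b ∈ H, cj b M₁ = L}
        haveI : Fintype O := Fintype.ofFinite O
        let ord : Fin (Fintype.card O) ≃ O := (Fintype.equivFin O).symm
        have hM₁c : ∀ b : GL ι F, cj b M₁ = ⁅cj b M, cj b M⁆ := fun b => Subgroup.map_commutator M M _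
        have hM₁ns : ∀ b : GL ι F, ¬ cj b M₁ ≤ scalars ι F := fun b hle => hMcom fun x hx => by
          have h1 := hle (cj_mem (a := b) hx)
          simpa [mul_assoc] using (scalars_normal (ι := ι) (F := F)).conj_mem _ h1 b⁻¹
        have hne' : cj a M₁ ≠ cj 1 M₁ := by
          intro h
          apply hne
          have hZc : cj a Z₀ = Z₀ := normalBy_cj (normalBy_inf hPn (normalBy_scalars H)) ha
          calc cj a M = cj a (M₁ ⊔ Z₀) := by rw [hM₁Z]
            _ = cj a M₁ ⊔ cj a Z₀ := Subgroup.map_sup _ _ _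
            _ = M := by rw [h, hZc, cj_one, hM₁Z]
        have h2 : 2 ≤ Fintype.card O :=
          Fintype.one_lt_card_iff.2 ⟨⟨_, a, ha, rfl⟩, ⟨_, 1, H.one_mem, rfl⟩, fun h => hne' (congrArg Subtype.val h)⟩
        refine halt ⟨_, fun i => (ord i : Subgroup (GL ι F)), h2, ?_, ?_, ?_, ?_, ?_⟩
        · intro i
          obtain ⟨b, hb, hbi⟩ := (ord i).2
          rw [← hbi]
          exact ((cj_mono (hM₁M.trans (hMP.trans hPN))).trans (hcj b hb).le).trans hNle
        · intro i
          obtain ⟨b, -, hbi⟩ := (ord i).2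
          rw [← hbi]
          exact hM₁ns b
        · intro i j hij x hx y hy
          obtain ⟨b, hb, hbi⟩ := (ord i).2
          obtain ⟨c, hc, hcj'⟩ := (ord j).2
          have hbc : cj b M ≠ cj c M := fun h => hij (ord.injective (Subtype.ext (by
            rw [← hbi, ← hcj', hM₁c, hM₁c, h])))
          rw [← hbi] at hx
          rw [← hcj'] at hy
          have hperfb : ⁅cj b M₁, cj b M₁⁆ = cj b M₁ := by
            conv_rhs => rw [← hM₁perf]
            exact (Subgroup.map_commutator M₁ M₁ _).symm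
          refine (commute_of_perfect hperfb (h := y) (fun z hz => ?_) x hx).symm
          exact hcomm c hc b hb hbc.symm y (cj_mono hM₁M hy) z (cj_mono hM₁M hz)
        · intro h hh
          have hmem : ∀ i, cj h (ord i : Subgroup (GL ι F)) ∈ O := fun i => by
            obtain ⟨b, hb, hbi⟩ := (ord i).2
            exact ⟨h * b, H.mul_mem hh hb, by rw [← hbi, cj_cj]⟩
          let σ : Fin (Fintype.card O) → Fin (Fintype.card O) := fun i => ord.symm ⟨_, hmem i⟩
          have hinj : Function.Injective σ := fun i j hij => ord.injective (Subtype.ext (by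
            have := congrArg (fun L => cj h⁻¹ L) (congrArg Subtype.val (ord.symm.injective hij))
            simpa [cj_cj, cj_one] using this))
          exact ⟨Equiv.ofBijective σ ⟨hinj, Finite.surjective_of_injective hinj⟩,
            fun i => (congrArg Subtype.val (ord.apply_symm_apply (⟨_, hmem i⟩ : O))).symm⟩
        · intro i j
          obtain ⟨b, hb, hbi⟩ := (ord i).2
          obtain ⟨c, hc, hcj'⟩ := (ord j).2
          exact ⟨c * b⁻¹, H.mul_mem hc (H.inv_mem hb), by rw [← hbi, cj_cj, ← hcj', inv_mul_cancel_right]⟩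
      have hMnH : NormalBy H M := fun a ha x hx => hfix a ha ▸ cj_mem hx
      have hMZN := hmin' M (hMP.trans hPN) hMnH hMs
      have : P ≤ M := by
        rw [hPdef, ← hMZN, commutator_sup_scalars hZ]
        exact hM₁M
      exact le_antisymm hK.1 (this.trans hMK)
  have hPs : ¬ P ≤ scalars ι F := hcom
  refine ⟨P, hPN.trans hNle, hPn, hperf, ?_, ?_, fun h _ hh => scalar_of_comm_mod hperf hPabs hh, hPabs⟩
  · have hnt : Nontrivial (P ⧸ (scalars ι F).subgroupOf P) := by
      obtain ⟨x, hx, hxs⟩ := SetLike.not_le_iff_exists.1 hPs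
      exact ⟨QuotientGroup.mk ⟨x, hx⟩, 1, fun h => hxs ((QuotientGroup.eq_one_iff (⟨x, hx⟩ : P)).1 h)⟩
    refine { exists_pair_ne := hnt.exists_pair_ne, eq_bot_or_eq_top_of_normal := fun L hL => ?_ }
    let K : Subgroup (GL ι F) := (L.comap (QuotientGroup.mk' _)).map P.subtype
    have hKP : K ≤ P := Subgroup.map_subtype_le _
    by_cases hKs : K ≤ scalars ι F
    · left
      rw [eq_bot_iff]
      intro u hu
      obtain ⟨x, rfl⟩ := QuotientGroup.mk'_surjective _ u
      exact (QuotientGroup.eq_one_iff _).2 (hKs ⟨x, hu, rfl⟩)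
    · right
      have hKc : cand K := by
        refine ⟨hKP, ?_, ?_, hKs⟩
        · rintro b hb _ ⟨x, hx, rfl⟩
          rw [← hPZ] at hb
          obtain ⟨p, hp, z, hz, rfl⟩ := mem_sup_scalars hZ hb
          refine ⟨(⟨p, hp⟩ : P) * x * (⟨p, hp⟩ : P)⁻¹, ?_, ?_⟩
          · exact (Subgroup.Normal.comap hL _).conj_mem x hx _
          · have e1 : z * (x : GL ι F) = (x : GL ι F) * z := scalar_comm (hZ hz) _
            simp only [Subgroup.coe_subtype, Subgroup.coe_mul, Subgroup.coe_inv, mul_inv_rev]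
            rw [mul_assoc p z, e1]
            group
        · intro x hx
          refine ⟨⟨x, hx.1⟩, ?_, rfl⟩
          show QuotientGroup.mk _ ∈ L
          rw [(QuotientGroup.eq_one_iff (N := (scalars ι F).subgroupOf P) (⟨x, hx.1⟩ : P)).2 hx.2]
          exact L.one_mem
      have hKeq := hkey K hKc
      rw [eq_top_iff]
      intro u _
      obtain ⟨x, rfl⟩ := QuotientGroup.mk'_surjective _ u
      have : (x : GL ι F) ∈ K := hKeq.symm ▸ x.2
      obtain ⟨y, hy, hyx⟩ := this
      exact Subtype.ext hyx ▸ hy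
  · intro hc
    apply hPs
    rw [← hperf]
    refine Subgroup.commutator_le.2 fun a ha b hb => ?_
    have h1 := hc.is_comm.comm (QuotientGroup.mk (⟨a, ha⟩ : P) : P ⧸ (scalars ι F).subgroupOf P)
      (QuotientGroup.mk ⟨b, hb⟩)
    have h2 : QuotientGroup.mk' ((scalars ι F).subgroupOf P) ⁅(⟨a, ha⟩ : P), (⟨b, hb⟩ : P)⁆ = 1 := by
      rw [map_commutatorElement, commutatorElement_eq_one_iff_mul_comm]
      exact h1
    exact (QuotientGroup.eq_one_iff (⁅(⟨a, ha⟩ : P), (⟨b, hb⟩ : P)⁆ : P)).1 h2

end Cfsg.Agent.AschFormCore
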