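/-
Aschbacher's theorem with a form, part 7: tensor-induced structures of the form.
-/
import Cfsg.Agent.Lib.AschFormAlg
import Cfsg.Agent.Lib.AschFormCore

set_option autoImplicit false
set_option linter.unusedSectionVars false

namespace Cfsg.Agent.AschFormWreath

open scoped Matrix Kronecker
open Cfsg Cfsg.Geo Cfsg.Agent.AschPrimeBasic Cfsg.Agent.AschPrimeForms Cfsg.Agent.AschPrimeCore
  Cfsg.Agent.AschGenAlgebra Cfsg.Agent.AschGenTensor Cfsg.Agent.AschFormBasic Cfsg.Agent.AschFormTensor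
  Cfsg.Agent.AschFormAlg Cfsg.Agent.AschFormCore

variable {ι : Type} [Fintype ι] [DecidableEq ι] {F : Type*} [Field F] [Fintype F]
variable {k t : ℕ}

lemma pureMat_map (σ : F ≃+* F) (U : Fin t → Matrix (Fin k) (Fin k) F) :
    (pureMat U).map σ = pureMat fun i => (U i).map σ := by
  ext x y
  simp [pureMat, map_prod]

lemma pureMat_transpose (U : Fin t → Matrix (Fin k) (Fin k) F) : (pureMat U)ᵀ = pureMat fun i => (U i)ᵀ := rfl

lemma permMat_map (σ : F ≃+* F) (τ : Equiv.Perm (Fin t)) :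
    (permMat τ : Matrix (Fin t → Fin k) (Fin t → Fin k) F).map σ = permMat τ := by
  ext x y
  simp [permMat]

lemma permMat_transpose (τ : Equiv.Perm (Fin t)) :
    (permMat τ : Matrix (Fin t → Fin k) (Fin t → Fin k) F)ᵀ = permMat τ.symm := by
  ext x y
  simp only [permMat, Matrix.transpose_apply, Matrix.of_apply]
  congr 1
  exact propext ⟨fun h => by subst h; simp [Function.comp_def], fun h => by subst h; simp [Function.comp_def]⟩

lemma pureMat_smul (l : Fin t → F) (U : Fin t → Matrix (Fin k) (Fin k) F) :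
    pureMat (fun i => l i • U i) = (∏ i, l i) • pureMat U := by
  ext x y
  simp [pureMat, Finset.prod_mul_distrib]

lemma pureMat_ne_zero {U : Fin t → Matrix (Fin k) (Fin k) F} (hU : ∀ i, U i ≠ 0) : pureMat U ≠ 0 := by
  have h : ∀ i, ∃ a b, U i a b ≠ 0 := fun i => by
    by_contra hn; push Not at hn; exact hU i (Matrix.ext hn)
  choose a b hab using h
  intro h0
  have := congrFun (congrFun h0 a) b
  simp only [pureMat, Matrix.of_apply, Matrix.zero_apply] at this
  exact Finset.prod_ne_zero_iff.2 (fun i _ => hab i) this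

lemma pure_factor {U V : Fin t → Matrix (Fin k) (Fin k) F} (hV : ∀ i, V i ≠ 0) {d : F} (hd : d ≠ 0)
    (h : pureMat U = d • pureMat V) : ∃ l : Fin t → F, (∀ i, l i ≠ 0) ∧ (∀ i, U i = l i • V i) ∧ ∏ i, l i = d := by
  classical
  have hex : ∀ i, ∃ a b, V i a b ≠ 0 := fun i => by
    by_contra hn; push Not at hn; exact hV i (Matrix.ext hn)
  choose a b hab using hex
  have he : ∀ x y : Fin t → Fin k, ∏ i, U i (x i) (y i) = d * ∏ i, V i (x i) (y i) := fun x y =>
    congrFun (congrFun h x) y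
  have hU0 : ∀ i, U i (a i) (b i) ≠ 0 := by
    intro i h0
    have h1 := he a b
    rw [Finset.prod_eq_zero (Finset.mem_univ i) h0] at h1
    exact mul_ne_zero hd (Finset.prod_ne_zero_iff.2 fun j _ => hab j) h1.symm
  refine ⟨fun i => U i (a i) (b i) / V i (a i) (b i), fun i => div_ne_zero (hU0 i) (hab i), fun i => ?_, ?_⟩
  · ext p q
    have h1 := he a b
    have h2 := he (Function.update a i p) (Function.update b i q)
    rw [← Finset.mul_prod_erase _ _ (Finset.mem_univ i), ← Finset.mul_prod_erase _ _ (Finset.mem_univ i)] at h1 h2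
    simp only [Function.update_self] at h2
    have e : ∀ W : Fin t → Matrix (Fin k) (Fin k) F,
        ∏ j ∈ Finset.univ.erase i, W j (Function.update a i p j) (Function.update b i q j) =
          ∏ j ∈ Finset.univ.erase i, W j (a j) (b j) := fun W =>
      Finset.prod_congr rfl fun j hj => by simp [Function.update_of_ne (Finset.ne_of_mem_erase hj)]
    rw [e, e] at h2
    rw [Matrix.smul_apply, smul_eq_mul, div_mul_eq_mul_div, eq_div_iff (hab i)]
    have hne : ∏ j ∈ Finset.univ.erase i, U j (a j) (b j) ≠ 0 := Finset.prod_ne_zero_iff.2 fun j _ => hU0 j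
    apply mul_right_cancel₀ hne
    linear_combination (V i (a i) (b i)) * h2 - (V i p q) * h1
  · rw [Finset.prod_div_distrib, he a b, mul_div_assoc,
      div_self (Finset.prod_ne_zero_iff.2 fun j _ => hab j), mul_one]

/-- an isometry in tensor-induced coordinates moves the factors of the form -/
lemma elem_similar {σ : F ≃+* F} {ε : F} {f : (ι → F) → (ι → F) → F} (hf : FormData σ ε f)
    {e : ι ≃ (Fin t → Fin k)} {P : GL ι F} {c : F} (hc : c ≠ 0) {Gs : Fin t → Matrix (Fin k) (Fin k) F}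
    (hG : gramP σ f e P = c • pureMat Gs) (hGs : ∀ i, Gs i ≠ 0) {g : GL ι F}
    (hg : ∀ u v, f ((g : Matrix ι ι F) *ᵥ u) ((g : Matrix ι ι F) *ᵥ v) = f u v) {d : F} (hd : d ≠ 0)
    {U : Fin t → Matrix (Fin k) (Fin k) F} {τ : Equiv.Perm (Fin t)}
    (hT : (g : Matrix ι ι F) = (P : Matrix ι ι F) * pull e (d • (pureMat U * permMat τ)) *
      ((P⁻¹ : GL ι F) : Matrix ι ι F)) :
    ∀ i, ∃ l : F, l ≠ 0 ∧ (U (τ i))ᵀ * Gs (τ i) * (U (τ i)).map σ = l • Gs i := by
  have h1 := iso_coords hf e P hg hT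
  have key : (d • (pureMat U * permMat τ))ᵀ * (c • pureMat Gs) * (d • (pureMat U * permMat τ)).map σ =
      (d * c * σ d) • pureMat (fun i => (U (τ i))ᵀ * Gs (τ i) * (U (τ i)).map σ) := by
    have h2 : (permMat τ : Matrix (Fin t → Fin k) (Fin t → Fin k) F)ᵀ *
        pureMat (fun i => (U i)ᵀ * Gs i * (U i).map σ) * permMat τ =
        pureMat (fun i => (U (τ i))ᵀ * Gs (τ i) * (U (τ i)).map σ) := by
      rw [permMat_transpose, permMat_pureMat, mul_assoc]
      have := permMat_mul_symm (F := F) (k := k) τ.symm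
      rw [Equiv.symm_symm] at this
      rw [this, mul_one]
      rfl
    rw [Matrix.transpose_smul, Matrix.transpose_mul, map_smul_mat, map_mul_map, permMat_map, pureMat_map,
      pureMat_transpose, ← h2, ← pureMat_mul, ← pureMat_mul]
    simp only [Matrix.smul_mul, Matrix.mul_smul, smul_smul, mul_assoc]
    congr 1
    ring
  rw [hG, key] at h1
  have hne : d * c * σ d ≠ 0 := mul_ne_zero (mul_ne_zero hd hc) (by simpa using hd)
  have h3 := congrArg (fun M => (d * c * σ d)⁻¹ • M) h1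
  simp only [smul_smul, inv_mul_cancel₀ hne, one_smul] at h3
  obtain ⟨l, hl0, hl, -⟩ := pure_factor hGs (mul_ne_zero (inv_ne_zero hne) hc) h3
  exact fun i => ⟨l i, hl0 i, hl i⟩

/-- a tensor-induced decomposition of the form preserved by `H` -/
structure WreathData (σ : F ≃+* F) (ε : F) (f : (ι → F) → (ι → F) → F) (H : Subgroup (GL ι F)) (k t : ℕ)
    (e : ι ≃ (Fin t → Fin k)) (P : GL ι F) (G : Matrix (Fin k) (Fin k) F) (a c : F) : Prop where
  two_le₁ : 2 ≤ k
  two_le₂ : 2 ≤ t
  le : H ≤ tensorWreathSubgroup k t e P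
  gram : gramP σ f e P = c • pureMat fun _ => G
  c_ne : c ≠ 0
  det : IsUnit G.det
  symm : Gᵀ.map σ = a • G
  norm : a * σ a = 1
  prod : σ c * a ^ t = σ ε * c
  elem : ∀ h ∈ H, ∃ (τ : Equiv.Perm (Fin t)) (gs : Fin t → GL (Fin k) F) (d : F), d ≠ 0 ∧
    (h : Matrix ι ι F) = (P : Matrix ι ι F) * pull e (d • (pureMat (fun i => (gs i : Matrix (Fin k) (Fin k) F)) *
      permMat τ)) * ((P⁻¹ : GL ι F) : Matrix ι ι F) ∧
    ∀ i, ∃ l : F, l ≠ 0 ∧ (gs i : Matrix (Fin k) (Fin k) F)ᵀ * G * (gs i : Matrix (Fin k) (Fin k) F).map σ = l • G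

/-- commuting copies of a matrix algebra with scalar joint centraliser, in coordinates -/
theorem exists_sites [Nonempty ι] {H : Subgroup (GL ι F)} {k t : ℕ} (hk : 0 < k) (ht : 0 < t)
    (A : Fin t → Subalgebra F (Matrix ι ι F)) (φ : ∀ i, Matrix (Fin k) (Fin k) F ≃ₐ[F] A i)
    (hcomm : ∀ i j, i ≠ j → ∀ x ∈ A i, ∀ y ∈ A j, x * y = y * x)
    (hcent : ∀ M : Matrix ι ι F, (∀ i, ∀ x ∈ A i, M * x = x * M) → ∃ c : F, M = c • (1 : Matrix ι ι F)) :
    ∃ (e : ι ≃ (Fin t → Fin k)) (P : GL ι F),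
      (∀ i X, (φ i X : Matrix ι ι F) = (P : Matrix ι ι F) * pull e (site i X) * ((P⁻¹ : GL ι F) : Matrix ι ι F)) ∧
      ∀ h ∈ H, ∀ σ : Equiv.Perm (Fin t), (∀ i, (A i).map (conjAlg h).toAlgHom = A (σ i)) →
        ∃ (gs : Fin t → GL (Fin k) F) (d : F), d ≠ 0 ∧ (h : Matrix ι ι F) = (P : Matrix ι ι F) *
          pull e (d • (pureMat (fun i => (gs i : Matrix (Fin k) (Fin k) F)) * permMat σ)) *
          ((P⁻¹ : GL ι F) : Matrix ι ι F) := by
  classical
  haveI : Nonempty (Fin k) := ⟨⟨0, hk⟩⟩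
  let ψ : Fin t → (Matrix (Fin k) (Fin k) F →ₐ[F] Matrix ι ι F) := fun i => (A i).val.comp (φ i).toAlgHom
  have hψc : ∀ i j, i ≠ j → ∀ X Y, ψ i X * ψ j Y = ψ j Y * ψ i X := fun i j hij X Y =>
    hcomm i j hij _ (φ i X).2 _ (φ j Y).2
  let Φl : Matrix (Fin t → Fin k) (Fin t → Fin k) F →ₗ[F] Matrix ι ι F :=
    { toFun := fun M => ∑ x, ∑ y, M x y • sprod t ψ x y
      map_add' := fun M N => by simp [add_smul, Finset.sum_add_distrib]
      map_smul' := fun c M => by simp [smul_smul, Finset.smul_sum] }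
  have hΦmul : ∀ M N, Φl (M * N) = Φl M * Φl N := by
    intro M N
    show ∑ x, ∑ w, (M * N) x w • sprod t ψ x w =
      (∑ x, ∑ y, M x y • sprod t ψ x y) * ∑ z, ∑ w, N z w • sprod t ψ z w
    rw [Finset.sum_mul]
    refine Finset.sum_congr rfl fun x _ => ?_
    simp only [Finset.sum_mul]
    simp only [Finset.mul_sum, Matrix.smul_mul, Matrix.mul_smul, sprod_mul t ψ hψc, smul_ite, smul_zero, smul_smul,
      Finset.sum_ite_irrel, Finset.sum_const_zero, Finset.sum_ite_eq, Finset.mem_univ, if_true, Matrix.mul_apply,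
      Finset.sum_smul]
    rw [Finset.sum_comm]
    exact Finset.sum_congr rfl fun i _ => Finset.sum_congr rfl fun w _ => by rw [mul_comm]
  have hΦone : Φl 1 = 1 := by
    simp only [Φl, LinearMap.coe_mk, AddHom.coe_mk, Matrix.one_apply, ite_smul, one_smul, zero_smul,
      Finset.sum_ite_eq, Finset.mem_univ, if_true]
    exact sprod_sum t ψ
  let Φ := AlgHom.ofLinearMap Φl hΦone hΦmul
  have hsite : ∀ j X, Φ (site j X) = ψ j X := by
    intro j X
    conv_rhs => rw [← mul_one (ψ j X), ← sprod_sum t ψ, Finset.mul_sum]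
    simp only [sprod_site t ψ hψc]
    show ∑ x, ∑ y, site j X x y • sprod t ψ x y = _
    rw [Finset.sum_comm]
    refine Finset.sum_congr rfl fun y _ => ?_
    symm
    refine Finset.sum_bij_ne_zero (fun a _ _ => Function.update y j a) (fun _ _ _ => Finset.mem_univ _) ?_ ?_ ?_
    · intro a _ _ b _ _ h
      simpa using congrFun h j
    · intro x _ hx
      have hs : ∀ i, i ≠ j → x i = y i := by
        intro i hij
        by_contra h
        apply hx
        have : site j X x y = 0 := by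
          simp only [site, pureMat, Matrix.of_apply]
          exact Finset.prod_eq_zero (Finset.mem_univ i) (by rw [Function.update_of_ne hij]; exact Matrix.one_apply_ne h)
        rw [this, zero_smul]
      have hx' : Function.update y j (x j) = x := by
        funext i
        by_cases hij : i = j
        · subst hij; simp
        · rw [Function.update_of_ne hij, hs i hij]
      refine ⟨x j, Finset.mem_univ _, ?_, hx'⟩
      rw [hx']
      have : site j X x y = X (x j) (y j) := by
        simp only [site, pureMat, Matrix.of_apply]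
        rw [Finset.prod_eq_single j]
        · simp
        · intro i _ hij; rw [Function.update_of_ne hij, hs i hij]; simp
        · simp
      rwa [← this]
    · intro a _ _
      congr 1
      simp only [site, pureMat, Matrix.of_apply]
      rw [Finset.prod_eq_single j]
      · simp
      · intro i _ hij; simp [Function.update_of_ne hij]
      · simp
  obtain ⟨m, e₀, P, hm, hP⟩ := exists_coords Φ
  -- the centraliser is scalar, so the multiplicity is one
  have hm1 : m = 1 := by
    by_contra hne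
    let B : Matrix (Fin m) (Fin m) F := Matrix.single ⟨0, hm⟩ ⟨1, by omega⟩ 1
    let M := (P : Matrix ι ι F) * pull e₀ ((1 : Matrix (Fin t → Fin k) (Fin t → Fin k) F) ⊗ₖ B) * ((P⁻¹ : GL ι F) : Matrix ι ι F)
    obtain ⟨c, hc⟩ := hcent M fun i x hx => by
      obtain ⟨X, hX⟩ := (φ i).surjective ⟨x, hx⟩
      have hx' : x = Φ (site i X) := by rw [hsite]; simp [ψ, hX]
      rw [hx', hP]
      simp only [M, mul_assoc, Units.inv_mul_cancel_left]
      simp only [← mul_assoc (pull e₀ _) (pull e₀ _), ← map_mul, ← Matrix.mul_kronecker_mul, one_mul, mul_one]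
    have h1 : pull e₀ ((1 : Matrix (Fin t → Fin k) (Fin t → Fin k) F) ⊗ₖ B) = pull e₀ (c • 1) := by
      have h2 := congrArg (fun Z => ((P⁻¹ : GL ι F) : Matrix ι ι F) * Z * (P : Matrix ι ι F)) hc
      simp only [M, mul_assoc, Units.inv_mul_cancel_left, Units.inv_mul, mul_one, Matrix.smul_mul, Matrix.mul_smul,
        one_mul] at h2
      rw [h2, map_smul, map_one]
    have h3 := congrFun (congrFun (pull_injective (F := F) e₀ h1) (Classical.arbitrary _, ⟨0, hm⟩)) (Classical.arbitrary _, ⟨1, by omega⟩)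
    simp [B] at h3
  subst hm1
  let e : ι ≃ (Fin t → Fin k) := e₀.trans (Equiv.prodUnique _ _)
  have hP' : ∀ X, Φ X = (P : Matrix ι ι F) * pull e X * ((P⁻¹ : GL ι F) : Matrix ι ι F) := by
    intro X
    rw [hP]
    congr 2
    ext a b
    rw [pull_apply, Matrix.kroneckerMap_apply, Subsingleton.elim (e₀ a).2 (e₀ b).2, Matrix.one_apply_eq, mul_one]
    rfl
  refine ⟨e, P, fun j X => by rw [← hP', hsite]; rfl, fun h hh σ hσ => ?_⟩
  have hinner : ∀ i, ∃ a : GL (Fin k) F, ∀ X, (h : Matrix ι ι F) * ψ i X * ((h⁻¹ : GL ι F) : Matrix ι ι F) =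
      ψ (σ i) ((a : Matrix (Fin k) (Fin k) F) * X * ((a⁻¹ : GL (Fin k) F) : Matrix (Fin k) (Fin k) F)) := by
    intro i
    let r : A i ≃ₐ[F] A (σ i) := ((conjAlg h).subalgebraMap (A i)).trans (Subalgebra.equivOfEq _ _ (hσ i))
    obtain ⟨a, ha⟩ := exists_inner (((φ i).trans r).trans (φ (σ i)).symm)
    refine ⟨a, fun X => ?_⟩
    rw [← ha]
    simp [ψ, r]
  choose a ha using hinner
  let T : GL (Fin t → Fin k) F := pureUnit (fun i => a (σ.symm i)) * permUnit σ
  have hT : ∀ j X, (T : Matrix _ _ F) * site j X =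
      site (σ j) ((a j : Matrix (Fin k) (Fin k) F) * X * (((a j)⁻¹ : GL (Fin k) F) : Matrix (Fin k) (Fin k) F)) *
        (T : Matrix _ _ F) := by
    intro j X
    simp only [T, Units.val_mul, pureUnit, permUnit, site]
    rw [mul_assoc, permMat_pureMat, ← mul_assoc, pureMat_mul, ← mul_assoc, pureMat_mul]
    congr 2
    funext i
    by_cases hi : i = σ j
    · subst hi; simp [mul_assoc]
    · have : σ.symm i ≠ j := fun h => hi (by rw [← h, Equiv.apply_symm_apply])
      simp [Function.update_of_ne hi, Function.update_of_ne this]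
  let u : GL ι F := P * glReindex e.symm T * P⁻¹
  have hu : (u : Matrix ι ι F) = Φ (T : Matrix _ _ F) := by rw [hP']; rfl
  obtain ⟨c, hc⟩ := hcent ((u⁻¹ * h : GL ι F) : Matrix ι ι F) fun i x hx => by
    obtain ⟨X, hX⟩ := (φ i).surjective ⟨x, hx⟩
    have hx' : x = ψ i X := by simp [ψ, hX]
    rw [hx']
    have h1 : (h : Matrix ι ι F) * ψ i X =
        ψ (σ i) ((a i : Matrix (Fin k) (Fin k) F) * X * (((a i)⁻¹ : GL (Fin k) F) : Matrix (Fin k) (Fin k) F)) *
          (h : Matrix ι ι F) := by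
      rw [← ha, mul_assoc, ← Units.val_mul, inv_mul_cancel, Units.val_one, mul_one]
    have h2 : (u : Matrix ι ι F) * ψ i X =
        ψ (σ i) ((a i : Matrix (Fin k) (Fin k) F) * X * (((a i)⁻¹ : GL (Fin k) F) : Matrix (Fin k) (Fin k) F)) *
          (u : Matrix ι ι F) := by
      rw [hu, ← hsite, ← hsite, ← map_mul, ← map_mul, hT]
    rw [Units.val_mul, mul_assoc, h1, ← mul_assoc, ← mul_assoc]
    congr 1
    have h3 := congrArg (fun Z => ((u⁻¹ : GL ι F) : Matrix ι ι F) * Z * ((u⁻¹ : GL ι F) : Matrix ι ι F)) h2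
    simp only [mul_assoc, Units.mul_inv, mul_one, Units.inv_mul_cancel_left] at h3
    simpa only [mul_assoc] using h3.symm
  have hz : u⁻¹ * h ∈ scalars ι F := mem_scalars_of_comm hc
  obtain ⟨l, hl⟩ := (mem_scalars_iff _).1 hz
  refine ⟨fun i => a (σ.symm i), l, l.ne_zero, ?_⟩
  have h4 : (h : Matrix ι ι F) = (u : Matrix ι ι F) * ((u⁻¹ * h : GL ι F) : Matrix ι ι F) := by simp
  rw [h4, hl, hu, hP', Matrix.mul_smul, mul_one, map_smul, Matrix.mul_smul, Matrix.smul_mul]
  rfl


/-- a family of commuting conjugates gives a tensor-induced decomposition of the form -/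
theorem wreath_form [Nonempty ι] {σ : F ≃+* F} {ε : F} {f : (ι → F) → (ι → F) → F} (hf : FormData σ ε f)
    {H : Subgroup (GL ι F)} (hI : Isos H f) (hs : FormSimple σ f H) {t : ℕ}
    {M : Fin t → Subgroup (GL ι F)} (hfam : WreathFamily H t M) :
    ∃ (k : ℕ) (e : ι ≃ (Fin t → Fin k)) (P : GL ι F) (G : Matrix (Fin k) (Fin k) F) (a c : F),
      WreathData σ ε f H k t e P G a c := by
  obtain ⟨ht, -, hns, hcomm, hperm, htrans⟩ := id hfam
  classical
  let S : Set (GL ι F) := ⋃ i, (M i : Set (GL ι F))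
  let J := Subgroup.closure S
  have hJn : NormalBy H J := by
    intro a ha x hx
    obtain ⟨σ, hσ⟩ := hperm a ha
    have h1 : cj a J ≤ J := by
      simp only [cj, J, MonoidHom.map_closure]
      refine (Subgroup.closure_le _).2 ?_
      rintro _ ⟨y, hy, rfl⟩
      obtain ⟨i, hi⟩ := Set.mem_iUnion.1 hy
      exact Subgroup.subset_closure (Set.mem_iUnion.2 ⟨σ i, (hσ i) ▸ cj_mem (a := a) hi⟩)
    exact h1 (cj_mem hx)
  have hMJ : ∀ i, M i ≤ J := fun i x hx => Subgroup.subset_closure (Set.mem_iUnion.2 ⟨i, hx⟩)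
  have hJH : J ≤ H := (Subgroup.closure_le _).2 fun x hx => by
    obtain ⟨i, hi⟩ := Set.mem_iUnion.1 hx
    exact hfam.le i hi
  let i₀ : Fin t := ⟨0, by omega⟩
  have hJabs : AbsIrred J := (hs.alternative hf hJn fun g hg => hI g (hJH hg)).resolve_left fun h => hns i₀ ((hMJ i₀).trans h)
  let A : Fin t → Subalgebra F (Matrix ι ι F) := fun i => Algebra.adjoin F (matrixSet (M i))
  have hgA : ∀ i, ∀ g ∈ M i, (g : Matrix ι ι F) ∈ A i := fun i g hg => Algebra.subset_adjoin ⟨g, hg, rfl⟩
  have hgc : ∀ i j, i ≠ j → ∀ g ∈ M i, ∀ c ∈ A j, (g : Matrix ι ι F) * c = c * (g : Matrix ι ι F) := by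
    intro i j hij g hg c hc
    have h1 : A j ≤ Subalgebra.centralizer F {(g : Matrix ι ι F)} := Algebra.adjoin_le (by
      rintro _ ⟨y, hy, rfl⟩
      rw [SetLike.mem_coe, Subalgebra.mem_centralizer_iff]
      rintro _ rfl
      simpa using congrArg Units.val (hcomm i j hij g hg y hy))
    exact (Subalgebra.mem_centralizer_iff F).1 (h1 hc) _ rfl
  have hAc : ∀ i j, i ≠ j → ∀ x ∈ A i, ∀ y ∈ A j, x * y = y * x := by
    intro i j hij x hx y hy
    have h1 : A i ≤ Subalgebra.centralizer F {y} := Algebra.adjoin_le (by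
      rintro _ ⟨g, hg, rfl⟩
      rw [SetLike.mem_coe, Subalgebra.mem_centralizer_iff]
      intro z hz
      rw [Set.mem_singleton_iff.1 hz]
      exact (hgc i j hij g hg y hy).symm)
    exact ((Subalgebra.mem_centralizer_iff F).1 (h1 hx) y rfl).symm
  have hcent : ∀ X : Matrix ι ι F, (∀ i, ∀ x ∈ A i, X * x = x * X) → ∃ c : F, X = c • (1 : Matrix ι ι F) := by
    intro X hX
    refine hJabs.commutant fun g hg => ?_
    induction hg using Subgroup.closure_induction with
    | mem g hg =>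
      obtain ⟨i, hi⟩ := Set.mem_iUnion.1 hg
      exact hX i _ (hgA i g hi)
    | one => simp
    | mul a b _ _ ha hb => rw [Units.val_mul, ← mul_assoc, ha, mul_assoc, hb, ← mul_assoc]
    | inv a _ ha =>
      calc X * ((a⁻¹ : GL ι F) : Matrix ι ι F)
          = ((a⁻¹ : GL ι F) : Matrix ι ι F) * ((a : Matrix ι ι F) * X) * ((a⁻¹ : GL ι F) : Matrix ι ι F) := by
            simp [← mul_assoc]
        _ = ((a⁻¹ : GL ι F) : Matrix ι ι F) * X := by rw [← ha]; simp [mul_assoc]
  have hφ : ∀ i, ∃ k, 0 < k ∧ Nonempty (Matrix (Fin k) (Fin k) F ≃ₐ[F] A i) := by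
    intro i
    refine exists_matrix_equiv (A i) (semisimple_of_comm (S := S) (fun W hW => hJabs.irred W ?_) ?_) ?_
    · intro g hg w hw
      refine (((Subgroup.closure_le _).2 ?_ : J ≤ subspaceStabilizer W) hg w).1 hw
      intro x hx v
      refine ⟨fun hv => hW x hx v hv, fun hv => ?_⟩
      obtain ⟨j, hj⟩ := Set.mem_iUnion.1 hx
      have := hW x⁻¹ (Set.mem_iUnion.2 ⟨j, (M j).inv_mem hj⟩) _ hv
      simpa [Matrix.mulVec_mulVec, ← Units.val_mul] using this
    · intro g hg
      obtain ⟨j, hj⟩ := Set.mem_iUnion.1 hg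
      by_cases hji : j = i
      · subst hji; exact Or.inl (hgA j g hj)
      · exact Or.inr fun c hc => hgc j i hji g hj c hc
    · intro x hx hxc
      refine hcent x fun j y hy => ?_
      by_cases hji : i = j
      · subst hji; exact hxc y hy
      · exact hAc i j hji x hx y hy
  choose k hk0 hk using hφ
  have hmapA : ∀ h i j, cj h (M i) = M j → (A i).map (conjAlg h).toAlgHom = A j := by
    intro h i j hij
    simp only [A, AlgHom.map_adjoin]
    congr 1
    ext y
    constructor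
    · rintro ⟨_, ⟨g, hg, rfl⟩, rfl⟩
      exact ⟨h * g * h⁻¹, hij ▸ cj_mem hg, by simp⟩
    · rintro ⟨g, hg, rfl⟩
      rw [← hij] at hg
      exact ⟨_, ⟨h⁻¹ * g * h, mem_cj.1 hg, rfl⟩, by simp [mul_assoc]⟩
  have hkk : ∀ i, k i = k i₀ := by
    intro i
    obtain ⟨h, -, hh⟩ := htrans i₀ i
    obtain ⟨φ⟩ := hk i
    obtain ⟨φ₀⟩ := hk i₀
    let e := ((φ₀.trans (((conjAlg h).subalgebraMap (A i₀)).trans (Subalgebra.equivOfEq _ _ (hmapA h i₀ i hh)))).trans
      φ.symm).toLinearEquiv.finrank_eq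
    simp only [Module.finrank_matrix, Module.finrank_self, Fintype.card_fin, mul_one] at e
    exact (Nat.mul_self_inj.1 e).symm
  obtain ⟨k₀, hk₀⟩ : ∃ k₀, k₀ = k i₀ := ⟨_, rfl⟩
  have hk00 : 0 < k₀ := hk₀ ▸ hk0 i₀
  have hφ' : ∀ i, Nonempty (Matrix (Fin k₀) (Fin k₀) F ≃ₐ[F] A i) := fun i => by
    rw [hk₀, ← hkk i]; exact hk i
  obtain ⟨φ⟩ := Classical.nonempty_pi.2 hφ'
  obtain ⟨e, P, hsites, helem⟩ := exists_sites (H := H) hk00 (by omega : 0 < t) A φ hAc hcent
  haveI : Nonempty (Fin k₀) := ⟨⟨0, hk00⟩⟩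
  have hk2 : 2 ≤ k₀ := by
    by_contra hlt
    have hk1 : k₀ = 1 := by omega
    apply hns i₀
    intro g hg
    have h2 : A i₀ = ⊥ := by
      refine Subalgebra.eq_bot_of_finrank_one ?_
      rw [← (φ i₀).toLinearEquiv.finrank_eq, Module.finrank_matrix, Module.finrank_self, Fintype.card_fin, hk1]
    have h1 := hgA i₀ g hg
    rw [h2] at h1
    obtain ⟨c, hc⟩ := Algebra.mem_bot.1 h1
    exact mem_scalars_of_comm (c := c) (by rw [← hc, Algebra.algebraMap_eq_smul_one])
  have hstar : ∀ i, StarClosed σ (gramMatrix f) (A i) := fun i =>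
    StarClosed.adjoin_group hf fun g hg => hI g (hfam.le i hg)
  choose b₀ hb₀ using fun i => exists_adj_inner hf (hstar i) (φ i)
  set Gt := gramP σ f e P with hGt
  let bb : Fin t → Matrix (Fin k₀) (Fin k₀) F := fun i => (b₀ i : Matrix (Fin k₀) (Fin k₀) F).map σ
  let bb' : Fin t → Matrix (Fin k₀) (Fin k₀) F := fun i => (((b₀ i)⁻¹ : GL (Fin k₀) F) : Matrix (Fin k₀) (Fin k₀) F).map σ
  have hbb : ∀ i, bb i * bb' i = 1 := fun i => by simp only [bb, bb']; rw [← map_mul_map, Units.mul_inv, map_one_mat]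
  have hbb' : ∀ i, bb' i * bb i = 1 := fun i => by simp only [bb, bb']; rw [← map_mul_map, Units.inv_mul, map_one_mat]
  have hrel : ∀ i Y, site i Y * Gt = Gt * site i (bb i * Y * bb' i) := by
    intro i Y
    have h := hb₀ i (Y.map σ)
    rw [hsites, hsites] at h
    have h1 := adj_coords hf e P h
    have e1 : ∀ X : Matrix (Fin k₀) (Fin k₀) F, (site i X).map σ = site i (X.map σ) := fun X => by
      simp only [site, pureMat_map]
      congr 1
      funext j
      by_cases hj : j = i <;> simp [hj]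
    have e2 : ∀ X : Matrix (Fin k₀) (Fin k₀) F, (site i X)ᵀ = site i Xᵀ := fun X => by
      simp only [site, pureMat_transpose]
      congr 1
      funext j
      by_cases hj : j = i <;> simp [hj]
    rw [e1, e2, ← Matrix.transpose_map, Matrix.transpose_transpose, map_map_invol hf.invol, map_mul_map,
      map_mul_map, map_map_invol hf.invol] at h1
    exact h1
  have hMb : ∀ i Y, site i Y * (Gt * pureMat bb) = (Gt * pureMat bb) * site i Y := by
    intro i Y
    rw [← mul_assoc, hrel, mul_assoc, mul_assoc]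
    simp only [site, pureMat_mul, mul_assoc]
    refine congrArg (fun V => Gt * pureMat V) (funext fun j => ?_)
    by_cases hj : j = i
    · subst hj; simp [mul_assoc, hbb']
    · simp [Function.update_of_ne hj]
  obtain ⟨c, hc⟩ := hcent ((P : Matrix ι ι F) * pull e (Gt * pureMat bb) * ((P⁻¹ : GL ι F) : Matrix ι ι F))
    fun i x hx => by
      obtain ⟨X, hX⟩ := (φ i).surjective ⟨x, hx⟩
      have hx' : x = (P : Matrix ι ι F) * pull e (site i X) * ((P⁻¹ : GL ι F) : Matrix ι ι F) := by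
        rw [← hsites, hX]
      rw [hx']
      simp only [mul_assoc, Units.inv_mul_cancel_left]
      simp only [← mul_assoc (pull e _) (pull e _), ← map_mul, hMb]
  have hGc : Gt = c • pureMat bb' := by
    have h1 : pull e (Gt * pureMat bb) = pull e (c • 1) := by
      rw [map_smul, map_one]
      have h := congrArg (fun M => ((P⁻¹ : GL ι F) : Matrix ι ι F) * M * (P : Matrix ι ι F)) hc
      simpa [mul_assoc] using h
    have h2 := congrArg (fun M => M * pureMat bb') (pull_injective (F := F) e h1)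
    simp only [mul_assoc, pureMat_mul, hbb, pureMat_one, mul_one, Matrix.smul_mul, one_mul] at h2
    exact h2
  have hc0 : c ≠ 0 := by
    intro h0
    have := gramP_det hf e P
    rw [← hGt, hGc, h0, zero_smul, Matrix.det_zero] at this
    exact not_isUnit_zero this
  have hbne : ∀ i, bb' i ≠ 0 := fun i h => by
    have := hbb' i
    rw [h, zero_mul] at this
    exact zero_ne_one this
  -- move every factor to the first one
  have hmove : ∀ j, ∃ b : GL (Fin k₀) F, ∃ l : F, l ≠ 0 ∧
      (b : Matrix (Fin k₀) (Fin k₀) F)ᵀ * bb' j * (b : Matrix (Fin k₀) (Fin k₀) F).map σ = l • bb' i₀ := by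
    intro j
    obtain ⟨h, hh, hij⟩ := htrans i₀ j
    obtain ⟨τ, hτ⟩ := hperm h hh
    have hτ0 : τ i₀ = j := by
      by_contra hne
      have h1 : M (τ i₀) = M j := (hτ i₀).symm.trans hij
      refine hns j fun x hx => ?_
      refine hJabs.scalar_of_comm fun y hy => ?_
      induction hy using Subgroup.closure_induction with
      | mem y hy =>
        obtain ⟨i, hi⟩ := Set.mem_iUnion.1 hy
        by_cases hij' : i = j
        · exact hcomm (τ i₀) i (fun h => hne (h.trans hij')) x (h1.symm ▸ hx) y hi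
        · exact hcomm j i (Ne.symm hij') x hx y hi
      | one => simp
      | mul a b _ _ ha hb => exact ((show Commute x a from ha).mul_right (show Commute x b from hb)).eq
      | inv a _ ha => exact ((show Commute x a from ha).inv_right).eq
    obtain ⟨gs, d, hd, hval⟩ := helem h hh τ fun i => hmapA h i (τ i) (hτ i)
    obtain ⟨l, hl, he⟩ := elem_similar hf hc0 hGc hbne (hI h hh) hd hval i₀
    rw [hτ0] at he
    exact ⟨gs j, l, hl, he⟩
  choose B lB hlB hB using hmove
  set G := bb' i₀ with hG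
  let P' : GL ι F := P * glReindex e.symm (pureUnit B)
  have hP' : (P' : Matrix ι ι F) = (P : Matrix ι ι F) * pull e (pureMat fun i => (B i : Matrix (Fin k₀) (Fin k₀) F)) := rfl
  have hgram : gramP σ f e P' = (c * ∏ i, lB i) • pureMat fun _ => G := by
    apply pull_injective (F := F) e
    rw [pull_gramP, hP', Matrix.transpose_mul, map_mul_map, pull_transpose, pull_map]
    have h1 := pull_gramP σ f e P
    rw [← hGt, hGc] at h1
    calc pull e (pureMat fun i => (B i : Matrix (Fin k₀) (Fin k₀) F))ᵀ * (P : Matrix ι ι F)ᵀ * gramMatrix f *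
          ((P : Matrix ι ι F).map σ * pull e ((pureMat fun i => (B i : Matrix (Fin k₀) (Fin k₀) F)).map σ))
        = pull e (pureMat fun i => (B i : Matrix (Fin k₀) (Fin k₀) F))ᵀ * ((P : Matrix ι ι F)ᵀ * gramMatrix f *
          (P : Matrix ι ι F).map σ) * pull e ((pureMat fun i => (B i : Matrix (Fin k₀) (Fin k₀) F)).map σ) := by
          simp only [mul_assoc]
      _ = _ := by
          rw [← h1, ← map_mul, ← map_mul, pureMat_transpose, pureMat_map, Matrix.mul_smul, Matrix.smul_mul,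
            pureMat_mul, pureMat_mul, ← smul_smul, ← pureMat_smul]
          simp only [hB]
  have hcne : c * ∏ i, lB i ≠ 0 := mul_ne_zero hc0 (Finset.prod_ne_zero_iff.2 fun i _ => hlB i)
  have helem' : ∀ h ∈ H, ∃ (τ : Equiv.Perm (Fin t)) (gs : Fin t → GL (Fin k₀) F) (d : F), d ≠ 0 ∧
      (h : Matrix ι ι F) = (P' : Matrix ι ι F) * pull e (d • (pureMat (fun i => (gs i : Matrix (Fin k₀) (Fin k₀) F)) *
        permMat τ)) * ((P'⁻¹ : GL ι F) : Matrix ι ι F) := by
    intro h hh
    obtain ⟨τ, hτ⟩ := hperm h hh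
    obtain ⟨gs, d, hd, hval⟩ := helem h hh τ fun i => hmapA h i (τ i) (hτ i)
    refine ⟨τ, fun i => (B i)⁻¹ * gs i * B (τ.symm i), d, hd, ?_⟩
    have hinv : ((P'⁻¹ : GL ι F) : Matrix ι ι F) =
        pull e (pureMat fun i => (((B i)⁻¹ : GL (Fin k₀) F) : Matrix (Fin k₀) (Fin k₀) F)) *
          ((P⁻¹ : GL ι F) : Matrix ι ι F) := by
      simp only [P', mul_inv_rev, ← map_inv, Units.val_mul]
      rfl
    rw [hval, hP', hinv, mul_assoc (P : Matrix ι ι F) (pull e (pureMat fun i => (B i : Matrix (Fin k₀) (Fin k₀) F))),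
      mul_assoc (P : Matrix ι ι F) (_ * _), ← mul_assoc (_ * _) (pull e _) ((P⁻¹ : GL ι F) : Matrix ι ι F),
      ← map_mul, ← map_mul]
    simp only [← mul_assoc, Matrix.mul_smul, Matrix.smul_mul]
    have e1 : pureMat (fun i => (B i : Matrix (Fin k₀) (Fin k₀) F)) *
        pureMat (fun i => (((B i)⁻¹ * gs i * B (τ.symm i) : GL (Fin k₀) F) : Matrix (Fin k₀) (Fin k₀) F)) *
        permMat τ * pureMat (fun i => (((B i)⁻¹ : GL (Fin k₀) F) : Matrix (Fin k₀) (Fin k₀) F)) =
        pureMat (fun i => (gs i : Matrix (Fin k₀) (Fin k₀) F)) * permMat τ := by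
      rw [mul_assoc (pureMat _ * pureMat _), permMat_pureMat, ← mul_assoc, pureMat_mul, pureMat_mul]
      congr 2
      funext i
      simp [mul_assoc]
    rw [e1]
  refine ⟨k₀, e, P', G, ?_⟩
  have hGd : IsUnit G.det := IsUnit.of_mul_eq_one (bb i₀).det (by rw [← Matrix.det_mul, hbb', Matrix.det_one])
  have hG0 : G ≠ 0 := hbne i₀
  have hs1 := gramP_symm hf e P'
  rw [hgram, Matrix.transpose_smul, map_smul_mat, pureMat_transpose, pureMat_map, smul_smul] at hs1
  set C := c * ∏ i, lB i with hC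
  have hs2 := congrArg (fun M => (σ C)⁻¹ • M) hs1
  have hσC : σ C ≠ 0 := by simpa using hcne
  simp only [smul_smul, inv_mul_cancel₀ hσC, one_smul] at hs2
  have hrne : (σ C)⁻¹ * (σ ε * C) ≠ 0 := mul_ne_zero (inv_ne_zero hσC) (mul_ne_zero (by simpa using hf.eps_ne) hcne)
  obtain ⟨l, hl0, hl, hprod⟩ := pure_factor (fun _ => hG0) hrne hs2
  have hsym : Gᵀ.map σ = l ⟨0, by omega⟩ • G := hl ⟨0, by omega⟩
  have hall : ∀ i, l i = l ⟨0, by omega⟩ := by
    intro i
    by_contra hne
    have h := (hl i).symm.trans (hl ⟨0, by omega⟩)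
    rw [← sub_eq_zero, ← sub_smul, smul_eq_zero, sub_eq_zero] at h
    exact h.elim hne hG0
  refine ⟨l ⟨0, by omega⟩, C, hk2, ht, ?_, hgram, hcne, hGd, hsym, sym_scalar hf.invol hG0 hsym, ?_, ?_⟩
  · intro h hh
    obtain ⟨τ, gs, d, hd, hval⟩ := helem' h hh
    let z : GL (Fin k₀) F := Units.map (Matrix.scalar (Fin k₀) : F →+* Matrix (Fin k₀) (Fin k₀) F).toMonoidHom
      (Units.mk0 d hd)
    let Z : GL (Fin t → Fin k₀) F := pureUnit (Function.update (fun _ => (1 : GL (Fin k₀) F)) ⟨0, by omega⟩ z)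
    have hZ : (Z : Matrix _ _ F) = d • (1 : Matrix (Fin t → Fin k₀) (Fin t → Fin k₀) F) := by
      have e1 : (fun i => ((Function.update (fun _ => (1 : GL (Fin k₀) F)) (⟨0, by omega⟩ : Fin t) z i :
          GL (Fin k₀) F) : Matrix (Fin k₀) (Fin k₀) F)) = fun i =>
          (if i = (⟨0, by omega⟩ : Fin t) then d else 1) • (1 : Matrix (Fin k₀) (Fin k₀) F) := by
        funext i
        by_cases hi : i = (⟨0, by omega⟩ : Fin t) <;>
          simp [hi, z, Matrix.scalar_apply, Matrix.smul_one_eq_diagonal]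
      show pureMat _ = _
      rw [e1, pureMat_smul, pureMat_one, Finset.prod_ite_eq' Finset.univ (⟨0, by omega⟩ : Fin t) (fun _ => d),
        if_pos (Finset.mem_univ _)]
    refine mem_conj_pull (Z * (pureUnit gs * permUnit τ))
      (Subgroup.mul_mem _ (pureUnit_mem _) (Subgroup.mul_mem _ (pureUnit_mem _) (permUnit_mem _))) ?_
    rw [hval, Units.val_mul Z, hZ, Matrix.smul_mul, one_mul]
    rfl
  · have hpow : l ⟨0, by omega⟩ ^ t = (σ C)⁻¹ * (σ ε * C) := by
      rw [← hprod, Finset.prod_congr rfl fun i _ => hall i, Finset.prod_const, Finset.card_univ, Fintype.card_fin]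
    rw [hpow, mul_inv_cancel_left₀ hσC]
  · intro h hh
    obtain ⟨τ, gs, d, hd, hval⟩ := helem' h hh
    refine ⟨τ, gs, d, hd, hval, fun i => ?_⟩
    have := elem_similar hf hcne hgram (fun _ => hG0) (hI h hh) hd hval (τ.symm i)
    simpa using this

end Cfsg.Agent.AschFormWreath
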