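import Mathlib
import Cfsg.Prelude.Def_Classical
import Cfsg.Prelude.Def_ClassicalGeometry
import Cfsg.Agent.Lib.SymplecticBasic
import Cfsg.Agent.Lib.SymplecticAlt
import Cfsg.Agent.Lib.QuadClassify

/-!
Congruence of symmetric and alternating matrices over finite fields: the normal forms.
-/

set_option autoImplicit false

open Matrix

namespace Cfsg.Agent.FormCongruence

variable {F : Type*} [Field F] {ι κ μ : Type*} [Fintype ι] [Fintype κ] [Fintype μ] [DecidableEq ι] [DecidableEq κ] [DecidableEq μ]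

/-- `A` is congruent to `N` (the index types may differ). -/
def Congr (A : Matrix κ κ F) (N : Matrix ι ι F) : Prop :=
  ∃ (T : Matrix ι κ F) (T' : Matrix κ ι F), T * T' = 1 ∧ T' * T = 1 ∧ A = Tᵀ * N * T

/-- `A` is congruent to a non-zero multiple of `N`. -/
def CongrS (A : Matrix κ κ F) (N : Matrix ι ι F) : Prop :=
  ∃ u : F, u ≠ 0 ∧ Congr A (u • N)

lemma Congr.symm {A : Matrix κ κ F} {N : Matrix ι ι F} (h : Congr A N) : Congr N A := by
  obtain ⟨T, T', h1, h2, h3⟩ := h
  refine ⟨T', T, h2, h1, ?_⟩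
  rw [h3]
  have : T'ᵀ * Tᵀ = 1 := by rw [← transpose_mul, h1, transpose_one]
  calc N = (T'ᵀ * Tᵀ) * N * (T * T') := by rw [this, h1, Matrix.one_mul, Matrix.mul_one]
    _ = _ := by simp only [Matrix.mul_assoc]

lemma Congr.trans {A : Matrix κ κ F} {N : Matrix ι ι F} {M : Matrix μ μ F} (h : Congr A N) (h' : Congr N M) :
    Congr A M := by
  obtain ⟨T, T', h1, h2, rfl⟩ := h
  obtain ⟨S, S', k1, k2, rfl⟩ := h'
  refine ⟨S * T, T' * S', ?_, ?_, ?_⟩
  · calc S * T * (T' * S') = S * (T * T') * S' := by simp only [Matrix.mul_assoc]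
      _ = 1 := by rw [h1, Matrix.mul_one, k1]
  · calc T' * S' * (S * T) = T' * (S' * S) * T := by simp only [Matrix.mul_assoc]
      _ = 1 := by rw [k2, Matrix.mul_one, h2]
  · rw [transpose_mul]; simp only [Matrix.mul_assoc]

lemma Congr.smul {A : Matrix κ κ F} {N : Matrix ι ι F} (h : Congr A N) (u : F) : Congr (u • A) (u • N) := by
  obtain ⟨T, T', h1, h2, rfl⟩ := h
  exact ⟨T, T', h1, h2, by rw [Matrix.mul_smul, Matrix.smul_mul]⟩

omit [DecidableEq ι] in
lemma Congr.symm_of_symm {A : Matrix κ κ F} {N : Matrix ι ι F} [DecidableEq ι] (h : Congr A N) (hN : Nᵀ = N) : Aᵀ = A := by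
  obtain ⟨T, T', -, -, rfl⟩ := h
  rw [transpose_mul, transpose_mul, transpose_transpose, hN, Matrix.mul_assoc]

lemma CongrS.trans_congr {A : Matrix κ κ F} {N : Matrix ι ι F} {M : Matrix μ μ F} (h : Congr A N) (h' : CongrS N M) :
    CongrS A M := by
  obtain ⟨u, hu, h'⟩ := h'
  exact ⟨u, hu, h.trans h'⟩

/-- Congruence from a family of vectors with the given Gram matrix. -/
lemma congr_of_gram {A : Matrix κ κ F} {N : Matrix ι ι F} (T' : Matrix κ ι F) (h : T'ᵀ * A * T' = N)
    (hN : N.det ≠ 0) (hc : Fintype.card κ = Fintype.card ι) : Congr A N := by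
  have hinj : Function.Injective T'.mulVecLin := by
    rw [← LinearMap.ker_eq_bot, LinearMap.ker_eq_bot']
    intro v hv
    have : N *ᵥ v = 0 := by
      rw [← h, ← Matrix.mulVec_mulVec, show T' *ᵥ v = 0 from hv, Matrix.mulVec_zero]
    exact eq_zero_of_mulVec_eq_zero hN this
  let φ : (ι → F) ≃ₗ[F] (κ → F) :=
    LinearMap.linearEquivOfInjective T'.mulVecLin hinj (by simp [hc])
  let T : Matrix ι κ F := LinearMap.toMatrix' φ.symm.toLinearMap
  have hT' : T' = LinearMap.toMatrix' φ.toLinearMap := by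
    conv_lhs => rw [← LinearMap.toMatrix'_toLin' T']
    congr 1
  have h1 : T * T' = 1 := by
    rw [hT', ← LinearMap.toMatrix'_comp, ← LinearMap.toMatrix'_id]
    congr 1
    exact LinearMap.ext φ.symm_apply_apply
  have h2 : T' * T = 1 := by
    rw [hT', ← LinearMap.toMatrix'_comp, ← LinearMap.toMatrix'_id]
    congr 1
    exact LinearMap.ext φ.apply_symm_apply
  refine ⟨T, T', h1, h2, ?_⟩
  rw [← h]
  have : Tᵀ * T'ᵀ = 1 := by rw [← transpose_mul, h2, transpose_one]
  calc A = (Tᵀ * T'ᵀ) * A * (T' * T) := by rw [this, h2, Matrix.one_mul, Matrix.mul_one]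
    _ = _ := by simp only [Matrix.mul_assoc]

lemma gram_apply (T' : Matrix κ ι F) (A : Matrix κ κ F) (s t : ι) :
    (T'ᵀ * A * T') s t = T'ᵀ s ⬝ᵥ (A *ᵥ T'ᵀ t) := by
  rw [Matrix.mul_assoc, Matrix.mul_apply]
  refine Finset.sum_congr rfl fun k _ => ?_
  congr 1

lemma Congr.card_eq {A : Matrix κ κ F} {N : Matrix ι ι F} (h : Congr A N) : Fintype.card ι = Fintype.card κ := by
  obtain ⟨T, T', h1, h2, -⟩ := h
  refine le_antisymm ?_ ?_
  · have := Matrix.rank_mul_le_right T T'
    rw [h1, Matrix.rank_one] at this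
    exact le_trans this (Matrix.rank_le_card_height T')
  · have := Matrix.rank_mul_le_right T' T
    rw [h2, Matrix.rank_one] at this
    exact le_trans this (Matrix.rank_le_card_height T)

/-- Congruent matrices have determinants in the same square class. -/
lemma Congr.det_eq {A : Matrix κ κ F} {N : Matrix ι ι F} (h : Congr A N) : ∃ s : F, s ≠ 0 ∧ A.det = s ^ 2 * N.det := by
  let e : ι ≃ κ := Fintype.equivOfCardEq h.card_eq
  obtain ⟨T, T', h1, h2, rfl⟩ := h
  refine ⟨(T.submatrix id e).det, fun h0 => ?_, ?_⟩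
  · have : (T.submatrix id e) * (T'.submatrix e id) = 1 := by rw [submatrix_mul_equiv, h1, submatrix_id_id]
    have := congrArg Matrix.det this
    rw [det_mul, h0, zero_mul, det_one] at this
    exact zero_ne_one this
  · have : (Tᵀ * N * T).submatrix e e = (T.submatrix id e)ᵀ * N * T.submatrix id e := by
      rw [transpose_submatrix]
      conv_rhs => rw [← submatrix_id_id N, ← submatrix_mul _ _ _ id _ Function.bijective_id,
        ← submatrix_mul _ _ _ id _ Function.bijective_id]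
    rw [← det_submatrix_equiv_self e, this, det_mul, det_mul, det_transpose]
    ring

/-- Congruence preserves being alternating. -/
lemma Congr.alternating {A : Matrix κ κ F} {N : Matrix ι ι F} (h : Congr A N) (hN : ∀ v, v ⬝ᵥ (N *ᵥ v) = 0) :
    ∀ v, v ⬝ᵥ (A *ᵥ v) = 0 := by
  obtain ⟨T, T', -, -, rfl⟩ := h
  intro v
  rw [← mulVec_mulVec, ← mulVec_mulVec, dotProduct_mulVec v, vecMul_transpose]
  exact hN _

lemma Congr.skew {A : Matrix κ κ F} {N : Matrix ι ι F} (h : Congr A N) (hN : Nᵀ = -N) : Aᵀ = -A := by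
  obtain ⟨T, T', -, -, rfl⟩ := h
  rw [transpose_mul, transpose_mul, transpose_transpose, hN, Matrix.neg_mul, Matrix.mul_neg, Matrix.mul_assoc]

/-- A matrix is the Gram matrix of the standard vectors. -/
lemma ext_form {N M : Matrix ι ι F} (h : ∀ v w, v ⬝ᵥ (N *ᵥ w) = v ⬝ᵥ (M *ᵥ w)) : N = M := by
  ext i j
  simpa [mulVec_single_one] using h (Pi.single i 1) (Pi.single j 1)

/-- Congruence from an isometry of bilinear forms. -/
lemma congr_of_equiv {A : Matrix κ κ F} {N : Matrix ι ι F} (φ : (κ → F) ≃ₗ[F] (ι → F))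
    (h : ∀ v w, v ⬝ᵥ (A *ᵥ w) = φ v ⬝ᵥ (N *ᵥ φ w)) : Congr A N := by
  refine ⟨LinearMap.toMatrix' φ.toLinearMap, LinearMap.toMatrix' φ.symm.toLinearMap, ?_, ?_, ext_form fun v w => ?_⟩
  · rw [← LinearMap.toMatrix'_comp, ← LinearMap.toMatrix'_id]
    congr 1
    exact LinearMap.ext φ.apply_symm_apply
  · rw [← LinearMap.toMatrix'_comp, ← LinearMap.toMatrix'_id]
    congr 1
    exact LinearMap.ext φ.symm_apply_apply
  · rw [h, ← Matrix.mulVec_mulVec, ← Matrix.mulVec_mulVec, dotProduct_mulVec v, vecMul_transpose,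
      LinearMap.toMatrix'_mulVec, LinearMap.toMatrix'_mulVec]
    rfl

/-- A matrix has vanishing quadratic form iff it is alternating. -/
lemma quad_zero_iff (C : Matrix ι ι F) :
    (∀ v : ι → F, v ⬝ᵥ (C *ᵥ v) = 0) ↔ (∀ i, C i i = 0) ∧ ∀ i j, C i j + C j i = 0 := by
  constructor
  · intro h
    have hd : ∀ i, C i i = 0 := fun i => by simpa [single_dotProduct] using h (Pi.single i 1)
    refine ⟨hd, fun i j => ?_⟩
    have := h (Pi.single i 1 + Pi.single j 1)
    simp [mulVec_add, add_dotProduct, dotProduct_add, hd] at this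
    linear_combination this
  · rintro ⟨hd, hs⟩ v
    let _ : LinearOrder ι := LinearOrder.lift' (Fintype.equivFin ι) (Fintype.equivFin ι).injective
    let U : Matrix ι ι F := Matrix.of fun i j => if i < j then C i j else 0
    have hC : C = U - Uᵀ := by
      ext i j
      simp only [U, Matrix.sub_apply, Matrix.of_apply, Matrix.transpose_apply]
      rcases lt_trichotomy i j with h | h | h
      · simp [h, h.not_gt]
      · subst h; simp [hd]
      · simp [h, h.not_gt]
        linear_combination hs i j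
    rw [hC, Matrix.sub_mulVec, dotProduct_sub, sub_eq_zero]
    conv_rhs => rw [mulVec_transpose, dotProduct_comm, ← dotProduct_mulVec]

/-! ### The normal forms -/

/-- Polar matrix of `Σ xᵢ yᵢ`. -/
def pPlus (m : ℕ) (F : Type*) [Field F] : Matrix (Fin m ⊕ Fin m) (Fin m ⊕ Fin m) F := Matrix.fromBlocks 0 1 1 0

/-- Polar matrix of `Σ xᵢ yᵢ + z₁² + a z₁ z₂ + b z₂²`. -/
def pMinus (m : ℕ) (F : Type*) [Field F] (a b : F) : Matrix ((Fin m ⊕ Fin m) ⊕ Fin 2) ((Fin m ⊕ Fin m) ⊕ Fin 2) F :=
  Matrix.fromBlocks (pPlus m F) 0 0 !![2, a; a, 2 * b]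

/-- Polar matrix of `x₀² + Σ xᵢ yᵢ`. -/
def pOdd (m : ℕ) (F : Type*) [Field F] : Matrix (Unit ⊕ (Fin m ⊕ Fin m)) (Unit ⊕ (Fin m ⊕ Fin m)) F :=
  Matrix.fromBlocks ((2 : F) • 1) 0 0 (pPlus m F)

lemma pPlus_transpose (m : ℕ) : (pPlus m F)ᵀ = pPlus m F := by
  simp [pPlus, Matrix.fromBlocks_transpose]

lemma pMinus_transpose (m : ℕ) (a b : F) : (pMinus m F a b)ᵀ = pMinus m F a b := by
  rw [pMinus, Matrix.fromBlocks_transpose, pPlus_transpose, transpose_zero, transpose_zero]
  congr 1
  ext i j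
  fin_cases i <;> fin_cases j <;> rfl

lemma pPlus_mulVec (m : ℕ) (v w : Fin m ⊕ Fin m → F) :
    v ⬝ᵥ (pPlus m F *ᵥ w) = ∑ i, (v (.inl i) * w (.inr i) + v (.inr i) * w (.inl i)) := by
  simp [pPlus, Matrix.fromBlocks_mulVec, dotProduct, Fintype.sum_sum_type, Finset.sum_add_distrib]

lemma polar_plus (m : ℕ) (v w : Fin m ⊕ Fin m → F) :
    quadFormPlus m F (v + w) - quadFormPlus m F v - quadFormPlus m F w = v ⬝ᵥ (pPlus m F *ᵥ w) := by
  simp only [pPlus_mulVec, quadFormPlus, Pi.add_apply, ← Finset.sum_sub_distrib]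
  exact Finset.sum_congr rfl fun i _ => by ring

lemma polar_minus (m : ℕ) (a b : F) (v w : (Fin m ⊕ Fin m) ⊕ Fin 2 → F) :
    quadFormMinus m F a b (v + w) - quadFormMinus m F a b v - quadFormMinus m F a b w = v ⬝ᵥ (pMinus m F a b *ᵥ w) := by
  have h := polar_plus m (v ∘ Sum.inl) (w ∘ Sum.inl)
  simp only [quadFormPlus, Function.comp_apply, Pi.add_apply] at h
  simp only [quadFormMinus, Pi.add_apply, pMinus, Matrix.fromBlocks_mulVec, dotProduct, Fintype.sum_sum_type,
    Fin.sum_univ_two, Sum.elim_inl, Sum.elim_inr, Matrix.zero_mulVec, add_zero, zero_add]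
  simp only [dotProduct, Fintype.sum_sum_type, Function.comp_apply] at h
  rw [← h]
  simp [Matrix.mulVec, dotProduct, Fin.sum_univ_two]
  ring

lemma polar_odd (m : ℕ) (v w : Unit ⊕ (Fin m ⊕ Fin m) → F) :
    quadFormOdd m F (v + w) - quadFormOdd m F v - quadFormOdd m F w = v ⬝ᵥ (pOdd m F *ᵥ w) := by
  have h := polar_plus m (v ∘ Sum.inr) (w ∘ Sum.inr)
  simp only [quadFormPlus, Function.comp_apply, Pi.add_apply] at h
  simp only [quadFormOdd, Pi.add_apply, pOdd, Matrix.fromBlocks_mulVec, dotProduct, Fintype.sum_sum_type,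
    Sum.elim_inl, Sum.elim_inr, Matrix.zero_mulVec, add_zero, zero_add]
  simp only [dotProduct, Fintype.sum_sum_type, Function.comp_apply] at h
  rw [← h]
  simp [Matrix.mulVec, dotProduct]
  ring

lemma det_pPlus (m : ℕ) : (pPlus m F).det = (-1) ^ m := by
  have h : Matrix.fromBlocks (1 : Matrix (Fin m) (Fin m) F) 1 0 1 * pPlus m F = Matrix.fromBlocks 1 1 1 0 := by
    simp [pPlus, Matrix.fromBlocks_multiply]
  have := congrArg Matrix.det h
  rw [det_mul, det_fromBlocks_zero₂₁, det_one, one_mul, one_mul, det_fromBlocks_one₁₁] at this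
  rw [this]
  simp [Matrix.det_neg]

lemma det_pMinus (m : ℕ) (a b : F) : (pMinus m F a b).det = (-1) ^ (m + 1) * (a ^ 2 - 4 * b) := by
  rw [pMinus, det_fromBlocks_zero₂₁, det_pPlus, det_fin_two_of, pow_succ]
  ring

lemma det_pOdd (m : ℕ) : (pOdd m F).det = 2 * (-1) ^ m := by
  rw [pOdd, det_fromBlocks_zero₂₁, det_pPlus]
  simp

lemma det_J_ne_zero (m : ℕ) : (Matrix.J (Fin m) F).det ≠ 0 := (Matrix.isUnit_det_J _ _).ne_zero

lemma disc_not_square (h2 : (2 : F) ≠ 0) {a b : F}
    (hab : ∀ z₁ z₂ : F, z₁ ^ 2 + a * z₁ * z₂ + b * z₂ ^ 2 = 0 → z₁ = 0 ∧ z₂ = 0) : ¬ IsSquare (a ^ 2 - 4 * b) := by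
  rintro ⟨r, hr⟩
  have := hab ((-a + r) / 2) 1 (by field_simp; linear_combination -hr)
  exact one_ne_zero this.2

lemma exists_aniso [Finite F] (h2 : (2 : F) ≠ 0) :
    ∃ a b : F, ∀ z₁ z₂ : F, z₁ ^ 2 + a * z₁ * z₂ + b * z₂ ^ 2 = 0 → z₁ = 0 ∧ z₂ = 0 := by
  cases nonempty_fintype F
  obtain ⟨d, hd⟩ := FiniteField.exists_nonsquare (F := F) (fun h => h2 (by
    have := ringChar.charP (R := F)
    rw [h] at this
    exact CharTwo.two_eq_zero))
  refine ⟨0, -d, fun z₁ z₂ h => ?_⟩
  rcases eq_or_ne z₂ 0 with rfl | hz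
  · exact ⟨(pow_eq_zero_iff two_ne_zero).1 (by linear_combination h), rfl⟩
  · exact absurd ⟨z₁ / z₂, by field_simp; linear_combination -h⟩ hd

/-- A product of two non-squares is a square. -/
lemma isSquare_mul_of_not [Finite F] (h2 : (2 : F) ≠ 0) {x y : F} (hx : ¬ IsSquare x) (hy : ¬ IsSquare y) :
    IsSquare (x * y) := by
  classical
  cases nonempty_fintype F
  have hF : ringChar F ≠ 2 := fun h => h2 (by
    have := ringChar.charP (R := F)
    rw [h] at this
    exact CharTwo.two_eq_zero)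
  have hx0 : x ≠ 0 := fun e => hx (e ▸ IsSquare.zero)
  have hy0 : y ≠ 0 := fun e => hy (e ▸ IsSquare.zero)
  rw [← quadraticChar_one_iff_isSquare (mul_ne_zero hx0 hy0), map_mul,
    quadraticChar_neg_one_iff_not_isSquare.2 hx, quadraticChar_neg_one_iff_not_isSquare.2 hy]
  rfl

/-! ### The classification -/

section Classify
variable [Finite F] {n : ℕ}

/-- The quadratic form of a matrix. -/
noncomputable abbrev qf (A : Matrix (Fin n) (Fin n) F) : QuadraticForm F (Fin n → F) := A.toQuadraticMap'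

lemma qf_apply (A : Matrix (Fin n) (Fin n) F) (v : Fin n → F) : qf A v = v ⬝ᵥ (A *ᵥ v) := by
  simp [qf, Matrix.toQuadraticMap', Matrix.toQuadraticForm', Matrix.toLinearMap₂'_apply']

lemma polar_qf {A : Matrix (Fin n) (Fin n) F} (hA : Aᵀ = A) (v w : Fin n → F) :
    QuadraticMap.polar (qf A) v w = 2 * (v ⬝ᵥ (A *ᵥ w)) := by
  have : w ⬝ᵥ (A *ᵥ v) = v ⬝ᵥ (A *ᵥ w) := by
    rw [dotProduct_mulVec, ← mulVec_transpose, hA, dotProduct_comm]
  simp only [QuadraticMap.polar, qf_apply, mulVec_add, add_dotProduct, dotProduct_add, this]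
  ring

lemma qf_nondeg (h2 : (2 : F) ≠ 0) {A : Matrix (Fin n) (Fin n) F} (hA : Aᵀ = A) (hd : A.det ≠ 0) :
    (QuadraticMap.polarBilin (qf A)).Nondegenerate := by
  have hs : ∀ v, (∀ w, QuadraticMap.polar (qf A) v w = 0) → v = 0 := by
    intro v hv
    refine Matrix.eq_zero_of_vecMul_eq_zero hd (funext fun i => ?_)
    have := hv (Pi.single i 1)
    rw [polar_qf hA, mul_eq_zero, or_iff_right h2, dotProduct_mulVec, dotProduct_single, mul_one] at this
    exact this
  exact ⟨fun v hv => hs v hv, fun v hv => hs v fun w => by rw [QuadraticMap.polar_comm]; exact hv w⟩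

/-- Symmetric matrices of even size, in odd characteristic. -/
theorem classify_even (h2 : (2 : F) ≠ 0) {m : ℕ} (hn : n = 2 * m) {a b : F}
    (hab : ∀ z₁ z₂ : F, z₁ ^ 2 + a * z₁ * z₂ + b * z₂ ^ 2 = 0 → z₁ = 0 ∧ z₂ = 0)
    {A : Matrix (Fin n) (Fin n) F} (hA : Aᵀ = A) (hd : A.det ≠ 0) :
    Congr ((2 : F) • A) (pPlus m F) ∨ Congr ((2 : F) • A) (pMinus (m - 1) F a b) := by
  obtain ⟨k, e, f, W, hdec, hW⟩ := QuadClassify.exists_decomp (qf A) (qf_nondeg h2 hA hd)
  have hdim := hdec.2.2.2.2.2.1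
  rw [finrank_top, Module.finrank_fin_fun] at hdim
  have hpol : ∀ v w, v ⬝ᵥ (((2 : F) • A) *ᵥ w) = qf A (v + w) - qf A v - qf A w := by
    intro v w
    rw [smul_mulVec, dotProduct_smul, smul_eq_mul, ← polar_qf hA]
    rfl
  rcases (show Module.finrank F W = 0 ∨ Module.finrank F W = 2 by omega) with h0 | h0
  · left
    obtain rfl : k = m := by omega
    obtain ⟨g, hg⟩ := QuadClassify.iso_plus (qf A) hdec.1 (by rw [Module.finrank_fin_fun]; omega)
    refine congr_of_equiv g fun v w => ?_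
    rw [hpol, ← polar_plus, ← hg, ← hg, ← hg, map_add]
  · right
    obtain rfl : k = m - 1 := by omega
    obtain ⟨g, hg⟩ := QuadClassify.iso_minus (qf A) hdec h0 hab
    refine congr_of_equiv g fun v w => ?_
    rw [hpol, ← polar_minus, ← hg, ← hg, ← hg, map_add]

/-- Symmetric matrices of odd size, in odd characteristic. -/
theorem classify_odd (h2 : (2 : F) ≠ 0) {m : ℕ} (hn : n = 2 * m + 1) {A : Matrix (Fin n) (Fin n) F}
    (hA : Aᵀ = A) (hd : A.det ≠ 0) : CongrS A (pOdd m F) := by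
  obtain ⟨k, e, f, W, hdec, hW⟩ := QuadClassify.exists_decomp (qf A) (qf_nondeg h2 hA hd)
  obtain ⟨hH, -, -, -, horth, hdim, han, -⟩ := hdec
  rw [finrank_top, Module.finrank_fin_fun] at hdim
  have h1 : Module.finrank F W = 1 := by omega
  obtain rfl : k = m := by omega
  obtain ⟨⟨w, hwW⟩, hw0, -⟩ := finrank_eq_one_iff'.mp h1
  have hw : w ≠ 0 := fun e => hw0 (Subtype.ext e)
  set c := qf A w with hc
  have hc0 : c ≠ 0 := fun e => hw (han w hwW e)
  obtain ⟨B, -, -, -, hval⟩ := hH.exists_basis (ι := Unit) (z := fun _ => w)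
    (linearIndependent_unique_iff.mpr hw) (fun i _ => (horth i w hwW).1) (fun i _ => (horth i w hwW).2)
    (by rw [Module.finrank_fin_fun, Fintype.card_unit]; omega)
  let φ : (Fin n → F) ≃ₗ[F] (Unit ⊕ (Fin k ⊕ Fin k) → F) :=
    B.equivFun.trans
      { toFun := fun z => Sum.elim (fun _ => z (.inr ()))
          (Sum.elim (fun i => c⁻¹ * z (.inl (.inl i))) (fun i => z (.inl (.inr i))))
        map_add' := fun u v => by ext (i | i | i) <;> simp [mul_add]
        map_smul' := fun r u => by ext (i | i | i) <;> simp [mul_left_comm]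
        invFun := fun z => Sum.elim (Sum.elim (fun i => c * z (.inr (.inl i))) (fun i => z (.inr (.inr i))))
          (fun _ => z (.inl ()))
        left_inv := fun z => by ext ((i | i) | i) <;> simp [hc0]
        right_inv := fun z => by ext (i | i | i) <;> simp [hc0] }
  have hφ : ∀ v, quadFormOdd k F (φ v) = c⁻¹ * qf A v := by
    intro v
    rw [hval v]
    simp [φ, quadFormOdd, Finset.mul_sum, mul_add, mul_assoc, QuadraticMap.map_smul, ← hc]
    field_simp
    ring
  refine ⟨c / 2, div_ne_zero hc0 h2, congr_of_equiv φ fun v u => ?_⟩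
  rw [smul_mulVec, dotProduct_smul, ← polar_odd, ← map_add, hφ, hφ, hφ]
  have hp : qf A (v + u) - qf A v - qf A u = 2 * (v ⬝ᵥ (A *ᵥ u)) := polar_qf hA v u
  rw [smul_eq_mul, ← mul_sub, ← mul_sub, hp]
  field_simp

end Classify

section Alternating
variable {n : ℕ}

omit [Fintype ι] [Fintype κ] in
lemma sympForm_single (m : ℕ) (s t : Fin m ⊕ Fin m) :
    sympForm m F (Pi.single s 1) (Pi.single t 1) = Matrix.J (Fin m) F s t := by
  simp [sympForm, mulVec_single_one]

/-- Non-degenerate alternating matrices. -/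
theorem classify_alt {A : Matrix (Fin n) (Fin n) F} (halt : ∀ v, v ⬝ᵥ (A *ᵥ v) = 0) (hd : A.det ≠ 0) :
    ∃ m, n = 2 * m ∧ Congr A (Matrix.J (Fin m) F) := by
  have hB : ∀ v, Matrix.toLinearMap₂' F A v v = 0 := fun v => by rw [Matrix.toLinearMap₂'_apply']; exact halt v
  obtain ⟨k, hk, e, -, he⟩ := SymplecticAlt.exists_symp_basis _ hB n ⊤ (by simp) (fun u _ h => by
    refine Matrix.eq_zero_of_vecMul_eq_zero hd (funext fun i => ?_)
    have := h (Pi.single i 1) trivial
    rw [Matrix.toLinearMap₂'_apply', dotProduct_mulVec, dotProduct_single, mul_one] at this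
    exact this)
  refine ⟨k, hk, congr_of_gram (Matrix.of fun a s => e s a) ?_ (det_J_ne_zero k) (by simp; omega)⟩
  ext s t
  rw [gram_apply, ← sympForm_single, ← he, Matrix.toLinearMap₂'_apply']
  rfl

/-- The form `[1] ⊕ J`. -/
def nOdd (m : ℕ) (F : Type*) [Field F] : Matrix (Unit ⊕ (Fin m ⊕ Fin m)) (Unit ⊕ (Fin m ⊕ Fin m)) F :=
  Matrix.fromBlocks 1 0 0 (Matrix.J (Fin m) F)

/-- The form `J` with one diagonal entry. -/
def nNonAlt (k : ℕ) (F : Type*) [Field F] : Matrix (Fin (k + 1) ⊕ Fin (k + 1)) (Fin (k + 1) ⊕ Fin (k + 1)) F :=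
  Matrix.J (Fin (k + 1)) F + Matrix.vecMulVec (Pi.single (.inl 0) 1) (Pi.single (.inl 0) 1)

lemma det_nOdd_ne_zero (m : ℕ) : (nOdd m F).det ≠ 0 := by
  rw [nOdd, det_fromBlocks_zero₂₁, det_one, one_mul]
  exact det_J_ne_zero m

lemma nNonAlt_mulVec (k : ℕ) (v w : Fin (k + 1) ⊕ Fin (k + 1) → F) :
    v ⬝ᵥ (nNonAlt k F *ᵥ w) = sympForm (k + 1) F v w + v (.inl 0) * w (.inl 0) := by
  simp [nNonAlt, sympForm, add_mulVec, vecMulVec_mulVec, mul_comm]

lemma det_nNonAlt_ne_zero (k : ℕ) : (nNonAlt k F).det ≠ 0 := by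
  intro h
  obtain ⟨v, hv0, hv⟩ := Matrix.exists_mulVec_eq_zero_iff.2 h
  refine hv0 ?_
  have hi : v (.inl 0) = 0 := by
    have := congrArg (fun z => (Pi.single (.inr 0) 1 : Fin (k + 1) ⊕ Fin (k + 1) → F) ⬝ᵥ z) hv
    simp only [nNonAlt_mulVec, dotProduct_zero] at this
    simpa [SymplecticBasic.form_eq_sum, Pi.single_apply, Finset.sum_ite_eq'] using this
  refine SymplecticBasic.form_nondeg fun w => ?_
  have := congrArg (fun z => w ⬝ᵥ z) hv
  simp only [nNonAlt_mulVec, dotProduct_zero, hi, mul_zero, add_zero] at this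
  rw [SymplecticBasic.form_swap w v, this, neg_zero]

variable [Finite F] [CharP F 2]

/-- Non-alternating symmetric matrices in characteristic two. -/
theorem classify_two {A : Matrix (Fin n) (Fin n) F} (hA : Aᵀ = A) (hd : A.det ≠ 0) :
    (∀ v, v ⬝ᵥ (A *ᵥ v) = 0) ∨ (∃ m, n = 2 * m + 1 ∧ Congr A (nOdd m F)) ∨
      ∃ k, n = 2 * (k + 1) ∧ Congr A (nNonAlt k F) := by
  have h2 : (2 : F) = 0 := CharTwo.two_eq_zero
  choose w hw using fun i => QuadClassify.isSquare_of_two_eq_zero h2 (A i i)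
  obtain ⟨e, hAe⟩ : ∃ e, A *ᵥ e = w :=
    ⟨A⁻¹ *ᵥ w, by rw [mulVec_mulVec, Matrix.mul_nonsing_inv _ hd.isUnit, one_mulVec]⟩
  set B : (Fin n → F) →ₗ[F] (Fin n → F) →ₗ[F] F := Matrix.toLinearMap₂' F A with hBdef
  have hB : ∀ u v, B u v = u ⬝ᵥ (A *ᵥ v) := fun u v => by rw [hBdef, Matrix.toLinearMap₂'_apply']
  have hsym : ∀ u v, B u v = B v u := fun u v => by
    rw [hB, hB, dotProduct_mulVec, ← mulVec_transpose, hA, dotProduct_comm]
  have hsq : ∀ v, B v v = B v e * B v e := by
    intro v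
    rw [hB, hB, hAe]
    have h := (quad_zero_iff (A + vecMulVec w w)).2 ⟨fun i => by
        rw [Matrix.add_apply, vecMulVec_apply, hw i, CharTwo.add_self_eq_zero],
      fun i j => by
        have : A j i = A i j := congrFun (congrFun hA i) j
        rw [Matrix.add_apply, Matrix.add_apply, vecMulVec_apply, vecMulVec_apply, this, mul_comm (w j)]
        exact CharTwo.add_self_eq_zero _⟩ v
    rw [add_mulVec, dotProduct_add, vecMulVec_mulVec, dotProduct_smul, CharTwo.add_eq_zero] at h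
    rw [h, dotProduct_comm w v]
    simp
  have hnd : ∀ u, (∀ v, B u v = 0) → u = 0 := fun u h => by
    refine Matrix.eq_zero_of_vecMul_eq_zero hd (funext fun i => ?_)
    have := h (Pi.single i 1)
    rw [hB, dotProduct_mulVec, dotProduct_single, mul_one] at this
    exact this
  let ω : (Fin n → F) →ₗ[F] F := B.flip e
  have hω : ∀ v, ω v = B v e := fun v => rfl
  let B' : (Fin n → F) →ₗ[F] (Fin n → F) →ₗ[F] F := B + ω.smulRight ω
  have hB' : ∀ u v, B' u v = B u v + B u e * B v e := fun u v => by simp [B', hω]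
  have hB'alt : ∀ v, B' v v = 0 := fun v => by rw [hB', hsq, CharTwo.add_self_eq_zero]
  rcases eq_or_ne e 0 with rfl | he0
  · left
    intro v
    rw [← hB, hsq, map_zero, mul_zero]
  right
  rcases eq_or_ne (B e e) 0 with hee | hee
  · right
    have hB'nd : ∀ u ∈ (⊤ : Submodule F (Fin n → F)), (∀ v ∈ (⊤ : Submodule F (Fin n → F)), B' u v = 0) → u = 0 := by
      intro u _ h
      have h1 : u + B u e • e = 0 := hnd _ fun v => by
        rw [map_add, map_smul, LinearMap.add_apply, LinearMap.smul_apply, smul_eq_mul, hsym e v, ← hB']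
        exact h v trivial
      have h3 : B u e = 0 := by
        have := congrArg (fun x => B x e) h1
        simp only [map_add, map_smul, map_zero, LinearMap.add_apply, LinearMap.smul_apply, LinearMap.zero_apply,
          smul_eq_mul, hee, mul_zero, add_zero] at this
        exact this
      rw [h3, zero_smul, add_zero] at h1
      exact h1
    obtain ⟨k, hk, g, -, hg⟩ := SymplecticAlt.exists_symp_basis B' hB'alt n ⊤ (by simp) hB'nd
    obtain ⟨k, rfl⟩ : ∃ j, k = j + 1 := by
      rcases k with _ | k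
      · exact absurd (funext fun i => (Fin.cast (by omega) i : Fin 0).elim0) he0
      · exact ⟨k, rfl⟩
    refine ⟨k, hk, ?_⟩
    let G : (Fin (k + 1) ⊕ Fin (k + 1) → F) →ₗ[F] (Fin n → F) := Fintype.linearCombination F g
    have hG : ∀ x y, B' (G x) (G y) = sympForm (k + 1) F x y := by
      have key : LinearMap.compl₁₂ B' G G = Matrix.toLinearMap₂' F (Matrix.J (Fin (k + 1)) F) := by
        refine LinearMap.pi_ext' fun i => LinearMap.ext_ring ?_
        refine LinearMap.pi_ext' fun j => LinearMap.ext_ring ?_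
        simp [G, Fintype.linearCombination_apply_single, hg, sympForm_single, Matrix.toLinearMap₂'_apply']
      intro x y
      have := LinearMap.congr_fun (LinearMap.congr_fun key x) y
      rw [Matrix.toLinearMap₂'_apply'] at this
      exact this
    have hGsurj : Function.Surjective G := by
      refine (LinearMap.injective_iff_surjective_of_finrank_eq_finrank ?_).1 ?_
      · simp; omega
      · rw [← LinearMap.ker_eq_bot, LinearMap.ker_eq_bot']
        intro x hx
        refine SymplecticBasic.form_nondeg fun y => ?_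
        rw [← hG, hx, map_zero, LinearMap.zero_apply]
    obtain ⟨x₀, hx₀⟩ := hGsurj e
    obtain ⟨h, hh⟩ := SymplecticBasic.exists_smul_eq (F := F) (u := Pi.single (Sum.inr 0) 1) (w := x₀)
      (by simp) (fun e0 => he0 (by rw [← hx₀, e0, map_zero]))
    refine congr_of_gram (Matrix.of fun a s => G (h • (Pi.single s 1 : Fin (k + 1) ⊕ Fin (k + 1) → F)) a) ?_
      (det_nNonAlt_ne_zero k) (by simp; omega)
    ext s t
    rw [gram_apply, ← hB]
    show B (G (h • Pi.single s 1)) (G (h • Pi.single t 1)) = _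
    have he' : ∀ u, B u e = B' u e := fun u => by rw [hB', hee, mul_zero, add_zero]
    have hw' : ∀ u, B (G (h • u)) e = sympForm (k + 1) F u (Pi.single (Sum.inr 0) 1) := fun u => by
      rw [he', ← hx₀, hG, ← hh, SymplecticBasic.form_map]
    have hB'' : B (G (h • Pi.single s 1)) (G (h • Pi.single t 1)) =
        B' (G (h • Pi.single s 1)) (G (h • Pi.single t 1)) + B (G (h • Pi.single s 1)) e * B (G (h • Pi.single t 1)) e := by
      rw [hB', add_assoc, CharTwo.add_self_eq_zero, add_zero]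
    rw [hB'', hG, SymplecticBasic.form_map, hw', hw', sympForm_single]
    simp [nNonAlt, vecMulVec_apply, Matrix.add_apply, SymplecticBasic.form_single_inr_right, Pi.single_apply,
      CharTwo.neg_eq, eq_comm]
  · left
    have he1 : B e e = 1 := by
      have := hsq e
      exact (mul_left_cancel₀ hee (by rw [mul_one, ← this])).symm
    let W := LinearMap.ker ω
    have hWrank : Module.finrank F W + 1 = n := by
      have h1 := ω.finrank_range_add_finrank_ker
      have h3 : LinearMap.range ω = ⊤ := LinearMap.range_eq_top.mpr fun c => ⟨c • e, by simp [hω, he1]⟩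
      rw [h3, finrank_top, Module.finrank_self, Module.finrank_fin_fun] at h1
      change Module.finrank F (LinearMap.ker ω) + 1 = n
      omega
    have hWnd : ∀ u ∈ W, (∀ v ∈ W, B' u v = 0) → u = 0 := by
      intro u hu h
      have hue : B u e = 0 := hu
      refine hnd u fun v => ?_
      have hv : v + B v e • e ∈ W := by
        show B (v + B v e • e) e = 0
        rw [map_add, map_smul, LinearMap.add_apply, LinearMap.smul_apply, smul_eq_mul, he1, mul_one,
          CharTwo.add_self_eq_zero]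
      have := h _ hv
      rwa [hB', hue, zero_mul, add_zero, map_add, map_smul, hue, smul_zero, add_zero] at this
    obtain ⟨k, hk, g, hgW, hg⟩ := SymplecticAlt.exists_symp_basis B' hB'alt _ W rfl hWnd
    refine ⟨k, by omega, congr_of_gram (Matrix.of fun a s => Sum.elim (fun _ => e) g s a) ?_
      (det_nOdd_ne_zero k) (by simp; omega)⟩
    ext s t
    rw [gram_apply, ← hB]
    show B (Sum.elim (fun _ => e) g s) (Sum.elim (fun _ => e) g t) = _
    have hge : ∀ s, B (g s) e = 0 := hgW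
    rcases s with s | s <;> rcases t with t | t
    · simp [nOdd, he1]
    · simp [nOdd, hsym e, hge]
    · simp [nOdd, hge]
    · have := hg s t
      rw [hB', hge, zero_mul, add_zero] at this
      simp [nOdd, this, sympForm_single]

end Alternating

end Cfsg.Agent.FormCongruence
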