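/-
Aschbacher's theorem with a form, part 8: from coordinate data to the form structures of the geometric classes.
-/
import Cfsg.Agent.Lib.AschFormWreath
import Cfsg.Agent.Lib.FormCongruence

set_option autoImplicit false
set_option linter.unusedSectionVars false

namespace Cfsg.Agent.AschFormStruct

open scoped Matrix Kronecker
open Cfsg Cfsg.Geo Cfsg.Agent.AschPrimeBasic Cfsg.Agent.AschPrimeForms Cfsg.Agent.AschGenAlgebra
  Cfsg.Agent.AschGenTensor Cfsg.Agent.AschFormBasic Cfsg.Agent.AschFormTensor Cfsg.Agent.AschFormAlg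
  Cfsg.Agent.AschFormWreath

variable {ι : Type} [Fintype ι] [DecidableEq ι] {F : Type*} [Field F]
variable {κ : Type} [Fintype κ] [DecidableEq κ]

lemma formOfGram_smul (σ : F → F) (c : F) (G : Matrix κ κ F) (x y : κ → F) :
    formOfGram σ (c • G) x y = c * formOfGram σ G x y := by
  rw [formOfGram_dot, formOfGram_dot, Matrix.smul_mulVec, dotProduct_smul, smul_eq_mul]

lemma tensor_structure {σ : F ≃+* F} {ε : F} {f : (ι → F) → (ι → F) → F} (hf : FormData σ ε f) {k m : ℕ}
    {e : ι ≃ Fin k × Fin m} {P : GL ι F} {c : F} (hc : c ≠ 0) {G₁ : Matrix (Fin k) (Fin k) F}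
    {G₂ : Matrix (Fin m) (Fin m) F} (h : gramP σ f e P = c • (G₁ ⊗ₖ G₂)) :
    IsTensorFormStructure σ f (formOfGram σ G₁) (formOfGram σ G₂) e P := by
  refine ⟨c, hc, fun x y => ?_⟩
  rw [gram_formOfGram, gram_formOfGram, form_coords hf, h, formOfGram_smul]

lemma power_structure {σ : F ≃+* F} {ε : F} {f : (ι → F) → (ι → F) → F} (hf : FormData σ ε f) {k t : ℕ}
    {e : ι ≃ (Fin t → Fin k)} {P : GL ι F} {c : F} (hc : c ≠ 0) {G : Matrix (Fin k) (Fin k) F}
    (h : gramP σ f e P = c • pureMat fun _ => G) :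
    IsTensorPowerFormStructure σ f (formOfGram σ G) e P := by
  refine ⟨c, hc, fun x y => ?_⟩
  rw [gram_formOfGram, form_coords hf, h, formOfGram_smul]
  rfl

lemma bilinear_of_gram (G : Matrix κ κ F) : IsBilinearForm (formOfGram id G) := by
  refine ⟨fun x y v => ?_, fun c x v => ?_, fun v x y => ?_, fun c v x => ?_⟩
  · simp only [formOfGram_dot, add_dotProduct]
  · simp only [formOfGram_dot, smul_dotProduct, smul_eq_mul]
  · simp only [formOfGram_dot, id, Pi.add_apply]
    rw [← dotProduct_add, ← Matrix.mulVec_add]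
    rfl
  · simp only [formOfGram_dot, id, Pi.smul_apply]
    rw [show (fun b => c • x b) = c • x from rfl, Matrix.mulVec_smul, dotProduct_smul, smul_eq_mul]

lemma formOfGram_flip (G : Matrix κ κ F) (u v : κ → F) :
    formOfGram id G u v = formOfGram id Gᵀ v u := by
  simp only [formOfGram, id, Matrix.transpose_apply]
  rw [Finset.sum_comm]
  exact Finset.sum_congr rfl fun a _ => Finset.sum_congr rfl fun b _ => by ring

lemma nondeg_of_gram {G : Matrix κ κ F} (hG : IsUnit G.det) : IsNondegenerateForm (formOfGram id G) := by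
  intro v hv
  constructor
  · have h1 : G *ᵥ v ≠ 0 := fun h => hG.ne_zero (Matrix.exists_mulVec_eq_zero_iff.1 ⟨v, hv, h⟩)
    obtain ⟨i, hi⟩ := Function.ne_iff.1 h1
    exact ⟨Pi.single i 1, by simpa [formOfGram_dot] using hi⟩
  · have h1 : v ᵥ* G ≠ 0 := fun h => hG.ne_zero (Matrix.exists_vecMul_eq_zero_iff.1 ⟨v, hv, h⟩)
    obtain ⟨i, hi⟩ := Function.ne_iff.1 h1
    refine ⟨Pi.single i 1, ?_⟩
    rw [formOfGram_dot, Matrix.dotProduct_mulVec, show (fun b => id ((Pi.single i 1 : κ → F) b)) = Pi.single i 1 from rfl,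
      dotProduct_single, mul_one]
    exact hi

lemma symmetric_of_gram {G : Matrix κ κ F} (hG : IsUnit G.det) (hs : Gᵀ = G) :
    IsSymmetricForm (formOfGram id G) :=
  ⟨bilinear_of_gram G, fun u v => by rw [formOfGram_flip, hs], nondeg_of_gram hG⟩

lemma symplectic_of_gram {G : Matrix κ κ F} (hG : IsUnit G.det) (hs : Gᵀ = -G) (hd : ∀ i, G i i = 0) :
    IsSymplecticForm (formOfGram id G) := by
  refine ⟨bilinear_of_gram G, fun u v => ?_, fun v => ?_, nondeg_of_gram hG⟩
  · rw [formOfGram_flip, hs, ← neg_one_smul F G, formOfGram_smul, neg_one_mul]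
  · rw [formOfGram_dot]
    refine (FormCongruence.quad_zero_iff G).2 ⟨hd, fun i j => ?_⟩ v
    have := congrFun (congrFun hs i) j
    rw [Matrix.transpose_apply, Matrix.neg_apply] at this
    rw [this, add_neg_cancel]

lemma unitary_of_gram {q : ℕ} {σ : F ≃+* F} (hσq : ∀ x, σ x = x ^ q) (hσ : ∀ a, σ (σ a) = a) {G : Matrix κ κ F}
    (hG : IsUnit G.det) (hs : Gᵀ.map σ = G) : IsUnitaryFormPow q (formOfGram σ G) := by
  have h := formData_of_gram hσ hG (a := 1) (by simp) (by rw [one_smul]; exact hs)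
  exact ⟨h.sesq.add_left, h.sesq.smul_left, fun v w => by rw [h.herm, map_one, one_mul, hσq], h.nd⟩

/-- changing coordinates by a unit -/
lemma gramP_rebase {σ : F ≃+* F} {f : (ι → F) → (ι → F) → F} (e : ι ≃ κ) (P : GL ι F) (X : GL κ F) :
    gramP σ f e (P * glReindex e.symm X) =
      (X : Matrix κ κ F)ᵀ * gramP σ f e P * (X : Matrix κ κ F).map σ := by
  apply pull_injective (F := F) e
  rw [map_mul, map_mul, pull_gramP, pull_gramP, ← pull_transpose, ← pull_map,
    show ((P * glReindex e.symm X : GL ι F) : Matrix ι ι F) = (P : Matrix ι ι F) * pull e (X : Matrix κ κ F) from rfl,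
    Matrix.transpose_mul, map_mul_map]
  simp only [mul_assoc]

lemma conj_map_rebase (S : Subgroup (GL κ F)) (e : ι ≃ κ) (P : GL ι F) {X : GL κ F} (hX : X ∈ S) :
    (S.map (glReindex e.symm).toMonoidHom).map (MulAut.conj P).toMonoidHom ≤
      (S.map (glReindex e.symm).toMonoidHom).map (MulAut.conj (P * glReindex e.symm X)).toMonoidHom := by
  rintro _ ⟨_, ⟨g, hg, rfl⟩, rfl⟩
  refine ⟨glReindex e.symm (X⁻¹ * g * X), ⟨_, S.mul_mem (S.mul_mem (S.inv_mem hX) hg) hX, rfl⟩, ?_⟩
  simp only [MulEquiv.coe_toMonoidHom]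
  rw [MulAut.conj_apply, MulAut.conj_apply, map_mul, map_mul, map_inv]
  group

/-- the Kronecker product of two units -/
noncomputable def kronUnit {k m : ℕ} (A : GL (Fin k) F) (B : GL (Fin m) F) : GL (Fin k × Fin m) F where
  val := (A : Matrix (Fin k) (Fin k) F) ⊗ₖ (B : Matrix (Fin m) (Fin m) F)
  inv := ((A⁻¹ : GL (Fin k) F) : Matrix (Fin k) (Fin k) F) ⊗ₖ ((B⁻¹ : GL (Fin m) F) : Matrix (Fin m) (Fin m) F)
  val_inv := by rw [← Matrix.mul_kronecker_mul, Units.mul_inv, Units.mul_inv, Matrix.one_kronecker_one]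
  inv_val := by rw [← Matrix.mul_kronecker_mul, Units.inv_mul, Units.inv_mul, Matrix.one_kronecker_one]

lemma kronUnit_mem {k m : ℕ} (A : GL (Fin k) F) (B : GL (Fin m) F) : kronUnit A B ∈ kroneckerSubgroup k m F :=
  ⟨A, B, rfl⟩

/-- two congruent factors give a tensor power -/
lemma tensor_to_power [Fintype F] {σ : F ≃+* F} {ε : F} {f : (ι → F) → (ι → F) → F} {H : Subgroup (GL ι F)}
    {k : ℕ} {e : ι ≃ Fin k × Fin k} {P : GL ι F} {G₁ G₂ : Matrix (Fin k) (Fin k) F} {a b : F}
    (hd : TensorData σ ε f H k k e P G₁ G₂ a b) {S : GL (Fin k) F} {l : F}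
    (hS : (S : Matrix (Fin k) (Fin k) F)ᵀ * G₂ * (S : Matrix (Fin k) (Fin k) F).map σ = l • G₁) :
    ∃ (e' : ι ≃ (Fin 2 → Fin k)) (P' : GL ι F), H ≤ tensorWreathSubgroup k 2 e' P' ∧
      gramP σ f e' P' = l • pureMat fun _ => G₁ := by
  set X := kronUnit (1 : GL (Fin k) F) S with hX
  set P' := P * glReindex e.symm X with hP'
  refine ⟨e.trans (finTwoArrowEquiv (Fin k)).symm, P', (hd.le.trans (conj_map_rebase _ e P (kronUnit_mem 1 S))).trans
    (tensor_le_wreath k e P'), ?_⟩
  have h1 : gramP σ f e P' = l • (G₁ ⊗ₖ G₁) := by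
    rw [hP', gramP_rebase, hd.gram, show (X : Matrix (Fin k × Fin k) (Fin k × Fin k) F) =
      (1 : Matrix (Fin k) (Fin k) F) ⊗ₖ (S : Matrix (Fin k) (Fin k) F) from rfl, ← Matrix.kroneckerMap_transpose,
      kron_map, ← Matrix.mul_kronecker_mul, ← Matrix.mul_kronecker_mul, hS, Matrix.transpose_one, map_one_mat,
      one_mul, mul_one, Matrix.kronecker_smul]
  ext x y
  have h2 := congrFun (congrFun h1 (x 0, x 1)) (y 0, y 1)
  simp only [Matrix.smul_apply, Matrix.kroneckerMap_apply, gramP, Matrix.of_apply] at h2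
  simp only [Matrix.smul_apply, pureMat, Matrix.of_apply, Fin.prod_univ_two, gramP]
  exact h2

end Cfsg.Agent.AschFormStruct
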