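/-
Aschbacher's theorem with a form, part 9: rebasing tensor-induced data and monomial coordinates.
-/
import Cfsg.Agent.Lib.AschFormStruct

set_option autoImplicit false
set_option linter.unusedSectionVars false

namespace Cfsg.Agent.AschFormMono

open scoped Matrix Kronecker
open Cfsg Cfsg.Geo Cfsg.Agent.AschPrimeBasic Cfsg.Agent.AschPrimeForms Cfsg.Agent.AschGenAlgebra
  Cfsg.Agent.AschGenTensor Cfsg.Agent.AschFormBasic Cfsg.Agent.AschFormTensor Cfsg.Agent.AschFormWreath
  Cfsg.Agent.AschFormStruct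

variable {ι : Type} [Fintype ι] [DecidableEq ι] {F : Type*} [Field F] [Fintype F]

/-- the members of the standard tensor-wreath group -/
lemma wreath_elim {k t : ℕ} {g : GL (Fin t → Fin k) F} (hg : g ∈ tensorWreathStandard k t F) :
    ∃ (gs : Fin t → GL (Fin k) F) (τ : Equiv.Perm (Fin t)), g = pureUnit gs * (permUnit τ : GL (Fin t → Fin k) F) := by
  have hmul : ∀ (gs gs' : Fin t → GL (Fin k) F) (τ τ' : Equiv.Perm (Fin t)), ∃ (hs : Fin t → GL (Fin k) F)
      (π : Equiv.Perm (Fin t)), pureUnit gs * (permUnit τ : GL (Fin t → Fin k) F) *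
        (pureUnit gs' * (permUnit τ' : GL (Fin t → Fin k) F)) = pureUnit hs * (permUnit π : GL (Fin t → Fin k) F) := by
    intro gs gs' τ τ'
    refine ⟨fun i => gs i * gs' (τ.symm i), τ'.trans τ, Units.ext ?_⟩
    simp only [pureUnit, permUnit, Units.val_mul]
    rw [mul_assoc, ← mul_assoc (permMat τ), permMat_pureMat, mul_assoc, ← mul_assoc (pureMat _), pureMat_mul]
    congr 1
    ext x y
    rw [permMat_mul]
    simp only [permMat, Matrix.of_apply]
    exact if_congr (by simp [Function.comp_assoc]) rfl rfl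
  induction hg using Subgroup.closure_induction with
  | mem g hg =>
    rcases hg with ⟨gs, hgs⟩ | ⟨τ, hτ⟩
    · refine ⟨gs, 1, Units.ext (Matrix.ext fun x y => ?_)⟩
      simp only [pureUnit, permUnit, Units.val_mul]
      rw [mul_permMat]
      simpa [pureMat, Equiv.Perm.one_symm] using hgs x y
    · refine ⟨fun _ => 1, τ, Units.ext (Matrix.ext fun x y => ?_)⟩
      simp only [pureUnit, permUnit, Units.val_mul, Units.val_one]
      rw [pureMat_one, one_mul]
      simpa [permMat] using hτ x y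
  | one =>
    refine ⟨fun _ => 1, 1, Units.ext (Matrix.ext fun x y => ?_)⟩
    simp only [pureUnit, permUnit, Units.val_mul, Units.val_one]
    rw [pureMat_one, one_mul]
    simp [permMat, Matrix.one_apply, eq_comm]
  | mul a b _ _ ha hb =>
    obtain ⟨gs, τ, rfl⟩ := ha
    obtain ⟨gs', τ', rfl⟩ := hb
    exact hmul gs gs' τ τ'
  | inv a _ ha =>
    obtain ⟨gs, τ, rfl⟩ := ha
    refine ⟨fun i => (gs (τ i))⁻¹, τ.symm, inv_eq_of_mul_eq_one_right (Units.ext ?_)⟩
    simp only [pureUnit, permUnit, Units.val_mul, Units.val_one]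
    rw [mul_assoc, ← mul_assoc (permMat τ), permMat_pureMat, mul_assoc, ← mul_assoc (pureMat _), pureMat_mul,
      permMat_mul_symm, mul_one]
    simp [pureMat_one]

/-- isometries in a tensor-wreath group, in coordinates -/
theorem wreath_similar {σ : F ≃+* F} {ε : F} {f : (ι → F) → (ι → F) → F} (hf : FormData σ ε f)
    {k t : ℕ} {e : ι ≃ (Fin t → Fin k)} {P : GL ι F} {c : F} (hc : c ≠ 0) {G : Matrix (Fin k) (Fin k) F}
    (hG : gramP σ f e P = c • pureMat fun _ => G) (hG0 : G ≠ 0) {h : GL ι F}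
    (hh : h ∈ tensorWreathSubgroup k t e P)
    (hi : ∀ u v, f ((h : Matrix ι ι F) *ᵥ u) ((h : Matrix ι ι F) *ᵥ v) = f u v) :
    ∃ (τ : Equiv.Perm (Fin t)) (gs : Fin t → GL (Fin k) F),
      (h : Matrix ι ι F) = (P : Matrix ι ι F) * pull e (pureMat (fun i => (gs i : Matrix (Fin k) (Fin k) F)) *
        permMat τ) * ((P⁻¹ : GL ι F) : Matrix ι ι F) ∧
      ∀ i, ∃ l : F, l ≠ 0 ∧
        (gs i : Matrix (Fin k) (Fin k) F)ᵀ * G * (gs i : Matrix (Fin k) (Fin k) F).map σ = l • G := by
  obtain ⟨_, ⟨g, hg, rfl⟩, rfl⟩ := hh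
  obtain ⟨gs, τ, rfl⟩ := wreath_elim hg
  refine ⟨τ, gs, rfl, fun i => ?_⟩
  have h1 := elem_similar hf hc hG (fun _ => hG0) hi one_ne_zero (U := fun i => (gs i : Matrix (Fin k) (Fin k) F))
    (τ := τ) (by rw [one_smul]; rfl) (τ.symm i)
  simpa using h1

/-- changing every factor by the same unit -/
lemma rebase_power {σ : F ≃+* F} {f : (ι → F) → (ι → F) → F} {k t : ℕ} (e : ι ≃ (Fin t → Fin k)) (P : GL ι F)
    {c : F} {G G' : Matrix (Fin k) (Fin k) F} (hG : gramP σ f e P = c • pureMat fun _ => G) (S : GL (Fin k) F) {l : F}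
    (hS : (S : Matrix (Fin k) (Fin k) F)ᵀ * G * (S : Matrix (Fin k) (Fin k) F).map σ = l • G') :
    ∃ P' : GL ι F, tensorWreathSubgroup k t e P ≤ tensorWreathSubgroup k t e P' ∧
      gramP σ f e P' = (c * l ^ t) • pureMat fun _ => G' := by
  refine ⟨P * glReindex e.symm (pureUnit fun _ => S), conj_map_rebase _ e P (pureUnit_mem _), ?_⟩
  rw [gramP_rebase, hG]
  simp only [pureUnit]
  rw [pureMat_transpose, pureMat_map, Matrix.mul_smul, Matrix.smul_mul, pureMat_mul, pureMat_mul, hS,
    pureMat_smul, smul_smul, Finset.prod_const, Finset.card_univ, Fintype.card_fin]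

/-- monomial groups in an orthogonal basis preserve a decomposition into lines -/
theorem mono_lines [Nonempty ι] (h2 : 2 ≤ Fintype.card ι) {H : Subgroup (GL ι F)} (P : GL ι F)
    (hmono : ∀ h ∈ H, ∃ (M : Matrix ι ι F), (h : Matrix ι ι F) * (P : Matrix ι ι F) = (P : Matrix ι ι F) * M ∧
      ∀ j, ∃ i, ∀ i', i' ≠ i → M i' j = 0) :
    ∃ D : Fin (Fintype.card ι) → Submodule F (ι → F), IsMDecomposition 1 D ∧ H ≤ decompositionStabilizer D ∧
      ∃ ord : Fin (Fintype.card ι) ≃ ι, ∀ i, D i = Submodule.span F {(P : Matrix ι ι F) *ᵥ Pi.single (ord i) 1} := by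
  classical
  set ord := (Fintype.equivFin ι).symm with hord
  let v : ι → (ι → F) := fun j => (P : Matrix ι ι F) *ᵥ Pi.single j 1
  have hv : LinearIndependent F v := by
    have h1 := Matrix.linearIndependent_cols_iff_isUnit.2 P.isUnit
    have : v = (P : Matrix ι ι F).col := funext fun j => by simp [v, Matrix.mulVec_single_one]
    rwa [this]
  have hv0 : ∀ j, v j ≠ 0 := fun j => hv.ne_zero j
  let D : Fin (Fintype.card ι) → Submodule F (ι → F) := fun i => Submodule.span F {v (ord i)}
  have htop : iSup D = ⊤ := by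
    refine eq_top_iff.2 fun w _ => ?_
    rw [← mulVec_inv_mulVec P w, pi_eq_sum_univ' (((P⁻¹ : GL ι F) : Matrix ι ι F) *ᵥ w), Matrix.mulVec_sum]
    refine Submodule.sum_mem _ fun j _ => Submodule.mem_iSup_of_mem (ord.symm j) ?_
    rw [Matrix.mulVec_smul]
    exact Submodule.smul_mem _ _ (by simp only [D, ord, Equiv.apply_symm_apply]; exact Submodule.mem_span_singleton_self _)
  have hind : iSupIndep D := (hv.comp ord ord.injective).iSupIndep_span_singleton
  have hinj : Function.Injective D := hind.injective fun i h => hv0 _ (Submodule.span_singleton_eq_bot.1 h)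
  refine ⟨D, ⟨h2, one_pos, fun i => finrank_span_singleton (hv0 _), hind, htop⟩, fun h hh => ?_,
    ord, fun i => rfl⟩
  obtain ⟨M, hM, hcol⟩ := hmono h hh
  choose π hπ using hcol
  have himg : ∀ j, (h : Matrix ι ι F) *ᵥ v j = M (π j) j • v (π j) := by
    intro j
    have h1 : M *ᵥ Pi.single j 1 = M (π j) j • (Pi.single (π j) 1 : ι → F) := by
      funext i
      rw [Matrix.mulVec_single_one]
      by_cases hi : i = π j
      · subst hi; simp
      · simp [hi, hπ j i hi]
    simp only [v]
    rw [Matrix.mulVec_mulVec, hM, ← Matrix.mulVec_mulVec, h1, Matrix.mulVec_smul]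
  have hne : ∀ j, M (π j) j ≠ 0 := fun j h0 => by
    have h1 := himg j
    rw [h0, zero_smul] at h1
    exact hv0 j (by rw [← inv_mulVec_mulVec h (v j), h1, Matrix.mulVec_zero])
  have hmap : ∀ i, (D i).map (Matrix.toLin' (h : Matrix ι ι F)) = D (ord.symm (π (ord i))) := by
    intro i
    simp only [D, Submodule.map_span, Set.image_singleton, Matrix.toLin'_apply, himg, Equiv.apply_symm_apply]
    exact Submodule.span_singleton_smul_eq (IsUnit.mk0 _ (hne _)) _
  have hσ : Function.Injective fun i => ord.symm (π (ord i)) := fun a b hab => by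
    apply hinj
    apply Submodule.map_injective_of_injective (f := Matrix.toLin' (h : Matrix ι ι F))
      (fun x y hxy => (act h).injective (by simpa using hxy))
    rw [hmap, hmap]
    exact congrArg D hab
  exact ⟨Equiv.ofBijective _ ⟨hσ, Finite.surjective_of_injective hσ⟩, hmap⟩

end Cfsg.Agent.AschFormMono
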