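/-
Dimension case lists, part 1: no geometric stabiliser contains a group generated by transvections.
-/
import Cfsg.Agent.Lib.AschGenExtra
import Cfsg.Agent.Lib.AschFormMono

set_option autoImplicit false
set_option linter.unusedSectionVars false

namespace Cfsg.Agent.AschCase

open scoped Matrix Kronecker commutatorElement
open Cfsg Cfsg.Geo Cfsg.Agent.AschPrimeBasic Cfsg.Agent.AschGenTensor Cfsg.Agent.AschGenExtra

variable {ι : Type} [Fintype ι] [DecidableEq ι] {F : Type*} [Field F] [Fintype F]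

/-- an element fixing a hyperplane pointwise -/
def FixesHyperplane (g : GL ι F) : Prop :=
  ∃ φ : (ι → F) →ₗ[F] F, ∀ x, φ x = 0 → (g : Matrix ι ι F) *ᵥ x = x

/-- an irreducible group with trivial centraliser generated by elements fixing hyperplanes -/
structure Transvected (Ω : Subgroup (GL ι F)) : Prop where
  irred : Irred Ω
  commutant : ∀ M : Matrix ι ι F, (∀ g ∈ Ω, M * (g : Matrix ι ι F) = (g : Matrix ι ι F) * M) →
    ∃ c : F, M = c • (1 : Matrix ι ι F)
  gen : ∀ K : Subgroup (GL ι F), (∀ g ∈ Ω, FixesHyperplane g → g ∈ K) → Ω ≤ K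

lemma exists_ne_zero_kills {V : Type*} [AddCommGroup V] [Module F V] [FiniteDimensional F V]
    (L : List (V →ₗ[F] F)) (h : L.length < Module.finrank F V) : ∃ x : V, x ≠ 0 ∧ ∀ l ∈ L, l x = 0 := by
  let M : V →ₗ[F] (Fin L.length → F) := LinearMap.pi fun i => L[i]
  obtain ⟨x, hx, hx0⟩ := (Submodule.ne_bot_iff _).1 (M.ker_ne_bot_of_finrank_lt (by simpa using h))
  refine ⟨x, hx0, fun l hl => ?_⟩
  obtain ⟨i, hi, rfl⟩ := List.getElem_of_mem hl
  exact congrFun hx ⟨i, hi⟩

lemma Transvected.not_scalar {Ω : Subgroup (GL ι F)} (hΩ : Transvected Ω) (h2 : 2 ≤ Fintype.card ι) :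
    ¬ Ω ≤ scalars ι F := by
  intro hle
  obtain ⟨i⟩ : Nonempty ι := Fintype.card_pos_iff.1 (by omega)
  have hinv : Inv Ω (Submodule.span F {(Pi.single i 1 : ι → F)}) := by
    intro g hg w hw
    obtain ⟨c, hc⟩ := (mem_scalars_iff g).1 (hle hg)
    rw [hc, Matrix.smul_mulVec, Matrix.one_mulVec]
    exact Submodule.smul_mem _ _ hw
  have hv : (Pi.single i 1 : ι → F) ≠ 0 := fun h => one_ne_zero (α := F) (by simpa using congrFun h i)
  rcases hΩ.irred _ hinv with h | h
  · exact hv (Submodule.span_singleton_eq_bot.1 h)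
  · have := finrank_span_singleton (K := F) hv
    rw [h, finrank_top, Module.finrank_pi] at this
    omega

theorem Transvected.not_le_subspace {Ω : Subgroup (GL ι F)} (hΩ : Transvected Ω) {W : Submodule F (ι → F)}
    (hb : W ≠ ⊥) (ht : W ≠ ⊤) : ¬ Ω ≤ subspaceStabilizer W := fun h =>
  (hΩ.irred W ((inv_iff_le_stabilizer _ _).2 h)).elim hb ht

theorem Transvected.not_le_decomposition {Ω : Subgroup (GL ι F)} (hΩ : Transvected Ω) {t k : ℕ}
    {D : Fin t → Submodule F (ι → F)} (hD : IsMDecomposition k D) (hk : 2 ≤ k) :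
    ¬ Ω ≤ decompositionStabilizer D := by
  intro hle
  have hkey : ∀ g ∈ Ω, FixesHyperplane g → ∀ i, g ∈ subspaceStabilizer (D i) := by
    rintro g hg ⟨φ, hφ⟩ i
    obtain ⟨π, hπ⟩ := hle hg
    obtain ⟨⟨x, hx⟩, hx0, hxφ⟩ := exists_ne_zero_kills [φ ∘ₗ (D i).subtype]
      (by rw [hD.finrank_eq]; simp; omega)
    have hxφ' : φ x = 0 := by simpa using hxφ _ (List.mem_singleton_self _)
    have hmem : x ∈ D (π i) := by
      rw [← hπ i]
      exact ⟨x, hx, by rw [Matrix.toLin'_apply, hφ x hxφ']⟩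
    have hii : π i = i := by
      by_contra hne
      exact hx0 (Subtype.ext ((Submodule.disjoint_def.1 (hD.indep.pairwiseDisjoint hne)) x hmem hx))
    have himg := hπ i
    rw [hii] at himg
    intro v
    refine ⟨fun hv => ?_, fun hv => ?_⟩
    · show (g : Matrix ι ι F) *ᵥ v ∈ D i
      rw [← himg]
      exact ⟨v, hv, Matrix.toLin'_apply _ _⟩
    · have hv' : (g : Matrix ι ι F) *ᵥ v ∈ (D i).map (Matrix.toLin' (g : Matrix ι ι F)) := himg.symm ▸ hv
      obtain ⟨w, hw, hwv⟩ := hv'
      rw [Matrix.toLin'_apply] at hwv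
      exact (act g).injective hwv ▸ hw
  have h2 := hD.two_le
  let i₀ : Fin t := ⟨0, by omega⟩
  have hinv := (inv_iff_le_stabilizer Ω (D i₀)).2 (hΩ.gen _ fun g hg hg' => hkey g hg hg' i₀)
  have hk' := hD.finrank_eq i₀
  rcases hΩ.irred _ hinv with h | h
  · rw [h, finrank_bot] at hk'; omega
  · let i₁ : Fin t := ⟨1, by omega⟩
    obtain ⟨x, hx, hx0⟩ := (Submodule.ne_bot_iff _).1 (show D i₁ ≠ ⊥ from fun h0 => by
      have := hD.finrank_eq i₁
      rw [h0, finrank_bot] at this
      omega)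
    exact hx0 ((Submodule.disjoint_def.1 (hD.indep.pairwiseDisjoint (show i₁ ≠ i₀ by simp [i₀, i₁, Fin.ext_iff]))) x hx (h ▸ Submodule.mem_top))

theorem Transvected.not_le_algebra {Ω : Subgroup (GL ι F)} (hΩ : Transvected Ω) (hn : 3 ≤ Fintype.card ι)
    {r : ℕ} (hr : 2 ≤ r) {K : Subalgebra F (Matrix ι ι F)} (hK : IsFieldSubalgebra r K) :
    ¬ Ω ≤ subalgebraNormalizer K := by
  intro hle
  have hkey : ∀ k ∈ K, ∃ c : F, k = c • (1 : Matrix ι ι F) := by
    intro k hk
    refine hΩ.commutant k fun g hg => ?_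
    let C : Subgroup (GL ι F) :=
      { carrier := {g | k * (g : Matrix ι ι F) = (g : Matrix ι ι F) * k}
        one_mem' := by simp
        mul_mem' := fun {a b} ha hb => by
          show k * _ = _
          rw [Units.val_mul, ← mul_assoc, show k * (a : Matrix ι ι F) = _ from ha, mul_assoc,
            show k * (b : Matrix ι ι F) = _ from hb, ← mul_assoc]
        inv_mem' := fun {a} ha => by
          show k * _ = _
          rw [Units.eq_inv_mul_iff_mul_eq, ← mul_assoc, Units.mul_inv_eq_iff_eq_mul]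
          exact (show k * (a : Matrix ι ι F) = _ from ha).symm }
    refine (hΩ.gen C ?_) hg
    rintro t ht ⟨φ, hφ⟩
    show k * (t : Matrix ι ι F) = (t : Matrix ι ι F) * k
    set k' := (t : Matrix ι ι F) * k * ((t⁻¹ : GL ι F) : Matrix ι ι F) with hk'
    have hk'K : k' ∈ K := (hle ht k).1 hk
    obtain ⟨x, hx0, hx⟩ := exists_ne_zero_kills [φ, φ ∘ₗ Matrix.toLin' k]
      (by rw [Module.finrank_pi]; simp; omega)
    have h1 : φ x = 0 := hx φ (by simp)
    have h2 : φ (k *ᵥ x) = 0 := by simpa using hx (φ ∘ₗ Matrix.toLin' k) (by simp)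
    have h3 : (k' - k) *ᵥ x = 0 := by
      rw [Matrix.sub_mulVec, hk']
      conv_lhs => arg 1; arg 2; rw [← hφ x h1]
      rw [Matrix.mulVec_mulVec, mul_assoc, Units.inv_mul, mul_one, ← Matrix.mulVec_mulVec, hφ _ h2, sub_self]
    have h4 : k' - k = 0 := by
      by_contra hne
      obtain ⟨y, -, hy⟩ := hK.inv _ (K.sub_mem hk'K hk) hne
      rw [mul_eq_one_comm] at hy
      exact hx0 (by rw [← Matrix.one_mulVec x, ← hy, ← Matrix.mulVec_mulVec, h3, Matrix.mulVec_zero])
    have h5 : k' * (t : Matrix ι ι F) = (t : Matrix ι ι F) * k := by rw [hk', mul_assoc, Units.inv_mul, mul_one]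
    rwa [sub_eq_zero.1 h4] at h5
  have hbot : K = ⊥ := eq_bot_iff.2 fun k hk => by
    obtain ⟨c, rfl⟩ := hkey k hk
    exact Algebra.mem_bot.2 ⟨c, (Algebra.algebraMap_eq_smul_one c)⟩
  have h1 := hK.finrank_eq
  haveI : Nonempty ι := Fintype.card_pos_iff.1 (by omega)
  rw [hbot, Subalgebra.finrank_bot] at h1
  omega

/-- a pure vector of a tensor power -/
def pureVec {k t : ℕ} (x : Fin t → Fin k → F) : (Fin t → Fin k) → F := fun a => ∏ i, x i (a i)

lemma pureVec_update {k t : ℕ} (x : Fin t → Fin k → F) (l : Fin t) (y : Fin k → F) (a : Fin t → Fin k) :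
    pureVec (Function.update x l y) a = y (a l) * ∏ i ∈ Finset.univ.erase l, x i (a i) := by
  rw [pureVec, ← Finset.mul_prod_erase _ _ (Finset.mem_univ l), Function.update_self]
  exact congrArg _ (Finset.prod_congr rfl fun i hi => by rw [Function.update_of_ne (Finset.ne_of_mem_erase hi)])

/-- the pure vector as a linear function of one factor -/
def slot {k t : ℕ} (x : Fin t → Fin k → F) (l : Fin t) : (Fin k → F) →ₗ[F] ((Fin t → Fin k) → F) where
  toFun y := pureVec (Function.update x l y)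
  map_add' y z := funext fun a => by simp only [pureVec_update, Pi.add_apply, add_mul]
  map_smul' c y := funext fun a => by simp only [pureVec_update, Pi.smul_apply, smul_eq_mul, RingHom.id_apply, mul_assoc]

lemma pureVec_ne_zero {k t : ℕ} {x : Fin t → Fin k → F} (hx : ∀ i, x i ≠ 0) : pureVec x ≠ 0 := by
  choose a ha using fun i => Function.ne_iff.1 (hx i)
  intro h
  have := congrFun h a
  simp only [pureVec, Pi.zero_apply, Finset.prod_eq_zero_iff] at this
  obtain ⟨i, -, hi⟩ := this
  exact ha i hi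

lemma pureVec_factor {k t : ℕ} {x y : Fin t → Fin k → F} (hx : ∀ i, x i ≠ 0) (h : pureVec y = pureVec x) (l : Fin t) :
    ∃ c : F, y l = c • x l := by
  choose a ha using fun i => Function.ne_iff.1 (hx i)
  have key : ∀ b, y l b * ∏ i ∈ Finset.univ.erase l, y i (a i) = x l b * ∏ i ∈ Finset.univ.erase l, x i (a i) := by
    intro b
    have h1 := congrFun h (Function.update a l b)
    simp only [pureVec, ← Finset.mul_prod_erase _ _ (Finset.mem_univ l), Function.update_self] at h1
    have e : ∀ z : Fin t → Fin k → F, (∏ i ∈ Finset.univ.erase l, z i (Function.update a l b i)) =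
        ∏ i ∈ Finset.univ.erase l, z i (a i) :=
      fun z => Finset.prod_congr rfl fun i hi => by rw [Function.update_of_ne (Finset.ne_of_mem_erase hi)]
    rwa [e, e] at h1
  have hX : (∏ i ∈ Finset.univ.erase l, x i (a i)) ≠ 0 := Finset.prod_ne_zero_iff.2 fun i _ => ha i
  have hY : (∏ i ∈ Finset.univ.erase l, y i (a i)) ≠ 0 := fun h0 => by
    have := key (a l)
    rw [h0, mul_zero] at this
    exact mul_ne_zero (ha l) hX this.symm
  refine ⟨(∏ i ∈ Finset.univ.erase l, x i (a i)) / (∏ i ∈ Finset.univ.erase l, y i (a i)), funext fun b => ?_⟩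
  rw [Pi.smul_apply, smul_eq_mul, div_mul_eq_mul_div, eq_div_iff hY, key b, mul_comm]

lemma exists_vec_not_parallel {k : ℕ} (hk : 2 ≤ k) {v : Fin k → F} (hv : v ≠ 0) :
    ∃ w : Fin k → F, ∀ c : F, w ≠ c • v := by
  by_contra h
  push Not at h
  have h1 : (⊤ : Submodule F (Fin k → F)) ≤ Submodule.span F {v} := fun w _ => by
    obtain ⟨c, rfl⟩ := h w
    exact Submodule.smul_mem _ _ (Submodule.mem_span_singleton_self v)
  have h2 := Submodule.finrank_mono h1
  rw [finrank_top, finrank_span_singleton hv, Module.finrank_pi, Fintype.card_fin] at h2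
  omega

lemma scalar_of_eigen {k : ℕ} {A : Matrix (Fin k) (Fin k) F} (h : ∀ x, x ≠ 0 → ∃ c : F, A *ᵥ x = c • x) :
    ∃ c : F, A = c • (1 : Matrix (Fin k) (Fin k) F) := by
  rcases Nat.eq_zero_or_pos k with rfl | hk
  · exact ⟨0, Subsingleton.elim _ _⟩
  choose! c hc using h
  have hs : ∀ i : Fin k, (Pi.single i 1 : Fin k → F) ≠ 0 := fun i h => one_ne_zero (α := F) (by simpa using congrFun h i)
  let i₀ : Fin k := ⟨0, hk⟩
  refine ⟨c (Pi.single i₀ 1), ?_⟩
  ext a b
  have hb := congrFun (hc _ (hs b)) a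
  rw [Matrix.mulVec_single_one, Matrix.col_apply] at hb
  rw [hb, Matrix.smul_apply, Pi.smul_apply, smul_eq_mul, smul_eq_mul]
  by_cases hab : a = b
  · subst hab
    by_cases h0 : a = i₀
    · subst h0; simp
    · have hne : (Pi.single a 1 + Pi.single i₀ 1 : Fin k → F) ≠ 0 := fun h =>
        one_ne_zero (α := F) (by simpa [Pi.single_apply, h0] using congrFun h a)
      have h1 := hc _ hne
      rw [Matrix.mulVec_add, hc _ (hs a), hc _ (hs i₀)] at h1
      have e1 := congrFun h1 a
      have e2 := congrFun h1 i₀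
      simp [Pi.single_apply, h0, Ne.symm h0] at e1 e2
      simp [e1, e2]
  · simp [Pi.single_apply, hab]

/-- hyperplane-fixing elements of a tensor-wreath group are scalar -/
theorem wreath_hyperplane {k t : ℕ} (hk : 2 ≤ k) (ht : 2 ≤ t) (hkt : 3 ≤ k ∨ 3 ≤ t) {e : ι ≃ (Fin t → Fin k)}
    {P g : GL ι F} (hg : g ∈ tensorWreathSubgroup k t e P) (hfix : FixesHyperplane g) : g ∈ scalars ι F := by
  classical
  haveI : Nonempty ι := ⟨e.symm fun _ => ⟨0, by omega⟩⟩
  obtain ⟨_, ⟨w, hw, rfl⟩, rfl⟩ := hg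
  obtain ⟨gs, τ, rfl⟩ := AschFormMono.wreath_elim hw
  obtain ⟨φ, hφ⟩ := hfix
  set W : Matrix (Fin t → Fin k) (Fin t → Fin k) F :=
    pureMat (fun i => (gs i : Matrix (Fin k) (Fin k) F)) * permMat τ with hW
  let emb : ((Fin t → Fin k) → F) →ₗ[F] (ι → F) :=
    (Matrix.toLin' (P : Matrix ι ι F)) ∘ₗ (LinearMap.funLeft F F e)
  have hemb : Function.Injective emb := by
    intro u v huv
    have h1 : (u ∘ e : ι → F) = v ∘ e := (act P).injective huv
    funext a
    simpa using congrFun h1 (e.symm a)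
  have hval : ∀ v, ((MulAut.conj P (glReindex e.symm (pureUnit gs * permUnit τ)) : GL ι F) : Matrix ι ι F) *ᵥ emb v =
      emb (W *ᵥ v) := by
    intro v
    show ((P : Matrix ι ι F) * (Matrix.reindexAlgEquiv F F e.symm W) * ((P⁻¹ : GL ι F) : Matrix ι ι F)) *ᵥ
      ((P : Matrix ι ι F) *ᵥ (v ∘ e)) = (P : Matrix ι ι F) *ᵥ ((W *ᵥ v) ∘ e)
    rw [Matrix.mulVec_mulVec, mul_assoc, Units.inv_mul, mul_one, ← Matrix.mulVec_mulVec]
    congr 1
    funext i
    simp only [Matrix.mulVec, dotProduct, Matrix.reindexAlgEquiv_apply, Matrix.reindex_apply, Matrix.submatrix_apply,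
      Equiv.symm_symm, Function.comp_apply]
    exact Fintype.sum_equiv e _ _ fun j => rfl
  have hWp : ∀ x : Fin t → Fin k → F, W *ᵥ pureVec x =
      pureVec fun i => (gs i : Matrix (Fin k) (Fin k) F) *ᵥ x (τ.symm i) := by
    intro x
    rw [hW, ← Matrix.mulVec_mulVec]
    funext a
    have hp : (permMat τ : Matrix (Fin t → Fin k) (Fin t → Fin k) F) *ᵥ pureVec x = fun b => pureVec x (b ∘ τ) := by
      funext b
      simp [Matrix.mulVec, dotProduct, permMat]
    rw [hp]
    simp only [Matrix.mulVec, dotProduct, pureMat, Matrix.of_apply, pureVec, Function.comp_apply,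
      Fintype.prod_sum, ← Finset.prod_mul_distrib]
    refine Finset.sum_congr rfl fun b _ => ?_
    rw [Finset.prod_mul_distrib, Finset.prod_mul_distrib]
    congr 1
    exact (Fintype.prod_equiv τ (fun i => x i (b (τ i))) (fun i => x (τ.symm i) (b i)) fun i => by simp)
  have hkill : ∀ x : Fin t → Fin k → F, (∀ i, x i ≠ 0) → φ (emb (pureVec x)) = 0 →
      ∀ l, ∃ c : F, (gs l : Matrix (Fin k) (Fin k) F) *ᵥ x (τ.symm l) = c • x l := by
    intro x hx h0 l
    have h1 := hφ _ h0
    simp only [MulEquiv.coe_toMonoidHom] at h1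
    rw [hval, hWp] at h1
    exact pureVec_factor (y := fun i => (gs i : Matrix (Fin k) (Fin k) F) *ᵥ x (τ.symm i)) hx (hemb h1) l
  have hpick : ∀ (x : Fin t → Fin k → F) (l : Fin t), ∃ y : Fin k → F, y ≠ 0 ∧
      φ (emb (pureVec (Function.update x l y))) = 0 := fun x l => by
    obtain ⟨y, hy, h⟩ := exists_ne_zero_kills [(φ ∘ₗ emb) ∘ₗ slot x l]
      (by rw [Module.finrank_pi, Fintype.card_fin]; simp; omega)
    exact ⟨y, hy, by simpa [slot] using h _ (List.mem_singleton_self _)⟩
  have hτ : τ = 1 := by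
    by_contra hne
    obtain ⟨j, hj⟩ : ∃ j, τ.symm j ≠ j := by
      by_contra hall
      push Not at hall
      exact hne (Equiv.ext fun i => by simpa using (congrArg τ (hall i)).symm)
    set i := τ.symm j with hi
    rcases hkt with hk3 | ht3
    · -- two vectors in one hyperplane of a factor
      let i₀ : Fin k := ⟨0, by omega⟩
      let x₀ : Fin t → Fin k → F := fun _ => Pi.single i₀ 1
      have hx₀ : ∀ l, x₀ l ≠ 0 := fun l h => one_ne_zero (α := F) (by simpa [x₀] using congrFun h i₀)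
      let S := LinearMap.ker ((φ ∘ₗ emb) ∘ₗ slot x₀ i)
      have hSdim : 2 ≤ Module.finrank F S := by
        have h1 := LinearMap.finrank_range_add_finrank_ker ((φ ∘ₗ emb) ∘ₗ slot x₀ i)
        rw [Module.finrank_pi, Fintype.card_fin] at h1
        have h2 : Module.finrank F (LinearMap.range ((φ ∘ₗ emb) ∘ₗ slot x₀ i)) ≤ 1 :=
          (Submodule.finrank_le _).trans (by simp)
        show 2 ≤ Module.finrank F ↥(LinearMap.ker ((φ ∘ₗ emb) ∘ₗ slot x₀ i))
        omega
      have hle : S ≤ Submodule.span F {((((gs j)⁻¹ : GL (Fin k) F)) : Matrix (Fin k) (Fin k) F) *ᵥ x₀ j} := by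
        intro y hy
        by_cases hy0 : y = 0
        · rw [hy0]; exact Submodule.zero_mem _
        obtain ⟨c, hc⟩ := hkill (Function.update x₀ i y) (fun l => by
          by_cases hl : l = i
          · subst hl; simpa using hy0
          · rw [Function.update_of_ne hl]; exact hx₀ l) hy j
        rw [← hi, Function.update_self, Function.update_of_ne (Ne.symm hj)] at hc
        have h2 := congrArg (fun z => (((gs j)⁻¹ : GL (Fin k) F) : Matrix (Fin k) (Fin k) F) *ᵥ z) hc
        simp only [inv_mulVec_mulVec, Matrix.mulVec_smul] at h2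
        rw [h2]
        exact Submodule.smul_mem _ _ (Submodule.mem_span_singleton_self _)
      have h3 := Submodule.finrank_mono hle
      have h4 := finrank_span_le_card (R := F) ({((((gs j)⁻¹ : GL (Fin k) F)) : Matrix (Fin k) (Fin k) F) *ᵥ x₀ j} :
        Set (Fin k → F))
      simp at h4
      omega
    · -- a third factor
      obtain ⟨l, hli, hlj⟩ : ∃ l : Fin t, l ≠ i ∧ l ≠ j := by
        by_contra hall
        push Not at hall
        have : (Finset.univ : Finset (Fin t)) ⊆ {i, j} := fun l _ => by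
          rcases eq_or_ne l i with h | h
          · simp [h]
          · simp [hall l h]
        have := (Finset.card_le_card this).trans Finset.card_le_two
        simp at this
        omega
      let i₀ : Fin k := ⟨0, by omega⟩
      let u : Fin k → F := Pi.single i₀ 1
      have hu : u ≠ 0 := fun h => one_ne_zero (α := F) (by simpa [u] using congrFun h i₀)
      have hgu : (gs j : Matrix (Fin k) (Fin k) F) *ᵥ u ≠ 0 := fun h => hu (by
        rw [← inv_mulVec_mulVec (gs j) u, h, Matrix.mulVec_zero])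
      obtain ⟨w, hw⟩ := exists_vec_not_parallel hk hgu
      have hw0 : w ≠ 0 := fun h => hw 0 (by rw [h, zero_smul])
      let x₀ : Fin t → Fin k → F := Function.update (fun _ => u) j w
      obtain ⟨y, hy, hy0⟩ := hpick x₀ l
      obtain ⟨c, hc⟩ := hkill (Function.update x₀ l y) (fun z => by
        by_cases hz : z = l
        · subst hz; simpa using hy
        · rw [Function.update_of_ne hz]
          by_cases hzj : z = j
          · subst hzj; simpa [x₀] using hw0
          · simp [x₀, Function.update_of_ne hzj, hu]) hy0 j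
      rw [← hi, Function.update_of_ne (Ne.symm hli), Function.update_of_ne (Ne.symm hlj)] at hc
      simp only [x₀, Function.update_of_ne hj, Function.update_self] at hc
      by_cases hc0 : c = 0
      · exact hgu (by rw [hc, hc0, zero_smul])
      · exact hw c⁻¹ (by rw [hc, smul_smul, inv_mul_cancel₀ hc0, one_smul])
  subst hτ
  have hsc : ∀ j, ∃ c : F, (gs j : Matrix (Fin k) (Fin k) F) = c • (1 : Matrix (Fin k) (Fin k) F) := by
    intro j
    refine scalar_of_eigen fun v hv => ?_
    obtain ⟨l, hlj⟩ : ∃ l : Fin t, l ≠ j := by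
      haveI : Nontrivial (Fin t) := Fin.nontrivial_iff_two_le.2 ht
      exact exists_ne j
    obtain ⟨y, hy, hy0⟩ := hpick (fun _ => v) l
    obtain ⟨c, hc⟩ := hkill (Function.update (fun _ => v) l y) (fun z => by
      by_cases hz : z = l
      · subst hz; simpa using hy
      · rw [Function.update_of_ne hz]; exact hv) hy0 j
    refine ⟨c, ?_⟩
    rw [Equiv.Perm.one_symm, Equiv.Perm.one_apply, Function.update_of_ne (Ne.symm hlj)] at hc
    exact hc
  choose c hc using hsc
  refine mem_scalars_of_comm (c := ∏ i, c i) ?_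
  show (P : Matrix ι ι F) * (Matrix.reindexAlgEquiv F F e.symm W) * ((P⁻¹ : GL ι F) : Matrix ι ι F) = _
  have hW1 : W = (∏ i, c i) • 1 := by
    rw [hW, funext hc, AschFormWreath.pureMat_smul, pureMat_one, Matrix.smul_mul, one_mul]
    congr 1
    ext a b
    simp [permMat, Matrix.one_apply, eq_comm]
  rw [hW1, map_smul, map_one, Matrix.mul_smul, mul_one, Matrix.smul_mul, Units.mul_inv]

/-- hyperplane-fixing elements of a tensor product group are scalar -/
theorem tensor_hyperplane {k m : ℕ} (hk : 2 ≤ k) (hm : 2 ≤ m) {e : ι ≃ Fin k × Fin m} {P g : GL ι F}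
    (hg : g ∈ tensorProductSubgroup k m e P) (hfix : FixesHyperplane g) : g ∈ scalars ι F := by
  haveI : Nonempty ι := ⟨e.symm (⟨0, by omega⟩, ⟨0, by omega⟩)⟩
  obtain ⟨_, ⟨w, ⟨A, B, hw⟩, rfl⟩, rfl⟩ := hg
  obtain ⟨φ, hφ⟩ := hfix
  let emb : ((Fin k × Fin m) → F) →ₗ[F] (ι → F) :=
    (Matrix.toLin' (P : Matrix ι ι F)) ∘ₗ (LinearMap.funLeft F F e)
  have hemb : Function.Injective emb := by
    intro u v huv
    have h1 : (u ∘ e : ι → F) = v ∘ e := (act P).injective huv
    funext a
    simpa using congrFun h1 (e.symm a)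
  have hval : ∀ v, ((MulAut.conj P (glReindex e.symm w) : GL ι F) : Matrix ι ι F) *ᵥ emb v =
      emb ((w : Matrix (Fin k × Fin m) (Fin k × Fin m) F) *ᵥ v) := by
    intro v
    show ((P : Matrix ι ι F) * (Matrix.reindexAlgEquiv F F e.symm (w : Matrix (Fin k × Fin m) (Fin k × Fin m) F)) *
      ((P⁻¹ : GL ι F) : Matrix ι ι F)) *ᵥ ((P : Matrix ι ι F) *ᵥ (v ∘ e)) =
        (P : Matrix ι ι F) *ᵥ (((w : Matrix (Fin k × Fin m) (Fin k × Fin m) F) *ᵥ v) ∘ e)
    rw [Matrix.mulVec_mulVec, mul_assoc, Units.inv_mul, mul_one, ← Matrix.mulVec_mulVec]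
    congr 1
    funext i
    simp only [Matrix.mulVec, dotProduct, Matrix.reindexAlgEquiv_apply, Matrix.reindex_apply, Matrix.submatrix_apply,
      Equiv.symm_symm, Function.comp_apply]
    exact Fintype.sum_equiv e _ _ fun j => rfl
  let tv : (Fin k → F) →ₗ[F] (Fin m → F) →ₗ[F] ((Fin k × Fin m) → F) :=
    LinearMap.mk₂ F (fun x y a => x a.1 * y a.2) (fun x x' y => funext fun a => add_mul _ _ _)
      (fun c x y => funext fun a => mul_assoc _ _ _) (fun x y y' => funext fun a => mul_add _ _ _)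
      (fun c x y => funext fun a => mul_left_comm _ _ _)
  have hkill : ∀ x y, x ≠ 0 → y ≠ 0 → φ (emb (tv x y)) = 0 →
      (∃ c : F, (A : Matrix (Fin k) (Fin k) F) *ᵥ x = c • x) ∧ ∃ c : F, (B : Matrix (Fin m) (Fin m) F) *ᵥ y = c • y := by
    intro x y hx hy h0
    have h1 := hφ _ h0
    simp only [MulEquiv.coe_toMonoidHom] at h1
    rw [hval] at h1
    have h2 := hemb h1
    have h3 : ∀ a b, ((A : Matrix (Fin k) (Fin k) F) *ᵥ x) a * ((B : Matrix (Fin m) (Fin m) F) *ᵥ y) b = x a * y b := by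
      intro a b
      refine Eq.trans ?_ (congrFun h2 (a, b))
      rw [hw]
      simp only [Matrix.mulVec, dotProduct, Matrix.kroneckerMap_apply, Fintype.sum_prod_type, tv, LinearMap.mk₂_apply,
        Finset.sum_mul_sum]
      exact Finset.sum_congr rfl fun i _ => Finset.sum_congr rfl fun j _ => by ring
    obtain ⟨a₀, ha₀⟩ := Function.ne_iff.1 hx
    obtain ⟨b₀, hb₀⟩ := Function.ne_iff.1 hy
    have hne := mul_ne_zero ha₀ hb₀
    rw [← h3] at hne
    refine ⟨⟨y b₀ / ((B : Matrix (Fin m) (Fin m) F) *ᵥ y) b₀, funext fun a => ?_⟩,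
      ⟨x a₀ / ((A : Matrix (Fin k) (Fin k) F) *ᵥ x) a₀, funext fun b => ?_⟩⟩
    · rw [Pi.smul_apply, smul_eq_mul, div_mul_eq_mul_div, eq_div_iff (right_ne_zero_of_mul hne), h3, mul_comm]
    · rw [Pi.smul_apply, smul_eq_mul, div_mul_eq_mul_div, eq_div_iff (left_ne_zero_of_mul hne), mul_comm, h3]
  obtain ⟨a, ha⟩ := scalar_of_eigen (A := (A : Matrix (Fin k) (Fin k) F)) fun x hx => by
    obtain ⟨y, hy, h⟩ := exists_ne_zero_kills [(φ ∘ₗ emb) ∘ₗ tv x]
      (by rw [Module.finrank_pi, Fintype.card_fin]; simp; omega)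
    exact (hkill x y hx hy (by simpa using h _ (List.mem_singleton_self _))).1
  obtain ⟨b, hb⟩ := scalar_of_eigen (A := (B : Matrix (Fin m) (Fin m) F)) fun y hy => by
    obtain ⟨x, hx, h⟩ := exists_ne_zero_kills [(φ ∘ₗ emb) ∘ₗ tv.flip y]
      (by rw [Module.finrank_pi, Fintype.card_fin]; simp; omega)
    exact (hkill x y hx hy (by simpa using h _ (List.mem_singleton_self _))).2
  refine mem_scalars_of_comm (c := a * b) ?_
  show (P : Matrix ι ι F) * (Matrix.reindexAlgEquiv F F e.symm (w : Matrix (Fin k × Fin m) (Fin k × Fin m) F)) *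
      ((P⁻¹ : GL ι F) : Matrix ι ι F) = _
  rw [hw, ha, hb, Matrix.smul_kronecker, Matrix.kronecker_smul, smul_smul, Matrix.one_kronecker_one, map_smul,
    map_one, Matrix.mul_smul, mul_one, Matrix.smul_mul, Units.mul_inv]

theorem Transvected.not_le_tensor {Ω : Subgroup (GL ι F)} (hΩ : Transvected Ω) {k m : ℕ} (hk : 2 ≤ k) (hm : 2 ≤ m)
    (e : ι ≃ Fin k × Fin m) (P : GL ι F) : ¬ Ω ≤ tensorProductSubgroup k m e P := fun hle =>
  hΩ.not_scalar (by rw [Fintype.card_congr e, Fintype.card_prod, Fintype.card_fin, Fintype.card_fin]; nlinarith)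
    (hΩ.gen _ fun g hg hg' => tensor_hyperplane hk hm (hle hg) hg')

theorem Transvected.not_le_wreath {Ω : Subgroup (GL ι F)} (hΩ : Transvected Ω) {k t : ℕ} (hk : 2 ≤ k) (ht : 2 ≤ t)
    (hkt : 3 ≤ k ∨ 3 ≤ t) (e : ι ≃ (Fin t → Fin k)) (P : GL ι F) : ¬ Ω ≤ tensorWreathSubgroup k t e P := fun hle =>
  hΩ.not_scalar (by
    rw [Fintype.card_congr e, Fintype.card_fun, Fintype.card_fin, Fintype.card_fin]
    exact hk.trans (Nat.le_self_pow (by omega) k))
    (hΩ.gen _ fun g hg hg' => wreath_hyperplane hk ht hkt (hle hg) hg')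

/-- a class-two irreducible group is normalised by no transvected group in dimension at least five -/
theorem Transvected.not_le_normalizer {Ω : Subgroup (GL ι F)} (hΩ : Transvected Ω) (hn : 5 ≤ Fintype.card ι)
    {R : Subgroup (GL ι F)} (hR : AbsIrred R) (h2 : Class2 R) : ¬ Ω ≤ subgroupNormalizer R := by
  intro hle
  haveI : Nonempty ι := Fintype.card_pos_iff.1 (by omega)
  obtain ⟨x, hx, hxs⟩ : ∃ x ∈ R, x ∉ scalars ι F := by
    by_contra hall
    push Not at hall
    obtain ⟨i⟩ : Nonempty ι := Fintype.card_pos_iff.1 (by omega)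
    have hinv : Inv R (Submodule.span F {(Pi.single i 1 : ι → F)}) := by
      intro g hg w hw
      obtain ⟨c, hc⟩ := (mem_scalars_iff g).1 (hall g hg)
      rw [hc, Matrix.smul_mulVec, Matrix.one_mulVec]
      exact Submodule.smul_mem _ _ hw
    have hv : (Pi.single i 1 : ι → F) ≠ 0 := fun h => one_ne_zero (α := F) (by simpa using congrFun h i)
    rcases hR.irred _ hinv with h | h
    · exact hv (Submodule.span_singleton_eq_bot.1 h)
    · have := finrank_span_singleton (K := F) hv
      rw [h, finrank_top, Module.finrank_pi] at this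
      omega
  apply hxs
  have hC : Ω ≤ Subgroup.centralizer {x} := hΩ.gen _ fun t ht ⟨φ, hφ⟩ => by
    rw [Subgroup.mem_centralizer_singleton_iff]
    by_contra hne
    set y := t * x * t⁻¹ * x⁻¹ with hy
    have hyR : y ∈ R := R.mul_mem ((Subgroup.mem_normalizer_iff.1 (hle ht) x).1 hx) (R.inv_mem hx)
    have hy1 : y ≠ 1 := fun h => hne (by
      rw [hy, mul_inv_eq_one, mul_inv_eq_iff_eq_mul] at h
      first | exact h | exact h.symm)
    let ψ : (ι → F) →ₗ[F] F := φ ∘ₗ Matrix.toLin' ((x⁻¹ : GL ι F) : Matrix ι ι F)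
    let S := LinearMap.ker φ ⊓ LinearMap.ker ψ
    have hfix : ∀ z ∈ S, (y : Matrix ι ι F) *ᵥ z = z := by
      rintro z ⟨h1, h3⟩
      have h3' : φ (((x⁻¹ : GL ι F) : Matrix ι ι F) *ᵥ z) = 0 := by simpa [ψ] using h3
      rw [hy, Units.val_mul, Units.val_mul, Units.val_mul, mul_assoc, mul_assoc, ← Matrix.mulVec_mulVec,
        ← Matrix.mulVec_mulVec, ← Matrix.mulVec_mulVec]
      have e1 : ((t⁻¹ : GL ι F) : Matrix ι ι F) *ᵥ (((x⁻¹ : GL ι F) : Matrix ι ι F) *ᵥ z) =
          ((x⁻¹ : GL ι F) : Matrix ι ι F) *ᵥ z := by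
        conv_lhs => arg 2; rw [← hφ _ h3']
        rw [inv_mulVec_mulVec]
      rw [e1, mulVec_inv_mulVec, hφ z h1]
    have hys : y ∉ scalars ι F := by
      intro hs
      obtain ⟨c, hc⟩ := (mem_scalars_iff y).1 hs
      obtain ⟨z, hz0, hz⟩ := exists_ne_zero_kills [φ, ψ] (by rw [Module.finrank_pi]; simp; omega)
      have h1 := hfix z ⟨hz φ (by simp), hz ψ (by simp)⟩
      rw [hc, Matrix.smul_mulVec, Matrix.one_mulVec] at h1
      have hc1 : (c : F) = 1 := by
        by_contra h
        exact hz0 ((smul_eq_zero.1 (show ((c : F) - 1) • z = 0 by rw [sub_smul, h1, one_smul, sub_self])).resolve_left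
          (sub_ne_zero.2 h))
      exact hy1 (Units.ext (by rw [hc, hc1, one_smul, Units.val_one]))
    obtain ⟨g, hg, hgne⟩ := commutator_ne hR hys
    obtain ⟨l, hl⟩ := (mem_scalars_iff _).1 (h2 g hg y hyR)
    have hl1 : (l : F) ≠ 1 := fun h => hgne (Units.ext (by rw [hl, h, one_smul, Units.val_one]))
    have hgy : (g : Matrix ι ι F) * (y : Matrix ι ι F) = (l : F) • ((y : Matrix ι ι F) * (g : Matrix ι ι F)) := by
      have e : g * y = ⁅g, y⁆ * (y * g) := by rw [commutatorElement_def]; group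
      have := congrArg (fun u : GL ι F => (u : Matrix ι ι F)) e
      simpa [hl, Matrix.smul_mul] using this
    let T := (LinearMap.ker φ ⊓ LinearMap.ker ψ).map (Matrix.toLin' (g : Matrix ι ι F))
    have hdisj : S ⊓ T = ⊥ := by
      rw [eq_bot_iff]
      rintro _ ⟨h1, ⟨z, hz, rfl⟩⟩
      have e1 := hfix _ h1
      rw [Matrix.toLin'_apply] at e1 ⊢
      have e2 := congrArg (fun A => A *ᵥ z) hgy
      simp only [← Matrix.mulVec_mulVec, Matrix.smul_mulVec, hfix z hz, e1] at e2
      rw [Submodule.mem_bot]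
      exact (smul_eq_zero.1 (show ((1 : F) - l) • ((g : Matrix ι ι F) *ᵥ z) = 0 by
        rw [sub_smul, one_smul, sub_eq_zero]; exact e2)).resolve_left (sub_ne_zero.2 (Ne.symm hl1))
    have hS : Fintype.card ι ≤ Module.finrank F S + 2 := by
      have hker : ∀ l : (ι → F) →ₗ[F] F, Fintype.card ι ≤ Module.finrank F (LinearMap.ker l) + 1 := fun l => by
        have h1 := LinearMap.finrank_range_add_finrank_ker l
        have h3 : Module.finrank F (LinearMap.range l) ≤ 1 := (Submodule.finrank_le _).trans (by simp)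
        rw [Module.finrank_pi] at h1
        omega
      have h1 := Submodule.finrank_sup_add_finrank_inf_eq (LinearMap.ker φ) (LinearMap.ker ψ)
      have h3 := Submodule.finrank_le (LinearMap.ker φ ⊔ LinearMap.ker ψ)
      rw [Module.finrank_pi] at h3
      have := hker φ
      have := hker ψ
      show Fintype.card ι ≤ Module.finrank F ↥(LinearMap.ker φ ⊓ LinearMap.ker ψ) + 2
      omega
    have hT : Module.finrank F T = Module.finrank F S :=
      LinearEquiv.finrank_eq (Submodule.equivMapOfInjective _ (fun a b hab => (act g).injective (by simpa using hab)) _).symm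
    have h1 := Submodule.finrank_sup_add_finrank_inf_eq S T
    have h3 := Submodule.finrank_le (S ⊔ T)
    rw [Module.finrank_pi] at h3
    rw [hdisj, finrank_bot, hT] at h1
    omega
  obtain ⟨c, hc⟩ := hΩ.commutant (x : Matrix ι ι F) fun g hg => by
    have := Subgroup.mem_centralizer_singleton_iff.1 (hC hg)
    rw [← Units.val_mul, ← Units.val_mul, this]
  exact mem_scalars_of_comm hc

end Cfsg.Agent.AschCase
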