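/-
Aschbacher's theorem in prime dimension, unitary case, part 1: the special unitary group lies in none of the
geometric stabilisers.
-/
import Cfsg.Agent.Lib.AschPrimeLinear
import Cfsg.Agent.Lib.OrthUnitaryHerm

set_option autoImplicit false

namespace Cfsg.Agent.AschPrimeUnitaryProper

open scoped Matrix
open Cfsg Cfsg.Geo Cfsg.Agent.AschPrimeBasic Cfsg.Agent.AschPrimeClifford Cfsg.Agent.AschPrimeExtra
  Cfsg.Agent.AschPrimeCore Cfsg.Agent.AschPrimeForms
open Cfsg.Agent.OrthUnitaryHerm (IsU)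

variable {n : ℕ} {F : Type*} [Field F] [Fintype F] {q : ℕ}

/-- the special unitary group inside the general linear group -/
abbrev suGL (n : ℕ) (F : Type*) [Field F] (q : ℕ) : Subgroup (GL (Fin n) F) :=
  Cfsg.GU n F q ⊓ specialLinear (Fin n) F

lemma exists_mem_of_isU (hF : Fintype.card F = q ^ 2) {M : Matrix (Fin n) (Fin n) F} (hM : IsU q M)
    (hd : M.det = 1) : ∃ g ∈ suGL n F q, (g : Matrix (Fin n) (Fin n) F) = M := by
  refine ⟨(OrthUnitaryHerm.mkGU hF M hM : GL (Fin n) F), ⟨(OrthUnitaryHerm.mkGU hF M hM).2, ?_⟩,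
    OrthUnitaryHerm.mkGU_coe hF M hM⟩
  refine (mem_sl_iff _).2 ?_
  rw [OrthUnitaryHerm.mkGU_coe]
  exact hd

/-- root transvections lie in the special unitary group -/
lemma exists_transvection (hF : Fintype.card F = q ^ 2) {b : Fin n → F} (hb : hermForm n F q b b = 0)
    {c : F} (hc : c + c ^ q = 0) :
    ∃ T ∈ suGL n F q, (∀ x, (T : Matrix (Fin n) (Fin n) F) *ᵥ x = x + (c * hermForm n F q x b) • b) ∧
      ∀ k : ℕ, ∀ x, ((T ^ k : GL (Fin n) F) : Matrix (Fin n) (Fin n) F) *ᵥ x =
        x + ((k : F) * (c * hermForm n F q x b)) • b := by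
  obtain ⟨T, hT, hTv⟩ := exists_mem_of_isU hF
    (OrthUnitaryHerm.isU_transvection hF (w := b) (c := c) (by rw [hb, mul_zero, add_zero]; exact hc))
    (by rw [OrthUnitaryHerm.det_transvection hF, hb, mul_zero, add_zero])
  have h1 : ∀ x, (T : Matrix (Fin n) (Fin n) F) *ᵥ x = x + (c * hermForm n F q x b) • b := fun x => by
    rw [hTv, OrthUnitaryHerm.transvection_mulVec]
  refine ⟨T, hT, h1, fun k => ?_⟩
  induction k with
  | zero => simp
  | succ k ih =>
    intro x
    rw [pow_succ', Units.val_mul, ← Matrix.mulVec_mulVec, ih, h1, OrthUnitaryHerm.herm_add_left,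
      OrthUnitaryHerm.herm_smul_left, hb, mul_zero, add_zero, Nat.cast_succ, add_mul, one_mul, add_smul,
      add_assoc]

/-- a fixed choice of transvection parameter -/
lemma exists_parameter (hF : Fintype.card F = q ^ 2) : ∃ c : F, c ≠ 0 ∧ c + c ^ q = 0 :=
  OrthUnitaryHerm.exists_skew hF

/-- scalars of norm minus one, three of them distinct -/
lemma exists_three_isotropic (hF : Fintype.card F = q ^ 2) :
    ∃ a₁ a₂ a₃ : F, a₁ ≠ a₂ ∧ a₁ ≠ a₃ ∧ a₂ ≠ a₃ ∧
      a₁ ^ (q + 1) = -1 ∧ a₂ ^ (q + 1) = -1 ∧ a₃ ^ (q + 1) = -1 := by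
  classical
  have h1 := OrthUnitaryHerm.card_norm_fibre hF (a := (-1 : F))
    (by rw [OrthUnitaryHerm.neg_pow_q hF, one_pow])
  rw [if_neg (neg_ne_zero.2 one_ne_zero), Nat.card_eq_fintype_card] at h1
  have hq := OrthUnitaryHerm.two_le_q hF
  obtain ⟨⟨a, ha⟩, ⟨b, hb⟩, ⟨c, hc⟩, h12, h13, h23⟩ :=
    Fintype.two_lt_card_iff.1 (show 2 < Fintype.card {x : F // x ^ (q + 1) = -1} by omega)
  exact ⟨a, b, c, fun h => h12 (Subtype.ext h), fun h => h13 (Subtype.ext h),
    fun h => h23 (Subtype.ext h), ha, hb, hc⟩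

/-- the isotropic vector `e_i + a e_j` -/
def isoVec (i j : Fin n) (a : F) : Fin n → F := Pi.single i 1 + a • Pi.single j 1

omit [Fintype F] in
lemma isoVec_left {i j : Fin n} (hij : i ≠ j) (a : F) : isoVec i j a i = 1 := by
  simp [isoVec, hij]

omit [Fintype F] in
lemma isoVec_right {i j : Fin n} (hij : i ≠ j) (a : F) : isoVec i j a j = a := by
  simp [isoVec, hij.symm]

omit [Fintype F] in
lemma isoVec_off {i j k : Fin n} (hi : k ≠ i) (hj : k ≠ j) (a : F) : isoVec i j a k = 0 := by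
  simp [isoVec, hi, hj]

lemma isoVec_isotropic (hF : Fintype.card F = q ^ 2) {i j : Fin n} (hij : i ≠ j) {a : F}
    (ha : a ^ (q + 1) = -1) : hermForm n F q (isoVec i j a) (isoVec i j a) = 0 := by
  simp only [hermForm]
  rw [Finset.sum_eq_add_of_mem i j (Finset.mem_univ _) (Finset.mem_univ _) hij
    (fun k _ hk => by rw [isoVec_off hk.1 hk.2, zero_mul]), isoVec_left hij, isoVec_right hij, one_pow,
    ← pow_succ', ha]
  ring

omit [Fintype F] in
lemma isoVec_ne_zero {i j : Fin n} (hij : i ≠ j) (a : F) : isoVec i j a ≠ 0 := fun h => by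
  have := congrFun h i
  rw [isoVec_left hij] at this
  exact one_ne_zero this

omit [Fintype F] in
lemma mulVec_isoVec (M : Matrix (Fin n) (Fin n) F) (i j : Fin n) (a : F) (k : Fin n) :
    (M *ᵥ isoVec i j a) k = M k i + a * M k j := by
  simp [isoVec, Matrix.mulVec_add, Matrix.mulVec_smul]

/-- a matrix having every isotropic vector as an eigenvector is scalar -/
lemma scalar_of_iso_eigen (hF : Fintype.card F = q ^ 2) (hn : 2 ≤ n) {M : Matrix (Fin n) (Fin n) F}
    (h : ∀ b : Fin n → F, b ≠ 0 → hermForm n F q b b = 0 → ∃ l : F, M *ᵥ b = l • b) :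
    ∃ c : F, M = c • (1 : Matrix (Fin n) (Fin n) F) := by
  obtain ⟨a₁, a₂, a₃, h12, h13, h23, ha₁, ha₂, ha₃⟩ := exists_three_isotropic hF
  have key : ∀ i j, i ≠ j → M i j = 0 ∧ M i i = M j j := by
    intro i j hij
    have e : ∀ a : F, a ^ (q + 1) = -1 → ∃ l : F, M i i + a * M i j = l ∧ M j i + a * M j j = l * a := by
      intro a ha
      obtain ⟨l, hl⟩ := h _ (isoVec_ne_zero hij a) (isoVec_isotropic hF hij ha)
      refine ⟨l, ?_, ?_⟩
      · have := congrFun hl i
        rwa [mulVec_isoVec, Pi.smul_apply, isoVec_left hij, smul_eq_mul, mul_one] at this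
      · have := congrFun hl j
        rwa [mulVec_isoVec, Pi.smul_apply, isoVec_right hij, smul_eq_mul] at this
    obtain ⟨l₁, e₁, f₁⟩ := e a₁ ha₁
    obtain ⟨l₂, e₂, f₂⟩ := e a₂ ha₂
    obtain ⟨l₃, e₃, f₃⟩ := e a₃ ha₃
    subst e₁ e₂ e₃
    have g12 : M i j * (a₁ + a₂) + (M i i - M j j) = 0 :=
      (mul_eq_zero.1 (show (a₁ - a₂) * (M i j * (a₁ + a₂) + (M i i - M j j)) = 0 by
        linear_combination f₂ - f₁)).resolve_left (sub_ne_zero.2 h12)
    have g13 : M i j * (a₁ + a₃) + (M i i - M j j) = 0 :=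
      (mul_eq_zero.1 (show (a₁ - a₃) * (M i j * (a₁ + a₃) + (M i i - M j j)) = 0 by
        linear_combination f₃ - f₁)).resolve_left (sub_ne_zero.2 h13)
    have hij0 : M i j = 0 := (mul_eq_zero.1 (show M i j * (a₂ - a₃) = 0 by
      linear_combination g12 - g13)).resolve_right (sub_ne_zero.2 h23)
    refine ⟨hij0, ?_⟩
    rw [hij0, zero_mul, zero_add, sub_eq_zero] at g12
    exact g12
  let i₀ : Fin n := ⟨0, by omega⟩
  refine ⟨M i₀ i₀, Matrix.ext fun i j => ?_⟩
  by_cases hij : i = j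
  · subst hij
    by_cases hi : i = i₀
    · subst hi; simp
    · simp [(key i i₀ hi).2]
  · simp [(key i j hij).1, hij]

/-- a matrix commuting with all root transvections is scalar -/
lemma scalar_of_comm_su (hF : Fintype.card F = q ^ 2) (hn : 2 ≤ n) {M : Matrix (Fin n) (Fin n) F}
    (h : ∀ g ∈ suGL n F q, M * (g : Matrix (Fin n) (Fin n) F) = (g : Matrix (Fin n) (Fin n) F) * M) :
    ∃ c : F, M = c • (1 : Matrix (Fin n) (Fin n) F) := by
  obtain ⟨c, hc0, hc⟩ := exists_parameter hF
  refine scalar_of_iso_eigen hF hn fun b hb0 hb => ?_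
  obtain ⟨T, hT, hTv, -⟩ := exists_transvection hF hb hc
  obtain ⟨x, hx⟩ : ∃ x, hermForm n F q x b ≠ 0 := by
    by_contra hall
    push Not at hall
    exact hb0 (OrthUnitaryHerm.eq_zero_of_herm_eq_zero hF fun x => by
      rw [OrthUnitaryHerm.herm_conj hF x b, hall, OrthUnitaryHerm.zero_pow_q hF])
  refine ⟨(c * hermForm n F q (M *ᵥ x) b) / (c * hermForm n F q x b), ?_⟩
  have h1 := congrArg (fun A => A *ᵥ x) (h T hT)
  simp only [← Matrix.mulVec_mulVec, hTv, Matrix.mulVec_add, Matrix.mulVec_smul] at h1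
  have h2 := add_left_cancel h1
  rw [div_eq_inv_mul, mul_smul, ← h2, inv_smul_smul₀ (mul_ne_zero hc0 hx)]

/-- the stabiliser of a family of lines in number equal to the dimension is monomial in a suitable basis -/
lemma lines_mono' {D : Fin (Fintype.card (Fin n)) → Submodule F (Fin n → F)} (hD : IsMDecomposition 1 D) :
    ∃ B : GL (Fin n) F, ∀ h ∈ decompositionStabilizer D, ∃ (π : Equiv.Perm (Fin n)) (d : Fin n → F),
      (∀ i, d i ≠ 0) ∧
      ∀ k i, ((B⁻¹ * h * B : GL (Fin n) F) : Matrix (Fin n) (Fin n) F) k i = if k = π i then d i else 0 := by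
  obtain ⟨B, hB⟩ := AschPrimeLinear.lines_mono hD
  refine ⟨B, fun h hh => ?_⟩
  obtain ⟨π, d, hd, hM⟩ := hB h hh
  refine ⟨π, d, fun i h0 => ?_, hM⟩
  have := hd i
  rw [h0, zero_pow (by have := Fintype.one_lt_card (α := F); omega)] at this
  exact zero_ne_one this

/-! ### irreducibility -/

lemma exists_diag (hF : Fintype.card F = q ^ 2) {a : F} (ha : a ^ (q + 1) = 1) {i k : Fin n} (hik : i ≠ k) :
    ∃ g ∈ suGL n F q, ∀ (v : Fin n → F) (l : Fin n),
      ((g : Matrix (Fin n) (Fin n) F) *ᵥ v) l = (if l = i then a else if l = k then a⁻¹ else 1) * v l := by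
  have hd : ∀ l : Fin n, (if l = i then a else if l = k then a⁻¹ else 1) ^ (q + 1) = 1 := by
    intro l
    split_ifs
    · exact ha
    · rw [inv_pow, ha, inv_one]
    · exact one_pow _
  have ha0 : a ≠ 0 := fun h => by simp [h] at ha
  obtain ⟨g, hg, hgv⟩ := exists_mem_of_isU hF (OrthUnitaryHerm.isU_monMat (1 : Equiv.Perm (Fin n)) hd) (by
    rw [OrthUnitaryHerm.det_monMat, Finset.prod_eq_mul_of_mem i k (Finset.mem_univ _) (Finset.mem_univ _) hik
      (fun l _ hl => by simp [hl.1, hl.2])]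
    simp [hik.symm, mul_inv_cancel₀ ha0])
  exact ⟨g, hg, fun v l => by rw [hgv, OrthUnitaryHerm.monMat_mulVec]; rfl⟩

lemma su_irred (hF : Fintype.card F = q ^ 2) (hn : 3 ≤ n) : Irred (suGL n F q) := by
  intro W hW
  by_cases hb : W = ⊥
  · exact Or.inl hb
  obtain ⟨w, hw, hw0⟩ := (Submodule.ne_bot_iff W).1 hb
  obtain ⟨i, hi⟩ := Function.ne_iff.1 hw0
  obtain ⟨a, ha, ha2⟩ := OrthUnitaryHerm.exists_normOne_sq_ne_one hF
  have ha' : (a : F) ^ (q + 1) = 1 := by
    rw [← Units.val_pow_eq_pow_val, ha, Units.val_one]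
  have ha1 : (a : F) ≠ 1 := fun h => ha2 (by rw [Units.ext (show (a : F) = ((1 : Fˣ) : F) from h), one_pow])
  have step : ∀ (u : Fin n → F), u ∈ W → u i ≠ 0 → ∀ k, i ≠ k →
      ∃ u' ∈ W, u' i ≠ 0 ∧ ∀ l, l ≠ i → (l ≠ k ∨ u l = 0) → u' l = 0 := by
    intro u hu hui k hik
    obtain ⟨g, hg, hgv⟩ := exists_diag hF ha' hik
    refine ⟨(g : Matrix (Fin n) (Fin n) F) *ᵥ u - u, W.sub_mem (hW g hg u hu) hu, ?_, fun l hli hl => ?_⟩
    · rw [Pi.sub_apply, hgv, if_pos rfl]
      intro h0
      exact mul_ne_zero (sub_ne_zero.2 ha1) hui (by linear_combination h0)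
    · rw [Pi.sub_apply, hgv, if_neg hli]
      rcases hl with hlk | hz
      · rw [if_neg hlk, one_mul, sub_self]
      · rw [hz, mul_zero, sub_zero]
  have hthird : ∀ a b : Fin n, ∃ c, a ≠ c ∧ b ≠ c := by
    intro a b
    obtain ⟨c, hc⟩ := Finset.exists_mem_notMem_of_card_lt_card
      (show ({a, b} : Finset (Fin n)).card < (Finset.univ : Finset (Fin n)).card by
        have h1 := Finset.card_le_two (a := a) (b := b)
        rw [Finset.card_univ, Fintype.card_fin]
        omega)
    simp only [Finset.mem_insert, Finset.mem_singleton, not_or] at hc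
    exact ⟨c, fun h => hc.2.1 h.symm, fun h => hc.2.2 h.symm⟩
  obtain ⟨k, hik, -⟩ := hthird i i
  obtain ⟨k', hik', hkk'⟩ := hthird i k
  obtain ⟨u, hu, hui, hu0⟩ := step w hw hi k hik
  obtain ⟨u', hu', hu'i, hu'0⟩ := step u hu hui k' hik'
  have hu'eq : u' = u' i • (Pi.single i 1 : Fin n → F) := by
    funext l
    by_cases hl : l = i
    · subst hl; simp
    have : u' l = 0 := by
      apply hu'0 l hl
      by_cases hl' : l = k'
      · exact Or.inr (hu0 l hl (Or.inl (hl'.trans_ne hkk'.symm)))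
      · exact Or.inl hl'
    simp [this, hl]
  have hei : (Pi.single i 1 : Fin n → F) ∈ W := by
    have := W.smul_mem (u' i)⁻¹ hu'
    rwa [hu'eq, smul_smul, Pi.smul_apply, Pi.single_eq_same, smul_eq_mul, mul_one,
      inv_mul_cancel₀ hu'i, one_smul] at this
  refine Or.inr (eq_top_iff.2 fun v _ => ?_)
  rw [pi_eq_sum_univ' v]
  refine W.sum_mem fun j _ => W.smul_mem _ ?_
  by_cases hij : i = j
  · exact hij ▸ hei
  obtain ⟨l, hil, hjl⟩ := hthird i j
  let π : Equiv.Perm (Fin n) := Equiv.swap j l * Equiv.swap i j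
  obtain ⟨g, hg, hgv⟩ := exists_mem_of_isU hF
    (OrthUnitaryHerm.isU_monMat π (d := fun _ => (1 : F)) fun _ => one_pow _) (by
      rw [OrthUnitaryHerm.det_monMat, Equiv.Perm.sign_mul, Equiv.Perm.sign_swap hij, Equiv.Perm.sign_swap hjl]
      simp)
  have h1 := hW g hg _ hei
  have h2 : (g : Matrix (Fin n) (Fin n) F) *ᵥ (Pi.single i 1 : Fin n → F) = Pi.single (π.symm i) 1 := by
    funext r
    rw [hgv, OrthUnitaryHerm.monMat_mulVec, one_mul, Pi.single_apply, Pi.single_apply]
    exact if_congr ⟨fun h => (π.eq_symm_apply).2 h, fun h => (π.eq_symm_apply).1 h⟩ rfl rfl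
  have h3 : π.symm i = j := by
    rw [Equiv.symm_apply_eq]
    simp [π, Equiv.swap_apply_of_ne_of_ne hij hil]
  rwa [h2, h3] at h1

/-! ### the other stabilisers -/

lemma su_not_le_subspaceStabilizer (hF : Fintype.card F = q ^ 2) (hn : 3 ≤ n) {W : Submodule F (Fin n → F)}
    (hb : W ≠ ⊥) (ht : W ≠ ⊤) : ¬ suGL n F q ≤ subspaceStabilizer W := fun h =>
  (su_irred hF hn W ((inv_iff_le_stabilizer _ _).2 h)).elim hb ht

lemma su_not_le_lines (hF : Fintype.card F = q ^ 2) (hn : 4 ≤ n)
    {D : Fin (Fintype.card (Fin n)) → Submodule F (Fin n → F)} (hD : IsMDecomposition 1 D) :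
    ¬ suGL n F q ≤ decompositionStabilizer D := by
  classical
  intro hle
  obtain ⟨B, hB⟩ := lines_mono' hD
  obtain ⟨c, hc0, hc⟩ := exists_parameter hF
  -- every isotropic vector has exactly two coordinates
  have hsupp : ∀ b : Fin n → F, b ≠ 0 → hermForm n F q b b = 0 → ∃ i j, i ≠ j ∧
      ∀ k, (((B⁻¹ : GL (Fin n) F) : Matrix (Fin n) (Fin n) F) *ᵥ b) k ≠ 0 ↔ k = i ∨ k = j := by
    intro b hb0 hb
    set y := ((B⁻¹ : GL (Fin n) F) : Matrix (Fin n) (Fin n) F) *ᵥ b with hy
    have hy0 : y ≠ 0 := fun h => hb0 (by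
      have := mulVec_inv_mulVec B b
      rw [← hy, h, Matrix.mulVec_zero] at this
      exact this.symm)
    have hby : (B : Matrix (Fin n) (Fin n) F) *ᵥ y = b := mulVec_inv_mulVec B b
    obtain ⟨i, hi⟩ : ∃ i, hermForm n F q ((B : Matrix (Fin n) (Fin n) F) *ᵥ Pi.single i 1) b ≠ 0 := by
      by_contra hall
      push Not at hall
      apply hb0
      refine OrthUnitaryHerm.eq_zero_of_herm_eq_zero hF fun x => ?_
      have h0 : hermForm n F q x b = 0 := by
        let L : (Fin n → F) →ₗ[F] F :=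
          { toFun := fun v => hermForm n F q v b
            map_add' := fun u v => OrthUnitaryHerm.herm_add_left u v b
            map_smul' := fun c v => OrthUnitaryHerm.herm_smul_left c v b }
        have h1 : L.comp (act B : (Fin n → F) →ₗ[F] (Fin n → F)) = 0 :=
          (Pi.basisFun F (Fin n)).ext fun i => by simpa [L] using hall i
        have := LinearMap.congr_fun h1 (((B⁻¹ : GL (Fin n) F) : Matrix (Fin n) (Fin n) F) *ᵥ x)
        simpa [L, mulVec_inv_mulVec] using this
      rw [OrthUnitaryHerm.herm_conj hF x b, h0, OrthUnitaryHerm.zero_pow_q hF]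
    obtain ⟨T, hT, hTv, -⟩ := exists_transvection hF hb hc
    obtain ⟨π, d, hd, hM⟩ := hB T (hle hT)
    set t := c * hermForm n F q ((B : Matrix (Fin n) (Fin n) F) *ᵥ Pi.single i 1) b with ht
    have ht0 : t ≠ 0 := mul_ne_zero hc0 hi
    have hcol : ∀ k, (Pi.single i (1 : F) : Fin n → F) k + t * y k = if k = π i then d i else 0 := by
      intro k
      rw [← hM]
      have h1 : ((B⁻¹ * T * B : GL (Fin n) F) : Matrix (Fin n) (Fin n) F) *ᵥ Pi.single i 1 =
          Pi.single i 1 + t • y := by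
        rw [Units.val_mul, Units.val_mul, ← Matrix.mulVec_mulVec, ← Matrix.mulVec_mulVec, hTv,
          Matrix.mulVec_add, Matrix.mulVec_smul, inv_mulVec_mulVec]
      have h2 := congrFun h1 k
      simpa [Matrix.mulVec_single_one] using h2.symm
    have hoff : ∀ k, k ≠ i → k ≠ π i → y k = 0 := fun k h1 h2 => by
      simpa [h1, h2, ht0] using hcol k
    have hπ : π i ≠ i := by
      intro h
      have hy1 : y = y i • (Pi.single i 1 : Fin n → F) := by
        funext k
        by_cases hk : k = i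
        · subst hk; simp
        · simp [hk, hoff k hk (by rw [h]; exact hk)]
      have hyi : y i ≠ 0 := fun h0 => hy0 (by rw [hy1, h0, zero_smul])
      have h3 : hermForm n F q b b = y i * hermForm n F q ((B : Matrix (Fin n) (Fin n) F) *ᵥ Pi.single i 1) b := by
        conv_lhs => arg 4; rw [← hby, hy1, Matrix.mulVec_smul]
        rw [OrthUnitaryHerm.herm_smul_left]
      exact mul_ne_zero hyi hi (h3.symm.trans hb)
    refine ⟨i, π i, hπ.symm, fun k => ⟨fun hk => ?_, ?_⟩⟩
    · by_contra hkk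
      push Not at hkk
      exact hk (hoff k hkk.1 hkk.2)
    · rintro (rfl | rfl) h0
      · simpa [hπ.symm, h0] using hcol k
      · have h1 := hcol (π i)
        rw [h0, mul_zero, add_zero, Pi.single_eq_of_ne hπ, if_pos rfl] at h1
        exact hd i h1.symm
  -- two orthogonal isotropic vectors
  obtain ⟨a, -, -, -, -, -, ha, -, -⟩ := exists_three_isotropic hF
  let e : Fin 4 → Fin n := fun k => ⟨k, by omega⟩
  have he : ∀ k l, k ≠ l → e k ≠ e l := fun k l hkl h => hkl (Fin.ext (by simpa [e] using congrArg Fin.val h))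
  set b := isoVec (e 0) (e 1) a with hb
  set b' := isoVec (e 2) (e 3) a with hb'
  have hiso : ∀ s : F, hermForm n F q (b + s • b') (b + s • b') = 0 := by
    intro s
    have o : ∀ (i j k l : Fin n), i ≠ k → i ≠ l → j ≠ k → j ≠ l →
        hermForm n F q (isoVec i j a) (isoVec k l a) = 0 := by
      intro i j k l h1 h2 h3 h4
      refine Finset.sum_eq_zero fun m _ => ?_
      by_cases hm : m = k ∨ m = l
      · rw [isoVec_off (by rcases hm with rfl | rfl <;> [exact h1.symm; exact h2.symm])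
          (by rcases hm with rfl | rfl <;> [exact h3.symm; exact h4.symm]), zero_mul]
      · push Not at hm
        rw [isoVec_off hm.1 hm.2, OrthUnitaryHerm.zero_pow_q hF, mul_zero]
    simp only [hb, hb', OrthUnitaryHerm.herm_add_left, OrthUnitaryHerm.herm_add_right hF,
      OrthUnitaryHerm.herm_smul_left, OrthUnitaryHerm.herm_smul_right,
      isoVec_isotropic hF (he 0 1 (by decide)) ha, isoVec_isotropic hF (he 2 3 (by decide)) ha,
      o _ _ _ _ (he 0 2 (by decide)) (he 0 3 (by decide)) (he 1 2 (by decide)) (he 1 3 (by decide)),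
      o _ _ _ _ (he 2 0 (by decide)) (he 2 1 (by decide)) (he 3 0 (by decide)) (he 3 1 (by decide)),
      mul_zero, add_zero]
  have hne : ∀ s : F, b + s • b' ≠ 0 := by
    intro s h
    have := congrFun h (e 0)
    simp [hb, hb', isoVec_left (he 0 1 (by decide)), isoVec_off (he 0 2 (by decide)) (he 0 3 (by decide))] at this
  set y := ((B⁻¹ : GL (Fin n) F) : Matrix (Fin n) (Fin n) F) *ᵥ b with hy
  set y' := ((B⁻¹ : GL (Fin n) F) : Matrix (Fin n) (Fin n) F) *ᵥ b' with hy'
  have hcomb : ∀ s : F, ((B⁻¹ : GL (Fin n) F) : Matrix (Fin n) (Fin n) F) *ᵥ (b + s • b') = y + s • y' :=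
    fun s => by rw [Matrix.mulVec_add, Matrix.mulVec_smul]
  obtain ⟨i, j, hij, hyi⟩ := hsupp b (isoVec_ne_zero (he 0 1 (by decide)) a)
    (isoVec_isotropic hF (he 0 1 (by decide)) ha)
  obtain ⟨i', j', hij', hyi'⟩ := hsupp b' (isoVec_ne_zero (he 2 3 (by decide)) a)
    (isoVec_isotropic hF (he 2 3 (by decide)) ha)
  rw [← hy] at hyi
  rw [← hy'] at hyi'
  by_cases hsub : ∀ k, y' k ≠ 0 → y k ≠ 0
  · -- the same pair: cancel a coordinate
    have h1 : y' i' ≠ 0 := (hyi' i').2 (Or.inl rfl)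
    obtain ⟨k, l, hkl, hsup⟩ := hsupp (b + (-(y i' / y' i')) • b') (hne _) (hiso _)
    rw [hcomb] at hsup
    have hz : ∀ m, (m = k ∨ m = l) → m ≠ i' ∧ (m = i ∨ m = j) := by
      intro m hm
      have h2 := (hsup m).2 hm
      refine ⟨fun hmi => h2 (by subst hmi; simp [div_mul_cancel₀ _ h1]), (hyi m).1 fun h0 => h2 ?_⟩
      have : y' m = 0 := by_contra fun h3 => hsub m h3 h0
      simp [h0, this]
    have hi' : i' = i ∨ i' = j := (hyi i').1 (hsub i' h1)
    have hk := hz k (Or.inl rfl)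
    have hl := hz l (Or.inr rfl)
    apply hkl
    rcases hi' with h | h <;> rcases hk.2 with h' | h' <;> rcases hl.2 with h'' | h'' <;>
      first
      | exact h'.trans h''.symm
      | (exfalso; exact hk.1 (h'.trans h.symm))
      | (exfalso; exact hl.1 (h''.trans h.symm))
  · push Not at hsub
    obtain ⟨r, hr', hr⟩ := hsub
    obtain ⟨s, hs0, hs⟩ : ∃ s : F, s ≠ 0 ∧ ∀ m, y m ≠ 0 → y m + s * y' m ≠ 0 := by
      have hq := OrthUnitaryHerm.two_le_q hF
      obtain ⟨s, hs⟩ := Finset.exists_mem_notMem_of_card_lt_card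
        (show ({0, -(y i / y' i), -(y j / y' j)} : Finset F).card < (Finset.univ : Finset F).card by
          have h1 := Finset.card_le_three (a := (0 : F)) (b := -(y i / y' i)) (c := -(y j / y' j))
          rw [Finset.card_univ, hF]
          nlinarith)
      simp only [Finset.mem_insert, Finset.mem_singleton, not_or] at hs
      refine ⟨s, hs.2.1, fun m hm h0 => ?_⟩
      by_cases h1 : y' m = 0
      · exact hm (by simpa [h1] using h0)
      have h2 : s = -(y m / y' m) := by field_simp; linear_combination h0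
      rcases (hyi m).1 hm with rfl | rfl
      · exact hs.2.2.1 h2
      · exact hs.2.2.2 h2
    obtain ⟨k, l, hkl, hsup⟩ := hsupp (b + s • b') (hne _) (hiso _)
    rw [hcomb] at hsup
    have m1 := (hsup i).1 (hs i ((hyi i).2 (Or.inl rfl)))
    have m2 := (hsup j).1 (hs j ((hyi j).2 (Or.inr rfl)))
    have m3 := (hsup r).1 (by simp [hr, hs0, hr'])
    have n1 : r ≠ i := fun h => (hyi r).2 (Or.inl h) hr
    have n2 : r ≠ j := fun h => (hyi r).2 (Or.inr h) hr
    rcases m1 with h | h <;> rcases m2 with h' | h' <;> rcases m3 with h'' | h'' <;>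
      first
      | exact hij (h.trans h'.symm)
      | exact n1 (h''.trans h.symm)
      | exact n2 (h''.trans h'.symm)

lemma exists_vec_two {φ ψ : (Fin n → F) →ₗ[F] F} (hn : 3 ≤ n) :
    ∃ v : Fin n → F, v ≠ 0 ∧ φ v = 0 ∧ ψ v = 0 := by
  have hlt : Module.finrank F (F × F) < Module.finrank F (Fin n → F) := by simp; omega
  obtain ⟨v, hv, hv0⟩ := (Submodule.ne_bot_iff _).1 ((φ.prod ψ).ker_ne_bot_of_finrank_lt hlt)
  exact ⟨v, hv0, congrArg Prod.fst hv, congrArg Prod.snd hv⟩

/-- the linear functional `x ↦ f(x, b)` -/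
def hL (b : Fin n → F) : (Fin n → F) →ₗ[F] F where
  toFun v := hermForm n F q v b
  map_add' u v := OrthUnitaryHerm.herm_add_left u v b
  map_smul' c v := OrthUnitaryHerm.herm_smul_left c v b

lemma eq_bot_of_all_scalar {K : Subalgebra F (Matrix (Fin n) (Fin n) F)}
    (h : ∀ k ∈ K, ∃ c : F, k = c • (1 : Matrix (Fin n) (Fin n) F)) : K = ⊥ := by
  refine eq_bot_iff.2 fun k hk => ?_
  obtain ⟨c, hc⟩ := h k hk
  rw [Algebra.mem_bot]
  exact ⟨c, by rw [hc, Algebra.algebraMap_eq_smul_one]⟩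

lemma su_not_le_subalgebraNormalizer (hF : Fintype.card F = q ^ 2) (hn : 3 ≤ n) {r : ℕ} (hr : 2 ≤ r)
    {K : Subalgebra F (Matrix (Fin n) (Fin n) F)} (hK : IsFieldSubalgebra r K) :
    ¬ suGL n F q ≤ subalgebraNormalizer K := by
  intro hle
  obtain ⟨c, hc0, hc⟩ := exists_parameter hF
  have h1 : ∀ k ∈ K, ∃ a : F, k = a • (1 : Matrix (Fin n) (Fin n) F) := by
    intro k hk
    refine scalar_of_iso_eigen hF (by omega) fun b hb0 hb => ?_
    obtain ⟨T, hT, hTv, -⟩ := exists_transvection hF hb hc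
    have h2 : (T : Matrix (Fin n) (Fin n) F) * k * ((T⁻¹ : GL (Fin n) F) : Matrix (Fin n) (Fin n) F) ∈ K :=
      ((hle hT) k).1 hk
    set D := (T : Matrix (Fin n) (Fin n) F) * k * ((T⁻¹ : GL (Fin n) F) : Matrix (Fin n) (Fin n) F) - k with hDdef
    have hD0 : D = 0 := by
      by_contra hne
      obtain ⟨y, -, hy⟩ := hK.inv D (K.sub_mem h2 hk) hne
      have hdet : D.det ≠ 0 := fun h0 => by
        have := congrArg Matrix.det hy
        simp [Matrix.det_mul, h0] at this
      obtain ⟨v, hv0, hv1, hv2⟩ := exists_vec_two (φ := hL (q := q) b)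
        (ψ := (hL (q := q) b).comp (Matrix.toLin' k)) hn
      have hv1' : hermForm n F q v b = 0 := hv1
      have hv2' : hermForm n F q (k *ᵥ v) b = 0 := hv2
      refine hdet (Matrix.exists_mulVec_eq_zero_iff.1 ⟨v, hv0, ?_⟩)
      have hTi : ((T⁻¹ : GL (Fin n) F) : Matrix (Fin n) (Fin n) F) *ᵥ v = v := by
        have h4 := inv_mulVec_mulVec T v
        rwa [hTv, hv1', mul_zero, zero_smul, add_zero] at h4
      rw [hDdef, Matrix.sub_mulVec, ← Matrix.mulVec_mulVec, ← Matrix.mulVec_mulVec, hTi, hTv, hv2', mul_zero,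
        zero_smul, add_zero, sub_self]
    obtain ⟨x, hx⟩ : ∃ x, hermForm n F q x b ≠ 0 := by
      by_contra hall
      push Not at hall
      exact hb0 (OrthUnitaryHerm.eq_zero_of_herm_eq_zero hF fun x => by
        rw [OrthUnitaryHerm.herm_conj hF x b, hall, OrthUnitaryHerm.zero_pow_q hF])
    have hcomm : (T : Matrix (Fin n) (Fin n) F) * k = k * (T : Matrix (Fin n) (Fin n) F) := by
      have := congrArg (· * (T : Matrix (Fin n) (Fin n) F)) (sub_eq_zero.1 hD0)
      simpa [mul_assoc] using this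
    have h3 := congrArg (fun A => A *ᵥ x) hcomm
    simp only [← Matrix.mulVec_mulVec, hTv, Matrix.mulVec_add, Matrix.mulVec_smul] at h3
    have h4 := add_left_cancel h3
    refine ⟨(c * hermForm n F q (k *ᵥ x) b) / (c * hermForm n F q x b), ?_⟩
    rw [div_eq_inv_mul, mul_smul, h4, inv_smul_smul₀ (mul_ne_zero hc0 hx)]
  haveI : Nonempty (Fin n) := ⟨⟨0, by omega⟩⟩
  have h2 := hK.finrank_eq
  rw [eq_bot_of_all_scalar h1, Subalgebra.finrank_bot] at h2
  omega

/-- a field automorphism fixing all norm-one scalars is trivial -/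
lemma eq_refl_of_fix_normOne (hF : Fintype.card F = q ^ 2) {φ : F ≃+* F}
    (h : ∀ u : F, u ^ (q + 1) = 1 → φ u = u) : φ = RingEquiv.refl F := by
  classical
  by_contra hne
  have htop : fixedField φ ≠ ⊤ := fun h' => hne (RingEquiv.ext fun x => by
    have : x ∈ fixedField φ := h' ▸ Subfield.mem_top x
    exact this)
  obtain ⟨ψ, r, hr, hcard, hfix⟩ := exists_maximal_above htop
  have hle : Nat.card {x : Fˣ // x ^ (q + 1) = 1} ≤ Nat.card (fixedField ψ) := by
    refine Nat.card_le_card_of_injective (fun x => ⟨((x : Fˣ) : F), hfix _ (h _ ?_)⟩) fun a b hab =>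
      Subtype.ext (Units.ext (congrArg Subtype.val hab))
    rw [← Units.val_pow_eq_pow_val, x.2, Units.val_one]
  rw [OrthUnitaryHerm.card_normOne hF] at hle
  have h2 : Nat.card (fixedField ψ) ^ 2 ≤ Nat.card (fixedField ψ) ^ r :=
    Nat.pow_le_pow_right (by omega) hr.two_le
  have h3 : (q + 1) ^ 2 ≤ Nat.card (fixedField ψ) ^ 2 := Nat.pow_le_pow_left hle 2
  rw [← hcard, hF] at h2
  nlinarith

lemma su_not_le_subfieldSubgroup (hF : Fintype.card F = q ^ 2) (hn : 3 ≤ n) {F₀ : Subfield F} (hF₀ : F₀ ≠ ⊤)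
    (P : GL (Fin n) F) : ¬ suGL n F q ≤ subfieldSubgroup F₀ P := by
  classical
  intro hle
  obtain ⟨φ, r, hr, hcard, hfix⟩ := exists_maximal_above hF₀
  have hφ : φ ≠ RingEquiv.refl F := fun h =>
    card_eq_pow_ne_top hr hcard (eq_top_iff.2 fun x _ => by rw [mem_fixedField, h]; rfl)
  obtain ⟨p, hp⟩ := CharP.exists F
  haveI hpp : Fact p.Prime := ⟨CharP.char_is_prime F p⟩
  obtain ⟨c, hc0, hc⟩ := exists_parameter hF
  set A : GL (Fin n) F := P * (glMap φ P)⁻¹ with hA
  have heig : ∀ b : Fin n → F, b ≠ 0 → hermForm n F q b b = 0 →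
      ∃ l : F, (A : Matrix (Fin n) (Fin n) F) *ᵥ (fun i => φ (b i)) = l • b := by
    intro b hb0 hb
    obtain ⟨T, hT, hTv, hTk⟩ := exists_transvection hF hb hc
    obtain ⟨g, hg, hgP⟩ := hle hT
    simp only [MulEquiv.coe_toMonoidHom, MulAut.conj_apply] at hgP
    have : (scalars (Fin n) F).Normal := scalars_normal
    obtain ⟨_, ⟨g₀, rfl⟩, z, hz, rfl⟩ := Subgroup.mem_sup_of_normal_right.1 hg
    obtain ⟨μ, hμ⟩ := (mem_scalars_iff z).1 hz
    set G := Matrix.GeneralLinearGroup.map (F₀.subtype : F₀ →+* F) g₀ with hG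
    have hG1 : glMap φ G = G := Units.ext (Matrix.ext fun i j => hfix _ (SetLike.coe_mem _))
    have hTp : T ^ p = 1 := by
      apply Units.ext
      apply Matrix.toLin'.injective
      refine LinearMap.ext fun x => ?_
      rw [Matrix.toLin'_apply, hTk p x, CharP.cast_eq_zero F p]
      simp
    have hzG : G * z = z * G := (scalar_comm hz G).symm
    have hz1 : glMap φ z = z := by
      have h1 : G ^ p * z ^ p = 1 := by
        rw [← (Commute.mul_pow (show Commute G z from hzG) p)]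
        have := congrArg (fun X => P⁻¹ * X * P) hTp
        rw [← hgP, conj_pow] at this
        simpa [mul_assoc] using this
      have h2 : glMap φ (z ^ p) = z ^ p := by
        rw [show z ^ p = (G ^ p)⁻¹ from eq_inv_of_mul_eq_one_right h1, map_inv, map_pow, hG1]
      have h3 := congrArg (fun X : GL (Fin n) F => (X : Matrix (Fin n) (Fin n) F) ⟨0, by omega⟩ ⟨0, by omega⟩) h2
      simp [glMap_val, hμ, smul_pow, Matrix.map_smul, Matrix.smul_one_eq_diagonal, Matrix.diagonal_map,
        Matrix.diagonal_pow] at h3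
      apply Units.ext
      have h4 : φ (μ : F) = μ := frobenius_inj F p (by rw [frobenius_def, frobenius_def]; exact h3)
      rw [glMap_val, hμ]
      ext i j
      by_cases hij : i = j <;> simp [hij, h4]
    have hkey : T * A = A * glMap φ T := by
      rw [hA, ← hgP]
      simp only [map_mul, map_inv, hG1, hz1]
      group
    obtain ⟨x, hx⟩ : ∃ x, hermForm n F q x b ≠ 0 := by
      by_contra hall
      push Not at hall
      exact hb0 (OrthUnitaryHerm.eq_zero_of_herm_eq_zero hF fun x => by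
        rw [OrthUnitaryHerm.herm_conj hF x b, hall, OrthUnitaryHerm.zero_pow_q hF])
    have hmv : ∀ (M : Matrix (Fin n) (Fin n) F) (v : Fin n → F),
        M.map φ *ᵥ (fun i => φ (v i)) = fun i => φ ((M *ᵥ v) i) := fun M v => by
      funext i
      exact (RingHom.map_mulVec (φ : F →+* F) M v i).symm
    have h1 := congrArg (fun X : GL (Fin n) F => (X : Matrix (Fin n) (Fin n) F) *ᵥ fun i => φ (x i)) hkey
    simp only [Units.val_mul, ← Matrix.mulVec_mulVec, glMap_val, hmv, hTv] at h1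
    have h2 : (fun i => φ ((x + (c * hermForm n F q x b) • b) i)) =
        (fun i => φ (x i)) + φ (c * hermForm n F q x b) • fun i => φ (b i) := by
      funext i; simp
    rw [h2, Matrix.mulVec_add, Matrix.mulVec_smul] at h1
    have h3 := add_left_cancel h1
    refine ⟨c * hermForm n F q ((A : Matrix (Fin n) (Fin n) F) *ᵥ fun i => φ (x i)) b /
      φ (c * hermForm n F q x b), ?_⟩
    rw [div_eq_inv_mul, mul_smul, h3, inv_smul_smul₀]
    exact fun h0 => mul_ne_zero hc0 hx (φ.injective (by rw [h0, map_zero]))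
  -- the matrix is diagonal
  obtain ⟨a₁, a₂, a₃, h12, -, -, ha₁, ha₂, -⟩ := exists_three_isotropic hF
  have himg : ∀ (i j : Fin n) (a : F), i ≠ j → (fun l => φ (isoVec i j a l)) = isoVec i j (φ a) := by
    intro i j a hij
    funext l
    by_cases hi : l = i
    · subst hi; simp [isoVec_left hij]
    by_cases hj : l = j
    · subst hj; simp [isoVec_right hij]
    simp [isoVec_off hi hj]
  set M := (A : Matrix (Fin n) (Fin n) F) with hM
  have e : ∀ (i j : Fin n) (a : F), i ≠ j → a ^ (q + 1) = -1 → ∃ l : F,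
      ∀ k, M k i + φ a * M k j = l * isoVec i j a k := by
    intro i j a hij ha
    obtain ⟨l, hl⟩ := heig _ (isoVec_ne_zero hij a) (isoVec_isotropic hF hij ha)
    refine ⟨l, fun k => ?_⟩
    have := congrFun hl k
    rwa [himg i j a hij, mulVec_isoVec, Pi.smul_apply, smul_eq_mul] at this
  have hoff : ∀ k i, k ≠ i → M k i = 0 := by
    intro k i hki
    obtain ⟨j, hkj, hij⟩ : ∃ j, k ≠ j ∧ i ≠ j := by
      obtain ⟨c, hc⟩ := Finset.exists_mem_notMem_of_card_lt_card
        (show ({k, i} : Finset (Fin n)).card < (Finset.univ : Finset (Fin n)).card by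
          have h1 := Finset.card_le_two (a := k) (b := i)
          rw [Finset.card_univ, Fintype.card_fin]
          omega)
      simp only [Finset.mem_insert, Finset.mem_singleton, not_or] at hc
      exact ⟨c, fun h => hc.2.1 h.symm, fun h => hc.2.2 h.symm⟩
    obtain ⟨l₁, e₁⟩ := e i j a₁ hij ha₁
    obtain ⟨l₂, e₂⟩ := e i j a₂ hij ha₂
    have f₁ := e₁ k
    have f₂ := e₂ k
    rw [isoVec_off hki hkj, mul_zero] at f₁ f₂
    have hd : M k j = 0 := (mul_eq_zero.1 (show (φ a₁ - φ a₂) * M k j = 0 by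
      linear_combination f₁ - f₂)).resolve_left (sub_ne_zero.2 fun h => h12 (φ.injective h))
    simpa [hd] using f₁
  let i₀ : Fin n := ⟨0, by omega⟩
  let i₁ : Fin n := ⟨1, by omega⟩
  have h01 : i₀ ≠ i₁ := by simp [i₀, i₁, Fin.ext_iff]
  have hdiag : ∀ a : F, a ^ (q + 1) = -1 → φ a * M i₁ i₁ = M i₀ i₀ * a := by
    intro a ha
    obtain ⟨l, hl⟩ := e i₀ i₁ a h01 ha
    have f₀ := hl i₀
    have f₁ := hl i₁
    rw [hoff _ _ h01, isoVec_left h01, mul_zero, add_zero, mul_one] at f₀
    rw [hoff _ _ h01.symm, isoVec_right h01, zero_add] at f₁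
    rw [f₀]; exact f₁
  have hM0 : ∀ i, M i i ≠ 0 := by
    intro i h0
    refine (Matrix.isUnits_det_units A).ne_zero (Matrix.det_eq_zero_of_row_eq_zero i fun k => ?_)
    by_cases hk : i = k
    · exact hk ▸ h0
    · exact hoff i k hk
  refine hφ (eq_refl_of_fix_normOne hF fun u hu => ?_)
  have h1 := hdiag a₁ ha₁
  have h2 := hdiag (a₁ * u) (by rw [mul_pow, ha₁, hu, mul_one])
  rw [map_mul] at h2
  refine mul_left_cancel₀ (mul_ne_zero (hM0 i₀) (show a₁ ≠ 0 from fun h => by simp [h] at ha₁)) ?_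
  linear_combination h2 - (φ u) * h1

lemma finrank_fixed_le {R : Subgroup (GL (Fin n) F)} (hR : Data R) {g : GL (Fin n) F} (hg : g ∈ R)
    (hgs : g ∉ scalars (Fin n) F) {W : Submodule F (Fin n → F)}
    (hW : ∀ v ∈ W, (g : Matrix (Fin n) (Fin n) F) *ᵥ v = v) : Module.finrank F W ≤ 1 := by
  classical
  haveI : NeZero n := ⟨by simpa using hR.prime.ne_zero⟩
  obtain ⟨y, hy, hne⟩ : ∃ y ∈ R, g * y ≠ y * g := by
    by_contra hcon
    push Not at hcon
    exact hgs (hR.abs.scalar_of_comm hcon)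
  obtain ⟨c, hc⟩ := exists_cm hR.comm hy hg
  have hcn := cm_pow_eq_one hc
  have hc1 : c ≠ 1 := fun h => hne ((Cm.comm_iff.1 (h ▸ hc)).symm)
  haveI : Fact (Fintype.card (Fin n)).Prime := ⟨hR.prime⟩
  have hprim : IsPrimitiveRoot c (Fintype.card (Fin n)) :=
    IsPrimitiveRoot.iff_orderOf.2 (orderOf_eq_prime hcn hc1)
  have hgn := hR.pow_eq_one hg
  have hcp := charpoly_eq (c₀ := 1) (pow_indep hc hprim)
    (by rw [one_smul, ← Units.val_pow_eq_pow_val, hgn, Units.val_one])
  let f : Module.End F (Fin n → F) := Matrix.toLin' (g : Matrix (Fin n) (Fin n) F)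
  have hle : W ≤ f.eigenspace 1 := fun v hv => by
    rw [Module.End.mem_eigenspace_iff, one_smul]
    exact hW v hv
  refine (Submodule.finrank_mono hle).trans ((LinearMap.finrank_eigenspace_le f 1).trans ?_)
  have h0 : ((Fintype.card (Fin n) : ℕ) : F) ≠ 0 := (hprim.neZero').out
  rw [show f.charpoly = (g : Matrix (Fin n) (Fin n) F).charpoly from Matrix.charpoly_toLin' _, hcp]
  exact Polynomial.rootMultiplicity_le_one_of_separable
    (Polynomial.separable_X_pow_sub_C 1 h0 one_ne_zero) 1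

lemma su_not_le_subgroupNormalizer (hF : Fintype.card F = q ^ 2) (hn : 4 ≤ n)
    {R : Subgroup (GL (Fin n) F)} (hR : Data R) : ¬ suGL n F q ≤ subgroupNormalizer R := by
  classical
  intro hle
  haveI : Nonempty (Fin n) := ⟨⟨0, by omega⟩⟩
  have hsc : R ≤ scalars (Fin n) F := by
    intro x hx
    obtain ⟨c, hc0, hc⟩ := exists_parameter hF
    obtain ⟨a, ha⟩ := scalar_of_iso_eigen hF (by omega) (M := (x : Matrix (Fin n) (Fin n) F)) fun b hb0 hb => by
      obtain ⟨T, hT, hTv, -⟩ := exists_transvection hF hb hc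
      set D := T * x * T⁻¹ * x⁻¹ with hD
      have hDR : D ∈ R := R.mul_mem ((Subgroup.mem_normalizer_iff.1 (hle hT) x).1 hx) (R.inv_mem hx)
      let φ : (Fin n → F) →ₗ[F] F := hL (q := q) b
      let ψ : (Fin n → F) →ₗ[F] F :=
        (hL (q := q) b).comp (Matrix.toLin' ((x⁻¹ : GL (Fin n) F) : Matrix (Fin n) (Fin n) F))
      have hfix : ∀ v ∈ LinearMap.ker (φ.prod ψ), (D : Matrix (Fin n) (Fin n) F) *ᵥ v = v := by
        intro v hv
        have hv1 : hermForm n F q v b = 0 := congrArg Prod.fst hv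
        have hv2 : hermForm n F q (((x⁻¹ : GL (Fin n) F) : Matrix (Fin n) (Fin n) F) *ᵥ v) b = 0 :=
          congrArg Prod.snd hv
        set w := ((x⁻¹ : GL (Fin n) F) : Matrix (Fin n) (Fin n) F) *ᵥ v with hw
        have hTi : ((T⁻¹ : GL (Fin n) F) : Matrix (Fin n) (Fin n) F) *ᵥ w = w := by
          have h4 := inv_mulVec_mulVec T w
          rwa [hTv, hv2, mul_zero, zero_smul, add_zero] at h4
        rw [hD, Units.val_mul, Units.val_mul, Units.val_mul, ← Matrix.mulVec_mulVec, ← hw,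
          ← Matrix.mulVec_mulVec, hTi, ← Matrix.mulVec_mulVec, hw, mulVec_inv_mulVec, hTv, hv1, mul_zero,
          zero_smul, add_zero]
      have hdim : 2 ≤ Module.finrank F (LinearMap.ker (φ.prod ψ)) := by
        have h1 := LinearMap.finrank_range_add_finrank_ker (φ.prod ψ)
        have h2 : Module.finrank F (LinearMap.range (φ.prod ψ)) ≤ 2 :=
          (Submodule.finrank_le _).trans (by simp)
        rw [Module.finrank_pi, Fintype.card_fin] at h1
        omega
      have hDs : D ∈ scalars (Fin n) F := by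
        by_contra hns
        have := finrank_fixed_le hR hDR hns hfix
        omega
      have hD1 : D = 1 := by
        obtain ⟨l, hl⟩ := (mem_scalars_iff D).1 hDs
        obtain ⟨v, hv, hv0⟩ := (Submodule.ne_bot_iff _).1
          (show LinearMap.ker (φ.prod ψ) ≠ ⊥ from fun h => by rw [h, finrank_bot] at hdim; omega)
        have h5 := hfix v hv
        rw [hl, Matrix.smul_mulVec, Matrix.one_mulVec] at h5
        obtain ⟨i, hi⟩ := Function.ne_iff.1 hv0
        have h6 : (l : F) = 1 := mul_right_cancel₀ hi (by rw [one_mul]; exact congrFun h5 i)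
        apply Units.ext
        rw [hl, h6, one_smul, Units.val_one]
      have hcomm : T * x = x * T := by
        have := congrArg (fun X => X * x * T) hD1
        simpa [hD, mul_assoc] using this
      obtain ⟨x', hx'⟩ : ∃ v, hermForm n F q v b ≠ 0 := by
        by_contra hall
        push Not at hall
        exact hb0 (OrthUnitaryHerm.eq_zero_of_herm_eq_zero hF fun v => by
          rw [OrthUnitaryHerm.herm_conj hF v b, hall, OrthUnitaryHerm.zero_pow_q hF])
      have h3 := congrArg (fun A : GL (Fin n) F => (A : Matrix (Fin n) (Fin n) F) *ᵥ x') hcomm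
      simp only [Units.val_mul, ← Matrix.mulVec_mulVec, hTv, Matrix.mulVec_add, Matrix.mulVec_smul] at h3
      have h4 := add_left_cancel h3
      refine ⟨(c * hermForm n F q ((x : Matrix (Fin n) (Fin n) F) *ᵥ x') b) / (c * hermForm n F q x' b), ?_⟩
      rw [div_eq_inv_mul, mul_smul, h4, inv_smul_smul₀ (mul_ne_zero hc0 hx')]
    exact mem_scalars_of_comm ha
  -- a scalar group is not absolutely irreducible
  have hinv : Inv R (Submodule.span F {(Pi.single ⟨0, by omega⟩ 1 : Fin n → F)}) := by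
    intro g hg w hw
    obtain ⟨l, hl⟩ := (mem_scalars_iff g).1 (hsc hg)
    rw [hl, Matrix.smul_mulVec, Matrix.one_mulVec]
    exact Submodule.smul_mem _ _ hw
  have hv : (Pi.single ⟨0, by omega⟩ 1 : Fin n → F) ≠ 0 := fun h => by
    simpa using congrFun h ⟨0, by omega⟩
  rcases hR.abs.irred _ hinv with h | h
  · exact hv (Submodule.span_singleton_eq_bot.1 h)
  · have := finrank_span_singleton (K := F) hv
    rw [h, finrank_top, Module.finrank_pi, Fintype.card_fin] at this
    omega

end Cfsg.Agent.AschPrimeUnitaryProper
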