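/-
Transvections in GL(ι, F) and symplectic transvections for an abstract symplectic form on F^ι:
generation theorems and conjugation rules, used for maximality of geometric subgroups.
-/
import Mathlib
import Cfsg.Prelude.Def_GeometricClasses

set_option autoImplicit false
set_option linter.unusedSectionVars false

namespace Cfsg.Agent.TransvectionMax

open scoped MatrixGroups Matrix

variable {ι : Type} [Fintype ι] [DecidableEq ι] {F : Type*} [Field F]

/-- Extensionality through the action on column vectors. -/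
lemma gl_ext {g h : GL ι F} (H : ∀ x, (g : Matrix ι ι F) *ᵥ x = (h : Matrix ι ι F) *ᵥ x) : g = h := by
  apply Units.ext
  exact Matrix.ext_iff_mulVec.mpr H

lemma mul_act (g h : GL ι F) (x : ι → F) :
    ((g * h : GL ι F) : Matrix ι ι F) *ᵥ x = (g : Matrix ι ι F) *ᵥ ((h : Matrix ι ι F) *ᵥ x) := by
  rw [Units.val_mul, Matrix.mulVec_mulVec]

lemma one_act (x : ι → F) : ((1 : GL ι F) : Matrix ι ι F) *ᵥ x = x := by
  rw [Units.val_one, Matrix.one_mulVec]

lemma act_inv_act (g : GL ι F) (x : ι → F) :
    (g : Matrix ι ι F) *ᵥ (((g⁻¹ : GL ι F) : Matrix ι ι F) *ᵥ x) = x := by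
  rw [← mul_act, mul_inv_cancel, one_act]

lemma inv_act_act (g : GL ι F) (x : ι → F) :
    ((g⁻¹ : GL ι F) : Matrix ι ι F) *ᵥ ((g : Matrix ι ι F) *ᵥ x) = x := by
  rw [← mul_act, inv_mul_cancel, one_act]

lemma act_injective (g : GL ι F) : Function.Injective (fun x => (g : Matrix ι ι F) *ᵥ x) :=
  fun x y h => by simpa [inv_act_act] using congrArg (fun z => ((g⁻¹ : GL ι F) : Matrix ι ι F) *ᵥ z) h

lemma act_ne_zero (g : GL ι F) {x : ι → F} (hx : x ≠ 0) : (g : Matrix ι ι F) *ᵥ x ≠ 0 := by
  intro h
  exact hx (act_injective g (by simpa using h))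

/-! ### Transvections -/

lemma one_add_mul_one_add_neg (v φ : ι → F) (h : φ ⬝ᵥ v = 0) :
    (1 + Matrix.vecMulVec v φ) * (1 + Matrix.vecMulVec v (-φ)) = 1 := by
  have hz : Matrix.vecMulVec v φ * Matrix.vecMulVec v (-φ) = 0 := by
    rw [Matrix.vecMulVec_mul_vecMulVec, h, zero_smul]
    ext i j
    simp [Matrix.vecMulVec_apply]
  have hn : Matrix.vecMulVec v (-φ) = - Matrix.vecMulVec v φ := by
    ext i j
    simp [Matrix.vecMulVec_apply]
  rw [mul_add, mul_one, add_mul, one_mul, hz, add_zero, hn]
  abel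

/-- The transvection x ↦ x + (φ ⬝ x) v (the identity if φ ⬝ v ≠ 0). -/
noncomputable def tv (v φ : ι → F) : GL ι F :=
  open Classical in
  if h : φ ⬝ᵥ v = 0 then
    ⟨1 + Matrix.vecMulVec v φ, 1 + Matrix.vecMulVec v (-φ), one_add_mul_one_add_neg v φ h,
      by simpa using one_add_mul_one_add_neg v (-φ) (by simpa using h)⟩
  else 1

lemma tv_act {v φ : ι → F} (h : φ ⬝ᵥ v = 0) (x : ι → F) :
    (tv v φ : Matrix ι ι F) *ᵥ x = x + (φ ⬝ᵥ x) • v := by
  simp only [tv, dif_pos h]
  rw [Matrix.add_mulVec, Matrix.one_mulVec, Matrix.vecMulVec_mulVec, op_smul_eq_smul]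

lemma tv_det (v φ : ι → F) : Matrix.GeneralLinearGroup.det (tv v φ) = 1 := by
  apply Units.ext
  by_cases h : φ ⬝ᵥ v = 0
  · rw [Matrix.GeneralLinearGroup.val_det_apply]
    simp only [tv, dif_pos h, Units.val_one]
    rw [Matrix.vecMulVec_eq Unit, Matrix.det_one_add_replicateCol_mul_replicateRow, h, add_zero]
  · simp [tv, dif_neg h]

lemma tv_mem_sl (v φ : ι → F) : tv v φ ∈ Cfsg.Geo.specialLinear ι F := by
  simp [Cfsg.Geo.specialLinear, MonoidHom.mem_ker, tv_det]

lemma tv_add {v φ ψ : ι → F} (h : φ ⬝ᵥ v = 0) (h' : ψ ⬝ᵥ v = 0) :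
    tv v φ * tv v ψ = tv v (φ + ψ) := by
  refine gl_ext fun x => ?_
  rw [mul_act, tv_act h, tv_act h', tv_act (by rw [add_dotProduct, h, h', add_zero]), dotProduct_add,
    dotProduct_smul, h, smul_zero, add_zero, add_dotProduct, add_smul]
  abel

lemma tv_zero_right (v : ι → F) : tv v (0 : ι → F) = 1 := by
  refine gl_ext fun x => ?_
  rw [tv_act (zero_dotProduct v), one_act, zero_dotProduct, zero_smul, add_zero]

lemma tv_inv {v φ : ι → F} (h : φ ⬝ᵥ v = 0) : (tv v φ)⁻¹ = tv v (-φ) := by
  refine inv_eq_of_mul_eq_one_right ?_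
  rw [tv_add h (by rw [neg_dotProduct, h, neg_zero]), add_neg_cancel, tv_zero_right]

lemma tv_eq_of_act {g : GL ι F} {v φ : ι → F} (h : φ ⬝ᵥ v = 0)
    (H : ∀ x, (g : Matrix ι ι F) *ᵥ x = x + (φ ⬝ᵥ x) • v) : g = tv v φ :=
  gl_ext fun x => by rw [H, tv_act h]

/-! ### The special linear group is generated by transvections -/

lemma single_dot_single {i j : ι} (h : j ≠ i) (c : F) :
    (Pi.single j (1 : F) : ι → F) ⬝ᵥ (Pi.single i c : ι → F) = 0 := by
  simp [h]

lemma tv_single_val {i j : ι} (h : i ≠ j) (c : F) :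
    (tv (Pi.single i c) (Pi.single j 1) : Matrix ι ι F) = Matrix.transvection i j c := by
  simp only [tv, dif_pos (single_dot_single h.symm c), Matrix.transvection]
  congr 1
  ext a b
  simp only [Matrix.vecMulVec_apply, Matrix.single_apply, Pi.single_apply]
  by_cases ha : a = i <;> by_cases hb : b = j <;> simp [ha, hb, Ne.symm, eq_comm]

/-- If a subgroup contains all transvections then it contains the special linear group. -/
theorem specialLinear_le {M : Subgroup (GL ι F)}
    (hM : ∀ v φ : ι → F, φ ⬝ᵥ v = 0 → tv v φ ∈ M) : Cfsg.Geo.specialLinear ι F ≤ M := by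
  let S : Matrix ι ι F → Prop := fun A => ∃ g ∈ M, (g : Matrix ι ι F) = A
  have hmul : ∀ A B, S A → S B → S (A * B) := by
    rintro A B ⟨a, ha, rfl⟩ ⟨b, hb, rfl⟩
    exact ⟨a * b, M.mul_mem ha hb, rfl⟩
  have hT : ∀ i j : ι, i ≠ j → ∀ c : F, S (Matrix.transvection i j c) := fun i j h c =>
    ⟨_, hM _ _ (single_dot_single h.symm c), tv_single_val h c⟩
  have hh : ∀ i j : ι, i ≠ j → ∀ a : F, a ≠ 0 →
      S (Matrix.diagonal (fun k => if k = i then a else if k = j then a⁻¹ else 1)) := by
    intro i j hij a ha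
    have key : Matrix.transvection i j a * Matrix.transvection j i (-a⁻¹) * Matrix.transvection i j a *
        (Matrix.transvection i j (-1) * Matrix.transvection j i (1 : F) * Matrix.transvection i j (-1)) =
        Matrix.diagonal (fun k => if k = i then a else if k = j then a⁻¹ else 1) := by
      refine Matrix.ext_iff_mulVec.mpr fun x => ?_
      have tr : ∀ (p r : ι) (c : F) (y : ι → F),
          Matrix.transvection p r c *ᵥ y = fun k => y k + (if k = p then c * y r else 0) := by
        intro p r c y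
        ext k
        simp only [Matrix.transvection, Matrix.add_mulVec, Matrix.one_mulVec, Pi.add_apply,
          Matrix.single_mulVec]
        simp [Function.update_apply]
      simp only [← Matrix.mulVec_mulVec, tr]
      ext k
      rw [Matrix.mulVec_diagonal]
      by_cases hki : k = i
      · subst hki
        simp only [if_true, if_neg hij, if_neg hij.symm, add_zero]
        field_simp
        ring
      · by_cases hkj : k = j
        · subst hkj
          simp only [if_true, if_neg hij, if_neg hki, add_zero]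
          field_simp
          ring
        · simp [hki, hkj]
    rw [← key]
    exact hmul _ _ (hmul _ _ (hmul _ _ (hT i j hij a) (hT j i hij.symm _)) (hT i j hij a))
      (hmul _ _ (hmul _ _ (hT i j hij _) (hT j i hij.symm _)) (hT i j hij _))
  have hdiag : ∀ D : ι → F, ∏ k, D k = 1 → S (Matrix.diagonal D) := by
    intro D hD
    rcases isEmpty_or_nonempty ι with hι | ⟨⟨i0⟩⟩
    · exact ⟨1, M.one_mem, Subsingleton.elim _ _⟩
    have hne : ∀ k, D k ≠ 0 := fun k hk => by
      rw [Finset.prod_eq_zero (Finset.mem_univ k) hk] at hD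
      exact zero_ne_one hD
    have step : ∀ s : Finset ι, i0 ∉ s →
        S (Matrix.diagonal (fun k => if k = i0 then (∏ i ∈ s, D i)⁻¹ else if k ∈ s then D k else 1)) := by
      intro s
      induction s using Finset.induction with
      | empty =>
        intro _
        refine ⟨1, M.one_mem, ?_⟩
        simp
      | insert a t hat ih =>
        intro h0
        rw [Finset.mem_insert, not_or] at h0
        have := hmul _ _ (ih h0.2) (hh a i0 (Ne.symm h0.1) (D a) (hne a))
        rw [Matrix.diagonal_mul_diagonal] at this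
        convert this using 2
        ext k
        by_cases hk : k = i0
        · subst hk
          simp [h0.1, Finset.prod_insert hat, mul_comm]
        · by_cases hka : k = a
          · subst hka
            simp [hk, hat]
          · simp [hk, hka]
    have := step (Finset.univ.erase i0) (by simp)
    convert this using 2
    ext k
    by_cases hk : k = i0
    · subst hk
      simp only [if_true]
      refine eq_inv_of_mul_eq_one_left ?_
      rw [Finset.mul_prod_erase Finset.univ D (Finset.mem_univ k), hD]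
    · simp [hk]
  intro g hg
  rw [Cfsg.Geo.specialLinear, MonoidHom.mem_ker] at hg
  have hdet : (g : Matrix ι ι F).det = 1 := by
    simpa using congrArg (Units.val) hg
  obtain ⟨h, hh', he⟩ := Matrix.diagonal_transvection_induction S (g : Matrix ι ι F)
    (fun D hD => hdiag D (by rw [Matrix.det_diagonal] at hD; rw [hD, hdet]))
    (fun t => hT t.i t.j t.hij t.c) hmul
  rwa [← Units.ext he]

/-! ### Forms -/

section Form

variable {f : (ι → F) → (ι → F) → F}

/-- `x ↦ f x u` as a linear map. -/
def fLeft (hf : Cfsg.Geo.IsBilinearForm f) (u : ι → F) : (ι → F) →ₗ[F] F where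
  toFun x := f x u
  map_add' x y := hf.add_left x y u
  map_smul' c x := hf.smul_left c x u

/-- `x ↦ f u x` as a linear map. -/
def fRight (hf : Cfsg.Geo.IsBilinearForm f) (u : ι → F) : (ι → F) →ₗ[F] F where
  toFun x := f u x
  map_add' x y := hf.add_right u x y
  map_smul' c x := hf.smul_right c u x

variable (hf : Cfsg.Geo.IsBilinearForm f)
include hf

lemma zero_left (x : ι → F) : f 0 x = 0 := (fLeft hf x).map_zero
lemma zero_right (x : ι → F) : f x 0 = 0 := (fRight hf x).map_zero
lemma neg_left (x y : ι → F) : f (-x) y = - f x y := (fLeft hf y).map_neg x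
lemma neg_right (x y : ι → F) : f x (-y) = - f x y := (fRight hf x).map_neg y
lemma sub_left (x y z : ι → F) : f (x - y) z = f x z - f y z := (fLeft hf z).map_sub x y
lemma sub_right (x y z : ι → F) : f x (y - z) = f x y - f x z := (fRight hf x).map_sub y z

end Form

/-- The row vector of the functional `x ↦ f x u`. -/
def row (f : (ι → F) → (ι → F) → F) (u : ι → F) : ι → F := fun j => f (Pi.single j 1) u

lemma row_dot {f : (ι → F) → (ι → F) → F} (hf : Cfsg.Geo.IsBilinearForm f) (u x : ι → F) :
    row f u ⬝ᵥ x = f x u := by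
  have h := LinearMap.pi_apply_eq_sum_univ (fLeft hf u) x
  change f x u = _ at h
  rw [h, dotProduct]
  refine Finset.sum_congr rfl fun j _ => ?_
  simp only [row, smul_eq_mul]
  rw [mul_comm]
  congr 1
  change _ = f _ u
  congr 1
  ext k
  simp [Pi.single_apply, eq_comm]

/-- Every linear functional is `x ↦ f x a` for some `a`. -/
lemma exists_row {f : (ι → F) → (ι → F) → F} (hf : Cfsg.Geo.IsBilinearForm f)
    (hn : Cfsg.Geo.IsNondegenerateForm f) (φ : ι → F) : ∃ a, ∀ x, φ ⬝ᵥ x = f x a := by
  let L : (ι → F) →ₗ[F] (ι → F) :=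
    { toFun := fun a => row f a
      map_add' := fun a b => funext fun j => hf.add_right _ a b
      map_smul' := fun c a => funext fun j => hf.smul_right c _ a }
  have hinj : Function.Injective L := by
    rw [← LinearMap.ker_eq_bot, LinearMap.ker_eq_bot']
    intro a ha
    by_contra h
    obtain ⟨x, hx⟩ := (hn a h).1
    apply hx
    rw [← row_dot hf a x]
    change L a ⬝ᵥ x = 0
    rw [ha, zero_dotProduct]
  obtain ⟨a, ha⟩ := LinearMap.injective_iff_surjective.mp hinj φ
  exact ⟨a, fun x => by rw [← ha]; exact row_dot hf a x⟩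

/-- The map x ↦ x + f(x, a) u, when f(u, a) = 0. -/
noncomputable def ft (f : (ι → F) → (ι → F) → F) (u a : ι → F) : GL ι F := tv u (row f a)

/-- The symplectic transvection x ↦ x + c f(x, u) u. -/
noncomputable def st (f : (ι → F) → (ι → F) → F) (u : ι → F) (c : F) : GL ι F := ft f u (c • u)

lemma ft_act {f : (ι → F) → (ι → F) → F} (hf : Cfsg.Geo.IsBilinearForm f) {u a : ι → F}
    (h : f u a = 0) (x : ι → F) : (ft f u a : Matrix ι ι F) *ᵥ x = x + f x a • u := by
  rw [ft, tv_act (by rw [row_dot hf, h]), row_dot hf]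

lemma ft_mem_sl (f : (ι → F) → (ι → F) → F) (u a : ι → F) :
    ft f u a ∈ Cfsg.Geo.specialLinear ι F := tv_mem_sl _ _

lemma ft_add {f : (ι → F) → (ι → F) → F} (hf : Cfsg.Geo.IsBilinearForm f) {u a b : ι → F}
    (ha : f u a = 0) (hb : f u b = 0) : ft f u a * ft f u b = ft f u (a + b) := by
  refine gl_ext fun x => ?_
  rw [mul_act, ft_act hf ha, ft_act hf hb, ft_act hf (by rw [hf.add_right, ha, hb, add_zero]),
    hf.add_left, hf.smul_left, ha, mul_zero, add_zero, hf.add_right, add_smul]
  abel

lemma ft_zero {f : (ι → F) → (ι → F) → F} (hf : Cfsg.Geo.IsBilinearForm f) (u : ι → F) :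
    ft f u 0 = 1 := by
  refine gl_ext fun x => ?_
  rw [ft_act hf (zero_right hf u), one_act, zero_right hf, zero_smul, add_zero]

lemma ft_inv {f : (ι → F) → (ι → F) → F} (hf : Cfsg.Geo.IsBilinearForm f) {u a : ι → F}
    (ha : f u a = 0) : (ft f u a)⁻¹ = ft f u (-a) := by
  refine inv_eq_of_mul_eq_one_right ?_
  rw [ft_add hf ha (by rw [neg_right hf, ha, neg_zero]), add_neg_cancel, ft_zero hf]

/-- Conjugating x ↦ x + f(x,a)u by an isometry h gives x ↦ x + f(x, h a) h u. -/
lemma ft_conj {f : (ι → F) → (ι → F) → F} (hf : Cfsg.Geo.IsBilinearForm f) {h : GL ι F}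
    (hh : ∀ x y, f ((h : Matrix ι ι F) *ᵥ x) ((h : Matrix ι ι F) *ᵥ y) = f x y) {u a : ι → F}
    (ha : f u a = 0) :
    h * ft f u a * h⁻¹ = ft f ((h : Matrix ι ι F) *ᵥ u) ((h : Matrix ι ι F) *ᵥ a) := by
  refine gl_ext fun x => ?_
  rw [mul_act, mul_act, ft_act hf ha, ft_act hf (by rw [hh, ha]), Matrix.mulVec_add, Matrix.mulVec_smul,
    act_inv_act]
  congr 2
  conv_rhs => rw [← act_inv_act h x, hh]

section Symp

variable {f : (ι → F) → (ι → F) → F} (hf : Cfsg.Geo.IsSymplecticForm f)
include hf

lemma f_smul_self (u : ι → F) (c : F) : f u (c • u) = 0 := by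
  rw [hf.bilinear.smul_right, hf.alternating, mul_zero]

lemma st_act (u : ι → F) (c : F) (x : ι → F) :
    (st f u c : Matrix ι ι F) *ᵥ x = x + (c * f x u) • u := by
  rw [st, ft_act hf.bilinear (f_smul_self hf u c), hf.bilinear.smul_right]

lemma st_preserves (u : ι → F) (c : F) (x y : ι → F) :
    f ((st f u c : Matrix ι ι F) *ᵥ x) ((st f u c : Matrix ι ι F) *ᵥ y) = f x y := by
  simp only [st_act hf, hf.bilinear.add_left, hf.bilinear.add_right, hf.bilinear.smul_left,
    hf.bilinear.smul_right, hf.alternating]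
  rw [hf.skew u y]
  ring

lemma st_fix (u : ι → F) (c : F) {x : ι → F} (hx : f x u = 0) :
    (st f u c : Matrix ι ι F) *ᵥ x = x := by
  rw [st_act hf, hx, mul_zero, zero_smul, add_zero]

lemma st_conj {h : GL ι F}
    (hh : ∀ x y, f ((h : Matrix ι ι F) *ᵥ x) ((h : Matrix ι ι F) *ᵥ y) = f x y) (u : ι → F) (c : F) :
    h * st f u c * h⁻¹ = st f ((h : Matrix ι ι F) *ᵥ u) c := by
  rw [st, ft_conj hf.bilinear hh (f_smul_self hf u c), st, Matrix.mulVec_smul]

lemma st_smul (u : ι → F) (c d : F) : st f (d • u) c = st f u (c * d ^ 2) := by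
  refine gl_ext fun x => ?_
  rw [st_act hf, st_act hf, hf.bilinear.smul_right, smul_smul]
  congr 2
  ring

lemma st_add (u : ι → F) (c d : F) : st f u c * st f u d = st f u (c + d) := by
  rw [st, st, st, ft_add hf.bilinear (f_smul_self hf u c) (f_smul_self hf u d), add_smul]

lemma st_zero (u : ι → F) : st f u 0 = 1 := by
  rw [st, zero_smul, ft_zero hf.bilinear]

/-- A symplectic transvection carrying x to y when f(x, y) ≠ 0. -/
lemma st_move {x y : ι → F} (h : f x y ≠ 0) :
    (st f (y - x) (f x y)⁻¹ : Matrix ι ι F) *ᵥ x = y := by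
  rw [st_act hf, sub_right hf.bilinear, hf.alternating, sub_zero, inv_mul_cancel₀ h, one_smul]
  abel

/-- Two non-zero vectors have a common non-orthogonal vector. -/
lemma exists_common {u v : ι → F} (hu : u ≠ 0) (hv : v ≠ 0) : ∃ z, f z u ≠ 0 ∧ f z v ≠ 0 := by
  obtain ⟨a, ha⟩ := (hf.nondegenerate u hu).1
  obtain ⟨b, hb⟩ := (hf.nondegenerate v hv).1
  by_cases h1 : f a v = 0
  · by_cases h2 : f b u = 0
    · exact ⟨a + b, by rwa [hf.bilinear.add_left, h2, add_zero],
        by rwa [hf.bilinear.add_left, h1, zero_add]⟩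
    · exact ⟨b, h2, hb⟩
  · exact ⟨a, ha, h1⟩

/-- If f(·, a) vanishes on the perp of u ≠ 0 then a is a multiple of u. -/
lemma eq_smul_of_perp_le {u a : ι → F} (hu : u ≠ 0) (h : ∀ b, f b u = 0 → f b a = 0) :
    ∃ c : F, a = c • u := by
  obtain ⟨y, hy⟩ := (hf.nondegenerate u hu).1
  refine ⟨f y a / f y u, ?_⟩
  by_contra hne
  obtain ⟨z, hz⟩ := (hf.nondegenerate _ (sub_ne_zero.mpr hne)).1
  apply hz
  have h0 := h (z - (f z u / f y u) • y) (by
    rw [sub_left hf.bilinear, hf.bilinear.smul_left, div_mul_cancel₀ _ hy, sub_self])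
  rw [sub_left hf.bilinear, hf.bilinear.smul_left] at h0
  rw [sub_right hf.bilinear, hf.bilinear.smul_right, ← h0]
  field_simp

/-- Every isometry of a symplectic form lies in a subgroup containing all symplectic transvections. -/
theorem isometry_mem {M : Subgroup (GL ι F)} (hM : ∀ u c, st f u c ∈ M) (g : GL ι F)
    (hg : ∀ x y, f ((g : Matrix ι ι F) *ᵥ x) ((g : Matrix ι ι F) *ᵥ y) = f x y) : g ∈ M := by
  let K : GL ι F → Submodule F (ι → F) := fun g =>
    LinearMap.ker (Matrix.toLin' (g : Matrix ι ι F) - LinearMap.id)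
  have hK : ∀ (g : GL ι F) x, x ∈ K g ↔ (g : Matrix ι ι F) *ᵥ x = x := fun g x => by
    simp [K, sub_eq_zero]
  have main : ∀ d : ℕ, ∀ g : GL ι F,
      (∀ x y, f ((g : Matrix ι ι F) *ᵥ x) ((g : Matrix ι ι F) *ᵥ y) = f x y) →
      Module.finrank F (ι → F) - Module.finrank F (K g) ≤ d → g ∈ M := by
    intro d
    induction d with
    | zero =>
      intro g _ hd
      have htop : K g = ⊤ := by
        apply Submodule.eq_top_of_finrank_eq
        have := Submodule.finrank_le (K g)
        omega
      have : g = 1 := gl_ext fun x => by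
        rw [one_act]
        exact (hK g x).mp (htop ▸ Submodule.mem_top)
      rw [this]
      exact M.one_mem
    | succ d ih =>
      intro g hg hd
      have perp : ∀ (g : GL ι F),
          (∀ x y, f ((g : Matrix ι ι F) *ᵥ x) ((g : Matrix ι ι F) *ᵥ y) = f x y) → ∀ x y, y ∈ K g →
          f y ((g : Matrix ι ι F) *ᵥ x - x) = 0 := by
        intro g hg x y hy
        rw [sub_right hf.bilinear]
        conv_lhs => arg 1; rw [← (hK g y).mp hy, hg]
        exact sub_self _
      -- multiplying by a transvection centred in the image of g - 1 keeps the fixed vectors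
      have le_mul : ∀ (g : GL ι F),
          (∀ x y, f ((g : Matrix ι ι F) *ᵥ x) ((g : Matrix ι ι F) *ᵥ y) = f x y) → ∀ x c,
          K g ≤ K (st f ((g : Matrix ι ι F) *ᵥ x - x) c * g) := by
        intro g hg x c y hy
        rw [hK, mul_act, (hK g y).mp hy]
        exact st_fix hf _ _ (perp g hg x y hy)
      have iso_mul : ∀ (g : GL ι F),
          (∀ x y, f ((g : Matrix ι ι F) *ᵥ x) ((g : Matrix ι ι F) *ᵥ y) = f x y) → ∀ u c, ∀ x y,
          f (((st f u c * g : GL ι F) : Matrix ι ι F) *ᵥ x) (((st f u c * g : GL ι F) : Matrix ι ι F) *ᵥ y)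
            = f x y := by
        intro g hg u c x y
        rw [mul_act, mul_act, st_preserves hf, hg]
      -- the reduction when some x has f(g x, x) ≠ 0
      have red : ∀ (g : GL ι F),
          (∀ x y, f ((g : Matrix ι ι F) *ᵥ x) ((g : Matrix ι ι F) *ᵥ y) = f x y) →
          Module.finrank F (ι → F) - Module.finrank F (K g) ≤ d + 1 →
          (∃ x, f ((g : Matrix ι ι F) *ᵥ x) x ≠ 0) → g ∈ M := by
        rintro g hg hd ⟨x, hx⟩
        set v := (g : Matrix ι ι F) *ᵥ x - x
        set c := (f ((g : Matrix ι ι F) *ᵥ x) x)⁻¹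
        have hmem : x ∈ K (st f v c * g) := by
          rw [hK, mul_act, st_act hf, sub_right hf.bilinear, hf.alternating, zero_sub, mul_neg,
            inv_mul_cancel₀ hx, neg_one_smul]
          simp [v]
        have hnot : x ∉ K g := by
          rw [hK]
          intro h
          rw [h, hf.alternating] at hx
          exact hx rfl
        have hlt : K g < K (st f v c * g) :=
          lt_of_le_not_ge (le_mul g hg x c) (fun h => hnot (h hmem))
        have := Submodule.finrank_lt_finrank_of_lt hlt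
        have hin := ih (st f v c * g) (iso_mul g hg v c) (by omega)
        exact (M.mul_mem_cancel_left (hM v c)).mp hin
      by_cases hex : ∃ x, f ((g : Matrix ι ι F) *ᵥ x) x ≠ 0
      · exact red g hg hd hex
      · push Not at hex
        by_cases hg1 : g = 1
        · rw [hg1]; exact M.one_mem
        · obtain ⟨x0, hx0⟩ : ∃ x0, (g : Matrix ι ι F) *ᵥ x0 - x0 ≠ 0 := by
            by_contra h
            push Not at h
            exact hg1 (gl_ext fun x => by rw [one_act]; exact sub_eq_zero.mp (h x))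
          set v := (g : Matrix ι ι F) *ᵥ x0 - x0
          have hgv : ((g⁻¹ : GL ι F) : Matrix ι ι F) *ᵥ v ≠ 0 := act_ne_zero _ hx0
          obtain ⟨z, hz1, hz2⟩ := exists_common hf hgv hx0
          have hz1' : f ((g : Matrix ι ι F) *ᵥ z) v ≠ 0 := by
            rw [← act_inv_act g v, hg]; exact hz1
          refine (M.mul_mem_cancel_left (hM v 1)).mp (red _ (iso_mul g hg v 1) ?_ ⟨z, ?_⟩)
          · have : Module.finrank F (K g) ≤ Module.finrank F (K (st f v 1 * g)) :=
              Submodule.finrank_mono (le_mul g hg x0 1)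
            omega
          · rw [mul_act, st_act hf, hf.bilinear.add_left, hex z, zero_add, hf.bilinear.smul_left,
              one_mul, hf.skew v z, mul_neg, neg_ne_zero]
            exact mul_ne_zero hz1' hz2
  exact main _ g hg le_rfl

end Symp

/-- The standard form `sympForm` is a symplectic form. -/
lemma sympForm_isSymplecticForm (m : ℕ) :
    Cfsg.Geo.IsSymplecticForm (Cfsg.sympForm m F) := by
  have hexp : ∀ u v : Fin m ⊕ Fin m → F, Cfsg.sympForm m F u v =
      ∑ i, (u (.inr i) * v (.inl i) - u (.inl i) * v (.inr i)) := by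
    intro u v
    simp [Cfsg.sympForm, dotProduct, Matrix.mulVec, Matrix.J, Fintype.sum_sum_type,
      Finset.sum_sub_distrib, Matrix.one_apply, Finset.sum_neg_distrib]
    ring
  refine ⟨⟨?_, ?_, ?_, ?_⟩, ?_, ?_, ?_⟩
  · intro x y v; simp [Cfsg.sympForm, add_dotProduct]
  · intro c x v; simp [Cfsg.sympForm]
  · intro v x y; simp [Cfsg.sympForm, Matrix.mulVec_add, dotProduct_add]
  · intro c v x; simp [Cfsg.sympForm, Matrix.mulVec_smul]
  · intro v w
    rw [hexp, hexp, ← Finset.sum_neg_distrib]
    refine Finset.sum_congr rfl fun i _ => by ring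
  · intro v
    rw [hexp]
    exact Finset.sum_eq_zero fun i _ => by ring
  · intro v hv
    obtain ⟨i, hi⟩ := Function.ne_iff.mp hv
    rcases i with i | i
    · refine ⟨⟨Pi.single (.inr i) 1, ?_⟩, ⟨Pi.single (.inr i) 1, ?_⟩⟩
      · rw [hexp]; simpa [Pi.single_apply] using hi
      · rw [hexp]; simpa [Pi.single_apply] using hi
    · refine ⟨⟨Pi.single (.inl i) 1, ?_⟩, ⟨Pi.single (.inl i) 1, ?_⟩⟩
      · rw [hexp]; simpa [Pi.single_apply] using hi
      · rw [hexp]; simpa [Pi.single_apply] using hi

lemma st_mem_spGL (m : ℕ) (u : Fin m ⊕ Fin m → F) (c : F) :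
    st (Cfsg.sympForm m F) u c ∈ Cfsg.spGL m F :=
  fun x y => st_preserves (sympForm_isSymplecticForm m) u c x y

/-- If a subgroup contains all symplectic transvections then it contains `spGL`. -/
theorem spGL_le (m : ℕ) {M : Subgroup (GL (Fin m ⊕ Fin m) F)}
    (hM : ∀ u c, st (Cfsg.sympForm m F) u c ∈ M) : Cfsg.spGL m F ≤ M :=
  fun g hg => isometry_mem (sympForm_isSymplecticForm m) hM g hg

end Cfsg.Agent.TransvectionMax
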