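/-
Dimension case lists, part 2: the symplectic and special unitary groups are transvected.
-/
import Cfsg.Agent.Lib.AschCaseProper
import Cfsg.Agent.Lib.TransvectionMax
import Cfsg.Agent.Lib.OrthUnitaryTransvection
import Cfsg.Agent.Lib.AschPrimeUnitaryProper
import Cfsg.Agent.Lib.AschFormTensor

set_option autoImplicit false
set_option linter.unusedSectionVars false

namespace Cfsg.Agent.AschCase

open scoped Matrix
open Cfsg Cfsg.Geo Cfsg.Agent.AschPrimeBasic Cfsg.Agent.AschPrimeForms
  Cfsg.Agent.AschPrimeUnitaryProper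

variable {F : Type*} [Field F] [Fintype F]

section Symp

variable {m : ℕ}

local notation "Ix" => (Fin m ⊕ Fin m)

lemma sp_eq_zero {x : Ix → F} (h : ∀ y, sympForm m F y x = 0) : x = 0 := by
  by_contra hx
  obtain ⟨⟨y, hy⟩, -⟩ := (TransvectionMax.sympForm_isSymplecticForm (F := F) m).nondegenerate x hx
  exact hy (h y)

theorem sp_transvected (hm : 1 ≤ m) : Transvected (spGL m F) := by
  have hf := TransvectionMax.sympForm_isSymplecticForm (F := F) m
  refine ⟨?_, ?_, fun K hK => TransvectionMax.spGL_le m fun u c => hK _ (TransvectionMax.st_mem_spGL m u c) ?_⟩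
  · intro W hW
    by_cases hb : W = ⊥
    · exact Or.inl hb
    refine Or.inr (eq_top_iff.2 fun u _ => ?_)
    obtain ⟨w, hw, hw0⟩ := (Submodule.ne_bot_iff _).1 hb
    have key : ∀ v : Ix → F, sympForm m F w v ≠ 0 → v ∈ W := by
      intro v hv
      have h1 := hW _ (TransvectionMax.st_mem_spGL m v 1) w hw
      rw [TransvectionMax.st_act hf, one_mul] at h1
      have h2 := W.sub_mem h1 hw
      rw [add_sub_cancel_left] at h2
      have h3 := W.smul_mem (sympForm m F w v)⁻¹ h2
      rwa [smul_smul, inv_mul_cancel₀ hv, one_smul] at h3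
    by_cases hu : sympForm m F w u = 0
    · obtain ⟨-, z, hz⟩ := hf.nondegenerate w hw0
      have h1 : u + z ∈ W := key _ (by rw [hf.bilinear.add_right, hu, zero_add]; exact hz)
      simpa using W.sub_mem h1 (key z hz)
    · exact key u hu
  · intro M hM
    have key : ∀ v : Ix → F, v ≠ 0 → ∃ c : F, M *ᵥ v = c • v := by
      intro v hv
      obtain ⟨⟨x, hx⟩, -⟩ := hf.nondegenerate v hv
      have h1 := congrArg (fun A => A *ᵥ x) (hM _ (TransvectionMax.st_mem_spGL m v 1))
      simp only [← Matrix.mulVec_mulVec, TransvectionMax.st_act hf, one_mul, Matrix.mulVec_add,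
        Matrix.mulVec_smul] at h1
      have h2 := add_left_cancel h1
      refine ⟨(sympForm m F x v)⁻¹ * sympForm m F (M *ᵥ x) v, ?_⟩
      rw [← smul_smul, ← h2, smul_smul, inv_mul_cancel₀ hx, one_smul]
    let e := (Fintype.equivFin Ix)
    obtain ⟨c, hc⟩ := scalar_of_eigen (A := M.submatrix e.symm e.symm) fun x hx => by
      obtain ⟨c, hc⟩ := key (x ∘ e) (fun h => hx (funext fun i => by simpa using congrFun h (e.symm i)))
      refine ⟨c, funext fun i => ?_⟩
      have := congrFun hc (e.symm i)
      rw [Pi.smul_apply, Function.comp_apply, Equiv.apply_symm_apply] at this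
      rw [Pi.smul_apply, ← this]
      simp only [Matrix.mulVec, dotProduct, Matrix.submatrix_apply, Function.comp_apply]
      exact (Fintype.sum_equiv e _ _ fun j => by simp).symm
    refine ⟨c, Matrix.ext fun i j => ?_⟩
    have := congrFun (congrFun hc (e i)) (e j)
    simpa [Matrix.one_apply] using this
  · exact ⟨{ toFun := fun x => sympForm m F x u, map_add' := fun a b => hf.bilinear.add_left a b u,
             map_smul' := fun a b => hf.bilinear.smul_left a b u },
      fun x hx => TransvectionMax.st_fix hf u c hx⟩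

theorem sp_not_le_subfield (hm : 1 ≤ m) {F₀ : Subfield F} (hF₀ : F₀ ≠ ⊤) (P : GL Ix F) :
    ¬ spGL m F ≤ subfieldSubgroup F₀ P := by
  intro hle
  have hf := TransvectionMax.sympForm_isSymplecticForm (F := F) m
  haveI : Nonempty Ix := ⟨.inl ⟨0, hm⟩⟩
  let i : Ix := .inl ⟨0, hm⟩
  set u : Ix → F := (P : Matrix Ix Ix F) *ᵥ Pi.single i 1 with hu
  have hu0 : u ≠ 0 := fun h => by
    have := congrArg (fun z => ((P⁻¹ : GL Ix F) : Matrix Ix Ix F) *ᵥ z) h
    simp only [hu, inv_mulVec_mulVec, Matrix.mulVec_zero] at this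
    exact one_ne_zero (α := F) (by simpa using congrFun this i)
  -- entries of the transvections in the coordinates of `P`
  have hent : ∀ (c : F) (a b : Ix), ((P⁻¹ * TransvectionMax.st (sympForm m F) u c * P : GL Ix F) : Matrix Ix Ix F) a b =
      (if a = b then 1 else 0) +
        if a = i then c * sympForm m F ((P : Matrix Ix Ix F) *ᵥ Pi.single b 1) u else 0 := by
    intro c a b
    have h1 : ((P⁻¹ * TransvectionMax.st (sympForm m F) u c * P : GL Ix F) : Matrix Ix Ix F) *ᵥ Pi.single b 1 =
        Pi.single b 1 + (c * sympForm m F ((P : Matrix Ix Ix F) *ᵥ Pi.single b 1) u) • Pi.single i 1 := by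
      rw [Units.val_mul, Units.val_mul, ← Matrix.mulVec_mulVec, ← Matrix.mulVec_mulVec, TransvectionMax.st_act hf,
        Matrix.mulVec_add, Matrix.mulVec_smul, inv_mulVec_mulVec, hu, inv_mulVec_mulVec]
    have h2 := congrFun h1 a
    rw [Matrix.mulVec_single_one, Matrix.col_apply] at h2
    rw [h2]
    simp [Pi.single_apply]
  obtain ⟨b, hb⟩ : ∃ b, sympForm m F ((P : Matrix Ix Ix F) *ᵥ Pi.single b 1) u ≠ 0 := by
    by_contra hall
    push Not at hall
    refine hu0 (sp_eq_zero fun y => ?_)
    rw [← mulVec_inv_mulVec P y, pi_eq_sum_univ' (((P⁻¹ : GL Ix F) : Matrix Ix Ix F) *ᵥ y), Matrix.mulVec_sum]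
    let L : (Ix → F) →ₗ[F] F :=
      { toFun := fun x => sympForm m F x u, map_add' := fun a b => hf.bilinear.add_left a b u,
        map_smul' := fun a b => hf.bilinear.smul_left a b u }
    show L _ = 0
    rw [map_sum]
    exact Finset.sum_eq_zero fun j _ => by
      rw [Matrix.mulVec_smul, map_smul, show L ((P : Matrix Ix Ix F) *ᵥ Pi.single j 1) = 0 from hall j, smul_zero]
  have hbi : b ≠ i := fun h => hb (by rw [h]; exact hf.alternating _)
  apply hF₀
  refine eq_top_iff.2 fun x _ => ?_
  set c := x / sympForm m F ((P : Matrix Ix Ix F) *ᵥ Pi.single b 1) u with hc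
  obtain ⟨g, hg, hgP⟩ := hle (TransvectionMax.st_mem_spGL m u c)
  have hgt : g = P⁻¹ * TransvectionMax.st (sympForm m F) u c * P := by
    rw [← hgP]; simp [mul_assoc]
  haveI : (scalars Ix F).Normal := scalars_normal
  obtain ⟨a, ⟨g₀, rfl⟩, z, hz, he⟩ := Subgroup.mem_sup_of_normal_right.1 hg
  obtain ⟨l, hl⟩ := (mem_scalars_iff z).1 hz
  have h2 := congrArg Units.val (he.trans hgt)
  rw [Units.val_mul, hl, Matrix.mul_smul, mul_one] at h2
  have hg₀ : ∀ a b, ((Matrix.GeneralLinearGroup.map (F₀.subtype : F₀ →+* F) g₀ : GL Ix F) : Matrix Ix Ix F) a b ∈ F₀ :=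
    fun a b => SetLike.coe_mem _
  have e1 := congrFun (congrFun h2 b) b
  have e2 := congrFun (congrFun h2 i) b
  rw [hent, Matrix.smul_apply, if_pos rfl, if_neg hbi, add_zero, smul_eq_mul] at e1
  rw [hent, Matrix.smul_apply, if_neg hbi.symm, if_pos rfl, zero_add, hc, div_mul_cancel₀ _ hb, smul_eq_mul] at e2
  rw [← e2]
  refine F₀.mul_mem ?_ (hg₀ i b)
  rw [eq_inv_of_mul_eq_one_left e1]
  exact F₀.inv_mem (hg₀ b b)

theorem sp_not_le_quad (hm : 2 ≤ m) (h2 : (2 : F) = 0) {Q : (Ix → F) → F} (hQ : IsNondegenerateQuadraticForm Q)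
    (hpol : ∀ u v, QuadraticMap.polar Q u v = sympForm m F u v) : ¬ spGL m F ≤ quadSimilarityGroup Q := by
  intro hle
  have hf := TransvectionMax.sympForm_isSymplecticForm (F := F) m
  haveI : CharP F 2 := CharTwo.of_one_ne_zero_of_two_eq_zero one_ne_zero h2
  have hadd : ∀ u v, Q (u + v) = Q u + Q v + sympForm m F u v := fun u v => by
    rw [← hpol]; simp only [QuadraticMap.polar]; ring
  have key : ∀ u : Ix → F, u ≠ 0 → Q u = 1 := by
    intro u hu
    obtain ⟨l, hl⟩ := hle (TransvectionMax.st_mem_spGL m u 1)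
    have hx : ∀ x, sympForm m F x u ^ 2 * (Q u + 1) = ((l : F) - 1) * Q x := fun x => by
      have h3 := hl x
      rw [TransvectionMax.st_act hf, one_mul, hadd, hQ.smul, hf.bilinear.smul_right] at h3
      linear_combination h3
    by_contra hne
    have hl1 : (l : F) - 1 ≠ 0 := by
      intro h0
      obtain ⟨⟨x, hx'⟩, -⟩ := hf.nondegenerate u hu
      have h5 := hx x
      rw [h0, zero_mul] at h5
      rcases mul_eq_zero.1 h5 with h | h
      · exact hx' (pow_eq_zero_iff two_ne_zero |>.1 h)
      · exact hne (by linear_combination h - h2)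
    have hQ0 : ∀ x, sympForm m F x u = 0 → Q x = 0 := fun x h0 => by
      have := hx x
      rw [h0, zero_pow two_ne_zero, zero_mul] at this
      exact (mul_eq_zero.1 this.symm).resolve_left hl1
    let L : (Ix → F) →ₗ[F] F :=
      { toFun := fun x => sympForm m F x u, map_add' := fun a b => hf.bilinear.add_left a b u,
        map_smul' := fun a b => hf.bilinear.smul_left a b u }
    have hker : 2 * m ≤ Module.finrank F (LinearMap.ker L) + 1 := by
      have h1 := LinearMap.finrank_range_add_finrank_ker L
      have h3 : Module.finrank F (LinearMap.range L) ≤ 1 := (Submodule.finrank_le _).trans (by simp)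
      rw [Module.finrank_pi, Fintype.card_sum, Fintype.card_fin] at h1
      omega
    -- a totally isotropic hyperplane
    obtain ⟨⟨⟨y, hy⟩, hy0⟩⟩ : Nonempty {y : LinearMap.ker L // (y : Ix → F) ≠ 0} := by
      obtain ⟨y, hy, hy0⟩ := (Submodule.ne_bot_iff _).1 (show LinearMap.ker L ≠ ⊥ from fun h => by
        rw [h, finrank_bot] at hker; omega)
      exact ⟨⟨⟨y, hy⟩, hy0⟩⟩
    let M : (Ix → F) →ₗ[F] F :=
      { toFun := fun x => sympForm m F x y, map_add' := fun a b => hf.bilinear.add_left a b y,
        map_smul' := fun a b => hf.bilinear.smul_left a b y }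
    have hsub : LinearMap.ker L ≤ LinearMap.ker M := fun z hz => by
      have h1 := hQ0 _ hz
      have h3 := hQ0 _ hy
      have h4 := hQ0 (z + y) (by
        rw [hf.bilinear.add_left, show sympForm m F z u = 0 from hz, show sympForm m F y u = 0 from hy, add_zero])
      rw [hadd, h1, h3, zero_add, zero_add] at h4
      exact h4
    -- so `y` is a multiple of `u` for every choice of `y`
    obtain ⟨z, hz⟩ : ∃ z : Ix → F, sympForm m F z u = 0 ∧ z ∉ Submodule.span F {u} := by
      by_contra hall
      push Not at hall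
      have h5 : Module.finrank F (LinearMap.ker L) ≤ 1 :=
        (Submodule.finrank_mono (fun z hz => hall z hz)).trans (finrank_span_singleton hu).le
      omega
    obtain ⟨w, hwu, hwz⟩ : ∃ w, sympForm m F w u = 0 ∧ sympForm m F w z ≠ 0 := by
      by_contra hall
      push Not at hall
      obtain ⟨⟨x, hx'⟩, -⟩ := hf.nondegenerate u hu
      have h5 : z - (sympForm m F x z / sympForm m F x u) • u = 0 := sp_eq_zero fun v => by
        have h6 : sympForm m F (v - (sympForm m F v u / sympForm m F x u) • x) u = 0 := by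
          rw [sub_eq_add_neg, ← neg_smul, hf.bilinear.add_left, hf.bilinear.smul_left]; field_simp; ring
        have h7 := hall _ h6
        rw [sub_eq_add_neg, ← neg_smul, hf.bilinear.add_left, hf.bilinear.smul_left] at h7
        rw [sub_eq_add_neg, ← neg_smul, hf.bilinear.add_right, hf.bilinear.smul_right]
        field_simp at h7 ⊢
        linear_combination h7
      rw [sub_eq_zero] at h5
      exact hz.2 (h5 ▸ Submodule.smul_mem _ _ (Submodule.mem_span_singleton_self u))
    have h4 := hQ0 (w + z) (by rw [hf.bilinear.add_left, hwu, hz.1, add_zero])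
    rw [hadd, hQ0 w hwu, hQ0 z hz.1, zero_add, zero_add] at h4
    exact hwz h4
  -- every non-zero vector has value one
  let a : Ix → F := Pi.single (.inl ⟨0, by omega⟩) 1
  let b : Ix → F := Pi.single (.inl ⟨1, by omega⟩) 1
  have hab : a + b ≠ 0 := fun h => one_ne_zero (α := F) (by
    simpa [a, b, Pi.single_apply, Fin.ext_iff] using congrFun h (.inl ⟨0, by omega⟩))
  have ha : a ≠ 0 := fun h => one_ne_zero (α := F) (by simpa [a] using congrFun h (.inl ⟨0, by omega⟩))
  have hb : b ≠ 0 := fun h => one_ne_zero (α := F) (by simpa [b] using congrFun h (.inl ⟨1, by omega⟩))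
  have hz : sympForm m F a b = 0 := by simp [sympForm, a, b, Matrix.J]
  have := hadd a b
  rw [key _ hab, key _ ha, key _ hb, hz, add_zero] at this
  exact one_ne_zero (α := F) (by linear_combination this + h2)

/-- the symplectic group normalises no absolutely irreducible group with scalar squares -/
theorem sp_not_le_normalizer (hm : 2 ≤ m) (h2 : (2 : F) ≠ 0) {R : Subgroup (GL Ix F)} (hR : AbsIrred R)
    (hsim : R ≤ similarityGroup (sympForm m F)) (hsq : ∀ x ∈ R, x * x ∈ scalars Ix F) :
    ¬ spGL m F ≤ subgroupNormalizer R := by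
  intro hle
  have hf := TransvectionMax.sympForm_isSymplecticForm (F := F) m
  haveI : Nonempty Ix := ⟨.inl ⟨0, by omega⟩⟩
  let C : Subgroup (GL Ix F) :=
    { carrier := {g | ∀ x ∈ R, g * x = x * g}
      one_mem' := fun x _ => by simp
      mul_mem' := fun {a b} ha hb x hx => by rw [mul_assoc, hb x hx, ← mul_assoc, ha x hx, mul_assoc]
      inv_mem' := fun {a} ha x hx => by rw [inv_mul_eq_iff_eq_mul, ← mul_assoc, ha x hx, mul_assoc, mul_inv_cancel, mul_one] }
  suffices hC : spGL m F ≤ C from
    (sp_transvected (m := m) (F := F) (by omega)).not_scalar (by simp; omega) fun g hg => hR.scalar_of_comm (hC hg)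
  refine TransvectionMax.spGL_le m fun u c x hx => ?_
  by_cases hcne : c = 0
  · rw [hcne, TransvectionMax.st_zero hf, one_mul, mul_one]
  set t := TransvectionMax.st (sympForm m F) u c with ht
  have htS : t ∈ spGL m F := TransvectionMax.st_mem_spGL m u c
  obtain ⟨μ, hμ⟩ := hsim hx
  set w := (x : Matrix Ix Ix F) *ᵥ u with hw
  set d := c * ((μ⁻¹ : Fˣ) : F) with hd
  set T := x * t * x⁻¹ with hT
  have hTact : ∀ z, (T : Matrix Ix Ix F) *ᵥ z = z + (d * sympForm m F z w) • w := by
    intro z
    have h1 := hμ (((x⁻¹ : GL Ix F) : Matrix Ix Ix F) *ᵥ z) u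
    rw [mulVec_inv_mulVec, ← hw] at h1
    rw [hT, Units.val_mul, Units.val_mul, ← Matrix.mulVec_mulVec, ← Matrix.mulVec_mulVec, ht,
      TransvectionMax.st_act hf, Matrix.mulVec_add, mulVec_inv_mulVec, Matrix.mulVec_smul, ← hw, h1, hd]
    congr 2
    rw [mul_assoc, ← mul_assoc _ (μ : F), Units.inv_mul, one_mul]
  -- the commutator has scalar square
  have hr : T * t⁻¹ ∈ R := by
    have h1 : t * x⁻¹ * t⁻¹ ∈ R := (Subgroup.mem_normalizer_iff.1 (hle htS) x⁻¹).1 (R.inv_mem hx)
    have h3 := R.mul_mem hx h1
    rwa [show x * (t * x⁻¹ * t⁻¹) = T * t⁻¹ by rw [hT]; group] at h3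
  obtain ⟨l, hl⟩ := (mem_scalars_iff _).1 (hsq _ hr)
  have hti : t⁻¹ = TransvectionMax.st (sympForm m F) u (-c) := inv_eq_of_mul_eq_one_right (by
    rw [ht, TransvectionMax.st_add hf, add_neg_cancel, TransvectionMax.st_zero hf])
  set b := sympForm m F u w with hb
  set R₁ : (Ix → F) → (Ix → F) := fun z => ((T * t⁻¹ : GL Ix F) : Matrix Ix Ix F) *ᵥ z with hR₁
  have hRact : ∀ z, R₁ z =
      z + (-c * sympForm m F z u) • u + (d * (sympForm m F z w + -c * sympForm m F z u * b)) • w := by
    intro z
    rw [hR₁]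
    simp only [Units.val_mul, ← Matrix.mulVec_mulVec]
    rw [hti, TransvectionMax.st_act hf, hTact, hf.bilinear.add_left, hf.bilinear.smul_left, hb]
  have hRR : ∀ z, R₁ (R₁ z) = (l : F) • z := fun z => by
    rw [hR₁]
    simp only [Matrix.mulVec_mulVec]
    rw [← Units.val_mul, hl, Matrix.smul_mulVec, Matrix.one_mulVec]
  have hl1 : (l : F) = 1 := by
    obtain ⟨z, hz0, hz⟩ := exists_ne_zero_kills
      [({ toFun := fun z => sympForm m F z u, map_add' := fun a b => hf.bilinear.add_left a b u,
          map_smul' := fun a b => hf.bilinear.smul_left a b u } : (Ix → F) →ₗ[F] F),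
       ({ toFun := fun z => sympForm m F z w, map_add' := fun a b => hf.bilinear.add_left a b w,
          map_smul' := fun a b => hf.bilinear.smul_left a b w } : (Ix → F) →ₗ[F] F)]
      (by rw [Module.finrank_pi]; simp; omega)
    have z1 : sympForm m F z u = 0 := hz _ (List.mem_cons_self ..)
    have z2 : sympForm m F z w = 0 := hz _ (List.mem_cons_of_mem _ (List.mem_singleton_self _))
    have hfix : R₁ z = z := by rw [hRact, z1, z2]; simp
    have := hRR z
    rw [hfix, hfix] at this
    obtain ⟨i, hi⟩ := Function.ne_iff.1 hz0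
    have h3 := congrFun this i
    rw [Pi.smul_apply, smul_eq_mul] at h3
    exact mul_right_cancel₀ hi (by rw [← h3, one_mul])
  have hwu : sympForm m F w u = -b := hf.skew w u
  have hexp : ∀ z, (2 * (-c * sympForm m F z u) - c * (d * (sympForm m F z w + -c * sympForm m F z u * b) * -b)) • u +
      (2 * (d * (sympForm m F z w + -c * sympForm m F z u * b)) + d * (-c * sympForm m F z u * b) +
        d * (c * c * d * -b * b * sympForm m F z u * 0) +
        d * -c * b * (-c * sympForm m F z u * 0 + d * (sympForm m F z w + -c * sympForm m F z u * b) * -b)) • w = 0 := by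
    intro z
    have h1 := hRR z
    rw [hl1, one_smul] at h1
    rw [hRact (R₁ z), hRact z] at h1
    simp only [hf.bilinear.add_left, hf.bilinear.smul_left, hf.alternating, hwu, ← hb] at h1
    rw [← sub_eq_zero.2 h1]
    module
  -- the vectors are parallel
  have hpar : ∃ a : F, w = a • u := by
    by_contra hne
    push Not at hne
    have hc0 : u ≠ 0 := fun h => hne 0 (by rw [hw, h, Matrix.mulVec_zero, zero_smul])
    have hind : ∀ p q : F, p • u + q • w = 0 → p = 0 ∧ q = 0 := by
      intro p q h
      by_cases hq : q = 0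
      · rw [hq, zero_smul, add_zero] at h
        exact ⟨(smul_eq_zero.1 h).resolve_right hc0, hq⟩
      · exfalso
        refine hne (-(p / q)) ?_
        have h3 := congrArg (fun v => q⁻¹ • v) h
        simp only [smul_add, smul_smul, inv_mul_cancel₀ hq, one_smul, smul_zero] at h3
        rw [eq_neg_of_add_eq_zero_right h3, neg_smul]
        congr 1
        rw [div_eq_inv_mul]
    obtain ⟨z, hzu, hzw⟩ : ∃ z, sympForm m F z u = 1 ∧ sympForm m F z w = 0 := by
      obtain ⟨y, hy⟩ : ∃ y, sympForm m F y u ≠ 0 ∧ sympForm m F y w = 0 := by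
        by_contra hall
        push Not at hall
        obtain ⟨⟨y₀, hy₀⟩, -⟩ := hf.nondegenerate u hc0
        have hw0 : w ≠ 0 := fun h => hne 0 (by rw [h, zero_smul])
        obtain ⟨⟨y₁, hy₁⟩, -⟩ := hf.nondegenerate w hw0
        refine hy₁ ?_
        by_contra
        have key : ∀ y, sympForm m F y u = sympForm m F y₁ u / sympForm m F y₁ w * sympForm m F y w := fun y => by
          have h5 : sympForm m F (y + -(sympForm m F y w / sympForm m F y₁ w) • y₁) w = 0 := by
            rw [hf.bilinear.add_left, hf.bilinear.smul_left]; field_simp; ring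
          have h6 : sympForm m F (y + -(sympForm m F y w / sympForm m F y₁ w) • y₁) u = 0 := by
            by_contra h7; exact hall _ h7 h5
          rw [hf.bilinear.add_left, hf.bilinear.smul_left] at h6
          field_simp at h6 ⊢
          linear_combination h6
        set a := sympForm m F y₁ u / sympForm m F y₁ w
        have h8 : u = a • w := by
          refine sub_eq_zero.1 (sp_eq_zero fun y => ?_)
          rw [sub_eq_add_neg, ← neg_smul, hf.bilinear.add_right, hf.bilinear.smul_right, key y]; ring
        have ha : a ≠ 0 := fun h => hc0 (by rw [h8, h, zero_smul])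
        exact hne a⁻¹ (by rw [h8, smul_smul, inv_mul_cancel₀ ha, one_smul])
      exact ⟨(sympForm m F y u)⁻¹ • y, by rw [hf.bilinear.smul_left, inv_mul_cancel₀ hy.1],
        by rw [hf.bilinear.smul_left, hy.2, mul_zero]⟩
    obtain ⟨e1, e2⟩ := hind _ _ (hexp z)
    rw [hzu, hzw] at e1 e2
    have hc := hcne
    have e1' : c * (2 + c * d * b * b) = 0 := by linear_combination -e1
    have hs : 2 + c * d * b * b = 0 := (mul_eq_zero.1 e1').resolve_left hc
    have e2' : c * d * b * (3 + c * d * b * b) = 0 := by linear_combination -e2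
    have h3 : 3 + c * d * b * b = 1 := by linear_combination hs
    rw [h3, mul_one] at e2'
    exact h2 (by linear_combination hs - b * e2')
  obtain ⟨a, ha⟩ := hpar
  have hb0 : b = 0 := by rw [hb, ha, hf.bilinear.smul_right, hf.alternating, mul_zero]
  have heq : T * t⁻¹ = 1 := by
    refine Units.ext (Matrix.toLin'.injective (LinearMap.ext fun z => ?_))
    simp only [Units.val_one, Matrix.toLin'_one, LinearMap.id_apply, Matrix.toLin'_apply]
    have h1 := hRR z
    rw [hl1, one_smul, hRact (R₁ z)] at h1
    have hu : sympForm m F (R₁ z) u = sympForm m F z u := by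
      rw [hRact, hf.bilinear.add_left, hf.bilinear.add_left, hf.bilinear.smul_left, hf.bilinear.smul_left,
        hf.alternating, hwu, hb0]; ring
    have hww : sympForm m F (R₁ z) w = sympForm m F z w := by
      rw [hRact, hf.bilinear.add_left, hf.bilinear.add_left, hf.bilinear.smul_left, hf.bilinear.smul_left,
        hf.alternating, ← hb, hb0]; ring
    rw [hu, hww] at h1
    set δ := (-c * sympForm m F z u) • u + (d * (sympForm m F z w + -c * sympForm m F z u * b)) • w
    have hRz : R₁ z = z + δ := by rw [hRact, add_assoc]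
    have h3 : (2 : F) • δ = 0 := by
      rw [two_smul]
      have h4 : R₁ z + δ = z := by rw [← add_assoc]; exact h1
      rw [hRz] at h4
      simpa [add_assoc] using h4
    show R₁ z = z
    rw [hRz, (smul_eq_zero.1 h3).resolve_left h2, add_zero]
  rw [mul_inv_eq_one, hT, mul_inv_eq_iff_eq_mul] at heq
  exact heq.symm

end Symp

section Unit

variable {n q : ℕ}

theorem su_transvected (hF : Fintype.card F = q ^ 2) (hn : 4 ≤ n) :
    Transvected (Cfsg.GU n F q ⊓ specialLinear (Fin n) F) := by
  refine ⟨su_irred hF (by omega), fun M hM => scalar_of_comm_su hF (by omega) hM, fun K hK g hg => ?_⟩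
  let A₀ : Matrix.SpecialLinearGroup (Fin n) F := ⟨(g : Matrix (Fin n) (Fin n) F), (mem_sl_iff g).1 hg.2⟩
  let A : SU n F q := ⟨A₀, hg.1⟩
  have hA : A ∈ OrthUnitaryTransvection.tGroup n F q := by
    rw [OrthUnitaryTransvection.tGroup_eq_top hF (by omega) (by omega)]
    exact Subgroup.mem_top _
  let toG : SU n F q →* GL (Fin n) F := Matrix.SpecialLinearGroup.toGL.comp (SU n F q).subtype
  have key : OrthUnitaryTransvection.tGroup n F q ≤ K.comap toG := by
    refine (Subgroup.closure_le _).2 ?_
    rintro B ⟨v, c, hv, hB⟩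
    refine hK _ ⟨B.2, ?_⟩ ⟨{ toFun := fun x => hermForm n F q x v,
                             map_add' := fun a b => OrthUnitaryHerm.herm_add_left a b v,
                             map_smul' := fun a b => OrthUnitaryHerm.herm_smul_left a b v }, fun x hx => ?_⟩
    · exact (mem_sl_iff _).2 B.1.2
    · show ((B : Matrix.SpecialLinearGroup (Fin n) F) : Matrix (Fin n) (Fin n) F) *ᵥ x = x
      rw [hB, OrthUnitaryHerm.transvection_mulVec, show hermForm n F q x v = 0 from hx, mul_zero, zero_smul, add_zero]
  have h1 : toG A ∈ K := key hA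
  have h2 : toG A = g := Units.ext rfl
  exact h2 ▸ h1

end Unit

end Cfsg.Agent.AschCase
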