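/-
Aschbacher's theorem in prime dimension, unitary case: every maximal subgroup of SU is geometric or residual.
-/
import Cfsg.Agent.Lib.AschPrimeUnitaryProper

set_option autoImplicit false

namespace Cfsg.Agent.AschPrimeUnitary

open scoped Matrix
open Cfsg Cfsg.Geo Cfsg.Agent.AschPrimeBasic Cfsg.Agent.AschPrimeClifford Cfsg.Agent.AschPrimeExtra
  Cfsg.Agent.AschPrimeCore Cfsg.Agent.AschPrimeForms Cfsg.Agent.AschPrimeUnitaryProper

variable {n : ℕ} {F : Type*} [Field F] [Fintype F] {q : ℕ}

/-- the automorphism `x ↦ x^q` -/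
noncomputable def fr (hF : Fintype.card F = q ^ 2) : F ≃+* F where
  toFun x := x ^ q
  invFun x := x ^ q
  left_inv x := OrthUnitaryHerm.pow_q_q hF x
  right_inv x := OrthUnitaryHerm.pow_q_q hF x
  map_mul' x y := mul_pow x y q
  map_add' x y := OrthUnitaryHerm.add_pow_q hF x y

@[simp] lemma fr_apply (hF : Fintype.card F = q ^ 2) (x : F) : fr hF x = x ^ q := rfl

lemma fr_fr (hF : Fintype.card F = q ^ 2) (x : F) : fr hF (fr hF x) = x := OrthUnitaryHerm.pow_q_q hF x

lemma herm_unitary (hF : Fintype.card F = q ^ 2) : IsUnitaryForm (fr hF) (hermForm n F q) := by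
  refine ⟨?_, fr_fr hF, OrthUnitaryHerm.herm_add_left, OrthUnitaryHerm.herm_smul_left,
    fun v w => OrthUnitaryHerm.herm_conj hF w v, fun v hv => ?_⟩
  · intro h
    obtain ⟨x, hx, hx2⟩ := OrthUnitaryHerm.exists_normOne_sq_ne_one hF
    apply hx2
    apply Units.ext
    have h1 : fr hF (x : F) = x := by rw [h]; rfl
    rw [fr_apply] at h1
    have h2 := congrArg Units.val hx
    rw [Units.val_pow_eq_pow_val, pow_succ, h1, Units.val_one] at h2
    rw [Units.val_pow_eq_pow_val, Units.val_one, sq]
    exact h2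
  · obtain ⟨x, hx⟩ : ∃ x, hermForm n F q v x ≠ 0 := by
      by_contra hall
      push Not at hall
      exact hv (OrthUnitaryHerm.eq_zero_of_herm_eq_zero hF hall)
    refine ⟨⟨x, fun h => hx ?_⟩, x, hx⟩
    rw [OrthUnitaryHerm.herm_conj hF x v, h, OrthUnitaryHerm.zero_pow_q hF]

lemma herm_eq_dot (hF : Fintype.card F = q ^ 2) (u v : Fin n → F) :
    hermForm n F q u v = u ⬝ᵥ fun i => fr hF (v i) := rfl

lemma gram_herm (hF : Fintype.card F = q ^ 2) : gramMatrix (hermForm n F q) = 1 := by
  ext a b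
  show hermForm n F q (Pi.single a 1) (Pi.single b 1) = _
  rw [OrthUnitaryHerm.herm_single_right hF, Matrix.one_apply, Pi.single_apply]
  exact if_congr eq_comm rfl rfl

lemma iso_matrix (hF : Fintype.card F = q ^ 2) {g : GL (Fin n) F} (hg : g ∈ Cfsg.GU n F q) :
    (g : Matrix (Fin n) (Fin n) F)ᵀ * (g : Matrix (Fin n) (Fin n) F).map (fr hF) = 1 := by
  have := ((sesq_of_unitary (herm_unitary hF)).similar_iff (g : Matrix (Fin n) (Fin n) F) 1).1
    fun u v => by rw [one_mul]; exact hg u v
  simpa [gram_herm hF] using this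

/-- the adjoint matrix -/
noncomputable def star' (hF : Fintype.card F = q ^ 2) (k : Matrix (Fin n) (Fin n) F) :
    Matrix (Fin n) (Fin n) F := kᵀ.map (fr hF)

lemma star'_mul (hF : Fintype.card F = q ^ 2) (A B : Matrix (Fin n) (Fin n) F) :
    star' hF (A * B) = star' hF B * star' hF A := by
  rw [star', Matrix.transpose_mul, map_mul_map]
  rfl

lemma star'_star' (hF : Fintype.card F = q ^ 2) (A : Matrix (Fin n) (Fin n) F) :
    star' hF (star' hF A) = A := by
  ext i j
  exact fr_fr hF _

lemma star'_eq_inv (hF : Fintype.card F = q ^ 2) {g : GL (Fin n) F} (hg : g ∈ Cfsg.GU n F q) :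
    star' hF (g : Matrix (Fin n) (Fin n) F) = ((g⁻¹ : GL (Fin n) F) : Matrix (Fin n) (Fin n) F) := by
  have h1 := congrArg (fun A => A.map (fr hF)) (iso_matrix hF hg)
  simp only [map_mul_map] at h1
  have h2 : ((g : Matrix (Fin n) (Fin n) F).map (fr hF)).map (fr hF) = g := by
    ext i j
    exact fr_fr hF _
  rw [h2, Matrix.map_one _ (map_zero _) (map_one _)] at h1
  calc star' hF (g : Matrix (Fin n) (Fin n) F)
      = star' hF (g : Matrix (Fin n) (Fin n) F) * ((g : Matrix (Fin n) (Fin n) F) *
          ((g⁻¹ : GL (Fin n) F) : Matrix (Fin n) (Fin n) F)) := by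
        rw [← Units.val_mul, mul_inv_cancel, Units.val_one, mul_one]
    _ = ((g⁻¹ : GL (Fin n) F) : Matrix (Fin n) (Fin n) F) := by
        rw [← mul_assoc, star', h1, one_mul]

lemma herm_adjoint (hF : Fintype.card F = q ^ 2) (k : Matrix (Fin n) (Fin n) F) (u v : Fin n → F) :
    hermForm n F q (k *ᵥ u) v = hermForm n F q u (star' hF k *ᵥ v) := by
  rw [herm_eq_dot hF, herm_eq_dot hF]
  have h1 : (fun i => fr hF ((star' hF k *ᵥ v) i)) = kᵀ *ᵥ fun i => fr hF (v i) := by
    funext i
    have h2 := RingHom.map_mulVec ((fr hF : F ≃+* F) : F →+* F) (star' hF k) v i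
    refine h2.trans ?_
    have h3 : (star' hF k).map ((fr hF : F ≃+* F) : F →+* F) = kᵀ := by
      ext a b
      exact fr_fr hF _
    rw [h3]
    rfl
  rw [h1, dotProduct_comm (k *ᵥ u), Matrix.dotProduct_mulVec, ← Matrix.mulVec_transpose, dotProduct_comm]

/-- the orthogonal of a subspace -/
noncomputable def perp (hF : Fintype.card F = q ^ 2) (W : Submodule F (Fin n → F)) :
    Submodule F (Fin n → F) where
  carrier := {v | ∀ w ∈ W, hermForm n F q v w = 0}
  add_mem' {u v} hu hv w hw := by rw [OrthUnitaryHerm.herm_add_left, hu w hw, hv w hw, add_zero]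
  zero_mem' w hw := (herm_unitary hF).smul_left 0 0 w |> fun h => by simpa using h
  smul_mem' c v hv w hw := by rw [OrthUnitaryHerm.herm_smul_left, hv w hw, mul_zero]

/-- a family of lines attached to an abelian normal subgroup of an irreducible isometry group is orthogonal -/
lemma lines_orthogonal (hF : Fintype.card F = q ^ 2) (hodd : Odd n) {H N : Subgroup (GL (Fin n) F)}
    (hGU : H ≤ Cfsg.GU n F q) (hirr : Irred H) (hNH : N ≤ H) {t : ℕ} (ht : t = n)
    {D : Fin t → Submodule F (Fin n → F)} (hD : IsMDecomposition 1 D) (hle : H ≤ decompositionStabilizer D)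
    {χ : Fin t → N → F} (hχ : Function.Injective χ) (hDe : ∀ i, D i = eigen N (χ i)) :
    IsNondegenerateMDecomposition (hermForm n F q) 1 D := by
  classical
  have hlines : ∀ i, ∃ v : Fin n → F, v ∈ D i ∧ v ≠ 0 ∧ ∀ w ∈ D i, ∃ c : F, c • v = w := by
    intro i
    obtain ⟨⟨v, hv⟩, hv0, hsp⟩ := finrank_eq_one_iff'.1 (hD.finrank_eq i)
    exact ⟨v, hv, fun h => hv0 (Subtype.ext h), fun w hw => by
      obtain ⟨c, hc⟩ := hsp ⟨w, hw⟩
      exact ⟨c, congrArg Subtype.val hc⟩⟩
  choose v hv hv0 hsp using hlines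
  have hprod : ∀ i j, hermForm n F q (v i) (v j) ≠ 0 → ∀ g, χ i g * (χ j g) ^ q = 1 := by
    intro i j hne g
    have h1 : hermForm n F q (((g : GL (Fin n) F) : Matrix (Fin n) (Fin n) F) *ᵥ v i)
        (((g : GL (Fin n) F) : Matrix (Fin n) (Fin n) F) *ᵥ v j) = hermForm n F q (v i) (v j) :=
      hGU (hNH g.2) (v i) (v j)
    rw [(mem_eigen.1 ((hDe i).le (hv i)) g), (mem_eigen.1 ((hDe j).le (hv j)) g),
      OrthUnitaryHerm.herm_smul_left, OrthUnitaryHerm.herm_smul_right, ← mul_assoc] at h1
    exact mul_right_cancel₀ hne (by rw [one_mul]; exact h1)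
  have huniq : ∀ i j k, hermForm n F q (v i) (v j) ≠ 0 → hermForm n F q (v i) (v k) ≠ 0 → j = k := by
    intro i j k hj hk
    refine hχ (funext fun g => ?_)
    have e1 := hprod i j hj g
    have e2 := hprod i k hk g
    have h0 : χ i g ≠ 0 := fun h => by simp [h] at e1
    refine (fr hF).injective ?_
    rw [fr_apply, fr_apply]
    exact mul_left_cancel₀ h0 (e1.trans e2.symm)
  have hex : ∀ i, ∃ j, hermForm n F q (v i) (v j) ≠ 0 := by
    intro i
    by_contra hall
    push Not at hall
    apply hv0 i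
    refine OrthUnitaryHerm.eq_zero_of_herm_eq_zero hF fun x => ?_
    have hx : x ∈ iSup D := by rw [hD.iSup_eq_top]; trivial
    induction hx using Submodule.iSup_induction' with
    | mem j y hy =>
      obtain ⟨c, rfl⟩ := hsp j y hy
      rw [OrthUnitaryHerm.herm_smul_right, hall j, mul_zero]
    | zero => simpa using OrthUnitaryHerm.herm_smul_right (q := q) (0 : F) 0 (v i) |>.trans (by
        rw [OrthUnitaryHerm.zero_pow_q hF, zero_mul])
    | add y z _ _ hy hz => rw [OrthUnitaryHerm.herm_add_right hF, hy, hz, add_zero]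
  choose τ hτ using hex
  have hinv : ∀ i, τ (τ i) = i := by
    intro i
    refine huniq (τ i) _ _ (hτ (τ i)) ?_
    rw [OrthUnitaryHerm.herm_conj hF (v i) (v (τ i))]
    exact pow_ne_zero _ (hτ i)
  obtain ⟨i₀, hi₀⟩ : ∃ i, τ i = i := by
    by_contra hcon
    push Not at hcon
    let π : Equiv.Perm (Fin t) := ⟨τ, τ, hinv, hinv⟩
    have hsq : π ^ 2 = 1 := by
      ext i
      simp [sq, π, hinv]
    have h2 : π.support = Finset.univ := Finset.eq_univ_of_forall fun i =>
      Equiv.Perm.mem_support.2 (hcon i)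
    have := Equiv.Perm.two_dvd_card_support hsq
    rw [h2, Finset.card_univ, Fintype.card_fin, ht] at this
    exact (Nat.not_even_iff_odd.2 hodd) (even_iff_two_dvd.2 this)
  have hns : ∀ i, hermForm n F q (v i) (v i) ≠ 0 := by
    set W : Submodule F (Fin n → F) := ⨆ i ∈ {i | hermForm n F q (v i) (v i) ≠ 0}, D i with hW
    have hWinv : Inv H W := by
      intro h hh w hw
      obtain ⟨σ, hσ⟩ := hle hh
      have hmap : W.map (Matrix.toLin' (h : Matrix (Fin n) (Fin n) F)) ≤ W := by
        simp only [hW, Submodule.map_iSup, iSup_le_iff]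
        intro i hi
        rw [hσ i]
        refine le_biSup D ?_
        have hmem : (h : Matrix (Fin n) (Fin n) F) *ᵥ v i ∈ D (σ i) := hσ i ▸ ⟨v i, hv i, by simp⟩
        obtain ⟨c, hc⟩ := hsp _ _ hmem
        intro h0
        apply hi
        have := hGU hh (v i) (v i)
        rw [show (Units.coeHom (Matrix (Fin n) (Fin n) F)) h = (h : Matrix (Fin n) (Fin n) F) from rfl, ← hc,
          OrthUnitaryHerm.herm_smul_left, OrthUnitaryHerm.herm_smul_right, h0, mul_zero, mul_zero] at this
        exact this.symm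
      simpa using hmap ⟨w, hw, rfl⟩
    have hi₀' : hermForm n F q (v i₀) (v i₀) ≠ 0 := by
      have := hτ i₀
      rwa [hi₀] at this
    have hWne : W ≠ ⊥ := fun h => hv0 i₀
      ((Submodule.eq_bot_iff W).1 h _ (le_biSup D (show i₀ ∈ {i | hermForm n F q (v i) (v i) ≠ 0} from hi₀') (hv i₀)))
    have hWtop := (hirr W hWinv).resolve_left hWne
    intro i hi
    have hd : Disjoint (D i) W := hD.indep.disjoint_biSup (fun h => h hi)
    exact hv0 i (Submodule.disjoint_def.1 hd _ (hv i) (by rw [hWtop]; trivial))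
  refine ⟨hD, fun i w hw hw0 => ?_, fun i j hij a ha b hb => ?_⟩
  · obtain ⟨c, rfl⟩ := hsp i w hw
    have hc : c ≠ 0 := fun h => hw0 (by rw [h, zero_smul])
    refine ⟨⟨v i, hv i, ?_⟩, v i, hv i, ?_⟩
    · rw [OrthUnitaryHerm.herm_smul_right]
      exact mul_ne_zero (pow_ne_zero _ hc) (hns i)
    · rw [OrthUnitaryHerm.herm_smul_left]
      exact mul_ne_zero hc (hns i)
  · obtain ⟨c, rfl⟩ := hsp i a ha
    obtain ⟨d, rfl⟩ := hsp j b hb
    have h0 : hermForm n F q (v i) (v j) = 0 := by
      by_contra hne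
      exact hij (huniq i i j (hns i) hne)
    rw [OrthUnitaryHerm.herm_smul_left, OrthUnitaryHerm.herm_smul_right, h0, mul_zero, mul_zero]

/-- the commutant of a set of isometries is closed under adjoints -/
lemma commutant_adjointClosed (hF : Fintype.card F = q ^ 2) {N : Subgroup (GL (Fin n) F)}
    (hGU : N ≤ Cfsg.GU n F q) : IsAdjointClosedFor (hermForm n F q) (commutant N) := by
  intro k hk
  refine ⟨star' hF k, mem_commutant.2 fun g hg => ?_, herm_adjoint hF k⟩
  have h1 := congrArg (star' hF) (mem_commutant.1 hk _ (N.inv_mem hg))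
  rw [star'_mul, star'_mul] at h1
  have h2 : star' hF (((g⁻¹ : GL (Fin n) F)) : Matrix (Fin n) (Fin n) F) = (g : Matrix (Fin n) (Fin n) F) := by
    rw [← star'_eq_inv hF (hGU hg), star'_star']
  rw [h2] at h1
  exact h1.symm

/-- an absolutely irreducible isometry group realised over the fixed field of `φ` gives a form-compatible
subfield structure -/
lemma rational_structure (hF : Fintype.card F = q ^ 2) (hn : 2 ≤ n) (hodd : Odd n)
    {H S : Subgroup (GL (Fin n) F)} (hS : AbsIrred S) (hSn : NormalBy H S) (hSGU : S ≤ Cfsg.GU n F q)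
    {φ : F ≃+* F} {r : ℕ} (hr : r.Prime) (hcard : Fintype.card F = Nat.card (fixedField φ) ^ r) {B : GL (Fin n) F}
    (hfix : ∀ s ∈ S, ∀ i j, φ (((B * s * B⁻¹ : GL (Fin n) F) : Matrix (Fin n) (Fin n) F) i j) =
      ((B * s * B⁻¹ : GL (Fin n) F) : Matrix (Fin n) (Fin n) F) i j) :
    ∃ P : GL (Fin n) F, H ≤ subfieldSubgroup (fixedField φ) P ∧
      IsFormRationalStructure (hermForm n F q) (fixedField φ) 1 P ∧
      (Odd r ∨ (r = 2 ∧ Odd q)) := by
  classical
  haveI : Nonempty (Fin n) := ⟨⟨0, by omega⟩⟩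
  set σ := fr hF with hσ
  have hσpres : ∀ x ∈ fixedField φ, σ x ∈ fixedField φ := fun x hx => by
    rw [hσ, fr_apply]
    exact pow_mem hx q
  -- the pulled back Gram matrix
  set Q : Matrix (Fin n) (Fin n) F := ((B⁻¹ : GL (Fin n) F) : Matrix (Fin n) (Fin n) F) with hQ
  set G : Matrix (Fin n) (Fin n) F := Qᵀ * Q.map σ with hG
  set Bm : Matrix (Fin n) (Fin n) F := (B : Matrix (Fin n) (Fin n) F) with hBm
  have hQB : Q * Bm = 1 := by rw [hQ, hBm, ← Units.val_mul, inv_mul_cancel, Units.val_one]
  have hBQ : Bm * Q = 1 := by rw [hQ, hBm, ← Units.val_mul, mul_inv_cancel, Units.val_one]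
  have hBQT : Bmᵀ * Qᵀ = 1 := by rw [← Matrix.transpose_mul, hQB, Matrix.transpose_one]
  have hQBσ : Q.map σ * Bm.map σ = 1 := by
    rw [← map_mul_map, hQB, Matrix.map_one _ (map_zero _) (map_one _)]
  have hpull : Bmᵀ * G * Bm.map σ = 1 := by
    rw [hG, ← mul_assoc, hBQT, one_mul, hQBσ]
  have hGdet : G.det ≠ 0 := fun h0 => by
    have := congrArg Matrix.det hpull
    simp [Matrix.det_mul, h0] at this
  have hconj : ∀ s : GL (Fin n) F, ((B * s * B⁻¹ : GL (Fin n) F) : Matrix (Fin n) (Fin n) F) =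
      Bm * (s : Matrix (Fin n) (Fin n) F) * Q := fun s => rfl
  have hinvG : ∀ s ∈ S, ((B * s * B⁻¹ : GL (Fin n) F) : Matrix (Fin n) (Fin n) F)ᵀ * G *
      ((B * s * B⁻¹ : GL (Fin n) F) : Matrix (Fin n) (Fin n) F).map σ = G := by
    intro s hs
    rw [hconj, map_mul_map, map_mul_map, Matrix.transpose_mul, Matrix.transpose_mul]
    calc Qᵀ * ((s : Matrix (Fin n) (Fin n) F)ᵀ * Bmᵀ) * G *
          (Bm.map σ * (s : Matrix (Fin n) (Fin n) F).map σ * Q.map σ)
        = Qᵀ * ((s : Matrix (Fin n) (Fin n) F)ᵀ * (Bmᵀ * G * Bm.map σ) *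
            (s : Matrix (Fin n) (Fin n) F).map σ) * Q.map σ := by simp only [mul_assoc]
      _ = G := by rw [hpull, mul_one, iso_matrix hF (hSGU hs), mul_one, hG]
  -- proportional to its image
  obtain ⟨c, hc⟩ : ∃ c : F, Bmᵀ * G.map φ * Bm.map σ = c • (Bmᵀ * G * Bm.map σ) := by
    refine gram_unique hS σ (by rw [hpull, Matrix.det_one]; exact one_ne_zero) ?_ ?_
    · intro s hs
      rw [hpull, mul_one]
      exact iso_matrix hF (hSGU hs)
    · intro s hs
      set s' := ((B * s * B⁻¹ : GL (Fin n) F) : Matrix (Fin n) (Fin n) F) with hs'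
      have hsf : s'.map φ = s' := Matrix.ext fun i j => hfix s hs i j
      have hcomm : (s'.map σ).map φ = s'.map σ := by
        ext i j
        show φ (σ (s' i j)) = σ (s' i j)
        exact hσpres _ (hfix s hs i j)
      have h1 := congrArg (fun A => A.map φ) (hinvG s hs)
      simp only [map_mul_map, ← hs', hcomm] at h1
      rw [show (s'ᵀ).map φ = s'ᵀ by rw [Matrix.transpose_map, hsf]] at h1
      have h2 : Bm * (s : Matrix (Fin n) (Fin n) F) = s' * Bm := by
        rw [hs', hconj, mul_assoc (Bm * (s : Matrix (Fin n) (Fin n) F)), hQB, mul_one]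
      calc (s : Matrix (Fin n) (Fin n) F)ᵀ * (Bmᵀ * G.map φ * Bm.map σ) * (s : Matrix (Fin n) (Fin n) F).map σ
          = (Bm * (s : Matrix (Fin n) (Fin n) F))ᵀ * G.map φ * (Bm * (s : Matrix (Fin n) (Fin n) F)).map σ := by
            simp only [Matrix.transpose_mul, map_mul_map, mul_assoc]
        _ = Bmᵀ * (s'ᵀ * G.map φ * s'.map σ) * Bm.map σ := by
            rw [h2]; simp only [Matrix.transpose_mul, map_mul_map, mul_assoc]
        _ = Bmᵀ * G.map φ * Bm.map σ := by rw [h1]
  have hGφ : G.map φ = c • G := by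
    have h1 := congrArg (fun A => Qᵀ * A * Q.map σ) hc
    have hQT : Qᵀ * Bmᵀ = 1 := by rw [← Matrix.transpose_mul, hBQ, Matrix.transpose_one]
    have hBσ : Bm.map σ * Q.map σ = 1 := by
      rw [← map_mul_map, hBQ, Matrix.map_one _ (map_zero _) (map_one _)]
    simp only [Matrix.mul_smul, Matrix.smul_mul, ← mul_assoc, hQT, one_mul] at h1
    simp only [mul_assoc, hBσ, mul_one] at h1
    exact h1
  obtain ⟨i₀, j₀, ha⟩ : ∃ i j, G i j ≠ 0 := by
    by_contra hall
    push Not at hall
    exact hGdet (by rw [show G = 0 from Matrix.ext hall, Matrix.det_zero])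
  set a := G i₀ j₀ with ha'
  have hherm : ∀ i j, G j i = σ (G i j) := by
    intro i j
    simp only [hG, Matrix.mul_apply, Matrix.transpose_apply, Matrix.map_apply, map_sum, map_mul]
    refine Finset.sum_congr rfl fun k _ => ?_
    rw [hσ, fr_fr hF, mul_comm]
  have hφG : ∀ i j, φ (G i j) = c * G i j := fun i j => congrFun (congrFun hGφ i) j
  have hc0 : c ≠ 0 := fun h0 => by
    have := hφG i₀ j₀
    rw [h0, zero_mul] at this
    exact ha (φ.injective (by rw [map_zero]; exact this))
  have hG0 : ∀ i j, G i j / a ∈ fixedField φ := by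
    intro i j
    rw [mem_fixedField, map_div₀, hφG, ha', hφG]
    exact mul_div_mul_left _ _ hc0
  set d := σ a / a with hd
  have hd0 : d ≠ 0 := div_ne_zero (fun h => ha (σ.injective (by rw [map_zero]; exact h))) ha
  have hdmem : d ∈ fixedField φ := by
    rw [hd, ha', ← hherm]
    exact hG0 j₀ i₀
  obtain ⟨e₀, he₀, he₀0, he₀σ⟩ : ∃ e₀ ∈ fixedField φ, e₀ ≠ 0 ∧ σ e₀ = d * e₀ := by
    by_cases hex : ∃ x ∈ fixedField φ, x + σ x / d ≠ 0
    · obtain ⟨x, hx, hne⟩ := hex
      refine ⟨_, add_mem hx (div_mem (hσpres x hx) hdmem), hne, ?_⟩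
      have hsa : σ a ≠ 0 := fun h => ha (σ.injective (by rw [map_zero]; exact h))
      rw [map_add, map_div₀, hσ, fr_fr hF, hd, map_div₀, ← hσ, show σ (σ a) = a from fr_fr hF a]
      field_simp
      ring
    push Not at hex
    have hd1 : d = -1 := by
      have h1 := hex 1 (one_mem _)
      rw [map_one] at h1
      field_simp at h1
      linear_combination h1
    by_cases h2 : (2 : F) = 0
    · refine ⟨1, one_mem _, one_ne_zero, ?_⟩
      rw [map_one, mul_one, hd1]
      linear_combination h2
    exfalso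
    have hid : ∀ x ∈ fixedField φ, σ x = x := fun x hx => by
      have h1 := hex x hx
      rw [hd1] at h1
      linear_combination -h1
    refine hGdet ?_
    have hskew : ∀ i j, G j i / a = -(G i j / a) := by
      intro i j
      have h1 := hid _ (hG0 i j)
      rw [map_div₀, ← hherm] at h1
      have h3 : σ a = -a := by
        have := hd1
        rw [hd, div_eq_iff ha] at this
        linear_combination this
      rw [h3, div_neg] at h1
      linear_combination -h1
    refine det_eq_zero_of_alternating (by rw [Fintype.card_fin]; exact hodd) (fun i => ?_) (fun i j => ?_)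
    · have h1 := hskew i i
      have h3 : (2 : F) * (G i i / a) = 0 := by linear_combination h1
      simpa [ha, h2] using h3
    · have h1 := hskew i j
      field_simp at h1
      exact h1
  set ν := e₀ / a with hν
  have hνfix : ν ^ q = ν := by
    rw [← fr_apply hF, ← hσ, hν, map_div₀, he₀σ, hd]
    have hsa : σ a ≠ 0 := fun h => ha (σ.injective (by rw [map_zero]; exact h))
    field_simp
  obtain ⟨l, hl⟩ := OrthUnitaryHerm.exists_norm_eq hF hνfix
  have hl0 : l ≠ 0 := by
    rintro rfl
    rw [zero_pow (Nat.succ_ne_zero q)] at hl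
    exact div_ne_zero he₀0 ha hl.symm
  let z : GL (Fin n) F := Units.map (Matrix.scalar (Fin n) : F →+* Matrix (Fin n) (Fin n) F).toMonoidHom
    (Units.mk0 l hl0)
  have hz : z ∈ scalars (Fin n) F := ⟨_, rfl⟩
  set P : GL (Fin n) F := B⁻¹ * z with hP
  have hPv : ∀ u, (P : Matrix (Fin n) (Fin n) F) *ᵥ u = l • (Q *ᵥ u) := by
    intro u
    rw [hP, Units.val_mul, ← hQ, show (z : Matrix (Fin n) (Fin n) F) = l • 1 by
      simp [z, Matrix.scalar_apply, Matrix.smul_one_eq_diagonal], Matrix.mul_smul, mul_one,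
      Matrix.smul_mulVec]
  have hval : ∀ u v, hermForm n F q ((P : Matrix (Fin n) (Fin n) F) *ᵥ u) ((P : Matrix (Fin n) (Fin n) F) *ᵥ v)
      = u ⬝ᵥ ((ν • G) *ᵥ fun i => σ (v i)) := by
    intro u v
    rw [hPv, hPv, OrthUnitaryHerm.herm_smul_left, OrthUnitaryHerm.herm_smul_right, ← mul_assoc, ← pow_succ', hl,
      (sesq_of_unitary (herm_unitary hF)).transform, gram_herm hF, mul_one, ← hG, Matrix.smul_mulVec,
      dotProduct_smul, smul_eq_mul]
  have hνG : ∀ i j, ν * G i j ∈ fixedField φ := fun i j => by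
    rw [show ν * G i j = e₀ * (G i j / a) by rw [hν]; ring]
    exact mul_mem he₀ (hG0 i j)
  have hrat : IsFormRationalStructure (hermForm n F q) (fixedField φ) 1 P := by
    intro u v hu hv
    rw [one_mul, hval]
    simp only [dotProduct, Matrix.mulVec, Matrix.smul_apply, smul_eq_mul]
    refine sum_mem fun i _ => mul_mem (hu i) (sum_mem fun j _ => mul_mem ?_ (hσpres _ (hv j)))
    exact hνG i j
  have hsub : H ≤ subfieldSubgroup (fixedField φ) P := by
    intro h hh
    obtain ⟨g, hg, hgh⟩ := le_subfieldSubgroup hS hSn hfix hh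
    refine ⟨g, hg, ?_⟩
    rw [← hgh]
    simp only [MulEquiv.coe_toMonoidHom, MulAut.conj_apply, hP]
    calc B⁻¹ * z * g * (B⁻¹ * z)⁻¹ = B⁻¹ * (z * g) * z⁻¹ * B := by group
      _ = B⁻¹ * g * B⁻¹⁻¹ := by rw [scalar_comm hz g]; group
  refine ⟨P, hsub, hrat, ?_⟩
  rcases hr.eq_two_or_odd' with rfl | hro
  · right
    refine ⟨rfl, ?_⟩
    by_contra hq
    have hcardF₀ : Nat.card (fixedField φ) = q := by
      rw [hF] at hcard
      exact (Nat.pow_left_injective two_ne_zero hcard).symm
    obtain ⟨p, f, hpp, hpc, hf, hqp⟩ := OrthUnitaryHerm.exists_prime_pow hF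
    have hp2 : p = 2 := by
      by_contra hne
      exact hq (hqp ▸ (hpp.odd_of_ne_two hne).pow)
    subst hp2
    haveI : Fact (Nat.Prime 2) := ⟨hpp⟩
    have hid : ∀ x ∈ fixedField φ, σ x = x := by
      intro x hx
      have h1 := FiniteField.pow_card (K := fixedField φ) ⟨x, hx⟩
      rw [← Nat.card_eq_fintype_card, hcardF₀] at h1
      exact congrArg Subtype.val h1
    set G' : Matrix (Fin n) (Fin n) F := ν • G with hG'
    have hsymm : ∀ i j, G' j i = G' i j := by
      intro i j
      have h1 := hid _ (hνG i j)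
      rw [map_mul, ← hherm, show σ ν = ν from hνfix] at h1
      exact h1
    have hG'det : G'.det ≠ 0 := by
      rw [hG', Matrix.det_smul]
      exact mul_ne_zero (pow_ne_zero _ (div_ne_zero he₀0 ha)) hGdet
    obtain ⟨k₀, hk₀⟩ : ∃ k, G' k k ≠ 0 := by
      by_contra hall
      push Not at hall
      exact hG'det (det_eq_zero_of_alternating (by rw [Fintype.card_fin]; exact hodd) hall
        fun i j => by rw [hsymm, CharTwo.neg_eq])
    choose rt hrt using fun k => FiniteField.isSquare_of_char_two (ringChar.eq F 2 |>.symm ▸ rfl : ringChar F = 2) (G' k k)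
    let L : (Fin n → F) →ₗ[F] F := ∑ k, rt k • LinearMap.proj k
    have hL : ∀ v, L v * L v = v ⬝ᵥ (G' *ᵥ v) := by
      intro v
      have h1 : ∀ A : Matrix (Fin n) (Fin n) F, (∀ i j, A j i = A i j) →
          v ⬝ᵥ (A *ᵥ v) = ∑ k, A k k * v k * v k := by
        intro A hA
        simp only [dotProduct, Matrix.mulVec, Finset.mul_sum]
        rw [← Fintype.sum_prod_type' (fun i j => v i * (A i j * v j))]
        rw [← Finset.sum_filter_add_sum_filter_not Finset.univ (fun x : Fin n × Fin n => x.1 = x.2)]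
        have hz0 : ∑ x ∈ Finset.univ.filter (fun x : Fin n × Fin n => ¬ x.1 = x.2),
            v x.1 * (A x.1 x.2 * v x.2) = 0 := by
          refine Finset.sum_involution (fun x _ => (x.2, x.1)) ?_ ?_ ?_ ?_
          · intro x _
            simp only
            rw [hA x.1 x.2]
            linear_combination (v x.1 * v x.2 * A x.1 x.2) * (CharTwo.two_eq_zero (R := F))
          · intro x hx _ hfix'
            simp only [Finset.mem_filter] at hx
            exact hx.2 (congrArg Prod.snd hfix')
          · intro x hx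
            simp only [Finset.mem_filter, Finset.mem_univ, true_and] at hx ⊢
            exact fun h => hx h.symm
          · intro x _; rfl
        rw [hz0, add_zero]
        refine Finset.sum_nbij' (fun x => x.1) (fun k => (k, k)) ?_ ?_ ?_ ?_ ?_
        · simp
        · simp
        · rintro ⟨x, y⟩ hx; simp at hx; simp [hx]
        · simp
        · rintro ⟨x, y⟩ hx
          simp at hx
          subst hx
          ring
      rw [h1 G' hsymm]
      have h3 : L v = ∑ k, rt k * v k := by simp [L]
      rw [h3, CharTwo.sum_mul_self]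
      exact Finset.sum_congr rfl fun k _ => by rw [hrt k]; ring
    have hinvW : Inv S ((LinearMap.ker L).map (Matrix.toLin' Q)) := by
      rintro s hs _ ⟨w, hw, rfl⟩
      set s' := ((B * s * B⁻¹ : GL (Fin n) F) : Matrix (Fin n) (Fin n) F) with hs'
      refine ⟨s' *ᵥ w, ?_, ?_⟩
      · have hw' : L w = 0 := hw
        show L (s' *ᵥ w) = 0
        apply mul_self_eq_zero.1
        rw [hL]
        have hs'σ : s'.map σ = s' := Matrix.ext fun i j => hid _ (hfix s hs i j)
        have h4 := hinvG s hs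
        rw [← hs', hs'σ] at h4
        rw [dotProduct_comm, Matrix.mulVec_mulVec, Matrix.dotProduct_mulVec, ← Matrix.mulVec_transpose,
          Matrix.mulVec_mulVec, dotProduct_comm]
        rw [show s'ᵀ * (G' * s') = G' by rw [hG', Matrix.smul_mul, Matrix.mul_smul, ← mul_assoc, h4],
          ← hL, hw', mul_zero]
      · rw [Matrix.toLin'_apply, Matrix.toLin'_apply, Matrix.mulVec_mulVec, Matrix.mulVec_mulVec, hs', hconj,
          ← mul_assoc, ← mul_assoc, hQB, one_mul]
    have hQinj : Function.Injective (Matrix.toLin' Q) := by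
      intro x y hxy
      rw [Matrix.toLin'_apply, Matrix.toLin'_apply] at hxy
      have := congrArg (fun w => Bm *ᵥ w) hxy
      simpa [Matrix.mulVec_mulVec, hBQ] using this
    rcases hS.irred _ hinvW with h | h
    · obtain ⟨v, hv, hv0⟩ := (Submodule.ne_bot_iff _).1 (L.ker_ne_bot_of_finrank_lt (by simp; omega))
      exact hv0 (hQinj (by rw [map_zero]; exact (Submodule.eq_bot_iff _).1 h _ ⟨v, hv, rfl⟩))
    · have hk : LinearMap.ker L = ⊤ :=
        Submodule.map_injective_of_injective hQinj (show _ = Submodule.map (Matrix.toLin' Q) ⊤ by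
          rw [h, Submodule.map_top, LinearMap.range_eq_top.2]
          exact fun y => ⟨Bm *ᵥ y, by rw [Matrix.toLin'_apply, Matrix.mulVec_mulVec, hQB, Matrix.one_mulVec]⟩)
      have h5 : L (Pi.single k₀ 1) = 0 := by
        rw [← LinearMap.mem_ker, hk]; trivial
      apply hk₀
      have h6 := hL (Pi.single k₀ 1)
      rw [h5, mul_zero] at h6
      simpa [Matrix.mulVec_single_one] using h6.symm
  · exact Or.inl hro

/-- an absolutely irreducible group intertwined with its conjugate is realisable over the fixed field -/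
lemma realisable_of_twisted (hF : Fintype.card F = q ^ 2) {κ : Type} [Fintype κ] [DecidableEq κ] [Nonempty κ]
    {S : Subgroup (GL κ F)} (hS : AbsIrred S) {T : Matrix κ κ F} (hT : IsUnit T.det)
    (hkey : ∀ s ∈ S, (s : Matrix κ κ F) * T = T * (s : Matrix κ κ F).map (fr hF)) :
    RealisableOver (fixedField (fr hF)) (matrixSet S) := by
  classical
  set σ := fr hF with hσ
  have hσσ : ∀ A : Matrix κ κ F, (A.map σ).map σ = A := fun A => by
    ext i j; exact fr_fr hF _
  obtain ⟨c, hc⟩ := hS.commutant (M := T * (T).map σ) fun s hs => by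
    have h1 := hkey s hs
    have h2 : (s : Matrix (κ) (κ) F).map σ * (T).map σ =
        (T).map σ * (s : Matrix (κ) (κ) F) := by
      rw [← map_mul_map, h1, map_mul_map, hσσ]
    rw [mul_assoc, ← h2, ← mul_assoc, ← h1, mul_assoc]
  have hMσ : IsUnit ((T).map σ).det := by
    rw [show (T).map σ = (σ : F →+* F).mapMatrix T from rfl, ← RingHom.map_det]
    exact hT.map _
  have hc0 : c ≠ 0 := by
    rintro rfl
    have h := congrArg Matrix.det hc
    rw [zero_smul, Matrix.det_mul, Matrix.det_zero] at h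
    exact mul_ne_zero hT.ne_zero hMσ.ne_zero h
  have hcq : c ^ q = c := by
    have h1 : (T).map σ * T = σ c • (1 : Matrix (κ) (κ) F) := by
      have := congrArg (fun A => A.map σ) hc
      simp only [map_mul_map, hσσ] at this
      rw [this]
      ext i j
      by_cases hij : i = j <;> simp [hij]
    have h2 : T * ((T).map σ * T) = (T * (T).map σ) * T := (mul_assoc _ _ _).symm
    rw [h1, hc, Matrix.mul_smul, Matrix.smul_mul, mul_one, one_mul] at h2
    have h3 : (σ c - c) • T = 0 := by rw [sub_smul, h2, sub_self]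
    rcases smul_eq_zero.1 h3 with h4 | h4
    · exact sub_eq_zero.1 h4
    · exfalso
      have := hT.ne_zero
      rw [h4, Matrix.det_zero] at this
      exact this rfl
  obtain ⟨l, hl⟩ := OrthUnitaryHerm.exists_norm_eq hF (a := c⁻¹) (by rw [inv_pow, hcq])
  set A : Matrix (κ) (κ) F := l • T with hA
  have hAA : A * A.map σ = 1 := by
    rw [hA, show (l • T).map σ = σ l • (T).map σ from Matrix.ext fun i j => map_mul σ l _,
      Matrix.smul_mul, Matrix.mul_smul, smul_smul, hc, smul_smul, hσ, fr_apply, ← pow_succ', hl,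
      inv_mul_cancel₀ hc0, one_smul]
  have hAs : ∀ s ∈ S, (s : Matrix (κ) (κ) F) * A = A * (s : Matrix (κ) (κ) F).map σ := by
    intro s hs
    rw [hA, Matrix.mul_smul, Matrix.smul_mul, hkey s hs]
  -- fixed vectors of the semilinear involution span
  let J : (κ → F) → (κ → F) := fun v => A *ᵥ fun i => σ (v i)
  have hJJ : ∀ v, J (J v) = v := by
    intro v
    have h1 : (fun i => σ ((A *ᵥ fun i => σ (v i)) i)) = A.map σ *ᵥ v := by
      funext i
      refine (RingHom.map_mulVec (σ : F →+* F) A _ i).trans ?_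
      congr 1
      funext j
      exact fr_fr hF _
    show A *ᵥ _ = v
    rw [h1, Matrix.mulVec_mulVec, hAA, Matrix.one_mulVec]
  have hJadd : ∀ u v, J (u + v) = J u + J v := fun u v => by
    show A *ᵥ _ = _
    rw [← Matrix.mulVec_add]
    congr 1
    funext i
    exact map_add σ _ _
  have hJsmul : ∀ (a : F) v, J (a • v) = σ a • J v := fun a v => by
    show A *ᵥ _ = _
    rw [← Matrix.mulVec_smul]
    congr 1
    funext i
    exact map_mul σ _ _
  set Fix : Set (κ → F) := {v | J v = v} with hFix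
  obtain ⟨w, hw⟩ : ∃ w : F, σ w ≠ w := by
    by_contra hall
    push Not at hall
    exact (herm_unitary (n := 1) hF).ne_refl (RingEquiv.ext hall)
  have hspan : ⊤ ≤ Submodule.span F Fix := by
    intro v _
    have h1 : v + J v ∈ Fix := by
      show J _ = _
      rw [hJadd, hJJ, add_comm]
    have h2 : w • v + σ w • J v ∈ Fix := by
      show J _ = _
      rw [hJadd, hJsmul, hJsmul, hJJ, hσ, fr_fr hF, add_comm]
    have h3 : v = (w - σ w)⁻¹ • ((w • v + σ w • J v) - σ w • (v + J v)) := by
      rw [smul_add, add_sub_add_right_eq_sub, ← sub_smul, smul_smul,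
        inv_mul_cancel₀ (sub_ne_zero.2 (Ne.symm hw)), one_smul]
    rw [h3]
    exact Submodule.smul_mem _ _ (Submodule.sub_mem _ (Submodule.subset_span h2)
      (Submodule.smul_mem _ _ (Submodule.subset_span h1)))
  let bs₀ := Module.Basis.ofSpan hspan
  let bs := bs₀.reindex (bs₀.indexEquiv (Pi.basisFun F (κ)))
  have hbfix : ∀ i, J (bs i) = bs i := fun i => by
    rw [Module.Basis.reindex_apply]
    exact Module.Basis.ofSpan_subset hspan ⟨_, rfl⟩
  let Pm : Matrix (κ) (κ) F := Matrix.of fun r i => bs i r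
  have hPdet : Pm.det ≠ 0 := by
    have h1 : IsUnit Pm := Matrix.linearIndependent_cols_iff_isUnit.1 bs.linearIndependent
    exact ((Matrix.isUnit_iff_isUnit_det _).1 h1).ne_zero
  let P : GL (κ) F := Matrix.GeneralLinearGroup.mkOfDetNeZero Pm hPdet
  have hAP : A * Pm.map σ = Pm := by
    ext r i
    have := congrFun (hbfix i) r
    simpa [J, Pm, Matrix.mul_apply, Matrix.mulVec, dotProduct] using this
  refine ⟨P⁻¹, ?_⟩
  rintro _ ⟨s, hs, rfl⟩ i j
  rw [mem_fixedField, inv_inv]
  set X := ((P⁻¹ : GL (κ) F) : Matrix (κ) (κ) F) * (s : Matrix (κ) (κ) F) *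
    (P : Matrix (κ) (κ) F) with hX
  have hPm : (P : Matrix (κ) (κ) F) = Pm := rfl
  have h1 : (Pm.map σ) * X.map σ = Pm.map σ * X := by
    have e1 : Pm * X = (s : Matrix (κ) (κ) F) * Pm := by
      rw [hX, ← hPm, ← mul_assoc, ← mul_assoc, ← Units.val_mul, mul_inv_cancel, Units.val_one, one_mul]
    have e2 : A * (Pm.map σ * X.map σ) = A * (Pm.map σ * X) := by
      rw [← map_mul_map, e1, map_mul_map, ← mul_assoc, ← hAs s hs, mul_assoc, hAP, ← mul_assoc, hAP, e1]
    have hAu : IsUnit A.det := (IsUnit.of_mul_eq_one _ (by rw [← Matrix.det_mul, hAA, Matrix.det_one]))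
    have := congrArg (A⁻¹ * ·) e2
    simpa only [Matrix.nonsing_inv_mul_cancel_left _ _ hAu] using this
  have h2 : X.map σ = X := by
    have hu : IsUnit (Pm.map σ).det := Matrix.isUnits_det_units (glMap σ P)
    have := congrArg ((Pm.map σ)⁻¹ * ·) h1
    simpa only [Matrix.nonsing_inv_mul_cancel_left _ _ hu] using this
  exact congrFun (congrFun h2 i) j

/-- an absolutely irreducible isometry group fixing a quadratic form is realisable over the fixed field -/
lemma realisable_of_quad (hF : Fintype.card F = q ^ 2) (hn : 2 ≤ n) {S : Subgroup (GL (Fin n) F)}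
    (hS : AbsIrred S) (hSGU : S ≤ Cfsg.GU n F q) {Q : (Fin n → F) → F} (hQ : IsNondegenerateQuadraticForm Q)
    (hfix : FixesQuadForm (matrixSet S) Q) : RealisableOver (fixedField (fr hF)) (matrixSet S) := by
  classical
  haveI : Nonempty (Fin n) := ⟨⟨0, by omega⟩⟩
  set σ := fr hF with hσ
  set M := gramMatrix (QuadraticMap.polar Q) with hM
  have hses := sesq_of_bilinear hQ.polar_bilinear
  have hMd : IsUnit M.det := isUnit_iff_ne_zero.2 (hses.det_ne_zero hQ.nondegenerate)
  have hσσ : ∀ A : Matrix (Fin n) (Fin n) F, (A.map σ).map σ = A := fun A => by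
    ext i j; exact fr_fr hF _
  have hs1 : ∀ s ∈ S, (s : Matrix (Fin n) (Fin n) F)ᵀ * M * (s : Matrix (Fin n) (Fin n) F) = M := by
    intro s hs
    have := (hses.similar_iff (s : Matrix (Fin n) (Fin n) F) 1).1 fun u v => by
      simpa using polar_fix (fun u v => Matrix.mulVec_add _ u v) 1
        (fun v => by rw [hfix _ ⟨s, hs, rfl⟩, one_mul]) u v
    simpa [← hM] using this
  have hkey : ∀ s ∈ S, (s : Matrix (Fin n) (Fin n) F) * M⁻¹ = M⁻¹ * (s : Matrix (Fin n) (Fin n) F).map σ := by
    intro s hs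
    have h1 := iso_matrix hF (hSGU hs)
    have h2 : (s : Matrix (Fin n) (Fin n) F).map σ = M * (s : Matrix (Fin n) (Fin n) F) * M⁻¹ := by
      have h3 : IsUnit ((s : Matrix (Fin n) (Fin n) F)ᵀ).det := by
        rw [Matrix.det_transpose]; exact Matrix.isUnits_det_units s
      have h4 : (s : Matrix (Fin n) (Fin n) F)ᵀ * ((s : Matrix (Fin n) (Fin n) F).map σ) =
          (s : Matrix (Fin n) (Fin n) F)ᵀ * (M * (s : Matrix (Fin n) (Fin n) F) * M⁻¹) := by
        rw [h1, ← mul_assoc, ← mul_assoc, hs1 s hs, Matrix.mul_nonsing_inv _ hMd]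
      have h5 := congrArg (((s : Matrix (Fin n) (Fin n) F)ᵀ)⁻¹ * ·) h4
      simpa only [Matrix.nonsing_inv_mul_cancel_left _ _ h3] using h5
    rw [h2, ← mul_assoc, ← mul_assoc, Matrix.nonsing_inv_mul _ hMd, one_mul]
  exact realisable_of_twisted hF hS (Matrix.isUnit_nonsing_inv_det M hMd) hkey

lemma fixed_fr_ne_top (hF : Fintype.card F = q ^ 2) : fixedField (fr hF) ≠ ⊤ := by
  intro h
  refine (herm_unitary (n := 1) hF).ne_refl (RingEquiv.ext fun x => ?_)
  have : x ∈ fixedField (fr hF) := h ▸ Subfield.mem_top x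
  exact this

/-- every maximal subgroup of SU of odd prime degree at least 5 is geometric or residual -/
theorem unitary_cases (hn : n.Prime) (h5 : 5 ≤ n) (hF : Fintype.card F = q ^ 2)
    {H : Subgroup (GL (Fin n) F)} (hH : IsMaximalIn (suGL n F q) H) :
    (∃ W : Submodule F (Fin n → F), W ≠ ⊥ ∧ IsTotallySingularFor (hermForm n F q) W ∧
      H = subspaceStabilizer W ⊓ suGL n F q) ∨
    (∃ W : Submodule F (Fin n → F), W ≠ ⊥ ∧ IsNondegenerateOn (hermForm n F q) W ∧
      2 * Module.finrank F W < n ∧ H = subspaceStabilizer W ⊓ suGL n F q) ∨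
    (∃ D : Fin n → Submodule F (Fin n → F), IsNondegenerateMDecomposition (hermForm n F q) 1 D ∧
      H = decompositionStabilizer D ⊓ suGL n F q) ∨
    (∃ K : Subalgebra F (Matrix (Fin n) (Fin n) F), IsFieldSubalgebra n K ∧
      IsAdjointClosedFor (hermForm n F q) K ∧ H = subalgebraNormalizer K ⊓ suGL n F q) ∨
    (∃ (F₀ : Subfield F) (r : ℕ) (P : GL (Fin n) F), r.Prime ∧ Odd r ∧ Fintype.card F = Nat.card F₀ ^ r ∧
      IsFormRationalStructure (hermForm n F q) F₀ 1 P ∧ H = subfieldSubgroup F₀ P ⊓ suGL n F q) ∨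
    (Odd q ∧ ∃ (F₀ : Subfield F) (P : GL (Fin n) F), Fintype.card F = Nat.card F₀ ^ 2 ∧
      IsFormRationalStructure (hermForm n F q) F₀ 1 P ∧ H = subfieldSubgroup F₀ P ⊓ suGL n F q) ∨
    (∃ (p m : ℕ) (R : Subgroup (GL (Fin n) F)), p.Prime ∧ CharP F p ∧ q = p ^ m ∧ 0 < m ∧
      n ∣ q + 1 ∧ 2 * m ∣ n - 1 ∧ (∀ d, 0 < d → d < 2 * m → ¬ n ∣ p ^ d - 1) ∧
      IsSymplecticTypeGroup n R ∧ ActsAbsolutelyIrreducibly (matrixSet R) ∧ R ≤ Cfsg.GU n F q ∧
      Nat.card R = n ^ 3 ∧ Nat.card (Subgroup.center R) = n ∧ H = subgroupNormalizer R ⊓ suGL n F q) ∨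
    InUnitaryResidualClass H := by
  classical
  have : Nonempty (Fin n) := ⟨⟨0, by omega⟩⟩
  have hodd : Odd n := hn.odd_of_ne_two (by omega)
  have hnι : (Fintype.card (Fin n)).Prime := by rw [Fintype.card_fin]; exact hn
  have hoddι : Odd (Fintype.card (Fin n)) := by rw [Fintype.card_fin]; exact hodd
  have hGU : H ≤ Cfsg.GU n F q := hH.1.le.trans inf_le_left
  have hsl : H ≤ specialLinear (Fin n) F := hH.1.le.trans inf_le_right
  have hq2 := OrthUnitaryHerm.two_le_q hF
  by_cases hirr : ¬ Irred H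
  · unfold Irred at hirr
    push Not at hirr
    obtain ⟨W, hW, hb, ht⟩ := hirr
    have hWp : Inv H (perp hF W) := by
      intro g hg v hv w hw
      have h1 := hW g⁻¹ (H.inv_mem hg) w hw
      have h2 := hGU hg v (((g⁻¹ : GL (Fin n) F) : Matrix (Fin n) (Fin n) F) *ᵥ w)
      simp only [Units.coeHom_apply, mulVec_inv_mulVec] at h2
      rw [h2]
      exact hv _ h1
    by_cases hU : W ⊓ perp hF W = ⊥
    · right; left
      have hnd : ∀ U : Submodule F (Fin n → F), (∀ u ∈ U, (∀ x ∈ U, hermForm n F q u x = 0) → u = 0) →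
          IsNondegenerateOn (hermForm n F q) U := by
        intro U h w hw hw0
        obtain ⟨x, hx, hne⟩ : ∃ x ∈ U, hermForm n F q w x ≠ 0 := by
          by_contra hall
          push Not at hall
          exact hw0 (h w hw hall)
        refine ⟨⟨x, hx, fun h0 => hne ?_⟩, x, hx, hne⟩
        rw [OrthUnitaryHerm.herm_conj hF x w, h0, OrthUnitaryHerm.zero_pow_q hF]
      have hWnd : IsNondegenerateOn (hermForm n F q) W := hnd W fun u hu h =>
        (Submodule.eq_bot_iff _).1 hU u ⟨hu, h⟩
      -- dimension of the orthogonal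
      let bW := Module.finBasis F W
      let L : (Fin n → F) →ₗ[F] (Fin (Module.finrank F W) → F) :=
        LinearMap.pi fun k => hL (q := q) (bW k : Fin n → F)
      have hker : LinearMap.ker L ≤ perp hF W := by
        intro v hv w hw
        have hv' : ∀ k, hermForm n F q v (bW k : Fin n → F) = 0 := fun k => congrFun hv k
        have hmem : (⟨w, hw⟩ : W) ∈ Submodule.span F (Set.range bW) := bW.mem_span _
        have key : ∀ x ∈ Submodule.span F (Set.range bW), hermForm n F q v (x : Fin n → F) = 0 := by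
          intro x hx
          induction hx using Submodule.span_induction with
          | mem x hx => obtain ⟨k, rfl⟩ := hx; exact hv' k
          | zero => simp [hermForm, OrthUnitaryHerm.zero_pow_q hF]
          | add y z _ _ hy hz => rw [Submodule.coe_add, OrthUnitaryHerm.herm_add_right hF, hy, hz, add_zero]
          | smul c y _ hy => rw [Submodule.coe_smul, OrthUnitaryHerm.herm_smul_right, hy, mul_zero]
        exact key _ hmem
      have hdim : n ≤ Module.finrank F W + Module.finrank F (perp hF W) := by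
        have h1 := LinearMap.finrank_range_add_finrank_ker L
        have h2 : Module.finrank F (LinearMap.range L) ≤ Module.finrank F W :=
          (Submodule.finrank_le _).trans (by simp)
        have h3 := Submodule.finrank_mono hker
        rw [Module.finrank_pi, Fintype.card_fin] at h1
        omega
      have hsum := Submodule.finrank_sup_add_finrank_inf_eq W (perp hF W)
      rw [hU, finrank_bot, add_zero] at hsum
      have htop : W ⊔ perp hF W = ⊤ := by
        apply Submodule.eq_top_of_finrank_eq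
        have := Submodule.finrank_le (W ⊔ perp hF W)
        rw [Module.finrank_pi, Fintype.card_fin] at this ⊢
        omega
      have hsz : Module.finrank F W + Module.finrank F (perp hF W) = n := by
        rw [← hsum, htop, finrank_top, Module.finrank_pi, Fintype.card_fin]
      by_cases h2 : 2 * Module.finrank F W < n
      · exact ⟨W, hb, hWnd, h2, eq_of_maximal hH ((inv_iff_le_stabilizer _ _).1 hW)
          (su_not_le_subspaceStabilizer hF (by omega) hb ht)⟩
      have hpb : perp hF W ≠ ⊥ := fun h => ht (by rwa [h, sup_bot_eq] at htop)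
      refine ⟨perp hF W, hpb, hnd _ fun u hu h => ?_, ?_, eq_of_maximal hH ((inv_iff_le_stabilizer _ _).1 hWp)
        (su_not_le_subspaceStabilizer hF (by omega) hpb fun h => ?_)⟩
      · refine OrthUnitaryHerm.eq_zero_of_herm_eq_zero hF fun x => ?_
        obtain ⟨w, hw, w', hw', rfl⟩ := Submodule.mem_sup.1 (show x ∈ W ⊔ perp hF W by rw [htop]; trivial)
        rw [OrthUnitaryHerm.herm_add_right hF, hu w hw, h w' hw', add_zero]
      · rcases Nat.lt_or_gt_of_ne (fun h : 2 * Module.finrank F W = n => Nat.not_even_iff_odd.2 hodd ⟨_, h ▸ two_mul _⟩)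
          with h' | h'
        · exact absurd h' h2
        · omega
      · rw [h, inf_top_eq] at hU
        exact hb hU
    · left
      refine ⟨W ⊓ perp hF W, hU, fun u hu v hv => hu.2 v hv.1, eq_of_maximal hH
        ((inv_iff_le_stabilizer _ _).1 fun g hg x hx => ⟨hW g hg x hx.1, hWp g hg x hx.2⟩)
        (su_not_le_subspaceStabilizer hF (by omega) hU fun h => ht (eq_top_iff.2 (h ▸ inf_le_left)))⟩
  push Not at hirr
  refine Or.inr (Or.inr ?_)
  -- imprimitive or field
  by_cases hp : Prim H
  swap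
  · unfold Prim at hp
    push Not at hp
    obtain ⟨N, hNle, hNn, hNc, hNs⟩ := hp
    rcases alternative hnι hirr hNn with h | h | ⟨-, h⟩
    · exact absurd h hNs
    · exact absurd (fun x hx => h.scalar_of_comm fun y hy => hNc x hx y hy) hNs
    · rcases h with ⟨D, hD, hle, χ, hχ, hDe⟩ | ⟨K, hK, hle, hKN, -⟩
      · left
        have hnd := lines_orthogonal hF hodd hGU hirr hNle (Fintype.card_fin n) hD hle hχ hDe
        have e := (Fintype.card_fin n).symm
        refine ⟨D ∘ Fin.cast e, ⟨AschPrimeLinear.isMDecomposition_cast e hD, fun i => hnd.nondegenerate _,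
          fun i j hij => hnd.orthogonal _ _ fun h => hij (Fin.cast_injective _ h)⟩, ?_⟩
        rw [AschPrimeLinear.decompositionStabilizer_cast]
        exact eq_of_maximal hH hle (su_not_le_lines hF (by omega) hD)
      · right; left
        rw [Fintype.card_fin] at hK
        refine ⟨K, hK, ?_, eq_of_maximal hH hle (su_not_le_subalgebraNormalizer hF (by omega) (by omega) hK)⟩
        rw [hKN]
        exact commutant_adjointClosed hF (hNle.trans hGU)
  refine Or.inr (Or.inr ?_)
  have subCase : ∀ (S : Subgroup (GL (Fin n) F)), AbsIrred S → NormalBy H S → S ≤ H →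
      ∀ (φ : F ≃+* F) (r : ℕ) (B : GL (Fin n) F), r.Prime → Fintype.card F = Nat.card (fixedField φ) ^ r →
      (∀ s ∈ S, ∀ i j, φ (((B * s * B⁻¹ : GL (Fin n) F) : Matrix (Fin n) (Fin n) F) i j) =
        ((B * s * B⁻¹ : GL (Fin n) F) : Matrix (Fin n) (Fin n) F) i j) →
      (∃ (F₀ : Subfield F) (r : ℕ) (P : GL (Fin n) F), r.Prime ∧ Odd r ∧ Fintype.card F = Nat.card F₀ ^ r ∧
        IsFormRationalStructure (hermForm n F q) F₀ 1 P ∧ H = subfieldSubgroup F₀ P ⊓ suGL n F q) ∨
      (Odd q ∧ ∃ (F₀ : Subfield F) (P : GL (Fin n) F), Fintype.card F = Nat.card F₀ ^ 2 ∧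
        IsFormRationalStructure (hermForm n F q) F₀ 1 P ∧ H = subfieldSubgroup F₀ P ⊓ suGL n F q) := by
    intro S hS hSn hSH φ r B hr hcard hfix
    obtain ⟨P, hle, hrat, hcase⟩ := rational_structure hF (by omega) hodd hS hSn (hSH.trans hGU) hr hcard hfix
    have heq := eq_of_maximal hH hle (su_not_le_subfieldSubgroup hF (by omega) (card_eq_pow_ne_top hr hcard) P)
    rcases hcase with h | ⟨rfl, hq⟩
    · exact Or.inl ⟨_, r, P, hr, h, hcard, hrat, heq⟩
    · exact Or.inr ⟨hq, _, P, hcard, hrat, heq⟩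
  rcases structure_theorem hnι hoddι hsl hirr hp with ⟨R, ζ, B, hR⟩ | ⟨P, hP⟩
  · obtain ⟨p, m, hpp, hpc, hm, hqp⟩ := OrthUnitaryHerm.exists_prime_pow hF
    haveI := Fact.mk hpp
    have hcard : Fintype.card F = p ^ (2 * m) := by rw [hF, hqp, ← pow_mul, mul_comm]
    have hprimζ := hR.extra.prim
    have hRD : Data R := ⟨hnι, hoddι, hR.le.trans hsl, hR.absIrred, hR.comm⟩
    have hq' : n ∣ p ^ (2 * m) - 1 := by
      rw [← hcard]
      simpa using hprimζ.dvd_of_pow_eq_one _
        (FiniteField.pow_card_sub_one_eq_one _ (hprimζ.ne_zero hnι.ne_zero))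
    by_cases hmin : ∃ d, 0 < d ∧ d < 2 * m ∧ n ∣ p ^ d - 1
    · obtain ⟨d, hd0, hde, hdd⟩ := hmin
      set g := Nat.gcd d (2 * m) with hg
      have hgd : n ∣ p ^ g - 1 := by
        rw [hg, ← Nat.pow_sub_one_gcd_pow_sub_one]
        exact Nat.dvd_gcd hdd hq'
      have hge : g < 2 * m := lt_of_le_of_lt (Nat.le_of_dvd hd0 (Nat.gcd_dvd_left d _)) hde
      obtain ⟨φ, r, hr, hcardφ, hfix⟩ := exists_maximal_subfield (F := F) hcard (Nat.gcd_dvd_right d _) hge
      rcases subCase R hR.absIrred hR.normal hR.le φ r B⁻¹ hr hcardφ (fun s hs i j => by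
          apply hfix
          obtain ⟨π, a, ha, hM⟩ := hR.extra.mono s hs
          rw [inv_inv, hM]
          split_ifs
          · obtain ⟨k, hk⟩ := hgd
            have hpos : 1 ≤ p ^ g := Nat.one_le_pow _ _ hpp.pos
            have ha' := ha i
            rw [Fintype.card_fin] at ha'
            have ha'' := ha j
            rw [Fintype.card_fin] at ha''
            conv_lhs => rw [show p ^ g = n * k + 1 by omega, pow_add, pow_one, pow_mul]
            simp [ha'']
          · exact zero_pow (pow_ne_zero _ hpp.ne_zero)) with h | h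
      · exact Or.inl h
      · exact Or.inr (Or.inl h)
    push Not at hmin
    refine Or.inr (Or.inr (Or.inl ⟨p, m, R, hpp, hpc, hqp, hm, ?_, ?_, hmin, ?_, hR.absIrred,
      hR.le.trans hGU, ?_, ?_, eq_of_maximal hH ?_ (su_not_le_subgroupNormalizer hF (by omega) hRD)⟩))
    · -- a central element
      obtain ⟨⟨z, hzc⟩, hz1⟩ : ∃ z : Subgroup.center R, z ≠ 1 := by
        by_contra hall
        push Not at hall
        haveI : Subsingleton (Subgroup.center R) := ⟨fun a b => (hall a).trans (hall b).symm⟩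
        have := hR.extra.center_eq
        rw [Nat.card_unique, Fintype.card_fin] at this
        omega
      have hzs : (z : GL (Fin n) F) ∈ scalars (Fin n) F := by
        refine hR.absIrred.scalar_of_comm fun y hy => ?_
        exact congrArg Subtype.val ((Subgroup.mem_center_iff.1 hzc ⟨y, hy⟩).symm)
      obtain ⟨s, hs⟩ := (mem_scalars_iff _).1 hzs
      have hs1 : (s : F) ≠ 1 := fun h => hz1 (Subtype.ext (Subtype.ext (Units.ext (by rw [hs, h, one_smul]; rfl))))
      have hsn : (s : F) ^ n = 1 := by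
        have h1 := (mem_sl_iff _).1 (hsl (hR.le z.2))
        rw [hs, Matrix.det_smul, Matrix.det_one, mul_one, Fintype.card_fin] at h1
        exact h1
      have hsq : (s : F) ^ (q + 1) = 1 := by
        have h1 := iso_matrix hF (hGU (hR.le z.2))
        rw [hs] at h1
        have h2 := congrFun (congrFun h1 ⟨0, by omega⟩) ⟨0, by omega⟩
        simp at h2
        rw [pow_succ']
        exact h2
      haveI : Fact n.Prime := ⟨hn⟩
      rw [← orderOf_eq_prime hsn hs1]
      exact orderOf_dvd_of_pow_eq_one hsq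
    · exact AschPrimeLinear.exp_dvd hn hpp (by omega) hq' hmin
    · simpa using hR.symp
    · rw [hR.extra.card_eq, Fintype.card_fin]
    · rw [hR.extra.center_eq, Fintype.card_fin]
    · intro h hh
      refine Subgroup.mem_normalizer_iff.2 fun x => ⟨hR.normal h hh x, fun hx => ?_⟩
      simpa [mul_assoc] using hR.normal h⁻¹ (H.inv_mem hh) _ hx
  · by_cases hreal : ∃ F₀ : Subfield F, F₀ ≠ ⊤ ∧ RealisableOver F₀ (matrixSet P)
    · obtain ⟨F₀, hne, C, hC⟩ := hreal
      obtain ⟨φ, r, hr, hcard, hfix⟩ := exists_maximal_above hne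
      rcases subCase P hP.absIrred hP.normal hP.le φ r C hr hcard
        (fun s hs i j => hfix _ (by simpa using hC _ ⟨s, hs, rfl⟩ i j)) with h | h
      · exact Or.inl h
      · exact Or.inr (Or.inl h)
    push Not at hreal
    refine Or.inr (Or.inr (Or.inr ⟨P, ⟨hP.le, hP.normal, hP.perfect, hP.simple, hP.nonabelian,
      hP.centralizer_scalar, hP.absIrred, hreal⟩, ?_, fun ⟨f, hf, _⟩ => no_symplectic hoddι ⟨f, hf⟩⟩))
    rintro ⟨Q, hQ, hfix⟩
    exact hreal _ (fixed_fr_ne_top hF)
      (realisable_of_quad hF (by omega) hP.absIrred (hP.le.trans hGU) hQ hfix)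

end Cfsg.Agent.AschPrimeUnitary
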