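/-
Unitary forms on F^ι over a finite field (`Cfsg.Geo.IsUnitaryForm`): root elements x ↦ x + f(x,a)u,
isotropic vectors with prescribed inner products, used for maximality of geometric subgroups.
-/
import Mathlib
import Cfsg.Agent.Lib.TransvectionMax

set_option autoImplicit false
set_option linter.unusedSectionVars false

namespace Cfsg.Agent.TransvectionUnitary

open Cfsg.Agent.TransvectionMax
open scoped MatrixGroups Matrix

variable {ι : Type} [Fintype ι] [DecidableEq ι] {F : Type*} [Field F] [Fintype F]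
  {σ : F ≃+* F} {f : (ι → F) → (ι → F) → F}

omit [Fintype ι] [DecidableEq ι] in
/-- An element not fixed by σ. -/
lemma exists_not_fixed (hσ : σ ≠ RingEquiv.refl F) : ∃ a : F, σ a ≠ a := by
  by_contra! h
  exact hσ (RingEquiv.ext h)

variable (hf : Cfsg.Geo.IsUnitaryForm σ f)
include hf

lemma sigma_sigma (a : F) : σ (σ a) = a := hf.involutive a

lemma sigma_f (x y : ι → F) : σ (f x y) = f y x := (hf.herm y x).symm

lemma add_right (v x y : ι → F) : f v (x + y) = f v x + f v y := by
  rw [hf.herm, hf.add_left, map_add, sigma_f hf, sigma_f hf]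

lemma smul_right (c : F) (v x : ι → F) : f v (c • x) = σ c * f v x := by
  rw [hf.herm, hf.smul_left, map_mul, sigma_f hf]

/-- `x ↦ f x u` as a linear map. -/
def uLeft (u : ι → F) : (ι → F) →ₗ[F] F where
  toFun x := f x u
  map_add' x y := hf.add_left x y u
  map_smul' c x := hf.smul_left c x u

lemma zero_left (x : ι → F) : f 0 x = 0 := (uLeft hf x).map_zero

lemma zero_right (x : ι → F) : f x 0 = 0 := by rw [hf.herm, zero_left hf, map_zero]

lemma neg_left (x y : ι → F) : f (-x) y = - f x y := (uLeft hf y).map_neg x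

lemma neg_right (x y : ι → F) : f x (-y) = - f x y := by rw [hf.herm, neg_left hf, map_neg, sigma_f hf]

lemma sub_left (x y z : ι → F) : f (x - y) z = f x z - f y z := (uLeft hf z).map_sub x y

lemma sub_right (x y z : ι → F) : f x (y - z) = f x y - f x z := by
  rw [hf.herm, sub_left hf, map_sub, sigma_f hf, sigma_f hf]

lemma skew_zero {x y : ι → F} (h : f x y = 0) : f y x = 0 := by rw [hf.herm, h, map_zero]

lemma skew_ne {x y : ι → F} (h : f x y ≠ 0) : f y x ≠ 0 := fun h' => h (skew_zero hf h')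

lemma row_dot (u x : ι → F) : row f u ⬝ᵥ x = f x u := by
  have h := LinearMap.pi_apply_eq_sum_univ (uLeft hf u) x
  change f x u = _ at h
  rw [h, dotProduct]
  refine Finset.sum_congr rfl fun j _ => ?_
  simp only [row, smul_eq_mul]
  rw [mul_comm]
  congr 1
  change _ = f _ u
  congr 1
  ext k
  simp [Pi.single_apply, eq_comm]

/-- Every linear functional is `x ↦ f x a` for some `a`. -/
lemma exists_row (φ : ι → F) : ∃ a, ∀ x, φ ⬝ᵥ x = f x a := by
  have hinj : Function.Injective (row f) := by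
    intro a b hab
    by_contra h
    obtain ⟨x, hx⟩ := (hf.nondegenerate _ (sub_ne_zero.mpr h)).1
    apply hx
    rw [sub_right hf, ← row_dot hf a x, ← row_dot hf b x, hab, sub_self]
  obtain ⟨a, ha⟩ := Finite.injective_iff_surjective.mp hinj φ
  exact ⟨a, fun x => by rw [← ha, row_dot hf]⟩

/-- A unit of trace zero. -/
lemma exists_tz : ∃ c : F, c ≠ 0 ∧ σ c = -c := by
  obtain ⟨z, hz⟩ := exists_not_fixed hf.ne_refl
  exact ⟨z - σ z, sub_ne_zero.mpr (Ne.symm hz), by rw [map_sub, sigma_sigma hf, neg_sub]⟩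

/-- The trace onto the fixed field is surjective. -/
lemma exists_trace_eq {a : F} (ha : σ a = a) : ∃ z : F, z + σ z = a := by
  by_cases h2 : (2 : F) = 0
  · obtain ⟨w, hw⟩ := exists_not_fixed hf.ne_refl
    have hadd : ∀ x : F, -x = x := fun x => by linear_combination -(x * h2)
    have ht : σ (w + σ w) = w + σ w := by rw [map_add, sigma_sigma hf, add_comm]
    have ht0 : w + σ w ≠ 0 := fun h => hw (by rw [← hadd (σ w)]; linear_combination -h)
    refine ⟨a / (w + σ w) * w, ?_⟩
    rw [map_mul, map_div₀, ha, ht, ← mul_add, div_mul_cancel₀ _ ht0]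
  · refine ⟨a / 2, ?_⟩
    haveI : NeZero (2 : F) := ⟨h2⟩
    rw [map_div₀, ha, map_ofNat, add_halves]

lemma sigma_cases : ∃ q : ℕ, (∀ x : F, x ≠ 0 → σ x = x ^ q) ∧ (q - 1) * (q + 1) = Fintype.card F - 1 := by
  classical
  obtain ⟨p, hc⟩ := CharP.exists F
  haveI : Fact p.Prime := ⟨CharP.char_is_prime F p⟩
  letI : Algebra (ZMod p) F := ZMod.algebra F p
  let σ' : F ≃ₐ[ZMod p] F := AlgEquiv.ofRingEquiv (f := σ) fun r => by
    have h := RingHom.congr_fun
      (RingHom.ext_zmod ((σ : F →+* F).comp (algebraMap (ZMod p) F)) (algebraMap (ZMod p) F)) r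
    exact h
  obtain ⟨i, hi⟩ := (FiniteField.bijective_frobeniusAlgEquivOfAlgebraic_pow (ZMod p) F).2 σ'
  have hpow : ∀ x : F, σ x = x ^ p ^ (i : ℕ) := fun x => by
    have h := congrArg (fun e : F ≃ₐ[ZMod p] F => e x) hi
    simp only [FiniteField.coe_frobeniusAlgEquivOfAlgebraic_iterate, AlgEquiv.coe_pow,
      Nat.card_zmod, ZMod.card] at h
    exact h.symm
  obtain ⟨d, hdd⟩ : ∃ d, d = Module.finrank (ZMod p) F := ⟨_, rfl⟩
  have hcard : Fintype.card F = p ^ d := by
    rw [Module.card_eq_pow_finrank (K := ZMod p), ZMod.card, hdd]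
  have hd : (i : ℕ) < d := hdd ▸ i.2
  have hi0 : (i : ℕ) ≠ 0 := by
    intro h
    obtain ⟨z, hz⟩ := exists_not_fixed hf.ne_refl
    exact hz (by rw [hpow, h, pow_zero, pow_one])
  have hd2 : d = 2 * i := by
    -- the square of σ is the identity
    have hsq : ∀ x : F, x ^ p ^ (2 * (i : ℕ)) = x := fun x => by
      rw [two_mul, pow_add, pow_mul, ← hpow, ← hpow, sigma_sigma hf]
    let τ := FiniteField.frobeniusAlgEquivOfAlgebraic (ZMod p) F
    have h1 : τ ^ (2 * (i : ℕ)) = 1 := by
      ext x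
      simp only [τ, FiniteField.coe_frobeniusAlgEquivOfAlgebraic_iterate, AlgEquiv.coe_pow,
        Nat.card_zmod, ZMod.card, AlgEquiv.one_apply]
      exact hsq x
    have h2 := orderOf_dvd_of_pow_eq_one h1
    rw [FiniteField.orderOf_frobeniusAlgEquivOfAlgebraic] at h2
    obtain ⟨k, hk⟩ := h2
    have hk2 : k < 2 := by
      by_contra h
      have : Module.finrank (ZMod p) F * 2 ≤ Module.finrank (ZMod p) F * k :=
        Nat.mul_le_mul_left _ (by omega)
      omega
    interval_cases k <;> omega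
  refine ⟨p ^ (i : ℕ), fun x _ => hpow x, ?_⟩
  rw [hcard, hd2, mul_comm 2, pow_mul, mul_comm]
  have h := Nat.sq_sub_sq (p ^ (i : ℕ)) 1
  rw [one_pow] at h
  exact h.symm

/-- The norm onto the fixed field is surjective. -/
lemma exists_norm_eq {a : F} (ha : σ a = a) : ∃ z : F, z * σ z = a := by
  rcases eq_or_ne a 0 with rfl | ha0
  · exact ⟨0, by simp⟩
  obtain ⟨q, hq, hcard⟩ := sigma_cases hf
  classical
  have hq0 : 1 ≤ q := by
    by_contra h
    have h0 : q = 0 := by omega
    rw [h0] at hcard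
    have := Fintype.one_lt_card (α := F)
    omega
  let φ : Fˣ →* Fˣ := powMonoidHom (q + 1)
  let K : Subgroup Fˣ := (powMonoidHom (q - 1) : Fˣ →* Fˣ).ker
  have hU : Nat.card Fˣ = (q - 1) * (q + 1) := by
    rw [Nat.card_units, Nat.card_eq_fintype_card, hcard]
  have hle : φ.range ≤ K := by
    rintro _ ⟨x, rfl⟩
    simp only [K, φ, MonoidHom.mem_ker, powMonoidHom_apply, ← pow_mul]
    rw [mul_comm, ← hU, pow_card_eq_one']
  have hKc : Nat.card K = (Nat.card Fˣ).gcd (q - 1) := IsCyclic.card_powMonoidHom_ker (G := Fˣ) _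
  have hφc : Nat.card φ.range = Nat.card Fˣ / (Nat.card Fˣ).gcd (q + 1) :=
    IsCyclic.card_powMonoidHom_range (G := Fˣ) _
  rw [hU, Nat.gcd_mul_right_left] at hKc
  rw [hU, Nat.gcd_mul_left_left, Nat.mul_div_cancel _ (by omega)] at hφc
  have heq : φ.range = K := Subgroup.eq_of_le_of_card_ge hle (by rw [hKc, hφc])
  have hmem : Units.mk0 a ha0 ∈ K := by
    simp only [K, MonoidHom.mem_ker, powMonoidHom_apply]
    ext
    simp only [Units.val_pow_eq_pow_val, Units.val_mk0, Units.val_one]
    apply mul_right_cancel₀ ha0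
    rw [← pow_succ, Nat.sub_add_cancel hq0, ← hq a ha0, ha, one_mul]
  rw [← heq] at hmem
  obtain ⟨x, hx⟩ := hmem
  refine ⟨x, ?_⟩
  have h := congrArg Units.val hx
  simp only [φ, powMonoidHom_apply, Units.val_pow_eq_pow_val, Units.val_mk0] at h
  rw [hq _ x.ne_zero, ← pow_succ', h]

/-- The vectors orthogonal to every member of W. -/
def perp (W : Submodule F (ι → F)) : Submodule F (ι → F) where
  carrier := {x | ∀ w ∈ W, f x w = 0}
  add_mem' {a b} ha hb := fun w hw => by rw [hf.add_left, ha w hw, hb w hw, add_zero]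
  zero_mem' := fun w _ => zero_left hf w
  smul_mem' c x hx := fun w hw => by rw [hf.smul_left, hx w hw, mul_zero]

lemma mem_perp {W : Submodule F (ι → F)} {x : ι → F} : x ∈ perp hf W ↔ ∀ w ∈ W, f x w = 0 := Iff.rfl

lemma mem_perp_singleton {u x : ι → F} : x ∈ perp hf (Submodule.span F {u}) ↔ f x u = 0 := by
  refine ⟨fun h => h u (Submodule.mem_span_singleton_self u), fun h w hw => ?_⟩
  obtain ⟨c, rfl⟩ := Submodule.mem_span_singleton.mp hw
  rw [smul_right hf, h, mul_zero]

lemma mem_perp_pair {u v x : ι → F} : x ∈ perp hf (Submodule.span F {u, v}) ↔ f x u = 0 ∧ f x v = 0 := by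
  refine ⟨fun h => ⟨h u (Submodule.subset_span (by simp)), h v (Submodule.subset_span (by simp))⟩,
    fun h w hw => ?_⟩
  obtain ⟨c, d, rfl⟩ := Submodule.mem_span_pair.mp hw
  rw [add_right hf, smul_right hf, smul_right hf, h.1, h.2, mul_zero, mul_zero, add_zero]

/-- A vector outside W has an arbitrary inner product with some vector of the perp of W. -/
lemma exists_perp_val {W : Submodule F (ι → F)} {a : ι → F} (ha : a ∉ W) (c : F) :
    ∃ y ∈ perp hf W, f y a = c := by
  obtain ⟨φ, hφx, hφW⟩ := Submodule.exists_dual_map_eq_bot_of_notMem ha inferInstance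
  obtain ⟨b, hb⟩ := exists_row hf (fun i => φ (Pi.single i 1))
  have hφ : ∀ y, f y b = φ y := fun y => by
    rw [← hb, LinearMap.pi_apply_eq_sum_univ φ y, dotProduct]
    refine Finset.sum_congr rfl fun i _ => ?_
    rw [smul_eq_mul, mul_comm]
    congr 1
    congr 1
    ext k
    simp [Pi.single_apply, eq_comm]
  have hab : f b a ≠ 0 := skew_ne hf (by rwa [hφ])
  refine ⟨(c / f b a) • b, (perp hf W).smul_mem _ fun w hw => skew_zero hf ?_, ?_⟩
  · rw [hφ]
    have : φ w ∈ W.map φ := Submodule.mem_map_of_mem hw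
    rwa [hφW, Submodule.mem_bot] at this
  · rw [hf.smul_left, div_mul_cancel₀ _ hab]

lemma perp_perp_le {W : Submodule F (ι → F)} {x : ι → F} (hx : ∀ y ∈ perp hf W, f y x = 0) : x ∈ W := by
  by_contra h
  obtain ⟨y, hy, hyx⟩ := exists_perp_val hf h 1
  exact one_ne_zero (hyx.symm.trans (hx y hy))

lemma finrank_perp (W : Submodule F (ι → F)) :
    Fintype.card ι ≤ Module.finrank F (perp hf W) + Module.finrank F W := by
  let b := Module.finBasis F W
  let L : (ι → F) →ₗ[F] (Fin (Module.finrank F W) → F) :=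
    LinearMap.pi fun i => uLeft hf ((b i : W) : ι → F)
  have hker : LinearMap.ker L ≤ perp hf W := by
    intro x hx w hw
    have hx' : ∀ i, f x ((b i : W) : ι → F) = 0 := fun i => congrFun hx i
    have h1 : (⟨w, hw⟩ : W) ∈ Submodule.span F (Set.range b) := b.mem_span _
    have h2 : ∀ z : W, z ∈ Submodule.span F (Set.range b) → f x (z : ι → F) = 0 := by
      intro z hz
      induction hz using Submodule.span_induction with
      | mem z hz => obtain ⟨i, rfl⟩ := hz; exact hx' i
      | zero => exact zero_right hf x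
      | add p r _ _ hp hr => rw [Submodule.coe_add, add_right hf, hp, hr, add_zero]
      | smul c p _ hp => rw [Submodule.coe_smul, smul_right hf, hp, mul_zero]
    exact h2 ⟨w, hw⟩ h1
  have h1 := LinearMap.finrank_range_add_finrank_ker L
  have h2 := Submodule.finrank_mono hker
  have h3 : Module.finrank F (LinearMap.range L) ≤ Module.finrank F W :=
    (Submodule.finrank_le _).trans_eq (Module.finrank_fin_fun F)
  rw [Module.finrank_fintype_fun_eq_card] at h1
  omega

/-- A subspace of dimension at least two contains a non-zero isotropic vector. -/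
lemma exists_isotropic {X : Submodule F (ι → F)} (hX : 2 ≤ Module.finrank F X) :
    ∃ p ∈ X, p ≠ 0 ∧ f p p = 0 := by
  obtain ⟨v, hv, hv0⟩ := Submodule.exists_mem_ne_zero_of_ne_bot (p := X) fun h => by
    rw [h, finrank_bot] at hX; omega
  by_cases hvv : f v v = 0
  · exact ⟨v, hv, hv0, hvv⟩
  obtain ⟨w, hw, hwv⟩ : ∃ w ∈ X, w ∉ Submodule.span F {v} := by
    by_contra! h
    have := Submodule.finrank_mono (show X ≤ Submodule.span F {v} from h)
    rw [finrank_span_singleton hv0] at this
    omega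
  set w' := w - (f w v / f v v) • v with hw'
  have hperp : f w' v = 0 := by
    rw [hw', sub_left hf, hf.smul_left, div_mul_cancel₀ _ hvv, sub_self]
  obtain ⟨z, hz⟩ := exists_norm_eq hf (a := -(f w' w' / f v v)) (by
    rw [map_neg, map_div₀, sigma_f hf, sigma_f hf])
  refine ⟨w' + z • v, X.add_mem (X.sub_mem hw (X.smul_mem _ hv)) (X.smul_mem _ hv), ?_, ?_⟩
  · intro h
    apply hwv
    rw [Submodule.mem_span_singleton]
    refine ⟨f w v / f v v - z, ?_⟩
    rw [sub_smul, sub_eq_iff_eq_add, ← sub_eq_zero, ← neg_eq_zero, neg_sub, ← h, hw']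
    abel
  · rw [hf.add_left, add_right hf, add_right hf, hf.smul_left, hf.smul_left, smul_right hf, smul_right hf,
      hperp, skew_zero hf hperp]
    have h : z * σ z * f v v = - f w' w' := by rw [hz, neg_mul, div_mul_cancel₀ _ hvv]
    linear_combination h

/-- An isotropic hyperbolic pair orthogonal to a small subspace. -/
lemma exists_hyp {W : Submodule F (ι → F)} (hdim : 2 * Module.finrank F W + 2 ≤ Fintype.card ι) :
    ∃ p ∈ perp hf W, ∃ r ∈ perp hf W, f p p = 0 ∧ f r r = 0 ∧ f p r = 1 := by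
  obtain ⟨C, hC⟩ := Submodule.exists_isCompl (perp hf W ⊓ W)
  have hd : 2 ≤ Module.finrank F (perp hf W ⊓ C : Submodule F (ι → F)) := by
    have h1 := Submodule.finrank_sup_add_finrank_inf_eq (perp hf W) C
    have h2 := Submodule.finrank_le (perp hf W ⊔ C)
    have h3 := Submodule.finrank_add_eq_of_isCompl hC
    have h4 := Submodule.finrank_mono (inf_le_right : perp hf W ⊓ W ≤ W)
    have h5 := finrank_perp hf W
    rw [Module.finrank_fintype_fun_eq_card] at h2 h3
    omega
  obtain ⟨p, ⟨hpP, hpC⟩, hp0, hpp⟩ := exists_isotropic hf hd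
  have hpW : p ∉ W := fun h => hp0 (Submodule.disjoint_def.mp hC.disjoint p ⟨hpP, h⟩ hpC)
  obtain ⟨r0, hr0, hr0p⟩ := exists_perp_val hf hpW 1
  obtain ⟨μ, hμ⟩ := exists_trace_eq hf (a := -(f r0 r0)) (by rw [map_neg, sigma_f hf])
  have hpr0 : f p r0 = 1 := by rw [hf.herm, hr0p, map_one]
  refine ⟨p, hpP, r0 + μ • p, (perp hf W).add_mem hr0 ((perp hf W).smul_mem _ hpP), hpp, ?_, ?_⟩
  · rw [hf.add_left, add_right hf, add_right hf, hf.smul_left, hf.smul_left, smul_right hf, smul_right hf,
      hr0p, hpr0, hpp]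
    linear_combination hμ
  · rw [add_right hf, smul_right hf, hpp, mul_zero, add_zero, hpr0]

/-- Correct a vector to an isotropic one without changing its inner products with a small subspace. -/
lemma iso_adjust {W : Submodule F (ι → F)} (hdim : 2 * (Module.finrank F W + 1) + 2 ≤ Fintype.card ι)
    (y : ι → F) :
    ∃ p ∈ perp hf W, ∃ r ∈ perp hf W, ∃ μ : F, f p p = 0 ∧ f r r = 0 ∧ f p r = 1 ∧
      f y p = 0 ∧ f y r = 0 ∧ f (y + p + μ • r) (y + p + μ • r) = 0 := by
  set W' := W ⊔ Submodule.span F {y}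
  have hW' : 2 * Module.finrank F W' + 2 ≤ Fintype.card ι := by
    have h1 : Module.finrank F W' ≤ Module.finrank F W + Module.finrank F (Submodule.span F {y}) :=
      Submodule.finrank_add_le_finrank_add_finrank W (Submodule.span F {y})
    have h2 : Module.finrank F (Submodule.span F {y}) ≤ 1 := by
      refine (finrank_span_le_card ({y} : Set (ι → F))).trans ?_
      simp
    omega
  obtain ⟨p, hp, r, hr, hpp, hrr, hpr⟩ := exists_hyp hf hW'
  have hpy : f p y = 0 := hp y (Submodule.mem_sup_right (Submodule.mem_span_singleton_self y))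
  have hry : f r y = 0 := hr y (Submodule.mem_sup_right (Submodule.mem_span_singleton_self y))
  obtain ⟨μ, hμ⟩ := exists_trace_eq hf (a := -(f y y)) (by rw [map_neg, sigma_f hf])
  refine ⟨p, fun w hw => hp w (Submodule.mem_sup_left hw), r, fun w hw => hr w (Submodule.mem_sup_left hw),
    μ, hpp, hrr, hpr, skew_zero hf hpy, skew_zero hf hry, ?_⟩
  have hrp : f r p = 1 := by rw [hf.herm, hpr, map_one]
  simp only [hf.add_left, add_right hf, hf.smul_left, smul_right hf, hpp, hrr, hpr, hrp, hpy, hry,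
    skew_zero hf hpy, skew_zero hf hry]
  linear_combination hμ

/-! ### Root elements -/

lemma ft_act {u a : ι → F} (h : f u a = 0) (x : ι → F) :
    (ft f u a : Matrix ι ι F) *ᵥ x = x + f x a • u := by
  rw [ft, tv_act (by rw [row_dot hf, h]), row_dot hf]

lemma ft_add {u a b : ι → F} (ha : f u a = 0) (hb : f u b = 0) :
    ft f u a * ft f u b = ft f u (a + b) := by
  refine gl_ext fun x => ?_
  rw [mul_act, ft_act hf ha, ft_act hf hb, ft_act hf (by rw [add_right hf, ha, hb, add_zero]),
    hf.add_left, hf.smul_left, ha, mul_zero, add_zero, add_right hf, add_smul]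
  abel

lemma ft_zero (u : ι → F) : ft f u 0 = 1 := by
  refine gl_ext fun x => ?_
  rw [ft_act hf (zero_right hf u), one_act, zero_right hf, zero_smul, add_zero]

lemma ft_inv {u a : ι → F} (ha : f u a = 0) : (ft f u a)⁻¹ = ft f u (-a) := by
  refine inv_eq_of_mul_eq_one_right ?_
  rw [ft_add hf ha (by rw [neg_right hf, ha, neg_zero]), add_neg_cancel, ft_zero hf]

/-- Conjugating x ↦ x + f(x,a)u by an isometry h gives x ↦ x + f(x, h a) h u. -/
lemma ft_conj {h : GL ι F} (hh : ∀ x y, f ((h : Matrix ι ι F) *ᵥ x) ((h : Matrix ι ι F) *ᵥ y) = f x y)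
    {u a : ι → F} (ha : f u a = 0) :
    h * ft f u a * h⁻¹ = ft f ((h : Matrix ι ι F) *ᵥ u) ((h : Matrix ι ι F) *ᵥ a) := by
  refine gl_ext fun x => ?_
  rw [mul_act, mul_act, ft_act hf ha, ft_act hf (by rw [hh, ha]), Matrix.mulVec_add, Matrix.mulVec_smul,
    act_inv_act]
  congr 2
  conv_rhs => rw [← act_inv_act h x, hh]

/-- The unitary transvection x ↦ x + c f(x,b) b for isotropic b and trace-zero c. -/
lemma ut_act {b : ι → F} (hb : f b b = 0) (c : F) (x : ι → F) :
    (ft f b (σ c • b) : Matrix ι ι F) *ᵥ x = x + (c * f x b) • b := by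
  rw [ft_act hf (by rw [smul_right hf, hb, mul_zero]), smul_right hf, sigma_sigma hf]

lemma ut_preserves {b : ι → F} (hb : f b b = 0) {c : F} (hc : σ c = -c) (x y : ι → F) :
    f ((ft f b (σ c • b) : Matrix ι ι F) *ᵥ x) ((ft f b (σ c • b) : Matrix ι ι F) *ᵥ y) = f x y := by
  rw [ut_act hf hb, ut_act hf hb]
  simp only [hf.add_left, add_right hf, hf.smul_left, smul_right hf, hb, map_mul,
    sigma_f hf, hc]
  ring

end Cfsg.Agent.TransvectionUnitary
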