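/-
Aschbacher's theorem with a form, part 10: a second form of the other kind gives a realisation over a subfield.
-/
import Cfsg.Agent.Lib.AschFormBasic
import Cfsg.Agent.Lib.AschPrimeUnitary
import Cfsg.Agent.Lib.TransvectionUnitary

set_option autoImplicit false
set_option linter.unusedSectionVars false

namespace Cfsg.Agent.AschFormTwist

open scoped Matrix
open Cfsg Cfsg.Geo Cfsg.Agent.AschPrimeBasic Cfsg.Agent.AschPrimeForms Cfsg.Agent.AschFormBasic

variable {ι : Type} [Fintype ι] [DecidableEq ι] {F : Type*} [Field F] [Fintype F]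

/-- the automorphism of a unitary form is `x ↦ x ^ q` -/
lemma exists_q {σ : F ≃+* F} {g : (ι → F) → (ι → F) → F} (hg : IsUnitaryForm σ g) :
    ∃ (q : ℕ) (hF : Fintype.card F = q ^ 2), σ = AschPrimeUnitary.fr hF := by
  obtain ⟨q, hq, hqc⟩ := TransvectionUnitary.sigma_cases hg
  have hq0 : q ≠ 0 := by
    rintro rfl
    have := Fintype.one_lt_card (α := F)
    omega
  have hF : Fintype.card F = q ^ 2 := by
    have := Fintype.one_lt_card (α := F)
    obtain ⟨q', rfl⟩ := Nat.exists_eq_succ_of_ne_zero hq0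
    simp only [Nat.succ_sub_one] at hqc
    rw [Nat.succ_eq_add_one] at hqc ⊢
    nlinarith [hqc, Nat.sub_add_cancel this.le]
  refine ⟨q, hF, RingEquiv.ext fun x => ?_⟩
  rcases eq_or_ne x 0 with rfl | hx
  · simp [AschPrimeUnitary.fr_apply, zero_pow hq0]
  · exact hq x hx

/-- absolutely irreducible isometries of a bilinear and of a sesquilinear form are realised over the fixed field -/
lemma realisable_of_pair [Nonempty ι] {q : ℕ} (hF : Fintype.card F = q ^ 2) {B U : Matrix ι ι F} (hB : IsUnit B.det)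
    (hU : IsUnit U.det) {S : Subgroup (GL ι F)} (hS : AbsIrred S)
    (hSB : ∀ s ∈ S, (s : Matrix ι ι F)ᵀ * B * (s : Matrix ι ι F) = B)
    (hSU : ∀ s ∈ S, (s : Matrix ι ι F)ᵀ * U * (s : Matrix ι ι F).map (AschPrimeUnitary.fr hF) = U) :
    RealisableOver (fixedField (AschPrimeUnitary.fr hF)) (matrixSet S) := by
  refine AschPrimeUnitary.realisable_of_twisted hF hS (T := B⁻¹ * U) ?_ fun s hs => ?_
  · rw [Matrix.det_mul]
    exact (Matrix.isUnit_nonsing_inv_det _ hB).mul hU
  · have hsd : IsUnit ((s : Matrix ι ι F)ᵀ).det := by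
      rw [Matrix.det_transpose]; exact Matrix.isUnits_det_units s
    have e : (s : Matrix ι ι F)ᵀ * (B * ((s : Matrix ι ι F) * (B⁻¹ * U))) =
        (s : Matrix ι ι F)ᵀ * (B * (B⁻¹ * U * (s : Matrix ι ι F).map (AschPrimeUnitary.fr hF))) := by
      rw [mul_assoc B⁻¹ U, Matrix.mul_nonsing_inv_cancel_left _ _ hB, ← mul_assoc ((s : Matrix ι ι F)ᵀ) U, hSU s hs,
        ← mul_assoc B, ← mul_assoc _ (B * _), ← mul_assoc _ B, hSB s hs, Matrix.mul_nonsing_inv_cancel_left _ _ hB]
    have e1 := congrArg (((s : Matrix ι ι F)ᵀ)⁻¹ * ·) e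
    simp only [Matrix.nonsing_inv_mul_cancel_left _ _ hsd] at e1
    have e2 := congrArg (B⁻¹ * ·) e1
    simpa only [Matrix.nonsing_inv_mul_cancel_left _ _ hB] using e2

lemma realisable_of_unitary [Nonempty ι] {ε : F} {f g : (ι → F) → (ι → F) → F}
    (hf : FormData (RingEquiv.refl F) ε f) {σ : F ≃+* F} (hg : IsUnitaryForm σ g) {q : ℕ}
    (hF : Fintype.card F = q ^ 2) (hσ : σ = AschPrimeUnitary.fr hF) {S : Subgroup (GL ι F)} (hS : AbsIrred S)
    (hSf : Isos S f) (hSg : FixesForm (matrixSet S) g) :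
    RealisableOver (fixedField (AschPrimeUnitary.fr hF)) (matrixSet S) := by
  subst hσ
  have hses := sesq_of_unitary hg
  refine realisable_of_pair hF hf.det (isUnit_iff_ne_zero.2 (hses.det_ne_zero hg.nondegenerate)) hS
    (fun s hs => iso_gram hf (hSf s hs)) fun s hs => ?_
  simpa using (hses.similar_iff (s : Matrix ι ι F) 1).1 (fun u v => by rw [one_mul]; exact hSg _ ⟨s, hs, rfl⟩ u v)

end Cfsg.Agent.AschFormTwist
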