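/-
Aschbacher's theorem in prime dimension, orthogonal case, part 1: Ω lies in none of the geometric stabilisers.
-/
import Cfsg.Agent.Lib.AschPrimeUnitary
import Cfsg.Agent.Lib.OmegaMaxGlue

set_option autoImplicit false

namespace Cfsg.Agent.AschPrimeOrthProper

open scoped Matrix
open Cfsg Cfsg.Geo Cfsg.Agent.AschPrimeBasic Cfsg.Agent.AschPrimeForms

variable {m : ℕ} {F : Type*} [Field F] [Fintype F]

/-- the index set -/
abbrev Idx (m : ℕ) := Unit ⊕ (Fin m ⊕ Fin m)

/-- the commutator subgroup of the isometry group of the standard form -/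
abbrev omg (m : ℕ) (F : Type*) [Field F] : Subgroup (GL (Idx m) F) := omegaGL (Cfsg.quadFormOdd m F)

/-- the polar form of the standard form -/
abbrev bil (m : ℕ) (F : Type*) [Field F] : (Idx m → F) → (Idx m → F) → F :=
  QuadraticMap.polar (Cfsg.quadFormOdd m F)

lemma nondeg_quad (h2 : (2 : F) ≠ 0) : IsNondegenerateQuadraticForm (Cfsg.quadFormOdd m F) := by
  rw [← QuadClassify.qOdd_coe]
  refine ⟨fun c v => ?_, ⟨fun x y v => QuadraticMap.polar_add_left _ x y v,
    fun c x v => ?_, fun v x y => QuadraticMap.polar_add_right _ v x y, fun c v x => ?_⟩, fun v hv => ?_⟩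
  · rw [QuadraticMap.map_smul, smul_eq_mul, pow_two]
  · rw [QuadraticMap.polar_smul_left, smul_eq_mul]
  · rw [QuadraticMap.polar_smul_right, smul_eq_mul]
  · have hnd := OmegaMaxGlue.nondeg_odd (m := m) h2
    constructor
    · by_contra h
      push Not at h
      exact hv (hnd.1 v fun x => (QuadraticMap.polar_comm _ v x).trans (h x))
    · by_contra h
      push Not at h
      exact hv (hnd.1 v h)

omit [Fintype F] in
lemma polar_formula (u v : Idx m → F) :
    bil m F u v = 2 * (u (.inl ()) * v (.inl ())) +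
      ∑ i : Fin m, (u (.inr (.inl i)) * v (.inr (.inr i)) + u (.inr (.inr i)) * v (.inr (.inl i))) := by
  simp only [bil, QuadraticMap.polar, Cfsg.quadFormOdd, Pi.add_apply]
  have : ∀ i : Fin m, (u (.inr (.inl i)) + v (.inr (.inl i))) * (u (.inr (.inr i)) + v (.inr (.inr i))) =
      u (.inr (.inl i)) * u (.inr (.inr i)) + v (.inr (.inl i)) * v (.inr (.inr i)) +
      (u (.inr (.inl i)) * v (.inr (.inr i)) + u (.inr (.inr i)) * v (.inr (.inl i))) := fun i => by ring
  simp only [this, Finset.sum_add_distrib]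
  ring

/-- the coordinate vector -/
abbrev sv (k : Idx m) : Idx m → F := Pi.single k 1

/-- first half coordinate -/
abbrev iE (i : Fin m) : Idx m := .inr (.inl i)

/-- second half coordinate -/
abbrev iF (i : Fin m) : Idx m := .inr (.inr i)

/-- the anisotropic coordinate -/
abbrev i0 : Idx m := .inl ()

omit [Fintype F] in
lemma bil_sv_left_E (i : Fin m) (v : Idx m → F) : bil m F (sv (iE i)) v = v (iF i) := by
  rw [polar_formula, Finset.sum_eq_single i]
  · simp [sv]
  · intro j _ hj
    simp [sv, hj]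
  · simp

omit [Fintype F] in
lemma bil_sv_left_F (i : Fin m) (v : Idx m → F) : bil m F (sv (iF i)) v = v (iE i) := by
  rw [polar_formula, Finset.sum_eq_single i]
  · simp [sv]
  · intro j _ hj
    simp [sv, hj]
  · simp

omit [Fintype F] in
lemma bil_sv_left_0 (v : Idx m → F) : bil m F (sv i0) v = 2 * v i0 := by
  rw [polar_formula]
  simp [sv]

omit [Fintype F] in
lemma quad_sv_E (i : Fin m) : Cfsg.quadFormOdd m F (sv (iE i)) = 0 := by
  simp [Cfsg.quadFormOdd, sv]

omit [Fintype F] in
lemma quad_sv_F (i : Fin m) : Cfsg.quadFormOdd m F (sv (iF i)) = 0 := by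
  simp [Cfsg.quadFormOdd, sv]

omit [Fintype F] in
lemma quad_add (u v : Idx m → F) :
    Cfsg.quadFormOdd m F (u + v) = Cfsg.quadFormOdd m F u + Cfsg.quadFormOdd m F v + bil m F u v := by
  simp only [bil, QuadraticMap.polar]
  ring

/-- a Siegel element of Ω with its powers -/
lemma exists_siegel (h2 : (2 : F) ≠ 0) (hm : 2 ≤ m) {e f : Idx m → F} (he : Cfsg.quadFormOdd m F e = 0)
    (hf : Cfsg.quadFormOdd m F f = 0) (hef : bil m F f e = 0) :
    ∃ T ∈ omg m F, (∀ x, (T : Matrix (Idx m) (Idx m) F) *ᵥ x = x + bil m F f x • e - bil m F e x • f) ∧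
      ∀ k : ℕ, ∀ x, ((T ^ k : GL (Idx m) F) : Matrix (Idx m) (Idx m) F) *ᵥ x =
        x + (k : F) • (bil m F f x • e - bil m F e x • f) := by
  have hQ := nondeg_quad (m := m) h2
  obtain ⟨T, hT, h1⟩ : ∃ T ∈ omg m F,
      ∀ x, (T : Matrix (Idx m) (Idx m) F) *ᵥ x = x + bil m F f x • e - bil m F e x • f := by
    unfold omg bil at *
    rw [← QuadClassify.qOdd_coe] at he hf hef ⊢
    obtain ⟨k, hk, hkx⟩ := OmegaGeo.exists_siegel (OmegaMaxGlue.nondeg_odd (m := m) h2)
      (by simp [Module.finrank_fintype_fun_eq_card]; omega) he hf hef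
    exact ⟨OmegaGeo.toGL _ k, OmegaGeo.toGL_mem hk, fun x => by rw [OmegaGeo.toGL_mulVec, hkx]⟩
  refine ⟨T, hT, h1, fun k => ?_⟩
  have hB : IsBilinearForm (bil m F) := hQ.polar_bilinear
  have hfe : bil m F e f = 0 := by rw [bil, QuadraticMap.polar_comm]; exact hef
  have hee : bil m F e e = 0 := by rw [bil, polar_self hQ, he, mul_zero]
  have hff : bil m F f f = 0 := by rw [bil, polar_self hQ, hf, mul_zero]
  have hsub : ∀ (u a b : Idx m → F), bil m F u (a - b) = bil m F u a - bil m F u b := by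
    intro u a b
    have := hB.add_right u (a - b) b
    rw [sub_add_cancel] at this
    simp only [bil]
    linear_combination -this
  induction k with
  | zero => simp
  | succ k ih =>
    intro x
    set w := bil m F f x • e - bil m F e x • f with hw
    have w1 : bil m F f w = 0 := by
      rw [hw, hsub, hB.smul_right, hB.smul_right, hef, hff]; ring
    have w2 : bil m F e w = 0 := by
      rw [hw, hsub, hB.smul_right, hB.smul_right, hee, hfe]; ring
    rw [pow_succ', Units.val_mul, ← Matrix.mulVec_mulVec, ih, h1,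
      show bil m F f (x + (k : F) • w) = bil m F f x by rw [hB.add_right, hB.smul_right, w1]; ring,
      show bil m F e (x + (k : F) • w) = bil m F e x by rw [hB.add_right, hB.smul_right, w2]; ring,
      Nat.cast_succ, add_smul, one_smul, hw]
    abel

lemma exists_two_others (hm : 3 ≤ m) (i j : Fin m) : ∃ k, k ≠ i ∧ k ≠ j := by
  obtain ⟨c, hc⟩ := Finset.exists_mem_notMem_of_card_lt_card
    (show ({i, j} : Finset (Fin m)).card < (Finset.univ : Finset (Fin m)).card by
      have h1 := Finset.card_le_two (a := i) (b := j)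
      rw [Finset.card_univ, Fintype.card_fin]
      omega)
  simp only [Finset.mem_insert, Finset.mem_singleton, not_or] at hc
  exact ⟨c, hc.2.1, hc.2.2⟩

lemma omega_irred (h2 : (2 : F) ≠ 0) (hm : 3 ≤ m) : Irred (omg m F) := by
  intro W hW
  by_cases hb : W = ⊥
  · exact Or.inl hb
  have move : ∀ e f : Idx m → F, Cfsg.quadFormOdd m F e = 0 → Cfsg.quadFormOdd m F f = 0 → bil m F f e = 0 →
      ∀ w ∈ W, bil m F f w • e - bil m F e w • f ∈ W := by
    intro e f he hf hef w hw
    obtain ⟨T, hT, h1, -⟩ := exists_siegel h2 (by omega) he hf hef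
    have := W.sub_mem (hW T hT w hw) hw
    rwa [h1, add_sub_assoc, add_sub_cancel_left] at this
  -- from one singular coordinate vector to all
  have fromE : ∀ (k : Fin m), sv (iE k) ∈ W → ∀ i, i ≠ k → sv (iE i) ∈ W ∧ sv (iF i) ∈ W := by
    intro k hk i hik
    constructor
    · have h := move (sv (iE i)) (sv (iF k)) (quad_sv_E i) (quad_sv_F k)
        (by rw [bil_sv_left_F]; simp [sv, hik.symm]) _ hk
      simpa [bil_sv_left_F, bil_sv_left_E, sv, hik, hik.symm] using h
    · have h := move (sv (iF i)) (sv (iF k)) (quad_sv_F i) (quad_sv_F k)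
        (by rw [bil_sv_left_F]; simp [sv]) _ hk
      simpa [bil_sv_left_F, bil_sv_left_E, sv, hik, hik.symm] using h
  have fromF : ∀ (k : Fin m), sv (iF k) ∈ W → ∀ i, i ≠ k → sv (iE i) ∈ W ∧ sv (iF i) ∈ W := by
    intro k hk i hik
    constructor
    · have h := move (sv (iE i)) (sv (iE k)) (quad_sv_E i) (quad_sv_E k)
        (by rw [bil_sv_left_E]; simp [sv]) _ hk
      simpa [bil_sv_left_F, bil_sv_left_E, sv, hik, hik.symm] using h
    · have h := move (sv (iF i)) (sv (iE k)) (quad_sv_F i) (quad_sv_E k)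
        (by rw [bil_sv_left_E]; simp [sv, hik.symm]) _ hk
      simpa [bil_sv_left_F, bil_sv_left_E, sv, hik, hik.symm] using h
  have finish : ∀ k : Fin m, sv (iE k) ∈ W ∨ sv (iF k) ∈ W → W = ⊤ := by
    intro k hk
    have h1 : ∀ i, i ≠ k → sv (iE i) ∈ W ∧ sv (iF i) ∈ W := fun i hi =>
      hk.elim (fun h => fromE k h i hi) (fun h => fromF k h i hi)
    obtain ⟨l, hl, -⟩ := exists_two_others hm k k
    have h3 : ∀ i, sv (iE i) ∈ W ∧ sv (iF i) ∈ W := fun i => by
      by_cases hi : i = k
      · exact fromE l (h1 l hl).1 i (by rw [hi]; exact hl.symm)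
      · exact h1 i hi
    have h0 : sv i0 ∈ W := by
      set g : Idx m → F := sv i0 + (sv (iE l) - sv (iF l)) with hg
      have hqg : Cfsg.quadFormOdd m F g = 0 := by
        simp [hg, Cfsg.quadFormOdd, sv, Finset.sum_eq_single l, Pi.single_apply]
      have hge : bil m F g (sv (iE k)) = 0 := by
        rw [bil, QuadraticMap.polar_comm, ← bil, bil_sv_left_E]
        simp [hg, sv, hl.symm, hl]
      have h := move (sv (iE k)) g (quad_sv_E k) hqg hge _ (h3 k).2
      rw [bil_sv_left_E, show sv (F := F) (iF k) (iF k) = 1 from Pi.single_eq_same _ _, one_smul] at h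
      have h4 : g ∈ W := by
        have h5 := W.sub_mem (W.smul_mem (bil m F g (sv (iF k))) (h3 k).1) h
        rwa [sub_sub_cancel] at h5
      have h6 := W.sub_mem h4 (W.sub_mem (h3 l).1 (h3 l).2)
      rwa [hg, add_sub_cancel_right] at h6
    refine eq_top_iff.2 fun v _ => ?_
    rw [pi_eq_sum_univ' v]
    refine W.sum_mem fun j _ => W.smul_mem _ ?_
    rcases j with ⟨⟩ | i | i
    · exact h0
    · exact (h3 i).1
    · exact (h3 i).2
  -- a coordinate vector
  right
  obtain ⟨w, hw, hw0⟩ := (Submodule.ne_bot_iff W).1 hb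
  by_cases hcoord : ∃ i, w (iE i) ≠ 0 ∨ w (iF i) ≠ 0
  · obtain ⟨i, hi⟩ := hcoord
    obtain ⟨j, hji, -⟩ := exists_two_others hm i i
    obtain ⟨k, hki, hkj⟩ := exists_two_others hm i j
    rcases hi with hi | hi
    · have hz := move (sv (iE j)) (sv (iF i)) (quad_sv_E j) (quad_sv_F i)
        (by rw [bil_sv_left_F]; simp [sv, hji.symm]) w hw
      rw [bil_sv_left_F, bil_sv_left_E] at hz
      set z := w (iE i) • sv (F := F) (iE j) - w (iF j) • sv (iF i) with hzdef
      have h := move (sv (iE k)) (sv (iF j)) (quad_sv_E k) (quad_sv_F j)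
        (by rw [bil_sv_left_F]; simp [sv, hkj.symm]) z hz
      rw [bil_sv_left_F, bil_sv_left_E] at h
      have e1 : z (iE j) = w (iE i) := by simp [hzdef, sv]
      have e2 : z (iF k) = 0 := by simp [hzdef, sv, hki]
      rw [e1, e2, zero_smul, sub_zero] at h
      exact finish k (Or.inl (by simpa [smul_smul, inv_mul_cancel₀ hi] using W.smul_mem (w (iE i))⁻¹ h))
    · have hz := move (sv (iF j)) (sv (iE i)) (quad_sv_F j) (quad_sv_E i)
        (by rw [bil_sv_left_E]; simp [sv, hji.symm]) w hw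
      rw [bil_sv_left_F, bil_sv_left_E] at hz
      set z := w (iF i) • sv (F := F) (iF j) - w (iE j) • sv (iE i) with hzdef
      have h := move (sv (iF k)) (sv (iE j)) (quad_sv_F k) (quad_sv_E j)
        (by rw [bil_sv_left_E]; simp [sv, hkj.symm]) z hz
      rw [bil_sv_left_F, bil_sv_left_E] at h
      have e1 : z (iF j) = w (iF i) := by simp [hzdef, sv]
      have e2 : z (iE k) = 0 := by simp [hzdef, sv, hki]
      rw [e1, e2, zero_smul, sub_zero] at h
      exact finish k (Or.inr (by simpa [smul_smul, inv_mul_cancel₀ hi] using W.smul_mem (w (iF i))⁻¹ h))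
  · push Not at hcoord
    have hw00 : w i0 ≠ 0 := by
      intro h0
      apply hw0
      funext j
      rcases j with ⟨⟩ | i | i
      · exact h0
      · exact (hcoord i).1
      · exact (hcoord i).2
    let k : Fin m := ⟨0, by omega⟩
    obtain ⟨l, hl, -⟩ := exists_two_others hm k k
    set g : Idx m → F := sv i0 + (sv (iE l) - sv (iF l)) with hg
    have hqg : Cfsg.quadFormOdd m F g = 0 := by
      simp [hg, Cfsg.quadFormOdd, sv, Finset.sum_eq_single l, Pi.single_apply]
    have hge : bil m F g (sv (iE k)) = 0 := by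
      rw [bil, QuadraticMap.polar_comm, ← bil, bil_sv_left_E]
      simp [hg, sv, hl.symm, hl]
    have h := move (sv (iE k)) g (quad_sv_E k) hqg hge w hw
    have hgw : bil m F g w = 2 * w i0 := by
      rw [polar_formula]
      simp [hg, sv, fun i => (hcoord i).1, fun i => (hcoord i).2]
    rw [hgw, bil_sv_left_E, (hcoord k).2, zero_smul, sub_zero] at h
    have h5 := W.smul_mem (2 * w i0)⁻¹ h
    rw [smul_smul, inv_mul_cancel₀ (mul_ne_zero h2 hw00), one_smul] at h5
    exact finish k (Or.inl h5)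

lemma omega_not_le_subspaceStabilizer (h2 : (2 : F) ≠ 0) (hm : 3 ≤ m) {W : Submodule F (Idx m → F)}
    (hb : W ≠ ⊥) (ht : W ≠ ⊤) : ¬ omg m F ≤ subspaceStabilizer W := fun h =>
  (omega_irred h2 hm W ((inv_iff_le_stabilizer _ _).2 h)).elim hb ht

lemma omega_not_le_lines (h2 : (2 : F) ≠ 0) (hm : 3 ≤ m)
    {D : Fin (Fintype.card (Idx m)) → Submodule F (Idx m → F)} (hD : IsMDecomposition 1 D) :
    ¬ omg m F ≤ decompositionStabilizer D := by
  intro hle
  obtain ⟨B, hB⟩ := AschPrimeLinear.lines_mono hD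
  let a : Fin m := ⟨0, by omega⟩
  let b : Fin m := ⟨1, by omega⟩
  have hab : a ≠ b := by simp [a, b, Fin.ext_iff]
  obtain ⟨T, hT, h1, hTk⟩ := exists_siegel h2 (by omega) (quad_sv_E a) (quad_sv_E (F := F) b)
    (by rw [bil_sv_left_E]; simp [sv])
  obtain ⟨π, d, hd, hM⟩ := hB T (hle hT)
  set Q : GL (Idx m) F := B⁻¹ * T * B with hQ
  have hsq : ∀ v, (Q : Matrix (Idx m) (Idx m) F) *ᵥ ((Q : Matrix (Idx m) (Idx m) F) *ᵥ v) + v =
      (2 : F) • ((Q : Matrix (Idx m) (Idx m) F) *ᵥ v) := by
    intro v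
    set u := (B : Matrix (Idx m) (Idx m) F) *ᵥ v with hu
    have e : (T : Matrix (Idx m) (Idx m) F) *ᵥ ((T : Matrix (Idx m) (Idx m) F) *ᵥ u) + u =
        (2 : F) • ((T : Matrix (Idx m) (Idx m) F) *ᵥ u) := by
      have h3 := hTk 2 u
      rw [sq, Units.val_mul, ← Matrix.mulVec_mulVec] at h3
      rw [h3, h1 u, add_sub_assoc, smul_add, Nat.cast_ofNat]
      module
    have h4 := congrArg (fun z => ((B⁻¹ : GL (Idx m) F) : Matrix (Idx m) (Idx m) F) *ᵥ z) e
    simp only [Matrix.mulVec_add, Matrix.mulVec_smul, hu, inv_mulVec_mulVec] at h4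
    simp only [hQ, Units.val_mul, ← Matrix.mulVec_mulVec, mulVec_inv_mulVec]
    exact h4
  have hd0 : ∀ i, d i ≠ 0 := fun i h0 => by
    have := hd i
    rw [h0, zero_pow (by have := Fintype.one_lt_card (α := F); omega)] at this
    exact zero_ne_one this
  have hcol : ∀ i, (Q : Matrix (Idx m) (Idx m) F) *ᵥ (Pi.single i 1 : Idx m → F) = d i • Pi.single (π i) 1 := by
    intro i
    funext k
    rw [Matrix.mulVec_single_one, Matrix.col_apply, hM, Pi.smul_apply, Pi.single_apply, smul_eq_mul]
    split_ifs <;> simp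
  have hfix : ∀ i, π i = i ∧ d i = 1 := by
    intro i
    have e := hsq (Pi.single i 1)
    rw [hcol, Matrix.mulVec_smul, hcol, smul_smul, smul_smul] at e
    have hπ : π i = i := by
      by_contra hne
      have h3 := congrFun e (π i)
      have h4 : π (π i) ≠ π i := fun h => hne (π.injective h)
      simp [Pi.single_apply, hne, h4.symm] at h3
      rcases h3 with h | h
      · exact h2 h
      · exact hd0 i h
    refine ⟨hπ, ?_⟩
    rw [hπ, hπ] at e
    have h3 := congrFun e i
    simp at h3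
    have h5 : (d i - 1) * (d i - 1) = 0 := by linear_combination h3
    exact sub_eq_zero.1 (mul_self_eq_zero.1 h5)
  have hQ1 : Q = 1 := by
    apply Units.ext
    ext k i
    rw [hM, (hfix i).1, (hfix i).2, Units.val_one, Matrix.one_apply]
  have hT1 : T = 1 := by
    have := congrArg (fun X => B * X * B⁻¹) hQ1
    simpa [hQ, mul_assoc] using this
  have h5 := congrFun (h1 (sv (iF a))) (iE b)
  rw [hT1, Units.val_one, Matrix.one_mulVec, bil_sv_left_E, bil_sv_left_E] at h5
  simp [sv, hab, hab.symm] at h5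

lemma omega_not_le_subfieldSubgroup (h2 : (2 : F) ≠ 0) (hm : 3 ≤ m) {F₀ : Subfield F} (hF₀ : F₀ ≠ ⊤)
    (P : GL (Idx m) F) : ¬ omg m F ≤ subfieldSubgroup F₀ P := by
  classical
  intro hle
  obtain ⟨φ, r, hr, hcard, hfix⟩ := exists_maximal_above hF₀
  have hφ : φ ≠ RingEquiv.refl F := fun h =>
    card_eq_pow_ne_top hr hcard (eq_top_iff.2 fun x _ => by rw [mem_fixedField, h]; rfl)
  obtain ⟨p, hp⟩ := CharP.exists F
  haveI hpp : Fact p.Prime := ⟨CharP.char_is_prime F p⟩
  have hQ := nondeg_quad (m := m) h2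
  set A : GL (Idx m) F := P * (glMap φ P)⁻¹ with hA
  let J : (Idx m → F) → (Idx m → F) := fun x => (A : Matrix (Idx m) (Idx m) F) *ᵥ fun i => φ (x i)
  have hmv : ∀ (M : Matrix (Idx m) (Idx m) F) (v : Idx m → F),
      M.map φ *ᵥ (fun i => φ (v i)) = fun i => φ ((M *ᵥ v) i) := fun M v => by
    funext i
    exact (RingHom.map_mulVec (φ : F →+* F) M v i).symm
  have hJadd : ∀ u v, J (u + v) = J u + J v := fun u v => by
    show (A : Matrix (Idx m) (Idx m) F) *ᵥ _ = _
    rw [← Matrix.mulVec_add]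
    congr 1
    funext i
    exact map_add φ _ _
  have hJsmul : ∀ (a : F) v, J (a • v) = φ a • J v := fun a v => by
    show (A : Matrix (Idx m) (Idx m) F) *ᵥ _ = _
    rw [← Matrix.mulVec_smul]
    congr 1
    funext i
    exact map_mul φ _ _
  have hplane : ∀ e f : Idx m → F, Cfsg.quadFormOdd m F e = 0 → Cfsg.quadFormOdd m F f = 0 → bil m F f e = 0 →
      (∃ x, bil m F f x = 1 ∧ bil m F e x = 0) → ∃ a b : F, J e = a • e + b • f := by
    rintro e f he hf hef ⟨x, hx1, hx2⟩
    obtain ⟨T, hT, hT1, hTk⟩ := exists_siegel h2 (by omega) he hf hef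
    obtain ⟨g, hg, hgP⟩ := hle hT
    simp only [MulEquiv.coe_toMonoidHom, MulAut.conj_apply] at hgP
    have : (scalars (Idx m) F).Normal := scalars_normal
    obtain ⟨_, ⟨g₀, rfl⟩, z, hz, rfl⟩ := Subgroup.mem_sup_of_normal_right.1 hg
    obtain ⟨μ, hμ⟩ := (mem_scalars_iff z).1 hz
    set G := Matrix.GeneralLinearGroup.map (F₀.subtype : F₀ →+* F) g₀ with hG
    have hG1 : glMap φ G = G := Units.ext (Matrix.ext fun i j => hfix _ (SetLike.coe_mem _))
    have hTp : T ^ p = 1 := by
      apply Units.ext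
      apply Matrix.toLin'.injective
      refine LinearMap.ext fun v => ?_
      rw [Matrix.toLin'_apply, hTk p v, CharP.cast_eq_zero F p]
      simp
    have hzG : G * z = z * G := (scalar_comm hz G).symm
    have hz1 : glMap φ z = z := by
      have h1 : G ^ p * z ^ p = 1 := by
        rw [← (Commute.mul_pow (show Commute G z from hzG) p)]
        have := congrArg (fun X => P⁻¹ * X * P) hTp
        rw [← hgP, conj_pow] at this
        simpa [mul_assoc] using this
      have h3 : glMap φ (z ^ p) = z ^ p := by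
        rw [show z ^ p = (G ^ p)⁻¹ from eq_inv_of_mul_eq_one_right h1, map_inv, map_pow, hG1]
      have h4 := congrArg (fun X : GL (Idx m) F => (X : Matrix (Idx m) (Idx m) F) i0 i0) h3
      simp [glMap_val, hμ, smul_pow, Matrix.smul_one_eq_diagonal, Matrix.diagonal_map,
        Matrix.diagonal_pow] at h4
      apply Units.ext
      have h5 : φ (μ : F) = μ := frobenius_inj F p (by rw [frobenius_def, frobenius_def]; exact h4)
      rw [glMap_val, hμ]
      ext i j
      by_cases hij : i = j <;> simp [hij, h5]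
    have hkey : T * A = A * glMap φ T := by
      rw [hA, ← hgP]
      simp only [map_mul, map_inv, hG1, hz1]
      group
    have h1 := congrArg (fun X : GL (Idx m) F => (X : Matrix (Idx m) (Idx m) F) *ᵥ fun i => φ (x i)) hkey
    simp only [Units.val_mul, ← Matrix.mulVec_mulVec, glMap_val, hmv, hT1] at h1
    rw [hx1, hx2, one_smul, zero_smul, sub_zero] at h1
    change J x + bil m F f (J x) • e - bil m F e (J x) • f = J (x + e) at h1
    rw [hJadd, add_sub_assoc] at h1
    exact ⟨bil m F f (J x), -bil m F e (J x), by rw [← add_left_cancel h1]; module⟩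
  -- eigenvectors
  let k : Fin m := ⟨2, by omega⟩
  let a : Fin m := ⟨0, by omega⟩
  let b : Fin m := ⟨1, by omega⟩
  have hab : a ≠ b := by simp [a, b, Fin.ext_iff]
  have hka : k ≠ a := by simp [a, k, Fin.ext_iff]
  have hkb : k ≠ b := by simp [b, k, Fin.ext_iff]
  have hline : ∀ e : Idx m → F, Cfsg.quadFormOdd m F e = 0 → e (iE k) = 0 → e (iF k) = 0 →
      ∃ a : F, J e = a • e := by
    intro e he hek hfk
    have hb1 : bil m F e (sv (iF k)) = 0 := by
      rw [bil, QuadraticMap.polar_comm, ← bil, bil_sv_left_F]; exact hek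
    have hb2 : bil m F e (sv (iE k)) = 0 := by
      rw [bil, QuadraticMap.polar_comm, ← bil, bil_sv_left_E]; exact hfk
    obtain ⟨a₁, b₁, h1⟩ := hplane e (sv (iE k)) he (quad_sv_E k) (by rw [bil_sv_left_E]; exact hfk)
      ⟨sv (iF k), by rw [bil_sv_left_E]; simp [sv], hb1⟩
    obtain ⟨a₂, b₂, h3⟩ := hplane e (sv (iF k)) he (quad_sv_F k) (by rw [bil_sv_left_F]; exact hek)
      ⟨sv (iE k), by rw [bil_sv_left_F]; simp [sv], hb2⟩
    have h4 := congrFun (h1.symm.trans h3) (iE k)
    simp [sv, hek] at h4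
    exact ⟨a₁, by rw [h1, h4, zero_smul, add_zero]⟩
  obtain ⟨la, hla⟩ := hline (sv (iE a)) (quad_sv_E a) (by simp [sv, hka]) (by simp [sv])
  obtain ⟨lb, hlb⟩ := hline (sv (iE b)) (quad_sv_E b) (by simp [sv, hkb]) (by simp [sv])
  have ht : ∀ t : F, ∃ l : F, la = l ∧ φ t * lb = l * t := by
    intro t
    obtain ⟨l, hl⟩ := hline (sv (iE a) + t • sv (iE b)) (by simp [Cfsg.quadFormOdd, sv])
      (by simp [sv, hka, hkb]) (by simp [sv])
    rw [hJadd, hJsmul, hla, hlb] at hl
    have e1 := congrFun hl (iE a)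
    have e2 := congrFun hl (iE b)
    simp [sv, hab, hab.symm] at e1 e2
    exact ⟨l, e1, e2⟩
  obtain ⟨l, hl1, hl2⟩ := ht 1
  rw [map_one, one_mul, mul_one] at hl2
  have hlb0 : lb ≠ 0 := by
    intro h0
    rw [h0, zero_smul] at hlb
    have h3 := congrArg (fun z => ((A⁻¹ : GL (Idx m) F) : Matrix (Idx m) (Idx m) F) *ᵥ z) hlb
    simp only [J, inv_mulVec_mulVec, Matrix.mulVec_zero] at h3
    have h4 := congrFun h3 (iE b)
    simp [sv] at h4
  refine hφ (RingEquiv.ext fun t => ?_)
  obtain ⟨l', hl1', hl2'⟩ := ht t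
  rw [RingEquiv.refl_apply]
  refine mul_right_cancel₀ hlb0 ?_
  rw [hl2', ← hl1', hl1, hl2, mul_comm]

end Cfsg.Agent.AschPrimeOrthProper
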