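/-
Aschbacher's theorem in prime dimension, orthogonal case: every maximal subgroup of Ω is geometric or residual.
-/
import Cfsg.Agent.Lib.AschPrimeOrthProper
import Cfsg.Agent.Lib.TransvectionUnitary

set_option autoImplicit false

namespace Cfsg.Agent.AschPrimeOrth

open scoped Matrix
open Cfsg Cfsg.Geo Cfsg.Agent.AschPrimeBasic Cfsg.Agent.AschPrimeClifford Cfsg.Agent.AschPrimeExtra
  Cfsg.Agent.AschPrimeCore Cfsg.Agent.AschPrimeForms Cfsg.Agent.AschPrimeOrthProper

variable {m : ℕ} {F : Type*} [Field F] [Fintype F]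

lemma quad_smul (h2 : (2 : F) ≠ 0) (c : F) (v : Idx m → F) :
    Cfsg.quadFormOdd m F (c • v) = c * c * Cfsg.quadFormOdd m F v := by
  rw [(nondeg_quad h2).smul, sq]

omit [Fintype F] in
lemma omega_le (g : GL (Idx m) F) (hg : g ∈ omg m F) :
    (∀ v, Cfsg.quadFormOdd m F ((g : Matrix (Idx m) (Idx m) F) *ᵥ v) = Cfsg.quadFormOdd m F v) ∧
      g ∈ specialLinear (Idx m) F := by
  obtain ⟨g', hg', rfl⟩ := hg
  refine ⟨fun v => g'.2 v v, ?_⟩
  have h1 : commutator (isometryGroup F (Cfsg.quadFormOdd m F)) ≤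
      (Matrix.GeneralLinearGroup.det.comp (isometryGroup F (Cfsg.quadFormOdd m F)).subtype).ker := by
    rw [commutator_eq_closure]
    refine (Subgroup.closure_le _).2 ?_
    rintro _ ⟨a, b, rfl⟩
    simp only [SetLike.mem_coe, MonoidHom.mem_ker, map_commutatorElement]
    exact commutatorElement_eq_one_iff_mul_comm.2 (mul_comm _ _)
  exact h1 hg'

omit [Fintype F] in
lemma iso_bil (g : GL (Idx m) F) (hg : g ∈ omg m F) (u v : Idx m → F) :
    bil m F ((g : Matrix (Idx m) (Idx m) F) *ᵥ u) ((g : Matrix (Idx m) (Idx m) F) *ᵥ v) = bil m F u v := by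
  simp only [bil, QuadraticMap.polar, ← Matrix.mulVec_add, (omega_le g hg).1]

/-- the Gram matrix -/
noncomputable abbrev gm (m : ℕ) (F : Type*) [Field F] : Matrix (Idx m) (Idx m) F := gramMatrix (bil m F)

lemma iso_matrix (h2 : (2 : F) ≠ 0) (g : GL (Idx m) F) (hg : g ∈ omg m F) :
    (g : Matrix (Idx m) (Idx m) F)ᵀ * gm m F * (g : Matrix (Idx m) (Idx m) F) = gm m F := by
  have := ((sesq_of_bilinear (nondeg_quad (m := m) h2).polar_bilinear).similar_iff
    (g : Matrix (Idx m) (Idx m) F) 1).1 fun u v => by rw [one_mul]; exact iso_bil g hg u v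
  simpa using this

lemma gm_det (h2 : (2 : F) ≠ 0) : (gm m F).det ≠ 0 :=
  (sesq_of_bilinear (nondeg_quad (m := m) h2).polar_bilinear).det_ne_zero (nondeg_quad h2).nondegenerate

/-- the determinant of the Gram matrix up to squares -/
lemma gm_det_class (h2 : (2 : F) ≠ 0) :
    ∃ c : F, c ≠ 0 ∧ (gm m F).det * c ^ 2 = 2 ^ (2 * m + 1) * (-1) ^ m := by
  classical
  let C : Matrix (Idx m) (Idx m) F := Matrix.of fun r k =>
    Sum.elim (fun _ => sv (F := F) i0 r) (Sum.elim (fun i => sv (F := F) (iE i) r + sv (iF i) r)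
      (fun i => sv (F := F) (iE i) r - sv (iF i) r)) k
  let D : Idx m → F := Sum.elim (fun _ => 2) (Sum.elim (fun _ => 2) (fun _ => -2))
  have hcolv : ∀ k, C.col k =
      Sum.elim (fun _ => sv (F := F) i0) (Sum.elim (fun i => sv (F := F) (iE i) + sv (iF i))
        (fun i => sv (F := F) (iE i) - sv (iF i))) k := by
    intro k
    funext r
    rcases k with ⟨⟩ | i | i <;> simp [C]
  have h1 : Cᵀ * gm m F * C = Matrix.diagonal D := by
    have hses := sesq_of_bilinear (nondeg_quad (m := m) h2).polar_bilinear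
    ext k l
    have h3 := hses.transform C (Pi.single k 1) (Pi.single l 1)
    simp only [RingEquiv.refl_apply, single_dotProduct, Matrix.mulVec_single_one, one_mul] at h3
    rw [show C.map (RingEquiv.refl F) = C from rfl] at h3
    refine h3.symm.trans ?_
    show bil m F (C.col k) (C.col l) = _
    rw [hcolv, hcolv, Matrix.diagonal_apply]
    have hB : IsBilinearForm (bil m F) := (nondeg_quad h2).polar_bilinear
    have hsubl : ∀ (u w v : Idx m → F), bil m F (u - w) v = bil m F u v - bil m F w v := fun u w v => by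
      rw [eq_sub_iff_add_eq, ← hB.add_left, sub_add_cancel]
    rcases k with ⟨⟩ | i | i <;>
      simp only [Sum.elim_inl, Sum.elim_inr, hB.add_left, hsubl, bil_sv_left_0, bil_sv_left_E, bil_sv_left_F]
    · rcases l with ⟨⟩ | j | j <;> simp [sv, D]
    · rcases l with ⟨⟩ | j | j
      · simp [sv]
      · by_cases hij : i = j
        · subst hij; simp [sv, D]; norm_num
        · simp [sv, hij]
      · by_cases hij : i = j
        · subst hij; simp [sv]
        · simp [sv, hij]
    · rcases l with ⟨⟩ | j | j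
      · simp [sv]
      · by_cases hij : i = j
        · subst hij; simp [sv]
        · simp [sv, hij]
      · by_cases hij : i = j
        · subst hij; simp [sv, D]; ring
        · simp [sv, hij]
  have h3 := congrArg Matrix.det h1
  rw [Matrix.det_mul, Matrix.det_mul, Matrix.det_transpose, Matrix.det_diagonal] at h3
  have h4 : ∏ k, D k = 2 ^ (2 * m + 1) * (-1) ^ m := by
    simp only [D, Fintype.prod_sum_type, Sum.elim_inl, Sum.elim_inr, Finset.prod_const, Finset.card_univ,
      Fintype.card_fin, Fintype.card_unit, pow_one]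
    rw [neg_pow (2 : F), pow_succ, two_mul m, pow_add]
    ring
  rw [h4] at h3
  refine ⟨C.det, fun h0 => ?_, by rw [← h3]; ring⟩
  rw [h0, zero_mul, zero_mul] at h3
  exact mul_ne_zero (pow_ne_zero _ h2) (pow_ne_zero _ (neg_ne_zero.2 one_ne_zero)) h3.symm

lemma card_idx : Fintype.card (Idx m) = 2 * m + 1 := by simp; omega

/-- the orthogonal of a subspace -/
noncomputable def perp (h2 : (2 : F) ≠ 0) (W : Submodule F (Idx m → F)) : Submodule F (Idx m → F) where
  carrier := {v | ∀ w ∈ W, bil m F v w = 0}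
  add_mem' {u v} hu hv w hw := by
    show QuadraticMap.polar (Cfsg.quadFormOdd m F) (u + v) w = 0
    rw [(nondeg_quad h2).polar_bilinear.add_left]
    exact (congrArg₂ (· + ·) (hu w hw) (hv w hw)).trans (add_zero _)
  zero_mem' w _ := by simp [bil, QuadraticMap.polar, Cfsg.quadFormOdd]
  smul_mem' c v hv w hw := by
    show QuadraticMap.polar (Cfsg.quadFormOdd m F) (c • v) w = 0
    rw [(nondeg_quad h2).polar_bilinear.smul_left]
    exact mul_eq_zero_of_right _ (hv w hw)

lemma inv_perp (h2 : (2 : F) ≠ 0) {H : Subgroup (GL (Idx m) F)} (hH : H ≤ omg m F)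
    {W : Submodule F (Idx m → F)} (hW : Inv H W) : Inv H (perp h2 W) := by
  intro g hg v hv w hw
  have h1 := hW g⁻¹ (H.inv_mem hg) w hw
  have h3 := iso_bil g (hH hg) v (((g⁻¹ : GL (Idx m) F) : Matrix (Idx m) (Idx m) F) *ᵥ w)
  rw [mulVec_inv_mulVec] at h3
  rw [h3]
  exact hv _ h1

lemma perp_facts (h2 : (2 : F) ≠ 0) {W : Submodule F (Idx m → F)} (hU : W ⊓ perp h2 W = ⊥) :
    IsNondegenerateOn (bil m F) W ∧ IsNondegenerateOn (bil m F) (perp h2 W) ∧
      Module.finrank F W + Module.finrank F (perp h2 W) = 2 * m + 1 ∧ W ⊔ perp h2 W = ⊤ := by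
  have hB : IsBilinearForm (bil m F) := (nondeg_quad h2).polar_bilinear
  have hnd : ∀ U : Submodule F (Idx m → F), (∀ u ∈ U, (∀ x ∈ U, bil m F u x = 0) → u = 0) →
      IsNondegenerateOn (bil m F) U := by
    intro U h w hw hw0
    obtain ⟨x, hx, hne⟩ : ∃ x ∈ U, bil m F w x ≠ 0 := by
      by_contra hall
      push Not at hall
      exact hw0 (h w hw hall)
    refine ⟨⟨x, hx, fun h0 => hne ?_⟩, x, hx, hne⟩
    rw [bil, QuadraticMap.polar_comm]; exact h0
  let bW := Module.finBasis F W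
  let L : (Idx m → F) →ₗ[F] (Fin (Module.finrank F W) → F) :=
    { toFun := fun v k => bil m F v (bW k : Idx m → F)
      map_add' := fun u v => funext fun k => hB.add_left u v _
      map_smul' := fun c v => funext fun k => hB.smul_left c v _ }
  have hker : LinearMap.ker L ≤ perp h2 W := by
    intro v hv w hw
    have hv' : ∀ k, bil m F v (bW k : Idx m → F) = 0 := fun k => congrFun hv k
    have key : ∀ x ∈ Submodule.span F (Set.range bW), bil m F v (x : Idx m → F) = 0 := by
      intro x hx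
      induction hx using Submodule.span_induction with
      | mem x hx => obtain ⟨k, rfl⟩ := hx; exact hv' k
      | zero =>
        show bil m F v (0 : Idx m → F) = 0
        simp [bil, QuadraticMap.polar, Cfsg.quadFormOdd]
      | add y z _ _ hy hz => rw [Submodule.coe_add, hB.add_right, hy, hz, add_zero]
      | smul c y _ hy => rw [Submodule.coe_smul, hB.smul_right, hy, mul_zero]
    exact key _ (bW.mem_span (⟨w, hw⟩ : W))
  have hdim : 2 * m + 1 ≤ Module.finrank F W + Module.finrank F (perp h2 W) := by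
    have h1 := LinearMap.finrank_range_add_finrank_ker L
    have h3 : Module.finrank F (LinearMap.range L) ≤ Module.finrank F W :=
      (Submodule.finrank_le _).trans (by simp)
    have h4 := Submodule.finrank_mono hker
    rw [Module.finrank_pi, card_idx] at h1
    omega
  have hsum := Submodule.finrank_sup_add_finrank_inf_eq W (perp h2 W)
  rw [hU, finrank_bot, add_zero] at hsum
  have htop : W ⊔ perp h2 W = ⊤ := by
    apply Submodule.eq_top_of_finrank_eq
    have := Submodule.finrank_le (W ⊔ perp h2 W)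
    rw [Module.finrank_pi, card_idx] at this ⊢
    omega
  refine ⟨hnd W fun u hu h => (Submodule.eq_bot_iff _).1 hU u ⟨hu, h⟩, hnd _ fun u hu h => ?_, ?_, htop⟩
  · by_contra hu0
    obtain ⟨x, hx⟩ := ((nondeg_quad h2).nondegenerate u hu0).2
    obtain ⟨w, hw, w', hw', rfl⟩ := Submodule.mem_sup.1 (show x ∈ W ⊔ perp h2 W by rw [htop]; trivial)
    apply hx
    show bil m F u (w + w') = 0
    rw [hB.add_right, hu w hw, h w' hw', add_zero]
  · rw [← hsum, htop, finrank_top, Module.finrank_pi, card_idx]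

/-- a reducible subgroup fixes a totally singular subspace or a suitable non-degenerate one -/
lemma reducible_cases (h2 : (2 : F) ≠ 0) (hm : 2 ≤ m) {H : Subgroup (GL (Idx m) F)} (hH : H ≤ omg m F)
    {W : Submodule F (Idx m → F)} (hW : Inv H W) (hb : W ≠ ⊥) (ht : W ≠ ⊤) :
    (∃ U, U ≠ ⊥ ∧ U ≠ ⊤ ∧ Inv H U ∧ IsTotallySingularQuad (Cfsg.quadFormOdd m F) U) ∨
    (∃ U, U ≠ ⊥ ∧ U ≠ ⊤ ∧ Inv H U ∧ Even (Module.finrank F U) ∧ IsNondegenerateOn (bil m F) U ∧
      ¬ (Fintype.card F = 3 ∧ Module.finrank F U = 2 ∧ IsPlusTypeOn (Cfsg.quadFormOdd m F) U)) := by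
  classical
  by_cases hU : W ⊓ perp h2 W = ⊥
  swap
  · left
    refine ⟨W ⊓ perp h2 W, hU, fun h => ht (eq_top_iff.2 (h ▸ inf_le_left)),
      fun g hg x hx => ⟨hW g hg x hx.1, inv_perp h2 hH hW g hg x hx.2⟩, fun w hw => ?_⟩
    have h1 : bil m F w w = 0 := hw.2 w hw.1
    rw [bil, polar_self (nondeg_quad h2)] at h1
    exact (mul_eq_zero.1 h1).resolve_left h2
  right
  obtain ⟨U, hUb, hUi, hUev, hUnd, hUperp⟩ : ∃ U, U ≠ ⊥ ∧ Inv H U ∧ Even (Module.finrank F U) ∧
      IsNondegenerateOn (bil m F) U ∧ True := by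
    obtain ⟨hWn, hPn, hsum, htop⟩ := perp_facts h2 hU
    rcases Nat.even_or_odd (Module.finrank F W) with h | h
    · exact ⟨W, hb, hW, h, hWn, trivial⟩
    · refine ⟨perp h2 W, fun h' => ht (by rwa [h', sup_bot_eq] at htop), inv_perp h2 hH hW, ?_, hPn, trivial⟩
      obtain ⟨k, hk⟩ := h
      exact ⟨m - k, by omega⟩
  have htop : U ≠ ⊤ := by
    rintro rfl
    rw [finrank_top, Module.finrank_pi, card_idx] at hUev
    exact Nat.not_even_iff_odd.2 ⟨m, rfl⟩ hUev
  by_cases hex : ¬ (Fintype.card F = 3 ∧ Module.finrank F U = 2 ∧ IsPlusTypeOn (Cfsg.quadFormOdd m F) U)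
  · exact ⟨U, hUb, htop, hUi, hUev, hUnd, hex⟩
  push Not at hex
  obtain ⟨h3, hd, S, hSU, hS, hSd⟩ := hex
  have hB : IsBilinearForm (bil m F) := (nondeg_quad h2).polar_bilinear
  have hcomm : ∀ u v, bil m F u v = bil m F v u := fun u v => QuadraticMap.polar_comm _ u v
  -- a hyperbolic basis of the plane
  obtain ⟨e, he, he0⟩ := (Submodule.ne_bot_iff S).1 (fun h => by rw [h, finrank_bot, hd] at hSd; omega)
  obtain ⟨-, x, hx, hxe⟩ := hUnd e (hSU he) he0
  set x' := (bil m F e x)⁻¹ • x with hx'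
  set f := x' - (Cfsg.quadFormOdd m F x') • e with hf
  have hex' : bil m F e x' = 1 := by rw [hx', hB.smul_right, inv_mul_cancel₀ hxe]
  have hxU' : x' ∈ U := U.smul_mem _ hx
  clear_value x'
  have hee : bil m F e e = 0 := by rw [bil, polar_self (nondeg_quad h2), hS e he, mul_zero]
  have hQe : Cfsg.quadFormOdd m F e = 0 := hS e he
  have hQf : Cfsg.quadFormOdd m F f = 0 := by
    rw [hf, sub_eq_add_neg, ← neg_smul, quad_add, (quad_smul h2), hQe, hB.smul_right,
      hcomm x' e, hex']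
    ring
  have hef : bil m F e f = 1 := by
    rw [hf, sub_eq_add_neg, ← neg_smul, hB.add_right, hB.smul_right, hee, hex']
    ring
  have hfU : f ∈ U := U.sub_mem hxU' (U.smul_mem _ (hSU he))
  have hspan : ∀ u ∈ U, ∃ a b : F, u = a • e + b • f := by
    have hli : LinearIndependent F ![(⟨e, hSU he⟩ : U), ⟨f, hfU⟩] := by
      refine LinearIndependent.pair_iff.2 fun a b h => ?_
      have h' : a • e + b • f = 0 := congrArg Subtype.val h
      have hb0 : b = 0 := by
        have := congrArg (bil m F e) h'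
        rw [hB.add_right, hB.smul_right, hB.smul_right, hee, hef] at this
        simpa [bil, QuadraticMap.polar, Cfsg.quadFormOdd] using this
      refine ⟨?_, hb0⟩
      rw [hb0, zero_smul, add_zero] at h'
      exact (smul_eq_zero.1 h').resolve_right he0
    intro u hu
    have hs := hli.span_eq_top_of_card_eq_finrank (by rw [Fintype.card_fin, hd])
    have hu' : (⟨u, hu⟩ : U) ∈ Submodule.span F (Set.range ![(⟨e, hSU he⟩ : U), ⟨f, hfU⟩]) := by
      rw [hs]; trivial
    simp only [Matrix.range_cons, Matrix.range_empty, Set.union_empty, Set.union_singleton] at hu'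
    obtain ⟨a, b, hab⟩ := Submodule.mem_span_pair.1 hu'
    refine ⟨b, a, ?_⟩
    have := congrArg Subtype.val hab
    simp only [Submodule.coe_add, Submodule.coe_smul] at this
    rw [← this, add_comm]
  have hval : ∀ a b : F, Cfsg.quadFormOdd m F (a • e + b • f) = a * b := by
    intro a b
    rw [quad_add, (quad_smul h2), (quad_smul h2), hQe, hQf, hB.smul_left, hB.smul_right, hef]
    ring
  set X : Submodule F (Idx m → F) := Submodule.span F {e + f} with hX
  have hone : Cfsg.quadFormOdd m F (e + f) = 1 := by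
    simpa using hval 1 1
  have h30 : (3 : F) = 0 := by
    have := Nat.cast_card_eq_zero F
    rw [h3] at this
    exact_mod_cast this
  have hXi : Inv H X := by
    intro g hg w hw
    obtain ⟨c, rfl⟩ := Submodule.mem_span_singleton.1 hw
    obtain ⟨a, b, hab⟩ := hspan _ (hUi g hg _ (U.add_mem (hSU he) hfU))
    have h1 : a * b = 1 := by
      rw [← hval, ← hab, (omega_le g (hH hg)).1, hone]
    have hsq : a * a = 1 := by
      have ha : a ≠ 0 := fun h => by simp [h] at h1
      have := FiniteField.pow_card_sub_one_eq_one a ha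
      rw [h3] at this
      simpa [sq] using this
    have hab' : b = a := by linear_combination a * h1 - b * hsq
    rw [Matrix.mulVec_smul, hab, hab', ← smul_add, smul_smul]
    exact Submodule.smul_mem _ _ (Submodule.mem_span_singleton_self _)
  have hef0 : e + f ≠ 0 := fun h => by
    rw [h] at hone
    simp [Cfsg.quadFormOdd] at hone
  have hXU : X ⊓ perp h2 X = ⊥ := by
    refine (Submodule.eq_bot_iff _).2 fun w hw => ?_
    obtain ⟨c, rfl⟩ := Submodule.mem_span_singleton.1 hw.1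
    have h1 := hw.2 _ hw.1
    rw [bil, polar_self (nondeg_quad h2), (quad_smul h2), hone, mul_one] at h1
    rw [mul_self_eq_zero.1 ((mul_eq_zero.1 h1).resolve_left h2), zero_smul]
  obtain ⟨-, hPn, hsum, -⟩ := perp_facts h2 hXU
  rw [finrank_span_singleton hef0] at hsum
  refine ⟨perp h2 X, fun h => ?_, fun h => ?_, inv_perp h2 hH hXi, ⟨m, by omega⟩, hPn, fun h => ?_⟩
  · rw [h, finrank_bot] at hsum; omega
  · rw [h, finrank_top, Module.finrank_pi, card_idx] at hsum; omega
  · obtain ⟨-, h', -⟩ := h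
    omega

/-- a family of lines attached to an abelian normal subgroup is orthogonal with isometric members -/
lemma lines_orthogonal (h2 : (2 : F) ≠ 0) {H N : Subgroup (GL (Idx m) F)}
    (hO : H ≤ omg m F) (hirr : Irred H) (hNH : N ≤ H) {t : ℕ} (ht : t = 2 * m + 1)
    {D : Fin t → Submodule F (Idx m → F)} (hD : IsMDecomposition 1 D) (hle : H ≤ decompositionStabilizer D)
    {χ : Fin t → N → F} (hχ : Function.Injective χ) (hDe : ∀ i, D i = eigen N (χ i)) :
    IsOrthogonalMDecomposition (Cfsg.quadFormOdd m F) 1 D := by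
  classical
  have hB : IsBilinearForm (bil m F) := (nondeg_quad h2).polar_bilinear
  have hQs := quad_smul (m := m) h2
  have hlines : ∀ i, ∃ v : Idx m → F, v ∈ D i ∧ v ≠ 0 ∧ ∀ w ∈ D i, ∃ c : F, c • v = w := by
    intro i
    obtain ⟨⟨v, hv⟩, hv0, hsp⟩ := finrank_eq_one_iff'.1 (hD.finrank_eq i)
    exact ⟨v, hv, fun h => hv0 (Subtype.ext h), fun w hw => by
      obtain ⟨c, hc⟩ := hsp ⟨w, hw⟩
      exact ⟨c, congrArg Subtype.val hc⟩⟩
  choose v hv hv0 hsp using hlines
  have hprod : ∀ i j, bil m F (v i) (v j) ≠ 0 → ∀ g, χ i g * χ j g = 1 := by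
    intro i j hne g
    have h1 := iso_bil (g : GL (Idx m) F) (hO (hNH g.2)) (v i) (v j)
    rw [(mem_eigen.1 ((hDe i).le (hv i)) g), (mem_eigen.1 ((hDe j).le (hv j)) g),
      hB.smul_left, hB.smul_right, ← mul_assoc] at h1
    exact mul_right_cancel₀ hne (by rw [one_mul]; exact h1)
  have huniq : ∀ i j k, bil m F (v i) (v j) ≠ 0 → bil m F (v i) (v k) ≠ 0 → j = k := by
    intro i j k hj hk
    refine hχ (funext fun g => ?_)
    have e1 := hprod i j hj g
    have h0 : χ i g ≠ 0 := fun h => by simp [h] at e1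
    exact mul_left_cancel₀ h0 (e1.trans (hprod i k hk g).symm)
  have hex : ∀ i, ∃ j, bil m F (v i) (v j) ≠ 0 := by
    intro i
    by_contra hall
    push Not at hall
    obtain ⟨x, hx⟩ := ((nondeg_quad h2).nondegenerate (v i) (hv0 i)).2
    apply hx
    show bil m F (v i) x = 0
    have key : ∀ y ∈ iSup D, bil m F (v i) y = 0 := by
      intro y hy
      induction hy using Submodule.iSup_induction' with
      | mem j y hy =>
        obtain ⟨c, rfl⟩ := hsp j y hy
        rw [hB.smul_right, hall j, mul_zero]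
      | zero => simp [bil, QuadraticMap.polar, Cfsg.quadFormOdd]
      | add y z _ _ hy hz => rw [hB.add_right, hy, hz, add_zero]
    exact key x (by rw [hD.iSup_eq_top]; trivial)
  choose τ hτ using hex
  have hinv : ∀ i, τ (τ i) = i := by
    intro i
    refine huniq (τ i) _ _ (hτ (τ i)) ?_
    rw [bil, QuadraticMap.polar_comm]
    exact hτ i
  obtain ⟨i₀, hi₀⟩ : ∃ i, τ i = i := by
    by_contra hcon
    push Not at hcon
    let π : Equiv.Perm (Fin t) := ⟨τ, τ, hinv, hinv⟩
    have hsq : π ^ 2 = 1 := by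
      ext i
      simp [sq, π, hinv]
    have h3 : π.support = Finset.univ := Finset.eq_univ_of_forall fun i =>
      Equiv.Perm.mem_support.2 (hcon i)
    have := Equiv.Perm.two_dvd_card_support hsq
    rw [h3, Finset.card_univ, Fintype.card_fin, ht] at this
    omega
  have hq0 : Cfsg.quadFormOdd m F (v i₀) ≠ 0 := by
    have := hτ i₀
    rw [hi₀, bil, polar_self (nondeg_quad h2)] at this
    exact (mul_ne_zero_iff.1 this).2
  have hall : ∀ i, ∃ c : F, c ≠ 0 ∧ Cfsg.quadFormOdd m F (v i) = c * c * Cfsg.quadFormOdd m F (v i₀) := by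
    set S := {i | ∃ c : F, c ≠ 0 ∧ Cfsg.quadFormOdd m F (v i) = c * c * Cfsg.quadFormOdd m F (v i₀)} with hS
    set W : Submodule F (Idx m → F) := ⨆ i ∈ S, D i with hW
    have hWinv : Inv H W := by
      intro h hh w hw
      obtain ⟨σ, hσ⟩ := hle hh
      have hmap : W.map (Matrix.toLin' (h : Matrix (Idx m) (Idx m) F)) ≤ W := by
        simp only [hW, Submodule.map_iSup, iSup_le_iff]
        intro i hi
        rw [hσ i]
        refine le_biSup D ?_
        obtain ⟨c, hc0, hc⟩ := hi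
        have hmem : (h : Matrix (Idx m) (Idx m) F) *ᵥ v i ∈ D (σ i) := hσ i ▸ ⟨v i, hv i, by simp⟩
        obtain ⟨d, hd⟩ := hsp _ _ hmem
        have h1 := (omega_le h (hO hh)).1 (v i)
        rw [← hd, hQs, hc] at h1
        have hd0 : d ≠ 0 := by
          intro h0
          rw [h0, mul_zero, zero_mul] at h1
          exact mul_ne_zero (mul_ne_zero hc0 hc0) hq0 h1.symm
        refine ⟨c / d, div_ne_zero hc0 hd0, ?_⟩
        field_simp
        linear_combination h1
      simpa using hmap ⟨w, hw, rfl⟩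
    have hWne : W ≠ ⊥ := fun h => hv0 i₀
      ((Submodule.eq_bot_iff W).1 h _ (le_biSup D (show i₀ ∈ S from ⟨1, one_ne_zero, by ring⟩) (hv i₀)))
    have hWtop := (hirr W hWinv).resolve_left hWne
    intro i
    by_contra hi
    have hd : Disjoint (D i) W := hD.indep.disjoint_biSup (fun h => hi h)
    exact hv0 i (Submodule.disjoint_def.1 hd _ (hv i) (by rw [hWtop]; trivial))
  have hqi : ∀ i, Cfsg.quadFormOdd m F (v i) ≠ 0 := fun i => by
    obtain ⟨c, hc0, hc⟩ := hall i
    rw [hc]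
    exact mul_ne_zero (mul_ne_zero hc0 hc0) hq0
  have hbi : ∀ i, bil m F (v i) (v i) ≠ 0 := fun i => by
    rw [bil, polar_self (nondeg_quad h2)]
    exact mul_ne_zero h2 (hqi i)
  refine ⟨⟨hD, fun i w hw hw0 => ?_, fun i j hij a ha b hb => ?_⟩, fun i j => ?_⟩
  · obtain ⟨c, rfl⟩ := hsp i w hw
    have hc : c ≠ 0 := fun h => hw0 (by rw [h, zero_smul])
    refine ⟨⟨v i, hv i, ?_⟩, v i, hv i, ?_⟩
    · show bil m F (v i) (c • v i) ≠ 0
      rw [hB.smul_right]
      exact mul_ne_zero hc (hbi i)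
    · show bil m F (c • v i) (v i) ≠ 0
      rw [hB.smul_left]
      exact mul_ne_zero hc (hbi i)
  · obtain ⟨c, rfl⟩ := hsp i a ha
    obtain ⟨d, rfl⟩ := hsp j b hb
    have h0 : bil m F (v i) (v j) = 0 := by
      by_contra hne
      exact hij (huniq i i j (hbi i) hne)
    show bil m F (c • v i) (d • v j) = 0
    rw [hB.smul_left, hB.smul_right, h0, mul_zero, mul_zero]
  · obtain ⟨ci, hci0, hci⟩ := hall i
    obtain ⟨cj, hcj0, hcj⟩ := hall j
    have hvi : (⟨v i, hv i⟩ : D i) ≠ 0 := fun h => hv0 i (congrArg Subtype.val h)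
    have hvj : (⟨(ci / cj) • v j, (D j).smul_mem _ (hv j)⟩ : D j) ≠ 0 := fun h =>
      smul_ne_zero (div_ne_zero hci0 hcj0) (hv0 j) (congrArg Subtype.val h)
    let b1 := Module.Basis.mk (v := fun _ : Unit => (⟨v i, hv i⟩ : D i))
      (LinearIndependent.of_subsingleton () hvi) (fun x _ => by
        obtain ⟨c, hc⟩ := hsp i x x.2
        exact (show c • (⟨v i, hv i⟩ : D i) = x from Subtype.ext hc) ▸
          Submodule.smul_mem _ _ (Submodule.subset_span (Set.mem_range_self (f := fun _ : Unit => _) ())))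
    let b2 := Module.Basis.mk (v := fun _ : Unit => (⟨(ci / cj) • v j, (D j).smul_mem _ (hv j)⟩ : D j))
      (LinearIndependent.of_subsingleton () hvj) (fun x _ => by
        obtain ⟨c, hc⟩ := hsp j x x.2
        refine (show (c * (cj / ci)) • (⟨(ci / cj) • v j, (D j).smul_mem _ (hv j)⟩ : D j) = x from
          Subtype.ext ?_) ▸ Submodule.smul_mem _ _ (Submodule.subset_span (Set.mem_range_self (f := fun _ : Unit => _) ()))
        show (c * (cj / ci)) • ((ci / cj) • v j) = (x : Idx m → F)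
        rw [smul_smul, ← hc]
        congr 1
        field_simp)
    refine ⟨b1.equiv b2 (Equiv.refl _), fun w => ?_⟩
    obtain ⟨c, hc⟩ := hsp i w w.2
    have hw : w = c • b1 () := Subtype.ext (by simp [b1, hc])
    rw [hw, map_smul, Module.Basis.equiv_apply]
    simp only [b1, b2, Module.Basis.mk_apply, Equiv.refl_apply, Submodule.coe_smul, hQs, hci, hcj]
    field_simp

/-- the commutant of isometries is stable under the adjoint -/
lemma adjoint_mem (h2 : (2 : F) ≠ 0) {N : Subgroup (GL (Idx m) F)} (hN : N ≤ omg m F)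
    {k : Matrix (Idx m) (Idx m) F} (hk : k ∈ commutant N) : (gm m F)⁻¹ * kᵀ * gm m F ∈ commutant N := by
  have hu : IsUnit (gm m F).det := isUnit_iff_ne_zero.2 (gm_det h2)
  have key : ∀ g ∈ N, (g : Matrix (Idx m) (Idx m) F)ᵀ * gm m F =
      gm m F * ((g⁻¹ : GL (Idx m) F) : Matrix (Idx m) (Idx m) F) := by
    intro g hg
    have h1 := iso_matrix h2 g (hN hg)
    have := congrArg (· * ((g⁻¹ : GL (Idx m) F) : Matrix (Idx m) (Idx m) F)) h1
    simp only [mul_assoc] at this
    rw [← Units.val_mul, mul_inv_cancel, Units.val_one, mul_one] at this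
    exact this
  refine mem_commutant.2 fun g hg => ?_
  have e1 : (g : Matrix (Idx m) (Idx m) F) * (gm m F)⁻¹ =
      (gm m F)⁻¹ * ((g⁻¹ : GL (Idx m) F) : Matrix (Idx m) (Idx m) F)ᵀ := by
    have h1 := key g⁻¹ (N.inv_mem hg)
    rw [inv_inv] at h1
    have := congrArg (fun X => (gm m F)⁻¹ * X * (gm m F)⁻¹) h1
    simp only [← mul_assoc, Matrix.nonsing_inv_mul _ hu, one_mul] at this
    rw [Matrix.mul_nonsing_inv_cancel_right _ _ hu] at this
    exact this.symm
  calc (g : Matrix (Idx m) (Idx m) F) * ((gm m F)⁻¹ * kᵀ * gm m F)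
      = ((g : Matrix (Idx m) (Idx m) F) * (gm m F)⁻¹) * kᵀ * gm m F := by simp only [mul_assoc]
    _ = (gm m F)⁻¹ * (k * ((g⁻¹ : GL (Idx m) F) : Matrix (Idx m) (Idx m) F))ᵀ * gm m F := by
        rw [e1, Matrix.transpose_mul]; simp only [mul_assoc]
    _ = (gm m F)⁻¹ * (((g⁻¹ : GL (Idx m) F) : Matrix (Idx m) (Idx m) F) * k)ᵀ * gm m F := by
        rw [mem_commutant.1 hk _ (N.inv_mem hg)]
    _ = (gm m F)⁻¹ * kᵀ * gm m F * (g : Matrix (Idx m) (Idx m) F) := by
        rw [Matrix.transpose_mul]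
        simp only [mul_assoc]
        rw [key g⁻¹ (N.inv_mem hg), inv_inv]

/-- no abelian isometry group generates a field of odd degree -/
lemma field_scalar (h2 : (2 : F) ≠ 0) {N : Subgroup (GL (Idx m) F)} (hN : N ≤ omg m F)
    {K : Subalgebra F (Matrix (Idx m) (Idx m) F)} (hK : IsFieldSubalgebra (2 * m + 1) K)
    (hKN : K = commutant N) (hNK : matrixSet N ⊆ (K : Set (Matrix (Idx m) (Idx m) F))) :
    N ≤ scalars (Idx m) F := by
  classical
  have hu : IsUnit (gm m F).det := isUnit_iff_ne_zero.2 (gm_det h2)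
  have hmem : ∀ k ∈ K, (gm m F)⁻¹ * kᵀ * gm m F ∈ K := fun k hk => by
    rw [hKN] at hk ⊢
    exact adjoint_mem h2 hN hk
  letI : CommRing K := { (inferInstance : Ring K) with
    mul_comm := fun a b => Subtype.ext (hK.comm _ a.2 _ b.2) }
  haveI : Nontrivial K := ⟨⟨0, 1, fun h => by
    have := congrFun (congrFun (congrArg Subtype.val h) (i0 : Idx m)) (i0 : Idx m)
    simp at this⟩⟩
  have hfield : IsField K := by
    refine ⟨⟨0, 1, zero_ne_one⟩, mul_comm, fun {a} ha => ?_⟩
    obtain ⟨b, hb, hab⟩ := hK.inv _ a.2 (fun h => ha (Subtype.ext h))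
    exact ⟨⟨b, hb⟩, Subtype.ext hab⟩
  letI : Field K := hfield.toField
  haveI : Finite K := inferInstance
  have hsymm : (gm m F)ᵀ = gm m F := by
    ext a b
    exact QuadraticMap.polar_comm _ _ _
  have hsymm' : ((gm m F)⁻¹)ᵀ = (gm m F)⁻¹ := by rw [Matrix.transpose_nonsing_inv, hsymm]
  have hinv2 : ∀ k : Matrix (Idx m) (Idx m) F,
      (gm m F)⁻¹ * ((gm m F)⁻¹ * kᵀ * gm m F)ᵀ * gm m F = k := by
    intro k
    rw [Matrix.transpose_mul, Matrix.transpose_mul, Matrix.transpose_transpose, hsymm, hsymm', ← mul_assoc,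
      Matrix.nonsing_inv_mul _ hu, one_mul, mul_assoc, Matrix.nonsing_inv_mul _ hu, mul_one]
  let τ : K →ₐ[F] K :=
    { toFun := fun k => ⟨_, hmem k k.2⟩
      map_one' := Subtype.ext (by
        show (gm m F)⁻¹ * ((1 : Matrix (Idx m) (Idx m) F))ᵀ * gm m F = 1
        rw [Matrix.transpose_one, mul_one, Matrix.nonsing_inv_mul _ hu])
      map_mul' := fun a b => Subtype.ext (by
        show (gm m F)⁻¹ * ((a : Matrix (Idx m) (Idx m) F) * (b : Matrix (Idx m) (Idx m) F))ᵀ * gm m F =
          ((gm m F)⁻¹ * (a : Matrix (Idx m) (Idx m) F)ᵀ * gm m F) *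
            ((gm m F)⁻¹ * (b : Matrix (Idx m) (Idx m) F)ᵀ * gm m F)
        rw [hK.comm _ a.2 _ b.2, Matrix.transpose_mul]
        simp only [mul_assoc]
        rw [Matrix.mul_nonsing_inv_cancel_left _ _ hu])
      map_zero' := Subtype.ext (by
        show (gm m F)⁻¹ * ((0 : Matrix (Idx m) (Idx m) F))ᵀ * gm m F = 0
        simp)
      map_add' := fun a b => Subtype.ext (by
        show (gm m F)⁻¹ * ((a : Matrix (Idx m) (Idx m) F) + (b : Matrix (Idx m) (Idx m) F))ᵀ * gm m F =
          (gm m F)⁻¹ * (a : Matrix (Idx m) (Idx m) F)ᵀ * gm m F +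
            (gm m F)⁻¹ * (b : Matrix (Idx m) (Idx m) F)ᵀ * gm m F
        rw [Matrix.transpose_add, mul_add, add_mul])
      commutes' := fun c => Subtype.ext (by
        show (gm m F)⁻¹ * ((algebraMap F (Matrix (Idx m) (Idx m) F)) c)ᵀ * gm m F = algebraMap F _ c
        rw [Algebra.algebraMap_eq_smul_one, Matrix.transpose_smul, Matrix.transpose_one, Matrix.mul_smul,
          mul_one, Matrix.smul_mul, Matrix.nonsing_inv_mul _ hu]) }
  let τe : K ≃ₐ[F] K := AlgEquiv.ofAlgHom τ τ (AlgHom.ext fun k => Subtype.ext (hinv2 _))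
    (AlgHom.ext fun k => Subtype.ext (hinv2 _))
  have hτ : τe = 1 := by
    have h1 : τe ^ 2 = 1 := by
      rw [sq]
      exact AlgEquiv.ext fun k => Subtype.ext (hinv2 _)
    have hcard : Nat.card (K ≃ₐ[F] K) = 2 * m + 1 := by
      rw [IsGalois.card_aut_eq_finrank, hK.finrank_eq]
    have h3 : τe ^ (2 * m + 1) = 1 := by rw [← hcard]; exact pow_card_eq_one'
    rwa [pow_succ, pow_mul, h1, one_pow, one_mul] at h3
  intro g hg
  set x : K := ⟨(g : Matrix (Idx m) (Idx m) F), hNK ⟨g, hg, rfl⟩⟩ with hx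
  have h1 : τe x = x := by rw [hτ]; rfl
  have h3 : (gm m F)⁻¹ * (g : Matrix (Idx m) (Idx m) F)ᵀ * gm m F = (g : Matrix (Idx m) (Idx m) F) :=
    congrArg Subtype.val h1
  have hgg : (g : Matrix (Idx m) (Idx m) F) * (g : Matrix (Idx m) (Idx m) F) = 1 := by
    have h4 := iso_matrix h2 g (hN hg)
    conv_lhs => arg 1; rw [← h3]
    rw [mul_assoc, mul_assoc, ← mul_assoc _ (gm m F), h4, Matrix.nonsing_inv_mul _ hu]
  have hxx : x * x = 1 := Subtype.ext hgg
  rcases mul_self_eq_one_iff.1 hxx with h | h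
  · exact mem_scalars_of_comm (c := (1 : F)) (by
      rw [one_smul]; exact congrArg Subtype.val h)
  · exact mem_scalars_of_comm (c := (-1 : F)) (by
      rw [neg_smul, one_smul]; exact congrArg Subtype.val h)

/-- an absolutely irreducible group of isometries realised over a subfield gives a rational structure -/
lemma rational_structure (h2 : (2 : F) ≠ 0) {H S : Subgroup (GL (Idx m) F)} (hS : AbsIrred S)
    (hSn : NormalBy H S) (hSO : S ≤ omg m F) {φ : F ≃+* F} {B : GL (Idx m) F}
    (hfix : ∀ s ∈ S, ∀ i j, φ (((B * s * B⁻¹ : GL (Idx m) F) : Matrix (Idx m) (Idx m) F) i j) =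
      ((B * s * B⁻¹ : GL (Idx m) F) : Matrix (Idx m) (Idx m) F) i j) :
    ∃ P : GL (Idx m) F, H ≤ subfieldSubgroup (fixedField φ) P ∧
      IsQuadFormRationalStructure (Cfsg.quadFormOdd m F) (fixedField φ) P := by
  classical
  set M := gm m F with hM
  set Q : Matrix (Idx m) (Idx m) F := ((B⁻¹ : GL (Idx m) F) : Matrix (Idx m) (Idx m) F) with hQ
  set Bm : Matrix (Idx m) (Idx m) F := (B : Matrix (Idx m) (Idx m) F) with hBm
  set G : Matrix (Idx m) (Idx m) F := Qᵀ * M * Q with hG
  have hQB : Q * Bm = 1 := by rw [hQ, hBm, ← Units.val_mul, inv_mul_cancel, Units.val_one]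
  have hBQ : Bm * Q = 1 := by rw [hQ, hBm, ← Units.val_mul, mul_inv_cancel, Units.val_one]
  have hBQT : Bmᵀ * Qᵀ = 1 := by rw [← Matrix.transpose_mul, hQB, Matrix.transpose_one]
  have hQT : Qᵀ * Bmᵀ = 1 := by rw [← Matrix.transpose_mul, hBQ, Matrix.transpose_one]
  have hpull : Bmᵀ * G * Bm = M := by
    rw [hG, ← mul_assoc, ← mul_assoc, hBQT, one_mul, mul_assoc, hQB, mul_one]
  have hGdet : G.det ≠ 0 := fun h0 => by
    have := congrArg Matrix.det hpull
    simp [Matrix.det_mul, h0] at this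
    exact gm_det h2 this.symm
  obtain ⟨c, hc⟩ : ∃ c : F, Bmᵀ * G.map φ * Bm = c • M := by
    refine gram_unique hS (RingEquiv.refl F) (G := M) (G' := Bmᵀ * G.map φ * Bm) (gm_det h2) ?_ ?_
    · intro s hs
      exact iso_matrix h2 s (hSO hs)
    · intro s hs
      set s' := ((B * s * B⁻¹ : GL (Idx m) F) : Matrix (Idx m) (Idx m) F) with hs'
      have hsf : s'.map φ = s' := Matrix.ext fun i j => hfix s hs i j
      have hsM : s' = Bm * (s : Matrix (Idx m) (Idx m) F) * Q := rfl
      have hinv : s'ᵀ * G * s' = G := by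
        rw [hsM, Matrix.transpose_mul, Matrix.transpose_mul]
        calc Qᵀ * ((s : Matrix (Idx m) (Idx m) F)ᵀ * Bmᵀ) * G * (Bm * (s : Matrix (Idx m) (Idx m) F) * Q)
            = Qᵀ * ((s : Matrix (Idx m) (Idx m) F)ᵀ * (Bmᵀ * G * Bm) * (s : Matrix (Idx m) (Idx m) F)) * Q := by
              simp only [mul_assoc]
          _ = G := by rw [hpull, iso_matrix h2 s (hSO hs), hG]
      have h1 := congrArg (fun A => A.map φ) hinv
      simp only [map_mul_map, hsf] at h1
      rw [show (s'ᵀ).map φ = s'ᵀ by rw [Matrix.transpose_map, hsf]] at h1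
      have h3 : Bm * (s : Matrix (Idx m) (Idx m) F) = s' * Bm := by
        rw [hsM, mul_assoc (Bm * (s : Matrix (Idx m) (Idx m) F)), hQB, mul_one]
      show (s : Matrix (Idx m) (Idx m) F)ᵀ * (Bmᵀ * G.map φ * Bm) * (s : Matrix (Idx m) (Idx m) F) =
        Bmᵀ * G.map φ * Bm
      calc (s : Matrix (Idx m) (Idx m) F)ᵀ * (Bmᵀ * G.map φ * Bm) * (s : Matrix (Idx m) (Idx m) F)
          = (Bm * (s : Matrix (Idx m) (Idx m) F))ᵀ * G.map φ * (Bm * (s : Matrix (Idx m) (Idx m) F)) := by
            simp only [Matrix.transpose_mul, mul_assoc]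
        _ = Bmᵀ * (s'ᵀ * G.map φ * s') * Bm := by
            rw [h3]; simp only [Matrix.transpose_mul, mul_assoc]
        _ = Bmᵀ * G.map φ * Bm := by rw [h1]
  have hGφ : G.map φ = c • G := by
    have h1 := congrArg (fun A => Qᵀ * A * Q) hc
    simp only [Matrix.mul_smul, Matrix.smul_mul, ← mul_assoc, hQT, one_mul] at h1
    simp only [mul_assoc, hBQ, mul_one] at h1
    rw [h1, hG, mul_assoc]
  obtain ⟨i₀, j₀, ha⟩ : ∃ i j, G i j ≠ 0 := by
    by_contra hall
    push Not at hall
    exact hGdet (by rw [show G = 0 from Matrix.ext hall, Matrix.det_zero])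
  set a := G i₀ j₀ with ha'
  have hφG : ∀ i j, φ (G i j) = c * G i j := fun i j => congrFun (congrFun hGφ i) j
  have hc0 : c ≠ 0 := fun h0 => by
    have := hφG i₀ j₀
    rw [h0, zero_mul] at this
    exact ha (φ.injective (by rw [map_zero]; exact this))
  have hG0 : ∀ i j, G i j / a ∈ fixedField φ := by
    intro i j
    rw [mem_fixedField, map_div₀, hφG, ha', hφG]
    exact mul_div_mul_left _ _ hc0
  -- rescale by the discriminant
  set G₀ : Matrix (Idx m) (Idx m) F := a⁻¹ • G with hG₀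
  have hG₀mem : G₀.det ∈ fixedField φ := by
    rw [Matrix.det_apply]
    refine sum_mem fun π _ => ?_
    rcases Int.units_eq_one_or (Equiv.Perm.sign π) with h | h <;> rw [h]
    · rw [one_smul]; exact prod_mem fun i _ => by
        rw [hG₀, Matrix.smul_apply, smul_eq_mul, inv_mul_eq_div]; exact hG0 _ _
    · rw [Units.neg_smul, one_smul]; exact neg_mem (prod_mem fun i _ => by
        rw [hG₀, Matrix.smul_apply, smul_eq_mul, inv_mul_eq_div]; exact hG0 _ _)
  obtain ⟨d, hd0, hd⟩ := gm_det_class (m := m) h2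
  set e := G₀.det * (2 * (-1) ^ m) with he
  have hQdet : Q.det ≠ 0 := Matrix.isUnits_det_units B⁻¹ |>.ne_zero
  have hdetG : G.det = Q.det ^ 2 * M.det := by
    rw [hG, Matrix.det_mul, Matrix.det_mul, Matrix.det_transpose]; ring
  have hdetG₀ : G₀.det = (a⁻¹) ^ (2 * m + 1) * G.det := by
    rw [hG₀, Matrix.det_smul, card_idx]
  -- `e / a` is a square
  obtain ⟨l, hl0, hl⟩ : ∃ l : F, l ≠ 0 ∧ l * l = e / a := by
    refine ⟨Q.det * 2 ^ (m + 1) * (d * a ^ (m + 1))⁻¹, mul_ne_zero (mul_ne_zero hQdet (pow_ne_zero _ h2)) (inv_ne_zero (mul_ne_zero hd0 (pow_ne_zero _ ha))), ?_⟩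
    rw [he, hdetG₀, hdetG]
    have h3 : M.det = 2 ^ (2 * m + 1) * (-1) ^ m / d ^ 2 := by
      rw [eq_div_iff (pow_ne_zero _ hd0)]; exact hd
    rw [h3, inv_pow]
    field_simp
    have h4 : ((-1 : F) ^ m) * (-1) ^ m = 1 := by rw [← pow_add, ← two_mul, pow_mul, neg_one_sq, one_pow]
    linear_combination (-1 * 2 ^ (2 * m + 2) * a ^ (2 * m + 2)) * h4
  let z : GL (Idx m) F := Units.map (Matrix.scalar (Idx m) : F →+* Matrix (Idx m) (Idx m) F).toMonoidHom
    (Units.mk0 l hl0)
  have hz : z ∈ scalars (Idx m) F := ⟨_, rfl⟩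
  set P : GL (Idx m) F := B⁻¹ * z with hP
  have hPv : ∀ u, (P : Matrix (Idx m) (Idx m) F) *ᵥ u = l • (Q *ᵥ u) := by
    intro u
    rw [hP, Units.val_mul, ← hQ, show (z : Matrix (Idx m) (Idx m) F) = l • 1 by
      simp [z, Matrix.scalar_apply, Matrix.smul_one_eq_diagonal], Matrix.mul_smul, mul_one,
      Matrix.smul_mulVec]
  have hes : e ∈ fixedField φ := by
    refine mul_mem hG₀mem (mul_mem ?_ (pow_mem (neg_mem (one_mem _)) m))
    rw [show (2 : F) = 1 + 1 by norm_num]
    exact add_mem (one_mem _) (one_mem _)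
  refine ⟨P, fun h hh => ?_, fun u hu => ?_⟩
  · obtain ⟨g, hg, hgh⟩ := le_subfieldSubgroup hS hSn hfix hh
    refine ⟨g, hg, ?_⟩
    rw [← hgh]
    simp only [MulEquiv.coe_toMonoidHom, MulAut.conj_apply, hP]
    calc B⁻¹ * z * g * (B⁻¹ * z)⁻¹ = B⁻¹ * (z * g) * z⁻¹ * B := by group
      _ = B⁻¹ * g * B⁻¹⁻¹ := by rw [scalar_comm hz g]; group
  · have hv : Cfsg.quadFormOdd m F (Q *ᵥ u) = (u ⬝ᵥ (G *ᵥ u)) / 2 := by
      have h3 := (sesq_of_bilinear (nondeg_quad (m := m) h2).polar_bilinear).transform Q u u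
      simp only [RingEquiv.refl_apply] at h3
      rw [polar_self (nondeg_quad h2), show Q.map (RingEquiv.refl F) = Q from rfl] at h3
      rw [eq_div_iff h2, mul_comm]
      exact h3
    rw [hPv, (quad_smul h2), hl, hv]
    have h4 : (e / a) * ((u ⬝ᵥ (G *ᵥ u)) / 2) = e * (∑ i, u i * ∑ j, G i j / a * u j) / 2 := by
      simp only [dotProduct, Matrix.mulVec, Finset.mul_sum, Finset.sum_div]
      exact Finset.sum_congr rfl fun i _ => Finset.sum_congr rfl fun j _ => by ring
    rw [h4]
    refine div_mem (mul_mem hes (sum_mem fun i _ => mul_mem (hu i)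
      (sum_mem fun j _ => mul_mem (hG0 i j) (hu j)))) ?_
    rw [show (2 : F) = 1 + 1 by norm_num]
    exact add_mem (one_mem _) (one_mem _)

/-- with signed permutation matrices in an equal-norm orthogonal basis, a group is defined over any subfield -/
lemma lines_subfield (h2 : (2 : F) ≠ 0) {H : Subgroup (GL (Idx m) F)} (hO : H ≤ omg m F)
    {D : Fin (Fintype.card (Idx m)) → Submodule F (Idx m → F)}
    (hD : IsOrthogonalMDecomposition (Cfsg.quadFormOdd m F) 1 D) (hle : H ≤ decompositionStabilizer D)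
    (φ : F ≃+* F) :
    ∃ P : GL (Idx m) F, H ≤ subfieldSubgroup (fixedField φ) P ∧
      IsQuadFormRationalStructure (Cfsg.quadFormOdd m F) (fixedField φ) P := by
  classical
  have hB : IsBilinearForm (bil m F) := (nondeg_quad h2).polar_bilinear
  have hQs := quad_smul (m := m) h2
  let k₀ : Fin (Fintype.card (Idx m)) := ⟨0, Fintype.card_pos⟩
  obtain ⟨⟨v₀, hv₀⟩, hv₀0, hsp₀⟩ := finrank_eq_one_iff'.1 (hD.decomp.decomp.finrank_eq k₀)
  have hv₀0' : v₀ ≠ 0 := fun h => hv₀0 (Subtype.ext h)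
  set a := Cfsg.quadFormOdd m F v₀ with ha
  have ha0 : a ≠ 0 := by
    intro h0
    obtain ⟨-, x, hx, hne⟩ := hD.decomp.nondegenerate k₀ v₀ hv₀ hv₀0'
    obtain ⟨c, hc⟩ := hsp₀ ⟨x, hx⟩
    apply hne
    rw [show x = c • v₀ from (congrArg Subtype.val hc).symm]
    show bil m F v₀ (c • v₀) = 0
    rw [hB.smul_right, bil, polar_self (nondeg_quad h2), ← ha, h0]; ring
  have hex : ∀ k, ∃ v ∈ D k, Cfsg.quadFormOdd m F v = a := by
    intro k
    obtain ⟨e, he⟩ := hD.isometric k₀ k
    exact ⟨(e ⟨v₀, hv₀⟩ : Idx m → F), (e ⟨v₀, hv₀⟩).2, he ⟨v₀, hv₀⟩⟩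
  choose v hv hva using hex
  have hv0 : ∀ k, v k ≠ 0 := fun k h => ha0 (by
    rw [← hva k, h]; simp [Cfsg.quadFormOdd])
  have hsp : ∀ k, ∀ w ∈ D k, ∃ c : F, c • v k = w := by
    intro k w hw
    obtain ⟨⟨u, hu⟩, hu0, hsu⟩ := finrank_eq_one_iff'.1 (hD.decomp.decomp.finrank_eq k)
    obtain ⟨c, hc⟩ := hsu ⟨v k, hv k⟩
    obtain ⟨d, hd⟩ := hsu ⟨w, hw⟩
    have hc' : c • u = v k := congrArg Subtype.val hc
    have hd' : d • u = w := congrArg Subtype.val hd
    have hc0 : c ≠ 0 := fun h => hv0 k (by rw [← hc', h, zero_smul])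
    exact ⟨d / c, by rw [← hd', ← hc', smul_smul, div_mul_cancel₀ _ hc0]⟩
  let eI : Idx m ≃ Fin (Fintype.card (Idx m)) := Fintype.equivFin _
  have hli : LinearIndependent F (fun i => v (eI i)) :=
    (hD.decomp.decomp.indep.comp eI.injective).linearIndependent _ (fun i => hv (eI i)) (fun i => hv0 (eI i))
  let Bm : Matrix (Idx m) (Idx m) F := Matrix.of fun r i => v (eI i) r
  have hBdet : Bm.det ≠ 0 := by
    have h1 : IsUnit Bm := Matrix.linearIndependent_cols_iff_isUnit.1 hli
    exact ((Matrix.isUnit_iff_isUnit_det _).1 h1).ne_zero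
  -- the common norm up to squares
  obtain ⟨d, hd0, hd⟩ := gm_det_class (m := m) h2
  have hgram : Bmᵀ * gm m F * Bm = (2 * a) • (1 : Matrix (Idx m) (Idx m) F) := by
    have hses := sesq_of_bilinear (nondeg_quad (m := m) h2).polar_bilinear
    ext k l
    have h3 := hses.transform Bm (Pi.single k 1) (Pi.single l 1)
    simp only [RingEquiv.refl_apply, single_dotProduct, Matrix.mulVec_single_one, one_mul] at h3
    rw [show Bm.map (RingEquiv.refl F) = Bm from rfl] at h3
    refine h3.symm.trans ?_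
    show bil m F (Bmᵀ k) (Bmᵀ l) = _
    show bil m F (v (eI k)) (v (eI l)) = _
    by_cases hkl : k = l
    · subst hkl
      rw [bil, polar_self (nondeg_quad h2), hva]
      simp
    · rw [show bil m F (v (eI k)) (v (eI l)) = 0 from
        hD.decomp.orthogonal _ _ (fun h => hkl (eI.injective h)) _ (hv _) _ (hv _)]
      simp [hkl]
  have hdet := congrArg Matrix.det hgram
  rw [Matrix.det_mul, Matrix.det_mul, Matrix.det_transpose, Matrix.det_smul, Matrix.det_one, mul_one, card_idx]
    at hdet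
  obtain ⟨l, hl0, hl⟩ : ∃ l : F, l ≠ 0 ∧ a * (l * l) = (-1) ^ m := by
    refine ⟨Bm.det / (d * a ^ (m + 1)), div_ne_zero hBdet (mul_ne_zero hd0 (pow_ne_zero _ ha0)), ?_⟩
    have h3 : (gm m F).det = 2 ^ (2 * m + 1) * (-1) ^ m / d ^ 2 := by
      rw [eq_div_iff (pow_ne_zero _ hd0)]; exact hd
    rw [h3] at hdet
    field_simp at hdet ⊢
    have h4 : ((-1 : F) ^ m) * (-1) ^ m = 1 := by rw [← pow_add, ← two_mul, pow_mul, neg_one_sq, one_pow]
    have h6 : (2 : F) ^ (2 * m + 1) ≠ 0 := pow_ne_zero _ h2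
    have h5 : Bm.det ^ 2 * (-1) ^ m = a ^ (2 * m + 1) * d ^ 2 := by
      rw [mul_pow] at hdet
      refine mul_left_cancel₀ h6 ?_
      linear_combination hdet
    linear_combination (a * (-1) ^ m) * h5 - (a * Bm.det ^ 2) * h4
  let Pm : GL (Idx m) F := Matrix.GeneralLinearGroup.mkOfDetNeZero Bm hBdet
  let z : GL (Idx m) F := Units.map (Matrix.scalar (Idx m) : F →+* Matrix (Idx m) (Idx m) F).toMonoidHom
    (Units.mk0 l hl0)
  have hz : z ∈ scalars (Idx m) F := ⟨_, rfl⟩
  refine ⟨Pm * z, fun h hh => ?_, fun u hu => ?_⟩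
  · obtain ⟨σ, hσ⟩ := hle hh
    have hcol : ∀ i, ∃ s : F, (s = 1 ∨ s = -1) ∧
        (h : Matrix (Idx m) (Idx m) F) *ᵥ v (eI i) = s • v (σ (eI i)) := by
      intro i
      have h1 : (h : Matrix (Idx m) (Idx m) F) *ᵥ v (eI i) ∈ D (σ (eI i)) :=
        hσ (eI i) ▸ ⟨v (eI i), hv _, by simp⟩
      obtain ⟨s, hs⟩ := hsp _ _ h1
      refine ⟨s, ?_, hs.symm⟩
      have h3 := (omega_le h (hO hh)).1 (v (eI i))
      rw [← hs, hQs, hva, hva] at h3
      exact mul_self_eq_one_iff.1 (mul_right_cancel₀ ha0 (by rw [one_mul]; exact h3))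
    choose s hs1 hs using hcol
    let π : Idx m → Idx m := fun i => eI.symm (σ (eI i))
    let R : Matrix (Idx m) (Idx m) F := Matrix.of fun k i => if k = π i then s i else 0
    have key : (h : Matrix (Idx m) (Idx m) F) * Bm = Bm * R := by
      ext r i
      have h1 : ((h : Matrix (Idx m) (Idx m) F) * Bm) r i = ((h : Matrix (Idx m) (Idx m) F) *ᵥ v (eI i)) r := by
        simp [Matrix.mul_apply, Bm, Matrix.mulVec, dotProduct]
      rw [h1, hs, Matrix.mul_apply, Finset.sum_eq_single (π i)]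
      · simp [R, Bm, π, mul_comm]
      · intro j _ hj
        simp [R, hj]
      · simp
    have hR : ((Pm⁻¹ * h * Pm : GL (Idx m) F) : Matrix (Idx m) (Idx m) F) = R := by
      rw [Units.val_mul, Units.val_mul, mul_assoc, show (Pm : Matrix (Idx m) (Idx m) F) = Bm from rfl, key,
        show Bm = (Pm : Matrix (Idx m) (Idx m) F) from rfl, ← mul_assoc, ← Units.val_mul, inv_mul_cancel,
        Units.val_one, one_mul]
    have hfix : ((Pm⁻¹ * h * Pm⁻¹⁻¹ : GL (Idx m) F) : Matrix (Idx m) (Idx m) F).map φ =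
        (1 : F) • ((Pm⁻¹ * h * Pm⁻¹⁻¹ : GL (Idx m) F) : Matrix (Idx m) (Idx m) F) := by
      rw [inv_inv, hR, one_smul]
      ext k i
      simp only [R, Matrix.map_apply, Matrix.of_apply]
      split_ifs
      · rcases hs1 i with h' | h' <;> simp [h']
      · simp
    obtain ⟨g, hg, hgh⟩ := mem_subfieldSubgroup hfix
    refine ⟨g, hg, ?_⟩
    rw [← hgh]
    simp only [MulEquiv.coe_toMonoidHom, MulAut.conj_apply, inv_inv]
    calc Pm * z * g * (Pm * z)⁻¹ = Pm * (z * g) * z⁻¹ * Pm⁻¹ := by group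
      _ = Pm * g * Pm⁻¹ := by rw [scalar_comm hz g]; group
  · have h1 : ((Pm * z : GL (Idx m) F) : Matrix (Idx m) (Idx m) F) *ᵥ u = l • (Bm *ᵥ u) := by
      rw [Units.val_mul, show (z : Matrix (Idx m) (Idx m) F) = l • 1 by
        simp [z, Matrix.scalar_apply, Matrix.smul_one_eq_diagonal], Matrix.mul_smul, mul_one, Matrix.smul_mulVec]
      rfl
    rw [h1, hQs]
    have h3 : Cfsg.quadFormOdd m F (Bm *ᵥ u) = a * ∑ i, u i * u i := by
      apply mul_left_cancel₀ h2
      rw [← polar_self (nondeg_quad h2)]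
      have h4 := (sesq_of_bilinear (nondeg_quad (m := m) h2).polar_bilinear).transform Bm u u
      simp only [RingEquiv.refl_apply] at h4
      rw [show Bm.map (RingEquiv.refl F) = Bm from rfl] at h4
      rw [h4]
      show u ⬝ᵥ ((Bmᵀ * gm m F * Bm) *ᵥ u) = _
      rw [hgram, Matrix.smul_mulVec, Matrix.one_mulVec, dotProduct_smul, smul_eq_mul, dotProduct]
      ring
    rw [h3, show l * l * (a * ∑ i, u i * u i) = (a * (l * l)) * ∑ i, u i * u i by ring, hl]
    exact mul_mem (pow_mem (neg_mem (one_mem _)) m) (sum_mem fun i _ => mul_mem (hu i) (hu i))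

/-- every maximal subgroup of Ω in odd prime dimension at least 7 is geometric or residual -/
theorem orth_cases (hodd : Odd (Fintype.card F)) (hm : 3 ≤ m) (hn : (2 * m + 1).Prime)
    {H : Subgroup (GL (Idx m) F)} (hH : IsMaximalIn (omg m F) H) :
    (∃ W : Submodule F (Idx m → F), W ≠ ⊥ ∧ IsTotallySingularQuad (Cfsg.quadFormOdd m F) W ∧
      H = subspaceStabilizer W ⊓ omg m F) ∨
    (∃ W : Submodule F (Idx m → F), W ≠ ⊥ ∧ Even (Module.finrank F W) ∧ IsNondegenerateOn (bil m F) W ∧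
      ¬ (Fintype.card F = 3 ∧ Module.finrank F W = 2 ∧ IsPlusTypeOn (Cfsg.quadFormOdd m F) W) ∧
      H = subspaceStabilizer W ⊓ omg m F) ∨
    ((Fintype.card F).Prime ∧ ∃ D : Fin (2 * m + 1) → Submodule F (Idx m → F),
      IsOrthogonalMDecomposition (Cfsg.quadFormOdd m F) 1 D ∧ H = decompositionStabilizer D ⊓ omg m F) ∨
    (∃ (F₀ : Subfield F) (r : ℕ) (P : GL (Idx m) F), r.Prime ∧ Fintype.card F = Nat.card F₀ ^ r ∧
      IsQuadFormRationalStructure (Cfsg.quadFormOdd m F) F₀ P ∧ H = subfieldSubgroup F₀ P ⊓ omg m F) ∨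
    InOrthogonalResidualClass H := by
  classical
  have h2 : (2 : F) ≠ 0 := OmegaStd.two_ne_zero rfl hodd
  have hO : H ≤ omg m F := hH.1.le
  have hsl : H ≤ specialLinear (Idx m) F := fun g hg => (omega_le g (hO hg)).2
  have hnι : (Fintype.card (Idx m)).Prime := by rw [card_idx]; exact hn
  have hoddι : Odd (Fintype.card (Idx m)) := by rw [card_idx]; exact ⟨m, rfl⟩
  by_cases hirr : ¬ Irred H
  · unfold Irred at hirr
    push Not at hirr
    obtain ⟨W, hW, hb, ht⟩ := hirr
    rcases reducible_cases h2 (by omega) hO hW hb ht with ⟨U, hUb, hUt, hUi, hU⟩ | ⟨U, hUb, hUt, hUi, he, hU, hex⟩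
    · exact Or.inl ⟨U, hUb, hU, eq_of_maximal hH ((inv_iff_le_stabilizer _ _).1 hUi)
        (omega_not_le_subspaceStabilizer h2 hm hUb hUt)⟩
    · exact Or.inr (Or.inl ⟨U, hUb, he, hU, hex, eq_of_maximal hH ((inv_iff_le_stabilizer _ _).1 hUi)
        (omega_not_le_subspaceStabilizer h2 hm hUb hUt)⟩)
  push Not at hirr
  refine Or.inr (Or.inr ?_)
  have subEq : ∀ (φ : F ≃+* F) (r : ℕ) (P : GL (Idx m) F), r.Prime →
      Fintype.card F = Nat.card (fixedField φ) ^ r → H ≤ subfieldSubgroup (fixedField φ) P →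
      H = subfieldSubgroup (fixedField φ) P ⊓ omg m F := fun φ r P hr hcard hle =>
    eq_of_maximal hH hle (omega_not_le_subfieldSubgroup h2 hm (card_eq_pow_ne_top hr hcard) P)
  by_cases hp : Prim H
  swap
  · unfold Prim at hp
    push Not at hp
    obtain ⟨N, hNle, hNn, hNc, hNs⟩ := hp
    rcases alternative hnι hirr hNn with h | h | ⟨-, h⟩
    · exact absurd h hNs
    · exact absurd (fun x hx => h.scalar_of_comm fun y hy => hNc x hx y hy) hNs
    · rcases h with ⟨D, hD, hle, χ, hχ, hDe⟩ | ⟨K, hK, -, hKN, hNK⟩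
      · have hnd := lines_orthogonal h2 hO hirr hNle card_idx hD hle hχ hDe
        by_cases hpr : (Fintype.card F).Prime
        · left
          have e : (2 * m + 1) = Fintype.card (Idx m) := card_idx.symm
          refine ⟨hpr, D ∘ Fin.cast e, ⟨⟨AschPrimeLinear.isMDecomposition_cast e hD,
            fun i => hnd.decomp.nondegenerate _, fun i j hij => hnd.decomp.orthogonal _ _
              fun h => hij (Fin.cast_injective _ h)⟩, fun i j => hnd.isometric _ _⟩, ?_⟩
          rw [AschPrimeLinear.decompositionStabilizer_cast]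
          exact eq_of_maximal hH hle (omega_not_le_lines h2 hm hD)
        · right; left
          obtain ⟨p, hp'⟩ := CharP.exists F
          obtain ⟨e, hpp, he⟩ := FiniteField.card F p
          haveI := Fact.mk hpp
          have he1 : (1 : ℕ) < e := by
            rcases Nat.lt_or_ge 1 (e : ℕ) with h | h
            · exact h
            · exfalso
              have := e.pos
              rw [show (e : ℕ) = 1 by omega, pow_one] at he
              exact hpr (he ▸ hpp)
          obtain ⟨φ, r, hr, hcard, -⟩ := exists_maximal_subfield (F := F) (d := 1) he (one_dvd _) he1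
          obtain ⟨P, hP, hrat⟩ := lines_subfield h2 hO hnd hle φ
          exact ⟨_, r, P, hr, hcard, hrat, subEq φ r P hr hcard hP⟩
      · rw [card_idx] at hK
        exact absurd (field_scalar h2 (hNle.trans hO) hK hKN hNK) hNs
  refine Or.inr ?_
  rcases structure_theorem hnι hoddι hsl hirr hp with ⟨R, ζ, B, hR⟩ | ⟨P, hP⟩
  · exfalso
    obtain ⟨⟨z, hzc⟩, hz1⟩ : ∃ z : Subgroup.center R, z ≠ 1 := by
      by_contra hall
      push Not at hall
      haveI : Subsingleton (Subgroup.center R) := ⟨fun a b => (hall a).trans (hall b).symm⟩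
      have := hR.extra.center_eq
      rw [Nat.card_unique, card_idx] at this
      omega
    have hzs : (z : GL (Idx m) F) ∈ scalars (Idx m) F := by
      refine hR.absIrred.scalar_of_comm fun y hy => ?_
      exact congrArg Subtype.val ((Subgroup.mem_center_iff.1 hzc ⟨y, hy⟩).symm)
    obtain ⟨s, hs⟩ := (mem_scalars_iff _).1 hzs
    have hsn : (s : F) ^ (2 * m + 1) = 1 := by
      have h1 := (mem_sl_iff _).1 (hsl (hR.le z.2))
      rw [hs, Matrix.det_smul, Matrix.det_one, mul_one, card_idx] at h1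
      exact h1
    have hsq : (s : F) * s = 1 := by
      have h1 := (omega_le _ (hO (hR.le z.2))).1 (sv i0)
      rw [hs, Matrix.smul_mulVec, Matrix.one_mulVec, (quad_smul h2),
        show Cfsg.quadFormOdd m F (sv i0) = 1 by simp [Cfsg.quadFormOdd, sv], mul_one] at h1
      exact h1
    have hs1 : (s : F) = 1 := by
      rwa [pow_succ, pow_mul, sq, hsq, one_pow, one_mul] at hsn
    exact hz1 (Subtype.ext (Subtype.ext (Units.ext (by rw [hs, hs1, one_smul]; rfl))))
  · by_cases hreal : ∃ F₀ : Subfield F, F₀ ≠ ⊤ ∧ RealisableOver F₀ (matrixSet P)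
    · left
      obtain ⟨F₀, hne, C, hC⟩ := hreal
      obtain ⟨φ, r, hr, hcard, hfix⟩ := exists_maximal_above hne
      obtain ⟨P', hle, hrat⟩ := rational_structure h2 hP.absIrred hP.normal (hP.le.trans hO)
        (fun s hs i j => hfix _ (by simpa using hC _ ⟨s, hs, rfl⟩ i j))
      exact ⟨_, r, P', hr, hcard, hrat, subEq φ r P' hr hcard hle⟩
    push Not at hreal
    refine Or.inr ⟨P, ⟨hP.le, hP.normal, hP.perfect, hP.simple, hP.nonabelian,
      hP.centralizer_scalar, hP.absIrred, hreal⟩, ?_⟩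
    rintro ⟨σ, f, hf, hfix⟩
    obtain ⟨q, hq, hqc⟩ := TransvectionUnitary.sigma_cases hf
    have hq0 : q ≠ 0 := by
      rintro rfl
      have := Fintype.one_lt_card (α := F)
      omega
    have hF : Fintype.card F = q ^ 2 := by
      have := Fintype.one_lt_card (α := F)
      obtain ⟨q', rfl⟩ := Nat.exists_eq_succ_of_ne_zero hq0
      simp only [Nat.succ_sub_one] at hqc
      rw [Nat.succ_eq_add_one] at hqc ⊢
      nlinarith [hqc, Nat.sub_add_cancel this.le]
    have hσ : σ = AschPrimeUnitary.fr hF := RingEquiv.ext fun x => by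
      rcases eq_or_ne x 0 with rfl | hx
      · simp [zero_pow hq0]
      · exact hq x hx
    have hses := sesq_of_unitary hf
    set Gu := gramMatrix f with hGu
    have hGd : IsUnit Gu.det := isUnit_iff_ne_zero.2 (hses.det_ne_zero hf.nondegenerate)
    have hMd : IsUnit (gm m F).det := isUnit_iff_ne_zero.2 (gm_det h2)
    refine hreal _ ?_ (AschPrimeUnitary.realisable_of_twisted hF hP.absIrred (T := (gm m F)⁻¹ * Gu) ?_ ?_)
    · exact fun h => hf.ne_refl (RingEquiv.ext fun x => by
        have : x ∈ fixedField (AschPrimeUnitary.fr hF) := h ▸ Subfield.mem_top x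
        rw [hσ]; exact this)
    · rw [Matrix.det_mul]
      exact (Matrix.isUnit_nonsing_inv_det _ hMd).mul hGd
    · intro s hs
      rw [← hσ]
      have h1 : (s : Matrix (Idx m) (Idx m) F)ᵀ * Gu * (s : Matrix (Idx m) (Idx m) F).map σ = Gu := by
        have := (hses.similar_iff (s : Matrix (Idx m) (Idx m) F) 1).1 fun u v => by
          rw [one_mul]; exact hfix _ ⟨s, hs, rfl⟩ u v
        simpa [← hGu] using this
      have h3 := iso_matrix h2 s (hP.le.trans hO hs)
      have hsd : IsUnit ((s : Matrix (Idx m) (Idx m) F)ᵀ).det := by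
        rw [Matrix.det_transpose]; exact Matrix.isUnits_det_units s
      -- both sides become `Gu` after multiplying by `sᵀ M`
      have e : (s : Matrix (Idx m) (Idx m) F)ᵀ * (gm m F * ((s : Matrix (Idx m) (Idx m) F) * ((gm m F)⁻¹ * Gu))) =
          (s : Matrix (Idx m) (Idx m) F)ᵀ * (gm m F * ((gm m F)⁻¹ * Gu * (s : Matrix (Idx m) (Idx m) F).map σ)) := by
        rw [mul_assoc ((gm m F)⁻¹) Gu, Matrix.mul_nonsing_inv_cancel_left _ _ hMd,
          ← mul_assoc ((s : Matrix (Idx m) (Idx m) F)ᵀ) Gu, h1, ← mul_assoc (gm m F), ← mul_assoc _ (gm m F * _),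
          ← mul_assoc _ (gm m F), h3, Matrix.mul_nonsing_inv_cancel_left _ _ hMd]
      have e1 := congrArg (((s : Matrix (Idx m) (Idx m) F)ᵀ)⁻¹ * ·) e
      simp only [Matrix.nonsing_inv_mul_cancel_left _ _ hsd] at e1
      have e2 := congrArg ((gm m F)⁻¹ * ·) e1
      simpa only [Matrix.nonsing_inv_mul_cancel_left _ _ hMd] using e2

end Cfsg.Agent.AschPrimeOrth
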