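/-
Aschbacher's theorem with a form: the odd-dimensional orthogonal groups.
-/
import Cfsg.Agent.Lib.AschFormMono
import Cfsg.Agent.Lib.AschPrimeOrth
import Cfsg.Agent.Lib.AschFormTwist

set_option autoImplicit false
set_option linter.unusedSectionVars false

namespace Cfsg.Agent.AschFormOrth

open scoped Matrix Kronecker
open Cfsg Cfsg.Geo Cfsg.Agent.AschPrimeBasic Cfsg.Agent.AschPrimeForms Cfsg.Agent.AschPrimeCore
  Cfsg.Agent.AschGenAlgebra Cfsg.Agent.AschGenTensor Cfsg.Agent.AschGenExtra Cfsg.Agent.AschFormBasic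
  Cfsg.Agent.AschFormTensor Cfsg.Agent.AschFormAlg Cfsg.Agent.AschFormCore Cfsg.Agent.AschFormWreath
  Cfsg.Agent.AschFormStruct Cfsg.Agent.AschFormMono Cfsg.Agent.AschPrimeOrth Cfsg.Agent.AschPrimeOrthProper

variable {m : ℕ} {F : Type*} [Field F] [Fintype F]

lemma bil_formData (h2 : (2 : F) ≠ 0) : FormData (RingEquiv.refl F) 1 (bil m F) :=
  ⟨sesq_of_bilinear (nondeg_quad h2).polar_bilinear, fun _ => rfl, by simp, (nondeg_quad h2).nondegenerate,
    fun v w => by simp [bil, QuadraticMap.polar_comm _ v w]⟩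

lemma omg_le_iso : omg m F ≤ isometryGroup F (Cfsg.quadFormOdd m F) := fun g hg u v => by
  simpa using (omega_le g hg).1 u

/-- non-degenerate symmetric matrices of a given odd size are congruent up to scalars -/
lemma congr_odd (h2 : (2 : F) ≠ 0) {k : ℕ} (hk : Odd k) {A B : Matrix (Fin k) (Fin k) F} (hA : Aᵀ = A)
    (hAd : IsUnit A.det) (hB : Bᵀ = B) (hBd : IsUnit B.det) :
    ∃ (S : GL (Fin k) F) (l : F), l ≠ 0 ∧
      (S : Matrix (Fin k) (Fin k) F)ᵀ * A * (S : Matrix (Fin k) (Fin k) F) = l • B := by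
  obtain ⟨j, hj⟩ := hk
  obtain ⟨u, hu, hAu⟩ := FormCongruence.classify_odd h2 hj hA hAd.ne_zero
  obtain ⟨v, hv, hBv⟩ := FormCongruence.classify_odd h2 hj hB hBd.ne_zero
  have h1 := (hBv.symm.smul (u / v))
  rw [smul_smul, div_mul_cancel₀ _ hv] at h1
  obtain ⟨T, T', hTT', hT'T, he⟩ := hAu.trans h1
  refine ⟨⟨T', T, hT'T, hTT'⟩, u / v, div_ne_zero hu hv, ?_⟩
  show T'ᵀ * A * T' = _
  rw [he]
  calc T'ᵀ * (Tᵀ * ((u / v) • B) * T) * T' = (T'ᵀ * Tᵀ) * ((u / v) • B) * (T * T') := by simp only [mul_assoc]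
    _ = _ := by rw [← Matrix.transpose_mul, hTT', Matrix.transpose_one, one_mul, mul_one]

/-- similarities of the identity form on three points over three elements are monomial -/
lemma similar_mono (h3 : Fintype.card F = 3) {A : Matrix (Fin 3) (Fin 3) F} {l : F} (hl : l ≠ 0)
    (hA : Aᵀ * A = l • (1 : Matrix (Fin 3) (Fin 3) F)) (j : Fin 3) : ∃ i, ∀ i', i' ≠ i → A i' j = 0 := by
  have h30 : (3 : F) = 0 := by
    have := Nat.cast_card_eq_zero F
    rw [h3] at this
    exact_mod_cast this
  have h2 : (2 : F) ≠ 0 := fun h => one_ne_zero (α := F) (by linear_combination h30 - h)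
  have hsq : ∀ x : F, x ≠ 0 → x * x = 1 := fun x hx => by
    have := FiniteField.pow_card_sub_one_eq_one x hx
    rw [h3] at this
    simpa [sq] using this
  have hl1 : l = 1 := by
    have h1 := congrArg Matrix.det hA
    rw [Matrix.det_mul, Matrix.det_transpose, Matrix.det_smul, Matrix.det_one, mul_one, Fintype.card_fin] at h1
    have hd : A.det ≠ 0 := fun h0 => by
      rw [h0, zero_mul] at h1
      exact pow_ne_zero 3 hl h1.symm
    rw [hsq _ hd] at h1
    linear_combination (-1 : F) * h1 - l * hsq l hl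
  have hn : A 0 j * A 0 j + A 1 j * A 1 j + A 2 j * A 2 j = 1 := by
    have := congrFun (congrFun hA j) j
    simpa [Matrix.mul_apply, Fin.sum_univ_three, hl1] using this
  by_cases h0 : A 0 j = 0 <;> by_cases h1 : A 1 j = 0 <;> by_cases h4 : A 2 j = 0
  · exact absurd (by simp [h0, h1, h4] : A 0 j * A 0 j + A 1 j * A 1 j + A 2 j * A 2 j = 0) (hn ▸ one_ne_zero)
  · exact ⟨2, fun i hi => by fin_cases i <;> simp_all⟩
  · exact ⟨1, fun i hi => by fin_cases i <;> simp_all⟩
  · exfalso
    rw [h0, hsq _ h1, hsq _ h4] at hn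
    exact one_ne_zero (α := F) (by linear_combination hn)
  · exact ⟨0, fun i hi => by fin_cases i <;> simp_all⟩
  · exfalso
    rw [h1, hsq _ h0, hsq _ h4] at hn
    exact one_ne_zero (α := F) (by linear_combination hn)
  · exfalso
    rw [h4, hsq _ h0, hsq _ h1] at hn
    exact one_ne_zero (α := F) (by linear_combination hn)
  · exfalso
    rw [hsq _ h0, hsq _ h1, hsq _ h4] at hn
    exact h2 (by linear_combination hn)

/-- an irreducible group of isometries in odd dimension normalises no maximal self-adjoint field -/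
lemma no_full_field (h2 : (2 : F) ≠ 0) (hm : 1 ≤ m) {H : Subgroup (GL (Idx m) F)} (hH : H ≤ omg m F)
    (hirr : Irred H) {r : ℕ} (hr : r.Prime) {K : Subalgebra F (Matrix (Idx m) (Idx m) F)}
    (hK : IsFieldSubalgebra r K) (hKn : AlgNorm H K)
    (hs : StarClosed (RingEquiv.refl F) (gramMatrix (bil m F)) K) (hrn : 2 * m + 1 = r) : False := by
  classical
  have hf := bil_formData (m := m) h2
  have hI : Isos H (bil m F) := fun g hg u v => iso_bil g (hH hg) u v
  have hodd : Odd r := ⟨m, hrn.symm⟩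
  haveI : Nonempty (Idx m) := ⟨.inl ()⟩
  -- an isometry in a self-adjoint field is scalar
  have key : ∀ (L : Subalgebra F (Matrix (Idx m) (Idx m) F)), IsFieldSubalgebra r L →
      StarClosed (RingEquiv.refl F) (gramMatrix (bil m F)) L →
      ∀ g ∈ H, (g : Matrix (Idx m) (Idx m) F) ∈ L → g ∈ scalars (Idx m) F := by
    intro L hL hsL g hg hgL
    have h1 := (AschFormField.field_adj hf hr hL hsL).2 rfl hodd _ hgL
    rw [adj_iso hf (hI g hg)] at h1
    have h3 : ((g : Matrix (Idx m) (Idx m) F) - 1) * ((g : Matrix (Idx m) (Idx m) F) + 1) = 0 := by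
      have h4 : (g : Matrix (Idx m) (Idx m) F) * (g : Matrix (Idx m) (Idx m) F) = 1 := by
        conv_lhs => arg 1; rw [← h1]
        exact Units.inv_mul g
      rw [sub_mul, mul_add, h4, one_mul, mul_one]
      abel
    by_cases h4 : (g : Matrix (Idx m) (Idx m) F) - 1 = 0
    · exact mem_scalars_of_comm (c := (1 : F)) (by rw [one_smul]; exact sub_eq_zero.1 h4)
    · obtain ⟨y, hy, hy1⟩ := hL.inv _ (L.sub_mem hgL L.one_mem) h4
      have h5 := congrArg (fun M => y * M) h3
      simp only [← mul_assoc, mul_zero] at h5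
      rw [hL.comm y hy _ (L.sub_mem hgL L.one_mem), hy1, one_mul] at h5
      exact mem_scalars_of_comm (c := (-1 : F)) (by rw [neg_smul, one_smul]; exact eq_neg_of_add_eq_zero_left h5)
  haveI : Nontrivial K := ⟨0, 1, fun h => zero_ne_one (congrArg Subtype.val h : (0 : Matrix (Idx m) (Idx m) F) = 1)⟩
  have hfld : IsField K :=
    ⟨⟨0, 1, zero_ne_one⟩, fun x y => Subtype.ext (hK.comm _ x.2 _ y.2), fun {x} hx => by
      obtain ⟨y, hy, hxy⟩ := hK.inv x x.2 (fun h => hx (Subtype.ext h))
      exact ⟨⟨y, hy⟩, Subtype.ext hxy⟩⟩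
  letI : Field K := hfld.toField
  haveI : Finite K := inferInstance
  let ρ : H →* (K ≃ₐ[F] K) :=
    { toFun := fun h => restr hKn h.2
      map_one' := AlgEquiv.ext fun c => Subtype.ext (by simp)
      map_mul' := fun a b => AlgEquiv.ext fun c => Subtype.ext (by simp [mul_assoc]) }
  have hker : ρ.ker ≤ Subgroup.center H := by
    intro x hx
    suffices hxs : (x : GL (Idx m) F) ∈ scalars (Idx m) F from
      Subgroup.mem_center_iff.2 fun y => Subtype.ext (scalar_comm hxs _).symm
    -- `x` commutes with `K`, so it lies in `K`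
    have hxc : ∀ k ∈ K, ((x : GL (Idx m) F) : Matrix (Idx m) (Idx m) F) * k = k * ((x : GL (Idx m) F) : Matrix (Idx m) (Idx m) F) := by
      intro k hk
      have h1 := congrArg (fun e : K ≃ₐ[F] K => (e ⟨k, hk⟩ : Matrix (Idx m) (Idx m) F)) hx
      simp [ρ] at h1
      conv_rhs => rw [← h1]
      simp [mul_assoc]
    refine key K hK hs x x.2 ?_
    obtain ⟨i⟩ := ‹Nonempty (Idx m)›
    let v : Idx m → F := Pi.single i 1
    have hv : v ≠ 0 := fun h => one_ne_zero (α := F) (by simpa [v] using congrFun h i)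
    let L : K →ₗ[F] (Idx m → F) :=
      { toFun := fun k => (k : Matrix (Idx m) (Idx m) F) *ᵥ v
        map_add' := fun a b => Matrix.add_mulVec _ _ _
        map_smul' := fun c a => Matrix.smul_mulVec c _ _ }
    have hLi : Function.Injective L := by
      rw [← LinearMap.ker_eq_bot, LinearMap.ker_eq_bot']
      intro k hk
      by_contra hk0
      obtain ⟨y, hy, hy1⟩ := hK.inv k k.2 fun h => hk0 (Subtype.ext h)
      apply hv
      rw [hK.comm _ k.2 _ hy] at hy1
      rw [← Matrix.one_mulVec v, ← hy1, ← Matrix.mulVec_mulVec, show (k : Matrix (Idx m) (Idx m) F) *ᵥ v = 0 from hk,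
        Matrix.mulVec_zero]
    have hLs : Function.Surjective L := (LinearMap.injective_iff_surjective_of_finrank_eq_finrank (by
      rw [hK.finrank_eq, Module.finrank_pi, card_idx, hrn])).1 hLi
    obtain ⟨a, ha⟩ := hLs (((x : GL (Idx m) F) : Matrix (Idx m) (Idx m) F) *ᵥ v)
    suffices e : ((x : GL (Idx m) F) : Matrix (Idx m) (Idx m) F) = a from e ▸ a.2
    apply Matrix.toLin'.injective
    refine LinearMap.ext fun w => ?_
    obtain ⟨b, rfl⟩ := hLs w
    have ha' : (a : Matrix (Idx m) (Idx m) F) *ᵥ v = ((x : GL (Idx m) F) : Matrix (Idx m) (Idx m) F) *ᵥ v := ha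
    show ((x : GL (Idx m) F) : Matrix (Idx m) (Idx m) F) *ᵥ ((b : Matrix (Idx m) (Idx m) F) *ᵥ v) =
      (a : Matrix (Idx m) (Idx m) F) *ᵥ ((b : Matrix (Idx m) (Idx m) F) *ᵥ v)
    rw [Matrix.mulVec_mulVec, hxc b b.2, ← Matrix.mulVec_mulVec, ← ha', Matrix.mulVec_mulVec, Matrix.mulVec_mulVec,
      hK.comm _ a.2 _ b.2]
  have hcomm : ∀ a b : H, a * b = b * a := commutative_of_cyclic_center_quotient ρ hker
  -- the enveloping algebra of `H` is a self-adjoint field
  set C := Algebra.adjoin F (matrixSet H) with hCdef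
  have hmem : ∀ g ∈ H, (g : Matrix (Idx m) (Idx m) F) ∈ C := fun g hg => Algebra.subset_adjoin ⟨g, hg, rfl⟩
  have hHC : ∀ g ∈ H, ∀ x ∈ C, (g : Matrix (Idx m) (Idx m) F) * x = x * (g : Matrix (Idx m) (Idx m) F) := by
    intro g hg x hx
    have h1 : C ≤ Subalgebra.centralizer F {(g : Matrix (Idx m) (Idx m) F)} := Algebra.adjoin_le (by
      rintro _ ⟨y, hy, rfl⟩
      rw [SetLike.mem_coe, Subalgebra.mem_centralizer_iff]
      rintro _ rfl
      simpa using congrArg (fun z : H => ((z : GL (Idx m) F) : Matrix (Idx m) (Idx m) F)) (hcomm ⟨g, hg⟩ ⟨y, hy⟩))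
    exact (Subalgebra.mem_centralizer_iff F).1 (h1 hx) _ rfl
  have hCc : ∀ x ∈ C, ∀ y ∈ C, x * y = y * x := by
    intro x hx y hy
    have h1 : C ≤ Subalgebra.centralizer F {y} := Algebra.adjoin_le (by
      rintro _ ⟨g, hg, rfl⟩
      rw [SetLike.mem_coe, Subalgebra.mem_centralizer_iff]
      intro z hz
      rw [Set.mem_singleton_iff.1 hz]
      exact (hHC g hg y hy).symm)
    exact ((Subalgebra.mem_centralizer_iff F).1 (h1 hx) y rfl).symm
  have hCn : AlgNorm H C := AschGenLinear.algNorm_adjoin (normalBy_self H)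
  have hid : ∀ e ∈ C, e * e = e → e = 0 ∨ e = 1 := by
    intro e he hee
    have hinv : Inv H (LinearMap.range (Matrix.toLin' e)) := by
      rintro g hg _ ⟨u, rfl⟩
      exact ⟨(g : Matrix (Idx m) (Idx m) F) *ᵥ u, by simp [Matrix.mulVec_mulVec, hHC g hg e he]⟩
    rcases hirr _ hinv with h | h
    · exact Or.inl (by simpa using congrArg LinearMap.toMatrix' (LinearMap.range_eq_bot.1 h))
    · refine Or.inr (Matrix.toLin'.injective (LinearMap.ext fun w => ?_))
      obtain ⟨u, rfl⟩ : w ∈ LinearMap.range (Matrix.toLin' e) := h ▸ Submodule.mem_top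
      simp [Matrix.mulVec_mulVec, hee]
  have hCinv := inv_or_idempotent C (semisimple_of_norm hirr hCn) hCc hid
  have hCf : IsFieldSubalgebra r C := by
    refine ⟨hCc, hCinv, ?_⟩
    have hd := AschGenLinear.field_degree_dvd (r := Module.finrank F C) (K := C) ⟨hCc, hCinv, rfl⟩
    rw [card_idx, hrn] at hd
    refine ((hr.eq_one_or_self_of_dvd _ hd).resolve_left fun h1 => ?_)
    have hb := Subalgebra.eq_bot_of_finrank_one h1
    obtain ⟨i⟩ := ‹Nonempty (Idx m)›
    have hinv : Inv H (Submodule.span F {(Pi.single i 1 : Idx m → F)}) := by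
      intro g hg w hw
      obtain ⟨c, hc⟩ := Algebra.mem_bot.1 (hb ▸ hmem g hg : (g : Matrix (Idx m) (Idx m) F) ∈ (⊥ : Subalgebra F _))
      rw [← hc, Algebra.algebraMap_eq_smul_one, Matrix.smul_mulVec, Matrix.one_mulVec]
      exact Submodule.smul_mem _ _ hw
    have hv : (Pi.single i 1 : Idx m → F) ≠ 0 := fun h => one_ne_zero (α := F) (by simpa using congrFun h i)
    rcases hirr _ hinv with h | h
    · exact hv (Submodule.span_singleton_eq_bot.1 h)
    · have := finrank_span_singleton (K := F) hv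
      rw [h, finrank_top, Module.finrank_pi, card_idx] at this
      omega
  have hsc : ∀ g ∈ H, g ∈ scalars (Idx m) F := fun g hg =>
    key C hCf (StarClosed.adjoin_group hf hI) g hg (hmem g hg)
  obtain ⟨i⟩ := ‹Nonempty (Idx m)›
  have hinv : Inv H (Submodule.span F {(Pi.single i 1 : Idx m → F)}) := by
    intro g hg w hw
    obtain ⟨c, hc⟩ := (mem_scalars_iff g).1 (hsc g hg)
    rw [hc, Matrix.smul_mulVec, Matrix.one_mulVec]
    exact Submodule.smul_mem _ _ hw
  have hv : (Pi.single i 1 : Idx m → F) ≠ 0 := fun h => one_ne_zero (α := F) (by simpa using congrFun h i)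
  rcases hirr _ hinv with h | h
  · exact hv (Submodule.span_singleton_eq_bot.1 h)
  · have := finrank_span_singleton (K := F) hv
    rw [h, finrank_top, Module.finrank_pi, card_idx] at this
    omega

/-- an absolutely irreducible class-2 group of isometries in odd dimension does not exist -/
lemma no_class2 (h2 : (2 : F) ≠ 0) (hm : 1 ≤ m) {N : Subgroup (GL (Idx m) F)} (hN : N ≤ omg m F)
    (habs : AbsIrred N) (hc : Class2 N) : False := by
  haveI : Nonempty (Idx m) := ⟨.inl ()⟩
  have hone : ∀ g ∈ N, g ∈ scalars (Idx m) F → g = 1 := by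
    intro g hg hs
    obtain ⟨s, hs⟩ := (mem_scalars_iff _).1 hs
    have hsn : (s : F) ^ (2 * m + 1) = 1 := by
      have h1 := (mem_sl_iff _).1 (omega_le g (hN hg)).2
      rw [hs, Matrix.det_smul, Matrix.det_one, mul_one, card_idx] at h1
      exact h1
    have hsq : (s : F) * s = 1 := by
      have h1 := (omega_le g (hN hg)).1 (sv i0)
      rw [hs, Matrix.smul_mulVec, Matrix.one_mulVec, (quad_smul h2),
        show Cfsg.quadFormOdd m F (sv i0) = 1 by simp [Cfsg.quadFormOdd, sv],
        mul_one] at h1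
      exact h1
    have hs1 : (s : F) = 1 := by
      rwa [pow_succ, pow_mul, sq, hsq, one_pow, one_mul] at hsn
    exact Units.ext (by rw [hs, hs1, one_smul]; rfl)
  have hab : N ≤ scalars (Idx m) F := fun x hx => habs.scalar_of_comm fun y hy => by
    exact (commutatorElement_eq_one_iff_mul_comm.1
      (hone _ (by rw [commutatorElement_def]; exact N.mul_mem (N.mul_mem (N.mul_mem hx hy) (N.inv_mem hx)) (N.inv_mem hy))
        (hc x hx y hy)))
  have hinv : Inv N (Submodule.span F {(Pi.single (Sum.inl ()) 1 : Idx m → F)}) := by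
    intro g hg w hw
    rw [hone g hg (hab hg), Units.val_one, Matrix.one_mulVec]
    exact hw
  have hv : (Pi.single (Sum.inl ()) 1 : Idx m → F) ≠ 0 := fun h =>
    one_ne_zero (α := F) (by simpa using congrFun h (Sum.inl ()))
  rcases habs.irred _ hinv with h | h
  · exact hv (Submodule.span_singleton_eq_bot.1 h)
  · have := finrank_span_singleton (K := F) hv
    rw [h, finrank_top, Module.finrank_pi, card_idx] at this
    omega

/-- coordinates with Gram matrix a multiple of one and monomial group give a frame -/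
lemma frame (h2 : (2 : F) ≠ 0) (hm : 1 ≤ m) {H : Subgroup (GL (Idx m) F)} (P : GL (Idx m) F) {d : F}
    (hP : (P : Matrix (Idx m) (Idx m) F)ᵀ * gramMatrix (bil m F) * (P : Matrix (Idx m) (Idx m) F) = d • 1) (hd : d ≠ 0)
    (hmono : ∀ h ∈ H, ∃ (M : Matrix (Idx m) (Idx m) F), (h : Matrix (Idx m) (Idx m) F) * (P : Matrix (Idx m) (Idx m) F) =
      (P : Matrix (Idx m) (Idx m) F) * M ∧ ∀ j, ∃ i, ∀ i', i' ≠ i → M i' j = 0) :
    ∃ (t : ℕ) (D : Fin t → Submodule F (Idx m → F)),
      IsOrthogonalMDecomposition (Cfsg.quadFormOdd m F) 1 D ∧ H ≤ decompositionStabilizer D := by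
  classical
  haveI : Nonempty (Idx m) := ⟨.inl ()⟩
  obtain ⟨D, hD, hle, ord, hord⟩ := mono_lines (by rw [card_idx]; omega) P hmono
  set v : Idx m → Idx m → F := fun j => (P : Matrix (Idx m) (Idx m) F) *ᵥ Pi.single j 1 with hv
  have hses := sesq_of_bilinear (nondeg_quad (m := m) h2).polar_bilinear
  have hval : ∀ a b, bil m F (v a) (v b) = if a = b then d else 0 := by
    intro a b
    simp only [hv]
    show QuadraticMap.polar (Cfsg.quadFormOdd m F) _ _ = _
    rw [hses.transform, show (P : Matrix (Idx m) (Idx m) F).map (RingEquiv.refl F) =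
      (P : Matrix (Idx m) (Idx m) F) from rfl, hP]
    simp [Matrix.smul_mulVec, Pi.single_apply, eq_comm]
  have hB : IsBilinearForm (QuadraticMap.polar (Cfsg.quadFormOdd m F)) := (nondeg_quad h2).polar_bilinear
  have hval : ∀ a b, QuadraticMap.polar (Cfsg.quadFormOdd m F) (v a) (v b) = if a = b then d else 0 := hval
  simp only [hv] at hval
  have hne : ∀ a, v a ≠ 0 := fun a h => hd (by
    have := hval a a
    rw [if_pos rfl, show (P : Matrix (Idx m) (Idx m) F) *ᵥ Pi.single a 1 = 0 from h] at this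
    rw [← this]
    simpa using hB.smul_left 0 0 0)
  refine ⟨_, D, ⟨⟨hD, fun i w hw hw0 => ?_, fun i j hij => ?_⟩, fun i j => ?_⟩, hle⟩
  · rw [hord] at hw ⊢
    obtain ⟨c, rfl⟩ := Submodule.mem_span_singleton.1 hw
    have hc : c ≠ 0 := fun h => hw0 (by rw [h, zero_smul])
    refine ⟨⟨_, Submodule.mem_span_singleton_self _, ?_⟩, ⟨_, Submodule.mem_span_singleton_self _, ?_⟩⟩
    · rw [hB.smul_right, hval, if_pos rfl]
      exact mul_ne_zero hc hd
    · rw [hB.smul_left, hval, if_pos rfl]
      exact mul_ne_zero hc hd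
  · intro u hu w hw
    rw [hord] at hu hw
    obtain ⟨a, rfl⟩ := Submodule.mem_span_singleton.1 hu
    obtain ⟨b, rfl⟩ := Submodule.mem_span_singleton.1 hw
    rw [hB.smul_left, hB.smul_right, hval, if_neg (fun h => hij (ord.injective h)), mul_zero, mul_zero]
  · rw [hord i, hord j]
    refine ⟨(LinearEquiv.toSpanNonzeroSingleton F _ _ (hne (ord i))).symm.trans
      (LinearEquiv.toSpanNonzeroSingleton F _ _ (hne (ord j))), ?_⟩
    rintro ⟨w, hw⟩
    obtain ⟨c, rfl⟩ := Submodule.mem_span_singleton.1 hw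
    have hQ : ∀ a, Cfsg.quadFormOdd m F (v a) = d / 2 := fun a => by
      have h1 := polar_self (nondeg_quad (m := m) h2) (v a)
      simp only [hv] at h1 ⊢
      rw [hval, if_pos rfl] at h1
      rw [h1, mul_div_cancel_left₀ _ h2]
    have he : (LinearEquiv.toSpanNonzeroSingleton F _ _ (hne (ord i))).symm ⟨c • v (ord i), hw⟩ = c := by
      rw [LinearEquiv.symm_apply_eq]
      exact Subtype.ext rfl
    rw [LinearEquiv.trans_apply, he]
    show Cfsg.quadFormOdd m F (c • v (ord j)) = Cfsg.quadFormOdd m F (c • v (ord i))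
    rw [quad_smul h2, quad_smul h2, hQ, hQ]

/-- the structure theorem -/
theorem orth_structure (hodd : Odd (Fintype.card F)) (hm : 3 ≤ m) {H : Subgroup (GL (Idx m) F)}
    (hO : H ≤ omg m F) :
    (∃ M, InOrthogonalOddClass m F M ∧ H ≤ M) ∨ InOrthogonalResidualClass H := by
  classical
  have h2 : (2 : F) ≠ 0 := OmegaStd.two_ne_zero rfl hodd
  have hf := bil_formData (m := m) h2
  have hI : Isos H (bil m F) := fun g hg u v => iso_bil g (hO hg) u v
  have hIso : H ≤ isometryGroup F (Cfsg.quadFormOdd m F) := hO.trans omg_le_iso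
  haveI : Nonempty (Idx m) := ⟨.inl ()⟩
  have hnodd : Odd (Fintype.card (Idx m)) := by rw [card_idx]; exact ⟨m, rfl⟩
  by_cases hirr : ¬ Irred H
  · left
    unfold Irred at hirr
    push Not at hirr
    obtain ⟨W, hW, hb, ht⟩ := hirr
    rcases reducible_cases h2 (by omega) hO hW hb ht with ⟨U, hUb, -, hUi, hU⟩ | ⟨U, hUb, hUt, hUi, -, hU, -⟩
    · exact ⟨_, Or.inl ⟨U, hUb, hU, rfl⟩, le_inf ((inv_iff_le_stabilizer _ _).1 hUi) hIso⟩
    · exact ⟨_, Or.inr (Or.inl ⟨U, hUb, hUt, hU, rfl⟩), le_inf ((inv_iff_le_stabilizer _ _).1 hUi) hIso⟩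
  push Not at hirr
  have subClass : ∀ (φ : F ≃+* F) (r : ℕ) (P : GL (Idx m) F), r.Prime →
      Fintype.card F = Nat.card (fixedField φ) ^ r → H ≤ subfieldSubgroup (fixedField φ) P →
      IsQuadFormRationalStructure (Cfsg.quadFormOdd m F) (fixedField φ) P →
      ∃ M, InOrthogonalOddClass m F M ∧ H ≤ M := fun φ r P hr hcard hle hrat =>
    ⟨_, Or.inr (Or.inr (Or.inr (Or.inr (Or.inr (Or.inr (Or.inl ⟨_, r, P, hr, hcard, hrat, rfl⟩)))))), le_inf hle hIso⟩
  have lineClass : ∀ (t : ℕ) (D : Fin t → Submodule F (Idx m → F)),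
      IsOrthogonalMDecomposition (Cfsg.quadFormOdd m F) 1 D → H ≤ decompositionStabilizer D →
      ∃ M, InOrthogonalOddClass m F M ∧ H ≤ M := by
    intro t D hD hle
    by_cases hpr : (Fintype.card F).Prime
    · exact ⟨_, Or.inr (Or.inr (Or.inr (Or.inl ⟨t, D, hpr, hD, rfl⟩))), le_inf hle hIso⟩
    have ht : t = Fintype.card (Idx m) := by
      simpa using AschFormImprim.finrank_mDecomposition hD.decomp.decomp
    subst ht
    obtain ⟨p, hp'⟩ := CharP.exists F
    obtain ⟨e, hpp, he⟩ := FiniteField.card F p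
    haveI := Fact.mk hpp
    have he1 : (1 : ℕ) < e := by
      rcases Nat.lt_or_ge 1 (e : ℕ) with h | h
      · exact h
      · exfalso
        have := e.pos
        rw [show (e : ℕ) = 1 by omega, pow_one] at he
        exact hpr (he ▸ hpp)
    obtain ⟨φ, r, hr, hcard, -⟩ := exists_maximal_subfield (F := F) (d := 1) he (one_dvd _) he1
    obtain ⟨P, hP, hrat⟩ := lines_subfield h2 hO hD hle φ
    exact subClass φ r P hr hcard hP hrat
  have powerClass : ∀ (k t : ℕ) (e : Idx m ≃ (Fin t → Fin k)) (P : GL (Idx m) F) (G : Matrix (Fin k) (Fin k) F) (c : F),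
      3 ≤ k → Odd k → 2 ≤ t → c ≠ 0 → IsUnit G.det → Gᵀ = G →
      gramP (RingEquiv.refl F) (bil m F) e P = c • pureMat (fun _ => G) → H ≤ tensorWreathSubgroup k t e P →
      ∃ M, InOrthogonalOddClass m F M ∧ H ≤ M := by
    intro k t e P G c hk hko ht hc hGd hGs hgram hle
    by_cases hex : Fintype.card F = 3 ∧ k = 3
    · obtain ⟨h3, rfl⟩ := hex
      obtain ⟨S, l, hl, hS⟩ := congr_odd h2 hko hGs hGd (Matrix.transpose_one) (by simp)
      obtain ⟨P', hle', hgram'⟩ := rebase_power e P hgram S (G' := 1) (l := l) hS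
      have hd : c * l ^ t ≠ 0 := mul_ne_zero hc (pow_ne_zero _ hl)
      rw [pureMat_one] at hgram'
      have hP : (P' : Matrix (Idx m) (Idx m) F)ᵀ * gramMatrix (bil m F) * (P' : Matrix (Idx m) (Idx m) F) =
          (c * l ^ t) • 1 := by
        have h1 := pull_gramP (RingEquiv.refl F) (bil m F) e P'
        rw [hgram', map_smul, map_one] at h1
        exact h1.symm
      obtain ⟨t', D, hD, hleD⟩ := frame h2 (by omega) P' hP hd (H := H) fun h hh => by
        obtain ⟨τ, gs, hval, hsim⟩ := wreath_similar hf hd (G := (1 : Matrix (Fin 3) (Fin 3) F))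
          (by rw [hgram', pureMat_one]) one_ne_zero (hle' (hle hh)) (hI h hh)
        refine ⟨pull e (pureMat (fun i => (gs i : Matrix (Fin 3) (Fin 3) F)) * permMat τ),
          by rw [hval, mul_assoc, Units.inv_mul, mul_one], fun j => ?_⟩
        have hone : ∀ i c, ∃ a, ∀ a', a' ≠ a → (gs i : Matrix (Fin 3) (Fin 3) F) a' c = 0 := fun i c => by
          obtain ⟨l', hl', he⟩ := hsim i
          rw [mul_one, show (gs i : Matrix (Fin 3) (Fin 3) F).map (RingEquiv.refl F) =
            (gs i : Matrix (Fin 3) (Fin 3) F) from rfl] at he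
          exact similar_mono h3 hl' he c
        choose a ha using hone
        refine ⟨e.symm fun i => a i (e j (τ.symm i)), fun i' hi' => ?_⟩
        rw [pull_apply, mul_permMat, pureMat, Matrix.of_apply]
        obtain ⟨x, hx⟩ := Function.ne_iff.1 (fun h : e i' = (fun i => a i (e j (τ.symm i))) =>
          hi' (by rw [← h, Equiv.symm_apply_apply]))
        exact Finset.prod_eq_zero (Finset.mem_univ x) (ha x _ _ hx)
      exact lineClass t' D hD hleD
    · exact ⟨_, Or.inr (Or.inr (Or.inr (Or.inr (Or.inr (Or.inr (Or.inr ⟨k, t, e, P, _, hk, ht, hex,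
        symmetric_of_gram hGd hGs, power_structure hf hc hgram, rfl⟩)))))), le_inf hle hIso⟩
  rcases alg_cases hf hI hirr with himp | ⟨r, K, hr, hK, hKs, hKn, hrn, hle⟩ | ⟨-, hten | hfs⟩
  · left
    rcases himp with ⟨t, k, D, hD, hle, htr⟩ | ⟨k, D, -, -, -, hkn⟩
    · have hDo : IsOrthogonalMDecomposition (Cfsg.quadFormOdd m F) k D := ⟨hD, fun i j => by
        obtain ⟨h, hh, hij⟩ := htr i j
        have hinj : Function.Injective (Matrix.toLin' (h : Matrix (Idx m) (Idx m) F)) :=
          fun x y hxy => (act h).injective (by simpa using hxy)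
        refine ⟨(Submodule.equivMapOfInjective _ hinj (D i)).trans (LinearEquiv.ofEq _ _ hij), fun w => ?_⟩
        exact (omega_le h (hO hh)).1 (w : Idx m → F)⟩
      rcases Nat.lt_or_ge 1 k with hk | hk
      · exact ⟨_, Or.inr (Or.inr (Or.inl ⟨t, k, D, hk, hDo, rfl⟩)), le_inf hle hIso⟩
      · obtain rfl : k = 1 := by have := hD.decomp.pos; omega
        exact lineClass t D hDo hle
    · rw [card_idx] at hkn
      omega
  · left
    have hro : Odd r := Odd.of_dvd_nat hnodd hrn
    have hsa := (AschFormField.field_adj hf hr hK hKs).2 rfl hro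
    have hself : IsSelfAdjointFor (bil m F) K := fun k hk u v => by rw [adjoint_apply hf, hsa k hk]
    by_cases hne : 2 * m + 1 = r
    · exact (no_full_field h2 (by omega) hO hirr hr hK hKn hKs hne).elim
    exact ⟨_, Or.inr (Or.inr (Or.inr (Or.inr (Or.inl ⟨r, K, hr, hne, hK, hself, rfl⟩)))), le_inf hle hIso⟩
  · left
    obtain ⟨k, l, e, P, G₁, G₂, a, b, hd⟩ := hten
    have hkl : k * l = 2 * m + 1 := by
      have := Fintype.card_congr e
      rw [card_idx, Fintype.card_prod, Fintype.card_fin, Fintype.card_fin] at this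
      exact this.symm
    obtain ⟨hko, hlo⟩ : Odd k ∧ Odd l := Nat.odd_mul.1 (hkl ▸ ⟨m, rfl⟩)
    have hsymm : ∀ {n : ℕ} {G : Matrix (Fin n) (Fin n) F} {x : F}, Odd n → IsUnit G.det →
        Gᵀ.map (RingEquiv.refl F) = x • G → Gᵀ = G := by
      intro n G x hn hGd hx
      haveI : Nonempty (Fin n) := ⟨⟨0, by obtain ⟨j, hj⟩ := hn; omega⟩⟩
      have hx' : Gᵀ = x • G := hx
      have h1 : x ^ n = 1 := by
        have := congrArg Matrix.det hx'
        rw [Matrix.det_transpose, Matrix.det_smul, Fintype.card_fin] at this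
        exact mul_right_cancel₀ hGd.ne_zero (by rw [one_mul]; exact this.symm)
      have h3 : x * x = 1 := by
        have h4 := congrArg Matrix.transpose hx'
        rw [Matrix.transpose_transpose, Matrix.transpose_smul, hx', smul_smul] at h4
        have h5 := congrArg Matrix.det h4
        by_contra hne
        have h6 : (1 - x * x) • G = 0 := by rw [sub_smul, one_smul, ← h4, sub_self]
        rcases smul_eq_zero.1 h6 with h | h
        · exact hne (sub_eq_zero.1 h).symm
        · exact hGd.ne_zero (by rw [h]; exact Matrix.det_zero)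
      obtain ⟨j, rfl⟩ := hn
      rw [pow_succ, pow_mul, sq, h3, one_pow, one_mul] at h1
      rw [hx', h1, one_smul]
    have hG1 := hsymm hko hd.det₁ hd.symm₁
    have hG2 := hsymm hlo hd.det₂ hd.symm₂
    have hk3 : 3 ≤ k := by obtain ⟨j, rfl⟩ := hko; have := hd.two_le₁; omega
    have hl3 : 3 ≤ l := by obtain ⟨j, rfl⟩ := hlo; have := hd.two_le₂; omega
    rcases lt_trichotomy k l with h | h | h
    · exact ⟨_, Or.inr (Or.inr (Or.inr (Or.inr (Or.inr (Or.inl ⟨k, l, e, P, _, _, hk3, h,
        symmetric_of_gram hd.det₁ hG1, symmetric_of_gram hd.det₂ hG2,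
        tensor_structure hf one_ne_zero (by rw [one_smul]; exact hd.gram), rfl⟩))))), le_inf hd.le hIso⟩
    · subst h
      obtain ⟨S, c, hc, hS⟩ := congr_odd h2 hko hG2 hd.det₂ hG1 hd.det₁
      obtain ⟨e', P', hle', hgram'⟩ := tensor_to_power hd (S := S) (l := c) hS
      exact powerClass k 2 e' P' G₁ c hk3 hko le_rfl hc hd.det₁ hG1 hgram' hle'
    · have hd' := hd.swap
      exact ⟨_, Or.inr (Or.inr (Or.inr (Or.inr (Or.inr (Or.inl ⟨l, k, _, P, _, _, hl3, h,
        symmetric_of_gram hd.det₂ hG2, symmetric_of_gram hd.det₁ hG1,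
        tensor_structure hf one_ne_zero (by rw [one_smul]; exact hd'.gram), rfl⟩))))), le_inf hd'.le hIso⟩
  · rcases core_cases (by rw [card_idx]; omega) hirr
      (fun N hn hN => hfs.alternative hf hn fun g hg => hI g (hN hg)) with
      ⟨N, hNle, -, habs, hc2, -⟩ | ⟨t, M, hfam⟩ | ⟨P, hP⟩
    · exact (no_class2 h2 (by omega) (hNle.trans hO) habs hc2).elim
    · left
      obtain ⟨k, e, P, G, a, c, hd⟩ := wreath_form hf hI hfs hfam
      have hkt : k ^ t = 2 * m + 1 := by
        have := Fintype.card_congr e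
        rw [card_idx, Fintype.card_fun, Fintype.card_fin, Fintype.card_fin] at this
        exact this.symm
      have hko : Odd k := by
        rcases Nat.even_or_odd k with h | h
        · exfalso
          have : Even (k ^ t) := Nat.even_pow.2 ⟨h, by have := hd.two_le₂; omega⟩
          rw [hkt] at this
          exact Nat.not_even_iff_odd.2 ⟨m, rfl⟩ this
        · exact h
      have hGs : Gᵀ = G := by
        have hx' : Gᵀ = a • G := hd.symm
        have h1 : a ^ k = 1 := by
          have := congrArg Matrix.det hx'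
          rw [Matrix.det_transpose, Matrix.det_smul, Fintype.card_fin] at this
          exact mul_right_cancel₀ hd.det.ne_zero (by rw [one_mul]; exact this.symm)
        obtain ⟨j, rfl⟩ := hko
        have hn : a * a = 1 := by simpa using hd.norm
        rw [pow_succ, pow_mul, sq, hn, one_pow, one_mul] at h1
        rw [hx', h1, one_smul]
      have hk3 : 3 ≤ k := by obtain ⟨j, rfl⟩ := hko; have := hd.two_le₁; omega
      exact powerClass k t e P G c hk3 hko hd.two_le₂ hd.c_ne hd.det hGs hd.gram hd.le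
    · by_cases hreal : ∃ F₀ : Subfield F, F₀ ≠ ⊤ ∧ RealisableOver F₀ (matrixSet P)
      · left
        obtain ⟨F₀, hne, C, hC⟩ := hreal
        obtain ⟨φ, r, hr, hcard, hfix⟩ := exists_maximal_above hne
        obtain ⟨P', hle, hrat⟩ := rational_structure h2 hP.absIrred hP.normal (hP.le.trans hO)
          (fun s hs i j => hfix _ (by simpa using hC _ ⟨s, hs, rfl⟩ i j))
        exact subClass φ r P' hr hcard hle hrat
      push Not at hreal
      right
      refine ⟨P, ⟨hP.le, hP.normal, hP.perfect, hP.simple, hP.nonabelian,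
        hP.centralizer_scalar, hP.absIrred, hreal⟩, ?_⟩
      rintro ⟨σ, g, hg, hfix⟩
      obtain ⟨q, hF, hσ⟩ := AschFormTwist.exists_q hg
      exact hreal _ (AschPrimeUnitary.fixed_fr_ne_top hF)
        (AschFormTwist.realisable_of_unitary hf hg hF hσ hP.absIrred (fun s hs => hI s (hP.le hs)) hfix)

end Cfsg.Agent.AschFormOrth
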