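/-
Aschbacher's theorem with a form, part 12: class-two groups give groups of symplectic type.
-/
import Cfsg.Agent.Lib.AschGenLinear
import Cfsg.Agent.Lib.AschFormAlg

set_option autoImplicit false
set_option linter.unusedSectionVars false

namespace Cfsg.Agent.AschFormExtra

open scoped Matrix Kronecker commutatorElement
open Cfsg Cfsg.Geo Cfsg.Agent.AschPrimeBasic Cfsg.Agent.AschPrimeForms Cfsg.Agent.AschPrimeCore
  Cfsg.Agent.AschGenAlgebra Cfsg.Agent.AschGenTensor Cfsg.Agent.AschGenExtra Cfsg.Agent.AschFormBasic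
  Cfsg.Agent.AschFormAlg

variable {ι : Type} [Fintype ι] [DecidableEq ι] {F : Type*} [Field F] [Fintype F]

/-- the realisation of a class-2 group over the field generated by its scalars -/
theorem realisable_of_fixed [Nonempty ι] {N : Subgroup (GL ι F)} (hN : AbsIrred N)
    (h2 : Class2 N) (φ : F ≃+* F) (hz : ∀ z ∈ N, ∀ c : F, (z : Matrix ι ι F) = c • 1 → φ c = c) :
    ∃ B : GL ι F, ∀ x ∈ N, ∀ i j, φ (((B * x * B⁻¹ : GL ι F) : Matrix ι ι F) i j) =
      ((B * x * B⁻¹ : GL ι F) : Matrix ι ι F) i j := by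
  classical
  obtain ⟨B, hB0, hB'⟩ := exists_intertwiner hN h2 (fun x => (x : Matrix ι ι F))
    (fun x => ((x⁻¹ : GL ι F) : Matrix ι ι F).map φ) (fun x _ y _ => rfl)
    (fun x _ y _ => by simp [map_mul_map]) (fun x hx hs => trace_eq_zero hN h2 hx hs)
    (fun x hx hs => by
      obtain ⟨c, hc⟩ := (mem_scalars_iff _).1 hs
      have hinv : ((x⁻¹ : GL ι F) : Matrix ι ι F) = (c : F)⁻¹ • 1 := by
        refine Units.inv_eq_of_mul_eq_one_right ?_
        simp [hc, smul_smul]
      have e : (((x⁻¹ : GL ι F) : Matrix ι ι F).map φ).trace = (Fintype.card ι : F) * φ (c : F)⁻¹ := by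
        simp [Matrix.trace, hinv, mul_comm]
      rw [e, hc, Matrix.trace_smul, Matrix.trace_one, smul_eq_mul, map_inv₀, hz x hx c hc]
      field_simp [Units.ne_zero c])
  have hB : ∀ x ∈ N, (x : Matrix ι ι F) * B = B * (x : Matrix ι ι F).map φ := fun x hx => by
    conv_rhs => rw [← hB' x hx]
    simp only [mul_assoc, ← map_mul_map, Units.inv_mul]
    simp
  have hdet : B.det ≠ 0 := det_ne_zero_of_twisted hN.irred φ hB0 fun x hx => ⟨_, (hB x hx).symm⟩
  -- the semilinear map
  let T : (ι → F) → (ι → F) := fun v => B *ᵥ (φ ∘ v)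
  have Tadd : ∀ u v, T (u + v) = T u + T v := fun u v => by
    simp only [T]
    rw [show φ ∘ (u + v) = φ ∘ u + φ ∘ v from funext fun i => map_add φ _ _, Matrix.mulVec_add]
  have Tsmul : ∀ (a : F) v, T (a • v) = φ a • T v := fun a v => by
    simp only [T]
    rw [show φ ∘ (a • v) = φ a • (φ ∘ v) from funext fun i => map_mul φ _ _, Matrix.mulVec_smul]
  have hcomp : ∀ (M : Matrix ι ι F) (v : ι → F), φ ∘ (M *ᵥ v) = M.map φ *ᵥ (φ ∘ v) := fun M v =>
    funext fun i => RingHom.map_mulVec (φ : F →+* F) M v i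
  have Tx : ∀ x ∈ N, ∀ v, T ((x : Matrix ι ι F) *ᵥ v) = (x : Matrix ι ι F) *ᵥ T v := fun x hx v => by
    simp only [T, hcomp, Matrix.mulVec_mulVec, hB x hx]
  haveI : Finite (F ≃+* F) := Finite.of_injective (fun e => (e : F → F)) fun e e' h =>
    RingEquiv.ext fun x => congrFun h x
  set d := orderOf φ with hd
  have hd0 : 0 < d := orderOf_pos φ
  have hφd : φ ^ d = 1 := pow_orderOf_eq_one φ
  -- the power `T^d` is linear and commutes with `N`
  have Tit : ∀ k : ℕ, (∀ u v, T^[k] (u + v) = T^[k] u + T^[k] v) ∧ (∀ (a : F) v, T^[k] (a • v) = (φ ^ k) a • T^[k] v) ∧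
      ∀ x ∈ N, ∀ v, T^[k] ((x : Matrix ι ι F) *ᵥ v) = (x : Matrix ι ι F) *ᵥ T^[k] v := by
    intro k
    induction k with
    | zero => simp
    | succ k ih =>
      refine ⟨fun u v => ?_, fun a v => ?_, fun x hx v => ?_⟩
      · simp only [Function.iterate_succ', Function.comp_apply, ih.1, Tadd]
      · simp only [Function.iterate_succ', Function.comp_apply, ih.2.1, Tsmul, pow_succ']
        rfl
      · simp only [Function.iterate_succ', Function.comp_apply, ih.2.2 x hx, Tx x hx]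
  let Lm : (ι → F) →ₗ[F] (ι → F) :=
    { toFun := T^[d]
      map_add' := (Tit d).1
      map_smul' := fun a v => by rw [(Tit d).2.1, hφd]; rfl }
  obtain ⟨l, hl⟩ := hN.commutant (M := LinearMap.toMatrix' Lm) fun x hx => by
    apply Matrix.toLin'.injective
    apply LinearMap.ext
    intro v
    rw [Matrix.toLin'_mul, Matrix.toLin'_mul, Matrix.toLin'_toMatrix']
    simp only [LinearMap.comp_apply, Matrix.toLin'_apply]
    exact (Tit d).2.2 x hx v
  have hTd : ∀ v, T^[d] v = l • v := fun v => by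
    have h1 := congrArg (fun M => Matrix.toLin' M v) hl
    simp only [Matrix.toLin'_toMatrix'] at h1
    rw [Matrix.toLin'_apply, Matrix.smul_mulVec, Matrix.one_mulVec] at h1
    exact h1
  obtain ⟨w, hw⟩ : ∃ w : ι → F, w ≠ 0 := ⟨fun _ => 1, fun h => one_ne_zero (congrFun h (Classical.arbitrary ι))⟩
  have Tinj : Function.Injective T := fun u v huv => by
    have h1 : B *ᵥ (φ ∘ u - φ ∘ v) = 0 := by rw [Matrix.mulVec_sub, sub_eq_zero]; exact huv
    by_contra hne
    exact hdet (Matrix.exists_mulVec_eq_zero_iff.1 ⟨_, fun h0 => hne (funext fun i => φ.injective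
      (sub_eq_zero.1 (congrFun h0 i))), h1⟩)
  have T0 : T 0 = 0 := by simpa using Tsmul 0 w
  have hl0 : l ≠ 0 := fun h0 => hw (Tinj.iterate d (by
    rw [hTd, hTd, h0, zero_smul, zero_smul]))
  have hlfix : φ l = l := by
    have h1 : T^[d] (T w) = T (T^[d] w) := by rw [← Function.iterate_succ_apply, Function.iterate_succ_apply']
    rw [hTd, hTd, Tsmul] at h1
    have h2 : T w ≠ 0 := fun h => hw (Tinj (h.trans T0.symm))
    exact (smul_left_injective F h2 h1).symm
  -- fixed elements are norms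
  obtain ⟨c, hc⟩ : ∃ c : Fˣ, ∏ i ∈ Finset.range d, (φ ^ i) (c : F) = l := by
    let nm : Fˣ →* Fˣ :=
      { toFun := fun c => ∏ i ∈ Finset.range d, Units.map ((φ ^ i : F ≃+* F) : F →* F) c
        map_one' := by simp
        map_mul' := fun a b => by simp [Finset.prod_mul_distrib] }
    let δ : Fˣ →* Fˣ :=
      { toFun := fun y => Units.map (φ : F →* F) y * y⁻¹
        map_one' := by simp
        map_mul' := fun a b => by simp [mul_mul_mul_comm, mul_comm] }
    have hlin : ∀ c : Fˣ, nm c = 1 → c ∈ δ.range := by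
      intro c hc
      let cs : ℕ → F := fun k => ∏ i ∈ Finset.range k, (φ ^ i) (c : F)
      have hcsd : cs d = 1 := by
        simpa [nm, cs, Units.coe_prod] using congrArg Units.val hc
      obtain ⟨t, ht⟩ : ∃ t : F, ∑ k ∈ Finset.range d, cs k * (φ ^ k) t ≠ 0 := by
        by_contra h
        push Not at h
        have hinj : Function.Injective fun k : Fin d => ((φ ^ (k : ℕ) : F ≃+* F) : F →* F) := fun a b hab =>
          Fin.ext (pow_injOn_Iio_orderOf a.2 b.2 (RingEquiv.ext fun x => DFunLike.congr_fun hab x))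
        have hli := (linearIndependent_monoidHom F F).comp _ hinj
        have h1 := Fintype.linearIndependent_iff.1 hli (fun k : Fin d => cs k) (by
          funext t
          simp only [Finset.sum_apply, Pi.smul_apply, smul_eq_mul, Function.comp_apply, MonoidHom.coe_coe,
            Pi.zero_apply]
          exact (Fin.sum_univ_eq_sum_range (fun k => cs k * (φ ^ k) t) d).trans (h t)) ⟨0, hd0⟩
        simp [cs] at h1
      set y := ∑ k ∈ Finset.range d, cs k * (φ ^ k) t with hy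
      refine ⟨(Units.mk0 y ht)⁻¹, ?_⟩
      have hstep : ∀ k, (c : F) * φ (cs k * (φ ^ k) t) = cs (k + 1) * (φ ^ (k + 1)) t := by
        intro k
        simp only [cs, map_mul, map_prod, Finset.prod_range_succ', pow_zero, RingAut.one_apply, pow_succ']
        simp only [RingAut.mul_apply]
        ring
      have hshift : (c : F) * φ y = y := by
        rw [hy, map_sum, Finset.mul_sum, Finset.sum_congr rfl fun k _ => hstep k]
        have h1 := Finset.sum_range_succ' (fun k => cs k * (φ ^ k) t) d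
        rw [Finset.sum_range_succ, hcsd] at h1
        simp only [cs, Finset.range_zero, Finset.prod_empty, pow_zero, RingAut.one_apply, one_mul, hφd] at h1
        exact (add_right_cancel h1).symm
      apply Units.ext
      simp [δ]
      rw [inv_mul_eq_iff_eq_mul₀ (by simpa using ht), mul_comm]
      exact hshift.symm
    have hker : nm.range ≤ δ.ker := by
      rintro _ ⟨c, rfl⟩
      rw [MonoidHom.mem_ker]
      show Units.map (φ : F →* F) (nm c) * (nm c)⁻¹ = 1
      rw [mul_inv_eq_one]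
      apply Units.ext
      simp only [nm, MonoidHom.coe_mk, OneHom.coe_mk, Units.coe_map, Units.coe_prod, map_prod, MonoidHom.coe_coe]
      have h1 := Finset.prod_range_succ' (fun i => (φ ^ i) (c : F)) d
      rw [Finset.prod_range_succ, hφd, pow_zero] at h1
      have h2 : ∏ i ∈ Finset.range d, φ ((φ ^ i) (c : F)) = ∏ i ∈ Finset.range d, (φ ^ (i + 1)) (c : F) :=
        Finset.prod_congr rfl fun i _ => by rw [pow_succ']; rfl
      rw [h2]
      exact (mul_right_cancel₀ (by simp) h1).symm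
    have hcard : Nat.card δ.ker ≤ Nat.card nm.range := by
      have e1 := Subgroup.card_mul_index nm.ker
      have e2 := Subgroup.card_mul_index δ.ker
      rw [Subgroup.index_ker] at e1 e2
      have e3 : Nat.card nm.ker ≤ Nat.card δ.range :=
        Subgroup.card_le_of_le fun c hc => hlin c (MonoidHom.mem_ker.1 hc)
      have hpos : 0 < Nat.card δ.range := Nat.card_pos
      by_contra hlt
      push Not at hlt
      have : Nat.card nm.ker * Nat.card nm.range < Nat.card δ.range * Nat.card δ.ker :=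
        Nat.mul_lt_mul_of_le_of_lt e3 hlt hpos
      rw [e1, mul_comm (Nat.card δ.range), e2] at this
      exact lt_irrefl _ this
    have heq : nm.range = δ.ker := Subgroup.eq_of_le_of_card_ge hker hcard
    have hmem : Units.mk0 l hl0 ∈ δ.ker := by
      rw [MonoidHom.mem_ker]
      show Units.map (φ : F →* F) _ * _ = 1
      rw [mul_inv_eq_one]
      exact Units.ext (by simpa using hlfix)
    obtain ⟨c, hc⟩ := heq ▸ hmem
    exact ⟨c, by simpa [nm, Units.coe_prod] using congrArg Units.val hc⟩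
  let S : (ι → F) → (ι → F) := fun v => (c : F)⁻¹ • T v
  have Sit : ∀ k v, S^[k] v = (∏ i ∈ Finset.range k, (φ ^ i) (c : F))⁻¹ • T^[k] v := by
    intro k
    induction k with
    | zero => simp
    | succ k ih =>
      intro v
      rw [Function.iterate_succ_apply', ih]
      simp only [S, Tsmul, smul_smul, map_inv₀, map_prod, Function.iterate_succ_apply']
      congr 1
      rw [Finset.prod_range_succ', mul_inv]
      simp only [pow_succ', RingAut.mul_apply, pow_zero, RingAut.one_apply]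
      ring
  have Sd : ∀ v, S^[d] v = v := fun v => by rw [Sit, hTd, hc, smul_smul, inv_mul_cancel₀ hl0, one_smul]
  have hspan : Submodule.span F {v | S v = v} = ⊤ := by
    by_contra hne
    obtain ⟨v, hv⟩ : ∃ v, v ∉ Submodule.span F {v | S v = v} := by
      by_contra h
      push Not at h
      exact hne (eq_top_iff.2 fun v _ => h v)
    obtain ⟨g, hg, hg'⟩ := Submodule.exists_dual_map_eq_bot_of_notMem hv inferInstance
    have hsum : ∀ t : F, ∑ k ∈ Finset.range d, (φ ^ k) t * g (S^[k] v) = 0 := by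
      intro t
      have hSk : ∀ k, S^[k] (t • v) = (φ ^ k) t • S^[k] v := fun k => by
        rw [Sit, Sit, (Tit k).2.1, smul_comm]
      have hfixed : S (∑ k ∈ Finset.range d, S^[k] (t • v)) = ∑ k ∈ Finset.range d, S^[k] (t • v) := by
        have Sadd : ∀ u w, S (u + w) = S u + S w := fun u w => by simp [S, Tadd]
        let SA : (ι → F) →+ (ι → F) := AddMonoidHom.mk' S Sadd
        show SA _ = _
        rw [map_sum]
        have h1 := Finset.sum_range_succ' (fun k => S^[k] (t • v)) d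
        rw [Finset.sum_range_succ, Sd] at h1
        simp only [Function.iterate_zero, id_eq] at h1
        refine Eq.trans ?_ (add_right_cancel h1).symm
        exact Finset.sum_congr rfl fun k _ => (Function.iterate_succ_apply' S k _).symm
      have h1 : g (∑ k ∈ Finset.range d, S^[k] (t • v)) = 0 := by
        have : g (∑ k ∈ Finset.range d, S^[k] (t • v)) ∈ (Submodule.span F {v | S v = v}).map g :=
          ⟨_, Submodule.subset_span hfixed, rfl⟩
        rwa [hg', Submodule.mem_bot] at this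
      simpa [map_sum, hSk] using h1
    have hinj : Function.Injective fun k : Fin d => ((φ ^ (k : ℕ) : F ≃+* F) : F →* F) := fun a b hab =>
      Fin.ext (pow_injOn_Iio_orderOf a.2 b.2 (RingEquiv.ext fun x => DFunLike.congr_fun hab x))
    have h1 := Fintype.linearIndependent_iff.1 ((linearIndependent_monoidHom F F).comp _ hinj)
      (fun k : Fin d => g (S^[(k : ℕ)] v)) (by
        funext t
        simp only [Finset.sum_apply, Pi.smul_apply, smul_eq_mul, Function.comp_apply, MonoidHom.coe_coe,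
          Pi.zero_apply]
        rw [Fin.sum_univ_eq_sum_range (fun k => g (S^[k] v) * (φ ^ k) t) d, ← hsum t]
        exact Finset.sum_congr rfl fun k _ => mul_comm _ _) ⟨0, hd0⟩
    exact hg (by simpa using h1)
  -- a basis of fixed vectors
  obtain ⟨b, hb, hspanb, hlib⟩ := exists_linearIndependent F {v : ι → F | S v = v}
  rw [hspan] at hspanb
  haveI : Fintype b := (hlib.setFinite).fintype
  let bb := Module.Basis.mk hlib (by rw [Subtype.range_coe_subtype, Set.setOf_mem_eq, hspanb])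
  let e : ι ≃ b := Fintype.equivOfCardEq (by rw [← Module.finrank_eq_card_basis bb, Module.finrank_pi])
  let Pm : Matrix ι ι F := Matrix.of fun r j => (e j : ι → F) r
  have hPdet : Pm.det ≠ 0 := ((Matrix.isUnit_iff_isUnit_det _).1
    (Matrix.linearIndependent_cols_iff_isUnit.1 (hlib.comp e e.injective))).ne_zero
  let P : GL ι F := Matrix.GeneralLinearGroup.mkOfDetNeZero Pm hPdet
  have hP : B * Pm.map φ = (c : F) • Pm := by
    ext r j
    have h1 := congrFun (hb (e j).2) r
    simp only [S, T, Pi.smul_apply, smul_eq_mul, Matrix.mulVec, dotProduct, Function.comp_apply] at h1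
    rw [Matrix.mul_apply, Matrix.smul_apply, smul_eq_mul]
    show ∑ k, B r k * φ ((e j : ι → F) k) = c * (e j : ι → F) r
    rw [← h1, ← mul_assoc, mul_inv_cancel₀ (Units.ne_zero c), one_mul]
  refine ⟨P⁻¹, fun x hx i j => ?_⟩
  rw [inv_inv]
  set Y : Matrix ι ι F := ((P⁻¹ * x * P : GL ι F) : Matrix ι ι F) with hY
  suffices Y.map φ = Y from congrFun (congrFun this i) j
  have hxP : (x : Matrix ι ι F) * Pm = Pm * Y := by
    show (x : Matrix ι ι F) * (P : Matrix ι ι F) = _ * Y
    rw [hY, show Pm = (P : Matrix ι ι F) from rfl, ← Units.val_mul, ← Units.val_mul]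
    congr 1
    group
  have h1 : B * (Pm.map φ * Y.map φ) = B * (Pm.map φ * Y) := by
    rw [← map_mul_map, ← hxP, map_mul_map, ← mul_assoc, ← hB x hx, mul_assoc, hP, Matrix.mul_smul, hxP,
      ← mul_assoc B, hP, Matrix.smul_mul]
  have hu : IsUnit (B * Pm.map φ) := by
    rw [Matrix.isUnit_iff_isUnit_det, hP, Matrix.det_smul, isUnit_iff_ne_zero]
    exact mul_ne_zero (pow_ne_zero _ (Units.ne_zero c)) hPdet
  exact hu.mul_left_cancel (by simpa [mul_assoc] using h1)


/-- a normalised commutative group of similitudes is scalar -/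
lemma scalar_of_commSimple [Nonempty ι] {σ : F ≃+* F} {ε : F} {f : (ι → F) → (ι → F) → F} (hf : FormData σ ε f)
    {H : Subgroup (GL ι F)} (hI : Isos H f) (hcs : CommSimple σ f H) {A : Subgroup (GL ι F)} (hn : NormalBy H A)
    (hle : A ≤ H ⊔ scalars ι F) (hc : ∀ x ∈ A, ∀ y ∈ A, x * y = y * x) : A ≤ scalars ι F := by
  have hmem : ∀ g ∈ A, (g : Matrix ι ι F) ∈ Algebra.adjoin F (matrixSet A) := fun g hg =>
    Algebra.subset_adjoin ⟨g, hg, rfl⟩
  have hstar : StarClosed σ (gramMatrix f) (Algebra.adjoin F (matrixSet A)) := by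
    refine StarClosed.adjoin hf ?_
    rintro _ ⟨g, hg, rfl⟩
    obtain ⟨a, ha, s, hs, rfl⟩ := mem_sup_scalars le_rfl (hle hg)
    obtain ⟨c, hc⟩ := (mem_scalars_iff s).1 hs
    have hinv : ((s⁻¹ : GL ι F) : Matrix ι ι F) = (c : F)⁻¹ • 1 := by
      refine Units.inv_eq_of_mul_eq_one_right ?_
      simp [hc, smul_smul]
    have e : adj σ (gramMatrix f) ((a * s : GL ι F) : Matrix ι ι F) =
        (σ (c : F) * (c : F)) • (((a * s)⁻¹ : GL ι F) : Matrix ι ι F) := by
      rw [Units.val_mul, hc, Matrix.mul_smul, mul_one, adj_smul, adj_iso hf (hI a ha), mul_inv_rev, Units.val_mul,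
        hinv, Matrix.smul_mul, one_mul, smul_smul, mul_assoc, mul_inv_cancel₀ c.ne_zero, mul_one]
    show adj σ (gramMatrix f) ((a * s : GL ι F) : Matrix ι ι F) ∈ _
    rw [e]
    exact Subalgebra.smul_mem _ (hmem _ (A.inv_mem hg)) _
  have hcomm : ∀ x ∈ Algebra.adjoin F (matrixSet A), ∀ y ∈ Algebra.adjoin F (matrixSet A), x * y = y * x := by
    intro x hx y hy
    refine Algebra.commute_of_mem_adjoin_of_forall_mem_commute hy ?_
    rintro _ ⟨g, hg, rfl⟩
    refine (Algebra.commute_of_mem_adjoin_of_forall_mem_commute hx ?_).symm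
    rintro _ ⟨h, hh, rfl⟩
    exact congrArg Units.val (hc g hg h hh)
  have hb := hcs _ (AschGenLinear.algNorm_adjoin hn) hstar hcomm
  intro g hg
  obtain ⟨c, hcv⟩ := Algebra.mem_bot.1 (hb ▸ hmem g hg : (g : Matrix ι ι F) ∈ (⊥ : Subalgebra F _))
  exact mem_scalars_of_comm (c := c) (by rw [← hcv, Algebra.algebraMap_eq_smul_one])

/-- a minimal normal class-2 group gives a group of symplectic type -/
theorem extra_group (hn2 : 2 ≤ Fintype.card ι) {H N : Subgroup (GL ι F)} (hNle : N ≤ H) (hn : NormalBy H N)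
    (hN : AbsIrred N) (h2 : Class2 N)
    (hmin : (∀ K, K ≤ N → NormalBy H K → N ⊓ scalars ι F ≤ K → K ≤ scalars ι F ∨ K = N) ∨
      ∃ r' : ℕ, r'.Prime ∧ ∀ x ∈ N, x ^ r' = 1)
    (h4 : (2 : F) ≠ 0 → 4 ∣ Fintype.card F - 1)
    (hab : ∀ A : Subgroup (GL ι F), NormalBy H A → A ≤ H ⊔ scalars ι F → (∀ x ∈ A, ∀ y ∈ A, x * y = y * x) →
      A ≤ scalars ι F) :
    ∃ (r z m p e : ℕ) (R : Subgroup (GL ι F)), r.Prime ∧ Fintype.card ι = r ^ m ∧ 1 ≤ m ∧
      z = (if r = 2 then 4 else r) ∧ p.Prime ∧ CharP F p ∧ Fintype.card F = p ^ e ∧ r ≠ p ∧ z ∣ p ^ e - 1 ∧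
      NormalBy H R ∧ H ≤ subgroupNormalizer R ∧ AbsIrred R ∧ Class2 R ∧ R ≤ N ⊔ scalars ι F ∧
      (∀ x ∈ R, x ^ z = 1) ∧
      (∀ x ∈ R, ∃ a ∈ N, ∃ c : F, c ^ z = 1 ∧ (x : Matrix ι ι F) = c • (a : Matrix ι ι F)) ∧
      IsSymplecticTypeGroup r R ∧ Nat.card (Subgroup.center R) = z ∧ Nat.card R = z * (Fintype.card ι * Fintype.card ι) ∧
      ∃ x ∈ N, ∃ y ∈ N, ⁅x, y⁆ ^ r = 1 ∧ ⁅x, y⁆ ≠ 1 ∧ ⁅x, y⁆ ∈ scalars ι F := by
  classical
  haveI : Nonempty ι := Fintype.card_pos_iff.1 (by omega)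
  let qh := QuotientGroup.mk' (scalars ι F)
  have hqc : ∀ x ∈ N, ∀ y ∈ N, Commute (qh x) (qh y) := fun x hx y hy => by
    show qh x * qh y = qh y * qh x
    rw [← commutatorElement_eq_one_iff_mul_comm, ← map_commutatorElement]
    exact (QuotientGroup.eq_one_iff _).2 (h2 x hx y hy)
  have hqs : ∀ x, x ∈ scalars ι F ↔ qh x = 1 := fun x => (QuotientGroup.eq_one_iff _).symm
  have hQ := card_quot hN h2
  set n := Fintype.card ι with hn'
  set Q := N ⧸ (scalars ι F).subgroupOf N with hQdef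
  have hQ1 : 1 < Nat.card Q := by rw [hQ]; exact Nat.mul_le_mul (show 2 ≤ n by omega) (show 1 ≤ n by omega)
  obtain ⟨r, hr, hrQ⟩ := Nat.exists_prime_and_dvd hQ1.ne'
  haveI := Fact.mk hr
  -- exponent `r` modulo scalars
  let K₀ : Subgroup (GL ι F) :=
    { carrier := {x | x ∈ N ∧ x ^ r ∈ scalars ι F}
      one_mem' := ⟨N.one_mem, by simpa using (scalars ι F).one_mem⟩
      mul_mem' := fun {x y} hx hy => ⟨N.mul_mem hx.1 hy.1, by
        rw [hqs, map_pow, map_mul, (hqc x hx.1 y hy.1).mul_pow, ← map_pow, ← map_pow, (hqs _).1 hx.2,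
          (hqs _).1 hy.2, one_mul]⟩
      inv_mem' := fun {x} hx => ⟨N.inv_mem hx.1, by rw [inv_pow]; exact (scalars ι F).inv_mem hx.2⟩ }
  have hns : ¬ N ≤ scalars ι F := fun h => hQ1.ne' (by
    have : Subsingleton Q := ⟨fun a b => by
      obtain ⟨a, rfl⟩ := QuotientGroup.mk_surjective a
      obtain ⟨b, rfl⟩ := QuotientGroup.mk_surjective b
      exact QuotientGroup.eq.2 (Subgroup.mem_subgroupOf.2 (h (a⁻¹ * b).2))⟩
    exact Nat.card_of_subsingleton (1 : Q))
  have hmin' : ∀ K, K ≤ N → NormalBy H K → N ⊓ scalars ι F ≤ K → (∀ x ∈ N, x ^ r = 1 → x ∈ K) →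
      K ≤ scalars ι F ∨ K = N := by
    rcases hmin with hmin | ⟨r', hr', hexp'⟩
    · exact fun K h1 h2 h3 _ => hmin K h1 h2 h3
    · intro K hKN _ _ hK
      obtain ⟨g, hg⟩ := exists_prime_orderOf_dvd_card' r hrQ
      have hrr : r = r' := by
        obtain ⟨x, rfl⟩ := QuotientGroup.mk_surjective g
        refine (Nat.prime_dvd_prime_iff_eq hr hr').1 (hg ▸ orderOf_dvd_of_pow_eq_one ?_)
        rw [← QuotientGroup.mk_pow, show x ^ r' = 1 from Subtype.ext (by simpa using hexp' x x.2), QuotientGroup.mk_one]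
      exact Or.inr (le_antisymm hKN fun x hx => hK x hx (hrr ▸ hexp' x hx))
  have hpow : ∀ x ∈ N, x ^ r ∈ scalars ι F := by
    have hK : K₀ = N := by
      refine (hmin' K₀ (fun x hx => hx.1) (fun h hh x hx => ⟨hn h hh x hx.1, ?_⟩)
        (fun x hx => ⟨hx.1, (scalars ι F).pow_mem hx.2 r⟩)
        (fun x hx h => ⟨hx, h ▸ (scalars ι F).one_mem⟩)).resolve_left fun hle => ?_
      · rw [show (h * x * h⁻¹) ^ r = h * x ^ r * h⁻¹ from by simpa using (map_pow (MulAut.conj h) x r).symm]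
        exact (scalars_normal (ι := ι) (F := F)).conj_mem _ hx.2 h
      · obtain ⟨g, hg⟩ := exists_prime_orderOf_dvd_card' r hrQ
        obtain ⟨x, rfl⟩ := QuotientGroup.mk_surjective g
        have h1 : (QuotientGroup.mk x : Q) ^ r = 1 := hg ▸ pow_orderOf_eq_one _
        have hx : (x : GL ι F) ∈ K₀ := ⟨x.2, by
          rw [← QuotientGroup.mk_pow, QuotientGroup.eq_one_iff] at h1
          simpa using Subgroup.mem_subgroupOf.1 h1⟩
        rw [(QuotientGroup.eq_one_iff x).2 (Subgroup.mem_subgroupOf.2 (hle hx)), orderOf_one] at hg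
        exact hr.one_lt.ne hg
    intro x hx
    exact (hK.symm ▸ hx : x ∈ K₀).2
  obtain ⟨m, hm⟩ : ∃ m, n = r ^ m := by
    have hP : IsPGroup r Q := fun g => by
      obtain ⟨x, rfl⟩ := QuotientGroup.mk_surjective g
      refine ⟨1, ?_⟩
      rw [pow_one, ← QuotientGroup.mk_pow, QuotientGroup.eq_one_iff]
      exact Subgroup.mem_subgroupOf.2 (by simpa using hpow x x.2)
    obtain ⟨k, hk⟩ := IsPGroup.iff_card.1 hP
    rw [hQ] at hk
    obtain ⟨m, -, hm⟩ := (Nat.dvd_prime_pow hr).1 (hk ▸ dvd_mul_right n n : n ∣ r ^ k)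
    exact ⟨m, hm⟩
  have hm1 : 1 ≤ m := by
    rcases Nat.eq_zero_or_pos m with h | h
    · rw [h, pow_zero] at hm; omega
    · exact h
  -- commutators have order dividing `r`
  have hcr : ∀ x ∈ N, ∀ y ∈ N, ⁅x, y⁆ ^ r = 1 := by
    intro x hx y hy
    have hc := h2 x hx y hy
    have h1 : x * y ^ r * x⁻¹ = ⁅x, y⁆ ^ r * y ^ r := by
      rw [← (show Commute ⁅x, y⁆ y from scalar_comm hc y).mul_pow,
        show x * y ^ r * x⁻¹ = (x * y * x⁻¹) ^ r from by simpa using map_pow (MulAut.conj x) y r,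
        commutatorElement_def]
      congr 1
      group
    rw [← scalar_comm (hpow y hy) x, mul_inv_cancel_right] at h1
    exact (right_eq_mul.1 h1)
  obtain ⟨x₀, hx₀, hx₀s⟩ := SetLike.not_le_iff_exists.1 hns
  obtain ⟨y₀, hy₀, hne⟩ := commutator_ne hN hx₀s
  obtain ⟨c₀, hc₀⟩ := (mem_scalars_iff _).1 (h2 y₀ hy₀ x₀ hx₀)
  have hc₀r : c₀ ^ r = 1 ∧ c₀ ≠ 1 := by
    refine ⟨Units.ext ?_, fun h => hne (Units.ext (by rw [hc₀, h]; simp))⟩
    have := congrArg (fun z : GL ι F => (z : Matrix ι ι F) (Classical.arbitrary ι) (Classical.arbitrary ι))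
      (hcr y₀ hy₀ x₀ hx₀)
    simpa [Units.val_pow_eq_pow_val, hc₀, smul_pow] using this
  have hord : orderOf c₀ = r := orderOf_eq_prime hc₀r.1 hc₀r.2
  obtain ⟨p, hp⟩ := CharP.exists F
  obtain ⟨⟨e, he0⟩, hpp, he⟩ := FiniteField.card F p
  simp only [PNat.mk_coe] at he
  haveI := Fact.mk hpp
  have hrq : r ∣ p ^ e - 1 := by
    rw [← he, ← hord, ← Fintype.card_units]
    exact orderOf_dvd_card
  have hrp : r ≠ p := by
    rintro rfl
    have h1 := Nat.dvd_sub (dvd_pow_self r he0.ne') hrq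
    rw [show r ^ e - (r ^ e - 1) = 1 by have := Nat.one_le_pow e r hr.pos; omega] at h1
    exact hr.one_lt.ne' (Nat.dvd_one.1 h1)
  have h2ne : r = 2 → (2 : F) ≠ 0 := fun h2' h => hrp (by
    have : p ∣ 2 := (CharP.cast_eq_zero_iff F p 2).1 (by exact_mod_cast h)
    rw [h2']
    exact ((Nat.prime_dvd_prime_iff_eq hpp Nat.prime_two).1 this).symm)
  set z := if r = 2 then 4 else r with hzdef
  have hrz : r ∣ z := by rw [hzdef]; split_ifs with h <;> simp [h]
  have hz3 : 3 ≤ z := by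
    rw [hzdef]; split_ifs with h
    · norm_num
    · have := hr.two_le; omega
  have hzq : z ∣ Fintype.card F - 1 := by
    rw [he, hzdef]; split_ifs with h
    · rw [← he]; exact h4 (h2ne h)
    · exact hrq
  let μ : Subgroup (GL ι F) :=
    { carrier := {x | x ∈ scalars ι F ∧ x ^ z = 1}
      one_mem' := ⟨(scalars ι F).one_mem, one_pow z⟩
      mul_mem' := fun {x y} hx hy => ⟨(scalars ι F).mul_mem hx.1 hy.1, by
        rw [(show Commute x y from scalar_comm hx.1 y).mul_pow, hx.2, hy.2, one_mul]⟩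
      inv_mem' := fun {x} hx => ⟨(scalars ι F).inv_mem hx.1, by rw [inv_pow, hx.2, inv_one]⟩ }
  have hμs : μ ≤ scalars ι F := fun x hx => hx.1
  let sc : Fˣ →* GL ι F := Units.map (Matrix.scalar ι : F →+* Matrix ι ι F).toMonoidHom
  have hscinj : Function.Injective sc := fun a b h => Units.ext (by
    simpa [sc] using congrArg (fun u : GL ι F => (u : Matrix ι ι F) (Classical.arbitrary ι) (Classical.arbitrary ι)) h)
  have hμk : μ = (powMonoidHom (α := Fˣ) z).ker.map sc := by
    ext x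
    constructor
    · rintro ⟨⟨c, rfl⟩, hx⟩
      exact ⟨c, hscinj (by rw [powMonoidHom_apply, map_pow, map_one]; exact hx), rfl⟩
    · rintro ⟨c, hc, rfl⟩
      exact ⟨⟨c, rfl⟩, by rw [← map_pow, show c ^ z = 1 from hc, map_one]⟩
  have hμcard : Nat.card μ = z := by
    rw [hμk, Subgroup.card_map_of_injective hscinj, IsCyclic.card_powMonoidHom_ker, Nat.card_units,
      Nat.card_eq_fintype_card, Nat.gcd_eq_right hzq]
  haveI : IsCyclic μ := isCyclic_of_le_scalars hμs
  obtain ⟨⟨μ₀, hμ₀⟩, hμgen⟩ := IsCyclic.exists_ofOrder_eq_natCard (α := μ)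
  rw [hμcard, ← Subgroup.orderOf_coe] at hμgen
  have hμord : orderOf μ₀ = z := hμgen
  -- commutators in `μ`, and the sign a power in `μ`
  have hcμ : ∀ x ∈ N, ∀ y ∈ N, ⁅x, y⁆ ∈ μ := fun x hx y hy => ⟨h2 x hx y hy, by
    obtain ⟨k, hk⟩ := hrz
    rw [hk, pow_mul, hcr x hx y hy, one_pow]⟩
  have hodd' : r ≠ 2 → ∀ c : GL ι F, c ^ r = 1 → c ^ (r.choose 2) = 1 := fun h c hc => by
    obtain ⟨k, hk⟩ := Nat.Prime.dvd_choose_self hr (show (2 : ℕ) ≠ 0 by omega)
      (by have := hr.two_le; omega)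
    rw [hk, pow_mul, hc, one_pow]
  have hsq : ∀ x ∈ N, ∀ y ∈ N, ∃ w ∈ μ, w ^ r = ⁅y, x⁆ ^ (r.choose 2) := by
    intro x hx y hy
    by_cases h : r = 2
    · -- the sign is a square
      have hzz : z = 4 := by rw [hzdef, if_pos h]
      have hc := hcr y hy x hx
      rw [h] at hc ⊢
      rw [show (2 : ℕ).choose 2 = 1 from rfl, pow_one]
      obtain ⟨c, hcs⟩ := (mem_scalars_iff _).1 (h2 y hy x hx)
      by_cases hc1 : ⁅y, x⁆ = 1
      · exact ⟨1, μ.one_mem, by rw [one_pow, hc1]⟩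
      refine ⟨μ₀, hμ₀, ?_⟩
      have key : ∀ a : GL ι F, a ∈ scalars ι F → a ^ 2 = 1 → a ≠ 1 → ∀ b, b ∈ scalars ι F → b ^ 2 = 1 → b ≠ 1 →
          a = b := by
        rintro _ ⟨a, rfl⟩ ha ha1 _ ⟨b, rfl⟩ hb hb1
        have aux : ∀ u : Fˣ, sc u ^ 2 = 1 → sc u ≠ 1 → (u : F) = -1 := by
          intro u hu hu1
          rw [← map_pow, ← map_one sc] at hu
          rcases mul_self_eq_one_iff.1 (show (u : F) * u = 1 by rw [← sq]; exact congrArg Units.val (hscinj hu)) with
            h' | h'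
          · exact absurd (by rw [show u = 1 from Units.ext h', map_one]) hu1
          · exact h'
        exact congrArg sc (Units.ext ((aux a ha ha1).trans (aux b hb hb1).symm))
      refine key _ ((scalars ι F).pow_mem hμ₀.1 2) ?_ ?_ _ (h2 y hy x hx) hc hc1
      · rw [← pow_mul, show 2 * 2 = z by rw [hzz]]; exact hμ₀.2
      · intro h0
        have := Nat.le_of_dvd two_pos (orderOf_dvd_of_pow_eq_one h0)
        omega
    · exact ⟨1, μ.one_mem, by rw [one_pow, hodd' h _ (hcr y hy x hx)]⟩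
  -- every element is an `r`-th root of a power
  set Z' := (N ⊓ scalars ι F) ⊔ μ with hZ'
  have hZ's : Z' ≤ scalars ι F := sup_le inf_le_right hμs
  haveI : IsCyclic Z' := isCyclic_of_le_scalars hZ's
  have hyx : ∀ x y : GL ι F, y * x = ⁅y, x⁆ * (x * y) := fun x y => by rw [commutatorElement_def]; group
  let K₁ : Subgroup (GL ι F) :=
    { carrier := {x | x ∈ N ∧ ∃ w ∈ Z', x ^ r = w ^ r}
      one_mem' := ⟨N.one_mem, 1, Z'.one_mem, by simp⟩
      mul_mem' := fun {x y} hx hy => by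
        obtain ⟨hxN, w, hw, hxw⟩ := hx
        obtain ⟨hyN, v, hv, hyv⟩ := hy
        obtain ⟨u, hu, huc⟩ := hsq x hxN y hyN
        refine ⟨N.mul_mem hxN hyN, u * (w * v), Z'.mul_mem (Subgroup.mem_sup_right hu) (Z'.mul_mem hw hv), ?_⟩
        rw [mul_pow_central (scalar_comm (h2 y hyN x hxN)) (hyx x y), hxw, hyv, ← huc,
          (show Commute u (w * v) from scalar_comm hu.1 _).mul_pow,
          (show Commute w v from scalar_comm (hZ's hw) _).mul_pow]
      inv_mem' := fun {x} hx => by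
        obtain ⟨hxN, w, hw, hxw⟩ := hx
        exact ⟨N.inv_mem hxN, w⁻¹, Z'.inv_mem hw, by rw [inv_pow, inv_pow, hxw]⟩ }
  have hroot : ∀ x ∈ N, ∃ w ∈ Z', x ^ r = w ^ r := by
    have hK : K₁ = N := by
      refine (hmin' K₁ (fun x hx => hx.1) (fun h hh x hx => ⟨hn h hh x hx.1, ?_⟩)
        (fun x hx => ⟨hx.1, x, Subgroup.mem_sup_left hx, rfl⟩)
        (fun x hx h => ⟨hx, 1, Z'.one_mem, by rw [h, one_pow]⟩)).resolve_left fun hle => ?_
      · obtain ⟨-, w, hw, hxw⟩ := hx
        refine ⟨w, hw, ?_⟩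
        rw [show (h * x * h⁻¹) ^ r = h * x ^ r * h⁻¹ from by simpa using (map_pow (MulAut.conj h) x r).symm, hxw,
          ← scalar_comm ((scalars ι F).pow_mem (hZ's hw) r) h, mul_inv_cancel_right]
      · obtain ⟨⟨g, hg⟩, hgen⟩ := IsCyclic.exists_generator (α := Z')
        have hin : ∀ x ∈ N, x ^ r ∈ Z' := fun x hx => Subgroup.mem_sup_left ⟨N.pow_mem hx r, hpow x hx⟩
        have hexp : ∀ x ∈ N, ∃ a : ℤ, x ^ r = g ^ a := fun x hx => by
          obtain ⟨a, ha⟩ := Subgroup.mem_zpowers_iff.1 (hgen ⟨_, hin x hx⟩)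
          exact ⟨a, by simpa using (congrArg Subtype.val ha).symm⟩
        have hmem : ∀ x ∈ N, ∀ a : ℤ, x ^ r = g ^ a → (r : ℤ) ∣ a → x ∈ scalars ι F := fun x hx a ha hra => by
          obtain ⟨b, rfl⟩ := hra
          exact hle ⟨hx, g ^ b, Z'.zpow_mem hg b, by rw [ha, mul_comm, zpow_mul, zpow_natCast]⟩
        obtain ⟨a, ha⟩ := hexp x₀ hx₀
        obtain ⟨b, hb⟩ := hexp y₀ hy₀
        have hra : ¬ (r : ℤ) ∣ a := fun h => hx₀s (hmem x₀ hx₀ a ha h)
        obtain ⟨k, hk⟩ : ∃ k : ℕ, (r : ℤ) ∣ a * k + b := by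
          refine ⟨(-(b : ZMod r) / (a : ZMod r)).val, (ZMod.intCast_zmod_eq_zero_iff_dvd _ r).1 ?_⟩
          push_cast
          rw [ZMod.natCast_val, ZMod.cast_id, mul_div_cancel₀ _
            (fun h => hra ((ZMod.intCast_zmod_eq_zero_iff_dvd a r).1 h))]
          ring
        obtain ⟨u, hu, huc⟩ := hsq (x₀ ^ k) (N.pow_mem hx₀ k) y₀ hy₀
        obtain ⟨j, hj⟩ := Subgroup.mem_zpowers_iff.1 (hgen ⟨u, Subgroup.mem_sup_right hu⟩)
        have hj' : g ^ j = u := by simpa using congrArg Subtype.val hj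
        have h1 : (x₀ ^ k * y₀) ^ r = g ^ (j * r + (a * k + b)) := by
          rw [mul_pow_central (scalar_comm (h2 y₀ hy₀ _ (N.pow_mem hx₀ k))) (hyx _ y₀), ← huc, ← pow_mul,
            mul_comm k r, pow_mul, ha, hb, ← hj', zpow_add, zpow_add, zpow_mul, zpow_mul, zpow_natCast, zpow_natCast]
        have h5 := hmem _ (N.mul_mem (N.pow_mem hx₀ k) hy₀) _ h1 (dvd_add (dvd_mul_left _ _) hk)
        apply hne
        rw [commutatorElement_eq_one_iff_mul_comm]
        have h6 : x₀ ^ k * y₀ * x₀ = x₀ * (x₀ ^ k * y₀) := scalar_comm h5 x₀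
        rw [mul_assoc, ← mul_assoc x₀, ← pow_succ', pow_succ, mul_assoc] at h6
        exact mul_left_cancel h6
    intro x hx
    exact (hK.symm ▸ hx : x ∈ K₁).2
  -- the group
  have hcomm₂ : Class2 (N ⊔ μ) := by
    intro x hx y hy
    obtain ⟨a, ha, s, hs, rfl⟩ := mem_sup_scalars hμs hx
    obtain ⟨b, hb, t, ht, rfl⟩ := mem_sup_scalars hμs hy
    rw [commutator_central_mul (hμs hs) (hμs ht)]
    exact h2 a ha b hb
  have hcr₂ : ∀ x ∈ N ⊔ μ, ∀ y ∈ N ⊔ μ, ⁅x, y⁆ ^ r = 1 := by
    intro x hx y hy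
    obtain ⟨a, ha, s, hs, rfl⟩ := mem_sup_scalars hμs hx
    obtain ⟨b, hb, t, ht, rfl⟩ := mem_sup_scalars hμs hy
    rw [commutator_central_mul (hμs hs) (hμs ht)]
    exact hcr a ha b hb
  have hcz : ∀ c : GL ι F, c ^ r = 1 → c ^ (z.choose 2) = 1 := fun c hc => by
    by_cases h : r = 2
    · rw [hzdef, if_pos h, show (4 : ℕ).choose 2 = 2 * 3 from rfl, pow_mul]
      rw [h] at hc
      rw [hc, one_pow]
    · rw [hzdef, if_neg h]; exact hodd' h c hc
  let R : Subgroup (GL ι F) :=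
    { carrier := {x | x ∈ N ⊔ μ ∧ x ^ z = 1}
      one_mem' := ⟨(N ⊔ μ).one_mem, one_pow z⟩
      mul_mem' := fun {x y} hx hy => ⟨(N ⊔ μ).mul_mem hx.1 hy.1, by
        rw [mul_pow_central (scalar_comm (hcomm₂ y hy.1 x hx.1)) (hyx x y), hx.2, hy.2,
          hcz _ (hcr₂ y hy.1 x hx.1), one_mul, one_mul]⟩
      inv_mem' := fun {x} hx => ⟨(N ⊔ μ).inv_mem hx.1, by rw [inv_pow, hx.2, inv_one]⟩ }
  have hμR : μ ≤ R := fun x hx => ⟨Subgroup.mem_sup_right hx, hx.2⟩
  have hRmem : ∀ x ∈ N, ∃ a ∈ R, ∃ w ∈ scalars ι F, x = a * w := by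
    intro x hx
    obtain ⟨w, hw, hxw⟩ := hroot x hx
    refine ⟨x * w⁻¹, ⟨(N ⊔ μ).mul_mem (Subgroup.mem_sup_left hx) ((N ⊔ μ).inv_mem
      ((sup_le_sup_right inf_le_left μ : Z' ≤ N ⊔ μ) hw)), ?_⟩, w, hZ's hw, by group⟩
    obtain ⟨k, hk⟩ := hrz
    rw [hk, pow_mul, (show Commute x w⁻¹ from ((show Commute w x from scalar_comm (hZ's hw) x).symm.inv_right)).mul_pow,
      hxw, inv_pow, mul_inv_cancel, one_pow]
  have hRn : NormalBy H R := by
    intro h hh x hx
    refine ⟨normalBy_sup hn (fun a _ w hw => ?_) h hh x hx.1, ?_⟩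
    · rwa [← scalar_comm (hμs hw) a, mul_inv_cancel_right]
    · rw [show (h * x * h⁻¹) ^ z = h * x ^ z * h⁻¹ from by simpa using (map_pow (MulAut.conj h) x z).symm, hx.2]
      group
  have hRs : ∀ x, x ∈ R → x ∈ scalars ι F → x ∈ μ := fun x hx hs => ⟨hs, hx.2⟩
  have habs : AbsIrred R := by
    refine AbsIrred.mk' (fun W hW => hN.irred W fun g hg w hw => ?_) fun M hM => hN.commutant fun g hg => ?_
    · obtain ⟨a, ha, s, hs, rfl⟩ := hRmem g hg
      obtain ⟨c, hc⟩ := (mem_scalars_iff s).1 hs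
      rw [Units.val_mul, hc, Matrix.mul_smul, mul_one, Matrix.smul_mulVec]
      exact W.smul_mem _ (hW a ha w hw)
    · obtain ⟨a, ha, s, hs, rfl⟩ := hRmem g hg
      obtain ⟨c, hc⟩ := (mem_scalars_iff s).1 hs
      rw [Units.val_mul, hc, Matrix.mul_smul, mul_one, Matrix.mul_smul, Matrix.smul_mul, hM a ha]
  have hR2 : Class2 R := fun x hx y hy => hcomm₂ x hx.1 y hy.1
  have hscal : ∀ (x : GL ι F), x ∈ R → ∀ c : F, (x : Matrix ι ι F) = c • 1 → c ^ z = 1 := by
    intro x hx c hc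
    have := congrArg (fun u : GL ι F => (u : Matrix ι ι F) (Classical.arbitrary ι) (Classical.arbitrary ι)) hx.2
    simpa [Units.val_pow_eq_pow_val, hc, smul_pow] using this
  have hcomm_ne : ¬ Commute x₀ y₀ := fun h => hne (commutatorElement_eq_one_iff_mul_comm.2 h.eq.symm)
  have hRns : ¬ R ≤ scalars ι F := fun h => hx₀s (by
    obtain ⟨a, ha, w, hw, hxa⟩ := hRmem x₀ hx₀
    rw [hxa]
    exact (scalars ι F).mul_mem (h ha) hw)
  have hcenter : Subgroup.center R = μ.subgroupOf R := by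
    ext x
    rw [Subgroup.mem_center_iff, Subgroup.mem_subgroupOf]
    constructor
    · intro hx
      refine hRs _ x.2 (habs.scalar_of_comm fun s hs => ?_)
      exact congrArg Subtype.val (hx ⟨s, hs⟩).symm
    · intro hx y
      exact Subtype.ext (scalar_comm (hμs hx) _).symm
  have hcenter_card : Nat.card (Subgroup.center R) = z := by
    rw [hcenter, Nat.card_congr (Subgroup.subgroupOfEquivOfLe hμR).toEquiv, hμcard]
  have hRcard : Nat.card R = z * (n * n) := by
    rw [Subgroup.card_eq_card_quotient_mul_card_subgroup ((scalars ι F).subgroupOf R), card_quot habs hR2, mul_comm]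
    congr 1
    have : (scalars ι F).subgroupOf R = μ.subgroupOf R := by
      ext x
      exact ⟨fun h => Subgroup.mem_subgroupOf.2 (hRs _ x.2 h), fun h => Subgroup.mem_subgroupOf.2 (hμs h)⟩
    rw [this, Nat.card_congr (Subgroup.subgroupOfEquivOfLe hμR).toEquiv, hμcard]
  have hzr : z = r * Nat.gcd 2 r := by
    rw [hzdef]; split_ifs with h
    · subst h; rfl
    · rw [show Nat.gcd 2 r = 1 from (Nat.coprime_primes Nat.prime_two hr).2 (Ne.symm h), mul_one]
  have hexp : Monoid.exponent R = z := by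
    refine Nat.dvd_antisymm (Monoid.exponent_dvd_of_forall_pow_eq_one fun x => Subtype.ext (by simpa using x.2.2)) ?_
    rw [← hμord, show orderOf μ₀ = orderOf (⟨μ₀, hμR hμ₀⟩ : R) from (Subgroup.orderOf_mk μ₀ _).symm]
    exact Monoid.order_dvd_exponent _
  have hzpow : z = r ∨ z = r ^ 2 := by
    rw [hzdef]; split_ifs with h
    · right; subst h; rfl
    · left; rfl
  have hsymp : IsSymplecticTypeGroup r R := by
    refine ⟨hr, fun x => ?_, fun A hA hAc => ?_, hexp.trans hzr⟩
    · rcases hzpow with h | h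
      · exact ⟨1, Subtype.ext (by simpa [← h] using x.2.2)⟩
      · exact ⟨2, Subtype.ext (by simpa [← h] using x.2.2)⟩
    · set A' : Subgroup (GL ι F) := A.map R.subtype with hA'
      have hA'n : NormalBy H A' := by
        rintro a ha _ ⟨x, hx, rfl⟩
        let φ : R ≃* R :=
          { toFun := fun r => ⟨a * r * a⁻¹, hRn a ha _ r.2⟩
            invFun := fun r => ⟨a⁻¹ * r * a, by simpa using hRn a⁻¹ (H.inv_mem ha) _ r.2⟩
            left_inv := fun r => Subtype.ext (by simp [mul_assoc])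
            right_inv := fun r => Subtype.ext (by simp [mul_assoc])
            map_mul' := fun r s => Subtype.ext (by simp [mul_assoc]) }
        exact ⟨φ x, (hA.fixed φ).ge hx, rfl⟩
      have hsc : A' ≤ scalars ι F := by
        refine hab A' hA'n ((Subgroup.map_subtype_le A).trans fun x hx => sup_le_sup hNle hμs hx.1) ?_
        rintro _ ⟨a, ha, rfl⟩ _ ⟨b, hb, rfl⟩
        exact congrArg (fun z : A => ((z : R) : GL ι F)) (hAc.is_comm.comm ⟨a, ha⟩ ⟨b, hb⟩)
      have := isCyclic_of_le_scalars hsc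
      exact isCyclic_of_surjective (A.equivMapOfInjective R.subtype (Subgroup.subtype_injective R)).symm
        (MulEquiv.surjective _)
  refine ⟨r, z, m, p, e, R, hr, hm, hm1, hzdef, hpp, hp, he, hrp, he ▸ hzq, hRn, fun h hh => ?_, habs, hR2,
    fun x hx => sup_le_sup_left hμs _ hx.1, fun x hx => hx.2, fun x hx => ?_, hsymp, hcenter_card, hRcard,
    y₀, hy₀, x₀, hx₀, hcr y₀ hy₀ x₀ hx₀, hne, h2 y₀ hy₀ x₀ hx₀⟩
  · refine Subgroup.mem_normalizer_iff.2 fun x => ⟨hRn h hh x, fun hx => ?_⟩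
    simpa [mul_assoc] using hRn h⁻¹ (H.inv_mem hh) _ hx
  · obtain ⟨a, ha, w, hw, rfl⟩ := mem_sup_scalars hμs hx.1
    obtain ⟨c, hc⟩ := (mem_scalars_iff w).1 (hμs hw)
    refine ⟨a, ha, c, ?_, by rw [Units.val_mul, hc, Matrix.mul_smul, mul_one]⟩
    have := congrArg (fun u : GL ι F => (u : Matrix ι ι F) (Classical.arbitrary ι) (Classical.arbitrary ι)) hw.2
    simpa [Units.val_pow_eq_pow_val, hc, smul_pow] using this

end Cfsg.Agent.AschFormExtra
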