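/-
Aschbacher's theorem with a form, part 13: two-groups of symplectic type in a symplectic group are of minus type.
-/
import Cfsg.Agent.Lib.AschFormExtra

set_option autoImplicit false
set_option linter.unusedSectionVars false

namespace Cfsg.Agent.AschFormMinus

open scoped Matrix commutatorElement
open Cfsg Cfsg.Geo Cfsg.Agent.AschPrimeBasic Cfsg.Agent.AschPrimeForms Cfsg.Agent.AschGenExtra
  Cfsg.Agent.AschFormBasic

variable {ι : Type} [Fintype ι] [DecidableEq ι] {F : Type*} [Field F] [Fintype F]

/-- commuting involutions have a basis of common eigenvectors -/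
lemma eigen_span (h2 : (2 : F) ≠ 0) (s : Finset (Matrix ι ι F)) :
    (∀ a ∈ s, a * a = 1) → (∀ a ∈ s, ∀ b ∈ s, a * b = b * a) →
      Submodule.span F {v : ι → F | ∀ a ∈ s, a *ᵥ v = v ∨ a *ᵥ v = -v} = ⊤ := by
  classical
  induction s using Finset.induction with
  | empty =>
    intro _ _
    simp
  | @insert a s ha ih =>
    intro hsq hc
    have hih := ih (fun b hb => hsq b (Finset.mem_insert_of_mem hb))
      (fun b hb b' hb' => hc b (Finset.mem_insert_of_mem hb) b' (Finset.mem_insert_of_mem hb'))
    rw [eq_top_iff, ← hih, Submodule.span_le]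
    intro v hv
    have haa := hsq a (Finset.mem_insert_self a s)
    have hp : v + a *ᵥ v ∈ {v : ι → F | ∀ b ∈ insert a s, b *ᵥ v = v ∨ b *ᵥ v = -v} := by
      intro b hb
      rcases Finset.mem_insert.1 hb with rfl | hb'
      · left
        rw [Matrix.mulVec_add, Matrix.mulVec_mulVec, haa, Matrix.one_mulVec, add_comm]
      · rcases hv b hb' with h | h
        · left
          rw [Matrix.mulVec_add, Matrix.mulVec_mulVec, hc b hb a (Finset.mem_insert_self a s),
            ← Matrix.mulVec_mulVec, h]
        · right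
          rw [Matrix.mulVec_add, Matrix.mulVec_mulVec, hc b hb a (Finset.mem_insert_self a s),
            ← Matrix.mulVec_mulVec, h, Matrix.mulVec_neg, neg_add]
    have hm : v - a *ᵥ v ∈ {v : ι → F | ∀ b ∈ insert a s, b *ᵥ v = v ∨ b *ᵥ v = -v} := by
      intro b hb
      rcases Finset.mem_insert.1 hb with rfl | hb'
      · right
        rw [Matrix.mulVec_sub, Matrix.mulVec_mulVec, haa, Matrix.one_mulVec, neg_sub]
      · rcases hv b hb' with h | h
        · left
          rw [Matrix.mulVec_sub, Matrix.mulVec_mulVec, hc b hb a (Finset.mem_insert_self a s),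
            ← Matrix.mulVec_mulVec, h]
        · right
          rw [Matrix.mulVec_sub, Matrix.mulVec_mulVec, hc b hb a (Finset.mem_insert_self a s),
            ← Matrix.mulVec_mulVec, h, Matrix.mulVec_neg]
          abel
    rw [SetLike.mem_coe, show v = (2 : F)⁻¹ • ((v + a *ᵥ v) + (v - a *ᵥ v)) by
      rw [add_add_sub_cancel, ← two_smul F v, smul_smul, inv_mul_cancel₀ h2, one_smul]]
    exact Submodule.smul_mem _ _ (Submodule.add_mem _ (Submodule.subset_span hp) (Submodule.subset_span hm))

/-- a two-group of symplectic type fixing an alternating form is of minus type -/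
theorem minus_type [Nonempty ι] (h2 : (2 : F) ≠ 0) {ε : F} {f : (ι → F) → (ι → F) → F}
    (hf : FormData (RingEquiv.refl F) ε f) (halt : ∀ v, f v v = 0) {N : Subgroup (GL ι F)} (hI : Isos N f)
    (hN : AbsIrred N) {k : ℕ} (hk : Fintype.card ι = 2 ^ k)
    (hcard : Nat.card N = 2 * (Fintype.card ι * Fintype.card ι)) : IsOfMinusType k N := by
  classical
  intro A hA hsq
  by_contra hbig
  push Not at hbig
  set n := Fintype.card ι with hn
  have hn0 : 0 < n := Fintype.card_pos
  let S : Set (Matrix ι ι F) := (fun x : N => ((x : GL ι F) : Matrix ι ι F)) '' (A : Set N)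
  set W := Submodule.span F S with hW
  -- the span of `A` is large
  have hdim : n ≤ Module.finrank F W := by
    haveI : Fintype (N ⧸ A) := Fintype.ofFinite _
    let Φ : (N ⧸ A → W) →ₗ[F] Matrix ι ι F :=
      { toFun := fun w => ∑ q : N ⧸ A, (((Quotient.out q : N) : GL ι F) : Matrix ι ι F) * (w q : Matrix ι ι F)
        map_add' := fun u v => by simp [mul_add, Finset.sum_add_distrib]
        map_smul' := fun c v => by simp [Finset.smul_sum] }
    have hsurj : LinearMap.range Φ = ⊤ := by
      rw [eq_top_iff, ← span_eq_top hN, Submodule.span_le]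
      rintro _ ⟨x, hx, rfl⟩
      set q : N ⧸ A := QuotientGroup.mk ⟨x, hx⟩ with hq
      have hmem : (Quotient.out q : N)⁻¹ * ⟨x, hx⟩ ∈ A := QuotientGroup.eq.1 (Quotient.out_eq' q)
      refine ⟨Pi.single q ⟨_, Submodule.subset_span ⟨_, hmem, rfl⟩⟩, ?_⟩
      show ∑ q' : N ⧸ A, _ = _
      rw [Finset.sum_eq_single q]
      · rw [Pi.single_eq_same]
        simp
      · intro b _ hb
        rw [Pi.single_eq_of_ne hb, Submodule.coe_zero, mul_zero]
      · simp
    have h1 := LinearMap.finrank_range_le Φ
    rw [hsurj, finrank_top, Module.finrank_matrix, Module.finrank_self, mul_one, Module.finrank_pi_fintype] at h1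
    simp only [Finset.sum_const, Finset.card_univ, smul_eq_mul] at h1
    rw [← hn] at h1
    have h3 := Subgroup.card_eq_card_quotient_mul_card_subgroup A
    rw [hcard, Nat.card_eq_fintype_card (α := N ⧸ A)] at h3
    have h4 : Fintype.card (N ⧸ A) * (2 * n) ≤ 2 * (n * n) := by
      rw [h3, hk, ← pow_succ']
      exact Nat.mul_le_mul_left _ hbig
    have h5 : Fintype.card (N ⧸ A) ≤ n :=
      Nat.le_of_mul_le_mul_right (h4.trans_eq (Nat.mul_left_comm 2 n n)) (Nat.mul_pos two_pos hn0)
    exact Nat.le_of_mul_le_mul_left (h1.trans (Nat.mul_le_mul_right _ h5)) hn0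
  -- common eigenvectors
  have hSsq : ∀ a ∈ S.toFinite.toFinset, a * a = 1 := by
    intro a ha
    obtain ⟨x, hx, rfl⟩ := (Set.Finite.mem_toFinset _).1 ha
    simpa using congrArg (fun z : N => ((z : GL ι F) : Matrix ι ι F)) (hsq x hx)
  have hScomm : ∀ a ∈ S.toFinite.toFinset, ∀ b ∈ S.toFinite.toFinset, a * b = b * a := by
    intro a ha b hb
    obtain ⟨x, hx, rfl⟩ := (Set.Finite.mem_toFinset _).1 ha
    obtain ⟨y, hy, rfl⟩ := (Set.Finite.mem_toFinset _).1 hb
    simpa using congrArg (fun z : A => (((z : N) : GL ι F) : Matrix ι ι F)) (hA.is_comm.comm ⟨x, hx⟩ ⟨y, hy⟩)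
  have hspan := eigen_span h2 S.toFinite.toFinset hSsq hScomm
  obtain ⟨b, hb, hspanb, hli⟩ := exists_linearIndependent F
    {v : ι → F | ∀ a ∈ S.toFinite.toFinset, a *ᵥ v = v ∨ a *ᵥ v = -v}
  rw [hspan] at hspanb
  haveI : Fintype b := (hli.setFinite).fintype
  let bb := Module.Basis.mk hli (by rw [Subtype.range_coe_subtype, Set.setOf_mem_eq, hspanb])
  have hcb : Fintype.card b = n := by rw [← Module.finrank_eq_card_basis bb, Module.finrank_pi]
  let E : W →ₗ[F] (b → F) :=
    { toFun := fun M i => bb.repr ((M : Matrix ι ι F) *ᵥ (i : ι → F)) i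
      map_add' := fun u v => funext fun i => by simp [Matrix.add_mulVec]
      map_smul' := fun c v => funext fun i => by simp [Matrix.smul_mulVec] }
  have hdiag : ∀ (M : W) (i : b), (M : Matrix ι ι F) *ᵥ (i : ι → F) = E M i • (i : ι → F) := by
    intro M i
    have hscal : ∀ M ∈ W, ∃ c : F, M *ᵥ (i : ι → F) = c • (i : ι → F) := by
      intro M hM
      induction hM using Submodule.span_induction with
      | mem x hx =>
        rcases hb i.2 x ((Set.Finite.mem_toFinset _).2 hx) with h | h
        · exact ⟨1, by rw [h, one_smul]⟩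
        · exact ⟨-1, by rw [h, neg_one_smul]⟩
      | zero => exact ⟨0, by simp⟩
      | add x y _ _ hx hy =>
        obtain ⟨c, hc⟩ := hx
        obtain ⟨d, hd⟩ := hy
        exact ⟨c + d, by rw [Matrix.add_mulVec, hc, hd, add_smul]⟩
      | smul a x _ hx =>
        obtain ⟨c, hc⟩ := hx
        exact ⟨a * c, by rw [Matrix.smul_mulVec, hc, smul_smul]⟩
    obtain ⟨c, hc⟩ := hscal M M.2
    have hEc : E M i = c := by
      show bb.repr ((M : Matrix ι ι F) *ᵥ (i : ι → F)) i = c
      rw [hc, map_smul, show (i : ι → F) = bb i from (Module.Basis.mk_apply _ _ i).symm, Module.Basis.repr_self]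
      simp
    rw [hEc, hc]
  have hinj : Function.Injective E := by
    rw [← LinearMap.ker_eq_bot, LinearMap.ker_eq_bot']
    intro M hM
    apply Subtype.ext
    apply Matrix.toLin'.injective
    rw [Submodule.coe_zero, map_zero]
    refine bb.ext fun i => ?_
    rw [Module.Basis.mk_apply, Matrix.toLin'_apply, hdiag, hM, Pi.zero_apply, zero_smul, LinearMap.zero_apply]
  have hEs : Function.Surjective E := (LinearMap.injective_iff_surjective_of_finrank_eq_finrank (by
    have := LinearMap.finrank_le_finrank_of_injective hinj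
    rw [Module.finrank_pi, hcb] at this ⊢
    omega)).1 hinj
  have hadj : ∀ M ∈ W, adj (RingEquiv.refl F) (gramMatrix f) M = M := by
    intro M hM
    induction hM using Submodule.span_induction with
    | mem x hx =>
      obtain ⟨y, hy, rfl⟩ := hx
      rw [adj_iso hf (hI _ y.2)]
      refine Units.inv_eq_of_mul_eq_one_right ?_
      simpa using congrArg (fun z : N => ((z : GL ι F) : Matrix ι ι F)) (hsq y hy)
    | zero => exact adj_zero _
    | add x y _ _ hx hy => rw [adj_add, hx, hy]
    | smul a x _ hx => rw [adj_smul, hx]; rfl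
  have hzero : ∀ i j : b, f (i : ι → F) (j : ι → F) = 0 := by
    intro i j
    by_cases hij : i = j
    · rw [hij]; exact halt _
    obtain ⟨M, hM⟩ := hEs (Pi.single i 1)
    have h := adjoint_apply hf (M : Matrix ι ι F) (i : ι → F) (j : ι → F)
    rw [hadj _ M.2, hdiag, hdiag, hM, Pi.single_eq_same, Pi.single_eq_of_ne (Ne.symm hij), one_smul, zero_smul] at h
    rw [h]
    simpa using hf.sesq.smul_right 0 (i : ι → F) 0
  obtain ⟨i⟩ : Nonempty b := Fintype.card_pos_iff.1 (by omega)
  have hi0 : (i : ι → F) ≠ 0 := hli.ne_zero i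
  obtain ⟨x, hx⟩ := (hf.nd _ hi0).2
  apply hx
  clear hx
  have hxs : x ∈ Submodule.span F b := hspanb.symm ▸ Submodule.mem_top
  induction hxs using Submodule.span_induction with
  | mem y hy => exact hzero i ⟨y, hy⟩
  | zero => simpa using hf.sesq.smul_right 0 (i : ι → F) 0
  | add y z _ _ hy hz => rw [hf.sesq.add_right, hy, hz, add_zero]
  | smul a y _ hy => rw [hf.sesq.smul_right, hy, mul_zero]

end Cfsg.Agent.AschFormMinus
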