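/-
Aschbacher's theorem with a form, part 14: tensor powers of a group of symplectic type.
-/
import Cfsg.Agent.Lib.AschFormMono
import Cfsg.Agent.Lib.AschGenLinear

set_option autoImplicit false
set_option linter.unusedSectionVars false

namespace Cfsg.Agent.AschFormPower

open scoped Matrix Kronecker commutatorElement
open Cfsg Cfsg.Geo Cfsg.Agent.AschPrimeBasic Cfsg.Agent.AschPrimeForms Cfsg.Agent.AschGenAlgebra
  Cfsg.Agent.AschGenTensor Cfsg.Agent.AschGenExtra Cfsg.Agent.AschFormBasic Cfsg.Agent.AschFormTensor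
  Cfsg.Agent.AschFormWreath Cfsg.Agent.AschFormStruct Cfsg.Agent.AschFormMono

variable {ι : Type} [Fintype ι] [DecidableEq ι] {F : Type*} [Field F] [Fintype F]

/-- a group spanning the matrix algebra is absolutely irreducible -/
lemma absIrred_of_adjoin [Nonempty ι] {N : Subgroup (GL ι F)} (h : Algebra.adjoin F (matrixSet N) = ⊤) :
    AbsIrred N := by
  classical
  refine AbsIrred.mk' (fun W hW => ?_) fun M hM => ?_
  · let S : Subalgebra F (Matrix ι ι F) :=
      { carrier := {A | ∀ w ∈ W, A *ᵥ w ∈ W}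
        mul_mem' := fun {a b} ha hb w hw => by rw [← Matrix.mulVec_mulVec]; exact ha _ (hb w hw)
        add_mem' := fun {a b} ha hb w hw => by rw [Matrix.add_mulVec]; exact W.add_mem (ha w hw) (hb w hw)
        algebraMap_mem' := fun c w hw => by
          rw [Algebra.algebraMap_eq_smul_one, Matrix.smul_mulVec, Matrix.one_mulVec]
          exact W.smul_mem c hw }
    have hS : (⊤ : Subalgebra F (Matrix ι ι F)) ≤ S := h ▸ Algebra.adjoin_le (by
      rintro _ ⟨g, hg, rfl⟩
      exact fun w hw => hW g hg w hw)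
    by_cases hb : W = ⊥
    · exact Or.inl hb
    obtain ⟨w, hw, hw0⟩ := (Submodule.ne_bot_iff W).1 hb
    obtain ⟨j, hj⟩ := Function.ne_iff.1 hw0
    refine Or.inr (eq_top_iff.2 fun v _ => ?_)
    have h1 := hS (Algebra.mem_top (x := Matrix.vecMulVec v (Pi.single j (w j)⁻¹))) w hw
    rw [Matrix.vecMulVec_mulVec] at h1
    simpa [inv_mul_cancel₀ (show w j ≠ 0 from hj)] using h1
  · refine eq_scalar_of_comm_transvection fun i j _ => ?_
    have h1 : (⊤ : Subalgebra F (Matrix ι ι F)) ≤ Subalgebra.centralizer F {M} := h ▸ Algebra.adjoin_le (by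
      rintro _ ⟨g, hg, rfl⟩
      rw [SetLike.mem_coe, Subalgebra.mem_centralizer_iff]
      rintro _ rfl
      exact hM g hg)
    exact (Subalgebra.mem_centralizer_iff F).1 (h1 Algebra.mem_top) M rfl

/-- isometries from their coordinates -/
lemma iso_of_coords {κ : Type} [Fintype κ] [DecidableEq κ] {σ : F ≃+* F} {ε : F} {f : (ι → F) → (ι → F) → F}
    (hf : FormData σ ε f) (e : ι ≃ κ) (P : GL ι F) {g : GL ι F} {T : Matrix κ κ F}
    (hT : (g : Matrix ι ι F) = (P : Matrix ι ι F) * pull e T * ((P⁻¹ : GL ι F) : Matrix ι ι F))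
    (h : Tᵀ * gramP σ f e P * T.map σ = gramP σ f e P) (u v : ι → F) :
    f ((g : Matrix ι ι F) *ᵥ u) ((g : Matrix ι ι F) *ᵥ v) = f u v := by
  have h1 := (hf.sesq.similar_iff (g : Matrix ι ι F) 1).2 ?_ u v
  · rwa [one_mul] at h1
  rw [one_smul, hT, Matrix.transpose_mul, Matrix.transpose_mul, map_mul_map, map_mul_map]
  have h2 := congrArg (pull (F := F) e) h
  rw [map_mul, map_mul, pull_gramP, ← pull_transpose, ← pull_map] at h2
  have hP : ((P⁻¹ : GL ι F) : Matrix ι ι F)ᵀ * (P : Matrix ι ι F)ᵀ = 1 := by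
    rw [← Matrix.transpose_mul, Units.mul_inv, Matrix.transpose_one]
  have hPσ : (P : Matrix ι ι F).map σ * ((P⁻¹ : GL ι F) : Matrix ι ι F).map σ = 1 := by
    rw [← map_mul_map, Units.mul_inv, map_one_mat]
  calc ((P⁻¹ : GL ι F) : Matrix ι ι F)ᵀ * ((pull e T)ᵀ * (P : Matrix ι ι F)ᵀ) * gramMatrix f *
        ((P : Matrix ι ι F).map σ * (pull e T).map σ * ((P⁻¹ : GL ι F) : Matrix ι ι F).map σ)
      = ((P⁻¹ : GL ι F) : Matrix ι ι F)ᵀ * ((pull e T)ᵀ * ((P : Matrix ι ι F)ᵀ * gramMatrix f *
          (P : Matrix ι ι F).map σ) * (pull e T).map σ) * ((P⁻¹ : GL ι F) : Matrix ι ι F).map σ := by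
        simp only [mul_assoc]
    _ = (((P⁻¹ : GL ι F) : Matrix ι ι F)ᵀ * (P : Matrix ι ι F)ᵀ) * gramMatrix f *
          ((P : Matrix ι ι F).map σ * ((P⁻¹ : GL ι F) : Matrix ι ι F).map σ) := by
        rw [h2]; simp only [mul_assoc]
    _ = gramMatrix f := by rw [hP, hPσ, one_mul, mul_one]

lemma pureMat_update {k t : ℕ} (U : Fin t → Matrix (Fin k) (Fin k) F) (a : Fin t) (X : Matrix (Fin k) (Fin k) F)
    (hU : U a = 1) : pureMat (Function.update U a X) = site a X * pureMat U := by
  rw [site, pureMat_mul]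
  refine congrArg pureMat (funext fun i => ?_)
  by_cases hi : i = a
  · subst hi; simp [hU]
  · simp [Function.update_of_ne hi]

/-- the tensor power of a group normalised by the similitudes of the factor -/
theorem power_group [Nonempty ι] {σ : F ≃+* F} {ε : F} {f : (ι → F) → (ι → F) → F} (hf : FormData σ ε f)
    {H : Subgroup (GL ι F)} (hI : Isos H f) {k t : ℕ} {e : ι ≃ (Fin t → Fin k)} {P : GL ι F} {c : F} (hc : c ≠ 0)
    {G : Matrix (Fin k) (Fin k) F} (hG0 : G ≠ 0) (hgram : gramP σ f e P = c • pureMat fun _ => G)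
    (hle : H ≤ tensorWreathSubgroup k t e P) (Q : Subgroup (GL (Fin k) F))
    (hQi : ∀ a ∈ Q, (a : Matrix (Fin k) (Fin k) F)ᵀ * G * (a : Matrix (Fin k) (Fin k) F).map σ = G)
    (hQ2 : Class2 Q) (hQs : Algebra.adjoin F (matrixSet Q) = ⊤)
    (hQn : ∀ g : GL (Fin k) F, (∃ l : F, l ≠ 0 ∧
      (g : Matrix (Fin k) (Fin k) F)ᵀ * G * (g : Matrix (Fin k) (Fin k) F).map σ = l • G) →
      ∀ a ∈ Q, g * a * g⁻¹ ∈ Q) :
    ∃ R : Subgroup (GL ι F), Isos R f ∧ NormalBy H R ∧ AbsIrred R ∧ Class2 R ∧
      ∀ m : ℕ, (∀ a ∈ Q, a ^ m = 1) → ∀ x ∈ R, x ^ m = 1 := by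
  classical
  let pureHom : (Fin t → Q) →* GL (Fin t → Fin k) F :=
    { toFun := fun a => pureUnit fun i => (a i : GL (Fin k) F)
      map_one' := Units.ext (by simp [pureUnit, pureMat_one])
      map_mul' := fun a b => Units.ext (by simp [pureUnit, pureMat_mul]) }
  let ψ : (Fin t → Q) →* GL ι F :=
    ((MulAut.conj P).toMonoidHom.comp (glReindex e.symm).toMonoidHom).comp pureHom
  have hψ : ∀ a, (ψ a : Matrix ι ι F) = (P : Matrix ι ι F) *
      pull e (pureMat fun i => ((a i : GL (Fin k) F) : Matrix (Fin k) (Fin k) F)) *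
        ((P⁻¹ : GL ι F) : Matrix ι ι F) := fun a => rfl
  refine ⟨ψ.range, ?_, ?_, absIrred_of_adjoin ?_, ?_, ?_⟩
  · rintro _ ⟨a, rfl⟩ u v
    refine iso_of_coords hf e P (hψ a) ?_ u v
    rw [hgram, pureMat_transpose, pureMat_map, Matrix.mul_smul, Matrix.smul_mul, pureMat_mul, pureMat_mul]
    congr 2
    funext i
    exact hQi _ (a i).2
  · rintro h hh _ ⟨a, rfl⟩
    obtain ⟨τ, gs, hval, hsim⟩ := wreath_similar hf hc hgram hG0 (hle hh) (hI h hh)
    refine ⟨fun i => ⟨gs i * a (τ.symm i) * (gs i)⁻¹, hQn _ (hsim i) _ (a (τ.symm i)).2⟩, ?_⟩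
    have hh' : h = P * glReindex e.symm (pureUnit gs * permUnit τ) * P⁻¹ := Units.ext hval
    have hps : ∀ a' : Fin t → Q, ψ a' = P * glReindex e.symm (pureHom a') * P⁻¹ := fun a' => rfl
    have key : pureUnit gs * permUnit τ * pureHom a = pureHom (fun i =>
        (⟨gs i * a (τ.symm i) * (gs i)⁻¹, hQn _ (hsim i) _ (a (τ.symm i)).2⟩ : Q)) * (pureUnit gs * permUnit τ) := by
      apply Units.ext
      simp only [pureHom, MonoidHom.coe_mk, OneHom.coe_mk, pureUnit, permUnit, Units.val_mul]
      rw [mul_assoc, permMat_pureMat, ← mul_assoc, pureMat_mul, ← mul_assoc, pureMat_mul]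
      congr 2
      funext i
      simp [mul_assoc]
    rw [hh', hps, hps]
    have e1 := congrArg (glReindex (F := F) e.symm) key
    rw [map_mul _ _ (pureHom a), map_mul _ (pureHom _) _] at e1
    generalize glReindex (F := F) e.symm (pureUnit gs * permUnit τ) = u at e1 ⊢
    generalize glReindex (F := F) e.symm (pureHom a) = v at e1 ⊢
    generalize glReindex (F := F) e.symm (pureHom _) = w at e1 ⊢
    rw [eq_mul_inv_iff_mul_eq]
    calc P * w * P⁻¹ * (P * u * P⁻¹) = P * (w * u) * P⁻¹ := by group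
      _ = P * (u * v) * P⁻¹ := by rw [← e1]
      _ = _ := by group
  · set C := Algebra.adjoin F (matrixSet ψ.range) with hC
    let ev : Matrix (Fin t → Fin k) (Fin t → Fin k) F →ₐ[F] Matrix ι ι F :=
      (conjAlg P).toAlgHom.comp (pull e)
    set D := C.comap ev with hD
    have hev : ∀ M, ev M = (P : Matrix ι ι F) * pull e M * ((P⁻¹ : GL ι F) : Matrix ι ι F) := fun M => rfl
    have hgen : ∀ a : Fin t → Q, pureMat (fun i => ((a i : GL (Fin k) F) : Matrix (Fin k) (Fin k) F)) ∈ D :=
      fun a => by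
        show ev _ ∈ C
        rw [hev, ← hψ]
        exact Algebra.subset_adjoin ⟨ψ a, ⟨a, rfl⟩, rfl⟩
    have hsite : ∀ (i : Fin t) (X : Matrix (Fin k) (Fin k) F), site i X ∈ D := by
      intro i X
      have hX : X ∈ Algebra.adjoin F (matrixSet Q) := hQs ▸ Algebra.mem_top
      have happ : ∀ (Y : Matrix (Fin k) (Fin k) F) x y,
          site i Y x y = Y (x i) (y i) * ∏ j ∈ Finset.univ.erase i, (1 : Matrix (Fin k) (Fin k) F) (x j) (y j) := by
        intro Y x y
        rw [site, pureMat, Matrix.of_apply, ← Finset.mul_prod_erase _ _ (Finset.mem_univ i), Function.update_self]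
        refine congrArg (Y (x i) (y i) * ·) (Finset.prod_congr rfl fun j hj => ?_)
        rw [Function.update_of_ne (Finset.ne_of_mem_erase hj)]
      induction hX using Algebra.adjoin_induction with
      | mem Y hY =>
        obtain ⟨q, hq, rfl⟩ := hY
        have h1 := hgen (Function.update (fun _ => (1 : Q)) i ⟨q, hq⟩)
        have h2 : site i (q : Matrix (Fin k) (Fin k) F) = pureMat fun j =>
            (((Function.update (fun _ => (1 : Q)) i ⟨q, hq⟩ j : Q) : GL (Fin k) F) : Matrix (Fin k) (Fin k) F) := by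
          refine congrArg pureMat (funext fun j => ?_)
          by_cases hj : j = i
          · subst hj; simp
          · simp [Function.update_of_ne hj]
        rw [h2]
        exact h1
      | algebraMap r =>
        have h2 : site i (algebraMap F (Matrix (Fin k) (Fin k) F) r) = r • pureMat fun _ => (1 : Matrix (Fin k) (Fin k) F) := by
          ext x y
          rw [happ, Algebra.algebraMap_eq_smul_one, Matrix.smul_apply, Matrix.smul_apply, smul_eq_mul, smul_eq_mul,
            pureMat, Matrix.of_apply, ← Finset.mul_prod_erase _ _ (Finset.mem_univ i), mul_assoc]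
        rw [h2, pureMat_one]
        exact D.smul_mem D.one_mem r
      | add Y Z _ _ hY hZ =>
        have h2 : site i (Y + Z) = site i Y + site i Z := by
          ext x y
          rw [Matrix.add_apply, happ, happ, happ, Matrix.add_apply, add_mul]
        rw [h2]
        exact D.add_mem hY hZ
      | mul Y Z _ _ hY hZ =>
        have h2 : site i (Y * Z) = site i Y * site i Z := by
          simp only [site, pureMat_mul]
          refine congrArg pureMat (funext fun j => ?_)
          by_cases hj : j = i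
          · subst hj; simp
          · simp [Function.update_of_ne hj]
        rw [h2]
        exact D.mul_mem hY hZ
    have hpure : ∀ U : Fin t → Matrix (Fin k) (Fin k) F, pureMat U ∈ D := by
      intro U
      suffices ∀ s : Finset (Fin t), pureMat (fun i => if i ∈ s then U i else 1) ∈ D by
        simpa using this Finset.univ
      intro s
      induction s using Finset.induction with
      | empty => simpa [pureMat_one] using D.one_mem
      | @insert a s ha ih =>
        have h2 : (fun i => if i ∈ insert a s then U i else 1) =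
            Function.update (fun i => if i ∈ s then U i else 1) a (U a) := by
          funext i
          by_cases hi : i = a
          · subst hi; simp
          · simp [Function.update_of_ne hi, hi]
        rw [h2, pureMat_update _ _ _ (by simp [ha])]
        exact D.mul_mem (hsite a _) ih
    refine eq_top_iff.2 fun M _ => ?_
    obtain ⟨Y, hY⟩ := pull_surjective (F := F) e (((P⁻¹ : GL ι F) : Matrix ι ι F) * M * (P : Matrix ι ι F))
    have hM : M = ev Y := by rw [hev, hY]; simp [mul_assoc]
    rw [hM]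
    show Y ∈ D
    rw [Matrix.matrix_eq_sum_single Y]
    refine D.sum_mem fun x _ => D.sum_mem fun y _ => ?_
    have h2 : Matrix.single x y (Y x y) = Y x y • pureMat fun i => Matrix.single (x i) (y i) (1 : F) := by
      ext a b
      simp only [Matrix.smul_apply, pureMat, Matrix.of_apply, smul_eq_mul]
      by_cases hab : x = a ∧ y = b
      · obtain ⟨rfl, rfl⟩ := hab
        simp
      · rw [Matrix.single_apply, if_neg hab]
        by_cases hx : x = a
        · obtain ⟨j, hj⟩ := Function.ne_iff.1 (fun h => hab ⟨hx, h⟩)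
          rw [Finset.prod_eq_zero (Finset.mem_univ j) (by simp [hj]), mul_zero]
        · obtain ⟨j, hj⟩ := Function.ne_iff.1 hx
          rw [Finset.prod_eq_zero (Finset.mem_univ j) (by simp [hj]), mul_zero]
    rw [h2]
    exact D.smul_mem (hpure _) _
  · rintro _ ⟨a, rfl⟩ _ ⟨b, rfl⟩
    rw [← map_commutatorElement]
    choose l hl using fun i => (mem_scalars_iff _).1 (hQ2 _ (a i).2 _ (b i).2)
    refine mem_scalars_of_comm (c := ∏ i, (l i : F)) ?_
    rw [hψ]
    have h2 : (fun i => (((⁅a, b⁆ : Fin t → Q) i : GL (Fin k) F) : Matrix (Fin k) (Fin k) F)) =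
        fun i => (l i : F) • (1 : Matrix (Fin k) (Fin k) F) := funext fun i => hl i
    rw [h2, pureMat_smul, pureMat_one, map_smul, map_one, Matrix.mul_smul, mul_one, Matrix.smul_mul, Units.mul_inv]
  · rintro m hQm _ ⟨a, rfl⟩
    rw [← map_pow, show a ^ m = 1 from funext fun i => Subtype.ext (by simpa using hQm _ (a i).2), map_one]

end Cfsg.Agent.AschFormPower
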