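/-
Aschbacher's theorem with a form, part 15: characteristic two, invariant quadratic forms.
-/
import Cfsg.Agent.Lib.AschFormStruct
import Cfsg.Agent.Lib.AschFormImprim

set_option autoImplicit false
set_option linter.unusedSectionVars false

namespace Cfsg.Agent.AschFormQuad

open scoped Matrix Kronecker
open Cfsg Cfsg.Geo Cfsg.Agent.AschPrimeBasic Cfsg.Agent.AschPrimeForms Cfsg.Agent.AschGenAlgebra
  Cfsg.Agent.AschGenTensor Cfsg.Agent.AschFormBasic Cfsg.Agent.AschFormTensor

variable {ι : Type} [Fintype ι] [DecidableEq ι] {F : Type*} [Field F] [Fintype F]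

/-- `H` preserves a quadratic form polarising to `f` -/
def QuadOutcome (f : (ι → F) → (ι → F) → F) (H : Subgroup (GL ι F)) : Prop :=
  ∃ Q : (ι → F) → F, IsNondegenerateQuadraticForm Q ∧ (∀ u v, QuadraticMap.polar Q u v = f u v) ∧
    ∀ h ∈ H, ∀ v, Q ((h : Matrix ι ι F) *ᵥ v) = Q v

lemma quad_mk {ε : F} {f : (ι → F) → (ι → F) → F} (hf : FormData (RingEquiv.refl F) ε f) {H : Subgroup (GL ι F)}
    (Q : (ι → F) → F) (hsm : ∀ (c : F) v, Q (c • v) = c ^ 2 * Q v) (hpol : ∀ u v, QuadraticMap.polar Q u v = f u v)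
    (hinv : ∀ h ∈ H, ∀ v, Q ((h : Matrix ι ι F) *ᵥ v) = Q v) : QuadOutcome f H := by
  have hp : QuadraticMap.polar Q = f := funext₂ hpol
  exact ⟨Q, ⟨hsm, by rw [hp]; exact ⟨hf.sesq.add_left, hf.sesq.smul_left, hf.sesq.add_right, hf.sesq.smul_right⟩,
    by rw [hp]; exact hf.nd⟩, hpol, hinv⟩

/-- a pair of complementary totally singular subspaces -/
theorem quad_of_pair [Nonempty ι] {ε : F} {f : (ι → F) → (ι → F) → F} (hf : FormData (RingEquiv.refl F) ε f)
    (hsy : ∀ u v, f u v = f v u) {H : Subgroup (GL ι F)} (hI : Isos H f) {k : ℕ} {D : Fin 2 → Submodule F (ι → F)}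
    (hD : IsMDecomposition k D) (hts : ∀ i, IsTotallySingularFor f (D i)) (hle : H ≤ decompositionStabilizer D) :
    QuadOutcome f H := by
  classical
  have hsplit : ∀ v : ι → F, ∃ a ∈ D 0, ∃ b ∈ D 1, v = a + b := by
    intro v
    have h1 : iSup D ≤ D 0 ⊔ D 1 := iSup_le fun i => by fin_cases i <;> simp
    obtain ⟨a, ha, b, hb, hab⟩ := Submodule.mem_sup.1 (h1 (hD.iSup_eq_top ▸ Submodule.mem_top : v ∈ iSup D))
    exact ⟨a, ha, b, hb, hab.symm⟩
  choose A hA B hB hAB using hsplit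
  have hdisj : ∀ x, x ∈ D 0 → x ∈ D 1 → x = 0 := fun x h0 h1 =>
    Submodule.disjoint_def.1 (hD.indep.pairwiseDisjoint (by decide : (0 : Fin 2) ≠ 1)) x h0 h1
  have huniq : ∀ v a b, a ∈ D 0 → b ∈ D 1 → v = a + b → A v = a ∧ B v = b := by
    intro v a b ha hb hv
    have h1 : A v - a = b - B v := by
      rw [sub_eq_sub_iff_add_eq_add, ← hAB v, hv, add_comm]
    have h2 : A v - a = 0 := hdisj _ ((D 0).sub_mem (hA v) ha) (h1 ▸ (D 1).sub_mem hb (hB v))
    exact ⟨sub_eq_zero.1 h2, (sub_eq_zero.1 (h1 ▸ h2)).symm⟩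
  refine quad_mk hf (fun v => f (A v) (B v)) (fun c v => ?_) (fun u v => ?_) fun h hh v => ?_
  · obtain ⟨h1, h2⟩ := huniq (c • v) (c • A v) (c • B v) ((D 0).smul_mem c (hA v)) ((D 1).smul_mem c (hB v))
      (by rw [← smul_add, ← hAB])
    show f (A (c • v)) (B (c • v)) = _
    rw [h1, h2, hf.sesq.smul_left, hf.sesq.smul_right]
    simp only [RingEquiv.refl_apply]
    ring
  · obtain ⟨h1, h2⟩ := huniq (u + v) (A u + A v) (B u + B v) ((D 0).add_mem (hA u) (hA v))
      ((D 1).add_mem (hB u) (hB v)) (by rw [add_add_add_comm, ← hAB, ← hAB])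
    simp only [QuadraticMap.polar]
    rw [h1, h2, hf.sesq.add_left, hf.sesq.add_right, hf.sesq.add_right]
    conv_rhs => rw [hAB u, hAB v, hf.sesq.add_left, hf.sesq.add_right, hf.sesq.add_right, hts 0 _ (hA u) _ (hA v),
      hts 1 _ (hB u) _ (hB v), hsy (B u) (A v)]
    ring
  · obtain ⟨π, hπ⟩ := hle hh
    have hm : ∀ i x, x ∈ D i → (h : Matrix ι ι F) *ᵥ x ∈ D (π i) := fun i x hx => by
      rw [← hπ i]; exact ⟨x, hx, rfl⟩
    show f (A ((h : Matrix ι ι F) *ᵥ v)) (B ((h : Matrix ι ι F) *ᵥ v)) = f (A v) (B v)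
    rcases Fin.exists_fin_two.1 ⟨π 0, rfl⟩ with h0 | h0
    · have h1 : π 1 = 1 := by
        rcases Fin.exists_fin_two.1 ⟨π 1, rfl⟩ with h1 | h1
        · exact absurd (π.injective (h0.trans h1.symm)) (by decide)
        · exact h1
      obtain ⟨e1, e2⟩ := huniq ((h : Matrix ι ι F) *ᵥ v) _ _ (h0 ▸ hm 0 _ (hA v)) (h1 ▸ hm 1 _ (hB v))
        (by rw [← Matrix.mulVec_add, ← hAB])
      rw [e1, e2, hI h hh]
    · have h1 : π 1 = 0 := by
        rcases Fin.exists_fin_two.1 ⟨π 1, rfl⟩ with h1 | h1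
        · exact h1
        · exact absurd (π.injective (h0.trans h1.symm)) (by decide)
      obtain ⟨e1, e2⟩ := huniq ((h : Matrix ι ι F) *ᵥ v) _ _ (h1 ▸ hm 1 _ (hB v)) (h0 ▸ hm 0 _ (hA v))
        (by rw [← Matrix.mulVec_add, add_comm, ← hAB])
      rw [e1, e2, hI h hh, hsy]

/-- an extension field of degree two that is not self-adjoint -/
theorem quad_of_field [Nonempty ι] (h2 : (2 : F) = 0) {ε : F} {f : (ι → F) → (ι → F) → F}
    (hf : FormData (RingEquiv.refl F) ε f) (halt : ∀ v, f v v = 0) {H : Subgroup (GL ι F)} (hI : Isos H f)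
    {K : Subalgebra F (Matrix ι ι F)} (hK : IsFieldSubalgebra 2 K) (hKn : AlgNorm H K)
    (hs : StarClosed (RingEquiv.refl F) (gramMatrix f) K) {k : Matrix ι ι F} (hk : k ∈ K)
    (hne : adj (RingEquiv.refl F) (gramMatrix f) k ≠ k) : QuadOutcome f H := by
  classical
  haveI : CharP F 2 := CharTwo.of_one_ne_zero_of_two_eq_zero one_ne_zero h2
  set A := adj (RingEquiv.refl F) (gramMatrix f) with hA
  have hsm : ∀ (c : F) (M : Matrix ι ι F), A (c • M) = c • A M := fun c M => adj_smul _ c M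
  have hadd : ∀ M N : Matrix ι ι F, A (M + N) = A M + A N := fun M N => adj_add _ M N
  have hmm : ∀ M : Matrix ι ι F, M + M = 0 := fun M => by rw [← two_smul F M, h2, zero_smul]
  let X : Submodule F (Matrix ι ι F) :=
    { carrier := {x | x ∈ K ∧ A x = x}
      zero_mem' := ⟨K.zero_mem, adj_zero _⟩
      add_mem' := fun {a b} ha hb => ⟨K.add_mem ha.1 hb.1, by rw [hadd, ha.2, hb.2]⟩
      smul_mem' := fun c a ha => ⟨K.smul_mem ha.1 c, by rw [hsm, ha.2]⟩ }
  have hX1 : X = Submodule.span F {(1 : Matrix ι ι F)} := by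
    have hle : Submodule.span F {(1 : Matrix ι ι F)} ≤ X :=
      (Submodule.span_singleton_le_iff_mem _ _).2 ⟨K.one_mem, adj_one hf⟩
    have hlt : X < Subalgebra.toSubmodule K :=
      lt_of_le_of_ne (fun x hx => hx.1) fun h => hne ((h.ge hk : k ∈ X).2)
    have h1 := Submodule.finrank_lt_finrank_of_lt hlt
    rw [show Module.finrank F (Subalgebra.toSubmodule K) = 2 from hK.finrank_eq] at h1
    have h3 : Module.finrank F (Submodule.span F {(1 : Matrix ι ι F)}) = 1 := finrank_span_singleton one_ne_zero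
    exact (Submodule.eq_of_le_of_finrank_le hle (by omega)).symm
  have hfix : ∀ x ∈ K, A x = x → ∃ c : F, x = c • 1 := fun x hx hAx => by
    obtain ⟨c, hc⟩ := Submodule.mem_span_singleton.1 (hX1 ▸ (⟨hx, hAx⟩ : x ∈ X) : x ∈ Submodule.span F {(1 : Matrix ι ι F)})
    exact ⟨c, hc.symm⟩
  have hAA : ∀ x, A (A x) = x := adj_adj hf
  obtain ⟨c, hc⟩ := hfix (k + A k) (K.add_mem hk (hs k hk)) (by rw [hadd, hAA, add_comm])
  have hc0 : c ≠ 0 := by
    rintro rfl
    rw [zero_smul] at hc
    exact hne (by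
      calc A k = k + (k + A k) := by rw [← add_assoc, hmm, zero_add]
        _ = k := by rw [hc, add_zero])
  set ω := c⁻¹ • k with hω
  have hω1 : ω + A ω = 1 := by rw [hω, hsm, ← smul_add, hc, smul_smul, inv_mul_cancel₀ hc0, one_smul]
  have hadj : ∀ (M : Matrix ι ι F) (u v : ι → F), f (M *ᵥ u) v = f u (A M *ᵥ v) := adjoint_apply hf
  refine quad_mk hf (fun v => f (ω *ᵥ v) v) (fun a v => ?_) (fun u v => ?_) fun h hh v => ?_
  · show f (ω *ᵥ (a • v)) (a • v) = _
    rw [Matrix.mulVec_smul, hf.sesq.smul_left, hf.sesq.smul_right]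
    simp only [RingEquiv.refl_apply]
    ring
  · simp only [QuadraticMap.polar, Matrix.mulVec_add, hf.sesq.add_left, hf.sesq.add_right]
    have e1 : f (ω *ᵥ v) u = f (A ω *ᵥ u) v := by
      rw [hadj (A ω), hAA, hf.herm u (ω *ᵥ v)]
      have hε : ε = 1 := by
        have h4 : ε * ε = 1 := by simpa using hf.eps
        rcases mul_self_eq_one_iff.1 h4 with h | h
        · exact h
        · rw [h]; linear_combination -h2
      simp [hε]
    rw [e1]
    have e2 : f u v = f (ω *ᵥ u) v + f (A ω *ᵥ u) v := by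
      rw [← hf.sesq.add_left, ← Matrix.add_mulVec, hω1, Matrix.one_mulVec]
    rw [e2]
    ring
  · set ω' := conjAlg h⁻¹ ω with hω'
    have hK' : ω' ∈ K := hKn h⁻¹ (H.inv_mem hh) _ (K.smul_mem hk _)
    have hω'1 : ω' + A ω' = 1 := by
      have h5 : A ω' = conjAlg h⁻¹ (A ω) := adj_conj hf (hI h⁻¹ (H.inv_mem hh)) ω
      rw [h5, ← map_add, hω1, map_one]
    have hdK : ω' + ω ∈ K := K.add_mem hK' (K.smul_mem hk _)
    obtain ⟨d, hd⟩ := hfix (ω' + ω) hdK (by
      rw [hadd, ← sub_eq_zero]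
      calc A ω' + A ω - (ω' + ω) = A ω' + A ω + (ω' + ω) := by
            rw [sub_eq_add_neg, neg_eq_of_add_eq_zero_right (hmm _)]
        _ = (ω' + A ω') + (ω + A ω) := by abel
        _ = 0 := by rw [hω'1, hω1, hmm])
    have hωh : ω * (h : Matrix ι ι F) = (h : Matrix ι ι F) * ω' := by
      rw [hω', conjAlg_apply, inv_inv]
      simp [← mul_assoc]
    show f (ω *ᵥ ((h : Matrix ι ι F) *ᵥ v)) ((h : Matrix ι ι F) *ᵥ v) = f (ω *ᵥ v) v
    rw [Matrix.mulVec_mulVec, hωh, ← Matrix.mulVec_mulVec, hI h hh,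
      show ω' = d • 1 + ω by rw [← hd, add_assoc, hmm, add_zero], Matrix.add_mulVec, hf.sesq.add_left,
      Matrix.smul_mulVec, Matrix.one_mulVec, hf.sesq.smul_left, halt, mul_zero, zero_add]

/-- quadratic maps with the same polar form agree if they agree on a spanning set -/
lemma quad_ext {Q Q' : (ι → F) → F} (hs : ∀ (c : F) v, Q (c • v) = c ^ 2 * Q v)
    (hs' : ∀ (c : F) v, Q' (c • v) = c ^ 2 * Q' v)
    (hp : ∀ u v, QuadraticMap.polar Q u v = QuadraticMap.polar Q' u v) {S : Set (ι → F)}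
    (hS : Submodule.span F S = ⊤) (h : ∀ v ∈ S, Q v = Q' v) (v : ι → F) : Q v = Q' v := by
  have hv : v ∈ Submodule.span F S := hS ▸ Submodule.mem_top
  induction hv using Submodule.span_induction with
  | mem x hx => exact h x hx
  | zero =>
    have h1 := hs 0 0
    have h2 := hs' 0 0
    simp only [zero_smul, ne_eq, OfNat.ofNat_ne_zero, not_false_eq_true, zero_pow, zero_mul] at h1 h2
    rw [h1, h2]
  | add x y _ _ hx hy =>
    have h1 := hp x y
    simp only [QuadraticMap.polar] at h1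
    linear_combination h1 + hx + hy
  | smul c x _ hx => rw [hs, hs', hx]

/-- a pair of alternating factors: a quadratic form vanishing on pure tensors -/
theorem quad_of_tensor [Nonempty ι] (h2 : (2 : F) = 0) {ε : F} {f : (ι → F) → (ι → F) → F}
    (hf : FormData (RingEquiv.refl F) ε f) {H : Subgroup (GL ι F)} (hI : Isos H f) {κ μ : Type} [Fintype κ]
    [DecidableEq κ] [Fintype μ] [DecidableEq μ] {e : ι ≃ κ × μ} {P : GL ι F} {c : F} {G₁ : Matrix κ κ F}
    {G₂ : Matrix μ μ F} (hgram : gramP (RingEquiv.refl F) f e P = c • (G₁ ⊗ₖ G₂))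
    (hs₁ : G₁ᵀ = G₁) (hd₁ : ∀ i, G₁ i i = 0) (hs₂ : G₂ᵀ = G₂) (hd₂ : ∀ i, G₂ i i = 0)
    (hpure : ∀ h ∈ H, ∀ a, ∃ (u : κ → F) (w : μ → F),
      ((P⁻¹ : GL ι F) : Matrix ι ι F) *ᵥ ((h : Matrix ι ι F) *ᵥ ((P : Matrix ι ι F) *ᵥ Pi.single a 1)) =
        fun x => u (e x).1 * w (e x).2) :
    QuadOutcome f H := by
  classical
  haveI : CharP F 2 := CharTwo.of_one_ne_zero_of_two_eq_zero one_ne_zero h2
  letI : LinearOrder μ := LinearOrder.lift' (Fintype.equivFin μ) (Fintype.equivFin μ).injective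
  let g : (κ → F) → (κ → F) → F := formOfGram id G₁
  have hg : IsBilinearForm g := AschFormStruct.bilinear_of_gram G₁
  have hgs : ∀ x y, g x y = g y x := fun x y => by
    show formOfGram id G₁ x y = _
    rw [AschFormStruct.formOfGram_flip, hs₁]
  have hg0 : ∀ x, g x x = 0 := fun x => by
    show formOfGram id G₁ x x = 0
    rw [formOfGram_dot]
    refine (FormCongruence.quad_zero_iff G₁).2 ⟨hd₁, fun i j => ?_⟩ x
    have := congrFun (congrFun hs₁ i) j
    rw [Matrix.transpose_apply] at this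
    rw [this, CharTwo.add_self_eq_zero]
  let sl : (ι → F) → μ → κ → F := fun v j i =>
    (((P⁻¹ : GL ι F) : Matrix ι ι F) *ᵥ v) (e.symm (i, j))
  have hsla : ∀ u v j, sl (u + v) j = sl u j + sl v j := fun u v j => funext fun i => by
    simp [sl, Matrix.mulVec_add]
  have hsls : ∀ (a : F) v j, sl (a • v) j = a • sl v j := fun a v j => funext fun i => by
    simp [sl, Matrix.mulVec_smul]
  let U : Matrix μ μ F := Matrix.of fun j l => if j < l then G₂ j l else 0
  let Q : (ι → F) → F := fun v => c * ∑ j, ∑ l, U j l * g (sl v j) (sl v l)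
  have hQs : ∀ (a : F) v, Q (a • v) = a ^ 2 * Q v := by
    intro a v
    simp only [Q, hsls, hg.smul_left, hg.smul_right, Finset.mul_sum]
    exact Finset.sum_congr rfl fun j _ => Finset.sum_congr rfl fun l _ => by ring
  have hU : ∀ j l, U j l + U l j = G₂ j l := by
    intro j l
    have hsym := congrFun (congrFun hs₂ j) l
    rw [Matrix.transpose_apply] at hsym
    simp only [U, Matrix.of_apply]
    rcases lt_trichotomy j l with h | h | h
    · rw [if_pos h, if_neg h.not_gt, add_zero]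
    · subst h; simp [hd₂]
    · rw [if_neg h.not_gt, if_pos h, zero_add, hsym]
  have hpol : ∀ u v, QuadraticMap.polar Q u v = f u v := by
    intro u v
    have h1 : QuadraticMap.polar Q u v = c * ∑ j, ∑ l, U j l * (g (sl u j) (sl v l) + g (sl u l) (sl v j)) := by
      simp only [QuadraticMap.polar, Q, hsla, hg.add_left, hg.add_right, mul_add, Finset.sum_add_distrib,
        fun j l => hgs (sl v j) (sl u l)]
      ring
    have h3 : ∑ j, ∑ l, U j l * (g (sl u j) (sl v l) + g (sl u l) (sl v j)) =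
        ∑ j, ∑ l, G₂ j l * g (sl u j) (sl v l) := by
      simp only [mul_add, Finset.sum_add_distrib]
      conv_lhs => arg 2; rw [Finset.sum_comm]
      rw [← Finset.sum_add_distrib]
      refine Finset.sum_congr rfl fun j _ => ?_
      rw [← Finset.sum_add_distrib]
      exact Finset.sum_congr rfl fun l _ => by rw [← add_mul, hU]
    rw [h1, h3]
    have hu : ∀ w : ι → F, w = (P : Matrix ι ι F) *ᵥ ((fun q : κ × μ => sl w q.2 q.1) ∘ e) := fun w => by
      conv_lhs => rw [← mulVec_inv_mulVec P w]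
      congr 1
      funext x
      simp [sl]
    conv_rhs => rw [hu u, hu v, form_coords hf, hgram, AschFormStruct.formOfGram_smul]
    refine congrArg (c * ·) ?_
    simp only [g, formOfGram, id, RingEquiv.refl_apply, Matrix.kroneckerMap_apply, Fintype.sum_prod_type,
      Finset.mul_sum]
    rw [Finset.sum_comm]
    conv_rhs => rw [Finset.sum_comm]
    conv_rhs => arg 2; ext j; arg 2; ext i; rw [Finset.sum_comm]
    conv_rhs => arg 2; ext j; rw [Finset.sum_comm]
    rw [Finset.sum_comm]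
    refine Finset.sum_congr rfl fun j _ => Finset.sum_congr rfl fun l _ => Finset.sum_congr rfl fun i _ =>
      Finset.sum_congr rfl fun i' _ => by ring
  have hzero : ∀ v, (∃ (u : κ → F) (w : μ → F),
      ((P⁻¹ : GL ι F) : Matrix ι ι F) *ᵥ v = fun x => u (e x).1 * w (e x).2) → Q v = 0 := by
    rintro v ⟨u, w, huw⟩
    have h1 : ∀ j, sl v j = w j • u := fun j => funext fun i => by
      simp only [sl, huw, Equiv.apply_symm_apply, Pi.smul_apply, smul_eq_mul, mul_comm]
    simp only [Q, h1, hg.smul_left, hg.smul_right, hg0, mul_zero, Finset.sum_const_zero]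
  refine quad_mk hf Q hQs hpol fun h hh v => ?_
  have hspan : Submodule.span F (Set.range fun a => (P : Matrix ι ι F) *ᵥ Pi.single a 1) = ⊤ := by
    refine eq_top_iff.2 fun w _ => ?_
    rw [← mulVec_inv_mulVec P w, pi_eq_sum_univ' (((P⁻¹ : GL ι F) : Matrix ι ι F) *ᵥ w), Matrix.mulVec_sum]
    refine Submodule.sum_mem _ fun j _ => ?_
    rw [Matrix.mulVec_smul]
    exact Submodule.smul_mem _ _ (Submodule.subset_span ⟨j, rfl⟩)
  refine quad_ext (Q := fun v => Q ((h : Matrix ι ι F) *ᵥ v)) (fun a w => by simp only [Matrix.mulVec_smul, hQs]) hQs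
    (fun x y => ?_) hspan ?_ v
  · have h5 : QuadraticMap.polar (fun v => Q ((h : Matrix ι ι F) *ᵥ v)) x y =
        QuadraticMap.polar Q ((h : Matrix ι ι F) *ᵥ x) ((h : Matrix ι ι F) *ᵥ y) := by
      simp only [QuadraticMap.polar, Matrix.mulVec_add]
    rw [h5, hpol, hI h hh, hpol]
  · rintro _ ⟨a, rfl⟩
    rw [hzero _ (hpure h hh a), hzero _ ?_]
    refine ⟨Pi.single (e a).1 1, Pi.single (e a).2 1, ?_⟩
    rw [inv_mulVec_mulVec]
    funext x
    by_cases hx : x = a
    · subst hx; simp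
    · have : e x ≠ e a := fun h => hx (e.injective h)
      by_cases h1 : (e x).1 = (e a).1
      · have h3 : (e x).2 ≠ (e a).2 := fun h4 => this (Prod.ext h1 h4)
        simp [hx, h3]
      · simp [hx, h1]

/-- a factor that is symmetric but not alternating gives an invariant subspace -/
theorem factor_reducible [Nonempty ι] (h2 : (2 : F) = 0) {H : Subgroup (GL ι F)} {k m : ℕ} (hk : 2 ≤ k) (hm : 1 ≤ m)
    {e : ι ≃ Fin k × Fin m} {P : GL ι F} {G : Matrix (Fin k) (Fin k) F} (hs : Gᵀ = G) (hd : ∃ i, G i i ≠ 0)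
    (helem : ∀ h ∈ H, ∃ (A : Matrix (Fin k) (Fin k) F) (B : Matrix (Fin m) (Fin m) F) (l : F),
      (h : Matrix ι ι F) = (P : Matrix ι ι F) * pull e (A ⊗ₖ B) * ((P⁻¹ : GL ι F) : Matrix ι ι F) ∧
        Aᵀ * G * A = l • G) : ¬ Irred H := by
  classical
  haveI : CharP F 2 := CharTwo.of_one_ne_zero_of_two_eq_zero one_ne_zero h2
  choose rt hrt using fun k => FiniteField.isSquare_of_char_two (ringChar.eq F 2) (G k k)
  have hquad : ∀ x : Fin k → F, x ⬝ᵥ (G *ᵥ x) = (∑ i, rt i * x i) * (∑ i, rt i * x i) := by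
    intro x
    have hA : x ⬝ᵥ ((G - Matrix.diagonal fun i => G i i) *ᵥ x) = 0 := by
      refine (FormCongruence.quad_zero_iff _).2 ⟨fun i => by simp, fun i j => ?_⟩ x
      by_cases hij : i = j
      · subst hij; simp
      · have := congrFun (congrFun hs i) j
        rw [Matrix.transpose_apply] at this
        simp [hij, Ne.symm hij, this, CharTwo.add_self_eq_zero]
    rw [Matrix.sub_mulVec, dotProduct_sub, sub_eq_zero] at hA
    rw [hA, CharTwo.sum_mul_self]
    simp only [dotProduct, Matrix.mulVec_diagonal]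
    exact Finset.sum_congr rfl fun k _ => by rw [hrt k]; ring
  let L : (ι → F) →ₗ[F] (Fin m → F) :=
    { toFun := fun v j => ∑ i, rt i * (((P⁻¹ : GL ι F) : Matrix ι ι F) *ᵥ v) (e.symm (i, j))
      map_add' := fun u v => funext fun j => by simp [Matrix.mulVec_add, mul_add, Finset.sum_add_distrib]
      map_smul' := fun a v => funext fun j => by simp [Matrix.mulVec_smul, Finset.mul_sum, mul_left_comm] }
  intro hirr
  have hinv : Inv H (LinearMap.ker L) := by
    intro h hh v hv
    obtain ⟨A, B, l, hval, hsim⟩ := helem h hh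
    obtain ⟨s, hsl⟩ := FiniteField.isSquare_of_char_two (ringChar.eq F 2) l
    have hrow : ∀ j, ∑ i, rt i * A i j = s * rt j := by
      intro j
      have h1 : (∑ i, rt i * A i j) * (∑ i, rt i * A i j) = (s * rt j) * (s * rt j) := by
        have h3 := congrFun (congrFun hsim j) j
        rw [← hquad, Matrix.smul_apply, smul_eq_mul, hrt j, hsl] at *
        rw [mul_assoc, Matrix.mul_apply] at h3
        rw [dotProduct]
        simp only [Matrix.transpose_apply] at h3
        rw [show (∑ i, A i j * (G *ᵥ fun i => A i j) i) = ∑ i, A i j * (G * A) i j from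
          Finset.sum_congr rfl fun i _ => by rfl, h3]
        ring
      rcases mul_self_eq_mul_self_iff.1 h1 with h | h
      · exact h
      · rw [h, CharTwo.neg_eq]
    have hv' : ∀ j, ∑ i, rt i * (((P⁻¹ : GL ι F) : Matrix ι ι F) *ᵥ v) (e.symm (i, j)) = 0 := fun j =>
      congrFun (show L v = 0 from hv) j
    show L ((h : Matrix ι ι F) *ᵥ v) = 0
    funext j
    show ∑ i, rt i * (((P⁻¹ : GL ι F) : Matrix ι ι F) *ᵥ ((h : Matrix ι ι F) *ᵥ v)) (e.symm (i, j)) = 0
    rw [hval, Matrix.mulVec_mulVec, ← mul_assoc, Units.inv_mul_cancel_left, ← Matrix.mulVec_mulVec]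
    set y := ((P⁻¹ : GL ι F) : Matrix ι ι F) *ᵥ v with hy
    have h4 : ∀ i, (pull e (A ⊗ₖ B) *ᵥ y) (e.symm (i, j)) = ∑ i', ∑ j', A i i' * B j j' * y (e.symm (i', j')) := by
      intro i
      rw [← Fintype.sum_prod_type' (fun i' j' => A i i' * B j j' * y (e.symm (i', j')))]
      simp only [Matrix.mulVec, dotProduct, pull_apply, Equiv.apply_symm_apply, Matrix.kroneckerMap_apply]
      exact Fintype.sum_equiv e _ _ fun a => by simp
    simp only [h4, Finset.mul_sum]
    rw [Finset.sum_comm]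
    rw [Finset.sum_congr rfl fun i' _ => Finset.sum_comm, Finset.sum_comm]
    refine Finset.sum_eq_zero fun j' _ => ?_
    calc ∑ i', ∑ i, rt i * (A i i' * B j j' * y (e.symm (i', j')))
        = ∑ i', B j j' * ((∑ i, rt i * A i i') * y (e.symm (i', j'))) := by
          refine Finset.sum_congr rfl fun i' _ => ?_
          rw [Finset.sum_mul, Finset.mul_sum]
          exact Finset.sum_congr rfl fun i _ => by ring
      _ = B j j' * s * ∑ i', rt i' * y (e.symm (i', j')) := by
          rw [Finset.mul_sum]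
          exact Finset.sum_congr rfl fun i' _ => by rw [hrow]; ring
      _ = 0 := by rw [hv', mul_zero]
  rcases hirr _ hinv with h | h
  · obtain ⟨v, hv, hv0⟩ := (Submodule.ne_bot_iff _).1 (L.ker_ne_bot_of_finrank_lt (by
      rw [Module.finrank_pi, Module.finrank_pi, Fintype.card_fin, Fintype.card_congr e, Fintype.card_prod,
        Fintype.card_fin, Fintype.card_fin]
      exact (Nat.lt_mul_iff_one_lt_left hm).2 hk))
    exact hv0 ((Submodule.eq_bot_iff _).1 h _ hv)
  · obtain ⟨i₀, hi₀⟩ := hd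
    have hr : rt i₀ ≠ 0 := fun h0 => hi₀ (by rw [hrt, h0, mul_zero])
    let j₀ : Fin m := ⟨0, hm⟩
    have h5 : L ((P : Matrix ι ι F) *ᵥ Pi.single (e.symm (i₀, j₀)) 1) = 0 := by
      rw [← LinearMap.mem_ker, h]; exact Submodule.mem_top
    have h6 := congrFun h5 j₀
    change ∑ i, rt i * _ = (0 : F) at h6
    rw [inv_mulVec_mulVec] at h6
    simp [Pi.single_apply] at h6
    exact hr h6

end Cfsg.Agent.AschFormQuad
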