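/-
Aschbacher's theorem with a form, part 11: groups defined over a subfield carry a rational form.
-/
import Cfsg.Agent.Lib.AschFormTensor
import Cfsg.Agent.Lib.AschFormField
import Cfsg.Agent.Lib.AschPrimeUnitary
import Cfsg.Agent.Lib.FormCongruence
import Cfsg.Agent.Lib.AschFineDef

set_option autoImplicit false
set_option linter.unusedSectionVars false

namespace Cfsg.Agent.AschFormSub

open scoped Matrix
open Cfsg Cfsg.Geo Cfsg.Agent.AschPrimeBasic Cfsg.Agent.AschPrimeForms Cfsg.Agent.AschFormBasic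
  Cfsg.Agent.AschPrimeUnitary Cfsg.Agent.AschFine

variable {ι : Type} [Fintype ι] [DecidableEq ι] {F : Type*} [Field F] [Fintype F]

/-- two Gram matrices with the same similitudes and multipliers are proportional -/
lemma gram_unique_sim {S : Subgroup (GL ι F)} (hS : AbsIrred S) (σ : F ≃+* F) {G G' : Matrix ι ι F}
    (hG : IsUnit G.det)
    (h : ∀ s ∈ S, ∃ c : F, (s : Matrix ι ι F)ᵀ * G * (s : Matrix ι ι F).map σ = c • G ∧
      (s : Matrix ι ι F)ᵀ * G' * (s : Matrix ι ι F).map σ = c • G') :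
    ∃ l : F, G' = l • G := by
  obtain ⟨l, hl⟩ := hS.commutant (M := (G⁻¹ * G').map σ.symm) fun s hs => by
    obtain ⟨c, h1, h2⟩ := h s hs
    set A := (s : Matrix ι ι F).map σ with hA
    have hAu : IsUnit A.det := Matrix.isUnits_det_units (glMap σ s)
    have hsd : IsUnit ((s : Matrix ι ι F)ᵀ).det := by
      rw [Matrix.det_transpose]; exact Matrix.isUnits_det_units s
    have key : (G⁻¹ * G') * A = A * (G⁻¹ * G') := by
      have e : (s : Matrix ι ι F)ᵀ * (G * ((G⁻¹ * G') * A)) = (s : Matrix ι ι F)ᵀ * (G * (A * (G⁻¹ * G'))) := by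
        rw [mul_assoc G⁻¹ G', Matrix.mul_nonsing_inv_cancel_left _ _ hG, ← mul_assoc _ G', h2,
          ← mul_assoc G A, ← mul_assoc _ (G * A), ← mul_assoc _ G A, h1, Matrix.smul_mul,
          Matrix.mul_nonsing_inv_cancel_left _ _ hG]
      have e1 := congrArg (((s : Matrix ι ι F)ᵀ)⁻¹ * ·) e
      simp only [Matrix.nonsing_inv_mul_cancel_left _ _ hsd] at e1
      have e2 := congrArg (G⁻¹ * ·) e1
      simpa only [Matrix.nonsing_inv_mul_cancel_left _ _ hG] using e2
    have := congrArg (fun X => X.map σ.symm) key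
    simp only [map_mul_map] at this
    rw [hA, map_map_symm] at this
    simpa [map_mul_map] using this
  refine ⟨σ l, ?_⟩
  have h3 : G⁻¹ * G' = σ l • (1 : Matrix ι ι F) := by
    rw [← map_symm_map σ (G⁻¹ * G'), hl]
    ext a b
    by_cases hab : a = b <;> simp [hab]
  rw [← Matrix.mul_nonsing_inv_cancel_left G G' hG, h3, Matrix.mul_smul, mul_one]

/-- the form in coordinates where an absolutely irreducible group of similitudes is rational -/
theorem scaled_rational [Nonempty ι] {σ φ : F ≃+* F} (hcomm : ∀ x, φ (σ x) = σ (φ x)) {ε : F}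
    {f : (ι → F) → (ι → F) → F} (hf : FormData σ ε f) {S : Subgroup (GL ι F)} (hS : AbsIrred S) {B : GL ι F}
    (hfix : ∀ s ∈ S, ∀ i j, φ (((B * s * B⁻¹ : GL ι F) : Matrix ι ι F) i j) =
      ((B * s * B⁻¹ : GL ι F) : Matrix ι ι F) i j)
    (hsim : ∀ s ∈ S, ∃ c : F, φ c = c ∧
      ∀ u v, f ((s : Matrix ι ι F) *ᵥ u) ((s : Matrix ι ι F) *ᵥ v) = c * f u v) :
    ∃ (μ : F) (G₀ : Matrix ι ι F), μ ≠ 0 ∧
      ((B⁻¹ : GL ι F) : Matrix ι ι F)ᵀ * gramMatrix f * ((B⁻¹ : GL ι F) : Matrix ι ι F).map σ = μ • G₀ ∧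
      G₀.map φ = G₀ ∧ IsUnit G₀.det ∧ ∃ a b, G₀ a b = 1 := by
  set Q : Matrix ι ι F := ((B⁻¹ : GL ι F) : Matrix ι ι F) with hQ
  set Bm : Matrix ι ι F := (B : Matrix ι ι F) with hBm
  set M := gramMatrix f with hM
  set G := Qᵀ * M * Q.map σ with hG
  have hQB : Q * Bm = 1 := Units.inv_mul B
  have hBQ : Bm * Q = 1 := Units.mul_inv B
  have hBQT : Bmᵀ * Qᵀ = 1 := by rw [← Matrix.transpose_mul, hQB, Matrix.transpose_one]
  have hQT : Qᵀ * Bmᵀ = 1 := by rw [← Matrix.transpose_mul, hBQ, Matrix.transpose_one]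
  have hQBσ : Q.map σ * Bm.map σ = 1 := by rw [← map_mul_map, hQB, map_one_mat]
  have hBQσ : Bm.map σ * Q.map σ = 1 := by rw [← map_mul_map, hBQ, map_one_mat]
  have hpull : Bmᵀ * G * Bm.map σ = M := by
    rw [hG, ← mul_assoc, ← mul_assoc, hBQT, one_mul, mul_assoc, hQBσ, mul_one]
  have hGd : IsUnit G.det := by
    rw [hG, Matrix.det_mul, Matrix.det_mul, Matrix.det_transpose]
    exact ((Matrix.isUnits_det_units B⁻¹).mul hf.det).mul (Matrix.isUnits_det_units (glMap σ B⁻¹))
  obtain ⟨l, hl⟩ : ∃ l : F, Bmᵀ * G.map φ * Bm.map σ = l • M := by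
    refine gram_unique_sim hS σ hf.det fun s hs => ?_
    obtain ⟨c, hc, hcs⟩ := hsim s hs
    have h1 := (hf.sesq.similar_iff (s : Matrix ι ι F) c).1 hcs
    refine ⟨c, h1, ?_⟩
    set s' := ((B * s * B⁻¹ : GL ι F) : Matrix ι ι F) with hs'
    have hsf : s'.map φ = s' := Matrix.ext fun i j => hfix s hs i j
    have hsσ : (s'.map σ).map φ = s'.map σ := Matrix.ext fun i j => by
      show φ (σ (s' i j)) = σ (s' i j)
      rw [hcomm, hfix s hs i j]
    have hsM : s' = Bm * (s : Matrix ι ι F) * Q := rfl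
    have hinv : s'ᵀ * G * s'.map σ = c • G := by
      rw [hsM, Matrix.transpose_mul, Matrix.transpose_mul, map_mul_map, map_mul_map]
      calc Qᵀ * ((s : Matrix ι ι F)ᵀ * Bmᵀ) * G * (Bm.map σ * (s : Matrix ι ι F).map σ * Q.map σ)
          = Qᵀ * ((s : Matrix ι ι F)ᵀ * (Bmᵀ * G * Bm.map σ) * (s : Matrix ι ι F).map σ) * Q.map σ := by
            simp only [mul_assoc]
        _ = c • G := by rw [hpull, h1, Matrix.mul_smul, Matrix.smul_mul, hG]
    have h2 := congrArg (fun A => A.map φ) hinv
    simp only [map_mul_map, hsσ, map_smul_mat, hc] at h2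
    rw [show (s'ᵀ).map φ = s'ᵀ by rw [Matrix.transpose_map, hsf]] at h2
    have h3 : Bm * (s : Matrix ι ι F) = s' * Bm := by
      rw [hsM, mul_assoc (Bm * (s : Matrix ι ι F)), hQB, mul_one]
    calc (s : Matrix ι ι F)ᵀ * (Bmᵀ * G.map φ * Bm.map σ) * (s : Matrix ι ι F).map σ
        = (Bm * (s : Matrix ι ι F))ᵀ * G.map φ * (Bm * (s : Matrix ι ι F)).map σ := by
          simp only [Matrix.transpose_mul, map_mul_map, mul_assoc]
      _ = Bmᵀ * (s'ᵀ * G.map φ * s'.map σ) * Bm.map σ := by
          rw [h3]; simp only [Matrix.transpose_mul, map_mul_map, mul_assoc]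
      _ = c • (Bmᵀ * G.map φ * Bm.map σ) := by rw [h2, Matrix.mul_smul, Matrix.smul_mul]
  have hGφ : G.map φ = l • G := by
    have h1 := congrArg (fun A => Qᵀ * A * Q.map σ) hl
    simp only [Matrix.mul_smul, Matrix.smul_mul, ← mul_assoc, hQT, one_mul] at h1
    simp only [mul_assoc, hBQσ, mul_one] at h1
    rw [h1, hG, mul_assoc]
  obtain ⟨a, b, hab⟩ : ∃ a b, G a b ≠ 0 := by
    by_contra hall
    push Not at hall
    exact hGd.ne_zero (by rw [show G = 0 from Matrix.ext hall, Matrix.det_zero])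
  have hφG : ∀ i j, φ (G i j) = l * G i j := fun i j => congrFun (congrFun hGφ i) j
  refine ⟨G a b, (G a b)⁻¹ • G, hab, by rw [smul_smul, mul_inv_cancel₀ hab, one_smul], ?_, ?_, a, b, ?_⟩
  · ext i j
    simp only [Matrix.map_apply, Matrix.smul_apply, smul_eq_mul, map_mul, map_inv₀, hφG]
    have hl0 : l ≠ 0 := fun h => hab (φ.injective (by rw [hφG, h, zero_mul, map_zero]))
    field_simp
  · rw [Matrix.det_smul]
    exact ((isUnit_iff_ne_zero.2 (inv_ne_zero hab)).pow _).mul hGd
  · simp [hab]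

/-- rational coordinates give the structure of the definition -/
lemma rational_of_gram {σ : F ≃+* F} {f : (ι → F) → (ι → F) → F} (hf : IsSesq σ f) {F₀ : Subfield F}
    (hσ : ∀ x ∈ F₀, σ x ∈ F₀) {ζ : F} {P : GL ι F}
    (h : ∀ i j, ζ * ((P : Matrix ι ι F)ᵀ * gramMatrix f * (P : Matrix ι ι F).map σ) i j ∈ F₀) :
    IsFormRationalStructure f F₀ ζ P := by
  intro u v hu hv
  rw [hf.transform, dotProduct, Finset.mul_sum]
  refine sum_mem fun i _ => ?_
  rw [Matrix.mulVec, dotProduct, Finset.mul_sum, Finset.mul_sum]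
  refine sum_mem fun j _ => ?_
  rw [show ζ * (u i * (((P : Matrix ι ι F)ᵀ * gramMatrix f * (P : Matrix ι ι F).map σ) i j * σ (v j))) =
    u i * (ζ * ((P : Matrix ι ι F)ᵀ * gramMatrix f * (P : Matrix ι ι F).map σ) i j) * σ (v j) by ring]
  exact mul_mem (mul_mem (hu i) (h i j)) (hσ _ (hv j))

/-- scalars do not change a subfield group -/
lemma subfield_rescale (F₀ : Subfield F) (P : GL ι F) {z : GL ι F} (hz : z ∈ scalars ι F) :
    subfieldSubgroup F₀ P ≤ subfieldSubgroup F₀ (P * z) := by
  rintro _ ⟨g, hg, rfl⟩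
  refine ⟨g, hg, ?_⟩
  simp only [MulEquiv.coe_toMonoidHom]
  rw [MulAut.conj_apply, MulAut.conj_apply]
  calc P * z * g * (P * z)⁻¹ = P * (z * g) * z⁻¹ * P⁻¹ := by group
    _ = P * g * P⁻¹ := by rw [scalar_comm hz g]; group

section Unitary

variable {n q : ℕ}

/-- the form of index two: symmetric in odd characteristic, or alternating -/
theorem unitary_index2 (hF : Fintype.card F = q ^ 2) (hn0' : n ≠ 0) {H : Subgroup (GL (Fin n) F)}
    (hH : H ≤ Cfsg.GU n F q) {P : GL (Fin n) F} (hle : H ≤ subfieldSubgroup (fixedField (fr hF)) P)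
    {μ : F} (hμ : μ ≠ 0) {G₀ : Matrix (Fin n) (Fin n) F}
    (hgram : (P : Matrix (Fin n) (Fin n) F)ᵀ * (P : Matrix (Fin n) (Fin n) F).map (fr hF) = μ • G₀)
    (hfix : G₀.map (fr hF) = G₀) (hd : IsUnit G₀.det)
    (hcase : (G₀ᵀ = G₀ ∧ Odd q) ∨ (G₀ᵀ = -G₀ ∧ ∀ i, G₀ i i = 0)) :
    ∃ M, UnitFine n F q M ∧ H ≤ M := by
  set σ := fr hF with hσ
  have hσσ : ∀ x, σ (σ x) = x := fr_fr hF
  have hcard : Fintype.card F = Nat.card (fixedField σ) ^ 2 := by
    rw [← Nat.card_eq_fintype_card]
    exact (AschFormField.card_fixed_involution σ hσσ (herm_unitary (n := 1) hF).ne_refl).symm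
  have hses := sesq_of_unitary (herm_unitary (n := n) hF)
  have hgram' : (P : Matrix (Fin n) (Fin n) F)ᵀ * gramMatrix (hermForm n F q) * (P : Matrix (Fin n) (Fin n) F).map σ =
      μ • G₀ := by rw [gram_herm hF, mul_one, hgram]
  have hσpres : ∀ x ∈ fixedField σ, σ x ∈ fixedField σ := fun x hx => by
    rw [mem_fixedField] at hx ⊢; rw [hx, hx]
  have hG0 : ∀ i j, G₀ i j ∈ fixedField σ := fun i j => congrFun (congrFun hfix i) j
  rcases isEmpty_or_nonempty (Fin n) with he | hne
  · exact (he.false (⟨0, Nat.pos_of_ne_zero hn0'⟩ : Fin n)).elim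
  obtain ⟨a, b, hab⟩ : ∃ a b, G₀ a b ≠ 0 := by
    by_contra hall
    push Not at hall
    exact hd.ne_zero (by rw [show G₀ = 0 from Matrix.ext hall, Matrix.det_zero])
  have hherm : σ μ • G₀ᵀ = μ • G₀ := by
    have h1 := congrArg (fun A => Aᵀ.map σ) hgram
    simp only [Matrix.transpose_mul, map_mul_map, Matrix.transpose_map, Matrix.transpose_transpose,
      Matrix.transpose_smul, map_smul_mat] at h1
    rw [map_map_invol hσσ, hgram] at h1
    rw [h1, hfix]
  rcases hcase with ⟨hsy, hq⟩ | ⟨hsk, hdiag⟩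
  · rw [hsy] at hherm
    have hμσ : σ μ = μ := mul_right_cancel₀ hab (congrFun (congrFun hherm a) b)
    refine ⟨_, Or.inl (Or.inr (Or.inr (Or.inr (Or.inr (Or.inr (Or.inl
      ⟨fixedField σ, P, hq, hcard, rational_of_gram hses hσpres fun i j => ?_, rfl⟩)))))), le_inf hle hH⟩
    rw [hgram', one_mul, Matrix.smul_apply, smul_eq_mul]
    exact mul_mem hμσ (hG0 i j)
  · rw [hsk] at hherm
    have hμσ : σ μ = -μ := by
      have h1 := congrFun (congrFun hherm a) b
      simp only [Matrix.smul_apply, Matrix.neg_apply, smul_eq_mul] at h1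
      exact mul_right_cancel₀ hab (by linear_combination -h1)
    have hn : Even n := by
      rcases Nat.even_or_odd n with h | h
      · exact h
      · exact (hd.ne_zero (det_eq_zero_of_alternating (by rw [Fintype.card_fin]; exact h) hdiag fun i j => by
          have := congrFun (congrFun hsk i) j
          rw [Matrix.transpose_apply, Matrix.neg_apply] at this
          exact this)).elim
    have hzero : ∀ u : Fin n → F, (∀ i, u i ∈ fixedField σ) →
        hermForm n F q ((P : Matrix (Fin n) (Fin n) F) *ᵥ u) ((P : Matrix (Fin n) (Fin n) F) *ᵥ u) = 0 := by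
      intro u hu
      rw [hses.transform, hgram', show (fun i => σ (u i)) = u from funext fun i => hu i, Matrix.smul_mulVec,
        dotProduct_smul, (FormCongruence.quad_zero_iff G₀).2 ⟨hdiag, fun i j => ?_⟩ u, smul_zero]
      have := congrFun (congrFun hsk i) j
      rw [Matrix.transpose_apply, Matrix.neg_apply] at this
      rw [this, add_neg_cancel]
    refine ⟨_, Or.inl (Or.inr (Or.inr (Or.inr (Or.inr (Or.inr (Or.inr (Or.inl
      ⟨fixedField σ, P, μ, hn, hcard, hμ, ?_, rational_of_gram hses hσpres fun i j => ?_, hzero, rfl⟩))))))),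
      le_inf hle hH⟩
    · rw [← fr_apply hF, ← hσ, hμσ, add_neg_cancel]
    · rw [hgram', Matrix.smul_apply, smul_eq_mul, ← mul_assoc]
      refine mul_mem ?_ (hG0 i j)
      rw [mem_fixedField, map_mul, hμσ, neg_mul_neg]

/-- a group of unitary similitudes defined over a subfield lies in a member of class five -/
theorem unitary_subfield (hF : Fintype.card F = q ^ 2) (hn : 2 ≤ n) {H S : Subgroup (GL (Fin n) F)}
    (hH : H ≤ Cfsg.GU n F q) (hS : AbsIrred S) (hSn : NormalBy H S) {φ : F ≃+* F} {r : ℕ} (hr : r.Prime)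
    (hcard : Fintype.card F = Nat.card (fixedField φ) ^ r) {B : GL (Fin n) F}
    (hfix : ∀ s ∈ S, ∀ i j, φ (((B * s * B⁻¹ : GL (Fin n) F) : Matrix (Fin n) (Fin n) F) i j) =
      ((B * s * B⁻¹ : GL (Fin n) F) : Matrix (Fin n) (Fin n) F) i j)
    (hsim : ∀ s ∈ S, ∃ c : F, φ c = c ∧ ∀ u v, hermForm n F q ((s : Matrix (Fin n) (Fin n) F) *ᵥ u)
      ((s : Matrix (Fin n) (Fin n) F) *ᵥ v) = c * hermForm n F q u v) :
    ∃ M, UnitFine n F q M ∧ H ≤ M := by
  haveI : Nonempty (Fin n) := ⟨⟨0, by omega⟩⟩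
  letI : Fintype (fixedField φ) := Fintype.ofFinite _
  set σ := fr hF with hσdef
  have hσσ : ∀ x, σ (σ x) = x := fr_fr hF
  have hσne := (herm_unitary (n := 1) hF).ne_refl
  have hU := herm_unitary (n := n) hF
  have hf : FormData σ 1 (hermForm n F q) :=
    ⟨sesq_of_unitary hU, hσσ, by simp, hU.nondegenerate, fun v w => by rw [one_mul]; exact hU.herm v w⟩
  have hcomm : ∀ x, φ (σ x) = σ (φ x) := fun x => by simp [hσdef]
  obtain ⟨μ, G₀, hμ, hgram, hGfix, hGd, a, b, hab⟩ := scaled_rational hcomm hf hS hfix hsim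
  rw [gram_herm hF, mul_one] at hgram
  have hle : H ≤ subfieldSubgroup (fixedField φ) B⁻¹ := le_subfieldSubgroup hS hSn hfix
  have hherm : σ μ • (G₀ᵀ).map σ = μ • G₀ := by
    have h1 := congrArg (fun A => Aᵀ.map σ) hgram
    simp only [Matrix.transpose_mul, map_mul_map, Matrix.transpose_map, Matrix.transpose_smul, map_smul_mat,
      Matrix.transpose_transpose] at h1
    rw [map_map_invol hσσ, hgram] at h1
    rw [h1, Matrix.transpose_map]
  have hσpres : ∀ x ∈ fixedField φ, σ x ∈ fixedField φ := fun x hx => by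
    rw [mem_fixedField] at hx ⊢; rw [hcomm, hx]
  set d := μ / σ μ with hd
  have hσμ : σ μ ≠ 0 := by simpa using hμ
  have hGsym : ∀ i j, σ (G₀ j i) = d * G₀ i j := by
    intro i j
    have h1 := congrFun (congrFun hherm i) j
    simp only [Matrix.smul_apply, Matrix.map_apply, Matrix.transpose_apply, smul_eq_mul] at h1
    rw [hd, div_mul_eq_mul_div, eq_div_iff hσμ]
    linear_combination h1
  have hG0 : ∀ i j, G₀ i j ∈ fixedField φ := fun i j => congrFun (congrFun hGfix i) j
  have hdmem : d ∈ fixedField φ := by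
    have := hGsym a b
    rw [hab, mul_one] at this
    rw [← this]
    exact hσpres _ (hG0 b a)
  rcases hr.eq_two_or_odd' with rfl | hro
  · -- index two
    have hφo : orderOf φ = 2 := by
      have h1 := GaloisDescentGL.card_fixed φ
      rw [Nat.card_eq_fintype_card (α := F), hcard] at h1
      exact Nat.pow_right_injective (Nat.card_eq_fintype_card (α := fixedField φ) ▸ Fintype.one_lt_card) h1
    have hφφ : ∀ x, φ (φ x) = x := fun x => by
      have h1 := pow_orderOf_eq_one φ
      rw [hφo] at h1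
      exact congrArg (fun e : F ≃+* F => e x) h1
    have hφne : φ ≠ RingEquiv.refl F := fun h => by
      rw [h, show (RingEquiv.refl F) = (1 : F ≃+* F) from rfl, orderOf_one] at hφo
      omega
    have hfields : fixedField φ = fixedField σ := by
      ext x
      exact ⟨fun hx => AschFormField.fixed_eq hσσ hφφ hσne hφne hx,
        fun hx => AschFormField.fixed_eq hφφ hσσ hφne hσne hx⟩
    have hGσ : G₀.map σ = G₀ := Matrix.ext fun i j => by
      have := hG0 i j
      rw [hfields] at this
      exact this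
    rw [hfields] at hle hdmem
    have hdd : d * d = 1 := by
      have h1 : σ d = d := hdmem
      rw [hd, map_div₀, hσσ] at h1
      rw [hd]
      field_simp at h1 ⊢
      linear_combination -h1
    have hsy : G₀ᵀ = d • G₀ := Matrix.ext fun i j => by
      rw [Matrix.transpose_apply, Matrix.smul_apply, smul_eq_mul, ← hGsym]
      exact (congrFun (congrFun hGσ j) i).symm
    by_cases h2 : (2 : F) = 0
    · have hd1 : d = 1 := by
        rcases mul_self_eq_one_iff.1 hdd with h | h
        · exact h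
        · rw [h]; linear_combination -h2
      rw [hd1, one_smul] at hsy
      by_cases hdiag : ∀ i, G₀ i i = 0
      · refine unitary_index2 hF (by omega) hH hle hμ hgram hGσ hGd (Or.inr ⟨?_, hdiag⟩)
        rw [hsy]
        ext i j
        rw [Matrix.neg_apply]
        linear_combination G₀ i j * h2
      · -- an invariant hyperplane
        exfalso
        push Not at hdiag
        obtain ⟨k₀, hk₀⟩ := hdiag
        haveI hchar : CharP F 2 := CharTwo.of_one_ne_zero_of_two_eq_zero one_ne_zero h2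
        choose rt hrt using fun k => FiniteField.isSquare_of_char_two (ringChar.eq F 2) (G₀ k k)
        let L : (Fin n → F) →ₗ[F] F := ∑ k, rt k • LinearMap.proj k
        have hL : ∀ v, L v * L v = v ⬝ᵥ (G₀ *ᵥ v) := by
          intro v
          have h3 : L v = ∑ k, rt k * v k := by simp [L]
          have hA : v ⬝ᵥ ((G₀ - Matrix.diagonal fun k => G₀ k k) *ᵥ v) = 0 := by
            refine (FormCongruence.quad_zero_iff _).2 ⟨fun i => by simp, fun i j => ?_⟩ v
            by_cases hij : i = j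
            · subst hij; simp
            · have := congrFun (congrFun hsy i) j
              rw [Matrix.transpose_apply] at this
              simp [hij, Ne.symm hij, this, CharTwo.add_self_eq_zero]
          rw [Matrix.sub_mulVec, dotProduct_sub, sub_eq_zero] at hA
          rw [hA, h3, CharTwo.sum_mul_self]
          simp only [dotProduct, Matrix.mulVec_diagonal]
          exact Finset.sum_congr rfl fun k _ => by rw [hrt k]; ring
        set Q : Matrix (Fin n) (Fin n) F := ((B⁻¹ : GL (Fin n) F) : Matrix (Fin n) (Fin n) F) with hQ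
        have hQB : Q * (B : Matrix (Fin n) (Fin n) F) = 1 := Units.inv_mul B
        have hinvW : Inv S ((LinearMap.ker L).map (Matrix.toLin' Q)) := by
          rintro s hs _ ⟨w, hw, rfl⟩
          set s' := ((B * s * B⁻¹ : GL (Fin n) F) : Matrix (Fin n) (Fin n) F) with hs'
          refine ⟨s' *ᵥ w, ?_, ?_⟩
          · have hw' : L w = 0 := hw
            show L (s' *ᵥ w) = 0
            apply mul_self_eq_zero.1
            rw [hL]
            obtain ⟨c, -, hcs⟩ := hsim s hs
            have hs'σ : s'.map σ = s' := Matrix.ext fun i j => by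
              have h4 : s' i j ∈ fixedField φ := hfix s hs i j
              rw [hfields] at h4
              exact h4
            have h1 := (hf.sesq.similar_iff (s : Matrix (Fin n) (Fin n) F) c).1 hcs
            rw [gram_herm hF, mul_one] at h1
            have h4 : s'ᵀ * (μ • G₀) * s' = c • (μ • G₀) := by
              conv_lhs => arg 2; rw [← hs'σ]
              have hsM : s' = (B : Matrix (Fin n) (Fin n) F) * (s : Matrix (Fin n) (Fin n) F) * Q := rfl
              rw [← hgram, hsM, Matrix.transpose_mul, Matrix.transpose_mul, map_mul_map, map_mul_map]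
              have e1 : Qᵀ * (B : Matrix (Fin n) (Fin n) F)ᵀ = 1 := by
                rw [← Matrix.transpose_mul, hQ, Units.mul_inv, Matrix.transpose_one]
              have e2 : Q.map σ * (B : Matrix (Fin n) (Fin n) F).map σ = 1 := by
                rw [← map_mul_map, hQB, map_one_mat]
              have e3 : (B : Matrix (Fin n) (Fin n) F)ᵀ * Qᵀ = 1 := by
                rw [← Matrix.transpose_mul, hQB, Matrix.transpose_one]
              calc Qᵀ * ((s : Matrix (Fin n) (Fin n) F)ᵀ * (B : Matrix (Fin n) (Fin n) F)ᵀ) * (Qᵀ * Q.map σ) *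
                    ((B : Matrix (Fin n) (Fin n) F).map σ * (s : Matrix (Fin n) (Fin n) F).map σ * Q.map σ)
                  = Qᵀ * ((s : Matrix (Fin n) (Fin n) F)ᵀ * ((B : Matrix (Fin n) (Fin n) F)ᵀ * Qᵀ) *
                    ((Q.map σ * (B : Matrix (Fin n) (Fin n) F).map σ) * (s : Matrix (Fin n) (Fin n) F).map σ)) *
                      Q.map σ := by simp only [mul_assoc]
                _ = _ := by rw [e2, e3, mul_one, one_mul, h1, Matrix.mul_smul, Matrix.smul_mul, mul_one]
            have h5 : s'ᵀ * (G₀ * s') = c • G₀ := by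
              rw [Matrix.mul_smul, Matrix.smul_mul, smul_comm c μ, mul_assoc] at h4
              exact smul_right_injective _ hμ h4
            rw [dotProduct_comm, Matrix.mulVec_mulVec, Matrix.dotProduct_mulVec, ← Matrix.mulVec_transpose,
              Matrix.mulVec_mulVec, dotProduct_comm, h5, Matrix.smul_mulVec, dotProduct_smul, ← hL, hw', mul_zero,
              smul_zero]
          · simp only [Matrix.toLin'_apply, Matrix.mulVec_mulVec, hs']
            show (((B⁻¹ : GL (Fin n) F) : Matrix (Fin n) (Fin n) F) * _) *ᵥ w = _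
            rw [show ((B⁻¹ : GL (Fin n) F) : Matrix (Fin n) (Fin n) F) * ((B * s * B⁻¹ : GL (Fin n) F) :
              Matrix (Fin n) (Fin n) F) = (s : Matrix (Fin n) (Fin n) F) * Q from by simp [hQ, mul_assoc]]
        have hQinj : Function.Injective (Matrix.toLin' Q) := by
          intro x y hxy
          rw [Matrix.toLin'_apply, Matrix.toLin'_apply] at hxy
          exact (act B⁻¹).injective (by simpa [hQ] using hxy)
        rcases hS.irred _ hinvW with h | h
        · obtain ⟨v, hv, hv0⟩ := (Submodule.ne_bot_iff _).1 (L.ker_ne_bot_of_finrank_lt (by simp; omega))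
          exact hv0 (hQinj (by rw [map_zero]; exact (Submodule.eq_bot_iff _).1 h _ ⟨v, hv, rfl⟩))
        · have h5 : L (Pi.single k₀ 1) = 0 := by
            obtain ⟨w, hw, hwe⟩ : Matrix.toLin' Q (Pi.single k₀ 1) ∈ (LinearMap.ker L).map (Matrix.toLin' Q) :=
              h ▸ Submodule.mem_top
            rw [← hQinj hwe]
            exact hw
          apply hk₀
          have h6 := hL (Pi.single k₀ 1)
          rw [h5, mul_zero] at h6
          simpa [Matrix.mulVec_single_one] using h6.symm
    · have hqo : Odd q := by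
        have h1 := odd_card_of_two_ne_zero h2
        rw [hF] at h1
        exact Nat.Odd.of_mul_left (sq q ▸ h1)
      rcases mul_self_eq_one_iff.1 hdd with h | h
      · rw [h, one_smul] at hsy
        exact unitary_index2 hF (by omega) hH hle hμ hgram hGσ hGd (Or.inl ⟨hsy, hqo⟩)
      · rw [h, neg_one_smul] at hsy
        refine unitary_index2 hF (by omega) hH hle hμ hgram hGσ hGd (Or.inr ⟨hsy, fun i => ?_⟩)
        have := congrFun (congrFun hsy i) i
        rw [Matrix.transpose_apply, Matrix.neg_apply] at this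
        exact mul_left_cancel₀ h2 (by linear_combination this)
  · -- odd index
    obtain ⟨y, hy, hy0, hyσ⟩ : ∃ y ∈ fixedField φ, y ≠ 0 ∧ d * σ y = y := by
      have hdd : d * σ d = 1 := by
        rw [hd, map_div₀, hσσ]; field_simp
      by_contra hall
      push Not at hall
      have hid : ∀ x ∈ fixedField φ, x + d * σ x = 0 := fun x hx => by
        by_contra h0
        refine hall _ (add_mem hx (mul_mem hdmem (hσpres x hx))) h0 ?_
        rw [map_add, map_mul, hσσ]
        linear_combination x * hdd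
      have hd1 : d = -1 := by
        have := hid 1 (one_mem _)
        rw [map_one, mul_one] at this
        linear_combination this
      have htriv : ∀ x ∈ fixedField φ, x ^ q = x := fun x hx => by
        have := hid x hx
        rw [hd1, hσdef, fr_apply] at this
        linear_combination -this
      obtain ⟨p, j, hpp, hpc, hj, hqp⟩ := OrthUnitaryHerm.exists_prime_pow hF
      haveI := Fact.mk hpp
      haveI : CharP (fixedField φ) p := CharP.subring F p (fixedField φ).toSubring
      obtain ⟨e₀, -, he₀⟩ := FiniteField.card (fixedField φ) p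
      have hexp : 2 * j = e₀ * r := by
        apply Nat.pow_right_injective hpp.two_le
        show p ^ (2 * j) = p ^ ((e₀ : ℕ) * r)
        rw [pow_mul', ← hqp, ← hF, hcard, Nat.card_eq_fintype_card, he₀, ← pow_mul]
      obtain ⟨c, hc⟩ : 2 ∣ (e₀ : ℕ) := ((Nat.Coprime.dvd_mul_right
        (Nat.coprime_two_left.2 hro)).1 (hexp ▸ dvd_mul_right 2 j))
      obtain ⟨s, hs⟩ := hro
      have hq' : q = (p ^ (e₀ : ℕ)) ^ s * p ^ c := by
        rw [hqp, ← pow_mul, ← pow_add]
        congr 1
        have : 2 * j = 2 * ((e₀ : ℕ) * s + c) := by rw [hexp, hs, hc]; ring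
        omega
      obtain ⟨u, hu⟩ := IsCyclic.exists_ofOrder_eq_natCard (α := (fixedField φ)ˣ)
      rw [Nat.card_units, Nat.card_eq_fintype_card, he₀] at hu
      have hu1 : u ^ (p ^ c - 1) = 1 := by
        have h1 : ((u : fixedField φ)) ^ q = (u : fixedField φ) := Subtype.ext (by
          rw [SubmonoidClass.coe_pow]; exact htriv _ (u : fixedField φ).2)
        have h2 : ∀ s : ℕ, (u : fixedField φ) ^ ((p ^ (e₀ : ℕ)) ^ s) = (u : fixedField φ) := by
          intro s
          induction s with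
          | zero => simp
          | succ s ih => rw [pow_succ, pow_mul, ih, ← he₀, FiniteField.pow_card]
        rw [hq', pow_mul, h2] at h1
        have hpos : 1 ≤ p ^ c := Nat.one_le_pow _ _ hpp.pos
        apply Units.ext
        apply mul_right_cancel₀ u.ne_zero
        rw [Units.val_pow_eq_pow_val, ← pow_succ, Nat.sub_add_cancel hpos, h1, Units.val_one, one_mul]
      have hdvd := orderOf_dvd_of_pow_eq_one hu1
      rw [hu] at hdvd
      have hcpos : 0 < c := by have := e₀.pos; omega
      have hlt : p ^ c < p ^ (e₀ : ℕ) := Nat.pow_lt_pow_right hpp.one_lt (by omega)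
      have h3 : 1 < p ^ c := Nat.one_lt_pow hcpos.ne' hpp.one_lt
      exact absurd (Nat.le_of_dvd (by omega) hdvd) (by omega)
    set ν := μ / y with hν
    have hνfix : ν ^ q = ν := by
      rw [← fr_apply hF, ← hσdef, hν, map_div₀, eq_comm]
      have hy' : σ y = y / d := by
        rw [eq_div_iff (left_ne_zero_of_mul (hyσ.symm ▸ hy0 : d * σ y ≠ 0)), mul_comm, hyσ]
      rw [hy', hd]
      field_simp
    obtain ⟨l, hl⟩ := OrthUnitaryHerm.exists_norm_eq hF (a := ν⁻¹) (by rw [inv_pow, hνfix])
    have hl0 : l ≠ 0 := by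
      rintro rfl
      rw [zero_pow (Nat.succ_ne_zero q)] at hl
      exact inv_ne_zero (div_ne_zero hμ hy0) hl.symm
    let z : GL (Fin n) F := Units.map (Matrix.scalar (Fin n) : F →+* Matrix (Fin n) (Fin n) F).toMonoidHom
      (Units.mk0 l hl0)
    have hz : z ∈ scalars (Fin n) F := ⟨_, rfl⟩
    refine ⟨_, Or.inl (Or.inr (Or.inr (Or.inr (Or.inr (Or.inl
      ⟨fixedField φ, r, B⁻¹ * z, hr, hro, hcard, rational_of_gram hf.sesq hσpres fun i j => ?_, rfl⟩))))),
      le_inf (hle.trans (subfield_rescale _ _ hz)) hH⟩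
    rw [gram_herm hF, mul_one, one_mul, show ((B⁻¹ * z : GL (Fin n) F) : Matrix (Fin n) (Fin n) F) =
      l • ((B⁻¹ : GL (Fin n) F) : Matrix (Fin n) (Fin n) F) by
        rw [Units.val_mul, show (z : Matrix (Fin n) (Fin n) F) = l • 1 by
          simp [z, Matrix.scalar_apply, Matrix.smul_one_eq_diagonal], Matrix.mul_smul, mul_one],
      Matrix.transpose_smul, map_smul_mat, Matrix.smul_mul, Matrix.mul_smul, hgram, smul_smul, smul_smul,
      Matrix.smul_apply, smul_eq_mul]
    refine mul_mem ?_ (hG0 i j)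
    rw [show l * σ l * μ = y * (l ^ (q + 1) * ν) by rw [hσdef, fr_apply, hν]; field_simp; ring, hl,
      inv_mul_cancel₀ (div_ne_zero hμ hy0), mul_one]
    exact hy

end Unitary

/-- a group of symplectic similitudes defined over a subfield lies in a member of class five -/
theorem symplectic_subfield {m : ℕ} (hm : 1 ≤ m) {H S : Subgroup (GL (Fin m ⊕ Fin m) F)} {ε : F}
    (hf : FormData (RingEquiv.refl F) ε (sympForm m F)) (hH : H ≤ spGL m F) (hS : AbsIrred S)
    (hSn : NormalBy H S) {φ : F ≃+* F} {r : ℕ} (hr : r.Prime)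
    (hcard : Fintype.card F = Nat.card (fixedField φ) ^ r) {B : GL (Fin m ⊕ Fin m) F}
    (hfix : ∀ s ∈ S, ∀ i j, φ (((B * s * B⁻¹ : GL (Fin m ⊕ Fin m) F) : Matrix (Fin m ⊕ Fin m) (Fin m ⊕ Fin m) F) i j) =
      ((B * s * B⁻¹ : GL (Fin m ⊕ Fin m) F) : Matrix (Fin m ⊕ Fin m) (Fin m ⊕ Fin m) F) i j)
    (hsim : ∀ s ∈ S, ∃ c : F, φ c = c ∧ ∀ u v, sympForm m F ((s : Matrix (Fin m ⊕ Fin m) (Fin m ⊕ Fin m) F) *ᵥ u)
      ((s : Matrix (Fin m ⊕ Fin m) (Fin m ⊕ Fin m) F) *ᵥ v) = c * sympForm m F u v) :
    ∃ M, SympFine m F M ∧ H ≤ M := by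
  haveI : Nonempty (Fin m ⊕ Fin m) := ⟨.inl ⟨0, hm⟩⟩
  obtain ⟨μ, G₀, hμ, hgram, hGfix, -, -⟩ := scaled_rational (σ := RingEquiv.refl F) (φ := φ) (fun x => rfl) hf hS hfix hsim
  refine ⟨_, Or.inl (Or.inr (Or.inr (Or.inr (Or.inr (Or.inl ⟨fixedField φ, r, B⁻¹, μ⁻¹, hr, hcard, inv_ne_zero hμ,
    rational_of_gram hf.sesq (fun x hx => hx) fun i j => ?_, rfl⟩))))), le_inf (le_subfieldSubgroup hS hSn hfix) hH⟩
  rw [hgram, Matrix.smul_apply, smul_eq_mul, inv_mul_cancel_left₀ hμ]
  exact congrFun (congrFun hGfix i) j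

end Cfsg.Agent.AschFormSub
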