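/-
Aschbacher's theorem with a form: the symplectic groups.
-/
import Cfsg.Agent.Lib.AschFormMinus
import Cfsg.Agent.Lib.AschFormPower
import Cfsg.Agent.Lib.AschFormQuad
import Cfsg.Agent.Lib.AschFormSub
import Cfsg.Agent.Lib.AschFormTwist
import Cfsg.Agent.Lib.AschFormCore
import Cfsg.Agent.Lib.TransvectionMax

set_option autoImplicit false
set_option linter.unusedSectionVars false

namespace Cfsg.Agent.AschFormSymp

open scoped Matrix Kronecker commutatorElement
open Cfsg Cfsg.Geo Cfsg.Agent.AschPrimeBasic Cfsg.Agent.AschPrimeForms Cfsg.Agent.AschPrimeCore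
  Cfsg.Agent.AschGenAlgebra Cfsg.Agent.AschGenTensor Cfsg.Agent.AschGenExtra Cfsg.Agent.AschFormBasic
  Cfsg.Agent.AschFormTensor Cfsg.Agent.AschFormAlg Cfsg.Agent.AschFormCore Cfsg.Agent.AschFormWreath
  Cfsg.Agent.AschFormStruct Cfsg.Agent.AschFormMono Cfsg.Agent.AschFine

variable {m : ℕ} {F : Type*} [Field F] [Fintype F]

/-- the index set -/
abbrev Ix (m : ℕ) := Fin m ⊕ Fin m

lemma symp_formData : FormData (RingEquiv.refl F) (-1) (sympForm m F) := by
  have h := TransvectionMax.sympForm_isSymplecticForm (F := F) m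
  exact ⟨sesq_of_bilinear h.bilinear, fun _ => rfl, by simp, h.nondegenerate,
    fun v w => by rw [RingEquiv.refl_apply, neg_one_mul]; exact h.skew v w⟩

lemma symp_alt (v : Ix m → F) : sympForm m F v v = 0 :=
  (TransvectionMax.sympForm_isSymplecticForm (F := F) m).alternating v

lemma gram_diag {ε : F} {f : (Ix m → F) → (Ix m → F) → F} (hf : FormData (RingEquiv.refl F) ε f)
    (halt : ∀ v, f v v = 0) {κ : Type} [Fintype κ] [DecidableEq κ] (e : Ix m ≃ κ) (P : GL (Ix m) F) (a : κ) :
    gramP (RingEquiv.refl F) f e P a a = 0 := by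
  have h := form_coords hf e P (Pi.single a 1) (Pi.single a 1)
  rw [halt] at h
  rw [h]
  simp [formOfGram_dot, Matrix.mulVec_single_one]

/-- a group fixing a quadratic form polarising to the form is in class eight -/
lemma quad_class (h2 : (2 : F) = 0) {H : Subgroup (GL (Ix m) F)} (hH : H ≤ spGL m F)
    (hQ : AschFormQuad.QuadOutcome (sympForm m F) H) : ∃ M, SympFine m F M ∧ H ≤ M := by
  obtain ⟨Q, hQ, hpol, hfix⟩ := hQ
  refine ⟨_, Or.inl (Or.inr (Or.inr (Or.inr (Or.inr (Or.inr (Or.inr ⟨Q, ?_, hQ, hpol, rfl⟩)))))),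
    le_inf (fun h hh => ⟨1, fun v => by rw [Units.val_one, one_mul]; exact hfix h hh v⟩) hH⟩
  intro ho
  have h1 := Nat.cast_card_eq_zero F
  obtain ⟨j, hj⟩ := ho
  rw [hj] at h1
  push_cast at h1
  rw [h2, zero_mul, zero_add] at h1
  exact one_ne_zero h1

/-- a normal class-2 group gives class five or six -/
theorem extra_symp (hm : 1 ≤ m) {H N : Subgroup (GL (Ix m) F)} (hH : H ≤ spGL m F)
    (hcs : CommSimple (RingEquiv.refl F) (sympForm m F) H) (hNle : N ≤ H) (hn : NormalBy H N) (hN : AbsIrred N)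
    (hc : Class2 N) : ∃ M, SympFine m F M ∧ H ≤ M ∧ ((Fintype.card F).Prime →
      ∃ (R : Subgroup (GL (Ix m) F)) (p k : ℕ), IsSymplecticTypeGroup 2 R ∧
        ActsAbsolutelyIrreducibly (matrixSet R) ∧ R ≤ similarityGroup (sympForm m F) ∧ p.Prime ∧ Odd p ∧
        Fintype.card F = p ∧ Nat.card R = 2 ^ (1 + 2 * k) ∧ Nat.card (Subgroup.center R) = 2 ∧ IsOfMinusType k R ∧
        Class2 R ∧ 2 * m = 2 ^ k ∧ M = subgroupNormalizer R ⊓ spGL m F) := by
  classical
  haveI : Nonempty (Ix m) := ⟨.inl ⟨0, hm⟩⟩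
  have hf := symp_formData (m := m) (F := F)
  have hI : Isos H (sympForm m F) := fun g hg => hH hg
  have hsq : ∀ g ∈ H, ∀ c : F, (g : Matrix (Ix m) (Ix m) F) = c • 1 → c * c = 1 := by
    intro g hg c hgc
    have h1 := iso_gram hf (hI g hg)
    rw [hgc, Matrix.transpose_smul, Matrix.transpose_one, map_smul_mat, map_one_mat, Matrix.smul_mul, one_mul,
      Matrix.mul_smul, mul_one, smul_smul, RingEquiv.refl_apply] at h1
    by_contra hne
    have h3 : (c * c - 1) • gramMatrix (sympForm m F) = 0 := by rw [sub_smul, one_smul, h1, sub_self]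
    rcases smul_eq_zero.1 h3 with h | h
    · exact hne (sub_eq_zero.1 h)
    · exact hf.det.ne_zero (by rw [h]; exact Matrix.det_zero)
  have hcardι : Fintype.card (Ix m) = 2 * m := by simp; omega
  have hQ := card_quot hN hc
  have hns : ¬ N ≤ scalars (Ix m) F := fun h => by
    have h1 : Subsingleton (N ⧸ (scalars (Ix m) F).subgroupOf N) := ⟨fun a b => by
      obtain ⟨a, rfl⟩ := QuotientGroup.mk_surjective a
      obtain ⟨b, rfl⟩ := QuotientGroup.mk_surjective b
      exact QuotientGroup.eq.2 (Subgroup.mem_subgroupOf.2 (h (a⁻¹ * b).2))⟩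
    rw [Nat.card_of_subsingleton (1 : N ⧸ (scalars (Ix m) F).subgroupOf N), hcardι] at hQ
    nlinarith
  obtain ⟨x₀, hx₀, hx₀s⟩ := SetLike.not_le_iff_exists.1 hns
  obtain ⟨y₀, hy₀, hne⟩ := commutator_ne hN hx₀s
  set ζ := ⁅y₀, x₀⁆ with hζ
  have hζN : ζ ∈ N := by
    rw [hζ, commutatorElement_def]
    exact N.mul_mem (N.mul_mem (N.mul_mem hy₀ hx₀) (N.inv_mem hy₀)) (N.inv_mem hx₀)
  obtain ⟨c₀, hc₀⟩ := (mem_scalars_iff _).1 (hc y₀ hy₀ x₀ hx₀)
  have hc₀1 : (c₀ : F) = -1 := by
    rcases mul_self_eq_one_iff.1 (hsq ζ (hNle hζN) _ hc₀) with h | h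
    · exact absurd (Units.ext (by rw [hc₀, h, one_smul, Units.val_one])) hne
    · exact h
  have h2 : (2 : F) ≠ 0 := fun h => hne (Units.ext (by
    rw [hc₀, hc₀1, show (-1 : F) = 1 by linear_combination -h, one_smul, Units.val_one]))
  -- scalars of `N`
  have hscal : ∀ x ∈ N, x ∈ scalars (Ix m) F → x = 1 ∨ x = ζ := by
    intro x hx hs
    obtain ⟨c, hxc⟩ := (mem_scalars_iff _).1 hs
    rcases mul_self_eq_one_iff.1 (hsq x (hNle hx) _ hxc) with h | h
    · exact Or.inl (Units.ext (by rw [hxc, h, one_smul, Units.val_one]))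
    · exact Or.inr (Units.ext (by rw [hxc, h, hc₀, hc₀1]))
  have hcr : ∀ x ∈ N, ∀ y ∈ N, ⁅x, y⁆ * ⁅x, y⁆ = 1 := by
    intro x hx y hy
    obtain ⟨c, hxc⟩ := (mem_scalars_iff _).1 (hc x hx y hy)
    refine Units.ext ?_
    rw [Units.val_mul, hxc, Matrix.smul_mul, one_mul, smul_smul, hsq _ (hNle ?_) _ hxc, one_smul, Units.val_one]
    rw [commutatorElement_def]
    exact N.mul_mem (N.mul_mem (N.mul_mem hx hy) (N.inv_mem hx)) (N.inv_mem hy)
  have hpow : ∀ x ∈ N, x * x ∈ scalars (Ix m) F := fun x hx => hN.scalar_of_comm fun y hy => by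
    have hcy := hc y hy x hx
    have h1 : y * x * y⁻¹ = ⁅y, x⁆ * x := by rw [commutatorElement_def]; group
    have h3 : y * (x * x) * y⁻¹ = x * x := by
      calc y * (x * x) * y⁻¹ = (y * x * y⁻¹) * (y * x * y⁻¹) := by group
        _ = ⁅y, x⁆ * (x * ⁅y, x⁆) * x := by rw [h1]; group
        _ = (⁅y, x⁆ * ⁅y, x⁆) * (x * x) := by rw [← scalar_comm hcy x]; simp only [mul_assoc]
        _ = x * x := by rw [hcr y hy x hx, one_mul]
    rw [mul_inv_eq_iff_eq_mul] at h3
    exact h3.symm
  have hp4 : ∀ x ∈ N, x ^ 4 = 1 := by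
    intro x hx
    have hm2 := N.mul_mem hx hx
    rw [show x ^ 4 = (x * x) * (x * x) by rw [← mul_assoc, pow_succ, pow_succ, pow_two]]
    obtain ⟨c, hxc⟩ := (mem_scalars_iff _).1 (hpow x hx)
    exact Units.ext (by
      rw [Units.val_mul, hxc, Matrix.smul_mul, one_mul, smul_smul, hsq _ (hNle hm2) _ hxc, one_smul, Units.val_one])
  have hord : orderOf ζ = 2 := orderOf_eq_prime (by
    rw [pow_two]; exact hcr y₀ hy₀ x₀ hx₀) hne
  have hZ : (scalars (Ix m) F).subgroupOf N = (Subgroup.zpowers ζ).subgroupOf N := by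
    ext x
    simp only [Subgroup.mem_subgroupOf]
    refine ⟨fun h => ?_, fun h => ?_⟩
    · rcases hscal _ x.2 h with h' | h' <;> rw [h']
      · exact Subgroup.one_mem _
      · exact Subgroup.mem_zpowers ζ
    · exact (Subgroup.zpowers_le.2 (hc y₀ hy₀ x₀ hx₀)) h
  have hZcard : Nat.card ((scalars (Ix m) F).subgroupOf N) = 2 := by
    rw [hZ, Nat.card_congr (Subgroup.subgroupOfEquivOfLe (Subgroup.zpowers_le.2 hζN)).toEquiv, Nat.card_zpowers, hord]
  have hcard : Nat.card N = 2 * (Fintype.card (Ix m) * Fintype.card (Ix m)) := by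
    rw [Subgroup.card_eq_card_quotient_mul_card_subgroup ((scalars (Ix m) F).subgroupOf N), hQ, hZcard, mul_comm]
  have hpg : IsPGroup 2 N := fun x => ⟨2, Subtype.ext (by simpa using hp4 _ x.2)⟩
  obtain ⟨k, hk⟩ : ∃ k, Fintype.card (Ix m) = 2 ^ k := by
    obtain ⟨a, ha⟩ := IsPGroup.iff_card.1 hpg
    rw [hcard] at ha
    obtain ⟨k, -, hk⟩ := (Nat.dvd_prime_pow Nat.prime_two).1
      (ha ▸ Dvd.intro_left (2 * Fintype.card (Ix m)) (by ring) : Fintype.card (Ix m) ∣ 2 ^ a)
    exact ⟨k, hk⟩
  have hcenter : Subgroup.center N = (scalars (Ix m) F).subgroupOf N := by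
    ext x
    rw [Subgroup.mem_center_iff, Subgroup.mem_subgroupOf]
    exact ⟨fun hx => hN.scalar_of_comm fun s hs => congrArg Subtype.val (hx ⟨s, hs⟩).symm,
      fun hx y => Subtype.ext (scalar_comm hx _).symm⟩
  have hexp : Monoid.exponent N = 4 := by
    have h4 : Monoid.exponent N ∣ 4 := Monoid.exponent_dvd_of_forall_pow_eq_one fun x => Subtype.ext (by
      simpa using hp4 _ x.2)
    obtain ⟨j, hj, he⟩ := (Nat.dvd_prime_pow Nat.prime_two).1 (show Monoid.exponent N ∣ 2 ^ 2 from h4)
    rcases Nat.lt_or_ge j 2 with hj2 | hj2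
    · exfalso
      have hsqr : ∀ x ∈ N, x * x = 1 := fun x hx => by
        have h1 : (⟨x, hx⟩ : N) ^ 2 = 1 := orderOf_dvd_iff_pow_eq_one.1
          ((Monoid.order_dvd_exponent _).trans (he ▸ pow_dvd_pow 2 (by omega : j ≤ 1)))
        simpa [pow_two] using congrArg Subtype.val h1
      have hi : ∀ x ∈ N, x⁻¹ = x := fun x hx => inv_eq_of_mul_eq_one_right (hsqr x hx)
      apply hne
      rw [hζ, commutatorElement_def, hi _ hy₀, hi _ hx₀, mul_assoc (y₀ * x₀)]
      exact hsqr _ (N.mul_mem hy₀ hx₀)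
    · rw [he, show j = 2 by omega]; rfl
  have hsymp : IsSymplecticTypeGroup 2 N := by
    refine ⟨Nat.prime_two, hpg, fun A hA hAc => ?_, hexp.trans (by norm_num)⟩
    set A' : Subgroup (GL (Ix m) F) := A.map N.subtype with hA'
    have hA'n : NormalBy H A' := by
      rintro a ha _ ⟨x, hx, rfl⟩
      let φ : N ≃* N :=
        { toFun := fun r => ⟨a * r * a⁻¹, hn a ha _ r.2⟩
          invFun := fun r => ⟨a⁻¹ * r * a, by simpa using hn a⁻¹ (H.inv_mem ha) _ r.2⟩
          left_inv := fun r => Subtype.ext (by simp [mul_assoc])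
          right_inv := fun r => Subtype.ext (by simp [mul_assoc])
          map_mul' := fun r s => Subtype.ext (by simp [mul_assoc]) }
      exact ⟨φ x, (hA.fixed φ).ge hx, rfl⟩
    have hsc : A' ≤ scalars (Ix m) F := by
      refine AschFormExtra.scalar_of_commSimple hf hI hcs hA'n
        (((Subgroup.map_subtype_le A).trans hNle).trans le_sup_left) ?_
      rintro _ ⟨a, ha, rfl⟩ _ ⟨b, hb, rfl⟩
      exact congrArg (fun z : A => ((z : N) : GL (Ix m) F)) (hAc.is_comm.comm ⟨a, ha⟩ ⟨b, hb⟩)
    have := isCyclic_of_le_scalars hsc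
    exact isCyclic_of_surjective (A.equivMapOfInjective N.subtype (Subgroup.subtype_injective N)).symm
      (MulEquiv.surjective _)
  by_cases hpr : (Fintype.card F).Prime
  · have hsim : N ≤ similarityGroup (sympForm m F) :=
      fun g hg => ⟨1, fun u v => by rw [Units.val_one, one_mul]; exact hH (hNle hg) u v⟩
    have hc1 : Nat.card N = 2 ^ (1 + 2 * k) := by rw [hcard, hk]; ring
    have hc2 : Nat.card (Subgroup.center N) = 2 := by rw [hcenter, hZcard]
    have hmin := AschFormMinus.minus_type h2 hf symp_alt (fun g hg => hI g (hNle hg)) hN hk hcard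
    have h2m : 2 * m = 2 ^ k := by rw [← hcardι, hk]
    refine ⟨subgroupNormalizer N ⊓ spGL m F, Or.inl (Or.inr (Or.inr (Or.inr (Or.inr (Or.inr (Or.inl
      ⟨N, Fintype.card F, k, hsymp, hN, hsim, hpr, odd_card_of_two_ne_zero h2, rfl, hc1, hc2, hmin, hc, h2m,
        rfl⟩)))))), le_inf (fun h hh => ?_) hH,
      fun _ => ⟨N, Fintype.card F, k, hsymp, hN, hsim, hpr, odd_card_of_two_ne_zero h2, rfl, hc1, hc2, hmin, hc, h2m, rfl⟩⟩
    refine Subgroup.mem_normalizer_iff.2 fun x => ⟨hn h hh x, fun hx => ?_⟩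
    simpa [mul_assoc] using hn h⁻¹ (H.inv_mem hh) _ hx
  · obtain ⟨p, hp'⟩ := CharP.exists F
    obtain ⟨e, hpp, he⟩ := FiniteField.card F p
    haveI := Fact.mk hpp
    have he1 : (1 : ℕ) < e := by
      rcases Nat.lt_or_ge 1 (e : ℕ) with h | h
      · exact h
      · exfalso
        have := e.pos
        rw [show (e : ℕ) = 1 by omega, pow_one] at he
        exact hpr (he ▸ hpp)
    obtain ⟨φ, r, hr, hcardφ, -⟩ := exists_maximal_subfield (F := F) (d := 1) he (one_dvd _) he1
    obtain ⟨B, hB⟩ := AschFormExtra.realisable_of_fixed hN hc φ fun z hz c hzc => by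
      rcases mul_self_eq_one_iff.1 (hsq z (hNle hz) c hzc) with h | h <;> simp [h]
    obtain ⟨M, hM, hle⟩ := AschFormSub.symplectic_subfield hm hf hH hN hn hr hcardφ hB
      fun s hs => ⟨1, map_one φ, fun u v => by rw [one_mul]; exact hH (hNle hs) u v⟩
    exact ⟨M, hM, hle, fun h => absurd h hpr⟩

/-- a symmetric two-dimensional factor is incompatible with trivial commutative algebras -/
lemma no_sym_plane (h2 : (2 : F) ≠ 0) {H : Subgroup (GL (Ix m) F)} (hI : Isos H (sympForm m F))
    (hcs : CommSimple (RingEquiv.refl F) (sympForm m F) H) {k : ℕ} {e : Ix m ≃ Fin k × Fin 2} {P : GL (Ix m) F}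
    {G₁ : Matrix (Fin k) (Fin k) F} {G₂ : Matrix (Fin 2) (Fin 2) F} {a b : F}
    (hd : TensorData (RingEquiv.refl F) (-1) (sympForm m F) H k 2 e P G₁ G₂ a b) (hs : G₂ᵀ = G₂) : False := by
  classical
  have hf := symp_formData (m := m) (F := F)
  set ω := G₂⁻¹ * planeJ with hω
  have hGω : G₂ * ω = planeJ := by rw [hω, Matrix.mul_nonsing_inv_cancel_left _ _ hd.det₂]
  set Ω := (P : Matrix (Ix m) (Ix m) F) * pull e ((1 : Matrix (Fin k) (Fin k) F) ⊗ₖ ω) *
    ((P⁻¹ : GL (Ix m) F) : Matrix (Ix m) (Ix m) F) with hΩ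
  have hconj : ∀ h ∈ H, ∃ d : F, conjAlg h Ω = d • Ω := by
    intro h hh
    obtain ⟨A, B, c, hc, hval, -, hB⟩ := hd.elem hf hI hh
    have hB' : (B : Matrix (Fin 2) (Fin 2) F)ᵀ * G₂ * (B : Matrix (Fin 2) (Fin 2) F) = c⁻¹ • G₂ := hB
    have hdet : (B : Matrix (Fin 2) (Fin 2) F).det ≠ 0 := (Matrix.isUnits_det_units B).ne_zero
    refine ⟨c⁻¹ / (B : Matrix (Fin 2) (Fin 2) F).det, ?_⟩
    have hBω : (B : Matrix (Fin 2) (Fin 2) F) * ω = (c⁻¹ / (B : Matrix (Fin 2) (Fin 2) F).det) •
        (ω * (B : Matrix (Fin 2) (Fin 2) F)) := by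
      have hu : IsUnit ((B : Matrix (Fin 2) (Fin 2) F)ᵀ * G₂).det := by
        rw [Matrix.det_mul, Matrix.det_transpose]
        exact (Matrix.isUnits_det_units B).mul hd.det₂
      have h1 : ((B : Matrix (Fin 2) (Fin 2) F)ᵀ * G₂) * ((B : Matrix (Fin 2) (Fin 2) F) * ω) =
          ((B : Matrix (Fin 2) (Fin 2) F)ᵀ * G₂) * ((c⁻¹ / (B : Matrix (Fin 2) (Fin 2) F).det) •
            (ω * (B : Matrix (Fin 2) (Fin 2) F))) := by
        rw [Matrix.mul_smul, ← mul_assoc, hB', Matrix.smul_mul, hGω, ← mul_assoc,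
          mul_assoc _ G₂ ω, hGω, planeJ_transform, smul_smul, div_mul_cancel₀ _ hdet]
      have h3 := congrArg (((B : Matrix (Fin 2) (Fin 2) F)ᵀ * G₂)⁻¹ * ·) h1
      simpa only [Matrix.nonsing_inv_mul_cancel_left _ _ hu] using h3
    have hhΩ : (h : Matrix (Ix m) (Ix m) F) * Ω = (c⁻¹ / (B : Matrix (Fin 2) (Fin 2) F).det) • (Ω * (h : Matrix (Ix m) (Ix m) F)) := by
      rw [hval, hΩ]
      simp only [mul_assoc, Units.inv_mul_cancel_left]
      simp only [← mul_assoc (pull e _) (pull e _), ← map_mul, ← Matrix.mul_kronecker_mul, mul_one, one_mul, hBω,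
        Matrix.kronecker_smul, map_smul, Matrix.smul_mul, Matrix.mul_smul]
    rw [conjAlg_apply, hhΩ, Matrix.smul_mul, mul_assoc, Units.mul_inv, mul_one]
  have hadj : adj (RingEquiv.refl F) (gramMatrix (sympForm m F)) Ω = -Ω := by
    set M := gramMatrix (sympForm m F) with hM
    have hωT : ωᵀ * G₂ = -planeJ := by
      have hJ : (planeJ : Matrix (Fin 2) (Fin 2) F)ᵀ = -planeJ := by
        ext i j; fin_cases i <;> fin_cases j <;> simp [planeJ]
      have := congrArg Matrix.transpose hGω
      rwa [Matrix.transpose_mul, hs, hJ] at this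
    have key : Ωᵀ * M = M * (-Ω) := by
      have hgr : gramP (RingEquiv.refl F) (sympForm m F) e P = G₁ ⊗ₖ G₂ := hd.gram
      have h1 : ((1 : Matrix (Fin k) (Fin k) F) ⊗ₖ ω)ᵀ * (G₁ ⊗ₖ G₂) =
          (G₁ ⊗ₖ G₂) * ((-1 : F) • ((1 : Matrix (Fin k) (Fin k) F) ⊗ₖ ω)) := by
        rw [← Matrix.kroneckerMap_transpose, ← Matrix.mul_kronecker_mul, Matrix.mul_smul, ← Matrix.mul_kronecker_mul,
          hωT, hGω, Matrix.transpose_one, one_mul, mul_one, ← Matrix.kronecker_smul, neg_one_smul]
      have h3 := congrArg (pull (F := F) e) h1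
      have h4 := pull_gramP (RingEquiv.refl F) (sympForm m F) e P
      rw [hgr] at h4
      rw [map_mul, map_mul, ← pull_transpose, map_smul, h4] at h3
      have hid : (P : Matrix (Ix m) (Ix m) F).map (RingEquiv.refl F) = (P : Matrix (Ix m) (Ix m) F) := rfl
      rw [hid, ← hM] at h3
      have hP : ((P⁻¹ : GL (Ix m) F) : Matrix (Ix m) (Ix m) F)ᵀ * (P : Matrix (Ix m) (Ix m) F)ᵀ = 1 := by
        rw [← Matrix.transpose_mul, Units.mul_inv, Matrix.transpose_one]
      have h5 := congrArg (fun X => ((P⁻¹ : GL (Ix m) F) : Matrix (Ix m) (Ix m) F)ᵀ * X *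
        ((P⁻¹ : GL (Ix m) F) : Matrix (Ix m) (Ix m) F)) h3
      simp only [mul_assoc, neg_one_smul, Matrix.mul_neg, Matrix.neg_mul, Units.mul_inv, mul_one] at h5
      simp only [← mul_assoc ((((P⁻¹ : GL (Ix m) F) : Matrix (Ix m) (Ix m) F))ᵀ) ((P : Matrix (Ix m) (Ix m) F)ᵀ), hP,
        one_mul] at h5
      rw [hΩ, Matrix.transpose_mul, Matrix.transpose_mul]
      simp only [mul_assoc, Matrix.mul_neg]
      exact h5
    show (M⁻¹ * Ωᵀ * M).map (RingEquiv.refl F) = -Ω
    rw [mul_assoc, key, Matrix.nonsing_inv_mul_cancel_left _ _ hf.det]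
    rfl
  set C := Algebra.adjoin F ({Ω} : Set (Matrix (Ix m) (Ix m) F)) with hC
  have hΩC : Ω ∈ C := Algebra.subset_adjoin rfl
  have hn : AlgNorm H C := by
    intro h hh c hc
    have h1 : C.map (conjAlg h).toAlgHom ≤ C := by
      rw [hC, AlgHom.map_adjoin]
      refine Algebra.adjoin_le ?_
      rintro _ ⟨_, rfl, rfl⟩
      obtain ⟨d, hd'⟩ := hconj h hh
      show conjAlg h Ω ∈ _
      rw [hd']
      exact Subalgebra.smul_mem _ hΩC d
    exact h1 ⟨c, hc, rfl⟩
  have hst : StarClosed (RingEquiv.refl F) (gramMatrix (sympForm m F)) C := by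
    refine StarClosed.adjoin hf ?_
    rintro _ rfl
    rw [hadj]
    exact neg_mem hΩC
  have hcomm : ∀ x ∈ C, ∀ y ∈ C, x * y = y * x := fun x hx y hy =>
    Algebra.commute_of_mem_adjoin_of_forall_mem_commute hy fun b hb => by
      rw [Set.mem_singleton_iff.1 hb]
      exact (Algebra.commute_of_mem_adjoin_of_forall_mem_commute hx fun b hb => by
        rw [Set.mem_singleton_iff.1 hb]; exact Commute.refl _).symm
  obtain ⟨r, hr⟩ := Algebra.mem_bot.1 (hcs C hn hst hcomm ▸ hΩC)
  rw [Algebra.algebraMap_eq_smul_one] at hr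
  have h5 : (1 : Matrix (Fin k) (Fin k) F) ⊗ₖ ω = r • 1 := by
    apply pull_injective (F := F) e
    have h6 := congrArg (fun X => ((P⁻¹ : GL (Ix m) F) : Matrix (Ix m) (Ix m) F) * X * (P : Matrix (Ix m) (Ix m) F)) hr
    simp only [hΩ, mul_assoc, Units.inv_mul_cancel_left, Units.inv_mul, mul_one, Matrix.smul_mul, Matrix.mul_smul,
      one_mul] at h6
    rw [map_smul, map_one, h6]
  let i₀ : Fin k := ⟨0, by have := hd.two_le₁; omega⟩
  have hωr : ω = r • 1 := by
    ext i j
    have := congrFun (congrFun h5 (i₀, i)) (i₀, j)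
    simpa [Matrix.one_apply] using this
  have h7 : r • G₂ = planeJ := by rw [← hGω, hωr, Matrix.mul_smul, mul_one]
  have h8 := congrFun (congrFun h7 0) 1
  have h9 := congrFun (congrFun h7 1) 0
  have h10 : G₂ 1 0 = G₂ 0 1 := by
    have := congrFun (congrFun hs 0) 1
    rwa [Matrix.transpose_apply] at this
  simp [planeJ, h10] at h8 h9
  exact h2 (by linear_combination h9 - h8)

/-- the quaternion group inside `SL₂(3)` -/
lemma exists_quaternion (h3 : Fintype.card F = 3) : ∃ Q : Subgroup (GL (Fin 2) F),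
    (∀ a ∈ Q, (a : Matrix (Fin 2) (Fin 2) F).det = 1) ∧ Class2 Q ∧ Algebra.adjoin F (matrixSet Q) = ⊤ ∧
    ∀ g : GL (Fin 2) F, ∀ a ∈ Q, g * a * g⁻¹ ∈ Q := by
  classical
  have key : ∀ x y z x' y' z' : ZMod 3, x * x + y * z = -1 → x' * x' + y' * z' = -1 →
      2 * (x * x') + y * z' + z * y' = 0 ∨ (x' = x ∧ y' = y ∧ z' = z) ∨ (x' = -x ∧ y' = -y ∧ z' = -z) := by
    decide
  haveI : Fact (Nat.Prime 3) := ⟨Nat.prime_three⟩
  haveI : CharP F 3 := charP_of_card_eq_prime h3
  let ψ : ZMod 3 ≃+* F := ZMod.ringEquiv F h3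
  let Good : Matrix (Fin 2) (Fin 2) F → Prop := fun A =>
    A.det = 1 ∧ (A 0 0 + A 1 1 = 0 ∨ ∃ c : F, A = c • 1)
  have hkey : ∀ A B : Matrix (Fin 2) (Fin 2) F, A.det = 1 → B.det = 1 → A 0 0 + A 1 1 = 0 → B 0 0 + B 1 1 = 0 →
      (A * B) 0 0 + (A * B) 1 1 = 0 ∨ B = A ∨ B = -A := by
    intro A B hA hB hA0 hB0
    rw [Matrix.det_fin_two] at hA hB
    have ea : A 1 1 = -A 0 0 := by linear_combination hA0
    have eb : B 1 1 = -B 0 0 := by linear_combination hB0
    rcases key (ψ.symm (A 0 0)) (ψ.symm (A 0 1)) (ψ.symm (A 1 0)) (ψ.symm (B 0 0)) (ψ.symm (B 0 1)) (ψ.symm (B 1 0))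
      (by apply ψ.injective; simp only [map_add, map_mul, RingEquiv.apply_symm_apply, map_neg, map_one]
          rw [ea] at hA; linear_combination -hA)
      (by apply ψ.injective; simp only [map_add, map_mul, RingEquiv.apply_symm_apply, map_neg, map_one]
          rw [eb] at hB; linear_combination -hB) with h | ⟨e1, e2, e3⟩ | ⟨e1, e2, e3⟩
    · left
      have h' := congrArg ψ h
      simp only [map_add, map_mul, map_ofNat, map_zero, RingEquiv.apply_symm_apply] at h'
      simp only [Matrix.mul_apply, Fin.sum_univ_two]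
      rw [ea, eb]
      linear_combination h'
    · refine Or.inr (Or.inl ?_)
      have f1 := congrArg ψ e1; have f2 := congrArg ψ e2; have f3 := congrArg ψ e3
      simp only [RingEquiv.apply_symm_apply] at f1 f2 f3
      ext i j; fin_cases i <;> fin_cases j <;> simp [f1, f2, f3, ea, eb]
    · refine Or.inr (Or.inr ?_)
      have f1 := congrArg ψ e1; have f2 := congrArg ψ e2; have f3 := congrArg ψ e3
      simp only [RingEquiv.apply_symm_apply, map_neg] at f1 f2 f3
      ext i j; fin_cases i <;> fin_cases j <;> simp [f1, f2, f3, ea, eb]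
  have hsq : ∀ A : Matrix (Fin 2) (Fin 2) F, A.det = 1 → A 0 0 + A 1 1 = 0 → A * A = (-1 : F) • 1 := by
    intro A hA hA0
    rw [Matrix.det_fin_two] at hA
    have ea : A 1 1 = -A 0 0 := by linear_combination hA0
    rw [ea] at hA
    ext i j
    fin_cases i <;> fin_cases j <;> simp [Matrix.mul_apply, Fin.sum_univ_two, ea] <;>
      first | linear_combination -hA | ring
  have htrc : ∀ (A : Matrix (Fin 2) (Fin 2) F) (c : F), A 0 0 + A 1 1 = 0 →
      (c • A) 0 0 + (c • A) 1 1 = 0 := fun A c h => by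
    simp only [Matrix.smul_apply, smul_eq_mul]
    linear_combination c * h
  have hmulG : ∀ A B, Good A → Good B → Good (A * B) := by
    rintro A B ⟨hA, hA'⟩ ⟨hB, hB'⟩
    refine ⟨by rw [Matrix.det_mul, hA, hB, one_mul], ?_⟩
    rcases hA' with hA0 | ⟨c, hc⟩
    · rcases hB' with hB0 | ⟨c, hc⟩
      · rcases hkey A B hA hB hA0 hB0 with h | h | h
        · exact Or.inl h
        · exact Or.inr ⟨-1, by rw [h]; exact hsq A hA hA0⟩
        · exact Or.inr ⟨1, by rw [h, Matrix.mul_neg, hsq A hA hA0, neg_one_smul, neg_neg, one_smul]⟩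
      · exact Or.inl (by rw [hc, Matrix.mul_smul, mul_one]; exact htrc A c hA0)
    · rcases hB' with hB0 | ⟨d, hd⟩
      · exact Or.inl (by rw [hc, Matrix.smul_mul, one_mul]; exact htrc B c hB0)
      · exact Or.inr ⟨c * d, by rw [hc, hd, Matrix.smul_mul, one_mul, smul_smul]⟩
  let Q : Subgroup (GL (Fin 2) F) :=
    { carrier := {g | Good (g : Matrix (Fin 2) (Fin 2) F)}
      one_mem' := ⟨by simp, Or.inr ⟨1, by simp⟩⟩
      mul_mem' := fun {a b} ha hb => hmulG _ _ ha hb
      inv_mem' := fun {a} ha => by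
        obtain ⟨hd, h'⟩ := ha
        have hdi : ((a⁻¹ : GL (Fin 2) F) : Matrix (Fin 2) (Fin 2) F).det = 1 := by
          have := congrArg Matrix.det (Units.inv_mul a)
          rwa [Matrix.det_mul, hd, mul_one, Matrix.det_one] at this
        refine ⟨hdi, ?_⟩
        rcases h' with h0 | ⟨c, hc⟩
        · left
          have hinv : ((a⁻¹ : GL (Fin 2) F) : Matrix (Fin 2) (Fin 2) F) = -(a : Matrix (Fin 2) (Fin 2) F) := by
            refine Units.inv_eq_of_mul_eq_one_right ?_
            rw [Matrix.mul_neg, hsq _ hd h0, neg_one_smul, neg_neg]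
          rw [hinv, Matrix.neg_apply, Matrix.neg_apply]
          linear_combination -h0
        · right
          have hc0 : c ≠ 0 := fun h => by
            rw [hc, h, zero_smul, Matrix.det_zero] at hd
            exact zero_ne_one hd
          exact ⟨c⁻¹, Units.inv_eq_of_mul_eq_one_right (by rw [hc, Matrix.smul_mul, one_mul, smul_smul,
            mul_inv_cancel₀ hc0, one_smul])⟩ }
  refine ⟨Q, fun a ha => ha.1, ?_, ?_, ?_⟩
  · intro a ha b hb
    have hab : ⁅a, b⁆ ∈ Q := by
      rw [commutatorElement_def]; exact Q.mul_mem (Q.mul_mem (Q.mul_mem ha hb) (Q.inv_mem ha)) (Q.inv_mem hb)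
    rcases ha.2 with hA0 | ⟨c, hc⟩
    · rcases hb.2 with hB0 | ⟨c, hc⟩
      · rcases hkey _ _ ha.1 hb.1 hA0 hB0 with h | h | h
        · -- anticommuting
          refine mem_scalars_of_comm (c := (-1 : F)) ?_
          have hanti : (a : Matrix (Fin 2) (Fin 2) F) * (b : Matrix (Fin 2) (Fin 2) F) =
              (-1 : F) • ((b : Matrix (Fin 2) (Fin 2) F) * (a : Matrix (Fin 2) (Fin 2) F)) := by
            have ea : (a : Matrix (Fin 2) (Fin 2) F) 1 1 = -(a : Matrix (Fin 2) (Fin 2) F) 0 0 := by
              linear_combination hA0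
            have eb : (b : Matrix (Fin 2) (Fin 2) F) 1 1 = -(b : Matrix (Fin 2) (Fin 2) F) 0 0 := by
              linear_combination hB0
            simp only [Matrix.mul_apply, Fin.sum_univ_two] at h
            rw [ea, eb] at h
            ext i j
            fin_cases i <;> fin_cases j <;> simp [Matrix.mul_apply, Fin.sum_univ_two, ea, eb] <;>
              first | linear_combination h | ring
          rw [commutatorElement_def, Units.val_mul, Units.val_mul, Units.val_mul, hanti, Matrix.smul_mul,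
            Matrix.smul_mul]
          simp [mul_assoc]
        · have : b = a := Units.ext h
          rw [this, commutatorElement_self]
          exact (scalars _ F).one_mem
        · have hab' : a * b = b * a := Units.ext (by rw [Units.val_mul, Units.val_mul, h, Matrix.mul_neg, Matrix.neg_mul])
          rw [commutatorElement_eq_one_iff_mul_comm.2 hab']
          exact (scalars _ F).one_mem
      · rw [commutatorElement_eq_one_iff_mul_comm.2 (scalar_comm (mem_scalars_of_comm hc) a).symm]
        exact (scalars _ F).one_mem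
    · rw [commutatorElement_eq_one_iff_mul_comm.2 (scalar_comm (mem_scalars_of_comm hc) b)]
      exact (scalars _ F).one_mem
  · have h30 : (3 : F) = 0 := by
      have := Nat.cast_card_eq_zero F
      rw [h3] at this
      exact_mod_cast this
    set C := Algebra.adjoin F (matrixSet Q) with hC
    have mkQ : ∀ A : Matrix (Fin 2) (Fin 2) F, Good A → A ∈ C := fun A hA =>
      Algebra.subset_adjoin ⟨Matrix.GeneralLinearGroup.mkOfDetNeZero A (by rw [hA.1]; exact one_ne_zero), hA, rfl⟩
    have hi : (!![0, 1; -1, 0] : Matrix (Fin 2) (Fin 2) F) ∈ C :=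
      mkQ _ ⟨by rw [Matrix.det_fin_two_of]; ring, Or.inl (by simp)⟩
    have hj : (!![1, 1; 1, -1] : Matrix (Fin 2) (Fin 2) F) ∈ C :=
      mkQ _ ⟨by rw [Matrix.det_fin_two_of]; linear_combination (-1 : F) * h30, Or.inl (by simp)⟩
    refine eq_top_iff.2 fun X _ => ?_
    have h2 : (2 : F) ≠ 0 := fun h => one_ne_zero (α := F) (by linear_combination h30 - h)
    have hij := C.mul_mem hi hj
    -- coordinates in the basis `1, i, j, ij`
    set a := (X 0 0 + X 1 1) / 2
    set b := (X 0 1 - X 1 0) / 2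
    set u := (X 0 0 - X 1 1) / 2
    set w := (X 0 1 + X 1 0) / 2
    have hX : X = a • (1 : Matrix (Fin 2) (Fin 2) F) + b • !![0, 1; -1, 0] +
        ((u + w) / 2) • !![1, 1; 1, -1] + ((u - w) / 2) • (!![0, 1; -1, 0] * !![1, 1; 1, -1]) := by
      ext i j
      fin_cases i <;> fin_cases j <;> simp [a, b, u, w, Matrix.mul_apply, Fin.sum_univ_two] <;> field_simp <;> ring
    rw [hX]
    exact C.add_mem (C.add_mem (C.add_mem (C.smul_mem C.one_mem _) (C.smul_mem hi _)) (C.smul_mem hj _))
      (C.smul_mem hij _)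
  · intro g a ha
    refine ⟨?_, ?_⟩
    · rw [Units.val_mul, Units.val_mul, Matrix.det_units_conj]; exact ha.1
    · rcases ha.2 with h0 | ⟨c, hc⟩
      · left
        have h1 := Matrix.trace_units_conj g (a : Matrix (Fin 2) (Fin 2) F)
        rw [Matrix.trace_fin_two, Matrix.trace_fin_two] at h1
        simpa [← h0] using h1
      · right
        exact ⟨c, by rw [Units.val_mul, Units.val_mul, hc, Matrix.mul_smul, mul_one, Matrix.smul_mul, Units.mul_inv]⟩

/-- the structure theorem -/
theorem symp_fine (hm : 2 ≤ m) {H : Subgroup (GL (Ix m) F)} (hH : H ≤ spGL m F) :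
    (∃ M, SympFine m F M ∧ H ≤ M) ∨ InSymplecticResidualClass H := by
  classical
  haveI : Nonempty (Ix m) := ⟨.inl ⟨0, by omega⟩⟩
  have hf := symp_formData (m := m) (F := F)
  have hI : Isos H (sympForm m F) := fun g hg => hH hg
  have hcardι : Fintype.card (Ix m) = 2 * m := by simp; omega
  have hskew : ∀ v w, sympForm m F v w = -sympForm m F w v :=
    (TransvectionMax.sympForm_isSymplecticForm (F := F) m).skew
  by_cases hirr : ¬ Irred H
  · left
    unfold Irred at hirr
    push Not at hirr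
    obtain ⟨W, hW, hb, ht⟩ := hirr
    rcases AschFormBasic.reducible hf hI hW hb ht with ⟨U, hUb, -, hUi, hU⟩ |
      ⟨U, U', hUb, hUb', hUi, hUi', hU, hU', horth, hinf, hsup, hsum⟩
    · exact ⟨_, Or.inl (Or.inl ⟨U, hUb, hU, rfl⟩), le_inf ((inv_iff_le_stabilizer _ _).1 hUi) hH⟩
    · rw [hcardι] at hsum
      rcases Nat.lt_trichotomy (Module.finrank F U) m with h | h | h
      · exact ⟨_, Or.inl (Or.inr (Or.inl ⟨U, hUb, hU, h, rfl⟩)), le_inf ((inv_iff_le_stabilizer _ _).1 hUi) hH⟩
      · obtain ⟨hD, hle⟩ := pair_decomposition (H := H) hUi hUi' (by omega : 0 < m) h (Nat.add_left_cancel (hsum.trans ((two_mul m).trans (congrArg (· + m) h.symm)))) hinf hsup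
        refine ⟨_, Or.inl (Or.inr (Or.inr (Or.inl ⟨2, m, ![U, U'], ⟨hD, fun i => ?_, fun i j hij => ?_⟩, rfl⟩))),
          le_inf hle hH⟩
        · fin_cases i
          · exact hU
          · exact hU'
        · fin_cases i <;> fin_cases j
          · exact absurd rfl hij
          · exact horth
          · exact fun u hu v hv => hf.symm_zero (horth v hv u hu)
          · exact absurd rfl hij
      · exact ⟨_, Or.inl (Or.inr (Or.inl ⟨U', hUb', hU', by omega, rfl⟩)),
          le_inf ((inv_iff_le_stabilizer _ _).1 hUi') hH⟩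
  push Not at hirr
  have hodd : (2 : F) ≠ 0 → Odd (Fintype.card F) := odd_card_of_two_ne_zero
  rcases alg_cases hf hI hirr with himp | ⟨r, K, hr, hK, hKs, hKn, -, hle⟩ | ⟨hcs, hten | hfs⟩
  · left
    rcases himp with ⟨t, k, D, hD, hle, -⟩ | ⟨k, D, hD, hts, hle, hkn⟩
    · exact ⟨_, Or.inl (Or.inr (Or.inr (Or.inl ⟨t, k, D, hD, rfl⟩))), le_inf hle hH⟩
    · obtain rfl : k = m := by rw [hcardι] at hkn; omega
      by_cases h2 : (2 : F) = 0
      · haveI : CharP F 2 := CharTwo.of_one_ne_zero_of_two_eq_zero one_ne_zero h2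
        exact quad_class h2 hH (AschFormQuad.quad_of_pair hf (fun u v => by rw [hskew, CharTwo.neg_eq]) hI hD hts hle)
      · exact ⟨_, Or.inl (Or.inr (Or.inr (Or.inr (Or.inl ⟨D, hodd h2, hD, hts, rfl⟩)))), le_inf hle hH⟩
  · left
    by_cases hsa : ∀ k ∈ K, adj (RingEquiv.refl F) (gramMatrix (sympForm m F)) k = k
    · exact ⟨_, Or.inr (Or.inl ⟨r, K, hr, hK, fun k hk u v => by rw [adjoint_apply hf, hsa k hk],
        AschFormField.alt_diag hf symp_alt hskew hK hsa, rfl⟩), le_inf hle hH⟩
    · obtain rfl : r = 2 := hr.eq_two_or_odd'.resolve_right fun ho => hsa ((AschFormField.field_adj hf hr hK hKs).2 rfl ho)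
      push Not at hsa
      obtain ⟨k, hk, hne⟩ := hsa
      by_cases h2 : (2 : F) = 0
      · exact quad_class h2 hH (AschFormQuad.quad_of_field h2 hf symp_alt hI hK hKn hKs hk hne)
      · refine ⟨_, Or.inr (Or.inr (Or.inl ⟨K, hodd h2, hK, StarClosed.adjointClosed hf hKs, fun hself => ?_, rfl⟩)),
          le_inf hle hH⟩
        apply hne
        refine Matrix.toLin'.injective (LinearMap.ext fun v => ?_)
        rw [Matrix.toLin'_apply, Matrix.toLin'_apply, ← sub_eq_zero]
        by_contra hv
        obtain ⟨⟨u, hu⟩, -⟩ := hf.nd _ hv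
        apply hu
        rw [sub_eq_add_neg, hf.sesq.add_right, ← neg_one_smul F, hf.sesq.smul_right, ← adjoint_apply hf, hself k hk]
        simp
  · left
    obtain ⟨k, l, e, P, G₁, G₂, a, b, hd⟩ := hten
    by_cases h2 : (2 : F) = 0
    · haveI : CharP F 2 := CharTwo.of_one_ne_zero_of_two_eq_zero one_ne_zero h2
      have hone : ∀ x : F, x * x = 1 → x = 1 := fun x hx => by
        rcases mul_self_eq_one_iff.1 hx with h | h
        · exact h
        · rw [h, CharTwo.neg_eq]
      have hs₁ : G₁ᵀ = G₁ := by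
        have := hd.symm₁
        rwa [hone a (by simpa using hd.norm₁), one_smul] at this
      have hs₂ : G₂ᵀ = G₂ := by
        have := hd.symm₂
        rwa [hone b (by simpa using hd.norm₂), one_smul] at this
      by_cases hd₁ : ∀ i, G₁ i i = 0
      · by_cases hd₂ : ∀ i, G₂ i i = 0
        · refine quad_class h2 hH (AschFormQuad.quad_of_tensor h2 hf hI (c := 1) (by rw [one_smul]; exact hd.gram)
            hs₁ hd₁ hs₂ hd₂ fun h hh x => ?_)
          obtain ⟨A, B, c, -, hval, -, -⟩ := hd.elem hf hI hh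
          refine ⟨fun i => (A : Matrix (Fin k) (Fin k) F) i (e x).1, fun j => (B : Matrix (Fin l) (Fin l) F) j (e x).2, ?_⟩
          rw [hval, Matrix.mulVec_mulVec, Matrix.mulVec_mulVec]
          simp only [mul_assoc, Units.inv_mul_cancel_left, Units.inv_mul, mul_one]
          funext y
          simp [Matrix.mulVec_single_one, pull_apply]
        · push Not at hd₂
          refine absurd hirr (AschFormQuad.factor_reducible h2 hd.two_le₂ (by have := hd.two_le₁; omega)
            (e := e.trans (Equiv.prodComm _ _)) (P := P) hs₂ hd₂ fun h hh => ?_)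
          obtain ⟨B, A, c, -, hval, hB, -⟩ := hd.swap.elem hf hI hh
          exact ⟨_, _, c, hval, hB⟩
      · push Not at hd₁
        refine absurd hirr (AschFormQuad.factor_reducible h2 hd.two_le₁ (by have := hd.two_le₂; omega)
          (e := e) (P := P) hs₁ hd₁ fun h hh => ?_)
        obtain ⟨A, B, c, -, hval, hA, -⟩ := hd.elem hf hI hh
        exact ⟨_, _, c, hval, hA⟩
    · -- odd characteristic
      have hskewG : ∀ {n : ℕ} {G : Matrix (Fin n) (Fin n) F}, Gᵀ = -G → ∀ i, G i i = 0 := fun {n G} h i => by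
        have := congrFun (congrFun h i) i
        rw [Matrix.transpose_apply, Matrix.neg_apply] at this
        exact mul_left_cancel₀ h2 (by linear_combination this)
      have hab : a * b = -1 := by simpa using hd.prod
      obtain ⟨k', l', e', G₁', G₂', a', b', hd', ha', hb'⟩ :
          ∃ (k' l' : ℕ) (e' : Ix m ≃ Fin k' × Fin l') (G₁' : Matrix (Fin k') (Fin k') F)
            (G₂' : Matrix (Fin l') (Fin l') F) (a' b' : F),
            TensorData (RingEquiv.refl F) (-1) (sympForm m F) H k' l' e' P G₁' G₂' a' b' ∧ a' = -1 ∧ b' = 1 := by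
        rcases mul_self_eq_one_iff.1 (show a * a = 1 by simpa using hd.norm₁) with h | h
        · exact ⟨l, k, _, G₂, G₁, b, a, hd.swap, by rw [h, one_mul] at hab; exact hab, h⟩
        · exact ⟨k, l, e, G₁, G₂, a, b, hd, h, by rw [h, neg_one_mul, neg_inj] at hab; exact hab⟩
      have hs₁ : G₁'ᵀ = -G₁' := by
        have := hd'.symm₁
        rwa [ha', neg_one_smul] at this
      have hs₂ : G₂'ᵀ = G₂' := by
        have := hd'.symm₂
        rwa [hb', one_smul] at this
      by_cases hl2 : l' = 2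
      · subst hl2
        exact (no_sym_plane h2 hI hcs hd' hs₂).elim
      exact ⟨_, Or.inr (Or.inr (Or.inr (Or.inl ⟨k', l', e', P, _, _, hodd h2, by have := hd'.two_le₂; omega,
        symplectic_of_gram hd'.det₁ hs₁ (hskewG hs₁), symmetric_of_gram hd'.det₂ hs₂,
        tensor_structure hf one_ne_zero (by rw [one_smul]; exact hd'.gram),
        fun C hC => hcs C fun h hh => hC h (le_inf hd'.le hH hh), rfl⟩))), le_inf hd'.le hH⟩
  · rcases core_cases (by rw [hcardι]; omega) hirr
      (fun N hn hN => hfs.alternative hf hn fun g hg => hI g (hN hg)) with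
      ⟨N, hNle, hNn, habs, hc2, -⟩ | ⟨t, M, hfam⟩ | ⟨P, hP⟩
    · obtain ⟨M, hM, hle, -⟩ := extra_symp (by omega) hH hcs hNle hNn habs hc2
      exact Or.inl ⟨M, hM, hle⟩
    · left
      obtain ⟨k, e, P, G, a, c, hd⟩ := wreath_form hf hI hfs hfam
      have hk0 : 0 < k := by have := hd.two_le₁; omega
      have haa : a * a = 1 := by simpa using hd.norm
      have hdiag : ∀ i, G i i = 0 := fun i => by
        have h1 := gram_diag hf symp_alt e P (fun _ => i)
        rw [hd.gram, Matrix.smul_apply, smul_eq_mul, pureMat, Matrix.of_apply] at h1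
        simpa [hd.c_ne, Finset.prod_const, (show t ≠ 0 by have := hd.two_le₂; omega)] using h1
      by_cases h2 : (2 : F) = 0
      · haveI : CharP F 2 := CharTwo.of_one_ne_zero_of_two_eq_zero one_ne_zero h2
        have hs : Gᵀ = G := by
          have := hd.symm
          rcases mul_self_eq_one_iff.1 haa with h | h
          · rwa [h, one_smul] at this
          · rwa [h, CharTwo.neg_eq, one_smul] at this
        obtain ⟨t', rfl⟩ : ∃ t', t = t' + 1 := ⟨t - 1, by have := hd.two_le₂; omega⟩
        let e₂ : Ix m ≃ Fin k × (Fin t' → Fin k) := e.trans (Fin.consEquiv fun _ => Fin k).symm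
        have hgram₂ : gramP (RingEquiv.refl F) (sympForm m F) e₂ P = c • (G ⊗ₖ pureMat fun _ : Fin t' => G) := by
          ext ⟨i, x⟩ ⟨j, y⟩
          have h1 := congrFun (congrFun hd.gram (Fin.cons i x)) (Fin.cons j y)
          simp only [gramP, Matrix.of_apply, Matrix.smul_apply, pureMat, Fin.prod_univ_succ, Fin.cons_zero,
            Fin.cons_succ] at h1
          simp only [gramP, Matrix.of_apply, Matrix.smul_apply, Matrix.kroneckerMap_apply, pureMat]
          exact h1
        refine quad_class h2 hH (AschFormQuad.quad_of_tensor h2 hf hI hgram₂ hs hdiag ?_ ?_ fun h hh x => ?_)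
        · rw [pureMat_transpose, hs]
        · intro x
          have ht' : 0 < t' := by have := hd.two_le₂; omega
          rw [pureMat, Matrix.of_apply]
          exact Finset.prod_eq_zero (Finset.mem_univ ⟨0, ht'⟩) (hdiag _)
        · obtain ⟨τ, gs, d, -, hval, -⟩ := hd.elem h hh
          refine ⟨fun i => d * (gs 0 : Matrix (Fin k) (Fin k) F) i (e x (τ.symm 0)),
            fun y => ∏ i, (gs i.succ : Matrix (Fin k) (Fin k) F) (y i) (e x (τ.symm i.succ)), ?_⟩
          rw [hval, Matrix.mulVec_mulVec, Matrix.mulVec_mulVec]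
          simp only [mul_assoc, Units.inv_mul_cancel_left, Units.inv_mul, mul_one]
          funext y
          rw [Matrix.mulVec_single_one, Matrix.col_apply, pull_apply, Matrix.smul_apply, smul_eq_mul, mul_permMat,
            pureMat, Matrix.of_apply, Fin.prod_univ_succ]
          rfl
      · have hat : a ^ t = -1 := by
          have h1 := hd.prod
          simp only [RingEquiv.refl_apply] at h1
          exact mul_left_cancel₀ hd.c_ne (by rw [h1, mul_comm])
        have ha : a = -1 := by
          rcases mul_self_eq_one_iff.1 haa with h | h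
          · rw [h, one_pow] at hat
            exact absurd (show (2 : F) = 0 by linear_combination hat) h2
          · exact h
        have hto : Odd t := by
          rcases Nat.even_or_odd t with ht | ht
          · rw [ha, ht.neg_one_pow] at hat
            exact absurd (show (2 : F) = 0 by linear_combination hat) h2
          · exact ht
        have hs : Gᵀ = -G := by
          have := hd.symm
          rwa [ha, neg_one_smul] at this
        by_cases hex : Fintype.card F = 3 ∧ k = 2
        · obtain ⟨h3, rfl⟩ := hex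
          obtain ⟨Q, hQd, hQ2, hQs, hQn⟩ := exists_quaternion h3
          have hG : G = G 0 1 • planeJ := by
            ext i j
            have := congrFun (congrFun hs 0) 1
            rw [Matrix.transpose_apply, Matrix.neg_apply] at this
            fin_cases i <;> fin_cases j <;> simp [planeJ, hdiag, this]
          obtain ⟨R, hRI, hRn, hRabs, hRc, -⟩ := AschFormPower.power_group hf hI hd.c_ne
            (fun h => by have := hd.det; rw [h, Matrix.det_zero] at this; exact not_isUnit_zero this) hd.gram hd.le Q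
            (fun x hx => by
              show (x : Matrix (Fin 2) (Fin 2) F)ᵀ * G * (x : Matrix (Fin 2) (Fin 2) F) = G
              rw [hG, Matrix.mul_smul, Matrix.smul_mul, planeJ_transform, hQd x hx, one_smul])
            hQ2 hQs (fun g _ => hQn g)
          have hHR : H ⊔ R ≤ spGL m F := sup_le hH fun g hg => hRI g hg
          obtain ⟨M, hM, hle, -⟩ := extra_symp (by omega) hHR
            (fun C hC => hcs C fun h hh => hC h (Subgroup.mem_sup_left hh)) le_sup_right
            (fun x hx y hy => by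
              have h1 : H ⊔ R ≤ Subgroup.normalizer (R : Set (GL (Ix m) F)) := sup_le
                (fun h hh => Subgroup.mem_normalizer_iff.2 fun z => ⟨hRn h hh z, fun hz => by
                  simpa [mul_assoc] using hRn h⁻¹ (H.inv_mem hh) _ hz⟩) Subgroup.le_normalizer
              exact (Subgroup.mem_normalizer_iff.1 (h1 hx) y).1 hy) hRabs hRc
          exact ⟨M, hM, le_sup_left.trans hle⟩
        · refine ⟨_, Or.inr (Or.inr (Or.inr (Or.inr ⟨k, t, e, P, _, hodd h2, hto, ?_, hex,
            symplectic_of_gram hd.det hs hdiag, power_structure hf hd.c_ne hd.gram, rfl⟩))), le_inf hd.le hH⟩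
          have := hd.two_le₂
          obtain ⟨j, hj⟩ := hto
          omega
    · by_cases hreal : ∃ F₀ : Subfield F, F₀ ≠ ⊤ ∧ RealisableOver F₀ (matrixSet P)
      · left
        obtain ⟨F₀, hne, C, hC⟩ := hreal
        obtain ⟨φ, r, hr, hcard, hfix⟩ := exists_maximal_above hne
        exact AschFormSub.symplectic_subfield (by omega) hf hH hP.absIrred hP.normal hr hcard
          (fun s hs i j => hfix _ (by simpa using hC _ ⟨s, hs, rfl⟩ i j))
          (fun s hs => ⟨1, map_one φ, fun u v => by rw [one_mul]; exact hH (hP.le hs) u v⟩)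
      push Not at hreal
      by_cases hquad : ∃ Q : (Ix m → F) → F, IsNondegenerateQuadraticForm Q ∧ FixesQuadForm (matrixSet P) Q
      · obtain ⟨Q, hQ, hfix⟩ := hquad
        left
        have hsesQ := sesq_of_bilinear hQ.polar_bilinear
        have hpolfix : ∀ s ∈ P, (s : Matrix (Ix m) (Ix m) F)ᵀ * gramMatrix (QuadraticMap.polar Q) *
            (s : Matrix (Ix m) (Ix m) F).map (RingEquiv.refl F) = gramMatrix (QuadraticMap.polar Q) := by
          intro s hs
          have := (hsesQ.similar_iff (s : Matrix (Ix m) (Ix m) F) 1).1 (fun u v => by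
            rw [one_mul]
            simpa using polar_fix (fun u v => Matrix.mulVec_add (s : Matrix (Ix m) (Ix m) F) u v) 1
              (fun v => by rw [hfix _ ⟨s, hs, rfl⟩, one_mul]) u v)
          simpa using this
        obtain ⟨c, hc⟩ := gram_unique hP.absIrred (RingEquiv.refl F) hf.det.ne_zero
          (fun s hs => iso_gram hf (hI s (hP.le hs))) hpolfix
        have hc0 : c ≠ 0 := by
          rintro rfl
          rw [zero_smul] at hc
          exact hsesQ.det_ne_zero hQ.nondegenerate (by rw [hc]; exact Matrix.det_zero)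
        have hpolf : ∀ u v, QuadraticMap.polar Q u v = c * sympForm m F u v := fun u v => by
          rw [hsesQ.eq_gram, hf.sesq.eq_gram, hc, Matrix.smul_mulVec, dotProduct_smul, smul_eq_mul]
        have h2 : (2 : F) = 0 := by
          by_contra h2
          have h1 : ∀ u v, sympForm m F u v = 0 := fun u v => by
            have e1 := hpolf u v
            have e2 := hpolf v u
            rw [QuadraticMap.polar_comm, e1, hskew v u] at e2
            have : (2 : F) * (c * sympForm m F u v) = 0 := by linear_combination e2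
            exact (mul_eq_zero.1 ((mul_eq_zero.1 this).resolve_left h2)).resolve_left hc0
          obtain ⟨x, hx⟩ := (hf.nd (Pi.single (.inl ⟨0, by omega⟩) 1)
            (fun h => one_ne_zero (α := F) (by simpa using congrFun h (.inl ⟨0, by omega⟩)))).2
          exact hx (h1 _ _)
        haveI : CharP F 2 := CharTwo.of_one_ne_zero_of_two_eq_zero one_ne_zero h2
        let Q' : (Ix m → F) → F := fun v => c⁻¹ * Q v
        have hpol' : ∀ u v, QuadraticMap.polar Q' u v = sympForm m F u v := fun u v => by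
          have := hpolf u v
          simp only [QuadraticMap.polar, Q'] at this ⊢
          field_simp
          linear_combination this
        refine quad_class h2 hH (AschFormQuad.quad_mk hf Q' (fun a v => by
          simp only [Q', hQ.smul]; ring) hpol' fun h hh => ?_)
        set D : (Ix m → F) → F := fun v => Q' ((h : Matrix (Ix m) (Ix m) F) *ᵥ v) + Q' v with hD
        have hDadd : ∀ u v, D (u + v) = D u + D v := fun u v => by
          have e1 := hpol' u v
          have e2 := hpol' ((h : Matrix (Ix m) (Ix m) F) *ᵥ u) ((h : Matrix (Ix m) (Ix m) F) *ᵥ v)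
          rw [hI h hh] at e2
          simp only [QuadraticMap.polar] at e1 e2
          simp only [hD, Matrix.mulVec_add]
          linear_combination e1 + e2 + (sympForm m F u v) * h2
        have hDsm : ∀ (a : F) v, D (a • v) = a ^ 2 * D v := fun a v => by
          simp only [hD, Matrix.mulVec_smul, Q', hQ.smul]; ring
        have hDP : ∀ p ∈ P, ∀ v, D ((p : Matrix (Ix m) (Ix m) F) *ᵥ v) = D v := by
          intro p hp v
          have e : (h : Matrix (Ix m) (Ix m) F) *ᵥ ((p : Matrix (Ix m) (Ix m) F) *ᵥ v) =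
              ((h * p * h⁻¹ : GL (Ix m) F) : Matrix (Ix m) (Ix m) F) *ᵥ ((h : Matrix (Ix m) (Ix m) F) *ᵥ v) := by
            rw [Matrix.mulVec_mulVec, Matrix.mulVec_mulVec, ← Units.val_mul, ← Units.val_mul, inv_mul_cancel_right]
          simp only [hD, Q']
          rw [e, hfix _ ⟨_, hP.normal h hh p hp, rfl⟩, hfix _ ⟨p, hp, rfl⟩]
        let W : Submodule F (Ix m → F) :=
          { carrier := {v | D v = 0}
            zero_mem' := by
              show D 0 = 0
              have := hDsm 0 0
              simpa using this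
            add_mem' := fun {u v} hu hv => by
              show D (u + v) = 0
              rw [hDadd, show D u = 0 from hu, show D v = 0 from hv, add_zero]
            smul_mem' := fun a v hv => by
              show D (a • v) = 0
              rw [hDsm, show D v = 0 from hv, mul_zero] }
        have hWne : W ≠ ⊥ := by
          intro hW0
          let u : Ix m → F := Pi.single (.inl ⟨0, by omega⟩) 1
          let w : Ix m → F := Pi.single (.inr ⟨0, by omega⟩) 1
          have hu0 : u ≠ 0 := fun h0 => one_ne_zero (α := F) (by simpa [u] using congrFun h0 (.inl ⟨0, by omega⟩))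
          have hDu : D u ≠ 0 := fun h0 => hu0 ((Submodule.eq_bot_iff _).1 hW0 u h0)
          obtain ⟨s, hs⟩ := FiniteField.isSquare_of_char_two (ringChar.eq F 2) (D w / D u)
          have hmem : w + s • u ∈ W := by
            show D (w + s • u) = 0
            rw [hDadd, hDsm, sq, ← hs, div_mul_cancel₀ _ hDu, CharTwo.add_self_eq_zero]
          have h0 := congrFun ((Submodule.eq_bot_iff _).1 hW0 _ hmem) (.inr ⟨0, by omega⟩)
          simp [u, w] at h0
        intro v
        have hv : v ∈ W := ((hP.absIrred.irred W fun p hp w hw => by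
          show D _ = 0
          rw [hDP p hp]; exact hw).resolve_left hWne).symm ▸ Submodule.mem_top
        exact CharTwo.add_eq_zero.1 (show D v = 0 from hv)
      · right
        refine ⟨P, ⟨hP.le, hP.normal, hP.perfect, hP.simple, hP.nonabelian,
          hP.centralizer_scalar, hP.absIrred, hreal⟩, hquad, ?_⟩
        rintro ⟨σ, g, hg, hfix⟩
        obtain ⟨q, hF, hσ⟩ := AschFormTwist.exists_q hg
        exact hreal _ (AschPrimeUnitary.fixed_fr_ne_top hF)
          (AschFormTwist.realisable_of_unitary hf hg hF hσ hP.absIrred (fun s hs => hI s (hP.le hs)) hfix)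

/-- the classes of the definition -/
lemma class_of_fine {M : Subgroup (GL (Ix m) F)} (h : SympFine m F M) : InSymplecticClass m F M := by
  rcases h with (h | h | h | h | h | ⟨R, p, k, h1, h2, h3, h4, h5, h6, h7, h8, h9, -, -, h10⟩ | h) | h | h | h | h
  · exact Or.inl (Or.inl h)
  · exact Or.inl (Or.inr (Or.inl h))
  · exact Or.inl (Or.inr (Or.inr (Or.inl h)))
  · exact Or.inl (Or.inr (Or.inr (Or.inr (Or.inl h))))
  · exact Or.inl (Or.inr (Or.inr (Or.inr (Or.inr (Or.inl h)))))
  · exact Or.inl (Or.inr (Or.inr (Or.inr (Or.inr (Or.inr (Or.inl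
      ⟨R, p, k, h1, h2, h3, h4, h5, h6, h7, h8, h9, h10⟩))))))
  · exact Or.inl (Or.inr (Or.inr (Or.inr (Or.inr (Or.inr (Or.inr h))))))
  · exact Or.inr (Or.inl h)
  · exact Or.inr (Or.inr (Or.inl h))
  · obtain ⟨n₁, n₂, e, P, f₁, f₂, h1, h2, h3, h4, h5, -, h6⟩ := h
    exact Or.inr (Or.inr (Or.inr (Or.inl ⟨n₁, n₂, e, P, f₁, f₂, h1, h2, h3, h4, h5, h6⟩)))
  · exact Or.inr (Or.inr (Or.inr (Or.inr h)))

/-- the structure theorem in the classes of the definition -/
theorem symp_structure (hm : 2 ≤ m) {H : Subgroup (GL (Ix m) F)} (hH : H ≤ spGL m F) :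
    (∃ M, InSymplecticClass m F M ∧ H ≤ M) ∨ InSymplecticResidualClass H :=
  (symp_fine hm hH).imp_left fun ⟨M, hM, hle⟩ => ⟨M, class_of_fine hM, hle⟩

end Cfsg.Agent.AschFormSymp
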