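/-
Aschbacher's theorem with a form, part 16: the extraspecial group inside the unitary similitudes over four elements.
-/
import Cfsg.Agent.Lib.AschGenExtra

set_option autoImplicit false
set_option linter.unusedSectionVars false

namespace Cfsg.Agent.AschFormHeis

open scoped Matrix commutatorElement
open Cfsg Cfsg.Geo Cfsg.Agent.AschPrimeBasic Cfsg.Agent.AschGenExtra

variable {F : Type*} [Field F] [Fintype F]

/-- a monomial matrix with cyclic pattern and geometric entries -/
def mon (x r : F) (j : Fin 3) : Matrix (Fin 3) (Fin 3) F :=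
  Matrix.of fun i k => if k = i + j then x * r ^ (i : ℕ) else 0

lemma pow_add_fin {r : F} (hr : r ^ 3 = 1) (i j : Fin 3) : r ^ ((i + j : Fin 3) : ℕ) = r ^ (i : ℕ) * r ^ (j : ℕ) := by
  rw [Fin.val_add, ← pow_add]
  conv_rhs => rw [← Nat.mod_add_div ((i : ℕ) + j) 3, pow_add, pow_mul, hr, one_pow, mul_one]

lemma mon_mul {s : F} (hs : s ^ 3 = 1) (x r y : F) (j l : Fin 3) :
    mon x r j * mon y s l = mon (x * y * s ^ (j : ℕ)) (r * s) (j + l) := by
  ext i k
  simp only [mon, Matrix.mul_apply, Matrix.of_apply, ite_mul, zero_mul, Finset.sum_ite_eq', Finset.mem_univ, if_true]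
  simp only [add_assoc]
  split_ifs with h
  · rw [pow_add_fin hs, mul_pow]; ring
  · rw [mul_zero]

lemma mon_one : mon (1 : F) 1 0 = 1 := by
  ext i k
  simp [mon, Matrix.one_apply, eq_comm]

lemma mon_smul (c x r : F) (j : Fin 3) : mon (c * x) r j = c • mon x r j := by
  ext i k
  simp [mon, mul_assoc]

set_option maxHeartbeats 1600000 in
theorem exists_heisenberg (h4 : Fintype.card F = 4) (σ : F ≃+* F) (hσ : ∀ x, σ x = x ^ 2) :
    ∃ Q : Subgroup (GL (Fin 3) F),
      (∀ a ∈ Q, (a : Matrix (Fin 3) (Fin 3) F)ᵀ * 1 * (a : Matrix (Fin 3) (Fin 3) F).map σ = 1) ∧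
      Class2 Q ∧ Algebra.adjoin F (matrixSet Q) = ⊤ ∧ (∀ a ∈ Q, a ^ 3 = 1) ∧
      ∀ g : GL (Fin 3) F, (∃ l : F, l ≠ 0 ∧
        (g : Matrix (Fin 3) (Fin 3) F)ᵀ * 1 * (g : Matrix (Fin 3) (Fin 3) F).map σ = l • 1) →
        ∀ a ∈ Q, g * a * g⁻¹ ∈ Q := by
  classical
  haveI : CharP F 2 := by
    obtain ⟨p, hp⟩ := CharP.exists F
    obtain ⟨e, hpp, he⟩ := FiniteField.card F p
    rw [h4] at he
    have h1 : p ∣ 2 ^ 2 := ⟨p ^ ((e : ℕ) - 1), by
      rw [← pow_succ']
      have := e.pos
      rw [show (e : ℕ) - 1 + 1 = e by omega, ← he]; rfl⟩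
    rwa [(Nat.prime_dvd_prime_iff_eq hpp Nat.prime_two).1 (hpp.dvd_of_dvd_pow h1)] at hp
  have h2 : (2 : F) = 0 := CharTwo.two_eq_zero
  have hcube : ∀ x : F, x ≠ 0 → x ^ 3 = 1 := fun x hx => by
    have := FiniteField.pow_card_sub_one_eq_one x hx
    rwa [h4] at this
  have hnorm : ∀ x : F, x ≠ 0 → x * σ x = 1 := fun x hx => by rw [hσ]; linear_combination hcube x hx
  have hσ' : ∀ x : F, σ (σ x) = x := fun x => by
    rcases eq_or_ne x 0 with rfl | hx
    · simp
    · rw [hσ, hσ]; linear_combination x * hcube x hx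
  -- the members
  have hu : ∀ (x r : F) (j : Fin 3), x ≠ 0 → r ≠ 0 → (mon x r j)ᵀ * (mon x r j).map σ = 1 := by
    intro x r j hx hr
    ext i k
    have key : ∀ m : Fin 3, mon x r j m i * σ (mon x r j m k) = if i = m + j ∧ i = k then 1 else 0 := by
      intro m
      simp only [mon, Matrix.of_apply]
      by_cases h1 : i = m + j
      · by_cases h3 : i = k
        · rw [if_pos h1, if_pos (h3 ▸ h1), if_pos ⟨h1, h3⟩]
          exact hnorm _ (mul_ne_zero hx (pow_ne_zero _ hr))
        · rw [if_pos h1, if_neg (fun h : k = m + j => h3 (h1.trans h.symm)),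
            if_neg (fun h : i = m + j ∧ i = k => h3 h.2), map_zero, mul_zero]
      · rw [if_neg h1, if_neg (fun h : i = m + j ∧ i = k => h1 h.1), zero_mul]
    simp only [Matrix.mul_apply, Matrix.transpose_apply, Matrix.map_apply, key, Matrix.one_apply]
    rw [Finset.sum_eq_single (i - j)]
    · simp
    · intro m _ hm
      rw [if_neg]
      rintro ⟨h, -⟩
      exact hm (by rw [h, add_sub_cancel_right])
    · simp
  have hdet : ∀ (x r : F) (j : Fin 3), x ≠ 0 → r ≠ 0 → (mon x r j).det = 1 := by
    intro x r j hx hr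
    rw [Matrix.det_fin_three]
    fin_cases j <;> simp [mon] <;> linear_combination r ^ 3 * hcube x hx + hcube r hr
  have hcube' : ∀ (x r : F) (j : Fin 3), x ≠ 0 → r ≠ 0 → mon x r j ^ 3 = 1 := by
    intro x r j hx hr
    rw [pow_three, mon_mul (hcube r hr), mon_mul (by rw [mul_pow, hcube r hr, one_mul])]
    have e1 : j + (j + j) = 0 := by revert j; decide
    have e2 : r * (r * r) = 1 := by linear_combination hcube r hr
    have e3 : x * (x * x * r ^ (j : ℕ)) * (r * r) ^ (j : ℕ) = 1 := by
      have h5 : (r * (r * r)) ^ (j : ℕ) = 1 := by rw [e2, one_pow]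
      rw [mul_pow] at h5
      linear_combination hcube x hx + x ^ 3 * h5
    rw [e1, e2, e3, mon_one]
  let Q : Subgroup (GL (Fin 3) F) :=
    { carrier := {g | ∃ x r j, x ≠ 0 ∧ r ≠ 0 ∧ (g : Matrix (Fin 3) (Fin 3) F) = mon x r j}
      one_mem' := ⟨1, 1, 0, one_ne_zero, one_ne_zero, by rw [mon_one]; rfl⟩
      mul_mem' := by
        rintro a b ⟨x, r, j, hx, hr, ha⟩ ⟨y, s, l, hy, hs, hb⟩
        exact ⟨_, _, _, mul_ne_zero (mul_ne_zero hx hy) (pow_ne_zero _ hs), mul_ne_zero hr hs,
          by rw [Units.val_mul, ha, hb, mon_mul (hcube s hs)]⟩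
      inv_mem' := by
        rintro a ⟨x, r, j, hx, hr, ha⟩
        refine ⟨x * x * r ^ (j : ℕ), r * r, j + j, mul_ne_zero (mul_ne_zero hx hx) (pow_ne_zero _ hr),
          mul_ne_zero hr hr, ?_⟩
        refine Units.inv_eq_of_mul_eq_one_right ?_
        rw [ha, ← mon_mul (hcube r hr), ← pow_three, hcube' x r j hx hr] }
  -- classification
  have hclass : ∀ M : Matrix (Fin 3) (Fin 3) F, Mᵀ * M.map σ = 1 → M.det = 1 → M 0 0 + M 1 1 + M 2 2 = 0 →
      ∃ x r j, x ≠ 0 ∧ r ≠ 0 ∧ M = mon x r j := by
    intro M hM hd htr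
    have hM' : (M.map σ)ᵀ * M = 1 := by
      have := congrArg Matrix.transpose hM
      rwa [Matrix.transpose_mul, Matrix.transpose_transpose, Matrix.transpose_one] at this
    have hM2 : M * (M.map σ)ᵀ = 1 := mul_eq_one_comm.1 hM'
    have hadj : (M.map σ)ᵀ = M.adjugate := by
      calc (M.map σ)ᵀ = (M.map σ)ᵀ * (M * M.adjugate) := by rw [Matrix.mul_adjugate, hd, one_smul, mul_one]
        _ = M.adjugate := by rw [← mul_assoc, hM', one_mul]
    set a := M 0 0 with ha
    set b := M 0 1 with hb
    set c := M 0 2 with hc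
    set d := M 1 0 with hd'
    set e := M 1 1 with he
    set f := M 1 2 with hf
    set g := M 2 0 with hg
    set h := M 2 1 with hh
    set i := M 2 2 with hi
    have C0 : a ^ 2 = e * i - f * h := by
      have := congrFun (congrFun hadj 0) 0
      rw [Matrix.adjugate_fin_three] at this
      simpa [hσ] using this
    have C1 : e ^ 2 = a * i - c * g := by
      have := congrFun (congrFun hadj 1) 1
      rw [Matrix.adjugate_fin_three] at this
      simpa [hσ] using this
    have C2 : i ^ 2 = a * e - b * d := by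
      have := congrFun (congrFun hadj 2) 2
      rw [Matrix.adjugate_fin_three] at this
      simpa [hσ] using this
    have hN : ∀ x : F, x ^ 3 = 0 ∧ x = 0 ∨ x ^ 3 = 1 ∧ x ≠ 0 := fun x => by
      rcases eq_or_ne x 0 with rfl | hx
      · simp
      · exact Or.inr ⟨hcube x hx, hx⟩
    have R0 : a ^ 3 + b ^ 3 + c ^ 3 = 1 := by
      have := congrFun (congrFun hM2 0) 0
      simp [Matrix.mul_apply, Fin.sum_univ_three, hσ] at this
      linear_combination this
    have R1 : d ^ 3 + e ^ 3 + f ^ 3 = 1 := by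
      have := congrFun (congrFun hM2 1) 1
      simp [Matrix.mul_apply, Fin.sum_univ_three, hσ] at this
      linear_combination this
    have R2 : g ^ 3 + h ^ 3 + i ^ 3 = 1 := by
      have := congrFun (congrFun hM2 2) 2
      simp [Matrix.mul_apply, Fin.sum_univ_three, hσ] at this
      linear_combination this
    have K0 : a ^ 3 + d ^ 3 + g ^ 3 = 1 := by
      have := congrFun (congrFun hM 0) 0
      simp [Matrix.mul_apply, Fin.sum_univ_three, hσ] at this
      linear_combination this
    have K1 : b ^ 3 + e ^ 3 + h ^ 3 = 1 := by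
      have := congrFun (congrFun hM 1) 1
      simp [Matrix.mul_apply, Fin.sum_univ_three, hσ] at this
      linear_combination this
    have K2 : c ^ 3 + f ^ 3 + i ^ 3 = 1 := by
      have := congrFun (congrFun hM 2) 2
      simp [Matrix.mul_apply, Fin.sum_univ_three, hσ] at this
      linear_combination this
    have hdet3 : a * e * i - a * f * h - b * d * i + b * f * g + c * d * h - c * e * g = 1 := by
      rw [← hd, Matrix.det_fin_three]
    have hi' : i = a + e := by linear_combination htr - (a + e) * h2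
    set s := a ^ 2 + a * e + e ^ 2 with hs
    have P0 : f * h = s := by linear_combination C0 + e * hi' - a ^ 2 * h2
    have P1 : c * g = s := by linear_combination C1 + a * hi' - e ^ 2 * h2
    have P2 : b * d = s := by linear_combination C2 - (i + a + e) * hi' - s * h2
    by_cases hs0 : s = 0
    · rw [hs0] at P0 P1 P2
      by_cases ha0 : a = 0
      · have he0 : e = 0 := by
          rw [hs, ha0] at hs0; exact pow_eq_zero_iff (by norm_num : 2 ≠ 0) |>.1 (by linear_combination hs0)
        have hi0 : i = 0 := by rw [hi', ha0, he0, add_zero]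
        simp only [ha0, he0, hi0, zero_pow three_ne_zero, zero_add, add_zero] at R0 R1 R2 K0 K1 K2 hdet3
        by_cases hb0 : b = 0
        · -- pattern two
          have hc0 : c ≠ 0 := fun h0 => by simp [hb0, h0] at R0
          have hg0 : g = 0 := (mul_eq_zero.1 P1).resolve_left hc0
          have hf0 : f = 0 := by
            by_contra h0
            rw [hcube f h0, hcube c hc0] at K2
            exact one_ne_zero (α := F) (by linear_combination K2)
          have hd0 : d ≠ 0 := fun h0 => by simp [hf0, h0] at R1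
          have hh0 : h ≠ 0 := fun h0 => by simp [hg0, h0] at R2
          refine ⟨c, d / c, 2, hc0, div_ne_zero hd0 hc0, ?_⟩
          have key : h = c * (d / c) ^ 2 := by
            field_simp
            simp only [hb0, hg0, hf0, mul_zero, zero_mul, sub_zero, zero_add, add_zero, zero_sub, neg_zero] at hdet3
            linear_combination d ^ 2 * hdet3 - c * h * hcube d hd0
          ext u v
          fin_cases u <;> fin_cases v <;>
            simp [mon, ← ha, ← hb, ← hc, ← hd', ← he, ← hf, ← hg, ← hh, ← hi, ha0, he0, hi0, hb0, hg0, hf0, key,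
              mul_div_cancel₀ _ hc0]
        · -- pattern one
          have hd0 : d = 0 := (mul_eq_zero.1 P2).resolve_left hb0
          have hc0 : c = 0 := by
            by_contra h0
            rw [hcube b hb0, hcube c h0] at R0
            exact one_ne_zero (α := F) (by linear_combination h2 - R0)
          have hh0 : h = 0 := by
            by_contra h0
            rw [hcube b hb0, hcube h h0] at K1
            exact one_ne_zero (α := F) (by linear_combination h2 - K1)
          have hf0 : f ≠ 0 := fun h0 => by simp [hd0, h0] at R1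
          have hg0 : g ≠ 0 := fun h0 => by simp [hh0, h0] at R2
          refine ⟨b, f / b, 1, hb0, div_ne_zero hf0 hb0, ?_⟩
          have key : g = b * (f / b) ^ 2 := by
            field_simp
            simp only [hc0, hd0, hh0, mul_zero, zero_mul, sub_zero, zero_add, add_zero, zero_sub, neg_zero] at hdet3
            linear_combination f ^ 2 * hdet3 - b * g * hcube f hf0
          ext u v
          fin_cases u <;> fin_cases v <;>
            simp [mon, ← ha, ← hb, ← hc, ← hd', ← he, ← hf, ← hg, ← hh, ← hi, ha0, he0, hi0, hd0, hc0, hh0, key,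
              mul_div_cancel₀ _ hb0]
      · -- diagonal
        have he0 : e ≠ 0 := fun h0 => ha0 (by
          rw [hs, h0] at hs0; exact pow_eq_zero_iff (by norm_num : 2 ≠ 0) |>.1 (by linear_combination hs0))
        have hi0 : i ≠ 0 := fun h0 => ha0 (by
          rw [hi', add_eq_zero_iff_eq_neg, CharTwo.neg_eq] at h0
          rw [hs, ← h0] at hs0
          exact pow_eq_zero_iff (by norm_num : 2 ≠ 0) |>.1 (by linear_combination hs0 - a ^ 2 * h2))
        rw [hcube a ha0] at R0 K0
        rw [hcube e he0] at R1 K1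
        rw [hcube i hi0] at R2 K2
        obtain ⟨hb0, hc0, hd0, hf0, hg0, hh0⟩ : b = 0 ∧ c = 0 ∧ d = 0 ∧ f = 0 ∧ g = 0 ∧ h = 0 := by
          rcases hN b with ⟨e1, z1⟩ | ⟨e1, z1⟩ <;> rcases hN c with ⟨e2, z2⟩ | ⟨e2, z2⟩ <;>
            rcases hN d with ⟨e3, z3⟩ | ⟨e3, z3⟩ <;> rcases hN f with ⟨e4, z4⟩ | ⟨e4, z4⟩ <;>
            rcases hN g with ⟨e5, z5⟩ | ⟨e5, z5⟩ <;> rcases hN h with ⟨e6, z6⟩ | ⟨e6, z6⟩ <;>
            simp [e1, e2, e3, e4, e5, e6, z1, z2, z3, z4, z5, z6, CharTwo.add_self_eq_zero] at R0 R1 R2 K0 K1 K2 P0 P1 P2 ⊢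
        refine ⟨a, e / a, 0, ha0, div_ne_zero he0 ha0, ?_⟩
        have key : i = a * (e / a) ^ 2 := by
          field_simp
          linear_combination -C1 + g * hc0
        ext u v
        fin_cases u <;> fin_cases v <;>
          simp [mon, ← ha, ← hb, ← hc, ← hd', ← he, ← hf, ← hg, ← hh, ← hi, hb0, hc0, hd0, hf0, hg0, hh0, key,
            mul_div_cancel₀ _ ha0]
    · -- no such matrix
      exfalso
      have hb0 : b ≠ 0 := fun h0 => hs0 (by rw [← P2, h0, zero_mul])
      have hc0 : c ≠ 0 := fun h0 => hs0 (by rw [← P1, h0, zero_mul])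
      have hd0 : d ≠ 0 := fun h0 => hs0 (by rw [← P2, h0, mul_zero])
      have hf0 : f ≠ 0 := fun h0 => hs0 (by rw [← P0, h0, zero_mul])
      have hg0 : g ≠ 0 := fun h0 => hs0 (by rw [← P1, h0, mul_zero])
      have hh0 : h ≠ 0 := fun h0 => hs0 (by rw [← P0, h0, mul_zero])
      rw [hcube b hb0, hcube c hc0] at R0
      rw [hcube d hd0, hcube f hf0] at R1
      rw [hcube g hg0, hcube h hh0] at R2
      have ha3 : a ^ 3 = 1 := by linear_combination R0 - h2
      have he3 : e ^ 3 = 1 := by linear_combination R1 - h2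
      have hi0 : i ≠ 0 := fun h0 => by
        rw [h0] at R2
        exact one_ne_zero (α := F) (by linear_combination h2 - R2)
      apply hs0
      apply mul_left_cancel₀ hi0
      rw [mul_zero, hs, hi']
      linear_combination ha3 - he3 + (a ^ 2 * e + a * e ^ 2 + e ^ 3) * h2
  refine ⟨Q, ?_, ?_, ?_, ?_, ?_⟩
  · rintro a ⟨x, r, j, hx, hr, ha⟩
    rw [mul_one, ha, hu x r j hx hr]
  · rintro a ⟨x, r, j, hx, hr, ha⟩ b ⟨y, s, l, hy, hs, hb⟩
    refine mem_scalars_of_comm (c := s ^ (j : ℕ) * (r ^ (l : ℕ))⁻¹) ?_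
    have hr0 : r ^ (l : ℕ) ≠ 0 := pow_ne_zero _ hr
    have h1 : (a : Matrix (Fin 3) (Fin 3) F) * (b : Matrix (Fin 3) (Fin 3) F) =
        (s ^ (j : ℕ) * (r ^ (l : ℕ))⁻¹) • ((b : Matrix (Fin 3) (Fin 3) F) * (a : Matrix (Fin 3) (Fin 3) F)) := by
      rw [ha, hb, mon_mul (hcube s hs), mon_mul (hcube r hr), ← mon_smul, add_comm l j, mul_comm s r]
      congr 1
      field_simp
    rw [commutatorElement_def, Units.val_mul, Units.val_mul, Units.val_mul, h1, Matrix.smul_mul, Matrix.smul_mul]
    simp [mul_assoc]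
  · set C := Algebra.adjoin F (matrixSet Q) with hC
    have mkQ : ∀ (x r : F) (j : Fin 3), x ≠ 0 → r ≠ 0 → mon x r j ∈ C := fun x r j hx hr =>
      Algebra.subset_adjoin ⟨Matrix.GeneralLinearGroup.mkOfDetNeZero (mon x r j)
        (by rw [hdet x r j hx hr]; exact one_ne_zero), ⟨x, r, j, hx, hr, rfl⟩, rfl⟩
    obtain ⟨w, hw0, hw1⟩ : ∃ w : F, w ≠ 0 ∧ w ≠ 1 := by
      have : 1 < (({0, 1} : Finset F)ᶜ).card + 0 := by
        rw [Finset.card_compl, h4, Finset.card_pair (zero_ne_one), add_zero]
        norm_num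
      obtain ⟨w, hw⟩ := Finset.card_pos.1 (by omega : 0 < (({0, 1} : Finset F)ᶜ).card)
      exact ⟨w, by simpa using hw⟩
    have hsum : 1 + w + w * w = 0 := by
      apply mul_left_cancel₀ (sub_ne_zero.2 hw1)
      linear_combination hcube w hw0
    have hw2 : w * w ≠ 0 := mul_ne_zero hw0 hw0
    have he : Matrix.single (0 : Fin 3) (0 : Fin 3) (1 : F) ∈ C := by
      have h1 := C.add_mem (C.add_mem C.one_mem (mkQ 1 w 0 one_ne_zero hw0)) (mkQ 1 (w * w) 0 one_ne_zero hw2)
      convert h1 using 1
      ext u v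
      fin_cases u <;> fin_cases v <;> simp [mon, Matrix.single, Matrix.one_apply] <;>
        first
          | linear_combination h2
          | linear_combination -h2
          | linear_combination hsum
          | linear_combination -hsum
          | linear_combination hsum + w * hcube w hw0
          | linear_combination -hsum - w * hcube w hw0
    have hall : ∀ u v, Matrix.single u v (1 : F) ∈ C := by
      intro u v
      have h1 := C.mul_mem (C.mul_mem (mkQ 1 1 (-u) one_ne_zero one_ne_zero) he) (mkQ 1 1 v one_ne_zero one_ne_zero)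
      convert h1 using 1
      ext p q
      have e1 : ∀ (X : Matrix (Fin 3) (Fin 3) F) (j m n : Fin 3), (mon (1 : F) 1 j * X) m n = X (m + j) n := by
        intro X j m n
        simp [mon, Matrix.mul_apply]
      have e2 : ∀ (X : Matrix (Fin 3) (Fin 3) F) (j m n : Fin 3), (X * mon (1 : F) 1 j) m n = X m (n - j) := by
        intro X j m n
        rw [Matrix.mul_apply, Finset.sum_eq_single (n - j)]
        · simp [mon]
        · intro w _ hw
          simp only [mon, Matrix.of_apply]
          rw [if_neg (fun h => hw (by rw [h, add_sub_cancel_right])), mul_zero]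
        · simp
      rw [e2, e1]
      simp only [Matrix.single, Matrix.of_apply]
      refine if_congr ?_ rfl rfl
      constructor <;> rintro ⟨h3, h4⟩
      · subst h3 h4; simp
      · exact ⟨(neg_add_eq_zero.1 (by rw [add_comm]; exact h3.symm)), (sub_eq_zero.1 h4.symm).symm⟩
    refine eq_top_iff.2 fun X _ => ?_
    rw [Matrix.matrix_eq_sum_single X]
    exact C.toSubmodule.sum_mem fun u _ => C.toSubmodule.sum_mem fun v _ => by
      have := C.smul_mem (hall u v) (X u v)
      rwa [Matrix.smul_single, smul_eq_mul, mul_one] at this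
  · rintro a ⟨x, r, j, hx, hr, ha⟩
    exact Units.ext (by rw [Units.val_pow_eq_pow_val, ha, hcube' x r j hx hr, Units.val_one])
  · rintro g ⟨l, hl0, hl⟩ a ⟨x, r, j, hx, hr, ha⟩
    have hl1 : l = 1 := by
      have h1 := congrFun (congrFun hl 0) 0
      simp [Matrix.mul_apply, Fin.sum_univ_three, hσ] at h1
      have h3 : l * l = l := by
        have hN2 : ∀ z : F, (z * z ^ 2) * (z * z ^ 2) = z * z ^ 2 := fun z => by
          rcases eq_or_ne z 0 with rfl | hz
          · simp
          · linear_combination (z * z ^ 2) * hcube z hz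
        rw [← h1, CharTwo.add_mul_self, CharTwo.add_mul_self, hN2, hN2, hN2]
      exact mul_left_cancel₀ hl0 (by rw [h3, mul_one])
    rw [hl1, one_smul, mul_one] at hl
    set A := (g : Matrix (Fin 3) (Fin 3) F) with hA
    set B := ((g⁻¹ : GL (Fin 3) F) : Matrix (Fin 3) (Fin 3) F) with hB
    have hBu : Bᵀ * B.map σ = 1 := by
      have e1 : Aᵀ * Bᵀ = 1 := by rw [← Matrix.transpose_mul, hA, hB, Units.inv_mul, Matrix.transpose_one]
      have e2 : A.map σ * B.map σ = 1 := by
        rw [← Matrix.map_mul, hA, hB, Units.mul_inv, Matrix.map_one σ (map_zero σ) (map_one σ)]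
      have e1' : Bᵀ * Aᵀ = 1 := by rw [← Matrix.transpose_mul, hA, hB, Units.mul_inv, Matrix.transpose_one]
      calc Bᵀ * B.map σ = Bᵀ * (Aᵀ * A.map σ) * B.map σ := by rw [hl, mul_one]
        _ = (Bᵀ * Aᵀ) * (A.map σ * B.map σ) := by simp only [mul_assoc]
        _ = 1 := by rw [e1', e2, mul_one]
    have hval : ((g * a * g⁻¹ : GL (Fin 3) F) : Matrix (Fin 3) (Fin 3) F) = A * mon x r j * B := by
      rw [Units.val_mul, Units.val_mul, ha]
    have hunit : (A * mon x r j * B)ᵀ * (A * mon x r j * B).map σ = 1 := by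
      rw [Matrix.transpose_mul, Matrix.transpose_mul, Matrix.map_mul, Matrix.map_mul]
      calc Bᵀ * ((mon x r j)ᵀ * Aᵀ) * (A.map σ * (mon x r j).map σ * B.map σ)
          = Bᵀ * ((mon x r j)ᵀ * (Aᵀ * A.map σ) * (mon x r j).map σ) * B.map σ := by simp only [mul_assoc]
        _ = 1 := by rw [hl, mul_one, hu x r j hx hr, mul_one, hBu]
    have hdet' : (A * mon x r j * B).det = 1 := by
      rw [hA, hB, Matrix.det_units_conj, hdet x r j hx hr]
    have htr : ∀ M : Matrix (Fin 3) (Fin 3) F, M 0 0 + M 1 1 + M 2 2 = M.trace := fun M =>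
      (Matrix.trace_fin_three M).symm
    by_cases hsc : j = 0 ∧ r = 1
    · obtain ⟨rfl, rfl⟩ := hsc
      refine ⟨x, 1, 0, hx, one_ne_zero, ?_⟩
      rw [hval, show mon x 1 0 = x • (1 : Matrix (Fin 3) (Fin 3) F) by rw [← mon_one, ← mon_smul, mul_one],
        Matrix.mul_smul, mul_one, Matrix.smul_mul, hA, hB, Units.mul_inv]
    · obtain ⟨x', r', j', hx', hr', h'⟩ := hclass _ hunit hdet' (by
        rw [htr, hA, hB, Matrix.trace_units_conj, ← htr]
        fin_cases j <;> simp [mon] at hsc ⊢
        apply mul_left_cancel₀ (sub_ne_zero.2 hsc)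
        linear_combination x * hcube r hr)
      exact ⟨x', r', j', hx', hr', by rw [hval, h']⟩

end Cfsg.Agent.AschFormHeis
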