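/-
Aschbacher's theorem with a form, part 15: hermitian congruences and two-dimensional factors.
-/
import Cfsg.Agent.Lib.AschFormMono
import Cfsg.Agent.Lib.AschFormSub
import Cfsg.Agent.Lib.HermitianFactor

set_option autoImplicit false
set_option linter.unusedSectionVars false

namespace Cfsg.Agent.AschFormUnit

open scoped Matrix Kronecker
open Cfsg Cfsg.Geo Cfsg.Agent.AschPrimeBasic Cfsg.Agent.AschPrimeForms Cfsg.Agent.AschGenAlgebra
  Cfsg.Agent.AschGenTensor Cfsg.Agent.AschFormBasic Cfsg.Agent.AschFormTensor Cfsg.Agent.AschFormAlg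
  Cfsg.Agent.AschFormWreath Cfsg.Agent.AschFormStruct Cfsg.Agent.AschFormMono Cfsg.Agent.AschPrimeUnitary
  Cfsg.Agent.AschGenExtra Cfsg.Agent.AschFine

variable {F : Type*} [Field F] [Fintype F] {n q : ℕ}

lemma herm_formData (hF : Fintype.card F = q ^ 2) : FormData (fr hF) 1 (hermForm n F q) :=
  ⟨sesq_of_unitary (herm_unitary hF), fr_fr hF, by simp, (herm_unitary hF).nondegenerate,
    fun v w => by rw [one_mul]; exact (herm_unitary hF).herm v w⟩

lemma gu_isos {H : Subgroup (GL (Fin n) F)} (hH : H ≤ Cfsg.GU n F q) : Isos H (hermForm n F q) :=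
  fun g hg u v => hH hg u v

/-- Hilbert's theorem 90 for the involution -/
lemma exists_conj_ratio (hF : Fintype.card F = q ^ 2) {a : F} (ha : a * fr hF a = 1) :
    ∃ y : F, y ≠ 0 ∧ fr hF y * a = y := by
  by_cases h1 : a = 1
  · exact ⟨1, one_ne_zero, by rw [h1, map_one, one_mul]⟩
  by_cases h2 : a = -1
  · obtain ⟨c, hc, hcc⟩ := OrthUnitaryHerm.exists_skew hF
    refine ⟨c, hc, ?_⟩
    rw [h2, fr_apply]
    linear_combination -hcc
  · refine ⟨1 + a, fun h => h2 (by linear_combination h), ?_⟩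
    rw [map_add, map_one]
    linear_combination ha

/-- non-degenerate hermitian matrices are standard up to congruence -/
lemma exists_herm_root (hF : Fintype.card F = q ^ 2) {k : ℕ} {G : Matrix (Fin k) (Fin k) F}
    (hG : Gᵀ.map (fr hF) = G) (hd : IsUnit G.det) :
    ∃ T : GL (Fin k) F, (T : Matrix (Fin k) (Fin k) F)ᵀ * (T : Matrix (Fin k) (Fin k) F).map (fr hF) = G := by
  obtain ⟨c, hc⟩ : ∃ c, fr hF c ≠ c := by
    by_contra h
    push Not at h
    exact (herm_unitary (n := 1) hF).ne_refl (RingEquiv.ext h)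
  have hu : IsUnit Gᵀ := (Matrix.isUnit_iff_isUnit_det _).2 (by rwa [Matrix.det_transpose])
  have hfix : HermitianFactor.ct (fr hF : F →+* F) Gᵀ = Gᵀ := by
    show (Gᵀ.map (fr hF))ᵀ = Gᵀ
    rw [hG]
  obtain ⟨s, -, hs, he⟩ := HermitianFactor.exists_factor (σ := (fr hF : F →+* F)) (fr_fr hF) c hc hu hfix
  refine ⟨hs.unit, ?_⟩
  have h1 := congrArg Matrix.transpose he
  rw [Matrix.transpose_mul, Matrix.transpose_transpose] at h1
  rw [IsUnit.unit_spec]
  exact h1.trans (by simp)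

/-- two hermitian matrices are congruent -/
lemma herm_congr (hF : Fintype.card F = q ^ 2) {k : ℕ} {G G' : Matrix (Fin k) (Fin k) F}
    (hG : Gᵀ.map (fr hF) = G) (hd : IsUnit G.det) (hG' : G'ᵀ.map (fr hF) = G') (hd' : IsUnit G'.det) :
    ∃ S : GL (Fin k) F, (S : Matrix (Fin k) (Fin k) F)ᵀ * G * (S : Matrix (Fin k) (Fin k) F).map (fr hF) = G' := by
  obtain ⟨T, hT⟩ := exists_herm_root hF hG hd
  obtain ⟨T', hT'⟩ := exists_herm_root hF hG' hd'
  refine ⟨T⁻¹ * T', ?_⟩
  rw [← hT, ← hT', Units.val_mul, Matrix.transpose_mul, map_mul_map]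
  have e1 : ((T⁻¹ : GL (Fin k) F) : Matrix (Fin k) (Fin k) F)ᵀ * (T : Matrix (Fin k) (Fin k) F)ᵀ = 1 := by
    rw [← Matrix.transpose_mul, Units.mul_inv, Matrix.transpose_one]
  have e2 : (T : Matrix (Fin k) (Fin k) F).map (fr hF) * ((T⁻¹ : GL (Fin k) F) : Matrix (Fin k) (Fin k) F).map (fr hF)
      = 1 := by
    rw [← map_mul_map, Units.mul_inv, map_one_mat]
  simp only [mul_assoc]
  rw [← mul_assoc (((T⁻¹ : GL (Fin k) F) : Matrix (Fin k) (Fin k) F)ᵀ), e1, one_mul, ← mul_assoc _ _ ((T' :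
    Matrix (Fin k) (Fin k) F).map (fr hF)), e2, one_mul]

/-- the power of the plane form is alternating or symmetric -/
lemma pure_planeJ (t : ℕ) (ht : 0 < t) :
    (pureMat fun _ : Fin t => (planeJ : Matrix (Fin 2) (Fin 2) F))ᵀ =
      ((-1 : F) ^ t) • (pureMat fun _ : Fin t => (planeJ : Matrix (Fin 2) (Fin 2) F)) ∧
    ∀ x, (pureMat fun _ : Fin t => (planeJ : Matrix (Fin 2) (Fin 2) F)) x x = 0 := by
  have hJ : (planeJ : Matrix (Fin 2) (Fin 2) F)ᵀ = (-1 : F) • planeJ := by
    ext i j; fin_cases i <;> fin_cases j <;> simp [planeJ]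
  refine ⟨?_, fun x => ?_⟩
  · rw [pureMat_transpose, hJ, pureMat_smul (fun _ => (-1 : F)), Finset.prod_const, Finset.card_univ, Fintype.card_fin]
  · rw [pureMat, Matrix.of_apply]
    refine Finset.prod_eq_zero (Finset.mem_univ ⟨0, ht⟩) ?_
    generalize x ⟨0, ht⟩ = i
    fin_cases i <;> simp [planeJ]

/-- tensor powers of planes are defined over the subfield of index two -/
theorem wreath_two (hF : Fintype.card F = q ^ 2) (hn : n ≠ 0) {H : Subgroup (GL (Fin n) F)} (hH : H ≤ Cfsg.GU n F q)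
    {t : ℕ} (ht : 2 ≤ t) {e : Fin n ≃ (Fin t → Fin 2)} {P : GL (Fin n) F} {c : F} (hc : c ≠ 0)
    {G : Matrix (Fin 2) (Fin 2) F} (hG : Gᵀ.map (fr hF) = G) (hd : IsUnit G.det)
    (hgram : gramP (fr hF) (hermForm n F q) e P = c • pureMat fun _ => G)
    (hle : H ≤ tensorWreathSubgroup 2 t e P) :
    ∃ M, UnitFine n F q M ∧ H ≤ M := by
  haveI : Nonempty (Fin n) := ⟨⟨0, by omega⟩⟩
  set σ := fr hF with hσ
  have hf := herm_formData (n := n) hF
  obtain ⟨ζ, hζ0, hζq⟩ := OrthUnitaryHerm.exists_skew hF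
  have hζ : σ ζ = -ζ := by rw [hσ, fr_apply]; linear_combination hζq
  have hJ : (ζ • (planeJ : Matrix (Fin 2) (Fin 2) F))ᵀ.map σ = ζ • planeJ := by
    ext i j; fin_cases i <;> fin_cases j <;> simp [planeJ, hζ, -fr_apply]
  have hJd : IsUnit (ζ • (planeJ : Matrix (Fin 2) (Fin 2) F)).det :=
    isUnit_iff_ne_zero.2 (by simp [planeJ, Matrix.det_fin_two, hζ0])
  obtain ⟨S, hS⟩ := herm_congr hF hG hd hJ hJd
  obtain ⟨P', hle', hgram'⟩ := rebase_power e P hgram S (G' := (planeJ : Matrix (Fin 2) (Fin 2) F)) (l := ζ) hS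
  set μ := c * ζ ^ t with hμdef
  have hμ : μ ≠ 0 := mul_ne_zero hc (pow_ne_zero _ hζ0)
  have hJ0 : (planeJ : Matrix (Fin 2) (Fin 2) F) ≠ 0 := fun h => one_ne_zero (α := F) (by
    simpa [planeJ] using congrFun (congrFun h 0) 1)
  have hsub : H ≤ subfieldSubgroup (fixedField σ) P' := by
    intro h hh
    obtain ⟨τ, gs, hval, hsim⟩ := wreath_similar hf hμ hgram' hJ0 (hle' (hle hh)) (gu_isos hH h hh)
    have hrat : ∀ i, ∃ d : F, (gs i : Matrix (Fin 2) (Fin 2) F).map σ = d • (gs i : Matrix (Fin 2) (Fin 2) F) := by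
      intro i
      obtain ⟨l, -, hl⟩ := hsim i
      have hdet : (gs i : Matrix (Fin 2) (Fin 2) F).det ≠ 0 := (Matrix.isUnits_det_units (gs i)).ne_zero
      refine ⟨l / (gs i : Matrix (Fin 2) (Fin 2) F).det, ?_⟩
      have hu : IsUnit ((gs i : Matrix (Fin 2) (Fin 2) F)ᵀ * planeJ).det := by
        rw [Matrix.det_mul, Matrix.det_transpose]
        exact (Matrix.isUnits_det_units (gs i)).mul (isUnit_iff_ne_zero.2 (by simp [planeJ, Matrix.det_fin_two]))
      have h1 : ((gs i : Matrix (Fin 2) (Fin 2) F)ᵀ * planeJ) * (gs i : Matrix (Fin 2) (Fin 2) F).map σ =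
          ((gs i : Matrix (Fin 2) (Fin 2) F)ᵀ * planeJ) *
            ((l / (gs i : Matrix (Fin 2) (Fin 2) F).det) • (gs i : Matrix (Fin 2) (Fin 2) F)) := by
        rw [hl, Matrix.mul_smul, planeJ_transform, smul_smul, div_mul_cancel₀ _ hdet]
      have h3 := congrArg (((gs i : Matrix (Fin 2) (Fin 2) F)ᵀ * planeJ)⁻¹ * ·) h1
      simpa only [Matrix.nonsing_inv_mul_cancel_left _ _ hu] using h3
    choose d hd using hrat
    have key : (((P'⁻¹) * h * (P'⁻¹)⁻¹ : GL (Fin n) F) : Matrix (Fin n) (Fin n) F).map σ =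
        (∏ i, d i) • (((P'⁻¹) * h * (P'⁻¹)⁻¹ : GL (Fin n) F) : Matrix (Fin n) (Fin n) F) := by
      rw [inv_inv, Units.val_mul, Units.val_mul, hval]
      simp only [mul_assoc, Units.inv_mul_cancel_left, Units.inv_mul, mul_one]
      rw [pull_map, map_mul_map, pureMat_map, permMat_map]
      simp only [hd]
      rw [pureMat_smul, Matrix.smul_mul, map_smul]
    have := mem_subfieldSubgroup key
    rwa [inv_inv] at this
  have hJJ := pure_planeJ (F := F) t (by omega)
  refine AschFormSub.unitary_index2 hF hn hH hsub hμ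
    (G₀ := pull e (pureMat fun _ : Fin t => (planeJ : Matrix (Fin 2) (Fin 2) F))) ?_ ?_ ?_ ?_
  · have h1 := pull_gramP σ (hermForm n F q) e P'
    rw [hgram', map_smul, gram_herm hF, mul_one] at h1
    exact h1.symm
  · rw [pull_map, pureMat_map]
    congr 2
    funext i
    ext a b; fin_cases a <;> fin_cases b <;> simp [planeJ, -fr_apply]
  · rw [pull_det]
    have h1 := gramP_det hf e P'
    rw [hgram', Matrix.det_smul] at h1
    exact (IsUnit.mul_iff.1 h1).2
  · by_cases hodd : Odd q ∧ Even t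
    · refine Or.inl ⟨?_, hodd.1⟩
      rw [pull_transpose, hJJ.1, hodd.2.neg_one_pow, one_smul]
    · refine Or.inr ⟨?_, fun i => ?_⟩
      · rw [pull_transpose, hJJ.1]
        by_cases hq : Odd q
        · have hto : Odd t := Nat.not_even_iff_odd.1 fun h => hodd ⟨hq, h⟩
          rw [hto.neg_one_pow, neg_one_smul, map_neg]
        · have h2 : (2 : F) = 0 := by
            by_contra h2
            have h1 := odd_card_of_two_ne_zero h2
            rw [hF] at h1
            exact hq (Nat.Odd.of_mul_left (sq q ▸ h1))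
          have hm : (-1 : F) = 1 := by linear_combination -h2
          rw [hm, one_pow, one_smul]
          ext a b
          rw [Matrix.neg_apply]
          linear_combination (pull e (pureMat fun _ : Fin t => (planeJ : Matrix (Fin 2) (Fin 2) F)) a b) * h2
      · rw [pull_apply]
        exact hJJ.2 _

end Cfsg.Agent.AschFormUnit
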