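/-
Aschbacher's theorem with a form: the unitary groups.
-/
import Cfsg.Agent.Lib.AschFormUnitBase
import Cfsg.Agent.Lib.AschFormHeis
import Cfsg.Agent.Lib.AschFormExtra
import Cfsg.Agent.Lib.AschFormPower
import Cfsg.Agent.Lib.AschFormTwist
import Cfsg.Agent.Lib.AschFormCore

set_option autoImplicit false
set_option linter.unusedSectionVars false

namespace Cfsg.Agent.AschFormUnit

open scoped Matrix Kronecker commutatorElement
open Cfsg Cfsg.Geo Cfsg.Agent.AschPrimeBasic Cfsg.Agent.AschPrimeForms Cfsg.Agent.AschPrimeCore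
  Cfsg.Agent.AschGenAlgebra Cfsg.Agent.AschGenTensor Cfsg.Agent.AschGenExtra Cfsg.Agent.AschFormBasic
  Cfsg.Agent.AschFormTensor Cfsg.Agent.AschFormAlg Cfsg.Agent.AschFormCore Cfsg.Agent.AschFormWreath
  Cfsg.Agent.AschFormStruct Cfsg.Agent.AschFormMono Cfsg.Agent.AschPrimeUnitary Cfsg.Agent.AschFine

variable {F : Type*} [Field F] [Fintype F] {n q : ℕ}

/-- a normal class-2 group gives class five or six -/
theorem extra_unitary (hF : Fintype.card F = q ^ 2) (hn : 2 ≤ n) {H N : Subgroup (GL (Fin n) F)}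
    (hH : H ≤ Cfsg.GU n F q) (hcs : CommSimple (fr hF) (hermForm n F q) H) (hNle : N ≤ H) (hnN : NormalBy H N)
    (hN : AbsIrred N) (hc : Class2 N)
    (hmin : (∀ K, K ≤ N → NormalBy H K → N ⊓ scalars (Fin n) F ≤ K → K ≤ scalars (Fin n) F ∨ K = N) ∨
      ∃ r' : ℕ, r'.Prime ∧ ∀ x ∈ N, x ^ r' = 1) :
    ∃ M, UnitFine n F q M ∧ H ≤ M := by
  haveI : Nonempty (Fin n) := ⟨⟨0, by omega⟩⟩
  have hf := herm_formData (n := n) hF
  have hI := gu_isos hH
  have h4 : (2 : F) ≠ 0 → 4 ∣ Fintype.card F - 1 := by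
    intro h2
    have h1 := odd_card_of_two_ne_zero h2
    rw [hF] at h1
    obtain ⟨j, rfl⟩ : Odd q := Nat.Odd.of_mul_left (sq q ▸ h1)
    rw [hF]
    refine ⟨j * j + j, ?_⟩
    have : (2 * j + 1) ^ 2 = 4 * (j * j + j) + 1 := by ring
    omega
  obtain ⟨r, z, m, p, e, R, hr, hnr, hm, hz, hpp, hpc, hcard, hrp, hzdvd, hRn, hHR, hRabs, hR2, hRsup, hRz, hRel,
    hsymp, hcen, hRcard, -⟩ := AschFormExtra.extra_group (by rw [Fintype.card_fin]; exact hn) hNle hnN hN hc hmin h4
      fun A hA hAle hAc => AschFormExtra.scalar_of_commSimple hf hI hcs hA hAle hAc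
  rw [Fintype.card_fin] at hnr hRcard
  haveI := Fact.mk hpp
  haveI := hpc
  have hmult : ∀ x ∈ R, ∃ c : F, c ^ z = 1 ∧ ∀ u v, hermForm n F q ((x : Matrix (Fin n) (Fin n) F) *ᵥ u)
      ((x : Matrix (Fin n) (Fin n) F) *ᵥ v) = c * fr hF c * hermForm n F q u v := by
    intro x hx
    obtain ⟨a, ha, c, hc', hxa⟩ := hRel x hx
    refine ⟨c, hc', fun u v => ?_⟩
    rw [hxa, Matrix.smul_mulVec, Matrix.smul_mulVec, OrthUnitaryHerm.herm_smul_left,
      OrthUnitaryHerm.herm_smul_right, hI a (hNle ha), fr_apply]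
    ring
  by_cases hd : ∃ d, 0 < d ∧ d < e ∧ z ∣ p ^ d - 1
  · obtain ⟨d, hd0, hde, hdd⟩ := hd
    have hgd : z ∣ p ^ Nat.gcd d e - 1 := by
      rw [← Nat.pow_sub_one_gcd_pow_sub_one]
      exact Nat.dvd_gcd hdd hzdvd
    have hge : Nat.gcd d e < e := lt_of_le_of_lt (Nat.le_of_dvd hd0 (Nat.gcd_dvd_left d _)) hde
    obtain ⟨φ, r', hr', hcardφ, hfix⟩ := exists_maximal_subfield (F := F) hcard (Nat.gcd_dvd_right d e) hge
    have hφ : ∀ c : F, c ^ z = 1 → φ c = c := by
      intro c hc'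
      refine hfix c ?_
      obtain ⟨k, hk⟩ := hgd
      have := Nat.one_le_pow (Nat.gcd d e) p hpp.pos
      rw [show p ^ Nat.gcd d e = z * k + 1 by omega, pow_succ, pow_mul, hc', one_pow, one_mul]
    obtain ⟨B, hB⟩ := AschFormExtra.realisable_of_fixed hRabs hR2 φ fun w hw c hwc => hφ c (by
      have := congrArg (fun u : GL (Fin n) F => (u : Matrix (Fin n) (Fin n) F) (Classical.arbitrary _)
        (Classical.arbitrary _)) (hRz w hw)
      simpa [Units.val_pow_eq_pow_val, hwc, smul_pow] using this)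
    refine AschFormSub.unitary_subfield hF hn hH hRabs hRn hr' hcardφ hB fun s hs => ?_
    obtain ⟨c, hc', hcs'⟩ := hmult s hs
    exact ⟨_, by rw [map_mul, hφ c hc', show φ (fr hF c) = fr hF (φ c) from by simp, hφ c hc'], hcs'⟩
  · push Not at hd
    refine ⟨_, Or.inl (Or.inr (Or.inr (Or.inr (Or.inr (Or.inr (Or.inr (Or.inr
      ⟨r, R, p, e, m, hsymp, hRabs, fun x hx => ?_, hrp, ⟨hpp, hpc, hcard, hcen ▸ hzdvd,
        fun d h1 h2 => hcen ▸ hd d h1 h2⟩, hR2, hnr, ?_, rfl⟩))))))), le_inf hHR hH⟩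
    · obtain ⟨c, hc', hcs'⟩ := hmult x hx
      have hz0 : z ≠ 0 := by rw [hz]; split_ifs <;> [norm_num; exact hr.ne_zero]
      have hc0 : c ≠ 0 := fun h => by simp [h, zero_pow hz0] at hc'
      exact ⟨Units.mk0 (c * fr hF c) (mul_ne_zero hc0 ((map_ne_zero _).2 hc0)), hcs'⟩
    · rcases hr.eq_two_or_odd' with rfl | hro
      · right
        simp only [if_true] at hz
        subst hz
        refine ⟨rfl, ?_, hcen, ?_⟩
        · have he2 : Even e := by
            obtain ⟨p', j, hp', hpc', -, hqp⟩ := OrthUnitaryHerm.exists_prime_pow hF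
            haveI := hpc'
            have hpe : p' = p := CharP.eq F hpc' hpc
            rw [hF, hqp, hpe, ← pow_mul] at hcard
            exact ⟨j, by rw [← Nat.pow_right_injective hpp.two_le hcard]; ring⟩
          have he0 : 0 < e := by
            rcases Nat.eq_zero_or_pos e with rfl | h
            · rw [pow_zero] at hcard
              have := Fintype.one_lt_card (α := F)
              omega
            · exact h
          by_contra hne
          obtain ⟨j, hj⟩ := he2
          refine hd 2 two_pos (by omega) ?_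
          obtain ⟨i, rfl⟩ := hpp.odd_of_ne_two (Ne.symm hrp)
          refine ⟨i * i + i, ?_⟩
          have : (2 * i + 1) ^ 2 = 4 * (i * i + i) + 1 := by ring
          omega
        · rw [hRcard, hnr]; ring
      · left
        have hr2 : r ≠ 2 := by
          rintro rfl
          exact (by decide : ¬ Odd 2) hro
        rw [if_neg hr2] at hz
        subst hz
        exact ⟨hro, hcen, hm, by rw [hRcard, hnr]; ring⟩

/-- tensor powers: class seven, or six for three-dimensional factors over four elements -/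
theorem power_class (hF : Fintype.card F = q ^ 2) (hn : 2 ≤ n) {H : Subgroup (GL (Fin n) F)}
    (hH : H ≤ Cfsg.GU n F q) (hcs : CommSimple (fr hF) (hermForm n F q) H)
    {k t : ℕ} (hk : 2 ≤ k) (ht : 2 ≤ t) {e : Fin n ≃ (Fin t → Fin k)} {P : GL (Fin n) F} {c : F} (hc : c ≠ 0)
    {G : Matrix (Fin k) (Fin k) F} (hG : Gᵀ.map (fr hF) = G) (hd : IsUnit G.det)
    (hgram : gramP (fr hF) (hermForm n F q) e P = c • pureMat fun _ => G)
    (hle : H ≤ tensorWreathSubgroup k t e P) :
    ∃ M, UnitFine n F q M ∧ H ≤ M := by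
  haveI : Nonempty (Fin n) := ⟨⟨0, by omega⟩⟩
  by_cases hk2 : k = 2
  · subst hk2
    exact wreath_two hF (by omega) hH ht hc hG hd hgram hle
  have hf := herm_formData (n := n) hF
  have hσq : ⇑(fr hF) = fun x : F => x ^ q := funext fun x => fr_apply hF x
  by_cases hex : q = 2 ∧ k = 3
  · obtain ⟨hq2, rfl⟩ := hex
    obtain ⟨T, hT⟩ := herm_congr hF hG hd (G' := 1) (by rw [Matrix.transpose_one, map_one_mat]) (by simp)
    obtain ⟨P', hle', hgram'⟩ := rebase_power e P hgram T (G' := (1 : Matrix (Fin 3) (Fin 3) F)) (l := 1)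
      (by rw [one_smul]; exact hT)
    obtain ⟨Q, hQi, hQ2, hQs, hQ3, hQn⟩ := AschFormHeis.exists_heisenberg (F := F)
      (by rw [hF, hq2]; rfl) (fr hF) (fun x => by rw [fr_apply, hq2])
    obtain ⟨R, hRI, hRn, hRabs, hRc, hRm⟩ := AschFormPower.power_group hf (gu_isos hH)
      (mul_ne_zero hc (pow_ne_zero _ one_ne_zero)) one_ne_zero hgram' (hle.trans hle') Q hQi hQ2 hQs hQn
    have hR3 : ∀ x ∈ R, x ^ 3 = 1 := hRm 3 hQ3
    have hR' : R ≤ Cfsg.GU n F q := fun g hg u v => hRI g hg u v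
    have hnorm : H ⊔ R ≤ Subgroup.normalizer (R : Set (GL (Fin n) F)) := sup_le
      (fun h hh => Subgroup.mem_normalizer_iff.2 fun w => ⟨hRn h hh w, fun hw => by
        simpa [mul_assoc] using hRn h⁻¹ (H.inv_mem hh) _ hw⟩) Subgroup.le_normalizer
    obtain ⟨M, hM, hMle⟩ := extra_unitary hF hn (sup_le hH hR')
      (fun C hC => hcs C fun h hh => hC h (Subgroup.mem_sup_left hh)) le_sup_right
      (fun x hx y hy => (Subgroup.mem_normalizer_iff.1 (hnorm hx) y).1 hy) hRabs hRc
      (Or.inr ⟨3, Nat.prime_three, hR3⟩)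
    exact ⟨M, hM, le_sup_left.trans hMle⟩
  · refine ⟨_, Or.inr (Or.inr (Or.inr ⟨k, t, e, P, formOfGram (fr hF) G, by omega, ht, hex,
      unitary_of_gram (fun x => fr_apply hF x) (fr_fr hF) hd hG, ?_, rfl⟩)), le_inf hle hH⟩
    rw [← hσq]
    exact power_structure hf hc hgram

/-- the structure theorem -/
theorem unit_fine (hF : Fintype.card F = q ^ 2) (hn : 2 ≤ n) {H : Subgroup (GL (Fin n) F)}
    (hH : H ≤ Cfsg.GU n F q) : (∃ M, UnitFine n F q M ∧ H ≤ M) ∨ InUnitaryResidualClass H := by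
  classical
  haveI : Nonempty (Fin n) := ⟨⟨0, by omega⟩⟩
  have hf := herm_formData (n := n) hF
  have hI := gu_isos hH
  have hcardι : Fintype.card (Fin n) = n := Fintype.card_fin n
  have hσq : ⇑(fr hF) = fun x : F => x ^ q := funext fun x => fr_apply hF x
  by_cases hirr : ¬ Irred H
  · left
    unfold Irred at hirr
    push Not at hirr
    obtain ⟨W, hW, hb, ht⟩ := hirr
    rcases AschFormBasic.reducible hf hI hW hb ht with ⟨U, hUb, -, hUi, hU⟩ |
      ⟨U, U', hUb, hUb', hUi, hUi', hU, hU', horth, hinf, hsup, hsum⟩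
    · exact ⟨_, Or.inl (Or.inl ⟨U, hUb, hU, rfl⟩), le_inf ((inv_iff_le_stabilizer _ _).1 hUi) hH⟩
    · rw [hcardι] at hsum
      rcases Nat.lt_trichotomy (2 * Module.finrank F U) n with h | h | h
      · exact ⟨_, Or.inl (Or.inr (Or.inl ⟨U, hUb, hU, h, rfl⟩)), le_inf ((inv_iff_le_stabilizer _ _).1 hUi) hH⟩
      · obtain ⟨hD, hle⟩ := pair_decomposition (H := H) hUi hUi' (k := Module.finrank F U)
          (Nat.pos_of_ne_zero fun h0 => by rw [h0] at h; omega) rfl (by omega) hinf hsup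
        refine ⟨_, Or.inl (Or.inr (Or.inr (Or.inl ⟨2, _, ![U, U'], ⟨hD, fun i => ?_, fun i j hij => ?_⟩, rfl⟩))),
          le_inf hle hH⟩
        · fin_cases i
          · exact hU
          · exact hU'
        · fin_cases i <;> fin_cases j
          · exact absurd rfl hij
          · exact horth
          · exact fun u hu v hv => hf.symm_zero (horth v hv u hu)
          · exact absurd rfl hij
      · exact ⟨_, Or.inl (Or.inr (Or.inl ⟨U', hUb', hU', by omega, rfl⟩)),
          le_inf ((inv_iff_le_stabilizer _ _).1 hUi') hH⟩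
  push Not at hirr
  rcases alg_cases hf hI hirr with himp | ⟨r, K, hr, hK, hKs, hKn, -, hle⟩ | ⟨hcs, hten | hfs⟩
  · left
    rcases himp with ⟨t, k, D, hD, hle, -⟩ | ⟨k, D, hD, hts, hle, hkn⟩
    · exact ⟨_, Or.inl (Or.inr (Or.inr (Or.inl ⟨t, k, D, hD, rfl⟩))), le_inf hle hH⟩
    · exact ⟨_, Or.inl (Or.inr (Or.inr (Or.inr (Or.inl ⟨k, D, hkn.trans hcardι, hD, hts, rfl⟩)))), le_inf hle hH⟩
  · left
    have hro := (AschFormField.field_adj hf hr hK hKs).1 (herm_unitary (n := n) hF).ne_refl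
    exact ⟨_, Or.inr (Or.inl ⟨r, K, hr, hro, hK, StarClosed.adjointClosed hf hKs, rfl⟩), le_inf hle hH⟩
  · left
    obtain ⟨k, l, e, P, G₁, G₂, a, b, hd⟩ := hten
    obtain ⟨y, hy, hya⟩ := exists_conj_ratio hF hd.norm₁
    have hyσ : fr hF y ≠ 0 := (map_ne_zero _).2 hy
    have hG₁ : (y • G₁)ᵀ.map (fr hF) = y • G₁ := by
      rw [Matrix.transpose_smul, map_smul_mat, hd.symm₁, smul_smul, hya]
    have hG₂ : (y⁻¹ • G₂)ᵀ.map (fr hF) = y⁻¹ • G₂ := by
      rw [Matrix.transpose_smul, map_smul_mat, hd.symm₂, smul_smul, map_inv₀]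
      have hab : a * b = 1 := by simpa using hd.prod
      congr 1
      field_simp
      linear_combination fr hF y * hab - b * hya
    have hd₁ : IsUnit (y • G₁).det := by
      rw [Matrix.det_smul]; exact ((isUnit_iff_ne_zero.2 hy).pow _).mul hd.det₁
    have hd₂ : IsUnit (y⁻¹ • G₂).det := by
      rw [Matrix.det_smul]; exact ((isUnit_iff_ne_zero.2 (inv_ne_zero hy)).pow _).mul hd.det₂
    have hd' : TensorData (fr hF) 1 (hermForm n F q) H k l e P (y • G₁) (y⁻¹ • G₂) 1 1 := by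
      refine ⟨hd.two_le₁, hd.two_le₂, hd.le, ?_, hd₁, hd₂, ?_, ?_, by simp, by simp, by simp⟩
      · rw [Matrix.smul_kronecker, Matrix.kronecker_smul, smul_smul, mul_inv_cancel₀ hy, one_smul]
        exact hd.gram
      · rw [one_smul]; exact hG₁
      · rw [one_smul]; exact hG₂
    have hsw := hd'.swap
    have hu : ∀ {j : ℕ} {G : Matrix (Fin j) (Fin j) F}, IsUnit G.det → Gᵀ.map (fr hF) = G →
        IsUnitaryFormPow q (formOfGram (fr hF) G) := fun h1 h2 =>
      unitary_of_gram (fun x => fr_apply hF x) (fr_fr hF) h1 h2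
    rcases lt_trichotomy k l with h | h | h
    · refine ⟨_, Or.inr (Or.inr (Or.inl ⟨k, l, e, P, _, _, hd.two_le₁, h, hu hd₁ hG₁, hu hd₂ hG₂, ?_, rfl⟩)),
        le_inf hd.le hH⟩
      rw [← hσq]
      exact tensor_structure hf one_ne_zero (by rw [one_smul]; exact hd'.gram)
    · subst h
      obtain ⟨S, hS⟩ := herm_congr hF hG₂ hd₂ hG₁ hd₁
      obtain ⟨e', P', hle', hgram'⟩ := tensor_to_power hd' (S := S) (l := 1) (by rw [one_smul]; exact hS)
      exact power_class hF hn hH hcs hd.two_le₁ le_rfl one_ne_zero hG₁ hd₁ hgram' hle'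
    · refine ⟨_, Or.inr (Or.inr (Or.inl ⟨l, k, _, P, _, _, hd.two_le₂, h, hu hd₂ hG₂, hu hd₁ hG₁, ?_, rfl⟩)),
        le_inf hsw.le hH⟩
      rw [← hσq]
      exact tensor_structure hf one_ne_zero (by rw [one_smul]; exact hsw.gram)
  · rcases core_cases (by rw [hcardι]; omega) hirr
      (fun N hn hN => hfs.alternative hf hn fun g hg => hI g (hN hg)) with
      ⟨N, hNle, hNn, habs, hc2, hmin⟩ | ⟨t, M, hfam⟩ | ⟨P, hP⟩
    · exact Or.inl (extra_unitary hF hn hH hcs hNle hNn habs hc2 (Or.inl hmin))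
    · left
      obtain ⟨k, e, P, G, a, c, hd⟩ := wreath_form hf hI hfs hfam
      obtain ⟨y, hy, hya⟩ := exists_conj_ratio hF hd.norm
      refine power_class hF hn hH hcs hd.two_le₁ hd.two_le₂ (c := c * (y⁻¹) ^ t) (G := y • G)
        (mul_ne_zero hd.c_ne (pow_ne_zero _ (inv_ne_zero hy))) ?_ ?_ ?_ hd.le
      · rw [Matrix.transpose_smul, map_smul_mat, hd.symm, smul_smul, hya]
      · rw [Matrix.det_smul]; exact ((isUnit_iff_ne_zero.2 hy).pow _).mul hd.det
      · rw [hd.gram, pureMat_smul, smul_smul, Finset.prod_const, Finset.card_univ, Fintype.card_fin, mul_assoc,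
          ← mul_pow, inv_mul_cancel₀ hy, one_pow, mul_one]
    · by_cases hreal : ∃ F₀ : Subfield F, F₀ ≠ ⊤ ∧ RealisableOver F₀ (matrixSet P)
      · left
        obtain ⟨F₀, hne, C, hC⟩ := hreal
        obtain ⟨φ, r, hr, hcard, hfix⟩ := exists_maximal_above hne
        exact AschFormSub.unitary_subfield hF hn hH hP.absIrred hP.normal hr hcard
          (fun s hs i j => hfix _ (by simpa using hC _ ⟨s, hs, rfl⟩ i j))
          (fun s hs => ⟨1, map_one φ, fun u v => by rw [one_mul]; exact hI s (hP.le hs) u v⟩)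
      push Not at hreal
      right
      have hkey : ∀ B : (Fin n → F) → (Fin n → F) → F, IsBilinearForm B → IsNondegenerateForm B →
          FixesForm (matrixSet P) B → False := by
        intro B hB hBn hfix
        have hses := sesq_of_bilinear hB
        refine hreal _ (fixed_fr_ne_top hF) (AschFormTwist.realisable_of_pair hF
          (isUnit_iff_ne_zero.2 (hses.det_ne_zero hBn)) hf.det hP.absIrred (fun s hs => ?_)
          fun s hs => iso_gram hf (hI s (hP.le hs)))
        simpa using (hses.similar_iff (s : Matrix (Fin n) (Fin n) F) 1).1 (fun u v => by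
          rw [one_mul]; exact hfix _ ⟨s, hs, rfl⟩ u v)
      refine ⟨P, ⟨hP.le, hP.normal, hP.perfect, hP.simple, hP.nonabelian,
        hP.centralizer_scalar, hP.absIrred, hreal⟩, ?_, fun ⟨g, hg, hfix⟩ => hkey g hg.bilinear hg.nondegenerate hfix⟩
      rintro ⟨Q, hQ, hfix⟩
      refine hkey _ hQ.polar_bilinear hQ.nondegenerate ?_
      rintro _ ⟨s, hs, rfl⟩ u v
      simpa using polar_fix (fun u v => Matrix.mulVec_add (s : Matrix (Fin n) (Fin n) F) u v) 1
        (fun v => by rw [hfix _ ⟨s, hs, rfl⟩, one_mul]) u v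

/-- the classes of the definition -/
lemma class_of_fine {M : Subgroup (GL (Fin n) F)} (h : UnitFine n F q M) : InUnitaryClass n F q M := by
  rcases h with (h | h | h | h | h | h | h | ⟨r, R, p, e, k, h1, h2, h3, h4, h5, -, -, h6, h7⟩) | h | h | h
  · exact Or.inl (Or.inl h)
  · exact Or.inl (Or.inr (Or.inl h))
  · exact Or.inl (Or.inr (Or.inr (Or.inl h)))
  · exact Or.inl (Or.inr (Or.inr (Or.inr (Or.inl h))))
  · exact Or.inl (Or.inr (Or.inr (Or.inr (Or.inr (Or.inl h)))))
  · exact Or.inl (Or.inr (Or.inr (Or.inr (Or.inr (Or.inr (Or.inl h))))))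
  · exact Or.inl (Or.inr (Or.inr (Or.inr (Or.inr (Or.inr (Or.inr (Or.inl h)))))))
  · exact Or.inl (Or.inr (Or.inr (Or.inr (Or.inr (Or.inr (Or.inr (Or.inr
      ⟨r, R, p, e, k, h1, h2, h3, h4, h5, h6, h7⟩)))))))
  · exact Or.inr (Or.inl h)
  · exact Or.inr (Or.inr (Or.inl h))
  · exact Or.inr (Or.inr (Or.inr h))

/-- the structure theorem in the classes of the definition -/
theorem unit_structure (hF : Fintype.card F = q ^ 2) (hn : 2 ≤ n) {H : Subgroup (GL (Fin n) F)}
    (hH : H ≤ Cfsg.GU n F q) : (∃ M, InUnitaryClass n F q M ∧ H ≤ M) ∨ InUnitaryResidualClass H :=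
  (unit_fine hF hn hH).imp_left fun ⟨M, hM, hle⟩ => ⟨M, class_of_fine hM, hle⟩

end Cfsg.Agent.AschFormUnit
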