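/-
Dimension case lists, part 3: small fields, where some geometric groups preserve finer structures.
-/
import Cfsg.Agent.Lib.AschFormUnit
import Cfsg.Agent.Lib.AschFormSymp
import Cfsg.Agent.Lib.AschFormOrth
import Cfsg.Agent.Lib.AschCaseProper

set_option autoImplicit false
set_option linter.unusedSectionVars false

namespace Cfsg.Agent.AschCase

open scoped Matrix Kronecker
open Cfsg Cfsg.Geo Cfsg.Agent.AschPrimeBasic Cfsg.Agent.AschPrimeForms Cfsg.Agent.AschGenTensor
  Cfsg.Agent.AschFormBasic Cfsg.Agent.AschFormTensor Cfsg.Agent.AschFormStruct Cfsg.Agent.AschPrimeUnitary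

variable {ι : Type} [Fintype ι] [DecidableEq ι] {F : Type*} [Field F] [Fintype F]
variable {σ : F ≃+* F} {ε : F} {f : (ι → F) → (ι → F) → F}

/-- a tensor structure of a form, read in coordinates -/
lemma gram_of_structure (hf : FormData σ ε f) {k m : ℕ} (hk : 0 < k) (hm : 0 < m) {f₁ : (Fin k → F) → (Fin k → F) → F}
    {f₂ : (Fin m → F) → (Fin m → F) → F} {e : ι ≃ Fin k × Fin m} {P : GL ι F}
    (h : IsTensorFormStructure σ f f₁ f₂ e P) :
    ∃ c : F, c ≠ 0 ∧ gramP σ f e P = c • (gramMatrix f₁ ⊗ₖ gramMatrix f₂) ∧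
      IsUnit (gramMatrix f₁).det ∧ IsUnit (gramMatrix f₂).det := by
  obtain ⟨c, hc, hxy⟩ := h
  have hgram : gramP σ f e P = c • (gramMatrix f₁ ⊗ₖ gramMatrix f₂) := by
    ext a b
    have h1 := hxy (Pi.single a 1) (Pi.single b 1)
    have hs : (fun d => σ ((Pi.single b 1 : Fin k × Fin m → F) d)) = Pi.single b 1 := by
      funext d
      by_cases hd : d = b <;> simp [hd]
    rw [form_coords hf, formOfGram_dot, formOfGram_dot, hs] at h1
    simpa [Matrix.mulVec_single_one] using h1
  have hd := gramP_det hf e P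
  rw [hgram, Matrix.det_smul, Matrix.det_kronecker] at hd
  have h2 := (IsUnit.mul_iff.1 hd).2
  rw [IsUnit.mul_iff, Fintype.card_fin, Fintype.card_fin] at h2
  exact ⟨c, hc, hgram, (isUnit_pow_iff (by omega)).1 h2.1, (isUnit_pow_iff (by omega)).1 h2.2⟩

/-- isometries in a tensor-product group act by similitudes on the factors -/
lemma tensor_elem (hf : FormData σ ε f) {k m : ℕ} {e : ι ≃ Fin k × Fin m} {P h : GL ι F} {c : F} (hc : c ≠ 0)
    {G₁ : Matrix (Fin k) (Fin k) F} {G₂ : Matrix (Fin m) (Fin m) F} (hG₁ : G₁ ≠ 0) (hG₂ : G₂ ≠ 0)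
    (hgram : gramP σ f e P = c • (G₁ ⊗ₖ G₂)) (hh : h ∈ tensorProductSubgroup k m e P)
    (hi : ∀ u v, f ((h : Matrix ι ι F) *ᵥ u) ((h : Matrix ι ι F) *ᵥ v) = f u v) :
    ∃ (A : GL (Fin k) F) (B : GL (Fin m) F) (l : F), l ≠ 0 ∧
      (h : Matrix ι ι F) = (P : Matrix ι ι F) * pull e ((A : Matrix (Fin k) (Fin k) F) ⊗ₖ (B : Matrix (Fin m) (Fin m) F)) *
        ((P⁻¹ : GL ι F) : Matrix ι ι F) ∧
      (A : Matrix (Fin k) (Fin k) F)ᵀ * G₁ * (A : Matrix (Fin k) (Fin k) F).map σ = l • G₁ ∧
      (B : Matrix (Fin m) (Fin m) F)ᵀ * G₂ * (B : Matrix (Fin m) (Fin m) F).map σ = l⁻¹ • G₂ := by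
  obtain ⟨_, ⟨w, ⟨A, B, hw⟩, rfl⟩, rfl⟩ := hh
  have hval : ((MulAut.conj P (glReindex e.symm w) : GL ι F) : Matrix ι ι F) = (P : Matrix ι ι F) *
      pull e ((A : Matrix (Fin k) (Fin k) F) ⊗ₖ (B : Matrix (Fin m) (Fin m) F)) * ((P⁻¹ : GL ι F) : Matrix ι ι F) := by
    rw [← hw]; rfl
  have h1 := iso_coords hf e P hi hval
  rw [hgram, Matrix.mul_smul, Matrix.smul_mul, ← Matrix.kroneckerMap_transpose, kron_map,
    ← Matrix.mul_kronecker_mul, ← Matrix.mul_kronecker_mul] at h1
  have h2 := smul_right_injective (Matrix (Fin k × Fin m) (Fin k × Fin m) F) hc h1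
  obtain ⟨l, hl, hA, hB⟩ := kron_factor h2 hG₁ hG₂
  exact ⟨A, B, l, hl, hval, hA, hB⟩

/-- swapping the factors -/
lemma gramP_swap {k m : ℕ} {e : ι ≃ Fin k × Fin m} {P : GL ι F} {c : F}
    {G₁ : Matrix (Fin k) (Fin k) F} {G₂ : Matrix (Fin m) (Fin m) F}
    (hgram : gramP σ f e P = c • (G₁ ⊗ₖ G₂)) :
    gramP σ f (e.trans (Equiv.prodComm _ _)) P = c • (G₂ ⊗ₖ G₁) := by
  ext ⟨a, b⟩ ⟨a', b'⟩
  have h1 := congrFun (congrFun hgram (b, a)) (b', a')
  simp only [gramP, Matrix.of_apply, Matrix.smul_apply, Matrix.kroneckerMap_apply, smul_eq_mul] at h1 ⊢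
  rw [show (e.trans (Equiv.prodComm _ _)).symm (a, b) = e.symm (b, a) from rfl,
    show (e.trans (Equiv.prodComm _ _)).symm (a', b') = e.symm (b', a') from rfl, h1]
  ring

/-- the operator swaps too -/
lemma pull_swap {k m : ℕ} (e : ι ≃ Fin k × Fin m) (A : Matrix (Fin k) (Fin k) F) (B : Matrix (Fin m) (Fin m) F) :
    pull (e.trans (Equiv.prodComm _ _)) (B ⊗ₖ A) = pull e (A ⊗ₖ B) := by
  ext a b
  simp [pull_apply, mul_comm]

/-- a monomial second factor gives an orthogonal decomposition -/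
theorem monomial_factor (hf : FormData σ ε f) {H : Subgroup (GL ι F)} {k m : ℕ} (hk : 0 < k) (hm : 2 ≤ m)
    {e : ι ≃ Fin k × Fin m} {P : GL ι F} {c : F} {G : Matrix (Fin k) (Fin k) F} {d : Fin m → F}
    (hgram : gramP σ f e P = c • (G ⊗ₖ Matrix.diagonal d))
    (helem : ∀ h ∈ H, ∃ (A : Matrix (Fin k) (Fin k) F) (B : Matrix (Fin m) (Fin m) F),
      (h : Matrix ι ι F) = (P : Matrix ι ι F) * pull e (A ⊗ₖ B) * ((P⁻¹ : GL ι F) : Matrix ι ι F) ∧
      ∀ b, ∃ b', ∀ b'', b'' ≠ b' → B b'' b = 0) :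
    ∃ D : Fin m → Submodule F (ι → F), IsNondegenerateMDecomposition f k D ∧ H ≤ decompositionStabilizer D := by
  classical
  let emb : Fin m → ((Fin k → F) →ₗ[F] (ι → F)) := fun b => (Matrix.toLin' (P : Matrix ι ι F)) ∘ₗ
    { toFun := fun x i => if (e i).2 = b then x (e i).1 else 0
      map_add' := fun x y => funext fun i => by by_cases h : (e i).2 = b <;> simp [h]
      map_smul' := fun a x => funext fun i => by by_cases h : (e i).2 = b <;> simp [h] }
  let crd : (ι → F) → Fin k × Fin m → F := fun v p => (((P⁻¹ : GL ι F) : Matrix ι ι F) *ᵥ v) (e.symm p)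
  have hcrd : ∀ b x p, crd (emb b x) p = if p.2 = b then x p.1 else 0 := by
    intro b x p
    simp [crd, emb]
  have hrec : ∀ v, (P : Matrix ι ι F) *ᵥ (crd v ∘ e) = v := by
    intro v
    have : crd v ∘ e = ((P⁻¹ : GL ι F) : Matrix ι ι F) *ᵥ v := funext fun i => by simp [crd]
    rw [this, mulVec_inv_mulVec]
  let D : Fin m → Submodule F (ι → F) := fun b => LinearMap.range (emb b)
  have hmem : ∀ v b, v ∈ D b ↔ ∀ p, p.2 ≠ b → crd v p = 0 := by
    intro v b
    constructor
    · rintro ⟨x, rfl⟩ p hp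
      rw [hcrd, if_neg hp]
    · intro h
      refine ⟨fun a => crd v (a, b), ?_⟩
      conv_rhs => rw [← hrec v]
      simp only [emb, LinearMap.comp_apply, Matrix.toLin'_apply]
      congr 1
      funext i
      simp only [LinearMap.coe_mk, AddHom.coe_mk, Function.comp_apply]
      split_ifs with hb
      · rw [← hb]
      · exact (h _ hb).symm
  have hinj : ∀ b, Function.Injective (emb b) := fun b x y hxy => funext fun a => by
    have := congrArg (fun v => crd v (a, b)) hxy
    simpa [hcrd] using this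
  have hrank : ∀ b, Module.finrank F (D b) = k := fun b => by
    rw [LinearMap.finrank_range_of_inj (hinj b), Module.finrank_pi, Fintype.card_fin]
  have htop : iSup D = ⊤ := by
    refine eq_top_iff.2 fun v _ => ?_
    have hv : v = ∑ b, emb b (fun a => crd v (a, b)) := by
      conv_lhs => rw [← hrec v]
      simp only [emb, LinearMap.comp_apply, Matrix.toLin'_apply, ← Matrix.mulVec_sum]
      congr 1
      funext i
      simp [Finset.sum_apply]
    rw [hv]
    exact Submodule.sum_mem _ fun b _ => Submodule.mem_iSup_of_mem b ⟨_, rfl⟩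
  have hind : iSupIndep D := by
    intro b
    rw [Submodule.disjoint_def]
    intro v hv hv'
    let Z : Submodule F (ι → F) :=
      { carrier := {w | ∀ a, crd w (a, b) = 0}
        zero_mem' := fun a => by simp [crd]
        add_mem' := fun {u w} hu hw a => by
          show crd (u + w) (a, b) = 0
          simp only [crd, Matrix.mulVec_add, Pi.add_apply]
          rw [show (((P⁻¹ : GL ι F) : Matrix ι ι F) *ᵥ u) (e.symm (a, b)) = 0 from hu a,
            show (((P⁻¹ : GL ι F) : Matrix ι ι F) *ᵥ w) (e.symm (a, b)) = 0 from hw a, add_zero]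
        smul_mem' := fun r u hu a => by
          show crd (r • u) (a, b) = 0
          simp only [crd, Matrix.mulVec_smul, Pi.smul_apply]
          rw [show (((P⁻¹ : GL ι F) : Matrix ι ι F) *ᵥ u) (e.symm (a, b)) = 0 from hu a, smul_zero] }
    have hle : (⨆ (j) (_ : j ≠ b), D j) ≤ Z := iSup₂_le fun j hj w hw a => (hmem w j).1 hw (a, b) (Ne.symm hj)
    have h0 : crd v = 0 := funext fun p => by
      by_cases hp : p.2 = b
      · have := hle hv' p.1
        rw [← hp] at this
        exact this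
      · exact (hmem v b).1 hv p hp
    rw [← hrec v, h0]
    simp
  have hcoord : ∀ u v, f u v = formOfGram σ (gramP σ f e P) (crd u) (crd v) := fun u v => by
    conv_lhs => rw [← hrec u, ← hrec v]
    exact form_coords hf e P _ _
  have horth : ∀ b b', b ≠ b' → AreOrthogonalFor f (D b) (D b') := by
    intro b b' hbb u hu v hv
    rw [hcoord, hgram, formOfGram]
    refine Finset.sum_eq_zero fun p _ => Finset.sum_eq_zero fun p' _ => ?_
    by_cases hp : p.2 = b
    · by_cases hp' : p'.2 = b'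
      · rw [Matrix.smul_apply, Matrix.kroneckerMap_apply, Matrix.diagonal_apply_ne _ (by rw [hp, hp']; exact hbb)]
        simp
      · rw [(hmem v b').1 hv p' hp']; simp
    · rw [(hmem u b).1 hu p hp]; simp
  have hnd : ∀ b, IsNondegenerateOn f (D b) := by
    intro b w hw hw0
    obtain ⟨⟨x, hx⟩, ⟨y, hy⟩⟩ := hf.nd w hw0
    have hsplit : ∀ z : ι → F, ∃ z₁ ∈ D b, ∃ z₂ ∈ ⨆ (j) (_ : j ≠ b), D j, z₁ + z₂ = z := fun z => by
      refine Submodule.mem_sup.1 ?_
      have h1 : iSup D ≤ D b ⊔ ⨆ (j) (_ : j ≠ b), D j := iSup_le fun j => by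
        rcases eq_or_ne j b with rfl | hj
        · exact le_sup_left
        · exact le_sup_of_le_right (le_iSup₂_of_le j hj le_rfl)
      exact h1 (htop ▸ Submodule.mem_top)
    let L : (ι → F) →ₗ[F] F :=
      { toFun := fun z => f z w, map_add' := fun a b => hf.sesq.add_left a b w,
        map_smul' := fun a b => hf.sesq.smul_left a b w }
    have hoth : ∀ z ∈ ⨆ (j) (_ : j ≠ b), D j, f z w = 0 ∧ f w z = 0 := fun z hz => by
      have h1 : z ∈ LinearMap.ker L :=
        (iSup₂_le fun j hj u hu => horth j b hj u hu w hw : (⨆ (j) (_ : j ≠ b), D j) ≤ LinearMap.ker L) hz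
      exact ⟨h1, hf.symm_zero h1⟩
    constructor
    · obtain ⟨x₁, hx₁, x₂, hx₂, rfl⟩ := hsplit x
      exact ⟨x₁, hx₁, fun h0 => hx (by rw [hf.sesq.add_left, h0, (hoth x₂ hx₂).1, add_zero])⟩
    · obtain ⟨y₁, hy₁, y₂, hy₂, rfl⟩ := hsplit y
      exact ⟨y₁, hy₁, fun h0 => hy (by rw [hf.sesq.add_right, h0, (hoth y₂ hy₂).2, add_zero])⟩
  refine ⟨D, ⟨⟨hm, hk, hrank, hind, htop⟩, hnd, horth⟩, fun h hh => ?_⟩
  obtain ⟨A, B, hval, hB⟩ := helem h hh
  choose π hπ using hB
  have hmap : ∀ b, (D b).map (Matrix.toLin' (h : Matrix ι ι F)) = D (π b) := by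
    intro b
    refine Submodule.eq_of_le_of_finrank_eq ?_ ?_
    · rintro _ ⟨v, hv, rfl⟩
      rw [hmem]
      intro p hp
      have hc : crd (Matrix.toLin' (h : Matrix ι ι F) v) p = ((A ⊗ₖ B) *ᵥ crd v) p := by
        simp only [crd, Matrix.toLin'_apply]
        rw [hval, Matrix.mulVec_mulVec, ← mul_assoc, ← mul_assoc, Units.inv_mul, one_mul,
          ← Matrix.mulVec_mulVec]
        simp only [Matrix.mulVec, dotProduct, pull_apply, Equiv.apply_symm_apply]
        exact Fintype.sum_equiv e _ _ fun j => by simp [crd, Matrix.mulVec, dotProduct]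
      rw [hc, Matrix.mulVec, dotProduct]
      refine Finset.sum_eq_zero fun q _ => ?_
      by_cases hq : q.2 = b
      · rw [Matrix.kroneckerMap_apply, hq, hπ b p.2 hp, mul_zero, zero_mul]
      · rw [(hmem v b).1 hv q hq, mul_zero]
    · rw [LinearEquiv.finrank_eq (Submodule.equivMapOfInjective _
        (fun x y hxy => (act h).injective (by simpa using hxy)) _).symm, hrank, hrank]
  have hπinj : Function.Injective π := fun a b hab => by
    by_contra hne
    have h1 : D a = D b := Submodule.map_injective_of_injective (f := Matrix.toLin' (h : Matrix ι ι F))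
      (fun x y hxy => (act h).injective (by simpa using hxy)) (by
        show (D a).map _ = (D b).map _
        rw [hmap, hmap, hab])
    have h2 := hind.pairwiseDisjoint hne
    rw [Function.onFun, h1, disjoint_self] at h2
    have := hrank b
    rw [h2, finrank_bot] at this
    omega
  exact ⟨Equiv.ofBijective π ⟨hπinj, Finite.surjective_of_injective hπinj⟩, hmap⟩

/-- similitudes of the standard hermitian plane over four elements are monomial -/
lemma plane_mono {q : ℕ} (hF : Fintype.card F = q ^ 2) (hq : q = 2) {A : Matrix (Fin 2) (Fin 2) F} {l : F} (hl : l ≠ 0)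
    (hA : Aᵀ * A.map (fr hF) = l • (1 : Matrix (Fin 2) (Fin 2) F)) (j : Fin 2) : ∃ i, ∀ i', i' ≠ i → A i' j = 0 := by
  have h4 : Fintype.card F = 4 := by rw [hF, hq]; rfl
  have h2 : (2 : F) = 0 := by
    have h0 := Nat.cast_card_eq_zero F
    rw [h4] at h0
    have : (2 : F) * 2 = 0 := by norm_num; exact_mod_cast h0
    rcases mul_eq_zero.1 this with h | h <;> exact h
  have hcube : ∀ x : F, x ≠ 0 → x ^ 3 = 1 := fun x hx => by
    have := FiniteField.pow_card_sub_one_eq_one x hx
    rwa [h4] at this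
  have hj := congrFun (congrFun hA j) j
  simp [Matrix.mul_apply, Fin.sum_univ_two, hq] at hj
  by_cases h0 : A 0 j = 0
  · exact ⟨1, fun i hi => by fin_cases i <;> simp_all⟩
  by_cases h1 : A 1 j = 0
  · exact ⟨0, fun i hi => by fin_cases i <;> simp_all⟩
  exfalso
  exact hl (by linear_combination -hj + hcube _ h0 + hcube _ h1 + h2)

/-- over four elements two-dimensional unitary tensor factors give decompositions -/
theorem unit_tensor_two {n q : ℕ} (hF : Fintype.card F = q ^ 2) (hq : q = 2) {H : Subgroup (GL (Fin n) F)}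
    (hH : H ≤ Cfsg.GU n F q) {m : ℕ} (hm : 0 < m) {e : Fin n ≃ Fin 2 × Fin m} {P : GL (Fin n) F}
    {f₁ : (Fin 2 → F) → (Fin 2 → F) → F} {f₂ : (Fin m → F) → (Fin m → F) → F} (h₁ : IsUnitaryFormPow q f₁)
    (hT : IsTensorFormStructure (fun x : F => x ^ q) (hermForm n F q) f₁ f₂ e P)
    (hle : H ≤ tensorProductSubgroup 2 m e P) :
    ∃ D : Fin 2 → Submodule F (Fin n → F), IsNondegenerateMDecomposition (hermForm n F q) m D ∧
      H ≤ decompositionStabilizer D := by
  have hf := AschFormUnit.herm_formData (n := n) hF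
  have hσq : ⇑(fr hF) = fun x : F => x ^ q := funext fun x => fr_apply hF x
  rw [← hσq] at hT
  obtain ⟨c, hc, hgram, hd₁, hd₂⟩ := gram_of_structure hf two_pos hm hT
  have hG : (gramMatrix f₁)ᵀ.map (fr hF) = gramMatrix f₁ := by
    ext a b
    simp only [Matrix.map_apply, Matrix.transpose_apply, gramMatrix, fr_apply]
    exact (h₁.herm _ _).symm
  obtain ⟨S, hS⟩ := AschFormUnit.herm_congr hF hG hd₁ (G' := 1)
    (by rw [Matrix.transpose_one, map_one_mat]) (by simp)
  set X := kronUnit S (1 : GL (Fin m) F) with hX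
  set P' := P * glReindex e.symm X with hP'
  have hgram' : gramP (fr hF) (hermForm n F q) e P' = c • ((1 : Matrix (Fin 2) (Fin 2) F) ⊗ₖ gramMatrix f₂) := by
    rw [hP', gramP_rebase, hgram, show (X : Matrix (Fin 2 × Fin m) (Fin 2 × Fin m) F) =
      (S : Matrix (Fin 2) (Fin 2) F) ⊗ₖ (1 : Matrix (Fin m) (Fin m) F) from rfl, ← Matrix.kroneckerMap_transpose,
      kron_map, Matrix.mul_smul, Matrix.smul_mul, ← Matrix.mul_kronecker_mul, ← Matrix.mul_kronecker_mul, hS,
      Matrix.transpose_one, map_one_mat, one_mul, mul_one]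
  have hle' := hle.trans (conj_map_rebase _ e P (kronUnit_mem S 1))
  haveI : Nonempty (Fin m) := ⟨⟨0, hm⟩⟩
  have hG2 : gramMatrix f₂ ≠ 0 := fun h0 => not_isUnit_zero (by rwa [h0, Matrix.det_zero] at hd₂)
  refine monomial_factor hf hm le_rfl (e := e.trans (Equiv.prodComm _ _)) (P := P') (c := c) (G := gramMatrix f₂) (d := fun _ => (1 : F)) ?_ fun h hh => ?_
  · rw [Matrix.diagonal_one]; exact gramP_swap hgram'
  · obtain ⟨A, B, l, hl, hval, hA, -⟩ := tensor_elem hf hc one_ne_zero hG2 hgram' (hle' hh) (hH hh)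
    refine ⟨B, A, by rw [pull_swap]; exact hval, fun b => plane_mono hF hq hl ?_ b⟩
    rwa [mul_one] at hA

/-- over three elements three-dimensional orthogonal factors give decompositions -/
theorem sym_tensor_three (h3 : Fintype.card F = 3) (hf : FormData (RingEquiv.refl F) ε f) {H : Subgroup (GL ι F)}
    (hI : Isos H f) {k : ℕ} (hk : 0 < k) {e : ι ≃ Fin k × Fin 3} {P : GL ι F}
    {f₁ : (Fin k → F) → (Fin k → F) → F} {f₂ : (Fin 3 → F) → (Fin 3 → F) → F} (h₂ : IsSymmetricForm f₂)
    (hT : IsTensorFormStructure id f f₁ f₂ e P) (hle : H ≤ tensorProductSubgroup k 3 e P) :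
    ∃ D : Fin 3 → Submodule F (ι → F), IsNondegenerateMDecomposition f k D ∧ H ≤ decompositionStabilizer D := by
  obtain ⟨c, hc, hgram, hd₁, hd₂⟩ := gram_of_structure hf hk three_pos (σ := RingEquiv.refl F) hT
  have h2 : (2 : F) ≠ 0 := by
    intro h
    have h0 := Nat.cast_card_eq_zero F
    rw [h3] at h0
    exact one_ne_zero (α := F) (by
      have : (3 : F) = 0 := by exact_mod_cast h0
      linear_combination this - h)
  have hG : (gramMatrix f₂)ᵀ = gramMatrix f₂ := by
    ext a b
    exact h₂.symm _ _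
  obtain ⟨S, l, hl, hS⟩ := AschFormOrth.congr_odd h2 (by decide : Odd 3) hG hd₂
    (Matrix.transpose_one) (by simp : IsUnit (1 : Matrix (Fin 3) (Fin 3) F).det)
  set X := kronUnit (1 : GL (Fin k) F) S with hX
  set P' := P * glReindex e.symm X with hP'
  have hgram' : gramP (RingEquiv.refl F) f e P' = (c * l) • (gramMatrix f₁ ⊗ₖ (1 : Matrix (Fin 3) (Fin 3) F)) := by
    rw [hP', gramP_rebase, hgram, show (X : Matrix (Fin k × Fin 3) (Fin k × Fin 3) F) =
      (1 : Matrix (Fin k) (Fin k) F) ⊗ₖ (S : Matrix (Fin 3) (Fin 3) F) from rfl, ← Matrix.kroneckerMap_transpose,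
      kron_map, Matrix.mul_smul, Matrix.smul_mul, ← Matrix.mul_kronecker_mul, ← Matrix.mul_kronecker_mul,
      show (S : Matrix (Fin 3) (Fin 3) F).map (RingEquiv.refl F) = (S : Matrix (Fin 3) (Fin 3) F) from rfl, hS,
      Matrix.transpose_one, map_one_mat, one_mul, mul_one, Matrix.kronecker_smul, smul_smul]
  have hle' := hle.trans (conj_map_rebase _ e P (kronUnit_mem 1 S))
  haveI : Nonempty (Fin k) := ⟨⟨0, hk⟩⟩
  have hG1 : gramMatrix f₁ ≠ 0 := fun h0 => not_isUnit_zero (by rwa [h0, Matrix.det_zero] at hd₁)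
  refine monomial_factor hf hk (by norm_num) (e := e) (P := P') (c := c * l) (G := gramMatrix f₁) (d := fun _ => (1 : F)) ?_ fun h hh => ?_
  · rw [Matrix.diagonal_one]; exact hgram'
  · obtain ⟨A, B, l', hl', hval, -, hB⟩ := tensor_elem hf (mul_ne_zero hc hl) hG1 one_ne_zero hgram' (hle' hh) (hI h hh)
    refine ⟨A, B, hval, fun b => AschFormOrth.similar_mono h3 (inv_ne_zero hl') ?_ b⟩
    rw [mul_one, show (B : Matrix (Fin 3) (Fin 3) F).map (RingEquiv.refl F) = (B : Matrix (Fin 3) (Fin 3) F) from rfl] at hB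
    exact hB

/-- pairwise orthogonal anisotropic vectors moved to multiples of one another give a frame -/
theorem frame_of_vectors (hf : FormData σ ε f) {H : Subgroup (GL ι F)} (h2 : 2 ≤ Fintype.card ι)
    (v : ι → ι → F) (hval : ∀ a, f (v a) (v a) ≠ 0) (horth : ∀ a b, a ≠ b → f (v a) (v b) = 0)
    (hmove : ∀ h ∈ H, ∀ a, ∃ b, ∃ c : F, (h : Matrix ι ι F) *ᵥ v a = c • v b) :
    ∃ D : Fin (Fintype.card ι) → Submodule F (ι → F),
      IsNondegenerateMDecomposition f 1 D ∧ H ≤ decompositionStabilizer D := by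
  classical
  haveI : Nonempty ι := Fintype.card_pos_iff.1 (by omega)
  have hli : LinearIndependent F v := by
    refine Fintype.linearIndependent_iff.2 fun g hg a => ?_
    let L : (ι → F) →ₗ[F] F :=
      { toFun := fun z => f z (v a), map_add' := fun x y => hf.sesq.add_left x y _,
        map_smul' := fun x y => hf.sesq.smul_left x y _ }
    have h1 := congrArg L hg
    rw [map_sum, map_zero, Finset.sum_eq_single a (fun b _ hb => by
      rw [map_smul]; simp [L, horth b a hb]) (by simp), map_smul, smul_eq_mul] at h1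
    exact (mul_eq_zero.1 h1).resolve_right (hval a)
  let M : Matrix ι ι F := Matrix.of fun i a => v a i
  have hM : IsUnit M := Matrix.linearIndependent_cols_iff_isUnit.1 hli
  have hPv : ∀ a, (hM.unit : Matrix ι ι F) *ᵥ Pi.single a 1 = v a := fun a => by
    rw [IsUnit.unit_spec, Matrix.mulVec_single_one]; rfl
  obtain ⟨D, hD, hle, ord, hord⟩ := AschFormMono.mono_lines h2 hM.unit (H := H) fun h hh => by
    refine ⟨((hM.unit⁻¹ : GL ι F) : Matrix ι ι F) * ((h : Matrix ι ι F) * (hM.unit : Matrix ι ι F)),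
      by rw [Units.mul_inv_cancel_left], fun a => ?_⟩
    obtain ⟨b, c, hbc⟩ := hmove h hh a
    refine ⟨b, fun i' hi' => ?_⟩
    have h1 : ((((hM.unit⁻¹ : GL ι F)) : Matrix ι ι F) * ((h : Matrix ι ι F) * (hM.unit : Matrix ι ι F))) *ᵥ
        Pi.single a 1 = c • Pi.single b 1 := by
      rw [← Matrix.mulVec_mulVec, ← Matrix.mulVec_mulVec, hPv, hbc, Matrix.mulVec_smul, ← hPv b, inv_mulVec_mulVec]
    have h3 := congrFun h1 i'
    rw [Matrix.mulVec_single_one, Matrix.col_apply] at h3
    rw [h3]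
    simp [hi']
  refine ⟨D, ⟨hD, fun i w hw hw0 => ?_, fun i j hij u hu w hw => ?_⟩, hle⟩
  · rw [hord, hPv, Submodule.mem_span_singleton] at hw
    obtain ⟨r, rfl⟩ := hw
    have hr : r ≠ 0 := fun h => hw0 (by rw [h, zero_smul])
    have hmem : v (ord i) ∈ D i := by rw [hord, hPv]; exact Submodule.mem_span_singleton_self _
    exact ⟨⟨v (ord i), hmem, by rw [hf.sesq.smul_right]; exact mul_ne_zero ((map_ne_zero _).2 hr) (hval _)⟩,
      v (ord i), hmem, by rw [hf.sesq.smul_left]; exact mul_ne_zero hr (hval _)⟩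
  · rw [hord, hPv, Submodule.mem_span_singleton] at hu hw
    obtain ⟨r, rfl⟩ := hu
    obtain ⟨r', rfl⟩ := hw
    rw [hf.sesq.smul_left, hf.sesq.smul_right, horth _ _ fun h => hij (ord.injective h), mul_zero, mul_zero]

/-- over four elements a decomposition into planes refines to one into lines -/
theorem unit_planes_lines {n q : ℕ} (hF : Fintype.card F = q ^ 2) (hq : q = 2) {H : Subgroup (GL (Fin n) F)}
    (hH : H ≤ Cfsg.GU n F q) {t : ℕ} {D : Fin t → Submodule F (Fin n → F)}
    (hD : IsNondegenerateMDecomposition (hermForm n F q) 2 D) (hle : H ≤ decompositionStabilizer D) :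
    ∃ D' : Fin n → Submodule F (Fin n → F), IsNondegenerateMDecomposition (hermForm n F q) 1 D' ∧
      H ≤ decompositionStabilizer D' := by
  classical
  have hf := AschFormUnit.herm_formData (n := n) hF
  have h4 : Fintype.card F = 4 := by rw [hF, hq]; rfl
  have h2 : (2 : F) = 0 := by
    have h0 := Nat.cast_card_eq_zero F
    rw [h4] at h0
    have : (2 : F) * 2 = 0 := by norm_num; exact_mod_cast h0
    rcases mul_eq_zero.1 this with h | h <;> exact h
  have hcube : ∀ x : F, x ≠ 0 → x * x ^ q = 1 := fun x hx => by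
    have := FiniteField.pow_card_sub_one_eq_one x hx
    rw [h4] at this
    rw [hq, ← pow_succ']
    exact this
  set f := hermForm n F q
  have hfix : ∀ u, f u u ^ q = f u u := fun u => OrthUnitaryHerm.herm_self_pow hF u
  have h01 : ∀ u, f u u ≠ 0 → f u u = 1 := fun u hu => by
    have h1 := hfix u
    rw [hq, sq] at h1
    exact mul_left_cancel₀ hu (by rw [h1, mul_one])
  -- an orthonormal basis of each plane
  have hplane : ∀ i, ∃ u w : Fin n → F, u ∈ D i ∧ w ∈ D i ∧ f u u = 1 ∧ f w w = 1 ∧ f u w = 0 ∧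
      ∀ z ∈ D i, ∃ a b : F, z = a • u + b • w := by
    intro i
    obtain ⟨u, hu, hu1⟩ : ∃ u ∈ D i, f u u = 1 := by
      by_contra hall
      push Not at hall
      have h0 : ∀ z ∈ D i, f z z = 0 := fun z hz => by
        by_contra h
        exact hall z hz (h01 z h)
      obtain ⟨z, hz, hz0⟩ := (Submodule.ne_bot_iff _).1 (show D i ≠ ⊥ from fun h => by
        have := hD.decomp.finrank_eq i
        rw [h, finrank_bot] at this
        omega)
      obtain ⟨⟨x, hx, hxz⟩, -⟩ := hD.nondegenerate i z hz hz0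
      obtain ⟨a, ha⟩ : ∃ a : F, a + a ^ q ≠ 0 := by
        by_contra h
        push Not at h
        obtain ⟨c, hc⟩ : ∃ c, fr hF c ≠ c := by
          by_contra h'
          push Not at h'
          exact (herm_unitary (n := 1) hF).ne_refl (RingEquiv.ext h')
        exact hc (by rw [fr_apply]; linear_combination h c - c * h2)
      have h5 := h0 ((a / f x z) • x + z) (Submodule.add_mem _ (Submodule.smul_mem _ _ hx) hz)
      rw [hf.sesq.add_left, hf.sesq.add_right, hf.sesq.add_right, hf.sesq.smul_left, hf.sesq.smul_left,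
        hf.sesq.smul_right, hf.sesq.smul_right, h0 x hx, h0 z hz] at h5
      rw [show f z x = fr hF (f x z) by rw [hf.herm z x, one_mul], div_mul_cancel₀ _ hxz, ← map_mul,
        div_mul_cancel₀ _ hxz, fr_apply] at h5
      exact ha (by rw [← fr_apply hF a]; linear_combination h5)
    have hu0 : u ≠ 0 := fun h => one_ne_zero (α := F) (by
      rw [← hu1, h, ← zero_smul F u, hf.sesq.smul_left, zero_mul])
    let L : (Fin n → F) →ₗ[F] F :=
      { toFun := fun z => f z u, map_add' := fun x y => hf.sesq.add_left x y _,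
        map_smul' := fun x y => hf.sesq.smul_left x y _ }
    obtain ⟨⟨w, hw⟩, hw0, hwL⟩ := exists_ne_zero_kills [L ∘ₗ (D i).subtype]
      (by rw [hD.decomp.finrank_eq]; simp)
    have hwu : f w u = 0 := by simpa [L] using hwL _ (List.mem_singleton_self _)
    have hw0' : w ≠ 0 := fun h => hw0 (Subtype.ext h)
    have hind : LinearIndependent F ![(⟨u, hu⟩ : D i), ⟨w, hw⟩] := by
      refine LinearIndependent.pair_iff.2 fun a b hab => ?_
      have h1 : a • u + b • w = 0 := congrArg Subtype.val hab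
      have h3 : a = 0 := by
        have := congrArg L h1
        rw [map_add, map_smul, map_smul, map_zero] at this
        simpa [L, hu1, hwu] using this
      refine ⟨h3, ?_⟩
      rw [h3, zero_smul, zero_add] at h1
      exact (smul_eq_zero.1 h1).resolve_right hw0'
    have hspan := hind.span_eq_top_of_card_eq_finrank (by rw [hD.decomp.finrank_eq]; simp)
    have hall : ∀ z ∈ D i, ∃ a b : F, z = a • u + b • w := fun z hz => by
      have h1 : (⟨z, hz⟩ : D i) ∈ Submodule.span F (Set.range ![(⟨u, hu⟩ : D i), ⟨w, hw⟩]) := by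
        rw [hspan]; exact Submodule.mem_top
      rw [Matrix.range_cons, Matrix.range_cons, Matrix.range_empty, Set.union_empty, Set.singleton_union,
        Submodule.mem_span_pair] at h1
      obtain ⟨a, b, hab⟩ := h1
      exact ⟨a, b, (congrArg Subtype.val hab).symm⟩
    have hww : f w w ≠ 0 := fun h => by
      obtain ⟨⟨x, hx, hxw⟩, -⟩ := hD.nondegenerate i w hw hw0'
      obtain ⟨a, b, rfl⟩ := hall x hx
      apply hxw
      rw [hf.sesq.add_left, hf.sesq.smul_left, hf.sesq.smul_left, hf.symm_zero hwu, h, mul_zero, mul_zero, add_zero]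
    exact ⟨u, w, hu, hw, hu1, h01 w hww, hf.symm_zero hwu, hall⟩
  choose u w hu hw huu hww huw hspanD using hplane
  have hcard : t * 2 = n := by
    have := AschFormImprim.finrank_mDecomposition hD.decomp
    rwa [Fintype.card_fin] at this
  let eI : Fin n ≃ Fin t × Fin 2 := (finCongr hcard.symm).trans finProdFinEquiv.symm
  let v : Fin n → Fin n → F := fun a => if (eI a).2 = 0 then u (eI a).1 else w (eI a).1
  have hvD : ∀ a, v a ∈ D (eI a).1 := fun a => by by_cases h : (eI a).2 = 0 <;> simp [v, h, hu, hw]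
  have hv1 : ∀ a, f (v a) (v a) = 1 := fun a => by by_cases h : (eI a).2 = 0 <;> simp [v, h, huu, hww]
  have hvorth : ∀ a b, a ≠ b → f (v a) (v b) = 0 := by
    intro a b hab
    by_cases h1 : (eI a).1 = (eI b).1
    · have h3 : (eI a).2 ≠ (eI b).2 := fun h => hab (eI.injective (Prod.ext h1 h))
      by_cases h5 : (eI a).2 = 0
      · have h6 : (eI b).2 ≠ 0 := fun h => h3 (h5.trans h.symm)
        simp [v, h5, h6, h1, huw]
      · have h6 : (eI b).2 = 0 := by omega
        simp only [v, if_neg h5, if_pos h6, h1]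
        exact hf.symm_zero (huw _)
    · exact hD.orthogonal _ _ h1 _ (hvD a) _ (hvD b)
  have hvmove : ∀ h ∈ H, ∀ a, ∃ b, ∃ c : F, (h : Matrix (Fin n) (Fin n) F) *ᵥ v a = c • v b := by
    intro h hh a
    obtain ⟨π, hπ⟩ := hle hh
    have hmem : (h : Matrix (Fin n) (Fin n) F) *ᵥ v a ∈ D (π (eI a).1) := by
      rw [← hπ]; exact ⟨v a, hvD a, Matrix.toLin'_apply _ _⟩
    obtain ⟨x, y, hxy⟩ := hspanD _ _ hmem
    have h1 : f ((h : Matrix (Fin n) (Fin n) F) *ᵥ v a) ((h : Matrix (Fin n) (Fin n) F) *ᵥ v a) = 1 :=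
      (hH hh (v a) (v a)).trans (hv1 a)
    rw [hxy, hf.sesq.add_left, hf.sesq.add_right, hf.sesq.add_right, hf.sesq.smul_left, hf.sesq.smul_left,
      hf.sesq.smul_left, hf.sesq.smul_left, hf.sesq.smul_right, hf.sesq.smul_right, hf.sesq.smul_right,
      hf.sesq.smul_right, huu, hww, huw, hf.symm_zero (huw _), fr_apply, fr_apply] at h1
    by_cases hx : x = 0
    · refine ⟨eI.symm (π (eI a).1, 1), y, ?_⟩
      rw [hxy, hx, zero_smul, zero_add]
      simp [v]
    by_cases hy : y = 0
    · refine ⟨eI.symm (π (eI a).1, 0), x, ?_⟩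
      rw [hxy, hy, zero_smul, add_zero]
      simp [v]
    · exfalso
      exact one_ne_zero (α := F) (by linear_combination h2 - h1 + hcube x hx + hcube y hy)
  obtain ⟨D', hD', hle'⟩ := frame_of_vectors hf (H := H)
    (by rw [Fintype.card_fin]; have := hD.decomp.two_le; omega) v
    (fun a => by rw [hv1]; exact one_ne_zero) hvorth hvmove
  refine ⟨D' ∘ Fin.cast (Fintype.card_fin n).symm,
    ⟨AschPrimeLinear.isMDecomposition_cast (Fintype.card_fin n).symm hD'.decomp, fun i => hD'.nondegenerate _,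
      fun i j hij => hD'.orthogonal _ _ fun h => hij (Fin.cast_injective _ h)⟩, ?_⟩
  rw [AschPrimeLinear.decompositionStabilizer_cast]
  exact hle'

/-- over two elements a decomposition into planes gives a quadratic form -/
theorem symp_planes_quad {m : ℕ} (h2F : Fintype.card F = 2) {H : Subgroup (GL (Fin m ⊕ Fin m) F)}
    (hH : H ≤ spGL m F) {t : ℕ} {D : Fin t → Submodule F (Fin m ⊕ Fin m → F)}
    (hD : IsNondegenerateMDecomposition (sympForm m F) 2 D) (hle : H ≤ decompositionStabilizer D) :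
    ∃ Q : (Fin m ⊕ Fin m → F) → F, IsNondegenerateQuadraticForm Q ∧
      (∀ u v, QuadraticMap.polar Q u v = sympForm m F u v) ∧ H ≤ quadSimilarityGroup Q := by
  classical
  have hf := AschFormSymp.symp_formData (m := m) (F := F)
  have h2 : (2 : F) = 0 := by
    have h0 := Nat.cast_card_eq_zero F
    rw [h2F] at h0
    exact_mod_cast h0
  haveI : CharP F 2 := CharTwo.of_one_ne_zero_of_two_eq_zero one_ne_zero h2
  have h01 : ∀ a : F, a = 0 ∨ a = 1 := fun a => by
    rcases eq_or_ne a 0 with h | h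
    · exact Or.inl h
    · have := FiniteField.pow_card_sub_one_eq_one a h
      rw [h2F, pow_one] at this
      exact Or.inr this
  set f := sympForm m F
  let Q0 : (Fin m ⊕ Fin m → F) → F := fun x => ∑ i, x (.inl i) * x (.inr i)
  have hpol0 : ∀ u v, QuadraticMap.polar Q0 u v = f u v := by
    intro u v
    simp only [QuadraticMap.polar, Q0, f, sympForm, Pi.add_apply]
    rw [← Finset.sum_sub_distrib, ← Finset.sum_sub_distrib]
    simp [Matrix.J, Matrix.mulVec, dotProduct, Fintype.sum_sum_type, Matrix.fromBlocks, Matrix.one_apply,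
      Finset.sum_add_distrib]
    rw [← Finset.sum_neg_distrib, ← Finset.sum_add_distrib, ← Finset.sum_sub_distrib, ← Finset.sum_sub_distrib]
    exact Finset.sum_congr rfl fun i _ => by
      linear_combination (u (Sum.inl i) * v (Sum.inr i)) * h2
  have hadd0 : ∀ u v, Q0 (u + v) = Q0 u + Q0 v + f u v := fun u v => by
    rw [← hpol0]; simp only [QuadraticMap.polar]; ring
  have hint : DirectSum.IsInternal D :=
    DirectSum.isInternal_submodule_of_iSupIndep_of_iSup_eq_top hD.decomp.indep hD.decomp.iSup_eq_top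
  let bD := fun i => Module.finBasisOfFinrankEq F (D i) (hD.decomp.finrank_eq i)
  let B := hint.collectedBasis bD
  let L : (Fin m ⊕ Fin m → F) →ₗ[F] F := B.constr F fun p => 1 + Q0 (bD p.1 p.2 : Fin m ⊕ Fin m → F)
  have hL : ∀ i j, L (bD i j : Fin m ⊕ Fin m → F) = 1 + Q0 (bD i j : Fin m ⊕ Fin m → F) := fun i j => by
    have := B.constr_basis F (fun p => 1 + Q0 (bD p.1 p.2 : Fin m ⊕ Fin m → F)) ⟨i, j⟩
    rwa [DirectSum.IsInternal.collectedBasis_coe] at this
  let Q : (Fin m ⊕ Fin m → F) → F := fun x => Q0 x + L x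
  have hsm : ∀ (a : F) x, Q (a • x) = a ^ 2 * Q x := fun a x => by
    rcases h01 a with rfl | rfl
    · simp [Q, Q0]
    · simp
  have hQadd : ∀ u v, Q (u + v) = Q u + Q v + f u v := fun u v => by
    simp only [Q, map_add, hadd0]; ring
  have hpol : ∀ u v, QuadraticMap.polar Q u v = f u v := fun u v => by
    simp only [QuadraticMap.polar, hQadd]; ring
  have hpolf : QuadraticMap.polar Q = f := funext fun u => funext fun v => hpol u v
  have hone : ∀ i, ∀ x ∈ D i, x ≠ 0 → Q x = 1 := by
    intro i x hx hx0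
    have hbQ : ∀ j, Q (bD i j : Fin m ⊕ Fin m → F) = 1 := fun j => by
      simp only [Q, hL]; linear_combination (Q0 (bD i j : Fin m ⊕ Fin m → F)) * h2
    have hf1 : f (bD i 0 : Fin m ⊕ Fin m → F) (bD i 1 : Fin m ⊕ Fin m → F) = 1 := by
      rcases h01 (f (bD i 0 : Fin m ⊕ Fin m → F) (bD i 1 : Fin m ⊕ Fin m → F)) with h | h
      · exfalso
        have hne : (bD i 0 : Fin m ⊕ Fin m → F) ≠ 0 := fun h0 =>
          (bD i).ne_zero 0 (Subtype.ext h0)
        obtain ⟨⟨y, hy, hyne⟩, -⟩ := hD.nondegenerate i _ (bD i 0).2 hne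
        apply hyne
        have hy' := congrArg Subtype.val ((bD i).sum_repr ⟨y, hy⟩)
        rw [Fin.sum_univ_two] at hy'
        rw [← show _ = y from hy']
        simp only [Submodule.coe_add, Submodule.coe_smul, hf.sesq.add_left, hf.sesq.smul_left, hf.symm_zero h,
          AschFormSymp.symp_alt, f, mul_zero, add_zero]
      · exact h
    have hxe := congrArg Subtype.val ((bD i).sum_repr ⟨x, hx⟩)
    rw [Fin.sum_univ_two] at hxe
    simp only [Submodule.coe_add, Submodule.coe_smul] at hxe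
    rw [← hxe] at hx0 ⊢
    rcases h01 ((bD i).repr ⟨x, hx⟩ 0) with ha | ha <;> rcases h01 ((bD i).repr ⟨x, hx⟩ 1) with hb | hb <;>
      rw [ha, hb] at hx0 ⊢ <;>
      simp only [zero_smul, one_smul, zero_add, add_zero, hQadd, hbQ, hf1] at hx0 ⊢
    · exact absurd rfl hx0
    · linear_combination h2
  refine ⟨Q, ⟨hsm, hpolf ▸ (TransvectionMax.sympForm_isSymplecticForm (F := F) m).bilinear, hpolf ▸ hf.nd⟩, hpol,
    fun h hh => ⟨1, ?_⟩⟩
  have hz : ∀ x, Q ((h : Matrix _ _ F) *ᵥ x) + Q x = 0 := by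
    let W : Submodule F (Fin m ⊕ Fin m → F) :=
      { carrier := {x | Q ((h : Matrix _ _ F) *ᵥ x) + Q x = 0}
        zero_mem' := by simp [Q, Q0]
        add_mem' := fun {u v} hu hv => by
          show _ = (0 : F)
          have hfh : f ((h : Matrix _ _ F) *ᵥ u) ((h : Matrix _ _ F) *ᵥ v) = f u v := hH hh u v
          have hu' : Q ((h : Matrix _ _ F) *ᵥ u) + Q u = 0 := hu
          have hv' : Q ((h : Matrix _ _ F) *ᵥ v) + Q v = 0 := hv
          rw [Matrix.mulVec_add, hQadd, hQadd, hfh]
          linear_combination hu' + hv' + (f u v) * h2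
        smul_mem' := fun a x hx => by
          show _ = (0 : F)
          have hx' : Q ((h : Matrix _ _ F) *ᵥ x) + Q x = 0 := hx
          rw [Matrix.mulVec_smul, hsm, hsm]
          linear_combination a ^ 2 * hx' }
    have hW : W = ⊤ := by
      rw [eq_top_iff, ← hD.decomp.iSup_eq_top]
      refine iSup_le fun i x hx => ?_
      by_cases hx0 : x = 0
      · rw [hx0]; exact W.zero_mem
      show Q _ + Q x = 0
      obtain ⟨π, hπ⟩ := hle hh
      have hmem : (h : Matrix _ _ F) *ᵥ x ∈ D (π i) := hπ i ▸ ⟨x, hx, Matrix.toLin'_apply _ _⟩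
      rw [hone i x hx hx0, hone _ _ hmem fun h0 => hx0 (by rw [← inv_mulVec_mulVec h x, h0, Matrix.mulVec_zero])]
      linear_combination h2
    intro x
    have : x ∈ W := hW ▸ Submodule.mem_top
    exact this
  intro x
  rw [Units.val_one, one_mul]
  linear_combination hz x - Q x * h2

end Cfsg.Agent.AschCase
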