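/-
Dimension case lists: the maximal subgroups of the orthogonal group in dimension nine.
-/
import Cfsg.Agent.Lib.AschFormOrth
import Cfsg.Agent.Lib.AschCaseProper
import Cfsg.Agent.Lib.OmegaMaxGlue

set_option autoImplicit false
set_option linter.unusedSectionVars false

namespace Cfsg.Agent.AschCase

open scoped Matrix Kronecker
open Cfsg Cfsg.Geo Cfsg.Agent.AschPrimeBasic Cfsg.Agent.AschPrimeForms Cfsg.Agent.AschGenTensor
  Cfsg.Agent.AschPrimeOrthProper Cfsg.Agent.AschPrimeOrth Cfsg.Agent.AschFormBasic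

variable {ι : Type} [Fintype ι] [DecidableEq ι] {F : Type*} [Field F] [Fintype F]

/-- unipotent of square-zero type fixing a subspace of codimension two -/
def SmallMove (g : GL ι F) : Prop :=
  (∃ φ ψ : (ι → F) →ₗ[F] F, ∀ x, φ x = 0 → ψ x = 0 → (g : Matrix ι ι F) *ᵥ x = x) ∧
    ((g : Matrix ι ι F) - 1) * ((g : Matrix ι ι F) - 1) = 0

variable {m : ℕ}

theorem omega_gen (h2 : (2 : F) ≠ 0) (hm : 2 ≤ m) {K : Subgroup (GL (Idx m) F)}
    (hK : ∀ g ∈ omg m F, SmallMove g → g ∈ K) : omg m F ≤ K := by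
  intro g hg
  set q := QuadClassify.qOdd m F with hq
  have hnd := OmegaMaxGlue.nondeg_odd (m := m) h2
  have hn : 5 ≤ Module.finrank F (Idx m → F) := by simp [Module.finrank_fintype_fun_eq_card]; omega
  have hg' : g ∈ Cfsg.Geo.omegaGL ⇑q := by rw [hq, QuadClassify.qOdd_coe]; exact hg
  obtain ⟨k, hk, rfl⟩ := OmegaGeo.exists_of_mem_omegaGL hg'
  rw [OrthUnitarySimple.commutator_eq_sGroup hnd hn] at hk
  have key : OrthUnitarySimple.sGroup q ≤ K.comap (OmegaMaxGlue.glHom q) := by
    refine (Subgroup.closure_le _).2 ?_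
    rintro _ ⟨u, w, hu, hw, hQw, rfl⟩
    refine hK _ ?_ ⟨⟨QuadraticMap.polarBilin q u, QuadraticMap.polarBilin q w, fun x h1 h3 => ?_⟩, ?_⟩
    · show OmegaMaxGlue.glHom q _ ∈ Cfsg.Geo.omegaGL (Cfsg.quadFormOdd m F)
      rw [← QuadClassify.qOdd_coe, OmegaMaxGlue.glHom_apply]
      exact OmegaGeo.toGL_mem (OrthUnitarySimple.sGroup_le_commutator hnd hn
        (OrthUnitarySimple.siegel_mem_sGroup hu hw hQw))
    · rw [OmegaMaxGlue.glHom_apply, OmegaGeo.toGL_mulVec, OrthUnitaryQuad.siegel_apply]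
      simp only [QuadraticMap.polarBilin_apply_apply] at h1 h3
      simp [h1, h3]
    · set T := OmegaMaxGlue.glHom q (OrthUnitaryQuad.siegel q u w hu hw) with hT
      have h1 : ∀ x, ((T : Matrix (Idx m) (Idx m) F) - 1) *ᵥ x =
          QuadraticMap.polar q u x • w - QuadraticMap.polar q w x • u := by
        intro x
        rw [Matrix.sub_mulVec, Matrix.one_mulVec, hT, OmegaMaxGlue.glHom_apply, OmegaGeo.toGL_mulVec,
          OrthUnitaryQuad.siegel_apply, hQw, zero_mul, add_zero]
        abel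
      apply Matrix.toLin'.injective
      refine LinearMap.ext fun x => ?_
      simp only [Matrix.toLin'_apply, map_zero, LinearMap.zero_apply]
      rw [← Matrix.mulVec_mulVec, h1, h1]
      have e1 : QuadraticMap.polar q u u = 0 := by rw [QuadraticMap.polar_self, hu, nsmul_zero]
      have e2 : QuadraticMap.polar q w w = 0 := by rw [QuadraticMap.polar_self, hQw, nsmul_zero]
      simp [QuadraticMap.polar_sub_right, QuadraticMap.polar_smul_right, e1, e2, hw, QuadraticMap.polar_comm q w u]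
  exact key hk

lemma omega_not_scalar (h2 : (2 : F) ≠ 0) (hm : 3 ≤ m) : ¬ omg m F ≤ scalars (Idx m) F := by
  intro hle
  have hv : (Pi.single i0 1 : Idx m → F) ≠ 0 := fun h => one_ne_zero (α := F) (by simpa using congrFun h i0)
  have hinv : Inv (omg m F) (Submodule.span F {(Pi.single i0 1 : Idx m → F)}) := by
    intro g hg w hw
    obtain ⟨c, hc⟩ := (mem_scalars_iff g).1 (hle hg)
    rw [hc, Matrix.smul_mulVec, Matrix.one_mulVec]
    exact Submodule.smul_mem _ _ hw
  rcases omega_irred h2 hm _ hinv with h | h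
  · exact hv (Submodule.span_singleton_eq_bot.1 h)
  · have := finrank_span_singleton (K := F) hv
    rw [h, finrank_top, Module.finrank_pi, card_idx] at this
    omega

theorem omega_not_le_decomposition (h2 : (2 : F) ≠ 0) (hm : 3 ≤ m) {t k : ℕ}
    {D : Fin t → Submodule F (Idx m → F)} (hD : IsMDecomposition k D) (hk : 3 ≤ k) :
    ¬ omg m F ≤ decompositionStabilizer D := by
  intro hle
  have ht := hD.two_le
  let i₀ : Fin t := ⟨0, by omega⟩
  have hfix : omg m F ≤ subspaceStabilizer (D i₀) := by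
    refine omega_gen h2 (by omega) fun g hg hsm => ?_
    obtain ⟨⟨φ, ψ, hφ⟩, -⟩ := hsm
    obtain ⟨π, hπ⟩ := hle hg
    obtain ⟨⟨x, hx⟩, hx0, hkill⟩ := exists_ne_zero_kills [φ ∘ₗ (D i₀).subtype, ψ ∘ₗ (D i₀).subtype]
      (by rw [hD.finrank_eq]; simp; omega)
    have e : (g : Matrix (Idx m) (Idx m) F) *ᵥ x = x :=
      hφ x (by simpa using hkill (φ ∘ₗ (D i₀).subtype) (by simp)) (by simpa using hkill (ψ ∘ₗ (D i₀).subtype) (by simp))
    have hii : π i₀ = i₀ := by
      by_contra hne
      have hmem : x ∈ D (π i₀) := hπ i₀ ▸ ⟨x, hx, by rw [Matrix.toLin'_apply, e]⟩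
      exact hx0 (Subtype.ext ((Submodule.disjoint_def.1 (hD.indep.pairwiseDisjoint hne)) x hmem hx))
    have himg := hπ i₀
    rw [hii] at himg
    intro v
    refine ⟨fun hv => ?_, fun hv => ?_⟩
    · show (g : Matrix (Idx m) (Idx m) F) *ᵥ v ∈ D i₀
      rw [← himg]
      exact ⟨v, hv, Matrix.toLin'_apply _ _⟩
    · obtain ⟨w, hw, hwv⟩ : (g : Matrix (Idx m) (Idx m) F) *ᵥ v ∈ (D i₀).map (Matrix.toLin' (g : Matrix (Idx m) (Idx m) F)) :=
        himg.symm ▸ hv
      rw [Matrix.toLin'_apply] at hwv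
      exact (act g).injective hwv ▸ hw
  refine omega_not_le_subspaceStabilizer h2 hm (fun h => ?_) (fun h => ?_) hfix
  · have := hD.finrank_eq i₀
    rw [h, finrank_bot] at this
    omega
  · have h1 := hD.finrank_eq i₀
    have h3 := AschFormImprim.finrank_mDecomposition hD
    rw [h, finrank_top, Module.finrank_pi] at h1
    have : 2 * k ≤ t * k := Nat.mul_le_mul_right k ht
    omega

theorem omega_not_le_algebra (h2 : (2 : F) ≠ 0) (hm : 3 ≤ m) {r : ℕ} (hr : 3 ≤ r)
    {K : Subalgebra F (Matrix (Idx m) (Idx m) F)} (hK : IsFieldSubalgebra r K) :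
    ¬ omg m F ≤ subalgebraNormalizer K := by
  intro hle
  refine omega_not_scalar h2 hm (omega_gen h2 (by omega) fun g hg hsm => ?_)
  obtain ⟨⟨φ, ψ, hφ⟩, -⟩ := hsm
  suffices hg1 : ∀ x, (g : Matrix (Idx m) (Idx m) F) *ᵥ x = x by
    refine mem_scalars_of_comm (c := (1 : F)) ?_
    rw [one_smul]
    apply Matrix.toLin'.injective
    exact LinearMap.ext fun x => by simp [hg1]
  -- the group element commutes with the field
  have hcomm : ∀ k ∈ K, (g : Matrix (Idx m) (Idx m) F) * k = k * (g : Matrix (Idx m) (Idx m) F) := by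
    intro k hk
    set k' := (g : Matrix (Idx m) (Idx m) F) * k * ((g⁻¹ : GL (Idx m) F) : Matrix (Idx m) (Idx m) F) with hk'
    have hk'K : k' ∈ K := (hle hg k).1 hk
    obtain ⟨x, hx0, hx⟩ := exists_ne_zero_kills [φ, ψ, φ ∘ₗ Matrix.toLin' k, ψ ∘ₗ Matrix.toLin' k]
      (by rw [Module.finrank_pi, card_idx]; simp; omega)
    have e1 : (g : Matrix (Idx m) (Idx m) F) *ᵥ x = x := hφ x (hx φ (by simp)) (hx ψ (by simp))
    have e2 : (g : Matrix (Idx m) (Idx m) F) *ᵥ (k *ᵥ x) = k *ᵥ x :=
      hφ _ (by simpa using hx (φ ∘ₗ Matrix.toLin' k) (by simp)) (by simpa using hx (ψ ∘ₗ Matrix.toLin' k) (by simp))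
    have h3 : (k' - k) *ᵥ x = 0 := by
      rw [Matrix.sub_mulVec, hk']
      conv_lhs => arg 1; arg 2; rw [← e1]
      rw [Matrix.mulVec_mulVec, mul_assoc, Units.inv_mul, mul_one, ← Matrix.mulVec_mulVec, e2, sub_self]
    have h4 : k' - k = 0 := by
      by_contra hne
      obtain ⟨y, hy, hy'⟩ := hK.inv _ (K.sub_mem hk'K hk) hne
      rw [hK.comm _ (K.sub_mem hk'K hk) _ hy] at hy'
      exact hx0 (by rw [← Matrix.one_mulVec x, ← hy', ← Matrix.mulVec_mulVec, h3, Matrix.mulVec_zero])
    have h5 : k' * (g : Matrix (Idx m) (Idx m) F) = (g : Matrix (Idx m) (Idx m) F) * k := by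
      rw [hk', mul_assoc, Units.inv_mul, mul_one]
    rw [sub_eq_zero.1 h4] at h5
    exact h5.symm
  by_contra hne
  push Not at hne
  obtain ⟨v, hv⟩ := hne
  let L : K →ₗ[F] (Idx m → F) :=
    { toFun := fun k => (k : Matrix (Idx m) (Idx m) F) *ᵥ v
      map_add' := fun a b => Matrix.add_mulVec _ _ _
      map_smul' := fun a b => Matrix.smul_mulVec _ _ _ }
  let W := LinearMap.ker φ ⊓ LinearMap.ker ψ
  have hout : ∀ k ∈ K, k *ᵥ v ∈ W → k = 0 := by
    intro k hk hkW
    by_contra hk0
    obtain ⟨l, hl, hkl⟩ := hK.inv k hk hk0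
    refine hv ?_
    have h1 := hφ _ hkW.1 hkW.2
    rw [Matrix.mulVec_mulVec, hcomm k hk, ← Matrix.mulVec_mulVec] at h1
    have h3 := congrArg (fun z => l *ᵥ z) h1
    simp only [Matrix.mulVec_mulVec, hK.comm l hl k hk, hkl, Matrix.one_mulVec] at h3
    rw [← mul_assoc, hK.comm l hl k hk, hkl, one_mul] at h3
    exact h3
  let M : (Idx m → F) →ₗ[F] F × F := φ.prod ψ
  have hinj : Function.Injective (M ∘ₗ L) := (injective_iff_map_eq_zero _).2 fun k hk =>
    Subtype.ext (hout k k.2 ⟨congrArg Prod.fst hk, congrArg Prod.snd hk⟩)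
  have := LinearMap.finrank_le_finrank_of_injective hinj
  rw [hK.finrank_eq, Module.finrank_prod, Module.finrank_self] at this
  omega

/-- small unipotent elements of a wreath square are scalar -/
theorem wreath_small {k : ℕ} (h2 : (2 : F) ≠ 0) (hk : 3 ≤ k) {e : ι ≃ (Fin 2 → Fin k)}
    {P g : GL ι F} (hg : g ∈ tensorWreathSubgroup k 2 e P) (hsm : SmallMove g) : g ∈ scalars ι F := by
  classical
  haveI : Nonempty ι := ⟨e.symm fun _ => ⟨0, by omega⟩⟩
  obtain ⟨_, ⟨w, hw, rfl⟩, rfl⟩ := hg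
  obtain ⟨gs, τ, rfl⟩ := AschFormMono.wreath_elim hw
  obtain ⟨⟨φ, ψ, hφ⟩, hsq⟩ := hsm
  set W : Matrix (Fin 2 → Fin k) (Fin 2 → Fin k) F :=
    pureMat (fun i => (gs i : Matrix (Fin k) (Fin k) F)) * permMat τ with hW
  let emb : ((Fin 2 → Fin k) → F) →ₗ[F] (ι → F) :=
    (Matrix.toLin' (P : Matrix ι ι F)) ∘ₗ (LinearMap.funLeft F F e)
  have hemb : Function.Injective emb := by
    intro u v huv
    have h1 : (u ∘ e : ι → F) = v ∘ e := (act P).injective huv
    funext a
    simpa using congrFun h1 (e.symm a)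
  have hval : ∀ v, ((MulAut.conj P (glReindex e.symm (pureUnit gs * permUnit τ)) : GL ι F) : Matrix ι ι F) *ᵥ emb v =
      emb (W *ᵥ v) := by
    intro v
    show ((P : Matrix ι ι F) * (Matrix.reindexAlgEquiv F F e.symm W) * ((P⁻¹ : GL ι F) : Matrix ι ι F)) *ᵥ
      ((P : Matrix ι ι F) *ᵥ (v ∘ e)) = (P : Matrix ι ι F) *ᵥ ((W *ᵥ v) ∘ e)
    rw [Matrix.mulVec_mulVec, mul_assoc, Units.inv_mul, mul_one, ← Matrix.mulVec_mulVec]
    congr 1
    funext i
    simp only [Matrix.mulVec, dotProduct, Matrix.reindexAlgEquiv_apply, Matrix.reindex_apply, Matrix.submatrix_apply,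
      Equiv.symm_symm, Function.comp_apply]
    exact Fintype.sum_equiv e _ _ fun j => rfl
  have hWp : ∀ x : Fin 2 → Fin k → F, W *ᵥ pureVec x =
      pureVec fun i => (gs i : Matrix (Fin k) (Fin k) F) *ᵥ x (τ.symm i) := by
    intro x
    rw [hW, ← Matrix.mulVec_mulVec]
    funext a
    have hp : (permMat τ : Matrix (Fin 2 → Fin k) (Fin 2 → Fin k) F) *ᵥ pureVec x = fun b => pureVec x (b ∘ τ) := by
      funext b
      simp [Matrix.mulVec, dotProduct, permMat]
    rw [hp]
    simp only [Matrix.mulVec, dotProduct, pureMat, Matrix.of_apply, pureVec, Function.comp_apply,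
      Fintype.prod_sum, ← Finset.prod_mul_distrib]
    refine Finset.sum_congr rfl fun b _ => ?_
    rw [Finset.prod_mul_distrib, Finset.prod_mul_distrib]
    congr 1
    exact (Fintype.prod_equiv τ (fun i => x i (b (τ i))) (fun i => x (τ.symm i) (b i)) fun i => by simp)
  have hkill : ∀ x : Fin 2 → Fin k → F, (∀ i, x i ≠ 0) → φ (emb (pureVec x)) = 0 → ψ (emb (pureVec x)) = 0 →
      ∀ l, ∃ c : F, (gs l : Matrix (Fin k) (Fin k) F) *ᵥ x (τ.symm l) = c • x l := by
    intro x hx h0 h0' l
    have h1 := hφ _ h0 h0'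
    simp only [MulEquiv.coe_toMonoidHom] at h1
    rw [hval, hWp] at h1
    exact pureVec_factor (y := fun i => (gs i : Matrix (Fin k) (Fin k) F) *ᵥ x (τ.symm i)) hx (hemb h1) l
  have hpick : ∀ (x : Fin k → F) (l : Fin 2), x ≠ 0 → ∃ z : Fin 2 → Fin k → F, (∀ i, z i ≠ 0) ∧
      φ (emb (pureVec z)) = 0 ∧ ψ (emb (pureVec z)) = 0 ∧ ∀ i, i ≠ l → z i = x := fun x l hx => by
    obtain ⟨y, hy, h⟩ := exists_ne_zero_kills [(φ ∘ₗ emb) ∘ₗ slot (fun _ => x) l, (ψ ∘ₗ emb) ∘ₗ slot (fun _ => x) l]
      (by rw [Module.finrank_pi, Fintype.card_fin]; simp; omega)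
    refine ⟨Function.update (fun _ => x) l y, fun i => ?_, ?_, ?_, fun i hi => by rw [Function.update_of_ne hi]⟩
    · by_cases hi : i = l
      · subst hi; simpa using hy
      · rw [Function.update_of_ne hi]; exact hx
    · simpa [slot] using h ((φ ∘ₗ emb) ∘ₗ slot (fun _ => x) l) (by simp)
    · simpa [slot] using h ((ψ ∘ₗ emb) ∘ₗ slot (fun _ => x) l) (by simp)
  have hconj : ∀ (X : Matrix (Fin 2 → Fin k) (Fin 2 → Fin k) F) (c : F), X = c • 1 →
      (P : Matrix ι ι F) * pull e X * ((P⁻¹ : GL ι F) : Matrix ι ι F) = c • 1 := by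
    rintro X c rfl
    rw [map_smul, map_one, Matrix.mul_smul, mul_one, Matrix.smul_mul, Units.mul_inv]
  by_cases hτ : τ = 1
  · subst hτ
    have hsc : ∀ j, ∃ c : F, (gs j : Matrix (Fin k) (Fin k) F) = c • (1 : Matrix (Fin k) (Fin k) F) := by
      intro j
      refine scalar_of_eigen fun v hv => ?_
      obtain ⟨l, hlj⟩ : ∃ l : Fin 2, l ≠ j := exists_ne j
      obtain ⟨z, hz, h0, h0', hzv⟩ := hpick v l hv
      obtain ⟨c, hc⟩ := hkill z hz h0 h0' j
      rw [Equiv.Perm.one_symm, Equiv.Perm.one_apply, hzv j (Ne.symm hlj)] at hc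
      exact ⟨c, hc⟩
    choose c hc using hsc
    refine mem_scalars_of_comm (c := ∏ i, c i) (hconj W _ ?_)
    rw [hW, funext hc, AschFormWreath.pureMat_smul, pureMat_one, Matrix.smul_mul, one_mul]
    congr 1
    ext a b
    simp [permMat, Matrix.one_apply, eq_comm]
  · have hτ' : τ = Equiv.swap 0 1 := by
      have h : ∀ σ : Equiv.Perm (Fin 2), σ = 1 ∨ σ = Equiv.swap 0 1 := by decide
      exact (h τ).resolve_left hτ
    subst hτ'
    obtain ⟨c, hc⟩ := scalar_of_eigen
      (A := (gs 0 : Matrix (Fin k) (Fin k) F) * (gs 1 : Matrix (Fin k) (Fin k) F)) fun v hv => by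
      obtain ⟨z, hz, h0, h0', hzv⟩ := hpick v 1 hv
      obtain ⟨a, ha⟩ := hkill z hz h0 h0' 0
      obtain ⟨b, hb⟩ := hkill z hz h0 h0' 1
      simp only [Equiv.symm_swap, Equiv.swap_apply_left, Equiv.swap_apply_right, hzv 0 (by decide)] at ha hb
      refine ⟨b * a, ?_⟩
      rw [← Matrix.mulVec_mulVec, hb, Matrix.mulVec_smul, ha, smul_smul]
    have hc0 : c ≠ 0 := fun h => by
      have := congrArg Matrix.det hc
      haveI hkne : Nonempty (Fin k) := ⟨⟨0, by omega⟩⟩
      rw [Matrix.det_mul, h, zero_smul, Matrix.det_zero] at this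
      rcases mul_eq_zero.1 this with h' | h'
      · exact (Matrix.isUnits_det_units (gs 0)).ne_zero h'
      · exact (Matrix.isUnits_det_units (gs 1)).ne_zero h'
    have hc' : (gs 1 : Matrix (Fin k) (Fin k) F) * (gs 0 : Matrix (Fin k) (Fin k) F) = c • 1 := by
      have h1 := congrArg (fun X => ((gs 0)⁻¹ : GL (Fin k) F).val * X * (gs 0 : Matrix (Fin k) (Fin k) F)) hc
      simpa [← mul_assoc] using h1
    have hW2 : W * W = (c * c) • 1 := by
      rw [hW, mul_assoc, ← mul_assoc (permMat _) (pureMat _), permMat_pureMat, ← mul_assoc, ← mul_assoc,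
        pureMat_mul, mul_assoc,
        show (permMat (Equiv.swap 0 1) : Matrix (Fin 2 → Fin k) (Fin 2 → Fin k) F) * permMat (Equiv.swap 0 1) = 1 by
          simpa using permMat_mul_symm (F := F) (k := k) (Equiv.swap (0 : Fin 2) 1),
        mul_one, show (fun i => (gs i : Matrix (Fin k) (Fin k) F) *
          (gs ((Equiv.swap (0 : Fin 2) 1).symm i) : Matrix (Fin k) (Fin k) F)) = fun _ => c • 1 from
            funext fun i => by fin_cases i <;> simp [hc, hc'],
        AschFormWreath.pureMat_smul, pureMat_one, Fin.prod_univ_two]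
    set G : Matrix ι ι F := (P : Matrix ι ι F) * pull e W * ((P⁻¹ : GL ι F) : Matrix ι ι F) with hG
    have hGG : G * G = (c * c) • 1 := by
      rw [hG, show ∀ A B C : Matrix ι ι F, A * B * C * (A * B * C) = A * (B * (C * A) * B) * C from
        fun A B C => by simp only [mul_assoc], Units.inv_mul, mul_one, ← map_mul]
      exact hconj _ _ hW2
    have h4 : (G - 1) * (G - 1) = 0 := hsq
    refine mem_scalars_of_comm (c := (c * c + 1) / 2) ?_
    show G = _
    rw [sub_mul, mul_sub, mul_one, one_mul, hGG] at h4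
    have h5 : (2 : F) • G = (c * c + 1) • 1 := by
      rw [two_smul, add_smul, one_smul, ← sub_eq_zero, ← neg_eq_zero, ← h4]
      abel
    have h6 := congrArg (fun X => (2 : F)⁻¹ • X) h5
    simp only [smul_smul, inv_mul_cancel₀ h2, one_smul] at h6
    rw [h6, div_eq_inv_mul]

theorem omega_not_le_wreath (h2 : (2 : F) ≠ 0) (hm : 3 ≤ m) {k : ℕ} (hk : 3 ≤ k)
    (e : Idx m ≃ (Fin 2 → Fin k)) (P : GL (Idx m) F) : ¬ omg m F ≤ tensorWreathSubgroup k 2 e P := fun hle =>
  omega_not_scalar h2 hm (omega_gen h2 (by omega) fun g hg hsm => wreath_small h2 hk (hle hg) hsm)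

/-- over three elements a decomposition into three-spaces gives a frame -/
theorem three_spaces_frame (h3 : Fintype.card F = 3) (hm : 1 ≤ m) {H : Subgroup (GL (Idx m) F)} (hO : H ≤ omg m F)
    {t : ℕ} {D : Fin t → Submodule F (Idx m → F)} (hD : IsOrthogonalMDecomposition (Cfsg.quadFormOdd m F) 3 D)
    (hle : H ≤ decompositionStabilizer D) :
    ∃ (t' : ℕ) (D' : Fin t' → Submodule F (Idx m → F)),
      IsOrthogonalMDecomposition (Cfsg.quadFormOdd m F) 1 D' ∧ H ≤ decompositionStabilizer D' := by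
  classical
  have h2 : (2 : F) ≠ 0 := by
    intro h
    have h0 := Nat.cast_card_eq_zero F
    rw [h3] at h0
    exact one_ne_zero (α := F) (by
      have : (3 : F) = 0 := by exact_mod_cast h0
      linear_combination this - h)
  have hB : IsBilinearForm (bil m F) := (nondeg_quad h2).polar_bilinear
  have ht := hD.decomp.decomp.two_le
  let i₀ : Fin t := ⟨0, by omega⟩
  let b := Module.finBasisOfFinrankEq F (D i₀) (hD.decomp.decomp.finrank_eq i₀)
  let G : Matrix (Fin 3) (Fin 3) F := Matrix.of fun a c => bil m F (b a : Idx m → F) (b c : Idx m → F)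
  have hGs : Gᵀ = G := by ext a c; exact QuadraticMap.polar_comm _ _ _
  have hGd : IsUnit G.det := by
    refine isUnit_iff_ne_zero.2 fun h => ?_
    obtain ⟨x, hx0, hx⟩ := Matrix.exists_mulVec_eq_zero_iff.2 h
    let φ := b.equivFun.symm
    have hy : (φ x : Idx m → F) ≠ 0 := fun h0 => hx0 (φ.injective (by rw [map_zero]; exact Subtype.ext h0))
    obtain ⟨⟨y, hy', hne⟩, -⟩ := hD.decomp.nondegenerate i₀ _ (φ x).2 hy
    apply hne
    let L : D i₀ →ₗ[F] F :=
      { toFun := fun z => bil m F (z : Idx m → F) (φ x : Idx m → F)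
        map_add' := fun z z' => hB.add_left _ _ _
        map_smul' := fun c z => hB.smul_left _ _ _ }
    have hL : L = 0 := b.ext fun a => by
      show bil m F (b a : Idx m → F) (φ x : Idx m → F) = 0
      have := congrFun hx a
      simp only [Matrix.mulVec, dotProduct, G, Matrix.of_apply] at this
      rw [show φ x = ∑ c, x c • b c from b.equivFun_symm_apply x, Fin.sum_univ_three]
      simp only [Submodule.coe_add, Submodule.coe_smul, hB.add_right, hB.smul_right]
      rw [Fin.sum_univ_three, Pi.zero_apply] at this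
      linear_combination this
    exact LinearMap.congr_fun hL ⟨y, hy'⟩
  obtain ⟨S, l, hl, hS⟩ := AschFormOrth.congr_odd h2 (by decide : Odd 3) hGs hGd (Matrix.transpose_one)
    (by simp : IsUnit (1 : Matrix (Fin 3) (Fin 3) F).det)
  let u : Fin 3 → D i₀ := fun j => ∑ c, (S : Matrix (Fin 3) (Fin 3) F) c j • b c
  have hu : ∀ j j', bil m F (u j : Idx m → F) (u j' : Idx m → F) = if j = j' then l else 0 := by
    intro j j'
    have h1 := congrFun (congrFun hS j) j'
    rw [Matrix.smul_apply, Matrix.one_apply] at h1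
    refine Eq.trans ?_ (h1.trans (by split_ifs <;> simp))
    simp only [u, Fin.sum_univ_three, Submodule.coe_add, Submodule.coe_smul, hB.add_left, hB.add_right, hB.smul_left,
      hB.smul_right, Matrix.mul_apply, Matrix.transpose_apply, G, Matrix.of_apply]
    ring
  choose iso hiso using hD.isometric
  have hpres : ∀ i (x y : D i₀), bil m F (iso i₀ i x : Idx m → F) (iso i₀ i y : Idx m → F) =
      bil m F (x : Idx m → F) (y : Idx m → F) := by
    intro i x y
    simp only [bil, QuadraticMap.polar]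
    rw [← hiso i₀ i x, ← hiso i₀ i y, ← Submodule.coe_add, ← Submodule.coe_add, ← map_add,
      hiso i₀ i (x + y)]
  have aux : ∀ (i i' : Fin t), i = i' → ∀ x : D i₀, (iso i₀ i x : Idx m → F) = (iso i₀ i' x : Idx m → F) := by
    rintro i _ rfl x; rfl
  have hcount : t * 3 = Fintype.card (Idx m) := AschFormImprim.finrank_mDecomposition hD.decomp.decomp
  let ρ : Idx m ≃ Fin t × Fin 3 := Fintype.equivOfCardEq (by simp [← hcount])
  let v : Idx m → (Idx m → F) := fun a => (iso i₀ (ρ a).1 (u (ρ a).2) : Idx m → F)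
  have hvD : ∀ a, v a ∈ D (ρ a).1 := fun a => (iso i₀ (ρ a).1 (u (ρ a).2)).2
  have hval : ∀ a a', bil m F (v a) (v a') = if a = a' then l else 0 := by
    intro a a'
    by_cases h1 : (ρ a).1 = (ρ a').1
    · rw [show v a' = (iso i₀ (ρ a).1 (u (ρ a').2) : Idx m → F) from aux _ _ h1.symm _]
      refine (hpres _ _ _).trans ?_
      rw [hu]
      by_cases h : a = a'
      · subst h; simp
      · rw [if_neg h, if_neg fun h' => h (ρ.injective (Prod.ext h1 h'))]
    · rw [if_neg (fun h => h1 (by rw [h]))]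
      exact hD.decomp.orthogonal _ _ h1 _ (hvD a) _ (hvD a')
  let Pm : Matrix (Idx m) (Idx m) F := Matrix.of fun x a => v a x
  have hcol : ∀ a, Pm *ᵥ Pi.single a 1 = v a := fun a => by
    funext x; rw [Matrix.mulVec_single_one]; rfl
  have hses := sesq_of_bilinear hB
  have hPm : Pmᵀ * gramMatrix (bil m F) * Pm = l • 1 := by
    ext a a'
    have h1 := hval a a'
    rw [← hcol a, ← hcol a', hses.transform] at h1
    rw [show Pm.map (RingEquiv.refl F) = Pm from rfl] at h1
    simp only [Matrix.mulVec_single_one, Pi.single_apply, apply_ite, RingEquiv.refl_apply, map_zero, map_one] at h1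
    simp [dotProduct, Matrix.mulVec, Pi.single_apply, Matrix.one_apply] at h1 ⊢
    by_cases h : a = a' <;> simp_all
  have hdet : Pm.det ≠ 0 := fun h => by
    have := congrArg Matrix.det hPm
    rw [Matrix.det_mul, h, mul_zero, Matrix.det_smul, Matrix.det_one, mul_one] at this
    exact pow_ne_zero _ hl this.symm
  refine AschFormOrth.frame h2 hm (Matrix.GeneralLinearGroup.mkOfDetNeZero Pm hdet) hPm hl (H := H) fun h hh => ?_
  obtain ⟨π, hπ⟩ := hle hh
  have hA : ∀ a, ∃ (a' : Idx m) (c : F), (h : Matrix (Idx m) (Idx m) F) *ᵥ v a = c • v a' := by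
    intro a
    set i := (ρ a).1
    have hmem : ∀ j : Fin 3, (h : Matrix (Idx m) (Idx m) F) *ᵥ (iso i₀ i (u j) : Idx m → F) ∈ D (π i) := fun j => by
      rw [← hπ i]; exact ⟨_, (iso i₀ i (u j)).2, Matrix.toLin'_apply _ _⟩
    let w : Fin 3 → Fin 3 → F := fun j c => bil m F ((h : Matrix (Idx m) (Idx m) F) *ᵥ (iso i₀ i (u j) : Idx m → F))
      (iso i₀ (π i) (u c) : Idx m → F) / l
    have hexp : ∀ j, (h : Matrix (Idx m) (Idx m) F) *ᵥ (iso i₀ i (u j) : Idx m → F) =
        ∑ c, w j c • (iso i₀ (π i) (u c) : Idx m → F) := by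
      intro j
      set z := (h : Matrix (Idx m) (Idx m) F) *ᵥ (iso i₀ i (u j) : Idx m → F) -
        ∑ c, w j c • (iso i₀ (π i) (u c) : Idx m → F)
      have hz : z ∈ D (π i) :=
        (D (π i)).sub_mem (hmem j) ((D (π i)).sum_mem fun c _ => (D (π i)).smul_mem _ (iso i₀ (π i) (u c)).2)
      by_contra hne
      have hz0 : z ≠ 0 := fun h0 => hne (sub_eq_zero.1 h0)
      obtain ⟨⟨y, hy, hy'⟩, -⟩ := hD.decomp.nondegenerate (π i) z hz hz0
      apply hy'
      obtain ⟨x, hx⟩ := (iso i₀ (π i)).surjective ⟨y, hy⟩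
      have hspan : x ∈ Submodule.span F (Set.range u) := by
        have hli : LinearIndependent F u := by
          refine Fintype.linearIndependent_iff.2 fun g hg c => ?_
          have h1 := congrArg (fun x : D i₀ => bil m F (x : Idx m → F) (u c : Idx m → F)) hg
          simp only [Fin.sum_univ_three, Submodule.coe_add, Submodule.coe_smul, hB.add_left, hB.smul_left, hu,
            Submodule.coe_zero] at h1
          rw [show bil m F (0 : Idx m → F) (u c : Idx m → F) = 0 by simpa using hB.smul_left 0 0 (u c : Idx m → F)] at h1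
          fin_cases c <;> simp_all
        rw [hli.span_eq_top_of_card_eq_finrank (by rw [Fintype.card_fin, hD.decomp.decomp.finrank_eq])]
        trivial
      obtain ⟨g, rfl⟩ := (Submodule.mem_span_range_iff_exists_fun F).1 hspan
      have key : ∀ c, bil m F z (iso i₀ (π i) (u c) : Idx m → F) = 0 := by
        intro c
        simp only [z, sub_eq_add_neg, hB.add_left, Fin.sum_univ_three]
        simp only [← neg_one_smul F (w j 0 • (iso i₀ (π i) (u 0) : Idx m → F) + _ + _), hB.smul_left, hB.add_left,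
          hpres, hu, w]
        fin_cases c <;> simp <;> field_simp <;> ring
      refine (QuadraticMap.polar_comm _ _ _).trans ?_
      show bil m F z y = 0
      rw [show y = (iso i₀ (π i) (∑ c, g c • u c) : Idx m → F) from congrArg Subtype.val hx.symm]
      simp only [Fin.sum_univ_three, map_add, map_smul, Submodule.coe_add, Submodule.coe_smul, hB.add_right,
        hB.smul_right, key, mul_zero, add_zero]
    let A : Matrix (Fin 3) (Fin 3) F := Matrix.of fun c j => w j c
    have hAA : Aᵀ * A = (1 : F) • 1 := by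
      ext j j'
      have h1 := iso_bil h (hO hh) (iso i₀ i (u j) : Idx m → F) (iso i₀ i (u j') : Idx m → F)
      rw [hexp, hexp, hpres, hu] at h1
      simp only [Fin.sum_univ_three, hB.add_left, hB.add_right, hB.smul_left, hB.smul_right, hpres, hu] at h1
      simp at h1
      rw [one_smul, Matrix.one_apply, Matrix.mul_apply, Fin.sum_univ_three]
      simp only [A, Matrix.transpose_apply, Matrix.of_apply]
      refine mul_left_cancel₀ hl ?_
      rw [mul_ite, mul_one, mul_zero, ← h1]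
      ring
    obtain ⟨c₀, hc₀⟩ := AschFormOrth.similar_mono h3 one_ne_zero hAA (ρ a).2
    refine ⟨ρ.symm (π i, c₀), A c₀ (ρ a).2, ?_⟩
    show (h : Matrix (Idx m) (Idx m) F) *ᵥ (iso i₀ i (u (ρ a).2) : Idx m → F) = _
    rw [hexp, Finset.sum_eq_single c₀ (fun c _ hc => by
      rw [show w (ρ a).2 c = 0 from hc₀ c hc, zero_smul]) (by simp)]
    simp only [v, A, Matrix.of_apply, Equiv.apply_symm_apply]
    rw [aux _ _ (congrArg Prod.fst (ρ.apply_symm_apply (π i, c₀)))]
  choose a' c hac using hA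
  refine ⟨Matrix.of fun x a => if x = a' a then c a else 0, ?_, fun a => ⟨a' a, fun x hx => by simp [hx]⟩⟩
  ext x a
  have h1 := congrFun (hac a) x
  rw [← hcol a, Matrix.mulVec_mulVec, Matrix.mulVec_single_one] at h1
  refine h1.trans ?_
  show c a * v (a' a) x = (Pm * Matrix.of fun x a => if x = a' a then c a else 0) x a
  rw [Matrix.mul_apply, Finset.sum_eq_single (a' a) (fun y _ hy => by simp [hy]) (by simp)]
  simp [Pm, mul_comm]

end Cfsg.Agent.AschCase
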