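/-
Dimension case lists: a four-dimensional orthogonal factor of plus type splits into two planes.
-/
import Cfsg.Agent.Lib.AschCaseExcl

set_option autoImplicit false
set_option linter.unusedSectionVars false

namespace Cfsg.Agent.AschCase

open scoped Matrix Kronecker
open Cfsg Cfsg.Geo Cfsg.Agent.AschPrimeBasic Cfsg.Agent.AschPrimeForms Cfsg.Agent.AschGenTensor
  Cfsg.Agent.AschFormBasic Cfsg.Agent.AschFormTensor Cfsg.Agent.AschFormStruct Cfsg.Agent.AschFormWreath

variable {F : Type*} [Field F] [Fintype F]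

local notation "M₂" => Matrix (Fin 2) (Fin 2) F

lemma idempotent_diag {E : M₂} (ht : E 0 0 + E 1 1 = 1) (hd : E.det = 0) :
    ∃ T T' : M₂, T * T' = 1 ∧ T' * T = 1 ∧ E * T = T * !![1, 0; 0, 0] := by
  rw [Matrix.det_fin_two] at hd
  have hd' : E 1 1 = 1 - E 0 0 := by linear_combination ht
  rw [hd'] at hd
  have mk : ∀ T : M₂, T.det ≠ 0 → E * T = T * !![1, 0; 0, 0] →
      ∃ T T' : M₂, T * T' = 1 ∧ T' * T = 1 ∧ E * T = T * !![1, 0; 0, 0] := fun T hT h =>
    ⟨T, T⁻¹, Matrix.mul_nonsing_inv T (isUnit_iff_ne_zero.2 hT), Matrix.nonsing_inv_mul T (isUnit_iff_ne_zero.2 hT), h⟩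
  by_cases ha : E 0 0 = 0
  · refine mk !![E 0 1, 1; 1, -E 1 0] ?_ ?_
    · rw [Matrix.det_fin_two_of, show E 0 1 * -E 1 0 - 1 * 1 = (-1 : F) by rw [ha] at hd; linear_combination hd]
      exact neg_ne_zero.2 one_ne_zero
    · rw [ha] at hd
      ext i j
      fin_cases i <;> fin_cases j <;> simp [Matrix.mul_apply, Fin.sum_univ_two, ha, hd'] <;>
        first | ring1 | linear_combination hd | linear_combination -hd | exact mul_eq_zero.1 (by linear_combination hd) | exact mul_eq_zero.1 (by linear_combination -hd)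
  · refine mk !![E 0 0, -E 0 1; E 1 0, E 0 0] ?_ ?_
    · rw [Matrix.det_fin_two_of, show E 0 0 * E 0 0 - -E 0 1 * E 1 0 = E 0 0 by linear_combination -hd]
      exact ha
    · ext i j
      fin_cases i <;> fin_cases j <;> simp [Matrix.mul_apply, Fin.sum_univ_two, hd'] <;>
        first | ring1 | linear_combination hd | linear_combination -hd | exact mul_eq_zero.1 (by linear_combination hd) | exact mul_eq_zero.1 (by linear_combination -hd)

/-- the similitudes of the tensor square of the symplectic plane -/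
theorem split_similitude (h2 : (2 : F) ≠ 0) {A : Matrix (Fin 2 × Fin 2) (Fin 2 × Fin 2) F} {l : F} (hl : l ≠ 0)
    (hA : Aᵀ * (planeJ ⊗ₖ planeJ) * A = l • (planeJ ⊗ₖ planeJ)) :
    ∃ B C : M₂, A = B ⊗ₖ C ∨ ∀ i j k n, A (i, j) (k, n) = (B ⊗ₖ C) (i, j) (n, k) := by
  let φ : M₂ →ₗ[F] M₂ :=
    { toFun := fun X => Matrix.of fun i j => ∑ p : Fin 2 × Fin 2, A (i, j) p * X p.1 p.2
      map_add' := fun X Y => by ext i j; simp [mul_add, Finset.sum_add_distrib]
      map_smul' := fun c X => by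
        ext i j
        simp only [Matrix.of_apply, Matrix.smul_apply, smul_eq_mul, RingHom.id_apply, Finset.mul_sum]
        exact Finset.sum_congr rfl fun p _ => by ring }
  -- the determinant as a form
  have hform : ∀ X : M₂, (fun p : Fin 2 × Fin 2 => X p.1 p.2) ⬝ᵥ
      ((planeJ ⊗ₖ planeJ : Matrix _ _ F) *ᵥ fun p => X p.1 p.2) = 2 * X.det := fun X => by
    simp [dotProduct, Matrix.mulVec, Fintype.sum_prod_type, Fin.sum_univ_two, planeJ, Matrix.det_fin_two]
    ring
  have hdet : ∀ X, (φ X).det = l * X.det := by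
    intro X
    refine mul_left_cancel₀ h2 ?_
    have h1 : (fun p : Fin 2 × Fin 2 => φ X p.1 p.2) = A *ᵥ fun p => X p.1 p.2 := by
      funext p; simp [φ, Matrix.mulVec, dotProduct]
    rw [← hform, h1, Matrix.dotProduct_mulVec, Matrix.vecMul_mulVec, ← Matrix.dotProduct_mulVec,
      Matrix.mulVec_mulVec, hA, Matrix.smul_mulVec, dotProduct_smul, hform, smul_eq_mul]
    ring
  -- normalised to fix the identity
  have hu : IsUnit (φ 1).det := isUnit_iff_ne_zero.2 (by rw [hdet, Matrix.det_one, mul_one]; exact hl)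
  let ψ : M₂ → M₂ := fun X => (φ 1)⁻¹ * φ X
  have hψd : ∀ X, (ψ X).det = X.det := fun X => by
    simp only [ψ, Matrix.det_mul, Matrix.det_nonsing_inv, Ring.inverse_eq_inv', hdet, Matrix.det_one]
    field_simp
  have hψa : ∀ X Y, ψ (X + Y) = ψ X + ψ Y := fun X Y => by simp only [ψ, map_add, mul_add]
  have hψ1 : ψ 1 = 1 := Matrix.nonsing_inv_mul _ hu
  have hψt : ∀ X, ψ X 0 0 + ψ X 1 1 = X 0 0 + X 1 1 := fun X => by
    have h1 := hψd (X + 1)
    have h3 := hψd X
    rw [hψa, hψ1, Matrix.det_fin_two, Matrix.det_fin_two] at h1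
    rw [Matrix.det_fin_two, Matrix.det_fin_two] at h3
    simp only [Matrix.add_apply, Matrix.one_apply_eq, Matrix.one_apply_ne (show (0 : Fin 2) ≠ 1 by decide),
      Matrix.one_apply_ne (show (1 : Fin 2) ≠ 0 by decide), add_zero] at h1
    linear_combination h1 - h3
  obtain ⟨T, T', hTT, hTT', hE⟩ := idempotent_diag (E := ψ !![1, 0; 0, 0])
    ((hψt _).trans (by simp)) (by rw [hψd, Matrix.det_fin_two_of]; ring)
  let χ : M₂ → M₂ := fun X => T' * ψ X * T
  have hχd : ∀ X, (χ X).det = X.det := fun X => by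
    have h1 : T'.det * T.det = 1 := by rw [← Matrix.det_mul, hTT', Matrix.det_one]
    simp only [χ, Matrix.det_mul, hψd]
    linear_combination X.det * h1
  have hχa : ∀ X Y, χ (X + Y) = χ X + χ Y := fun X Y => by simp only [χ, hψa, mul_add, add_mul]
  have hχ1 : χ 1 = 1 := by simp only [χ, hψ1, mul_one, hTT']
  have hχE : χ !![1, 0; 0, 0] = !![1, 0; 0, 0] := by
    simp only [χ, mul_assoc, hE]
    rw [← mul_assoc, hTT', one_mul]
  have hoff : ∀ X : M₂, X 0 0 = 0 → X 1 1 = 0 → χ X 0 0 = 0 ∧ χ X 1 1 = 0 := by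
    intro X h0 h1
    have e1 := hχd (X + 1)
    have e2 := hχd (X + !![1, 0; 0, 0])
    have e3 := hχd X
    rw [hχa, hχ1, Matrix.det_fin_two, Matrix.det_fin_two] at e1
    rw [hχa, hχE, Matrix.det_fin_two, Matrix.det_fin_two] at e2
    rw [Matrix.det_fin_two, Matrix.det_fin_two] at e3
    simp [h0, h1, Matrix.one_apply] at e1 e2 e3
    have h4 : χ X 1 1 = 0 := by linear_combination e2 - e3
    exact ⟨by linear_combination e1 - e3 - h4, h4⟩
  obtain ⟨hy0, hy1⟩ := hoff !![0, 1; 0, 0] (by simp) (by simp)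
  obtain ⟨hz0, hz1⟩ := hoff !![0, 0; 1, 0] (by simp) (by simp)
  have ey := hχd !![0, 1; 0, 0]
  have ez := hχd !![0, 0; 1, 0]
  have eyz := hχd (!![0, 1; 0, 0] + !![0, 0; 1, 0])
  rw [hχa, Matrix.det_fin_two, Matrix.det_fin_two] at eyz
  rw [Matrix.det_fin_two, Matrix.det_fin_two] at ey ez
  set y := χ !![0, 1; 0, 0] with hy
  set z := χ !![0, 0; 1, 0] with hz
  simp [hy0, hy1, hz0, hz1] at ey ez eyz
  -- undoing the normalisations
  have back : ∀ X, φ X = φ 1 * (T * χ X * T') := fun X => by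
    simp only [χ, ψ, ← mul_assoc]
    rw [mul_assoc (φ 1), hTT, mul_one, Matrix.mul_nonsing_inv _ hu, one_mul, mul_assoc, hTT, mul_one]
  have hentry : ∀ i j k n, A (i, j) (k, n) = φ (Matrix.single k n 1) i j := fun i j k n => by
    simp only [φ, LinearMap.coe_mk, AddHom.coe_mk, Matrix.of_apply]
    rw [Finset.sum_eq_single (k, n) (fun p _ hp => by
      rw [Matrix.single_apply, if_neg (fun h => hp (Prod.ext h.1.symm h.2.symm)), mul_zero]) (by simp)]
    simp
  have h22 : χ !![0, 0; 0, 1] = !![0, 0; 0, 1] := by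
    have h1 : (1 : M₂) = !![1, 0; 0, 0] + !![0, 0; 0, 1] := by ext i j; fin_cases i <;> fin_cases j <;> simp
    have h3 := hχ1
    rw [h1, hχa, hχE] at h3
    exact add_left_cancel h3
  have s00 : Matrix.single (0 : Fin 2) (0 : Fin 2) (1 : F) = !![1, 0; 0, 0] := by
    ext i j; fin_cases i <;> fin_cases j <;> simp
  have s01 : Matrix.single (0 : Fin 2) (1 : Fin 2) (1 : F) = !![0, 1; 0, 0] := by
    ext i j; fin_cases i <;> fin_cases j <;> simp
  have s10 : Matrix.single (1 : Fin 2) (0 : Fin 2) (1 : F) = !![0, 0; 1, 0] := by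
    ext i j; fin_cases i <;> fin_cases j <;> simp
  have s11 : Matrix.single (1 : Fin 2) (1 : Fin 2) (1 : F) = !![0, 0; 0, 1] := by
    ext i j; fin_cases i <;> fin_cases j <;> simp
  by_cases hy01 : y 0 1 = 0
  · -- transposed
    have h10 : y 1 0 * z 0 1 = 1 := by
      have hzz := mul_eq_zero.2 ez
      rw [hy01] at eyz
      linear_combination eyz - hzz
    have hb : y 1 0 ≠ 0 := left_ne_zero_of_mul_eq_one h10
    have hz10 : z 1 0 = 0 := by
      rcases ez with h | h
      · exact absurd h (right_ne_zero_of_mul_eq_one h10)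
      · exact h
    refine ⟨φ 1 * T * !![1, 0; 0, y 1 0], (!![1, 0; 0, (y 1 0)⁻¹] * T')ᵀ, Or.inr fun i j k n => ?_⟩
    have hχT : χ (Matrix.single k n 1) = !![1, 0; 0, y 1 0] * Matrix.single n k 1 * !![1, 0; 0, (y 1 0)⁻¹] := by
      fin_cases k <;> fin_cases n
      · simp only [Fin.zero_eta, s00, hχE]
        ext a b; fin_cases a <;> fin_cases b <;> simp [Matrix.mul_apply, Fin.sum_univ_two]
      · simp only [Fin.zero_eta, Fin.mk_one, s01, s10, ← hy]
        ext a b; fin_cases a <;> fin_cases b <;> simp [Matrix.mul_apply, Fin.sum_univ_two, hy0, hy1, hy01]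
      · simp only [Fin.zero_eta, Fin.mk_one, s01, s10, ← hz]
        ext a b; fin_cases a <;> fin_cases b <;> simp [Matrix.mul_apply, Fin.sum_univ_two, hz0, hz1, hz10]
        exact eq_inv_of_mul_eq_one_right h10
      · simp only [Fin.mk_one, s11, h22]
        ext a b; fin_cases a <;> fin_cases b <;> simp [Matrix.mul_apply, Fin.sum_univ_two, hb]
    rw [hentry, back, hχT, Matrix.kroneckerMap_apply, Matrix.transpose_apply,
      show φ 1 * (T * (!![1, 0; 0, y 1 0] * Matrix.single n k 1 * !![1, 0; 0, (y 1 0)⁻¹]) * T') =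
        φ 1 * T * !![1, 0; 0, y 1 0] * Matrix.single n k 1 * (!![1, 0; 0, (y 1 0)⁻¹] * T') by simp only [mul_assoc]]
    rw [Matrix.mul_apply, Finset.sum_eq_single k (fun b _ hb => by
      rw [Matrix.mul_single_apply_of_ne _ _ _ _ _ hb, zero_mul]) (by simp), Matrix.mul_single_apply_same, mul_one]
  · have hy10 : y 1 0 = 0 := ey.resolve_left hy01
    have hz01 : z 0 1 = 0 := by
      rcases ez with h | h
      · exact h
      · exfalso; rw [hy10, h] at eyz; simp at eyz
    have h01 : y 0 1 * z 1 0 = 1 := by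
      rw [hy10, hz01] at eyz
      linear_combination eyz
    refine ⟨φ 1 * T * !![y 0 1, 0; 0, 1], (!![(y 0 1)⁻¹, 0; 0, 1] * T')ᵀ, Or.inl ?_⟩
    ext ⟨i, j⟩ ⟨k, n⟩
    have hχT : χ (Matrix.single k n 1) = !![y 0 1, 0; 0, 1] * Matrix.single k n 1 * !![(y 0 1)⁻¹, 0; 0, 1] := by
      fin_cases k <;> fin_cases n
      · simp only [Fin.zero_eta, s00, hχE]
        ext a b; fin_cases a <;> fin_cases b <;> simp [Matrix.mul_apply, Fin.sum_univ_two, hy01]
      · simp only [Fin.zero_eta, Fin.mk_one, s01, ← hy]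
        ext a b; fin_cases a <;> fin_cases b <;> simp [Matrix.mul_apply, Fin.sum_univ_two, hy0, hy1, hy10]
      · simp only [Fin.zero_eta, Fin.mk_one, s10, ← hz]
        ext a b; fin_cases a <;> fin_cases b <;> simp [Matrix.mul_apply, Fin.sum_univ_two, hz0, hz1, hz01]
        exact eq_inv_of_mul_eq_one_right h01
      · simp only [Fin.mk_one, s11, h22]
        ext a b; fin_cases a <;> fin_cases b <;> simp [Matrix.mul_apply, Fin.sum_univ_two]
    rw [hentry, back, hχT, Matrix.kroneckerMap_apply, Matrix.transpose_apply,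
      show φ 1 * (T * (!![y 0 1, 0; 0, 1] * Matrix.single k n 1 * !![(y 0 1)⁻¹, 0; 0, 1]) * T') =
        φ 1 * T * !![y 0 1, 0; 0, 1] * Matrix.single k n 1 * (!![(y 0 1)⁻¹, 0; 0, 1] * T') by simp only [mul_assoc]]
    rw [Matrix.mul_apply, Finset.sum_eq_single n (fun b _ hb => by
      rw [Matrix.mul_single_apply_of_ne _ _ _ _ _ hb, zero_mul]) (by simp), Matrix.mul_single_apply_same, mul_one]

/-- a hyperbolic basis of a four-dimensional symmetric form of plus type -/
theorem plus_congr (h2 : (2 : F) ≠ 0) {f : (Fin 4 → F) → (Fin 4 → F) → F} (hf : IsSymmetricForm f)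
    (hp : IsPlusTypeOn (fun v => f v v) ⊤) :
    ∃ S : GL (Fin 4) F, (S : Matrix (Fin 4) (Fin 4) F)ᵀ * gramMatrix f * (S : Matrix (Fin 4) (Fin 4) F) =
      pull (finProdFinEquiv (m := 2) (n := 2)).symm ((planeJ ⊗ₖ planeJ) : Matrix (Fin 2 × Fin 2) (Fin 2 × Fin 2) F) := by
  obtain ⟨U, -, hts, hrank⟩ := hp
  rw [finrank_top, Module.finrank_pi, Fintype.card_fin] at hrank
  have hsub : ∀ a b c, f (a - b) c = f a c - f b c := fun a b c => by
    rw [sub_eq_add_neg, ← neg_one_smul F b, hf.bilinear.add_left, hf.bilinear.smul_left]; ring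
  have hUU : ∀ a ∈ U, ∀ b ∈ U, f a b = 0 := fun a ha b hb => by
    have := hts _ (U.add_mem ha hb)
    simp only [hf.bilinear.add_left, hf.bilinear.add_right, show f a a = 0 from hts a ha,
      show f b b = 0 from hts b hb, hf.symm b a] at this
    exact mul_left_cancel₀ h2 (by linear_combination this)
  let bU := Module.finBasisOfFinrankEq F U (show Module.finrank F U = 2 by omega)
  set u₁ : Fin 4 → F := ((bU 0 : U) : Fin 4 → F) with hu₁
  have hdual : ∀ u, u ≠ 0 → ∃ v, f u v = 1 := fun u hu => by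
    obtain ⟨⟨x, hx⟩, -⟩ := hf.nondegenerate u hu
    exact ⟨(f u x)⁻¹ • x, by rw [hf.bilinear.smul_right, inv_mul_cancel₀ (by rwa [hf.symm u x])]⟩
  have hu₁0 : u₁ ≠ 0 := fun h => bU.ne_zero 0 (Subtype.ext h)
  obtain ⟨v₁, hv₁⟩ := hdual u₁ hu₁0
  set u₂ : Fin 4 → F := ((bU 1 : U) : Fin 4 → F) - f ((bU 1 : U) : Fin 4 → F) v₁ • u₁ with hu₂
  have hu₂U : u₂ ∈ U := U.sub_mem (bU 1).2 (U.smul_mem _ (bU 0).2)
  have hu₂v : f u₂ v₁ = 0 := by rw [hu₂, hsub, hf.bilinear.smul_left, hv₁]; ring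
  have hu₂0 : u₂ ≠ 0 := fun h => by
    have h1 : bU 1 - f ((bU 1 : U) : Fin 4 → F) v₁ • bU 0 = 0 := Subtype.ext h
    have h3 := congrArg (fun x => bU.repr x 1) h1
    simp at h3
  obtain ⟨v₂, hv₂⟩ := hdual u₂ hu₂0
  set v₂' := v₂ + (-(f u₁ v₂)) • v₁ with hv₂'
  set w₁ := v₁ + (-(f v₁ v₁ / 2)) • u₁ with hw₁
  set v₂'' := v₂' + (-(f v₂' w₁)) • u₁ with hv₂''
  set w₂ := v₂'' + (-(f v₂'' v₂'' / 2)) • u₂ with hw₂
  have a11 : f u₁ u₁ = 0 := hUU _ (bU 0).2 _ (bU 0).2
  have a12 : f u₁ u₂ = 0 := hUU _ (bU 0).2 _ hu₂U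
  have a22 : f u₂ u₂ = 0 := hUU _ hu₂U _ hu₂U
  have b11 : f u₁ w₁ = 1 := by rw [hw₁, hf.bilinear.add_right, hf.bilinear.smul_right, hv₁, a11]; ring
  have b21 : f u₂ w₁ = 0 := by rw [hw₁, hf.bilinear.add_right, hf.bilinear.smul_right, hu₂v, hf.symm u₂ u₁, a12]; ring
  have c11 : f w₁ w₁ = 0 := by
    rw [hw₁]
    simp only [hf.bilinear.add_left, hf.bilinear.add_right, hf.bilinear.smul_left, hf.bilinear.smul_right, a11, hv₁,
      hf.symm v₁ u₁]
    field_simp
    ring
  have d1 : f u₁ v₂' = 0 := by rw [hv₂', hf.bilinear.add_right, hf.bilinear.smul_right, hv₁]; ring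
  have d2 : f u₂ v₂' = 1 := by rw [hv₂', hf.bilinear.add_right, hf.bilinear.smul_right, hu₂v, hv₂]; ring
  have e1 : f u₁ v₂'' = 0 := by rw [hv₂'', hf.bilinear.add_right, hf.bilinear.smul_right, d1, a11]; ring
  have e2 : f u₂ v₂'' = 1 := by
    rw [hv₂'', hf.bilinear.add_right, hf.bilinear.smul_right, d2, hf.symm u₂ u₁, a12]; ring
  have e3 : f v₂'' w₁ = 0 := by rw [hv₂'', hf.bilinear.add_left, hf.bilinear.smul_left, b11]; ring
  have b12 : f u₁ w₂ = 0 := by rw [hw₂, hf.bilinear.add_right, hf.bilinear.smul_right, e1, a12]; ring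
  have b22 : f u₂ w₂ = 1 := by rw [hw₂, hf.bilinear.add_right, hf.bilinear.smul_right, e2, a22]; ring
  have c12 : f w₁ w₂ = 0 := by
    rw [hw₂, hf.bilinear.add_right, hf.bilinear.smul_right, hf.symm w₁ v₂'', e3, hf.symm w₁ u₂, b21]; ring
  have c22 : f w₂ w₂ = 0 := by
    rw [hw₂]
    simp only [hf.bilinear.add_left, hf.bilinear.add_right, hf.bilinear.smul_left, hf.bilinear.smul_right, a22, e2,
      hf.symm v₂'' u₂]
    field_simp
    ring
  let col : Fin 4 → Fin 4 → F := ![u₁, u₂, (-1 : F) • w₂, w₁]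
  let S : Matrix (Fin 4) (Fin 4) F := Matrix.of fun a b => col b a
  have hS : Sᵀ * gramMatrix f * S =
      pull (finProdFinEquiv (m := 2) (n := 2)).symm ((planeJ ⊗ₖ planeJ) : Matrix (Fin 2 × Fin 2) (Fin 2 × Fin 2) F) := by
    ext a b
    have h1 : (Sᵀ * gramMatrix f * S) a b = f (col a) (col b) := by
      rw [(sesq_of_bilinear hf.bilinear).eq_gram, Matrix.mul_assoc, Matrix.mul_apply, dotProduct]
      simp [S, Matrix.mulVec, dotProduct, Matrix.mul_apply]
    rw [h1]
    fin_cases a <;> fin_cases b <;>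
      simp [col, pull_apply, finProdFinEquiv, Fin.divNat, Fin.modNat, planeJ, hf.bilinear.smul_left,
        hf.bilinear.smul_right, a11, a12, a22, b11, b12, b21, b22, c11, c12, c22, hf.symm u₂ u₁, hf.symm w₁ u₁,
        hf.symm w₁ u₂, hf.symm w₂ u₁, hf.symm w₂ u₂, hf.symm w₂ w₁, -neg_smul]
  have hdet : S.det ≠ 0 := fun h => by
    have h1 := congrArg Matrix.det hS
    rw [Matrix.det_mul, h, mul_zero, pull_det, Matrix.det_kronecker] at h1
    simp [planeJ, Matrix.det_fin_two] at h1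
  exact ⟨Matrix.GeneralLinearGroup.mkOfDetNeZero S hdet, hS⟩

/-- pairs of a factor and a pair of factors -/
def triEquiv : Fin 2 × (Fin 2 × Fin 2) ≃ (Fin 3 → Fin 2) where
  toFun p := ![p.1, p.2.1, p.2.2]
  invFun g := (g 0, g 1, g 2)
  left_inv p := by simp
  right_inv g := funext fun i => by fin_cases i <;> rfl

variable {ι : Type} [Fintype ι] [DecidableEq ι] {ε : F} {f : (ι → F) → (ι → F) → F}

/-- a plus-type orthogonal factor turns a two-by-four product into a threefold power -/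
theorem tensor_plus_wreath (h2 : (2 : F) ≠ 0) (hf : FormData (RingEquiv.refl F) ε f) {H : Subgroup (GL ι F)}
    (hI : Isos H f) {e : ι ≃ Fin 2 × Fin 4} {P : GL ι F} {f₁ : (Fin 2 → F) → (Fin 2 → F) → F}
    {f₂ : (Fin 4 → F) → (Fin 4 → F) → F} (h₁ : IsSymplecticForm f₁) (h₂ : IsSymmetricForm f₂)
    (hp : IsPlusTypeOn (fun v => f₂ v v) ⊤)
    (hT : IsTensorFormStructure id f f₁ f₂ e P) (hle : H ≤ tensorProductSubgroup 2 4 e P) :
    ∃ (e' : ι ≃ (Fin 3 → Fin 2)) (P' : GL ι F) (c : F), c ≠ 0 ∧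
      gramP (RingEquiv.refl F) f e' P' = c • pureMat (fun _ => (planeJ : M₂)) ∧
      H ≤ tensorWreathSubgroup 2 3 e' P' := by
  obtain ⟨c, hc, hgram, hd₁, -⟩ := gram_of_structure hf two_pos (by norm_num : 0 < 4) (σ := RingEquiv.refl F) hT
  obtain ⟨S, hS⟩ := plus_congr h2 h₂ hp
  set a := gramMatrix f₁ 0 1 with ha
  have hG₁ : gramMatrix f₁ = a • planeJ := by
    ext i j
    fin_cases i <;> fin_cases j <;> simp [gramMatrix, planeJ, a, h₁.alternating]
    exact h₁.skew _ _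
  have ha0 : a ≠ 0 := fun h => by
    rw [hG₁, h, zero_smul, Matrix.det_zero] at hd₁
    exact not_isUnit_zero hd₁
  set ν : Fin 4 ≃ Fin 2 × Fin 2 := (finProdFinEquiv (m := 2) (n := 2)).symm with hν
  set J₂ : Matrix (Fin 2 × Fin 2) (Fin 2 × Fin 2) F := planeJ ⊗ₖ planeJ with hJ₂
  set X := kronUnit (1 : GL (Fin 2) F) S with hX
  set P' := P * glReindex e.symm X with hP'
  have hgram' : gramP (RingEquiv.refl F) f e P' = (c * a) • ((planeJ : M₂) ⊗ₖ pull ν J₂) := by
    rw [hP', gramP_rebase, hgram, show (X : Matrix (Fin 2 × Fin 4) (Fin 2 × Fin 4) F) =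
      (1 : M₂) ⊗ₖ (S : Matrix (Fin 4) (Fin 4) F) from rfl, ← Matrix.kroneckerMap_transpose,
      kron_map, Matrix.mul_smul, Matrix.smul_mul, ← Matrix.mul_kronecker_mul, ← Matrix.mul_kronecker_mul,
      show (S : Matrix (Fin 4) (Fin 4) F).map (RingEquiv.refl F) = (S : Matrix (Fin 4) (Fin 4) F) from rfl, hS,
      Matrix.transpose_one, map_one_mat, one_mul, mul_one, hG₁, Matrix.smul_kronecker, smul_smul]
  have hle' := hle.trans (conj_map_rebase _ e P (kronUnit_mem 1 S))
  let e₁ : ι ≃ Fin 2 × (Fin 2 × Fin 2) := e.trans (Equiv.prodCongr (Equiv.refl _) ν)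
  refine ⟨e₁.trans triEquiv, P', c * a, mul_ne_zero hc ha0, ?_, fun h hh => ?_⟩
  · ext x y
    obtain ⟨⟨x₀, x₁, x₂⟩, rfl⟩ := triEquiv.surjective x
    obtain ⟨⟨y₀, y₁, y₂⟩, rfl⟩ := triEquiv.surjective y
    have h1 := congrFun (congrFun hgram' (x₀, ν.symm (x₁, x₂))) (y₀, ν.symm (y₁, y₂))
    simp only [gramP, Matrix.of_apply, Matrix.smul_apply, Matrix.kroneckerMap_apply, pull_apply,
      Equiv.apply_symm_apply, hJ₂, smul_eq_mul] at h1
    simp only [gramP, Matrix.of_apply, Matrix.smul_apply, pureMat, smul_eq_mul, Fin.prod_univ_three, e₁,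
      Equiv.symm_trans_apply, Equiv.symm_apply_apply, Equiv.prodCongr_symm, Equiv.prodCongr_apply,
      Equiv.refl_symm, Equiv.coe_refl, Prod.map, id]
    exact h1.trans (by simp [triEquiv, mul_assoc])
  · have hG2 : pull ν J₂ ≠ 0 := fun h => by
      have := congrArg Matrix.det h
      rw [pull_det, hJ₂, Matrix.det_kronecker, Matrix.det_zero] at this
      simp [planeJ, Matrix.det_fin_two] at this
    have hJ0 : (planeJ : M₂) ≠ 0 := fun h => one_ne_zero (α := F) (by simpa [planeJ] using congrFun (congrFun h 0) 1)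
    obtain ⟨A, B, l, hl, hval, -, hB⟩ := tensor_elem hf (mul_ne_zero hc ha0) hJ0 hG2 hgram' (hle' hh) (hI h hh)
    obtain ⟨B₂, hB₂⟩ := pull_surjective (F := F) ν (B : Matrix (Fin 4) (Fin 4) F)
    rw [show (B : Matrix (Fin 4) (Fin 4) F).map (RingEquiv.refl F) = (B : Matrix (Fin 4) (Fin 4) F) from rfl, ← hB₂,
      pull_transpose, ← map_mul, ← map_mul, ← map_smul] at hB
    have hsim := pull_injective (F := F) ν hB
    obtain ⟨B', C', hcase⟩ := split_similitude h2 (inv_ne_zero hl) hsim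
    have hdd : B'.det ≠ 0 ∧ C'.det ≠ 0 := by
      have hB0 : B₂.det ≠ 0 := fun h => by
        have := Matrix.isUnit_iff_isUnit_det _ |>.1 B.isUnit
        rw [← hB₂, pull_det, h] at this
        exact not_isUnit_zero this
      have h0 : (B' ⊗ₖ C').det ≠ 0 := by
        rcases hcase with rfl | hcase
        · exact hB0
        · intro h0
          apply hB0
          rw [show B₂ = (B' ⊗ₖ C').submatrix id (Equiv.prodComm _ _) from
            Matrix.ext fun ⟨i, j⟩ ⟨k, n⟩ => hcase i j k n, Matrix.det_permute', h0, mul_zero]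
      rw [Matrix.det_kronecker] at h0
      exact ⟨fun h => h0 (by simp [h]), fun h => h0 (by simp [h])⟩
    let gs : Fin 3 → GL (Fin 2) F :=
      ![A, Matrix.GeneralLinearGroup.mkOfDetNeZero B' hdd.1, Matrix.GeneralLinearGroup.mkOfDetNeZero C' hdd.2]
    rcases hcase with hcase | hcase
    · refine mem_conj_pull (pureUnit gs) (pureUnit_mem gs) (hval.trans ?_)
      congr 2
      ext p q
      obtain ⟨⟨i, s⟩, hp⟩ : ∃ z, e p = z := ⟨_, rfl⟩
      obtain ⟨⟨k, t⟩, hq⟩ : ∃ z, e q = z := ⟨_, rfl⟩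
      simp only [pull_apply, Equiv.trans_apply, e₁, Equiv.prodCongr_apply, Equiv.coe_refl, Prod.map, id, hp, hq,
        Matrix.kroneckerMap_apply, ← hB₂, hcase, triEquiv, Equiv.coe_fn_mk, pureUnit, pureMat, Matrix.of_apply,
        Fin.prod_univ_three, gs]
      simp [mul_assoc]
    · refine mem_conj_pull (pureUnit gs * permUnit (Equiv.swap 1 2))
        (Subgroup.mul_mem _ (pureUnit_mem gs) (permUnit_mem _)) (hval.trans ?_)
      congr 2
      ext p q
      obtain ⟨⟨i, s⟩, hp⟩ : ∃ z, e p = z := ⟨_, rfl⟩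
      obtain ⟨⟨k, t⟩, hq⟩ : ∃ z, e q = z := ⟨_, rfl⟩
      rw [pull_apply, pull_apply, show ((pureUnit gs * permUnit (Equiv.swap 1 2) : GL (Fin 3 → Fin 2) F) :
        Matrix _ _ F) = pureMat (fun i => (gs i : M₂)) * permMat (Equiv.swap 1 2) from rfl, mul_permMat]
      simp only [Equiv.trans_apply, e₁, Equiv.prodCongr_apply, Equiv.coe_refl, Prod.map, id, hp, hq,
        Matrix.kroneckerMap_apply, ← hB₂, pull_apply, triEquiv, Equiv.coe_fn_mk, pureMat, Matrix.of_apply,
        Fin.prod_univ_three, gs]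
      rw [show B₂ (ν s) (ν t) = _ from hcase _ _ _ _]
      simp [mul_assoc, Equiv.swap_apply_def, hν]
      exact Or.inl rfl

end Cfsg.Agent.AschCase
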