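/-
Dimension case lists: the maximal subgroups of the symplectic group.
-/
import Cfsg.Agent.Lib.AschCasePlus
import Cfsg.Agent.Lib.AschCaseClassical

set_option autoImplicit false
set_option linter.unusedSectionVars false

namespace Cfsg.Agent.AschCase

open scoped Matrix Kronecker
open Cfsg Cfsg.Geo Cfsg.Agent.AschPrimeBasic Cfsg.Agent.AschPrimeForms Cfsg.Agent.AschFormBasic
  Cfsg.Agent.AschGenExtra Cfsg.Agent.AschFormAlg Cfsg.Agent.AschGenTensor

variable {ι : Type} [Fintype ι] [DecidableEq ι] {F : Type*} [Field F] [Fintype F]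
variable {σ : F ≃+* F} {ε : F} {f : (ι → F) → (ι → F) → F}

/-- a totally singular subspace has at most half the dimension -/
lemma singular_le_half (hf : FormData σ ε f) {W : Submodule F (ι → F)} (hW : IsTotallySingularFor f W) :
    2 * Module.finrank F W ≤ Fintype.card ι := by
  let M : W →ₛₗ[(σ : F →+* F)] Module.Dual F (ι → F) :=
    { toFun := fun w =>
        { toFun := fun v => f v (w : ι → F)
          map_add' := fun a b => hf.sesq.add_left a b _
          map_smul' := fun a b => hf.sesq.smul_left a b _ }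
      map_add' := fun a b => LinearMap.ext fun v => hf.sesq.add_right v _ _
      map_smul' := fun a b => LinearMap.ext fun v => hf.sesq.smul_right a v _ }
  let bW := Module.finBasis F W
  have hli : LinearIndependent F fun i => M (bW i) := by
    refine Fintype.linearIndependent_iff.2 fun g hg i => ?_
    have h1 : M (∑ j, σ.symm (g j) • bW j) = 0 := by
      rw [map_sum]
      simp only [map_smulₛₗ, RingEquiv.coe_toRingHom, RingEquiv.apply_symm_apply]
      exact hg
    have h2 : ((∑ j, σ.symm (g j) • bW j : W) : ι → F) = 0 := by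
      by_contra hne
      obtain ⟨⟨x, hx⟩, -⟩ := hf.nd _ hne
      exact hx (LinearMap.congr_fun h1 x)
    have h3 := Fintype.linearIndependent_iff.1 bW.linearIndependent _ (Subtype.ext h2) i
    exact σ.symm.injective (h3.trans (map_zero _).symm)
  have hle : Submodule.span F (Set.range fun i => M (bW i)) ≤ W.dualAnnihilator := by
    rw [Submodule.span_le]
    rintro _ ⟨i, rfl⟩
    rw [SetLike.mem_coe, Submodule.mem_dualAnnihilator]
    exact fun v hv => hW v hv _ (bW i).2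
  have h1 := Submodule.finrank_mono hle
  rw [finrank_span_eq_card hli, Fintype.card_fin] at h1
  have h2 := Subspace.finrank_add_finrank_dualAnnihilator_eq W
  rw [Module.finrank_pi] at h2
  omega

/-- the degree of a self-adjoint alternating field divides half the dimension -/
theorem alt_field_dvd (hf : FormData (RingEquiv.refl F) ε f) {m : ℕ} (hcard : Fintype.card ι = 2 * m) {r : ℕ}
    {K : Subalgebra F (Matrix ι ι F)} (hK : IsFieldSubalgebra r K) (hsa : IsSelfAdjointFor f K)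
    (halt : ∀ k ∈ K, ∀ v, f (k *ᵥ v) v = 0) : r ∣ m := by
  classical
  let Good : Submodule F (ι → F) → Prop := fun W =>
    IsTotallySingularFor f W ∧ (∀ k ∈ K, ∀ w ∈ W, k *ᵥ w ∈ W) ∧ r ∣ Module.finrank F W
  obtain ⟨W, hW, hmax⟩ := Finset.exists_max_image (Finset.univ.filter Good) (fun W => Module.finrank F W)
    ⟨⊥, by
      simp only [Finset.mem_filter, Finset.mem_univ, true_and, Good]
      refine ⟨fun u hu v _ => ?_, fun k _ w hw => ?_, by simp⟩
      · rw [(Submodule.mem_bot F).1 hu, ← zero_smul F v, hf.sesq.smul_left, zero_mul]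
      · rw [(Submodule.mem_bot F).1 hw, Matrix.mulVec_zero]; exact Submodule.zero_mem _⟩
  simp only [Finset.mem_filter, Finset.mem_univ, true_and, Good] at hW hmax
  obtain ⟨hts, hinv, hdvd⟩ := hW
  have hhalf := singular_le_half hf hts
  suffices m ≤ Module.finrank F W by
    rwa [show m = Module.finrank F W by omega]
  by_contra hlt
  push Not at hlt
  obtain ⟨v, hv, hvW⟩ : ∃ v, (∀ w ∈ W, f v w = 0) ∧ v ∉ W := by
    by_contra hall
    push Not at hall
    let bW := Module.finBasis F W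
    let L : (ι → F) →ₗ[F] (Fin (Module.finrank F W) → F) :=
      { toFun := fun v k => f v (bW k : ι → F)
        map_add' := fun a b => funext fun k => hf.sesq.add_left a b _
        map_smul' := fun a b => funext fun k => hf.sesq.smul_left a b _ }
    have h1 := LinearMap.finrank_range_add_finrank_ker L
    have h2 : Module.finrank F (LinearMap.range L) ≤ Module.finrank F W := (Submodule.finrank_le _).trans (by simp)
    have h3 : LinearMap.ker L ≤ W := fun v hv => hall v fun w hw => by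
      have key : ∀ x : W, f v (x : ι → F) = 0 := by
        intro x
        rw [← bW.sum_repr x]
        let g : W →ₗ[F] F :=
          { toFun := fun y => f v (y : ι → F)
            map_add' := fun a b => hf.sesq.add_right _ _ _
            map_smul' := fun a b => hf.sesq.smul_right a _ _ }
        show g _ = 0
        rw [map_sum]
        refine Finset.sum_eq_zero fun i _ => ?_
        rw [map_smul, show g (bW i) = 0 from congrFun (LinearMap.mem_ker.1 hv) i, smul_zero]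
      exact key ⟨w, hw⟩
    have h4 := Submodule.finrank_mono h3
    rw [Module.finrank_pi, hcard] at h1
    omega
  let φ : K →ₗ[F] (ι → F) :=
    { toFun := fun k => (k : Matrix ι ι F) *ᵥ v
      map_add' := fun a b => Matrix.add_mulVec _ _ _
      map_smul' := fun a b => Matrix.smul_mulVec _ _ _ }
  have hout : ∀ k ∈ K, k *ᵥ v ∈ W → k = 0 := by
    intro k hk hkW
    by_contra hk0
    obtain ⟨l, hl, hkl⟩ := hK.inv k hk hk0
    refine hvW ?_
    have := hinv l hl _ hkW
    rwa [Matrix.mulVec_mulVec, hK.comm l hl k hk, hkl, Matrix.one_mulVec] at this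
  have hinj : Function.Injective φ := (injective_iff_map_eq_zero φ).2 fun k hk => Subtype.ext (hout k k.2 (by
    rw [show (k : Matrix ι ι F) *ᵥ v = 0 from hk]; exact W.zero_mem))
  have hrank : Module.finrank F (LinearMap.range φ) = r := by
    rw [LinearMap.finrank_range_of_inj hinj, hK.finrank_eq]
  have hdis : W ⊓ LinearMap.range φ = ⊥ := by
    rw [Submodule.eq_bot_iff]
    rintro x ⟨hx, k, rfl⟩
    rw [show φ k = (k : Matrix ι ι F) *ᵥ v from rfl] at hx ⊢
    rw [hout k k.2 hx, Matrix.zero_mulVec]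
  have hsum := Submodule.finrank_sup_add_finrank_inf_eq W (LinearMap.range φ)
  rw [hdis, finrank_bot, add_zero, hrank] at hsum
  have hkv : ∀ k ∈ K, ∀ w ∈ W, f (k *ᵥ v) w = 0 := fun k hk w hw => by rw [hsa k hk]; exact hv _ (hinv k hk w hw)
  have hkk : ∀ k ∈ K, ∀ l ∈ K, f (k *ᵥ v) (l *ᵥ v) = 0 := fun k hk l hl => by
    rw [← hsa l hl, Matrix.mulVec_mulVec]
    exact halt _ (K.mul_mem hl hk) v
  have hr : 0 < r := by
    haveI : Nontrivial K := by
      obtain ⟨i⟩ : Nonempty ι := Fintype.card_pos_iff.1 (by omega)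
      exact ⟨0, 1, fun h => zero_ne_one ((congrFun (congrFun (congrArg Subtype.val h) i) i).trans (Matrix.one_apply_eq i))⟩
    exact hK.finrank_eq ▸ Module.finrank_pos
  have := hmax (W ⊔ LinearMap.range φ) ⟨?_, ?_, by rw [hsum]; exact Nat.dvd_add hdvd dvd_rfl⟩
  · omega
  · intro a ha b hb
    obtain ⟨w, hw, _, ⟨k, rfl⟩, rfl⟩ := Submodule.mem_sup.1 ha
    obtain ⟨w', hw', _, ⟨l, rfl⟩, rfl⟩ := Submodule.mem_sup.1 hb
    rw [hf.sesq.add_left, hf.sesq.add_right, hf.sesq.add_right, hts w hw w' hw',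
      show f (φ k) w' = 0 from hkv k k.2 w' hw', show f w (φ l) = 0 from hf.symm_zero (hkv l l.2 w hw),
      show f (φ k) (φ l) = 0 from hkk k k.2 l l.2]
    ring
  · intro k hk a ha
    obtain ⟨w, hw, _, ⟨l, rfl⟩, rfl⟩ := Submodule.mem_sup.1 ha
    rw [Matrix.mulVec_add]
    refine Submodule.mem_sup.2 ⟨_, hinv k hk w hw, _, ⟨⟨k * l, K.mul_mem hk l.2⟩, rfl⟩, ?_⟩
    show k *ᵥ w + (k * (l : Matrix ι ι F)) *ᵥ v = k *ᵥ w + k *ᵥ ((l : Matrix ι ι F) *ᵥ v)
    rw [Matrix.mulVec_mulVec]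

/-- a nondegenerate subspace of an alternating form has even dimension -/
theorem nondeg_even {m : ℕ} {W : Submodule F (Fin m ⊕ Fin m → F)} (hW : IsNondegenerateOn (sympForm m F) W) :
    Even (Module.finrank F W) := by
  by_contra hne
  have hf := TransvectionMax.sympForm_isSymplecticForm (F := F) m
  let φ := (Module.finBasis F W).equivFun.symm
  refine no_symplectic (ι := Fin (Module.finrank F W)) (F := F) (by simpa using hne)
    ⟨fun x y => sympForm m F (φ x : Fin m ⊕ Fin m → F) (φ y : Fin m ⊕ Fin m → F),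
      ⟨fun x y v => by simp [hf.bilinear.add_left], fun c x v => by simp [hf.bilinear.smul_left],
        fun v x y => by simp [hf.bilinear.add_right], fun c v x => by simp [hf.bilinear.smul_right]⟩,
      fun x y => hf.skew _ _, fun x => hf.alternating _, fun x hx => ?_⟩
  have h0 : (φ x : Fin m ⊕ Fin m → F) ≠ 0 := fun h => hx (φ.injective (by rw [map_zero]; exact Subtype.ext h))
  obtain ⟨⟨a, ha, ha'⟩, b, hb, hb'⟩ := hW _ (φ x).2 h0
  exact ⟨⟨φ.symm ⟨a, ha⟩, by simpa using ha'⟩, φ.symm ⟨b, hb⟩, by simpa using hb'⟩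

variable {m : ℕ}

/-- the geometric possibilities for a maximal subgroup of the symplectic group -/
def SPList (m : ℕ) (F : Type*) [Field F] [Fintype F] (H : Subgroup (GL (Fin m ⊕ Fin m) F)) : Prop :=
  let f := sympForm m F
  let S := spGL m F
  (∃ W : Submodule F (Fin m ⊕ Fin m → F), W ≠ ⊥ ∧ IsTotallySingularFor f W ∧ H = subspaceStabilizer W ⊓ S) ∨
  (∃ W : Submodule F (Fin m ⊕ Fin m → F), W ≠ ⊥ ∧ IsNondegenerateOn f W ∧ Module.finrank F W < m ∧
      Even (Module.finrank F W) ∧ H = subspaceStabilizer W ⊓ S) ∨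
  (∃ (t k : ℕ) (D : Fin t → Submodule F (Fin m ⊕ Fin m → F)), t * k = 2 * m ∧ 2 ≤ t ∧ Even k ∧ 1 ≤ k ∧
      (k = 2 → 3 ≤ Fintype.card F) ∧ IsNondegenerateMDecomposition f k D ∧ H = decompositionStabilizer D ⊓ S) ∨
  (∃ D : Fin 2 → Submodule F (Fin m ⊕ Fin m → F), Odd (Fintype.card F) ∧ IsMDecomposition m D ∧
      (∀ i, IsTotallySingularFor f (D i)) ∧ H = decompositionStabilizer D ⊓ S) ∨
  (∃ (r : ℕ) (K : Subalgebra F (Matrix (Fin m ⊕ Fin m) (Fin m ⊕ Fin m) F)), r.Prime ∧ r ∣ m ∧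
      IsFieldSubalgebra r K ∧ IsSelfAdjointFor f K ∧ (∀ k ∈ K, ∀ v, f (k *ᵥ v) v = 0) ∧
      H = subalgebraNormalizer K ⊓ S) ∨
  (∃ K : Subalgebra F (Matrix (Fin m ⊕ Fin m) (Fin m ⊕ Fin m) F), Odd (Fintype.card F) ∧ IsFieldSubalgebra 2 K ∧
      IsAdjointClosedFor f K ∧ ¬ IsSelfAdjointFor f K ∧ H = subalgebraNormalizer K ⊓ S) ∨
  (∃ (n₁ n₂ : ℕ) (e : (Fin m ⊕ Fin m) ≃ Fin n₁ × Fin n₂) (P : GL (Fin m ⊕ Fin m) F)
      (f₁ : (Fin n₁ → F) → (Fin n₁ → F) → F) (f₂ : (Fin n₂ → F) → (Fin n₂ → F) → F),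
      n₁ * n₂ = 2 * m ∧ Even n₁ ∧ 1 ≤ n₁ ∧ 3 ≤ n₂ ∧ Odd (Fintype.card F) ∧ (n₂ = 3 → 5 ≤ Fintype.card F) ∧
      IsSymplecticForm f₁ ∧ IsSymmetricForm f₂ ∧ IsTensorFormStructure id f f₁ f₂ e P ∧
      CommSimple (RingEquiv.refl F) f H ∧ H = tensorProductSubgroup n₁ n₂ e P ⊓ S) ∨
  (∃ (k t : ℕ) (e : (Fin m ⊕ Fin m) ≃ (Fin t → Fin k)) (P : GL (Fin m ⊕ Fin m) F)
      (f₁ : (Fin k → F) → (Fin k → F) → F),
      k ^ t = 2 * m ∧ Odd (Fintype.card F) ∧ Odd t ∧ 3 ≤ t ∧ ¬ (Fintype.card F = 3 ∧ k = 2) ∧ IsSymplecticForm f₁ ∧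
      IsTensorPowerFormStructure id f f₁ e P ∧ H = tensorWreathSubgroup k t e P ⊓ S) ∨
  (∃ (F₀ : Subfield F) (r : ℕ) (P : GL (Fin m ⊕ Fin m) F) (ζ : F), r.Prime ∧ Fintype.card F = Nat.card F₀ ^ r ∧
      ζ ≠ 0 ∧ IsFormRationalStructure f F₀ ζ P ∧ H = subfieldSubgroup F₀ P ⊓ S) ∨
  (∃ (R : Subgroup (GL (Fin m ⊕ Fin m) F)) (p k : ℕ), IsSymplecticTypeGroup 2 R ∧
      ActsAbsolutelyIrreducibly (matrixSet R) ∧ R ≤ similarityGroup f ∧ p.Prime ∧ Odd p ∧ Fintype.card F = p ∧
      Nat.card R = 2 ^ (1 + 2 * k) ∧ Nat.card (Subgroup.center R) = 2 ∧ IsOfMinusType k R ∧ 2 * m = 2 ^ k ∧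
      H = subgroupNormalizer R ⊓ S) ∨
  (∃ Q : (Fin m ⊕ Fin m → F) → F, ¬ Odd (Fintype.card F) ∧ IsNondegenerateQuadraticForm Q ∧
      (∀ u v, QuadraticMap.polar Q u v = f u v) ∧ H = quadSimilarityGroup Q ⊓ S) ∨
  InSymplecticResidualClass H

/-- a class-two absolutely irreducible group with centre of order two has scalar squares -/
lemma sq_scalar_of_class2 [Nonempty ι] {R : Subgroup (GL ι F)} (hR : AbsIrred R) (h2 : Class2 R)
    (hz : Nat.card (Subgroup.center R) = 2) : ∀ x ∈ R, x * x ∈ scalars ι F := by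
  intro x hx
  refine hR.scalar_of_comm fun y hy => ?_
  have hc := h2 x hx y hy
  rw [commutatorElement_def] at hc
  set c := x * y * x⁻¹ * y⁻¹ with hcdef
  have hcR : c ∈ R := R.mul_mem (R.mul_mem (R.mul_mem hx hy) (R.inv_mem hx)) (R.inv_mem hy)
  have hcz : (⟨c, hcR⟩ : R) ∈ Subgroup.center R :=
    Subgroup.mem_center_iff.2 fun g => Subtype.ext (scalar_comm hc (g : GL ι F)).symm
  have h1 : (⟨⟨c, hcR⟩, hcz⟩ : Subgroup.center R) ^ 2 = 1 := hz ▸ pow_card_eq_one'
  have h3 : c * c = 1 := by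
    have := congrArg (fun z : Subgroup.center R => ((z : R) : GL ι F)) h1
    simpa [pow_two] using this
  have hxy : x * y = c * (y * x) := by rw [hcdef]; group
  calc x * x * y = x * (c * (y * x)) := by rw [mul_assoc, hxy]
    _ = c * (x * y) * x := by rw [← mul_assoc x c, ← scalar_comm hc x]; simp only [mul_assoc]
    _ = (c * c) * (y * (x * x)) := by rw [hxy]; simp only [mul_assoc]
    _ = y * (x * x) := by rw [h3, one_mul]

lemma two_eq_zero_of_even (h : ¬ Odd (Fintype.card F)) : (2 : F) = 0 := by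
  by_contra h2
  exact h (odd_card_of_two_ne_zero h2)

lemma two_ne_zero_of_odd (h : Odd (Fintype.card F)) : (2 : F) ≠ 0 := by
  intro h2
  haveI : CharP F 2 := CharTwo.of_one_ne_zero_of_two_eq_zero one_ne_zero h2
  obtain ⟨n, -, hn⟩ := FiniteField.card F 2
  rw [hn, Nat.odd_pow_iff n.pos.ne'] at h
  exact absurd h (by decide)

/-- every maximal subgroup of the symplectic group is on the list -/
theorem sp_list (hm : 2 ≤ m) {H : Subgroup (GL (Fin m ⊕ Fin m) F)}
    (hH : IsMaximalIn (spGL m F) H) : SPList m F H := by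
  haveI : Nonempty (Fin m ⊕ Fin m) := ⟨.inl ⟨0, by omega⟩⟩
  have hf := AschFormSymp.symp_formData (m := m) (F := F)
  have hΩ := sp_transvected (m := m) (F := F) (by omega)
  have hcard : Fintype.card (Fin m ⊕ Fin m) = 2 * m := by simp; omega
  have hSp : H ≤ spGL m F := hH.1.le
  rcases AschFormSymp.symp_fine hm hSp with ⟨M, hM, hle'⟩ | hres
  swap
  · exact Or.inr (Or.inr (Or.inr (Or.inr (Or.inr (Or.inr (Or.inr (Or.inr (Or.inr (Or.inr (Or.inr hres))))))))))
  have dec : ∀ (t k : ℕ) (D : Fin t → Submodule F (Fin m ⊕ Fin m → F)),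
      IsNondegenerateMDecomposition (sympForm m F) k D → H ≤ decompositionStabilizer D → SPList m F H := by
    intro t k D hD hle
    have hcount : t * k = 2 * m := by have := AschFormImprim.finrank_mDecomposition hD.decomp; rwa [hcard] at this
    have hk : Even k := by
      have := hD.decomp.two_le
      rw [← hD.decomp.finrank_eq ⟨0, by omega⟩]
      exact nondeg_even (hD.nondegenerate _)
    have hk2 : 2 ≤ k := by
      obtain ⟨j, hj⟩ := hk
      have := hD.decomp.pos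
      omega
    by_cases h22 : k = 2 ∧ Fintype.card F = 2
    · obtain ⟨rfl, hq2⟩ := h22
      obtain ⟨Q, hQ, hpol, hle'⟩ := symp_planes_quad hq2 hSp hD hle
      have hne : ¬ Odd (Fintype.card F) := by rw [hq2]; decide
      exact Or.inr (Or.inr (Or.inr (Or.inr (Or.inr (Or.inr (Or.inr (Or.inr (Or.inr (Or.inr (Or.inl
        ⟨Q, hne, hQ, hpol, eq_of_maximal hH hle' (sp_not_le_quad hm (two_eq_zero_of_even hne) hQ hpol)⟩))))))))))
    · exact Or.inr (Or.inr (Or.inl ⟨t, k, D, hcount, hD.decomp.two_le, hk, by omega,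
        fun h => by have := Fintype.one_lt_card (α := F); by_contra; exact h22 ⟨h, by omega⟩, hD,
        eq_of_maximal hH hle (hΩ.not_le_decomposition hD.decomp hk2)⟩))
  rcases hM with (⟨W, hb, hts, rfl⟩ | ⟨W, hb, hnd, hsm, rfl⟩ | ⟨t, k, D, hD, rfl⟩ | ⟨D, hodd, hD, hts, rfl⟩ |
      ⟨F₀, r, P, ζ, hr, hc, hζ, hrat, rfl⟩ |
      ⟨R, p, k, hR, habs, hsim, hp, hpo, hcp, hcR, hz, hminus, h2, hmk, rfl⟩ | ⟨Q, hev, hQ, hpol, rfl⟩) |
      ⟨r, K, hr, hK, hsa, halt, rfl⟩ | ⟨K, hodd, hK, hadj, hns, rfl⟩ |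
      ⟨n₁, n₂, e, P, f₁, f₂, hodd, h2, hf₁, hf₂, hT, hcs, rfl⟩ |
      ⟨k, t, e, P, f₁, hodd, hto, ht, hexc, hf₁, hT, rfl⟩ <;>
    have hle := hle'.trans inf_le_left
  · have ht : W ≠ ⊤ := fun h => by
      have := singular_le_half hf hts
      rw [h, finrank_top, Module.finrank_pi, hcard] at this
      omega
    exact Or.inl ⟨W, hb, hts, eq_of_maximal hH hle (hΩ.not_le_subspace hb ht)⟩
  · have ht : W ≠ ⊤ := fun h => by
      rw [h, finrank_top, Module.finrank_pi, hcard] at hsm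
      omega
    exact Or.inr (Or.inl ⟨W, hb, hnd, hsm, nondeg_even hnd, eq_of_maximal hH hle (hΩ.not_le_subspace hb ht)⟩)
  · exact dec t k D hD hle
  · exact Or.inr (Or.inr (Or.inr (Or.inl ⟨D, hodd, hD, hts,
      eq_of_maximal hH hle (hΩ.not_le_decomposition hD hm)⟩)))
  · have hne : F₀ ≠ ⊤ := by
      rintro rfl
      rw [Nat.card_congr (Subfield.topEquiv (K := F)).toEquiv, Nat.card_eq_fintype_card] at hc
      exact (lt_self_pow₀ Fintype.one_lt_card hr.one_lt).ne hc
    exact Or.inr (Or.inr (Or.inr (Or.inr (Or.inr (Or.inr (Or.inr (Or.inr (Or.inl ⟨F₀, r, P, ζ, hr, hc, hζ, hrat,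
      eq_of_maximal hH hle (sp_not_le_subfield (by omega) hne P)⟩))))))))
  · exact Or.inr (Or.inr (Or.inr (Or.inr (Or.inr (Or.inr (Or.inr (Or.inr (Or.inr (Or.inl ⟨R, p, k, hR, habs, hsim, hp,
      hpo, hcp, hcR, hz, hminus, hmk,
      eq_of_maximal hH hle (sp_not_le_normalizer hm (two_ne_zero_of_odd (hcp ▸ hpo)) habs hsim
        (sq_scalar_of_class2 habs h2 hz))⟩)))))))))
  · exact Or.inr (Or.inr (Or.inr (Or.inr (Or.inr (Or.inr (Or.inr (Or.inr (Or.inr (Or.inr (Or.inl
      ⟨Q, hev, hQ, hpol, eq_of_maximal hH hle (sp_not_le_quad hm (two_eq_zero_of_even hev) hQ hpol)⟩))))))))))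
  · exact Or.inr (Or.inr (Or.inr (Or.inr (Or.inl ⟨r, K, hr, alt_field_dvd hf hcard hK hsa halt, hK, hsa, halt,
      eq_of_maximal hH hle (hΩ.not_le_algebra (by omega) hr.two_le hK)⟩))))
  · exact Or.inr (Or.inr (Or.inr (Or.inr (Or.inr (Or.inl ⟨K, hodd, hK, hadj, hns,
      eq_of_maximal hH hle (hΩ.not_le_algebra (by omega) le_rfl hK)⟩)))))
  · have hmul : n₁ * n₂ = 2 * m := by rw [← hcard]; simpa using (Fintype.card_congr e).symm
    have h1 : Even n₁ := by
      by_contra h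
      exact no_symplectic (ι := Fin n₁) (F := F) (by simpa using h) ⟨f₁, hf₁⟩
    have h1' : 2 ≤ n₁ := by
      obtain ⟨j, hj⟩ := h1
      rcases Nat.eq_zero_or_pos n₁ with h | h
      · rw [h, zero_mul] at hmul; omega
      · omega
    have hcsH : CommSimple (RingEquiv.refl F) (sympForm m F) H := by
      rw [eq_of_maximal hH hle (hΩ.not_le_tensor h1' (by omega) e P)]; exact hcs
    by_cases h33 : n₂ = 3 ∧ Fintype.card F = 3
    · obtain ⟨rfl, hq3⟩ := h33
      obtain ⟨D, hD, hle'⟩ := sym_tensor_three hq3 hf (fun g hg => hSp hg) (by omega) hf₂ hT hle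
      exact dec _ _ D hD hle'
    · exact Or.inr (Or.inr (Or.inr (Or.inr (Or.inr (Or.inr (Or.inl ⟨n₁, n₂, e, P, f₁, f₂, hmul, h1, by omega, h2,
        hodd, fun h => by
          have := Fintype.one_lt_card (α := F)
          obtain ⟨j, hj⟩ := hodd
          by_contra; exact h33 ⟨h, by omega⟩,
        hf₁, hf₂, hT, hcsH, eq_of_maximal hH hle (hΩ.not_le_tensor h1' (by omega) e P)⟩))))))
  · have hkt : k ^ t = 2 * m := by rw [← hcard]; simpa using (Fintype.card_congr e).symm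
    have hk : 2 ≤ k := by
      by_contra h
      interval_cases k
      · rw [zero_pow (by omega)] at hkt; omega
      · rw [one_pow] at hkt; omega
    exact Or.inr (Or.inr (Or.inr (Or.inr (Or.inr (Or.inr (Or.inr (Or.inl ⟨k, t, e, P, f₁, hkt, hodd, hto, ht, hexc,
      hf₁, hT, eq_of_maximal hH hle (hΩ.not_le_wreath hk (by omega) (Or.inr ht) e P)⟩)))))))

/-- in dimension eight a plus-type factor reduces to the other classes -/
theorem sp8_plus {H : Subgroup (GL (Fin 4 ⊕ Fin 4) F)} (hH : IsMaximalIn (spGL 4 F) H)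
    (hodd : Odd (Fintype.card F)) (hcs : CommSimple (RingEquiv.refl F) (sympForm 4 F) H)
    {e : (Fin 4 ⊕ Fin 4) ≃ Fin 2 × Fin 4} {P : GL (Fin 4 ⊕ Fin 4) F} {f₁ : (Fin 2 → F) → (Fin 2 → F) → F}
    {f₂ : (Fin 4 → F) → (Fin 4 → F) → F} (hf₁ : IsSymplecticForm f₁) (hf₂ : IsSymmetricForm f₂)
    (hp : IsPlusTypeOn (fun v => f₂ v v) ⊤) (hT : IsTensorFormStructure id (sympForm 4 F) f₁ f₂ e P)
    (hle : H ≤ tensorProductSubgroup 2 4 e P) :
    (5 ≤ Fintype.card F ∧ ∃ (e' : (Fin 4 ⊕ Fin 4) ≃ (Fin 3 → Fin 2)) (P' : GL (Fin 4 ⊕ Fin 4) F)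
      (f' : (Fin 2 → F) → (Fin 2 → F) → F), IsSymplecticForm f' ∧
      IsTensorPowerFormStructure id (sympForm 4 F) f' e' P' ∧ H = tensorWreathSubgroup 2 3 e' P' ⊓ spGL 4 F) ∨
    (∃ (R : Subgroup (GL (Fin 4 ⊕ Fin 4) F)) (p : ℕ), IsSymplecticTypeGroup 2 R ∧
      ActsAbsolutelyIrreducibly (matrixSet R) ∧ R ≤ similarityGroup (sympForm 4 F) ∧ p.Prime ∧ Odd p ∧
      Fintype.card F = p ∧ Nat.card R = 128 ∧ Nat.card (Subgroup.center R) = 2 ∧ IsOfMinusType 3 R ∧
      H = subgroupNormalizer R ⊓ spGL 4 F) := by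
  have h2 := two_ne_zero_of_odd hodd
  haveI : Nonempty (Fin 4 ⊕ Fin 4) := ⟨.inl 0⟩
  have hf := AschFormSymp.symp_formData (m := 4) (F := F)
  have hSp : H ≤ spGL 4 F := hH.1.le
  have hI : Isos H (sympForm 4 F) := fun g hg => hSp hg
  have hΩ := sp_transvected (m := 4) (F := F) (by norm_num)
  obtain ⟨e', P', c, hc, hgram, hle'⟩ := tensor_plus_wreath h2 hf hI hf₁ hf₂ hp hT hle
  have hJdet : IsUnit (planeJ : Matrix (Fin 2) (Fin 2) F).det := by simp [planeJ, Matrix.det_fin_two]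
  have hJs : (planeJ : Matrix (Fin 2) (Fin 2) F)ᵀ = -planeJ := by
    ext i j; fin_cases i <;> fin_cases j <;> simp [planeJ]
  by_cases h5 : 5 ≤ Fintype.card F
  · exact Or.inl ⟨h5, e', P', _, AschFormStruct.symplectic_of_gram hJdet hJs
      (fun i => by fin_cases i <;> simp [planeJ]), AschFormStruct.power_structure hf hc hgram,
      eq_of_maximal hH hle' (hΩ.not_le_wreath le_rfl (by norm_num) (Or.inr le_rfl) e' P')⟩
  right
  have h3 : Fintype.card F = 3 := by
    have := Fintype.one_lt_card (α := F)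
    obtain ⟨j, hj⟩ := hodd
    omega
  obtain ⟨Q, hQd, hQ2, hQs, hQn⟩ := AschFormSymp.exists_quaternion h3
  obtain ⟨R, hRI, hRn, hRabs, hRc, -⟩ := AschFormPower.power_group hf hI hc
    (fun h => not_isUnit_zero (by rwa [h, Matrix.det_zero] at hJdet)) hgram hle' Q
    (fun x hx => by
      show (x : Matrix (Fin 2) (Fin 2) F)ᵀ * planeJ * (x : Matrix (Fin 2) (Fin 2) F) = planeJ
      rw [planeJ_transform, hQd x hx, one_smul])
    hQ2 hQs (fun g _ => hQn g)
  have hHR : H ⊔ R ≤ spGL 4 F := sup_le hSp fun g hg => hRI g hg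
  obtain ⟨M, -, hle'', hprime⟩ := AschFormSymp.extra_symp (by norm_num) hHR
    (fun C hC => hcs C fun h hh => hC h (Subgroup.mem_sup_left hh)) le_sup_right
    (fun x hx y hy => by
      have h1 : H ⊔ R ≤ Subgroup.normalizer (R : Set (GL (Fin 4 ⊕ Fin 4) F)) := sup_le
        (fun h hh => Subgroup.mem_normalizer_iff.2 fun z => ⟨hRn h hh z, fun hz => by
          simpa [mul_assoc] using hRn h⁻¹ (H.inv_mem hh) _ hz⟩) Subgroup.le_normalizer
      exact (Subgroup.mem_normalizer_iff.1 (h1 hx) y).1 hy) hRabs hRc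
  obtain ⟨R', p, k, hR', habs, hsim, hp', hpo, hcp, hcR, hz, hminus, h2', hk, rfl⟩ :=
    hprime (by rw [h3]; exact Nat.prime_three)
  obtain rfl : k = 3 := Nat.pow_right_injective le_rfl (hk.symm.trans (by norm_num))
  exact ⟨R', p, hR', habs, hsim, hp', hpo, hcp, hcR, hz, hminus, eq_of_maximal hH
    ((le_sup_left.trans hle'').trans inf_le_left) (hΩ.not_le_normalizer (by simp) habs h2')⟩

end Cfsg.Agent.AschCase
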