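/-
Dimension case lists: the symplectic group in dimension four over three elements.
-/
import Cfsg.Agent.Lib.AschCaseSymp

set_option autoImplicit false
set_option linter.unusedSectionVars false

namespace Cfsg.Agent.AschCase.Sp4

open scoped Matrix Kronecker
open Cfsg Cfsg.Geo Cfsg.Agent.AschPrimeBasic Cfsg.Agent.AschPrimeForms Cfsg.Agent.AschFormBasic
  Cfsg.Agent.AschGenExtra Cfsg.Agent.AschGenAlgebra Cfsg.Agent.AschGenTensor

variable {F : Type*} [Field F] [Fintype F]

local notation "Ix" => (Fin 2 ⊕ Fin 2)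
local notation "Ω" => Matrix.J (Fin 2) F
local notation "Pj" => (planeJ : Matrix (Fin 2) (Fin 2) F)

lemma three_eq_zero (h3 : Fintype.card F = 3) : (3 : F) = 0 := by
  have := Nat.cast_card_eq_zero F
  rw [h3] at this
  exact_mod_cast this

lemma two_ne (h3 : Fintype.card F = 3) : (2 : F) ≠ 0 := fun h =>
  one_ne_zero (α := F) (by linear_combination three_eq_zero h3 - h)

lemma mul_self_one (h3 : Fintype.card F = 3) {a : F} (ha : a ≠ 0) : a * a = 1 := by
  have := FiniteField.pow_card_sub_one_eq_one a ha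
  rwa [h3, pow_two] at this

lemma no_root (h3 : Fintype.card F = 3) (a : F) : a * a ≠ -1 := by
  intro h
  by_cases ha : a = 0
  · rw [ha, mul_zero] at h
    exact one_ne_zero (α := F) (by linear_combination h)
  · rw [mul_self_one h3 ha] at h
    exact two_ne h3 (by linear_combination h)

lemma gram_std : gramMatrix (sympForm 2 F) = Ω := by
  ext a b
  simp [gramMatrix, sympForm, Matrix.mulVec_single_one]

lemma sp_iff {g : GL Ix F} :
    g ∈ spGL 2 F ↔ (g : Matrix Ix Ix F)ᵀ * Ω * (g : Matrix Ix Ix F) = Ω := by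
  have h := (AschFormSymp.symp_formData (m := 2) (F := F)).sesq.similar_iff (g : Matrix Ix Ix F) 1
  rw [gram_std, one_smul] at h
  simp only [RingEquiv.coe_refl, Matrix.map_id, one_mul] at h
  exact h

/-- a matrix with prescribed columns is symplectic -/
lemma exists_of_cols (c : Ix → Ix → F)
    (h : ∀ a b, sympForm 2 F (c a) (c b) = sympForm 2 F (Pi.single a 1) (Pi.single b 1)) :
    ∃ P : GL Ix F, P ∈ spGL 2 F ∧ ∀ a, (P : Matrix Ix Ix F) *ᵥ Pi.single a 1 = c a := by
  let M : Matrix Ix Ix F := Matrix.of fun r a => c a r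
  have hM : Mᵀ * Ω * M = Ω := by
    ext a b
    rw [mul_assoc]
    show c a ⬝ᵥ (Ω *ᵥ c b) = _
    rw [← gram_std]
    exact h a b |>.trans rfl |> fun t => by rw [gram_std]; exact t.trans (by simp [sympForm, Matrix.mulVec_single_one])
  have hd : M.det ≠ 0 := by
    intro h0
    have h1 := congrArg Matrix.det hM
    rw [Matrix.det_mul, Matrix.det_mul, h0, mul_zero] at h1
    exact (Matrix.isUnit_det_J (Fin 2) F).ne_zero h1.symm
  refine ⟨Matrix.GeneralLinearGroup.mkOfDetNeZero M hd, sp_iff.2 hM, fun a => ?_⟩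
  show M *ᵥ Pi.single a 1 = c a
  rw [Matrix.mulVec_single_one]
  rfl

lemma std_ll (a b : Fin 2) : sympForm 2 F (Pi.single (Sum.inl a) 1) (Pi.single (Sum.inl b) 1) = 0 := by
  simp [sympForm, Matrix.mulVec_single_one, Matrix.J]

lemma std_lr (a b : Fin 2) :
    sympForm 2 F (Pi.single (Sum.inl a) 1) (Pi.single (Sum.inr b) 1) = if a = b then -1 else 0 := by
  simp [sympForm, Matrix.J, Matrix.one_apply]
  split_ifs <;> simp

lemma std_rl (a b : Fin 2) :
    sympForm 2 F (Pi.single (Sum.inr a) 1) (Pi.single (Sum.inl b) 1) = if a = b then 1 else 0 := by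
  simp [sympForm, Matrix.mulVec_single_one, Matrix.J, Matrix.one_apply]

lemma std_rr (a b : Fin 2) : sympForm 2 F (Pi.single (Sum.inr a) 1) (Pi.single (Sum.inr b) 1) = 0 := by
  simp [sympForm, Matrix.mulVec_single_one, Matrix.J]

lemma coord_inr (z : Ix → F) (a : Fin 2) : z (.inr a) = sympForm 2 F z (Pi.single (Sum.inl a) 1) := by
  simp [sympForm, Matrix.mulVec_single_one, Matrix.J, dotProduct, Fintype.sum_sum_type, Matrix.one_apply]

lemma coord_inl (z : Ix → F) (a : Fin 2) : z (.inl a) = -sympForm 2 F z (Pi.single (Sum.inr a) 1) := by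
  simp [sympForm, Matrix.mulVec_single_one, Matrix.J, dotProduct, Fintype.sum_sum_type, Matrix.one_apply]

/-- the quadratic field spanned by a square root of minus one -/
theorem quad_field {ι : Type} [Fintype ι] [DecidableEq ι] [Nonempty ι] {T : Matrix ι ι F}
    (hT : T * T = -1) (hns : ∀ a : F, a * a ≠ -1) :
    ∃ K : Subalgebra F (Matrix ι ι F), IsFieldSubalgebra 2 K ∧
      ∀ k, k ∈ K ↔ ∃ a b : F, k = a • 1 + b • T := by
  have hmul : ∀ a b c d : F, (a • (1 : Matrix ι ι F) + b • T) * (c • 1 + d • T) =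
      (a * c - b * d) • 1 + (a * d + b * c) • T := by
    intro a b c d
    simp only [add_mul, mul_add, Matrix.smul_mul, Matrix.mul_smul, one_mul, mul_one, hT, smul_neg, smul_smul]
    module
  let K : Subalgebra F (Matrix ι ι F) :=
    { carrier := {k | ∃ a b : F, k = a • 1 + b • T}
      mul_mem' := by
        rintro _ _ ⟨a, b, rfl⟩ ⟨c, d, rfl⟩
        exact ⟨_, _, hmul a b c d⟩
      add_mem' := by
        rintro _ _ ⟨a, b, rfl⟩ ⟨c, d, rfl⟩
        exact ⟨a + c, b + d, by module⟩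
      algebraMap_mem' := fun a => ⟨a, 0, by rw [Algebra.algebraMap_eq_smul_one, zero_smul, add_zero]⟩ }
  have hns' : ∀ a b : F, a • (1 : Matrix ι ι F) + b • T = 0 → a = 0 ∧ b = 0 := by
    intro a b h
    have hb : b = 0 := by
      by_contra hb
      have h1 : T = (-(b⁻¹ * a)) • (1 : Matrix ι ι F) := by
        have h2 : b • T = (-a) • (1 : Matrix ι ι F) := by rw [neg_smul, eq_neg_iff_add_eq_zero, add_comm, h]
        have h4 := congrArg (fun M => b⁻¹ • M) h2
        simp only [smul_smul, inv_mul_cancel₀ hb, one_smul] at h4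
        rw [h4, mul_neg]
      obtain ⟨i⟩ := ‹Nonempty ι›
      have h3 := congrFun (congrFun hT i) i
      rw [h1] at h3
      simp at h3
      exact hns _ h3
    refine ⟨?_, hb⟩
    obtain ⟨i⟩ := ‹Nonempty ι›
    simpa [hb] using congrFun (congrFun h i) i
  refine ⟨K, ⟨?_, ?_, ?_⟩, fun k => Iff.rfl⟩
  · rintro _ ⟨a, b, rfl⟩ _ ⟨c, d, rfl⟩
    rw [hmul, hmul]
    congr 2 <;> ring
  · rintro _ ⟨a, b, rfl⟩ hne
    have hn : a * a + b * b ≠ 0 := by
      intro h0
      by_cases hb : b = 0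
      · rw [hb, mul_zero, add_zero] at h0
        exact hne (by rw [hb, mul_self_eq_zero.1 h0, zero_smul, zero_smul, add_zero])
      · exact hns (a / b) (by field_simp; linear_combination h0)
    refine ⟨(a / (a * a + b * b)) • 1 + (-b / (a * a + b * b)) • T, ⟨_, _, rfl⟩, ?_⟩
    rw [hmul, show a * (a / (a * a + b * b)) - b * (-b / (a * a + b * b)) = 1 by
        rw [← mul_div_assoc, ← mul_div_assoc, ← sub_div, div_eq_one_iff_eq hn]; ring,
      show a * (-b / (a * a + b * b)) + b * (a / (a * a + b * b)) = 0 by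
        rw [← mul_div_assoc, ← mul_div_assoc, ← add_div, show a * -b + b * a = 0 by ring, zero_div],
      one_smul, zero_smul, add_zero]
  · let φ : F × F →ₗ[F] K :=
      { toFun := fun p => ⟨p.1 • 1 + p.2 • T, p.1, p.2, rfl⟩
        map_add' := fun p q => Subtype.ext (by
          show (p.1 + q.1) • (1 : Matrix ι ι F) + (p.2 + q.2) • T = (p.1 • 1 + p.2 • T) + (q.1 • 1 + q.2 • T)
          module)
        map_smul' := fun c p => Subtype.ext (by
          show (c * p.1) • (1 : Matrix ι ι F) + (c * p.2) • T = c • (p.1 • 1 + p.2 • T)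
          module) }
    have hφ : Function.Bijective φ := by
      refine ⟨(injective_iff_map_eq_zero φ).2 fun p hp => ?_, ?_⟩
      · obtain ⟨h1, h2⟩ := hns' _ _ (congrArg Subtype.val hp)
        exact Prod.ext h1 h2
      · rintro ⟨_, a, b, rfl⟩
        exact ⟨(a, b), rfl⟩
    rw [← (LinearEquiv.ofBijective φ hφ).finrank_eq, Module.finrank_prod, Module.finrank_self]

/-- a group preserving the span of a matrix up to scalars normalises the algebra it generates -/
lemma le_algebra_normalizer {ι : Type} [Fintype ι] [DecidableEq ι] {H : Subgroup (GL ι F)}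
    {K : Subalgebra F (Matrix ι ι F)} (h : ∀ g ∈ H, ∀ k ∈ K, conjAlg g k ∈ K) : H ≤ subalgebraNormalizer K := by
  intro g hg k
  refine ⟨h g hg k, fun hk => ?_⟩
  have := h g⁻¹ (H.inv_mem hg) _ hk
  simpa [mul_assoc] using this

/-- over three elements the stabiliser of two singular lines-pairs normalises a field -/
theorem singular_pair (h3 : Fintype.card F = 3) {H : Subgroup (GL Ix F)} (hH : IsMaximalIn (spGL 2 F) H)
    {D : Fin 2 → Submodule F (Ix → F)} (hD : IsMDecomposition 2 D)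
    (hts : ∀ i, IsTotallySingularFor (sympForm 2 F) (D i)) (hle : H ≤ decompositionStabilizer D) :
    ∃ K : Subalgebra F (Matrix Ix Ix F), IsFieldSubalgebra 2 K ∧ IsSelfAdjointFor (sympForm 2 F) K ∧
      (∀ k ∈ K, ∀ v : Ix → F, sympForm 2 F (k *ᵥ v) v = 0) ∧ H = subalgebraNormalizer K ⊓ spGL 2 F := by
  have hf := TransvectionMax.sympForm_isSymplecticForm (F := F) 2
  let b0 := Module.finBasisOfFinrankEq F (D 0) (hD.finrank_eq 0)
  let b1 := Module.finBasisOfFinrankEq F (D 1) (hD.finrank_eq 1)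
  let X : Matrix (Fin 2) (Fin 2) F := Matrix.of fun i j => sympForm 2 F (b0 i : Ix → F) (b1 j : Ix → F)
  let L : (Ix → F) → ((Ix → F) →ₗ[F] F) := fun v =>
    { toFun := fun u => sympForm 2 F v u
      map_add' := fun a b => hf.bilinear.add_right v a b
      map_smul' := fun a b => hf.bilinear.smul_right a v b }
  have hlin : ∀ (v : Ix → F) (c : Fin 2 → F), sympForm 2 F v ((∑ j, c j • b1 j : D 1) : Ix → F) =
      ∑ j, c j * sympForm 2 F v (b1 j : Ix → F) := by
    intro v c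
    show L v _ = _
    rw [Submodule.coe_sum, map_sum]
    exact Finset.sum_congr rfl fun j _ => by rw [Submodule.coe_smul, map_smul]; rfl
  have hX : X.det ≠ 0 := by
    intro h0
    obtain ⟨c, hc0, hc⟩ := Matrix.exists_mulVec_eq_zero_iff.2 h0
    set v : D 1 := ∑ j, c j • b1 j with hv
    refine hc0 (funext fun j => Fintype.linearIndependent_iff.1 b1.linearIndependent c ?_ j)
    rw [← hv]
    refine Subtype.ext (sp_eq_zero fun u => ?_)
    have htop : u ∈ D 0 ⊔ D 1 := by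
      have : iSup D = D 0 ⊔ D 1 := le_antisymm (iSup_le (Fin.forall_fin_two.2 ⟨le_sup_left, le_sup_right⟩))
        (sup_le (le_iSup D 0) (le_iSup D 1))
      rw [← this, hD.iSup_eq_top]
      trivial
    obtain ⟨u0, hu0, u1, hu1, rfl⟩ := Submodule.mem_sup.1 htop
    rw [hf.bilinear.add_left, hts 1 u1 hu1 _ v.2, add_zero]
    have hz : ∀ i, sympForm 2 F (b0 i : Ix → F) (v : Ix → F) = 0 := fun i => by
      rw [hv, hlin, ← show (X *ᵥ c) i = 0 from congrFun hc i]
      exact Finset.sum_congr rfl fun j _ => mul_comm _ _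
    let R : (Ix → F) →ₗ[F] F :=
      { toFun := fun x => sympForm 2 F x (v : Ix → F)
        map_add' := fun a b => hf.bilinear.add_left a b _
        map_smul' := fun a b => hf.bilinear.smul_left a b _ }
    have key : ∀ x : D 0, R x = 0 := fun x => by
      rw [← b0.sum_repr x, Submodule.coe_sum, map_sum]
      exact Finset.sum_eq_zero fun i _ => by
        rw [Submodule.coe_smul, map_smul, show R (b0 i : Ix → F) = 0 from hz i, smul_zero]
    exact key ⟨u0, hu0⟩
  set Y : Matrix (Fin 2) (Fin 2) F := -X⁻¹ with hY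
  have hXY : X * Y = -1 := by rw [hY, mul_neg, Matrix.mul_nonsing_inv _ (isUnit_iff_ne_zero.2 hX)]
  let cr : Fin 2 → D 1 := fun b => ∑ k, Y k b • b1 k
  obtain ⟨P, hP, hPc⟩ := exists_of_cols (F := F) (Sum.elim (fun a => (b0 a : Ix → F)) (fun b => (cr b : Ix → F)))
    (by
      have hlr : ∀ a b, sympForm 2 F (b0 a : Ix → F) (cr b : Ix → F) = if a = b then -1 else 0 := by
        intro a b
        have := congrFun (congrFun hXY a) b
        rw [Matrix.neg_apply, Matrix.one_apply, apply_ite Neg.neg, neg_zero] at this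
        rw [← this, hlin]
        exact Finset.sum_congr rfl fun j _ => mul_comm _ _
      rintro (a | a) (b | b) <;> simp only [Sum.elim_inl, Sum.elim_inr]
      · rw [std_ll]; exact hts 0 _ (b0 a).2 _ (b0 b).2
      · rw [std_lr]; exact hlr a b
      · rw [std_rl, hf.skew, hlr]
        by_cases hab : a = b
        · simp [hab]
        · simp [hab, Ne.symm hab]
      · rw [std_rr]; exact hts 1 _ (cr a).2 _ (cr b).2)
  have hPl : ∀ a, (P : Matrix Ix Ix F) *ᵥ Pi.single (Sum.inl a) 1 ∈ D 0 := fun a => by rw [hPc]; exact (b0 a).2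
  have hPr : ∀ a, (P : Matrix Ix Ix F) *ᵥ Pi.single (Sum.inr a) 1 ∈ D 1 := fun a => by rw [hPc]; exact (cr a).2
  let P' : Matrix Ix Ix F := ((P⁻¹ : GL Ix F) : Matrix Ix Ix F)
  have hP' : ∀ u v, sympForm 2 F (P' *ᵥ u) (P' *ᵥ v) = sympForm 2 F u v := fun u v => (spGL 2 F).inv_mem hP u v
  have hc0 : ∀ x ∈ D 0, ∀ a, (P' *ᵥ x) (.inr a) = 0 := fun x hx a => by
    rw [coord_inr (P' *ᵥ x) a, ← inv_mulVec_mulVec P (Pi.single (Sum.inl a) 1), hP']
    exact hts 0 x hx _ (hPl a)
  have hc1 : ∀ x ∈ D 1, ∀ a, (P' *ᵥ x) (.inl a) = 0 := fun x hx a => by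
    rw [coord_inl (P' *ᵥ x) a, ← inv_mulVec_mulVec P (Pi.single (Sum.inr a) 1), hP', hts 1 x hx _ (hPr a), neg_zero]
  -- the field
  let T₀ : Matrix Ix Ix F := Matrix.fromBlocks 0 Pj Pj 0
  let T := conjAlg P T₀
  have hPjs : Pj * Pj = -1 := by
    ext i j; fin_cases i <;> fin_cases j <;> simp [planeJ, Matrix.mul_apply, Fin.sum_univ_two]
  have hT₀ : T₀ * T₀ = -1 := by
    simp only [T₀, Matrix.fromBlocks_multiply, zero_mul, mul_zero, zero_add, add_zero, hPjs]
    rw [← Matrix.fromBlocks_one, Matrix.fromBlocks_neg, neg_zero]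
  have hT : T * T = -1 := by rw [← map_mul, hT₀, map_neg, map_one]
  obtain ⟨K, hK, hmem⟩ := quad_field hT (no_root h3)
  have hfield := sp_transvected (m := 2) (F := F) (by norm_num)
  have hsp : ∀ u v, sympForm 2 F ((P : Matrix Ix Ix F) *ᵥ u) ((P : Matrix Ix Ix F) *ᵥ v) = sympForm 2 F u v := hP
  have hTv : ∀ u, T *ᵥ u = (P : Matrix Ix Ix F) *ᵥ (T₀ *ᵥ (P' *ᵥ u)) := fun u => by
    rw [Matrix.mulVec_mulVec, Matrix.mulVec_mulVec]
    rfl
  have hsa : ∀ u v, sympForm 2 F (T *ᵥ u) v = sympForm 2 F u (T *ᵥ v) := by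
    intro u v
    conv_lhs => rw [hTv, ← mulVec_inv_mulVec P v, hsp]
    conv_rhs => rw [hTv, ← mulVec_inv_mulVec P u, hsp]
    show sympForm 2 F (T₀ *ᵥ (P' *ᵥ u)) (P' *ᵥ v) = sympForm 2 F (P' *ᵥ u) (T₀ *ᵥ (P' *ᵥ v))
    generalize P' *ᵥ u = x
    generalize P' *ᵥ v = y
    simp [sympForm, T₀, Matrix.J, Matrix.mulVec, dotProduct, Fintype.sum_sum_type, Fin.sum_univ_two, planeJ]
    ring
  have halt : ∀ v, sympForm 2 F (T *ᵥ v) v = 0 := by
    intro v
    rw [hTv]
    conv_lhs => arg 4; rw [← mulVec_inv_mulVec P v]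
    rw [hsp]
    show sympForm 2 F (T₀ *ᵥ (P' *ᵥ v)) (P' *ᵥ v) = 0
    generalize P' *ᵥ v = x
    simp [sympForm, T₀, Matrix.J, Matrix.mulVec, dotProduct, Fintype.sum_sum_type, Fin.sum_univ_two, planeJ]
    ring
  refine ⟨K, hK, ?_, ?_, eq_of_maximal hH (le_algebra_normalizer fun h hh k hk => ?_)
    (hfield.not_le_algebra (by simp) le_rfl hK)⟩
  · intro k hk u v
    obtain ⟨a, b, rfl⟩ := (hmem k).1 hk
    simp only [Matrix.add_mulVec, Matrix.smul_mulVec, Matrix.one_mulVec, hf.bilinear.add_left,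
      hf.bilinear.add_right, hf.bilinear.smul_left, hf.bilinear.smul_right, hsa]
  · intro k hk v
    obtain ⟨a, b, rfl⟩ := (hmem k).1 hk
    simp only [Matrix.add_mulVec, Matrix.smul_mulVec, Matrix.one_mulVec, hf.bilinear.add_left,
      hf.bilinear.smul_left, hf.alternating, halt, mul_zero, add_zero]
  obtain ⟨a, b, rfl⟩ := (hmem k).1 hk
  suffices hc : ∃ c : F, conjAlg h T = c • T by
    obtain ⟨c, hc⟩ := hc
    refine (hmem _).2 ⟨a, b * c, ?_⟩
    rw [map_add, map_smul, map_smul, map_one, hc, smul_smul]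
  set y : GL Ix F := P⁻¹ * h * P with hy
  suffices hc : ∃ c : F, (y : Matrix Ix Ix F) * T₀ = c • (T₀ * (y : Matrix Ix Ix F)) by
    obtain ⟨c, hc⟩ := hc
    refine ⟨c, ?_⟩
    have he : h = P * y * P⁻¹ := by rw [hy]; group
    have h4 : conjAlg y T₀ = c • T₀ := by
      rw [conjAlg_apply, hc, Matrix.smul_mul, mul_assoc, Units.mul_inv, mul_one]
    rw [he]
    show conjAlg _ (conjAlg P T₀) = _
    rw [← conjAlg_mul, inv_mul_cancel_right, conjAlg_mul, h4, map_smul]
  have hyS : y ∈ spGL 2 F := (spGL 2 F).mul_mem ((spGL 2 F).mul_mem ((spGL 2 F).inv_mem hP) (hH.1.le hh)) hP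
  have hcol : ∀ r s, (y : Matrix Ix Ix F) r s =
      (P' *ᵥ ((h : Matrix Ix Ix F) *ᵥ ((P : Matrix Ix Ix F) *ᵥ Pi.single s 1))) r := fun r s => by
    rw [Matrix.mulVec_mulVec, Matrix.mulVec_mulVec, Matrix.mulVec_single_one]
    rfl
  obtain ⟨σ, hσ⟩ := hle hh
  have hmap : ∀ i, ∀ x ∈ D i, (h : Matrix Ix Ix F) *ᵥ x ∈ D (σ i) := fun i x hx => by
    rw [← hσ i]; exact ⟨x, hx, rfl⟩
  set A := (y : Matrix Ix Ix F).toBlocks₁₁
  set B := (y : Matrix Ix Ix F).toBlocks₁₂
  set C := (y : Matrix Ix Ix F).toBlocks₂₁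
  set E := (y : Matrix Ix Ix F).toBlocks₂₂
  have hblk : (y : Matrix Ix Ix F) = Matrix.fromBlocks A B C E := (Matrix.fromBlocks_toBlocks _).symm
  have hS := sp_iff.1 hyS
  rw [hblk, Matrix.fromBlocks_transpose, Matrix.J, Matrix.fromBlocks_multiply, Matrix.fromBlocks_multiply] at hS
  rcases (show σ 0 = 0 ∧ σ 1 = 1 ∨ σ 0 = 1 ∧ σ 1 = 0 by
      have := σ.injective.ne (show (0 : Fin 2) ≠ 1 by decide)
      revert this
      generalize σ 0 = p
      generalize σ 1 = q
      revert p q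
      decide) with ⟨s0, s1⟩ | ⟨s0, s1⟩
  · have hC : C = 0 := Matrix.ext fun i j => by
      show (y : Matrix Ix Ix F) (.inr i) (.inl j) = 0
      rw [hcol]; exact hc0 _ (s0 ▸ hmap 0 _ (hPl j)) i
    have hB : B = 0 := Matrix.ext fun i j => by
      show (y : Matrix Ix Ix F) (.inl i) (.inr j) = 0
      rw [hcol]; exact hc1 _ (s1 ▸ hmap 1 _ (hPr j)) i
    rw [hB, hC] at hS
    simp only [Matrix.fromBlocks_inj, Matrix.transpose_zero, zero_mul, mul_zero, mul_one, zero_add, add_zero,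
      mul_neg, neg_mul, neg_inj] at hS
    obtain ⟨-, hAE, hEA, -⟩ := hS
    have hd : A.det * E.det = 1 := by
      rw [← Matrix.det_transpose A, ← Matrix.det_mul, hAE, Matrix.det_one]
    have hd0 : A.det ≠ 0 := left_ne_zero_of_mul_eq_one hd
    have hEd : E.det = A.det := by
      linear_combination A.det * hd - E.det * mul_self_one h3 hd0
    refine ⟨A.det, ?_⟩
    rw [hblk, hB, hC]
    simp only [T₀, Matrix.fromBlocks_multiply, zero_mul, mul_zero, zero_add, add_zero, Matrix.fromBlocks_smul,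
      smul_zero]
    congr 1
    · have h4 := congrArg (A * ·) (planeJ_transform E)
      simp only [Matrix.mul_smul, ← mul_assoc, mul_eq_one_comm.1 hEA, one_mul, hEd] at h4
      rw [h4, smul_smul, mul_self_one h3 hd0, one_smul]
    · have h4 := congrArg (E * ·) (planeJ_transform A)
      simp only [Matrix.mul_smul, ← mul_assoc, mul_eq_one_comm.1 hAE, one_mul] at h4
      rw [h4, smul_smul, mul_self_one h3 hd0, one_smul]
  · have hA : A = 0 := Matrix.ext fun i j => by
      show (y : Matrix Ix Ix F) (.inl i) (.inl j) = 0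
      rw [hcol]; exact hc1 _ (s0 ▸ hmap 0 _ (hPl j)) i
    have hE : E = 0 := Matrix.ext fun i j => by
      show (y : Matrix Ix Ix F) (.inr i) (.inr j) = 0
      rw [hcol]; exact hc0 _ (s1 ▸ hmap 1 _ (hPr j)) i
    rw [hA, hE] at hS
    simp only [Matrix.fromBlocks_inj, Matrix.transpose_zero, zero_mul, mul_zero, mul_one, zero_add, add_zero,
      mul_neg, neg_mul] at hS
    obtain ⟨-, hCB, hBC, -⟩ := hS
    have hBC' : (-B)ᵀ * C = 1 := by rw [Matrix.transpose_neg, neg_mul, ← hBC]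
    have hCB' : Cᵀ * (-B) = 1 := by rw [mul_neg, ← neg_neg (1 : Matrix (Fin 2) (Fin 2) F), ← hCB]
    have hd : C.det * B.det = 1 := by
      rw [← Matrix.det_transpose C, show B.det = (-B).det by simp [Matrix.det_neg], ← Matrix.det_mul, hCB', Matrix.det_one]
    have hd0 : B.det ≠ 0 := right_ne_zero_of_mul_eq_one hd
    have hCd : C.det = B.det := by
      linear_combination B.det * hd - C.det * mul_self_one h3 hd0
    refine ⟨-B.det, ?_⟩
    rw [hblk, hA, hE]
    simp only [T₀, Matrix.fromBlocks_multiply, zero_mul, mul_zero, zero_add, add_zero, Matrix.fromBlocks_smul,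
      smul_zero]
    congr 1
    · have h4 := congrArg (-B * ·) (planeJ_transform C)
      simp only [Matrix.mul_smul, ← mul_assoc, mul_eq_one_comm.1 hCB', one_mul, hCd] at h4
      rw [h4, smul_smul, neg_mul, neg_mul, mul_self_one h3 hd0]
      simp
    · have h4 := congrArg (C * ·) (planeJ_transform (-B))
      simp only [Matrix.mul_smul, ← mul_assoc, mul_eq_one_comm.1 hBC', one_mul] at h4
      simp only [Matrix.mul_neg, show (-B).det = B.det by simp [Matrix.det_neg]] at h4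
      rw [neg_smul, ← smul_neg, h4, smul_smul, mul_self_one h3 hd0, one_smul]

/-! ### a quadratic field that is not self-adjoint, over three elements -/

/-- a finite group mapped into itself by conjugation is normalised -/
lemma normalizer_of_maps {ι : Type} [Fintype ι] [DecidableEq ι] {R : Subgroup (GL ι F)} {g : GL ι F}
    (h : ∀ x ∈ R, g * x * g⁻¹ ∈ R) : g ∈ subgroupNormalizer R := by
  classical
  have hle : R.map (MulAut.conj g).toMonoidHom ≤ R := by
    rintro _ ⟨x, hx, rfl⟩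
    exact h x hx
  have heq : R.map (MulAut.conj g).toMonoidHom = R := Subgroup.eq_of_le_of_card_ge hle (by
    rw [Subgroup.card_map_of_injective (MulAut.conj g).injective])
  refine Subgroup.mem_normalizer_iff.2 fun x => ⟨h x, fun hx => ?_⟩
  rw [← SetLike.mem_coe, ← heq] at hx
  obtain ⟨r, hr, hrx⟩ := hx
  rwa [← (MulAut.conj g).injective hrx]

/-- two anticommuting square roots of minus one give an isometry moving their product to one of them -/
theorem moving_element (h3 : Fintype.card F = 3) {R : Subgroup (GL Ix F)}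
    (hsq : ∀ x ∈ R, x * x ∈ scalars Ix F) {x₁ x₂ : GL Ix F} (hx₁ : x₁ ∈ R) (hx₂ : x₂ ∈ R)
    (h₁ : (x₁ : Matrix Ix Ix F) * (x₁ : Matrix Ix Ix F) = -1)
    (h₂ : (x₂ : Matrix Ix Ix F) * (x₂ : Matrix Ix Ix F) = -1)
    (hac : (x₂ : Matrix Ix Ix F) * (x₁ : Matrix Ix Ix F) = -((x₁ : Matrix Ix Ix F) * (x₂ : Matrix Ix Ix F)))
    (hs₁ : (x₁ : Matrix Ix Ix F)ᵀ * Ω = -(Ω * (x₁ : Matrix Ix Ix F)))
    (hs₂ : (x₂ : Matrix Ix Ix F)ᵀ * Ω = -(Ω * (x₂ : Matrix Ix Ix F))) :
    ∃ g : GL Ix F, g ∈ spGL 2 F ∧ g ∈ subgroupNormalizer R ∧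
      (g : Matrix Ix Ix F) * ((x₁ : Matrix Ix Ix F) * (x₂ : Matrix Ix Ix F)) = (x₁ : Matrix Ix Ix F) * (g : Matrix Ix Ix F) := by
  have hM : ∀ M : Matrix Ix Ix F, M + M + M = 0 := fun M => by
    rw [show M + M + M = (3 : F) • M by module, three_eq_zero h3, zero_smul]
  let mk : ∀ x : GL Ix F, (x : Matrix Ix Ix F) * (x : Matrix Ix Ix F) = -1 → GL Ix F := fun x hx =>
    ⟨1 + (x : Matrix Ix Ix F), (x : Matrix Ix Ix F) - 1, by
      rw [add_mul, mul_sub, mul_sub]
      simp only [one_mul, mul_one, hx]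
      linear_combination (norm := abel) -(hM 1), by
      rw [sub_mul, mul_add, mul_add]
      simp only [one_mul, mul_one, hx]
      linear_combination (norm := abel) -(hM 1)⟩
  have hnorm : ∀ (x : GL Ix F) (hx : (x : Matrix Ix Ix F) * (x : Matrix Ix Ix F) = -1), x ∈ R →
      mk x hx ∈ subgroupNormalizer R := by
    intro x hx hxR
    refine normalizer_of_maps fun r hr => ?_
    obtain ⟨k, hk⟩ := (mem_scalars_iff _).1 (hsq r hr)
    obtain ⟨c, hc⟩ := (mem_scalars_iff _).1 (hsq _ (R.mul_mem hxR hr))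
    simp only [Units.val_mul] at hk hc
    have key : -((k : F) • ((r : Matrix Ix Ix F) * (x : Matrix Ix Ix F))) =
        (c : F) • ((x : Matrix Ix Ix F) * (r : Matrix Ix Ix F)) := by
      have h4 := congrArg (fun M => (x : Matrix Ix Ix F) * M * (r : Matrix Ix Ix F)) hc
      simp only [Matrix.mul_smul, Matrix.smul_mul, mul_one] at h4
      rw [← h4, show (x : Matrix Ix Ix F) * ((x : Matrix Ix Ix F) * (r : Matrix Ix Ix F) * ((x : Matrix Ix Ix F) * (r : Matrix Ix Ix F))) * (r : Matrix Ix Ix F) =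
        ((x : Matrix Ix Ix F) * (x : Matrix Ix Ix F)) * (r : Matrix Ix Ix F) * (x : Matrix Ix Ix F) *
          ((r : Matrix Ix Ix F) * (r : Matrix Ix Ix F)) by noncomm_ring, hx, hk]
      simp
    have hkc : ((k : F) * (c : F)⁻¹) * ((k : F) * (c : F)⁻¹) = 1 :=
      mul_self_one h3 (mul_ne_zero k.ne_zero (inv_ne_zero c.ne_zero))
    have hxr : (x : Matrix Ix Ix F) * (r : Matrix Ix Ix F) =
        (-((k : F) * (c : F)⁻¹)) • ((r : Matrix Ix Ix F) * (x : Matrix Ix Ix F)) := by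
      rw [neg_smul, mul_comm, mul_smul, ← smul_neg, key, smul_smul, inv_mul_cancel₀ c.ne_zero, one_smul]
    rcases mul_self_eq_one_iff.1 hkc with h5 | h5 <;> rw [h5] at hxr
    · -- anticommuting
      rw [neg_one_smul] at hxr
      have hu : mk x hx * r = (x * r) * mk x hx := Units.ext (by
        show (1 + (x : Matrix Ix Ix F)) * (r : Matrix Ix Ix F) = (x : Matrix Ix Ix F) * (r : Matrix Ix Ix F) * (1 + (x : Matrix Ix Ix F))
        have h6 : (r : Matrix Ix Ix F) * (x : Matrix Ix Ix F) = -((x : Matrix Ix Ix F) * (r : Matrix Ix Ix F)) := by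
          rw [hxr, neg_neg]
        rw [mul_add, mul_one, mul_assoc _ (r : Matrix Ix Ix F), h6, mul_neg, ← mul_assoc, hx, add_mul, one_mul]
        simp
        abel)
      rw [hu, mul_inv_cancel_right]
      exact R.mul_mem hxR hr
    · rw [neg_neg, one_smul] at hxr
      have hu : mk x hx * r = r * mk x hx := Units.ext (by
        show (1 + (x : Matrix Ix Ix F)) * (r : Matrix Ix Ix F) = (r : Matrix Ix Ix F) * (1 + (x : Matrix Ix Ix F))
        rw [add_mul, mul_add, one_mul, mul_one, hxr])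
      rwa [hu, mul_inv_cancel_right]
  have hiso : ∀ x : Matrix Ix Ix F, x * x = -1 → xᵀ * Ω = -(Ω * x) → (1 + x)ᵀ * Ω * (1 + x) = -Ω := by
    intro x hx hs
    rw [Matrix.transpose_add, Matrix.transpose_one, add_mul, one_mul, hs, add_mul, neg_mul, mul_assoc Ω x]
    simp only [mul_add, mul_one, hx, mul_neg]
    linear_combination (norm := abel) hM Ω
  refine ⟨mk x₁ h₁ * mk x₂ h₂, sp_iff.2 ?_, (subgroupNormalizer R).mul_mem (hnorm _ h₁ hx₁) (hnorm _ h₂ hx₂), ?_⟩
  · show ((1 + (x₁ : Matrix Ix Ix F)) * (1 + (x₂ : Matrix Ix Ix F)))ᵀ * Ω *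
      ((1 + (x₁ : Matrix Ix Ix F)) * (1 + (x₂ : Matrix Ix Ix F))) = Ω
    rw [Matrix.transpose_mul, mul_assoc, mul_assoc, ← mul_assoc Ω, ← mul_assoc _ (Ω * _), ← mul_assoc _ Ω,
      hiso _ h₁ hs₁, neg_mul, mul_neg, ← mul_assoc, hiso _ h₂ hs₂, neg_neg]
  · show (1 + (x₁ : Matrix Ix Ix F)) * (1 + (x₂ : Matrix Ix Ix F)) * _ = _ * ((1 + (x₁ : Matrix Ix Ix F)) * (1 + (x₂ : Matrix Ix Ix F)))
    generalize (x₁ : Matrix Ix Ix F) = a at h₁ hac
    generalize (x₂ : Matrix Ix Ix F) = b at h₂ hac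
    have hz : b * (a * b) = a := by rw [← mul_assoc, hac, neg_mul, mul_assoc, h₂, mul_neg, mul_one, neg_neg]
    have haz : a * (a * b) = -b := by rw [← mul_assoc, h₁, neg_mul, one_mul]
    simp only [add_mul, mul_add, one_mul, mul_one, mul_assoc, hz, haz, h₁]
    abel

/-- coordinates for the plane tensor plane -/
def e4 : Ix ≃ Fin 2 × Fin 2 where
  toFun := Sum.elim (fun a => (0, a)) (fun a => (1, a))
  invFun p := if p.1 = 0 then .inl p.2 else .inr p.2
  left_inv := by rintro (a | a) <;> simp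
  right_inv := by rintro ⟨a, b⟩; fin_cases a <;> simp

/-- tensor products of two invertible matrices of size two -/
noncomputable def kr : GL (Fin 2) F × GL (Fin 2) F →* GL Ix F where
  toFun p := glReindex e4.symm (AschFormStruct.kronUnit p.1 p.2)
  map_one' := Units.ext (by
    show pull e4 ((1 : Matrix (Fin 2) (Fin 2) F) ⊗ₖ (1 : Matrix (Fin 2) (Fin 2) F)) = 1
    rw [Matrix.one_kronecker_one, map_one])
  map_mul' p q := Units.ext (by
    show pull e4 (((p.1 : Matrix (Fin 2) (Fin 2) F) * (q.1 : Matrix (Fin 2) (Fin 2) F)) ⊗ₖ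
        ((p.2 : Matrix (Fin 2) (Fin 2) F) * (q.2 : Matrix (Fin 2) (Fin 2) F))) =
      pull e4 ((p.1 : Matrix (Fin 2) (Fin 2) F) ⊗ₖ (p.2 : Matrix (Fin 2) (Fin 2) F)) *
        pull e4 ((q.1 : Matrix (Fin 2) (Fin 2) F) ⊗ₖ (q.2 : Matrix (Fin 2) (Fin 2) F))
    rw [Matrix.mul_kronecker_mul, map_mul])

lemma kr_val (a c : GL (Fin 2) F) : ((kr (a, c) : GL Ix F) : Matrix Ix Ix F) =
    pull e4 ((a : Matrix (Fin 2) (Fin 2) F) ⊗ₖ (c : Matrix (Fin 2) (Fin 2) F)) := rfl

lemma omega_eq : Ω = pull e4 ((-Pj) ⊗ₖ (1 : Matrix (Fin 2) (Fin 2) F)) := by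
  ext (a | a) (b | b) <;> fin_cases a <;> fin_cases b <;> simp [pull_apply, e4, Matrix.J, planeJ]

lemma kr_gram (A C : Matrix (Fin 2) (Fin 2) F) :
    (pull e4 (A ⊗ₖ C))ᵀ * Ω * pull e4 (A ⊗ₖ C) = pull e4 ((A.det • -Pj) ⊗ₖ (Cᵀ * C)) := by
  rw [omega_eq, show (pull e4 (A ⊗ₖ C))ᵀ = pull e4 (A ⊗ₖ C)ᵀ from rfl, ← map_mul, ← map_mul,
    ← Matrix.kroneckerMap_transpose, ← Matrix.mul_kronecker_mul, ← Matrix.mul_kronecker_mul, mul_one,
    mul_neg, neg_mul, planeJ_transform, smul_neg]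

set_option maxHeartbeats 1600000 in
/-- over three elements a symplectic group normalising a field that is not self-adjoint is not maximal -/
theorem no_unitary_field (h3 : Fintype.card F = 3) {H : Subgroup (GL Ix F)} (hH : IsMaximalIn (spGL 2 F) H)
    {K : Subalgebra F (Matrix Ix Ix F)} (hK : IsFieldSubalgebra 2 K) (hadj : IsAdjointClosedFor (sympForm 2 F) K)
    (hns : ¬ IsSelfAdjointFor (sympForm 2 F) K) (hle : H ≤ subalgebraNormalizer K) : False := by
  classical
  have hf := TransvectionMax.sympForm_isSymplecticForm (F := F) 2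
  have h2 := two_ne h3
  have hroot : ∀ a : F, a * a ≠ -1 := no_root h3
  -- a square root of minus one in the field
  have hzero : ∀ k ∈ K, ∀ l ∈ K, k * l = 0 → k = 0 ∨ l = 0 := by
    intro k hk l hl h0
    by_cases hk0 : k = 0
    · exact Or.inl hk0
    obtain ⟨m, hm, hkm⟩ := hK.inv k hk hk0
    exact Or.inr (by rw [← one_mul l, ← hkm, hK.comm k hk m hm, mul_assoc, h0, mul_zero])
  have hone : ∀ c : F, c • (1 : Matrix Ix Ix F) ∈ K := fun c => K.smul_mem K.one_mem c
  obtain ⟨k, hk, hks⟩ : ∃ k ∈ K, ∀ c : F, k ≠ c • 1 := by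
    by_contra hall
    push Not at hall
    have hle1 : Subalgebra.toSubmodule K ≤ Submodule.span F {(1 : Matrix Ix Ix F)} := fun x hx => by
      obtain ⟨c, rfl⟩ := hall x hx
      exact Submodule.smul_mem _ _ (Submodule.mem_span_singleton_self _)
    have h4 := (Submodule.finrank_mono hle1).trans (finrank_span_singleton (one_ne_zero (α := Matrix Ix Ix F))).le
    rw [show Module.finrank F (Subalgebra.toSubmodule K) = 2 from hK.finrank_eq] at h4
    omega
  have hspan : ∀ j ∈ K, (∀ c : F, j ≠ c • 1) → ∀ x ∈ K, ∃ a b : F, x = a • (1 : Matrix Ix Ix F) + b • j := by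
    intro j hj hjs x hx
    have hli : LinearIndependent F ![(1 : Matrix Ix Ix F), j] := by
      rw [LinearIndependent.pair_iff' one_ne_zero]
      exact fun a => (hjs a).symm
    have hle1 : Submodule.span F (Set.range ![(1 : Matrix Ix Ix F), j]) ≤ Subalgebra.toSubmodule K := by
      rw [Submodule.span_le]
      rintro _ ⟨i, rfl⟩
      fin_cases i
      · exact K.one_mem
      · exact hj
    have heq := Submodule.eq_of_le_of_finrank_eq hle1 (by
      rw [finrank_span_eq_card hli, show Module.finrank F (Subalgebra.toSubmodule K) = 2 from hK.finrank_eq]; rfl)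
    have hx' : x ∈ Submodule.span F (Set.range ![(1 : Matrix Ix Ix F), j]) := heq.symm ▸ hx
    rw [Matrix.range_cons, Matrix.range_cons, Matrix.range_empty, Set.union_empty, Set.singleton_union,
      Submodule.mem_span_pair] at hx'
    obtain ⟨a, b, hab⟩ := hx'
    exact ⟨a, b, hab.symm⟩
  obtain ⟨i, hi, hii, his⟩ : ∃ i ∈ K, i * i = -1 ∧ ∀ c : F, i ≠ c • 1 := by
    obtain ⟨a, b, hab⟩ := hspan k hk hks (k * k) (K.mul_mem hk hk)
    rw [add_comm] at hab
    set j := k - (b / 2) • (1 : Matrix Ix Ix F) with hj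
    have hjK : j ∈ K := K.sub_mem hk (hone _)
    have hjs : ∀ c : F, j ≠ c • 1 := fun c hc => hks (c + b / 2) (by
      rw [add_smul, ← hc, hj, sub_add_cancel])
    have hjj : j * j = (a + b / 2 * (b / 2)) • 1 := by
      rw [hj]
      simp only [sub_mul, mul_sub, Matrix.smul_mul, Matrix.mul_smul, one_mul, mul_one, hab, smul_smul]
      match_scalars <;> field_simp <;> ring
    refine ⟨j, hjK, ?_, hjs⟩
    by_cases hc : a + b / 2 * (b / 2) = 0
    · rw [hc, zero_smul] at hjj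
      rcases hzero j hjK j hjK hjj with h | h <;> exact absurd (h.trans (zero_smul F 1).symm) (hjs 0)
    rcases mul_self_eq_one_iff.1 (mul_self_one h3 hc) with hc1 | hc1
    · rw [hc1, one_smul] at hjj
      rcases hzero (j - 1) (K.sub_mem hjK K.one_mem) (j + 1) (K.add_mem hjK K.one_mem)
        (by rw [sub_mul, mul_add, one_mul, hjj, mul_one]; abel) with h | h
      · exact absurd (by rw [one_smul, ← sub_eq_zero, h]) (hjs 1)
      · exact absurd (by rw [neg_one_smul, eq_neg_iff_add_eq_zero, h]) (hjs (-1))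
    · rw [hjj, hc1, neg_one_smul]
  have hpm : ∀ j ∈ K, j * j = -1 → j = i ∨ j = -i := by
    intro j hj hjj
    rcases hzero (j - i) (K.sub_mem hj hi) (j + i) (K.add_mem hj hi)
      (by rw [sub_mul, mul_add, mul_add, hjj, hii, hK.comm i hi j hj]; abel) with h | h
    · exact Or.inl (sub_eq_zero.1 h)
    · exact Or.inr (eq_neg_iff_add_eq_zero.2 h)
  have hii' : ∀ v : Ix → F, i *ᵥ (i *ᵥ v) = -v := fun v => by
    rw [Matrix.mulVec_mulVec, hii, Matrix.neg_mulVec, Matrix.one_mulVec]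
  have hneg_l : ∀ u v, sympForm 2 F (-u) v = -sympForm 2 F u v := fun u v => by
    rw [← neg_one_smul F u, hf.bilinear.smul_left, neg_one_mul]
  have hneg_r : ∀ u v, sympForm 2 F u (-v) = -sympForm 2 F u v := fun u v => by
    rw [← neg_one_smul F v, hf.bilinear.smul_right, neg_one_mul]
  have hadj_i : ∀ u v, sympForm 2 F (i *ᵥ u) v = -sympForm 2 F u (i *ᵥ v) := by
    obtain ⟨i', hi', hii''⟩ := hadj i hi
    have hsq : i' * i' = -1 := Matrix.ext_of_mulVec_single fun c => by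
      have h4 : ∀ u, sympForm 2 F u ((i' * i') *ᵥ Pi.single c 1 - (-1 : Matrix Ix Ix F) *ᵥ Pi.single c 1) = 0 := fun u => by
        rw [sub_eq_add_neg, hf.bilinear.add_right, hneg_r, ← Matrix.mulVec_mulVec, ← hii'', ← hii'', hii',
          Matrix.neg_mulVec, Matrix.one_mulVec, hneg_l, hneg_r]
        ring
      exact sub_eq_zero.1 (sp_eq_zero h4)
    rcases hpm i' hi' hsq with rfl | rfl
    · refine absurd (fun k hk u v => ?_) hns
      obtain ⟨a, b, rfl⟩ := hspan i' hi his k hk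
      simp only [Matrix.add_mulVec, Matrix.smul_mulVec, Matrix.one_mulVec, hf.bilinear.add_left,
        hf.bilinear.add_right, hf.bilinear.smul_left, hf.bilinear.smul_right, hii'']
    · intro u v
      rw [hii'', Matrix.neg_mulVec, hneg_r]
  -- an isotropic vector and its partner
  let B := sympForm 2 F
  have hsymQ : ∀ u v, B u (i *ᵥ v) = B v (i *ᵥ u) := fun u v => by
    show sympForm 2 F u (i *ᵥ v) = sympForm 2 F v (i *ᵥ u)
    rw [hf.skew v, hadj_i u v, neg_neg]
  have hBii : ∀ u v, B (i *ᵥ u) (i *ᵥ v) = B u v := fun u v => by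
    show sympForm 2 F (i *ᵥ u) (i *ᵥ v) = sympForm 2 F u v
    rw [hadj_i, hii', hneg_r, neg_neg]
  obtain ⟨x, hx0, hQx⟩ : ∃ x : Ix → F, x ≠ 0 ∧ B x (i *ᵥ x) = 0 := by
    let u : Ix → F := Pi.single (.inl 0) 1
    have hu0 : u ≠ 0 := fun h => one_ne_zero (α := F) (by simpa [u] using congrFun h (.inl 0))
    by_cases hQu : B u (i *ᵥ u) = 0
    · exact ⟨u, hu0, hQu⟩
    let Lf : (Ix → F) → ((Ix → F) →ₗ[F] F) := fun w =>
      { toFun := fun v => B v w
        map_add' := fun a b => hf.bilinear.add_left a b w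
        map_smul' := fun a b => hf.bilinear.smul_left a b w }
    obtain ⟨v, hv0, hv⟩ := exists_ne_zero_kills [Lf u, Lf (i *ᵥ u)] (by simp)
    have v1 : B v u = 0 := hv _ (List.mem_cons_self ..)
    have v2 : B v (i *ᵥ u) = 0 := hv _ (List.mem_cons_of_mem _ (List.mem_singleton_self _))
    have v3 : B u (i *ᵥ v) = 0 := by rw [hsymQ, v2]
    have v4 : B u v = 0 := by show sympForm 2 F u v = 0; rw [hf.skew]; exact neg_eq_zero.2 v1
    by_cases hQv : B v (i *ᵥ v) = 0
    · exact ⟨v, hv0, hQv⟩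
    rcases mul_self_eq_one_iff.1 (mul_self_one h3 (div_ne_zero hQv hQu)) with hr | hr
    · rw [div_eq_one_iff_eq hQu] at hr
      refine ⟨u + v + i *ᵥ v, fun h0 => hQu ?_, ?_⟩
      · have h5 := congrArg (fun z => B z (i *ᵥ u)) h0
        have h6 : B (0 : Ix → F) (i *ᵥ u) = 0 := map_zero (Lf (i *ᵥ u))
        simp only [B, hf.bilinear.add_left] at h5 h6 v1 v2 hBii ⊢
        rw [h6, v2, hBii, v1, add_zero, add_zero] at h5
        exact h5
      · simp only [B] at hr v1 v2 v3 v4 hBii hsymQ ⊢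
        simp only [Matrix.mulVec_add, hii', hf.bilinear.add_left, hf.bilinear.add_right, hneg_r, hBii, v1, v2, v3, v4,
          hf.alternating, hadj_i v v]
        linear_combination sympForm 2 F u (i *ᵥ u) * three_eq_zero h3 + 2 * hr
    · rw [div_eq_iff hQu, neg_one_mul] at hr
      refine ⟨u + v, fun h0 => hQu ?_, ?_⟩
      · rw [eq_neg_of_add_eq_zero_left h0]
        simp only [B] at v3 ⊢
        rw [hneg_l, Matrix.mulVec_neg, hneg_r, neg_neg]
        rw [show u = -v from eq_neg_of_add_eq_zero_left h0, hneg_l, neg_eq_zero] at v3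
        exact v3
      · simp only [B] at hr v2 v3 ⊢
        rw [Matrix.mulVec_add, hf.bilinear.add_left, hf.bilinear.add_right, hf.bilinear.add_right, v2, v3, hr]
        ring
  obtain ⟨y, hy1, hy2, hy3⟩ : ∃ y : Ix → F, B x y = 1 ∧ B x (i *ᵥ y) = 0 ∧ B y (i *ᵥ y) = 0 := by
    obtain ⟨-, z, hz⟩ := hf.nondegenerate x hx0
    obtain ⟨z₁, hxz⟩ : ∃ z₁, B x z₁ = 1 := ⟨(B x z)⁻¹ • z, by
      show sympForm 2 F x _ = 1
      rw [hf.bilinear.smul_right]; exact inv_mul_cancel₀ hz⟩
    set β := B x (i *ᵥ z₁) with hβ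
    have hn : 1 + β * β ≠ 0 := fun h => hroot β (by linear_combination h)
    set a := (1 + β * β)⁻¹ with ha
    set z₂ := a • z₁ + (β * a) • (i *ᵥ z₁) with hz2
    have e1 : B x z₂ = 1 := by
      show sympForm 2 F x _ = 1
      rw [hz2, hf.bilinear.add_right, hf.bilinear.smul_right, hf.bilinear.smul_right]
      show a * B x z₁ + β * a * β = 1
      rw [hxz, show a * 1 + β * a * β = a * (1 + β * β) by ring, ha, inv_mul_cancel₀ hn]
    have e2 : B x (i *ᵥ z₂) = 0 := by
      show sympForm 2 F x _ = 0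
      rw [hz2, Matrix.mulVec_add, Matrix.mulVec_smul, Matrix.mulVec_smul, hii', hf.bilinear.add_right,
        hf.bilinear.smul_right, hf.bilinear.smul_right, hneg_r]
      show a * β + β * a * -B x z₁ = 0
      rw [hxz]; ring
    refine ⟨z₂ + (-(B z₂ (i *ᵥ z₂)) / 2) • (i *ᵥ x), ?_, ?_, ?_⟩
    · show sympForm 2 F x _ = 1
      rw [hf.bilinear.add_right, hf.bilinear.smul_right]
      show B x z₂ + _ * B x (i *ᵥ x) = 1
      rw [e1, hQx]; ring
    · show sympForm 2 F x _ = 0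
      rw [Matrix.mulVec_add, Matrix.mulVec_smul, hii', hf.bilinear.add_right, hf.bilinear.smul_right, hneg_r,
        hf.alternating]
      show B x (i *ᵥ z₂) + _ = 0
      rw [e2]; ring
    · simp only [B] at e1 e2 hQx hBii hsymQ ⊢
      simp only [Matrix.mulVec_add, Matrix.mulVec_smul, hii', hf.bilinear.add_left, hf.bilinear.add_right,
        hf.bilinear.smul_left, hf.bilinear.smul_right, hneg_r, hBii, hf.skew z₂ x, hadj_i x x, e1, e2, hQx,
        hf.alternating]
      field_simp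
      ring
  -- coordinates
  obtain ⟨P, hP, hPc⟩ := exists_of_cols (F := F) (Sum.elim ![x, -(i *ᵥ x)] ![-y, i *ᵥ y]) (by
    simp only [B] at hQx hy1 hy2 hy3 hBii
    have hyx : sympForm 2 F y x = -1 := by rw [hf.skew, hy1]
    have h5 : sympForm 2 F (i *ᵥ x) y = 0 := by rw [hadj_i, hy2, neg_zero]
    have h6 : sympForm 2 F (i *ᵥ y) x = 0 := by rw [hf.skew, hy2, neg_zero]
    have h7 : sympForm 2 F y (i *ᵥ x) = 0 := by rw [hf.skew, h5, neg_zero]
    have h8 : sympForm 2 F (i *ᵥ x) x = 0 := by rw [hf.skew, hQx, neg_zero]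
    have h9 : sympForm 2 F (i *ᵥ y) y = 0 := by rw [hf.skew, hy3, neg_zero]
    rintro (a | a) (b | b) <;> fin_cases a <;> fin_cases b <;>
      simp [std_ll, std_lr, std_rl, std_rr, hneg_l, hneg_r, hBii, hf.alternating, hQx, hy1, hy2, hy3, hyx, h5, h6,
        h7, h8, h9])
  let K₂ : Matrix (Fin 2) (Fin 2) F := Pj
  let i₀ : Matrix Ix Ix F := pull e4 ((1 : Matrix (Fin 2) (Fin 2) F) ⊗ₖ K₂)
  have hiP : i = conjAlg P i₀ := by
    have h4 : i * (P : Matrix Ix Ix F) = (P : Matrix Ix Ix F) * i₀ := Matrix.ext_of_mulVec_single fun c => by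
      rw [← Matrix.mulVec_mulVec, ← Matrix.mulVec_mulVec, hPc, Matrix.mulVec_single_one,
        pi_eq_sum_univ' (i₀.col c), Matrix.mulVec_sum]
      simp only [Matrix.mulVec_smul, hPc]
      rcases c with c | c <;> fin_cases c <;>
        simp [Fintype.sum_sum_type, Fin.sum_univ_two, i₀, K₂, pull_apply, e4, planeJ, Matrix.one_apply, Matrix.mulVec_neg, hii']
    rw [conjAlg_apply, ← h4, mul_assoc, Units.mul_inv, mul_one]
  let Φ : GL (Fin 2) F × GL (Fin 2) F →* GL Ix F := (MulAut.conj P).toMonoidHom.comp kr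
  have hΦ : ∀ p, ((Φ p : GL Ix F) : Matrix Ix Ix F) = conjAlg P ((kr p : GL Ix F) : Matrix Ix Ix F) := fun p => rfl
  have hΦsp : ∀ a c : GL (Fin 2) F, (a : Matrix (Fin 2) (Fin 2) F).det = 1 →
      (c : Matrix (Fin 2) (Fin 2) F)ᵀ * (c : Matrix (Fin 2) (Fin 2) F) = 1 → Φ (a, c) ∈ spGL 2 F := by
    intro a c ha hc
    refine (spGL 2 F).mul_mem ((spGL 2 F).mul_mem hP (sp_iff.2 ?_)) ((spGL 2 F).inv_mem hP)
    rw [kr_val, kr_gram, ha, hc, one_smul, ← omega_eq]
  let O : Subgroup (GL (Fin 2) F) :=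
    { carrier := {c | (c : Matrix (Fin 2) (Fin 2) F)ᵀ * (c : Matrix (Fin 2) (Fin 2) F) = 1}
      one_mem' := by simp
      mul_mem' := fun {a b} ha hb => by
        show ((a * b : GL (Fin 2) F) : Matrix (Fin 2) (Fin 2) F)ᵀ * _ = 1
        rw [Units.val_mul, Matrix.transpose_mul, mul_assoc, ← mul_assoc _ (a : Matrix (Fin 2) (Fin 2) F), ha, one_mul, hb]
      inv_mem' := fun {a} ha => by
        have h4 : ((a⁻¹ : GL (Fin 2) F) : Matrix (Fin 2) (Fin 2) F) = (a : Matrix (Fin 2) (Fin 2) F)ᵀ :=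
          Units.inv_eq_of_mul_eq_one_left ha
        show ((a⁻¹ : GL (Fin 2) F) : Matrix (Fin 2) (Fin 2) F)ᵀ * _ = 1
        rw [h4, Matrix.transpose_transpose]
        exact mul_eq_one_comm.1 ha }
  obtain ⟨Q, hQd, hQ2, hQs, hQn⟩ := AschFormSymp.exists_quaternion h3
  let R : Subgroup (GL Ix F) := (Q.prod O).map Φ
  have hRsp : R ≤ spGL 2 F := by
    rintro _ ⟨⟨a, c⟩, ⟨ha, hc⟩, rfl⟩
    exact hΦsp a c (hQd a ha) hc
  have hQsq : ∀ a ∈ Q, a * a ∈ scalars (Fin 2) F := by
    intro a ha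
    by_cases has : a ∈ scalars (Fin 2) F
    · exact (scalars (Fin 2) F).mul_mem has has
    have htr := trace_eq_zero (AschFormPower.absIrred_of_adjoin hQs) hQ2 ha has
    refine mem_scalars_of_comm (c := -1) ?_
    have hd := hQd a ha
    rw [Matrix.det_fin_two] at hd
    rw [Matrix.trace_fin_two] at htr
    ext r s
    fin_cases r <;> fin_cases s <;> simp [Matrix.mul_apply, Fin.sum_univ_two]
    · linear_combination -hd + (a : Matrix (Fin 2) (Fin 2) F) 0 0 * htr
    · linear_combination (a : Matrix (Fin 2) (Fin 2) F) 0 1 * htr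
    · linear_combination (a : Matrix (Fin 2) (Fin 2) F) 1 0 * htr
    · linear_combination -hd + (a : Matrix (Fin 2) (Fin 2) F) 1 1 * htr
  have hOsq : ∀ c ∈ O, c * c ∈ scalars (Fin 2) F := by
    intro c hc
    have e00 := congrFun (congrFun hc 0) 0
    have e01 := congrFun (congrFun hc 0) 1
    have e11 := congrFun (congrFun hc 1) 1
    simp [Matrix.mul_apply, Fin.sum_univ_two] at e00 e01 e11
    by_cases ha : (c : Matrix (Fin 2) (Fin 2) F) 0 0 = 0
    · have hc10 : (c : Matrix (Fin 2) (Fin 2) F) 1 0 ≠ 0 := fun h => by simp [ha, h] at e00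
      have hd : (c : Matrix (Fin 2) (Fin 2) F) 1 1 = 0 := by simpa [ha, hc10] using e01
      refine mem_scalars_of_comm (c := (c : Matrix (Fin 2) (Fin 2) F) 0 1 * (c : Matrix (Fin 2) (Fin 2) F) 1 0) ?_
      ext r s
      fin_cases r <;> fin_cases s <;> simp [Matrix.mul_apply, Fin.sum_univ_two, ha, hd, mul_comm]
    · have hc10 : (c : Matrix (Fin 2) (Fin 2) F) 1 0 = 0 := by
        by_contra h
        rw [mul_self_one h3 ha, mul_self_one h3 h] at e00
        exact one_ne_zero (α := F) (by linear_combination e00)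
      have hb : (c : Matrix (Fin 2) (Fin 2) F) 0 1 = 0 := by simpa [ha, hc10] using e01
      refine mem_scalars_of_comm (c := 1) ?_
      ext r s
      fin_cases r <;> fin_cases s <;> simp [Matrix.mul_apply, Fin.sum_univ_two, hc10, hb]
      · simpa [hc10] using e00
      · simpa [hb] using e11
  have hΦs : ∀ a c : GL (Fin 2) F, a ∈ scalars (Fin 2) F → c ∈ scalars (Fin 2) F → Φ (a, c) ∈ scalars Ix F := by
    intro a c ha hc
    obtain ⟨u, hu⟩ := (mem_scalars_iff _).1 ha
    obtain ⟨w, hw⟩ := (mem_scalars_iff _).1 hc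
    refine mem_scalars_of_comm (c := (u : F) * (w : F)) ?_
    rw [hΦ, kr_val, hu, hw, Matrix.smul_kronecker, Matrix.kronecker_smul, Matrix.one_kronecker_one, smul_smul,
      map_smul, map_one, map_smul, map_one]
  have hRsq : ∀ r ∈ R, r * r ∈ scalars Ix F := by
    rintro _ ⟨⟨a, c⟩, ⟨ha, hc⟩, rfl⟩
    rw [← map_mul, Prod.mk_mul_mk]
    exact hΦs _ _ (hQsq a ha) (hOsq c hc)
  let τm : Matrix (Fin 2) (Fin 2) F := !![1, 0; 0, -1]
  have hτt : τmᵀ = τm := by ext r s; fin_cases r <;> fin_cases s <;> simp [τm]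
  have hτ2 : τm * τm = 1 := by ext r s; fin_cases r <;> fin_cases s <;> simp [τm, Matrix.mul_apply, Fin.sum_univ_two]
  let τ : GL (Fin 2) F := ⟨τm, τm, hτ2, hτ2⟩
  have hτO : τ ∈ O := by show τmᵀ * τm = 1; rw [hτt, hτ2]
  have hK2 : K₂ * K₂ = -1 := by
    ext r s; fin_cases r <;> fin_cases s <;> simp [K₂, planeJ, Matrix.mul_apply, Fin.sum_univ_two]
  have hK2t : K₂ᵀ = -K₂ := by ext r s; fin_cases r <;> fin_cases s <;> simp [K₂, planeJ]
  let κ : GL (Fin 2) F := ⟨K₂, -K₂, by rw [mul_neg, hK2, neg_neg], by rw [neg_mul, hK2, neg_neg]⟩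
  have hκO : κ ∈ O := by show K₂ᵀ * K₂ = 1; rw [hK2t, neg_mul, hK2, neg_neg]
  have hτK : τm * K₂ = -(K₂ * τm) := by
    ext r s; fin_cases r <;> fin_cases s <;> simp [τm, K₂, planeJ, Matrix.mul_apply, Fin.sum_univ_two]
  -- absolute irreducibility
  have hRabs : AbsIrred R := by
    refine AschFormPower.absIrred_of_adjoin (eq_top_iff.2 ?_)
    set C := Algebra.adjoin F (matrixSet R)
    let φ : Matrix (Fin 2 × Fin 2) (Fin 2 × Fin 2) F →ₐ[F] Matrix Ix Ix F := (conjAlg P).toAlgHom.comp (pull e4)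
    have hgen : ∀ a ∈ Q, ∀ c ∈ O, φ ((a : Matrix (Fin 2) (Fin 2) F) ⊗ₖ (c : Matrix (Fin 2) (Fin 2) F)) ∈ C :=
      fun a ha c hc => Algebra.subset_adjoin ⟨Φ (a, c), ⟨(a, c), ⟨ha, hc⟩, rfl⟩, rfl⟩
    have hL : ∀ X : Matrix (Fin 2) (Fin 2) F, φ (X ⊗ₖ (1 : Matrix (Fin 2) (Fin 2) F)) ∈ C := by
      intro X
      let S : Subalgebra F (Matrix (Fin 2) (Fin 2) F) :=
        { carrier := {X | φ (X ⊗ₖ (1 : Matrix (Fin 2) (Fin 2) F)) ∈ C}
          mul_mem' := fun {a b} ha hb => by
            show φ ((a * b) ⊗ₖ (1 : Matrix (Fin 2) (Fin 2) F)) ∈ C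
            rw [show (a * b) ⊗ₖ (1 : Matrix (Fin 2) (Fin 2) F) = (a ⊗ₖ 1) * (b ⊗ₖ 1) by
              rw [← Matrix.mul_kronecker_mul, one_mul], map_mul]
            exact C.mul_mem ha hb
          add_mem' := fun {a b} ha hb => by
            show φ ((a + b) ⊗ₖ (1 : Matrix (Fin 2) (Fin 2) F)) ∈ C
            rw [Matrix.add_kronecker, map_add]
            exact C.add_mem ha hb
          algebraMap_mem' := fun c => by
            show φ (algebraMap F _ c ⊗ₖ (1 : Matrix (Fin 2) (Fin 2) F)) ∈ C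
            rw [Algebra.algebraMap_eq_smul_one, Matrix.smul_kronecker, Matrix.one_kronecker_one, map_smul, map_one]
            exact C.smul_mem C.one_mem c }
      have : Algebra.adjoin F (matrixSet Q) ≤ S := by
        refine Algebra.adjoin_le ?_
        rintro _ ⟨a, ha, rfl⟩
        show φ (_ ⊗ₖ (1 : Matrix (Fin 2) (Fin 2) F)) ∈ C
        exact hgen a ha 1 O.one_mem
      rw [hQs] at this
      exact this trivial
    have hR' : ∀ Y : Matrix (Fin 2) (Fin 2) F, φ ((1 : Matrix (Fin 2) (Fin 2) F) ⊗ₖ Y) ∈ C := by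
      intro Y
      have hY : Y = ((Y 0 0 + Y 1 1) / 2) • (1 : Matrix (Fin 2) (Fin 2) F) + ((Y 0 0 - Y 1 1) / 2) • τm +
          ((Y 0 1 - Y 1 0) / 2) • K₂ + ((Y 0 1 + Y 1 0) / 2) • (τm * K₂) := by
        ext r s
        fin_cases r <;> fin_cases s <;> simp [τm, K₂, planeJ, Matrix.mul_apply, Fin.sum_univ_two] <;>
          field_simp <;> ring
      have hone' : ∀ c : GL (Fin 2) F, c ∈ O → φ ((1 : Matrix (Fin 2) (Fin 2) F) ⊗ₖ (c : Matrix (Fin 2) (Fin 2) F)) ∈ C :=
        fun c hc => by simpa using hgen 1 Q.one_mem c hc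
      rw [hY]
      simp only [Matrix.kronecker_add, Matrix.kronecker_smul, map_add, map_smul, Matrix.one_kronecker_one, map_one]
      exact C.add_mem (C.add_mem (C.add_mem (C.smul_mem C.one_mem _) (C.smul_mem (hone' τ hτO) _))
        (C.smul_mem (hone' κ hκO) _)) (C.smul_mem (hone' (τ * κ) (O.mul_mem hτO hκO)) _)
    intro Z _
    obtain ⟨Z', rfl⟩ := (conjAlg P).surjective Z
    obtain ⟨W, rfl⟩ := pull_surjective e4 Z'
    show φ W ∈ C
    rw [Matrix.matrix_eq_sum_single W, map_sum]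
    refine C.sum_mem fun p _ => ?_
    rw [map_sum]
    refine C.sum_mem fun q _ => ?_
    have hW : Matrix.single p q (W p q) = (Matrix.single p.1 q.1 (W p q) ⊗ₖ (1 : Matrix (Fin 2) (Fin 2) F)) *
        ((1 : Matrix (Fin 2) (Fin 2) F) ⊗ₖ Matrix.single p.2 q.2 (1 : F)) := by
      rw [← Matrix.mul_kronecker_mul, mul_one, one_mul, Matrix.single_kronecker_single, mul_one]
    rw [hW, map_mul]
    exact C.mul_mem (hL _) (hR' _)
  -- the members of the subgroup respect the tensor coordinates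
  have hpure : ∀ g ∈ spGL 2 F, conjAlg g i = i → ∃ (A C : GL (Fin 2) F) (l : F), l ≠ 0 ∧
      (C : Matrix (Fin 2) (Fin 2) F)ᵀ * (C : Matrix (Fin 2) (Fin 2) F) = l • 1 ∧ g = Φ (A, C) := by
    intro g hg hgi
    set y : GL Ix F := P⁻¹ * g * P with hy
    have hgy : g = P * y * P⁻¹ := by rw [hy]; group
    obtain ⟨M, hM⟩ := pull_surjective e4 (y : Matrix Ix Ix F)
    have hyi : M * ((1 : Matrix (Fin 2) (Fin 2) F) ⊗ₖ K₂) = ((1 : Matrix (Fin 2) (Fin 2) F) ⊗ₖ K₂) * M := by
      apply pull_injective e4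
      rw [map_mul, map_mul, hM]
      have h4 : conjAlg y i₀ = i₀ := by
        apply (conjAlg P).injective
        rw [← hiP, ← conjAlg_mul, show P * y = g * P by rw [hy]; group, conjAlg_mul, ← hiP, hgi]
      have h5 := congrArg (· * (y : Matrix Ix Ix F)) h4
      simp only [conjAlg_apply, mul_assoc, Units.inv_mul, mul_one] at h5
      exact h5
    let A : Matrix (Fin 2) (Fin 2) F := Matrix.of fun r s => M (r, 0) (s, 0)
    let B' : Matrix (Fin 2) (Fin 2) F := Matrix.of fun r s => M (r, 0) (s, 1)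
    have hMd : M = A ⊗ₖ (1 : Matrix (Fin 2) (Fin 2) F) + B' ⊗ₖ K₂ := by
      ext ⟨r, a⟩ ⟨s, b⟩
      have k1 := congrFun (congrFun hyi (r, 0)) (s, 0)
      have k2 := congrFun (congrFun hyi (r, 0)) (s, 1)
      simp [Matrix.mul_apply, Fintype.sum_prod_type, Fin.sum_univ_two, K₂, planeJ, Matrix.one_apply] at k1 k2
      fin_cases a <;> fin_cases b <;> simp [A, B', K₂, planeJ, k1, k2]
      all_goals first | exact k1.symm | exact k2.symm | linear_combination -k1 | linear_combination k1 | linear_combination -k2 | linear_combination k2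
    have hyS : (y : Matrix Ix Ix F)ᵀ * Ω * (y : Matrix Ix Ix F) = Ω :=
      sp_iff.1 ((spGL 2 F).mul_mem ((spGL 2 F).mul_mem ((spGL 2 F).inv_mem hP) hg) hP)
    rw [← hM, omega_eq, show (pull e4 M)ᵀ = pull e4 Mᵀ from rfl, ← map_mul, ← map_mul] at hyS
    have hgram := pull_injective e4 hyS
    have hexp : Mᵀ * ((-Pj) ⊗ₖ (1 : Matrix (Fin 2) (Fin 2) F)) * M =
        (-(Aᵀ * Pj * A + B'ᵀ * Pj * B')) ⊗ₖ (1 : Matrix (Fin 2) (Fin 2) F) +
          (-(Aᵀ * Pj * B' - B'ᵀ * Pj * A)) ⊗ₖ K₂ := by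
      rw [hMd, Matrix.transpose_add, ← Matrix.kroneckerMap_transpose, ← Matrix.kroneckerMap_transpose,
        Matrix.transpose_one, hK2t, add_mul, ← Matrix.mul_kronecker_mul, ← Matrix.mul_kronecker_mul, mul_one,
        mul_one, add_mul, mul_add, mul_add, ← Matrix.mul_kronecker_mul, ← Matrix.mul_kronecker_mul,
        ← Matrix.mul_kronecker_mul, ← Matrix.mul_kronecker_mul, one_mul, one_mul, mul_one, neg_mul, hK2, neg_neg]
      ext p q
      simp [mul_neg, neg_mul]
      ring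
    rw [hgram] at hexp
    have g1 : Aᵀ * Pj * A + B'ᵀ * Pj * B' = Pj := by
      ext r s
      have := congrFun (congrFun hexp (r, 0)) (s, 0)
      simp [K₂, planeJ] at this ⊢
      revert this
      fin_cases r <;> fin_cases s <;> simp <;> intro this <;> linear_combination this
    have g2 : B'ᵀ * Pj * A = Aᵀ * Pj * B' := by
      ext r s
      have := congrFun (congrFun hexp (r, 0)) (s, 1)
      simp [K₂, planeJ] at this ⊢
      linear_combination -this
    have hskew : (Aᵀ * Pj * B')ᵀ = -(Aᵀ * Pj * B') := by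
      conv_rhs => rw [← g2]
      rw [Matrix.transpose_mul, Matrix.transpose_mul, Matrix.transpose_transpose,
        show Pjᵀ = -Pj from hK2t, neg_mul, mul_neg, mul_assoc]
    obtain ⟨t, ht⟩ : ∃ t : F, Aᵀ * Pj * B' = t • Pj := by
      set S := Aᵀ * Pj * B'
      refine ⟨S 0 1, Matrix.ext fun r s => ?_⟩
      have d0 := congrFun (congrFun hskew 0) 0
      have d1 := congrFun (congrFun hskew 1) 1
      have d2 := congrFun (congrFun hskew 0) 1
      simp only [Matrix.transpose_apply, Matrix.neg_apply] at d0 d1 d2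
      have z0 : S 0 0 = 0 := mul_left_cancel₀ h2 (by linear_combination d0)
      have z1 : S 1 1 = 0 := mul_left_cancel₀ h2 (by linear_combination d1)
      fin_cases r <;> fin_cases s <;> simp [planeJ, z0, z1, d2]
    have hPju : ∀ Z : Matrix (Fin 2) (Fin 2) F, Z.det ≠ 0 → IsUnit (Zᵀ * Pj).det := fun Z hZ => by
      rw [Matrix.det_mul, Matrix.det_transpose]
      refine (isUnit_iff_ne_zero.2 hZ).mul (isUnit_iff_ne_zero.2 ?_)
      simp [planeJ, Matrix.det_fin_two]
    -- split off a scalar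
    obtain ⟨A₁, C₁, l, hl, hCl, hMeq⟩ : ∃ (A₁ C₁ : Matrix (Fin 2) (Fin 2) F) (l : F), l ≠ 0 ∧
        C₁ᵀ * C₁ = l • 1 ∧ M = A₁ ⊗ₖ C₁ := by
      have hsim : ∀ a b : F, (a • (1 : Matrix (Fin 2) (Fin 2) F) + b • K₂)ᵀ * (a • 1 + b • K₂) = (a * a + b * b) • 1 := by
        intro a b
        simp only [Matrix.transpose_add, Matrix.transpose_smul, Matrix.transpose_one, hK2t, add_mul, mul_add,
          Matrix.smul_mul, Matrix.mul_smul, one_mul, mul_one, neg_mul, hK2, neg_neg, smul_neg, smul_smul]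
        module
      by_cases hB : B'.det = 0
      · have hA1 : A.det = 1 := by
          rw [planeJ_transform, planeJ_transform, hB, zero_smul, add_zero] at g1
          simpa [planeJ] using congrFun (congrFun g1 0) 1
        have hBA : B' = t • A := by
          have h4 : (Aᵀ * Pj) * B' = (Aᵀ * Pj) * (t • A) := by
            rw [ht, Matrix.mul_smul, planeJ_transform, hA1, one_smul]
          have h5 := congrArg ((Aᵀ * Pj)⁻¹ * ·) h4
          simpa only [Matrix.nonsing_inv_mul_cancel_left _ _ (hPju A (by rw [hA1]; exact one_ne_zero))] using h5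
        refine ⟨A, (1 : F) • 1 + t • K₂, _, fun h => hroot t (by linear_combination h), hsim 1 t, ?_⟩
        rw [hMd, hBA, Matrix.kronecker_add, one_smul, Matrix.smul_kronecker, Matrix.kronecker_smul]
      · have hAB : A = (t / B'.det) • B' := by
          have h4 : (B'ᵀ * Pj) * A = (B'ᵀ * Pj) * ((t / B'.det) • B') := by
            rw [g2, ht, Matrix.mul_smul, planeJ_transform, smul_smul, div_mul_cancel₀ _ hB]
          have h5 := congrArg ((B'ᵀ * Pj)⁻¹ * ·) h4
          simpa only [Matrix.nonsing_inv_mul_cancel_left _ _ (hPju B' hB)] using h5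
        set s := t / B'.det
        refine ⟨B', s • 1 + (1 : F) • K₂, _, fun h => hroot s (by linear_combination h), hsim s 1, ?_⟩
        rw [hMd, hAB, Matrix.kronecker_add, one_smul, Matrix.smul_kronecker, Matrix.kronecker_smul]
    have hMdet : M.det ≠ 0 := by
      intro h0
      have h4 : (y : Matrix Ix Ix F).det = 0 := by rw [← hM, AschFormTensor.pull_det, h0]
      exact (Matrix.isUnits_det_units y).ne_zero h4
    rw [hMeq, Matrix.det_kronecker, mul_ne_zero_iff] at hMdet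
    refine ⟨Matrix.GeneralLinearGroup.mkOfDetNeZero A₁ (fun h => hMdet.1 (by rw [h]; simp)),
      Matrix.GeneralLinearGroup.mkOfDetNeZero C₁ (fun h => hMdet.2 (by rw [h]; simp)), l, hl, hCl, ?_⟩
    rw [hgy]
    show P * y * P⁻¹ = P * kr _ * P⁻¹
    congr 2
    exact Units.ext (by rw [← hM, hMeq]; rfl)
  have hHN : H ≤ subgroupNormalizer R := by
    intro h hh
    obtain ⟨A, C, l, hl, hCl, rfl⟩ : ∃ (A C : GL (Fin 2) F) (l : F), l ≠ 0 ∧
        (C : Matrix (Fin 2) (Fin 2) F)ᵀ * (C : Matrix (Fin 2) (Fin 2) F) = l • 1 ∧ h = Φ (A, C) := by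
      have hc : conjAlg h i * conjAlg h i = -1 := by rw [← map_mul, hii, map_neg, map_one]
      rcases hpm (conjAlg h i) ((hle hh i).1 hi) hc with h4 | h4
      · exact hpure h (hH.1.le hh) h4
      · have hτS : Φ (1, τ) ∈ spGL 2 F := hΦsp 1 τ (by simp) hτO
        have hτi : conjAlg (Φ (1, τ)) i = -i := by
          have h5 : conjAlg (kr ((1 : GL (Fin 2) F), τ)) i₀ = -i₀ := by
            have h6 : ((kr ((1 : GL (Fin 2) F), τ) : GL Ix F) : Matrix Ix Ix F) * i₀ = -(i₀ * ((kr ((1 : GL (Fin 2) F), τ) : GL Ix F) : Matrix Ix Ix F)) := by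
              rw [kr_val, ← map_mul, ← map_mul, ← map_neg, ← Matrix.mul_kronecker_mul, ← Matrix.mul_kronecker_mul]
              show pull e4 (((1 : Matrix (Fin 2) (Fin 2) F) * 1) ⊗ₖ (τm * K₂)) = pull e4 (-((1 * 1) ⊗ₖ (K₂ * τm)))
              congr 1
              rw [hτK]
              ext p q
              simp
            rw [conjAlg_apply, h6, neg_mul, mul_assoc, Units.mul_inv, mul_one]
          rw [hiP, ← conjAlg_mul]
          show conjAlg (P * kr (1, τ) * P⁻¹ * P) i₀ = _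
          rw [inv_mul_cancel_right, conjAlg_mul, h5, map_neg]
        obtain ⟨A, C, l, hl, hCl, hg⟩ := hpure (h * Φ (1, τ)) ((spGL 2 F).mul_mem (hH.1.le hh) hτS)
          (by rw [conjAlg_mul, hτi, map_neg, h4, neg_neg])
        refine ⟨A, C * τ⁻¹, l, hl, ?_, ?_⟩
        · show ((C : Matrix (Fin 2) (Fin 2) F) * τm)ᵀ * ((C : Matrix (Fin 2) (Fin 2) F) * τm) = _
          rw [Matrix.transpose_mul, mul_assoc, ← mul_assoc (C : Matrix (Fin 2) (Fin 2) F)ᵀ, hCl, Matrix.smul_mul,
            one_mul, Matrix.mul_smul, hτt, hτ2]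
        · rw [eq_mul_inv_of_mul_eq hg, ← map_inv, ← map_mul]
          simp
    refine normalizer_of_maps ?_
    rintro _ ⟨⟨a, c⟩, ⟨ha, hc⟩, rfl⟩
    rw [← map_mul, ← map_inv, ← map_mul]
    refine ⟨_, ⟨hQn A a ha, ?_⟩, rfl⟩
    show ((C * c * C⁻¹ : GL (Fin 2) F) : Matrix (Fin 2) (Fin 2) F)ᵀ * _ = 1
    have hc' : (c : Matrix (Fin 2) (Fin 2) F)ᵀ * (c : Matrix (Fin 2) (Fin 2) F) = 1 := hc
    show ((C * c * C⁻¹ : GL (Fin 2) F) : Matrix (Fin 2) (Fin 2) F)ᵀ * ((C * c * C⁻¹ : GL (Fin 2) F) : Matrix (Fin 2) (Fin 2) F) = 1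
    rw [Units.val_mul, Units.val_mul, Matrix.transpose_mul, Matrix.transpose_mul]
    set Cm := (C : Matrix (Fin 2) (Fin 2) F)
    set Ci := ((C⁻¹ : GL (Fin 2) F) : Matrix (Fin 2) (Fin 2) F)
    set cm := (c : Matrix (Fin 2) (Fin 2) F)
    calc Ciᵀ * (cmᵀ * Cmᵀ) * (Cm * cm * Ci) = Ciᵀ * (cmᵀ * (Cmᵀ * Cm) * cm) * Ci := by simp only [mul_assoc]
      _ = Ciᵀ * (Cmᵀ * Cm) * Ci := by
          rw [hCl, Matrix.mul_smul, Matrix.smul_mul, mul_one, hc']
      _ = (Cm * Ci)ᵀ * (Cm * Ci) := by rw [Matrix.transpose_mul]; simp only [mul_assoc]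
      _ = 1 := by rw [Units.mul_inv, Matrix.transpose_one, one_mul]
  -- an element of the normaliser outside the subgroup
  have hHeq := eq_of_maximal hH hHN (sp_not_le_normalizer le_rfl h2 hRabs
    (fun r hr => ⟨1, fun u v => by rw [Units.val_one, one_mul]; exact hRsp hr u v⟩) hRsq)
  obtain ⟨a, ha, has⟩ : ∃ a ∈ Q, a ∉ scalars (Fin 2) F := by
    by_contra hall
    push Not at hall
    obtain ⟨c, hc⟩ := (AschFormPower.absIrred_of_adjoin hQs).commutant (M := Pj) fun s hs => by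
      obtain ⟨u, hu⟩ := (mem_scalars_iff _).1 (hall s hs)
      simp [hu]
    simpa [planeJ] using congrFun (congrFun hc 0) 1
  obtain ⟨u, hu⟩ := (mem_scalars_iff _).1 (hQsq a ha)
  have haa : (a : Matrix (Fin 2) (Fin 2) F) * (a : Matrix (Fin 2) (Fin 2) F) = -1 := by
    have htr := trace_eq_zero (AschFormPower.absIrred_of_adjoin hQs) hQ2 ha has
    have hd := hQd a ha
    rw [Matrix.det_fin_two] at hd
    rw [Matrix.trace_fin_two] at htr
    ext r s
    fin_cases r <;> fin_cases s <;> simp [Matrix.mul_apply, Fin.sum_univ_two]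
    · linear_combination -hd + (a : Matrix (Fin 2) (Fin 2) F) 0 0 * htr
    · linear_combination (a : Matrix (Fin 2) (Fin 2) F) 0 1 * htr
    · linear_combination (a : Matrix (Fin 2) (Fin 2) F) 1 0 * htr
    · linear_combination -hd + (a : Matrix (Fin 2) (Fin 2) F) 1 1 * htr
  have haJ : (a : Matrix (Fin 2) (Fin 2) F)ᵀ * Pj = -(Pj * (a : Matrix (Fin 2) (Fin 2) F)) := by
    have h4 := congrArg (· * (a : Matrix (Fin 2) (Fin 2) F)) (planeJ_transform (a : Matrix (Fin 2) (Fin 2) F))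
    simp only [hQd a ha, one_smul, mul_assoc, haa, mul_neg, mul_one] at h4
    rw [← h4, neg_neg]
  -- the standard elements
  set x₂ : GL Ix F := kr (a, τ) with hx2
  set x₁ : GL Ix F := kr (a, τ * κ) with hx1
  have hτKτ : (τm * K₂) * (τm * K₂) = 1 := by
    conv_lhs => arg 2; rw [hτK]
    rw [mul_neg, mul_assoc, ← mul_assoc K₂, hK2, neg_one_mul, mul_neg, neg_neg, hτ2]
  have v2 : (x₂ : Matrix Ix Ix F) = pull e4 ((a : Matrix (Fin 2) (Fin 2) F) ⊗ₖ τm) := rfl
  have v1 : (x₁ : Matrix Ix Ix F) = pull e4 ((a : Matrix (Fin 2) (Fin 2) F) ⊗ₖ (τm * K₂)) := rfl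
  let R₀ : Subgroup (GL Ix F) := (Q.prod O).map kr
  have hR₀sq : ∀ r ∈ R₀, r * r ∈ scalars Ix F := by
    rintro r ⟨p, hp, rfl⟩
    have h4 := hRsq (Φ p) ⟨p, hp, rfl⟩
    obtain ⟨w, hw⟩ := (mem_scalars_iff _).1 h4
    refine mem_scalars_of_comm (c := (w : F)) ((conjAlg P).injective ?_)
    rw [map_smul, map_one, ← hw, ← map_mul Φ, ← map_mul kr]
    exact (hΦ _).symm
  have hneg1 : ∀ X : Matrix (Fin 2) (Fin 2) F, (-1 : Matrix (Fin 2) (Fin 2) F) ⊗ₖ X = -((1 : Matrix (Fin 2) (Fin 2) F) ⊗ₖ X) :=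
    fun X => by ext p q; simp
  obtain ⟨g, hgS, hgN, hgz⟩ := moving_element h3 hR₀sq (x₁ := x₁) (x₂ := x₂)
    ⟨(a, τ * κ), ⟨ha, O.mul_mem hτO hκO⟩, rfl⟩ ⟨(a, τ), ⟨ha, hτO⟩, rfl⟩
    (by rw [v1, ← map_mul, ← Matrix.mul_kronecker_mul, haa, hτKτ, hneg1, Matrix.one_kronecker_one, map_neg, map_one])
    (by rw [v2, ← map_mul, ← Matrix.mul_kronecker_mul, haa, hτ2, hneg1, Matrix.one_kronecker_one, map_neg, map_one])
    (by
      rw [v1, v2, ← map_mul, ← map_mul, ← map_neg, ← Matrix.mul_kronecker_mul, ← Matrix.mul_kronecker_mul, haa,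
        hneg1, hneg1, neg_neg]
      congr 1
      rw [← mul_assoc, hτ2, one_mul, hτK, neg_mul, mul_assoc, hτ2, mul_one]
      ext p q; simp)
    (by
      rw [v1, omega_eq, AschFormTensor.pull_transpose, ← map_mul, ← map_mul, ← map_neg,
        ← Matrix.kroneckerMap_transpose, ← Matrix.mul_kronecker_mul, ← Matrix.mul_kronecker_mul, Matrix.transpose_mul,
        hτt, hK2t, mul_neg, haJ, neg_mul, neg_mul, mul_one, one_mul, hτK, neg_neg]
      congr 1
      ext p q; simp)
    (by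
      rw [v2, omega_eq, AschFormTensor.pull_transpose, ← map_mul, ← map_mul, ← map_neg,
        ← Matrix.kroneckerMap_transpose, ← Matrix.mul_kronecker_mul, ← Matrix.mul_kronecker_mul, hτt, mul_neg, haJ,
        neg_neg, neg_mul, mul_one, one_mul]
      congr 1
      ext p q; simp)
  have hz : (x₁ : Matrix Ix Ix F) * (x₂ : Matrix Ix Ix F) = i₀ := by
    rw [v1, v2, ← map_mul, ← Matrix.mul_kronecker_mul, haa, hneg1]
    show pull e4 _ = pull e4 _
    congr 1
    rw [hτK, neg_mul, mul_assoc, hτ2, mul_one]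
    ext p q; simp
  rw [hz] at hgz
  have hG : P * g * P⁻¹ ∈ H := by
    rw [hHeq]
    refine ⟨normalizer_of_maps ?_, (spGL 2 F).mul_mem ((spGL 2 F).mul_mem hP hgS) ((spGL 2 F).inv_mem hP)⟩
    rintro _ ⟨p, hp, rfl⟩
    obtain ⟨q, hq, hqe⟩ := (Subgroup.mem_normalizer_iff.1 hgN (kr p)).1 ⟨p, hp, rfl⟩
    refine ⟨q, hq, ?_⟩
    show P * kr q * P⁻¹ = P * g * P⁻¹ * (P * kr p * P⁻¹) * (P * g * P⁻¹)⁻¹
    rw [hqe]
    group
  have hiG := (hle hG i).1 hi
  have h4 : conjAlg (P * g * P⁻¹) i = conjAlg P (x₁ : Matrix Ix Ix F) := by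
    rw [hiP, ← conjAlg_mul, inv_mul_cancel_right, conjAlg_mul]
    congr 1
    rw [conjAlg_apply, hgz, mul_assoc, Units.mul_inv, mul_one]
  rw [← conjAlg_apply, h4] at hiG
  obtain ⟨c, d, hcd⟩ := hspan i hi his _ hiG
  have hcm : (x₁ : Matrix Ix Ix F) * i₀ = i₀ * (x₁ : Matrix Ix Ix F) := by
    apply (conjAlg P).injective
    rw [map_mul, map_mul, ← hiP]
    exact hK.comm _ hiG _ hi
  rw [v1, ← map_mul, ← map_mul, ← Matrix.mul_kronecker_mul, ← Matrix.mul_kronecker_mul, mul_one, one_mul] at hcm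
  have h5 := pull_injective e4 hcm
  obtain ⟨r, s, hrs⟩ : ∃ r s, (a : Matrix (Fin 2) (Fin 2) F) r s ≠ 0 := by
    by_contra hall
    push Not at hall
    have h6 : (a : Matrix (Fin 2) (Fin 2) F) = 0 := Matrix.ext hall
    simpa [h6] using hQd a ha
  have h6 := congrFun (congrFun h5 (r, 0)) (s, 0)
  simp [τm, K₂, planeJ, Matrix.mul_apply, Fin.sum_univ_two] at h6
  exact hrs (mul_left_cancel₀ h2 (by linear_combination -h6))

end Cfsg.Agent.AschCase.Sp4
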