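/-
Dimension case lists: the maximal subgroups of the special unitary group in dimension at least five.
-/
import Cfsg.Agent.Lib.AschCaseExcl
import Cfsg.Agent.Lib.AschCaseClassical

set_option autoImplicit false
set_option linter.unusedSectionVars false

namespace Cfsg.Agent.AschCase

open scoped Matrix Kronecker
open Cfsg Cfsg.Geo Cfsg.Agent.AschPrimeBasic Cfsg.Agent.AschGenExtra

variable {n : ℕ} {F : Type*} [Field F] [Fintype F] {q : ℕ}

lemma two_le_q (hF : Fintype.card F = q ^ 2) : 2 ≤ q := by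
  have h1 := Fintype.one_lt_card (α := F)
  rw [hF] at h1
  rcases Nat.lt_or_ge q 2 with h | h
  · interval_cases q <;> simp at h1
  · exact h

lemma subfield_ne_top {F₀ : Subfield F} {r : ℕ} (hr : 2 ≤ r) (hcard : Fintype.card F = Nat.card F₀ ^ r) :
    F₀ ≠ ⊤ := by
  rintro rfl
  rw [Nat.card_congr (Subfield.topEquiv (K := F)).toEquiv, Nat.card_eq_fintype_card] at hcard
  exact (lt_self_pow₀ Fintype.one_lt_card (by omega)).ne hcard

/-- the geometric possibilities for a maximal subgroup of SU in dimension at least five -/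
def SUList (n : ℕ) (F : Type*) [Field F] [Fintype F] (q : ℕ) (H : Subgroup (GL (Fin n) F)) : Prop :=
  let f := hermForm n F q
  let S := Cfsg.GU n F q ⊓ specialLinear (Fin n) F
  (∃ W : Submodule F (Fin n → F), W ≠ ⊥ ∧ IsTotallySingularFor f W ∧ H = subspaceStabilizer W ⊓ S) ∨
  (∃ W : Submodule F (Fin n → F), W ≠ ⊥ ∧ IsNondegenerateOn f W ∧ 2 * Module.finrank F W < n ∧
      H = subspaceStabilizer W ⊓ S) ∨
  (∃ (t k : ℕ) (D : Fin t → Submodule F (Fin n → F)), t * k = n ∧ 2 ≤ t ∧ 1 ≤ k ∧ (k = 2 → 3 ≤ q) ∧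
      IsNondegenerateMDecomposition f k D ∧ H = decompositionStabilizer D ⊓ S) ∨
  (∃ (k : ℕ) (D : Fin 2 → Submodule F (Fin n → F)), 2 * k = n ∧ IsMDecomposition k D ∧
      (∀ i, IsTotallySingularFor f (D i)) ∧ H = decompositionStabilizer D ⊓ S) ∨
  (∃ (F₀ : Subfield F) (r : ℕ) (P : GL (Fin n) F), r.Prime ∧ Odd r ∧ Fintype.card F = Nat.card F₀ ^ r ∧
      IsFormRationalStructure f F₀ 1 P ∧ H = subfieldSubgroup F₀ P ⊓ S) ∨
  (∃ (F₀ : Subfield F) (P : GL (Fin n) F), Odd q ∧ Fintype.card F = Nat.card F₀ ^ 2 ∧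
      IsFormRationalStructure f F₀ 1 P ∧ H = subfieldSubgroup F₀ P ⊓ S) ∨
  (∃ (F₀ : Subfield F) (P : GL (Fin n) F) (ζ : F), Even n ∧ Fintype.card F = Nat.card F₀ ^ 2 ∧ ζ ≠ 0 ∧
      ζ + ζ ^ q = 0 ∧ IsFormRationalStructure f F₀ ζ P ∧
      (∀ u : Fin n → F, (∀ i, u i ∈ F₀) → f ((P : Matrix (Fin n) (Fin n) F) *ᵥ u) ((P : Matrix (Fin n) (Fin n) F) *ᵥ u) = 0) ∧
      H = subfieldSubgroup F₀ P ⊓ S) ∨
  (∃ (r : ℕ) (R : Subgroup (GL (Fin n) F)) (p e k : ℕ), IsSymplecticTypeGroup r R ∧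
      ActsAbsolutelyIrreducibly (matrixSet R) ∧ R ≤ similarityGroup f ∧ r ≠ p ∧
      IsMinimalFieldFor (Nat.card (Subgroup.center R)) p e F ∧ n = r ^ k ∧
      ((Odd r ∧ Nat.card (Subgroup.center R) = r ∧ Nat.card R = r ^ (1 + 2 * k)) ∨
       (r = 2 ∧ e = 2 ∧ Nat.card (Subgroup.center R) = 4 ∧ Nat.card R = 2 ^ (2 + 2 * k))) ∧
      H = subgroupNormalizer R ⊓ S) ∨
  (∃ (r : ℕ) (K : Subalgebra F (Matrix (Fin n) (Fin n) F)), r.Prime ∧ Odd r ∧ r ∣ n ∧ IsFieldSubalgebra r K ∧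
      IsAdjointClosedFor f K ∧ H = subalgebraNormalizer K ⊓ S) ∨
  (∃ (n₁ n₂ : ℕ) (e : Fin n ≃ Fin n₁ × Fin n₂) (P : GL (Fin n) F)
      (f₁ : (Fin n₁ → F) → (Fin n₁ → F) → F) (f₂ : (Fin n₂ → F) → (Fin n₂ → F) → F),
      n₁ * n₂ = n ∧ 2 ≤ n₁ ∧ n₁ < n₂ ∧ (n₁ = 2 → 3 ≤ q) ∧ IsUnitaryFormPow q f₁ ∧ IsUnitaryFormPow q f₂ ∧
      IsTensorFormStructure (fun x : F => x ^ q) f f₁ f₂ e P ∧ H = tensorProductSubgroup n₁ n₂ e P ⊓ S) ∨
  (∃ (k t : ℕ) (e : Fin n ≃ (Fin t → Fin k)) (P : GL (Fin n) F) (f₁ : (Fin k → F) → (Fin k → F) → F),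
      k ^ t = n ∧ 3 ≤ k ∧ 2 ≤ t ∧ (k = 3 → 3 ≤ q) ∧ IsUnitaryFormPow q f₁ ∧
      IsTensorPowerFormStructure (fun x : F => x ^ q) f f₁ e P ∧ H = tensorWreathSubgroup k t e P ⊓ S) ∨
  InUnitaryResidualClass H

lemma decomposition_count {ι : Type} [Fintype ι] [DecidableEq ι] {t k : ℕ}
    {D : Fin t → Submodule F (ι → F)} (hD : IsMDecomposition k D) : t * k = Fintype.card ι :=
  AschFormImprim.finrank_mDecomposition hD

lemma su_not_le_decomposition (hF : Fintype.card F = q ^ 2) (hn : 4 ≤ n) {t k : ℕ}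
    {D : Fin t → Submodule F (Fin n → F)} (hD : IsMDecomposition k D) :
    ¬ Cfsg.GU n F q ⊓ specialLinear (Fin n) F ≤ decompositionStabilizer D := by
  by_cases hk : 2 ≤ k
  · exact (su_transvected hF hn).not_le_decomposition hD hk
  obtain rfl : k = 1 := by have := hD.pos; omega
  have ht : Fintype.card (Fin n) = t := by have := decomposition_count hD; omega
  intro h
  refine AschPrimeUnitaryProper.su_not_le_lines hF hn (AschPrimeLinear.isMDecomposition_cast ht hD) ?_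
  rw [AschPrimeLinear.decompositionStabilizer_cast]
  exact h

/-- every maximal subgroup of SU in dimension at least five is on the list -/
theorem su_list (hF : Fintype.card F = q ^ 2) (hn : 5 ≤ n) {H : Subgroup (GL (Fin n) F)}
    (hH : IsMaximalIn (Cfsg.GU n F q ⊓ specialLinear (Fin n) F) H) : SUList n F q H := by
  haveI : Nonempty (Fin n) := ⟨⟨0, by omega⟩⟩
  have hq := two_le_q hF
  have hΩ := su_transvected (n := n) hF (by omega)
  have hn3 : 3 ≤ Fintype.card (Fin n) := by rw [Fintype.card_fin]; omega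
  have hGU : H ≤ Cfsg.GU n F q := hH.1.le.trans inf_le_left
  rcases AschFormUnit.unit_fine hF (by omega) hGU with ⟨M, hM, hle'⟩ | hres
  swap
  · exact Or.inr (Or.inr (Or.inr (Or.inr (Or.inr (Or.inr (Or.inr (Or.inr (Or.inr (Or.inr (Or.inr hres))))))))))
  have dec : ∀ (t k : ℕ) (D : Fin t → Submodule F (Fin n → F)),
      IsNondegenerateMDecomposition (hermForm n F q) k D → H ≤ decompositionStabilizer D → SUList n F q H := by
    intro t k D hD hle
    have hcount : t * k = n := by have := decomposition_count hD.decomp; rwa [Fintype.card_fin] at this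
    by_cases h22 : k = 2 ∧ q = 2
    · obtain ⟨rfl, hq2⟩ := h22
      obtain ⟨D', hD', hle'⟩ := unit_planes_lines hF hq2 hGU hD hle
      exact Or.inr (Or.inr (Or.inl ⟨n, 1, D', mul_one n, by omega, le_rfl, by omega, hD',
        eq_of_maximal hH hle' (su_not_le_decomposition hF (by omega) hD'.decomp)⟩))
    · exact Or.inr (Or.inr (Or.inl ⟨t, k, D, hcount, hD.decomp.two_le, hD.decomp.pos,
        fun h => by rcases Nat.lt_or_ge q 3 with h' | h'; exact absurd ⟨h, by omega⟩ h22; exact h', hD,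
        eq_of_maximal hH hle (su_not_le_decomposition hF (by omega) hD.decomp)⟩))
  rcases hM with (⟨W, hb, hts, rfl⟩ | ⟨W, hb, hnd, hsm, rfl⟩ | ⟨t, k, D, hD, rfl⟩ | ⟨k, D, hk, hD, hts, rfl⟩ |
      ⟨F₀, r, P, hr, hro, hc, hrat, rfl⟩ | ⟨F₀, P, hodd, hc, hrat, rfl⟩ |
      ⟨F₀, P, ζ, hev, hc, hζ, hζ', hrat, hts, rfl⟩ | ⟨r, R, p, e, k, hR, habs, hsim, hrp, hmin, h2, hnk, hcase, rfl⟩) |
      ⟨r, K, hr, hro, hK, hadj, rfl⟩ | ⟨n₁, n₂, e, P, f₁, f₂, h1, h12, hf₁, hf₂, hT, rfl⟩ |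
      ⟨k, t, e, P, f₁, hk, ht, hexc, hf₁, hT, rfl⟩ <;>
    have hle := hle'.trans inf_le_left
  · have ht : W ≠ ⊤ := fun h => by
      subst h
      have := hts (Pi.single ⟨0, by omega⟩ 1) trivial (Pi.single ⟨0, by omega⟩ 1) trivial
      rw [OrthUnitaryHerm.herm_single_right hF] at this
      simp at this
    exact Or.inl ⟨W, hb, hts, eq_of_maximal hH hle (hΩ.not_le_subspace hb ht)⟩
  · have ht : W ≠ ⊤ := fun h => by
      subst h
      rw [finrank_top, Module.finrank_pi, Fintype.card_fin] at hsm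
      omega
    exact Or.inr (Or.inl ⟨W, hb, hnd, hsm, eq_of_maximal hH hle (hΩ.not_le_subspace hb ht)⟩)
  · exact dec t k D hD hle
  · exact Or.inr (Or.inr (Or.inr (Or.inl ⟨k, D, hk, hD, hts,
      eq_of_maximal hH hle (su_not_le_decomposition hF (by omega) hD)⟩)))
  · exact Or.inr (Or.inr (Or.inr (Or.inr (Or.inl ⟨F₀, r, P, hr, hro, hc, hrat, eq_of_maximal hH hle
      (AschPrimeUnitaryProper.su_not_le_subfieldSubgroup hF (by omega) (subfield_ne_top hr.two_le hc) P)⟩))))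
  · exact Or.inr (Or.inr (Or.inr (Or.inr (Or.inr (Or.inl ⟨F₀, P, hodd, hc, hrat, eq_of_maximal hH hle
      (AschPrimeUnitaryProper.su_not_le_subfieldSubgroup hF (by omega) (subfield_ne_top le_rfl hc) P)⟩)))))
  · exact Or.inr (Or.inr (Or.inr (Or.inr (Or.inr (Or.inr (Or.inl ⟨F₀, P, ζ, hev, hc, hζ, hζ', hrat, hts,
      eq_of_maximal hH hle
      (AschPrimeUnitaryProper.su_not_le_subfieldSubgroup hF (by omega) (subfield_ne_top le_rfl hc) P)⟩))))))
  · refine Or.inr (Or.inr (Or.inr (Or.inr (Or.inr (Or.inr (Or.inr (Or.inl ⟨r, R, p, e, k, hR, habs, hsim, hrp, hmin,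
      hnk, hcase.imp (fun h => ⟨h.1, h.2.1, h.2.2.2⟩) id, eq_of_maximal hH hle
      (hΩ.not_le_normalizer (by rw [Fintype.card_fin]; omega) habs h2)⟩)))))))
  · exact Or.inr (Or.inr (Or.inr (Or.inr (Or.inr (Or.inr (Or.inr (Or.inr (Or.inl ⟨r, K, hr, hro,
      by simpa using AschGenLinear.field_degree_dvd hK, hK, hadj,
      eq_of_maximal hH hle (hΩ.not_le_algebra hn3 hr.two_le hK)⟩))))))))
  · have hmul : n₁ * n₂ = n := by simpa using (Fintype.card_congr e).symm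
    by_cases h22 : n₁ = 2 ∧ q = 2
    · obtain ⟨rfl, hq2⟩ := h22
      obtain ⟨D, hD, hle'⟩ := unit_tensor_two hF hq2 hGU (by omega) hf₁ hT hle
      exact dec _ _ D hD hle'
    · exact Or.inr (Or.inr (Or.inr (Or.inr (Or.inr (Or.inr (Or.inr (Or.inr (Or.inr (Or.inl ⟨n₁, n₂, e, P, f₁, f₂,
        hmul, h1, h12, fun h => by rcases Nat.lt_or_ge q 3 with h' | h'; exact absurd ⟨h, by omega⟩ h22; exact h',
        hf₁, hf₂, hT, eq_of_maximal hH hle (hΩ.not_le_tensor h1 (by omega) e P)⟩)))))))))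
  · exact Or.inr (Or.inr (Or.inr (Or.inr (Or.inr (Or.inr (Or.inr (Or.inr (Or.inr (Or.inr (Or.inl ⟨k, t, e, P, f₁,
      by simpa using (Fintype.card_congr e).symm, hk, ht,
      fun h => by rcases Nat.lt_or_ge q 3 with h' | h'; exact absurd ⟨by omega, h⟩ hexc; exact h',
      hf₁, hT, eq_of_maximal hH hle (hΩ.not_le_wreath (by omega) ht (Or.inl hk) e P)⟩))))))))))

lemma prime_eq_of_dvd_pow {r s k n : ℕ} (hr : r.Prime) (hs : s.Prime) (hn : n = r ^ k) (hd : s ∣ n) : r = s :=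
  ((Nat.prime_dvd_prime_iff_eq hs hr).1 (hs.dvd_of_dvd_pow (hn ▸ hd))).symm

lemma symplecticType_prime {n r : ℕ} {F : Type*} [Field F] {R : Subgroup (GL (Fin n) F)}
    (h : IsSymplecticTypeGroup r R) : r.Prime := h.1

/-- the degree over the prime field is even for a field of square order -/
lemma sq_eq_pow {q p e : ℕ} (hp : p.Prime) (h : q ^ 2 = p ^ e) : ∃ f, e = 2 * f ∧ q = p ^ f := by
  obtain ⟨f, -, rfl⟩ := (Nat.dvd_prime_pow hp).1 (Dvd.intro_left _ (by rw [← h]; ring) : q ∣ p ^ e)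
  rw [← pow_mul] at h
  exact ⟨f, by have := Nat.pow_right_injective hp.two_le h; omega, rfl⟩

/-- the exponents of a class-six group over a field of square order -/
lemma minimal_two {F : Type*} [Field F] [Fintype F] {q p e z : ℕ} (hF : Fintype.card F = q ^ 2)
    (hmin : IsMinimalFieldFor z p e F) (he : e ≤ 2) : q = p ∧ z ∣ p ^ 2 - 1 ∧ ¬ z ∣ p - 1 := by
  obtain ⟨hp, -, hcard, hdvd, hm⟩ := hmin
  obtain ⟨f, rfl, hqf⟩ := sq_eq_pow hp (hF ▸ hcard)
  have hf : f ≠ 0 := fun h => by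
    subst h
    have := Fintype.one_lt_card (α := F)
    rw [hcard] at this
    simp at this
  obtain rfl : f = 1 := by omega
  exact ⟨by rw [hqf, pow_one], hdvd, fun h => hm 1 one_pos (by norm_num) (by rw [pow_one]; exact h)⟩

end Cfsg.Agent.AschCase
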