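/-
The commutator subgroup of an orthogonal group in dimension at least seven lies in none of the
geometric subgroups: short proofs from its singular root elements.
-/
import Cfsg.Agent.Lib.OmegaGeo
import Cfsg.Agent.Lib.QuadClassify
import Cfsg.Agent.Lib.AschPrimeBasic
import Cfsg.Agent.Lib.AschPrimeCore
import Cfsg.Agent.Lib.AschCaseProper

set_option autoImplicit false
set_option linter.unusedSectionVars false

namespace Cfsg.Agent.AschEvenProper44

open QuadraticMap Module
open Cfsg.Agent.OrthUnitaryPrelude Cfsg.Agent.OrthUnitaryQuad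
open scoped Matrix Kronecker
open Cfsg Cfsg.Geo Cfsg.Agent.AschPrimeBasic Cfsg.Agent.AschGenAlgebra

variable {ι : Type} [Fintype ι] [DecidableEq ι] {F : Type*} [Field F] [Fintype F]
  {q : QuadraticForm F (ι → F)}

/-- the root elements lie in the commutator subgroup -/
lemma exists_root (hnd : (polarBilin q).Nondegenerate) (hn : 7 ≤ Fintype.card ι) {u w : ι → F}
    (hu : q u = 0) (hw : q w = 0) (huw : polar q u w = 0) :
    ∃ g ∈ omegaGL ⇑q, ∀ x : ι → F,
      (g : Matrix ι ι F) *ᵥ x = x + (polar q w x • u - polar q u x • w) := by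
  obtain ⟨k, hk, hact⟩ := OmegaGeo.exists_siegel hnd (by rw [Module.finrank_pi]; omega) hu hw
    ((polar_comm _ w u).trans huw)
  exact ⟨OmegaGeo.toGL q k, OmegaGeo.toGL_mem hk, fun x => by
    rw [OmegaGeo.toGL_mulVec, hact]; abel⟩

/-- a singular vector paired with a given one and orthogonal to a given subspace -/
lemma exists_dual (hnd : (polarBilin q).Nondegenerate) {a b : ι → F} (ha : q a = 0)
    (hab : a ∉ Submodule.span F {b}) (hperp : polar q b a = 0) :
    ∃ f, q f = 0 ∧ polar q a f = 1 ∧ polar q b f = 0 := by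
  obtain ⟨f, hf, h1, h2⟩ := OmegaGeo.exists_sing_dual hnd (S := Submodule.span F {b}) ha hab
    fun s hs => by
      obtain ⟨c, rfl⟩ := Submodule.mem_span_singleton.1 hs
      rw [polar_smul_left, hperp, smul_zero]
  exact ⟨f, hf, h1, h2 b (Submodule.mem_span_singleton_self b)⟩

/-- a singular vector orthogonal to two given ones -/
lemma exists_perp (hn : 7 ≤ Fintype.card ι) (a b : ι → F) :
    ∃ z, z ≠ 0 ∧ q z = 0 ∧ polar q a z = 0 ∧ polar q b z = 0 := by
  set U : Submodule F (ι → F) := (⊤ ⊓ LinearMap.ker (polarBilin q a)) ⊓ LinearMap.ker (polarBilin q b)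
  have h1 := QuadClassify.finrank_ker_inf (⊤ : Submodule F (ι → F)) (polarBilin q a)
  have h2 := QuadClassify.finrank_ker_inf
    ((⊤ : Submodule F (ι → F)) ⊓ LinearMap.ker (polarBilin q a)) (polarBilin q b)
  rw [finrank_top, Module.finrank_pi] at h1
  obtain ⟨z, hz, hz0, hQz⟩ := QuadClassify.exists_singular q U (by
    show 3 ≤ finrank F ↥((⊤ ⊓ LinearMap.ker (polarBilin q a)) ⊓ LinearMap.ker (polarBilin q b))
    omega)
  exact ⟨z, hz0, hQz, hz.1.2, hz.2⟩

/-- every vector is a sum of singular vectors -/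
lemma mem_of_singular (hnd : (polarBilin q).Nondegenerate) (hn : 7 ≤ Fintype.card ι)
    {W : Submodule F (ι → F)} (h : ∀ u, q u = 0 → u ∈ W) : W = ⊤ := by
  obtain ⟨e, he0, he, -, -⟩ := exists_perp (q := q) hn 0 0
  refine eq_top_iff.2 fun z _ => ?_
  obtain ⟨z₁, z₂, z₃, h₁, h₂, h₃, rfl⟩ :=
    OrthUnitarySimple.exists_three_singular (OrthUnitaryOmega.isReg_of_nondegenerate hnd) he he0 z
  exact W.add_mem (W.add_mem (h _ h₁) (h _ h₂)) (h _ h₃)

/-- the commutator subgroup is irreducible -/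
theorem omega_irred (hnd : (polarBilin q).Nondegenerate) (hn : 7 ≤ Fintype.card ι) :
    Irred (omegaGL ⇑q) := by
  intro W hW
  refine or_iff_not_imp_left.2 fun hb => ?_
  have hstep : ∀ x ∈ W, ∀ u w, q u = 0 → q w = 0 → polar q u w = 0 →
      polar q w x • u - polar q u x • w ∈ W := by
    intro x hx u w hu hw huw
    obtain ⟨g, hg, hact⟩ := exists_root hnd hn hu hw huw
    have h1 := hW g hg x hx
    rw [hact] at h1
    exact (W.add_mem_iff_right hx).1 h1
  obtain ⟨x, hx, hx0⟩ := (Submodule.ne_bot_iff W).1 hb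
  -- a singular vector inside
  obtain ⟨w₀, hw₀W, hw₀, hw₀0⟩ : ∃ w₀ ∈ W, q w₀ = 0 ∧ w₀ ≠ 0 := by
    obtain ⟨u, hu, hux⟩ : ∃ u, q u = 0 ∧ polar q u x ≠ 0 := by
      by_contra h
      push Not at h
      have := mem_of_singular hnd hn (W := LinearMap.ker ((polarBilin q).flip x)) fun u hu => h u hu
      exact hx0 (hnd.2 x fun y => by
        have hy : y ∈ LinearMap.ker ((polarBilin q).flip x) := this ▸ Submodule.mem_top
        exact hy)
    obtain ⟨w, hw0, hw, huw, hxw⟩ := exists_perp (q := q) hn u x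
    have h1 := hstep x hx u w hu hw huw
    rw [(polar_comm _ w x).trans hxw, zero_smul, zero_sub] at h1
    exact ⟨w, (W.smul_mem_iff hux).1 (W.neg_mem_iff.1 h1), hw, hw0⟩
  -- orthogonal singular vectors
  have horth : ∀ z ∈ W, q z = 0 → z ≠ 0 → ∀ u, q u = 0 → polar q u z = 0 → u ∈ W := by
    intro z hz hQz hz0 u hu huz
    by_cases hd : z ∈ Submodule.span F {u}
    · obtain ⟨c, hc⟩ := Submodule.mem_span_singleton.1 hd
      have hc0 : c ≠ 0 := fun h => hz0 (by rw [← hc, h, zero_smul])
      exact (W.smul_mem_iff hc0).1 (hc ▸ hz)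
    obtain ⟨w, hw, hzw, huw⟩ := exists_dual hnd hQz hd huz
    have h1 := hstep z hz u w hu hw huw
    rwa [(polar_comm _ w z).trans hzw, one_smul, huz, zero_smul, sub_zero] at h1
  refine mem_of_singular hnd hn fun u hu => ?_
  obtain ⟨z, hz0, hz, huz, hwz⟩ := exists_perp (q := q) hn u w₀
  exact horth z (horth w₀ hw₀W hw₀ hw₀0 z hz ((polar_comm _ z w₀).trans hwz)) hz hz0 u hu huz

/-- only scalars commute with all root elements -/
theorem scalar_of_comm (hnd : (polarBilin q).Nondegenerate) (hn : 7 ≤ Fintype.card ι)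
    {M : Matrix ι ι F} (hM : ∀ u w, q u = 0 → q w = 0 → polar q u w = 0 → ∀ x : ι → F,
      M *ᵥ (polar q w x • u - polar q u x • w) = polar q w (M *ᵥ x) • u - polar q u (M *ᵥ x) • w) :
    ∃ c : F, M = c • (1 : Matrix ι ι F) := by
  have himg : ∀ u w, q u = 0 → q w = 0 → polar q u w = 0 → w ∉ Submodule.span F {u} →
      M *ᵥ u ∈ Submodule.span F {u, w} := by
    intro u w hu hw huw hd
    obtain ⟨x, -, hwx, hux⟩ := exists_dual hnd hw hd huw
    have h1 := hM u w hu hw huw x
    rw [hwx, hux, one_smul, zero_smul, sub_zero] at h1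
    rw [h1]
    exact Submodule.sub_mem _ (Submodule.smul_mem _ _ (Submodule.subset_span (by simp)))
      (Submodule.smul_mem _ _ (Submodule.subset_span (by simp)))
  have heig : ∀ u, q u = 0 → u ≠ 0 → ∃ c : F, M *ᵥ u = c • u := by
    intro u hu hu0
    obtain ⟨y, -, huy, -⟩ := exists_dual hnd (b := 0) hu
      (by simpa using hu0) (by simp)
    obtain ⟨w, hw0, hw, huw, hyw⟩ := exists_perp (q := q) hn u y
    have hd : w ∉ Submodule.span F {u} := by
      intro h
      obtain ⟨c, rfl⟩ := Submodule.mem_span_singleton.1 h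
      rw [polar_smul_right, (polar_comm _ y u).trans huy, smul_eq_mul, mul_one] at hyw
      exact hw0 (by rw [hyw, zero_smul])
    obtain ⟨w', hw', hww', huw'⟩ := exists_dual hnd hw hd huw
    have hd' : w' ∉ Submodule.span F {u} := by
      intro h
      obtain ⟨c, rfl⟩ := Submodule.mem_span_singleton.1 h
      rw [polar_smul_right, (polar_comm _ w u).trans huw, smul_zero] at hww'
      exact zero_ne_one hww'
    obtain ⟨a, b, hab⟩ := Submodule.mem_span_pair.1 (himg u w hu hw huw hd)
    obtain ⟨c, d, hcd⟩ := Submodule.mem_span_pair.1 (himg u w' hu hw' huw' hd')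
    have hd0 : d = 0 := by
      have h1 := congrArg (polar q w) (hcd.trans hab.symm)
      simpa [polar_add_right, polar_smul_right, (polar_comm _ w u).trans huw, hww',
        polar_self_mul, hw] using h1
    exact ⟨c, by rw [← hcd, hd0, zero_smul, add_zero]⟩
  choose! c hc using heig
  have hsame : ∀ u v, q u = 0 → u ≠ 0 → q v = 0 → v ≠ 0 → c u = c v := by
    have horth : ∀ u v, q u = 0 → u ≠ 0 → q v = 0 → v ≠ 0 → polar q u v = 0 → c u = c v := by
      intro u v hu hu0 hv hv0 huv
      by_cases hd : v ∈ Submodule.span F {u}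
      · obtain ⟨a, rfl⟩ := Submodule.mem_span_singleton.1 hd
        have ha : a ≠ 0 := fun h => hv0 (by rw [h, zero_smul])
        have h1 := hc _ hv hv0
        rw [Matrix.mulVec_smul, hc u hu hu0, smul_smul, smul_smul, ← sub_eq_zero, ← sub_smul,
          smul_eq_zero] at h1
        exact mul_left_cancel₀ ha (by linear_combination h1.resolve_right hu0)
      have hs : q (u + v) = 0 := by rw [QuadraticMap.map_add q, hu, hv, huv, add_zero, add_zero]
      have hs0 : u + v ≠ 0 := fun h => hd (Submodule.mem_span_singleton.2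
        ⟨-1, by rw [neg_one_smul, eq_neg_of_add_eq_zero_right h]⟩)
      have h1 := hc _ hs hs0
      rw [Matrix.mulVec_add, hc u hu hu0, hc v hv hv0, smul_add] at h1
      have h3 : (c v - c (u + v)) • v = (c (u + v) - c u) • u := by
        rw [sub_smul, sub_smul, sub_eq_sub_iff_add_eq_add, add_comm (c v • v), h1]
      have h4 : c v - c (u + v) = 0 := by
        by_contra hne
        refine hd (Submodule.mem_span_singleton.2 ⟨(c v - c (u + v))⁻¹ * (c (u + v) - c u), ?_⟩)
        rw [← smul_smul, ← h3, smul_smul, inv_mul_cancel₀ hne, one_smul]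
      rw [h4, zero_smul] at h3
      linear_combination -(smul_eq_zero.1 h3.symm).resolve_right hu0 - h4
    intro u v hu hu0 hv hv0
    obtain ⟨z, hz0, hz, huz, hvz⟩ := exists_perp (q := q) hn u v
    rw [horth u z hu hu0 hz hz0 huz, horth v z hv hv0 hz hz0 hvz]
  obtain ⟨e, he0, he, -, -⟩ := exists_perp (q := q) hn 0 0
  refine ⟨c e, Matrix.toLin'.injective (LinearMap.eqLocus_eq_top.1 ?_)⟩
  refine mem_of_singular hnd hn fun u hu => ?_
  show Matrix.toLin' M u = Matrix.toLin' (c e • (1 : Matrix ι ι F)) u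
  rw [Matrix.toLin'_apply, Matrix.toLin'_apply, Matrix.smul_mulVec, Matrix.one_mulVec]
  by_cases hu0 : u = 0
  · rw [hu0]; simp
  · rw [hc u hu hu0, hsame u e hu hu0 he he0]

/-- a root element as a matrix -/
lemma root_matrix {g : GL ι F} {u w : ι → F}
    (hact : ∀ x : ι → F, (g : Matrix ι ι F) *ᵥ x = x + (polar q w x • u - polar q u x • w)) (x : ι → F) :
    ((g : Matrix ι ι F) - 1) *ᵥ x = polar q w x • u - polar q u x • w := by
  rw [Matrix.sub_mulVec, Matrix.one_mulVec, hact, add_sub_cancel_left]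

/-- subspaces -/
theorem not_le_subspace (hnd : (polarBilin q).Nondegenerate) (hn : 7 ≤ Fintype.card ι)
    {W : Submodule F (ι → F)} (hb : W ≠ ⊥) (ht : W ≠ ⊤) : ¬ omegaGL ⇑q ≤ subspaceStabilizer W :=
  fun h => ((omega_irred hnd hn) W ((inv_iff_le_stabilizer _ _).2 h)).elim hb ht

/-- the members of a decomposition are fixed by root elements, outside planes in characteristic two -/
lemma root_fixes {t k : ℕ} {D : Fin t → Submodule F (ι → F)} (hD : IsMDecomposition k D)
    (hk : (2 : F) ≠ 0 ∨ 3 ≤ k) {g : GL ι F} {u w : ι → F} (hu : q u = 0) (hw : q w = 0)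
    (huw : polar q u w = 0)
    (hact : ∀ x : ι → F, (g : Matrix ι ι F) *ᵥ x = x + (polar q w x • u - polar q u x • w))
    {σ : Equiv.Perm (Fin t)} (hσ : ∀ i, (D i).map (Matrix.toLin' (g : Matrix ι ι F)) = D (σ i))
    (i : Fin t) : σ i = i := by
  by_contra hi
  have hpos := hD.pos
  set N : Matrix ι ι F := (g : Matrix ι ι F) - 1 with hN
  have hNx : ∀ x, N *ᵥ x = polar q w x • u - polar q u x • w := root_matrix hact
  have hgD : ∀ j, ∀ x ∈ D j, (g : Matrix ι ι F) *ᵥ x ∈ D (σ j) := fun j x hx => by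
    rw [← hσ j]; exact ⟨x, hx, rfl⟩
  have hdisj : ∀ a b, a ≠ b → ∀ x ∈ D a, x ∈ D b → x = 0 := fun a b hab x ha hb =>
    Submodule.disjoint_def.1 (hD.indep.pairwiseDisjoint hab) x ha hb
  have hinj : ∀ x ∈ D i, N *ᵥ x = 0 → x = 0 := fun x hx h0 => by
    rw [hN, Matrix.sub_mulVec, Matrix.one_mulVec, sub_eq_zero] at h0
    exact hdisj i (σ i) (Ne.symm hi) x hx (h0 ▸ hgD i x hx)
  rcases hk with h2 | h3
  · obtain ⟨x, hx, hx0⟩ := (Submodule.ne_bot_iff (D i)).1 fun hb => by
      have := hD.finrank_eq i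
      rw [hb, finrank_bot] at this
      omega
    have hNN : N *ᵥ (N *ᵥ x) = 0 := by
      rw [hNx x, hNx]
      simp [polar_sub_right, polar_smul_right, polar_self_mul, hu, hw, huw, (polar_comm _ w u).trans huw]
    have h1 : (g : Matrix ι ι F) *ᵥ ((g : Matrix ι ι F) *ᵥ x) + x = (2 : F) • ((g : Matrix ι ι F) *ᵥ x) := by
      rw [hN, Matrix.sub_mulVec, Matrix.one_mulVec, Matrix.sub_mulVec, Matrix.one_mulVec,
        Matrix.mulVec_sub] at hNN
      rw [two_smul, ← sub_eq_zero, ← hNN]
      abel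
    have h4 : (2 : F) • ((g : Matrix ι ι F) *ᵥ x) ∈ D (σ i) ⊓ ⨆ (j : Fin t) (_ : j ≠ σ i), D j := by
      refine ⟨(D (σ i)).smul_mem _ (hgD i x hx), ?_⟩
      rw [← h1]
      refine Submodule.add_mem _ (Submodule.mem_iSup_of_mem (σ (σ i)) (Submodule.mem_iSup_of_mem
        (fun h => hi (σ.injective h)) (hgD _ _ (hgD i x hx)))) ?_
      exact Submodule.mem_iSup_of_mem i (Submodule.mem_iSup_of_mem (Ne.symm hi) hx)
    rw [(hD.indep (σ i)).eq_bot, Submodule.mem_bot, smul_eq_zero] at h4
    exact hx0 ((act g).injective (by rw [map_zero]; exact h4.resolve_left h2))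
  · let L : D i →ₗ[F] (ι → F) := (Matrix.toLin' N).domRestrict (D i)
    have hL : Function.Injective L := by
      rw [← LinearMap.ker_eq_bot, LinearMap.ker_eq_bot']
      exact fun x hx => Subtype.ext (hinj x x.2 hx)
    have h1 := LinearMap.finrank_range_of_inj hL
    have h4 : LinearMap.range L ≤ Submodule.span F {u, w} := by
      rintro _ ⟨x, rfl⟩
      show N *ᵥ (x : ι → F) ∈ _
      rw [hNx]
      exact Submodule.sub_mem _ (Submodule.smul_mem _ _ (Submodule.subset_span (by simp)))
        (Submodule.smul_mem _ _ (Submodule.subset_span (by simp)))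
    have h5 := Submodule.finrank_mono h4
    classical
    have h6 : finrank F (Submodule.span F {u, w}) ≤ 2 := by
      have := finrank_span_finset_le_card (R := F) ({u, w} : Finset (ι → F))
      rw [Finset.coe_pair] at this
      exact this.trans Finset.card_le_two
    rw [h1, hD.finrank_eq i] at h5
    omega

/-- decompositions -/
theorem not_le_decomposition (hnd : (polarBilin q).Nondegenerate) (hn : 7 ≤ Fintype.card ι)
    {t k : ℕ} {D : Fin t → Submodule F (ι → F)} (hD : IsMDecomposition k D)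
    (hcase : (2 : F) ≠ 0 ∨ 3 ≤ k ∨
      (4 ≤ t ∧ IsNondegenerateMDecomposition (polar ⇑q) k D)) :
    ¬ omegaGL ⇑q ≤ decompositionStabilizer D := by
  intro hle
  have hpos := hD.pos
  have ht := hD.two_le
  by_cases hk : (2 : F) ≠ 0 ∨ 3 ≤ k
  · let i₀ : Fin t := ⟨0, by omega⟩
    have hb : D i₀ ≠ ⊥ := fun h => by
      have := hD.finrank_eq i₀
      rw [h, finrank_bot] at this
      omega
    have hne : D i₀ ≠ ⊤ := fun h => by
      let i₁ : Fin t := ⟨1, by omega⟩
      have h1 := hD.indep.pairwiseDisjoint (show i₀ ≠ i₁ by simp [i₀, i₁, Fin.ext_iff])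
      rw [Function.onFun, h, top_disjoint] at h1
      have := hD.finrank_eq i₁
      rw [h1, finrank_bot] at this
      omega
    have hS : ∀ u w, q u = 0 → q w = 0 → polar q u w = 0 → ∀ x ∈ D i₀,
        polar q w x • u - polar q u x • w ∈ D i₀ := by
      intro u w hu hw huw x hx
      obtain ⟨g, hg, hact⟩ := exists_root hnd hn hu hw huw
      obtain ⟨σ, hσ⟩ := hle hg
      have h1 : (g : Matrix ι ι F) *ᵥ x ∈ D (σ i₀) := hσ i₀ ▸ ⟨x, hx, rfl⟩
      rw [root_fixes hD hk hu hw huw hact hσ, hact] at h1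
      exact ((D i₀).add_mem_iff_right hx).1 h1
    -- the root elements alone act irreducibly
    obtain ⟨x, hx, hx0⟩ := (Submodule.ne_bot_iff _).1 hb
    obtain ⟨w₀, hw₀W, hw₀, hw₀0⟩ : ∃ w₀ ∈ D i₀, q w₀ = 0 ∧ w₀ ≠ 0 := by
      obtain ⟨u, hu, hux⟩ : ∃ u, q u = 0 ∧ polar q u x ≠ 0 := by
        by_contra h
        push Not at h
        have := mem_of_singular hnd hn (W := LinearMap.ker ((polarBilin q).flip x)) fun u hu => h u hu
        exact hx0 (hnd.2 x fun y => by
          have hy : y ∈ LinearMap.ker ((polarBilin q).flip x) := this ▸ Submodule.mem_top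
          exact hy)
      obtain ⟨w, hw0, hw, huw, hxw⟩ := exists_perp (q := q) hn u x
      have h1 := hS u w hu hw huw x hx
      rw [(polar_comm _ w x).trans hxw, zero_smul, zero_sub] at h1
      exact ⟨w, ((D i₀).smul_mem_iff hux).1 ((D i₀).neg_mem_iff.1 h1), hw, hw0⟩
    have horth : ∀ z ∈ D i₀, q z = 0 → z ≠ 0 → ∀ u, q u = 0 → polar q u z = 0 → u ∈ D i₀ := by
      intro z hz hQz hz0 u hu huz
      by_cases hd : z ∈ Submodule.span F {u}
      · obtain ⟨c, hc⟩ := Submodule.mem_span_singleton.1 hd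
        have hc0 : c ≠ 0 := fun h => hz0 (by rw [← hc, h, zero_smul])
        exact ((D i₀).smul_mem_iff hc0).1 (hc ▸ hz)
      obtain ⟨w, hw, hzw, huw⟩ := exists_dual hnd hQz hd huz
      have h1 := hS u w hu hw huw z hz
      rwa [(polar_comm _ w z).trans hzw, one_smul, huz, zero_smul, sub_zero] at h1
    refine hne (mem_of_singular hnd hn fun u hu => ?_)
    obtain ⟨z, hz0, hz, huz, hwz⟩ := exists_perp (q := q) hn u w₀
    exact horth z (horth w₀ hw₀W hw₀ hw₀0 z hz ((polar_comm _ z w₀).trans hwz)) hz hz0 u hu huz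
  -- planes in characteristic two
  push Not at hk
  obtain ⟨h2, hk3⟩ := hk
  obtain ⟨ht4, hDn⟩ : 4 ≤ t ∧ IsNondegenerateMDecomposition (polar ⇑q) k D :=
    (hcase.resolve_left (not_not.2 h2)).resolve_left (by omega)
  have hperp : ∀ l, ∀ v ∈ D l, ∀ a, a ≠ l → ∀ z ∈ D a, polar q z v = 0 := fun l v hv a ha z hz =>
    hDn.orthogonal a l ha z hz v hv
  have hone : ∀ l, ∃ v ∈ D l, q v = 1 := by
    intro l
    obtain ⟨a, ha, hQa⟩ : ∃ a ∈ D l, q a ≠ 0 := by
      by_contra h
      push Not at h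
      obtain ⟨a, ha, ha0⟩ := (Submodule.ne_bot_iff (D l)).1 fun hb => by
        have := hD.finrank_eq l
        rw [hb, finrank_bot] at this
        omega
      obtain ⟨-, b, hb, hab⟩ := hDn.nondegenerate l a ha ha0
      exact hab (OmegaClasses.polar_of_sing h ha hb)
    obtain ⟨s, hs⟩ := QuadClassify.isSquare_of_two_eq_zero h2 (q a)⁻¹
    exact ⟨s • a, (D l).smul_mem _ ha, by
      rw [QuadraticMap.map_smul, smul_eq_mul, ← hs, inv_mul_cancel₀ hQa]⟩
  choose v hv hQv using hone
  let a₀ : Fin t := ⟨0, by omega⟩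
  let a₁ : Fin t := ⟨1, by omega⟩
  let a₂ : Fin t := ⟨2, by omega⟩
  let a₃ : Fin t := ⟨3, by omega⟩
  have hne : a₀ ≠ a₁ ∧ a₀ ≠ a₂ ∧ a₀ ≠ a₃ ∧ a₁ ≠ a₂ ∧ a₁ ≠ a₃ ∧ a₂ ≠ a₃ := by
    simp [a₀, a₁, a₂, a₃, Fin.ext_iff]
  set z := v a₀ + v a₁ + v a₂ + v a₃ with hz
  have hQz : q z = 0 := by
    obtain ⟨h01, h02, h03, h12, h13, h23⟩ := hne
    have o : ∀ a b, a ≠ b → polar q (v a) (v b) = 0 := fun a b h => hperp b _ (hv b) a h _ (hv a)
    rw [hz, QuadraticMap.map_add q, QuadraticMap.map_add q (v a₀ + v a₁),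
      QuadraticMap.map_add q (v a₀), polar_add_left, polar_add_left, polar_add_left, o _ _ h01,
      o _ _ h02, o _ _ h12, o _ _ h03, o _ _ h13, o _ _ h23, hQv, hQv, hQv, hQv]
    linear_combination (2 : F) * h2
  have hz0 : z ≠ 0 := by
    intro h0
    obtain ⟨h01, h02, h03, -⟩ := hne
    obtain ⟨-, b, hb, hab⟩ := hDn.nondegenerate a₀ _ (hv a₀) fun h => by
      have := hQv a₀
      rw [h, QuadraticMap.map_zero] at this
      exact zero_ne_one this
    apply hab
    have := congrArg (polar q b) h0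
    rw [polar_zero_right, hz, polar_add_right, polar_add_right, polar_add_right,
      hperp a₁ _ (hv a₁) a₀ h01 b hb, hperp a₂ _ (hv a₂) a₀ h02 b hb,
      hperp a₃ _ (hv a₃) a₀ h03 b hb, add_zero, add_zero, add_zero] at this
    rw [polar_comm]
    exact this
  -- the image of a root element meets at most two members
  obtain ⟨w, hw0, hw, hzw, hwz⟩ : ∃ w, w ≠ 0 ∧ q w = 0 ∧ polar q z w = 0 ∧ w ∉ Submodule.span F {z} := by
    obtain ⟨y, -, hzy, -⟩ := exists_dual hnd (b := 0) hQz (by simpa using hz0) (by simp)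
    obtain ⟨w, hw0, hw, hzw, hyw⟩ := exists_perp (q := q) hn z y
    refine ⟨w, hw0, hw, hzw, fun h => ?_⟩
    obtain ⟨c, rfl⟩ := Submodule.mem_span_singleton.1 h
    rw [polar_smul_right, (polar_comm _ y z).trans hzy, smul_eq_mul, mul_one] at hyw
    exact hw0 (by rw [hyw, zero_smul])
  obtain ⟨g, hg, hact⟩ := exists_root hnd hn hQz hw hzw
  obtain ⟨σ, hσ⟩ := hle hg
  have hgD : ∀ j, ∀ x ∈ D j, (g : Matrix ι ι F) *ᵥ x ∈ D (σ j) := fun j x hx => by
    rw [← hσ j]; exact ⟨x, hx, rfl⟩
  -- a vector off two members would be orthogonal to their image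
  have hsupp : ∃ a b : Fin t, z ∈ D a ⊔ D b := by
    set N : Matrix ι ι F := (g : Matrix ι ι F) - 1 with hN
    have hNx : ∀ x, N *ᵥ x = polar q w x • z - polar q z x • w := root_matrix hact
    have hrange : ∀ x, N *ᵥ x ∈ Submodule.span F {z, w} := fun x => by
      rw [hNx]
      exact Submodule.sub_mem _ (Submodule.smul_mem _ _ (Submodule.subset_span (by simp)))
        (Submodule.smul_mem _ _ (Submodule.subset_span (by simp)))
    -- preimage of `z`
    obtain ⟨x, -, hwx, hzx⟩ : ∃ x, q x = 0 ∧ polar q w x = 1 ∧ polar q z x = 0 := by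
      refine exists_dual hnd hw (fun h => ?_) hzw
      obtain ⟨c, rfl⟩ := Submodule.mem_span_singleton.1 h
      exact hwz (Submodule.smul_mem _ c (Submodule.mem_span_singleton_self z))
    have hzN : z = N *ᵥ x := by rw [hNx, hwx, hzx, one_smul, zero_smul, sub_zero]
    by_cases hmove : ∃ i, σ i ≠ i
    · obtain ⟨i, hi⟩ := hmove
      refine ⟨i, σ i, ?_⟩
      let L : D i →ₗ[F] (ι → F) := (Matrix.toLin' N).domRestrict (D i)
      have hL : Function.Injective L := by
        rw [← LinearMap.ker_eq_bot, LinearMap.ker_eq_bot']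
        intro y hy
        have h0 : N *ᵥ (y : ι → F) = 0 := hy
        rw [hN, Matrix.sub_mulVec, Matrix.one_mulVec, sub_eq_zero] at h0
        exact Subtype.ext (Submodule.disjoint_def.1 (hD.indep.pairwiseDisjoint (Ne.symm hi)) _ y.2
          (h0 ▸ hgD i _ y.2))
      have hr : LinearMap.range L ≤ Submodule.span F {z, w} := by
        rintro _ ⟨y, rfl⟩; exact hrange _
      classical
      have h6 : finrank F (Submodule.span F {z, w}) ≤ 2 := by
        have := finrank_span_finset_le_card (R := F) ({z, w} : Finset (ι → F))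
        rw [Finset.coe_pair] at this
        exact this.trans Finset.card_le_two
      have hk2 : k = 2 := by
        have h7 := LinearMap.finrank_range_of_inj hL
        rw [hD.finrank_eq i] at h7
        rcases Nat.lt_or_ge 1 k with h | h
        · omega
        · exfalso
          obtain ⟨-, b, hb, hab⟩ := hDn.nondegenerate i _ (hv i) fun h => by
            have := hQv i
            rw [h, QuadraticMap.map_zero] at this
            exact zero_ne_one this
          apply hab
          obtain ⟨c, hc⟩ := (finrank_eq_one_iff_of_nonzero' (⟨v i, hv i⟩ : D i) fun h => by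
            have := hQv i
            rw [show v i = 0 from congrArg Subtype.val h, QuadraticMap.map_zero] at this
            exact zero_ne_one this).1 (by rw [hD.finrank_eq i]; omega) ⟨b, hb⟩
          rw [← show c • v i = b from congrArg Subtype.val hc, polar_smul_right, polar_self_mul, hQv,
            smul_eq_mul, mul_one, h2, mul_zero]
      have heq := Submodule.eq_of_le_of_finrank_le hr (by
        rw [LinearMap.finrank_range_of_inj hL, hD.finrank_eq i]; omega)
      obtain ⟨y, hy⟩ : z ∈ LinearMap.range L := heq ▸ Submodule.subset_span (by simp)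
      rw [← hy]
      show N *ᵥ (y : ι → F) ∈ _
      rw [hN, Matrix.sub_mulVec, Matrix.one_mulVec]
      exact Submodule.sub_mem _ (Submodule.mem_sup_right (hgD i _ y.2)) (Submodule.mem_sup_left y.2)
    push Not at hmove
    -- every member meets the image
    have hmem : ∀ l, ∀ y ∈ D l, N *ᵥ y ∈ D l := fun l y hy => by
      rw [hN, Matrix.sub_mulVec, Matrix.one_mulVec]
      exact (D l).sub_mem (by simpa [hmove l] using hgD l y hy) hy
    classical
    let S : Finset (Fin t) := Finset.univ.filter fun l => ∃ y ∈ D l, N *ᵥ y ≠ 0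
    choose! y hy hy0 using fun l (hl : l ∈ S) => (Finset.mem_filter.1 hl).2
    have hli : LinearIndependent F fun l : S => N *ᵥ y l.1 :=
      (hD.indep.comp (f := fun l : S => l.1) Subtype.val_injective).linearIndependent _
        (fun l => hmem _ _ (hy l.1 l.2)) fun l => hy0 l.1 l.2
    have hS2 : S.card ≤ 2 := by
      have h1 := Submodule.finrank_mono (Submodule.span_le.2 (by
        rintro _ ⟨l, rfl⟩; exact hrange _) :
          Submodule.span F (Set.range fun l : S => N *ᵥ y l.1) ≤ Submodule.span F {z, w})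
      rw [finrank_span_eq_card hli, Fintype.card_coe] at h1
      have h6 := finrank_span_finset_le_card (R := F) ({z, w} : Finset (ι → F))
      rw [Finset.coe_pair] at h6
      exact h1.trans (h6.trans Finset.card_le_two)
    obtain ⟨a, b, hab⟩ : ∃ a b : Fin t, S ⊆ {a, b} := by
      rcases (show S.card = 0 ∨ S.card = 1 ∨ S.card = 2 by omega) with h | h | h
      · exact ⟨a₀, a₁, by rw [Finset.card_eq_zero.1 h]; exact Finset.empty_subset _⟩
      · obtain ⟨a, ha⟩ := Finset.card_eq_one.1 h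
        exact ⟨a, a, by rw [ha]; simp⟩
      · obtain ⟨a, b, -, ha⟩ := Finset.card_eq_two.1 h
        exact ⟨a, b, ha.le⟩
    refine ⟨a, b, ?_⟩
    have key : ∀ x ∈ iSup D, N *ᵥ x ∈ D a ⊔ D b := by
      intro x hx
      induction hx using Submodule.iSup_induction' with
      | mem l x hx =>
        by_cases h0 : N *ᵥ x = 0
        · rw [h0]; exact Submodule.zero_mem _
        have : l ∈ ({a, b} : Finset (Fin t)) :=
          hab (Finset.mem_filter.2 ⟨Finset.mem_univ _, x, hx, h0⟩)
        rcases Finset.mem_insert.1 this with rfl | h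
        · exact Submodule.mem_sup_left (hmem _ x hx)
        · rw [Finset.mem_singleton] at h
          subst h
          exact Submodule.mem_sup_right (hmem _ x hx)
      | zero => rw [Matrix.mulVec_zero]; exact Submodule.zero_mem _
      | add x y _ _ hx hy => rw [Matrix.mulVec_add]; exact Submodule.add_mem _ hx hy
    rw [hzN]
    exact key x (hD.iSup_eq_top ▸ Submodule.mem_top)
  obtain ⟨a, b, hab⟩ := hsupp
  obtain ⟨l, hl, hla, hlb⟩ : ∃ l, (l = a₀ ∨ l = a₁ ∨ l = a₂) ∧ l ≠ a ∧ l ≠ b := by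
    obtain ⟨h01, h02, h03, h12, h13, h23⟩ := hne
    by_cases h0 : a₀ ≠ a ∧ a₀ ≠ b
    · exact ⟨a₀, Or.inl rfl, h0⟩
    by_cases h1 : a₁ ≠ a ∧ a₁ ≠ b
    · exact ⟨a₁, Or.inr (Or.inl rfl), h1⟩
    refine ⟨a₂, Or.inr (Or.inr rfl), ?_⟩
    rw [not_and_or, not_not, not_not] at h0 h1
    rcases h0 with h0 | h0 <;> rcases h1 with h1 | h1 <;> subst h0 <;>
      first
        | exact absurd h1.symm h01
        | (subst h1; exact ⟨fun h => by simp_all, fun h => by simp_all⟩)
  obtain ⟨-, y, hy, hvy⟩ := hDn.nondegenerate l _ (hv l) fun h => by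
    have := hQv l
    rw [h, QuadraticMap.map_zero] at this
    exact zero_ne_one this
  apply hvy
  obtain ⟨za, hza, zb, hzb, hsum⟩ := Submodule.mem_sup.1 hab
  have h1 : polar q y z = 0 := by
    rw [← hsum, polar_add_right, hperp a za hza l hla y hy, hperp b zb hzb l hlb y hy, add_zero]
  have h4 : polar q y z = polar q y (v l) := by
    obtain ⟨h01, h02, h03, h12, h13, h23⟩ := hne
    rcases hl with rfl | rfl | rfl <;>
      simp [hz, polar_add_right, hperp a₀ _ (hv a₀) _ _ y hy, hperp a₁ _ (hv a₁) _ _ y hy,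
        hperp a₂ _ (hv a₂) _ _ y hy, hperp a₃ _ (hv a₃) _ _ y hy, h01, h02, h03, h12, h13, h23,
        h01.symm, h02.symm, h03.symm, h12.symm, h13.symm, h23.symm]
  rw [polar_comm, ← h4, h1]

/-- normalisers of field extensions -/
theorem not_le_field (hnd : (polarBilin q).Nondegenerate) (hn : 7 ≤ Fintype.card ι)
    {r : ℕ} (hr : 2 ≤ r) {K : Subalgebra F (Matrix ι ι F)} (hK : IsFieldSubalgebra r K) :
    ¬ omegaGL ⇑q ≤ subalgebraNormalizer K := by
  intro hle
  have hsc : ∀ k ∈ K, ∃ c : F, k = c • (1 : Matrix ι ι F) := by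
    intro k hk
    refine scalar_of_comm hnd hn fun u w hu hw huw y => ?_
    obtain ⟨g, hg, hact⟩ := exists_root hnd hn hu hw huw
    set a : Matrix ι ι F := (g : Matrix ι ι F) * k * ((g⁻¹ : GL ι F) : Matrix ι ι F) with ha
    have haK : a ∈ K := (hle hg k).1 hk
    have hag : a * (g : Matrix ι ι F) = (g : Matrix ι ι F) * k := by
      rw [ha, mul_assoc, Units.inv_mul, mul_one]
    -- a common fixed vector
    let L : (ι → F) →ₗ[F] (F × F) × (F × F) :=
      ((polarBilin q w).prod (polarBilin q u)).prod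
        (((polarBilin q w).prod (polarBilin q u)).comp (Matrix.toLin' k))
    obtain ⟨x, hx, hx0⟩ := (Submodule.ne_bot_iff (LinearMap.ker L)).1 fun hb => by
      have h1 := LinearMap.finrank_range_add_finrank_ker L
      have h3 := Submodule.finrank_le (LinearMap.range L)
      rw [hb, finrank_bot, Module.finrank_pi] at h1
      simp [Module.finrank_prod] at h3
      omega
    rw [LinearMap.mem_ker] at hx
    have e1 : polar q w x = 0 := congrArg (fun p => p.1.1) hx
    have e2 : polar q u x = 0 := congrArg (fun p => p.1.2) hx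
    have e3 : polar q w (k *ᵥ x) = 0 := congrArg (fun p => p.2.1) hx
    have e4 : polar q u (k *ᵥ x) = 0 := congrArg (fun p => p.2.2) hx
    have hfx : (a - k) *ᵥ x = 0 := by
      have h1 := congrArg (fun M => M *ᵥ x) hag
      simp only [← Matrix.mulVec_mulVec, hact, e1, e2, e3, e4, zero_smul, sub_zero, add_zero] at h1
      rw [Matrix.sub_mulVec, h1, sub_self]
    have hak : a = k := by
      by_contra hne
      obtain ⟨b, hbK, hb⟩ := hK.inv _ (K.sub_mem haK hk) (sub_ne_zero.2 hne)
      rw [hK.comm _ (K.sub_mem haK hk) _ hbK] at hb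
      exact hx0 (by rw [← Matrix.one_mulVec x, ← hb, ← Matrix.mulVec_mulVec, hfx, Matrix.mulVec_zero])
    rw [hak] at hag
    have h1 := congrArg (fun M => M *ᵥ y) hag
    simp only [← Matrix.mulVec_mulVec, hact, Matrix.mulVec_add] at h1
    exact add_left_cancel h1
  have hbot : K = ⊥ := eq_bot_iff.2 fun k hk => by
    obtain ⟨c, rfl⟩ := hsc k hk
    exact Algebra.mem_bot.2 ⟨c, Algebra.algebraMap_eq_smul_one c⟩
  haveI : Nonempty ι := Fintype.card_pos_iff.1 (by omega)
  have := hK.finrank_eq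
  rw [hbot, Subalgebra.finrank_bot] at this
  omega

/-- tensor decompositions -/
theorem not_le_tensor (hnd : (polarBilin q).Nondegenerate) (hn : 7 ≤ Fintype.card ι) {k m : ℕ}
    (hk : 2 ≤ k) (hm : 3 ≤ m) {e : ι ≃ Fin k × Fin m} {P : GL ι F} :
    ¬ omegaGL ⇑q ≤ tensorProductSubgroup k m e P := by
  intro hle
  let X : Matrix (Fin k) (Fin k) F := Matrix.single ⟨0, by omega⟩ ⟨0, by omega⟩ 1
  set M : Matrix ι ι F := (P : Matrix ι ι F) * AschGenTensor.pull e (X ⊗ₖ (1 : Matrix (Fin m) (Fin m) F)) *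
    ((P⁻¹ : GL ι F) : Matrix ι ι F) with hMdef
  obtain ⟨c, hc⟩ : ∃ c : F, M = c • (1 : Matrix ι ι F) := by
    refine scalar_of_comm hnd hn fun u w hu hw huw y => ?_
    obtain ⟨g, hg, hact⟩ := exists_root hnd hn hu hw huw
    obtain ⟨_, ⟨g₀, ⟨A, B, hAB⟩, rfl⟩, hgh⟩ := hle hg
    have hval : (g : Matrix ι ι F) = (P : Matrix ι ι F) * AschGenTensor.pull e
        ((A : Matrix (Fin k) (Fin k) F) ⊗ₖ (B : Matrix (Fin m) (Fin m) F)) * ((P⁻¹ : GL ι F) : Matrix ι ι F) := by
      rw [← hgh, ← hAB]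
      rfl
    -- the left factor is scalar
    have hA : ∀ x : Fin k → F, x ≠ 0 → ∃ a : F, (A : Matrix (Fin k) (Fin k) F) *ᵥ x = a • x := by
      intro x hx
      let S : (Fin m → F) →ₗ[F] (ι → F) :=
        { toFun := fun z => (P : Matrix ι ι F) *ᵥ fun i => x (e i).1 * z (e i).2
          map_add' := fun a b => by
            rw [← Matrix.mulVec_add]; congr 1; funext i; exact mul_add _ _ _
          map_smul' := fun a b => by
            rw [RingHom.id_apply, ← Matrix.mulVec_smul]; congr 1; funext i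
            simp [mul_left_comm] }
      let L : (Fin m → F) →ₗ[F] F × F := ((polarBilin q w).prod (polarBilin q u)).comp S
      obtain ⟨z, hz, hz0⟩ := (Submodule.ne_bot_iff (LinearMap.ker L)).1 fun hb => by
        have h1 := LinearMap.finrank_range_add_finrank_ker L
        have h3 := Submodule.finrank_le (LinearMap.range L)
        rw [hb, finrank_bot, Module.finrank_pi, Fintype.card_fin] at h1
        simp [Module.finrank_prod] at h3
        omega
      rw [LinearMap.mem_ker] at hz
      have e1 : polar q w (S z) = 0 := congrArg Prod.fst hz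
      have e2 : polar q u (S z) = 0 := congrArg Prod.snd hz
      have hfix : (g : Matrix ι ι F) *ᵥ S z = S z := by
        rw [hact, e1, e2, zero_smul, zero_smul, sub_zero, add_zero]
      have hgS : (g : Matrix ι ι F) *ᵥ S z = (P : Matrix ι ι F) *ᵥ fun i =>
          ((A : Matrix (Fin k) (Fin k) F) *ᵥ x) (e i).1 * ((B : Matrix (Fin m) (Fin m) F) *ᵥ z) (e i).2 := by
        rw [hval]
        show _ *ᵥ ((P : Matrix ι ι F) *ᵥ _) = _
        rw [← Matrix.mulVec_mulVec, inv_mulVec_mulVec, ← Matrix.mulVec_mulVec]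
        congr 1
        funext i
        simp only [Matrix.mulVec, dotProduct, AschGenTensor.pull_apply, Matrix.kroneckerMap_apply]
        rw [Finset.sum_mul_sum, ← Fintype.sum_prod_type', ← e.sum_comp]
        exact Finset.sum_congr rfl fun j _ => by ring
      rw [hgS] at hfix
      have h1 := (act P).injective (by
          have h0 : S z = (P : Matrix ι ι F) *ᵥ fun i => x (e i).1 * z (e i).2 := rfl
          rw [h0] at hfix
          simpa [act] using hfix :
        (act P) (fun i => ((A : Matrix (Fin k) (Fin k) F) *ᵥ x) (e i).1 *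
          ((B : Matrix (Fin m) (Fin m) F) *ᵥ z) (e i).2) = act P (fun i => x (e i).1 * z (e i).2))
      obtain ⟨j, hj⟩ := Function.ne_iff.1 hz0
      simp only [Pi.zero_apply] at hj
      have hBj : ((B : Matrix (Fin m) (Fin m) F) *ᵥ z) j ≠ 0 := by
        intro h0
        obtain ⟨i, hi⟩ := Function.ne_iff.1 hx
        have h4 := congrFun h1 (e.symm (i, j))
        simp [h0] at h4
        exact h4.elim hi hj
      refine ⟨z j / ((B : Matrix (Fin m) (Fin m) F) *ᵥ z) j, funext fun i => ?_⟩
      have h4 := congrFun h1 (e.symm (i, j))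
      simp only [Equiv.apply_symm_apply] at h4
      rw [Pi.smul_apply, smul_eq_mul, div_mul_eq_mul_div, eq_div_iff hBj, h4, mul_comm]
    obtain ⟨a, ha⟩ := AschCase.scalar_of_eigen hA
    have hcomm : M * (g : Matrix ι ι F) = (g : Matrix ι ι F) * M := by
      have h1 : (X ⊗ₖ (1 : Matrix (Fin m) (Fin m) F)) * ((A : Matrix (Fin k) (Fin k) F) ⊗ₖ (B : Matrix (Fin m) (Fin m) F)) =
          ((A : Matrix (Fin k) (Fin k) F) ⊗ₖ (B : Matrix (Fin m) (Fin m) F)) * (X ⊗ₖ (1 : Matrix (Fin m) (Fin m) F)) := by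
        rw [← Matrix.mul_kronecker_mul, ← Matrix.mul_kronecker_mul, ha, one_mul, mul_one, Matrix.mul_smul,
          Matrix.smul_mul, one_mul, mul_one]
      have h2 := congrArg (fun Z => (P : Matrix ι ι F) * AschGenTensor.pull e Z * ((P⁻¹ : GL ι F) : Matrix ι ι F)) h1
      simp only [map_mul] at h2
      rw [hMdef, hval]
      simpa [mul_assoc] using h2
    have h1 := congrArg (fun Z => Z *ᵥ y) hcomm
    simp only [← Matrix.mulVec_mulVec, hact, Matrix.mulVec_add] at h1
    exact add_left_cancel h1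
  rw [hMdef] at hc
  have h1 : AschGenTensor.pull e (X ⊗ₖ (1 : Matrix (Fin m) (Fin m) F)) = c • (1 : Matrix ι ι F) := by
    have := congrArg (fun Z => ((P⁻¹ : GL ι F) : Matrix ι ι F) * Z * (P : Matrix ι ι F)) hc
    simpa [mul_assoc] using this
  let j : Fin m := ⟨0, by omega⟩
  have e1 := congrFun (congrFun h1 (e.symm (⟨0, by omega⟩, j))) (e.symm (⟨0, by omega⟩, j))
  have e2 := congrFun (congrFun h1 (e.symm (⟨1, by omega⟩, j))) (e.symm (⟨1, by omega⟩, j))
  simp [X, Fin.ext_iff, AschGenTensor.pull_apply, Matrix.single_apply, Matrix.one_apply] at e1 e2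
  rw [← e2] at e1
  exact one_ne_zero (α := F) e1

/-- subfield groups -/
theorem not_le_subfield (hnd : (polarBilin q).Nondegenerate) (hn : 7 ≤ Fintype.card ι)
    {F₀ : Subfield F} (hF₀ : F₀ ≠ ⊤) (P : GL ι F) : ¬ omegaGL ⇑q ≤ subfieldSubgroup F₀ P := by
  classical
  intro hle
  haveI : Nonempty ι := Fintype.card_pos_iff.1 (by omega)
  obtain ⟨p, hp⟩ := CharP.exists F
  haveI := hp
  have hpp : p.Prime := CharP.char_is_prime F p
  haveI := Fact.mk hpp
  obtain ⟨c, hc⟩ : ∃ c, c ∉ F₀ := by
    by_contra h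
    push Not at h
    exact hF₀ (eq_top_iff.2 fun x _ => h x)
  -- a non-trivial root element
  obtain ⟨u, hu0, hu, -, -⟩ := exists_perp (q := q) hn 0 0
  obtain ⟨y, -, huy, -⟩ := exists_dual hnd (b := 0) hu (by simpa using hu0) (by simp)
  obtain ⟨w, hw0, hw, huw, hyw⟩ := exists_perp (q := q) hn u y
  have key : ∀ s : F, ∃ N₀ : Matrix ι ι F, (∀ i j, N₀ i j ∈ F₀) ∧
      ∀ x : ι → F, N₀ *ᵥ x = ((P⁻¹ : GL ι F) : Matrix ι ι F) *ᵥ
        (polar q w ((P : Matrix ι ι F) *ᵥ x) • (s • u) - polar q (s • u) ((P : Matrix ι ι F) *ᵥ x) • w) := by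
    intro s
    obtain ⟨g, hg, hact⟩ := exists_root hnd hn (show q (s • u) = 0 by rw [QuadraticMap.map_smul, hu, smul_zero]) hw
      (show polar q (s • u) w = 0 by rw [polar_smul_left, huw, smul_zero])
    obtain ⟨z, hz, hzg⟩ := hle hg
    obtain ⟨a, ⟨a₀, rfl⟩, t, ht, rfl⟩ := AschPrimeCore.mem_sup_scalars le_rfl hz
    obtain ⟨b, hb⟩ := (mem_scalars_iff t).1 ht
    set A : Matrix ι ι F :=
      ((Matrix.GeneralLinearGroup.map (F₀.subtype : F₀ →+* F) a₀ : GL ι F) : Matrix ι ι F) with hA
    have hAF : ∀ i j, A i j ∈ F₀ := fun i j => (a₀.val i j).2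
    have hPg : ((P⁻¹ : GL ι F) : Matrix ι ι F) * (g : Matrix ι ι F) * (P : Matrix ι ι F) = (b : F) • A := by
      rw [← hzg]
      simp [hA, hb, mul_assoc]
    set N₀ := (b : F) • A - 1 with hN₀
    have hN₀x : ∀ x : ι → F, N₀ *ᵥ x = ((P⁻¹ : GL ι F) : Matrix ι ι F) *ᵥ
        (polar q w ((P : Matrix ι ι F) *ᵥ x) • (s • u) - polar q (s • u) ((P : Matrix ι ι F) *ᵥ x) • w) := by
      intro x
      rw [hN₀, Matrix.sub_mulVec, Matrix.one_mulVec, ← hPg, ← Matrix.mulVec_mulVec, ← Matrix.mulVec_mulVec, hact,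
        Matrix.mulVec_add, inv_mulVec_mulVec, add_sub_cancel_left]
    have hsq : N₀ * N₀ = 0 := Matrix.toLin'.injective (LinearMap.ext fun x => by
      rw [Matrix.toLin'_apply, ← Matrix.mulVec_mulVec, hN₀x, hN₀x, map_zero, LinearMap.zero_apply,
        mulVec_inv_mulVec]
      simp [polar_sub_right, polar_smul_right, polar_smul_left, polar_self_mul, hu, hw, huw,
        (polar_comm _ w u).trans huw, QuadraticMap.map_smul])
    have hpow : ∀ j : ℕ, ((b : F) • A) ^ j = 1 + (j : F) • N₀ := by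
      intro j
      induction j with
      | zero => simp
      | succ j ih =>
        rw [pow_succ, ih, show (b : F) • A = 1 + N₀ by rw [hN₀, add_sub_cancel], add_mul, mul_add, one_mul,
          one_mul, mul_add, mul_one, Matrix.smul_mul, hsq, smul_zero, add_zero, Nat.cast_succ, add_smul,
          one_smul]
        abel
    have hAp : ∀ i j, (A ^ p) i j ∈ F₀ := fun i j => by
      rw [hA, ← Units.val_pow_eq_pow_val, ← map_pow]
      exact ((a₀ ^ p).val i j).2
    have hbF : (b : F) ∈ F₀ := by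
      have h1 := hpow p
      rw [smul_pow, CharP.cast_eq_zero, zero_smul, add_zero] at h1
      obtain ⟨i⟩ := ‹Nonempty ι›
      have h2 := congrFun (congrFun h1 i) i
      rw [Matrix.smul_apply, Matrix.one_apply_eq, smul_eq_mul] at h2
      have h3 : (b : F) ^ p ∈ F₀ := by
        rw [eq_inv_of_mul_eq_one_left h2]
        exact inv_mem (hAp i i)
      haveI : CharP F₀ p := CharP.subring F p F₀.toSubring
      obtain ⟨d, hd⟩ := (Finite.injective_iff_surjective.1 (frobenius F₀ p).injective) ⟨_, h3⟩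
      have h4 : (d : F) ^ p = (b : F) ^ p := congrArg Subtype.val hd
      have h5 : frobenius F p (d : F) = frobenius F p (b : F) := h4
      rw [← (frobenius F p).injective h5]
      exact d.2
    refine ⟨N₀, fun i j => ?_, hN₀x⟩
    rw [hN₀, Matrix.sub_apply, Matrix.smul_apply, smul_eq_mul, Matrix.one_apply]
    refine sub_mem (mul_mem hbF (hAF i j)) ?_
    split_ifs
    · exact one_mem _
    · exact zero_mem _
  obtain ⟨N₁, h1, hN₁⟩ := key 1
  obtain ⟨N₂, h2, hN₂⟩ := key c
  have hlin : N₂ = c • N₁ := Matrix.toLin'.injective (LinearMap.ext fun x => by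
    rw [Matrix.toLin'_apply, Matrix.toLin'_apply, Matrix.smul_mulVec, hN₁, hN₂, ← Matrix.mulVec_smul]
    simp [polar_smul_left, smul_sub, smul_smul, mul_comm, mul_left_comm])
  obtain ⟨i, j, hij⟩ : ∃ i j, N₁ i j ≠ 0 := by
    by_contra h
    push Not at h
    have h3 := hN₁ (((P⁻¹ : GL ι F) : Matrix ι ι F) *ᵥ y)
    rw [show N₁ = 0 from Matrix.ext h, Matrix.zero_mulVec, mulVec_inv_mulVec, one_smul, huy,
      (polar_comm _ w y).trans hyw, zero_smul, one_smul, zero_sub] at h3
    exact hw0 (neg_eq_zero.1 ((act (P⁻¹ : GL ι F)).injective (by rw [map_zero]; exact h3.symm)))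
  have h3 := h2 i j
  rw [hlin, Matrix.smul_apply, smul_eq_mul] at h3
  exact hc (by simpa [hij] using mul_mem h3 (inv_mem (h1 i j)))

end Cfsg.Agent.AschEvenProper44
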