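import Mathlib
import Cfsg.Agent.Lib.OrthUnitarySimple

/-!
Preparations for the automorphism groups of the simple orthogonal groups: Siegel transformations,
root elements, linear algebra with the polar form, the centre and unique lifts of `p`-elements.
-/

set_option autoImplicit false
set_option linter.unusedSectionVars false

namespace Cfsg.Agent.AutOrth45

open QuadraticMap
open Cfsg.Agent.OrthUnitaryQuad
open Cfsg.Agent.OrthUnitaryRefl
open Cfsg.Agent.OrthUnitaryOmega
open Cfsg.Agent.OrthUnitaryCentre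
open Cfsg.Agent.OrthUnitarySimple

variable {F V : Type*} [Field F] [AddCommGroup V] [Module F V]

/-- Four mutually orthogonal independent singular vectors. -/
def HasFour (Q : QuadraticForm F V) : Prop :=
  ∃ a : Fin 4 → V, LinearIndependent F a ∧ ∀ i j, Q (a i) = 0 ∧ polar Q (a i) (a j) = 0

/-- The standing hypotheses. -/
structure Good (Q : QuadraticForm F V) : Prop where
  nd : (polarBilin Q).Nondegenerate
  dim : 7 ≤ Module.finrank F V
  four : HasFour Q → 9 ≤ Module.finrank F V

variable {Q : QuadraticForm F V}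

theorem Good.reg (h : Good Q) : IsReg Q := isReg_of_nondegenerate h.nd

theorem Good.dim5 (h : Good Q) : 5 ≤ Module.finrank F V := by have := h.dim; omega

theorem Good.finDim (h : Good Q) : FiniteDimensional F V :=
  Module.finite_of_finrank_pos (by have := h.dim; omega)

/-! ### Linear algebra with the polar form -/

theorem Good.eq_zero (h : Good Q) {v : V} (hv : ∀ x, polar Q v x = 0) : v = 0 := h.nd.1 v hv

theorem Good.exists_value (h : Good Q) {k : ℕ} (a : Fin k → V) (ha : LinearIndependent F a)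
    (c : Fin k → F) : ∃ v, ∀ i, polar Q (a i) v = c i := by
  let L : V →ₗ[F] (Fin k → F) := LinearMap.pi fun i => polarBilin Q (a i)
  suffices hs : LinearMap.range L = ⊤ by
    obtain ⟨v, hv⟩ := LinearMap.range_eq_top.1 hs c
    exact ⟨v, fun i => congrFun hv i⟩
  by_contra hne
  obtain ⟨φ, hφ0, hφ⟩ := Submodule.exists_le_ker_of_lt_top _ (lt_top_iff_ne_top.2 hne)
  apply hφ0
  set g : Fin k → F := fun i => φ (Pi.single i 1) with hg
  have hsum : ∑ i, g i • a i = 0 := h.eq_zero fun x => by
    have hx : φ (L x) = 0 := hφ ⟨x, rfl⟩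
    rw [pi_eq_sum_univ' (L x), map_sum] at hx
    rw [← QuadraticMap.polarBilin_apply_apply, map_sum, LinearMap.coe_sum, Finset.sum_apply]
    rw [← hx]
    refine Finset.sum_congr rfl fun i _ => ?_
    rw [map_smul, map_smul, LinearMap.smul_apply, smul_eq_mul, smul_eq_mul, mul_comm]
    congr 1
  have h0 := (Fintype.linearIndependent_iff.1 ha) g hsum
  refine LinearMap.pi_ext' fun i => LinearMap.ext_ring ?_
  simpa using h0 i

/-- Vectors orthogonal to everything orthogonal to the given ones lie in their span. -/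
theorem Good.mem_span (h : Good Q) {k : ℕ} (a : Fin k → V) {v : V}
    (hv : ∀ x, (∀ i, polar Q (a i) x = 0) → polar Q v x = 0) :
    v ∈ Submodule.span F (Set.range a) := by
  have hle : (⨅ i, LinearMap.ker (polarBilin Q (a i))) ≤ LinearMap.ker (polarBilin Q v) := by
    intro x hx
    rw [Submodule.mem_iInf] at hx
    exact hv x fun i => hx i
  have := mem_span_of_iInf_ker_le_ker hle
  rw [Submodule.mem_span_range_iff_exists_fun] at this ⊢
  obtain ⟨c, hc⟩ := this
  refine ⟨c, sub_eq_zero.1 (h.eq_zero fun x => ?_)⟩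
  rw [← QuadraticMap.polarBilin_apply_apply, map_sub, map_sum]
  simp only [map_smul]
  rw [hc, sub_self, LinearMap.zero_apply]

/-- The vectors orthogonal to all the given ones. -/
def perp (Q : QuadraticForm F V) {k : ℕ} (a : Fin k → V) : Submodule F V :=
  LinearMap.ker (LinearMap.pi fun i => polarBilin Q (a i))

theorem mem_perp {k : ℕ} {a : Fin k → V} {x : V} : x ∈ perp Q a ↔ ∀ i, polar Q (a i) x = 0 := by
  simp [perp, funext_iff]

theorem finrank_perp [FiniteDimensional F V] {k : ℕ} (a : Fin k → V) :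
    Module.finrank F V ≤ Module.finrank F (perp Q a) + k := by
  have h1 := LinearMap.finrank_range_add_finrank_ker (LinearMap.pi fun i => polarBilin Q (a i))
  have h2 := Submodule.finrank_le (LinearMap.range (LinearMap.pi fun i => polarBilin Q (a i)))
  rw [Module.finrank_fin_fun] at h2
  unfold perp
  omega

theorem exists_not_mem_span [FiniteDimensional F V] {k l : ℕ} (U : Submodule F V)
    (hU : l ≤ Module.finrank F U) (b : Fin k → V) (hkl : k < l) :
    ∃ x ∈ U, x ∉ Submodule.span F (Set.range b) := by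
  by_contra hc
  push Not at hc
  have h1 := Submodule.finrank_mono (show U ≤ Submodule.span F (Set.range b) from hc)
  have h2 := finrank_range_le_card (R := F) b
  rw [Fintype.card_fin] at h2
  unfold Set.finrank at h2
  omega

/-! ### Siegel transformations -/

open scoped Classical in
/-- The Siegel transformation, extended by `1`. -/
noncomputable def sg (Q : QuadraticForm F V) (e w : V) : orth Q :=
  if he : Q e = 0 ∧ polar Q e w = 0 then siegel Q e w he.1 he.2 else 1

theorem sg_eq {e w : V} (he : Q e = 0) (hw : polar Q e w = 0) : sg Q e w = siegel Q e w he hw :=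
  dif_pos ⟨he, hw⟩

theorem sg_apply {e w : V} (he : Q e = 0) (hw : polar Q e w = 0) (x : V) :
    (sg Q e w).1 x = x + polar Q e x • w - (polar Q w x + Q w * polar Q e x) • e := by
  rw [sg_eq he hw, siegel_apply]

variable [Fintype F]

theorem sg_mem (h : Good Q) (e w : V) : sg Q e w ∈ sGroup Q := by
  have := h.finDim
  rw [sg]
  split_ifs with he
  · exact siegel_mem h.nd h.dim5 he.1 he.2
  · exact Subgroup.one_mem _

/-- The Siegel transformation as an element of the group of Siegel transformations. -/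
noncomputable def Good.sg (h : Good Q) (e w : V) : sGroup Q :=
  ⟨AutOrth45.sg Q e w, sg_mem h e w⟩

theorem Good.sg_val (h : Good Q) (e w : V) : (h.sg e w).1 = AutOrth45.sg Q e w := rfl

/-- Two elements are equal when they act equally. -/
theorem s_ext {g k : sGroup Q} (H : ∀ x, g.1.1 x = k.1.1 x) : g = k := Subtype.ext (orth_ext H)

theorem s_mul_apply (g k : sGroup Q) (x : V) : (g * k).1.1 x = g.1.1 (k.1.1 x) := rfl

theorem s_one_apply (x : V) : (1 : sGroup Q).1.1 x = x := rfl

theorem s_inv_apply_self (g : sGroup Q) (x : V) : (g⁻¹).1.1 (g.1.1 x) = x :=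
  g.1.1.symm_apply_apply x

theorem s_apply_inv_self (g : sGroup Q) (x : V) : g.1.1 ((g⁻¹).1.1 x) = x :=
  g.1.1.apply_symm_apply x

theorem Good.sg_app (h : Good Q) {e w : V} (he : Q e = 0) (hw : polar Q e w = 0) (x : V) :
    (h.sg e w).1.1 x = x + polar Q e x • w - (polar Q w x + Q w * polar Q e x) • e :=
  sg_apply he hw x

theorem Good.sg_mul (h : Good Q) {e w w' : V} (he : Q e = 0) (hw : polar Q e w = 0)
    (hw' : polar Q e w' = 0) : h.sg e w * h.sg e w' = h.sg e (w + w') := by
  apply Subtype.ext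
  show AutOrth45.sg Q e w * AutOrth45.sg Q e w' = AutOrth45.sg Q e (w + w')
  rw [sg_eq he hw, sg_eq he hw', sg_eq he (by rw [polar_add_right, hw, hw', add_zero]),
    siegel_mul he hw hw']

theorem Good.sg_zero (h : Good Q) {e : V} (he : Q e = 0) : h.sg e 0 = 1 := by
  apply s_ext
  intro x
  rw [h.sg_app he (polar_zero_right Q e), s_one_apply]
  simp

theorem Good.sg_comm (h : Good Q) {e w w' : V} (he : Q e = 0) (hw : polar Q e w = 0)
    (hw' : polar Q e w' = 0) : Commute (h.sg e w) (h.sg e w') := by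
  show _ * _ = _ * _
  rw [h.sg_mul he hw hw', h.sg_mul he hw' hw, add_comm]

theorem Good.sg_inv (h : Good Q) {e w : V} (he : Q e = 0) (hw : polar Q e w = 0) :
    (h.sg e w)⁻¹ = h.sg e (-w) := by
  refine inv_eq_of_mul_eq_one_right ?_
  rw [h.sg_mul he hw (by rw [polar_neg_right, hw, neg_zero]), add_neg_cancel, h.sg_zero he]

theorem Good.sg_pow (h : Good Q) {e w : V} (he : Q e = 0) (hw : polar Q e w = 0) (k : ℕ) :
    h.sg e w ^ k = h.sg e ((k : F) • w) := by
  induction k with
  | zero => rw [pow_zero, Nat.cast_zero, zero_smul, h.sg_zero he]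
  | succ k ih =>
    rw [pow_succ, ih, h.sg_mul he (by rw [polar_smul_right, hw, smul_zero]) hw, Nat.cast_succ,
      add_smul, one_smul]

theorem Good.conj_sg (h : Good Q) (g : sGroup Q) {e w : V} (he : Q e = 0) (hw : polar Q e w = 0) :
    g * h.sg e w * g⁻¹ = h.sg (g.1.1 e) (g.1.1 w) := by
  apply Subtype.ext
  show g.1 * AutOrth45.sg Q e w * g.1⁻¹ = _
  rw [sg_eq he hw, conj_siegel]
  exact (sg_eq _ _).symm

theorem Good.sg_scale (h : Good Q) {e w : V} {c : F} (he : Q e = 0) (hw : polar Q e w = 0) :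
    h.sg (c • e) w = h.sg e (c • w) := by
  apply s_ext
  intro x
  rw [h.sg_app (by rw [QuadraticMap.map_smul, he, smul_zero])
      (by rw [polar_smul_left, hw, smul_zero]),
    h.sg_app he (by rw [polar_smul_right, hw, smul_zero]), polar_smul_left, polar_smul_left,
    QuadraticMap.map_smul]
  simp only [smul_eq_mul]
  module

theorem Good.sg_fix (h : Good Q) {e w : V} (he : Q e = 0) (hw : polar Q e w = 0) :
    (h.sg e w).1.1 e = e := by
  rw [h.sg_app he hw, polar_self_mul, he, polar_comm Q w e, hw]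
  simp

theorem Good.sg_add_smul (h : Good Q) {e w : V} (he : Q e = 0) (hw : polar Q e w = 0) (c : F) :
    h.sg e (w + c • e) = h.sg e w := by
  have hew : polar Q e (w + c • e) = 0 := by
    rw [polar_add_right, polar_smul_right, hw, polar_self_mul, he]; simp
  apply s_ext
  intro x
  rw [h.sg_app he hew, h.sg_app he hw, QuadraticMap.map_add (⇑Q), QuadraticMap.map_smul, he,
    polar_smul_right, polar_comm Q w e, hw, polar_add_left, polar_smul_left]
  simp only [smul_eq_mul]
  module

/-- The parameter of a Siegel transformation is determined modulo its vector. -/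
theorem Good.sg_inj (h : Good Q) {e w w' : V} (he : Q e = 0) (he0 : e ≠ 0)
    (hw : polar Q e w = 0) (hw' : polar Q e w' = 0) (heq : h.sg e w = h.sg e w') :
    w - w' ∈ Submodule.span F {e} := by
  obtain ⟨z, hz⟩ := exists_polar_ne_zero h.reg he he0
  have h1 := congrArg (fun g : sGroup Q => g.1.1 z) heq
  simp only [h.sg_app he hw, h.sg_app he hw'] at h1
  rw [Submodule.mem_span_singleton]
  refine ⟨(polar Q e z)⁻¹ * ((polar Q w z + Q w * polar Q e z)
    - (polar Q w' z + Q w' * polar Q e z)), smul_right_injective V hz ?_⟩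
  simp only [smul_smul, ← mul_assoc, mul_inv_cancel₀ hz, one_mul, sub_smul, smul_sub]
  rw [← sub_eq_zero] at h1 ⊢
  rw [← neg_eq_zero, ← h1]
  module

/-- The Siegel transformations with the vector `e`. -/
def InQ (h : Good Q) (e : V) (x : sGroup Q) : Prop := ∃ w, polar Q e w = 0 ∧ x = h.sg e w

/-! ### Root elements -/

/-- A root element with the given pair of vectors. -/
def IsPair (Q : QuadraticForm F V) (a b : V) : Prop :=
  Q a = 0 ∧ Q b = 0 ∧ polar Q a b = 0 ∧ LinearIndependent F ![a, b]

theorem IsPair.swap {a b : V} (hp : IsPair Q a b) : IsPair Q b a :=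
  ⟨hp.2.1, hp.1, by rw [polar_comm]; exact hp.2.2.1, LinearIndependent.pair_symm_iff.1 hp.2.2.2⟩

theorem IsPair.of_not_mem {a b : V} (ha : Q a = 0) (hb : Q b = 0) (hab : polar Q a b = 0)
    (ha0 : a ≠ 0) (hm : b ∉ Submodule.span F {a}) : IsPair Q a b :=
  ⟨ha, hb, hab, (LinearIndependent.pair_iff' ha0).2 fun c hc =>
    hm (Submodule.mem_span_singleton.2 ⟨c, hc⟩)⟩

theorem IsPair.not_mem {a b : V} (hp : IsPair Q a b) : b ∉ Submodule.span F {a} := fun hm => by
  obtain ⟨c, hc⟩ := Submodule.mem_span_singleton.1 hm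
  exact (LinearIndependent.pair_iff' (by simpa using hp.2.2.2.ne_zero 0)).1 hp.2.2.2 c hc

theorem IsPair.ne_zero {a b : V} (hp : IsPair Q a b) : a ≠ 0 := by
  simpa using hp.2.2.2.ne_zero 0

theorem Good.root_app (h : Good Q) {a b : V} (ha : Q a = 0) (hb : Q b = 0)
    (hab : polar Q a b = 0) (x : V) :
    (h.sg a b).1.1 x = x + polar Q a x • b - polar Q b x • a := by
  rw [h.sg_app ha hab, hb, zero_mul, add_zero]

theorem Good.root_swap (h : Good Q) {a b : V} (ha : Q a = 0) (hb : Q b = 0)
    (hab : polar Q a b = 0) : h.sg b a = (h.sg a b)⁻¹ := by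
  rw [h.sg_inv ha hab]
  apply s_ext
  intro x
  rw [h.root_app hb ha (by rw [polar_comm]; exact hab),
    h.root_app ha (by rw [QuadraticMap.map_neg, hb]) (by rw [polar_neg_right, hab, neg_zero]),
    polar_neg_left]
  module

/-! ### The centre and unique lifts -/

/-- The simple quotient. -/
abbrev PS (Q : QuadraticForm F V) : Type _ := sGroup Q ⧸ Subgroup.center (sGroup Q)

/-- The natural map. -/
noncomputable abbrev mkP : sGroup Q →* PS Q := QuotientGroup.mk' _

/-- Elements of `p`-power order. -/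
def IsP (F : Type*) [Field F] {G : Type*} [Monoid G] (x : G) : Prop :=
  ∃ k : ℕ, x ^ ringChar F ^ k = 1

theorem prime_ringChar (F : Type*) [Field F] [Fintype F] : (ringChar F).Prime :=
  CharP.char_is_prime F (ringChar F)

theorem two_eq_zero_iff : (2 : F) = 0 ↔ ringChar F = 2 := by
  constructor
  · intro h2
    have : ringChar F ∣ 2 := by
      rw [← ringChar.spec]; exact_mod_cast h2
    exact (Nat.prime_dvd_prime_iff_eq (prime_ringChar F) Nat.prime_two).1 this
  · intro hp
    have h := (ringChar.spec F (ringChar F)).2 dvd_rfl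
    rw [hp] at h
    exact_mod_cast h

theorem Good.center_mem (h : Good Q) {z : sGroup Q} (hz : z ∈ Subgroup.center (sGroup Q)) :
    z.1 = 1 ∨ z.1 = negOne Q := by
  have := h.finDim
  obtain ⟨e, he, he0⟩ := exists_singular h.reg (by have := h.dim; omega)
  refine eq_one_or_negOne_of_lines h.reg he he0 (by have := h.dim; omega) fun u hu =>
    exists_smul_of_commute h.nd (by have := h.dim; omega) (fun k hk => ?_) hu
  rw [commutator_eq_sGroup h.nd h.dim5] at hk
  exact (congrArg Subtype.val (Subgroup.mem_center_iff.1 hz ⟨k, hk⟩)).symm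

theorem Good.center_sq (h : Good Q) {z : sGroup Q} (hz : z ∈ Subgroup.center (sGroup Q)) :
    z ^ 2 = 1 := by
  apply s_ext
  intro x
  rw [pow_two, s_mul_apply, s_one_apply]
  rcases h.center_mem hz with h1 | h1 <;> rw [h1]
  · rfl
  · rw [negOne_apply, negOne_apply, neg_neg]

theorem Good.center_pPow (h : Good Q) {z : sGroup Q} (hz : z ∈ Subgroup.center (sGroup Q)) {k : ℕ}
    (hk : z ^ ringChar F ^ k = 1) : z = 1 := by
  by_cases h2 : ringChar F = 2
  · refine Subtype.ext ?_
    rcases h.center_mem hz with h1 | h1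
    · exact h1
    · rw [h1, negOne_eq_one_of_two_eq_zero (two_eq_zero_iff.2 h2)]; rfl
  · obtain ⟨c, hc⟩ := ((prime_ringChar F).odd_of_ne_two h2).pow (n := k)
    rw [hc, pow_succ, pow_mul, h.center_sq hz, one_pow, one_mul] at hk
    exact hk

/-- Elements of `p`-power order are determined by their images. -/
theorem Good.eq_of_mk (h : Good Q) {s t : sGroup Q} (hs : IsP F s) (ht : IsP F t)
    (hst : mkP s = mkP t) : s = t := by
  obtain ⟨k, hs⟩ := hs
  obtain ⟨l, ht⟩ := ht
  have hz := QuotientGroup.eq.1 hst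
  have hcm : Commute s⁻¹ t := by
    have h1 := Subgroup.mem_center_iff.1 hz s
    rw [mul_inv_cancel_left] at h1
    show s⁻¹ * t = t * s⁻¹
    calc s⁻¹ * t = (s⁻¹ * t * s) * s⁻¹ := by group
      _ = t * s⁻¹ := by rw [← h1]
  have h3 : (s⁻¹ * t) ^ ringChar F ^ (k + l) = 1 := by
    rw [hcm.mul_pow, inv_pow, pow_add, pow_mul, hs, one_pow, inv_one, one_mul,
      mul_comm (ringChar F ^ k), pow_mul, ht, one_pow]
  exact inv_mul_eq_one.1 (h.center_pPow hz h3)

theorem Good.exists_lift (h : Good Q) {y : PS Q} (hy : IsP F y) :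
    ∃ x : sGroup Q, IsP F x ∧ mkP x = y := by
  obtain ⟨k, hk⟩ := hy
  obtain ⟨v, rfl⟩ := QuotientGroup.mk'_surjective _ y
  rw [← map_pow, QuotientGroup.mk'_apply, QuotientGroup.eq_one_iff] at hk
  by_cases h2 : ringChar F = 2
  · refine ⟨v, ⟨k + 1, ?_⟩, rfl⟩
    rw [pow_succ, pow_mul]
    conv_lhs => rw [h2]
    rw [h2] at hk
    exact h.center_sq hk
  · obtain ⟨c, hc⟩ := ((prime_ringChar F).odd_of_ne_two h2).pow (n := k)
    refine ⟨v ^ (1 + ringChar F ^ k), ⟨k, ?_⟩, ?_⟩
    · rw [← pow_mul, mul_comm, pow_mul, hc, show 1 + (2 * c + 1) = 2 * (c + 1) by ring, pow_mul,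
        ← hc, h.center_sq hk, one_pow]
    · rw [pow_add, pow_one, map_mul, show mkP (v ^ ringChar F ^ k) = 1 from
        (QuotientGroup.eq_one_iff _).2 hk, mul_one]

theorem isP_one {G : Type*} [Monoid G] : IsP F (1 : G) := ⟨0, one_pow _⟩

theorem IsP.map {G H : Type*} [Monoid G] [Monoid H] {x : G} (hx : IsP F x) {M : Type*}
    [FunLike M G H] [MonoidHomClass M G H] (f : M) : IsP F (f x) := by
  obtain ⟨k, hk⟩ := hx
  exact ⟨k, by rw [← map_pow, hk, map_one]⟩

theorem IsP.mul {G : Type*} [Monoid G] {x y : G} (hx : IsP F x) (hy : IsP F y)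
    (hc : Commute x y) : IsP F (x * y) := by
  obtain ⟨k, hk⟩ := hx
  obtain ⟨l, hl⟩ := hy
  refine ⟨k + l, ?_⟩
  rw [hc.mul_pow, pow_add, pow_mul, hk, one_pow, one_mul, mul_comm, pow_mul, hl, one_pow]

theorem IsP.conj {G : Type*} [Group G] {x : G} (hx : IsP F x) (g : G) : IsP F (g * x * g⁻¹) := by
  obtain ⟨k, hk⟩ := hx
  exact ⟨k, by rw [conj_pow, hk, mul_one, mul_inv_cancel]⟩

theorem Good.isP_sg (h : Good Q) (e w : V) : IsP F (h.sg e w) := by
  by_cases he : Q e = 0 ∧ polar Q e w = 0
  · refine ⟨1, ?_⟩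
    rw [pow_one, h.sg_pow he.1 he.2, ringChar.Nat.cast_ringChar, zero_smul, h.sg_zero he.1]
  · have : h.sg e w = 1 := Subtype.ext (dif_neg he)
    rw [this]
    exact isP_one

theorem Good.commute_of_mk (h : Good Q) {u v : sGroup Q} (hu : IsP F u) (hv : IsP F v)
    (hc : Commute (mkP u) (mkP v)) : Commute u v := by
  have h1 : u * v * u⁻¹ = v := h.eq_of_mk (hv.conj u) hv (by
    rw [map_mul, map_mul, map_inv, hc.eq, mul_inv_cancel_right])
  exact mul_inv_eq_iff_eq_mul.1 h1

/-- The lift of an automorphism to elements of `p`-power order. -/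
noncomputable def lift (α : MulAut (PS Q)) (x : sGroup Q) : sGroup Q :=
  Classical.epsilon fun y => IsP F y ∧ mkP y = α (mkP x)

theorem Good.lift_spec (h : Good Q) (α : MulAut (PS Q)) {x : sGroup Q} (hx : IsP F x) :
    IsP F (lift α x) ∧ mkP (lift α x) = α (mkP x) :=
  Classical.epsilon_spec (p := fun y => IsP F y ∧ mkP y = α (mkP x))
    (h.exists_lift ((hx.map mkP).map α))

theorem Good.lift_eq (h : Good Q) (α : MulAut (PS Q)) {x y : sGroup Q} (hx : IsP F x)
    (hy : IsP F y) (he : mkP y = α (mkP x)) : lift α x = y :=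
  h.eq_of_mk (h.lift_spec α hx).1 hy ((h.lift_spec α hx).2.trans he.symm)

theorem Good.lift_inj (h : Good Q) (α : MulAut (PS Q)) {x y : sGroup Q} (hx : IsP F x)
    (hy : IsP F y) (he : lift α x = lift α y) : x = y :=
  h.eq_of_mk hx hy (α.injective (by rw [← (h.lift_spec α hx).2, he, (h.lift_spec α hy).2]))

theorem Good.lift_lift (h : Good Q) (α β : MulAut (PS Q)) {x : sGroup Q} (hx : IsP F x) :
    lift α (lift β x) = lift (α * β) x :=
  (h.lift_eq (α * β) hx (h.lift_spec α (h.lift_spec β hx).1).1 (by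
    rw [(h.lift_spec α (h.lift_spec β hx).1).2, (h.lift_spec β hx).2]; rfl)).symm

theorem Good.lift_one_aut (h : Good Q) {x : sGroup Q} (hx : IsP F x) :
    lift (1 : MulAut (PS Q)) x = x := h.lift_eq 1 hx hx rfl

theorem Good.lift_inv_lift (h : Good Q) (α : MulAut (PS Q)) {x : sGroup Q} (hx : IsP F x) :
    lift α⁻¹ (lift α x) = x := by
  rw [h.lift_lift _ _ hx, inv_mul_cancel, h.lift_one_aut hx]

theorem Good.lift_lift_inv (h : Good Q) (α : MulAut (PS Q)) {x : sGroup Q} (hx : IsP F x) :
    lift α (lift α⁻¹ x) = x := by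
  rw [h.lift_lift _ _ hx, mul_inv_cancel, h.lift_one_aut hx]

theorem Good.lift_one (h : Good Q) (α : MulAut (PS Q)) : lift α 1 = 1 :=
  h.lift_eq α isP_one isP_one (by rw [map_one, map_one])

theorem Good.commute_lift (h : Good Q) (α : MulAut (PS Q)) {x y : sGroup Q} (hx : IsP F x)
    (hy : IsP F y) : Commute (lift α x) (lift α y) ↔ Commute x y := by
  have hX := h.lift_spec α hx
  have hY := h.lift_spec α hy
  constructor
  · intro hc
    have h1 := (hc.map mkP).map α.symm
    rw [hX.2, hY.2, α.symm_apply_apply, α.symm_apply_apply] at h1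
    exact h.commute_of_mk hx hy h1
  · intro hc
    refine h.commute_of_mk hX.1 hY.1 ?_
    rw [hX.2, hY.2]
    exact (hc.map mkP).map α

theorem Good.lift_mul (h : Good Q) (α : MulAut (PS Q)) {x y : sGroup Q} (hx : IsP F x)
    (hy : IsP F y) (hc : Commute x y) : lift α (x * y) = lift α x * lift α y :=
  h.lift_eq α (hx.mul hy hc) ((h.lift_spec α hx).1.mul (h.lift_spec α hy).1
    ((h.commute_lift α hx hy).2 hc))
    (by rw [map_mul, (h.lift_spec α hx).2, (h.lift_spec α hy).2, map_mul, map_mul])

theorem Good.lift_conj (h : Good Q) (α : MulAut (PS Q)) {g x : sGroup Q} (hg : IsP F g)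
    (hx : IsP F x) : lift α (g * x * g⁻¹) = lift α g * lift α x * (lift α g)⁻¹ :=
  h.lift_eq α (hx.conj g) ((h.lift_spec α hx).1.conj _) (by
    rw [map_mul, map_mul, map_inv, (h.lift_spec α hg).2, (h.lift_spec α hx).2]
    simp only [map_mul, map_inv])

end Cfsg.Agent.AutOrth45
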