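import Mathlib
import Cfsg.Agent.Lib.AutOrth45Basic

/-!
Lines of root elements of orthogonal groups, and their incidence expressed by commutation and
products.
-/

set_option autoImplicit false
set_option linter.unusedSectionVars false

namespace Cfsg.Agent.AutOrth45

open QuadraticMap
open Cfsg.Agent.OrthUnitaryQuad
open Cfsg.Agent.OrthUnitaryRefl
open Cfsg.Agent.OrthUnitarySimple

variable {F V : Type*} [Field F] [Fintype F] [AddCommGroup V] [Module F V]
  {Q : QuadraticForm F V}

/-- The image of `x - 1`. -/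
noncomputable def line (x : sGroup Q) : Submodule F V :=
  LinearMap.range (x.1.1.toLinearMap - LinearMap.id)

theorem mem_line {x : sGroup Q} {u : V} : u ∈ line x ↔ ∃ v, x.1.1 v - v = u := by
  simp [line, LinearMap.mem_range]

/-- Root elements. -/
def IsRoot (x : sGroup Q) : Prop := ∃ a b, IsPair Q a b ∧ x.1 = sg Q a b

theorem IsRoot.eq (h : Good Q) {x : sGroup Q} (hx : IsRoot x) :
    ∃ a b, IsPair Q a b ∧ x = h.sg a b := by
  obtain ⟨a, b, hp, he⟩ := hx
  exact ⟨a, b, hp, Subtype.ext he⟩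

theorem Good.isRoot_sg (h : Good Q) {a b : V} (hp : IsPair Q a b) : IsRoot (h.sg a b) :=
  ⟨a, b, hp, rfl⟩

theorem Good.line_sg (h : Good Q) {a b : V} (hp : IsPair Q a b) :
    line (h.sg a b) = Submodule.span F {a, b} := by
  obtain ⟨ha, hb, hab, hli⟩ := hp
  apply le_antisymm
  · intro u hu
    obtain ⟨v, rfl⟩ := mem_line.1 hu
    rw [h.root_app ha hb hab, Submodule.mem_span_pair]
    exact ⟨-polar Q b v, polar Q a v, by module⟩
  · rw [Submodule.span_le, Set.insert_subset_iff, Set.singleton_subset_iff]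
    constructor
    · obtain ⟨v, hv⟩ := h.exists_value ![a, b] hli ![0, -1]
      have h1 : polar Q a v = 0 := hv 0
      have h2 : polar Q b v = -1 := hv 1
      refine mem_line.2 ⟨v, ?_⟩
      rw [h.root_app ha hb hab, h1, h2]
      module
    · obtain ⟨v, hv⟩ := h.exists_value ![a, b] hli ![1, 0]
      have h1 : polar Q a v = 1 := hv 0
      have h2 : polar Q b v = 0 := hv 1
      refine mem_line.2 ⟨v, ?_⟩
      rw [h.root_app ha hb hab, h1, h2]
      module

theorem Good.finrank_line (h : Good Q) {x : sGroup Q} (hx : IsRoot x) :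
    Module.finrank F (line x) = 2 := by
  obtain ⟨a, b, hp, rfl⟩ := hx.eq h
  rw [h.line_sg hp, show ({a, b} : Set V) = Set.range ![a, b] by simp [Set.pair_comm],
    finrank_span_eq_card hp.2.2.2, Fintype.card_fin]

theorem Good.left_mem_line (h : Good Q) {a b : V} (hp : IsPair Q a b) : a ∈ line (h.sg a b) := by
  rw [h.line_sg hp]; exact Submodule.subset_span (by simp)

theorem Good.right_mem_line (h : Good Q) {a b : V} (hp : IsPair Q a b) : b ∈ line (h.sg a b) := by
  rw [h.line_sg hp]; exact Submodule.subset_span (by simp)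

theorem Good.line_ts (h : Good Q) {x : sGroup Q} (hx : IsRoot x) {u v : V} (hu : u ∈ line x)
    (hv : v ∈ line x) : Q u = 0 ∧ polar Q u v = 0 := by
  obtain ⟨a, b, hp, rfl⟩ := hx.eq h
  obtain ⟨ha, hb, hab, -⟩ := id hp
  rw [h.line_sg hp] at hu hv
  obtain ⟨s, t, rfl⟩ := Submodule.mem_span_pair.1 hu
  obtain ⟨s', t', rfl⟩ := Submodule.mem_span_pair.1 hv
  refine ⟨?_, ?_⟩
  · rw [QuadraticMap.map_add (⇑Q), QuadraticMap.map_smul, QuadraticMap.map_smul, polar_smul_left,
      polar_smul_right, ha, hb, hab]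
    simp
  · simp only [polar_add_left, polar_add_right, polar_smul_left, polar_smul_right, polar_self_mul,
      ha, hb, hab, polar_comm Q b a, smul_eq_mul]
    ring

/-- Every point of a line can serve as the first vector. -/
theorem Good.through (h : Good Q) {x : sGroup Q} (hx : IsRoot x) {p : V} (hp : p ∈ line x)
    (hp0 : p ≠ 0) : ∃ q, IsPair Q p q ∧ x = h.sg p q := by
  obtain ⟨a, b, hab, rfl⟩ := hx.eq h
  rw [h.line_sg hab] at hp
  obtain ⟨s, t, rfl⟩ := Submodule.mem_span_pair.1 hp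
  obtain ⟨hQa, hQb, hBab, -⟩ := id hab
  have ts : ∀ s' t' : F, Q (s' • a + t' • b) = 0 ∧ polar Q (s • a + t • b) (s' • a + t' • b) = 0 := by
    intro s' t'
    refine ⟨?_, ?_⟩
    · rw [QuadraticMap.map_add (⇑Q), QuadraticMap.map_smul, QuadraticMap.map_smul, polar_smul_left,
        polar_smul_right, hQa, hQb, hBab]
      simp
    · simp only [polar_add_left, polar_add_right, polar_smul_left, polar_smul_right, polar_self_mul,
        hQa, hQb, hBab, polar_comm Q b a, smul_eq_mul]
      ring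
  obtain ⟨s', t', hd⟩ : ∃ s' t', s * t' - t * s' = 1 := by
    by_cases hs : s = 0
    · subst hs
      have ht : t ≠ 0 := fun h0 => hp0 (by rw [h0]; simp)
      exact ⟨-t⁻¹, 0, by field_simp; ring⟩
    · exact ⟨0, s⁻¹, by field_simp; ring⟩
  obtain ⟨hq, hpq⟩ := ts s' t'
  have hpair : IsPair Q (s • a + t • b) (s' • a + t' • b) := by
    refine ⟨(ts s t).1, hq, hpq, LinearIndependent.pair_iff.2 fun u v huv => ?_⟩
    have h2 := LinearIndependent.pair_iff.1 hab.2.2.2 (u * s + v * s') (u * t + v * t')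
      (by rw [← huv]; module)
    exact ⟨by linear_combination t' * h2.1 - s' * h2.2 - u * hd,
      by linear_combination s * h2.2 - t * h2.1 - v * hd⟩
  refine ⟨_, hpair, s_ext fun v => ?_⟩
  rw [h.root_app hQa hQb hBab, h.root_app hpair.1 hq hpq, polar_add_left, polar_add_left,
    polar_smul_left, polar_smul_left, polar_smul_left, polar_smul_left]
  simp only [smul_eq_mul]
  match_scalars
  · ring
  · linear_combination -(polar Q a v) * hd
  · linear_combination (polar Q b v) * hd

theorem Good.isP_root (h : Good Q) {x : sGroup Q} (hx : IsRoot x) : IsP F x := by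
  obtain ⟨a, b, -, rfl⟩ := hx.eq h
  exact h.isP_sg a b

theorem Good.root_ne_one (h : Good Q) {x : sGroup Q} (hx : IsRoot x) : x ≠ 1 := by
  rintro rfl
  have h2 := h.finrank_line hx
  have : line (1 : sGroup Q) = ⊥ := by
    refine (Submodule.eq_bot_iff _).2 fun u hu => ?_
    obtain ⟨v, rfl⟩ := mem_line.1 hu
    rw [s_one_apply, sub_self]
  rw [this, finrank_bot] at h2
  omega

/-- Which Siegel transformations are roots. -/
theorem Good.of_isRoot_sg (h : Good Q) {e w : V} (he : Q e = 0) (he0 : e ≠ 0)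
    (hw : polar Q e w = 0) (hr : IsRoot (h.sg e w)) : IsPair Q e w := by
  obtain ⟨v, hv⟩ := h.exists_value ![e] (linearIndependent_unique_iff.2 (by simpa using he0)) ![1]
  have hev : polar Q e v = 1 := hv 0
  have hm : w - (polar Q w v + Q w) • e ∈ line (h.sg e w) := mem_line.2 ⟨v, by
    rw [h.sg_app he hw, hev]; module⟩
  have hQw : Q w = 0 := by
    have h1 := (h.line_ts hr hm hm).1
    rw [sub_eq_add_neg, ← neg_smul, QuadraticMap.map_add (⇑Q), QuadraticMap.map_smul, he,
      polar_smul_right, polar_comm Q w e, hw] at h1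
    simpa using h1
  refine IsPair.of_not_mem he hQw hw he0 fun hwm => h.root_ne_one hr ?_
  obtain ⟨c, rfl⟩ := Submodule.mem_span_singleton.1 hwm
  rw [show c • e = 0 + c • e by rw [zero_add], h.sg_add_smul he (polar_zero_right Q e), h.sg_zero he]

/-! ### Commutation -/

/-- Two lines meet. -/
def Meets (x y : sGroup Q) : Prop := ∃ p, p ≠ 0 ∧ p ∈ line x ∧ p ∈ line y

/-- Two lines are orthogonal. -/
def Orth (x y : sGroup Q) : Prop := ∀ u ∈ line x, ∀ v ∈ line y, polar Q u v = 0

theorem Orth.symm {x y : sGroup Q} (ho : Orth x y) : Orth y x := fun u hu v hv => by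
  rw [polar_comm]; exact ho v hv u hu

theorem Meets.symm {x y : sGroup Q} (hm : Meets x y) : Meets y x := by
  obtain ⟨p, h0, h1, h2⟩ := hm
  exact ⟨p, h0, h2, h1⟩

theorem Good.orth_self (h : Good Q) {x : sGroup Q} (hx : IsRoot x) : Orth x x :=
  fun _ hu _ hv => (h.line_ts hx hu hv).2

theorem Good.meets_self (h : Good Q) {x : sGroup Q} (hx : IsRoot x) : Meets x x := by
  obtain ⟨a, b, hp, rfl⟩ := hx.eq h
  exact ⟨a, hp.ne_zero, h.left_mem_line hp, h.left_mem_line hp⟩

theorem Good.commute_iff (h : Good Q) {x y : sGroup Q} (hx : IsRoot x) (hy : IsRoot y) :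
    Commute x y ↔ Orth x y ∨ Meets x y := by
  constructor
  · intro hc
    by_contra hno
    rw [not_or] at hno
    apply hno.1
    intro u hu v hv
    by_cases hu0 : u = 0
    · rw [hu0, polar_zero_left]
    obtain ⟨b, hpx, rfl⟩ := h.through hx hu hu0
    obtain ⟨c, d, hpy, rfl⟩ := hy.eq h
    have hconj : h.sg ((h.sg c d).1.1 u) ((h.sg c d).1.1 b) = h.sg u b := by
      rw [← h.conj_sg _ hpx.1 hpx.2.2.1, hc.symm.eq, mul_inv_cancel_right]
    have hp' : IsPair Q ((h.sg c d).1.1 u) ((h.sg c d).1.1 b) := by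
      refine ⟨by rw [map_orth, hpx.1], by rw [map_orth, hpx.2.1], by rw [polar_orth, hpx.2.2.1],
        LinearIndependent.pair_iff.2 fun s t hst => ?_⟩
      rw [← map_smul, ← map_smul, ← map_add, LinearEquiv.map_eq_zero_iff] at hst
      exact LinearIndependent.pair_iff.1 hpx.2.2.2 s t hst
    have hm : (h.sg c d).1.1 u - u ∈ line (h.sg u b) := by
      refine Submodule.sub_mem _ ?_ (h.left_mem_line hpx)
      rw [← hconj]
      exact h.left_mem_line hp'
    have hd : (h.sg c d).1.1 u - u = 0 := by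
      by_contra hne
      exact hno.2 ⟨_, hne, hm, mem_line.2 ⟨u, rfl⟩⟩
    rw [h.root_app hpy.1 hpy.2.1 hpy.2.2.1] at hd
    have h0 := LinearIndependent.pair_iff.1 hpy.2.2.2 (-polar Q d u) (polar Q c u)
      (by rw [← hd]; module)
    rw [h.line_sg hpy] at hv
    obtain ⟨s, t, rfl⟩ := Submodule.mem_span_pair.1 hv
    rw [polar_add_right, polar_smul_right, polar_smul_right, polar_comm Q u c, h0.2,
      polar_comm Q u d, neg_eq_zero.1 h0.1]
    simp
  · rintro (ho | ⟨p, hp0, hpx, hpy⟩)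
    · obtain ⟨a, b, hpa, rfl⟩ := hx.eq h
      obtain ⟨c, d, hpc, rfl⟩ := hy.eq h
      have hfix : ∀ u ∈ line (h.sg a b), (h.sg c d).1.1 u = u := fun u hu => by
        rw [h.root_app hpc.1 hpc.2.1 hpc.2.2.1, polar_comm Q c u, polar_comm Q d u,
          ho u hu c (h.left_mem_line hpc), ho u hu d (h.right_mem_line hpc)]
        module
      have h1 := h.conj_sg (h.sg c d) hpa.1 hpa.2.2.1
      rw [hfix _ (h.left_mem_line hpa), hfix _ (h.right_mem_line hpa)] at h1
      exact (mul_inv_eq_iff_eq_mul.1 h1).symm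
    · obtain ⟨a, ha, rfl⟩ := h.through hx hpx hp0
      obtain ⟨c, hc, rfl⟩ := h.through hy hpy hp0
      exact h.sg_comm ha.1 ha.2.2.1 hc.2.2.1

/-! ### Equal lines -/

/-- Same commutation behaviour with all roots. -/
def SameG (x y : sGroup Q) : Prop := ∀ z, IsRoot z → (Commute z x ↔ Commute z y)

theorem Good.same_iff (h : Good Q) {x y : sGroup Q} (hx : IsRoot x) (hy : IsRoot y) :
    SameG x y ↔ line x = line y := by
  have := h.finDim
  constructor
  · intro hs
    by_contra hne
    obtain ⟨p, hpx, hpy⟩ : ∃ p ∈ line x, p ∉ line y := by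
      by_contra hc
      push Not at hc
      exact hne (Submodule.eq_of_le_of_finrank_eq (fun u hu => hc u hu)
        (by rw [h.finrank_line hx, h.finrank_line hy]))
    have hp0 : p ≠ 0 := fun h0 => hpy (h0 ▸ Submodule.zero_mem _)
    have hQp : Q p = 0 := (h.line_ts hx hpx hpx).1
    obtain ⟨c, hc0, hcy, hpc⟩ : ∃ c, c ≠ 0 ∧ c ∈ line y ∧ polar Q p c = 0 := by
      obtain ⟨c, d, hp, rfl⟩ := hy.eq h
      by_cases hd : polar Q p d = 0
      · exact ⟨d, hp.swap.ne_zero, h.right_mem_line hp, hd⟩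
      · refine ⟨polar Q p d • c - polar Q p c • d, fun h0 => hd ?_,
          Submodule.sub_mem _ (Submodule.smul_mem _ _ (h.left_mem_line hp))
            (Submodule.smul_mem _ _ (h.right_mem_line hp)), by
          rw [polar_sub_right, polar_smul_right, polar_smul_right, smul_eq_mul, smul_eq_mul]; ring⟩
        exact (LinearIndependent.pair_iff.1 hp.2.2.2 (polar Q p d) (-polar Q p c)
          (by rw [← h0]; module)).1
    have hQc : Q c = 0 := (h.line_ts hy hcy hcy).1
    obtain ⟨v, hv⟩ := h.exists_value ![p, c] ((LinearIndependent.pair_iff' hp0).2 fun s hs' => by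
      have hs0 : s ≠ 0 := fun h0 => hc0 (by rw [← hs', h0, zero_smul])
      exact hpy (by rw [show p = s⁻¹ • c by rw [← hs', inv_smul_smul₀ hs0]]
                    exact Submodule.smul_mem _ _ hcy)) ![0, 1]
    have h1 : polar Q p v = 0 := hv 0
    have h2 : polar Q c v = 1 := hv 1
    set q := v - Q v • c with hq
    have hQq : Q q = 0 := by
      rw [hq, sub_eq_add_neg, ← neg_smul, QuadraticMap.map_add (⇑Q), QuadraticMap.map_smul, hQc,
        polar_smul_right, polar_comm Q v c, h2]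
      simp
    have hpq : polar Q p q = 0 := by rw [hq, polar_sub_right, polar_smul_right, h1, hpc]; simp
    have hcq : polar Q c q = 1 := by
      rw [hq, polar_sub_right, polar_smul_right, h2, polar_self_mul, hQc]; simp
    have hpair : IsPair Q p q := IsPair.of_not_mem hQp hQq hpq hp0 fun hm => by
      obtain ⟨s, hs'⟩ := Submodule.mem_span_singleton.1 hm
      rw [← hs', polar_smul_right, polar_comm Q c p, hpc] at hcq
      simp at hcq
    have hz := (hs _ (h.isRoot_sg hpair)).1
      ((h.commute_iff (h.isRoot_sg hpair) hx).2 (Or.inr ⟨p, hp0, h.left_mem_line hpair, hpx⟩))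
    rcases (h.commute_iff (h.isRoot_sg hpair) hy).1 hz with ho | ⟨u, hu0, huz, huy⟩
    · have := ho q (h.right_mem_line hpair) c hcy
      rw [polar_comm, hcq] at this
      exact one_ne_zero this
    · rw [h.line_sg hpair] at huz
      obtain ⟨s, t, rfl⟩ := Submodule.mem_span_pair.1 huz
      have h3 := (h.line_ts hy hcy huy).2
      rw [polar_add_right, polar_smul_right, polar_smul_right, polar_comm Q c p, hpc, hcq] at h3
      simp at h3
      subst h3
      have hs0 : s ≠ 0 := fun h0 => hu0 (by rw [h0]; simp)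
      refine hpy ?_
      have := Submodule.smul_mem _ s⁻¹ huy
      rwa [zero_smul, add_zero, inv_smul_smul₀ hs0] at this
  · intro hl z hz
    simp only [h.commute_iff hz hx, h.commute_iff hz hy, Orth, Meets, hl]

/-! ### Adjacent lines -/

/-- Distinct meeting orthogonal lines. -/
def Adj (x y : sGroup Q) : Prop := line x ≠ line y ∧ Meets x y ∧ Orth x y

/-- Adjacency expressed in the group. -/
def AdjG (x y : sGroup Q) : Prop :=
  Commute x y ∧ ¬ SameG x y ∧
    ∃ x' y', IsRoot x' ∧ IsRoot y' ∧ SameG x x' ∧ SameG y y' ∧ IsRoot (x' * y')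

theorem Good.indep_four (h : Good Q) {x y : sGroup Q} {a b c d : V} (hab : IsPair Q a b)
    (hcd : IsPair Q c d) (hx : x = h.sg a b) (hy : y = h.sg c d) (hm : ¬ Meets x y) :
    LinearIndependent F ![a, b, c, d] := by
  subst hx hy
  rw [Fintype.linearIndependent_iff]
  intro g hg
  simp [Fin.sum_univ_four] at hg
  have h1 : g 0 • a + g 1 • b = 0 := by
    by_contra hne
    refine hm ⟨_, hne, ?_, ?_⟩
    · exact Submodule.add_mem _ (Submodule.smul_mem _ _ (h.left_mem_line hab))
        (Submodule.smul_mem _ _ (h.right_mem_line hab))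
    · rw [show g 0 • a + g 1 • b = -(g 2 • c + g 3 • d) by
        rw [eq_neg_iff_add_eq_zero, ← hg]; module]
      exact Submodule.neg_mem _ (Submodule.add_mem _ (Submodule.smul_mem _ _ (h.left_mem_line hcd))
        (Submodule.smul_mem _ _ (h.right_mem_line hcd)))
  have h2 : g 2 • c + g 3 • d = 0 := by
    rw [← hg, show g 0 • a + g 1 • b + g 2 • c + g 3 • d
      = (g 0 • a + g 1 • b) + (g 2 • c + g 3 • d) by module, h1, zero_add]
  have := LinearIndependent.pair_iff.1 hab.2.2.2 _ _ h1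
  have := LinearIndependent.pair_iff.1 hcd.2.2.2 _ _ h2
  intro i
  fin_cases i <;> simp_all

theorem Good.adj_iff (h : Good Q) {x y : sGroup Q} (hx : IsRoot x) (hy : IsRoot y) :
    AdjG x y ↔ Adj x y := by
  have := h.finDim
  constructor
  · rintro ⟨hc, hns, x', y', hx', hy', hsx, hsy, hr⟩
    have hne : line x ≠ line y := fun he => hns ((h.same_iff hx hy).2 he)
    have ex := (h.same_iff hx hx').1 hsx
    have ey := (h.same_iff hy hy').1 hsy
    refine ⟨hne, ?_⟩
    simp only [Meets, Orth, ex, ey]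
    show Meets x' y' ∧ Orth x' y'
    have hc' : Orth x' y' ∨ Meets x' y' := by
      have := (h.commute_iff hx hy).1 hc
      simpa only [Meets, Orth, ex, ey] using this
    by_cases hm : Meets x' y'
    swap
    · exfalso
      have ho := hc'.resolve_right hm
      obtain ⟨a, b, hab, rfl⟩ := hx'.eq h
      obtain ⟨c, d, hcd, rfl⟩ := hy'.eq h
      have hli := h.indep_four hab hcd rfl rfl hm
      have key : ∀ i : Fin 3, ![a, b, d] i ∈ line (h.sg a b * h.sg c d) := by
        intro i
        obtain ⟨v, hv⟩ := h.exists_value ![a, b, c, d] hli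
          (![![0, -1, 0, 0], ![1, 0, 0, 0], ![0, 0, 1, 0]] i)
        have e0 : polar Q a v = _ := hv 0
        have e1 : polar Q b v = _ := hv 1
        have e2 : polar Q c v = _ := hv 2
        have e3 : polar Q d v = _ := hv 3
        refine mem_line.2 ⟨v, ?_⟩
        rw [s_mul_apply, h.root_app hcd.1 hcd.2.1 hcd.2.2.1, h.root_app hab.1 hab.2.1 hab.2.2.1]
        simp only [polar_add_right, polar_sub_right, polar_smul_right,
          ho a (h.left_mem_line hab) c (h.left_mem_line hcd),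
          ho a (h.left_mem_line hab) d (h.right_mem_line hcd),
          ho b (h.right_mem_line hab) c (h.left_mem_line hcd),
          ho b (h.right_mem_line hab) d (h.right_mem_line hcd), e0, e1, e2, e3]
        fin_cases i <;> simp
      have h3 : LinearIndependent F ![a, b, d] := by
        have := hli.comp ![0, 1, 3] (by decide)
        convert this using 1
        funext i; fin_cases i <;> rfl
      have h4 := Submodule.finrank_mono (Submodule.span_le.2 (by
        rintro _ ⟨i, rfl⟩; exact key i) :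
        Submodule.span F (Set.range ![a, b, d]) ≤ line (h.sg a b * h.sg c d))
      rw [finrank_span_eq_card h3, Fintype.card_fin, h.finrank_line hr] at h4
      omega
    refine ⟨hm, ?_⟩
    obtain ⟨p, hp0, hpx, hpy⟩ := hm
    obtain ⟨a, ha, rfl⟩ := h.through hx' hpx hp0
    obtain ⟨c, hc2, rfl⟩ := h.through hy' hpy hp0
    rw [h.sg_mul ha.1 ha.2.2.1 hc2.2.2.1] at hr
    have hQ := (h.of_isRoot_sg ha.1 hp0 (by rw [polar_add_right, ha.2.2.1, hc2.2.2.1, add_zero])
      hr).2.1
    rw [QuadraticMap.map_add (⇑Q), ha.2.1, hc2.2.1, zero_add, zero_add] at hQ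
    intro u hu v hv
    rw [h.line_sg ha] at hu
    rw [h.line_sg hc2] at hv
    obtain ⟨s, t, rfl⟩ := Submodule.mem_span_pair.1 hu
    obtain ⟨s', t', rfl⟩ := Submodule.mem_span_pair.1 hv
    simp only [polar_add_left, polar_add_right, polar_smul_left, polar_smul_right, polar_self_mul,
      ha.1, hc2.2.2.1, polar_comm Q a p, ha.2.2.1, hQ, smul_eq_mul]
    ring
  · rintro ⟨hne, hm, ho⟩
    refine ⟨(h.commute_iff hx hy).2 (Or.inl ho), fun hs => hne ((h.same_iff hx hy).1 hs),
      x, y, hx, hy, fun z _ => Iff.rfl, fun z _ => Iff.rfl, ?_⟩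
    obtain ⟨p, hp0, hpx, hpy⟩ := hm
    obtain ⟨a, ha, rfl⟩ := h.through hx hpx hp0
    obtain ⟨c, hc, rfl⟩ := h.through hy hpy hp0
    rw [h.sg_mul ha.1 ha.2.2.1 hc.2.2.1]
    refine h.isRoot_sg (IsPair.of_not_mem ha.1 ?_ ?_ hp0 fun hmem => hne ?_)
    · rw [QuadraticMap.map_add (⇑Q), ha.2.1, hc.2.1,
        ho a (h.right_mem_line ha) c (h.right_mem_line hc)]
      simp
    · rw [polar_add_right, ha.2.2.1, hc.2.2.1, add_zero]
    · obtain ⟨s, hs⟩ := Submodule.mem_span_singleton.1 hmem
      refine (Submodule.eq_of_le_of_finrank_eq ?_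
        (by rw [h.finrank_line hy, h.finrank_line hx])).symm
      rw [h.line_sg hc, Submodule.span_le, Set.insert_subset_iff, Set.singleton_subset_iff]
      refine ⟨hpx, ?_⟩
      rw [show c = s • p - a by rw [hs]; abel]
      exact Submodule.sub_mem _ (Submodule.smul_mem _ _ hpx) (h.right_mem_line ha)

/-! ### Meeting lines -/

/-- No two common neighbours are adjacent. -/
def NoEdge (x y : sGroup Q) : Prop :=
  ∀ k z, IsRoot k → IsRoot z → AdjG k x → AdjG k y → AdjG z x → AdjG z y → ¬ AdjG z k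

/-- Neither adjacent nor on the same line. -/
def Apart (x y : sGroup Q) : Prop := ¬ AdjG x y ∧ ¬ SameG x y

/-- A common neighbour with three mutually apart common neighbours. -/
def Triple (x y : sGroup Q) : Prop :=
  ∃ k, IsRoot k ∧ AdjG k x ∧ AdjG k y ∧ ∃ z : Fin 3 → sGroup Q,
    (∀ i, IsRoot (z i) ∧ AdjG (z i) x ∧ AdjG (z i) y ∧ AdjG (z i) k) ∧
      ∀ i j, i ≠ j → Apart (z i) (z j)

/-- Meeting, expressed in the group. -/
def MeetG (x y : sGroup Q) : Prop :=
  SameG x y ∨ (Commute x y ∧ (AdjG x y ∨ NoEdge x y ∨ Triple x y))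

theorem Good.through_common (h : Good Q) {k : sGroup Q} (hk : IsRoot k) {p a b : V}
    (hpa : IsPair Q p a) (hpb : IsPair Q p b) (hab : polar Q a b ≠ 0)
    (h1 : Meets k (h.sg p a)) (h2 : Meets k (h.sg p b)) : p ∈ line k := by
  obtain ⟨u, hu0, huk, hu⟩ := h1
  obtain ⟨v, hv0, hvk, hv⟩ := h2
  rw [h.line_sg hpa] at hu
  rw [h.line_sg hpb] at hv
  obtain ⟨s, t, rfl⟩ := Submodule.mem_span_pair.1 hu
  obtain ⟨s', t', rfl⟩ := Submodule.mem_span_pair.1 hv
  have h3 := (h.line_ts hk huk hvk).2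
  simp only [polar_add_left, polar_add_right, polar_smul_left, polar_smul_right, polar_self_mul,
    hpa.1, hpb.2.2.1, polar_comm Q a p, hpa.2.2.1, smul_eq_mul, mul_zero, zero_add, add_zero] at h3
  rcases mul_eq_zero.1 h3 with h4 | h4
  · subst h4
    have hs : s' ≠ 0 := fun h0 => hv0 (by rw [h0]; simp)
    have h5 := Submodule.smul_mem _ s'⁻¹ hvk
    rwa [zero_smul, add_zero, inv_smul_smul₀ hs] at h5
  · rcases mul_eq_zero.1 h4 with h4 | h4
    · subst h4
      have hs : s ≠ 0 := fun h0 => hu0 (by rw [h0]; simp)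
      have h5 := Submodule.smul_mem _ s⁻¹ huk
      rwa [zero_smul, add_zero, inv_smul_smul₀ hs] at h5
    · exact absurd h4 hab

theorem Good.adj_common (h : Good Q) {p a b c : V} (hpa : IsPair Q p a) (hpb : IsPair Q p b)
    (hpc : IsPair Q p c) (hab : polar Q a b ≠ 0) (hac : polar Q a c = 0)
    (hbc : polar Q b c = 0) : Adj (h.sg p c) (h.sg p a) := by
  refine ⟨fun he => ?_, ⟨p, hpc.ne_zero, h.left_mem_line hpc, h.left_mem_line hpa⟩, ?_⟩
  · have hm : c ∈ line (h.sg p a) := he ▸ h.right_mem_line hpc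
    rw [h.line_sg hpa] at hm
    obtain ⟨s, t, rfl⟩ := Submodule.mem_span_pair.1 hm
    rw [polar_add_right, polar_smul_right, polar_smul_right, polar_comm Q b p, hpb.2.2.1,
      polar_comm Q b a, smul_eq_mul, smul_eq_mul, mul_zero, zero_add] at hbc
    obtain rfl := (mul_eq_zero.1 hbc).resolve_right hab
    exact hpc.not_mem (Submodule.mem_span_singleton.2 ⟨s, by simp⟩)
  · intro u hu v hv
    rw [h.line_sg hpc] at hu
    rw [h.line_sg hpa] at hv
    obtain ⟨s, t, rfl⟩ := Submodule.mem_span_pair.1 hu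
    obtain ⟨s', t', rfl⟩ := Submodule.mem_span_pair.1 hv
    simp only [polar_add_left, polar_add_right, polar_smul_left, polar_smul_right, polar_self_mul,
      hpa.1, hpa.2.2.1, polar_comm Q c p, hpc.2.2.1, polar_comm Q c a, hac, smul_eq_mul]
    ring

/-- Meeting lines which are not orthogonal have three suitable neighbours if any two are
adjacent. -/
theorem Good.triple_of_edge (h : Good Q) {p a b c d : V} (hpa : IsPair Q p a)
    (hpb : IsPair Q p b) (hpc : IsPair Q p c) (hpd : IsPair Q p d) (hab : polar Q a b ≠ 0)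
    (hac : polar Q a c = 0) (hbc : polar Q b c = 0) (had : polar Q a d = 0)
    (hbd : polar Q b d = 0) (hcd : polar Q c d = 0)
    (hdm : d ∉ Submodule.span F (Set.range ![p, c])) :
    Triple (h.sg p a) (h.sg p b) := by
  have := h.finDim
  have hp0 := hpa.ne_zero
  have sym : ∀ u v, polar Q u v = 0 → polar Q v u = 0 := fun u v huv => by rwa [polar_comm]
  -- dimension at least nine
  have hn : 9 ≤ Module.finrank F V := by
    refine h.four ⟨![p, a, c, d], ?_, ?_⟩
    · rw [Fintype.linearIndependent_iff]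
      intro g hg
      simp [Fin.sum_univ_four] at hg
      have hb := congrArg (polar Q b) hg
      simp only [polar_add_right, polar_smul_right, polar_comm Q b p, hpb.2.2.1, hbc, hbd,
        polar_zero_right, smul_eq_mul, mul_zero, zero_add, add_zero, polar_comm Q b a] at hb
      have hg1 : g 1 = 0 := (mul_eq_zero.1 hb).resolve_right hab
      have hg3 : g 3 = 0 := by
        by_contra h3
        refine hdm (Submodule.mem_span_range_iff_exists_fun F |>.2
          ⟨![-(g 3)⁻¹ * g 0, -(g 3)⁻¹ * g 2], ?_⟩)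
        rw [hg1, zero_smul, add_zero, add_eq_zero_iff_eq_neg'] at hg
        have h5 : d = (g 3)⁻¹ • -(g 0 • p + g 2 • c) := by rw [← hg, inv_smul_smul₀ h3]
        rw [h5, Fin.sum_univ_two]
        simp
        module
      rw [hg1, hg3, zero_smul, zero_smul, add_zero, add_zero] at hg
      have := LinearIndependent.pair_iff.1 hpc.2.2.2 _ _ hg
      intro i
      fin_cases i <;> simp_all
    · intro i j
      fin_cases i <;> fin_cases j <;>
        simp [polar_self_mul, hpa.1, hpa.2.1, hpc.2.1, hpd.2.1, hpa.2.2.1, hpc.2.2.1, hpd.2.2.1,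
          hac, had, hcd, sym _ _ hpa.2.2.1, sym _ _ hpc.2.2.1, sym _ _ hpd.2.2.1, sym _ _ hac,
          sym _ _ had, sym _ _ hcd]
  -- a second vector
  obtain ⟨z, hz, hdz⟩ : ∃ z, (∀ i, polar Q (![p, a, b, c] i) z = 0) ∧ polar Q d z ≠ 0 := by
    by_contra hcon
    push Not at hcon
    obtain ⟨g, hg⟩ := (Submodule.mem_span_range_iff_exists_fun F).1 (h.mem_span _ hcon)
    simp [Fin.sum_univ_four] at hg
    have e1 := had
    have e2 := hbd
    rw [← hg] at e1 e2
    simp only [polar_add_right, polar_smul_right, polar_self_mul, hpa.2.1, hpb.2.1,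
      sym _ _ hpa.2.2.1, sym _ _ hpb.2.2.1, hac, hbc, smul_eq_mul, mul_zero, zero_add,
      add_zero, polar_comm Q b a] at e1 e2
    have g2 := (mul_eq_zero.1 e1).resolve_right hab
    have g1 := (mul_eq_zero.1 e2).resolve_right hab
    refine hdm ((Submodule.mem_span_range_iff_exists_fun F).2 ⟨![g 0, g 3], ?_⟩)
    rw [← hg, g1, g2, Fin.sum_univ_two]
    simp
  obtain ⟨z1, hz1⟩ : ∃ z1, z1 = (polar Q d z)⁻¹ • z := ⟨_, rfl⟩
  obtain ⟨u2, hu2⟩ : ∃ u2, u2 = z1 - Q z1 • d := ⟨_, rfl⟩
  have hdz1 : polar Q d z1 = 1 := by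
    rw [hz1, polar_smul_right, smul_eq_mul, inv_mul_cancel₀ hdz]
  have hu2d : polar Q d u2 = 1 := by
    rw [hu2, polar_sub_right, polar_smul_right, hdz1, polar_self_mul, hpd.2.1]; simp
  have hQu2 : Q u2 = 0 := by
    rw [hu2, sub_eq_add_neg, ← neg_smul, QuadraticMap.map_add (⇑Q), QuadraticMap.map_smul,
      hpd.2.1, polar_smul_right, polar_comm Q z1 d, hdz1]
    simp
  have hu2z : ∀ w, polar Q w z = 0 → polar Q w d = 0 → polar Q w u2 = 0 := fun w h1 h2 => by
    rw [hu2, hz1, polar_sub_right, polar_smul_right, polar_smul_right, h1, h2]; simp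
  have hpu2 : polar Q p u2 = 0 := hu2z p (hz 0) hpd.2.2.1
  have hau2 : polar Q a u2 = 0 := hu2z a (hz 1) had
  have hbu2 : polar Q b u2 = 0 := hu2z b (hz 2) hbd
  have hcu2 : polar Q c u2 = 0 := hu2z c (hz 3) hcd
  -- a non-singular vector orthogonal to the six
  obtain ⟨y, hy, hQy⟩ : ∃ y, (∀ i, polar Q (![p, a, b, c, d, u2] i) y = 0) ∧ Q y ≠ 0 := by
    by_contra hcon
    push Not at hcon
    obtain ⟨y, hy, hym⟩ := exists_not_mem_span (perp Q ![p, a, b, c, d, u2])
      (l := 3) (by have := finrank_perp (Q := Q) ![p, a, b, c, d, u2]; omega) ![p, c] (by omega)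
    rw [mem_perp] at hy
    obtain ⟨g, hg⟩ := (Submodule.mem_span_range_iff_exists_fun F).1 (h.mem_span ![p, a, b, c, d, u2]
      (v := y) fun x hx => by
        have h1 := hcon (y + x) fun i => by rw [polar_add_right, hy i, hx i, add_zero]
        rw [QuadraticMap.map_add (⇑Q), hcon y hy, hcon x hx] at h1
        simpa using h1)
    simp [Fin.sum_univ_six] at hg
    have e1 : polar Q a y = 0 := hy 1
    have e2 : polar Q b y = 0 := hy 2
    have e4 : polar Q d y = 0 := hy 4
    have e5 : polar Q u2 y = 0 := hy 5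
    rw [← hg] at e1 e2 e4 e5
    simp only [polar_add_right, polar_smul_right, polar_self_mul, hpa.2.1, hpb.2.1, hpd.2.1, hQu2,
      sym _ _ hpa.2.2.1, sym _ _ hpb.2.2.1, sym _ _ hpd.2.2.1, hac, hbc, had, hbd, sym _ _ had,
      sym _ _ hbd, sym _ _ hcd, hau2, hbu2, hu2d, sym _ _ hpu2, sym _ _ hau2, sym _ _ hbu2,
      sym _ _ hcu2, polar_comm Q u2 d, polar_comm Q b a, smul_eq_mul, mul_zero, zero_add,
      add_zero, mul_one] at e1 e2 e4 e5
    refine hym ((Submodule.mem_span_range_iff_exists_fun F).2 ⟨![g 0, g 3], ?_⟩)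
    rw [← hg, (mul_eq_zero.1 e1).resolve_right hab, (mul_eq_zero.1 e2).resolve_right hab, e4, e5,
      Fin.sum_univ_two]
    simp
  set u3 := d + (-Q y) • u2 + y with hu3
  have hyw : ∀ i, polar Q (![p, a, b, c, d, u2] i) y = 0 := hy
  have hu3z : ∀ w, polar Q w d = 0 → polar Q w u2 = 0 → polar Q w y = 0 → polar Q w u3 = 0 :=
    fun w h1 h2 h3 => by
      rw [hu3, polar_add_right, polar_add_right, polar_smul_right, h1, h2, h3]; simp
  have hu3d : polar Q d u3 = -Q y := by
    rw [hu3, polar_add_right, polar_add_right, polar_smul_right, polar_self_mul, hpd.2.1, hu2d,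
      show polar Q d y = 0 from hy 4]
    simp
  have hu3u2 : polar Q u2 u3 = 1 := by
    rw [hu3, polar_add_right, polar_add_right, polar_smul_right, polar_self_mul, hQu2,
      polar_comm Q u2 d, hu2d, show polar Q u2 y = 0 from hy 5]
    simp
  have hQu3 : Q u3 = 0 := by
    rw [hu3, QuadraticMap.map_add (⇑Q), QuadraticMap.map_add (⇑Q) d, polar_add_left,
      QuadraticMap.map_smul, polar_smul_left, polar_smul_right, hpd.2.1, hQu2, hu2d,
      show polar Q d y = 0 from hy 4, show polar Q u2 y = 0 from hy 5]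
    simp
  have hpu3 := hu3z p hpd.2.2.1 hpu2 (hy 0)
  have hau3 := hu3z a had hau2 (hy 1)
  have hbu3 := hu3z b hbd hbu2 (hy 2)
  have hcu3 := hu3z c hcd hcu2 (hy 3)
  set u : Fin 3 → V := ![d, u2, u3] with hu
  have hpu : ∀ i, polar Q p (u i) = 0 ∧ polar Q a (u i) = 0 ∧ polar Q b (u i) = 0 ∧
      polar Q c (u i) = 0 ∧ Q (u i) = 0 := by
    intro i
    fin_cases i
    · exact ⟨hpd.2.2.1, had, hbd, hcd, hpd.2.1⟩
    · exact ⟨hpu2, hau2, hbu2, hcu2, hQu2⟩
    · exact ⟨hpu3, hau3, hbu3, hcu3, hQu3⟩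
  have hnm : ∀ i, u i ∉ Submodule.span F (Set.range ![p, c]) := by
    have hd0 : ∀ w ∈ Submodule.span F (Set.range ![p, c]), polar Q d w = 0 := by
      intro w hw
      obtain ⟨g, rfl⟩ := (Submodule.mem_span_range_iff_exists_fun F).1 hw
      simp [Fin.sum_univ_two, polar_add_right, polar_smul_right, sym _ _ hpd.2.2.1, sym _ _ hcd]
    intro i
    fin_cases i
    · exact hdm
    · exact fun hm => one_ne_zero (hu2d ▸ hd0 _ hm)
    · exact fun hm => hQy (neg_eq_zero.1 (hu3d ▸ hd0 _ hm))
  have hpair : ∀ i, IsPair Q p (u i) := fun i =>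
    IsPair.of_not_mem hpa.1 (hpu i).2.2.2.2 (hpu i).1 hp0 fun hm =>
      hnm i (Submodule.span_mono (by simp) hm)
  have hne : ∀ i j, i ≠ j → polar Q (u i) (u j) ≠ 0 := by
    have h1 := hu2d
    have h2 : polar Q d u3 ≠ 0 := by rw [hu3d]; exact neg_ne_zero.2 hQy
    intro i j hij
    fin_cases i <;> fin_cases j <;> first
      | exact absurd rfl hij
      | (simp [hu, h1, h2, hu3u2, polar_comm Q u2 d, polar_comm Q u3 d, polar_comm Q u3 u2])
  refine ⟨h.sg p c, h.isRoot_sg hpc,
    (h.adj_iff (h.isRoot_sg hpc) (h.isRoot_sg hpa)).2 (h.adj_common hpa hpb hpc hab hac hbc),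
    (h.adj_iff (h.isRoot_sg hpc) (h.isRoot_sg hpb)).2
      (h.adj_common hpb hpa hpc (by rwa [polar_comm]) hbc hac),
    fun i => h.sg p (u i), fun i => ⟨h.isRoot_sg (hpair i), ?_, ?_, ?_⟩, fun i j hij => ?_⟩
  · exact (h.adj_iff (h.isRoot_sg (hpair i)) (h.isRoot_sg hpa)).2
      (h.adj_common hpa hpb (hpair i) hab (hpu i).2.1 (hpu i).2.2.1)
  · exact (h.adj_iff (h.isRoot_sg (hpair i)) (h.isRoot_sg hpb)).2
      (h.adj_common hpb hpa (hpair i) (by rwa [polar_comm]) (hpu i).2.2.1 (hpu i).2.1)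
  · refine (h.adj_iff (h.isRoot_sg (hpair i)) (h.isRoot_sg hpc)).2
      ⟨fun he => ?_, ⟨p, hp0, h.left_mem_line (hpair i), h.left_mem_line hpc⟩, ?_⟩
    · apply hnm i
      have hm : u i ∈ line (h.sg p c) := he ▸ h.right_mem_line (hpair i)
      rw [h.line_sg hpc] at hm
      simpa [Set.pair_comm] using hm
    · intro v hv w hw
      rw [h.line_sg (hpair i)] at hv
      rw [h.line_sg hpc] at hw
      obtain ⟨s, t, rfl⟩ := Submodule.mem_span_pair.1 hv
      obtain ⟨s', t', rfl⟩ := Submodule.mem_span_pair.1 hw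
      simp only [polar_add_left, polar_add_right, polar_smul_left, polar_smul_right,
        polar_self_mul, hpa.1, hpc.2.2.1, sym _ _ (hpu i).1, sym _ _ (hpu i).2.2.2.1, smul_eq_mul]
      ring
  · have hno : ¬ Orth (h.sg p (u i)) (h.sg p (u j)) := fun ho => hne i j hij
      (ho _ (h.right_mem_line (hpair i)) _ (h.right_mem_line (hpair j)))
    refine ⟨fun ha => hno ((h.adj_iff (h.isRoot_sg (hpair i)) (h.isRoot_sg (hpair j))).1 ha).2.2,
      fun hs => hno fun v hv w hw => (h.line_ts (h.isRoot_sg (hpair i)) hv ?_).2⟩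
    rw [(h.same_iff (h.isRoot_sg (hpair i)) (h.isRoot_sg (hpair j))).1 hs]
    exact hw

theorem Good.meet_iff (h : Good Q) {x y : sGroup Q} (hx : IsRoot x) (hy : IsRoot y) :
    MeetG x y ↔ Meets x y := by
  have := h.finDim
  constructor
  · rintro (hs | ⟨hc, h3⟩)
    · rw [h.same_iff hx hy] at hs
      simpa only [Meets, hs] using h.meets_self hy
    by_contra hm
    have ho := ((h.commute_iff hx hy).1 hc).resolve_right hm
    rcases h3 with ha | hn | ⟨k, hk, hkx, hky, z, hz, hzz⟩
    · exact hm ((h.adj_iff hx hy).1 ha).2.1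
    · obtain ⟨a, b, hab, rfl⟩ := hx.eq h
      obtain ⟨c, d, hcd, rfl⟩ := hy.eq h
      have hli := h.indep_four hab hcd rfl rfl hm
      have key : ∀ w, w ∈ line (h.sg c d) → w ≠ 0 → IsPair Q a w ∧
          Adj (h.sg a w) (h.sg a b) ∧ Adj (h.sg a w) (h.sg c d) := by
        intro w hw hw0
        have hp : IsPair Q a w := IsPair.of_not_mem hab.1 (h.line_ts hy hw hw).1
          (ho a (h.left_mem_line hab) w hw) hab.ne_zero fun hmem => by
            obtain ⟨s, rfl⟩ := Submodule.mem_span_singleton.1 hmem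
            exact hm ⟨_, hw0, Submodule.smul_mem _ _ (h.left_mem_line hab), hw⟩
        have hline : ∀ u ∈ line (h.sg a w), ∃ u₁ ∈ line (h.sg a b), ∃ u₂ ∈ line (h.sg c d),
            u = u₁ + u₂ := by
          intro u hu
          rw [h.line_sg hp] at hu
          obtain ⟨s, t, rfl⟩ := Submodule.mem_span_pair.1 hu
          exact ⟨_, Submodule.smul_mem _ s (h.left_mem_line hab), _, Submodule.smul_mem _ t hw, rfl⟩
        refine ⟨hp, ⟨fun he => hm ⟨w, hw0, he ▸ h.right_mem_line hp, hw⟩,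
          ⟨a, hab.ne_zero, h.left_mem_line hp, h.left_mem_line hab⟩, fun u hu v hv => ?_⟩,
          ⟨fun he => hm ⟨a, hab.ne_zero, h.left_mem_line hab, he ▸ h.left_mem_line hp⟩,
          ⟨w, hw0, h.right_mem_line hp, hw⟩, fun u hu v hv => ?_⟩⟩
        · obtain ⟨u₁, h₁, u₂, h₂, rfl⟩ := hline u hu
          rw [polar_add_left, (h.line_ts hx h₁ hv).2, ho.symm u₂ h₂ v hv, add_zero]
        · obtain ⟨u₁, h₁, u₂, h₂, rfl⟩ := hline u hu
          rw [polar_add_left, (h.line_ts hy h₂ hv).2, ho u₁ h₁ v hv, add_zero]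
      obtain ⟨pc, ac1, ac2⟩ := key c (h.left_mem_line hcd) hcd.ne_zero
      obtain ⟨pd, ad1, ad2⟩ := key d (h.right_mem_line hcd) hcd.swap.ne_zero
      refine hn _ _ (h.isRoot_sg pc) (h.isRoot_sg pd)
        ((h.adj_iff (h.isRoot_sg pc) hx).2 ac1) ((h.adj_iff (h.isRoot_sg pc) hy).2 ac2)
        ((h.adj_iff (h.isRoot_sg pd) hx).2 ad1) ((h.adj_iff (h.isRoot_sg pd) hy).2 ad2)
        ((h.adj_iff (h.isRoot_sg pd) (h.isRoot_sg pc)).2
          ⟨fun he => ?_, ⟨a, hab.ne_zero, h.left_mem_line pd, h.left_mem_line pc⟩, ?_⟩)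
      · have hmem : d ∈ line (h.sg a c) := he ▸ h.right_mem_line pd
        rw [h.line_sg pc] at hmem
        obtain ⟨s, t, hst⟩ := Submodule.mem_span_pair.1 hmem
        have := Fintype.linearIndependent_iff.1 hli ![s, 0, t, -1]
          (by simp [Fin.sum_univ_four, hst]) 3
        simp at this
      · intro u hu v hv
        rw [h.line_sg pd] at hu
        rw [h.line_sg pc] at hv
        obtain ⟨s, t, rfl⟩ := Submodule.mem_span_pair.1 hu
        obtain ⟨s', t', rfl⟩ := Submodule.mem_span_pair.1 hv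
        simp only [polar_add_left, polar_add_right, polar_smul_left, polar_smul_right,
          polar_self_mul, hab.1, pc.2.2.1, polar_comm Q d a, pd.2.2.1, polar_comm Q d c,
          hcd.2.2.1, smul_eq_mul]
        ring
    · -- each neighbour of `k` passes through one of two points
      obtain ⟨-, ⟨u, hu0, huk, hux⟩, -⟩ := (h.adj_iff hk hx).1 hkx
      obtain ⟨-, ⟨v, hv0, hvk, hvy⟩, -⟩ := (h.adj_iff hk hy).1 hky
      have hkline : ∀ w ∈ line k, ∃ s t : F, s • u + t • v = w := by
        intro w hw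
        obtain ⟨v', hpv, rfl⟩ := h.through hk huk hu0
        rw [h.line_sg hpv] at hvk hw
        obtain ⟨s, t, rfl⟩ := Submodule.mem_span_pair.1 hvk
        obtain ⟨s', t', rfl⟩ := Submodule.mem_span_pair.1 hw
        have ht : t ≠ 0 := by
          rintro rfl
          exact hm ⟨_, hv0, by simpa using Submodule.smul_mem _ s hux, hvy⟩
        exact ⟨s' - t' * t⁻¹ * s, t' * t⁻¹, by
          match_scalars
          · field_simp; ring
          · field_simp⟩
      have hzuv : ∀ i, u ∈ line (z i) ∨ v ∈ line (z i) := by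
        intro i
        obtain ⟨hzr, hzx, hzy, hzk⟩ := hz i
        obtain ⟨-, ⟨u', hu'0, hu'z, hu'x⟩, -⟩ := (h.adj_iff hzr hx).1 hzx
        obtain ⟨-, ⟨v', hv'0, hv'z, hv'y⟩, -⟩ := (h.adj_iff hzr hy).1 hzy
        obtain ⟨-, ⟨w, hw0, hwz, hwk⟩, -⟩ := (h.adj_iff hzr hk).1 hzk
        obtain ⟨s, t, rfl⟩ := hkline w hwk
        obtain ⟨v'', hpair, hzeq⟩ := h.through hzr hu'z hu'0
        rw [hzeq, h.line_sg hpair] at hv'z hwz
        obtain ⟨s₁, t₁, hv'eq⟩ := Submodule.mem_span_pair.1 hv'z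
        obtain ⟨s₂, t₂, hweq⟩ := Submodule.mem_span_pair.1 hwz
        have ht₁ : t₁ ≠ 0 := by
          rintro rfl
          exact hm ⟨v', hv'0, by rw [← hv'eq]; simpa using Submodule.smul_mem _ s₁ hu'x, hv'y⟩
        have he : (s • u - (s₂ - t₂ * t₁⁻¹ * s₁) • u') = ((t₂ * t₁⁻¹) • v' - t • v) := by
          rw [sub_eq_sub_iff_add_eq_add, ← hweq, ← hv'eq]
          match_scalars
          · field_simp; ring
          · field_simp
        have hz0 : s • u - (s₂ - t₂ * t₁⁻¹ * s₁) • u' = 0 := by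
          by_contra hne
          exact hm ⟨_, hne, Submodule.sub_mem _ (Submodule.smul_mem _ _ hux)
            (Submodule.smul_mem _ _ hu'x), he ▸ Submodule.sub_mem _ (Submodule.smul_mem _ _ hv'y)
              (Submodule.smul_mem _ _ hvy)⟩
        by_cases hs : s = 0
        · right
          have ht : t ≠ 0 := fun h0 => hw0 (by rw [hs, h0]; simp)
          rw [hz0, eq_comm, sub_eq_zero] at he
          rw [show v = t⁻¹ • ((t₂ * t₁⁻¹) • v') by rw [he, inv_smul_smul₀ ht]]
          refine Submodule.smul_mem _ _ (Submodule.smul_mem _ _ ?_)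
          rw [hzeq, h.line_sg hpair]
          exact hv'z
        · left
          rw [sub_eq_zero] at hz0
          rw [show u = s⁻¹ • ((s₂ - t₂ * t₁⁻¹ * s₁) • u') by rw [← hz0, inv_smul_smul₀ hs]]
          refine Submodule.smul_mem _ _ (Submodule.smul_mem _ _ ?_)
          exact hzeq ▸ (h.left_mem_line hpair)
      obtain ⟨i, j, hij, w, hw0, hwi, hwj⟩ : ∃ i j, i ≠ j ∧ ∃ w, w ≠ 0 ∧ w ∈ line (z i) ∧
          w ∈ line (z j) := by
        rcases hzuv 0 with h0 | h0 <;> rcases hzuv 1 with h1 | h1 <;>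
          rcases hzuv 2 with h2 | h2 <;> first
            | exact ⟨0, 1, by decide, _, hu0, h0, h1⟩
            | exact ⟨0, 1, by decide, _, hv0, h0, h1⟩
            | exact ⟨0, 2, by decide, _, hu0, h0, h2⟩
            | exact ⟨0, 2, by decide, _, hv0, h0, h2⟩
            | exact ⟨1, 2, by decide, _, hu0, h1, h2⟩
            | exact ⟨1, 2, by decide, _, hv0, h1, h2⟩
      obtain ⟨hna, hns⟩ := hzz i j hij
      refine hna ((h.adj_iff (hz i).1 (hz j).1).2 ⟨fun he => hns ((h.same_iff (hz i).1 (hz j).1).2 he),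
        ⟨w, hw0, hwi, hwj⟩, ?_⟩)
      -- both lines lie in the totally singular span of the two lines
      have hspan : ∀ i, ∀ w ∈ line (z i), ∃ w₁ ∈ line x, ∃ w₂ ∈ line y, w = w₁ + w₂ := by
        intro i w hw
        obtain ⟨hzr, hzx, hzy, -⟩ := hz i
        obtain ⟨-, ⟨u', hu'0, hu'z, hu'x⟩, -⟩ := (h.adj_iff hzr hx).1 hzx
        obtain ⟨-, ⟨v', hv'0, hv'z, hv'y⟩, -⟩ := (h.adj_iff hzr hy).1 hzy
        obtain ⟨v'', hpair, hzeq⟩ := h.through hzr hu'z hu'0
        rw [hzeq, h.line_sg hpair] at hv'z hw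
        obtain ⟨s₁, t₁, rfl⟩ := Submodule.mem_span_pair.1 hv'z
        obtain ⟨s₂, t₂, rfl⟩ := Submodule.mem_span_pair.1 hw
        have ht₁ : t₁ ≠ 0 := by
          rintro rfl
          exact hm ⟨_, hv'0, by simpa using Submodule.smul_mem _ s₁ hu'x, hv'y⟩
        exact ⟨_, Submodule.smul_mem _ (s₂ - t₂ * t₁⁻¹ * s₁) hu'x, _,
          Submodule.smul_mem _ (t₂ * t₁⁻¹) hv'y, by
            match_scalars
            · field_simp; ring
            · field_simp⟩
      intro w₁ hw₁ w₂ hw₂
      obtain ⟨a₁, ha₁, b₁, hb₁, rfl⟩ := hspan i w₁ hw₁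
      obtain ⟨a₂, ha₂, b₂, hb₂, rfl⟩ := hspan j w₂ hw₂
      rw [polar_add_left, polar_add_right, polar_add_right, (h.line_ts hx ha₁ ha₂).2,
        (h.line_ts hy hb₁ hb₂).2, ho a₁ ha₁ b₂ hb₂, ho.symm b₁ hb₁ a₂ ha₂]
      simp
  · intro hm
    by_cases hs : SameG x y
    · exact Or.inl hs
    refine Or.inr ⟨(h.commute_iff hx hy).2 (Or.inr hm), ?_⟩
    by_cases ho : Orth x y
    · exact Or.inl ((h.adj_iff hx hy).2 ⟨fun he => hs ((h.same_iff hx hy).2 he), hm, ho⟩)
    refine Or.inr ?_
    by_cases hne : NoEdge x y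
    · exact Or.inl hne
    refine Or.inr ?_
    simp only [NoEdge] at hne
    push Not at hne
    obtain ⟨k, z, hk, hz, hkx, hky, hzx, hzy, hzk⟩ := hne
    obtain ⟨p, hp0, hpx, hpy⟩ := hm
    obtain ⟨a, hpa, rfl⟩ := h.through hx hpx hp0
    obtain ⟨b, hpb, rfl⟩ := h.through hy hpy hp0
    have hab : polar Q a b ≠ 0 := fun h0 => ho fun u hu v hv => by
      rw [h.line_sg hpa] at hu
      rw [h.line_sg hpb] at hv
      obtain ⟨s, t, rfl⟩ := Submodule.mem_span_pair.1 hu
      obtain ⟨s', t', rfl⟩ := Submodule.mem_span_pair.1 hv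
      simp only [polar_add_left, polar_add_right, polar_smul_left, polar_smul_right,
        polar_self_mul, hpa.1, hpb.2.2.1, polar_comm Q a p, hpa.2.2.1, h0, smul_eq_mul]
      ring
    rw [h.adj_iff hk hx] at hkx
    rw [h.adj_iff hk hy] at hky
    rw [h.adj_iff hz hx] at hzx
    rw [h.adj_iff hz hy] at hzy
    rw [h.adj_iff hz hk] at hzk
    obtain ⟨c, hpc, rfl⟩ := h.through hk (h.through_common hk hpa hpb hab hkx.2.1 hky.2.1) hp0
    obtain ⟨d, hpd, rfl⟩ := h.through hz (h.through_common hz hpa hpb hab hzx.2.1 hzy.2.1) hp0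
    have hr := fun {u : V} (hu : IsPair Q p u) => h.right_mem_line hu
    refine h.triple_of_edge hpa hpb hpc hpd hab
      (by rw [polar_comm]; exact hkx.2.2 c (hr hpc) a (hr hpa))
      (by rw [polar_comm]; exact hky.2.2 c (hr hpc) b (hr hpb))
      (by rw [polar_comm]; exact hzx.2.2 d (hr hpd) a (hr hpa))
      (by rw [polar_comm]; exact hzy.2.2 d (hr hpd) b (hr hpb))
      (by rw [polar_comm]; exact hzk.2.2 d (hr hpd) c (hr hpc)) fun hmem => hzk.1 ?_
    refine Submodule.eq_of_le_of_finrank_eq ?_ (by rw [h.finrank_line hz, h.finrank_line hk])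
    rw [h.line_sg hpd, h.line_sg hpc, Submodule.span_le, Set.insert_subset_iff,
      Set.singleton_subset_iff]
    refine ⟨Submodule.subset_span (by simp), ?_⟩
    simpa [Set.pair_comm] using hmem

end Cfsg.Agent.AutOrth45
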