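import Mathlib
import Cfsg.Agent.Lib.AutOrth45Lines
import Cfsg.Agent.Lib.QuadClassify

/-!
Root elements are the elements central in a Sylow subgroup; automorphisms preserve them and permute
the singular points.
-/

set_option autoImplicit false
set_option linter.unusedSectionVars false

namespace Cfsg.Agent.AutOrth45

open QuadraticMap
open Cfsg.Agent.OrthUnitaryQuad
open Cfsg.Agent.OrthUnitaryRefl
open Cfsg.Agent.OrthUnitarySimple

variable {F V : Type*} [Field F] [Fintype F] [AddCommGroup V] [Module F V]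
  {Q : QuadraticForm F V}

theorem Good.finite (h : Good Q) : Finite V := by
  have := h.finDim
  exact Module.finite_of_finite F

theorem Good.finite_s (h : Good Q) : Finite (sGroup Q) := by
  have := h.finite
  have := finite_orth Q
  exact inferInstance

/-! ### Singular vectors -/

theorem Good.exists_hyp (h : Good Q) {e : V} (he : Q e = 0) (he0 : e ≠ 0) :
    ∃ f, Q f = 0 ∧ polar Q e f = 1 := by
  obtain ⟨v, hv⟩ := h.exists_value ![e] (linearIndependent_unique_iff.2 (by simpa using he0)) ![1]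
  have hev : polar Q e v = 1 := hv 0
  refine ⟨v - Q v • e, ?_, ?_⟩
  · rw [sub_eq_add_neg, ← neg_smul, QuadraticMap.map_add (⇑Q), QuadraticMap.map_smul, he,
      polar_smul_right, polar_comm Q v e, hev]
    simp
  · rw [polar_sub_right, polar_smul_right, hev, polar_self_mul, he]; simp

theorem Good.exists_sing_perp (h : Good Q) {k : ℕ} (a : Fin k → V) (hk : k ≤ 4) :
    ∃ z, Q z = 0 ∧ z ≠ 0 ∧ ∀ i, polar Q (a i) z = 0 := by
  have := h.finDim
  have h1 := finrank_perp (Q := Q) a
  have := h.dim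
  obtain ⟨z, hz, hz0, hzQ⟩ := QuadClassify.exists_singular Q (perp Q a) (by omega)
  exact ⟨z, hzQ, hz0, mem_perp.1 hz⟩

theorem Good.exists_two (h : Good Q) {p : V} (hp : Q p = 0) (hp0 : p ≠ 0) :
    ∃ a b, IsPair Q p a ∧ IsPair Q p b ∧ polar Q a b = 1 := by
  obtain ⟨f, hf, hpf⟩ := h.exists_hyp hp hp0
  obtain ⟨a, ha, ha0, hperp⟩ := h.exists_sing_perp ![p, f] (by omega)
  have hpa : polar Q p a = 0 := hperp 0
  have hfa : polar Q f a = 0 := hperp 1
  have hli : LinearIndependent F ![p, f, a] := by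
    rw [Fintype.linearIndependent_iff]
    intro g hg
    simp [Fin.sum_univ_three] at hg
    have e1 := congrArg (polar Q p) hg
    have e2 := congrArg (polar Q f) hg
    simp [polar_add_right, polar_smul_right, polar_self_mul, hp, hf, hpf, hpa, hfa,
      polar_comm Q f p] at e1 e2
    rw [e1, e2, zero_smul, zero_smul, zero_add, zero_add] at hg
    have e3 := (smul_eq_zero.1 hg).resolve_right ha0
    intro i
    fin_cases i <;> assumption
  obtain ⟨z, hz⟩ := h.exists_value ![p, f, a] hli ![0, 0, 1]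
  have hpz : polar Q p z = 0 := hz 0
  have hfz : polar Q f z = 0 := hz 1
  have haz : polar Q a z = 1 := hz 2
  refine ⟨a, z - Q z • a, IsPair.of_not_mem hp ha hpa hp0 fun hm => ?_, ?_, ?_⟩
  · obtain ⟨c, rfl⟩ := Submodule.mem_span_singleton.1 hm
    rw [polar_smul_right, polar_comm Q f p, hpf, smul_eq_mul, mul_one] at hfa
    exact ha0 (by rw [hfa, zero_smul])
  · refine IsPair.of_not_mem hp ?_ ?_ hp0 fun hm => ?_
    · rw [sub_eq_add_neg, ← neg_smul, QuadraticMap.map_add (⇑Q), QuadraticMap.map_smul, ha,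
        polar_smul_right, polar_comm Q z a, haz]
      simp
    · rw [polar_sub_right, polar_smul_right, hpz, hpa]; simp
    · obtain ⟨c, hc⟩ := Submodule.mem_span_singleton.1 hm
      have h1 := congrArg (polar Q a) hc
      rw [polar_smul_right, polar_comm Q a p, hpa, polar_sub_right, polar_smul_right, haz,
        polar_self_mul, ha] at h1
      simp at h1
  · rw [polar_sub_right, polar_smul_right, haz, polar_self_mul, ha]; simp

theorem Good.exists_line (h : Good Q) : ∃ a b, IsPair Q a b := by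
  have := h.finDim
  obtain ⟨e, he, he0⟩ := exists_singular h.reg (by have := h.dim; omega)
  obtain ⟨a, -, ha, -⟩ := h.exists_two he he0
  exact ⟨e, a, ha⟩

/-! ### Sylow subgroups -/

theorem Good.dvd_card_zero (h : Good Q) : ringChar F ∣ Nat.card {x // Q x = 0} := by
  have := h.finDim
  have := h.finite
  obtain ⟨e, he, he0⟩ := exists_singular h.reg (by have := h.dim; omega)
  obtain ⟨U, φ, hφ, -, hU, hd, -⟩ := exists_frame h.nd h.dim5 he he0
  have h1 := card_zero_hypExt (Q.restrict U)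
  rw [card_zero_congr φ hφ] at h1
  obtain ⟨n, hp, hq⟩ := FiniteField.card F (ringChar F)
  have hdvd : ringChar F ∣ Fintype.card F := hq ▸ dvd_pow_self _ n.ne_zero
  have hW : ringChar F ∣ Nat.card U := by
    rw [Module.natCard_eq_pow_finrank (K := F), Nat.card_eq_fintype_card]
    exact hdvd.trans (dvd_pow_self _ (by omega))
  have h2 : (ringChar F : ℤ) ∣ (Nat.card {x // Q x = 0} : ℤ) := by
    rw [h1]
    exact dvd_add ((Int.natCast_dvd_natCast.2 hW).mul_left _)
      ((Int.natCast_dvd_natCast.2 hdvd).mul_right _)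
  exact Int.natCast_dvd_natCast.1 h2

theorem Good.exists_fixed (h : Good Q) [Fact (ringChar F).Prime] {U : Subgroup (sGroup Q)}
    (hU : IsPGroup (ringChar F) U) :
    ∃ v : V, v ≠ 0 ∧ Q v = 0 ∧ ∀ u ∈ U, u.1.1 v = v := by
  have := h.finite
  letI : MulAction U {v : V // Q v = 0} :=
    { smul := fun u v => ⟨u.1.1.1 v.1, by rw [map_orth]; exact v.2⟩
      one_smul := fun v => Subtype.ext rfl
      mul_smul := fun u u' v => Subtype.ext rfl }
  obtain ⟨⟨v, hv⟩, hfix, hne⟩ := hU.exists_fixed_point_of_prime_dvd_card_of_fixed_point _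
    h.dvd_card_zero (a := ⟨0, QuadraticMap.map_zero Q⟩)
    (fun u => Subtype.ext (show u.1.1.1 (0 : V) = 0 from map_zero _))
  exact ⟨v, fun h0 => hne (Subtype.ext h0.symm), hv,
    fun u hu => congrArg Subtype.val (hfix ⟨u, hu⟩)⟩

/-- The Siegel transformations with vector `e` and parameter orthogonal to `k` given vectors. -/
def Good.qGroup (h : Good Q) (e : V) (he : Q e = 0) (U : Submodule F V)
    (hU : ∀ w ∈ U, polar Q e w = 0) : Subgroup (sGroup Q) where
  carrier := {x | ∃ w ∈ U, x = h.sg e w}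
  mul_mem' := by
    rintro _ _ ⟨w, hw, rfl⟩ ⟨w', hw', rfl⟩
    exact ⟨_, U.add_mem hw hw', h.sg_mul he (hU w hw) (hU w' hw')⟩
  one_mem' := ⟨0, U.zero_mem, (h.sg_zero he).symm⟩
  inv_mem' := by
    rintro _ ⟨w, hw, rfl⟩
    exact ⟨_, U.neg_mem hw, h.sg_inv he (hU w hw)⟩

theorem Good.isPGroup_qGroup (h : Good Q) (e : V) (he : Q e = 0) (U : Submodule F V)
    (hU : ∀ w ∈ U, polar Q e w = 0) : IsPGroup (ringChar F) (h.qGroup e he U hU) := by
  rintro ⟨x, w, hw, rfl⟩
  obtain ⟨k, hk⟩ := h.isP_sg e w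
  exact ⟨k, Subtype.ext (by rw [SubgroupClass.coe_pow, hk, OneMemClass.coe_one])⟩

/-- An element fixing `e` and commuting with all Siegel transformations at `e` is one of them. -/
theorem Good.inQ_of_commute (h : Good Q) {e : V} (he : Q e = 0) (he0 : e ≠ 0) {x : sGroup Q}
    (hfix : x.1.1 e = e) (hc : ∀ w, polar Q e w = 0 → Commute x (h.sg e w)) : InQ h e x := by
  obtain ⟨f, hf, hef⟩ := h.exists_hyp he he0
  set d := x.1.1 f - f with hd
  have hed : polar Q e d = 0 := by
    rw [hd, polar_sub_right]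
    nth_rw 1 [← hfix]
    rw [polar_orth, sub_self]
  refine ⟨d, hed, ?_⟩
  set y := (h.sg e d)⁻¹ * x with hy
  suffices hy1 : y = 1 by
    rw [hy, inv_mul_eq_one] at hy1
    exact hy1.symm
  have hxf : x.1.1 f = (h.sg e d).1.1 f := by
    have hQ : Q (d + f) = 0 := by rw [hd, sub_add_cancel, map_orth, hf]
    rw [QuadraticMap.map_add (⇑Q), hf, add_zero] at hQ
    rw [h.sg_app he hed, hef, mul_one, one_smul, add_comm (polar Q d f), hQ, zero_smul, sub_zero,
      hd, add_sub_cancel]
  have hye : y.1.1 e = e := by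
    rw [hy, s_mul_apply, hfix, h.sg_inv he hed, h.sg_fix he (by rw [polar_neg_right, hed, neg_zero])]
  have hyf : y.1.1 f = f := by rw [hy, s_mul_apply, hxf, s_inv_apply_self]
  have hyw : ∀ w, polar Q e w = 0 → polar Q f w = 0 → y.1.1 w = w := by
    intro w hew hfw
    have hcy : Commute y (h.sg e w) := ((h.sg_comm he hed hew).inv_left).mul_left (hc w hew)
    have h1 : h.sg e (y.1.1 w) = h.sg e w := by
      have := h.conj_sg y he hew
      rw [hye, hcy.eq, mul_inv_cancel_right] at this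
      exact this.symm
    obtain ⟨c, hc'⟩ := Submodule.mem_span_singleton.1 (h.sg_inj he he0
      (by nth_rw 1 [← hye]; rw [polar_orth, hew]) hew h1)
    have h2 := congrArg (polar Q f) hc'
    rw [polar_smul_right, polar_comm Q f e, hef, polar_sub_right, hfw, sub_zero] at h2
    nth_rw 1 [← hyf] at h2
    rw [polar_orth, hfw, smul_eq_mul, mul_one] at h2
    rw [h2, zero_smul] at hc'
    exact sub_eq_zero.1 hc'.symm
  apply s_ext
  intro v
  set w := v - polar Q f v • e - polar Q e v • f with hw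
  have hv : v = polar Q f v • e + polar Q e v • f + w := by rw [hw]; abel
  have hw1 : polar Q e w = 0 := by
    rw [hw, polar_sub_right, polar_sub_right, polar_smul_right, polar_smul_right, polar_self_mul,
      he, hef]
    simp
  have hw2 : polar Q f w = 0 := by
    rw [hw, polar_sub_right, polar_sub_right, polar_smul_right, polar_smul_right, polar_self_mul,
      hf, polar_comm Q f e, hef]
    simp
  rw [s_one_apply]
  conv_lhs => rw [hv, map_add, map_add, map_smul, map_smul, hye, hyf, hyw w hw1 hw2, ← hv]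

theorem Good.commute_smul (h : Good Q) {a b : V} (ha : Q a = 0) (hb : Q b = 0)
    (hab : polar Q a b = 0) {g : sGroup Q} (hc : Commute g (h.sg a b)) (t : F) :
    Commute g (h.sg a (t • b)) := by
  have hQ : Q (t • b) = 0 := by rw [QuadraticMap.map_smul, hb, smul_zero]
  have hP : polar Q a (t • b) = 0 := by rw [polar_smul_right, hab, smul_zero]
  apply s_ext
  intro v
  have h1 := congrArg (fun z : sGroup Q => z.1.1 v) hc.eq
  simp only [s_mul_apply, h.root_app ha hb hab, map_add, map_sub, map_smul] at h1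
  simp only [s_mul_apply, h.root_app ha hQ hP, map_add, map_sub, map_smul, polar_smul_left,
    smul_eq_mul]
  have h2 : polar Q a v • g.1.1 b - polar Q b v • g.1.1 a
      = polar Q a (g.1.1 v) • b - polar Q b (g.1.1 v) • a := by
    rw [add_sub_assoc, add_sub_assoc, add_right_inj] at h1
    exact h1
  linear_combination (norm := module) t • h2

/-- A Sylow subgroup whose centre consists of the roots on a given line. -/
theorem Good.exists_sylow (h : Good Q) [Fact (ringChar F).Prime] {e e' : V}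
    (hp : IsPair Q e e') : ∃ U : Sylow (ringChar F) (sGroup Q),
      (∀ x ∈ U, (∀ y ∈ U, Commute x y) → ∃ t : F, x = h.sg e (t • e')) ∧
      ∀ t : F, h.sg e (t • e') ∈ U ∧ ∀ y ∈ U, Commute (h.sg e (t • e')) y := by
  have := h.finDim
  have := h.finite_s
  obtain ⟨he, he', hee', -⟩ := id hp
  have he0 := hp.ne_zero
  set A := h.qGroup e' he' (perp Q ![e, e']) (fun w hw => mem_perp.1 hw 1) with hA
  set B := h.qGroup e he (perp Q ![e]) (fun w hw => mem_perp.1 hw 0) with hB
  have hle : A ≤ Subgroup.normalizer (B : Subgroup (sGroup Q)) := by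
    have key : ∀ g ∈ A, ∀ s ∈ B, g * s * g⁻¹ ∈ B := by
      rintro _ ⟨a, ha, rfl⟩ _ ⟨w, hw, rfl⟩
      rw [mem_perp] at ha hw
      have hge : (h.sg e' a).1.1 e = e := by
        have h1 : polar Q e a = 0 := ha 0
        rw [h.sg_app he' (ha 1), polar_comm Q e' e, hee', polar_comm Q a e, h1]
        simp
      rw [h.conj_sg _ he (hw 0), hge]
      refine ⟨_, mem_perp.2 fun i => ?_, rfl⟩
      fin_cases i
      show polar Q e _ = 0
      nth_rw 1 [← hge]
      rw [polar_orth]; exact hw 0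
    intro g hg
    rw [Subgroup.mem_normalizer_iff]
    refine fun s => ⟨key g hg s, fun hs => ?_⟩
    have h1 := key g⁻¹ (A.inv_mem hg) _ hs
    simpa [mul_assoc] using h1
  obtain ⟨U, hU⟩ := ((h.isPGroup_qGroup e' he' _ _).to_sup_of_normal_right'
    (h.isPGroup_qGroup e he _ _) hle).exists_le_sylow
  have hUB : ∀ w, polar Q e w = 0 → h.sg e w ∈ U := fun w hw =>
    hU (Subgroup.mem_sup_right ⟨w, mem_perp.2 fun i => by fin_cases i; exact hw, rfl⟩)
  obtain ⟨v, hv0, hv, hfv⟩ := h.exists_fixed U.2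
  have hfix : ∀ u ∈ U, u.1.1 e = e := by
    suffices hve : v ∈ Submodule.span F {e} by
      obtain ⟨c, rfl⟩ := Submodule.mem_span_singleton.1 hve
      intro u hu
      have hc : c ≠ 0 := fun h0 => hv0 (by rw [h0, zero_smul])
      exact smul_right_injective V hc (by simpa [map_smul] using hfv u hu)
    have key : ∀ w, polar Q e w = 0 →
        polar Q e v • w = (polar Q w v + Q w * polar Q e v) • e := by
      intro w hw
      have := hfv _ (hUB w hw)
      rw [h.sg_app he hw, add_sub_assoc, add_eq_left, sub_eq_zero] at this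
      exact this
    have hev : polar Q e v = 0 := by
      by_contra hne
      obtain ⟨w, hw, hwm⟩ := exists_not_mem_span (perp Q ![e]) (l := 2)
        (by have := finrank_perp (Q := Q) ![e]; have := h.dim; omega) ![e] (by omega)
      apply hwm
      have hw' := key w (mem_perp.1 hw 0)
      rw [show w = (polar Q e v)⁻¹ • (polar Q e v • w) by rw [inv_smul_smul₀ hne], hw', smul_smul]
      exact Submodule.smul_mem _ _ (Submodule.subset_span (by simp))
    have h2 := h.mem_span ![e] (v := v) fun x hx => by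
      have h3 := key x (hx 0)
      rw [hev, zero_smul, mul_zero, add_zero] at h3
      rw [polar_comm]
      exact (smul_eq_zero.1 h3.symm).resolve_right he0
    simpa using h2
  have hcentral : ∀ x ∈ U, (∀ y ∈ U, Commute x y) → ∃ t : F, x = h.sg e (t • e') := by
    intro x hx hc
    obtain ⟨w, hw, rfl⟩ := h.inQ_of_commute he he0 (hfix x hx) fun w hw => hc _ (hUB w hw)
    have key : ∀ a, polar Q e a = 0 → polar Q e' a = 0 →
        polar Q e' w • a - (polar Q a w + Q a * polar Q e' w) • e' ∈ Submodule.span F {e} := by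
      intro a ha ha'
      have hmem : h.sg e' a ∈ U := hU (Subgroup.mem_sup_left ⟨a, mem_perp.2 fun i => by
        fin_cases i <;> assumption, rfl⟩)
      have h1 := h.conj_sg (h.sg e' a) he hw
      rw [hfix _ hmem, ← (hc _ hmem).eq, mul_inv_cancel_right] at h1
      have h2 := h.sg_inj he he0 (by nth_rw 1 [← hfix _ hmem]; rw [polar_orth, hw]) hw h1.symm
      rwa [h.sg_app he' ha', add_sub_assoc, add_sub_cancel_left] at h2
    have hβ : polar Q e' w = 0 := by
      by_contra hne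
      obtain ⟨a, ha, ham⟩ := exists_not_mem_span (perp Q ![e, e']) (l := 3)
        (by have := finrank_perp (Q := Q) ![e, e']; have := h.dim; omega) ![e, e'] (by omega)
      rw [mem_perp] at ha
      obtain ⟨c, hc'⟩ := Submodule.mem_span_singleton.1 (key a (ha 0) (ha 1))
      apply ham
      rw [show a = (polar Q e' w)⁻¹ • (c • e + (polar Q a w + Q a * polar Q e' w) • e') by
        rw [hc', sub_add_cancel, inv_smul_smul₀ hne]]
      exact Submodule.smul_mem _ _ (Submodule.add_mem _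
        (Submodule.smul_mem _ _ (Submodule.subset_span (by simp)))
        (Submodule.smul_mem _ _ (Submodule.subset_span (by simp))))
    have h3 := h.mem_span ![e, e'] (v := w) fun x hx => by
      have h4 := key x (hx 0) (hx 1)
      rw [hβ, zero_smul, mul_zero, add_zero, zero_sub, Submodule.neg_mem_iff] at h4
      rw [polar_comm]
      by_contra hne
      have h5 := Submodule.smul_mem _ (polar Q x w)⁻¹ h4
      rw [inv_smul_smul₀ hne] at h5
      exact hp.not_mem h5
    obtain ⟨g, hg⟩ := (Submodule.mem_span_range_iff_exists_fun F).1 h3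
    refine ⟨g 1, ?_⟩
    rw [← hg, Fin.sum_univ_two]
    simp only [Matrix.cons_val_zero, Matrix.cons_val_one]
    rw [add_comm, h.sg_add_smul he (by rw [polar_smul_right, hee', smul_zero])]
  refine ⟨U, hcentral, fun t => ⟨hUB _ (by rw [polar_smul_right, hee', smul_zero]), ?_⟩⟩
  have hntU : Nontrivial (U : Subgroup (sGroup Q)) := by
    refine ⟨⟨⟨_, hUB e' hee'⟩, 1, fun h1 => h.root_ne_one (h.isRoot_sg hp) ?_⟩⟩
    exact congrArg Subtype.val h1
  have := U.2.center_nontrivial
  obtain ⟨⟨⟨u, hu⟩, huz⟩, hne⟩ := exists_ne (1 : Subgroup.center (U : Subgroup (sGroup Q)))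
  have hcen : ∀ v ∈ U, Commute u v := fun v hv =>
    congrArg Subtype.val (Subgroup.mem_center_iff.1 huz ⟨v, hv⟩).symm
  obtain ⟨t0, rfl⟩ := hcentral u hu hcen
  have ht0 : t0 ≠ 0 := fun h0 => hne (Subtype.ext (Subtype.ext (by
    show h.sg e (t0 • e') = 1
    rw [h0, zero_smul, h.sg_zero he])))
  intro y hy
  have h5 := h.commute_smul he (b := t0 • e') (by rw [QuadraticMap.map_smul, he', smul_zero])
    (by rw [polar_smul_right, hee', smul_zero]) (hcen y hy).symm (t * t0⁻¹)
  rw [smul_smul, inv_mul_cancel_right₀ ht0] at h5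
  exact h5.symm

/-- Automorphisms preserve roots. -/
theorem Good.isRoot_lift (h : Good Q) (α : MulAut (PS Q)) {x : sGroup Q} (hx : IsRoot x) :
    IsRoot (lift α x) := by
  have : Fact (ringChar F).Prime := ⟨prime_ringChar F⟩
  have := h.finite_s
  obtain ⟨e, e', hp, rfl⟩ := hx.eq h
  obtain ⟨U, hU1, hU2⟩ := h.exists_sylow hp
  obtain ⟨hxU, hxc⟩ := hU2 1
  rw [one_smul] at hxU hxc
  set S : Sylow (ringChar F) (PS Q) := (U.mapSurjective (QuotientGroup.mk'_surjective _) :
    Sylow (ringChar F) (PS Q)).mapSurjective (f := (α : PS Q →* PS Q)) α.surjective with hS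
  obtain ⟨U₁, hU₁⟩ := Sylow.mapSurjective_surjective
    (QuotientGroup.mk'_surjective (Subgroup.center (sGroup Q))) (ringChar F) S
  have hspec := h.lift_spec α (h.isP_root (h.isRoot_sg hp))
  have hmem : mkP (lift α (h.sg e e')) ∈ (U₁ : Subgroup (sGroup Q)).map mkP := by
    rw [hspec.2]
    have : (U₁ : Subgroup (sGroup Q)).map mkP = (S : Subgroup (PS Q)) := by rw [← hU₁]; rfl
    rw [this]
    exact ⟨_, ⟨_, hxU, rfl⟩, rfl⟩
  obtain ⟨u, hu, hue⟩ := hmem
  have hPu : ∀ v ∈ U₁, IsP F v := fun v hv => by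
    obtain ⟨k, hk⟩ := U₁.2 ⟨v, hv⟩
    exact ⟨k, congrArg Subtype.val hk⟩
  have hu' : u = lift α (h.sg e e') := h.eq_of_mk (hPu u hu) hspec.1 hue
  have hcomm : ∀ v ∈ U₁, Commute u v := by
    intro v hv
    refine h.commute_of_mk (hPu u hu) (hPu v hv) ?_
    have : mkP v ∈ (S : Subgroup (PS Q)) := by rw [← hU₁]; exact ⟨v, hv, rfl⟩
    obtain ⟨_, ⟨w, hw, rfl⟩, hwv⟩ := this
    rw [hue, hspec.2, ← hwv]
    exact ((hxc w hw).map mkP).map α
  obtain ⟨g, hg⟩ := MulAction.exists_smul_eq (sGroup Q) U U₁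
  have hg' : ∀ v, v ∈ U → g * v * g⁻¹ ∈ U₁ := fun v hv => by
    rw [← hg]
    exact ⟨v, hv, rfl⟩
  have hg'' : ∀ v, v ∈ U₁ → g⁻¹ * v * g ∈ U := fun v hv => by
    rw [← hg] at hv
    obtain ⟨w, hw, rfl⟩ := hv
    simpa [mul_assoc] using hw
  obtain ⟨t, ht⟩ := hU1 _ (hg'' u hu) fun y hy => by
    have := (hcomm _ (hg' y hy)).map (MulAut.conj g⁻¹)
    simpa [mul_assoc] using this
  have hue' : u = h.sg (g.1.1 e) (g.1.1 (t • e')) := by
    rw [← h.conj_sg g hp.1 (by rw [polar_smul_right, hp.2.2.1, smul_zero]), ← ht]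
    group
  rw [← hu', hue']
  refine h.isRoot_sg ⟨by rw [map_orth, hp.1], by rw [map_orth, QuadraticMap.map_smul, hp.2.1,
    smul_zero], by rw [polar_orth, polar_smul_right, hp.2.2.1, smul_zero], ?_⟩
  have ht0 : t ≠ 0 := by
    intro h0
    have hu1 : u = 1 := by
      rw [hue', h0, zero_smul, map_zero, h.sg_zero (by rw [map_orth, hp.1])]
    refine h.root_ne_one (h.isRoot_sg hp) (h.lift_inj α (h.isP_root (h.isRoot_sg hp)) isP_one ?_)
    rw [← hu', hu1, h.lift_one]
  refine LinearIndependent.pair_iff.2 fun a b hab => ?_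
  rw [← map_smul, ← map_smul, ← map_add, LinearEquiv.map_eq_zero_iff, smul_smul] at hab
  have := LinearIndependent.pair_iff.1 hp.2.2.2 _ _ hab
  exact ⟨this.1, (mul_eq_zero.1 this.2).resolve_right ht0⟩

/-! ### Automorphisms preserve incidence -/

theorem Good.sameG_lift (h : Good Q) (α : MulAut (PS Q)) {x y : sGroup Q} (hx : IsRoot x)
    (hy : IsRoot y) (hs : SameG x y) : SameG (lift α x) (lift α y) := by
  intro z hz
  have hPz := h.isP_root hz
  have h1 := hs _ (h.isRoot_lift α⁻¹ hz)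
  rw [← h.commute_lift α (h.lift_spec α⁻¹ hPz).1 (h.isP_root hx),
    ← h.commute_lift α (h.lift_spec α⁻¹ hPz).1 (h.isP_root hy), h.lift_lift_inv α hPz] at h1
  exact h1

theorem Good.sameG_lift_iff (h : Good Q) (α : MulAut (PS Q)) {x y : sGroup Q} (hx : IsRoot x)
    (hy : IsRoot y) : SameG (lift α x) (lift α y) ↔ SameG x y :=
  ⟨fun hs => by
    have := h.sameG_lift α⁻¹ (h.isRoot_lift α hx) (h.isRoot_lift α hy) hs
    rwa [h.lift_inv_lift α (h.isP_root hx), h.lift_inv_lift α (h.isP_root hy)] at this,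
    h.sameG_lift α hx hy⟩

theorem Good.adjG_lift (h : Good Q) (α : MulAut (PS Q)) {x y : sGroup Q} (hx : IsRoot x)
    (hy : IsRoot y) (ha : AdjG x y) : AdjG (lift α x) (lift α y) := by
  obtain ⟨hc, hns, x', y', hx', hy', hsx, hsy, hr⟩ := ha
  have hc' : Commute x' y' :=
    (hsy x' hx').1 ((hsx y hy).1 hc.symm).symm
  refine ⟨(h.commute_lift α (h.isP_root hx) (h.isP_root hy)).2 hc,
    fun hs => hns ((h.sameG_lift_iff α hx hy).1 hs), lift α x', lift α y', h.isRoot_lift α hx',
    h.isRoot_lift α hy', h.sameG_lift α hx hx' hsx, h.sameG_lift α hy hy' hsy, ?_⟩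
  rw [← h.lift_mul α (h.isP_root hx') (h.isP_root hy') hc']
  exact h.isRoot_lift α hr

theorem Good.adjG_lift_iff (h : Good Q) (α : MulAut (PS Q)) {x y : sGroup Q} (hx : IsRoot x)
    (hy : IsRoot y) : AdjG (lift α x) (lift α y) ↔ AdjG x y :=
  ⟨fun hs => by
    have := h.adjG_lift α⁻¹ (h.isRoot_lift α hx) (h.isRoot_lift α hy) hs
    rwa [h.lift_inv_lift α (h.isP_root hx), h.lift_inv_lift α (h.isP_root hy)] at this,
    h.adjG_lift α hx hy⟩

theorem Good.meetG_lift (h : Good Q) (α : MulAut (PS Q)) {x y : sGroup Q} (hx : IsRoot x)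
    (hy : IsRoot y) (hm : MeetG x y) : MeetG (lift α x) (lift α y) := by
  rcases hm with hs | ⟨hc, ha | hn | ⟨k, hk, hkx, hky, z, hz, hzz⟩⟩
  · exact Or.inl (h.sameG_lift α hx hy hs)
  all_goals refine Or.inr ⟨(h.commute_lift α (h.isP_root hx) (h.isP_root hy)).2 hc, ?_⟩
  · exact Or.inl (h.adjG_lift α hx hy ha)
  · refine Or.inr (Or.inl fun k z hk hz h1 h2 h3 h4 h5 => ?_)
    have ek := h.lift_lift_inv α (h.isP_root hk)
    have ez := h.lift_lift_inv α (h.isP_root hz)
    have rk := h.isRoot_lift α⁻¹ hk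
    have rz := h.isRoot_lift α⁻¹ hz
    rw [← ek] at h1 h2 h5
    rw [← ez] at h3 h4 h5
    rw [h.adjG_lift_iff α rk hx] at h1
    rw [h.adjG_lift_iff α rk hy] at h2
    rw [h.adjG_lift_iff α rz hx] at h3
    rw [h.adjG_lift_iff α rz hy] at h4
    rw [h.adjG_lift_iff α rz rk] at h5
    exact hn _ _ rk rz h1 h2 h3 h4 h5
  · refine Or.inr (Or.inr ⟨lift α k, h.isRoot_lift α hk, h.adjG_lift α hk hx hkx,
      h.adjG_lift α hk hy hky, fun i => lift α (z i), fun i => ?_, fun i j hij => ?_⟩)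
    · obtain ⟨hr, h1, h2, h3⟩ := hz i
      exact ⟨h.isRoot_lift α hr, h.adjG_lift α hr hx h1, h.adjG_lift α hr hy h2,
        h.adjG_lift α hr hk h3⟩
    · exact ⟨fun ha => (hzz i j hij).1 ((h.adjG_lift_iff α (hz i).1 (hz j).1).1 ha),
        fun hs => (hzz i j hij).2 ((h.sameG_lift_iff α (hz i).1 (hz j).1).1 hs)⟩

theorem Good.meets_lift_iff (h : Good Q) (α : MulAut (PS Q)) {x y : sGroup Q} (hx : IsRoot x)
    (hy : IsRoot y) : Meets (lift α x) (lift α y) ↔ Meets x y := by
  rw [← h.meet_iff (h.isRoot_lift α hx) (h.isRoot_lift α hy), ← h.meet_iff hx hy]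
  refine ⟨fun hm => ?_, h.meetG_lift α hx hy⟩
  have := h.meetG_lift α⁻¹ (h.isRoot_lift α hx) (h.isRoot_lift α hy) hm
  rwa [h.lift_inv_lift α (h.isP_root hx), h.lift_inv_lift α (h.isP_root hy)] at this

theorem Good.adj_lift_iff (h : Good Q) (α : MulAut (PS Q)) {x y : sGroup Q} (hx : IsRoot x)
    (hy : IsRoot y) : Adj (lift α x) (lift α y) ↔ Adj x y := by
  rw [← h.adj_iff (h.isRoot_lift α hx) (h.isRoot_lift α hy), h.adjG_lift_iff α hx hy,
    h.adj_iff hx hy]

theorem Good.line_lift_iff (h : Good Q) (α : MulAut (PS Q)) {x y : sGroup Q} (hx : IsRoot x)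
    (hy : IsRoot y) : line (lift α x) = line (lift α y) ↔ line x = line y := by
  rw [← h.same_iff (h.isRoot_lift α hx) (h.isRoot_lift α hy), h.sameG_lift_iff α hx hy,
    h.same_iff hx hy]

/-- Automorphisms permute the singular points. -/
theorem Good.exists_pointMap (h : Good Q) (α : MulAut (PS Q)) {p : V} (hp : Q p = 0) (hp0 : p ≠ 0) :
    ∃ p', p' ≠ 0 ∧ Q p' = 0 ∧ ∀ x, IsRoot x → (p ∈ line x ↔ p' ∈ line (lift α x)) := by
  obtain ⟨a, b, hpa, hpb, hab⟩ := h.exists_two hp hp0
  have hx := h.isRoot_sg hpa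
  have hy := h.isRoot_sg hpb
  have hab0 : polar Q a b ≠ 0 := by rw [hab]; exact one_ne_zero
  have hm : Meets (lift α (h.sg p a)) (lift α (h.sg p b)) :=
    (h.meets_lift_iff α hx hy).2 ⟨p, hp0, h.left_mem_line hpa, h.left_mem_line hpb⟩
  obtain ⟨p', hp'0, h1, h2⟩ := hm
  obtain ⟨a', hpa', ea⟩ := h.through (h.isRoot_lift α hx) h1 hp'0
  obtain ⟨b', hpb', eb⟩ := h.through (h.isRoot_lift α hy) h2 hp'0
  have hab' : polar Q a' b' ≠ 0 := by
    intro h0
    have ho : Orth (lift α (h.sg p a)) (lift α (h.sg p b)) := by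
      rw [ea, eb]
      intro u hu v hv
      rw [h.line_sg hpa'] at hu
      rw [h.line_sg hpb'] at hv
      obtain ⟨s, t, rfl⟩ := Submodule.mem_span_pair.1 hu
      obtain ⟨s', t', rfl⟩ := Submodule.mem_span_pair.1 hv
      simp only [polar_add_left, polar_add_right, polar_smul_left, polar_smul_right,
        polar_self_mul, hpa'.1, hpb'.2.2.1, polar_comm Q a' p', hpa'.2.2.1, h0, smul_eq_mul]
      ring
    have hne : line (h.sg p a) ≠ line (h.sg p b) := fun he => hab0
      ((h.line_ts hx (h.right_mem_line hpa) (he ▸ h.right_mem_line hpb)).2)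
    have hadj : Adj (lift α (h.sg p a)) (lift α (h.sg p b)) :=
      ⟨fun he => hne ((h.line_lift_iff α hx hy).1 he), ⟨p', hp'0, h1, h2⟩, ho⟩
    exact hab0 (((h.adj_lift_iff α hx hy).1 hadj).2.2 a (h.right_mem_line hpa) b
      (h.right_mem_line hpb))
  refine ⟨p', hp'0, hpa'.1, fun z hz => ⟨fun hm => ?_, fun hm => ?_⟩⟩
  · refine h.through_common (h.isRoot_lift α hz) hpa' hpb' hab' ?_ ?_
    · rw [← ea, h.meets_lift_iff α hz hx]
      exact ⟨p, hp0, hm, h.left_mem_line hpa⟩
    · rw [← eb, h.meets_lift_iff α hz hy]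
      exact ⟨p, hp0, hm, h.left_mem_line hpb⟩
  · refine h.through_common hz hpa hpb hab0 ?_ ?_
    · rw [← h.meets_lift_iff α hz hx]
      exact ⟨p', hp'0, hm, h1⟩
    · rw [← h.meets_lift_iff α hz hy]
      exact ⟨p', hp'0, hm, h2⟩

/-- Induction on the Siegel transformations at a point. -/
theorem Good.q_induction (h : Good Q) {e : V} (he : Q e = 0) (he0 : e ≠ 0) {P : sGroup Q → Prop}
    (h1 : P 1) (hroot : ∀ a, IsPair Q e a → P (h.sg e a))
    (hmul : ∀ x y, InQ h e x → InQ h e y → P x → P y → P (x * y)) {x : sGroup Q}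
    (hx : InQ h e x) : P x := by
  have := h.finDim
  obtain ⟨w, hw, rfl⟩ := hx
  obtain ⟨U, φ, hφ, hφe, hU, hd, z₀, hz₀, hz₀0⟩ := exists_frame h.nd h.dim5 he he0
  obtain ⟨⟨⟨t, s⟩, z⟩, rfl⟩ := φ.surjective w
  have hs : s = 0 := by simpa [← hφe, polar_congr φ hφ, polar_hypExt] using hw
  subst hs
  obtain ⟨z₁, z₂, z₃, q₁, q₂, q₃, rfl⟩ :=
    exists_three_singular (OrthUnitaryOmega.isReg_of_nondegenerate hU) hz₀ hz₀0 z
  have hperp : ∀ y : U, polar Q e (φ ((0, 0), y)) = 0 := fun y => by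
    simp [← hφe, polar_congr φ hφ, polar_hypExt]
  have hsing : ∀ y : U, Q.restrict U y = 0 → P (h.sg e (φ ((0, 0), y))) := by
    intro y hy
    by_cases hm : φ ((0, 0), y) ∈ Submodule.span F {e}
    · obtain ⟨c, hc⟩ := Submodule.mem_span_singleton.1 hm
      rw [← hc, show c • e = 0 + c • e by rw [zero_add], h.sg_add_smul he (polar_zero_right Q e),
        h.sg_zero he]
      exact h1
    · exact hroot _ (IsPair.of_not_mem he (by rw [hφ, hypExt_apply, hy]; simp) (hperp y) he0 hm)
  have hsplit : φ ((t, 0), z₁ + z₂ + z₃)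
      = φ ((0, 0), z₁) + φ ((0, 0), z₂) + φ ((0, 0), z₃) + t • e := by
    rw [← hφe, ← map_smul, ← map_add, ← map_add, ← map_add]
    simp
  have hp2 := hperp
  have h12 : polar Q e (φ ((0, 0), z₁) + φ ((0, 0), z₂)) = 0 := by
    rw [polar_add_right, hperp, hperp, add_zero]
  rw [hsplit, h.sg_add_smul he (by rw [polar_add_right, h12, hperp, add_zero]),
    ← h.sg_mul he h12 (hperp _), ← h.sg_mul he (hperp _) (hperp _)]
  exact hmul _ _ ⟨_, h12, h.sg_mul he (hperp _) (hperp _)⟩ ⟨_, hperp _, rfl⟩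
    (hmul _ _ ⟨_, hperp _, rfl⟩ ⟨_, hperp _, rfl⟩ (hsing _ q₁) (hsing _ q₂)) (hsing _ q₃)

theorem Good.inQ_lift (h : Good Q) (α : MulAut (PS Q)) {p p' : V} (hp : Q p = 0) (hp0 : p ≠ 0)
    (hp'0 : p' ≠ 0) (hp' : Q p' = 0)
    (hpt : ∀ x, IsRoot x → (p ∈ line x ↔ p' ∈ line (lift α x))) {x : sGroup Q}
    (hx : InQ h p x) : InQ h p' (lift α x) := by
  refine h.q_induction hp hp0 (P := fun x => InQ h p' (lift α x)) ?_ ?_ ?_ hx
  · exact ⟨0, polar_zero_right Q p', by rw [h.lift_one, h.sg_zero hp']⟩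
  · intro a ha
    obtain ⟨b, hb, he⟩ := h.through (h.isRoot_lift α (h.isRoot_sg ha))
      ((hpt _ (h.isRoot_sg ha)).1 (h.left_mem_line ha)) hp'0
    exact ⟨b, hb.2.2.1, he⟩
  · rintro _ _ ⟨w, hw, rfl⟩ ⟨w', hw', rfl⟩ ⟨v, hv, hv'⟩ ⟨u, hu, hu'⟩
    rw [h.lift_mul α (h.isP_sg _ _) (h.isP_sg _ _) (h.sg_comm hp hw hw'), hv', hu']
    exact ⟨v + u, by rw [polar_add_right, hv, hu, add_zero], h.sg_mul hp' hv hu⟩

end Cfsg.Agent.AutOrth45
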