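import Mathlib
import Cfsg.Agent.Lib.OrthUnitarySimple
import Cfsg.Agent.Lib.QuadClassify

/-!
An additive bijection of quadratic spaces preserving singular lines and their orthogonality is a
semisimilarity.
-/

set_option autoImplicit false
set_option linter.unusedSectionVars false

namespace Cfsg.Agent.AutOrth45Semilin

open QuadraticMap
open Cfsg.Agent.OrthUnitaryQuad
open Cfsg.Agent.OrthUnitaryRefl
open Cfsg.Agent.OrthUnitaryOmega
open Cfsg.Agent.OrthUnitarySimple

variable {F W W' : Type*} [Field F] [Fintype F] [AddCommGroup W] [Module F W] [AddCommGroup W']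
  [Module F W'] {q : QuadraticForm F W} {q' : QuadraticForm F W'}

theorem exists_semilinear [FiniteDimensional F W] (hq : (polarBilin q).Nondegenerate)
    (hd : 5 ≤ Module.finrank F W) (ψ : W ≃+ W') (hsing : ∀ a, q a = 0 → q' (ψ a) = 0)
    (horth : ∀ a b, q a = 0 → q b = 0 → (polar q' (ψ a) (ψ b) = 0 ↔ polar q a b = 0))
    (hline : ∀ a, q a = 0 → ∀ t : F, ∃ s : F, ψ (t • a) = s • ψ a) :
    ∃ (σ : F ≃+* F) (μ : F), μ ≠ 0 ∧ (∀ (t : F) x, ψ (t • x) = σ t • ψ x) ∧
      ∀ x, q' (ψ x) = μ * σ (q x) := by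
  classical
  have hreg := isReg_of_nondegenerate hq
  choose! s hs using hline
  have hne : ∀ a : W, a ≠ 0 → ψ a ≠ 0 := fun a ha h0 => ha (by simpa using h0)
  have hinj : ∀ a, q a = 0 → a ≠ 0 → Function.Injective (s a) := fun a ha ha0 t t' htt => by
    have h1 : ψ (t • a) = ψ (t' • a) := by rw [hs a ha, hs a ha, htt]
    exact smul_left_injective F ha0 (ψ.injective h1)
  have hadd : ∀ a, q a = 0 → a ≠ 0 → ∀ t t', s a (t + t') = s a t + s a t' :=
    fun a ha ha0 t t' => smul_left_injective F (hne a ha0) (by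
      show s a (t + t') • ψ a = (s a t + s a t') • ψ a
      rw [add_smul, ← hs a ha, ← hs a ha, ← hs a ha, add_smul, map_add])
  -- orthogonal independent vectors have the same map
  have hcoll : ∀ a b, q a = 0 → q b = 0 → a ≠ 0 → polar q a b = 0 →
      b ∉ Submodule.span F {a} → s a = s b := by
    intro a b ha hb ha0 hab hm
    have hb0 : b ≠ 0 := fun h0 => hm (h0 ▸ Submodule.zero_mem _)
    funext t
    have hQ : q (a + b) = 0 := by rw [QuadraticMap.map_add (⇑q), ha, hb, hab]; simp
    have h1 := hs _ hQ t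
    rw [smul_add, map_add, hs a ha, hs b hb, map_add, smul_add] at h1
    have hli : LinearIndependent F ![ψ a, ψ b] := by
      refine (LinearIndependent.pair_iff' (hne a ha0)).2 fun c hc => ?_
      obtain ⟨u, hu⟩ := (Finite.injective_iff_bijective.1 (hinj a ha ha0)).2 c
      rw [← hu, ← hs a ha] at hc
      exact hm (Submodule.mem_span_singleton.2 ⟨u, ψ.injective hc⟩)
    have h2 := LinearIndependent.pair_iff.1 hli (s a t - s (a + b) t) (s b t - s (a + b) t) (by
      rw [sub_smul, sub_smul, sub_add_sub_comm, h1, sub_self])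
    rw [sub_eq_zero.1 h2.1, sub_eq_zero.1 h2.2]
  -- a common map
  have hall : ∀ a b, q a = 0 → q b = 0 → a ≠ 0 → b ≠ 0 → s a = s b := by
    intro a b ha hb ha0 hb0
    by_cases hm : b ∈ Submodule.span F {a}
    · obtain ⟨c, rfl⟩ := Submodule.mem_span_singleton.1 hm
      have hc : c ≠ 0 := fun h0 => hb0 (by rw [h0, zero_smul])
      obtain ⟨U, φ, hφ, hφa, hU, -, z, hz, hz0⟩ := exists_frame hq hd ha ha0
      have hp : polar q a (φ ((0, 0), z)) = 0 := by
        simp [← hφa, polar_congr φ hφ, polar_hypExt]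
      have hQ : q (φ ((0, 0), z)) = 0 := by rw [hφ, hypExt_apply, hz]; simp
      have hzm : φ ((0, 0), z) ∉ Submodule.span F {a} := fun hm' => by
        obtain ⟨d, hd'⟩ := Submodule.mem_span_singleton.1 hm'
        rw [← hφa, ← map_smul] at hd'
        have := congrArg Prod.snd (φ.injective hd')
        simp [eq_comm, hz0] at this
      rw [hcoll a _ ha hQ ha0 hp hzm, hcoll (c • a) _ hb hQ hb0
        (by rw [polar_smul_left, hp, smul_zero]) (by rwa [Submodule.span_singleton_smul_eq hc.isUnit])]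
    by_cases hab : polar q a b = 0
    · exact hcoll a b ha hb ha0 hab hm
    let L : W →ₗ[F] F × F := (polarBilin q a).prod (polarBilin q b)
    have h1 := LinearMap.finrank_range_add_finrank_ker L
    have h2 := Submodule.finrank_le (LinearMap.range L)
    rw [Module.finrank_prod, Module.finrank_self] at h2
    obtain ⟨z, hz, hz0, hzQ⟩ := QuadClassify.exists_singular q (LinearMap.ker L) (by omega)
    have hz' : polar q a z = 0 ∧ polar q b z = 0 := by simpa [L, Prod.ext_iff] using hz
    rw [hcoll a z ha hzQ ha0 hz'.1 fun hm' => ?_, hcoll b z hb hzQ hb0 hz'.2 fun hm' => ?_]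
    · obtain ⟨d, rfl⟩ := Submodule.mem_span_singleton.1 hm'
      have hd0 : d ≠ 0 := fun h0 => hz0 (by rw [h0, zero_smul])
      exact hab (by simpa [polar_smul_right, hd0] using hz'.1)
    · obtain ⟨d, rfl⟩ := Submodule.mem_span_singleton.1 hm'
      have hd0 : d ≠ 0 := fun h0 => hz0 (by rw [h0, zero_smul])
      exact hab (by simpa [polar_smul_right, hd0, polar_comm q b a] using hz'.2)
  obtain ⟨e, he, he0⟩ := exists_singular hreg (by omega)
  have hone : s e 1 = 1 := smul_left_injective F (hne e he0) (by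
    show s e 1 • ψ e = (1 : F) • ψ e
    rw [← hs e he, one_smul, one_smul])
  have hmul : ∀ t t', s e (t * t') = s e t * s e t' := by
    intro t t'
    by_cases ht : t' = 0
    · subst ht
      have h0 : s e 0 = 0 := by have := hadd e he he0 0 0; simpa using this
      rw [mul_zero, h0, mul_zero]
    refine smul_left_injective F (hne e he0) ?_
    show s e (t * t') • ψ e = (s e t * s e t') • ψ e
    have hq' : q (t' • e) = 0 := by rw [QuadraticMap.map_smul, he, smul_zero]
    rw [← hs e he, ← smul_smul (s e t) (s e t'), ← hs e he, mul_smul, hs (t' • e) hq',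
      hall (t' • e) e hq' he (smul_ne_zero ht he0) he0]
  let σ₀ : F →+* F :=
    { toFun := s e
      map_one' := hone
      map_mul' := hmul
      map_zero' := by have := hadd e he he0 0 0; simpa using this
      map_add' := hadd e he he0 }
  let σ : F ≃+* F := RingEquiv.ofBijective σ₀ (Finite.injective_iff_bijective.1 (hinj e he he0))
  have hσ : ∀ a, q a = 0 → ∀ t, ψ (t • a) = σ t • ψ a := fun a ha t => by
    by_cases ha0 : a = 0
    · simp [ha0]
    · rw [hs a ha, hall a e ha he ha0 he0]; rfl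
  have hsemi : ∀ (t : F) x, ψ (t • x) = σ t • ψ x := fun t x => by
    obtain ⟨z₁, z₂, z₃, h₁, h₂, h₃, rfl⟩ := exists_three_singular hreg he he0 x
    rw [smul_add, smul_add, map_add, map_add, map_add, map_add, hσ _ h₁, hσ _ h₂, hσ _ h₃,
      smul_add, smul_add]
  -- the multiplier
  obtain ⟨U, φ, hφ, hφe, hU, -, z₀, hz₀, hz₀0⟩ := exists_frame hq hd he he0
  have hpol := fun p p' => polar_congr φ hφ p p'
  obtain ⟨a, ha⟩ : ∃ a, a = φ ((1, 0), 0) := ⟨_, rfl⟩
  obtain ⟨b, hb⟩ : ∃ b, b = φ ((0, 1), 0) := ⟨_, rfl⟩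
  have hQa : q a = 0 := by rw [ha, hφ, hypExt_apply]; simp
  have hQb : q b = 0 := by rw [hb, hφ, hypExt_apply]; simp
  have hab : polar q a b = 1 := by rw [ha, hb, hpol, polar_hypExt]; simp [polar_zero_left]
  set μ := polar q' (ψ a) (ψ b) with hμ
  have hperp : ∀ u : U, polar q' (ψ a) (ψ (φ ((0, 0), u))) = 0 ∧
      polar q' (ψ b) (ψ (φ ((0, 0), u))) = 0 := by
    intro u
    obtain ⟨u₁, u₂, u₃, q₁, q₂, q₃, rfl⟩ :=
      exists_three_singular (isReg_of_nondegenerate hU) hz₀ hz₀0 u
    have hsplit : φ ((0, 0), u₁ + u₂ + u₃) = φ ((0, 0), u₁) + φ ((0, 0), u₂) + φ ((0, 0), u₃) := by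
      rw [← map_add, ← map_add]; simp
    have key : ∀ v : U, q.restrict U v = 0 → polar q' (ψ a) (ψ (φ ((0, 0), v))) = 0 ∧
        polar q' (ψ b) (ψ (φ ((0, 0), v))) = 0 := fun v hv => by
      have hQv : q (φ ((0, 0), v)) = 0 := by rw [hφ, hypExt_apply, hv]; simp
      exact ⟨(horth _ _ hQa hQv).2 (by rw [ha, hpol, polar_hypExt]; simp [polar_zero_left]),
        (horth _ _ hQb hQv).2 (by rw [hb, hpol, polar_hypExt]; simp [polar_zero_left])⟩
    rw [hsplit, map_add, map_add, polar_add_right, polar_add_right, polar_add_right,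
      polar_add_right, (key _ q₁).1, (key _ q₁).2, (key _ q₂).1, (key _ q₂).2, (key _ q₃).1,
      (key _ q₃).2]
    simp
  refine ⟨σ, μ, fun h0 => one_ne_zero (hab.symm.trans ((horth a b hQa hQb).1 h0)), hsemi,
    fun x => ?_⟩
  obtain ⟨⟨⟨c, d⟩, u⟩, rfl⟩ := φ.surjective x
  obtain ⟨v, hv⟩ : ∃ v, v = φ ((0, 0), u) := ⟨_, rfl⟩
  have hsplit : φ ((c, d), u) = c • a + d • b + v := by
    rw [ha, hb, hv, ← map_smul, ← map_smul, ← map_add, ← map_add]; simp
  obtain ⟨hva, hvb⟩ := hperp u
  rw [← hv] at hva hvb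
  have hQv : q' (ψ v) = μ * σ (q v) := by
    have hs0 : q (a + (-(q v)) • b + v) = 0 := by
      rw [ha, hb, hv, ← map_smul, ← map_add, ← map_add, hφ, hφ]
      simp [hypExt_apply]
    have h1 := hsing _ hs0
    rw [map_add ψ, map_add ψ, hsemi, QuadraticMap.map_add (⇑q'), QuadraticMap.map_add (⇑q') (ψ a),
      QuadraticMap.map_smul, hsing a hQa, hsing b hQb, polar_add_left, polar_smul_left,
      polar_smul_right, hva, hvb, ← hμ, map_neg] at h1
    simp only [smul_eq_mul, mul_zero, add_zero, zero_add] at h1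
    linear_combination h1
  rw [hsplit, map_add ψ, map_add ψ, hsemi, hsemi, QuadraticMap.map_add (⇑q'),
    QuadraticMap.map_add (⇑q') (σ c • ψ a), QuadraticMap.map_smul, QuadraticMap.map_smul,
    hsing a hQa, hsing b hQb, hQv, polar_smul_left, polar_smul_right, polar_add_left,
    polar_smul_left, polar_smul_left, hva, hvb, ← hμ]
  have hqx : q (c • a + d • b + v) = c * d + q v := by
    rw [← hsplit, hφ, hv, hφ, hypExt_apply, hypExt_apply]; simp
  rw [hqx, map_add, map_mul]
  simp only [smul_eq_mul]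
  ring

end Cfsg.Agent.AutOrth45Semilin
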