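import Mathlib
import Cfsg.Agent.Lib.AutOrth45Roots
import Cfsg.Agent.Lib.AutOrth45Semilin

/-!
Every automorphism of a simple orthogonal group is induced by a semisimilarity.
-/

set_option autoImplicit false
set_option linter.unusedSectionVars false

namespace Cfsg.Agent.AutOrth45

open QuadraticMap
open Cfsg.Agent.OrthUnitaryQuad
open Cfsg.Agent.OrthUnitaryRefl
open Cfsg.Agent.OrthUnitaryOmega
open Cfsg.Agent.OrthUnitarySimple

variable {F V : Type*} [Field F] [Fintype F] [AddCommGroup V] [Module F V]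
  {Q : QuadraticForm F V}

/-- A semisimilarity. -/
structure SemiSim (Q : QuadraticForm F V) where
  G : V ≃+ V
  σ : F ≃+* F
  μ : F
  μ_ne : μ ≠ 0
  map_smul : ∀ (t : F) (x : V), G (t • x) = σ t • G x
  map_q : ∀ x, Q (G x) = μ * σ (Q x)

namespace SemiSim

variable (S : SemiSim Q)

theorem map_polar (x y : V) : polar Q (S.G x) (S.G y) = S.μ * S.σ (polar Q x y) := by
  simp only [polar, ← map_add S.G, S.map_q, map_sub]
  ring

theorem symm_smul (t : F) (x : V) : S.G.symm (t • x) = S.σ.symm t • S.G.symm x :=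
  S.G.injective (by
    rw [S.G.apply_symm_apply, S.map_smul, S.σ.apply_symm_apply, S.G.apply_symm_apply])

/-- Transport of an isometry. -/
def conjFun (g : orth Q) : orth Q :=
  ⟨{ toFun := fun y => S.G (g.1 (S.G.symm y))
     invFun := fun y => S.G (g.1.symm (S.G.symm y))
     map_add' := fun x y => by simp only [map_add]
     map_smul' := fun t x => by
       simp only [S.symm_smul, LinearEquiv.map_smul, S.map_smul, RingEquiv.apply_symm_apply,
         RingHom.id_apply]
     left_inv := fun x => by simp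
     right_inv := fun x => by simp },
   fun y => by
    show Q (S.G (g.1 (S.G.symm y))) = Q y
    rw [S.map_q, map_orth, ← S.map_q, AddEquiv.apply_symm_apply]⟩

theorem conjFun_apply (g : orth Q) (y : V) : (S.conjFun g).1 y = S.G (g.1 (S.G.symm y)) := rfl

/-- Transport of isometries. -/
def conjO : orth Q ≃* orth Q where
  toFun := S.conjFun
  invFun g := ⟨{ toFun := fun y => S.G.symm (g.1 (S.G y))
                 invFun := fun y => S.G.symm (g.1.symm (S.G y))
                 map_add' := fun x y => by simp only [map_add]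
                 map_smul' := fun t x => by
                   simp only [S.map_smul, LinearEquiv.map_smul, S.symm_smul,
                     RingEquiv.symm_apply_apply, RingHom.id_apply]
                 left_inv := fun x => by simp
                 right_inv := fun x => by simp },
    fun y => by
      show Q (S.G.symm (g.1 (S.G y))) = Q y
      have h1 : Q (S.G (S.G.symm (g.1 (S.G y)))) = Q (S.G y) := by
        rw [AddEquiv.apply_symm_apply, map_orth]
      rw [S.map_q, S.map_q] at h1
      exact S.σ.injective (mul_left_cancel₀ S.μ_ne h1)⟩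
  left_inv g := orth_ext fun x => by
    show S.G.symm (S.G (g.1 (S.G.symm (S.G x)))) = g.1 x
    simp
  right_inv g := orth_ext fun x => by
    show S.G (S.G.symm (g.1 (S.G (S.G.symm x)))) = g.1 x
    simp
  map_mul' a b := orth_ext fun x => by
    rw [orth_mul_apply, conjFun_apply, conjFun_apply, conjFun_apply, AddEquiv.symm_apply_apply,
      orth_mul_apply]

theorem conjO_apply (g : orth Q) (y : V) : (S.conjO g).1 y = S.G (g.1 (S.G.symm y)) := rfl

theorem conjO_mem (h : Good Q) (g : orth Q) : g ∈ sGroup Q ↔ S.conjO g ∈ sGroup Q := by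
  have := h.finDim
  rw [← commutator_eq_sGroup h.nd h.dim5]
  exact mem_commutator_iff S.conjO g

/-- Transport on the group of Siegel transformations. -/
def conjS (h : Good Q) : sGroup Q ≃* sGroup Q where
  toFun g := ⟨S.conjO g.1, (S.conjO_mem h g.1).1 g.2⟩
  invFun g := ⟨S.conjO.symm g.1, (S.conjO_mem h _).2 (by rw [MulEquiv.apply_symm_apply]; exact g.2)⟩
  left_inv g := Subtype.ext (S.conjO.symm_apply_apply g.1)
  right_inv g := Subtype.ext (S.conjO.apply_symm_apply g.1)
  map_mul' a b := Subtype.ext (map_mul S.conjO a.1 b.1)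

/-- The induced automorphism of the simple quotient. -/
noncomputable def conjP (h : Good Q) : MulAut (PS Q) :=
  QuotientGroup.congr _ _ (S.conjS h)
    (Subgroup.characteristic_iff_map_eq.1 Subgroup.centerCharacteristic (S.conjS h))

theorem conjP_mk (h : Good Q) (g : sGroup Q) : S.conjP h (mkP g) = mkP (S.conjS h g) := rfl

theorem lift_conjP (h : Good Q) {x : sGroup Q} (hx : IsP F x) :
    lift (S.conjP h) x = S.conjS h x :=
  h.lift_eq _ hx (hx.map (S.conjS h)) rfl

theorem conjS_sg (h : Good Q) {e w : V} (he : Q e = 0) (hw : polar Q e w = 0) :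
    S.conjS h (h.sg e w) = h.sg (S.G e) (S.μ⁻¹ • S.G w) := by
  apply s_ext
  intro y
  obtain ⟨x, rfl⟩ := S.G.surjective y
  show (S.conjO (h.sg e w).1).1 (S.G x) = _
  rw [conjO_apply, AddEquiv.symm_apply_apply, h.sg_app he hw, map_sub, map_add, S.map_smul,
    S.map_smul, h.sg_app (by rw [S.map_q, he, map_zero, mul_zero])
      (by rw [polar_smul_right, S.map_polar, hw, map_zero, mul_zero, smul_zero]),
    polar_smul_left, S.map_polar, S.map_polar, QuadraticMap.map_smul, S.map_q, map_add, map_mul]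
  simp only [smul_eq_mul]
  have hμ := S.μ_ne
  match_scalars <;> field_simp

theorem mem_line_conjS (h : Good Q) {x : sGroup Q} {u : V} :
    S.G u ∈ line (S.conjS h x) ↔ u ∈ line x := by
  rw [mem_line, mem_line]
  constructor
  · rintro ⟨v, hv⟩
    refine ⟨S.G.symm v, S.G.injective ?_⟩
    rw [map_sub, AddEquiv.apply_symm_apply, ← hv]
    rfl
  · rintro ⟨v, rfl⟩
    refine ⟨S.G v, ?_⟩
    show (S.conjO x.1).1 (S.G v) - S.G v = _
    rw [conjO_apply, AddEquiv.symm_apply_apply, map_sub]

end SemiSim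

/-! ### The projection to the space orthogonal to a hyperbolic pair -/

/-- A hyperbolic pair. -/
structure Hyp2 (Q : QuadraticForm F V) (e f : V) : Prop where
  qe : Q e = 0
  qf : Q f = 0
  ef : polar Q e f = 1

namespace Hyp2

variable {e f : V} (H : Hyp2 Q e f)

include H

theorem fe : polar Q f e = 1 := by rw [polar_comm]; exact H.ef

theorem ee : polar Q e e = 0 := by rw [polar_self_mul, H.qe, mul_zero]

theorem ff : polar Q f f = 0 := by rw [polar_self_mul, H.qf, mul_zero]

theorem e_ne : e ≠ 0 := fun h0 => by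
  have := H.ef; rw [h0, polar_zero_left] at this; exact zero_ne_one this

theorem f_ne : f ≠ 0 := fun h0 => by
  have := H.ef; rw [h0, polar_zero_right] at this; exact zero_ne_one this

theorem symm : Hyp2 Q f e := ⟨H.qf, H.qe, H.fe⟩

theorem mem_iff {x : V} : x ∈ perp Q ![e, f] ↔ polar Q e x = 0 ∧ polar Q f x = 0 := by
  rw [mem_perp]
  exact ⟨fun h => ⟨h 0, h 1⟩, fun h i => by fin_cases i; exacts [h.1, h.2]⟩

theorem proj_mem (x : V) : x - polar Q f x • e - polar Q e x • f ∈ perp Q ![e, f] := by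
  rw [H.mem_iff]
  simp [polar_sub_right, polar_smul_right, H.ee, H.ef, H.fe, H.ff]

/-- The projection. -/
def proj : V →ₗ[F] perp Q ![e, f] where
  toFun x := ⟨_, H.proj_mem x⟩
  map_add' x y := Subtype.ext (by
    simp only [polar_add_right, Submodule.coe_add]
    module)
  map_smul' t x := Subtype.ext (by
    simp only [polar_smul_right, smul_eq_mul, Submodule.coe_smul, RingHom.id_apply]
    module)

theorem proj_coe (x : V) : (H.proj x : V) = x - polar Q f x • e - polar Q e x • f := rfl

theorem decomp (x : V) : x = polar Q f x • e + polar Q e x • f + H.proj x := by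
  rw [proj_coe]; abel

theorem proj_of_mem (x : perp Q ![e, f]) : H.proj (x : V) = x := by
  obtain ⟨h1, h2⟩ := H.mem_iff.1 x.2
  exact Subtype.ext (by rw [proj_coe, h1, h2]; simp)

theorem nondegenerate (h : Good Q) : (polarBilin (Q.restrict (perp Q ![e, f]))).Nondegenerate := by
  have key : ∀ x : perp Q ![e, f], (∀ y, polar (Q.restrict (perp Q ![e, f])) x y = 0) → x = 0 := by
    intro x hx
    obtain ⟨h1, h2⟩ := H.mem_iff.1 x.2
    refine Subtype.ext (h.eq_zero fun v => ?_)
    have h3 : polar Q (x : V) (H.proj v : V) = 0 := hx (H.proj v)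
    rw [H.decomp v, polar_add_right, polar_add_right, polar_smul_right, polar_smul_right,
      polar_comm Q (x : V) e, polar_comm Q (x : V) f, h1, h2, h3]
    simp
  exact ⟨fun x hx => key x hx, fun x hx => key x fun y => by rw [polar_comm]; exact hx y⟩

theorem quad (x : V) : Q x = polar Q f x * polar Q e x + Q (H.proj x : V) := by
  obtain ⟨h1, h2⟩ := H.mem_iff.1 (H.proj x).2
  conv_lhs => rw [H.decomp x]
  rw [QuadraticMap.map_add (⇑Q), QuadraticMap.map_add (⇑Q) (polar Q f x • e),
    QuadraticMap.map_smul, QuadraticMap.map_smul, H.qe, H.qf, polar_add_left, polar_smul_left,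
    polar_smul_left, polar_smul_left, polar_smul_right, H.ef, h1, h2]
  simp

theorem sg_proj (h : Good Q) {w : V} (hw : polar Q e w = 0) : h.sg e w = h.sg e (H.proj w : V) := by
  conv_lhs => rw [show w = (H.proj w : V) + polar Q f w • e by rw [proj_coe, hw]; simp]
  exact h.sg_add_smul H.qe (H.mem_iff.1 (H.proj w).2).1 _

theorem eq_of_sg (h : Good Q) {a b : perp Q ![e, f]} (heq : h.sg e (a : V) = h.sg e (b : V)) :
    a = b := by
  obtain ⟨ha1, ha2⟩ := H.mem_iff.1 a.2
  obtain ⟨hb1, hb2⟩ := H.mem_iff.1 b.2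
  obtain ⟨c, hc⟩ := Submodule.mem_span_singleton.1 (h.sg_inj H.qe H.e_ne ha1 hb1 heq)
  have h1 := congrArg (polar Q f) hc
  rw [polar_smul_right, H.fe, polar_sub_right, ha2, hb2, smul_eq_mul, mul_one, sub_zero] at h1
  rw [h1, zero_smul, eq_comm, sub_eq_zero] at hc
  exact Subtype.ext hc

theorem pair (h : Good Q) {a : perp Q ![e, f]} (ha : Q (a : V) = 0) (ha0 : a ≠ 0) :
    IsPair Q e (a : V) := by
  obtain ⟨ha1, ha2⟩ := H.mem_iff.1 a.2
  refine IsPair.of_not_mem H.qe ha ha1 H.e_ne fun hm => ha0 (Subtype.ext ?_)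
  obtain ⟨c, hc⟩ := Submodule.mem_span_singleton.1 hm
  rw [← hc, polar_smul_right, H.fe, smul_eq_mul, mul_one] at ha2
  rw [← hc, ha2, zero_smul]; rfl

theorem mem_span_of_line (h : Good Q) {a b : perp Q ![e, f]} (hp : IsPair Q e (a : V))
    (hm : (b : V) ∈ line (h.sg e (a : V))) : ∃ t : F, b = t • a := by
  rw [h.line_sg hp] at hm
  obtain ⟨s, t, hst⟩ := Submodule.mem_span_pair.1 hm
  have h1 := congrArg (polar Q f) hst
  rw [polar_add_right, polar_smul_right, polar_smul_right, H.fe, (H.mem_iff.1 a.2).2,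
    (H.mem_iff.1 b.2).2] at h1
  simp at h1
  refine ⟨t, Subtype.ext ?_⟩
  rw [← hst, h1, zero_smul, zero_add]; rfl

end Hyp2

theorem Good.adj_at (h : Good Q) {e a b : V} (ha : IsPair Q e a) (hb : IsPair Q e b) :
    Adj (h.sg e a) (h.sg e b) ↔ line (h.sg e a) ≠ line (h.sg e b) ∧ polar Q a b = 0 := by
  constructor
  · exact fun ⟨h1, _, ho⟩ => ⟨h1, ho a (h.right_mem_line ha) b (h.right_mem_line hb)⟩
  · rintro ⟨h1, h0⟩
    refine ⟨h1, ⟨e, ha.ne_zero, h.left_mem_line ha, h.left_mem_line hb⟩, fun u hu v hv => ?_⟩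
    rw [h.line_sg ha] at hu
    rw [h.line_sg hb] at hv
    obtain ⟨s, t, rfl⟩ := Submodule.mem_span_pair.1 hu
    obtain ⟨s', t', rfl⟩ := Submodule.mem_span_pair.1 hv
    simp only [polar_add_left, polar_add_right, polar_smul_left, polar_smul_right, polar_self_mul,
      ha.1, hb.2.2.1, polar_comm Q a e, ha.2.2.1, h0, smul_eq_mul]
    ring

/-- The Siegel transformations at two points generate. -/
theorem Good.eq_top_of_pair (h : Good Q) {e f : V} (H : Hyp2 Q e f) (K : Subgroup (sGroup Q))
    (hKe : ∀ w, polar Q e w = 0 → h.sg e w ∈ K) (hKf : ∀ w, polar Q f w = 0 → h.sg f w ∈ K) :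
    K = ⊤ := by
  have := h.finDim
  have move : ∀ {e f : V}, Hyp2 Q e f → (∀ w, polar Q e w = 0 → h.sg e w ∈ K) →
      ∀ u, Q u = 0 → polar Q e u ≠ 0 → ∃ g ∈ K, ∃ c : F, g.1.1 u = c • f := by
    intro e f H hK u hu hne
    obtain ⟨u', hu'⟩ : ∃ u', u' = (polar Q e u)⁻¹ • u := ⟨_, rfl⟩
    have hQu : Q u' = 0 := by rw [hu', QuadraticMap.map_smul, hu, smul_zero]
    have heu : polar Q e u' = 1 := by
      rw [hu', polar_smul_right, smul_eq_mul, inv_mul_cancel₀ hne]
    have hw : polar Q e (f - u') = 0 := by rw [polar_sub_right, H.ef, heu, sub_self]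
    refine ⟨_, hK _ hw, polar Q e u, ?_⟩
    have h1 : (h.sg e (f - u')).1.1 u' = f := by
      have hz : polar Q (f - u') u' + Q (f - u') = 0 := by
        have h := QuadraticMap.map_add (⇑Q) (f - u') u'
        rw [sub_add_cancel, H.qf, hQu] at h
        linear_combination -h
      rw [h.sg_app H.qe hw, heu, mul_one, hz, zero_smul, one_smul, sub_zero, add_sub_cancel]
    conv_lhs => rw [show u = polar Q e u • u' by rw [hu', smul_inv_smul₀ hne]]
    rw [map_smul, h1]
  obtain ⟨g₁, hg₁, c₁, hg₁e⟩ : ∃ g ∈ K, ∃ c : F, g.1.1 f = c • e := by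
    obtain ⟨z, hz⟩ := exists_map_ne_zero
      (isReg_of_nondegenerate (H.nondegenerate h)) (by
        have := finrank_perp (Q := Q) ![e, f]; have := h.dim; omega)
    obtain ⟨hze, hzf⟩ := H.mem_iff.1 z.2
    have hzQ : Q (z : V) ≠ 0 := by simpa using hz
    obtain ⟨u, hu⟩ : ∃ u, u = e + (-Q (z : V)) • f + (z : V) := ⟨_, rfl⟩
    have hQu : Q u = 0 := by
      rw [hu, QuadraticMap.map_add (⇑Q), QuadraticMap.map_add (⇑Q) e, QuadraticMap.map_smul, H.qe,
        H.qf, polar_add_left, polar_smul_left, polar_smul_right, H.ef, hze, hzf]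
      simp
    have heu : polar Q e u ≠ 0 := by
      rw [hu, polar_add_right, polar_add_right, polar_smul_right, H.ee, H.ef, hze]
      simpa using hzQ
    have hfu : polar Q f u = 1 := by
      rw [hu, polar_add_right, polar_add_right, polar_smul_right, H.fe, H.ff, hzf]
      simp
    obtain ⟨g, hg, c, hgc⟩ := move H hKe u hQu heu
    obtain ⟨k, hk, d, hkd⟩ := move H.symm hKf u hQu (by rw [hfu]; exact one_ne_zero)
    have hc : c ≠ 0 := fun h0 => heu (by
      rw [show u = 0 from g.1.1.injective (by rw [hgc, h0, zero_smul, map_zero]), polar_zero_right])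
    refine ⟨k * g⁻¹, K.mul_mem hk (K.inv_mem hg), c⁻¹ * d, ?_⟩
    have h2 : (g⁻¹).1.1 f = c⁻¹ • u := g.1.1.injective (by
      rw [s_apply_inv_self, map_smul, hgc, inv_smul_smul₀ hc])
    rw [s_mul_apply, h2, map_smul, hkd, smul_smul]
  have key : ∀ u, Q u = 0 → u ≠ 0 → ∃ g ∈ K, ∃ c : F, g.1.1 u = c • e := by
    have aux : ∀ u, Q u = 0 → polar Q e u ≠ 0 ∨ polar Q f u ≠ 0 →
        ∃ g ∈ K, ∃ c : F, g.1.1 u = c • e := by
      rintro u hu (hne | hne)
      · obtain ⟨g, hg, c, hgc⟩ := move H hKe u hu hne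
        exact ⟨g₁ * g, K.mul_mem hg₁ hg, c * c₁, by
          rw [s_mul_apply, hgc, map_smul, hg₁e, smul_smul]⟩
      · exact move H.symm hKf u hu hne
    intro u hu hu0
    by_cases hne : polar Q e u ≠ 0 ∨ polar Q f u ≠ 0
    · exact aux u hu hne
    push Not at hne
    obtain ⟨heu, hfu⟩ := hne
    obtain ⟨u₀, hu₀⟩ : ∃ u₀ : perp Q ![e, f], (u₀ : V) = u := ⟨⟨u, H.mem_iff.2 ⟨heu, hfu⟩⟩, rfl⟩
    obtain ⟨b, hb⟩ : ∃ b : perp Q ![e, f], polar Q (b : V) u ≠ 0 := by
      by_contra hc
      push Not at hc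
      exact hu0 (hu₀ ▸ congrArg Subtype.val ((H.nondegenerate h).1 u₀ fun y => by
        show polar Q (u₀ : V) (y : V) = 0
        rw [hu₀, polar_comm]; exact hc y))
    obtain ⟨hbe, hbf⟩ := H.mem_iff.1 b.2
    have h1 : (h.sg e (b : V)).1.1 u = u - polar Q (b : V) u • e := by
      rw [h.sg_app H.qe hbe, heu, zero_smul, add_zero, mul_zero, add_zero]
    obtain ⟨g, hg, c, hgc⟩ := aux (u - polar Q (b : V) u • e)
      (by rw [← h1, map_orth, hu])
      (Or.inr (by rw [polar_sub_right, polar_smul_right, hfu, H.fe]; simpa using hb))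
    exact ⟨g * h.sg e b, K.mul_mem hg (hKe _ hbe), c, by rw [s_mul_apply, h1, hgc]⟩
  rw [eq_top_iff]
  rintro ⟨x, hx⟩ -
  induction hx using Subgroup.closure_induction with
  | mem y hy =>
    obtain ⟨u, w, hu, hw, hQw, rfl⟩ := hy
    have he : (⟨siegel Q u w hu hw, siegel_mem_sGroup hu hw hQw⟩ : sGroup Q) = h.sg u w :=
      Subtype.ext (sg_eq hu hw).symm
    refine he.symm ▸ ?_
    by_cases hu0 : u = 0
    · subst hu0
      have : h.sg 0 w = 1 := s_ext fun x => by rw [h.sg_app hu hw, s_one_apply]; simp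
      rw [this]
      exact K.one_mem
    obtain ⟨g, hg, c, hgc⟩ := key u hu hu0
    have hw' : polar Q e (c • g.1.1 w) = 0 := by
      rw [polar_smul_right, ← polar_smul_left, ← hgc, polar_orth, hw]
    have h1 : g * h.sg u w * g⁻¹ = h.sg e (c • g.1.1 w) := by
      rw [h.conj_sg g hu hw, hgc]
      refine h.sg_scale H.qe ?_
      have hc : c ≠ 0 := fun h0 => hu0 (g.1.1.injective (by rw [hgc, h0, zero_smul, map_zero]))
      rw [polar_smul_right, smul_eq_mul] at hw'
      exact (mul_eq_zero.1 hw').resolve_left hc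
    have h2 := hKe _ hw'
    rw [← h1] at h2
    simpa [mul_assoc] using K.mul_mem (K.mul_mem (K.inv_mem hg) h2) hg
  | one => exact K.one_mem
  | mul a b ha hb h1 h2 => exact K.mul_mem h1 h2
  | inv a ha h1 => exact K.inv_mem h1

/-- An automorphism fixing one point group and the other point is trivial. -/
theorem Good.eq_one_of_fix (h : Good Q) {e f : V} (H : Hyp2 Q e f) (α : MulAut (PS Q))
    (hfix : ∀ w, polar Q e w = 0 → lift α (h.sg e w) = h.sg e w)
    (hf : ∀ x, IsRoot x → f ∈ line x → f ∈ line (lift α x)) : α = 1 := by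
  have := h.finDim
  have hroot : ∀ a : perp Q ![e, f], Q (a : V) = 0 → lift α (h.sg f (a : V)) = h.sg f (a : V) := by
    intro a ha
    obtain ⟨hae, haf⟩ := H.mem_iff.1 a.2
    by_cases ha0 : a = 0
    · rw [ha0, ZeroMemClass.coe_zero, h.sg_zero H.qf, h.lift_one]
    have hae' : polar Q (a : V) e = 0 := by rw [polar_comm]; exact hae
    have hpe : IsPair Q e (a : V) := H.pair h ha ha0
    have hpf : IsPair Q f (a : V) := IsPair.of_not_mem H.qf ha haf H.f_ne fun hm => by
      obtain ⟨c, hc⟩ := Submodule.mem_span_singleton.1 hm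
      have h1 := hae
      rw [← hc, polar_smul_right, H.ef, smul_eq_mul, mul_one] at h1
      exact ha0 (Subtype.ext (by rw [← hc, h1, zero_smul]; rfl))
    have hr := h.isRoot_sg hpf
    have hre := h.isRoot_sg hpe
    obtain ⟨a'', hpa'', hTx⟩ := h.through (h.isRoot_lift α hr) (hf _ hr (h.left_mem_line hpf)) H.f_ne
    have hTx' : lift α (h.sg f (a : V)) = h.sg f (H.symm.proj a'' : V) := by
      rw [hTx]; exact H.symm.sg_proj h hpa''.2.2.1
    obtain ⟨a', ha'e, ha'f, hTx'⟩ : ∃ a' : V, polar Q e a' = 0 ∧ polar Q f a' = 0 ∧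
        lift α (h.sg f (a : V)) = h.sg f a' :=
      ⟨_, (H.symm.mem_iff.1 (H.symm.proj a'').2).2, (H.symm.mem_iff.1 (H.symm.proj a'').2).1, hTx'⟩
    have hpa' : IsPair Q f a' :=
      h.of_isRoot_sg H.qf H.f_ne ha'f (hTx' ▸ h.isRoot_lift α hr)
    obtain ⟨k, rfl⟩ : ∃ k : F, a' = k • (a : V) := by
      have hm : Meets (lift α (h.sg f (a : V))) (lift α (h.sg e (a : V))) :=
        (h.meets_lift_iff α hr hre).2
          ⟨a, hpe.swap.ne_zero, h.right_mem_line hpf, h.right_mem_line hpe⟩
      rw [hfix _ hae, hTx'] at hm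
      obtain ⟨p, hp0, hp1, hp2⟩ := hm
      rw [h.line_sg hpa'] at hp1
      rw [h.line_sg hpe] at hp2
      obtain ⟨s, t, rfl⟩ := Submodule.mem_span_pair.1 hp1
      obtain ⟨s', t', hp2⟩ := Submodule.mem_span_pair.1 hp2
      have h1 := congrArg (polar Q e) hp2
      have h2 := congrArg (polar Q f) hp2
      simp [polar_add_right, polar_smul_right, H.ee, H.ef, H.fe, H.ff, hae, haf, ha'e, ha'f] at h1 h2
      rw [← h1, h2, zero_smul, zero_smul, zero_add, zero_add] at hp2
      have ht : t ≠ 0 := fun h0 => hp0 (by rw [← h1, h0]; simp)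
      exact ⟨t⁻¹ * t', by rw [mul_smul, hp2, inv_smul_smul₀ ht]⟩
    obtain ⟨v, hv⟩ := h.exists_value ![(a : V)]
      (linearIndependent_unique_iff.2 (by simpa using hpe.swap.ne_zero)) ![1]
    have hav : polar Q (a : V) v = 1 := hv 0
    obtain ⟨b, hb, hb0, hbp⟩ := h.exists_sing_perp ![e, f, (a : V), v] le_rfl
    have hbe : polar Q e b = 0 := hbp 0
    have hbf : polar Q f b = 0 := hbp 1
    have hab : polar Q (a : V) b = 0 := hbp 2
    have hvb : polar Q v b = 0 := hbp 3
    have hpab : IsPair Q (a : V) b := IsPair.of_not_mem ha hb hab hpe.swap.ne_zero fun hm => by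
      obtain ⟨c, hc⟩ := Submodule.mem_span_singleton.1 hm
      rw [← hc, polar_smul_right, polar_comm Q v, hav, smul_eq_mul, mul_one] at hvb
      exact hb0 (by rw [← hc, hvb, zero_smul])
    have prod : ∀ c : F, h.sg e b * h.sg (c • (a : V)) b = h.sg (e + c • (a : V)) b := by
      intro c
      have hb1 : polar Q b e = 0 := by rw [polar_comm]; exact hbe
      have hb2 : polar Q b (c • (a : V)) = 0 := by
        rw [polar_smul_right, polar_comm Q b (a : V), hab, smul_zero]
      have hQc : Q (c • (a : V)) = 0 := by rw [QuadraticMap.map_smul, ha, smul_zero]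
      have hb3 : polar Q b (e + c • (a : V)) = 0 := by rw [polar_add_right, hb1, hb2, add_zero]
      rw [h.root_swap hb H.qe hb1, h.root_swap hb hQc hb2, h.root_swap hb (by
          rw [QuadraticMap.map_add (⇑Q), hQc, H.qe, polar_smul_right, hae]; simp) hb3,
        ← mul_inv_rev, h.sg_mul hb hb2 hb1, add_comm]
    have conjg : ∀ c : F, h.sg f (c • (a : V)) * h.sg e b * (h.sg f (c • (a : V)))⁻¹
        = h.sg (e + c • (a : V)) b := by
      intro c
      have hfc : polar Q f (c • (a : V)) = 0 := by rw [polar_smul_right, haf, smul_zero]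
      have e1 : (h.sg f (c • (a : V))).1.1 e = e + c • (a : V) := by
        rw [h.sg_app H.qf hfc, H.fe, polar_smul_left, hae', QuadraticMap.map_smul, ha]
        simp
      have e2 : (h.sg f (c • (a : V))).1.1 b = b := by
        rw [h.sg_app H.qf hfc, hbf, polar_smul_left, hab]
        simp
      rw [h.conj_sg _ H.qe hbe, e1, e2]
    have hTab : lift α (h.sg (a : V) b) = h.sg (k • (a : V)) b := by
      have h1 := congrArg (lift α) (conjg 1)
      rw [one_smul, h.lift_conj α (h.isP_sg _ _) (h.isP_sg _ _), hfix _ hbe, hTx', conjg k,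
        ← prod k] at h1
      have hc : Commute (h.sg e b) (h.sg (a : V) b) := by
        rw [h.root_swap hb H.qe (by rw [polar_comm]; exact hbe),
          h.root_swap hb ha (by rw [polar_comm]; exact hab)]
        exact (h.sg_comm hb (by rw [polar_comm]; exact hbe)
          (by rw [polar_comm]; exact hab)).inv_inv
      have h2 := prod 1
      rw [one_smul] at h2
      rw [← h2, h.lift_mul α (h.isP_sg _ _) (h.isP_sg _ _) hc, hfix _ hbe] at h1
      exact (mul_left_cancel h1).symm
    have hk : k = 1 := by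
      have hli : LinearIndependent F ![e, f, (a : V), b] := by
        rw [Fintype.linearIndependent_iff]
        intro g hg
        simp [Fin.sum_univ_four] at hg
        have h1 := congrArg (polar Q e) hg
        have h2 := congrArg (polar Q f) hg
        simp [polar_add_right, polar_smul_right, H.ee, H.ef, H.fe, H.ff, hae, haf, hbe, hbf]
          at h1 h2
        rw [h1, h2, zero_smul, zero_smul, zero_add, zero_add] at hg
        have := LinearIndependent.pair_iff.1 hpab.2.2.2 _ _ hg
        intro i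
        fin_cases i <;> simp_all
      obtain ⟨w, hw⟩ := h.exists_value _ hli ![0, 0, 1, 0]
      have hwe : polar Q e w = 0 := hw 0
      have hwa : polar Q (a : V) w = 1 := hw 2
      have hwb : polar Q b w = 0 := hw 3
      have fixe : ∀ c : F, (h.sg (c • (a : V)) b).1.1 e = e := fun c => by
        rw [h.root_app (by rw [QuadraticMap.map_smul, ha, smul_zero]) hb
          (by rw [polar_smul_left, hab, smul_zero]), polar_smul_left, hae', polar_comm Q b e, hbe]
        simp
      have appw : ∀ c : F, (h.sg (c • (a : V)) b).1.1 w = w + c • b := fun c => by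
        rw [h.root_app (by rw [QuadraticMap.map_smul, ha, smul_zero]) hb
          (by rw [polar_smul_left, hab, smul_zero]), polar_smul_left, hwa, hwb]
        simp
      have hperp : ∀ c : F, polar Q e (w + c • b) = 0 := fun c => by
        rw [polar_add_right, polar_smul_right, hwe, hbe, smul_zero, add_zero]
      have step : ∀ c : F, h.sg (c • (a : V)) b * h.sg e w * (h.sg (c • (a : V)) b)⁻¹
          = h.sg e (w + c • b) := fun c => by rw [h.conj_sg _ H.qe hwe, fixe, appw]
      have h1 := congrArg (lift α) (step 1)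
      rw [h.lift_conj α (h.isP_sg _ _) (h.isP_sg _ _), hfix _ (hperp 1), hfix _ hwe, one_smul,
        hTab, step k] at h1
      obtain ⟨c, hc⟩ := Submodule.mem_span_singleton.1
        (h.sg_inj H.qe H.e_ne (hperp k) (by simpa using hperp 1) h1)
      have h2 := congrArg (polar Q f) hc
      simp [polar_sub_right, polar_add_right, polar_smul_right, H.fe, hbf] at h2
      rw [h2, zero_smul] at hc
      by_contra hne
      have : (k - 1) • b = 0 := by rw [hc]; module
      exact hb0 ((smul_eq_zero.1 this).resolve_left (sub_ne_zero.2 hne))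
    rw [hTx', hk, one_smul]
  have hfixf : ∀ w, polar Q f w = 0 → lift α (h.sg f w) = h.sg f w := by
    intro w hw
    refine h.q_induction H.qf H.f_ne (P := fun x => lift α x = x) (h.lift_one α) (fun a ha => ?_)
      ?_ ⟨w, hw, rfl⟩
    · obtain ⟨a', ha', he'⟩ : ∃ a' : perp Q ![e, f], Q (a' : V) = 0 ∧ h.sg f a = h.sg f (a' : V) := by
        refine ⟨⟨_, H.mem_iff.2 ⟨(H.symm.mem_iff.1 (H.symm.proj a).2).2,
          (H.symm.mem_iff.1 (H.symm.proj a).2).1⟩⟩, ?_, H.symm.sg_proj h ha.2.2.1⟩
        have := H.symm.quad a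
        rw [ha.2.1, ha.2.2.1, mul_zero, zero_add] at this
        exact this.symm
      show lift α (h.sg f a) = h.sg f a
      rw [he']
      exact hroot a' ha'
    · rintro _ _ ⟨u, hu, rfl⟩ ⟨v, hv, rfl⟩ h1 h2
      show lift α _ = _
      rw [h.lift_mul α (h.isP_sg _ _) (h.isP_sg _ _) (h.sg_comm H.qf hu hv), h1, h2]
  let K : Subgroup (sGroup Q) := MonoidHom.eqLocus ((α : PS Q →* PS Q).comp mkP) mkP
  have key : ∀ x, IsP F x → lift α x = x → x ∈ K := fun x hx he => by
    show α (mkP x) = mkP x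
    rw [← (h.lift_spec α hx).2, he]
  have hK := h.eq_top_of_pair H K (fun w hw => key _ (h.isP_sg _ _) (hfix w hw))
    (fun w hw => key _ (h.isP_sg _ _) (hfixf w hw))
  refine MulEquiv.ext fun y => ?_
  obtain ⟨x, rfl⟩ := QuotientGroup.mk'_surjective _ y
  exact (show x ∈ K from hK ▸ Subgroup.mem_top x)

/-- Every automorphism is induced by a semisimilarity. -/
theorem Good.exists_semiSim (h : Good Q) (α : MulAut (PS Q)) :
    ∃ S : SemiSim Q, α = S.conjP h := by
  have := h.finDim
  have := h.finite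
  obtain ⟨e, he, he0⟩ := exists_singular h.reg (by have := h.dim; omega)
  obtain ⟨f, hf, hef⟩ := h.exists_hyp he he0
  have H : Hyp2 Q e f := ⟨he, hf, hef⟩
  obtain ⟨e', he'0, he', hpte⟩ := h.exists_pointMap α he he0
  obtain ⟨f₀, hf₀0, hf₀, hptf⟩ := h.exists_pointMap α hf H.f_ne
  have hne : polar Q e' f₀ ≠ 0 := by
    intro h0
    -- otherwise some root passes through both, and so does its preimage
    obtain ⟨y, hy, hy1, hy2⟩ : ∃ y, IsRoot y ∧ e' ∈ line y ∧ f₀ ∈ line y := by
      by_cases hm : f₀ ∈ Submodule.span F {e'}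
      · obtain ⟨c, hc⟩ := Submodule.mem_span_singleton.1 hm
        obtain ⟨a, -, hpa, -⟩ := h.exists_two he' he'0
        exact ⟨_, h.isRoot_sg hpa, h.left_mem_line hpa,
          hc ▸ Submodule.smul_mem _ c (h.left_mem_line hpa)⟩
      · have hp := IsPair.of_not_mem he' hf₀ h0 he'0 hm
        exact ⟨_, h.isRoot_sg hp, h.left_mem_line hp, h.right_mem_line hp⟩
    have hy' := h.isRoot_lift α⁻¹ hy
    rw [← h.lift_lift_inv α (h.isP_root hy)] at hy1 hy2
    have := (h.line_ts hy' ((hpte _ hy').2 hy1) ((hptf _ hy').2 hy2)).2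
    rw [hef] at this
    exact one_ne_zero this
  obtain ⟨f', hf'def⟩ : ∃ f', f' = (polar Q e' f₀)⁻¹ • f₀ := ⟨_, rfl⟩
  have H' : Hyp2 Q e' f' := ⟨he', by rw [hf'def, QuadraticMap.map_smul, hf₀, smul_zero],
    by rw [hf'def, polar_smul_right, smul_eq_mul, inv_mul_cancel₀ hne]⟩
  have hptf' : ∀ x, IsRoot x → f ∈ line x → f' ∈ line (lift α x) := fun x hx hm =>
    hf'def ▸ Submodule.smul_mem _ _ ((hptf x hx).1 hm)
  have hpte' : ∀ x, IsRoot x → (e' ∈ line x ↔ e ∈ line (lift α⁻¹ x)) := fun x hx => by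
    rw [hpte _ (h.isRoot_lift α⁻¹ hx), h.lift_lift_inv α (h.isP_root hx)]
  -- the map between the orthogonal spaces
  have hex : ∀ a : perp Q ![e, f], ∃ b : perp Q ![e', f'],
      lift α (h.sg e (a : V)) = h.sg e' (b : V) := fun a => by
    obtain ⟨w, hw, hw'⟩ := h.inQ_lift α he he0 he'0 he' hpte ⟨a, (H.mem_iff.1 a.2).1, rfl⟩
    exact ⟨H'.proj w, hw'.trans (H'.sg_proj h hw)⟩
  choose φ hφ using hex
  have hφadd : ∀ a b, φ (a + b) = φ a + φ b := by
    intro a b
    refine H'.eq_of_sg h ?_
    have ha := (H.mem_iff.1 a.2).1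
    have hb := (H.mem_iff.1 b.2).1
    rw [← hφ, Submodule.coe_add, ← h.sg_mul he ha hb,
      h.lift_mul α (h.isP_sg _ _) (h.isP_sg _ _) (h.sg_comm he ha hb), hφ, hφ,
      h.sg_mul he' (H'.mem_iff.1 (φ a).2).1 (H'.mem_iff.1 (φ b).2).1, Submodule.coe_add]
  have hφbij : Function.Bijective φ := by
    constructor
    · intro a b hab
      refine H.eq_of_sg h (h.lift_inj α (h.isP_sg _ _) (h.isP_sg _ _) ?_)
      rw [hφ, hφ, hab]
    · intro b
      obtain ⟨w, hw, hw'⟩ := h.inQ_lift α⁻¹ he' he'0 he0 he hpte' ⟨b, (H'.mem_iff.1 b.2).1, rfl⟩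
      refine ⟨H.proj w, H'.eq_of_sg h ?_⟩
      rw [← hφ, ← H.sg_proj h hw, ← hw', h.lift_lift_inv α (h.isP_sg _ _)]
  obtain ⟨ψ, hψ⟩ : ∃ ψ : perp Q ![e, f] ≃+ perp Q ![e', f'], ∀ a, ψ a = φ a :=
    ⟨AddEquiv.ofBijective (AddMonoidHom.mk' φ hφadd) hφbij, fun a => rfl⟩
  set q := Q.restrict (perp Q ![e, f]) with hq
  set q' := Q.restrict (perp Q ![e', f']) with hq'
  have hpair : ∀ a, q a = 0 → a ≠ 0 → IsPair Q e' (φ a : V) ∧ IsPair Q e (a : V) := by
    intro a ha ha0
    have hp := H.pair h ha ha0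
    refine ⟨h.of_isRoot_sg he' he'0 (H'.mem_iff.1 (φ a).2).1 ?_, hp⟩
    rw [← hφ]
    exact h.isRoot_lift α (h.isRoot_sg hp)
  have hsing : ∀ a, q a = 0 → q' (ψ a) = 0 := by
    intro a ha
    by_cases ha0 : a = 0
    · simp [ha0]
    rw [hψ]
    exact (hpair a ha ha0).1.2.1
  have hline : ∀ a, q a = 0 → ∀ t : F, ∃ s : F, ψ (t • a) = s • ψ a := by
    intro a ha t
    by_cases ha0 : a = 0
    · exact ⟨0, by simp [ha0]⟩
    by_cases ht : t = 0
    · exact ⟨0, by simp [ht]⟩
    have hta : q (t • a) = 0 := by rw [QuadraticMap.map_smul, ha, smul_zero]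
    obtain ⟨p1, p2⟩ := hpair a ha ha0
    obtain ⟨r1, r2⟩ := hpair _ hta (smul_ne_zero ht ha0)
    have hl : line (h.sg e ((t • a : perp Q ![e, f]) : V)) = line (h.sg e (a : V)) := by
      rw [h.line_sg r2, h.line_sg p2, Submodule.coe_smul, Submodule.span_insert, Submodule.span_insert,
        Submodule.span_singleton_smul_eq (IsUnit.mk0 t ht)]
    have hl' := (h.line_lift_iff α (h.isRoot_sg r2) (h.isRoot_sg p2)).2 hl
    rw [hφ, hφ] at hl'
    obtain ⟨s, hs⟩ := H'.mem_span_of_line h p1 (hl' ▸ h.right_mem_line r1)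
    exact ⟨s, by rw [hψ, hψ, hs]⟩
  have horth : ∀ a b, q a = 0 → q b = 0 →
      (polar q' (ψ a) (ψ b) = 0 ↔ polar q a b = 0) := by
    intro a b ha hb
    by_cases ha0 : a = 0
    · simp [ha0, polar_zero_left]
    by_cases hb0 : b = 0
    · simp [hb0, polar_zero_right]
    by_cases hm : b ∈ Submodule.span F {a}
    · obtain ⟨t, rfl⟩ := Submodule.mem_span_singleton.1 hm
      obtain ⟨s, hs⟩ := hline a ha t
      have e1 : polar q a a = 0 := by rw [polar_self_mul, ha, mul_zero]
      have e2 : polar q' (ψ a) (ψ a) = 0 := by rw [polar_self_mul, hsing a ha, mul_zero]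
      rw [hs, polar_smul_right, polar_smul_right, e1, e2]
      simp
    obtain ⟨a1, a2⟩ := hpair a ha ha0
    obtain ⟨b1, b2⟩ := hpair b hb hb0
    have hne : line (h.sg e (a : V)) ≠ line (h.sg e (b : V)) := fun hl => hm (by
      obtain ⟨t, rfl⟩ := H.mem_span_of_line h a2 (hl.symm ▸ h.right_mem_line b2)
      exact Submodule.mem_span_singleton.2 ⟨t, rfl⟩)
    have hne' : line (lift α (h.sg e (a : V))) ≠ line (lift α (h.sg e (b : V))) := fun hl =>
      hne ((h.line_lift_iff α (h.isRoot_sg a2) (h.isRoot_sg b2)).1 hl)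
    have h1 := h.adj_lift_iff α (h.isRoot_sg a2) (h.isRoot_sg b2)
    rw [hφ, hφ] at hne'
    rw [hφ, hφ, h.adj_at a1 b1, h.adj_at a2 b2, and_iff_right hne, and_iff_right hne'] at h1
    rw [hψ, hψ]
    exact h1
  obtain ⟨σ, μ, hμ, hsemi, hquad⟩ := AutOrth45Semilin.exists_semilinear (H.nondegenerate h)
    (by have := finrank_perp (Q := Q) ![e, f]; have := h.dim; omega) ψ hsing horth hline
  -- the semisimilarity
  let G : V →+ V := AddMonoidHom.mk'
    (fun x => (μ * σ (polar Q f x)) • e' + σ (polar Q e x) • f' + (ψ (H.proj x) : V))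
    (fun x y => by
      simp only [polar_add_right, map_add, Submodule.coe_add]
      module)
  have hGapp : ∀ x, G x = (μ * σ (polar Q f x)) • e' + σ (polar Q e x) • f' + (ψ (H.proj x) : V) :=
    fun x => rfl
  have hGb : ∀ x, polar Q e' (G x) = σ (polar Q e x) ∧ polar Q f' (G x) = μ * σ (polar Q f x) ∧
      H'.proj (G x) = ψ (H.proj x) := by
    intro x
    obtain ⟨h1, h2⟩ := H'.mem_iff.1 (ψ (H.proj x)).2
    have e1 : polar Q e' (G x) = σ (polar Q e x) := by
      rw [hGapp, polar_add_right, polar_add_right, polar_smul_right, polar_smul_right, H'.ee,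
        H'.ef, h1]
      simp
    have e2 : polar Q f' (G x) = μ * σ (polar Q f x) := by
      rw [hGapp, polar_add_right, polar_add_right, polar_smul_right, polar_smul_right, H'.ff,
        H'.fe, h2]
      simp
    refine ⟨e1, e2, Subtype.ext ?_⟩
    rw [Hyp2.proj_coe, e1, e2, hGapp]
    module
  have hGinj : Function.Injective G := by
    rw [injective_iff_map_eq_zero]
    intro x hx
    obtain ⟨e1, e2, e3⟩ := hGb x
    rw [hx, polar_zero_right] at e1 e2
    rw [hx, map_zero] at e3
    have e2' := (mul_eq_zero.1 e2.symm).resolve_left hμ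
    rw [H.decomp x, (map_eq_zero σ).1 e1.symm, (map_eq_zero σ).1 e2',
      show H.proj x = 0 from ψ.injective (by rw [← e3, map_zero])]
    simp
  let S : SemiSim Q :=
    { G := AddEquiv.ofBijective G (Finite.injective_iff_bijective.1 hGinj)
      σ := σ
      μ := μ
      μ_ne := hμ
      map_smul := fun t x => by
        show G (t • x) = σ t • G x
        simp only [hGapp, polar_smul_right, smul_eq_mul, map_mul, LinearMap.map_smul, hsemi,
          Submodule.coe_smul]
        module
      map_q := fun x => by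
        show Q (G x) = μ * σ (Q x)
        obtain ⟨e1, e2, e3⟩ := hGb x
        have h1 : Q (ψ (H.proj x) : V) = μ * σ (Q (H.proj x : V)) := hquad (H.proj x)
        rw [H'.quad (G x), H.quad x, e1, e2, e3, h1, map_add, map_mul]
        ring }
  have hSe : S.G e = μ • e' := by
    show G e = _
    rw [hGapp, H.fe, H.ee, show H.proj e = 0 from Subtype.ext (by
      rw [Hyp2.proj_coe, H.fe, H.ee]; simp)]
    simp
  have hSf : S.G f = f' := by
    show G f = _
    rw [hGapp, H.ff, H.ef, show H.proj f = 0 from Subtype.ext (by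
      rw [Hyp2.proj_coe, H.ff, H.ef]; simp)]
    simp
  have hSw : ∀ a : perp Q ![e, f], S.G (a : V) = (ψ a : V) := fun a => by
    show G a = _
    rw [hGapp, H.proj_of_mem, (H.mem_iff.1 a.2).1, (H.mem_iff.1 a.2).2]
    simp
  refine ⟨S, ?_⟩
  have hone : (S.conjP h)⁻¹ * α = 1 := by
    refine h.eq_one_of_fix H _ (fun w hw => ?_) (fun x hx hm => ?_)
    · rw [H.sg_proj h hw, ← h.lift_lift _ _ (h.isP_sg _ _), hφ]
      have hp := (H.mem_iff.1 (H.proj w).2).1
      have h1 : lift (S.conjP h) (h.sg e (H.proj w : V)) = h.sg e' (φ (H.proj w) : V) := by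
        have h2 : polar Q e' (S.μ⁻¹ • S.G (H.proj w : V)) = 0 := by
          rw [polar_smul_right, hSw, (H'.mem_iff.1 (ψ _).2).1, smul_zero]
        rw [S.lift_conjP h (h.isP_sg _ _), S.conjS_sg h he hp, hSe, h.sg_scale he' h2, hSw,
          hψ, smul_smul, show μ * S.μ⁻¹ = 1 from mul_inv_cancel₀ hμ, one_smul]
      rw [← h1, h.lift_inv_lift _ (h.isP_sg _ _)]
    · rw [← h.lift_lift _ _ (h.isP_root hx)]
      have hy := h.isRoot_lift (S.conjP h)⁻¹ (h.isRoot_lift α hx)
      rw [← S.mem_line_conjS h, hSf, ← S.lift_conjP h (h.isP_root hy),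
        h.lift_lift_inv _ (h.isP_root (h.isRoot_lift α hx))]
      exact hptf' x hx hm
  exact (inv_mul_eq_one.1 hone).symm

end Cfsg.Agent.AutOrth45
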