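import Mathlib
import Cfsg.Prelude.Def_LieTypeDatum
import Cfsg.Agent.Lib.OrthUnitarySimple
import Cfsg.Agent.Lib.OrthUnitaryPrelude
import Cfsg.Agent.Lib.QuadClassify

/-!
The action of the similarity group of a quadratic form on `PΩ`: the induced automorphisms, the
kernel, and the subgroups of the automorphism group that the named predicates generate.
-/

set_option autoImplicit false
set_option linter.unusedSectionVars false

namespace Cfsg.Agent.OrthUnitarySimAut

open QuadraticMap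
open scoped Matrix MatrixGroups commutatorElement
open Cfsg.Agent.OrthUnitaryQuad
open Cfsg.Agent.OrthUnitaryRefl
open Cfsg.Agent.OrthUnitaryOmega
open Cfsg.Agent.OrthUnitaryPrelude
open Cfsg.Agent.OrthUnitarySimple

variable {ι : Type} [Fintype ι] [DecidableEq ι] {F : Type*} [Field F]
  (Q : QuadraticForm F (ι → F))

/-- The similarity group. -/
abbrev Sim : Subgroup (GL ι F) := Geo.quadSimilarityGroup (F := F) ⇑Q

theorem isometry_le_sim : isometryGroup F ⇑Q ≤ Sim Q := fun g hg =>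
  ⟨1, fun v => by simpa using hg v v⟩

theorem conj_mem (g : Sim Q) (s : isometryGroup F ⇑Q) :
    (g : GL ι F) * (s : GL ι F) * (g : GL ι F)⁻¹ ∈ isometryGroup F ⇑Q := by
  obtain ⟨c, hc⟩ := g.2
  intro u v
  show Q (((g : GL ι F) * (s : GL ι F) * (g : GL ι F)⁻¹).1 *ᵥ u) = Q u
  have hu : (g : GL ι F).1 *ᵥ (((g : GL ι F)⁻¹).1 *ᵥ u) = u := by
    rw [Matrix.mulVec_mulVec, ← Units.val_mul, mul_inv_cancel, Units.val_one, Matrix.one_mulVec]
  rw [Units.val_mul, Units.val_mul, ← Matrix.mulVec_mulVec, ← Matrix.mulVec_mulVec, hc,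
    show Q ((s : GL ι F).1 *ᵥ (((g : GL ι F)⁻¹).1 *ᵥ u)) = Q (((g : GL ι F)⁻¹).1 *ᵥ u) from
      s.2 _ u, ← hc, hu]

/-- Conjugation of isometries by a similarity. -/
def isoConjFun (g : Sim Q) (s : isometryGroup F ⇑Q) : isometryGroup F ⇑Q :=
  ⟨(g : GL ι F) * (s : GL ι F) * (g : GL ι F)⁻¹, conj_mem Q g s⟩

/-- Conjugation of isometries, as a homomorphism. -/
def isoConj : Sim Q →* MulAut (isometryGroup F ⇑Q) where
  toFun g :=
    { toFun := isoConjFun Q g
      invFun := isoConjFun Q g⁻¹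
      left_inv := fun s => Subtype.ext (by simp [isoConjFun, mul_assoc])
      right_inv := fun s => Subtype.ext (by simp [isoConjFun, mul_assoc])
      map_mul' := fun a b => Subtype.ext (by simp [isoConjFun, mul_assoc]) }
  map_one' := MulEquiv.ext fun s => Subtype.ext (by simp [isoConjFun])
  map_mul' a b := MulEquiv.ext fun s => Subtype.ext (by simp [isoConjFun, mul_assoc])

theorem isoConj_coe (g : Sim Q) (s : isometryGroup F ⇑Q) :
    ((isoConj Q g s : isometryGroup F ⇑Q) : GL ι F)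
      = (g : GL ι F) * (s : GL ι F) * (g : GL ι F)⁻¹ := rfl

theorem isoConj_mem_Omega (g : Sim Q) {s : isometryGroup F ⇑Q} (hs : s ∈ Omega F ⇑Q) :
    isoConj Q g s ∈ Omega F ⇑Q :=
  (mem_commutator_iff (isoConj Q g) s).1 hs

/-- Conjugation on `Ω`. -/
def omegaConj : Sim Q →* MulAut (Omega F ⇑Q) where
  toFun g :=
    { toFun := fun s => ⟨isoConj Q g s.1, isoConj_mem_Omega Q g s.2⟩
      invFun := fun s => ⟨isoConj Q g⁻¹ s.1, isoConj_mem_Omega Q g⁻¹ s.2⟩
      left_inv := fun s => Subtype.ext (by simp)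
      right_inv := fun s => Subtype.ext (by simp)
      map_mul' := fun a b => Subtype.ext (by simp) }
  map_one' := MulEquiv.ext fun s => Subtype.ext (by simp)
  map_mul' a b := MulEquiv.ext fun s => Subtype.ext (by simp)

theorem omegaConj_coe (g : Sim Q) (s : Omega F ⇑Q) :
    (((omegaConj Q g s : Omega F ⇑Q) : isometryGroup F ⇑Q) : GL ι F)
      = (g : GL ι F) * ((s : isometryGroup F ⇑Q) : GL ι F) * (g : GL ι F)⁻¹ := rfl

theorem center_map {G : Type*} [Group G] (e : G ≃* G) :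
    (Subgroup.center G).map (e : G →* G) = Subgroup.center G := by
  ext x
  constructor
  · rintro ⟨y, hy, rfl⟩
    rw [Subgroup.mem_center_iff]
    intro z
    obtain ⟨z, rfl⟩ := e.surjective z
    show e z * e y = e y * e z
    rw [← map_mul, ← map_mul, Subgroup.mem_center_iff.1 hy z]
  · intro hx
    exact ⟨e.symm x, Subgroup.mem_center_iff.2 fun z => e.injective (by
      rw [map_mul, map_mul, e.apply_symm_apply, Subgroup.mem_center_iff.1 hx (e z)]),
      e.apply_symm_apply x⟩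

/-- The automorphism of `PΩ` induced by a similarity. -/
def conjP : Sim Q →* MulAut (POmega F ⇑Q) where
  toFun g := QuotientGroup.congr _ _ (omegaConj Q g) (center_map _)
  map_one' := MulEquiv.ext fun x => by
    induction x using QuotientGroup.induction_on with
    | _ s => simp
  map_mul' a b := MulEquiv.ext fun x => by
    induction x using QuotientGroup.induction_on with
    | _ s => simp

theorem conjP_mk (g : Sim Q) (s : Omega F ⇑Q) :
    conjP Q g (QuotientGroup.mk s) = QuotientGroup.mk (omegaConj Q g s) := rfl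

theorem induced_iff (g : GL ι F) (hg : g ∈ Sim Q) (β : POmega F ⇑Q ≃* POmega F ⇑Q) :
    IsInducedBySemilinearPOmega (⇑Q) g (RingEquiv.refl F) β ↔ β = conjP Q ⟨g, hg⟩ := by
  constructor
  · intro h
    refine MulEquiv.ext fun x => ?_
    induction x using QuotientGroup.induction_on with
    | _ s =>
      rw [conjP_mk]
      refine h s _ ?_
      simp [omegaConj_coe, Matrix.map_id, Matrix.mul_assoc]
  · rintro rfl s s' hs'
    rw [conjP_mk]
    congr 1
    refine Subtype.ext (Subtype.ext (Units.ext ?_))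
    rw [hs']
    simp [omegaConj_coe, Matrix.map_id, Matrix.mul_assoc]

/-- A predicate defined by a set of inducing similarities generates the image of a subgroup. -/
theorem autSubgroupOf_eq (P : (POmega F ⇑Q ≃* POmega F ⇑Q) → Prop) (S : Subgroup (Sim Q))
    (h : ∀ β, P β ↔ ∃ g ∈ S, β = conjP Q g) : autSubgroupOf P = S.map (conjP Q) := by
  rw [autSubgroupOf]
  refine le_antisymm ((Subgroup.closure_le _).2 fun β hβ => ?_) ?_
  · obtain ⟨g, hg, rfl⟩ := (h β).1 hβ
    exact ⟨g, hg, rfl⟩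
  · rintro _ ⟨g, hg, rfl⟩
    exact Subgroup.subset_closure ((h _).2 ⟨g, hg, rfl⟩)

theorem pgoAut_eq : pgoAut F ⇑Q = (⊤ : Subgroup (Sim Q)).map (conjP Q) :=
  autSubgroupOf_eq Q _ ⊤ fun β => by
    constructor
    · rintro ⟨g, hg, h⟩
      exact ⟨⟨g, hg⟩, Subgroup.mem_top _, (induced_iff Q g hg β).1 h⟩
    · rintro ⟨g, -, rfl⟩
      exact ⟨g.1, g.2, (induced_iff Q g.1 g.2 _).2 rfl⟩

theorem psoAut_eq :
    psoAut F ⇑Q = ((specialIsometryGL F ⇑Q).subgroupOf (Sim Q)).map (conjP Q) :=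
  autSubgroupOf_eq Q _ _ fun β => by
    constructor
    · rintro ⟨g, hg, h⟩
      exact ⟨⟨g, isometry_le_sim Q hg.1⟩, hg, (induced_iff Q g _ β).1 h⟩
    · rintro ⟨g, hg, rfl⟩
      exact ⟨g.1, hg, (induced_iff Q g.1 g.2 _).2 rfl⟩

theorem poAut_eq :
    poAut F ⇑Q = ((isometryGroup F ⇑Q).subgroupOf (Sim Q)).map (conjP Q) :=
  autSubgroupOf_eq Q _ _ fun β => by
    constructor
    · rintro ⟨g, hg, h⟩
      exact ⟨⟨g, isometry_le_sim Q hg⟩, hg, (induced_iff Q g _ β).1 h⟩
    · rintro ⟨g, hg, rfl⟩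
      exact ⟨g.1, hg, (induced_iff Q g.1 g.2 _).2 rfl⟩

/-- `Ω` inside the similarity group. -/
def omegaSim : Subgroup (Sim Q) :=
  ((Omega F ⇑Q).map (isometryGroup F ⇑Q).subtype).subgroupOf (Sim Q)

theorem conjP_omega (s : Omega F ⇑Q) :
    conjP Q ⟨((s : isometryGroup F ⇑Q) : GL ι F), isometry_le_sim Q s.1.2⟩
      = MulAut.conj (QuotientGroup.mk s : POmega F ⇑Q) := by
  refine MulEquiv.ext fun x => ?_
  induction x using QuotientGroup.induction_on with
  | _ t =>
    rw [conjP_mk, MulAut.conj_apply, ← QuotientGroup.mk_inv, ← QuotientGroup.mk_mul,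
      ← QuotientGroup.mk_mul]
    congr 1

theorem inn_eq : Inn (POmega F ⇑Q) = (omegaSim Q).map (conjP Q) := by
  ext β
  constructor
  · rintro ⟨x, rfl⟩
    induction x using QuotientGroup.induction_on with
    | _ s =>
      exact ⟨⟨((s : isometryGroup F ⇑Q) : GL ι F), isometry_le_sim Q s.1.2⟩,
        ⟨s.1, s.2, rfl⟩, conjP_omega Q s⟩
  · rintro ⟨g, ⟨s, hs, hsg⟩, rfl⟩
    refine ⟨QuotientGroup.mk ⟨s, hs⟩, ?_⟩
    have hg : g = ⟨((s : isometryGroup F ⇑Q) : GL ι F), isometry_le_sim Q s.2⟩ :=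
      Subtype.ext hsg.symm
    rw [hg]
    exact (conjP_omega Q ⟨s, hs⟩).symm

/-- The similarities inducing inner automorphisms. -/
def innSim : Subgroup (Sim Q) := (Inn (POmega F ⇑Q)).comap (conjP Q)

instance innSim_normal : (innSim Q).Normal := Subgroup.Normal.comap inferInstance _

/-- The scalar similarities. -/
def scalarSim : Subgroup (Sim Q) := (Geo.scalars ι F).subgroupOf (Sim Q)

theorem mem_scalarSim {g : Sim Q} :
    g ∈ scalarSim Q ↔ ∃ l : F, (g : GL ι F).1 = l • (1 : Matrix ι ι F) ∧ l ≠ 0 := by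
  rw [scalarSim, Subgroup.mem_subgroupOf, Geo.mem_scalars_iff]
  constructor
  · rintro ⟨c, hc⟩
    exact ⟨c, hc, c.ne_zero⟩
  · rintro ⟨l, hl, hl0⟩
    exact ⟨Units.mk0 l hl0, hl⟩

instance scalarSim_normal : (scalarSim Q).Normal := ⟨fun z hz g => by
  obtain ⟨l, hl, hl0⟩ := (mem_scalarSim Q).1 hz
  refine (mem_scalarSim Q).2 ⟨l, ?_, hl0⟩
  rw [Subgroup.coe_mul, Subgroup.coe_mul, Units.val_mul, Units.val_mul, hl, Matrix.mul_smul,
    Matrix.mul_one, Matrix.smul_mul, Subgroup.coe_inv, ← Units.val_mul, mul_inv_cancel,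
    Units.val_one]⟩

theorem scalarSim_le_ker : scalarSim Q ≤ (conjP Q).ker := by
  intro g hg
  obtain ⟨l, hl, -⟩ := (mem_scalarSim Q).1 hg
  rw [MonoidHom.mem_ker]
  refine MulEquiv.ext fun x => ?_
  induction x using QuotientGroup.induction_on with
  | _ s =>
    rw [conjP_mk, MulAut.one_apply]
    congr 1
    refine Subtype.ext (Subtype.ext ?_)
    rw [omegaConj_coe, mul_inv_eq_iff_eq_mul]
    refine Units.ext ?_
    simp [hl]

variable [Fintype F]

theorem sim_injective (g : Sim Q) : Function.Injective fun v => (g : GL ι F).1 *ᵥ v :=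
  Matrix.mulVec_injective_iff_isUnit.2 ⟨(g : GL ι F), rfl⟩

/-- A similarity commuting with the commutator subgroup moves no singular vector off its line. -/
theorem exists_smul_of_commute (hQ : (polarBilin Q).Nondegenerate) (hn : 5 ≤ Fintype.card ι)
    {g : Sim Q}
    (hg : ∀ k ∈ commutator (orth Q), ∀ x, (g : GL ι F).1 *ᵥ k.1 x = k.1 ((g : GL ι F).1 *ᵥ x))
    {u : ι → F} (hu : Q u = 0) : ∃ c : F, (g : GL ι F).1 *ᵥ u = c • u := by
  by_cases hu0 : u = 0
  · exact ⟨0, by simp [hu0]⟩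
  have hn' : 5 ≤ Module.finrank F (ι → F) := by rwa [finrank_pi]
  obtain ⟨U, φ, hφ, hφu, hU, hd, -⟩ := exists_frame hQ hn' hu hu0
  have hpol := fun p p' => polar_congr φ hφ p p'
  obtain ⟨z, hz⟩ := exists_map_ne_zero (isReg_of_nondegenerate hU) (by omega)
  obtain ⟨z₁, hz₁⟩ : ∃ z₁, polar (Q.restrict U) z z₁ ≠ 0 := by
    by_contra hc
    push Not at hc
    exact hz (by rw [hU.1 z hc, QuadraticMap.map_zero])
  set w := φ ((0, 0), z) with hw
  set x := φ ((0, 0), (-(polar (Q.restrict U) z z₁)⁻¹) • z₁) with hx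
  have huw : polar Q u w = 0 := by simp [← hφu, hw, hpol, polar_hypExt]
  have hux : polar Q u x = 0 := by simp [← hφu, hx, hpol, polar_hypExt]
  have hwx : polar Q w x = -1 := by
    rw [hw, hx, hpol, polar_hypExt, polar_smul_right, smul_eq_mul, neg_mul, inv_mul_cancel₀ hz₁]
    simp
  have hQw : Q w ≠ 0 := by simpa [hw, hφ, hypExt_apply] using hz
  set S := siegel Q u w hu huw with hS
  have h1 := hg S (by
    rw [commutator_eq_sGroup hQ hn']
    exact siegel_mem hQ hn' hu huw) x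
  have h2 : S.1 x = x + u := by
    rw [hS, siegel_apply, hux, hwx]
    simp
  set gx := (g : GL ι F).1 *ᵥ x with hgx
  rw [h2, Matrix.mulVec_add, hS, siegel_apply, add_sub_assoc, add_right_inj] at h1
  set α := polar Q u gx
  set β := polar Q w gx + Q w * α
  obtain ⟨c, hc⟩ := g.2
  have hQg : Q ((g : GL ι F).1 *ᵥ u) = 0 := by rw [hc, hu, mul_zero]
  rw [h1, sub_eq_add_neg, ← neg_smul, QuadraticMap.map_add (⇑Q), QuadraticMap.map_smul,
    QuadraticMap.map_smul, polar_smul_left, polar_smul_right, polar_comm Q w u, huw, hu] at hQg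
  simp only [smul_eq_mul, mul_zero, add_zero] at hQg
  have hα : α = 0 := mul_self_eq_zero.1 ((mul_eq_zero.1 hQg).resolve_right hQw)
  exact ⟨-β, by rw [h1, hα, zero_smul, zero_sub, neg_smul]⟩

/-- A linear map fixing every singular line is scalar. -/
theorem scalar_of_lines (hQ : (polarBilin Q).Nondegenerate) (hn : 5 ≤ Fintype.card ι) {g : Sim Q}
    (hg : ∀ u, Q u = 0 → ∃ c : F, (g : GL ι F).1 *ᵥ u = c • u) :
    ∃ c : F, ∀ v, (g : GL ι F).1 *ᵥ v = c • v := by
  classical
  have hn' : 5 ≤ Module.finrank F (ι → F) := by rwa [finrank_pi]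
  obtain ⟨e, he, he0⟩ := exists_singular (isReg_of_nondegenerate hQ) (by omega : 3 ≤ _)
  choose! lam hlam using hg
  have horth : ∀ u v, Q u = 0 → Q v = 0 → u ≠ 0 → v ≠ 0 → polar Q u v = 0 → lam u = lam v := by
    intro u v hu hv hu0 hv0 huv
    by_cases hind : ∃ t : F, v = t • u
    · obtain ⟨t, rfl⟩ := hind
      have h := hlam _ hv
      rw [Matrix.mulVec_smul, hlam u hu, smul_comm] at h
      exact smul_left_injective F hv0 h
    · push Not at hind
      have huv0 : Q (u + v) = 0 := by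
        rw [QuadraticMap.map_add (⇑Q), hu, hv, huv]; simp
      have h := hlam _ huv0
      rw [Matrix.mulVec_add, hlam u hu, hlam v hv, smul_add] at h
      have h' : (lam u - lam (u + v)) • u = (lam (u + v) - lam v) • v := by
        rw [sub_smul, sub_smul, sub_eq_sub_iff_add_eq_add, h, add_comm]
      have h1 : lam (u + v) - lam v = 0 := by
        by_contra hne
        refine hind ((lam (u + v) - lam v)⁻¹ * (lam u - lam (u + v))) ?_
        rw [mul_smul, h', smul_smul, inv_mul_cancel₀ hne, one_smul]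
      rw [h1, zero_smul, smul_eq_zero] at h'
      exact (sub_eq_zero.1 (h'.resolve_right hu0)).trans (sub_eq_zero.1 h1)
  have hall : ∀ u, Q u = 0 → u ≠ 0 → lam u = lam e := by
    intro u hu hu0
    by_cases h : polar Q e u = 0
    · exact (horth e u he hu he0 hu0 h).symm
    obtain ⟨z, hz, hze, hzu, hzQ⟩ : ∃ z, z ≠ 0 ∧ polar Q e z = 0 ∧ polar Q u z = 0 ∧ Q z = 0 := by
      let L : (ι → F) →ₗ[F] F × F := ((polarBilin Q) e).prod ((polarBilin Q) u)
      have h1 := LinearMap.finrank_range_add_finrank_ker L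
      have h2 := Submodule.finrank_le (LinearMap.range L)
      rw [Module.finrank_prod, Module.finrank_self] at h2
      obtain ⟨z, hz, hz0, hzQ⟩ :=
        QuadClassify.exists_singular Q (LinearMap.ker L) (by omega)
      have hz' : polar Q e z = 0 ∧ polar Q u z = 0 := by
        simpa [L, Prod.ext_iff] using hz
      exact ⟨z, hz0, hz'.1, hz'.2, hzQ⟩
    rw [horth e z he hzQ he0 hz hze, horth u z hu hzQ hu0 hz hzu]
  refine ⟨lam e, fun v => ?_⟩
  obtain ⟨z₁, z₂, z₃, h₁, h₂, h₃, rfl⟩ :=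
    exists_three_singular (isReg_of_nondegenerate hQ) he he0 v
  have key : ∀ z, Q z = 0 → (g : GL ι F).1 *ᵥ z = lam e • z := fun z hz => by
    by_cases h0 : z = 0
    · simp [h0]
    · rw [hlam z hz, hall z hz h0]
  rw [Matrix.mulVec_add, Matrix.mulVec_add, key _ h₁, key _ h₂, key _ h₃, smul_add, smul_add]

/-- The kernel of the action on `PΩ` consists of the scalars. -/
theorem ker_conjP (hQ : (polarBilin Q).Nondegenerate) (hn : 5 ≤ Fintype.card ι) :
    (conjP Q).ker = scalarSim Q := by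
  refine le_antisymm (fun g hg => ?_) (scalarSim_le_ker Q)
  rw [MonoidHom.mem_ker] at hg
  have hn' : 5 ≤ Module.finrank F (ι → F) := by rwa [finrank_pi]
  have hz : ∀ s : Omega F ⇑Q, s⁻¹ * omegaConj Q g s ∈ Subgroup.center (Omega F ⇑Q) := fun s => by
    have h := congrArg (fun β : MulAut (POmega F ⇑Q) => β (QuotientGroup.mk s)) hg
    simp only [conjP_mk, MulAut.one_apply] at h
    exact QuotientGroup.eq.1 h.symm
  -- the elements fixed by the conjugation contain all commutators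
  have hcomm : ∀ s t : Omega F ⇑Q, omegaConj Q g ⁅s, t⁆ = ⁅s, t⁆ := fun s t => by
    obtain ⟨a, ha, hs⟩ : ∃ a ∈ Subgroup.center (Omega F ⇑Q), omegaConj Q g s = s * a :=
      ⟨_, hz s, by group⟩
    obtain ⟨b, hb, ht⟩ : ∃ b ∈ Subgroup.center (Omega F ⇑Q), omegaConj Q g t = t * b :=
      ⟨_, hz t, by group⟩
    rw [map_commutatorElement, hs, ht, commutatorElement_def, commutatorElement_def, mul_inv_rev,
      mul_inv_rev]
    have ha' : ∀ x, a * x = x * a := fun x => (Subgroup.mem_center_iff.1 ha x).symm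
    have hb' : ∀ x, b * x = x * b := fun x => (Subgroup.mem_center_iff.1 hb x).symm
    calc s * a * (t * b) * (a⁻¹ * s⁻¹) * (b⁻¹ * t⁻¹)
        = s * (a * (t * b)) * a⁻¹ * s⁻¹ * b⁻¹ * t⁻¹ := by group
      _ = s * t * b * s⁻¹ * b⁻¹ * t⁻¹ := by rw [ha']; group
      _ = s * t * (b * s⁻¹) * b⁻¹ * t⁻¹ := by group
      _ = s * t * s⁻¹ * t⁻¹ := by rw [hb']; group
  have hperf' : ∀ k ∈ ⁅commutator (orth Q), commutator (orth Q)⁆, ∀ x,
      (g : GL ι F).1 *ᵥ k.1 x = k.1 ((g : GL ι F).1 *ᵥ x) := by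
    intro k hk'
    rw [Subgroup.commutator_def] at hk'
    induction hk' using Subgroup.closure_induction with
    | mem k hk =>
      obtain ⟨a, ha, b, hb, rfl⟩ := hk
      obtain ⟨a, rfl⟩ := (iso Q).surjective a
      obtain ⟨b, rfl⟩ := (iso Q).surjective b
      intro x
      have h := congrArg (fun s : Omega F ⇑Q => ((s.1 : GL ι F) * (g : GL ι F)).1 *ᵥ x)
        (hcomm ⟨a, (mem_Omega_iff a).2 ha⟩ ⟨b, (mem_Omega_iff b).2 hb⟩)
      simp only [omegaConj_coe, inv_mul_cancel_right] at h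
      rw [Units.val_mul, Units.val_mul, ← Matrix.mulVec_mulVec, ← Matrix.mulVec_mulVec] at h
      rw [← map_commutatorElement, iso_apply, iso_apply]
      exact h
    | one => intro x; rfl
    | mul a b _ _ ha hb => intro x; rw [orth_mul_apply, ha, hb, ← orth_mul_apply]
    | inv a _ ha =>
      intro x
      have h := congrArg a⁻¹.1 (ha (a⁻¹.1 x))
      rw [← orth_mul_apply a, mul_inv_cancel, ← orth_mul_apply, inv_mul_cancel] at h
      exact h.symm
  have hperf : ∀ k ∈ commutator (orth Q), ∀ x,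
      (g : GL ι F).1 *ᵥ k.1 x = k.1 ((g : GL ι F).1 *ᵥ x) := fun k hk => by
    refine hperf' k ?_
    rw [commutator_eq_sGroup hQ hn'] at hk ⊢
    exact sGroup_le_bracket hQ hn' hk
  obtain ⟨c, hc⟩ := scalar_of_lines Q hQ hn fun u hu => exists_smul_of_commute Q hQ hn hperf hu
  refine (mem_scalarSim Q).2 ⟨c, Matrix.ext_of_mulVec_single fun i => ?_, ?_⟩
  · rw [hc, Matrix.smul_mulVec, Matrix.one_mulVec]
  · rintro rfl
    haveI : Nonempty ι := Fintype.card_pos_iff.1 (by omega)
    have h := sim_injective Q g (a₁ := 1) (a₂ := 0) (by simp [hc])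
    exact one_ne_zero (congrFun h (Classical.arbitrary ι))

/-- Inner similarities are scalar multiples of elements of `Ω`. -/
theorem innSim_eq (hQ : (polarBilin Q).Nondegenerate) (hn : 5 ≤ Fintype.card ι) :
    innSim Q = omegaSim Q ⊔ scalarSim Q := by
  rw [innSim, inn_eq, Subgroup.comap_map_eq, ker_conjP Q hQ hn]

theorem mem_innSim (hQ : (polarBilin Q).Nondegenerate) (hn : 5 ≤ Fintype.card ι) {g : Sim Q} :
    g ∈ innSim Q ↔ ∃ (l : F) (s : isometryGroup F ⇑Q), l ≠ 0 ∧ s ∈ Omega F ⇑Q ∧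
      (g : GL ι F).1 = l • (s : GL ι F).1 := by
  rw [innSim_eq Q hQ hn, Subgroup.mem_sup_of_normal_right]
  constructor
  · rintro ⟨a, ⟨s, hs, hsa⟩, z, hz, rfl⟩
    obtain ⟨l, hl, hl0⟩ := (mem_scalarSim Q).1 hz
    refine ⟨l, s, hl0, hs, ?_⟩
    rw [Subgroup.coe_mul, Units.val_mul, hl, Matrix.mul_smul, Matrix.mul_one]
    exact congrArg (l • ·) (congrArg Units.val hsa.symm)
  · rintro ⟨l, s, hl0, hs, hgs⟩
    set S : Sim Q := ⟨(s : GL ι F), isometry_le_sim Q s.2⟩ with hS
    refine ⟨S, Subgroup.mem_subgroupOf.2 (Subgroup.mem_map.2 ⟨s, hs, rfl⟩), S⁻¹ * g, ?_,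
      mul_inv_cancel_left S g⟩
    refine (mem_scalarSim Q).2 ⟨l, ?_, hl0⟩
    rw [Subgroup.coe_mul, Units.val_mul, hgs, Matrix.mul_smul, Subgroup.coe_inv, ← Units.val_mul,
      inv_mul_cancel, Units.val_one]

/-- A quotient of a group of similarities describes a quotient of its image in the automorphisms. -/
theorem exists_hom_image {A : Type*} [Group A] (S : Subgroup (Sim Q))
    (K : Subgroup (MulAut (POmega F ⇑Q))) (χ : S →* A) (hχ : Function.Surjective χ)
    (hker : χ.ker = (K.comap (conjP Q)).subgroupOf S) :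
    ∃ φ : ↥(S.map (conjP Q)) →* A,
      Function.Surjective φ ∧ φ.ker = K.subgroupOf (S.map (conjP Q)) := by
  set π := (conjP Q).subgroupMap S with hπ
  have hπs : Function.Surjective π := (conjP Q).subgroupMap_surjective S
  have hle : π.ker ≤ χ.ker := by
    intro g hg
    rw [hker, Subgroup.mem_subgroupOf, Subgroup.mem_comap]
    have h : conjP Q g.1 = 1 := congrArg Subtype.val (MonoidHom.mem_ker.1 hg)
    rw [h]
    exact K.one_mem
  clear_value π
  set φ := π.liftOfSurjective hπs ⟨χ, hle⟩ with hφ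
  have hφg : ∀ g, φ (π g) = χ g := fun g => by
    rw [hφ]
    exact MonoidHom.liftOfRightInverse_comp_apply π _ _ ⟨χ, hle⟩ g
  clear_value φ
  refine ⟨φ, fun a => ?_, ?_⟩
  · obtain ⟨g, rfl⟩ := hχ a
    exact ⟨π g, hφg g⟩
  · ext x
    obtain ⟨g, rfl⟩ := hπs x
    rw [MonoidHom.mem_ker, hφg, ← MonoidHom.mem_ker, hker, Subgroup.mem_subgroupOf, Subgroup.mem_comap, Subgroup.mem_subgroupOf, hπ]
    rfl

end Cfsg.Agent.OrthUnitarySimAut
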