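import Mathlib
import Cfsg.Prelude.Def_LieTypeDatum
import Cfsg.Agent.Lib.AutOrth45Main
import Cfsg.Agent.Lib.OrthUnitarySimAut

/-!
Automorphisms of `PΩ(Q)` for a form on coordinates: semisimilarities, field automorphisms.
-/

set_option autoImplicit false
set_option linter.unusedSectionVars false

namespace Cfsg.Agent.AutOrth45Api

open QuadraticMap
open scoped Matrix MatrixGroups
open Cfsg.Agent.OrthUnitaryQuad
open Cfsg.Agent.OrthUnitaryRefl
open Cfsg.Agent.OrthUnitaryOmega
open Cfsg.Agent.OrthUnitaryPrelude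
open Cfsg.Agent.OrthUnitarySimple
open Cfsg.Agent.OrthUnitarySimAut
open Cfsg.Agent.AutOrth45

variable {ι : Type} [Fintype ι] [DecidableEq ι] {F : Type*} [Field F] [Fintype F]
  {Q : QuadraticForm F (ι → F)} (h : Good Q)

/-- `Ω` as the group of Siegel transformations. -/
noncomputable def toS : Omega F ⇑Q ≃* sGroup Q :=
  ((iso Q).subgroupMap (Omega F ⇑Q)).trans (MulEquiv.subgroupCongr (by
    have := h.finDim
    rw [← commutator_eq_sGroup h.nd h.dim5]
    exact map_commutator_equiv (iso Q)))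

theorem toS_apply (s : Omega F ⇑Q) (x : ι → F) : (toS h s).1.1 x = mat s.1 *ᵥ x :=
  iso_apply s.1 x

/-- `PΩ` as the simple quotient. -/
noncomputable def toPS : POmega F ⇑Q ≃* PS Q :=
  QuotientGroup.congr _ _ (toS h) (by
    ext x
    constructor
    · rintro ⟨y, hy, rfl⟩
      exact Subgroup.mem_center_iff.2 fun z => by
        obtain ⟨z, rfl⟩ := (toS h).surjective z
        show toS h z * toS h y = toS h y * toS h z
        rw [← map_mul, ← map_mul, Subgroup.mem_center_iff.1 hy z]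
    · intro hx
      exact ⟨(toS h).symm x, Subgroup.mem_center_iff.2 fun z => (toS h).injective (by
        rw [map_mul, map_mul, MulEquiv.apply_symm_apply, Subgroup.mem_center_iff.1 hx (toS h z)]),
        (toS h).apply_symm_apply x⟩)

theorem toPS_mk (s : Omega F ⇑Q) : toPS h (QuotientGroup.mk s) = mkP (toS h s) := rfl

omit [Fintype F] [DecidableEq ι] in
theorem comp_smul (σ : F ≃+* F) (t : F) (x : ι → F) :
    (fun i => σ ((t • x) i)) = σ t • (fun i => σ (x i)) := by
  funext i; simp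

omit [Fintype F] in
theorem map_mulVec_comp (σ : F ≃+* F) (M : Matrix ι ι F) (x : ι → F) :
    M.map σ *ᵥ (fun i => σ (x i)) = fun i => σ ((M *ᵥ x) i) := by
  funext i
  exact ((σ : F →+* F).map_mulVec M x i).symm

variable (Q) in
/-- The additive map `v ↦ g σ(v)`. -/
def semi (g : GL ι F) (σ : F ≃+* F) : (ι → F) ≃+ (ι → F) where
  toFun v := g.1 *ᵥ (fun i => σ (v i))
  invFun v := fun i => σ.symm (((g⁻¹ : GL ι F).1 *ᵥ v) i)
  left_inv v := by
    funext i
    simp [Matrix.mulVec_mulVec]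
  right_inv v := by
    have : (fun i => σ (σ.symm (((g⁻¹ : GL ι F).1 *ᵥ v) i))) = (g⁻¹ : GL ι F).1 *ᵥ v := by
      funext i; simp
    show g.1 *ᵥ (fun i => σ (σ.symm (((g⁻¹ : GL ι F).1 *ᵥ v) i))) = v
    rw [this, Matrix.mulVec_mulVec, ← Units.val_mul, mul_inv_cancel, Units.val_one,
      Matrix.one_mulVec]
  map_add' u v := by
    show g.1 *ᵥ (fun i => σ ((u + v) i)) = _
    rw [← Matrix.mulVec_add]
    congr 1
    funext i; simp

omit [Fintype F] in
theorem semi_apply (g : GL ι F) (σ : F ≃+* F) (v : ι → F) :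
    semi g σ v = g.1 *ᵥ (fun i => σ (v i)) := rfl

/-- The semisimilarity of a pair. -/
noncomputable def semiSim (g : GL ι F) (σ : F ≃+* F) (hp : IsSemisimilarityPair ⇑Q g σ) :
    SemiSim Q where
  G := semi g σ
  σ := σ
  μ := (hp.choose : F)
  μ_ne := hp.choose.ne_zero
  map_smul t x := by rw [semi_apply, semi_apply, comp_smul, Matrix.mulVec_smul]
  map_q x := hp.choose_spec x

/-- Transport of automorphisms along `toPS`. -/
noncomputable def back : MulAut (PS Q) →* MulAut (POmega F ⇑Q) where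
  toFun β := (toPS h).trans (β.trans (toPS h).symm)
  map_one' := MulEquiv.ext fun x => by simp
  map_mul' β γ := MulEquiv.ext fun x => by simp

theorem back_apply (β : MulAut (PS Q)) (x : POmega F ⇑Q) :
    toPS h (back h β x) = β (toPS h x) := by simp [back]

/-- The automorphism induced by a semisimilarity pair. -/
noncomputable def semiAut (g : GL ι F) (σ : F ≃+* F) (hp : IsSemisimilarityPair ⇑Q g σ) :
    MulAut (POmega F ⇑Q) :=
  back h ((semiSim g σ hp).conjP h)

theorem semi_conj (g : GL ι F) (σ : F ≃+* F) (M : Matrix ι ι F) (v : ι → F) :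
    (g.1 * M.map σ * (g⁻¹ : GL ι F).1) *ᵥ semi g σ v = semi g σ (M *ᵥ v) := by
  rw [semi_apply, semi_apply, Matrix.mulVec_mulVec, Matrix.mul_assoc, ← Units.val_mul,
    inv_mul_cancel, Units.val_one, Matrix.mul_one, ← Matrix.mulVec_mulVec, map_mulVec_comp]

theorem exists_image (g : GL ι F) (σ : F ≃+* F) (hp : IsSemisimilarityPair ⇑Q g σ)
    (s : Omega F ⇑Q) :
    ∃ s' : Omega F ⇑Q, mat s'.1 = g.1 * (mat s.1).map σ * (g⁻¹ : GL ι F).1 ∧
      toS h s' = (semiSim g σ hp).conjS h (toS h s) := by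
  obtain ⟨s', hs'⟩ := (toS h).surjective ((semiSim g σ hp).conjS h (toS h s))
  refine ⟨s', Matrix.ext_iff_mulVec.2 fun w => ?_, hs'⟩
  obtain ⟨v, rfl⟩ := (semi g σ).surjective w
  rw [← toS_apply h, hs', semi_conj, ← toS_apply h]
  show semi g σ ((toS h s).1.1 ((semi g σ).symm (semi g σ v))) = _
  rw [AddEquiv.symm_apply_apply]

/-- A pair induces exactly one automorphism. -/
theorem induced_iff (g : GL ι F) (σ : F ≃+* F) (hp : IsSemisimilarityPair ⇑Q g σ)
    (β : MulAut (POmega F ⇑Q)) :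
    IsInducedBySemilinearPOmega ⇑Q g σ β ↔ β = semiAut h g σ hp := by
  have key : ∀ s : Omega F ⇑Q, ∃ s' : Omega F ⇑Q,
      mat s'.1 = g.1 * (mat s.1).map σ * (g⁻¹ : GL ι F).1 ∧
        semiAut h g σ hp (QuotientGroup.mk s) = QuotientGroup.mk s' := fun s => by
    obtain ⟨s', h1, h2⟩ := exists_image h g σ hp s
    exact ⟨s', h1, (toPS h).injective (by
      rw [semiAut, back_apply, toPS_mk, toPS_mk, SemiSim.conjP_mk, h2])⟩
  constructor
  · intro hβ
    refine MulEquiv.ext fun x => ?_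
    induction x using QuotientGroup.induction_on with
    | _ s =>
      obtain ⟨s', h1, h2⟩ := key s
      rw [h2]
      exact hβ s s' h1
  · rintro rfl s s' hs'
    obtain ⟨s'', h1, h2⟩ := key s
    rw [h2]
    congr 1
    exact Subtype.ext (Subtype.ext (Units.ext (h1.trans hs'.symm)))

/-- Every semisimilarity of the space is given by a pair. -/
theorem exists_pair (S : SemiSim Q) :
    ∃ (g : GL ι F) (hp : IsSemisimilarityPair ⇑Q g S.σ),
      semiAut h g S.σ hp = back h (S.conjP h) := by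
  let L : (ι → F) ≃ₗ[F] (ι → F) :=
    { toFun := fun v => S.G (fun i => S.σ.symm (v i))
      invFun := fun v => fun i => S.σ ((S.G.symm v) i)
      map_add' := fun u v => by
        rw [← map_add]; congr 1; funext i; simp
      map_smul' := fun t v => by
        rw [RingHom.id_apply, comp_smul, S.map_smul, RingEquiv.apply_symm_apply]
      left_inv := fun v => by funext i; simp
      right_inv := fun v => by simp }
  let g : GL ι F := Matrix.GeneralLinearGroup.toLin.symm
    ((LinearMap.GeneralLinearGroup.generalLinearEquiv F (ι → F)).symm L)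
  have hg : ∀ v, g.1 *ᵥ (fun i => S.σ (v i)) = S.G v := fun v => by
    have h1 : ∀ w, g.1 *ᵥ w = L w := fun w => by
      have := Matrix.GeneralLinearGroup.toLin_apply g w
      rw [MulEquiv.apply_symm_apply] at this
      exact this.symm
    rw [h1]
    show S.G (fun i => S.σ.symm (S.σ (v i))) = S.G v
    simp
  have hp : IsSemisimilarityPair ⇑Q g S.σ :=
    ⟨Units.mk0 S.μ S.μ_ne, fun v => by rw [hg]; exact S.map_q v⟩
  refine ⟨g, hp, ?_⟩
  unfold semiAut
  congr 1
  refine MulEquiv.ext fun x => ?_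
  obtain ⟨s, rfl⟩ := QuotientGroup.mk'_surjective _ x
  rw [SemiSim.conjP_mk, SemiSim.conjP_mk]
  congr 1
  apply s_ext
  intro y
  have hsymm : (semi g S.σ).symm y = S.G.symm y :=
    S.G.injective (by
      rw [AddEquiv.apply_symm_apply, ← hg, ← semi_apply, AddEquiv.apply_symm_apply])
  show semi g S.σ (s.1.1 ((semi g S.σ).symm y)) = S.G (s.1.1 (S.G.symm y))
  rw [hsymm, semi_apply, hg]

include h in
/-- Every automorphism of `PΩ` is induced by a semisimilarity. -/
theorem exists_semisim (α : MulAut (POmega F ⇑Q)) :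
    ∃ (g : GL ι F) (σ : F ≃+* F),
      IsSemisimilarityPair ⇑Q g σ ∧ IsInducedBySemilinearPOmega ⇑Q g σ α := by
  obtain ⟨S, hS⟩ := h.exists_semiSim (((toPS h).symm.trans (α.trans (toPS h))) : MulAut (PS Q))
  obtain ⟨g, hp, hg⟩ := exists_pair h S
  refine ⟨g, S.σ, hp, (induced_iff h g S.σ hp α).2 ?_⟩
  rw [hg, ← hS]
  exact MulEquiv.ext fun x => by simp [back]

include h in
theorem gamma_eq_top : gammaPOmega F ⇑Q = ⊤ := by
  rw [eq_top_iff]
  intro α _
  obtain ⟨g, σ, hp, hi⟩ := exists_semisim h α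
  exact Subgroup.subset_closure ⟨g, σ, hp, hi⟩

/-- An automorphism induced by a pair with trivial effect comes from a scalar. -/
theorem semiAut_eq_one {g : GL ι F} {σ : F ≃+* F} (hp : IsSemisimilarityPair ⇑Q g σ)
    (he : semiAut h g σ hp = 1) : σ = RingEquiv.refl F := by
  have := h.finDim
  set S := semiSim g σ hp with hS
  have hP : S.conjP h = 1 := by
    refine MulEquiv.ext fun x => ?_
    obtain ⟨y, rfl⟩ := (toPS h).surjective x
    rw [← back_apply h]
    exact congrArg (toPS h) (DFunLike.congr_fun he y)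
  have hline : ∀ x, IsRoot x → ∀ u ∈ line x, S.G u ∈ line x := fun x hx u hu => by
    have h1 : S.conjS h x = x := by
      rw [← S.lift_conjP h (h.isP_root hx), hP, h.lift_one_aut (h.isP_root hx)]
    exact h1 ▸ (S.mem_line_conjS h).2 hu
  have hpt : ∀ p, Q p = 0 → p ≠ 0 → ∃ c : F, S.G p = c • p := by
    intro p hp hp0
    obtain ⟨a, b, hpa, hpb, hab⟩ := h.exists_two hp hp0
    have ha := hline _ (h.isRoot_sg hpa) _ (h.left_mem_line hpa)
    have hb := hline _ (h.isRoot_sg hpb) _ (h.left_mem_line hpb)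
    rw [h.line_sg hpa] at ha
    rw [h.line_sg hpb] at hb
    obtain ⟨s, t, hst⟩ := Submodule.mem_span_pair.1 ha
    obtain ⟨s', t', hst'⟩ := Submodule.mem_span_pair.1 hb
    have e1 := congrArg (polar Q a) (hst.trans hst'.symm)
    simp only [polar_add_right, polar_smul_right, polar_self_mul, hpa.2.1, hab, polar_comm Q a p,
      hpa.2.2.1, smul_eq_mul, mul_zero, zero_add, mul_one] at e1
    exact ⟨s', by rw [← hst', ← e1, zero_smul, add_zero]⟩
  choose! c hc using hpt
  have hsum : ∀ p q, IsPair Q p q → c p = c q := by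
    intro p q hpq
    have hQ : Q (p + q) = 0 := by
      rw [QuadraticMap.map_add (⇑Q), hpq.1, hpq.2.1, hpq.2.2.1]; simp
    have hne : p + q ≠ 0 := fun h0 => one_ne_zero
      (LinearIndependent.pair_iff.1 hpq.2.2.2 1 1 (by simpa using h0)).1
    have h1 := hc _ hQ hne
    rw [map_add, hc p hpq.1 hpq.ne_zero, hc q hpq.2.1 hpq.swap.ne_zero] at h1
    have h2 := LinearIndependent.pair_iff.1 hpq.2.2.2 (c p - c (p + q)) (c q - c (p + q)) (by
      rw [sub_smul, sub_smul, sub_add_sub_comm, ← smul_add, h1, sub_self])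
    rw [sub_eq_zero.1 h2.1, sub_eq_zero.1 h2.2]
  obtain ⟨p, q, hpq⟩ := h.exists_line
  refine RingEquiv.ext fun t => ?_
  by_cases ht : t = 0
  · rw [ht, map_zero, map_zero]
  have hp' := hc p hpq.1 hpq.ne_zero
  have hpt' : IsPair Q (t • p) q := by
    refine ⟨by rw [QuadraticMap.map_smul, hpq.1, smul_zero], hpq.2.1,
      by rw [polar_smul_left, hpq.2.2.1, smul_zero], LinearIndependent.pair_iff.2 fun a b hab => ?_⟩
    rw [smul_smul] at hab
    have h1 := LinearIndependent.pair_iff.1 hpq.2.2.2 _ _ hab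
    exact ⟨(mul_eq_zero.1 h1.1).resolve_right ht, h1.2⟩
  have h1 := hc (t • p) hpt'.1 hpt'.ne_zero
  rw [hsum _ _ hpt', ← hsum _ _ hpq, S.map_smul, hp', smul_smul, smul_smul] at h1
  have hc0 : c p ≠ 0 := fun h0 => hpq.ne_zero (S.G.injective (by rw [hp', h0, zero_smul, map_zero]))
  have h2 := smul_left_injective F hpq.ne_zero h1
  show σ t = t
  rw [mul_comm (c p)] at h2
  exact mul_right_cancel₀ hc0 h2

theorem semiAut_congr {g g' : GL ι F} {σ σ' : F ≃+* F} (hp : IsSemisimilarityPair ⇑Q g σ)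
    (hp' : IsSemisimilarityPair ⇑Q g' σ') (hg : g = g') (hσ : σ = σ') :
    semiAut h g σ hp = semiAut h g' σ' hp' := by
  subst hg hσ; rfl

omit [Fintype F] in
theorem pair_mul {g k : GL ι F} {σ τ : F ≃+* F} (hp : IsSemisimilarityPair ⇑Q g σ)
    (hq : IsSemisimilarityPair ⇑Q k τ) :
    IsSemisimilarityPair ⇑Q (g * Matrix.GeneralLinearGroup.map (σ : F →+* F) k) (σ * τ) := by
  obtain ⟨c, hc⟩ := hp
  obtain ⟨d, hd⟩ := hq
  refine ⟨c * Units.map (σ : F →* F) d, fun v => ?_⟩
  show Q ((g.1 * (k.1).map σ) *ᵥ (fun i => σ (τ (v i)))) = _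
  rw [← Matrix.mulVec_mulVec, map_mulVec_comp, hc, hd, map_mul]
  simp [mul_assoc]

theorem semiAut_mul {g k : GL ι F} {σ τ : F ≃+* F} (hp : IsSemisimilarityPair ⇑Q g σ)
    (hq : IsSemisimilarityPair ⇑Q k τ) :
    semiAut h g σ hp * semiAut h k τ hq = semiAut h _ _ (pair_mul hp hq) := by
  refine (induced_iff h _ _ (pair_mul hp hq) _).1 fun s s' hs' => ?_
  obtain ⟨t, ht, -⟩ := exists_image h k τ hq s
  obtain ⟨u, hu, -⟩ := exists_image h g σ hp t
  rw [MulAut.mul_apply, (induced_iff h k τ hq _).2 rfl s t ht,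
    (induced_iff h g σ hp _).2 rfl t u hu]
  congr 1
  refine Subtype.ext (Subtype.ext (Units.ext ?_))
  refine hu.trans (Eq.trans ?_ hs'.symm)
  rw [ht, mul_inv_rev, ← map_inv, Units.val_mul, Units.val_mul]
  show g.1 * (k.1 * (mat s.1).map τ * (k⁻¹ : GL ι F).1).map σ * (g⁻¹ : GL ι F).1
    = g.1 * (k.1).map σ * (mat s.1).map (σ * τ : F ≃+* F)
      * (((k⁻¹ : GL ι F).1).map σ * (g⁻¹ : GL ι F).1)
  rw [Matrix.map_mul, Matrix.map_mul, Matrix.map_map]
  simp only [Matrix.mul_assoc]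
  rfl

omit [Fintype F] in
theorem sim_pair (g : Sim Q) : IsSemisimilarityPair ⇑Q (g : GL ι F) (RingEquiv.refl F) := by
  obtain ⟨c, hc⟩ := g.2
  exact ⟨c, fun v => hc v⟩

theorem conjP_eq (g : Sim Q) : OrthUnitarySimAut.conjP Q g = semiAut h _ _ (sim_pair g) :=
  (induced_iff h _ _ (sim_pair g) _).1 ((OrthUnitarySimAut.induced_iff Q g.1 g.2 _).2 rfl)

/-! ### Forms with fixed coefficients -/

variable (Q) in
/-- The field automorphisms fix the coefficients. -/
def Inv : Prop := ∀ (σ : F ≃+* F) (v : ι → F), Q (fun i => σ (v i)) = σ (Q v)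

omit [Fintype F] in
theorem field_pair (hinv : Inv Q) (σ : F ≃+* F) : IsSemisimilarityPair ⇑Q (1 : GL ι F) σ :=
  ⟨1, fun v => by
    rw [Units.val_one, Units.val_one, Matrix.one_mulVec, one_mul]
    exact hinv σ v⟩

/-- The field automorphisms of `PΩ`. -/
noncomputable def fd (hinv : Inv Q) : (F ≃+* F) →* MulAut (POmega F ⇑Q) :=
  MonoidHom.mk' (fun σ => semiAut h 1 σ (field_pair hinv σ)) fun σ τ => by
    rw [semiAut_mul]
    exact semiAut_congr h _ _ (by rw [map_one, mul_one]) rfl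

theorem fd_apply (hinv : Inv Q) (σ : F ≃+* F) :
    fd h hinv σ = semiAut h 1 σ (field_pair hinv σ) := rfl

theorem isField_iff (hinv : Inv Q) (σ : F ≃+* F) (β : MulAut (POmega F ⇑Q)) :
    IsFieldAutPOmegaOf ⇑Q σ β ↔ β = fd h hinv σ := by
  rw [fd_apply, ← induced_iff h 1 σ (field_pair hinv σ)]
  refine forall_congr' fun s => forall_congr' fun s' => ?_
  simp

theorem fd_injective (hinv : Inv Q) : Function.Injective (fd h hinv) :=
  (injective_iff_map_eq_one _).2 fun _ hσ => semiAut_eq_one h _ hσ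

theorem semiAut_decomp (hinv : Inv Q) {g : GL ι F} {σ : F ≃+* F}
    (hp : IsSemisimilarityPair ⇑Q g σ) :
    ∃ g' : Sim Q, (g' : GL ι F) = g ∧
      semiAut h g σ hp = OrthUnitarySimAut.conjP Q g' * fd h hinv σ := by
  obtain ⟨c, hc⟩ := id hp
  have hg : g ∈ Sim Q := ⟨c, fun v => by
    have h1 := hc (fun i => σ.symm (v i))
    rw [← hinv σ] at h1
    simpa using h1⟩
  refine ⟨⟨g, hg⟩, rfl, ?_⟩
  rw [conjP_eq h, fd_apply, semiAut_mul]
  exact semiAut_congr h _ _ (by rw [map_one, mul_one]) rfl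

theorem aut_decomp (hinv : Inv Q) (α : MulAut (POmega F ⇑Q)) :
    ∃ (g : Sim Q) (σ : F ≃+* F), α = OrthUnitarySimAut.conjP Q g * fd h hinv σ := by
  obtain ⟨g, σ, hp, hi⟩ := exists_semisim h α
  obtain ⟨g', -, hg'⟩ := semiAut_decomp h hinv hp
  exact ⟨g', σ, ((induced_iff h g σ hp α).1 hi).trans hg'⟩

theorem decomp_unique (hinv : Inv Q) {g : Sim Q} {σ : F ≃+* F}
    (he : OrthUnitarySimAut.conjP Q g * fd h hinv σ = 1) :
    σ = 1 ∧ g ∈ scalarSim Q := by
  have hn : 5 ≤ Fintype.card ι := by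
    rw [← finrank_pi (F := F)]; exact h.dim5
  have hσ : σ = 1 := by
    rw [conjP_eq h, fd_apply, semiAut_mul] at he
    exact semiAut_eq_one h _ he
  subst hσ
  rw [map_one, mul_one] at he
  refine ⟨rfl, ?_⟩
  rw [← ker_conjP Q h.nd hn]
  exact he

end Cfsg.Agent.AutOrth45Api
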