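import Mathlib
import Cfsg.Prelude.Def_Classical
import Cfsg.Agent.Lib.OrthUnitaryQuad

/-!
The three standard quadratic forms `quadFormPlus`, `quadFormMinus`, `quadFormOdd`: bundled versions,
zero counts and the orders of their isometry groups.
-/

set_option autoImplicit false

namespace Cfsg.Agent.OrthUnitaryForms

open QuadraticMap
open Cfsg.Agent.OrthUnitaryQuad

variable (F : Type*) [Field F]

/-! ### Base forms -/

/-- The form on the zero space. -/
def qfNil : QuadraticForm F (Fin 0 → F) := 0

/-- `x₀²`. -/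
def qfSq : QuadraticForm F (Unit → F) :=
  linMulLin (LinearMap.proj ()) (LinearMap.proj ())

variable {F}

/-- `z₀² + a z₀ z₁ + b z₁²`. -/
def qfBin (a b : F) : QuadraticForm F (Fin 2 → F) :=
  linMulLin (LinearMap.proj 0) (LinearMap.proj 0) + a • linMulLin (LinearMap.proj 0) (LinearMap.proj 1)
    + b • linMulLin (LinearMap.proj 1) (LinearMap.proj 1)

theorem qfSq_apply (v : Unit → F) : qfSq F v = v () * v () := rfl

theorem qfBin_apply (a b : F) (v : Fin 2 → F) :
    qfBin a b v = v 0 ^ 2 + a * v 0 * v 1 + b * v 1 ^ 2 := by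
  simp [qfBin, pow_two, mul_assoc]

theorem isReg_qfNil : IsReg (qfNil F) := fun x _ _ => Subsingleton.elim x 0

theorem isReg_qfSq : IsReg (qfSq F) := by
  refine isReg_of_anisotropic fun x hx => ?_
  funext u
  simpa [qfSq_apply] using hx

/-- The binary form has no non-trivial zero. -/
def IsAniso (a b : F) : Prop :=
  ∀ z₁ z₂ : F, z₁ ^ 2 + a * z₁ * z₂ + b * z₂ ^ 2 = 0 → z₁ = 0 ∧ z₂ = 0

theorem eq_zero_of_qfBin {a b : F} (hab : IsAniso a b) {x : Fin 2 → F} (hx : qfBin a b x = 0) :
    x = 0 := by
  rw [qfBin_apply] at hx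
  obtain ⟨h0, h1⟩ := hab _ _ hx
  funext i
  fin_cases i
  · exact h0
  · exact h1

theorem isReg_qfBin {a b : F} (hab : IsAniso a b) : IsReg (qfBin a b) :=
  isReg_of_anisotropic fun _ hx => eq_zero_of_qfBin hab hx

/-! ### Identifications with the Prelude's forms -/

/-- The plus type as hyperbolic planes over the zero space. -/
def eqPlus (m : ℕ) : ((Fin m ⊕ Fin m → F) × (Fin 0 → F)) ≃ₗ[F] (Fin m ⊕ Fin m → F) where
  toFun p := p.1
  invFun v := (v, 0)
  map_add' _ _ := rfl
  map_smul' _ _ := rfl
  left_inv _ := Prod.ext rfl (Subsingleton.elim _ _)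
  right_inv _ := rfl

theorem eqPlus_isometry (m : ℕ) (p : (Fin m ⊕ Fin m → F) × (Fin 0 → F)) :
    quadFormPlus m F (eqPlus m p) = withBase m (qfNil F) p := by
  obtain ⟨v, x⟩ := p
  simp [eqPlus, withBase_apply, qfNil]

/-- The minus type as hyperbolic planes over the binary form. -/
def eqMinus (m : ℕ) :
    ((Fin m ⊕ Fin m → F) × (Fin 2 → F)) ≃ₗ[F] ((Fin m ⊕ Fin m) ⊕ Fin 2 → F) :=
  (LinearEquiv.sumArrowLequivProdArrow (Fin m ⊕ Fin m) (Fin 2) F F).symm

theorem eqMinus_isometry (m : ℕ) (a b : F) (p : (Fin m ⊕ Fin m → F) × (Fin 2 → F)) :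
    quadFormMinus m F a b (eqMinus m p) = withBase m (qfBin a b) p := by
  obtain ⟨v, x⟩ := p
  simp [eqMinus, withBase_apply, qfBin_apply, quadFormMinus, quadFormPlus,
    LinearEquiv.sumArrowLequivProdArrow, Equiv.sumArrowEquivProdArrow]

/-- The odd dimensional form as hyperbolic planes over a square. -/
def eqOdd (m : ℕ) :
    ((Fin m ⊕ Fin m → F) × (Unit → F)) ≃ₗ[F] (Unit ⊕ (Fin m ⊕ Fin m) → F) :=
  (LinearEquiv.prodComm F _ _).trans
    (LinearEquiv.sumArrowLequivProdArrow Unit (Fin m ⊕ Fin m) F F).symm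

theorem eqOdd_isometry (m : ℕ) (p : (Fin m ⊕ Fin m → F) × (Unit → F)) :
    quadFormOdd m F (eqOdd m p) = withBase m (qfSq F) p := by
  obtain ⟨v, x⟩ := p
  simp [eqOdd, withBase_apply, qfSq_apply, quadFormOdd, quadFormPlus,
    LinearEquiv.sumArrowLequivProdArrow, Equiv.sumArrowEquivProdArrow, pow_two, add_comm]

/-! ### Counting zeros -/

theorem card_zero_of_equiv {ι : Type} {U : Type*} [AddCommGroup U] [Module F U]
    (Q : QuadraticForm F U) (f : (ι → F) → F) (e : U ≃ₗ[F] (ι → F)) (h : ∀ x, f (e x) = Q x) :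
    Nat.card {v : ι → F // f v = 0} = Nat.card {x // Q x = 0} :=
  (Nat.card_congr (e.toEquiv.subtypeEquiv fun x => by
    show Q x = 0 ↔ f (e x) = 0
    rw [h])).symm

theorem card_zero_of_aniso {U : Type*} [AddCommGroup U] [Module F U] (Q : QuadraticForm F U)
    (h : ∀ x, Q x = 0 → x = 0) : Nat.card {x // Q x = 0} = 1 :=
  Nat.card_eq_one_iff_unique.2 ⟨⟨fun a b => Subtype.ext ((h _ a.2).trans (h _ b.2).symm)⟩,
    ⟨⟨0, QuadraticMap.map_zero Q⟩⟩⟩

variable [Fintype F] {q : ℕ}

theorem q_mul_card_zero_plus (hF : Fintype.card F = q) (m : ℕ) :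
    (q : ℤ) * Nat.card {v : Fin m ⊕ Fin m → F // quadFormPlus m F v = 0}
      = q ^ (2 * m) + q ^ m * (q - 1) := by
  rw [card_zero_of_equiv _ _ (eqPlus m) (eqPlus_isometry m), ← hF,
    q_mul_card_zero_withBase (d := 0) (by simp) _ m,
    card_zero_of_aniso (qfNil F) (fun x _ => Subsingleton.elim x 0)]
  simp

theorem q_mul_card_zero_minus (hF : Fintype.card F = q) {a b : F} (hab : IsAniso a b) (m : ℕ) :
    (q : ℤ) * Nat.card {v : (Fin m ⊕ Fin m) ⊕ Fin 2 → F // quadFormMinus m F a b v = 0}
      = q ^ (2 * m + 2) + q ^ m * ((q : ℤ) - q ^ 2) := by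
  rw [card_zero_of_equiv _ _ (eqMinus m) (eqMinus_isometry m a b), ← hF,
    q_mul_card_zero_withBase (d := 2)
      (by simp [Nat.card_eq_fintype_card]) _ m,
    card_zero_of_aniso (qfBin a b) (fun x hx => eq_zero_of_qfBin hab hx)]
  simp

theorem card_zero_odd (hF : Fintype.card F = q) (m : ℕ) :
    Nat.card {v : Unit ⊕ (Fin m ⊕ Fin m) → F // quadFormOdd m F v = 0} = q ^ (2 * m) := by
  have hq : q ≠ 0 := by rw [← hF]; exact Fintype.card_ne_zero
  apply Nat.eq_of_mul_eq_mul_left (Nat.pos_of_ne_zero hq)
  zify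
  rw [card_zero_of_equiv _ _ (eqOdd m) (eqOdd_isometry m), ← hF,
    q_mul_card_zero_withBase (d := 1) (by simp) _ m,
    card_zero_of_aniso (qfSq F) (fun x hx => funext fun u => by simpa [qfSq_apply] using hx)]
  push_cast
  ring

/-! ### Small isometry groups -/

omit [Fintype F] in
theorem card_orth_qfNil : Nat.card (orth (qfNil F)) = 1 :=
  Nat.card_eq_one_iff_unique.2 ⟨⟨fun a b =>
    Subtype.ext (LinearEquiv.ext fun _ => Subsingleton.elim _ _)⟩, ⟨1⟩⟩

theorem card_orth_qfSq (h2 : (2 : F) ≠ 0) : Nat.card (orth (qfSq F)) = 2 := by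
  classical
  have e1 : ∀ v : Unit → F, v = v () • (fun _ => (1 : F)) := fun v => funext fun u => by simp
  have hneg : (LinearEquiv.neg F : (Unit → F) ≃ₗ[F] (Unit → F)) ∈ orth (qfSq F) := fun x => by
    simp [qfSq_apply]
  rw [Nat.card_eq_two_iff]
  refine ⟨1, ⟨_, hneg⟩, ?_, ?_⟩
  · intro h
    have := congrFun (LinearEquiv.congr_fun (congrArg Subtype.val h) (fun _ => (1 : F))) ()
    simp at this
    exact h2 (by linear_combination this)
  · ext g
    simp only [Set.mem_insert_iff, Set.mem_singleton_iff, Set.mem_univ, iff_true]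
    have h := g.2 (fun _ => (1 : F))
    simp only [qfSq_apply, mul_one] at h
    rcases mul_self_eq_one_iff.1 h with h1 | h1
    · left
      apply Subtype.ext
      apply LinearEquiv.ext
      intro v
      rw [e1 v, map_smul, map_smul]
      funext u
      simp [h1]
    · right
      apply Subtype.ext
      apply LinearEquiv.ext
      intro v
      rw [e1 v, map_smul, map_smul]
      funext u
      simp [h1]

variable {a b : F}

omit [Fintype F] in
theorem eq_zero_or_ne (hab : IsAniso a b) : a ^ 2 - 4 * b ≠ 0 ∨ (2 : F) = 0 := by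
  by_cases h2 : (2 : F) = 0
  · exact Or.inr h2
  · refine Or.inl fun h => ?_
    have := (hab (-a / 2) 1 (by field_simp; linear_combination -h)).2
    exact one_ne_zero this

theorem a_ne_zero_of_two_eq_zero (hab : IsAniso a b) (h2 : (2 : F) = 0) : a ≠ 0 := by
  intro ha
  have : CharP F 2 := CharTwo.of_one_ne_zero_of_two_eq_zero one_ne_zero h2
  obtain ⟨x, hx⟩ := FiniteField.isSquare_of_char_two (ringChar.eq F 2) b
  have hx' : x ^ 2 = b := by rw [hx, pow_two]
  have := (hab x 1 (by rw [ha, hx']; linear_combination b * h2)).2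
  exact one_ne_zero this

/-- The base point `(1, 0)`. -/
def P0 : Fin 2 → F := ![1, 0]

/-- The solutions of `Q = 1` for an anisotropic binary form. -/
theorem card_qfBin_eq_one (hab : IsAniso a b) :
    Nat.card {v : Fin 2 → F // qfBin a b v = 1} = Fintype.card F + 1 := by
  classical
  have hQ : ∀ t : F, t ^ 2 + a * t + b ≠ 0 := fun t h =>
    one_ne_zero (hab t 1 (by linear_combination h)).2
  let φ : Option F → {v : Fin 2 → F // qfBin a b v = 1} := fun o =>
    match o with
    | none => ⟨![-1, 0], by simp [qfBin_apply]⟩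
    | some t => ⟨![1 - (2 * t + a) / (t ^ 2 + a * t + b) * t, -((2 * t + a) / (t ^ 2 + a * t + b))], by
        have hD := hQ t
        have key : ∀ d : F, d * (t ^ 2 + a * t + b) = 2 * t + a →
            (1 - d * t) ^ 2 + a * (1 - d * t) * (-d) + b * (-d) ^ 2 = 1 := fun d hd => by
          linear_combination d * hd
        simpa [qfBin_apply] using key _ (div_mul_cancel₀ (2 * t + a) hD)⟩
  rw [← Nat.card_eq_of_bijective φ ?_, Nat.card_eq_fintype_card, Fintype.card_option]
  constructor
  · intro o o' h
    have h0 := congrFun (congrArg Subtype.val h) 0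
    have h1 := congrFun (congrArg Subtype.val h) 1
    rcases o with _ | t <;> rcases o' with _ | s <;> simp [φ] at h0 h1
    · rfl
    · exfalso
      have hs := hQ s
      have h0' : (2 * s + a) / (s ^ 2 + a * s + b) = 0 := div_eq_zero_iff.2 h1
      rw [h0', zero_mul, sub_zero] at h0
      have h2 : (2 : F) = 0 := by linear_combination -h0
      rw [div_eq_zero_iff, or_iff_left hs, h2, zero_mul, zero_add] at h0'
      exact a_ne_zero_of_two_eq_zero hab h2 h0'
    · exfalso
      have hs := hQ t
      have h0' : (2 * t + a) / (t ^ 2 + a * t + b) = 0 := div_eq_zero_iff.2 h1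
      rw [h0', zero_mul, sub_zero] at h0
      have h2 : (2 : F) = 0 := by linear_combination h0
      rw [div_eq_zero_iff, or_iff_left hs, h2, zero_mul, zero_add] at h0'
      exact a_ne_zero_of_two_eq_zero hab h2 h0'
    · by_cases hc : (2 * t + a) / (t ^ 2 + a * t + b) = 0
      · have hc' : (2 * s + a) / (s ^ 2 + a * s + b) = 0 := by rw [← h1]; exact hc
        rw [div_eq_zero_iff, or_iff_left (hQ t)] at hc
        rw [div_eq_zero_iff, or_iff_left (hQ s)] at hc'
        by_cases h2 : (2 : F) = 0
        · rw [h2, zero_mul, zero_add] at hc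
          exact absurd hc (a_ne_zero_of_two_eq_zero hab h2)
        · congr 1
          exact mul_left_cancel₀ h2 (by linear_combination hc - hc')
      · congr 1
        rw [← h1] at h0
        exact mul_left_cancel₀ hc (by linear_combination h0)
  · rintro ⟨v, hv⟩
    have hv' := hv
    rw [qfBin_apply] at hv'
    by_cases h1 : v 1 = 0
    · rw [h1] at hv'
      have hsq : v 0 * v 0 = 1 := by linear_combination hv'
      by_cases hneg : v 0 = -1
      · refine ⟨none, Subtype.ext ?_⟩
        funext i
        fin_cases i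
        · exact hneg.symm
        · exact h1.symm
      · have hone : v 0 = 1 := (mul_self_eq_one_iff.1 hsq).resolve_right hneg
        have h2 : (2 : F) ≠ 0 := fun h => hneg (by rw [hone]; linear_combination h)
        refine ⟨some (-a / 2), Subtype.ext ?_⟩
        funext i
        have hz : 2 * (-a / 2) + a = 0 := by field_simp; ring
        fin_cases i <;> simp [φ, hz, hone, h1]
    · refine ⟨some ((v 0 - 1) / v 1), Subtype.ext ?_⟩
      set t := (v 0 - 1) / v 1 with ht
      have hv0 : v 0 = 1 + t * v 1 := by rw [ht]; field_simp; ring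
      rw [hv0] at hv'
      have hc : (2 * t + a) / (t ^ 2 + a * t + b) = -v 1 := by
        rw [div_eq_iff (hQ t)]
        exact mul_left_cancel₀ h1 (by linear_combination hv')
      funext i
      fin_cases i
      · simp [φ, hc, hv0, mul_comm]
      · simp [φ, hc]

/-- The isometry group of an anisotropic plane has order `2 (q + 1)`. -/
theorem card_orth_qfBin (hab : IsAniso a b) :
    Nat.card (orth (qfBin a b)) = 2 * (Fintype.card F + 1) := by
  classical
  have := finite_orth (qfBin a b)
  set P : Fin 2 → F := P0 with hP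
  have hQP : qfBin a b P = 1 := by simp [hP, P0, qfBin_apply]
  rw [OrthUnitaryHerm.card_eq_card_mul_card_fibre
    (fun g : orth (qfBin a b) => (⟨g.1 P, by rw [map_orth g, hQP]⟩ :
      {v : Fin 2 → F // qfBin a b v = 1})) ⟨P, hQP⟩ ?_, card_qfBin_eq_one hab, mul_comm]
  · congr 1
    -- the stabiliser of `P`
    let s : (Fin 2 → F) →ₗ[F] (Fin 2 → F) :=
      { toFun := fun v => ![v 0 + a * v 1, -v 1]
        map_add' := fun u v => by funext i; fin_cases i <;> simp <;> ring
        map_smul' := fun c v => by funext i; fin_cases i <;> simp <;> ring }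
    have hs : Function.Involutive s := fun v => by
      funext i
      fin_cases i <;> simp [s]
    have hsO : LinearEquiv.ofInvolutive s hs ∈ orth (qfBin a b) := fun v => by
      show qfBin a b (s v) = qfBin a b v
      simp [s, qfBin_apply]
      ring
    rw [Nat.card_eq_two_iff]
    refine ⟨⟨1, Subtype.ext rfl⟩, ⟨⟨_, hsO⟩, Subtype.ext ?_⟩, ?_, ?_⟩
    · show s P = P
      simp [s, hP, P0]
    · intro h
      have h' := LinearEquiv.congr_fun (congrArg (fun g => g.1.1) h) ![0, 1]
      have e0 : (0 : F) = a := by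
        have := congrFun h' 0
        simpa [s] using this
      have e1 : (1 : F) = -1 := by
        have := congrFun h' 1
        simpa [s] using this
      exact a_ne_zero_of_two_eq_zero hab (by linear_combination e1) e0.symm
    · ext g
      simp only [Set.mem_insert_iff, Set.mem_singleton_iff, Set.mem_univ, iff_true]
      obtain ⟨g, hg⟩ := g
      have hgP : g.1 P = P := congrArg Subtype.val hg
      obtain ⟨w, hw⟩ : ∃ w, w = g.1 ![0, 1] := ⟨_, rfl⟩
      have hQ1 : qfBin a b w = b := by rw [hw, map_orth g]; simp [qfBin_apply]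
      have hB : polar (qfBin a b) P w = a := by
        have h := polar_orth g P ![0, 1]
        rw [hgP, ← hw] at h
        rw [h]
        simp [polar, hP, P0, qfBin_apply]
        ring
      rw [qfBin_apply] at hQ1
      simp [polar, hP, P0, qfBin_apply, -Matrix.vecHead, Matrix.vecHead, Matrix.vecTail] at hB
      have hlin : 2 * w 0 + a * w 1 = a := by linear_combination hB
      have hy : w 1 = 1 ∨ w 1 = -1 := by
        rcases eq_zero_or_ne hab with hd | h2
        · have : (a ^ 2 - 4 * b) * (w 1 * w 1 - 1) = 0 := by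
            linear_combination (2 * w 0 + a * w 1 + a) * hlin - 4 * hQ1
          exact mul_self_eq_one_iff.1 (sub_eq_zero.1 ((mul_eq_zero.1 this).resolve_left hd))
        · left
          rw [h2, zero_mul, zero_add] at hlin
          exact mul_left_cancel₀ (a_ne_zero_of_two_eq_zero hab h2) (by rw [hlin, mul_one])
      have hdec : ∀ v : Fin 2 → F, v = v 0 • P + v 1 • ![0, 1] := fun v => by
        funext i; fin_cases i <;> simp [hP, P0]
      have hxa : w 0 * (w 0 + a * w 1) = b * (1 - w 1 * w 1) := by linear_combination hQ1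
      have hcases : (w 0 = 0 ∧ w 1 = 1) ∨ (w 0 = a ∧ w 1 = -1) := by
        by_cases h2 : (2 : F) = 0
        · have h11 : w 1 = 1 := by
            rcases hy with hy | hy
            · exact hy
            · rw [hy]; linear_combination -h2
          rw [h11] at hxa
          rcases mul_eq_zero.1 (hxa.trans (by ring)) with h0 | h0
          · exact Or.inl ⟨h0, h11⟩
          · exact Or.inr ⟨by linear_combination h0 - a * h2, by rw [h11]; linear_combination h2⟩
        · rcases hy with hy | hy
          · rw [hy] at hlin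
            exact Or.inl ⟨mul_left_cancel₀ h2 (by linear_combination hlin), hy⟩
          · rw [hy] at hlin
            exact Or.inr ⟨mul_left_cancel₀ h2 (by linear_combination hlin), hy⟩
      replace hcases : w = ![0, 1] ∨ w = ![a, -1] := by
        rcases hcases with ⟨h0, h1⟩ | ⟨h0, h1⟩
        · left; funext i; fin_cases i <;> simp [h0, h1]
        · right; funext i; fin_cases i <;> simp [h0, h1]
      rcases hcases with hc | hc
      · left
        apply Subtype.ext; apply Subtype.ext
        apply LinearEquiv.ext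
        intro v
        show g.1 v = v
        conv_lhs => rw [hdec v, map_add, map_smul, map_smul, hgP, ← hw, hc]
        exact (hdec v).symm
      · right
        apply Subtype.ext; apply Subtype.ext
        apply LinearEquiv.ext
        intro v
        show g.1 v = s v
        conv_lhs => rw [hdec v, map_add, map_smul, map_smul, hgP, ← hw, hc]
        funext i
        fin_cases i <;> simp [s, hP, P0, mul_comm]
  · intro v
    by_cases hv : v.1 = P
    · exact ⟨1, fun g => by rw [one_mul, show v = ⟨P, hQP⟩ from Subtype.ext hv]⟩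
    have hne : qfBin a b (P - v.1) ≠ 0 := fun h => hv (sub_eq_zero.1 (eq_zero_of_qfBin hab h)).symm
    refine ⟨refl _ _ hne, fun g => ?_⟩
    simp only [Subtype.ext_iff, Subgroup.coe_mul, LinearEquiv.mul_apply]
    have hk := refl_sub_apply (show qfBin a b P = qfBin a b v.1 by rw [hQP, v.2]) hne
    exact ⟨fun h => (refl _ _ hne).1.injective (h.trans hk.symm), fun h => by rw [h, hk]⟩

/-! ### Orders -/

theorem card_isometryGroup_plus (hF : Fintype.card F = q) (m : ℕ) :
    Nat.card (isometryGroup F (quadFormPlus (m + 1) F))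
      = 2 * q ^ ((m + 1) * m) * (q ^ (m + 1) - 1)
        * ∏ i ∈ Finset.range m, (q ^ (2 * (i + 1)) - 1) := by
  have hq : 1 < q := by rw [← hF]; exact Fintype.one_lt_card
  rw [card_isometryGroup _ _ (eqPlus (m + 1)) (eqPlus_isometry (m + 1))]
  have hs : ∀ k, Nat.card (orth (withBase (k + 1) (qfNil F)))
      = (q ^ (k + 1) - 1) * (q ^ k + 1) * q ^ (2 * k) * Nat.card (orth (withBase k (qfNil F))) := by
    intro k
    rw [card_orth_withBase_succ (d := 0) (by simp) isReg_qfNil, hF,
      ← card_zero_of_equiv _ _ (eqPlus (k + 1)) (eqPlus_isometry (k + 1)), add_zero]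
    congr 2
    have h1 : 1 ≤ q ^ (k + 1) := Nat.one_le_pow _ _ (by omega)
    have h := q_mul_card_zero_plus (F := F) hF (k + 1)
    have hz : Nat.card {v : Fin (k + 1) ⊕ Fin (k + 1) → F // quadFormPlus (k + 1) F v = 0}
        = (q ^ (k + 1) - 1) * (q ^ k + 1) + 1 := by
      zify [h1]
      apply mul_left_cancel₀ (show (q : ℤ) ≠ 0 by omega)
      rw [h]
      ring
    rw [hz, Nat.add_sub_cancel]
  induction m with
  | zero =>
    rw [hs 0, card_orth_withBase_zero, card_orth_qfNil]
    simp
    ring
  | succ m ih =>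
    have h1 : 1 ≤ q ^ (m + 1) := Nat.one_le_pow _ _ (by omega)
    have h2 : 1 ≤ q ^ (2 * (m + 1)) := Nat.one_le_pow _ _ (by omega)
    rw [hs (m + 1), ih, Finset.prod_range_succ]
    zify [h1, h2]
    ring

theorem card_isometryGroup_minus (hF : Fintype.card F = q) (hab : IsAniso a b) (m : ℕ) :
    Nat.card (isometryGroup F (quadFormMinus m F a b))
      = 2 * q ^ ((m + 1) * m) * (q ^ (m + 1) + 1)
        * ∏ i ∈ Finset.range m, (q ^ (2 * (i + 1)) - 1) := by
  have hq : 1 < q := by rw [← hF]; exact Fintype.one_lt_card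
  rw [card_isometryGroup _ _ (eqMinus m) (eqMinus_isometry m a b)]
  have hs : ∀ k, Nat.card (orth (withBase (k + 1) (qfBin a b)))
      = (q ^ (k + 2) + 1) * (q ^ (k + 1) - 1) * q ^ (2 * k + 2)
        * Nat.card (orth (withBase k (qfBin a b))) := by
    intro k
    rw [card_orth_withBase_succ (d := 2) (by simp [Nat.card_eq_fintype_card]) (isReg_qfBin hab),
      hF, ← card_zero_of_equiv _ _ (eqMinus (k + 1)) (eqMinus_isometry (k + 1) a b)]
    congr 2
    have h1 : 1 ≤ q ^ (k + 1) := Nat.one_le_pow _ _ (by omega)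
    have h := q_mul_card_zero_minus hF hab (k + 1)
    have hz : Nat.card {v : (Fin (k + 1) ⊕ Fin (k + 1)) ⊕ Fin 2 → F //
          quadFormMinus (k + 1) F a b v = 0}
        = (q ^ (k + 2) + 1) * (q ^ (k + 1) - 1) + 1 := by
      zify [h1]
      apply mul_left_cancel₀ (show (q : ℤ) ≠ 0 by omega)
      rw [h]
      ring
    rw [hz, Nat.add_sub_cancel]
  induction m with
  | zero =>
    rw [card_orth_withBase_zero, card_orth_qfBin hab, hF]
    simp
  | succ m ih =>
    have h1 : 1 ≤ q ^ (m + 1) := Nat.one_le_pow _ _ (by omega)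
    have h2 : 1 ≤ q ^ (2 * (m + 1)) := Nat.one_le_pow _ _ (by omega)
    rw [hs m, ih, Finset.prod_range_succ]
    zify [h1, h2]
    ring

theorem two_ne_zero_of_odd (hF : Fintype.card F = q) (hodd : Odd q) : (2 : F) ≠ 0 := by
  intro h2
  have : CharP F 2 := CharTwo.of_one_ne_zero_of_two_eq_zero one_ne_zero h2
  obtain ⟨n, -, hn⟩ := FiniteField.card F 2
  rw [← hF, hn] at hodd
  exact absurd ((Nat.odd_pow_iff n.pos.ne').1 hodd) (by decide)

theorem card_isometryGroup_odd (hF : Fintype.card F = q) (hodd : Odd q) (m : ℕ) :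
    Nat.card (isometryGroup F (quadFormOdd m F))
      = 2 * q ^ (m ^ 2) * ∏ i ∈ Finset.range m, (q ^ (2 * (i + 1)) - 1) := by
  have hq : 1 < q := by rw [← hF]; exact Fintype.one_lt_card
  rw [card_isometryGroup _ _ (eqOdd m) (eqOdd_isometry m)]
  have hs : ∀ k, Nat.card (orth (withBase (k + 1) (qfSq F)))
      = (q ^ (2 * (k + 1)) - 1) * q ^ (2 * k + 1) * Nat.card (orth (withBase k (qfSq F))) := by
    intro k
    rw [card_orth_withBase_succ (d := 1) (by simp) isReg_qfSq, hF,
      ← card_zero_of_equiv _ _ (eqOdd (k + 1)) (eqOdd_isometry (k + 1)), card_zero_odd hF]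
  induction m with
  | zero =>
    rw [card_orth_withBase_zero, card_orth_qfSq (two_ne_zero_of_odd hF hodd)]
    simp
  | succ m ih =>
    rw [hs m, ih, Finset.prod_range_succ]
    ring

end Cfsg.Agent.OrthUnitaryForms
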