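import Mathlib
import Cfsg.Prelude.Def_Classical
import Cfsg.Agent.Lib.OrthUnitaryForms
import Cfsg.Agent.Lib.OrthUnitaryCentre
import Cfsg.Agent.Lib.OrthUnitaryPrelude

/-!
`Omega` and `POmega` of the three standard forms: when `-1` lies in `Omega`, and the orders of the
projective commutator groups.
-/

set_option autoImplicit false

namespace Cfsg.Agent.OrthUnitaryStd

open QuadraticMap
open scoped Matrix
open Cfsg.Agent.OrthUnitaryQuad
open Cfsg.Agent.OrthUnitaryRefl
open Cfsg.Agent.OrthUnitaryOmega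
open Cfsg.Agent.OrthUnitaryCentre
open Cfsg.Agent.OrthUnitaryForms
open Cfsg.Agent.OrthUnitaryPrelude

variable {F : Type*} [Field F] {W : Type*} [AddCommGroup W] [Module F W]

/-! ### Non-degeneracy of the standard forms -/

theorem nondegenerate_iff_left {V : Type*} [AddCommGroup V] [Module F V] (Q : QuadraticForm F V)
    (h : ∀ x, (∀ y, polar Q x y = 0) → x = 0) : (polarBilin Q).Nondegenerate := by
  refine ⟨fun x hx => h x hx, fun x hx => h x fun y => ?_⟩
  rw [polar_comm]
  exact hx y

theorem nondegenerate_congr {V : Type*} [AddCommGroup V] [Module F V] {Q : QuadraticForm F V}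
    {Q' : QuadraticForm F W} (e : V ≃ₗ[F] W) (h : ∀ x, Q' (e x) = Q x)
    (hQ : (polarBilin Q).Nondegenerate) : (polarBilin Q').Nondegenerate :=
  nondegenerate_iff_left Q' fun x hx => by
    have := hQ.1 (e.symm x) fun y => by
      show polar Q (e.symm x) y = 0
      rw [polar_comm, polar_congr_symm e h, polar_comm]
      exact hx _
    simpa using congrArg e this

theorem nondegenerate_hypExt {Q : QuadraticForm F W} (hQ : (polarBilin Q).Nondegenerate) :
    (polarBilin (hypExt Q)).Nondegenerate := by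
  refine nondegenerate_iff_left _ ?_
  rintro ⟨⟨a, b⟩, x⟩ h
  have ha : a = 0 := by simpa [polar_hypExt] using h ((0, 1), 0)
  have hb : b = 0 := by simpa [polar_hypExt] using h ((1, 0), 0)
  subst ha hb
  have hx : x = 0 := hQ.1 x fun y => by simpa [polar_hypExt] using h ((0, 0), y)
  subst hx
  rfl

/-- Dropping the trivial hyperbolic part. -/
def dropZero : ((Fin 0 ⊕ Fin 0 → F) × W) ≃ₗ[F] W where
  toFun p := p.2
  invFun x := (0, x)
  map_add' _ _ := rfl
  map_smul' _ _ := rfl
  left_inv _ := Prod.ext (Subsingleton.elim _ _) rfl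
  right_inv _ := rfl

theorem dropZero_isometry (Q : QuadraticForm F W) (p : (Fin 0 ⊕ Fin 0 → F) × W) :
    Q (dropZero p) = withBase 0 Q p := by
  obtain ⟨v, x⟩ := p
  simp [dropZero, withBase_apply, quadFormPlus]

theorem nondegenerate_withBase {Q : QuadraticForm F W} (hQ : (polarBilin Q).Nondegenerate) (m : ℕ) :
    (polarBilin (withBase m Q)).Nondegenerate := by
  induction m with
  | zero =>
    refine nondegenerate_congr (dropZero (F := F) (W := W)).symm (fun x => ?_) hQ
    rw [← dropZero_isometry Q, LinearEquiv.apply_symm_apply]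
  | succ m ih =>
    exact nondegenerate_congr (splitEquiv m) (splitEquiv_isometry m Q) (nondegenerate_hypExt ih)

theorem nondegenerate_qfNil : (polarBilin (qfNil F)).Nondegenerate :=
  nondegenerate_iff_left _ fun x _ => Subsingleton.elim x 0

theorem nondegenerate_qfBin [Fintype F] {a b : F} (hab : IsAniso a b) :
    (polarBilin (qfBin a b)).Nondegenerate := by
  by_cases h2 : (2 : F) = 0
  · refine nondegenerate_iff_left _ fun x hx => ?_
    have ha := a_ne_zero_of_two_eq_zero hab h2
    have h0 := hx ![1, 0]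
    have h1 := hx ![0, 1]
    simp [polar, qfBin_apply, Matrix.vecHead, Matrix.vecTail] at h0 h1
    have e1 : a * x 1 = 0 := by linear_combination h0 - x 0 * h2
    have e0 : a * x 0 = 0 := by linear_combination h1 - b * x 1 * h2
    funext i
    fin_cases i
    · exact (mul_eq_zero.1 e0).resolve_left ha
    · exact (mul_eq_zero.1 e1).resolve_left ha
  · exact nondegenerate_of_isReg h2 (isReg_qfBin hab)

theorem nondegenerate_qfSq (h2 : (2 : F) ≠ 0) : (polarBilin (qfSq F)).Nondegenerate :=
  nondegenerate_of_isReg h2 isReg_qfSq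

/-! ### Transfer -/

section Transfer

variable {ι : Type} [Fintype ι] [DecidableEq ι] (Q : QuadraticForm F W) (f : (ι → F) → F)
  (e : W ≃ₗ[F] (ι → F)) (h : ∀ x, f (e x) = Q x)

include h

theorem comp_symm_apply : ∀ v, f v = Q.comp e.symm.toLinearMap v := fun v => by
  show f v = Q (e.symm v)
  rw [← h, e.apply_symm_apply]

/-- The Prelude's isometry group of `f` as the isometry group of `Q`. -/
noncomputable def stdIso : isometryGroup F f ≃* orth Q :=
  (isometryGroupEquiv (Q.comp e.symm.toLinearMap) f (comp_symm_apply Q f e h)).trans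
    (orthCongr e (fun x => by simp)).symm

theorem stdIso_apply (g : isometryGroup F f) (x : W) :
    e ((stdIso Q f e h g).1 x) = mat g *ᵥ e x := by
  show e (e.symm _) = _
  rw [e.apply_symm_apply]
  exact isometryGroupEquiv_apply _ f _ g (e x)

theorem stdIso_eq_negOne_iff (g : isometryGroup F f) :
    mat g = -1 ↔ stdIso Q f e h g = negOne Q := by
  constructor
  · intro hg
    refine orth_ext fun x => e.injective ?_
    rw [stdIso_apply, hg, negOne_apply, map_neg, Matrix.neg_mulVec, Matrix.one_mulVec]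
  · intro hg
    refine Matrix.ext_iff_mulVec.2 fun v => ?_
    have := stdIso_apply Q f e h g (e.symm v)
    rw [hg, negOne_apply, map_neg, e.apply_symm_apply] at this
    rw [← this, Matrix.neg_mulVec, Matrix.one_mulVec]

theorem exists_negOne_iff :
    (∃ g : isometryGroup F f, g ∈ Omega F f ∧ mat g = -1) ↔ negOne Q ∈ commutator (orth Q) := by
  constructor
  · rintro ⟨g, hg, hgm⟩
    rw [← (stdIso_eq_negOne_iff Q f e h g).1 hgm]
    exact (mem_commutator_iff (stdIso Q f e h) g).1 hg
  · intro hm
    refine ⟨(stdIso Q f e h).symm (negOne Q), ?_, ?_⟩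
    · rw [mem_commutator_iff (stdIso Q f e h), MulEquiv.apply_symm_apply]
      exact hm
    · exact (stdIso_eq_negOne_iff Q f e h _).2 (MulEquiv.apply_symm_apply _ _)

/-- `Omega` as the commutator subgroup of `orth Q`. -/
noncomputable def omegaEquiv : Omega F f ≃* commutator (orth Q) :=
  ((stdIso Q f e h).subgroupMap (Omega F f)).trans
    (MulEquiv.subgroupCongr (map_commutator_equiv (stdIso Q f e h)))

theorem card_POmega_mul :
    Nat.card (POmega F f) * Nat.card (Subgroup.center (commutator (orth Q)))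
      * (commutator (orth Q)).index = Nat.card (orth Q) := by
  set ψ := omegaEquiv Q f e h
  have hc : Nat.card (Subgroup.center (Omega F f))
      = Nat.card (Subgroup.center (commutator (orth Q))) :=
    Nat.card_congr (Subgroup.centerCongr ψ).toEquiv
  have h1 := Subgroup.card_eq_card_quotient_mul_card_subgroup (Subgroup.center (Omega F f))
  rw [hc, Nat.card_congr ψ.toEquiv] at h1
  show Nat.card (Omega F f ⧸ Subgroup.center (Omega F f)) * _ * _ = _
  rw [← h1, Subgroup.card_mul_index]

end Transfer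

/-! ### The value of the characters on `-1` -/

variable [Fintype F]

open scoped Classical in
/-- `1` or `-1` according as `-1` is a square. -/
noncomputable def sgn (F : Type*) [Field F] : ℤˣ := if IsSquare (-1 : F) then 1 else -1

theorem negOne_withBase [Finite W] [FiniteDimensional F W] (h2 : (2 : F) ≠ 0)
    {Q : QuadraticForm F W} (hQ : IsReg Q) (m : ℕ) :
    detHom (withBase m Q) (negOne (withBase m Q)) = detHom Q (negOne Q) ∧
      theta (withBase m Q) (negOne (withBase m Q)) = sgn F ^ m * theta Q (negOne Q) := by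
  induction m with
  | zero =>
    obtain ⟨hd, ht⟩ := detHom_theta_orthCongr h2 (isReg_withBase hQ 0) (dropZero (F := F) (W := W))
      (dropZero_isometry Q) (negOne (withBase 0 Q))
    rw [orthCongr_negOne] at hd ht
    rw [hd, ht, pow_zero, one_mul]
    exact ⟨rfl, rfl⟩
  | succ m ih =>
    obtain ⟨hd, ht⟩ := detHom_theta_orthCongr h2 (isReg_hypExt (isReg_withBase hQ m))
      (splitEquiv m) (splitEquiv_isometry m Q) (negOne (hypExt (withBase m Q)))
    rw [orthCongr_negOne] at hd ht
    obtain ⟨hd', ht'⟩ := negOne_hypExt h2 (isReg_withBase hQ m)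
    rw [hd, ht, hd', ht', ih.1, ih.2, pow_succ']
    refine ⟨rfl, ?_⟩
    rw [mul_assoc]
    unfold sgn
    congr 2

theorem negOne_qfNil : negOne (qfNil F) = 1 := orth_ext fun _ => Subsingleton.elim _ _

omit [Fintype F] in
theorem detHom_negOne_qfSq : detHom (qfSq F) (negOne (qfSq F)) = -1 := by
  apply Units.ext
  show ((LinearEquiv.det (negOne (qfSq F)).1 : Fˣ) : F) = _
  rw [LinearEquiv.coe_det,
    show ((negOne (qfSq F)).1 : (Unit → F) →ₗ[F] (Unit → F)) = (-1 : F) • LinearMap.id by
      ext; simp [negOne_apply],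
    LinearMap.det_smul, LinearMap.det_id]
  simp

open scoped Classical in
theorem negOne_qfBin {a b : F} (h2 : (2 : F) ≠ 0) (hab : IsAniso a b) :
    detHom (qfBin a b) (negOne (qfBin a b)) = 1 ∧
      theta (qfBin a b) (negOne (qfBin a b)) = -sgn F := by
  set P : Fin 2 → F := ![1, 0] with hP
  set d : Fin 2 → F := ![-a, 2] with hd
  have hQP : qfBin a b P = 1 := by simp [hP, qfBin_apply]
  have hQd : qfBin a b d = 4 * b - a ^ 2 := by simp [hd, qfBin_apply]; ring
  have hnsq : ¬ IsSquare (a ^ 2 - 4 * b) := by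
    rintro ⟨s, hs⟩
    exact one_ne_zero (hab ((-a + s) / 2) 1 (by field_simp; linear_combination -hs)).2
  have hd0 : qfBin a b d ≠ 0 := by
    rw [hQd]
    intro h0
    exact hnsq ⟨0, by linear_combination -h0⟩
  have hP0 : qfBin a b P ≠ 0 := by rw [hQP]; exact one_ne_zero
  have hdec : negOne (qfBin a b) = refl _ P hP0 * refl _ d hd0 := by
    apply orth_ext
    intro x
    rw [orth_mul_apply, negOne_apply]
    have hne : 4 * b - a ^ 2 ≠ 0 := by rwa [hQd] at hd0
    rw [refl_apply, refl_apply, hQP, hQd]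
    funext i
    fin_cases i <;>
    · simp [polar, hP, hd, qfBin_apply, Matrix.vecHead, Matrix.vecTail]
      field_simp
      ring
  rw [hdec, map_mul, map_mul, detHom_refl, detHom_refl, theta_refl h2, theta_refl h2, hQP,
    if_pos IsSquare.one, hQd, show 4 * b - a ^ 2 = -1 * (a ^ 2 - 4 * b) by ring]
  refine ⟨by simp, ?_⟩
  unfold sgn
  by_cases h1 : IsSquare (-1 : F)
  · rw [if_pos h1, if_neg fun hc => hnsq ?_, mul_one]
    have := hc.mul h1
    rwa [show -1 * (a ^ 2 - 4 * b) * -1 = a ^ 2 - 4 * b by ring] at this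
  · rw [if_neg h1, if_pos ?_, neg_neg, neg_one_mul, neg_neg]
    have := (isSquare_div_of_not hnsq h1).mul (IsSquare.mul_self (a ^ 2 - 4 * b))
    rwa [← mul_assoc, div_mul_cancel₀ _ (fun h0 : a ^ 2 - 4 * b = 0 => hnsq (by rw [h0]; exact IsSquare.zero))] at this

theorem sgn_pow_iff {q : ℕ} (hF : Fintype.card F = q) (hodd : Odd q) (m : ℕ) :
    (sgn F ^ m = 1 ↔ q ^ m % 4 = 1) ∧ (sgn F ^ m = -1 ↔ q ^ m % 4 = 3) := by
  unfold sgn
  rw [Nat.pow_mod]
  rcases Nat.odd_mod_four_iff.1 (Nat.odd_iff.1 hodd) with h | h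
  · have hs : IsSquare (-1 : F) := FiniteField.isSquare_neg_one_iff.2 (by rw [hF, h]; norm_num)
    rw [if_pos hs, h]
    simp
  · have hs : ¬ IsSquare (-1 : F) := fun hs => FiniteField.isSquare_neg_one_iff.1 hs (by rw [hF, h])
    rw [if_neg hs, h]
    rcases Nat.even_or_odd m with ⟨k, rfl⟩ | ⟨k, rfl⟩
    · rw [← two_mul, pow_mul, pow_mul]
      simp [Nat.pow_mod]
    · rw [pow_succ, pow_succ, pow_mul, pow_mul]
      simp [Nat.mul_mod, Nat.pow_mod]

theorem negOne_mem_plus {q : ℕ} (hF : Fintype.card F = q) (hodd : Odd q) (m : ℕ) :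
    negOne (withBase m (qfNil F)) ∈ commutator (orth (withBase m (qfNil F))) ↔ q ^ m % 4 = 1 := by
  have h2 := two_ne_zero_of_odd hF hodd
  rw [(odd_main h2 (isReg_withBase isReg_qfNil m)).1, (negOne_withBase h2 isReg_qfNil m).1,
    (negOne_withBase h2 isReg_qfNil m).2, negOne_qfNil, map_one, map_one, mul_one,
    (sgn_pow_iff hF hodd m).1]
  simp

theorem negOne_mem_minus {q : ℕ} (hF : Fintype.card F = q) (hodd : Odd q) {a b : F}
    (hab : IsAniso a b) (m : ℕ) :
    negOne (withBase m (qfBin a b)) ∈ commutator (orth (withBase m (qfBin a b)))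
      ↔ q ^ (m + 1) % 4 = 3 := by
  have h2 := two_ne_zero_of_odd hF hodd
  rw [(odd_main h2 (isReg_withBase (isReg_qfBin hab) m)).1,
    (negOne_withBase h2 (isReg_qfBin hab) m).1, (negOne_withBase h2 (isReg_qfBin hab) m).2,
    (negOne_qfBin h2 hab).1, (negOne_qfBin h2 hab).2, ← (sgn_pow_iff hF hodd (m + 1)).2,
    pow_succ]
  rw [mul_neg, neg_eq_iff_eq_neg]
  simp

theorem not_negOne_mem_odd (h2 : (2 : F) ≠ 0) (m : ℕ) :
    negOne (withBase m (qfSq F)) ∉ commutator (orth (withBase m (qfSq F))) := by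
  intro h
  have hd := ((odd_main h2 (isReg_withBase isReg_qfSq m)).1 _).1 h
  rw [(negOne_withBase h2 isReg_qfSq m).1, detHom_negOne_qfSq] at hd
  exact h2 (by
    have := congrArg Units.val hd.1
    simp only [Units.val_neg, Units.val_one] at this
    linear_combination -this)

/-! ### Orders -/

theorem finrank_withBase_space [FiniteDimensional F W] (m : ℕ) :
    Module.finrank F ((Fin m ⊕ Fin m → F) × W) = 2 * m + Module.finrank F W := by
  rw [Module.finrank_prod, Module.finrank_fintype_fun_eq_card, Fintype.card_sum, Fintype.card_fin,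
    two_mul]

theorem exists_singular_withBase (m : ℕ) (hm : 1 ≤ m) (Q : QuadraticForm F W) :
    ∃ e : (Fin m ⊕ Fin m → F) × W, withBase m Q e = 0 ∧ e ≠ 0 := by
  classical
  refine ⟨(Pi.single (Sum.inl ⟨0, hm⟩) 1, 0), by simp [withBase_apply, quadFormPlus], fun h => ?_⟩
  have := congrFun (congrArg Prod.fst h) (Sum.inl ⟨0, hm⟩)
  simp at this

open scoped Classical in
theorem card_POmega_withBase [Finite W] [FiniteDimensional F W] {Q : QuadraticForm F W}
    (hQ : (polarBilin Q).Nondegenerate) (m : ℕ) (hm : 1 ≤ m)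
    (hn : 3 ≤ 2 * m + Module.finrank F W) (hexc : 2 * m + Module.finrank F W ≠ 4 ∨ (2 : F) ≠ 0)
    {ι : Type} [Fintype ι] [DecidableEq ι] (f : (ι → F) → F)
    (e : ((Fin m ⊕ Fin m → F) × W) ≃ₗ[F] (ι → F)) (h : ∀ x, f (e x) = withBase m Q x) :
    Nat.card (POmega F f) * (if (2 : F) = 0 then 2 else
      if negOne (withBase m Q) ∈ commutator (orth (withBase m Q)) then 8 else 4)
      = Nat.card (isometryGroup F f) := by
  have hnd := nondegenerate_withBase hQ m
  obtain ⟨v, hv, hv0⟩ := exists_singular_withBase m hm Q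
  have hn' : 3 ≤ Module.finrank F ((Fin m ⊕ Fin m → F) × W) := by rwa [finrank_withBase_space]
  rw [Nat.card_congr (stdIso (withBase m Q) f e h).toEquiv, ← card_POmega_mul (withBase m Q) f e h,
    card_center_commutator hnd hv hv0 hn', mul_assoc]
  congr 1
  by_cases h2 : (2 : F) = 0
  · obtain ⟨D, hD⟩ := exists_dickson h2 hnd
    rw [if_pos h2, if_neg (fun hc => hc.1 h2), one_mul,
      (even_main h2 hnd (Or.inr ?_) D hD).2.2 (by omega)]
    rw [finrank_withBase_space]
    exact hexc.resolve_right (not_not.2 h2)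
  · rw [if_neg h2, (odd_main h2 (isReg_of_nondegenerate hnd)).2 (by omega)]
    split_ifs <;> simp_all

end Cfsg.Agent.OrthUnitaryStd
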