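import Mathlib
import Cfsg.Agent.Lib.AutOrth45Api
import Cfsg.Agent.Lib.OrthUnitaryStd
import Cfsg.Agent.Lib.QuadClassify

/-!
The standard forms satisfy the hypotheses of the automorphism theorem.
-/

set_option autoImplicit false
set_option linter.unusedSectionVars false

namespace Cfsg.Agent.AutOrth45Forms

open QuadraticMap
open Cfsg.Agent.OrthUnitaryQuad
open Cfsg.Agent.OrthUnitaryOmega
open Cfsg.Agent.OrthUnitaryForms
open Cfsg.Agent.OrthUnitaryStd
open Cfsg.Agent.AutOrth45
open Cfsg.Agent.AutOrth45Api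

variable {F : Type*} [Field F] [Fintype F]

theorem nondegenerate_qOdd (h2 : (2 : F) ≠ 0) (m : ℕ) :
    (polarBilin (QuadClassify.qOdd m F)).Nondegenerate :=
  nondegenerate_congr (eqOdd m) (fun x => by rw [QuadClassify.qOdd_apply, eqOdd_isometry])
    (nondegenerate_withBase (nondegenerate_qfSq h2) m)

theorem nondegenerate_qPlus (m : ℕ) : (polarBilin (QuadClassify.qPlus m F)).Nondegenerate :=
  nondegenerate_congr (eqPlus m) (fun x => by rw [QuadClassify.qPlus_apply, eqPlus_isometry])
    (nondegenerate_withBase nondegenerate_qfNil m)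

theorem nondegenerate_qMinus {a b : F} (hab : IsAniso a b) (m : ℕ) :
    (polarBilin (QuadClassify.qMinus m F a b)).Nondegenerate :=
  nondegenerate_congr (eqMinus m) (fun x => by rw [QuadClassify.qMinus_apply, eqMinus_isometry])
    (nondegenerate_withBase (nondegenerate_qfBin hab) m)

theorem two_le_of_four {V : Type*} [AddCommGroup V] [Module F V] {Q : QuadraticForm F V}
    (hQ : (polarBilin Q).Nondegenerate) (hn : 7 ≤ Module.finrank F V) (h4 : HasFour Q) :
    8 ≤ Module.finrank F V := by
  by_contra hlt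
  obtain ⟨a, ha, hts⟩ := h4
  have hg : Good Q := ⟨hQ, hn, fun ⟨_, _, _⟩ => by
    exfalso
    have : FiniteDimensional F V := Module.finite_of_finrank_pos (by omega)
    let L : V →ₗ[F] (Fin 4 → F) := LinearMap.pi fun i => polarBilin Q (a i)
    let B : V →ₗ[F] Module.Dual F V := polarBilin Q
    have hinj : Function.Injective B := LinearMap.ker_eq_bot.1 (by
      rw [Submodule.eq_bot_iff]; exact fun x hx => hQ.1 x fun y => DFunLike.congr_fun hx y)
    have hle : Submodule.span F (Set.range a) ≤ LinearMap.ker L := by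
      rw [Submodule.span_le]
      rintro _ ⟨j, rfl⟩
      exact funext fun i => (hts i j).2
    have h1 := Submodule.finrank_mono hle
    rw [finrank_span_eq_card ha, Fintype.card_fin] at h1
    have h2 := LinearMap.finrank_range_add_finrank_ker L
    have hsurj : LinearMap.range L = ⊤ := by
      by_contra hne
      obtain ⟨φ, hφ0, hφ⟩ := Submodule.exists_le_ker_of_lt_top _ (lt_top_iff_ne_top.2 hne)
      apply hφ0
      have hsum : ∑ i, φ (Pi.single i 1) • a i = 0 := by
        refine hinj ?_
        rw [map_zero, map_sum]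
        refine LinearMap.ext fun x => ?_
        have hx : φ (L x) = 0 := hφ ⟨x, rfl⟩
        rw [pi_eq_sum_univ' (L x), map_sum] at hx
        rw [LinearMap.coe_sum, Finset.sum_apply, LinearMap.zero_apply, ← hx]
        refine Finset.sum_congr rfl fun i _ => ?_
        rw [map_smul, map_smul, LinearMap.smul_apply, smul_eq_mul, smul_eq_mul, mul_comm]
        rfl
      refine LinearMap.pi_ext' fun i => LinearMap.ext_ring ?_
      simpa using (Fintype.linearIndependent_iff.1 ha) _ hsum i
    rw [hsurj, finrank_top, Module.finrank_fin_fun] at h2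
    omega⟩
  have := hg.four ⟨a, ha, hts⟩
  omega

theorem good_odd (h2 : (2 : F) ≠ 0) {m : ℕ} (hm : 3 ≤ m) : Good (QuadClassify.qOdd m F) := by
  have hn : Module.finrank F (Unit ⊕ (Fin m ⊕ Fin m) → F) = 2 * m + 1 := by
    simp [Module.finrank_fintype_fun_eq_card]; omega
  refine ⟨nondegenerate_qOdd h2 m, by omega, fun h4 => ?_⟩
  have := two_le_of_four (nondegenerate_qOdd h2 m) (by omega) h4
  omega

theorem good_plus {m : ℕ} (hm : 5 ≤ m) : Good (QuadClassify.qPlus m F) := by
  have hn : Module.finrank F (Fin m ⊕ Fin m → F) = 2 * m := by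
    simp [Module.finrank_fintype_fun_eq_card]; omega
  exact ⟨nondegenerate_qPlus m, by omega, fun _ => by omega⟩

theorem good_minus {m : ℕ} (hm : 3 ≤ m) {a b : F} (hab : IsAniso a b) :
    Good (QuadClassify.qMinus m F a b) := by
  have hn : Module.finrank F ((Fin m ⊕ Fin m) ⊕ Fin 2 → F) = 2 * m + 2 := by
    simp [Module.finrank_fintype_fun_eq_card]; omega
  refine ⟨nondegenerate_qMinus hab m, by omega, fun h4 => ?_⟩
  by_contra hlt
  obtain rfl : m = 3 := by omega
  obtain ⟨v, hv, hts⟩ := h4
  set Q := QuadClassify.qMinus 3 F a b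
  let X : ((Fin 3 ⊕ Fin 3) ⊕ Fin 2 → F) →ₗ[F] (Fin 3 → F) :=
    LinearMap.funLeft F F fun i => Sum.inl (Sum.inl i)
  let Y : ((Fin 3 ⊕ Fin 3) ⊕ Fin 2 → F) →ₗ[F] (Fin 3 → F) :=
    LinearMap.funLeft F F fun i => Sum.inl (Sum.inr i)
  set S := Submodule.span F (Set.range v) with hS
  have hdim : Module.finrank F S = 4 := by rw [hS, finrank_span_eq_card hv, Fintype.card_fin]
  have hQS : ∀ s ∈ S, ∀ t ∈ S, Q s = 0 ∧ polar Q s t = 0 := by
    have h1 : ∀ i, ∀ t ∈ S, polar Q (v i) t = 0 := by
      intro i t ht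
      obtain ⟨c, rfl⟩ := (Submodule.mem_span_range_iff_exists_fun F).1 ht
      rw [← polarBilin_apply_apply, map_sum]
      exact Finset.sum_eq_zero fun j _ => by
        rw [map_smul, polarBilin_apply_apply, (hts i j).2, smul_zero]
    intro s hs
    induction hs using Submodule.span_induction with
    | mem x hx => obtain ⟨i, rfl⟩ := hx; exact fun t ht => ⟨(hts i i).1, h1 i t ht⟩
    | zero => intro t _; exact ⟨QuadraticMap.map_zero Q, polar_zero_left Q t⟩
    | add x y hx hy ihx ihy =>
      intro t ht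
      refine ⟨?_, by rw [polar_add_left, (ihx t ht).2, (ihy t ht).2, add_zero]⟩
      rw [QuadraticMap.map_add (⇑Q), (ihx y hy).1, (ihx y hy).2, (ihy y hy).1]; simp
    | smul c x hx ih =>
      intro t ht
      exact ⟨by rw [QuadraticMap.map_smul, (ih t ht).1, smul_zero],
        by rw [polar_smul_left, (ih t ht).2, smul_zero]⟩
  have hY0 : ∀ s ∈ S, X s = 0 → Y s = 0 → s = 0 := by
    intro s hs hX hY
    have hxs : ∀ i, s (Sum.inl (Sum.inl i)) = 0 := fun i => congrFun hX i
    have hys : ∀ i, s (Sum.inl (Sum.inr i)) = 0 := fun i => congrFun hY i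
    have h1 := (hQS s hs s hs).1
    rw [QuadClassify.qMinus_apply] at h1
    simp [quadFormMinus, hxs, hys] at h1
    obtain ⟨z0, z1⟩ := hab _ _ h1
    funext i
    rcases i with (i | i) | i
    · exact hxs i
    · exact hys i
    · fin_cases i
      exacts [z0, z1]
  set K := S ⊓ LinearMap.ker X with hK
  have hdot : ∀ s ∈ S, ∀ k ∈ K, ∑ i, X s i * Y k i = 0 := by
    intro s hs k hk
    have hxk : ∀ i, k (Sum.inl (Sum.inl i)) = 0 := fun i => congrFun hk.2 i
    have hzk : k (Sum.inr 0) = 0 ∧ k (Sum.inr 1) = 0 := by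
      have h1 := (hQS k hk.1 k hk.1).1
      rw [QuadClassify.qMinus_apply] at h1
      simp [quadFormMinus, hxk] at h1
      exact hab _ _ h1
    have h2 := (hQS s hs k hk.1).2
    rw [polar, QuadClassify.qMinus_apply, QuadClassify.qMinus_apply, QuadClassify.qMinus_apply]
      at h2
    simp [quadFormMinus, Pi.add_apply, hxk, hzk.1, hzk.2, mul_add, Finset.sum_add_distrib] at h2
    show ∑ i, s (Sum.inl (Sum.inl i)) * k (Sum.inl (Sum.inr i)) = 0
    linear_combination h2
  let B : (Fin 3 → F) →ₗ[F] Module.Dual F (Fin 3 → F) := LinearMap.mk₂ F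
    (fun x y => ∑ i, x i * y i) (fun x y z => by simp [add_mul, Finset.sum_add_distrib])
    (fun c x y => by simp [Finset.mul_sum, mul_assoc])
    (fun x y z => by simp [mul_add, Finset.sum_add_distrib])
    (fun c x y => by simp [Finset.mul_sum, mul_left_comm])
  have hBinj : Function.Injective B := LinearMap.ker_eq_bot.1 (by
    rw [Submodule.eq_bot_iff]
    intro x hx
    funext i
    simpa [B, Pi.single_apply] using DFunLike.congr_fun hx (Pi.single i 1))
  have hle : (S.map X).map B ≤ (K.map Y).dualAnnihilator := by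
    rintro _ ⟨_, ⟨s, hs, rfl⟩, rfl⟩
    rw [Submodule.mem_dualAnnihilator]
    rintro _ ⟨k, hk, rfl⟩
    exact hdot s hs k hk
  have h1 := Submodule.finrank_mono hle
  rw [(Submodule.equivMapOfInjective B hBinj (S.map X)).finrank_eq.symm] at h1
  have h2 := Subspace.finrank_add_finrank_dualAnnihilator_eq (K.map Y)
  rw [Module.finrank_fin_fun] at h2
  have hKY : Module.finrank F (K.map Y) = Module.finrank F K := by
    have h3 := LinearMap.finrank_range_add_finrank_ker (Y.domRestrict K)
    rw [LinearMap.range_domRestrict, show LinearMap.ker (Y.domRestrict K) = ⊥ by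
      rw [Submodule.eq_bot_iff]
      rintro ⟨k, hk⟩ hy
      exact Subtype.ext (hY0 k hk.1 hk.2 hy), finrank_bot, add_zero] at h3
    exact h3
  have h4 := LinearMap.finrank_range_add_finrank_ker (X.domRestrict S)
  rw [LinearMap.range_domRestrict, hdim] at h4
  have h5 : Module.finrank F (LinearMap.ker (X.domRestrict S)) = Module.finrank F K := by
    have e : LinearMap.ker (X.domRestrict S) ≃ₗ[F] K :=
      { toFun := fun x => ⟨x.1.1, x.1.2, x.2⟩
        invFun := fun x => ⟨⟨x.1, x.2.1⟩, x.2.2⟩
        map_add' := fun _ _ => rfl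
        map_smul' := fun _ _ => rfl
        left_inv := fun _ => rfl
        right_inv := fun _ => rfl }
    exact e.finrank_eq
  omega

theorem inv_odd (m : ℕ) : Inv (QuadClassify.qOdd m F) := by
  intro σ v
  simp [QuadClassify.qOdd_apply, quadFormOdd]

theorem inv_plus (m : ℕ) : Inv (QuadClassify.qPlus m F) := by
  intro σ v
  simp [QuadClassify.qPlus_apply, quadFormPlus]

end Cfsg.Agent.AutOrth45Forms
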