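import Mathlib
import Cfsg.Agent.Lib.OmegaGeo

/-!
Maximality in the commutator subgroup of the stabiliser of a totally singular subspace.
-/

set_option autoImplicit false

namespace Cfsg.Agent.OmegaStabSingular

open QuadraticMap Module
open Cfsg.Agent.OrthUnitaryQuad Cfsg.Agent.OrthUnitaryPrelude Cfsg.Agent.OmegaClasses
  Cfsg.Agent.OmegaGeo Cfsg.Agent.OrthUnitarySimple Cfsg.Agent.OrthUnitaryRefl

variable {F V : Type*} [Field F] [Fintype F] [AddCommGroup V] [Module F V] [FiniteDimensional F V]
  {Q : QuadraticForm F V}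

/-- `x` and `y` span lines in one orbit of `M`. -/
def Rel (M : Subgroup (orth Q)) (x y : V) : Prop := ∃ m ∈ M, ∃ c : F, c ≠ 0 ∧ m.1 x = c • y

omit [Fintype F] [FiniteDimensional F V] in
theorem Rel.refl' (M : Subgroup (orth Q)) (x : V) : Rel M x x :=
  ⟨1, M.one_mem, 1, one_ne_zero, by simp⟩

omit [Fintype F] [FiniteDimensional F V] in
theorem Rel.trans {M : Subgroup (orth Q)} {x y z : V} (h : Rel M x y) (h' : Rel M y z) :
    Rel M x z := by
  obtain ⟨m, hm, c, hc, hx⟩ := h
  obtain ⟨n, hn, d, hd, hy⟩ := h'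
  exact ⟨n * m, M.mul_mem hn hm, c * d, mul_ne_zero hc hd, by
    rw [orth_mul_apply, hx, map_smul, hy, smul_smul]⟩

omit [Fintype F] [FiniteDimensional F V] in
theorem Rel.symm {M : Subgroup (orth Q)} {x y : V} (h : Rel M x y) : Rel M y x := by
  obtain ⟨m, hm, c, hc, hx⟩ := h
  refine ⟨m⁻¹, M.inv_mem hm, c⁻¹, inv_ne_zero hc, m.1.injective ?_⟩
  rw [map_smul, hx, inv_smul_smul₀ hc]
  exact m.1.apply_symm_apply y

omit [Fintype F] [FiniteDimensional F V] in
/-- The Siegel map at `a` carrying one singular vector to another. -/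
theorem rel_of_common {M : Subgroup (orth Q)} {a u v : V} (ha : Q a = 0) (hu : Q u = 0)
    (hv : Q v = 0) (hau : polar Q a u ≠ 0) (hav : polar Q a v ≠ 0)
    (hmem : ∀ (w : V) (hw : polar Q a w = 0), w ∈ Submodule.span F {u, v} →
      siegel Q a w ha hw ∈ M) : Rel M u v := by
  set α := polar Q a u
  set β := polar Q a v
  set w := β⁻¹ • v - α⁻¹ • u with hw
  have haw : polar Q a w = 0 := by
    rw [hw, polar_sub_right, polar_smul_right, polar_smul_right]
    simp only [smul_eq_mul]
    rw [inv_mul_cancel₀ hav, inv_mul_cancel₀ hau, sub_self]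
  refine ⟨_, hmem w haw (Submodule.sub_mem _ (Submodule.smul_mem _ _ (Submodule.subset_span (by simp)))
    (Submodule.smul_mem _ _ (Submodule.subset_span (by simp)))), α / β, div_ne_zero hau hav, ?_⟩
  have hsum : polar Q w u + Q w * α = 0 := by
    rw [hw, sub_eq_add_neg, ← neg_smul, QuadraticMap.map_add (⇑Q), QuadraticMap.map_smul,
      QuadraticMap.map_smul, polar_add_left, polar_smul_left, polar_smul_left, polar_smul_right,
      polar_smul_left, polar_self_mul, hu, hv, polar_comm Q v u]
    simp only [smul_eq_mul]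
    field_simp
    ring
  rw [siegel_apply, hsum, zero_smul, sub_zero, hw, smul_sub, smul_smul, smul_smul,
    mul_inv_cancel₀ hau, one_smul, ← div_eq_mul_inv]
  abel

omit [Fintype F] [FiniteDimensional F V] in
theorem map_eq_of_forall {W : Submodule F V} [FiniteDimensional F W] {k : orth Q}
    (h : ∀ x ∈ W, k.1 x ∈ W) : W.map (k.1 : V →ₗ[F] V) = W := by
  refine Submodule.eq_of_le_of_finrank_eq ?_ (LinearEquiv.finrank_map_eq _ _)
  rintro _ ⟨x, hx, rfl⟩
  exact h x hx

omit [Fintype F] [FiniteDimensional F V] in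
/-- Siegel elements at a vector of `W` fix `W`. -/
theorem siegel_stab {W : Submodule F V} [FiniteDimensional F W] (hW : ∀ w ∈ W, Q w = 0) {a w : V}
    (haW : a ∈ W) (ha : Q a = 0) (hw : polar Q a w = 0) :
    W.map ((siegel Q a w ha hw).1 : V →ₗ[F] V) = W := by
  refine map_eq_of_forall fun x hx => ?_
  rw [siegel_apply, polar_of_sing hW haW hx]
  simp only [zero_smul, add_zero, mul_zero]
  exact W.sub_mem hx (W.smul_mem _ haW)

omit [Fintype F] [FiniteDimensional F V] in
/-- Siegel elements inside the orthogonal space of `W` fix it. -/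
theorem siegel_stab_perp {W : Submodule F V} [FiniteDimensional F W] {a w : V}
    (haW : ∀ x ∈ W, polar Q a x = 0) (hwW : ∀ x ∈ W, polar Q w x = 0) (ha : Q a = 0)
    (hw : polar Q a w = 0) : W.map ((siegel Q a w ha hw).1 : V →ₗ[F] V) = W := by
  refine map_eq_of_forall fun x hx => ?_
  rw [siegel_apply, haW x hx, hwW x hx]
  simpa using hx

/-- Outside `W` but orthogonal to it. -/
def Mid (Q : QuadraticForm F V) (W : Submodule F V) (u : V) : Prop :=
  Q u = 0 ∧ u ∈ LinearMap.BilinForm.orthogonal (polarBilin Q) W ∧ u ∉ W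

omit [Fintype F] [FiniteDimensional F V] in
theorem orth_mem_iff {W : Submodule F V} {u : V} :
    u ∈ LinearMap.BilinForm.orthogonal (polarBilin Q) W ↔ ∀ x ∈ W, polar Q x u = 0 := Iff.rfl

omit [Fintype F] in
theorem finrank_orth (hnd : (polarBilin Q).Nondegenerate) (W : Submodule F V) :
    finrank F (LinearMap.BilinForm.orthogonal (polarBilin Q) W) = finrank F V - finrank F W :=
  LinearMap.BilinForm.finrank_orthogonal hnd W

omit [Fintype F] in
theorem orth_orth (hnd : (polarBilin Q).Nondegenerate) (W : Submodule F V) :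
    LinearMap.BilinForm.orthogonal (polarBilin Q)
      (LinearMap.BilinForm.orthogonal (polarBilin Q) W) = W :=
  LinearMap.BilinForm.orthogonal_orthogonal hnd (fun x y h => (polar_comm _ y x).trans h) W

omit [Fintype F] in
/-- A vector of the orthogonal space outside `W` pairs non-trivially with some vector of it. -/
theorem exists_pair (hnd : (polarBilin Q).Nondegenerate) {W : Submodule F V} {u : V}
    (hu : u ∉ W) :
    ∃ y ∈ LinearMap.BilinForm.orthogonal (polarBilin Q) W, polar Q u y = 1 := by
  by_contra h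
  refine hu ?_
  rw [← orth_orth hnd W]
  intro y hy
  by_contra h0
  exact h ⟨(polar Q u y)⁻¹ • y, Submodule.smul_mem _ _ hy, by
    rw [polar_smul_right, smul_eq_mul, inv_mul_cancel₀]
    rw [polar_comm]; exact h0⟩

omit [Fintype F] in
/-- The part outside `W` of the orthogonal space spans it. -/
theorem span_mid (hnd : (polarBilin Q).Nondegenerate) {W : Submodule F V}
    (hW : ∀ w ∈ W, Q w = 0) {u : V} (hu : Mid Q W u) :
    LinearMap.BilinForm.orthogonal (polarBilin Q) W ≤ Submodule.span F {x | Mid Q W x} := by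
  set P := LinearMap.BilinForm.orthogonal (polarBilin Q) W
  set S := Submodule.span F {x | Mid Q W x}
  obtain ⟨hQu, huP, huW⟩ := hu
  have huS : u ∈ S := Submodule.subset_span ⟨hQu, huP, huW⟩
  obtain ⟨y, hy, huy⟩ := exists_pair hnd huW
  have hWP : W ≤ P := fun w hw => fun x hx => polar_of_sing hW hx hw
  have hmid : ∀ z ∈ P, Q z = 0 → polar Q u z ≠ 0 → z ∈ S := fun z hz hQz hne =>
    Submodule.subset_span ⟨hQz, hz, fun hzW => hne ((polar_comm _ u z).trans (huP z hzW))⟩
  set f := y - Q y • u with hf
  have hfP : f ∈ P := P.sub_mem hy (P.smul_mem _ huP)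
  have hQf : Q f = 0 := by
    rw [hf, sub_eq_add_neg, ← neg_smul, QuadraticMap.map_add (⇑Q), QuadraticMap.map_smul,
      polar_smul_right, polar_comm Q y u, huy, hQu]
    simp
  have huf : polar Q u f = 1 := by
    rw [hf, polar_sub_right, polar_smul_right, polar_self_mul, huy, hQu]; simp
  have hfS : f ∈ S := hmid f hfP hQf (by rw [huf]; exact one_ne_zero)
  intro z hz
  set z' := z - polar Q f z • u - polar Q u z • f with hz'
  have hz'P : z' ∈ P := P.sub_mem (P.sub_mem hz (P.smul_mem _ huP)) (P.smul_mem _ hfP)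
  have h1 : polar Q u z' = 0 := by
    rw [hz', polar_sub_right, polar_sub_right, polar_smul_right, polar_smul_right, polar_self_mul,
      huf, hQu]
    simp
  have h2 : polar Q f z' = 0 := by
    rw [hz', polar_sub_right, polar_sub_right, polar_smul_right, polar_smul_right, polar_self_mul,
      polar_comm Q f u, huf, hQf]
    simp
  have h3 : z' + f - Q z' • u ∈ S := by
    refine hmid _ (P.sub_mem (P.add_mem hz'P hfP) (P.smul_mem _ huP)) ?_ ?_
    · rw [sub_eq_add_neg, ← neg_smul, QuadraticMap.map_add (⇑Q), QuadraticMap.map_add (⇑Q) z',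
        QuadraticMap.map_smul, polar_add_left, polar_smul_right, polar_smul_right,
        polar_comm Q z' u, polar_comm Q z' f, polar_comm Q f u, h1, h2, huf, hQu, hQf]
      simp
    · rw [polar_sub_right, polar_add_right, polar_smul_right, polar_self_mul, h1, huf, hQu]
      simp
  have : z' ∈ S := by
    have := S.add_mem (S.sub_mem h3 hfS) (S.smul_mem (Q z') huS)
    rwa [show z' + f - Q z' • u - f + Q z' • u = z' by abel] at this
  rw [show z = z' + polar Q f z • u + polar Q u z • f by rw [hz']; abel]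
  exact S.add_mem (S.add_mem this (S.smul_mem _ huS)) (S.smul_mem _ hfS)

omit [Fintype F] in
/-- A singular vector pairing with two given ones. -/
theorem exists_common (hnd : (polarBilin Q).Nondegenerate) {W : Submodule F V}
    (hd : 2 * finrank F W + 3 ≤ finrank F V) {u v : V} (hu : Mid Q W u)
    (hv : Mid Q W v) :
    ∃ a ∈ LinearMap.BilinForm.orthogonal (polarBilin Q) W,
      Q a = 0 ∧ polar Q a u ≠ 0 ∧ polar Q a v ≠ 0 := by
  set P := LinearMap.BilinForm.orthogonal (polarBilin Q) W with hP
  have hvu : polar Q v u = polar Q u v := polar_comm _ _ _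
  by_cases huv : polar Q u v = 0
  · obtain ⟨y, hy, hyu, hyv⟩ : ∃ y ∈ P, polar Q u y ≠ 0 ∧ polar Q v y ≠ 0 := by
      obtain ⟨y₁, hy₁, h1⟩ := exists_pair hnd hu.2.2
      obtain ⟨y₂, hy₂, h2⟩ := exists_pair hnd hv.2.2
      by_cases h1' : polar Q v y₁ = 0
      · by_cases h2' : polar Q u y₂ = 0
        · exact ⟨y₁ + y₂, P.add_mem hy₁ hy₂, by simp [polar_add_right, h1, h2'],
            by simp [polar_add_right, h1', h2]⟩
        · exact ⟨y₂, hy₂, h2', by simp [h2]⟩
      · exact ⟨y₁, hy₁, by simp [h1], h1'⟩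
    refine ⟨y - ((Q y) * (polar Q u y)⁻¹) • u, P.sub_mem hy (P.smul_mem _ hu.2.1), ?_, ?_, ?_⟩
    · rw [sub_eq_add_neg, ← neg_smul, QuadraticMap.map_add (⇑Q), QuadraticMap.map_smul,
        polar_smul_right, polar_comm Q y u, hu.1]
      simp [inv_mul_cancel_right₀ hyu]
    · rw [polar_sub_left, polar_smul_left, polar_self_mul, hu.1, polar_comm Q y u]
      simpa using hyu
    · rw [polar_sub_left, polar_smul_left, huv, polar_comm Q y v]
      simpa using hyv
  · set S := Submodule.span F {u, v}
    have hSP : S ≤ P := Submodule.span_le.2 (by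
      rintro x (rfl | rfl)
      · exact hu.2.1
      · exact hv.2.1)
    set T := P ⊓ LinearMap.BilinForm.orthogonal (polarBilin Q) S with hT
    obtain ⟨y, hy, hQy⟩ : ∃ y ∈ T, Q y ≠ 0 := by
      by_contra h
      push Not at h
      have hsing : ∀ x ∈ T, ∀ z ∈ T, polar Q x z = 0 := fun x hx z hz => polar_of_sing h hx hz
      have hTW : T ≤ W := by
        intro x hx
        rw [← orth_orth hnd W]
        intro z hz
        show polar Q z x = 0
        set c := polar Q u v
        set z' := z - (polar Q v z / c) • u - (polar Q u z / c) • v with hz'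
        have hz'T : z' ∈ T := by
          refine ⟨P.sub_mem (P.sub_mem hz (P.smul_mem _ hu.2.1)) (P.smul_mem _ hv.2.1), fun s hs => ?_⟩
          obtain ⟨p, q, rfl⟩ := Submodule.mem_span_pair.1 hs
          show polar Q (p • u + q • v) z' = 0
          rw [hz', polar_sub_right, polar_sub_right, polar_smul_right, polar_smul_right,
            polar_add_left, polar_add_left, polar_add_left, polar_smul_left, polar_smul_left,
            polar_smul_left, polar_smul_left, polar_smul_left, polar_smul_left, polar_self_mul,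
            polar_self_mul, hu.1, hv.1, hvu]
          simp only [smul_eq_mul]
          field_simp
          ring
        have hxu : polar Q u x = 0 := hx.2 u (Submodule.subset_span (by simp))
        have hxv : polar Q v x = 0 := hx.2 v (Submodule.subset_span (by simp))
        have := hsing z' hz'T x hx
        rw [hz', polar_sub_left, polar_sub_left, polar_smul_left, polar_smul_left, hxu, hxv] at this
        simpa using this
      have h2 := Submodule.finrank_mono hTW
      have h3 := Submodule.finrank_sup_add_finrank_inf_eq P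
        (LinearMap.BilinForm.orthogonal (polarBilin Q) S)
      have h4 := Submodule.finrank_le (P ⊔ LinearMap.BilinForm.orthogonal (polarBilin Q) S)
      rw [finrank_orth hnd, finrank_orth hnd, ← hT] at h3
      have h5 : finrank F S ≤ 2 := by
        classical
        have := finrank_span_finset_le_card (R := F) (({u, v} : Finset V))
        rw [Finset.coe_pair] at this
        exact this.trans Finset.card_le_two
      omega
    have hyu : polar Q u y = 0 := hy.2 u (Submodule.subset_span (by simp))
    have hyv : polar Q v y = 0 := hy.2 v (Submodule.subset_span (by simp))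
    refine ⟨u + (-(Q y) / polar Q u v) • v + y, P.add_mem (P.add_mem hu.2.1 (P.smul_mem _ hv.2.1)) hy.1,
      ?_, ?_, ?_⟩
    · rw [QuadraticMap.map_add (⇑Q), QuadraticMap.map_add (⇑Q) u, QuadraticMap.map_smul,
        polar_add_left, polar_smul_left, polar_smul_right, hyu, hyv, hu.1, hv.1]
      simp [div_mul_cancel₀ _ huv]
    · rw [polar_add_left, polar_add_left, polar_smul_left, polar_self_mul, hu.1, polar_comm Q y u,
        hyu, hvu]
      simp [div_mul_cancel₀ _ huv, hQy]
    · rw [polar_add_left, polar_add_left, polar_smul_left, polar_self_mul, hv.1, polar_comm Q y v,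
        hyv]
      simpa using huv

/-- The stabiliser of a totally singular subspace is maximal. -/
theorem commutator_le (hnd : (polarBilin Q).Nondegenerate) (hn : 5 ≤ finrank F V)
    {W : Submodule F V} (hW : ∀ w ∈ W, Q w = 0)
    (hd : ∀ U, Lagr Q U → 2 * (finrank F W + 1) ≠ finrank F V)
    (M : Subgroup (orth Q))
    (hH : ∀ k ∈ commutator (orth Q), W.map (k.1 : V →ₗ[F] V) = W → k ∈ M)
    {g : orth Q} (hg : g ∈ M) (hgW : W.map (g.1 : V →ₗ[F] V) ≠ W) :
    commutator (orth Q) ≤ M := by
  set P := LinearMap.BilinForm.orthogonal (polarBilin Q) W with hP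
  have hSie : ∀ (a w : V) (ha : Q a = 0) (hw : polar Q a w = 0),
      siegel Q a w ha hw ∈ commutator (orth Q) := fun a w ha hw =>
    sGroup_le_commutator hnd hn (siegel_mem hnd hn ha hw)
  have hWP : W ≤ P := fun w hw x hx => polar_of_sing hW hx hw
  -- the three kinds of singular points
  have r1 : ∀ x ∈ W, x ≠ 0 → ∀ y ∈ W, y ≠ 0 → Rel M x y := by
    intro x hx hx0 y hy hy0
    obtain ⟨a, ha, hax, hay⟩ : ∃ a, Q a = 0 ∧ polar Q a x ≠ 0 ∧ polar Q a y ≠ 0 := by
      have key : ∀ z ∈ W, z ≠ 0 → ∃ f, Q f = 0 ∧ polar Q f z ≠ 0 := fun z hz hz0 => by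
        obtain ⟨f, hf, hzf, -⟩ := exists_sing_dual hnd (S := ⊥) (hW z hz)
          (fun h => hz0 ((Submodule.mem_bot F).1 h)) (fun s hs => by
            rw [(Submodule.mem_bot F).1 hs]; simp)
        exact ⟨f, hf, by rw [polar_comm, hzf]; exact one_ne_zero⟩
      by_cases hsp : y ∈ Submodule.span F {x}
      · obtain ⟨c, rfl⟩ := Submodule.mem_span_singleton.1 hsp
        obtain ⟨f, hf, hfx⟩ := key x hx hx0
        exact ⟨f, hf, hfx, by
          rw [polar_smul_right]
          exact smul_ne_zero (fun h => hy0 (by rw [h, zero_smul])) hfx⟩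
      · obtain ⟨f, hf, hyf, hxf⟩ := exists_sing_dual hnd (S := Submodule.span F {x}) (hW y hy) hsp
          (fun s hs => polar_of_sing hW ((Submodule.span_singleton_le_iff_mem _ _).2 hx hs) hy)
        obtain ⟨f', hf', hxf', hyf'⟩ := exists_sing_dual hnd (S := Submodule.span F {y}) (hW x hx)
          (fun h => by
            obtain ⟨c, rfl⟩ := Submodule.mem_span_singleton.1 h
            rcases eq_or_ne c 0 with rfl | hc
            · exact hx0 (zero_smul _ _)
            · exact hsp (Submodule.mem_span_singleton.2 ⟨c⁻¹, by rw [smul_smul, inv_mul_cancel₀ hc, one_smul]⟩))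
          (fun s hs => polar_of_sing hW ((Submodule.span_singleton_le_iff_mem _ _).2 hy hs) hx)
        have e1 : polar Q x f = 0 := hxf x (Submodule.mem_span_singleton_self x)
        have e2 : polar Q y f' = 0 := hyf' y (Submodule.mem_span_singleton_self y)
        refine ⟨f + f' - polar Q f f' • x, ?_, ?_, ?_⟩
        · rw [sub_eq_add_neg, ← neg_smul, QuadraticMap.map_add (⇑Q), QuadraticMap.map_add (⇑Q) f,
            QuadraticMap.map_smul, polar_add_left, polar_smul_right, polar_smul_right, hf, hf',
            hW x hx, polar_comm Q f x, e1, polar_comm Q f' x, hxf']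
          simp
        · rw [polar_sub_left, polar_add_left, polar_smul_left, polar_comm Q f x, e1,
            polar_comm Q f' x, hxf', polar_of_sing hW hx hx]
          simp
        · rw [polar_sub_left, polar_add_left, polar_smul_left, polar_comm Q f y, hyf,
            polar_comm Q f' y, e2, polar_of_sing hW hx hy]
          simp
    refine rel_of_common ha (hW x hx) (hW y hy) hax hay fun w hw hwS => hH _ (hSie _ _ _ _) ?_
    have hwW : w ∈ W := (Submodule.span_le.2 (by
      rintro z (rfl | rfl)
      · exact hx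
      · exact hy)) hwS
    refine map_eq_of_forall fun z hz => ?_
    rw [siegel_apply, polar_of_sing hW hwW hz, hW w hwW]
    simp only [zero_mul, add_zero, zero_smul, sub_zero]
    exact W.add_mem hz (W.smul_mem _ hwW)
  have r3 : ∀ x y, Q x = 0 → x ∉ P → Q y = 0 → y ∉ P → Rel M x y := by
    intro x y hQx hx hQy hy
    obtain ⟨a, haW, hax, hay⟩ : ∃ a ∈ W, polar Q a x ≠ 0 ∧ polar Q a y ≠ 0 := by
      rw [hP, orth_mem_iff] at hx hy
      push Not at hx hy
      obtain ⟨a, ha, hax⟩ := hx
      obtain ⟨b, hb, hby⟩ := hy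
      by_cases h1 : polar Q a y = 0
      · by_cases h2 : polar Q b x = 0
        · exact ⟨a + b, W.add_mem ha hb, by simp [polar_add_left, hax, h2],
            by simp [polar_add_left, h1, hby]⟩
        · exact ⟨b, hb, h2, hby⟩
      · exact ⟨a, ha, hax, h1⟩
    exact rel_of_common (hW a haW) hQx hQy hax hay fun w hw _ =>
      hH _ (hSie _ _ _ _) (siegel_stab hW haW _ _)
  have hdim : ∀ u, Mid Q W u → 2 * finrank F W + 3 ≤ finrank F V := by
    rintro u ⟨hQu, huP, huW⟩
    have hsing : ∀ z ∈ W ⊔ Submodule.span F {u}, Q z = 0 := by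
      intro z hz
      obtain ⟨w, hw, z', hz', rfl⟩ := Submodule.mem_sup.1 hz
      obtain ⟨c, rfl⟩ := Submodule.mem_span_singleton.1 hz'
      rw [QuadraticMap.map_add (⇑Q), hW w hw, QuadraticMap.map_smul, hQu, polar_smul_right,
        show polar Q w u = 0 from huP w hw]
      simp
    have h1 := two_finrank_le hnd hsing
    have h2 : finrank F W < finrank F ↥(W ⊔ Submodule.span F {u}) :=
      Submodule.finrank_lt_finrank_of_lt (lt_of_le_of_ne le_sup_left fun he => huW (by
        rw [he]; exact Submodule.mem_sup_right (Submodule.mem_span_singleton_self u)))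
    by_contra h3
    have h4 : Lagr Q (W ⊔ Submodule.span F {u}) ∨ 2 * (finrank F W + 1) + 1 ≤ finrank F V := by
      rcases Nat.lt_or_ge (2 * (finrank F W + 1)) (finrank F V) with h5 | h5
      · exact Or.inr h5
      · exact Or.inl ⟨hsing, by omega⟩
    rcases h4 with h4 | h4
    · exact hd _ h4 (by have := h4.2; omega)
    · omega
  have r2 : ∀ x y, Mid Q W x → Mid Q W y → Rel M x y := by
    intro x y hx hy
    obtain ⟨a, haP, ha, hax, hay⟩ := exists_common hnd (hdim x hx) hx hy
    refine rel_of_common ha hx.1 hy.1 hax hay fun w hw hwS => hH _ (hSie _ _ _ _) ?_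
    refine siegel_stab_perp (fun z hz => (polar_comm _ a z).trans (haP z hz))
      (fun z hz => (polar_comm _ w z).trans ?_) _ _
    have : w ∈ P := (Submodule.span_le.2 (by
      rintro t (rfl | rfl)
      · exact hx.2.1
      · exact hy.2.1)) hwS
    exact this z hz
  -- join them
  have hgsing : ∀ x, Q x = 0 → Q (g.1 x) = 0 := fun x hx => (map_orth g x).trans hx
  have hgrel : ∀ x, Rel M x (g.1 x) := fun x => ⟨g, hg, 1, one_ne_zero, (one_smul _ _).symm⟩
  have hgP : ¬ ∀ x ∈ P, g.1 x ∈ P := by
    intro h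
    refine hgW (map_eq_of_forall fun x hx => ?_)
    rw [← orth_orth hnd W, ← hP]
    intro y hy
    show polar Q y (g.1 x) = 0
    have hPg : P.map (g.1 : V →ₗ[F] V) = P := map_eq_of_forall h
    rw [← hPg] at hy
    obtain ⟨z, hz, rfl⟩ := hy
    rw [LinearEquiv.coe_coe, polar_orth g, polar_comm]
    exact hz x hx
  obtain ⟨w₀, hw₀, hw₀'⟩ : ∃ w ∈ W, g.1 w ∉ W := by
    by_contra h
    push Not at h
    exact hgW (map_eq_of_forall h)
  have hw₀0 : w₀ ≠ 0 := fun h => hw₀' (by rw [h, map_zero]; exact W.zero_mem)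
  have hspan : ∀ u, Mid Q W u → ∃ x, Mid Q W x ∧ g.1 x ∉ P := by
    intro u hu
    by_contra h
    push Not at h
    refine hgP fun z hz => ?_
    have := Submodule.mem_map_of_mem (f := (g.1 : V →ₗ[F] V)) (span_mid hnd hW hu hz)
    rw [Submodule.map_span] at this
    exact (Submodule.span_le.2 (by rintro _ ⟨x, hx, rfl⟩; exact h x hx)) this
  have hall : ∀ x, Q x = 0 → x ≠ 0 → Rel M x w₀ := by
    have hout : ∀ y, Q y = 0 → y ∉ P → Rel M y w₀ → ∀ x, Q x = 0 → x ∉ P → Rel M x w₀ :=
      fun y hy hyP hr x hx hxP => (r3 x y hx hxP hy hyP).trans hr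
    intro x hx hx0
    by_cases hxW : x ∈ W
    · exact r1 x hxW hx0 w₀ hw₀ hw₀0
    have hr0 : Rel M (g.1 w₀) w₀ := (hgrel w₀).symm
    by_cases hgP0 : g.1 w₀ ∈ P
    · have hmid0 : Mid Q W (g.1 w₀) := ⟨hgsing _ (hW _ hw₀), hgP0, hw₀'⟩
      by_cases hxP : x ∈ P
      · exact (r2 x _ ⟨hx, hxP, hxW⟩ hmid0).trans hr0
      · obtain ⟨z, hz, hzP⟩ := hspan _ hmid0
        exact hout _ (hgsing _ hz.1) hzP ((hgrel z).symm.trans ((r2 z _ hz hmid0).trans hr0)) x hx hxP
    · by_cases hxP : x ∈ P
      · obtain ⟨z, hz, hzP⟩ := hspan x ⟨hx, hxP, hxW⟩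
        exact (r2 x z ⟨hx, hxP, hxW⟩ hz).trans ((hgrel z).trans
          ((r3 _ _ (hgsing _ hz.1) hzP (hgsing _ (hW _ hw₀)) hgP0).trans hr0))
      · exact hout _ (hgsing _ (hW _ hw₀)) hgP0 hr0 x hx hxP
  rw [commutator_eq_sGroup hnd hn, sGroup, Subgroup.closure_le]
  rintro _ ⟨u, w, hu, hw, -, rfl⟩
  by_cases hu0 : u = 0
  · subst hu0
    rw [siegel_zero_left]
    exact M.one_mem
  obtain ⟨m, hm, c, -, hmu⟩ := hall u hu hu0
  have hmem : siegel Q (m.1 u) (m.1 w) (by rw [map_orth m, hu]) (by rw [polar_orth m, hw]) ∈ M :=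
    hH _ (hSie _ _ _ _) (siegel_stab hW (by rw [hmu]; exact W.smul_mem _ hw₀) _ _)
  rw [← conj_siegel m u w hu hw] at hmem
  rwa [Subgroup.mul_mem_cancel_right _ (M.inv_mem hm), Subgroup.mul_mem_cancel_left _ hm] at hmem

/-- Some element of the commutator subgroup moves a totally singular subspace. -/
theorem exists_move (hnd : (polarBilin Q).Nondegenerate) (hn : 5 ≤ finrank F V)
    {W : Submodule F V} (hW0 : W ≠ ⊥) (hW : ∀ w ∈ W, Q w = 0) :
    ∃ k ∈ commutator (orth Q), W.map (k.1 : V →ₗ[F] V) ≠ W := by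
  obtain ⟨w, hw, hw0⟩ := Submodule.exists_mem_ne_zero_of_ne_bot hW0
  obtain ⟨f, hf, hwf, -⟩ := exists_sing_dual hnd (S := ⊥) (hW w hw)
    (fun h => hw0 ((Submodule.mem_bot F).1 h)) (fun s hs => by
      rw [(Submodule.mem_bot F).1 hs]; simp)
  by_contra h
  push Not at h
  set K := LinearMap.BilinForm.orthogonal (polarBilin Q) (Submodule.span F {f})
  have hle : K ≤ W ⊔ Submodule.span F {f} := by
    intro y hy
    have hfy : polar Q f y = 0 := hy f (Submodule.mem_span_singleton_self f)
    have hst := h _ (sGroup_le_commutator hnd hn (siegel_mem hnd hn hf hfy))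
    have hmem : (siegel Q f y hf hfy).1 w ∈ W := hst ▸ Submodule.mem_map_of_mem hw
    rw [siegel_apply, polar_comm Q f w, hwf, one_smul, mul_one] at hmem
    rw [show y = (w + y - (polar Q y w + Q y) • f) - w + (polar Q y w + Q y) • f by abel]
    exact Submodule.add_mem _ (Submodule.mem_sup_left (W.sub_mem hmem hw))
      (Submodule.mem_sup_right (Submodule.smul_mem _ _ (Submodule.mem_span_singleton_self f)))
  have h1 := Submodule.finrank_mono hle
  rw [finrank_orth hnd] at h1
  have h2 := Submodule.finrank_add_le_finrank_add_finrank W (Submodule.span F {f})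
  have h3 := two_finrank_le hnd hW
  have h4 : finrank F (Submodule.span F {f}) ≤ 1 := by
    classical
    have := finrank_span_finset_le_card (R := F) (({f} : Finset V))
    rwa [Finset.coe_singleton, Finset.card_singleton] at this
  omega

end Cfsg.Agent.OmegaStabSingular
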