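import Mathlib
import Cfsg.Agent.Lib.OmegaStabSingular

/-!
Full unipotent radicals generate; elements adjusting inside a non-degenerate subspace.
-/

set_option autoImplicit false

namespace Cfsg.Agent.OmegaStabTools

open QuadraticMap Module
open Cfsg.Agent.OrthUnitaryQuad Cfsg.Agent.OrthUnitaryPrelude Cfsg.Agent.OrthUnitaryRefl
  Cfsg.Agent.OmegaClasses Cfsg.Agent.OmegaGeo Cfsg.Agent.OrthUnitarySimple
  Cfsg.Agent.OmegaStabSingular
open Cfsg.Agent.QuadClassify (Nondeg Aniso exists_partner pair_complement)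

variable {F V : Type*} [Field F] [AddCommGroup V] [Module F V] {Q : QuadraticForm F V}

/-- All Siegel elements at `u` lie in `M`. -/
def Full (M : Subgroup (orth Q)) (u : V) : Prop :=
  ∀ (w : V) (hu : Q u = 0) (hw : polar Q u w = 0), siegel Q u w hu hw ∈ M

theorem Full.of_mem {M : Subgroup (orth Q)} {u : V} (h : Full M u) {k : orth Q} (hk : k ∈ M) :
    Full M (k.1 u) := by
  intro w hu hw
  obtain ⟨w', rfl⟩ := k.1.surjective w
  rw [← conj_siegel k u w' (by rwa [map_orth k] at hu) (by rwa [polar_orth k] at hw)]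
  exact M.mul_mem (M.mul_mem hk (h _ _ _)) (M.inv_mem hk)

variable [Fintype F] [FiniteDimensional F V]

omit [Fintype F] in
/-- Two full radicals at non-orthogonal singular vectors generate. -/
theorem commutator_le_of_full [Finite F] (hnd : (polarBilin Q).Nondegenerate)
    (hn : 5 ≤ finrank F V) {M : Subgroup (orth Q)} {u f : V} (hu : Q u = 0) (hf : Q f = 0)
    (huf : polar Q u f ≠ 0) (hU : Full M u) (hF : Full M f) : commutator (orth Q) ≤ M := by
  cases nonempty_fintype F
  have hviaU : ∀ x y, Q x = 0 → Q y = 0 → polar Q u x ≠ 0 → polar Q u y ≠ 0 → Rel M x y :=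
    fun x y hx hy h1 h2 => rel_of_common hu hx hy h1 h2 fun w hw _ => hU w hu hw
  have hviaF : ∀ x y, Q x = 0 → Q y = 0 → polar Q f x ≠ 0 → polar Q f y ≠ 0 → Rel M x y :=
    fun x y hx hy h1 h2 => rel_of_common hf hx hy h1 h2 fun w hw _ => hF w hf hw
  have hfu : polar Q f u ≠ 0 := by rwa [polar_comm]
  -- u and f are related
  obtain ⟨y, hy, hQy⟩ : ∃ y ∈ LinearMap.BilinForm.orthogonal (polarBilin Q)
      (Submodule.span F {u, f}), Q y ≠ 0 := by
    by_contra h
    push Not at h
    have h1 := two_finrank_le hnd h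
    rw [finrank_orth hnd] at h1
    have h2 : finrank F (Submodule.span F {u, f}) ≤ 2 := by
      classical
      have := finrank_span_finset_le_card (R := F) (({u, f} : Finset V))
      rw [Finset.coe_pair] at this
      exact this.trans Finset.card_le_two
    omega
  have hyu : polar Q u y = 0 := hy u (Submodule.subset_span (by simp))
  have hyf : polar Q f y = 0 := hy f (Submodule.subset_span (by simp))
  have huf' : Rel M u f := by
    set z := u + (-(Q y) / polar Q u f) • f + y with hz
    have hQz : Q z = 0 := by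
      rw [hz, QuadraticMap.map_add (⇑Q), QuadraticMap.map_add (⇑Q) u, QuadraticMap.map_smul,
        polar_add_left, polar_smul_left, polar_smul_right, hyu, hyf, hu, hf]
      simp [div_mul_cancel₀ _ huf]
    have h1 : polar Q u z ≠ 0 := by
      rw [hz, polar_add_right, polar_add_right, polar_smul_right, polar_self_mul, hu, hyu]
      simp [div_mul_cancel₀ _ huf, hQy]
    have h2 : polar Q f z ≠ 0 := by
      rw [hz, polar_add_right, polar_add_right, polar_smul_right, polar_self_mul, hf, hyf]
      simpa using hfu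
    exact (hviaF u z hu hQz hfu h2).trans (hviaU z f hQz hf h1 huf)
  have hall : ∀ x, Q x = 0 → x ≠ 0 → Rel M x u := by
    intro x hx hx0
    by_cases h2 : polar Q f x = 0
    · by_cases h1 : polar Q u x = 0
      · by_cases hxu : x ∈ Submodule.span F {u}
        · obtain ⟨c, rfl⟩ := Submodule.mem_span_singleton.1 hxu
          exact ⟨1, M.one_mem, c, fun h => hx0 (by rw [h, zero_smul]), by simp⟩
        obtain ⟨w, hw, hxw⟩ := exists_pair hnd hxu
        have huw : polar Q u w = 0 := hw u (Submodule.mem_span_singleton_self u)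
        set k := siegel Q u w hu huw
        have hkx : polar Q f (k.1 x) ≠ 0 := by
          rw [siegel_apply, h1, polar_sub_right, polar_add_right, zero_smul, polar_zero_right, h2,
            polar_smul_right, polar_comm Q w x, hxw]
          simpa using hfu
        have hr : Rel M x (k.1 x) := ⟨k, hU w hu huw, 1, one_ne_zero, (one_smul _ _).symm⟩
        exact hr.trans (hviaF _ u (by rw [map_orth k, hx]) hu hkx hfu)
      · exact (hviaU x f hx hf h1 huf).trans huf'.symm
    · exact hviaF x u hx hu h2 hfu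
  rw [commutator_eq_sGroup hnd hn, sGroup, Subgroup.closure_le]
  rintro _ ⟨x, w, hx, hw, -, rfl⟩
  by_cases hx0 : x = 0
  · subst hx0
    rw [siegel_zero_left]
    exact M.one_mem
  obtain ⟨m, hm, c, hc, hmx⟩ := hall x hx hx0
  have hQc : Q (c • u) = 0 := by rw [QuadraticMap.map_smul, hu, smul_zero]
  have hpol : polar Q (c • u) (m.1 w) = 0 := by rw [← hmx, polar_orth m, hw]
  have hmem : siegel Q (c • u) (m.1 w) hQc hpol ∈ M := by
    have hp' : polar Q u (c • m.1 w) = 0 := by
      rw [polar_smul_right, ← polar_smul_left, hpol]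
    rw [siegel_scale hQc hpol hu hp']
    exact hU _ _ _
  have hc' := conj_siegel m x w hx hw
  have : m * siegel Q x w hx hw * m⁻¹ ∈ M := by
    rw [hc']
    simp only [hmx]
    exact hmem
  rwa [Subgroup.mul_mem_cancel_right _ (M.inv_mem hm), Subgroup.mul_mem_cancel_left _ hm] at this

omit [Fintype F] [FiniteDimensional F V] in
/-- Products of reflections in vectors of `S` respect `S` and fix its orthogonal space. -/
theorem rprod_mem_of_forall {S : Submodule F V} {vs : List V} (hvs : NS Q vs)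
    (hS : ∀ v ∈ vs, v ∈ S) {x : V} (hx : x ∈ S) : (rprod Q vs).1 x ∈ S := by
  induction vs with
  | nil => exact hx
  | cons v vs ih =>
    rw [rprod_cons hvs.head, orth_mul_apply, refl_apply]
    exact S.sub_mem (ih hvs.tail fun w hw => hS w (List.mem_cons_of_mem _ hw))
      (S.smul_mem _ (hS v (by simp)))

omit [FiniteDimensional F V] in
/-- Scaling one singular vector and exchanging it with its partner, inside `S`. -/
theorem exists_torus_swap [FiniteDimensional F V] (hnd : (polarBilin Q).Nondegenerate)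
    (hn : 5 ≤ finrank F V) {S : Submodule F V} {u f e₂ f₂ : V}
    (huS : u ∈ S) (hfS : f ∈ S) (heS : e₂ ∈ S) (hf₂S : f₂ ∈ S)
    (hu : Q u = 0) (hf : Q f = 0) (huf : polar Q u f = 1) (he₂ : Q e₂ = 0) (hf₂ : Q f₂ = 0)
    (hef₂ : polar Q e₂ f₂ = 1) (hue : polar Q u e₂ = 0) (huf₂ : polar Q u f₂ = 0)
    (hfe : polar Q f e₂ = 0) (hff₂ : polar Q f f₂ = 0) :
    (∀ c : F, c ≠ 0 → ∃ k ∈ commutator (orth Q), k.1 u = c • u ∧ (∀ x ∈ S, k.1 x ∈ S) ∧
      ∀ x, (∀ s ∈ S, polar Q s x = 0) → k.1 x = x) ∧
    ∃ k ∈ commutator (orth Q), k.1 u = f ∧ (∀ x ∈ S, k.1 x ∈ S) ∧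
      ∀ x, (∀ s ∈ S, polar Q s x = 0) → k.1 x = x := by
  have hexc : Fintype.card F ≠ 2 ∨ finrank F V ≠ 4 := Or.inr (by omega)
  refine ⟨fun c hc => ?_, ?_⟩
  · obtain ⟨h₁, p₁, a₁⟩ := scale_apply hu hf huf hc
    obtain ⟨h₂, p₂, a₂⟩ := scale_apply he₂ hf₂ hef₂ hc
    have hns := h₁.append h₂
    have hmem : ∀ v ∈ [u - f, u - c • f] ++ [e₂ - f₂, e₂ - c • f₂], v ∈ S := by
      intro v hv
      simp only [List.cons_append, List.nil_append, List.mem_cons, List.not_mem_nil, or_false] at hv
      rcases hv with rfl | rfl | rfl | rfl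
      · exact S.sub_mem huS hfS
      · exact S.sub_mem huS (S.smul_mem _ hfS)
      · exact S.sub_mem heS hf₂S
      · exact S.sub_mem heS (S.smul_mem _ hf₂S)
    refine ⟨rprod Q _, (rprod_mem_iff hnd hexc hns).2 ⟨⟨2, rfl⟩, c, ?_⟩, ?_,
      fun x hx => rprod_mem_of_forall hns hmem hx,
      fun x hx => rprod_fix hns fun v hv => hx v (hmem v hv)⟩
    · rw [List.map_append, List.prod_append, p₁, p₂]
    · rw [rprod_append, orth_mul_apply, a₂, polar_comm Q f₂ u, huf₂, polar_comm Q e₂ u, hue]
      simp only [mul_zero, zero_smul, add_zero]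
      rw [a₁, polar_comm Q f u, huf, polar_self_mul, hu]
      simp [sub_smul]
  · have hH : QuadClassify.Hyp Q ![u, e₂] ![f, f₂] := by
      refine ⟨?_, ?_, ?_, ?_, ?_⟩
      · simp [Fin.forall_fin_two, hu, he₂]
      · simp [Fin.forall_fin_two, hf, hf₂]
      · simp [Fin.forall_fin_two, huf, huf₂, hef₂, polar_comm Q e₂ f, hfe]
      · simp [Fin.forall_fin_two, polar_self_mul, hu, he₂, hue, polar_comm Q e₂ u]
      · simp [Fin.forall_fin_two, polar_self_mul, hf, hf₂, hff₂, polar_comm Q f₂ f]
    obtain ⟨vs, hns, hlen, hprod, hact⟩ := hyp_swap hH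
    refine ⟨rprod Q vs, (rprod_mem_iff hnd hexc hns).2 ⟨by rw [hlen]; exact even_two,
      by rw [hprod]; exact ⟨1, by ring⟩⟩, ?_, fun x hx => ?_, fun x hx => ?_⟩
    · rw [hact, Fin.sum_univ_two]
      simp [polar_self_mul, hu, polar_comm Q f u, huf, polar_comm Q e₂ u, hue, polar_comm Q f₂ u,
        huf₂]
    · rw [hact, Fin.sum_univ_two]
      exact S.add_mem hx (S.add_mem (S.smul_mem _ (S.sub_mem huS hfS))
        (S.smul_mem _ (S.sub_mem heS hf₂S)))
    · rw [hact, Fin.sum_univ_two]
      simp [hx u huS, hx f hfS, hx e₂ heS, hx f₂ hf₂S]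

omit [Fintype F] [FiniteDimensional F V] in
/-- Singular vectors of an isotropic non-degenerate subspace separate it. -/
theorem exists_singular_pairing {U : Submodule F V} (hU : Nondeg Q U) {e : V} (he : e ∈ U)
    (he0 : e ≠ 0) (hQe : Q e = 0) {y : V} (hy : y ∈ U) (hy0 : y ≠ 0) :
    ∃ a ∈ U, Q a = 0 ∧ polar Q a y ≠ 0 := by
  by_contra h
  push Not at h
  obtain ⟨f, hf, hQf, hef⟩ := exists_partner Q hU he he0 hQe
  refine hy0 (hU y hy fun z hz => ?_)
  set z' := z - polar Q f z • e - polar Q e z • f with hz'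
  have hfe : polar Q f e = 1 := by rw [polar_comm, hef]
  have h1 : polar Q e z' = 0 := by
    rw [hz', polar_sub_right, polar_sub_right, polar_smul_right, polar_smul_right, polar_self_mul,
      hQe, hef]
    simp
  have h2 : polar Q f z' = 0 := by
    rw [hz', polar_sub_right, polar_sub_right, polar_smul_right, polar_smul_right, polar_self_mul,
      hQf, hfe]
    simp
  have hzU : z' ∈ U := U.sub_mem (U.sub_mem hz (U.smul_mem _ he)) (U.smul_mem _ hf)
  have hQ3 : Q (z' + f - Q z' • e) = 0 := by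
    rw [sub_eq_add_neg, ← neg_smul, QuadraticMap.map_add (⇑Q), QuadraticMap.map_add (⇑Q) z',
      QuadraticMap.map_smul, polar_add_left, polar_smul_right, polar_smul_right,
      polar_comm Q z' e, polar_comm Q z' f, h1, h2, hfe, hQe, hQf]
    simp
  have h3 := h _ (U.sub_mem (U.add_mem hzU hf) (U.smul_mem _ he)) hQ3
  rw [polar_sub_left, polar_add_left, polar_smul_left, h f hf hQf, h e he hQe] at h3
  simp only [add_zero, smul_eq_mul, mul_zero, sub_zero] at h3
  rw [hz', polar_sub_left, polar_sub_left, polar_smul_left, polar_smul_left, h f hf hQf,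
    h e he hQe] at h3
  rw [polar_comm]
  simpa using h3

end Cfsg.Agent.OmegaStabTools
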