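import Mathlib
import Cfsg.Agent.Lib.OmegaStabTools

/-!
Orthogonal decompositions: components, pairs of reflections, norm classes of vectors.
-/

set_option autoImplicit false

namespace Cfsg.Agent.OmegaDecomp

open QuadraticMap Module
open Cfsg.Agent.OrthUnitaryQuad Cfsg.Agent.OrthUnitaryPrelude Cfsg.Agent.OrthUnitaryRefl
  Cfsg.Agent.OrthUnitaryOmega Cfsg.Agent.OmegaClasses Cfsg.Agent.OmegaGeo
  Cfsg.Agent.OrthUnitarySimple Cfsg.Agent.OmegaStabSingular
open Cfsg.Agent.QuadClassify (Nondeg Aniso exists_partner pair_complement)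

variable {F V : Type*} [Field F] [AddCommGroup V] [Module F V] {Q : QuadraticForm F V}

/-- An orthogonal decomposition into isometric non-degenerate subspaces. -/
structure Dec (Q : QuadraticForm F V) {t : ℕ} (D : Fin t → Submodule F V) (k : ℕ) : Prop where
  dim : ∀ i, finrank F (D i) = k
  nd : ∀ i, Nondeg Q (D i)
  orth : ∀ i j, i ≠ j → ∀ x ∈ D i, ∀ y ∈ D j, polar Q x y = 0
  span : iSup D = ⊤
  iso : ∀ i j, ∃ e : D i ≃ₗ[F] D j, ∀ x : D i, Q (e x : V) = Q (x : V)

/-- Components for an orthogonal decomposition. -/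
structure Comp (Q : QuadraticForm F V) {t : ℕ} (D : Fin t → Submodule F V)
    (π : Fin t → V →ₗ[F] V) : Prop where
  mem : ∀ i x, π i x ∈ D i
  sum : ∀ x, ∑ i, π i x = x
  polar_eq : ∀ i, ∀ d ∈ D i, ∀ x, polar Q d x = polar Q d (π i x)

section Comps

variable [FiniteDimensional F V] {t k : ℕ} {D : Fin t → Submodule F V}

theorem exists_comp (hnd : (polarBilin Q).Nondegenerate) (hD : Dec Q D k) :
    ∃ π, Comp Q D π := by
  have hc : ∀ i, IsCompl (D i) (LinearMap.BilinForm.orthogonal (polarBilin Q) (D i)) := by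
    intro i
    have hdisj : D i ⊓ LinearMap.BilinForm.orthogonal (polarBilin Q) (D i) = ⊥ := by
      rw [Submodule.eq_bot_iff]
      intro v hv
      exact hD.nd i v hv.1 fun w hw => (polar_comm _ v w).trans (hv.2 w hw)
    refine ⟨disjoint_iff.2 hdisj, codisjoint_iff.2 (Submodule.eq_top_of_finrank_eq ?_)⟩
    have h := Submodule.finrank_sup_add_finrank_inf_eq (D i)
      (LinearMap.BilinForm.orthogonal (polarBilin Q) (D i))
    rw [hdisj, finrank_bot, finrank_orth hnd] at h
    have := Submodule.finrank_le (D i)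
    omega
  set π : Fin t → V →ₗ[F] V := fun i => (D i).projection _ (hc i) with hπ
  have hmem : ∀ i x, π i x ∈ D i := fun i x => (D i).projection_apply_mem (hc i) x
  have hpol : ∀ i, ∀ d ∈ D i, ∀ x, polar Q d x = polar Q d (π i x) := by
    intro i d hd x
    conv_lhs => rw [← (D i).projection_add_projection_eq_self (hc i) x]
    have : polar Q d ((LinearMap.BilinForm.orthogonal (polarBilin Q) (D i)).projection (D i)
        (hc i).symm x) = 0 :=
      (LinearMap.BilinForm.orthogonal (polarBilin Q) (D i)).projection_apply_mem (hc i).symm x d hd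
    rw [polar_add_right, this, add_zero]
  refine ⟨π, hmem, fun x => ?_, hpol⟩
  refine sub_eq_zero.1 (hnd.1 _ fun y => ?_)
  show polar Q ((∑ i, π i x) - x) y = 0
  have hy : y ∈ iSup D := hD.span ▸ trivial
  induction hy using Submodule.iSup_induction' with
  | mem i d hd =>
    rw [polar_comm, polar_sub_right, hpol i d hd x, ← polarBilin_apply_apply, map_sum]
    simp only [polarBilin_apply_apply]
    rw [Finset.sum_eq_single i (fun j _ hj => hD.orth i j (Ne.symm hj) d hd _ (hmem j x)) (by simp)]
    simp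
  | zero => simp
  | add a b _ _ ha hb => rw [polar_add_right, ha, hb, add_zero]

variable {π : Fin t → V →ₗ[F] V}

omit [FiniteDimensional F V] in
theorem Comp.uniq (hπ : Comp Q D π) (hD : Dec Q D k) {i : Fin t} {x d : V} (hd : d ∈ D i)
    (h : ∀ e ∈ D i, polar Q e x = polar Q e d) : π i x = d := by
  refine sub_eq_zero.1 (hD.nd i _ ((D i).sub_mem (hπ.mem i x) hd) fun e he => ?_)
  rw [polar_comm, polar_sub_right, ← hπ.polar_eq i e he x, h e he, sub_self]

theorem Comp.self (hπ : Comp Q D π) (hD : Dec Q D k) {i : Fin t} {x : V} (hx : x ∈ D i) :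
    π i x = x :=
  hπ.uniq hD hx fun _ _ => rfl

theorem Comp.other (hπ : Comp Q D π) (hD : Dec Q D k) {i j : Fin t} (hij : i ≠ j) {x : V}
    (hx : x ∈ D j) : π i x = 0 :=
  hπ.uniq hD (D i).zero_mem fun e he => by rw [hD.orth i j hij e he x hx, polar_zero_right]

theorem Comp.eq_of_mem (hπ : Comp Q D π) (hD : Dec Q D k) {i j : Fin t} {x : V} (hx : x ∈ D j)
    (h : π i x ≠ 0) : i = j :=
  by_contra fun hij => h (hπ.other hD hij hx)

omit [FiniteDimensional F V] in
theorem Comp.exists_ne (hπ : Comp Q D π) {x : V} (hx : x ≠ 0) : ∃ i, π i x ≠ 0 := by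
  by_contra h
  push Not at h
  exact hx (by rw [← hπ.sum x, Finset.sum_eq_zero fun i _ => h i])

omit [FiniteDimensional F V] in
theorem Comp.mem_of_forall (hπ : Comp Q D π) {i : Fin t} {x : V} (h : ∀ j, j ≠ i → π j x = 0) :
    x ∈ D i := by
  rw [← hπ.sum x, Finset.sum_eq_single i (fun j _ hj => h j hj) (by simp)]
  exact hπ.mem i x

omit [FiniteDimensional F V] in
theorem Comp.value (hπ : Comp Q D π) (hD : Dec Q D k) (x : V) : Q x = ∑ i, Q (π i x) := by
  conv_lhs => rw [← hπ.sum x]
  exact QuadClassify.map_sum_ortho Q _ _ fun i _ j _ hij =>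
    hD.orth i j hij _ (hπ.mem i x) _ (hπ.mem j x)

end Comps

/-! ### Non-singular vectors of non-degenerate subspaces -/

section Vectors

variable [FiniteDimensional F V]

theorem exists_nonsingular (hnd : (polarBilin Q).Nondegenerate) {U X : Submodule F V}
    (hU : Nondeg Q U) (hXU : X ≤ U) (h : finrank F U < 2 * finrank F X) : ∃ x ∈ X, Q x ≠ 0 := by
  by_contra hc
  push Not at hc
  set P := LinearMap.BilinForm.orthogonal (polarBilin Q) U
  have hdisj : X ⊓ P = ⊥ := by
    rw [Submodule.eq_bot_iff]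
    intro v hv
    exact hU v (hXU hv.1) fun w hw => (polar_comm _ v w).trans (hv.2 w hw)
  have hle : X ≤ LinearMap.BilinForm.orthogonal (polarBilin Q) (X ⊔ P) := by
    intro x hx w hw
    obtain ⟨a, ha, b, hb, rfl⟩ := Submodule.mem_sup.1 hw
    show polar Q (a + b) x = 0
    rw [polar_add_left, polar_of_sing hc ha hx, (polar_comm _ b x).trans (hb x (hXU hx)), add_zero]
  have h1 := Submodule.finrank_mono hle
  rw [finrank_orth hnd] at h1
  have h2 := Submodule.finrank_sup_add_finrank_inf_eq X P
  rw [hdisj, finrank_bot, finrank_orth hnd] at h2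
  have := Submodule.finrank_le U
  omega

theorem le_of_nonsingular (hnd : (polarBilin Q).Nondegenerate) {T X : Submodule F V}
    (hT : Nondeg Q T) (h3 : 3 ≤ finrank F T) (hX : ∀ x ∈ T, Q x ≠ 0 → x ∈ X) : T ≤ X := by
  intro e he
  by_cases hQe : Q e = 0
  · obtain ⟨w, hw, hQw⟩ := exists_nonsingular hnd hT (X := T ⊓ LinearMap.ker (polarBilin Q e))
      inf_le_left (by have := QuadClassify.finrank_ker_inf T (polarBilin Q e); omega)
    have hew : polar Q e w = 0 := hw.2
    have h1 := hX (e + w) (T.add_mem he hw.1) (by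
      rw [QuadraticMap.map_add (⇑Q), hQe, hew]; simpa using hQw)
    simpa using X.sub_mem h1 (hX w hw.1 hQw)
  · exact hX e he hQe

/-- Two non-singular values in the same square class. -/
def SameClass (a b : F) : Prop := b ≠ 0 ∧ IsSquare (a * b)

theorem SameClass.symm {a b : F} (h : SameClass a b) (ha : a ≠ 0) : SameClass b a :=
  ⟨ha, by rw [mul_comm]; exact h.2⟩

theorem SameClass.trans {a b c : F} (h : SameClass a b) (h' : SameClass b c) : SameClass a c := by
  refine ⟨h'.1, ?_⟩
  obtain ⟨r, hr⟩ := h.2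
  obtain ⟨s, hs⟩ := h'.2
  refine ⟨r * s / b, ?_⟩
  field_simp [h.1]
  linear_combination (b * c) * hr + (r * r) * hs

theorem sameClass_refl {a : F} (ha : a ≠ 0) : SameClass a a := ⟨ha, a, rfl⟩

theorem sameClass_of_two [Finite F] (h2 : (2 : F) = 0) {a b : F} (hb : b ≠ 0) : SameClass a b :=
  ⟨hb, QuadClassify.isSquare_of_two_eq_zero h2 _⟩

/-- A subspace containing the vectors of one class contains the whole space. -/
theorem le_of_class [Fintype F] (hnd : (polarBilin Q).Nondegenerate) {T S : Submodule F V}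
    (hT : Nondeg Q T) (h3 : 3 ≤ finrank F T) {w₀ : V}
    (hw₀ : w₀ ∈ T) (hQ₀ : Q w₀ ≠ 0) (hS : ∀ w ∈ T, SameClass (Q w₀) (Q w) → w ∈ S) :
    T ≤ S := by
  classical
  set C : Set V := {w | w ∈ T ∧ SameClass (Q w₀) (Q w)} with hC
  set S₀ := Submodule.span F C
  have hS₀S : S₀ ≤ S := Submodule.span_le.2 fun w hw => hS w hw.1 hw.2
  have hS₀T : S₀ ≤ T := Submodule.span_le.2 fun w hw => hw.1
  refine le_trans ?_ hS₀S
  by_contra hne
  set R := T ⊓ LinearMap.BilinForm.orthogonal (polarBilin Q) S₀
  -- non-singular vectors lie in S₀ or R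
  have hz : ∀ z ∈ T, Q z ≠ 0 → z ∈ S₀ ∨ z ∈ R := by
    intro z hzT hQz
    by_contra hcon
    push Not at hcon
    obtain ⟨hzS, hzR⟩ := hcon
    obtain ⟨w, hwC, hwz⟩ : ∃ w ∈ C, polar Q z w ≠ 0 := by
      by_contra hh
      push Not at hh
      refine hzR ⟨hzT, fun s hs => ?_⟩
      show polar Q s z = 0
      induction hs using Submodule.span_induction with
      | mem s hs => rw [polar_comm]; exact hh s hs
      | zero => simp
      | add a b _ _ ha hb => rw [polar_add_left, ha, hb, add_zero]
      | smul c a _ ha => rw [polar_smul_left, ha, smul_zero]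
    have hmem : (refl Q z hQz).1 w ∈ C := by
      refine ⟨?_, by rw [map_orth]; exact hwC.2⟩
      rw [refl_apply]
      exact T.sub_mem hwC.1 (T.smul_mem _ hzT)
    have h1 := S₀.sub_mem (Submodule.subset_span hwC) (Submodule.subset_span hmem : _ ∈ S₀)
    rw [refl_apply, sub_sub_cancel] at h1
    have h2 := S₀.smul_mem ((Q z)⁻¹ * polar Q z w)⁻¹ h1
    rw [smul_smul, inv_mul_cancel₀ (mul_ne_zero (inv_ne_zero hQz) hwz), one_smul] at h2
    exact hzS h2
  have hTle : T ≤ S₀ ⊔ R := le_of_nonsingular hnd hT h3 fun z hzT hQz =>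
    (hz z hzT hQz).elim (fun h => Submodule.mem_sup_left h) (fun h => Submodule.mem_sup_right h)
  have hdisj : S₀ ⊓ R = ⊥ := by
    rw [Submodule.eq_bot_iff]
    intro v hv
    refine hT v hv.2.1 fun u hu => ?_
    obtain ⟨a, ha, b, hb, rfl⟩ := Submodule.mem_sup.1 (hTle hu)
    rw [polar_add_right, (polar_comm _ v a).trans (hv.2.2 a ha),
      show polar Q v b = 0 from hb.2 v hv.1, add_zero]
  obtain ⟨r, hr, hr0⟩ := Submodule.exists_mem_ne_zero_of_ne_bot (p := R) (fun h => hne (by
    rw [h, sup_bot_eq] at hTle; exact hTle))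
  have hsum : ∀ s ∈ S₀, s ≠ 0 → ∀ r ∈ R, r ≠ 0 → Q s + Q r = 0 := by
    intro s hs hs0 r hr hr0
    by_contra hQ
    have hval : Q (s + r) = Q s + Q r := by
      rw [QuadraticMap.map_add (⇑Q), show polar Q s r = 0 from hr.2 s hs, add_zero]
    rcases hz (s + r) (T.add_mem (hS₀T hs) hr.1) (by rw [hval]; exact hQ) with h | h
    · have : r ∈ S₀ ⊓ R := ⟨by simpa using S₀.sub_mem h hs, hr⟩
      rw [hdisj, Submodule.mem_bot] at this
      exact hr0 this
    · have : s ∈ S₀ ⊓ R := ⟨hs, by simpa using R.sub_mem h hr⟩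
      rw [hdisj, Submodule.mem_bot] at this
      exact hs0 this
  have hw₀S : w₀ ∈ S₀ := Submodule.subset_span ⟨hw₀, sameClass_refl hQ₀⟩
  have hw₀0 : w₀ ≠ 0 := fun h => hQ₀ (by rw [h, QuadraticMap.map_zero])
  have hconstR : ∀ r ∈ R, r ≠ 0 → Q r = -Q w₀ := fun r hr hr0 => by
    linear_combination hsum w₀ hw₀S hw₀0 r hr hr0
  have hconstS : ∀ s ∈ S₀, s ≠ 0 → Q s = Q w₀ := fun s hs hs0 => by
    linear_combination hsum s hs hs0 r hr hr0 - hconstR r hr hr0
  by_cases h2 : (2 : F) = 0
  · have : r ∈ S₀ ⊓ R := ⟨Submodule.subset_span ⟨hr.1, sameClass_of_two h2 (by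
      rw [hconstR r hr hr0]; exact neg_ne_zero.2 hQ₀)⟩, hr⟩
    rw [hdisj, Submodule.mem_bot] at this
    exact hr0 this
  · -- constant values force dimension one
    have hone : ∀ X : Submodule F V, ∀ α : F, α ≠ 0 → (∀ x ∈ X, x ≠ 0 → Q x = α) →
        finrank F X ≤ 1 := by
      intro X α hα hX
      by_contra h
      obtain ⟨x, hx, hx0⟩ := Submodule.exists_mem_ne_zero_of_ne_bot (p := X)
        (fun hb => by rw [hb, finrank_bot] at h; omega)
      obtain ⟨y, hy, hyx⟩ : ∃ y ∈ X, y ∉ Submodule.span F {x} := by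
        by_contra hh
        push Not at hh
        have := Submodule.finrank_mono (show X ≤ Submodule.span F {x} from hh)
        rw [finrank_span_singleton hx0] at this
        omega
      have hy0 : y ≠ 0 := fun h => hyx (h ▸ Submodule.zero_mem _)
      have hne' : ∀ c : F, y + c • x ≠ 0 := fun c h => hyx (by
        rw [eq_neg_of_add_eq_zero_left h]
        exact neg_mem (Submodule.smul_mem _ c (Submodule.mem_span_singleton_self x)))
      have e1 := hX _ (X.add_mem hy (X.smul_mem (1 : F) hx)) (hne' 1)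
      have e2 := hX _ (X.add_mem hy (X.smul_mem (-1 : F) hx)) (hne' (-1))
      rw [QuadraticMap.map_add (⇑Q), QuadraticMap.map_smul, polar_smul_right, hX x hx hx0,
        hX y hy hy0] at e1 e2
      simp only [smul_eq_mul] at e1 e2
      exact hα ((mul_eq_zero.1 (show (2 : F) * α = 0 by linear_combination e1 + e2)).resolve_left h2)
    have h1 := hone R _ (neg_ne_zero.2 hQ₀) hconstR
    have h1' := hone S₀ _ hQ₀ hconstS
    have h4 := Submodule.finrank_sup_add_finrank_inf_eq S₀ R
    have h5 := Submodule.finrank_mono hTle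
    omega

/-- A class vector of a non-degenerate subspace outside a smaller subspace. -/
theorem exists_class_outside [Fintype F] {X L : Submodule F V} {y : V} (hyX : y ∈ X) (hyL : y ∈ L)
    (hLX : L ≤ X) (hQy : Q y ≠ 0) (hlt : finrank F L < finrank F X)
    (hd : finrank F L + 2 ≤ finrank F X ∨ 4 ≤ Fintype.card F) :
    ∃ x ∈ X, x ∉ L ∧ SameClass (Q y) (Q x) := by
  classical
  by_contra hc
  push Not at hc
  obtain ⟨z, hz, hzL⟩ : ∃ z ∈ X, z ∉ L := by
    by_contra h
    push Not at h
    have := Submodule.finrank_mono (show X ≤ L from h)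
    omega
  have hsecond : finrank F L + 2 ≤ finrank F X → ∃ z' ∈ X, z' ∉ L ⊔ Submodule.span F {z} := by
    intro h2
    by_contra h
    push Not at h
    have h1 := Submodule.finrank_mono (show X ≤ L ⊔ Submodule.span F {z} from h)
    have h3 := Submodule.finrank_add_le_finrank_add_finrank L (Submodule.span F {z})
    have h4 : finrank F (Submodule.span F {z}) = 1 :=
      finrank_span_singleton (fun h0 => hzL (h0 ▸ L.zero_mem))
    omega
  by_cases h2 : (2 : F) = 0
  · have hsing : ∀ x ∈ X, x ∉ L → Q x = 0 := fun x hx hxL => by_contra fun h =>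
      hc x hx hxL (sameClass_of_two h2 h)
    have hval : ∀ x ∈ X, x ∉ L → ∀ s : F, s • s • Q y + s • polar Q x y = 0 := by
      intro x hx hxL s
      have h := hsing (x + s • y) (X.add_mem hx (X.smul_mem _ hyX))
        (fun h => hxL (by simpa using L.sub_mem h (L.smul_mem s hyL)))
      rw [QuadraticMap.map_add (⇑Q), QuadraticMap.map_smul, polar_smul_right, hsing x hx hxL,
        zero_add] at h
      rw [smul_smul]
      exact h
    rcases hd with hd | hd
    · obtain ⟨z', hz', hz'L⟩ := hsecond hd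
      have e : ∀ x ∈ X, x ∉ L → polar Q x y = -Q y := fun x hx hxL => by
        have := hval x hx hxL 1
        simp only [one_smul] at this
        linear_combination this
      have hsumL : z + z' ∉ L := fun h => hz'L (by
        have : z' = (z + z') - z := by abel
        rw [this]
        exact Submodule.sub_mem _ (Submodule.mem_sup_left h)
          (Submodule.mem_sup_right (Submodule.mem_span_singleton_self z)))
      have := e (z + z') (X.add_mem hz hz') hsumL
      rw [polar_add_left, e z hz hzL, e z' hz' (fun h => hz'L (Submodule.mem_sup_left h))] at this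
      exact hQy (by linear_combination -this)
    · obtain ⟨s, hs, hs1⟩ : ∃ s : F, s ≠ 0 ∧ s ≠ 1 := by
        obtain ⟨s, hs, hs'⟩ := Finset.exists_mem_notMem_of_card_lt_card
          (s := ({0, 1} : Finset F)) (t := Finset.univ) (by
            rw [Finset.card_univ]; exact lt_of_le_of_lt Finset.card_le_two (by omega))
        simp only [Finset.mem_insert, Finset.mem_singleton, not_or] at hs'
        exact ⟨s, hs'.1, hs'.2⟩
      have e1 := hval z hz hzL s
      have e2 := hval z hz hzL 1
      simp only [smul_eq_mul] at e1 e2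
      have : s * (s - 1) * Q y = 0 := by linear_combination e1 - s * e2
      rcases mul_eq_zero.1 this with h | h
      · rcases mul_eq_zero.1 h with h | h
        · exact hs h
        · exact hs1 (sub_eq_zero.1 h)
      · exact hQy h
  · -- reflect y
    have hrefl : ∀ x ∈ X, x ∉ L → Q x ≠ 0 → polar Q x y = 0 := by
      intro x hx hxL hQx
      by_contra hxy
      refine hc ((refl Q x hQx).1 y) ?_ ?_ (by rw [map_orth]; exact sameClass_refl hQy)
      · rw [refl_apply]; exact X.sub_mem hyX (X.smul_mem _ hx)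
      · rw [refl_apply]
        intro h
        have h1 := L.sub_mem hyL h
        rw [sub_sub_cancel] at h1
        have h2 := L.smul_mem ((Q x)⁻¹ * polar Q x y)⁻¹ h1
        rw [smul_smul, inv_mul_cancel₀ (mul_ne_zero (inv_ne_zero hQx) hxy), one_smul] at h2
        exact hxL h2
    have hproj : ∀ x ∈ X, x ∉ L →
        ∀ α : F, α ≠ 0 → Q (x - (polar Q x y / (2 * Q y)) • y) + α * α * Q y = 0 := by
      intro x hx hxL α hα
      set w := x - (polar Q x y / (2 * Q y)) • y with hw
      have hwy : polar Q w y = 0 := by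
        rw [hw, polar_sub_left, polar_smul_left, polar_self_mul, smul_eq_mul,
          div_mul_cancel₀ _ (mul_ne_zero h2 hQy), sub_self]
      have hwX : w + α • y ∈ X := X.add_mem (X.sub_mem hx (X.smul_mem _ hyX)) (X.smul_mem _ hyX)
      have hwL : w + α • y ∉ L := fun h => hxL (by
        have := L.add_mem (L.sub_mem h (L.smul_mem α hyL)) (L.smul_mem (polar Q x y / (2 * Q y)) hyL)
        rwa [add_sub_cancel_right, hw, sub_add_cancel] at this)
      have hval : Q (w + α • y) = Q w + α * α * Q y := by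
        rw [QuadraticMap.map_add (⇑Q), QuadraticMap.map_smul, polar_smul_right, hwy]
        simp
      by_contra hne
      have := hrefl _ hwX hwL (by rw [hval]; exact hne)
      rw [polar_add_left, polar_smul_left, hwy, polar_self_mul] at this
      simp only [smul_eq_mul, zero_add, mul_eq_zero] at this
      rcases this with h | h | h
      · exact hα h
      · exact h2 h
      · exact hQy h
    rcases hd with hd | hd
    · obtain ⟨z', hz', hz'L⟩ := hsecond hd
      have hz'L' : z' ∉ L := fun h => hz'L (Submodule.mem_sup_left h)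
      have hpm : ∀ c : F, c ≠ 0 → z + c • z' ∉ L := fun c hc0 h => hz'L (by
        have h1 := Submodule.smul_mem (L ⊔ Submodule.span F {z}) c⁻¹
          (Submodule.sub_mem _ (Submodule.mem_sup_left h)
            (Submodule.mem_sup_right (Submodule.mem_span_singleton_self z)))
        rwa [add_sub_cancel_left, smul_smul, inv_mul_cancel₀ hc0, one_smul] at h1)
      have e1 := hproj z hz hzL 1 one_ne_zero
      have e2 := hproj z' hz' hz'L' 1 one_ne_zero
      have e3 := hproj _ (X.add_mem hz (X.smul_mem _ hz')) (hpm 1 one_ne_zero) 1 one_ne_zero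
      have e4 := hproj _ (X.add_mem hz (X.smul_mem _ hz')) (hpm (-1) (neg_ne_zero.2 one_ne_zero)) 1
        one_ne_zero
      simp only [sub_eq_add_neg (a := (_ : V)), ← neg_smul, QuadraticMap.map_add (⇑Q),
        QuadraticMap.map_smul, polar_smul_right, polar_add_left, polar_smul_left, smul_eq_mul]
        at e1 e2 e3 e4
      field_simp at e1 e2 e3 e4
      have h : (2 : F) ^ 3 * Q y ^ 2 = 0 := by linear_combination 2 * e1 + 2 * e2 - e3 - e4
      exact mul_ne_zero (pow_ne_zero 3 h2) (pow_ne_zero 2 hQy) h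
    · have h5 : 5 ≤ Fintype.card F := by have := QuadClassify.card_odd (F := F) h2; omega
      obtain ⟨s, hs, hs'⟩ := Finset.exists_mem_notMem_of_card_lt_card
          (s := ({0, 1, -1} : Finset F)) (t := Finset.univ) (by
            rw [Finset.card_univ]; exact lt_of_le_of_lt Finset.card_le_three (by omega))
      simp only [Finset.mem_insert, Finset.mem_singleton, not_or] at hs'
      have e1 := hproj z hz hzL 1 one_ne_zero
      have e2 := hproj z hz hzL s hs'.1
      have : (s - 1) * (s + 1) * Q y = 0 := by linear_combination e2 - e1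
      rcases mul_eq_zero.1 this with h | h
      · rcases mul_eq_zero.1 h with h | h
        · exact hs'.2.1 (sub_eq_zero.1 h)
        · exact hs'.2.2 (eq_neg_of_add_eq_zero_left h)
      · exact hQy h

end Vectors

/-! ### Pairs of reflections -/

/-- The product of the reflections in `v` and `w` lies in `M`. -/
def PairIn (M : Subgroup (orth Q)) (v w : V) : Prop :=
  ∃ (hv : Q v ≠ 0) (hw : Q w ≠ 0), refl Q v hv * refl Q w hw ∈ M

theorem refl_congr {v w : V} (h : v = w) (hv : Q v ≠ 0) :
    refl Q v hv = refl Q w (h ▸ hv) := by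
  subst h; rfl

theorem PairIn.symm {M : Subgroup (orth Q)} {v w : V} (h : PairIn M v w) : PairIn M w v := by
  obtain ⟨hv, hw, hm⟩ := h
  refine ⟨hw, hv, ?_⟩
  have := M.inv_mem hm
  rwa [mul_inv_rev, inv_eq_of_mul_eq_one_right (refl_sq v hv),
    inv_eq_of_mul_eq_one_right (refl_sq w hw)] at this

theorem PairIn.trans {M : Subgroup (orth Q)} {u v w : V} (h : PairIn M u v) (h' : PairIn M v w) :
    PairIn M u w := by
  obtain ⟨hu, hv, hm⟩ := h
  obtain ⟨_, hw, hm'⟩ := h'
  refine ⟨hu, hw, ?_⟩
  have := M.mul_mem hm hm'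
  rwa [mul_assoc, ← mul_assoc (refl Q v hv), refl_sq v hv, one_mul] at this

theorem PairIn.map {M : Subgroup (orth Q)} {v w : V} (h : PairIn M v w) {m : orth Q} (hm : m ∈ M) :
    PairIn M (m.1 v) (m.1 w) := by
  obtain ⟨hv, hw, hvw⟩ := h
  refine ⟨by rwa [map_orth m], by rwa [map_orth m], ?_⟩
  rw [← conj_refl m v hv, ← conj_refl m w hw]
  have := M.mul_mem (M.mul_mem hm hvw) (M.inv_mem hm)
  convert this using 1
  group

theorem pair_mem_commutator [Fintype F] [FiniteDimensional F V]
    (hnd : (polarBilin Q).Nondegenerate) (hn : 5 ≤ finrank F V) {v w : V} (hv : Q v ≠ 0)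
    (hw : Q w ≠ 0) (h : IsSquare (Q v * Q w)) :
    refl Q v hv * refl Q w hw ∈ commutator (orth Q) := by
  have hns : NS Q [v, w] := by simp [NS, hv, hw]
  have := (rprod_mem_iff hnd (Or.inr (by omega)) hns).2 ⟨even_two, by simpa using h⟩
  rwa [rprod_cons hv, rprod_singleton hw] at this

end Cfsg.Agent.OmegaDecomp
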