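import Mathlib
import Cfsg.Agent.Lib.OmegaDecomp

/-!
Anisotropic planes over finite fields: circles, opposite increments, invariant additive subgroups.
-/

set_option autoImplicit false

namespace Cfsg.Agent.OmegaAnisoPlane

open QuadraticMap Module
open Cfsg.Agent.OrthUnitaryQuad Cfsg.Agent.OrthUnitaryPrelude Cfsg.Agent.OrthUnitaryRefl
  Cfsg.Agent.OrthUnitaryOmega Cfsg.Agent.OmegaClasses Cfsg.Agent.OmegaDecomp
open Cfsg.Agent.QuadClassify (Nondeg Aniso)

variable {F V : Type*} [Field F] [Fintype F] [AddCommGroup V] [Module F V] [FiniteDimensional F V]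
  {Q : QuadraticForm F V} {P : Submodule F V}

omit [Fintype F] in
theorem exists_basis_vectors (h : finrank F P = 2) {a : V} (ha : a ∈ P) (ha0 : a ≠ 0) :
    ∃ b ∈ P, b ∉ Submodule.span F {a} ∧ ∀ z ∈ P, ∃ x y : F, x • a + y • b = z := by
  obtain ⟨b, hb, hab⟩ : ∃ b ∈ P, b ∉ Submodule.span F {a} := by
    by_contra hc
    push Not at hc
    have := Submodule.finrank_mono (show P ≤ Submodule.span F {a} from hc)
    rw [finrank_span_singleton ha0, h] at this
    omega
  refine ⟨b, hb, hab, fun z hz => ?_⟩
  have hle : Submodule.span F {a, b} ≤ P := Submodule.span_le.2 (by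
    rintro w (rfl | rfl) <;> assumption)
  have hli : LinearIndependent F ![a, b] :=
    LinearIndependent.pair_iff.2 fun p r hpr => by
      have hr : r = 0 := by
        by_contra hr
        refine hab (Submodule.mem_span_singleton.2 ⟨-(r⁻¹ * p), ?_⟩)
        have : r • b = -(p • a) := eq_neg_of_add_eq_zero_right hpr
        rw [neg_smul, ← smul_smul, ← smul_neg, ← this, inv_smul_smul₀ hr]
      rw [hr, zero_smul, add_zero, smul_eq_zero] at hpr
      exact ⟨hpr.resolve_right ha0, hr⟩
  have heq : Submodule.span F {a, b} = P := by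
    refine Submodule.eq_of_le_of_finrank_le hle ?_
    have := finrank_span_eq_card hli
    rw [Matrix.range_cons_cons_empty, Fintype.card_fin] at this
    omega
  rw [← heq, Submodule.mem_span_pair] at hz
  exact hz

omit [Fintype F] [FiniteDimensional F V] in
theorem refl_mem_plane {p : V} (hp : p ∈ P) (hQp : Q p ≠ 0) {z : V} (hz : z ∈ P) :
    (refl Q p hQp).1 z ∈ P := by
  rw [refl_apply]; exact P.sub_mem hz (P.smul_mem _ hp)

omit [FiniteDimensional F V] in
theorem Q_ne (han : Aniso Q P) {z : V} (hz : z ∈ P) (hz0 : z ≠ 0) : Q z ≠ 0 :=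
  fun h => hz0 (han z hz h)

/-- The circle through a non-zero vector has at least `q + 1` points. -/
theorem exists_circle (hdim : finrank F P = 2) (hnd : Nondeg Q P) (han : Aniso Q P) {w : V}
    (hw : w ∈ P) (hw0 : w ≠ 0) :
    ∃ f : Option F → V, Function.Injective f ∧ ∀ s, f s ∈ P ∧ Q (f s) = Q w := by
  classical
  obtain ⟨b, hb, hwb, hgen⟩ := exists_basis_vectors hdim hw hw0
  let g : Option F → V := fun s => s.elim w (fun x => b + x • w)
  have hgP : ∀ s, g s ∈ P ∧ g s ≠ 0 := by
    rintro (_ | x)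
    · exact ⟨hw, hw0⟩
    · refine ⟨P.add_mem hb (P.smul_mem x hw), fun h => hwb ?_⟩
      rw [show g (some x) = b + x • w from rfl] at h
      rw [eq_neg_of_add_eq_zero_left h, ← neg_smul]
      exact Submodule.smul_mem _ _ (Submodule.mem_span_singleton_self w)
  have hgspan : ∀ s s', g s ∈ Submodule.span F {g s'} → s = s' := by
    intro s s' h
    obtain ⟨r, hr⟩ := Submodule.mem_span_singleton.1 h
    rcases s with _ | x <;> rcases s' with _ | x'
    · rfl
    · exfalso
      have hr' : r • (b + x' • w) = w := hr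
      rcases eq_or_ne r 0 with rfl | hr0
      · exact hw0 (by rw [← hr', zero_smul])
      refine hwb (Submodule.mem_span_singleton.2 ⟨r⁻¹ - x', ?_⟩)
      conv_lhs => rw [sub_smul]; arg 1; arg 2; rw [← hr']
      rw [smul_smul, inv_mul_cancel₀ hr0, one_smul, add_sub_cancel_right]
    · exfalso
      have hr' : r • w = b + x • w := hr
      exact hwb (Submodule.mem_span_singleton.2 ⟨r - x, by rw [sub_smul, hr', add_sub_cancel_right]⟩)
    · have hr' : r • (b + x' • w) = b + x • w := hr
      have h1 : (r - 1) • b = (x - r * x') • w := by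
        rw [sub_smul, sub_smul, one_smul, ← smul_smul]
        rw [smul_add] at hr'
        linear_combination (norm := module) hr'
      rcases eq_or_ne (r - 1) 0 with h0 | h0
      · rw [h0, zero_smul] at h1
        have h2 := (smul_eq_zero.1 h1.symm).resolve_right hw0
        rw [sub_eq_zero.1 h0, one_mul, sub_eq_zero] at h2
        rw [h2]
      · exfalso
        exact hwb (Submodule.mem_span_singleton.2 ⟨(r - 1)⁻¹ * (x - r * x'), by
          rw [← smul_smul, ← h1, inv_smul_smul₀ h0]⟩)
  refine ⟨fun s => (refl Q (g s) (Q_ne han (hgP s).1 (hgP s).2)).1 w, fun s s' h => ?_,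
    fun s => ⟨refl_mem_plane (hgP s).1 _ hw, map_orth _ w⟩⟩
  simp only [refl_apply, sub_right_inj] at h
  by_cases hs : polar Q (g s) w = 0
  · -- both orthogonal to `w`
    have hs' : polar Q (g s') w = 0 := by
      rw [hs, mul_zero, zero_smul] at h
      have := (smul_eq_zero.1 h.symm).resolve_right (hgP s').2
      exact (mul_eq_zero.1 this).resolve_left (inv_ne_zero (Q_ne han (hgP s').1 (hgP s').2))
    by_contra hne
    obtain ⟨b', hb', -, hgen'⟩ := exists_basis_vectors hdim (hgP s).1 (hgP s).2
    obtain ⟨x, y, hxy⟩ := hgen' (g s') (hgP s').1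
    have hy : y ≠ 0 := fun hy => hne (hgspan s' s (Submodule.mem_span_singleton.2 ⟨x, by
      rw [← hxy, hy, zero_smul, add_zero]⟩)).symm
    refine hw0 (hnd w hw fun z hz => ?_)
    obtain ⟨u, v, rfl⟩ := hgen' z hz
    have hb'0 : polar Q b' w = 0 := by
      rw [← hxy, polar_add_left, polar_smul_left, polar_smul_left, hs, smul_zero, zero_add,
        smul_eq_mul] at hs'
      exact (mul_eq_zero.1 hs').resolve_left hy
    rw [polar_add_right, polar_smul_right, polar_smul_right, polar_comm Q w, hs, polar_comm Q w,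
      hb'0, smul_zero, smul_zero, add_zero]
  · have hc : (Q (g s))⁻¹ * polar Q (g s) w ≠ 0 :=
      mul_ne_zero (inv_ne_zero (Q_ne han (hgP s).1 (hgP s).2)) hs
    refine hgspan s s' (Submodule.mem_span_singleton.2
      ⟨((Q (g s))⁻¹ * polar Q (g s) w)⁻¹ * ((Q (g s'))⁻¹ * polar Q (g s') w), ?_⟩)
    rw [← smul_smul, ← h, inv_smul_smul₀ hc]

/-- Vectors of one value avoid two given lines. -/
theorem exists_off (hdim : finrank F P = 2) (hnd : Nondeg Q P) (han : Aniso Q P)
    (hq : Fintype.card F ≠ 3) {w : V} (hw : w ∈ P) (hw0 : w ≠ 0) (l l' : V) :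
    ∃ z ∈ P, Q z = Q w ∧ z ∉ Submodule.span F {l} ∧ z ∉ Submodule.span F {l'} := by
  classical
  haveI : Finite V := Module.finite_of_finite F
  haveI := Fintype.ofFinite V
  by_contra hc
  push Not at hc
  obtain ⟨f, hf, hfP⟩ := exists_circle hdim hnd han hw hw0
  set C := (Finset.univ : Finset (Option F)).image f
  have hC : C.card = Fintype.card F + 1 := by
    rw [Finset.card_image_of_injective _ hf, Finset.card_univ, Fintype.card_option]
  have hline : ∀ m : V, ∃ r : V, ∀ z ∈ C, z ∈ Submodule.span F {m} → z = r ∨ z = -r := by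
    intro m
    by_cases h : ∃ z ∈ C, z ∈ Submodule.span F {m}
    · obtain ⟨r, hr, hrm⟩ := h
      refine ⟨r, fun z hz hzm => ?_⟩
      obtain ⟨s, -, rfl⟩ := Finset.mem_image.1 hr
      obtain ⟨s', -, rfl⟩ := Finset.mem_image.1 hz
      obtain ⟨a, ha⟩ := Submodule.mem_span_singleton.1 hrm
      obtain ⟨b, hb⟩ := Submodule.mem_span_singleton.1 hzm
      have hval : Q (b • m) = Q (a • m) := by rw [ha, hb, (hfP s).2, (hfP s').2]
      rw [QuadraticMap.map_smul, QuadraticMap.map_smul, smul_eq_mul, smul_eq_mul] at hval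
      have hm : Q m ≠ 0 := fun h0 => hw0 (han w hw (by
        rw [← (hfP s).2, ← ha, QuadraticMap.map_smul, h0, smul_zero]))
      rcases mul_self_eq_mul_self_iff.1 (mul_right_cancel₀ hm hval) with h | h
      · exact Or.inl (by rw [← ha, ← hb, h])
      · exact Or.inr (by rw [← ha, ← hb, h, neg_smul])
    · exact ⟨0, fun z hz hzm => absurd ⟨z, hz, hzm⟩ h⟩
  obtain ⟨r, hr⟩ := hline l
  obtain ⟨r', hr'⟩ := hline l'
  have hsub : C ⊆ ({r, -r, r', -r'} : Finset V) := by
    intro z hz
    obtain ⟨s, -, hs⟩ := Finset.mem_image.1 hz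
    subst hs
    by_cases h : f s ∈ Submodule.span F {l}
    · rcases hr _ hz h with e | e <;> simp [e]
    · rcases hr' _ hz (hc _ (hfP s).1 (hfP s).2 h) with e | e <;> simp [e]
  have hcard := Finset.card_le_card hsub
  by_cases h2 : (2 : F) = 0
  · have hneg : ∀ z : V, -z = z := fun z => by
      rw [← neg_one_smul F z, show (-1 : F) = 1 by linear_combination -h2, one_smul]
    rw [hneg r, hneg r'] at hcard
    have h3 : (({r, r, r', r'} : Finset V)).card ≤ 2 := by
      simp only [Finset.insert_eq_of_mem, Finset.mem_insert, Finset.mem_singleton, true_or, or_true]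
      exact (Finset.card_insert_le _ _).trans (by simp)
    have := Fintype.one_lt_card (α := F)
    omega
  · have := Finset.card_le_four (a := r) (b := -r) (c := r') (d := -r')
    have := QuadClassify.card_odd (F := F) h2
    have := Fintype.one_lt_card (α := F)
    omega

/-- Non-zero increments `d` moving `w` inside its circle take at least `q / 2` values. -/
theorem exists_increments (hdim : finrank F P = 2) (hnd : Nondeg Q P) (han : Aniso Q P) {w : V}
    (hw : w ∈ P) (hw0 : w ≠ 0) :
    ∃ T : Finset F, Fintype.card F ≤ 2 * T.card ∧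
      ∀ N ∈ T, N ≠ 0 ∧ ∃ d ∈ P, Q d = N ∧ polar Q d w = -N := by
  classical
  obtain ⟨f, hf, hfP⟩ := exists_circle hdim hnd han hw hw0
  set S := (Finset.univ : Finset (Option F)).filter fun s => f s ≠ w with hS
  have hScard : Fintype.card F ≤ S.card := by
    have h1 := Finset.card_filter_add_card_filter_not (s := (Finset.univ : Finset (Option F)))
      fun s => f s ≠ w
    have h2 : ((Finset.univ : Finset (Option F)).filter fun s => ¬ f s ≠ w).card ≤ 1 := by
      refine Finset.card_le_one.2 fun a ha b hb => hf ?_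
      simp only [ne_eq, not_not, Finset.mem_filter, Finset.mem_univ, true_and] at ha hb
      rw [ha, hb]
    rw [Finset.card_univ, Fintype.card_option, ← hS] at h1
    omega
  refine ⟨S.image fun s => Q (f s - w), ?_, fun N hN => ?_⟩
  · refine hScard.trans (Finset.card_le_mul_card_image S 2 fun N _ => ?_)
    obtain ⟨π, hπ, hπ0⟩ := Submodule.exists_mem_ne_zero_of_ne_bot
      (p := P ⊓ LinearMap.ker (polarBilin Q w)) (fun hb => by
        have := QuadClassify.finrank_ker_inf P (polarBilin Q w)
        rw [hb, finrank_bot, hdim] at this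
        omega)
    have hspan : P ⊓ LinearMap.ker (polarBilin Q w) ≤ Submodule.span F {π} := by
      refine (Submodule.eq_of_le_of_finrank_le ((Submodule.span_singleton_le_iff_mem _ _).2 hπ) ?_).ge
      rw [finrank_span_singleton hπ0]
      by_contra hgt
      have hle := Submodule.eq_of_le_of_finrank_le (inf_le_left : P ⊓ LinearMap.ker (polarBilin Q w) ≤ P)
        (by omega)
      exact hw0 (hnd w hw fun z hz => (hle.ge hz).2)
    rcases (S.filter fun s => Q (f s - w) = N).eq_empty_or_nonempty with he | ⟨s₀, hs₀⟩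
    · rw [he, Finset.card_empty]; omega
    have hs₀' := (Finset.mem_filter.1 hs₀).2
    have hQπ := Q_ne han hπ.1 hπ0
    refine (Finset.card_le_card_of_injOn f (t := {f s₀, f s₀ + (-(polar Q (f s₀) π) / Q π) • π})
      (fun s hs => ?_) hf.injOn).trans Finset.card_le_two
    have hs' := (Finset.mem_filter.1 hs).2
    have hker : f s - f s₀ ∈ P ⊓ LinearMap.ker (polarBilin Q w) := by
      refine ⟨P.sub_mem (hfP s).1 (hfP s₀).1, ?_⟩
      show polar Q w (f s - f s₀) = 0
      have e : ∀ u, Q (u - w) = Q u + Q w - polar Q w u := fun u => by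
        rw [sub_eq_add_neg, QuadraticMap.map_add (⇑Q), QuadraticMap.map_neg, polar_neg_right,
          polar_comm Q u w]
        ring
      rw [e, (hfP s).2] at hs'
      rw [e, (hfP s₀).2] at hs₀'
      rw [polar_sub_right]
      linear_combination hs₀' - hs'
    obtain ⟨ν, hν⟩ := Submodule.mem_span_singleton.1 (hspan hker)
    have hfs : f s = f s₀ + ν • π := by rw [hν, add_sub_cancel]
    have hv := (hfP s).2
    rw [hfs, QuadraticMap.map_add (⇑Q), QuadraticMap.map_smul, polar_smul_right, (hfP s₀).2] at hv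
    simp only [smul_eq_mul] at hv
    have : ν * (ν * Q π + polar Q (f s₀) π) = 0 := by linear_combination hv
    simp only [Finset.coe_insert, Finset.coe_singleton, Set.mem_insert_iff, Set.mem_singleton_iff]
    rcases mul_eq_zero.1 this with h | h
    · left; rw [hfs, h, zero_smul, add_zero]
    · right; rw [hfs, show ν = -(polar Q (f s₀) π) / Q π by rw [eq_div_iff hQπ]; linear_combination h]
  · obtain ⟨s, hs, rfl⟩ := Finset.mem_image.1 hN
    have hne : f s - w ≠ 0 := sub_ne_zero.2 (Finset.mem_filter.1 hs).2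
    refine ⟨Q_ne han (P.sub_mem (hfP s).1 hw) hne, f s - w, P.sub_mem (hfP s).1 hw, rfl, ?_⟩
    rw [polar_sub_left, polar_self_mul, sub_eq_add_neg (f s) w, QuadraticMap.map_add (⇑Q),
      QuadraticMap.map_neg, polar_neg_right, (hfP s).2]
    ring

/-- Opposite increments in two planes. -/
theorem exists_opposite {P' : Submodule F V} (hdim : finrank F P = 2) (hnd : Nondeg Q P)
    (han : Aniso Q P) (hdim' : finrank F P' = 2) (hnd' : Nondeg Q P') (han' : Aniso Q P') {w w' : V}
    (hw : w ∈ P) (hw0 : w ≠ 0) (hw' : w' ∈ P') (hw0' : w' ≠ 0) :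
    ∃ N : F, N ≠ 0 ∧ (∃ d ∈ P, Q d = N ∧ polar Q d w = -N) ∧
      ∃ d' ∈ P', Q d' = -N ∧ polar Q d' w' = N := by
  classical
  obtain ⟨T, hT, hTd⟩ := exists_increments hdim hnd han hw hw0
  obtain ⟨T', hT', hTd'⟩ := exists_increments hdim' hnd' han' hw' hw0'
  have hne : ¬ Disjoint T (T'.image Neg.neg) := by
    intro hdis
    have h1 := Finset.card_union_of_disjoint hdis
    have h2 : T ∪ T'.image Neg.neg ⊆ (Finset.univ : Finset F).erase 0 := by
      intro z hz
      refine Finset.mem_erase.2 ⟨?_, Finset.mem_univ _⟩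
      rcases Finset.mem_union.1 hz with h | h
      · exact (hTd z h).1
      · obtain ⟨y, hy, rfl⟩ := Finset.mem_image.1 h
        exact neg_ne_zero.2 (hTd' y hy).1
    have h3 := Finset.card_le_card h2
    rw [h1, Finset.card_image_of_injective _ neg_injective,
      Finset.card_erase_of_mem (Finset.mem_univ _), Finset.card_univ] at h3
    have := Fintype.one_lt_card (α := F)
    omega
  obtain ⟨N, hN, hN'⟩ := Finset.not_disjoint_iff.1 hne
  obtain ⟨y, hy, rfl⟩ := Finset.mem_image.1 hN'
  obtain ⟨d', hd', hQd', hpd'⟩ := (hTd' y hy).2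
  exact ⟨-y, (hTd _ hN).1, (hTd _ hN).2, d', hd', by rw [neg_neg]; exact hQd', hpd'⟩

omit [Fintype F] in
/-- The sum of the two products of two reflections of a plane is a scalar. -/
theorem refl_trace (hdim : finrank F P = 2) {p r : V} (hp : p ∈ P) (hr : r ∈ P) (hQp : Q p ≠ 0)
    (hQr : Q r ≠ 0) (hpr : r ∉ Submodule.span F {p}) {z : V} (hz : z ∈ P) :
    (refl Q p hQp).1 ((refl Q r hQr).1 z) + (refl Q r hQr).1 ((refl Q p hQp).1 z) =
      (polar Q p r * polar Q p r / (Q p * Q r) - 2) • z := by
  have hp0 : p ≠ 0 := fun h => hQp (by rw [h, QuadraticMap.map_zero])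
  obtain ⟨b, hb, hpb, hgen⟩ := exists_basis_vectors hdim hp hp0
  obtain ⟨x, y, hxy⟩ := hgen r hr
  have hy : y ≠ 0 := fun hy => hpr (Submodule.mem_span_singleton.2 ⟨x, by
    rw [← hxy, hy, zero_smul, add_zero]⟩)
  obtain ⟨u, v, rfl⟩ := hgen z hz
  have hb' : b = y⁻¹ • r - (y⁻¹ * x) • p := by
    rw [← hxy, smul_add, smul_smul, inv_smul_smul₀ hy, add_sub_cancel_left]
  rw [hb']
  simp only [refl_apply, map_add, map_sub, map_smul, polar_add_right, polar_sub_right, polar_smul_right,
    polar_self_mul, polar_comm Q r p, smul_eq_mul]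
  match_scalars <;> field_simp <;> ring

/-- A reflection-invariant additive subgroup of an anisotropic plane is trivial or everything. -/
theorem plane_all (hdim : finrank F P = 2) (hnd : Nondeg Q P) (han : Aniso Q P)
    (hq : Fintype.card F ≠ 3) (A : AddSubgroup V) (hAP : ∀ a ∈ A, a ∈ P)
    (hinv : ∀ p ∈ P, ∀ (hp : Q p ≠ 0), ∀ a ∈ A, (refl Q p hp).1 a ∈ A) {y : V} (hy : y ∈ A)
    (hy0 : y ≠ 0) : ∀ z ∈ P, z ∈ A := by
  classical
  have hyP := hAP y hy
  let K : AddSubgroup F :=
    { carrier := {c | ∀ a ∈ A, c • a ∈ A}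
      add_mem' := fun {c d} hc hd a ha => by rw [add_smul]; exact A.add_mem (hc a ha) (hd a ha)
      zero_mem' := fun a _ => by rw [zero_smul]; exact A.zero_mem
      neg_mem' := fun {c} hc a ha => by rw [neg_smul]; exact A.neg_mem (hc a ha) }
  have h2K : (2 : F) ∈ K := fun a ha => by rw [two_smul]; exact A.add_mem ha ha
  obtain ⟨T, hT, hTd⟩ := exists_increments hdim hnd han hyP hy0
  have hQy := Q_ne han hyP hy0
  have hmem : ∀ N ∈ T, N / Q y ∈ K := by
    intro N hN
    obtain ⟨hN0, d, hd, hQd, hdy⟩ := hTd N hN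
    have hQd' : Q d ≠ 0 := by rw [hQd]; exact hN0
    by_cases hspan : y ∈ Submodule.span F {d}
    · obtain ⟨s, hs⟩ := Submodule.mem_span_singleton.1 hspan
      rw [← hs, polar_smul_right, polar_self_mul, hQd, smul_eq_mul] at hdy
      have hval : N / Q y = 4 := by
        rw [← hs, QuadraticMap.map_smul, hQd, smul_eq_mul]
        have h1 : 2 * s = -1 := mul_right_cancel₀ hN0 (by linear_combination hdy)
        have hs0 : s ≠ 0 := fun h => by rw [h, mul_zero] at h1; exact one_ne_zero (by linear_combination h1)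
        field_simp
        linear_combination (-2 * s + 1) * h1
      rw [hval, show (4 : F) = 2 + 2 by norm_num]
      exact K.add_mem h2K h2K
    · intro a ha
      have h := refl_trace hdim hd hyP hQd' hQy hspan (hAP a ha)
      have h' : (polar Q d y * polar Q d y / (Q d * Q y)) • a ∈ A := by
        have h1 := A.add_mem (A.add_mem (hinv d hd hQd' _ (hinv y hyP hQy a ha))
          (hinv y hyP hQy _ (hinv d hd hQd' a ha))) (h2K a ha)
        rw [h, sub_smul, sub_add_cancel] at h1
        exact h1
      rwa [hdy, hQd, show -N * -N / (N * Q y) = N / Q y by field_simp] at h'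
  have hKtop : K = ⊤ := by
    by_contra hne
    have hindex : 2 ≤ K.index := by
      have h0 : K.index ≠ 0 := AddSubgroup.index_ne_zero_of_finite
      have h1 : K.index ≠ 1 := fun h => hne (AddSubgroup.index_eq_one.1 h)
      omega
    have hmul := K.card_mul_index
    have hsub : insert 0 (T.image fun N => N / Q y) ⊆
        (Finset.univ : Finset F).filter (· ∈ K) := by
      intro z hz
      simp only [Finset.mem_filter, Finset.mem_univ, true_and]
      rcases Finset.mem_insert.1 hz with rfl | h
      · exact K.zero_mem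
      · obtain ⟨N, hN, rfl⟩ := Finset.mem_image.1 h
        exact hmem N hN
    have h3 := Finset.card_le_card hsub
    rw [Finset.card_insert_of_notMem (by
        simp only [Finset.mem_image, not_exists, not_and]
        exact fun N hN => div_ne_zero (hTd N hN).1 hQy),
      Finset.card_image_of_injective _ (fun a b h => (div_left_inj' hQy).1 h)] at h3
    have h4 : ((Finset.univ : Finset F).filter (· ∈ K)).card = Nat.card K := by
      rw [Nat.card_eq_fintype_card, Fintype.card_subtype]
    have h5 : Nat.card F = Fintype.card F := Nat.card_eq_fintype_card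
    nlinarith
  have hsmul : ∀ c : F, ∀ a ∈ A, c • a ∈ A := fun c => hKtop.ge (AddSubgroup.mem_top c)
  obtain ⟨b, hb, hyb, hgen⟩ := exists_basis_vectors hdim hyP hy0
  -- one further direction
  obtain ⟨p, hp, hpy, hpspan⟩ : ∃ p ∈ P, polar Q p y ≠ 0 ∧ p ∉ Submodule.span F {y} := by
    by_cases h : polar Q b y = 0
    · refine ⟨b + y, P.add_mem hb hyP, ?_, fun h' => hyb ?_⟩
      · intro h0
        rw [polar_add_left, h, zero_add] at h0
        refine hy0 (hnd y hyP fun z hz => ?_)
        obtain ⟨u, v, rfl⟩ := hgen z hz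
        rw [polar_add_right, polar_smul_right, polar_smul_right, h0, polar_comm Q y b, h]
        simp
      · simpa using Submodule.sub_mem _ h' (Submodule.mem_span_singleton_self y)
    · exact ⟨b, hb, h, hyb⟩
  have hQp := Q_ne han hp (fun h => hpy (by rw [h, polar_zero_left]))
  have hpA : p ∈ A := by
    have h1 := A.sub_mem hy (hinv p hp hQp y hy)
    rw [refl_apply, sub_sub_cancel] at h1
    have h2 := hsmul ((Q p)⁻¹ * polar Q p y)⁻¹ _ h1
    rwa [inv_smul_smul₀ (mul_ne_zero (inv_ne_zero hQp) hpy)] at h2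
  intro z hz
  obtain ⟨b', hb', hgen'⟩ : ∃ x y' : F, x • y + y' • p = z := by
    obtain ⟨u, v, huv⟩ := hgen p hp
    obtain ⟨u', v', rfl⟩ := hgen z hz
    have hv : v ≠ 0 := fun h => hpspan (Submodule.mem_span_singleton.2 ⟨u, by
      rw [← huv, h, zero_smul, add_zero]⟩)
    refine ⟨u' - v' / v * u, v' / v, ?_⟩
    rw [← huv, smul_add, smul_smul, smul_smul, div_mul_cancel₀ _ hv]
    module
  rw [← hgen']
  exact A.add_mem (hsmul _ y hy) (hsmul _ p hpA)

end Cfsg.Agent.OmegaAnisoPlane
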