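import Mathlib
import Cfsg.Agent.Lib.QuadClassify
import Cfsg.Agent.Lib.OmegaAnisoPlane

/-!
The type of an even-dimensional orthogonal space read off from the number of vectors of each value,
and its congruence with one when an element of prime order fixes no non-zero vector.
-/

set_option autoImplicit false

namespace Cfsg.Agent.OrthTypeCount73

open QuadraticMap Module
open Cfsg.Agent.QuadClassify

variable {F : Type*} [Field F] [Fintype F]

/-- The fibres over non-zero values have `N` elements, the zero fibre `N + E`. -/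
def Prof {α : Type*} (f : α → F) (N E : ℤ) : Prop :=
  (∀ c : F, c ≠ 0 → (Nat.card {a // f a = c} : ℤ) = N) ∧ (Nat.card {a // f a = 0} : ℤ) = N + E

variable {α β : Type*} {f : α → F} {g : β → F} {N E M E' : ℤ}

theorem Prof.card_eq [DecidableEq F] (h : Prof f N E) (c : F) :
    (Nat.card {a // f a = c} : ℤ) = N + if c = 0 then E else 0 := by
  split_ifs with hc
  · subst hc; exact h.2
  · rw [add_zero]; exact h.1 c hc

theorem Prof.map (h : Prof f N E) (e : α ≃ β) (he : ∀ a, g (e a) = f a) : Prof g N E := by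
  have key : ∀ c, Nat.card {b // g b = c} = Nat.card {a // f a = c} := fun c =>
    (Nat.card_congr (e.subtypeEquiv fun a => by rw [he])).symm
  exact ⟨fun c hc => by rw [key]; exact h.1 c hc, by rw [key]; exact h.2⟩

theorem Prof.unique (h : Prof f N E) (h' : Prof f M E') : E = E' := by
  have h1 := (h.1 1 one_ne_zero).symm.trans (h'.1 1 one_ne_zero)
  have h2 := h.2.symm.trans h'.2
  omega

theorem Prof.prod [Finite α] [Finite β] (h : Prof f N E) (h' : Prof g M E') :
    Prof (fun p : α × β => f p.1 + g p.2) ((Fintype.card F : ℤ) * N * M + N * E' + E * M)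
      (E * E') := by
  classical
  have key : ∀ c : F, (Nat.card {p : α × β // f p.1 + g p.2 = c} : ℤ) =
      (Fintype.card F : ℤ) * N * M + N * E' + E * M + if c = 0 then E * E' else 0 := by
    intro c
    let e : {p : α × β // f p.1 + g p.2 = c} ≃ Σ d : F, {a // f a = d} × {b // g b = c - d} :=
      { toFun := fun p => ⟨f p.1.1, ⟨p.1.1, rfl⟩, ⟨p.1.2, eq_sub_of_add_eq' p.2⟩⟩
        invFun := fun x => ⟨(x.2.1.1, x.2.2.1), by rw [x.2.1.2, x.2.2.2]; ring⟩
        left_inv := fun p => rfl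
        right_inv := by
          rintro ⟨d, ⟨a, ha⟩, ⟨b, hb⟩⟩
          subst ha
          rfl }
    rw [Nat.card_congr e, Nat.card_sigma]
    push_cast
    simp only [Nat.card_prod, Nat.cast_mul, h.card_eq, h'.card_eq, sub_eq_zero, add_mul, mul_add,
      Finset.sum_add_distrib, Finset.sum_const, Finset.card_univ, nsmul_eq_mul, mul_ite, ite_mul,
      mul_zero, zero_mul]
    simp only [Finset.sum_ite_eq, Finset.sum_ite_eq']
    simp only [Finset.mem_univ, if_true]
    split_ifs with hc <;> ring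
  refine ⟨fun c hc => ?_, ?_⟩
  · rw [key, if_neg hc, add_zero]
  · rw [key, if_pos rfl]

/-- Equal non-zero fibres determine the zero fibre. -/
theorem prof_of_const [Finite α] (N : ℤ) (h : ∀ c : F, c ≠ 0 → (Nat.card {a // f a = c} : ℤ) = N) :
    Prof f N ((Nat.card α : ℤ) - Fintype.card F * N) := by
  classical
  refine ⟨h, ?_⟩
  have h1 : Nat.card α = ∑ c : F, Nat.card {a // f a = c} := by
    rw [← Nat.card_sigma, Nat.card_congr (Equiv.sigmaFiberEquiv f)]
  rw [← Finset.add_sum_erase _ _ (Finset.mem_univ (0 : F))] at h1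
  rw [h1]
  push_cast
  rw [Finset.sum_congr rfl fun c hc => h c (Finset.ne_of_mem_erase hc), Finset.sum_const,
    Finset.card_erase_of_mem (Finset.mem_univ _), Finset.card_univ, nsmul_eq_mul,
    Nat.cast_sub Fintype.card_pos]
  push_cast
  ring

theorem prof_mul : Prof (fun p : F × F => p.1 * p.2) ((Fintype.card F : ℤ) - 1) (Fintype.card F) := by
  classical
  have h := prof_of_const (f := fun p : F × F => p.1 * p.2) ((Fintype.card F : ℤ) - 1) fun c hc => by
    let e : {p : F × F // p.1 * p.2 = c} ≃ Fˣ :=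
      { toFun := fun p => Units.mk0 p.1.1 fun h => hc (by rw [← p.2, h, zero_mul])
        invFun := fun u => ⟨(u, c / u), mul_div_cancel₀ _ u.ne_zero⟩
        left_inv := by
          rintro ⟨⟨a, b⟩, hab⟩
          have ha : a ≠ 0 := fun h => hc (by rw [← hab]; simp [h])
          refine Subtype.ext (Prod.ext rfl ?_)
          simp only [Units.val_mk0]
          rw [← hab]
          field_simp
        right_inv := fun u => Units.ext rfl }
    rw [Nat.card_congr e, Nat.card_units, Nat.card_eq_fintype_card,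
      Nat.cast_sub Fintype.card_pos]
    simp
  convert h using 1
  rw [Nat.card_prod, Nat.card_eq_fintype_card]
  push_cast
  ring

theorem prof_qPlus (m : ℕ) :
    ∃ N, Prof (Cfsg.quadFormPlus m F) N ((Fintype.card F : ℤ) ^ m) := by
  induction m with
  | zero =>
    refine ⟨0, fun c hc => ?_, ?_⟩
    · simp [Cfsg.quadFormPlus, Ne.symm hc]
    · simp [Cfsg.quadFormPlus]
  | succ m ih =>
    obtain ⟨N, hN⟩ := ih
    let e : (F × F) × (Fin m ⊕ Fin m → F) ≃ (Fin (m + 1) ⊕ Fin (m + 1) → F) :=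
      { toFun := fun p => Sum.elim (Fin.cons p.1.1 fun i => p.2 (Sum.inl i))
          (Fin.cons p.1.2 fun i => p.2 (Sum.inr i))
        invFun := fun v => ((v (Sum.inl 0), v (Sum.inr 0)),
          Sum.elim (fun i => v (Sum.inl i.succ)) fun i => v (Sum.inr i.succ))
        left_inv := fun p => by
          refine Prod.ext (by simp) (funext ?_)
          rintro (i | i) <;> simp
        right_inv := fun v => by
          funext x
          rcases x with i | i <;> refine Fin.cases ?_ ?_ i <;> simp }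
    rw [pow_succ']
    exact ⟨_, (prof_mul.prod hN).map e fun p => by
      simp [e, Cfsg.quadFormPlus, Fin.sum_univ_succ]⟩

theorem prof_qBin {a b : F}
    (hab : ∀ z₁ z₂ : F, z₁ ^ 2 + a * z₁ * z₂ + b * z₂ ^ 2 = 0 → z₁ = 0 ∧ z₂ = 0) :
    ∃ N, Prof (qBin F a b) N (-(Fintype.card F : ℤ)) := by
  classical
  set Q := qBin F a b
  have hd : finrank F (⊤ : Submodule F (Fin 2 → F)) = 2 := by simp
  have hge : ∀ c : F, c ≠ 0 → Fintype.card F + 1 ≤ Nat.card {v // Q v = c} := by
    intro c hc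
    obtain ⟨w, -, hw⟩ := aniso_represents Q (qBin_aniso hab) hd c
    obtain ⟨φ, hφ, hval⟩ := OmegaAnisoPlane.exists_circle hd (qBin_nondeg hab) (qBin_aniso hab)
      (w := w) trivial (fun h => hc (by rw [← hw, h, QuadraticMap.map_zero]))
    have := Nat.card_le_card_of_injective (fun s => (⟨φ s, (hval s).2.trans hw⟩ : {v // Q v = c}))
      fun s s' h => hφ (congrArg Subtype.val h)
    simpa [Nat.card_eq_fintype_card, Fintype.card_option] using this
  have h0 : Nat.card {v // Q v = 0} = 1 :=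
    Nat.card_eq_one_iff_unique.2 ⟨⟨fun x y => Subtype.ext
      ((qBin_aniso hab _ trivial x.2).trans (qBin_aniso hab _ trivial y.2).symm)⟩,
      ⟨⟨0, QuadraticMap.map_zero Q⟩⟩⟩
  have htot : Nat.card (Fin 2 → F) = ∑ c : F, Nat.card {v // Q v = c} := by
    rw [← Nat.card_sigma, Nat.card_congr (Equiv.sigmaFiberEquiv _)]
  rw [← Finset.add_sum_erase _ _ (Finset.mem_univ (0 : F)), h0, Nat.card_fun, Nat.card_eq_fintype_card,
    Nat.card_eq_fintype_card, Fintype.card_fin] at htot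
  have hle : ∀ c ∈ (Finset.univ : Finset F).erase 0, Fintype.card F + 1 ≤ Nat.card {v // Q v = c} :=
    fun c hc => hge c (Finset.ne_of_mem_erase hc)
  have heq := (Finset.sum_eq_sum_iff_of_le hle).1 (le_antisymm (Finset.sum_le_sum hle) (by
    rw [Finset.sum_const, Finset.card_erase_of_mem (Finset.mem_univ _), Finset.card_univ,
      smul_eq_mul]
    obtain ⟨k, hk⟩ : ∃ k, Fintype.card F = k + 1 := ⟨_, (Nat.succ_pred Fintype.card_pos.ne').symm⟩
    rw [hk] at htot ⊢
    simp only [Nat.add_sub_cancel]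
    nlinarith))
  have h := prof_of_const (f := ⇑Q) ((Fintype.card F : ℤ) + 1) fun c hc => by
    rw [← heq c (Finset.mem_erase.2 ⟨hc, Finset.mem_univ _⟩)]; simp
  refine ⟨(Fintype.card F : ℤ) + 1, ?_⟩
  convert h using 1
  rw [Nat.card_fun, Nat.card_eq_fintype_card, Nat.card_eq_fintype_card, Fintype.card_fin]
  push_cast
  ring

theorem prof_qMinus (m : ℕ) {a b : F}
    (hab : ∀ z₁ z₂ : F, z₁ ^ 2 + a * z₁ * z₂ + b * z₂ ^ 2 = 0 → z₁ = 0 ∧ z₂ = 0) :
    ∃ N, Prof (Cfsg.quadFormMinus m F a b) N (-(Fintype.card F : ℤ) ^ (m + 1)) := by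
  obtain ⟨N, hN⟩ := prof_qPlus (F := F) m
  obtain ⟨M, hM⟩ := prof_qBin hab
  refine ⟨(Fintype.card F : ℤ) * N * M + N * -(Fintype.card F : ℤ) +
    (Fintype.card F : ℤ) ^ m * M, ?_⟩
  have := (hN.prod hM).map (Equiv.sumArrowEquivProdArrow (Fin m ⊕ Fin m) (Fin 2) F).symm
    (g := Cfsg.quadFormMinus m F a b) fun p => by
      rw [qBin_apply]
      simp [Cfsg.quadFormMinus, Cfsg.quadFormPlus, Equiv.sumArrowEquivProdArrow]
  convert this using 1
  ring

/-- A non-degenerate space of dimension `2m` is of plus type or of minus type. -/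
theorem type_cases {V : Type*} [AddCommGroup V] [Module F V] [FiniteDimensional F V]
    (Q : QuadraticForm F V) (hQ : (polarBilin Q).Nondegenerate) {m : ℕ}
    (hdim : finrank F V = 2 * m) :
    (∃ g : V ≃ₗ[F] (Fin m ⊕ Fin m → F), ∀ v, Cfsg.quadFormPlus m F (g v) = Q v) ∨
      (1 ≤ m ∧ ∃ N, Prof ⇑Q N (-(Fintype.card F : ℤ) ^ m) ∧
        ∀ a b : F, (∀ z₁ z₂ : F, z₁ ^ 2 + a * z₁ * z₂ + b * z₂ ^ 2 = 0 → z₁ = 0 ∧ z₂ = 0) →
          ∃ g : V ≃ₗ[F] ((Fin (m - 1) ⊕ Fin (m - 1)) ⊕ Fin 2 → F),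
            ∀ v, Cfsg.quadFormMinus (m - 1) F a b (g v) = Q v) := by
  obtain ⟨k, e, f, W, h, hW⟩ := exists_decomp Q hQ
  have hd := h.2.2.2.2.2.1
  rw [finrank_top, hdim] at hd
  rcases (show finrank F W = 0 ∨ finrank F W = 2 by omega) with h0 | h2
  · obtain rfl : k = m := by omega
    exact Or.inl (iso_plus Q h.1 hdim)
  · obtain ⟨rfl⟩ : k + 1 = m ∧ True := ⟨by omega, trivial⟩
    refine Or.inr ⟨by omega, ?_⟩
    obtain ⟨x, -, y, -, -, -, -, hroot⟩ := exists_plane_normal Q h.2.2.2.2.2.2.1 h.2.2.2.2.2.2.2 h2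
    have hz : ∀ z₁ z₂ : F, z₁ ^ 2 + 1 * z₁ * z₂ + Q y * z₂ ^ 2 = 0 → z₁ = 0 ∧ z₂ = 0 := by
      intro z₁ z₂ h0
      by_cases hz2 : z₂ = 0
      · refine ⟨(pow_eq_zero_iff two_ne_zero).1 ?_, hz2⟩
        rw [hz2] at h0; linear_combination h0
      · refine absurd ?_ (hroot (z₁ / z₂))
        field_simp
        linear_combination h0
    obtain ⟨g, hg⟩ := iso_minus Q h h2 hz
    obtain ⟨N, hN⟩ := prof_qMinus k hz
    exact ⟨N, hN.map g.toEquiv.symm fun v => by
        rw [← hg]; simp, fun a b hab => iso_minus Q h h2 hab⟩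

/-- Forms of the two types have opposite invariants. -/
theorem exists_prof {V : Type*} [AddCommGroup V] [Module F V] [FiniteDimensional F V]
    (Q : QuadraticForm F V) (hQ : (polarBilin Q).Nondegenerate) {m : ℕ}
    (hdim : finrank F V = 2 * m) :
    ∃ N, Prof ⇑Q N ((Fintype.card F : ℤ) ^ m) ∨ Prof ⇑Q N (-(Fintype.card F : ℤ) ^ m) := by
  rcases type_cases Q hQ hdim with ⟨g, hg⟩ | ⟨-, N, hN, -⟩
  · obtain ⟨N, hN⟩ := prof_qPlus (F := F) m
    exact ⟨N, Or.inl (hN.map g.toEquiv.symm fun v => by rw [← hg]; simp)⟩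
  · exact ⟨N, Or.inr hN⟩

theorem iso_plus_of_prof {V : Type*} [AddCommGroup V] [Module F V] [FiniteDimensional F V]
    (Q : QuadraticForm F V) (hQ : (polarBilin Q).Nondegenerate) {m : ℕ}
    (hdim : finrank F V = 2 * m) (h : Prof ⇑Q N ((Fintype.card F : ℤ) ^ m)) :
    ∃ g : V ≃ₗ[F] (Fin m ⊕ Fin m → F), ∀ v, Cfsg.quadFormPlus m F (g v) = Q v := by
  rcases type_cases Q hQ hdim with hg | ⟨-, M, hM, -⟩
  · exact hg
  · have h1 := h.unique hM
    have h2 : (0 : ℤ) < (Fintype.card F : ℤ) ^ m := pow_pos (by exact_mod_cast Fintype.card_pos) _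
    omega

theorem iso_minus_of_prof {V : Type*} [AddCommGroup V] [Module F V] [FiniteDimensional F V]
    (Q : QuadraticForm F V) (hQ : (polarBilin Q).Nondegenerate) {m : ℕ}
    (hdim : finrank F V = 2 * m) (h : Prof ⇑Q N (-(Fintype.card F : ℤ) ^ m)) {a b : F}
    (hab : ∀ z₁ z₂ : F, z₁ ^ 2 + a * z₁ * z₂ + b * z₂ ^ 2 = 0 → z₁ = 0 ∧ z₂ = 0) :
    ∃ g : V ≃ₗ[F] ((Fin (m - 1) ⊕ Fin (m - 1)) ⊕ Fin 2 → F),
      ∀ v, Cfsg.quadFormMinus (m - 1) F a b (g v) = Q v := by
  rcases type_cases Q hQ hdim with ⟨g, hg⟩ | ⟨-, M, hM, hiso⟩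
  · obtain ⟨M, hM⟩ := prof_qPlus (F := F) m
    have h1 := h.unique (hM.map g.toEquiv.symm (g := ⇑Q) fun v => by rw [← hg]; simp)
    have h2 : (0 : ℤ) < (Fintype.card F : ℤ) ^ m := pow_pos (by exact_mod_cast Fintype.card_pos) _
    omega
  · exact hiso a b hab

/-- Up to a scalar every non-degenerate odd-dimensional space is the standard one. -/
theorem iso_odd {V : Type*} [AddCommGroup V] [Module F V] [FiniteDimensional F V]
    (Q : QuadraticForm F V) (hQ : (polarBilin Q).Nondegenerate) {m : ℕ}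
    (hdim : finrank F V = 2 * m + 1) :
    ∃ (c : F) (g : V ≃ₗ[F] (Unit ⊕ (Fin m ⊕ Fin m) → F)),
      c ≠ 0 ∧ ∀ v, Cfsg.quadFormOdd m F (g v) = c * Q v := by
  obtain ⟨k, e, f, W, ⟨hH, -, -, -, horth, hd, han, -⟩, hW⟩ := exists_decomp Q hQ
  rw [finrank_top, hdim] at hd
  obtain rfl : k = m := by omega
  obtain ⟨w, hw, hw0⟩ := Submodule.exists_mem_ne_zero_of_ne_bot (p := W)
    (fun hb => by rw [hb, finrank_bot] at hd; omega)
  have hQw : Q w ≠ 0 := fun h => hw0 (han w hw h)
  obtain ⟨b, -, -, -, hval⟩ := hH.exists_basis (ι := Unit) (z := fun _ => w)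
    (linearIndependent_unique_iff.2 hw0) (fun i _ => (horth i w hw).1) (fun i _ => (horth i w hw).2)
    (by simp; omega)
  set c := (Q w)⁻¹
  have hc : c ≠ 0 := inv_ne_zero hQw
  let S : (Unit ⊕ (Fin k ⊕ Fin k) → F) ≃ₗ[F] (Unit ⊕ (Fin k ⊕ Fin k) → F) :=
    LinearEquiv.piCongrRight fun x => LinearEquiv.smulOfUnit
      (Sum.elim (fun _ => (1 : Fˣ)) (Sum.elim (fun _ => Units.mk0 c hc) fun _ => 1) x)
  refine ⟨c, (b.equivFun.trans (LinearEquiv.funCongrLeft F F (Equiv.sumComm _ _))).trans S, hc,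
    fun v => ?_⟩
  rw [hval v]
  simp only [Fintype.sum_unique, QuadraticMap.map_smul, smul_eq_mul, Cfsg.quadFormOdd, S,
    LinearEquiv.trans_apply, LinearEquiv.piCongrRight_apply, LinearEquiv.funCongrLeft_apply,
    LinearMap.funLeft_apply]
  simp [LinearEquiv.smulOfUnit, Units.smul_def, mul_add, Finset.mul_sum, c]
  field_simp
  ring

/-- An isometry of prime order without fixed non-zero vectors. -/
theorem dvd_of_free {V : Type*} [AddCommGroup V] [Module F V] [Finite V] {N E : ℤ} {r : ℕ}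
    (hr : r.Prime) (Q : V → F) (h : Prof Q N E) (hQ0 : Q 0 = 0) (A : V →ₗ[F] V)
    (hQA : ∀ v, Q (A v) = Q v) (hA : A ^ r = 1) (hfix : ∀ v, A v = v → v = 0) :
    (r : ℤ) ∣ E - 1 := by
  classical
  haveI := Fact.mk hr
  haveI := Fintype.ofFinite V
  have key : ∀ c : F, ∀ k, Fintype.card (Function.fixedPoints
      (fun v : {v // Q v = c} => (⟨A v.1, (hQA v.1).trans v.2⟩ : {v // Q v = c}))) = k →
      (r : ℤ) ∣ (Nat.card {v // Q v = c} : ℤ) - k := by
    intro c k hk
    let φ : Function.End {v // Q v = c} := fun v => ⟨A v.1, (hQA v.1).trans v.2⟩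
    have hpow : ∀ n : ℕ, ∀ v : {v // Q v = c}, ((φ ^ n) v).1 = (A ^ n) v.1 := by
      intro n
      induction n with
      | zero => intro v; rfl
      | succ n ih =>
        intro v
        rw [pow_succ', pow_succ', Module.End.mul_apply, ← ih v]
        rfl
    have hφ : φ ^ r ^ 1 = 1 := funext fun v => Subtype.ext (by
      rw [pow_one, hpow, hA]; rfl)
    have h1 := Equiv.Perm.card_fixedPoints_modEq (f := φ) hφ
    rw [show Fintype.card (Function.fixedPoints φ) = k from hk] at h1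
    rw [Nat.card_eq_fintype_card]
    exact (Nat.modEq_iff_dvd.1 h1.symm)
  have hN := key 1 0 (Fintype.card_eq_zero_iff.2 ⟨fun v => by
    have := hfix v.1.1 (congrArg Subtype.val v.2)
    exact one_ne_zero (by rw [← v.1.2, this, hQ0])⟩)
  have h0 := key 0 1 (Fintype.card_eq_one_iff.2 ⟨⟨⟨0, hQ0⟩, Subtype.ext (map_zero A)⟩, fun v =>
    Subtype.ext (Subtype.ext (hfix v.1.1 (congrArg Subtype.val v.2)))⟩)
  rw [h.1 1 one_ne_zero] at hN
  rw [h.2] at h0
  have := dvd_sub h0 hN
  rwa [show N + E - ((1 : ℕ) : ℤ) - (N - ((0 : ℕ) : ℤ)) = E - 1 by push_cast; ring] at this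

end Cfsg.Agent.OrthTypeCount73
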