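/-
The type of even-dimensional subspaces of an orthogonal space, read from the numbers of vectors of
each value, is multiplicative over orthogonal sums.
-/
import Cfsg.Agent.Lib.OrthTypeCount73
import Cfsg.Agent.Lib.AutOrth45Forms
import Cfsg.Agent.Lib.OmegaGeo
import Cfsg.Agent.Lib.FormCongruence
import Cfsg.Prelude.Def_GeometricClasses

set_option autoImplicit false
set_option linter.unusedSectionVars false

namespace Cfsg.Agent.AschEvenType44

open QuadraticMap Module
open Cfsg.Agent.OrthUnitaryPrelude Cfsg.Agent.OmegaClasses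
open Cfsg.Agent.OrthTypeCount73 (Prof)
open Cfsg Cfsg.Geo

universe u

variable {F : Type*} [Field F] [Fintype F]

/-- an anisotropic binary form exists -/
theorem exists_aniso_pair :
    ∃ a b : F, ∀ z₁ z₂ : F, z₁ ^ 2 + a * z₁ * z₂ + b * z₂ ^ 2 = 0 → z₁ = 0 ∧ z₂ = 0 := by
  obtain ⟨ζ, hζ⟩ : ∃ ζ : F, ∀ t : F, t ^ 2 + t ≠ ζ := by
    by_contra h
    push Not at h
    have hinj := Finite.injective_iff_surjective.2 (show Function.Surjective fun t : F => t ^ 2 + t from h)
    have h1 := hinj (a₁ := 0) (a₂ := -1) (by ring)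
    exact one_ne_zero (α := F) (by linear_combination h1)
  refine ⟨1, -ζ, fun z₁ z₂ h => ?_⟩
  by_cases h2 : z₂ = 0
  · refine ⟨(pow_eq_zero_iff two_ne_zero).1 ?_, h2⟩
    rw [h2] at h
    linear_combination h
  · refine absurd ?_ (hζ (z₁ / z₂))
    field_simp
    linear_combination h

/-- a minus form has no totally singular subspace of half the dimension -/
theorem no_half {m : ℕ} {a b : F}
    (hab : ∀ z₁ z₂ : F, z₁ ^ 2 + a * z₁ * z₂ + b * z₂ ^ 2 = 0 → z₁ = 0 ∧ z₂ = 0) :
    ∀ U, ¬ Lagr (QuadClassify.qMinus m F a b) U := by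
  intro U₀ hU₀
  have hnd := AutOrth45Forms.nondegenerate_qMinus hab m
  let T : (Fin m → F) →ₗ[F] ((Fin m ⊕ Fin m) ⊕ Fin 2 → F) :=
    LinearMap.pi (Sum.elim (Sum.elim (fun i => LinearMap.proj i) fun _ => 0) fun _ => 0)
  have hT : ∀ x, T x = Sum.elim (Sum.elim x 0) 0 := fun x => by
    funext i
    rcases i with (i | i) | i <;> rfl
  set E := LinearMap.range T
  have hE : ∀ u ∈ E, QuadClassify.qMinus m F a b u = 0 := by
    rintro _ ⟨x, rfl⟩
    simp [hT, QuadClassify.qMinus_apply, quadFormMinus, quadFormPlus]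
  have hU := OmegaGeo.lagr_extend hnd hU₀ hE
  set U := E ⊔ U₀ ⊓ LinearMap.BilinForm.orthogonal (polarBilin (QuadClassify.qMinus m F a b)) E
  obtain ⟨u, huU, huE⟩ : ∃ u ∈ U, u ∉ E := by
    refine SetLike.not_le_iff_exists.1 fun hle => ?_
    have h1 := Submodule.finrank_mono hle
    have h2 := LinearMap.finrank_range_le T
    have h3 : Module.finrank F E ≤ Module.finrank F (Fin m → F) := h2
    have := hU.2
    rw [Module.finrank_pi] at this h3
    simp only [Fintype.card_sum, Fintype.card_fin] at this h3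
    omega
  have hy : ∀ i, u (.inl (.inr i)) = 0 := fun i => by
    have h1 := polar_of_sing hU.1
      (le_sup_left (a := E) (LinearMap.mem_range_self T (Pi.single i 1))) huU
    rw [hT] at h1
    simpa [polar, QuadClassify.qMinus_apply, quadFormMinus, quadFormPlus, Pi.single_apply, add_mul,
      Finset.sum_add_distrib, add_comm, add_left_comm] using h1
  have h0 := hU.1 u huU
  simp [QuadClassify.qMinus_apply, quadFormMinus, quadFormPlus, hy] at h0
  obtain ⟨h00, h01⟩ := hab _ _ h0
  refine huE ⟨fun i => u (.inl (.inl i)), ?_⟩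
  rw [hT]
  funext i
  rcases i with (i | i) | i
  · rfl
  · exact (hy i).symm
  · fin_cases i
    · exact h00.symm
    · exact h01.symm

variable {V : Type*} [AddCommGroup V] [Module F V] [FiniteDimensional F V]

/-- the invariant of a subspace -/
def Sgn (q : QuadraticForm F V) (W : Submodule F V) (E : ℤ) : Prop :=
  ∃ N, Prof (fun w : W => q (w : V)) N E

lemma Sgn.unique {q : QuadraticForm F V} {W : Submodule F V} {E E' : ℤ} (h : Sgn q W E) (h' : Sgn q W E') :
    E = E' := by
  obtain ⟨N, hN⟩ := h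
  obtain ⟨M, hM⟩ := h'
  exact hN.unique hM

lemma restrict_nd {q : QuadraticForm F V} {W : Submodule F V} (hW : QuadClassify.Nondeg q W) :
    (polarBilin (q.restrict W)).Nondegenerate := by
  have key : ∀ x y : W, polar (q.restrict W) x y = polar q (x : V) (y : V) := fun x y => rfl
  refine ⟨fun x hx => Subtype.ext (hW x x.2 fun y hy => ?_), fun x hx => Subtype.ext (hW x x.2 fun y hy => ?_)⟩
  · exact (key x ⟨y, hy⟩).symm.trans (hx ⟨y, hy⟩)
  · rw [polar_comm]; exact (key ⟨y, hy⟩ x).symm.trans (hx ⟨y, hy⟩)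

/-- totally singular subspaces of an isometric image -/
lemma ts_pullback {q : QuadraticForm F V} {W : Submodule F V} {κ : Type} [Fintype κ] {Q₁ : (κ → F) → F}
    (g : W ≃ₗ[F] (κ → F)) (hg : ∀ w, Q₁ (g w) = q (w : V)) {T : Submodule F (κ → F)}
    (hT : ∀ t ∈ T, Q₁ t = 0) :
    ∃ U : Submodule F V, U ≤ W ∧ (∀ u ∈ U, q u = 0) ∧ finrank F U = finrank F T := by
  refine ⟨(T.map (g.symm : (κ → F) →ₗ[F] W)).map W.subtype, ?_, ?_, ?_⟩
  · rintro _ ⟨w, -, rfl⟩
    exact w.2
  · rintro _ ⟨_, ⟨t, ht, rfl⟩, rfl⟩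
    rw [Submodule.subtype_apply, ← hg]
    simpa using hT t ht
  · rw [Submodule.finrank_map_subtype_eq, LinearEquiv.finrank_map_eq]

section Concrete

variable {ι : Type} [Fintype ι] [DecidableEq ι] {q : QuadraticForm F (ι → F)}

lemma nondeg_iff {W : Submodule F (ι → F)} :
    IsNondegenerateOn (polar ⇑q) W ↔ QuadClassify.Nondeg q W := by
  constructor
  · intro h u hu huv
    by_contra hne
    obtain ⟨-, x, hx, hux⟩ := h u hu hne
    exact hux (huv x hx)
  · intro h w hw hw0
    obtain ⟨x, hx, hwx⟩ : ∃ x ∈ W, polar q w x ≠ 0 := by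
      by_contra hn
      push Not at hn
      exact hw0 (h w hw hn)
    exact ⟨⟨x, hx, by rwa [polar_comm]⟩, x, hx, hwx⟩

/-- the two types and their invariants -/
theorem sgn_cases {W : Submodule F (ι → F)} (hW : QuadClassify.Nondeg q W) {m : ℕ}
    (hd : finrank F W = 2 * m) :
    (IsPlusTypeOn (⇑q) W ∧ Sgn q W ((Fintype.card F : ℤ) ^ m)) ∨
      (¬ IsPlusTypeOn (⇑q) W ∧ 1 ≤ m ∧ Sgn q W (-(Fintype.card F : ℤ) ^ m)) := by
  rcases OrthTypeCount73.type_cases (q.restrict W) (restrict_nd hW) hd with ⟨g, hg⟩ | ⟨hm, N, hN, hiso⟩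
  · left
    obtain ⟨N, hN⟩ := OrthTypeCount73.prof_qPlus (F := F) m
    refine ⟨?_, N, hN.map g.toEquiv.symm fun v => ?_⟩
    · let T : (Fin m → F) →ₗ[F] (Fin m ⊕ Fin m → F) :=
        LinearMap.pi (Sum.elim (fun i => LinearMap.proj i) fun _ => 0)
      have hT : ∀ x, T x = Sum.elim x 0 := fun x => by
        funext i
        rcases i with i | i <;> rfl
      obtain ⟨U, hUW, hU, hUd⟩ := ts_pullback g (fun w => hg w) (T := LinearMap.range T) (by
        rintro _ ⟨x, rfl⟩
        simp [hT, Cfsg.quadFormPlus])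
      refine ⟨U, hUW, hU, ?_⟩
      rw [hUd, LinearMap.finrank_range_of_inj (fun x y h => funext fun i => by
        simpa [hT] using congrFun h (Sum.inl i)), Module.finrank_pi, Fintype.card_fin, hd]
    · have h1 := hg (g.symm v)
      rw [LinearEquiv.apply_symm_apply] at h1
      exact h1.symm
  · refine Or.inr ⟨?_, hm, N, hN⟩
    rintro ⟨U, hUW, hU, hUd⟩
    obtain ⟨a, b, hab⟩ := exists_aniso_pair (F := F)
    obtain ⟨g, hg⟩ := hiso a b hab
    refine no_half (m := m - 1) hab ((U.comap W.subtype).map g.toLinearMap) ⟨?_, ?_⟩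
    · rintro _ ⟨w, hw, rfl⟩
      rw [QuadClassify.qMinus_apply, LinearEquiv.coe_coe, hg]
      exact hU _ hw
    · rw [LinearEquiv.finrank_map_eq, (Submodule.comapSubtypeEquivOfLe hUW).finrank_eq, hUd, hd,
        Module.finrank_pi]
      simp only [Fintype.card_sum, Fintype.card_fin]
      omega

lemma qpos : (0 : ℤ) < (Fintype.card F : ℤ) := by exact_mod_cast Fintype.card_pos

/-- a plus subspace has positive invariant -/
theorem sgn_plus {W : Submodule F (ι → F)} (hW : QuadClassify.Nondeg q W) {m : ℕ} (hd : finrank F W = 2 * m)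
    (hp : IsPlusTypeOn (⇑q) W) : Sgn q W ((Fintype.card F : ℤ) ^ m) := by
  rcases sgn_cases hW hd with ⟨-, h⟩ | ⟨hn, -, -⟩
  · exact h
  · exact absurd hp hn

/-- a minus subspace has negative invariant -/
theorem sgn_minus {W : Submodule F (ι → F)} (hW : QuadClassify.Nondeg q W) {m : ℕ} (hd : finrank F W = 2 * m)
    (hp : ¬ IsPlusTypeOn (⇑q) W) : Sgn q W (-(Fintype.card F : ℤ) ^ m) := by
  rcases sgn_cases hW hd with ⟨h, -⟩ | ⟨-, -, h⟩
  · exact absurd h hp
  · exact h

/-- the invariant decides the type -/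
theorem plus_of_sgn {W : Submodule F (ι → F)} (hW : QuadClassify.Nondeg q W) {m : ℕ} (hd : finrank F W = 2 * m)
    (h : Sgn q W ((Fintype.card F : ℤ) ^ m)) : IsPlusTypeOn (⇑q) W := by
  by_contra hn
  have h1 := h.unique (sgn_minus hW hd hn)
  have h2 := pow_pos (qpos (F := F)) m
  omega

theorem not_plus_of_sgn {W : Submodule F (ι → F)} (hW : QuadClassify.Nondeg q W) {m : ℕ} (hd : finrank F W = 2 * m)
    (h : Sgn q W (-(Fintype.card F : ℤ) ^ m)) : ¬ IsPlusTypeOn (⇑q) W := by
  intro hp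
  have h1 := h.unique (sgn_plus hW hd hp)
  have h2 := pow_pos (qpos (F := F)) m
  omega

/-- isometric subspaces have the same invariant -/
theorem sgn_isometric {W W' : Submodule F (ι → F)} (h : AreIsometricFor (⇑q) W W') {E : ℤ} (hE : Sgn q W E) :
    Sgn q W' E := by
  obtain ⟨e, he⟩ := h
  obtain ⟨N, hN⟩ := hE
  exact ⟨N, hN.map e.toEquiv fun w => he w⟩

/-- subspaces of the same dimension and type are isometric -/
theorem isometric_of_type {W W' : Submodule F (ι → F)} (hW : QuadClassify.Nondeg q W) (hW' : QuadClassify.Nondeg q W')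
    {m : ℕ} (hd : finrank F W = 2 * m) (hd' : finrank F W' = 2 * m)
    (h : IsPlusTypeOn (⇑q) W ↔ IsPlusTypeOn (⇑q) W') : AreIsometricFor (⇑q) W W' := by
  by_cases hp : IsPlusTypeOn (⇑q) W
  · obtain ⟨N, hN⟩ := sgn_plus hW hd hp
    obtain ⟨N', hN'⟩ := sgn_plus hW' hd' (h.1 hp)
    obtain ⟨g, hg⟩ := OrthTypeCount73.iso_plus_of_prof (q.restrict W) (restrict_nd hW) hd hN
    obtain ⟨g', hg'⟩ := OrthTypeCount73.iso_plus_of_prof (q.restrict W') (restrict_nd hW') hd' hN'
    exact ⟨g.trans g'.symm, fun w => by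
      show q.restrict W' _ = q.restrict W w
      rw [← hg', LinearEquiv.trans_apply, LinearEquiv.apply_symm_apply, hg]⟩
  · obtain ⟨a, b, hab⟩ := exists_aniso_pair (F := F)
    obtain ⟨N, hN⟩ := sgn_minus hW hd hp
    obtain ⟨N', hN'⟩ := sgn_minus hW' hd' (fun h' => hp (h.2 h'))
    obtain ⟨g, hg⟩ := OrthTypeCount73.iso_minus_of_prof (q.restrict W) (restrict_nd hW) hd hN hab
    obtain ⟨g', hg'⟩ := OrthTypeCount73.iso_minus_of_prof (q.restrict W') (restrict_nd hW') hd' hN' hab
    exact ⟨g.trans g'.symm, fun w => by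
      show q.restrict W' _ = q.restrict W w
      rw [← hg', LinearEquiv.trans_apply, LinearEquiv.apply_symm_apply, hg]⟩

/-- pairwise orthogonal non-degenerate subspaces are independent -/
theorem indep_of_orth {t : ℕ} {D : Fin t → Submodule F (ι → F)} (hnd : ∀ i, QuadClassify.Nondeg q (D i))
    (horth : ∀ i j, i ≠ j → ∀ x ∈ D i, ∀ y ∈ D j, polar q x y = 0) : iSupIndep D := by
  intro i
  rw [Submodule.disjoint_def]
  intro x hx hx'
  refine hnd i x hx fun v hv => ?_
  have key : (⨆ (j : Fin t) (_ : j ≠ i), D j) ≤ LinearMap.ker ((polarBilin q).flip v) :=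
    iSup₂_le fun j hj y hy => horth j i hj y hy v hv
  exact key hx'

/-- the sum over a product -/
theorem prof_pi : ∀ {t : ℕ} {α : Fin t → Type u} [∀ i, Finite (α i)] {f : ∀ i, α i → F} {N E : Fin t → ℤ},
    (∀ i, Prof (f i) (N i) (E i)) → ∃ M, Prof (fun x : ∀ i, α i => ∑ i, f i (x i)) M (∏ i, E i) := by
  intro t
  induction t with
  | zero =>
    intro α _ f N E _
    exact ⟨0, fun c hc => by simp [Ne.symm hc], by simp⟩
  | succ t ih =>
    intro α _ f N E h
    obtain ⟨M, hM⟩ := ih (fun i : Fin t => h i.succ)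
    rw [Fin.prod_univ_succ]
    refine ⟨_, ((h 0).prod hM).map (Fin.consEquiv α) fun p => ?_⟩
    rw [Fin.sum_univ_succ]
    simp [Fin.consEquiv]

/-- the invariant of an orthogonal sum -/
theorem sgn_sum {t : ℕ} {D : Fin t → Submodule F (ι → F)} (hind : iSupIndep D)
    (horth : ∀ i j, i ≠ j → ∀ x ∈ D i, ∀ y ∈ D j, polar q x y = 0) {E : Fin t → ℤ}
    (hE : ∀ i, Sgn q (D i) (E i)) : Sgn q (iSup D) (∏ i, E i) := by
  classical
  choose N hN using hE
  obtain ⟨M, hM⟩ := prof_pi hN
  let L : (∀ i, D i) →ₗ[F] (iSup D : Submodule F (ι → F)) :=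
    LinearMap.codRestrict _ (∑ i, (D i).subtype.comp (LinearMap.proj i)) fun x => by
      rw [LinearMap.sum_apply]
      exact Submodule.sum_mem _ fun i _ => Submodule.mem_iSup_of_mem i (x i).2
  have hLx : ∀ x, (L x : ι → F) = ∑ i, (x i : ι → F) := fun x => by simp [L]
  have hbij : Function.Bijective L := by
    constructor
    · rw [← LinearMap.ker_eq_bot, LinearMap.ker_eq_bot']
      intro x hx
      have h1 : ∑ i, (x i : ι → F) = 0 := by rw [← hLx, hx]; rfl
      funext i
      refine Subtype.ext (Submodule.disjoint_def.1 (hind i) _ (x i).2 ?_)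
      rw [← Finset.add_sum_erase _ _ (Finset.mem_univ i)] at h1
      rw [eq_neg_of_add_eq_zero_left h1]
      exact neg_mem (Submodule.sum_mem _ fun j hj => Submodule.mem_iSup_of_mem j
        (Submodule.mem_iSup_of_mem (Finset.ne_of_mem_erase hj) (x j).2))
    · rintro ⟨y, hy⟩
      induction hy using Submodule.iSup_induction' with
      | mem i y hy =>
        refine ⟨Pi.single i ⟨y, hy⟩, Subtype.ext ?_⟩
        rw [hLx, Finset.sum_eq_single i (fun j _ hj => by simp [hj]) (by simp)]
        simp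
      | zero => exact ⟨0, Subtype.ext (by rw [map_zero]; rfl)⟩
      | add a b _ _ ha hb =>
        obtain ⟨x, hx⟩ := ha
        obtain ⟨y, hy⟩ := hb
        exact ⟨x + y, by rw [map_add, hx, hy]; rfl⟩
  refine ⟨M, hM.map (LinearEquiv.ofBijective L hbij).toEquiv fun x => ?_⟩
  show q (L x : ι → F) = _
  rw [hLx, QuadClassify.map_sum_ortho q Finset.univ _ fun i _ j _ hij =>
    horth i j hij _ (x i).2 _ (x j).2]

/-- a plane on two orthogonal non-singular vectors -/
theorem plane_data (h2 : (2 : F) ≠ 0) {v w : ι → F} (hv : q v ≠ 0) (hw : q w ≠ 0) (hvw : polar q v w = 0) :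
    QuadClassify.Nondeg q (Submodule.span F {v, w}) ∧ finrank F (Submodule.span F {v, w}) = 2 ∧
      ((∀ x : F, q v + x ^ 2 * q w ≠ 0) → ¬ IsPlusTypeOn (⇑q) (Submodule.span F {v, w})) ∧
      ∀ x : F, q v + x ^ 2 * q w = 0 → IsPlusTypeOn (⇑q) (Submodule.span F {v, w}) := by
  have hp : ∀ a b : F, q (a • v + b • w) = a ^ 2 * q v + b ^ 2 * q w := fun a b => by
    rw [QuadraticMap.map_add q, QuadraticMap.map_smul, QuadraticMap.map_smul, polar_smul_left, polar_smul_right,
      hvw]
    simp only [smul_eq_mul]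
    ring
  have hpl : ∀ a b : F, polar q (a • v + b • w) v = a * (2 * q v) ∧
      polar q (a • v + b • w) w = b * (2 * q w) := fun a b => by
    simp [polar_add_left, polar_smul_left, hvw, polar_comm q w v, two_mul, two_smul, OrthUnitaryQuad.polar_self_mul]
  have hzero : ∀ a b : F, a • v + b • w = 0 → a = 0 ∧ b = 0 := fun a b h => by
    obtain ⟨h1, h3⟩ := hpl a b
    rw [h, polar_zero_left] at h1 h3
    exact ⟨(mul_eq_zero.1 h1.symm).resolve_right (mul_ne_zero h2 hv),
      (mul_eq_zero.1 h3.symm).resolve_right (mul_ne_zero h2 hw)⟩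
  have hd : finrank F (Submodule.span F {v, w}) = 2 := by
    have hli : LinearIndependent F ![v, w] := LinearIndependent.pair_iff.2 hzero
    have := finrank_span_eq_card hli
    rwa [Matrix.range_cons_cons_empty, Fintype.card_fin] at this
  refine ⟨fun u hu h => ?_, hd, fun hx hp' => ?_, fun x hx => ?_⟩
  · obtain ⟨a, b, rfl⟩ := Submodule.mem_span_pair.1 hu
    obtain ⟨h1, h3⟩ := hpl a b
    rw [h v (Submodule.subset_span (by simp))] at h1
    rw [h w (Submodule.subset_span (by simp))] at h3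
    rw [(mul_eq_zero.1 h1.symm).resolve_right (mul_ne_zero h2 hv),
      (mul_eq_zero.1 h3.symm).resolve_right (mul_ne_zero h2 hw)]
    simp
  · obtain ⟨U, hUW, hU, hUd⟩ := hp'
    rw [hd] at hUd
    obtain ⟨u, hu, hu0⟩ := (Submodule.ne_bot_iff U).1 fun hb => by
      rw [hb, finrank_bot] at hUd; omega
    obtain ⟨a, b, rfl⟩ := Submodule.mem_span_pair.1 (hUW hu)
    have h1 := hU _ hu
    rw [hp] at h1
    by_cases ha : a = 0
    · subst ha
      refine hu0 ?_
      have hb : b = 0 := by simpa [hw] using h1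
      simp [hb]
    · refine hx (b / a) ?_
      field_simp
      linear_combination h1
  · refine ⟨Submodule.span F {(1 : F) • v + x • w}, (Submodule.span_singleton_le_iff_mem _ _).2
      (Submodule.mem_span_pair.2 ⟨1, x, rfl⟩), fun u hu => ?_, ?_⟩
    · obtain ⟨c, rfl⟩ := Submodule.mem_span_singleton.1 hu
      rw [QuadraticMap.map_smul, hp, one_pow, one_mul, hx, smul_zero]
    · rw [finrank_span_singleton fun h => one_ne_zero (hzero _ _ h).1, hd]

/-- the type of an orthogonal sum of isometric members of even dimension -/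
theorem plus_iff_members (hnd : (polarBilin q).Nondegenerate) {t j : ℕ} {D : Fin t → Submodule F (ι → F)}
    (hD : IsOrthogonalMDecomposition (⇑q) (2 * j) D) (i : Fin t) :
    IsPlusTypeOn (⇑q) ⊤ ↔ (IsPlusTypeOn (⇑q) (D i) ∨ Even t) := by
  have hn : ∀ l, QuadClassify.Nondeg q (D l) := fun l => nondeg_iff.1 (hD.decomp.nondegenerate l)
  have hd : ∀ l, finrank F (D l) = 2 * j := fun l => hD.decomp.decomp.finrank_eq l
  have hj : 1 ≤ j := by have := hD.decomp.decomp.pos; omega
  have hn0 : QuadClassify.Nondeg q ⊤ := QuadClassify.nondeg_top hnd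
  have hcard : finrank F (⊤ : Submodule F (ι → F)) = 2 * (j * t) := by
    have h1 := DirectSum.isInternal_submodule_of_iSupIndep_of_iSup_eq_top hD.decomp.decomp.indep
      hD.decomp.decomp.iSup_eq_top
    have h2 := Module.finrank_eq_card_basis (h1.collectedBasis fun l => Module.finBasis F (D l))
    rw [Fintype.card_sigma] at h2
    simp only [Fintype.card_fin, hd, Finset.sum_const, Finset.card_univ, smul_eq_mul] at h2
    rw [finrank_top, h2]
    ring
  set Q : ℤ := (Fintype.card F : ℤ) with hQ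
  have hQj := pow_pos (qpos (F := F)) j
  have key : ∀ E : ℤ, Sgn q (D i) E → Sgn q ⊤ (E ^ t) := by
    intro E hE
    have h1 := sgn_sum (q := q) hD.decomp.decomp.indep
      (fun a b hab x hx y hy => hD.decomp.orthogonal a b hab x hx y hy) (fun l => sgn_isometric (hD.isometric i l) hE)
    rwa [hD.decomp.decomp.iSup_eq_top, Finset.prod_const, Finset.card_univ, Fintype.card_fin] at h1
  by_cases hp : IsPlusTypeOn (⇑q) (D i)
  · have h1 := key _ (sgn_plus (hn i) (hd i) hp)
    rw [← pow_mul] at h1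
    simp [hp, plus_of_sgn hn0 hcard h1]
  · have h1 := key _ (sgn_minus (hn i) (hd i) hp)
    rcases Nat.even_or_odd t with he | ho
    · rw [he.neg_pow, ← pow_mul] at h1
      simp [he, plus_of_sgn hn0 hcard h1]
    · rw [ho.neg_pow, ← pow_mul] at h1
      simp [hp, Nat.not_even_iff_odd.2 ho, not_plus_of_sgn hn0 hcard h1]

/-- the shape of an odd-dimensional member -/
theorem odd_split {U : Submodule F (ι → F)} (hU : QuadClassify.Nondeg q U) {j : ℕ}
    (hd : finrank F U = 2 * j + 1) :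
    ∃ (c : F) (g : U ≃ₗ[F] (Unit ⊕ (Fin j ⊕ Fin j) → F)), c ≠ 0 ∧
      ∀ v, Cfsg.quadFormOdd j F (g v) = c * q (v : ι → F) := by
  obtain ⟨c, g, hc, hg⟩ := OrthTypeCount73.iso_odd (q.restrict U) (restrict_nd hU) hd
  exact ⟨c, g, hc, hg⟩

/-- two orthogonal halves of odd dimension -/
theorem odd_pair (hnd : (polarBilin q).Nondegenerate) (h2 : (2 : F) ≠ 0) {U U' : Submodule F (ι → F)}
    (hU : QuadClassify.Nondeg q U) (hU' : QuadClassify.Nondeg q U') {j : ℕ}
    (hd : finrank F U = 2 * j + 1) (hd' : finrank F U' = 2 * j + 1)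
    (horth : ∀ x ∈ U, ∀ y ∈ U', polar q x y = 0) (hsup : U ⊔ U' = ⊤) :
    (IsPlusTypeOn (⇑q) ⊤ → AreIsometricFor (⇑q) U U' → IsSquare (-1 : F)) ∧
    (IsPlusTypeOn (⇑q) ⊤ → ¬ AreIsometricFor (⇑q) U U' → ¬ IsSquare (-1 : F)) ∧
    (¬ IsPlusTypeOn (⇑q) ⊤ → AreIsometricFor (⇑q) U U' → ¬ IsSquare (-1 : F)) ∧
    (¬ IsPlusTypeOn (⇑q) ⊤ → ¬ AreIsometricFor (⇑q) U U' → IsSquare (-1 : F)) := by
  classical
  obtain ⟨c, g, hc, hg⟩ := odd_split hU hd
  obtain ⟨c', g', hc', hg'⟩ := odd_split hU' hd'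
  -- equal classes give an isometry
  have hiso : IsSquare (c / c') → AreIsometricFor (⇑q) U U' := by
    rintro ⟨s, hs⟩
    have hs0 : s ≠ 0 := fun h => by
      rw [h, mul_zero, div_eq_zero_iff] at hs
      exact hs.elim hc hc'
    refine ⟨g.trans ((LinearEquiv.smulOfUnit (Units.mk0 s⁻¹ (inv_ne_zero hs0))).trans g'.symm), fun w => ?_⟩
    have h1 := hg' (g'.symm ((s⁻¹ : F) • g w))
    rw [LinearEquiv.apply_symm_apply] at h1
    have h3 : Cfsg.quadFormOdd j F ((s⁻¹ : F) • g w) = s⁻¹ ^ 2 * Cfsg.quadFormOdd j F (g w) := by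
      rw [← QuadClassify.qOdd_coe, QuadraticMap.map_smul, smul_eq_mul, _root_.sq]
    rw [h3, hg] at h1
    show q ((g'.symm ((s⁻¹ : F) • g w) : U') : ι → F) = q (w : ι → F)
    apply mul_left_cancel₀ hc'
    rw [← h1]
    have hcs : c = s * s * c' := by rw [← hs, div_mul_cancel₀ _ hc']
    rw [hcs]
    field_simp
  -- a split vector in each half
  have half : ∀ {W : Submodule F (ι → F)} {d : F} (k : W ≃ₗ[F] (Unit ⊕ (Fin j ⊕ Fin j) → F)), d ≠ 0 →
      (∀ v, Cfsg.quadFormOdd j F (k v) = d * q (v : ι → F)) →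
      ∃ (v : ι → F) (W₀ : Submodule F (ι → F)), v ∈ W ∧ q v = d⁻¹ ∧ W₀ ≤ W ∧ finrank F W₀ = 2 * j ∧
        Sgn q W₀ ((Fintype.card F : ℤ) ^ j) ∧ QuadClassify.Nondeg q W₀ ∧ (∀ x ∈ W₀, polar q v x = 0) ∧
        W = Submodule.span F {v} ⊔ W₀ := by
    intro W d k hd0 hk
    let e₀ : Unit ⊕ (Fin j ⊕ Fin j) → F := Sum.elim (fun _ => 1) 0
    let T : (Fin j ⊕ Fin j → F) →ₗ[F] W :=
      (k.symm : (Unit ⊕ (Fin j ⊕ Fin j) → F) →ₗ[F] W).comp
        (LinearMap.pi (Sum.elim (fun _ => 0) fun i => LinearMap.proj i))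
    have hTx : ∀ x, k (T x) = Sum.elim (fun _ => 0) x := fun x => by
      simp only [T, LinearMap.comp_apply, LinearEquiv.coe_coe, LinearEquiv.apply_symm_apply]
      funext i
      rcases i with i | i <;> rfl
    set v : W := k.symm e₀
    have hQv : q (v : ι → F) = d⁻¹ := by
      have h1 := hk v
      rw [LinearEquiv.apply_symm_apply] at h1
      simp [e₀, Cfsg.quadFormOdd] at h1
      exact eq_inv_of_mul_eq_one_right h1.symm
    have hQT : ∀ x, q (T x : ι → F) = d⁻¹ * Cfsg.quadFormPlus j F x := fun x => by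
      have h1 := hk (T x)
      rw [hTx] at h1
      simp [Cfsg.quadFormOdd] at h1
      simp only [Cfsg.quadFormPlus]
      rw [h1, inv_mul_cancel_left₀ hd0]
    have hperp : ∀ x, polar q (v : ι → F) (T x : ι → F) = 0 := fun x => by
      have h1 := hk (v + T x)
      rw [map_add, LinearEquiv.apply_symm_apply, hTx, Submodule.coe_add, QuadraticMap.map_add q, hQv, hQT] at h1
      simp [e₀, Cfsg.quadFormOdd, Cfsg.quadFormPlus, mul_add, hd0] at h1
      exact h1
    have hTinj : Function.Injective T := fun x y h => by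
      have h1 := congrArg k h
      rw [hTx, hTx] at h1
      exact funext fun i => congrFun h1 (Sum.inr i)
    refine ⟨v, (LinearMap.range T).map W.subtype, v.2, hQv, ?_, ?_, ?_, ?_, ?_, ?_⟩
    · rintro _ ⟨x, -, rfl⟩
      exact x.2
    · rw [Submodule.finrank_map_subtype_eq, LinearMap.finrank_range_of_inj hTinj, Module.finrank_pi]
      simp only [Fintype.card_sum, Fintype.card_fin]
      omega
    · obtain ⟨N, hN⟩ := OrthTypeCount73.prof_qPlus (F := F) j
      refine ⟨N, ?_⟩
      have hS : Prof (fun x => q (T x : ι → F)) N ((Fintype.card F : ℤ) ^ j) := by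
        refine ⟨fun a ha => ?_, ?_⟩
        · rw [← hN.1 (d * a) (mul_ne_zero hd0 ha)]
          congr 1
          refine Nat.card_congr (Equiv.subtypeEquivRight fun x => ?_)
          simp only [hQT, inv_mul_eq_iff_eq_mul₀ hd0]
        · rw [← hN.2]
          congr 1
          exact Nat.card_congr (Equiv.subtypeEquivRight fun x => by simp [hQT, hd0])
      let eW : (Fin j ⊕ Fin j → F) ≃ₗ[F] ((LinearMap.range T).map W.subtype : Submodule F (ι → F)) :=
        (LinearEquiv.ofInjective T hTinj).trans (Submodule.equivMapOfInjective _ W.subtype_injective _)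
      exact hS.map eW.toEquiv fun x => rfl
    · rintro _ ⟨_, ⟨x, rfl⟩, rfl⟩ hx
      suffices x = 0 by subst this; simp
      funext i
      have hpol : ∀ y, polar q (T x : ι → F) (T y : ι → F) = d⁻¹ * polar (Cfsg.quadFormPlus j F) x y := fun y => by
        simp only [polar, ← Submodule.coe_add, ← map_add, hQT]
        ring
      rcases i with i | i
      · have h1 := hx _ ⟨_, ⟨Pi.single (Sum.inr i) 1, rfl⟩, rfl⟩
        simp only [Submodule.subtype_apply] at h1
        rw [hpol, mul_eq_zero] at h1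
        simpa [polar, Cfsg.quadFormPlus, add_mul, mul_add, Finset.sum_add_distrib, Pi.single_apply]
          using h1.resolve_left (inv_ne_zero hd0)
      · have h1 := hx _ ⟨_, ⟨Pi.single (Sum.inl i) 1, rfl⟩, rfl⟩
        simp only [Submodule.subtype_apply] at h1
        rw [hpol, mul_eq_zero] at h1
        simpa [polar, Cfsg.quadFormPlus, add_mul, mul_add, Finset.sum_add_distrib, Pi.single_apply]
          using h1.resolve_left (inv_ne_zero hd0)
    · rintro _ ⟨_, ⟨x, rfl⟩, rfl⟩
      exact hperp x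
    · refine le_antisymm (fun w hw => ?_) (sup_le ((Submodule.span_singleton_le_iff_mem _ _).2 v.2) (by
        rintro _ ⟨x, -, rfl⟩; exact x.2))
      obtain ⟨z, hz⟩ : ∃ z, z = k ⟨w, hw⟩ := ⟨_, rfl⟩
      have h1 : (⟨w, hw⟩ : W) = z (Sum.inl ()) • v + T fun i => z (Sum.inr i) := k.injective (by
        rw [map_add, map_smul, LinearEquiv.apply_symm_apply, hTx, ← hz]
        funext i
        rcases i with i | i <;> simp [e₀])
      rw [show w = z (Sum.inl ()) • (v : ι → F) + (T fun i => z (Sum.inr i) : ι → F) from congrArg Subtype.val h1]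
      exact Submodule.add_mem_sup (Submodule.smul_mem _ _ (Submodule.mem_span_singleton_self _))
        ⟨_, ⟨_, rfl⟩, rfl⟩
  -- the type from a pair of split vectors
  have decide_type : ∀ {v v' : ι → F} {W₀ W₀' : Submodule F (ι → F)}, v ∈ U → v' ∈ U' → q v ≠ 0 → q v' ≠ 0 →
      W₀ ≤ U → W₀' ≤ U' → Sgn q W₀ ((Fintype.card F : ℤ) ^ j) → Sgn q W₀' ((Fintype.card F : ℤ) ^ j) →
      QuadClassify.Nondeg q W₀ → QuadClassify.Nondeg q W₀' → (∀ x ∈ W₀, polar q v x = 0) →
      (∀ x ∈ W₀', polar q v' x = 0) → U = Submodule.span F {v} ⊔ W₀ → U' = Submodule.span F {v'} ⊔ W₀' →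
      (IsPlusTypeOn (⇑q) ⊤ ↔ ∃ x : F, q v + x ^ 2 * q v' = 0) := by
    intro v v' W₀ W₀' hv hv' hQv hQv' hW hW' hs hs' hn hn' hp hp' hsp hsp'
    obtain ⟨hPn, hPd, hPm, hPp⟩ := plane_data h2 hQv hQv' (horth v hv v' hv')
    set P := Submodule.span F {v, v'}
    have hPle : ∀ x ∈ W₀, ∀ y ∈ P, polar q x y = 0 := fun x hx y hy => by
      obtain ⟨a, b, rfl⟩ := Submodule.mem_span_pair.1 hy
      rw [polar_add_right, polar_smul_right, polar_smul_right, (polar_comm _ x v).trans (hp x hx),
        horth x (hW hx) v' hv', smul_zero, smul_zero, add_zero]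
    have hPle' : ∀ x ∈ W₀', ∀ y ∈ P, polar q x y = 0 := fun x hx y hy => by
      obtain ⟨a, b, rfl⟩ := Submodule.mem_span_pair.1 hy
      rw [polar_add_right, polar_smul_right, polar_smul_right, (polar_comm _ x v').trans (hp' x hx),
        (polar_comm _ x v).trans (horth v hv x (hW' hx)), smul_zero, smul_zero, add_zero]
    have hor : ∀ a b : Fin 3, a ≠ b → ∀ x ∈ (![W₀, W₀', P] : Fin 3 → _) a, ∀ y ∈ (![W₀, W₀', P] : Fin 3 → _) b,
        polar q x y = 0 := by
      intro a b hab x hx y hy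
      fin_cases a <;> fin_cases b <;> first | exact absurd rfl hab | skip
      · exact horth x (hW hx) y (hW' hy)
      · exact hPle x hx y hy
      · exact (polar_comm _ x y).trans (horth y (hW hy) x (hW' hx))
      · exact hPle' x hx y hy
      · exact (polar_comm _ x y).trans (hPle y hy x hx)
      · exact (polar_comm _ x y).trans (hPle' y hy x hx)
    have hnn : ∀ a : Fin 3, QuadClassify.Nondeg q ((![W₀, W₀', P] : Fin 3 → _) a) := by
      intro a
      fin_cases a <;> assumption
    have htop : iSup (![W₀, W₀', P] : Fin 3 → Submodule F (ι → F)) = ⊤ := by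
      rw [eq_top_iff, ← hsup, hsp, hsp']
      refine sup_le (sup_le ?_ ?_) (sup_le ?_ ?_)
      · exact le_iSup_of_le (2 : Fin 3) (Submodule.span_mono (by simp))
      · exact le_iSup_of_le (0 : Fin 3) le_rfl
      · exact le_iSup_of_le (2 : Fin 3) (Submodule.span_mono (by simp))
      · exact le_iSup_of_le (1 : Fin 3) le_rfl
    have hcard : finrank F (⊤ : Submodule F (ι → F)) = 2 * (2 * j + 1) := by
      have h1 := Submodule.finrank_sup_add_finrank_inf_eq U U'
      have hz : U ⊓ U' = ⊥ := (Submodule.eq_bot_iff _).2 fun x hx =>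
        hU x hx.1 fun y hy => (polar_comm _ x y).trans (horth y hy x hx.2)
      rw [hsup, hz, finrank_bot, hd, hd'] at h1
      omega
    by_cases hx : ∃ x : F, q v + x ^ 2 * q v' = 0
    · obtain ⟨x, hx'⟩ := hx
      have hE := sgn_plus hPn (m := 1) hPd (hPp x hx')
      have h1 := sgn_sum (q := q) (indep_of_orth hnn hor) hor
        (E := ![(Fintype.card F : ℤ) ^ j, (Fintype.card F : ℤ) ^ j, (Fintype.card F : ℤ) ^ 1])
        (fun a => by fin_cases a <;> assumption)
      rw [htop, Fin.prod_univ_three] at h1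
      simp only [Matrix.cons_val_zero, Matrix.cons_val_one, Matrix.cons_val] at h1
      rw [← pow_add, ← pow_add, show j + j + 1 = 2 * j + 1 by ring] at h1
      exact iff_of_true (plus_of_sgn (QuadClassify.nondeg_top hnd) hcard h1) ⟨x, hx'⟩
    · push Not at hx
      have hE := sgn_minus hPn (m := 1) hPd (hPm hx)
      have h1 := sgn_sum (q := q) (indep_of_orth hnn hor) hor
        (E := ![(Fintype.card F : ℤ) ^ j, (Fintype.card F : ℤ) ^ j, -(Fintype.card F : ℤ) ^ 1])
        (fun a => by fin_cases a <;> assumption)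
      rw [htop, Fin.prod_univ_three] at h1
      simp only [Matrix.cons_val_zero, Matrix.cons_val_one, Matrix.cons_val] at h1
      rw [← pow_add, mul_neg, ← pow_add, show j + j + 1 = 2 * j + 1 by ring] at h1
      exact iff_of_false (not_plus_of_sgn (QuadClassify.nondeg_top hnd) hcard h1) (by push Not; exact hx)
  obtain ⟨v, W₀, hv, hQv, hW, -, hs, hn, hp, hsp⟩ := half g hc hg
  have hQv0 : q v ≠ 0 := hQv ▸ inv_ne_zero hc
  have case_iso : AreIsometricFor (⇑q) U U' → (IsPlusTypeOn (⇑q) ⊤ ↔ IsSquare (-1 : F)) := by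
    rintro ⟨φ, hφ⟩
    obtain ⟨v', W₀', hv', hQv', hW', -, hs', hn', hp', hsp'⟩ := half (φ.symm.trans g) hc fun w => by
      rw [LinearEquiv.trans_apply, hg, ← hφ (φ.symm w), LinearEquiv.apply_symm_apply]
    rw [decide_type hv hv' hQv0 (hQv' ▸ inv_ne_zero hc) hW hW' hs hs' hn hn' hp hp' hsp hsp', hQv, hQv']
    constructor
    · rintro ⟨x, hx⟩
      exact ⟨x, by
        have : c⁻¹ * (1 + x ^ 2) = 0 := by linear_combination hx
        linear_combination -((mul_eq_zero.1 this).resolve_left (inv_ne_zero hc))⟩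
    · rintro ⟨x, hx⟩
      exact ⟨x, by linear_combination -c⁻¹ * hx⟩
  have case_not : ¬ AreIsometricFor (⇑q) U U' → (IsPlusTypeOn (⇑q) ⊤ ↔ ¬ IsSquare (-1 : F)) := by
    intro hni
    obtain ⟨v', W₀', hv', hQv', hW', -, hs', hn', hp', hsp'⟩ := half g' hc' hg'
    rw [decide_type hv hv' hQv0 (hQv' ▸ inv_ne_zero hc') hW hW' hs hs' hn hn' hp hp' hsp hsp', hQv, hQv']
    constructor
    · rintro ⟨x, hx⟩ ⟨i, hi⟩
      refine hni (hiso ⟨(i * x)⁻¹, ?_⟩)
      have hx0 : x ≠ 0 := fun h => by simp [h, hc] at hx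
      have hi0 : i ≠ 0 := fun h => by simp [h] at hi
      field_simp at hx ⊢
      linear_combination (i ^ 2) * hx + c' * hi
    · intro hsq
      have hns : ¬ IsSquare (c / c') := fun h => hni (hiso h)
      have hc0 : c / c' ≠ 0 := div_ne_zero hc hc'
      obtain ⟨x, hx⟩ : IsSquare (-(c' / c)) := by
        have h1 := (FormCongruence.isSquare_mul_of_not h2 hsq hns).inv
        rwa [neg_one_mul, inv_neg, inv_div] at h1
      exact ⟨x, by
        field_simp at hx ⊢
        linear_combination -hx⟩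
  exact ⟨fun hP h => (case_iso h).1 hP, fun hP h => (case_not h).1 hP,
    fun hP h hs => hP ((case_iso h).2 hs), fun hP h => by_contra fun hs => hP ((case_not h).2 hs)⟩

end Concrete

end Cfsg.Agent.AschEvenType44
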