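/-
Even-dimensional orthogonal groups inside Aschbacher's theorem: the polar form, the action of the
commutator subgroup, and uniqueness of the invariant quadratic form.
-/
import Cfsg.Agent.Lib.AschFormStruct
import Cfsg.Agent.Lib.AschFormImprim
import Cfsg.Agent.Lib.OmegaStd
import Cfsg.Agent.Lib.AschEvenProper44
import Cfsg.Agent.Lib.AschEvenType44

set_option autoImplicit false
set_option linter.unusedSectionVars false

namespace Cfsg.Agent.AschEvenBase44

open QuadraticMap Module
open Cfsg.Agent.OrthUnitaryPrelude Cfsg.Agent.OrthUnitaryQuad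
open scoped Matrix
open Cfsg Cfsg.Geo Cfsg.Agent.AschPrimeBasic Cfsg.Agent.AschPrimeForms Cfsg.Agent.AschFormBasic

variable {ι : Type} [Fintype ι] [DecidableEq ι] {F : Type*} [Field F] [Fintype F]
  {q : QuadraticForm F (ι → F)}

lemma two_eq_zero_of_not_odd (h : ¬ Odd (Fintype.card F)) : (2 : F) = 0 := by
  by_contra h2
  exact h (Nat.odd_iff.2 (QuadClassify.card_odd h2))

lemma odd_of_two_ne_zero (h2 : (2 : F) ≠ 0) : Odd (Fintype.card F) := Nat.odd_iff.2 (QuadClassify.card_odd h2)

lemma two_ne_zero_of_odd (h : Odd (Fintype.card F)) : (2 : F) ≠ 0 := OmegaStd.two_ne_zero rfl h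

/-- the polar form of a non-degenerate quadratic form -/
theorem formData (hnd : (polarBilin q).Nondegenerate) : FormData (RingEquiv.refl F) 1 (polar ⇑q) := by
  refine ⟨sesq_of_bilinear ⟨fun x y z => polar_add_left q x y z, fun c x y => by rw [polar_smul_left, smul_eq_mul],
    fun x y z => polar_add_right q x y z, fun c x y => by rw [polar_smul_right, smul_eq_mul]⟩, fun _ => rfl,
    by simp, fun v hv => ⟨?_, ?_⟩, fun v w => by simp [polar_comm (⇑q) v w]⟩
  all_goals by_contra hn
  all_goals push Not at hn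
  all_goals exact hv (hnd.1 v fun y => by
    show polar q v y = 0
    first
      | exact hn y
      | exact (polar_comm _ v y).trans (hn y))

lemma omega_quad {g : GL ι F} (hg : g ∈ omegaGL ⇑q) (v : ι → F) :
    q ((g : Matrix ι ι F) *ᵥ v) = q v := by
  obtain ⟨k, -, rfl⟩ := OmegaGeo.exists_of_mem_omegaGL hg
  rw [OmegaGeo.toGL_mulVec]
  exact map_orth k v

lemma omega_det {g : GL ι F} (hg : g ∈ omegaGL ⇑q) : (g : Matrix ι ι F).det = 1 := by
  obtain ⟨g', hg', rfl⟩ := hg
  have h1 : g' ∈ ((Matrix.GeneralLinearGroup.det).comp (isometryGroup F ⇑q).subtype).ker :=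
    Abelianization.commutator_subset_ker _ hg'
  exact congrArg Units.val (MonoidHom.mem_ker.1 h1)

lemma quad_isos {H : Subgroup (GL ι F)} (hH : H ≤ omegaGL ⇑q) {g : GL ι F} (hg : g ∈ H) (v : ι → F) :
    q ((g : Matrix ι ι F) *ᵥ v) = q v := omega_quad (hH hg) v

lemma isos {H : Subgroup (GL ι F)} (hH : H ≤ omegaGL ⇑q) : Isos H (polar ⇑q) := fun g hg u v => by
  simp only [polar, ← Matrix.mulVec_add, omega_quad (hH hg)]

lemma polar_self_eq (v : ι → F) : polar (⇑q) v v = 2 * q v := polar_self_mul q v

/-- an irreducible group preserves at most one quadratic form with given polar form -/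
theorem quad_unique (hn : 2 ≤ Fintype.card ι) {H : Subgroup (GL ι F)} (hirr : Irred H)
    (hH : ∀ g ∈ H, ∀ v, q ((g : Matrix ι ι F) *ᵥ v) = q v) {Q : (ι → F) → F}
    (hs : ∀ (c : F) v, Q (c • v) = c ^ 2 * Q v) (hp : ∀ u v, polar Q u v = polar (⇑q) u v)
    (hQ : ∀ g ∈ H, ∀ v, Q ((g : Matrix ι ι F) *ᵥ v) = Q v) (v : ι → F) : Q v = q v := by
  set D : (ι → F) → F := fun w => Q w - q w with hDdef
  have hadd : ∀ u w, D (u + w) = D u + D w := fun u w => by
    have := hp u w
    simp only [polar] at this
    simp only [hDdef]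
    linear_combination this
  have hsm : ∀ (c : F) w, D (c • w) = c ^ 2 * D w := fun c w => by
    simp only [hDdef, hs, QuadraticMap.map_smul, smul_eq_mul]
    ring
  suffices h : ∀ w, D w = 0 from sub_eq_zero.1 (h v)
  let K : Submodule F (ι → F) :=
    { carrier := {w | D w = 0}
      zero_mem' := by
        show D 0 = 0
        rw [← zero_smul F (0 : ι → F), hsm]
        ring
      add_mem' := fun {a b} ha hb => by
        show D (a + b) = 0
        rw [hadd, show D a = 0 from ha, show D b = 0 from hb, add_zero]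
      smul_mem' := fun c a ha => by
        show D (c • a) = 0
        rw [hsm, show D a = 0 from ha, mul_zero] }
  rcases hirr K (fun g hg w hw => by
    show D ((g : Matrix ι ι F) *ᵥ w) = 0
    simp only [hDdef, hQ g hg, hH g hg]
    exact hw) with hK | hK
  · intro w
    by_contra hw
    by_cases h2 : (2 : F) = 0
    · -- the values are all squares times `D w`
      have hall : ∀ u, u ∈ Submodule.span F {w} := fun u => by
        obtain ⟨s, hs'⟩ := QuadClassify.isSquare_of_two_eq_zero h2 (-D u / D w)
        have hm : u + s • w ∈ K := by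
          show D (u + s • w) = 0
          rw [hadd, hsm, _root_.sq, ← hs', div_mul_cancel₀ _ hw, add_neg_cancel]
        rw [hK, Submodule.mem_bot] at hm
        exact Submodule.mem_span_singleton.2 ⟨-s, by rw [neg_smul]; exact (eq_neg_of_add_eq_zero_left hm).symm⟩
      have h1 := Submodule.finrank_mono (show (⊤ : Submodule F (ι → F)) ≤ Submodule.span F {w} from fun u _ => hall u)
      rw [finrank_top, Module.finrank_pi, finrank_span_singleton fun h => hw (by
        rw [h, ← zero_smul F (0 : ι → F), hsm]; ring)] at h1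
      omega
    · refine hw ?_
      have h1 := hadd w w
      rw [← two_smul F w, hsm] at h1
      have h3 : (2 : F) * D w = 0 := by linear_combination h1
      exact (mul_eq_zero.1 h3).resolve_left h2
  · exact fun w => show w ∈ K from hK ▸ Submodule.mem_top

/-- a subgroup above `H` missing part of the commutator subgroup determines `H` -/
theorem finish {H M : Subgroup (GL ι F)} (hH : IsMaximalIn (omegaGL ⇑q) H) (hle : H ≤ M)
    (hK : ¬ omegaGL ⇑q ≤ M) : H = M ⊓ omegaGL ⇑q := eq_of_maximal hH hle hK

lemma omega_le_iso : omegaGL ⇑q ≤ isometryGroup F ⇑q := by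
  rintro _ ⟨g, -, rfl⟩
  exact g.2

/-- pairwise orthogonal members moved transitively are isometric -/
theorem isometric_of_transitive {H : Subgroup (GL ι F)} (hH : ∀ g ∈ H, ∀ v, q ((g : Matrix ι ι F) *ᵥ v) = q v)
    {t k : ℕ} {D : Fin t → Submodule F (ι → F)} (hD : IsNondegenerateMDecomposition (polar ⇑q) k D)
    (htr : ∀ i j, ∃ h ∈ H, (D i).map (Matrix.toLin' (h : Matrix ι ι F)) = D j) :
    IsOrthogonalMDecomposition (⇑q) k D := by
  refine ⟨hD, fun i j => ?_⟩
  obtain ⟨h, hh, hij⟩ := htr i j
  have hinj : Function.Injective (Matrix.toLin' (h : Matrix ι ι F)) :=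
    fun x y hxy => (act h).injective (by simpa using hxy)
  exact ⟨(Submodule.equivMapOfInjective _ hinj (D i)).trans (LinearEquiv.ofEq _ _ hij),
    fun w => hH h hh (w : ι → F)⟩

/-- a decomposition left invariant by an irreducible group is permuted transitively -/
theorem transitive_of_irred {H : Subgroup (GL ι F)} (hirr : Irred H) {t k : ℕ}
    {D : Fin t → Submodule F (ι → F)} (hD : IsMDecomposition k D) (hle : H ≤ decompositionStabilizer D)
    (i j : Fin t) : ∃ h ∈ H, (D i).map (Matrix.toLin' (h : Matrix ι ι F)) = D j := by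
  have hpos := hD.pos
  have hne : ∀ l, D l ≠ ⊥ := fun l hb => by
    have := hD.finrank_eq l
    rw [hb, finrank_bot] at this
    omega
  set W : Submodule F (ι → F) :=
    ⨆ (l : Fin t) (_ : ∃ h ∈ H, (D i).map (Matrix.toLin' (h : Matrix ι ι F)) = D l), D l with hW
  have hi : D i ≤ W := le_iSup₂_of_le i ⟨1, H.one_mem, by simp⟩ le_rfl
  have hinv : Inv H W := by
    intro g hg w hw
    have h1 : W.map (Matrix.toLin' (g : Matrix ι ι F)) ≤ W := by
      rw [hW, Submodule.map_iSup]
      refine iSup_le fun l => ?_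
      rw [Submodule.map_iSup]
      rintro x hx
      obtain ⟨σ, hσ⟩ := hle hg
      refine (iSup_le fun hl => ?_ : (⨆ (_ : ∃ h ∈ H, (D i).map (Matrix.toLin' (h : Matrix ι ι F)) = D l),
        (D l).map (Matrix.toLin' (g : Matrix ι ι F))) ≤ _) hx
      obtain ⟨h, hh, hil⟩ := hl
      refine le_iSup₂_of_le (σ l) ⟨g * h, H.mul_mem hg hh, ?_⟩ (hσ l).le
      rw [Units.val_mul, Matrix.toLin'_mul, Submodule.map_comp, hil, hσ]
    simpa using h1 ⟨w, hw, rfl⟩
  have htop : W = ⊤ := (hirr W hinv).resolve_left fun hb => hne i (le_bot_iff.1 (hb ▸ hi))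
  by_contra hn
  refine hne j ((hD.indep j).eq_bot_of_le ?_)
  calc D j ≤ W := htop ▸ le_top
    _ ≤ _ := iSup₂_le fun l hl => le_iSup₂_of_le l (by rintro rfl; exact hn hl) le_rfl

end Cfsg.Agent.AschEvenBase44
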