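/-
Tensor decompositions of an even-dimensional orthogonal space: planes that leave a commutative algebra,
the quadratic form on pure tensors, and the decompositions with a refinement.
-/
import Cfsg.Agent.Lib.AschEvenBase44
import Cfsg.Agent.Lib.AschFormQuad
import Cfsg.Agent.Lib.AschFormAlg
import Cfsg.Agent.Lib.AschCasePlus
import Cfsg.Agent.Lib.AschCaseExcl

set_option autoImplicit false
set_option linter.unusedSectionVars false

namespace Cfsg.Agent.AschEvenTensor44

open scoped Matrix Kronecker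
open QuadraticMap Module
open Cfsg Cfsg.Geo Cfsg.Agent.AschPrimeBasic Cfsg.Agent.AschPrimeForms Cfsg.Agent.AschGenAlgebra
  Cfsg.Agent.AschGenTensor Cfsg.Agent.AschFormBasic Cfsg.Agent.AschFormTensor Cfsg.Agent.AschFormAlg
  Cfsg.Agent.AschFormStruct

variable {ι : Type} [Fintype ι] [DecidableEq ι] {F : Type*} [Field F] [Fintype F]
  {q : QuadraticForm F (ι → F)} {f : (ι → F) → (ι → F) → F} {H : Subgroup (GL ι F)}

/-- the signs of the two Gram matrices agree -/
lemma signs {k m : ℕ} {e : ι ≃ Fin k × Fin m} {P : GL ι F} {G₁ : Matrix (Fin k) (Fin k) F}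
    {G₂ : Matrix (Fin m) (Fin m) F} {a b : F} (hd : TensorData (RingEquiv.refl F) 1 f H k m e P G₁ G₂ a b) :
    (a = 1 ∨ a = -1) ∧ b = a ∧ G₁ᵀ = a • G₁ ∧ G₂ᵀ = a • G₂ := by
  have h1 : a * a = 1 := by simpa using hd.norm₁
  have h3 : a * b = 1 := by simpa using hd.prod
  have hba : b = a := mul_left_cancel₀ (left_ne_zero_of_mul_eq_one h1) (h3.trans h1.symm)
  exact ⟨mul_self_eq_one_iff.1 h1, hba, hd.symm₁, hba ▸ hd.symm₂⟩

/-- a normalised quadratic algebra on a two-dimensional factor contradicts commutative simplicity -/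
theorem plane_algebra [Nonempty ι] (hf : FormData (RingEquiv.refl F) 1 f) (hI : Isos H f)
    (hcs : CommSimple (RingEquiv.refl F) f H) {m : ℕ} {e : ι ≃ Fin 2 × Fin m} {P : GL ι F}
    {G₁ : Matrix (Fin 2) (Fin 2) F} {G₂ : Matrix (Fin m) (Fin m) F} {a b : F}
    (hd : TensorData (RingEquiv.refl F) 1 f H 2 m e P G₁ G₂ a b) (X₀ : Matrix (Fin 2) (Fin 2) F)
    (hX : ∀ c : F, X₀ ≠ c • 1) {α β : F} (hadj : X₀ᵀ * G₁ = G₁ * (α • X₀ + β • 1))
    (hnorm : ∀ (A : GL (Fin 2) F) (l : F), l ≠ 0 →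
      (A : Matrix (Fin 2) (Fin 2) F)ᵀ * G₁ * (A : Matrix (Fin 2) (Fin 2) F) = l • G₁ →
      ∃ x y : F, (A : Matrix (Fin 2) (Fin 2) F) * X₀ = (x • X₀ + y • 1) * (A : Matrix (Fin 2) (Fin 2) F)) :
    False := by
  classical
  haveI : Nonempty (Fin m) := ⟨⟨0, by have := hd.two_le₂; omega⟩⟩
  let emb : Matrix (Fin 2) (Fin 2) F → Matrix ι ι F := fun X =>
    (P : Matrix ι ι F) * pull e (X ⊗ₖ (1 : Matrix (Fin m) (Fin m) F)) * ((P⁻¹ : GL ι F) : Matrix ι ι F)
  have hemb_add : ∀ x y : F, emb (x • X₀ + y • 1) = x • emb X₀ + y • (1 : Matrix ι ι F) := fun x y => by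
    simp only [emb, Matrix.add_kronecker, Matrix.smul_kronecker, Matrix.one_kronecker_one, map_add, map_smul,
      map_one, mul_add, add_mul, Matrix.mul_smul, Matrix.smul_mul, mul_one, Units.mul_inv]
  set M₀ := emb X₀ with hM₀
  set C : Subalgebra F (Matrix ι ι F) := Algebra.adjoin F {M₀} with hC
  have hM : ∀ x y : F, emb (x • X₀ + y • 1) ∈ C := fun x y => by
    rw [hemb_add]
    exact C.add_mem (C.smul_mem (Algebra.subset_adjoin rfl) x) (C.smul_mem C.one_mem y)
  have hAn : AlgNorm H C := by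
    intro h hh c hc
    induction hc using Algebra.adjoin_induction with
    | mem z hz =>
      rw [Set.mem_singleton_iff.1 hz]
      obtain ⟨A, B, l, hl, hval, hA, -⟩ := hd.elem hf hI hh
      obtain ⟨x, y, hxy⟩ := hnorm A l hl hA
      have : conjAlg h M₀ = emb (x • X₀ + y • 1) := by
        have e1 : (h : Matrix ι ι F) * M₀ = emb (x • X₀ + y • 1) * (h : Matrix ι ι F) := by
          rw [hval]
          simp only [hM₀, emb, mul_assoc, Units.inv_mul_cancel_left]
          simp only [← mul_assoc (pull e _) (pull e _), ← map_mul, ← Matrix.mul_kronecker_mul, mul_one, one_mul, hxy]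
        rw [conjAlg_apply, e1, mul_assoc, Units.mul_inv, mul_one]
      rw [← conjAlg_apply, this]
      exact hM x y
    | algebraMap r => rw [← conjAlg_apply, AlgEquiv.commutes]; exact C.algebraMap_mem r
    | add x y _ _ hx hy => rw [← conjAlg_apply, map_add]; exact C.add_mem hx hy
    | mul x y _ _ hx hy => rw [← conjAlg_apply, map_mul]; exact C.mul_mem hx hy
  have hstar : StarClosed (RingEquiv.refl F) (gramMatrix f) C := by
    refine StarClosed.adjoin hf ?_
    intro z hz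
    rw [Set.mem_singleton_iff.1 hz]
    set W := X₀ ⊗ₖ (1 : Matrix (Fin m) (Fin m) F) with hW
    have hG : IsUnit (gramP (RingEquiv.refl F) f e P).det := gramP_det hf e P
    obtain ⟨Z, hZ⟩ : ∃ Z, pull e Z = ((P⁻¹ : GL ι F) : Matrix ι ι F) *
        adj (RingEquiv.refl F) (gramMatrix f) M₀ * (P : Matrix ι ι F) := pull_surjective e _
    have hadjM : adj (RingEquiv.refl F) (gramMatrix f) M₀ =
        (P : Matrix ι ι F) * pull e Z * ((P⁻¹ : GL ι F) : Matrix ι ι F) := by
      rw [hZ]; simp [mul_assoc]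
    have h1 := adj_coords hf e P hadjM
    rw [hd.gram, show Z.map (RingEquiv.refl F) = Z from rfl, ← Matrix.kroneckerMap_transpose, ← Matrix.mul_kronecker_mul,
      Matrix.transpose_one, one_mul, hadj] at h1
    have h3 : (G₁ * (α • X₀ + β • 1)) ⊗ₖ G₂ = (G₁ ⊗ₖ G₂) * ((α • X₀ + β • 1) ⊗ₖ (1 : Matrix (Fin m) (Fin m) F)) := by
      rw [← Matrix.mul_kronecker_mul, mul_one]
    rw [h3] at h1
    rw [hd.gram] at hG
    have hZv : Z = (α • X₀ + β • 1) ⊗ₖ (1 : Matrix (Fin m) (Fin m) F) := by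
      have h4 := congrArg ((G₁ ⊗ₖ G₂)⁻¹ * ·) h1
      simpa [Matrix.nonsing_inv_mul_cancel_left _ _ hG] using h4.symm
    rw [hadjM, hZv]
    exact hM α β
  have hbot := hcs C hAn hstar fun x hx y hy => by
    refine Algebra.commute_of_mem_adjoin_of_forall_mem_commute hy ?_
    intro z hz
    rw [Set.mem_singleton_iff.1 hz]
    refine (Algebra.commute_of_mem_adjoin_of_forall_mem_commute hx ?_).symm
    intro w hw
    rw [Set.mem_singleton_iff.1 hw]
    exact Commute.refl _
  obtain ⟨c, hc⟩ := Algebra.mem_bot.1 (hbot ▸ Algebra.subset_adjoin rfl : M₀ ∈ (⊥ : Subalgebra F (Matrix ι ι F)))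
  rw [Algebra.algebraMap_eq_smul_one] at hc
  have h1 : emb X₀ = emb ((0 : F) • X₀ + c • 1) := by rw [hemb_add, zero_smul, zero_add, hc]
  have h3 := congrArg (fun M => ((P⁻¹ : GL ι F) : Matrix ι ι F) * M * (P : Matrix ι ι F)) h1
  simp only [emb, mul_assoc, Units.inv_mul, mul_one, Units.inv_mul_cancel_left, zero_smul, zero_add] at h3
  have h5 := pull_injective (F := F) e h3
  let j : Fin m := Classical.arbitrary _
  exact hX c (Matrix.ext fun r s => by simpa [Matrix.kroneckerMap_apply] using congrFun (congrFun h5 (r, j)) (s, j))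

/-- a symmetric two-dimensional factor which is not alternating -/
theorem plane_sym [Nonempty ι] (hf : FormData (RingEquiv.refl F) 1 f) (hI : Isos H f)
    (hcs : CommSimple (RingEquiv.refl F) f H) {m : ℕ} {e : ι ≃ Fin 2 × Fin m} {P : GL ι F}
    {G₁ : Matrix (Fin 2) (Fin 2) F} {G₂ : Matrix (Fin m) (Fin m) F} {a b : F}
    (hd : TensorData (RingEquiv.refl F) 1 f H 2 m e P G₁ G₂ a b) (hs : G₁ᵀ = G₁)
    (hd0 : (2 : F) ≠ 0 ∨ ∃ i, G₁ i i ≠ 0) : False := by
  set J : Matrix (Fin 2) (Fin 2) F := !![0, 1; -1, 0] with hJ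
  set X₀ := G₁⁻¹ * J with hX
  have hu := hd.det₁
  have hGX : G₁ * X₀ = J := by rw [hX, Matrix.mul_nonsing_inv_cancel_left _ _ hu]
  have hJt : Jᵀ = -J := by
    ext i j
    fin_cases i <;> fin_cases j <;> simp [hJ]
  refine plane_algebra hf hI hcs hd X₀ (fun c hc => ?_) (α := -1) (β := 0) ?_ fun A l hl hA => ?_
  · rw [hc, Matrix.mul_smul, mul_one] at hGX
    have h3 := congrFun (congrFun hGX 0) 1
    simp [hJ] at h3
    have hc0 : c ≠ 0 := fun h0 => by simp [h0] at h3
    rcases hd0 with h2 | ⟨i, hi⟩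
    · have h4 := congrFun (congrFun hGX 1) 0
      have h5 : G₁ 1 0 = G₁ 0 1 := by rw [← Matrix.transpose_apply G₁ 0 1, hs]
      simp [hJ, h5] at h4
      exact h2 (by linear_combination h4 - h3)
    have h1 := congrFun (congrFun hGX i) i
    fin_cases i <;> simp [hJ, hc0] at h1 hi <;> exact hi h1
  · rw [zero_smul, add_zero, Matrix.mul_smul, hGX]
    conv_lhs => rw [← hs, ← Matrix.transpose_mul, hGX, hJt]
    rw [neg_one_smul]
  · have hAJ : (A : Matrix (Fin 2) (Fin 2) F)ᵀ * J * (A : Matrix (Fin 2) (Fin 2) F) =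
        (A : Matrix (Fin 2) (Fin 2) F).det • J := by
      ext i j
      fin_cases i <;> fin_cases j <;> simp [hJ, Matrix.mul_apply, Fin.sum_univ_two, Matrix.det_fin_two] <;> ring
    set d := (A : Matrix (Fin 2) (Fin 2) F).det with hd'
    have hdet : d ≠ 0 := (Matrix.isUnits_det_units A).ne_zero
    refine ⟨l / d, 0, ?_⟩
    rw [zero_smul, add_zero]
    have hAt : IsUnit ((A : Matrix (Fin 2) (Fin 2) F)ᵀ).det := by
      rw [Matrix.det_transpose]; exact Matrix.isUnits_det_units A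
    have e1 : (A : Matrix (Fin 2) (Fin 2) F)ᵀ * (G₁ * ((A : Matrix (Fin 2) (Fin 2) F) * X₀)) =
        (A : Matrix (Fin 2) (Fin 2) F)ᵀ * (G₁ * ((l / d) • X₀ * (A : Matrix (Fin 2) (Fin 2) F))) := by
      rw [← mul_assoc G₁, ← mul_assoc _ (G₁ * _), ← mul_assoc _ G₁, hA, Matrix.smul_mul, hGX,
        Matrix.smul_mul, Matrix.mul_smul, Matrix.mul_smul, ← mul_assoc G₁, hGX, ← mul_assoc, hAJ, smul_smul,
        div_mul_cancel₀ _ hdet]
    have e2 := congrArg ((((A : Matrix (Fin 2) (Fin 2) F)ᵀ))⁻¹ * ·) e1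
    simp only [Matrix.nonsing_inv_mul_cancel_left _ _ hAt] at e2
    have e3 := congrArg (G₁⁻¹ * ·) e2
    simpa only [Matrix.nonsing_inv_mul_cancel_left _ _ hu] using e3

/-- over two elements the symplectic plane leaves a field -/
theorem plane_two [Nonempty ι] (h2F : Fintype.card F = 2) (hf : FormData (RingEquiv.refl F) 1 f) (hI : Isos H f)
    (hcs : CommSimple (RingEquiv.refl F) f H) {m : ℕ} {e : ι ≃ Fin 2 × Fin m} {P : GL ι F}
    {G₁ : Matrix (Fin 2) (Fin 2) F} {G₂ : Matrix (Fin m) (Fin m) F} {a b : F}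
    (hd : TensorData (RingEquiv.refl F) 1 f H 2 m e P G₁ G₂ a b) (h00 : G₁ 0 0 = 0) (h11 : G₁ 1 1 = 0) : False := by
  have h01 : ∀ z : F, z = 0 ∨ z = 1 := fun z => by
    by_cases hz : z = 0
    · exact Or.inl hz
    · have := FiniteField.pow_card_sub_one_eq_one z hz
      rw [h2F, show 2 - 1 = 1 from rfl, pow_one] at this
      exact Or.inr this
  have h2 : (2 : F) = 0 := AschEvenBase44.two_eq_zero_of_not_odd (by rw [h2F]; decide)
  haveI : CharP F 2 := CharTwo.of_one_ne_zero_of_two_eq_zero one_ne_zero h2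
  have hdet := hd.det₁.ne_zero
  rw [Matrix.det_fin_two, h00, h11, zero_mul, zero_sub, neg_ne_zero, mul_ne_zero_iff] at hdet
  have hG : G₁ = !![0, 1; 1, 0] := by
    ext i j
    fin_cases i <;> fin_cases j <;>
      simp [h00, h11, (h01 _).resolve_left hdet.1, (h01 _).resolve_left hdet.2]
  set X₀ : Matrix (Fin 2) (Fin 2) F := !![0, 1; 1, 1]
  refine plane_algebra hf hI hcs hd X₀ (fun c hc => ?_) (α := 1) (β := 1) ?_ fun A l hl hA => ?_
  · have := congrFun (congrFun hc 0) 1
    simp [X₀] at this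
  · rw [hG]
    ext i j
    fin_cases i <;> fin_cases j <;> simp [X₀, Matrix.mul_apply, Fin.sum_univ_two, CharTwo.add_self_eq_zero]
  · have hA' := (Matrix.isUnits_det_units A).ne_zero
    rw [Matrix.det_fin_two] at hA'
    rcases h01 ((A : Matrix (Fin 2) (Fin 2) F) 0 0) with p | p <;>
      rcases h01 ((A : Matrix (Fin 2) (Fin 2) F) 0 1) with r | r <;>
      rcases h01 ((A : Matrix (Fin 2) (Fin 2) F) 1 0) with s | s <;>
      rcases h01 ((A : Matrix (Fin 2) (Fin 2) F) 1 1) with t | t <;>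
      (rw [p, r, s, t] at hA'
       first
        | (exfalso; apply hA'; simp; done)
        | (refine ⟨1, 0, ?_⟩
           ext i j
           fin_cases i <;> fin_cases j <;>
             simp [X₀, Matrix.mul_apply, Fin.sum_univ_two, p, r, s, t, CharTwo.add_self_eq_zero] <;> done)
        | (refine ⟨1, 1, ?_⟩
           ext i j
           fin_cases i <;> fin_cases j <;>
             simp [X₀, Matrix.mul_apply, Matrix.add_apply, Fin.sum_univ_two, p, r, s, t,
               CharTwo.add_self_eq_zero] <;> done))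

/-- a quadratic form vanishing on pure tensors, in characteristic two -/
theorem quad_pure [Nonempty ι] (h2 : (2 : F) = 0) {ε : F}
    (hf : FormData (RingEquiv.refl F) ε f) (hI : Isos H f) {κ μ : Type} [Fintype κ]
    [DecidableEq κ] [Fintype μ] [DecidableEq μ] {e : ι ≃ κ × μ} {P : GL ι F} {c : F} {G₁ : Matrix κ κ F}
    {G₂ : Matrix μ μ F} (hgram : gramP (RingEquiv.refl F) f e P = c • (G₁ ⊗ₖ G₂))
    (hs₁ : G₁ᵀ = G₁) (hd₁ : ∀ i, G₁ i i = 0) (hs₂ : G₂ᵀ = G₂) (hd₂ : ∀ i, G₂ i i = 0)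
    (hpure : ∀ h ∈ H, ∀ a, ∃ (u : κ → F) (w : μ → F),
      ((P⁻¹ : GL ι F) : Matrix ι ι F) *ᵥ ((h : Matrix ι ι F) *ᵥ ((P : Matrix ι ι F) *ᵥ Pi.single a 1)) =
        fun x => u (e x).1 * w (e x).2) :
    ∃ Q : (ι → F) → F, (∀ (a : F) v, Q (a • v) = a ^ 2 * Q v) ∧ (∀ u v, QuadraticMap.polar Q u v = f u v) ∧
      (∀ h ∈ H, ∀ v, Q ((h : Matrix ι ι F) *ᵥ v) = Q v) ∧
      ∀ v, (∃ (u : κ → F) (w : μ → F),
        ((P⁻¹ : GL ι F) : Matrix ι ι F) *ᵥ v = fun x => u (e x).1 * w (e x).2) → Q v = 0 := by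
  classical
  haveI : CharP F 2 := CharTwo.of_one_ne_zero_of_two_eq_zero one_ne_zero h2
  letI : LinearOrder μ := LinearOrder.lift' (Fintype.equivFin μ) (Fintype.equivFin μ).injective
  let g : (κ → F) → (κ → F) → F := formOfGram id G₁
  have hg : IsBilinearForm g := AschFormStruct.bilinear_of_gram G₁
  have hgs : ∀ x y, g x y = g y x := fun x y => by
    show formOfGram id G₁ x y = _
    rw [AschFormStruct.formOfGram_flip, hs₁]
  have hg0 : ∀ x, g x x = 0 := fun x => by
    show formOfGram id G₁ x x = 0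
    rw [formOfGram_dot]
    refine (FormCongruence.quad_zero_iff G₁).2 ⟨hd₁, fun i j => ?_⟩ x
    have := congrFun (congrFun hs₁ i) j
    rw [Matrix.transpose_apply] at this
    rw [this, CharTwo.add_self_eq_zero]
  let sl : (ι → F) → μ → κ → F := fun v j i =>
    (((P⁻¹ : GL ι F) : Matrix ι ι F) *ᵥ v) (e.symm (i, j))
  have hsla : ∀ u v j, sl (u + v) j = sl u j + sl v j := fun u v j => funext fun i => by
    simp [sl, Matrix.mulVec_add]
  have hsls : ∀ (a : F) v j, sl (a • v) j = a • sl v j := fun a v j => funext fun i => by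
    simp [sl, Matrix.mulVec_smul]
  let U : Matrix μ μ F := Matrix.of fun j l => if j < l then G₂ j l else 0
  let Q : (ι → F) → F := fun v => c * ∑ j, ∑ l, U j l * g (sl v j) (sl v l)
  have hQs : ∀ (a : F) v, Q (a • v) = a ^ 2 * Q v := by
    intro a v
    simp only [Q, hsls, hg.smul_left, hg.smul_right, Finset.mul_sum]
    exact Finset.sum_congr rfl fun j _ => Finset.sum_congr rfl fun l _ => by ring
  have hU : ∀ j l, U j l + U l j = G₂ j l := by
    intro j l
    have hsym := congrFun (congrFun hs₂ j) l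
    rw [Matrix.transpose_apply] at hsym
    simp only [U, Matrix.of_apply]
    rcases lt_trichotomy j l with h | h | h
    · rw [if_pos h, if_neg h.not_gt, add_zero]
    · subst h; simp [hd₂]
    · rw [if_neg h.not_gt, if_pos h, zero_add, hsym]
  have hpol : ∀ u v, QuadraticMap.polar Q u v = f u v := by
    intro u v
    have h1 : QuadraticMap.polar Q u v = c * ∑ j, ∑ l, U j l * (g (sl u j) (sl v l) + g (sl u l) (sl v j)) := by
      simp only [QuadraticMap.polar, Q, hsla, hg.add_left, hg.add_right, mul_add, Finset.sum_add_distrib,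
        fun j l => hgs (sl v j) (sl u l)]
      ring
    have h3 : ∑ j, ∑ l, U j l * (g (sl u j) (sl v l) + g (sl u l) (sl v j)) =
        ∑ j, ∑ l, G₂ j l * g (sl u j) (sl v l) := by
      simp only [mul_add, Finset.sum_add_distrib]
      conv_lhs => arg 2; rw [Finset.sum_comm]
      rw [← Finset.sum_add_distrib]
      refine Finset.sum_congr rfl fun j _ => ?_
      rw [← Finset.sum_add_distrib]
      exact Finset.sum_congr rfl fun l _ => by rw [← add_mul, hU]
    rw [h1, h3]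
    have hu : ∀ w : ι → F, w = (P : Matrix ι ι F) *ᵥ ((fun q : κ × μ => sl w q.2 q.1) ∘ e) := fun w => by
      conv_lhs => rw [← mulVec_inv_mulVec P w]
      congr 1
      funext x
      simp [sl]
    conv_rhs => rw [hu u, hu v, form_coords hf, hgram, AschFormStruct.formOfGram_smul]
    refine congrArg (c * ·) ?_
    simp only [g, formOfGram, id, RingEquiv.refl_apply, Matrix.kroneckerMap_apply, Fintype.sum_prod_type,
      Finset.mul_sum]
    rw [Finset.sum_comm]
    conv_rhs => rw [Finset.sum_comm]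
    conv_rhs => arg 2; ext j; arg 2; ext i; rw [Finset.sum_comm]
    conv_rhs => arg 2; ext j; rw [Finset.sum_comm]
    rw [Finset.sum_comm]
    refine Finset.sum_congr rfl fun j _ => Finset.sum_congr rfl fun l _ => Finset.sum_congr rfl fun i _ =>
      Finset.sum_congr rfl fun i' _ => by ring
  have hzero : ∀ v, (∃ (u : κ → F) (w : μ → F),
      ((P⁻¹ : GL ι F) : Matrix ι ι F) *ᵥ v = fun x => u (e x).1 * w (e x).2) → Q v = 0 := by
    rintro v ⟨u, w, huw⟩
    have h1 : ∀ j, sl v j = w j • u := fun j => funext fun i => by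
      simp only [sl, huw, Equiv.apply_symm_apply, Pi.smul_apply, smul_eq_mul, mul_comm]
    simp only [Q, h1, hg.smul_left, hg.smul_right, hg0, mul_zero, Finset.sum_const_zero]
  refine ⟨Q, hQs, hpol, fun h hh v => ?_, hzero⟩
  have hspan : Submodule.span F (Set.range fun a => (P : Matrix ι ι F) *ᵥ Pi.single a 1) = ⊤ := by
    refine eq_top_iff.2 fun w _ => ?_
    rw [← mulVec_inv_mulVec P w, pi_eq_sum_univ' (((P⁻¹ : GL ι F) : Matrix ι ι F) *ᵥ w), Matrix.mulVec_sum]
    refine Submodule.sum_mem _ fun j _ => ?_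
    rw [Matrix.mulVec_smul]
    exact Submodule.smul_mem _ _ (Submodule.subset_span ⟨j, rfl⟩)
  refine AschFormQuad.quad_ext (Q := fun v => Q ((h : Matrix ι ι F) *ᵥ v))
    (fun a w => by simp only [Matrix.mulVec_smul, hQs]) hQs (fun x y => ?_) hspan ?_ v
  · have h5 : QuadraticMap.polar (fun v => Q ((h : Matrix ι ι F) *ᵥ v)) x y =
        QuadraticMap.polar Q ((h : Matrix ι ι F) *ᵥ x) ((h : Matrix ι ι F) *ᵥ y) := by
      simp only [QuadraticMap.polar, Matrix.mulVec_add]
    rw [h5, hpol, hI h hh, hpol]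
  · rintro _ ⟨a, rfl⟩
    rw [hzero _ (hpure h hh a), hzero _ ?_]
    refine ⟨Pi.single (e a).1 1, Pi.single (e a).2 1, ?_⟩
    rw [inv_mulVec_mulVec]
    funext x
    by_cases hx : x = a
    · subst hx; simp
    · have : e x ≠ e a := fun h => hx (e.injective h)
      by_cases h1 : (e x).1 = (e a).1
      · have h3 : (e x).2 ≠ (e a).2 := fun h4 => this (Prod.ext h1 h4)
        simp [hx, h3]
      · simp [hx, h1]

/-- two alternating factors: the form vanishes on pure tensors -/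
theorem pure_zero [Nonempty ι] (hn : 2 ≤ Fintype.card ι) (hirr : Irred H)
    (hH : ∀ g ∈ H, ∀ x, q ((g : Matrix ι ι F) *ᵥ x) = q x)
    (hf : FormData (RingEquiv.refl F) 1 (polar ⇑q)) (hI : Isos H (polar ⇑q))
    {k m : ℕ} {e : ι ≃ Fin k × Fin m} {P : GL ι F} {G₁ : Matrix (Fin k) (Fin k) F} {G₂ : Matrix (Fin m) (Fin m) F}
    {a b : F} (hd : TensorData (RingEquiv.refl F) 1 (polar ⇑q) H k m e P G₁ G₂ a b)
    (h1 : G₁ᵀ = -G₁) (h1d : ∀ i, G₁ i i = 0) (h2t : G₂ᵀ = -G₂) (h2d : ∀ i, G₂ i i = 0)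
    (x₁ : Fin k → F) (x₂ : Fin m → F) :
    q ((P : Matrix ι ι F) *ᵥ ((fun z : Fin k × Fin m => x₁ z.1 * x₂ z.2) ∘ e)) = 0 := by
  set v := (P : Matrix ι ι F) *ᵥ ((fun z : Fin k × Fin m => x₁ z.1 * x₂ z.2) ∘ e) with hv
  by_cases h2 : (2 : F) = 0
  · haveI : CharP F 2 := CharTwo.of_one_ne_zero_of_two_eq_zero one_ne_zero h2
    have s1 : G₁ᵀ = G₁ := by rw [h1]; exact Matrix.ext fun i j => CharTwo.neg_eq _
    have s2 : G₂ᵀ = G₂ := by rw [h2t]; exact Matrix.ext fun i j => CharTwo.neg_eq _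
    obtain ⟨Q, hQs, hQp, hQi, hQ0⟩ := quad_pure h2 hf hI (c := 1) (by rw [one_smul]; exact hd.gram) s1 h1d s2 h2d
      fun h hh x => by
        obtain ⟨A, B, l, -, hval, -, -⟩ := hd.elem hf hI hh
        refine ⟨fun i => (A : Matrix (Fin k) (Fin k) F) i (e x).1, fun j => (B : Matrix (Fin m) (Fin m) F) j (e x).2, ?_⟩
        rw [hval, ← Matrix.mulVec_mulVec, inv_mulVec_mulVec, ← Matrix.mulVec_mulVec, inv_mulVec_mulVec,
          Matrix.mulVec_single_one]
        funext y
        simp [pull_apply]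
    rw [← AschEvenBase44.quad_unique hn hirr hH hQs hQp hQi]
    refine hQ0 v ⟨x₁, x₂, ?_⟩
    rw [hv, inv_mulVec_mulVec]
    rfl
  · have hz : ∀ (r : ℕ) (G : Matrix (Fin r) (Fin r) F), Gᵀ = -G → ∀ x : Fin r → F, x ⬝ᵥ (G *ᵥ x) = 0 := by
      intro r G hG x
      have e1 : x ⬝ᵥ (Gᵀ *ᵥ x) = x ⬝ᵥ (G *ᵥ x) := by
        rw [Matrix.mulVec_transpose, dotProduct_comm, ← Matrix.dotProduct_mulVec]
      rw [hG, Matrix.neg_mulVec, dotProduct_neg] at e1
      exact (mul_eq_zero.1 (show (2 : F) * (x ⬝ᵥ (G *ᵥ x)) = 0 by linear_combination -e1)).resolve_left h2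
    have h3 : polar (⇑q) v v = 0 := by
      rw [hv, form_coords hf, hd.gram]
      simp only [formOfGram, RingEquiv.refl_apply, Matrix.kroneckerMap_apply, Fintype.sum_prod_type]
      have e0 : ∑ i : Fin k, ∑ j : Fin m, ∑ i' : Fin k, ∑ j' : Fin m, x₁ i * x₂ j * (G₁ i i' * G₂ j j') * (x₁ i' * x₂ j') =
          (x₁ ⬝ᵥ (G₁ *ᵥ x₁)) * (x₂ ⬝ᵥ (G₂ *ᵥ x₂)) := by
        simp only [dotProduct, Matrix.mulVec, Finset.mul_sum, Finset.sum_mul]
        rw [Finset.sum_comm]
        refine Finset.sum_congr rfl fun j _ => ?_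
        conv_lhs => arg 2; ext i; rw [Finset.sum_comm]
        rw [Finset.sum_comm]
        exact Finset.sum_congr rfl fun j' _ => Finset.sum_congr rfl fun i _ => Finset.sum_congr rfl fun i' _ => by
          ring
      rw [e0, hz _ _ h1, zero_mul]
    rw [AschEvenBase44.polar_self_eq] at h3
    exact (mul_eq_zero.1 h3).resolve_left h2

/-- a factor of dimension two whose pure tensors are singular gives plus type -/
theorem plus_of_pure {m : ℕ} {e : ι ≃ Fin 2 × Fin m} {P : GL ι F}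
    (h0 : ∀ (x₁ : Fin 2 → F) (x₂ : Fin m → F),
      q ((P : Matrix ι ι F) *ᵥ ((fun z : Fin 2 × Fin m => x₁ z.1 * x₂ z.2) ∘ e)) = 0) :
    IsPlusTypeOn (⇑q) ⊤ := by
  let T : (Fin m → F) →ₗ[F] (ι → F) :=
    { toFun := fun y => (P : Matrix ι ι F) *ᵥ
        ((fun z : Fin 2 × Fin m => (Pi.single 0 1 : Fin 2 → F) z.1 * y z.2) ∘ e)
      map_add' := fun a b => by
        rw [← Matrix.mulVec_add]; congr 1; funext i; exact mul_add _ _ _
      map_smul' := fun a b => by
        rw [RingHom.id_apply, ← Matrix.mulVec_smul]; congr 1; funext i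
        simp [mul_left_comm] }
  refine ⟨LinearMap.range T, le_top, ?_, ?_⟩
  · rintro _ ⟨y, rfl⟩
    exact h0 _ y
  · rw [LinearMap.finrank_range_of_inj, finrank_top, Module.finrank_pi, Module.finrank_pi, Fintype.card_fin,
      Fintype.card_congr e, Fintype.card_prod, Fintype.card_fin, Fintype.card_fin]
    intro y y' h
    funext j
    have h1 := (act P).injective (h : act P _ = act P _)
    simpa using congrFun h1 (e.symm (0, j))

/-- three by four with a split four-dimensional factor is a two by six decomposition -/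
theorem three_four (h2 : (2 : F) ≠ 0) (hf : FormData (RingEquiv.refl F) 1 f) (hI : Isos H f)
    (hdet : ∀ h ∈ H, (h : Matrix ι ι F).det = 1) {e : ι ≃ Fin 3 × Fin 4} {P : GL ι F}
    {G₁ : Matrix (Fin 3) (Fin 3) F} {G₂ : Matrix (Fin 4) (Fin 4) F} {a b : F}
    (hd : TensorData (RingEquiv.refl F) 1 f H 3 4 e P G₁ G₂ a b) (hs₁ : G₁ᵀ = G₁) (hs₂ : G₂ᵀ = G₂)
    (hp : IsPlusTypeOn (fun v : Fin 4 → F => formOfGram id G₂ v v) ⊤) :
    ∃ (e' : ι ≃ Fin 2 × Fin 6) (P' : GL ι F) (J₁ : Matrix (Fin 2) (Fin 2) F) (J₂ : Matrix (Fin 6) (Fin 6) F),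
      TensorData (RingEquiv.refl F) 1 f H 2 6 e' P' J₁ J₂ (-1) (-1) := by
  obtain ⟨S, hS⟩ := AschCase.plus_congr h2 (symmetric_of_gram hd.det₂ hs₂) hp
  rw [show gramMatrix (formOfGram (id : F → F) G₂) = G₂ from gram_formOfGram (RingEquiv.refl F) G₂] at hS
  set ν : Fin 4 ≃ Fin 2 × Fin 2 := (finProdFinEquiv (m := 2) (n := 2)).symm with hν
  set J : Matrix (Fin 2) (Fin 2) F := planeJ with hJ
  set X := kronUnit (1 : GL (Fin 3) F) S with hX
  set P' := P * glReindex e.symm X with hP'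
  have hgram : gramP (RingEquiv.refl F) f e P' = (1 : F) • (G₁ ⊗ₖ pull ν (J ⊗ₖ J)) := by
    rw [hP', gramP_rebase, hd.gram, one_smul, show (X : Matrix (Fin 3 × Fin 4) (Fin 3 × Fin 4) F) =
      (1 : Matrix (Fin 3) (Fin 3) F) ⊗ₖ (S : Matrix (Fin 4) (Fin 4) F) from rfl, ← Matrix.kroneckerMap_transpose,
      kron_map, ← Matrix.mul_kronecker_mul, ← Matrix.mul_kronecker_mul,
      show (S : Matrix (Fin 4) (Fin 4) F).map (RingEquiv.refl F) = (S : Matrix (Fin 4) (Fin 4) F) from rfl, hS,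
      Matrix.transpose_one, map_one_mat, one_mul, mul_one]
  have hle' : H ≤ tensorProductSubgroup 3 4 e P' := hd.le.trans (conj_map_rebase _ e P (kronUnit_mem 1 S))
  let μ : Fin 6 ≃ Fin 2 × Fin 3 := (finProdFinEquiv (m := 2) (n := 3)).symm
  let w : Fin 3 × Fin 4 ≃ Fin 2 × Fin 6 :=
    { toFun := fun z => ((ν z.2).1, μ.symm ((ν z.2).2, z.1))
      invFun := fun z => ((μ z.2).2, ν.symm (z.1, (μ z.2).1))
      left_inv := fun z => by simp
      right_inv := fun z => by simp }
  have hJt : Jᵀ = -J := by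
    ext i j
    fin_cases i <;> fin_cases j <;> simp [hJ, planeJ]
  have hJd : J.det ≠ 0 := by simp [hJ, planeJ, Matrix.det_fin_two]
  refine ⟨e.trans w, P', J, pull μ (J ⊗ₖ G₁), by norm_num, by norm_num, fun h hh => ?_, ?_,
    isUnit_iff_ne_zero.2 hJd, ?_, ?_, ?_, by simp, by simp, by simp⟩
  · have hG1 : G₁ ≠ 0 := fun h0 => by
      have := hd.det₁; rw [h0, Matrix.det_zero] at this; exact not_isUnit_zero this
    have hG2 : pull ν (J ⊗ₖ J) ≠ 0 := fun h0 => by
      have := congrArg Matrix.det h0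
      rw [pull_det, Matrix.det_kronecker, Matrix.det_zero] at this
      simp [hJd] at this
    obtain ⟨A, B, l, hl, hval, hA, hB⟩ := AschCase.tensor_elem hf one_ne_zero hG1 hG2 hgram (hle' hh) (hI h hh)
    obtain ⟨B₂, hB₂⟩ := pull_surjective (F := F) ν (B : Matrix (Fin 4) (Fin 4) F)
    rw [show (B : Matrix (Fin 4) (Fin 4) F).map (RingEquiv.refl F) = (B : Matrix (Fin 4) (Fin 4) F) from rfl, ← hB₂,
      pull_transpose, ← map_mul, ← map_mul, ← map_smul] at hB
    have hsim := pull_injective (F := F) ν hB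
    obtain ⟨b₁, b₂, hcase⟩ := AschCase.split_similitude h2 (inv_ne_zero hl) hsim
    rcases hcase with hcase | hcase
    · have hB0 : B₂.det ≠ 0 := fun h => by
        have := Matrix.isUnit_iff_isUnit_det _ |>.1 B.isUnit
        rw [← hB₂, pull_det, h] at this
        exact not_isUnit_zero this
      rw [hcase, Matrix.det_kronecker] at hB0
      obtain ⟨d1, d2⟩ := mul_ne_zero_iff.1 hB0
      have d1' : b₁.det ≠ 0 := fun h => d1 (by rw [h]; simp)
      have d2' : b₂.det ≠ 0 := fun h => d2 (by rw [h]; simp)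
      let C : Matrix (Fin 6) (Fin 6) F := pull μ (b₂ ⊗ₖ (A : Matrix (Fin 3) (Fin 3) F))
      have hC : C.det ≠ 0 := by
        rw [pull_det, Matrix.det_kronecker]
        exact mul_ne_zero (pow_ne_zero _ d2') (pow_ne_zero _ (Matrix.isUnits_det_units A).ne_zero)
      let g := kronUnit (Matrix.GeneralLinearGroup.mkOfDetNeZero b₁ d1') (Matrix.GeneralLinearGroup.mkOfDetNeZero C hC)
      refine ⟨glReindex (e.trans w).symm g, ⟨g, kronUnit_mem _ _, rfl⟩, Units.ext ?_⟩
      rw [hval]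
      show (P' : Matrix ι ι F) * pull (e.trans w) (b₁ ⊗ₖ C) * ((P'⁻¹ : GL ι F) : Matrix ι ι F) = _
      congr 2
      ext x y
      simp only [pull_apply, Equiv.trans_apply, Matrix.kroneckerMap_apply, ← hB₂, hcase, C, w, Equiv.coe_fn_mk,
        Equiv.apply_symm_apply]
      ring
    · exfalso
      have hB₂' : B₂ = (b₁ ⊗ₖ b₂).submatrix id (Equiv.prodComm (Fin 2) (Fin 2)) :=
        Matrix.ext fun ⟨i, j⟩ ⟨k, n⟩ => hcase i j k n
      have hperm : B₂.det = -(b₁.det ^ 2 * b₂.det ^ 2) := by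
        rw [hB₂', Matrix.det_permute', Matrix.det_kronecker, Fintype.card_fin,
          show Equiv.Perm.sign (Equiv.prodComm (Fin 2) (Fin 2)) = -1 from by decide]
        simp
      -- the multiplier of the four-dimensional factor
      have hm : l⁻¹ = b₁.det * b₂.det := by
        have h1 := congrFun (congrFun hsim ((0 : Fin 2), (0 : Fin 2))) ((1 : Fin 2), (1 : Fin 2))
        rw [hB₂'] at h1
        simp [Matrix.mul_apply, Fintype.sum_prod_type, Fin.sum_univ_two, hJ, planeJ] at h1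
        rw [Matrix.det_fin_two, Matrix.det_fin_two]
        linear_combination -h1
      have hAd : (A : Matrix (Fin 3) (Fin 3) F).det ^ 2 = l ^ 3 := by
        have h1 := congrArg Matrix.det hA
        rw [Matrix.det_mul, Matrix.det_mul, Matrix.det_transpose,
          show (A : Matrix (Fin 3) (Fin 3) F).map (RingEquiv.refl F) = (A : Matrix (Fin 3) (Fin 3) F) from rfl,
          Matrix.det_smul, Fintype.card_fin] at h1
        exact mul_right_cancel₀ hd.det₁.ne_zero (by linear_combination h1)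
      have h1 := hdet h hh
      rw [hval, Matrix.det_mul, Matrix.det_mul, pull_det, Matrix.det_kronecker, ← hB₂, pull_det, hperm,
        Fintype.card_fin, Fintype.card_fin] at h1
      have hPd : (P' : Matrix ι ι F).det * ((P'⁻¹ : GL ι F) : Matrix ι ι F).det = 1 := by
        rw [← Matrix.det_mul, Units.mul_inv, Matrix.det_one]
      set d := b₁.det * b₂.det
      have h3 : (A : Matrix (Fin 3) (Fin 3) F).det ^ 4 * (-(d ^ 2)) ^ 3 = 1 := by
        linear_combination h1 - (A : Matrix (Fin 3) (Fin 3) F).det ^ 4 * (-(d ^ 2)) ^ 3 * hPd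
      rw [show (A : Matrix (Fin 3) (Fin 3) F).det ^ 4 = ((A : Matrix (Fin 3) (Fin 3) F).det ^ 2) ^ 2 by ring,
        hAd, ← hm] at h3
      field_simp at h3
      exact h2 (by linear_combination -h3)
  · ext ⟨i, x⟩ ⟨j, y⟩
    have h1 := congrFun (congrFun hgram ((μ x).2, ν.symm (i, (μ x).1))) ((μ y).2, ν.symm (j, (μ y).1))
    simp only [gramP, Matrix.of_apply, one_smul, Matrix.kroneckerMap_apply, pull_apply,
      Equiv.apply_symm_apply] at h1
    simp only [gramP, Matrix.of_apply, Matrix.kroneckerMap_apply, pull_apply]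
    rw [show (e.trans w).symm (i, x) = e.symm ((μ x).2, ν.symm (i, (μ x).1)) from rfl,
      show (e.trans w).symm (j, y) = e.symm ((μ y).2, ν.symm (j, (μ y).1)) from rfl, h1]
    ring
  · rw [pull_det, Matrix.det_kronecker]
    exact ((isUnit_iff_ne_zero.2 hJd).pow _).mul (hd.det₁.pow _)
  · show Jᵀ = (-1 : F) • J
    rw [neg_one_smul, hJt]
  · show (pull μ (J ⊗ₖ G₁))ᵀ = (-1 : F) • pull μ (J ⊗ₖ G₁)
    rw [pull_transpose, ← Matrix.kroneckerMap_transpose, hJt, hs₁, ← map_smul, neg_one_smul]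
    congr 1
    ext z z'
    simp [Matrix.kroneckerMap_apply]

end Cfsg.Agent.AschEvenTensor44
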