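/-
Groups without normal reducible subgroups inside an even-dimensional orthogonal group: subfield
groups, class two, tensor-induced groups in dimension eight, and the residual class.
-/
import Cfsg.Agent.Lib.AschEvenTensor44
import Cfsg.Agent.Lib.AschFormSub
import Cfsg.Agent.Lib.AschFormTwist
import Cfsg.Agent.Lib.AschFormCore
import Cfsg.Agent.Lib.AschFormWreath
import Cfsg.Agent.Lib.AschFormMono
import Cfsg.Agent.Lib.AschGenExtra

set_option autoImplicit false
set_option linter.unusedSectionVars false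

namespace Cfsg.Agent.AschEvenCore44

open scoped Matrix Kronecker commutatorElement
open QuadraticMap Module
open Cfsg Cfsg.Geo Cfsg.Agent.AschPrimeBasic Cfsg.Agent.AschPrimeForms Cfsg.Agent.AschPrimeCore
  Cfsg.Agent.AschGenAlgebra Cfsg.Agent.AschGenTensor Cfsg.Agent.AschGenExtra Cfsg.Agent.AschFormBasic
  Cfsg.Agent.AschFormTensor Cfsg.Agent.AschFormAlg

variable {n : ℕ} {F : Type*} [Field F] [Fintype F] {q : QuadraticForm F (Fin n → F)}
  {H : Subgroup (GL (Fin n) F)}

/-- a subfield group containing `H` -/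
def SubfieldOut (q : QuadraticForm F (Fin n → F)) (H : Subgroup (GL (Fin n) F)) : Prop :=
  ∃ (φ : F ≃+* F) (r : ℕ) (P : GL (Fin n) F) (ζ : F), r.Prime ∧
    Fintype.card F = Nat.card (fixedField φ) ^ r ∧ (¬ IsPlusTypeOn (⇑q) ⊤ → Odd r) ∧ ζ ≠ 0 ∧
    H ≤ subfieldSubgroup (fixedField φ) P ∧
    IsQuadFormRationalStructure (fun x => ζ * q x) (fixedField φ) P

/-- a monic quadratic polynomial over a subfield of index two has a root -/
lemma exists_root_quad {F₀ : Subfield F} (hc : Fintype.card F = Nat.card F₀ ^ 2) (z : F₀) :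
    ∃ t : F, t ^ 2 + t + (z : F) = 0 := by
  classical
  haveI : Fintype F₀ := Fintype.ofFinite F₀
  open Polynomial in
  by_cases h : ∃ t : F₀, t ^ 2 + t + z = 0
  · obtain ⟨t, ht⟩ := h
    exact ⟨t, by exact_mod_cast ht⟩
  push Not at h
  set p : Polynomial F₀ := Polynomial.X ^ 2 + (Polynomial.C 1 * Polynomial.X + Polynomial.C z) with hp
  have hm : p.Monic := Polynomial.monic_X_pow_add (Polynomial.degree_linear_le.trans_lt (by norm_num))
  have hdeg : p.natDegree = 2 := by
    rw [hp, Polynomial.natDegree_add_eq_left_of_natDegree_lt] <;> simp [Polynomial.natDegree_X_pow]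
  have hirr : Irreducible p := by
    refine Polynomial.irreducible_of_degree_le_three_of_not_isRoot (Finset.mem_Icc.2 ⟨by omega, by omega⟩) fun t ht => ?_
    refine h t ?_
    simp [hp, Polynomial.IsRoot] at ht
    linear_combination ht
  haveI := Fact.mk hirr
  have hK : Module.finrank F₀ (AdjoinRoot p) = 2 := by
    rw [(AdjoinRoot.powerBasis hm.ne_zero).finrank, AdjoinRoot.powerBasis_dim, hdeg]
  have hF : Module.finrank F₀ F = 2 := by
    have h1 := Module.card_eq_pow_finrank (K := F₀) (V := F)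
    rw [hc, Nat.card_eq_fintype_card] at h1
    exact (Nat.pow_right_injective Fintype.one_lt_card h1).symm
  obtain ⟨g⟩ := FiniteField.nonempty_algHom_of_finrank_dvd (F := F₀) (K := AdjoinRoot p) (L := F)
    (by rw [hK, hF])
  refine ⟨g (AdjoinRoot.root p), ?_⟩
  have h1 : Polynomial.aeval (g (AdjoinRoot.root p)) p = 0 := by
    rw [Polynomial.aeval_algHom_apply, AdjoinRoot.aeval_eq, AdjoinRoot.mk_self, map_zero]
  simp [hp] at h1
  rw [← h1]
  simp only [add_assoc]
  rfl

/-- a rational structure over a subfield of index two gives plus type -/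
theorem plus_of_quadratic {m : ℕ} (hn : n = 2 * m) (hnd : (polarBilin q).Nondegenerate) {F₀ : Subfield F}
    (hc : Fintype.card F = Nat.card F₀ ^ 2) {P : GL (Fin n) F} {ζ : F} (hζ : ζ ≠ 0)
    (hrat : IsQuadFormRationalStructure (fun x => ζ * q x) F₀ P) : IsPlusTypeOn (⇑q) ⊤ := by
  classical
  haveI : Finite F₀ := inferInstance
  let ev : (Fin n → F₀) → (Fin n → F) := fun u => (P : Matrix (Fin n) (Fin n) F) *ᵥ fun i => (u i : F)
  have hadd : ∀ u v, ev (u + v) = ev u + ev v := fun u v => by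
    simp only [ev, ← Matrix.mulVec_add]; rfl
  have hsmul : ∀ (c : F₀) u, ev (c • u) = (c : F) • ev u := fun c u => by
    simp only [ev, ← Matrix.mulVec_smul]; rfl
  let val : (Fin n → F₀) → F₀ := fun u => ⟨ζ * q (ev u), hrat _ fun i => (u i).2⟩
  have hval : ∀ u, (val u : F) = ζ * q (ev u) := fun u => rfl
  have hpol : ∀ u v, ((polar val u v : F₀) : F) = ζ * polar q (ev u) (ev v) := fun u v => by
    simp only [polar, AddSubgroupClass.coe_sub, hval, hadd]; ring
  let q₀ : QuadraticForm F₀ (Fin n → F₀) := QuadraticMap.ofPolar val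
    (fun a x => Subtype.ext (by
      rw [hval, hsmul, QuadraticMap.map_smul]
      simp only [smul_eq_mul, MulMemClass.coe_mul, hval]
      ring))
    (fun x x' y => Subtype.ext (by
      rw [AddMemClass.coe_add, hpol, hpol, hpol, hadd, polar_add_left]; ring))
    (fun a x y => Subtype.ext (by
      rw [smul_eq_mul, MulMemClass.coe_mul, hpol, hpol, hsmul, polar_smul_left, smul_eq_mul]; ring))
  have hev : ∀ x : Fin n → F, ∃ (c : Fin n → F), x = ∑ j, c j • ev (Pi.single j 1) := fun x => by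
    refine ⟨((P⁻¹ : GL (Fin n) F) : Matrix (Fin n) (Fin n) F) *ᵥ x, ?_⟩
    have : ∀ j, ev (Pi.single j 1) = (P : Matrix (Fin n) (Fin n) F) *ᵥ Pi.single j 1 := fun j => by
      simp only [ev]
      congr 1
      funext i
      rw [Pi.single_apply, Pi.single_apply]
      split_ifs <;> simp
    simp only [this, ← Matrix.mulVec_smul, ← Matrix.mulVec_sum]
    rw [← pi_eq_sum_univ', mulVec_inv_mulVec]
  have hinj : ∀ u, ev u = 0 → u = 0 := fun u hu => by
    have h1 := congrArg (fun w => ((P⁻¹ : GL (Fin n) F) : Matrix (Fin n) (Fin n) F) *ᵥ w) hu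
    simp only [ev, inv_mulVec_mulVec, Matrix.mulVec_zero] at h1
    exact funext fun i => Subtype.ext (congrFun h1 i)
  have hq₀ : (polarBilin q₀).Nondegenerate := by
    have hl : ∀ u, (∀ v, polar val u v = 0) → u = 0 := fun u hu => hinj u <| hnd.1 _ fun x => by
      obtain ⟨c, rfl⟩ := hev x
      rw [map_sum]
      refine Finset.sum_eq_zero fun j _ => ?_
      have h1 := congrArg (fun z : F₀ => (z : F)) (hu (Pi.single j 1))
      simp only [hpol, ZeroMemClass.coe_zero] at h1
      rw [map_smul, polarBilin_apply_apply, (mul_eq_zero.1 h1).resolve_left hζ, smul_zero]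
    exact ⟨hl, fun v hv => hl v fun u => (polar_comm _ v u).trans (hv u)⟩
  obtain ⟨k, e, f, W, ⟨hH, -, -, -, horth, hdim, han, hndW⟩, hW2⟩ := QuadClassify.exists_decomp q₀ hq₀
  rw [finrank_top, Module.finrank_pi, Fintype.card_fin] at hdim
  have hq : ∀ u, val u = 0 → q (ev u) = 0 := fun u hu => by
    have h1 := congrArg (fun z : F₀ => (z : F)) hu
    simp only [hval, ZeroMemClass.coe_zero] at h1
    exact (mul_eq_zero.1 h1).resolve_left hζ
  have hp : ∀ u v, polar q (ev u) (ev v) = ((polar val u v : F₀) : F) / ζ := fun u v => by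
    rw [hpol, mul_div_cancel_left₀ _ hζ]
  -- the vectors of a totally singular subspace
  have main : ∀ (κ : Type) [Fintype κ] (E G : κ → Fin n → F), Fintype.card κ = m → (∀ i, q (E i) = 0) →
      (∀ i j, polar q (E i) (E j) = 0) → (∀ i j, polar q (E i) (G j) = if i = j then 1 else 0) →
      IsPlusTypeOn (⇑q) ⊤ := by
    intro κ _ E G hκ hE hEE hEG
    have hli : LinearIndependent F E := by
      refine Fintype.linearIndependent_iff.2 fun c hc i => ?_
      have h1 := congrArg (fun x => polarBilin q x (G i)) hc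
      simpa [polar_smul_left, hEG, LinearMap.sum_apply] using h1
    refine ⟨Submodule.span F (Set.range E), le_top, fun w hw => ?_, ?_⟩
    · obtain ⟨c, rfl⟩ := (Submodule.mem_span_range_iff_exists_fun F).1 hw
      rw [QuadClassify.map_sum_ortho q _ _ fun i _ j _ _ => by simp [polar_smul_left, polar_smul_right, hEE]]
      exact Finset.sum_eq_zero fun i _ => by rw [QuadraticMap.map_smul, hE, smul_zero]
    · rw [finrank_span_eq_card hli, hκ, finrank_top, Module.finrank_pi, Fintype.card_fin, hn]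
  have hkm : k = m ∨ (k + 1 = m ∧ finrank F₀ W = 2) := by omega
  rcases hkm with rfl | ⟨hk, hW⟩
  · refine main (Fin k) (fun i => ev (e i)) (fun i => ζ • ev (f i)) (Fintype.card_fin k) (fun i => hq _ (hH.qe i))
      (fun i j => by rw [hp, show polar val (e i) (e j) = 0 from hH.pee i j]; simp) fun i j => ?_
    rw [polar_smul_right, hp, show polar val (e i) (f j) = if i = j then 1 else 0 from hH.pef i j, smul_eq_mul]
    split_ifs
    · simp [hζ]
    · simp
  · obtain ⟨x, hx, y, hy, -, hx1, hxy, hroot⟩ := QuadClassify.exists_plane_normal q₀ han hndW hW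
    obtain ⟨t, ht⟩ := exists_root_quad hc (q₀ y)
    have hx' : ζ * q (ev x) = 1 := by rw [← hval, show val x = 1 from hx1]; rfl
    have hy' : ζ * q (ev y) = (q₀ y : F) := rfl
    have hxy' : ζ * polar q (ev x) (ev y) = 1 := by rw [← hpol, show polar val x y = 1 from hxy]; rfl
    have hyx' : ζ * polar q (ev y) (ev x) = 1 := by rw [polar_comm]; exact hxy'
    set z := t • ev x + ev y with hz
    have hz0 : q z = 0 := by
      refine (mul_eq_zero.1 (show ζ * q z = 0 from ?_)).resolve_left hζ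
      rw [hz, QuadraticMap.map_add q, QuadraticMap.map_smul, polar_smul_left, smul_eq_mul, smul_eq_mul]
      linear_combination t * t * hx' + hy' + t * hxy' + ht
    obtain ⟨s, hs⟩ : ∃ s : F, polar q z (s • ev x) = 1 := by
      have h2t : ζ * polar q z (ev x) = 2 * t + 1 := by
        rw [hz, polar_add_left, polar_smul_left, AschEvenBase44.polar_self_eq, smul_eq_mul]
        linear_combination 2 * t * hx' + hyx'
      by_cases h0 : (2 : F) * t + 1 = 0
      · exfalso
        have h2 : (2 : F) ≠ 0 := fun h => by rw [h, zero_mul, zero_add] at h0; exact one_ne_zero h0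
        refine hroot ⟨t, ?_⟩ ?_
        · have : t = -(1 / 2) := by field_simp; linear_combination h0
          rw [this]
          exact neg_mem (div_mem (one_mem _) (by
            rw [show (2 : F) = 1 + 1 by norm_num]; exact add_mem (one_mem _) (one_mem _)))
        · exact Subtype.ext (by push_cast; linear_combination ht)
      · refine ⟨ζ / (2 * t + 1), ?_⟩
        rw [polar_smul_right, smul_eq_mul]
        field_simp
        linear_combination h2t
    have hperp : ∀ i (w : Fin n → F₀), w ∈ W → polar q (ev (e i)) (ev w) = 0 ∧ polar q (ev (f i)) (ev w) = 0 := by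
      intro i w hw
      obtain ⟨h1, h3⟩ := horth i w hw
      rw [hp, hp, show polar val (e i) w = 0 from h1, show polar val (f i) w = 0 from h3]
      simp
    refine main (Fin k ⊕ Unit) (Sum.elim (fun i => ev (e i)) fun _ => z)
      (Sum.elim (fun i => ζ • ev (f i)) fun _ => s • ev x) (by simp [hk]) ?_ ?_ ?_
    · rintro (i | _)
      · exact hq _ (hH.qe i)
      · exact hz0
    · rintro (i | _) (j | _)
      · rw [Sum.elim_inl, Sum.elim_inl, hp, show polar val (e i) (e j) = 0 from hH.pee i j]; simp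
      · simp [hz, polar_add_right, polar_smul_right, (hperp i x hx).1, (hperp i y hy).1]
      · simp [hz, polar_comm (⇑q) _ (ev (e j)), polar_add_right, polar_smul_right, (hperp j x hx).1,
          (hperp j y hy).1]
      · simp [AschEvenBase44.polar_self_eq, hz0]
    · rintro (i | _) (j | _)
      · simp only [Sum.elim_inl, polar_smul_right, hp, show polar val (e i) (f j) = if i = j then 1 else 0 from hH.pef i j,
          smul_eq_mul, Sum.inl.injEq]
        split_ifs
        · simp [hζ]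
        · simp
      · simp [polar_smul_right, (hperp i x hx).1]
      · simp [hz, polar_add_left, polar_smul_left, polar_smul_right, polar_comm (⇑q) _ (ev (f j)),
          (hperp j x hx).2, (hperp j y hy).2]
      · simpa using hs

/-- a minus form has a subfield structure only of odd index -/
theorem odd_of_minus {m : ℕ} (hn : n = 2 * m) (hnd : (polarBilin q).Nondegenerate) {F₀ : Subfield F} {r : ℕ}
    (hr : r.Prime) (hc : Fintype.card F = Nat.card F₀ ^ r) {P : GL (Fin n) F} {ζ : F} (hζ : ζ ≠ 0)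
    (hrat : IsQuadFormRationalStructure (fun x => ζ * q x) F₀ P) : ¬ IsPlusTypeOn (⇑q) ⊤ → Odd r :=
  fun hminus => hr.odd_of_ne_two fun h => hminus (plus_of_quadratic hn hnd (h ▸ hc) hζ hrat)

/-- a simple core realised over a subfield -/
theorem subfield_rational {m : ℕ} (hn : n = 2 * m) (hm : 1 ≤ m) (hnd : (polarBilin q).Nondegenerate)
    (hH : H ≤ omegaGL ⇑q) {S : Subgroup (GL (Fin n) F)} (hS : AbsIrred S) (hSn : NormalBy H S)
    (hSH : S ≤ H) {F₀ : Subfield F} (hne : F₀ ≠ ⊤) (hreal : RealisableOver F₀ (matrixSet S)) :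
    SubfieldOut q H := by
  classical
  haveI : Nonempty (Fin n) := ⟨⟨0, by omega⟩⟩
  obtain ⟨B, hB⟩ := hreal
  obtain ⟨φ, r, hr, hcard, hfixF⟩ := exists_maximal_above hne
  have hfix : ∀ s ∈ S, ∀ i j, φ (((B * s * B⁻¹ : GL (Fin n) F) : Matrix (Fin n) (Fin n) F) i j) =
      ((B * s * B⁻¹ : GL (Fin n) F) : Matrix (Fin n) (Fin n) F) i j :=
    fun s hs i j => hfixF _ (by simpa using hB _ ⟨s, hs, rfl⟩ i j)
  have hf := AschEvenBase44.formData hnd
  obtain ⟨μ, G₀, hμ, hgram, hGfix, -, -⟩ := AschFormSub.scaled_rational (σ := RingEquiv.refl F) (φ := φ)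
    (fun x => rfl) hf hS hfix fun s hs => ⟨1, map_one φ, fun u v => by
      rw [one_mul]; exact AschEvenBase44.isos hH s (hSH hs) u v⟩
  set P : GL (Fin n) F := B⁻¹ with hP
  set ζ := μ⁻¹ with hζdef
  have hζ : ζ ≠ 0 := inv_ne_zero hμ
  have hform : ∀ x y : Fin n → F, ζ * polar q ((P : Matrix (Fin n) (Fin n) F) *ᵥ x)
      ((P : Matrix (Fin n) (Fin n) F) *ᵥ y) = x ⬝ᵥ (G₀ *ᵥ y) := by
    intro x y
    rw [hf.sesq.transform, hgram]
    simp [Matrix.smul_mulVec, dotProduct_smul, hζdef, hμ, Function.comp_def]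
  have hφdot : ∀ x y : Fin n → F, φ (x ⬝ᵥ (G₀ *ᵥ y)) = (φ ∘ x) ⬝ᵥ (G₀ *ᵥ (φ ∘ y)) := by
    intro x y
    simp only [dotProduct, Matrix.mulVec, map_sum, map_mul, Function.comp_apply]
    refine Finset.sum_congr rfl fun i _ => ?_
    congr 1
    refine Finset.sum_congr rfl fun j _ => ?_
    rw [show φ (G₀ i j) = G₀ i j from congrFun (congrFun hGfix i) j]
  let Bs : (Fin n → F) → (Fin n → F) := fun v => φ.symm ∘ ((B : Matrix (Fin n) (Fin n) F) *ᵥ v)
  let Q : (Fin n → F) → F := fun v => ζ⁻¹ * φ (ζ * q ((P : Matrix (Fin n) (Fin n) F) *ᵥ Bs v))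
  have hBsa : ∀ u v, Bs (u + v) = Bs u + Bs v := fun u v => by
    funext i; simp [Bs, Matrix.mulVec_add]
  have hBss : ∀ (c : F) v, Bs (c • v) = φ.symm c • Bs v := fun c v => by
    funext i; simp [Bs, Matrix.mulVec_smul]
  have hQs : ∀ (c : F) v, Q (c • v) = c ^ 2 * Q v := fun c v => by
    simp only [Q, hBss, Matrix.mulVec_smul, QuadraticMap.map_smul, smul_eq_mul, map_mul, RingEquiv.apply_symm_apply]
    ring
  have hid : ∀ w, φ ∘ Bs w = (B : Matrix (Fin n) (Fin n) F) *ᵥ w := fun w => by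
    funext i; simp [Bs]
  have hQp : ∀ u v, polar Q u v = polar (⇑q) u v := fun u v => by
    have h1 : polar Q u v = ζ⁻¹ * φ (ζ * polar q ((P : Matrix (Fin n) (Fin n) F) *ᵥ Bs u)
        ((P : Matrix (Fin n) (Fin n) F) *ᵥ Bs v)) := by
      simp only [polar, Q, hBsa, Matrix.mulVec_add, mul_sub, map_sub]
    rw [h1, hform, hφdot, hid, hid, ← hform, hP, inv_mulVec_mulVec, inv_mulVec_mulVec, inv_mul_cancel_left₀ hζ]
  have hQi : ∀ g ∈ S, ∀ v, Q ((g : Matrix (Fin n) (Fin n) F) *ᵥ v) = Q v := by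
    intro g hg v
    have key : (P : Matrix (Fin n) (Fin n) F) *ᵥ Bs ((g : Matrix (Fin n) (Fin n) F) *ᵥ v) =
        (g : Matrix (Fin n) (Fin n) F) *ᵥ ((P : Matrix (Fin n) (Fin n) F) *ᵥ Bs v) := by
      have h1 : Bs ((g : Matrix (Fin n) (Fin n) F) *ᵥ v) =
          ((B * g * B⁻¹ : GL (Fin n) F) : Matrix (Fin n) (Fin n) F) *ᵥ Bs v := by
        funext i
        apply φ.injective
        have hs' : (((B * g * B⁻¹ : GL (Fin n) F) : Matrix (Fin n) (Fin n) F)).map φ =
            ((B * g * B⁻¹ : GL (Fin n) F) : Matrix (Fin n) (Fin n) F) := Matrix.ext (hfix g hg)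
        show φ (φ.symm (((B : Matrix (Fin n) (Fin n) F) *ᵥ ((g : Matrix (Fin n) (Fin n) F) *ᵥ v)) i)) =
          (φ : F →+* F) ((((B * g * B⁻¹ : GL (Fin n) F) : Matrix (Fin n) (Fin n) F) *ᵥ Bs v) i)
        rw [RingEquiv.apply_symm_apply, RingHom.map_mulVec]
        show _ = ((((B * g * B⁻¹ : GL (Fin n) F) : Matrix (Fin n) (Fin n) F)).map φ *ᵥ (φ ∘ Bs v)) i
        rw [hs', hid]
        simp [Units.val_mul, Matrix.mulVec_mulVec, mul_assoc]
      rw [h1, hP]
      simp [Units.val_mul, Matrix.mulVec_mulVec, mul_assoc]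
    simp only [Q, key, AschEvenBase44.omega_quad (hH (hSH hg))]
  have hQq := AschEvenBase44.quad_unique (q := q) (by rw [Fintype.card_fin]; omega) hS.irred
    (fun g hg v => AschEvenBase44.omega_quad (hH (hSH hg)) v) hQs hQp hQi
  have hrat : IsQuadFormRationalStructure (fun x => ζ * q x) (fixedField φ) P := by
    intro u hu
    show φ (ζ * q ((P : Matrix (Fin n) (Fin n) F) *ᵥ u)) = ζ * q ((P : Matrix (Fin n) (Fin n) F) *ᵥ u)
    have h1 := hQq ((P : Matrix (Fin n) (Fin n) F) *ᵥ u)
    have h3 : Bs ((P : Matrix (Fin n) (Fin n) F) *ᵥ u) = u := by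
      simp only [Bs, hP, mulVec_inv_mulVec]
      funext i
      exact φ.injective (by rw [Function.comp_apply, RingEquiv.apply_symm_apply]; exact (mem_fixedField.1 (hu i)).symm)
    simp only [Q, h3] at h1
    calc φ (ζ * q ((P : Matrix (Fin n) (Fin n) F) *ᵥ u))
        = ζ * (ζ⁻¹ * φ (ζ * q ((P : Matrix (Fin n) (Fin n) F) *ᵥ u))) := (mul_inv_cancel_left₀ hζ _).symm
      _ = ζ * q ((P : Matrix (Fin n) (Fin n) F) *ᵥ u) := by rw [h1]
  exact ⟨φ, r, P, ζ, hr, hcard, odd_of_minus hn hnd hr hcard hζ hrat, hζ, le_subfieldSubgroup hS hSn hfix, hrat⟩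

/-- a minimal class-two group needs a dimension that is a power of two -/
theorem class_two_power [Nonempty (Fin n)] {N : Subgroup (GL (Fin n) F)} (hn : 2 ∣ n) (hn2 : 2 ≤ n)
    (hNn : NormalBy H N) (habs : AbsIrred N) (hc : Class2 N)
    (hmin : ∀ K, K ≤ N → NormalBy H K → N ⊓ scalars (Fin n) F ≤ K → K ≤ scalars (Fin n) F ∨ K = N) :
    ∃ a, n * n = 2 ^ a := by
  classical
  set Z := scalars (Fin n) F
  haveI : (Z.subgroupOf N).Normal := (scalars_normal (ι := Fin n) (F := F)).subgroupOf N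
  have hQ := card_quot habs hc
  rw [Fintype.card_fin] at hQ
  let mk : N →* N ⧸ Z.subgroupOf N := QuotientGroup.mk' _
  have hcomm : ∀ a b : N ⧸ Z.subgroupOf N, a * b = b * a := by
    intro a b
    obtain ⟨a, rfl⟩ := QuotientGroup.mk'_surjective _ a
    obtain ⟨b, rfl⟩ := QuotientGroup.mk'_surjective _ b
    rw [← commutatorElement_eq_one_iff_mul_comm, ← map_commutatorElement]
    exact (QuotientGroup.eq_one_iff _).2 (hc a a.2 b b.2)
  letI : CommGroup (N ⧸ Z.subgroupOf N) :=
    { (inferInstance : Group (N ⧸ Z.subgroupOf N)) with mul_comm := hcomm }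
  let K : Subgroup (GL (Fin n) F) :=
    { carrier := {x | x ∈ N ∧ x * x ∈ Z}
      one_mem' := ⟨N.one_mem, by simp⟩
      mul_mem' := fun {a b} ha hb => ⟨N.mul_mem ha.1 hb.1, by
        have e1 : (mk ⟨a, ha.1⟩) * mk ⟨a, ha.1⟩ = 1 := by
          rw [← map_mul]; exact (QuotientGroup.eq_one_iff _).2 ha.2
        have e2 : (mk ⟨b, hb.1⟩) * mk ⟨b, hb.1⟩ = 1 := by
          rw [← map_mul]; exact (QuotientGroup.eq_one_iff _).2 hb.2
        have e3 : mk (⟨a, ha.1⟩ * ⟨b, hb.1⟩ * (⟨a, ha.1⟩ * ⟨b, hb.1⟩)) = 1 := by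
          rw [map_mul, map_mul, mul_mul_mul_comm, e1, e2, one_mul]
        exact Subgroup.mem_subgroupOf.1 ((QuotientGroup.eq_one_iff (N := Z.subgroupOf N) _).1 e3)⟩
      inv_mem' := fun {a} ha => ⟨N.inv_mem ha.1, by rw [← mul_inv_rev]; exact Z.inv_mem ha.2⟩ }
  have hKn : NormalBy H K := fun g hg x hx => ⟨hNn g hg x hx.1, by
    have : g * x * g⁻¹ * (g * x * g⁻¹) = g * (x * x) * g⁻¹ := by group
    rw [this]
    exact (scalars_normal (ι := Fin n) (F := F)).conj_mem _ hx.2 g⟩
  have hKZ : N ⊓ Z ≤ K := fun x hx => ⟨hx.1, Z.mul_mem hx.2 hx.2⟩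
  haveI : Fact (Nat.Prime 2) := ⟨Nat.prime_two⟩
  haveI : Finite (N ⧸ Z.subgroupOf N) := Nat.finite_of_card_ne_zero (by rw [hQ]; positivity)
  obtain ⟨x, hx⟩ := exists_prime_orderOf_dvd_card' (G := N ⧸ Z.subgroupOf N) 2
    (by rw [hQ]; exact dvd_mul_of_dvd_left hn n)
  rcases hmin K (fun x hx => hx.1) hKn hKZ with h | h
  · exfalso
    obtain ⟨y, rfl⟩ := QuotientGroup.mk'_surjective _ x
    have hy : (y : GL (Fin n) F) ∈ K := ⟨y.2, by
      have h1 := pow_orderOf_eq_one (mk y)
      rw [hx, _root_.sq, ← map_mul] at h1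
      exact Subgroup.mem_subgroupOf.1 ((QuotientGroup.eq_one_iff (N := Z.subgroupOf N) _).1 h1)⟩
    have h2 : mk y = 1 := (QuotientGroup.eq_one_iff _).2 (h hy)
    rw [h2, orderOf_one] at hx
    exact absurd hx (by norm_num)
  · have hp : IsPGroup 2 (N ⧸ Z.subgroupOf N) := fun u => ⟨1, by
      obtain ⟨y, rfl⟩ := QuotientGroup.mk'_surjective _ u
      rw [pow_one, _root_.sq, ← map_mul]
      exact (QuotientGroup.eq_one_iff _).2 (h.ge y.2).2⟩
    obtain ⟨a, ha⟩ := IsPGroup.iff_card.1 hp
    exact ⟨a, hQ ▸ ha⟩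

/-- a class-two group in dimension eight forces plus type -/
theorem class_two_eight {q : QuadraticForm F (Fin 8 → F)} (hnd : (polarBilin q).Nondegenerate)
    (hminus : ¬ IsPlusTypeOn (⇑q) ⊤) {N : Subgroup (GL (Fin 8) F)} (hN : N ≤ omegaGL ⇑q) (habs : AbsIrred N)
    (hc : Class2 N) : False := by
  classical
  have h2 : (2 : F) ≠ 0 := fun h => card_ne_zero habs hc (by
    rw [Fintype.card_fin]
    push_cast
    linear_combination 4 * h)
  have hscal : ∀ g ∈ N, ∀ c : F, (g : Matrix (Fin 8) (Fin 8) F) = c • 1 → c = 1 ∨ c = -1 := by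
    intro g hg c hgc
    obtain ⟨v, hv⟩ : ∃ v, q v ≠ 0 := by
      by_contra hall
      push Not at hall
      have h1 := hnd.1 (Pi.single 0 1) fun y => by simp [polar, hall]
      exact one_ne_zero (α := F) (by simpa using congrFun h1 0)
    have h1 := AschEvenBase44.omega_quad (hN hg) v
    rw [hgc, Matrix.smul_mulVec, Matrix.one_mulVec, QuadraticMap.map_smul, smul_eq_mul] at h1
    exact mul_self_eq_one_iff.1 (mul_right_cancel₀ hv (h1.trans (one_mul _).symm))
  have hanti : ∀ x ∈ N, ∀ y ∈ N, x * y = y * x ∨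
      (y : Matrix (Fin 8) (Fin 8) F) * (x : Matrix (Fin 8) (Fin 8) F) =
        -((x : Matrix (Fin 8) (Fin 8) F) * (y : Matrix (Fin 8) (Fin 8) F)) := by
    intro x hx y hy
    obtain ⟨c, hcv⟩ := (mem_scalars_iff _).1 (hc y hy x hx)
    have hmem : ⁅y, x⁆ ∈ N := by
      rw [commutatorElement_def]
      exact N.mul_mem (N.mul_mem (N.mul_mem hy hx) (N.inv_mem hy)) (N.inv_mem hx)
    have hval : (y : Matrix (Fin 8) (Fin 8) F) * (x : Matrix (Fin 8) (Fin 8) F) =
        (c : F) • ((x : Matrix (Fin 8) (Fin 8) F) * (y : Matrix (Fin 8) (Fin 8) F)) := by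
      have h1 := congrArg Units.val (show y * x = ⁅y, x⁆ * (x * y) by rw [commutatorElement_def]; group)
      simpa [Units.val_mul, hcv, Matrix.smul_mul] using h1
    rcases hscal _ hmem _ hcv with h | h
    · exact Or.inl (Units.ext (by rw [Units.val_mul, Units.val_mul, hval, h, one_smul]))
    · exact Or.inr (by rw [hval, h, neg_one_smul])
  have hQ := card_quot habs hc
  rw [Fintype.card_fin] at hQ
  set Z := scalars (Fin 8) F
  have hsq : ∀ x ∈ N, (x : Matrix (Fin 8) (Fin 8) F) * x = 1 ∨ (x : Matrix (Fin 8) (Fin 8) F) * x = -1 := by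
    intro x hx
    have hxs : x * x ∈ Z := habs.scalar_of_comm fun y hy => by
      apply Units.ext
      simp only [Units.val_mul]
      rcases hanti x hx y hy with h | h
      · have h' := congrArg Units.val h
        simp only [Units.val_mul] at h'
        rw [mul_assoc, h', ← mul_assoc, h', mul_assoc]
      · have h' : (x : Matrix (Fin 8) (Fin 8) F) * y = -((y : Matrix (Fin 8) (Fin 8) F) * x) := by rw [h, neg_neg]
        rw [mul_assoc, h', mul_neg, ← mul_assoc, h', neg_mul, neg_neg, mul_assoc]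
    obtain ⟨c, hcv⟩ := (mem_scalars_iff _).1 hxs
    rw [Units.val_mul] at hcv
    rcases hscal _ (N.mul_mem hx hx) c (by rw [Units.val_mul]; exact hcv) with h | h
    · exact Or.inl (by rw [hcv, h, one_smul])
    · exact Or.inr (by rw [hcv, h, neg_one_smul])
  obtain ⟨g, hg, hgs, hgg⟩ : ∃ g ∈ N, g ∉ Z ∧ (g : Matrix (Fin 8) (Fin 8) F) * g = 1 := by
    by_contra hall
    push Not at hall
    have hneg : ∀ g ∈ N, g ∉ Z → (g : Matrix (Fin 8) (Fin 8) F) * g = -1 := fun g hg hgs =>
      (hsq g hg).resolve_left (hall g hg hgs)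
    obtain ⟨x, hx, hxs⟩ : ∃ x ∈ N, x ∉ Z := by
      by_contra hn
      push Not at hn
      have : Subsingleton (N ⧸ Z.subgroupOf N) := ⟨fun a b => by
        obtain ⟨a, rfl⟩ := QuotientGroup.mk_surjective a
        obtain ⟨b, rfl⟩ := QuotientGroup.mk_surjective b
        exact QuotientGroup.eq.2 (Subgroup.mem_subgroupOf.2 (hn _ (a⁻¹ * b).2))⟩
      rw [Nat.card_of_subsingleton (1 : N ⧸ Z.subgroupOf N)] at hQ
      norm_num at hQ
    obtain ⟨y, hy, hne⟩ := commutator_ne habs hxs
    -- the centraliser of `x` is small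
    have hC : ∀ z ∈ N, x * z = z * x → z ∈ Z ∨ x * z ∈ Z := by
      intro z hz hxz
      by_contra hn
      push Not at hn
      have h1 := hneg z hz hn.1
      have h3 := hneg (x * z) (N.mul_mem hx hz) hn.2
      have h4 := congrArg Units.val hxz
      simp only [Units.val_mul] at h3 h4
      rw [mul_assoc (x : Matrix (Fin 8) (Fin 8) F), ← mul_assoc (z : Matrix (Fin 8) (Fin 8) F), ← h4, mul_assoc,
        h1, mul_neg, mul_one, mul_neg, hneg x hx hxs, neg_neg] at h3
      have h5 := congrFun (congrFun h3 0) 0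
      simp at h5
      exact h2 (by linear_combination h5)
    let rep : Fin 2 × Fin 2 → N := fun p => ⟨x, hx⟩ ^ (p.1 : ℕ) * ⟨y, hy⟩ ^ (p.2 : ℕ)
    have hsurj : Function.Surjective fun p => (QuotientGroup.mk (rep p) : N ⧸ Z.subgroupOf N) := by
      intro u
      obtain ⟨w, rfl⟩ := QuotientGroup.mk_surjective u
      have hxy : (y : Matrix (Fin 8) (Fin 8) F) * x = -((x : Matrix (Fin 8) (Fin 8) F) * y) :=
        (hanti x hx y hy).resolve_left fun h => hne (commutatorElement_eq_one_iff_mul_comm.2 h.symm)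
      have red : ∀ z ∈ N, x * z = z * x → ∃ i : Fin 2, x ^ (i : ℕ) * z ∈ Z := fun z hz h => by
        rcases hC z hz h with h | h
        · exact ⟨0, by simpa using h⟩
        · exact ⟨1, by simpa using h⟩
      have hfin : ∀ (i j : Fin 2) (z : N), x ^ (i : ℕ) * (z : GL (Fin 8) F) ∈ Z →
          (z : GL (Fin 8) F) = (w : GL (Fin 8) F) * (y ^ (j : ℕ))⁻¹ →
          ∃ p, (QuotientGroup.mk (rep p) : N ⧸ Z.subgroupOf N) = QuotientGroup.mk w := by
        intro i j z hiz hz
        refine ⟨(i, j), QuotientGroup.eq.2 (Subgroup.mem_subgroupOf.2 ?_)⟩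
        simp only [rep, Subgroup.coe_mul, Subgroup.coe_inv, SubmonoidClass.coe_pow, mul_inv_rev]
        have hw : (w : GL (Fin 8) F) = (z : GL (Fin 8) F) * y ^ (j : ℕ) := by rw [hz]; group
        have hx2 : (x ^ (i : ℕ))⁻¹ * (z : GL (Fin 8) F) ∈ Z := by
          have hxx : x ^ (i : ℕ) * x ^ (i : ℕ) ∈ Z := by
            fin_cases i
            · simp
            · refine (mem_scalars_iff _).2 ⟨-1, ?_⟩
              simp [hneg x hx hxs]
          have : (x ^ (i : ℕ))⁻¹ * (z : GL (Fin 8) F) =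
              (x ^ (i : ℕ) * x ^ (i : ℕ))⁻¹ * (x ^ (i : ℕ) * (z : GL (Fin 8) F)) := by group
          rw [this]
          exact Z.mul_mem (Z.inv_mem hxx) hiz
        rw [hw, ← mul_assoc, mul_assoc (y ^ (j : ℕ))⁻¹, mul_assoc (y ^ (j : ℕ))⁻¹,
          scalar_comm hx2 (y ^ (j : ℕ)), inv_mul_cancel_left]
        exact hx2
      rcases hanti x hx w w.2 with h | h
      · obtain ⟨i, hi⟩ := red w w.2 h
        exact hfin i 0 w hi (by simp)
      · have hzc : x * ((w : GL (Fin 8) F) * y⁻¹) = (w : GL (Fin 8) F) * y⁻¹ * x := by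
          apply Units.ext
          simp only [Units.val_mul]
          have hy' : ((y⁻¹ : GL (Fin 8) F) : Matrix (Fin 8) (Fin 8) F) * x =
              -((x : Matrix (Fin 8) (Fin 8) F) * ((y⁻¹ : GL (Fin 8) F) : Matrix (Fin 8) (Fin 8) F)) := by
            have h1 := congrArg (fun M => ((y⁻¹ : GL (Fin 8) F) : Matrix (Fin 8) (Fin 8) F) * M *
              ((y⁻¹ : GL (Fin 8) F) : Matrix (Fin 8) (Fin 8) F)) hxy
            simp [mul_assoc] at h1
            simp [h1]
          rw [mul_assoc _ _ (x : Matrix (Fin 8) (Fin 8) F), hy', mul_neg, ← mul_assoc, ← mul_assoc, h, neg_mul, neg_neg]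
        obtain ⟨i, hi⟩ := red _ (N.mul_mem w.2 (N.inv_mem hy)) hzc
        exact hfin i 1 ⟨_, N.mul_mem w.2 (N.inv_mem hy)⟩ hi (by simp)
    have := Nat.card_le_card_of_surjective _ hsurj
    rw [hQ] at this
    simp at this
  obtain ⟨y, hy, hne⟩ := commutator_ne habs hgs
  have hyg : (y : Matrix (Fin 8) (Fin 8) F) * g = -((g : Matrix (Fin 8) (Fin 8) F) * y) :=
    (hanti g hg y hy).resolve_left fun h => hne (commutatorElement_eq_one_iff_mul_comm.2 h.symm)
  let E : Fin 2 → Submodule F (Fin 8 → F) := fun i =>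
    LinearMap.ker (Matrix.toLin' ((g : Matrix (Fin 8) (Fin 8) F) - (if i = 0 then (1 : F) else -1) • 1))
  have hEm : ∀ i v, v ∈ E i ↔ (g : Matrix (Fin 8) (Fin 8) F) *ᵥ v = (if i = 0 then (1 : F) else -1) • v := by
    intro i v
    simp only [E, LinearMap.mem_ker, Matrix.toLin'_apply, Matrix.sub_mulVec, Matrix.smul_mulVec, Matrix.one_mulVec,
      sub_eq_zero]
  have hI := AschEvenBase44.isos hN
  have horth : ∀ u ∈ E 0, ∀ v ∈ E 1, polar q u v = 0 := by
    intro u hu v hv
    have h1 := hI g hg u v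
    rw [(hEm 0 u).1 hu, (hEm 1 v).1 hv] at h1
    simp [polar_smul_left, polar_smul_right] at h1
    exact (mul_eq_zero.1 (show (2 : F) * polar q u v = 0 by linear_combination -h1)).resolve_left h2
  have hdis : E 0 ⊓ E 1 = ⊥ := by
    refine (Submodule.eq_bot_iff _).2 fun v hv => ?_
    have h1 := ((hEm 0 v).1 hv.1).symm.trans ((hEm 1 v).1 hv.2)
    simp at h1
    funext i
    have h3 := congrFun h1 i
    simp at h3
    exact (mul_eq_zero.1 (show (2 : F) * v i = 0 by linear_combination h3)).resolve_left h2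
  have hsup : E 0 ⊔ E 1 = ⊤ := by
    refine eq_top_iff.2 fun v _ => Submodule.mem_sup.2
      ⟨(2 : F)⁻¹ • (v + (g : Matrix (Fin 8) (Fin 8) F) *ᵥ v), (hEm 0 _).2 ?_,
       (2 : F)⁻¹ • (v - (g : Matrix (Fin 8) (Fin 8) F) *ᵥ v), (hEm 1 _).2 ?_, ?_⟩
    · simp [Matrix.mulVec_smul, Matrix.mulVec_add, Matrix.mulVec_mulVec, hgg, add_comm]
    · simp [Matrix.mulVec_smul, Matrix.mulVec_sub, Matrix.mulVec_mulVec, hgg, ← smul_neg, neg_sub]
    · rw [← smul_add, add_add_sub_cancel, ← two_smul F v, smul_smul, inv_mul_cancel₀ h2, one_smul]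
  have hmap : ∀ i, (E i).map (Matrix.toLin' (y : Matrix (Fin 8) (Fin 8) F)) ≤ E (i + 1) := by
    rintro i _ ⟨v, hv, rfl⟩
    rw [hEm, Matrix.toLin'_apply, Matrix.mulVec_mulVec]
    have h1 : (g : Matrix (Fin 8) (Fin 8) F) * y = -((y : Matrix (Fin 8) (Fin 8) F) * g) := by rw [hyg, neg_neg]
    rw [h1, Matrix.neg_mulVec, ← Matrix.mulVec_mulVec, (hEm i v).1 hv, Matrix.mulVec_smul]
    fin_cases i <;> simp
  have hinj : Function.Injective (Matrix.toLin' (y : Matrix (Fin 8) (Fin 8) F)) :=
    fun a b hab => (act y).injective (by simpa using hab)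
  have hle : ∀ i, finrank F (E i) ≤ finrank F (E (i + 1)) := fun i => by
    rw [(Submodule.equivMapOfInjective _ hinj (E i)).finrank_eq]
    exact Submodule.finrank_mono (hmap i)
  have hsum := Submodule.finrank_sup_add_finrank_inf_eq (E 0) (E 1)
  rw [hsup, hdis, finrank_bot, finrank_top, Module.finrank_pi, Fintype.card_fin] at hsum
  have hle0 : finrank F (E 0) ≤ finrank F (E 1) := hle 0
  have hle1 : finrank F (E 1) ≤ finrank F (E 0) := hle 1
  have hd0 : finrank F (E 0) = 4 := by omega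
  have hd1 : finrank F (E 1) = 4 := by omega
  have heq : (E 0).map (Matrix.toLin' (y : Matrix (Fin 8) (Fin 8) F)) = E 1 :=
    Submodule.eq_of_le_of_finrank_eq (hmap 0)
      (by rw [← (Submodule.equivMapOfInjective _ hinj (E 0)).finrank_eq, hd0, hd1])
  have hiso : AreIsometricFor (⇑q) (E 0) (E 1) :=
    ⟨(Submodule.equivMapOfInjective _ hinj (E 0)).trans (LinearEquiv.ofEq _ _ heq),
      fun w => AschEvenBase44.omega_quad (hN hy) (w : Fin 8 → F)⟩
  have hndE : ∀ i, QuadClassify.Nondeg q (E i) := by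
    intro i u hu huv
    refine hnd.1 u fun w => ?_
    obtain ⟨a, ha, b, hb, rfl⟩ := Submodule.mem_sup.1 (hsup.ge (Submodule.mem_top (x := w)))
    rw [polarBilin_apply_apply, polar_add_right]
    fin_cases i
    · rw [huv a ha, horth u hu b hb, add_zero]
    · rw [huv b hb, polar_comm (⇑q) u a, horth a ha u hu, add_zero]
  have hD : IsOrthogonalMDecomposition (⇑q) (2 * 2) E := by
    refine ⟨⟨⟨le_rfl, by norm_num, fun i => by fin_cases i; exacts [hd0, hd1], ?_, ?_⟩,
      fun i => AschEvenType44.nondeg_iff.2 (hndE i), ?_⟩, ?_⟩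
    · rw [iSupIndep_def]
      intro i
      fin_cases i
      · refine disjoint_iff.2 (le_bot_iff.1 (le_trans (inf_le_inf_left _ ?_) hdis.le))
        exact iSup₂_le fun j hj => by fin_cases j <;> simp_all
      · refine disjoint_iff.2 (le_bot_iff.1 (le_trans (le_of_eq (inf_comm _ _)) (le_trans (inf_le_inf_right _ ?_) hdis.le)))
        exact iSup₂_le fun j hj => by fin_cases j <;> simp_all
    · rw [eq_top_iff, ← hsup]
      exact sup_le (le_iSup E 0) (le_iSup E 1)
    · intro i j hij a ha b hb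
      fin_cases i <;> fin_cases j
      · exact absurd rfl hij
      · exact horth a ha b hb
      · rw [polar_comm]; exact horth b hb a ha
      · exact absurd rfl hij
    · intro i j
      fin_cases i <;> fin_cases j
      · exact ⟨LinearEquiv.refl F _, fun w => rfl⟩
      · exact hiso
      · obtain ⟨φ, hφ⟩ := hiso
        exact ⟨φ.symm, fun w => by conv_rhs => rw [← φ.apply_symm_apply w, hφ]⟩
      · exact ⟨LinearEquiv.refl F _, fun w => rfl⟩
  exact hminus ((AschEvenType44.plus_iff_members hnd hD 0).2 (Or.inr even_two))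

/-- the eight coordinate triples split as a first coordinate and a pair -/
def triple : (Fin 3 → Fin 2) ≃ Fin 2 × Fin 4 where
  toFun a := (a 0, finProdFinEquiv (m := 2) (n := 2) (a 1, a 2))
  invFun p := ![p.1, ((finProdFinEquiv (m := 2) (n := 2)).symm p.2).1, ((finProdFinEquiv (m := 2) (n := 2)).symm p.2).2]
  left_inv a := by funext i; fin_cases i <;> simp
  right_inv p := by simp

/-- a symmetric form on a plane has an orthogonal basis -/
lemma diag_two (h2 : (2 : F) ≠ 0) {G : Matrix (Fin 2) (Fin 2) F} (hG : Gᵀ = G) (hd : IsUnit G.det) :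
    ∃ (S : GL (Fin 2) F) (d : Fin 2 → F), (∀ i, d i ≠ 0) ∧
      (S : Matrix (Fin 2) (Fin 2) F)ᵀ * G * (S : Matrix (Fin 2) (Fin 2) F) = Matrix.diagonal d := by
  have hsym : G 1 0 = G 0 1 := by rw [← Matrix.transpose_apply G 0 1, hG]
  have hdet := hd.ne_zero
  rw [Matrix.det_fin_two, hsym] at hdet
  have key : ∀ (M : Matrix (Fin 2) (Fin 2) F) (d : Fin 2 → F), (Mᵀ * G * M = Matrix.diagonal d) → M.det ≠ 0 →
      ∃ (S : GL (Fin 2) F) (d : Fin 2 → F), (∀ i, d i ≠ 0) ∧
        (S : Matrix (Fin 2) (Fin 2) F)ᵀ * G * (S : Matrix (Fin 2) (Fin 2) F) = Matrix.diagonal d := by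
    intro M d hM hMd
    refine ⟨Matrix.GeneralLinearGroup.mkOfDetNeZero M hMd, d, fun i hi => ?_, hM⟩
    have h1 := congrArg Matrix.det hM
    rw [Matrix.det_mul, Matrix.det_mul, Matrix.det_transpose, Matrix.det_diagonal,
      Finset.prod_eq_zero (Finset.mem_univ i) hi] at h1
    exact mul_ne_zero (mul_ne_zero hMd hd.ne_zero) hMd h1
  by_cases ha : G 0 0 = 0
  · have hb : G 0 1 ≠ 0 := fun h => hdet (by rw [ha, h]; ring)
    by_cases hdd : G 1 1 = 0
    · refine key !![1, 1; 1, -1] ![2 * G 0 1, -(2 * G 0 1)] ?_ ?_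
      · ext i j
        fin_cases i <;> fin_cases j <;>
          simp [Matrix.mul_apply, Fin.sum_univ_two, ha, hdd, hsym] <;> ring
      · rw [Matrix.det_fin_two]; simp
        intro h; exact h2 (by linear_combination -h)
    · refine key !![0, 1; 1, -(G 0 1 / G 1 1)] ![G 1 1, -(G 0 1 * G 0 1 / G 1 1)] ?_ ?_
      · ext i j
        fin_cases i <;> fin_cases j <;>
          simp [Matrix.mul_apply, Fin.sum_univ_two, ha, hsym] <;> field_simp <;> ring
      · rw [Matrix.det_fin_two]; simp
  · refine key !![1, -(G 0 1 / G 0 0); 0, 1] ![G 0 0, G 1 1 - G 0 1 * G 0 1 / G 0 0] ?_ ?_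
    · ext i j
      fin_cases i <;> fin_cases j <;>
        simp [Matrix.mul_apply, Fin.sum_univ_two, hsym] <;> field_simp <;> ring
    · rw [Matrix.det_fin_two]; simp

/-- in characteristic two a factor that is not alternating fixes a line -/
lemma wreath_line (h2 : (2 : F) = 0) {f : (Fin n → F) → (Fin n → F) → F} {k t : ℕ}
    {e : Fin n ≃ (Fin t → Fin k)} {P : GL (Fin n) F} {G : Matrix (Fin k) (Fin k) F} {a c : F}
    (hd : AschFormWreath.WreathData (RingEquiv.refl F) 1 f H k t e P G a c) (hs : Gᵀ = G) (hdiag : ∃ i, G i i ≠ 0) :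
    ¬ Irred H := by
  classical
  haveI : CharP F 2 := CharTwo.of_one_ne_zero_of_two_eq_zero one_ne_zero h2
  choose s hs' using fun i => FiniteField.isSquare_of_char_two (ringChar.eq F 2) (G i i)
  have hquad : ∀ x : Fin k → F, x ⬝ᵥ (G *ᵥ x) = (∑ i, s i * x i) * (∑ i, s i * x i) := by
    intro x
    have hA : x ⬝ᵥ ((G - Matrix.diagonal fun i => G i i) *ᵥ x) = 0 := by
      refine (FormCongruence.quad_zero_iff _).2 ⟨fun i => by simp, fun i j => ?_⟩ x
      by_cases hij : i = j
      · subst hij; simp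
      · have := congrFun (congrFun hs i) j
        rw [Matrix.transpose_apply] at this
        simp [hij, Ne.symm hij, this, CharTwo.add_self_eq_zero]
    rw [Matrix.sub_mulVec, dotProduct_sub, sub_eq_zero] at hA
    rw [hA, CharTwo.sum_mul_self]
    simp only [dotProduct, Matrix.mulVec_diagonal]
    exact Finset.sum_congr rfl fun k _ => by rw [hs' k]; ring
  set x₀ : Fin k → F := G⁻¹ *ᵥ s with hx₀
  have hGx : G *ᵥ x₀ = s := by rw [hx₀, Matrix.mulVec_mulVec, Matrix.mul_nonsing_inv _ hd.det, Matrix.one_mulVec]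
  have hs0 : s ≠ 0 := by
    obtain ⟨i, hi⟩ := hdiag
    exact fun h => hi (by rw [hs', h]; simp)
  have hx0 : x₀ ≠ 0 := fun h => hs0 (by rw [← hGx, h, Matrix.mulVec_zero])
  -- the distinguished vector is an eigenvector of every similarity
  have heig : ∀ (A : GL (Fin k) F) (l : F), l ≠ 0 →
      (A : Matrix (Fin k) (Fin k) F)ᵀ * G * (A : Matrix (Fin k) (Fin k) F) = l • G →
      ∃ r : F, (A : Matrix (Fin k) (Fin k) F) *ᵥ x₀ = r • x₀ := by
    intro A l hl hA
    obtain ⟨r, hr⟩ := FiniteField.isSquare_of_char_two (ringChar.eq F 2) l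
    have hr0 : r ≠ 0 := fun h => hl (by rw [hr, h, mul_zero])
    have hrow : (A : Matrix (Fin k) (Fin k) F)ᵀ *ᵥ s = r • s := by
      funext j
      have h1 := hquad ((A : Matrix (Fin k) (Fin k) F) *ᵥ Pi.single j 1)
      rw [show ((A : Matrix (Fin k) (Fin k) F) *ᵥ Pi.single j 1) ⬝ᵥ (G *ᵥ ((A : Matrix (Fin k) (Fin k) F) *ᵥ Pi.single j 1)) =
        ((A : Matrix (Fin k) (Fin k) F)ᵀ * G * (A : Matrix (Fin k) (Fin k) F)) j j from by
          rw [Matrix.mul_assoc, Matrix.mul_apply, Matrix.mulVec_single_one]; rfl, hA, Matrix.smul_apply, smul_eq_mul,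
        hs' j, hr] at h1
      rw [Pi.smul_apply, smul_eq_mul]
      rw [show ((A : Matrix (Fin k) (Fin k) F)ᵀ *ᵥ s) j = ∑ i, s i * ((A : Matrix (Fin k) (Fin k) F) *ᵥ Pi.single j 1) i from by
        rw [Matrix.mulVec_single_one]; simp [Matrix.mulVec, dotProduct, mul_comm]]
      rcases mul_self_eq_mul_self_iff.1 (h1.symm.trans (by ring : r * r * (s j * s j) = r * s j * (r * s j))) with h | h
      · exact h
      · rw [h, CharTwo.neg_eq]
    refine ⟨r, ?_⟩
    have hAT : IsUnit ((A : Matrix (Fin k) (Fin k) F)ᵀ).det := by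
      rw [Matrix.det_transpose]; exact Matrix.isUnits_det_units A
    have h1 : (A : Matrix (Fin k) (Fin k) F)ᵀ *ᵥ (G *ᵥ ((A : Matrix (Fin k) (Fin k) F) *ᵥ x₀)) =
        (A : Matrix (Fin k) (Fin k) F)ᵀ *ᵥ (G *ᵥ (r • x₀)) := by
      rw [Matrix.mulVec_mulVec, Matrix.mulVec_mulVec, hA, Matrix.smul_mulVec, hGx, Matrix.mulVec_smul, hGx,
        Matrix.mulVec_smul, hrow, smul_smul, hr]
    have h3 := congrArg (((A : Matrix (Fin k) (Fin k) F)ᵀ)⁻¹ *ᵥ ·) h1
    simp only [Matrix.mulVec_mulVec, Matrix.nonsing_inv_mul _ hAT, Matrix.one_mulVec,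
      Matrix.nonsing_inv_mul_cancel_left _ _ hAT] at h3
    have h4 := congrArg (G⁻¹ *ᵥ ·) h3
    simpa only [Matrix.mulVec_mulVec, ← mul_assoc, Matrix.nonsing_inv_mul _ hd.det, one_mul,
      Matrix.one_mulVec] using h4
  set v : Fin n → F := (P : Matrix (Fin n) (Fin n) F) *ᵥ fun x => ∏ i, x₀ (e x i) with hv
  intro hirr
  have hinv : Inv H (Submodule.span F {v}) := by
    intro h hh w hw
    obtain ⟨b, rfl⟩ := Submodule.mem_span_singleton.1 hw
    obtain ⟨τ, gs, d, -, hval, hsim⟩ := hd.elem h hh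
    choose l hl0 hl using hsim
    choose r hr using fun i => heig (gs i) (l i) (hl0 i) (hl i)
    refine Submodule.mem_span_singleton.2 ⟨b * (d * ∏ i, r i), ?_⟩
    rw [Matrix.mulVec_smul, ← smul_smul, hv, hval, ← Matrix.mulVec_mulVec, inv_mulVec_mulVec, ← Matrix.mulVec_mulVec,
      ← Matrix.mulVec_smul]
    congr 2
    funext x
    have h1 : (pull e (d • (pureMat (fun i => (gs i : Matrix (Fin k) (Fin k) F)) * permMat τ)) *ᵥ
        fun x => ∏ i, x₀ (e x i)) x =
        ∑ y : Fin t → Fin k, d * (∏ i, (gs i : Matrix (Fin k) (Fin k) F) (e x i) (y (τ.symm i))) * ∏ i, x₀ (y i) := by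
      simp only [Matrix.mulVec, dotProduct, pull_apply, Matrix.smul_apply, smul_eq_mul, mul_permMat, pureMat,
        Matrix.of_apply, Function.comp_apply]
      exact Fintype.sum_equiv e _ _ fun y => by simp
    rw [h1, Pi.smul_apply, smul_eq_mul]
    calc d * (∏ i, r i) * ∏ i, x₀ (e x i) = d * ∏ i, ((gs i : Matrix (Fin k) (Fin k) F) *ᵥ x₀) (e x i) := by
          rw [mul_assoc, ← Finset.prod_mul_distrib]
          simp [hr]
      _ = _ := by
          simp only [Matrix.mulVec, dotProduct, Fintype.prod_sum, Finset.mul_sum, mul_assoc]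
          refine Fintype.sum_equiv (Equiv.arrowCongr τ.symm (Equiv.refl _)) _ _ fun y => ?_
          congr 1
          rw [Finset.prod_mul_distrib]
          congr 1
          · simp [Equiv.arrowCongr]
          · exact Fintype.prod_equiv τ.symm _ _ fun i => by simp [Equiv.arrowCongr]
  have hv0 : v ≠ 0 := by
    obtain ⟨j, hj⟩ := Function.ne_iff.1 hx0
    intro h
    have h1 := congrArg (fun w => ((P⁻¹ : GL (Fin n) F) : Matrix (Fin n) (Fin n) F) *ᵥ w) h
    simp only [hv, inv_mulVec_mulVec, Matrix.mulVec_zero] at h1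
    have h3 := congrFun h1 (e.symm fun _ => j)
    simp at h3
    exact hj h3.1
  rcases hirr _ hinv with h | h
  · exact hv0 (Submodule.span_singleton_eq_bot.1 h)
  · have := finrank_span_singleton (K := F) hv0
    rw [h, finrank_top, Module.finrank_pi, Fintype.card_fin] at this
    have hcard : k ^ t = n := by
      have h5 := Fintype.card_congr e
      rw [Fintype.card_fin, Fintype.card_fun, Fintype.card_fin, Fintype.card_fin] at h5
      exact h5.symm
    have := Nat.pow_le_pow_left hd.two_le₁ t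
    have := Nat.pow_le_pow_right (show 0 < 2 by norm_num) hd.two_le₂
    omega

/-- a tensor-induced group in dimension eight forces plus type -/
theorem wreath_eight {q : QuadraticForm F (Fin 8 → F)} (hnd : (polarBilin q).Nondegenerate)
    (hminus : ¬ IsPlusTypeOn (⇑q) ⊤) {H : Subgroup (GL (Fin 8) F)} (hH : H ≤ omegaGL ⇑q) (hirr : Irred H)
    {e : Fin 8 ≃ (Fin 3 → Fin 2)} {P : GL (Fin 8) F} {G : Matrix (Fin 2) (Fin 2) F} {a c : F}
    (hd : AschFormWreath.WreathData (RingEquiv.refl F) 1 (polar ⇑q) H 2 3 e P G a c) : False := by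
  classical
  have hf := AschEvenBase44.formData hnd
  have hGs : Gᵀ = G := by
    have hsym : Gᵀ = a • G := hd.symm
    have h1 : a * a = 1 := by simpa using hd.norm
    have h3 : c * a ^ 3 = 1 * c := by simpa using hd.prod
    have h4 : a = 1 := by
      have h5 : a ^ 3 = 1 := mul_left_cancel₀ hd.c_ne (by linear_combination h3)
      linear_combination h5 - a * h1
    rw [hsym, h4, one_smul]
  refine hminus ?_
  by_cases h2 : (2 : F) = 0
  · haveI : CharP F 2 := CharTwo.of_one_ne_zero_of_two_eq_zero one_ne_zero h2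
    let e' : Fin 8 ≃ Fin 2 × Fin 4 := e.trans triple
    let pr : Fin 4 → Fin 2 × Fin 2 := (finProdFinEquiv (m := 2) (n := 2)).symm
    let G₂ : Matrix (Fin 4) (Fin 4) F := Matrix.of fun x y => G (pr x).1 (pr y).1 * G (pr x).2 (pr y).2
    have hgram : gramP (RingEquiv.refl F) (polar ⇑q) e' P = c • (G ⊗ₖ G₂) := by
      ext ⟨i, x⟩ ⟨j, y⟩
      have h1 := congrFun (congrFun hd.gram (triple.symm (i, x))) (triple.symm (j, y))
      simp only [gramP, Matrix.of_apply, Matrix.smul_apply, pureMat, smul_eq_mul, Fin.prod_univ_three] at h1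
      simp only [gramP, Matrix.of_apply, e', Equiv.symm_trans_apply, h1, Matrix.smul_apply, smul_eq_mul,
        Matrix.kroneckerMap_apply, G₂]
      simp [triple, pr, mul_assoc]
    have hpure : ∀ h ∈ H, ∀ b, ∃ (u : Fin 2 → F) (w : Fin 4 → F),
        ((P⁻¹ : GL (Fin 8) F) : Matrix (Fin 8) (Fin 8) F) *ᵥ ((h : Matrix (Fin 8) (Fin 8) F) *ᵥ
          ((P : Matrix (Fin 8) (Fin 8) F) *ᵥ Pi.single b 1)) = fun x => u (e' x).1 * w (e' x).2 := by
      intro h hh b
      obtain ⟨τ, gs, d, -, hval, -⟩ := hd.elem h hh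
      refine ⟨fun i => d * (gs 0 : Matrix (Fin 2) (Fin 2) F) i (e b (τ.symm 0)),
        fun x => (gs 1 : Matrix (Fin 2) (Fin 2) F) (pr x).1 (e b (τ.symm 1)) *
          (gs 2 : Matrix (Fin 2) (Fin 2) F) (pr x).2 (e b (τ.symm 2)), ?_⟩
      rw [hval, ← Matrix.mulVec_mulVec, inv_mulVec_mulVec, ← Matrix.mulVec_mulVec, inv_mulVec_mulVec,
        Matrix.mulVec_single_one]
      funext x
      simp only [Matrix.col_apply, pull_apply, Matrix.smul_apply, mul_permMat, smul_eq_mul]
      simp [pureMat, Fin.prod_univ_three, e', triple, pr, mul_assoc]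
    by_cases hdiag : ∃ i, G i i ≠ 0
    · refine absurd hirr (AschFormQuad.factor_reducible h2 (by norm_num) (by norm_num) (e := e') (P := P)
        hGs hdiag fun h hh => ?_)
      exact absurd hirr (wreath_line h2 hd hGs hdiag)
    push Not at hdiag
    have hG₂s : G₂ᵀ = G₂ := by
      ext x y
      have hs : ∀ i j, G j i = G i j := fun i j => by rw [← Matrix.transpose_apply G i j, hGs]
      simp [G₂, hs (pr x).1, hs (pr x).2]
    obtain ⟨Q, hQs, hQp, hQi, hQ0⟩ := AschEvenTensor44.quad_pure h2 hf (AschEvenBase44.isos hH) hgram hGs hdiag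
      hG₂s (fun x => by simp [G₂, hdiag]) hpure
    refine AschEvenTensor44.plus_of_pure (e := e') (P := P) fun x₁ x₂ => ?_
    rw [← AschEvenBase44.quad_unique (q := q) (by simp) hirr (fun g hg v => AschEvenBase44.omega_quad (hH hg) v)
      hQs hQp hQi]
    refine hQ0 _ ⟨x₁, x₂, ?_⟩
    rw [inv_mulVec_mulVec]
    rfl
  · obtain ⟨S, d, hd0, hS⟩ := diag_two h2 hGs hd.det
    obtain ⟨P', -, hgram⟩ := AschFormMono.rebase_power e P hd.gram S (G' := Matrix.diagonal d) (l := 1)
      (by rw [one_smul]; exact hS)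
    simp only [one_pow, mul_one] at hgram
    obtain ⟨x, y, hxy⟩ := QuadClassify.exists_two_squares h2 (one_ne_zero (α := F)) (one_ne_zero (α := F))
      (-(d 0 * d 1))
    let Φ : (Fin 2 → Fin 2 → F) → (Fin 3 → Fin 2) → F := fun z b =>
      if b 1 = 0 then (if b 2 = 0 then (x * z (b 0) 0 - y * z (b 0) 1) / d 0 else z (b 0) 0)
      else (if b 2 = 0 then z (b 0) 1 else (y * z (b 0) 0 + x * z (b 0) 1) / d 1)
    let T : (Fin 2 → Fin 2 → F) →ₗ[F] (Fin 8 → F) :=
      { toFun := fun z => (P' : Matrix (Fin 8) (Fin 8) F) *ᵥ (Φ z ∘ e)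
        map_add' := fun u v => by
          rw [← Matrix.mulVec_add]; congr 1; funext i
          simp only [Φ, Function.comp_apply, Pi.add_apply]
          split_ifs <;> ring
        map_smul' := fun u v => by
          rw [RingHom.id_apply, ← Matrix.mulVec_smul]; congr 1; funext i
          simp only [Φ, Function.comp_apply, Pi.smul_apply, smul_eq_mul]
          split_ifs <;> ring }
    have hTinj : Function.Injective T := fun u v huv => by
      have h1 := (act P').injective (huv : act P' _ = act P' _)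
      funext i j
      fin_cases j
      · simpa [Φ] using congrFun h1 (e.symm ![i, 0, 1])
      · simpa [Φ] using congrFun h1 (e.symm ![i, 1, 0])
    refine ⟨LinearMap.range T, le_top, ?_, ?_⟩
    · rintro _ ⟨z, rfl⟩
      refine (mul_eq_zero.1 (show (2 : F) * q (T z) = 0 from ?_)).resolve_left h2
      rw [← AschEvenBase44.polar_self_eq, show T z = (P' : Matrix (Fin 8) (Fin 8) F) *ᵥ (Φ z ∘ e) from rfl,
        form_coords hf, hgram]
      simp only [formOfGram, RingEquiv.refl_apply, Matrix.smul_apply, smul_eq_mul]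
      rw [Finset.sum_congr rfl fun b _ => Finset.sum_eq_single b (fun b' _ hb' => by
        have : pureMat (fun _ : Fin 3 => Matrix.diagonal d) b b' = 0 := by
          obtain ⟨i, hi⟩ := Function.ne_iff.1 hb'
          exact Finset.prod_eq_zero (f := fun i => Matrix.diagonal d (b i) (b' i)) (Finset.mem_univ i) (show Matrix.diagonal d (b i) (b' i) = 0 from Matrix.diagonal_apply_ne _ (Ne.symm hi))
        rw [this]; ring) (by simp), ← Equiv.sum_comp triple.symm, Fintype.sum_prod_type]
      simp only [Fin.sum_univ_two, Fin.sum_univ_four]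
      simp [pureMat, Fin.prod_univ_three, triple, Φ, finProdFinEquiv, Fin.divNat, Fin.modNat]
      have h00 := hd0 0
      have h11 := hd0 1
      field_simp
      linear_combination (c * (d 0 * (z 0 0 ^ 2 + z 0 1 ^ 2) + d 1 * (z 1 0 ^ 2 + z 1 1 ^ 2))) * hxy
    · rw [LinearMap.finrank_range_of_inj hTinj, finrank_top, Module.finrank_pi, Module.finrank_pi_fintype]
      simp

/-- the cases of a group without reducible normal subgroups -/
theorem simple_cases {m : ℕ} (hn : n = 2 * m) (hcases : n = 8 ∨ n = 10 ∨ n = 12)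
    (h8 : n = 8 → ¬ IsPlusTypeOn (⇑q) ⊤) (hnd : (polarBilin q).Nondegenerate) (hH : H ≤ omegaGL ⇑q)
    (hirr : Irred H) (hfs : FormSimple (RingEquiv.refl F) (polar ⇑q) H) :
    SubfieldOut q H ∨ InOrthogonalResidualClass H := by
  classical
  haveI : Nonempty (Fin n) := ⟨⟨0, by omega⟩⟩
  have hf := AschEvenBase44.formData hnd
  have hI := AschEvenBase44.isos hH
  rcases AschFormCore.core_cases (by rw [Fintype.card_fin]; omega) hirr
      (fun N hn hN => hfs.alternative hf hn fun g hg => hI g (hN hg)) with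
    ⟨N, hNle, hNn, habs, hc2, hmin⟩ | ⟨t, M, hfam⟩ | ⟨P, hP⟩
  · exfalso
    rcases hcases with h | h | h
    · subst h
      exact class_two_eight hnd (h8 rfl) (hNle.trans hH) habs hc2
    all_goals
      obtain ⟨a, ha⟩ := class_two_power ⟨m, hn⟩ (by omega) hNn habs hc2 hmin
      subst h
      have hd : (Nat.Coprime 5 (2 ^ a)) ∧ (Nat.Coprime 3 (2 ^ a)) :=
        ⟨Nat.Coprime.pow_right _ (by norm_num), Nat.Coprime.pow_right _ (by norm_num)⟩
      rw [← ha] at hd
      norm_num at hd
  · exfalso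
    obtain ⟨k, e, P, G, a, c, hd⟩ := AschFormWreath.wreath_form hf hI hfs hfam
    have hkt : k ^ t = n := by
      have := Fintype.card_congr e
      rw [Fintype.card_fin, Fintype.card_fun, Fintype.card_fin, Fintype.card_fin] at this
      exact this.symm
    have hk := hd.two_le₁
    have ht := hd.two_le₂
    have h23 : k = 2 ∧ t = 3 ∧ n = 8 := by
      have ht4 : t < 4 := by
        by_contra h
        have := Nat.pow_le_pow_right (show 0 < k by omega) (show 4 ≤ t by omega)
        have := Nat.pow_le_pow_left hk 4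
        omega
      have hk4 : k < 4 := by
        by_contra h
        have := Nat.pow_le_pow_left (show 4 ≤ k by omega) t
        have := Nat.pow_le_pow_right (show 0 < 4 by omega) ht
        omega
      interval_cases t <;> interval_cases k <;> simp at hkt <;> omega
    obtain ⟨rfl, rfl, rfl⟩ := h23
    exact wreath_eight hnd (h8 rfl) hH hirr hd
  · by_cases hreal : ∃ F₀ : Subfield F, F₀ ≠ ⊤ ∧ RealisableOver F₀ (matrixSet P)
    · obtain ⟨F₀, hne, hreal⟩ := hreal
      exact Or.inl (subfield_rational hn (by omega) hnd hH hP.absIrred hP.normal hP.le hne hreal)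
    push Not at hreal
    refine Or.inr ⟨P, ⟨hP.le, hP.normal, hP.perfect, hP.simple, hP.nonabelian, hP.centralizer_scalar, hP.absIrred,
      hreal⟩, ?_⟩
    rintro ⟨σ, g, hg, hfix⟩
    obtain ⟨q', hF, hσ⟩ := AschFormTwist.exists_q hg
    exact hreal _ (AschPrimeUnitary.fixed_fr_ne_top hF)
      (AschFormTwist.realisable_of_unitary hf hg hF hσ hP.absIrred (fun s hs => hI s (hP.le hs)) hfix)

end Cfsg.Agent.AschEvenCore44
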