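/-
Extension fields normalised inside a ten-dimensional orthogonal group: only quadratic ones survive.
-/
import Cfsg.Agent.Lib.AschEvenBase44
import Cfsg.Agent.Lib.AschFormAlg
import Cfsg.Agent.Lib.AschCaseSymp

set_option autoImplicit false
set_option linter.unusedSectionVars false

namespace Cfsg.Agent.AschEvenField44

open scoped Matrix
open QuadraticMap Module
open Cfsg Cfsg.Geo Cfsg.Agent.AschPrimeBasic Cfsg.Agent.AschPrimeForms Cfsg.Agent.AschGenAlgebra
  Cfsg.Agent.AschFormBasic Cfsg.Agent.AschFormTensor Cfsg.Agent.AschFormAlg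

variable {F : Type*} [Field F] [Fintype F]

/-- a normalised star-closed field contains one of each prime degree dividing its degree -/
theorem subfield_of_dvd {ι : Type} [Fintype ι] [DecidableEq ι] [Nonempty ι] {f : (ι → F) → (ι → F) → F}
    (hf : FormData (RingEquiv.refl F) 1 f) {H : Subgroup (GL ι F)} {C : Subalgebra F (Matrix ι ι F)}
    (hC : AlgNorm H C) (hs : StarClosed (RingEquiv.refl F) (gramMatrix f) C) {d r : ℕ} (hr : r.Prime)
    (hCf : IsFieldSubalgebra d C) (hrd : r ∣ d) :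
    ∃ K : Subalgebra F (Matrix ι ι F), IsFieldSubalgebra r K ∧ StarClosed (RingEquiv.refl F) (gramMatrix f) K ∧
      AlgNorm H K := by
  classical
  obtain ⟨hcomm, hinv, hdeg⟩ := hCf
  haveI : Nontrivial C := ⟨0, 1, fun h => zero_ne_one (congrArg Subtype.val h : (0 : Matrix ι ι F) = 1)⟩
  have hfld : IsField C :=
    ⟨⟨0, 1, zero_ne_one⟩, fun x y => Subtype.ext (hcomm _ x.2 _ y.2), fun {x} hx => by
      obtain ⟨y, hy, hxy⟩ := hinv x x.2 (fun h => hx (Subtype.ext h))
      exact ⟨⟨y, hy⟩, Subtype.ext hxy⟩⟩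
  letI : Field C := hfld.toField
  haveI : Fintype C := Fintype.ofFinite C
  have hdeg' : Module.finrank F C = d := hdeg
  let φ : C →ₐ[F] C := (FiniteField.frobeniusAlgHom F C) ^ r
  have hφ : ∀ x, φ x = x ^ (Fintype.card F ^ r) := fun x => by
    simp only [φ, AlgHom.coe_pow, FiniteField.coe_frobeniusAlgHom, pow_iterate]
  let L : Subalgebra F C := AlgHom.equalizer φ (AlgHom.id F C)
  let K : Subalgebra F (Matrix ι ι F) := L.map C.val
  have hmem : ∀ x, x ∈ K ↔ x ∈ C ∧ x ^ (Fintype.card F ^ r) = x := by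
    intro x
    constructor
    · rintro ⟨y, hy, rfl⟩
      refine ⟨y.2, ?_⟩
      have h1 : φ y = y := hy
      rw [hφ] at h1
      simpa using congrArg Subtype.val h1
    · rintro ⟨hx, hx'⟩
      refine ⟨⟨x, hx⟩, ?_, rfl⟩
      show φ ⟨x, hx⟩ = _
      rw [hφ]
      exact Subtype.ext (by simpa using hx')
  have hnorm : AlgNorm H K := by
    intro h hh c hc
    rw [hmem] at hc ⊢
    refine ⟨hC h hh c hc.1, ?_⟩
    conv_rhs => rw [← hc.2]
    rw [← conjAlg_apply h c, ← map_pow]
    rfl
  have hstar : StarClosed (RingEquiv.refl F) (gramMatrix f) K := by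
    intro c hc
    rw [hmem] at hc ⊢
    refine ⟨hs c hc.1, ?_⟩
    have key : ∀ k : ℕ, adj (RingEquiv.refl F) (gramMatrix f) (c ^ k) = adj (RingEquiv.refl F) (gramMatrix f) c ^ k := by
      intro k
      induction k with
      | zero => simp [adj_one hf]
      | succ k ih => rw [pow_succ, adj_mul hf, ih, ← pow_succ']
    rw [← key, hc.2]
  have hq : 1 < Fintype.card F := Fintype.one_lt_card
  have hcardC : Fintype.card C = Fintype.card F ^ d := by
    rw [Module.card_eq_pow_finrank (K := F) (V := C), hdeg']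
  have hbij : Function.Bijective φ := ⟨φ.toRingHom.injective, Finite.surjective_of_injective φ.toRingHom.injective⟩
  have hLcard : Nat.card L = Fintype.card F ^ r := by
    have h1 : Nat.card (fixedField (RingEquiv.ofBijective φ hbij : C ≃+* C)) = Fintype.card F ^ r := by
      refine card_fixedField (Nat.one_lt_pow hr.ne_zero hq) ?_ (fun x => hφ x)
      rw [hcardC]
      exact Nat.pow_sub_one_dvd_pow_sub_one _ hrd
    rw [← h1]
    exact Nat.card_congr (Equiv.subtypeEquivRight fun x => Iff.rfl)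
  have hrank : Module.finrank F K = r := by
    have h1 : Module.finrank F L = Module.finrank F K :=
      (L.equivMapOfInjective C.val Subtype.val_injective).toLinearEquiv.finrank_eq
    have h2 := Module.natCard_eq_pow_finrank (K := F) (V := L)
    rw [hLcard, Nat.card_eq_fintype_card] at h2
    rw [← h1]
    exact (Nat.pow_right_injective hq h2).symm
  refine ⟨K, ⟨fun x hx y hy => hcomm x ((hmem x).1 hx).1 y ((hmem y).1 hy).1, fun x hx hx0 => ?_, hrank⟩,
    hstar, hnorm⟩
  obtain ⟨y, hy, hxy⟩ := hinv x ((hmem x).1 hx).1 hx0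
  refine ⟨y, (hmem y).2 ⟨hy, ?_⟩, hxy⟩
  have h1 : x ^ (Fintype.card F ^ r) * y ^ (Fintype.card F ^ r) = 1 := by
    rw [← (show Commute x y from hcomm x ((hmem x).1 hx).1 y hy).mul_pow, hxy, one_pow]
  rw [((hmem x).1 hx).2] at h1
  calc y ^ (Fintype.card F ^ r) = (y * x) * y ^ (Fintype.card F ^ r) := by
        rw [← hcomm x ((hmem x).1 hx).1 y hy, hxy, one_mul]
    _ = y := by rw [mul_assoc, h1, mul_one]

variable {n : ℕ} {q : QuadraticForm F (Fin n → F)} {H : Subgroup (GL (Fin n) F)}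

/-- a quadratic field of similitudes acts freely on the unit sphere -/
theorem not_plus_of_norm (hn : n = 10) (hnd : (polarBilin q).Nondegenerate)
    {K : Subalgebra F (Matrix (Fin n) (Fin n) F)} (hK : IsFieldSubalgebra 2 K) {k₀ : Matrix (Fin n) (Fin n) F}
    (hk₀ : k₀ ∈ K) (hne : adj (RingEquiv.refl F) (gramMatrix (polar ⇑q)) k₀ ≠ k₀)
    (hs : StarClosed (RingEquiv.refl F) (gramMatrix (polar ⇑q)) K)
    (hmult : ∀ k ∈ K, ∀ c : F, adj (RingEquiv.refl F) (gramMatrix (polar ⇑q)) k * k = c • 1 →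
      ∀ v, q (k *ᵥ v) = c * q v) : ¬ IsPlusTypeOn (⇑q) ⊤ := by
  classical
  intro hplus
  haveI : Nonempty (Fin n) := ⟨⟨0, by omega⟩⟩
  have hf := AschEvenBase44.formData hnd
  set A := adj (RingEquiv.refl F) (gramMatrix (polar ⇑q))
  haveI : Nontrivial K := ⟨0, 1, fun h => zero_ne_one (congrArg Subtype.val h : (0 : Matrix (Fin n) (Fin n) F) = 1)⟩
  have hfld : IsField K :=
    ⟨⟨0, 1, zero_ne_one⟩, fun x y => Subtype.ext (hK.comm _ x.2 _ y.2), fun {x} hx => by
      obtain ⟨y, hy, hxy⟩ := hK.inv x x.2 (fun h => hx (Subtype.ext h))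
      exact ⟨⟨y, hy⟩, Subtype.ext hxy⟩⟩
  letI : Field K := hfld.toField
  haveI : Fintype K := Fintype.ofFinite K
  have hKdim : Module.finrank F K = 2 := hK.finrank_eq
  set Q := Fintype.card F with hQdef
  have hQ1 : 1 < Q := Fintype.one_lt_card
  have hKcard : Fintype.card K = Q ^ 2 := by rw [Module.card_eq_pow_finrank (K := F) (V := K), hKdim]
  let α : K → K := fun k => ⟨A k, hs k k.2⟩
  have hαadd : ∀ a b, α (a + b) = α a + α b := fun a b => Subtype.ext (adj_add _ _ _)
  have hαsmul : ∀ (c : F) a, α (c • a) = c • α a := fun c a => Subtype.ext (adj_smul _ c _)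
  have hα1 : α 1 = 1 := Subtype.ext (adj_one hf)
  have hαmul : ∀ a b, α (a * b) = α a * α b := fun a b =>
    Subtype.ext ((adj_mul hf _ _).trans (hK.comm _ (hs _ b.2) _ (hs _ a.2)))
  have hαα : ∀ a, α (α a) = a := fun a => Subtype.ext (adj_adj hf _)
  -- fixed points of the involution are scalars
  have hfix : ∀ a : K, α a = a → ∃ c : F, a = c • 1 := by
    intro a ha
    let L : Submodule F K :=
      { carrier := {x | α x = x}
        add_mem' := fun {x y} (hx : α x = x) (hy : α y = y) => by show α _ = _; rw [hαadd, hx, hy]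
        zero_mem' := Subtype.ext (adj_zero _)
        smul_mem' := fun c x (hx : α x = x) => by show α _ = _; rw [hαsmul, hx] }
    have hlt : L < ⊤ := lt_top_iff_ne_top.2 fun htop => hne (congrArg Subtype.val
      (show α ⟨k₀, hk₀⟩ = ⟨k₀, hk₀⟩ from htop.ge (Submodule.mem_top (x := (⟨k₀, hk₀⟩ : K)))))
    have h1 := Submodule.finrank_lt hlt.ne
    rw [hKdim] at h1
    have hle : Submodule.span F {(1 : K)} ≤ L := (Submodule.span_singleton_le_iff_mem _ _).2 hα1
    have heq := Submodule.eq_of_le_of_finrank_le hle (by rw [finrank_span_singleton one_ne_zero]; omega)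
    obtain ⟨c, hc⟩ := Submodule.mem_span_singleton.1 (heq.ge (ha : a ∈ L))
    exact ⟨c, hc.symm⟩
  have hαpow : ∀ k : K, α k = k ^ Q := by
    intro k
    by_cases hk : α k = k
    · obtain ⟨c, hc⟩ := hfix k hk
      rw [hk, hc, smul_pow, one_pow, hQdef, FiniteField.pow_card]
    obtain ⟨t, ht⟩ := hfix (k + α k) (by rw [hαadd, hαα, add_comm])
    obtain ⟨m, hm⟩ := hfix (k * α k) (by rw [hαmul, hαα, mul_comm])
    rw [Algebra.smul_def, mul_one] at ht hm
    let ψ : K →ₐ[F] K := FiniteField.frobeniusAlgHom F K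
    have h0 : k * k - (algebraMap F K t) * k + algebraMap F K m = 0 := by rw [← ht, ← hm]; ring
    have h1 := congrArg ψ h0
    rw [map_add, map_sub, map_mul, map_mul, AlgHom.commutes, AlgHom.commutes, map_zero,
      show ψ k = k ^ Q from rfl, ← ht, ← hm] at h1
    have h3 : (k ^ Q - k) * (k ^ Q - α k) = 0 := by linear_combination h1
    rcases mul_eq_zero.1 h3 with h | h
    · exfalso
      refine hk ?_
      obtain ⟨c, hc⟩ : ∃ c : F, algebraMap F K c = k := by
        by_contra hno
        push Not at hno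
        set P : Polynomial K := Polynomial.X ^ Q - Polynomial.X
        have hP : P ≠ 0 := FiniteField.X_pow_card_sub_X_ne_zero K hQ1
        have hle : (insert k (Finset.univ.image (algebraMap F K))).card ≤ Q :=
          (Finset.card_le_card fun y hy => by
            rw [Multiset.mem_toFinset, Polynomial.mem_roots hP]
            rcases Finset.mem_insert.1 hy with rfl | hy
            · simp [P, sub_eq_zero.1 h]
            · obtain ⟨c, -, rfl⟩ := Finset.mem_image.1 hy
              simp [P, hQdef, ← map_pow, FiniteField.pow_card]).trans ((Multiset.toFinset_card_le _).trans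
            ((Polynomial.card_roots' _).trans (FiniteField.X_pow_card_sub_X_natDegree_eq K hQ1).le))
        rw [Finset.card_insert_of_notMem (by simpa using hno),
          Finset.card_image_of_injective _ (algebraMap F K).injective, Finset.card_univ] at hle
        omega
      rw [← hc, Algebra.algebraMap_eq_smul_one, hαsmul, hα1]
    · exact (sub_eq_zero.1 h).symm
  let U : Subgroup Kˣ := (powMonoidHom (α := Kˣ) (Q + 1)).ker
  have hU : Nat.card U = Q + 1 := by
    have hk := IsCyclic.card_powMonoidHom_ker Kˣ (Q + 1)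
    rw [Nat.card_units, Nat.card_eq_fintype_card (α := K), hKcard,
      Nat.gcd_eq_right ⟨Q - 1, by rw [← one_pow 2, Nat.sq_sub_sq]; simp⟩] at hk
    exact hk
  have hUq : ∀ (u : U) v, q ((((u : Kˣ) : K) : Matrix (Fin n) (Fin n) F) *ᵥ v) = q v := by
    intro u v
    have h1 : α ((u : Kˣ) : K) * ((u : Kˣ) : K) = 1 := by
      rw [hαpow, ← pow_succ]
      simpa using congrArg Units.val (MonoidHom.mem_ker.1 u.2)
    rw [hmult _ ((u : Kˣ) : K).2 1 (by rw [one_smul]; exact congrArg Subtype.val h1) v, one_mul]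
  set S := {v : Fin n → F // q v = 1}
  letI : MulAction U S :=
    { smul := fun u v => ⟨(((u : Kˣ) : K) : Matrix (Fin n) (Fin n) F) *ᵥ (v : Fin n → F), by rw [hUq]; exact v.2⟩
      one_smul := fun v => Subtype.ext (Matrix.one_mulVec _)
      mul_smul := fun a b v => Subtype.ext (Matrix.mulVec_mulVec (v : Fin n → F) _ _).symm }
  have hstab : ∀ v : S, MulAction.stabilizer U v = ⊥ := by
    intro v
    refine (Subgroup.eq_bot_iff_forall _).2 fun u hu => ?_
    have h1 : (((u : Kˣ) : K) : Matrix (Fin n) (Fin n) F) *ᵥ (v : Fin n → F) = (v : Fin n → F) :=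
      congrArg Subtype.val (MulAction.mem_stabilizer_iff.1 hu)
    by_contra hne1
    have h0 : ((u : Kˣ) : K) - 1 ≠ 0 := sub_ne_zero.2 fun h => hne1 (Subtype.ext (Units.ext h))
    obtain ⟨y, hy, hy1⟩ := hK.inv _ (((u : Kˣ) : K) - 1).2 fun h => h0 (Subtype.ext h)
    rw [hK.comm _ (((u : Kˣ) : K) - 1).2 _ hy] at hy1
    have hv0 : (v : Fin n → F) = 0 := by
      rw [← Matrix.one_mulVec (v : Fin n → F), ← hy1, ← Matrix.mulVec_mulVec, AddSubgroupClass.coe_sub,
        Matrix.sub_mulVec, h1, OneMemClass.coe_one, Matrix.one_mulVec, sub_self, Matrix.mulVec_zero]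
    have := v.2
    rw [hv0, QuadraticMap.map_zero] at this
    exact zero_ne_one this
  have hdvd : Q + 1 ∣ Nat.card S := by
    rw [Nat.card_congr (MulAction.selfEquivOrbitsQuotientProd hstab), Nat.card_prod, hU]
    exact dvd_mul_left _ _
  obtain ⟨N, hN⟩ := AschEvenType44.sgn_plus (QuadClassify.nondeg_top hnd) (m := 5)
    (by rw [finrank_top, Module.finrank_pi, Fintype.card_fin, hn]) hplus
  have h1 : Nat.card S = Nat.card {w : (⊤ : Submodule F (Fin n → F)) // q (w : Fin n → F) = 1} :=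
    Nat.card_congr (Submodule.topEquiv.toEquiv.subtypeEquiv (fun w => Iff.rfl)).symm
  have h3 : (Nat.card S : ℤ) = N := by rw [h1]; exact hN.1 1 one_ne_zero
  have h4 := (OrthTypeCount73.prof_of_const N hN.1).unique hN
  rw [Nat.card_congr (Submodule.topEquiv (R := F) (M := Fin n → F)).toEquiv, Nat.card_fun,
    Nat.card_eq_fintype_card, Nat.card_eq_fintype_card, Fintype.card_fin, hn, ← hQdef] at h4
  push_cast at h4
  obtain ⟨t, ht⟩ := hdvd
  rw [ht] at h3
  push_cast at h3
  have h5 : ((Q : ℤ) + 1) ∣ 2 := by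
    refine ⟨(Q : ℤ) * t - ((Q : ℤ) ^ 9 - (Q : ℤ) ^ 8 + (Q : ℤ) ^ 7 - (Q : ℤ) ^ 6 + (Q : ℤ) ^ 5 - 2 * (Q : ℤ) ^ 4 +
      2 * (Q : ℤ) ^ 3 - 2 * (Q : ℤ) ^ 2 + 2 * (Q : ℤ) - 2), ?_⟩
    linear_combination h4 + (Q : ℤ) * (-h3)
  have := Int.le_of_dvd (by norm_num) h5
  omega

/-- what is listed for a quadratic field -/
def TwoOut (q : QuadraticForm F (Fin n → F)) (H : Subgroup (GL (Fin n) F)) : Prop :=
  ∃ K : Subalgebra F (Matrix (Fin n) (Fin n) F), IsFieldSubalgebra 2 K ∧ H ≤ subalgebraNormalizer K ∧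
    ((Odd (Fintype.card F) ∧ IsSelfAdjointFor (polar ⇑q) K) ∨
      (¬ IsPlusTypeOn (⇑q) ⊤ ∧ IsAdjointClosedFor (polar ⇑q) K ∧ ¬ IsSelfAdjointFor (polar ⇑q) K ∧
        ∀ k ∈ K, ∃ c : F, ∀ v, q (k *ᵥ v) = c * q v))

/-- a quadratic field in dimension ten -/
theorem two_case (hn : n = 10) (hnd : (polarBilin q).Nondegenerate) (hH : H ≤ omegaGL ⇑q) (hirr : Irred H)
    {K : Subalgebra F (Matrix (Fin n) (Fin n) F)} (hK : IsFieldSubalgebra 2 K)
    (hs : StarClosed (RingEquiv.refl F) (gramMatrix (polar ⇑q)) K) (hKn : AlgNorm H K) : TwoOut q H := by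
  classical
  haveI : Nonempty (Fin n) := ⟨⟨0, by omega⟩⟩
  have hf := AschEvenBase44.formData hnd
  have hI := AschEvenBase44.isos hH
  set A := adj (RingEquiv.refl F) (gramMatrix (polar ⇑q)) with hA
  have hadj : ∀ (M : Matrix (Fin n) (Fin n) F) u v, polar q (M *ᵥ u) v = polar q u (A M *ᵥ v) := adjoint_apply hf
  have hle : H ≤ subalgebraNormalizer K := fun g hg k => ⟨fun hk => hKn g hg k hk, fun hk => by
    have h1 := hKn g⁻¹ (H.inv_mem hg) _ hk
    simpa [mul_assoc] using h1⟩
  have hadd : ∀ M N : Matrix (Fin n) (Fin n) F, A (M + N) = A M + A N := fun M N => adj_add _ M N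
  have hsm : ∀ (c : F) (M : Matrix (Fin n) (Fin n) F), A (c • M) = c • A M := fun c M => adj_smul _ c M
  have hAA : ∀ x, A (A x) = x := adj_adj hf
  by_cases hsa : ∀ k ∈ K, A k = k
  · have hself : IsSelfAdjointFor (polar ⇑q) K := fun k hk u v => by rw [hadj, hsa k hk]
    refine ⟨K, hK, hle, Or.inl ⟨?_, hself⟩⟩
    by_contra hev
    have h2 := AschEvenBase44.two_eq_zero_of_not_odd hev
    have halt := AschFormField.alt_diag hf (fun v => by rw [AschEvenBase44.polar_self_eq, h2, zero_mul])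
      (fun v w => by rw [polar_comm (⇑q) w v]; linear_combination (polar q v w) * h2) hK hsa
    have := AschCase.alt_field_dvd hf (m := 5) (by rw [Fintype.card_fin, hn]) hK hself halt
    norm_num at this
  push Not at hsa
  obtain ⟨k₀, hk₀, hne⟩ := hsa
  let X : Submodule F (Matrix (Fin n) (Fin n) F) :=
    { carrier := {x | x ∈ K ∧ A x = x}
      zero_mem' := ⟨K.zero_mem, adj_zero _⟩
      add_mem' := fun {a b} ha hb => ⟨K.add_mem ha.1 hb.1, by rw [hadd, ha.2, hb.2]⟩
      smul_mem' := fun c a ha => ⟨K.smul_mem ha.1 c, by rw [hsm, ha.2]⟩ }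
  have hfix : ∀ x ∈ K, A x = x → ∃ c : F, x = c • 1 := by
    intro x hx hAx
    have hle1 : Submodule.span F {(1 : Matrix (Fin n) (Fin n) F)} ≤ X :=
      (Submodule.span_singleton_le_iff_mem _ _).2 ⟨K.one_mem, adj_one hf⟩
    have hlt : X < Subalgebra.toSubmodule K :=
      lt_of_le_of_ne (fun x hx => hx.1) fun h => hne ((h.ge hk₀ : k₀ ∈ X).2)
    have h1 := Submodule.finrank_lt_finrank_of_lt hlt
    rw [show Module.finrank F (Subalgebra.toSubmodule K) = 2 from hK.finrank_eq] at h1
    have h3 := Submodule.eq_of_le_of_finrank_le hle1 (by rw [finrank_span_singleton one_ne_zero]; omega)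
    obtain ⟨c, hc⟩ := Submodule.mem_span_singleton.1 (h3.ge (⟨hx, hAx⟩ : x ∈ X))
    exact ⟨c, hc.symm⟩
  obtain ⟨ω, hωK, hω⟩ : ∃ ω ∈ K, ω + A ω = 1 := by
    by_cases h2 : (2 : F) = 0
    · obtain ⟨c, hc⟩ := hfix (k₀ + A k₀) (K.add_mem hk₀ (hs k₀ hk₀)) (by rw [hadd, hAA, add_comm])
      have hc0 : c ≠ 0 := by
        rintro rfl
        rw [zero_smul] at hc
        refine hne ?_
        have h3 : k₀ + k₀ = 0 := by rw [← two_smul F k₀, h2, zero_smul]
        exact add_left_cancel (hc.trans h3.symm)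
      exact ⟨c⁻¹ • k₀, K.smul_mem hk₀ _, by rw [hsm, ← smul_add, hc, smul_smul, inv_mul_cancel₀ hc0, one_smul]⟩
    · refine ⟨(2 : F)⁻¹ • 1, K.smul_mem K.one_mem _, ?_⟩
      rw [hsm, hA, adj_one hf, ← add_smul]
      rw [show (2 : F)⁻¹ + 2⁻¹ = 1 by field_simp; norm_num, one_smul]
  have hskew : ∀ d ∈ K, d + A d = 0 → ∀ v, polar q (d *ᵥ v) v = 0 := by
    intro d hd hdA v
    by_cases h2 : (2 : F) = 0
    · have h3 : d + d = 0 := by rw [← two_smul F d, h2, zero_smul]
      obtain ⟨c, rfl⟩ := hfix d hd (add_left_cancel (hdA.trans h3.symm))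
      rw [Matrix.smul_mulVec, Matrix.one_mulVec, polar_smul_left, AschEvenBase44.polar_self_eq, h2, zero_mul,
        smul_zero]
    · have h1 := hadj d v v
      rw [eq_neg_of_add_eq_zero_right hdA, Matrix.neg_mulVec, polar_neg_right, polar_comm (⇑q) v] at h1
      exact (mul_eq_zero.1 (show (2 : F) * polar q (d *ᵥ v) v = 0 by linear_combination h1)).resolve_left h2
  have hQq : ∀ v, polar q (ω *ᵥ v) v = q v := by
    refine AschEvenBase44.quad_unique (by rw [Fintype.card_fin, hn]; norm_num) hirr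
      (fun g hg v => AschEvenBase44.omega_quad (hH hg) v) (fun c v => ?_) (fun u v => ?_) fun g hg v => ?_
    · rw [Matrix.mulVec_smul, polar_smul_left, polar_smul_right, smul_eq_mul, smul_eq_mul]; ring
    · show polar q (ω *ᵥ (u + v)) (u + v) - polar q (ω *ᵥ u) u - polar q (ω *ᵥ v) v = _
      rw [Matrix.mulVec_add, polar_add_left, polar_add_right, polar_add_right]
      have e1 : polar q (ω *ᵥ v) u = polar q (A ω *ᵥ u) v := by rw [hadj (A ω), hAA, polar_comm]
      have e2 : polar q u v = polar q (ω *ᵥ u) v + polar q (A ω *ᵥ u) v := by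
        rw [← polar_add_left, ← Matrix.add_mulVec, hω, Matrix.one_mulVec]
      rw [e1, e2]; ring
    · set ω' := conjAlg g⁻¹ ω with hω'
      have hω'1 : ω' + A ω' = 1 := by
        have h5 : A ω' = conjAlg g⁻¹ (A ω) := adj_conj hf (hI g⁻¹ (H.inv_mem hg)) ω
        rw [h5, ← map_add, hω, map_one]
      have h0 := hskew (ω' - ω) (K.sub_mem (hKn g⁻¹ (H.inv_mem hg) _ hωK) hωK) (by
        have : A (ω' - ω) = A ω' - A ω := eq_sub_of_add_eq (by rw [← hadd, sub_add_cancel])
        rw [this, sub_add_sub_comm, hω'1, hω, sub_self]) v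
      rw [Matrix.sub_mulVec, polar_sub_left, sub_eq_zero] at h0
      have hωh : ω * (g : Matrix (Fin n) (Fin n) F) = (g : Matrix (Fin n) (Fin n) F) * ω' := by
        rw [hω', conjAlg_apply, inv_inv]
        simp [← mul_assoc]
      show polar q (ω *ᵥ ((g : Matrix (Fin n) (Fin n) F) *ᵥ v)) ((g : Matrix (Fin n) (Fin n) F) *ᵥ v) = _
      rw [Matrix.mulVec_mulVec, hωh, ← Matrix.mulVec_mulVec, hI g hg, h0]
  have hmult : ∀ k ∈ K, ∀ c : F, A k * k = c • 1 → ∀ v, q (k *ᵥ v) = c * q v := by
    intro k hk c hc v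
    rw [← hQq, ← hQq v, Matrix.mulVec_mulVec, hadj, Matrix.mulVec_mulVec]
    rw [show A (ω * k) * k = c • A ω by
      rw [hA, adj_mul hf, ← hA, mul_assoc, hK.comm _ (hs ω hωK) _ hk, ← mul_assoc, hc, Matrix.smul_mul, one_mul]]
    rw [Matrix.smul_mulVec, polar_smul_right, smul_eq_mul, hadj ω]
  have hnorm : ∀ k ∈ K, ∃ c : F, A k * k = c • 1 := fun k hk => hfix _ (K.mul_mem (hs k hk) hk) (by
    rw [hA, adj_mul hf, ← hA, hAA])
  refine ⟨K, hK, hle, Or.inr ⟨not_plus_of_norm hn hnd hK hk₀ hne hs hmult, fun k hk => ⟨A k, hs k hk, hadj k⟩,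
    fun hself => hne ?_, fun k hk => ?_⟩⟩
  · refine Matrix.toLin'.injective (LinearMap.ext fun v => ?_)
    rw [Matrix.toLin'_apply, Matrix.toLin'_apply, ← sub_eq_zero]
    refine hnd.2 _ fun u => ?_
    rw [polarBilin_apply_apply, polar_sub_right, ← hadj, hself k₀ hk₀, sub_self]
  · obtain ⟨c, hc⟩ := hnorm k hk
    exact ⟨c, hmult k hk c hc⟩

/-- in an odd-degree extension every element is a square times a scalar -/
lemma scalar_times_square {K : Type*} [Field K] [Fintype K] [Algebra F K] (hodd : Odd (Module.finrank F K))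
    (e : K) : ∃ (c : F) (m : K), e = algebraMap F K c * (m * m) := by
  by_cases h2 : (2 : F) = 0
  · haveI : CharP F 2 := CharTwo.of_one_ne_zero_of_two_eq_zero one_ne_zero h2
    haveI : CharP K 2 := charP_of_injective_algebraMap (algebraMap F K).injective 2
    obtain ⟨m, hm⟩ := FiniteField.isSquare_of_char_two (ringChar.eq K 2) e
    exact ⟨1, m, by rw [map_one, one_mul]; exact hm⟩
  have hK2 : ringChar K ≠ 2 := fun h => h2 ((algebraMap F K).injective (by
    rw [map_ofNat, map_zero]
    haveI : CharP K 2 := h ▸ ringChar.charP K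
    exact CharTwo.two_eq_zero))
  have hF2 : ringChar F ≠ 2 := fun h => h2 (by
    haveI : CharP F 2 := h ▸ ringChar.charP F
    exact CharTwo.two_eq_zero)
  by_cases he : IsSquare e
  · obtain ⟨m, hm⟩ := he
    exact ⟨1, m, by rw [map_one, one_mul]; exact hm⟩
  obtain ⟨c, hc⟩ := FiniteField.exists_nonsquare hF2
  have hc0 : c ≠ 0 := fun h => hc (h ▸ IsSquare.zero)
  have hck : ¬ IsSquare (algebraMap F K c) := by
    rintro ⟨m, hm⟩
    have h1 := congrArg (Algebra.norm F) hm
    rw [Algebra.norm_algebraMap, map_mul] at h1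
    obtain ⟨j, hj⟩ := hodd
    rw [hj, pow_succ, pow_mul] at h1
    refine hc ⟨Algebra.norm F m / c ^ j, ?_⟩
    field_simp
    linear_combination h1
  have he0 : e ≠ 0 := fun h => he (h ▸ IsSquare.zero)
  have hck0 : algebraMap F K c ≠ 0 := (map_ne_zero _).2 hc0
  have h3 : IsSquare (e / algebraMap F K c) := by
    rw [FiniteField.isSquare_iff hK2 he0] at he
    rw [FiniteField.isSquare_iff hK2 hck0] at hck
    rw [FiniteField.isSquare_iff hK2 (div_ne_zero he0 hck0), div_pow,
      (FiniteField.pow_dichotomy hK2 he0).resolve_left he, (FiniteField.pow_dichotomy hK2 hck0).resolve_left hck,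
      div_self (neg_ne_zero.2 one_ne_zero)]
  obtain ⟨m, hm⟩ := h3
  exact ⟨c, m, by rw [← hm, mul_div_cancel₀ _ hck0]⟩

set_option backward.isDefEq.respectTransparency false in
/-- a field of degree five in dimension ten -/
theorem five_case (hn : n = 10) (hnd : (polarBilin q).Nondegenerate) (hH : H ≤ omegaGL ⇑q) (hirr : Irred H)
    {K : Subalgebra F (Matrix (Fin n) (Fin n) F)} (hK : IsFieldSubalgebra 5 K)
    (hs : StarClosed (RingEquiv.refl F) (gramMatrix (polar ⇑q)) K) (hKn : AlgNorm H K) :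
    AschFormImprim.ImprimOutcome (polar ⇑q) H ∨ TwoOut q H := by
  classical
  haveI : Nonempty (Fin n) := ⟨⟨0, by omega⟩⟩
  have hf := AschEvenBase44.formData hnd
  have hI := AschEvenBase44.isos hH
  haveI : Nontrivial K := ⟨0, 1, fun h => zero_ne_one (congrArg Subtype.val h : (0 : Matrix (Fin n) (Fin n) F) = 1)⟩
  have hfld : IsField K :=
    ⟨⟨0, 1, zero_ne_one⟩, fun x y => Subtype.ext (hK.comm _ x.2 _ y.2), fun {x} hx => by
      obtain ⟨y, hy, hxy⟩ := hK.inv x x.2 (fun h => hx (Subtype.ext h))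
      exact ⟨⟨y, hy⟩, Subtype.ext hxy⟩⟩
  letI : Field K := hfld.toField
  haveI : Fintype K := Fintype.ofFinite K
  have hKdim : Module.finrank F K = 5 := hK.finrank_eq
  letI : Module K (Fin n → F) :=
    Module.compHom _ (Matrix.toLinAlgEquiv'.toAlgHom.comp K.val).toRingHom
  have hsmul : ∀ (k : K) (v : Fin n → F), k • v = (k : Matrix (Fin n) (Fin n) F) *ᵥ v := fun k v => rfl
  haveI : IsScalarTower F K (Fin n → F) := ⟨fun c k v => by
    rw [hsmul, hsmul]; exact Matrix.smul_mulVec c (k : Matrix (Fin n) (Fin n) F) v⟩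
  haveI : Module.Free K (Fin n → F) := Module.Free.of_divisionRing K (Fin n → F)
  haveI : Module.Finite K (Fin n → F) := Module.Finite.of_restrictScalars_finite F K (Fin n → F)
  have hdimK : Module.finrank K (Fin n → F) = 2 := by
    have h1 := Module.finrank_mul_finrank F K (Fin n → F)
    rw [hKdim, Module.finrank_pi, Fintype.card_fin] at h1
    omega
  let bK := Module.finBasisOfFinrankEq K (Fin n → F) hdimK
  -- self-adjointness
  have hsa := (AschFormField.field_adj hf (by norm_num) hK hs).2 rfl (by decide)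
  have hfk : ∀ (k : K) u v, polar q (k • u) v = polar q u (k • v) := fun k u v => by
    rw [hsmul, hsmul, adjoint_apply hf, hsa k k.2]
  have hcK : ∀ (c : F) (v : Fin n → F), algebraMap F K c • v = c • v := fun c v => algebraMap_smul K c v
  -- functionals on the field
  obtain ⟨lam, hlam⟩ : ∃ lam : Module.Dual F K, lam 1 ≠ 0 :=
    Module.Projective.exists_dual_ne_zero F (one_ne_zero : (1 : K) ≠ 0)
  have hext : ∀ a b : K, (∀ k, lam (a * k) = lam (b * k)) → a = b := fun a b h => by
    by_contra hab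
    refine hlam ?_
    have h1 := h (a - b)⁻¹
    rw [← sub_eq_zero, ← map_sub, ← sub_mul, mul_inv_cancel₀ (sub_ne_zero.2 hab)] at h1
    exact h1
  let Ψ : K →ₗ[F] Module.Dual F K :=
    { toFun := fun a => lam ∘ₗ LinearMap.mulLeft F a
      map_add' := fun a b => LinearMap.ext fun k => by simp [add_mul]
      map_smul' := fun c a => LinearMap.ext fun k => by simp }
  have hΨ : Function.Surjective Ψ := (LinearMap.injective_iff_surjective_of_finrank_eq_finrank
    Subspace.dual_finrank_eq.symm).1 fun a b h => hext a b fun k => LinearMap.congr_fun h k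
  choose rep hrep using hΨ
  have hrep' : ∀ φ k, lam (rep φ * k) = φ k := fun φ k => LinearMap.congr_fun (hrep φ) k
  -- the symmetric form over the field
  let φh : (Fin n → F) → (Fin n → F) → Module.Dual F K := fun u v =>
    { toFun := fun k => polar q (k • u) v
      map_add' := fun a b => by rw [add_smul, polar_add_left]
      map_smul' := fun c a => by rw [smul_assoc, polar_smul_left, RingHom.id_apply] }
  let hh : (Fin n → F) → (Fin n → F) → K := fun u v => rep (φh u v)
  have hhk : ∀ u v k, lam (hh u v * k) = polar q (k • u) v := fun u v k => hrep' _ k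
  have hsymm : ∀ u v, hh u v = hh v u := fun u v => hext _ _ fun k => by
    rw [hhk, hhk, hfk, polar_comm]
  have haddl : ∀ u u' v, hh (u + u') v = hh u v + hh u' v := fun u u' v => hext _ _ fun k => by
    rw [add_mul, map_add, hhk, hhk, hhk, smul_add, polar_add_left]
  have hsl : ∀ (a : K) u v, hh (a • u) v = a * hh u v := fun a u v => hext _ _ fun k => by
    rw [hhk, show a * hh u v * k = hh u v * (k * a) by ring, hhk, mul_smul]
  have haddr : ∀ u v v', hh u (v + v') = hh u v + hh u v' := fun u v v' => by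
    rw [hsymm, haddl, hsymm v, hsymm v']
  have hsr : ∀ (a : K) u v, hh u (a • v) = a * hh u v := fun a u v => by rw [hsymm, hsl, hsymm]
  have hhnd : ∀ u, (∀ v, hh u v = 0) → u = 0 := fun u hu => hnd.1 u fun v => by
    have h1 := hhk u v 1
    rw [hu, zero_mul, map_zero, one_smul] at h1
    exact h1.symm
  -- squares span the field
  have hspan : ∀ a b : K, (∀ l, lam (a * (l * l)) = lam (b * (l * l))) → a = b := by
    intro a b h
    refine hext a b fun k => ?_
    by_cases h2 : (2 : F) = 0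
    · haveI : CharP F 2 := CharTwo.of_one_ne_zero_of_two_eq_zero one_ne_zero h2
      haveI : CharP K 2 := charP_of_injective_algebraMap (algebraMap F K).injective 2
      obtain ⟨l, rfl⟩ := FiniteField.isSquare_of_char_two (ringChar.eq K 2) k
      exact h l
    · have e : ∀ a : K, lam (a * k) * 4 = lam (a * ((k + 1) * (k + 1))) - lam (a * ((k - 1) * (k - 1))) := by
        intro a
        rw [← map_sub, ← mul_sub, show (k + 1) * (k + 1) - (k - 1) * (k - 1) = (4 : F) • k by
          rw [Algebra.smul_def, map_ofNat]; ring, mul_smul_comm, map_smul, smul_eq_mul, mul_comm]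
      have h4 : (4 : F) ≠ 0 := by rw [show (4 : F) = 2 * 2 by norm_num]; exact mul_ne_zero h2 h2
      exact mul_right_cancel₀ h4 (by rw [e, e, h, h])
  -- the quadratic form over the field
  have hlift : ∀ v, ∃ φ : Module.Dual F K, ∀ l : K, φ (l * l) = q (l • v) := by
    intro v
    by_cases h2 : (2 : F) = 0
    · haveI : CharP F 2 := CharTwo.of_one_ne_zero_of_two_eq_zero one_ne_zero h2
      haveI : CharP K 2 := charP_of_injective_algebraMap (algebraMap F K).injective 2
      have halt := AschFormField.alt_diag hf (fun v => by rw [AschEvenBase44.polar_self_eq, h2, zero_mul])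
        (fun v w => by rw [polar_comm (⇑q) w v]; linear_combination (polar q v w) * h2) hK hsa
      choose s hs' using fun k : K => FiniteField.isSquare_of_char_two (ringChar.eq K 2) k
      have hsinj : ∀ a b : K, a * a = b * b → a = b := fun a b h => by
        rcases mul_self_eq_mul_self_iff.1 h with h | h
        · exact h
        · rw [h, CharTwo.neg_eq]
      refine ⟨{ toFun := fun k => q (s k • v), map_add' := fun a b => ?_, map_smul' := fun c a => ?_ }, fun l => ?_⟩
      · rw [show s (a + b) = s a + s b from hsinj _ _ (by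
          rw [← hs', CharTwo.add_mul_self, ← hs', ← hs']), add_smul, QuadraticMap.map_add q, hfk, smul_smul,
          polar_comm, show polar q ((s a * s b) • v) v = 0 from halt _ (s a * s b).2 v, add_zero]
      · obtain ⟨c', hc'⟩ := FiniteField.isSquare_of_char_two (ringChar.eq F 2) c
        rw [show s (c • a) = c' • s a from hsinj _ _ (by
          rw [← hs', smul_mul_smul_comm, ← hs', ← hc']), smul_assoc, QuadraticMap.map_smul, ← hc', RingHom.id_apply]
      · show q (s (l * l) • v) = q (l • v)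
        rw [show s (l * l) = l from hsinj _ _ (hs' _).symm]
    · refine ⟨(2 : F)⁻¹ • φh v v, fun l => ?_⟩
      show (2 : F)⁻¹ * polar q ((l * l) • v) v = _
      rw [mul_smul, hfk, AschEvenBase44.polar_self_eq, inv_mul_cancel_left₀ h2]
  choose φq hφq using hlift
  let QK : (Fin n → F) → K := fun v => rep (φq v)
  have hQk : ∀ v l, lam (QK v * (l * l)) = q (l • v) := fun v l => by rw [hrep', hφq]
  have hQadd : ∀ u v, QK (u + v) = QK u + QK v + hh u v := fun u v => hspan _ _ fun l => by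
    rw [add_mul, add_mul, map_add, map_add, hQk, hQk, hQk, hhk, smul_add, QuadraticMap.map_add q, mul_smul, hfk l (l • u) v]
  have hQsm : ∀ (a : K) v, QK (a • v) = a * a * QK v := fun a v => hspan _ _ fun l => by
    rw [hQk, show a * a * QK v * (l * l) = QK v * ((l * a) * (l * a)) by ring, hQk, mul_smul]
  have hself : ∀ v, hh v v = 2 * QK v := fun v => by
    have h1 := hQadd v v
    rw [show v + v = (2 : K) • v from (two_smul K v).symm, hQsm] at h1
    linear_combination -h1
  -- the family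
  let A : Set (Matrix (Fin n) (Fin n) F) := {M | (∀ k ∈ K, M * k = k * M) ∧ ∃ (ε : F) (m : K), ∀ (l : K) v,
    polar q ((l * l) • (M *ᵥ v)) v = ε * q ((l * m) • v)}
  have hAK : ∀ M ∈ A, ∃ e : K, ∀ v, hh (M *ᵥ v) v = e * QK v := by
    rintro M ⟨-, ε, m, hM⟩
    refine ⟨ε • (m * m), fun v => hspan _ _ fun l => ?_⟩
    rw [hhk, hM, show ε • (m * m) * QK v * (l * l) = ε • (QK v * ((l * m) * (l * m))) by
      rw [Algebra.smul_def, Algebra.smul_def]; ring, LinearMap.map_smul, hQk, smul_eq_mul]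
  have hAmem : ∀ M, (∀ k ∈ K, M * k = k * M) → ∀ e : K, (∀ v, hh (M *ᵥ v) v = e * QK v) → M ∈ A := by
    intro M hM e he
    obtain ⟨c, m, rfl⟩ := scalar_times_square (F := F) (by rw [hKdim]; decide) e
    refine ⟨hM, c, m, fun l v => ?_⟩
    rw [← hhk, he, show algebraMap F K c * (m * m) * QK v * (l * l) = c • (QK v * ((l * m) * (l * m))) by
      rw [Algebra.smul_def]; ring, LinearMap.map_smul, hQk, smul_eq_mul]
  set v₁ := bK 0
  set v₂ := bK 1
  set α := QK v₁
  set γ := QK v₂
  set β := hh v₁ v₂ with hβ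
  have hbk : ∀ v, ∃ x y : K, v = x • v₁ + y • v₂ := fun v =>
    ⟨bK.repr v 0, bK.repr v 1, by conv_lhs => rw [← bK.sum_repr v, Fin.sum_univ_two]⟩
  have hindep : ∀ x y : K, x • v₁ + y • v₂ = 0 → x = 0 ∧ y = 0 := fun x y h => by
    have h1 := Fintype.linearIndependent_iff.1 bK.linearIndependent ![x, y] (by simpa [Fin.sum_univ_two] using h)
    exact ⟨by simpa using h1 0, by simpa using h1 1⟩
  have hdisc : β * β - 4 * α * γ ≠ 0 := by
    intro h0
    have key : ∀ x y : K, hh (x • v₁ + y • v₂) v₁ = 0 → hh (x • v₁ + y • v₂) v₂ = 0 → x = 0 ∧ y = 0 := by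
      intro x y h1 h3
      refine hindep x y (hhnd _ fun v => ?_)
      obtain ⟨s, t, rfl⟩ := hbk v
      rw [haddr, hsr, hsr, h1, h3, mul_zero, mul_zero, add_zero]
    obtain ⟨hg, hb⟩ := key (2 * γ) (-β)
      (by rw [haddl, hsl, hsl, hself, hsymm v₂ v₁, ← hβ]; linear_combination -h0)
      (by rw [haddl, hsl, hsl, hself, ← hβ]; ring)
    rw [neg_eq_zero] at hb
    obtain ⟨-, ha⟩ := key (-β) (2 * α)
      (by rw [haddl, hsl, hsl, hself, hsymm v₂ v₁, ← hβ]; ring)
      (by rw [haddl, hsl, hsl, hself, ← hβ]; linear_combination -h0)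
    refine bK.ne_zero 0 (hhnd _ fun v => ?_)
    obtain ⟨s, t, rfl⟩ := hbk v
    rw [haddr, hsr, hsr, hself, ← hβ, hb]
    linear_combination s * ha
  -- coordinates of a member of the family
  have hcoord : ∀ M ∈ A, ∃ a b c d : K, M *ᵥ v₁ = a • v₁ + c • v₂ ∧ M *ᵥ v₂ = b • v₁ + d • v₂ ∧
      α * b + γ * c = 0 ∧ (a - d) * α + β * c = 0 ∧ (a - d) * γ = β * b ∧
      (β = 0 → a = d) := by
    intro M hM
    obtain ⟨e, he⟩ := hAK M hM
    obtain ⟨a, c, hac⟩ := hbk (M *ᵥ v₁)
    obtain ⟨b, d, hbd⟩ := hbk (M *ᵥ v₂)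
    have e1 := he v₁
    rw [hac, haddl, hsl, hsl, hself, hsymm v₂ v₁, ← hβ] at e1
    have e2 := he v₂
    rw [hbd, haddl, hsl, hsl, hself, ← hβ] at e2
    have e3 := he (v₁ + v₂)
    rw [Matrix.mulVec_add, hac, hbd] at e3
    simp only [haddl, haddr, hsl, hself, hsymm v₂ v₁, hQadd] at e3
    rw [← hβ] at e3
    have hw : a + d - e = 0 := by
      refine (mul_eq_zero.1 (show (a + d - e) * (β * β - 4 * α * γ) = 0 from ?_)).resolve_right hdisc
      linear_combination β * e3 - (β + 2 * γ) * e1 - (β + 2 * α) * e2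
    refine ⟨a, b, c, d, hac, hbd, ?_, by linear_combination e1 - α * hw, by linear_combination -e2 + γ * hw, ?_⟩
    · by_cases h2 : (2 : K) = 0
      · have hβ0 : β ≠ 0 := fun h => hdisc (by rw [h]; linear_combination (-2 * α * γ) * h2)
        refine (mul_eq_zero.1 (show β * (α * b + γ * c) = 0 from ?_)).resolve_left hβ0
        linear_combination γ * e1 - α * e2 + (α * γ * (d - a) + α * β * b) * h2
      · refine (mul_eq_zero.1 (show (2 : K) * (α * b + γ * c) = 0 from ?_)).resolve_left h2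
        linear_combination e3 - e1 - e2 - β * hw
    · intro hb
      rw [hb] at hdisc
      have hα0 : α ≠ 0 := fun h => hdisc (by rw [h]; ring)
      refine sub_eq_zero.1 ((mul_eq_zero.1 (show (a - d) * α = 0 from ?_)).resolve_right hα0)
      linear_combination e1 - α * hw - c * hb
  have hcommA : ∀ M ∈ A, ∀ M' ∈ A, M * M' = M' * M := by
    intro M hM M' hM'
    obtain ⟨a, b, c, d, hac, hbd, h1, h2, h3, h4⟩ := hcoord M hM
    obtain ⟨a', b', c', d', hac', hbd', h1', h2', h3', h4'⟩ := hcoord M' hM'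
    have hlinM : ∀ (k : K) v, M *ᵥ (k • v) = k • (M *ᵥ v) := fun k v => by
      rw [hsmul, hsmul, Matrix.mulVec_mulVec, Matrix.mulVec_mulVec, hM.1 k k.2]
    have hlinM' : ∀ (k : K) v, M' *ᵥ (k • v) = k • (M' *ᵥ v) := fun k v => by
      rw [hsmul, hsmul, Matrix.mulVec_mulVec, Matrix.mulVec_mulVec, hM'.1 k k.2]
    obtain ⟨g1, g2, g3⟩ : b * c' = b' * c ∧ (a - d) * b' = (a' - d') * b ∧ (a - d) * c' = (a' - d') * c := by
      by_cases hb : β = 0
      · have hd' : β * β - 4 * α * γ ≠ 0 := hdisc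
        rw [hb] at hd'
        have hα0 : α ≠ 0 := fun h => hd' (by rw [h]; ring)
        refine ⟨mul_left_cancel₀ hα0 ?_, ?_, ?_⟩
        · linear_combination c' * h1 - c * h1'
        · rw [h4 hb, h4' hb, sub_self, sub_self, zero_mul, zero_mul]
        · rw [h4 hb, h4' hb, sub_self, sub_self, zero_mul, zero_mul]
      · refine ⟨mul_left_cancel₀ (mul_ne_zero hb hb) ?_, mul_left_cancel₀ hb ?_, mul_left_cancel₀ hb ?_⟩
        · linear_combination (-(β * c')) * h3 + (β * c) * h3' + ((a - d) * γ) * h2' - ((a' - d') * γ) * h2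
        · linear_combination (a' - d') * h3 - (a - d) * h3'
        · linear_combination (a - d) * h2' - (a' - d') * h2
    apply Matrix.toLin'.injective
    refine LinearMap.ext fun v => ?_
    obtain ⟨x, y, rfl⟩ := hbk v
    simp only [Matrix.toLin'_apply, ← Matrix.mulVec_mulVec, Matrix.mulVec_add, hlinM, hlinM', hac, hbd, hac', hbd',
      smul_add, smul_smul]
    rw [← sub_eq_zero]
    calc _ = (x * (b * c' - b' * c) + y * ((a - d) * b' - (a' - d') * b)) • v₁ +
          (x * (-((a - d) * c' - (a' - d') * c)) + y * (-(b * c' - b' * c))) • v₂ := by module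
      _ = 0 := by rw [g1, g2, g3]; simp
  have hAn : ∀ h ∈ H, ∀ M ∈ A, (h : Matrix (Fin n) (Fin n) F) * M * ((h⁻¹ : GL (Fin n) F) : Matrix (Fin n) (Fin n) F) ∈ A := by
    intro h hhH M hM
    obtain ⟨hMK, ε, m, hMv⟩ := hM
    have hback : ∀ k : K, ∃ k' : K, (k : Matrix (Fin n) (Fin n) F) * (h : Matrix (Fin n) (Fin n) F) =
        (h : Matrix (Fin n) (Fin n) F) * (k' : Matrix (Fin n) (Fin n) F) := fun k =>
      ⟨⟨_, hKn h⁻¹ (H.inv_mem hhH) k k.2⟩, by simp [← mul_assoc]⟩
    refine ⟨fun k hk => ?_, ε, ⟨_, hKn h hhH m m.2⟩, fun l v => ?_⟩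
    · obtain ⟨k', hk'⟩ := hback ⟨k, hk⟩
      have hk2 : ((h⁻¹ : GL (Fin n) F) : Matrix (Fin n) (Fin n) F) * k =
          (k' : Matrix (Fin n) (Fin n) F) * ((h⁻¹ : GL (Fin n) F) : Matrix (Fin n) (Fin n) F) := by
        have h1 := congrArg (fun N => ((h⁻¹ : GL (Fin n) F) : Matrix (Fin n) (Fin n) F) * N *
          ((h⁻¹ : GL (Fin n) F) : Matrix (Fin n) (Fin n) F)) hk'
        simpa [mul_assoc] using h1
      calc (h : Matrix (Fin n) (Fin n) F) * M * ((h⁻¹ : GL (Fin n) F) : Matrix (Fin n) (Fin n) F) * k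
          = (h : Matrix (Fin n) (Fin n) F) * (M * (k' : Matrix (Fin n) (Fin n) F)) *
              ((h⁻¹ : GL (Fin n) F) : Matrix (Fin n) (Fin n) F) := by simp only [mul_assoc, hk2]
        _ = (h : Matrix (Fin n) (Fin n) F) * (k' : Matrix (Fin n) (Fin n) F) * M *
              ((h⁻¹ : GL (Fin n) F) : Matrix (Fin n) (Fin n) F) := by rw [hMK _ k'.2]; simp only [mul_assoc]
        _ = _ := by rw [← hk']; simp only [mul_assoc]
    · obtain ⟨l', hl'⟩ := hback l
      set w := ((h⁻¹ : GL (Fin n) F) : Matrix (Fin n) (Fin n) F) *ᵥ v with hw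
      have hv : v = (h : Matrix (Fin n) (Fin n) F) *ᵥ w := by rw [hw, mulVec_inv_mulVec]
      have hlh : ∀ z, l • ((h : Matrix (Fin n) (Fin n) F) *ᵥ z) = (h : Matrix (Fin n) (Fin n) F) *ᵥ (l' • z) := fun z => by
        rw [hsmul, hsmul, Matrix.mulVec_mulVec, Matrix.mulVec_mulVec, hl']
      rw [mul_smul, mul_smul, hsmul ⟨_, hKn h hhH m m.2⟩]
      show polar q (l • l • (((h : Matrix (Fin n) (Fin n) F) * M * ((h⁻¹ : GL (Fin n) F) : Matrix (Fin n) (Fin n) F)) *ᵥ v)) v =
        ε * q (l • (((h : Matrix (Fin n) (Fin n) F) * (m : Matrix (Fin n) (Fin n) F) *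
          ((h⁻¹ : GL (Fin n) F) : Matrix (Fin n) (Fin n) F)) *ᵥ v))
      rw [← Matrix.mulVec_mulVec, ← Matrix.mulVec_mulVec, ← Matrix.mulVec_mulVec, ← Matrix.mulVec_mulVec, ← hw,
        hlh, hlh, hlh, AschEvenBase44.omega_quad (hH hhH)]
      conv_lhs => rw [hv]
      rw [hI h hhH, ← mul_smul, hMv, mul_smul, hsmul m]
  have hAstar : ∀ M ∈ A, adj (RingEquiv.refl F) (gramMatrix (polar ⇑q)) M ∈ A := by
    rintro M ⟨hMK, ε, m, hMv⟩
    refine ⟨fun k hk => ?_, ε, m, fun l v => ?_⟩
    · have h1 := congrArg (adj (RingEquiv.refl F) (gramMatrix (polar ⇑q))) (hMK k hk)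
      rw [adj_mul hf, adj_mul hf, hsa k hk] at h1
      exact h1.symm
    · rw [← hMv, hfk, polar_comm, ← adjoint_apply hf M ((l * l) • v) v]
      congr 1
      rw [hsmul, hsmul, Matrix.mulVec_mulVec, Matrix.mulVec_mulVec, hMK _ (l * l).2]
  -- the algebra they generate
  set C : Subalgebra F (Matrix (Fin n) (Fin n) F) := Algebra.adjoin F A with hC
  have hCn : AlgNorm H C := by
    intro h hhH c hc
    induction hc using Algebra.adjoin_induction with
    | mem z hz => exact Algebra.subset_adjoin (hAn h hhH z hz)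
    | algebraMap r => rw [← conjAlg_apply, AlgEquiv.commutes]; exact C.algebraMap_mem r
    | add x y _ _ hx hy => rw [← conjAlg_apply, map_add]; exact C.add_mem hx hy
    | mul x y _ _ hx hy => rw [← conjAlg_apply, map_mul]; exact C.mul_mem hx hy
  have hCs : StarClosed (RingEquiv.refl F) (gramMatrix (polar ⇑q)) C :=
    StarClosed.adjoin hf fun z hz => Algebra.subset_adjoin (hAstar z hz)
  have hCc : ∀ x ∈ C, ∀ y ∈ C, x * y = y * x := fun x hx y hy =>
    Algebra.commute_of_mem_adjoin_of_forall_mem_commute hy fun z hz =>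
      (Algebra.commute_of_mem_adjoin_of_forall_mem_commute hx fun w hw => hcommA z hz w hw).symm
  have hKC : K ≤ C := fun k hk => Algebra.subset_adjoin (hAmem k (fun l hl => hK.comm k hk l hl) (2 * ⟨k, hk⟩)
    fun v => by rw [← hsmul ⟨k, hk⟩, hsl, hself]; ring)
  -- an element outside the field
  obtain ⟨M, hMA, hMK⟩ : ∃ M ∈ A, M ∉ K := by
    let T : (Fin n → F) →ₗ[K] (Fin n → F) := bK.constr K ![β • v₁ + (-α) • v₂, γ • v₁]
    have hT1 : T v₁ = β • v₁ + (-α) • v₂ := by
      rw [show T = bK.constr K ![β • v₁ + (-α) • v₂, γ • v₁] from rfl, Basis.constr_basis]; rfl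
    have hT2 : T v₂ = γ • v₁ := by
      rw [show T = bK.constr K ![β • v₁ + (-α) • v₂, γ • v₁] from rfl, Basis.constr_basis]; rfl
    refine ⟨LinearMap.toMatrix' (T.restrictScalars F), hAmem _ (fun k hk => ?_) β fun v => ?_, fun hmem => ?_⟩
    · apply Matrix.toLin'.injective
      refine LinearMap.ext fun v => ?_
      simp only [Matrix.toLin'_apply, ← Matrix.mulVec_mulVec, LinearMap.toMatrix'_mulVec]
      exact T.map_smul (⟨k, hk⟩ : K) v
    · obtain ⟨x, y, rfl⟩ := hbk v
      rw [LinearMap.toMatrix'_mulVec, LinearMap.restrictScalars_apply, map_add, map_smul, map_smul, hT1, hT2]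
      simp only [haddl, haddr, hsl, hsr, hself, hsymm v₂ v₁, hQadd, hQsm, ← hβ]
      ring
    · have h1 : ∀ v, T v = (⟨_, hmem⟩ : K) • v := fun v => by
        rw [hsmul, LinearMap.toMatrix'_mulVec]; rfl
      have h3 := h1 v₁
      rw [hT1] at h3
      obtain ⟨hk1, hα0⟩ := hindep (β - ⟨_, hmem⟩) (-α) (by rw [sub_smul, sub_add_eq_add_sub, h3, sub_self])
      have h4 := h1 v₂
      rw [hT2] at h4
      obtain ⟨hγ0, hk2⟩ := hindep γ (-⟨_, hmem⟩) (by rw [h4, neg_smul, add_neg_cancel])
      rw [neg_eq_zero] at hk2 hα0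
      rw [hk2, sub_zero] at hk1
      exact hdisc (by rw [hk1, hα0]; ring)
  by_cases hid : ∃ e ∈ C, e * e = e ∧ e ≠ 0 ∧ e ≠ 1
  · obtain ⟨e, he, hee, he0, he1⟩ := hid
    exact Or.inl (AschFormImprim.imprim_cases hf hI hirr hCn hCs hCc he hee he0 he1)
  push Not at hid
  have hinv := inv_or_idempotent C (semisimple_of_norm hirr hCn) hCc fun e he hee => by
    by_cases h : e = 0
    · exact Or.inl h
    · exact Or.inr (hid e he hee h)
  have hCf : IsFieldSubalgebra (Module.finrank F C) C := ⟨hCc, hinv, rfl⟩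
  have hdvd : Module.finrank F C ∣ 10 := by
    have h := AschGenLinear.field_degree_dvd hCf
    rwa [show Fintype.card (Fin n) = 10 by simp [hn]] at h
  have hlt : Module.finrank F K < Module.finrank F C :=
    Submodule.finrank_lt_finrank_of_lt (lt_of_le_of_ne (show Subalgebra.toSubmodule K ≤ Subalgebra.toSubmodule C from hKC)
      fun h => hMK (h.ge (Algebra.subset_adjoin hMA : M ∈ C)))
  have hd : Module.finrank F C = 10 := by
    rcases Nat.le_of_dvd (by norm_num) hdvd with hle
    rw [hKdim] at hlt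
    interval_cases h : Module.finrank F C <;> omega
  obtain ⟨K₂, hK₂, hs₂, hn₂⟩ := subfield_of_dvd hf hCn hCs Nat.prime_two hCf (by rw [hd]; norm_num)
  exact Or.inr (two_case hn hnd hH hirr hK₂ hs₂ hn₂)

/-- every field normalised in dimension ten -/
theorem ten_field (hn : n = 10) (hnd : (polarBilin q).Nondegenerate) (hH : H ≤ omegaGL ⇑q) (hirr : Irred H)
    {r : ℕ} {K : Subalgebra F (Matrix (Fin n) (Fin n) F)} (hr : r.Prime) (hrn : r ∣ n)
    (hK : IsFieldSubalgebra r K) (hs : StarClosed (RingEquiv.refl F) (gramMatrix (polar ⇑q)) K)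
    (hKn : AlgNorm H K) : AschFormImprim.ImprimOutcome (polar ⇑q) H ∨ TwoOut q H := by
  subst hn
  have h5 : r = 2 ∨ r = 5 := by
    have hle := Nat.le_of_dvd (by norm_num) hrn
    have := hr.two_le
    interval_cases r <;> first | omega | (norm_num at hr)
  rcases h5 with rfl | rfl
  · exact Or.inr (two_case rfl hnd hH hirr hK hs hKn)
  · exact five_case rfl hnd hH hirr hK hs hKn

end Cfsg.Agent.AschEvenField44
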