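/-
Reducible subgroups of even-dimensional orthogonal groups: the invariant subspaces that remain, and
the totally singular subspaces that are not maximal choices.
-/
import Cfsg.Agent.Lib.AschEvenBase44

set_option autoImplicit false
set_option linter.unusedSectionVars false

namespace Cfsg.Agent.AschEvenReduce44

open QuadraticMap Module
open Cfsg.Agent.OrthUnitaryPrelude Cfsg.Agent.OrthUnitaryQuad Cfsg.Agent.OmegaClasses Cfsg.Agent.OmegaGeo
open scoped Matrix
open Cfsg Cfsg.Geo Cfsg.Agent.AschPrimeBasic Cfsg.Agent.AschFormBasic Cfsg.Agent.AschEvenBase44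

variable {ι : Type} [Fintype ι] [DecidableEq ι] {F : Type*} [Field F] [Fintype F]
  {q : QuadraticForm F (ι → F)}

/-- a non-degenerate subspace of odd dimension needs odd characteristic -/
theorem two_ne_zero_of_odd_dim {U : Submodule F (ι → F)} (hU : QuadClassify.Nondeg q U)
    (hd : Odd (finrank F U)) : (2 : F) ≠ 0 := by
  intro h2
  obtain ⟨k, e, f, W, h, hW⟩ := QuadClassify.exists_decomp (q.restrict U) (AschEvenType44.restrict_nd hU)
  have hdim := h.2.2.2.2.2.1
  rw [finrank_top] at hdim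
  have hW1 : finrank F W = 1 := by
    obtain ⟨j, hj⟩ := hd
    omega
  obtain ⟨w, hw, hw0⟩ := (Submodule.ne_bot_iff W).1 fun hb => by rw [hb, finrank_bot] at hW1; omega
  refine hw0 (h.2.2.2.2.2.2.2 w hw fun v hv => ?_)
  obtain ⟨c, hc⟩ := (finrank_eq_one_iff_of_nonzero' (⟨w, hw⟩ : W) fun h0 => hw0 (congrArg Subtype.val h0)).1
    hW1 ⟨v, hv⟩
  rw [← show c • w = v from congrArg Subtype.val hc, polar_smul_right, polar_self_mul, h2, zero_mul, smul_zero]

/-- what an invariant subspace leaves -/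
theorem reducible_cases (hnd : (polarBilin q).Nondegenerate) {H : Subgroup (GL ι F)} (hH : H ≤ omegaGL ⇑q)
    (hred : ¬ Irred H) :
    (∃ U : Submodule F (ι → F), U ≠ ⊥ ∧ IsTotallySingularQuad (⇑q) U ∧ Inv H U) ∨
    ((2 : F) = 0 ∧ ∃ v : ι → F, q v ≠ 0 ∧ Inv H (Submodule.span F {v})) ∨
    (∃ U U' : Submodule F (ι → F), Inv H U ∧ Inv H U' ∧ IsNondegenerateOn (polar ⇑q) U ∧
      IsNondegenerateOn (polar ⇑q) U' ∧ AreOrthogonalFor (polar ⇑q) U U' ∧ U ⊓ U' = ⊥ ∧ U ⊔ U' = ⊤ ∧
      1 ≤ finrank F U ∧ finrank F U ≤ finrank F U' ∧ finrank F U + finrank F U' = Fintype.card ι) := by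
  classical
  unfold Irred at hred
  push Not at hred
  obtain ⟨W, hW, hb, ht⟩ := hred
  have hI := isos hH
  rcases AschFormBasic.reducible (formData hnd) hI hW hb ht with
    ⟨U, hUb, -, hUi, hU⟩ | ⟨U, U', hUb, hUb', hUi, hUi', hn, hn', ho, hinf, hsup, hdim⟩
  · have hadd : ∀ a ∈ U, ∀ b ∈ U, q (a + b) = q a + q b := fun a ha b hb => by
      rw [QuadraticMap.map_add q, hU a ha b hb, add_zero]
    let K : Submodule F (ι → F) :=
      { carrier := {u | u ∈ U ∧ q u = 0}
        zero_mem' := ⟨U.zero_mem, QuadraticMap.map_zero q⟩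
        add_mem' := fun {a b} ha hb => ⟨U.add_mem ha.1 hb.1, by rw [hadd a ha.1 b hb.1, ha.2, hb.2, add_zero]⟩
        smul_mem' := fun c a ha => ⟨U.smul_mem c ha.1, by rw [QuadraticMap.map_smul, ha.2, smul_zero]⟩ }
    have hKi : Inv H K := fun g hg u hu => ⟨hUi g hg u hu.1, by rw [quad_isos hH hg]; exact hu.2⟩
    by_cases hK : K = ⊥
    swap
    · exact Or.inl ⟨K, hK, fun u hu => hu.2, hKi⟩
    obtain ⟨v, hv, hv0⟩ := (Submodule.ne_bot_iff U).1 hUb
    have hQv : q v ≠ 0 := fun h => hv0 ((Submodule.eq_bot_iff _).1 hK v ⟨hv, h⟩)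
    have h2 : (2 : F) = 0 := by
      have h1 := hU v hv v hv
      rw [polar_self_mul] at h1
      exact (mul_eq_zero.1 h1).resolve_right hQv
    have hspan : U = Submodule.span F {v} := by
      refine le_antisymm (fun u hu => ?_) ((Submodule.span_singleton_le_iff_mem _ _).2 hv)
      obtain ⟨s, hs⟩ := QuadClassify.isSquare_of_two_eq_zero h2 (-q u / q v)
      have hm : u + s • v ∈ K := ⟨U.add_mem hu (U.smul_mem _ hv), by
        rw [hadd u hu _ (U.smul_mem _ hv), QuadraticMap.map_smul, smul_eq_mul, ← hs, div_mul_cancel₀ _ hQv,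
          add_neg_cancel]⟩
      rw [hK, Submodule.mem_bot] at hm
      exact Submodule.mem_span_singleton.2 ⟨-s, by rw [neg_smul]; exact (eq_neg_of_add_eq_zero_left hm).symm⟩
    exact Or.inr (Or.inl ⟨h2, v, hQv, hspan ▸ hUi⟩)
  · refine Or.inr (Or.inr ?_)
    have h1 : 1 ≤ finrank F U := Submodule.one_le_finrank_iff.2 hUb
    have h1' : 1 ≤ finrank F U' := Submodule.one_le_finrank_iff.2 hUb'
    rcases le_total (finrank F U) (finrank F U') with hle | hle
    · exact ⟨U, U', hUi, hUi', hn, hn', ho, hinf, hsup, h1, hle, hdim⟩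
    · exact ⟨U', U, hUi', hUi, hn', hn, fun a ha b hb => (polar_comm _ a b).trans (ho b hb a ha),
        by rw [inf_comm, hinf], by rw [sup_comm, hsup], h1', hle, by omega⟩

/-- over at most three elements a hyperbolic plane has a distinguished vector -/
theorem plane_point {H : Subgroup (GL ι F)} (hH : H ≤ omegaGL ⇑q) (hq : Fintype.card F ≤ 3)
    {U : Submodule F (ι → F)} (hUi : Inv H U) (hU : IsNondegenerateOn (polar ⇑q) U) (hd : finrank F U = 2)
    (hp : IsPlusTypeOn (⇑q) U) : ∃ v : ι → F, q v = 1 ∧ Inv H (Submodule.span F {v}) := by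
  obtain ⟨T, hTU, hT, hTd⟩ := hp
  rw [hd] at hTd
  obtain ⟨u, hu, hu0⟩ := (Submodule.ne_bot_iff T).1 fun hb => by rw [hb, finrank_bot] at hTd; omega
  have hQu : q u = 0 := hT u hu
  have hn := AschEvenType44.nondeg_iff.1 hU
  obtain ⟨f, hf, hQf, huf⟩ := QuadClassify.exists_partner q hn (hTU hu) hu0 hQu
  have hval : ∀ a b : F, q (a • u + b • f) = a * b := fun a b => by
    rw [QuadraticMap.map_add q, QuadraticMap.map_smul, QuadraticMap.map_smul, polar_smul_left,
      polar_smul_right, hQu, hQf, huf]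
    simp
  have hspan : Submodule.span F {u, f} = U := by
    refine Submodule.eq_of_le_of_finrank_le (Submodule.span_le.2 (by
      simp [Set.insert_subset_iff, hTU hu, hf])) ?_
    have hli : LinearIndependent F ![u, f] := LinearIndependent.pair_iff.2 fun a b hab => by
      have e1 := congrArg (polar q u) hab
      have e2 := congrArg (fun x => polar q x f) hab
      simp [polar_add_right, polar_smul_right, polar_self_mul, hQu, huf] at e1
      simp [polar_add_left, polar_smul_left, polar_self_mul, hQf, huf] at e2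
      exact ⟨e2, e1⟩
    have := finrank_span_eq_card hli
    rw [Matrix.range_cons_cons_empty, Fintype.card_fin] at this
    omega
  refine ⟨(1 : F) • u + (1 : F) • f, by rw [hval, one_mul], fun g hg w hw => ?_⟩
  obtain ⟨c, rfl⟩ := Submodule.mem_span_singleton.1 hw
  rw [Matrix.mulVec_smul]
  refine Submodule.smul_mem _ c ?_
  set z := (g : Matrix ι ι F) *ᵥ ((1 : F) • u + (1 : F) • f) with hz
  have hzU : z ∈ U := hUi g hg _ (U.add_mem (U.smul_mem _ (hTU hu)) (U.smul_mem _ hf))
  rw [← hspan, Submodule.mem_span_pair] at hzU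
  obtain ⟨a, b, hab⟩ := hzU
  have h1 : a * b = 1 := by rw [← hval, hab, hz, quad_isos hH hg, hval, one_mul]
  have ha : a ≠ 0 := left_ne_zero_of_mul_eq_one h1
  have haa : a * a = 1 := by
    have h4 := FiniteField.pow_card_sub_one_eq_one a ha
    rcases (show Fintype.card F = 2 ∨ Fintype.card F = 3 by
      have := Fintype.one_lt_card (α := F); omega) with h | h
    · rw [h, show 2 - 1 = 1 from rfl, pow_one] at h4
      rw [h4, one_mul]
    · rw [h, show 3 - 1 = 2 from rfl, pow_two] at h4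
      exact h4
  have hab' : b = a := mul_left_cancel₀ ha (h1.trans haa.symm)
  exact Submodule.mem_span_singleton.2 ⟨a, by
    rw [← hab, hab', smul_add, smul_smul, smul_smul, mul_one]⟩

/-- in plus type a group fixing a subspace just below a maximal singular one fixes a maximal one -/
theorem submaximal (hnd : (polarBilin q).Nondegenerate) (hn : 7 ≤ Fintype.card ι)
    (hplus : IsPlusTypeOn (⇑q) ⊤) {H : Subgroup (GL ι F)} (hH : H ≤ omegaGL ⇑q)
    {W : Submodule F (ι → F)} (hW : IsTotallySingularQuad (⇑q) W) (hWi : Inv H W)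
    (hdim : 2 * (finrank F W + 1) = Fintype.card ι) :
    ∃ U : Submodule F (ι → F), IsTotallySingularQuad (⇑q) U ∧ 2 * finrank F U = Fintype.card ι ∧ Inv H U := by
  obtain ⟨U₀, -, hU₀, hU₀d⟩ := hplus
  rw [finrank_top] at hU₀d
  have hd : finrank F (ι → F) = Fintype.card ι := Module.finrank_pi F
  have hexc : Fintype.card F ≠ 2 ∨ finrank F (ι → F) ≠ 4 := Or.inr (by omega)
  have hU := lagr_extend hnd (U₀ := U₀) ⟨hU₀, hU₀d⟩ hW
  set U := W ⊔ U₀ ⊓ LinearMap.BilinForm.orthogonal (QuadraticMap.polarBilin q) W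
  have hUd := hU.2
  rw [hd] at hUd
  refine ⟨U, hU.1, hUd, fun g hg => ?_⟩
  obtain ⟨k, hk, rfl⟩ := exists_of_mem_omegaGL (hH hg)
  have he := even_finrank hnd hexc hU hk
  set U' := U.map (k.1 : (ι → F) →ₗ[F] (ι → F)) with hU'
  have hWU' : W ≤ U ⊓ U' := le_inf le_sup_left fun w hw => by
    refine ⟨k.1.symm w, le_sup_left (a := W) ?_, k.1.apply_symm_apply w⟩
    have h1 := hWi (toGL q k)⁻¹ (H.inv_mem hg) w hw
    rwa [show ((toGL q k)⁻¹ : GL ι F).val *ᵥ w = k.1.symm w from (act (toGL q k)).injective (by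
      show (toGL q k : Matrix ι ι F) *ᵥ _ = (toGL q k : Matrix ι ι F) *ᵥ _
      rw [mulVec_inv_mulVec, toGL_mulVec, LinearEquiv.apply_symm_apply])] at h1
  have h1 := Submodule.finrank_mono hWU'
  have h2 : finrank F ↥(U ⊓ U') ≤ finrank F U := Submodule.finrank_mono inf_le_left
  have h3 : finrank F U' = finrank F U := LinearEquiv.finrank_map_eq _ _
  have h4 : finrank F ↥(U ⊓ U') = finrank F U := by
    rw [Nat.even_iff] at he
    omega
  have h5 : U ⊓ U' = U := Submodule.eq_of_le_of_finrank_eq inf_le_left h4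
  have h6 : U' = U := (Submodule.eq_of_le_of_finrank_eq (inf_eq_left.1 h5) h3.symm).symm
  intro u hu
  rw [toGL_mulVec, ← h6]
  exact ⟨u, hu, rfl⟩

/-- for odd half-dimension two complementary singular halves are both fixed -/
theorem pair_fixed (hnd : (polarBilin q).Nondegenerate) (hn : 7 ≤ Fintype.card ι) {H : Subgroup (GL ι F)}
    (hH : H ≤ omegaGL ⇑q) {k : ℕ} (hk : 2 * k = Fintype.card ι) (hko : Odd k)
    {D : Fin 2 → Submodule F (ι → F)} (hD : IsMDecomposition k D) (hts : ∀ i, IsTotallySingularQuad (⇑q) (D i))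
    (hle : H ≤ decompositionStabilizer D) : Inv H (D 0) := by
  have hd : finrank F (ι → F) = Fintype.card ι := Module.finrank_pi F
  have hexc : Fintype.card F ≠ 2 ∨ finrank F (ι → F) ≠ 4 := Or.inr (by omega)
  have hL : Lagr q (D 0) := ⟨hts 0, by rw [hD.finrank_eq, hk, hd]⟩
  intro g hg
  obtain ⟨σ, hσ⟩ := hle hg
  obtain ⟨c, hc, rfl⟩ := exists_of_mem_omegaGL (hH hg)
  have hmap : (D 0).map (c.1 : (ι → F) →ₗ[F] (ι → F)) = D (σ 0) := by
    rw [← hσ 0]
    congr 1
    exact LinearMap.ext fun x => by rw [LinearEquiv.coe_coe, Matrix.toLin'_apply, toGL_mulVec]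
  have he := even_finrank hnd hexc hL hc
  have h01 : ∀ s : Fin 2, s = 0 ∨ s = 1 := by decide
  rcases h01 (σ 0) with hs | hs
  · intro u hu
    rw [toGL_mulVec, ← hs, ← hmap]
    exact ⟨u, hu, rfl⟩
  · exfalso
    rw [hmap, hs, disjoint_iff.1 (hD.indep.pairwiseDisjoint (show (0 : Fin 2) ≠ 1 by decide)),
      finrank_bot, hD.finrank_eq, zero_add] at he
    exact (Nat.not_even_iff_odd.2 hko) he

end Cfsg.Agent.AschEvenReduce44
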