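import Mathlib
import Cfsg.Agent.Lib.OmegaStabTools

/-!
Maximality in the commutator subgroup of the stabiliser of a non-degenerate subspace.
-/

set_option autoImplicit false

namespace Cfsg.Agent.OmegaStabNondeg

open QuadraticMap Module
open Cfsg.Agent.OrthUnitaryQuad Cfsg.Agent.OrthUnitaryPrelude Cfsg.Agent.OrthUnitaryRefl
  Cfsg.Agent.OmegaClasses Cfsg.Agent.OmegaGeo Cfsg.Agent.OrthUnitarySimple
  Cfsg.Agent.OmegaStabSingular Cfsg.Agent.OmegaStabTools
open Cfsg.Agent.QuadClassify (Nondeg Aniso exists_partner pair_complement)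

variable {F V : Type*} [Field F] [AddCommGroup V] [Module F V] [FiniteDimensional F V]
  {Q : QuadraticForm F V}

/-- The orthogonal space. -/
abbrev perp (Q : QuadraticForm F V) (S : Submodule F V) : Submodule F V :=
  LinearMap.BilinForm.orthogonal (polarBilin Q) S

/-- A non-zero subspace invariant under the Siegel elements and reflections of `U` is `U`. -/
theorem eq_of_invariant [Fintype F] {U A : Submodule F V} (hU : Nondeg Q U) (hAU : A ≤ U) {y : V}
    (hy : y ∈ A) (hy0 : y ≠ 0)
    (hs : ∀ a ∈ U, ∀ x ∈ U, ∀ (ha : Q a = 0) (hx : polar Q a x = 0), ∀ z ∈ A,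
      (siegel Q a x ha hx).1 z ∈ A)
    (hr : ∀ v ∈ U, ∀ (hv : Q v ≠ 0), ∀ z ∈ A, (refl Q v hv).1 z ∈ A)
    (hex : ¬ (Fintype.card F ≤ 3 ∧ finrank F U = 2 ∧ ∃ e ∈ U, e ≠ 0 ∧ Q e = 0)) :
    A = U := by
  classical
  refine le_antisymm hAU ?_
  have hyU := hAU hy
  have hvA : ∀ v ∈ U, Q v ≠ 0 → polar Q v y ≠ 0 → v ∈ A := by
    intro v hv hQv hvy
    have h := A.sub_mem hy (hr v hv hQv y hy)
    rw [refl_apply, sub_sub_cancel] at h
    have h' := A.smul_mem ((Q v)⁻¹ * polar Q v y)⁻¹ h
    rwa [smul_smul, inv_mul_cancel₀ (mul_ne_zero (inv_ne_zero hQv) hvy), one_smul] at h'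
  rcases Nat.lt_or_ge (finrank F U) 3 with hd | hd
  · by_cases hA : finrank F U ≤ finrank F A
    · exact (Submodule.eq_of_le_of_finrank_le hAU hA).ge
    exfalso
    have h1 : 1 ≤ finrank F A := Submodule.one_le_finrank_iff.2 fun hb => by
      rw [hb, Submodule.mem_bot] at hy
      exact hy0 hy
    have hd2 : finrank F U = 2 := by omega
    have hA1 : finrank F A ≤ 1 := by omega
    by_cases hiso : ∃ e ∈ U, e ≠ 0 ∧ Q e = 0
    · obtain ⟨e, he, he0, hQe⟩ := hiso
      have h4 : 4 ≤ Fintype.card F := by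
        by_contra h
        exact hex ⟨by omega, hd2, e, he, he0, hQe⟩
      obtain ⟨f, hf, hQf, hef⟩ := exists_partner Q hU he he0 hQe
      set α := polar Q e y
      set β := polar Q f y
      obtain ⟨s, hs', t, ht', hst⟩ :=
        Finset.one_lt_card.1 (show 1 < (((Finset.univ : Finset F).erase 0).erase (-α / β)).card by
          have := Finset.pred_card_le_card_erase (a := -α / β) (s := (Finset.univ : Finset F).erase 0)
          rw [Finset.card_erase_of_mem (Finset.mem_univ _), Finset.card_univ] at this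
          omega)
      have key : ∀ s : F, s ≠ 0 → s ≠ -α / β → e + s • f ∈ A := by
        intro s hs0 hs1
        refine hvA _ (U.add_mem he (U.smul_mem _ hf)) ?_ ?_
        · rw [QuadraticMap.map_add (⇑Q), QuadraticMap.map_smul, hQe, hQf, polar_smul_right, hef]
          simpa using hs0
        · rw [polar_add_left, polar_smul_left]
          intro h0
          by_cases hβ : β = 0
          · have hα : α = 0 := by simpa [β, hβ] using h0
            refine hy0 (hU y hyU fun z hz => ?_)
            obtain ⟨-, hdim⟩ := pair_complement Q hU he hf hQe hQf hef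
            have hbot : U ⊓ LinearMap.ker (polarBilin Q e) ⊓ LinearMap.ker (polarBilin Q f) = ⊥ :=
              Submodule.finrank_eq_zero.1 (by omega)
            have hmem : y ∈ U ⊓ LinearMap.ker (polarBilin Q e) ⊓ LinearMap.ker (polarBilin Q f) :=
              ⟨⟨hyU, hα⟩, hβ⟩
            rw [hbot, Submodule.mem_bot] at hmem
            simp [hmem]
          · refine hs1 ?_
            rw [eq_div_iff hβ]
            simp only [smul_eq_mul] at h0
            linear_combination h0
      simp only [Finset.mem_erase, Finset.mem_univ, and_true] at hs' ht'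
      have e1 := key s hs'.2 hs'.1
      have e2 := key t ht'.2 ht'.1
      have hfA : f ∈ A := by
        have := A.smul_mem (s - t)⁻¹ (A.sub_mem e1 e2)
        rwa [add_sub_add_left_eq_sub, ← sub_smul, smul_smul, inv_mul_cancel₀ (sub_ne_zero.2 hst),
          one_smul] at this
      have heA : e ∈ A := by simpa using A.sub_mem e1 (A.smul_mem s hfA)
      have hli : LinearIndependent F ![e, f] := by
        refine LinearIndependent.pair_iff.2 fun p r hpr => ?_
        have e1 := congrArg (polar Q e) hpr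
        have e2 := congrArg (polar Q f) hpr
        rw [polar_add_right, polar_smul_right, polar_smul_right, polar_self_mul, hQe, hef,
          polar_zero_right] at e1
        rw [polar_add_right, polar_smul_right, polar_smul_right, polar_self_mul, hQf,
          polar_comm Q f e, hef, polar_zero_right] at e2
        exact ⟨by simpa using e2, by simpa using e1⟩
      have hle : Submodule.span F (Set.range ![e, f]) ≤ A := Submodule.span_le.2 (by
        rintro _ ⟨i, rfl⟩
        fin_cases i <;> assumption)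
      have h2 := Submodule.finrank_mono hle
      rw [finrank_span_eq_card hli, Fintype.card_fin] at h2
      omega
    · push Not at hiso
      -- two lines cannot cover the plane
      obtain ⟨z, hz, hzA⟩ : ∃ z ∈ U, z ∉ A := by
        by_contra h
        push Not at h
        have := Submodule.finrank_mono (show U ≤ A from h)
        omega
      obtain ⟨w, hw, hwy⟩ : ∃ w ∈ U, polar Q w y ≠ 0 := by
        by_contra h
        push Not at h
        exact hy0 (hU y hyU fun v hv => (polar_comm _ y v).trans (h v hv))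
      obtain ⟨v, hv, hvA', hvy⟩ : ∃ v ∈ U, v ∉ A ∧ polar Q v y ≠ 0 := by
        by_cases h1 : polar Q z y = 0
        · by_cases h2 : w ∈ A
          · refine ⟨z + w, U.add_mem hz hw, fun h => hzA ?_, by rw [polar_add_left, h1, zero_add]; exact hwy⟩
            simpa using A.sub_mem h h2
          · exact ⟨w, hw, h2, hwy⟩
        · exact ⟨z, hz, hzA, h1⟩
      exact hvA' (hvA v hv (fun h => hvy (by
        have hv0 : v = 0 := by_contra fun h0 => hiso v hv h0 h
        simp [hv0])) hvy)
  · obtain ⟨e, he, he0, hQe⟩ := QuadClassify.exists_singular Q U hd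
    obtain ⟨a, ha, hQa, hay⟩ := exists_singular_pairing hU he he0 hQe hyU hy0
    have ha0 : a ≠ 0 := fun h => hay (by rw [h, polar_zero_left])
    set c := polar Q a y with hc
    have hmem : ∀ x ∈ U, polar Q a x = 0 →
        x - ((polar Q x y + Q x * c) / c) • a ∈ A := by
      intro x hx hax
      have h := A.sub_mem (hs a ha x hx hQa hax y hy) hy
      rw [siegel_apply, ← hc] at h
      have h' := A.smul_mem c⁻¹ h
      rw [show y + c • x - (polar Q x y + Q x * c) • a - y = c • x - (polar Q x y + Q x * c) • a by abel,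
        smul_sub, smul_smul, smul_smul, inv_mul_cancel₀ hay, one_smul, mul_comm, ← div_eq_mul_inv] at h'
      exact h'
    have haA : a ∈ A := by
      by_contra haA
      obtain ⟨f, hf, hQf, haf⟩ := exists_partner Q hU ha ha0 hQa
      obtain ⟨hnd', hdim⟩ := pair_complement Q hU ha hf hQa hQf haf
      obtain ⟨x, hx, hx0⟩ := Submodule.exists_mem_ne_zero_of_ne_bot
        (p := U ⊓ LinearMap.ker (polarBilin Q a) ⊓ LinearMap.ker (polarBilin Q f))
        (fun hb => by rw [hb, finrank_bot] at hdim; omega)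
      refine hx0 (hnd' x hx fun z hz => ?_)
      have hax : polar Q a x = 0 := hx.1.2
      have haz : polar Q a z = 0 := hz.1.2
      have h := A.sub_mem (A.sub_mem (hmem (x + z) (U.add_mem hx.1.1 hz.1.1)
        (by rw [polar_add_right, hax, haz, add_zero])) (hmem x hx.1.1 hax)) (hmem z hz.1.1 haz)
      have hcoef : (polar Q (x + z) y + Q (x + z) * c) / c =
          (polar Q x y + Q x * c) / c + (polar Q z y + Q z * c) / c + polar Q x z := by
        rw [polar_add_left, QuadraticMap.map_add (⇑Q)]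
        field_simp
        ring
      rw [hcoef, add_smul, add_smul] at h
      by_contra hxz
      refine haA ?_
      have := A.smul_mem (-(polar Q x z)⁻¹) h
      rwa [show x + z - (((polar Q x y + Q x * c) / c) • a + ((polar Q z y + Q z * c) / c) • a +
          polar Q x z • a) - (x - ((polar Q x y + Q x * c) / c) • a) -
          (z - ((polar Q z y + Q z * c) / c) • a) = -(polar Q x z • a) by abel,
        neg_smul, smul_neg, neg_neg, smul_smul, inv_mul_cancel₀ hxz, one_smul] at this
    intro z hz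
    set x := z - (polar Q a z / c) • y with hx
    have hxU : x ∈ U := U.sub_mem hz (U.smul_mem _ hyU)
    have hax : polar Q a x = 0 := by
      rw [hx, polar_sub_right, polar_smul_right, ← hc]
      simp [div_mul_cancel₀ _ hay]
    have := A.add_mem (hmem x hxU hax) (A.smul_mem ((polar Q x y + Q x * c) / c) haA)
    rw [sub_add_cancel] at this
    simpa [hx] using A.add_mem this (A.smul_mem (polar Q a z / c) hy)

/-- Stabilisers of non-degenerate subspaces of large dimension are maximal. -/
theorem commutator_le [Fintype F] (hnd : (polarBilin Q).Nondegenerate) {S : Submodule F V}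
    (hS : Nondeg Q S) (hS6 : 6 ≤ finrank F S) (hle : finrank F (perp Q S) ≤ finrank F S)
    (hex : ¬ (Fintype.card F ≤ 3 ∧ finrank F (perp Q S) = 2 ∧ ∃ e ∈ perp Q S, e ≠ 0 ∧ Q e = 0))
    (M : Subgroup (orth Q))
    (hH : ∀ k ∈ commutator (orth Q), S.map (k.1 : V →ₗ[F] V) = S → k ∈ M)
    {g : orth Q} (hg : g ∈ M) (hgS : S.map (g.1 : V →ₗ[F] V) ≠ S)
    (hgS' : S.map (g.1 : V →ₗ[F] V) ≠ perp Q S) :
    commutator (orth Q) ≤ M := by
  set S' := perp Q S with hS'def
  have hn : 5 ≤ finrank F V := by have := Submodule.finrank_le S; omega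
  have hSie : ∀ (a w : V) (ha : Q a = 0) (hw : polar Q a w = 0),
      siegel Q a w ha hw ∈ commutator (orth Q) := fun a w ha hw =>
    sGroup_le_commutator hnd hn (siegel_mem hnd hn ha hw)
  have hperp : ∀ s ∈ S, ∀ x ∈ S', polar Q s x = 0 := fun s hs x hx => hx s hs
  have hperp' : ∀ s ∈ S, ∀ x ∈ S', polar Q x s = 0 := fun s hs x hx =>
    (polar_comm _ x s).trans (hx s hs)
  have hstab : ∀ k ∈ commutator (orth Q), (∀ x ∈ S, k.1 x ∈ S) → k ∈ M := fun k hk h =>
    hH k hk (map_eq_of_forall h)
  have hinner : ∀ (a w : V) (ha : Q a = 0) (hw : polar Q a w = 0), a ∈ S → w ∈ S →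
      siegel Q a w ha hw ∈ M := fun a w ha hw haS hwS => hstab _ (hSie _ _ _ _) fun x hx => by
    rw [siegel_apply]
    exact S.sub_mem (S.add_mem hx (S.smul_mem _ hwS)) (S.smul_mem _ haS)
  have hdec : ∀ x : V, ∃ s ∈ S, ∃ t ∈ S', x = s + t := by
    intro x
    have hdisj : S ⊓ S' = ⊥ := by
      rw [Submodule.eq_bot_iff]
      intro v hv
      exact hS v hv.1 fun w hw => (polar_comm _ v w).trans (hv.2 w hw)
    have htop : S ⊔ S' = ⊤ := by
      refine Submodule.eq_top_of_finrank_eq ?_
      have h := Submodule.finrank_sup_add_finrank_inf_eq S S'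
      rw [hdisj, finrank_bot] at h
      have h1 := finrank_orth hnd S
      have h2 := Submodule.finrank_le S
      rw [← perp, ← hS'def] at h1
      omega
    obtain ⟨s, hs, t, ht, hst⟩ := Submodule.mem_sup.1 (show x ∈ S ⊔ S' by rw [htop]; trivial)
    exact ⟨s, hs, t, ht, hst.symm⟩
  have hS'nd : Nondeg Q S' := by
    intro x hx h
    refine hnd.1 x fun z => ?_
    obtain ⟨s, hs, t, ht, rfl⟩ := hdec z
    show polar Q x (s + t) = 0
    rw [polar_add_right, hperp' s hs x hx, h t ht, add_zero]
  -- a singular vector in the image of S outside S and its orthogonal space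
  set T := S.map (g.1 : V →ₗ[F] V) with hTdef
  have hT : Nondeg Q T := by
    rintro _ ⟨x, hx, rfl⟩ h
    rw [LinearEquiv.coe_coe, hS x hx fun z hz => by
      rw [← polar_orth g]; exact h _ (Submodule.mem_map_of_mem hz), map_zero]
  have hTd : finrank F T = finrank F S := LinearEquiv.finrank_map_eq _ _
  obtain ⟨e₀, he₀, he₀0, hQe₀⟩ := QuadClassify.exists_singular Q T (by omega)
  obtain ⟨a, haT, hQa, haS, haS'⟩ : ∃ a ∈ T, Q a = 0 ∧ a ∉ S ∧ a ∉ S' := by
    have hspan : ∀ X : Submodule F V, ¬ T ≤ X → ∃ a ∈ T, Q a = 0 ∧ a ∉ X := by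
      intro X hX
      by_contra h
      push Not at h
      refine hX fun z hz => ?_
      obtain ⟨f, hf, hQf, hef⟩ := exists_partner Q hT he₀ he₀0 hQe₀
      set z' := z - polar Q f z • e₀ - polar Q e₀ z • f with hz'
      have hfe : polar Q f e₀ = 1 := by rw [polar_comm, hef]
      have h1 : polar Q e₀ z' = 0 := by
        rw [hz', polar_sub_right, polar_sub_right, polar_smul_right, polar_smul_right, polar_self_mul,
          hQe₀, hef]
        simp
      have h2 : polar Q f z' = 0 := by
        rw [hz', polar_sub_right, polar_sub_right, polar_smul_right, polar_smul_right, polar_self_mul,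
          hQf, hfe]
        simp
      have h3 : Q (z' + f - Q z' • e₀) = 0 := by
        rw [sub_eq_add_neg, ← neg_smul, QuadraticMap.map_add (⇑Q), QuadraticMap.map_add (⇑Q) z',
          QuadraticMap.map_smul, polar_add_left, polar_smul_right, polar_smul_right,
          polar_comm Q z' e₀, polar_comm Q z' f, h1, h2, hfe, hQe₀, hQf]
        simp
      have h4 := h _ (T.sub_mem (T.add_mem (T.sub_mem (T.sub_mem hz (T.smul_mem _ he₀))
        (T.smul_mem _ hf)) hf) (T.smul_mem _ he₀)) h3
      have hz'' : z = (z' + f - Q z' • e₀) - f + Q z' • e₀ + polar Q f z • e₀ + polar Q e₀ z • f := by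
        rw [hz']; abel
      rw [hz'']
      exact X.add_mem (X.add_mem (X.add_mem (X.sub_mem h4 (h f hf hQf)) (X.smul_mem _ (h e₀ he₀ hQe₀)))
        (X.smul_mem _ (h e₀ he₀ hQe₀))) (X.smul_mem _ (h f hf hQf))
    obtain ⟨x, hxT, hQx, hxS⟩ := hspan S fun h =>
      hgS (Submodule.eq_of_le_of_finrank_eq h hTd)
    by_cases hxS' : x ∈ S'
    · obtain ⟨z, hzT, hQz, hzS'⟩ := hspan S' fun h =>
        hgS' (Submodule.eq_of_le_of_finrank_le h (by rw [hTd]; exact hle))
      by_cases hzS : z ∈ S
      · refine ⟨x + z, T.add_mem hxT hzT, ?_, fun h => hxS ?_, fun h => hzS' ?_⟩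
        · rw [QuadraticMap.map_add (⇑Q), hQx, hQz, hperp' z hzS x hxS']; simp
        · simpa using S.sub_mem h hzS
        · simpa using S'.sub_mem h hxS'
      · exact ⟨z, hzT, hQz, hzS, hzS'⟩
    · exact ⟨x, hxT, hQx, hxS, hxS'⟩
  have ha0 : a ≠ 0 := fun h => haS (h ▸ S.zero_mem)
  obtain ⟨fa, hfaT, hQfa, hafa⟩ := exists_partner Q hT haT ha0 hQa
  obtain ⟨-, hdimT⟩ := pair_complement Q hT haT hfaT hQa hQfa hafa
  obtain ⟨b, hb, hb0, hQb⟩ := QuadClassify.exists_singular Q
    (T ⊓ LinearMap.ker (polarBilin Q a) ⊓ LinearMap.ker (polarBilin Q fa)) (by omega)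
  have hab : polar Q a b = 0 := hb.1.2
  have hkM : siegel Q a b hQa hab ∈ M := by
    obtain ⟨a₀, ha₀, rfl⟩ := haT
    obtain ⟨b₀, hb₀, rfl⟩ := hb.1.1
    simp only [LinearEquiv.coe_coe] at hQa hab ⊢
    rw [← conj_siegel g a₀ b₀ (by rwa [map_orth g] at hQa) (by rwa [polar_orth g] at hab)]
    exact M.mul_mem (M.mul_mem hg (hinner _ _ _ _ ha₀ hb₀)) (M.inv_mem hg)
  -- the component of the image in the orthogonal space
  obtain ⟨aS, haSm, a', ha', haeq⟩ := hdec a
  obtain ⟨bS, hbSm, b', hb', hbeq⟩ := hdec b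
  have ha'0 : a' ≠ 0 := fun h => haS (by rw [haeq, h, add_zero]; exact haSm)
  obtain ⟨w₀, hw₀, hΦ⟩ : ∃ w ∈ S, polar Q aS w • b' - polar Q bS w • a' ≠ 0 := by
    by_contra h
    push Not at h
    have haS0 : aS ≠ 0 := fun h0 => haS' (by rw [haeq, h0, zero_add]; exact ha')
    obtain ⟨w, hw, hwa⟩ : ∃ w ∈ S, polar Q aS w ≠ 0 := by
      by_contra hc
      push Not at hc
      exact haS0 (hS aS haSm hc)
    set t := polar Q bS w / polar Q aS w
    have hb't : b' = t • a' := by
      have := congrArg ((polar Q aS w)⁻¹ • ·) (sub_eq_zero.1 (h w hw))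
      simp only [smul_smul, inv_mul_cancel₀ hwa, one_smul] at this
      rw [this, mul_comm, ← div_eq_mul_inv]
    have hbSt : bS = t • aS := by
      refine sub_eq_zero.1 (hS _ (S.sub_mem hbSm (S.smul_mem _ haSm)) fun v hv => ?_)
      have := h v hv
      rw [hb't, smul_smul, ← sub_smul, smul_eq_zero] at this
      rw [polar_sub_left, polar_smul_left, smul_eq_mul]
      linear_combination -(this.resolve_right ha'0)
    have hbt : b = t • a := by rw [hbeq, haeq, hb't, hbSt, smul_add]
    have h0 : polar Q fa b = 0 := hb.2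
    rw [hbt, polar_smul_right, polar_comm Q fa a, hafa, smul_eq_mul, mul_one] at h0
    exact hb0 (by rw [hbt, h0, zero_smul])
  obtain ⟨u, hu, hu0, hQu⟩ := QuadClassify.exists_singular Q
    (S ⊓ LinearMap.ker (polarBilin Q aS) ⊓ LinearMap.ker (polarBilin Q bS) ⊓
      LinearMap.ker (polarBilin Q w₀)) (by
      have h1 := QuadClassify.finrank_ker_inf S (polarBilin Q aS)
      have h2 := QuadClassify.finrank_ker_inf (S ⊓ LinearMap.ker (polarBilin Q aS)) (polarBilin Q bS)
      have h3 := QuadClassify.finrank_ker_inf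
        (S ⊓ LinearMap.ker (polarBilin Q aS) ⊓ LinearMap.ker (polarBilin Q bS)) (polarBilin Q w₀)
      omega)
  have huS : u ∈ S := hu.1.1.1
  have huw₀ : polar Q u w₀ = 0 := (polar_comm _ u w₀).trans hu.2
  set k := siegel Q a b hQa hab with hkdef
  have hku : k.1 u = u := by
    have h1 : polar Q aS u = 0 := hu.1.1.2
    have h2 : polar Q bS u = 0 := hu.1.2
    rw [hkdef, siegel_apply, haeq, hbeq, polar_add_left, polar_add_left, h1, h2,
      hperp' u huS a' ha', hperp' u huS b' hb']
    simp
  -- a Siegel element with mixed vector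
  obtain ⟨y, hyS', hy0, hyM⟩ : ∃ y ∈ S', y ≠ 0 ∧ ∀ (hy : polar Q u y = 0),
      siegel Q u y hQu hy ∈ M := by
    refine ⟨polar Q aS w₀ • b' - polar Q bS w₀ • a',
      S'.sub_mem (S'.smul_mem _ hb') (S'.smul_mem _ ha'), hΦ, fun hy => ?_⟩
    set y := polar Q aS w₀ • b' - polar Q bS w₀ • a' with hydef
    set s := w₀ + polar Q aS w₀ • bS - polar Q bS w₀ • aS with hsdef
    have hsS : s ∈ S := S.sub_mem (S.add_mem hw₀ (S.smul_mem _ hbSm)) (S.smul_mem _ haSm)
    have hkw : k.1 w₀ = s + y := by
      rw [hkdef, siegel_apply, hQb, zero_mul, add_zero, haeq, hbeq, polar_add_left, polar_add_left,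
        hperp' w₀ hw₀ a' ha', hperp' w₀ hw₀ b' hb', add_zero, add_zero, hsdef, hydef,
        smul_add, smul_add]
      abel
    have hkuw : polar Q u (s + y) = 0 := by
      rw [← hkw]
      conv_lhs => rw [← hku]
      rw [polar_orth k, huw₀]
    have hs : polar Q u s = 0 := by rw [polar_add_right, hy, add_zero] at hkuw; exact hkuw
    have h1 : siegel Q u (s + y) hQu hkuw ∈ M := by
      have hc := conj_siegel k u w₀ hQu huw₀
      simp only [hku, hkw] at hc
      rw [← hc]
      exact M.mul_mem (M.mul_mem hkM (hinner _ _ _ _ huS hw₀)) (M.inv_mem hkM)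
    rw [← siegel_mul hQu hs hy] at h1
    rwa [Subgroup.mul_mem_cancel_left _ (hinner _ _ _ _ huS hsS)] at h1
  -- the hyperbolic quadruple
  obtain ⟨f, hfS, hQf, huf⟩ := exists_partner Q hS huS hu0 hQu
  obtain ⟨hS₂, hdimS⟩ := pair_complement Q hS huS hfS hQu hQf huf
  set S₂ := S ⊓ LinearMap.ker (polarBilin Q u) ⊓ LinearMap.ker (polarBilin Q f)
  obtain ⟨e₂, he₂, he₂0, hQe₂⟩ := QuadClassify.exists_singular Q S₂ (by omega)
  obtain ⟨f₂, hf₂, hQf₂, hef₂⟩ := exists_partner Q hS₂ he₂ he₂0 hQe₂
  obtain ⟨htor, sw, hsw, hswu, hswS, -⟩ := exists_torus_swap hnd hn huS hfS he₂.1.1 hf₂.1.1 hQu hQf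
    huf hQe₂ hQf₂ hef₂ he₂.1.2 hf₂.1.2 he₂.2 hf₂.2
  -- the additive group of admissible vectors
  let A : Submodule F V :=
    { carrier := {z | z ∈ S' ∧ ∀ hz : polar Q u z = 0, siegel Q u z hQu hz ∈ M}
      zero_mem' := ⟨S'.zero_mem, fun hz => by
        rw [siegel_eq_one hQu hz (a := 0) (zero_smul F u).symm]; exact M.one_mem⟩
      add_mem' := fun {p r} hp hr => ⟨S'.add_mem hp.1 hr.1, fun hz => by
        rw [← siegel_mul hQu (hperp u huS p hp.1) (hperp u huS r hr.1)]
        exact M.mul_mem (hp.2 _) (hr.2 _)⟩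
      smul_mem' := fun c z hz => ⟨S'.smul_mem c hz.1, fun hcz => by
        by_cases hc : c = 0
        · rw [siegel_eq_one hQu hcz (a := 0) (by rw [hc, zero_smul, zero_smul])]; exact M.one_mem
        obtain ⟨t, ht, htu, htS, htfix⟩ := htor c hc
        have h := conj_siegel t u z hQu (hperp u huS z hz.1)
        simp only [htu, htfix z (fun s hs => hperp s hs z hz.1)] at h
        have hmem : siegel Q (c • u) z (by rw [QuadraticMap.map_smul, hQu, smul_zero])
            (by rw [polar_smul_left, hperp u huS z hz.1, smul_zero]) ∈ M := by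
          rw [← h]
          exact M.mul_mem (M.mul_mem (hstab t ht htS) (hz.2 _)) (M.inv_mem (hstab t ht htS))
        rwa [siegel_scale _ _ hQu hcz] at hmem⟩ }
  have hAinv : ∀ h : orth Q, h ∈ M → h.1 u = u → (∀ x ∈ S', h.1 x ∈ S') →
      ∀ z ∈ A, h.1 z ∈ A := by
    intro h hh hhu hhS' z hz
    refine ⟨hhS' z hz.1, fun hz' => ?_⟩
    have hc := conj_siegel h u z hQu (hperp u huS z hz.1)
    simp only [hhu] at hc
    rw [← hc]
    exact M.mul_mem (M.mul_mem hh (hz.2 _)) (M.inv_mem hh)
  have hA : A = S' := by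
    refine eq_of_invariant (Q := Q) hS'nd (fun z hz => hz.1) (y := y) ⟨hyS', hyM⟩ hy0 ?_ ?_ hex
    · intro a₁ ha₁ x hx hQa₁ hax z hz
      refine hAinv _ (hstab _ (hSie _ _ _ _) fun s hs => ?_) ?_ (fun s hs => ?_) z hz
      · rw [siegel_apply, hperp' s hs a₁ ha₁, hperp' s hs x hx]
        simpa using hs
      · rw [siegel_apply, hperp' u huS a₁ ha₁, hperp' u huS x hx]
        simp
      · rw [siegel_apply]
        exact S'.sub_mem (S'.add_mem hs (S'.smul_mem _ hx)) (S'.smul_mem _ ha₁)
    · intro v hv hQv z hz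
      obtain ⟨z₂, hz₂, hQz₂⟩ := nondeg_represents hS₂ (by omega) (Q v)
      have hz₂0 : Q z₂ ≠ 0 := hQz₂ ▸ hQv
      have hns : NS Q [v, z₂] := by simp [NS, hQv, hz₂0]
      have hk : rprod Q [v, z₂] ∈ commutator (orth Q) :=
        (rprod_mem_iff hnd (Or.inr (by omega)) hns).2 ⟨even_two, Q v, by simp [hQz₂]⟩
      have hap : ∀ x, (rprod Q [v, z₂]).1 x = (refl Q v hQv).1 ((refl Q z₂ hz₂0).1 x) := fun x => by
        rw [rprod_cons hQv, rprod_singleton hz₂0, orth_mul_apply]
      have hfixS' : ∀ x ∈ S', (refl Q z₂ hz₂0).1 x = x := fun x hx => by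
        rw [refl_apply, hperp z₂ hz₂.1.1 x hx]; simp
      have hinS : ∀ x ∈ S, (rprod Q [v, z₂]).1 x ∈ S := fun x hx => by
        have h1 : (refl Q z₂ hz₂0).1 x ∈ S := by
          rw [refl_apply]; exact S.sub_mem hx (S.smul_mem _ hz₂.1.1)
        rw [hap, refl_apply Q v, hperp' _ h1 v hv]
        simpa using h1
      have := hAinv _ (hstab _ hk hinS) (by
          have h2 : polar Q z₂ u = 0 := (polar_comm _ z₂ u).trans hz₂.1.2
          rw [hap, refl_apply Q z₂, h2]
          simp [refl_apply, hperp' u huS v hv]) (fun x hx => by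
          rw [hap, hfixS' x hx, refl_apply]
          exact S'.sub_mem hx (S'.smul_mem _ hv)) z hz
      rwa [hap, hfixS' z hz.1] at this
  have hfull : Full M u := by
    intro w hu' hw
    obtain ⟨s, hs, t, ht, rfl⟩ := hdec w
    have hut : polar Q u t = 0 := hperp u huS t ht
    have hus : polar Q u s = 0 := by rw [polar_add_right, hut, add_zero] at hw; exact hw
    rw [← siegel_mul hu' hus hut]
    exact M.mul_mem (hinner _ _ _ _ huS hs) ((hA.ge ht).2 hut)
  exact commutator_le_of_full hnd hn hQu hQf (by rw [huf]; exact one_ne_zero) hfull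
    (hswu ▸ hfull.of_mem (hstab sw hsw hswS))

/-- Some element of the commutator subgroup moves a non-degenerate subspace. -/
theorem exists_move [Fintype F] (hnd : (polarBilin Q).Nondegenerate) {S : Submodule F V}
    (hS : Nondeg Q S) (hS6 : 6 ≤ finrank F S) (hlt : finrank F S < finrank F V) :
    ∃ k ∈ commutator (orth Q), S.map (k.1 : V →ₗ[F] V) ≠ S := by
  obtain ⟨u, hu, hu0, hQu⟩ := QuadClassify.exists_singular Q S (by omega)
  obtain ⟨f, hf, hQf, huf⟩ := exists_partner Q hS hu hu0 hQu
  obtain ⟨y, hy, hy0⟩ := Submodule.exists_mem_ne_zero_of_ne_bot (p := perp Q S) (fun hb => by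
    have h1 := finrank_orth hnd S
    rw [← perp, hb, finrank_bot] at h1
    omega)
  have hn : 5 ≤ finrank F V := by omega
  have huy : polar Q u y = 0 := hy u hu
  refine ⟨_, sGroup_le_commutator hnd hn (siegel_mem hnd hn hQu huy), fun h => ?_⟩
  have hmem : (siegel Q u y hQu huy).1 f ∈ S := h ▸ Submodule.mem_map_of_mem hf
  rw [siegel_apply, huf, one_smul, show polar Q y f = 0 from (polar_comm _ y f).trans (hy f hf),
    add_sub_assoc] at hmem
  have hyS : y ∈ S := by
    have := S.add_mem (S.sub_mem hmem hf) (S.smul_mem (0 + Q y * 1) hu)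
    rwa [add_sub_cancel_left, sub_add_cancel] at this
  exact hy0 (hS y hyS fun w hw => (polar_comm _ y w).trans (hy w hw))

end Cfsg.Agent.OmegaStabNondeg
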