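import Mathlib
import Cfsg.Agent.Lib.OmegaMaxGlue
import Cfsg.Agent.Lib.OmegaStabNondeg

/-!
Maximality of stabilisers of non-degenerate subspaces inside `Geo.omegaGL`.
-/

set_option autoImplicit false

namespace Cfsg.Agent.OmegaStabNondegGlue

open QuadraticMap Module
open Cfsg.Agent.OrthUnitaryQuad Cfsg.Agent.OrthUnitaryPrelude Cfsg.Agent.OmegaClasses
  Cfsg.Agent.OmegaGeo Cfsg.Agent.OmegaMaxGlue Cfsg.Agent.OmegaStabNondeg
open Cfsg.Agent.QuadClassify (Nondeg Aniso exists_decomp_aux exists_plane_normal plane_adjust)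

section Types

variable {F V : Type*} [Field F] [Finite F] [AddCommGroup V] [Module F V] [FiniteDimensional F V]
  {Q : QuadraticForm F V}

/-- An orthogonal sum of two isometric non-degenerate subspaces of even dimension is hyperbolic. -/
theorem exists_lagr_of_isometric (hnd : (polarBilin Q).Nondegenerate) {S : Submodule F V}
    (hS : Nondeg Q S) {m : ℕ} (hm : finrank F S = 2 * m) (hV : finrank F V = 4 * m) (g : orth Q)
    (hg : ∀ x ∈ S, g.1 x ∈ perp Q S) : ∃ U, Lagr Q U := by
  classical
  obtain ⟨k, e, f, W, ⟨hH, hWS, heS, -, horth, hd, han, hnW⟩, hW2⟩ := exists_decomp_aux Q _ S hS rfl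
  have hpp : ∀ {x y : V}, x ∈ S → y ∈ S → polar Q x (g.1 y) = 0 := fun {x y} hx hy => hg y hy x hx
  have hpp' : ∀ {x y : V}, x ∈ S → y ∈ S → polar Q (g.1 x) y = 0 := fun {x y} hx hy =>
    (polar_comm _ _ y).trans (hg x hx y hy)
  obtain ⟨l, xw, yw, hw⟩ : ∃ (l : ℕ) (xw : Fin l → V) (yw : Fin l → V),
      l = finrank F W ∧ (∀ i, xw i ∈ W) ∧ (∀ i, yw i ∈ W) ∧ LinearIndependent F xw ∧
        ∀ i j, polar Q (xw i) (xw j) + polar Q (yw i) (yw j) = 0 ∧ Q (xw i) + Q (yw i) = 0 := by
    rcases (show finrank F W = 0 ∨ finrank F W = 2 by omega) with h | h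
    · exact ⟨0, Fin.elim0, Fin.elim0, h.symm, fun i => i.elim0, fun i => i.elim0,
        linearIndependent_empty_type, fun i => i.elim0⟩
    · obtain ⟨x, hx, y, hy, hli, hQx, hxy, hy0⟩ := exists_plane_normal Q han hnW h
      obtain ⟨x', hx', y', hy', hli', hQx', hxy', hy0'⟩ := exists_plane_normal (-Q) (W := W)
        (fun u hu hu0 => han u hu (by simpa using hu0))
        (fun u hu hu0 => hnW u hu fun v hv => by
          have := hu0 v hv
          simp only [polar, QuadraticMap.neg_apply] at this ⊢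
          linear_combination -this) h
      obtain ⟨z, hz, -, hxz, hQz⟩ := plane_adjust (-Q) hQx' hxy' hli' hy0' hy0
      have hzW : z ∈ W := Submodule.span_le.2 (by simp [Set.insert_subset_iff, hx', hy']) hz
      simp only [QuadraticMap.neg_apply] at hQx' hQz
      have hxz' : polar Q x' z = -1 := by
        simp only [polar, QuadraticMap.neg_apply] at hxz ⊢
        linear_combination -hxz
      refine ⟨2, ![x, y], ![x', z], h.symm, by simp [Fin.forall_fin_two, hx, hy],
        by simp [Fin.forall_fin_two, hx', hzW], hli, ?_⟩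
      have e1 : Q x' = -1 := by linear_combination -hQx'
      have e2 : Q z = -Q y := by linear_combination -hQz
      intro i j
      fin_cases i <;> fin_cases j <;>
        simp [polar_self_mul, hQx, e1, e2, hxy, hxz', polar_comm Q y x, polar_comm Q z x']
  obtain ⟨hl, hxwW, hywW, hxli, hww⟩ := hw
  -- the generators
  let G : (Fin k ⊕ Fin k) ⊕ Fin l → V := Sum.elim (Sum.elim e (fun i => g.1 (e i)))
    (fun i => xw i + g.1 (yw i))
  have hgen : ∀ i j, Q (G i) = 0 ∧ polar Q (G i) (G j) = 0 := by
    intro i j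
    constructor
    · rcases i with (i | i) | i
      · exact hH.qe i
      · exact (map_orth g _).trans (hH.qe i)
      · show Q (xw i + g.1 (yw i)) = 0
        rw [QuadraticMap.map_add (⇑Q), map_orth g, hpp (hWS (hxwW i)) (hWS (hywW i)), add_zero]
        exact (hww i i).2
    · rcases i with (i | i) | i <;> rcases j with (j | j) | j <;>
        simp only [G, Sum.elim_inl, Sum.elim_inr, polar_add_left, polar_add_right, polar_orth g,
          hH.pee, hpp (heS _) (heS _), hpp' (heS _) (heS _), hpp (heS _) (hWS (hywW _)),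
          hpp' (hWS (hywW _)) (heS _), hpp' (heS _) (hWS (hxwW _)), hpp (hWS (hxwW _)) (heS _),
          hpp (hWS (hxwW _)) (hWS (hywW _)), hpp' (hWS (hywW _)) (hWS (hxwW _)),
          (horth _ _ (hxwW _)).1, (horth _ _ (hywW _)).1,
          polar_comm Q (xw _) (e _), polar_comm Q (yw _) (e _), add_zero, zero_add]
      exact (hww i j).1
  set U := Submodule.span F (Set.range G)
  have hsing : ∀ u ∈ U, Q u = 0 := by
    intro u hu
    obtain ⟨c, rfl⟩ := (Submodule.mem_span_range_iff_exists_fun F).1 hu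
    rw [QuadClassify.map_sum_ortho]
    · exact Finset.sum_eq_zero fun i _ => by rw [QuadraticMap.map_smul, (hgen i i).1, smul_zero]
    · intro i _ j _ _
      rw [polar_smul_left, polar_smul_right, (hgen i j).2]
      simp
  have hli : LinearIndependent F G := by
    rw [Fintype.linearIndependent_iff]
    intro c hc
    rw [Fintype.sum_sum_type, Fintype.sum_sum_type] at hc
    simp only [G, Sum.elim_inl, Sum.elim_inr, smul_add, Finset.sum_add_distrib] at hc
    set A := ∑ i, c (.inl (.inl i)) • e i + ∑ i, c (.inr i) • xw i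
    set B := ∑ i, c (.inl (.inr i)) • e i + ∑ i, c (.inr i) • yw i
    have hAS : A ∈ S := S.add_mem (S.sum_mem fun i _ => S.smul_mem _ (heS i))
      (S.sum_mem fun i _ => S.smul_mem _ (hWS (hxwW i)))
    have hBS : B ∈ S := S.add_mem (S.sum_mem fun i _ => S.smul_mem _ (heS i))
      (S.sum_mem fun i _ => S.smul_mem _ (hWS (hywW i)))
    have hAB : A + g.1 B = 0 := by
      rw [← hc]
      simp only [A, B, map_add, map_sum, map_smul]
      abel
    have hA0 : A = 0 := hS A hAS fun v hv => by
      rw [eq_neg_of_add_eq_zero_left hAB, polar_neg_left, hpp' hBS hv, neg_zero]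
    have hB0 : B = 0 := by
      rw [hA0, zero_add] at hAB
      exact g.1.map_eq_zero_iff.1 hAB
    have hlf : ∀ j, c (.inl (.inl j)) = 0 ∧ c (.inl (.inr j)) = 0 := by
      intro j
      have h1 := congrArg (polarBilin Q (f j)) hA0
      have h2 := congrArg (polarBilin Q (f j)) hB0
      simp only [A, B, map_add, map_sum, map_smul, map_zero, polarBilin_apply_apply,
        polar_comm Q (f j) (e _), hH.pef, (horth j _ (hxwW _)).2, (horth j _ (hywW _)).2] at h1 h2
      exact ⟨by simpa using h1, by simpa using h2⟩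
    have hr : ∀ i, c (.inr i) = 0 := by
      refine Fintype.linearIndependent_iff.1 hxli _ ?_
      have : A = ∑ i, c (.inr i) • xw i := by simp [A, hlf]
      rw [← this, hA0]
    rintro ((j | j) | j)
    · exact (hlf j).1
    · exact (hlf j).2
    · exact hr j
  refine ⟨U, hsing, ?_⟩
  rw [finrank_span_eq_card hli, Fintype.card_sum, Fintype.card_sum, Fintype.card_fin,
    Fintype.card_fin, hV]
  omega

end Types

variable {F : Type*} [Field F] [Fintype F] {ι : Type} [Fintype ι] [DecidableEq ι]
  {q : QuadraticForm F (ι → F)}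

/-- The stabiliser of a non-degenerate subspace inside `omegaGL` is maximal. -/
theorem isMaximalIn (hnd : (polarBilin q).Nondegenerate) {W : Submodule F (ι → F)}
    (hW : Cfsg.Geo.IsNondegenerateOn (polar q) W) (hW0 : W ≠ ⊥) (hW1 : W ≠ ⊤)
    (hn : 12 ≤ finrank F (ι → F))
    (hhalf : 2 * finrank F W = finrank F (ι → F) →
      ∀ g : orth q, (∀ x ∈ W, g.1 x ∈ perp q W) → False)
    (hex : ¬ (Fintype.card F ≤ 3 ∧ ∃ U : Submodule F (ι → F), finrank F U = 2 ∧
      Cfsg.Geo.IsNondegenerateOn (polar q) U ∧ Cfsg.Geo.IsPlusTypeOn (⇑q) U ∧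
        (U = W ∨ (Cfsg.Geo.AreOrthogonalFor (polar q) U W ∧
          finrank F U + finrank F W = finrank F (ι → F))))) :
    Cfsg.Geo.IsMaximalIn (Cfsg.Geo.omegaGL ⇑q)
      (Cfsg.Geo.subspaceStabilizer W ⊓ Cfsg.Geo.omegaGL ⇑q) := by
  have hWn : Nondeg q W := fun u hu h => by
    by_contra h0
    obtain ⟨x, hx, hne⟩ := (hW u hu h0).2
    exact hne (h x hx)
  have hdim : finrank F (perp q W) + finrank F W = finrank F (ι → F) := by
    rw [OmegaStabSingular.finrank_orth hnd, Nat.sub_add_cancel (Submodule.finrank_le W)]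
  have hperpnd : Nondeg q (perp q W) := by
    intro x hx h
    refine hnd.1 x fun z => ?_
    have hdisj : W ⊓ perp q W = ⊥ := by
      rw [Submodule.eq_bot_iff]
      intro v hv
      exact hWn v hv.1 fun w hw => (polar_comm _ v w).trans (hv.2 w hw)
    have htop : W ⊔ perp q W = ⊤ := by
      refine Submodule.eq_top_of_finrank_eq ?_
      have h := Submodule.finrank_sup_add_finrank_inf_eq W (perp q W)
      rw [hdisj, finrank_bot] at h
      omega
    obtain ⟨s, hs, t, ht, rfl⟩ := Submodule.mem_sup.1 (show z ∈ W ⊔ perp q W by rw [htop]; trivial)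
    show polar q x (s + t) = 0
    rw [polar_add_right, h t ht, (polar_comm _ x s).trans (hx s hs), add_zero]
  have hoo : perp q (perp q W) = W := OmegaStabSingular.orth_orth hnd W
  have hbij : ∀ k : orth q, W.map (k.1 : (ι → F) →ₗ[F] (ι → F)) = W →
      (perp q W).map (k.1 : (ι → F) →ₗ[F] (ι → F)) = perp q W := by
    intro k hk
    refine OmegaStabSingular.map_eq_of_forall fun x hx => ?_
    intro w hw
    rw [← hk] at hw
    obtain ⟨w', hw', rfl⟩ := hw
    show polar q (k.1 w') (k.1 x) = 0
    rw [polar_orth k]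
    exact hx w' hw'
  have hbij' : ∀ k : orth q, (perp q W).map (k.1 : (ι → F) →ₗ[F] (ι → F)) = perp q W →
      W.map (k.1 : (ι → F) →ₗ[F] (ι → F)) = W := by
    intro k hk
    refine OmegaStabSingular.map_eq_of_forall fun x hx => ?_
    rw [← hoo]
    intro w hw
    rw [← hk] at hw
    obtain ⟨w', hw', rfl⟩ := hw
    show polar q (k.1 w') (k.1 x) = 0
    rw [polar_orth k, polar_comm]
    exact hw' x hx
  have hplane : ∀ U : Submodule F (ι → F), Nondeg q U → finrank F U = 2 →
      (∃ e ∈ U, e ≠ 0 ∧ q e = 0) → Cfsg.Geo.IsNondegenerateOn (polar q) U ∧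
        Cfsg.Geo.IsPlusTypeOn (⇑q) U := by
    intro U hU h2 ⟨e, he, he0, hQe⟩
    refine ⟨fun u hu hu0 => ?_, Submodule.span F {e}, (Submodule.span_singleton_le_iff_mem _ _).2 he,
      ?_, by rw [finrank_span_singleton he0, h2]⟩
    · obtain ⟨x, hx, hux⟩ : ∃ x ∈ U, polar q u x ≠ 0 := by
        by_contra h
        push Not at h
        exact hu0 (hU u hu h)
      exact ⟨⟨x, hx, by rwa [polar_comm]⟩, x, hx, hux⟩
    · intro w hw
      obtain ⟨c, rfl⟩ := Submodule.mem_span_singleton.1 hw
      rw [QuadraticMap.map_smul, hQe, smul_zero]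
  have hpos : 0 < finrank F W := Nat.pos_of_ne_zero fun h => hW0 (Submodule.finrank_eq_zero.1 h)
  have hlt : finrank F W < finrank F (ι → F) := Submodule.finrank_lt hW1
  rcases Nat.lt_or_ge (finrank F W) (finrank F (perp q W)) with hsize | hsize
  · -- work with the orthogonal space
    refine isMaximalIn_stabilizer ?_ fun M hM g hg _ hgW => ?_
    · obtain ⟨k, hk, hne⟩ := OmegaStabNondeg.exists_move hnd hperpnd (by omega) (by omega)
      exact ⟨k, hk, fun h => hne (hbij k h)⟩
    · refine OmegaStabNondeg.commutator_le hnd hperpnd (by omega) (by rw [hoo]; omega) ?_ M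
        (fun k hk h => hM k hk (hbij' k h)) hg (fun h => hgW (hbij' g h)) (fun h => ?_)
      · rintro ⟨hq, h2, he⟩
        rw [hoo] at h2 he
        obtain ⟨a, b⟩ := hplane W hWn h2 he
        exact hex ⟨hq, W, h2, a, b, Or.inl rfl⟩
      · have h' := congrArg (fun X : Submodule F (ι → F) => finrank F X) h
        rw [LinearEquiv.finrank_map_eq, hoo] at h'
        omega
  · refine isMaximalIn_stabilizer (OmegaStabNondeg.exists_move hnd hWn (by omega) hlt)
      fun M hM g hg _ hgW => OmegaStabNondeg.commutator_le hnd hWn (by omega) hsize ?_ M hM hg hgW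
        (fun h => ?_)
    · rintro ⟨hq, h2, he⟩
      obtain ⟨a, b⟩ := hplane _ hperpnd h2 he
      exact hex ⟨hq, perp q W, h2, a, b, Or.inr
        ⟨fun u hu w hw => (polar_comm _ u w).trans (hu w hw), hdim⟩⟩
    · have h' := congrArg (fun X : Submodule F (ι → F) => finrank F X) h
      rw [LinearEquiv.finrank_map_eq] at h'
      exact hhalf (by omega) g fun x hx => h ▸ Submodule.mem_map_of_mem hx

end Cfsg.Agent.OmegaStabNondegGlue
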