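import Mathlib
import Cfsg.Agent.Lib.OmegaStabNondegGlue

/-!
Over the field with three elements, decompositions into orthogonal isometric subspaces of dimension two or
three have a stabiliser in the derived orthogonal group which is not maximal: it preserves a finer frame.
-/

set_option autoImplicit false

namespace Cfsg.Agent.OmegaDecompThree

open QuadraticMap Module
open Cfsg.Agent.OrthUnitaryQuad Cfsg.Agent.OrthUnitaryRefl Cfsg.Agent.OrthUnitaryPrelude Cfsg.Agent.OmegaClasses Cfsg.Agent.OmegaGeo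
open scoped Matrix

variable {F : Type*} [Field F] [Fintype F]

theorem three_eq_zero (hF : Fintype.card F = 3) : (3 : F) = 0 := by
  have := Nat.cast_card_eq_zero F
  rw [hF] at this
  exact_mod_cast this

theorem two_ne (hF : Fintype.card F = 3) : (2 : F) ≠ 0 := fun h =>
  one_ne_zero (show (1 : F) = 0 by linear_combination three_eq_zero hF - h)

theorem sq_one (hF : Fintype.card F = 3) {a : F} (ha : a ≠ 0) : a * a = 1 := by
  have h := FiniteField.pow_card_sub_one_eq_one a ha
  rw [hF] at h
  linear_combination h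

theorem eq_or_neg (hF : Fintype.card F = 3) {a b : F} (ha : a ≠ 0) (hb : b ≠ 0) : a = b ∨ a = -b :=
  mul_self_eq_mul_self_iff.1 ((sq_one hF ha).trans (sq_one hF hb).symm)

variable {V : Type*} [AddCommGroup V] [Module F V] [FiniteDimensional F V] {Q : QuadraticForm F V}

/-- A non-degenerate subspace of dimension at least two represents every non-zero scalar. -/
theorem exists_value (hF : Fintype.card F = 3) {U : Submodule F V} (hU : QuadClassify.Nondeg Q U)
    (hd : 2 ≤ finrank F U) {α : F} (hα : α ≠ 0) : ∃ x ∈ U, Q x = α := by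
  by_cases hs : ∃ u ∈ U, u ≠ 0 ∧ Q u = 0
  · obtain ⟨u, hu, hu0, hQu⟩ := hs
    obtain ⟨f, hf, hQf, huf⟩ := QuadClassify.exists_partner Q hU hu hu0 hQu
    refine ⟨u + α • f, U.add_mem hu (U.smul_mem _ hf), ?_⟩
    rw [QuadraticMap.map_add Q, QuadraticMap.map_smul, polar_smul_right, hQu, hQf, huf]
    simp
  · push Not at hs
    obtain ⟨x, hx, hx0⟩ := Submodule.exists_mem_ne_zero_of_ne_bot (p := U)
      (fun h => by rw [h, finrank_bot] at hd; omega)
    obtain ⟨y, hy, hxy, hy0⟩ := QuadClassify.exists_mem_ker U (polarBilin Q x) (by omega)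
    rcases eq_or_neg hF (hs x hx hx0) hα with h | h
    · exact ⟨x, hx, h⟩
    rcases eq_or_neg hF (hs y hy hy0) hα with h' | h'
    · exact ⟨y, hy, h'⟩
    refine ⟨x + y, U.add_mem hx hy, ?_⟩
    rw [QuadraticMap.map_add Q, show polar Q x y = 0 from hxy, h, h']
    linear_combination (-α) * three_eq_zero hF

/-- A frame for the scalar ε in U: the vectors of value ε lie on pairwise orthogonal lines. -/
def Frame (Q : QuadraticForm F V) (U : Submodule F V) (ε : F) : Prop :=
  (∃ a ∈ U, Q a = ε) ∧ ∀ v ∈ U, ∀ w ∈ U, Q v = ε → Q w = ε → w = v ∨ w = -v ∨ polar Q v w = 0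

theorem frame_two (hF : Fintype.card F = 3) {U : Submodule F V} (hU : QuadClassify.Nondeg Q U)
    (hd : finrank F U = 2) {ε : F} (hε : ε ≠ 0) : Frame Q U ε := by
  refine ⟨exists_value hF hU hd.ge hε, fun v hv w hw hQv hQw => ?_⟩
  by_cases hp : polar Q v w = 0
  · exact Or.inr (Or.inr hp)
  have hv0 : v ≠ 0 := fun h => hε (by rw [← hQv, h, QuadraticMap.map_zero])
  by_cases hdep : w ∈ Submodule.span F {v}
  · obtain ⟨c, rfl⟩ := Submodule.mem_span_singleton.1 hdep
    rw [QuadraticMap.map_smul, hQv, smul_eq_mul] at hQw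
    have hc : c * c = 1 * 1 := mul_right_cancel₀ hε (by rw [hQw, one_mul, one_mul])
    rcases mul_self_eq_mul_self_iff.1 hc with rfl | rfl
    · exact Or.inl (one_smul F v)
    · exact Or.inr (Or.inl (neg_one_smul F v))
  exfalso
  set p := polar Q v w
  have hspan : Submodule.span F {v, w} = U := by
    have hle : Submodule.span F {v, w} ≤ U := Submodule.span_le.2 (by simp [Set.insert_subset_iff, hv, hw])
    have hlt : Submodule.span F {v} < Submodule.span F {v, w} :=
      lt_of_le_of_ne (Submodule.span_mono (by simp)) fun h => hdep (h ▸ Submodule.subset_span (by simp))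
    have := Submodule.finrank_lt_finrank_of_lt hlt
    rw [finrank_span_singleton hv0] at this
    exact Submodule.eq_of_le_of_finrank_le hle (by omega)
  have h1 : polar Q (w + (ε * p) • v) v = 0 := by
    rw [polar_add_left, polar_smul_left, polar_comm Q w v, polar_self, hQv, smul_eq_mul, nsmul_eq_mul,
      Nat.cast_ofNat]
    linear_combination (2 * p) * sq_one hF hε + p * three_eq_zero hF
  have h2 : polar Q (w + (ε * p) • v) w = 0 := by
    rw [polar_add_left, polar_smul_left, polar_self, hQw, smul_eq_mul, nsmul_eq_mul, Nat.cast_ofNat]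
    show 2 * ε + ε * p * p = 0
    linear_combination ε * sq_one hF hp + ε * three_eq_zero hF
  refine hdep ?_
  have hr := hU (w + (ε * p) • v) (U.add_mem hw (U.smul_mem _ hv)) fun z hz => by
    rw [← hspan] at hz
    obtain ⟨a, b, rfl⟩ := Submodule.mem_span_pair.1 hz
    rw [polar_add_right, polar_smul_right, polar_smul_right, h1, h2]
    simp
  exact Submodule.mem_span_singleton.2 ⟨-(ε * p), by rw [neg_smul, eq_comm, ← sub_eq_zero, sub_neg_eq_add]; exact hr⟩

theorem frame_three (hF : Fintype.card F = 3) {U : Submodule F V} (hU : QuadClassify.Nondeg Q U)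
    (hd : finrank F U = 3) : ∃ ε : F, ε ≠ 0 ∧ Frame Q U ε := by
  classical
  -- three orthogonal vectors of equal value
  obtain ⟨ε, a, b, c, hε, ha, hb, hc, hQa, hQb, hQc, hab, hac, hbc⟩ : ∃ (ε : F) (a b c : V), ε ≠ 0 ∧
      a ∈ U ∧ b ∈ U ∧ c ∈ U ∧ Q a = ε ∧ Q b = ε ∧ Q c = ε ∧ polar Q a b = 0 ∧ polar Q a c = 0 ∧
        polar Q b c = 0 := by
    obtain ⟨a, ha, hQa⟩ := exists_value hF hU (by omega) (α := 1) one_ne_zero
    set U' := U ⊓ LinearMap.ker (polarBilin Q a)
    have hd' : 2 ≤ finrank F U' := by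
      have := QuadClassify.finrank_ker_inf U (polarBilin Q a)
      change finrank F U ≤ finrank F U' + 1 at this
      omega
    have hU' : QuadClassify.Nondeg Q U' := fun u hu h => hU u hu.1 fun z hz => by
      have hau : polar Q a u = 0 := hu.2
      have hm : z - (polar Q a z / polar Q a a) • a ∈ U' := ⟨U.sub_mem hz (U.smul_mem _ ha), by
        show polar Q a _ = 0
        rw [polar_sub_right, polar_smul_right, smul_eq_mul, div_mul_cancel₀, sub_self]
        rw [polar_self, hQa, nsmul_eq_mul, mul_one, Nat.cast_ofNat]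
        exact two_ne hF⟩
      have := h _ hm
      rwa [polar_sub_right, polar_smul_right, polar_comm Q u a, hau, smul_zero, sub_zero] at this
    obtain ⟨b, hb, hQb⟩ := exists_value hF hU' hd' (α := 1) one_ne_zero
    have hab : polar Q a b = 0 := hb.2
    obtain ⟨c, hc, hbc, hc0⟩ := QuadClassify.exists_mem_ker U' (polarBilin Q b) (by omega)
    have hac : polar Q a c = 0 := hc.2
    have hbc' : polar Q b c = 0 := hbc
    have hQc0 : Q c ≠ 0 := fun h => hc0 (hU' c hc fun z hz => by
      by_contra hne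
      -- c would be orthogonal to a spanning pair
      have hlt : Submodule.span F {b} < Submodule.span F {b, c} :=
        lt_of_le_of_ne (Submodule.span_mono (by simp)) fun he => by
          have hcm : c ∈ Submodule.span F {b} := he ▸ Submodule.subset_span (by simp)
          obtain ⟨s, rfl⟩ := Submodule.mem_span_singleton.1 hcm
          rw [QuadraticMap.map_smul, hQb, smul_eq_mul, mul_one, mul_self_eq_zero] at h
          exact hc0 (by rw [h, zero_smul])
      have hb0 : b ≠ 0 := fun h0 => by rw [h0, QuadraticMap.map_zero] at hQb; exact zero_ne_one hQb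
      have h2 := Submodule.finrank_lt_finrank_of_lt hlt
      rw [finrank_span_singleton hb0] at h2
      have hle : Submodule.span F {b, c} ≤ U' := Submodule.span_le.2 (by simp [Set.insert_subset_iff, hb, hc])
      have hle3 : finrank F U' ≤ 2 := by
        have hlt' : U' < U := lt_of_le_of_ne inf_le_left fun he => by
          have : a ∈ U' := he ▸ ha
          have h3 : polar Q a a = 0 := this.2
          rw [polar_self, hQa, nsmul_eq_mul, mul_one, Nat.cast_ofNat] at h3
          exact two_ne hF h3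
        have := Submodule.finrank_lt_finrank_of_lt hlt'
        omega
      rw [← Submodule.eq_of_le_of_finrank_le hle (by omega)] at hz
      obtain ⟨s, r, rfl⟩ := Submodule.mem_span_pair.1 hz
      refine hne ?_
      rw [polar_add_right, polar_smul_right, polar_smul_right, polar_comm Q c b, hbc', polar_self, h]
      simp)
    rcases eq_or_neg hF hQc0 one_ne_zero with h | h
    · exact ⟨1, a, b, c, one_ne_zero, ha, hb.1, hc.1, hQa, hQb, h, hab, hac, hbc'⟩
    · refine ⟨-1, a + b, a - b, c, neg_ne_zero.2 one_ne_zero, U.add_mem ha hb.1, U.sub_mem ha hb.1, hc.1,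
        ?_, ?_, h, ?_, ?_, ?_⟩
      · rw [QuadraticMap.map_add Q, hab, hQa, hQb]; linear_combination three_eq_zero hF
      · rw [sub_eq_add_neg, QuadraticMap.map_add Q, QuadraticMap.map_neg, polar_neg_right, hab, hQa, hQb]
        linear_combination three_eq_zero hF
      · rw [polar_add_left, polar_sub_right, polar_sub_right, polar_self, polar_self, polar_comm Q b a, hab,
          hQa, hQb]
        simp
      · rw [polar_add_left, hac, hbc', add_zero]
      · rw [polar_sub_left, hac, hbc', sub_zero]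
  refine ⟨ε, hε, ⟨a, ha, hQa⟩, fun v hv w hw hQv hQw => ?_⟩
  have hεε : ∀ u, Q u = ε → polar Q u u = 2 * ε := fun u hu => by
    rw [polar_self, hu, nsmul_eq_mul, Nat.cast_ofNat]
  have h2ε : (2 : F) * ε ≠ 0 := mul_ne_zero (two_ne hF) hε
  have hpol : ∀ x y z x' y' z' : F, polar Q (x • a + y • b + z • c) (x' • a + y' • b + z' • c) =
      2 * ε * (x * x' + y * y' + z * z') := fun x y z x' y' z' => by
    simp only [polar_add_left, polar_add_right, polar_smul_left, polar_smul_right, hεε a hQa, hεε b hQb,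
      hεε c hQc, hab, hac, hbc, polar_comm Q b a, polar_comm Q c a, polar_comm Q c b, smul_eq_mul]
    ring
  have hval : ∀ x y z : F, Q (x • a + y • b + z • c) = ε * (x * x + y * y + z * z) := fun x y z => by
    simp only [QuadraticMap.map_add Q, QuadraticMap.map_smul, polar_add_left, polar_smul_left, polar_smul_right,
      hab, hac, hbc, hQa, hQb, hQc, smul_eq_mul]
    ring
  have hli : LinearIndependent F ![a, b, c] := by
    rw [Fintype.linearIndependent_iff]
    intro g hg
    simp only [Fin.sum_univ_three, Matrix.cons_val_zero, Matrix.cons_val_one, Matrix.cons_val_two,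
      Matrix.tail_cons, Matrix.head_cons] at hg
    intro i
    fin_cases i
    · have := hpol (g 0) (g 1) (g 2) 1 0 0
      rw [hg, polar_zero_left] at this
      simpa [h2ε] using this.symm
    · have := hpol (g 0) (g 1) (g 2) 0 1 0
      rw [hg, polar_zero_left] at this
      simpa [h2ε] using this.symm
    · have := hpol (g 0) (g 1) (g 2) 0 0 1
      rw [hg, polar_zero_left] at this
      simpa [h2ε] using this.symm
  have hspan : Submodule.span F (Set.range ![a, b, c]) = U := by
    refine Submodule.eq_of_le_of_finrank_eq (Submodule.span_le.2 ?_) ?_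
    · rintro _ ⟨i, rfl⟩
      fin_cases i <;> assumption
    · rw [finrank_span_eq_card hli, hd, Fintype.card_fin]
  have hco : ∀ u ∈ U, ∃ x y z : F, u = x • a + y • b + z • c := fun u hu => by
    rw [← hspan, Submodule.mem_span_range_iff_exists_fun] at hu
    obtain ⟨g, rfl⟩ := hu
    exact ⟨g 0, g 1, g 2, by simp [Fin.sum_univ_three]⟩
  obtain ⟨x, y, z, rfl⟩ := hco v hv
  obtain ⟨x', y', z', rfl⟩ := hco w hw
  have hone : ∀ x y z : F, x * x + y * y + z * z = 1 → x ≠ 0 → y = 0 ∧ z = 0 := by
    intro x y z h hx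
    rw [sq_one hF hx] at h
    refine ⟨?_, ?_⟩ <;> by_contra hne
    · rw [sq_one hF hne] at h
      rcases eq_or_ne z 0 with hz | hz
      · exact one_ne_zero (show (1 : F) = 0 by rw [hz] at h; linear_combination h)
      · rw [sq_one hF hz] at h
        exact two_ne hF (by linear_combination h)
    · rw [sq_one hF hne] at h
      rcases eq_or_ne y 0 with hy | hy
      · exact one_ne_zero (show (1 : F) = 0 by rw [hy] at h; linear_combination h)
      · rw [sq_one hF hy] at h
        exact two_ne hF (by linear_combination h)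
  rw [hval] at hQv hQw
  have ev : x * x + y * y + z * z = 1 := mul_left_cancel₀ hε (by rw [hQv, mul_one])
  have ew : x' * x' + y' * y' + z' * z' = 1 := mul_left_cancel₀ hε (by rw [hQw, mul_one])
  rw [hpol]
  by_cases hp : x * x' + y * y' + z * z' = 0
  · exact Or.inr (Or.inr (by rw [hp, mul_zero]))
  have key : (x' = x ∧ y' = y ∧ z' = z) ∨ (x' = -x ∧ y' = -y ∧ z' = -z) := by
    by_cases hx : x * x' = 0
    · by_cases hy : y * y' = 0
      · have hz : z * z' ≠ 0 := fun hz => hp (by rw [hx, hy, hz, add_zero, add_zero])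
        obtain ⟨h1, h2⟩ := hone z x y (by linear_combination ev) (left_ne_zero_of_mul hz)
        obtain ⟨h3, h4⟩ := hone z' x' y' (by linear_combination ew) (right_ne_zero_of_mul hz)
        rcases eq_or_neg hF (right_ne_zero_of_mul hz) (left_ne_zero_of_mul hz) with h | h
        · exact Or.inl ⟨h3.trans h1.symm, h4.trans h2.symm, h⟩
        · exact Or.inr ⟨by rw [h3, h1, neg_zero], by rw [h4, h2, neg_zero], h⟩
      · obtain ⟨h1, h2⟩ := hone y x z (by linear_combination ev) (left_ne_zero_of_mul hy)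
        obtain ⟨h3, h4⟩ := hone y' x' z' (by linear_combination ew) (right_ne_zero_of_mul hy)
        rcases eq_or_neg hF (right_ne_zero_of_mul hy) (left_ne_zero_of_mul hy) with h | h
        · exact Or.inl ⟨h3.trans h1.symm, h, h4.trans h2.symm⟩
        · exact Or.inr ⟨by rw [h3, h1, neg_zero], h, by rw [h4, h2, neg_zero]⟩
    · obtain ⟨h1, h2⟩ := hone x y z ev (left_ne_zero_of_mul hx)
      obtain ⟨h3, h4⟩ := hone x' y' z' ew (right_ne_zero_of_mul hx)
      rcases eq_or_neg hF (right_ne_zero_of_mul hx) (left_ne_zero_of_mul hx) with h | h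
      · exact Or.inl ⟨h, h3.trans h1.symm, h4.trans h2.symm⟩
      · exact Or.inr ⟨h, by rw [h3, h1, neg_zero], by rw [h4, h2, neg_zero]⟩
  rcases key with ⟨rfl, rfl, rfl⟩ | ⟨rfl, rfl, rfl⟩
  · exact Or.inl rfl
  · exact Or.inr (Or.inl (by module))

variable {ι : Type} [Fintype ι] [DecidableEq ι]

/-- A frame in every member gives an intermediate subgroup. -/
theorem not_maximal_of_frame {q : QuadraticForm F (ι → F)} (hnd : (polarBilin q).Nondegenerate)
    (h2 : (2 : F) ≠ 0) {t : ℕ} (ht : 4 ≤ t) {m : ℕ} (hm : 2 ≤ m) (hd5 : 5 ≤ finrank F (ι → F))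
    (D : Fin t → Submodule F (ι → F)) (hD : Cfsg.Geo.IsOrthogonalMDecomposition ⇑q m D) {ε : F} (hε : ε ≠ 0)
    (hframe : ∀ i, Frame q (D i) ε) (hval : ∀ i, ∃ c ∈ D i, q c = 2 * ε) {β γ : F} (hβ : β ≠ 0)
    (hsum : 1 + β * β + γ * γ = 0) :
    ∃ K : Subgroup (GL ι F), Cfsg.Geo.decompositionStabilizer D ⊓ Cfsg.Geo.omegaGL ⇑q < K ∧
      K < Cfsg.Geo.omegaGL ⇑q := by
  classical
  have hdec := hD.decomp.decomp
  have horth : ∀ {i j}, i ≠ j → ∀ {v w}, v ∈ D i → w ∈ D j → polar q v w = 0 := by
    intro i j hij v w hv hw; exact hD.decomp.orthogonal i j hij v hv w hw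
  set S : Set (ι → F) := {v | q v = ε ∧ ∃ k, v ∈ D k} with hS
  set K := Cfsg.stabilizing (Cfsg.glToMat ι F) S ⊓ Cfsg.Geo.omegaGL ⇑q
  have hmemS : ∀ {k : orth q}, toGL q k ∈ Cfsg.stabilizing (Cfsg.glToMat ι F) S ↔
      ∀ v, v ∈ S ↔ k.1 v ∈ S := by
    intro k
    refine forall_congr' fun v => ?_
    show (v ∈ S ↔ (toGL q k : Matrix ι ι F) *ᵥ v ∈ S) ↔ _
    rw [toGL_mulVec]
  have hle : Cfsg.Geo.decompositionStabilizer D ⊓ Cfsg.Geo.omegaGL ⇑q ≤ K := by
    rintro g ⟨⟨σ, hσ⟩, hgΩ⟩
    refine ⟨?_, hgΩ⟩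
    obtain ⟨k, -, rfl⟩ := exists_of_mem_omegaGL hgΩ
    refine hmemS.2 fun v => ⟨fun ⟨hv, i, hi⟩ => ⟨by rw [map_orth k, hv], σ i, ?_⟩, fun ⟨hv, i, hi⟩ => ?_⟩
    · rw [← hσ i]
      exact ⟨v, hi, by rw [Matrix.toLin'_apply, toGL_mulVec]⟩
    · refine ⟨by rwa [map_orth k] at hv, σ.symm i, ?_⟩
      rw [← σ.apply_symm_apply i, ← hσ] at hi
      obtain ⟨u, hu, he⟩ := hi
      rw [Matrix.toLin'_apply, toGL_mulVec] at he
      exact k.1.injective he ▸ hu
  -- vectors in five members
  let i0 : Fin t := ⟨0, by omega⟩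
  let i1 : Fin t := ⟨1, by omega⟩
  let i2 : Fin t := ⟨2, by omega⟩
  let i3 : Fin t := ⟨3, by omega⟩
  have h01 : i0 ≠ i1 := by simp [i0, i1]
  have h02 : i0 ≠ i2 := by simp [i0, i2]
  have h03 : i0 ≠ i3 := by simp [i0, i3]
  have h12 : i1 ≠ i2 := by simp [i1, i2]
  have h13 : i1 ≠ i3 := by simp [i1, i3]
  have h23 : i2 ≠ i3 := by simp [i2, i3]
  obtain ⟨a, ha, hQa⟩ := (hframe i0).1
  obtain ⟨b, hb, hQb⟩ := (hframe i1).1
  obtain ⟨c, hc, hQc⟩ := (hframe i2).1
  obtain ⟨d, hd, hQd⟩ := (hframe i3).1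
  obtain ⟨c', hc', hQc'⟩ := hval i2
  have hab := horth h01 ha hb
  have hQab : q (a - b) = 2 * ε := by
    rw [sub_eq_add_neg, QuadraticMap.map_add (⇑q), QuadraticMap.map_neg, polar_neg_right, hab, hQa, hQb]
    ring
  have hne : q (a - b) ≠ 0 := by rw [hQab]; exact mul_ne_zero (h2) hε
  have hne' : q c' ≠ 0 := by rw [hQc']; exact mul_ne_zero (h2) hε
  have hεε : ∀ u, q u = ε → polar q u u = 2 * ε := fun u hu => by
    rw [polar_self, hu, nsmul_eq_mul, Nat.cast_ofNat]
  have h2ε : (2 : F) * ε ≠ 0 := mul_ne_zero (h2) hε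
  have hswap : (refl q (a - b) hne).1 a = b := by
    rw [refl_apply, hQab, polar_sub_left, hεε a hQa, polar_comm q b a, hab, sub_zero, inv_mul_cancel₀ h2ε,
      one_smul, sub_sub_cancel]
  have hswap' : (refl q (a - b) hne).1 b = a := by
    rw [refl_apply, hQab, polar_sub_left, hεε b hQb, hab, zero_sub, mul_neg, inv_mul_cancel₀ h2ε,
      neg_one_smul, sub_neg_eq_add, add_sub_cancel]
  have hinv : ∀ {u : ι → F} (h : q u ≠ 0) (x), (refl q u h).1 ((refl q u h).1 x) = x := fun h x => by
    rw [← orth_mul_apply, refl_sq]; rfl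
  have hS1 : ∀ {u : ι → F} (h : q u ≠ 0), (∀ v ∈ S, (refl q u h).1 v ∈ S) →
      toGL q (refl q u h) ∈ Cfsg.stabilizing (Cfsg.glToMat ι F) S := fun h hf =>
    hmemS.2 fun v => ⟨hf v, fun hv => hinv h v ▸ hf _ hv⟩
  have hr1 : toGL q (refl q (a - b) hne) ∈ Cfsg.stabilizing (Cfsg.glToMat ι F) S := by
    refine hS1 hne fun v ⟨hv, k, hk⟩ => ⟨by rw [map_orth, hv], ?_⟩
    have hfix : polar q (a - b) v = 0 → ∃ j, (refl q (a - b) hne).1 v ∈ D j := fun h =>
      ⟨k, by rwa [refl_apply, h, mul_zero, zero_smul, sub_zero]⟩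
    by_cases hk0 : k = i0
    · subst hk0
      rcases (hframe i0).2 a ha v hk hQa hv with rfl | rfl | h
      · exact ⟨i1, hswap.symm ▸ hb⟩
      · exact ⟨i1, by rw [map_neg, hswap]; exact (D i1).neg_mem hb⟩
      · exact hfix (by rw [polar_sub_left, h, horth h01.symm hb hk, sub_zero])
    by_cases hk1 : k = i1
    · subst hk1
      rcases (hframe i1).2 b hb v hk hQb hv with rfl | rfl | h
      · exact ⟨i0, hswap'.symm ▸ ha⟩
      · exact ⟨i0, by rw [map_neg, hswap']; exact (D i0).neg_mem ha⟩
      · exact hfix (by rw [polar_sub_left, h, horth h01 ha hk, sub_zero])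
    exact hfix (by rw [polar_sub_left, horth (Ne.symm hk0) ha hk, horth (Ne.symm hk1) hb hk, sub_zero])
  have hr2 : toGL q (refl q c' hne') ∈ Cfsg.stabilizing (Cfsg.glToMat ι F) S := by
    refine hS1 hne' fun v ⟨hv, k, hk⟩ => ⟨by rw [map_orth, hv], k, ?_⟩
    rw [refl_apply]
    by_cases hk2 : k = i2
    · subst hk2; exact (D i2).sub_mem hk ((D i2).smul_mem _ hc')
    · rwa [horth (Ne.symm hk2) hc' hk, mul_zero, zero_smul, sub_zero]
  refine ⟨K, lt_of_le_not_ge hle fun h => ?_, lt_of_le_of_ne inf_le_right fun h => ?_⟩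
  · set g := refl q (a - b) hne * refl q c' hne'
    have hgK : toGL q g ∈ K := by
      refine ⟨?_, toGL_mem (OrthUnitaryCentre.refl_mul_mem_commutator hnd hne hne' (by rw [hQab, hQc']))⟩
      refine hmemS.2 fun v => ?_
      rw [orth_mul_apply]
      exact (hmemS.1 hr2 v).trans (hmemS.1 hr1 _)
    obtain ⟨σ, hσ⟩ := (h hgK).1
    have himg : ∀ x ∈ D i0, g.1 x ∈ D (σ i0) := fun x hx => by
      rw [← hσ i0]
      exact ⟨x, hx, by rw [Matrix.toLin'_apply, toGL_mulVec]⟩
    obtain ⟨x, hx, hax, hx0⟩ := QuadClassify.exists_mem_ker (D i0) (polarBilin q a)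
      (by rw [hdec.finrank_eq]; omega)
    have hgfix : ∀ y ∈ D i0, g.1 y = (refl q (a - b) hne).1 y := fun y hy => by
      rw [orth_mul_apply, refl_apply q c' hne', horth h02.symm hc' hy, mul_zero, zero_smul, sub_zero]
    have hga : b ∈ D (σ i0) := hswap ▸ hgfix a ha ▸ himg a ha
    have hgx : x ∈ D (σ i0) := by
      have h1 := himg x hx
      rwa [hgfix x hx, refl_apply, polar_sub_left, show polar q a x = 0 from hax, horth h01.symm hb hx, sub_zero,
        mul_zero, zero_smul, sub_zero] at h1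
    have e1 : σ i0 = i1 := by
      by_contra hne1
      exact h2ε (hεε b hQb ▸ horth hne1 hga hb)
    rw [e1] at hgx
    exact hx0 (Submodule.disjoint_def.1 (hdec.indep.pairwiseDisjoint h01) x hx hgx)
  · have hz : q (a + β • b + γ • c) = 0 := by
      rw [QuadraticMap.map_add (⇑q), QuadraticMap.map_add (⇑q), polar_add_left, polar_smul_right, polar_smul_left,
        polar_smul_right, polar_smul_right, hab, horth h02 ha hc, horth h12 hb hc, QuadraticMap.map_smul,
        QuadraticMap.map_smul, hQa, hQb, hQc]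
      simp only [smul_eq_mul]
      linear_combination ε * hsum
    have hzd : polar q (a + β • b + γ • c) d = 0 := by
      rw [polar_add_left, polar_add_left, polar_smul_left, polar_smul_left, horth h03 ha hd, horth h13 hb hd,
        horth h23 hc hd]
      simp
    set g := siegel q (a + β • b + γ • c) d hz hzd
    have hgΩ : toGL q g ∈ Cfsg.Geo.omegaGL ⇑q := toGL_mem
      (OrthUnitarySimple.sGroup_le_commutator hnd hd5 (OrthUnitarySimple.siegel_mem hnd hd5 hz hzd))
    rw [← h] at hgΩ
    obtain ⟨-, k, hk⟩ := (hmemS.1 hgΩ.1 a).1 ⟨hQa, i0, ha⟩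
    have hpa : polar q (a + β • b + γ • c) a = 2 * ε := by
      rw [polar_add_left, polar_add_left, polar_smul_left, polar_smul_left, hεε a hQa, horth h01.symm hb ha,
        horth h02.symm hc ha]
      simp
    rw [siegel_apply, hpa, horth h03.symm hd ha, zero_add, hQd] at hk
    set s := ε * (2 * ε) with hs
    have hs0 : s ≠ 0 := mul_ne_zero hε h2ε
    set y := a + (2 * ε) • d - s • (a + β • b + γ • c) with hy
    have hyb : polar q y b = -(s * (β * (2 * ε))) := by
      simp only [hy, polar_sub_left, polar_add_left, polar_smul_left, hab, hεε b hQb, horth h12.symm hc hb,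
        horth h13.symm hd hb, smul_eq_mul]
      ring
    have hyd : polar q y d = 2 * ε * (2 * ε) := by
      simp only [hy, polar_sub_left, polar_add_left, polar_smul_left, horth h03 ha hd, horth h13 hb hd,
        horth h23 hc hd, hεε d hQd, smul_eq_mul]
      ring
    have k1 : k = i1 := by
      by_contra hne1
      exact neg_ne_zero.2 (mul_ne_zero hs0 (mul_ne_zero hβ h2ε)) (hyb ▸ horth hne1 hk hb)
    have k2 : k = i3 := by
      by_contra hne1
      exact mul_ne_zero h2ε h2ε (hyd ▸ horth hne1 hk hd)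
    exact h13 (k1.symm.trans k2)

theorem le_count {t m : ℕ} {D : Fin t → Submodule F (ι → F)} (hdec : Cfsg.Geo.IsMDecomposition m D) :
    Fintype.card ι ≤ t * m := by
  classical
  have h1 : finrank F ↥(iSup D) = Fintype.card ι := by rw [hdec.iSup_eq_top, finrank_top]; simp
  have h2 : ∀ s : Finset (Fin t), finrank F ↥(s.sup D) ≤ s.card * m := by
    intro s
    induction s using Finset.induction with
    | empty => simp
    | insert i s hi ih =>
      rw [Finset.sup_insert, Finset.card_insert_of_notMem hi]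
      have := Submodule.finrank_add_le_finrank_add_finrank (D i) (s.sup D)
      rw [hdec.finrank_eq i] at this
      linarith
  have h3 := h2 Finset.univ
  rwa [Finset.sup_univ_eq_iSup, h1, Finset.card_univ, Fintype.card_fin] at h3

theorem not_maximal {q : QuadraticForm F (ι → F)} (hnd : (polarBilin q).Nondegenerate)
    (hF : Fintype.card F = 3) {t : ℕ} {m : ℕ} (hm : m = 2 ∨ m = 3) (hbig : 12 < Fintype.card ι)
    (D : Fin t → Submodule F (ι → F)) (hD : Cfsg.Geo.IsOrthogonalMDecomposition ⇑q m D) :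
    ∃ K : Subgroup (GL ι F), Cfsg.Geo.decompositionStabilizer D ⊓ Cfsg.Geo.omegaGL ⇑q < K ∧
      K < Cfsg.Geo.omegaGL ⇑q := by
  classical
  have hdec := hD.decomp.decomp
  have ht : 5 ≤ t := by
    have := le_count hdec
    rcases hm with rfl | rfl <;> omega
  have hnd' : ∀ i, QuadClassify.Nondeg q (D i) := fun i u hu h => by
    by_contra h0
    obtain ⟨x, hx, hx0⟩ := (hD.decomp.nondegenerate i u hu h0).2
    exact hx0 (h x hx)
  let i0 : Fin t := ⟨0, by omega⟩
  obtain ⟨ε, hε, hframe0⟩ : ∃ ε : F, ε ≠ 0 ∧ Frame q (D i0) ε := by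
    rcases hm with rfl | rfl
    · exact ⟨1, one_ne_zero, frame_two hF (hnd' i0) (hdec.finrank_eq i0) one_ne_zero⟩
    · exact frame_three hF (hnd' i0) (hdec.finrank_eq i0)
  have hframe : ∀ i, Frame q (D i) ε := by
    intro i
    obtain ⟨e, he⟩ := hD.isometric i i0
    have hpe : ∀ v w : D i, polar q ((e v : D i0) : ι → F) (e w : D i0) = polar q (v : ι → F) w := fun v w => by
      simp only [polar, ← Submodule.coe_add, ← map_add, he]
    obtain ⟨⟨a, ha, hQa⟩, hpair⟩ := hframe0
    refine ⟨⟨_, (e.symm ⟨a, ha⟩).2, by rw [← he, e.apply_symm_apply, hQa]⟩, fun v hv w hw hQv hQw => ?_⟩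
    rcases hpair _ (e ⟨v, hv⟩).2 _ (e ⟨w, hw⟩).2 (by rw [he]; exact hQv) (by rw [he]; exact hQw) with h | h | h
    · exact Or.inl (congrArg Subtype.val (e.injective (Subtype.ext h)))
    · refine Or.inr (Or.inl ?_)
      have : e ⟨w, hw⟩ = e (-⟨v, hv⟩) := by rw [map_neg]; exact Subtype.ext h
      exact congrArg Subtype.val (e.injective this)
    · exact Or.inr (Or.inr (by rwa [hpe] at h))
  exact not_maximal_of_frame hnd (two_ne hF) (by omega) (by rcases hm with rfl | rfl <;> omega)
    (by simp; omega) D hD hε hframe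
    (fun i => exists_value hF (hnd' i) (by rw [hdec.finrank_eq]; rcases hm with rfl | rfl <;> omega)
      (mul_ne_zero (two_ne hF) hε))
    (β := 1) (γ := 1) one_ne_zero (by linear_combination three_eq_zero hF)

end Cfsg.Agent.OmegaDecompThree
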