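/-
Frames: orthogonal bases permuted up to sign, the subfield structures they give, and the small fields
where decompositions into planes, three-spaces or four-spaces refine to them.
-/
import Cfsg.Agent.Lib.AschEvenReduce44
import Cfsg.Agent.Lib.OmegaDecompThree

set_option autoImplicit false
set_option linter.unusedSectionVars false

namespace Cfsg.Agent.AschEvenFrame44

open QuadraticMap Module
open Cfsg.Agent.OrthUnitaryPrelude Cfsg.Agent.OrthUnitaryQuad
open scoped Matrix
open Cfsg Cfsg.Geo Cfsg.Agent.AschPrimeBasic Cfsg.Agent.AschPrimeForms Cfsg.Agent.AschEvenBase44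

variable {n : ℕ} {F : Type*} [Field F] [Fintype F] {q : QuadraticForm F (Fin n → F)}

/-- an orthogonal basis of equal values permuted up to sign -/
structure FrameData (q : QuadraticForm F (Fin n → F)) (H : Subgroup (GL (Fin n) F)) (v : Fin n → Fin n → F)
    (ε : F) : Prop where
  ne : ε ≠ 0
  odd : (2 : F) ≠ 0
  val : ∀ a, q (v a) = ε
  orth : ∀ a b, a ≠ b → polar q (v a) (v b) = 0
  move : ∀ h ∈ H, ∀ a, ∃ b, (h : Matrix (Fin n) (Fin n) F) *ᵥ v a = v b ∨
    (h : Matrix (Fin n) (Fin n) F) *ᵥ v a = -v b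

section
variable {H : Subgroup (GL (Fin n) F)} {v : Fin n → Fin n → F} {ε : F}

lemma indep_of_orth {κ : Type*} [Fintype κ] {w : κ → Fin n → F} (h2 : (2 : F) ≠ 0) (hw : ∀ a, q (w a) ≠ 0)
    (ho : ∀ a b, a ≠ b → polar q (w a) (w b) = 0) : LinearIndependent F w := by
  classical
  refine Fintype.linearIndependent_iff.2 fun g hg a => ?_
  have h1 := congrArg (polarBilin q (w a)) hg
  rw [map_sum, map_zero, Finset.sum_eq_single a (fun b _ hb => by
    rw [map_smul, polarBilin_apply_apply, ho a b (Ne.symm hb), smul_zero]) (by simp)] at h1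
  rw [map_smul, polarBilin_apply_apply, polar_self_mul, smul_eq_mul] at h1
  exact (mul_eq_zero.1 h1).resolve_right (mul_ne_zero h2 (hw a))

lemma FrameData.li (hfr : FrameData q H v ε) : LinearIndependent F v :=
  indep_of_orth hfr.odd (fun a => by rw [hfr.val]; exact hfr.ne) hfr.orth

/-- the frame as a decomposition -/
theorem frame_decomp (hn : 2 ≤ n) (hfr : FrameData q H v ε) :
    ∃ D : Fin n → Submodule F (Fin n → F),
      IsOrthogonalMDecomposition (⇑q) 1 D ∧ H ≤ decompositionStabilizer D := by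
  classical
  have hne : ∀ a, v a ≠ 0 := fun a h => hfr.ne (by rw [← hfr.val a, h, QuadraticMap.map_zero])
  let D : Fin n → Submodule F (Fin n → F) := fun a => Submodule.span F {v a}
  have hind : iSupIndep D := hfr.li.iSupIndep_span_singleton
  have htop : iSup D = ⊤ := by
    have h1 : Submodule.span F (Set.range v) = ⊤ :=
      hfr.li.span_eq_top_of_card_eq_finrank' (by simp)
    rw [← h1, Submodule.span_range_eq_iSup]
  have hinj : Function.Injective D := hind.injective fun i h => hne _ (Submodule.span_singleton_eq_bot.1 h)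
  refine ⟨D, ⟨⟨⟨hn, one_pos, fun a => finrank_span_singleton (hne a), hind, htop⟩, fun a => ?_, fun a b hab => ?_⟩,
    fun a b => ?_⟩, fun g hg => ?_⟩
  · refine AschEvenType44.nondeg_iff.2 fun u hu h => ?_
    obtain ⟨c, rfl⟩ := Submodule.mem_span_singleton.1 hu
    have h1 := h (v a) (Submodule.mem_span_singleton_self _)
    rw [polar_smul_left, polar_self_mul, hfr.val, smul_eq_mul, mul_eq_zero] at h1
    rw [h1.resolve_right (mul_ne_zero hfr.odd hfr.ne), zero_smul]
  · rintro x hx y hy
    obtain ⟨c, rfl⟩ := Submodule.mem_span_singleton.1 hx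
    obtain ⟨d, rfl⟩ := Submodule.mem_span_singleton.1 hy
    rw [polar_smul_left, polar_smul_right, hfr.orth a b hab, smul_zero, smul_zero]
  · refine ⟨(LinearEquiv.toSpanNonzeroSingleton F _ _ (hne a)).symm.trans
      (LinearEquiv.toSpanNonzeroSingleton F _ _ (hne b)), ?_⟩
    rintro ⟨w, hw⟩
    obtain ⟨c, rfl⟩ := Submodule.mem_span_singleton.1 hw
    have he : (LinearEquiv.toSpanNonzeroSingleton F _ _ (hne a)).symm ⟨c • v a, hw⟩ = c := by
      rw [LinearEquiv.symm_apply_eq]
      exact Subtype.ext rfl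
    rw [LinearEquiv.trans_apply, he]
    show q (c • v b) = q (c • v a)
    rw [QuadraticMap.map_smul, QuadraticMap.map_smul, hfr.val, hfr.val]
  · choose σ hσ using hfr.move g hg
    have hmap : ∀ a, (D a).map (Matrix.toLin' (g : Matrix (Fin n) (Fin n) F)) = D (σ a) := fun a => by
      simp only [D, Submodule.map_span, Set.image_singleton, Matrix.toLin'_apply]
      rcases hσ a with h | h <;> rw [h]
      rw [← neg_one_smul F (v (σ a))]
      exact Submodule.span_singleton_smul_eq (IsUnit.mk0 _ (neg_ne_zero.2 one_ne_zero)) _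
    have hσi : Function.Injective σ := fun a b hab => by
      apply hinj
      apply Submodule.map_injective_of_injective (f := Matrix.toLin' (g : Matrix (Fin n) (Fin n) F))
        (fun x y hxy => (act g).injective (by simpa using hxy))
      rw [hmap, hmap, hab]
    exact ⟨Equiv.ofBijective σ ⟨hσi, Finite.surjective_of_injective hσi⟩, hmap⟩

/-- a basis over which both the form and the group are rational gives a subfield group -/
theorem basis_subfield [NeZero n] (hH : ∀ g ∈ H, ∀ x, q ((g : Matrix (Fin n) (Fin n) F) *ᵥ x) = q x)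
    (hli : LinearIndependent F v) (φ : F ≃+* F) (ζ : F) (hq : ∀ a, ζ * q (v a) ∈ fixedField φ)
    (hp : ∀ a b, ζ * polar q (v a) (v b) ∈ fixedField φ)
    (hmove : ∀ h ∈ H, ∀ a, ∃ c : Fin n → F, (∀ b, c b ∈ fixedField φ) ∧
      (h : Matrix (Fin n) (Fin n) F) *ᵥ v a = ∑ b, c b • v b) :
    ∃ P : GL (Fin n) F, H ≤ subfieldSubgroup (fixedField φ) P ∧
      IsQuadFormRationalStructure (fun x => ζ * q x) (fixedField φ) P := by
  classical
  let M : Matrix (Fin n) (Fin n) F := Matrix.of fun i a => v a i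
  have hM : IsUnit M := Matrix.linearIndependent_cols_iff_isUnit.1 hli
  set P : GL (Fin n) F := hM.unit with hPdef
  have hP : ∀ u : Fin n → F, (P : Matrix (Fin n) (Fin n) F) *ᵥ u = ∑ b, u b • v b := fun u => by
    funext i
    rw [hPdef, IsUnit.unit_spec]
    simp [M, Matrix.mulVec, dotProduct, Finset.sum_apply, mul_comm]
  refine ⟨P, fun h hh => ?_, fun u hu => ?_⟩
  · have := mem_subfieldSubgroup (φ := φ) (B := P⁻¹) (h := h) (c := 1) ?_
    · rwa [inv_inv] at this
    rw [one_smul, inv_inv]
    ext i a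
    choose c hc hhv using hmove h hh
    have h1 : ((P⁻¹ * h * P : GL (Fin n) F) : Matrix (Fin n) (Fin n) F) *ᵥ Pi.single a 1 = c a := by
      rw [Units.val_mul, Units.val_mul, ← Matrix.mulVec_mulVec, ← Matrix.mulVec_mulVec, hP]
      simp only [Pi.single_apply, ite_smul, one_smul, zero_smul, Finset.sum_ite_eq', Finset.mem_univ, if_true]
      rw [hhv a, ← hP, inv_mulVec_mulVec]
    have h3 := congrFun h1 i
    rw [Matrix.mulVec_single_one, Matrix.col_apply] at h3
    rw [Matrix.map_apply, h3]
    exact hc a i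
  · show ζ * q ((P : Matrix (Fin n) (Fin n) F) *ᵥ u) ∈ fixedField φ
    rw [hP]
    suffices h : ∀ s : Finset (Fin n), ζ * q (∑ b ∈ s, u b • v b) ∈ fixedField φ ∧
        ∀ a, ζ * polar q (v a) (∑ b ∈ s, u b • v b) ∈ fixedField φ from (h Finset.univ).1
    intro s
    induction s using Finset.induction_on with
    | empty => simp
    | insert b s hb ih =>
      rw [Finset.sum_insert hb]
      refine ⟨?_, fun a => ?_⟩
      · rw [QuadraticMap.map_add q, QuadraticMap.map_smul, polar_smul_left, smul_eq_mul, smul_eq_mul, mul_add,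
          mul_add, mul_left_comm ζ, mul_left_comm ζ (u b)]
        exact add_mem (add_mem (mul_mem (mul_mem (hu b) (hu b)) (hq b)) ih.1) (mul_mem (hu b) (ih.2 b))
      · rw [polar_add_right, polar_smul_right, smul_eq_mul, mul_add, mul_left_comm]
        exact add_mem (mul_mem (hu b) (hp a b)) (ih.2 a)

/-- a frame over a field that is not prime gives a subfield group -/
theorem frame_subfield (hn : 2 ≤ n) (hH : ∀ g ∈ H, ∀ x, q ((g : Matrix (Fin n) (Fin n) F) *ᵥ x) = q x)
    (hfr : FrameData q H v ε) (hpr : ¬ (Fintype.card F).Prime) :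
    ∃ (φ : F ≃+* F) (r : ℕ) (P : GL (Fin n) F), r.Prime ∧ Fintype.card F = Nat.card (fixedField φ) ^ r ∧
      H ≤ subfieldSubgroup (fixedField φ) P ∧
      IsQuadFormRationalStructure (fun x => ε⁻¹ * q x) (fixedField φ) P := by
  classical
  haveI : NeZero n := ⟨by omega⟩
  obtain ⟨p, hp'⟩ := CharP.exists F
  obtain ⟨e, hpp, he⟩ := FiniteField.card F p
  haveI := Fact.mk hpp
  have he1 : (1 : ℕ) < e := by
    rcases Nat.lt_or_ge 1 (e : ℕ) with h | h
    · exact h
    · exfalso
      have := e.pos
      rw [show (e : ℕ) = 1 by omega, pow_one] at he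
      exact hpr (he ▸ hpp)
  obtain ⟨φ, r, hr, hcard, -⟩ := exists_maximal_subfield (F := F) (d := 1) he (one_dvd _) he1
  obtain ⟨P, hP, hrat⟩ := basis_subfield hH hfr.li φ ε⁻¹
    (fun a => by rw [hfr.val, inv_mul_cancel₀ hfr.ne]; exact one_mem _)
    (fun a b => by
      by_cases hab : a = b
      · subst hab
        rw [polar_self_mul, hfr.val, mul_left_comm, inv_mul_cancel₀ hfr.ne, mul_one]
        rw [show (2 : F) = 1 + 1 by norm_num]
        exact add_mem (one_mem _) (one_mem _)
      · rw [hfr.orth a b hab, mul_zero]; exact zero_mem _)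
    fun h hh a => by
      obtain ⟨b, hb⟩ := hfr.move h hh a
      rcases hb with hb | hb
      · refine ⟨Pi.single b 1, fun b' => ?_, ?_⟩
        · rw [Pi.single_apply]; split_ifs
          · exact one_mem _
          · exact zero_mem _
        · rw [hb]; simp [Pi.single_apply]
      · refine ⟨Pi.single b (-1), fun b' => ?_, ?_⟩
        · rw [Pi.single_apply]; split_ifs
          · exact neg_mem (one_mem _)
          · exact zero_mem _
        · rw [hb]; simp [Pi.single_apply]
  exact ⟨φ, r, P, hr, hcard, hP, hrat⟩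

/-- the type of the space read from a frame -/
theorem frame_type (hnd : (polarBilin q).Nondegenerate) (hfr : FrameData q H v ε) {m : ℕ} (hn : n = 2 * m)
    (hm : 2 ≤ m) :
    (Odd m → IsPlusTypeOn (⇑q) ⊤ → IsSquare (-1 : F)) ∧
      (Odd m → ¬ IsPlusTypeOn (⇑q) ⊤ → ¬ IsSquare (-1 : F)) ∧ (Even m → IsPlusTypeOn (⇑q) ⊤) := by
  classical
  let a : Fin m → Fin n := fun i => ⟨2 * i.1, by omega⟩
  let b : Fin m → Fin n := fun i => ⟨2 * i.1 + 1, by omega⟩
  have hab : ∀ i, a i ≠ b i := fun i h => by simp [a, b, Fin.ext_iff] at h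
  let D : Fin m → Submodule F (Fin n → F) := fun i => Submodule.span F {v (a i), v (b i)}
  have hdata := fun i => AschEvenType44.plane_data (q := q) hfr.odd (v := v (a i)) (w := v (b i))
    (by rw [hfr.val]; exact hfr.ne) (by rw [hfr.val]; exact hfr.ne) (hfr.orth _ _ (hab i))
  have horth : ∀ i j, i ≠ j → ∀ x ∈ D i, ∀ y ∈ D j, polar q x y = 0 := by
    intro i j hij x hx y hy
    obtain ⟨c, d, rfl⟩ := Submodule.mem_span_pair.1 hx
    obtain ⟨c', d', rfl⟩ := Submodule.mem_span_pair.1 hy
    have hne : i.1 ≠ j.1 := fun h => hij (Fin.ext h)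
    have e1 : a i ≠ a j := fun h => by simp [a, Fin.ext_iff] at h; omega
    have e2 : a i ≠ b j := fun h => by simp [a, b, Fin.ext_iff] at h; omega
    have e3 : b i ≠ a j := fun h => by simp [a, b, Fin.ext_iff] at h; omega
    have e4 : b i ≠ b j := fun h => by simp [b, Fin.ext_iff] at h; omega
    simp [polar_add_left, polar_add_right, polar_smul_left, polar_smul_right, hfr.orth _ _ e1, hfr.orth _ _ e2,
      hfr.orth _ _ e3, hfr.orth _ _ e4]
  have htop : iSup D = ⊤ := by
    have h1 : Submodule.span F (Set.range v) = ⊤ := hfr.li.span_eq_top_of_card_eq_finrank' (by simp)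
    rw [eq_top_iff, ← h1, Submodule.span_le]
    rintro _ ⟨l, rfl⟩
    refine Submodule.mem_iSup_of_mem ⟨l.1 / 2, by omega⟩ ?_
    rcases Nat.mod_two_eq_zero_or_one l.1 with h | h
    · rw [show v l = v (a ⟨l.1 / 2, by omega⟩) from congrArg v (Fin.ext (by simp only [a]; omega))]
      exact Submodule.subset_span (by simp)
    · rw [show v l = v (b ⟨l.1 / 2, by omega⟩) from congrArg v (Fin.ext (by simp only [b]; omega))]
      exact Submodule.subset_span (by simp)
  have hplane : ∀ i, IsPlusTypeOn (⇑q) (D i) ↔ IsSquare (-1 : F) := by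
    intro i
    obtain ⟨-, -, hm', hp'⟩ := hdata i
    simp only [hfr.val] at hm' hp'
    constructor
    · intro h
      by_contra hs
      exact hm' (fun x hx => hs ⟨x, by
        have : ε * (1 + x ^ 2) = 0 := by linear_combination hx
        linear_combination -((mul_eq_zero.1 this).resolve_left hfr.ne)⟩) h
    · rintro ⟨x, hx⟩
      exact hp' x (by linear_combination -ε * hx)
  have hdec : IsOrthogonalMDecomposition (⇑q) (2 * 1) D := by
    refine ⟨⟨⟨hm, two_pos, fun i => (hdata i).2.1, AschEvenType44.indep_of_orth (fun i => (hdata i).1) horth,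
      htop⟩, fun i => AschEvenType44.nondeg_iff.2 (hdata i).1, fun i j hij x hx y hy => horth i j hij x hx y hy⟩,
      fun i j => AschEvenType44.isometric_of_type (hdata i).1 (hdata j).1 (m := 1) (hdata i).2.1 (hdata j).2.1
        ((hplane i).trans (hplane j).symm)⟩
  have key := AschEvenType44.plus_iff_members hnd hdec ⟨0, by omega⟩
  rw [hplane] at key
  exact ⟨fun ho hP => (key.1 hP).resolve_right (Nat.not_even_iff_odd.2 ho),
    fun _ hP hs => hP (key.2 (Or.inl hs)), fun he => key.2 (Or.inr he)⟩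

end

/-- a frame from pairwise orthogonal vectors of one value spanning an invariant set -/
theorem frame_of_set (h2 : (2 : F) ≠ 0) {H : Subgroup (GL (Fin n) F)} (hirr : Irred H) {ε : F} (hε : ε ≠ 0)
    (S : Set (Fin n → F)) (hne : S.Nonempty) (hval : ∀ x ∈ S, q x = ε)
    (hsep : ∀ x ∈ S, ∀ y ∈ S, y = x ∨ y = -x ∨ polar q x y = 0)
    (hinv : ∀ h ∈ H, ∀ x ∈ S, (h : Matrix (Fin n) (Fin n) F) *ᵥ x ∈ S) :
    ∃ v, FrameData q H v ε := by
  classical
  let R : Finset (Fin n → F) → Prop := fun T => ↑T ⊆ S ∧ ∀ x ∈ T, ∀ y ∈ T, x ≠ y → polar q x y = 0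
  obtain ⟨T, hT, hmax⟩ := Finset.exists_max_image (Finset.univ.filter R) Finset.card
    ⟨∅, Finset.mem_filter.2 ⟨Finset.mem_univ _, by simp [R]⟩⟩
  obtain ⟨hTS, hTo⟩ := (Finset.mem_filter.1 hT).2
  have hcover : ∀ x ∈ S, ∃ y ∈ T, x = y ∨ x = -y := by
    intro x hx
    by_contra hn
    push Not at hn
    have hxT : x ∉ T := fun h => (hn x h).1 rfl
    have ho : ∀ y ∈ T, polar q x y = 0 := fun y hy => by
      rcases hsep x hx y (hTS hy) with h | h | h
      · exact absurd h.symm (hn y hy).1
      · exact absurd (by rw [h, neg_neg]) (hn y hy).2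
      · exact h
    have h1 := hmax (insert x T) (Finset.mem_filter.2 ⟨Finset.mem_univ _, by
      refine ⟨by rw [Finset.coe_insert]; exact Set.insert_subset hx hTS, fun y hy z hz hyz => ?_⟩
      rcases Finset.mem_insert.1 hy with h1 | hy <;> rcases Finset.mem_insert.1 hz with h2 | hz
      · exact absurd (h1.trans h2.symm) hyz
      · rw [h1]; exact ho z hz
      · rw [h2]; exact (polar_comm _ y x).trans (ho y hy)
      · exact hTo y hy z hz hyz⟩)
    rw [Finset.card_insert_of_notMem hxT] at h1
    omega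
  have hli : LinearIndependent F fun x : T => (x : Fin n → F) :=
    indep_of_orth (q := q) h2 (fun a => by rw [hval _ (hTS a.2)]; exact hε) fun a b hab =>
      hTo _ a.2 _ b.2 fun h => hab (Subtype.ext h)
  set W := Submodule.span F (Set.range fun x : T => (x : Fin n → F))
  have hmemW : ∀ x ∈ S, x ∈ W := fun x hx => by
    obtain ⟨y, hy, h | h⟩ := hcover x hx
    · rw [h]; exact Submodule.subset_span ⟨⟨y, hy⟩, rfl⟩
    · rw [h]; exact W.neg_mem (Submodule.subset_span ⟨⟨y, hy⟩, rfl⟩)
  have hWi : Inv H W := by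
    intro g hg w hw
    induction hw using Submodule.span_induction with
    | mem x hx => obtain ⟨y, rfl⟩ := hx; exact hmemW _ (hinv g hg _ (hTS y.2))
    | zero => rw [Matrix.mulVec_zero]; exact W.zero_mem
    | add x y _ _ hx hy => rw [Matrix.mulVec_add]; exact W.add_mem hx hy
    | smul c x _ hx => rw [Matrix.mulVec_smul]; exact W.smul_mem c hx
  have htop : W = ⊤ := (hirr W hWi).resolve_left fun hb => by
    obtain ⟨x, hx⟩ := hne
    have := hmemW x hx
    rw [hb, Submodule.mem_bot] at this
    exact hε (by rw [← hval x hx, this, QuadraticMap.map_zero])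
  have hcard : T.card = n := by
    have h1 := finrank_span_eq_card hli
    rw [show Submodule.span F (Set.range fun x : T => (x : Fin n → F)) = ⊤ from htop, finrank_top,
      Module.finrank_pi, Fintype.card_fin, Fintype.card_coe] at h1
    exact h1.symm
  let e : Fin n ≃ T := (T.equivFinOfCardEq hcard).symm
  refine ⟨fun a => (e a : Fin n → F), hε, h2, fun a => hval _ (hTS (e a).2),
    fun a b hab => hTo _ (e a).2 _ (e b).2 fun h => hab (e.injective (Subtype.ext h)), fun h hh a => ?_⟩
  obtain ⟨y, hy, hyx⟩ := hcover _ (hinv h hh _ (hTS (e a).2))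
  exact ⟨e.symm ⟨y, hy⟩, by simpa using hyx⟩

/-- an irreducible group on a decomposition with a frame in one member has a frame -/
theorem frame_of_member (h2 : (2 : F) ≠ 0) {H : Subgroup (GL (Fin n) F)} (hirr : Irred H)
    (hH : ∀ g ∈ H, ∀ x, q ((g : Matrix (Fin n) (Fin n) F) *ᵥ x) = q x) {t k : ℕ}
    {D : Fin t → Submodule F (Fin n → F)} (hD : IsNondegenerateMDecomposition (polar ⇑q) k D)
    (hle : H ≤ decompositionStabilizer D) (i₀ : Fin t) {ε : F} (hε : ε ≠ 0)
    (hfr : OmegaDecompThree.Frame q (D i₀) ε) : ∃ v, FrameData q H v ε := by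
  obtain ⟨⟨a, ha, hQa⟩, hsep⟩ := hfr
  refine frame_of_set h2 hirr hε
    {x | ∃ h ∈ H, ∃ w ∈ D i₀, q w = ε ∧ x = (h : Matrix (Fin n) (Fin n) F) *ᵥ w}
    ⟨a, 1, H.one_mem, a, ha, hQa, by simp⟩ ?_ ?_ ?_
  · rintro x ⟨h, hh, w, -, hw, rfl⟩
    rw [hH h hh, hw]
  · rintro x ⟨h, hh, w, hwD, hw, rfl⟩ y ⟨g, hg, z, hzD, hz, rfl⟩
    obtain ⟨σ, hσ⟩ := hle hh
    obtain ⟨τ, hτ⟩ := hle hg
    by_cases hij : σ i₀ = τ i₀
    · have hm : (g : Matrix (Fin n) (Fin n) F) *ᵥ z ∈ (D i₀).map (Matrix.toLin' (h : Matrix (Fin n) (Fin n) F)) := by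
        rw [hσ, hij, ← hτ]
        exact ⟨z, hzD, rfl⟩
      obtain ⟨z', hz'D, hz'⟩ := hm
      rw [Matrix.toLin'_apply] at hz'
      rw [← hz']
      have hQz : q z' = ε := by
        rw [← hH h hh z', hz', hH g hg, hz]
      rcases hsep w hwD z' hz'D hw hQz with h1 | h1 | h1
      · exact Or.inl (by rw [h1])
      · exact Or.inr (Or.inl (by rw [h1, Matrix.mulVec_neg]))
      · refine Or.inr (Or.inr ?_)
        simp only [polar, ← Matrix.mulVec_add, hH h hh]
        exact h1
    · refine Or.inr (Or.inr (hD.orthogonal _ _ hij _ ?_ _ ?_))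
      · rw [← hσ]; exact ⟨w, hwD, rfl⟩
      · rw [← hτ]; exact ⟨z, hzD, rfl⟩
  · rintro g hg x ⟨h, hh, w, hwD, hw, rfl⟩
    exact ⟨g * h, H.mul_mem hg hh, w, hwD, hw, by rw [Matrix.mulVec_mulVec, Units.val_mul]⟩

/-- a decomposition into lines gives a frame -/
theorem frame_of_lines {H : Subgroup (GL (Fin n) F)} (hirr : Irred H)
    (hH : ∀ g ∈ H, ∀ x, q ((g : Matrix (Fin n) (Fin n) F) *ᵥ x) = q x) {t : ℕ}
    {D : Fin t → Submodule F (Fin n → F)} (hD : IsNondegenerateMDecomposition (polar ⇑q) 1 D)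
    (hle : H ≤ decompositionStabilizer D) : ∃ (v : Fin n → Fin n → F) (ε : F), FrameData q H v ε := by
  let i₀ : Fin t := ⟨0, by have := hD.decomp.two_le; omega⟩
  have hn := AschEvenType44.nondeg_iff.1 (hD.nondegenerate i₀)
  have hd := hD.decomp.finrank_eq i₀
  have h2 := AschEvenReduce44.two_ne_zero_of_odd_dim hn (by rw [hd]; exact odd_one)
  obtain ⟨⟨a, ha⟩, ha0, hsp⟩ := finrank_eq_one_iff'.1 hd
  have hQa : q a ≠ 0 := by
    intro h0
    refine ha0 (Subtype.ext (hn a ha fun x hx => ?_))
    obtain ⟨c, hc⟩ := hsp ⟨x, hx⟩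
    rw [← show c • a = x from congrArg Subtype.val hc, polar_smul_right, polar_self_mul, h0, mul_zero, smul_zero]
  obtain ⟨v, hv⟩ := frame_of_member h2 hirr hH hD hle i₀ hQa ⟨⟨a, ha, rfl⟩, fun x hx y hy hQx hQy => by
    obtain ⟨c, hc⟩ := hsp ⟨x, hx⟩
    obtain ⟨d, hd'⟩ := hsp ⟨y, hy⟩
    have hc' : c • a = x := congrArg Subtype.val hc
    have hd'' : d • a = y := congrArg Subtype.val hd'
    rw [← hc', QuadraticMap.map_smul, smul_eq_mul] at hQx
    rw [← hd'', QuadraticMap.map_smul, smul_eq_mul] at hQy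
    rcases mul_self_eq_mul_self_iff.1 (mul_right_cancel₀ hQa (hQy.trans hQx.symm)) with h | h
    · exact Or.inl (by rw [← hc', ← hd'', h])
    · exact Or.inr (Or.inl (by rw [← hc', ← hd'', h, neg_smul]))⟩
  exact ⟨v, q a, hv⟩

/-- coordinates of a hyperbolic plane -/
theorem plus_plane {U : Submodule F (Fin n → F)} (hU : QuadClassify.Nondeg q U) (hd : finrank F U = 2)
    (hp : IsPlusTypeOn (⇑q) U) :
    ∃ u f : Fin n → F, u ∈ U ∧ f ∈ U ∧ polar q u f = 1 ∧ (∀ a b : F, q (a • u + b • f) = a * b) ∧
      ∀ z ∈ U, ∃ a b : F, z = a • u + b • f := by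
  obtain ⟨T, hTU, hT, hTd⟩ := hp
  rw [hd] at hTd
  obtain ⟨u, hu, hu0⟩ := (Submodule.ne_bot_iff T).1 fun hb => by rw [hb, finrank_bot] at hTd; omega
  have hQu : q u = 0 := hT u hu
  obtain ⟨f, hf, hQf, huf⟩ := QuadClassify.exists_partner q hU (hTU hu) hu0 hQu
  refine ⟨u, f, hTU hu, hf, huf, fun a b => ?_, ?_⟩
  · rw [QuadraticMap.map_add q, QuadraticMap.map_smul, QuadraticMap.map_smul, polar_smul_left,
      polar_smul_right, hQu, hQf, huf]
    simp
  have hli : LinearIndependent F ![u, f] := LinearIndependent.pair_iff.2 fun a b hab => by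
    have e1 := congrArg (polar q u) hab
    have e2 := congrArg (fun x => polar q x f) hab
    simp [polar_add_right, polar_smul_right, polar_self_mul, hQu, huf] at e1
    simp [polar_add_left, polar_smul_left, polar_self_mul, hQf, huf] at e2
    exact ⟨e2, e1⟩
  have hspan : Submodule.span F {u, f} = U := by
    refine Submodule.eq_of_le_of_finrank_le (Submodule.span_le.2 (by
      simp [Set.insert_subset_iff, hTU hu, hf])) ?_
    have := finrank_span_eq_card hli
    rw [Matrix.range_cons_cons_empty, Fintype.card_fin] at this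
    omega
  intro z hz
  rw [← hspan, Submodule.mem_span_pair] at hz
  obtain ⟨a, b, h⟩ := hz
  exact ⟨a, b, h.symm⟩

/-- over five elements a hyperbolic plane holds one frame of value one -/
theorem frame_five (h5 : Fintype.card F = 5) {U : Submodule F (Fin n → F)} (hU : QuadClassify.Nondeg q U)
    (hd : finrank F U = 2) (hp : IsPlusTypeOn (⇑q) U) : OmegaDecompThree.Frame q U 1 := by
  obtain ⟨u, f, hu, hf, huf, hval, hco⟩ := plus_plane hU hd hp
  refine ⟨⟨(1 : F) • u + (1 : F) • f, U.add_mem (U.smul_mem _ hu) (U.smul_mem _ hf), by rw [hval, one_mul]⟩,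
    fun x hx y hy hQx hQy => ?_⟩
  obtain ⟨a, b, rfl⟩ := hco x hx
  obtain ⟨c, d, rfl⟩ := hco y hy
  rw [hval] at hQx hQy
  have ha : a ≠ 0 := left_ne_zero_of_mul_eq_one hQx
  have hc : c ≠ 0 := left_ne_zero_of_mul_eq_one hQy
  have h4 := FiniteField.pow_card_sub_one_eq_one (c / a) (div_ne_zero hc ha)
  rw [h5] at h4
  have hb : b = a⁻¹ := eq_inv_of_mul_eq_one_right hQx
  have hd' : d = c⁻¹ := eq_inv_of_mul_eq_one_right hQy
  have hfac : (c / a - 1) * ((c / a + 1) * ((c / a) ^ 2 + 1)) = 0 := by linear_combination h4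
  rcases mul_eq_zero.1 hfac with h | h
  · left
    rw [sub_eq_zero, div_eq_one_iff_eq ha] at h
    rw [hb, hd', h]
  rcases mul_eq_zero.1 h with h | h
  · right; left
    have h1 : c = -a := by
      rw [← eq_neg_iff_add_eq_zero, div_eq_iff ha] at h
      linear_combination h
    rw [hb, hd', h1, inv_neg, neg_smul, neg_smul, neg_add]
  · right; right
    have hpol : polar q (a • u + b • f) (c • u + d • f) = a * d + b * c := by
      rw [polar, show a • u + b • f + (c • u + d • f) = (a + c) • u + (b + d) • f by module, hval, hval, hval]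
      ring
    rw [hpol, hb, hd']
    field_simp at h ⊢
    linear_combination h

/-- hyperbolic planes over two elements make an irreducible group impossible -/
theorem two_planes (h2F : Fintype.card F = 2) {H : Subgroup (GL (Fin n) F)} (hirr : Irred H)
    (hH : ∀ g ∈ H, ∀ x, q ((g : Matrix (Fin n) (Fin n) F) *ᵥ x) = q x) {t : ℕ}
    {D : Fin t → Submodule F (Fin n → F)} (hD : IsNondegenerateMDecomposition (polar ⇑q) 2 D)
    (hle : H ≤ decompositionStabilizer D) (hp : ∀ i, IsPlusTypeOn (⇑q) (D i)) : False := by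
  classical
  have key : ∀ i, ∃ v ∈ D i, q v = 1 ∧ ∀ x ∈ D i, q x = 1 → x = v := by
    intro i
    obtain ⟨u, f, hu, hf, -, hval, hco⟩ :=
      plus_plane (AschEvenType44.nondeg_iff.1 (hD.nondegenerate i)) (hD.decomp.finrank_eq i) (hp i)
    refine ⟨(1 : F) • u + (1 : F) • f, (D i).add_mem ((D i).smul_mem _ hu) ((D i).smul_mem _ hf),
      by rw [hval, one_mul], fun x hx hQx => ?_⟩
    obtain ⟨a, b, rfl⟩ := hco x hx
    rw [hval] at hQx
    have one : ∀ z : F, z ≠ 0 → z = 1 := fun z hz => by
      have := FiniteField.pow_card_sub_one_eq_one z hz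
      rwa [h2F, show 2 - 1 = 1 from rfl, pow_one] at this
    rw [one a (left_ne_zero_of_mul_eq_one hQx), one b (right_ne_zero_of_mul_eq_one hQx)]
  choose v hv hQv huniq using key
  set W := Submodule.span F (Set.range v)
  have hWi : Inv H W := by
    intro g hg w hw
    induction hw using Submodule.span_induction with
    | mem x hx =>
      obtain ⟨i, rfl⟩ := hx
      obtain ⟨σ, hσ⟩ := hle hg
      rw [huniq (σ i) ((g : Matrix (Fin n) (Fin n) F) *ᵥ v i) (hσ i ▸ ⟨v i, hv i, rfl⟩)
        (by rw [hH g hg, hQv])]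
      exact Submodule.subset_span ⟨_, rfl⟩
    | zero => rw [Matrix.mulVec_zero]; exact W.zero_mem
    | add x y _ _ hx hy => rw [Matrix.mulVec_add]; exact W.add_mem hx hy
    | smul c x _ hx => rw [Matrix.mulVec_smul]; exact W.smul_mem c hx
  have ht := AschFormImprim.finrank_mDecomposition hD.decomp
  rw [Fintype.card_fin] at ht
  have ht2 := hD.decomp.two_le
  rcases hirr W hWi with h | h
  · have h1 : v ⟨0, by omega⟩ ∈ W := Submodule.subset_span ⟨_, rfl⟩
    rw [h, Submodule.mem_bot] at h1
    exact zero_ne_one (α := F) (by rw [← hQv ⟨0, by omega⟩, h1, QuadraticMap.map_zero])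
  · have h1 := finrank_range_le_card (R := F) v
    rw [Set.finrank, show Submodule.span F (Set.range v) = ⊤ from h, finrank_top, Module.finrank_pi,
      Fintype.card_fin, Fintype.card_fin] at h1
    omega

/-- hyperbolic planes over four elements give a subfield group -/
theorem four_planes (h4F : Fintype.card F = 4) {H : Subgroup (GL (Fin n) F)}
    (hH : ∀ g ∈ H, ∀ x, q ((g : Matrix (Fin n) (Fin n) F) *ᵥ x) = q x) {t : ℕ}
    {D : Fin t → Submodule F (Fin n → F)} (hD : IsNondegenerateMDecomposition (polar ⇑q) 2 D)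
    (hle : H ≤ decompositionStabilizer D) (hp : ∀ i, IsPlusTypeOn (⇑q) (D i)) :
    ∃ (φ : F ≃+* F) (r : ℕ) (P : GL (Fin n) F), r.Prime ∧ Fintype.card F = Nat.card (fixedField φ) ^ r ∧
      H ≤ subfieldSubgroup (fixedField φ) P ∧
      IsQuadFormRationalStructure (fun x => (1 : F) * q x) (fixedField φ) P := by
  classical
  haveI : Fact (Nat.Prime 2) := ⟨Nat.prime_two⟩
  have h2 : (2 : F) = 0 := two_eq_zero_of_not_odd (by rw [h4F]; decide)
  haveI : CharP F 2 := CharTwo.of_one_ne_zero_of_two_eq_zero one_ne_zero h2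
  obtain ⟨φ, r, hr, hcard, -⟩ := exists_maximal_subfield (F := F) (p := 2) (e := 2) (d := 1)
    (by rw [h4F]; rfl) (one_dvd _) (by norm_num)
  obtain ⟨w, hw0, hw1⟩ : ∃ w : F, w ≠ 0 ∧ w ≠ 1 := by
    by_contra h
    push Not at h
    have h1 : Finset.univ ⊆ ({0, 1} : Finset F) := fun z _ => by
      by_cases hz : z = 0
      · simp [hz]
      · simp [h z hz]
    have := (Finset.card_le_card h1).trans Finset.card_le_two
    rw [Finset.card_univ, h4F] at this
    omega
  have hw3 : w * w + w + 1 = 0 := by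
    have h1 := FiniteField.pow_card_sub_one_eq_one w hw0
    rw [h4F] at h1
    have h3 : (w - 1) * (w * w + w + 1) = 0 := by linear_combination h1
    exact (mul_eq_zero.1 h3).resolve_left (sub_ne_zero.2 hw1)
  have hall : ∀ z : F, z ≠ 0 → z = 1 ∨ z = w ∨ z = w + 1 := fun z hz => by
    have h1 := FiniteField.pow_card_sub_one_eq_one z hz
    rw [h4F] at h1
    have h3 : (z - 1) * ((z - w) * (z - (w + 1))) = 0 := by
      linear_combination h1 + (z ^ 2 * (-1 - w) + z * w + 1) * h2 + (z - 1) * hw3
    rcases mul_eq_zero.1 h3 with h | h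
    · exact Or.inl (sub_eq_zero.1 h)
    rcases mul_eq_zero.1 h with h | h
    · exact Or.inr (Or.inl (sub_eq_zero.1 h))
    · exact Or.inr (Or.inr (sub_eq_zero.1 h))
  choose u f hu hf huf hval hco using fun i =>
    plus_plane (AschEvenType44.nondeg_iff.1 (hD.nondegenerate i)) (hD.decomp.finrank_eq i) (hp i)
  have ht : t * 2 = n := by simpa using AschFormImprim.finrank_mDecomposition hD.decomp
  let e : Fin n ≃ Fin t × Fin 2 := (finCongr ht.symm).trans finProdFinEquiv.symm
  let x : Fin t → Fin 2 → Fin n → F := fun i => ![u i + f i, w • u i + (w + 1) • f i]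
  let v : Fin n → Fin n → F := fun a => x (e a).1 (e a).2
  have hxD : ∀ i j, x i j ∈ D i := fun i j => by
    fin_cases j
    · exact (D i).add_mem (hu i) (hf i)
    · exact (D i).add_mem ((D i).smul_mem _ (hu i)) ((D i).smul_mem _ (hf i))
  have hli : LinearIndependent F v := by
    refine Fintype.linearIndependent_iff.2 fun g hg a => ?_
    have hsum : ∑ i, (g (e.symm (i, 0)) • x i 0 + g (e.symm (i, 1)) • x i 1) = 0 := by
      rw [← hg, ← e.symm.sum_comp, Fintype.sum_prod_type]
      refine Finset.sum_congr rfl fun i _ => ?_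
      rw [Fin.sum_univ_two]
      simp [v]
    have hterm : ∀ i, g (e.symm (i, 0)) • x i 0 + g (e.symm (i, 1)) • x i 1 = 0 := by
      intro i
      have hm : ∀ l, g (e.symm (l, 0)) • x l 0 + g (e.symm (l, 1)) • x l 1 ∈ D l := fun l =>
        (D l).add_mem ((D l).smul_mem _ (hxD l 0)) ((D l).smul_mem _ (hxD l 1))
      refine Submodule.disjoint_def.1 (hD.decomp.indep i) _ (hm i) ?_
      rw [← Finset.add_sum_erase _ _ (Finset.mem_univ i)] at hsum
      rw [eq_neg_of_add_eq_zero_left hsum]
      exact neg_mem (Submodule.sum_mem _ fun l hl =>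
        Submodule.mem_iSup_of_mem l (Submodule.mem_iSup_of_mem (Finset.ne_of_mem_erase hl) (hm l)))
    obtain ⟨⟨i, j⟩, rfl⟩ := e.symm.surjective a
    have h0 := hterm i
    set α := g (e.symm (i, 0))
    set β := g (e.symm (i, 1))
    have e1 := congrArg (polar q (u i)) h0
    have e2 := congrArg (fun z => polar q z (f i)) h0
    have hQu : polar q (u i) (u i) = 0 := by rw [polar_self_mul, h2, zero_mul]
    have hQf : polar q (f i) (f i) = 0 := by rw [polar_self_mul, h2, zero_mul]
    simp [x, polar_add_right, polar_smul_right, huf, hQu] at e1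
    simp [x, polar_add_left, polar_smul_left, huf, hQf] at e2
    have hβ : β = 0 := by linear_combination e1 - e2
    have hα : α = 0 := by linear_combination e2 - w * hβ
    fin_cases j
    · exact hα
    · exact hβ
  have hpol : ∀ a b, polar q (v a) (v b) = 0 ∨ polar q (v a) (v b) = 1 := by
    intro a b
    simp only [v]
    obtain ⟨i, j⟩ := e a
    obtain ⟨l, m⟩ := e b
    by_cases hil : i = l
    · subst hil
      fin_cases j <;> fin_cases m <;> simp [x, polar_add_left, polar_add_right, polar_smul_left, polar_smul_right,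
        huf, polar_comm q (f i) (u i), polar_self_mul, h2]
      all_goals
        right
        linear_combination w * h2
    · exact Or.inl (hD.orthogonal i l hil _ (hxD i j) _ (hxD l m))
  have h01 : ∀ z : F, z = 0 ∨ z = 1 → z ∈ fixedField φ := by
    rintro z (rfl | rfl)
    · exact zero_mem _
    · exact one_mem _
  haveI : NeZero n := ⟨by have := hD.decomp.two_le; omega⟩
  obtain ⟨P, hP, hrat⟩ := basis_subfield hH hli φ 1 (fun a => by
      rw [one_mul]
      simp only [v]
      obtain ⟨i, j⟩ := e a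
      refine h01 _ (Or.inr ?_)
      fin_cases j
      · simp only [x, Fin.zero_eta, Matrix.cons_val_zero]
        rw [← one_smul F (u i), ← one_smul F (f i), hval, one_mul]
      · simp only [x, Fin.mk_one, Matrix.cons_val_one, Matrix.cons_val_zero]
        rw [hval]
        linear_combination hw3 - h2)
    (fun a b => by rw [one_mul]; exact h01 _ (hpol a b))
    fun h hh a => by
      obtain ⟨σ, hσ⟩ := hle hh
      set z := (h : Matrix (Fin n) (Fin n) F) *ᵥ v a with hz
      set l := σ (e a).1 with hl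
      have hzD : z ∈ D l := hσ (e a).1 ▸ ⟨v a, hxD _ _, rfl⟩
      obtain ⟨α, β, hzl⟩ := hco l z hzD
      have hQ : α * β = 1 := by
        rw [← hval l, ← hzl, hz, hH h hh]
        simp only [v]
        obtain ⟨i, j⟩ := e a
        fin_cases j
        · simp only [x, Fin.zero_eta, Matrix.cons_val_zero]
          rw [← one_smul F (u i), ← one_smul F (f i), hval, one_mul]
        · simp only [x, Fin.mk_one, Matrix.cons_val_one, Matrix.cons_val_zero]
          rw [hval]
          linear_combination hw3 - h2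
      obtain ⟨c₀, c₁, hc₀, hc₁, hcz⟩ : ∃ c₀ c₁ : F, (c₀ = 0 ∨ c₀ = 1) ∧ (c₁ = 0 ∨ c₁ = 1) ∧
          z = c₀ • x l 0 + c₁ • x l 1 := by
        have hα := left_ne_zero_of_mul_eq_one hQ
        rcases hall α hα with h1 | h1 | h1
        · refine ⟨1, 0, Or.inr rfl, Or.inl rfl, ?_⟩
          have hb : β = 1 := by rw [h1, one_mul] at hQ; exact hQ
          simp [hzl, x, h1, hb]
        · refine ⟨0, 1, Or.inl rfl, Or.inr rfl, ?_⟩
          have hb : β = w + 1 := mul_left_cancel₀ hw0 (by rw [h1] at hQ; linear_combination hQ - hw3 + h2)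
          simp [hzl, x, h1, hb]
        · refine ⟨1, 1, Or.inr rfl, Or.inr rfl, ?_⟩
          have hb : β = w := by
            refine mul_left_cancel₀ (h1 ▸ hα : w + 1 ≠ 0) ?_
            rw [h1] at hQ
            linear_combination hQ - hw3 + h2
          simp only [hzl, h1, hb, x, Matrix.cons_val_zero, Matrix.cons_val_one, one_smul]
          rw [add_smul w 1 (u l), one_smul, add_smul w 1 (f l), one_smul]
          have hff : f l + f l = 0 := by rw [← two_smul F (f l), h2, zero_smul]
          calc w • u l + u l + w • f l = u l + w • u l + w • f l + (f l + f l) := by rw [hff, add_zero]; abel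
            _ = _ := by abel
      refine ⟨fun b => if b = e.symm (l, 0) then c₀ else if b = e.symm (l, 1) then c₁ else 0, fun b => ?_, ?_⟩
      · dsimp only
        split_ifs
        · exact h01 _ hc₀
        · exact h01 _ hc₁
        · exact zero_mem _
      · rw [hcz]
        have hne : e.symm (l, (0 : Fin 2)) ≠ e.symm (l, 1) := fun h => by simpa using e.symm.injective h
        rw [← Finset.sum_subset (Finset.subset_univ {e.symm (l, (0 : Fin 2)), e.symm (l, 1)}) (fun b _ hb => by
            simp only [Finset.mem_insert, Finset.mem_singleton, not_or] at hb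
            simp [hb.1, hb.2]), Finset.sum_pair hne]
        simp [v, hne.symm]
  exact ⟨φ, r, P, hr, hcard, hP, hrat⟩

end Cfsg.Agent.AschEvenFrame44
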