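/-
The steps shared by the case lists of maximal subgroups of even-dimensional orthogonal groups.
-/
import Cfsg.Agent.Lib.AschEvenCore44
import Cfsg.Agent.Lib.AschEvenField44
import Cfsg.Agent.Lib.AschEvenReduce44
import Cfsg.Agent.Lib.AschEvenFrame44
import Cfsg.Agent.Lib.AschEvenTensor44
import Cfsg.Agent.Lib.AschFormOrth

set_option autoImplicit false
set_option linter.unusedSectionVars false

namespace Cfsg.Agent.AschEvenCases44

open scoped Matrix Kronecker
open QuadraticMap Module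
open Cfsg Cfsg.Geo Cfsg.Agent.AschPrimeBasic Cfsg.Agent.AschPrimeForms Cfsg.Agent.AschGenAlgebra
  Cfsg.Agent.AschGenTensor Cfsg.Agent.AschFormBasic Cfsg.Agent.AschFormTensor Cfsg.Agent.AschFormAlg
  Cfsg.Agent.AschEvenCore44 Cfsg.Agent.AschFormStruct

variable {n : ℕ} {F : Type*} [Field F] [Fintype F] {q : QuadraticForm F (Fin n → F)}
  {H : Subgroup (GL (Fin n) F)}

lemma mod_four_one (h2 : (2 : F) ≠ 0) (h : IsSquare (-1 : F)) : Fintype.card F % 4 = 1 := by
  have h1 := FiniteField.isSquare_neg_one_iff.1 h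
  have := QuadClassify.card_odd h2
  omega

lemma mod_four_three (h2 : (2 : F) ≠ 0) (h : ¬ IsSquare (-1 : F)) : Fintype.card F % 4 = 3 := by
  have h1 := mt FiniteField.isSquare_neg_one_iff.2 h
  have := QuadClassify.card_odd h2
  omega

/-- the small field orders -/
lemma card_small : Fintype.card F = 2 ∨ Fintype.card F = 3 ∨ Fintype.card F = 4 ∨ Fintype.card F = 5 ∨
    7 ≤ Fintype.card F := by
  obtain ⟨p, hp⟩ := CharP.exists F
  obtain ⟨e, hpp, he⟩ := FiniteField.card F p
  have h1 := Fintype.one_lt_card (α := F)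
  by_contra hn
  push Not at hn
  have h6 : p ^ (e : ℕ) = 6 := by omega
  have h3 : 3 ∣ p := Nat.prime_three.dvd_of_dvd_pow (n := (e : ℕ)) (by rw [h6]; norm_num)
  have h4 : 2 ∣ p := Nat.prime_two.dvd_of_dvd_pow (n := (e : ℕ)) (by rw [h6]; norm_num)
  have := (Nat.prime_dvd_prime_iff_eq Nat.prime_three hpp).1 h3
  have := (Nat.prime_dvd_prime_iff_eq Nat.prime_two hpp).1 h4
  omega

/-- the subfield member -/
theorem subfield_member (hn : 7 ≤ n) (hnd : (polarBilin q).Nondegenerate) (hmax : IsMaximalIn (omegaGL ⇑q) H)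
    (h : SubfieldOut q H) :
    ∃ (F₀ : Subfield F) (r : ℕ) (P : GL (Fin n) F) (ζ : F), r.Prime ∧ (¬ IsPlusTypeOn (⇑q) ⊤ → Odd r) ∧
      Fintype.card F = Nat.card F₀ ^ r ∧ ζ ≠ 0 ∧ IsQuadFormRationalStructure (fun v : Fin n → F => ζ * q v) F₀ P ∧
      H = subfieldSubgroup F₀ P ⊓ omegaGL ⇑q := by
  obtain ⟨φ, r, P, ζ, hr, hc, ho, hζ, hle, hrat⟩ := h
  exact ⟨_, r, P, ζ, hr, ho, hc, hζ, hrat, AschEvenBase44.finish hmax hle
    (AschEvenProper44.not_le_subfield hnd (by rw [Fintype.card_fin]; exact hn) (card_eq_pow_ne_top hr hc) P)⟩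

/-- the field member -/
theorem field_member (hn : 7 ≤ n) (hnd : (polarBilin q).Nondegenerate) (hmax : IsMaximalIn (omegaGL ⇑q) H)
    {r : ℕ} (hr : 2 ≤ r) {K : Subalgebra F (Matrix (Fin n) (Fin n) F)} (hK : IsFieldSubalgebra r K)
    (hle : H ≤ subalgebraNormalizer K) : H = subalgebraNormalizer K ⊓ omegaGL ⇑q :=
  AschEvenBase44.finish hmax hle (AschEvenProper44.not_le_field hnd (by rw [Fintype.card_fin]; exact hn) hr hK)

/-- the subspace member -/
theorem subspace_member (hn : 7 ≤ n) (hnd : (polarBilin q).Nondegenerate) (hmax : IsMaximalIn (omegaGL ⇑q) H)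
    {W : Submodule F (Fin n → F)} (hi : AschPrimeBasic.Inv H W) (hb : W ≠ ⊥) (ht : W ≠ ⊤) :
    H = subspaceStabilizer W ⊓ omegaGL ⇑q :=
  AschEvenBase44.finish hmax ((inv_iff_le_stabilizer _ _).1 hi)
    (AschEvenProper44.not_le_subspace hnd (by rw [Fintype.card_fin]; exact hn) hb ht)

lemma ne_top_of_finrank {W : Submodule F (Fin n → F)} (h : finrank F W < n) : W ≠ ⊤ := fun ht => by
  rw [ht, finrank_top, Module.finrank_pi, Fintype.card_fin] at h
  omega

lemma ne_bot_of_finrank {W : Submodule F (Fin n → F)} (h : 0 < finrank F W) : W ≠ ⊥ := fun hb => by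
  rw [hb, finrank_bot] at h
  omega

lemma decomp_count {t k : ℕ} {D : Fin t → Submodule F (Fin n → F)} (hD : IsMDecomposition k D) : t * k = n := by
  simpa using AschFormImprim.finrank_mDecomposition hD

/-- the decomposition member -/
theorem decomp_member (hn : 7 ≤ n) (hnd : (polarBilin q).Nondegenerate) (hmax : IsMaximalIn (omegaGL ⇑q) H)
    {t k : ℕ} {D : Fin t → Submodule F (Fin n → F)} (hD : IsNondegenerateMDecomposition (polar ⇑q) k D)
    (hle : H ≤ decompositionStabilizer D) : H = decompositionStabilizer D ⊓ omegaGL ⇑q := by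
  refine AschEvenBase44.finish hmax hle
    (AschEvenProper44.not_le_decomposition hnd (by rw [Fintype.card_fin]; exact hn) hD.decomp ?_)
  by_cases hk : 3 ≤ k
  · exact Or.inr (Or.inl hk)
  refine Or.inr (Or.inr ⟨?_, hD⟩)
  have := decomp_count hD.decomp
  by_contra h
  have : t * k ≤ 3 * 2 := Nat.mul_le_mul (by omega) (by omega)
  omega

/-- isometric members have one type -/
theorem same_type {t j : ℕ} {D : Fin t → Submodule F (Fin n → F)} (hD : IsOrthogonalMDecomposition (⇑q) (2 * j) D)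
    (i l : Fin t) (hp : IsPlusTypeOn (⇑q) (D i)) : IsPlusTypeOn (⇑q) (D l) :=
  AschEvenType44.plus_of_sgn (AschEvenType44.nondeg_iff.1 (hD.decomp.nondegenerate l))
    (hD.decomp.decomp.finrank_eq l) (AschEvenType44.sgn_isometric (hD.isometric i l)
      (AschEvenType44.sgn_plus (AschEvenType44.nondeg_iff.1 (hD.decomp.nondegenerate i))
        (hD.decomp.decomp.finrank_eq i) hp))

/-- two complementary members -/
theorem pair_decomp {U U' : Submodule F (Fin n → F)} {k : ℕ} (hk : 0 < k) (hd : finrank F U = k)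
    (hd' : finrank F U' = k) (hU : IsNondegenerateOn (polar ⇑q) U) (hU' : IsNondegenerateOn (polar ⇑q) U')
    (ho : AreOrthogonalFor (polar ⇑q) U U') (hinf : U ⊓ U' = ⊥) (hsup : U ⊔ U' = ⊤) (hi : AschPrimeBasic.Inv H U)
    (hi' : AschPrimeBasic.Inv H U') :
    IsNondegenerateMDecomposition (polar ⇑q) k ![U, U'] ∧ H ≤ decompositionStabilizer ![U, U'] := by
  refine ⟨⟨⟨le_rfl, hk, fun i => by fin_cases i; exacts [hd, hd'], ?_, ?_⟩, fun i => by fin_cases i; exacts [hU, hU'],
    ?_⟩, fun g hg => ⟨1, fun i => ?_⟩⟩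
  · rw [iSupIndep_def]
    intro i
    fin_cases i
    · refine disjoint_iff.2 (le_bot_iff.1 (le_trans (inf_le_inf_left _ ?_) hinf.le))
      exact iSup₂_le fun j hj => by fin_cases j <;> simp_all
    · refine disjoint_iff.2 (le_bot_iff.1 (le_trans (le_of_eq (inf_comm _ _)) (le_trans (inf_le_inf_right _ ?_) hinf.le)))
      exact iSup₂_le fun j hj => by fin_cases j <;> simp_all
  · rw [eq_top_iff, ← hsup]
    exact sup_le (le_iSup ![U, U'] 0) (le_iSup ![U, U'] 1)
  · intro i j hij a ha b hb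
    fin_cases i <;> fin_cases j
    · exact absurd rfl hij
    · exact ho a ha b hb
    · rw [polar_comm]; exact ho b hb a ha
    · exact absurd rfl hij
  · have key : ∀ W : Submodule F (Fin n → F), AschPrimeBasic.Inv H W →
        W.map (Matrix.toLin' (g : Matrix (Fin n) (Fin n) F)) = W := by
      intro W hW
      refine le_antisymm ?_ fun w hw => ?_
      · rintro _ ⟨w, hw, rfl⟩
        rw [Matrix.toLin'_apply]
        exact hW g hg w hw
      · exact ⟨_, hW g⁻¹ (H.inv_mem hg) w hw, by rw [Matrix.toLin'_apply, mulVec_inv_mulVec]⟩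
    fin_cases i
    · simpa using key U hi
    · simpa using key U' hi'

/-- the isometry of two members from their types -/
theorem pair_isometric {U U' : Submodule F (Fin n → F)} {j : ℕ} (hn : n = 4 * j)
    (hnd : (polarBilin q).Nondegenerate) (hplus : IsPlusTypeOn (⇑q) ⊤) (hd : finrank F U = 2 * j)
    (hd' : finrank F U' = 2 * j) (hU : IsNondegenerateOn (polar ⇑q) U) (hU' : IsNondegenerateOn (polar ⇑q) U')
    (hD : IsNondegenerateMDecomposition (polar ⇑q) (2 * j) ![U, U']) :
    IsOrthogonalMDecomposition (⇑q) (2 * j) ![U, U'] := by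
  have hUn := AschEvenType44.nondeg_iff.1 hU
  have hU'n := AschEvenType44.nondeg_iff.1 hU'
  have hsgn : ∀ E E', AschEvenType44.Sgn q U E → AschEvenType44.Sgn q U' E' → E * E' = (Fintype.card F : ℤ) ^ (2 * j) := by
    intro E E' hE hE'
    have h1 := AschEvenType44.sgn_sum (q := q) hD.decomp.indep
      (fun a b hab x hx y hy => hD.orthogonal a b hab x hx y hy) (E := ![E, E'])
      (fun i => by fin_cases i; exacts [hE, hE'])
    rw [hD.decomp.iSup_eq_top, Fin.prod_univ_two] at h1
    exact h1.unique (AschEvenType44.sgn_plus (QuadClassify.nondeg_top hnd)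
      (by rw [finrank_top, Module.finrank_pi, Fintype.card_fin]; omega) hplus)
  have hQ := pow_pos (AschEvenType44.qpos (F := F)) j
  have htype : IsPlusTypeOn (⇑q) U ↔ IsPlusTypeOn (⇑q) U' := by
    constructor
    · intro h
      by_contra h'
      have := hsgn _ _ (AschEvenType44.sgn_plus hUn hd h) (AschEvenType44.sgn_minus hU'n hd' h')
      rw [mul_neg, ← pow_add, ← two_mul] at this
      have := pow_pos (AschEvenType44.qpos (F := F)) (2 * j)
      omega
    · intro h
      by_contra h'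
      have := hsgn _ _ (AschEvenType44.sgn_minus hUn hd h') (AschEvenType44.sgn_plus hU'n hd' h)
      rw [neg_mul, ← pow_add, ← two_mul] at this
      have := pow_pos (AschEvenType44.qpos (F := F)) (2 * j)
      omega
  refine ⟨hD, fun i l => ?_⟩
  fin_cases i <;> fin_cases l
  · exact AschEvenType44.isometric_of_type hUn hUn hd hd Iff.rfl
  · exact AschEvenType44.isometric_of_type hUn hU'n hd hd' htype
  · exact AschEvenType44.isometric_of_type hU'n hUn hd' hd htype.symm
  · exact AschEvenType44.isometric_of_type hU'n hU'n hd' hd' Iff.rfl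

/-- a decomposition of the form preserved by an irreducible group -/
def DecompOut (q : QuadraticForm F (Fin n → F)) (H : Subgroup (GL (Fin n) F)) : Prop :=
  ∃ (t k : ℕ) (D : Fin t → Submodule F (Fin n → F)),
    IsOrthogonalMDecomposition (⇑q) k D ∧ H ≤ decompositionStabilizer D

/-- a pair of totally singular halves preserved by the group -/
def PairOut (q : QuadraticForm F (Fin n → F)) (H : Subgroup (GL (Fin n) F)) : Prop :=
  ∃ (k : ℕ) (D : Fin 2 → Submodule F (Fin n → F)), 2 * k = n ∧ IsMDecomposition k D ∧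
    (∀ i, IsTotallySingularQuad (⇑q) (D i)) ∧ H ≤ decompositionStabilizer D

theorem decomp_of_nondeg (hH : H ≤ omegaGL ⇑q) (hirr : Irred H) {t k : ℕ} {D : Fin t → Submodule F (Fin n → F)}
    (hD : IsNondegenerateMDecomposition (polar ⇑q) k D) (hle : H ≤ decompositionStabilizer D) : DecompOut q H :=
  ⟨t, k, D, AschEvenBase44.isometric_of_transitive (fun g hg v => AschEvenBase44.omega_quad (hH hg) v) hD
    (AschEvenBase44.transitive_of_irred hirr hD.decomp hle), hle⟩

/-- the outcome of the imprimitivity argument -/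
theorem imprim_out (hn : 4 ≤ n) (hH : H ≤ omegaGL ⇑q) (hirr : Irred H)
    (h : AschFormImprim.ImprimOutcome (polar ⇑q) H) : DecompOut q H ∨ PairOut q H := by
  classical
  have hHq := fun g (hg : g ∈ H) v => AschEvenBase44.omega_quad (hH hg) v
  rcases h with ⟨t, k, D, hD, hle, htr⟩ | ⟨k, D, hD, hts, hle, hkn⟩
  · exact Or.inl ⟨t, k, D, AschEvenBase44.isometric_of_transitive hHq hD htr, hle⟩
  rw [Fintype.card_fin] at hkn
  refine Or.inr ⟨k, D, hkn, hD, ?_, hle⟩
  have hadd : ∀ i, ∀ u ∈ D i, ∀ v ∈ D i, q (u + v) = q u + q v := fun i u hu v hv => by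
    rw [QuadraticMap.map_add q, hts i u hu v hv, add_zero]
  let W : Fin 2 → Submodule F (Fin n → F) := fun i =>
    { carrier := {v | v ∈ D i ∧ q v = 0}
      zero_mem' := ⟨(D i).zero_mem, QuadraticMap.map_zero q⟩
      add_mem' := fun {a b} ha hb => ⟨(D i).add_mem ha.1 hb.1, by rw [hadd i a ha.1 b hb.1, ha.2, hb.2, add_zero]⟩
      smul_mem' := fun c a ha => ⟨(D i).smul_mem c ha.1, by rw [QuadraticMap.map_smul, ha.2, smul_zero]⟩ }
  set S := W 0 ⊔ W 1 with hS
  have hWS : ∀ j, W j ≤ S := fun j => by fin_cases j; exacts [le_sup_left, le_sup_right]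
  have hinv : AschPrimeBasic.Inv H S := by
    intro g hg x hx
    obtain ⟨σ, hσ⟩ := hle hg
    have hmap : ∀ i, ∀ v ∈ W i, (g : Matrix (Fin n) (Fin n) F) *ᵥ v ∈ S := fun i v hv =>
      hWS (σ i) ⟨(hσ i) ▸ ⟨v, hv.1, Matrix.toLin'_apply _ _⟩, by rw [hHq g hg]; exact hv.2⟩
    obtain ⟨a, ha, b, hb, rfl⟩ := Submodule.mem_sup.1 hx
    rw [Matrix.mulVec_add]
    exact S.add_mem (hmap 0 a ha) (hmap 1 b hb)
  have hSD : ∀ j, ∀ x ∈ S, x ∈ D j → q x = 0 := by
    intro j x hx hxj
    obtain ⟨a, ha, b, hb, rfl⟩ := Submodule.mem_sup.1 hx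
    have hdis : Disjoint (D 0) (D 1) := hD.indep.pairwiseDisjoint (by decide)
    fin_cases j
    · have hb0 : b = 0 := Submodule.disjoint_def.1 hdis b
        (by simpa using (D 0).sub_mem hxj ha.1) hb.1
      rw [hb0, add_zero]; exact ha.2
    · have ha0 : a = 0 := Submodule.disjoint_def.1 hdis a ha.1
        (by simpa using (D 1).sub_mem hxj hb.1)
      rw [ha0, zero_add]; exact hb.2
  rcases hirr S hinv with hb | ht
  · exfalso
    -- a hyperplane of a member is singular
    by_cases h2 : (2 : F) = 0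
    · haveI : CharP F 2 := CharTwo.of_one_ne_zero_of_two_eq_zero one_ne_zero h2
      have hk2 : 2 ≤ k := by omega
      have hle1 : D 0 ≤ Submodule.span F {x | x ∈ D 0 ∧ q x ≠ 0} ⊔ W 0 := by
        intro x hx
        by_cases hq : q x = 0
        · exact Submodule.mem_sup_right ⟨hx, hq⟩
        · exact Submodule.mem_sup_left (Submodule.subset_span ⟨hx, hq⟩)
      have hW0 : W 0 = ⊥ := eq_bot_iff.2 fun x hx => hb ▸ hWS 0 hx
      have hall : ∀ x ∈ D 0, ∀ y ∈ D 0, y ≠ 0 → ∃ s : F, x = s • y := by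
        intro x hx y hy hy0
        have hqy : q y ≠ 0 := fun h => hy0 ((Submodule.eq_bot_iff _).1 hW0 y ⟨hy, h⟩)
        obtain ⟨s, hs⟩ := FiniteField.isSquare_of_char_two (ringChar.eq F 2) (q x / q y)
        refine ⟨s, ?_⟩
        have : x + s • y = 0 := (Submodule.eq_bot_iff _).1 hW0 _ ⟨(D 0).add_mem hx ((D 0).smul_mem s hy), by
          rw [hadd 0 x hx _ ((D 0).smul_mem s hy), QuadraticMap.map_smul, smul_eq_mul, ← hs,
            div_mul_cancel₀ _ hqy, CharTwo.add_self_eq_zero]⟩
        rw [eq_neg_of_add_eq_zero_left this, ← neg_smul, CharTwo.neg_eq]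
      obtain ⟨y, hy, hy0⟩ := (Submodule.ne_bot_iff (D 0)).1 (ne_bot_of_finrank (by rw [hD.finrank_eq]; omega))
      have h1 := Submodule.finrank_mono (show D 0 ≤ Submodule.span F {y} from fun x hx => by
        obtain ⟨s, rfl⟩ := hall x hx y hy hy0
        exact Submodule.smul_mem _ _ (Submodule.mem_span_singleton_self y))
      rw [hD.finrank_eq, finrank_span_singleton hy0] at h1
      omega
    · obtain ⟨y, hy, hy0⟩ := (Submodule.ne_bot_iff (D 0)).1 (ne_bot_of_finrank (by rw [hD.finrank_eq]; omega))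
      refine hy0 ((Submodule.eq_bot_iff _).1 hb y (hWS 0 ⟨hy, ?_⟩))
      have h1 := hts 0 y hy y hy
      rw [AschEvenBase44.polar_self_eq] at h1
      exact (mul_eq_zero.1 h1).resolve_left h2
  · exact fun i x hx => hSD i x (ht ▸ Submodule.mem_top) hx

/-- a frame gives lines over a prime field or a subfield group -/
theorem frame_out {m : ℕ} (hn : n = 2 * m) (hn2 : 2 ≤ n) (hnd : (polarBilin q).Nondegenerate)
    (hH : H ≤ omegaGL ⇑q) {v : Fin n → Fin n → F} {ε : F} (hfr : AschEvenFrame44.FrameData q H v ε) :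
    ((∃ p, p.Prime ∧ Fintype.card F = p) ∧ (2 : F) ≠ 0 ∧ ∃ D : Fin n → Submodule F (Fin n → F),
      IsOrthogonalMDecomposition (⇑q) 1 D ∧ H ≤ decompositionStabilizer D) ∨ SubfieldOut q H := by
  obtain ⟨D, hD, hle⟩ := AschEvenFrame44.frame_decomp hn2 hfr
  have h2 : (2 : F) ≠ 0 :=
    AschEvenReduce44.two_ne_zero_of_odd_dim (AschEvenType44.nondeg_iff.1 (hD.decomp.nondegenerate ⟨0, by omega⟩))
      (by rw [hD.decomp.decomp.finrank_eq]; exact odd_one)
  by_cases hpr : (Fintype.card F).Prime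
  · exact Or.inl ⟨⟨_, hpr, rfl⟩, h2, D, hD, hle⟩
  obtain ⟨φ, r, P, hr, hc, hP, hrat⟩ :=
    AschEvenFrame44.frame_subfield hn2 (fun g hg x => AschEvenBase44.omega_quad (hH hg) x) hfr hpr
  exact Or.inr ⟨φ, r, P, ε⁻¹, hr, hc, odd_of_minus hn hnd hr hc (inv_ne_zero hfr.ne) hrat,
    inv_ne_zero hfr.ne, hP, hrat⟩

/-- planes of plus type over four elements give a subfield group -/
theorem four_out {m : ℕ} (hn : n = 2 * m) (hnd : (polarBilin q).Nondegenerate) (hH : H ≤ omegaGL ⇑q)
    (h4F : Fintype.card F = 4) {t : ℕ} {D : Fin t → Submodule F (Fin n → F)}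
    (hD : IsNondegenerateMDecomposition (polar ⇑q) 2 D) (hle : H ≤ decompositionStabilizer D)
    (hp : ∀ i, IsPlusTypeOn (⇑q) (D i)) : SubfieldOut q H := by
  obtain ⟨φ, r, P, hr, hc, hP, hrat⟩ :=
    AschEvenFrame44.four_planes h4F (fun g hg x => AschEvenBase44.omega_quad (hH hg) x) hD hle hp
  exact ⟨φ, r, P, 1, hr, hc, odd_of_minus hn hnd hr hc one_ne_zero hrat, one_ne_zero, hP, hrat⟩

/-- four isometric orthogonal members give plus type -/
theorem four_members {k : ℕ} (h2 : (2 : F) ≠ 0) {D : Fin 4 → Submodule F (Fin n → F)}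
    (hD : IsOrthogonalMDecomposition (⇑q) k D) : IsPlusTypeOn (⇑q) ⊤ := by
  classical
  have hcount := decomp_count hD.decomp.decomp
  obtain ⟨a, b, hab⟩ := QuadClassify.exists_two_squares h2 (one_ne_zero (α := F)) (one_ne_zero (α := F)) (-1)
  obtain ⟨φ1, hφ1⟩ := hD.isometric 0 1
  obtain ⟨φ2, hφ2⟩ := hD.isometric 0 2
  obtain ⟨φ3, hφ3⟩ := hD.isometric 0 3
  let T : (D 0 × D 0) →ₗ[F] (Fin n → F) :=
    ((D 0).subtype ∘ₗ LinearMap.fst F _ _) + ((D 1).subtype ∘ₗ φ1.toLinearMap ∘ₗ LinearMap.snd F _ _) +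
      ((D 2).subtype ∘ₗ φ2.toLinearMap ∘ₗ (a • LinearMap.fst F _ _ + b • LinearMap.snd F _ _)) +
      ((D 3).subtype ∘ₗ φ3.toLinearMap ∘ₗ (-b • LinearMap.fst F _ _ + a • LinearMap.snd F _ _))
  have hT : ∀ x y, T (x, y) = (x : Fin n → F) + (φ1 y : Fin n → F) + (φ2 (a • x + b • y) : Fin n → F) +
      (φ3 (-b • x + a • y) : Fin n → F) := fun x y => rfl
  have ho := hD.decomp.orthogonal
  refine ⟨LinearMap.range T, le_top, ?_, ?_⟩
  · rintro _ ⟨⟨x, y⟩, rfl⟩
    rw [hT]
    simp only [QuadraticMap.map_add q, polar_add_left, hφ1, hφ2, hφ3,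
      ho 0 1 (by decide) _ x.2 _ (φ1 y).2, ho 0 2 (by decide) _ x.2 _ (φ2 (a • x + b • y)).2,
      ho 0 3 (by decide) _ x.2 _ (φ3 (-b • x + a • y)).2, ho 1 2 (by decide) _ (φ1 y).2 _ (φ2 (a • x + b • y)).2,
      ho 1 3 (by decide) _ (φ1 y).2 _ (φ3 (-b • x + a • y)).2,
      ho 2 3 (by decide) _ (φ2 (a • x + b • y)).2 _ (φ3 (-b • x + a • y)).2, add_zero]
    simp only [Submodule.coe_add, Submodule.coe_smul, QuadraticMap.map_add q, QuadraticMap.map_smul,
      polar_smul_left, polar_smul_right, smul_eq_mul]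
    linear_combination (q (x : Fin n → F) + q (y : Fin n → F)) * hab
  · rw [LinearMap.finrank_range_of_inj, Module.finrank_prod, hD.decomp.decomp.finrank_eq, finrank_top,
      Module.finrank_pi, Fintype.card_fin]
    · omega
    rw [← LinearMap.ker_eq_bot, LinearMap.ker_eq_bot']
    rintro ⟨x, y⟩ hxy
    rw [hT] at hxy
    have hind := hD.decomp.decomp.indep
    set w := (φ2 (a • x + b • y) : Fin n → F) + (φ3 (-b • x + a • y) : Fin n → F)
    have h0 : (x : Fin n → F) ∈ ⨆ (j : Fin 4) (_ : j ≠ 0), D j := by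
      rw [show (x : Fin n → F) = -((φ1 y : Fin n → F) + w) by
        rw [eq_neg_iff_add_eq_zero, ← hxy]; simp only [w]; abel]
      refine Submodule.neg_mem _ (Submodule.add_mem _ ?_ (Submodule.add_mem _ ?_ ?_))
      · exact Submodule.mem_iSup_of_mem 1 (Submodule.mem_iSup_of_mem (by decide) (φ1 y).2)
      · exact Submodule.mem_iSup_of_mem 2 (Submodule.mem_iSup_of_mem (by decide) (φ2 _).2)
      · exact Submodule.mem_iSup_of_mem 3 (Submodule.mem_iSup_of_mem (by decide) (φ3 _).2)
    have h1 : (φ1 y : Fin n → F) ∈ ⨆ (j : Fin 4) (_ : j ≠ 1), D j := by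
      rw [show (φ1 y : Fin n → F) = -((x : Fin n → F) + w) by
        rw [eq_neg_iff_add_eq_zero, ← hxy]; simp only [w]; abel]
      refine Submodule.neg_mem _ (Submodule.add_mem _ ?_ (Submodule.add_mem _ ?_ ?_))
      · exact Submodule.mem_iSup_of_mem 0 (Submodule.mem_iSup_of_mem (by decide) x.2)
      · exact Submodule.mem_iSup_of_mem 2 (Submodule.mem_iSup_of_mem (by decide) (φ2 _).2)
      · exact Submodule.mem_iSup_of_mem 3 (Submodule.mem_iSup_of_mem (by decide) (φ3 _).2)
    have hx0 : x = 0 := Subtype.ext (Submodule.disjoint_def.1 (hind 0) _ x.2 h0)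
    have hy0 : φ1 y = 0 := Subtype.ext (Submodule.disjoint_def.1 (hind 1) _ (φ1 y).2 h1)
    exact Prod.ext hx0 (φ1.map_eq_zero_iff.1 hy0)

/-- the reduction of an irreducible group -/
theorem main_cases {m : ℕ} (hn : n = 2 * m) (hcases : n = 8 ∨ n = 10 ∨ n = 12)
    (h8 : n = 8 → ¬ IsPlusTypeOn (⇑q) ⊤) (hnd : (polarBilin q).Nondegenerate) (hH : H ≤ omegaGL ⇑q)
    (hirr : Irred H) :
    DecompOut q H ∨ PairOut q H ∨
      (∃ (r : ℕ) (K : Subalgebra F (Matrix (Fin n) (Fin n) F)), r.Prime ∧ IsFieldSubalgebra r K ∧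
        StarClosed (RingEquiv.refl F) (gramMatrix (polar ⇑q)) K ∧ AlgNorm H K ∧ r ∣ n ∧
        H ≤ subalgebraNormalizer K) ∨
      (∃ (k l : ℕ) (e : Fin n ≃ Fin k × Fin l) (P : GL (Fin n) F) (G₁ : Matrix (Fin k) (Fin k) F)
        (G₂ : Matrix (Fin l) (Fin l) F) (a b : F), k ≤ l ∧ k * l = n ∧ CommSimple (RingEquiv.refl F) (polar ⇑q) H ∧
          TensorData (RingEquiv.refl F) 1 (polar ⇑q) H k l e P G₁ G₂ a b) ∨
      SubfieldOut q H ∨ InOrthogonalResidualClass H := by
  haveI : Nonempty (Fin n) := ⟨⟨0, by omega⟩⟩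
  have hf := AschEvenBase44.formData hnd
  rcases alg_cases hf (AschEvenBase44.isos hH) hirr with himp | ⟨r, K, hr, hK, hKs, hKn, hrn, hle⟩ | ⟨hcs, hten | hfs⟩
  · rcases imprim_out (by omega) hH hirr himp with h | h
    · exact Or.inl h
    · exact Or.inr (Or.inl h)
  · rw [Fintype.card_fin] at hrn
    exact Or.inr (Or.inr (Or.inl ⟨r, K, hr, hK, hKs, hKn, hrn, hle⟩))
  · obtain ⟨k, l, e, P, G₁, G₂, a, b, hd⟩ := hten
    refine Or.inr (Or.inr (Or.inr (Or.inl ?_)))
    have hkl : k * l = n := by simpa using (Fintype.card_congr e).symm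
    rcases Nat.le_total k l with h | h
    · exact ⟨k, l, e, P, G₁, G₂, a, b, h, hkl, hcs, hd⟩
    · exact ⟨l, k, _, P, G₂, G₁, b, a, h, by rw [mul_comm]; exact hkl, hcs, hd.swap⟩
  · rcases simple_cases hn hcases h8 hnd hH hirr hfs with h | h
    · exact Or.inr (Or.inr (Or.inr (Or.inr (Or.inl h))))
    · exact Or.inr (Or.inr (Or.inr (Or.inr (Or.inr h))))

/-- a two-dimensional factor forces two alternating factors -/
theorem two_factor (hnd : (polarBilin q).Nondegenerate) (hH : H ≤ omegaGL ⇑q) (hirr : Irred H)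
    (hcs : CommSimple (RingEquiv.refl F) (polar ⇑q) H) {l : ℕ} {e : Fin n ≃ Fin 2 × Fin l} {P : GL (Fin n) F}
    {G₁ : Matrix (Fin 2) (Fin 2) F} {G₂ : Matrix (Fin l) (Fin l) F} {a b : F}
    (hd : TensorData (RingEquiv.refl F) 1 (polar ⇑q) H 2 l e P G₁ G₂ a b) :
    G₁ᵀ = -G₁ ∧ (∀ i, G₁ i i = 0) ∧ G₂ᵀ = -G₂ ∧ (∀ i, G₂ i i = 0) ∧ Even l := by
  have hl := hd.two_le₂
  haveI : Nonempty (Fin n) := ⟨e.symm (0, ⟨0, by omega⟩)⟩
  have hf := AschEvenBase44.formData hnd
  have hI := AschEvenBase44.isos hH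
  obtain ⟨ha, -, hs₁, hs₂⟩ := AschEvenTensor44.signs hd
  suffices h : G₁ᵀ = -G₁ ∧ (∀ i, G₁ i i = 0) ∧ G₂ᵀ = -G₂ ∧ (∀ i, G₂ i i = 0) by
    refine ⟨h.1, h.2.1, h.2.2.1, h.2.2.2, ?_⟩
    by_contra hev
    refine hd.det₂.ne_zero (det_eq_zero_of_alternating (by simpa using hev) h.2.2.2 fun i j => ?_)
    have := congrFun (congrFun h.2.2.1 i) j
    simpa [Matrix.transpose_apply] using this
  by_cases h2 : (2 : F) = 0
  · have h11 : a = 1 := by
      rcases ha with h | h
      · exact h
      · rw [h]; linear_combination -h2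
    rw [h11, one_smul] at hs₁ hs₂
    have hneg : ∀ {r : ℕ} (M : Matrix (Fin r) (Fin r) F), -M = M := fun M => Matrix.ext fun i j => by
      rw [Matrix.neg_apply]; linear_combination -(M i j) * h2
    refine ⟨hs₁.trans (hneg _).symm, fun i => ?_, hs₂.trans (hneg _).symm, fun i => ?_⟩
    · by_contra hne
      exact AschEvenTensor44.plane_sym hf hI hcs hd hs₁ (Or.inr ⟨i, hne⟩)
    · by_contra hne
      exact AschFormQuad.factor_reducible h2 hd.two_le₂ (by norm_num)
        (e := e.trans (Equiv.prodComm _ _)) (P := P) hs₂ ⟨i, hne⟩ (fun h hh => by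
          obtain ⟨A, B, c, -, hval, -, hB⟩ := hd.elem hf hI hh
          refine ⟨(B : Matrix (Fin l) (Fin l) F), (A : Matrix (Fin 2) (Fin 2) F), c⁻¹, ?_, hB⟩
          exact hval.trans (by rw [AschCase.pull_swap e])) hirr
  · rcases ha with ha | ha
    · exact (AschEvenTensor44.plane_sym hf hI hcs hd (by rw [hs₁, ha, one_smul]) (Or.inl h2)).elim
    · rw [ha, neg_one_smul] at hs₁ hs₂
      have hz : ∀ {r : ℕ} (M : Matrix (Fin r) (Fin r) F), Mᵀ = -M → ∀ i, M i i = 0 := fun M hM i => by
        have h1 := congrFun (congrFun hM i) i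
        rw [Matrix.transpose_apply, Matrix.neg_apply] at h1
        exact (mul_eq_zero.1 (show (2 : F) * M i i = 0 by linear_combination h1)).resolve_left h2
      exact ⟨hs₁, hz _ hs₁, hs₂, hz _ hs₂⟩

/-- a plane factor leaves a minus form impossible -/
theorem two_factor_plus (hn : 2 ≤ n) (hnd : (polarBilin q).Nondegenerate) (hH : H ≤ omegaGL ⇑q) (hirr : Irred H)
    (hcs : CommSimple (RingEquiv.refl F) (polar ⇑q) H) {l : ℕ} {e : Fin n ≃ Fin 2 × Fin l} {P : GL (Fin n) F}
    {G₁ : Matrix (Fin 2) (Fin 2) F} {G₂ : Matrix (Fin l) (Fin l) F} {a b : F}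
    (hd : TensorData (RingEquiv.refl F) 1 (polar ⇑q) H 2 l e P G₁ G₂ a b) : IsPlusTypeOn (⇑q) ⊤ := by
  haveI : Nonempty (Fin n) := ⟨⟨0, by omega⟩⟩
  obtain ⟨h1, h1d, h2, h2d, -⟩ := two_factor hnd hH hirr hcs hd
  exact AschEvenTensor44.plus_of_pure (AschEvenTensor44.pure_zero (by rw [Fintype.card_fin]; exact hn) hirr
    (fun g hg v => AschEvenBase44.omega_quad (hH hg) v) (AschEvenBase44.formData hnd) (AschEvenBase44.isos hH)
    hd h1 h1d h2 h2d)

/-- a three-dimensional factor is symmetric in odd characteristic -/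
theorem three_factor (hnd : (polarBilin q).Nondegenerate) (hH : H ≤ omegaGL ⇑q) (hirr : Irred H)
    {l : ℕ} {e : Fin n ≃ Fin 3 × Fin l} {P : GL (Fin n) F}
    {G₁ : Matrix (Fin 3) (Fin 3) F} {G₂ : Matrix (Fin l) (Fin l) F} {a b : F}
    (hd : TensorData (RingEquiv.refl F) 1 (polar ⇑q) H 3 l e P G₁ G₂ a b) :
    (2 : F) ≠ 0 ∧ G₁ᵀ = G₁ ∧ G₂ᵀ = G₂ := by
  have hl := hd.two_le₂
  haveI : Nonempty (Fin n) := ⟨e.symm (0, ⟨0, by omega⟩)⟩
  have hf := AschEvenBase44.formData hnd
  obtain ⟨ha, -, hs₁, hs₂⟩ := AschEvenTensor44.signs hd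
  have hodd : Odd (Fintype.card (Fin 3)) := by rw [Fintype.card_fin]; decide
  have halt : ∀ (i j : Fin 3), G₁ᵀ = -G₁ → G₁ i j = -G₁ j i := fun i j h => by
    have := congrFun (congrFun h j) i
    simpa [Matrix.transpose_apply] using this
  by_cases h2 : (2 : F) = 0
  · exfalso
    have h11 : a = 1 := by
      rcases ha with h | h
      · exact h
      · rw [h]; linear_combination -h2
    rw [h11, one_smul] at hs₁
    by_cases hdiag : ∃ i, G₁ i i ≠ 0
    · exact AschFormQuad.factor_reducible (k := 3) (m := l) (e := e) (P := P) h2 (by norm_num) (by omega) hs₁ hdiag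
        (fun h hh => by
          obtain ⟨A, B, c, -, hval, hA, -⟩ := hd.elem hf (AschEvenBase44.isos hH) hh
          exact ⟨(A : Matrix (Fin 3) (Fin 3) F), (B : Matrix (Fin l) (Fin l) F), c, hval, hA⟩) hirr
    · push Not at hdiag
      refine hd.det₁.ne_zero (det_eq_zero_of_alternating hodd hdiag fun i j => halt j i ?_)
      rw [hs₁]
      exact Matrix.ext fun i j => by rw [Matrix.neg_apply]; linear_combination (G₁ i j) * h2
  rcases ha with ha | ha
  · exact ⟨h2, by rw [hs₁, ha, one_smul], by rw [hs₂, ha, one_smul]⟩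
  · exfalso
    rw [ha, neg_one_smul] at hs₁
    refine hd.det₁.ne_zero (det_eq_zero_of_alternating hodd (fun i => ?_) fun i j => halt j i hs₁)
    exact (mul_eq_zero.1 (show (2 : F) * G₁ i i = 0 by linear_combination halt i i hs₁)).resolve_left h2

/-- the three copies of the four-dimensional factor -/
theorem copies_type (h2 : (2 : F) ≠ 0) (hnd : (polarBilin q).Nondegenerate)
    {e : Fin n ≃ Fin 3 × Fin 4} {P : GL (Fin n) F}
    {G₁ : Matrix (Fin 3) (Fin 3) F} {G₂ : Matrix (Fin 4) (Fin 4) F} {a b : F}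
    (hd : TensorData (RingEquiv.refl F) 1 (polar ⇑q) H 3 4 e P G₁ G₂ a b) (hs₁ : G₁ᵀ = G₁) (hs₂ : G₂ᵀ = G₂) :
    IsPlusTypeOn (⇑q) ⊤ ↔ IsPlusTypeOn (fun v : Fin 4 → F => formOfGram id G₂ v v) ⊤ := by
  classical
  have hf := AschEvenBase44.formData hnd
  obtain ⟨S, l, hl, hS⟩ := AschFormOrth.congr_odd h2 (by decide : Odd 3) hs₁ hd.det₁ (Matrix.transpose_one)
    (by simp : IsUnit (1 : Matrix (Fin 3) (Fin 3) F).det)
  set X := kronUnit S (1 : GL (Fin 4) F) with hX
  set P' := P * glReindex e.symm X with hP'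
  have hgram : gramP (RingEquiv.refl F) (polar ⇑q) e P' = l • ((1 : Matrix (Fin 3) (Fin 3) F) ⊗ₖ G₂) := by
    rw [hP', gramP_rebase, hd.gram, show (X : Matrix (Fin 3 × Fin 4) (Fin 3 × Fin 4) F) =
      (S : Matrix (Fin 3) (Fin 3) F) ⊗ₖ (1 : Matrix (Fin 4) (Fin 4) F) from rfl, ← Matrix.kroneckerMap_transpose,
      kron_map, ← Matrix.mul_kronecker_mul, ← Matrix.mul_kronecker_mul,
      show (S : Matrix (Fin 3) (Fin 3) F).map (RingEquiv.refl F) = (S : Matrix (Fin 3) (Fin 3) F) from rfl, hS,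
      Matrix.transpose_one, map_one_mat, one_mul, mul_one, Matrix.smul_kronecker]
  let T : Fin 3 → (Fin 4 → F) →ₗ[F] (Fin n → F) := fun i =>
    { toFun := fun y => (P' : Matrix (Fin n) (Fin n) F) *ᵥ
        ((fun z : Fin 3 × Fin 4 => (Pi.single i 1 : Fin 3 → F) z.1 * y z.2) ∘ e)
      map_add' := fun u v => by rw [← Matrix.mulVec_add]; congr 1; funext j; exact mul_add _ _ _
      map_smul' := fun c v => by
        rw [RingHom.id_apply, ← Matrix.mulVec_smul]; congr 1; funext j; simp [mul_left_comm] }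
  have hpol : ∀ i j y y', polar q (T i y) (T j y') =
      if i = j then l * formOfGram id G₂ y y' else 0 := by
    intro i j y y'
    show polar q ((P' : Matrix (Fin n) (Fin n) F) *ᵥ _) ((P' : Matrix (Fin n) (Fin n) F) *ᵥ _) = _
    rw [form_coords hf, hgram]
    simp only [formOfGram, RingEquiv.refl_apply, id, Matrix.smul_apply, smul_eq_mul, Matrix.kroneckerMap_apply,
      Fintype.sum_prod_type, Matrix.one_apply, Pi.single_apply]
    fin_cases i <;> fin_cases j <;> simp [Fin.sum_univ_three, Finset.mul_sum] <;>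
      exact Finset.sum_congr rfl fun u _ => Finset.sum_congr rfl fun v _ => by ring
  have hinj : ∀ i, Function.Injective (T i) := fun i y y' hyy => funext fun j => by
    have h1 := (act P').injective (hyy : act P' _ = act P' _)
    simpa using congrFun h1 (e.symm (i, j))
  have hq : ∀ i y, 2 * q (T i y) = l * formOfGram id G₂ y y := fun i y => by
    rw [← AschEvenBase44.polar_self_eq, hpol, if_pos rfl]
  let D : Fin 3 → Submodule F (Fin n → F) := fun i => LinearMap.range (T i)
  have hdim : ∀ i, finrank F (D i) = 2 * 2 := fun i => by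
    rw [LinearMap.finrank_range_of_inj (hinj i), Module.finrank_pi, Fintype.card_fin]
  have hndD : ∀ i, QuadClassify.Nondeg q (D i) := by
    rintro i _ ⟨y, rfl⟩ hy
    have hy0 : y = 0 := by
      by_contra hne
      obtain ⟨-, z, hz⟩ := (AschFormStruct.symmetric_of_gram hd.det₂ hs₂).nondegenerate y hne
      have h1 := hy _ ⟨z, rfl⟩
      rw [hpol, if_pos rfl] at h1
      exact hz ((mul_eq_zero.1 h1).resolve_left hl)
    rw [hy0, map_zero]
  have horth : ∀ i j, i ≠ j → ∀ x ∈ D i, ∀ y ∈ D j, polar q x y = 0 := by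
    rintro i j hij _ ⟨x, rfl⟩ _ ⟨y, rfl⟩
    rw [hpol, if_neg hij]
  have hind := AschEvenType44.indep_of_orth hndD horth
  have hcard : 3 * 4 = n := by simpa using (Fintype.card_congr e).symm
  have htop : iSup D = ⊤ := by
    rw [eq_top_iff]
    intro w _
    have hw : w = ∑ i, T i (fun x => (((P'⁻¹ : GL (Fin n) F) : Matrix (Fin n) (Fin n) F) *ᵥ w) (e.symm (i, x))) := by
      conv_lhs => rw [← mulVec_inv_mulVec P' w]
      show _ = ∑ i, (P' : Matrix (Fin n) (Fin n) F) *ᵥ _
      rw [← Matrix.mulVec_sum]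
      congr 1
      funext j
      simp [Finset.sum_apply, Pi.single_apply]
    rw [hw]
    exact Submodule.sum_mem _ fun i _ => Submodule.mem_iSup_of_mem i ⟨_, rfl⟩
  have hiso : ∀ i j, AreIsometricFor (⇑q) (D i) (D j) := fun i j => by
    refine ⟨(LinearEquiv.ofInjective (T i) (hinj i)).symm.trans (LinearEquiv.ofInjective (T j) (hinj j)), ?_⟩
    intro w
    obtain ⟨y, hy⟩ := (LinearEquiv.ofInjective (T i) (hinj i)).surjective w
    subst hy
    simp only [LinearEquiv.trans_apply, LinearEquiv.symm_apply_apply, LinearEquiv.ofInjective_apply]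
    exact mul_left_cancel₀ h2 ((hq j y).trans (hq i y).symm)
  have hDo : IsOrthogonalMDecomposition (⇑q) (2 * 2) D :=
    ⟨⟨⟨by norm_num, by norm_num, hdim, hind, htop⟩, fun i => AschEvenType44.nondeg_iff.2 (hndD i), horth⟩, hiso⟩
  rw [AschEvenType44.plus_iff_members hnd hDo 0]
  simp only [show ¬ Even 3 by decide, or_false]
  constructor
  · rintro ⟨U, hU, hts, hUd⟩
    refine ⟨U.comap (T 0), le_top, fun y hy => ?_, ?_⟩
    · have h1 := hq 0 y
      rw [hts _ hy, mul_zero] at h1
      exact (mul_eq_zero.1 h1.symm).resolve_left hl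
    · have h1 : (U.comap (T 0)).map (T 0) = U := Submodule.map_comap_eq_self hU
      have h3 := (Submodule.equivMapOfInjective (T 0) (hinj 0) (U.comap (T 0))).finrank_eq
      rw [h1] at h3
      rw [h3, finrank_top, Module.finrank_pi, Fintype.card_fin]
      rw [hdim] at hUd
      omega
  · rintro ⟨U, -, hts, hUd⟩
    refine ⟨U.map (T 0), ?_, ?_, ?_⟩
    · exact LinearMap.map_le_range
    · rintro _ ⟨y, hy, rfl⟩
      have h1 := hq 0 y
      rw [show formOfGram id G₂ y y = 0 from hts y hy, mul_zero] at h1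
      exact (mul_eq_zero.1 h1).resolve_left h2
    · rw [← (Submodule.equivMapOfInjective (T 0) (hinj 0) U).finrank_eq, hdim, hUd, finrank_top, Module.finrank_pi,
        Fintype.card_fin]

/-- over two elements four-spaces of plus type split into minus planes -/
theorem refine_planes (h2F : Fintype.card F = 2) (hn : n = 12) (hH : H ≤ omegaGL ⇑q)
    {D : Fin 3 → Submodule F (Fin n → F)} (hD : IsOrthogonalMDecomposition (⇑q) 4 D)
    (hle : H ≤ decompositionStabilizer D) (hp : ∀ i, IsPlusTypeOn (⇑q) (D i)) :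
    ∃ E : Fin 6 → Submodule F (Fin n → F), IsOrthogonalMDecomposition (⇑q) 2 E ∧
      (∀ a, ¬ IsPlusTypeOn (⇑q) (E a)) ∧ H ≤ decompositionStabilizer E := by
  classical
  have h01 : ∀ z : F, z = 0 ∨ z = 1 := fun z => by
    by_cases hz : z = 0
    · exact Or.inl hz
    · have := FiniteField.pow_card_sub_one_eq_one z hz
      rw [h2F, show 2 - 1 = 1 from rfl, pow_one] at this
      exact Or.inr this
  have h2 : (2 : F) = 0 := AschEvenBase44.two_eq_zero_of_not_odd (by rw [h2F]; decide)
  haveI : CharP F 2 := CharTwo.of_one_ne_zero_of_two_eq_zero one_ne_zero h2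
  have hdD : ∀ i, finrank F (D i) = 4 := hD.decomp.decomp.finrank_eq
  have hnD : ∀ i, QuadClassify.Nondeg q (D i) := fun i => AschEvenType44.nondeg_iff.1 (hD.decomp.nondegenerate i)
  -- anisotropic planes have no second type
  have haniso : ∀ (U : Submodule F (Fin n → F)), finrank F U = 2 → ¬ IsPlusTypeOn (⇑q) U →
      ∀ x ∈ U, q x = 0 → x = 0 := by
    intro U hU hnp x hx hqx
    by_contra hx0
    refine hnp ⟨Submodule.span F {x}, (Submodule.span_singleton_le_iff_mem _ _).2 hx, fun w hw => ?_, by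
      rw [finrank_span_singleton hx0, hU]⟩
    obtain ⟨c, rfl⟩ := Submodule.mem_span_singleton.1 hw
    rw [QuadraticMap.map_smul, hqx, smul_zero]
  have hsplit : ∀ i, ∃ P P' : Submodule F (Fin n → F), P ≤ D i ∧ P' ≤ D i ∧ P ⊔ P' = D i ∧
      finrank F P = 2 ∧ finrank F P' = 2 ∧ QuadClassify.Nondeg q P ∧ QuadClassify.Nondeg q P' ∧
      (∀ x ∈ P, ∀ y ∈ P', polar q x y = 0) ∧ ¬ IsPlusTypeOn (⇑q) P ∧ ¬ IsPlusTypeOn (⇑q) P' := by
    intro i
    obtain ⟨U, hUD, hUts, hUd⟩ := hp i
    rw [hdD] at hUd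
    obtain ⟨e₁, he₁, he0⟩ := (Submodule.ne_bot_iff U).1 (ne_bot_of_finrank (by omega))
    obtain ⟨f₁, hf₁, hqf, hef⟩ := QuadClassify.exists_partner q (hnD i) (hUD he₁) he0 (hUts e₁ he₁)
    obtain ⟨hR, hRd⟩ := QuadClassify.pair_complement q (hnD i) (hUD he₁) hf₁ (hUts e₁ he₁) hqf hef
    set R := D i ⊓ LinearMap.ker (polarBilin q e₁) ⊓ LinearMap.ker (polarBilin q f₁)
    obtain ⟨r, hr, hqr⟩ : ∃ r ∈ R, q r = 1 := by
      by_contra hall
      push Not at hall
      have hz : ∀ x ∈ R, q x = 0 := fun x hx => (h01 _).resolve_right (hall x hx)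
      obtain ⟨x, hx, hx0⟩ := (Submodule.ne_bot_iff R).1 (ne_bot_of_finrank (by rw [hdD] at hRd; omega))
      refine hx0 (hR x hx fun y hy => ?_)
      simp [polar, hz x hx, hz y hy, hz _ (R.add_mem hx hy)]
    have her : polar q e₁ r = 0 := hr.1.2
    have hfr : polar q f₁ r = 0 := hr.2
    set u := e₁ + f₁ with hu
    set v := e₁ + r with hv
    have hee : polar q e₁ e₁ = 0 := by rw [AschEvenBase44.polar_self_eq, h2, zero_mul]
    have hqu : q u = 1 := by rw [hu, QuadraticMap.map_add q, hUts e₁ he₁, hqf, hef]; simp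
    have hqv : q v = 1 := by rw [hv, QuadraticMap.map_add q, hUts e₁ he₁, hqr, her]; simp
    have huv : polar q u v = 1 := by
      rw [hu, hv, polar_add_left, polar_add_right, polar_add_right, hee, her, hfr,
        polar_comm (⇑q) f₁ e₁, hef]
      simp
    have huD : u ∈ D i := (D i).add_mem (hUD he₁) hf₁
    have hvD : v ∈ D i := (D i).add_mem (hUD he₁) hr.1.1
    have huu : polar q u u = 0 := by rw [AschEvenBase44.polar_self_eq, h2, zero_mul]
    have hvv : polar q v v = 0 := by rw [AschEvenBase44.polar_self_eq, h2, zero_mul]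
    have hvu : polar q v u = 1 := by rw [polar_comm]; exact huv
    set P := Submodule.span F ({u, v} : Set (Fin n → F)) with hP
    set P' := D i ⊓ LinearMap.ker (polarBilin q u) ⊓ LinearMap.ker (polarBilin q v) with hP'
    have hli : LinearIndependent F ![u, v] := by
      refine LinearIndependent.pair_iff.2 fun s t hst => ⟨?_, ?_⟩
      · have h1 := congrArg (fun z => polar q z v) hst
        simpa [polar_add_left, polar_smul_left, huv, hvv] using h1
      · have h1 := congrArg (fun z => polar q z u) hst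
        simpa [polar_add_left, polar_smul_left, hvu, huu] using h1
    have hPd : finrank F P = 2 := by
      have := finrank_span_eq_card hli
      rw [Matrix.range_cons, Matrix.range_cons, Matrix.range_empty, Set.union_empty, Fintype.card_fin,
        Set.singleton_union] at this
      exact this
    have hval : ∀ s t : F, q (s • u + t • v) = s * s + t * t + s * t := fun s t => by
      rw [QuadraticMap.map_add q, QuadraticMap.map_smul, QuadraticMap.map_smul, polar_smul_left, polar_smul_right,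
        hqu, hqv, huv]
      simp
    have hPmem : ∀ x ∈ P, ∃ s t : F, s • u + t • v = x := fun x hx => Submodule.mem_span_pair.1 hx
    have hPa : ∀ x ∈ P, q x = 0 → x = 0 := by
      intro x hx hqx
      obtain ⟨s, t, rfl⟩ := hPmem x hx
      rw [hval] at hqx
      rcases h01 s with rfl | rfl <;> rcases h01 t with rfl | rfl <;> simp at hqx ⊢
      exact absurd hqx (by rw [CharTwo.add_self_eq_zero]; simp)
    have hPn : QuadClassify.Nondeg q P := by
      intro x hx hxy
      obtain ⟨s, t, rfl⟩ := hPmem x hx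
      have h1 := hxy u (Submodule.subset_span (by simp))
      have h3 := hxy v (Submodule.subset_span (by simp))
      simp [polar_add_left, polar_smul_left, huu, hvu, huv, hvv] at h1 h3
      simp [h1, h3]
    have hPnp : ¬ IsPlusTypeOn (⇑q) P := by
      rintro ⟨W, hWP, hWts, hWd⟩
      rw [hPd] at hWd
      obtain ⟨w, hw, hw0⟩ := (Submodule.ne_bot_iff W).1 (ne_bot_of_finrank (by omega))
      exact hw0 (hPa w (hWP hw) (hWts w hw))
    have hPD : P ≤ D i := Submodule.span_le.2 (by simp [Set.insert_subset_iff, huD, hvD])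
    have horth : ∀ x ∈ P, ∀ y ∈ P', polar q x y = 0 := by
      intro x hx y hy
      obtain ⟨s, t, rfl⟩ := hPmem x hx
      rw [polar_add_left, polar_smul_left, polar_smul_left, show polar q u y = 0 from hy.1.2,
        show polar q v y = 0 from hy.2, smul_zero, smul_zero, add_zero]
    have hdec : ∀ x ∈ D i, ∃ a ∈ P, x - a ∈ P' := by
      intro x hx
      refine ⟨polar q v x • u + polar q u x • v, P.add_mem (P.smul_mem _ (Submodule.subset_span (by simp)))
        (P.smul_mem _ (Submodule.subset_span (by simp))), ⟨(D i).sub_mem hx ((D i).add_mem ((D i).smul_mem _ huD)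
          ((D i).smul_mem _ hvD)), ?_⟩, ?_⟩
      · simp [polar_sub_right, huu, huv]
      · simp [polar_sub_right, hvu, hvv]
    have hsup : P ⊔ P' = D i := by
      refine le_antisymm (sup_le hPD (inf_le_left.trans inf_le_left)) fun x hx => ?_
      obtain ⟨a, ha, hxa⟩ := hdec x hx
      exact Submodule.mem_sup.2 ⟨a, ha, _, hxa, by abel⟩
    have hP'n : QuadClassify.Nondeg q P' := by
      intro x hx hxy
      refine hnD i x hx.1.1 fun y hy => ?_
      obtain ⟨a, ha, hya⟩ := hdec y hy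
      have := hxy _ hya
      rw [polar_sub_right, polar_comm (⇑q) x a, horth a ha x hx, sub_zero] at this
      exact this
    have hP'd : finrank F P' = 2 := by
      have h1 := Submodule.finrank_sup_add_finrank_inf_eq P P'
      rw [hsup, hdD, hPd, show P ⊓ P' = ⊥ from (Submodule.eq_bot_iff _).2 fun x hx =>
        hPn x hx.1 fun y hy => (polar_comm _ x y).trans (horth y hy x hx.2), finrank_bot] at h1
      omega
    refine ⟨P, P', hPD, inf_le_left.trans inf_le_left, hsup, hPd, hP'd, hPn, hP'n, horth, hPnp, fun hp' => ?_⟩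
    have hind : iSupIndep ![P, P'] := AschEvenType44.indep_of_orth (fun j => by fin_cases j; exacts [hPn, hP'n])
      fun a b hab x hx y hy => by
        fin_cases a <;> fin_cases b
        · exact absurd rfl hab
        · exact horth x hx y hy
        · rw [polar_comm]; exact horth y hy x hx
        · exact absurd rfl hab
    have h1 := AschEvenType44.sgn_sum (q := q) hind (fun a b hab x hx y hy => by
        fin_cases a <;> fin_cases b
        · exact absurd rfl hab
        · exact horth x hx y hy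
        · rw [polar_comm]; exact horth y hy x hx
        · exact absurd rfl hab) (E := ![-(Fintype.card F : ℤ) ^ 1, (Fintype.card F : ℤ) ^ 1]) (fun j => by
        fin_cases j
        exacts [AschEvenType44.sgn_minus hPn (m := 1) hPd hPnp, AschEvenType44.sgn_plus hP'n (m := 1) hP'd hp'])
    have hsupr : iSup ![P, P'] = D i := by
      rw [← hsup]
      exact le_antisymm (iSup_le fun j => by fin_cases j; exacts [le_sup_left, le_sup_right])
        (sup_le (le_iSup ![P, P'] 0) (le_iSup ![P, P'] 1))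
    rw [hsupr, Fin.prod_univ_two] at h1
    have h3 := h1.unique (AschEvenType44.sgn_plus (hnD i) (m := 2) (hdD i) (hp i))
    rw [h2F] at h3
    norm_num at h3
  choose P P' hPD hP'D hsup hPd hP'd hPn hP'n horth hPnp hP'np using hsplit
  let ν : Fin 6 ≃ Fin 3 × Fin 2 := (finProdFinEquiv (m := 3) (n := 2)).symm
  let E₀ : Fin 3 × Fin 2 → Submodule F (Fin n → F) := fun p => if p.2 = 0 then P p.1 else P' p.1
  let E : Fin 6 → Submodule F (Fin n → F) := fun a => E₀ (ν a)
  have hE0 : ∀ p, QuadClassify.Nondeg q (E₀ p) ∧ finrank F (E₀ p) = 2 ∧ E₀ p ≤ D p.1 ∧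
      ¬ IsPlusTypeOn (⇑q) (E₀ p) := fun ⟨i, j⟩ => by
    fin_cases j
    · exact ⟨hPn i, hPd i, hPD i, hPnp i⟩
    · exact ⟨hP'n i, hP'd i, hP'D i, hP'np i⟩
  have hEo : ∀ p p', p ≠ p' → ∀ x ∈ E₀ p, ∀ y ∈ E₀ p', polar q x y = 0 := by
    rintro ⟨i, j⟩ ⟨i', j'⟩ hne x hx y hy
    by_cases hi : i = i'
    · subst hi
      fin_cases j <;> fin_cases j'
      · exact absurd rfl hne
      · exact horth i x hx y hy
      · rw [polar_comm]; exact horth i y hy x hx
      · exact absurd rfl hne
    · exact hD.decomp.orthogonal i i' hi x ((hE0 (i, j)).2.2.1 hx) y ((hE0 (i', j')).2.2.1 hy)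
  have hEn : ∀ a, QuadClassify.Nondeg q (E a) := fun a => (hE0 _).1
  have hEorth : ∀ a b, a ≠ b → ∀ x ∈ E a, ∀ y ∈ E b, polar q x y = 0 := fun a b hab =>
    hEo _ _ fun h => hab (ν.injective h)
  have hind := AschEvenType44.indep_of_orth hEn hEorth
  have htop : iSup E = ⊤ := by
    rw [eq_top_iff, ← hD.decomp.decomp.iSup_eq_top]
    refine iSup_le fun i => ?_
    rw [← hsup i]
    exact sup_le (le_iSup_of_le (ν.symm (i, 0)) (by simp [E, E₀])) (le_iSup_of_le (ν.symm (i, 1)) (by simp [E, E₀]))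
  refine ⟨E, ⟨⟨⟨by norm_num, by norm_num, fun a => (hE0 _).2.1, hind, htop⟩,
    fun a => AschEvenType44.nondeg_iff.2 (hEn a), hEorth⟩, fun a b => ?_⟩, fun a => (hE0 _).2.2.2, fun g hg => ?_⟩
  · exact AschEvenType44.isometric_of_type (hEn a) (hEn b) (m := 1) (hE0 _).2.1 (hE0 _).2.1
      (iff_of_false (hE0 _).2.2.2 (hE0 _).2.2.2)
  · -- nonsingular vectors of a member lie in one of its planes
    have hcover : ∀ i, ∀ x ∈ D i, q x = 1 → x ∈ P i ∨ x ∈ P' i := by
      intro i x hx hqx
      obtain ⟨a, ha, b, hb, rfl⟩ := Submodule.mem_sup.1 ((hsup i).ge hx)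
      rw [QuadraticMap.map_add q, horth i a ha b hb, add_zero] at hqx
      rcases h01 (q a) with h | h
      · rw [haniso _ (hPd i) (hPnp i) a ha h, zero_add]; exact Or.inr hb
      · rw [h, add_eq_left] at hqx
        rw [haniso _ (hP'd i) (hP'np i) b hb hqx, add_zero]; exact Or.inl ha
    obtain ⟨σ, hσ⟩ := hle hg
    have hinj : Function.Injective (Matrix.toLin' (g : Matrix (Fin n) (Fin n) F)) :=
      fun x y hxy => (act g).injective (by simpa using hxy)
    have himg : ∀ a, ∃ b, (E a).map (Matrix.toLin' (g : Matrix (Fin n) (Fin n) F)) = E b := by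
      intro a
      set M := (E a).map (Matrix.toLin' (g : Matrix (Fin n) (Fin n) F))
      have hMd : finrank F M = 2 := by
        rw [← (Submodule.equivMapOfInjective _ hinj (E a)).finrank_eq]; exact (hE0 _).2.1
      have hMD : M ≤ D (σ (ν a).1) := (Submodule.map_mono (hE0 _).2.2.1).trans (hσ _).le
      have hM : ∀ x ∈ M, x ∈ P (σ (ν a).1) ∨ x ∈ P' (σ (ν a).1) := by
        intro x hx
        by_cases hx0 : x = 0
        · subst hx0; exact Or.inl (Submodule.zero_mem _)
        refine hcover _ x (hMD hx) ((h01 _).resolve_left fun h0 => ?_)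
        obtain ⟨y, hy, rfl⟩ := hx
        rw [Matrix.toLin'_apply, AschEvenBase44.omega_quad (hH hg)] at h0
        exact hx0 (by rw [haniso _ (hE0 _).2.1 (hE0 _).2.2.2 y hy h0, map_zero])
      by_cases hin : M ≤ P (σ (ν a).1)
      · exact ⟨ν.symm (σ (ν a).1, 0), by
          simp only [E, E₀, Equiv.apply_symm_apply, if_true]
          exact Submodule.eq_of_le_of_finrank_le hin (by rw [hPd, hMd])⟩
      · refine ⟨ν.symm (σ (ν a).1, 1), ?_⟩
        simp only [E, E₀, Equiv.apply_symm_apply, if_neg (show ¬ (1 : Fin 2) = 0 by decide)]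
        refine Submodule.eq_of_le_of_finrank_le (fun x hx => ?_) (by rw [hP'd, hMd])
        obtain ⟨y, hy, hyn⟩ := SetLike.not_le_iff_exists.1 hin
        have hy' := (hM y hy).resolve_left hyn
        rcases hM x hx with h | h
        · rcases hM (x + y) (M.add_mem hx hy) with h' | h'
          · exact absurd (by simpa using (P _).sub_mem h' h) hyn
          · simpa using (P' _).sub_mem h' hy'
        · exact h
    choose π hπ using himg
    have hinjπ : Function.Injective π := fun a b hab => by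
      by_contra hne
      have h1 : (E a).map (Matrix.toLin' (g : Matrix (Fin n) (Fin n) F)) =
          (E b).map (Matrix.toLin' (g : Matrix (Fin n) (Fin n) F)) := by rw [hπ, hπ, hab]
      have h3 := Submodule.map_injective_of_injective hinj h1
      have h4 := (hind.pairwiseDisjoint hne)
      rw [Function.onFun, h3, disjoint_self] at h4
      have h5 := (hE0 (ν b)).2.1
      rw [show E₀ (ν b) = ⊥ from h4, finrank_bot] at h5
      omega
    exact ⟨Equiv.ofBijective π ⟨hinjπ, Finite.surjective_of_injective hinjπ⟩, hπ⟩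

/-- a totally singular subspace has at most half the dimension -/
theorem ts_half (hnd : (polarBilin q).Nondegenerate) {U : Submodule F (Fin n → F)}
    (hU : IsTotallySingularQuad (⇑q) U) : 2 * finrank F U ≤ n := by
  have h := AschCase.singular_le_half (AschEvenBase44.formData hnd) (W := U) fun u hu v hv => by
    simp only [polar, hU u hu, hU v hv, hU _ (U.add_mem hu hv), sub_self]
  simpa using h

/-- an irreducible group fixes no proper subspace -/
theorem no_invariant (hirr : Irred H) {W : Submodule F (Fin n → F)} (hi : AschPrimeBasic.Inv H W)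
    (hb : W ≠ ⊥) (ht : W ≠ ⊤) : False :=
  (hirr W hi).elim hb ht

/-- the members in the reducible case -/
theorem reducible_member (hn : 7 ≤ n) (hnd : (polarBilin q).Nondegenerate) (hmax : IsMaximalIn (omegaGL ⇑q) H)
    (hred : ¬ Irred H) :
    (∃ U : Submodule F (Fin n → F), U ≠ ⊥ ∧ IsTotallySingularQuad (⇑q) U ∧ 2 * finrank F U ≤ n ∧
      AschPrimeBasic.Inv H U ∧ H = subspaceStabilizer U ⊓ omegaGL ⇑q) ∨
    (¬ Odd (Fintype.card F) ∧ ∃ v : Fin n → F, q v ≠ 0 ∧
      H = subspaceStabilizer (Submodule.span F {v}) ⊓ omegaGL ⇑q) ∨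
    (∃ U : Submodule F (Fin n → F), U ≠ ⊥ ∧ U ≠ ⊤ ∧ IsNondegenerateOn (polar ⇑q) U ∧ 2 * finrank F U ≤ n ∧
      1 ≤ finrank F U ∧ H = subspaceStabilizer U ⊓ omegaGL ⇑q ∧ (Odd (finrank F U) → Odd (Fintype.card F)) ∧
      (finrank F U = 2 → IsPlusTypeOn (⇑q) U → 4 ≤ Fintype.card F) ∧
      (2 * finrank F U = n → ∃ U' : Submodule F (Fin n → F), finrank F U' = finrank F U ∧
        IsNondegenerateOn (polar ⇑q) U' ∧ IsNondegenerateMDecomposition (polar ⇑q) (finrank F U) ![U, U'] ∧
        H ≤ decompositionStabilizer ![U, U'])) := by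
  have hH : H ≤ omegaGL ⇑q := hmax.1.le
  rcases AschEvenReduce44.reducible_cases hnd hH hred with ⟨U, hb, hts, hi⟩ | ⟨h2, v, hv, hi⟩ |
    ⟨U, U', hi, hi', hU, hU', ho, hinf, hsup, h1, hle, hsum⟩
  · have hh := ts_half hnd hts
    exact Or.inl ⟨U, hb, hts, hh, hi, subspace_member hn hnd hmax hi hb (ne_top_of_finrank (by omega))⟩
  · have hv0 : v ≠ 0 := fun h => hv (by rw [h, QuadraticMap.map_zero])
    refine Or.inr (Or.inl ⟨fun ho => AschEvenBase44.two_ne_zero_of_odd ho h2, v, hv,
      subspace_member hn hnd hmax hi (by simpa using hv0) (ne_top_of_finrank ?_)⟩)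
    rw [finrank_span_singleton hv0]; omega
  rw [Fintype.card_fin] at hsum
  have hodd : Odd (finrank F U) → Odd (Fintype.card F) := fun ho' => AschEvenBase44.odd_of_two_ne_zero
    (AschEvenReduce44.two_ne_zero_of_odd_dim (AschEvenType44.nondeg_iff.1 hU) ho')
  by_cases hpl : finrank F U = 2 ∧ IsPlusTypeOn (⇑q) U ∧ Fintype.card F ≤ 3
  · obtain ⟨hd, hp, hq3⟩ := hpl
    obtain ⟨v, hv, hiv⟩ := AschEvenReduce44.plane_point hH hq3 hi hU hd hp
    have hv0 : v ≠ 0 := fun h => zero_ne_one (α := F) (by rw [← hv, h, QuadraticMap.map_zero])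
    have hd1 : finrank F (Submodule.span F {v}) = 1 := finrank_span_singleton hv0
    have hb : Submodule.span F {v} ≠ ⊥ := ne_bot_of_finrank (by omega)
    have ht : Submodule.span F {v} ≠ ⊤ := ne_top_of_finrank (by omega)
    by_cases h2 : (2 : F) = 0
    · exact Or.inr (Or.inl ⟨fun ho => AschEvenBase44.two_ne_zero_of_odd ho h2, v,
        by rw [hv]; exact one_ne_zero, subspace_member hn hnd hmax hiv hb ht⟩)
    refine Or.inr (Or.inr ⟨_, hb, ht, AschEvenType44.nondeg_iff.2 fun u hu huv => ?_, by omega, by omega,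
      subspace_member hn hnd hmax hiv hb ht, fun _ => AschEvenBase44.odd_of_two_ne_zero h2,
      fun h => by omega, fun h => by omega⟩)
    obtain ⟨c, rfl⟩ := Submodule.mem_span_singleton.1 hu
    have h3 := huv v (Submodule.mem_span_singleton_self v)
    rw [polar_smul_left, AschEvenBase44.polar_self_eq, hv, mul_one, smul_eq_mul] at h3
    rw [(mul_eq_zero.1 h3).resolve_right h2, zero_smul]
  · refine Or.inr (Or.inr ⟨U, ne_bot_of_finrank (by omega), ne_top_of_finrank (by omega), hU, by omega, h1,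
      subspace_member hn hnd hmax hi (ne_bot_of_finrank (by omega)) (ne_top_of_finrank (by omega)), hodd,
      fun hd hp => ?_, fun hd => ?_⟩)
    · by_contra hc
      exact hpl ⟨hd, hp, by omega⟩
    · obtain ⟨hD, hDle⟩ := pair_decomp (by omega) rfl (by omega : finrank F U' = finrank F U) hU hU' ho hinf hsup hi hi'
      exact ⟨U', by omega, hU', hD, hDle⟩

end Cfsg.Agent.AschEvenCases44
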