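/-
Aschbacher's theorem, linear case in arbitrary dimension, part 5: the stabilisers are proper, and the small-field
stabilisers that lie in other stabilisers.
-/
import Cfsg.Agent.Lib.AschGenLinear
import Cfsg.Agent.Lib.AschPrimeLinear

set_option autoImplicit false

namespace Cfsg.Agent.AschGenMaximal

open scoped Matrix Kronecker commutatorElement
open Cfsg Cfsg.Geo Cfsg.Agent.AschPrimeBasic Cfsg.Agent.AschPrimeForms Cfsg.Agent.AschGenAlgebra
  Cfsg.Agent.AschGenTensor Cfsg.Agent.AschGenExtra Cfsg.Agent.AschGenLinear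

variable {ι : Type} [Fintype ι] [DecidableEq ι] {F : Type*} [Field F]

/-! ### properness -/

lemma sl_not_le_decompositionStabilizer {t m : ℕ} {D : Fin t → Submodule F (ι → F)} (hD : IsMDecomposition m D) :
    ¬ specialLinear ι F ≤ decompositionStabilizer D := by
  intro hle
  let a : Fin t := ⟨0, by have := hD.two_le; omega⟩
  let b : Fin t := ⟨1, by have := hD.two_le; omega⟩
  have hab : a ≠ b := by simp [a, b, Fin.ext_iff]
  have hne : ∀ i, D i ≠ ⊥ := fun i h => by
    have := hD.finrank_eq i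
    rw [h, finrank_bot] at this
    have := hD.pos
    omega
  obtain ⟨x, hx, hx0⟩ := (Submodule.ne_bot_iff _).1 (hne a)
  obtain ⟨y, hy, hy0⟩ := (Submodule.ne_bot_iff _).1 (hne b)
  have hdis : ∀ {i k : Fin t} {v : ι → F}, i ≠ k → v ∈ D i → v ∈ D k → v = 0 := fun h h1 h2 =>
    (Submodule.disjoint_def.1 (hD.indep.pairwiseDisjoint h)) _ h1 h2
  obtain ⟨φ, hφx, hφy⟩ : ∃ φ : (ι → F) →ₗ[F] F, φ x = 1 ∧ φ y = 0 := by
    have hnm : x ∉ Submodule.span F {y} := fun h => by
      obtain ⟨c, hc⟩ := Submodule.mem_span_singleton.1 h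
      exact hx0 (hdis hab hx (hc ▸ (D b).smul_mem c hy))
    obtain ⟨ψ, hψ⟩ := Submodule.exists_dual_map_eq_bot_of_notMem hnm inferInstance
    refine ⟨(ψ x)⁻¹ • ψ, by simp [inv_mul_cancel₀ hψ.1], ?_⟩
    have : ψ y ∈ (Submodule.span F {y}).map ψ := ⟨y, Submodule.mem_span_singleton_self y, rfl⟩
    rw [hψ.2, Submodule.mem_bot] at this
    simp [this]
  let M : Matrix ι ι F := 1 + Matrix.vecMulVec y (fun i => φ (Pi.single i 1))
  have hφv : ∀ v, (fun i => φ (Pi.single i 1)) ⬝ᵥ v = φ v := fun v => by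
    conv_rhs => rw [pi_eq_sum_univ' v]
    simp [dotProduct, mul_comm]
  have hdet : M.det = 1 := by
    simp only [M, Matrix.vecMulVec_eq Unit, Matrix.det_one_add_replicateCol_mul_replicateRow, hφv, hφy, add_zero]
  let g : GL ι F := Matrix.GeneralLinearGroup.mkOfDetNeZero M (by rw [hdet]; exact one_ne_zero)
  obtain ⟨σ, hσ⟩ := hle (x := g) ((mem_sl_iff g).2 hdet)
  have hgx : x + y ∈ D (σ a) := by
    rw [← hσ a]
    refine ⟨x, hx, ?_⟩
    show Matrix.toLin' M x = x + y
    simp [M, Matrix.add_mulVec, Matrix.vecMulVec_mulVec, hφv, hφx]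
  by_cases hca : σ a = a
  · rw [hca] at hgx
    exact hy0 (hdis hab (by simpa using (D a).sub_mem hgx hx) hy)
  by_cases hcb : σ a = b
  · rw [hcb] at hgx
    exact hx0 (hdis hab hx (by simpa using (D b).sub_mem hgx hy))
  have hdd : Disjoint (D (σ a)) (D a ⊔ D b) :=
    (hD.indep.disjoint_biSup (x := σ a) (y := {a, b}) (by simp [hca, hcb])).mono_right
      (sup_le (le_biSup D (by simp)) (le_biSup D (by simp)))
  have h4 : x + y = 0 := (Submodule.disjoint_def.1 hdd) _ hgx (Submodule.add_mem_sup hx hy)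
  exact hx0 (hdis hab hx (by simpa [eq_neg_of_add_eq_zero_left h4] using (D b).neg_mem hy))

lemma sl_not_le_tensor {k m : ℕ} (hk : 2 ≤ k) (hm : 2 ≤ m) (e : ι ≃ Fin k × Fin m) (P : GL ι F) :
    ¬ specialLinear ι F ≤ tensorProductSubgroup k m e P := by
  intro hle
  let k0 : Fin k := ⟨0, by omega⟩
  let k1 : Fin k := ⟨1, by omega⟩
  let m0 : Fin m := ⟨0, by omega⟩
  let m1 : Fin m := ⟨1, by omega⟩
  have hne : e.symm (k0, m0) ≠ e.symm (k1, m1) := by simp [k0, k1, Fin.ext_iff]
  obtain ⟨-, ⟨g, ⟨a, b, hab⟩, rfl⟩, hg⟩ := hle (conj_mem_sl P _ (tv_mem _ _ hne (1 : F)))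
  have hg' : glReindex e.symm g = tv _ _ hne (1 : F) := by
    have := congrArg (fun u => P⁻¹ * u * P) hg
    simpa [mul_assoc] using this
  have hent : ∀ i i' : Fin k, ∀ j j' : Fin m, (a : Matrix (Fin k) (Fin k) F) i i' * (b : Matrix (Fin m) (Fin m) F) j j' =
      Matrix.transvection (e.symm (k0, m0)) (e.symm (k1, m1)) (1 : F) (e.symm (i, j)) (e.symm (i', j')) := by
    intro i i' j j'
    rw [← tv_val _ _ hne, ← hg']
    show _ = (g : Matrix (Fin k × Fin m) (Fin k × Fin m) F) (e.symm.symm (e.symm (i, j))) (e.symm.symm (e.symm (i', j')))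
    simp [hab]
  have e1 := hent k0 k0 m0 m0
  have e2 := hent k0 k1 m0 m1
  have e3 := hent k0 k0 m0 m1
  simp [Matrix.transvection, k0, k1, m0, m1, Fin.ext_iff] at e1 e2 e3
  rcases e3 with h | h
  · simp [h] at e1
  · simp [h] at e2

lemma mem_standard {k t : ℕ} {g : GL (Fin t → Fin k) F} (hg : g ∈ tensorWreathStandard k t F) :
    ∃ gs σ, g = pureUnit gs * permUnit σ := by
  have hpm : ∀ (σ : Equiv.Perm (Fin t)) (gs : Fin t → GL (Fin k) F),
      permUnit σ * pureUnit gs = pureUnit (fun i => gs (σ.symm i)) * permUnit σ := fun σ gs =>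
    Units.ext (permMat_pureMat σ fun i => (gs i : Matrix (Fin k) (Fin k) F))
  have hpp : ∀ gs hs : Fin t → GL (Fin k) F, pureUnit gs * pureUnit hs = pureUnit (fun i => gs i * hs i) :=
    fun gs hs => Units.ext (pureMat_mul _ _)
  have hss : ∀ σ τ : Equiv.Perm (Fin t), (permUnit σ : GL (Fin t → Fin k) F) * permUnit τ = permUnit (σ * τ) :=
    fun σ τ => Units.ext (by
      ext x y
      show ((permMat σ * permMat τ : Matrix (Fin t → Fin k) (Fin t → Fin k) F)) x y = (permMat (σ * τ) : Matrix (Fin t → Fin k) (Fin t → Fin k) F) x y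
      rw [permMat_mul]
      simp [permMat, Function.comp_assoc, Equiv.Perm.coe_mul]
      congr 1)
  have h1 : pureUnit (fun _ : Fin t => (1 : GL (Fin k) F)) * permUnit 1 = 1 := by
    refine Units.ext ?_
    show (pureMat (fun _ => (1 : Matrix (Fin k) (Fin k) F)) * permMat 1 : Matrix (Fin t → Fin k) (Fin t → Fin k) F) = 1
    rw [pureMat_one, one_mul]
    ext x y
    simp [permMat, Matrix.one_apply, eq_comm]
  induction hg using Subgroup.closure_induction with
  | mem g hg =>
    rcases hg with ⟨gs, hgs⟩ | ⟨σ, hσ⟩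
    · refine ⟨gs, 1, Units.ext (Matrix.ext fun x y => ?_)⟩
      rw [Units.val_mul, hgs]
      show _ = (pureMat (fun i => (gs i : Matrix (Fin k) (Fin k) F)) * permMat 1 : Matrix (Fin t → Fin k) (Fin t → Fin k) F) x y
      rw [mul_permMat]
      simp [pureMat, Equiv.Perm.one_def]
    · refine ⟨fun _ => 1, σ, Units.ext (Matrix.ext fun x y => ?_)⟩
      rw [Units.val_mul, hσ]
      show _ = (pureMat (fun _ => (1 : Matrix (Fin k) (Fin k) F)) * permMat σ : Matrix (Fin t → Fin k) (Fin t → Fin k) F) x y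
      rw [pureMat_one, one_mul]
      rfl
  | one => exact ⟨_, _, h1.symm⟩
  | mul a b _ _ ha hb =>
    obtain ⟨gs, σ, rfl⟩ := ha
    obtain ⟨hs, τ, rfl⟩ := hb
    exact ⟨_, σ * τ, by rw [mul_assoc, ← mul_assoc (permUnit σ), hpm, mul_assoc, hss, ← mul_assoc, hpp]⟩
  | inv a _ ha =>
    obtain ⟨gs, σ, rfl⟩ := ha
    have h2 : (pureUnit gs)⁻¹ = pureUnit fun i => (gs i)⁻¹ := Units.ext rfl
    have h3 : (permUnit σ : GL (Fin t → Fin k) F)⁻¹ = permUnit σ.symm := Units.ext rfl
    exact ⟨_, σ.symm, by rw [mul_inv_rev, h2, h3, hpm]⟩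

lemma sl_not_le_wreath {k t : ℕ} (hk : 2 ≤ k) (ht : 2 ≤ t) (e : ι ≃ (Fin t → Fin k)) (P : GL ι F) :
    ¬ specialLinear ι F ≤ tensorWreathSubgroup k t e P := by
  intro hle
  let k0 : Fin k := ⟨0, by omega⟩
  let k1 : Fin k := ⟨1, by omega⟩
  let t0 : Fin t := ⟨0, by omega⟩
  let t1 : Fin t := ⟨1, by omega⟩
  let x0 : Fin t → Fin k := fun _ => k0
  let x1 : Fin t → Fin k := fun _ => k1
  let x2 : Fin t → Fin k := Function.update x0 t0 k1
  have h01 : x0 ≠ x1 := fun h => by simpa [x0, x1, k0, k1] using congrFun h t0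
  have h02 : x0 ≠ x2 := fun h => by simpa [x0, x2, k0, k1] using congrFun h t0
  have h12 : x1 ≠ x2 := fun h => by simpa [x0, x1, x2, k0, k1, t0, t1, Fin.ext_iff] using congrFun h t1
  have hne : e.symm x0 ≠ e.symm x1 := by simp [h01]
  obtain ⟨-, ⟨g, hgm, rfl⟩, hg⟩ := hle (conj_mem_sl P _ (tv_mem _ _ hne (1 : F)))
  have hg' : glReindex e.symm g = tv _ _ hne (1 : F) := by
    have := congrArg (fun u => P⁻¹ * u * P) hg
    simpa [mul_assoc] using this
  obtain ⟨gs, σ, rfl⟩ := mem_standard hgm
  have hent : ∀ y, ∏ i, (gs i : Matrix (Fin k) (Fin k) F) k0 (y (σ.symm i)) =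
      Matrix.transvection (e.symm x0) (e.symm x1) (1 : F) (e.symm x0) (e.symm y) := by
    intro y
    rw [← tv_val _ _ hne, ← hg']
    show _ = (pureMat (fun i => (gs i : Matrix (Fin k) (Fin k) F)) * permMat σ : Matrix (Fin t → Fin k) (Fin t → Fin k) F) (e.symm.symm (e.symm x0))
      (e.symm.symm (e.symm y))
    rw [mul_permMat]
    simp [pureMat, x0]
  have e1 := hent x0
  have e2 := hent x1
  have e3 := hent x2
  rw [Matrix.transvection] at e1 e2 e3
  simp [h01, h02, h12, Ne.symm h01, Ne.symm h02] at e1 e2 e3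
  obtain ⟨i, -, hi⟩ := Finset.prod_eq_zero_iff.1 e3
  by_cases h : σ.symm i = t0
  · simp only [x2, h, Function.update_self] at hi
    have : (∏ j, (gs j : Matrix (Fin k) (Fin k) F) k0 (x1 (σ.symm j))) = 0 :=
      Finset.prod_eq_zero (Finset.mem_univ i) (by simpa [x1] using hi)
    simp [x1] at this
    simp [x1] at e2
    exact one_ne_zero (e2.symm.trans (Finset.prod_eq_zero_iff.2 ⟨i, Finset.mem_univ i, hi⟩))
  · simp only [x2, Function.update_of_ne h] at hi
    simp [x0] at e1
    exact one_ne_zero (e1.symm.trans (Finset.prod_eq_zero_iff.2 ⟨i, Finset.mem_univ i, hi⟩))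

/-! ### decompositions -/

/-- a basis adapted to a decomposition -/
lemma decomposition_basis {t m : ℕ} {D : Fin t → Submodule F (ι → F)} (hD : IsMDecomposition m D) :
    Fintype.card ι = t * m ∧ ∃ b : Module.Basis (Fin t × Fin m) F (ι → F), ∀ i j, b (i, j) ∈ D i := by
  have hint : DirectSum.IsInternal D :=
    DirectSum.isInternal_submodule_of_iSupIndep_of_iSup_eq_top hD.indep hD.iSup_eq_top
  let b0 := hint.collectedBasis fun i => Module.finBasisOfFinrankEq F (D i) (hD.finrank_eq i)
  let b := b0.reindex (Equiv.sigmaEquivProd (Fin t) (Fin m))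
  refine ⟨?_, b, fun i j => ?_⟩
  · have := Module.finrank_eq_card_basis b
    simpa using this
  · simp only [b, Module.Basis.reindex_apply, b0]
    exact hint.collectedBasis_mem _ ((Equiv.sigmaEquivProd _ _).symm (i, j))

variable [Fintype F]

/-- monomial groups over the fields with at most four elements -/
lemma lines_small (h3 : 3 ≤ Fintype.card ι) {t : ℕ} {D : Fin t → Submodule F (ι → F)} (hD : IsMDecomposition 1 D)
    {H : Subgroup (GL ι F)} (hle : H ≤ decompositionStabilizer D) (hq : Fintype.card F < 5) :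
    (∃ W : Submodule F (ι → F), W ≠ ⊥ ∧ W ≠ ⊤ ∧ H ≤ subspaceStabilizer W) ∨
    (∃ (σ : F ≃+* F) (f : (ι → F) → (ι → F) → F), IsUnitaryForm σ f ∧ H ≤ similarityGroup f) ∨
    (∃ Q : (ι → F) → F, Odd (Fintype.card F) ∧ IsNondegenerateQuadraticForm Q ∧ H ≤ quadSimilarityGroup Q) := by
  classical
  have : Nonempty ι := Fintype.card_pos_iff.1 (by omega)
  have ht : t = Fintype.card ι := by rw [(decomposition_basis hD).1, mul_one]
  subst ht
  obtain ⟨B, hB⟩ := AschPrimeLinear.lines_mono hD
  have hB' : ∀ h ∈ H, AschPrimeExtra.IsMono (Fintype.card F - 1) ((B⁻¹ * h * B⁻¹⁻¹ : GL ι F) : Matrix ι ι F) :=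
    fun h hh => by rw [inv_inv]; exact hB h (hle hh)
  obtain h | h | h : Fintype.card F = 2 ∨ Fintype.card F = 3 ∨ Fintype.card F = 4 := by
    have := Fintype.one_lt_card (α := F)
    omega
  · left
    let w : ι → F := (B : Matrix ι ι F) *ᵥ fun _ => 1
    have hinv : Inv H (Submodule.span F {w}) := by
      intro g hg x hx
      obtain ⟨c, rfl⟩ := Submodule.mem_span_singleton.1 hx
      obtain ⟨π, a, ha, hM⟩ := hB g (hle hg)
      have h1 : ((B⁻¹ * g * B : GL ι F) : Matrix ι ι F) *ᵥ (fun _ => 1) = fun _ => 1 := by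
        funext k
        have := AschPrimeLinear.mono_mulVec hM (fun _ => 1) (π.symm k)
        have ha' := ha (π.symm k)
        rw [h, show (2 : ℕ) - 1 = 1 from rfl, pow_one] at ha'
        simpa [ha'] using this
      have h2 : (g : Matrix ι ι F) *ᵥ w = w := by
        have := congrArg (fun u => (B : Matrix ι ι F) *ᵥ u) h1
        simpa [w, Matrix.mulVec_mulVec, mul_assoc] using this
      rw [Matrix.mulVec_smul, h2]
      exact Submodule.smul_mem _ c (Submodule.mem_span_singleton_self w)
    have hw : w ≠ 0 := fun h0 => by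
      have := inv_mulVec_mulVec B (fun _ => (1 : F))
      simp only [w] at h0
      rw [h0, Matrix.mulVec_zero] at this
      exact zero_ne_one (α := F) (congrFun this (Classical.arbitrary ι))
    refine ⟨_, fun h' => hw (Submodule.span_singleton_eq_bot.1 h'), fun h' => ?_, (inv_iff_le_stabilizer _ _).1 hinv⟩
    have := finrank_span_singleton (K := F) hw
    rw [h', finrank_top, Module.finrank_pi] at this
    omega
  · have h2 : (2 : F) ≠ 0 := by
      intro h2
      have h1 := Nat.cast_card_eq_zero F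
      rw [h] at h1
      push_cast at h1
      exact one_ne_zero (α := F) (by linear_combination h1 - h2)
    refine Or.inr (Or.inr ⟨_, odd_card_of_two_ne_zero h2, AschPrimeLinear.twistQ_nondegenerate h2 B⁻¹,
      fun g hg => ⟨1, fun v => ?_⟩⟩)
    have := AschPrimeLinear.twist_fix (RingEquiv.refl F) (fun a ha => by
      rw [h, show (3 : ℕ) - 1 = 2 from rfl, sq] at ha
      simpa using ha) (hB' g hg) v v
    simp only [AschPrimeLinear.twist, RingEquiv.refl_apply, ← sq] at this
    simpa [AschPrimeLinear.twistQ] using this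
  · obtain ⟨p, hp⟩ := CharP.exists F
    obtain ⟨e, hpp, he⟩ := FiniteField.card F p
    have hp2 : p = 2 := by
      have : p ∣ 2 ^ 2 := by
        rw [show (2 : ℕ) ^ 2 = Fintype.card F by rw [h]; rfl, he]
        exact dvd_pow_self p e.pos.ne'
      exact (Nat.prime_dvd_prime_iff_eq hpp Nat.prime_two).1 (hpp.dvd_of_dvd_pow this)
    subst hp2
    haveI : Fact (Nat.Prime 2) := ⟨hpp⟩
    let σ := frobeniusEquiv F 2
    have hσ : ∀ x, σ x = x ^ 2 := fun x => frobeniusEquiv_def F 2 x
    have hinv : ∀ x, σ (σ x) = x := fun x => by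
      rw [hσ, hσ, ← pow_mul, show 2 * 2 = Fintype.card F by rw [h]]
      exact FiniteField.pow_card x
    have hne : σ ≠ RingEquiv.refl F := by
      intro hr
      obtain ⟨x, hx0, hx1⟩ : ∃ x : F, x ≠ 0 ∧ x ≠ 1 := by
        by_contra hcon
        push Not at hcon
        have h1 : Fintype.card F ≤ ({0, 1} : Finset F).card := by
          rw [← Finset.card_univ]
          refine Finset.card_le_card fun x _ => ?_
          by_cases hx : x = 0 <;> simp [hx, hcon x]
        have := Finset.card_le_two (a := (0 : F)) (b := 1)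
        omega
      have h1 : x ^ 2 = x := by rw [← hσ, hr, RingEquiv.refl_apply]
      exact hx1 (mul_left_cancel₀ hx0 (by rw [mul_one, ← sq, h1]))
    refine Or.inr (Or.inl ⟨σ, _, AschPrimeLinear.twist_unitary hne hinv B⁻¹, fun g hg => ⟨1, fun u v => ?_⟩⟩)
    rw [Units.val_one, one_mul]
    exact AschPrimeLinear.twist_fix σ (fun a ha => by
      rw [h, show (4 : ℕ) - 1 = 3 from rfl] at ha
      rw [hσ, ← ha]; ring) (hB' g hg) u v

/-- decompositions into planes over very small fields preserve a symplectic form up to scalars -/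
lemma planes_symplectic {t : ℕ} {D : Fin t → Submodule F (ι → F)} (hD : IsMDecomposition 2 D)
    {H : Subgroup (GL ι F)} (hsl : H ≤ specialLinear ι F) (hle : H ≤ decompositionStabilizer D)
    (hq : Fintype.card F = 2 ∨ (t = 2 ∧ Fintype.card F ≤ 3)) :
    ∃ f : (ι → F) → (ι → F) → F, IsSymplecticForm f ∧ H ≤ similarityGroup f := by
  classical
  obtain ⟨hn, b, hb⟩ := decomposition_basis hD
  let w : (ι → F) → Fin t × Fin 2 → F := fun v => b.equivFun v
  let f : (ι → F) → (ι → F) → F := fun u v => ∑ i, (w u (i, 0) * w v (i, 1) - w u (i, 1) * w v (i, 0))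
  have hbil : IsBilinearForm f := by
    refine ⟨fun x y v => ?_, fun c x v => ?_, fun v x y => ?_, fun c v x => ?_⟩
    · simp only [f, w, map_add, Pi.add_apply, ← Finset.sum_add_distrib]
      exact Finset.sum_congr rfl fun i _ => by ring
    · simp only [f, w, map_smul, Pi.smul_apply, smul_eq_mul, Finset.mul_sum]
      exact Finset.sum_congr rfl fun i _ => by ring
    · simp only [f, w, map_add, Pi.add_apply, ← Finset.sum_add_distrib]
      exact Finset.sum_congr rfl fun i _ => by ring
    · simp only [f, w, map_smul, Pi.smul_apply, smul_eq_mul, Finset.mul_sum]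
      exact Finset.sum_congr rfl fun i _ => by ring
  have hwb : ∀ p q, w (b p) q = if p = q then 1 else 0 := fun p q => by
    simp [w, Module.Basis.equivFun_apply, Finsupp.single_apply]
  have halt : ∀ v, f v v = 0 := fun v => Finset.sum_eq_zero fun i _ => by ring
  have hskew : ∀ v u, f v u = - f u v := fun v u => by
    simp only [f, ← Finset.sum_neg_distrib]
    exact Finset.sum_congr rfl fun i _ => by ring
  have hnd' : ∀ v, v ≠ 0 → ∃ x, f v x ≠ 0 := by
    intro v hv
    obtain ⟨⟨i, j⟩, hij⟩ := Function.ne_iff.1 (fun h => hv (b.equivFun.map_eq_zero_iff.1 h))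
    have hij' : w v (i, j) ≠ 0 := hij
    fin_cases j
    · refine ⟨b (i, 1), ?_⟩
      simp only [f, hwb]
      rw [Finset.sum_eq_single i] <;> simp +contextual [eq_comm]
      exact Ne.symm hij'
    · refine ⟨b (i, 0), ?_⟩
      simp only [f, hwb]
      rw [Finset.sum_eq_single i] <;> simp +contextual [eq_comm]
      exact Ne.symm hij'
  refine ⟨f, ⟨hbil, hskew, halt, fun v hv => ?_⟩, fun g hg => ?_⟩
  · obtain ⟨x, hx⟩ := hnd' v hv
    exact ⟨⟨x, by rw [hskew, neg_ne_zero]; exact hx⟩, ⟨x, hx⟩⟩
  obtain ⟨τ, hτ⟩ := hle hg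
  -- the blocks
  let A : Fin t → Matrix (Fin 2) (Fin 2) F := fun i => Matrix.of fun a c => w ((g : Matrix ι ι F) *ᵥ b (i, c)) (τ i, a)
  have hcol : ∀ i c p, w ((g : Matrix ι ι F) *ᵥ b (i, c)) p = if p.1 = τ i then A i p.2 c else 0 := by
    intro i c ⟨j, a⟩
    by_cases hj : j = τ i
    · subst hj; simp [A]
    rw [if_neg hj]
    have hmem : (g : Matrix ι ι F) *ᵥ b (i, c) ∈ D (τ i) := hτ i ▸ ⟨b (i, c), hb i c, by simp⟩
    have hsub : D (τ i) ≤ LinearMap.ker ((LinearMap.proj (j, a)).comp b.equivFun.toLinearMap) := by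
      have hspan : D (τ i) = Submodule.span F (Set.range fun c => b (τ i, c)) := by
        refine (Submodule.eq_of_le_of_finrank_eq (Submodule.span_le.2 ?_) ?_).symm
        · rintro _ ⟨c, rfl⟩; exact hb _ c
        · have hind : LinearIndependent F fun c : Fin 2 => b (τ i, c) :=
            b.linearIndependent.comp (fun c => (τ i, c)) (fun x y h => (Prod.ext_iff.1 h).2)
          rw [finrank_span_eq_card hind, hD.finrank_eq, Fintype.card_fin]
      rw [hspan, Submodule.span_le]
      rintro _ ⟨c, rfl⟩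
      simp [Finsupp.single_apply, Module.Basis.equivFun_apply]
      exact fun h => absurd h.symm hj
    simpa [w] using hsub hmem
  have hw : ∀ v i a, w ((g : Matrix ι ι F) *ᵥ v) (τ i, a) = A i a 0 * w v (i, 0) + A i a 1 * w v (i, 1) := by
    intro v i a
    conv_lhs => rw [← b.sum_equivFun v]
    simp only [Matrix.mulVec_sum, Matrix.mulVec_smul, w, map_sum, map_smul, Finset.sum_apply, Pi.smul_apply, smul_eq_mul]
    rw [Fintype.sum_prod_type, Finset.sum_eq_single i]
    · simp only [Fin.sum_univ_two]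
      rw [show b.equivFun ((g : Matrix ι ι F) *ᵥ b (i, 0)) (τ i, a) = A i a 0 from rfl,
        show b.equivFun ((g : Matrix ι ι F) *ᵥ b (i, 1)) (τ i, a) = A i a 1 from rfl]
      ring
    · intro j _ hj
      refine Finset.sum_eq_zero fun c _ => ?_
      have := hcol j c (τ i, a)
      rw [if_neg (fun h => hj (τ.injective h).symm)] at this
      simp only [w] at this
      rw [this, mul_zero]
    · simp
  have hf : ∀ u v, f ((g : Matrix ι ι F) *ᵥ u) ((g : Matrix ι ι F) *ᵥ v) =
      ∑ i, (A i).det * (w u (i, 0) * w v (i, 1) - w u (i, 1) * w v (i, 0)) := by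
    intro u v
    simp only [f]
    rw [← Equiv.sum_comp τ]
    refine Finset.sum_congr rfl fun i _ => ?_
    rw [hw, hw, hw, hw, Matrix.det_fin_two]
    ring
  have hdet0 : ∀ i, (A i).det ≠ 0 := by
    intro i h0
    obtain ⟨u, hu0, hu⟩ := Matrix.exists_mulVec_eq_zero_iff.2 h0
    let v := u 0 • b (i, 0) + u 1 • b (i, 1)
    have hwv : ∀ p, w v p = if p.1 = i then u p.2 else 0 := by
      rintro ⟨j, a⟩
      simp only [v, w, map_add, map_smul, Pi.add_apply, Pi.smul_apply, smul_eq_mul]
      have h1 := hwb (i, 0) (j, a)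
      have h2 := hwb (i, 1) (j, a)
      simp only [w] at h1 h2
      rw [h1, h2]
      by_cases h : j = i
      · subst h; fin_cases a <;> simp
      · fin_cases a <;> simp [h, Ne.symm h]
    have hgv : (g : Matrix ι ι F) *ᵥ v = 0 := by
      apply b.equivFun.injective
      funext ⟨j, a⟩
      obtain ⟨j, rfl⟩ := τ.surjective j
      show w ((g : Matrix ι ι F) *ᵥ v) (τ j, a) = _
      rw [hw, hwv, hwv]
      by_cases hji : j = i
      · subst hji
        have := congrFun hu a
        simp [Matrix.mulVec, dotProduct, Fin.sum_univ_two] at this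
        simpa using this
      · simp [hji]
    have hv : v = 0 := by
      have := congrArg (fun x => ((g⁻¹ : GL ι F) : Matrix ι ι F) *ᵥ x) hgv
      simpa [inv_mulVec_mulVec] using this
    apply hu0
    funext a
    have := hwv (i, a)
    rw [hv] at this
    simpa [w] using this.symm
  obtain ⟨c, hc0, hc⟩ : ∃ c : F, c ≠ 0 ∧ ∀ i, (A i).det = c := by
    have hsmall : Fintype.card F ≤ 3 → ∀ x : F, x ≠ 0 → x * x = 1 := fun h x hx => by
      have h1 := FiniteField.pow_card_sub_one_eq_one x hx
      have := Fintype.one_lt_card (α := F)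
      interval_cases hc : Fintype.card F
      · rw [pow_one] at h1; rw [h1, one_mul]
      · rw [show (3 : ℕ) - 1 = 2 from rfl, sq] at h1; exact h1
    rcases hq with h | ⟨rfl, h⟩
    · refine ⟨1, one_ne_zero, fun i => ?_⟩
      have h1 := FiniteField.pow_card_sub_one_eq_one _ (hdet0 i)
      rwa [h, pow_one] at h1
    · -- the determinant is the product of the two block determinants
      let G : Matrix (Fin 2 × Fin 2) (Fin 2 × Fin 2) F := Matrix.of fun p q => if p.1 = τ q.1 then A q.1 p.2 q.2 else 0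
      have hG : (G : Matrix _ _ F).det = (g : Matrix ι ι F).det := by
        have h1 : LinearMap.toMatrix b b (Matrix.toLin' (g : Matrix ι ι F)) = G := by
          ext p q
          rw [LinearMap.toMatrix_apply, Matrix.toLin'_apply]
          exact hcol q.1 q.2 p
        rw [← h1, LinearMap.det_toMatrix, LinearMap.det_toLin']
      have hval : G.det = (A 0).det * (A 1).det := by
        let M := Matrix.blockDiagonal (fun i => A i)
        have hM : G = (M.submatrix (fun p : Fin 2 × Fin 2 => (p.2, τ.symm p.1)) (fun q => (q.2, q.1))) := by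
          ext ⟨j, a⟩ ⟨i, c⟩
          simp only [G, M, Matrix.of_apply, Matrix.submatrix_apply, Matrix.blockDiagonal_apply]
          by_cases h : j = τ i
          · subst h; simp
          · have : τ.symm j ≠ i := fun h' => h (by rw [← h', Equiv.apply_symm_apply])
            simp [h, this]
        let π : Equiv.Perm (Fin 2 × Fin 2) := Equiv.prodCongr τ.symm (Equiv.refl _)
        have hsign : Equiv.Perm.sign π = 1 := by
          have : ∀ s : Equiv.Perm (Fin 2), Equiv.Perm.sign (Equiv.prodCongr s (Equiv.refl (Fin 2))) = 1 := by decide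
          exact this _
        have hM' : G = ((M.submatrix (Equiv.prodComm _ _) (Equiv.prodComm _ _)).submatrix π id) := by
          rw [hM]; rfl
        rw [hM', Matrix.det_permute, hsign, Matrix.det_submatrix_equiv_self, Matrix.det_blockDiagonal,
          Fin.prod_univ_two]
        simp
      have h1 := (mem_sl_iff g).1 (hsl hg)
      rw [← hG, hval] at h1
      refine ⟨(A 0).det, hdet0 0, fun i => ?_⟩
      fin_cases i
      · rfl
      · show (A 1).det = (A 0).det
        calc (A 1).det = ((A 0).det * (A 0).det) * (A 1).det := by rw [hsmall h _ (hdet0 0), one_mul]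
          _ = (A 0).det := by rw [mul_assoc, h1, mul_one]
  refine ⟨Units.mk0 c hc0, fun u v => ?_⟩
  rw [hf, Units.val_mk0]
  simp only [f, Finset.mul_sum, hc]

/-- over the field with two elements a tensor factor of dimension two gives a field of degree two -/
lemma tensor_two_field (hq : Fintype.card F = 2) {m : ℕ} (hm : 0 < m) (e : ι ≃ Fin 2 × Fin m) (P : GL ι F) :
    ∃ K : Subalgebra F (Matrix ι ι F), IsFieldSubalgebra 2 K ∧ tensorProductSubgroup 2 m e P ≤ subalgebraNormalizer K := by
  classical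
  have h01 : ∀ x : F, x = 0 ∨ x = 1 := fun x => by
    rcases eq_or_ne x 0 with h | h
    · exact Or.inl h
    · exact Or.inr (by have := FiniteField.pow_card_sub_one_eq_one x h; rwa [hq, pow_one] at this)
  have h2 : (2 : F) = 0 := by
    have := Nat.cast_card_eq_zero F
    rwa [hq] at this
  have h11 : (1 : F) + 1 = 0 := by linear_combination h2
  let w : Matrix (Fin 2) (Fin 2) F := !![0, 1; 1, 1]
  let Φ : Matrix (Fin 2) (Fin 2) F →ₗ[F] Matrix ι ι F :=
    { toFun := fun X => (P : Matrix ι ι F) * pull e (X ⊗ₖ (1 : Matrix (Fin m) (Fin m) F)) * ((P⁻¹ : GL ι F) : Matrix ι ι F)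
      map_add' := fun X Y => by rw [Matrix.add_kronecker, map_add, mul_add, add_mul]
      map_smul' := fun c X => by
        rw [Matrix.smul_kronecker, map_smul, Matrix.mul_smul, Matrix.smul_mul]; rfl }
  have hΦ : ∀ X, Φ X = (P : Matrix ι ι F) * pull e (X ⊗ₖ (1 : Matrix (Fin m) (Fin m) F)) * ((P⁻¹ : GL ι F) : Matrix ι ι F) :=
    fun X => rfl
  have hmul : ∀ X Y, Φ X * Φ Y = Φ (X * Y) := fun X Y => by
    simp only [hΦ, mul_assoc, Units.inv_mul_cancel_left]
    rw [← mul_assoc (pull e _) (pull e _), ← map_mul, ← Matrix.mul_kronecker_mul, mul_one]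
  have hone : Φ 1 = 1 := by simp [hΦ]
  have hinj : Function.Injective Φ := fun X Y h => by
    have h1 := congrArg (fun Z => ((P⁻¹ : GL ι F) : Matrix ι ι F) * Z * (P : Matrix ι ι F)) h
    simp only [hΦ, mul_assoc, Units.inv_mul_cancel_left, Units.inv_mul, mul_one] at h1
    ext a b
    have h2 := congrFun (congrFun (pull_injective (F := F) e h1) (a, ⟨0, hm⟩)) (b, ⟨0, hm⟩)
    simpa using h2
  let L : F × F →ₗ[F] Matrix (Fin 2) (Fin 2) F :=
    { toFun := fun p => p.1 • 1 + p.2 • w
      map_add' := fun p q => by simp only [Prod.fst_add, Prod.snd_add, add_smul]; abel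
      map_smul' := fun c p => by simp [smul_smul] }
  have hw2 : w * w = w + 1 := by
    ext i j
    fin_cases i <;> fin_cases j <;> simp [w, Matrix.mul_apply, Fin.sum_univ_two, h11, add_comm]
  have hL : Function.Injective L := fun p q h => by
    have e1 := congrFun (congrFun h 0) 0
    have e2 := congrFun (congrFun h 0) 1
    simp [L, w] at e1 e2
    exact Prod.ext e1 e2
  let S : Submodule F (Matrix ι ι F) := (LinearMap.range L).map Φ
  have hSmul : ∀ x y, x ∈ S → y ∈ S → x * y ∈ S := by
    rintro _ _ ⟨_, ⟨p, rfl⟩, rfl⟩ ⟨_, ⟨q, rfl⟩, rfl⟩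
    refine ⟨L p * L q, ⟨(p.1 * q.1 + p.2 * q.2, p.1 * q.2 + p.2 * q.1 + p.2 * q.2), ?_⟩, (hmul _ _).symm⟩
    simp only [L, LinearMap.coe_mk, AddHom.coe_mk, add_mul, mul_add, Matrix.smul_mul, Matrix.mul_smul, one_mul,
      mul_one, hw2, smul_add, smul_smul, add_smul, mul_comm q.1, mul_comm q.2]
    abel
  let K : Subalgebra F (Matrix ι ι F) :=
    S.toSubalgebra ⟨1, ⟨(1, 0), by simp [L]⟩, hone⟩ hSmul
  have hmem : ∀ x, x ∈ K ↔ ∃ p, Φ (L p) = x := fun x =>
    ⟨fun ⟨_, ⟨p, hp⟩, h⟩ => ⟨p, hp ▸ h⟩, fun ⟨p, h⟩ => ⟨L p, ⟨p, rfl⟩, h⟩⟩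
  have hfin : Module.finrank F K = 2 := by
    show Module.finrank F S = 2
    rw [← (Submodule.equivMapOfInjective Φ hinj _).finrank_eq, LinearMap.finrank_range_of_inj hL]
    simp
  refine ⟨K, ⟨fun x hx y hy => ?_, fun x hx hx0 => ?_, hfin⟩, ?_⟩
  · obtain ⟨p, rfl⟩ := (hmem x).1 hx
    obtain ⟨q, rfl⟩ := (hmem y).1 hy
    rw [hmul, hmul]
    congr 1
    simp only [L, LinearMap.coe_mk, AddHom.coe_mk, add_mul, mul_add, Matrix.smul_mul, Matrix.mul_smul, one_mul,
      mul_one, smul_smul, smul_add, mul_comm q.1, mul_comm q.2]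
    abel
  · obtain ⟨⟨a, c⟩, rfl⟩ := (hmem x).1 hx
    have key : ∀ a c : F, (a ≠ 0 ∨ c ≠ 0) → ∃ q, L (a, c) * L q = 1 := by
      intro a c hne
      rcases h01 a with rfl | rfl <;> rcases h01 c with rfl | rfl
      · simp at hne
      · exact ⟨(1, 1), by
          ext i j
          fin_cases i <;> fin_cases j <;> simp [L, w, Matrix.mul_apply, Fin.sum_univ_two, h11]⟩
      · exact ⟨(1, 0), by simp [L]⟩
      · exact ⟨(0, 1), by
          ext i j
          fin_cases i <;> fin_cases j <;> simp [L, w, Matrix.mul_apply, Fin.sum_univ_two, h11]⟩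
    obtain ⟨q, hq'⟩ := key a c (by
      by_contra h
      push Not at h
      exact hx0 (by rw [h.1, h.2, show ((0 : F), (0 : F)) = 0 from rfl, map_zero, map_zero]))
    exact ⟨_, (hmem _).2 ⟨q, rfl⟩, by rw [hmul, hq', hone]⟩
  · rintro _ ⟨_, ⟨g, ⟨a, c, hac⟩, rfl⟩, rfl⟩
    have hconj : ∀ (a : GL (Fin 2) F), (a : Matrix (Fin 2) (Fin 2) F) * w = w * a ∨
        (a : Matrix (Fin 2) (Fin 2) F) * w = (w + 1) * a := by
      intro a
      have hd : (a : Matrix (Fin 2) (Fin 2) F).det ≠ 0 := (Matrix.isUnits_det_units a).ne_zero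
      rw [Matrix.det_fin_two] at hd
      generalize (a : Matrix (Fin 2) (Fin 2) F) = M at hd ⊢
      rcases h01 (M 0 0) with h00 | h00 <;> rcases h01 (M 0 1) with h01' | h01' <;>
        rcases h01 (M 1 0) with h10 | h10 <;> rcases h01 (M 1 1) with h11' | h11' <;>
        simp [h00, h01', h10, h11', h11] at hd ⊢ <;>
        simp [← Matrix.ext_iff, Fin.forall_fin_two, Matrix.mul_apply, Matrix.vecMul, dotProduct, Fin.sum_univ_two, w, h00, h01', h10, h11', h11]
    let G : GL ι F := P * glReindex e.symm g * P⁻¹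
    have hG : (G : Matrix ι ι F) = (P : Matrix ι ι F) * pull e ((a : Matrix (Fin 2) (Fin 2) F) ⊗ₖ (c : Matrix (Fin m) (Fin m) F)) *
        ((P⁻¹ : GL ι F) : Matrix ι ι F) := by rw [← hac]; rfl
    have hval : ∀ x ∈ K, (G : Matrix ι ι F) * x * ((G⁻¹ : GL ι F) : Matrix ι ι F) ∈ K := by
      intro x hx
      obtain ⟨p, rfl⟩ := (hmem x).1 hx
      have h1 : ∃ q, (a : Matrix (Fin 2) (Fin 2) F) * L p = L q * a := by
        rcases hconj a with h | h
        · exact ⟨p, by simp [L, mul_add, add_mul, h]⟩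
        · refine ⟨(p.1 + p.2, p.2), ?_⟩
          simp only [L, LinearMap.coe_mk, AddHom.coe_mk, mul_add, add_mul, Matrix.mul_smul, Matrix.smul_mul, h,
            one_mul, mul_one, add_smul, smul_add]
          abel
      obtain ⟨q, hq'⟩ := h1
      have h2 : (G : Matrix ι ι F) * Φ (L p) = Φ (L q) * (G : Matrix ι ι F) := by
        simp only [hG, hΦ, mul_assoc, Units.inv_mul_cancel_left]
        rw [← mul_assoc (pull e _) (pull e _), ← map_mul, ← Matrix.mul_kronecker_mul, mul_one, hq',
          ← mul_assoc (pull e _) (pull e _), ← map_mul, ← Matrix.mul_kronecker_mul, one_mul]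
      rw [h2, mul_assoc, ← Units.val_mul, mul_inv_cancel, Units.val_one, mul_one]
      exact (hmem _).2 ⟨q, rfl⟩
    show G ∈ subalgebraNormalizer K
    intro k
    refine ⟨hval k, fun hk => ?_⟩
    haveI : Finite K := inferInstance
    let ψ : K → K := fun x => ⟨_, hval x x.2⟩
    have hψ : Function.Injective ψ := fun x y h => Subtype.ext (by
      have := congrArg (fun z : K => ((G⁻¹ : GL ι F) : Matrix ι ι F) * (z : Matrix ι ι F) * (G : Matrix ι ι F)) h
      simpa [ψ, mul_assoc] using this)
    obtain ⟨y, hy⟩ := Finite.surjective_of_injective hψ ⟨_, hk⟩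
    have h3 := congrArg (fun z : K => ((G⁻¹ : GL ι F) : Matrix ι ι F) * (z : Matrix ι ι F) * (G : Matrix ι ι F)) hy
    simp [ψ, mul_assoc] at h3
    exact h3 ▸ y.2

/-! ### an abstract symplectic transvection -/

/-- abelian characteristic subgroups of a group with central commutators of order two are central -/
lemma char_abelian_central {G : Type*} [Group G] [Finite G] {z : G} (hz : ∀ g, z * g = g * z)
    (hz4 : z * z * (z * z) = 1) (hc : ∀ v x : G, v * x = x * v ∨ v * x = z * z * (x * v))
    (hv : ∀ a : G, (∃ g, g * a ≠ a * g) → ∃ v, v * v = 1 ∧ v * a ≠ a * v)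
    {A : Subgroup G} (hA : A.Characteristic) (hAc : IsMulCommutative A) : A ≤ Subgroup.center G := by
  classical
  intro a ha
  rw [Subgroup.mem_center_iff]
  by_contra hne
  push Not at hne
  obtain ⟨v, hv2, hva⟩ := hv a hne
  let ψ : G → G := fun x => if v * x = x * v then x else x * (v * z)
  have hmul : ∀ x y, ψ (x * y) = ψ x * ψ y := by
    intro x y
    have hzc : ∀ g, z * z * g = g * (z * z) := fun g => by rw [mul_assoc, hz g, ← mul_assoc, hz g, mul_assoc]
    by_cases h1 : v * x = x * v <;> by_cases h2 : v * y = y * v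
    · have h12 : v * (x * y) = x * y * v := by rw [← mul_assoc, h1, mul_assoc, h2, mul_assoc]
      simp only [ψ, if_pos h1, if_pos h2, if_pos h12]
    · have h12 : v * (x * y) ≠ x * y * v := fun h => h2 (by
        apply mul_left_cancel (a := x)
        rw [← mul_assoc, ← h1, mul_assoc, h, mul_assoc])
      simp only [ψ, if_pos h1, if_neg h2, if_neg h12, mul_assoc]
    · have h12 : v * (x * y) ≠ x * y * v := fun h => h1 (by
        apply mul_right_cancel (b := y)
        rw [mul_assoc, h, mul_assoc, ← h2, mul_assoc])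
      simp only [ψ, if_neg h1, if_pos h2, if_neg h12, mul_assoc]
      rw [hz y, ← mul_assoc v y, h2, mul_assoc]
    · have e1 := (hc v x).resolve_left h1
      have e2 := (hc v y).resolve_left h2
      have h12 : v * (x * y) = x * y * v := by
        calc v * (x * y) = z * z * (x * v) * y := by rw [← mul_assoc, e1]
          _ = z * z * (x * (z * z * (y * v))) := by
            rw [← e2]; simp only [mul_assoc]
          _ = z * z * (z * z) * (x * y * v) := by
            rw [← mul_assoc x, ← hzc x]; simp only [mul_assoc]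
          _ = x * y * v := by rw [hz4, one_mul]
      simp only [ψ, if_neg h1, if_neg h2, if_pos h12]
      calc x * y = x * (z * z * (z * z) * y) * (v * v) := by rw [hz4, hv2, one_mul, mul_one]
        _ = x * (z * z * (y * v)) * (v * (z * z)) := by
          rw [← hzc v]; simp only [mul_assoc, hzc]
          simp only [← mul_assoc]
          simp only [mul_assoc, ← hz]
        _ = x * (v * y) * (v * (z * z)) := by rw [e2]
        _ = x * (v * z) * (y * (v * z)) := by
          simp only [mul_assoc]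
          rw [← mul_assoc z y, hz y, mul_assoc y z, ← mul_assoc z v, hz v, mul_assoc v z z]
  let Ψ : G →* G := MonoidHom.mk' ψ hmul
  have hinj : Function.Injective Ψ := by
    rw [injective_iff_map_eq_one]
    intro x hx
    simp only [Ψ, MonoidHom.mk'_apply, ψ] at hx
    split_ifs at hx with h
    · exact hx
    · exfalso
      apply h
      have hzv : z⁻¹ * v = v * z⁻¹ := by
        calc z⁻¹ * v = z⁻¹ * (v * z) * z⁻¹ := by group
          _ = v * z⁻¹ := by rw [← hz v]; group
      rw [eq_inv_of_mul_eq_one_left hx, mul_inv_rev, inv_eq_of_mul_eq_one_left hv2, ← mul_assoc, ← hzv]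
  let Ψe : G ≃* G := MulEquiv.ofBijective Ψ ⟨hinj, Finite.surjective_of_injective hinj⟩
  have hΨa : Ψe a ∈ A := (hA.fixed Ψe).ge ha
  change ψ a ∈ A at hΨa
  simp only [ψ, if_neg hva] at hΨa
  have h4 := congrArg (fun t : A => (t : G)) (hAc.is_comm.comm (⟨a, ha⟩ : A) ⟨_, hΨa⟩)
  simp only [Subgroup.coe_mul, mul_assoc] at h4
  have h5 := mul_left_cancel h4
  rw [hz a, ← mul_assoc, ← mul_assoc] at h5
  exact hva (mul_right_cancel h5).symm

/-! ### the monomial group over the field with five elements in dimension four -/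

/-- the translations of the four-element index set -/
def klein (k i : Fin 4) : Fin 4 := ![![0, 1, 2, 3], ![1, 0, 3, 2], ![2, 3, 0, 1], ![3, 2, 1, 0]] k i

lemma klein_klein : ∀ k i, klein k (klein k i) = i := by decide

lemma klein_comp : ∀ k l i, klein k (klein l i) = klein (klein k l) i := by decide

lemma klein_comm : ∀ k l, klein k l = klein l k := by decide

lemma klein_zero : ∀ i, klein 0 i = i := by decide

lemma klein_zero' : ∀ i, klein i 0 = i := by decide

lemma klein_transitive : ∀ i j, klein (klein i j) j = i := by decide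

lemma klein_normal : ∀ (τ : Equiv.Perm (Fin 4)) (k : Fin 4), ∃ l, ∀ i, τ (klein k i) = klein l (τ i) := by decide

lemma klein_avoid : ∀ i j : Fin 4, ∃ k, k ≠ 0 ∧ klein k i ≠ j := by decide

/-- a sign vector -/
def sgnv (k i x : Fin 4) : ℤ := if x = i ∨ x = klein k i then 1 else -1

lemma sgnv_prod : ∀ k i, k ≠ 0 → sgnv k i 0 * sgnv k i 1 * sgnv k i 2 * sgnv k i 3 = 1 := by decide

lemma sgnv_sum : ∀ i x : Fin 4, 1 + sgnv 1 i x + sgnv 2 i x + sgnv 1 i x * sgnv 2 i x = if x = i then 4 else 0 := by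
  decide

/-- a monomial matrix -/
def mono (π : Fin 4 → Fin 4) (a : Fin 4 → F) : Matrix (Fin 4) (Fin 4) F :=
  Matrix.of fun k i => if k = π i then a i else 0

omit [Fintype F] in
lemma mono_mul (π ρ : Fin 4 → Fin 4) (a b : Fin 4 → F) :
    mono π a * mono ρ b = mono (π ∘ ρ) (fun i => a (ρ i) * b i) := by
  ext k i
  rw [Matrix.mul_apply, Finset.sum_eq_single (ρ i)]
  · by_cases h : k = π (ρ i) <;> simp [mono, h]
  · intro j _ hj; simp [mono, hj]
  · simp

omit [Fintype F] in
lemma mono_mulVec (k : Fin 4) (a v : Fin 4 → F) (i : Fin 4) :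
    (mono (klein k) a *ᵥ v) i = a (klein k i) * v (klein k i) := by
  simp only [Matrix.mulVec, dotProduct]
  rw [Finset.sum_eq_single (klein k i)]
  · simp [mono, klein_klein]
  · intro b _ hb
    simp only [mono, Matrix.of_apply]
    rw [if_neg, zero_mul]
    intro h; exact hb (by rw [h, klein_klein])
  · simp

/-- the conditions on the entries -/
def Sq (a : Fin 4 → F) : Prop :=
  (∀ i, a i ^ 4 = 1) ∧ (∀ i j, a i ^ 2 = a j ^ 2) ∧ a 0 * a 1 * a 2 * a 3 = 1

omit [Fintype F] in
lemma Sq.ne_zero {a : Fin 4 → F} (ha : Sq a) (i : Fin 4) : a i ≠ 0 := fun h => by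
  simpa [h] using ha.1 i

omit [Fintype F] in
lemma klein_prod (k : Fin 4) (a : Fin 4 → F) :
    a (klein k 0) * a (klein k 1) * a (klein k 2) * a (klein k 3) = a 0 * a 1 * a 2 * a 3 := by
  fin_cases k <;> simp [klein] <;> ring

omit [Fintype F] in
lemma Sq.mul {a b : Fin 4 → F} (ha : Sq a) (hb : Sq b) (k : Fin 4) : Sq fun i => a (klein k i) * b i := by
  refine ⟨fun i => by rw [mul_pow, ha.1, hb.1, one_mul], fun i j => by
    rw [mul_pow, mul_pow, ha.2.1 (klein k i) (klein k j), hb.2.1 i j], ?_⟩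
  calc _ = (a (klein k 0) * a (klein k 1) * a (klein k 2) * a (klein k 3)) * (b 0 * b 1 * b 2 * b 3) := by ring
    _ = 1 := by rw [klein_prod, ha.2.2, hb.2.2, one_mul]

omit [Fintype F] in
lemma Sq.ratio {a : Fin 4 → F} (ha : Sq a) (k i : Fin 4) : a (klein k i) * a 0 = a (klein k 0) * a i := by
  obtain ⟨h4, h2, hp⟩ := ha
  have key : ∀ i j m l : Fin 4, a i * a j * a m * a l = 1 → a j * a m = a i * a l := by
    intro i j m l h
    have hs : (a j * a m) ^ 2 = 1 := by
      rw [mul_pow, h2 j i, h2 m i, ← sq, ← pow_mul]; exact h4 i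
    calc a j * a m = (a j * a m) * (a i * a j * a m * a l) := by rw [h, mul_one]
      _ = (a j * a m) ^ 2 * (a i * a l) := by ring
      _ = a i * a l := by rw [hs, one_mul]
  have h02 : a 0 ^ 2 = a 1 ^ 2 := h2 0 1
  have h03 : a 0 ^ 2 = a 2 ^ 2 := h2 0 2
  have h04 : a 0 ^ 2 = a 3 ^ 2 := h2 0 3
  have k1 := key 0 1 2 3 hp
  have k2 := key 0 2 1 3 (by linear_combination hp)
  have k3 := key 0 1 3 2 (by linear_combination hp)
  have k4 := key 0 2 3 1 (by linear_combination hp)
  fin_cases k <;> fin_cases i <;> simp [klein]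
  all_goals first
    | (ring; done)
    | linear_combination h02 | linear_combination -h02
    | linear_combination h03 | linear_combination -h03
    | linear_combination h04 | linear_combination -h04
    | linear_combination k1 | linear_combination -k1
    | linear_combination k2 | linear_combination -k2
    | linear_combination k3 | linear_combination -k3
    | linear_combination k4 | linear_combination -k4

/-- the symplectic-type group of monomial matrices -/
noncomputable def monoR (F : Type*) [Field F] [Fintype F] : Subgroup (GL (Fin 4) F) :=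
  Subgroup.closure {g | ∃ k a, Sq a ∧ (g : Matrix (Fin 4) (Fin 4) F) = mono (klein k) a}

lemma mem_monoR {g : GL (Fin 4) F} (hg : g ∈ monoR F) :
    ∃ k a, Sq a ∧ (g : Matrix (Fin 4) (Fin 4) F) = mono (klein k) a := by
  have hfin : (monoR F).toSubmonoid = Submonoid.closure
      {g : GL (Fin 4) F | ∃ k a, Sq a ∧ (g : Matrix (Fin 4) (Fin 4) F) = mono (klein k) a} :=
    Subgroup.closure_toSubmonoid_of_finite
  rw [← Subgroup.mem_toSubmonoid, hfin] at hg
  induction hg using Submonoid.closure_induction with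
  | mem g hg => exact hg
  | one =>
    refine ⟨0, fun _ => 1, ⟨fun _ => one_pow _, fun _ _ => rfl, by ring⟩, ?_⟩
    ext k i
    simp [mono, klein_zero, Matrix.one_apply]
  | mul x y _ _ hx hy =>
    obtain ⟨k, a, ha, hxa⟩ := hx
    obtain ⟨l, b, hb, hyb⟩ := hy
    refine ⟨klein k l, fun i => a (klein l i) * b i, ha.mul hb l, ?_⟩
    rw [Units.val_mul, hxa, hyb, mono_mul]
    congr 1
    funext i
    exact klein_comp k l i

lemma exists_mem_monoR {k : Fin 4} {a : Fin 4 → F} (ha : Sq a) :
    ∃ g ∈ monoR F, (g : Matrix (Fin 4) (Fin 4) F) = mono (klein k) a := by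
  have hinv : mono (klein k) a * mono (klein k) (fun i => (a (klein k i))⁻¹) = 1 := by
    rw [mono_mul]
    ext r i
    simp [mono, klein_klein, Matrix.one_apply, ha.ne_zero]
  let g : GL (Fin 4) F := Matrix.GeneralLinearGroup.mkOfDetNeZero (mono (klein k) a) (fun h => by
    have := congrArg Matrix.det hinv
    rw [Matrix.det_mul, h, zero_mul, Matrix.det_one] at this
    exact zero_ne_one this)
  exact ⟨g, Subgroup.subset_closure ⟨k, a, ha, rfl⟩, rfl⟩

lemma exists_perm_mem (k : Fin 4) :
    ∃ g ∈ monoR F, (g : Matrix (Fin 4) (Fin 4) F) = mono (klein k) fun _ => (1 : F) :=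
  exists_mem_monoR ⟨fun _ => one_pow _, fun _ _ => rfl, by ring⟩

lemma exists_sign_mem {k i : Fin 4} (hk : k ≠ 0) :
    ∃ g ∈ monoR F, (g : Matrix (Fin 4) (Fin 4) F) = mono (klein 0) fun x => (sgnv k i x : F) := by
  have h1 : ∀ x, ((sgnv k i x : ℤ) : F) ^ 2 = 1 := fun x => by
    simp only [sgnv]; split_ifs <;> simp
  refine exists_mem_monoR ⟨fun x => ?_, fun x y => by rw [h1, h1], ?_⟩
  · show (sgnv k i x : F) ^ (2 * 2) = 1
    rw [pow_mul, h1, one_pow]
  · have := congrArg (Int.cast : ℤ → F) (sgnv_prod k i hk)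
    push_cast at this
    exact this

lemma monoR_absIrred (h20 : (2 : F) ≠ 0) : AbsIrred (monoR F) := by
  have h40 : (4 : F) ≠ 0 := fun h => mul_ne_zero h20 h20 (by linear_combination h)
  refine AbsIrred.mk' (fun W hW => ?_) fun M hM => ?_
  · by_cases hb : W = ⊥
    · exact Or.inl hb
    obtain ⟨w, hw, hw0⟩ := (Submodule.ne_bot_iff W).1 hb
    obtain ⟨j, hj⟩ := Function.ne_iff.1 hw0
    obtain ⟨g₁, hg₁, hgs₁⟩ := exists_sign_mem (F := F) (k := 1) (i := j) (by decide)
    obtain ⟨g₂, hg₂, hgs₂⟩ := exists_sign_mem (F := F) (k := 2) (i := j) (by decide)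
    have h1 : w + (g₁ : Matrix (Fin 4) (Fin 4) F) *ᵥ w ∈ W := W.add_mem hw (hW g₁ hg₁ w hw)
    have h2 := W.smul_mem (4 * w j)⁻¹ (W.add_mem h1 (hW g₂ hg₂ _ h1))
    have hsingle : (Pi.single j (1 : F) : Fin 4 → F) ∈ W := by
      convert h2 using 1
      funext x
      simp only [Pi.smul_apply, Pi.add_apply, hgs₁, hgs₂, mono_mulVec, klein_zero, smul_eq_mul, Matrix.mulVec_add]
      have hs := congrArg (Int.cast : ℤ → F) (sgnv_sum j x)
      by_cases hx : x = j
      · subst hx
        rw [if_pos rfl] at hs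
        push_cast at hs
        rw [Pi.single_eq_same]
        rw [show w x + (sgnv 1 x x : F) * w x + ((sgnv 2 x x : F) * w x + (sgnv 2 x x : F) * ((sgnv 1 x x : F) * w x)) =
          4 * w x by linear_combination w x * hs]
        rw [inv_mul_cancel₀ (mul_ne_zero h40 hj)]
      · rw [if_neg hx] at hs
        push_cast at hs
        rw [Pi.single_eq_of_ne hx]
        linear_combination (-(4 * w j)⁻¹ * w x) * hs
    refine Or.inr (eq_top_iff.2 fun v _ => ?_)
    rw [pi_eq_sum_univ' v]
    refine W.sum_mem fun i _ => W.smul_mem _ ?_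
    obtain ⟨g, hg, hgs⟩ := exists_perm_mem (F := F) (klein i j)
    have h3 := hW g hg _ hsingle
    convert h3 using 1
    funext x
    rw [hgs, mono_mulVec, one_mul]
    by_cases hx : x = i
    · subst hx
      rw [Pi.single_eq_same, show klein (klein x j) x = j by rw [klein_comm x j, klein_transitive], Pi.single_eq_same]
    · rw [Pi.single_eq_of_ne hx, Pi.single_eq_of_ne]
      intro h
      apply hx
      have := congrArg (klein (klein i j)) h
      rwa [klein_klein, klein_transitive] at this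
  · have hd : ∀ i j, i ≠ j → M i j = 0 := by
      intro i j hij
      obtain ⟨k, hk, hkj⟩ := klein_avoid i j
      obtain ⟨g, hg, hgs⟩ := exists_sign_mem (F := F) (k := k) (i := i) hk
      have h1 := congrFun (congrFun (hM g hg) i) j
      rw [hgs, Matrix.mul_apply, Matrix.mul_apply, Finset.sum_eq_single j (by
        intro b _ hb; simp [mono, klein_zero, hb]) (by simp), Finset.sum_eq_single i (by
        intro b _ hb; simp [mono, klein_zero, Ne.symm hb]) (by simp)] at h1
      have e1 : sgnv k i i = 1 := by simp [sgnv]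
      have e2 : sgnv k i j = -1 := by simp [sgnv, Ne.symm hij, Ne.symm hkj]
      simp [mono, klein_zero, e1, e2] at h1
      exact (mul_eq_zero.1 (show M i j * 2 = 0 by linear_combination -h1)).resolve_right h20
    refine ⟨M 0 0, Matrix.ext fun i j => ?_⟩
    by_cases hij : i = j
    · subst hij
      obtain ⟨g, hg, hgs⟩ := exists_perm_mem (F := F) i
      have h1 := congrFun (congrFun (hM g hg) i) 0
      rw [hgs, Matrix.mul_apply, Matrix.mul_apply, Finset.sum_eq_single i (by
        intro b _ hb; simp [mono, klein_zero', hb]) (by simp), Finset.sum_eq_single 0 (by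
        intro b _ hb; simp [hd b 0 hb]) (by simp)] at h1
      simp [mono, klein_zero'] at h1
      simp [h1]
    · simp [hd i j hij, hij]

/-- two members of the group commute up to a sign -/
lemma monoR_comm {x y : GL (Fin 4) F} (hx : x ∈ monoR F) (hy : y ∈ monoR F) :
    ∃ c : F, c ^ 2 = 1 ∧
      (x : Matrix (Fin 4) (Fin 4) F) * (y : Matrix (Fin 4) (Fin 4) F) =
        c • ((y : Matrix (Fin 4) (Fin 4) F) * (x : Matrix (Fin 4) (Fin 4) F)) := by
  obtain ⟨k, a, ha, hxa⟩ := mem_monoR hx
  obtain ⟨l, b, hb, hyb⟩ := mem_monoR hy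
  have ha0 := ha.ne_zero 0
  have hb0 := hb.ne_zero 0
  have hbk := hb.ne_zero (klein k 0)
  refine ⟨(a (klein l 0) * b 0) / (b (klein k 0) * a 0), ?_, ?_⟩
  · rw [div_pow, mul_pow, mul_pow, ha.2.1 (klein l 0) 0, hb.2.1 (klein k 0) 0, mul_comm (b 0 ^ 2)]
    exact div_self (mul_ne_zero (pow_ne_zero _ ha0) (pow_ne_zero _ hb0))
  · rw [hxa, hyb, mono_mul, mono_mul]
    ext r i
    simp only [mono, Matrix.smul_apply, Matrix.of_apply, Function.comp_apply, klein_comp, klein_comm l k, smul_eq_mul]
    split_ifs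
    · field_simp
      linear_combination (b i * b (klein k 0)) * ha.ratio l i - (a (klein l 0) * a i) * hb.ratio k i
    · simp

lemma monoR_class2 : Class2 (monoR F) := by
  intro x hx y hy
  obtain ⟨c, -, hc⟩ := monoR_comm hx hy
  refine mem_scalars_of_comm (c := c) ?_
  rw [commutatorElement_def]
  simp only [Units.val_mul]
  rw [hc, Matrix.smul_mul, Matrix.smul_mul]
  congr 1
  simp [mul_assoc]

/-- squares are scalar with fourth powers trivial -/
lemma monoR_sq {x : GL (Fin 4) F} (hx : x ∈ monoR F) :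
    ∃ c : F, c ^ 2 = 1 ∧ (x : Matrix (Fin 4) (Fin 4) F) * x = c • 1 := by
  obtain ⟨k, a, ha, hxa⟩ := mem_monoR hx
  refine ⟨a (klein k 0) * a 0, ?_, ?_⟩
  · rw [mul_pow, ha.2.1 (klein k 0) 0, ← pow_add]; exact ha.1 0
  · rw [hxa, mono_mul]
    ext r i
    simp only [mono, Matrix.of_apply, Function.comp_apply, klein_klein, Matrix.smul_apply, Matrix.one_apply, smul_eq_mul]
    by_cases hri : r = i
    · subst hri
      rw [if_pos rfl, if_pos rfl, mul_one]
      refine mul_right_cancel₀ (ha.ne_zero 0) ?_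
      linear_combination (a r) * ha.ratio k r + (a (klein k 0)) * ha.2.1 r 0
    · simp [hri]

/-- monomial matrices of determinant one normalise the group -/
lemma monoR_normalized {h : GL (Fin 4) F} (hsl : h ∈ specialLinear (Fin 4) F)
    (hmono : AschPrimeExtra.IsMono 4 (h : Matrix (Fin 4) (Fin 4) F)) : h ∈ subgroupNormalizer (monoR F) := by
  classical
  obtain ⟨π, a, ha, hM⟩ := hmono
  have hhm : (h : Matrix (Fin 4) (Fin 4) F) = mono π a := Matrix.ext hM
  have ha0 : ∀ i, a i ≠ 0 := fun i hi => by simpa [hi] using ha i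
  have hprod : (a 0 * a 1 * a 2 * a 3) ^ 2 = 1 := by
    have hd := (mem_sl_iff h).1 hsl
    have hm : mono π a = (Matrix.diagonal a).submatrix π.symm id := by
      ext k i
      simp only [mono, Matrix.of_apply, Matrix.submatrix_apply, id_eq, Matrix.diagonal_apply]
      by_cases hk : k = π i
      · subst hk; simp
      · have : π.symm k ≠ i := fun h' => hk (by rw [← h', Equiv.apply_symm_apply])
        simp [hk, this]
    rw [hhm, hm, Matrix.det_permute, Matrix.det_diagonal, Fin.prod_univ_four] at hd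
    rcases Int.units_eq_one_or (Equiv.Perm.sign π.symm) with h' | h' <;> rw [h'] at hd <;> push_cast at hd
    · linear_combination (a 0 * a 1 * a 2 * a 3 + 1) * hd
    · linear_combination (1 - a 0 * a 1 * a 2 * a 3) * hd
  have hs : Sq fun i => a i ^ 2 := by
    have h4 : ∀ i, (a i ^ 2) ^ 2 = 1 := fun i => by rw [← pow_mul]; exact ha i
    exact ⟨fun i => by show (a i ^ 2) ^ (2 * 2) = 1; rw [pow_mul, h4, one_pow], fun i j => by rw [h4, h4],
      by linear_combination hprod⟩
  have hmap : ∀ g ∈ monoR F, h * g * h⁻¹ ∈ monoR F := by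
    intro g hg
    obtain ⟨k, b, hb, hgb⟩ := mem_monoR hg
    obtain ⟨l, hl⟩ := klein_normal π k
    let d : Fin 4 → F := fun i => a (klein k i) * b i / a i
    have hd : Sq fun j => d (π.symm j) := by
      refine ⟨fun j => ?_, fun i j => ?_, ?_⟩
      · simp only [d, div_pow, mul_pow, ha, hb.1]; norm_num
      · have key : ∀ i, d i ^ 2 = a (klein k 0) ^ 2 * b 0 ^ 2 / a 0 ^ 2 := by
          intro i
          have h1 := hs.ratio k i
          simp only [d, div_pow, mul_pow, hb.2.1 i 0]
          rw [div_eq_div_iff (pow_ne_zero _ (ha0 i)) (pow_ne_zero _ (ha0 0))]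
          linear_combination (b 0 ^ 2) * h1
        rw [key, key]
      · have h1 : ∏ j, d (π.symm j) = ∏ j, d j := Equiv.prod_comp π.symm d
        rw [Fin.prod_univ_four, Fin.prod_univ_four] at h1
        rw [h1]
        simp only [d]
        have hp0 : a 0 * a 1 * a 2 * a 3 ≠ 0 := mul_ne_zero (mul_ne_zero (mul_ne_zero (ha0 0) (ha0 1)) (ha0 2)) (ha0 3)
        calc _ = (a (klein k 0) * a (klein k 1) * a (klein k 2) * a (klein k 3)) * (b 0 * b 1 * b 2 * b 3) /
              (a 0 * a 1 * a 2 * a 3) := by field_simp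
          _ = 1 := by rw [klein_prod, hb.2.2, mul_one, div_self hp0]
    obtain ⟨g', hg', hgd⟩ := exists_mem_monoR (k := l) hd
    have e : h * g = g' * h := by
      refine Units.ext ?_
      rw [Units.val_mul, Units.val_mul, hhm, hgb, hgd, mono_mul, mono_mul]
      congr 1
      · funext i; exact hl i
      · funext i
        simp only [Equiv.symm_apply_apply, d]
        field_simp [ha0 i]
    rw [e, mul_inv_cancel_right]
    exact hg'
  refine Subgroup.mem_normalizer_iff.2 fun x => ⟨hmap x, fun hx => ?_⟩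
  let ψ : monoR F → monoR F := fun y => ⟨_, hmap y y.2⟩
  have hψ : Function.Injective ψ := fun y z hyz => Subtype.ext (by simpa [ψ] using congrArg Subtype.val hyz)
  obtain ⟨y, hy⟩ := Finite.surjective_of_injective hψ ⟨_, hx⟩
  have h3 := congrArg Subtype.val hy
  simp [ψ] at h3
  exact h3 ▸ y.2

/-- the data of the monomial group -/
lemma monoR_data (hq : Fintype.card F = 5) : IsLinearSymplecticTypeData 2 (monoR F) ∧ Traceless (monoR F) := by
  classical
  haveI h5 : Fact (Nat.Prime 5) := ⟨by norm_num⟩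
  have hchar : CharP F 5 := by
    obtain ⟨p, hp⟩ := CharP.exists F
    obtain ⟨e, hpp, he⟩ := FiniteField.card F p
    have : p ∣ 5 := by rw [← hq, he]; exact dvd_pow_self p e.pos.ne'
    rwa [← (Nat.prime_dvd_prime_iff_eq hpp h5.out).1 this]
  have h20 : (2 : F) ≠ 0 := fun h => by
    have : (5 : ℕ) ∣ 2 := (CharP.cast_eq_zero_iff F 5 2).1 (by exact_mod_cast h)
    omega
  have habs := monoR_absIrred h20
  have hR2 := monoR_class2 (F := F)
  obtain ⟨u, hu⟩ := IsCyclic.exists_ofOrder_eq_natCard (α := Fˣ)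
  rw [Nat.card_units, Nat.card_eq_fintype_card, hq] at hu
  have hu4 : (u : F) ^ 4 = 1 := by
    have h' := pow_orderOf_eq_one u
    rw [hu] at h'
    simpa using congrArg Units.val h'
  have hu22 : (u : F) ^ 2 = -1 := by
    have h1 : ((u : F) ^ 2) * ((u : F) ^ 2) = 1 := by rw [← sq, ← pow_mul]; exact hu4
    refine (mul_self_eq_one_iff.1 h1).resolve_left fun h => ?_
    have := orderOf_dvd_of_pow_eq_one (show u ^ 2 = 1 from Units.ext (by simpa using h))
    rw [hu] at this
    omega
  let sc : Fˣ →* GL (Fin 4) F := Units.map (Matrix.scalar (Fin 4) : F →+* Matrix (Fin 4) (Fin 4) F).toMonoidHom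
  have hscv : ∀ c : Fˣ, (sc c : Matrix (Fin 4) (Fin 4) F) = (c : F) • 1 := fun c => by
    simp [sc, Matrix.smul_one_eq_diagonal]
  have hscinj : Function.Injective sc := fun a b h => Units.ext (by
    simpa [sc] using congrArg (fun u : GL (Fin 4) F => (u : Matrix (Fin 4) (Fin 4) F) 0 0) h)
  set R := monoR F with hR
  have hscR : ∀ c : Fˣ, (c : F) ^ 4 = 1 → sc c ∈ R := fun c hc => by
    obtain ⟨g, hg, hgs⟩ := exists_mem_monoR (k := 0) (a := fun _ : Fin 4 => (c : F))
      ⟨fun _ => hc, fun _ _ => rfl, by linear_combination hc⟩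
    convert hg
    refine Units.ext ?_
    rw [hgs, hscv]
    ext i j
    by_cases hij : i = j <;> simp [mono, klein_zero, hij]
  have hinter : R ⊓ scalars (Fin 4) F = (powMonoidHom (α := Fˣ) 4).ker.map sc := by
    ext x
    constructor
    · rintro ⟨hx, c, rfl⟩
      refine ⟨c, Units.ext ?_, rfl⟩
      obtain ⟨k, a, ha, hxa⟩ := mem_monoR hx
      have h := congrFun (congrFun (hxa.symm.trans (hscv c)) 0) 0
      simp [mono] at h
      split_ifs at h with hk
      · simp [← h, ha.1 0]
      · exact absurd h.symm c.ne_zero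
    · rintro ⟨c, hc, rfl⟩
      exact ⟨hscR c (by simpa using congrArg Units.val (MonoidHom.mem_ker.1 hc)), ⟨c, rfl⟩⟩
  have hinter_card : Nat.card (R ⊓ scalars (Fin 4) F : Subgroup (GL (Fin 4) F)) = 4 := by
    rw [hinter, Subgroup.card_map_of_injective hscinj, IsCyclic.card_powMonoidHom_ker, Nat.card_units,
      Nat.card_eq_fintype_card, hq]
    rfl
  have hcenter : Subgroup.center R = (R ⊓ scalars (Fin 4) F).subgroupOf R := by
    ext x
    rw [Subgroup.mem_center_iff, Subgroup.mem_subgroupOf]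
    constructor
    · intro hx
      exact ⟨x.2, habs.scalar_of_comm fun s hs => congrArg Subtype.val (hx ⟨s, hs⟩).symm⟩
    · intro hx y
      exact Subtype.ext (scalar_comm hx.2 _).symm
  have hcenter_card : Nat.card (Subgroup.center R) = 4 := by
    rw [hcenter, Nat.card_congr (Subgroup.subgroupOfEquivOfLe inf_le_left).toEquiv, hinter_card]
  have hRcard : Nat.card R = 64 := by
    rw [Subgroup.card_eq_card_quotient_mul_card_subgroup ((scalars (Fin 4) F).subgroupOf R), card_quot habs hR2,
      Fintype.card_fin, ← Subgroup.inf_subgroupOf_left,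
      Nat.card_congr (Subgroup.subgroupOfEquivOfLe inf_le_left).toEquiv, hinter_card]
  have hpow4 : ∀ x ∈ R, x ^ 4 = 1 := by
    intro x hx
    obtain ⟨c, hc2, hc⟩ := monoR_sq hx
    refine Units.ext ?_
    rw [show x ^ 4 = x * x * (x * x) by simp only [pow_succ, pow_zero, one_mul, mul_assoc], Units.val_mul, Units.val_mul, hc, Matrix.smul_mul, one_mul, smul_smul,
      ← sq, hc2, one_smul, Units.val_one]
  have hzR : sc u ∈ R := hscR u hu4
  have hexp : Monoid.exponent R = 4 := by
    refine Nat.dvd_antisymm (Monoid.exponent_dvd_of_forall_pow_eq_one fun x => Subtype.ext (by simpa using hpow4 x x.2)) ?_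
    have h1 : orderOf (⟨sc u, hzR⟩ : R) = 4 := by
      rw [Subgroup.orderOf_mk, orderOf_injective sc hscinj, hu]
    have h2 := Monoid.order_dvd_exponent (⟨sc u, hzR⟩ : R)
    rwa [h1] at h2
  have hchA : ∀ A : Subgroup R, A.Characteristic → IsMulCommutative A → IsCyclic A := by
    intro A hA hAc
    have hle : A ≤ Subgroup.center R := by
      refine char_abelian_central (z := ⟨sc u, hzR⟩) (fun g => Subtype.ext (scalar_comm ⟨u, rfl⟩ _)) ?_ ?_ ?_ hA hAc
      · refine Subtype.ext (Units.ext ?_)
        show (sc u : Matrix (Fin 4) (Fin 4) F) * sc u * ((sc u : Matrix (Fin 4) (Fin 4) F) * sc u) = 1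
        simp only [hscv, Matrix.smul_mul, Matrix.mul_smul, one_mul, smul_smul]
        rw [show (u : F) * u * (u * u) = 1 by linear_combination hu4, one_smul]
      · rintro ⟨v, hv⟩ ⟨x, hx⟩
        obtain ⟨c, hc2, hc⟩ := monoR_comm hv hx
        rcases mul_self_eq_one_iff.1 ((sq c).symm.trans hc2) with rfl | rfl
        · left
          exact Subtype.ext (Units.ext (by simpa using hc))
        · right
          refine Subtype.ext (Units.ext ?_)
          show (v : Matrix (Fin 4) (Fin 4) F) * x = (sc u : Matrix (Fin 4) (Fin 4) F) * sc u * (x * v)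
          simp only [hscv, Matrix.smul_mul, Matrix.mul_smul, one_mul, smul_smul]
          rw [hc, show (u : F) * u = -1 by linear_combination hu22]
      · rintro a ⟨⟨v, hv⟩, hva⟩
        obtain ⟨c, hc2, hc⟩ := monoR_sq hv
        rcases mul_self_eq_one_iff.1 ((sq c).symm.trans hc2) with rfl | rfl
        · exact ⟨⟨v, hv⟩, Subtype.ext (Units.ext (by simpa using hc)), hva⟩
        · refine ⟨⟨sc u, hzR⟩ * ⟨v, hv⟩, Subtype.ext (Units.ext ?_), fun h => hva ?_⟩
          · show (sc u : Matrix (Fin 4) (Fin 4) F) * v * ((sc u : Matrix (Fin 4) (Fin 4) F) * v) = 1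
            simp only [hscv, Matrix.smul_mul, Matrix.mul_smul, one_mul, hc, smul_smul]
            rw [show (u : F) * (u * -1) = 1 by linear_combination (-1 : F) * hu22, one_smul]
          · have hzc : ∀ g : R, (⟨sc u, hzR⟩ : R) * g = g * ⟨sc u, hzR⟩ := fun g =>
              Subtype.ext (scalar_comm ⟨u, rfl⟩ _)
            rw [mul_assoc, ← mul_assoc a, ← hzc a, mul_assoc] at h
            exact mul_left_cancel h
    have hsc' : A.map R.subtype ≤ scalars (Fin 4) F := by
      rintro _ ⟨a, ha, rfl⟩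
      have h1 := hle ha
      rw [hcenter, Subgroup.mem_subgroupOf] at h1
      exact h1.2
    have := AschPrimeCore.isCyclic_of_le_scalars hsc'
    exact isCyclic_of_surjective (A.equivMapOfInjective R.subtype (Subgroup.subtype_injective R)).symm
      (MulEquiv.surjective _)
  refine ⟨⟨⟨Nat.prime_two, fun x => ⟨2, Subtype.ext (by simpa using hpow4 x x.2)⟩, hchA, by rw [hexp]; rfl⟩, habs,
    5, 1, by norm_num, ?_, Or.inr (Or.inl ⟨rfl, rfl, hcenter_card, by simp, 2, by rw [hRcard]; norm_num⟩)⟩, ?_⟩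
  · rw [hcenter_card]
    exact ⟨by norm_num, hchar, by rw [hq]; norm_num, by norm_num, fun d hd hd' => by omega⟩
  · refine ⟨card_ne_zero habs hR2, fun x hx hs => trace_eq_zero habs hR2 hx hs, fun h => ?_⟩
    obtain ⟨g, hg, hgs⟩ := exists_perm_mem (F := F) 1
    obtain ⟨c, hc⟩ := (mem_scalars_iff g).1 (h hg)
    have := congrFun (congrFun (hgs.symm.trans hc) 1) 0
    simp [mono, klein] at this

/-- monomial groups over the field with five elements in dimension four normalise a symplectic-type group -/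
lemma lines_five (hq : Fintype.card F = 5) {H : Subgroup (GL (Fin 4) F)} (hsl : H ≤ specialLinear (Fin 4) F)
    {D : Fin 4 → Submodule F (Fin 4 → F)} (hD : IsMDecomposition 1 D) (hle : H ≤ decompositionStabilizer D) :
    ∃ R : Subgroup (GL (Fin 4) F), IsLinearSymplecticTypeData 2 R ∧ Traceless R ∧ H ≤ subgroupNormalizer R := by
  classical
  obtain ⟨hdata, htr⟩ := monoR_data hq
  have ht : (4 : ℕ) = Fintype.card (Fin 4) := (Fintype.card_fin 4).symm
  obtain ⟨B, hB⟩ := AschPrimeLinear.lines_mono (AschPrimeLinear.isMDecomposition_cast ht.symm hD)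
  set R := monoR F with hRdef
  let C := (MulAut.conj B).toMonoidHom
  have hCinj : Function.Injective C := (MulAut.conj B).injective
  refine ⟨R.map C, ?_, ?_, fun h hh => ?_⟩
  · let e := R.equivMapOfInjective C hCinj
    have hcard : Nat.card (Subgroup.center (R.map C)) = Nat.card (Subgroup.center R) :=
      Nat.card_congr (Subgroup.centerCongr e).toEquiv.symm
    refine ⟨⟨hdata.symplecticType.prime, hdata.symplecticType.pGroup.map C, fun A hA hAc => ?_, ?_⟩, ?_, ?_⟩
    · haveI := hA
      have hchar : (A.comap e.toMonoidHom).Characteristic := Subgroup.characteristic_iff_comap_eq.2 fun φ => by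
        have := (Subgroup.characteristic_iff_comap_eq.1 hA) ((e.symm.trans φ).trans e)
        ext x
        rw [Subgroup.mem_comap, Subgroup.mem_comap, Subgroup.mem_comap]
        conv_rhs => rw [← this]
        simp
      have hcomm : IsMulCommutative (A.comap e.toMonoidHom) := ⟨⟨fun x y => Subtype.ext (e.injective (by
        simp only [Subgroup.coe_mul, map_mul]
        exact congrArg Subtype.val (hAc.is_comm.comm (⟨e x, x.2⟩ : A) ⟨e y, y.2⟩)))⟩⟩
      haveI := hdata.symplecticType.cyclic_of_characteristic _ hchar hcomm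
      rw [← Subgroup.map_comap_eq_self_of_surjective (f := e.toMonoidHom) e.surjective A]
      exact isCyclic_of_surjective ((A.comap e.toMonoidHom).equivMapOfInjective e.toMonoidHom e.injective)
        (MulEquiv.surjective _)
    · rw [← Monoid.exponent_eq_of_mulEquiv e, hdata.symplecticType.exponent_eq]
    · have hirr : AbsIrred R := hdata.absIrred
      have hval : ∀ g : GL (Fin 4) F, ((C g : GL (Fin 4) F) : Matrix (Fin 4) (Fin 4) F) =
          (B : Matrix (Fin 4) (Fin 4) F) * g * ((B⁻¹ : GL (Fin 4) F) : Matrix (Fin 4) (Fin 4) F) := fun g => rfl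
      refine AbsIrred.mk' (fun W hW => ?_) fun M hM => ?_
      · have h1 := hirr.irred (W.comap (Matrix.toLin' (B : Matrix (Fin 4) (Fin 4) F))) fun g hg w hw => by
          simp only [Submodule.mem_comap, Matrix.toLin'_apply] at hw ⊢
          have := hW (C g) ⟨g, hg, rfl⟩ _ hw
          rwa [hval, Matrix.mulVec_mulVec, mul_assoc, Units.inv_mul, mul_one, ← Matrix.mulVec_mulVec] at this
        have hsur : Function.Surjective (Matrix.toLin' (B : Matrix (Fin 4) (Fin 4) F)) := fun v =>
          ⟨((B⁻¹ : GL (Fin 4) F) : Matrix (Fin 4) (Fin 4) F) *ᵥ v, by simp [mulVec_inv_mulVec]⟩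
        rcases h1 with h | h
        · left
          rw [← Submodule.map_comap_eq_of_surjective hsur W, h, Submodule.map_bot]
        · right
          rw [← Submodule.map_comap_eq_of_surjective hsur W, h, Submodule.map_top, LinearMap.range_eq_top.2 hsur]
      · obtain ⟨c, hc⟩ := hirr.commutant (M := ((B⁻¹ : GL (Fin 4) F) : Matrix (Fin 4) (Fin 4) F) * M * B) fun g hg => by
          have := hM (C g) ⟨g, hg, rfl⟩
          rw [hval] at this
          have h2 := congrArg (fun X => ((B⁻¹ : GL (Fin 4) F) : Matrix (Fin 4) (Fin 4) F) * X * B) this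
          simpa [mul_assoc] using h2
        refine ⟨c, ?_⟩
        have h2 := congrArg (fun X => (B : Matrix (Fin 4) (Fin 4) F) * X * ((B⁻¹ : GL (Fin 4) F) : Matrix (Fin 4) (Fin 4) F)) hc
        simpa [mul_assoc] using h2
    · obtain ⟨p, e', hpe, hmin, hcases⟩ := hdata.field
      refine ⟨p, e', hpe, by rw [hcard]; exact hmin, ?_⟩
      rw [hcard, Subgroup.card_map_of_injective hCinj]
      rcases hcases with h | h | ⟨a, b, c, d, f, g⟩
      · exact Or.inl h
      · exact Or.inr (Or.inl h)
      · simp at c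
  · obtain ⟨h0, h1, h2⟩ := htr
    refine ⟨h0, ?_, fun hle' => h2 fun g hg => ?_⟩
    · rintro _ ⟨g, hg, rfl⟩ hs
      show ((B * g * B⁻¹ : GL (Fin 4) F) : Matrix (Fin 4) (Fin 4) F).trace = 0
      rw [Units.val_mul, Units.val_mul, Matrix.trace_units_conj]
      exact h1 g hg fun h => hs ((scalars_normal (ι := Fin 4) (F := F)).conj_mem g h B)
    · have := (scalars_normal (ι := Fin 4) (F := F)).conj_mem _ (hle' ⟨g, hg, rfl⟩) B⁻¹
      simpa [C, mul_assoc] using this
  · have hh' : h ∈ decompositionStabilizer (D ∘ Fin.cast ht.symm) := by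
      rw [AschPrimeLinear.decompositionStabilizer_cast]; exact hle hh
    have hmem : B⁻¹ * h * B ∈ subgroupNormalizer R := by
      refine monoR_normalized ?_ (by simpa [hq] using hB h hh')
      have := conj_mem_sl B⁻¹ h (hsl hh)
      rwa [inv_inv] at this
    rw [subgroupNormalizer, Subgroup.mem_normalizer_iff] at hmem ⊢
    intro x
    have h3 := hmem (B⁻¹ * x * B)
    simp only [Subgroup.mem_map_equiv, C, MulEquiv.coe_toMonoidHom, MulAut.conj_symm_apply]
    rw [h3]
    simp [mul_assoc]

end Cfsg.Agent.AschGenMaximal
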