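/-
Aschbacher's theorem, linear case in arbitrary dimension, part 6: maximal subgroups of the special linear group.
-/
import Cfsg.Agent.Lib.AschGenMaximal

set_option autoImplicit false

namespace Cfsg.Agent.AschGenCases

open Cfsg Cfsg.Geo Cfsg.Agent.AschPrimeBasic Cfsg.Agent.AschPrimeForms Cfsg.Agent.AschGenExtra
  Cfsg.Agent.AschGenLinear Cfsg.Agent.AschGenMaximal

variable {ι : Type} [Fintype ι] [DecidableEq ι] {F : Type*} [Field F] [Fintype F]

/-- the geometric possibilities for a maximal subgroup -/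
inductive Cases (H : Subgroup (GL ι F)) : Prop
  | sub (W : Submodule F (ι → F)) (hb : W ≠ ⊥) (ht : W ≠ ⊤) (eq : H = subspaceStabilizer W ⊓ specialLinear ι F)
  | decomp (t m : ℕ) (D : Fin t → Submodule F (ι → F)) (hD : IsMDecomposition m D) (hn : Fintype.card ι = t * m)
      (h1 : m = 1 → 5 ≤ Fintype.card F) (h2 : m = 2 → 3 ≤ Fintype.card F)
      (h22 : m = 2 → t = 2 → 4 ≤ Fintype.card F)
      (eq : H = decompositionStabilizer D ⊓ specialLinear ι F)
  | field (r : ℕ) (K : Subalgebra F (Matrix ι ι F)) (hr : r.Prime) (hK : IsFieldSubalgebra r K)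
      (dvd : r ∣ Fintype.card ι) (eq : H = subalgebraNormalizer K ⊓ specialLinear ι F)
  | tensor (n₁ n₂ : ℕ) (e : ι ≃ Fin n₁ × Fin n₂) (P : GL ι F) (h1 : 2 ≤ n₁) (h12 : n₁ < n₂)
      (hn : Fintype.card ι = n₁ * n₂) (hq : n₁ = 2 → 3 ≤ Fintype.card F)
      (eq : H = tensorProductSubgroup n₁ n₂ e P ⊓ specialLinear ι F)
  | subfield (F₀ : Subfield F) (r : ℕ) (P : GL ι F) (hr : r.Prime) (hc : Fintype.card F = Nat.card F₀ ^ r)
      (eq : H = subfieldSubgroup F₀ P ⊓ specialLinear ι F)
  | extra (p e r m : ℕ) (R : Subgroup (GL ι F)) (hp : p.Prime) (hchar : CharP F p) (hF : Fintype.card F = p ^ e)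
      (hr : r.Prime) (hn : Fintype.card ι = r ^ m)
      (hmin : (Odd r ∧ Odd e ∧ r ∣ p ^ e - 1 ∧ ∀ d, 0 < d → d < e → ¬ r ∣ p ^ d - 1) ∨
        (r = 2 ∧ e = 1 ∧ p % 4 = 1))
      (hR : IsLinearSymplecticTypeData r R) (eq : H = subgroupNormalizer R ⊓ specialLinear ι F)
  | wreath (m t : ℕ) (e : ι ≃ (Fin t → Fin m)) (P : GL ι F) (hm : 3 ≤ m) (ht : 2 ≤ t)
      (hn : Fintype.card ι = m ^ t) (eq : H = tensorWreathSubgroup m t e P ⊓ specialLinear ι F)
  | symp (f : (ι → F) → (ι → F) → F) (hf : IsSymplecticForm f) (heven : Even (Fintype.card ι))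
      (eq : H = similarityGroup f ⊓ specialLinear ι F)
  | unit (σ : F ≃+* F) (f : (ι → F) → (ι → F) → F) (hf : IsUnitaryForm σ f)
      (eq : H = similarityGroup f ⊓ specialLinear ι F)
  | quad (Q : (ι → F) → F) (hodd : Odd (Fintype.card F)) (hQ : IsNondegenerateQuadraticForm Q)
      (eq : H = quadSimilarityGroup Q ⊓ specialLinear ι F)

/-- a maximal subgroup of the special linear group is geometric or residual -/
theorem maximal_cases (h3 : 3 ≤ Fintype.card ι) {H : Subgroup (GL ι F)}
    (hH : IsMaximalIn (specialLinear ι F) H) : Cases H ∨ InLinearResidualClass H := by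
  classical
  have : Nonempty ι := Fintype.card_pos_iff.1 (by omega)
  have hsl : H ≤ specialLinear ι F := hH.1.le
  refine (linear_alt h3 hsl).imp (fun halt => ?_) id
  have symp' : ∀ f : (ι → F) → (ι → F) → F, IsSymplecticForm f → H ≤ similarityGroup f → Cases H :=
    fun f hf hle => .symp f hf (by
      by_contra h
      exact no_symplectic (Nat.not_even_iff_odd.1 h) ⟨f, hf⟩)
      (eq_of_maximal hH hle (sl_not_le_similarityGroup h3 (sesq_of_bilinear hf.bilinear) hf.nondegenerate))
  have unit' : ∀ (σ : F ≃+* F) (f : (ι → F) → (ι → F) → F), IsUnitaryForm σ f → H ≤ similarityGroup f → Cases H :=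
    fun σ f hf hle =>
      .unit σ f hf (eq_of_maximal hH hle (sl_not_le_similarityGroup h3 (sesq_of_unitary hf) hf.nondegenerate))
  have quad' : ∀ Q : (ι → F) → F, Odd (Fintype.card F) → IsNondegenerateQuadraticForm Q →
      H ≤ quadSimilarityGroup Q → Cases H := fun Q ho hQ hle =>
    .quad Q ho hQ (eq_of_maximal hH hle (sl_not_le_quadSimilarityGroup h3 (fun h2 => by
      obtain ⟨p, hp⟩ := CharP.exists F
      obtain ⟨e, hpp, he⟩ := FiniteField.card F p
      have hp2 : p = 2 := (Nat.prime_dvd_prime_iff_eq hpp Nat.prime_two).1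
        ((CharP.cast_eq_zero_iff F p 2).1 (by exact_mod_cast h2))
      subst hp2
      rw [he] at ho
      exact (Nat.not_even_iff_odd.2 ho) ((Nat.even_pow' e.pos.ne').2 even_two)) hQ))
  have field' : ∀ (r : ℕ) (K : Subalgebra F (Matrix ι ι F)), r.Prime → IsFieldSubalgebra r K →
      H ≤ subalgebraNormalizer K → Cases H := fun r K hr hK hle =>
    .field r K hr hK (field_degree_dvd hK)
      (eq_of_maximal hH hle (sl_not_le_subalgebraNormalizer h3 r hr.two_le K hK))
  cases halt with
  | sub W hb ht le => exact .sub W hb ht (eq_of_maximal hH le (sl_not_le_subspaceStabilizer W hb ht))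
  | decomp t m D hD le =>
    by_cases h1 : m = 1 ∧ Fintype.card F < 5
    · obtain ⟨rfl, hq⟩ := h1
      rcases lines_small h3 hD le hq with ⟨W, hb, ht, hle⟩ | ⟨σ, f, hf, hle⟩ | ⟨Q, ho, hQ, hle⟩
      · exact .sub W hb ht (eq_of_maximal hH hle (sl_not_le_subspaceStabilizer W hb ht))
      · exact unit' σ f hf hle
      · exact quad' Q ho hQ hle
    by_cases h2 : m = 2 ∧ (Fintype.card F = 2 ∨ (t = 2 ∧ Fintype.card F ≤ 3))
    · obtain ⟨rfl, hq⟩ := h2
      obtain ⟨f, hf, hle⟩ := planes_symplectic hD hsl le hq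
      exact symp' f hf hle
    refine .decomp t m D hD (decomposition_basis hD).1 (fun h => ?_) (fun h => ?_) (fun h ht => ?_)
      (eq_of_maximal hH le (sl_not_le_decompositionStabilizer hD))
    · by_contra hlt; exact h1 ⟨h, by omega⟩
    · have := Fintype.one_lt_card (α := F)
      by_contra hlt; exact h2 ⟨h, Or.inl (by omega)⟩
    · by_contra hlt; exact h2 ⟨h, Or.inr ⟨ht, by omega⟩⟩
  | field r K hr hK dvd le => exact field' r K hr hK le
  | tensor n₁ n₂ e P h1 h12 le =>
    have hn : Fintype.card ι = n₁ * n₂ := by simpa using Fintype.card_congr e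
    by_cases hq : n₁ = 2 ∧ Fintype.card F = 2
    · obtain ⟨rfl, hq⟩ := hq
      obtain ⟨K, hK, hle⟩ := tensor_two_field hq (show 0 < n₂ by omega) e P
      exact field' 2 K Nat.prime_two hK (le.trans hle)
    refine .tensor n₁ n₂ e P h1 h12 hn (fun h => ?_) (eq_of_maximal hH le (sl_not_le_tensor h1 (by omega) e P))
    have := Fintype.one_lt_card (α := F)
    by_contra hlt; exact hq ⟨h, by omega⟩
  | subfield φ r P hr hc le =>
    exact .subfield _ r P hr hc
      (eq_of_maximal hH le (sl_not_le_subfieldSubgroup (by omega) (card_eq_pow_ne_top hr hc) P))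
  | extra p e r m R hp hchar hF hr hn hmin hR htr le =>
    exact .extra p e r m R hp hchar hF hr hn hmin hR (eq_of_maximal hH le (sl_not_le_normalizer h3 htr))
  | wreath m t e P hm ht le =>
    exact .wreath m t e P hm ht (by simpa using Fintype.card_congr e)
      (eq_of_maximal hH le (sl_not_le_wreath (by omega) ht e P))
  | symp f hf le => exact symp' f hf le
  | unit σ f hf le => exact unit' σ f hf le
  | quad Q hodd hQ le => exact quad' Q hodd hQ le

/-- a prime dividing a product of two numbers with given divisors -/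
lemma not_pow {n r m : ℕ} (hr : r.Prime) (h : n = r ^ m) {a b : ℕ} (ha : a.Prime) (hb : b.Prime) (hab : a ≠ b)
    (had : a ∣ n) (hbd : b ∣ n) : False := by
  subst h
  exact hab (((Nat.prime_dvd_prime_iff_eq ha hr).1 (ha.dvd_of_dvd_pow had)).trans
    ((Nat.prime_dvd_prime_iff_eq hb hr).1 (hb.dvd_of_dvd_pow hbd)).symm)

/-- the two factors of a number -/
lemma factor_cases {n a b : ℕ} (h : n = a * b) (ha : 2 ≤ a) (hb : 1 ≤ b) : a ≤ n := by
  subst h; exact Nat.le_mul_of_pos_right a hb

end Cfsg.Agent.AschGenCases
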