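/-
A subgroup of order 660 of SU_5(2): explicit data over the field of four elements coded as `Fin 4`.
-/
import Mathlib

set_option autoImplicit false

namespace Cfsg.Agent.AschPrimeSU52Data

/-- addition of the field with four elements -/
def add4 : Fin 4 → Fin 4 → Fin 4 := ![![0, 1, 2, 3], ![1, 0, 3, 2], ![2, 3, 0, 1], ![3, 2, 1, 0]]

/-- multiplication of the field with four elements -/
def mul4 : Fin 4 → Fin 4 → Fin 4 := ![![0, 0, 0, 0], ![0, 1, 2, 3], ![0, 2, 3, 1], ![0, 3, 1, 2]]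

/-- five-dimensional dot product -/
def dot5 (u v : Fin 5 → Fin 4) : Fin 4 :=
  add4 (add4 (add4 (add4 (mul4 (u 0) (v 0)) (mul4 (u 1) (v 1))) (mul4 (u 2) (v 2))) (mul4 (u 3) (v 3)))
    (mul4 (u 4) (v 4))

/-- matrix product -/
def mm (A B : Fin 5 → Fin 5 → Fin 4) : Fin 5 → Fin 5 → Fin 4 := fun i j => dot5 (A i) fun k => B k j

/-- the identity matrix -/
def one5 : Fin 5 → Fin 5 → Fin 4 := fun i j => if i = j then 1 else 0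

/-- powers of an element of order eleven -/
def pw : Fin 11 → Fin 5 → Fin 5 → Fin 4 := ![
  ![![1, 0, 0, 0, 0], ![0, 1, 0, 0, 0], ![0, 0, 1, 0, 0], ![0, 0, 0, 1, 0], ![0, 0, 0, 0, 1]],
  ![![3, 2, 3, 2, 2], ![1, 1, 3, 0, 0], ![2, 1, 2, 2, 3], ![2, 3, 3, 0, 0], ![3, 2, 3, 1, 3]],
  ![![3, 2, 2, 2, 2], ![3, 0, 1, 3, 0], ![2, 0, 2, 3, 0], ![3, 3, 2, 2, 1], ![1, 2, 3, 3, 1]],
  ![![1, 3, 0, 0, 1], ![1, 2, 2, 3, 2], ![3, 3, 0, 0, 2], ![2, 3, 1, 3, 3], ![2, 3, 2, 2, 3]],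
  ![![3, 3, 2, 3, 1], ![2, 3, 2, 3, 2], ![0, 1, 1, 3, 0], ![3, 2, 1, 2, 2], ![0, 2, 3, 3, 0]],
  ![![0, 0, 2, 3, 3], ![1, 3, 3, 2, 3], ![2, 2, 3, 2, 3], ![0, 0, 1, 1, 3], ![2, 3, 2, 1, 2]],
  ![![0, 1, 3, 0, 3], ![0, 2, 3, 0, 2], ![3, 2, 2, 1, 3], ![2, 3, 3, 1, 1], ![2, 2, 2, 2, 3]],
  ![![2, 3, 0, 2, 0], ![2, 2, 1, 3, 3], ![3, 3, 1, 1, 2], ![2, 2, 2, 3, 2], ![1, 3, 0, 3, 0]],
  ![![1, 1, 2, 3, 3], ![2, 3, 2, 2, 2], ![0, 3, 0, 1, 3], ![0, 2, 0, 2, 3], ![1, 3, 3, 2, 2]],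
  ![![2, 2, 3, 2, 1], ![3, 0, 0, 2, 3], ![3, 1, 3, 3, 2], ![3, 2, 2, 3, 2], ![3, 0, 0, 1, 1]],
  ![![2, 1, 3, 3, 2], ![3, 1, 1, 2, 3], ![2, 2, 3, 2, 2], ![3, 0, 3, 0, 1], ![3, 0, 2, 0, 2]]]

/-- an element of order five normalising it -/
def bm : Fin 5 → Fin 5 → Fin 4 := ![![0, 0, 0, 0, 1], ![1, 0, 0, 0, 0], ![0, 1, 0, 0, 0], ![0, 0, 1, 0, 0], ![0, 0, 0, 1, 0]]

/-- an involution -/
def gm : Fin 5 → Fin 5 → Fin 4 := ![![0, 0, 0, 0, 1], ![0, 0, 0, 1, 0], ![0, 0, 1, 0, 0], ![0, 1, 0, 0, 0], ![1, 0, 0, 0, 0]]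

/-- an involution outside the subgroup -/
def dm : Fin 5 → Fin 5 → Fin 4 := ![![0, 1, 0, 0, 0], ![1, 0, 0, 0, 0], ![0, 0, 1, 0, 0], ![0, 0, 0, 1, 0], ![0, 0, 0, 0, 1]]

/-- representatives of an orbit of isotropic points -/
def orb : List (Fin 5 → Fin 4) := [
  ![0, 1, 1, 1, 1],
  ![0, 1, 1, 3, 1],
  ![0, 1, 1, 3, 2],
  ![0, 1, 2, 2, 1],
  ![0, 1, 2, 2, 3],
  ![0, 1, 2, 3, 3],
  ![0, 1, 3, 1, 1],
  ![0, 1, 3, 1, 2],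
  ![0, 1, 3, 2, 3],
  ![0, 1, 3, 3, 1],
  ![0, 1, 3, 3, 2],
  ![1, 0, 1, 1, 1],
  ![1, 0, 1, 1, 3],
  ![1, 0, 1, 2, 2],
  ![1, 0, 1, 3, 1],
  ![1, 0, 1, 3, 3],
  ![1, 0, 2, 1, 3],
  ![1, 0, 2, 3, 1],
  ![1, 0, 2, 3, 3],
  ![1, 0, 3, 2, 2],
  ![1, 0, 3, 2, 3],
  ![1, 0, 3, 3, 2],
  ![1, 1, 0, 1, 1],
  ![1, 1, 0, 1, 3],
  ![1, 1, 0, 2, 3],
  ![1, 1, 1, 0, 1],
  ![1, 1, 1, 1, 0],
  ![1, 1, 2, 0, 2],
  ![1, 1, 2, 0, 3],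
  ![1, 1, 3, 0, 2],
  ![1, 1, 3, 0, 3],
  ![1, 1, 3, 1, 0],
  ![1, 1, 3, 2, 0],
  ![1, 2, 0, 1, 3],
  ![1, 2, 0, 2, 1],
  ![1, 2, 0, 2, 2],
  ![1, 2, 0, 3, 1],
  ![1, 2, 0, 3, 2],
  ![1, 2, 2, 0, 2],
  ![1, 2, 2, 0, 3],
  ![1, 2, 2, 1, 0],
  ![1, 2, 2, 3, 0],
  ![1, 2, 3, 0, 2],
  ![1, 2, 3, 3, 0],
  ![1, 3, 0, 2, 1],
  ![1, 3, 0, 2, 2],
  ![1, 3, 0, 3, 1],
  ![1, 3, 1, 0, 1],
  ![1, 3, 1, 0, 2],
  ![1, 3, 1, 1, 0],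
  ![1, 3, 1, 2, 0],
  ![1, 3, 2, 0, 1],
  ![1, 3, 2, 3, 0],
  ![1, 3, 3, 1, 0],
  ![1, 3, 3, 2, 0]]

/-- the vector in the last orbit entry leaving the orbit under `dm` -/
def wit : Fin 5 → Fin 4 := ![0, 1, 1, 3, 2]

/-- membership in the orbit up to a non-zero scalar -/
def inOrb (u : Fin 5 → Fin 4) : Bool :=
  orb.any fun o => [1, 2, 3].any fun l : Fin 4 => (List.finRange 5).all fun i => u i == mul4 l (o i)

/-- Hermitian unitarity -/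
def isUni (A : Fin 5 → Fin 5 → Fin 4) : Prop :=
  ∀ i j, dot5 (fun k => A k i) (fun k => mul4 (A k j) (A k j)) = one5 i j

instance (A : Fin 5 → Fin 5 → Fin 4) : Decidable (isUni A) := by unfold isUni; infer_instance

lemma uni_a : isUni (pw 1) := by decide +kernel

lemma uni_b : isUni bm := by decide +kernel

lemma uni_g : isUni gm := by decide +kernel

lemma uni_d : isUni dm := by decide +kernel

lemma pw_zero : pw 0 = one5 := by decide +kernel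

lemma pw_succ : ∀ k : Fin 11, mm (pw k) (pw 1) = pw (k + 1) := by decide +kernel

lemma pw_one_ne : pw 1 ≠ one5 := by decide +kernel

lemma bm_five : mm (mm (mm (mm bm bm) bm) bm) bm = one5 := by decide +kernel

lemma gm_two : mm gm gm = one5 := by decide +kernel

lemma dm_two : mm dm dm = one5 := by decide +kernel

lemma bm_conj : mm bm (pw 1) = mm (pw 4) bm := by decide +kernel

lemma gm_not_normal : ∀ k, mm gm (pw 1) ≠ mm (pw k) gm := by decide +kernel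

/-- trace -/
def tr5 (A : Fin 5 → Fin 5 → Fin 4) : Fin 4 :=
  add4 (add4 (add4 (add4 (A 0 0) (A 1 1)) (A 2 2)) (A 3 3)) (A 4 4)

lemma trace_classes : ∀ k : Fin 11, k ≠ 0 → tr5 (pw k) = tr5 (pw 1) →
    k = 1 ∨ k = 4 ∨ k = 5 ∨ k = 9 ∨ k = 3 := by decide +kernel

lemma orb_stable_a : ∀ o ∈ orb, inOrb (fun i => dot5 (pw 1 i) o) = true := by decide +kernel

lemma orb_stable_b : ∀ o ∈ orb, inOrb (fun i => dot5 (bm i) o) = true := by decide +kernel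

lemma orb_stable_g : ∀ o ∈ orb, inOrb (fun i => dot5 (gm i) o) = true := by decide +kernel

lemma wit_mem : wit ∈ orb := by decide +kernel

lemma wit_moves : inOrb (fun i => dot5 (dm i) wit) = false := by decide +kernel

end Cfsg.Agent.AschPrimeSU52Data
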