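/-
The normaliser of a degree-five field in SU_5(2) is not maximal: it lies in a subgroup of order 660.
-/
import Cfsg.Agent.Lib.AschPrimeUnitary
import Cfsg.Agent.Lib.AschPrimeSU52Data

set_option autoImplicit false

namespace Cfsg.Agent.AschPrimeSU52

open scoped Matrix
open Cfsg Cfsg.Geo Cfsg.Agent.AschPrimeBasic Cfsg.Agent.AschPrimeUnitary Cfsg.Agent.AschPrimeUnitaryProper
  Cfsg.Agent.AschPrimeSU52Data

variable {F : Type*} [Field F] [Fintype F]

lemma char_two (hF : Fintype.card F = 2 ^ 2) : (2 : F) = 0 := by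
  have h1 := Nat.cast_card_eq_zero F
  rw [hF] at h1
  push_cast at h1
  exact pow_eq_zero_iff two_ne_zero |>.1 (show (2 : F) ^ 2 = 0 by linear_combination h1)

lemma exists_omega (hF : Fintype.card F = 2 ^ 2) : ∃ w : F, w * w = w + 1 ∧ w ≠ 0 ∧ w ≠ 1 := by
  classical
  obtain ⟨w, hw⟩ := Finset.exists_mem_notMem_of_card_lt_card
    (show ({0, 1} : Finset F).card < (Finset.univ : Finset F).card by
      have h1 := Finset.card_le_two (a := (0 : F)) (b := 1)
      rw [Finset.card_univ, hF]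
      omega)
  simp only [Finset.mem_insert, Finset.mem_singleton, not_or] at hw
  refine ⟨w, ?_, hw.2.1, hw.2.2⟩
  have h3 : w ^ 3 = 1 := by
    have := FiniteField.pow_card_sub_one_eq_one w hw.2.1
    rwa [hF] at this
  have h4 : (w - 1) * (w * w + w + 1) = 0 := by linear_combination h3
  have h5 := (mul_eq_zero.1 h4).resolve_left (sub_ne_zero.2 hw.2.2)
  linear_combination h5 - (w + 1) * char_two hF

/-- the coding of the field -/
def code (w : F) : Fin 4 → F := ![0, 1, w, w + 1]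

variable {w : F}

lemma code_add (h2 : (2 : F) = 0) (a b : Fin 4) : code w (add4 a b) = code w a + code w b := by
  fin_cases a <;> fin_cases b <;> simp [code, add4] <;>
    first
    | linear_combination (-1 : F) * h2
    | linear_combination (-w) * h2
    | linear_combination (-(w + 1)) * h2
    | ring

lemma code_mul (h2 : (2 : F) = 0) (hw : w * w = w + 1) (a b : Fin 4) :
    code w (mul4 a b) = code w a * code w b := by
  fin_cases a <;> fin_cases b <;> simp [code, mul4] <;>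
    first
    | linear_combination -hw
    | linear_combination -hw - w * h2
    | linear_combination -hw - (w + 1) * h2

lemma code_inj (h2 : (2 : F) = 0) (hw0 : w ≠ 0) (hw1 : w ≠ 1) : Function.Injective (code w) := by
  have e : w + 1 ≠ 0 := fun h => hw1 (by linear_combination h - h2)
  intro a b h
  fin_cases a <;> fin_cases b <;> simp [code] at h ⊢ <;>
    first
    | exact hw0 h
    | exact hw0 h.symm
    | exact hw1 h
    | exact hw1 h.symm
    | exact e h
    | exact e h.symm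
    | exact hw0 (by linear_combination h)
    | exact hw0 (by linear_combination -h)
    | exact one_ne_zero (α := F) (by linear_combination h)
    | exact one_ne_zero (α := F) (by linear_combination -h)

/-- the coded matrix -/
def mat (w : F) (A : Fin 5 → Fin 5 → Fin 4) : Matrix (Fin 5) (Fin 5) F := Matrix.of fun i j => code w (A i j)

lemma code_dot (h2 : (2 : F) = 0) (hw : w * w = w + 1) (u v : Fin 5 → Fin 4) :
    code w (dot5 u v) = ∑ i, code w (u i) * code w (v i) := by
  simp only [dot5, code_add h2, code_mul h2 hw, Fin.sum_univ_five]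

lemma mat_mul (h2 : (2 : F) = 0) (hw : w * w = w + 1) (A B : Fin 5 → Fin 5 → Fin 4) :
    mat w (mm A B) = mat w A * mat w B := by
  ext i j
  simp [mat, mm, Matrix.mul_apply, code_dot h2 hw]

lemma mat_one : mat w one5 = (1 : Matrix (Fin 5) (Fin 5) F) := by
  ext i j
  by_cases h : i = j <;> simp [mat, one5, h, code, Matrix.one_apply]

lemma mat_inj (h2 : (2 : F) = 0) (hw0 : w ≠ 0) (hw1 : w ≠ 1) {A B : Fin 5 → Fin 5 → Fin 4}
    (h : mat w A = mat w B) : A = B :=
  funext fun i => funext fun j => code_inj h2 hw0 hw1 (congrFun (congrFun h i) j)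

lemma isU_mat (hF : Fintype.card F = 2 ^ 2) (hw : w * w = w + 1) {A : Fin 5 → Fin 5 → Fin 4}
    (hA : isUni A) : OrthUnitaryHerm.IsU 2 (mat w A) := by
  have h2 := char_two hF
  have h1 : (mat w A)ᵀ * (mat w A).map (fr hF) = 1 := by
    rw [← mat_one (w := w)]
    ext i j
    have := congrArg (code w) (hA i j)
    simp only [code_dot h2 hw, code_mul h2 hw] at this
    simpa [mat, Matrix.mul_apply, pow_two] using this
  intro u v
  have := ((AschPrimeForms.sesq_of_unitary (herm_unitary (n := 5) hF)).similar_iff (mat w A) 1).2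
    (by rw [gram_herm hF, mul_one, one_smul]; exact h1) u v
  rwa [one_mul] at this

lemma det_eq_one_of_pow (hF : Fintype.card F = 2 ^ 2) {g : Matrix (Fin 5) (Fin 5) F} {k : ℕ}
    (hk : Nat.Coprime k 3) (h : g ^ k = 1) : g.det = 1 := by
  have h1 : g.det ^ k = 1 := by rw [← Matrix.det_pow, h, Matrix.det_one]
  have h0 : g.det ≠ 0 := by
    intro h0
    rw [h0] at h1
    rcases Nat.eq_zero_or_pos k with rfl | hkpos
    · simp at hk
    · rw [zero_pow hkpos.ne'] at h1
      exact zero_ne_one h1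
  have h3 : g.det ^ 3 = 1 := by
    have := FiniteField.pow_card_sub_one_eq_one g.det h0
    rwa [hF] at this
  have := pow_gcd_eq_one.2 ⟨h1, h3⟩
  rwa [Nat.coprime_iff_gcd_eq_one.1 hk, pow_one] at this

lemma card_gu : ¬ 121 ∣ 2 ^ (5 * (5 - 1) / 2) *
    ∏ i ∈ Finset.range 5, (if Even i then 2 ^ (i + 1) + 1 else 2 ^ (i + 1) - 1) := by
  simp [Finset.prod_range_succ, Nat.even_iff]

/-- all eleven-element subgroups of the special unitary group are conjugate -/
lemma conj_of_order_eleven (hF : Fintype.card F = 2 ^ 2) {y a : GL (Fin 5) F} (hy : y ∈ suGL 5 F 2)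
    (ha : a ∈ suGL 5 F 2) (hy11 : orderOf y = 11) (ha11 : orderOf a = 11) :
    ∃ g ∈ suGL 5 F 2, ∃ t : ℕ, g * y * g⁻¹ = a ^ t := by
  haveI : Fact (Nat.Prime 11) := ⟨by norm_num⟩
  set I := suGL 5 F 2
  have hsyl : ∀ z : I, orderOf z = 11 → ∃ P : Sylow 11 I, (P : Subgroup I) = Subgroup.zpowers z := by
    intro z hz
    have hc : Nat.card (Subgroup.zpowers z) = 11 := by rw [Nat.card_zpowers, hz]
    refine ⟨Sylow.ofCard (Subgroup.zpowers z) ?_, rfl⟩
    rw [hc]
    have hpos : 0 < Nat.card I := Nat.card_pos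
    have hle : (Nat.card I).factorization 11 ≤ 1 := by
      by_contra hlt
      push Not at hlt
      have h1 : 11 ^ 2 ∣ Nat.card I :=
        ((by norm_num : Nat.Prime 11).pow_dvd_iff_le_factorization hpos.ne').2 hlt
      have h2 : Nat.card I ∣ Nat.card (Cfsg.GU 5 F 2) := Subgroup.card_dvd_of_le inf_le_left
      have h3 := h1.trans h2
      rw [OrthUnitaryHerm.card_GU hF] at h3
      exact card_gu h3
    have hge : 1 ≤ (Nat.card I).factorization 11 :=
      ((by norm_num : Nat.Prime 11).pow_dvd_iff_le_factorization hpos.ne').1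
        (by rw [pow_one, ← hc]; exact Subgroup.card_subgroup_dvd_card _)
    rw [show (Nat.card I).factorization 11 = 1 by omega, pow_one]
  obtain ⟨P, hP⟩ := hsyl ⟨y, hy⟩ (by rw [← hy11]; exact (Subgroup.orderOf_coe _).symm)
  obtain ⟨Q, hQ⟩ := hsyl ⟨a, ha⟩ (by rw [← ha11]; exact (Subgroup.orderOf_coe _).symm)
  obtain ⟨g, hg⟩ := MulAction.exists_smul_eq I P Q
  refine ⟨g, g.2, ?_⟩
  have h1 : g * ⟨y, hy⟩ * g⁻¹ ∈ (Q : Subgroup I) := by
    rw [← hg, Sylow.coe_subgroup_smul, Subgroup.mem_pointwise_smul_iff_inv_smul_mem]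
    have : (MulAut.conj g)⁻¹ • (g * ⟨y, hy⟩ * g⁻¹) = (⟨y, hy⟩ : I) := by
      rw [← map_inv, MulAut.smul_def, MulAut.conj_apply]
      group
    rw [this, hP]
    exact Subgroup.mem_zpowers _
  rw [hQ] at h1
  obtain ⟨t, ht⟩ := (isOfFinOrder_of_finite (⟨a, ha⟩ : I)).mem_powers_iff_mem_zpowers.2 h1
  exact ⟨t, by simpa using (congrArg Subtype.val ht).symm⟩

/-- facts about the field in the matrix algebra -/
structure YData (K : Subalgebra F (Matrix (Fin 5) (Fin 5) F)) (y : GL (Fin 5) F) : Prop where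
  mem_su : y ∈ suGL 5 F 2
  order : orderOf y = 11
  normaliser : ∀ g ∈ suGL 5 F 2, g ∈ subalgebraNormalizer K → ∃ t : ℕ, g * y * g⁻¹ = y ^ t
  self_mem : y ∈ subalgebraNormalizer K
  centraliser : ∀ g ∈ suGL 5 F 2, g * y = y * g → ∃ t : ℕ, g = y ^ t

lemma exists_ydata (hF : Fintype.card F = 2 ^ 2) {K : Subalgebra F (Matrix (Fin 5) (Fin 5) F)}
    (hK : IsFieldSubalgebra 5 K) (hadj : IsAdjointClosedFor (hermForm 5 F 2) K) :
    ∃ y, YData K y := by
  classical
  have hstar : ∀ k ∈ K, star' hF k ∈ K := by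
    intro k hk
    obtain ⟨k', hk', he⟩ := hadj k hk
    have : k' = star' hF k := by
      apply Matrix.toLin'.injective
      refine LinearMap.ext fun v => ?_
      rw [Matrix.toLin'_apply, Matrix.toLin'_apply, ← sub_eq_zero]
      refine OrthUnitaryHerm.eq_zero_of_herm_eq_zero hF fun u => ?_
      rw [OrthUnitaryHerm.herm_conj hF u, OrthUnitaryHerm.herm_sub_right hF, ← he, ← herm_adjoint hF, sub_self,
        OrthUnitaryHerm.zero_pow_q hF]
    exact this ▸ hk'
  letI : CommRing K := { (inferInstance : Ring K) with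
    mul_comm := fun a b => Subtype.ext (hK.comm _ a.2 _ b.2) }
  haveI : Finite K := inferInstance
  haveI hnt : Nontrivial K := ⟨⟨0, 1, fun h => by
    have := congrFun (congrFun (congrArg Subtype.val h) (0 : Fin 5)) (0 : Fin 5)
    simp at this⟩⟩
  have hfield : IsField K := by
    refine ⟨⟨0, 1, zero_ne_one⟩, mul_comm, fun {a} ha => ?_⟩
    obtain ⟨b, hb, hab⟩ := hK.inv _ a.2 (fun h => ha (Subtype.ext h))
    exact ⟨⟨b, hb⟩, Subtype.ext hab⟩
  letI : Field K := hfield.toField
  letI : Fintype K := Fintype.ofFinite K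
  have hcard : Fintype.card K = 1024 := by
    rw [Module.card_eq_pow_finrank (K := F), hK.finrank_eq, hF]; norm_num
  haveI : Fact (Nat.Prime 2) := ⟨Nat.prime_two⟩
  have h2K : (2 : K) = 0 := by
    have h := congrArg (algebraMap F K) (char_two hF)
    rwa [map_ofNat, map_zero] at h
  haveI : CharP K 2 := CharTwo.of_one_ne_zero_of_two_eq_zero one_ne_zero h2K
  -- the adjoint as a field automorphism
  let τ : K ≃+* K :=
    { toFun := fun k => ⟨star' hF k, hstar _ k.2⟩
      invFun := fun k => ⟨star' hF k, hstar _ k.2⟩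
      left_inv := fun k => Subtype.ext (star'_star' hF _)
      right_inv := fun k => Subtype.ext (star'_star' hF _)
      map_mul' := fun a b => Subtype.ext (by
        show star' hF ((a : Matrix (Fin 5) (Fin 5) F) * (b : Matrix (Fin 5) (Fin 5) F)) =
          star' hF (a : Matrix (Fin 5) (Fin 5) F) * star' hF (b : Matrix (Fin 5) (Fin 5) F)
        rw [star'_mul]
        exact hK.comm _ (hstar _ b.2) _ (hstar _ a.2))
      map_add' := fun a b => Subtype.ext (by
        show star' hF ((a : Matrix (Fin 5) (Fin 5) F) + (b : Matrix (Fin 5) (Fin 5) F)) =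
          star' hF (a : Matrix (Fin 5) (Fin 5) F) + star' hF (b : Matrix (Fin 5) (Fin 5) F)
        ext i j
        simp [star', OrthUnitaryHerm.add_pow_q hF]) }
  letI : Algebra (ZMod 2) K := ZMod.algebra K 2
  let τ' : K ≃ₐ[ZMod 2] K := AlgEquiv.ofRingEquiv (f := τ) fun r => by
    have h := RingHom.congr_fun
      (RingHom.ext_zmod ((τ : K →+* K).comp (algebraMap (ZMod 2) K)) (algebraMap (ZMod 2) K)) r
    exact h
  obtain ⟨⟨i, hi10⟩, hi⟩ := (FiniteField.bijective_frobeniusAlgEquivOfAlgebraic_pow (ZMod 2) K).2 τ'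
  have hrank : Module.finrank (ZMod 2) K = 10 := by
    have h1 := Module.card_eq_pow_finrank (K := ZMod 2) (V := K)
    rw [hcard, ZMod.card] at h1
    exact (Nat.pow_right_injective le_rfl (h1.symm.trans (by norm_num : (1024 : ℕ) = 2 ^ 10)))
  rw [hrank] at hi10
  have hpow : ∀ x : K, τ x = x ^ 2 ^ i := fun x => by
    have h := congrArg (fun e : K ≃ₐ[ZMod 2] K => e x) hi
    simp only [FiniteField.coe_frobeniusAlgEquivOfAlgebraic_iterate, AlgEquiv.coe_pow,
      Nat.card_zmod, ZMod.card] at h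
    exact h.symm
  obtain ⟨g, hg⟩ := IsCyclic.exists_generator (α := Kˣ)
  have hord : orderOf g = 1023 := by
    rw [orderOf_eq_card_of_forall_mem_zpowers hg, Nat.card_units, Nat.card_eq_fintype_card, hcard]
  obtain ⟨w, hw, hw0, hw1⟩ := exists_omega hF
  have hw3 : w ^ 3 = 1 := by linear_combination (w + 1) * hw + w * char_two hF
  have hi5 : i = 5 := by
    have h1 : ((g : K)) ^ (2 ^ i * 2 ^ i) = (g : K) := by
      rw [pow_mul, ← hpow, ← hpow]
      exact Subtype.ext (star'_star' hF _)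
    have h2 : g ^ (2 ^ i * 2 ^ i) = g ^ 1 := by
      apply Units.ext
      rw [Units.val_pow_eq_pow_val, h1, pow_one]
    rw [pow_eq_pow_iff_modEq, hord] at h2
    have hodd : i ≠ 0 := by
      rintro rfl
      have h3 := congrArg Subtype.val (hpow (algebraMap F K w))
      simp only [pow_zero, pow_one] at h3
      have h4 := congrFun (congrFun h3 0) 0
      rw [show (((algebraMap F K w) : K) : Matrix (Fin 5) (Fin 5) F) = algebraMap F _ w from rfl] at h4
      simp [τ, star', Algebra.algebraMap_eq_smul_one] at h4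
      exact hw1 (mul_left_cancel₀ hw0 (by rw [mul_one, ← pow_two, h4]))
    unfold Nat.ModEq at h2
    interval_cases i <;> simp_all
  subst hi5
  set k₀ : K := ((g ^ 93 : Kˣ) : K) with hk₀
  have hk11 : k₀ ^ 11 = 1 := by
    rw [hk₀, ← Units.val_pow_eq_pow_val, ← pow_mul, show 93 * 11 = orderOf g by rw [hord], pow_orderOf_eq_one,
      Units.val_one]
  have hk1 : k₀ ≠ 1 := by
    rw [hk₀]
    intro h
    have h1 : g ^ 93 = 1 := Units.ext h
    have := orderOf_dvd_of_pow_eq_one h1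
    rw [hord] at this
    norm_num at this
  have hdet : (k₀ : Matrix (Fin 5) (Fin 5) F).det ≠ 0 := by
    intro h0
    have h1 := congrArg (fun z : K => (z : Matrix (Fin 5) (Fin 5) F).det) hk11
    simp [h0] at h1
  let y : GL (Fin 5) F := Matrix.GeneralLinearGroup.mkOfDetNeZero _ hdet
  have hyv : (y : Matrix (Fin 5) (Fin 5) F) = (k₀ : Matrix (Fin 5) (Fin 5) F) := rfl
  have hy11 : y ^ 11 = 1 := Units.ext (by
    rw [Units.val_pow_eq_pow_val, hyv, ← SubmonoidClass.coe_pow, hk11]; rfl)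
  haveI : Fact (Nat.Prime 11) := ⟨by norm_num⟩
  have hy1 : y ≠ 1 := fun h => hk1 (Subtype.ext (by rw [← hyv, h]; rfl))
  have hyord : orderOf y = 11 := orderOf_eq_prime hy11 hy1
  have hu : ∀ x : K, x ^ 33 = 1 → OrthUnitaryHerm.IsU 2 (x : Matrix (Fin 5) (Fin 5) F) := by
    intro x hx u v
    have h1 : τ x * x = 1 := by rw [hpow, ← pow_succ]; exact hx
    have h2 : star' hF (x : Matrix (Fin 5) (Fin 5) F) * (x : Matrix (Fin 5) (Fin 5) F) = 1 :=
      congrArg Subtype.val h1
    rw [herm_adjoint hF, Matrix.mulVec_mulVec, h2, Matrix.one_mulVec]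
  have hy33 : k₀ ^ 33 = 1 := by
    rw [show 33 = 11 * 3 from rfl, pow_mul, hk11, one_pow]
  have hysu : y ∈ suGL 5 F 2 := by
    refine ⟨hu k₀ hy33, (mem_sl_iff y).2 (det_eq_one_of_pow hF (k := 11) (by norm_num) ?_)⟩
    rw [← Units.val_pow_eq_pow_val, hy11, Units.val_one]
  have hprim : IsPrimitiveRoot k₀ 11 := IsPrimitiveRoot.iff_orderOf.2 (orderOf_eq_prime hk11 hk1)
  refine ⟨y, hysu, hyord, ?_, ?_, ?_⟩
  · intro h _ hN
    have hmem := (hN (y : Matrix (Fin 5) (Fin 5) F)).1 k₀.2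
    set z : K := ⟨_, hmem⟩ with hz
    have hz11 : z ^ 11 = 1 := Subtype.ext (by
      rw [SubmonoidClass.coe_pow]
      show ((h * y * h⁻¹ : GL (Fin 5) F) : Matrix (Fin 5) (Fin 5) F) ^ 11 = _
      rw [← Units.val_pow_eq_pow_val, conj_pow, hy11, mul_one, mul_inv_cancel]
      rfl)
    obtain ⟨t, -, ht⟩ := hprim.eq_pow_of_pow_eq_one hz11
    refine ⟨t, Units.ext ?_⟩
    have := congrArg Subtype.val ht
    rw [Units.val_pow_eq_pow_val, hyv]
    simpa [hz] using this.symm
  · intro k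
    constructor
    · intro hk
      have : (y : Matrix (Fin 5) (Fin 5) F) * k = k * (y : Matrix (Fin 5) (Fin 5) F) := hK.comm _ k₀.2 _ hk
      rw [this, mul_assoc, ← Units.val_mul, mul_inv_cancel, Units.val_one, mul_one]
      exact hk
    · intro hk
      have hyinv : ((y⁻¹ : GL (Fin 5) F) : Matrix (Fin 5) (Fin 5) F) ∈ K := by
        rw [show y⁻¹ = y ^ 10 from inv_eq_of_mul_eq_one_right (by rw [← pow_succ', hy11]),
          Units.val_pow_eq_pow_val]
        exact pow_mem k₀.2 10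
      have := K.mul_mem (K.mul_mem hyinv hk) (show (y : Matrix (Fin 5) (Fin 5) F) ∈ K from k₀.2)
      simpa [mul_assoc] using this
  · -- the centraliser
    intro h hh hc
    let A : Subalgebra F (Matrix (Fin 5) (Fin 5) F) := Algebra.adjoin F {(k₀ : Matrix (Fin 5) (Fin 5) F)}
    have hAK : A ≤ K := Algebra.adjoin_le (Set.singleton_subset_iff.2 k₀.2)
    let A' : Subalgebra F (Matrix (Fin 5) (Fin 5) F) := A
    letI : CommRing A' := { (inferInstance : Ring A') with
      mul_comm := fun a b => Subtype.ext (hK.comm _ (hAK a.2) _ (hAK b.2)) }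
    haveI : Nontrivial A' := ⟨⟨0, 1, fun h => by
      have := congrFun (congrFun (congrArg Subtype.val h) (0 : Fin 5)) (0 : Fin 5)
      simp at this⟩⟩
    haveI : NoZeroDivisors A' := ⟨fun {a b} hab => by
      have h1 : (⟨a, hAK a.2⟩ : K) * ⟨b, hAK b.2⟩ = 0 :=
        Subtype.ext (show ((a : Matrix (Fin 5) (Fin 5) F)) * b = 0 from congrArg Subtype.val hab)
      rcases mul_eq_zero.1 h1 with h2 | h2
      · exact Or.inl (Subtype.ext (congrArg Subtype.val h2 :))
      · exact Or.inr (Subtype.ext (congrArg Subtype.val h2 :))⟩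
    haveI : IsDomain A' := NoZeroDivisors.to_isDomain _
    letI : Field A' := (Finite.isDomain_to_isField A').toField
    letI : Fintype A' := Fintype.ofFinite A'
    have hAK' : A' = K := by
      refine Subalgebra.eq_of_le_of_finrank_le hAK ?_
      rw [hK.finrank_eq]
      by_contra hlt
      push Not at hlt
      have h1 := Module.card_eq_pow_finrank (K := F) (V := A')
      rw [hF] at h1
      let a₀ : A' := ⟨k₀, Algebra.self_mem_adjoin_singleton F _⟩
      have h2 : a₀ ^ 11 = 1 := Subtype.ext (show (k₀ : Matrix (Fin 5) (Fin 5) F) ^ 11 = 1 from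
        congrArg Subtype.val hk11)
      have h3 : a₀ ≠ 1 := fun h => hk1 (Subtype.ext (congrArg Subtype.val h :))
      have h4 := FiniteField.pow_card_sub_one_eq_one a₀ (fun h => by rw [h] at h2; simp at h2)
      have h5 := orderOf_dvd_of_pow_eq_one h4
      rw [orderOf_eq_prime h2 h3, h1] at h5
      have hpos : 0 < Module.finrank F A' := Module.finrank_pos
      interval_cases hd : Module.finrank F A' <;> norm_num at h5
    have hcK : ∀ k ∈ K, (h : Matrix (Fin 5) (Fin 5) F) * k = k * (h : Matrix (Fin 5) (Fin 5) F) := by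
      intro k hk
      rw [← hAK'] at hk
      exact (Algebra.commute_of_mem_adjoin_singleton_of_commute hk
        (show Commute (h : Matrix (Fin 5) (Fin 5) F) k₀ from congrArg Units.val hc)).eq
    let v : Fin 5 → F := Pi.single 0 1
    let E : K →ₗ[F] (Fin 5 → F) :=
      (AschPrimeClifford.evalAt v).comp (Subalgebra.toSubmodule K).subtype
    have hinj : Function.Injective E := by
      rw [← LinearMap.ker_eq_bot, LinearMap.ker_eq_bot']
      intro c hc0
      by_contra hne
      obtain ⟨b, -, hb⟩ := hK.inv _ c.2 (fun h => hne (Subtype.ext h))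
      have hb' := mul_eq_one_comm.1 hb
      have := congrArg (fun u => b *ᵥ u) (show (c : Matrix (Fin 5) (Fin 5) F) *ᵥ v = 0 from hc0)
      simp [Matrix.mulVec_mulVec, hb'] at this
      exact one_ne_zero (α := F) (by simpa [v] using congrFun this 0)
    have hsurj : Function.Surjective E := by
      refine (LinearMap.injective_iff_surjective_of_finrank_eq_finrank ?_).1 hinj
      rw [hK.finrank_eq, Module.finrank_pi, Fintype.card_fin]
    obtain ⟨m, hm⟩ := hsurj ((h : Matrix (Fin 5) (Fin 5) F) *ᵥ v)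
    change (m : Matrix (Fin 5) (Fin 5) F) *ᵥ v = _ at hm
    have hhm : (h : Matrix (Fin 5) (Fin 5) F) = (m : Matrix (Fin 5) (Fin 5) F) := by
      apply Matrix.toLin'.injective
      refine LinearMap.ext fun u => ?_
      obtain ⟨m', hm'⟩ := hsurj u
      change (m' : Matrix (Fin 5) (Fin 5) F) *ᵥ v = u at hm'
      rw [Matrix.toLin'_apply, Matrix.toLin'_apply, ← hm', Matrix.mulVec_mulVec,
        hcK _ m'.2, ← Matrix.mulVec_mulVec, ← hm, Matrix.mulVec_mulVec,
        Matrix.mulVec_mulVec, hK.comm _ m.2 _ m'.2]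
    have hm33 : m ^ 33 = 1 := by
      have h1 : τ m * m = 1 := Subtype.ext (by
        show star' hF (m : Matrix (Fin 5) (Fin 5) F) * (m : Matrix (Fin 5) (Fin 5) F) = 1
        rw [← hhm, star'_eq_inv hF hh.1, ← Units.val_mul, inv_mul_cancel, Units.val_one])
      rw [hpow, ← pow_succ] at h1
      exact h1
    have h3 : (m ^ 3) ^ 11 = 1 := by rw [← pow_mul]; exact hm33
    obtain ⟨j, -, hj⟩ := hprim.eq_pow_of_pow_eq_one h3
    set t : ℕ := 4 * j with ht
    set ε : K := m * (k₀ ^ t)⁻¹ with hε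
    have hk0 : k₀ ≠ 0 := by intro h; rw [h] at hk11; simp at hk11
    have hε3 : ε ^ 3 = 1 := by
      rw [hε, mul_pow, ← hj, inv_pow, ← pow_mul, ht, show 4 * j * 3 = 11 * j + j by ring, pow_add, pow_mul,
        hk11, one_pow, one_mul, mul_inv_cancel₀ (pow_ne_zero _ hk0)]
    have hpw : IsPrimitiveRoot (algebraMap F K w) 3 := by
      haveI : Fact (Nat.Prime 3) := ⟨Nat.prime_three⟩
      exact (IsPrimitiveRoot.iff_orderOf.2 (orderOf_eq_prime hw3 hw1)).map_of_injective
        (algebraMap F K).injective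
    obtain ⟨s, -, hs⟩ := hpw.eq_pow_of_pow_eq_one hε3
    have hmε : m = ε * k₀ ^ t := by rw [hε, mul_assoc, inv_mul_cancel₀ (pow_ne_zero _ hk0), mul_one]
    have hhy : (h : Matrix (Fin 5) (Fin 5) F) = w ^ s • ((y ^ t : GL (Fin 5) F) : Matrix (Fin 5) (Fin 5) F) := by
      rw [hhm, hmε, ← hs, ← map_pow, Units.val_pow_eq_pow_val, hyv]
      show (algebraMap F (Matrix (Fin 5) (Fin 5) F)) (w ^ s) * _ = _
      rw [← Algebra.smul_def, SubmonoidClass.coe_pow]
    have hd := congrArg Matrix.det hhy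
    rw [(mem_sl_iff h).1 hh.2, Matrix.det_smul, (mem_sl_iff _).1 ((suGL 5 F 2).pow_mem hysu t).2, mul_one,
      Fintype.card_fin] at hd
    have hws : w ^ s = 1 := by
      have h5 : (w ^ s) ^ 5 = 1 := hd.symm
      have h6 : (w ^ s) ^ 3 = 1 := by rw [← pow_mul, mul_comm, pow_mul, hw3, one_pow]
      have := pow_gcd_eq_one.2 ⟨h5, h6⟩
      simpa using this
    refine ⟨t, Units.ext ?_⟩
    rw [hhy, hws, one_smul]

/-- the set of orbit vectors -/
def orbSet (w : F) : Set (Fin 5 → F) :=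
  {v | ∃ o : Fin 5 → Fin 4, inOrb o = true ∧ v = fun i => code w (o i)}

lemma inOrb_iff {u : Fin 5 → Fin 4} :
    inOrb u = true ↔ ∃ o ∈ orb, ∃ l ∈ ([1, 2, 3] : List (Fin 4)), u = fun i => mul4 l (o i) := by
  simp [inOrb, funext_iff]

lemma mat_mulVec (h2 : (2 : F) = 0) (hw : w * w = w + 1) (A : Fin 5 → Fin 5 → Fin 4) (o : Fin 5 → Fin 4) :
    mat w A *ᵥ (fun i => code w (o i)) = fun i => code w (dot5 (A i) o) := by
  funext i
  simp [Matrix.mulVec, dotProduct, mat, code_dot h2 hw]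

lemma mul_mem_nonzero : ∀ l ∈ ([1, 2, 3] : List (Fin 4)), ∀ l' ∈ ([1, 2, 3] : List (Fin 4)),
    mul4 l l' ∈ ([1, 2, 3] : List (Fin 4)) := by decide

lemma mapsTo_orbSet (h2 : (2 : F) = 0) (hw : w * w = w + 1) {A : Fin 5 → Fin 5 → Fin 4}
    (hA : ∀ o ∈ orb, inOrb (fun i => dot5 (A i) o) = true) :
    Set.MapsTo (fun v => mat w A *ᵥ v) (orbSet w) (orbSet w) := by
  rintro _ ⟨u, hu, rfl⟩
  obtain ⟨o, ho, l, hl, rfl⟩ := inOrb_iff.1 hu
  obtain ⟨o', ho', l', hl', he⟩ := inOrb_iff.1 (hA o ho)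
  refine ⟨fun i => mul4 (mul4 l l') (o' i), inOrb_iff.2 ⟨o', ho', mul4 l l', ?_, rfl⟩, ?_⟩
  · exact mul_mem_nonzero l hl l' hl'
  · show mat w A *ᵥ _ = _
    have e : (fun i => code w (mul4 l (o i))) = code w l • fun i => code w (o i) := by
      funext i; simp [code_mul h2 hw]
    rw [e, Matrix.mulVec_smul, mat_mulVec h2 hw]
    funext i
    rw [Pi.smul_apply, congrFun he i, smul_eq_mul, code_mul h2 hw, code_mul h2 hw, code_mul h2 hw, mul_assoc]

/-- the normaliser of a degree-five field is not maximal in SU_5(2) -/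
theorem not_maximal (hF : Fintype.card F = 2 ^ 2) {H : Subgroup (GL (Fin 5) F)}
    (hH : IsMaximalIn (suGL 5 F 2) H) {K : Subalgebra F (Matrix (Fin 5) (Fin 5) F)}
    (hK : IsFieldSubalgebra 5 K) (hadj : IsAdjointClosedFor (hermForm 5 F 2) K)
    (hle : H = subalgebraNormalizer K ⊓ suGL 5 F 2) : False := by
  classical
  obtain ⟨y, hy⟩ := exists_ydata hF hK hadj
  obtain ⟨w, hw, hw0, hw1⟩ := exists_omega hF
  have h2 := char_two hF
  haveI : Fact (Nat.Prime 11) := ⟨by norm_num⟩
  have hpw : ∀ k : Fin 11, mat w (pw k) = mat w (pw 1) ^ (k : ℕ) := by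
    intro k
    induction k using Fin.induction with
    | zero => rw [pw_zero, mat_one]; simp
    | succ k ih =>
      have h1 := pw_succ k.castSucc
      rw [Fin.coeSucc_eq_succ] at h1
      rw [← h1, mat_mul h2 hw, ih, Fin.val_succ, pow_succ]
      rfl
  have hA11 : mat w (pw 1) ^ 11 = 1 := by
    have h1 := pw_succ 10
    have h3 : ((10 : Fin 11) : ℕ) = 10 := rfl
    have h4 := hpw 10
    rw [h3] at h4
    rw [pow_succ (mat w (pw 1)) 10, ← h4, ← mat_mul h2 hw, h1, show (10 : Fin 11) + 1 = 0 from rfl, pw_zero,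
      mat_one]
  have hB5 : mat w bm ^ 5 = 1 := by
    simp only [pow_succ, pow_zero, one_mul, ← mat_mul h2 hw, bm_five, mat_one]
  have hG2 : mat w gm ^ 2 = 1 := by rw [sq, ← mat_mul h2 hw, gm_two, mat_one]
  have hD2 : mat w dm ^ 2 = 1 := by rw [sq, ← mat_mul h2 hw, dm_two, mat_one]
  obtain ⟨a, ha, hav⟩ := exists_mem_of_isU hF (isU_mat hF hw uni_a) (det_eq_one_of_pow hF (by norm_num) hA11)
  obtain ⟨b, hb, hbv⟩ := exists_mem_of_isU hF (isU_mat hF hw uni_b) (det_eq_one_of_pow hF (by norm_num) hB5)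
  obtain ⟨c, hc, hcv⟩ := exists_mem_of_isU hF (isU_mat hF hw uni_g) (det_eq_one_of_pow hF (by norm_num) hG2)
  obtain ⟨d, hd, hdv⟩ := exists_mem_of_isU hF (isU_mat hF hw uni_d) (det_eq_one_of_pow hF (by norm_num) hD2)
  have hpow : ∀ k : Fin 11, ((a ^ (k : ℕ) : GL (Fin 5) F) : Matrix (Fin 5) (Fin 5) F) = mat w (pw k) := by
    intro k
    rw [Units.val_pow_eq_pow_val, hav, hpw k]
  have ha11 : orderOf a = 11 := by
    refine orderOf_eq_prime (Units.ext (by rw [Units.val_pow_eq_pow_val, hav, hA11, Units.val_one])) ?_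
    intro h1
    apply pw_one_ne
    apply mat_inj h2 hw0 hw1
    rw [← hav, h1, mat_one, Units.val_one]
  obtain ⟨g, hg, t, ht⟩ := conj_of_order_eleven hF hy.mem_su ha hy.order ha11
  -- the subgroup
  set L : Subgroup (GL (Fin 5) F) :=
    stabilizing (Units.coeHom (Matrix (Fin 5) (Fin 5) F)) (orbSet w) with hL
  have hstab : ∀ (A : Fin 5 → Fin 5 → Fin 4) (x : GL (Fin 5) F), (x : Matrix (Fin 5) (Fin 5) F) = mat w A →
      (∀ o ∈ orb, inOrb (fun i => dot5 (A i) o) = true) → x ∈ L := by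
    intro A x hx hA v
    have hfin : (orbSet w).Finite := Set.toFinite _
    have hmaps := mapsTo_orbSet h2 hw hA
    rw [← hx] at hmaps
    have hinj : Function.Injective fun v : Fin 5 → F => (x : Matrix (Fin 5) (Fin 5) F) *ᵥ v :=
      fun u u' h => by simpa [inv_mulVec_mulVec] using congrArg (fun z => ((x⁻¹ : GL (Fin 5) F) : Matrix (Fin 5) (Fin 5) F) *ᵥ z) h
    refine ⟨fun hv => hmaps hv, fun hv => ?_⟩
    obtain ⟨⟨u, hu⟩, he⟩ := Finite.surjective_of_injective
      (f := fun p : orbSet w => (⟨(x : Matrix (Fin 5) (Fin 5) F) *ᵥ (p : Fin 5 → F), hmaps p.2⟩ : orbSet w))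
      (fun p p' h => Subtype.ext (hinj (congrArg Subtype.val h))) ⟨_, hv⟩
    replace he := congrArg Subtype.val he
    exact hinj he ▸ hu
  have haL : a ∈ L := hstab _ a hav orb_stable_a
  have hbL : b ∈ L := hstab _ b hbv orb_stable_b
  have hcL : c ∈ L := hstab _ c hcv orb_stable_g
  have hdL : d ∉ L := by
    intro h
    have h1 : (fun i => code w (wit i)) ∈ orbSet w :=
      ⟨wit, inOrb_iff.2 ⟨wit, wit_mem, 1, by simp, funext fun i => by
        generalize wit i = z; fin_cases z <;> rfl⟩, rfl⟩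
    obtain ⟨o, ho, he⟩ := (h (fun i => code w (wit i))).1 h1
    rw [Units.coeHom_apply, hdv, mat_mulVec h2 hw] at he
    have : (fun i => dot5 (dm i) wit) = o := funext fun i => code_inj h2 hw0 hw1 (congrFun he i)
    rw [← this, wit_moves] at ho
    exact Bool.false_ne_true ho
  -- the centraliser of a
  have ht' : Nat.Coprime 11 t := by
    rw [(by norm_num : Nat.Prime 11).coprime_iff_not_dvd]
    intro hdvd
    rw [← ha11] at hdvd
    rw [orderOf_dvd_iff_pow_eq_one.1 hdvd, conj_eq_one_iff] at ht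
    exact absurd hy.order (by rw [ht, orderOf_one]; norm_num)
  obtain ⟨t', ht''⟩ : ∃ t' : ℕ, a = (g * y * g⁻¹) ^ t' := by
    obtain ⟨u, -, hu⟩ := Nat.exists_mul_mod_eq_one_of_coprime (k := 11) ht'.symm (by norm_num)
    refine ⟨u, ?_⟩
    rw [ht, ← pow_mul, ← pow_mod_orderOf, ha11, hu, pow_one]
  have hcent : ∀ x ∈ suGL 5 F 2, x * a = a * x → x ∈ L := by
    intro x hx hxa
    have h1 : x * (g * y * g⁻¹) = (g * y * g⁻¹) * x := by
      rw [ht]; exact (Commute.pow_right hxa t).eq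
    obtain ⟨s, hs⟩ := hy.centraliser (g⁻¹ * x * g) ((suGL 5 F 2).mul_mem ((suGL 5 F 2).mul_mem
      ((suGL 5 F 2).inv_mem hg) hx) hg) (by
        calc g⁻¹ * x * g * y = g⁻¹ * (x * (g * y * g⁻¹)) * g := by group
          _ = y * (g⁻¹ * x * g) := by rw [h1]; group)
    have h3 : x = (g * y * g⁻¹) ^ s := by rw [conj_pow, ← hs]; group
    rw [h3, ht, ← pow_mul]
    exact L.pow_mem haL _
  have hbconj : b * a * b⁻¹ = a ^ 4 := by
    rw [mul_inv_eq_iff_eq_mul]
    apply Units.ext
    rw [Units.val_mul, Units.val_mul, hbv, hav, ← mat_mul h2 hw, bm_conj, mat_mul h2 hw]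
    exact congrArg (· * mat w bm) (hpow 4).symm
  -- the normaliser of a lies in L
  have hnorm : ∀ x ∈ suGL 5 F 2, ∀ k : ℕ, x * a * x⁻¹ = a ^ k → x ∈ L := by
    intro x hx k hk
    have hk' : x * a * x⁻¹ = a ^ ((Fin.ofNat 11 k : Fin 11) : ℕ) := by
      rw [hk, ← pow_mod_orderOf, ha11]
      rfl
    generalize (Fin.ofNat 11 k) = j at hk'
    have hj0 : j ≠ 0 := by
      rintro rfl
      rw [Fin.val_zero, pow_zero, conj_eq_one_iff] at hk'
      rw [hk', orderOf_one] at ha11
      norm_num at ha11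
    have htr : (mat w (pw j)).trace = (mat w (pw 1)).trace := by
      rw [← hpow, ← hk', ← hav, Units.val_mul, Units.val_mul, Matrix.trace_units_conj]
    have htr5 : ∀ A, (mat w A).trace = code w (tr5 A) := fun A => by
      simp [Matrix.trace, mat, tr5, code_add h2, Fin.sum_univ_five]
    rw [htr5, htr5] at htr
    obtain ⟨i, hi⟩ : ∃ i : ℕ, (4 ^ i) % 11 = (j : ℕ) := by
      rcases trace_classes j hj0 (code_inj h2 hw0 hw1 htr) with h | h | h | h | h <;> subst h
      · exact ⟨0, rfl⟩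
      · exact ⟨1, rfl⟩
      · exact ⟨2, rfl⟩
      · exact ⟨3, rfl⟩
      · exact ⟨4, rfl⟩
    have hbi : ∀ i : ℕ, b ^ i * a * (b ^ i)⁻¹ = a ^ (4 ^ i) := by
      intro i
      induction i with
      | zero => simp
      | succ i ih =>
        calc b ^ (i + 1) * a * (b ^ (i + 1))⁻¹ = b * (b ^ i * a * (b ^ i)⁻¹) * b⁻¹ := by rw [pow_succ']; group
          _ = a ^ 4 ^ (i + 1) := by rw [ih, ← conj_pow, hbconj, ← pow_mul, pow_succ']
    have h1 : x * a * x⁻¹ = b ^ i * a * (b ^ i)⁻¹ := by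
      rw [hbi, hk', ← hi]
      conv_rhs => rw [← pow_mod_orderOf, ha11]
    have h3 : ((b ^ i)⁻¹ * x) * a = a * ((b ^ i)⁻¹ * x) := by
      calc ((b ^ i)⁻¹ * x) * a = (b ^ i)⁻¹ * (x * a * x⁻¹) * x := by group
        _ = a * ((b ^ i)⁻¹ * x) := by rw [h1]; group
    have h4 := hcent _ ((suGL 5 F 2).mul_mem ((suGL 5 F 2).inv_mem ((suGL 5 F 2).pow_mem hb i)) hx) h3
    have := L.mul_mem (L.pow_mem hbL i) h4
    simpa [← mul_assoc] using this
  -- conjugate it back
  set M : Subgroup (GL (Fin 5) F) := L.comap (MulAut.conj g).toMonoidHom with hM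
  have hmemM : ∀ x, x ∈ M ↔ g * x * g⁻¹ ∈ L := fun x => Iff.rfl
  have hHM : H ≤ M := by
    intro x hx
    rw [hmemM]
    have hxI := hH.1.le hx
    obtain ⟨s, hs⟩ := hy.normaliser x hxI (by rw [hle] at hx; exact hx.1)
    refine hnorm _ ((suGL 5 F 2).mul_mem ((suGL 5 F 2).mul_mem hg hxI) ((suGL 5 F 2).inv_mem hg)) (t * s * t') ?_
    conv_lhs => rw [ht'']
    rw [← conj_pow, show g * x * g⁻¹ * (g * y * g⁻¹) * (g * x * g⁻¹)⁻¹ = g * (x * y * x⁻¹) * g⁻¹ by group,
      hs, ← conj_pow, ht, ← pow_mul, ← pow_mul, mul_assoc]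
  have hnot : ¬ suGL 5 F 2 ≤ M := by
    intro h
    have h1 := h ((suGL 5 F 2).mul_mem ((suGL 5 F 2).mul_mem ((suGL 5 F 2).inv_mem hg) hd) hg)
    rw [hmemM, show g * (g⁻¹ * d * g) * g⁻¹ = d by group] at h1
    exact hdL h1
  have heq := AschPrimeBasic.eq_of_maximal hH hHM hnot
  have hcH : g⁻¹ * c * g ∈ H := by
    rw [heq]
    refine ⟨?_, (suGL 5 F 2).mul_mem ((suGL 5 F 2).mul_mem ((suGL 5 F 2).inv_mem hg) hc) hg⟩
    show g * (g⁻¹ * c * g) * g⁻¹ ∈ L
    rw [show g * (g⁻¹ * c * g) * g⁻¹ = c by group]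
    exact hcL
  obtain ⟨s, hs⟩ := hy.normaliser _ (hH.1.le hcH) (by rw [hle] at hcH; exact hcH.1)
  have h1 : c * a = a ^ (t * s * t') * c := by
    rw [← mul_inv_eq_iff_eq_mul]
    conv_lhs => rw [ht'']
    rw [← conj_pow, show c * (g * y * g⁻¹) * c⁻¹ = g * (g⁻¹ * c * g * y * (g⁻¹ * c * g)⁻¹) * g⁻¹ by group,
      hs, ← conj_pow, ht, ← pow_mul, ← pow_mul, mul_assoc]
  refine gm_not_normal (Fin.ofNat 11 (t * s * t')) (mat_inj h2 hw0 hw1 ?_)
  rw [mat_mul h2 hw, mat_mul h2 hw, ← hcv, ← hav, ← hpow, ← Units.val_mul, ← Units.val_mul]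
  refine congrArg Units.val (h1.trans ?_)
  rw [← pow_mod_orderOf, ha11]
  rfl

end Cfsg.Agent.AschPrimeSU52
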