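/-
Dimension case lists: an invariant set of sixty points over nine elements.
-/
import Mathlib

set_option autoImplicit false
set_option linter.unusedSectionVars false

namespace Cfsg.Agent.AschSU4Lines44

/-- coded elements of the field with nine elements -/
abbrev C9 := ZMod 3 × ZMod 3

/-- coded product, the second coordinate standing for a square root of minus one -/
def mul9 (p r : C9) : C9 := (p.1 * r.1 - p.2 * r.2, p.1 * r.2 + p.2 * r.1)

/-- coded fourth power -/
def pow4 (p : C9) : C9 := mul9 (mul9 p p) (mul9 p p)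

/-- equal fourth powers unless one vanishes -/
def same (p r : C9) : Bool := (p == (0, 0)) || (r == (0, 0)) || (pow4 p == pow4 r)

/-- one for a non-zero element -/
def cnt (p : C9) : ℕ := if p == (0, 0) then 0 else 1

/-- the coded condition -/
def good9 (a b c d : C9) : Bool :=
  same a b && same a c && same a d && same b c && same b d && same c d &&
    (cnt a + cnt b + cnt c + cnt d == 1 || cnt a + cnt b + cnt c + cnt d == 2 ||
      (cnt a + cnt b + cnt c + cnt d == 4 &&
        mul9 (mul9 (mul9 (mul9 a b) c) d) (mul9 (mul9 (mul9 a b) c) d) == (1, 0)))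

/-- the coded sum -/
def sum9 (a b c d : C9) : C9 := a + b + c + d

/-- the coded condition is invariant under the reflection in the all-one vector -/
theorem good9_shift : ∀ a b c d : C9, good9 a b c d = true →
    good9 (a + sum9 a b c d) (b + sum9 a b c d) (c + sum9 a b c d) (d + sum9 a b c d) = true := by
  decide +kernel

variable {F : Type*} [Field F]

/-- coordinates of the sixty points -/
def Good [DecidableEq F] (a : Fin 4 → F) : Prop :=
  (∀ i j, a i ≠ 0 → a j ≠ 0 → a i ^ 4 = a j ^ 4) ∧
    ((Finset.univ.filter fun i => a i ≠ 0).card = 1 ∨ (Finset.univ.filter fun i => a i ≠ 0).card = 2 ∨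
      ((Finset.univ.filter fun i => a i ≠ 0).card = 4 ∧ (∏ i, a i) ^ 2 = 1))

/-- the reflection in the all-one vector preserves the points -/
theorem good_shift [Fintype F] [DecidableEq F] (hF : Fintype.card F = 3 ^ 2) {a : Fin 4 → F} (ha : Good a) :
    Good fun i => a i + ∑ j, a j := by
  have h3 : (3 : F) = 0 := by
    have h1 := Nat.cast_card_eq_zero F
    rw [hF] at h1
    push_cast at h1
    exact pow_eq_zero_iff two_ne_zero |>.1 (show (3 : F) ^ 2 = 0 by linear_combination h1)
  haveI : CharP F 3 := (CharP.charP_iff_prime_eq_zero Nat.prime_three).2 (by exact_mod_cast h3)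
  obtain ⟨w, hw⟩ : IsSquare (-1 : F) := FiniteField.isSquare_neg_one_iff.2 (by rw [hF]; decide)
  set k := ZMod.castHom (dvd_refl 3) F with hk
  let code : C9 → F := fun p => k p.1 + k p.2 * w
  have hadd : ∀ p r, code (p + r) = code p + code r := fun p r => by
    simp only [code, Prod.fst_add, Prod.snd_add, map_add]
    ring
  have hmul : ∀ p r, code (mul9 p r) = code p * code r := fun p r => by
    simp only [code, mul9, map_add, map_sub, map_mul]
    linear_combination (k p.2 * k r.2) * hw
  have h1 : code (1, 0) = 1 := by simp [code]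
  have h0 : code (0, 0) = 0 := by simp [code]
  have hinj : Function.Injective code := by
    intro p r e
    have e' : (k (p.1 - r.1)) + k (p.2 - r.2) * w = 0 := by
      simp only [code] at e
      rw [map_sub, map_sub]
      linear_combination e
    by_cases h2 : p.2 - r.2 = 0
    · rw [h2, map_zero, zero_mul, add_zero, map_eq_zero] at e'
      exact Prod.ext (sub_eq_zero.1 e') (sub_eq_zero.1 h2)
    · exfalso
      have e2 : k ((p.1 - r.1) * (p.1 - r.1) + (p.2 - r.2) * (p.2 - r.2)) = 0 := by
        rw [map_add, map_mul, map_mul]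
        linear_combination (k (p.1 - r.1) - k (p.2 - r.2) * w) * e' - (k (p.2 - r.2) * k (p.2 - r.2)) * hw
      rw [map_eq_zero] at e2
      exact h2 ((by decide : ∀ x y : ZMod 3, x * x + y * y = 0 → y = 0) _ _ e2)
  have hsur : Function.Surjective code :=
    ((Fintype.bijective_iff_injective_and_card code).2 ⟨hinj, by rw [hF]; rfl⟩).2
  have hz : ∀ p, (p == ((0, 0) : C9)) = decide (code p = 0) := fun p => by
    rw [← h0]
    simp only [hinj.eq_iff]
    exact Bool.eq_iff_iff.2 (by simp)
  have hsame : ∀ p r, same p r = true ↔ (code p ≠ 0 → code r ≠ 0 → code p ^ 4 = code r ^ 4) := fun p r => by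
    have e : ∀ p, code p ^ 4 = code (pow4 p) := fun p => by simp only [pow4, hmul]; ring
    simp only [same, hz, Bool.or_eq_true, decide_eq_true_eq, beq_iff_eq, e, hinj.eq_iff]
    tauto
  have hcnt : ∀ p, cnt p = if code p ≠ 0 then 1 else 0 := fun p => by
    unfold cnt
    rw [hz]
    by_cases h : code p = 0 <;> simp [h]
  have hgood : ∀ c : Fin 4 → C9, Good (fun i => code (c i)) ↔ good9 (c 0) (c 1) (c 2) (c 3) = true := by
    intro c
    have hcard : (Finset.univ.filter fun i => code (c i) ≠ 0).card = cnt (c 0) + cnt (c 1) + cnt (c 2) + cnt (c 3) := by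
      rw [Finset.card_filter, Fin.sum_univ_four]
      simp only [hcnt]
    have hp : (∏ i, code (c i)) ^ 2 = code (mul9 (mul9 (mul9 (mul9 (c 0) (c 1)) (c 2)) (c 3))
        (mul9 (mul9 (mul9 (c 0) (c 1)) (c 2)) (c 3))) := by
      simp only [hmul, Fin.prod_univ_four]
      ring
    simp only [Good, good9, Bool.and_eq_true, Bool.or_eq_true, hsame, beq_iff_eq, hcard, hp, ← h1, hinj.eq_iff]
    constructor
    · rintro ⟨h, h'⟩
      exact ⟨⟨⟨⟨⟨⟨h 0 1, h 0 2⟩, h 0 3⟩, h 1 2⟩, h 1 3⟩, h 2 3⟩, or_assoc.2 h'⟩
    · rintro ⟨⟨⟨⟨⟨⟨h01, h02⟩, h03⟩, h12⟩, h13⟩, h23⟩, h'⟩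
      refine ⟨fun i j => ?_, or_assoc.1 h'⟩
      fin_cases i <;> fin_cases j <;> intro hi hj <;>
        first | rfl | exact h01 hi hj | exact h02 hi hj | exact h03 hi hj | exact h12 hi hj | exact h13 hi hj |
          exact h23 hi hj | exact (h01 hj hi).symm | exact (h02 hj hi).symm | exact (h03 hj hi).symm |
          exact (h12 hj hi).symm | exact (h13 hj hi).symm | exact (h23 hj hi).symm
  choose c hc using fun i => hsur (a i)
  have ea : a = fun i => code (c i) := funext fun i => (hc i).symm
  rw [ea] at ha ⊢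
  have hs : ∑ i, code (c i) = code (sum9 (c 0) (c 1) (c 2) (c 3)) := by
    simp only [sum9, hadd, Fin.sum_univ_four]
  have he : (fun i => code (c i) + ∑ j, code (c j)) =
      fun i => code (c i + sum9 (c 0) (c 1) (c 2) (c 3)) := funext fun i => by rw [hadd, hs]
  rw [he]
  exact (hgood _).2 (good9_shift _ _ _ _ ((hgood c).1 ha))

end Cfsg.Agent.AschSU4Lines44
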