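/-
Dimension case lists: over four elements the stabiliser of a frame of six lines in SU_6 is not maximal.
-/
import Cfsg.Agent.Lib.AschCaseUnit
import Cfsg.Agent.Lib.AschPrimeSU52

set_option autoImplicit false
set_option linter.unusedSectionVars false

namespace Cfsg.Agent.AschSU6Lines44

open scoped Matrix
open Cfsg Cfsg.Geo Cfsg.Agent.AschPrimeBasic Cfsg.Agent.AschPrimeUnitaryProper
  Cfsg.Agent.AschPrimeSU52 Cfsg.Agent.AschPrimeSU52Data

variable {n : ℕ} {F : Type*} [Field F] [Fintype F] {q : ℕ}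

lemma mulVec_injective' (g : GL (Fin n) F) :
    Function.Injective fun v => (g : Matrix (Fin n) (Fin n) F) *ᵥ v := fun v w h => by
  have := congrArg (fun x => ((g⁻¹ : GL (Fin n) F) : Matrix (Fin n) (Fin n) F) *ᵥ x) h
  simpa using this

/-- the set of vectors preserved by `S` witnesses that `H` is not maximal -/
theorem not_maximal_of_set {Ω H : Subgroup (GL (Fin n) F)} (hH : IsMaximalIn Ω H) (S : Set (Fin n → F))
    (hHS : ∀ g ∈ H, ∀ v ∈ S, (g : Matrix (Fin n) (Fin n) F) *ᵥ v ∈ S)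
    {T : GL (Fin n) F} (hT : T ∈ Ω) (hTS : ∀ v ∈ S, (T : Matrix (Fin n) (Fin n) F) *ᵥ v ∈ S) (hTH : T ∉ H)
    {T' : GL (Fin n) F} (hT' : T' ∈ Ω) {z : Fin n → F} (hz : z ∈ S)
    (hT'z : (T' : Matrix (Fin n) (Fin n) F) *ᵥ z ∉ S) : False := by
  classical
  let Stab : Subgroup (GL (Fin n) F) := Cfsg.stabilizing (Units.coeHom (Matrix (Fin n) (Fin n) F)) S
  have key : ∀ g : GL (Fin n) F, (∀ v ∈ S, (g : Matrix (Fin n) (Fin n) F) *ᵥ v ∈ S) → g ∈ Stab := by
    intro g hg v
    refine ⟨hg v, fun hv => ?_⟩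
    let f : S → S := fun w => ⟨(g : Matrix (Fin n) (Fin n) F) *ᵥ w.1, hg w.1 w.2⟩
    have hf : Function.Injective f := fun a b hab => Subtype.ext (mulVec_injective' g (congrArg Subtype.val hab))
    obtain ⟨w, hw⟩ := (Finite.injective_iff_surjective.1 hf) ⟨_, hv⟩
    have : w.1 = v := mulVec_injective' g (congrArg Subtype.val hw)
    exact this ▸ w.2
  rcases hH.2 (Stab ⊓ Ω) (le_inf (fun g hg => key g (hHS g hg)) hH.1.le) inf_le_right with h | h
  · exact hTH (h ▸ (⟨key T hTS, hT⟩ : T ∈ Stab ⊓ Ω))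
  · exact hT'z (((h.symm ▸ hT' : T' ∈ Stab ⊓ Ω)).1 z |>.1 hz)

section Six

variable (hF : Fintype.card F = 2 ^ 2)

include hF

/-- coordinates of the roots of the reflection group with socle `U_4(3)` -/
def Good [DecidableEq F] (a : Fin 6 → F) : Prop :=
  (Finset.univ.filter fun i => a i ≠ 0).card = 2 ∨ ((∀ i, a i ≠ 0) ∧ ∏ i, a i = 1)

omit hF in
/-- the coded sum -/
def sum6 (c : Fin 6 → Fin 4) : Fin 4 :=
  add4 (add4 (add4 (add4 (add4 (c 0) (c 1)) (c 2)) (c 3)) (c 4)) (c 5)

/-- the coded product -/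
def prod6 (c : Fin 6 → Fin 4) : Fin 4 :=
  mul4 (mul4 (mul4 (mul4 (mul4 (c 0) (c 1)) (c 2)) (c 3)) (c 4)) (c 5)

/-- the coded condition -/
def good4 (c : Fin 6 → Fin 4) : Bool :=
  decide ((Finset.univ.filter fun i => c i ≠ 0).card = 2) ||
    (decide (∀ i, c i ≠ 0) && decide (prod6 c = 1))

end Six

/-- the coded condition is invariant -/
theorem good4_shift : ∀ a b c d e f : Fin 4, good4 ![a, b, c, d, e, f] = true →
    good4 (fun i => add4 (![a, b, c, d, e, f] i) (sum6 ![a, b, c, d, e, f])) = true := by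
  decide +kernel

lemma good4_shift' (c : Fin 6 → Fin 4) (h : good4 c = true) :
    good4 (fun i => add4 (c i) (sum6 c)) = true := by
  have e : c = ![c 0, c 1, c 2, c 3, c 4, c 5] := by
    funext i
    fin_cases i <;> rfl
  rw [e] at h ⊢
  exact good4_shift _ _ _ _ _ _ h

/-- the reflection in the all-one root preserves the set -/
lemma good_shift [DecidableEq F] (hF : Fintype.card F = 2 ^ 2) {a : Fin 6 → F} (ha : Good a) :
    Good fun i => a i + ∑ j, a j := by
  have h2 := char_two hF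
  obtain ⟨w, hw, hw0, hw1⟩ := exists_omega hF
  have hinj := code_inj h2 hw0 hw1
  have hbij : Function.Bijective (code w) :=
    (Fintype.bijective_iff_injective_and_card _).2 ⟨hinj, by rw [hF]; rfl⟩
  choose c hc using fun i => hbij.2 (a i)
  have h00 : code w (0 : Fin 4) = 0 := rfl
  have h01 : code w (1 : Fin 4) = 1 := rfl
  have hgood : ∀ (d : Fin 6 → Fin 4), Good (fun i => code w (d i)) ↔ good4 d = true := by
    intro d
    have hnz : ∀ i, code w (d i) ≠ 0 ↔ d i ≠ 0 := fun i => by rw [← h00]; exact hinj.ne_iff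
    have hp : code w (prod6 d) = ∏ i, code w (d i) := by
      simp only [prod6, code_mul h2 hw, Fin.prod_univ_six]
    simp only [Good, good4, Bool.or_eq_true, Bool.and_eq_true, decide_eq_true_eq, ← hp, ← h01,
      hinj.eq_iff, hnz]
  have ea : a = fun i => code w (c i) := funext fun i => (hc i).symm
  rw [ea] at ha ⊢
  have hs : code w (sum6 c) = ∑ i, code w (c i) := by
    simp only [sum6, code_add h2, Fin.sum_univ_six]
  have he : (fun i => code w (c i) + ∑ j, code w (c j)) = fun i => code w (add4 (c i) (sum6 c)) := by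
    funext i
    rw [code_add h2, hs]
  rw [he]
  exact (hgood _).2 (good4_shift' c ((hgood c).1 ha))

end Cfsg.Agent.AschSU6Lines44
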