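/-
Dimension case lists: over nine elements the stabiliser of a frame of four lines in SU_4 is not maximal.
-/
import Cfsg.Agent.Lib.AschSU4Lines44
import Cfsg.Agent.Lib.AschSU6Lines44

set_option autoImplicit false
set_option linter.unusedSectionVars false

namespace Cfsg.Agent.AschSU4Lines44

open scoped Matrix
open Cfsg Cfsg.Geo Cfsg.Agent.AschPrimeBasic Cfsg.Agent.AschPrimeUnitaryProper

variable {F : Type*} [Field F] [Fintype F]

/-- over nine elements the stabiliser of four orthogonal lines is not maximal in SU_4 -/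
theorem lines_not_maximal (hF : Fintype.card F = 3 ^ 2) {H : Subgroup (GL (Fin 4) F)}
    (hH : IsMaximalIn (Cfsg.GU 4 F 3 ⊓ specialLinear (Fin 4) F) H) {D : Fin 4 → Submodule F (Fin 4 → F)}
    (hD : IsNondegenerateMDecomposition (hermForm 4 F 3) 1 D)
    (hH' : H = decompositionStabilizer D ⊓ (Cfsg.GU 4 F 3 ⊓ specialLinear (Fin 4) F)) : False := by
  classical
  have h3 : (3 : F) = 0 := by
    have h1 := Nat.cast_card_eq_zero F
    rw [hF] at h1
    push_cast at h1
    exact pow_eq_zero_iff two_ne_zero |>.1 (show (3 : F) ^ 2 = 0 by linear_combination h1)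
  set f := hermForm 4 F 3 with hf
  have hsl : ∀ (c : F) x z, f (c • x) z = c * f x z := fun c x z => OrthUnitaryHerm.herm_smul_left c x z
  have hsr : ∀ (c : F) x z, f x (c • z) = c ^ 3 * f x z := fun c x z => OrthUnitaryHerm.herm_smul_right c z x
  have haddl : ∀ x y z, f (x + y) z = f x z + f y z := fun x y z => OrthUnitaryHerm.herm_add_left x y z
  -- orthonormal vectors spanning the lines
  have hex : ∀ i, ∃ v ∈ D i, f v v = 1 ∧ ∀ x ∈ D i, ∃ c : F, x = c • v := by
    intro i
    obtain ⟨v, hv, hv0⟩ := (Submodule.ne_bot_iff _).1 (show D i ≠ ⊥ from fun h => by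
      have := hD.decomp.finrank_eq i
      rw [h, finrank_bot] at this
      omega)
    have hsp : ∀ x ∈ D i, ∃ c : F, x = c • v := fun x hx => by
      obtain ⟨c, hc⟩ := (finrank_eq_one_iff_of_nonzero' (⟨v, hv⟩ : D i)
        (fun h => hv0 (congrArg Subtype.val h))).1 (hD.decomp.finrank_eq i) ⟨x, hx⟩
      exact ⟨c, (congrArg Subtype.val hc).symm⟩
    obtain ⟨-, ⟨x, hx, hxv⟩⟩ := hD.nondegenerate i v hv hv0
    obtain ⟨c, rfl⟩ := hsp x hx
    have hvv : f v v ≠ 0 := fun h => hxv (by simp [hsl, hsr, h])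
    obtain ⟨t, ht⟩ := OrthUnitaryHerm.exists_norm_eq hF (a := (f v v)⁻¹)
      (by rw [inv_pow, hf, OrthUnitaryHerm.herm_self_pow hF])
    have ht0 : t ≠ 0 := fun e => inv_ne_zero hvv (by rw [← ht, e]; simp)
    refine ⟨t • v, (D i).smul_mem _ hv, ?_, fun y hy => ?_⟩
    · rw [hsl, hsr, ← mul_assoc, ← pow_succ', ht, inv_mul_cancel₀ hvv]
    · obtain ⟨d, rfl⟩ := hsp y hy
      exact ⟨d / t, by rw [smul_smul, div_mul_cancel₀ _ ht0]⟩
  choose v hv hvv hvsp using hex
  have horth : ∀ i j, i ≠ j → f (v i) (v j) = 0 := fun i j h => hD.orthogonal i j h _ (hv i) _ (hv j)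
  let M : Matrix (Fin 4) (Fin 4) F := Matrix.of fun a i => v i a
  have hMv : ∀ i, M *ᵥ Pi.single i 1 = v i := fun i => by rw [Matrix.mulVec_single_one]; rfl
  have hgram : Mᵀ * M.map (fun x => x ^ 3) = 1 := by
    ext i j
    have h1 : (Mᵀ * M.map (fun x => x ^ 3)) i j = f (v i) (v j) := by
      simp [Matrix.mul_apply, M, hf, hermForm]
    rw [h1, Matrix.one_apply]
    split_ifs with h
    · subst h; exact hvv i
    · exact horth i j h
  have hdet : M.det ≠ 0 := fun h => by
    have := congrArg Matrix.det hgram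
    rw [Matrix.det_mul, Matrix.det_transpose, h, zero_mul, Matrix.det_one] at this
    exact zero_ne_one this
  let B : GL (Fin 4) F := Matrix.GeneralLinearGroup.mkOfDetNeZero M hdet
  let cd : (Fin 4 → F) → Fin 4 → F := fun x i => f x (v i)
  have hval : ∀ (a : Fin 4 → F) k, f (∑ i, a i • v i) (v k) = a k := by
    intro a k
    let L : (Fin 4 → F) →ₗ[F] F :=
      { toFun := fun z => f z (v k)
        map_add' := fun x y => haddl x y _
        map_smul' := fun c x => hsl c x _ }
    show L (∑ i, a i • v i) = _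
    rw [map_sum, Finset.sum_eq_single k (fun b _ hb => by
      rw [map_smul]; simp [L, horth b k hb]) (by simp), map_smul]
    simp [L, hvv]
  have hexp : ∀ x : Fin 4 → F, x = ∑ i, cd x i • v i := by
    intro x
    obtain ⟨a, rfl⟩ : ∃ a : Fin 4 → F, ∑ i, a i • v i = x := by
      refine ⟨((B⁻¹ : GL (Fin 4) F) : Matrix (Fin 4) (Fin 4) F) *ᵥ x, ?_⟩
      set y := ((B⁻¹ : GL (Fin 4) F) : Matrix (Fin 4) (Fin 4) F) *ᵥ x with hy
      have h1 : (B : Matrix (Fin 4) (Fin 4) F) *ᵥ y = x := mulVec_inv_mulVec B x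
      rw [← h1]
      show _ = M *ᵥ y
      funext a
      simp [Matrix.mulVec, dotProduct, M, mul_comm]
    simp only [cd, hval]
  let S : Set (Fin 4 → F) := {x | Good (cd x)}
  have hdec : ∀ g ∈ H, ∃ σ : Equiv.Perm (Fin 4), ∀ i, (D i).map (Matrix.toLin' (g : Matrix (Fin 4) (Fin 4) F)) = D (σ i) :=
    fun g hg => (hH'.le hg).1
  have hHS : ∀ g ∈ H, ∀ x ∈ S, (g : Matrix (Fin 4) (Fin 4) F) *ᵥ x ∈ S := by
    intro g hg x hx
    obtain ⟨σ, hσ⟩ := hdec g hg
    have himg : ∀ i, ∃ d : F, (g : Matrix (Fin 4) (Fin 4) F) *ᵥ v i = d • v (σ i) := fun i =>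
      hvsp (σ i) _ (by rw [← hσ i]; exact ⟨v i, hv i, Matrix.toLin'_apply _ _⟩)
    choose d hd using himg
    have hd4 : ∀ i, d i ^ 4 = 1 := fun i => by
      have h1 : f ((g : Matrix (Fin 4) (Fin 4) F) *ᵥ v i) ((g : Matrix (Fin 4) (Fin 4) F) *ᵥ v i) = f (v i) (v i) :=
        (hH.1.le hg).1 _ _
      rw [hd, hsl, hsr, hvv, hvv, mul_one] at h1
      linear_combination h1
    have hd0 : ∀ i, d i ≠ 0 := fun i h => by simpa [h] using hd4 i
    have hgB : (g : Matrix (Fin 4) (Fin 4) F) * M = M * OrthUnitaryHerm.monMat σ.symm d := by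
      refine Matrix.toLin'.injective ((Pi.basisFun F (Fin 4)).ext fun i => ?_)
      simp only [Pi.basisFun_apply, Matrix.toLin'_apply, ← Matrix.mulVec_mulVec, hMv, hd]
      rw [← hMv (σ i), ← Matrix.mulVec_smul]
      congr 1
      funext k
      rw [OrthUnitaryHerm.monMat_mulVec]
      by_cases hk : k = σ i
      · subst hk; simp
      · have : σ.symm k ≠ i := fun h => hk (by rw [← h, Equiv.apply_symm_apply])
        simp [hk, this]
    have hprod : (∏ k, d k) ^ 2 = 1 := by
      have h1 := congrArg Matrix.det hgB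
      rw [Matrix.det_mul, Matrix.det_mul, (mem_sl_iff g).1 (hH.1.le hg).2, one_mul, OrthUnitaryHerm.det_monMat] at h1
      have h5 := (mul_right_inj' hdet).1 (h1.symm.trans (mul_one _).symm)
      have h6 : ((Equiv.Perm.sign σ.symm : ℤ) : F) ^ 2 = 1 := by
        rcases Int.units_eq_one_or (Equiv.Perm.sign σ.symm) with h | h <;> rw [h] <;> simp
      have h7 := congrArg (fun z : F => z ^ 2) h5
      simp only [mul_pow, one_pow, h6, one_mul] at h7
      exact h7
    have hcd : cd ((g : Matrix (Fin 4) (Fin 4) F) *ᵥ x) = fun k => d (σ.symm k) * cd x (σ.symm k) := by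
      funext k
      conv_lhs => rw [hexp x]
      simp only [Matrix.mulVec_sum, Matrix.mulVec_smul, hd, smul_smul]
      show f (∑ i, (cd x i * d i) • v (σ i)) (v k) = _
      rw [← Equiv.sum_comp σ.symm]
      simp only [Equiv.apply_symm_apply]
      rw [hval (fun i => cd x (σ.symm i) * d (σ.symm i)) k, mul_comm]
    show Good (cd _)
    rw [hcd]
    obtain ⟨hsame, hcount⟩ := (show Good (cd x) from hx)
    refine ⟨fun i j hi hj => ?_, ?_⟩
    · simp only [mul_pow, hd4, one_mul]
      exact hsame _ _ (right_ne_zero_of_mul hi) (right_ne_zero_of_mul hj)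
    · have hc : (Finset.univ.filter fun k => d (σ.symm k) * cd x (σ.symm k) ≠ 0).card =
          (Finset.univ.filter fun k => cd x k ≠ 0).card :=
        Finset.card_equiv σ.symm fun k => by simp [hd0]
      simp only [hc]
      rcases hcount with h | h | ⟨h, hp⟩
      · exact Or.inl h
      · exact Or.inr (Or.inl h)
      · refine Or.inr (Or.inr ⟨h, ?_⟩)
        rw [Finset.prod_mul_distrib, Equiv.prod_comp σ.symm d, Equiv.prod_comp σ.symm (cd x), mul_pow, hprod, hp,
          one_mul]
  -- the reflection in the sum of the frame, corrected by a diagonal one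
  have hfr : ∀ (x a : Fin 4 → F), f x (∑ i, a i • v i) = ∑ i, a i ^ 3 * cd x i := by
    intro x a
    simp only [hf, hermForm, cd, Finset.sum_apply, Pi.smul_apply, smul_eq_mul]
    simp only [OrthUnitaryHerm.sum_pow_q hF, Finset.mul_sum, mul_pow]
    rw [Finset.sum_comm]
    exact Finset.sum_congr rfl fun i _ => Finset.sum_congr rfl fun j _ => by ring
  have refl : ∀ r : Fin 4 → F, f r r = 1 → ∃ N : Matrix (Fin 4) (Fin 4) F, OrthUnitaryHerm.IsU 3 N ∧ N.det = -1 ∧
      ∀ x, N *ᵥ x = x + f x r • r := by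
    intro r hr
    have hr' : hermForm 4 F 3 r r = 1 := hr
    refine ⟨_, OrthUnitaryHerm.isU_transvection hF (w := r) (c := 1) ?_, ?_, fun x => ?_⟩
    · rw [hr']; linear_combination h3
    · rw [OrthUnitaryHerm.det_transvection hF, hr']
      linear_combination h3
    · rw [OrthUnitaryHerm.transvection_mulVec, one_mul]
  set r := ∑ i, (1 : F) • v i with hr
  obtain ⟨N₁, hU₁, hd₁, hN₁⟩ := refl r (by
    rw [hr, hfr]
    simp only [cd, hval]
    simp
    linear_combination h3)
  obtain ⟨N₂, hU₂, hd₂, hN₂⟩ := refl (v 0) (hvv 0)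
  obtain ⟨T, hT, hTv⟩ := exists_mem_of_isU hF (hU₁.mul hU₂) (by rw [Matrix.det_mul, hd₁, hd₂]; ring)
  have hTc : ∀ x, cd ((T : Matrix (Fin 4) (Fin 4) F) *ᵥ x) =
      fun k => (fun i => cd x i * (if i = 0 then -1 else 1)) k + ∑ j, cd x j * (if j = 0 then -1 else 1) := by
    intro x
    have h20 : ∀ k, cd (N₂ *ᵥ x) k = cd x k * (if k = 0 then -1 else 1) := fun k => by
      show f _ (v k) = _
      rw [hN₂, haddl, hsl]
      by_cases hk : k = 0
      · subst hk
        show cd x 0 + cd x 0 * f (v 0) (v 0) = _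
        rw [hvv, if_pos rfl]
        linear_combination (cd x 0) * h3
      · rw [horth 0 k (Ne.symm hk), if_neg hk, mul_zero, add_zero, mul_one]
    funext k
    show f _ (v k) = _
    rw [hTv, ← Matrix.mulVec_mulVec, hN₁, haddl, hsl, hr, hval, hfr, mul_one]
    simp only [one_pow, one_mul, h20]
    rw [← h20 k]
  have hcdv : ∀ j, cd (v j) = fun k => if k = j then 1 else 0 := fun j => funext fun k => by
    by_cases hk : k = j
    · subst hk; simp [cd, hvv]
    · simp [cd, hk, horth j k (Ne.symm hk)]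
  obtain ⟨c, hc0, hc⟩ := exists_parameter hF
  set b := ∑ i, (![1, 1, 1, 0] : Fin 4 → F) i • v i with hb
  obtain ⟨T', hT', hT'v, -⟩ := exists_transvection hF (b := b) (show hermForm 4 F 3 b b = 0 by
    rw [← hf, hb, hfr]
    simp only [cd, hval]
    simp [Fin.sum_univ_four]
    linear_combination h3) hc
  refine AschSU6Lines44.not_maximal_of_set hH S hHS hT (fun x hx => ?_) (fun hTH => ?_) hT' (z := v 0) ?_ ?_
  · show Good (cd _)
    rw [hTc]
    refine good_shift hF ?_
    obtain ⟨hsame, hcount⟩ := (show Good (cd x) from hx)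
    refine ⟨fun i j hi hj => ?_, ?_⟩
    · have e : ∀ i : Fin 4, (cd x i * (if i = 0 then (-1 : F) else 1)) ^ 4 = cd x i ^ 4 := fun i => by
        split_ifs <;> ring
      rw [e, e]
      exact hsame _ _ (left_ne_zero_of_mul hi) (left_ne_zero_of_mul hj)
    · have hcf : (Finset.univ.filter fun k => cd x k * (if k = 0 then (-1 : F) else 1) ≠ 0) =
          Finset.univ.filter fun k => cd x k ≠ 0 := Finset.filter_congr fun k _ => by split_ifs <;> simp
      simp only [hcf]
      rcases hcount with h | h | ⟨h, hp⟩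
      · exact Or.inl h
      · exact Or.inr (Or.inl h)
      · refine Or.inr (Or.inr ⟨h, ?_⟩)
        rw [Finset.prod_mul_distrib, mul_pow, hp, one_mul, Fin.prod_univ_four]
        simp
  · obtain ⟨σ, hσ⟩ := hdec T hTH
    obtain ⟨d, hd⟩ := hvsp (σ 3) ((T : Matrix (Fin 4) (Fin 4) F) *ᵥ v 3)
      (by rw [← hσ 3]; exact ⟨v 3, hv 3, Matrix.toLin'_apply _ _⟩)
    have h1 := congrArg cd hd
    rw [hTc, hcdv] at h1
    have h5 : ∀ k, k ≠ σ 3 → k = 3 := fun k hk => by
      by_contra hk0
      have := congrFun h1 k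
      have h6 : cd (d • v (σ 3)) k = 0 := by
        show f (d • v (σ 3)) (v k) = 0
        rw [hsl, horth (σ 3) k (Ne.symm hk), mul_zero]
      rw [h6] at this
      simp [hk0, Fin.sum_univ_four] at this
    rcases eq_or_ne (σ 3) 1 with h | h
    · exact absurd (h5 2 (by rw [h]; decide)) (by decide)
    · exact absurd (h5 1 h.symm) (by decide)
  · show Good (cd _)
    rw [hcdv]
    refine ⟨fun i j hi hj => ?_, Or.inl ?_⟩
    · simp only [ne_eq, ite_eq_right_iff, one_ne_zero, imp_false, not_not] at hi hj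
      rw [hi, hj]
    · rw [show (Finset.univ.filter fun i : Fin 4 => (if i = 0 then (1 : F) else 0) ≠ 0) = {0} from
        by ext k; simp]
      rfl
  · intro hbad
    have hc1 : (1 : F) + c ≠ 0 := fun e => by
      have e' : c = -1 := by linear_combination e
      rw [e'] at hc
      exact one_ne_zero (α := F) (by linear_combination hc + h3)
    have hcT : cd ((T' : Matrix (Fin 4) (Fin 4) F) *ᵥ v 0) = ![1 + c, c, c, 0] := by
      funext k
      show f _ (v k) = _
      rw [hT'v, ← hf, haddl, hsl, hb, hfr, hval]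
      simp only [hcdv]
      fin_cases k <;> simp [Fin.sum_univ_four, hvv, horth]
    rw [show (T' : Matrix (Fin 4) (Fin 4) F) *ᵥ v 0 ∈ S ↔ Good _ from Iff.rfl, hcT] at hbad
    have he : (Finset.univ.filter fun i => (![1 + c, c, c, 0] : Fin 4 → F) i ≠ 0) = {0, 1, 2} := by
      ext k; fin_cases k <;> simp [hc0, hc1]
    obtain ⟨-, h | h | ⟨h, -⟩⟩ := hbad <;> (rw [he] at h; simp at h)

end Cfsg.Agent.AschSU4Lines44
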