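/-
Dimension case lists: for q at most three a pair of totally isotropic planes in SU_4 is not maximal.
-/
import Cfsg.Agent.Lib.AschSU6Lines44

set_option autoImplicit false
set_option linter.unusedSectionVars false

namespace Cfsg.Agent.AschSU4Pair44

open scoped Matrix
open Cfsg Cfsg.Geo Cfsg.Agent.AschPrimeBasic Cfsg.Agent.AschPrimeUnitaryProper

variable {F : Type*} [Field F] [Fintype F] {q : ℕ}

/-- for q at most three the stabiliser of two totally isotropic planes is not maximal in SU_4 -/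
theorem pair_not_maximal (hF : Fintype.card F = q ^ 2) (hq : q ≤ 3) {H : Subgroup (GL (Fin 4) F)}
    (hH : IsMaximalIn (Cfsg.GU 4 F q ⊓ specialLinear (Fin 4) F) H) {D : Fin 2 → Submodule F (Fin 4 → F)}
    (hD : IsMDecomposition 2 D) (hts : ∀ i, IsTotallySingularFor (hermForm 4 F q) (D i))
    (hH' : H = decompositionStabilizer D ⊓ (Cfsg.GU 4 F q ⊓ specialLinear (Fin 4) F)) : False := by
  classical
  set h := hermForm 4 F q with hh
  have hadd : ∀ x y z, h x (y + z) = h x y + h x z := fun x y z => OrthUnitaryHerm.herm_add_right hF y z x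
  have haddl : ∀ x y z, h (x + y) z = h x z + h y z := fun x y z => OrthUnitaryHerm.herm_add_left x y z
  have hsl : ∀ (c : F) x z, h (c • x) z = c * h x z := fun c x z => OrthUnitaryHerm.herm_smul_left c x z
  have hsr : ∀ (c : F) x z, h x (c • z) = c ^ q * h x z := fun c x z => OrthUnitaryHerm.herm_smul_right c z x
  have hconj : ∀ x y, h x y = h y x ^ q := fun x y => OrthUnitaryHerm.herm_conj hF y x
  have hnl : ∀ x z, h (-x) z = -(h x z) := fun x z => by
    rw [← neg_one_smul F x, hsl, neg_one_mul]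
  have hnr : ∀ x z, h x (-z) = -(h x z) := fun x z => by
    rw [← neg_one_smul F z, hsr, OrthUnitaryHerm.neg_pow_q hF, one_pow, neg_one_mul]
  have hz : (0 : F) ^ q = 0 := OrthUnitaryHerm.zero_pow_q hF
  have hq2 := OrthUnitaryHerm.two_le_q hF
  have htsv : ∀ i, ∀ u ∈ D i, ∀ v ∈ D i, h u v = 0 := fun i => hts i
  have htop : D 0 ⊔ D 1 = ⊤ := by
    rw [← hD.iSup_eq_top]
    exact le_antisymm (sup_le (le_iSup D 0) (le_iSup D 1)) (iSup_le fun i => by
      fin_cases i
      · exact le_sup_left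
      · exact le_sup_right)
  -- dual bases
  let be := Module.finBasisOfFinrankEq F (D 0) (hD.finrank_eq 0)
  let e : Fin 2 → Fin 4 → F := fun i => (be i : Fin 4 → F)
  have he : ∀ i, e i ∈ D 0 := fun i => (be i).2
  have hspan0 : ∀ x ∈ D 0, ∃ a : Fin 2 → F, x = a 0 • e 0 + a 1 • e 1 := fun x hx => by
    refine ⟨fun i => be.repr ⟨x, hx⟩ i, ?_⟩
    have := congrArg Subtype.val (be.sum_repr ⟨x, hx⟩)
    rw [Fin.sum_univ_two] at this
    exact this.symm
  let Φ : D 1 →ₗ[F] (Fin 2 → F) :=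
    { toFun := fun y i => h (y : Fin 4 → F) (e i)
      map_add' := fun y z => funext fun i => haddl _ _ _
      map_smul' := fun c y => funext fun i => hsl _ _ _ }
  have hΦi : Function.Injective Φ := by
    rw [← LinearMap.ker_eq_bot, LinearMap.ker_eq_bot']
    rintro ⟨y, hy⟩ hy0
    refine Subtype.ext (OrthUnitaryHerm.eq_zero_of_herm_eq_zero hF fun x => ?_)
    rw [← hh]
    obtain ⟨u, hu, v, hv, rfl⟩ := Submodule.mem_sup.1 (show x ∈ D 0 ⊔ D 1 from htop ▸ Submodule.mem_top)
    obtain ⟨a, rfl⟩ := hspan0 u hu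
    have h0 : h y (e 0) = 0 := congrFun hy0 0
    have h1 : h y (e 1) = 0 := congrFun hy0 1
    rw [hadd, hadd, hsr, hsr, h0, h1, htsv 1 y hy v hv, mul_zero, mul_zero, add_zero, add_zero]
  have hΦs := (LinearMap.injective_iff_surjective_of_finrank_eq_finrank
    (by rw [hD.finrank_eq, Module.finrank_pi, Fintype.card_fin])).1 hΦi
  choose fv hfv using fun j : Fin 2 => hΦs (Pi.single j 1)
  let f : Fin 2 → Fin 4 → F := fun j => (fv j : Fin 4 → F)
  have hfm : ∀ j, f j ∈ D 1 := fun j => (fv j).2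
  have hfe : ∀ i j, h (f j) (e i) = if i = j then 1 else 0 := fun i j => by
    have := congrFun (hfv j) i
    simpa [Φ, f, Pi.single_apply] using this
  have hef : ∀ i j, h (e i) (f j) = if i = j then 1 else 0 := fun i j => by
    rw [hconj, hfe]; split_ifs <;> simp [hz]
  have hee : ∀ i j, h (e i) (e j) = 0 := fun i j => htsv 0 _ (he i) _ (he j)
  have hff : ∀ i j, h (f i) (f j) = 0 := fun i j => htsv 1 _ (hfm i) _ (hfm j)
  let ca : (Fin 4 → F) → Fin 2 → F := fun x i => h x (f i)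
  let cb : (Fin 4 → F) → Fin 2 → F := fun x i => h x (e i)
  have hexp : ∀ x, x = ca x 0 • e 0 + ca x 1 • e 1 + cb x 0 • f 0 + cb x 1 • f 1 := by
    intro x
    set x' := ca x 0 • e 0 + ca x 1 • e 1 + cb x 0 • f 0 + cb x 1 • f 1 with hx'
    rw [← sub_eq_zero]
    refine OrthUnitaryHerm.eq_zero_of_herm_eq_zero hF fun z => ?_
    rw [← hh]
    have hsub : ∀ v, h (x - x') v = h x v - h x' v := fun v => OrthUnitaryHerm.herm_sub_left x x' v
    have k1 : ∀ i, h (x - x') (e i) = 0 := fun i => by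
      rw [hsub, hx']; fin_cases i <;> simp [haddl, hsl, hee, hfe, cb]
    have k2 : ∀ i, h (x - x') (f i) = 0 := fun i => by
      rw [hsub, hx']; fin_cases i <;> simp [haddl, hsl, hef, hff, ca]
    obtain ⟨u, hu, v, hv, rfl⟩ := Submodule.mem_sup.1 (show z ∈ D 0 ⊔ D 1 from htop ▸ Submodule.mem_top)
    obtain ⟨a, rfl⟩ := hspan0 u hu
    have hv' : v = h v (e 0) • f 0 + h v (e 1) • f 1 := by
      have hmem : h v (e 0) • f 0 + h v (e 1) • f 1 ∈ D 1 :=
        Submodule.add_mem _ (Submodule.smul_mem _ _ (hfm 0)) (Submodule.smul_mem _ _ (hfm 1))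
      exact congrArg Subtype.val (hΦi (a₁ := ⟨v, hv⟩) (a₂ := ⟨_, hmem⟩) (funext fun i => by
        show h v (e i) = h (_ + _) (e i)
        fin_cases i <;> simp [haddl, hsl, hfe]))
    rw [hv']
    simp [hadd, hsr, k1, k2, hz]
  let d2 : (Fin 2 → F) → (Fin 2 → F) → F := fun a a' => a 0 * a' 1 - a 1 * a' 0
  let B : (Fin 4 → F) → (Fin 4 → F) → F := fun x y => d2 (ca x) (ca y) + d2 (cb x) (cb y)
  let S : Set (Fin 4 → F) := {x | ∀ y, h y x = 0 → B y x = 0}
  have hsim : ∀ g : GL (Fin 4) F, g ∈ Cfsg.GU 4 F q → ∀ d : F,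
      (∀ x y, B ((g : Matrix (Fin 4) (Fin 4) F) *ᵥ x) ((g : Matrix (Fin 4) (Fin 4) F) *ᵥ y) = d * B x y) →
      ∀ x ∈ S, (g : Matrix (Fin 4) (Fin 4) F) *ᵥ x ∈ S := by
    intro g hg d hd x hx y hy
    obtain ⟨z, rfl⟩ : ∃ z, (g : Matrix (Fin 4) (Fin 4) F) *ᵥ z = y := ⟨_, mulVec_inv_mulVec g y⟩
    have h1 : h ((g : Matrix (Fin 4) (Fin 4) F) *ᵥ z) ((g : Matrix (Fin 4) (Fin 4) F) *ᵥ x) = h z x := hg z x
    rw [hd, hx z (h1 ▸ hy), mul_zero]
  let M : Matrix (Fin 4) (Fin 4) F := Matrix.of fun r c => ![e 0, e 1, f 0, f 1] c r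
  have hMv : ∀ a : Fin 4 → F, M *ᵥ a = a 0 • e 0 + a 1 • e 1 + a 2 • f 0 + a 3 • f 1 := fun a => by
    funext r
    simp [M, Matrix.mulVec, dotProduct, Fin.sum_univ_four, mul_comm]
  have hMdet : M.det ≠ 0 := by
    refine (Matrix.isUnit_iff_isUnit_det M).1 ((Matrix.mulVec_injective_iff_isUnit).1 fun a b hab => ?_) |>.ne_zero
    simp only [hMv] at hab
    funext r
    fin_cases r
    · simpa [haddl, hsl, hef, hff] using congrArg (fun v => h v (f 0)) hab
    · simpa [haddl, hsl, hef, hff] using congrArg (fun v => h v (f 1)) hab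
    · simpa [haddl, hsl, hee, hfe] using congrArg (fun v => h v (e 0)) hab
    · simpa [haddl, hsl, hee, hfe] using congrArg (fun v => h v (e 1)) hab
  -- the stabiliser acts by similitudes
  have hHS : ∀ g ∈ H, ∀ x ∈ S, (g : Matrix (Fin 4) (Fin 4) F) *ᵥ x ∈ S := by
    intro g hg
    obtain ⟨σ, hσ⟩ := (hH'.le hg).1
    have hgU : g ∈ Cfsg.GU 4 F q := (hH.1.le hg).1
    have hgdet : (g : Matrix (Fin 4) (Fin 4) F).det = 1 := (mem_sl_iff g).1 (hH.1.le hg).2
    set G := (g : Matrix (Fin 4) (Fin 4) F) with hG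
    have himg : ∀ i, ∀ v ∈ D i, G *ᵥ v ∈ D (σ i) := fun i v hv => by
      rw [← hσ i]; exact ⟨v, hv, Matrix.toLin'_apply _ _⟩
    have hiso : ∀ u v, h (G *ᵥ u) (G *ᵥ v) = h u v := fun u v => hgU u v
    have hqf : ∀ x : F, x ≠ 0 → x ^ q = x → x * x = 1 := fun x hx hfx => by
      interval_cases q
      · have : x = 1 := mul_left_cancel₀ hx (by rw [mul_one, ← sq]; exact hfx)
        rw [this, mul_one]
      · exact mul_left_cancel₀ hx (by rw [mul_one]; linear_combination hfx)
    have hca0 : ∀ v ∈ D 0, cb v = 0 := fun v hv => funext fun i => htsv 0 v hv _ (he i)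
    have hcb0 : ∀ v ∈ D 1, ca v = 0 := fun v hv => funext fun i => htsv 1 v hv _ (hfm i)
    obtain hσ01 | hσ10 : (σ 0 = 0 ∧ σ 1 = 1) ∨ (σ 0 = 1 ∧ σ 1 = 0) := by
      have hne : σ 0 ≠ σ 1 := σ.injective.ne (by decide)
      revert hne
      generalize σ 0 = i; generalize σ 1 = j
      fin_cases i <;> fin_cases j <;> simp
    · have hA : ∀ i, G *ᵥ e i = ca (G *ᵥ e i) 0 • e 0 + ca (G *ᵥ e i) 1 • e 1 := fun i => by
        conv_lhs => rw [hexp (G *ᵥ e i)]
        rw [hca0 _ (hσ01.1 ▸ himg 0 _ (he i))]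
        simp
      have hC : ∀ j, G *ᵥ f j = cb (G *ᵥ f j) 0 • f 0 + cb (G *ᵥ f j) 1 • f 1 := fun j => by
        conv_lhs => rw [hexp (G *ᵥ f j)]
        rw [hcb0 _ (hσ01.2 ▸ himg 1 _ (hfm j))]
        simp
      set A := fun i => ca (G *ᵥ e i) with hAdef
      set C := fun j => cb (G *ᵥ f j) with hCdef
      have hdet : d2 (A 0) (A 1) * d2 (C 0) (C 1) = 1 := by
        have hN : G * M = M * !![A 0 0, A 1 0, 0, 0; A 0 1, A 1 1, 0, 0; 0, 0, C 0 0, C 1 0; 0, 0, C 0 1, C 1 1] := by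
          refine Matrix.toLin'.injective ((Pi.basisFun F (Fin 4)).ext fun c => ?_)
          simp only [Pi.basisFun_apply, Matrix.toLin'_apply, ← Matrix.mulVec_mulVec, hMv]
          fin_cases c <;> simp <;>
            first | exact hA 0 | exact hA 1 | exact hC 0 | exact hC 1
        have := congrArg Matrix.det hN
        rw [Matrix.det_mul, Matrix.det_mul, hgdet, one_mul] at this
        have h1 := (mul_right_inj' hMdet).1 (this.symm.trans (mul_one _).symm)
        rw [← h1]
        simp [Matrix.det_succ_row_zero, Fin.sum_univ_succ, d2, Fin.succAbove]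
        ring
      have hrel : d2 (A 0) (A 1) * d2 (C 0) (C 1) ^ q = 1 := by
        have k : ∀ i j, A i 0 * C j 0 ^ q + A i 1 * C j 1 ^ q = if i = j then 1 else 0 := fun i j => by
          rw [← hef i j, ← hiso (e i) (f j), hA i, hC j]
          simp [haddl, hsl, hadd, hsr, hef, hAdef, hCdef]
        have k00 := k 0 0
        have k01 := k 0 1
        have k10 := k 1 0
        have k11 := k 1 1
        simp at k00 k01 k10 k11
        simp only [d2, OrthUnitaryHerm.sub_pow_q hF, mul_pow]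
        linear_combination k11 + (A 1 0 * C 1 0 ^ q + A 1 1 * C 1 1 ^ q) * k00 - (A 0 0 * C 1 0 ^ q + A 0 1 * C 1 1 ^ q) * k10
      set δ := d2 (C 0) (C 1) with hδ
      have hδ0 : δ ≠ 0 := fun e => by rw [e, mul_zero] at hdet; exact zero_ne_one hdet
      have hα0 : d2 (A 0) (A 1) ≠ 0 := fun e => by rw [e, zero_mul] at hdet; exact zero_ne_one hdet
      have hsq := hqf δ hδ0 (mul_left_cancel₀ hα0 (hrel.trans hdet.symm))
      have hAδ : d2 (A 0) (A 1) = δ := by linear_combination δ * hdet - d2 (A 0) (A 1) * hsq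
      refine hsim g hgU δ fun x y => ?_
      have ex : ∀ x i, ca (G *ᵥ x) i = ca x 0 * A 0 i + ca x 1 * A 1 i ∧ cb (G *ᵥ x) i = cb x 0 * C 0 i + cb x 1 * C 1 i := by
        intro x i
        have hx : G *ᵥ x = ca x 0 • G *ᵥ e 0 + ca x 1 • G *ᵥ e 1 + cb x 0 • G *ᵥ f 0 + cb x 1 • G *ᵥ f 1 := by
          conv_lhs => rw [hexp x]
          simp only [Matrix.mulVec_add, Matrix.mulVec_smul]
        refine ⟨?_, ?_⟩
        · show h (G *ᵥ x) (f i) = _
          rw [hx, hC 0, hC 1]
          simp [haddl, hsl, hef, hff]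
          rfl
        · show h (G *ᵥ x) (e i) = _
          rw [hx, hA 0, hA 1]
          simp [haddl, hsl, hee, hfe]
          rfl
      have ex1 := fun x i => (ex x i).1
      have ex2 := fun x i => (ex x i).2
      show d2 (ca _) (ca _) + d2 (cb _) (cb _) = δ * (d2 (ca x) (ca y) + d2 (cb x) (cb y))
      simp only [d2, ← hG, ex1, ex2]
      simp only [d2] at hAδ hδ
      linear_combination (ca x 0 * ca y 1 - ca x 1 * ca y 0) * hAδ - (cb x 0 * cb y 1 - cb x 1 * cb y 0) * hδ
    · have hA : ∀ i, G *ᵥ e i = cb (G *ᵥ e i) 0 • f 0 + cb (G *ᵥ e i) 1 • f 1 := fun i => by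
        conv_lhs => rw [hexp (G *ᵥ e i)]
        rw [hcb0 _ (hσ10.1 ▸ himg 0 _ (he i))]
        simp
      have hC : ∀ j, G *ᵥ f j = ca (G *ᵥ f j) 0 • e 0 + ca (G *ᵥ f j) 1 • e 1 := fun j => by
        conv_lhs => rw [hexp (G *ᵥ f j)]
        rw [hca0 _ (hσ10.2 ▸ himg 1 _ (hfm j))]
        simp
      set A := fun i => cb (G *ᵥ e i) with hAdef
      set C := fun j => ca (G *ᵥ f j) with hCdef
      have hdet : d2 (A 0) (A 1) * d2 (C 0) (C 1) = 1 := by
        have hN : G * M = M * !![0, 0, C 0 0, C 1 0; 0, 0, C 0 1, C 1 1; A 0 0, A 1 0, 0, 0; A 0 1, A 1 1, 0, 0] := by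
          refine Matrix.toLin'.injective ((Pi.basisFun F (Fin 4)).ext fun c => ?_)
          simp only [Pi.basisFun_apply, Matrix.toLin'_apply, ← Matrix.mulVec_mulVec, hMv]
          fin_cases c <;> simp <;>
            first | exact hA 0 | exact hA 1 | exact hC 0 | exact hC 1
        have := congrArg Matrix.det hN
        rw [Matrix.det_mul, Matrix.det_mul, hgdet, one_mul] at this
        have h1 := (mul_right_inj' hMdet).1 (this.symm.trans (mul_one _).symm)
        rw [← h1]
        simp [Matrix.det_succ_row_zero, Fin.sum_univ_succ, d2, Fin.succAbove]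
        ring
      have hrel : d2 (A 0) (A 1) * d2 (C 0) (C 1) ^ q = 1 := by
        have k : ∀ i j, A i 0 * C j 0 ^ q + A i 1 * C j 1 ^ q = if i = j then 1 else 0 := fun i j => by
          rw [← hef i j, ← hiso (e i) (f j), hA i, hC j]
          simp [haddl, hsl, hadd, hsr, hfe, hAdef, hCdef]
        have k00 := k 0 0
        have k01 := k 0 1
        have k10 := k 1 0
        have k11 := k 1 1
        simp at k00 k01 k10 k11
        simp only [d2, OrthUnitaryHerm.sub_pow_q hF, mul_pow]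
        linear_combination k11 + (A 1 0 * C 1 0 ^ q + A 1 1 * C 1 1 ^ q) * k00 - (A 0 0 * C 1 0 ^ q + A 0 1 * C 1 1 ^ q) * k10
      set δ := d2 (C 0) (C 1) with hδ
      have hδ0 : δ ≠ 0 := fun e => by rw [e, mul_zero] at hdet; exact zero_ne_one hdet
      have hα0 : d2 (A 0) (A 1) ≠ 0 := fun e => by rw [e, zero_mul] at hdet; exact zero_ne_one hdet
      have hsq := hqf δ hδ0 (mul_left_cancel₀ hα0 (hrel.trans hdet.symm))
      have hAδ : d2 (A 0) (A 1) = δ := by linear_combination δ * hdet - d2 (A 0) (A 1) * hsq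
      refine hsim g hgU δ fun x y => ?_
      have ex : ∀ x i, ca (G *ᵥ x) i = cb x 0 * C 0 i + cb x 1 * C 1 i ∧ cb (G *ᵥ x) i = ca x 0 * A 0 i + ca x 1 * A 1 i := by
        intro x i
        have hx : G *ᵥ x = ca x 0 • G *ᵥ e 0 + ca x 1 • G *ᵥ e 1 + cb x 0 • G *ᵥ f 0 + cb x 1 • G *ᵥ f 1 := by
          conv_lhs => rw [hexp x]
          simp only [Matrix.mulVec_add, Matrix.mulVec_smul]
        refine ⟨?_, ?_⟩
        · show h (G *ᵥ x) (f i) = _
          rw [hx, hA 0, hA 1]
          simp [haddl, hsl, hef, hff]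
          rfl
        · show h (G *ᵥ x) (e i) = _
          rw [hx, hC 0, hC 1]
          simp [haddl, hsl, hee, hfe]
          rfl
      have ex1 := fun x i => (ex x i).1
      have ex2 := fun x i => (ex x i).2
      show d2 (ca _) (ca _) + d2 (cb _) (cb _) = δ * (d2 (ca x) (ca y) + d2 (cb x) (cb y))
      simp only [d2, ← hG, ex1, ex2]
      simp only [d2] at hAδ hδ
      linear_combination (ca x 0 * ca y 1 - ca x 1 * ca y 0) * hAδ - (cb x 0 * cb y 1 - cb x 1 * cb y 0) * hδ
  -- a common eigenvector of the two forms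
  obtain ⟨μ, hμ⟩ := OrthUnitaryHerm.exists_norm_eq hF (a := (-1 : F))
    (by rw [OrthUnitaryHerm.neg_pow_q hF, one_pow])
  set u := (-μ) • e 0 + f 1 with hu
  have hcu : ca u = ![-μ, 0] ∧ cb u = ![0, 1] := by
    constructor <;> funext i <;> fin_cases i <;> simp [ca, cb, hu, haddl, hsl, hnl, hee, hef, hfe, hff]
  have hBu : ∀ y, B y u = μ * h y u := fun y => by
    have hy : h y u = (-μ) ^ q * cb y 0 + ca y 1 := by
      show h y _ = _
      rw [hu, hadd, hsr]
    show d2 (ca y) (ca u) + d2 (cb y) (cb u) = _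
    rw [hcu.1, hcu.2, hy, OrthUnitaryHerm.neg_pow_q hF]
    simp [d2]
    linear_combination (cb y 0) * hμ
  have huS : u ∈ S := fun y hy => by rw [hBu, hy, mul_zero]
  have huu : h u u = 0 := by
    show h u ((-μ) • e 0 + f 1) = 0
    rw [hadd, hsr, hu]
    simp [haddl, hsl, hnl, hee, hef, hfe, hff]
  obtain ⟨c, hc0, hc⟩ := exists_parameter hF
  obtain ⟨T, hT, hTv, -⟩ := exists_transvection hF (b := u) (show hermForm 4 F q u u = 0 from huu) hc
  have hB_anti : ∀ x y, B x y = -B y x := fun x y => by simp [B, d2]; ring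
  have hB_add : ∀ x x' y, B (x + x') y = B x y + B x' y := fun x x' y => by simp [B, d2, ca, cb, haddl]; ring
  have hB_smul : ∀ (c : F) x y, B (c • x) y = c * B x y := fun c x y => by simp [B, d2, ca, cb, hsl]; ring
  have hTS : ∀ x ∈ S, (T : Matrix (Fin 4) (Fin 4) F) *ᵥ x ∈ S := by
    refine hsim T hT.1 1 fun x y => ?_
    rw [hTv, hTv, ← hh, hB_add, hB_smul]
    have e1 : ∀ z, B z (y + (c * h y u) • u) = B z y + c * h y u * B z u := fun z => by
      rw [hB_anti z, hB_add, hB_smul, hB_anti y z, hB_anti u z]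
      ring
    rw [e1, e1, hB_anti u y, hBu x, hBu y, hBu u, huu]
    ring
  have hTH : T ∉ H := fun hTH => by
    obtain ⟨σ, hσ⟩ := (hH'.le hTH).1
    have hmem : (T : Matrix (Fin 4) (Fin 4) F) *ᵥ e 1 ∈ D (σ 0) := by
      rw [← hσ 0]; exact ⟨_, he 1, Matrix.toLin'_apply _ _⟩
    have h1 : h (e 1) u = 1 := by
      show h (e 1) (_ + _) = 1
      rw [hadd, hsr]
      simp [hnr, hee, hef]
    rw [hTv, ← hh, h1, mul_one] at hmem
    have ha : ca (e 1 + c • u) = ![-c * μ, 1] := by
      funext i; fin_cases i <;> simp [ca, hu, haddl, hsl, hnl, hef, hff]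
    have hb : cb (e 1 + c • u) = ![0, c] := by
      funext i; fin_cases i <;> simp [cb, hu, haddl, hsl, hnl, hee, hfe]
    generalize σ 0 = i at hmem
    fin_cases i
    · have := congrFun (hb.symm.trans (funext fun j => htsv 0 _ hmem _ (he j))) 1
      simp at this
      exact hc0 this
    · have := congrFun (ha.symm.trans (funext fun j => htsv 1 _ hmem _ (hfm j))) 1
      simp at this
  obtain ⟨T', hT', hT'v, -⟩ := exists_transvection hF (b := e 1) (show hermForm 4 F q (e 1) (e 1) = 0 from hee 1 1) hc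
  refine AschSU6Lines44.not_maximal_of_set hH S hHS hT hTS hTH hT' huS fun hbad => ?_
  have h1 : h u (e 1) = 1 := by simp [hu, haddl, hsl, hnl, hee, hfe]
  rw [hT'v, ← hh, h1, mul_one] at hbad
  have h2 := hbad (e 0) (by simp [hu, hadd, hsr, hnr, hee, hef])
  have ha : ca (u + c • e 1) = ![-μ, c] := by
    funext i; fin_cases i <;> simp [ca, hu, haddl, hsl, hnl, hef, hff]
  have hb : cb (u + c • e 1) = ![0, 1] := by
    funext i; fin_cases i <;> simp [cb, hu, haddl, hsl, hnl, hee, hfe]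
  have ha0 : ca (e 0) = ![1, 0] := by funext i; fin_cases i <;> simp [ca, hef]
  have hb0 : cb (e 0) = ![0, 0] := by funext i; fin_cases i <;> simp [cb, hee]
  simp only [B, d2, ha, hb, ha0, hb0] at h2
  simp at h2
  exact hc0 h2

end Cfsg.Agent.AschSU4Pair44
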