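/-
Dimension case lists: a class-six two-group is not normalised by SU_4.
-/
import Cfsg.Agent.Lib.AschCaseUnit

set_option autoImplicit false
set_option linter.unusedSectionVars false

namespace Cfsg.Agent.AschSU4Proper44

open scoped Matrix commutatorElement
open Cfsg Cfsg.Geo Cfsg.Agent.AschPrimeBasic Cfsg.Agent.AschPrimeExtra Cfsg.Agent.AschPrimeUnitaryProper
  Cfsg.Agent.AschGenExtra

variable {F : Type*} [Field F] [Fintype F] {q : ℕ}

/-- the class-six groups in dimension four are not normalised by SU_4 -/
theorem su_not_le_normalizer_four (hF : Fintype.card F = q ^ 2) {p : ℕ} [CharP F p] (hp : p.Prime) (hp2 : p ≠ 2)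
    {R : Subgroup (GL (Fin 4) F)} (hR : AbsIrred R) (h2 : Class2 R) (hP : IsPGroup 2 R) :
    ¬ Cfsg.GU 4 F q ⊓ specialLinear (Fin 4) F ≤ subgroupNormalizer R := by
  classical
  intro hle
  haveI : Nonempty (Fin 4) := ⟨0⟩
  have hsc : R ≤ scalars (Fin 4) F := by
    intro x hx
    obtain ⟨c, hc0, hc⟩ := exists_parameter hF
    obtain ⟨a, ha⟩ := scalar_of_iso_eigen hF (by omega) (M := (x : Matrix (Fin 4) (Fin 4) F)) fun b hb0 hb => by
      obtain ⟨T, hT, hTv, hTk⟩ := exists_transvection hF hb hc
      set y := T * x * T⁻¹ * x⁻¹ with hy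
      have hyR : y ∈ R := R.mul_mem ((Subgroup.mem_normalizer_iff.1 (hle hT) x).1 hx) (R.inv_mem hx)
      have hcomm : T * x = x * T := by
        by_contra hne
        have hy1 : y ≠ 1 := fun h => hne (by
          rw [hy, mul_inv_eq_one, mul_inv_eq_iff_eq_mul] at h
          first | exact h | exact h.symm)
        let φ : (Fin 4 → F) →ₗ[F] F :=
          { toFun := fun v => hermForm 4 F q v b
            map_add' := fun u v => OrthUnitaryHerm.herm_add_left u v b
            map_smul' := fun c v => OrthUnitaryHerm.herm_smul_left c v b }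
        let ψ : (Fin 4 → F) →ₗ[F] F := φ ∘ₗ Matrix.toLin' ((x⁻¹ : GL (Fin 4) F) : Matrix (Fin 4) (Fin 4) F)
        let S := LinearMap.ker φ ⊓ LinearMap.ker ψ
        have hTfix : ∀ v, φ v = 0 → (T : Matrix (Fin 4) (Fin 4) F) *ᵥ v = v := fun v hv => by
          rw [hTv, show hermForm 4 F q v b = 0 from hv, mul_zero, zero_smul, add_zero]
        have hfix : ∀ z ∈ S, (y : Matrix (Fin 4) (Fin 4) F) *ᵥ z = z := by
          rintro z ⟨h1, h3⟩
          have h3' : φ (((x⁻¹ : GL (Fin 4) F) : Matrix (Fin 4) (Fin 4) F) *ᵥ z) = 0 := by simpa [ψ] using h3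
          rw [hy, Units.val_mul, Units.val_mul, Units.val_mul, mul_assoc, mul_assoc, ← Matrix.mulVec_mulVec,
            ← Matrix.mulVec_mulVec, ← Matrix.mulVec_mulVec]
          have e1 : ((T⁻¹ : GL (Fin 4) F) : Matrix (Fin 4) (Fin 4) F) *ᵥ
              (((x⁻¹ : GL (Fin 4) F) : Matrix (Fin 4) (Fin 4) F) *ᵥ z) =
              ((x⁻¹ : GL (Fin 4) F) : Matrix (Fin 4) (Fin 4) F) *ᵥ z := by
            conv_lhs => arg 2; rw [← hTfix _ h3']
            rw [inv_mulVec_mulVec]
          rw [e1, mulVec_inv_mulVec, hTfix z h1]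
        have hS : 2 ≤ Module.finrank F S := by
          have hker : ∀ l : (Fin 4 → F) →ₗ[F] F, 3 ≤ Module.finrank F (LinearMap.ker l) := fun l => by
            have h1 := LinearMap.finrank_range_add_finrank_ker l
            have h3 : Module.finrank F (LinearMap.range l) ≤ 1 := (Submodule.finrank_le _).trans (by simp)
            rw [Module.finrank_pi, Fintype.card_fin] at h1
            omega
          have h1 := Submodule.finrank_sup_add_finrank_inf_eq (LinearMap.ker φ) (LinearMap.ker ψ)
          have h3 := Submodule.finrank_le (LinearMap.ker φ ⊔ LinearMap.ker ψ)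
          rw [Module.finrank_pi, Fintype.card_fin] at h3
          have := hker φ
          have := hker ψ
          show 2 ≤ Module.finrank F ↥(LinearMap.ker φ ⊓ LinearMap.ker ψ)
          omega
        have hys : y ∉ scalars (Fin 4) F := by
          intro hs
          obtain ⟨c, hc⟩ := (mem_scalars_iff y).1 hs
          obtain ⟨z, hz, hz0⟩ := (Submodule.ne_bot_iff S).1 fun h => by rw [h, finrank_bot] at hS; omega
          have h1 := hfix z hz
          rw [hc, Matrix.smul_mulVec, Matrix.one_mulVec] at h1
          have hc1 : (c : F) = 1 := by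
            by_contra h
            exact hz0 ((smul_eq_zero.1 (show ((c : F) - 1) • z = 0 by rw [sub_smul, h1, one_smul, sub_self])).resolve_left
              (sub_ne_zero.2 h))
          exact hy1 (Units.ext (by rw [hc, hc1, one_smul, Units.val_one]))
        obtain ⟨g, hg, hgne⟩ := commutator_ne hR hys
        obtain ⟨l, hl⟩ := (mem_scalars_iff _).1 (h2 g hg y hyR)
        have hl1 : (l : F) ≠ 1 := fun h => hgne (Units.ext (by rw [hl, h, one_smul, Units.val_one]))
        have hgy : (g : Matrix (Fin 4) (Fin 4) F) * (y : Matrix (Fin 4) (Fin 4) F) =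
            (l : F) • ((y : Matrix (Fin 4) (Fin 4) F) * (g : Matrix (Fin 4) (Fin 4) F)) := by
          have e : g * y = ⁅g, y⁆ * (y * g) := by rw [commutatorElement_def]; group
          have := congrArg (fun u : GL (Fin 4) F => (u : Matrix (Fin 4) (Fin 4) F)) e
          simpa [hl, Matrix.smul_mul] using this
        let W := S.map (Matrix.toLin' (g : Matrix (Fin 4) (Fin 4) F))
        have hWeig : ∀ w ∈ W, (y : Matrix (Fin 4) (Fin 4) F) *ᵥ w = (l : F)⁻¹ • w := by
          rintro _ ⟨z, hz, rfl⟩
          rw [Matrix.toLin'_apply]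
          have e2 := congrArg (fun A => A *ᵥ z) hgy
          simp only [← Matrix.mulVec_mulVec, Matrix.smul_mulVec, hfix z hz] at e2
          conv_rhs => rw [e2]
          rw [inv_smul_smul₀ (Units.ne_zero l)]
        have hlinv : (l : F)⁻¹ - 1 ≠ 0 := sub_ne_zero.2 fun h => hl1 (by rw [← inv_inv (l : F), h, inv_one])
        have hdisj : S ⊓ W = ⊥ := by
          rw [eq_bot_iff]
          rintro w ⟨h1, h3⟩
          have e := hWeig w h3
          rw [hfix w h1] at e
          exact (smul_eq_zero.1 (show ((l : F)⁻¹ - 1) • w = 0 by rw [sub_smul, ← e, one_smul, sub_self])).resolve_left hlinv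
        have hWS : Module.finrank F W = Module.finrank F S :=
          LinearEquiv.finrank_eq (Submodule.equivMapOfInjective _
            (fun a b hab => (act g).injective (by simpa using hab)) _).symm
        have h1 := Submodule.finrank_sup_add_finrank_inf_eq S W
        have h3 := Submodule.finrank_le (S ⊔ W)
        rw [Module.finrank_pi, Fintype.card_fin] at h3
        rw [hdisj, finrank_bot, hWS] at h1
        have htop : S ⊔ W = ⊤ := Submodule.eq_top_of_finrank_eq (by
          rw [Module.finrank_pi, Fintype.card_fin]; omega)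
        -- the image of `y - 1`
        set E := Submodule.span F {b, (x : Matrix (Fin 4) (Fin 4) F) *ᵥ b} with hE
        have hbE : b ∈ E := Submodule.subset_span (by simp)
        have hxbE : (x : Matrix (Fin 4) (Fin 4) F) *ᵥ b ∈ E := Submodule.subset_span (by simp)
        have hrange : ∀ v, (y : Matrix (Fin 4) (Fin 4) F) *ᵥ v - v ∈ E := by
          intro v
          obtain ⟨u, rfl⟩ : ∃ u, ((x * T : GL (Fin 4) F) : Matrix (Fin 4) (Fin 4) F) *ᵥ u = v := ⟨_, mulVec_inv_mulVec _ v⟩
          have e : (y : Matrix (Fin 4) (Fin 4) F) *ᵥ (((x * T : GL (Fin 4) F) : Matrix (Fin 4) (Fin 4) F) *ᵥ u) =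
              ((T * x : GL (Fin 4) F) : Matrix (Fin 4) (Fin 4) F) *ᵥ u := by
            rw [Matrix.mulVec_mulVec, ← Units.val_mul, hy]
            congr 2
            group
          rw [e, Units.val_mul, Units.val_mul, ← Matrix.mulVec_mulVec, ← Matrix.mulVec_mulVec, hTv, hTv,
            Matrix.mulVec_add, Matrix.mulVec_smul, add_sub_add_left_eq_sub]
          exact E.sub_mem (E.smul_mem _ hbE) (E.smul_mem _ hxbE)
        have hWE : W = E := by
          refine Submodule.eq_of_le_of_finrank_le (fun w hw => ?_) ?_
          · have h5 := hrange w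
            rw [hWeig w hw, ← one_smul F w, smul_smul, mul_one, ← sub_smul] at h5
            have h6 := E.smul_mem ((l : F)⁻¹ - 1)⁻¹ h5
            rwa [inv_smul_smul₀ hlinv] at h6
          · rw [hWS]
            refine le_trans ?_ hS
            rw [hE]
            refine (finrank_span_le_card _).trans ?_
            rw [Set.toFinset_insert, Set.toFinset_singleton]
            exact Finset.card_le_two
        have hTW : ∀ w ∈ W, (T : Matrix (Fin 4) (Fin 4) F) *ᵥ w ∈ W := fun w hw => by
          rw [hTv, hWE] at *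
          exact E.add_mem hw (E.smul_mem _ hbE)
        have hTy : T * y = y * T := by
          refine Units.ext (Matrix.toLin'.injective (LinearMap.ext fun v => ?_))
          obtain ⟨s, hs, w, hw, rfl⟩ := Submodule.mem_sup.1 (show v ∈ S ⊔ W from htop ▸ Submodule.mem_top)
          simp only [Matrix.toLin'_apply, Units.val_mul, ← Matrix.mulVec_mulVec, Matrix.mulVec_add, hfix s hs,
            hTfix s hs.1, hWeig w hw, hWeig _ (hTW w hw), Matrix.mulVec_smul]
        have hpow : ∀ k : ℕ, T ^ k * x * (T ^ k)⁻¹ = y ^ k * x := by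
          intro k
          induction k with
          | zero => simp
          | succ k ih =>
            have hTyk : T * y ^ k = y ^ k * T := (Commute.pow_right (show Commute T y from hTy) k).eq
            calc T ^ (k + 1) * x * (T ^ (k + 1))⁻¹ = T * (T ^ k * x * (T ^ k)⁻¹) * T⁻¹ := by rw [pow_succ']; group
              _ = (T * y ^ k) * x * T⁻¹ := by rw [ih]; group
              _ = y ^ k * (T * x * T⁻¹ * x⁻¹) * x := by rw [hTyk]; group
              _ = y ^ (k + 1) * x := by rw [← hy, pow_succ]
        have hTp : T ^ p = 1 := Units.ext (Matrix.toLin'.injective (LinearMap.ext fun v => by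
          rw [Matrix.toLin'_apply, Matrix.toLin'_apply, hTk, CharP.cast_eq_zero, zero_mul, zero_smul, add_zero,
            Units.val_one, Matrix.one_mulVec]))
        have hyp : y ^ p = 1 := by
          have := hpow p
          rw [hTp, one_mul, inv_one, mul_one] at this
          exact mul_eq_right.1 this.symm
        obtain ⟨j, hj⟩ := hP ⟨y, hyR⟩
        have hyj : y ^ (2 ^ j) = 1 := congrArg Subtype.val hj
        have hcop : Nat.Coprime p (2 ^ j) := ((Nat.coprime_primes hp Nat.prime_two).2 hp2).pow_right j
        have h7 : y ^ (Nat.gcd p (2 ^ j)) = 1 := pow_gcd_eq_one.2 ⟨hyp, hyj⟩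
        rw [hcop.gcd_eq_one, pow_one] at h7
        exact hy1 h7
      obtain ⟨x', hx'⟩ : ∃ v, hermForm 4 F q v b ≠ 0 := by
        by_contra hall
        push Not at hall
        exact hb0 (OrthUnitaryHerm.eq_zero_of_herm_eq_zero hF fun v => by
          rw [OrthUnitaryHerm.herm_conj hF v b, hall, OrthUnitaryHerm.zero_pow_q hF])
      have h3 := congrArg (fun A : GL (Fin 4) F => (A : Matrix (Fin 4) (Fin 4) F) *ᵥ x') hcomm
      simp only [Units.val_mul, ← Matrix.mulVec_mulVec, hTv, Matrix.mulVec_add, Matrix.mulVec_smul] at h3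
      have h4 := add_left_cancel h3
      refine ⟨(c * hermForm 4 F q ((x : Matrix (Fin 4) (Fin 4) F) *ᵥ x') b) / (c * hermForm 4 F q x' b), ?_⟩
      rw [div_eq_inv_mul, mul_smul, h4, inv_smul_smul₀ (mul_ne_zero hc0 hx')]
    exact mem_scalars_of_comm ha
  have hinv : Inv R (Submodule.span F {(Pi.single 0 1 : Fin 4 → F)}) := by
    intro g hg w hw
    obtain ⟨l, hl⟩ := (mem_scalars_iff g).1 (hsc hg)
    rw [hl, Matrix.smul_mulVec, Matrix.one_mulVec]
    exact Submodule.smul_mem _ _ hw
  have hv : (Pi.single 0 1 : Fin 4 → F) ≠ 0 := fun h => by simpa using congrFun h 0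
  rcases hR.irred _ hinv with h | h
  · exact hv (Submodule.span_singleton_eq_bot.1 h)
  · have := finrank_span_singleton (K := F) hv
    rw [h, finrank_top, Module.finrank_pi, Fintype.card_fin] at this
    omega

end Cfsg.Agent.AschSU4Proper44
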