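/-
Dimension case lists: over four elements the normaliser of a cubic field in SU_6 is not maximal.
-/
import Cfsg.Agent.Lib.AschSU6Lines44

set_option autoImplicit false
set_option linter.unusedSectionVars false

namespace Cfsg.Agent.AschSU6Field44

open scoped Matrix
open Cfsg Cfsg.Geo Cfsg.Agent.AschPrimeBasic Cfsg.Agent.AschPrimeUnitary Cfsg.Agent.AschPrimeUnitaryProper

variable {F : Type*} [Field F] [Fintype F]

/-- an element fixed by the power map of the ground field lies in it -/
lemma mem_base {K : Type*} [Field K] [Algebra F K] [Fintype K] {d : K}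
    (h : d ^ Fintype.card F = d) : ∃ c : F, algebraMap F K c = d := by
  classical
  by_contra hne
  push Not at hne
  have hq : 1 < Fintype.card F := Fintype.one_lt_card
  set P : Polynomial K := Polynomial.X ^ Fintype.card F - Polynomial.X
  have hP : P ≠ 0 := FiniteField.X_pow_card_sub_X_ne_zero K hq
  have hle : (insert d (Finset.univ.image (algebraMap F K))).card ≤ Fintype.card F :=
    (Finset.card_le_card fun y hy => by
      rw [Multiset.mem_toFinset, Polynomial.mem_roots hP]
      rcases Finset.mem_insert.1 hy with rfl | hy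
      · simp [P, h]
      · obtain ⟨c, -, rfl⟩ := Finset.mem_image.1 hy
        simp [P, ← map_pow, FiniteField.pow_card]).trans ((Multiset.toFinset_card_le _).trans
      ((Polynomial.card_roots' _).trans (FiniteField.X_pow_card_sub_X_natDegree_eq K hq).le))
  rw [Finset.card_insert_of_notMem (by simpa using hne),
    Finset.card_image_of_injective _ (algebraMap F K).injective, Finset.card_univ] at hle
  omega

/-- an automorphism of a finite separable extension has determinant of square one -/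
lemma det_algEquiv_sq {K : Type*} [Field K] [Algebra F K] [Finite K] (φ : K ≃ₐ[F] K) :
    LinearMap.det φ.toLinearMap * LinearMap.det φ.toLinearMap = 1 := by
  classical
  let b := Module.finBasis F K
  have h1 := Algebra.discr_eq_discr_of_algEquiv (A := F) b φ
  have e : (φ ∘ b) = Matrix.vecMul b ((LinearMap.toMatrix b b φ.toLinearMap).map (algebraMap F K)) := by
    funext j
    conv_lhs => rw [Function.comp_apply, ← b.sum_repr (φ (b j))]
    simp [Matrix.vecMul, dotProduct, LinearMap.toMatrix_apply, Algebra.smul_def, mul_comm]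
  rw [e, Algebra.discr_of_matrix_vecMul, LinearMap.det_toMatrix] at h1
  have hne := Algebra.discr_not_zero_of_basis F b
  rw [← sq]
  exact (mul_eq_right₀ hne).1 h1.symm

/-- over four elements the normaliser of an adjoint-closed cubic field is not maximal in SU_6 -/
theorem field_not_maximal (hF : Fintype.card F = 2 ^ 2) {H : Subgroup (GL (Fin 6) F)}
    (hH : IsMaximalIn (Cfsg.GU 6 F 2 ⊓ specialLinear (Fin 6) F) H) {K : Subalgebra F (Matrix (Fin 6) (Fin 6) F)}
    (hK : IsFieldSubalgebra 3 K) (hadj : IsAdjointClosedFor (hermForm 6 F 2) K)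
    (hH' : H = subalgebraNormalizer K ⊓ (Cfsg.GU 6 F 2 ⊓ specialLinear (Fin 6) F)) : False := by
  classical
  have h2 := AschPrimeSU52.char_two hF
  haveI : Nontrivial K := ⟨0, 1, fun h => zero_ne_one (congrArg Subtype.val h : (0 : Matrix (Fin 6) (Fin 6) F) = 1)⟩
  have hfld : IsField K :=
    ⟨⟨0, 1, zero_ne_one⟩, fun x y => Subtype.ext (hK.comm _ x.2 _ y.2), fun {x} hx => by
      obtain ⟨y, hy, hxy⟩ := hK.inv x x.2 (fun h => hx (Subtype.ext h))
      exact ⟨⟨y, hy⟩, Subtype.ext hxy⟩⟩
  letI : Field K := hfld.toField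
  haveI : Fintype K := Fintype.ofFinite K
  have hK3 : Module.finrank F K = 3 := hK.finrank_eq
  have hKcard : Fintype.card K = 64 := by
    rw [Module.card_eq_pow_finrank (K := F) (V := K), hK3, hF]
    rfl
  have hcK : ∀ c : F, ((algebraMap F K c : K) : Matrix (Fin 6) (Fin 6) F) = c • 1 := fun c => by
    show algebraMap F (Matrix (Fin 6) (Fin 6) F) c = _
    rw [Algebra.algebraMap_eq_smul_one]
  have h2K : (2 : K) = 0 := by
    have := congrArg (algebraMap F K) h2
    rwa [map_ofNat, map_zero] at this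
  set h := hermForm 6 F 2 with hh
  have hadd : ∀ x y z, h x (y + z) = h x y + h x z := fun x y z => by
    rw [hh]; exact OrthUnitaryHerm.herm_add_right hF y z x
  have haddl : ∀ x y z, h (x + y) z = h x z + h y z := fun x y z => OrthUnitaryHerm.herm_add_left x y z
  have hsl : ∀ (c : F) x z, h (c • x) z = c * h x z := fun c x z => OrthUnitaryHerm.herm_smul_left c x z
  have hsr : ∀ (c : F) x z, h x (c • z) = c ^ 2 * h x z := fun c x z => OrthUnitaryHerm.herm_smul_right c z x
  have hconj : ∀ x y, h x y = h y x ^ 2 := fun x y => OrthUnitaryHerm.herm_conj hF y x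
  have hnd : ∀ {v}, (∀ x, h x v = 0) → v = 0 := fun hv =>
    OrthUnitaryHerm.eq_zero_of_herm_eq_zero hF fun x => by
      rw [← hh, hconj, hv x]
      simp
  -- the adjoint involution
  choose α₀ hα₀K hα₀ using hadj
  let α : K → K := fun k => ⟨α₀ k k.2, hα₀K k k.2⟩
  have hαh : ∀ (k : K) u v, h ((k : Matrix (Fin 6) (Fin 6) F) *ᵥ u) v =
      h u ((α k : Matrix (Fin 6) (Fin 6) F) *ᵥ v) := fun k u v => hα₀ k k.2 u v
  have hinj : ∀ k l : K, (∀ u v, h u ((k : Matrix (Fin 6) (Fin 6) F) *ᵥ v) =
      h u ((l : Matrix (Fin 6) (Fin 6) F) *ᵥ v)) → k = l := fun k l hkl => by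
    refine Subtype.ext (Matrix.toLin'.injective (LinearMap.ext fun v => ?_))
    rw [Matrix.toLin'_apply, Matrix.toLin'_apply, ← sub_eq_zero]
    refine hnd fun u => ?_
    have hsub := hadd u ((k : Matrix (Fin 6) (Fin 6) F) *ᵥ v - (l : Matrix (Fin 6) (Fin 6) F) *ᵥ v)
      ((l : Matrix (Fin 6) (Fin 6) F) *ᵥ v)
    rw [sub_add_cancel, hkl u v] at hsub
    exact (left_eq_add.1 (by rw [add_comm] at hsub; exact hsub))
  have hαadd : ∀ a b, α (a + b) = α a + α b := fun a b => hinj _ _ fun u v => by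
    rw [← hαh, Subalgebra.coe_add, Matrix.add_mulVec, haddl, hαh, hαh, ← hadd, ← Matrix.add_mulVec, Subalgebra.coe_add]
  have hαmul : ∀ a b, α (a * b) = α a * α b := fun a b => hinj _ _ fun u v => by
    rw [← hαh, mul_comm (α a) (α b), Subalgebra.coe_mul, ← Matrix.mulVec_mulVec, hαh, hαh, Matrix.mulVec_mulVec,
      Subalgebra.coe_mul]
  have hαα : ∀ a, α (α a) = a := fun a => hinj _ _ fun u v => by
    rw [← hαh, hconj, ← hαh, ← hconj]
  let αe : K ≃+* K :=
    { toFun := α, invFun := α, left_inv := hαα, right_inv := hαα, map_mul' := hαmul, map_add' := hαadd }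
  have hαc : ∀ c : F, α (algebraMap F K c) = algebraMap F K (c ^ 2) := fun c => hinj _ _ fun u v => by
    rw [← hαh, hcK, hcK, Matrix.smul_mulVec, Matrix.smul_mulVec, Matrix.one_mulVec, Matrix.one_mulVec, hsl, hsr,
      ← pow_mul]
    congr 1
    exact (FiniteField.pow_card c).symm.trans (by rw [hF]; rfl)
  obtain ⟨w, hw, hw0, hw1⟩ := AschPrimeSU52.exists_omega hF
  have hwα : α (algebraMap F K w) ≠ algebraMap F K w := fun e => by
    rw [hαc] at e
    have := (algebraMap F K).injective e
    exact one_ne_zero (α := F) (by linear_combination this - hw)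
  -- the trace and the hermitian form over `K`
  let tr : K →ₗ[F] F := Algebra.trace F K
  have htrα : ∀ k, tr (α k) = tr k ^ 2 := fun k => by
    have := Algebra.trace_eq_of_equiv_equiv (A₁ := F) (B₁ := K) (A₂ := F) (B₂ := K) (fr hF) αe
      (RingHom.ext fun c => (hαc c).symm) k
    show Algebra.trace F K (αe k) = Algebra.trace F K k ^ 2
    rw [this, ← fr_apply hF, RingEquiv.apply_symm_apply]
  have htr1 : tr 1 = 1 := by
    show Algebra.trace F K 1 = 1
    rw [← map_one (algebraMap F K), Algebra.trace_algebraMap, hK3]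
    simp
    linear_combination h2
  have htr_ne : ∀ {z : K}, (∀ k, tr (k * z) = 0) → z = 0 := fun {z} hz => by
    by_contra hz0
    have := hz z⁻¹
    rw [inv_mul_cancel₀ hz0, htr1] at this
    exact one_ne_zero this
  have hex : ∀ x y : Fin 6 → F, ∃ z : K, ∀ k : K, tr (k * z) = h ((k : Matrix (Fin 6) (Fin 6) F) *ᵥ x) y := by
    intro x y
    let Φ : K →ₗ[F] (K →ₗ[F] F) := (LinearMap.mul F K).flip.compr₂ tr
    have hΦ : ∀ z k, Φ z k = tr (k * z) := fun z k => rfl
    have hΦi : Function.Injective Φ := by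
      rw [← LinearMap.ker_eq_bot, LinearMap.ker_eq_bot']
      exact fun z hz => htr_ne fun k => by rw [← hΦ, hz]; rfl
    have hΦs := (LinearMap.injective_iff_surjective_of_finrank_eq_finrank
      (by rw [Module.finrank_linearMap, Module.finrank_self, mul_one])).1 hΦi
    obtain ⟨z, hz⟩ := hΦs
      { toFun := fun k => h ((k : Matrix (Fin 6) (Fin 6) F) *ᵥ x) y
        map_add' := fun a b => by rw [Subalgebra.coe_add, Matrix.add_mulVec, haddl]
        map_smul' := fun c a => by rw [Subalgebra.coe_smul, Matrix.smul_mulVec, hsl]; rfl }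
    exact ⟨z, fun k => by rw [← hΦ, hz]; rfl⟩
  choose hk hhk using hex
  have hkext : ∀ {z w : K}, (∀ k, tr (k * z) = tr (k * w)) → z = w := fun {z w} hzw =>
    sub_eq_zero.1 (htr_ne fun k => by rw [mul_sub, map_sub, hzw, sub_self])
  have hk_add : ∀ x x' y, hk (x + x') y = hk x y + hk x' y := fun x x' y => hkext fun k => by
    rw [hhk, mul_add, map_add, hhk, hhk, Matrix.mulVec_add, haddl]
  have hk_smul : ∀ (a : K) x y, hk ((a : Matrix (Fin 6) (Fin 6) F) *ᵥ x) y = a * hk x y := fun a x y =>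
    hkext fun k => by rw [hhk, ← mul_assoc, hhk, Subalgebra.coe_mul, Matrix.mulVec_mulVec]
  have hk_conj : ∀ x y, hk x y = α (hk y x) := fun x y => hkext fun k => by
    rw [hhk]
    conv_rhs => rw [← hαα k, ← hαmul, htrα, hhk, hαh, hαα, ← hconj]
  have hk_add' : ∀ x y y', hk x (y + y') = hk x y + hk x y' := fun x y y' => by
    rw [hk_conj, hk_add, hαadd, ← hk_conj, ← hk_conj]
  have hk_smul' : ∀ (a : K) x y, hk x ((a : Matrix (Fin 6) (Fin 6) F) *ᵥ y) = α a * hk x y := fun a x y => by
    rw [hk_conj, hk_smul, hαmul, ← hk_conj]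
  have htr_hk : ∀ x y, tr (hk x y) = h x y := fun x y => by
    have := hhk x y 1
    rwa [one_mul, Subalgebra.coe_one, Matrix.one_mulVec] at this
  have hk_nd : ∀ {v}, (∀ x, hk x v = 0) → v = 0 := fun hv => hnd fun x => by rw [← htr_hk, hv, map_zero]
  -- a vector of value one
  have hα0 : α 0 = 0 := map_zero αe
  have hval1 : ∀ x, hk x x ≠ 0 → ∃ t : K, hk ((t : Matrix (Fin 6) (Fin 6) F) *ᵥ x) ((t : Matrix (Fin 6) (Fin 6) F) *ᵥ x) = 1 := by
    intro x hx
    have hfix : α (hk x x) = hk x x := (hk_conj x x).symm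
    haveI : CharP K 2 := (CharP.charP_iff_prime_eq_zero Nat.prime_two).2 (by exact_mod_cast h2K)
    obtain ⟨t, ht⟩ := (frobenius_inj K 2).bijective_of_finite.2 (hk x x)⁻¹
    rw [frobenius_def] at ht
    have htα : α t = t := by
      refine frobenius_inj K 2 ?_
      show (α t) ^ 2 = t ^ 2
      rw [show (α t) ^ 2 = α (t ^ 2) from (map_pow αe t 2).symm, ht]
      rw [show α (hk x x)⁻¹ = (α (hk x x))⁻¹ from map_inv₀ αe _, hfix]
    refine ⟨t, ?_⟩
    rw [hk_smul, hk_smul', htα, ← mul_assoc, ← sq, ht, inv_mul_cancel₀ hx]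
  obtain ⟨e₁, he₁⟩ : ∃ e, hk e e = 1 := by
    by_contra hne
    have h0 : ∀ x, hk x x = 0 := fun x => by
      by_contra hx
      obtain ⟨t, ht⟩ := hval1 x hx
      exact hne ⟨_, ht⟩
    have hsk : ∀ x y, hk x y + α (hk x y) = 0 := fun x y => by
      have := h0 (x + y)
      rwa [hk_add, hk_add', hk_add', h0, h0, zero_add, add_zero, hk_conj y x] at this
    have hv : (Pi.single 0 1 : Fin 6 → F) ≠ 0 := fun e => one_ne_zero (α := F) (by simpa using congrFun e 0)
    obtain ⟨x, hx⟩ : ∃ x, hk x (Pi.single 0 1) ≠ 0 := by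
      by_contra hall
      push Not at hall
      exact hv (hk_nd hall)
    have h5 := hsk ((((algebraMap F K w) / hk x (Pi.single 0 1) : K) : Matrix (Fin 6) (Fin 6) F) *ᵥ x) (Pi.single 0 1)
    rw [hk_smul, div_mul_cancel₀ _ hx] at h5
    exact hwα (by linear_combination h5 - algebraMap F K w * h2K)
  obtain ⟨e₂, he₂, he12⟩ : ∃ e, hk e e = 1 ∧ hk e e₁ = 0 := by
    obtain ⟨x, hx⟩ : ∃ x : Fin 6 → F, ∀ k : K, (k : Matrix (Fin 6) (Fin 6) F) *ᵥ e₁ ≠ x := by
      by_contra hall
      push Not at hall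
      have hcard := Fintype.card_le_of_surjective (fun k : K => (k : Matrix (Fin 6) (Fin 6) F) *ᵥ e₁) hall
      rw [hKcard, Fintype.card_pi, Finset.prod_const, hF, Finset.card_univ, Fintype.card_fin] at hcard
      norm_num at hcard
    set y := x - ((hk x e₁ : K) : Matrix (Fin 6) (Fin 6) F) *ᵥ e₁ with hy
    have hxy : x = y + ((hk x e₁ : K) : Matrix (Fin 6) (Fin 6) F) *ᵥ e₁ := (sub_add_cancel _ _).symm
    have hy1 : hk y e₁ = 0 := by
      have h1 := congrArg (fun v => hk v e₁) hxy
      simp only [hk_add, hk_smul, he₁, mul_one] at h1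
      linear_combination -h1
    by_cases hyy : hk y y = 0
    · exfalso
      have hy0 : y ≠ 0 := fun e => hx (hk x e₁) (sub_eq_zero.1 e).symm
      -- `y` and `e₁` span, so `y` would be in the radical
      let L : (K × K) →ₗ[F] (Fin 6 → F) :=
        { toFun := fun p => (p.1 : Matrix (Fin 6) (Fin 6) F) *ᵥ e₁ + (p.2 : Matrix (Fin 6) (Fin 6) F) *ᵥ y
          map_add' := fun p p' => by simp [Matrix.add_mulVec]; abel
          map_smul' := fun c p => by simp [Matrix.smul_mulVec] }
      have hLi : Function.Injective L := by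
        rw [← LinearMap.ker_eq_bot, LinearMap.ker_eq_bot']
        rintro ⟨a, b⟩ hab
        change (a : Matrix (Fin 6) (Fin 6) F) *ᵥ e₁ + (b : Matrix (Fin 6) (Fin 6) F) *ᵥ y = 0 at hab
        have h1 := congrArg (fun v => hk v e₁) hab
        have hk0 : hk 0 e₁ = 0 := by simpa using hk_smul 0 0 e₁
        simp only [hk_add, hk_smul, he₁, hy1, mul_one, mul_zero, add_zero, hk0] at h1
        subst h1
        rw [ZeroMemClass.coe_zero, Matrix.zero_mulVec, zero_add] at hab
        by_contra hb
        have hb0 : b ≠ 0 := fun e => hb (Prod.ext rfl e)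
        have h2' := congrArg (fun v => ((b⁻¹ : K) : Matrix (Fin 6) (Fin 6) F) *ᵥ v) hab
        rw [Matrix.mulVec_mulVec, ← Subalgebra.coe_mul, inv_mul_cancel₀ hb0, Subalgebra.coe_one, Matrix.one_mulVec,
          Matrix.mulVec_zero] at h2'
        exact hy0 h2'
      have hLs := (LinearMap.injective_iff_surjective_of_finrank_eq_finrank
        (by rw [Module.finrank_prod, hK3, Module.finrank_pi, Fintype.card_fin])).1 hLi
      refine hy0 (hk_nd fun v => ?_)
      obtain ⟨⟨a, b⟩, rfl⟩ := hLs v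
      show hk (_ + _) y = 0
      rw [hk_add, hk_smul, hk_smul, hyy, hk_conj e₁ y, hy1, hα0, mul_zero, mul_zero, add_zero]
    · obtain ⟨t, ht⟩ := hval1 y hyy
      exact ⟨_, ht, by rw [hk_smul, hy1, mul_zero]⟩
  have he21 : hk e₁ e₂ = 0 := by rw [hk_conj, he12, hα0]
  -- coordinates over `K`
  let L : (Fin 2 → K) →ₗ[F] (Fin 6 → F) :=
    { toFun := fun p => (p 0 : Matrix (Fin 6) (Fin 6) F) *ᵥ e₁ + (p 1 : Matrix (Fin 6) (Fin 6) F) *ᵥ e₂
      map_add' := fun p p' => by simp [Matrix.add_mulVec]; abel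
      map_smul' := fun c p => by simp [Matrix.smul_mulVec] }
  have hL : ∀ p, L p = (p 0 : Matrix (Fin 6) (Fin 6) F) *ᵥ e₁ + (p 1 : Matrix (Fin 6) (Fin 6) F) *ᵥ e₂ := fun p => rfl
  have hLk : ∀ p p', hk (L p) (L p') = p 0 * α (p' 0) + p 1 * α (p' 1) := fun p p' => by
    simp only [hL, hk_add, hk_add', hk_smul, hk_smul', he₁, he₂, he12, he21]
    ring
  have hLi : Function.Injective L := by
    rw [← LinearMap.ker_eq_bot, LinearMap.ker_eq_bot']
    intro p hp
    have h0 := hLk p ![1, 0]
    have h1 := hLk p ![0, 1]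
    have hα1 : α 1 = 1 := map_one αe
    rw [hp] at h0 h1
    have hk0 : ∀ z, hk 0 z = 0 := fun z => by simpa using hk_smul 0 0 z
    simp [hk0, hα0, hα1] at h0 h1
    funext i
    fin_cases i
    · exact h0.symm
    · exact h1.symm
  have hLb : Function.Bijective L := ⟨hLi, (LinearMap.injective_iff_surjective_of_finrank_eq_finrank
    (by rw [Module.finrank_pi_fintype, Finset.sum_const, Finset.card_univ, Fintype.card_fin, hK3,
      Module.finrank_pi, Fintype.card_fin]; rfl)).1 hLi⟩
  let Le := LinearEquiv.ofBijective L hLb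
  -- the alternating form and the set
  let B : (Fin 6 → F) → (Fin 6 → F) → F := fun x y =>
    tr (Le.symm x 0 * Le.symm y 1 + Le.symm x 1 * Le.symm y 0)
  have hB : ∀ p p', B (L p) (L p') = tr (p 0 * p' 1 + p 1 * p' 0) := fun p p' => by
    have e : ∀ z, Le.symm (L z) = z := fun z => LinearEquiv.ofBijective_symm_apply_apply L z
    simp only [B, e]
  have hh_L : ∀ p p', h (L p) (L p') = tr (p 0 * α (p' 0) + p 1 * α (p' 1)) := fun p p' => by
    rw [← htr_hk, hLk]
  let S : Set (Fin 6 → F) := {x | ∀ y, h y x = 0 → B y x = 0}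
  have hsim : ∀ g : GL (Fin 6) F, g ∈ Cfsg.GU 6 F 2 → ∀ d : F,
      (∀ x y, B ((g : Matrix (Fin 6) (Fin 6) F) *ᵥ x) ((g : Matrix (Fin 6) (Fin 6) F) *ᵥ y) = d * B x y) →
      ∀ x ∈ S, (g : Matrix (Fin 6) (Fin 6) F) *ᵥ x ∈ S := by
    intro g hg d hd x hx y hy
    obtain ⟨z, rfl⟩ : ∃ z, (g : Matrix (Fin 6) (Fin 6) F) *ᵥ z = y := ⟨_, mulVec_inv_mulVec g y⟩
    have h1 : h ((g : Matrix (Fin 6) (Fin 6) F) *ᵥ z) ((g : Matrix (Fin 6) (Fin 6) F) *ᵥ x) = h z x := hg z x
    rw [hd, hx z (h1 ▸ hy), mul_zero]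
  -- the normaliser acts by similitudes of the alternating form
  have hHS : ∀ g ∈ H, ∀ x ∈ S, (g : Matrix (Fin 6) (Fin 6) F) *ᵥ x ∈ S := by
    intro g hg
    have hgK := (hH'.le hg).1
    have hgU : g ∈ Cfsg.GU 6 F 2 := (hH.1.le hg).1
    have hgi : ∀ k : Matrix (Fin 6) (Fin 6) F, k ∈ K → ((g⁻¹ : GL (Fin 6) F) : Matrix (Fin 6) (Fin 6) F) * k *
        (g : Matrix (Fin 6) (Fin 6) F) ∈ K := fun k hk => by
      have := ((subalgebraNormalizer K).inv_mem hgK k).1 hk
      rwa [inv_inv] at this
    let φ : K ≃ₐ[F] K :=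
      { toFun := fun k => ⟨_, (hgK k).1 k.2⟩
        invFun := fun k => ⟨_, hgi k k.2⟩
        left_inv := fun k => Subtype.ext (by simp [mul_assoc])
        right_inv := fun k => Subtype.ext (by simp [mul_assoc])
        map_mul' := fun a b => Subtype.ext (by simp [mul_assoc])
        map_add' := fun a b => Subtype.ext (by simp [mul_add, add_mul])
        commutes' := fun c => Subtype.ext (by
          show _ * ((algebraMap F K c : K) : Matrix (Fin 6) (Fin 6) F) * _ = ((algebraMap F K c : K) : Matrix (Fin 6) (Fin 6) F)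
          rw [hcK]; simp) }
    have hφ : ∀ (k : K) x, (g : Matrix (Fin 6) (Fin 6) F) *ᵥ ((k : Matrix (Fin 6) (Fin 6) F) *ᵥ x) =
        ((φ k : K) : Matrix (Fin 6) (Fin 6) F) *ᵥ ((g : Matrix (Fin 6) (Fin 6) F) *ᵥ x) := fun k x => by
      simp [φ, Matrix.mulVec_mulVec, mul_assoc]
    have htrφ : ∀ k, tr (φ k) = tr k := fun k => Algebra.trace_eq_of_algEquiv φ k
    have hkg : ∀ x y, hk ((g : Matrix (Fin 6) (Fin 6) F) *ᵥ x) ((g : Matrix (Fin 6) (Fin 6) F) *ᵥ y) = φ (hk x y) := by
      intro x y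
      refine hkext fun k => ?_
      obtain ⟨k, rfl⟩ := φ.surjective k
      rw [hhk, ← map_mul, htrφ, hhk, ← hφ]
      exact hgU _ _
    obtain ⟨p₁, hp₁⟩ := hLb.2 ((g : Matrix (Fin 6) (Fin 6) F) *ᵥ e₁)
    obtain ⟨p₂, hp₂⟩ := hLb.2 ((g : Matrix (Fin 6) (Fin 6) F) *ᵥ e₂)
    let G : Matrix (Fin 2) (Fin 2) K := Matrix.of ![![p₁ 0, p₂ 0], ![p₁ 1, p₂ 1]]
    have hgL : ∀ p : Fin 2 → K, (g : Matrix (Fin 6) (Fin 6) F) *ᵥ L p = L (G *ᵥ fun i => φ (p i)) := fun p => by
      rw [hL, Matrix.mulVec_add, hφ, hφ, ← hp₁, ← hp₂, hL, hL, hL]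
      simp only [G, Matrix.mulVec, dotProduct, Fin.sum_univ_two, Matrix.of_apply, Matrix.cons_val_zero,
        Matrix.cons_val_one, Matrix.cons_val', Matrix.empty_val', Matrix.cons_val_fin_one]
      simp only [Matrix.mulVec_add, Matrix.add_mulVec, Matrix.mulVec_mulVec, ← Subalgebra.coe_mul, Subalgebra.coe_add,
        mul_comm (φ (p 0)), mul_comm (φ (p 1))]
      abel
    -- the determinant
    set d := p₁ 0 * p₂ 1 + p₂ 0 * p₁ 1 with hd
    have hd2 : d * α d = 1 := by
      have h11 := hkg e₁ e₁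
      have h12 := hkg e₁ e₂
      have h22 := hkg e₂ e₂
      rw [← hp₁, hLk, he₁, map_one] at h11
      rw [← hp₁, ← hp₂, hLk, he21, map_zero] at h12
      rw [← hp₂, hLk, he₂, map_one] at h22
      have h21 := congrArg αe h12
      rw [map_add, map_mul, map_mul, map_zero] at h21
      simp only [show ∀ z, αe z = α z from fun z => rfl, hαα] at h21
      rw [hd, hαadd, hαmul, hαmul]
      linear_combination h22 + (p₂ 0 * α (p₂ 0) + p₂ 1 * α (p₂ 1)) * h11 - (α (p₁ 0) * p₂ 0 + α (p₁ 1) * p₂ 1) * h12 +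
        (p₁ 0 * p₂ 1 * α (p₂ 0) * α (p₁ 1) + p₂ 0 * p₁ 1 * α (p₁ 0) * α (p₂ 1)) * h2K
    have hdetg : Algebra.norm F d = 1 := by
      let Φ : (Fin 2 → K) →ₗ[F] (Fin 2 → K) := LinearMap.pi fun i => φ.toLinearMap ∘ₗ LinearMap.proj i
      let G' : (Fin 2 → K) →ₗ[K] (Fin 2 → K) := Matrix.toLin' G
      have hcomp : (Le.symm.toLinearMap ∘ₗ Matrix.toLin' (g : Matrix (Fin 6) (Fin 6) F)) ∘ₗ Le.toLinearMap =
          G'.restrictScalars F ∘ₗ Φ := LinearMap.ext fun p => by
        refine Le.injective ?_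
        show Le (Le.symm _) = L _
        rw [Le.apply_symm_apply]
        exact hgL p
      have h1 := LinearMap.det_conj (Matrix.toLin' (g : Matrix (Fin 6) (Fin 6) F)) Le.symm
      rw [LinearEquiv.symm_symm, ← LinearMap.comp_assoc, hcomp, LinearMap.det_comp, LinearMap.det_restrictScalars, LinearMap.det_toLin',
        LinearMap.det_toLin', (mem_sl_iff g).1 (hH.1.le hg).2, LinearMap.det_pi, Fin.prod_univ_two,
        det_algEquiv_sq φ, mul_one, Matrix.det_fin_two] at h1
      rw [← h1]
      congr 1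
      simp only [hd, G, Matrix.of_apply, Matrix.cons_val_zero, Matrix.cons_val_one, Matrix.cons_val',
        Matrix.empty_val', Matrix.cons_val_fin_one]
      linear_combination (p₂ 0 * p₁ 1) * h2K
    -- the determinant lies in `F`
    have hd21 : d ^ 21 = 1 := by
      have := FiniteField.algebraMap_norm_eq_prod_pow F K d
      rw [hdetg, map_one, hK3, Nat.card_eq_fintype_card, hF, Finset.prod_range_succ, Finset.prod_range_succ,
        Finset.prod_range_succ, Finset.prod_range_zero, one_mul, ← pow_add, ← pow_add] at this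
      exact this.symm
    have hd0 : d ≠ 0 := fun e => by rw [e, zero_mul] at hd2; exact zero_ne_one hd2
    have hd9 : d ^ 9 = 1 := by
      haveI : CharP K 2 := (CharP.charP_iff_prime_eq_zero Nat.prime_two).2 (by exact_mod_cast h2K)
      haveI : ExpChar K 2 := ExpChar.prime Nat.prime_two
      have h64 : ∀ x : K, (x ^ 8) ^ 8 = x := fun x => by
        rw [← pow_mul, show 8 * 8 = Fintype.card K by rw [hKcard], FiniteField.pow_card]
      let β : K ≃+* K :=
        { toFun := fun x => x ^ 8, invFun := fun x => x ^ 8, left_inv := h64, right_inv := h64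
          map_mul' := fun x y => mul_pow x y 8
          map_add' := fun x y => add_pow_char_pow (p := 2) (n := 3) x y }
      have hαn : αe ≠ RingEquiv.refl K := fun e => hwα (by
        show αe _ = _
        rw [e]; rfl)
      have hβn : β ≠ RingEquiv.refl K := fun e => by
        have h1 : β (algebraMap F K w) = algebraMap F K w := by rw [e]; rfl
        apply hwα
        rw [hαc]
        refine Eq.trans ?_ h1
        show _ = (algebraMap F K w) ^ 8
        rw [← map_pow]
        congr 1
        have h4 : w ^ 4 = w := by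
          have := FiniteField.pow_card w
          rwa [hF] at this
        linear_combination (-(w ^ 4 + w)) * h4
      have hfe : ∀ x, α x = x → x ^ 8 = x := fun x hx =>
        AschFormField.fixed_eq (α := β) (β := αe) h64 hαα hβn hαn hx
      have hs : (d + α d) ^ 8 = d + α d := hfe _ (by rw [hαadd, hαα, add_comm])
      have hm : (d ^ 8 + d) * (d ^ 8 + α d) = 0 := by
        have h1 : (α d) ^ 8 = d + α d - d ^ 8 := by
          have : (d + α d) ^ 8 = d ^ 8 + (α d) ^ 8 := add_pow_char_pow (p := 2) (n := 3) d (α d)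
          linear_combination hs - this
        have h3 : (α d) ^ 8 * d ^ 8 = 1 := by rw [← mul_pow, mul_comm, hd2, one_pow]
        rw [h1] at h3
        linear_combination -h3 + hd2 + (d ^ 8 * d + d ^ 8 * α d) * h2K
      rcases mul_eq_zero.1 hm with e | e
      · -- a fixed element of norm one is one
        have h7 : d ^ 7 = 1 := mul_right_cancel₀ hd0 (by linear_combination e - d * h2K)
        have hdα : α d = d := by
          refine AschFormField.fixed_eq (α := αe) (β := β) hαα h64 hαn hβn ?_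
          show d ^ 8 = d
          linear_combination d * h7
        rw [hdα] at hd2
        have h1 : (d + 1) * (d + 1) = 0 := by linear_combination hd2 + (d + 1) * h2K
        have := mul_self_eq_zero.1 h1
        rw [show d = 1 by linear_combination this - h2K, one_pow]
      · have : d ^ 8 = α d := by linear_combination e - α d * h2K
        rw [pow_succ, this, mul_comm, hd2]
    have hd3 : d ^ 3 = 1 := by
      rw [show (3 : ℕ) = Nat.gcd 9 21 by rfl, pow_gcd_eq_one]
      exact ⟨hd9, hd21⟩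
    obtain ⟨c, hc⟩ := mem_base (F := F) (d := d) (by rw [hF]; linear_combination d * hd3)
    refine hsim g hgU c fun x y => ?_
    obtain ⟨p, rfl⟩ := hLb.2 x
    obtain ⟨p', rfl⟩ := hLb.2 y
    rw [hgL, hgL, hB, hB]
    have e : (G *ᵥ fun i => φ (p i)) 0 * (G *ᵥ fun i => φ (p' i)) 1 +
        (G *ᵥ fun i => φ (p i)) 1 * (G *ᵥ fun i => φ (p' i)) 0 = d * φ (p 0 * p' 1 + p 1 * p' 0) := by
      simp only [G, Matrix.mulVec, dotProduct, Fin.sum_univ_two, Matrix.of_apply, Matrix.cons_val_zero,
        Matrix.cons_val_one, Matrix.cons_val', Matrix.empty_val', Matrix.cons_val_fin_one, map_add, map_mul, hd]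
      linear_combination (p₁ 0 * p₁ 1 * φ (p 0) * φ (p' 0) + p₂ 0 * p₂ 1 * φ (p 1) * φ (p' 1)) * h2K
    rw [e, ← hc, ← Algebra.smul_def, map_smul, htrφ, smul_eq_mul]
  -- the vector fixed by both forms
  set u := L ![1, 1] with hu
  have hα1 : α 1 = 1 := map_one αe
  have hBu : ∀ y, B y u = h y u := fun y => by
    obtain ⟨p, rfl⟩ := hLb.2 y
    rw [hu, hB, hh_L]
    simp only [Matrix.cons_val_zero, Matrix.cons_val_one, Matrix.cons_val_fin_one, hα1, mul_one]
  have huS : u ∈ S := fun y hy => by rw [hBu]; exact hy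
  have huu : h u u = 0 := by
    rw [hu, hh_L]
    simp only [Matrix.cons_val_zero, Matrix.cons_val_one, Matrix.cons_val_fin_one, hα1, mul_one]
    rw [show (1 : K) + 1 = 0 by linear_combination h2K, map_zero]
  obtain ⟨T, hT, hTv, -⟩ := exists_transvection hF (b := u) (show hermForm 6 F 2 u u = 0 from huu) (c := 1)
    (by linear_combination h2)
  have hB_sym : ∀ x y, B x y = B y x := fun x y => by
    show tr _ = tr _
    congr 1
    ring
  have hB_add : ∀ x x' y, B (x + x') y = B x y + B x' y := fun x x' y => by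
    show tr _ = tr _ + tr _
    rw [← map_add]
    congr 1
    simp only [map_add, Pi.add_apply]
    ring
  have hB_smul : ∀ (c : F) x y, B (c • x) y = c * B x y := fun c x y => by
    show tr _ = c * tr _
    rw [← smul_eq_mul c, ← map_smul]
    congr 1
    simp only [map_smul, Pi.smul_apply, smul_add, smul_mul_assoc]
  have hTS : ∀ x ∈ S, (T : Matrix (Fin 6) (Fin 6) F) *ᵥ x ∈ S := by
    refine hsim T hT.1 1 fun x y => ?_
    rw [hTv, hTv, one_mul, one_mul, one_mul, ← hh, hB_add, hB_smul]
    rw [hB_sym x (y + _), hB_add, hB_smul, hB_sym u (y + _), hB_add, hB_smul, hB_sym u x, hB_sym y x,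
      hBu x, hBu y, hBu u, huu]
    linear_combination (h x u * h y u) * h2
  have hTH : T ∉ H := fun hTH => by
    have hTK := (hH'.le hTH).1
    have hkey : ∀ k : K, (T : Matrix (Fin 6) (Fin 6) F) * (k : Matrix (Fin 6) (Fin 6) F) =
        (k : Matrix (Fin 6) (Fin 6) F) * (T : Matrix (Fin 6) (Fin 6) F) := by
      intro k
      let k' : K := ⟨_, (hTK k).1 k.2⟩
      let φ : (Fin 6 → F) →ₗ[F] F :=
        { toFun := fun x => h x u, map_add' := fun a b => haddl a b u, map_smul' := fun a b => hsl a b u }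
      obtain ⟨x, hx0, hx⟩ := AschCase.exists_ne_zero_kills [φ, φ ∘ₗ Matrix.toLin' (k : Matrix (Fin 6) (Fin 6) F)]
        (by rw [Module.finrank_pi]; simp)
      have h1 : h x u = 0 := hx φ (by simp)
      have h3 : h ((k : Matrix (Fin 6) (Fin 6) F) *ᵥ x) u = 0 := by
        simpa [φ] using hx (φ ∘ₗ Matrix.toLin' (k : Matrix (Fin 6) (Fin 6) F)) (by simp)
      have hfix : (T : Matrix (Fin 6) (Fin 6) F) *ᵥ x = x := by
        rw [hTv, ← hh, h1, mul_zero, zero_smul, add_zero]
      have hfix' : (T : Matrix (Fin 6) (Fin 6) F) *ᵥ ((k : Matrix (Fin 6) (Fin 6) F) *ᵥ x) =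
          (k : Matrix (Fin 6) (Fin 6) F) *ᵥ x := by
        rw [hTv, ← hh, h3, mul_zero, zero_smul, add_zero]
      have h4 : k' = k := by
        by_contra hne
        have h5 : ((k' - k : K) : Matrix (Fin 6) (Fin 6) F) *ᵥ x = 0 := by
          rw [Subalgebra.coe_sub, Matrix.sub_mulVec]
          show ((T : Matrix (Fin 6) (Fin 6) F) * _ * _) *ᵥ x - _ = 0
          conv_lhs => arg 1; arg 2; rw [← hfix]
          rw [Matrix.mulVec_mulVec, mul_assoc, Units.inv_mul, mul_one, ← Matrix.mulVec_mulVec, hfix', sub_self]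
        have h6 := congrArg (fun v => (((k' - k)⁻¹ : K) : Matrix (Fin 6) (Fin 6) F) *ᵥ v) h5
        rw [Matrix.mulVec_mulVec, ← Subalgebra.coe_mul, inv_mul_cancel₀ (sub_ne_zero.2 hne), Subalgebra.coe_one,
          Matrix.one_mulVec, Matrix.mulVec_zero] at h6
        exact hx0 h6
      have := congrArg (fun z : K => (z : Matrix (Fin 6) (Fin 6) F) * (T : Matrix (Fin 6) (Fin 6) F)) h4
      simpa [k', mul_assoc] using this
    have hu0 : u ≠ 0 := fun e => by
      have := congrFun (hLi (a₁ := ![1, 1]) (a₂ := 0) (by rw [map_zero]; exact e)) 0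
      simp at this
    obtain ⟨x, hx⟩ : ∃ x, h x u ≠ 0 := by
      by_contra hall
      push Not at hall
      exact hu0 (hnd hall)
    have hsc : ∀ k : K, ∃ c : F, algebraMap F K c = k := by
      intro k
      have h1 := congrArg (fun M : Matrix (Fin 6) (Fin 6) F => M *ᵥ x) (hkey k)
      simp only [← Matrix.mulVec_mulVec, hTv, one_mul, ← hh, Matrix.mulVec_add, Matrix.mulVec_smul] at h1
      have h4 := add_left_cancel h1
      refine ⟨h ((k : Matrix (Fin 6) (Fin 6) F) *ᵥ x) u / h x u, ?_⟩
      set c := h ((k : Matrix (Fin 6) (Fin 6) F) *ᵥ x) u / h x u with hc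
      by_contra hne
      have h5 : ((k - algebraMap F K c : K) : Matrix (Fin 6) (Fin 6) F) *ᵥ u = 0 := by
        rw [Subalgebra.coe_sub, Matrix.sub_mulVec, hcK, Matrix.smul_mulVec, Matrix.one_mulVec, sub_eq_zero,
          hc, div_eq_inv_mul, mul_smul, h4, inv_smul_smul₀ hx]
      have h6 := congrArg (fun v => (((k - algebraMap F K c)⁻¹ : K) : Matrix (Fin 6) (Fin 6) F) *ᵥ v) h5
      rw [Matrix.mulVec_mulVec, ← Subalgebra.coe_mul, inv_mul_cancel₀ (sub_ne_zero.2 (Ne.symm hne)),
        Subalgebra.coe_one, Matrix.one_mulVec, Matrix.mulVec_zero] at h6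
      exact hu0 h6
    have := Fintype.card_le_of_surjective (algebraMap F K) hsc
    rw [hKcard, hF] at this
    norm_num at this
  -- a transvection moving the vector out of the set
  obtain ⟨ζ, hζ, hζF, hζt⟩ : ∃ ζ : K, ζ * α ζ = 1 ∧ (∀ c : F, algebraMap F K c ≠ ζ) ∧ tr (α ζ) ≠ 1 := by
    have hgen : ∀ z : K, z ≠ 0 → (z / α z) * α (z / α z) = 1 := fun z hz => by
      have hz' : α z ≠ 0 := fun e => hz (by rw [← hαα z, e, hα0])
      show _ * αe _ = 1
      rw [map_div₀ αe]
      show z / α z * (α z / α (α z)) = 1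
      rw [hαα, div_mul_div_comm, mul_comm, div_self (mul_ne_zero hz' hz)]
    obtain ⟨ξ, hξ, hξF⟩ : ∃ ξ : K, ξ * α ξ = 1 ∧ ∀ c : F, algebraMap F K c ≠ ξ := by
      obtain ⟨z, hz⟩ : ∃ z : K, ∀ c : F, algebraMap F K c ≠ z := by
        by_contra hall
        push Not at hall
        have := Fintype.card_le_of_surjective (algebraMap F K) hall
        rw [hKcard, hF] at this
        norm_num at this
      obtain ⟨z, hz, hzα⟩ : ∃ z : K, (∀ c : F, algebraMap F K c ≠ z) ∧ α z ≠ z := by
        by_cases hzα : α z = z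
        · refine ⟨z + algebraMap F K w, fun c hc => hz (c - w) (by rw [map_sub, hc, add_sub_cancel_right]),
            fun e => hwα ?_⟩
          rw [hαadd, hzα] at e
          exact add_left_cancel e
        · exact ⟨z, hz, hzα⟩
      have hne0 : ∀ {x : K}, x ≠ 0 → α x ≠ 0 := fun {x} hx e => hx (by rw [← hαα x, e, hα0])
      have hz0 : z ≠ 0 := fun e => hz 0 (by rw [map_zero, e])
      have hz10 : z + 1 ≠ 0 := fun e => hz 1 (by rw [map_one]; linear_combination e * (-1 : K) + h2K * 1)
      by_cases h1 : ∀ c : F, algebraMap F K c ≠ z / α z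
      · exact ⟨_, hgen z hz0, h1⟩
      refine ⟨_, hgen (z + 1) hz10, fun c hc => ?_⟩
      push Not at h1
      obtain ⟨c', hc'⟩ := h1
      rw [eq_div_iff (hne0 hz0)] at hc'
      rw [eq_div_iff (hne0 hz10), hαadd, hα1, mul_add, mul_one] at hc
      by_cases hcc : c = c'
      · subst hcc
        have : algebraMap F K c = 1 := by linear_combination hc - hc'
        rw [this, one_mul] at hc'
        exact hzα hc'
      · have h3 : (algebraMap F K (c - c')) * α z = algebraMap F K (1 - c) := by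
          rw [map_sub, map_sub, map_one]
          linear_combination hc - hc'
        have h4 : α z = algebraMap F K ((1 - c) / (c - c')) := by
          rw [map_div₀, eq_div_iff (by simpa [sub_eq_zero] using fun e => hcc ((algebraMap F K).injective e)),
            mul_comm]
          exact h3
        exact hz (((1 - c) / (c - c')) ^ 2) (by rw [← hαc, ← h4, hαα])
    by_cases ht : tr (α ξ) = 1
    · refine ⟨algebraMap F K w * ξ, ?_, fun c hc => hξF (c / w) ?_, ?_⟩
      · rw [hαmul, hαc, mul_mul_mul_comm, hξ, mul_one, ← map_mul]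
        have : w ^ 3 = 1 := by linear_combination (w + 1) * hw + w * h2
        rw [show w * w ^ 2 = 1 by rw [← this]; ring, map_one]
      · rw [map_div₀, hc, mul_div_cancel_left₀]
        exact fun e => hw0 ((algebraMap F K).injective (e.trans (map_zero _).symm))
      · rw [hαmul, hαc, ← Algebra.smul_def, map_smul, ht, smul_eq_mul, mul_one]
        exact fun e => hw0 (by linear_combination e - hw)
    · exact ⟨ξ, hξ, hξF, ht⟩
  set b := L ![1, ζ] with hb
  have hbb : h b b = 0 := by
    rw [hb, hh_L]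
    simp only [Matrix.cons_val_zero, Matrix.cons_val_one, Matrix.cons_val_fin_one, hα1, mul_one, hζ]
    rw [show (1 : K) + 1 = 0 by linear_combination h2K, map_zero]
  obtain ⟨T', hT', hT'v, -⟩ := exists_transvection hF (b := b) (show hermForm 6 F 2 b b = 0 from hbb) (c := 1)
    (by linear_combination h2)
  refine AschSU6Lines44.not_maximal_of_set hH S hHS hT hTS hTH hT' huS fun hbad => ?_
  rw [hT'v, one_mul, ← hh] at hbad
  set t := h u b with ht
  have ht1 : t = 1 + tr (α ζ) := by
    rw [ht, hu, hb, hh_L]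
    simp [hα1, htr1]
  have ht0 : t ≠ 0 := fun e => hζt (by linear_combination (ht1.symm.trans e) - h2)
  set x := ![1 + algebraMap F K t, 1 + algebraMap F K t * ζ] with hx
  have hxe : u + t • b = L x := by
    rw [hu, hb, ← map_smul, ← map_add]
    congr 1
    funext i
    fin_cases i <;> simp [hx, Algebra.smul_def]
  rw [hxe] at hbad
  -- proportionality of the two functionals
  obtain ⟨c, hc⟩ : ∃ c : F, ∀ y, B y (L x) = c * h y (L x) := by
    by_cases hx0 : ∀ y, h y (L x) = 0
    · exact ⟨0, fun y => by rw [hbad y (hx0 y), zero_mul]⟩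
    push Not at hx0
    obtain ⟨y₀, hy₀⟩ := hx0
    refine ⟨B y₀ (L x) / h y₀ (L x), fun y => ?_⟩
    have h1 := hbad (y + (-(h y (L x) / h y₀ (L x))) • y₀)
      (by rw [haddl, hsl, neg_mul, div_mul_cancel₀ _ hy₀, add_neg_cancel])
    rw [hB_add, hB_smul] at h1
    field_simp at h1 ⊢
    linear_combination h1
  have heq : ∀ p : Fin 2 → K, tr (p 0 * x 1 + p 1 * x 0) = c * tr (p 0 * α (x 0) + p 1 * α (x 1)) := fun p => by
    rw [← hB, ← hh_L]; exact hc _
  have hx1 : x 1 = algebraMap F K c * α (x 0) := hkext fun k => by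
    have := heq ![k, 0]
    simp only [Matrix.cons_val_zero, Matrix.cons_val_one, Matrix.cons_val_fin_one, zero_mul, add_zero] at this
    rw [this, mul_left_comm, ← Algebra.smul_def, map_smul, smul_eq_mul]
  have hx0 : x 0 = algebraMap F K (1 + t) := by simp [hx]
  rw [hx0, hαc, ← map_mul] at hx1
  simp only [hx, Matrix.cons_val_one, Matrix.cons_val_fin_one] at hx1
  refine hζF ((c * (1 + t) ^ 2 - 1) / t) ?_
  rw [map_div₀, map_sub, map_one, ← hx1, add_sub_cancel_left, mul_div_cancel_left₀]
  exact fun e => ht0 ((algebraMap F K).injective (e.trans (map_zero _).symm))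

end Cfsg.Agent.AschSU6Field44
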