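/-
Dimension case lists: over four elements the stabiliser of a frame of six lines in SU_6 is not maximal.
-/
import Cfsg.Agent.Lib.AschSU6Lines44

set_option autoImplicit false
set_option linter.unusedSectionVars false

namespace Cfsg.Agent.AschSU6Lines44

open scoped Matrix
open Cfsg Cfsg.Geo Cfsg.Agent.AschPrimeBasic Cfsg.Agent.AschPrimeUnitaryProper Cfsg.Agent.AschPrimeSU52

variable {F : Type*} [Field F] [Fintype F]

/-- over four elements the stabiliser of six orthogonal lines is not maximal in SU_6 -/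
theorem lines_not_maximal (hF : Fintype.card F = 2 ^ 2) {H : Subgroup (GL (Fin 6) F)}
    (hH : IsMaximalIn (Cfsg.GU 6 F 2 ⊓ specialLinear (Fin 6) F) H) {D : Fin 6 → Submodule F (Fin 6 → F)}
    (hD : IsNondegenerateMDecomposition (hermForm 6 F 2) 1 D)
    (hH' : H = decompositionStabilizer D ⊓ (Cfsg.GU 6 F 2 ⊓ specialLinear (Fin 6) F)) : False := by
  classical
  have h2 := char_two hF
  set f := hermForm 6 F 2 with hf
  -- orthonormal vectors spanning the lines
  have hex : ∀ i, ∃ v ∈ D i, f v v = 1 ∧ ∀ x ∈ D i, ∃ c : F, x = c • v := by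
    intro i
    obtain ⟨v, hv, hv0⟩ := (Submodule.ne_bot_iff _).1 (show D i ≠ ⊥ from fun h => by
      have := hD.decomp.finrank_eq i
      rw [h, finrank_bot] at this
      omega)
    have hsp : ∀ x ∈ D i, ∃ c : F, x = c • v := fun x hx => by
      obtain ⟨c, hc⟩ := (finrank_eq_one_iff_of_nonzero' (⟨v, hv⟩ : D i)
        (fun h => hv0 (congrArg Subtype.val h))).1 (hD.decomp.finrank_eq i) ⟨x, hx⟩
      exact ⟨c, (congrArg Subtype.val hc).symm⟩
    refine ⟨v, hv, ?_, hsp⟩
    obtain ⟨-, ⟨x, hx, hxv⟩⟩ := hD.nondegenerate i v hv hv0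
    obtain ⟨c, rfl⟩ := hsp x hx
    have hvv : f v v ≠ 0 := fun h => hxv (by
      simp [hf, OrthUnitaryHerm.herm_smul_left, OrthUnitaryHerm.herm_smul_right, hf ▸ h])
    have h1 := OrthUnitaryHerm.herm_self_pow hF v
    rw [← hf, sq] at h1
    exact mul_left_cancel₀ hvv (by rw [h1, mul_one])
  choose v hv hvv hvsp using hex
  have horth : ∀ i j, i ≠ j → f (v i) (v j) = 0 := fun i j h => hD.orthogonal i j h _ (hv i) _ (hv j)
  let M : Matrix (Fin 6) (Fin 6) F := Matrix.of fun a i => v i a
  have hMv : ∀ i, M *ᵥ Pi.single i 1 = v i := fun i => by rw [Matrix.mulVec_single_one]; rfl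
  have hgram : Mᵀ * M.map (fun x => x ^ 2) = 1 := by
    ext i j
    have h1 : (Mᵀ * M.map (fun x => x ^ 2)) i j = f (v i) (v j) := by
      simp [Matrix.mul_apply, M, hf, hermForm]
    rw [h1, Matrix.one_apply]
    split_ifs with h
    · subst h; exact hvv i
    · exact horth i j h
  have hdet : M.det ≠ 0 := fun h => by
    have := congrArg Matrix.det hgram
    rw [Matrix.det_mul, Matrix.det_transpose, h, zero_mul, Matrix.det_one] at this
    exact zero_ne_one this
  let B : GL (Fin 6) F := Matrix.GeneralLinearGroup.mkOfDetNeZero M hdet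
  -- coordinates
  let cd : (Fin 6 → F) → Fin 6 → F := fun x i => f x (v i)
  have hval : ∀ (a : Fin 6 → F) k, f (∑ i, a i • v i) (v k) = a k := by
    intro a k
    let L : (Fin 6 → F) →ₗ[F] F :=
      { toFun := fun z => f z (v k)
        map_add' := fun x y => OrthUnitaryHerm.herm_add_left x y _
        map_smul' := fun c x => OrthUnitaryHerm.herm_smul_left c x _ }
    show L (∑ i, a i • v i) = _
    rw [map_sum, Finset.sum_eq_single k (fun b _ hb => by
      rw [map_smul]; simp [L, horth b k hb]) (by simp), map_smul]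
    simp [L, hvv]
  have hexp : ∀ x : Fin 6 → F, x = ∑ i, cd x i • v i := by
    intro x
    obtain ⟨a, rfl⟩ : ∃ a : Fin 6 → F, ∑ i, a i • v i = x := by
      refine ⟨((B⁻¹ : GL (Fin 6) F) : Matrix (Fin 6) (Fin 6) F) *ᵥ x, ?_⟩
      set y := ((B⁻¹ : GL (Fin 6) F) : Matrix (Fin 6) (Fin 6) F) *ᵥ x with hy
      have h1 : (B : Matrix (Fin 6) (Fin 6) F) *ᵥ y = x := mulVec_inv_mulVec B x
      rw [← h1]
      show _ = M *ᵥ y
      funext a
      simp [Matrix.mulVec, dotProduct, M, mul_comm]
    simp only [cd, hval]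
  let S : Set (Fin 6 → F) := {x | Good (cd x)}
  have hdec : ∀ g ∈ H, ∃ σ : Equiv.Perm (Fin 6), ∀ i, (D i).map (Matrix.toLin' (g : Matrix (Fin 6) (Fin 6) F)) = D (σ i) :=
    fun g hg => (hH'.le hg).1
  have hHS : ∀ g ∈ H, ∀ x ∈ S, (g : Matrix (Fin 6) (Fin 6) F) *ᵥ x ∈ S := by
    intro g hg x hx
    obtain ⟨σ, hσ⟩ := hdec g hg
    have himg : ∀ i, ∃ d : F, (g : Matrix (Fin 6) (Fin 6) F) *ᵥ v i = d • v (σ i) := fun i =>
      hvsp (σ i) _ (by rw [← hσ i]; exact ⟨v i, hv i, Matrix.toLin'_apply _ _⟩)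
    choose d hd using himg
    have hd0 : ∀ i, d i ≠ 0 := fun i h => by
      have := hd i
      rw [h, zero_smul] at this
      have h1 := hvv i
      rw [show v i = 0 from mulVec_injective' g (by simpa using this)] at h1
      simp [hf, hermForm] at h1
    -- the monomial matrix
    have hgB : (g : Matrix (Fin 6) (Fin 6) F) * M =
        M * OrthUnitaryHerm.monMat σ.symm d := by
      refine Matrix.toLin'.injective ((Pi.basisFun F (Fin 6)).ext fun i => ?_)
      simp only [Pi.basisFun_apply, Matrix.toLin'_apply, ← Matrix.mulVec_mulVec, hMv, hd]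
      rw [← hMv (σ i), ← Matrix.mulVec_smul]
      congr 1
      funext k
      rw [OrthUnitaryHerm.monMat_mulVec]
      by_cases hk : k = σ i
      · subst hk; simp
      · have : σ.symm k ≠ i := fun h => hk (by rw [← h, Equiv.apply_symm_apply])
        simp [hk, this]
    have hprod : ∏ k, d k = 1 := by
      have h1 := congrArg Matrix.det hgB
      rw [Matrix.det_mul, Matrix.det_mul, (mem_sl_iff g).1 (hH.1.le hg).2, one_mul, OrthUnitaryHerm.det_monMat] at h1
      have h3 : ((Equiv.Perm.sign σ.symm : ℤ) : F) = 1 := by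
        rcases Int.units_eq_one_or (Equiv.Perm.sign σ.symm) with h | h <;> rw [h] <;> simp
        linear_combination (-1 : F) * h2
      rw [h3, one_mul] at h1
      exact (mul_right_inj' hdet).1 (by rw [mul_one]; exact h1.symm)
    have hcd : cd ((g : Matrix (Fin 6) (Fin 6) F) *ᵥ x) = fun k => d (σ.symm k) * cd x (σ.symm k) := by
      funext k
      conv_lhs => rw [hexp x]
      simp only [Matrix.mulVec_sum, Matrix.mulVec_smul, hd, smul_smul]
      show f (∑ i, (cd x i * d i) • v (σ i)) (v k) = _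
      rw [← Equiv.sum_comp σ.symm]
      simp only [Equiv.apply_symm_apply]
      rw [hval (fun i => cd x (σ.symm i) * d (σ.symm i)) k, mul_comm]
    show Good (cd _)
    rw [hcd]
    rcases (show Good (cd x) from hx) with h | ⟨h, hp⟩
    · left
      rw [← h]
      refine Finset.card_equiv σ.symm fun k => ?_
      simp [hd0]
    · refine Or.inr ⟨fun k => mul_ne_zero (hd0 _) (h _), ?_⟩
      rw [Finset.prod_mul_distrib, Equiv.prod_comp σ.symm d, Equiv.prod_comp σ.symm (cd x), hprod, hp, one_mul]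
  -- the reflection in the sum of the frame
  have hadd : ∀ x y z, f x (y + z) = f x y + f x z := fun x y z => OrthUnitaryHerm.herm_add_right hF y z x
  have hsumr : ∀ (x : Fin 6 → F) (a : Fin 6 → F), f x (∑ i, a i • v i) = ∑ i, a i ^ 2 * cd x i := by
    intro x a
    simp only [hf, hermForm, cd, Finset.sum_apply, Pi.smul_apply, smul_eq_mul]
    simp only [OrthUnitaryHerm.sum_pow_q hF, Finset.mul_sum, mul_pow]
    rw [Finset.sum_comm]
    exact Finset.sum_congr rfl fun i _ => Finset.sum_congr rfl fun j _ => by ring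
  have transv : ∀ a : Fin 6 → F, (∑ i, a i ^ 2 * a i) = 0 → ∃ T ∈ Cfsg.GU 6 F 2 ⊓ specialLinear (Fin 6) F,
      ∀ x, cd ((T : Matrix (Fin 6) (Fin 6) F) *ᵥ x) = fun k => cd x k + (∑ i, a i ^ 2 * cd x i) * a k := by
    intro a ha
    have hb : hermForm 6 F 2 (∑ i, a i • v i) (∑ i, a i • v i) = 0 := by
      rw [← hf, hsumr]
      simp only [cd, hval]
      exact ha
    obtain ⟨T, hT, hTv, -⟩ := exists_transvection hF hb (c := 1) (by linear_combination h2)
    refine ⟨T, hT, fun x => ?_⟩
    funext k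
    show f _ _ = _
    rw [hTv, one_mul, hf, OrthUnitaryHerm.herm_add_left, OrthUnitaryHerm.herm_smul_left, ← hf, hsumr, hval]
  obtain ⟨T, hT, hTc⟩ := transv (fun _ => 1) (by simp; linear_combination 3 * h2)
  obtain ⟨T', hT', hT'c⟩ := transv ![1, 1, 1, 1, 0, 0] (by simp [Fin.sum_univ_six]; linear_combination 2 * h2)
  have hcdv : ∀ j, cd (v j) = fun k => if k = j then 1 else 0 := fun j => funext fun k => by
    by_cases hk : k = j
    · subst hk; simp [cd, hvv]
    · simp [cd, hk, horth j k (Ne.symm hk)]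
  refine not_maximal_of_set hH S hHS hT (fun x hx => ?_) (fun hTH => ?_) hT' (z := v 0 + v 4) ?_ ?_
  · show Good (cd _)
    rw [hTc]
    simpa using good_shift hF (a := cd x) hx
  · obtain ⟨σ, hσ⟩ := hdec T hTH
    obtain ⟨d, hd⟩ := hvsp (σ 0) ((T : Matrix (Fin 6) (Fin 6) F) *ᵥ v 0)
      (by rw [← hσ 0]; exact ⟨v 0, hv 0, Matrix.toLin'_apply _ _⟩)
    have h1 := congrArg cd hd
    rw [hTc, hcdv] at h1
    have h3 : ∀ k, k ≠ σ 0 → k = 0 := fun k hk => by
      by_contra hk0
      have := congrFun h1 k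
      have h5 : cd (d • v (σ 0)) k = 0 := by
        show f (d • v (σ 0)) (v k) = 0
        rw [hf, OrthUnitaryHerm.herm_smul_left, ← hf, horth (σ 0) k (Ne.symm hk), mul_zero]
      rw [h5] at this
      simp [hk0] at this
    rcases eq_or_ne (σ 0) 1 with h | h
    · exact absurd (h3 2 (by rw [h]; decide)) (by decide)
    · exact absurd (h3 1 h.symm) (by decide)
  · show Good (cd _)
    left
    have : cd (v 0 + v 4) = ![1, 0, 0, 0, 1, 0] := by
      funext k
      show f (v 0 + v 4) (v k) = _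
      rw [hf, OrthUnitaryHerm.herm_add_left, ← hf]
      have h0 := congrFun (hcdv 0) k
      have h4 := congrFun (hcdv 4) k
      simp only [cd] at h0 h4
      rw [h0, h4]
      fin_cases k <;> simp
    rw [this, show (Finset.univ.filter fun i => (![1, 0, 0, 0, 1, 0] : Fin 6 → F) i ≠ 0) = {0, 4} from ?_]
    · rfl
    · ext k; fin_cases k <;> simp
  · intro hbad
    have hc : cd ((T' : Matrix (Fin 6) (Fin 6) F) *ᵥ (v 0 + v 4)) = ![0, 1, 1, 1, 1, 0] := by
      rw [hT'c]
      funext k
      have : ∀ j, cd (v 0 + v 4) j = (if j = 0 then 1 else 0) + (if j = 4 then 1 else 0) := fun j => by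
        show f (v 0 + v 4) (v j) = _
        rw [hf, OrthUnitaryHerm.herm_add_left, ← hf]
        exact congrArg₂ (· + ·) (congrFun (hcdv 0) j) (congrFun (hcdv 4) j)
      simp only [this]
      fin_cases k <;> simp [Fin.sum_univ_six] <;> linear_combination h2
    rw [show (T' : Matrix (Fin 6) (Fin 6) F) *ᵥ (v 0 + v 4) ∈ S ↔ Good _ from Iff.rfl, hc] at hbad
    rcases hbad with h | ⟨h, -⟩
    · rw [show (Finset.univ.filter fun i => (![0, 1, 1, 1, 1, 0] : Fin 6 → F) i ≠ 0) = {1, 2, 3, 4} from
        by ext k; fin_cases k <;> simp] at h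
      exact absurd h (by decide)
    · exact h 0 rfl

end Cfsg.Agent.AschSU6Lines44
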