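import Mathlib

/-!
Automorphisms of cyclic and quaternion 2-groups of order prime to two and three, and small facts on
perfect groups.
-/

set_option autoImplicit false

namespace Cfsg.Agent.FpfAut

theorem eq_one_of_cyclic {T : Type*} [Group T] [Finite T] [IsCyclic T] (hT : IsPGroup 2 T)
    (α : MulAut T) {k : ℕ} (hk : α ^ k = 1) (hodd : Odd k) : α = 1 := by
  obtain ⟨r, hr⟩ := hT.exists_card_eq
  have hd : orderOf α ∣ Nat.card (MulAut T) := orderOf_dvd_natCard α
  rw [IsCyclic.card_mulAut T, hr] at hd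
  have hd2 : ∃ s, orderOf α ∣ 2 ^ s := by
    rcases Nat.eq_zero_or_pos r with h0 | h0
    · exact ⟨0, by rw [h0] at hd; simpa using hd⟩
    · rw [Nat.totient_prime_pow Nat.prime_two h0] at hd
      exact ⟨r - 1, by simpa using hd⟩
  obtain ⟨s, hs⟩ := hd2
  refine orderOf_eq_one_iff.1 (Nat.eq_one_of_dvd_coprimes ?_ (orderOf_dvd_of_pow_eq_one hk) hs)
  exact Nat.Coprime.pow_right _ (Nat.coprime_two_right.2 hodd)

open QuaternionGroup

/-- The endomorphism with prescribed images of the two generators. -/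
def q8map (p q : QuaternionGroup 2) : QuaternionGroup 2 → QuaternionGroup 2
  | a i => p ^ i.val
  | xa i => q * p ^ i.val

theorem q8map_twelve : ∀ p q : QuaternionGroup 2, p * p * p * p = 1 → p * p ≠ 1 → q * q = p * p →
    q * p ≠ p * q →
    (q8map p q)^[12] (a 1) = a 1 ∧ (q8map p q)^[12] (xa 0) = xa 0 := by
  decide +kernel

theorem q8_aut_twelve (α : MulAut (QuaternionGroup 2)) : α ^ 12 = 1 := by
  have hα : ∀ g, α g = q8map (α (a 1)) (α (xa 0)) g := by
    rintro (i | i)
    · show α (a i) = α (a 1) ^ i.val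
      rw [← map_pow, a_one_pow, ZMod.natCast_zmod_val]
    · show α (xa i) = α (xa 0) * α (a 1) ^ i.val
      rw [← map_pow, a_one_pow, ZMod.natCast_zmod_val, ← map_mul, xa_mul_a, zero_add]
  have hfun : (α : QuaternionGroup 2 → QuaternionGroup 2) = q8map (α (a 1)) (α (xa 0)) := funext hα
  obtain ⟨h1, h2⟩ := q8map_twelve (α (a 1)) (α (xa 0))
    (by rw [← map_mul, ← map_mul, ← map_mul]; exact (congrArg α (by decide)).trans (map_one α))
    (by rw [← map_mul]; exact fun e => absurd (α.injective (e.trans (map_one α).symm)) (by decide))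
    (by rw [← map_mul, ← map_mul]; congr 1)
    (by rw [← map_mul, ← map_mul]; exact fun e => absurd (α.injective e) (by decide))
  rw [← hfun] at h1 h2
  have hit : ∀ (j : ℕ) g, (α ^ j) g = (⇑α)^[j] g := by
    intro j
    induction j with
    | zero => intro g; rfl
    | succ j ih => intro g; rw [pow_succ', MulAut.mul_apply, ih, Function.iterate_succ_apply']
  rw [← hit] at h1 h2
  ext g
  rcases g with i | i
  · rw [← ZMod.natCast_zmod_val i, ← a_one_pow, map_pow, h1, MulAut.one_apply]
  · rw [show xa i = xa 0 * (a 1) ^ i.val by rw [a_one_pow, ZMod.natCast_zmod_val, xa_mul_a, zero_add],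
      map_mul, map_pow, h1, h2, MulAut.one_apply]

theorem eq_one_of_quaternion_large (n m : ℕ) (hm : m = 2 ^ (n + 2)) (α : MulAut (QuaternionGroup m))
    {k : ℕ} (hk : α ^ k = 1) (hodd : Odd k) : α = 1 := by
  have hm4 : 4 ≤ m := by rw [hm, pow_add]; have := Nat.one_le_two_pow (n := n); omega
  haveI : NeZero m := ⟨by omega⟩
  haveI : NeZero (2 * m) := ⟨by omega⟩
  obtain ⟨j, hj⟩ : ∃ j, α (a 1) = a j := by
    rcases he : α (a 1) with j | j
    · exact ⟨j, rfl⟩
    · exfalso
      have ho := α.orderOf_eq (a 1 : QuaternionGroup m)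
      rw [he, orderOf_xa, orderOf_a_one] at ho
      omega
  have hai : ∀ i, α (a i) = a (i * j) := by
    intro i
    rw [← ZMod.natCast_zmod_val i, ← a_one_pow, map_pow, hj]
    induction i.val with
    | zero => rw [pow_zero, Nat.cast_zero, zero_mul]; rfl
    | succ t ih => rw [pow_succ, ih, a_mul_a, Nat.cast_succ, add_mul, one_mul]
  have hpow : ∀ s : ℕ, (α ^ s) (a 1) = a (j ^ s) := by
    intro s
    induction s with
    | zero => simp
    | succ s ih => rw [pow_succ', MulAut.mul_apply, ih, hai, pow_succ]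
  have hj1 : j = 1 := by
    have h1 := hpow k
    rw [hk, MulAut.one_apply, a.injEq] at h1
    have hk0 : k ≠ 0 := by rintro rfl; exact (Nat.not_odd_zero) hodd
    obtain ⟨u, hu⟩ : IsUnit j := IsUnit.of_pow_eq_one h1.symm hk0
    have hu1 : u ^ k = 1 := Units.ext (by rw [Units.val_pow_eq_pow_val, hu, ← h1, Units.val_one])
    have hd := orderOf_dvd_natCard u
    have hh : (2 * m).totient = 2 ^ (n + 3 - 1) := by
      rw [show 2 * m = 2 ^ (n + 3) by rw [hm]; ring, Nat.totient_prime_pow Nat.prime_two (by omega)]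
      norm_num
    rw [Nat.card_eq_fintype_card, ZMod.card_units_eq_totient, hh] at hd
    have : u = 1 := orderOf_eq_one_iff.1 (Nat.eq_one_of_dvd_coprimes
      (Nat.Coprime.pow_right (n + 3 - 1) (Nat.coprime_two_right.2 hodd))
      (orderOf_dvd_of_pow_eq_one hu1) hd)
    rw [← hu, this, Units.val_one]
  rw [hj1] at hai
  simp only [mul_one] at hai
  obtain ⟨t, ht⟩ : ∃ t, α (xa 0) = xa t := by
    rcases he : α (xa 0) with t | t
    · exfalso
      have : α (xa 0) = α (a t) := by rw [he, hai]
      simpa using α.injective this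
    · exact ⟨t, rfl⟩
  have hxa : ∀ i, α (xa i) = xa (t + i) := by
    intro i
    rw [show xa i = xa 0 * a i by rw [xa_mul_a, zero_add], map_mul, ht, hai, xa_mul_a]
  have hpow' : ∀ s : ℕ, (α ^ s) (xa 0) = xa ((s : ZMod (2 * m)) * t) := by
    intro s
    induction s with
    | zero => simp
    | succ s ih => rw [pow_succ', MulAut.mul_apply, ih, hxa, Nat.cast_succ, add_mul, one_mul, add_comm]
  have ht0 : t = 0 := by
    have h1 := hpow' k
    rw [hk, MulAut.one_apply, xa.injEq] at h1
    have hu : IsUnit ((k : ℕ) : ZMod (2 * m)) := by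
      rw [ZMod.isUnit_iff_coprime, show 2 * m = 2 ^ (n + 3) by rw [hm]; ring]
      exact Nat.Coprime.pow_right _ (Nat.coprime_two_right.2 hodd)
    exact hu.mul_right_eq_zero.1 h1.symm
  ext g
  rcases g with i | i
  · rw [hai, MulAut.one_apply]
  · rw [hxa, ht0, zero_add, MulAut.one_apply]

theorem eq_one_of_quaternion (n : ℕ) (α : MulAut (QuaternionGroup (2 ^ n))) {k : ℕ} (hk : α ^ k = 1)
    (h6 : Nat.Coprime k 6) : α = 1 := by
  have hodd : Odd k := Nat.coprime_two_right.1 (h6.coprime_dvd_right (by norm_num))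
  rcases n with _ | _ | n
  · haveI : IsCyclic (QuaternionGroup (2 ^ 0)) := quaternionGroup_one_isCyclic
    refine eq_one_of_cyclic (IsPGroup.of_card (n := 2) ?_) α hk hodd
    rw [Nat.card_eq_fintype_card, QuaternionGroup.card]; norm_num
  · have h12 : α ^ 12 = 1 := q8_aut_twelve α
    have hc : Nat.Coprime k 12 := by
      have := Nat.Coprime.mul_right (h6.coprime_dvd_right (show 2 ∣ 6 by norm_num)) h6
      exact this
    exact orderOf_eq_one_iff.1
      (Nat.eq_one_of_dvd_coprimes hc (orderOf_dvd_of_pow_eq_one hk) (orderOf_dvd_of_pow_eq_one h12))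
  exact eq_one_of_quaternion_large n _ rfl α hk hodd

theorem eq_one_of_two_group {T : Type*} [Group T] [Finite T] (hT : IsPGroup 2 T)
    (hcq : IsCyclic T ∨ ∃ n : ℕ, Nonempty (T ≃* QuaternionGroup (2 ^ n)))
    (α : MulAut T) {k : ℕ} (hk : α ^ k = 1) (h6 : Nat.Coprime k 6) : α = 1 := by
  rcases hcq with hc | ⟨n, ⟨e⟩⟩
  · exact eq_one_of_cyclic hT α hk (Nat.coprime_two_right.1 (h6.coprime_dvd_right (by norm_num)))
  · have h := eq_one_of_quaternion n (MulAut.congr e α) (by rw [← map_pow, hk, map_one]) h6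
    exact (MulAut.congr e).injective (by rw [h, map_one])

/-- A perfect group has no non-trivial homomorphism to a solvable group. -/
theorem perfect_hom_eq_one {G H : Type*} [Group G] [Group H] [Group.IsSolvable H]
    (hperf : commutator G = ⊤) (f : G →* H) : f = 1 := by
  have hr : ⁅f.range, f.range⁆ = f.range := by
    rw [MonoidHom.range_eq_map, ← Subgroup.map_commutator, ← commutator_def, hperf]
  have hb : f.range = ⊥ := by
    by_contra hne
    exact (Group.IsSolvable.commutator_lt_of_ne_bot hne).ne hr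
  ext g
  have : f g ∈ f.range := ⟨g, rfl⟩
  rw [hb, Subgroup.mem_bot] at this
  exact this

/-- A non-solvable finite subgroup contains a non-trivial perfect subgroup. -/
theorem exists_perfect_le {G : Type*} [Group G] [Finite G] (C : Subgroup G)
    (h : ¬ Group.IsSolvable C) : ∃ D ≤ C, D ≠ ⊥ ∧ commutator D = ⊤ := by
  rw [Group.isSolvable_iff_commutator_lt] at h
  push Not at h
  obtain ⟨D, hD, hnlt⟩ := h
  have heq : ⁅D, D⁆ = D := (eq_or_lt_of_le D.commutator_le_self).resolve_right hnlt
  refine ⟨D.map C.subtype, Subgroup.map_subtype_le D,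
    fun e => hD ((Subgroup.map_eq_bot_iff_of_injective _ C.subtype_injective).1 e), ?_⟩
  apply Subgroup.map_injective (D.map C.subtype).subtype_injective
  rw [Subgroup.map_subtype_commutator, ← Subgroup.map_commutator, heq, ← MonoidHom.range_eq_map,
    Subgroup.range_subtype]

end Cfsg.Agent.FpfAut
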