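import Mathlib
import Cfsg.Agent.Lib.PGroupsCritical
import Cfsg.Agent.Lib.FpfAut
import Cfsg.Agent.Lib.AnisoSolvable57

/-!
A perfect group of automorphisms of a 2-group with pairwise commuting involutions that fixes every
involution is trivial.
-/

set_option autoImplicit false
set_option linter.style.haveILetI false
set_option linter.unusedSectionVars false

namespace Cfsg.Agent.AutFixInvolutions57

open scoped commutatorElement

universe u v

variable {K : Type v} [Group K] [Finite K]

/-- A perfect group fixing `N` pointwise and acting trivially modulo `N` acts trivially. -/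
theorem trivial_of_stab (hK : commutator K = ⊤) {S : Type u} [Group S] (φ : K →* MulAut S)
    (N : Subgroup S) [Group.IsSolvable N] (hN : ∀ k, ∀ n ∈ N, φ k n = n)
    (hd : ∀ k s, s⁻¹ * φ k s ∈ N) : φ = 1 := by
  refine MonoidHom.ext fun k => MulEquiv.ext fun s => ?_
  let f : K →* N :=
    { toFun := fun l => ⟨s⁻¹ * φ l s, hd l s⟩
      map_one' := Subtype.ext (by simp)
      map_mul' := fun a b => Subtype.ext (by
        show s⁻¹ * φ (a * b) s = s⁻¹ * φ a s * (s⁻¹ * φ b s)
        have h1 : φ a (s * (s⁻¹ * φ b s)) = φ a s * (s⁻¹ * φ b s) := by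
          rw [map_mul, hN a _ (hd b s)]
        rw [mul_inv_cancel_left] at h1
        rw [map_mul, MulAut.mul_apply, h1, mul_assoc]) }
  have h1 : f k = 1 := by rw [FpfAut.perfect_hom_eq_one hK f]; rfl
  have h2 : s⁻¹ * φ k s = 1 := congrArg Subtype.val h1
  exact (eq_of_inv_mul_eq_one h2).symm

/-- A perfect group fixing pointwise a normal subgroup containing its centraliser acts trivially. -/
theorem trivial_of_centralizer (hK : commutator K = ⊤) {S : Type u} [Group S]
    (φ : K →* MulAut S) (N : Subgroup S) [N.Normal] [Group.IsSolvable N]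
    (hN : ∀ k, ∀ n ∈ N, φ k n = n) (hcent : Subgroup.centralizer (N : Set S) ≤ N) : φ = 1 := by
  refine trivial_of_stab hK φ N hN fun k s => hcent ?_
  rw [Subgroup.mem_centralizer_iff]
  intro n hn
  have h1 : φ k (s * n * s⁻¹) = s * n * s⁻¹ := hN k _ (Subgroup.Normal.conj_mem ‹N.Normal› n hn s)
  rw [map_mul, map_mul, map_inv, hN k n hn] at h1
  calc n * (s⁻¹ * φ k s) = s⁻¹ * (s * n * s⁻¹) * φ k s := by group
    _ = s⁻¹ * (φ k s * n * (φ k s)⁻¹) * φ k s := by rw [h1]
    _ = s⁻¹ * φ k s * n := by group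

/-- Restriction of an action to an invariant subgroup. -/
def restrictHom {S : Type u} [Group S] (φ : K →* MulAut S) (T : Subgroup S)
    (hT : ∀ k, ∀ x ∈ T, φ k x ∈ T) : K →* MulAut T where
  toFun k :=
    { toFun := fun x => ⟨φ k x, hT k x x.2⟩
      invFun := fun x => ⟨φ k⁻¹ x, hT k⁻¹ x x.2⟩
      left_inv := fun x => Subtype.ext (by
        show φ k⁻¹ (φ k (x : S)) = x
        rw [← MulAut.mul_apply, ← map_mul, inv_mul_cancel, map_one, MulAut.one_apply])
      right_inv := fun x => Subtype.ext (by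
        show φ k (φ k⁻¹ (x : S)) = x
        rw [← MulAut.mul_apply, ← map_mul, mul_inv_cancel, map_one, MulAut.one_apply])
      map_mul' := fun x y => Subtype.ext (map_mul (φ k) (x : S) y) }
  map_one' := MulEquiv.ext fun x => Subtype.ext (by
    show φ 1 (x : S) = x
    rw [map_one]; rfl)
  map_mul' a b := MulEquiv.ext fun x => Subtype.ext (by
    show φ (a * b) (x : S) = φ a (φ b x)
    rw [map_mul]; rfl)

section ClassTwo

variable {C : Type u} [Group C]

theorem commutator_sq (hsq : ∀ x : C, x * x ∈ Subgroup.center C)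
    (hcl : ∀ x y : C, ⁅x, y⁆ ∈ Subgroup.center C) (x y : C) : ⁅x, y⁆ * ⁅x, y⁆ = 1 := by
  have hc := Subgroup.mem_center_iff.1 (hcl x y)
  have h1 : ⁅x, y⁆ * y * (⁅x, y⁆ * y) = x * (y * y) * x⁻¹ := by
    simp only [commutatorElement_def]; group
  rw [Subgroup.mem_center_iff.1 (hsq y) x, mul_inv_cancel_right] at h1
  calc ⁅x, y⁆ * ⁅x, y⁆ = ⁅x, y⁆ * (⁅x, y⁆ * y) * y * (y * y)⁻¹ := by group
    _ = ⁅x, y⁆ * (y * ⁅x, y⁆) * y * (y * y)⁻¹ := by rw [hc y]
    _ = (⁅x, y⁆ * y * (⁅x, y⁆ * y)) * (y * y)⁻¹ := by group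
    _ = 1 := by rw [h1, mul_inv_cancel]

theorem sq_mul (hcl : ∀ x y : C, ⁅x, y⁆ ∈ Subgroup.center C) (x y : C) :
    x * y * (x * y) = ⁅y, x⁆ * (x * x) * (y * y) := by
  have hc := Subgroup.mem_center_iff.1 (hcl y x)
  calc x * y * (x * y) = x * ⁅y, x⁆ * (x * y * y) := by simp only [commutatorElement_def]; group
    _ = ⁅y, x⁆ * x * (x * y * y) := by rw [hc x]
    _ = _ := by group

theorem commutator_mul_right (hcl : ∀ x y : C, ⁅x, y⁆ ∈ Subgroup.center C) (x y z : C) :
    ⁅x, y * z⁆ = ⁅x, y⁆ * ⁅x, z⁆ := by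
  have hc := Subgroup.mem_center_iff.1 (hcl x z)
  calc ⁅x, y * z⁆ = ⁅x, y⁆ * (y * ⁅x, z⁆) * y⁻¹ := by simp only [commutatorElement_def]; group
    _ = ⁅x, y⁆ * (⁅x, z⁆ * y) * y⁻¹ := by rw [hc y]
    _ = _ := by group

theorem quad_mul (hsq : ∀ x : C, x * x ∈ Subgroup.center C)
    (hcl : ∀ x y : C, ⁅x, y⁆ ∈ Subgroup.center C) {x y : C} (hx : x * x * (x * x) = 1)
    (hy : y * y * (y * y) = 1) : x * y * (x * y) * (x * y * (x * y)) = 1 := by
  rw [sq_mul hcl x y]
  have c1 := Subgroup.mem_center_iff.1 (hcl y x)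
  have c2 := Subgroup.mem_center_iff.1 (hsq x)
  calc ⁅y, x⁆ * (x * x) * (y * y) * (⁅y, x⁆ * (x * x) * (y * y))
      = ⁅y, x⁆ * (x * x) * ((y * y) * ⁅y, x⁆) * ((x * x) * (y * y)) := by group
    _ = ⁅y, x⁆ * (x * x) * (⁅y, x⁆ * (y * y)) * ((x * x) * (y * y)) := by rw [c1]
    _ = ⁅y, x⁆ * ((x * x) * ⁅y, x⁆) * ((y * y) * (x * x)) * (y * y) := by group
    _ = ⁅y, x⁆ * (⁅y, x⁆ * (x * x)) * ((x * x) * (y * y)) * (y * y) := by rw [c1, c2 (y * y)]
    _ = (⁅y, x⁆ * ⁅y, x⁆) * ((x * x) * (x * x)) * ((y * y) * (y * y)) := by group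
    _ = 1 := by rw [commutator_sq hsq hcl, hx, hy, one_mul, one_mul]

/-- An automorphism of odd order fixing all elements of order dividing four is trivial. -/
theorem eq_one_of_fix_four [Finite C] (hC : IsPGroup 2 C)
    (hsq : ∀ x : C, x * x ∈ Subgroup.center C)
    (hcl : ∀ x y : C, ⁅x, y⁆ ∈ Subgroup.center C) (b : MulAut C) (hb : Odd (orderOf b))
    (hfix : ∀ x : C, x * x * (x * x) = 1 → b x = x) : b = 1 := by
  have key : ∀ m : ℕ, ∀ c : C, c ^ 2 ^ m = 1 → b c = c := by
    intro m
    induction m with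
    | zero => intro c hc; rw [pow_zero, pow_one] at hc; rw [hc, map_one]
    | succ m ih =>
      intro c hc
      have h2 : b (c * c) = c * c := ih _ (by
        rw [← sq, ← pow_mul, ← pow_succ']; exact hc)
      set d := c⁻¹ * b c with hd
      have hbc : b c = c * d := by rw [hd, mul_inv_cancel_left]
      have h3 : c * d * (c * d) = c * c := by rw [← hbc, ← map_mul, h2]
      rw [sq_mul hcl] at h3
      have hdd : d * d = ⁅d, c⁆⁻¹ := by
        have e := Subgroup.mem_center_iff.1 (hsq c) ⁅d, c⁆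
        calc d * d = (⁅d, c⁆ * (c * c))⁻¹ * (⁅d, c⁆ * (c * c) * (d * d)) := by group
          _ = (⁅d, c⁆ * (c * c))⁻¹ * (c * c) := by rw [h3]
          _ = (c * c)⁻¹ * (⁅d, c⁆⁻¹ * (c * c)) := by group
          _ = (c * c)⁻¹ * ((c * c) * ⁅d, c⁆⁻¹) := by
            rw [(Commute.inv_left e : Commute _ (c * c)).eq]
          _ = ⁅d, c⁆⁻¹ := by group
      have hd4 : d * d * (d * d) = 1 := by
        rw [hdd, ← mul_inv_rev, commutator_sq hsq hcl, inv_one]
      have hbd := hfix d hd4
      have hpow : ∀ j : ℕ, (b ^ j) c = c * d ^ j := by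
        intro j
        induction j with
        | zero => simp
        | succ j ihj =>
          rw [pow_succ', MulAut.mul_apply, ihj, map_mul, map_pow, hbd, hbc, mul_assoc, ← pow_succ']
      have h4 := hpow (orderOf b)
      rw [pow_orderOf_eq_one, MulAut.one_apply] at h4
      have h5 : d ^ orderOf b = 1 := mul_left_cancel (a := c) (by rw [← h4, mul_one])
      have h6 : d ^ 2 ^ 2 = 1 := by
        rw [show (2 : ℕ) ^ 2 = 2 * 2 by norm_num, pow_mul, sq, sq]; exact hd4
      have h7 : d = 1 := orderOf_eq_one_iff.1 (Nat.eq_one_of_dvd_coprimes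
        ((Nat.coprime_two_right.2 hb).pow_right 2)
        (orderOf_dvd_of_pow_eq_one h5) (orderOf_dvd_of_pow_eq_one h6))
      rw [hbc, h7, mul_one]
  refine MulEquiv.ext fun c => ?_
  obtain ⟨m, hm⟩ := hC c
  exact key m c hm

theorem trivial_class_two [Finite C]
    (hFT : ∀ (X : Type u) [Group X] [Finite X], Odd (Nat.card X) → Group.IsSolvable X)
    (hK : commutator K = ⊤) (hC : IsPGroup 2 C)
    (hsq : ∀ x : C, x * x ∈ Subgroup.center C)
    (hcl : ∀ x y : C, ⁅x, y⁆ ∈ Subgroup.center C)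
    (hinv : ∀ x : C, x * x = 1 → x ∈ Subgroup.center C)
    (φ : K →* MulAut C) (hfix : ∀ k x, x * x = 1 → φ k x = x) : φ = 1 := by
  haveI : Fact (Nat.Prime 2) := ⟨Nat.prime_two⟩
  let V : Subgroup C :=
    { carrier := {x | x * x = 1}
      one_mem' := one_mul 1
      mul_mem' := fun {a b} ha hb => by
        show a * b * (a * b) = 1
        have h := Subgroup.mem_center_iff.1 (hinv a ha) b
        calc a * b * (a * b) = a * (b * a) * b := by group
          _ = (a * a) * (b * b) := by rw [h]; group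
          _ = 1 := by rw [show a * a = 1 from ha, show b * b = 1 from hb, one_mul]
      inv_mem' := fun {a} ha => by
        show a⁻¹ * a⁻¹ = 1
        rw [← mul_inv_rev, show a * a = 1 from ha, inv_one] }
  let W : Subgroup C :=
    { carrier := {x | x * x * (x * x) = 1}
      one_mem' := by show (1 : C) * 1 * (1 * 1) = 1; simp
      mul_mem' := fun {a b} ha hb => quad_mul hsq hcl ha hb
      inv_mem' := fun {a} ha => by
        show a⁻¹ * a⁻¹ * (a⁻¹ * a⁻¹) = 1
        rw [← mul_inv_rev, ← mul_inv_rev, show a * a * (a * a) = 1 from ha, inv_one] }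
  let V0 : Subgroup W := V.subgroupOf W
  haveI : V0.Normal := ⟨fun x hx g => by
    have h := Subgroup.mem_center_iff.1 (hinv _ (hx : (x : C) * x = 1)) (g : C)
    have e : g * x * g⁻¹ = x := Subtype.ext (by
      have h' : (g : C) * (x : C) = x * g := h
      show (g : C) * x * (g : C)⁻¹ = x
      rw [h', mul_inv_cancel_right])
    rw [e]; exact hx⟩
  have hcomm : ∀ a b : W, ⁅a, b⁆ ∈ V0 := fun a b => commutator_sq hsq hcl (a : C) b
  letI instW : CommGroup (W ⧸ V0) :=
    { (inferInstance : Group (W ⧸ V0)) with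
      mul_comm := fun a b => by
        obtain ⟨a, rfl⟩ := QuotientGroup.mk'_surjective V0 a
        obtain ⟨b, rfl⟩ := QuotientGroup.mk'_surjective V0 b
        rw [← commutatorElement_eq_one_iff_mul_comm, ← map_commutatorElement]
        exact (QuotientGroup.eq_one_iff _).2 (hcomm a b) }
  letI instV : CommGroup V :=
    { (inferInstance : Group V) with
      mul_comm := fun a b => Subtype.ext (Subgroup.mem_center_iff.1 (hinv _ b.2) a) }
  let q : W → V := fun x => ⟨(x : C) * x, x.2⟩
  let q' : W ⧸ V0 → V := Quotient.lift q fun a b hab => by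
    have hm : a⁻¹ * b ∈ V0 := QuotientGroup.leftRel_apply.1 hab
    have hm' : ((a⁻¹ * b : W) : C) * (a⁻¹ * b : W) = 1 := hm
    have hc := Subgroup.mem_center_iff.1 (hinv _ hm') (a : C)
    refine Subtype.ext ?_
    show (a : C) * a = (b : C) * b
    have e : (b : C) = a * ((a⁻¹ * b : W) : C) := by simp
    rw [e]
    calc (a : C) * a = (a : C) * a * (((a⁻¹ * b : W) : C) * (a⁻¹ * b : W)) := by rw [hm', mul_one]
      _ = (a : C) * ((a : C) * ((a⁻¹ * b : W) : C)) * (a⁻¹ * b : W) := by group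
      _ = (a : C) * (((a⁻¹ * b : W) : C) * a) * (a⁻¹ * b : W) := by rw [hc]
      _ = _ := by group
  have hq' : ∀ x : W, q' (QuotientGroup.mk' V0 x) = q x := fun x => rfl
  let Q : Additive (W ⧸ V0) → Additive V := fun x => Additive.ofMul (q' x.toMul)
  let β : W → W → V := fun x y => ⟨⁅(y : C), x⁆, commutator_sq hsq hcl _ _⟩
  have hqm : ∀ x y : W, q (x * y) = β x y * q x * q y := fun x y => Subtype.ext (sq_mul hcl _ _)
  have hVsq : ∀ v : V, v * v = 1 := fun v => Subtype.ext v.2
  have hQ : AnisoSolvable57.IsAnisoQuad Q := by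
    constructor
    · intro x
      obtain ⟨x, rfl⟩ : ∃ y, Additive.ofMul y = x := ⟨x.toMul, rfl⟩
      obtain ⟨x, rfl⟩ := QuotientGroup.mk'_surjective V0 x
      show Additive.ofMul (QuotientGroup.mk' V0 x * QuotientGroup.mk' V0 x) = 0
      rw [← map_mul, show QuotientGroup.mk' V0 (x * x) = 1 from (QuotientGroup.eq_one_iff _).2 x.2]
      rfl
    · intro v
      exact congrArg Additive.ofMul (hVsq v.toMul)
    · intro x hx
      obtain ⟨x, rfl⟩ : ∃ y, Additive.ofMul y = x := ⟨x.toMul, rfl⟩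
      obtain ⟨x, rfl⟩ := QuotientGroup.mk'_surjective V0 x
      have h1 : q x = 1 := congrArg Additive.toMul hx
      have h2 : x ∈ V0 := congrArg Subtype.val h1
      show Additive.ofMul (QuotientGroup.mk' V0 x) = 0
      rw [show QuotientGroup.mk' V0 x = 1 from (QuotientGroup.eq_one_iff _).2 h2]
      rfl
    · intro x y z
      obtain ⟨x, rfl⟩ : ∃ w, Additive.ofMul w = x := ⟨x.toMul, rfl⟩
      obtain ⟨y, rfl⟩ : ∃ w, Additive.ofMul w = y := ⟨y.toMul, rfl⟩
      obtain ⟨z, rfl⟩ : ∃ w, Additive.ofMul w = z := ⟨z.toMul, rfl⟩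
      obtain ⟨x, rfl⟩ := QuotientGroup.mk'_surjective V0 x
      obtain ⟨y, rfl⟩ := QuotientGroup.mk'_surjective V0 y
      obtain ⟨z, rfl⟩ := QuotientGroup.mk'_surjective V0 z
      have hpol : ∀ a b : W, q (a * b) * q a * q b = β a b := fun a b => by
        rw [hqm, mul_assoc (β a b) (q a) (q b), mul_assoc, mul_assoc, mul_assoc,
          mul_left_comm (q b) (q a) (q b), hVsq, mul_one, hVsq, mul_one]
      have hβ : β (x * y) z = β x z * β y z := Subtype.ext (commutator_mul_right hcl _ _ _)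
      have e : q (x * y * z) * q (x * y) * q z =
          q (x * z) * q x * q z * (q (y * z) * q y * q z) := by
        rw [hpol, hpol, hpol, hβ]
      exact congrArg Additive.ofMul e
  have hWinv : ∀ k, ∀ x ∈ W, φ k x ∈ W := fun k x hx => by
    show φ k x * φ k x * (φ k x * φ k x) = 1
    rw [← map_mul, ← map_mul, show x * x * (x * x) = 1 from hx, map_one]
  let ψ := restrictHom φ W hWinv
  have hψV : ∀ k, V0 ≤ V0.comap (ψ k).toMonoidHom := fun k x hx => by
    show φ k (x : C) * φ k (x : C) = 1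
    rw [← map_mul, show (x : C) * x = 1 from hx, map_one]
  let act : K → (W ⧸ V0 →* W ⧸ V0) := fun k => QuotientGroup.map V0 V0 (ψ k).toMonoidHom (hψV k)
  have hact : ∀ k (x : W), act k (QuotientGroup.mk' V0 x) = QuotientGroup.mk' V0 (ψ k x) :=
    fun k x => rfl
  have hmul : ∀ a b x, act (a * b) x = act a (act b x) := fun a b x => by
    obtain ⟨x, rfl⟩ := QuotientGroup.mk'_surjective V0 x
    rw [hact, hact, hact, map_mul, MulAut.mul_apply]
  have hone : ∀ x, act 1 x = x := fun x => by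
    obtain ⟨x, rfl⟩ := QuotientGroup.mk'_surjective V0 x
    rw [hact, map_one, MulAut.one_apply]
  let θ : K →* (Additive (W ⧸ V0) ≃ₗ[ℤ] Additive (W ⧸ V0)) :=
    { toFun := fun k => (MulEquiv.toAdditive (MonoidHom.toMulEquiv (act k) (act k⁻¹)
        (MonoidHom.ext fun x => by
          show act k⁻¹ (act k x) = x
          rw [← hmul, inv_mul_cancel, hone])
        (MonoidHom.ext fun x => by
          show act k (act k⁻¹ x) = x
          rw [← hmul, mul_inv_cancel, hone]))).toIntLinearEquiv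
      map_one' := LinearEquiv.ext fun (x : Additive (W ⧸ V0)) => congrArg Additive.ofMul (hone x.toMul)
      map_mul' := fun a b => LinearEquiv.ext fun (x : Additive (W ⧸ V0)) =>
        congrArg Additive.ofMul (hmul a b x.toMul) }
  have hθ : ∀ k, θ k ∈ AnisoSolvable57.isom Q := fun k x => by
    obtain ⟨x, rfl⟩ : ∃ y, Additive.ofMul y = x := ⟨x.toMul, rfl⟩
    obtain ⟨x, rfl⟩ := QuotientGroup.mk'_surjective V0 x
    show Additive.ofMul (q (ψ k x)) = Additive.ofMul (q x)
    refine congrArg _ (Subtype.ext ?_)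
    show φ k (x : C) * φ k (x : C) = x * x
    rw [← map_mul, hfix k _ x.2]
  haveI := AnisoSolvable57.isSolvable_isom hFT hQ
  have hθ1 : θ.codRestrict (AnisoSolvable57.isom Q) hθ = 1 := FpfAut.perfect_hom_eq_one hK _
  haveI hWs : Group.IsSolvable W := by
    haveI := (hC.to_subgroup W).isNilpotent
    infer_instance
  haveI : Group.IsSolvable V0 := inferInstance
  have hψ1 : ψ = 1 := by
    refine trivial_of_stab hK ψ V0 (fun k n hn => Subtype.ext (hfix k _ hn)) fun k s => ?_
    have h1 := DFunLike.congr_fun (congrArg Subtype.val (DFunLike.congr_fun hθ1 k))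
      (Additive.ofMul (QuotientGroup.mk' V0 s))
    have h2 : QuotientGroup.mk' V0 (ψ k s) = QuotientGroup.mk' V0 s := congrArg Additive.toMul h1
    exact QuotientGroup.eq.1 h2.symm
  have hW : ∀ k x, x * x * (x * x) = 1 → φ k x = x := fun k x hx =>
    congrArg Subtype.val (DFunLike.congr_fun (DFunLike.congr_fun hψ1 k) (⟨x, hx⟩ : W))
  haveI : Finite (MulAut C) := inferInstance
  haveI : Group.IsSolvable φ.range := by
    haveI : Group.IsNilpotent φ.range := by
      refine IsPGroup.isNilpotent (p := 2) ?_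
      rintro ⟨_, k, rfl⟩
      obtain ⟨i, m, hm, he⟩ := Nat.exists_eq_two_pow_mul_odd (orderOf_pos (φ k)).ne'
      refine ⟨i, Subtype.ext ?_⟩
      show φ k ^ 2 ^ i = 1
      refine eq_one_of_fix_four hC hsq hcl _ ?_ fun x hx => ?_
      · refine hm.of_dvd_nat (orderOf_dvd_of_pow_eq_one ?_)
        rw [← pow_mul, ← he, pow_orderOf_eq_one]
      · rw [← map_pow]; exact hW _ x hx
    infer_instance
  refine MonoidHom.ext fun k => ?_
  exact congrArg Subtype.val (DFunLike.congr_fun (FpfAut.perfect_hom_eq_one hK φ.rangeRestrict) k)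

end ClassTwo

variable {S : Type u} [Group S] [Finite S]

theorem trivial_central
    (hFT : ∀ (X : Type u) [Group X] [Finite X], Odd (Nat.card X) → Group.IsSolvable X)
    (hK : commutator K = ⊤) (hS : IsPGroup 2 S) (hinv : ∀ x : S, x * x = 1 → x ∈ Subgroup.center S)
    (φ : K →* MulAut S) (hfix : ∀ k x, x * x = 1 → φ k x = x) : φ = 1 := by
  haveI : Fact (Nat.Prime 2) := ⟨Nat.prime_two⟩
  obtain ⟨C, hchar, hΦ, hcomm, hcent⟩ := PGroupsCritical.exists_critical hS
  haveI := hchar
  have hinvC : ∀ k, ∀ x ∈ C, φ k x ∈ C := fun k x hx => (hchar.fixed (φ k)).ge hx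
  obtain ⟨hc, hpow⟩ := PGroupsBasic.quotient_frattini_elementary (hS.to_subgroup C)
  have hsq : ∀ x : C, x * x ∈ Subgroup.center C := fun x => by
    have h : x * x ∈ frattini C := by
      rw [← sq, ← QuotientGroup.eq_one_iff, QuotientGroup.mk_pow]; exact hpow _
    rw [Subgroup.mem_center_iff]
    intro y
    exact Subtype.ext (Subgroup.mem_centralizer_iff.1 (hΦ ⟨_, h, rfl⟩) y y.2)
  have hcl : ∀ x y : C, ⁅x, y⁆ ∈ Subgroup.center C := fun x y => by
    rw [Subgroup.mem_center_iff]
    intro z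
    exact Subtype.ext (Subgroup.mem_centralizer_iff.1
      (hcomm (Subgroup.commutator_mem_commutator x.2 (Subgroup.mem_top (y : S)))).2 z z.2)
  have h := trivial_class_two hFT hK (hS.to_subgroup C) hsq hcl
    (fun x hx => Subgroup.mem_center_iff.2 fun y =>
      Subtype.ext (Subgroup.mem_center_iff.1 (hinv x (congrArg Subtype.val hx)) y))
    (restrictHom φ C hinvC) fun k x hx => Subtype.ext (hfix k x (congrArg Subtype.val hx))
  haveI : Group.IsSolvable C := by
    haveI := (hS.to_subgroup C).isNilpotent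
    infer_instance
  exact trivial_of_centralizer hK φ C (fun k n hn =>
    congrArg Subtype.val (DFunLike.congr_fun (DFunLike.congr_fun h k) (⟨n, hn⟩ : C))) hcent

/-- A perfect group fixing all involutions of a 2-group in which they commute acts trivially. -/
theorem trivial_of_fix_involutions
    (hFT : ∀ (X : Type u) [Group X] [Finite X], Odd (Nat.card X) → Group.IsSolvable X)
    (hK : commutator K = ⊤) (hS : IsPGroup 2 S)
    (hcomm : ∀ x y : S, x * x = 1 → y * y = 1 → x * y = y * x)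
    (φ : K →* MulAut S) (hfix : ∀ k x, x * x = 1 → φ k x = x) : φ = 1 := by
  haveI : Fact (Nat.Prime 2) := ⟨Nat.prime_two⟩
  let V : Set S := {x | x * x = 1}
  set T := Subgroup.centralizer V with hT
  have hVT : V ⊆ T := fun x hx => Subgroup.mem_centralizer_iff.2 fun y hy => hcomm y x hy hx
  haveI : T.Normal := ⟨fun t ht g => Subgroup.mem_centralizer_iff.2 fun v hv => by
    have hv' : g⁻¹ * v * g ∈ V := by
      show g⁻¹ * v * g * (g⁻¹ * v * g) = 1
      rw [show g⁻¹ * v * g * (g⁻¹ * v * g) = g⁻¹ * (v * v) * g by group,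
        show v * v = 1 from hv, mul_one, inv_mul_cancel]
    have h := Subgroup.mem_centralizer_iff.1 ht _ hv'
    calc v * (g * t * g⁻¹) = g * ((g⁻¹ * v * g) * t) * g⁻¹ := by group
      _ = g * (t * (g⁻¹ * v * g)) * g⁻¹ := by rw [h]
      _ = g * t * g⁻¹ * v := by group⟩
  have hinvT : ∀ k, ∀ x ∈ T, φ k x ∈ T := fun k x hx => Subgroup.mem_centralizer_iff.2 fun v hv => by
    have h := congrArg (φ k) (Subgroup.mem_centralizer_iff.1 hx v hv)
    rwa [map_mul, map_mul, hfix k v hv] at h
  have h := trivial_central hFT hK (hS.to_subgroup T)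
    (fun x hx => Subgroup.mem_center_iff.2 fun y =>
      Subtype.ext (Subgroup.mem_centralizer_iff.1 y.2 x (congrArg Subtype.val hx)).symm)
    (restrictHom φ T hinvT) fun k x hx => Subtype.ext (hfix k x (congrArg Subtype.val hx))
  haveI : Group.IsSolvable T := by
    haveI := (hS.to_subgroup T).isNilpotent
    infer_instance
  exact trivial_of_centralizer hK φ T (fun k n hn =>
    congrArg Subtype.val (DFunLike.congr_fun (DFunLike.congr_fun h k) (⟨n, hn⟩ : T)))
    (Subgroup.centralizer_le hVT)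

end Cfsg.Agent.AutFixInvolutions57
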