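import Mathlib
import Cfsg.Prelude.Def_Local
import Cfsg.Agent.Lib.TransferAlperin
import Cfsg.Agent.Lib.L2BalanceAut

/-!
Glauberman: if `O(G) = 1`, a group of automorphisms fixing a Sylow 2-subgroup pointwise has derived
group of odd order. (Variant of `L2BalanceAut` for elements of the derived group.)
-/

set_option autoImplicit false
set_option linter.style.haveILetI false

namespace Cfsg.Agent.AutFixSylow67

open Subgroup
open Cfsg.Agent.TransferAlperin
open Cfsg.Agent.L2BalanceAut (ZStarProp CentricTwo exists_core)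
open scoped commutatorElement

universe u

variable {G : Type u} [Group G] [Finite G]

variable {M : Type*} [Group M]

/-- A commutator element of a group fixing `S` pointwise moves elements of `N(Q)`, for `Q ≤ S`, only inside the
odd part of `C(Q)`. -/
theorem conj_mem_core (φ : M →* MulAut G)
    {Q : Subgroup G} (hQ : CentricTwo Q) (hfix : ∀ m, ∀ q ∈ Q, φ m q = q) {n : G}
    (hn : n ∈ normalizer (Q : Set G)) (m : M)
    (hm : m ∈ ⁅(⊤ : Subgroup M), (⊤ : Subgroup M)⁆) :
    n⁻¹ * φ m n ∈ centralizer (Q : Set G) ∧ Odd (orderOf (n⁻¹ * φ m n)) := by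
  set C := centralizer (Q : Set G)
  obtain ⟨H, hHn, -, hmem, hdec⟩ := exists_core hQ
  haveI := hHn
  have hd : ∀ m, n⁻¹ * φ m n ∈ C := by
    intro m
    rw [mem_centralizer_iff]
    intro q hq
    have h1 : n * q * n⁻¹ ∈ Q := (mem_normalizer_iff.mp hn q).mp hq
    have h2 := hfix m _ h1
    rw [map_mul, map_mul, map_inv, hfix m q hq] at h2
    calc q * (n⁻¹ * φ m n) = n⁻¹ * (n * q * n⁻¹) * φ m n := by group
      _ = n⁻¹ * (φ m n * q * (φ m n)⁻¹) * φ m n := by rw [h2]
      _ = _ := by group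
  have hab : ∀ y w : C, (QuotientGroup.mk (y * w) : C ⧸ H) = QuotientGroup.mk (w * y) := by
    have hmk : ∀ y : C, ∃ z : C, (z : G) ∈ Q ∧
        (QuotientGroup.mk y : C ⧸ H) = QuotientGroup.mk z := fun y => by
      obtain ⟨z, hz, hzy⟩ := hdec y
      exact ⟨z, hz, (QuotientGroup.eq.mpr hzy).symm⟩
    intro y w
    obtain ⟨z, hz, e⟩ := hmk y
    obtain ⟨z', -, e'⟩ := hmk w
    rw [QuotientGroup.mk_mul, QuotientGroup.mk_mul, e, e', ← QuotientGroup.mk_mul,
      ← QuotientGroup.mk_mul]
    congr 1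
    exact Subtype.ext (mem_centralizer_iff.mp z'.2 (z : G) hz)
  have hact : ∀ (m : M) (y : C) (hy' : φ m (y : G) ∈ C),
      (QuotientGroup.mk ⟨φ m (y : G), hy'⟩ : C ⧸ H) = QuotientGroup.mk y := by
    intro m y hy'
    obtain ⟨z, hz, hzy⟩ := hdec y
    have e1 : (QuotientGroup.mk z : C ⧸ H) = QuotientGroup.mk y := QuotientGroup.eq.mpr hzy
    rw [← e1]
    symm
    refine QuotientGroup.eq.mpr ?_
    rw [hmem] at hzy ⊢
    rw [← orderOf_coe] at hzy ⊢
    have e2 : ((z⁻¹ * ⟨φ m (y : G), hy'⟩ : C) : G) = φ m ((z⁻¹ * y : C) : G) := by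
      simp [hfix m _ hz]
    rw [e2, MulEquiv.orderOf_eq]
    exact hzy
  let θ : M →* C ⧸ H :=
    { toFun := fun m => QuotientGroup.mk ⟨n⁻¹ * φ m n, hd m⟩
      map_one' := by
        rw [QuotientGroup.eq_one_iff]
        convert H.one_mem
        simp
      map_mul' := fun a b => by
        have hb : φ a (n⁻¹ * φ b n) ∈ C := by
          rw [mem_centralizer_iff]
          intro q hq
          have h1 := congrArg (φ a) (mem_centralizer_iff.mp (hd b) q hq)
          simpa [hfix a q hq] using h1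
        rw [← hact a ⟨_, hd b⟩ hb, ← QuotientGroup.mk_mul]
        congr 1
        apply Subtype.ext
        simp [map_mul, mul_assoc] }
  have hker : ⁅(⊤ : Subgroup M), (⊤ : Subgroup M)⁆ ≤ θ.ker := by
    rw [commutator_le]
    intro a _ b _
    rw [MonoidHom.mem_ker, map_commutatorElement, commutatorElement_eq_one_iff_mul_comm]
    exact hab _ _
  refine ⟨hd m, ?_⟩
  have h1 : θ m = 1 := MonoidHom.mem_ker.mp (hker hm)
  have h2 := (hmem _).mp ((QuotientGroup.eq_one_iff _).mp h1)
  rwa [← orderOf_coe] at h2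

/-- `T` is moved by `g` as by an element fixed by the automorphism `a`. -/
def Controlled (a : MulAut G) (T : Subgroup G) (g : G) : Prop :=
  ∃ c, a c = c ∧ ∀ t ∈ T, c * t * c⁻¹ = g * t * g⁻¹

/-- An involutory automorphism coming from the commutator subgroup controls fusion. -/
theorem controlled (φ : M →* MulAut G) (S : Sylow 2 G) (hfix : ∀ m, ∀ s ∈ (S : Subgroup G), φ m s = s) (m : M)
    (hm : m ∈ ⁅(⊤ : Subgroup M), (⊤ : Subgroup M)⁆)
    (ha : φ m * φ m = 1) (T : Subgroup G) (g : G) (hT : T ≤ (S : Subgroup G))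
    (hg : cj g T ≤ (S : Subgroup G)) : Controlled (φ m) T g := by
  refine alperin_induction_centric S (Controlled (φ m)) ?_ ?_ ?_ ?_ ?_ T g hT hg
  · rintro T g h - - - ⟨c, hc, e⟩ ⟨d, hd, e'⟩
    refine ⟨d * c, by rw [map_mul, hc, hd], fun t ht => ?_⟩
    have h1 := e' _ (conj_mem_cj ht)
    calc d * c * t * (d * c)⁻¹ = d * (c * t * c⁻¹) * d⁻¹ := by group
      _ = h * (g * t * g⁻¹) * h⁻¹ := by rw [e t ht]; exact h1
      _ = _ := by group
  · rintro T g - - ⟨c, hc, e⟩
    refine ⟨c⁻¹, by rw [map_inv, hc], fun t ht => ?_⟩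
    have h1 := e _ (mem_cj.mp ht)
    calc c⁻¹ * t * (c⁻¹)⁻¹ = c⁻¹ * (g * (g⁻¹ * t * g) * g⁻¹) * c := by group
      _ = c⁻¹ * (c * (g⁻¹ * t * g) * c⁻¹) * c := by rw [h1]
      _ = _ := by group
  · rintro T T' g hle - - ⟨c, hc, e⟩
    exact ⟨c, hc, fun t ht => e t (hle ht)⟩
  · intro T _ c hc
    refine ⟨1, map_one _, fun t ht => ?_⟩
    rw [← mem_centralizer_iff.mp hc t ht, mul_inv_cancel_right, one_mul, inv_one, mul_one]
  · intro Q hQ hfn hcen _ _ n hn _
    have hQc : CentricTwo Q := by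
      refine ⟨S.isPGroup'.to_le hQ, fun c hc ⟨k, hk⟩ => ?_⟩
      have hp : IsPGroup 2 (zpowers c) := by
        obtain ⟨j, -, hj⟩ := (Nat.dvd_prime_pow Nat.prime_two).mp (orderOf_dvd_of_pow_eq_one hk)
        exact IsPGroup.of_card (n := j) (by rw [Nat.card_zpowers, hj])
      have hcN : c ∈ normalizer (Q : Set G) := centralizer_le_normalizer _ hc
      obtain ⟨d, hd, hdle⟩ := hfn _ (zpowers_le.mpr hcN) hp
      have h1 : d * c * d⁻¹ ∈ (S : Subgroup G) := hdle (conj_mem_cj (mem_zpowers c))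
      have h2 : d * c * d⁻¹ ∈ centralizer (Q : Set G) := by
        rw [mem_centralizer_iff]
        intro q hq
        have h3 : d⁻¹ * q * d ∈ Q := (mem_normalizer_iff''.mp hd q).mp hq
        have h4 := mem_centralizer_iff.mp hc _ h3
        calc q * (d * c * d⁻¹) = d * ((d⁻¹ * q * d) * c) * d⁻¹ := by group
          _ = d * (c * (d⁻¹ * q * d)) * d⁻¹ := by rw [h4]
          _ = _ := by group
      exact (mem_normalizer_iff.mp hd c).mpr (hcen (mem_inf.mpr ⟨h1, h2⟩))
    set a := φ m with hadef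
    set C := centralizer (Q : Set G)
    obtain ⟨H, -, hHodd, hmem, -⟩ := exists_core hQc
    have hfixQ : ∀ m, ∀ q ∈ Q, φ m q = q := fun m q hq => hfix m q (hQ hq)
    obtain ⟨hdn, hdo⟩ := conj_mem_core φ hQc hfixQ hn m hm
    have haC : ∀ y ∈ C, a y ∈ C := by
      intro y hy
      rw [mem_centralizer_iff]
      intro q hq
      have h1 := congrArg a (mem_centralizer_iff.mp hy q hq)
      simpa [hfixQ m q hq, hadef] using h1
    -- the automorphism stabilises the coset `n H`
    have hstab : ∀ h : H, (⟨n⁻¹ * a (n * ((h : C) : G)), by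
        rw [map_mul, ← mul_assoc]; exact mul_mem hdn (haC _ (h : C).2)⟩ : C) ∈ H := by
      intro h
      have e1 : (⟨n⁻¹ * a n, hdn⟩ : C) ∈ H := (hmem _).mpr ((orderOf_mk _ hdn).symm ▸ hdo)
      have e2 : (⟨a ((h : C) : G), haC _ (h : C).2⟩ : C) ∈ H := by
        rw [hmem, ← orderOf_coe, MulEquiv.orderOf_eq, orderOf_coe]
        exact (hmem _).mp h.2
      convert mul_mem e1 e2
      simp [map_mul, mul_assoc]
    let f : H → H := fun h => ⟨_, hstab h⟩
    have hinv : Function.Involutive f := by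
      intro h
      apply Subtype.ext; apply Subtype.ext
      show n⁻¹ * a (n * (n⁻¹ * a (n * ((h : C) : G)))) = ((h : C) : G)
      rw [mul_inv_cancel_left, ← MulAut.mul_apply, ha]
      simp
    haveI : Fintype H := Fintype.ofFinite H
    obtain ⟨h, hh⟩ := Equiv.Perm.exists_fixed_point_of_prime (p := 2) (n := 1)
      (by rw [← Nat.card_eq_fintype_card]; exact hHodd.not_two_dvd_nat)
      (σ := hinv.toPerm) (by rw [pow_one, pow_two]; ext x; simp [hinv _])
    refine ⟨n * ((h : C) : G), ?_, fun t ht => ?_⟩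
    · have := congrArg (fun x : H => ((x : C) : G)) hh
      simp only [Function.Involutive.coe_toPerm, f] at this
      rw [← mul_right_inj n⁻¹, this, inv_mul_cancel_left]
    · have h1 := mem_centralizer_iff.mp (h : C).2 t ht
      calc n * ((h : C) : G) * t * (n * ((h : C) : G))⁻¹
          = n * (((h : C) : G) * t) * ((h : C) : G)⁻¹ * n⁻¹ := by group
        _ = _ := by rw [← h1]; group

/-- An involutory automorphism coming from the commutator subgroup is isolated in the
semidirect product, and hence trivial by the Z*-theorem. -/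
theorem involution_eq_one (hZ : ZStarProp.{u})
    (hO : ∀ N : Subgroup G, N.Normal → Odd (Nat.card N) → N = ⊥)
    (φ : M →* MulAut G) (S : Sylow 2 G) (hfix : ∀ m, ∀ s ∈ (S : Subgroup G), φ m s = s) (m : M)
    (hm : m ∈ ⁅(⊤ : Subgroup M), (⊤ : Subgroup M)⁆)
    (ha : φ m * φ m = 1) : φ m = 1 := by
  set a := φ m with hadef
  have haa : ∀ g, a (a g) = g := fun g => by rw [← MulAut.mul_apply, ha]; rfl
  -- the heart: no element `h * a(h)⁻¹` of `S` other than `1`
  have key : ∀ h : G, h * (a h)⁻¹ ∈ (S : Subgroup G) → h * (a h)⁻¹ = 1 := by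
    intro h₀ hs₀
    set s₀ := h₀ * (a h₀)⁻¹ with hs₀def
    -- move `s₀` to a fully centralised element
    obtain ⟨R₀⟩ := Sylow.nonempty (p := 2) (G := ↥(centralizer ({s₀} : Set G)))
    set R₁ := (R₀ : Subgroup _).map (centralizer ({s₀} : Set G)).subtype
    obtain ⟨Q, hQ⟩ := (R₀.isPGroup'.map (centralizer ({s₀} : Set G)).subtype).exists_le_sylow
    obtain ⟨g, hg⟩ := MulAction.exists_smul_eq G Q S
    have hgS : cj g R₁ ≤ (S : Subgroup G) := by
      rw [← hg, smul_coe_eq_cj]; exact cj_mono g hQ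
    have hsR : s₀ ∈ R₁ := by
      have hs2 : IsPGroup 2 (zpowers s₀) := S.isPGroup'.to_le (zpowers_le.mpr hs₀)
      have hsc : s₀ ∈ centralizer ({s₀} : Set G) := mem_centralizer_singleton_iff.mpr rfl
      haveI hnz : ((zpowers s₀).subgroupOf (centralizer ({s₀} : Set G))).Normal := by
        refine ⟨fun x hx y => ?_⟩
        rw [mem_subgroupOf] at hx ⊢
        obtain ⟨k, hk⟩ := mem_zpowers_iff.mp hx
        rw [Subgroup.coe_mul, Subgroup.coe_mul, InvMemClass.coe_inv, ← hk,
          ((Commute.zpow_right (mem_centralizer_singleton_iff.mp y.2 : Commute (y : G) s₀) k)).eq,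
          mul_inv_cancel_right]
        exact zpow_mem (mem_zpowers _) k
      have hs2' : IsPGroup 2 ((zpowers s₀).subgroupOf (centralizer ({s₀} : Set G))) := hs2.comap_subtype
      have h1 := R₀.3 (R₀.isPGroup'.to_sup_of_normal_right hs2') le_sup_left
      exact ⟨⟨s₀, hsc⟩, h1 ▸ mem_sup_right (mem_subgroupOf.mpr (mem_zpowers s₀)), rfl⟩
    obtain ⟨c, hc, hce⟩ := controlled φ S hfix m hm ha (zpowers s₀) g (zpowers_le.mpr hs₀)
      ((cj_mono g (zpowers_le.mpr hsR)).trans hgS)
    have hcs : c * s₀ * c⁻¹ = g * s₀ * g⁻¹ := hce s₀ (mem_zpowers _)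
    suffices hgoal : g * s₀ * g⁻¹ = 1 by simpa using hgoal
    set s := g * s₀ * g⁻¹ with hsdef
    set R := cj g R₁
    have hRs : ∀ r ∈ R, r * s = s * r := by
      rintro _ ⟨r, ⟨r', -, rfl⟩, rfl⟩
      have hr := mem_centralizer_singleton_iff.mp r'.2
      show g * (r' : G) * g⁻¹ * (g * s₀ * g⁻¹) = g * s₀ * g⁻¹ * (g * (r' : G) * g⁻¹)
      calc g * (r' : G) * g⁻¹ * (g * s₀ * g⁻¹) = g * ((r' : G) * s₀) * g⁻¹ := by group
        _ = _ := by rw [hr]; group
    have hsR' : s ∈ R := conj_mem_cj hsR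
    have hRc : CentricTwo R := by
      refine ⟨S.isPGroup'.to_le hgS, fun x hx ⟨k, hk⟩ => ?_⟩
      set y := g⁻¹ * x * g
      have hy1 : y ∈ centralizer (R₁ : Set G) := by
        rw [mem_centralizer_iff]
        intro r hr
        have h1 := mem_centralizer_iff.mp hx _ (conj_mem_cj (g := g) hr)
        calc r * y = g⁻¹ * ((g * r * g⁻¹) * x) * g := by simp only [y]; group
          _ = g⁻¹ * (x * (g * r * g⁻¹)) * g := by rw [h1]
          _ = _ := by simp only [y]; group
      have hyC : y ∈ centralizer ({s₀} : Set G) :=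
        mem_centralizer_singleton_iff.mpr (mem_centralizer_iff.mp hy1 s₀ hsR).symm
      have hy2 : IsPGroup 2 (zpowers (⟨y, hyC⟩ : ↥(centralizer ({s₀} : Set G)))) := by
        have h2 : (⟨y, hyC⟩ : ↥(centralizer ({s₀} : Set G))) ^ 2 ^ k = 1 := by
          apply Subtype.ext
          show y ^ 2 ^ k = 1
          rw [show y = g⁻¹ * x * (g⁻¹)⁻¹ by simp [y], conj_pow, hk]
          simp
        obtain ⟨j, -, hj⟩ := (Nat.dvd_prime_pow Nat.prime_two).mp (orderOf_dvd_of_pow_eq_one h2)
        exact IsPGroup.of_card (n := j) (by rw [Nat.card_zpowers, hj])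
      have hyN : zpowers (⟨y, hyC⟩ : ↥(centralizer ({s₀} : Set G))) ≤
          normalizer (((R₀ : Subgroup ↥(centralizer ({s₀} : Set G)))) : Set ↥(centralizer ({s₀} : Set G))) := by
        refine zpowers_le.mpr (centralizer_le_normalizer _ ?_)
        rw [mem_centralizer_iff]
        intro r hr
        exact Subtype.ext (mem_centralizer_iff.mp hy1 (r : G) ⟨r, hr, rfl⟩)
      have h3 := R₀.3 (R₀.isPGroup'.to_sup_of_normal_left' hy2 hyN) le_sup_left
      refine mem_cj.mpr ⟨⟨y, hyC⟩, h3 ▸ mem_sup_right (mem_zpowers _), rfl⟩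
    -- the witness for `s`
    obtain ⟨h₁, hh₁⟩ : ∃ h₁, s = h₁ * (a h₁)⁻¹ := by
      refine ⟨c * h₀, ?_⟩
      rw [← hcs, map_mul, show a c = c from hc, hs₀def]
      group
    have hfixS : (S : Subgroup G) ≤
        (MonoidHom.eqLocus a.toMonoidHom (MonoidHom.id G)) := fun x hx => hfix m x hx
    set F := MonoidHom.eqLocus a.toMonoidHom (MonoidHom.id G)
    have hR' : cj h₁⁻¹ R ≤ F := by
      intro x hx
      have h1 : h₁ * x * h₁⁻¹ ∈ R := by simpa using mem_cj.mp hx
      have h2 : a (h₁ * x * h₁⁻¹) = h₁ * x * h₁⁻¹ := hfixS (hgS h1)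
      have h3 := hRs _ h1
      have h4 : a h₁ = s⁻¹ * h₁ := by rw [hh₁]; group
      show a x = x
      rw [map_mul, map_mul, map_inv, h4] at h2
      calc a x = (s⁻¹ * h₁)⁻¹ * ((s⁻¹ * h₁) * a x * (s⁻¹ * h₁)⁻¹) * (s⁻¹ * h₁) := by group
        _ = h₁⁻¹ * (s * (h₁ * x * h₁⁻¹)) * s⁻¹ * h₁ := by rw [h2]; group
        _ = h₁⁻¹ * (h₁ * x * h₁⁻¹ * s) * s⁻¹ * h₁ := by rw [h3]
        _ = x := by group
    obtain ⟨d, hd, hdle⟩ := exists_cj_le_of_max (p := 2) (A := (S : Subgroup G)) S.isPGroup'
      (isPGroup_cj (g := h₁⁻¹) hRc.1) hfixS hR' (fun W _ hW => by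
        obtain ⟨W', hW'⟩ := hW.exists_le_sylow
        exact (card_le_of_le hW').trans (le_of_eq (Sylow.card_eq_multiplicity W' ▸
          (Sylow.card_eq_multiplicity S).symm)))
    rw [← cj_mul] at hdle
    obtain ⟨c', hc', hce'⟩ := controlled φ S hfix m hm ha R _ hgS hdle
    -- the new witness centralizes `R`
    set e := h₁ * d⁻¹ * c'
    have he : e * (a e)⁻¹ = s := by
      simp only [e, map_mul, map_inv, show a c' = c' from hc', show a d = d from hd, hh₁]
      group
    have heR : e ∈ centralizer (R : Set G) := by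
      rw [mem_centralizer_iff]
      intro r hr
      have h1 := hce' r hr
      calc r * e = h₁ * d⁻¹ * (d * h₁⁻¹ * r * (d * h₁⁻¹)⁻¹) * c' := by simp only [e]; group
        _ = h₁ * d⁻¹ * (c' * r * c'⁻¹) * c' := by rw [h1]
        _ = e * r := by simp only [e]; group
    obtain ⟨H, hHn, -, hmem, hdec⟩ := exists_core hRc
    obtain ⟨z, hz, hzh⟩ := hdec ⟨e, heR⟩
    set o : G := (z : G)⁻¹ * e with hodef
    have hoC : o ∈ centralizer (R : Set G) := mul_mem (inv_mem z.2) heR
    have hoH : (⟨o, hoC⟩ : ↥(centralizer (R : Set G))) ∈ H := hzh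
    have haz : a (z : G) = z := hfix m _ (hgS hz)
    have haoC : a o ∈ centralizer (R : Set G) := by
      rw [mem_centralizer_iff]
      intro r hr
      have h1 := congrArg a (mem_centralizer_iff.mp hoC r hr)
      simpa [show a r = r from hfix m r (hgS hr)] using h1
    have haoH : (⟨a o, haoC⟩ : ↥(centralizer (R : Set G))) ∈ H := by
      rw [hmem, ← orderOf_coe, MulEquiv.orderOf_eq]
      rw [← orderOf_mk o hoC]
      exact (hmem _).mp hoH
    have hsH : s = z * (o * (a o)⁻¹) * (z : G)⁻¹ := by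
      rw [hodef, map_mul a (z : G)⁻¹ e, map_inv, haz, ← he]
      group
    have hodd : Odd (orderOf s) := by
      have h1 := hHn.conj_mem _ (mul_mem hoH (inv_mem haoH)) z
      have h2 := (hmem _).mp h1
      rw [← orderOf_coe] at h2
      rw [hsH]
      exact h2
    obtain ⟨j, hj⟩ := IsPGroup.iff_orderOf.mp S.isPGroup' ⟨s, hgS hsR'⟩
    rw [orderOf_mk] at hj
    rcases j with _ | j
    · exact orderOf_eq_one_iff.mp (by rw [hj, pow_zero])
    · exact absurd (hj ▸ hodd) (by simp [Nat.odd_pow_iff, Nat.even_iff])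
  by_contra hne
  -- the semidirect product with the group generated by `a`
  let Y := G ⋊[(zpowers a).subtype] ↥(zpowers a)
  haveI : Finite Y := Finite.of_equiv _ SemidirectProduct.equivProd.symm
  have haord : orderOf a = 2 := orderOf_eq_prime (by rw [pow_two]; exact ha) hne
  let t : Y := SemidirectProduct.inr ⟨a, mem_zpowers a⟩
  have hw : ∀ w : zpowers a, (w : MulAut G) = 1 ∨ (w : MulAut G) = a := by
    intro w
    obtain ⟨k, hk⟩ := (mem_powers_iff_mem_zpowers.mpr w.2)
    dsimp only at hk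
    rw [← hk, ← pow_mod_orderOf, haord]
    rcases Nat.mod_two_eq_zero_or_one k with h | h <;> simp [h]
  have hwS : ∀ (w : zpowers a), ∀ x ∈ (S : Subgroup G), (w : MulAut G) x = x := by
    intro w x hx
    rcases hw w with h | h <;> rw [h]
    · rfl
    · exact hfix m x hx
  let P₀ : Subgroup Y :=
    { carrier := {y | y.left ∈ (S : Subgroup G)}
      one_mem' := by
        simp only [Set.mem_setOf_eq, SemidirectProduct.one_left]
        exact one_mem _
      mul_mem' := fun {y y'} hy hy' => by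
        simp only [Set.mem_setOf_eq, SemidirectProduct.mul_left, Subgroup.coe_subtype] at hy hy' ⊢
        show y.left * ((y.right : MulAut G) y'.left) ∈ (S : Subgroup G)
        rw [hwS _ _ hy']
        exact mul_mem hy hy'
      inv_mem' := fun {y} hy => by
        simp only [Set.mem_setOf_eq, SemidirectProduct.inv_left, Subgroup.coe_subtype] at hy ⊢
        show ((y.right⁻¹ : zpowers a) : MulAut G) y.left⁻¹ ∈ (S : Subgroup G)
        rw [hwS _ _ (inv_mem hy)]
        exact inv_mem hy }
  have hcardP : Nat.card P₀ = Nat.card S * 2 := by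
    refine (Nat.card_congr (β := ↥(S : Subgroup G) × ↥(zpowers a)) ?_).trans
      (by rw [Nat.card_prod, Nat.card_zpowers, haord])
    exact
      { toFun := fun y => (⟨(y : Y).left, y.2⟩, (y : Y).right)
        invFun := fun q => ⟨⟨q.1, q.2⟩, q.1.2⟩
        left_inv := fun y => rfl
        right_inv := fun q => rfl }
  have hcardY : Nat.card Y = Nat.card G * 2 := by
    rw [SemidirectProduct.card, Nat.card_zpowers, haord]
  let P : Sylow 2 Y := Sylow.ofCard P₀ (by
    rw [hcardP, hcardY, Sylow.card_eq_multiplicity S, Nat.factorization_mul Nat.card_pos.ne' two_ne_zero,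
      Finsupp.add_apply, Nat.Prime.factorization_self Nat.prime_two, pow_succ])
  have htP : t ∈ P := by
    show (t : Y).left ∈ (S : Subgroup G)
    exact one_mem _
  have ht : orderOf t = 2 := by
    rw [orderOf_injective _ SemidirectProduct.inr_injective, orderOf_mk]
    exact haord
  have hiso : ∀ y : Y, y * t * y⁻¹ ∈ P → y * t * y⁻¹ = t := by
    intro y hy
    have hr : (y * t * y⁻¹).right = t.right := by
      have h1 : (y * t * y⁻¹).right = y.right * t.right * y.right⁻¹ := rfl
      rw [h1]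
      apply Subtype.ext
      show (y.right : MulAut G) * a * (y.right : MulAut G)⁻¹ = a
      rcases hw y.right with h | h <;> rw [h] <;> simp
    have hl : (y * t * y⁻¹).left = y.left * (a y.left)⁻¹ := by
      show y.left * (y.right : MulAut G) 1 *
        ((y.right : MulAut G) * a) (((y.right⁻¹ : zpowers a) : MulAut G) y.left⁻¹) = _
      rcases hw y.right with h | h <;> simp [h, haa]
    have h2 : y.left * (a y.left)⁻¹ ∈ (S : Subgroup G) := hl ▸ hy
    refine SemidirectProduct.ext ?_ hr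
    rw [hl, key _ h2]
    rfl
  obtain ⟨N, hN, hodd, hcomm⟩ := hZ Y P t ht htP hiso
  haveI := hN
  have hN' : N.comap (SemidirectProduct.inl : G →* Y) = ⊥ := by
    refine hO _ inferInstance (hodd.of_dvd_nat ?_)
    rw [Nat.card_congr ((N.comap (SemidirectProduct.inl : G →* Y)).equivMapOfInjective _
      (SemidirectProduct.inl_injective (φ := (zpowers a).subtype))).toEquiv]
    exact card_dvd_of_le (map_comap_le _ _)
  refine hne (MulEquiv.ext fun g => ?_)
  have h1 := hcomm (SemidirectProduct.inl g)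
  have h2 : t * SemidirectProduct.inl g * t⁻¹ * (SemidirectProduct.inl g)⁻¹ =
      (SemidirectProduct.inl (a g * g⁻¹) : Y) := by
    rw [map_mul, map_inv]
    congr 1
    have h3 := SemidirectProduct.inl_aut (φ := (zpowers a).subtype) ⟨a, mem_zpowers a⟩ g
    rw [map_inv] at h3
    exact h3.symm
  rw [h2, ← mem_comap, hN', mem_bot, mul_inv_eq_one] at h1
  exact h1


/-- The derived group of a faithful group of automorphisms fixing a Sylow 2-subgroup pointwise has
odd order. -/
theorem odd_card_commutator (hZ : ZStarProp.{u})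
    (hO : ∀ N : Subgroup G, N.Normal → Odd (Nat.card N) → N = ⊥)
    (S : Sylow 2 G) (C : Subgroup (MulAut G))
    (hC : ∀ φ ∈ C, ∀ s : G, s ∈ S → φ s = s) :
    Odd (Nat.card (commutator ↥C)) := by
  rw [← Nat.not_even_iff_odd, even_iff_two_dvd]
  intro h
  haveI := Fact.mk Nat.prime_two
  obtain ⟨x, hx⟩ := exists_prime_orderOf_dvd_card' 2 h
  have hx2 : (x : C) * (x : C) = 1 := by
    rw [← pow_two, ← hx, ← Subgroup.coe_pow, pow_orderOf_eq_one, OneMemClass.coe_one]
  have h1 := involution_eq_one hZ hO C.subtype S (fun m s hs => hC _ m.2 s hs) (x : C) x.2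
    (by rw [← map_mul, hx2, map_one])
  have h2 : x = 1 := Subtype.ext (Subtype.ext h1)
  rw [h2, orderOf_one] at hx
  omega

/-- Sylow 2-subgroups abelian with normal complement; solvable. -/
theorem main (hFT : ∀ (X : Type u) [Group X] [Finite X], Odd (Nat.card X) → Group.IsSolvable X)
    (hZ : ZStarProp.{u})
    (hO : ∀ N : Subgroup G, N.Normal → Odd (Nat.card N) → N = ⊥) (S : Sylow 2 G)
    (C : Subgroup (MulAut G)) (hC : ∀ φ : MulAut G, φ ∈ C ↔ ∀ s : G, s ∈ S → φ s = s) :
    (∀ T : Sylow 2 ↥C, (∀ a b : ↥T, a * b = b * a) ∧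
      ∃ N : Subgroup ↥C, N.Normal ∧ Subgroup.IsComplement' N (T : Subgroup ↥C)) ∧
    Group.IsSolvable ↥C := by
  haveI := Fact.mk Nat.prime_two
  have hodd := odd_card_commutator hZ hO S C fun φ hφ => (hC φ).mp hφ
  have hsolv : Group.IsSolvable ↥C := by
    haveI := hFT (commutator ↥C) hodd
    exact (Group.isSolvable_iff_subgroup_quotient (commutator ↥C)).mpr ⟨inferInstance, Group.isSolvable_of_comm (fun a b : Abelianization ↥C => mul_comm a b)⟩
  refine ⟨fun T => ?_, hsolv⟩
  have hdisj : Disjoint (T : Subgroup ↥C) (commutator ↥C) := by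
    obtain ⟨n, hn⟩ := IsPGroup.iff_card.mp T.isPGroup'
    exact disjoint_iff.mpr (inf_eq_bot_of_coprime (by
      rw [hn]; exact (Nat.coprime_two_left.mpr hodd).pow_left n))
  refine ⟨fun a b => ?_, ?_⟩
  · have h1 : ⁅(a : C), (b : C)⁆ ∈ (T : Subgroup ↥C) ⊓ commutator ↥C :=
      ⟨(T : Subgroup ↥C).mul_mem ((T : Subgroup ↥C).mul_mem ((T : Subgroup ↥C).mul_mem a.2 b.2)
        ((T : Subgroup ↥C).inv_mem a.2)) ((T : Subgroup ↥C).inv_mem b.2),
        by rw [_root_.commutator_def]; exact commutator_mem_commutator (mem_top _) (mem_top _)⟩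
    rw [disjoint_iff.mp hdisj, mem_bot, commutatorElement_eq_one_iff_mul_comm] at h1
    exact Subtype.ext h1
  · let A := Abelianization ↥C
    let f : ↥C →* A := Abelianization.of
    let TA : Sylow 2 A := T.mapSurjective (f := f) (QuotientGroup.mk'_surjective _)
    obtain ⟨n, hn⟩ := IsPGroup.iff_card.mp TA.isPGroup'
    obtain ⟨H, hH⟩ := exists_right_complement'_of_coprime (N := (TA : Subgroup A)) TA.card_coprime_index
    refine ⟨H.comap f, inferInstance, ?_⟩
    have hTA : (TA : Subgroup A) = (T : Subgroup ↥C).map f := rfl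
    apply isComplement'_of_card_mul_and_disjoint
    · have h1 : Nat.card (T : Subgroup ↥C) = Nat.card (TA : Subgroup A) := by
        rw [hTA, Nat.card_congr (MonoidHom.ofInjective (f := f.comp (T : Subgroup ↥C).subtype) ?_).toEquiv,
          MonoidHom.range_comp, range_subtype]
        rw [← MonoidHom.ker_eq_bot_iff, eq_bot_iff]
        intro x hx
        have h2 : (x : C) ∈ commutator ↥C := (QuotientGroup.eq_one_iff _).mp hx
        exact Subtype.ext (disjoint_def.mp hdisj x.2 h2)
      rw [h1, ← hH.index_eq_card, ← H.index_comap_of_surjective (f := f) (QuotientGroup.mk'_surjective _), mul_comm, index_mul_card]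
    · rw [disjoint_def]
      intro x hx hxT
      have h1 : f x = 1 := disjoint_def.mp hH.symm.disjoint hx (hTA ▸ mem_map_of_mem f hxT)
      exact disjoint_def.mp hdisj hxT ((QuotientGroup.eq_one_iff _).mp h1)

end Cfsg.Agent.AutFixSylow67
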