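import Cfsg.Agent.Lib.ChevAutForm
import Cfsg.Agent.Lib.ChevalleyTorusCard
import Cfsg.Prelude.Def_KGroupFacts

/-!
The outer automorphism group of a Chevalley group.
-/

set_option autoImplicit false
set_option linter.unusedSimpArgs false
set_option linter.unusedSectionVars false

namespace Cfsg.Agent.ChevAutOut

open Cfsg.Lie Cfsg.Agent.ChevalleyCert Cfsg.Agent.ChevalleyCore Cfsg.Agent.ChevBruhat
open Cfsg.Agent Cfsg.Agent.ChevAutRigid Cfsg.Agent.ChevAutStd Cfsg.Agent.ChevAutForm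

/-- the data the constructions need -/
structure Ctx (D : ChevalleyDatum) (F : Type*) [Field F] where
  hD : D ∈ [chevG2, chevB2, chevD4, chevF4, chevE6, chevE7, chevE8]
  C : Cert D
  S : Sys D F

variable {D : ChevalleyDatum} {F : Type*} [Field F]

theorem Ctx.exists_ctx (hD : D ∈ [chevG2, chevB2, chevD4, chevF4, chevE6, chevE7, chevE8]) :
    Nonempty (Ctx D F) :=
  ⟨⟨hD, (ChevalleyAll.cert_nonempty D hD).some, ChevBruhatInstance.sys D hD F⟩⟩

variable (X : Ctx D F)

/-- the automorphisms fixing `U` and `V` -/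
def St (D : ChevalleyDatum) (F : Type*) [Field F] : Subgroup (MulAut ↥(D.group F)) where
  carrier := {θ | Fix θ}
  one_mem' := ⟨fun _ => Iff.rfl, fun _ => Iff.rfl⟩
  mul_mem' := fun {θ θ'} h h' => ⟨fun y => (h.U (θ' y)).trans (h'.U y), fun y => (h.V (θ' y)).trans (h'.V y)⟩
  inv_mem' := fun {θ} h => ⟨fun y => by
      have := h.U (θ.symm y); rw [MulEquiv.apply_symm_apply] at this; exact this.symm,
    fun y => by
      have := h.V (θ.symm y); rw [MulEquiv.apply_symm_apply] at this; exact this.symm⟩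

theorem mem_St {θ : MulAut ↥(D.group F)} : θ ∈ St D F ↔ Fix θ := Iff.rfl

/-! ### diagonal and field automorphisms -/

/-- the diagonal automorphism with given scalars -/
noncomputable def dFun (c : Fin D.rank → Fˣ) : MulAut ↥(D.group F) :=
  Classical.choose (exists_diag X.C X.hD (chr_isChar X.C c))

theorem dFun_spec (c : Fin D.rank → Fˣ) :
    D.IsDiagonalAut (dFun X c) ∧
      ∀ r, r < D.nroots → ∀ t, dFun X c (xG X.C r t) = xG X.C r ((chr X.C c r : F) * t) :=
  Classical.choose_spec (exists_diag X.C X.hD (chr_isChar X.C c))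

theorem dFun_form (c : Fin D.rank → Fˣ) : Form X.C (dFun X c) 1 (RingEquiv.refl F) c := by
  constructor
  · intro i t
    rw [(dFun_spec X c).2 _ (ChevalleyRoots.simple_lt X.C i.isLt), chr_simple, ex_one, pow_one]
    rfl
  · intro i t
    rw [(dFun_spec X c).2 _ (X.C.neg_lt _), chr_neg X.C c (ChevalleyRoots.simple_lt X.C i.isLt),
      chr_simple, ex_one, pow_one]
    rfl

/-- diagonal automorphisms, as a homomorphism -/
noncomputable def dHom : (Fin D.rank → Fˣ) →* MulAut ↥(D.group F) :=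
  MonoidHom.mk' (dFun X) fun a b => aut_ext X.C _ _ fun i t => by
    constructor
    · rw [MulAut.mul_apply, (dFun_form X b).pos, Equiv.Perm.one_apply, (dFun_form X a).pos,
        (dFun_form X (a * b)).pos]
      simp [ex_one, mul_assoc]
    · rw [MulAut.mul_apply, (dFun_form X b).neg, Equiv.Perm.one_apply, (dFun_form X a).neg,
        (dFun_form X (a * b)).neg]
      simp [ex_one, mul_assoc, mul_comm, mul_left_comm]

/-- the field automorphism of a field automorphism -/
noncomputable def fFun (τ : F ≃+* F) : MulAut ↥(D.group F) :=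
  Classical.choose (exists_field X.C τ)

theorem fFun_spec (τ : F ≃+* F) :
    D.IsFieldAut (fFun X τ) ∧ ∀ r, r < D.nroots → ∀ t, fFun X τ (xG X.C r t) = xG X.C r (τ t) :=
  Classical.choose_spec (exists_field X.C τ)

theorem fFun_form (τ : F ≃+* F) : Form X.C (fFun X τ) 1 τ 1 := by
  constructor
  · intro i t
    rw [(fFun_spec X τ).2 _ (ChevalleyRoots.simple_lt X.C i.isLt), ex_one, pow_one]
    simp
  · intro i t
    rw [(fFun_spec X τ).2 _ (X.C.neg_lt _), ex_one, pow_one]
    simp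

/-- field automorphisms, as a homomorphism -/
noncomputable def fHom : (F ≃+* F) →* MulAut ↥(D.group F) :=
  MonoidHom.mk' (fFun X) fun a b => aut_ext X.C _ _ fun i t => by
    have hs := ChevalleyRoots.simple_lt X.C i.isLt
    constructor
    · rw [MulAut.mul_apply, (fFun_spec X b).2 _ hs, (fFun_spec X a).2 _ hs, (fFun_spec X (a * b)).2 _ hs]
      rfl
    · rw [MulAut.mul_apply, (fFun_spec X b).2 _ (X.C.neg_lt _), (fFun_spec X a).2 _ (X.C.neg_lt _),
        (fFun_spec X (a * b)).2 _ (X.C.neg_lt _)]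
      rfl

theorem df_form (c : Fin D.rank → Fˣ) (τ : F ≃+* F) : Form X.C (dHom X c * fHom X τ) 1 τ c := by
  constructor
  · intro i t
    rw [MulAut.mul_apply]
    change dFun X c (fFun X τ _) = _
    rw [(fFun_spec X τ).2 _ (ChevalleyRoots.simple_lt X.C i.isLt), (dFun_form X c).pos]
    simp only [ex_one, pow_one]; rfl
  · intro i t
    rw [MulAut.mul_apply]
    change dFun X c (fFun X τ _) = _
    rw [(fFun_spec X τ).2 _ (X.C.neg_lt _), (dFun_form X c).neg]
    simp only [ex_one, pow_one]; rfl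

/-- the diagonal automorphisms of the Prelude -/
theorem diag_iff {φ : MulAut ↥(D.group F)} : D.IsDiagonalAut φ ↔ φ ∈ (dHom X).range := by
  constructor
  · rintro ⟨χ, hχ, hφ⟩
    refine ⟨fun i => χ (D.simple i), Form.ext' X.C (dFun_form X _) ?_⟩
    have hv : ∀ r, r < D.nroots → ∀ t, φ (xG X.C r t) = xG X.C r ((χ r : F) * t) := fun r hr t => by
      refine Subtype.ext (Units.ext ?_)
      rw [hφ, coe_coe_xG, coe_coe_xG]
      exact S2157.result D X.hD χ hχ r hr t
    constructor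
    · intro i t
      rw [hv _ (ChevalleyRoots.simple_lt X.C i.isLt), ex_one, pow_one]
      rfl
    · intro i t
      rw [hv _ (X.C.neg_lt _), hχ.1 _ (ChevalleyRoots.simple_lt X.C i.isLt), ex_one, pow_one]
      rfl
  · rintro ⟨c, rfl⟩
    exact (dFun_spec X c).1

/-- the field automorphisms of the Prelude -/
theorem field_iff {φ : MulAut ↥(D.group F)} : D.IsFieldAut φ ↔ φ ∈ (fHom X).range := by
  constructor
  · rintro ⟨τ, hτ⟩
    refine ⟨τ, Form.ext' X.C (fFun_form X τ) ?_⟩
    constructor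
    · intro i t
      have := hτ (xG X.C (D.simple i) t) (D.simple i) t (ChevalleyRoots.simple_lt X.C i.isLt)
        (coe_coe_xG X.C _ _)
      rw [eq_xG X.C this, ex_one, pow_one]
      simp
    · intro i t
      have := hτ (xG X.C (D.neg (D.simple i)) t) (D.neg (D.simple i)) t (X.C.neg_lt _)
        (coe_coe_xG X.C _ _)
      rw [eq_xG X.C this, ex_one, pow_one]
      simp
  · rintro ⟨τ, rfl⟩
    exact (fFun_spec X τ).1

theorem closure_diag :
    Subgroup.closure {φ : MulAut ↥(D.group F) | D.IsDiagonalAut φ} = (dHom X).range := by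
  refine le_antisymm ((Subgroup.closure_le _).2 fun φ h => (diag_iff X).1 h) ?_
  exact fun φ h => Subgroup.subset_closure ((diag_iff X).2 h)

theorem closure_field :
    Subgroup.closure {φ : MulAut ↥(D.group F) | D.IsFieldAut φ} = (fHom X).range := by
  refine le_antisymm ((Subgroup.closure_le _).2 fun φ h => (field_iff X).1 h) ?_
  exact fun φ h => Subgroup.subset_closure ((field_iff X).2 h)

section Finite

variable [Finite F]

theorem df_mem (c : Fin D.rank → Fˣ) (τ : F ≃+* F) : dHom X c * fHom X τ ∈ St D F :=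
  Form.fix X.C (df_form X c τ) X.S

theorem d_mem (c : Fin D.rank → Fˣ) : dHom X c ∈ St D F := Form.fix X.C (dFun_form X c) X.S
theorem f_mem (τ : F ≃+* F) : fHom X τ ∈ St D F := Form.fix X.C (fFun_form X τ) X.S

theorem st_form (θ : ↥(St D F)) :
    ∃ π τ c, D.IsDiagramSymmetry π ∧ Form X.C θ.1 π τ c :=
  exists_form X.C X.hD X.S θ.2

/-- the node permutation -/
noncomputable def pOf (θ : ↥(St D F)) : Equiv.Perm (Fin D.rank) := Classical.choose (st_form X θ)

theorem pOf_spec (θ : ↥(St D F)) :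
    D.IsDiagramSymmetry (pOf X θ) ∧ ∃ τ c, Form X.C θ.1 (pOf X θ) τ c := by
  obtain ⟨τ, c, h1, h2⟩ := Classical.choose_spec (st_form X θ)
  exact ⟨h1, τ, c, h2⟩

theorem pOf_eq {θ : ↥(St D F)} {π : Equiv.Perm (Fin D.rank)} {τ : F ≃+* F} {c : Fin D.rank → Fˣ}
    (h : Form X.C θ.1 π τ c) : pOf X θ = π := by
  obtain ⟨-, τ', c', h'⟩ := pOf_spec X θ
  exact Form.perm_eq X.C h' h

/-- the node permutation, as a homomorphism -/
noncomputable def pHom : ↥(St D F) →* Equiv.Perm (Fin D.rank) :=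
  MonoidHom.mk' (pOf X) fun θ θ' => by
    obtain ⟨-, τ, c, h⟩ := pOf_spec X θ
    obtain ⟨-, τ', c', h'⟩ := pOf_spec X θ'
    obtain ⟨-, τ'', c'', h''⟩ := pOf_spec X (θ * θ')
    refine Equiv.ext fun i => Fin.ext (ChevalleyRoots.simple_inj X.C (Fin.isLt _) (Fin.isLt _) ?_)
    have e := h''.pos i 1
    rw [Subgroup.coe_mul, MulAut.mul_apply, h'.pos, h.pos] at e
    refine (xG_inj X.C (ChevalleyRoots.simple_lt X.C (Fin.isLt _))
      (ChevalleyRoots.simple_lt X.C (Fin.isLt _)) ?_ e.symm).1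
    simp

theorem pHom_eq {θ : ↥(St D F)} {π : Equiv.Perm (Fin D.rank)} {τ : F ≃+* F} {c : Fin D.rank → Fˣ}
    (h : Form X.C θ.1 π τ c) : pHom X θ = π := pOf_eq X h

theorem pHom_sym (θ : ↥(St D F)) : D.IsDiagramSymmetry (pHom X θ) := (pOf_spec X θ).1

/-- parametrisation of the automorphisms with trivial node permutation -/
noncomputable def kerEquiv : (Fin D.rank → Fˣ) × (F ≃+* F) ≃ ↥(pHom X).ker :=
  Equiv.ofBijective
    (fun p => ⟨⟨dHom X p.1 * fHom X p.2, df_mem X p.1 p.2⟩,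
      MonoidHom.mem_ker.2 (pHom_eq X (df_form X p.1 p.2))⟩)
    ⟨fun p p' h => by
      have h' : dHom X p.1 * fHom X p.2 = dHom X p'.1 * fHom X p'.2 :=
        congrArg (fun z : ↥(pHom X).ker => ((z : ↥(St D F)) : MulAut ↥(D.group F))) h
      obtain ⟨h1, h2⟩ := Form.param_eq X.C (hasShort_all D X.hD) (df_form X p.1 p.2)
        (h' ▸ df_form X p'.1 p'.2)
      exact Prod.ext h2 h1,
    fun θ => by
      obtain ⟨-, τ, c, h⟩ := pOf_spec X θ.1
      have h1 : pOf X θ.1 = 1 := MonoidHom.mem_ker.1 θ.2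
      rw [h1] at h
      exact ⟨(c, τ), Subtype.ext (Subtype.ext (Form.ext' X.C (df_form X c τ) h))⟩⟩

theorem card_ker : Nat.card ↥(pHom X).ker =
    Nat.card Fˣ ^ D.rank * Nat.card (F ≃+* F) := by
  rw [← Nat.card_congr (kerEquiv X), Nat.card_prod, Nat.card_fun, Nat.card_fin]

/-! ### passing to the outer automorphism group -/

/-- the map to the outer automorphism group -/
def qSt (D : ChevalleyDatum) (F : Type*) [Field F] : ↥(St D F) →* Cfsg.Out ↥(D.group F) :=
  (QuotientGroup.mk' (Cfsg.Inn ↥(D.group F))).comp (St D F).subtype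

include X in
theorem qSt_surjective : Function.Surjective (qSt D F) := by
  intro y
  obtain ⟨θ, rfl⟩ := QuotientGroup.mk'_surjective _ y
  obtain ⟨x, θ', hfix, hx⟩ := exists_fix X.C X.S θ
  refine ⟨⟨θ', hfix⟩, ?_⟩
  have e : θ = MulAut.conj x * θ' := MulEquiv.ext fun z => by simp [hx z]
  rw [e, map_mul]
  have h1 : QuotientGroup.mk' (Cfsg.Inn ↥(D.group F)) (MulAut.conj x) = 1 :=
    (QuotientGroup.eq_one_iff _).2 ⟨x, rfl⟩
  rw [h1, one_mul]
  rfl

/-- `H` inside the group -/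
def HG (D : ChevalleyDatum) (F : Type*) [Field F] : Subgroup ↥(D.group F) :=
  (D.diagonalSubgroup F).subgroupOf (D.group F)

theorem conj_H_form {x : ↥(D.group F)} (hx : x ∈ HG D F) :
    ∃ a : Fin D.rank → Fˣ, ChevalleyTorus.torus D a = (x : GL D.Idx F) ∧
      Form X.C (MulAut.conj x) 1 (RingEquiv.refl F) (fun i => ChevalleyTorus.tchar D a (D.simple i)) := by
  obtain ⟨a, ha⟩ := (ChevalleyTorus.mem_H_iff X.C).1 (Subgroup.mem_subgroupOf.1 hx)
  refine ⟨a, ha, ?_⟩
  constructor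
  · intro i t
    apply Subtype.ext
    simp only [MulAut.conj_apply, Subgroup.coe_mul, InvMemClass.coe_inv, coe_xG, ex_one, pow_one,
      Equiv.Perm.one_apply, RingEquiv.refl_apply, ← ha]
    exact ChevalleyTorus.torus_conj_xg X.C (ChevalleyRoots.simple_lt X.C i.isLt) a t
  · intro i t
    apply Subtype.ext
    simp only [MulAut.conj_apply, Subgroup.coe_mul, InvMemClass.coe_inv, coe_xG, ex_one, pow_one,
      Equiv.Perm.one_apply, RingEquiv.refl_apply, ← ha]
    rw [ChevalleyTorus.torus_conj_xg X.C (X.C.neg_lt _) a t]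
    congr 3
    simp only [ChevalleyTorus.tchar, ← Finset.prod_inv_distrib, ← zpow_neg,
      ChevalleyRoots.cartan_neg X.C (Fin.isLt _) (ChevalleyRoots.simple_lt X.C i.isLt)]

include X in
theorem conj_mem_St {x : ↥(D.group F)} : MulAut.conj x ∈ St D F ↔ x ∈ HG D F := by
  refine ⟨fun h => ?_, fun h => ?_⟩
  swap
  · obtain ⟨a, -, hf⟩ := conj_H_form X h
    exact Form.fix X.C hf X.S
  have hB : x ∈ BG D F := by
    rw [← normalizer_UG X.S, Subgroup.mem_normalizer_iff]
    exact fun y => (h.U y).symm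
  obtain ⟨t, ht, u, hu, e⟩ := X.S.mem_B_iff.1 (mem_BG.1 hB)
  obtain ⟨n0, hn0⟩ := exists_long X.S
  have htH : (⟨t, X.S.H_le_group ht⟩ : ↥(D.group F)) ∈ HG D F := ht
  obtain ⟨a, -, hf⟩ := conj_H_form X htH
  set tG : ↥(D.group F) := ⟨t, X.S.H_le_group ht⟩
  set uG : ↥(D.group F) := ⟨u, X.S.U_le_group hu⟩ with huG
  have huV : ∀ y, uG * y * uG⁻¹ ∈ VG D F ↔ y ∈ VG D F := fun y => by
    have h1 := (Form.fix X.C hf X.S).V (uG * y * uG⁻¹)
    have h2 := h.V y
    have e' : x = tG * uG := Subtype.ext e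
    rw [e', map_mul, MulAut.mul_apply, MulAut.conj_apply uG] at h2
    exact h1.symm.trans h2
  set m := (ofN X.S n0)⁻¹ * uG * ofN X.S n0 with hm
  have hmV : m ∈ VG D F := by
    rw [← conj_mem_UG X.S hn0, hm]
    simpa [mul_assoc] using (show uG ∈ UG D F from hu)
  have hmB : m ∈ BG D F := by
    rw [← normalizer_UG X.S, Subgroup.mem_normalizer_iff]
    intro y
    have := huV (ofN X.S n0 * y * (ofN X.S n0)⁻¹)
    rw [conj_mem_VG X.S hn0] at this
    rw [← this, ← conj_mem_VG X.S hn0 (y := m * y * m⁻¹), hm]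
    simp [mul_assoc]
  have hm1 : m = 1 := Subtype.ext (show (m : GL D.Idx F) = 1 from
    Subgroup.mem_bot.1 (X.S.B_inf_V.le ⟨hmB, hmV⟩))
  have hu1 : uG = 1 := by
    have h' : (ofN X.S n0)⁻¹ * uG * (ofN X.S n0)⁻¹⁻¹ = 1 := by rw [inv_inv]; exact hm1
    exact conj_eq_one_iff.mp h'
  have hx : (x : GL D.Idx F) = t := by
    rw [e, show u = 1 from congrArg Subtype.val hu1, mul_one]
  exact Subgroup.mem_subgroupOf.2 (hx ▸ ht)

theorem ker_le : (qSt D F).ker ≤ (pHom X).ker := by
  rintro ⟨θ, hθ⟩ h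
  rw [MonoidHom.mem_ker] at h ⊢
  obtain ⟨x, rfl⟩ := (QuotientGroup.eq_one_iff _).1 h
  obtain ⟨a, -, hf⟩ := conj_H_form X ((conj_mem_St X).1 hθ)
  exact pHom_eq X hf

include X in
theorem torus_eq_one {a : Fin D.rank → Fˣ}
    (h : ∀ i : Fin D.rank, ChevalleyTorus.tchar D a (D.simple i) = 1) :
    ChevalleyTorus.torus D a = 1 := by
  apply Units.ext
  rw [ChevalleyTorus.coe_torus, Units.val_one, ChevalleyTorus.tmat, ← Matrix.diagonal_one]
  congr 1
  funext q
  rcases q with j | s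
  · rfl
  · have hs : ChevalleyTorus.tchar D a s.val =
        ∏ j : Fin D.rank, ChevalleyTorus.tchar D a (D.simple j) ^ X.C.coef s.val j := by
      simp only [ChevalleyTorus.tchar, ← Finset.prod_zpow, ← zpow_mul]
      rw [Finset.prod_comm]
      refine Finset.prod_congr rfl fun i _ => ?_
      rw [ChevalleyRoots.cartan_lin' X.C i.isLt s.isLt, Finset.sum_range]
      induction (Finset.univ : Finset (Fin D.rank)) using Finset.induction_on with
      | empty => simp
      | insert b T hb ih => rw [Finset.sum_insert hb, Finset.prod_insert hb, zpow_add, ih, mul_comm (X.C.coef _ _)]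
    simp [hs, h]

include X in
theorem card_kerQ : Nat.card ↥(qSt D F).ker = Nat.card ↥(D.diagonalSubgroup F) := by
  have e : ↥(HG D F) ≃ ↥(D.diagonalSubgroup F) :=
    (Subgroup.subgroupOfEquivOfLe X.S.H_le_group).toEquiv
  rw [← Nat.card_congr e]
  refine (Nat.card_eq_of_bijective
    (fun x : ↥(HG D F) => (⟨⟨MulAut.conj x.1, (conj_mem_St X).2 x.2⟩,
      MonoidHom.mem_ker.2 ((QuotientGroup.eq_one_iff _).2 ⟨x.1, rfl⟩)⟩ : ↥(qSt D F).ker)) ⟨?_, ?_⟩).symm
  · intro x y h
    have h' : MulAut.conj x.1 = MulAut.conj y.1 :=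
      congrArg (fun z : ↥(qSt D F).ker => ((z : ↥(St D F)) : MulAut ↥(D.group F))) h
    set z := x * y⁻¹ with hz
    have hz1 : MulAut.conj (z : ↥(D.group F)) = 1 := by
      rw [hz, Subgroup.coe_mul, InvMemClass.coe_inv, map_mul, map_inv, h', mul_inv_cancel]
    obtain ⟨a, ha, hf⟩ := conj_H_form X z.2
    have h1 : Form X.C (1 : MulAut ↥(D.group F)) 1 (RingEquiv.refl F) 1 := by
      constructor <;> intro i t <;> simp [ex_one]
    rw [hz1] at hf
    have hc := (Form.param_eq X.C (hasShort_all D X.hD) hf h1).2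
    have h2 := torus_eq_one X fun i => congrFun hc i
    rw [ha] at h2
    have h3 : z = 1 := Subtype.ext (Subtype.ext h2)
    exact mul_inv_eq_one.1 (hz ▸ h3)
  · rintro ⟨⟨θ, hθ⟩, h⟩
    obtain ⟨x, rfl⟩ := (QuotientGroup.eq_one_iff _).1 (MonoidHom.mem_ker.1 h)
    exact ⟨⟨x, (conj_mem_St X).1 hθ⟩, rfl⟩

/-- `|Out| |H| = |realised symmetries| (q-1)^l |Aut F|` -/
theorem card_out : Nat.card (Cfsg.Out ↥(D.group F)) * Nat.card ↥(D.diagonalSubgroup F) =
    Nat.card ↥(pHom X).range * (Nat.card Fˣ ^ D.rank * Nat.card (F ≃+* F)) := by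
  have h1 := (qSt D F).ker.card_mul_index
  rw [Subgroup.index_ker, card_kerQ X, MonoidHom.range_eq_top.2 (qSt_surjective X),
    Subgroup.card_top] at h1
  have h2 := (pHom X).ker.card_mul_index
  rw [Subgroup.index_ker, card_ker X] at h2
  rw [mul_comm, h1, ← h2, mul_comm]

/-- diagonal automorphisms form a normal subgroup of the automorphisms fixing `U` and `V` -/
theorem conj_dHom (θ : ↥(St D F)) (a : Fin D.rank → Fˣ) :
    ∃ a', (θ : MulAut ↥(D.group F)) * dHom X a * (θ : MulAut ↥(D.group F))⁻¹ = dHom X a' := by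
  obtain ⟨-, τ, c, h⟩ := pOf_spec X θ
  set π := pOf X θ with hπ
  refine ⟨fun j => Units.map (τ : F →* F) (a (π.symm j)) ^ ex D F π (π.symm j), ?_⟩
  rw [mul_inv_eq_iff_eq_mul]
  refine aut_ext X.C _ _ fun i t => ?_
  constructor
  · rw [MulAut.mul_apply, MulAut.mul_apply, h.pos]
    change θ.1 (dFun X a _) = dFun X _ _
    rw [(dFun_form X a).pos, (dFun_form X _).pos, Equiv.Perm.one_apply, Equiv.Perm.one_apply, h.pos]
    congr 1
    simp [ex_one, mul_pow]
    ring
  · rw [MulAut.mul_apply, MulAut.mul_apply, h.neg]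
    change θ.1 (dFun X a _) = dFun X _ _
    rw [(dFun_form X a).neg, (dFun_form X _).neg, Equiv.Perm.one_apply, Equiv.Perm.one_apply, h.neg]
    congr 1
    simp [ex_one, mul_pow]
    ring

theorem range_sup_eq : (dHom X).range ⊔ (fHom X).range = (pHom X).ker.map (St D F).subtype := by
  apply le_antisymm
  · refine sup_le ?_ ?_
    · rintro _ ⟨c, rfl⟩
      exact ⟨⟨_, d_mem X c⟩, MonoidHom.mem_ker.2 (pHom_eq X (dFun_form X c)), rfl⟩
    · rintro _ ⟨τ, rfl⟩
      exact ⟨⟨_, f_mem X τ⟩, MonoidHom.mem_ker.2 (pHom_eq X (fFun_form X τ)), rfl⟩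
  · rintro _ ⟨θ, hθ, rfl⟩
    obtain ⟨⟨c, τ⟩, e⟩ := (kerEquiv X).surjective ⟨θ, hθ⟩
    have e' : dHom X c * fHom X τ = (θ : MulAut ↥(D.group F)) :=
      congrArg (fun z : ↥(pHom X).ker => ((z : ↥(St D F)) : MulAut ↥(D.group F))) e
    rw [Subgroup.coe_subtype, ← e']
    exact Subgroup.mul_mem_sup ⟨c, rfl⟩ ⟨τ, rfl⟩

end Finite

end Cfsg.Agent.ChevAutOut
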