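import Mathlib
import Cfsg.Agent.Lib.SymplecticBasic
import Cfsg.Agent.Lib.SymplecticAlt

/-!
Orthogonal decompositions `Sp_k × Sp_l ≤ Sp_{k+l}` and adapted symplectic bases.
-/

set_option autoImplicit false

open Matrix Cfsg.Agent.SymplecticBasic

namespace Cfsg.Agent.SymplecticDecomp

variable {F : Type*} [Field F] {k l : ℕ}

/-- The index equivalence of an orthogonal splitting. -/
def splitIdx (k l : ℕ) : (Fin k ⊕ Fin k) ⊕ (Fin l ⊕ Fin l) ≃ Fin (k + l) ⊕ Fin (k + l) :=
  (Equiv.sumSumSumComm _ _ _ _).trans (Equiv.sumCongr finSumFinEquiv finSumFinEquiv)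

theorem form_split (x y : Fin (k + l) ⊕ Fin (k + l) → F) :
    sympForm (k + l) F x y =
      sympForm k F (fun s => x (splitIdx k l (Sum.inl s))) (fun s => y (splitIdx k l (Sum.inl s))) +
      sympForm l F (fun s => x (splitIdx k l (Sum.inr s))) (fun s => y (splitIdx k l (Sum.inr s))) := by
  simp [form_eq_sum, Fin.sum_univ_add, splitIdx, Equiv.sumSumSumComm]
  ring

/-- The block diagonal embedding, as a matrix. -/
def blockMat (A : Matrix (Fin k ⊕ Fin k) (Fin k ⊕ Fin k) F)
    (B : Matrix (Fin l ⊕ Fin l) (Fin l ⊕ Fin l) F) :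
    Matrix (Fin (k + l) ⊕ Fin (k + l)) (Fin (k + l) ⊕ Fin (k + l)) F :=
  (Matrix.fromBlocks A 0 0 B).submatrix (splitIdx k l).symm (splitIdx k l).symm

theorem blockMat_mulVec (A : Matrix (Fin k ⊕ Fin k) (Fin k ⊕ Fin k) F)
    (B : Matrix (Fin l ⊕ Fin l) (Fin l ⊕ Fin l) F) (x : Fin (k + l) ⊕ Fin (k + l) → F) :
    (fun s => (blockMat A B *ᵥ x) (splitIdx k l (Sum.inl s))) =
        A *ᵥ (fun s => x (splitIdx k l (Sum.inl s))) ∧
    (fun s => (blockMat A B *ᵥ x) (splitIdx k l (Sum.inr s))) =
        B *ᵥ (fun s => x (splitIdx k l (Sum.inr s))) := by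
  rw [blockMat, Matrix.submatrix_mulVec_equiv]
  constructor <;> funext s <;>
    simp [Matrix.fromBlocks_mulVec, Function.comp_def]

/-- The block diagonal embedding `Sp_k × Sp_l → Sp_{k+l}`. -/
def blockHom (F : Type*) [Field F] (k l : ℕ) :
    symplecticGroup (Fin k) F × symplecticGroup (Fin l) F →* symplecticGroup (Fin (k + l)) F where
  toFun p := ⟨blockMat p.1.1 p.2.1, mem_sp_iff_form.mpr fun u v => by
    rw [form_split, form_split, (blockMat_mulVec _ _ u).1, (blockMat_mulVec _ _ u).2,
      (blockMat_mulVec _ _ v).1, (blockMat_mulVec _ _ v).2, mem_sp_iff_form.mp p.1.2,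
      mem_sp_iff_form.mp p.2.2]⟩
  map_one' := Subtype.ext (by
    show blockMat 1 1 = 1
    rw [blockMat, Matrix.fromBlocks_one, Matrix.submatrix_one_equiv])
  map_mul' p q := Subtype.ext (by
    show blockMat _ _ = blockMat _ _ * blockMat _ _
    rw [blockMat, blockMat, blockMat, Matrix.submatrix_mul_equiv, Matrix.fromBlocks_multiply]
    simp)

theorem blockHom_coe (p : symplecticGroup (Fin k) F × symplecticGroup (Fin l) F) :
    (blockHom F k l p : Matrix (Fin (k + l) ⊕ Fin (k + l)) (Fin (k + l) ⊕ Fin (k + l)) F) =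
      blockMat p.1.1 p.2.1 := rfl

theorem blockHom_injective : Function.Injective (blockHom F k l) := by
  intro p q h
  have h1 : blockMat p.1.1 p.2.1 = blockMat q.1.1 q.2.1 := congrArg Subtype.val h
  have h2 : Matrix.fromBlocks p.1.1 0 0 p.2.1 = Matrix.fromBlocks q.1.1 0 0 q.2.1 :=
    Matrix.ext fun i j => by
      simpa [blockMat] using congrFun (congrFun h1 (splitIdx k l i)) (splitIdx k l j)
  obtain ⟨e1, -, -, e2⟩ := Matrix.fromBlocks_inj.mp h2
  exact Prod.ext (Subtype.ext e1) (Subtype.ext e2)

theorem mem_sp_of_single {m : ℕ} {A : Matrix (Fin m ⊕ Fin m) (Fin m ⊕ Fin m) F}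
    (h : ∀ s t, sympForm m F (A *ᵥ Pi.single s 1) (A *ᵥ Pi.single t 1) =
      sympForm m F (Pi.single s 1) (Pi.single t 1)) :
    A ∈ symplecticGroup (Fin m) F := by
  refine SymplecticGroup.mem_iff'.mpr (Matrix.ext fun i j => ?_)
  have key : ∀ u v, sympForm m F (A *ᵥ u) (A *ᵥ v) = u ⬝ᵥ ((Aᵀ * J (Fin m) F * A) *ᵥ v) := by
    intro u v
    rw [← Matrix.mulVec_mulVec, ← Matrix.mulVec_mulVec, Matrix.dotProduct_mulVec,
      Matrix.vecMul_transpose]
    rfl
  have h1 := h i j
  rw [key, sympForm] at h1
  simpa [Matrix.mulVec_single_one] using h1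

theorem split_single_inl (s : Fin k ⊕ Fin k) :
    (fun a => (Pi.single (splitIdx k l (Sum.inl s)) 1 : Fin (k + l) ⊕ Fin (k + l) → F)
      (splitIdx k l (Sum.inl a))) = Pi.single s 1 ∧
    (fun a => (Pi.single (splitIdx k l (Sum.inl s)) 1 : Fin (k + l) ⊕ Fin (k + l) → F)
      (splitIdx k l (Sum.inr a))) = 0 := by
  constructor <;> funext a <;> simp [Pi.single_apply]

theorem split_single_inr (s : Fin l ⊕ Fin l) :
    (fun a => (Pi.single (splitIdx k l (Sum.inr s)) 1 : Fin (k + l) ⊕ Fin (k + l) → F)
      (splitIdx k l (Sum.inl a))) = 0 ∧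
    (fun a => (Pi.single (splitIdx k l (Sum.inr s)) 1 : Fin (k + l) ⊕ Fin (k + l) → F)
      (splitIdx k l (Sum.inr a))) = Pi.single s 1 := by
  constructor <;> funext a <;> simp [Pi.single_apply]

/-- The standard subspace of the first `k` hyperbolic pairs. -/
def headSpace (F : Type*) [Field F] (k l : ℕ) :
    Submodule F (Fin (k + l) ⊕ Fin (k + l) → F) where
  carrier := {x | ∀ s, x (splitIdx k l (Sum.inr s)) = 0}
  zero_mem' _ := rfl
  add_mem' {a b} ha hb s := by simp [ha s, hb s]
  smul_mem' c a ha s := by simp [ha s]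

theorem exists_map_head (W : Submodule F (Fin (k + l) ⊕ Fin (k + l) → F))
    (hWk : Module.finrank F W = 2 * k)
    (hW : ∀ u ∈ W, (∀ v ∈ W, sympForm (k + l) F u v = 0) → u = 0) :
    ∃ g : symplecticGroup (Fin (k + l)) F, ∀ x, g • x ∈ W ↔ x ∈ headSpace F k l := by
  let B : (Fin (k + l) ⊕ Fin (k + l) → F) →ₗ[F] (Fin (k + l) ⊕ Fin (k + l) → F) →ₗ[F] F :=
    LinearMap.mk₂ F (sympForm (k + l) F) form_add_left form_smul_left form_add_right form_smul_right
  have hB : ∀ v, B v v = 0 := fun v => form_self v
  obtain ⟨k', hk', e, he, hform⟩ := SymplecticAlt.exists_symp_basis B hB _ W hWk hW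
  obtain rfl : k' = k := by omega
  let L : (Fin (k' + l) ⊕ Fin (k' + l) → F) →ₗ[F] (Fin k' ⊕ Fin k' → F) :=
    LinearMap.pi fun s => B (e s)
  let ev : (Fin k' ⊕ Fin k' → F) →ₗ[F] (Fin (k' + l) ⊕ Fin (k' + l) → F) :=
    Fintype.linearCombination F e
  have hLev : ∀ c, L (ev c) = J (Fin k') F *ᵥ c := by
    intro c
    funext s
    show B (e s) (Fintype.linearCombination F e c) = _
    rw [Fintype.linearCombination_apply, map_sum]
    refine Finset.sum_congr rfl fun t _ => ?_
    rw [map_smul, hform, sympForm, smul_eq_mul, mul_comm]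
    simp [Matrix.mulVec_single_one]
  have hsurj : Function.Surjective L := fun y => ⟨ev (-(J (Fin k') F *ᵥ y)), by
    rw [hLev, Matrix.mulVec_neg, Matrix.mulVec_mulVec, Matrix.J_squared, Matrix.neg_mulVec,
      Matrix.one_mulVec, neg_neg]⟩
  have hrank : Module.finrank F (LinearMap.ker L) = 2 * l := by
    have h1 := L.finrank_range_add_finrank_ker
    rw [LinearMap.range_eq_top.mpr hsurj, finrank_top, Module.finrank_pi, Module.finrank_pi,
      Fintype.card_sum, Fintype.card_sum, Fintype.card_fin, Fintype.card_fin] at h1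
    omega
  have hP : ∀ x, x ∈ LinearMap.ker L ↔ ∀ s, sympForm (k' + l) F (e s) x = 0 := fun x => by
    rw [LinearMap.mem_ker, funext_iff]
    exact Iff.rfl
  have hnd : ∀ x ∈ LinearMap.ker L, (∀ y ∈ LinearMap.ker L, B x y = 0) → x = 0 := by
    intro x hx h
    refine form_nondeg fun y => ?_
    obtain ⟨c, hc⟩ : ∃ c, L (ev c) = L y := ⟨-(J (Fin k') F *ᵥ L y), by
      rw [hLev, Matrix.mulVec_neg, Matrix.mulVec_mulVec, Matrix.J_squared, Matrix.neg_mulVec,
        Matrix.one_mulVec, neg_neg]⟩
    have hy := h (y - ev c) (by rw [LinearMap.mem_ker, map_sub, hc, sub_self])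
    have hxe : B x (ev c) = 0 := by
      show B x (Fintype.linearCombination F e c) = 0
      rw [Fintype.linearCombination_apply, map_sum]
      refine Finset.sum_eq_zero fun t _ => ?_
      rw [map_smul, show B x (e t) = 0 from form_eq_zero_comm.mp ((hP x).mp hx t), smul_zero]
    rw [map_sub, hxe, sub_zero] at hy
    exact hy
  obtain ⟨l', hl', e', he', hform'⟩ := SymplecticAlt.exists_symp_basis B hB _ _ hrank hnd
  obtain rfl : l' = l := by omega
  let E : (Fin k' ⊕ Fin k') ⊕ (Fin l' ⊕ Fin l') → Fin (k' + l') ⊕ Fin (k' + l') → F := Sum.elim e e'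
  let A : Matrix (Fin (k' + l') ⊕ Fin (k' + l')) (Fin (k' + l') ⊕ Fin (k' + l')) F :=
    Matrix.of fun r t => E ((splitIdx k' l').symm t) r
  have hcol : ∀ t, A *ᵥ Pi.single (splitIdx k' l' t) 1 = E t := fun t => by
    rw [Matrix.mulVec_single_one]; funext r; simp [A]
  have hA : A ∈ symplecticGroup (Fin (k' + l')) F := by
    refine mem_sp_of_single fun s t => ?_
    obtain ⟨s, rfl⟩ := (splitIdx k' l').surjective s
    obtain ⟨t, rfl⟩ := (splitIdx k' l').surjective t
    rw [hcol, hcol, form_split (Pi.single (splitIdx k' l' s) 1)]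
    rcases s with s | s <;> rcases t with t | t <;>
      simp only [split_single_inl, split_single_inr, form_zero_left, form_zero_right, add_zero,
        zero_add, E, Sum.elim_inl, Sum.elim_inr]
    · exact hform s t
    · exact (hP _).mp (he' t) s
    · exact form_eq_zero_comm.mp ((hP _).mp (he' s) t)
    · exact hform' s t
  have hJinj : Function.Injective (fun c => J (Fin k') F *ᵥ c) := fun a b h => by
    have := congrArg (fun c => J (Fin k') F *ᵥ c) h
    simpa [Matrix.mulVec_mulVec, Matrix.J_squared, Matrix.neg_mulVec] using this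
  have hevinj : Function.Injective ev := fun a b h => hJinj (by
    have := congrArg L h
    simpa [hLev] using this)
  have hWev : W = LinearMap.range ev := by
    refine (Submodule.eq_of_le_of_finrank_eq ?_ ?_).symm
    · rintro _ ⟨c, rfl⟩
      show Fintype.linearCombination F e c ∈ W
      rw [Fintype.linearCombination_apply]
      exact Submodule.sum_mem _ fun i _ => W.smul_mem _ (he i)
    · rw [LinearMap.finrank_range_of_inj hevinj, hWk, Module.finrank_pi, Fintype.card_sum,
        Fintype.card_fin, two_mul]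
  refine ⟨⟨A, hA⟩, fun x => ⟨fun hx s => ?_, fun hx => ?_⟩⟩
  · have h0 : ∀ t, B (A *ᵥ x) (e' t) = 0 := by
      intro t
      rw [hWev] at hx
      obtain ⟨c, hc⟩ := hx
      rw [show A *ᵥ x = ev c from hc.symm]
      show B (Fintype.linearCombination F e c) (e' t) = 0
      rw [Fintype.linearCombination_apply, map_sum, LinearMap.sum_apply]
      exact Finset.sum_eq_zero fun i _ => by
        rw [map_smul, LinearMap.smul_apply, show B (e i) (e' t) = 0 from (hP _).mp (he' t) i,
          smul_zero]
    have h1 : ∀ t, sympForm (k' + l') F x (Pi.single (splitIdx k' l' (Sum.inr t)) 1) = 0 := fun t => by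
      rw [← mem_sp_iff_form.mp hA, hcol]; exact h0 t
    rcases s with a | a
    · have := h1 (Sum.inr a)
      rw [form_split, (split_single_inr _).1, (split_single_inr _).2, form_zero_right, zero_add,
        form_single_inr_right, neg_eq_zero] at this
      exact this
    · have := h1 (Sum.inl a)
      rw [form_split, (split_single_inr _).1, (split_single_inr _).2, form_zero_right, zero_add,
        form_single_inl_right] at this
      exact this
  · show A *ᵥ x ∈ W
    rw [pi_eq_sum_univ' x, Matrix.mulVec_sum]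
    refine Submodule.sum_mem _ fun t _ => ?_
    rw [Matrix.mulVec_smul]
    obtain ⟨t, rfl⟩ := (splitIdx k' l').surjective t
    rcases t with t | t
    · rw [hcol]; exact W.smul_mem _ (he t)
    · rw [hx t, zero_smul]; exact W.zero_mem

/-- The stabiliser of a nondegenerate subspace is a direct product. -/
theorem stab_nondeg (W : Submodule F (Fin (k + l) ⊕ Fin (k + l) → F))
    (hWk : Module.finrank F W = 2 * k)
    (hW : ∀ u ∈ W, (∀ v ∈ W, sympForm (k + l) F u v = 0) → u = 0) :
    Nonempty (↥(Cfsg.stabilizing (Cfsg.spToMat (k + l) F) (W : Set (Fin (k + l) ⊕ Fin (k + l) → F)))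
      ≃* symplecticGroup (Fin k) F × symplecticGroup (Fin l) F) := by
  obtain ⟨g, hg⟩ := exists_map_head W hWk hW
  set S := Cfsg.stabilizing (Cfsg.spToMat (k + l) F) (W : Set (Fin (k + l) ⊕ Fin (k + l) → F))
  have hS : ∀ h, h ∈ S ↔ ∀ v, v ∈ W ↔ h • v ∈ W := fun h => Iff.rfl
  let φ := (MulAut.conj g).toMonoidHom.comp (blockHom F k l)
  have hφ : φ.range = S := by
    apply le_antisymm
    · rintro _ ⟨p, rfl⟩
      rw [hS]
      intro v
      obtain ⟨x, rfl⟩ := MulAction.surjective g v
      show g • x ∈ W ↔ (g * blockHom F k l p * g⁻¹) • g • x ∈ W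
      rw [mul_smul, mul_smul, inv_smul_smul, hg, hg]
      have hcoord : (fun s => (blockHom F k l p • x) (splitIdx k l (Sum.inr s))) =
          p.2.1 *ᵥ (fun s => x (splitIdx k l (Sum.inr s))) := (blockMat_mulVec p.1.1 p.2.1 x).2
      constructor
      · intro hx
        exact congrFun (hcoord.trans (by rw [show (fun s => x (splitIdx k l (Sum.inr s))) = 0 from
          funext hx, Matrix.mulVec_zero]; rfl))
      · intro hx
        refine congrFun ((MulAction.injective p.2) (?_ : p.2 • _ = p.2 • (0 : Fin l ⊕ Fin l → F)))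
        show p.2.1 *ᵥ _ = p.2.1 *ᵥ 0
        rw [← hcoord, Matrix.mulVec_zero]
        exact funext hx
    · intro h hh
      set h' := g⁻¹ * h * g
      have hhead : ∀ x, x ∈ headSpace F k l ↔ h' • x ∈ headSpace F k l := fun x => by
        rw [← hg, ← hg, mul_smul, mul_smul, smul_inv_smul]; exact (hS h).mp hh _
      set M := (h'.1).submatrix (splitIdx k l) (splitIdx k l)
      have e1 : ∀ s t, (h' • (Pi.single (splitIdx k l t) 1 : Fin (k + l) ⊕ Fin (k + l) → F))
          (splitIdx k l s) = M s t := fun s t => by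
        simp [M, smul_def, Matrix.mulVec_single_one]
      have hll : ∀ s t, M (Sum.inr s) (Sum.inl t) = 0 := fun s t => by
        rw [← e1]
        exact (hhead _).mp (fun a => by simp) s
      have hlr : ∀ t, ∀ x ∈ headSpace F k l,
          sympForm (k + l) F (h' • x) (h' • Pi.single (splitIdx k l (Sum.inr t)) 1) = 0 := by
        intro t x hx
        rw [form_map, form_split, show (fun s => x (splitIdx k l (Sum.inr s))) = 0 from funext hx,
          (split_single_inr t).1]
        simp
      have hur : ∀ s t, M (Sum.inl s) (Sum.inr t) = 0 := fun s t => by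
        rw [← e1]
        have hz : ∀ a : Fin k ⊕ Fin k, sympForm (k + l) F (Pi.single (splitIdx k l (Sum.inl a)) 1)
            (h' • Pi.single (splitIdx k l (Sum.inr t)) 1) = 0 := by
          intro a
          have := hlr t (h'⁻¹ • Pi.single (splitIdx k l (Sum.inl a)) 1)
            ((hhead _).mpr (by rw [smul_inv_smul]; exact fun b => by simp))
          rwa [smul_inv_smul] at this
        rcases s with s | s
        · have := hz (Sum.inr s)
          rw [form_eq_zero_comm] at this
          simpa [splitIdx, Equiv.sumSumSumComm, form_single_inr_right] using this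
        · have := hz (Sum.inl s)
          rw [form_eq_zero_comm] at this
          simpa [splitIdx, Equiv.sumSumSumComm, form_single_inl_right] using this
      have hM : h'.1 = blockMat M.toBlocks₁₁ M.toBlocks₂₂ := by
        have : M = Matrix.fromBlocks M.toBlocks₁₁ 0 0 M.toBlocks₂₂ := by
          ext (a | a) (b | b) <;> simp [Matrix.toBlocks₁₁, Matrix.toBlocks₂₂, hll, hur]
        rw [blockMat, ← this]
        simp [M]
      have hA : M.toBlocks₁₁ ∈ symplecticGroup (Fin k) F ∧
          M.toBlocks₂₂ ∈ symplecticGroup (Fin l) F := by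
        constructor <;> refine mem_sp_of_single fun s t => ?_
        · have := form_map h' (Pi.single (splitIdx k l (Sum.inl s)) 1)
            (Pi.single (splitIdx k l (Sum.inl t)) 1)
          rw [form_split, form_split] at this
          simp only [smul_def, hM, (blockMat_mulVec _ _ _).1, (blockMat_mulVec _ _ _).2,
            split_single_inl, Matrix.mulVec_zero, form_zero_left, add_zero] at this
          exact this
        · have := form_map h' (Pi.single (splitIdx k l (Sum.inr s)) 1)
            (Pi.single (splitIdx k l (Sum.inr t)) 1)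
          rw [form_split, form_split] at this
          simp only [smul_def, hM, (blockMat_mulVec _ _ _).1, (blockMat_mulVec _ _ _).2,
            split_single_inr, Matrix.mulVec_zero, form_zero_left, zero_add] at this
          exact this
      refine ⟨(⟨_, hA.1⟩, ⟨_, hA.2⟩), ?_⟩
      show g * blockHom F k l _ * g⁻¹ = h
      rw [show blockHom F k l (⟨_, hA.1⟩, ⟨_, hA.2⟩) = h' from Subtype.ext hM.symm]
      simp only [h']
      group
  exact ⟨((MonoidHom.ofInjective ((MulAut.conj g).injective.comp blockHom_injective :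
    Function.Injective φ)).trans (MulEquiv.subgroupCongr hφ)).symm⟩

end Cfsg.Agent.SymplecticDecomp
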