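import Mathlib
import Cfsg.Agent.Lib.SymplecticBasic
import Cfsg.Agent.Lib.SymplecticSimple
import Cfsg.Agent.Lib.SymplecticDecomp
import Cfsg.Agent.Lib.AutPSpBasic
import Cfsg.Agent.Lib.AutPSpTransv
import Cfsg.Agent.Lib.AutPSLMain
import Cfsg.Agent.Lib.QuadClassify

/-!
An automorphism of `PSp m F` permuting the transvections is induced by a semilinear similitude.
-/

set_option autoImplicit false

namespace Cfsg.Agent.AutPSpMain

open Matrix
open Cfsg.Agent.SymplecticBasic Cfsg.Agent.SymplecticSimple Cfsg.Agent.AutPSpBasic Cfsg.Agent.AutPSpTransv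

variable {m : ℕ} {F : Type*} [Field F]

/-- `α` permutes the classes of transvections. -/
def Good (α : MulAut (PS m F)) : Prop := ∀ x, IsTr (α x) ↔ IsTr x

lemma good_inv {α : MulAut (PS m F)} (h : Good α) : Good α⁻¹ := fun x => by
  rw [← h (α⁻¹ x), MulAut.apply_inv_self]

lemma good_mul {α β : MulAut (PS m F)} (h : Good α) (h' : Good β) : Good (α * β) := fun x => by
  rw [MulAut.mul_apply, h, h']

lemma GSp_mult (g : ↥(Cfsg.GSp m F)) : ∃ μ : F, μ ≠ 0 ∧
    ∀ u v, sympForm m F (((g : GL (Fin m ⊕ Fin m) F) : Matrix (Fin m ⊕ Fin m) (Fin m ⊕ Fin m) F) *ᵥ u)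
      (((g : GL (Fin m ⊕ Fin m) F) : Matrix (Fin m ⊕ Fin m) (Fin m ⊕ Fin m) F) *ᵥ v) = μ * sympForm m F u v := by
  obtain ⟨c, hc⟩ := g.2
  exact ⟨c, c.ne_zero, hc⟩

lemma isTr_cj (g : ↥(Cfsg.GSp m F)) {x : PS m F} (h : IsTr x) : IsTr (cj g x) := by
  obtain ⟨v, c, hv, hc, rfl⟩ := h
  obtain ⟨μ, hμ, hg⟩ := GSp_mult g
  refine ⟨_, _, fun e => hv ?_, div_ne_zero hc hμ, cj_T g hμ hg v c⟩
  have := congrArg (fun u => (((g : GL (Fin m ⊕ Fin m) F)⁻¹ : GL (Fin m ⊕ Fin m) F) : Matrix (Fin m ⊕ Fin m) (Fin m ⊕ Fin m) F) *ᵥ u) e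
  simpa [mulVec_mulVec] using this

lemma good_cj (g : ↥(Cfsg.GSp m F)) : Good (cj g : MulAut (PS m F)) := fun x =>
  ⟨fun h => by simpa using isTr_cj g⁻¹ h, isTr_cj g⟩

lemma isTr_fd (σ : F ≃+* F) {x : PS m F} (h : IsTr x) : IsTr (fd σ x) := by
  obtain ⟨v, c, hv, hc, rfl⟩ := h
  exact ⟨_, _, fun e => hv (funext fun i => σ.injective (by simpa using congrFun e i)), by simpa using hc, fd_T σ v c⟩

lemma good_fd (σ : F ≃+* F) : Good (fd σ : MulAut (PS m F)) := fun x =>
  ⟨fun h => by simpa using isTr_fd σ⁻¹ h, isTr_fd σ⟩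

/-- Vectors with the same orthogonal hyperplane. -/
lemma smul_of_perp {w w' : Vc m F} (hw : w ≠ 0) (h : ∀ y, sympForm m F w y = 0 → sympForm m F w' y = 0) :
    ∃ a : F, w' = a • w := by
  obtain ⟨z, hz⟩ := exists_form_eq_one hw
  refine ⟨sympForm m F w' z, sub_eq_zero.1 (form_nondeg fun y => ?_)⟩
  have h1 := h (y - sympForm m F w y • z) (by rw [form_sub_right, form_smul_right, hz]; ring)
  rw [form_sub_right, form_smul_right] at h1
  rw [form_sub_left, form_smul_left]
  linear_combination h1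

variable {α : MulAut (PS m F)}

/-- Images of orthogonal transvections are orthogonal. -/
lemma orth_map (hm : 2 ≤ m) {v w v' w' : Vc m F} {c d c' d' : F} (hv : v ≠ 0) (hw : w ≠ 0) (hc : c ≠ 0) (hd : d ≠ 0)
    (e1 : α (T v c) = T v' c') (e2 : α (T w d) = T w' d') : sympForm m F v w = 0 ↔ sympForm m F v' w' = 0 := by
  have n1 : v' ≠ 0 ∧ c' ≠ 0 := not_or.1 fun h => (not_or.2 ⟨hv, hc⟩)
    ((T_eq_one_iff hm).1 (α.injective (by rw [e1, (T_eq_one_iff hm).2 h, map_one])))
  have n2 : w' ≠ 0 ∧ d' ≠ 0 := not_or.1 fun h => (not_or.2 ⟨hw, hd⟩)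
    ((T_eq_one_iff hm).1 (α.injective (by rw [e2, (T_eq_one_iff hm).2 h, map_one])))
  rw [← commute_T_iff hm hv hw hc hd, ← commute_T_iff hm n1.1 n2.1 n1.2 n2.2, ← e1, ← e2]
  exact ⟨fun h => h.map α, fun h => by simpa using h.map α.symm⟩

/-- A point is sent to a point. -/
lemma exists_point (hm : 2 ≤ m) (hα : Good α) {v : Vc m F} (hv : v ≠ 0) :
    ∃ w : Vc m F, w ≠ 0 ∧ ∀ c, c ≠ 0 → ∃ d, d ≠ 0 ∧ α (T v c) = T w d := by
  obtain ⟨w, d, hw, hd, e⟩ := (hα _).2 ⟨v, 1, hv, one_ne_zero, rfl⟩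
  refine ⟨w, hw, fun c hc => ?_⟩
  obtain ⟨w', d', hw', hd', e'⟩ := (hα _).2 ⟨v, c, hv, hc, rfl⟩
  obtain ⟨a, rfl⟩ := smul_of_perp (w' := w') hw fun y hy => by
    rcases eq_or_ne y 0 with rfl | hy0
    · exact form_zero_right _
    obtain ⟨y0, e0, hy0', he0, ey⟩ := (hα (α⁻¹ (T y 1))).1 (by rw [MulAut.apply_inv_self]; exact ⟨y, 1, hy0, one_ne_zero, rfl⟩)
    have e2 : α (T y0 e0) = T y 1 := by rw [← ey, MulAut.apply_inv_self]
    exact (orth_map hm hv hy0' hc he0 e' e2).1 ((orth_map hm hv hy0' one_ne_zero he0 e e2).2 hy)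
  refine ⟨a ^ 2 * d', mul_ne_zero (pow_ne_zero 2 fun e0 => hw' (by rw [e0, zero_smul])) hd', ?_⟩
  rw [e', T_scale]

/-- Conjugates of transvections under `α`. -/
lemma map_conj_T {u w u' w' : Vc m F} {c d c' d' : F} (e1 : α (T u c) = T u' c') (e2 : α (T w d) = T w' d') :
    α (T (w + (c * sympForm m F w u) • u) d) = T (w' + (c' * sympForm m F w' u') • u') d' := by
  rw [← T_conj_T, ← T_conj_T, map_mul, map_mul, map_inv, e1, e2]

/-- The standard unit vector. -/
abbrev sv (z : Fin m ⊕ Fin m) : Vc m F := Pi.single z 1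

lemma sv_ne (z : Fin m ⊕ Fin m) : (sv z : Vc m F) ≠ 0 := by simp [sv]

lemma form_sv_right_inl (u : Vc m F) (i : Fin m) : sympForm m F u (sv (.inl i)) = u (.inr i) := by
  simp [sv, form_single_inl_right]

lemma form_sv_right_inr (u : Vc m F) (i : Fin m) : sympForm m F u (sv (.inr i)) = -u (.inl i) := by
  simp [sv, form_single_inr_right]

section Std

variable (hm : 2 ≤ m) (hα : Good α) {φ : Fin m ⊕ Fin m → F → F}
  (hfix : ∀ z c, α (T (sv z) c) = T (sv z) (φ z c))
include hm hfix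

lemma phi_add (z : Fin m ⊕ Fin m) (a b : F) : φ z (a + b) = φ z a + φ z b :=
  T_inj hm (sv_ne z) (by rw [← hfix, ← T_add, map_mul, hfix, hfix, T_add])

lemma phi_ne (z : Fin m ⊕ Fin m) (c : F) (hc : c ≠ 0) : φ z c ≠ 0 := fun e => by
  have := hfix z c
  rw [e, T_zero, map_eq_one_iff _ α.injective, T_eq_one_iff hm] at this
  exact this.elim (sv_ne z) hc

lemma phi_zero (z : Fin m ⊕ Fin m) : φ z 0 = 0 :=
  T_inj hm (sv_ne z) (by rw [← hfix, T_zero, map_one])

lemma phi_inv (i : Fin m) (t : F) : φ (.inr i) t⁻¹ = (φ (.inl i) t)⁻¹ := by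
  rcases eq_or_ne t 0 with rfl | ht
  · simp [phi_zero hm hfix]
  have h1 := map_conj_T (hfix (.inl i) t) (hfix (.inr i) 1)
  have h2 := map_conj_T (hfix (.inr i) (-t⁻¹)) (hfix (.inl i) 1)
  simp only [form_sv_right_inl, form_sv_right_inr, sv, Pi.single_eq_same, mul_one, mul_neg] at h1 h2
  have hne1 : (Pi.single (.inr i) 1 + t • Pi.single (.inl i) 1 : Vc m F) ≠ 0 := fun e => by
    simpa using congrFun e (.inr i)
  have hne2 : (Pi.single (.inl i) 1 + -(-t⁻¹) • Pi.single (.inr i) 1 : Vc m F) ≠ 0 := fun e => by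
    simpa using congrFun e (.inl i)
  have h := (orth_map hm hne1 hne2 one_ne_zero one_ne_zero h1 h2).1 (by
    simp [form_add_left, form_add_right, form_smul_left, form_smul_right, form_single_inl_right, form_single_inr_right, ht, -neg_smul])
  simp [form_add_left, form_add_right, form_smul_left, form_smul_right, form_single_inl_right, form_single_inr_right, -neg_smul] at h
  have hneg : φ (.inr i) (-t⁻¹) = -φ (.inr i) t⁻¹ :=
    map_neg (AddMonoidHom.mk' (φ (.inr i)) (phi_add hm hfix _)) _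
  rw [hneg] at h
  exact eq_inv_of_mul_eq_one_left (by linear_combination -h)

include hα in
/-- Images of the points `e_i + s e_j`. -/
lemma pair_point {i j : Fin m} (hij : i ≠ j) {s : F} (hs : s ≠ 0) :
    ∃ p r : F, p ≠ 0 ∧ r ≠ 0 ∧ (∀ d, φ (.inl j) (d * s ^ 2) * p ^ 2 = φ (.inl i) d * r ^ 2) ∧
      ∀ d, ∃ D, α (T (sv (.inl i) + s • sv (.inl j)) d) = T (p • sv (.inl i) + r • sv (.inl j)) D ∧
        φ (.inl i) d = D * p ^ 2 := by
  classical
  set u : Vc m F := sv (.inl i) + s • sv (.inl j) with hu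
  have hune : u ≠ 0 := fun e => by
    have := congrFun e (.inl i)
    simp [hu, sv, hij] at this
  obtain ⟨w, hw, hwT⟩ := exists_point hm hα hune
  obtain ⟨d1, hd1, e1⟩ := hwT 1 one_ne_zero
  have hperp : ∀ z, sympForm m F u (sv z) = 0 → sympForm m F w (sv z) = 0 := fun z hz =>
    (orth_map hm hune (sv_ne z) one_ne_zero one_ne_zero e1 (hfix z 1)).1 hz
  have hinr : ∀ k, w (.inr k) = 0 := fun k => by
    have := hperp (.inl k) (by rw [form_sv_right_inl]; simp [hu, sv])
    rwa [form_sv_right_inl] at this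
  have hinl : ∀ k, k ≠ i → k ≠ j → w (.inl k) = 0 := fun k h1 h2 => by
    have := hperp (.inr k) (by rw [form_sv_right_inr]; simp [hu, sv, h1, h2])
    rwa [form_sv_right_inr, neg_eq_zero] at this
  set p := w (.inl i)
  set r := w (.inl j)
  have hwf : w = p • sv (.inl i) + r • sv (.inl j) := by
    funext z
    rcases z with k | k
    · rcases eq_or_ne k i with rfl | h1
      · simp [sv, p, hij]
      rcases eq_or_ne k j with rfl | h2
      · simp [sv, r, hij.symm]
      simp [sv, hinl k h1 h2, h1, h2]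
    · simp [sv, hinr k]
  have key : ∀ d, d ≠ 0 → ∃ D, D ≠ 0 ∧ α (T u d) = T w D ∧ φ (.inl i) d = D * p ^ 2 ∧ φ (.inl j) (d * s ^ 2) = D * r ^ 2 := by
    intro d hd
    obtain ⟨D, hD, eD⟩ := hwT d hd
    refine ⟨D, hD, eD, ?_, ?_⟩
    · have h1 := map_conj_T eD (hfix (.inr i) 1)
      have h2 := map_conj_T (hfix (.inl i) d) (hfix (.inr i) 1)
      rw [hwf] at h1
      simp [hu, sv, form_eq_sum, Pi.single_apply, Finset.sum_sub_distrib, Finset.sum_ite_eq', hij, hij.symm] at h1 h2
      have h := (orth_map hm ?_ ?_ one_ne_zero one_ne_zero h1 h2).1 ?_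
      · simp [form_eq_sum, Pi.single_apply, Finset.sum_sub_distrib, Finset.sum_ite_eq', hij, hij.symm] at h
        linear_combination h
      · intro e; simpa [hij] using congrFun e (.inr i)
      · intro e; simpa using congrFun e (.inr i)
      · simp [form_eq_sum, Pi.single_apply, Finset.sum_sub_distrib, Finset.sum_ite_eq', hij, hij.symm]
    · have h1 := map_conj_T eD (hfix (.inr j) 1)
      have h2 := map_conj_T (hfix (.inl j) (d * s ^ 2)) (hfix (.inr j) 1)
      rw [hwf] at h1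
      simp [hu, sv, form_eq_sum, Pi.single_apply, Finset.sum_sub_distrib, Finset.sum_ite_eq', hij, hij.symm] at h1 h2
      have h := (orth_map hm ?_ ?_ one_ne_zero one_ne_zero h1 h2).1 ?_
      · simp [form_eq_sum, Pi.single_apply, Finset.sum_sub_distrib, Finset.sum_ite_eq', hij, hij.symm] at h
        linear_combination h
      · intro e; simpa [hij.symm] using congrFun e (.inr j)
      · intro e; simpa using congrFun e (.inr j)
      · simp [form_eq_sum, Pi.single_apply, Finset.sum_sub_distrib, Finset.sum_ite_eq', hij, hij.symm]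
        ring
  obtain ⟨D, -, -, hDp, hDr⟩ := key 1 one_ne_zero
  have hp : p ≠ 0 := fun e => phi_ne hm hfix (.inl i) 1 one_ne_zero (by rw [hDp, e]; ring)
  have hr : r ≠ 0 := fun e => phi_ne hm hfix (.inl j) (1 * s ^ 2) (by rw [one_mul]; exact pow_ne_zero 2 hs) (by rw [hDr, e]; ring)
  refine ⟨p, r, hp, hr, fun d => ?_, fun d => ?_⟩
  · rcases eq_or_ne d 0 with rfl | hd
    · simp [phi_zero hm hfix]
    obtain ⟨D, -, -, h1, h2⟩ := key d hd
    rw [h1, h2]; ring
  · rcases eq_or_ne d 0 with rfl | hd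
    · exact ⟨0, by rw [T_zero, T_zero, map_one], by rw [phi_zero hm hfix]; ring⟩
    obtain ⟨D, -, h0, h1, -⟩ := key d hd
    exact ⟨D, by rw [← hwf]; exact h0, h1⟩

end Std

/-- A symplectic frame fixed by an automorphism, after conjugation. -/
lemma exists_frame (hm : 2 ≤ m) (hα : Good α) :
    ∃ (g : Sp m F) (φ : Fin m ⊕ Fin m → F → F), ∀ z c, ((cj (ofSp g))⁻¹ * α) (T (sv z) c) = T (sv z) (φ z c) := by
  classical
  choose w hw hwT using fun z : Fin m ⊕ Fin m => exists_point hm hα (sv_ne (F := F) z)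
  have horth : ∀ z z', sympForm m F (sv z) (sv z' : Vc m F) = 0 ↔ sympForm m F (w z) (w z') = 0 := fun z z' => by
    obtain ⟨d, hd, e⟩ := hwT z 1 one_ne_zero
    obtain ⟨d', hd', e'⟩ := hwT z' 1 one_ne_zero
    exact orth_map hm (sv_ne z) (sv_ne z') one_ne_zero one_ne_zero e e'
  let b : Fin m → F := fun i => sympForm m F (w (.inr i)) (w (.inl i))
  have hb : ∀ i, b i ≠ 0 := fun i h => by
    have := (horth (.inr i) (.inl i)).2 h
    simp [form_sv_right_inl, sv] at this
  let col : Fin m ⊕ Fin m → Vc m F := Sum.elim (fun i => w (.inl i)) fun i => (b i)⁻¹ • w (.inr i)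
  let G : Matrix (Fin m ⊕ Fin m) (Fin m ⊕ Fin m) F := Matrix.of fun a z => col z a
  have hG : ∀ z, G *ᵥ sv z = col z := fun z => by
    funext a; simp [G, sv, mulVec_single_one]
  have hmem : G ∈ Matrix.symplecticGroup (Fin m) F := SymplecticDecomp.mem_sp_of_single fun s t => by
    show sympForm m F (G *ᵥ sv s) (G *ᵥ sv t) = sympForm m F (sv s) (sv t)
    rw [hG, hG]
    rcases s with i | i <;> rcases t with j | j
    · simp only [col, Sum.elim_inl]
      have := (horth (.inl i) (.inl j)).1 (by rw [form_sv_right_inl]; simp [sv])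
      rw [this, form_sv_right_inl]; simp [sv]
    · simp only [col, Sum.elim_inl, Sum.elim_inr, form_smul_right, form_sv_right_inr]
      rcases eq_or_ne i j with rfl | hij
      · rw [form_swap (w (.inr i)) (w (.inl i))]
        show (b i)⁻¹ * -(b i) = _
        simp [sv, hb]
      · rw [(horth (.inl i) (.inr j)).1 (by rw [form_sv_right_inr]; simp [sv, hij.symm])]
        simp [sv, hij.symm]
    · simp only [col, Sum.elim_inl, Sum.elim_inr, form_smul_left, form_sv_right_inl]
      rcases eq_or_ne i j with rfl | hij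
      · show (b i)⁻¹ * b i = _
        simp [sv, hb]
      · rw [(horth (.inr i) (.inl j)).1 (by rw [form_sv_right_inl]; simp [sv, hij.symm])]
        simp [sv, hij.symm]
    · simp only [col, Sum.elim_inr, form_smul_left, form_smul_right]
      rw [(horth (.inr i) (.inr j)).1 (by rw [form_sv_right_inr]; simp [sv]), form_sv_right_inr]
      simp [sv]
  refine ⟨⟨G, hmem⟩, ?_⟩
  set g : Sp m F := ⟨G, hmem⟩
  have hgc : ∀ z, ∃ a : F, w z = a • (g • (sv z : Vc m F)) := fun z => by
    rw [smul_def, hG]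
    rcases z with i | i
    · exact ⟨1, by simp [col]⟩
    · exact ⟨b i, by simp [col, smul_smul, hb]⟩
  have : ∀ z c, ∃ d, ((cj (ofSp g))⁻¹ * α) (T (sv z) c) = T (sv z) d := by
    intro z c
    rcases eq_or_ne c 0 with rfl | hc
    · exact ⟨0, by rw [T_zero, map_one]⟩
    obtain ⟨d, -, e⟩ := hwT z c hc
    obtain ⟨a, ha⟩ := hgc z
    refine ⟨a ^ 2 * d, ?_⟩
    rw [MulAut.mul_apply, e, ha, T_scale, ← map_inv cj, ← map_inv ofSp, cj_ofSp, T_conj, inv_smul_smul]
  choose φ hφ using this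
  exact ⟨φ, hφ⟩

/-- An invertible diagonal similitude. -/
lemma exists_diag (a : Fin m → Fˣ) (μ : Fˣ) :
    ∃ g : ↥(Cfsg.GSp m F),
      (∀ v : Vc m F, ((g : GL (Fin m ⊕ Fin m) F) : Matrix (Fin m ⊕ Fin m) (Fin m ⊕ Fin m) F) *ᵥ v =
        fun z => Sum.elim (fun i => (a i : F)) (fun i => (μ : F) * ((a i)⁻¹ : Fˣ)) z * v z) ∧
      ∀ v c, cj g (T v c) = T (fun z => Sum.elim (fun i => (a i : F)) (fun i => (μ : F) * ((a i)⁻¹ : Fˣ)) z * v z) (c / μ) := by
  classical
  set d : Fin m ⊕ Fin m → F := Sum.elim (fun i => (a i : F)) (fun i => (μ : F) * ((a i)⁻¹ : Fˣ)) with hd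
  have hd0 : (Matrix.diagonal d).det ≠ 0 := by
    rw [det_diagonal, Finset.prod_ne_zero_iff]
    rintro (i | i) - <;> simp [hd]
  have hv : ∀ v : Vc m F, Matrix.diagonal d *ᵥ v = fun z => d z * v z := fun v => funext fun z => mulVec_diagonal d v z
  have hform : ∀ u v, sympForm m F (Matrix.diagonal d *ᵥ u) (Matrix.diagonal d *ᵥ v) = (μ : F) * sympForm m F u v := by
    intro u v
    rw [hv, hv, form_eq_sum, form_eq_sum, Finset.mul_sum]
    refine Finset.sum_congr rfl fun i _ => ?_
    simp [hd]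
    field_simp
  refine ⟨⟨Matrix.GeneralLinearGroup.mkOfDetNeZero _ hd0, μ, hform⟩, hv, fun v c => ?_⟩
  rw [cj_T _ μ.ne_zero hform]
  congr 1
  exact hv v

/-- An automorphism fixing enough transvections is trivial. -/
lemma eq_one_of_fix (hm : 2 ≤ m) {δ : MulAut (PS m F)} (h1 : ∀ z c, δ (T (sv z) c) = T (sv z) c)
    (h2 : ∀ j, (⟨0, by omega⟩ : Fin m) ≠ j → ∀ c, δ (T (sv (.inl ⟨0, by omega⟩) + sv (.inl j)) c) =
      T (sv (.inl ⟨0, by omega⟩) + sv (.inl j)) c) : δ = 1 := by
  classical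
  set i0 : Fin m := ⟨0, by omega⟩ with hi0
  let Om : Vc m F → Prop := fun v => ∀ c, δ (T v c) = T v c
  have hconj : ∀ u w, Om u → Om w → ∀ c, Om (w + (c * sympForm m F w u) • u) := fun u w hu hw c d =>
    map_conj_T (hu c) (hw d)
  have hscal : ∀ v, Om v → ∀ a : F, Om (a • v) := fun v hv a c => by rw [T_scale, hv]
  -- moving inside a plane
  let upd : Vc m F → Fin m → F → F → Vc m F := fun v k a b =>
    Function.update (Function.update v (.inl k) a) (.inr k) b
  have upd_inl : ∀ v k a b, upd v k a b (.inl k) = a := fun v k a b => by simp [upd]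
  have upd_inr : ∀ v k a b, upd v k a b (.inr k) = b := fun v k a b => by simp [upd]
  have upd_self : ∀ v k, upd v k (v (.inl k)) (v (.inr k)) = v := fun v k => by simp [upd]
  have upd_ne : ∀ v k a b i, i ≠ k → upd v k a b (.inl i) = v (.inl i) ∧ upd v k a b (.inr i) = v (.inr i) :=
    fun v k a b i hi => by simp [upd, hi]
  have shear1 : ∀ v k a b c, Om (upd v k a b) → Om (upd v k (a + c * b) b) := by
    intro v k a b c h
    have := hconj _ _ (fun e => h1 (.inl k) e) h c
    rw [form_sv_right_inl, upd_inr] at this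
    convert this using 1
    funext z
    rcases z with i | i <;> rcases eq_or_ne i k with rfl | hi <;> simp [upd, sv, *]
  have shear2 : ∀ v k a b c, Om (upd v k a b) → Om (upd v k a (b - c * a)) := by
    intro v k a b c h
    have := hconj _ _ (fun e => h1 (.inr k) e) h c
    rw [form_sv_right_inr, upd_inl] at this
    convert this using 1
    funext z
    rcases z with i | i <;> rcases eq_or_ne i k with rfl | hi <;> simp [upd, sv, sub_eq_add_neg, *]
  have move : ∀ v k a b a' b', (a ≠ 0 ∨ b ≠ 0) → (a' ≠ 0 ∨ b' ≠ 0) → Om (upd v k a b) → Om (upd v k a' b') := by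
    intro v k
    have std : ∀ a b, (a ≠ 0 ∨ b ≠ 0) → (Om (upd v k a b) ↔ Om (upd v k 1 0)) := by
      have sh1 : ∀ a b c, Om (upd v k a b) ↔ Om (upd v k (a + c * b) b) := fun a b c =>
        ⟨shear1 v k a b c, fun h => by
          have := shear1 v k _ b (-c) h; rwa [neg_mul, add_neg_cancel_right] at this⟩
      have sh2 : ∀ a b c, Om (upd v k a b) ↔ Om (upd v k a (b - c * a)) := fun a b c =>
        ⟨shear2 v k a b c, fun h => by
          have := shear2 v k a _ (-c) h; rwa [neg_mul, sub_neg_eq_add, sub_add_cancel] at this⟩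
      have main : ∀ a b, b ≠ 0 → (Om (upd v k a b) ↔ Om (upd v k 1 0)) := fun a b hb => by
        rw [sh1 a b ((1 - a) / b), div_mul_cancel₀ _ hb, add_sub_cancel, sh2 1 b b, mul_one, sub_self]
      intro a b hab
      by_cases hb : b = 0
      · subst hb
        have ha : a ≠ 0 := hab.resolve_right (fun h => h rfl)
        rw [sh2 a 0 (-a⁻¹), zero_sub, neg_mul, neg_neg, inv_mul_cancel₀ ha, main a 1 one_ne_zero]
      · exact main a b hb
    intro a b a' b' h h' hOm
    rw [std a' b' h', ← std a b h]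
    exact hOm
  -- growing the support
  let supp : Vc m F → Finset (Fin m) := fun v => Finset.univ.filter fun k => v (.inl k) ≠ 0 ∨ v (.inr k) ≠ 0
  have hmem : ∀ v k, k ∈ supp v ↔ (v (.inl k) ≠ 0 ∨ v (.inr k) ≠ 0) := fun v k => by simp [supp]
  have hu0j : ∀ j, i0 ≠ j → Om (sv (.inl i0) + sv (.inl j)) := h2
  have main0 : ∀ n, ∀ v : Vc m F, (supp v).card ≤ n → i0 ∈ supp v → Om v := by
    intro n
    induction n with
    | zero => intro v hc h0; exact absurd h0 (by simp [Finset.card_eq_zero.1 (Nat.le_zero.1 hc)])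
    | succ n ih =>
      intro v hc h0
      by_cases hj : ∃ j, j ≠ i0 ∧ j ∈ supp v
      · obtain ⟨j, hj, hjs⟩ := hj
        have hv' : supp (upd v j 0 0) ⊆ (supp v).erase j := by
          intro k hk
          rw [hmem] at hk
          rcases eq_or_ne k j with rfl | hkj
          · simp [upd_inl, upd_inr] at hk
          · rw [(upd_ne v j 0 0 k hkj).1, (upd_ne v j 0 0 k hkj).2] at hk
            exact Finset.mem_erase.2 ⟨hkj, (hmem v k).2 hk⟩
        have hv'0 : i0 ∈ supp (upd v j 0 0) := by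
          rw [hmem, (upd_ne v j 0 0 i0 hj.symm).1, (upd_ne v j 0 0 i0 hj.symm).2]; exact (hmem v i0).1 h0
        have hOm' : Om (upd v j 0 0) := ih (upd v j 0 0) (le_trans (Finset.card_le_card hv') (by rw [Finset.card_erase_of_mem hjs]; omega)) hv'0
        have hOm'' : Om (upd (upd v j 0 0) i0 0 1) :=
          move (upd v j 0 0) i0 _ _ 0 1 ((hmem (upd v j 0 0) i0).1 hv'0) (Or.inr one_ne_zero) (by rw [upd_self]; exact hOm')
        have h3 := hconj _ _ (hu0j j hj.symm) hOm'' 1
        rw [form_add_right, form_sv_right_inl, form_sv_right_inl, upd_inr,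
          (upd_ne (upd v j 0 0) i0 0 1 j hj).2, upd_inr] at h3
        have h4 : Om (upd (upd v i0 1 1) j 1 0) := by
          convert h3 using 1
          funext z
          rcases z with i | i <;> by_cases hi : i = i0 <;> by_cases hi' : i = j <;>
            simp [upd, sv, Pi.single_apply, Function.update_apply, hi, hi', hj, hj.symm]
        have h5 := move _ j 1 0 (v (.inl j)) (v (.inr j)) (Or.inl one_ne_zero) ((hmem v j).1 hjs) h4
        have h6 : Om (upd v i0 1 1) := by
          convert h5 using 1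
          funext z
          rcases z with i | i <;> by_cases hi' : i = j <;> simp [upd, Function.update_apply, hi', hj]
        have h7 := move v i0 1 1 _ _ (Or.inl one_ne_zero) ((hmem v i0).1 h0) h6
        rwa [upd_self] at h7
      · push Not at hj
        have h : Om (upd v i0 1 0) := by
          convert (fun c => h1 (.inl i0) c : Om (sv (.inl i0))) using 1
          funext z
          rcases z with i | i <;> by_cases hi : i = i0 <;> simp [upd, sv, Pi.single_apply, Function.update_apply, hi] <;>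
            · have := hj i hi
              simp only [hmem, not_or, not_not] at this
              simp [this]
        have h7 := move v i0 1 0 _ _ (Or.inl one_ne_zero) ((hmem v i0).1 h0) h
        rwa [upd_self] at h7
  have hall : ∀ v : Vc m F, Om v := by
    intro v
    by_cases h0 : i0 ∈ supp v
    · exact main0 _ v le_rfl h0
    by_cases hv : v = 0
    · subst hv; intro c; rw [(T_eq_one_iff hm).2 (Or.inl rfl), map_one]
    obtain ⟨j, hjs⟩ : ∃ j, j ∈ supp v := by
      by_contra hcon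
      push Not at hcon
      apply hv
      funext z
      rcases z with i | i <;> have := hcon i <;> simp only [hmem, not_or, not_not] at this <;> simp [this]
    have hj : j ≠ i0 := fun e => h0 (e ▸ hjs)
    simp only [hmem, not_or, not_not] at h0
    have hA : Om (upd (upd v i0 1 0) j 0 1) := main0 _ _ le_rfl (by
      rw [hmem, (upd_ne _ j 0 1 i0 hj.symm).1, upd_inl]; exact Or.inl one_ne_zero)
    have h3 := hconj _ _ (hu0j j hj.symm) hA (-1)
    rw [form_add_right, form_sv_right_inl, form_sv_right_inl, upd_inr, (upd_ne _ j 0 1 i0 hj.symm).2, upd_inr] at h3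
    have h4 : Om (upd v j (-1) 1) := by
      convert h3 using 1
      funext z
      rcases z with i | i <;> by_cases hi : i = i0 <;> by_cases hi' : i = j <;>
        simp [upd, sv, Pi.single_apply, Function.update_apply, hi, hi', hj, hj.symm, h0]
    have h7 := move v j (-1) 1 _ _ (Or.inr one_ne_zero) ((hmem v j).1 hjs) h4
    rwa [upd_self] at h7
  exact ext_of_T fun v c => by rw [MulAut.one_apply]; exact hall v c

/-- An automorphism permuting the transvections is induced by a semilinear similitude. -/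
theorem rigid [Finite F] (hm : 2 ≤ m) (hα : Good α) :
    ∃ (g : ↥(Cfsg.GSp m F)) (σ : F ≃+* F), α = cj g * fd σ := by
  classical
  obtain ⟨g, φ, hφ⟩ := exists_frame hm hα
  set β := (cj (ofSp g))⁻¹ * α with hβ
  have hβg : Good β := good_mul (good_inv (good_cj _)) hα
  set i0 : Fin m := ⟨0, by omega⟩ with hi0
  have hth : ∀ j, ∃ θ : Fˣ, φ (.inl j) 1 = φ (.inl i0) 1 * (θ : F) ^ 2 ∧
      (i0 = j → θ = 1) ∧ (i0 ≠ j → ∀ d, ∃ D, β (T (sv (.inl i0) + sv (.inl j)) d) = T (sv (.inl i0) + (θ : F) • sv (.inl j)) D) := by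
    intro j
    rcases eq_or_ne i0 j with rfl | hij
    · exact ⟨1, by simp, fun _ => rfl, fun h => absurd rfl h⟩
    obtain ⟨p, r, hp, hr, h1, h2⟩ := pair_point hm hβg hφ hij one_ne_zero
    refine ⟨Units.mk0 (r / p) (div_ne_zero hr hp), ?_, fun h => absurd h hij, fun _ d => ?_⟩
    · have := h1 1
      rw [one_pow, mul_one] at this
      simp only [Units.val_mk0]
      field_simp
      linear_combination this
    · obtain ⟨D, hD, -⟩ := h2 d
      rw [one_smul] at hD
      refine ⟨p ^ 2 * D, ?_⟩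
      rw [hD, show p • sv (Sum.inl i0) + r • sv (Sum.inl j) = p • (sv (.inl i0) + (r / p) • sv (.inl j) : Vc m F) by
        rw [smul_add, smul_smul, mul_div_cancel₀ _ hp], T_scale]
      rfl
  choose θ hθ hθ0 hθT using hth
  obtain ⟨dg, hdg, hdT⟩ := exists_diag (fun j => (θ j)⁻¹) (Units.mk0 (φ (.inl i0) 1) (phi_ne hm hφ _ 1 one_ne_zero))
  set γ := cj dg * β with hγ
  have hγg : Good γ := good_mul (good_cj _) hβg
  have hγfix : ∀ z c, ∃ c', γ (T (sv z) c) = T (sv z) c' := by
    intro z c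
    rw [hγ, MulAut.mul_apply, hφ, hdT]
    refine ⟨(Sum.elim (fun i => (((θ i)⁻¹ : Fˣ) : F)) (fun i => φ (.inl i0) 1 * ((((θ i)⁻¹)⁻¹ : Fˣ) : F)) z) ^ 2 *
      (φ z c / φ (.inl i0) 1), ?_⟩
    rw [← T_scale]
    congr 1
    funext y
    rcases eq_or_ne y z with rfl | hy
    · simp [sv]
    · simp [sv, hy]
  choose ψ hψ using hγfix
  have hψ1 : ∀ j, ψ (.inl j) 1 = 1 := by
    intro j
    apply T_inj hm (sv_ne (.inl j))
    rw [← hψ, hγ, MulAut.mul_apply, hφ, hdT, hθ j]
    rw [show (fun z => Sum.elim (fun i => (((θ i)⁻¹ : Fˣ) : F))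
      (fun i => ((Units.mk0 (φ (.inl i0) 1) (phi_ne hm hφ _ 1 one_ne_zero) : Fˣ) : F) * ((((θ i)⁻¹)⁻¹ : Fˣ) : F)) z *
        (sv (.inl j) : Vc m F) z) = (((θ j)⁻¹ : Fˣ) : F) • sv (.inl j) by
      funext y
      rcases eq_or_ne y (.inl j) with rfl | hy
      · simp [sv]
      · simp [sv, hy], T_scale]
    congr 1
    have := phi_ne hm hφ (.inl i0) 1 one_ne_zero
    have := (θ j).ne_zero
    simp only [Units.val_inv_eq_inv_val, Units.val_mk0]
    field_simp
  have hγu : ∀ j, i0 ≠ j → ∀ d, ∃ D, γ (T (sv (.inl i0) + sv (.inl j)) d) = T (sv (.inl i0) + sv (.inl j)) D := by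
    intro j hij d
    obtain ⟨D, hD⟩ := hθT j hij d
    refine ⟨D / φ (.inl i0) 1, ?_⟩
    rw [hγ, MulAut.mul_apply, hD, hdT]
    congr 1
    funext y
    rcases y with y | y
    · rcases eq_or_ne y i0 with rfl | hy
      · simp [sv, hij, hθ0 i0 rfl]
      rcases eq_or_ne y j with rfl | hy'
      · simp [sv, hij.symm]
      · simp [sv, hy, hy']
    · simp [sv]
  have huse : ∀ i, (∀ a, ψ (.inr i) a = ψ (.inl i) a) ∧
      ∀ a b, ψ (.inl i) (a ^ 2 * b) = ψ (.inl i) a ^ 2 * ψ (.inl i) b := fun i =>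
    AutPSLMain.hua (phi_add hm hψ _) (phi_add hm hψ _) (phi_ne hm hψ _) (hψ1 i) (phi_inv hm hψ i)
  have heq : ∀ j d, ψ (.inl j) d = ψ (.inl i0) d := by
    intro j d
    rcases eq_or_ne i0 j with rfl | hij
    · rfl
    obtain ⟨p, r, hp, hr, h1, h2⟩ := pair_point hm hγg hψ hij one_ne_zero
    have h := h1 1
    rw [one_pow, mul_one, hψ1, hψ1, one_mul, one_mul] at h
    have hd := h1 d
    rw [one_pow, mul_one, h] at hd
    exact mul_right_cancel₀ (pow_ne_zero 2 hr) hd
  have hmul : ∀ a b, ψ (.inl i0) (a * b) = ψ (.inl i0) a * ψ (.inl i0) b := by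
    intro a b
    have hadd := phi_add hm hψ (.inl i0)
    have hsq := (huse i0).2
    set f := ψ (.inl i0)
    have f1 : f 1 = 1 := hψ1 i0
    by_cases h2 : (2 : F) = 0
    · obtain ⟨x, rfl⟩ := QuadClassify.isSquare_of_two_eq_zero h2 a
      have e1 := hsq x b
      have e2 := hsq x 1
      rw [mul_one, f1, mul_one] at e2
      rw [← pow_two, e1, e2]
    · have hadd2 : f (2 * (a * b)) = 2 * f (a * b) := by rw [two_mul, hadd, two_mul]
      have e1 := hsq (a + 1) b
      have e2 := hsq a b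
      rw [show (a + 1) ^ 2 * b = a ^ 2 * b + 2 * (a * b) + b by ring, hadd, hadd, hadd, f1, hadd2, e2] at e1
      exact mul_left_cancel₀ h2 (by linear_combination e1)
  obtain ⟨σ, hσ⟩ := AutPSLMain.exists_ringEquiv (ψ (.inl i0)) (hψ1 i0) (phi_add hm hψ _) hmul
  set δ := (fd σ)⁻¹ * γ with hδ
  have hcomp : ∀ z, (σ ∘ (sv z) : Vc m F) = sv z := fun z => by
    funext y; rcases eq_or_ne y z with rfl | hy <;> simp [sv, Pi.single_apply, apply_ite σ, *, -hσ]
  have hδfix : ∀ z c, δ (T (sv z) c) = T (sv z) c := by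
    intro z c
    have hz : ψ z c = σ c := by
      rcases z with i | i
      · rw [hσ, heq]
      · rw [hσ, (huse i).1, heq]
    rw [hδ, MulAut.mul_apply, hψ, hz]
    refine (fd σ).injective ?_
    rw [MulAut.apply_inv_self, fd_T, hcomp]
  have hδ1 : δ = 1 := by
    refine eq_one_of_fix hm hδfix fun j (hij : i0 ≠ j) c => ?_
    show δ (T (sv (.inl i0) + sv (.inl j)) c) = T (sv (.inl i0) + sv (.inl j)) c
    obtain ⟨D, hD⟩ := hγu j hij c
    obtain ⟨p, r, hp, hr, -, h2⟩ := pair_point hm hγg hψ hij one_ne_zero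
    obtain ⟨D', hD', hψD⟩ := h2 c
    rw [one_smul] at hD'
    rcases eq_or_ne c 0 with rfl | hc
    · rw [T_zero, map_one]
    have hne : (sv (.inl i0) + sv (.inl j) : Vc m F) ≠ 0 := fun e => by
      have := congrFun e (.inl i0)
      simp [sv, hij] at this
    have hD0 : D ≠ 0 := fun e => by
      rw [e, T_zero, map_eq_one_iff _ γ.injective, T_eq_one_iff hm] at hD
      exact hD.elim hne hc
    obtain ⟨a, ha, hva, hDa⟩ := T_eq hm hne hD0 (hD.symm.trans hD')
    have hpa : p = a := by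
      have := congrFun hva (.inl i0)
      simpa [sv, hij] using this
    have : D = σ c := by rw [hσ, hψD, hDa, hpa]; ring
    rw [hδ, MulAut.mul_apply, hD, this]
    refine (fd σ).injective ?_
    rw [MulAut.apply_inv_self, fd_T]
    congr 1
    funext y
    simp [sv, Pi.single_apply, apply_ite σ]
  refine ⟨ofSp g * dg⁻¹, σ, ?_⟩
  have hγσ : γ = fd σ := by
    rw [← mul_one (fd σ), ← hδ1, hδ, mul_inv_cancel_left]
  rw [map_mul, map_inv, ← hγσ, hγ, hβ]
  group

/-- Every automorphism of `PSp m F` is induced by a semilinear similitude, unless `m = 2` and the characteristic is two. -/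
theorem aut_decomp [Fintype F] (hm : 2 ≤ m) (hne : 3 ≤ m ∨ (2 : F) ≠ 0) (α : MulAut (PS m F)) :
    ∃ (g : ↥(Cfsg.GSp m F)) (σ : F ≃+* F), α = cj g * fd σ :=
  rigid hm fun x => ⟨fun h => by simpa using isTr_map hm hne α⁻¹ h, isTr_map hm hne α⟩

end Cfsg.Agent.AutPSpMain
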