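import Mathlib
import Cfsg.Prelude.Def_LieTypeDatum
import Cfsg.Agent.Lib.SymplecticBasic
import Cfsg.Agent.Lib.SymplecticSimple
import Cfsg.Agent.Lib.SymplecticDecomp
import Cfsg.Agent.Lib.AutPSpBasic
import Cfsg.Agent.Lib.AutPSpTransv
import Cfsg.Agent.Lib.AutPSpMain
import Cfsg.Agent.Lib.AutPSLApi

/-!
The predicates of the Prelude on automorphisms of `PSp m F` in terms of `cj` and `fd`, faithfulness, and counting.
-/

set_option autoImplicit false

namespace Cfsg.Agent.AutPSpApi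

open Matrix
open Cfsg.Agent.SymplecticBasic Cfsg.Agent.SymplecticSimple Cfsg.Agent.AutPSpBasic Cfsg.Agent.AutPSpTransv Cfsg.Agent.AutPSpMain

variable {m : ℕ} {F : Type*} [Field F]

lemma isInduced_iff (g : ↥(Cfsg.GSp m F)) (σ : F ≃+* F) (β : MulAut (PS m F)) :
    Cfsg.IsInducedBySemilinearPSp (g : GL (Fin m ⊕ Fin m) F) σ β ↔ β = cj g * fd σ := by
  constructor
  · intro h
    apply MulEquiv.ext
    intro x
    induction x using QuotientGroup.induction_on with
    | H s =>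
      rw [MulAut.mul_apply, fd_mk, cj_mk]
      exact h s _ (by rw [coe_spConj, coe_spField])
  · rintro rfl s s' e
    rw [MulAut.mul_apply, fd_mk, cj_mk]
    congr 1
    exact Subtype.ext (by rw [coe_spConj, coe_spField, e])

lemma isStdField_iff (σ : F ≃+* F) (β : MulAut (PS m F)) : Cfsg.IsStdFieldAutPSp σ β ↔ β = fd σ := by
  constructor
  · intro h
    apply MulEquiv.ext
    intro x
    induction x using QuotientGroup.induction_on with
    | H s =>
      rw [fd_mk]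
      exact h s _ (coe_spField σ s)
  · rintro rfl s s' e
    rw [fd_mk]
    congr 1
    exact Subtype.ext (by rw [coe_spField, e])

lemma isInnerDiagonal_iff (β : MulAut (PS m F)) : Cfsg.IsInnerDiagonalAutPSp β ↔ ∃ g, β = cj g := by
  constructor
  · rintro ⟨g, hg, h⟩
    refine ⟨⟨g, hg⟩, ?_⟩
    have := (isInduced_iff ⟨g, hg⟩ (RingEquiv.refl F) β).1 h
    rwa [show (RingEquiv.refl F : F ≃+* F) = 1 from rfl, map_one, mul_one] at this
  · rintro ⟨g, rfl⟩
    refine ⟨g, g.2, (isInduced_iff g _ _).2 ?_⟩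
    rw [show (RingEquiv.refl F : F ≃+* F) = 1 from rfl, map_one, mul_one]

lemma inndiag_eq : Cfsg.inndiagPSp m F = (cj (m := m) (F := F)).range := by
  have : {β : MulAut (PS m F) | Cfsg.IsInnerDiagonalAutPSp β} = ((cj (m := m) (F := F)).range : Set _) := by
    ext β
    simp [isInnerDiagonal_iff, eq_comm]
  rw [Cfsg.inndiagPSp, Cfsg.autSubgroupOf, this, Subgroup.closure_eq]

lemma mem_inndiag (β : MulAut (PS m F)) : β ∈ Cfsg.inndiagPSp m F ↔ ∃ g, β = cj g := by
  rw [inndiag_eq, MonoidHom.mem_range]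
  simp [eq_comm]

/-- The automorphism group is the image of the semilinear similitudes when every automorphism permutes the transvections. -/
lemma gamma_eq_top (h : ∀ α : MulAut (PS m F), ∃ (g : ↥(Cfsg.GSp m F)) (σ : F ≃+* F), α = cj g * fd σ) :
    Cfsg.gammaPSp m F = ⊤ := by
  rw [eq_top_iff]
  intro α _
  obtain ⟨g, σ, rfl⟩ := h α
  exact Subgroup.subset_closure ⟨(g : GL (Fin m ⊕ Fin m) F), σ, g.2, (isInduced_iff g σ _).2 rfl⟩

/-- The kernel of the action of semilinear similitudes on `PSp`. -/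
lemma cj_fd_eq_one (hm : 2 ≤ m) {g : ↥(Cfsg.GSp m F)} {σ : F ≃+* F} (h : cj g * fd σ = (1 : MulAut (PS m F))) :
    (g : GL (Fin m ⊕ Fin m) F) ∈ Cfsg.Geo.scalars (Fin m ⊕ Fin m) F ∧ σ = 1 := by
  classical
  obtain ⟨μ, hμ, hg⟩ := GSp_mult g
  set G := ((g : GL (Fin m ⊕ Fin m) F) : Matrix (Fin m ⊕ Fin m) (Fin m ⊕ Fin m) F) with hG
  have key : ∀ v : Vc m F, v ≠ 0 → ∀ c : F, c ≠ 0 →
      ∃ a : F, a ≠ 0 ∧ G *ᵥ (σ ∘ v) = a • v ∧ c = a ^ 2 * (σ c / μ) := by
    intro v hv c hc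
    have e : cj g (fd σ (T v c)) = T v c := by rw [← MulAut.mul_apply, h, MulAut.one_apply]
    rw [fd_T, cj_T g hμ hg] at e
    exact T_eq hm hv hc e.symm
  have hσsv : ∀ z, (σ ∘ sv z : Vc m F) = sv z := fun z => by
    funext y; rcases eq_or_ne y z with rfl | hy <;> simp [sv, *]
  have hkey : ∀ z, ∃ a : F, a ≠ 0 ∧ G *ᵥ sv z = a • sv z := fun z => by
    obtain ⟨a, ha, h1, -⟩ := key _ (sv_ne z) 1 one_ne_zero
    rw [hσsv] at h1
    exact ⟨a, ha, h1⟩
  choose d hd0 hd using hkey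
  have hsame : ∀ z w, d z = d w := by
    intro z w
    rcases eq_or_ne z w with rfl | hzw
    · rfl
    obtain ⟨a, -, ha, -⟩ := key (sv z + sv w) (fun e => by
      have := congrFun e z; simp [sv, hzw] at this) 1 one_ne_zero
    have hs : (σ ∘ (sv z + sv w) : Vc m F) = sv z + sv w := by
      funext y
      show σ (sv z y + sv w y) = _
      rw [map_add, show σ (sv z y) = sv z y from congrFun (hσsv z) y, show σ (sv w y) = sv w y from congrFun (hσsv w) y]
      rfl
    rw [hs, mulVec_add, hd, hd] at ha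
    have h1 := congrFun ha z
    have h2 := congrFun ha w
    simp [sv, hzw, hzw.symm] at h1 h2
    rw [h1, h2]
  let z0 : Fin m ⊕ Fin m := .inl ⟨0, by omega⟩
  have hscal : G = d z0 • (1 : Matrix (Fin m ⊕ Fin m) (Fin m ⊕ Fin m) F) := by
    ext a b
    have := congrFun (hd b) a
    rw [mulVec_single_one] at this
    simp only [Matrix.col_apply, Pi.smul_apply, smul_eq_mul] at this
    rw [this, hsame b z0]
    rcases eq_or_ne a b with rfl | hab <;> simp [sv, *]
  have hμ' : μ = d z0 ^ 2 := by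
    have := hg (sv (.inr ⟨0, by omega⟩)) (sv z0)
    rw [hscal, smul_mulVec, smul_mulVec, one_mulVec, one_mulVec, form_smul_left, form_smul_right,
      form_sv_right_inl] at this
    simp [sv] at this
    linear_combination -this
  refine ⟨(Cfsg.Geo.mem_scalars_iff _).2 ⟨Units.mk0 _ (hd0 z0), hscal⟩, RingEquiv.ext fun c => ?_⟩
  show σ c = c
  rcases eq_or_ne c 0 with rfl | hc
  · exact map_zero σ
  obtain ⟨a, -, ha, hca⟩ := key _ (sv_ne z0) c hc
  rw [hσsv, hd] at ha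
  have hda : a = d z0 := by
    have := congrFun ha z0
    simpa [sv] using this.symm
  rw [hda, hμ'] at hca
  have := hd0 z0
  field_simp at hca
  exact hca.symm

lemma cj_eq_one_iff (hm : 2 ≤ m) (g : ↥(Cfsg.GSp m F)) :
    (cj g : MulAut (PS m F)) = 1 ↔ (g : GL (Fin m ⊕ Fin m) F) ∈ Cfsg.Geo.scalars (Fin m ⊕ Fin m) F := by
  refine ⟨fun h => (cj_fd_eq_one hm (g := g) (σ := 1) (by rw [map_one, mul_one, h])).1, fun h => ?_⟩
  obtain ⟨c, hc⟩ := (Cfsg.Geo.mem_scalars_iff _).1 h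
  apply MulEquiv.ext
  intro x
  induction x using QuotientGroup.induction_on with
  | H s =>
    rw [cj_mk, MulAut.one_apply]
    congr 1
    apply Subtype.ext
    rw [coe_spConj]
    have hinv := (g : GL (Fin m ⊕ Fin m) F).mul_inv
    rw [hc] at hinv ⊢
    rw [smul_mul, one_mul] at hinv
    rw [smul_mul, one_mul, smul_mul, ← Matrix.mul_smul, hinv, mul_one]

lemma fd_injective (hm : 2 ≤ m) : Function.Injective (fd : (F ≃+* F) → MulAut (PS m F)) :=
  (injective_iff_map_eq_one _).2 fun σ h => (cj_fd_eq_one hm (g := 1) (by rw [map_one, one_mul, h])).2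

/-- Conjugation, on `PGSp`. -/
noncomputable def cjP (hm : 2 ≤ m) : Cfsg.PGSp m F →* MulAut (PS m F) :=
  QuotientGroup.lift _ cj fun g hg => (cj_eq_one_iff hm g).2 (Subgroup.mem_subgroupOf.1 hg)

lemma cjP_injective (hm : 2 ≤ m) : Function.Injective (cjP (F := F) hm) := by
  rw [injective_iff_map_eq_one]
  intro x hx
  induction x using QuotientGroup.induction_on with
  | H g => exact (QuotientGroup.eq_one_iff g).2 (Subgroup.mem_subgroupOf.2 ((cj_eq_one_iff hm g).1 hx))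

/-- The automorphisms `cj g * fd σ` are distinct for distinct classes of `g` and distinct `σ`. -/
lemma semilinear_injective (hm : 2 ≤ m) :
    Function.Injective fun x : Cfsg.PGSp m F × (F ≃+* F) => cjP hm x.1 * fd x.2 := by
  rintro ⟨x, σ⟩ ⟨y, τ⟩ h
  obtain ⟨x, rfl⟩ := QuotientGroup.mk_surjective x
  obtain ⟨y, rfl⟩ := QuotientGroup.mk_surjective y
  have h' : (cj x * fd σ : MulAut (PS m F)) = cj y * fd τ := h
  have h1 : cj (y⁻¹ * x) * fd (σ * τ⁻¹) = (1 : MulAut (PS m F)) := by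
    rw [map_mul cj, map_mul fd, map_inv, map_inv, mul_assoc, ← mul_assoc (cj x), h']
    group
  obtain ⟨hs, hστ⟩ := cj_fd_eq_one hm h1
  exact Prod.ext (QuotientGroup.eq.2 (Subgroup.mem_subgroupOf.2 (by simpa using inv_mem hs)))
    (mul_inv_eq_one.1 hστ)

/-! ### The multiplier -/

/-- The multiplier of a similitude. -/
noncomputable def mult (g : ↥(Cfsg.GSp m F)) : Fˣ := g.2.choose

lemma mult_spec (g : ↥(Cfsg.GSp m F)) (u v : Vc m F) :
    sympForm m F (((g : GL (Fin m ⊕ Fin m) F) : Matrix (Fin m ⊕ Fin m) (Fin m ⊕ Fin m) F) *ᵥ u)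
      (((g : GL (Fin m ⊕ Fin m) F) : Matrix (Fin m ⊕ Fin m) (Fin m ⊕ Fin m) F) *ᵥ v) = (mult g : F) * sympForm m F u v :=
  g.2.choose_spec u v

variable (m F) in
/-- The multiplier, as a homomorphism. -/
noncomputable def multHom (hm : 1 ≤ m) : ↥(Cfsg.GSp m F) →* Fˣ :=
  MonoidHom.mk' mult fun g h => by
    apply Units.ext
    have hne := sv_ne (F := F) (Sum.inl (⟨0, hm⟩ : Fin m) : Fin m ⊕ Fin m)
    obtain ⟨z, hz⟩ := exists_form_eq_one hne
    have h1 := mult_spec (g * h) (sv (.inl ⟨0, hm⟩)) z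
    rw [Subgroup.coe_mul, Units.val_mul, ← mulVec_mulVec, ← mulVec_mulVec, mult_spec, mult_spec, hz, mul_one, mul_one] at h1
    rw [Units.val_mul]
    exact h1.symm

lemma mult_surjective (hm : 1 ≤ m) : Function.Surjective (multHom m F hm) := by
  intro μ
  obtain ⟨g, hg, -⟩ := exists_diag (fun _ : Fin m => (1 : Fˣ)) μ
  refine ⟨g, Units.ext ?_⟩
  obtain ⟨z, hz⟩ := exists_form_eq_one (sv_ne (F := F) (Sum.inl (⟨0, hm⟩ : Fin m) : Fin m ⊕ Fin m))
  have hf : ∀ v w : Vc m F, sympForm m F (((g : GL (Fin m ⊕ Fin m) F) : Matrix (Fin m ⊕ Fin m) (Fin m ⊕ Fin m) F) *ᵥ v)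
      (((g : GL (Fin m ⊕ Fin m) F) : Matrix (Fin m ⊕ Fin m) (Fin m ⊕ Fin m) F) *ᵥ w) = (μ : F) * sympForm m F v w := by
    intro v w
    rw [hg, hg, form_eq_sum, form_eq_sum, Finset.mul_sum]
    refine Finset.sum_congr rfl fun i _ => ?_
    simp
    ring
  have h1 := mult_spec g (sv (.inl ⟨0, hm⟩)) z
  rw [hf, hz, mul_one, mul_one] at h1
  exact h1.symm

lemma mult_ofSp (hm : 1 ≤ m) (s : Sp m F) : multHom m F hm (ofSp s) = 1 := by
  apply Units.ext
  obtain ⟨z, hz⟩ := exists_form_eq_one (sv_ne (F := F) (Sum.inl (⟨0, hm⟩ : Fin m) : Fin m ⊕ Fin m))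
  have h1 := mult_spec (ofSp s) (sv (.inl ⟨0, hm⟩)) z
  have h2 := mem_sp_iff_form.1 s.2 (sv (.inl ⟨0, hm⟩)) z
  change sympForm m F ((s : Matrix (Fin m ⊕ Fin m) (Fin m ⊕ Fin m) F) *ᵥ _) ((s : Matrix (Fin m ⊕ Fin m) (Fin m ⊕ Fin m) F) *ᵥ _) = _ at h1
  rw [h2, hz, mul_one] at h1
  exact h1.symm

variable (m F) in
/-- The inner automorphisms. -/
lemma inn_eq : (Cfsg.Inn (PS m F)) = ((ofSp (m := m) (F := F)).range).map cj := by
  ext β
  simp only [Cfsg.Inn, MonoidHom.mem_range, Subgroup.mem_map]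
  constructor
  · rintro ⟨x, rfl⟩
    obtain ⟨s, rfl⟩ := QuotientGroup.mk_surjective x
    exact ⟨ofSp s, ⟨s, rfl⟩, MulEquiv.ext fun y => cj_ofSp s y⟩
  · rintro ⟨_, ⟨s, rfl⟩, rfl⟩
    exact ⟨QuotientGroup.mk s, MulEquiv.ext fun y => (cj_ofSp s y).symm⟩

/-- The scalar similitude. -/
noncomputable def scalarG (u : Fˣ) : ↥(Cfsg.GSp m F) :=
  ⟨Units.map (Matrix.scalar (Fin m ⊕ Fin m) : F →+* _).toMonoidHom u, u * u, fun v w => by
    simp [Matrix.scalar_apply, ← Matrix.smul_one_eq_diagonal, smul_mulVec, form_smul_left, form_smul_right]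
    ring⟩

lemma scalarG_mulVec (u : Fˣ) (v : Vc m F) :
    (((scalarG (m := m) u : ↥(Cfsg.GSp m F)) : GL (Fin m ⊕ Fin m) F) : Matrix (Fin m ⊕ Fin m) (Fin m ⊕ Fin m) F) *ᵥ v = (u : F) • v := by
  simp [scalarG, Matrix.scalar_apply, ← Matrix.smul_one_eq_diagonal, smul_mulVec]

lemma scalarG_mem (u : Fˣ) : ((scalarG (m := m) u : ↥(Cfsg.GSp m F)) : GL (Fin m ⊕ Fin m) F) ∈ Cfsg.Geo.scalars (Fin m ⊕ Fin m) F :=
  ⟨u, rfl⟩

lemma mult_scalarG (hm : 1 ≤ m) (u : Fˣ) : multHom m F hm (scalarG u) = u * u := by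
  apply Units.ext
  obtain ⟨z, hz⟩ := exists_form_eq_one (sv_ne (F := F) (Sum.inl (⟨0, hm⟩ : Fin m) : Fin m ⊕ Fin m))
  have h1 := mult_spec (scalarG u) (sv (.inl ⟨0, hm⟩)) z
  rw [scalarG_mulVec, scalarG_mulVec, form_smul_left, form_smul_right, hz, mul_one, mul_one] at h1
  show (mult (scalarG u) : F) = _
  rw [Units.val_mul]
  exact h1.symm

/-- A similitude with square multiplier is scalar times symplectic. -/
lemma exists_scalar_sp (hm : 1 ≤ m) (g : ↥(Cfsg.GSp m F)) (u : Fˣ) (h : multHom m F hm g = u * u) :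
    ∃ s : Sp m F, g = scalarG u * ofSp s := by
  set k := (scalarG u)⁻¹ * g with hk
  have h1 : mult k = 1 := by
    show multHom m F hm k = 1
    rw [map_mul, map_inv, mult_scalarG, h, inv_mul_cancel]
  refine ⟨⟨((k : GL (Fin m ⊕ Fin m) F) : Matrix (Fin m ⊕ Fin m) (Fin m ⊕ Fin m) F), mem_sp_iff_form.2 fun v w => ?_⟩, ?_⟩
  · rw [mult_spec, h1, Units.val_one, one_mul]
  · rw [← mul_inv_cancel_left (scalarG u) g, ← hk]
    congr 1
    exact Subtype.ext (Units.ext rfl)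

/-- The inner automorphisms as images of similitudes of square multiplier. -/
lemma inn_eq' (hm : 2 ≤ m) :
    Cfsg.Inn (PS m F) = ((powMonoidHom 2 : Fˣ →* Fˣ).range.comap (multHom m F (by omega))).map cj := by
  rw [inn_eq]
  refine le_antisymm (Subgroup.map_mono ?_) ?_
  · rintro _ ⟨s, rfl⟩
    exact ⟨1, by simp [mult_ofSp (by omega : 1 ≤ m)]⟩
  · rintro _ ⟨g, ⟨u, hu⟩, rfl⟩
    obtain ⟨s, rfl⟩ := exists_scalar_sp (by omega) g u (by rw [← hu, powMonoidHom_apply, pow_two])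
    exact ⟨ofSp s, ⟨s, rfl⟩, by rw [map_mul, (cj_eq_one_iff hm _).2 (scalarG_mem u), one_mul]⟩

lemma inn_injective (hm : 2 ≤ m) : Function.Injective (MulAut.conj : PS m F →* MulAut (PS m F)) := by
  rw [injective_iff_map_eq_one]
  intro x hx
  obtain ⟨s, rfl⟩ := QuotientGroup.mk_surjective x
  have h : cj (ofSp s) = (1 : MulAut (PS m F)) := by rw [← hx]; exact MulEquiv.ext fun y => cj_ofSp s y
  obtain ⟨c, hc⟩ := (Cfsg.Geo.mem_scalars_iff _).1 ((cj_eq_one_iff hm _).1 h)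
  refine (QuotientGroup.eq_one_iff s).2 (Subgroup.mem_center_iff.2 fun t => Subtype.ext ?_)
  change (s : Matrix (Fin m ⊕ Fin m) (Fin m ⊕ Fin m) F) = _ at hc
  show (t : Matrix (Fin m ⊕ Fin m) (Fin m ⊕ Fin m) F) * s = (s : Matrix (Fin m ⊕ Fin m) (Fin m ⊕ Fin m) F) * t
  rw [hc, mul_smul_comm, smul_mul, mul_one, one_mul]

/-- The order of `PGSp`. -/
theorem card_PGSp [Fintype F] (hm : 2 ≤ m) :
    Nat.card (Cfsg.PGSp m F) = Nat.gcd 2 (Fintype.card F - 1) * Nat.card (PS m F) := by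
  classical
  have hm1 : 1 ≤ m := by omega
  set K := (powMonoidHom 2 : Fˣ →* Fˣ).range.comap (multHom m F hm1) with hK
  have hKidx : K.index = Nat.gcd 2 (Fintype.card F - 1) := by
    rw [hK, Subgroup.index_comap_of_surjective _ (mult_surjective hm1), IsCyclic.index_powMonoidHom_range,
      Nat.card_units, Nat.card_eq_fintype_card, Nat.gcd_comm]
  have hker : (cj (m := m) (F := F)).rangeRestrict.ker ≤ K := by
    intro g hg
    rw [MonoidHom.ker_rangeRestrict, MonoidHom.mem_ker, cj_eq_one_iff hm] at hg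
    obtain ⟨u, hu⟩ := hg
    refine ⟨u, ?_⟩
    rw [show g = scalarG u from Subtype.ext hu.symm, mult_scalarG, powMonoidHom_apply, pow_two]
  have h1 : Nat.card (cj (m := m) (F := F)).range = Nat.card (Cfsg.PGSp m F) := by
    refine Nat.card_congr (Equiv.ofBijective (fun x => (⟨cjP hm x, ?_⟩ : (cj (m := m) (F := F)).range)) ⟨?_, ?_⟩).symm
    · obtain ⟨g, rfl⟩ := QuotientGroup.mk_surjective x; exact ⟨g, rfl⟩
    · intro x y e; exact cjP_injective hm (congrArg Subtype.val e)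
    · rintro ⟨_, g, rfl⟩; exact ⟨QuotientGroup.mk g, rfl⟩
  have h2 : Nat.card (K.map (cj (m := m) (F := F)).rangeRestrict) = Nat.card (PS m F) := by
    rw [Nat.card_congr (((K.map (cj (m := m) (F := F)).rangeRestrict).equivMapOfInjective _
      (cj (m := m) (F := F)).range.subtype_injective).toEquiv), Subgroup.map_map, MonoidHom.subtype_comp_rangeRestrict,
      ← inn_eq' hm]
    exact Nat.card_congr (Equiv.ofInjective _ (inn_injective hm)).symm
  rw [← h1, ← (K.map (cj (m := m) (F := F)).rangeRestrict).card_mul_index, h2,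
    Subgroup.index_map_eq _ (MonoidHom.rangeRestrict_surjective _) hker, hKidx, mul_comm]

/-- The order of the automorphism group when every automorphism is semilinear. -/
theorem card_mulAut [Fintype F] {p f : ℕ} [Fact p.Prime] (hF : Fintype.card F = p ^ f) (hf : 1 ≤ f) (hm : 2 ≤ m)
    (h : ∀ α : MulAut (PS m F), ∃ (g : ↥(Cfsg.GSp m F)) (σ : F ≃+* F), α = cj g * fd σ) :
    Nat.card (MulAut (PS m F)) = f * (Nat.gcd 2 (p ^ f - 1) * Nat.card (PS m F)) := by
  rw [← hF, ← card_PGSp hm, ← AutPSLApi.card_ringAut hF hf, mul_comm, ← Nat.card_prod]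
  refine (Nat.card_congr (Equiv.ofBijective _ ⟨semilinear_injective (F := F) hm, fun α => ?_⟩)).symm
  obtain ⟨g, σ, rfl⟩ := h α
  exact ⟨(QuotientGroup.mk g, σ), rfl⟩

end Cfsg.Agent.AutPSpApi
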