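import Mathlib
import Cfsg.Agent.Lib.SymplecticBasic
import Cfsg.Agent.Lib.SymplecticSimple
import Cfsg.Agent.Lib.SymplecticDecomp
import Cfsg.Agent.Lib.AutPSpBasic
import Cfsg.Agent.Lib.AutPSpTransv
import Cfsg.Agent.Lib.AutPSpMain
import Cfsg.Agent.Lib.AutPSpApi

/-!
The exceptional automorphism of `PSp 2 F` in characteristic two, from the action on `ω^⊥/ω` in the exterior square.
-/

set_option autoImplicit false

namespace Cfsg.Agent.AutPSp4Duality

open Matrix
open Cfsg.Agent.SymplecticBasic Cfsg.Agent.SymplecticSimple Cfsg.Agent.AutPSpBasic Cfsg.Agent.AutPSpTransv Cfsg.Agent.AutPSpMain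

variable {F : Type*} [Field F]

/-- Indices of a four-dimensional symplectic space. -/
abbrev Ix : Type := Fin 2 ⊕ Fin 2

/-- The four pairs of orthogonal basis vectors. -/
def pr : Ix → Ix × Ix
  | .inl 0 => (.inl 0, .inl 1)
  | .inr 0 => (.inr 0, .inr 1)
  | .inl 1 => (.inl 0, .inr 1)
  | .inr 1 => (.inr 0, .inl 1)

/-- A two by two minor, in characteristic two. -/
def mn (M : Matrix Ix Ix F) (a b c d : Ix) : F := M a c * M b d + M a d * M b c

/-- The matrix of the action on `ω^⊥/ω`. -/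
def ext (M : Matrix Ix Ix F) : Matrix Ix Ix F :=
  Matrix.of fun P Q => mn M (pr P).1 (pr P).2 (pr Q).1 (pr Q).2

lemma mem_iff' [CharP F 2] {M : Matrix Ix Ix F} :
    M ∈ Matrix.symplecticGroup (Fin 2) F ↔ M * Matrix.J (Fin 2) F * Mᵀ = Matrix.J (Fin 2) F :=
  SymplecticGroup.mem_iff

lemma rowrel [CharP F 2] {M : Matrix Ix Ix F} (hM : M ∈ Matrix.symplecticGroup (Fin 2) F) (P : Ix) :
    mn M (pr P).1 (pr P).2 (.inl 0) (.inr 0) = mn M (pr P).1 (pr P).2 (.inl 1) (.inr 1) := by
  have h := congrFun (congrFun (mem_iff'.1 hM) (pr P).1) (pr P).2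
  have h2 : (2 : F) = 0 := CharTwo.two_eq_zero
  rcases P with i | i <;> fin_cases i <;>
    simp [pr, mn, Matrix.mul_apply, Matrix.J, Fintype.sum_sum_type, Fin.sum_univ_two, Matrix.one_apply] at h ⊢ <;>
    grind

lemma colrel [CharP F 2] {M : Matrix Ix Ix F} (hM : M ∈ Matrix.symplecticGroup (Fin 2) F) (Q : Ix) :
    mn M (.inl 0) (.inr 0) (pr Q).1 (pr Q).2 = mn M (.inl 1) (.inr 1) (pr Q).1 (pr Q).2 := by
  have h := rowrel (SymplecticGroup.transpose_mem hM) Q
  simp only [mn, transpose_apply] at h ⊢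
  linear_combination h

lemma mn_mul [CharP F 2] (M N : Matrix Ix Ix F) (a b c d : Ix)
    (hx : mn M a b (.inl 0) (.inr 0) = mn M a b (.inl 1) (.inr 1))
    (hy : mn N (.inl 0) (.inr 0) c d = mn N (.inl 1) (.inr 1) c d) :
    mn (M * N) a b c d = ∑ P, mn M a b (pr P).1 (pr P).2 * mn N (pr P).1 (pr P).2 c d := by
  have h2 : (2 : F) = 0 := CharTwo.two_eq_zero
  simp only [mn] at hx hy
  simp only [mn, pr, Matrix.mul_apply, Fintype.sum_sum_type, Fin.sum_univ_two]
  linear_combination (M a (.inl 0) * M b (.inr 0) + M a (.inr 0) * M b (.inl 0)) * hy -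
    (N (.inl 1) c * N (.inr 1) d + N (.inl 1) d * N (.inr 1) c) * hx +
    ((M a (.inl 0) * M b (.inr 0) + M a (.inr 0) * M b (.inl 0)) *
        (N (.inl 1) c * N (.inr 1) d + N (.inl 1) d * N (.inr 1) c) +
      (M a (.inl 0) * M b (.inl 0) * N (.inl 0) c * N (.inl 0) d + M a (.inr 0) * M b (.inr 0) * N (.inr 0) c * N (.inr 0) d +
        M a (.inl 1) * M b (.inl 1) * N (.inl 1) c * N (.inl 1) d + M a (.inr 1) * M b (.inr 1) * N (.inr 1) c * N (.inr 1) d)) * h2

lemma ext_mul [CharP F 2] {M N : Matrix Ix Ix F} (hM : M ∈ Matrix.symplecticGroup (Fin 2) F)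
    (hN : N ∈ Matrix.symplecticGroup (Fin 2) F) : ext (M * N) = ext M * ext N := by
  ext P Q
  rw [Matrix.mul_apply]
  exact mn_mul M N _ _ _ _ (rowrel hM P) (colrel hN Q)

lemma ext_one : ext (1 : Matrix Ix Ix F) = 1 := by
  ext P Q
  rcases P with i | i <;> fin_cases i <;> rcases Q with j | j <;> fin_cases j <;>
    simp [ext, mn, pr, Matrix.one_apply]

lemma ext_J [CharP F 2] : ext (Matrix.J (Fin 2) F) = Matrix.J (Fin 2) F := by
  ext P Q
  rcases P with i | i <;> fin_cases i <;> rcases Q with j | j <;> fin_cases j <;>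
    simp [ext, mn, pr, Matrix.J, CharTwo.neg_eq, Matrix.one_apply]

lemma ext_transpose (M : Matrix Ix Ix F) : ext Mᵀ = (ext M)ᵀ := by
  ext P Q
  simp only [ext, mn, transpose_apply, Matrix.of_apply]
  ring

lemma ext_mem [CharP F 2] {M : Matrix Ix Ix F} (hM : M ∈ Matrix.symplecticGroup (Fin 2) F) :
    ext M ∈ Matrix.symplecticGroup (Fin 2) F := by
  have hJ := SymplecticGroup.J_mem (Fin 2) F
  have hJJ : Matrix.J (Fin 2) F * Matrix.J (Fin 2) F = 1 := by rw [Matrix.J_squared, CharTwo.neg_eq]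
  have hMt := SymplecticGroup.transpose_mem hM
  have h1 : ext (M * Matrix.J (Fin 2) F * Mᵀ) = ext (Matrix.J (Fin 2) F) := by rw [mem_iff'.1 hM]
  rw [ext_mul (mul_mem hM hJ) hMt, ext_mul hM hJ, ext_J, ext_transpose] at h1
  exact SymplecticGroup.mem_iff.2 h1

variable (F) in
/-- The exceptional endomorphism of `Sp 2 F`. -/
def spGamma [CharP F 2] : Sp 2 F →* Sp 2 F where
  toFun s := ⟨ext (s : Matrix Ix Ix F), ext_mem s.2⟩
  map_one' := Subtype.ext ext_one
  map_mul' s t := Subtype.ext (ext_mul s.2 t.2)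

lemma coe_spGamma [CharP F 2] (s : Sp 2 F) : ((spGamma F s : Sp 2 F) : Matrix Ix Ix F) = ext (s : Matrix Ix Ix F) := rfl

lemma transv_apply (v : Vc 2 F) (c : F) (a b : Ix) :
    ((transv v c : Sp 2 F) : Matrix Ix Ix F) a b =
      (if a = b then 1 else 0) + c * sympForm 2 F (Pi.single b 1) v * v a := by
  have h := congrFun (transv_smul v c (Pi.single b 1)) a
  rw [smul_def, mulVec_single_one] at h
  simp only [Matrix.col_apply, Pi.add_apply, Pi.smul_apply, smul_eq_mul, Pi.single_apply] at h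
  exact h

lemma spGamma_sq [CharP F 2] [Fintype F] (φ : F ≃+* F) (hφ : ∀ x, φ x = x ^ 2) (s : Sp 2 F) :
    spGamma F (spGamma F s) = spField φ s := by
  have key : ((spGamma F).comp (spGamma F)).eqLocus (spField φ : Sp 2 F ≃* Sp 2 F).toMonoidHom = ⊤ := by
    rw [← top_le_iff, ← closure_transvections, Subgroup.closure_le]
    rintro A ⟨v, c, e⟩
    have eA : A = transv v c := Subtype.ext e
    subst eA
    show spGamma F (spGamma F (transv v c)) = spField φ (transv v c)
    apply Subtype.ext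
    rw [coe_spField, coe_spGamma, coe_spGamma]
    ext P Q
    have h2 : (2 : F) = 0 := CharTwo.two_eq_zero
    simp only [ext, mn, Matrix.of_apply, Matrix.map_apply, transv_apply, hφ]
    rcases P with i | i <;> fin_cases i <;> rcases Q with j | j <;> fin_cases j <;>
      simp [pr, form_eq_sum, Fin.sum_univ_two, Pi.single_apply, CharTwo.neg_eq] <;> grind
  exact (Subgroup.eq_top_iff' _).1 key s

variable (F) in
/-- The exceptional endomorphism of `PSp 2 F`. -/
def gHom [CharP F 2] : PS 2 F →* PS 2 F :=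
  QuotientGroup.lift _ ((QuotientGroup.mk' _).comp (spGamma F)) fun s hs => by
    rw [eq_one_of_mk (by omega) CharTwo.two_eq_zero ((QuotientGroup.eq_one_iff s).2 hs)]
    simp

lemma gHom_mk [CharP F 2] (s : Sp 2 F) : gHom F (QuotientGroup.mk s) = QuotientGroup.mk (spGamma F s) := rfl

variable (F) in
/-- The Frobenius automorphism of a finite field of characteristic two. -/
noncomputable def frob [CharP F 2] [Fintype F] : F ≃+* F := frobeniusEquiv F 2

lemma frob_apply [CharP F 2] [Fintype F] (x : F) : frob F x = x ^ 2 := by simp [frob, frobenius_def]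

lemma gHom_sq [CharP F 2] [Fintype F] (x : PS 2 F) : gHom F (gHom F x) = fd (frob F) x := by
  induction x using QuotientGroup.induction_on with
  | H s => rw [gHom_mk, gHom_mk, fd_mk, spGamma_sq (frob F) frob_apply]

variable (F) in
/-- The exceptional automorphism of `PSp 2 F`. -/
noncomputable def gam [CharP F 2] [Fintype F] : MulAut (PS 2 F) :=
  MulEquiv.ofBijective (gHom F)
    (Finite.injective_iff_bijective.1 fun x y h => (fd (frob F)).injective (by rw [← gHom_sq, h, gHom_sq]))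

lemma gam_apply [CharP F 2] [Fintype F] (x : PS 2 F) : gam F x = gHom F x := rfl

lemma gam_sq [CharP F 2] [Fintype F] : gam F * gam F = fd (frob F) :=
  MulEquiv.ext fun x => gHom_sq x

lemma ext_map (σ : F ≃+* F) (M : Matrix Ix Ix F) : ext (M.map σ) = (ext M).map σ := by
  ext P Q
  simp [ext, mn]

lemma gam_fd [CharP F 2] [Fintype F] (σ : F ≃+* F) : gam F * fd σ = fd σ * gam F := by
  apply MulEquiv.ext
  intro x
  induction x using QuotientGroup.induction_on with
  | H s =>
    rw [MulAut.mul_apply, MulAut.mul_apply, gam_apply, gam_apply, fd_mk, gHom_mk, gHom_mk, fd_mk]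
    congr 1
    apply Subtype.ext
    rw [coe_spGamma, coe_spField, coe_spField, coe_spGamma, ext_map]

/-- In characteristic two every inner-diagonal automorphism is inner. -/
lemma cj_inner {m : ℕ} [CharP F 2] [Fintype F] (hm : 2 ≤ m) (g : ↥(Cfsg.GSp m F)) :
    ∃ x, (cj g : MulAut (PS m F)) = MulAut.conj x := by
  classical
  obtain ⟨u, hu⟩ := QuadClassify.isSquare_of_two_eq_zero (CharTwo.two_eq_zero (R := F)) (AutPSpApi.multHom m F (by omega) g : F)
  have hu0 : u ≠ 0 := fun e => (AutPSpApi.multHom m F (by omega) g).ne_zero (by rw [hu, e, mul_zero])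
  obtain ⟨s, rfl⟩ := AutPSpApi.exists_scalar_sp (by omega) g (Units.mk0 u hu0) (Units.ext hu)
  refine ⟨QuotientGroup.mk s, ?_⟩
  rw [map_mul, (AutPSpApi.cj_eq_one_iff hm _).2 (AutPSpApi.scalarG_mem _), one_mul]
  exact MulEquiv.ext fun y => cj_ofSp s y

lemma conj_eq_cj {m : ℕ} (x : PS m F) : ∃ g, (MulAut.conj x : MulAut (PS m F)) = cj g := by
  obtain ⟨s, rfl⟩ := QuotientGroup.mk_surjective x
  exact ⟨ofSp s, MulEquiv.ext fun y => (cj_ofSp s y).symm⟩

/-- Inner-diagonal automorphisms are normalised by all automorphisms. -/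
lemma aut_conj_cj {m : ℕ} [CharP F 2] [Fintype F] (hm : 2 ≤ m) (β : MulAut (PS m F)) (g : ↥(Cfsg.GSp m F)) :
    ∃ g', β * cj g * β⁻¹ = cj g' := by
  obtain ⟨x, hx⟩ := cj_inner hm g
  obtain ⟨g', hg'⟩ := conj_eq_cj (β x)
  refine ⟨g', ?_⟩
  rw [hx, ← hg']
  apply MulEquiv.ext
  intro y
  simp [MulAut.mul_apply]

variable [CharP F 2] [Fintype F]

/-- The image of a long root element. -/
lemma gam_T (c : F) :
    ∃ s : Sp 2 F, gam F (T (sv (.inl 0)) c) = QuotientGroup.mk s ∧
      ∀ x : Vc 2 F, s • x = x + (c * x (.inr 1)) • sv (.inl 0) + (c * x (.inr 0)) • sv (.inl 1) := by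
  refine ⟨spGamma F (transv (sv (.inl 0)) c), rfl, fun x => ?_⟩
  funext P
  rw [smul_def, coe_spGamma]
  have h2 : (2 : F) = 0 := CharTwo.two_eq_zero
  simp only [ext, mn, mulVec, dotProduct, Matrix.of_apply, transv_apply]
  rcases P with i | i <;> fin_cases i <;>
    simp [pr, form_eq_sum, Fin.sum_univ_two, Pi.single_apply, Fintype.sum_sum_type, CharTwo.neg_eq, sv] <;> grind

lemma not_isTr_gam : ¬ IsTr (gam F (T (sv (.inl 0)) (1 : F))) := by
  obtain ⟨s, hs, hsx⟩ := gam_T (1 : F)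
  rw [hs]
  rintro ⟨v, d, hv, hd, e⟩
  have hst : s = transv v d := by
    have e' : (QuotientGroup.mk ((transv v d)⁻¹ * s) : PS 2 F) = 1 := by
      rw [QuotientGroup.mk_mul, QuotientGroup.mk_inv, e]
      exact inv_mul_cancel (T v d)
    exact (inv_mul_eq_one.1 (eq_one_of_mk (by omega) CharTwo.two_eq_zero e')).symm
  have h1 := hsx (sv (.inr 1))
  have h2 := hsx (sv (.inr 0))
  rw [hst, transv_smul] at h1 h2
  have a := congrFun h1 (.inl 1)
  have b := congrFun h1 (.inl 0)
  have c := congrFun h2 (.inl 1)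
  simp [sv, Pi.single_apply] at a b c
  grind

/-- A central element with both components non-zero violates `NoFour`. -/
lemma not_noFour_two (s : Sp 2 F) (a b : F) (ha : a ≠ 0) (hb : b ≠ 0)
    (hs : ∀ x : Vc 2 F, s • x = x + (a * x (.inr 0) + b * x (.inr 1)) • sv (.inl 0) + (b * x (.inr 0)) • sv (.inl 1)) :
    ¬ NoFour (QuotientGroup.mk s : PS 2 F) := by
  classical
  have h2 : (2 : F) = 0 := CharTwo.two_eq_zero
  intro hD
  let π : Ix → Ix
    | .inl 0 => .inr 1
    | .inl 1 => .inl 0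
    | .inr 0 => .inl 1
    | .inr 1 => .inr 0
  let π' : Ix → Ix
    | .inl 0 => .inl 1
    | .inl 1 => .inr 0
    | .inr 0 => .inr 1
    | .inr 1 => .inl 0
  have hP : ∀ (q : Ix → Ix) (u : Vc 2 F), (1 : Matrix Ix Ix F).submatrix q id *ᵥ u = u ∘ q := by
    intro q u; funext i; simp [mulVec, dotProduct, Matrix.one_apply]
  let g : Sp 2 F := ⟨(1 : Matrix Ix Ix F).submatrix π id,
    mem_sp_iff_form.2 fun u v => by
      rw [hP, hP]
      simp [form_eq_sum, Fin.sum_univ_two, π]
      grind⟩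
  have hg : ∀ u : Vc 2 F, g • u = u ∘ π := hP π
  have hg' : ∀ u : Vc 2 F, g⁻¹ • u = u ∘ π' := by
    intro u
    rw [inv_smul_eq_iff, hg]
    funext z
    rcases z with i | i <;> fin_cases i <;> rfl
  have hb2 : b * a ≠ 0 := mul_ne_zero hb ha
  set y := s * (g * s * g⁻¹) with hy
  have hy2 : ∀ x : Vc 2 F, (y * y) • x = x + (a * b * x (.inr 1)) • sv (.inl 0) +
      (a * b * x (.inr 0) + a * b * b * x (.inr 1)) • sv (.inl 1) := by
    intro x
    funext z
    simp only [hy, mul_smul, hs, hg, hg']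
    rcases z with i | i <;> fin_cases i <;> simp [π, π', sv, Pi.single_apply] <;> grind
  have h4 : y ^ 4 = 1 := by
    rw [show y ^ 4 = (y * y) * (y * y) by simp [pow_succ, mul_assoc]]
    refine ext_smul fun x => ?_
    rw [mul_smul, hy2 ((y * y) • x), hy2 x, one_smul]
    funext z
    rcases z with i | i <;> fin_cases i <;> simp [sv, Pi.single_apply] <;> grind
  have key := hD h2 (QuotientGroup.mk g) (by
    rw [← QuotientGroup.mk_inv, ← QuotientGroup.mk_mul, ← QuotientGroup.mk_mul, ← QuotientGroup.mk_mul,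
      ← QuotientGroup.mk_pow, ← hy, h4, QuotientGroup.mk_one])
  rw [← QuotientGroup.mk_inv, ← QuotientGroup.mk_mul, ← QuotientGroup.mk_mul, ← QuotientGroup.mk_mul,
    ← QuotientGroup.mk_pow, ← hy, pow_two] at key
  have h := congrFun (congrArg (fun t : Sp 2 F => t • (sv (.inr 1) : Vc 2 F)) (eq_one_of_mk (by omega) h2 key)) (.inl 0)
  simp [hy2, sv, Pi.single_apply] at h
  grind

/-- Transvections, or their images under the exceptional automorphism. -/
lemma candidate_cases {x : PS 2 F} (h1 : IsCentralSylow 2 x) (h2 : NoFour x) : IsTr x ∨ IsTr ((gam F)⁻¹ x) := by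
  classical
  haveI : Fact (Nat.Prime 2) := ⟨Nat.prime_two⟩
  obtain ⟨g, s, a, b, hxs, -, hs⟩ := central_form (le_refl 2) 2 h1
  have hs' : ∀ z : Vc 2 F, s • z = z + (a * z (.inr 0) + b * z (.inr 1)) • sv (.inl 0) + (b * z (.inr 0)) • sv (.inl 1) := hs
  have hne : (QuotientGroup.mk g : PS 2 F) * QuotientGroup.mk s * (QuotientGroup.mk g)⁻¹ ≠ 1 := hxs ▸ h1.1
  rcases eq_or_ne b 0 with rfl | hb
  · left
    have hst : s = transv (sv (.inl 0)) a := by
      refine ext_smul fun z => ?_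
      rw [hs', transv_smul, form_sv_right_inl]
      simp
    rw [hst, show (QuotientGroup.mk (transv (sv (.inl 0)) a) : PS 2 F) = T (sv (.inl 0)) a from rfl, T_conj] at hxs hne
    exact ⟨_, a, fun h => hne (by rw [h, (T_eq_one_iff le_rfl).2 (Or.inl rfl)]), fun h => hne (by rw [h, T_zero]), hxs⟩
  rcases eq_or_ne a 0 with rfl | ha
  · right
    obtain ⟨s', hs0, hsx⟩ := gam_T b
    have hss : s = s' := ext_smul fun z => by rw [hs', hsx, zero_mul, zero_add]
    subst hss
    rw [← hs0, ← (gam F).apply_symm_apply (QuotientGroup.mk g), ← map_inv, ← map_mul, ← map_mul] at hxs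
    rw [hxs, MulAut.inv_apply_self]
    obtain ⟨g', hg'⟩ := QuotientGroup.mk_surjective ((gam F).symm (QuotientGroup.mk g))
    rw [← hg', T_conj]
    refine ⟨_, b, fun h => sv_ne (F := F) (Sum.inl (0 : Fin 2) : Fin 2 ⊕ Fin 2) ?_, hb, rfl⟩
    exact MulAction.injective g' (show g' • _ = g' • (0 : Vc 2 F) by rw [h, smul_def, mulVec_zero])
  · exfalso
    refine not_noFour_two s a b ha hb hs' ?_
    have := noFour_map (MulAut.conj (QuotientGroup.mk g : PS 2 F))⁻¹ h2
    rwa [hxs, ← MulAut.conj_apply, MulAut.inv_apply_self] at this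

/-- Either an automorphism or its composite with the exceptional one permutes the transvections. -/
theorem good_or (α : MulAut (PS 2 F)) : Good α ∨ Good ((gam F)⁻¹ * α) := by
  classical
  haveI : Fact (Nat.Prime 2) := ⟨Nat.prime_two⟩
  have hne0 := sv_ne (F := F) (Sum.inl (0 : Fin 2) : Fin 2 ⊕ Fin 2)
  -- all transvections are conjugate
  have hall : ∀ x : PS 2 F, IsTr x → ∃ g, x = g * T (sv (.inl 0)) 1 * g⁻¹ := by
    rintro _ ⟨v, c, hv, hc, rfl⟩
    obtain ⟨u, rfl⟩ := QuadClassify.isSquare_of_two_eq_zero (CharTwo.two_eq_zero (R := F)) c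
    have hu : u ≠ 0 := fun e => hc (by rw [e, mul_zero])
    obtain ⟨g, hg⟩ := exists_smul_eq hne0 (smul_ne_zero hu hv)
    refine ⟨QuotientGroup.mk g, ?_⟩
    rw [T_conj, hg, T_scale, mul_one, pow_two]
  have htrc : ∀ (g x : PS 2 F), IsTr x → IsTr (g * x * g⁻¹) := by
    rintro g _ ⟨v, c, hv, hc, rfl⟩
    obtain ⟨g, rfl⟩ := QuotientGroup.mk_surjective g
    refine ⟨_, c, fun h => hv ?_, hc, T_conj g v c⟩
    exact MulAction.injective g (show g • v = g • (0 : Vc 2 F) by rw [h, smul_def, mulVec_zero])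
  have half : ∀ β : MulAut (PS 2 F), IsTr (β (T (sv (.inl 0)) 1)) → Good β := by
    intro β hβ
    have h1 : ∀ x, IsTr x → IsTr (β x) := fun x hx => by
      obtain ⟨g, rfl⟩ := hall x hx
      rw [map_mul, map_mul, map_inv]
      exact htrc _ _ hβ
    intro x
    refine ⟨fun hx => ?_, h1 x⟩
    haveI : Finite {y : PS 2 F // IsTr y} := inferInstance
    let f : {y : PS 2 F // IsTr y} → {y : PS 2 F // IsTr y} := fun y => ⟨β y.1, h1 _ y.2⟩
    have hf : Function.Injective f := fun y z e => Subtype.ext (β.injective (congrArg Subtype.val e))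
    obtain ⟨⟨y, hy⟩, e⟩ := (Finite.injective_iff_surjective.1 hf) ⟨β x, hx⟩
    exact β.injective (congrArg Subtype.val e) ▸ hy
  rcases candidate_cases (centralSylow_map 2 α (central_T le_rfl 2 hne0 one_ne_zero))
    (noFour_map α (noFour_T le_rfl hne0 one_ne_zero)) with h | h
  · exact Or.inl (half α h)
  · exact Or.inr (half _ h)

lemma not_good_gam : ¬ Good (gam F) := fun h =>
  not_isTr_gam ((h _).2 ⟨_, 1, sv_ne _, one_ne_zero, rfl⟩)

/-- The automorphisms of `PSp 2 F`, in characteristic two. -/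
theorem aut_decomp (α : MulAut (PS 2 F)) :
    ∃ (g : ↥(Cfsg.GSp 2 F)) (σ : F ≃+* F), α = cj g * fd σ ∨ α = gam F * (cj g * fd σ) := by
  rcases good_or α with h | h
  · obtain ⟨g, σ, e⟩ := rigid le_rfl h
    exact ⟨g, σ, Or.inl e⟩
  · obtain ⟨g, σ, e⟩ := rigid le_rfl h
    exact ⟨g, σ, Or.inr (by rw [← e, mul_inv_cancel_left])⟩

end Cfsg.Agent.AutPSp4Duality
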