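import Cfsg.Agent.Lib.AutPSLApi
import Cfsg.Agent.Lib.PSLSimple

/-!
A group with a normal subgroup isomorphic to `PSL(3,4)`, trivial centraliser and the order of the
automorphism group is the automorphism group of `PGL(3,4)`.
-/

set_option autoImplicit false

namespace Cfsg.Agent.AutL34Aut54

open Matrix
open Cfsg.Agent.AutPSLBasic Cfsg.Agent.AutPSLMain Cfsg.Agent.AutPSLApi
open scoped MatrixGroups commutatorElement

variable {F : Type*} [Field F]

/-- The quotient of the general linear group by its centre. -/
local notation "PGL3" F:max => GL (Fin 3) F ⧸ Subgroup.center (GL (Fin 3) F)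

theorem perfect_P : commutator (P 3 F) = ⊤ :=
  PSLSimple.commutator_PSL_eq_top (PSLSimple.commutator_SL_eq_top (by simp))

/-- An element commuting with everything is trivial. -/
theorem conj_injective [Fintype F] : Function.Injective (MulAut.conj : P 3 F →* MulAut (P 3 F)) := by
  rw [injective_iff_map_eq_one]
  intro x hx
  have hc : x ∈ Subgroup.center (P 3 F) := Subgroup.mem_center_iff.2 fun y => by
    have := congrArg (fun e : MulAut (P 3 F) => e y) hx
    simp only [MulAut.conj_apply, MulAut.one_apply, mul_inv_eq_iff_eq_mul] at this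
    exact this.symm
  haveI := PSLSimple.isSimpleGroup_PSL (ι := Fin 3) (F := F) (PSLSimple.commutator_SL_eq_top (by simp))
  rcases (Subgroup.center (P 3 F)).normal_of_characteristic.eq_bot_or_eq_top with h | h
  · rwa [h, Subgroup.mem_bot] at hc
  · exact absurd (fun a b => (Subgroup.mem_center_iff.1 (h ▸ Subgroup.mem_top b) a))
      (PSLSimple.not_isMulCommutative_PSL (ι := Fin 3) (PSLSimple.commutator_SL_eq_top (by simp)))

/-- The image of the special linear group. -/
noncomputable def incl : P 3 F →* PGL3 F :=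
  QuotientGroup.lift _ ((QuotientGroup.mk' _).comp Matrix.SpecialLinearGroup.toGL) fun s hs => by
    rw [MonoidHom.mem_ker, MonoidHom.comp_apply, QuotientGroup.mk'_apply, QuotientGroup.eq_one_iff,
      ← cj_eq_one_iff (by norm_num : 2 ≤ 3)]
    apply MulEquiv.ext
    intro x
    induction x using QuotientGroup.induction_on with
    | H t =>
      rw [cj_mk, MulAut.one_apply]
      congr 1
      apply Subtype.ext
      rw [coe_slConj]
      have := congrArg Subtype.val (Subgroup.mem_center_iff.1 hs t)
      rw [Matrix.SpecialLinearGroup.coe_mul, Matrix.SpecialLinearGroup.coe_mul] at this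
      show (s : Matrix (Fin 3) (Fin 3) F) * t * _ = (t : Matrix (Fin 3) (Fin 3) F)
      rw [← this, mul_assoc]
      show (t : Matrix (Fin 3) (Fin 3) F) * ((Matrix.SpecialLinearGroup.toGL s : GL (Fin 3) F) *
        ((Matrix.SpecialLinearGroup.toGL s)⁻¹ : GL (Fin 3) F)) = _
      rw [Units.mul_inv, mul_one]

theorem cjP_incl (x : P 3 F) :
    cjP (by norm_num : 2 ≤ 3) (incl x) = MulAut.conj x := by
  induction x using QuotientGroup.induction_on with
  | H s =>
    apply MulEquiv.ext
    intro y
    induction y using QuotientGroup.induction_on with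
    | H t =>
      show cj (Matrix.SpecialLinearGroup.toGL s) (QuotientGroup.mk t) = _
      rw [cj_mk, MulAut.conj_apply, ← QuotientGroup.mk_inv, ← QuotientGroup.mk_mul,
        ← QuotientGroup.mk_mul]
      congr 1

theorem incl_injective [Fintype F] : Function.Injective (incl (F := F)) := fun x y e =>
  conj_injective (by rw [← cjP_incl, ← cjP_incl, e])

theorem range_incl : (incl (F := F)).range = commutator (PGL3 F) := by
  refine le_antisymm ?_ ?_
  · rw [MonoidHom.range_eq_map, ← perfect_P, commutator_def, commutator_def,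
      Subgroup.map_commutator]
    exact Subgroup.commutator_mono le_top le_top
  · rw [commutator_eq_closure, Subgroup.closure_le]
    rintro _ ⟨a, b, rfl⟩
    obtain ⟨a, rfl⟩ := QuotientGroup.mk_surjective a
    obtain ⟨b, rfl⟩ := QuotientGroup.mk_surjective b
    have hdet : Matrix.GeneralLinearGroup.det ⁅a, b⁆ = 1 := by
      rw [map_commutatorElement]
      exact commutatorElement_eq_one_iff_mul_comm.2 (mul_comm _ _)
    refine ⟨QuotientGroup.mk ⟨((⁅a, b⁆ : GL (Fin 3) F) : Matrix (Fin 3) (Fin 3) F), ?_⟩, ?_⟩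
    · have := congrArg Units.val hdet
      rwa [Matrix.GeneralLinearGroup.val_det_apply, Units.val_one] at this
    · show QuotientGroup.mk' _ (Matrix.SpecialLinearGroup.toGL _) = _
      rw [show Matrix.SpecialLinearGroup.toGL
        (⟨((⁅a, b⁆ : GL (Fin 3) F) : Matrix (Fin 3) (Fin 3) F), _⟩ :
          Matrix.SpecialLinearGroup (Fin 3) F) = ⁅a, b⁆ from Units.ext rfl, map_commutatorElement]
      rfl

/-- Automorphisms of `PSL` and of `PGL` agree. -/
theorem exists_mulAut_equiv [Fintype F] :
    Nonempty (MulAut (P 3 F) ≃* MulAut (PGL3 F)) := by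
  have h2 : 2 ≤ 3 := by norm_num
  set R := (cjP (F := F) h2).range with hR
  -- the range is normal
  haveI : R.Normal := by
    refine ⟨fun x hx α => ?_⟩
    obtain ⟨q, rfl⟩ := hx
    obtain ⟨k, rfl⟩ := QuotientGroup.mk_surjective q
    have key : ∀ (γ : MulAut (P 3 F)) (k' : GL (Fin 3) F), γ * cj k = cj k' * γ →
        γ * cj k * γ⁻¹ = cj k' := fun γ k' e => by rw [e, mul_inv_cancel_right]
    show α * cj k * α⁻¹ ∈ R
    obtain ⟨g, σ, e | ⟨-, e⟩⟩ := aut_decomp h2 α
    · refine ⟨QuotientGroup.mk (g * Matrix.GeneralLinearGroup.map (σ : F →+* F) k * g⁻¹), ?_⟩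
      show cj (g * Matrix.GeneralLinearGroup.map (σ : F →+* F) k * g⁻¹) = _
      rw [e, map_mul, map_mul, map_inv, _root_.mul_inv_rev, mul_assoc (cj g) (fd σ) (cj k), fd_mul_cj]
      simp [mul_assoc]
    · refine ⟨QuotientGroup.mk (g * Matrix.GeneralLinearGroup.map (σ : F →+* F) (glInvT k) * g⁻¹),
        ?_⟩
      show cj (g * Matrix.GeneralLinearGroup.map (σ : F →+* F) (glInvT k) * g⁻¹) = _
      rw [e, map_mul, map_mul, map_inv, _root_.mul_inv_rev, _root_.mul_inv_rev,
        show cj g * fd σ * it * cj k = cj g * (fd σ * (it * cj k)) from by simp [mul_assoc],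
        it_mul_cj, ← mul_assoc (fd σ), fd_mul_cj]
      simp [mul_assoc]
  -- automorphisms of `P` act on `PGL`
  have hinj : Function.Injective (MulAut.conjNormal (H := R)) := by
    rw [injective_iff_map_eq_one]
    intro α hα
    apply MulEquiv.ext
    intro p
    have hp : MulAut.conj p ∈ R := ⟨incl p, cjP_incl p⟩
    have h1 := congrArg Subtype.val (congrArg (fun e : MulAut R => e ⟨_, hp⟩) hα)
    simp only [MulAut.conjNormal_apply, MulAut.one_apply] at h1
    have h3 : MulAut.conj (α p) = MulAut.conj p := by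
      rw [← h1]
      apply MulEquiv.ext
      intro y
      simp [MulAut.mul_apply, MulAut.conj_apply, MulAut.inv_apply]
    exact conj_injective h3
  let Φ : MulAut (P 3 F) →* MulAut (PGL3 F) :=
    (MulAut.congr (MonoidHom.ofInjective (cjP_injective h2)).symm).toMonoidHom.comp
      (MulAut.conjNormal (H := R))
  have hΦ : Function.Injective Φ :=
    (MulAut.congr (MonoidHom.ofInjective (cjP_injective h2)).symm).injective.comp hinj
  -- automorphisms of `PGL` are determined on the commutator subgroup
  set N := commutator (PGL3 F) with hN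
  have hmap : ∀ (β : MulAut (PGL3 F)) (x : PGL3 F), x ∈ N → β x ∈ N := by
    intro β x hx
    have hc : Subgroup.map β.toMonoidHom N = N :=
      Subgroup.characteristic_iff_map_eq.1 inferInstance β
    rw [← hc]
    exact ⟨x, hx, rfl⟩
  let Ψ : MulAut (PGL3 F) → MulAut N := fun β =>
    { toFun := fun x => ⟨β x, hmap β x x.2⟩
      invFun := fun x => ⟨β.symm x, hmap β.symm x x.2⟩
      left_inv := fun x => Subtype.ext (β.symm_apply_apply x)
      right_inv := fun x => Subtype.ext (β.apply_symm_apply x)
      map_mul' := fun x y => Subtype.ext (map_mul β (x : PGL3 F) y) }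
  have hcent : ∀ q : PGL3 F, (∀ x ∈ N, q * x * q⁻¹ = x) → q = 1 := by
    intro q hq
    refine cjP_injective h2 ?_
    rw [map_one]
    apply MulEquiv.ext
    intro p
    refine conj_injective ?_
    rw [MulAut.one_apply]
    have := congrArg (cjP h2) (hq (incl p) (by rw [hN, ← range_incl]; exact ⟨p, rfl⟩))
    rw [map_mul, map_mul, map_inv, cjP_incl] at this
    conv_rhs => rw [← this]
    apply MulEquiv.ext
    intro y
    simp [MulAut.mul_apply, MulAut.conj_apply, MulAut.inv_apply, cjP_incl]
  have hΨ : Function.Injective Ψ := by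
    intro β γ e
    apply MulEquiv.ext
    intro q
    have hfix : ∀ x, x ∈ N → β x = γ x := fun x hx =>
      congrArg Subtype.val (congrArg (fun e' : MulAut N => e' ⟨x, hx⟩) e)
    have h1 : γ.symm (β q) * q⁻¹ = 1 := by
      refine hcent _ fun x hx => ?_
      have hq := hfix _ ((inferInstance : N.Normal).conj_mem x hx q⁻¹)
      apply γ.injective
      simp only [map_mul, map_inv, MulEquiv.apply_symm_apply]
      simp only [map_mul, map_inv, inv_inv] at hq
      calc β q * (γ q)⁻¹ * γ x * (β q * (γ q)⁻¹)⁻¹
          = β q * ((γ q)⁻¹ * γ x * γ q) * (β q)⁻¹ := by group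
        _ = γ x := by rw [← hq, ← hfix x hx]; group
    have h3 : γ (γ.symm (β q) * q⁻¹) = γ 1 := by rw [h1]
    rw [map_mul, map_one, map_inv, γ.apply_symm_apply, mul_inv_eq_one] at h3
    exact h3
  haveI : Finite (PGL3 F) := inferInstance
  let eN : P 3 F ≃* N :=
    (MonoidHom.ofInjective (incl_injective (F := F))).trans (MulEquiv.subgroupCongr range_incl)
  haveI : Finite (MulAut N) :=
    Finite.of_injective (fun e : MulAut N => (e : N → N)) DFunLike.coe_injective
  have hle : Nat.card (MulAut (PGL3 F)) ≤ Nat.card (MulAut (P 3 F)) := by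
    rw [Nat.card_congr (MulAut.congr eN).toEquiv]
    exact Nat.card_le_card_of_injective Ψ hΨ
  haveI : Finite (MulAut (PGL3 F)) := Finite.of_injective Ψ hΨ
  exact ⟨MulEquiv.ofBijective Φ
    ((Nat.bijective_iff_injective_and_card Φ).2
      ⟨hΦ, le_antisymm (Nat.card_le_card_of_injective Φ hΦ) hle⟩)⟩

theorem card_mulAut_PSL34 [Fintype F] (hF : Fintype.card F = 4) :
    Nat.card (MulAut (P 3 F)) = 241920 := by
  haveI : Fact (Nat.Prime 2) := ⟨Nat.prime_two⟩
  rw [card_mulAut (p := 2) (f := 2) hF (by norm_num) (by norm_num), if_neg (by norm_num)]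
  have h1 : Nat.card (PGL3 F) = Nat.card (Matrix.SpecialLinearGroup (Fin 3) F) :=
    PSLCard.card_PGL
  have h2 := PSLCard.card_SL (F := F) 3
  rw [Nat.card_eq_fintype_card (α := F), hF, Fin.prod_univ_three] at h2
  norm_num at h2
  rw [h1]
  omega

/-- Fields of four elements give isomorphic groups. -/
theorem exists_psl_equiv {F0 : Type*} [Field F0] (σ : F0 ≃+* F) :
    Nonempty (P 3 F0 ≃* P 3 F) := by
  let φ : Matrix.SpecialLinearGroup (Fin 3) F0 ≃* Matrix.SpecialLinearGroup (Fin 3) F :=
    { toFun := Matrix.SpecialLinearGroup.map (σ : F0 →+* F)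
      invFun := Matrix.SpecialLinearGroup.map (σ.symm : F →+* F0)
      left_inv := fun s => by ext i j; exact σ.symm_apply_apply _
      right_inv := fun s => by ext i j; exact σ.apply_symm_apply _
      map_mul' := map_mul _ }
  refine ⟨QuotientGroup.congr _ _ φ ?_⟩
  ext y
  constructor
  · rintro ⟨x, hx, rfl⟩
    rw [Subgroup.mem_center_iff]
    intro z
    obtain ⟨z, rfl⟩ := φ.surjective z
    show φ z * φ x = φ x * φ z
    rw [← map_mul, ← map_mul, Subgroup.mem_center_iff.1 hx z]
  · intro hy
    refine ⟨φ.symm y, Subgroup.mem_center_iff.2 fun z => φ.injective ?_, φ.apply_symm_apply y⟩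
    rw [map_mul, map_mul, φ.apply_symm_apply]
    exact Subgroup.mem_center_iff.1 hy _

/-- The recognition of the automorphism group of `PGL(3,4)`. -/
theorem exists_equiv {G : Type*} [Group G] [Finite G] (L : Subgroup G) (hL : L.Normal)
    (hcard : Nat.card G = 241920) (hC : Subgroup.centralizer (L : Set G) = ⊥) {F0 : Type}
    [Field F0] [Fintype F0] (h0 : Fintype.card F0 = 4)
    (e : L ≃* Matrix.ProjectiveSpecialLinearGroup (Fin 3) F0) {F : Type*} [Field F] [Fintype F]
    (hF : Fintype.card F = 4) :
    Nonempty (G ≃* MulAut (GL (Fin 3) F ⧸ Subgroup.center (GL (Fin 3) F))) := by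
  obtain ⟨eP⟩ := exists_psl_equiv (F := F)
    (FiniteField.ringEquivOfCardEq (h0.trans hF.symm) : F0 ≃+* F)
  let Φ : G →* MulAut (P 3 F) :=
    (MulAut.congr (e.trans eP)).toMonoidHom.comp (MulAut.conjNormal (H := L))
  have hΦ : Function.Injective Φ := by
    refine (MulAut.congr (e.trans eP)).injective.comp ?_
    rw [injective_iff_map_eq_one]
    intro k hk
    have : k ∈ Subgroup.centralizer (L : Set G) := by
      rw [Subgroup.mem_centralizer_iff]
      intro x hx
      have := congrArg Subtype.val (congrArg (fun e' : MulAut L => e' ⟨x, hx⟩) hk)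
      simp only [MulAut.conjNormal_apply, MulAut.one_apply, mul_inv_eq_iff_eq_mul] at this
      exact this.symm
    rwa [hC, Subgroup.mem_bot] at this
  haveI : Finite (MulAut (P 3 F)) := Nat.finite_of_card_ne_zero (by
    rw [card_mulAut_PSL34 hF]; norm_num)
  obtain ⟨eA⟩ := exists_mulAut_equiv (F := F)
  exact ⟨(MulEquiv.ofBijective Φ ((Nat.bijective_iff_injective_and_card Φ).2
    ⟨hΦ, hcard.trans (card_mulAut_PSL34 hF).symm⟩)).trans eA⟩

end Cfsg.Agent.AutL34Aut54
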