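import Cfsg.Agent.Lib.AutL34Plane54Defs

/-!
# The local structure of the subgroup of index four (towards S3237)

`Loc V A S z`: a Sylow `2`-subgroup `S` of type `PSL₃(4)` with centre `V ⊓ A`, the centralizer of
`z` of shape `2^{2+4}:3`.
-/

set_option autoImplicit false

namespace Cfsg.Agent.AutL34Plane54

open Subgroup

variable {G : Type*} [Group G]

/-- The local configuration. -/
structure Loc (V A S : Subgroup G) (z : G) : Prop where
  sylow : ∃ T : Sylow 2 G, (T : Subgroup G) = S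
  card_S : Nat.card S = 64
  V_le : V ≤ S
  A_le : A ≤ S
  card_V : Nat.card V = 16
  card_A : Nat.card A = 16
  sq_V : ∀ u ∈ V, u * u = 1
  sq_A : ∀ u ∈ A, u * u = 1
  card_inter : Nat.card ↥(V ⊓ A) = 4
  center_S : S ⊓ centralizer (S : Set G) = V ⊓ A
  involutions : ∀ x ∈ S, x * x = 1 → x ∈ V ∨ x ∈ A
  cent_V : centralizer (V : Set G) = V
  cent_A : centralizer (A : Set G) = A
  mem_z : z ∈ V ⊓ A
  z_ne : z ≠ 1
  cent : ∀ x ∈ V ⊓ A, x ≠ 1 →
    Nat.card ↥(centralizer ({x} : Set G)) = 192 ∧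
      centralizer ({x} : Set G) ≤ normalizer (S : Set G)
  fused : ∀ x ∈ V ⊓ A, ∀ y ∈ V ⊓ A, x ≠ 1 → y ≠ 1 → ∃ g : G, g * x * g⁻¹ = y
  orbit_V : ∀ x ∈ V, ∀ y ∈ V, x ∉ A → y ∉ A →
    ∃ c ∈ centralizer ({z} : Set G), c * x * c⁻¹ = y
  orbit_A : ∀ x ∈ A, ∀ y ∈ A, x ∉ V → y ∉ V →
    ∃ c ∈ centralizer ({z} : Set G), c * x * c⁻¹ = y

/-- Exchange the points and the lines. -/
theorem Loc.swap {V A S : Subgroup G} {z : G} (h : Loc V A S z) : Loc A V S z :=
  ⟨h.sylow, h.card_S, h.A_le, h.V_le, h.card_A, h.card_V, h.sq_A, h.sq_V,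
    by rw [inf_comm]; exact h.card_inter, by rw [h.center_S, inf_comm],
    fun x hx e => (h.involutions x hx e).symm, h.cent_A, h.cent_V,
    by rw [inf_comm]; exact h.mem_z, h.z_ne, by rw [inf_comm]; exact h.cent,
    by rw [inf_comm]; exact h.fused, h.orbit_A, h.orbit_V⟩

end Cfsg.Agent.AutL34Plane54
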