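import Mathlib
import Cfsg.Prelude.Def_Involutions

/-!
# Strongly embedded subgroups: elementary theory

Criteria for strong embedding, the conjugacy of involutions, and the count of the involutions
interchanging two given cosets.
-/

namespace Cfsg.Agent.SignalizerStrongEmb

variable {G : Type*} [Group G]

theorem mem_conj_iff {H : Subgroup G} {g x : G} :
    x ∈ H.map (MulAut.conj g).toMonoidHom ↔ g⁻¹ * x * g ∈ H := by
  rw [Subgroup.mem_map_equiv]
  simp

theorem involution_mul_self {t : G} (ht : orderOf t = 2) : t * t = 1 := by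
  have := pow_orderOf_eq_one t
  rw [ht, pow_two] at this
  exact this

theorem involution_inv {t : G} (ht : orderOf t = 2) : t⁻¹ = t :=
  inv_eq_of_mul_eq_one_left (involution_mul_self ht)

theorem involution_ne_one {t : G} (ht : orderOf t = 2) : t ≠ 1 := by
  intro h
  simp [h] at ht

theorem orderOf_eq_two_of_mul_self {t : G} (h : t * t = 1) (h1 : t ≠ 1) : orderOf t = 2 :=
  orderOf_eq_prime (by rw [pow_two]; exact h) h1

theorem orderOf_conj (g t : G) : orderOf (g * t * g⁻¹) = orderOf t := by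
  simpa using (MulAut.conj g).orderOf_eq t

theorem exists_involution_of_even [Finite G] {H : Subgroup G} (he : Even (Nat.card H)) :
    ∃ t ∈ H, orderOf t = 2 := by
  haveI : Fact (Nat.Prime 2) := ⟨Nat.prime_two⟩
  obtain ⟨x, hx⟩ := exists_prime_orderOf_dvd_card' (G := ↥H) 2 (even_iff_two_dvd.1 he)
  exact ⟨x, x.2, by rw [Subgroup.orderOf_coe]; exact hx⟩

theorem even_card_of_involution_mem [Finite G] {H : Subgroup G} {t : G} (ht : orderOf t = 2)
    (htH : t ∈ H) : Even (Nat.card H) := by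
  rw [even_iff_two_dvd, ← ht, ← Subgroup.orderOf_mk t htH]
  exact orderOf_dvd_natCard _

/-! ### Two involutions -/

theorem conj_mul_eq_inv {a b : G} (ha : orderOf a = 2) (hb : orderOf b = 2) :
    a * (a * b) * a⁻¹ = (a * b)⁻¹ := by
  rw [mul_inv_rev, involution_inv hb, involution_inv ha, ← mul_assoc a a b, involution_mul_self ha,
    one_mul]

theorem conj_pow_mul_eq_inv {a b : G} (ha : orderOf a = 2) (hb : orderOf b = 2) (k : ℕ) :
    a * (a * b) ^ k * a⁻¹ = ((a * b) ^ k)⁻¹ := by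
  rw [← conj_pow, conj_mul_eq_inv ha hb, inv_pow]

/-- Two involutions with product of odd order are conjugate by an element of the cyclic subgroup
generated by the product. -/
theorem exists_conj_of_odd {a b : G} (ha : orderOf a = 2) (hb : orderOf b = 2)
    (ho : Odd (orderOf (a * b))) : ∃ w ∈ Subgroup.zpowers (a * b), w * a * w⁻¹ = b := by
  obtain ⟨k, hk⟩ := ho
  refine ⟨(a * b) ^ k, pow_mem (Subgroup.mem_zpowers _) k, ?_⟩
  have h1 := conj_pow_mul_eq_inv ha hb k
  have h2 : (a * b) ^ k * a * ((a * b) ^ k)⁻¹ = (a * b) ^ k * (a * b) ^ k * a := by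
    rw [← h1, involution_inv ha]
    simp only [mul_assoc]
    rw [← mul_assoc a a, involution_mul_self ha, one_mul]
  have h3 : (a * b) ^ k * (a * b) ^ k = (a * b)⁻¹ := by
    apply eq_inv_of_mul_eq_one_left
    rw [← pow_add, ← pow_succ]
    have : k + k + 1 = orderOf (a * b) := by omega
    rw [this, pow_orderOf_eq_one]
  rw [h2, h3, mul_inv_rev, involution_inv ha, involution_inv hb, mul_assoc,
    involution_mul_self ha, mul_one]

/-- Two involutions with product of even order commute with a common involution in the cyclic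
subgroup generated by the product. -/
theorem exists_commuting_of_even [Finite G] {a b : G} (ha : orderOf a = 2) (hb : orderOf b = 2)
    (he : Even (orderOf (a * b))) :
    ∃ w ∈ Subgroup.zpowers (a * b), orderOf w = 2 ∧ a * w = w * a ∧ b * w = w * b := by
  set x := a * b with hx
  have hpos : 0 < orderOf x := orderOf_pos x
  obtain ⟨m, hm⟩ := he
  have hm1 : 1 ≤ m := by omega
  set w := x ^ m with hw
  have hw2 : w * w = 1 := by rw [hw, ← pow_add, ← hm, pow_orderOf_eq_one]
  have hw1 : w ≠ 1 := pow_ne_one_of_lt_orderOf (by omega) (by omega)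
  have hwi : w⁻¹ = w := inv_eq_of_mul_eq_one_left hw2
  have h1 : a * w * a⁻¹ = w := by
    rw [hw, hx, conj_pow_mul_eq_inv ha hb m, ← hx, ← hw, hwi]
  have haw : a * w = w * a := mul_inv_eq_iff_eq_mul.1 h1
  refine ⟨w, pow_mem (Subgroup.mem_zpowers _) m, orderOf_eq_two_of_mul_self hw2 hw1, haw, ?_⟩
  have hb' : b = a * x := by rw [hx, ← mul_assoc, involution_mul_self ha, one_mul]
  have hxw : x * w = w * x := ((Commute.refl x).pow_right m).eq
  rw [hb']
  calc a * x * w = a * (x * w) := mul_assoc _ _ _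
    _ = a * w * x := by rw [hxw, mul_assoc]
    _ = w * (a * x) := by rw [haw, mul_assoc]

/-! ### Basic consequences of strong embedding -/

section SE

variable [Finite G] {H : Subgroup G} (hH : Cfsg.IsStronglyEmbedded H)
include hH

theorem mem_of_conj_mem {t g : G} (ht : orderOf t = 2) (htH : t ∈ H)
    (hg : g * t * g⁻¹ ∈ H) : g ∈ H := by
  by_contra hgH
  have hodd := hH.2.2 g hgH
  have hev : Even (Nat.card ↥(H ⊓ H.map (MulAut.conj g).toMonoidHom)) := by
    refine even_card_of_involution_mem (t := g * t * g⁻¹) (by rw [orderOf_conj, ht]) ⟨hg, mem_conj_iff.2 ?_⟩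
    simpa [mul_assoc] using htH
  exact Nat.not_even_iff_odd.2 hodd hev

theorem centralizer_le {t : G} (ht : orderOf t = 2) (htH : t ∈ H) :
    Subgroup.centralizer ({t} : Set G) ≤ H := by
  intro c hc
  rw [Subgroup.mem_centralizer_singleton_iff] at hc
  refine mem_of_conj_mem hH ht htH ?_
  rw [hc, mul_inv_cancel_right]
  exact htH

theorem mem_of_commute {t c : G} (ht : orderOf t = 2) (htH : t ∈ H) (hc : c * t = t * c) :
    c ∈ H :=
  centralizer_le hH ht htH (Subgroup.mem_centralizer_singleton_iff.2 hc)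

theorem odd_orderOf_mul {t u : G} (ht : orderOf t = 2) (htH : t ∈ H) (hu : orderOf u = 2)
    (huH : u ∉ H) : Odd (orderOf (t * u)) := by
  by_contra hodd
  obtain ⟨w, -, hw2, htw, huw⟩ := exists_commuting_of_even ht hu (Nat.not_odd_iff_even.1 hodd)
  exact huH (mem_of_commute hH hw2 (mem_of_commute hH ht htH htw.symm) huw)

theorem isConj_of_not_mem {t u : G} (ht : orderOf t = 2) (htH : t ∈ H) (hu : orderOf u = 2)
    (huH : u ∉ H) : IsConj t u := by
  obtain ⟨w, -, hw⟩ := exists_conj_of_odd ht hu (odd_orderOf_mul hH ht htH hu huH)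
  exact isConj_iff.2 ⟨w, hw⟩

theorem exists_involution_mem : ∃ t ∈ H, orderOf t = 2 := exists_involution_of_even hH.2.1

theorem exists_involution_not_mem : ∃ u, u ∉ H ∧ orderOf u = 2 := by
  obtain ⟨t, htH, ht⟩ := exists_involution_mem hH
  obtain ⟨g, -, hg⟩ := SetLike.exists_of_lt (lt_top_iff_ne_top.2 hH.1)
  exact ⟨g * t * g⁻¹, fun h => hg (mem_of_conj_mem hH ht htH h), by rw [orderOf_conj, ht]⟩

/-- All involutions of a group with a strongly embedded subgroup are conjugate. -/
theorem isConj_involutions {a b : G} (ha : orderOf a = 2) (hb : orderOf b = 2) : IsConj a b := by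
  obtain ⟨t, htH, ht⟩ := exists_involution_mem hH
  obtain ⟨u, huH, hu⟩ := exists_involution_not_mem hH
  have key : ∀ c : G, orderOf c = 2 → IsConj t c := by
    intro c hc
    by_cases hcH : c ∈ H
    · exact (isConj_of_not_mem hH ht htH hu huH).trans (isConj_of_not_mem hH hc hcH hu huH).symm
    · exact isConj_of_not_mem hH ht htH hc hcH
  exact (key a ha).symm.trans (key b hb)

/-- An involution outside `H` cannot invert a nontrivial element of `H` centralized by an
involution of `H`. -/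
theorem eq_one_of_inverted_of_commute {t u e : G} (ht : orderOf t = 2) (htH : t ∈ H)
    (hu : orderOf u = 2) (huH : u ∉ H) (heH : e ∈ H) (hue : u * e * u⁻¹ = e⁻¹)
    (hte : t * e = e * t) : e = 1 := by
  obtain ⟨k, hk⟩ := odd_orderOf_mul hH ht htH hu huH
  have hx : (t * u) * e * (t * u)⁻¹ = e⁻¹ := by
    rw [mul_inv_rev, show t * u * e * (u⁻¹ * t⁻¹) = t * (u * e * u⁻¹) * t⁻¹ by group, hue]
    have : t * e⁻¹ = e⁻¹ * t := (Commute.inv_right hte).eq
    rw [this, mul_inv_cancel_right]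
  set x := t * u with hxdef
  have hpow : ∀ n : ℕ, x ^ (2 * n) * e * (x ^ (2 * n))⁻¹ = e := by
    intro n
    induction n with
    | zero => simp
    | succ n ih =>
      have h2 : x * x * e * (x * x)⁻¹ = e := by
        rw [show x * x * e * (x * x)⁻¹ = x * (x * e * x⁻¹) * x⁻¹ by group, hx,
          show x * e⁻¹ * x⁻¹ = (x * e * x⁻¹)⁻¹ by group, hx, inv_inv]
      rw [Nat.mul_succ, pow_add, pow_two,
        show x ^ (2 * n) * (x * x) * e * (x ^ (2 * n) * (x * x))⁻¹
          = x ^ (2 * n) * (x * x * e * (x * x)⁻¹) * (x ^ (2 * n))⁻¹ by group, h2]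
      exact ih
  have hinv : e⁻¹ = e := by
    have h1 : x ^ (2 * k + 1) = 1 := by rw [← hk, pow_orderOf_eq_one]
    have h2 : x ^ (2 * k + 1) * e * (x ^ (2 * k + 1))⁻¹ = e⁻¹ := by
      rw [pow_succ', show x * x ^ (2 * k) * e * (x * x ^ (2 * k))⁻¹
          = x * (x ^ (2 * k) * e * (x ^ (2 * k))⁻¹) * x⁻¹ by group, hpow, hx]
    rw [h1] at h2
    simpa using h2.symm
  by_contra he1
  have he2 : orderOf e = 2 :=
    orderOf_eq_two_of_mul_self (by nth_rewrite 1 [← hinv]; exact inv_mul_cancel e) he1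
  rw [hinv] at hue
  exact huH (mem_of_commute hH he2 heH (mul_inv_eq_iff_eq_mul.1 hue))

/-- The involutions of a coset of `H` other than `H` itself embed into the involutions of `H`. -/
theorem conj_injOn_coset {t i j : G} (ht : orderOf t = 2) (htH : t ∈ H)
    (hi : orderOf i = 2) (hiH : i ∉ H) (hj : orderOf j = 2) (hij : i⁻¹ * j ∈ H)
    (hc : (i * j) * t * (i * j)⁻¹ = t) : i = j := by
  have hm : i * j ∈ H := by rwa [involution_inv hi] at hij
  have h := eq_one_of_inverted_of_commute hH ht htH hi hiH hm (conj_mul_eq_inv hi hj)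
    (mul_inv_eq_iff_eq_mul.1 hc).symm
  rw [← involution_inv hi] at h
  exact inv_mul_eq_one.1 h

end SE

/-! ### Criteria -/

theorem isStronglyEmbedded_iff [Finite G] {H : Subgroup G} :
    Cfsg.IsStronglyEmbedded H ↔ H ≠ ⊤ ∧ Even (Nat.card H) ∧
      ∀ t ∈ H, orderOf t = 2 → ∀ g : G, g * t * g⁻¹ ∈ H → g ∈ H := by
  refine ⟨fun h => ⟨h.1, h.2.1, fun t htH ht g hg => mem_of_conj_mem h ht htH hg⟩, ?_⟩
  rintro ⟨h1, h2, h3⟩
  refine ⟨h1, h2, fun g hg => ?_⟩
  by_contra hev
  obtain ⟨x, hx, hx2⟩ := exists_involution_of_even (Nat.not_odd_iff_even.1 hev)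
  obtain ⟨hx1, hxg'⟩ := Subgroup.mem_inf.1 hx
  have hxg := mem_conj_iff.1 hxg'
  refine hg (h3 _ hxg ?_ g (by simpa [mul_assoc] using hx1))
  have := orderOf_conj g⁻¹ x
  rw [inv_inv] at this
  rw [this, hx2]

theorem isStronglyEmbedded_of_centralizer [Finite G] {H : Subgroup G} (hne : H ≠ ⊤)
    (he : Even (Nat.card H))
    (hC : ∀ t ∈ H, orderOf t = 2 → Subgroup.centralizer ({t} : Set G) ≤ H)
    (hF : ∀ t ∈ H, ∀ s ∈ H, orderOf t = 2 → orderOf s = 2 → IsConj t s →
      ∃ h ∈ H, h * t * h⁻¹ = s) : Cfsg.IsStronglyEmbedded H := by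
  refine isStronglyEmbedded_iff.2 ⟨hne, he, fun t htH ht g hg => ?_⟩
  obtain ⟨h, hh, heq⟩ := hF t htH _ hg ht (by rw [orderOf_conj, ht]) (isConj_iff.2 ⟨g, rfl⟩)
  have hc : h⁻¹ * g ∈ Subgroup.centralizer ({t} : Set G) := by
    rw [Subgroup.mem_centralizer_singleton_iff]
    calc h⁻¹ * g * t = h⁻¹ * (g * t * g⁻¹) * g := by group
      _ = h⁻¹ * (h * t * h⁻¹) * g := by rw [heq]
      _ = t * (h⁻¹ * g) := by group
  simpa using mul_mem hh (hC t htH ht hc)

theorem IsStronglyEmbedded.conj_in [Finite G] {H : Subgroup G}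
    (hH : Cfsg.IsStronglyEmbedded H) {t s : G} (htH : t ∈ H) (hsH : s ∈ H)
    (ht : orderOf t = 2) (hts : IsConj t s) : ∃ h ∈ H, h * t * h⁻¹ = s := by
  obtain ⟨g, hg⟩ := isConj_iff.1 hts
  exact ⟨g, mem_of_conj_mem hH ht htH (hg.symm ▸ hsH), hg⟩

/-! ### Counting involutions by their action on cosets -/

section Count

variable [Finite G] {H : Subgroup G}

theorem card_conj_invol (P : G → Prop) (g : G) :
    Nat.card {i : G // orderOf i = 2 ∧ P i} =
      Nat.card {i : G // orderOf i = 2 ∧ P (g * i * g⁻¹)} := by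
  refine Nat.card_congr (Equiv.subtypeEquiv (MulAut.conj g⁻¹).toEquiv fun i => ?_)
  simp only [MulEquiv.toEquiv_eq_coe, MulEquiv.coe_toEquiv, MulAut.conj_apply, inv_inv]
  rw [show g * (g⁻¹ * i * g) * g⁻¹ = i by group]
  have := orderOf_conj g⁻¹ i
  rw [inv_inv] at this
  rw [this]

theorem smul_one_eq_iff {i : G} :
    i • ((1 : G) : G ⧸ H) = ((1 : G) : G ⧸ H) ↔ i ∈ H := by
  change ((i * 1 : G) : G ⧸ H) = _ ↔ _
  rw [QuotientGroup.eq]
  simp

theorem card_fixing (g : G) :
    Nat.card {i : G // orderOf i = 2 ∧ i • (g : G ⧸ H) = (g : G ⧸ H)} =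
      Nat.card {t : G // orderOf t = 2 ∧ t ∈ H} := by
  rw [card_conj_invol _ g]
  refine Nat.card_congr (Equiv.subtypeEquivRight fun i => and_congr_right' ?_)
  change ((g * i * g⁻¹ * g : G) : G ⧸ H) = _ ↔ _
  rw [QuotientGroup.eq]
  simp [mul_assoc]

variable (hH : Cfsg.IsStronglyEmbedded H)
include hH

theorem existsUnique_fixed {i : G} (hi : orderOf i = 2) : ∃! c : G ⧸ H, i • c = c := by
  obtain ⟨t, htH, ht⟩ := exists_involution_mem hH
  obtain ⟨g, hg⟩ := isConj_iff.1 (isConj_involutions hH ht hi)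
  refine ⟨(g : G ⧸ H), ?_, ?_⟩
  · change ((i * g : G) : G ⧸ H) = _
    rw [QuotientGroup.eq, ← hg]
    simp only [mul_inv_rev, inv_inv, mul_assoc, inv_mul_cancel_left, inv_mul_cancel, mul_one]
    simpa [involution_inv ht] using htH
  · intro c hc
    induction c using QuotientGroup.induction_on with
    | H y =>
      change ((i * y : G) : G ⧸ H) = _ at hc
      rw [QuotientGroup.eq, mul_inv_rev, involution_inv hi] at hc
      rw [QuotientGroup.eq]
      have h2 : y⁻¹ * g * t * (y⁻¹ * g)⁻¹ = y⁻¹ * i * y := by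
        rw [← hg]; group
      exact mem_of_conj_mem hH ht htH (h2 ▸ hc)

theorem card_swap_base_le {y : G} (hy : y ∉ H) :
    Nat.card {i : G // orderOf i = 2 ∧ i • ((1 : G) : G ⧸ H) = (y : G ⧸ H)} ≤
      Nat.card {t : G // orderOf t = 2 ∧ t ∈ H} := by
  rcases isEmpty_or_nonempty {i : G // orderOf i = 2 ∧ i • ((1 : G) : G ⧸ H) = (y : G ⧸ H)} with
    hem | ⟨⟨i0, hi0, hi0y⟩⟩
  · rw [Nat.card_of_isEmpty]
    exact Nat.zero_le _
  obtain ⟨t, htH, ht⟩ := exists_involution_mem hH
  have hmem : ∀ {i : G}, i • ((1 : G) : G ⧸ H) = (y : G ⧸ H) → i⁻¹ * y ∈ H := by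
    intro i hi
    change ((i * 1 : G) : G ⧸ H) = _ at hi
    simpa [QuotientGroup.eq] using hi
  have hd : ∀ {i : G}, i • ((1 : G) : G ⧸ H) = (y : G ⧸ H) → i0⁻¹ * i ∈ H := by
    intro i hi
    have := mul_mem (hmem hi0y) (inv_mem (hmem hi))
    simpa [mul_assoc] using this
  have hout : ∀ {i : G}, i • ((1 : G) : G ⧸ H) = (y : G ⧸ H) → i ∉ H := by
    intro i hi hiH
    exact hy (by simpa using mul_mem hiH (hmem hi))
  refine Nat.card_le_card_of_injective
    (fun i => ⟨i0⁻¹ * i.1 * t * (i0⁻¹ * i.1)⁻¹, by rw [orderOf_conj, ht],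
      mul_mem (mul_mem (hd i.2.2) htH) (inv_mem (hd i.2.2))⟩) ?_
  rintro ⟨i, hi, hiy⟩ ⟨j, hj, hjy⟩ heq
  simp only [Subtype.mk.injEq] at heq ⊢
  refine conj_injOn_coset hH ht htH hi (hout hiy) hj
    (by simpa [mul_assoc] using mul_mem (inv_mem (hd hiy)) (hd hjy)) ?_
  calc i * j * t * (i * j)⁻¹
      = i * i0 * (i0⁻¹ * j * t * (i0⁻¹ * j)⁻¹) * (i * i0)⁻¹ := by group
    _ = i * i0 * (i0⁻¹ * i * t * (i0⁻¹ * i)⁻¹) * (i * i0)⁻¹ := by rw [heq]
    _ = (i * i) * t * (i * i)⁻¹ := by group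
    _ = t := by rw [involution_mul_self hi]; simp

/-- The involutions interchanging two distinct cosets are as many as the involutions of `H`. -/
theorem card_swap (x y : G ⧸ H) (hxy : x ≠ y) :
    Nat.card {i : G // orderOf i = 2 ∧ i • x = y} =
      Nat.card {t : G // orderOf t = 2 ∧ t ∈ H} := by
  classical
  haveI := Fintype.ofFinite (G ⧸ H)
  set m := Nat.card {t : G // orderOf t = 2 ∧ t ∈ H} with hm
  have hle : ∀ x y : G ⧸ H, x ≠ y → Nat.card {i : G // orderOf i = 2 ∧ i • x = y} ≤ m := by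
    intro x y hxy
    induction x using QuotientGroup.induction_on with
    | H a =>
      induction y using QuotientGroup.induction_on with
      | H b =>
        rw [card_conj_invol _ a]
        have heq : Nat.card {i : G // orderOf i = 2 ∧ (a * i * a⁻¹) • (a : G ⧸ H) = (b : G ⧸ H)} =
            Nat.card {i : G // orderOf i = 2 ∧
              i • ((1 : G) : G ⧸ H) = ((a⁻¹ * b : G) : G ⧸ H)} := by
          refine Nat.card_congr (Equiv.subtypeEquivRight fun i => and_congr_right' ?_)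
          change ((a * i * a⁻¹ * a : G) : G ⧸ H) = _ ↔ ((i * 1 : G) : G ⧸ H) = _
          rw [QuotientGroup.eq, QuotientGroup.eq]
          simp [mul_assoc]
        rw [heq]
        exact card_swap_base_le hH fun h => hxy (QuotientGroup.eq.2 h)
  have hfix : ∀ c : G ⧸ H, Nat.card {i : G // orderOf i = 2 ∧ i • c = c} = m := by
    intro c
    induction c using QuotientGroup.induction_on with
    | H g => exact card_fixing g
  let F : G ⧸ H → ℕ := fun c => Nat.card {i : G // orderOf i = 2 ∧ i • x = c}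
  have hsum : ∑ c : G ⧸ H, F c = ∑ _c : G ⧸ H, m := by
    have e1 : {i : G // orderOf i = 2} ≃
        Σ c : G ⧸ H, {i : G // orderOf i = 2 ∧ i • x = c} :=
      { toFun := fun i => ⟨i.1 • x, i.1, i.2, rfl⟩
        invFun := fun p => ⟨p.2.1, p.2.2.1⟩
        left_inv := fun i => rfl
        right_inv := by rintro ⟨c, i, hi, rfl⟩; rfl }
    have h1 : Nat.card {i : G // orderOf i = 2} = ∑ c, F c := by
      rw [Nat.card_congr e1, Nat.card_sigma]
    have e2 : (Σ c : G ⧸ H, {i : G // orderOf i = 2 ∧ i • c = c}) ≃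
        {i : G // orderOf i = 2} :=
      Equiv.ofBijective (fun p => ⟨p.2.1, p.2.2.1⟩)
        ⟨by
          rintro ⟨c, i, hi, hic⟩ ⟨d, j, hj, hjd⟩ heq
          simp only [Subtype.mk.injEq] at heq
          subst heq
          obtain rfl := (existsUnique_fixed hH hi).unique hic hjd
          rfl, by
          rintro ⟨i, hi⟩
          obtain ⟨c, hc, -⟩ := existsUnique_fixed hH hi
          exact ⟨⟨c, i, hi, hc⟩, rfl⟩⟩
    have h2 : Nat.card {i : G // orderOf i = 2} = ∑ _c : G ⧸ H, m := by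
      rw [← Nat.card_congr e2, Nat.card_sigma]
      exact Finset.sum_congr rfl fun c _ => hfix c
    exact h1.symm.trans h2
  have hle' : ∀ c ∈ (Finset.univ : Finset (G ⧸ H)), F c ≤ m := by
    intro c _
    by_cases hc : x = c
    · subst hc
      exact (hfix x).le
    · exact hle x c hc
  exact (Finset.sum_eq_sum_iff_of_le hle').1 hsum y (Finset.mem_univ _)

/-- For an involution `u` outside `H`, the group `H ∩ uHu` is transitive on the involutions
of `H`. -/
theorem exists_conj_in_inf {u s t : G} (hu : orderOf u = 2) (huH : u ∉ H)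
    (hs : orderOf s = 2) (hsH : s ∈ H) (ht : orderOf t = 2) (htH : t ∈ H) :
    ∃ d ∈ H ⊓ H.map (MulAut.conj u).toMonoidHom, d * s * d⁻¹ = t := by
  have hne : ((1 : G) : G ⧸ H) ≠ (u : G ⧸ H) := fun h => huH (by simpa [QuotientGroup.eq] using h)
  have hcard := card_swap hH _ _ hne
  set X := {i : G // orderOf i = 2 ∧ i • ((1 : G) : G ⧸ H) = (u : G ⧸ H)}
  have hmem : ∀ i : X, i.1⁻¹ * u ∈ H := by
    intro i
    have h : ((i.1 * 1 : G) : G ⧸ H) = _ := i.2.2
    simpa [QuotientGroup.eq] using h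
  have hd : ∀ i : X, u * i.1 ∈ H := by
    intro i
    have := inv_mem (hmem i)
    rwa [mul_inv_rev, inv_inv, involution_inv hu] at this
  let f : X → {t : G // orderOf t = 2 ∧ t ∈ H} := fun i =>
    ⟨u * i.1 * s * (u * i.1)⁻¹, by rw [orderOf_conj, hs],
      mul_mem (mul_mem (hd i) hsH) (inv_mem (hd i))⟩
  have hinj : Function.Injective f := by
    intro i j hfij
    simp only [f, Subtype.mk.injEq] at hfij
    apply Subtype.ext
    refine conj_injOn_coset hH hs hsH i.2.1 (fun h => huH ?_) j.2.1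
      (by simpa [mul_assoc] using mul_mem (inv_mem (hd i)) (hd j)) ?_
    · simpa using mul_mem h (hmem i)
    · calc i.1 * j.1 * s * (i.1 * j.1)⁻¹
          = i.1 * u⁻¹ * (u * j.1 * s * (u * j.1)⁻¹) * (i.1 * u⁻¹)⁻¹ := by group
        _ = i.1 * u⁻¹ * (u * i.1 * s * (u * i.1)⁻¹) * (i.1 * u⁻¹)⁻¹ := by rw [hfij]
        _ = (i.1 * i.1) * s * (i.1 * i.1)⁻¹ := by group
        _ = s := by rw [involution_mul_self i.2.1]; simp
  have hbij := (Nat.bijective_iff_injective_and_card f).2 ⟨hinj, hcard⟩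
  obtain ⟨i, hi⟩ := hbij.2 ⟨t, ht, htH⟩
  refine ⟨u * i.1, Subgroup.mem_inf.2 ⟨hd i, ?_⟩, congrArg Subtype.val hi⟩
  rw [mem_conj_iff, inv_mul_cancel_left]
  have := hmem i
  rwa [involution_inv i.2.1] at this

end Count

end Cfsg.Agent.SignalizerStrongEmb
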