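import Mathlib
import Cfsg.Agent.Lib.AutL34Loc54
import Cfsg.Agent.Lib.SignalizerStrongEmb

/-!
# Strong closure of `V ⊓ A` in the index four configuration: elementary consequences (S3237)
-/

set_option autoImplicit false

namespace Cfsg.Agent.AutL34Closed54

open Subgroup
open Cfsg.Agent.AutL34Plane54 (Loc)

variable {G : Type*} [Group G] [Finite G]

/-- The hypotheses of the piece. -/
structure Closed (V A S : Subgroup G) (z : G) : Prop where
  loc : Loc V A S z
  notV : ∀ x ∈ V, x ∉ A → ¬ IsConj z x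
  notA : ∀ x ∈ A, x ∉ V → ¬ IsConj z x

variable {V A S : Subgroup G} {z : G}

theorem Closed.swap (h : Closed V A S z) : Closed A V S z :=
  ⟨h.loc.swap, h.notA, h.notV⟩

theorem orderOf_two {x : G} (h2 : x * x = 1) (h1 : x ≠ 1) : orderOf x = 2 :=
  SignalizerStrongEmb.orderOf_eq_two_of_mul_self h2 h1

theorem sq_of_order {x : G} (hx : orderOf x = 2) : x * x = 1 :=
  SignalizerStrongEmb.involution_mul_self hx

theorem Closed.sq_inter (h : Closed V A S z) {x : G} (hx : x ∈ V ⊓ A) : x * x = 1 :=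
  h.loc.sq_V x (mem_inf.mp hx).1

theorem Closed.order_z (h : Closed V A S z) : orderOf z = 2 :=
  orderOf_two (h.sq_inter h.loc.mem_z) h.loc.z_ne

theorem Closed.inter_le (h : Closed V A S z) : V ⊓ A ≤ S := fun _ hx => h.loc.V_le (mem_inf.mp hx).1

theorem Closed.central (h : Closed V A S z) {x s : G} (hx : x ∈ V ⊓ A) (hs : s ∈ S) :
    s * x = x * s := by
  rw [← h.loc.center_S] at hx
  exact mem_centralizer_iff.mp (mem_inf.mp hx).2 s hs

theorem Closed.S_le_cent (h : Closed V A S z) {x : G} (hx : x ∈ V ⊓ A) :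
    S ≤ centralizer ({x} : Set G) := fun s hs =>
  mem_centralizer_singleton_iff.mpr (h.central hx hs)

/-- `V` and `A` are commutative. -/
theorem Closed.comm_V (h : Closed V A S z) {a b : G} (ha : a ∈ V) (hb : b ∈ V) :
    a * b = b * a := by
  have := h.loc.cent_V
  rw [← this] at hb
  exact mem_centralizer_iff.mp hb a ha

/-- A `2`-subgroup normalising `S` lies in `S`. -/
theorem Closed.two_group_le (h : Closed V A S z) {R : Subgroup G} (hR : IsPGroup 2 R)
    (hRN : R ≤ normalizer (S : Set G)) : R ≤ S := by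
  obtain ⟨T, hT⟩ := h.loc.sylow
  have hp : IsPGroup 2 ↥(R ⊔ S) :=
    hR.to_sup_of_normal_right' (hT ▸ T.isPGroup') hRN
  have e : R ⊔ S = (T : Subgroup G) := T.is_maximal' hp (hT ▸ le_sup_right)
  exact le_sup_left.trans (e.le.trans hT.le)

theorem Closed.two_elem_le (h : Closed V A S z) {x : G} (hx : x ∈ normalizer (S : Set G))
    (h2 : x * x = 1) : x ∈ S := by
  by_cases h1 : x = 1
  · exact h1 ▸ S.one_mem
  refine h.two_group_le (R := zpowers x) ?_ (by rwa [zpowers_le]) (mem_zpowers x)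
  exact IsPGroup.of_card (n := 1) (by rw [Nat.card_zpowers, orderOf_two h2 h1, pow_one])

theorem Closed.normalizer_le (h : Closed V A S z) :
    normalizer (S : Set G) ≤ normalizer ((V ⊓ A : Subgroup G) : Set G) := by
  intro g hg
  rw [← h.loc.center_S]
  rw [mem_normalizer_iff]
  intro x
  simp only [mem_inf, mem_centralizer_iff, SetLike.mem_coe]
  constructor
  · rintro ⟨hx, hc⟩
    refine ⟨(mem_normalizer_iff.mp hg x).mp hx, fun s hs => ?_⟩
    have h3 := hc _ ((mem_normalizer_iff''.mp hg s).mp hs)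
    simpa [mul_assoc] using congrArg (fun t => g * t * g⁻¹) h3
  · rintro ⟨hx, hc⟩
    refine ⟨(mem_normalizer_iff.mp hg x).mpr hx, fun s hs => ?_⟩
    have h3 := hc _ ((mem_normalizer_iff.mp hg s).mp hs)
    simpa [mul_assoc] using congrArg (fun t => g⁻¹ * t * g) h3

/-- Conjugates inside `V ⊓ A` are conjugate by the normalizer of `S` only. -/
theorem Closed.mem_of_conj (h : Closed V A S z) {x g : G} (hx : x ∈ V ⊓ A) (h1 : x ≠ 1)
    (hg : g * x * g⁻¹ ∈ V ⊓ A) : g ∈ normalizer (S : Set G) := by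
  have hne : g * x * g⁻¹ ≠ 1 := by simpa using h1
  have hsub : S.map (MulAut.conj g).toMonoidHom ≤ normalizer (S : Set G) := by
    rintro _ ⟨s, hs, rfl⟩
    refine (h.loc.cent _ hg hne).2 (mem_centralizer_singleton_iff.mpr ?_)
    show g * s * g⁻¹ * (g * x * g⁻¹) = g * x * g⁻¹ * (g * s * g⁻¹)
    have := congrArg (fun t => g * t * g⁻¹) (h.central hx hs)
    simpa [mul_assoc] using this
  obtain ⟨T, hT⟩ := h.loc.sylow
  have hle : S.map (MulAut.conj g).toMonoidHom ≤ S :=
    h.two_group_le ((hT ▸ T.isPGroup').map _) hsub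
  have heq : S.map (MulAut.conj g).toMonoidHom = S :=
    Subgroup.eq_of_le_of_card_ge hle
      (Subgroup.card_map_of_injective (MulAut.conj g).injective).ge
  rw [mem_normalizer_iff]
  intro s
  constructor
  · exact fun hs => heq ▸ ⟨s, hs, rfl⟩
  · intro hs
    rw [← heq] at hs
    obtain ⟨r, hr, hr'⟩ := hs
    have : r = s := mul_left_cancel (mul_right_cancel (show g * r * g⁻¹ = g * s * g⁻¹ from hr'))
    exact this ▸ hr

/-- The class of `z` meets `S` in `V ⊓ A`. -/
theorem Closed.conj_mem (h : Closed V A S z) {x : G} (hxS : x ∈ S) (hx : IsConj z x) :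
    x ∈ V ⊓ A ∧ x ≠ 1 := by
  obtain ⟨g, rfl⟩ := isConj_iff.mp hx
  refine ⟨?_, by simpa using h.loc.z_ne⟩
  have hsq : g * z * g⁻¹ * (g * z * g⁻¹) = 1 := by
    have := h.sq_inter h.loc.mem_z
    calc g * z * g⁻¹ * (g * z * g⁻¹) = g * (z * z) * g⁻¹ := by group
      _ = 1 := by rw [this]; group
  rcases h.loc.involutions _ hxS hsq with hV | hA
  · by_cases hA : g * z * g⁻¹ ∈ A
    · exact mem_inf.mpr ⟨hV, hA⟩
    · exact absurd hx (h.notV _ hV hA)
  · by_cases hV : g * z * g⁻¹ ∈ V
    · exact mem_inf.mpr ⟨hV, hA⟩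
    · exact absurd hx (h.notA _ hA hV)

theorem Closed.isConj_inter (h : Closed V A S z) {x : G} (hx : x ∈ V ⊓ A) (h1 : x ≠ 1) :
    IsConj z x :=
  isConj_iff.mpr (h.loc.fused z h.loc.mem_z x hx h.loc.z_ne h1)

theorem Closed.normalizer_eq (h : Closed V A S z) :
    normalizer ((V ⊓ A : Subgroup G) : Set G) = normalizer (S : Set G) := by
  refine le_antisymm (fun g hg => ?_) h.normalizer_le
  exact h.mem_of_conj h.loc.mem_z h.loc.z_ne ((mem_normalizer_iff.mp hg z).mp h.loc.mem_z)

/-- An element fusing an element of `V ⊓ A` into `N(S)` normalises `S`. -/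
theorem Closed.mem_of_conj_normalizer (h : Closed V A S z) {x g : G} (hx : x ∈ V ⊓ A) (h1 : x ≠ 1)
    (hg : g * x * g⁻¹ ∈ normalizer (S : Set G)) : g ∈ normalizer (S : Set G) := by
  have hc : IsConj z (g * x * g⁻¹) :=
    (h.isConj_inter hx h1).trans (isConj_iff.mpr ⟨g, rfl⟩)
  refine h.mem_of_conj hx h1 (h.conj_mem (h.two_elem_le hg ?_) hc).1
  calc g * x * g⁻¹ * (g * x * g⁻¹) = g * (x * x) * g⁻¹ := by group
    _ = 1 := by rw [h.sq_inter hx]; group

theorem Closed.exists_outside (h : Closed V A S z) : ∃ u ∈ V, u ∉ A := by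
  by_contra hn
  push Not at hn
  have h1 := Subgroup.card_le_of_le (show V ≤ V ⊓ A from fun x hx => mem_inf.mpr ⟨hx, hn x hx⟩)
  rw [h.loc.card_V, h.loc.card_inter] at h1
  omega

theorem Closed.order_outside (h : Closed V A S z) {u : G} (hu : u ∈ V) (huA : u ∉ A) :
    orderOf u = 2 :=
  orderOf_two (h.loc.sq_V u hu) (fun e => huA (e ▸ A.one_mem))

theorem Closed.V_le_cent (h : Closed V A S z) {x : G} (hx : x ∈ V) :
    V ≤ centralizer ({x} : Set G) := fun _ hv =>
  mem_centralizer_singleton_iff.mpr (h.comm_V hv hx)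

/-- The orbit of an element of `V \ A` under `C(z)`. -/
theorem Closed.cent_z_inter (h : Closed V A S z) {u : G} (hu : u ∈ V) (huA : u ∉ A) :
    centralizer ({z} : Set G) ⊓ centralizer ({u} : Set G) = V := by
  classical
  set Cz := centralizer ({z} : Set G) with hCz
  set D := Cz ⊓ centralizer ({u} : Set G) with hD
  have hVD : V ≤ D := le_inf (h.loc.V_le.trans (h.S_le_cent h.loc.mem_z)) (h.V_le_cent hu)
  refine (Subgroup.eq_of_le_of_card_ge hVD ?_).symm
  rw [h.loc.card_V]
  have hcz : Nat.card Cz = 192 := (h.loc.cent z h.loc.mem_z h.loc.z_ne).1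
  have hsplit : Nat.card D * D.relIndex Cz = 192 := by
    rw [← hcz, ← Subgroup.card_mul_index (D.subgroupOf Cz)]
    rw [Nat.card_congr (Subgroup.subgroupOfEquivOfLe (show D ≤ Cz from inf_le_left)).toEquiv]
    rfl
  have h12 : 12 ≤ D.relIndex Cz := by
    have hch : ∀ y : {y : G // y ∈ V ∧ y ∉ A}, ∃ c : Cz, (c : G) * u * (c : G)⁻¹ = (y : G) :=
      fun y => by
        obtain ⟨c, hc, he⟩ := h.loc.orbit_V u hu y.1 y.2.1 huA y.2.2
        exact ⟨⟨c, hc⟩, he⟩
    choose f hf using hch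
    have hinj : Function.Injective
        (fun y => (QuotientGroup.mk (f y) : Cz ⧸ D.subgroupOf Cz)) := by
      intro y y' hy
      obtain ⟨d, hd, hd'⟩ : ∃ d : Cz, (d : G) ∈ D ∧ f y' = f y * d :=
        ⟨(f y)⁻¹ * f y', mem_subgroupOf.mp (QuotientGroup.eq.mp hy), by group⟩
      apply Subtype.ext
      rw [← hf y, ← hf y', hd']
      have hdu : (d : G) * u = u * d :=
        mem_centralizer_singleton_iff.mp (mem_inf.mp hd).2
      push_cast
      calc (f y : G) * u * (f y : G)⁻¹ = (f y : G) * (u * d) * (d : G)⁻¹ * (f y : G)⁻¹ := by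
            group
        _ = (f y : G) * (d * u) * (d : G)⁻¹ * (f y : G)⁻¹ := by rw [hdu]
        _ = _ := by group
    have hle := Nat.card_le_card_of_injective _ hinj
    have hcount : Nat.card {y : G // y ∈ V ∧ y ∉ A} = 12 := by
      have e1 : {y : G | y ∈ V ∧ y ∉ A} = (V : Set G) \ ((V ⊓ A : Subgroup G) : Set G) := by
        ext y; simp +contextual
      show Nat.card ↥{y : G | y ∈ V ∧ y ∉ A} = 12
      rw [Nat.card_coe_set_eq, e1, Set.ncard_sdiff (fun x hx => (mem_inf.mp hx).1),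
        ← Nat.card_coe_set_eq, ← Nat.card_coe_set_eq, SetLike.coe_sort_coe, SetLike.coe_sort_coe,
        h.loc.card_V, h.loc.card_inter]
    rw [hcount] at hle
    exact hle
  nlinarith [h12, hsplit]

/-- The centralizers of elements of `V ⊓ A` and of `V \ A` meet in `V`. -/
theorem Closed.cent_inter (h : Closed V A S z) {x u : G} (hx : x ∈ V ⊓ A) (hx1 : x ≠ 1)
    (hu : u ∈ V) (huA : u ∉ A) :
    centralizer ({x} : Set G) ⊓ centralizer ({u} : Set G) = V := by
  set D := centralizer ({x} : Set G) ⊓ centralizer ({u} : Set G) with hD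
  have hVD : V ≤ D := le_inf (h.loc.V_le.trans (h.S_le_cent hx)) (h.V_le_cent hu)
  refine (Subgroup.eq_of_le_of_card_ge hVD ?_).symm
  rw [h.loc.card_V]
  obtain ⟨g, hg⟩ := h.loc.fused z h.loc.mem_z x hx h.loc.z_ne hx1
  have hgN : g ∈ normalizer (S : Set G) :=
    h.mem_of_conj h.loc.mem_z h.loc.z_ne (hg ▸ hx)
  set u' := g⁻¹ * u * g with hu'
  have hu'S : u' ∈ S := (mem_normalizer_iff''.mp hgN u).mp (h.loc.V_le hu)
  have hu'2 : u' * u' = 1 := by
    calc u' * u' = g⁻¹ * (u * u) * g := by rw [hu']; group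
      _ = 1 := by rw [h.loc.sq_V u hu]; group
  have hu'T : u' ∉ V ⊓ A := by
    intro hm
    have := (mem_normalizer_iff.mp (h.normalizer_le hgN) u').mp hm
    rw [show g * u' * g⁻¹ = u by rw [hu']; group] at this
    exact huA (mem_inf.mp this).2
  have hcard : Nat.card ↥(centralizer ({z} : Set G) ⊓ centralizer ({u'} : Set G)) = 16 := by
    rcases h.loc.involutions u' hu'S hu'2 with hV | hA
    · rw [h.cent_z_inter hV (fun hA => hu'T (mem_inf.mpr ⟨hV, hA⟩)), h.loc.card_V]
    · rw [h.swap.cent_z_inter hA (fun hV => hu'T (mem_inf.mpr ⟨hV, hA⟩)), h.loc.card_A]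
  rw [← hcard]
  refine Nat.card_le_card_of_injective (fun d => ⟨g⁻¹ * (d : G) * g, ?_⟩) ?_
  · obtain ⟨hdx, hdu⟩ := mem_inf.mp d.2
    rw [mem_centralizer_singleton_iff] at hdx hdu
    refine mem_inf.mpr ⟨?_, ?_⟩ <;> rw [mem_centralizer_singleton_iff]
    · rw [← hg] at hdx
      have := congrArg (fun t => g⁻¹ * t * g) hdx
      simpa [mul_assoc] using this
    · have := congrArg (fun t => g⁻¹ * t * g) hdu
      simpa [hu', mul_assoc] using this
  · intro a b hab
    exact Subtype.ext (mul_left_cancel (mul_right_cancel (congrArg Subtype.val hab :)))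

/-- An involution centralising an element of `V \ A` and normalising `S` lies in `V`. -/
theorem Closed.mem_V_of_normalizer (h : Closed V A S z) {y u : G} (hu : u ∈ V) (huA : u ∉ A)
    (hy : y ∈ normalizer (S : Set G)) (hy2 : y * y = 1) (hyu : y * u = u * y) : y ∈ V := by
  rw [← h.cent_z_inter hu huA]
  exact mem_inf.mpr ⟨h.S_le_cent h.loc.mem_z (h.two_elem_le hy hy2),
    mem_centralizer_singleton_iff.mpr hyu⟩

end Cfsg.Agent.AutL34Closed54
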