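import Mathlib
import Cfsg.Agent.Lib.AutL34Closed54Base
import Cfsg.Agent.Lib.KleinSelfCent

/-!
# The centralizer of an involution of `V` outside `A` (S3237)

Either it normalises `S`, or it has order `240` and a normal subgroup of order `60` and index `4`
containing every conjugate of `z` in it.
-/

set_option autoImplicit false

namespace Cfsg.Agent.AutL34Closed54

open Subgroup
open scoped IsMulCommutative

variable {G : Type*} [Group G] [Finite G] {V A S : Subgroup G} {z : G}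

/-- `V` is a Sylow subgroup of the centralizer of each of its elements outside `A`. -/
theorem Closed.exists_sylow_cent (h : Closed V A S z) {u : G} (hu : u ∈ V) (huA : u ∉ A) :
    ∃ P : Sylow 2 ↥(centralizer ({u} : Set G)),
      (P : Subgroup ↥(centralizer ({u} : Set G))) = V.subgroupOf (centralizer ({u} : Set G)) := by
  set L := centralizer ({u} : Set G) with hL
  haveI : Fact (Nat.Prime 2) := ⟨Nat.prime_two⟩
  have hVL : V ≤ L := h.V_le_cent hu
  have hP : IsPGroup 2 ↥(V.subgroupOf L) := by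
    refine IsPGroup.of_card (n := 4) ?_
    rw [Nat.card_congr (Subgroup.subgroupOfEquivOfLe hVL).toEquiv, h.loc.card_V]; rfl
  obtain ⟨P, hle⟩ := hP.exists_le_sylow
  refine ⟨P, le_antisymm (fun x hx => ?_) hle⟩
  by_contra hxV
  -- an element of `P` normalising `V` normalises `S`
  have hlt : V.subgroupOf L < (P : Subgroup L) :=
    lt_of_le_of_ne hle (fun e => hxV (e ▸ hx))
  haveI : Group.IsNilpotent ↥(P : Subgroup L) := P.isPGroup'.isNilpotent
  have hne : (V.subgroupOf L).subgroupOf (P : Subgroup L) < ⊤ := by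
    rw [lt_top_iff_ne_top]
    intro e
    exact hlt.not_ge (Subgroup.subgroupOf_eq_top.mp e)
  have hgrow := Group.normalizerCondition_of_isNilpotent _ hne
  obtain ⟨y, hyN, hyV⟩ := SetLike.exists_of_lt hgrow
  rw [mem_normalizer_iff] at hyN
  set y' : G := ((y : L) : G) with hy'
  have hconj : ∀ v ∈ V, y' * v * y'⁻¹ ∈ V := by
    intro v hv
    have hvP : (⟨v, hVL hv⟩ : L) ∈ (P : Subgroup L) := hle (mem_subgroupOf.mpr hv)
    have := (hyN ⟨_, hvP⟩).mp (mem_subgroupOf.mpr (mem_subgroupOf.mpr hv))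
    simpa [mem_subgroupOf] using this
  have hzV : z ∈ V := (mem_inf.mp h.loc.mem_z).1
  have hyS : y' ∈ normalizer (S : Set G) := by
    refine h.mem_of_conj h.loc.mem_z h.loc.z_ne ?_
    exact (h.conj_mem (h.loc.V_le (hconj z hzV)) (isConj_iff.mpr ⟨y', rfl⟩)).1
  have hy2 : IsPGroup 2 ↥(zpowers y') := by
    have h1 := P.isPGroup'.map L.subtype
    exact h1.to_le (by rw [zpowers_le]; exact ⟨y, y.2, rfl⟩)
  have hyS' : y' ∈ S := h.two_group_le hy2 (by rwa [zpowers_le]) (mem_zpowers y')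
  apply hyV
  rw [mem_subgroupOf, mem_subgroupOf]
  show y' ∈ V
  rw [← h.cent_z_inter hu huA]
  exact mem_inf.mpr ⟨h.S_le_cent h.loc.mem_z hyS', (y : L).2⟩

/-- Every involution centralising `u` is conjugate into `V` there. -/
theorem Closed.conj_into_V (h : Closed V A S z) {u y : G} (hu : u ∈ V) (huA : u ∉ A)
    (hy : y * y = 1) (hyu : y * u = u * y) :
    ∃ c ∈ centralizer ({u} : Set G), c * y * c⁻¹ ∈ V := by
  haveI : Fact (Nat.Prime 2) := ⟨Nat.prime_two⟩
  set L := centralizer ({u} : Set G)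
  obtain ⟨P, hP⟩ : ∃ P : Sylow 2 ↥L, (P : Subgroup L) = V.subgroupOf L :=
    h.exists_sylow_cent hu huA
  let yL : L := ⟨y, mem_centralizer_singleton_iff.mpr hyu⟩
  have hp : IsPGroup 2 ↥(zpowers yL) := by
    by_cases h1 : yL = 1
    · rw [h1, zpowers_one_eq_bot]; exact IsPGroup.of_bot
    · exact IsPGroup.of_card (n := 1) (by
        rw [Nat.card_zpowers, orderOf_two (Subtype.ext hy) h1, pow_one])
  obtain ⟨Q, hQ⟩ := hp.exists_le_sylow
  obtain ⟨c, hc⟩ := MulAction.exists_smul_eq L Q P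
  refine ⟨c, c.2, ?_⟩
  have : c * yL * c⁻¹ ∈ (P : Subgroup L) := by
    rw [← hc, Sylow.coe_subgroup_smul, Subgroup.mem_smul_pointwise_iff_exists]
    exact ⟨yL, hQ (mem_zpowers _), rfl⟩
  rw [hP, mem_subgroupOf] at this
  exact this

/-- The structure of `C(u)` when it does not normalise `S`. -/
structure Big (V A : Subgroup G) (z u : G) : Prop where
  card : Nat.card ↥(centralizer ({u} : Set G)) = 240
  normal : ∃ L0 : Subgroup G, L0 ≤ centralizer ({u} : Set G) ∧ Nat.card L0 = 60 ∧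
    V ⊓ A ≤ L0 ∧ u ∉ L0 ∧
    (∀ x ∈ centralizer ({u} : Set G), ∀ y ∈ L0, x * y * x⁻¹ ∈ L0) ∧
    (∀ a ∈ centralizer ({u} : Set G), ∀ b ∈ centralizer ({u} : Set G),
      a * b * a⁻¹ * b⁻¹ ∈ L0) ∧
    (∀ c ∈ L0, c * z = z * c → c ∈ V ⊓ A) ∧
    (∀ x ∈ L0, x * x = 1 → x ≠ 1 → ∃ c ∈ L0, c * z * c⁻¹ = x)

variable (h : Closed V A S z) {u : G} (hu : u ∈ V) (huA : u ∉ A)
include h hu huA

theorem Closed.cent_T {x : G} (hx : x ∈ V ⊓ A) (hx1 : x ≠ 1) {c : G}
    (hc : c ∈ centralizer ({u} : Set G)) (hcx : c * x = x * c) : c ∈ V := by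
  rw [← h.cent_inter hx hx1 hu huA]
  exact mem_inf.mpr ⟨mem_centralizer_singleton_iff.mpr hcx, hc⟩

theorem Closed.normalizer_sylow (P : Sylow 2 ↥(centralizer ({u} : Set G)))
    (hP : (P : Subgroup ↥(centralizer ({u} : Set G))) = V.subgroupOf (centralizer ({u} : Set G)))
    (n : ↥(centralizer ({u} : Set G)))
    (hn : n ∈ normalizer ((P : Subgroup ↥(centralizer ({u} : Set G))) : Set _)) :
    (n : G) ∈ normalizer (S : Set G) := by
  have hzV : z ∈ V := (mem_inf.mp h.loc.mem_z).1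
  refine h.mem_of_conj h.loc.mem_z h.loc.z_ne ?_
  have h1 := (mem_normalizer_iff.mp hn ⟨z, h.V_le_cent hu hzV⟩).mp
    (by rw [hP]; exact mem_subgroupOf.mpr hzV)
  rw [hP, mem_subgroupOf] at h1
  exact (h.conj_mem (h.loc.V_le h1) (isConj_iff.mpr ⟨_, rfl⟩)).1

/-- The element of order three. -/
theorem Closed.exists_three (hnot : ¬ centralizer ({u} : Set G) ≤ normalizer (S : Set G)) :
    Nat.card ↥(centralizer ({u} : Set G) ⊓ normalizer (S : Set G)) = 48 ∧
      ∃ g ∈ centralizer ({u} : Set G) ⊓ normalizer (S : Set G), orderOf g = 3 := by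
  classical
  haveI : Fact (Nat.Prime 2) := ⟨Nat.prime_two⟩
  set L := centralizer ({u} : Set G) with hL
  have hVL : V ≤ L := h.V_le_cent hu
  have hTV : V ⊓ A ≤ V := inf_le_left
  have hzV : z ∈ V := hTV h.loc.mem_z
  have hcentT : ∀ x ∈ V ⊓ A, x ≠ 1 → ∀ c ∈ L, c * x = x * c → c ∈ V :=
    fun x hx hx1 c hc hcx => h.cent_T hu huA hx hx1 hc hcx
  haveI : Fact (Nat.Prime 3) := ⟨Nat.prime_three⟩
  obtain ⟨P, hP⟩ : ∃ P : Sylow 2 ↥L, (P : Subgroup L) = V.subgroupOf L :=
    h.exists_sylow_cent hu huA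
  have hcardP : Nat.card (P : Subgroup L) = 16 := by
    rw [hP, Nat.card_congr (Subgroup.subgroupOfEquivOfLe hVL).toEquiv, h.loc.card_V]
  have hnorm : ∀ n : L, n ∈ normalizer ((P : Subgroup L) : Set L) →
      (n : G) ∈ normalizer (S : Set G) := fun n hn => h.normalizer_sylow hu huA P hP n hn
  set Mc := L ⊓ normalizer (S : Set G) with hMc
  have hVMc : V ≤ Mc := le_inf hVL (h.loc.V_le.trans le_normalizer)
  have hidx_odd : ¬ 2 ∣ (P : Subgroup L).index := P.not_dvd_index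
  -- `Mc` is larger than `V`
  have hMcV : ¬ Mc ≤ V := by
    intro hle
    have hNC : normalizer ((P : Subgroup L) : Set L) ≤ centralizer ((P : Subgroup L) : Set L) := by
      intro n hn
      have hnV : (n : G) ∈ V := hle (mem_inf.mpr ⟨n.2, hnorm n hn⟩)
      rw [mem_centralizer_iff]
      intro p hp
      rw [SetLike.mem_coe, hP, mem_subgroupOf] at hp
      exact Subtype.ext (h.comm_V hp hnV)
    have hcompl := MonoidHom.ker_transferSylow_isComplement' P hNC
    set K := (MonoidHom.transferSylow P hNC).ker with hK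
    have hKodd : Odd (Nat.card K) := by
      rw [← Nat.not_even_iff_odd, even_iff_two_dvd, ← hcompl.index_eq_card]
      exact hidx_odd
    have hfix : ∀ t : L, (t : G) ∈ V ⊓ A → (t : G) ≠ 1 → ∀ k ∈ K, Commute t k → k = 1 := by
      intro t ht ht1 k hk htk
      have hkV : (k : G) ∈ V := hcentT t ht ht1 k k.2 (congrArg Subtype.val htk.eq.symm)
      have hkP : k ∈ (P : Subgroup L) := by rw [hP]; exact mem_subgroupOf.mpr hkV
      exact Subgroup.disjoint_def.mp hcompl.disjoint hk hkP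
    obtain ⟨a, ha, ha1, haz⟩ : ∃ a ∈ V ⊓ A, a ≠ 1 ∧ a ≠ z := by
      by_contra hn
      push Not at hn
      have hsub : ((V ⊓ A : Subgroup G) : Set G) ⊆ {1, z} := fun x hx => by
        by_cases hx1 : x = 1
        · exact Or.inl hx1
        · exact Or.inr (hn x hx hx1)
      have := Set.ncard_le_ncard hsub
      rw [← Nat.card_coe_set_eq, SetLike.coe_sort_coe, h.loc.card_inter,
        Set.ncard_pair (Ne.symm h.loc.z_ne)] at this
      omega
    let tz : L := ⟨z, hVL hzV⟩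
    let ta : L := ⟨a, hVL (hTV ha)⟩
    have hKbot : K = ⊥ := by
      refine KleinSelfCent.eq_bot_of_four K hKodd (a := tz) (b := ta)
        (Subtype.ext (h.loc.sq_V z hzV)) (Subtype.ext (h.loc.sq_V a (hTV ha)))
        (Subtype.ext (h.comm_V hzV (hTV ha))) ?_
      intro t ht
      simp only [Set.mem_insert_iff, Set.mem_singleton_iff] at ht
      rcases ht with rfl | rfl | rfl
      · exact hfix tz h.loc.mem_z h.loc.z_ne
      · exact hfix ta ha ha1
      · refine hfix (tz * ta) (mul_mem h.loc.mem_z ha) (fun e => haz ?_)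
        have e' : z * a = 1 := e
        calc a = z * (z * a) := by rw [← mul_assoc, h.loc.sq_V z hzV, one_mul]
          _ = z := by rw [e', mul_one]
    have hPtop : (P : Subgroup L) = ⊤ := by
      rw [← Subgroup.index_eq_one, hcompl.index_eq_card, hKbot, Subgroup.card_bot]
    apply hnot
    intro c hc
    have : (⟨c, hc⟩ : L) ∈ (P : Subgroup L) := hPtop ▸ mem_top _
    rw [hP, mem_subgroupOf] at this
    exact h.loc.V_le.trans le_normalizer this
  -- `Mc` has order 48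
  have hMcCent : ∀ c ∈ Mc, c * z = z * c → c ∈ V := fun c hc e =>
    hcentT z h.loc.mem_z h.loc.z_ne c (mem_inf.mp hc).1 e
  have hMc48 : Nat.card Mc = 48 := by
    have h16 : Nat.card V * V.relIndex Mc = Nat.card Mc := by
      rw [← Subgroup.card_mul_index (V.subgroupOf Mc),
        Nat.card_congr (Subgroup.subgroupOfEquivOfLe hVMc).toEquiv]
      rfl
    have hne1 : V.relIndex Mc ≠ 1 := fun e => hMcV (Subgroup.relIndex_eq_one.mp e)
    have hodd : ¬ 2 ∣ V.relIndex Mc := by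
      intro h2
      apply hidx_odd
      rw [hP]
      exact h2.trans (Dvd.intro (Mc.relIndex L)
        (Subgroup.relIndex_mul_relIndex V Mc L hVMc inf_le_left))
    have hle3 : V.relIndex Mc ≤ 3 := by
      have hT3 : Nat.card {x : G // x ∈ V ⊓ A ∧ x ≠ 1} = 3 := by
        have e1 : {x : G | x ∈ V ⊓ A ∧ x ≠ 1} = ((V ⊓ A : Subgroup G) : Set G) \ {1} := by
          ext x; simp
        show Nat.card ↥{x : G | x ∈ V ⊓ A ∧ x ≠ 1} = 3
        rw [Nat.card_coe_set_eq, e1, Set.ncard_sdiff (by simpa using (V ⊓ A).one_mem),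
          ← Nat.card_coe_set_eq, SetLike.coe_sort_coe, h.loc.card_inter, Set.ncard_singleton]
      have hmap : ∀ c : Mc, (c : G) * z * (c : G)⁻¹ ∈ V ⊓ A ∧ (c : G) * z * (c : G)⁻¹ ≠ 1 :=
        fun c => ⟨(mem_normalizer_iff.mp (h.normalizer_le (mem_inf.mp c.2).2) z).mp h.loc.mem_z,
          by simpa using h.loc.z_ne⟩
      show Nat.card (Mc ⧸ V.subgroupOf Mc) ≤ 3
      rw [← hT3]
      refine Nat.card_le_card_of_injective (fun q => ⟨_, hmap q.out⟩) ?_
      intro q q' e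
      have e' : (q.out : G) * z * (q.out : G)⁻¹ = (q'.out : G) * z * (q'.out : G)⁻¹ :=
        congrArg Subtype.val e
      rw [← q.out_eq, ← q'.out_eq]
      refine QuotientGroup.eq.mpr (mem_subgroupOf.mpr (hMcCent _ (q.out⁻¹ * q'.out).2 ?_))
      have := congrArg (fun t => (q.out : G)⁻¹ * t * (q'.out : G)) e'
      simpa [mul_assoc] using this.symm
    rw [h.loc.card_V] at h16
    have hpos : 0 < V.relIndex Mc := Nat.pos_of_ne_zero (by
      intro e; rw [e] at h16; exact Nat.card_pos.ne h16)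
    generalize V.relIndex Mc = i at h16 hne1 hodd hle3 hpos
    interval_cases i <;> omega
  obtain ⟨g, hg3⟩ := exists_prime_orderOf_dvd_card' (G := Mc) 3 (by rw [hMc48]; norm_num)
  exact ⟨hMc48, g, g.2, by rwa [Subgroup.orderOf_coe]⟩
omit hu huA in
/-- The action on `V` of an element of order three. -/
structure ThreeData (V A S : Subgroup G) (u g' : G) : Prop where
  cardW : Nat.card ↥(V ⊓ centralizer ({g'} : Set G)) = 4
  splitV : ∀ v ∈ V, ∃ t ∈ V ⊓ A, ∃ w ∈ V ⊓ centralizer ({g'} : Set G), t * w = v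
  inter : ∀ x ∈ V ⊓ centralizer ({g'} : Set G), x ∈ V ⊓ A → x = 1
  img : ∀ x ∈ V ⊓ A, ∃ s ∈ V ⊓ A, g' * s * g'⁻¹ * s⁻¹ = x
  mem_u : u ∈ V ⊓ centralizer ({g'} : Set G)
  gT : ∀ x ∈ V ⊓ A, g' * x * g'⁻¹ ∈ V ⊓ A
  gfix : ∀ x ∈ V ⊓ A, g' * x = x * g' → x = 1

theorem Closed.three_data {g' : G}
    (hg : g' ∈ centralizer ({u} : Set G) ⊓ normalizer (S : Set G)) (hg3 : orderOf g' = 3) :
    ThreeData V A S u g' := by
  classical
  haveI : Fact (Nat.Prime 2) := ⟨Nat.prime_two⟩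
  set L := centralizer ({u} : Set G) with hL
  have hVL : V ≤ L := h.V_le_cent hu
  have hTV : V ⊓ A ≤ V := inf_le_left
  have hzV : z ∈ V := hTV h.loc.mem_z
  have hcentT : ∀ x ∈ V ⊓ A, x ≠ 1 → ∀ c ∈ L, c * x = x * c → c ∈ V :=
    fun x hx hx1 c hc hcx => h.cent_T hu huA hx hx1 hc hcx
  have hgL : g' ∈ L := (mem_inf.mp hg).1
  have hgS : g' ∈ normalizer (S : Set G) := (mem_inf.mp hg).2
  have hgT : ∀ x ∈ V ⊓ A, g' * x * g'⁻¹ ∈ V ⊓ A := fun x hx =>
    (mem_normalizer_iff.mp (h.normalizer_le hgS) x).mp hx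
  have hg1 : g' ≠ 1 := fun e => by rw [e, orderOf_one] at hg3; omega
  have hgfix : ∀ x ∈ V ⊓ A, g' * x = x * g' → x = 1 := by
    intro x hx e
    by_contra hx1
    have h2 := h.loc.sq_V g' (hcentT x hx hx1 g' hgL e)
    have h2' := orderOf_two h2 hg1
    omega
  have hgV : ∀ v ∈ V, g' * v * g'⁻¹ ∈ V := by
    intro v hv
    refine hcentT (g' * z * g'⁻¹) (hgT z h.loc.mem_z) (by simpa using h.loc.z_ne) _
      (L.mul_mem (L.mul_mem hgL (hVL hv)) (L.inv_mem hgL)) ?_
    have := congrArg (fun t => g' * t * g'⁻¹) (h.comm_V hv hzV)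
    simpa [mul_assoc] using this
  haveI hVcomm : IsMulCommutative ↥V := ⟨⟨fun a b => Subtype.ext (h.comm_V a.2 b.2)⟩⟩
  let δ : V →* V :=
    { toFun := fun v => ⟨g' * v * g'⁻¹ * (v : G)⁻¹, V.mul_mem (hgV v v.2) (V.inv_mem v.2)⟩
      map_one' := Subtype.ext (by simp)
      map_mul' := fun a b => Subtype.ext (by
        show g' * ((a : G) * b) * g'⁻¹ * ((a : G) * b)⁻¹ =
          g' * a * g'⁻¹ * (a : G)⁻¹ * (g' * b * g'⁻¹ * (b : G)⁻¹)
        have := h.comm_V (V.inv_mem a.2) (V.mul_mem (hgV b b.2) (V.inv_mem b.2))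
        calc g' * ((a : G) * b) * g'⁻¹ * ((a : G) * b)⁻¹
            = g' * a * g'⁻¹ * ((g' * b * g'⁻¹ * (b : G)⁻¹) * (a : G)⁻¹) := by group
          _ = _ := by rw [← this]; group) }
  let W : Subgroup G := V ⊓ centralizer ({g'} : Set G)
  have hWV : W ≤ V := inf_le_left
  have hker : δ.ker = W.subgroupOf V := by
    ext v
    rw [MonoidHom.mem_ker, mem_subgroupOf]
    simp only [W, mem_inf, v.2, true_and, mem_centralizer_singleton_iff, Subtype.ext_iff]
    show g' * v * g'⁻¹ * (v : G)⁻¹ = 1 ↔ _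
    rw [mul_inv_eq_one, mul_inv_eq_iff_eq_mul]
    exact eq_comm
  have hWT : ∀ x ∈ W, x ∈ V ⊓ A → x = 1 := fun x hx hxT =>
    hgfix x hxT (mem_centralizer_singleton_iff.mp (mem_inf.mp hx).2).symm
  -- every element of `V ⊓ A` is a commutator
  have hTimg : ∀ x ∈ V ⊓ A, ∃ s ∈ V ⊓ A, g' * s * g'⁻¹ * s⁻¹ = x := by
    intro x hx
    let f : ↥(V ⊓ A) → ↥(V ⊓ A) := fun s =>
      ⟨g' * s * g'⁻¹ * (s : G)⁻¹, mul_mem (hgT s s.2) (inv_mem s.2)⟩
    have hf : Function.Injective f := by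
      intro s r e
      have e' : δ ⟨s, hTV s.2⟩ = δ ⟨r, hTV r.2⟩ := Subtype.ext (congrArg Subtype.val e :)
      rw [MonoidHom.eq_iff] at e'
      rw [hker, mem_subgroupOf] at e'
      exact Subtype.ext ((inv_mul_eq_one.mp (hWT _ e' (mul_mem (inv_mem r.2) s.2))).symm)
    obtain ⟨s, hs⟩ := Finite.injective_iff_surjective.mp hf ⟨x, hx⟩
    exact ⟨s, s.2, congrArg Subtype.val hs⟩
  have huW : u ∈ W := mem_inf.mpr ⟨hu,
    mem_centralizer_singleton_iff.mpr (mem_centralizer_singleton_iff.mp hgL).symm⟩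
  have hu1 : u ≠ 1 := fun e => huA (e ▸ A.one_mem)
  -- `V = (V ⊓ A) W` and `W` has order four
  let mulTW : ↥(V ⊓ A) × W → V := fun p => ⟨p.1 * p.2, V.mul_mem (hTV p.1.2) (hWV p.2.2)⟩
  have hTWinj : Function.Injective mulTW := by
    rintro ⟨t, w⟩ ⟨t', w'⟩ e
    have e' : (t : G) * w = t' * w' := congrArg Subtype.val e
    have e2 : (t' : G)⁻¹ * t = w' * (w : G)⁻¹ := by
      rw [eq_mul_inv_iff_mul_eq, mul_assoc, e', inv_mul_cancel_left]
    have e3 := hWT _ (mul_mem w'.2 (inv_mem w.2)) (e2 ▸ mul_mem (inv_mem t'.2) t.2)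
    have hw : (w' : G) = w := mul_inv_eq_one.mp e3
    rw [hw] at e'
    exact Prod.ext (Subtype.ext (mul_right_cancel e')) (Subtype.ext hw.symm)
  have hW4 : Nat.card W = 4 := by
    have hle := Nat.card_le_card_of_injective _ hTWinj
    rw [Nat.card_prod, h.loc.card_inter, h.loc.card_V] at hle
    have hdvd : Nat.card W ∣ 16 := h.loc.card_V ▸ Subgroup.card_dvd_of_le hWV
    have h2 : 2 ≤ Nat.card W := Finite.one_lt_card_iff_nontrivial.mpr
      ⟨⟨⟨u, huW⟩, 1, fun e => hu1 (congrArg Subtype.val e)⟩⟩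
    by_contra hne
    have hW2 : Nat.card W = 2 := by
      have h4 : Nat.card W ≤ 4 := by omega
      generalize Nat.card W = w at hdvd h2 h4 hne
      interval_cases w <;> omega
    have hsplit : Nat.card δ.ker * Nat.card δ.range = 16 := by
      rw [← Subgroup.index_ker, Subgroup.card_mul_index, h.loc.card_V]
    have h8 : Nat.card δ.range = 8 := by
      rw [hker, Nat.card_congr (Subgroup.subgroupOfEquivOfLe hWV).toEquiv, hW2] at hsplit
      omega
    set Tv := (V ⊓ A).subgroupOf V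
    have hTv4 : Nat.card Tv = 4 := by
      rw [Nat.card_congr (Subgroup.subgroupOfEquivOfLe hTV).toEquiv, h.loc.card_inter]
    have hTle : Tv ≤ δ.range := by
      intro t ht
      obtain ⟨s, hs, e⟩ := hTimg t (mem_subgroupOf.mp ht)
      exact ⟨⟨s, hTV hs⟩, Subtype.ext e⟩
    have hi : Tv.relIndex δ.range = 2 := by
      have h3 : Nat.card Tv * Tv.relIndex δ.range = Nat.card δ.range := by
        rw [← Subgroup.card_mul_index (Tv.subgroupOf δ.range),
          Nat.card_congr (Subgroup.subgroupOfEquivOfLe hTle).toEquiv]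
        rfl
      rw [hTv4, h8] at h3
      omega
    obtain ⟨x, hx, hxT⟩ : ∃ x ∈ δ.range, x ∉ Tv := by
      by_contra hn
      push Not at hn
      have := Subgroup.card_le_of_le (show δ.range ≤ Tv from hn)
      omega
    have hcj : ∀ y ∈ δ.range, (⟨g' * y * g'⁻¹, hgV y y.2⟩ : V) ∈ δ.range := by
      rintro _ ⟨v, rfl⟩
      refine ⟨⟨g' * v * g'⁻¹, hgV v v.2⟩, Subtype.ext ?_⟩
      show g' * (g' * v * g'⁻¹) * g'⁻¹ * (g' * v * g'⁻¹)⁻¹ =
        g' * (g' * v * g'⁻¹ * (v : G)⁻¹) * g'⁻¹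
      group
    have hout : ∀ y : V, y ∉ Tv → (⟨g' * y * g'⁻¹, hgV y y.2⟩ : V) ∉ Tv := by
      intro y hy hy'
      apply hy
      rw [mem_subgroupOf] at hy' ⊢
      exact (mem_normalizer_iff.mp (h.normalizer_le hgS) _).mpr hy'
    have hg33 : g' * g' * g' = 1 := by
      rw [← pow_orderOf_eq_one g', hg3, pow_succ, pow_two]
    obtain ⟨v, rfl⟩ := hx
    set x1 : V := δ v
    set x2 : V := ⟨g' * x1 * g'⁻¹, hgV x1 x1.2⟩
    set x3 : V := ⟨g' * x2 * g'⁻¹, hgV x2 x2.2⟩
    have hx1 : x1 ∈ δ.range := ⟨v, rfl⟩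
    have hx12 : x1 * x2 ∈ Tv := by
      have key := (Subgroup.mul_mem_iff_of_index_two
        (H := Tv.subgroupOf δ.range) hi (a := ⟨x1, hx1⟩) (b := ⟨x2, hcj _ hx1⟩))
      simp only [mem_subgroupOf] at key
      exact key.mpr ⟨fun a => absurd a hxT, fun b => absurd b (hout _ hxT)⟩
    have hprod : x1 * x2 * x3 = 1 := by
      apply Subtype.ext
      show g' * v * g'⁻¹ * (v : G)⁻¹ * (g' * (g' * v * g'⁻¹ * (v : G)⁻¹) * g'⁻¹) *
        (g' * (g' * (g' * v * g'⁻¹ * (v : G)⁻¹) * g'⁻¹) * g'⁻¹) = 1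
      have a1 := hgV v v.2
      have a2 := hgV _ a1
      have a3 : g' * (g' * (g' * v * g'⁻¹) * g'⁻¹) * g'⁻¹ = v := by
        calc g' * (g' * (g' * v * g'⁻¹) * g'⁻¹) * g'⁻¹
            = g' * g' * g' * v * (g' * g' * g')⁻¹ := by group
          _ = v := by rw [hg33]; group
      set p : G := g' * v * g'⁻¹ with hp
      set q : G := g' * p * g'⁻¹ with hq
      have e1 : g' * (p * (v : G)⁻¹) * g'⁻¹ = q * p⁻¹ := by rw [hq, hp]; group
      have e2 : g' * (q * p⁻¹) * g'⁻¹ = v * q⁻¹ := by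
        calc g' * (q * p⁻¹) * g'⁻¹ = g' * q * g'⁻¹ * (g' * p * g'⁻¹)⁻¹ := by group
          _ = v * q⁻¹ := by rw [a3]
      rw [e1, e2]
      calc p * (v : G)⁻¹ * (q * p⁻¹) * (v * q⁻¹)
          = p * ((v : G)⁻¹ * (q * p⁻¹)) * (v * q⁻¹) := by group
        _ = p * ((q * p⁻¹) * (v : G)⁻¹) * (v * q⁻¹) := by
            rw [h.comm_V (V.inv_mem v.2) (V.mul_mem a2 (V.inv_mem a1))]
        _ = p * (q * p⁻¹) * q⁻¹ := by group
        _ = (q * p⁻¹) * p * q⁻¹ := by rw [h.comm_V a1 (V.mul_mem a2 (V.inv_mem a1))]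
        _ = 1 := by group
    have hx3 : x3 ∈ Tv := by
      have : x3 = (x1 * x2)⁻¹ := eq_inv_of_mul_eq_one_right hprod
      rw [this]; exact Tv.inv_mem hx12
    exact hout _ (hout _ hxT) hx3
  have hVTW : ∀ v ∈ V, ∃ t ∈ V ⊓ A, ∃ w ∈ W, t * w = v := by
    intro v hv
    have hb := hTWinj.bijective_of_nat_card_le (by
      rw [Nat.card_prod, h.loc.card_inter, hW4, h.loc.card_V])
    obtain ⟨⟨t, w⟩, e⟩ := hb.2 ⟨v, hv⟩
    exact ⟨t, t.2, w, w.2, congrArg Subtype.val e⟩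
  exact ⟨hW4, hVTW, hWT, hTimg, huW, hgT, hgfix⟩

theorem Closed.fix_W {g' : G} (hMc48 : Nat.card ↥(centralizer ({u} : Set G) ⊓ normalizer (S : Set G)) = 48)
    (hg : g' ∈ centralizer ({u} : Set G) ⊓ normalizer (S : Set G)) (hg3 : orderOf g' = 3) :
    ∀ c ∈ centralizer ({u} : Set G) ⊓ normalizer (S : Set G),
      ∀ w ∈ V ⊓ centralizer ({g'} : Set G), c * w = w * c := by
  classical
  haveI : Fact (Nat.Prime 2) := ⟨Nat.prime_two⟩
  set L := centralizer ({u} : Set G) with hL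
  have hVL : V ≤ L := h.V_le_cent hu
  have hTV : V ⊓ A ≤ V := inf_le_left
  have hzV : z ∈ V := hTV h.loc.mem_z
  have hcentT : ∀ x ∈ V ⊓ A, x ≠ 1 → ∀ c ∈ L, c * x = x * c → c ∈ V :=
    fun x hx hx1 c hc hcx => h.cent_T hu huA hx hx1 hc hcx
  set Mc := L ⊓ normalizer (S : Set G) with hMc
  have hVMc : V ≤ Mc := le_inf hVL (h.loc.V_le.trans le_normalizer)
  set W : Subgroup G := V ⊓ centralizer ({g'} : Set G)
  have hWV : W ≤ V := inf_le_left
  set Fix := Mc ⊓ centralizer (W : Set G) with hFix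
  have hVF : V ≤ Fix := le_inf hVMc fun v hv => mem_centralizer_iff.mpr fun w hw =>
    h.comm_V (hWV hw) hv
  have hgF : g' ∈ Fix := mem_inf.mpr ⟨hg, mem_centralizer_iff.mpr fun w hw =>
    mem_centralizer_singleton_iff.mp (mem_inf.mp hw).2⟩
  have h16 : 16 ∣ Nat.card Fix := h.loc.card_V ▸ Subgroup.card_dvd_of_le hVF
  have h3 : 3 ∣ Nat.card Fix := hg3 ▸ (Subgroup.orderOf_coe (⟨g', hgF⟩ : Fix)) ▸
    orderOf_dvd_natCard (⟨g', hgF⟩ : Fix)
  have hFd : Nat.card Fix ∣ 48 := hMc48 ▸ Subgroup.card_dvd_of_le inf_le_left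
  have h48 : Nat.card Fix = 48 :=
    Nat.dvd_antisymm hFd (Nat.Coprime.mul_dvd_of_dvd_of_dvd (by norm_num : Nat.Coprime 16 3) h16 h3)
  have e : Fix = Mc := Subgroup.eq_of_le_of_card_ge inf_le_left (by rw [hMc48, h48])
  intro c hc w hw
  rw [← e] at hc
  exact (mem_centralizer_iff.mp (mem_inf.mp hc).2 w hw).symm

/-- The kernel of the transfer. -/
theorem Closed.exists_kernel (hnot : ¬ centralizer ({u} : Set G) ≤ normalizer (S : Set G)) :
    ∃ (g' : G) (hgL : g' ∈ centralizer ({u} : Set G)) (K : Subgroup ↥(centralizer ({u} : Set G))),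
      ThreeData V A S u g' ∧ orderOf g' = 3 ∧
      Nat.card ↥(centralizer ({u} : Set G) ⊓ normalizer (S : Set G)) = 48 ∧
      K.Normal ∧ K.index = 4 ∧ ¬ 8 ∣ Nat.card K ∧ (⟨g', hgL⟩ : ↥(centralizer ({u} : Set G))) ∈ K ∧
      (∀ x : ↥(centralizer ({u} : Set G)), (x : G) ∈ V ⊓ A → x ∈ K) ∧
      (∀ x : ↥(centralizer ({u} : Set G)), (x : G) ∈ V → x ∈ K → (x : G) ∈ V ⊓ A) ∧
      (∀ a b : ↥(centralizer ({u} : Set G)), a * b * a⁻¹ * b⁻¹ ∈ K) := by
  classical
  haveI : Fact (Nat.Prime 2) := ⟨Nat.prime_two⟩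
  set L := centralizer ({u} : Set G) with hL
  have hVL : V ≤ L := h.V_le_cent hu
  have hTV : V ⊓ A ≤ V := inf_le_left
  have hzV : z ∈ V := hTV h.loc.mem_z
  have hcentT : ∀ x ∈ V ⊓ A, x ≠ 1 → ∀ c ∈ L, c * x = x * c → c ∈ V :=
    fun x hx hx1 c hc hcx => h.cent_T hu huA hx hx1 hc hcx
  obtain ⟨P, hP⟩ : ∃ P : Sylow 2 ↥L, (P : Subgroup L) = V.subgroupOf L :=
    h.exists_sylow_cent hu huA
  have hcardP : Nat.card (P : Subgroup L) = 16 := by
    rw [hP, Nat.card_congr (Subgroup.subgroupOfEquivOfLe hVL).toEquiv, h.loc.card_V]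
  have hnorm : ∀ n : L, n ∈ normalizer ((P : Subgroup L) : Set L) →
      (n : G) ∈ normalizer (S : Set G) := fun n hn => h.normalizer_sylow hu huA P hP n hn
  set Mc := L ⊓ normalizer (S : Set G) with hMc
  have hVMc : V ≤ Mc := le_inf hVL (h.loc.V_le.trans le_normalizer)
  have hidx_odd : ¬ 2 ∣ (P : Subgroup L).index := P.not_dvd_index
  obtain ⟨hMc48, g', hg, hg3⟩ := h.exists_three hu huA hnot
  obtain ⟨hW4, hVTW, hWT, hTimg, huW, hgT, hgfix⟩ := h.three_data hu huA hg hg3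
  have hMcW := h.fix_W hu huA hMc48 hg hg3
  have hgL : g' ∈ L := (mem_inf.mp hg).1
  set W : Subgroup G := V ⊓ centralizer ({g'} : Set G)
  have hWV : W ≤ V := inf_le_left
  -- transfer
  haveI hPcomm : IsMulCommutative ↥(P : Subgroup L) := ⟨⟨fun a b => by
    have ha := a.2; have hb := b.2
    simp only [hP, mem_subgroupOf] at ha hb
    exact Subtype.ext (Subtype.ext (h.comm_V ha hb))⟩⟩
  set TP : Subgroup ↥(P : Subgroup L) := ((V ⊓ A).subgroupOf L).subgroupOf (P : Subgroup L)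
  let τ : L →* ↥(P : Subgroup L) ⧸ TP := MonoidHom.transfer (QuotientGroup.mk' TP)
  have hmemP : ∀ x : L, (x : G) ∈ V → x ∈ (P : Subgroup L) := fun x hx => by
    rw [hP]; exact mem_subgroupOf.mpr hx
  have hmemTP : ∀ x : ↥(P : Subgroup L), x ∈ TP ↔ ((x : L) : G) ∈ V ⊓ A := fun x => Iff.rfl
  have hτW : ∀ (w : L) (hw : (w : G) ∈ W),
      τ w = QuotientGroup.mk' TP ⟨w, hmemP w (hWV hw)⟩ := by
    intro w hw
    have hkey : ∀ (k : ℕ) (g₀ : L), g₀⁻¹ * w ^ k * g₀ ∈ (P : Subgroup L) →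
        g₀⁻¹ * w ^ k * g₀ = w ^ k := by
      intro k g₀ hk
      have hwk : (w ^ k : L) ∈ (P : Subgroup L) := pow_mem (hmemP w (hWV hw)) k
      obtain ⟨n, hn, e⟩ := P.conj_eq_normalizer_conj_of_mem (w ^ k) g₀ hwk hk
      have h1 : (n : G) * ((w ^ k : L) : G) = ((w ^ k : L) : G) * n :=
        hMcW n (mem_inf.mpr ⟨n.2, hnorm n hn⟩) _ (by rw [SubgroupClass.coe_pow]; exact pow_mem hw k)
      have h1' : n * w ^ k = w ^ k * n := Subtype.ext h1
      rw [e, mul_assoc, ← h1', inv_mul_cancel_left]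
    show MonoidHom.transfer _ w = _
    rw [MonoidHom.transfer_eq_pow _ w hkey]
    congr 1
    apply Subtype.ext
    show w ^ (P : Subgroup L).index = w
    obtain ⟨j, hj⟩ : Odd (P : Subgroup L).index := by
      rw [← Nat.not_even_iff_odd, even_iff_two_dvd]; exact hidx_odd
    have hw2 : w ^ 2 = 1 := by
      rw [pow_two]; exact Subtype.ext (h.loc.sq_V _ (hWV hw))
    rw [hj, pow_succ, pow_mul, hw2, one_pow, one_mul]
  let gL : L := ⟨g', hgL⟩
  have hτT : ∀ x : L, (x : G) ∈ V ⊓ A → τ x = 1 := by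
    intro x hx
    obtain ⟨s, hs, e⟩ := hTimg x hx
    have hx' : x = gL * ⟨s, hVL (hTV hs)⟩ * gL⁻¹ * (⟨s, hVL (hTV hs)⟩ : L)⁻¹ :=
      Subtype.ext e.symm
    rw [hx', map_mul, map_mul, map_mul, map_inv, map_inv]
    simp
  have hτV : ∀ x : L, (x : G) ∈ V → τ x = 1 → (x : G) ∈ V ⊓ A := by
    intro x hx e
    obtain ⟨t, ht, w, hw, htw⟩ := hVTW x hx
    have hx' : x = ⟨t, hVL (hTV ht)⟩ * ⟨w, hVL (hWV hw)⟩ := Subtype.ext htw.symm
    rw [hx', map_mul, hτT ⟨t, hVL (hTV ht)⟩ ht, one_mul,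
      hτW ⟨w, hVL (hWV hw)⟩ hw, QuotientGroup.mk'_apply, QuotientGroup.eq_one_iff,
      hmemTP] at e
    rw [← htw, hWT w hw e, mul_one]
    exact ht
  have hsurj : Function.Surjective τ := by
    intro q
    induction q using QuotientGroup.induction_on with
    | H p =>
      have hpV : ((p : L) : G) ∈ V := by
        have := p.2; simp only [hP, mem_subgroupOf] at this; exact this
      obtain ⟨t, ht, w, hw, htw⟩ := hVTW _ hpV
      refine ⟨⟨w, hVL (hWV hw)⟩, ?_⟩
      rw [hτW _ hw, QuotientGroup.mk'_apply]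
      refine QuotientGroup.eq.mpr ((hmemTP _).mpr ?_)
      show w⁻¹ * ((p : L) : G) ∈ V ⊓ A
      rw [← htw, h.comm_V (hTV ht) (hWV hw), inv_mul_cancel_left]
      exact ht
  have hTP4 : Nat.card TP = 4 := by
    rw [Nat.card_congr (Subgroup.subgroupOfEquivOfLe (show (V ⊓ A).subgroupOf L ≤ (P : Subgroup L)
      from fun x hx => hmemP x (hTV hx))).toEquiv,
      Nat.card_congr (Subgroup.subgroupOfEquivOfLe (hTV.trans hVL)).toEquiv, h.loc.card_inter]
  have hQ4 : Nat.card (↥(P : Subgroup L) ⧸ TP) = 4 := by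
    have := Subgroup.card_eq_card_quotient_mul_card_subgroup TP
    rw [hcardP, hTP4] at this
    omega
  set K := τ.ker with hKdef
  have hKindex : K.index = 4 := by
    rw [hKdef, Subgroup.index_ker, MonoidHom.range_eq_top.mpr hsurj,
      Nat.card_congr Subgroup.topEquiv.toEquiv, hQ4]
  have hcardL : Nat.card L = 4 * Nat.card K := by
    rw [← Subgroup.card_mul_index K, hKindex, mul_comm]
  have h8 : ¬ 8 ∣ Nat.card K := by
    intro h8
    have : 2 ^ 5 ∣ Nat.card L := by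
      rw [hcardL]; obtain ⟨j, hj⟩ := h8; exact ⟨j, by omega⟩
    obtain ⟨Q, hQ⟩ := Sylow.exists_subgroup_card_pow_prime 2 this
    obtain ⟨P', hP'⟩ := (IsPGroup.of_card (n := 5) hQ).exists_le_sylow
    have h1 := Subgroup.card_le_of_le hP'
    rw [hQ, Nat.card_congr (P'.equiv P).toEquiv, hcardP] at h1
    omega
  -- one class of involutions in the kernel
  have hgK : gL ∈ K := by
    rw [hKdef, MonoidHom.mem_ker]
    have h2 : ∀ q : ↥(P : Subgroup L) ⧸ TP, q * q = 1 := by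
      intro q
      induction q using QuotientGroup.induction_on with
      | H p =>
        rw [← QuotientGroup.mk_mul, QuotientGroup.eq_one_iff]
        have hp := p.2
        simp only [hP, mem_subgroupOf] at hp
        have : p * p = 1 := Subtype.ext (Subtype.ext (h.loc.sq_V _ hp))
        rw [this]; exact one_mem _
    have h3 : τ gL ^ 3 = 1 := by
      rw [← map_pow]
      have : gL ^ 3 = 1 := Subtype.ext (by
        rw [SubgroupClass.coe_pow]; exact hg3 ▸ pow_orderOf_eq_one g')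
      rw [this, map_one]
    rwa [pow_succ, pow_two, h2, one_mul] at h3
  refine ⟨g', hgL, K, ⟨hW4, hVTW, hWT, hTimg, huW, hgT, hgfix⟩, hg3, hMc48, MonoidHom.normal_ker τ,
    hKindex, h8, hgK, fun x hx => MonoidHom.mem_ker.mpr (hτT x hx),
    fun x hx hxK => hτV x hx (MonoidHom.mem_ker.mp hxK), fun a b => ?_⟩
  rw [hKdef, MonoidHom.mem_ker, map_mul, map_mul, map_mul, map_inv, map_inv]
  simp

theorem Closed.cent_cases (hnot : ¬ centralizer ({u} : Set G) ≤ normalizer (S : Set G)) :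
    Big V A z u := by
  classical
  haveI : Fact (Nat.Prime 2) := ⟨Nat.prime_two⟩
  set L := centralizer ({u} : Set G) with hL
  have hVL : V ≤ L := h.V_le_cent hu
  have hTV : V ⊓ A ≤ V := inf_le_left
  have hzV : z ∈ V := hTV h.loc.mem_z
  have hcentT : ∀ x ∈ V ⊓ A, x ≠ 1 → ∀ c ∈ L, c * x = x * c → c ∈ V :=
    fun x hx hx1 c hc hcx => h.cent_T hu huA hx hx1 hc hcx
  obtain ⟨g', hgL, K, ⟨hW4, hVTW, hWT, hTimg, huW, hgT, hgfix⟩, hg3, hMc48, hKn, hKindex, h8,
    hgK, htK', hKV, hKcomm⟩ := h.exists_kernel hu huA hnot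
  set Mc := L ⊓ normalizer (S : Set G) with hMc
  let gL : L := ⟨g', hgL⟩
  have htK : ∀ (x : G) (hx : x ∈ V ⊓ A), (⟨x, hVL (hTV hx)⟩ : L) ∈ K := fun x hx => htK' _ hx
  have hcardL : Nat.card L = 4 * Nat.card K := by
    rw [← Subgroup.card_mul_index K, hKindex, mul_comm]
  let zK : K := ⟨⟨z, hVL hzV⟩, htK z h.loc.mem_z⟩
  let gK : K := ⟨gL, hgK⟩
  have hTconj : ∀ x : K, ((x : L) : G) ∈ V ⊓ A → x ≠ 1 → IsConj zK x := by
    intro x hx hx1
    have hne1 : g' * z * g'⁻¹ ≠ z := fun e =>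
      h.loc.z_ne (hgfix z h.loc.mem_z (mul_inv_eq_iff_eq_mul.mp e))
    have hne2 : g' * (g' * z * g'⁻¹) * g'⁻¹ ≠ g' * z * g'⁻¹ := fun e =>
      hne1 (mul_left_cancel (mul_right_cancel e))
    have hne3 : g' * (g' * z * g'⁻¹) * g'⁻¹ ≠ z := by
      intro e
      have hg33 : g' * g' * g' = 1 := by
        rw [← pow_orderOf_eq_one g', hg3, pow_succ, pow_two]
      have e3 := congrArg (fun t => g' * t * g'⁻¹) e
      have e4 : g' * g' * g' * z * (g' * g' * g')⁻¹ = g' * z * g'⁻¹ := by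
        rw [← e3]; group
      rw [hg33] at e4
      exact hne1 (by simpa using e4.symm)
    have hset : ({1, z, g' * z * g'⁻¹, g' * (g' * z * g'⁻¹) * g'⁻¹} : Set G) =
        ((V ⊓ A : Subgroup G) : Set G) := by
      refine Set.eq_of_subset_of_ncard_le ?_ ?_
      · rintro y (rfl | rfl | rfl | rfl)
        exacts [one_mem _, h.loc.mem_z, hgT _ h.loc.mem_z, hgT _ (hgT _ h.loc.mem_z)]
      · have f1 : (1 : G) ≠ g' * z * g'⁻¹ := fun e => h.loc.z_ne (by simpa using e.symm)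
        have f2 : (1 : G) ≠ g' * (g' * z * g'⁻¹) * g'⁻¹ := fun e => h.loc.z_ne (by simpa using e.symm)
        rw [← Nat.card_coe_set_eq, SetLike.coe_sort_coe, h.loc.card_inter,
          Set.ncard_insert_of_notMem (by
            simp only [Set.mem_insert_iff, Set.mem_singleton_iff, not_or]
            exact ⟨h.loc.z_ne.symm, f1, f2⟩),
          Set.ncard_insert_of_notMem (by
            simp only [Set.mem_insert_iff, Set.mem_singleton_iff, not_or]
            exact ⟨fun e => hne1 e.symm, fun e => hne3 e.symm⟩),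
          Set.ncard_pair hne2.symm]
    have hm : ((x : L) : G) ∈ ({1, z, g' * z * g'⁻¹, g' * (g' * z * g'⁻¹) * g'⁻¹} : Set G) :=
      hset ▸ hx
    rcases hm with e | e | e | e
    · exact absurd (Subtype.ext (Subtype.ext e)) hx1
    · rw [show x = zK from Subtype.ext (Subtype.ext e)]
    · exact isConj_iff.mpr ⟨gK, Subtype.ext (Subtype.ext e.symm)⟩
    · refine isConj_iff.mpr ⟨gK * gK, Subtype.ext (Subtype.ext ?_)⟩
      show g' * g' * z * (g' * g')⁻¹ = _
      rw [Set.mem_singleton_iff.mp e]; group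
  have hTsylow : ∃ Q : Sylow 2 K, (Q : Subgroup K) = ((V ⊓ A).subgroupOf L).subgroupOf K := by
    set T0 := ((V ⊓ A).subgroupOf L).subgroupOf K
    have hT0 : Nat.card T0 = 4 := by
      rw [Nat.card_congr (Subgroup.subgroupOfEquivOfLe (show (V ⊓ A).subgroupOf L ≤ K from
        fun x hx => htK' x hx)).toEquiv,
        Nat.card_congr (Subgroup.subgroupOfEquivOfLe (hTV.trans hVL)).toEquiv, h.loc.card_inter]
    obtain ⟨Q, hle⟩ := (IsPGroup.of_card (p := 2) (n := 2) (by rw [hT0]; rfl)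
      : IsPGroup 2 T0).exists_le_sylow
    refine ⟨Q, (Subgroup.eq_of_le_of_card_ge hle ?_).symm⟩
    rw [hT0]
    obtain ⟨n, hn⟩ := Q.isPGroup'.exists_card_eq
    rw [hn]
    by_contra hlt
    have hn3 : 3 ≤ n := by
      by_contra hn3
      exact hlt (Nat.pow_le_pow_right (n := 2) (by norm_num) (show n ≤ 2 by omega))
    exact h8 ((Nat.pow_dvd_pow 2 hn3).trans (hn ▸ Subgroup.card_subgroup_dvd_card _))
  have hKconj : ∀ x : K, x * x = 1 → x ≠ 1 → IsConj zK x := by
    intro x hx hx1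
    obtain ⟨Q, hQ⟩ := hTsylow
    obtain ⟨Q', hQ'⟩ := (show IsPGroup 2 ↥(zpowers x) from
      IsPGroup.of_card (n := 1) (by rw [Nat.card_zpowers, orderOf_two hx hx1, pow_one])).exists_le_sylow
    obtain ⟨c, hc⟩ := MulAction.exists_smul_eq K Q' Q
    have hmem : c * x * c⁻¹ ∈ (Q : Subgroup K) := by
      rw [← hc, Sylow.coe_subgroup_smul, Subgroup.mem_smul_pointwise_iff_exists]
      exact ⟨x, hQ' (mem_zpowers _), rfl⟩
    rw [hQ] at hmem
    exact (hTconj (c * x * c⁻¹) (mem_subgroupOf.mp (mem_subgroupOf.mp hmem)) (by simpa using hx1)).trans (isConj_iff.mpr ⟨c, rfl⟩).symm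
  have hKcent : ∀ c : K, ((c : L) : G) * z = z * ((c : L) : G) → ((c : L) : G) ∈ V ⊓ A :=
    fun c hc => hKV c (hcentT z h.loc.mem_z h.loc.z_ne _ (c : L).2 hc) c.2
  obtain ⟨s, hs, hsz⟩ := hTimg z h.loc.mem_z
  have hs1 : s ≠ 1 := by rintro rfl; simp at hsz; exact h.loc.z_ne hsz.symm
  have hsz' : s ≠ z := by
    rintro rfl
    have : g' * s * g'⁻¹ = 1 := by
      have := congrArg (fun t => t * s) hsz
      simpa [mul_assoc, h.loc.sq_V s (hTV hs)] using this
    exact hs1 (by simpa using this)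
  let aK : K := ⟨⟨s, hVL (hTV hs)⟩, htK s hs⟩
  have hcard : Nat.card K = 12 ∨
      (IsSimpleGroup K ∧ Nonempty (K ≃* ↥(alternatingGroup (Fin 5)))) := by
    refine KleinSelfCent.card_twelve_or_alternating (t := zK) (a := aK)
      (orderOf_two (Subtype.ext (Subtype.ext (h.loc.sq_V z hzV)))
        (fun e => h.loc.z_ne (congrArg (fun w : K => ((w : L) : G)) e)))
      (orderOf_two (Subtype.ext (Subtype.ext (h.loc.sq_V s (hTV hs))))
        (fun e => hs1 (congrArg (fun w : K => ((w : L) : G)) e)))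
      (Subtype.ext (Subtype.ext (h.comm_V hzV (hTV hs))))
      (fun e => hsz' (congrArg (fun w : K => ((w : L) : G)) e)) ?_ ?_ h8
    · intro c hc
      have hm := hKcent c (congrArg (fun w : K => ((w : L) : G)) hc.eq)
      have hset : ({1, z, s, z * s} : Set G) = ((V ⊓ A : Subgroup G) : Set G) := by
        refine Set.eq_of_subset_of_ncard_le ?_ ?_
        · rintro y (rfl | rfl | rfl | rfl)
          exacts [one_mem _, h.loc.mem_z, hs, mul_mem h.loc.mem_z hs]
        · have e1 : z ≠ z * s := fun e => hs1 (by simpa using e)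
          have e2 : s ≠ z * s := fun e => h.loc.z_ne (by simpa using e)
          have e3 : (1 : G) ≠ z * s := fun e => hsz' (by
            calc s = z * z * s := by rw [h.loc.sq_V z hzV, one_mul]
              _ = z := by rw [mul_assoc, ← e, mul_one])
          rw [← Nat.card_coe_set_eq, SetLike.coe_sort_coe, h.loc.card_inter,
            Set.ncard_insert_of_notMem (by simp [h.loc.z_ne.symm, hs1.symm, e3]),
            Set.ncard_insert_of_notMem (by simp [hsz'.symm, e1]),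
            Set.ncard_pair e2]
      have hm' : ((c : L) : G) ∈ ({1, z, s, z * s} : Set G) := hset ▸ hm
      rcases hm' with e | e | e | e
      · exact Or.inl (Subtype.ext (Subtype.ext e))
      · exact Or.inr (Or.inl (Subtype.ext (Subtype.ext e)))
      · exact Or.inr (Or.inr (Or.inl (Subtype.ext (Subtype.ext e))))
      · exact Or.inr (Or.inr (Or.inr (Subtype.ext (Subtype.ext e))))
    · intro a b ha hb
      have h1 : ∀ a : K, orderOf a = 2 → IsConj zK a := fun a ha =>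
        hKconj a (sq_of_order ha) (fun e => by rw [e, orderOf_one] at ha; omega)
      exact (h1 a ha).symm.trans (h1 b hb)
  have hK60 : Nat.card K = 60 := by
    rcases hcard with h12 | ⟨-, ⟨e⟩⟩
    · exfalso
      apply hnot
      have e : Mc = L := Subgroup.eq_of_le_of_card_ge inf_le_left (by rw [hMc48, hcardL, h12])
      intro x hx
      rw [← e] at hx
      exact (mem_inf.mp hx).2
    · rw [Nat.card_congr e.toEquiv, nat_card_alternatingGroup, Nat.card_eq_fintype_card, Fintype.card_fin]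
      decide
  refine ⟨by rw [hcardL, hK60], K.map L.subtype, Subgroup.map_subtype_le K, ?_, ?_, ?_, ?_, ?_,
    ?_, ?_⟩
  · rw [Subgroup.card_map_of_injective L.subtype_injective, hK60]
  · exact fun x hx => ⟨⟨x, hVL (hTV hx)⟩, htK x hx, rfl⟩
  · rintro ⟨k, hk, hku⟩
    have hk' : k = ⟨u, hVL hu⟩ := Subtype.ext hku
    subst hk'
    exact huA (mem_inf.mp (hKV ⟨u, hVL hu⟩ hu hk)).2
  · rintro x hx _ ⟨k, hk, rfl⟩
    exact ⟨⟨x, hx⟩ * k * (⟨x, hx⟩ : L)⁻¹, hKn.conj_mem k hk _, rfl⟩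
  · intro a ha b hb
    exact ⟨_, hKcomm ⟨a, ha⟩ ⟨b, hb⟩, rfl⟩
  · rintro _ ⟨k, hk, rfl⟩ hkz
    exact hKcent ⟨k, hk⟩ hkz
  · rintro _ ⟨k, hk, rfl⟩ hx hx1
    obtain ⟨c, hc⟩ := isConj_iff.mp (hKconj ⟨k, hk⟩ (Subtype.ext (Subtype.ext hx))
      (fun e => hx1 (congrArg (fun w : K => ((w : L) : G)) e)))
    exact ⟨_, ⟨(c : L), c.2, rfl⟩, congrArg (fun w : K => ((w : L) : G)) hc⟩

end Cfsg.Agent.AutL34Closed54
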