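import Mathlib
import Cfsg.Agent.Lib.AutL34Closed54Local

/-!
# Counting with the map `(x, y) ↦ (x y) ^ (o / 2)` (S3237)

If some involution of `V` outside `A` has a centralizer outside the normalizer of `S`, then the
group has order `37440`.
-/

set_option autoImplicit false

namespace Cfsg.Agent.AutL34Closed54

open Subgroup
open Cfsg.Agent.SignalizerStrongEmb (orderOf_conj exists_conj_of_odd conj_pow_mul_eq_inv)

variable {G : Type*} [Group G] [Finite G] {V A S : Subgroup G} {z : G}

/-- The involution in the cyclic group generated by a product of two involutions. -/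
noncomputable def halfPow {H : Type*} [Group H] (x y : H) : H :=
  (x * y) ^ (orderOf (x * y) / 2)

omit [Finite G] in
theorem halfPow_conj (g x y : G) :
    halfPow (g * x * g⁻¹) (g * y * g⁻¹) = g * halfPow x y * g⁻¹ := by
  have e : g * x * g⁻¹ * (g * y * g⁻¹) = g * (x * y) * g⁻¹ := by group
  rw [halfPow, halfPow, e, orderOf_conj, conj_pow]

/-- The size of a class. -/
theorem card_class {H : Type*} [Group H] [Finite H] (a : H) :
    Nat.card {x : H // IsConj a x} * Nat.card ↥(centralizer ({a} : Set H)) = Nat.card H := by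
  set C := centralizer ({a} : Set H) with hC
  have hkey : ∀ g g' : H, g⁻¹ * g' ∈ C ↔ g * a * g⁻¹ = g' * a * g'⁻¹ := by
    intro g g'
    rw [hC, mem_centralizer_singleton_iff]
    constructor
    · intro e
      have := congrArg (fun t => g * t * g'⁻¹) e
      simpa [mul_assoc] using this.symm
    · intro e
      have := congrArg (fun t => g⁻¹ * t * g') e
      simpa [mul_assoc] using this.symm
  let f : H ⧸ C → {x : H // IsConj a x} := fun q =>
    ⟨q.out * a * q.out⁻¹, isConj_iff.mpr ⟨_, rfl⟩⟩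
  have hf : Function.Bijective f := by
    constructor
    · intro q q' e
      rw [← q.out_eq, ← q'.out_eq]
      exact QuotientGroup.eq.mpr ((hkey _ _).mpr (congrArg Subtype.val e))
    · rintro ⟨x, hx⟩
      obtain ⟨g, rfl⟩ := isConj_iff.mp hx
      refine ⟨QuotientGroup.mk g, Subtype.ext ?_⟩
      exact (hkey _ _).mp (QuotientGroup.eq.mp (QuotientGroup.mk g : H ⧸ C).out_eq)
  rw [← Nat.card_congr (Equiv.ofBijective f hf), ← Subgroup.index_eq_card, mul_comm]
  exact Subgroup.card_mul_index C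

theorem orderOf_of_isConj {a b : G} (h : IsConj a b) : orderOf b = orderOf a := by
  obtain ⟨g, rfl⟩ := isConj_iff.mp h
  exact orderOf_conj g a

/-- An involution commuting with an element of `V \ A` is conjugate to it or to `z`. -/
theorem Closed.isConj_of_comm (h : Closed V A S z) {k y : G} (hk : k ∈ V) (hkA : k ∉ A)
    (hy : orderOf y = 2) (hyk : y * k = k * y) (hne : ¬ IsConj z y) : IsConj y k := by
  obtain ⟨c, -, hcV⟩ := h.conj_into_V hk hkA (sq_of_order hy) hyk
  have hyc : IsConj y (c * y * c⁻¹) := isConj_iff.mpr ⟨c, rfl⟩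
  have hA : c * y * c⁻¹ ∉ A := by
    intro hA
    refine hne ((h.isConj_inter (mem_inf.mpr ⟨hcV, hA⟩) ?_).trans hyc.symm)
    intro e
    have : y = 1 := by simpa using e
    rw [this, orderOf_one] at hy
    omega
  obtain ⟨d, -, hd⟩ := h.loc.orbit_V _ hcV k hk hA hkA
  exact hyc.trans (isConj_iff.mpr ⟨d, hd⟩)

theorem Closed.halfPow_z (h : Closed V A S z) {u y : G} (hu : u ∈ V) (huA : u ∉ A)
    (hy : IsConj u y) : IsConj u (halfPow z y) := by
  have hoz := h.order_z
  have hoy : orderOf y = 2 := (orderOf_of_isConj hy).trans (h.order_outside hu huA)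
  have hne : ¬ IsConj z y := fun e => h.notV u hu huA (e.trans hy.symm)
  obtain ⟨m, hm⟩ : Even (orderOf (z * y)) := by
    rw [← Nat.not_odd_iff_even]
    intro ho
    obtain ⟨w, -, hw⟩ := exists_conj_of_odd hoz hoy ho
    exact hne (isConj_iff.mpr ⟨w, hw⟩)
  have hpos : 0 < orderOf (z * y) := orderOf_pos _
  have hk : halfPow z y = (z * y) ^ m := by rw [halfPow, hm]; congr 1; omega
  rw [hk]
  set k := (z * y) ^ m with hk'
  have hk2 : k * k = 1 := by rw [hk', ← pow_add, ← hm, pow_orderOf_eq_one]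
  have hk1 : k ≠ 1 := pow_ne_one_of_lt_orderOf (by omega) (by omega)
  have hzk : z * k = k * z := by
    have h1 : z * k * z⁻¹ = k⁻¹ := conj_pow_mul_eq_inv hoz hoy m
    rw [inv_eq_of_mul_eq_one_left hk2] at h1
    exact mul_inv_eq_iff_eq_mul.mp h1
  have hzz : z * z = 1 := sq_of_order hoz
  have hyk : y * k = k * y := by
    have hxk : z * y * k = k * (z * y) := ((Commute.refl (z * y)).pow_right m).eq
    calc y * k = z * (z * y * k) := by simp only [← mul_assoc, hzz, one_mul]
      _ = z * k * (z * y) := by rw [hxk, mul_assoc]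
      _ = k * (z * z) * y := by rw [hzk]; group
      _ = k * y := by rw [hzz, mul_one]
  have hkS : k ∈ S := h.two_elem_le
    ((h.loc.cent z h.loc.mem_z h.loc.z_ne).2 (mem_centralizer_singleton_iff.mpr hzk.symm)) hk2
  have hkT : k ∉ V ⊓ A := by
    intro hkT
    have hyS : y ∈ S := h.two_elem_le
      ((h.loc.cent k hkT hk1).2 (mem_centralizer_singleton_iff.mpr hyk)) (sq_of_order hoy)
    have hyz : y * z = z * y := h.central h.loc.mem_z hyS
    have h2 : (z * y) ^ 2 = 1 := by
      rw [pow_two]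
      calc z * y * (z * y) = z * (y * z) * y := by group
        _ = z * (z * y) * y := by rw [hyz]
        _ = z * z * (y * y) := by group
        _ = 1 := by rw [hzz, sq_of_order hoy, one_mul]
    have hle := Nat.le_of_dvd (by norm_num) (orderOf_dvd_of_pow_eq_one h2)
    have hm1 : m = 1 := by omega
    have hyT : y ∈ V ⊓ A := by
      have e : y = z * k := by rw [hk', hm1, pow_one, ← mul_assoc, hzz, one_mul]
      exact e ▸ mul_mem h.loc.mem_z hkT
    exact hne (h.isConj_inter hyT (fun e => by rw [e, orderOf_one] at hoy; omega))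
  refine hy.trans ?_
  rcases h.loc.involutions k hkS hk2 with hV | hA
  · exact h.isConj_of_comm hV (fun hA => hkT (mem_inf.mpr ⟨hV, hA⟩)) hoy hyk hne
  · exact h.swap.isConj_of_comm hA (fun hV => hkT (mem_inf.mpr ⟨hV, hA⟩)) hoy hyk hne

theorem Closed.halfPow_pair (h : Closed V A S z) {u x y : G} (hu : u ∈ V) (huA : u ∉ A)
    (hx : IsConj z x) (hy : IsConj u y) : IsConj u (halfPow x y) := by
  obtain ⟨g, rfl⟩ := isConj_iff.mp hx
  have h1 := h.halfPow_z hu huA (y := g⁻¹ * y * g)
    (hy.trans (isConj_iff.mpr ⟨g⁻¹, by rw [inv_inv]⟩))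
  refine h1.trans (isConj_iff.mpr ⟨g, ?_⟩)
  rw [← halfPow_conj, show g * (g⁻¹ * y * g) * g⁻¹ = y by group]

/-- The fiber over `u`. -/
theorem Closed.card_class_z (h : Closed V A S z) {u : G} (hu : u ∈ V) (huA : u ∉ A) :
    Nat.card {x : G // IsConj z x} =
      Nat.card {p : G × G // IsConj z p.1 ∧ IsConj u p.2 ∧ halfPow p.1 p.2 = u} := by
  classical
  let f : {x : G // IsConj z x} × {y : G // IsConj u y} → {c : G // IsConj u c} :=
    fun p => ⟨halfPow p.1.1 p.2.1, h.halfPow_pair hu huA p.1.2 p.2.2⟩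
  have hfib : ∀ c : {c : G // IsConj u c}, Nat.card {p // f p = c} =
      Nat.card {p : G × G // IsConj z p.1 ∧ IsConj u p.2 ∧ halfPow p.1 p.2 = u} := by
    rintro ⟨c, hc⟩
    obtain ⟨g, hg⟩ := isConj_iff.mp hc
    have back : ∀ x : G, IsConj x (g⁻¹ * x * g) := fun x =>
      isConj_iff.mpr ⟨g⁻¹, by rw [inv_inv]⟩
    have forth : ∀ x : G, IsConj x (g * x * g⁻¹) := fun x => isConj_iff.mpr ⟨g, rfl⟩
    refine Nat.card_congr
      { toFun := fun p => ⟨(g⁻¹ * p.1.1.1 * g, g⁻¹ * p.1.2.1 * g),
          p.1.1.2.trans (back _), p.1.2.2.trans (back _), ?_⟩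
        invFun := fun q => ⟨(⟨g * q.1.1 * g⁻¹, q.2.1.trans (forth _)⟩,
          ⟨g * q.1.2 * g⁻¹, q.2.2.1.trans (forth _)⟩), ?_⟩
        left_inv := fun p => by
          refine Subtype.ext (Prod.ext (Subtype.ext ?_) (Subtype.ext ?_)) <;>
            simp [mul_assoc]
        right_inv := fun q => by
          refine Subtype.ext (Prod.ext ?_ ?_) <;> simp [mul_assoc] }
    · have e : halfPow p.1.1.1 p.1.2.1 = c := congrArg Subtype.val p.2
      have h1 := halfPow_conj g⁻¹ p.1.1.1 p.1.2.1
      rw [inv_inv, e] at h1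
      refine h1.trans ?_
      rw [← hg]; group
    · apply Subtype.ext
      show halfPow (g * q.1.1 * g⁻¹) (g * q.1.2 * g⁻¹) = c
      rw [halfPow_conj, q.2.2.2, hg]
  haveI : Fintype {c : G // IsConj u c} := Fintype.ofFinite _
  have hsum := Nat.card_congr (Equiv.sigmaFiberEquiv f)
  rw [Nat.card_sigma, Finset.sum_congr rfl (fun c _ => hfib c), Finset.sum_const, smul_eq_mul,
    Finset.card_univ, ← Nat.card_eq_fintype_card, Nat.card_prod, mul_comm (Nat.card {x // IsConj z x})]
    at hsum
  have hpos : 0 < Nat.card {c : G // IsConj u c} :=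
    Nat.card_pos_iff.mpr ⟨⟨u, IsConj.refl u⟩, inferInstance⟩
  exact (Nat.eq_of_mul_eq_mul_left hpos hsum).symm

/-- Pairs of involutions of the normal subgroup of order `60` with product of odd order. -/
theorem Closed.card_odd_pairs (h : Closed V A S z) {u : G} (hu : u ∈ V) (huA : u ∉ A)
    {L0 : Subgroup G} (hL : L0 ≤ centralizer ({u} : Set G)) (hcard : Nat.card L0 = 60)
    (hT : V ⊓ A ≤ L0) (hcent : ∀ c ∈ L0, c * z = z * c → c ∈ V ⊓ A)
    (hinv : ∀ x ∈ L0, x * x = 1 → x ≠ 1 → ∃ c ∈ L0, c * z * c⁻¹ = x) :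
    Nat.card {q : {x : L0 // IsConj (⟨z, hT h.loc.mem_z⟩ : L0) x} ×
        {x : L0 // IsConj (⟨z, hT h.loc.mem_z⟩ : L0) x} // Odd (orderOf (q.1.1 * q.2.1))} = 195 := by
  classical
  set zL : L0 := ⟨z, hT h.loc.mem_z⟩ with hzL
  let I := {x : L0 // IsConj zL x}
  have hC : centralizer ({zL} : Set L0) = (V ⊓ A).subgroupOf L0 := by
    ext c
    rw [mem_centralizer_singleton_iff, mem_subgroupOf]
    constructor
    · exact fun e => hcent c c.2 (congrArg Subtype.val e)
    · exact fun hc => Subtype.ext (h.central h.loc.mem_z (h.inter_le hc))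
  have hI : Nat.card I = 15 := by
    have h1 := card_class zL
    rw [hC, hcard, Nat.card_congr (Subgroup.subgroupOfEquivOfLe hT).toEquiv,
      h.loc.card_inter] at h1
    change Nat.card I * 4 = 60 at h1
    omega
  have hIord : ∀ x : I, orderOf x.1 = 2 := fun x => by
    rw [orderOf_of_isConj x.2, ← Subgroup.orderOf_coe]
    exact h.order_z
  -- the pairs with first entry `z`
  have hne : Nat.card {s : I // ¬ Odd (orderOf (zL * s.1))} = 2 := by
    have key : ∀ s : I, ¬ Odd (orderOf (zL * s.1)) →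
        (s.1 : G) ∈ ((V ⊓ A : Subgroup G) : Set G) \ {1, z} := by
      intro s hs
      rw [Nat.not_odd_iff_even] at hs
      have hzs : orderOf zL = 2 := by rw [← Subgroup.orderOf_coe]; exact h.order_z
      obtain ⟨w, -, hw2, hwz, hws⟩ :=
        SignalizerStrongEmb.exists_commuting_of_even hzs (hIord s) hs
      have hwT : (w : G) ∈ V ⊓ A := hcent w w.2 (congrArg Subtype.val hwz).symm
      have hw1 : (w : G) ≠ 1 := by
        intro e
        rw [← Subgroup.orderOf_coe, e, orderOf_one] at hw2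
        omega
      have hsV : (s.1 : G) ∈ V :=
        h.cent_T hu huA hwT hw1 (hL s.1.2) (congrArg Subtype.val hws)
      have hsT : (s.1 : G) ∈ V ⊓ A :=
        hcent _ s.1.2 (h.comm_V hsV (mem_inf.mp h.loc.mem_z).1)
      refine ⟨hsT, ?_⟩
      rintro (e | e)
      · have := hIord s
        rw [← Subgroup.orderOf_coe, e, orderOf_one] at this
        omega
      · have hsz : s.1 = zL := Subtype.ext (Set.mem_singleton_iff.mp e)
        rw [hsz] at hs
        have : zL * zL = 1 := Subtype.ext (h.sq_inter h.loc.mem_z)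
        rw [this, orderOf_one] at hs
        exact absurd hs (by decide)
    let e : {s : I // ¬ Odd (orderOf (zL * s.1))} →
        ↥(((V ⊓ A : Subgroup G) : Set G) \ {1, z}) := fun s => ⟨_, key s.1 s.2⟩
    have he : Function.Bijective e := by
      constructor
      · intro a b hab
        exact Subtype.ext (Subtype.ext (Subtype.ext (congrArg Subtype.val hab :)))
      · rintro ⟨t, ht, ht'⟩
        simp only [Set.mem_insert_iff, Set.mem_singleton_iff, not_or] at ht'
        have hconj : IsConj zL ⟨t, hT ht⟩ := by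
          obtain ⟨c, hc, hcz⟩ := hinv t (hT ht) (h.sq_inter ht) ht'.1
          exact isConj_iff.mpr ⟨⟨c, hc⟩, Subtype.ext hcz⟩
        refine ⟨⟨⟨⟨t, hT ht⟩, hconj⟩, ?_⟩, rfl⟩
        have h2 : orderOf (zL * ⟨t, hT ht⟩) = 2 := by
          rw [← Subgroup.orderOf_coe]
          refine orderOf_two (h.sq_inter (mul_mem h.loc.mem_z ht)) ?_
          intro e'
          exact ht'.2 (by
            calc t = z * (z * t) := by rw [← mul_assoc, h.sq_inter h.loc.mem_z, one_mul]
              _ = z := by rw [show z * t = 1 from e', mul_one])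
        show ¬ Odd (orderOf (zL * ⟨t, hT ht⟩))
        rw [h2]; decide
    rw [Nat.card_congr (Equiv.ofBijective e he), Nat.card_coe_set_eq, Set.ncard_sdiff
      (by
        rintro x (rfl | rfl)
        exacts [one_mem _, h.loc.mem_z]),
      ← Nat.card_coe_set_eq, SetLike.coe_sort_coe, h.loc.card_inter,
      Set.ncard_pair h.loc.z_ne.symm]
  have h13 : ∀ x : I, Nat.card {s : I // Odd (orderOf (x.1 * s.1))} = 13 := by
    intro x
    obtain ⟨g, hg⟩ := isConj_iff.mp x.2
    let cj : I ≃ I :=
      { toFun := fun s => ⟨g * s.1 * g⁻¹, s.2.trans (isConj_iff.mpr ⟨g, rfl⟩)⟩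
        invFun := fun s => ⟨g⁻¹ * s.1 * g, s.2.trans (isConj_iff.mpr ⟨g⁻¹, by rw [inv_inv]⟩)⟩
        left_inv := fun s => Subtype.ext (by simp [mul_assoc])
        right_inv := fun s => Subtype.ext (by simp [mul_assoc]) }
    have h1 : Nat.card {s : I // Odd (orderOf (zL * s.1))} =
        Nat.card {s : I // Odd (orderOf (x.1 * s.1))} := by
      refine Nat.card_congr (Equiv.subtypeEquiv cj fun s => ?_)
      show _ ↔ Odd (orderOf (x.1 * (g * s.1 * g⁻¹)))
      rw [← hg, show g * zL * g⁻¹ * (g * s.1 * g⁻¹) = g * (zL * s.1) * g⁻¹ by group, orderOf_conj]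
    have h2 := Nat.card_congr (Equiv.sumCompl (fun s : I => Odd (orderOf (zL * s.1))))
    rw [Nat.card_sum, hne, hI] at h2
    omega
  haveI : Fintype I := Fintype.ofFinite _
  rw [Nat.card_congr (Equiv.subtypeProdEquivSigmaSubtype
      (fun x s : I => Odd (orderOf (x.1 * s.1)))), Nat.card_sigma,
    Finset.sum_congr rfl (fun x _ => h13 x), Finset.sum_const, smul_eq_mul, Finset.card_univ,
    ← Nat.card_eq_fintype_card, hI]

/-- The fiber over `u` in terms of the normal subgroup of order `60`. -/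
theorem Closed.card_fiber (h : Closed V A S z) {u : G} (hu : u ∈ V) (huA : u ∉ A)
    (hnot : ¬ centralizer ({u} : Set G) ≤ normalizer (S : Set G)) :
    Nat.card {p : G × G // IsConj z p.1 ∧ IsConj u p.2 ∧ halfPow p.1 p.2 = u} = 195 := by
  classical
  obtain ⟨-, L0, hL, hcard, hT, huL, hnorm, -, hcent, hinv⟩ := h.cent_cases hu huA hnot
  rw [← h.card_odd_pairs hu huA hL hcard hT hcent hinv]
  set zL : L0 := ⟨z, hT h.loc.mem_z⟩ with hzL
  set L := centralizer ({u} : Set G) with hLdef
  have hu2 : u * u = 1 := h.loc.sq_V u hu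
  have hou : orderOf u = 2 := h.order_outside hu huA
  have huLmem : u ∈ L := mem_centralizer_singleton_iff.mpr rfl
  have toI : ∀ x ∈ L0, x * x = 1 → x ≠ 1 → ∀ hx : x ∈ L0, IsConj zL ⟨x, hx⟩ := by
    intro x hx h2 h1 hx'
    obtain ⟨c, hc, hcz⟩ := hinv x hx h2 h1
    exact isConj_iff.mpr ⟨⟨c, hc⟩, Subtype.ext hcz⟩
  have hfacts : ∀ x y : G, IsConj z x → IsConj u y → halfPow x y = u →
      ∃ (_ : x ∈ L0) (_ : u * y ∈ L0), (u * y) * (u * y) = 1 ∧ u * y ≠ 1 ∧
        Odd (orderOf (x * (u * y))) := by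
    intro x y hx hy hk
    have hox : orderOf x = 2 := (orderOf_of_isConj hx).trans h.order_z
    have hoy : orderOf y = 2 := (orderOf_of_isConj hy).trans hou
    have hxx := sq_of_order hox
    have hyy := sq_of_order hoy
    set o := orderOf (x * y) with ho
    have hk' : (x * y) ^ (o / 2) = u := hk
    have hu1 : u ≠ 1 := fun e => huA (e ▸ A.one_mem)
    have hxu : x * u = u * x := by
      have h1 : x * (x * y) ^ (o / 2) * x⁻¹ = ((x * y) ^ (o / 2))⁻¹ :=
        conj_pow_mul_eq_inv hox hoy (o / 2)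
      rw [hk', inv_eq_of_mul_eq_one_left hu2] at h1
      exact mul_inv_eq_iff_eq_mul.mp h1
    have hxL : x ∈ L := mem_centralizer_singleton_iff.mpr hxu
    have hyu : y * u = u * y := by
      have h1 : x * y * u = u * (x * y) := hk' ▸ ((Commute.refl (x * y)).pow_right (o / 2)).eq
      calc y * u = x * (x * y * u) := by simp only [← mul_assoc, hxx, one_mul]
        _ = x * u * (x * y) := by rw [h1, mul_assoc]
        _ = u * (x * x) * y := by rw [hxu]; group
        _ = u * y := by rw [hxx, mul_one]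
    have hyL : y ∈ L := mem_centralizer_singleton_iff.mpr hyu
    have hx0 : x ∈ L0 := by
      obtain ⟨c, hc, hcV⟩ := h.conj_into_V hu huA hxx hxu
      have hcT := (h.conj_mem (h.loc.V_le hcV) (hx.trans (isConj_iff.mpr ⟨c, rfl⟩))).1
      have h1 := hnorm c⁻¹ (L.inv_mem hc) _ (hT hcT)
      rwa [inv_inv, show c⁻¹ * (c * x * c⁻¹) * c = x by group] at h1
    have hstep : ∀ j : ℕ, (x * y) ^ j * (y ^ j)⁻¹ ∈ L0 := by
      intro j
      induction j with
      | zero => simp
      | succ j ih =>
        have h1 := L0.mul_mem (hnorm _ (L.pow_mem (L.mul_mem hxL hyL) j) x hx0) ih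
        have e : (x * y) ^ (j + 1) * (y ^ (j + 1))⁻¹ =
            (x * y) ^ j * x * ((x * y) ^ j)⁻¹ * ((x * y) ^ j * (y ^ j)⁻¹) := by
          rw [pow_succ, pow_succ]; group
        rwa [e]
    have hy2 : y ^ 2 = 1 := by rw [pow_two]; exact hyy
    have hm := hstep (o / 2)
    rw [hk'] at hm
    obtain ⟨j, hj⟩ : Odd (o / 2) := by
      rw [← Nat.not_even_iff_odd]
      rintro ⟨j, hj⟩
      rw [hj, ← two_mul, pow_mul, hy2, one_pow, inv_one, mul_one] at hm
      exact huL hm
    rw [hj, pow_succ, pow_mul, hy2, one_pow, one_mul, inv_eq_of_mul_eq_one_left hyy] at hm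
    have hs2 : u * y * (u * y) = 1 := by
      calc u * y * (u * y) = u * (y * u) * y := by group
        _ = u * (u * y) * y := by rw [hyu]
        _ = u * u * (y * y) := by group
        _ = 1 := by rw [hu2, hyy, one_mul]
    have hs1 : u * y ≠ 1 := by
      intro e
      have hyu' : y = u := by
        calc y = u * (u * y) := by rw [← mul_assoc, hu2, one_mul]
          _ = u := by rw [e, mul_one]
      subst hyu'
      have h2 : (x * y) ^ 2 = 1 := by
        rw [pow_two]
        calc x * y * (x * y) = x * (y * x) * y := by group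
          _ = x * x * (y * y) := by rw [← hxu]; group
          _ = 1 := by rw [hxx, hyy, one_mul]
      have hle := Nat.le_of_dvd (by norm_num) (orderOf_dvd_of_pow_eq_one h2)
      have ho' : o / 2 = 1 := by omega
      rw [ho', pow_one] at hk'
      have hx1 : x = 1 := by simpa using hk'
      rw [hx1, orderOf_one] at hox
      omega
    refine ⟨hx0, hm, hs2, hs1, ?_⟩
    set r := x * (u * y) with hr
    have hcomm : Commute r u := by
      show r * u = u * r
      exact mem_centralizer_singleton_iff.mp (hL (L0.mul_mem hx0 hm))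
    have hru : r * u = x * y := by
      calc r * u = x * u * (y * u) := by rw [hr]; group
        _ = x * (u * u) * y := by rw [hyu]; group
        _ = x * y := by rw [hu2, mul_one]
    have hr1 : r ^ (2 * j + 1) = 1 := by
      rw [← hru, hcomm.mul_pow, hj] at hk'
      rw [pow_succ u, pow_mul u, pow_two u, hu2, one_pow, one_mul] at hk'
      simpa using hk'
    exact (show Odd (2 * j + 1) from ⟨j, rfl⟩).of_dvd_nat (orderOf_dvd_of_pow_eq_one hr1)
  have hback : ∀ a b : {x : L0 // IsConj zL x}, Odd (orderOf (a.1 * b.1)) →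
      IsConj z (a.1 : G) ∧ IsConj u (u * (b.1 : G)) ∧ halfPow (a.1 : G) (u * (b.1 : G)) = u := by
    rintro ⟨a, ha⟩ ⟨b, hb⟩ hodd
    obtain ⟨ca, hca⟩ := isConj_iff.mp ha
    obtain ⟨cb, hcb⟩ := isConj_iff.mp hb
    refine ⟨isConj_iff.mpr ⟨ca, congrArg Subtype.val hca⟩, ?_, ?_⟩
    · have huzV : u * z ∈ V := V.mul_mem hu (mem_inf.mp h.loc.mem_z).1
      have huzA : u * z ∉ A := fun hh => huA (by
        have := A.mul_mem hh (A.inv_mem (mem_inf.mp h.loc.mem_z).2)
        simpa using this)
      obtain ⟨c, -, hc⟩ := h.loc.orbit_V u hu _ huzV huA huzA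
      refine (isConj_iff.mpr ⟨c, hc⟩ : IsConj u (u * z)).trans (isConj_iff.mpr ⟨(cb : G), ?_⟩)
      have hcu : (cb : G) * u = u * cb := mem_centralizer_singleton_iff.mp (hL cb.2)
      show (cb : G) * (u * z) * (cb : G)⁻¹ = u * (b : G)
      rw [← congrArg Subtype.val hcb, ← mul_assoc, hcu]
      simp only [Subgroup.coe_mul, Subgroup.coe_inv, hzL]
      group
    · set r := (a : G) * (b : G) with hr
      have hro : orderOf r = orderOf (a * b) := by rw [hr, ← Subgroup.orderOf_coe (a * b), Subgroup.coe_mul]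
      have hcomm : Commute r u :=
        mem_centralizer_singleton_iff.mp (hL (L0.mul_mem a.2 b.2))
      have hru : (a : G) * (u * (b : G)) = r * u := by
        rw [hr, mul_assoc, (mem_centralizer_singleton_iff.mp (hL b.2)).symm]
      have hord : orderOf (r * u) = orderOf r * 2 := by
        rw [hcomm.orderOf_mul_eq_mul_orderOf_of_coprime (by
          rw [hou, Nat.coprime_two_right, hro]; exact hodd), hou]
      rw [halfPow, hru, hord, Nat.mul_div_cancel _ (by norm_num), hcomm.mul_pow,
        pow_orderOf_eq_one, one_mul]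
      obtain ⟨j, hj⟩ := hodd
      rw [hro, hj, pow_succ, pow_mul, pow_two, hu2, one_pow, one_mul]
  refine Nat.card_congr
    { toFun := fun p => ⟨(⟨⟨p.1.1, (hfacts _ _ p.2.1 p.2.2.1 p.2.2.2).choose⟩, ?_⟩,
        ⟨⟨u * p.1.2, (hfacts _ _ p.2.1 p.2.2.1 p.2.2.2).choose_spec.choose⟩, ?_⟩), ?_⟩
      invFun := fun q => ⟨((q.1.1.1 : G), u * (q.1.2.1 : G)), hback _ _ q.2⟩
      left_inv := fun p => Subtype.ext (Prod.ext rfl (by
        show u * (u * p.1.2) = p.1.2
        rw [← mul_assoc, hu2, one_mul]))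
      right_inv := fun q => Subtype.ext (Prod.ext rfl (Subtype.ext (Subtype.ext (by
        show u * (u * (q.1.2.1 : G)) = (q.1.2.1 : G)
        rw [← mul_assoc, hu2, one_mul])))) }
  · have hox : orderOf p.1.1 = 2 := (orderOf_of_isConj p.2.1).trans h.order_z
    exact toI _ (hfacts _ _ p.2.1 p.2.2.1 p.2.2.2).choose (sq_of_order hox)
      (fun e => by rw [e, orderOf_one] at hox; omega) _
  · obtain ⟨hx0, hs0, hs2, hs1, -⟩ := hfacts _ _ p.2.1 p.2.2.1 p.2.2.2
    exact toI _ hs0 hs2 hs1 _
  · obtain ⟨hx0, hs0, hs2, hs1, hodd⟩ := hfacts _ _ p.2.1 p.2.2.1 p.2.2.2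
    rw [← Subgroup.orderOf_coe]
    exact hodd

/-- The order of the group. -/
theorem Closed.card_group (h : Closed V A S z) {u : G} (hu : u ∈ V) (huA : u ∉ A)
    (hnot : ¬ centralizer ({u} : Set G) ≤ normalizer (S : Set G)) : Nat.card G = 37440 := by
  rw [← card_class z, h.card_class_z hu huA, h.card_fiber hu huA hnot,
    (h.loc.cent z h.loc.mem_z h.loc.z_ne).1]

end Cfsg.Agent.AutL34Closed54
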