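import Mathlib
import Cfsg.Agent.Lib.AutL34Closed54Count

/-!
# If the class of `z` meets `V ∪ A` only in `V ⊓ A`, then `V ⊓ A` is normal (S3237)
-/

set_option autoImplicit false

namespace Cfsg.Agent.AutL34Closed54

open Subgroup
open Cfsg.Agent.AutL34Plane54 (Loc)
open Cfsg.Agent.SignalizerStrongEmb (orderOf_conj)

variable {G : Type*} [Group G] [Finite G] {V A S : Subgroup G} {z : G}

/-- Every `2`-subgroup is conjugate into `S`. -/
theorem Closed.two_group_conj (h : Closed V A S z) {Q : Subgroup G} (hQ : IsPGroup 2 Q) :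
    ∃ g : G, ∀ x ∈ Q, g * x * g⁻¹ ∈ S := by
  haveI : Fact (Nat.Prime 2) := ⟨Nat.prime_two⟩
  obtain ⟨T, hT⟩ := h.loc.sylow
  obtain ⟨Q', hQ'⟩ := hQ.exists_le_sylow
  obtain ⟨g, hg⟩ := MulAction.exists_smul_eq G Q' T
  refine ⟨g, fun x hx => ?_⟩
  rw [← hT, ← hg, Sylow.coe_subgroup_smul, Subgroup.mem_smul_pointwise_iff_exists]
  exact ⟨x, hQ' hx, rfl⟩

theorem Closed.invol_conj (h : Closed V A S z) {i : G} (hi : orderOf i = 2) :
    ∃ g : G, g * i * g⁻¹ ∈ S := by
  obtain ⟨g, hg⟩ := h.two_group_conj (Q := zpowers i)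
    (IsPGroup.of_card (n := 1) (by rw [Nat.card_zpowers, hi, pow_one]))
  exact ⟨g, hg i (mem_zpowers i)⟩

/-- The order of the normalizer of `S`. -/
theorem Closed.card_normalizer (h : Closed V A S z) :
    ∃ k, k ≤ 3 ∧ Nat.card ↥(normalizer (S : Set G)) = 192 * k := by
  classical
  set M := normalizer (S : Set G) with hM
  have hcz := (h.loc.cent z h.loc.mem_z h.loc.z_ne)
  let zM : M := ⟨z, le_normalizer (h.inter_le h.loc.mem_z)⟩
  have hC : centralizer ({zM} : Set M) = (centralizer ({z} : Set G)).subgroupOf M := by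
    ext c
    rw [mem_centralizer_singleton_iff, mem_subgroupOf, mem_centralizer_singleton_iff]
    exact ⟨fun e => congrArg Subtype.val e, fun e => Subtype.ext e⟩
  have h1 := card_class zM
  rw [hC, Nat.card_congr (Subgroup.subgroupOfEquivOfLe hcz.2).toEquiv, hcz.1] at h1
  refine ⟨_, ?_, by rw [mul_comm] at h1; exact h1.symm⟩
  have hmem : ∀ x : {x : M // IsConj zM x},
      (x.1 : G) ∈ ((V ⊓ A : Subgroup G) : Set G) \ {1} := by
    rintro ⟨x, hx⟩
    obtain ⟨c, rfl⟩ := isConj_iff.mp hx
    exact ⟨(mem_normalizer_iff.mp (h.normalizer_le c.2) z).mp h.loc.mem_z,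
      by simp [zM, h.loc.z_ne]⟩
  refine le_trans (Nat.card_le_card_of_injective
    (fun x => (⟨_, hmem x⟩ : ↥(((V ⊓ A : Subgroup G) : Set G) \ {1})))
    fun a b e => Subtype.ext (Subtype.ext (congrArg Subtype.val e :))) ?_
  rw [Nat.card_coe_set_eq, Set.ncard_sdiff (by simp), ← Nat.card_coe_set_eq,
    SetLike.coe_sort_coe, h.loc.card_inter, Set.ncard_singleton]

theorem Closed.card_cent_outside (h : Closed V A S z) {v : G} (hv : v ∈ V) (hvA : v ∉ A) :
    Nat.card ↥(centralizer ({v} : Set G)) = 240 ∨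
      Nat.card ↥(centralizer ({v} : Set G)) ∣ Nat.card ↥(normalizer (S : Set G)) := by
  by_cases hle : centralizer ({v} : Set G) ≤ normalizer (S : Set G)
  · exact Or.inr (Subgroup.card_dvd_of_le hle)
  · exact Or.inl (h.cent_cases hv hvA hle).card

theorem Closed.not_commute_thirteen (h : Closed V A S z) {i p : G} (hi : orderOf i = 2)
    (hp : orderOf p = 13) : i * p ≠ p * i := by
  intro hip
  obtain ⟨g, hg⟩ := h.invol_conj hi
  set v := g * i * g⁻¹ with hv
  have hv2 : v * v = 1 := sq_of_order ((orderOf_conj g i).trans hi)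
  have hv1 : v ≠ 1 := by
    intro e
    have := orderOf_conj g i
    rw [← hv, e, hi, orderOf_one] at this
    omega
  have hmem : g * p * g⁻¹ ∈ centralizer ({v} : Set G) := by
    rw [mem_centralizer_singleton_iff, hv]
    have := congrArg (fun t => g * t * g⁻¹) hip.symm
    simpa [mul_assoc] using this
  have hdvd : 13 ∣ Nat.card ↥(centralizer ({v} : Set G)) := by
    rw [← hp, ← orderOf_conj g p, ← Subgroup.orderOf_mk _ hmem]
    exact orderOf_dvd_natCard _
  obtain ⟨k, hk, hM⟩ := h.card_normalizer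
  have hMpos : 0 < Nat.card ↥(normalizer (S : Set G)) := Nat.card_pos
  have hM13 : ¬ 13 ∣ Nat.card ↥(normalizer (S : Set G)) := by
    rw [hM] at hMpos ⊢; omega
  have hout : ∀ {V' A' : Subgroup G}, Closed V' A' S z → v ∈ V' → v ∉ A' → False := by
    intro V' A' h' h1 h2
    rcases h'.card_cent_outside h1 h2 with e | e
    · omega
    · exact hM13 (hdvd.trans e)
  rcases h.loc.involutions v hg hv2 with hV | hA
  · by_cases hA : v ∈ A
    · rw [(h.loc.cent v (mem_inf.mpr ⟨hV, hA⟩) hv1).1] at hdvd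
      omega
    · exact hout h hV hA
  · by_cases hV : v ∈ V
    · rw [(h.loc.cent v (mem_inf.mpr ⟨hV, hA⟩) hv1).1] at hdvd
      omega
    · exact hout h.swap hA hV

/-- No subgroup of order `16` centralises an element of order five. -/
theorem Closed.not_sixteen_five (h : Closed V A S z) {Q : Subgroup G} {r : G}
    (hQ : Nat.card Q = 16) (hr : orderOf r = 5) : ¬ Q ≤ centralizer ({r} : Set G) := by
  intro hle
  haveI : Fact (Nat.Prime 2) := ⟨Nat.prime_two⟩
  have hQp : IsPGroup 2 Q := IsPGroup.of_card (n := 4) (by rw [hQ]; rfl)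
  haveI : Nontrivial Q := Finite.one_lt_card_iff_nontrivial.mp (by omega)
  haveI := hQp.center_nontrivial
  obtain ⟨g, hg⟩ := h.two_group_conj hQp
  obtain ⟨c, hc⟩ := exists_prime_orderOf_dvd_card' (G := center Q) 2 (by
    obtain ⟨n, hn⟩ := (hQp.to_subgroup (center Q)).exists_card_eq
    rw [hn]
    refine dvd_pow_self 2 ?_
    rintro rfl
    exact (Finite.one_lt_card (α := center Q)).ne' (by simpa using hn))
  set q : G := g * ((c : Q) : G) * g⁻¹ with hq
  set r' : G := g * r * g⁻¹ with hr'
  have hcord : orderOf q = 2 := by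
    rw [hq, orderOf_conj, Subgroup.orderOf_coe, Subgroup.orderOf_coe, hc]
  have hcom : ∀ x ∈ Q, g * x * g⁻¹ * r' = r' * (g * x * g⁻¹) := by
    intro x hx
    have := congrArg (fun t => g * t * g⁻¹) (mem_centralizer_singleton_iff.mp (hle hx))
    simpa [hr', mul_assoc] using this
  have hqS : q ∈ S := hg _ (c : Q).2
  have hT : ∀ x ∈ V ⊓ A, x ≠ 1 → x * r' = r' * x → False := by
    intro x hx hx1 hxr
    have hd : 5 ∣ Nat.card ↥(centralizer ({x} : Set G)) := by
      rw [← hr, ← orderOf_conj g r, ← hr',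
        ← Subgroup.orderOf_mk r' (mem_centralizer_singleton_iff.mpr hxr.symm)]
      exact orderOf_dvd_natCard _
    rw [(h.loc.cent x hx hx1).1] at hd
    omega
  have hout : ∀ {V' A' : Subgroup G}, Closed V' A' S z → q ∈ V' → q ∉ A' → False := by
    intro V' A' h' h1 h2
    let f : Q → V' := fun x => ⟨g * x * g⁻¹, by
      rw [← h'.cent_z_inter h1 h2]
      refine mem_inf.mpr ⟨h'.S_le_cent h'.loc.mem_z (hg _ x.2),
        mem_centralizer_singleton_iff.mpr ?_⟩
      have e : (x : G) * ((c : Q) : G) = ((c : Q) : G) * x :=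
        congrArg Subtype.val (mem_center_iff.mp c.2 x)
      have := congrArg (fun t => g * t * g⁻¹) e
      simpa [hq, mul_assoc] using this⟩
    have hf : Function.Bijective f := by
      have hinj : Function.Injective f := fun a b e => by
        exact Subtype.ext (mul_left_cancel (mul_right_cancel (congrArg Subtype.val e :)))
      exact (Nat.bijective_iff_injective_and_card f).mpr ⟨hinj, by rw [hQ, h'.loc.card_V]⟩
    obtain ⟨x, hx⟩ := hf.2 ⟨z, (mem_inf.mp h'.loc.mem_z).1⟩
    have e : g * (x : G) * g⁻¹ = z := congrArg Subtype.val hx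
    exact hT z h.loc.mem_z h.loc.z_ne (e ▸ hcom _ x.2)
  rcases h.loc.involutions q hqS (sq_of_order hcord) with hV | hA
  · by_cases hA : q ∈ A
    · exact hT q (mem_inf.mpr ⟨hV, hA⟩) (fun e => by rw [e, orderOf_one] at hcord; omega)
        (hcom _ (c : Q).2)
    · exact hout h hV hA
  · by_cases hV : q ∈ V
    · exact hT q (mem_inf.mpr ⟨hV, hA⟩) (fun e => by rw [e, orderOf_one] at hcord; omega)
        (hcom _ (c : Q).2)
    · exact hout h.swap hA hV

theorem index_cases {n : ℕ} (hd : n ∣ 2880) (hm : n % 13 = 1) : n = 1 ∨ n = 40 ∨ n = 144 := by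
  have hmem : n ∈ Nat.divisors 2880 := Nat.mem_divisors.mpr ⟨hd, by norm_num⟩
  have key : ∀ n ∈ Nat.divisors 2880, n % 13 = 1 → n = 1 ∨ n = 40 ∨ n = 144 := by decide +kernel
  exact key n hmem hm

theorem odd_dvd_cases {c : ℕ} (hd : c ∣ 585) :
    c ∈ ({1, 3, 5, 9, 13, 15, 39, 45, 65, 117, 195, 585} : Finset ℕ) := by
  have hmem : c ∈ Nat.divisors 585 := Nat.mem_divisors.mpr ⟨hd, by norm_num⟩
  have key : ∀ c ∈ Nat.divisors 585,
      c ∈ ({1, 3, 5, 9, 13, 15, 39, 45, 65, 117, 195, 585} : Finset ℕ) := by decide +kernel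
  exact key c hmem

/-- There is no such group of order `37440`. -/
theorem Closed.false_of_card (h : Closed V A S z) (hG : Nat.card G = 37440) : False := by
  classical
  haveI h13 : Fact (Nat.Prime 13) := ⟨by norm_num⟩
  haveI h5 : Fact (Nat.Prime 5) := ⟨by norm_num⟩
  haveI h2 : Fact (Nat.Prime 2) := ⟨Nat.prime_two⟩
  obtain ⟨P⟩ : Nonempty (Sylow 13 G) := inferInstance
  have hP : Nat.card (P : Subgroup G) = 13 := by
    rw [Sylow.card_eq_multiplicity, hG]
    rw [show (37440 : ℕ) = 13 * 2880 from rfl,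
      Nat.factorization_mul (by norm_num) (by norm_num)]
    simp [Nat.Prime.factorization_self h13.out,
      Nat.factorization_eq_zero_of_not_dvd (show ¬ 13 ∣ 2880 by norm_num)]
  obtain ⟨pp, hpp⟩ := exists_prime_orderOf_dvd_card' (G := (P : Subgroup G)) 13 (by rw [hP])
  set p : G := (pp : G) with hpdef
  have hp : orderOf p = 13 := by rw [hpdef, Subgroup.orderOf_coe, hpp]
  have hPp : (P : Subgroup G) = zpowers p :=
    (Subgroup.eq_of_le_of_card_ge (by rw [zpowers_le]; exact pp.2)
      (by rw [hP, Nat.card_zpowers, hp])).symm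
  set N := normalizer ((P : Subgroup G) : Set G) with hN
  set C := centralizer ((P : Subgroup G) : Set G) with hC
  -- the centralizer has odd order
  have hCodd : ¬ 2 ∣ Nat.card C := by
    intro hd
    obtain ⟨i, hi⟩ := exists_prime_orderOf_dvd_card' (G := C) 2 hd
    exact h.not_commute_thirteen (i := (i : G)) (by rw [Subgroup.orderOf_coe, hi]) hp
      (mem_centralizer_iff.mp i.2 p pp.2).symm
  have hCG : Nat.card C ∣ 37440 := hG ▸ Subgroup.card_subgroup_dvd_card C
  have hC585 : Nat.card C ∣ 585 := by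
    have hco : Nat.Coprime (Nat.card C) (2 ^ 6) :=
      ((Nat.prime_two.coprime_iff_not_dvd.mpr hCodd).symm).pow_right 6
    exact hco.dvd_of_dvd_mul_left (by norm_num; exact hCG)
  have hPC : (P : Subgroup G) ≤ C := by
    intro x hx
    rw [hC, mem_centralizer_iff]
    intro y hy
    rw [SetLike.mem_coe, hPp] at hy
    rw [hPp] at hx
    obtain ⟨a, rfl⟩ := mem_zpowers_iff.mp hx
    obtain ⟨b, rfl⟩ := mem_zpowers_iff.mp hy
    exact ((Commute.refl p).zpow_zpow b a).eq
  have hC13 : 13 ∣ Nat.card C := hP ▸ Subgroup.card_dvd_of_le hPC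
  -- the normalizer
  have hNC : ∃ q, q ∣ 12 ∧ Nat.card N = Nat.card C * q := by
    refine ⟨(normalizerMonoidHom (P : Subgroup G)).ker.index, ?_, ?_⟩
    · rw [Subgroup.index_ker]
      have hcyc : IsCyclic ↥(P : Subgroup G) := isCyclic_of_prime_card hP
      have hd := Subgroup.card_subgroup_dvd_card (normalizerMonoidHom (P : Subgroup G)).range
      have hA : Nat.card (MulAut ↥(P : Subgroup G)) = 12 := by
        rw [IsCyclic.card_mulAut, hP]; rfl
      rwa [hA] at hd
    · rw [← Subgroup.card_mul_index (normalizerMonoidHom (P : Subgroup G)).ker,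
        Subgroup.normalizerMonoidHom_ker,
        Nat.card_congr (Subgroup.subgroupOfEquivOfLe (centralizer_le_normalizer _)).toEquiv]
  have hn : Nat.card (Sylow 13 G) * Nat.card N = 37440 := by
    have e : Nat.card (Sylow 13 G) = N.index := Sylow.card_eq_index_normalizer P
    rw [e, mul_comm, Subgroup.card_mul_index, hG]
  obtain ⟨q, hq12, hNq⟩ := hNC
  have hn13 : Nat.card (Sylow 13 G) % 13 = 1 := card_sylow_modEq_one 13 G
  have hn2880 : Nat.card (Sylow 13 G) ∣ 2880 := by
    obtain ⟨j, hj⟩ := hC13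
    refine ⟨j * q, ?_⟩
    rw [hNq, hj] at hn
    have h3 : Nat.card (Sylow 13 G) * (j * q) * 13 = 2880 * 13 := by rw [← show (37440 : ℕ) = 2880 * 13 from rfl, ← hn]; ring
    exact (Nat.eq_of_mul_eq_mul_right (by norm_num) h3).symm
  have hN260 : Nat.card (Sylow 13 G) = 144 ∧ Nat.card N = 260 ∧ Nat.card C = 65 := by
    have hq' : q ∈ Nat.divisors 12 := Nat.mem_divisors.mpr ⟨hq12, by norm_num⟩
    rw [show Nat.divisors 12 = {1, 2, 3, 4, 6, 12} by decide] at hq'
    have hc := odd_dvd_cases hC585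
    simp only [Finset.mem_insert, Finset.mem_singleton] at hq' hc
    rw [hNq] at hn ⊢
    rcases index_cases hn2880 hn13 with e | e | e <;> rw [e] at hn <;>
      rcases hq' with rfl | rfl | rfl | rfl | rfl | rfl <;> omega
  obtain ⟨-, hNcard, hCcard⟩ := hN260
  -- an element of order five
  obtain ⟨rr, hrr⟩ := exists_prime_orderOf_dvd_card' (G := C) 5 (by rw [hCcard]; norm_num)
  set r : G := (rr : G) with hrdef
  have hr : orderOf r = 5 := by rw [hrdef, Subgroup.orderOf_coe, hrr]
  have hrp : Commute p r := mem_centralizer_iff.mp rr.2 p pp.2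
  have hgen : C = zpowers (p * r) := by
    refine (Subgroup.eq_of_le_of_card_ge ?_ ?_).symm
    · rw [zpowers_le]; exact C.mul_mem (hPC pp.2) rr.2
    · rw [hCcard, Nat.card_zpowers, hrp.orderOf_mul_eq_mul_orderOf_of_coprime
        (by rw [hp, hr]; norm_num), hp, hr]
  set R := zpowers r with hR
  have hRcard : Nat.card R = 5 := by rw [hR, Nat.card_zpowers, hr]
  -- elements of order dividing five of `C` lie in `R`
  have hfive : ∀ x ∈ C, x ^ 5 = 1 → x ∈ R := by
    intro x hx hx5
    rw [hgen] at hx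
    obtain ⟨j, rfl⟩ := mem_zpowers_iff.mp hx
    rw [hrp.mul_zpow] at hx5 ⊢
    have h1 : (p ^ j) ^ 5 = 1 := by
      have e : (r ^ j) ^ 5 = 1 := by
        rw [← zpow_natCast, ← zpow_mul, mul_comm, zpow_mul, zpow_natCast, ← hr,
          pow_orderOf_eq_one, one_zpow]
      rw [(hrp.zpow_zpow j j).mul_pow, e, mul_one] at hx5
      exact hx5
    have h2 : (p ^ j) ^ 13 = 1 := by
      rw [← zpow_natCast, ← zpow_mul, mul_comm, zpow_mul, zpow_natCast, ← hp,
        pow_orderOf_eq_one, one_zpow]
    have h3 : p ^ j = 1 := by simpa using pow_gcd_eq_one.mpr (And.intro h1 h2)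
    rw [h3, one_mul]
    exact zpow_mem (mem_zpowers r) j
  have hNR : N ≤ normalizer (R : Set G) := by
    intro g hg
    have hone : ∀ g ∈ N, ∀ x ∈ R, g * x * g⁻¹ ∈ R := by
      intro g hg x hx
      have hx5 : x ^ 5 = 1 := by
        obtain ⟨j, rfl⟩ := mem_zpowers_iff.mp hx
        rw [← zpow_natCast, ← zpow_mul, mul_comm, zpow_mul, zpow_natCast, ← hr,
          pow_orderOf_eq_one, one_zpow]
      refine hfive _ ?_ (by rw [conj_pow, hx5, mul_one, mul_inv_cancel])
      have hxC : x ∈ C := (zpowers_le.mpr rr.2 : R ≤ C) hx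
      rw [hC, mem_centralizer_iff] at hxC ⊢
      intro y hy
      have hy' : g⁻¹ * y * g ∈ (P : Subgroup G) := (mem_normalizer_iff''.mp hg y).mp hy
      have := congrArg (fun t => g * t * g⁻¹) (hxC _ hy')
      simpa [mul_assoc] using this
    rw [mem_normalizer_iff]
    refine fun x => ⟨hone g hg x, fun hx => ?_⟩
    have := hone g⁻¹ (N.inv_mem hg) _ hx
    simpa [mul_assoc] using this
  -- the centralizer of `R`
  set D := centralizer (R : Set G) with hD
  have hCD : C ≤ D := by
    intro x hx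
    rw [hD, mem_centralizer_iff]
    intro y hy
    have hyC : y ∈ C := (zpowers_le.mpr rr.2 : R ≤ C) hy
    rw [hgen] at hx hyC
    obtain ⟨a, rfl⟩ := mem_zpowers_iff.mp hx
    obtain ⟨b, rfl⟩ := mem_zpowers_iff.mp hyC
    exact ((Commute.refl (p * r)).zpow_zpow b a).eq
  have hPD : (P : Subgroup G) ≤ D := hPC.trans hCD
  set PD : Sylow 13 D := P.subtype hPD with hPD'
  have hNPD : normalizer ((PD : Subgroup D) : Set D) ≤ N.subgroupOf D := by
    intro d hd
    rw [mem_subgroupOf, hN, mem_normalizer_iff]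
    rw [mem_normalizer_iff] at hd
    intro x
    constructor
    · intro hx
      exact (hd ⟨x, hPD hx⟩).mp hx
    · intro hx
      have hxD : x ∈ D := by
        have := D.mul_mem (D.mul_mem (D.inv_mem d.2) (hPD hx)) d.2
        simpa [mul_assoc] using this
      exact (hd ⟨x, hxD⟩).mpr hx
  have hCnorm : C.subgroupOf D ≤ normalizer ((PD : Subgroup D) : Set D) := by
    intro d hd
    rw [mem_subgroupOf] at hd
    rw [mem_normalizer_iff]
    intro x
    have := mem_normalizer_iff.mp (centralizer_le_normalizer _ hd) (x : G)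
    exact this
  have hDn : Nat.card (Sylow 13 D) = 1 := by
    have h1 : Nat.card (Sylow 13 D) * Nat.card ↥(normalizer ((PD : Subgroup D) : Set D)) =
        Nat.card D := by
      have e : Nat.card (Sylow 13 D) = (normalizer ((PD : Subgroup D) : Set D)).index :=
        Sylow.card_eq_index_normalizer PD
      rw [e, mul_comm, Subgroup.card_mul_index]
    have h65 : 65 ∣ Nat.card ↥(normalizer ((PD : Subgroup D) : Set D)) := by
      have := Subgroup.card_dvd_of_le hCnorm
      rwa [Nat.card_congr (Subgroup.subgroupOfEquivOfLe hCD).toEquiv, hCcard] at this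
    obtain ⟨e, he⟩ := h65
    have hDG : Nat.card D ∣ 37440 := hG ▸ Subgroup.card_subgroup_dvd_card D
    rw [← h1, he] at hDG
    have h576 : Nat.card (Sylow 13 D) ∣ 576 := by
      have h2 : Nat.card (Sylow 13 D) * e * 65 ∣ 576 * 65 := by
        refine dvd_trans (dvd_of_eq ?_) hDG; ring
      exact (dvd_mul_right _ e).trans (Nat.dvd_of_mul_dvd_mul_right (by norm_num) h2)
    have hmod : Nat.card (Sylow 13 D) % 13 = 1 := card_sylow_modEq_one 13 D
    have hcases : Nat.card (Sylow 13 D) = 1 ∨ Nat.card (Sylow 13 D) = 144 := by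
      have key : ∀ n ∈ Nat.divisors 576, n % 13 = 1 → n = 1 ∨ n = 144 := by decide +kernel
      exact key _ (Nat.mem_divisors.mpr ⟨h576, by norm_num⟩) hmod
    refine hcases.resolve_right fun e144 => ?_
    have h16 : 2 ^ 4 ∣ Nat.card D := by
      rw [← h1, e144]; exact Dvd.dvd.mul_right (by norm_num) _
    obtain ⟨Q, hQ⟩ := Sylow.exists_subgroup_card_pow_prime 2 h16
    refine h.not_sixteen_five (Q := Q.map D.subtype)
      (by rw [Subgroup.card_map_of_injective D.subtype_injective, hQ]; norm_num) hr ?_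
    rintro _ ⟨d, -, rfl⟩
    exact mem_centralizer_singleton_iff.mpr (mem_centralizer_iff.mp d.2 r (mem_zpowers r)).symm
  have hDN : D ≤ N := by
    intro d hd
    have htop : normalizer ((PD : Subgroup D) : Set D) = ⊤ := by
      have e : Nat.card (Sylow 13 D) = (normalizer ((PD : Subgroup D) : Set D)).index :=
        Sylow.card_eq_index_normalizer PD
      rw [← Subgroup.index_eq_one, ← e, hDn]
    exact mem_subgroupOf.mp (hNPD (show (⟨d, hd⟩ : D) ∈ _ from htop ▸ mem_top _))
  -- the normalizer of `R` normalises `P`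
  have hRN : normalizer (R : Set G) ≤ N := by
    intro g hg
    have hone : ∀ g ∈ normalizer (R : Set G), ∀ x ∈ (P : Subgroup G),
        g * x * g⁻¹ ∈ (P : Subgroup G) := by
      intro g hg x hx
      have hxD := mem_centralizer_iff.mp (hPD hx)
      have hgD : g * x * g⁻¹ ∈ D := by
        rw [hD, mem_centralizer_iff]
        intro y hy
        have hy' : g⁻¹ * y * g ∈ R := (mem_normalizer_iff''.mp hg y).mp hy
        have := congrArg (fun t => g * t * g⁻¹) (hxD _ hy')
        simpa [mul_assoc] using this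
      have hx13 : (g * x * g⁻¹) ^ 13 = 1 := by
        rw [conj_pow]
        have : x ^ 13 = 1 := by
          rw [hPp] at hx
          obtain ⟨j, rfl⟩ := mem_zpowers_iff.mp hx
          rw [← zpow_natCast, ← zpow_mul, mul_comm, zpow_mul, zpow_natCast, ← hp,
            pow_orderOf_eq_one, one_zpow]
        rw [this, mul_one, mul_inv_cancel]
      set y : D := ⟨_, hgD⟩
      have hyp : IsPGroup 13 ↥(zpowers y) := by
        intro w
        refine ⟨1, ?_⟩
        obtain ⟨j, hj⟩ := mem_zpowers_iff.mp w.2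
        apply Subtype.ext
        rw [SubgroupClass.coe_pow, ← hj, pow_one, ← zpow_natCast, ← zpow_mul, mul_comm, zpow_mul,
          zpow_natCast, show y ^ 13 = 1 from Subtype.ext (by rw [SubgroupClass.coe_pow]; exact hx13),
          one_zpow]
        rfl
      obtain ⟨Q, hQ⟩ := hyp.exists_le_sylow
      haveI : Subsingleton (Sylow 13 D) := (Nat.card_eq_one_iff_unique.mp hDn).1
      have hm : y ∈ (PD : Subgroup D) := Subsingleton.elim Q PD ▸ hQ (mem_zpowers y)
      exact hm
    rw [hN, mem_normalizer_iff]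
    refine fun x => ⟨hone g hg x, fun hx => ?_⟩
    have := hone g⁻¹ (inv_mem hg) _ hx
    simpa [mul_assoc] using this
  have hRcard5 : Nat.card R = 5 ^ (Nat.card G).factorization 5 := by
    rw [hRcard, hG, show (37440 : ℕ) = 5 * 7488 from rfl,
      Nat.factorization_mul (by norm_num) (by norm_num)]
    simp [Nat.Prime.factorization_self h5.out,
      Nat.factorization_eq_zero_of_not_dvd (show ¬ 5 ∣ 7488 by norm_num)]
  have h5count : Nat.card (Sylow 5 G) = (normalizer (R : Set G)).index :=
    Sylow.card_eq_index_normalizer (Sylow.ofCard R hRcard5)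
  rw [le_antisymm hRN hNR] at h5count
  have hidx : N.index = 144 := by
    have := Subgroup.card_mul_index N
    rw [hNcard, hG] at this
    omega
  have hmod5 : Nat.card (Sylow 5 G) % 5 = 1 := card_sylow_modEq_one 5 G
  rw [h5count, hidx] at hmod5
  norm_num at hmod5

/-- If every involution of `V ∪ A` outside `V ⊓ A` has its centralizer inside the normalizer of
`S`, this normalizer is everything. -/
theorem Closed.normalizer_top (h : Closed V A S z)
    (hV : ∀ u ∈ V, u ∉ A → centralizer ({u} : Set G) ≤ normalizer (S : Set G))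
    (hA : ∀ u ∈ A, u ∉ V → centralizer ({u} : Set G) ≤ normalizer (S : Set G)) :
    normalizer (S : Set G) = ⊤ := by
  by_contra hne
  set M := normalizer (S : Set G) with hM
  have hzM : z ∈ M := le_normalizer (h.inter_le h.loc.mem_z)
  have heven : Even (Nat.card M) :=
    SignalizerStrongEmb.even_card_of_involution_mem h.order_z hzM
  have hsq : ∀ {t : G}, orderOf t = 2 → t ∈ M → (t ∈ V ⊓ A ∧ t ≠ 1) ∨
      (centralizer ({t} : Set G) ≤ M ∧ t * z = z * t) := by
    intro t ht htM
    have ht2 := sq_of_order ht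
    have htS := h.two_elem_le htM ht2
    have ht1 : t ≠ 1 := fun e => by rw [e, orderOf_one] at ht; omega
    have hc : t * z = z * t := h.central h.loc.mem_z htS
    rcases h.loc.involutions t htS ht2 with hv | ha
    · by_cases ha : t ∈ A
      · exact Or.inl ⟨mem_inf.mpr ⟨hv, ha⟩, ht1⟩
      · exact Or.inr ⟨hV t hv ha, hc⟩
    · by_cases hv : t ∈ V
      · exact Or.inl ⟨mem_inf.mpr ⟨hv, ha⟩, ht1⟩
      · exact Or.inr ⟨hA t ha hv, hc⟩
  have hse : Cfsg.IsStronglyEmbedded M := by
    refine SignalizerStrongEmb.isStronglyEmbedded_iff.mpr ⟨hne, heven, fun t htM ht g hg => ?_⟩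
    rcases hsq ht htM with ⟨htT, ht1⟩ | ⟨-, htz⟩
    · exact h.mem_of_conj_normalizer htT ht1 hg
    · rcases hsq ((orderOf_conj g t).trans ht) hg with ⟨htT, ht1⟩ | ⟨hle, -⟩
      · have h1 := h.mem_of_conj_normalizer (g := g⁻¹) htT ht1 (by
          rw [inv_inv, show g⁻¹ * (g * t * g⁻¹) * g = t by group]; exact htM)
        exact inv_inv g ▸ M.inv_mem h1
      · refine h.mem_of_conj_normalizer h.loc.mem_z h.loc.z_ne (hle ?_)
        rw [mem_centralizer_singleton_iff]
        have := congrArg (fun s => g * s * g⁻¹) htz.symm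
        simpa [mul_assoc] using this
  obtain ⟨u, hu, huA⟩ := h.exists_outside
  exact h.notV u hu huA
    (SignalizerStrongEmb.isConj_involutions hse h.order_z (h.order_outside hu huA))

end Cfsg.Agent.AutL34Closed54

namespace Cfsg.Agent.AutL34Plane54

open Subgroup

/-- If `V ⊓ A` is strongly closed in the class of `z`, it is normal. -/
theorem normal_of_closed {G : Type*} [Group G] [Finite G] {V A S : Subgroup G} {z : G}
    (h : Loc V A S z) (hV : ∀ x ∈ V, x ∉ A → ¬ IsConj z x)
    (hA : ∀ x ∈ A, x ∉ V → ¬ IsConj z x) :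
    Subgroup.normalizer ((V ⊓ A : Subgroup G) : Set G) = ⊤ := by
  have hC : AutL34Closed54.Closed V A S z := ⟨h, hV, hA⟩
  rw [hC.normalizer_eq]
  refine hC.normalizer_top (fun u hu huA => ?_) (fun u hu huV => ?_)
  · by_contra hnot
    exact hC.false_of_card (hC.card_group hu huA hnot)
  · by_contra hnot
    exact hC.false_of_card (hC.swap.card_group hu huV hnot)

end Cfsg.Agent.AutL34Plane54
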