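import Cfsg.Agent.Lib.CIT21Defs

/-!
# The geometry of `PGL₃(4)` from a centralizer `2^{2+4}:3` of an involution (towards S3237)

`Flags V A S` is the local configuration of `PGL₃(4)`: a Sylow `2`-subgroup `S` of order `64`, the
point group `A` and the line group `V`, both with normalizer of shape `2⁴:(3 × A₅)`.
-/

set_option autoImplicit false

namespace Cfsg.Agent.AutL34Plane54

open Subgroup

variable {G : Type*} [Group G]

/-- No involution commutes with `h`. -/
def Regular (h : G) : Prop := ∀ x : G, orderOf x = 2 → ¬ Commute x h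

/-- Conjugate of a subgroup. -/
def cj (g : G) (H : Subgroup G) : Subgroup G := H.map (MulAut.conj g).toMonoidHom

/-- The normalizer of `U` and its five Sylow `2`-subgroups, `S` one of them. -/
structure Side (U S : Subgroup G) : Prop where
  sq_U : ∀ u ∈ U, u * u = 1
  card_U : Nat.card U = 16
  cent_U : centralizer (U : Set G) = U
  card_N : Nat.card ↥(normalizer (U : Set G)) = 16 * 180
  exists_syl : ∀ P : Subgroup G, P ≤ normalizer (U : Set G) → IsPGroup 2 P →
    ∃ R, CIT21.IsSyl (normalizer (U : Set G)) U 4 R ∧ P ≤ R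
  syl_ge : ∀ R, CIT21.IsSyl (normalizer (U : Set G)) U 4 R → U ≤ R
  syl_count : Nat.card {R : Subgroup G // CIT21.IsSyl (normalizer (U : Set G)) U 4 R} = 5
  syl_conj : ∀ R R', CIT21.IsSyl (normalizer (U : Set G)) U 4 R →
    CIT21.IsSyl (normalizer (U : Set G)) U 4 R' → ∃ g ∈ normalizer (U : Set G), cj g R = R'
  syl_inter : ∀ R R', CIT21.IsSyl (normalizer (U : Set G)) U 4 R →
    CIT21.IsSyl (normalizer (U : Set G)) U 4 R' → R ≠ R' → R ⊓ R' = U
  fixed_cover : ∀ u ∈ U, ∃ R, CIT21.IsSyl (normalizer (U : Set G)) U 4 R ∧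
    u ∈ U ⊓ centralizer (R : Set G)
  exists_regular : ∀ R, CIT21.IsSyl (normalizer (U : Set G)) U 4 R → R ≠ S →
    ∃ h, orderOf h = 3 ∧ Regular h ∧ h ∈ normalizer (U : Set G) ∧ cj h S = S ∧ cj h R = R
  inverter : ∀ R h, CIT21.IsSyl (normalizer (U : Set G)) U 4 R → R ≠ S → orderOf h = 3 →
    Regular h → h ∈ normalizer (U : Set G) → cj h S = S → cj h R = R →
    ∃ s, s * s = 1 ∧ s ∈ normalizer (U : Set G) ∧ cj s S = R ∧ cj s R = S ∧ s * h * s⁻¹ = h⁻¹
  no_fix : ∀ h, orderOf h = 3 → Regular h → h ∈ normalizer (U : Set G) →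
    (∀ R, CIT21.IsSyl (normalizer (U : Set G)) U 4 R → cj h R = R) → False

/-- The configuration of `PGL₃(4)`. -/
structure Flags (V A S : Subgroup G) : Prop where
  sylow : ∃ T : Sylow 2 G, (T : Subgroup G) = S
  card_S : Nat.card S = 64
  V_le : V ≤ S
  A_le : A ≤ S
  card_inter : Nat.card ↥(V ⊓ A) = 4
  center_S : S ⊓ centralizer (S : Set G) = V ⊓ A
  involutions : ∀ x ∈ S, x * x = 1 → x ∈ V ∨ x ∈ A
  side_V : Side V S
  side_A : Side A S
  not_conj : ∀ g : G, cj g V ≠ A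
  cent : ∀ x ∈ V ⊓ A, x ≠ 1 →
    Nat.card ↥(centralizer ({x} : Set G)) = 192 ∧
      centralizer ({x} : Set G) ≤ normalizer (S : Set G)
  fused : ∀ x ∈ V ⊓ A, ∀ y ∈ V ⊓ A, x ≠ 1 → y ≠ 1 → ∃ g : G, g * x * g⁻¹ = y

/-- The target of the geometry: a normal `PSL₃(4)` of index three with trivial centralizer. -/
def PlaneGoal (G : Type*) [Group G] : Prop :=
  Nat.card G = 60480 ∧
    ∃ (L : Subgroup G) (F : Type) (_ : Field F) (_ : Fintype F), L.Normal ∧
      Fintype.card F = 4 ∧ centralizer (L : Set G) = ⊥ ∧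
      Nonempty (↥L ≃* Matrix.ProjectiveSpecialLinearGroup (Fin 3) F)

end Cfsg.Agent.AutL34Plane54
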