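import Cfsg.Agent.Lib.AutL34Aut54
import Cfsg.Agent.Lib.AutL34Plane54Defs

/-!
# The last steps of the identification of `Aut PGL(3,4)` (towards S3237)

`exists_mulAut_of_plane`: a normal subgroup of index four carrying `PlaneGoal` gives the group.
`solvable_of_closed`: the degenerate case, a normal four-group in that subgroup, is solvable.
-/

set_option autoImplicit false

namespace Cfsg.Agent.AutL34Model54

open Subgroup Cfsg.Agent.AutL34Plane54
open scoped commutatorElement

/-- A perfect subgroup of index three is the derived subgroup. -/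
theorem commutator_eq_of_perfect {K : Type*} [Group K] [Finite K] (L : Subgroup K) [L.Normal]
    (hp : commutator (L : Type _) = ⊤) (h3 : L.index = 3) : commutator K = L := by
  haveI : Fact (Nat.Prime 3) := ⟨Nat.prime_three⟩
  haveI : IsCyclic (K ⧸ L) := isCyclic_of_prime_card (p := 3) (by rw [← index_eq_card, h3])
  refine le_antisymm ?_ ?_
  · rw [commutator_eq_closure, closure_le]
    rintro _ ⟨a, b, rfl⟩
    rw [SetLike.mem_coe, ← QuotientGroup.eq_one_iff]
    show QuotientGroup.mk' L ⁅a, b⁆ = 1
    rw [map_commutatorElement, commutatorElement_eq_one_iff_commute]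
    exact IsCyclic.commGroup.mul_comm _ _
  · calc L = (commutator (L : Type _)).map L.subtype := by
          rw [hp, ← MonoidHom.range_eq_map, range_subtype]
      _ ≤ commutator K := by
          rw [_root_.commutator_def, _root_.commutator_def, map_commutator]
          exact commutator_mono le_top le_top

/-- The group is `Aut PGL(3,4)`. -/
theorem exists_mulAut_of_plane {G : Type*} [Group G] [Finite G] (G2 : Subgroup G) (hn : G2.Normal)
    (hi : G2.index = 4) (z : G) (hz : z ∈ G2) (hz2 : orderOf z = 2)
    (hmin : ∀ N : Subgroup G, N.Normal → N ≤ centralizer ({z} : Set G) → N ≠ ⊥ → z ∈ N)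
    (hp : PlaneGoal G2) {F : Type*} [Field F] [Fintype F] (hF : Fintype.card F = 4) :
    Nonempty (G ≃* MulAut (GL (Fin 3) F ⧸ Subgroup.center (GL (Fin 3) F))) := by
  obtain ⟨hcard, L, F0, iF, iFt, hLn, h0, hC, ⟨e⟩⟩ := hp
  haveI := hLn
  haveI := hn
  have hG : Nat.card G = 241920 := by rw [← G2.card_mul_index, hcard, hi]
  -- `L` is perfect
  have hperf : commutator (L : Type _) = ⊤ := by
    have h1 : commutator (Matrix.ProjectiveSpecialLinearGroup (Fin 3) F0) = ⊤ :=
      PSLSimple.commutator_PSL_eq_top (PSLSimple.commutator_SL_eq_top (by simp))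
    have h2 : (commutator (L : Type _)).map e.toMonoidHom =
        commutator (Matrix.ProjectiveSpecialLinearGroup (Fin 3) F0) := by
      rw [_root_.commutator_def, _root_.commutator_def, map_commutator,
        ← MonoidHom.range_eq_map, MonoidHom.range_eq_top.2 e.surjective]
    rw [h1, ← map_top_of_surjective e.toMonoidHom e.surjective] at h2
    exact map_injective e.injective h2
  -- the derived subgroup of `G2` is `L`
  have hidx : L.index = 3 := by
    have h1 := L.card_mul_index
    rw [hcard, Nat.card_congr e.toEquiv] at h1
    have h2 : Nat.card (Matrix.ProjectiveSpecialLinearGroup (Fin 3) F0) = 20160 := by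
      have h4 := PSLCard.card_PSL_mul (F := F0) 3
      have h5 := PSLCard.card_SL (F := F0) 3
      rw [Nat.card_eq_fintype_card (α := F0), h0, Fin.prod_univ_three] at h5
      rw [Nat.card_eq_fintype_card (α := F0), h0] at h4
      norm_num at h4 h5
      omega
    rw [h2] at h1
    omega
  have hL : commutator (G2 : Type _) = L := commutator_eq_of_perfect L hperf hidx
  set L' := L.map G2.subtype with hL'
  have hL'n : L'.Normal := by
    have : L' = ⁅G2, G2⁆ := by
      rw [hL', ← hL, map_subtype_commutator]
    rw [this]
    infer_instance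
  haveI := hL'n
  -- the centralizer
  have hCb : centralizer (L' : Set G) = ⊥ := by
    set C := centralizer (L' : Set G) with hCdef
    have hCn : C.Normal := by rw [hCdef]; infer_instance
    have hi2 : C ⊓ G2 = ⊥ := by
      refine (Subgroup.eq_bot_iff_forall _).2 fun x hx => ?_
      have hm : (⟨x, hx.2⟩ : G2) ∈ centralizer (L : Set G2) := mem_centralizer_iff.2 fun l hl =>
        Subtype.ext (mem_centralizer_iff.1 hx.1 l ⟨l, hl, rfl⟩)
      rw [hC, mem_bot] at hm
      exact congrArg Subtype.val hm
    by_contra hne
    have hle : C ≤ centralizer ({z} : Set G) := by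
      intro x hx
      rw [mem_centralizer_singleton_iff]
      exact commutatorElement_eq_one_iff_mul_comm.1 (mem_bot.1 (hi2 ▸
        commutator_le_inf C G2 (commutator_mem_commutator hx hz)))
    have : z ∈ C ⊓ G2 := ⟨hmin C hCn hle hne, hz⟩
    rw [hi2, mem_bot] at this
    rw [this, orderOf_one] at hz2
    omega
  exact AutL34Aut54.exists_equiv L' hL'n hG hCb h0
    ((L.equivMapOfInjective G2.subtype G2.subtype_injective).symm.trans e) hF

/-- Automorphisms of a group of order four form a solvable group. -/
theorem isSolvable_mulAut_four {T : Type*} [Group T] [Finite T] (h4 : Nat.card T = 4) :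
    Group.IsSolvable (MulAut T) := by
  classical
  haveI := Fintype.ofFinite T
  have h3 : Nat.card {x : T // x ≠ 1} = 3 := by
    rw [Nat.card_eq_fintype_card, Fintype.card_subtype_compl, Fintype.card_subtype_eq,
      ← Nat.card_eq_fintype_card, h4]
  let f : MulAut T →* Equiv.Perm {x : T // x ≠ 1} :=
    { toFun := fun α => α.toEquiv.subtypeEquiv fun x =>
        (not_congr (map_eq_one_iff α α.injective)).symm
      map_one' := by ext x; rfl
      map_mul' := fun α β => by ext x; rfl }
  have hf : Function.Injective f := by
    intro α β e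
    ext x
    by_cases hx : x = 1
    · rw [hx, map_one, map_one]
    · exact congrArg Subtype.val (congrArg (fun p : Equiv.Perm {x : T // x ≠ 1} => p ⟨x, hx⟩) e)
  obtain ⟨σ⟩ : Nonempty ({x : T // x ≠ 1} ≃ Fin 3) :=
    ⟨Finite.equivFinOfCardEq h3⟩
  haveI : Group.IsSolvable (alternatingGroup (Fin 3)) := Group.isSolvable_of_comm (by decide)
  haveI : Group.IsSolvable (Equiv.Perm (Fin 3)) :=
    Group.isSolvable_of_ker_le_range (alternatingGroup (Fin 3)).subtype
      (Equiv.Perm.sign (α := Fin 3)) (by rw [range_subtype]; rfl)
  exact Group.isSolvable_of_isSolvable_injective (f := (σ.permCongrHom.toMonoidHom.comp f))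
    (σ.permCongrHom.injective.comp hf)

/-- A normal four-group in `G2` with a solvable centralizer: the group is solvable. -/
theorem solvable_of_closed {G : Type*} [Group G] [Finite G] (G2 : Subgroup G) (hn : G2.Normal)
    (hi : G2.index = 4) (T : Subgroup G2) (hTn : normalizer (T : Set G2) = ⊤)
    (hT4 : Nat.card T = 4) (z0 : G2) (hz0T : z0 ∈ T)
    (hH : Group.IsSolvable (centralizer ({(z0 : G)} : Set G))) : Group.IsSolvable G := by
  haveI := hn
  haveI := hH
  haveI : T.Normal := normalizer_eq_top_iff.1 hTn
  have hle : centralizer (T : Set G2) ≤ (centralizer ({(z0 : G)} : Set G)).comap G2.subtype := by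
    intro x hx
    rw [mem_comap, mem_centralizer_singleton_iff]
    exact congrArg Subtype.val (mem_centralizer_iff.1 hx z0 hz0T).symm
  let f : (centralizer (T : Set G2)) →* centralizer ({(z0 : G)} : Set G) :=
    (G2.subtype.comp (centralizer (T : Set G2)).subtype).codRestrict _ fun x => hle x.2
  have hf : Function.Injective f := fun a b e =>
    Subtype.ext (Subtype.ext (congrArg (fun w : centralizer ({(z0 : G)} : Set G) => (w : G)) e))
  haveI : Group.IsSolvable (centralizer (T : Set G2)) :=
    Group.isSolvable_of_isSolvable_injective hf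
  haveI := isSolvable_mulAut_four hT4
  haveI : Group.IsSolvable G2 :=
    Group.isSolvable_of_ker_le_range (centralizer (T : Set G2)).subtype
      (MulAut.conjNormal (H := T)) (by
        rw [range_subtype]
        intro k hk
        rw [mem_centralizer_iff]
        intro x hx
        have := congrArg Subtype.val (congrArg (fun e : MulAut T => e ⟨x, hx⟩) hk)
        simp only [MulAut.conjNormal_apply, MulAut.one_apply, mul_inv_eq_iff_eq_mul] at this
        exact this.symm)
  haveI : Fact (Nat.Prime 2) := ⟨Nat.prime_two⟩
  haveI : Group.IsSolvable (G ⧸ G2) := Group.isSolvable_of_comm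
    (IsPGroup.commGroupOfCardEqPrimeSq (p := 2) (by rw [← index_eq_card, hi]; norm_num)).mul_comm
  exact Group.isSolvable_of_ker_le_range G2.subtype (QuotientGroup.mk' G2) (by
    rw [QuotientGroup.ker_mk', range_subtype])

end Cfsg.Agent.AutL34Model54
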