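import Mathlib
import Cfsg.Agent.Lib.AutL34Loc54

/-!
# The normalizer of a Sylow `2`-subgroup in the local configuration `Loc` (towards S3237)
-/

set_option autoImplicit false
set_option linter.unusedSectionVars false

namespace Cfsg.Agent.AutL34Flags8

open Subgroup Cfsg.Agent.AutL34Plane54

variable {G : Type*} [Group G]

theorem mem_cj {g x : G} {H : Subgroup G} : x ∈ cj g H ↔ g⁻¹ * x * g ∈ H := by
  constructor
  · rintro ⟨y, hy, rfl⟩
    simpa [MulAut.conj_apply, mul_assoc] using hy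
  · intro h
    exact ⟨g⁻¹ * x * g, h, by simp [MulAut.conj_apply, mul_assoc]⟩

theorem conj_mem_cj {g x : G} {H : Subgroup G} (h : x ∈ H) : g * x * g⁻¹ ∈ cj g H := by
  rw [mem_cj]; simpa [mul_assoc] using h

theorem cj_one (H : Subgroup G) : cj 1 H = H := by
  ext x; simp [mem_cj]

theorem cj_cj (g h : G) (H : Subgroup G) : cj g (cj h H) = cj (g * h) H := by
  ext x; simp [mem_cj, mul_assoc]

theorem cj_inv_cj (g : G) (H : Subgroup G) : cj g⁻¹ (cj g H) = H := by
  rw [cj_cj, inv_mul_cancel, cj_one]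

theorem cj_cj_inv (g : G) (H : Subgroup G) : cj g (cj g⁻¹ H) = H := by
  rw [cj_cj, mul_inv_cancel, cj_one]

theorem cj_inj (g : G) {H K : Subgroup G} (h : cj g H = cj g K) : H = K := by
  rw [← cj_inv_cj g H, h, cj_inv_cj]

theorem cj_mono (g : G) {H K : Subgroup G} (h : H ≤ K) : cj g H ≤ cj g K := Subgroup.map_mono h

theorem card_cj (g : G) (H : Subgroup G) : Nat.card (cj g H) = Nat.card H :=
  (Nat.card_congr (H.equivMapOfInjective _ (MulAut.conj g).injective).toEquiv).symm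

theorem pgroup_cj (g : G) {H : Subgroup G} {p : ℕ} (hH : IsPGroup p H) : IsPGroup p (cj g H) :=
  hH.map _

theorem mem_norm_iff {g : G} {H : Subgroup G} :
    g ∈ normalizer (H : Set G) ↔ cj g H = H := by
  rw [mem_normalizer_iff'']
  constructor
  · intro h
    ext x
    rw [mem_cj, ← h x]
  · intro h x
    rw [← mem_cj, h]

theorem cj_of_mem {g : G} {H : Subgroup G} (h : g ∈ H) : cj g H = H :=
  mem_norm_iff.1 (le_normalizer h)

theorem mem_cent {g x : G} : g ∈ centralizer ({x} : Set G) ↔ g * x * g⁻¹ = x := by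
  rw [mem_centralizer_singleton_iff, mul_inv_eq_iff_eq_mul]

theorem mem_cent' {g x : G} : g ∈ centralizer ({x} : Set G) ↔ g * x = x * g :=
  mem_centralizer_singleton_iff

theorem sq_comm {U : Subgroup G} (hsq : ∀ u ∈ U, u * u = 1) {u v : G} (hu : u ∈ U) (hv : v ∈ U) :
    u * v = v * u := by
  have h1 := hsq u hu
  have h2 := hsq v hv
  have h3 := hsq (u * v) (mul_mem hu hv)
  calc u * v = u * ((u * v) * (u * v)) * v := by rw [h3]; group
    _ = (u * u) * (v * u) * (v * v) := by group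
    _ = v * u := by rw [h1, h2]; group

theorem inv_of_sq {u : G} (hu : u * u = 1) : u⁻¹ = u := inv_eq_of_mul_eq_one_right hu

/-- Orbit-stabilizer, for a function with prescribed fibres. -/
theorem card_fibre [Finite G] {α : Type*} {X C : Subgroup G} (hC : C ≤ X) (f : G → α)
    (hf : ∀ x ∈ X, ∀ y ∈ X, f x = f y ↔ x⁻¹ * y ∈ C) :
    Nat.card X = Nat.card C * (f '' (X : Set G)).ncard := by
  have hrel : ∀ x y : X, QuotientGroup.leftRel (C.subgroupOf X) x y ↔ f x = f y := by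
    intro x y
    rw [QuotientGroup.leftRel_apply, mem_subgroupOf, hf x x.2 y y.2]
    simp
  let F : ↥X ⧸ C.subgroupOf X → ↥(f '' (X : Set G)) :=
    Quotient.lift (fun x : X => ⟨f x, ⟨x, x.2, rfl⟩⟩)
      (fun x y hxy => Subtype.ext ((hrel x y).1 hxy))
  have hF : Function.Bijective F := by
    constructor
    · intro a b
      induction a using Quotient.inductionOn with | h x =>
      induction b using Quotient.inductionOn with | h y =>
      intro hab
      exact Quotient.sound ((hrel x y).2 (congrArg Subtype.val hab))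
    · rintro ⟨_, x, hx, rfl⟩
      exact ⟨⟦⟨x, hx⟩⟧, rfl⟩
  have h1 := (C.subgroupOf X).card_mul_index
  rw [Nat.card_congr (subgroupOfEquivOfLe hC).toEquiv] at h1
  rw [← h1, ← Nat.card_coe_set_eq, ← Nat.card_eq_of_bijective F hF, index]

/-- `W = X Y` by counting. -/
theorem exists_mul [Finite G] {X Y W : Subgroup G} (hX : X ≤ W) (hY : Y ≤ W)
    (hc : Nat.card X * Nat.card Y = Nat.card W * Nat.card ↥(X ⊓ Y : Subgroup G)) {w : G}
    (hw : w ∈ W) : ∃ x ∈ X, ∃ y ∈ Y, w = x * y := by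
  have hfib : ∀ Z : Subgroup G, ∀ x ∈ Z, ∀ y ∈ Z,
      ((x : G ⧸ Y) = (y : G ⧸ Y)) ↔ x⁻¹ * y ∈ Z ⊓ Y := fun Z x hx y hy => by
    rw [QuotientGroup.eq, mem_inf]
    exact ⟨fun h => ⟨mul_mem (inv_mem hx) hy, h⟩, fun h => h.2⟩
  have h1 := card_fibre (X := X) (C := X ⊓ Y) inf_le_left (fun g => (g : G ⧸ Y)) (hfib X)
  have h2 := card_fibre (X := W) (C := W ⊓ Y) inf_le_left (fun g => (g : G ⧸ Y)) (hfib W)
  rw [inf_eq_right.2 hY] at h2
  have hle : (fun g : G => (g : G ⧸ Y)) '' (X : Set G) ⊆ (fun g : G => (g : G ⧸ Y)) '' (W : Set G) :=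
    Set.image_mono hX
  have heq := Set.eq_of_subset_of_ncard_le hle (by
    have e : Nat.card Y * ((fun g : G => (g : G ⧸ Y)) '' (W : Set G)).ncard *
          Nat.card ↥(X ⊓ Y : Subgroup G) =
        Nat.card ↥(X ⊓ Y : Subgroup G) * ((fun g : G => (g : G ⧸ Y)) '' (X : Set G)).ncard *
          Nat.card Y := by rw [← h2, ← h1, hc]
    have p1 : 0 < Nat.card ↥(X ⊓ Y : Subgroup G) := Nat.card_pos
    have p2 : 0 < Nat.card Y := Nat.card_pos
    have key : Nat.card Y * Nat.card ↥(X ⊓ Y : Subgroup G) *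
          ((fun g : G => (g : G ⧸ Y)) '' (W : Set G)).ncard ≤
        Nat.card Y * Nat.card ↥(X ⊓ Y : Subgroup G) *
          ((fun g : G => (g : G ⧸ Y)) '' (X : Set G)).ncard := by nlinarith
    exact Nat.le_of_mul_le_mul_left key (Nat.mul_pos p2 p1)) (Set.toFinite _)
  have hwm : (w : G ⧸ Y) ∈ (fun g : G => (g : G ⧸ Y)) '' (W : Set G) := ⟨w, hw, rfl⟩
  rw [← heq] at hwm
  obtain ⟨x, hx, hxw⟩ := hwm
  exact ⟨x, hx, x⁻¹ * w, QuotientGroup.eq.1 hxw, (mul_inv_cancel_left x w).symm⟩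

/-- Two maximal `2`-subgroups of `N` are conjugate in `N`. -/
theorem conj_of_max [Finite G] {N P Q : Subgroup G} (hPN : P ≤ N) (hQN : Q ≤ N)
    (hP : IsPGroup 2 P) (hQ : IsPGroup 2 Q)
    (mP : ∀ R : Subgroup G, R ≤ N → IsPGroup 2 R → P ≤ R → R = P)
    (mQ : ∀ R : Subgroup G, R ≤ N → IsPGroup 2 R → Q ≤ R → R = Q) :
    ∃ n ∈ N, cj n P = Q := by
  haveI : Fact (Nat.Prime 2) := ⟨Nat.prime_two⟩
  have mk : ∀ R : Subgroup G, R ≤ N → IsPGroup 2 R →
      (∀ R' : Subgroup G, R' ≤ N → IsPGroup 2 R' → R ≤ R' → R' = R) →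
      ∃ U : Sylow 2 N, (U : Subgroup N) = R.subgroupOf N := by
    intro R hR hp hm
    obtain ⟨U, hU⟩ := (hp.comap_subtype (K := N)).exists_le_sylow
    have hmap : ((U : Subgroup N).map N.subtype) = R := by
      refine hm _ (map_subtype_le _) (U.2.map _) ?_
      intro x hx
      exact ⟨⟨x, hR hx⟩, hU (mem_subgroupOf.2 hx), rfl⟩
    refine ⟨U, ?_⟩
    rw [← hmap]
    exact (comap_map_eq_self_of_injective N.subtype_injective _).symm
  obtain ⟨U1, e1⟩ := mk P hPN hP mP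
  obtain ⟨U2, e2⟩ := mk Q hQN hQ mQ
  obtain ⟨n, hn⟩ := MulAction.exists_smul_eq N U1 U2
  refine ⟨n, n.2, ?_⟩
  have e : (U2 : Subgroup N) = (P.subgroupOf N).map (MulAut.conj n).toMonoidHom := by
    rw [← hn, ← e1]; rfl
  rw [e2] at e
  ext x
  constructor
  · intro hx
    rw [mem_cj] at hx
    have hm : n * ⟨(n : G)⁻¹ * x * n, hPN hx⟩ * n⁻¹ ∈ Q.subgroupOf N := by
      rw [e]; exact ⟨⟨(n : G)⁻¹ * x * n, hPN hx⟩, mem_subgroupOf.2 hx, rfl⟩
    have := mem_subgroupOf.1 hm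
    simpa [mul_assoc] using this
  · intro hx
    have hm : (⟨x, hQN hx⟩ : N) ∈ Q.subgroupOf N := mem_subgroupOf.2 hx
    rw [e] at hm
    obtain ⟨y, hy, hyx⟩ := hm
    have hxy : (n : G) * y * (n : G)⁻¹ = x := congrArg Subtype.val hyx
    rw [← hxy]
    exact conj_mem_cj (mem_subgroupOf.1 hy)

/-- The configuration together with the fusion of all involutions. -/
structure Full (V A S : Subgroup G) (z : G) : Prop where
  loc : Loc V A S z
  fV : ∀ x ∈ V, x ∉ A → IsConj z x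
  fA : ∀ x ∈ A, x ∉ V → IsConj z x

theorem Full.swap {V A S : Subgroup G} {z : G} (h : Full V A S z) : Full A V S z :=
  ⟨h.loc.swap, h.fA, h.fV⟩

variable {V A S : Subgroup G} {z : G}

theorem zV (h : Loc V A S z) : z ∈ V := h.mem_z.1
theorem zA (h : Loc V A S z) : z ∈ A := h.mem_z.2
theorem zS (h : Loc V A S z) : z ∈ S := h.V_le h.mem_z.1

theorem T_comm {t y : G} (h : Loc V A S z) (ht : t ∈ V ⊓ A) (hy : y ∈ S) : y * t = t * y := by
  rw [← h.center_S] at ht
  exact mem_centralizer_iff.1 ht.2 y hy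

theorem S_le_cent {t : G} (h : Loc V A S z) (ht : t ∈ V ⊓ A) :
    S ≤ centralizer ({t} : Set G) := fun _ hy => mem_cent'.2 (T_comm h ht hy)

theorem S_pgroup (h : Loc V A S z) : IsPGroup 2 S := by
  obtain ⟨T, rfl⟩ := h.sylow
  exact T.2

theorem card_le_64 [Finite G] (h : Loc V A S z) {P : Subgroup G} (hP : IsPGroup 2 P) :
    Nat.card P ≤ 64 := by
  haveI : Fact (Nat.Prime 2) := ⟨Nat.prime_two⟩
  obtain ⟨T, hT⟩ := h.sylow
  obtain ⟨Q, hQ⟩ := hP.exists_le_sylow
  have e : Nat.card Q = Nat.card T := by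
    rw [Q.card_eq_multiplicity, T.card_eq_multiplicity]
  have hd := Nat.le_of_dvd Nat.card_pos (card_dvd_of_le hQ)
  have h64 : Nat.card T = 64 := by rw [← h.card_S, ← hT]
  exact hd.trans_eq (e.trans h64)

theorem max_of_card [Finite G] (h : Loc V A S z) {R R' : Subgroup G} (hc : Nat.card R = 64)
    (hp : IsPGroup 2 R') (hle : R ≤ R') : R' = R :=
  (eq_of_le_of_card_ge hle ((card_le_64 h hp).trans_eq hc.symm)).symm

/-- `S` contains every `2`-subgroup of its normalizer. -/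
theorem le_S [Finite G] (h : Loc V A S z) {P : Subgroup G} (hP : IsPGroup 2 P)
    (hle : P ≤ normalizer (S : Set G)) : P ≤ S := by
  haveI : Fact (Nat.Prime 2) := ⟨Nat.prime_two⟩
  obtain ⟨T, rfl⟩ := h.sylow
  have := hP.inf_normalizer_sylow T
  exact (le_inf le_rfl hle).trans (this.le.trans inf_le_right)

theorem zpowers_pgroup {x : G} {k : ℕ} (hx : x ^ 2 ^ k = 1) : IsPGroup 2 (zpowers x) := by
  intro y
  refine ⟨k, ?_⟩
  obtain ⟨y, n, rfl⟩ := y
  apply Subtype.ext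
  show (x ^ n) ^ 2 ^ k = 1
  rw [← zpow_natCast, ← zpow_mul, mul_comm, zpow_mul, zpow_natCast, hx, one_zpow]

theorem mem_S_of_pow [Finite G] (h : Loc V A S z) {x : G} {k : ℕ} (hx : x ^ 2 ^ k = 1)
    (hn : x ∈ normalizer (S : Set G)) : x ∈ S :=
  le_S h (zpowers_pgroup hx) (zpowers_le.2 hn) (mem_zpowers x)

theorem elem_sub [Finite G] (h : Loc V A S z) {P : Subgroup G} (hle : P ≤ S)
    (hc : Nat.card P = 16) (hsq : ∀ u ∈ P, u * u = 1) : P = V ∨ P = A := by
  by_cases hPV : P ≤ V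
  · exact Or.inl (eq_of_le_of_card_ge hPV (by rw [hc, h.card_V]))
  obtain ⟨p, hp, hpV⟩ := SetLike.not_le_iff_exists.1 hPV
  have hpA : p ∈ A := (h.involutions p (hle hp) (hsq p hp)).resolve_left hpV
  refine Or.inr (eq_of_le_of_card_ge (fun q hq => ?_) (by rw [hc, h.card_A]))
  rcases h.involutions q (hle hq) (hsq q hq) with hqV | hqA
  · rcases h.involutions (p * q) (hle (mul_mem hp hq)) (hsq _ (mul_mem hp hq)) with h1 | h1
    · exact absurd ((mul_mem_cancel_right hqV).1 h1) hpV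
    · exact (mul_mem_cancel_left hpA).1 h1
  · exact hqA

theorem V_ne_A (h : Loc V A S z) : V ≠ A := by
  intro e
  have := h.card_inter
  rw [e, inf_idem, h.card_A] at this
  omega

theorem split [Finite G] (h : Loc V A S z) {y : G} (hy : y ∈ S) :
    ∃ v ∈ V, ∃ a ∈ A, y = v * a :=
  exists_mul h.V_le h.A_le (by rw [h.card_V, h.card_A, h.card_S, h.card_inter]) hy

theorem S_norm_V [Finite G] (h : Loc V A S z) : S ≤ normalizer (V : Set G) := by
  intro y hy
  rw [mem_norm_iff]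
  rcases elem_sub h (P := cj y V) (fun x hx => by
      rw [mem_cj] at hx
      have := mul_mem (mul_mem hy (h.V_le hx)) (inv_mem hy)
      simpa [mul_assoc] using this) (by rw [card_cj, h.card_V]) (fun u hu => by
      rw [mem_cj] at hu
      have := congrArg (fun w => y * w * y⁻¹) (h.sq_V _ hu)
      simpa [mul_assoc] using this) with e | e
  · exact e
  · obtain ⟨a, ha, v, hv, rfl⟩ := split h.swap hy
    rw [← cj_cj, cj_of_mem hv] at e
    exact absurd (cj_inj a (e.trans (cj_of_mem ha).symm)) (V_ne_A h)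

theorem T_four [Finite G] (h : Loc V A S z) {x y : G} (hx : x ∈ V ⊓ A) (hy : y ∈ V ⊓ A) (hx1 : x ≠ 1)
    (hy1 : y ≠ 1) (hxy : x ≠ y) {w : G} (hw : w ∈ V ⊓ A) :
    w = 1 ∨ w = x ∨ w = y ∨ w = x * y := by
  have hx2 := h.sq_V x hx.1
  have n1 : x * y ≠ 1 := fun e => hxy (by rw [← inv_of_sq hx2, inv_eq_of_mul_eq_one_right e])
  have n2 : x * y ≠ x := fun e => hy1 (mul_eq_left.1 e)
  have n3 : x * y ≠ y := fun e => hx1 (mul_eq_right.1 e)
  have hsub : ({1, x, y, x * y} : Set G) ⊆ ((V ⊓ A : Subgroup G) : Set G) := by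
    intro u hu
    rcases hu with rfl | rfl | rfl | rfl
    exacts [one_mem _, hx, hy, mul_mem hx hy]
  have hc : ({1, x, y, x * y} : Set G).ncard = 4 := by
    rw [Set.ncard_insert_of_notMem (by simp [hx1.symm, hy1.symm, n1.symm]),
      Set.ncard_insert_of_notMem (by simp [hxy, n2.symm]),
      Set.ncard_insert_of_notMem (by simp [n3.symm]), Set.ncard_singleton]
  have he := Set.eq_of_subset_of_ncard_le hsub (by
    rw [hc, ← Nat.card_coe_set_eq]; exact h.card_inter.le) (Set.toFinite _)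
  have : w ∈ ({1, x, y, x * y} : Set G) := by rw [he]; exact hw
  simpa using this

theorem S_index_three [Finite G] (h : Loc V A S z) {x g : G} (hx : x ∈ V ⊓ A) (hx1 : x ≠ 1)
    (hg : g ∈ centralizer ({x} : Set G)) : g ^ 3 ∈ S := by
  obtain ⟨hc, hle⟩ := h.cent x hx hx1
  haveI : (S.subgroupOf (centralizer ({x} : Set G))).Normal :=
    (normal_subgroupOf_iff_le_normalizer (S_le_cent h hx)).2 hle
  have hi : (S.subgroupOf (centralizer ({x} : Set G))).index = 3 := by
    have := (S.subgroupOf (centralizer ({x} : Set G))).card_mul_index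
    rw [Nat.card_congr (subgroupOfEquivOfLe (S_le_cent h hx)).toEquiv, h.card_S, hc] at this
    omega
  have := (S.subgroupOf (centralizer ({x} : Set G))).pow_index_mem ⟨g, hg⟩
  rw [hi, mem_subgroupOf] at this
  simpa using this

theorem NS_map_T (h : Loc V A S z) {g t : G} (hg : g ∈ normalizer (S : Set G)) (ht : t ∈ V ⊓ A) :
    g * t * g⁻¹ ∈ V ⊓ A := by
  have ht' := ht
  rw [← h.center_S] at ht' ⊢
  refine ⟨(mem_normalizer_iff.1 hg t).1 ht'.1, mem_centralizer_iff.2 fun y hy => ?_⟩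
  have hy' : g⁻¹ * y * g ∈ S := (mem_normalizer_iff''.1 hg y).1 hy
  have := mem_centralizer_iff.1 ht'.2 _ hy'
  calc y * (g * t * g⁻¹) = g * ((g⁻¹ * y * g) * t) * g⁻¹ := by group
    _ = g * (t * (g⁻¹ * y * g)) * g⁻¹ := by rw [this]
    _ = g * t * g⁻¹ * y := by group

theorem conj_eq_one {g t : G} : g * t * g⁻¹ = 1 ↔ t = 1 := conj_eq_one_iff

theorem cent_fix [Finite G] (h : Loc V A S z) {x t g : G} (hx : x ∈ V ⊓ A) (hx1 : x ≠ 1)
    (hg : g ∈ centralizer ({x} : Set G)) (ht : t ∈ V ⊓ A) : g * t * g⁻¹ = t := by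
  have hgx := mem_cent.1 hg
  by_cases ht1 : t = 1
  · simp [ht1]
  by_cases htx : t = x
  · rw [htx, hgx]
  have hn := (h.cent x hx hx1).2 hg
  rcases T_four h hx ht hx1 ht1 (Ne.symm htx) (NS_map_T h hn ht) with e | e | e | e
  · exact absurd (conj_eq_one.1 e) ht1
  · exfalso
    apply htx
    have e' : g * t * g⁻¹ = g * x * g⁻¹ := e.trans hgx.symm
    exact mul_left_cancel (mul_right_cancel e')
  · exact e
  · exfalso
    have h3 := T_comm h ht (S_index_three h hx hx1 hg)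
    have e2 : g * (x * t) * g⁻¹ = t := by
      have hxx := h.sq_V x hx.1
      calc g * (x * t) * g⁻¹ = (g * x * g⁻¹) * (g * t * g⁻¹) := by group
        _ = x * (x * t) := by rw [hgx, e]
        _ = t := by rw [← mul_assoc, hxx, one_mul]
    have e3 : g ^ 3 * t * (g ^ 3)⁻¹ = x * t := by
      calc g ^ 3 * t * (g ^ 3)⁻¹ = g * (g * (g * t * g⁻¹) * g⁻¹) * g⁻¹ := by
            simp [pow_succ, mul_assoc]
        _ = x * t := by rw [e, e2, e]
    rw [h3, mul_inv_cancel_right] at e3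
    exact hx1 (mul_eq_right.1 e3.symm)

/-- The three centralizers coincide. -/
theorem cent_eq [Finite G] (h : Loc V A S z) {x : G} (hx : x ∈ V ⊓ A) (hx1 : x ≠ 1) :
    centralizer ({x} : Set G) = centralizer ({z} : Set G) :=
  le_antisymm (fun _ hg => mem_cent.2 (cent_fix h hx hx1 hg h.mem_z))
    (fun _ hg => mem_cent.2 (cent_fix h h.mem_z h.z_ne hg hx))

theorem C_le_NS (h : Loc V A S z) : centralizer ({z} : Set G) ≤ normalizer (S : Set G) :=
  (h.cent z h.mem_z h.z_ne).2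

theorem card_C (h : Loc V A S z) : Nat.card ↥(centralizer ({z} : Set G)) = 192 :=
  (h.cent z h.mem_z h.z_ne).1

theorem S_le_C (h : Loc V A S z) : S ≤ centralizer ({z} : Set G) := S_le_cent h h.mem_z

theorem C_fix [Finite G] (h : Loc V A S z) {g t : G} (hg : g ∈ centralizer ({z} : Set G))
    (ht : t ∈ V ⊓ A) : g * t * g⁻¹ = t := cent_fix h h.mem_z h.z_ne hg ht

theorem NS_of_move [Finite G] (h : Loc V A S z) {x y g : G} (hx : x ∈ V ⊓ A) (hy : y ∈ V ⊓ A)
    (hy1 : y ≠ 1) (e : g * x * g⁻¹ = y) : g ∈ normalizer (S : Set G) := by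
  rw [mem_norm_iff]
  refine eq_of_le_of_card_ge (le_S h (pgroup_cj g (S_pgroup h)) (fun u hu => ?_)) (card_cj g S).ge
  refine (h.cent y hy hy1).2 (mem_cent'.2 ?_)
  have := T_comm h hx (mem_cj.1 hu)
  calc u * y = g * ((g⁻¹ * u * g) * x) * g⁻¹ := by rw [← e]; group
    _ = g * (x * (g⁻¹ * u * g)) * g⁻¹ := by rw [this]
    _ = y * u := by rw [← e]; group

theorem C_normal [Finite G] (h : Loc V A S z) {g c : G} (hg : g ∈ normalizer (S : Set G))
    (hc : c ∈ centralizer ({z} : Set G)) : g * c * g⁻¹ ∈ centralizer ({z} : Set G) := by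
  have := C_fix h hc (NS_map_T h (inv_mem hg) h.mem_z)
  rw [mem_cent]
  calc g * c * g⁻¹ * z * (g * c * g⁻¹)⁻¹ = g * (c * (g⁻¹ * z * g⁻¹⁻¹) * c⁻¹) * g⁻¹ := by group
    _ = g * (g⁻¹ * z * g⁻¹⁻¹) * g⁻¹ := by rw [this]
    _ = z := by group

theorem moves [Finite G] (h : Loc V A S z) {g : G} (hg : g ∈ normalizer (S : Set G))
    (hg' : g ∉ centralizer ({z} : Set G)) :
    g * z * g⁻¹ ≠ z ∧ g ^ 2 * z * (g ^ 2)⁻¹ = z * (g * z * g⁻¹) ∧
      g ^ 3 ∈ centralizer ({z} : Set G) := by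
  have h1 : g * z * g⁻¹ ∈ V ⊓ A := NS_map_T h hg h.mem_z
  have h2 : g * (g * z * g⁻¹) * g⁻¹ ∈ V ⊓ A := NS_map_T h hg h1
  have n1 : g * z * g⁻¹ ≠ z := fun e => hg' (mem_cent.2 e)
  have n0 : g * z * g⁻¹ ≠ 1 := fun e => h.z_ne (conj_eq_one.1 e)
  have hcomm := sq_comm h.sq_V h.mem_z.1 h1.1
  have e2 : g * (g * z * g⁻¹) * g⁻¹ = z * (g * z * g⁻¹) := by
    rcases T_four h h.mem_z h1 h.z_ne n0 (Ne.symm n1) h2 with e | e | e | e
    · exact absurd (conj_eq_one.1 e) n0
    · exfalso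
      apply hg'
      have hp : z * (g * z * g⁻¹) ≠ 1 := fun e' => n1 (by
        rw [← inv_eq_of_mul_eq_one_right e', inv_of_sq (h.sq_V z h.mem_z.1)])
      rw [← cent_eq h (mul_mem h.mem_z h1) hp, mem_cent]
      calc g * (z * (g * z * g⁻¹)) * g⁻¹ = (g * z * g⁻¹) * (g * (g * z * g⁻¹) * g⁻¹) := by group
        _ = z * (g * z * g⁻¹) := by rw [e, ← hcomm]
    · exact absurd (mul_left_cancel (mul_right_cancel e)) n1
    · exact e
  refine ⟨n1, ?_, mem_cent.2 ?_⟩
  · rw [← e2]; simp [pow_succ, mul_assoc]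
  · calc g ^ 3 * z * (g ^ 3)⁻¹ = g * (g * (g * z * g⁻¹) * g⁻¹) * g⁻¹ := by
          simp [pow_succ, mul_assoc]
      _ = g * (z * (g * z * g⁻¹)) * g⁻¹ := by rw [e2]
      _ = (g * z * g⁻¹) * (g * (g * z * g⁻¹) * g⁻¹) := by group
      _ = z := by
        rw [e2, ← mul_assoc, ← hcomm, mul_assoc, h.sq_V _ h1.1, mul_one]

theorem cube_mem [Finite G] (h : Loc V A S z) {g : G} (hg : g ∈ normalizer (S : Set G)) :
    g ^ 3 ∈ centralizer ({z} : Set G) := by
  by_cases hc : g ∈ centralizer ({z} : Set G)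
  · exact pow_mem hc 3
  · exact (moves h hg hc).2.2

theorem nine_mem [Finite G] (h : Loc V A S z) {g : G} (hg : g ∈ normalizer (S : Set G)) :
    g ^ 9 ∈ S := by
  have := S_index_three h h.mem_z h.z_ne (cube_mem h hg)
  rwa [← pow_mul] at this

theorem exists_pow [Finite G] (h : Loc V A S z) {g g' : G} (hg : g ∈ normalizer (S : Set G))
    (hgc : g ∉ centralizer ({z} : Set G)) (hg' : g' ∈ normalizer (S : Set G)) :
    g' ∈ centralizer ({z} : Set G) ∨ g⁻¹ * g' ∈ centralizer ({z} : Set G) ∨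
      g * g' ∈ centralizer ({z} : Set G) := by
  obtain ⟨n1, e2, e3⟩ := moves h hg hgc
  have h1 : g * z * g⁻¹ ∈ V ⊓ A := NS_map_T h hg h.mem_z
  have n0 : g * z * g⁻¹ ≠ 1 := fun e => h.z_ne (conj_eq_one.1 e)
  rcases T_four h h.mem_z h1 h.z_ne n0 (Ne.symm n1) (NS_map_T h hg' h.mem_z) with e | e | e | e
  · exact absurd (conj_eq_one.1 e) h.z_ne
  · exact Or.inl (mem_cent.2 e)
  · refine Or.inr (Or.inl (mem_cent.2 ?_))
    calc g⁻¹ * g' * z * (g⁻¹ * g')⁻¹ = g⁻¹ * (g' * z * g'⁻¹) * g := by group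
      _ = z := by rw [e]; group
  · refine Or.inr (Or.inr (mem_cent.2 ?_))
    calc g * g' * z * (g * g')⁻¹ = g * (g' * z * g'⁻¹) * g⁻¹ := by group
      _ = g * (g ^ 2 * z * (g ^ 2)⁻¹) * g⁻¹ := by rw [e, e2]
      _ = g ^ 3 * z * (g ^ 3)⁻¹ := by simp [pow_succ, mul_assoc]
      _ = z := mem_cent.1 e3

theorem comm_mem [Finite G] (h : Loc V A S z) {g g' : G} (hg : g ∈ normalizer (S : Set G))
    (hg' : g' ∈ normalizer (S : Set G)) :
    g * g' * g⁻¹ * g'⁻¹ ∈ centralizer ({z} : Set G) := by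
  by_cases hgc : g ∈ centralizer ({z} : Set G)
  · have := mul_mem hgc (C_normal h hg' (inv_mem hgc))
    simpa [mul_assoc] using this
  rcases exists_pow h hg hgc hg' with e | e | e
  · have := mul_mem (C_normal h hg e) (inv_mem e)
    simpa [mul_assoc] using this
  · have := C_normal h hg (mul_mem (C_normal h hg e) (inv_mem e))
    simpa [mul_assoc] using this
  · have := C_normal h (inv_mem hg) (mul_mem (C_normal h hg e) (inv_mem e))
    simpa [mul_assoc] using this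

theorem NS_norm_V [Finite G] (h : Loc V A S z) :
    normalizer (S : Set G) ≤ normalizer (V : Set G) := by
  intro g hg
  have key : ∀ k : G, k ∈ normalizer (S : Set G) → cj k V = V ∨ cj k V = A := fun k hk => by
    refine elem_sub h ?_ (by rw [card_cj, h.card_V]) (fun u hu => ?_)
    · exact (cj_mono k h.V_le).trans_eq (mem_norm_iff.1 hk)
    · rw [mem_cj] at hu
      have := congrArg (fun w => k * w * k⁻¹) (h.sq_V _ hu)
      simpa [mul_assoc] using this
  have key' : ∀ k : G, k ∈ normalizer (S : Set G) → cj k A = V ∨ cj k A = A := fun k hk => by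
    refine elem_sub h ?_ (by rw [card_cj, h.card_A]) (fun u hu => ?_)
    · exact (cj_mono k h.A_le).trans_eq (mem_norm_iff.1 hk)
    · rw [mem_cj] at hu
      have := congrArg (fun w => k * w * k⁻¹) (h.sq_A _ hu)
      simpa [mul_assoc] using this
  rw [mem_norm_iff]
  refine (key g hg).resolve_right fun e => ?_
  have e' : cj g A = V := (key' g hg).resolve_right fun e' => V_ne_A h (cj_inj g (e.trans e'.symm))
  have h9 := mem_norm_iff.1 (S_norm_V h (nine_mem h hg))
  simp only [pow_succ, pow_zero, one_mul, ← cj_cj, e, e'] at h9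
  exact V_ne_A h h9.symm

theorem NS_norm_A [Finite G] (h : Loc V A S z) :
    normalizer (S : Set G) ≤ normalizer (A : Set G) := NS_norm_V h.swap

theorem card_NS [Finite G] (h : Loc V A S z) : Nat.card ↥(normalizer (S : Set G)) = 576 := by
  have he := card_fibre (X := normalizer (S : Set G)) (C := centralizer ({z} : Set G)) (C_le_NS h)
    (fun g => g * z * g⁻¹) (fun x _ y _ => by
      rw [mem_cent]
      constructor
      · intro e
        calc x⁻¹ * y * z * (x⁻¹ * y)⁻¹ = x⁻¹ * (y * z * y⁻¹) * x := by group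
          _ = x⁻¹ * (x * z * x⁻¹) * x := by rw [e]
          _ = z := by group
      · intro e
        calc x * z * x⁻¹ = x * (x⁻¹ * y * z * (x⁻¹ * y)⁻¹) * x⁻¹ := by rw [e]
          _ = y * z * y⁻¹ := by group)
  have himg : (fun g => g * z * g⁻¹) '' (normalizer (S : Set G) : Set G) =
      ((V ⊓ A : Subgroup G) : Set G) \ {1} := by
    ext w
    constructor
    · rintro ⟨g, hg, rfl⟩
      exact ⟨NS_map_T h hg h.mem_z, fun e => h.z_ne (conj_eq_one.1 e)⟩
    · rintro ⟨hw, hw1⟩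
      obtain ⟨g, hg⟩ := h.fused z h.mem_z w hw h.z_ne hw1
      exact ⟨g, NS_of_move h h.mem_z hw hw1 hg, hg⟩
  rw [he, card_C h, himg, Set.ncard_sdiff (Set.singleton_subset_iff.2 (one_mem _)),
    Set.ncard_singleton, ← Nat.card_coe_set_eq, SetLike.coe_sort_coe, h.card_inter]

theorem invol_fused [Finite G] (h : Full V A S z) {x : G} (hx : x * x = 1) (hx1 : x ≠ 1) :
    ∃ g : G, g * x * g⁻¹ = z := by
  haveI : Fact (Nat.Prime 2) := ⟨Nat.prime_two⟩
  obtain ⟨Q, hQ⟩ := (zpowers_pgroup (x := x) (k := 1) (by simpa [pow_two] using hx)).exists_le_sylow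
  obtain ⟨T, hT⟩ := h.loc.sylow
  obtain ⟨g, hg⟩ := MulAction.exists_smul_eq G Q T
  have hm : g * x * g⁻¹ ∈ S := by
    rw [← hT, ← hg]
    exact ⟨x, hQ (mem_zpowers x), rfl⟩
  have hsq : g * x * g⁻¹ * (g * x * g⁻¹) = 1 := by
    have := congrArg (fun w => g * w * g⁻¹) hx
    simpa [mul_assoc] using this
  have hne : g * x * g⁻¹ ≠ 1 := fun e => hx1 (conj_eq_one.1 e)
  have hc : ∃ k : G, k * (g * x * g⁻¹) * k⁻¹ = z := by
    by_cases hb : g * x * g⁻¹ ∈ V ⊓ A
    · exact h.loc.fused _ hb z h.loc.mem_z hne h.loc.z_ne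
    · rcases h.loc.involutions _ hm hsq with h1 | h1
      · exact isConj_iff.1 (h.fV _ h1 (fun h2 => hb ⟨h1, h2⟩)).symm
      · exact isConj_iff.1 (h.fA _ h1 (fun h2 => hb ⟨h2, h1⟩)).symm
  obtain ⟨k, hk⟩ := hc
  exact ⟨k * g, by rw [← hk]; group⟩

theorem not_conj [Finite G] (h : Loc V A S z) (g : G) : cj g V ≠ A := by
  intro e
  have h1 : cj g S ≤ normalizer (A : Set G) := by
    intro x hx
    rw [mem_norm_iff, ← e, cj_cj]
    have hv := mem_norm_iff.1 (S_norm_V h (mem_cj.1 hx))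
    conv_rhs => rw [← hv, cj_cj]
    congr 1
    group
  have h2 : S ≤ normalizer (A : Set G) := S_norm_V h.swap
  obtain ⟨n, hn, hc⟩ := conj_of_max h1 h2 (pgroup_cj g (S_pgroup h)) (S_pgroup h)
    (fun R _ hp hle => max_of_card h (by rw [card_cj, h.card_S]) hp hle)
    (fun R _ hp hle => max_of_card h h.card_S hp hle)
  rw [cj_cj] at hc
  have := mem_norm_iff.1 (NS_norm_V h (mem_norm_iff.2 hc))
  rw [← cj_cj, e, mem_norm_iff.1 hn] at this
  exact V_ne_A h this.symm

end Cfsg.Agent.AutL34Flags8
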