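import Mathlib
import Cfsg.Agent.Lib.AutL34FlagsBasic8

/-!
# The normalizer of the point group: five Sylow `2`-subgroups (towards S3237)
-/

set_option autoImplicit false
set_option linter.unusedSectionVars false

namespace Cfsg.Agent.AutL34Flags8

open Subgroup Cfsg.Agent.AutL34Plane54

variable {G : Type*} [Group G] {V A S : Subgroup G} {z : G}

/-- The Sylow `2`-subgroups of `N(A)`. -/
abbrev Sy (A R : Subgroup G) : Prop := CIT21.IsSyl (normalizer (A : Set G)) A 4 R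

theorem sy_S (h : Loc V A S z) [Finite G] : Sy A S :=
  ⟨S_norm_V h.swap, S_pgroup h, by rw [h.card_S, h.card_A]⟩

theorem sy_card (h : Loc V A S z) {R : Subgroup G} (hR : Sy A R) : Nat.card R = 64 := by
  rw [hR.2.2, h.card_A]

theorem sy_conj [Finite G] (h : Loc V A S z) {R : Subgroup G} (hR : Sy A R) :
    ∃ g ∈ normalizer (A : Set G), cj g S = R :=
  conj_of_max (S_norm_V h.swap) hR.1 (S_pgroup h) hR.2.1
    (fun _ _ hp hle => max_of_card h h.card_S hp hle)
    (fun _ _ hp hle => max_of_card h (sy_card h hR) hp hle)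

theorem sy_cj [Finite G] (h : Loc V A S z) {g : G} (hg : g ∈ normalizer (A : Set G))
    {R : Subgroup G} (hR : Sy A R) : Sy A (cj g R) := by
  refine ⟨fun x hx => ?_, pgroup_cj g hR.2.1, by rw [card_cj, hR.2.2]⟩
  have := mul_mem (mul_mem hg (hR.1 (mem_cj.1 hx))) (inv_mem hg)
  simpa [mul_assoc] using this

theorem sy_ge [Finite G] (h : Loc V A S z) {R : Subgroup G} (hR : Sy A R) : A ≤ R := by
  obtain ⟨g, hg, rfl⟩ := sy_conj h hR
  exact (mem_norm_iff.1 hg).ge.trans (cj_mono g h.A_le)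

theorem sy_le_eq [Finite G] (h : Loc V A S z) {R R' : Subgroup G} (hR : Sy A R) (hR' : Sy A R')
    (hle : R ≤ normalizer (R' : Set G)) : R = R' := by
  haveI : Fact (Nat.Prime 2) := ⟨Nat.prime_two⟩
  have hp : IsPGroup 2 ↥(R ⊔ R' : Subgroup G) := hR.2.1.to_sup_of_normal_right' hR'.2.1 hle
  exact (max_of_card h (sy_card h hR) hp le_sup_left).symm.trans
    (max_of_card h (sy_card h hR') hp le_sup_right)

theorem orbit_A_mem [Finite G] (h : Full V A S z) {w : G} (hw : w ∈ A) (hw1 : w ≠ 1) :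
    ∃ g ∈ normalizer (A : Set G), g * z * g⁻¹ = w := by
  obtain ⟨g, hg⟩ := invol_fused h (h.loc.sq_A w hw) hw1
  have hC : cj g A ≤ centralizer ({z} : Set G) := by
    intro u hu
    rw [mem_cent', ← hg]
    have := sq_comm h.loc.sq_A (mem_cj.1 hu) hw
    calc u * (g * w * g⁻¹) = g * ((g⁻¹ * u * g) * w) * g⁻¹ := by group
      _ = g * (w * (g⁻¹ * u * g)) * g⁻¹ := by rw [this]
      _ = g * w * g⁻¹ * u := by group
  have hA : IsPGroup 2 A := (S_pgroup h.loc).to_le h.loc.A_le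
  have hS : cj g A ≤ S := le_S h.loc (pgroup_cj g hA) (hC.trans (C_le_NS h.loc))
  have hn : g ∈ normalizer (A : Set G) := by
    rw [mem_norm_iff]
    refine (elem_sub h.loc hS (by rw [card_cj, h.loc.card_A]) (fun u hu => ?_)).resolve_left
      (not_conj h.loc.swap g)
    rw [mem_cj] at hu
    have := congrArg (fun x => g * x * g⁻¹) (h.loc.sq_A _ hu)
    simpa [mul_assoc] using this
  exact ⟨g⁻¹, inv_mem hn, by rw [← hg]; group⟩

theorem C_le_NA [Finite G] (h : Loc V A S z) :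
    centralizer ({z} : Set G) ≤ normalizer (A : Set G) := (C_le_NS h).trans (NS_norm_A h)

theorem conj_fibre (x y w : G) :
    x * w * x⁻¹ = y * w * y⁻¹ ↔ x⁻¹ * y ∈ centralizer ({w} : Set G) := by
  rw [mem_cent]
  constructor
  · intro e
    calc x⁻¹ * y * w * (x⁻¹ * y)⁻¹ = x⁻¹ * (y * w * y⁻¹) * x := by group
      _ = x⁻¹ * (x * w * x⁻¹) * x := by rw [e]
      _ = w := by group
  · intro e
    calc x * w * x⁻¹ = x * (x⁻¹ * y * w * (x⁻¹ * y)⁻¹) * x⁻¹ := by rw [e]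
      _ = y * w * y⁻¹ := by group

theorem cj_fibre (x y : G) (H : Subgroup G) :
    cj x H = cj y H ↔ x⁻¹ * y ∈ normalizer (H : Set G) := by
  rw [mem_norm_iff, ← cj_cj]
  constructor
  · intro e; rw [← e, cj_inv_cj]
  · intro e; conv_lhs => rw [← e, cj_cj_inv]

theorem card_NA [Finite G] (h : Full V A S z) :
    Nat.card ↥(normalizer (A : Set G)) = 2880 := by
  have he := card_fibre (X := normalizer (A : Set G)) (C := centralizer ({z} : Set G))
    (C_le_NA h.loc) (fun g => g * z * g⁻¹) (fun x _ y _ => conj_fibre x y z)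
  have himg : (fun g => g * z * g⁻¹) '' (normalizer (A : Set G) : Set G) =
      ((A : Subgroup G) : Set G) \ {1} := by
    ext w
    constructor
    · rintro ⟨g, hg, rfl⟩
      exact ⟨(mem_normalizer_iff.1 hg z).1 (zA h.loc), fun e => h.loc.z_ne (conj_eq_one.1 e)⟩
    · rintro ⟨hw, hw1⟩
      obtain ⟨g, hg, e⟩ := orbit_A_mem h hw hw1
      exact ⟨g, hg, e⟩
  rw [he, card_C h.loc, himg, Set.ncard_sdiff (Set.singleton_subset_iff.2 (one_mem _)),
    Set.ncard_singleton, ← Nat.card_coe_set_eq, SetLike.coe_sort_coe, h.loc.card_A]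

theorem sy_ncard [Finite G] (h : Full V A S z) : {R : Subgroup G | Sy A R}.ncard = 5 := by
  have he := card_fibre (X := normalizer (A : Set G)) (C := normalizer (S : Set G))
    (NS_norm_A h.loc) (fun g => cj g S) (fun x _ y _ => cj_fibre x y S)
  have himg : (fun g => cj g S) '' (normalizer (A : Set G) : Set G) = {R : Subgroup G | Sy A R} := by
    ext R
    constructor
    · rintro ⟨g, hg, rfl⟩
      exact sy_cj h.loc hg (sy_S h.loc)
    · intro hR
      obtain ⟨g, hg, e⟩ := sy_conj h.loc hR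
      exact ⟨g, hg, e⟩
  rw [card_NA h, card_NS h.loc, himg] at he
  omega

theorem sy_exists [Finite G] (h : Full V A S z) {P : Subgroup G}
    (hP : P ≤ normalizer (A : Set G)) (hp : IsPGroup 2 P) : ∃ R, Sy A R ∧ P ≤ R := by
  haveI : Fact (Nat.Prime 2) := ⟨Nat.prime_two⟩
  obtain ⟨U, hU⟩ := (hp.comap_subtype (K := normalizer (A : Set G))).exists_le_sylow
  set R := (U : Subgroup ↥(normalizer (A : Set G))).map (normalizer (A : Set G)).subtype with hRd
  have hmax : ∀ R' : Subgroup G, R' ≤ normalizer (A : Set G) → IsPGroup 2 R' → R ≤ R' →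
      R' = R := by
    intro R' hR' hp' hle
    have hUe : R'.subgroupOf (normalizer (A : Set G)) = U :=
      U.3 (hp'.comap_subtype (K := normalizer (A : Set G))) (fun x hx => mem_subgroupOf.2 (hle ⟨x, hx, rfl⟩))
    apply le_antisymm _ hle
    intro x hx
    exact ⟨⟨x, hR' hx⟩, hUe ▸ mem_subgroupOf.2 hx, rfl⟩
  obtain ⟨n, hn, e⟩ := conj_of_max (S_norm_V h.loc.swap) (map_subtype_le _) (S_pgroup h.loc)
    (U.2.map _) (fun _ _ hp hle => max_of_card h.loc h.loc.card_S hp hle) hmax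
  have hRS : Sy A R := by
    rw [hRd, ← e]
    exact sy_cj h.loc hn (sy_S h.loc)
  exact ⟨R, hRS,
    fun x hx => ⟨⟨x, hP hx⟩, hU (mem_subgroupOf.2 hx), rfl⟩⟩

theorem cover [Finite G] (h : Full V A S z) {u : G} (hu : u ∈ A) :
    ∃ R, Sy A R ∧ u ∈ centralizer (R : Set G) := by
  by_cases hu1 : u = 1
  · exact ⟨S, sy_S h.loc, hu1 ▸ one_mem _⟩
  obtain ⟨g, hg, rfl⟩ := orbit_A_mem h hu hu1
  refine ⟨cj g S, sy_cj h.loc hg (sy_S h.loc), mem_centralizer_iff.2 fun y hy => ?_⟩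
  have := T_comm h.loc h.loc.mem_z (mem_cj.1 hy)
  calc y * (g * z * g⁻¹) = g * ((g⁻¹ * y * g) * z) * g⁻¹ := by group
    _ = g * (z * (g⁻¹ * y * g)) * g⁻¹ := by rw [this]
    _ = g * z * g⁻¹ * y := by group

theorem cent_norm_sy [Finite G] (h : Loc V A S z) {R : Subgroup G} (hR : Sy A R) {u : G}
    (hu : u ∈ A) (hu1 : u ≠ 1) (huR : u ∈ centralizer (R : Set G)) :
    centralizer ({u} : Set G) ≤ normalizer (R : Set G) := by
  obtain ⟨n, hn, rfl⟩ := sy_conj h hR
  have hA : n⁻¹ * u * n ∈ A := (mem_normalizer_iff''.1 hn u).1 hu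
  have hT : n⁻¹ * u * n ∈ V ⊓ A := by
    rw [← h.center_S]
    refine ⟨h.A_le hA, mem_centralizer_iff.2 fun y hy => ?_⟩
    have := mem_centralizer_iff.1 huR _ (conj_mem_cj (g := n) hy)
    calc y * (n⁻¹ * u * n) = n⁻¹ * (n * y * n⁻¹ * u) * n := by group
      _ = n⁻¹ * (u * (n * y * n⁻¹)) * n := by rw [this]
      _ = n⁻¹ * u * n * y := by group
  have hT1 : n⁻¹ * u * n ≠ 1 := fun e => hu1 (by
    have := congrArg (fun x => n * x * n⁻¹) e
    simpa [mul_assoc] using this)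
  intro c hc
  have hc' : n⁻¹ * c * n ∈ centralizer ({n⁻¹ * u * n} : Set G) := by
    rw [mem_cent'] at hc ⊢
    calc n⁻¹ * c * n * (n⁻¹ * u * n) = n⁻¹ * (c * u) * n := by group
      _ = n⁻¹ * (u * c) * n := by rw [hc]
      _ = n⁻¹ * u * n * (n⁻¹ * c * n) := by group
  have hk := mem_norm_iff.1 ((h.cent _ hT hT1).2 hc')
  rw [mem_norm_iff]
  conv_rhs => rw [← hk]
  rw [cj_cj, cj_cj]
  congr 1
  group

theorem uniq_sy [Finite G] (h : Loc V A S z) {R R' : Subgroup G} (hR : Sy A R) (hR' : Sy A R')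
    {u : G} (hu : u ∈ A) (hu1 : u ≠ 1) (huR : u ∈ centralizer (R : Set G))
    (huR' : u ∈ centralizer (R' : Set G)) : R' = R :=
  sy_le_eq h hR' hR fun _ hy =>
    cent_norm_sy h hR hu hu1 huR (mem_cent'.2 (mem_centralizer_iff.1 huR' _ hy))

theorem cent_A_T [Finite G] (h : Loc V A S z) {v a : G} (hv : v ∈ V) (hvA : v ∉ A) (ha : a ∈ A)
    (hc : a * v = v * a) : a ∈ V ⊓ A := by
  have hsq : v * a * (v * a) = 1 := by
    calc v * a * (v * a) = v * (a * v) * a := by group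
      _ = (v * v) * (a * a) := by rw [hc]; group
      _ = 1 := by rw [h.sq_V v hv, h.sq_A a ha, one_mul]
  rcases h.involutions _ (mul_mem (h.V_le hv) (h.A_le ha)) hsq with h1 | h1
  · exact ⟨(mul_mem_cancel_left hv).1 h1, ha⟩
  · exact absurd ((mul_mem_cancel_right ha).1 h1) hvA

theorem inter_S [Finite G] (h : Full V A S z) {R : Subgroup G} (hR : Sy A R) (hne : R ≠ S) :
    S ⊓ R = A := by
  refine le_antisymm (fun y hy => ?_) (le_inf h.loc.A_le (sy_ge h.loc hR))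
  obtain ⟨v, hv, a, ha, rfl⟩ := split h.loc hy.1
  have hvR : v ∈ R := (mul_mem_cancel_right (sy_ge h.loc hR ha)).1 hy.2
  by_contra hyA
  have hvA : v ∉ A := fun hvA => hyA (mul_mem hvA ha)
  obtain ⟨n, hn, e⟩ := sy_conj h.loc hR
  have hu : n * z * n⁻¹ ∈ centralizer (R : Set G) := by
    refine mem_centralizer_iff.2 fun x hx => ?_
    rw [← e, SetLike.mem_coe, mem_cj] at hx
    have := T_comm h.loc h.loc.mem_z hx
    calc x * (n * z * n⁻¹) = n * ((n⁻¹ * x * n) * z) * n⁻¹ := by group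
      _ = n * (z * (n⁻¹ * x * n)) * n⁻¹ := by rw [this]
      _ = n * z * n⁻¹ * x := by group
  have huA : n * z * n⁻¹ ∈ A := (mem_normalizer_iff.1 hn z).1 (zA h.loc)
  have huT := cent_A_T h.loc hv hvA huA (mem_centralizer_iff.1 hu v hvR).symm
  rw [← h.loc.center_S] at huT
  exact hne (uniq_sy h.loc (sy_S h.loc) hR huA (fun e => h.loc.z_ne (conj_eq_one.1 e)) huT.2 hu)

theorem inter_sy [Finite G] (h : Full V A S z) {R R' : Subgroup G} (hR : Sy A R) (hR' : Sy A R')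
    (hne : R ≠ R') : R ⊓ R' = A := by
  obtain ⟨n, hn, rfl⟩ := sy_conj h.loc hR
  have hR'' := sy_cj h.loc (inv_mem hn) hR'
  have hne' : cj n⁻¹ R' ≠ S := fun e => hne (by rw [← e, cj_cj_inv])
  have := congrArg (cj n) (inter_S h hR'' hne')
  rw [mem_norm_iff.1 hn] at this
  rw [← this]
  ext x
  simp [mem_cj, mul_assoc]

theorem S_inter_norm [Finite G] (h : Full V A S z) {R : Subgroup G} (hR : Sy A R) (hne : R ≠ S)
    {y : G} (hy : y ∈ S) (hn : y ∈ normalizer (R : Set G)) : y ∈ A := by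
  haveI : Fact (Nat.Prime 2) := ⟨Nat.prime_two⟩
  have hp : IsPGroup 2 (zpowers y) := (S_pgroup h.loc).to_le (zpowers_le.2 hy)
  have hsup : IsPGroup 2 ↥(zpowers y ⊔ R : Subgroup G) :=
    hp.to_sup_of_normal_right' hR.2.1 (zpowers_le.2 hn)
  have hR2 : y ∈ R := by
    rw [← max_of_card h.loc (sy_card h.loc hR) hsup le_sup_right]
    exact mem_sup_left (mem_zpowers y)
  rw [← inter_S h hR hne]
  exact ⟨hy, hR2⟩

theorem trans_V [Finite G] (h : Full V A S z) {R R' : Subgroup G} (hR : Sy A R) (hne : R ≠ S)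
    (hR' : Sy A R') (hne' : R' ≠ S) : ∃ v ∈ V, cj v R = R' := by
  have hVN : V ≤ normalizer (A : Set G) := h.loc.V_le.trans (S_norm_V h.loc.swap)
  have he := card_fibre (X := V) (C := V ⊓ A) inf_le_left (fun v => cj v R) (fun x hx y hy => by
    rw [cj_fibre]
    refine ⟨fun hn => mem_inf.2 ⟨mul_mem (inv_mem hx) hy,
      S_inter_norm h hR hne (h.loc.V_le (mul_mem (inv_mem hx) hy)) hn⟩, fun hm => ?_⟩
    exact le_normalizer (sy_ge h.loc hR hm.2))
  have hsub : (fun v => cj v R) '' (V : Set G) ⊆ {Q : Subgroup G | Sy A Q} \ {S} := by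
    rintro _ ⟨v, hv, rfl⟩
    refine ⟨sy_cj h.loc (hVN hv) hR, fun e => hne ?_⟩
    rw [Set.mem_singleton_iff] at e
    exact cj_inj v (e.trans (cj_of_mem (h.loc.V_le hv)).symm)
  have hcard : ({Q : Subgroup G | Sy A Q} \ {S}).ncard = 4 := by
    rw [Set.ncard_sdiff (Set.singleton_subset_iff.2 (show S ∈ {Q : Subgroup G | Sy A Q} from sy_S h.loc)), sy_ncard h,
      Set.ncard_singleton]
  have heq := Set.eq_of_subset_of_ncard_le hsub (by
    rw [hcard]
    rw [h.loc.card_V, h.loc.card_inter] at he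
    omega) (Set.toFinite _)
  have hm : R' ∈ (fun v => cj v R) '' (V : Set G) := by rw [heq]; exact ⟨hR', hne'⟩
  obtain ⟨v, hv, e⟩ := hm
  exact ⟨v, hv, e⟩

theorem exists_swap [Finite G] (h : Full V A S z) {R : Subgroup G} (hR : Sy A R) (hne : R ≠ S) :
    ∃ s, s * s = 1 ∧ s ∈ normalizer (A : Set G) ∧ cj s S = R ∧ cj s R = S := by
  obtain ⟨R2, hR2, hn1, hn2⟩ : ∃ R2, Sy A R2 ∧ R2 ≠ S ∧ R2 ≠ R := by
    by_contra hc
    push Not at hc
    have hsub : {Q : Subgroup G | Sy A Q} ⊆ {S, R} := fun Q hQ => by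
      by_cases e : Q = S
      · exact Or.inl e
      · exact Or.inr (hc Q hQ e)
    have := Set.ncard_le_ncard hsub (Set.toFinite _)
    rw [sy_ncard h, Set.ncard_pair (Ne.symm hne)] at this
    omega
  obtain ⟨g, hg, rfl⟩ := sy_conj h.loc hR2
  have hx : ∀ {Q : Subgroup G}, cj g S ≠ Q → cj g⁻¹ Q ≠ S := fun hQ e => hQ (by
    rw [← e, cj_cj_inv])
  obtain ⟨v, hv, e⟩ := trans_V h (sy_cj h.loc (inv_mem hg) (sy_S h.loc)) (hx hn1)
    (sy_cj h.loc (inv_mem hg) hR) (hx hn2)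
  have h1 : g * v * g⁻¹ * (g * v * g⁻¹) = 1 := by
    calc g * v * g⁻¹ * (g * v * g⁻¹) = g * (v * v) * g⁻¹ := by group
      _ = 1 := by rw [h.loc.sq_V v hv]; group
  have h2 : cj (g * v * g⁻¹) S = R := by rw [← cj_cj, ← cj_cj, e, cj_cj_inv]
  refine ⟨g * v * g⁻¹, h1, mul_mem (mul_mem hg (S_norm_V h.loc.swap (h.loc.V_le hv)))
    (inv_mem hg), h2, ?_⟩
  conv_lhs => rw [← h2]
  rw [cj_cj, h1, cj_one]

/-- An element of `C(z)` whose conjugate by `s` also centralizes `z` lies in `A`. -/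
theorem ker_A [Finite G] (h : Full V A S z) {R : Subgroup G} (hR : Sy A R) (hne : R ≠ S) {s g : G}
    (hs : s * s = 1) (hsN : s ∈ normalizer (A : Set G)) (hsS : cj s S = R)
    (hg : g ∈ centralizer ({z} : Set G)) (hg' : s * g * s ∈ centralizer ({z} : Set G)) : g ∈ A := by
  have hsi : s⁻¹ = s := inv_of_sq hs
  have hle : cj s (V ⊓ A) ≤ A :=
    (cj_mono s inf_le_right).trans (mem_norm_iff.1 hsN).le
  have hbot : (V ⊓ A) ⊓ cj s (V ⊓ A) = ⊥ := by
    rw [eq_bot_iff]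
    intro u huu
    obtain ⟨hu, hu'⟩ := mem_inf.1 huu
    rw [mem_bot]
    by_contra hu1
    apply hne
    have h1 : u ∈ centralizer (S : Set G) := by
      rw [← h.loc.center_S] at hu; exact hu.2
    refine uniq_sy h.loc (sy_S h.loc) hR hu.2 hu1 h1 (mem_centralizer_iff.2 fun y hy => ?_)
    rw [mem_cj] at hu'
    rw [← hsS, SetLike.mem_coe, mem_cj] at hy
    have := T_comm h.loc hu' hy
    calc y * u = s * ((s⁻¹ * y * s) * (s⁻¹ * u * s)) * s⁻¹ := by group
      _ = s * ((s⁻¹ * u * s) * (s⁻¹ * y * s)) * s⁻¹ := by rw [this]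
      _ = u * y := by group
  have hmem : g ∈ centralizer (A : Set G) := by
    refine mem_centralizer_iff.2 fun a ha => ?_
    obtain ⟨x, hx, y, hy, rfl⟩ := exists_mul (inf_le_right (a := V)) hle (by
      rw [card_cj, h.loc.card_inter, hbot, card_bot, h.loc.card_A]) ha
    rw [mem_cj, hsi] at hy
    have e1 : g * x * g⁻¹ = x := C_fix h.loc hg hx
    have e2 : (s * g * s) * (s * y * s) * (s * g * s)⁻¹ = s * y * s := C_fix h.loc hg' hy
    have e3 : g * y * g⁻¹ = y := by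
      have hss : ∀ w : G, s * (s * w) = w := fun w => by rw [← mul_assoc, hs, one_mul]
      have := congrArg (fun w => s * w * s) e2
      simpa [mul_assoc, mul_inv_rev, hsi, hss, hs] using this
    symm
    calc g * (x * y) = (g * x * g⁻¹) * (g * y * g⁻¹) * g := by group
      _ = x * y * g := by rw [e1, e3]
  rwa [h.loc.cent_A] at hmem

theorem stab_swap {s g : G} {R : Subgroup G} (hs : s * s = 1) (h1 : cj s S = R) (h2 : cj s R = S)
    (hg : cj g S = S) (hg' : cj g R = R) : cj (s * g * s) S = S ∧ cj (s * g * s) R = R :=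
  ⟨by rw [← cj_cj, ← cj_cj, h1, hg', h2], by rw [← cj_cj, ← cj_cj, h2, hg, h1]⟩

theorem comm_A [Finite G] (h : Full V A S z) {R : Subgroup G} (hR : Sy A R) (hne : R ≠ S) {s g g' : G}
    (hs : s * s = 1) (hsN : s ∈ normalizer (A : Set G)) (hsS : cj s S = R) (hsR : cj s R = S)
    (hg : cj g S = S) (hgR : cj g R = R) (hg' : cj g' S = S) (hgR' : cj g' R = R) :
    g * g' * g⁻¹ * g'⁻¹ ∈ A := by
  refine ker_A h hR hne hs hsN hsS (comm_mem h.loc (mem_norm_iff.2 hg) (mem_norm_iff.2 hg')) ?_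
  have := comm_mem h.loc (mem_norm_iff.2 (stab_swap hs hsS hsR hg hgR).1)
    (mem_norm_iff.2 (stab_swap hs hsS hsR hg' hgR').1)
  have hsi : s⁻¹ = s := inv_of_sq hs
  have hss : ∀ w : G, s * (s * w) = w := fun w => by rw [← mul_assoc, hs, one_mul]
  simpa [mul_assoc, mul_inv_rev, hsi, hss] using this

theorem fix_A [Finite G] (h : Full V A S z) {m a : G} (hm : m ∈ centralizer ({z} : Set G))
    (hm2 : m ^ 2 ≠ 1) (ha : a ∈ A) (hc : m * a = a * m) : a ∈ V ⊓ A := by
  by_contra hT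
  have ha1 : a ≠ 1 := fun e => hT (e ▸ one_mem _)
  obtain ⟨R, hR, haR⟩ := cover h ha
  have hne : R ≠ S := fun e => hT (by
    rw [← h.loc.center_S]; exact ⟨h.loc.A_le ha, e ▸ haR⟩)
  obtain ⟨s, hs, hsN, hsS, hsR⟩ := exists_swap h hR hne
  have hsi : s⁻¹ = s := inv_of_sq hs
  have hta : s * a * s ∈ V ⊓ A := by
    rw [← h.loc.center_S]
    refine ⟨h.loc.A_le ?_, mem_centralizer_iff.2 fun y hy => ?_⟩
    · have := (mem_normalizer_iff.1 hsN a).1 ha
      rwa [hsi] at this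
    · have hyR : s * y * s⁻¹ ∈ R := hsS ▸ conj_mem_cj hy
      rw [hsi] at hyR
      have := mem_centralizer_iff.1 haR _ hyR
      calc y * (s * a * s) = s⁻¹ * ((s * y * s) * a) * s := by rw [hsi]; simp [← mul_assoc, hs]
        _ = s⁻¹ * (a * (s * y * s)) * s := by rw [this]
        _ = s * a * s * y * (s * s) := by rw [hsi]; group
        _ = s * a * s * y := by rw [hs, mul_one]
  have hta1 : s * a * s ≠ 1 := fun e => ha1 (by
    rw [← hsi] at e; exact conj_eq_one.1 (by rwa [hsi] at e ⊢))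
  have hms : s * m * s ∈ centralizer ({z} : Set G) := by
    rw [← cent_eq h.loc hta hta1, mem_cent']
    calc s * m * s * (s * a * s) = s * (m * ((s * s) * a)) * s := by group
      _ = s * (a * ((s * s) * m)) * s := by rw [hs, one_mul, one_mul, hc]
      _ = s * a * s * (s * m * s) := by group
  have := h.loc.sq_A m (ker_A h hR hne hs hsN hsS hm hms)
  exact hm2 (by rw [pow_two, this])

theorem fix_S [Finite G] (h : Full V A S z) {m y : G} (hm : m ∈ centralizer ({z} : Set G))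
    (hm3 : orderOf m = 3) (hy : y ∈ S) (hc : m * y = y * m) : y ∈ V ⊓ A := by
  have hm2 : m ^ 2 ≠ 1 := fun e => by
    have := orderOf_le_of_pow_eq_one (by norm_num : 0 < 2) e; omega
  have h3 : m ^ 3 = 1 := hm3 ▸ pow_orderOf_eq_one m
  obtain ⟨v, hv, a, ha, rfl⟩ := split h.loc hy
  have hmv : m * v * m⁻¹ ∈ V :=
    (mem_normalizer_iff.1 (NS_norm_V h.loc (C_le_NS h.loc hm)) v).1 hv
  have hma : m * a * m⁻¹ ∈ A :=
    (mem_normalizer_iff.1 (NS_norm_A h.loc (C_le_NS h.loc hm)) a).1 ha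
  have hvi := inv_of_sq (h.loc.sq_V v hv)
  have e : v⁻¹ * (m * v * m⁻¹) = a * (m * a * m⁻¹)⁻¹ := by
    have e0 : (m * v * m⁻¹) * (m * a * m⁻¹) = v * a := by
      calc (m * v * m⁻¹) * (m * a * m⁻¹) = m * (v * a) * m⁻¹ := by group
        _ = v * a := by rw [hc, mul_inv_cancel_right]
    calc v⁻¹ * (m * v * m⁻¹) = v⁻¹ * ((m * v * m⁻¹) * (m * a * m⁻¹)) * (m * a * m⁻¹)⁻¹ := by group
      _ = a * (m * a * m⁻¹)⁻¹ := by rw [e0]; group
  have ht : v⁻¹ * (m * v * m⁻¹) ∈ V ⊓ A :=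
    mem_inf.2 ⟨mul_mem (inv_mem hv) hmv, e ▸ mul_mem ha (inv_mem hma)⟩
  set t := v⁻¹ * (m * v * m⁻¹) with htd
  have hmt := C_fix h.loc hm ht
  have e1 : m * v * m⁻¹ = v * t := by rw [htd, mul_inv_cancel_left]
  have e2 : m * (v * t) * m⁻¹ = v * (t * t) := by
    calc m * (v * t) * m⁻¹ = (m * v * m⁻¹) * (m * t * m⁻¹) := by group
      _ = v * (t * t) := by rw [e1, hmt, mul_assoc]
  have e3 : v * t = v := by
    calc v * t = m * v * m⁻¹ := e1.symm
      _ = m * (m * (v * t) * m⁻¹) * m⁻¹ := by rw [e2, h.loc.sq_V t ht.1, mul_one]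
      _ = m * (m * (m * v * m⁻¹) * m⁻¹) * m⁻¹ := by rw [e1]
      _ = m ^ 3 * v * (m ^ 3)⁻¹ := by simp [pow_succ, mul_assoc]
      _ = v := by rw [h3]; group
  have hvT : v ∈ V ⊓ A := by
    have := fix_A h.swap hm hm2 hv (mul_inv_eq_iff_eq_mul.1 (e1.trans e3))
    rwa [inf_comm] at this
  refine mul_mem hvT (fix_A h hm hm2 ha ?_)
  have hmv2 : m * v = v * m := mul_inv_eq_iff_eq_mul.1 (e1.trans e3)
  calc m * a = v⁻¹ * (v * m) * a := by group
    _ = v⁻¹ * (m * (v * a)) := by rw [← hmv2]; group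
    _ = a * m := by rw [hc]; group

/-- An element of order `3` of `C(z)` is not conjugate to its inverse. -/
theorem no_inv [Finite G] (h : Full V A S z) {m n : G} (hm : m ∈ centralizer ({z} : Set G))
    (hm3 : orderOf m = 3) (hn : n * m * n⁻¹ = m⁻¹) : False := by
  have hTp : IsPGroup 2 ↥(V ⊓ A : Subgroup G) :=
    (S_pgroup h.loc).to_le (inf_le_left.trans h.loc.V_le)
  have hTle : V ⊓ A ≤ centralizer ({m} : Set G) := fun t ht =>
    mem_cent'.2 (mul_inv_eq_iff_eq_mul.1 (C_fix h.loc hm ht)).symm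
  have hmax : ∀ P : Subgroup G, P ≤ centralizer ({m} : Set G) → IsPGroup 2 P → V ⊓ A ≤ P →
      P = V ⊓ A := by
    intro P hP hp hle
    haveI : Fact (Nat.Prime 2) := ⟨Nat.prime_two⟩
    haveI : Group.IsNilpotent P := hp.isNilpotent
    by_contra hne
    have hlt : (V ⊓ A).subgroupOf P < ⊤ := by
      rw [lt_top_iff_ne_top, Ne, subgroupOf_eq_top]
      exact fun hc => hne (le_antisymm hc hle)
    obtain ⟨y, hy, hy'⟩ := SetLike.exists_of_lt (Group.normalizerCondition_of_isNilpotent _ hlt)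
    rw [mem_subgroupOf] at hy'
    have hz' : (y : G) * z * (y : G)⁻¹ ∈ V ⊓ A := by
      have := (mem_normalizer_iff.1 hy ⟨z, hle h.loc.mem_z⟩).1 (mem_subgroupOf.2 h.loc.mem_z)
      simpa [mem_subgroupOf] using this
    have hyN := NS_of_move h.loc h.loc.mem_z hz' (fun e => h.loc.z_ne (conj_eq_one.1 e)) rfl
    have hyS : (y : G) ∈ S :=
      le_S h.loc (hp.to_le (zpowers_le.2 y.2)) (zpowers_le.2 hyN) (mem_zpowers _)
    exact hy' (fix_S h hm hm3 hyS (mem_cent'.1 (hP y.2)).symm)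
  have hnm : n⁻¹ * m * n = m⁻¹ := by
    have e1 : n * m⁻¹ * n⁻¹ = m := by
      calc n * m⁻¹ * n⁻¹ = (n * m * n⁻¹)⁻¹ := by group
        _ = m := by rw [hn, inv_inv]
    calc n⁻¹ * m * n = n⁻¹ * (n * m⁻¹ * n⁻¹) * n := by rw [e1]
      _ = m⁻¹ := by group
  have hcj : ∀ {k : G}, k⁻¹ * m * k = m⁻¹ → ∀ {P : Subgroup G},
      P ≤ centralizer ({m} : Set G) → cj k P ≤ centralizer ({m} : Set G) := by
    intro k hk P hP x hx
    have h1 : Commute (k⁻¹ * x * k) (k⁻¹ * m * k) := by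
      rw [hk]; exact Commute.inv_right (mem_cent'.1 (hP (mem_cj.1 hx)))
    rw [mem_cent']
    calc x * m = k * ((k⁻¹ * x * k) * (k⁻¹ * m * k)) * k⁻¹ := by group
      _ = k * ((k⁻¹ * m * k) * (k⁻¹ * x * k)) * k⁻¹ := by rw [h1.eq]
      _ = m * x := by group
  obtain ⟨c, hc, e⟩ := conj_of_max (hcj hnm hTle) hTle (pgroup_cj n hTp) hTp
    (fun R hR hp hle => by
      have h1 := hmax (cj n⁻¹ R) (hcj (by rw [inv_inv]; exact hn) hR) (pgroup_cj _ hp)
        (fun t ht => by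
          rw [mem_cj, inv_inv]
          exact hle (conj_mem_cj ht))
      rw [← h1, cj_cj_inv]) hmax
  rw [cj_cj] at e
  have hgz : c * n * z * (c * n)⁻¹ ∈ V ⊓ A := by
    have := conj_mem_cj (g := c * n) h.loc.mem_z
    rwa [e] at this
  have hgN := NS_of_move h.loc h.loc.mem_z hgz (fun e => h.loc.z_ne (conj_eq_one.1 e)) rfl
  have hgm : c * n * m * (c * n)⁻¹ = m⁻¹ := by
    have : Commute c m⁻¹ := Commute.inv_right (mem_cent'.1 hc)
    calc c * n * m * (c * n)⁻¹ = c * (n * m * n⁻¹) * c⁻¹ := by group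
      _ = m⁻¹ := by rw [hn, this.eq, mul_inv_cancel_right]
  have h9 := nine_mem h.loc hgN
  set g := c * n with hg
  have h2 : g ^ 2 * m * (g ^ 2)⁻¹ = m := by
    calc g ^ 2 * m * (g ^ 2)⁻¹ = g * (g * m * g⁻¹) * g⁻¹ := by simp [pow_two, mul_assoc]
      _ = g * m⁻¹ * g⁻¹ := by rw [hgm]
      _ = (g * m * g⁻¹)⁻¹ := by group
      _ = m := by rw [hgm, inv_inv]
  have h8 : Commute (g ^ 8) m := by
    rw [show g ^ 8 = (g ^ 2) ^ 4 by rw [← pow_mul]]
    exact Commute.pow_left (mul_inv_eq_iff_eq_mul.1 h2) 4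
  have h9m : g ^ 9 * m * (g ^ 9)⁻¹ = m⁻¹ := by
    calc g ^ 9 * m * (g ^ 9)⁻¹ = g * (g ^ 8 * m * (g ^ 8)⁻¹) * g⁻¹ := by
          rw [pow_succ' g 8]; group
      _ = m⁻¹ := by rw [h8.eq, mul_inv_cancel_right, hgm]
  have hmS : m⁻¹ * m⁻¹ ∈ S := by
    have hmN := C_le_NS h.loc hm
    have h1 : m * (g ^ 9)⁻¹ * m⁻¹ ∈ S := (mem_normalizer_iff.1 hmN _).1 (inv_mem h9)
    have := mul_mem h9 h1
    have e' : g ^ 9 * (m * (g ^ 9)⁻¹ * m⁻¹) = m⁻¹ * m⁻¹ := by
      rw [← mul_assoc, ← mul_assoc, h9m]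
    rwa [e'] at this
  have hmm : m = m⁻¹ * m⁻¹ := by
    have h3 : m ^ 3 = 1 := hm3 ▸ pow_orderOf_eq_one m
    calc m = m⁻¹ * m⁻¹ * m ^ 3 := by group
      _ = m⁻¹ * m⁻¹ := by rw [h3, mul_one]
  rw [← hmm] at hmS
  obtain ⟨k, hk⟩ := S_pgroup h.loc ⟨m, hmS⟩
  have hdvd : orderOf m ∣ 2 ^ k := orderOf_dvd_of_pow_eq_one (congrArg Subtype.val hk)
  rw [hm3] at hdvd
  exact absurd (Nat.prime_three.dvd_of_dvd_pow hdvd) (by norm_num)

/-- An inverted element of order `3` is regular. -/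
theorem regular_of_inv [Finite G] (h : Full V A S z) {m n : G} (hm3 : orderOf m = 3)
    (hn : n * m * n⁻¹ = m⁻¹) : Regular m := by
  intro x hx hc
  have hxx : x * x = 1 := by rw [← pow_two, ← hx]; exact pow_orderOf_eq_one x
  have hx1 : x ≠ 1 := fun e => by rw [e, orderOf_one] at hx; omega
  obtain ⟨g, hg⟩ := invol_fused h hxx hx1
  refine no_inv h (m := g * m * g⁻¹) (n := g * n * g⁻¹) ?_ ?_ ?_
  · rw [mem_cent', ← hg]
    calc g * m * g⁻¹ * (g * x * g⁻¹) = g * (m * x) * g⁻¹ := by group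
      _ = g * (x * m) * g⁻¹ := by rw [hc.eq]
      _ = g * x * g⁻¹ * (g * m * g⁻¹) := by group
  · rw [← hm3]
    exact MulEquiv.orderOf_eq (MulAut.conj g) m
  · calc g * n * g⁻¹ * (g * m * g⁻¹) * (g * n * g⁻¹)⁻¹ = g * (n * m * n⁻¹) * g⁻¹ := by group
      _ = (g * m * g⁻¹)⁻¹ := by rw [hn]; group

theorem regular_inv {m : G} (hm : Regular m) : Regular m⁻¹ := fun x hx hc =>
  hm x hx (by simpa using hc.inv_right)

/-- A regular element acting on `A` moves the coset `hA` transitively. -/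
theorem coset_conj [Finite G] (h : Loc V A S z) {m a : G} (hm : Regular m)
    (hmN : m ∈ normalizer (A : Set G)) (ha : a ∈ A) : ∃ b ∈ A, b * m * b⁻¹ = m * a := by
  have hmem : ∀ b ∈ A, m⁻¹ * b * m * b⁻¹ ∈ A := fun b hb =>
    mul_mem ((mem_normalizer_iff''.1 hmN b).1 hb) (inv_mem hb)
  let f : A → A := fun b => ⟨m⁻¹ * b * m * (b : G)⁻¹, hmem b b.2⟩
  have hf : Function.Injective f := by
    intro b b' e
    have e' : (b : G) * m * (b : G)⁻¹ = b' * m * (b' : G)⁻¹ := by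
      have := congrArg (fun w : A => m * (w : G)) e
      simpa [f, mul_assoc] using this
    by_contra hne
    have hu : (b' : G)⁻¹ * b ∈ A := mul_mem (inv_mem b'.2) b.2
    have hu1 : (b' : G)⁻¹ * b ≠ 1 := fun e1 => hne (Subtype.ext (inv_mul_eq_one.1 e1).symm)
    refine hm _ (orderOf_eq_prime (by rw [pow_two]; exact h.sq_A _ hu) hu1)
      (mul_inv_eq_iff_eq_mul.1 ?_)
    calc (b' : G)⁻¹ * b * m * ((b' : G)⁻¹ * b)⁻¹
        = (b' : G)⁻¹ * ((b : G) * m * (b : G)⁻¹) * b' := by group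
      _ = m := by rw [e']; group
  obtain ⟨b, hb⟩ := Finite.surjective_of_injective hf ⟨a, ha⟩
  refine ⟨b, b.2, ?_⟩
  have := congrArg (fun w : A => m * (w : G)) hb
  simpa [f, mul_assoc] using this

theorem exists_inverter [Finite G] (h : Full V A S z) {R : Subgroup G} (hR : Sy A R) (hne : R ≠ S)
    {m : G} (hm3 : orderOf m = 3) (hreg : Regular m) (hmN : m ∈ normalizer (A : Set G))
    (hmS : cj m S = S) (hmR : cj m R = R) :
    ∃ s, s * s = 1 ∧ s ∈ normalizer (A : Set G) ∧ cj s S = R ∧ cj s R = S ∧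
      s * m * s⁻¹ = m⁻¹ := by
  obtain ⟨s, hs, hsN, hsS, hsR⟩ := exists_swap h hR hne
  have hsi : s⁻¹ = s := inv_of_sq hs
  have hss : ∀ w : G, s * (s * w) = w := fun w => by rw [← mul_assoc, hs, one_mul]
  have hreg' : ∀ u : G, u * u = 1 → u ≠ 1 → u * m = m * u → False := fun u h1 h2 h3 =>
    hreg u (orderOf_eq_prime (by rw [pow_two]; exact h1) h2) h3
  have hmc : m ∉ centralizer ({z} : Set G) := fun hc =>
    hreg' z (h.loc.sq_A z (zA h.loc)) h.loc.z_ne (mem_cent'.1 hc).symm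
  have hmc' : s * m * s ∉ centralizer ({z} : Set G) := fun hc => by
    refine hreg' (s * z * s) ?_ ?_ ?_
    · calc s * z * s * (s * z * s) = s * (z * ((s * s) * z)) * s := by group
        _ = 1 := by rw [hs, one_mul, h.loc.sq_A z (zA h.loc), mul_one, hs]
    · intro e
      exact h.loc.z_ne (conj_eq_one.1 (by rw [hsi]; exact e))
    · have := congrArg (fun w => s * w * s) (mem_cent'.1 hc)
      simp [mul_assoc, hss] at this ⊢
      rw [this]
      simp [hs]
  obtain ⟨hs1, hs2⟩ := stab_swap hs hsS hsR hmS hmR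
  have hcontra : ∀ w : G, w * w ∈ A → Commute w m → w ∉ A → False := by
    intro w hw hwm hwA
    have h2 : Commute (w * w) m := hwm.mul_left hwm
    by_cases h1 : w * w = 1
    · exact hreg' w h1 (fun e => hwA (e ▸ one_mem _)) hwm
    · exact hreg' _ (h.loc.sq_A _ hw) h1 h2
  have hsA : ∀ b ∈ A, (b⁻¹ * s) * (b⁻¹ * s) ∈ A := by
    intro b hb
    have h1 : s * b⁻¹ * s⁻¹ ∈ A := (mem_normalizer_iff.1 hsN _).1 (inv_mem hb)
    have := mul_mem (inv_mem hb) h1
    rw [hsi] at this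
    simpa [mul_assoc] using this
  have hsnA : s ∉ A := fun hc => hne (by rw [← hsS, cj_of_mem (h.loc.A_le hc)])
  rcases exists_pow h.loc (mem_norm_iff.2 hmS) hmc (mem_norm_iff.2 hs1) with e | e | e
  · exact absurd e hmc'
  · exfalso
    have h2 : s * (m⁻¹ * (s * m * s)) * s ∈ centralizer ({z} : Set G) := by
      have := inv_mem e
      simpa [mul_assoc, mul_inv_rev, hsi, hss, hs] using this
    obtain ⟨b, hb, hb'⟩ := coset_conj h.loc hreg hmN (ker_A h hR hne hs hsN hsS e h2)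
    rw [mul_inv_cancel_left] at hb'
    refine hcontra (b⁻¹ * s) (hsA b hb) ?_ (fun hc => hsnA ((mul_mem_cancel_left (inv_mem hb)).1 hc))
    show b⁻¹ * s * m = m * (b⁻¹ * s)
    have := congrArg (fun w => b⁻¹ * w * s) hb'
    simp [mul_assoc] at this
    calc b⁻¹ * s * m = b⁻¹ * (s * m * s) * s := by simp [mul_assoc, hs]
      _ = m * (b⁻¹ * s) := by simp [mul_assoc, hs] at this ⊢; exact this.symm
  · have h2 : s * (m * (s * m * s)) * s ∈ centralizer ({z} : Set G) := by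
      have := C_normal h.loc (mem_norm_iff.2 hs1) e
      simpa [mul_assoc, mul_inv_rev, hsi, hss, hs] using this
    obtain ⟨b, hb, hb'⟩ := coset_conj h.loc (regular_inv hreg) (inv_mem hmN)
      (ker_A h hR hne hs hsN hsS e h2)
    rw [inv_mul_cancel_left] at hb'
    have hsm : (b⁻¹ * s) * m * (b⁻¹ * s)⁻¹ = m⁻¹ := by
      calc (b⁻¹ * s) * m * (b⁻¹ * s)⁻¹ = b⁻¹ * (s * m * s⁻¹) * b := by group
        _ = b⁻¹ * (s * m * s) * b := by rw [hsi]
        _ = m⁻¹ := by rw [← hb']; group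
    refine ⟨b⁻¹ * s, ?_, mul_mem (le_normalizer (inv_mem hb)) hsN, ?_, ?_, hsm⟩
    · by_contra h1
      refine hreg' _ (h.loc.sq_A _ (hsA b hb)) h1 (mul_inv_eq_iff_eq_mul.1 ?_)
      calc b⁻¹ * s * (b⁻¹ * s) * m * (b⁻¹ * s * (b⁻¹ * s))⁻¹
          = (b⁻¹ * s) * ((b⁻¹ * s) * m * (b⁻¹ * s)⁻¹) * (b⁻¹ * s)⁻¹ := by group
        _ = (b⁻¹ * s) * m⁻¹ * (b⁻¹ * s)⁻¹ := by rw [hsm]
        _ = ((b⁻¹ * s) * m * (b⁻¹ * s)⁻¹)⁻¹ := by group
        _ = m := by rw [hsm, inv_inv]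
    · rw [← cj_cj, hsS, cj_of_mem (sy_ge h.loc hR (inv_mem hb))]
    · rw [← cj_cj, hsR, cj_of_mem (h.loc.A_le (inv_mem hb))]

theorem exists_reg [Finite G] (h : Full V A S z) {R : Subgroup G} (hR : Sy A R) (hne : R ≠ S) :
    ∃ m, orderOf m = 3 ∧ Regular m ∧ m ∈ normalizer (A : Set G) ∧ cj m S = S ∧ cj m R = R := by
  obtain ⟨s, hs, hsN, hsS, hsR⟩ := exists_swap h hR hne
  have hsi : s⁻¹ = s := inv_of_sq hs
  have hss : ∀ w : G, s * (s * w) = w := fun w => by rw [← mul_assoc, hs, one_mul]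
  obtain ⟨r, hrC, hrR, hrS⟩ : ∃ r ∈ centralizer ({z} : Set G), cj r R = R ∧ r ∉ S := by
    by_contra hc
    push Not at hc
    have hle : centralizer ({z} : Set G) ≤ S := by
      intro c hcC
      have hcS : cj c S = S := mem_norm_iff.1 (C_le_NS h.loc hcC)
      obtain ⟨v, hv, e⟩ := trans_V h hR hne (sy_cj h.loc (C_le_NA h.loc hcC) hR) (fun e => hne
        (cj_inj c (e.trans hcS.symm)))
      have h1 : v⁻¹ * c ∈ S := hc _ (mul_mem (inv_mem (S_le_C h.loc (h.loc.V_le hv))) hcC)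
        (by rw [← cj_cj, ← e, cj_inv_cj])
      simpa using mul_mem (h.loc.V_le hv) h1
    have := Nat.le_of_dvd Nat.card_pos (card_dvd_of_le hle)
    rw [card_C h.loc, h.loc.card_S] at this
    omega
  have hrS' : cj r S = S := mem_norm_iff.1 (C_le_NS h.loc hrC)
  obtain ⟨hq1, hq2⟩ := stab_swap hs hsS hsR hrS' hrR
  have hqC : s * r * s ∉ centralizer ({z} : Set G) := fun hc =>
    hrS (h.loc.A_le (ker_A h hR hne hs hsN hsS hrC hc))
  set x := r * (s * r * s)⁻¹ with hx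
  have hxS : cj x S = S := by
    rw [hx, ← cj_cj]
    conv_rhs => rw [← hrS']
    congr 1
    conv_lhs => rw [← hq1, cj_inv_cj]
  have hxR : cj x R = R := by
    rw [hx, ← cj_cj]
    conv_rhs => rw [← hrR]
    congr 1
    conv_lhs => rw [← hq2, cj_inv_cj]
  have hxi : s * x * s⁻¹ = x⁻¹ := by
    simp [hx, mul_assoc, mul_inv_rev, hsi, hss, hs]
  have hxC : x ∉ centralizer ({z} : Set G) := fun hc =>
    hqC (inv_mem_iff.1 ((mul_mem_cancel_left hrC).1 hc))
  have h3 : x ^ 3 ∈ A := by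
    refine ker_A h hR hne hs hsN hsS (cube_mem h.loc (mem_norm_iff.2 hxS)) ?_
    have e : s * x ^ 3 * s = (x ^ 3)⁻¹ := by
      rw [← inv_pow, ← hxi, conj_pow, hsi]
    rw [e]
    exact inv_mem (cube_mem h.loc (mem_norm_iff.2 hxS))
  have h6 : (x ^ 2) ^ 3 = 1 := by
    rw [← pow_mul, show 2 * 3 = 3 * 2 by rfl, pow_mul, pow_two]
    exact h.loc.sq_A _ h3
  have h2 : x ^ 2 ≠ 1 := fun e => hxC (by
    have e' : x ^ 3 = x := by rw [pow_succ, e, one_mul]
    exact e' ▸ (S_le_C h.loc (h.loc.A_le h3)))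
  have hm3 : orderOf (x ^ 2) = 3 := orderOf_eq_prime h6 h2
  have hinv : s * x ^ 2 * s⁻¹ = (x ^ 2)⁻¹ := by rw [← inv_pow, ← hxi, conj_pow]
  refine ⟨x ^ 2, hm3, regular_of_inv h hm3 hinv, ?_, ?_, ?_⟩
  · exact NS_norm_A h.loc (pow_mem (mem_norm_iff.2 hxS) 2)
  · exact mem_norm_iff.1 (pow_mem (mem_norm_iff.2 hxS) 2)
  · exact mem_norm_iff.1 (pow_mem (mem_norm_iff.2 hxR) 2)

theorem no_fixed [Finite G] (h : Full V A S z) {m : G} (hm3 : orderOf m = 3) (hreg : Regular m)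
    (hmN : m ∈ normalizer (A : Set G)) (hfix : ∀ R, Sy A R → cj m R = R) : False := by
  let K : Subgroup G :=
    { carrier := {g | g ∈ normalizer (A : Set G) ∧ ∀ R, Sy A R → cj g R = R}
      one_mem' := ⟨one_mem _, fun R _ => cj_one R⟩
      mul_mem' := fun {a b} ha hb => ⟨mul_mem ha.1 hb.1, fun R hR => by
        rw [← cj_cj, hb.2 R hR, ha.2 R hR]⟩
      inv_mem' := fun {a} ha => ⟨inv_mem ha.1, fun R hR => by
        conv_lhs => rw [← ha.2 R hR, cj_inv_cj]⟩ }
  obtain ⟨R, hR, hne⟩ : ∃ R, Sy A R ∧ R ≠ S := by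
    by_contra hc
    push Not at hc
    have hsub : {Q : Subgroup G | Sy A Q} ⊆ {S} := fun Q hQ => Set.mem_singleton_iff.2 (hc Q hQ)
    have := Set.ncard_le_ncard hsub (Set.toFinite _)
    rw [sy_ncard h, Set.ncard_singleton] at this
    omega
  obtain ⟨s, hs, hsN, hsS, hsR⟩ := exists_swap h hR hne
  have hsi : s⁻¹ = s := inv_of_sq hs
  have hAK : A ≤ K := fun a ha =>
    ⟨le_normalizer ha, fun Q hQ => cj_of_mem (sy_ge h.loc hQ ha)⟩
  have hzR : ∀ y ∈ R, y * (s * z * s) = s * z * s * y := by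
    intro y hy
    rw [← hsS, mem_cj, hsi] at hy
    have := T_comm h.loc h.loc.mem_z hy
    calc y * (s * z * s) = s * ((s * y * s) * z) * s := by simp [← mul_assoc, hs]
      _ = s * (z * (s * y * s)) * s := by rw [this]
      _ = s * z * s * y := by simp [mul_assoc, hs]
  have hker : ∀ g ∈ K, g ∈ centralizer ({z} : Set G) → g ∈ A := by
    intro g hg hgC
    refine ker_A h hR hne hs hsN hsS hgC (mem_cent.2 ?_)
    have hszA : s * z * s ∈ A := by
      have := (mem_normalizer_iff.1 hsN z).1 (zA h.loc)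
      rwa [hsi] at this
    set w := g * (s * z * s) * g⁻¹ with hw
    have hwA : w ∈ A := (mem_normalizer_iff.1 hg.1 _).1 hszA
    obtain ⟨Q, hQ, haQ⟩ := cover h (mul_mem (zA h.loc) hszA)
    have hzwQ : z * w ∈ centralizer (Q : Set G) := by
      refine mem_centralizer_iff.2 fun y hy => ?_
      have hy' : g⁻¹ * y * g ∈ Q := by
        rw [← mem_cj, hg.2 Q hQ]; exact hy
      have := mem_centralizer_iff.1 haQ _ hy'
      have e : g * (z * (s * z * s)) * g⁻¹ = z * w := by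
        calc g * (z * (s * z * s)) * g⁻¹ = (g * z * g⁻¹) * w := by rw [hw]; group
          _ = z * w := by rw [mem_cent.1 hgC]
      rw [← e]
      calc y * (g * (z * (s * z * s)) * g⁻¹) = g * ((g⁻¹ * y * g) * (z * (s * z * s))) * g⁻¹ := by
            group
        _ = g * ((z * (s * z * s)) * (g⁻¹ * y * g)) * g⁻¹ := by rw [this]
        _ = g * (z * (s * z * s)) * g⁻¹ * y := by group
    have hwR : w ∈ centralizer (R : Set G) := by
      refine mem_centralizer_iff.2 fun y hy => ?_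
      have hy' : g⁻¹ * y * g ∈ R := by
        rw [← mem_cj, hg.2 R hR]; exact hy
      have := hzR _ hy'
      calc y * w = g * ((g⁻¹ * y * g) * (s * z * s)) * g⁻¹ := by rw [hw]; group
        _ = g * ((s * z * s) * (g⁻¹ * y * g)) * g⁻¹ := by rw [this]
        _ = w * y := by rw [hw]; group
    have hszR : s * z * s ∈ centralizer (R : Set G) := mem_centralizer_iff.2 hzR
    have huQ : s * z * s * w ∈ centralizer (Q : Set G) := by
      have := mul_mem (inv_mem haQ) hzwQ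
      have e : (z * (s * z * s))⁻¹ * (z * w) = s * z * s * w := by
        rw [mul_inv_rev, inv_of_sq (h.loc.sq_A _ hszA), mul_assoc, inv_mul_cancel_left]
      rwa [e] at this
    by_cases hu1 : s * z * s * w = 1
    · have e : w = s * z * s := by
        rw [← inv_eq_of_mul_eq_one_right hu1, inv_of_sq (h.loc.sq_A _ hszA)]
      calc s * g * s * z * (s * g * s)⁻¹ = s * (g * (s * z * s) * g⁻¹) * s := by
            simp [mul_assoc, mul_inv_rev, hsi]
        _ = s * (s * z * s) * s := by rw [← hw, e]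
        _ = z := by simp [← mul_assoc, hs]; simp [mul_assoc, hs]
    · exfalso
      have hQR : Q = R := uniq_sy h.loc hR hQ (mul_mem hszA hwA) hu1 (mul_mem hszR hwR) huQ
      subst hQR
      apply hne
      have hz' : z ∈ centralizer (Q : Set G) := by
        have := mul_mem haQ (inv_mem hszR)
        rwa [mul_inv_cancel_right] at this
      have hzS : z ∈ centralizer (S : Set G) := by
        have := h.loc.mem_z
        rw [← h.loc.center_S] at this
        exact this.2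
      exact uniq_sy h.loc (sy_S h.loc) hQ (zA h.loc) h.loc.z_ne hzS hz'
  have hKS : ∀ g ∈ K, g ∈ normalizer (S : Set G) := fun g hg =>
    mem_norm_iff.2 (hg.2 S (sy_S h.loc))
  have hK : Nat.card K ≤ 48 := by
    have he := card_fibre (X := K) (C := A) hAK (fun g => g * z * g⁻¹) (fun x hx y hy => by
      rw [conj_fibre]
      exact ⟨fun hc => hker _ (mul_mem (inv_mem hx) hy) hc,
        fun ha => S_le_C h.loc (h.loc.A_le ha)⟩)
    have hsub : (fun g => g * z * g⁻¹) '' (K : Set G) ⊆ ((V ⊓ A : Subgroup G) : Set G) \ {1} := by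
      rintro _ ⟨g, hg, rfl⟩
      exact ⟨NS_map_T h.loc (hKS g hg) h.loc.mem_z, fun e => h.loc.z_ne (conj_eq_one.1 e)⟩
    have := Set.ncard_le_ncard hsub (Set.toFinite _)
    rw [Set.ncard_sdiff (Set.singleton_subset_iff.2 (one_mem _)), Set.ncard_singleton,
      ← Nat.card_coe_set_eq (s := ((V ⊓ A : Subgroup G) : Set G)), SetLike.coe_sort_coe, h.loc.card_inter] at this
    rw [he, h.loc.card_A]
    omega
  set N := normalizer (A : Set G) with hN
  have he := card_fibre (X := N) (C := N ⊓ centralizer ({m} : Set G)) inf_le_left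
    (fun g => g * m * g⁻¹) (fun x hx y hy => by
      rw [conj_fibre]
      exact ⟨fun hc => mem_inf.2 ⟨mul_mem (inv_mem hx) hy, hc⟩, fun hc => hc.2⟩)
  have hsub : (fun g => g * m * g⁻¹) '' (N : Set G) ⊆ (K : Set G) := by
    rintro _ ⟨g, hg, rfl⟩
    refine ⟨mul_mem (mul_mem hg hmN) (inv_mem hg), fun Q hQ => ?_⟩
    rw [← cj_cj, ← cj_cj, hfix _ (sy_cj h.loc (inv_mem hg) hQ), cj_cj_inv]
  have hle := Set.ncard_le_ncard hsub (Set.toFinite _)
  rw [← Nat.card_coe_set_eq (s := (K : Set G)), SetLike.coe_sort_coe] at hle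
  set k := Nat.card ↥(N ⊓ centralizer ({m} : Set G)) with hk
  have hdvd : k ∣ 2880 := by rw [← card_NA h, ← hN]; exact card_dvd_of_le inf_le_left
  rw [card_NA h] at he
  have hodd : ¬ 2 ∣ k := by
    intro h2
    haveI : Fact (Nat.Prime 2) := ⟨Nat.prime_two⟩
    obtain ⟨x, hx⟩ := exists_prime_orderOf_dvd_card' 2 h2
    exact hreg x (by rw [orderOf_coe]; exact hx) (mem_cent'.1 x.2.2)
  have hcop : Nat.Coprime k 64 := by
    rw [show (64 : ℕ) = 2 ^ 6 by rfl]
    exact Nat.Coprime.pow_right 6 ((Nat.prime_two.coprime_iff_not_dvd.2 hodd).symm)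
  have h45 : k ∣ 45 := hcop.dvd_of_dvd_mul_left (by simpa using hdvd)
  have h45' := Nat.le_of_dvd (by norm_num) h45
  have := Nat.mul_le_mul h45' (hle.trans hK)
  omega

end Cfsg.Agent.AutL34Flags8
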