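import Mathlib
import Cfsg.Agent.Lib.AutL34FlagsSide8

/-!
# The flags of `PGL₃(4)` from the local configuration (towards S3237)
-/

set_option autoImplicit false

namespace Cfsg.Agent.AutL34Flags8

open Subgroup Cfsg.Agent.AutL34Plane54

variable {G : Type*} [Group G] {V A S : Subgroup G} {z : G}

theorem side [Finite G] (h : Full V A S z) : Side A S where
  sq_U := h.loc.sq_A
  card_U := h.loc.card_A
  cent_U := h.loc.cent_A
  card_N := by rw [card_NA h]
  exists_syl := fun _ hP hp => sy_exists h hP hp
  syl_ge := fun _ hR => sy_ge h.loc hR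
  syl_count := by
    show Nat.card ↥{R : Subgroup G | Sy A R} = 5
    rw [Nat.card_coe_set_eq, sy_ncard h]
  syl_conj := fun R R' hR hR' => by
    obtain ⟨n, hn, e⟩ := conj_of_max hR.1 hR'.1 hR.2.1 hR'.2.1
      (fun _ _ hp hle => max_of_card h.loc (sy_card h.loc hR) hp hle)
      (fun _ _ hp hle => max_of_card h.loc (sy_card h.loc hR') hp hle)
    exact ⟨n, hn, e⟩
  syl_inter := fun _ _ hR hR' hne => inter_sy h hR hR' hne
  fixed_cover := fun u hu => by
    obtain ⟨R, hR, huR⟩ := cover h hu
    exact ⟨R, hR, ⟨hu, huR⟩⟩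
  exists_regular := fun _ hR hne => exists_reg h hR hne
  inverter := fun _ _ hR hne hm3 hreg hmN hmS hmR => exists_inverter h hR hne hm3 hreg hmN hmS hmR
  no_fix := fun _ hm3 hreg hmN hfix => no_fixed h hm3 hreg hmN hfix

end Cfsg.Agent.AutL34Flags8

namespace Cfsg.Agent.AutL34Plane54

open Subgroup

/-- The local configuration with both outer classes fused to `z` gives the flags of `PGL₃(4)`. -/
theorem flags_of_loc {G : Type*} [Group G] [Finite G] {V A S : Subgroup G} {z : G}
    (h : Loc V A S z) (hV : ∀ x ∈ V, x ∉ A → IsConj z x) (hA : ∀ x ∈ A, x ∉ V → IsConj z x) :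
    Flags V A S :=
  { sylow := h.sylow, card_S := h.card_S, V_le := h.V_le, A_le := h.A_le,
    card_inter := h.card_inter, center_S := h.center_S, involutions := h.involutions,
    side_V := AutL34Flags8.side (AutL34Flags8.Full.swap ⟨h, hV, hA⟩),
    side_A := AutL34Flags8.side ⟨h, hV, hA⟩,
    not_conj := AutL34Flags8.not_conj h, cent := h.cent, fused := h.fused }

end Cfsg.Agent.AutL34Plane54
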