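import Mathlib

/-!
# Elations of the projective plane over a field are induced by transvections
-/

set_option autoImplicit false

namespace Cfsg.Agent.CIT21Plane

open Matrix Projectivization
open scoped Matrix LinearAlgebra.Projectivization

variable {F : Type*} [Field F]

/-- A collinearity preserving permutation fixing the points of a line and the lines through a point
of it is the action of an element of `PSL₃`. -/
theorem elation_mem_range (σ : Equiv.Perm (ℙ F (Fin 3 → F))) (W : Submodule F (Fin 3 → F))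
    (hW : Module.finrank F W = 2) (c : ℙ F (Fin 3 → F)) (hc : c.submodule ≤ W)
    (hfix : ∀ x : ℙ F (Fin 3 → F), x.submodule ≤ W → σ x = x)
    (hlin : ∀ x : ℙ F (Fin 3 → F), (σ x).submodule ≤ x.submodule ⊔ c.submodule)
    (hcol : ∀ x y z : ℙ F (Fin 3 → F), z.submodule ≤ x.submodule ⊔ y.submodule →
      (σ z).submodule ≤ (σ x).submodule ⊔ (σ y).submodule) :
    σ ∈ (Projectivization.PSLAction.toPermHom (ι := Fin 3) (K := F)).range := by
  classical
  -- the functional
  have hlt : W < ⊤ := by
    refine lt_top_iff_ne_top.2 fun e => ?_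
    rw [e, finrank_top, Module.finrank_fin_fun] at hW
    omega
  obtain ⟨f, hf0, hle⟩ := Submodule.exists_le_ker_of_lt_top W hlt
  have hker : W = LinearMap.ker f := by
    refine Submodule.eq_of_le_of_finrank_le hle ?_
    have h1 := LinearMap.finrank_range_add_finrank_ker f
    have h2 : Module.finrank F (LinearMap.range f) = 1 := by
      rw [LinearMap.range_eq_top.2 (LinearMap.surjective hf0), finrank_top, Module.finrank_self]
    rw [h2, Module.finrank_fin_fun] at h1
    omega
  have hmem : ∀ v, v ∈ W ↔ f v = 0 := fun v => by rw [hker, LinearMap.mem_ker]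
  obtain ⟨x₀, hx₀⟩ := LinearMap.surjective hf0 1
  set cv := c.rep with hcvdef
  have hcv0 : cv ≠ 0 := c.rep_nonzero
  have hcsub : c.submodule = F ∙ cv := submodule_eq c
  have hfc : f cv = 0 := (hmem cv).1 (hc (hcsub ▸ Submodule.mem_span_singleton_self cv))
  have hne : ∀ v, f v = 1 → v ≠ 0 := fun v h e => by rw [e, map_zero] at h; exact zero_ne_one h
  have hfv : ∀ v (a : F), f v = 1 → f (v + a • cv) = 1 := fun v a h => by
    rw [map_add, map_smul, hfc, h, smul_zero, add_zero]
  -- the image of an affine point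
  have himg : ∀ v (hv : f v = 1), ∃ a : F,
      σ (mk F v (hne v hv)) = mk F (v + a • cv) (hne _ (hfv v a hv)) := by
    intro v hv
    have h := hlin (mk F v (hne v hv))
    rw [submodule_mk, hcsub, submodule_eq] at h
    have h' := h (Submodule.mem_span_singleton_self _)
    rw [Submodule.mem_sup] at h'
    obtain ⟨y, hy, z, hz, e⟩ := h'
    obtain ⟨s, rfl⟩ := Submodule.mem_span_singleton.1 hy
    obtain ⟨t, rfl⟩ := Submodule.mem_span_singleton.1 hz
    set r := (σ (mk F v (hne v hv))).rep
    have hs : s ≠ 0 := by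
      intro hs
      have hrW : (σ (mk F v (hne v hv))).submodule ≤ W := by
        rw [submodule_eq, Submodule.span_singleton_le_iff_mem, hmem]
        show f r = 0
        rw [← e, hs]
        simp [hfc]
      have := σ.injective (hfix _ hrW)
      rw [this, submodule_mk, Submodule.span_singleton_le_iff_mem, hmem, hv] at hrW
      exact one_ne_zero hrW
    refine ⟨s⁻¹ * t, ?_⟩
    conv_lhs => rw [← mk_rep (σ (mk F v (hne v hv)))]
    rw [mk_eq_mk_iff']
    refine ⟨s, ?_⟩
    show s • (v + (s⁻¹ * t) • cv) = r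
    rw [smul_add, smul_smul, ← mul_assoc, mul_inv_cancel₀ hs, one_mul, e]
  -- the shift is constant
  have hstep : ∀ x v (hx : f x = 1) (hv : f v = 1) (a b : F),
      σ (mk F x (hne x hx)) = mk F (x + a • cv) (hne _ (hfv x a hx)) →
      σ (mk F v (hne v hv)) = mk F (v + b • cv) (hne _ (hfv v b hv)) →
      v - x ∉ (F ∙ cv) → b = a := by
    intro x v hx hv a b ea eb hind
    have hz0 : v - x ≠ 0 := fun e => hind (by rw [e]; exact zero_mem _)
    have hzW : (mk F (v - x) hz0).submodule ≤ W := by
      rw [submodule_mk, Submodule.span_singleton_le_iff_mem, hmem, map_sub, hv, hx, sub_self]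
    have h := hcol (mk F x (hne x hx)) (mk F (v - x) hz0) (mk F v (hne v hv)) (by
      rw [submodule_mk, submodule_mk, submodule_mk, Submodule.span_singleton_le_iff_mem,
        Submodule.mem_sup]
      exact ⟨x, Submodule.mem_span_singleton_self x, v - x, Submodule.mem_span_singleton_self _,
        add_sub_cancel _ _⟩)
    rw [ea, eb, hfix _ hzW, submodule_mk, submodule_mk, submodule_mk,
      Submodule.span_singleton_le_iff_mem, Submodule.mem_sup] at h
    obtain ⟨y, hy, z, hz, e⟩ := h
    obtain ⟨β, rfl⟩ := Submodule.mem_span_singleton.1 hy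
    obtain ⟨γ, rfl⟩ := Submodule.mem_span_singleton.1 hz
    have hβ : β = 1 := by
      have := congrArg f e
      rwa [map_add, map_smul, map_smul, hfv x a hx, hfv v b hv, map_sub, hv, hx, sub_self,
        smul_zero, add_zero, smul_eq_mul, mul_one] at this
    subst hβ
    have e' : (b - a) • cv = (γ - 1) • (v - x) := by
      linear_combination (norm := module) -e
    by_contra hba
    have hba' : b - a ≠ 0 := sub_ne_zero.2 hba
    have hγ : γ - 1 ≠ 0 := fun h => by
      rw [h, zero_smul, smul_eq_zero] at e'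
      exact e'.elim hba' hcv0
    apply hind
    rw [Submodule.mem_span_singleton]
    exact ⟨(γ - 1)⁻¹ * (b - a), by rw [← smul_smul, e', inv_smul_smul₀ hγ]⟩
  -- a second direction
  obtain ⟨w, hw, hwc⟩ : ∃ w ∈ W, w ∉ (F ∙ cv) := by
    refine SetLike.not_le_iff_exists.1 fun h => ?_
    have := Submodule.finrank_mono h
    rw [hW, finrank_span_singleton hcv0] at this
    omega
  obtain ⟨a, ha⟩ := himg x₀ hx₀
  have hall : ∀ v (hv : f v = 1),
      σ (mk F v (hne v hv)) = mk F (v + a • cv) (hne _ (hfv v a hv)) := by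
    intro v hv
    obtain ⟨b, hb⟩ := himg v hv
    suffices b = a by subst this; exact hb
    by_cases hind : v - x₀ ∈ (F ∙ cv)
    · have hv1 : f (x₀ + w) = 1 := by rw [map_add, hx₀, (hmem w).1 hw, add_zero]
      obtain ⟨b', hb'⟩ := himg _ hv1
      have h1 : b' = a := hstep x₀ _ hx₀ hv1 a b' ha hb' (by rwa [add_sub_cancel_left])
      subst h1
      refine hstep _ v hv1 hv b' b hb' hb fun h => hwc ?_
      have := sub_mem hind h
      rwa [show v - x₀ - (v - (x₀ + w)) = w by abel] at this
    · exact hstep x₀ v hx₀ hv a b ha hb hind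
  -- the matrix
  set fv : Fin 3 → F := fun i => f (Pi.single i 1) with hfvdef
  have hdot : ∀ v, fv ⬝ᵥ v = f v := by
    intro v
    conv_rhs => rw [pi_eq_sum_univ' v]
    simp [dotProduct, hfvdef, map_sum, map_smul, mul_comm]
  set M : Matrix (Fin 3) (Fin 3) F := 1 + Matrix.vecMulVec (a • cv) fv with hMdef
  have hdet : M.det = 1 := by
    rw [hMdef, Matrix.vecMulVec_eq (Fin 1), Matrix.det_one_add_replicateCol_mul_replicateRow, hdot,
      map_smul, hfc, smul_zero, add_zero]
  have hM : ∀ v, M *ᵥ v = v + f v • a • cv := by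
    intro v
    rw [hMdef, add_mulVec, one_mulVec, vecMulVec_mulVec, hdot]
    simp
  refine ⟨QuotientGroup.mk' _ ⟨M, hdet⟩, Equiv.ext fun x => ?_⟩
  show (show Matrix.SpecialLinearGroup (Fin 3) F from ⟨M, hdet⟩) • x = σ x
  induction x using Projectivization.ind with | h v hv =>
  rw [smul_mk]
  by_cases hfv0 : f v = 0
  · rw [hfix (mk F v hv) (by rw [submodule_mk, Submodule.span_singleton_le_iff_mem, hmem, hfv0]),
      mk_eq_mk_iff']
    refine ⟨1, ?_⟩
    show (1 : F) • v = M *ᵥ v
    rw [hM, hfv0, zero_smul, add_zero, one_smul]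
  · have hv' : f ((f v)⁻¹ • v) = 1 := by rw [map_smul, smul_eq_mul, inv_mul_cancel₀ hfv0]
    have e : mk F v hv = mk F ((f v)⁻¹ • v) (hne _ hv') := by
      rw [mk_eq_mk_iff']
      exact ⟨f v, by rw [smul_inv_smul₀ hfv0]⟩
    rw [e, hall _ hv', mk_eq_mk_iff']
    refine ⟨f v, ?_⟩
    show f v • ((f v)⁻¹ • v + a • cv) = M *ᵥ v
    rw [hM, smul_add, smul_inv_smul₀ hfv0]

end Cfsg.Agent.CIT21Plane
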