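import Mathlib

/-!
# Symmetric designs and axial automorphisms

Basic counting for symmetric designs: an automorphism fixes as many blocks as points, and a
non-trivial automorphism fixing all points of a block fixes at most one further point.
-/

set_option autoImplicit false

namespace Cfsg.Agent.Axial80

open Finset

section Defs

variable {X Y : Type*} (I : X → Y → Prop)

open Classical in
/-- The points of a block. -/
noncomputable def ptsOf [Fintype X] (y : Y) : Finset X := univ.filter fun x => I x y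

open Classical in
/-- The blocks through a point. -/
noncomputable def blksOf [Fintype Y] (x : X) : Finset Y := univ.filter fun y => I x y

variable {I}

lemma mem_ptsOf [Fintype X] {x : X} {y : Y} : x ∈ ptsOf I y ↔ I x y := by simp [ptsOf]

lemma mem_blksOf [Fintype Y] {x : X} {y : Y} : y ∈ blksOf I x ↔ I x y := by simp [blksOf]

end Defs

/-- A symmetric design with `v` points and blocks, block size `k` and any two points on `lam`
blocks (and dually). -/
structure Dsn (X Y : Type*) [Fintype X] [Fintype Y] [DecidableEq X] [DecidableEq Y] where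
  I : X → Y → Prop
  k : ℕ
  lam : ℕ
  cardEq : Fintype.card X = Fintype.card Y
  cardPts : ∀ y, (ptsOf I y).card = k
  cardBlks : ∀ x, (blksOf I x).card = k
  meetBlks : ∀ x x', x ≠ x' → (blksOf I x ∩ blksOf I x').card = lam
  meetPts : ∀ y y', y ≠ y' → (ptsOf I y ∩ ptsOf I y').card = lam
  two_le : 2 ≤ k
  lt_v : k + 1 < Fintype.card X

variable {X Y : Type*} [Fintype X] [Fintype Y] [DecidableEq X] [DecidableEq Y]

namespace Dsn

variable (D : Dsn X Y)

noncomputable abbrev pts (y : Y) : Finset X := ptsOf D.I y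

noncomputable abbrev blks (x : X) : Finset Y := blksOf D.I x

/-- The dual design. -/
def dual : Dsn Y X where
  I := fun y x => D.I x y
  k := D.k
  lam := D.lam
  cardEq := D.cardEq.symm
  cardPts := fun x => by simpa [ptsOf, blksOf] using D.cardBlks x
  cardBlks := fun y => by simpa [ptsOf, blksOf] using D.cardPts y
  meetBlks := fun y y' h => by simpa [ptsOf, blksOf] using D.meetPts y y' h
  meetPts := fun x x' h => by simpa [ptsOf, blksOf] using D.meetBlks x x' h
  two_le := D.two_le
  lt_v := D.cardEq ▸ D.lt_v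

lemma dual_I (y : Y) (x : X) : D.dual.I y x ↔ D.I x y := Iff.rfl

lemma dual_pts (x : X) : D.dual.pts x = D.blks x := by
  ext y; simp [mem_ptsOf, mem_blksOf, dual_I]

lemma dual_blks (y : Y) : D.dual.blks y = D.pts y := by
  ext y; simp [mem_ptsOf, mem_blksOf, dual_I]

lemma nonemptyY (D : Dsn X Y) : Nonempty Y := by
  have h := D.lt_v; rw [D.cardEq] at h
  exact Fintype.card_pos_iff.1 (by omega)

lemma nonemptyX (D : Dsn X Y) : Nonempty X := Fintype.card_pos_iff.1 (by have := D.lt_v; omega)

lemma eqn : D.lam * (Fintype.card X - 1) = D.k * (D.k - 1) := by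
  obtain ⟨x⟩ := D.nonemptyX
  have h1 : ∑ x' ∈ univ.erase x, (D.blks x ∩ D.blks x').card
      = D.lam * (Fintype.card X - 1) := by
    rw [Finset.sum_congr rfl fun x' hx' => D.meetBlks x x' (Ne.symm (ne_of_mem_erase hx')),
      sum_const, card_erase_of_mem (mem_univ x), card_univ, smul_eq_mul, mul_comm]
  have h2 : ∀ y ∈ D.blks x, ((univ.erase x).filter fun x' => x' ∈ D.pts y).card = D.k - 1 := by
    intro y hy
    have : ((univ.erase x).filter fun x' => x' ∈ D.pts y) = (D.pts y).erase x := by
      ext x'; simp [and_comm]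
    rw [this, card_erase_of_mem (mem_ptsOf.2 (mem_blksOf.1 hy)), D.cardPts]
  have h3 : ∑ x' ∈ univ.erase x, (D.blks x ∩ D.blks x').card
      = ∑ y ∈ D.blks x, ((univ.erase x).filter fun x' => x' ∈ D.pts y).card := by
    rw [Finset.sum_congr rfl (s₂ := univ.erase x)
      (g := fun x' => ((D.blks x).filter fun y => x' ∈ D.pts y).card) (fun x' _ => by
        congr 1; ext y; simp [mem_ptsOf, mem_blksOf])]
    simp only [card_filter]
    exact Finset.sum_comm
  rw [← h1, h3, Finset.sum_congr rfl h2, sum_const, D.cardBlks, smul_eq_mul]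

lemma lam_lt : D.lam < D.k := by
  have h := D.eqn
  have h2 := D.two_le
  have h3 := D.lt_v
  by_contra hc
  rw [not_lt] at hc
  have : D.k * (D.k - 1) < D.lam * (Fintype.card X - 1) := by
    calc D.k * (D.k - 1) < D.k * (Fintype.card X - 1) :=
          Nat.mul_lt_mul_of_pos_left (by omega) (by omega)
      _ ≤ _ := Nat.mul_le_mul_right _ hc
  omega

lemma lam_pos : 1 ≤ D.lam := by
  have h := D.eqn
  have h2 := D.two_le
  rcases Nat.eq_zero_or_pos D.lam with hl | hl
  · rw [hl, zero_mul] at h
    rcases Nat.mul_eq_zero.1 h.symm with h4 | h4 <;> omega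
  · exact hl

lemma eqn' : (Fintype.card X - D.k) * D.lam = (D.k - 1) * (D.k - D.lam) := by
  have h := D.eqn
  have h2 := D.two_le
  have h3 := D.lt_v
  have h4 := D.lam_lt
  zify [h4.le, (by omega : 1 ≤ D.k), (by omega : 1 ≤ Fintype.card X),
    (by omega : D.k ≤ Fintype.card X)] at h ⊢
  linear_combination h

lemma two_k_lt : 2 * D.k < Fintype.card X + D.lam := by
  have h := D.eqn'
  have h2 := D.two_le
  have h3 := D.lt_v
  have h4 := D.lam_lt
  by_contra hc
  have hc' : Fintype.card X - D.k ≤ D.k - D.lam := by omega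
  have h5 : (D.k - 1) * (D.k - D.lam) ≤ D.lam * (D.k - D.lam) := by
    rw [← h, mul_comm]; exact Nat.mul_le_mul_left _ hc'
  have h6 : D.k - 1 ≤ D.lam := Nat.le_of_mul_le_mul_right h5 (by omega)
  have h7 : D.k - D.lam = 1 := by omega
  rw [h7, mul_one] at h
  have h8 : (Fintype.card X - D.k) ≤ 1 := by
    by_contra h9
    have : 2 * D.lam ≤ (Fintype.card X - D.k) * D.lam := Nat.mul_le_mul_right _ (by omega)
    omega
  omega

lemma pts_injective : Function.Injective D.pts := by
  intro y y' h
  by_contra hne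
  have h1 := D.meetPts y y' hne
  simp only [pts] at h
  rw [h, inter_self, D.cardPts] at h1
  exact absurd h1 (Nat.ne_of_gt D.lam_lt)

lemma blks_injective : Function.Injective D.blks := by
  intro x x' h
  by_contra hne
  have h1 := D.meetBlks x x' hne
  simp only [blks] at h
  rw [h, inter_self, D.cardBlks] at h1
  exact absurd h1 (Nat.ne_of_gt D.lam_lt)

/-- Incidence preserving pairs of permutations. -/
def IsAut (σ : Equiv.Perm X) (τ : Equiv.Perm Y) : Prop := ∀ x y, D.I (σ x) (τ y) ↔ D.I x y

variable {D} {σ : Equiv.Perm X} {τ : Equiv.Perm Y}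

/-- An automorphism fixes as many points as blocks. -/
lemma IsAut.card_fix (h : D.IsAut σ τ) :
    (univ.filter fun x => σ x = x).card = (univ.filter fun y => τ y = y).card := by
  classical
  set fX := (univ.filter fun x => σ x = x).card with hfX
  set fY := (univ.filter fun y => τ y = y).card with hfY
  have e1 : ∀ x, (D.blks x ∩ D.blks (σ x)).card = if σ x = x then D.k else D.lam := by
    intro x
    by_cases hx : σ x = x
    · rw [if_pos hx, hx, inter_self, D.cardBlks]
    · rw [if_neg hx, D.meetBlks x (σ x) (Ne.symm hx)]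
  have e2 : ∀ y, (D.pts y ∩ D.pts (τ.symm y)).card = if τ y = y then D.k else D.lam := by
    intro y
    by_cases hy : τ y = y
    · rw [if_pos hy, (τ.symm_apply_eq).2 hy.symm, inter_self, D.cardPts]
    · rw [if_neg hy, D.meetPts y (τ.symm y) ?_]
      exact fun h' => hy (τ.symm_apply_eq.1 h'.symm).symm
  have key : ∑ x, (D.blks x ∩ D.blks (σ x)).card = ∑ y, (D.pts y ∩ D.pts (τ.symm y)).card := by
    have a1 : ∀ x, D.blks x ∩ D.blks (σ x) = univ.filter fun y => D.I x y ∧ D.I (σ x) y := by
      intro x; ext y; simp [mem_blksOf]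
    have a2 : ∀ y, D.pts y ∩ D.pts (τ.symm y) = univ.filter fun x => D.I x y ∧ D.I (σ x) y := by
      intro y; ext x
      have := h x (τ.symm y)
      rw [τ.apply_symm_apply] at this
      simp [mem_ptsOf, this]
    simp only [a1, a2, card_filter]
    exact Finset.sum_comm
  simp only [e1, e2] at key
  rw [sum_ite, sum_ite, sum_const, sum_const, sum_const, sum_const, smul_eq_mul, smul_eq_mul,
    smul_eq_mul, smul_eq_mul, filter_not, filter_not, card_sdiff, card_sdiff] at key
  simp only [inter_univ, card_univ, ← hfX, ← hfY, ← D.cardEq] at key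
  have hl := D.lam_lt
  have b1 : fX ≤ Fintype.card X := by rw [hfX]; exact card_le_univ _
  have b2 : fY ≤ Fintype.card X := by rw [hfY, D.cardEq]; exact card_le_univ _
  zify [b1, b2, hl.le] at key
  have : ((fX : ℤ) - fY) * ((D.k : ℤ) - D.lam) = 0 := by linear_combination key
  rcases mul_eq_zero.1 this with h' | h' <;> omega

lemma IsAut.fix_axis (h : D.IsAut σ τ) {B : Y} (hB : ∀ x ∈ D.pts B, σ x = x) : τ B = B := by
  apply D.pts_injective
  ext x
  rw [mem_ptsOf, mem_ptsOf]
  constructor
  · intro hx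
    obtain ⟨x₀, rfl⟩ := σ.surjective x
    have hx0 : D.I x₀ B := (h x₀ B).1 hx
    rwa [hB x₀ (mem_ptsOf.2 hx0)]
  · intro hx
    have := (h x B).2 hx
    rwa [hB x (mem_ptsOf.2 hx)] at this

/-- The fixed blocks through a point, other than a given block. -/
lemma IsAut.fixBlk_subset (h : D.IsAut σ τ) (x : X) :
    ((D.blks x).filter fun y => τ y = y) ⊆ D.blks x ∩ D.blks (σ x) := by
  intro y hy
  rw [mem_filter] at hy
  refine mem_inter.2 ⟨hy.1, mem_blksOf.2 ?_⟩
  have := (h x y).2 (mem_blksOf.1 hy.1)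
  rwa [hy.2] at this

/-- The fundamental equality for an automorphism fixing a block pointwise. -/
lemma IsAut.axial (h : D.IsAut σ τ) {B : Y} (hB : ∀ x ∈ D.pts B, σ x = x) :
    (∀ x ∉ D.pts B, σ x = x → ∀ y ∈ D.blks x, τ y = y) ∧
    (∀ x ∉ D.pts B, σ x ≠ x →
      ((D.blks x).filter fun y => τ y = y) = D.blks x ∩ D.blks (σ x)) := by
  classical
  have hτB := h.fix_axis hB
  set F := ((univ : Finset Y).filter fun y => τ y = y).erase B with hF
  set out := (univ : Finset X) \ D.pts B with hout
  set U := out.filter fun x => σ x = x with hU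
  have hFcard : F.card = D.k + U.card - 1 := by
    rw [hF, card_erase_of_mem (by simp [hτB]), ← h.card_fix]
    congr 1
    rw [← D.cardPts B, ← card_union_of_disjoint]
    · congr 1; ext x
      by_cases hx : x ∈ D.pts B
      · simp [hx, hB x hx]
      · simp [hx, hU, hout]
    · rw [disjoint_left]; intro x hx hxU
      exact (mem_sdiff.1 (mem_filter.1 hxU).1).2 hx
  have hrow : ∀ y ∈ F, (out.filter fun x => x ∈ D.pts y).card = D.k - D.lam := by
    intro y hy
    have : (out.filter fun x => x ∈ D.pts y) = D.pts y \ D.pts B := by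
      ext x; simp [hout, and_comm]
    rw [this, card_sdiff, inter_comm, D.meetPts y B (ne_of_mem_erase hy), D.cardPts]
  have hcol : ∀ x ∈ out, (F.filter fun y => x ∈ D.pts y) = (D.blks x).filter fun y => τ y = y := by
    intro x hx
    ext y
    simp only [hF, mem_filter, mem_erase, mem_univ, true_and, mem_ptsOf, mem_blksOf]
    constructor
    · rintro ⟨⟨_, h1⟩, h2⟩; exact ⟨h2, h1⟩
    · rintro ⟨h2, h1⟩
      refine ⟨⟨?_, h1⟩, h2⟩
      rintro rfl
      exact (mem_sdiff.1 hx).2 (mem_ptsOf.2 h2)
  have hsum : ∑ x ∈ out, ((D.blks x).filter fun y => τ y = y).card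
      = (D.k + U.card - 1) * (D.k - D.lam) := by
    rw [← hFcard, ← smul_eq_mul, ← sum_const, ← Finset.sum_congr rfl hrow,
      Finset.sum_congr rfl (fun x hx => (congrArg Finset.card (hcol x hx)).symm)]
    simp only [card_filter]
    exact Finset.sum_comm
  have hbound : ∀ x ∈ out, ((D.blks x).filter fun y => τ y = y).card
      ≤ if σ x = x then D.k else D.lam := by
    intro x _
    by_cases hx : σ x = x
    · rw [if_pos hx, ← D.cardBlks x]; exact card_filter_le _ _
    · rw [if_neg hx, ← D.meetBlks x (σ x) (Ne.symm hx)]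
      exact card_le_card (h.fixBlk_subset x)
  have htot : ∑ x ∈ out, (if σ x = x then D.k else D.lam)
      = (D.k + U.card - 1) * (D.k - D.lam) := by
    rw [sum_ite, sum_const, sum_const, smul_eq_mul, smul_eq_mul, filter_not, card_sdiff]
    have hoc : out.card = Fintype.card X - D.k := by
      rw [hout, card_univ_diff, D.cardPts]
    rw [← hU, inter_eq_left.2 (by rw [hU]; exact filter_subset _ _), hoc]
    have e := D.eqn'
    have hUle : U.card ≤ Fintype.card X - D.k := hoc ▸ card_filter_le _ _
    have h2 := D.two_le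
    have h3 := D.lt_v
    have h4 := D.lam_lt
    zify [hUle, h4.le, (by omega : D.k ≤ Fintype.card X), (by omega : 1 ≤ D.k),
      (by omega : 1 ≤ D.k + U.card)] at e ⊢
    linear_combination e
  have heq := (Finset.sum_eq_sum_iff_of_le hbound).1 (hsum.trans htot.symm)
  refine ⟨fun x hx hfx y hy => ?_, fun x hx hmx => ?_⟩
  · have h1 := heq x (by simpa [hout] using hx)
    rw [if_pos hfx, ← D.cardBlks x] at h1
    have e := eq_of_subset_of_card_le (filter_subset (fun y => τ y = y) (D.blks x)) h1.ge
    rw [← e] at hy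
    exact (mem_filter.1 hy).2
  · have h1 := heq x (by simpa [hout] using hx)
    rw [if_neg hmx, ← D.meetBlks x (σ x) (Ne.symm hmx)] at h1
    exact eq_of_subset_of_card_le (h.fixBlk_subset x) h1.ge

/-- An automorphism fixing a block pointwise and two further points is trivial. -/
lemma IsAut.eq_one_of_two_fixed (h : D.IsAut σ τ) {B : Y} (hB : ∀ x ∈ D.pts B, σ x = x)
    {P Q : X} (hP : P ∉ D.pts B) (hQ : Q ∉ D.pts B) (hPQ : P ≠ Q) (hfP : σ P = P)
    (hfQ : σ Q = Q) : σ = 1 := by
  classical
  by_contra hne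
  obtain ⟨W, hW⟩ : ∃ W, σ W ≠ W := by
    by_contra hc; push_neg at hc; exact hne (Equiv.ext hc)
  obtain ⟨hfix, hmov⟩ := h.axial hB
  have hmov_out : ∀ {Z : X}, σ Z ≠ Z → Z ∉ D.pts B := fun hZ hZB => hZ (hB _ hZB)
  have key : ∀ {R Z : X}, R ∉ D.pts B → σ R = R → σ Z ≠ Z →
      D.blks R ∩ D.blks Z = (D.blks Z).filter fun y => τ y = y := by
    intro R Z hR hfR hZ
    have hRZ : R ≠ Z := fun e => hZ (e ▸ hfR)
    refine eq_of_subset_of_card_le (fun y hy => mem_filter.2
      ⟨(mem_inter.1 hy).2, hfix R hR hfR y (mem_inter.1 hy).1⟩) ?_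
    rw [hmov Z (hmov_out hZ) hZ, D.meetBlks _ _ (Ne.symm hZ), D.meetBlks _ _ hRZ]
  have hPQW : ∀ {Z : X}, σ Z ≠ Z →
      D.blks P ∩ D.blks Q = (D.blks Z).filter fun y => τ y = y := by
    intro Z hZ
    have hP' := key hP hfP hZ
    have hQ' := key hQ hfQ hZ
    symm
    refine eq_of_subset_of_card_le (fun y hy => mem_inter.2 ?_) ?_
    · exact ⟨(mem_inter.1 (hP'.symm ▸ hy)).1, (mem_inter.1 (hQ'.symm ▸ hy)).1⟩
    · rw [hmov Z (hmov_out hZ) hZ, D.meetBlks _ _ (Ne.symm hZ), D.meetBlks _ _ hPQ]
  obtain ⟨C, hC⟩ : (D.blks P ∩ D.blks Q).Nonempty :=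
    card_pos.1 (by rw [D.meetBlks _ _ hPQ]; exact D.lam_pos)
  have hCB : C ≠ B := fun e => hP (mem_ptsOf.2 (mem_blksOf.1 (e ▸ (mem_inter.1 hC).1)))
  have hall : univ \ D.pts B ⊆ D.pts C \ D.pts B := by
    intro Z hZ
    simp only [mem_sdiff, mem_univ, true_and] at hZ ⊢
    refine ⟨mem_ptsOf.2 (mem_blksOf.1 ?_), hZ⟩
    by_cases hfZ : σ Z = Z
    · have h1 := key hZ hfZ hW
      rw [← hPQW hW] at h1
      exact (mem_inter.1 (h1.symm ▸ hC)).1
    · exact (mem_filter.1 ((hPQW hfZ) ▸ hC)).1
  have h1 := card_le_card hall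
  rw [card_univ_diff, D.cardPts, card_sdiff, inter_comm, D.meetPts _ _ hCB, D.cardPts] at h1
  have := D.two_k_lt
  have := D.lam_lt
  omega

/-- An automorphism fixing no point outside its axis fixes exactly `k` blocks. -/
lemma IsAut.card_fixBlk (h : D.IsAut σ τ) {B : Y} (hB : ∀ x ∈ D.pts B, σ x = x)
    (hout : ∀ x ∉ D.pts B, σ x ≠ x) : (univ.filter fun y => τ y = y).card = D.k := by
  rw [← h.card_fix, ← D.cardPts B]
  congr 1
  ext x
  simp only [mem_filter, mem_univ, true_and]
  exact ⟨fun hx => by_contra fun hn => hout x hn hx, fun hx => hB x hx⟩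

end Dsn

end Cfsg.Agent.Axial80
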