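import Mathlib
import Cfsg.Agent.Lib.Axial80Design
import Cfsg.Agent.S0034
import Cfsg.Agent.S0035

/-!
# Elation subgroups of a doubly transitive symmetric design with an axial automorphism

`Geo.El B` is the subgroup of elations with axis `B`; families of such subgroups are transitive
on every pencil of blocks.
-/

set_option autoImplicit false

namespace Cfsg.Agent.Axial80

open Finset MulAction
open scoped Pointwise

/-- A symmetric design with a group of automorphisms doubly transitive on points and on blocks,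
some non-trivial element of which fixes a block pointwise. -/
structure Geo (G X Y : Type*) [Group G] [Fintype X] [Fintype Y] [DecidableEq X] [DecidableEq Y]
    [MulAction G X] [MulAction G Y] extends Dsn X Y where
  inv : ∀ (g : G) (x : X) (y : Y), I (g • x) (g • y) ↔ I x y
  faith : ∀ g : G, (∀ x : X, g • x = x) → g = 1
  twoX : ∀ a b c d : X, a ≠ b → c ≠ d → ∃ g : G, g • a = c ∧ g • b = d
  twoY : ∀ a b c d : Y, a ≠ b → c ≠ d → ∃ g : G, g • a = c ∧ g • b = d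
  axial : ∃ (B : Y) (g : G), g ≠ 1 ∧ ∀ x, I x B → g • x = x

variable {G X Y : Type*} [Group G] [Fintype X] [Fintype Y] [DecidableEq X] [DecidableEq Y]
  [MulAction G X] [MulAction G Y]

namespace Geo

variable (Γ : Geo G X Y)

include Γ

lemma isAut (g : G) : Γ.toDsn.IsAut (MulAction.toPerm g) (MulAction.toPerm g) :=
  fun x y => Γ.inv g x y

lemma inv_iff (g : G) (x : X) (y : Y) : Γ.I x (g • y) ↔ Γ.I (g⁻¹ • x) y := by
  conv_lhs => rw [← smul_inv_smul g x]
  exact Γ.inv g _ y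

lemma smul_pts (g : G) (y : Y) : Γ.pts (g • y) = (Γ.pts y).image (fun x => g • x) := by
  ext x
  simp only [mem_image, mem_ptsOf]
  refine ⟨fun h => ⟨g⁻¹ • x, (Γ.inv_iff g x y).1 h, smul_inv_smul g x⟩, ?_⟩
  rintro ⟨x₀, h, rfl⟩
  exact (Γ.inv g x₀ y).2 h

lemma faithY (g : G) (h : ∀ y : Y, g • y = y) : g = 1 := by
  refine Γ.faith g fun x => Γ.toDsn.blks_injective ?_
  ext y
  have := Γ.inv g x y
  rw [h y] at this
  simp [mem_blksOf, this]

lemma fix_axis {g : G} {B : Y} (h : ∀ x, Γ.I x B → g • x = x) : g • B = B :=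
  (Γ.isAut g).fix_axis (B := B) fun x hx => h x (mem_ptsOf.1 hx)

lemma eq_one_of_two_fixed {g : G} {B : Y} (h : ∀ x, Γ.I x B → g • x = x) {P Q : X}
    (hP : ¬ Γ.I P B) (hQ : ¬ Γ.I Q B) (hPQ : P ≠ Q) (hfP : g • P = P) (hfQ : g • Q = Q) :
    g = 1 := by
  have h1 := (Γ.isAut g).eq_one_of_two_fixed (B := B) (fun x hx => h x (mem_ptsOf.1 hx))
    (fun e => hP (mem_ptsOf.1 e)) (fun e => hQ (mem_ptsOf.1 e)) hPQ hfP hfQ
  exact Γ.faith g fun x => by simpa using congrArg (fun σ => σ x) h1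

lemma exists_pt (B : Y) : ∃ x, Γ.I x B := by
  obtain ⟨x, hx⟩ : (Γ.pts B).Nonempty := card_pos.1 (by rw [Γ.cardPts]; have := Γ.two_le; omega)
  exact ⟨x, mem_ptsOf.1 hx⟩

lemma exists_out (B : Y) : ∃ x, ¬ Γ.I x B := by
  by_contra hc
  push_neg at hc
  have : Γ.pts B = univ := eq_univ_iff_forall.2 fun x => mem_ptsOf.2 (hc x)
  have h := Γ.cardPts B
  simp only [Dsn.pts] at this
  rw [this, card_univ] at h
  have := Γ.lt_v; omega

lemma exists_out_ne (B : Y) (P : X) : ∃ x, ¬ Γ.I x B ∧ x ≠ P := by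
  by_contra hc
  push_neg at hc
  have h1 : univ \ Γ.pts B ⊆ {P} := fun x hx => by
    simp only [mem_sdiff, mem_univ, true_and] at hx
    exact mem_singleton.2 (hc x fun e => hx (mem_ptsOf.2 e))
  have := card_le_card h1
  rw [card_univ_diff, Γ.cardPts, card_singleton] at this
  have := Γ.lt_v; omega

lemma exists_ne_block (B : Y) : ∃ C : Y, C ≠ B := by
  have h := Γ.lt_v
  rw [Γ.cardEq] at h
  have : Nontrivial Y := Fintype.one_lt_card_iff_nontrivial.1 (by omega)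
  exact exists_ne B

lemma exists_moveY (B B' : Y) : ∃ g : G, g • B = B' := by
  obtain ⟨C, hC⟩ := Γ.exists_ne_block B
  obtain ⟨C', hC'⟩ := Γ.exists_ne_block B'
  obtain ⟨g, h1, -⟩ := Γ.twoY B C B' C' hC.symm hC'.symm
  exact ⟨g, h1⟩

variable [Finite G]

lemma card_orbits_Y (B : Y) : Nat.card (Quotient (orbitRel (stabilizer G B) Y)) = 2 := by
  obtain ⟨C, hC⟩ := Γ.exists_ne_block B
  rw [Nat.card_eq_two_iff]
  refine ⟨⟦B⟧, ⟦C⟧, ?_, ?_⟩
  · intro h
    obtain ⟨g, hg⟩ := Quotient.exact h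
    have h2 : (g : G) • C = B := hg
    exact hC (smul_left_cancel (g : G) (h2.trans g.2.symm))
  · refine Set.eq_univ_of_forall fun q => Quotient.inductionOn q fun D => ?_
    by_cases hD : D = B
    · left; rw [hD]
    · right
      obtain ⟨g, h1, h2⟩ := Γ.twoY B C B D hC.symm (Ne.symm hD)
      exact Quotient.sound ⟨⟨g, h1⟩, h2⟩

lemma card_orbits_X (B : Y) : Nat.card (Quotient (orbitRel (stabilizer G B) X)) = 2 := by
  classical
  have := Fintype.ofFinite G
  set H := stabilizer G B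
  have := Fintype.ofFinite (Quotient (orbitRel H X))
  have := Fintype.ofFinite (Quotient (orbitRel H Y))
  have hX := sum_card_fixedBy_eq_card_orbits_mul_card_group (G := H) (X := X)
  have hY := sum_card_fixedBy_eq_card_orbits_mul_card_group (G := H) (X := Y)
  have e : ∀ g : H, Fintype.card (fixedBy X g) = Fintype.card (fixedBy Y g) := by
    intro g
    rw [Fintype.card_subtype, Fintype.card_subtype]
    exact (Γ.isAut (g : G)).card_fix
  rw [Finset.sum_congr rfl fun g _ => e g, hY] at hX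
  rw [← Γ.card_orbits_Y B, Nat.card_eq_fintype_card, Nat.card_eq_fintype_card]
  exact (Nat.eq_of_mul_eq_mul_right Fintype.card_pos hX).symm

/-- The stabilizer of a block is transitive on its points and on the points outside it. -/
lemma trans_pts {B : Y} {P Q : X} (h : Γ.I P B ↔ Γ.I Q B) :
    ∃ g : G, g • B = B ∧ g • P = Q := by
  classical
  set H := stabilizer G B
  obtain ⟨x, hx⟩ := Γ.exists_pt B
  obtain ⟨o, ho⟩ := Γ.exists_out B
  have hinv : ∀ {u w : X}, (⟦u⟧ : Quotient (orbitRel H X)) = ⟦w⟧ → (Γ.I u B ↔ Γ.I w B) := by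
    intro u w e
    obtain ⟨g, hg⟩ := Quotient.exact e
    have h2 : (g : G) • w = u := hg
    rw [← h2]
    conv_lhs => rw [show B = (g : G) • B from g.2.symm]
    exact Γ.inv _ w B
  have hPQ : (⟦P⟧ : Quotient (orbitRel H X)) = ⟦Q⟧ := by
    by_cases hP : Γ.I P B
    · exact ((Nat.card_eq_two_iff' (⟦o⟧ : Quotient (orbitRel H X))).1 (Γ.card_orbits_X B)).unique
        (fun e => ho ((hinv e).1 hP)) (fun e => ho ((hinv e).1 (h.1 hP)))
    · exact ((Nat.card_eq_two_iff' (⟦x⟧ : Quotient (orbitRel H X))).1 (Γ.card_orbits_X B)).unique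
        (fun e => hP ((hinv e).2 hx)) (fun e => hP (h.2 ((hinv e).2 hx)))
  obtain ⟨g, hg⟩ := Quotient.exact hPQ
  refine ⟨(g : G)⁻¹, inv_smul_eq_iff.2 g.2.symm, ?_⟩
  rw [← show (g : G) • Q = P from hg, inv_smul_smul]

/-- Elements fixing every point of a block. -/
def fixer (B : Y) : Subgroup G where
  carrier := {g | ∀ x, Γ.I x B → g • x = x}
  one_mem' := fun x _ => one_smul _ x
  mul_mem' := fun ha hb x hx => by rw [mul_smul, hb x hx, ha x hx]
  inv_mem' := fun ha x hx => inv_smul_eq_iff.2 (ha x hx).symm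

lemma mem_fixer {B : Y} {g : G} : g ∈ Γ.fixer B ↔ ∀ x, Γ.I x B → g • x = x := Iff.rfl

lemma fixer_conj {h : G} {B : Y} {g : G} (hg : g ∈ Γ.fixer B) :
    h * g * h⁻¹ ∈ Γ.fixer (h • B) := by
  intro x hx
  rw [mul_smul, mul_smul, hg _ ((Γ.inv_iff h x B).1 hx), smul_inv_smul]

lemma fixer_ne_bot (B : Y) : Γ.fixer B ≠ ⊥ := by
  obtain ⟨B₀, g, hg, hfix⟩ := Γ.axial
  obtain ⟨h, rfl⟩ := Γ.exists_moveY B₀ B
  intro hb
  have := Γ.fixer_conj (h := h) (show g ∈ Γ.fixer B₀ from hfix)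
  rw [hb, Subgroup.mem_bot] at this
  exact hg (conj_eq_one_iff.1 this)

/-- Elations with axis `B`. -/
def IsEl (B : Y) (g : G) : Prop :=
  g ∈ Γ.fixer B ∧ (g = 1 ∨ ∀ x, ¬ Γ.I x B → g • x ≠ x)

lemma IsEl.conj {B : Y} {g : G} (hg : Γ.IsEl B g) (h : G) : Γ.IsEl (h • B) (h * g * h⁻¹) := by
  refine ⟨Γ.fixer_conj hg.1, ?_⟩
  rcases hg.2 with rfl | hg2
  · left; simp
  · right
    intro x hx hfx
    rw [mul_smul, mul_smul, ← eq_inv_smul_iff] at hfx
    exact hg2 _ (fun e => hx ((Γ.inv_iff h x B).2 e)) hfx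

theorem el_subgroup (B : Y) :
    ∃ S : Subgroup G, (∀ g, g ∈ S ↔ Γ.IsEl B g) ∧ S ≠ ⊥ := by
  classical
  by_cases hhom : ∀ g ∈ Γ.fixer B, g = 1 ∨ ∀ x, ¬ Γ.I x B → g • x ≠ x
  · exact ⟨Γ.fixer B, fun g => ⟨fun hg => ⟨hg, hhom g hg⟩, fun hg => hg.1⟩, Γ.fixer_ne_bot B⟩
  push_neg at hhom
  obtain ⟨g₀, hg₀, hg₀1, P, hP, hfix⟩ := hhom
  set Q := Γ.fixer B
  have hpt : ∀ R : X, ¬ Γ.I R B → ∃ g : Q, g ≠ 1 ∧ g • R = R := by
    intro R hR
    obtain ⟨h, hB, hPR⟩ := Γ.trans_pts (B := B) (P := P) (Q := R) (by simp [hP, hR])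
    refine ⟨⟨h * g₀ * h⁻¹, ?_⟩, ?_, ?_⟩
    · have := Γ.fixer_conj (h := h) hg₀
      rwa [hB] at this
    · intro e
      exact hg₀1 (conj_eq_one_iff.1 (congrArg Subtype.val e))
    · show (h * g₀ * h⁻¹) • R = R
      rw [← hPR, mul_smul, mul_smul, inv_smul_smul, hfix]
  have huniq : ∀ (g : Q) (R R' : X), ¬ Γ.I R B → ¬ Γ.I R' B → g • R = R → g • R' = R' →
      g ≠ 1 → R = R' := by
    intro g R R' hR hR' h1 h2 hg
    by_contra hne
    exact hg (Subtype.ext (Γ.eq_one_of_two_fixed g.2 hR hR' hne h1 h2))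
  have hinvQ : ∀ (g : Q) (R : X), ¬ Γ.I R B → ¬ Γ.I (g • R) B := by
    intro g R hR h'
    have h2 := (Γ.inv (g : G) R B)
    rw [Γ.fix_axis g.2] at h2
    exact hR (h2.1 h')
  have hcompl : ∀ R, ¬ Γ.I R B → IsFrobeniusComplement (stabilizer Q R) := by
    intro R hR
    obtain ⟨g, hg1, hgR⟩ := hpt R hR
    refine ⟨fun e => hg1 ?_, fun e => ?_, fun h hh => ?_⟩
    · have : g ∈ stabilizer Q R := hgR
      rwa [e, Subgroup.mem_bot] at this
    · obtain ⟨R', hR', hne⟩ := Γ.exists_out_ne B R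
      obtain ⟨m, hmB, hm⟩ := Γ.trans_pts (B := B) (P := R) (Q := R') (by simp [hR, hR'])
      have hc : m⁻¹ * (g : G) * m⁻¹⁻¹ ∈ Q := by
        have := Γ.fixer_conj (h := m⁻¹) g.2
        rwa [inv_smul_eq_iff.2 hmB.symm] at this
      have h1 : (⟨_, hc⟩ : Q) ∈ stabilizer Q R := e ▸ Subgroup.mem_top _
      have h2 : (g : G) • R' = R' := by
        have h3 : (m⁻¹ * (g : G) * m⁻¹⁻¹) • R = R := h1
        rw [inv_inv, mul_smul, mul_smul, inv_smul_eq_iff, hm] at h3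
        exact h3
      exact hne.symm (huniq g R R' hR hR' hgR h2 hg1)
    · refine (Subgroup.eq_bot_iff_forall _).2 fun x hx => ?_
      obtain ⟨hx1, hx2⟩ := Subgroup.mem_inf.1 hx
      rw [Subgroup.mem_pointwise_smul_iff_inv_smul_mem, MulAut.smul_def, MulAut.conj_inv_apply,
        mem_stabilizer_iff, mul_smul, mul_smul, inv_smul_eq_iff] at hx2
      by_contra hne
      exact hh (huniq x R (h • R) hR (hinvQ h R hR) hx1 hx2 hne).symm
  have hkmem : ∀ (R : X) (x : Q), x ∈ frobeniusKernel (stabilizer Q R) ↔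
      x = 1 ∨ ∀ g : Q, x • (g • R) ≠ g • R := by
    intro R x
    show (x = 1 ∨ ∀ g : Q, x ∉ MulAut.conj g • stabilizer Q R) ↔ _
    refine or_congr Iff.rfl (forall_congr' fun g => not_congr ?_)
    rw [Subgroup.mem_pointwise_smul_iff_inv_smul_mem, MulAut.smul_def, MulAut.conj_inv_apply,
      mem_stabilizer_iff, mul_smul, mul_smul, inv_smul_eq_iff]
  have htrans : ∀ R : X, ¬ Γ.I R B → ∃ g : Q, g • P = R := by
    intro R hR
    by_contra hc
    push_neg at hc
    have hcov : (Set.univ : Set Q) ⊆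
        frobeniusKernel (stabilizer Q P) ∪ frobeniusKernel (stabilizer Q R) := by
      intro x _
      by_contra hx
      simp only [Set.mem_union, hkmem, not_or, not_forall, not_not] at hx
      obtain ⟨⟨hx1, g, hg⟩, -, g', hg'⟩ := hx
      have := huniq x _ _ (hinvQ g P hP) (hinvQ g' R hR) hg hg' hx1
      exact hc (g'⁻¹ * g) (by rw [mul_smul, this, inv_smul_smul])
    have h1 : 1 ≤ (frobeniusKernel (stabilizer Q P) ∩ frobeniusKernel (stabilizer Q R)).ncard :=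
      (Set.ncard_pos).2 ⟨1, Or.inl rfl, Or.inl rfl⟩
    have h2 := Set.ncard_le_ncard hcov
    have h3 := Set.ncard_union_add_ncard_inter (frobeniusKernel (stabilizer Q P))
      (frobeniusKernel (stabilizer Q R))
    rw [Set.ncard_univ] at h2
    rw [← Nat.card_coe_set_eq (frobeniusKernel (stabilizer Q P)),
      ← Nat.card_coe_set_eq (frobeniusKernel (stabilizer Q R)),
      (Cfsg.Agent.S0034.result _ (hcompl P hP)).1,
      (Cfsg.Agent.S0034.result _ (hcompl R hR)).1] at h3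
    have h4 : ∀ R', ¬ Γ.I R' B → 2 * (stabilizer Q R').index ≤ Nat.card Q := by
      intro R' hR'
      rw [← Subgroup.card_mul_index (stabilizer Q R')]
      exact Nat.mul_le_mul_right _ ((Subgroup.one_lt_card_iff_ne_bot _).2 (hcompl R' hR').1)
    have := h4 P hP
    have := h4 R hR
    omega
  obtain ⟨N, hN, -, hNc⟩ := Cfsg.Agent.S0035.result _ (hcompl P hP)
  refine ⟨N.map Q.subtype, fun g => ⟨?_, fun hg => ?_⟩, fun e => ?_⟩
  · rintro ⟨x, hx, rfl⟩
    refine ⟨x.2, ?_⟩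
    have hx' : x ∈ frobeniusKernel (stabilizer Q P) := hN ▸ hx
    rcases (hkmem P x).1 hx' with rfl | hx'
    · exact Or.inl rfl
    · refine Or.inr fun R hR => ?_
      obtain ⟨g, rfl⟩ := htrans R hR
      exact hx' g
  · refine ⟨⟨g, hg.1⟩, ?_, rfl⟩
    show (⟨g, hg.1⟩ : Q) ∈ (N : Set Q)
    rw [hN]
    refine (hkmem P _).2 ?_
    rcases hg.2 with rfl | hg2
    · exact Or.inl rfl
    · exact Or.inr fun m => hg2 _ (hinvQ m P hP)
  · rw [Subgroup.map_eq_bot_iff_of_injective _ Q.subtype_injective] at e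
    have h1 := hNc.card_mul
    rw [e, Subgroup.card_bot, one_mul] at h1
    exact (hcompl P hP).2.1 (Subgroup.eq_top_of_card_eq _ h1)

/-- The group of elations with axis `B`. -/
noncomputable def El (B : Y) : Subgroup G := Classical.choose (Γ.el_subgroup B)

lemma mem_El {B : Y} {g : G} : g ∈ Γ.El B ↔ Γ.IsEl B g :=
  (Classical.choose_spec (Γ.el_subgroup B)).1 g

lemma El_ne_bot (B : Y) : Γ.El B ≠ ⊥ := (Classical.choose_spec (Γ.el_subgroup B)).2

lemma El_conj {B : Y} {g : G} (hg : g ∈ Γ.El B) (h : G) : h * g * h⁻¹ ∈ Γ.El (h • B) :=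
  Γ.mem_El.2 ((Γ.mem_El.1 hg).conj Γ h)

lemma El_fix {B : Y} {g : G} (hg : g ∈ Γ.El B) {x : X} (hx : Γ.I x B) : g • x = x :=
  (Γ.mem_El.1 hg).1 x hx

lemma El_fixB {B : Y} {g : G} (hg : g ∈ Γ.El B) : g • B = B := Γ.fix_axis (Γ.mem_El.1 hg).1

lemma El_free {B : Y} {g : G} (hg : g ∈ Γ.El B) (h1 : g ≠ 1) {x : X} (hx : ¬ Γ.I x B) :
    g • x ≠ x :=
  ((Γ.mem_El.1 hg).2.resolve_left h1) x hx

/-- The pencil through two blocks, without the first of them. -/
noncomputable def pen (B C : Y) : Finset Y :=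
  univ.filter fun D => D ≠ B ∧ Γ.pts D ∩ Γ.pts B = Γ.pts C ∩ Γ.pts B

lemma mem_pen {B C D : Y} :
    D ∈ Γ.pen B C ↔ D ≠ B ∧ Γ.pts D ∩ Γ.pts B = Γ.pts C ∩ Γ.pts B := by simp [pen]

lemma self_mem_pen {B C : Y} (h : C ≠ B) : C ∈ Γ.pen B C := Γ.mem_pen.2 ⟨h, rfl⟩

lemma pen_eq_of_mem {B C D : Y} (h : D ∈ Γ.pen B C) : Γ.pen B D = Γ.pen B C := by
  ext E; rw [Γ.mem_pen, Γ.mem_pen, (Γ.mem_pen.1 h).2]

/-- Two members of a pencil meet in the same points as with the first block. -/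
lemma pen_meet {B C D : Y} (hC : C ≠ B) (h : D ∈ Γ.pen B C) (hDC : D ≠ C) :
    Γ.pts D ∩ Γ.pts C = Γ.pts C ∩ Γ.pts B := by
  symm
  refine eq_of_subset_of_card_le ?_ (by rw [Γ.meetPts _ _ hDC, Γ.meetPts _ _ hC])
  intro x hx
  have h2 := hx
  rw [← (Γ.mem_pen.1 h).2] at h2
  exact mem_inter.2 ⟨(mem_inter.1 h2).1, (mem_inter.1 hx).1⟩

lemma pen_smul (g : G) (B C : Y) : (Γ.pen B C).image (fun D => g • D) = Γ.pen (g • B) (g • C) := by
  have key : ∀ D, Γ.pts (g • D) ∩ Γ.pts (g • B) = (Γ.pts D ∩ Γ.pts B).image (fun x => g • x) := by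
    intro D
    rw [image_inter _ _ (MulAction.injective g), ← Γ.smul_pts, ← Γ.smul_pts]
  ext E
  simp only [mem_image, mem_pen]
  constructor
  · rintro ⟨D, ⟨h1, h2⟩, rfl⟩
    exact ⟨fun e => h1 (smul_left_cancel g e), by rw [key, key, h2]⟩
  · rintro ⟨h1, h2⟩
    refine ⟨g⁻¹ • E, ⟨fun e => h1 (by rw [← e, smul_inv_smul]), ?_⟩, smul_inv_smul g E⟩
    refine image_injective (MulAction.injective g) ?_
    rw [← key, ← key, smul_inv_smul, h2]

end Geo

end Cfsg.Agent.Axial80
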