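import Mathlib
import Cfsg.Agent.Lib.Axial80Geo

/-!
# Covariant families of elation groups are transitive on pencils
-/

set_option autoImplicit false

namespace Cfsg.Agent.Axial80

open Finset MulAction

variable {G X Y : Type*} [Group G] [Fintype X] [Fintype Y] [DecidableEq X] [DecidableEq Y]
  [MulAction G X] [MulAction G Y]

namespace Geo

variable (Γ : Geo G X Y) [Finite G]

include Γ

/-- A covariant family of non-trivial elation groups. -/
structure Fam where
  M : Y → Subgroup G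
  le : ∀ B g, g ∈ M B → g ∈ Γ.El B
  cov : ∀ (h : G) B g, g ∈ M B → h * g * h⁻¹ ∈ M (h • B)
  ne : ∀ B, M B ≠ ⊥

/-- The family of all elations. -/
noncomputable def elFam : Γ.Fam where
  M := Γ.El
  le := fun _ _ h => h
  cov := fun h _ _ hg => Γ.El_conj hg h
  ne := Γ.El_ne_bot

lemma card_pen_eq {B C B' C' : Y} (h : C ≠ B) (h' : C' ≠ B') :
    (Γ.pen B C).card = (Γ.pen B' C').card := by
  obtain ⟨g, rfl, rfl⟩ := Γ.twoY B C B' C' h.symm h'.symm
  rw [← Γ.pen_smul, card_image_of_injective _ (MulAction.injective g)]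

/-- Pencils are small. -/
lemma card_pen_le {B C : Y} (h : C ≠ B) : (Γ.pen B C).card * Γ.lam ≤ Γ.k - 1 := by
  have h1 : (Γ.pen B C).card * (Γ.k - Γ.lam) ≤ Fintype.card X - Γ.k := by
    have hd : ((Γ.pen B C : Finset Y) : Set Y).PairwiseDisjoint fun D => Γ.pts D \ Γ.pts B := by
      intro D hD D' hD' hne
      rw [Function.onFun, disjoint_left]
      intro x hx hx'
      rw [mem_sdiff] at hx hx'
      have hD'' : D' ∈ Γ.pen B D := by rwa [Γ.pen_eq_of_mem hD]
      have h2 := Γ.pen_meet (Γ.mem_pen.1 hD).1 hD'' (Ne.symm hne)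
      have : x ∈ Γ.pts D' ∩ Γ.pts D := mem_inter.2 ⟨hx'.1, hx.1⟩
      rw [h2] at this
      exact hx.2 (mem_inter.1 this).2
    have hc := card_biUnion hd
    have hsub : (Γ.pen B C).biUnion (fun D => Γ.pts D \ Γ.pts B) ⊆ univ \ Γ.pts B := fun x hx => by
      obtain ⟨D, -, hx⟩ := mem_biUnion.1 hx
      simp [(mem_sdiff.1 hx).2]
    have := card_le_card hsub
    rw [hc, card_univ_diff, Γ.cardPts] at this
    refine le_trans (le_of_eq ?_) this
    rw [← smul_eq_mul, ← sum_const]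
    refine sum_congr rfl fun D hD => ?_
    rw [card_sdiff, inter_comm, Γ.meetPts _ _ (Γ.mem_pen.1 hD).1, Γ.cardPts]
  have h2 := Γ.eqn'
  have h3 := Γ.toDsn.lam_lt
  refine Nat.le_of_mul_le_mul_right ?_ (show 0 < Γ.k - Γ.lam by omega)
  rw [← h2, mul_right_comm]
  exact Nat.mul_le_mul_right _ h1

namespace Fam

variable {Γ} (F : Γ.Fam)

lemma smul_mem_pen {B C : Y} (hC : C ≠ B) {g : G} (hg : g ∈ F.M B) : g • C ∈ Γ.pen B C := by
  refine Γ.mem_pen.2 ⟨fun e => hC (smul_left_cancel g (e.trans (Γ.El_fixB (F.le _ _ hg)).symm)), ?_⟩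
  conv_lhs => arg 2; rw [← Γ.El_fixB (F.le _ _ hg)]
  rw [Γ.smul_pts, Γ.smul_pts, ← image_inter _ _ (MulAction.injective g)]
  conv_rhs => rw [← image_id (s := Γ.pts C ∩ Γ.pts B)]
  exact image_congr fun x hx => Γ.El_fix (F.le _ _ hg) (mem_ptsOf.1 (mem_inter.1 hx).2)

lemma card_stab_eq {B C C' : Y} (h : C ≠ B) (h' : C' ≠ B) :
    Nat.card ↥(F.M B ⊓ stabilizer G C) = Nat.card ↥(F.M B ⊓ stabilizer G C') := by
  obtain ⟨m, hB, rfl⟩ := Γ.twoY B C B C' h.symm h'.symm
  refine Nat.card_congr ⟨fun g => ⟨m * g * m⁻¹, ?_⟩, fun g => ⟨m⁻¹ * g * m, ?_⟩, fun g => ?_,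
    fun g => ?_⟩
  · obtain ⟨h1, h2⟩ := Subgroup.mem_inf.1 g.2
    refine Subgroup.mem_inf.2 ⟨by simpa [hB] using F.cov m _ _ h1, ?_⟩
    rw [mem_stabilizer_iff, mul_smul, mul_smul, inv_smul_smul, mem_stabilizer_iff.1 h2]
  · obtain ⟨h1, h2⟩ := Subgroup.mem_inf.1 g.2
    refine Subgroup.mem_inf.2 ⟨?_, ?_⟩
    · have := F.cov m⁻¹ _ _ h1
      rwa [inv_inv, inv_smul_eq_iff.2 hB.symm] at this
    · rw [mem_stabilizer_iff, mul_smul, mul_smul, mem_stabilizer_iff.1 h2, inv_smul_smul]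
  · exact Subtype.ext (by simp [mul_assoc])
  · exact Subtype.ext (by simp [mul_assoc])

/-- The basic counting identity. -/
lemma count {B C : Y} (h : C ≠ B) :
    Γ.k * (Nat.card ↥(F.M B ⊓ stabilizer G C) - 1) = Γ.lam * (Nat.card (F.M B) - 1) := by
  classical
  have := Fintype.ofFinite G
  set S := (univ : Finset G).filter fun g => g ∈ F.M B ∧ g ≠ 1 with hS
  have cardS : ∀ (H : Subgroup G), ((univ : Finset G).filter fun g => g ∈ H ∧ g ≠ 1).card
      = Nat.card H - 1 := by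
    intro H
    rw [Nat.card_eq_fintype_card, Fintype.card_subtype,
      ← card_erase_of_mem (show (1 : G) ∈ univ.filter (· ∈ H) by simp [H.one_mem])]
    congr 1; ext g; simp [and_comm]
  have h1 : ∀ g ∈ S, ((univ.erase B).filter fun D : Y => g • D = D).card = Γ.k - 1 := by
    intro g hg
    simp only [hS, mem_filter, mem_univ, true_and] at hg
    have hB := Γ.El_fixB (F.le _ _ hg.1)
    rw [filter_erase, card_erase_of_mem (by simp [hB])]
    congr 1
    exact (Γ.isAut g).card_fixBlk (B := B)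
      (fun x hx => Γ.El_fix (F.le _ _ hg.1) (mem_ptsOf.1 hx))
      (fun x hx => Γ.El_free (F.le _ _ hg.1) hg.2 fun e => hx (mem_ptsOf.2 e))
  have h2 : ∀ D ∈ univ.erase B, (S.filter fun g => g • D = D).card
      = Nat.card ↥(F.M B ⊓ stabilizer G C) - 1 := by
    intro D hD
    rw [F.card_stab_eq h (ne_of_mem_erase hD), ← cardS]
    congr 1; ext g
    simp [hS, mem_stabilizer_iff]; tauto
  have h3 : ∑ g ∈ S, ((univ.erase B).filter fun D : Y => g • D = D).card
      = ∑ D ∈ univ.erase B, (S.filter fun g => g • D = D).card := by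
    simp only [card_filter]; exact Finset.sum_comm
  rw [sum_congr rfl h1, sum_congr rfl h2, sum_const, sum_const, smul_eq_mul, smul_eq_mul,
    card_erase_of_mem (mem_univ B), card_univ, cardS (F.M B), ← Γ.cardEq] at h3
  have h4 := Γ.toDsn.eqn
  have h5 := Γ.two_le
  refine Nat.eq_of_mul_eq_mul_left (show 0 < Γ.k - 1 by omega) ?_
  calc (Γ.k - 1) * (Γ.k * (Nat.card ↥(F.M B ⊓ stabilizer G C) - 1))
      = Γ.k * (Γ.k - 1) * (Nat.card ↥(F.M B ⊓ stabilizer G C) - 1) := by ring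
    _ = Γ.lam * (Fintype.card X - 1) * (Nat.card ↥(F.M B ⊓ stabilizer G C) - 1) := by rw [h4]
    _ = Γ.lam * ((Fintype.card X - 1) * (Nat.card ↥(F.M B ⊓ stabilizer G C) - 1)) := by ring
    _ = Γ.lam * ((Nat.card (F.M B) - 1) * (Γ.k - 1)) := by rw [← h3]
    _ = (Γ.k - 1) * (Γ.lam * (Nat.card (F.M B) - 1)) := by ring

/-- The orbit of a block under the family group at another block. -/
noncomputable def orb (B C : Y) : Finset Y :=
  open Classical in univ.filter fun D => ∃ g ∈ F.M B, g • C = D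

lemma mem_orb {B C D : Y} : D ∈ F.orb B C ↔ ∃ g ∈ F.M B, g • C = D := by simp [orb]

lemma orb_subset {B C : Y} (hC : C ≠ B) : F.orb B C ⊆ Γ.pen B C := fun D hD => by
  obtain ⟨g, hg, rfl⟩ := F.mem_orb.1 hD
  exact F.smul_mem_pen hC hg

lemma card_orb_mul {B C : Y} :
    (F.orb B C).card * Nat.card ↥(F.M B ⊓ stabilizer G C) = Nat.card (F.M B) := by
  classical
  have h1 : Nat.card ↥(F.M B ⊓ stabilizer G C) = Nat.card (stabilizer (F.M B) C) := by
    refine Nat.card_congr ⟨fun g => ⟨⟨g, (Subgroup.mem_inf.1 g.2).1⟩, (Subgroup.mem_inf.1 g.2).2⟩,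
      fun g => ⟨(g : F.M B), Subgroup.mem_inf.2 ⟨g.1.2, g.2⟩⟩, fun g => rfl, fun g => rfl⟩
  have h2 : (F.orb B C).card = Nat.card (orbit (F.M B) C) := by
    rw [← Nat.card_eq_finsetCard]
    refine Nat.card_congr (Equiv.subtypeEquivRight fun D => ?_)
    rw [F.mem_orb]
    exact ⟨fun ⟨g, hg, e⟩ => ⟨⟨g, hg⟩, e⟩, fun ⟨g, e⟩ => ⟨g, g.2, e⟩⟩
  rw [h1, h2, Nat.card_coe_set_eq, ← index_stabilizer, mul_comm, Subgroup.card_mul_index]

/-- The main consequences of the counting. -/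
theorem numerics {B C : Y} (hC : C ≠ B) :
    F.orb B C = Γ.pen B C ∧ 2 ≤ (Γ.pen B C).card ∧ 2 ≤ Nat.card ↥(F.M B ⊓ stabilizer G C) ∧
      Nat.card ↥(F.M B ⊓ stabilizer G C) * (Γ.k - Γ.lam * (Γ.pen B C).card) = Γ.k - Γ.lam := by
  classical
  set a := Nat.card ↥(F.M B ⊓ stabilizer G C) with ha
  set b := (F.orb B C).card with hb
  set t := (Γ.pen B C).card with ht
  have hab : b * a = Nat.card (F.M B) := F.card_orb_mul
  have hs : 2 ≤ Nat.card (F.M B) := (Subgroup.one_lt_card_iff_ne_bot _).2 (F.ne B)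
  have hcount := F.count hC
  rw [← ha, ← hab] at hcount
  have hk := Γ.two_le
  have hl := Γ.toDsn.lam_lt
  have hl1 := Γ.toDsn.lam_pos
  have ha2 : 2 ≤ a := by
    by_contra hc
    have : Γ.lam * (b * a - 1) = 0 := by rw [← hcount]; simp [show a - 1 = 0 by omega]
    rcases Nat.mul_eq_zero.1 this with h0 | h0 <;> omega
  have hbt : b ≤ t := card_le_card (F.orb_subset hC)
  have htk := Γ.card_pen_le hC
  rw [← ht] at htk
  have hbk : Γ.lam * b < Γ.k := by
    have := Nat.mul_le_mul_left Γ.lam hbt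
    rw [mul_comm t] at htk; omega
  have heq : a * (Γ.k - Γ.lam * b) = Γ.k - Γ.lam := by
    zify [hbk.le, hl.le, (by omega : 1 ≤ a), (by omega : 1 ≤ b * a)] at hcount ⊢
    linear_combination hcount
  have hbig : Γ.k + Γ.lam ≤ 2 * (Γ.lam * b) := by
    have := Nat.mul_le_mul_right (Γ.k - Γ.lam * b) ha2
    omega
  have horb : F.orb B C = Γ.pen B C := by
    by_contra hne
    obtain ⟨D, hD, hDn⟩ := exists_of_ssubset ((F.orb_subset hC).ssubset_of_ne hne)
    have hDB := (Γ.mem_pen.1 hD).1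
    have hb' : (F.orb B D).card = b := by
      have h1 : (F.orb B D).card * Nat.card ↥(F.M B ⊓ stabilizer G D) = _ := F.card_orb_mul
      rw [← F.card_stab_eq hC hDB, ← ha, ← hab] at h1
      exact Nat.eq_of_mul_eq_mul_right (by omega) h1
    have hdis : Disjoint (F.orb B C) (F.orb B D) := by
      rw [disjoint_left]
      intro E h1 h2
      obtain ⟨g, hg, rfl⟩ := F.mem_orb.1 h1
      obtain ⟨g', hg', e⟩ := F.mem_orb.1 h2
      exact hDn (F.mem_orb.2 ⟨g'⁻¹ * g, mul_mem (inv_mem hg') hg,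
        by rw [mul_smul, ← e, inv_smul_smul]⟩)
    have h2 : F.orb B C ∪ F.orb B D ⊆ Γ.pen B C :=
      union_subset (F.orb_subset hC) (Γ.pen_eq_of_mem hD ▸ F.orb_subset hDB)
    have h3 := card_le_card h2
    rw [card_union_of_disjoint hdis, hb', ← hb, ← ht] at h3
    have := Nat.mul_le_mul_left Γ.lam h3
    rw [mul_comm t] at htk
    rw [mul_add] at this
    omega
  have hbt' : b = t := by rw [hb, horb]
  refine ⟨horb, ?_, ha2, by rw [← hbt']; exact heq⟩
  by_contra hc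
  have hb1 : b = 1 := by
    rcases Nat.eq_zero_or_pos b with h0 | h0
    · simp [h0] at hab; omega
    · omega
  rw [hb1, mul_one] at heq
  have : 2 * (Γ.k - Γ.lam) ≤ a * (Γ.k - Γ.lam) := Nat.mul_le_mul_right _ ha2
  omega

lemma trans_pen {B C D : Y} (hC : C ≠ B) (hD : D ∈ Γ.pen B C) : ∃ g ∈ F.M B, g • C = D :=
  F.mem_orb.1 ((F.numerics hC).1.symm ▸ hD)

end Fam

end Geo

end Cfsg.Agent.Axial80
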