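import Mathlib
import Cfsg.Agent.Lib.Axial80Fam

/-!
# Every elation of a doubly transitive symmetric design has a centre
-/

set_option autoImplicit false

namespace Cfsg.Agent.Axial80

open Finset MulAction

variable {G X Y : Type*} [Group G] [Fintype X] [Fintype Y] [DecidableEq X] [DecidableEq Y]
  [MulAction G X] [MulAction G Y]

namespace Geo

variable (Γ : Geo G X Y) [Finite G]

include Γ

lemma exists_pt_off {C B : Y} (h : C ≠ B) : ∃ x, Γ.I x C ∧ ¬ Γ.I x B := by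
  by_contra hc
  push_neg at hc
  have h1 : Γ.pts C ∩ Γ.pts B = Γ.pts C :=
    inter_eq_left.2 fun x hx => mem_ptsOf.2 (hc x (mem_ptsOf.1 hx))
  have h2 := Γ.meetPts C B h
  simp only [Dsn.pts] at h1
  rw [h1, Γ.cardPts] at h2
  exact Nat.ne_of_gt Γ.toDsn.lam_lt h2

lemma card_fixBlk {B : Y} {g : G} (hg : g ∈ Γ.El B) (h1 : g ≠ 1) :
    ((univ : Finset Y).filter fun y => g • y = y).card = Γ.k :=
  (Γ.isAut g).card_fixBlk (B := B) (fun _ hx => Γ.El_fix hg (mem_ptsOf.1 hx))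
    (fun _ hx => Γ.El_free hg h1 fun e => hx (mem_ptsOf.2 e))

/-- An elation that can be moved off every fixed block by a commuting elation has a centre. -/
theorem exists_centre {C : Y} {s : G} (hs : s ∈ Γ.El C) (hs1 : s ≠ 1)
    (hmove : ∀ B, B ≠ C → s • B = B → ∃ g ∈ Γ.El C, g * s = s * g ∧ g • B ≠ B) :
    ∃ z, Γ.I z C ∧ ∀ y, Γ.I z y → s • y = y := by
  classical
  have hsC := Γ.El_fixB hs
  set F := ((univ : Finset Y).filter fun y => s • y = y).erase C with hF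
  have hFcard : F.card = Γ.k - 1 := by
    rw [hF, card_erase_of_mem (by simp [hsC]), Γ.card_fixBlk hs hs1]
  by_cases hz : ∃ z ∈ Γ.pts C, ∀ B ∈ F, Γ.I z B
  · obtain ⟨z, hzC, hzF⟩ := hz
    rw [mem_ptsOf] at hzC
    refine ⟨z, hzC, fun y hy => ?_⟩
    have h1 : ((univ : Finset Y).filter fun y => s • y = y) ⊆ Γ.blks z := fun B hB => by
      rw [mem_blksOf]
      by_cases hBC : B = C
      · exact hBC ▸ hzC
      · exact hzF B (mem_erase.2 ⟨hBC, hB⟩)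
    have h2 := eq_of_subset_of_card_le h1 (by rw [Γ.card_fixBlk hs hs1, Γ.cardBlks])
    have : y ∈ ((univ : Finset Y).filter fun y => s • y = y) := h2.symm ▸ mem_blksOf.2 hy
    simpa using this
  push_neg at hz
  exfalso
  have hbound : ∀ x ∈ Γ.pts C, (F.filter fun y => x ∈ Γ.pts y).card + 1 ≤ Γ.lam := by
    intro x hxC
    obtain ⟨B, hBF, hxB⟩ := hz x hxC
    obtain ⟨hBC, hsB'⟩ := mem_erase.1 hBF
    have hsB : s • B = B := by simpa using hsB'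
    obtain ⟨g, hg, hgs, hgB⟩ := hmove B hBC hsB
    set D₀ := g • B with hD₀
    have hgC := Γ.El_fixB hg
    have hD₀C : D₀ ≠ C := fun e => hBC (smul_left_cancel g (e.trans hgC.symm))
    have hD₀pen : D₀ ∈ Γ.pen C B := Γ.elFam.smul_mem_pen hBC hg
    have hm := Γ.pen_meet hBC hD₀pen hgB
    have hsD₀ : s • D₀ = D₀ := by rw [hD₀, ← mul_smul, ← hgs, mul_smul, hsB]
    have hCpen : C ∈ Γ.pen B D₀ := Γ.mem_pen.2 ⟨hBC.symm, by rw [hm, inter_comm]⟩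
    obtain ⟨g', hg', hg'D⟩ := Γ.elFam.trans_pen hgB hCpen
    change g' ∈ Γ.El B at hg'
    set D := g' • C with hD
    have hDC : D ≠ C := fun e => hD₀C (smul_left_cancel g' (hg'D.trans e.symm))
    have hDpen : D ∈ Γ.pen B C := Γ.elFam.smul_mem_pen hBC.symm hg'
    have hDB : D ≠ B := (Γ.mem_pen.1 hDpen).1
    set w := g' * s * g'⁻¹ with hw
    have hwD : w ∈ Γ.El D := Γ.El_conj hs g'
    have hwC : w • C = C := by
      rw [hw, mul_smul, mul_smul, inv_smul_eq_iff.2 hg'D.symm, hsD₀, hg'D]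
    set u := w * s⁻¹ with hu
    have huB : u ∈ Γ.El B := by
      have h1 := Γ.El_conj (inv_mem hg') s
      rw [hsB] at h1
      have : u = g' * (s * g'⁻¹ * s⁻¹) := by rw [hu, hw]; group
      exact this ▸ mul_mem hg' h1
    have hu1 : u ≠ 1 := by
      intro e
      have hws : w = s := mul_inv_eq_one.1 e
      obtain ⟨p, hpD, hpC⟩ := Γ.exists_pt_off hDC
      exact Γ.El_free hs hs1 hpC (hws ▸ Γ.El_fix hwD hpD)
    have hsiC : s⁻¹ • C = C := inv_smul_eq_iff.2 hsC.symm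
    have huC : u • C = C := by rw [hu, mul_smul, hsiC, hwC]
    have hux : u • x ≠ x := Γ.El_free huB hu1 hxB
    have key : ∀ E ∈ F, Γ.I x E → u • E = E := by
      intro E hEF hxE
      obtain ⟨hEC, hsE'⟩ := mem_erase.1 hEF
      have hsE : s • E = E := by simpa using hsE'
      by_contra hne
      have hwE : u • E = w • E := by rw [hu, mul_smul, inv_smul_eq_iff.2 hsE.symm]
      have hEB : E ≠ B := fun e => hxB (e ▸ hxE)
      have hxD : ¬ Γ.I x D := fun h => hxB (mem_ptsOf.1 (mem_inter.1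
        ((Γ.pen_meet hBC.symm hDpen hDC) ▸ mem_inter.2 ⟨mem_ptsOf.2 h, hxC⟩ :
          x ∈ Γ.pts C ∩ Γ.pts B)).2)
      have hED : E ≠ D := fun e => hxD (e ▸ hxE)
      have s1 : Γ.pts E ∩ Γ.pts B = Γ.pts E ∩ Γ.pts (u • E) := by
        refine eq_of_subset_of_card_le (fun p hp => ?_)
          (by rw [Γ.meetPts _ _ (Ne.symm hne), Γ.meetPts _ _ hEB])
        obtain ⟨hpE, hpB⟩ := mem_inter.1 hp
        refine mem_inter.2 ⟨hpE, mem_ptsOf.2 ?_⟩
        rw [← Γ.El_fix huB (mem_ptsOf.1 hpB)]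
        exact (Γ.inv u p E).2 (mem_ptsOf.1 hpE)
      have s2 : Γ.pts E ∩ Γ.pts D = Γ.pts E ∩ Γ.pts (u • E) := by
        refine eq_of_subset_of_card_le (fun p hp => ?_)
          (by rw [Γ.meetPts _ _ (Ne.symm hne), Γ.meetPts _ _ hED])
        obtain ⟨hpE, hpD⟩ := mem_inter.1 hp
        refine mem_inter.2 ⟨hpE, mem_ptsOf.2 ?_⟩
        rw [hwE, ← Γ.El_fix hwD (mem_ptsOf.1 hpD)]
        exact (Γ.inv w p E).2 (mem_ptsOf.1 hpE)
      have s3 : Γ.pts E ∩ Γ.pts B = Γ.pts E ∩ Γ.pts C := by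
        refine eq_of_subset_of_card_le (fun p hp => ?_)
          (by rw [Γ.meetPts _ _ hEC, Γ.meetPts _ _ hEB])
        obtain ⟨hpE, hpB⟩ := mem_inter.1 hp
        have hpD := (mem_inter.1 ((s1.trans s2.symm) ▸ hp)).2
        have := (Γ.mem_pen.1 hDpen).2 ▸ mem_inter.2 ⟨hpD, hpB⟩
        exact mem_inter.2 ⟨hpE, (mem_inter.1 this).1⟩
      have : x ∈ Γ.pts E ∩ Γ.pts B := s3.symm ▸ mem_inter.2 ⟨mem_ptsOf.2 hxE, hxC⟩
      exact hxB (mem_ptsOf.1 (mem_inter.1 this).2)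
    have hsub : insert C (F.filter fun y => x ∈ Γ.pts y) ⊆ Γ.blks x ∩ Γ.blks (u • x) := by
      intro E hE
      have : Γ.I x E ∧ u • E = E := by
        rcases mem_insert.1 hE with rfl | hE
        · exact ⟨mem_ptsOf.1 hxC, huC⟩
        · obtain ⟨h1, h2⟩ := mem_filter.1 hE
          exact ⟨mem_ptsOf.1 h2, key E h1 (mem_ptsOf.1 h2)⟩
      refine mem_inter.2 ⟨mem_blksOf.2 this.1, mem_blksOf.2 ?_⟩
      have h3 := (Γ.inv u x E).2 this.1
      rwa [this.2] at h3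
    have := card_le_card hsub
    rwa [card_insert_of_notMem (by simp [hF]), Γ.meetBlks _ _ (Ne.symm hux)] at this
  have h1 : ∑ x ∈ Γ.pts C, (F.filter fun y => x ∈ Γ.pts y).card = (Γ.k - 1) * Γ.lam := by
    rw [← hFcard, ← smul_eq_mul, ← sum_const]
    simp only [card_filter]
    rw [Finset.sum_comm]
    refine sum_congr rfl fun y hy => ?_
    rw [← card_filter, filter_mem_eq_inter, Γ.meetPts _ _ (ne_of_mem_erase hy).symm]
  have h2 := sum_le_sum hbound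
  rw [sum_add_distrib, h1, sum_const, sum_const, Γ.cardPts, smul_eq_mul, smul_eq_mul, mul_one]
    at h2
  have h3 := Γ.toDsn.lam_lt
  have h4 : (Γ.k - 1) * Γ.lam + Γ.lam = Γ.k * Γ.lam := by
    rw [← Nat.succ_mul, Nat.succ_eq_add_one, Nat.sub_add_cancel (by omega)]
  omega

/-- Elations with given centre and axis. -/
noncomputable def Ctr (z : X) (B : Y) : Subgroup G where
  carrier := {g | g ∈ Γ.El B ∧ ∀ y, Γ.I z y → g • y = y}
  one_mem' := ⟨one_mem _, fun y _ => one_smul _ y⟩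
  mul_mem' := fun ha hb => ⟨mul_mem ha.1 hb.1, fun y hy => by
    rw [mul_smul, hb.2 y hy, ha.2 y hy]⟩
  inv_mem' := fun ha => ⟨inv_mem ha.1, fun y hy => inv_smul_eq_iff.2 (ha.2 y hy).symm⟩

lemma mem_Ctr {z : X} {B : Y} {g : G} :
    g ∈ Γ.Ctr z B ↔ g ∈ Γ.El B ∧ ∀ y, Γ.I z y → g • y = y := Iff.rfl

lemma Ctr_conj {z : X} {B : Y} {g : G} (hg : g ∈ Γ.Ctr z B) (h : G) :
    h * g * h⁻¹ ∈ Γ.Ctr (h • z) (h • B) := by
  refine ⟨Γ.El_conj hg.1 h, fun y hy => ?_⟩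
  have h1 : Γ.I z (h⁻¹ • y) := (Γ.inv h z _).1 (by rwa [smul_inv_smul])
  rw [mul_smul, mul_smul, hg.2 _ h1, smul_inv_smul]

/-- The fixed blocks of a centred elation are those through its centre. -/
lemma fixBlk_iff {z : X} {B : Y} {g : G} (hg : g ∈ Γ.Ctr z B) (h1 : g ≠ 1) (y : Y) :
    g • y = y ↔ Γ.I z y := by
  have h2 : Γ.blks z = (univ : Finset Y).filter fun y => g • y = y :=
    eq_of_subset_of_card_le (fun y hy => by simp [hg.2 y (mem_blksOf.1 hy)])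
      (by rw [Γ.card_fixBlk hg.1 h1, Γ.cardBlks])
  rw [← mem_blksOf (I := Γ.I), show blksOf Γ.I z = _ from h2]
  simp

lemma centre_unique {z z' : X} {B : Y} {g : G} (hg : g ∈ Γ.Ctr z B) (hg' : g ∈ Γ.Ctr z' B)
    (h1 : g ≠ 1) : z = z' := by
  refine Γ.toDsn.blks_injective ?_
  ext y
  rw [mem_blksOf, mem_blksOf, ← Γ.fixBlk_iff hg h1, ← Γ.fixBlk_iff hg' h1]

lemma exists_flag_move {z z' : X} {B B' : Y} (h : Γ.I z B) (h' : Γ.I z' B') :
    ∃ g : G, g • z = z' ∧ g • B = B' := by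
  obtain ⟨g, rfl⟩ := Γ.exists_moveY B B'
  obtain ⟨m, hm, hmz⟩ := Γ.trans_pts (B := g • B) (P := g • z) (Q := z')
    (by simp [h', Γ.inv, h])
  exact ⟨m * g, by rw [mul_smul, hmz], by rw [mul_smul, hm]⟩

lemma Ctr_ne_bot {z : X} {B : Y} (hz : Γ.I z B) : Γ.Ctr z B ≠ ⊥ := by
  classical
  obtain ⟨B', hB'⟩ := Γ.exists_ne_block B
  obtain ⟨horb, ht, -, -⟩ := Γ.elFam.numerics hB'
  obtain ⟨p, hp, hpt⟩ := Nat.exists_prime_and_dvd (show (Γ.pen B B').card ≠ 1 by omega)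
  have := Fact.mk hp
  have hst : ∀ D, D ≠ B → ((Γ.El B).subgroupOf (Γ.El B) ⊓ stabilizer (Γ.El B) D).index
      = (Γ.pen B D).card := by
    intro D hD
    rw [Subgroup.subgroupOf_self, top_inf_eq, index_stabilizer, ← (Γ.elFam.numerics hD).1,
      ← Nat.card_coe_set_eq, ← Nat.card_eq_finsetCard]
    refine Nat.card_congr (Equiv.subtypeEquivRight fun E => ?_)
    rw [Γ.elFam.mem_orb]
    exact ⟨fun ⟨g, e⟩ => ⟨g, g.2, e⟩, fun ⟨g, hg, e⟩ => ⟨⟨g, hg⟩, e⟩⟩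
  obtain ⟨P⟩ : Nonempty (Sylow p (Γ.El B)) := inferInstance
  have hmoves : ∀ D, D ≠ B → ∃ g ∈ (P : Subgroup (Γ.El B)), g • D ≠ D := by
    intro D hD
    by_contra hc
    push_neg at hc
    have hle : (P : Subgroup (Γ.El B)) ≤
        (Γ.El B).subgroupOf (Γ.El B) ⊓ stabilizer (Γ.El B) D := fun g hg => by
      rw [Subgroup.subgroupOf_self, top_inf_eq, mem_stabilizer_iff]
      exact hc g hg
    have := Subgroup.index_dvd_of_le hle
    rw [hst D hD, Γ.card_pen_eq hD hB'] at this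
    exact P.not_dvd_index (hpt.trans this)
  have : Nontrivial P := by
    obtain ⟨g, hg, hgB⟩ := hmoves B' hB'
    exact ⟨⟨⟨g, hg⟩, 1, fun e => hgB (by
      have e' : g = 1 := congrArg Subtype.val e
      rw [e', one_smul])⟩⟩
  have : Nontrivial (Subgroup.center P) := P.isPGroup'.center_nontrivial
  obtain ⟨c, hc⟩ := exists_ne (1 : Subgroup.center P)
  set s : G := (((c : P) : Γ.El B) : G) with hs
  have hsEl : s ∈ Γ.El B := ((c : P) : Γ.El B).2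
  have hs1 : s ≠ 1 := fun e => hc (Subtype.ext (Subtype.ext (Subtype.ext e)))
  obtain ⟨z', hz', hfix⟩ := Γ.exists_centre hsEl hs1 (by
    intro D hD _
    obtain ⟨g, hg, hgD⟩ := hmoves D hD
    exact ⟨g, g.2, congrArg (fun r : P => ((r : Γ.El B) : G))
      (Subgroup.mem_center_iff.1 c.2 ⟨g, hg⟩), hgD⟩)
  obtain ⟨m, hm1, hm2⟩ := Γ.exists_flag_move hz' hz
  intro hbot
  have := Γ.Ctr_conj (z := z') (B := B) ⟨hsEl, hfix⟩ m
  rw [hm1, hm2, hbot, Subgroup.mem_bot, conj_eq_one_iff] at this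
  exact hs1 this

lemma Ctr_normalised {z : X} {B : Y} (hz : Γ.I z B) {g a : G} (hg : g ∈ Γ.El B)
    (ha : a ∈ Γ.Ctr z B) : g * a * g⁻¹ ∈ Γ.Ctr z B := by
  simpa [Γ.El_fix hg hz, Γ.El_fixB hg] using Γ.Ctr_conj ha g

lemma Ctr_comm_of_ne {z z' : X} {B : Y} (hz : Γ.I z B) (hz' : Γ.I z' B) (hne : z ≠ z')
    {a c : G} (ha : a ∈ Γ.Ctr z B) (hc : c ∈ Γ.Ctr z' B) : a * c = c * a := by
  by_contra h
  have h1 : a * c * a⁻¹ * c⁻¹ ∈ Γ.Ctr z B := by
    have := Γ.Ctr_normalised hz hc.1 (inv_mem ha)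
    have := mul_mem ha this
    convert this using 1
    group
  have h2 : a * c * a⁻¹ * c⁻¹ ∈ Γ.Ctr z' B :=
    mul_mem (Γ.Ctr_normalised hz' ha.1 hc) (inv_mem hc)
  refine hne (Γ.centre_unique h1 h2 fun e => h ?_)
  rw [mul_inv_eq_one, mul_inv_eq_iff_eq_mul] at e
  exact e

/-- A product of centred elations with different centres has a third centre. -/
lemma exists_third_centre {z z' : X} {B : Y} (hz : Γ.I z B) (hz' : Γ.I z' B) (hne : z ≠ z')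
    {a c : G} (ha : a ∈ Γ.Ctr z B) (hc : c ∈ Γ.Ctr z' B) (ha1 : a ≠ 1) (hc1 : c ≠ 1) :
    ∃ z'', Γ.I z'' B ∧ z'' ≠ z ∧ z'' ≠ z' ∧ a * c ∈ Γ.Ctr z'' B := by
  have hac := Γ.Ctr_comm_of_ne hz hz' hne ha hc
  have hx1 : a * c ≠ 1 := fun e => by
    have : a = c⁻¹ := mul_eq_one_iff_eq_inv.1 e
    exact hne (Γ.centre_unique ha (this ▸ inv_mem hc) ha1)
  obtain ⟨z'', hz'', hfix⟩ := Γ.exists_centre (mul_mem ha.1 hc.1) hx1 (by
    intro D hD _
    by_cases h1 : a • D = D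
    · by_cases h2 : c • D = D
      · obtain ⟨w, hwB, hwD⟩ := Γ.exists_pt_off hD.symm
        obtain ⟨d, hd, hd1⟩ := (Subgroup.ne_bot_iff_exists_ne_one.1 (Γ.Ctr_ne_bot hwB)).imp'
          (fun d => ((d : Γ.Ctr w B) : G)) (q := fun d => d ∈ Γ.Ctr w B ∧ d ≠ 1)
          fun d hd => ⟨d.2, fun e => hd (Subtype.ext e)⟩
        have hDz : Γ.I z D := (Γ.fixBlk_iff ha ha1 D).1 h1
        have hDz' : Γ.I z' D := (Γ.fixBlk_iff hc hc1 D).1 h2
        refine ⟨d, hd.1, ?_, fun e => hwD ((Γ.fixBlk_iff hd hd1 D).1 e)⟩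
        have e1 := Γ.Ctr_comm_of_ne hwB hz (fun e => hwD (e ▸ hDz)) hd ha
        have e2 := Γ.Ctr_comm_of_ne hwB hz' (fun e => hwD (e ▸ hDz')) hd hc
        rw [← mul_assoc, e1, mul_assoc, e2, mul_assoc]
      · exact ⟨c, hc.1, by rw [hac, mul_assoc, hac], h2⟩
    · exact ⟨a, ha.1, by rw [mul_assoc, hac], h1⟩)
  refine ⟨z'', hz'', ?_, ?_, ⟨mul_mem ha.1 hc.1, hfix⟩⟩
  · rintro rfl
    exact hne (Γ.centre_unique
      (show c ∈ Γ.Ctr z'' B by simpa using mul_mem (inv_mem ha) ⟨mul_mem ha.1 hc.1, hfix⟩) hc hc1)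
  · rintro rfl
    have h : a * c ∈ Γ.Ctr z'' B := ⟨mul_mem ha.1 hc.1, hfix⟩
    have h' : a ∈ Γ.Ctr z'' B := by simpa using mul_mem h (inv_mem hc)
    exact hne (Γ.centre_unique ha h' ha1)

lemma exists_other_pt {z : X} {B : Y} (_hz : Γ.I z B) : ∃ w, Γ.I w B ∧ w ≠ z := by
  obtain ⟨w, hw, hne⟩ := exists_mem_ne (s := Γ.pts B) (by rw [Γ.cardPts]; exact Γ.two_le) z
  exact ⟨w, mem_ptsOf.1 hw, hne⟩

lemma Ctr_comm {z z' : X} {B : Y} (hz : Γ.I z B) (hz' : Γ.I z' B)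
    {a c : G} (ha : a ∈ Γ.Ctr z B) (hc : c ∈ Γ.Ctr z' B) : a * c = c * a := by
  by_cases hne : z = z'
  · subst hne
    by_cases ha1 : a = 1
    · simp [ha1]
    obtain ⟨w, hw, hwz⟩ := Γ.exists_other_pt hz
    obtain ⟨d, hd1⟩ := Subgroup.ne_bot_iff_exists_ne_one.1 (Γ.Ctr_ne_bot hw)
    obtain ⟨z'', hz'', hz''z, -, hx⟩ := Γ.exists_third_centre hz hw hwz.symm ha d.2 ha1
      (fun e => hd1 (Subtype.ext e))
    have e1 := Γ.Ctr_comm_of_ne hz hz'' hz''z.symm hc hx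
    have e2 := Γ.Ctr_comm_of_ne hz hw hwz.symm hc d.2
    have e3 : a * c * d = c * a * d := by
      rw [mul_assoc, e2, ← mul_assoc, ← e1, ← mul_assoc]
    exact mul_right_cancel e3
  · exact Γ.Ctr_comm_of_ne hz hz' hne ha hc

/-- The group of elations with axis `B` having a centre. -/
noncomputable def E (B : Y) : Subgroup G where
  carrier := {g | ∃ z, Γ.I z B ∧ g ∈ Γ.Ctr z B}
  one_mem' := by obtain ⟨z, hz⟩ := Γ.exists_pt B; exact ⟨z, hz, one_mem _⟩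
  mul_mem' := by
    rintro a c ⟨z, hz, ha⟩ ⟨z', hz', hc⟩
    by_cases hne : z = z'
    · subst hne; exact ⟨z, hz, mul_mem ha hc⟩
    by_cases ha1 : a = 1
    · exact ⟨z', hz', by simpa [ha1] using hc⟩
    by_cases hc1 : c = 1
    · exact ⟨z, hz, by simpa [hc1] using ha⟩
    obtain ⟨z'', hz'', -, -, hx⟩ := Γ.exists_third_centre hz hz' hne ha hc ha1 hc1
    exact ⟨z'', hz'', hx⟩
  inv_mem' := fun ⟨z, hz, ha⟩ => ⟨z, hz, inv_mem ha⟩

lemma mem_E {B : Y} {g : G} : g ∈ Γ.E B ↔ ∃ z, Γ.I z B ∧ g ∈ Γ.Ctr z B := Iff.rfl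

lemma Ctr_le_E {z : X} {B : Y} (hz : Γ.I z B) {g : G} (hg : g ∈ Γ.Ctr z B) : g ∈ Γ.E B :=
  ⟨z, hz, hg⟩

lemma E_le_El {B : Y} {g : G} (hg : g ∈ Γ.E B) : g ∈ Γ.El B := by
  obtain ⟨z, -, h⟩ := hg; exact h.1

lemma E_comm {B : Y} {a c : G} (ha : a ∈ Γ.E B) (hc : c ∈ Γ.E B) : a * c = c * a := by
  obtain ⟨z, hz, ha⟩ := ha
  obtain ⟨z', hz', hc⟩ := hc
  exact Γ.Ctr_comm hz hz' ha hc

lemma E_conj {B : Y} {g : G} (hg : g ∈ Γ.E B) (h : G) : h * g * h⁻¹ ∈ Γ.E (h • B) := by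
  obtain ⟨z, hz, hg⟩ := hg
  exact ⟨h • z, (Γ.inv h z B).2 hz, Γ.Ctr_conj hg h⟩

/-- The covariant family of centred elations. -/
noncomputable def eFam : Γ.Fam where
  M := Γ.E
  le := fun _ _ h => Γ.E_le_El h
  cov := fun h _ _ hg => Γ.E_conj hg h
  ne := fun B hb => by
    obtain ⟨z, hz⟩ := Γ.exists_pt B
    exact Γ.Ctr_ne_bot hz (eq_bot_iff.2 fun g hg => hb ▸ Γ.Ctr_le_E hz hg)

lemma card_Ctr_eq {z z' : X} {B B' : Y} (hz : Γ.I z B) (hz' : Γ.I z' B') :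
    Nat.card (Γ.Ctr z B) = Nat.card (Γ.Ctr z' B') := by
  obtain ⟨m, rfl, rfl⟩ := Γ.exists_flag_move hz hz'
  refine Nat.card_congr ⟨fun g => ⟨m * g * m⁻¹, Γ.Ctr_conj g.2 m⟩,
    fun g => ⟨m⁻¹ * g * m, ?_⟩, fun g => Subtype.ext (by simp [mul_assoc]),
    fun g => Subtype.ext (by simp [mul_assoc])⟩
  simpa using Γ.Ctr_conj g.2 m⁻¹

lemma card_union_Ctr {B : Y} {z₀ : X} (hz₀ : Γ.I z₀ B) (T : Finset X) (hT : T ⊆ Γ.pts B)
    (H : Subgroup G) (hH : ∀ g, g ≠ 1 → (g ∈ H ↔ ∃ z ∈ T, g ∈ Γ.Ctr z B)) :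
    Nat.card H - 1 = T.card * (Nat.card (Γ.Ctr z₀ B) - 1) := by
  classical
  have := Fintype.ofFinite G
  have cardS : ∀ (K : Subgroup G), ((univ : Finset G).filter fun g => g ∈ K ∧ g ≠ 1).card
      = Nat.card K - 1 := by
    intro K
    rw [Nat.card_eq_fintype_card, Fintype.card_subtype,
      ← card_erase_of_mem (show (1 : G) ∈ univ.filter (· ∈ K) by simp [K.one_mem])]
    congr 1; ext g; simp [and_comm]
  set f : X → Finset G := fun z => (univ : Finset G).filter fun g => g ∈ Γ.Ctr z B ∧ g ≠ 1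
  have hd : (T : Set X).PairwiseDisjoint f := by
    intro z _ z' _ hne
    rw [Function.onFun, disjoint_left]
    intro g h1 h2
    simp only [f, mem_filter] at h1 h2
    exact hne (Γ.centre_unique h1.2.1 h2.2.1 h1.2.2)
  have hU : ((univ : Finset G).filter fun g => g ∈ H ∧ g ≠ 1) = T.biUnion f := by
    ext g
    simp only [f, mem_filter, mem_univ, true_and, mem_biUnion]
    constructor
    · rintro ⟨h1, h2⟩
      obtain ⟨z, hz, hg⟩ := (hH g h2).1 h1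
      exact ⟨z, hz, hg, h2⟩
    · rintro ⟨z, hz, hg, h2⟩
      exact ⟨(hH g h2).2 ⟨z, hz, hg⟩, h2⟩
  rw [← cardS, hU, card_biUnion hd, ← smul_eq_mul, ← sum_const]
  refine sum_congr rfl fun z hz => ?_
  show ((univ : Finset G).filter _).card = _
  rw [cardS, Γ.card_Ctr_eq (mem_ptsOf.1 (hT hz)) hz₀]

/-- The common order of the pencils and of the centred elation groups. -/
structure Q where
  q : ℕ
  two_le : 2 ≤ q
  k_eq : Γ.k = 1 + q * Γ.lam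
  pen_card : ∀ {B C : Y}, C ≠ B → (Γ.pen B C).card = q
  ctr_card : ∀ {z : X} {B : Y}, Γ.I z B → Nat.card (Γ.Ctr z B) = q
  e_card : ∀ B, Nat.card (Γ.E B) = Fintype.card X - Γ.k
  stab_card : ∀ {B C : Y}, C ≠ B → Nat.card ↥(Γ.E B ⊓ stabilizer G C) = Γ.k - Γ.lam
  out_eq : Fintype.card X - Γ.k = q * (Γ.k - Γ.lam)

theorem exists_Q : Nonempty Γ.Q := by
  classical
  obtain ⟨B⟩ := Γ.toDsn.nonemptyY
  obtain ⟨C, hC⟩ := Γ.exists_ne_block B
  obtain ⟨z, hz⟩ : (Γ.pts C ∩ Γ.pts B).Nonempty :=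
    card_pos.1 (by rw [Γ.meetPts _ _ hC]; exact Γ.toDsn.lam_pos)
  obtain ⟨hzC, hzB⟩ := mem_inter.1 hz
  rw [mem_ptsOf] at hzC hzB
  obtain ⟨horb, ht2, ha2, haeq⟩ := Γ.eFam.numerics hC
  change Γ.eFam.orb B C = _ at horb
  set t := (Γ.pen B C).card with ht
  set a := Nat.card ↥(Γ.E B ⊓ stabilizer G C) with ha
  set e := Nat.card (Γ.Ctr z B) with he
  have he2 : 2 ≤ e := (Subgroup.one_lt_card_iff_ne_bot _).2 (Γ.Ctr_ne_bot hzB)
  have hts : t * a = Nat.card (Γ.E B) := by rw [ht, ← horb]; exact Γ.eFam.card_orb_mul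
  have hs : Nat.card (Γ.E B) - 1 = Γ.k * (e - 1) := by
    rw [Γ.card_union_Ctr hzB (Γ.pts B) (Subset.refl _) (Γ.E B), Γ.cardPts]
    intro g _
    exact ⟨fun ⟨w, hw, h⟩ => ⟨w, mem_ptsOf.2 hw, h⟩, fun ⟨w, hw, h⟩ => ⟨w, mem_ptsOf.1 hw, h⟩⟩
  have hae : a - 1 = Γ.lam * (e - 1) := by
    rw [ha, Γ.card_union_Ctr hzB (Γ.pts C ∩ Γ.pts B) inter_subset_right, Γ.meetPts _ _ hC]
    intro g hg1
    rw [Subgroup.mem_inf, mem_stabilizer_iff]
    constructor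
    · rintro ⟨⟨w, hw, h⟩, hgC⟩
      exact ⟨w, mem_inter.2 ⟨mem_ptsOf.2 ((Γ.fixBlk_iff h hg1 C).1 hgC), mem_ptsOf.2 hw⟩, h⟩
    · rintro ⟨w, hw, h⟩
      obtain ⟨hwC, hwB⟩ := mem_inter.1 hw
      exact ⟨⟨w, mem_ptsOf.1 hwB, h⟩, h.2 C (mem_ptsOf.1 hwC)⟩
  have htk : t * Γ.lam ≤ Γ.k - 1 := Γ.card_pen_le hC
  have hdvd : t ∣ Γ.k - 1 := by
    have h1 : ((Γ.blks z).erase B).card = Γ.k - 1 := by
      rw [card_erase_of_mem (mem_blksOf.2 hzB), Γ.cardBlks]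
    rw [← h1, card_eq_sum_card_image (fun D => Γ.pts D ∩ Γ.pts B)]
    refine dvd_sum fun T hT => ?_
    obtain ⟨D, hD, rfl⟩ := mem_image.1 hT
    obtain ⟨hDB, hzD⟩ := mem_erase.1 hD
    refine dvd_of_eq ?_
    rw [ht, Γ.card_pen_eq hC hDB]
    congr 1; ext E
    simp only [mem_filter, mem_erase, mem_blksOf, Γ.mem_pen]
    constructor
    · rintro ⟨hE, heq⟩
      refine ⟨⟨hE, ?_⟩, heq⟩
      have : z ∈ Γ.pts E ∩ Γ.pts B :=
        heq ▸ mem_inter.2 ⟨mem_ptsOf.2 (mem_blksOf.1 hzD), mem_ptsOf.2 hzB⟩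
      exact mem_ptsOf.1 (mem_inter.1 this).1
    · rintro ⟨⟨hE, -⟩, heq⟩; exact ⟨hE, heq⟩
  obtain ⟨m, hm⟩ := hdvd
  change 2 ≤ a at ha2
  change a * _ = _ at haeq
  have hk := Γ.two_le
  have hl := Γ.toDsn.lam_pos
  have hlk := Γ.toDsn.lam_lt
  have hmlam : Γ.lam ≤ m := Nat.le_of_mul_le_mul_left (hm ▸ htk) (by omega)
  obtain ⟨r, rfl⟩ := Nat.exists_eq_add_of_le hmlam
  have hd : Γ.k - Γ.lam * t = 1 + t * r := by
    have hm' : Γ.k - 1 = t * Γ.lam + t * r := by rw [hm, mul_add]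
    rw [mul_comm Γ.lam t]; omega
  have hmain : (1 + t * r) * (e - 1) + 1 = t := by
    rw [← hd]
    have hA : a = 1 + Γ.lam * (e - 1) := by omega
    have hS : t * a = 1 + Γ.k * (e - 1) := by
      have : 0 < Nat.card (Γ.E B) := Nat.card_pos
      omega
    rw [hA] at hS
    have h5 : Γ.lam * t ≤ Γ.k := by rw [mul_comm]; omega
    zify [h5] at hS ⊢
    linear_combination -hS
  have hr : r = 0 := by
    by_contra hr
    have h6 : (1 + t * r) * 1 ≤ (1 + t * r) * (e - 1) := Nat.mul_le_mul_left _ (by omega)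
    have h7 : t * 1 ≤ t * r := Nat.mul_le_mul_left _ (Nat.one_le_iff_ne_zero.2 hr)
    omega
  subst hr
  simp only [mul_zero, add_zero, one_mul] at hd hmain hm
  have het : e = t := by omega
  rw [hd, mul_one] at haeq
  have hkeq : Γ.k = 1 + t * Γ.lam := by omega
  have hout : Fintype.card X - Γ.k = t * (Γ.k - Γ.lam) := by
    refine Nat.eq_of_mul_eq_mul_right hl ?_
    rw [Γ.toDsn.eqn', show Γ.k - 1 = t * Γ.lam by omega]; ring
  refine ⟨⟨t, ht2, hkeq, fun h => (Γ.card_pen_eq hC h).symm,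
    fun h => (Γ.card_Ctr_eq h hzB).trans het, fun B' => ?_, fun {B' C'} h => ?_, hout⟩⟩
  · obtain ⟨C', hC'⟩ := Γ.exists_ne_block B'
    obtain ⟨horb', -, -, haeq'⟩ := Γ.eFam.numerics hC'
    have := Γ.eFam.card_orb_mul (B := B') (C := C')
    rw [horb', ← Γ.card_pen_eq hC hC'] at this
    rw [← Γ.card_pen_eq hC hC', hd, mul_one] at haeq'
    rw [← ht, haeq'] at this
    rw [hout]; exact this.symm
  · obtain ⟨-, -, -, haeq'⟩ := Γ.eFam.numerics h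
    rw [← Γ.card_pen_eq hC h, ← ht, hd, mul_one] at haeq'
    exact haeq'

end Geo

end Cfsg.Agent.Axial80
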