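import Mathlib

/-!
# The kernel of a partition of an abelian group into lines
-/

set_option autoImplicit false

namespace Cfsg.Agent.Axial80

/-- A partition of an abelian group into subgroups of equal order, closed with respect to the
sums of two members. -/
structure Part (A Z : Type*) [AddCommGroup A] where
  K : Z → AddSubgroup A
  q : ℕ
  two_le : 2 ≤ q
  card : ∀ z, Nat.card (K z) = q
  disj : ∀ z w, z ≠ w → ∀ x, x ∈ K z → x ∈ K w → x = 0
  cover : ∀ x, ∃ z, x ∈ K z
  closed : ∀ z z' w x, x ≠ 0 → x ∈ K w → x ∈ K z ⊔ K z' → K w ≤ K z ⊔ K z'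

variable {A Z : Type*} [AddCommGroup A]

namespace Part

variable (P : Part A Z)

/-- Additive maps leaving every member invariant. -/
def ker : Subring (AddMonoid.End A) where
  carrier := {φ | ∀ z x, x ∈ P.K z → φ x ∈ P.K z}
  one_mem' := fun _ _ hx => hx
  mul_mem' := fun ha hb z x hx => ha z _ (hb z x hx)
  zero_mem' := fun z _ _ => (P.K z).zero_mem
  add_mem' := fun ha hb z x hx => (P.K z).add_mem (ha z x hx) (hb z x hx)
  neg_mem' := fun ha z x hx => (P.K z).neg_mem (ha z x hx)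

/-- The line property: every member is a one-dimensional space over the kernel. -/
def HasScalars : Prop :=
  ∀ z v w, v ∈ P.K z → v ≠ 0 → w ∈ P.K z → ∃ φ ∈ P.ker, φ v = w

variable [Finite A]

noncomputable def dir (x : A) : Z := Classical.choose (P.cover x)

lemma mem_dir (x : A) : x ∈ P.K (P.dir x) := Classical.choose_spec (P.cover x)

omit [Finite A] in
lemma eq_of_mem {z w : Z} {x : A} (hx : x ≠ 0) (h : x ∈ P.K z) (h' : x ∈ P.K w) : z = w := by
  by_contra hne
  exact hx (P.disj z w hne x h h')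

lemma dir_eq {z : Z} {x : A} (hx : x ≠ 0) (h : x ∈ P.K z) : P.dir x = z :=
  P.eq_of_mem hx (P.mem_dir x) h

omit [Finite A] in
lemma card_sup {z z' : Z} (h : z ≠ z') : Nat.card ↥(P.K z ⊔ P.K z') = P.q * P.q := by
  conv_rhs => arg 1; rw [← P.card z]
  rw [← P.card z', ← Nat.card_prod]
  refine (Nat.card_eq_of_bijective
    (fun p : P.K z × P.K z' => (⟨(p.1 : A) + p.2,
      AddSubgroup.add_mem_sup p.1.2 p.2.2⟩ : ↥(P.K z ⊔ P.K z'))) ⟨?_, ?_⟩).symm
  · rintro ⟨a, b⟩ ⟨a', b'⟩ e
    have e' : (a : A) + b = a' + b' := congrArg Subtype.val e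
    have e1 : (a : A) - a' = b' - b := by rw [sub_eq_sub_iff_add_eq_add, e', add_comm]
    have h0 : (a : A) - a' = 0 := P.disj z z' h _ (sub_mem a.2 a'.2) (e1 ▸ sub_mem b'.2 b.2)
    have h1 : (a : A) = a' := sub_eq_zero.1 h0
    rw [h1] at e'
    exact Prod.ext (Subtype.ext h1) (Subtype.ext (add_left_cancel e'))
  · rintro ⟨x, hx⟩
    obtain ⟨a, ha, b, hb, rfl⟩ := AddSubgroup.mem_sup.1 hx
    exact ⟨(⟨a, ha⟩, ⟨b, hb⟩), rfl⟩

lemma sup_eq_sup {a b c d : Z} (hab : a ≠ b) (hcd : c ≠ d) (ha : P.K a ≤ P.K c ⊔ P.K d)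
    (hb : P.K b ≤ P.K c ⊔ P.K d) : P.K a ⊔ P.K b = P.K c ⊔ P.K d := by
  refine AddSubgroup.eq_of_le_of_card_ge (sup_le ha hb) ?_
  rw [P.card_sup hab, P.card_sup hcd]

/-- Distinct sums of two members meet in at most one member. -/
lemma meet_planes {a b c d u : Z} (hab : a ≠ b) (hcd : c ≠ d)
    (hne : P.K a ⊔ P.K b ≠ P.K c ⊔ P.K d) (hu : P.K u ≤ P.K a ⊔ P.K b)
    (hu' : P.K u ≤ P.K c ⊔ P.K d) {x : A} (hx : x ∈ P.K a ⊔ P.K b)
    (hx' : x ∈ P.K c ⊔ P.K d) : x ∈ P.K u := by
  by_contra hxu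
  have hx0 : x ≠ 0 := fun e => hxu (e ▸ zero_mem _)
  have hud : u ≠ P.dir x := fun e => hxu (e ▸ P.mem_dir x)
  have h1 := P.sup_eq_sup hud hab hu (P.closed a b _ x hx0 (P.mem_dir x) hx)
  have h2 := P.sup_eq_sup hud hcd hu' (P.closed c d _ x hx0 (P.mem_dir x) hx')
  exact hne (h1.symm.trans h2)

/-- In dimension at least three, every member is a line over the kernel. -/
theorem hasScalars_of_big (hbig : ∀ z z', P.K z ⊔ P.K z' ≠ ⊤) : P.HasScalars := by
  classical
  intro z v w hv hv0 hw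
  set pl : A → AddSubgroup A := fun y => P.K z ⊔ P.K (P.dir y) with hpl
  have hnd : ∀ {y}, y ∉ P.K z → z ≠ P.dir y := fun hy e => hy (e ▸ P.mem_dir _)
  have hmpl : ∀ y, y ∈ pl y := fun y => AddSubgroup.mem_sup_right (P.mem_dir y)
  have hzpl : ∀ y, P.K z ≤ pl y := fun y => le_sup_left
  have hne0 : ∀ {y}, y ∉ P.K z → y ≠ 0 := fun hy e => hy (e ▸ zero_mem _)
  have pl_eq : ∀ {y y'}, y ∉ P.K z → y' ∉ P.K z → y ∈ pl y' → pl y = pl y' := fun hy hy' h =>
    P.sup_eq_sup (hnd hy) (hnd hy') (hzpl _) (P.closed _ _ _ _ (hne0 hy) (P.mem_dir _) h)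
  have pl_off : ∀ {y r}, r ∉ pl y → r ∉ P.K z := fun h e => h (hzpl _ e)
  have gsymm : ∀ {y y'}, y ∉ P.K z → y' ∉ pl y → y ∉ pl y' := fun {y y'} hy h h' =>
    h ((pl_eq hy (pl_off h) h') ▸ hmpl y')
  have hoff : ∀ y, ∃ r, r ∉ pl y := fun y => by
    by_contra hc
    push_neg at hc
    exact hbig _ _ ((AddSubgroup.eq_top_iff' _).2 hc)
  have hexp : ∀ y, ∃ p, y ∉ P.K z → p ∈ P.K (P.dir y) ∧ p - w ∈ P.K (P.dir (y - v)) := by
    intro y
    by_cases hy : y ∈ P.K z
    · exact ⟨0, fun h => absurd hy h⟩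
    have h1 : v ∈ P.K (P.dir y) ⊔ P.K (P.dir (y - v)) := by
      have h := sub_mem (AddSubgroup.mem_sup_left (T := P.K (P.dir (y - v))) (P.mem_dir y))
        (AddSubgroup.mem_sup_right (S := P.K (P.dir y)) (P.mem_dir (y - v)))
      simpa using h
    obtain ⟨a, ha, b, hb, hab⟩ := AddSubgroup.mem_sup.1 (P.closed _ _ z v hv0 hv h1 hw)
    exact ⟨a, fun _ => ⟨ha, by simpa [← hab] using neg_mem hb⟩⟩
  choose φ hφ using hexp
  -- differences
  have hdiff : ∀ {y y'}, y ∉ P.K z → y' ∉ pl y →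
      φ y - φ y' ∈ P.K (P.dir (y - y')) := by
    intro y y' hy h
    have hy' := pl_off h
    have hne : y - y' ≠ 0 := fun e => h (sub_eq_zero.1 e ▸ hmpl y)
    have hdd : P.dir y ≠ P.dir y' := fun e => h (by
      show y' ∈ P.K z ⊔ P.K (P.dir y)
      rw [e]; exact hmpl y')
    have hne2 : P.dir (y - v) ≠ P.dir (y' - v) := by
      intro e
      have h1 : y - y' ∈ P.K (P.dir (y - v)) := by
        have := sub_mem (P.mem_dir (y - v)) (e.symm ▸ P.mem_dir (y' - v))
        simpa using this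
      have h2 : v ∈ pl y := hzpl _ hv
      have h3 : y - v ∈ pl y := sub_mem (hmpl y) h2
      have hyv : y - v ∉ P.K z := fun e' => hy (by simpa using add_mem e' hv)
      have h4 := P.closed z (P.dir y) _ _ (hne0 hyv) (P.mem_dir _) h3 h1
      exact h (by simpa using sub_mem (hmpl y) h4)
    set P1 := P.K (P.dir (y - v)) ⊔ P.K (P.dir (y' - v)) with hP1
    set P2 := P.K (P.dir y) ⊔ P.K (P.dir y') with hP2
    have hP12 : P1 ≠ P2 := by
      intro e
      have h1 : v ∈ P2 := by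
        have := sub_mem (AddSubgroup.mem_sup_left (T := P.K (P.dir y')) (P.mem_dir y))
          (show y - v ∈ P2 from e ▸ AddSubgroup.mem_sup_left (P.mem_dir (y - v)))
        simpa [hP2] using this
      have h2 := P.sup_eq_sup (hnd hy) hdd (P.closed _ _ z v hv0 hv h1) le_sup_left
      exact h (show y' ∈ P.K z ⊔ P.K (P.dir y) from
        h2 ▸ AddSubgroup.mem_sup_right (P.mem_dir y'))
    have m1 : y - y' ∈ P1 := by
      have := sub_mem (AddSubgroup.mem_sup_left (T := P.K (P.dir (y' - v))) (P.mem_dir (y - v)))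
        (AddSubgroup.mem_sup_right (S := P.K (P.dir (y - v))) (P.mem_dir (y' - v)))
      simpa [hP1] using this
    have m2 : y - y' ∈ P2 :=
      sub_mem (AddSubgroup.mem_sup_left (P.mem_dir y)) (AddSubgroup.mem_sup_right (P.mem_dir y'))
    refine P.meet_planes hne2 hdd hP12 (P.closed _ _ _ _ hne (P.mem_dir _) m1)
      (P.closed _ _ _ _ hne (P.mem_dir _) m2) ?_
      (sub_mem (AddSubgroup.mem_sup_left (hφ y hy).1) (AddSubgroup.mem_sup_right (hφ y' hy').1))
    have := sub_mem (AddSubgroup.mem_sup_left (T := P.K (P.dir (y' - v))) (hφ y hy).2)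
      (AddSubgroup.mem_sup_right (S := P.K (P.dir (y - v))) (hφ y' hy').2)
    simpa [hP1] using this
  -- additivity in general position
  have hadd : ∀ {y y'}, y ∉ P.K z → y' ∉ pl y → φ (y + y') = φ y + φ y' := by
    intro y y' hy h
    have hy' := pl_off h
    have hs : y + y' ∉ P.K z := fun e => h (by
      have := sub_mem (hzpl y e) (hmpl y); simpa using this)
    have g1 : y + y' ∉ pl y := fun e => h (by simpa using sub_mem e (hmpl y))
    have g2 : y + y' ∉ pl y' := fun e => gsymm hy h (by simpa using sub_mem e (hmpl y'))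
    have d1 := hdiff hs (gsymm hy g1)
    have d2 := hdiff hs (gsymm hy' g2)
    rw [add_sub_cancel_left] at d1
    rw [add_sub_cancel_right] at d2
    have hdd : P.dir y' ≠ P.dir y := fun e => h (by
      show y' ∈ P.K z ⊔ P.K (P.dir y)
      rw [← e]; exact AddSubgroup.mem_sup_right (P.mem_dir y'))
    have := P.disj _ _ hdd (φ (y + y') - φ y - φ y') (sub_mem d1 (hφ y' hy').1)
      (by rw [sub_right_comm]; exact sub_mem d2 (hφ y hy).1)
    rwa [sub_sub, sub_eq_zero] at this
  have hneg : ∀ {y}, y ∉ P.K z → φ (-y) = -φ y := by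
    intro y hy
    obtain ⟨r, hr⟩ := hoff y
    have h1 : y + r ∉ pl y := fun e => hr (by simpa using sub_mem e (hmpl y))
    have hny : -y ∉ P.K z := fun e => hy (neg_mem_iff.1 e)
    have h2 : y + r ∉ pl (-y) := by
      rwa [pl_eq hny hy (neg_mem (hmpl y))]
    have h3 := hadd (y := -y) hny h2
    rw [neg_add_cancel_left, hadd hy hr] at h3
    have h4 : φ (-y) + φ y = 0 := add_right_cancel (b := φ r) (by rw [zero_add, add_assoc]; exact h3.symm)
    exact eq_neg_of_add_eq_zero_left h4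
  -- extension to the member `z`
  have hD : ∀ {x y y'}, x ∈ P.K z → y ∉ P.K z → y' ∉ P.K z →
      φ (x + y) - φ y = φ (x + y') - φ y' := by
    have gen : ∀ {x y y'}, x ∈ P.K z → y ∉ P.K z → y' ∉ pl y →
        φ (x + y) - φ y = φ (x + y') - φ y' := by
      intro x y y' hx hy h
      have hy' := pl_off h
      have hxy : x + y ∉ P.K z := fun e => hy (by simpa using sub_mem e hx)
      have hxy' : x + y' ∉ P.K z := fun e => hy' (by simpa using sub_mem e hx)
      have e1 := hadd hxy (y' := y') (by rwa [pl_eq hxy hy (add_mem (hzpl _ hx) (hmpl y))])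
      have e2 := hadd hxy' (y' := y)
        (by rw [pl_eq hxy' hy' (add_mem (hzpl _ hx) (hmpl y'))]; exact gsymm hy h)
      rw [add_right_comm x y y', e2] at e1
      rw [sub_eq_sub_iff_add_eq_add, e1]
    intro x y y' hx hy hy'
    by_cases h : y' ∈ pl y
    · obtain ⟨r, hr⟩ := hoff y
      have hr' : r ∉ pl y' := by rwa [pl_eq hy' hy h]
      rw [gen hx hy hr, gen hx hy' hr']
    · exact gen hx hy h
  obtain ⟨y₀, hy₀⟩ : ∃ y, y ∉ P.K z := by
    obtain ⟨r, hr⟩ := hoff v
    exact ⟨r, pl_off hr⟩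
  set Φ : A → A := fun x => if x ∈ P.K z then φ (x + y₀) - φ y₀ else φ x with hΦ
  have Φin : ∀ {x}, x ∈ P.K z → ∀ {y}, y ∉ P.K z → Φ x = φ (x + y) - φ y := fun hx y hy => by
    simp only [hΦ, if_pos hx]; exact hD hx hy₀ hy
  have Φout : ∀ {x}, x ∉ P.K z → Φ x = φ x := fun hx => by simp only [hΦ, if_neg hx]
  have hmix : ∀ {x u}, x ∈ P.K z → u ∉ P.K z → Φ (x + u) = Φ x + Φ u := by
    intro x u hx hu
    have : x + u ∉ P.K z := fun e => hu (by simpa using sub_mem e hx)
    rw [Φout this, Φout hu, Φin hx hu, sub_add_cancel]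
  have hΦadd : ∀ a b, Φ (a + b) = Φ a + Φ b := by
    intro a b
    by_cases ha : a ∈ P.K z <;> by_cases hb : b ∈ P.K z
    · have hby : b + y₀ ∉ P.K z := fun e => hy₀ (by simpa using sub_mem e hb)
      rw [Φin (add_mem ha hb) hy₀, Φin ha hby, Φin hb hy₀, add_assoc]
      abel
    · exact hmix ha hb
    · rw [add_comm, hmix hb ha, add_comm]
    · by_cases hab : a + b ∈ P.K z
      · have hna : -a ∉ P.K z := fun e => ha (neg_mem_iff.1 e)
        rw [Φin hab hna, add_neg_cancel_comm, Φout ha, Φout hb, hneg ha, sub_neg_eq_add, add_comm]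
      · rw [Φout hab, Φout ha, Φout hb]
        by_cases hgen : b ∈ pl a
        · obtain ⟨r, hr⟩ := hoff a
          have heq : pl b = pl a := pl_eq hb ha hgen
          have h1 : a + r ∉ pl b := fun e => hr (by
            rw [heq] at e; simpa using sub_mem e (hmpl a))
          have h2 : r ∉ pl (a + b) := by
            rwa [pl_eq hab ha (add_mem (hmpl a) hgen)]
          have e1 := hadd hb h1
          rw [hadd ha hr] at e1
          have e2 := hadd hab h2
          rw [show a + b + r = b + (a + r) by abel, e1] at e2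
          exact add_right_cancel (b := φ r) (by rw [← e2]; abel)
        · exact hadd ha hgen
  have hpres : ∀ u x, x ∈ P.K u → Φ x ∈ P.K u := by
    intro u x hx
    by_cases hx0 : x = 0
    · have : Φ 0 = 0 := by have := hΦadd 0 0; rw [add_zero] at this; simpa using this.symm
      rw [hx0, this]; exact zero_mem _
    by_cases hxz : x ∈ P.K z
    · rw [P.eq_of_mem hx0 hx hxz]
      obtain ⟨r, hr⟩ := hoff y₀
      have hxy : ∀ {y}, y ∉ P.K z → φ (x + y) - φ y ∈ pl y := fun {y} hy => by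
        have hxy : x + y ∉ P.K z := fun e => hy (by simpa using sub_mem e hxz)
        refine sub_mem ?_ (AddSubgroup.mem_sup_right (hφ y hy).1)
        exact P.closed _ _ _ _ (hne0 hxy) (P.mem_dir _) (add_mem (hzpl _ hxz) (hmpl y))
          (hφ _ hxy).1
      refine P.meet_planes (hnd hy₀) (hnd (pl_off hr)) (fun e => hr (by show r ∈ P.K z ⊔ P.K (P.dir y₀); rw [e]; exact hmpl r)) (hzpl _) (hzpl _)
        (x := Φ x) (Φin hxz hy₀ ▸ hxy hy₀) (Φin hxz (pl_off hr) ▸ hxy (pl_off hr))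
    · rw [Φout hxz, ← P.dir_eq hx0 hx]
      exact (hφ x hxz).1
  refine ⟨AddMonoidHom.mk' Φ hΦadd, hpres, ?_⟩
  show Φ v = w
  have h1 : v + y₀ ∉ P.K z := fun e => hy₀ (by simpa using sub_mem e hv)
  have h2 := (hφ _ h1).2
  rw [add_sub_cancel_left] at h2
  refine sub_eq_zero.1 (P.disj z (P.dir y₀) (hnd hy₀) _ (sub_mem (hpres z v hv) hw) ?_)
  rw [Φin hv hy₀, sub_right_comm]
  exact sub_mem h2 (hφ _ hy₀).1

/-- The kernel of a partition with scalars is a field of order `q`. -/
theorem ker_field (hS : P.HasScalars) {z₀ z₁ : Z} (hne : z₀ ≠ z₁) :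
    IsField P.ker ∧ Nat.card P.ker = P.q := by
  classical
  have inj : ∀ φ ∈ P.ker, φ ≠ 0 → ∀ x, φ x = 0 → x = 0 := by
    intro φ hφ hne0 x hx
    by_contra hx0
    apply hne0
    have hout : ∀ y, y ∉ P.K (P.dir x) → φ y = 0 := by
      intro y hy
      have hy0 : y ≠ 0 := fun e => hy (e ▸ zero_mem _)
      have hs : P.dir (x + y) ≠ P.dir y := fun e => by
        have : x ∈ P.K (P.dir y) := by
          have := sub_mem (e ▸ P.mem_dir (x + y)) (P.mem_dir y); simpa using this
        exact hy ((P.dir_eq hx0 this).symm ▸ P.mem_dir y)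
      refine P.disj _ _ hs _ ?_ (hφ _ y (P.mem_dir y))
      have := hφ _ _ (P.mem_dir (x + y))
      rwa [map_add, hx, zero_add] at this
    obtain ⟨y, hy⟩ : ∃ y, y ∉ P.K (P.dir x) := by
      by_cases h : z₀ = P.dir x
      · obtain ⟨y, hy, hy0⟩ := (P.K z₁).bot_or_exists_ne_zero.resolve_left (fun e => by
          have := P.card z₁; rw [e, AddSubgroup.card_bot] at this; have := P.two_le; omega)
        exact ⟨y, fun e => hy0 (P.disj _ _ hne.symm y hy (h ▸ e))⟩
      · obtain ⟨y, hy, hy0⟩ := (P.K z₀).bot_or_exists_ne_zero.resolve_left (fun e => by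
          have := P.card z₀; rw [e, AddSubgroup.card_bot] at this; have := P.two_le; omega)
        exact ⟨y, fun e => hy0 (P.disj _ _ h y hy e)⟩
    ext u
    show φ u = 0
    by_cases hu : u ∈ P.K (P.dir x)
    · have := hout (u + y) fun e => hy (by simpa using sub_mem e hu)
      rwa [map_add, hout y hy, add_zero] at this
    · exact hout u hu
  have : Finite (AddMonoid.End A) := Finite.of_injective (fun f => (f : A → A)) DFunLike.coe_injective
  obtain ⟨v, hv, hv0⟩ := (P.K z₀).bot_or_exists_ne_zero.resolve_left (fun e => by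
    have := P.card z₀; rw [e, AddSubgroup.card_bot] at this; have := P.two_le; omega)
  have : Nontrivial P.ker := ⟨⟨1, 0, fun e =>
    hv0 (by simpa using DFunLike.congr_fun (congrArg Subtype.val e) v)⟩⟩
  have : NoZeroDivisors P.ker := ⟨fun {a b} e => by
    by_cases ha : a = 0
    · exact Or.inl ha
    refine Or.inr (Subtype.ext (AddMonoidHom.ext fun x => ?_))
    exact inj _ a.2 (fun e' => ha (Subtype.ext e')) _
      (DFunLike.congr_fun (congrArg Subtype.val e) x)⟩
  have : IsDomain P.ker := NoZeroDivisors.to_isDomain _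
  refine ⟨Finite.isDomain_to_isField _, ?_⟩
  rw [← P.card z₀]
  refine Nat.card_eq_of_bijective (fun φ => (⟨(φ : AddMonoid.End A) v, φ.2 z₀ v hv⟩ : P.K z₀)) ⟨?_, ?_⟩
  · intro a b e
    by_contra hne'
    have h1 : (a - b : P.ker) ≠ 0 := sub_ne_zero.2 hne'
    refine hv0 (inj _ (a - b).2 (fun e' => h1 (Subtype.ext e')) v ?_)
    show (a : AddMonoid.End A) v - (b : AddMonoid.End A) v = 0
    exact sub_eq_zero.2 (congrArg Subtype.val e)
  · rintro ⟨w, hw⟩
    obtain ⟨φ, hφ, e⟩ := hS z₀ v w hv hv0 hw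
    exact ⟨⟨φ, hφ⟩, Subtype.ext e⟩

end Part

end Cfsg.Agent.Axial80
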