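import Mathlib
import Cfsg.Agent.Lib.Axial80Centre
import Cfsg.Agent.Lib.Axial80Scalar

/-!
# Lines, duality, and the translation group
-/

set_option autoImplicit false

namespace Cfsg.Agent.Axial80

open Finset MulAction

variable {G X Y : Type*} [Group G] [Fintype X] [Fintype Y] [DecidableEq X] [DecidableEq Y]
  [MulAction G X] [MulAction G Y]

namespace Geo

variable (Γ : Geo G X Y) [Finite G]

/-- The dual configuration. -/
def dual : Geo G Y X where
  toDsn := Γ.toDsn.dual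
  inv := fun g y x => Γ.inv g x y
  faith := Γ.faithY
  twoX := Γ.twoY
  twoY := Γ.twoX
  axial := by
    obtain ⟨B⟩ := Γ.toDsn.nonemptyY
    obtain ⟨z, hz⟩ := Γ.exists_pt B
    obtain ⟨g, hg⟩ := Subgroup.ne_bot_iff_exists_ne_one.1 (Γ.Ctr_ne_bot hz)
    exact ⟨z, g, fun e => hg (Subtype.ext e), g.2.2⟩

variable (Q : Γ.Q)

open Classical in
/-- The line through two points. -/
noncomputable def line (z z' : X) : Finset X :=
  univ.filter fun w => ∀ y, Γ.I z y → Γ.I z' y → Γ.I w y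

include Γ

lemma mem_line {z z' w : X} : w ∈ Γ.line z z' ↔ ∀ y, Γ.I z y → Γ.I z' y → Γ.I w y := by
  simp [line]

lemma left_mem (z z' : X) : z ∈ Γ.line z z' := Γ.mem_line.2 fun _ h _ => h

lemma right_mem (z z' : X) : z' ∈ Γ.line z z' := Γ.mem_line.2 fun _ _ h => h

lemma line_comm (z z' : X) : Γ.line z z' = Γ.line z' z := by
  ext w; rw [Γ.mem_line, Γ.mem_line]
  exact ⟨fun h y a b => h y b a, fun h y a b => h y b a⟩

lemma line_subset {z z' : X} {y : Y} (h : Γ.I z y) (h' : Γ.I z' y) : Γ.line z z' ⊆ Γ.pts y :=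
  fun _ hw => mem_ptsOf.2 (Γ.mem_line.1 hw y h h')

include Q in
lemma card_line {z z' : X} (h : z ≠ z') : (Γ.line z z').card = Q.q + 1 := by
  obtain ⟨Q'⟩ := Γ.dual.exists_Q
  have hq : Q'.q = Q.q := by
    have h1 : Γ.k = 1 + Q'.q * Γ.lam := Q'.k_eq
    have h2 := Q.k_eq
    exact Nat.eq_of_mul_eq_mul_right Γ.toDsn.lam_pos (by omega)
  have hpen : Γ.dual.pen z z' = (Γ.line z z').erase z := by
    ext w
    rw [Γ.dual.mem_pen, mem_erase, Γ.mem_line, show Γ.dual.toDsn = Γ.toDsn.dual from rfl]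
    simp only [Dsn.dual_pts]
    constructor
    · rintro ⟨hwz, he⟩
      refine ⟨hwz, fun y h1 h2 => ?_⟩
      have : y ∈ Γ.blks w ∩ Γ.blks z :=
        he.symm ▸ mem_inter.2 ⟨mem_blksOf.2 h2, mem_blksOf.2 h1⟩
      exact mem_blksOf.1 (mem_inter.1 this).1
    · rintro ⟨hwz, hall⟩
      refine ⟨hwz, (eq_of_subset_of_card_le (fun y hy => ?_)
        (by rw [Γ.meetBlks _ _ hwz, Γ.meetBlks _ _ h.symm])).symm⟩
      obtain ⟨h2, h1⟩ := mem_inter.1 hy
      exact mem_inter.2 ⟨mem_blksOf.2 (hall y (mem_blksOf.1 h1) (mem_blksOf.1 h2)), h1⟩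
  rw [← hq, ← Q'.pen_card h.symm, hpen, card_erase_of_mem (Γ.left_mem z z')]
  have := card_pos.2 ⟨z, Γ.left_mem z z'⟩
  omega

lemma blks_inter_eq {z z' w w' : X} (hzz : z ≠ z') (hne : w ≠ w') (hw : w ∈ Γ.line z z')
    (hw' : w' ∈ Γ.line z z') : Γ.blks w ∩ Γ.blks w' = Γ.blks z ∩ Γ.blks z' := by
  symm
  refine eq_of_subset_of_card_le (fun y hy => ?_)
    (by rw [Γ.meetBlks _ _ hne, Γ.meetBlks _ _ hzz])
  obtain ⟨h1, h2⟩ := mem_inter.1 hy
  exact mem_inter.2 ⟨mem_blksOf.2 (Γ.mem_line.1 hw y (mem_blksOf.1 h1) (mem_blksOf.1 h2)),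
    mem_blksOf.2 (Γ.mem_line.1 hw' y (mem_blksOf.1 h1) (mem_blksOf.1 h2))⟩

lemma line_eq {z z' w w' : X} (hzz : z ≠ z') (hne : w ≠ w') (hw : w ∈ Γ.line z z')
    (hw' : w' ∈ Γ.line z z') : Γ.line w w' = Γ.line z z' := by
  have h := Γ.blks_inter_eq hzz hne hw hw'
  ext u
  rw [Γ.mem_line, Γ.mem_line]
  constructor <;> intro hu y h1 h2
  · have : y ∈ Γ.blks w ∩ Γ.blks w' := h.symm ▸ mem_inter.2 ⟨mem_blksOf.2 h1, mem_blksOf.2 h2⟩
    exact hu y (mem_blksOf.1 (mem_inter.1 this).1) (mem_blksOf.1 (mem_inter.1 this).2)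
  · have : y ∈ Γ.blks z ∩ Γ.blks z' := h ▸ mem_inter.2 ⟨mem_blksOf.2 h1, mem_blksOf.2 h2⟩
    exact hu y (mem_blksOf.1 (mem_inter.1 this).1) (mem_blksOf.1 (mem_inter.1 this).2)

lemma eq_of_mem_block {z z' w w' : X} {y : Y} (hzz : z ≠ z') (hw : w ∈ Γ.line z z')
    (hw' : w' ∈ Γ.line z z') (hy : ¬ (Γ.I z y ∧ Γ.I z' y)) (h1 : Γ.I w y) (h2 : Γ.I w' y) :
    w = w' := by
  by_contra hne
  have : y ∈ Γ.blks z ∩ Γ.blks z' :=
    Γ.blks_inter_eq hzz hne hw hw' ▸ mem_inter.2 ⟨mem_blksOf.2 h1, mem_blksOf.2 h2⟩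
  exact hy ⟨mem_blksOf.1 (mem_inter.1 this).1, mem_blksOf.1 (mem_inter.1 this).2⟩

include Q in
/-- Every line meets every block. -/
lemma line_meets {z z' : X} (h : z ≠ z') (y : Y) : ∃ w ∈ Γ.line z z', Γ.I w y := by
  classical
  set C := Γ.blks z ∩ Γ.blks z'
  by_cases hy : y ∈ C
  · exact ⟨z, Γ.left_mem z z', mem_blksOf.1 (mem_inter.1 hy).1⟩
  have hd : ((Γ.line z z' : Finset X) : Set X).PairwiseDisjoint fun w => Γ.blks w \ C := by
    intro w hw w' hw' hne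
    rw [Function.onFun, disjoint_left]
    intro u hu hu'
    rw [mem_sdiff] at hu hu'
    exact hu.2 (by have h5 := mem_inter.2 ⟨hu.1, hu'.1⟩; rwa [Γ.blks_inter_eq h hne hw hw'] at h5)
  have hcard : ((Γ.line z z').biUnion fun w => Γ.blks w \ C).card
      = (Q.q + 1) * (Γ.k - Γ.lam) := by
    rw [card_biUnion hd, ← Γ.card_line Q h, ← smul_eq_mul, ← sum_const]
    refine sum_congr rfl fun w hw => ?_
    rw [card_sdiff, Γ.cardBlks]
    congr 1
    rw [inter_eq_left.2 fun u hu => ?_, Γ.meetBlks _ _ h]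
    exact mem_blksOf.2 (Γ.mem_line.1 hw u (mem_blksOf.1 (mem_inter.1 hu).1)
      (mem_blksOf.1 (mem_inter.1 hu).2))
  have hsub : ((Γ.line z z').biUnion fun w => Γ.blks w \ C) ⊆ univ \ C := fun u hu => by
    obtain ⟨w, -, hu⟩ := mem_biUnion.1 hu
    simp [(mem_sdiff.1 hu).2]
  have heq := eq_of_subset_of_card_le hsub (by
    rw [hcard, card_univ_diff, Γ.meetBlks _ _ h, ← Γ.cardEq, add_mul, one_mul, ← Q.out_eq]
    have := Γ.lt_v; have := Γ.toDsn.lam_lt; omega)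
  have : y ∈ univ \ C := by simp [hy]
  rw [← heq] at this
  obtain ⟨w, hw, hyw⟩ := mem_biUnion.1 this
  exact ⟨w, hw, mem_blksOf.1 (mem_sdiff.1 hyw).1⟩

lemma smul_line (g : G) (z z' : X) :
    (Γ.line z z').image (fun w => g • w) = Γ.line (g • z) (g • z') := by
  ext u
  simp only [mem_image, Γ.mem_line]
  constructor
  · rintro ⟨w, hw, rfl⟩ y h1 h2
    rw [← smul_inv_smul g y, Γ.inv] at h1 h2 ⊢
    exact hw _ h1 h2
  · intro hu
    refine ⟨g⁻¹ • u, fun y h1 h2 => ?_, smul_inv_smul g u⟩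
    rw [← Γ.inv g, smul_inv_smul]
    exact hu _ ((Γ.inv g z y).2 h1) ((Γ.inv g z' y).2 h2)

lemma smul_mem_line {g : G} {z : X} (hg : ∀ y, Γ.I z y → g • y = y) (w : X) :
    g • w ∈ Γ.line z w :=
  Γ.mem_line.2 fun y h1 h2 => by
    have := (Γ.inv g w y).2 h2
    rwa [hg y h1] at this

/-! ### The translation group -/

/-- The elations of a fixed axis form a commutative group. -/
noncomputable instance eCommGroup (B : Y) : CommGroup ↥(Γ.E B) :=
  { (inferInstance : Group ↥(Γ.E B)) with mul_comm := fun a b => Subtype.ext (Γ.E_comm a.2 b.2) }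

/-- The translation group of an axis, written additively. -/
abbrev Trl (B : Y) := Additive ↥(Γ.E B)

/-- The underlying group element of a translation. -/
def el {B : Y} (a : Γ.Trl B) : G := ((Additive.toMul a : ↥(Γ.E B)) : G)

lemma el_mem {B : Y} (a : Γ.Trl B) : Γ.el a ∈ Γ.E B := (Additive.toMul a).2

lemma el_add {B : Y} (a b : Γ.Trl B) : Γ.el (a + b) = Γ.el a * Γ.el b := rfl

lemma el_zero {B : Y} : Γ.el (0 : Γ.Trl B) = 1 := rfl

lemma el_neg {B : Y} (a : Γ.Trl B) : Γ.el (-a) = (Γ.el a)⁻¹ := rfl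

lemma el_inj {B : Y} {a b : Γ.Trl B} (h : Γ.el a = Γ.el b) : a = b :=
  Additive.toMul.injective (Subtype.ext h)

/-- A translation as a point, relative to an origin. -/
def pt {B : Y} (O : X) (a : Γ.Trl B) : X := Γ.el a • O

lemma el_pt {B : Y} (O : X) (a b : Γ.Trl B) : Γ.el a • Γ.pt O b = Γ.pt O (a + b) := by
  rw [pt, pt, ← mul_smul, Γ.el_add]

lemma pt_zero {B : Y} (O : X) : Γ.pt O (0 : Γ.Trl B) = O := by rw [pt, el_zero, one_smul]

variable {B : Y} {O : X} (hO : ¬ Γ.I O B)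

include hO

lemma pt_out (a : Γ.Trl B) : ¬ Γ.I (Γ.pt O a) B := by
  intro h
  apply hO
  have h2 := Γ.inv (Γ.el a) O B
  rw [Γ.El_fixB (Γ.E_le_El (Γ.el_mem a))] at h2
  exact h2.1 h

lemma pt_inj : Function.Injective (Γ.pt (B := B) O) := by
  intro a b h
  have h1 : Γ.el (-b + a) • O = O := by
    rw [el_add, el_neg, mul_smul]
    show (Γ.el b)⁻¹ • Γ.pt O a = O
    rw [h, pt, inv_smul_smul]
  by_contra hne
  exact Γ.El_free (Γ.E_le_El (Γ.el_mem _))
    (fun e => hne (neg_add_eq_zero.1 (Γ.el_inj (e.trans Γ.el_zero.symm))).symm) hO h1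

include Q in
lemma pt_surj {x : X} (hx : ¬ Γ.I x B) : ∃ a : Γ.Trl B, Γ.pt O a = x := by
  classical
  have := Fintype.ofFinite (Γ.Trl B)
  have h1 : (univ.image (Γ.pt (B := B) O)).card = (univ \ Γ.pts B).card := by
    rw [card_image_of_injective _ (Γ.pt_inj hO), card_univ_diff, Γ.cardPts, card_univ,
      ← Nat.card_eq_fintype_card, Nat.card_congr Additive.toMul, Q.e_card]
  have h2 := eq_of_subset_of_card_le (fun u hu => by
    obtain ⟨a, -, rfl⟩ := mem_image.1 hu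
    simp [mem_ptsOf, Γ.pt_out hO a]) h1.ge
  have : x ∈ univ \ Γ.pts B := by simp [mem_ptsOf, hx]
  rw [← h2] at this
  obtain ⟨a, -, ha⟩ := mem_image.1 this
  exact ⟨a, ha⟩

omit hO in
/-- The translations with a given centre. -/
noncomputable def dirGrp (B : Y) (z : X) : AddSubgroup (Γ.Trl B) where
  carrier := {a | Γ.el a ∈ Γ.Ctr z B}
  zero_mem' := by
    show Γ.el (0 : Γ.Trl B) ∈ Γ.Ctr z B
    rw [Γ.el_zero]; exact one_mem _
  add_mem' := by
    intro a b (ha : Γ.el a ∈ Γ.Ctr z B) (hb : Γ.el b ∈ Γ.Ctr z B)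
    show Γ.el (a + b) ∈ Γ.Ctr z B
    rw [Γ.el_add]; exact mul_mem ha hb
  neg_mem' := by
    intro a (ha : Γ.el a ∈ Γ.Ctr z B)
    show Γ.el (-a) ∈ Γ.Ctr z B
    rw [Γ.el_neg]; exact inv_mem ha

omit hO in
lemma card_dirGrp {z : X} (hz : Γ.I z B) : Nat.card (Γ.dirGrp B z) = Q.q := by
  rw [← Q.ctr_card hz]
  exact Nat.card_congr
    ⟨fun a => ⟨Γ.el (a : Γ.Trl B), a.2⟩,
      fun g => ⟨Additive.ofMul ⟨(g : G), Γ.Ctr_le_E hz g.2⟩, g.2⟩,
      fun a => Subtype.ext (Γ.el_inj rfl), fun g => rfl⟩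

omit hO in
lemma dirGrp_disj {z z' : X} (hne : z ≠ z') {a : Γ.Trl B} (h : a ∈ Γ.dirGrp B z)
    (h' : a ∈ Γ.dirGrp B z') : a = 0 := by
  by_contra h0
  exact hne (Γ.centre_unique h h' fun e => h0 (Γ.el_inj (e.trans Γ.el_zero.symm)))

omit hO in
lemma fix_of_mem {z : X} {a : Γ.Trl B} (h : a ∈ Γ.dirGrp B z) (h0 : a ≠ 0) (y : Y) :
    Γ.el a • y = y ↔ Γ.I z y :=
  Γ.fixBlk_iff h (fun e => h0 (Γ.el_inj (e.trans Γ.el_zero.symm))) y

include Q in
/-- The line through a point at infinity and an affine point. -/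
lemma line_pt {z : X} (hz : Γ.I z B) (a : Γ.Trl B) {u : X} :
    u ∈ Γ.line z (Γ.pt O a) ↔ u = z ∨ ∃ b, b - a ∈ Γ.dirGrp B z ∧ Γ.pt O b = u := by
  classical
  have := Fintype.ofFinite (Γ.Trl B)
  set S := insert z (((univ : Finset (Γ.Trl B)).filter fun b => b - a ∈ Γ.dirGrp B z).image
    (Γ.pt O)) with hS
  have hsub : S ⊆ Γ.line z (Γ.pt O a) := by
    intro v hv
    rcases mem_insert.1 hv with rfl | hv
    · exact Γ.left_mem _ _
    · obtain ⟨b, hb, rfl⟩ := mem_image.1 hv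
      simp only [mem_filter, mem_univ, true_and] at hb
      rw [← sub_add_cancel b a, ← Γ.el_pt]
      exact Γ.smul_mem_line hb.2 _
  have hne : z ≠ Γ.pt O a := fun e => Γ.pt_out hO a (e ▸ hz)
  have hcard : S.card = Q.q + 1 := by
    rw [hS, card_insert_of_notMem, card_image_of_injective _ (Γ.pt_inj hO),
      ← Γ.card_dirGrp Q hz, Nat.card_eq_fintype_card, Fintype.card_subtype]
    · congr 1
      exact card_bij' (fun b _ => b - a) (fun c _ => c + a) (by simp) (by simp) (by simp) (by simp)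
    · intro h
      obtain ⟨b, -, e⟩ := mem_image.1 h
      exact Γ.pt_out hO b (e ▸ hz)
  have := eq_of_subset_of_card_le hsub (by rw [Γ.card_line Q hne, hcard])
  rw [← this, hS]
  simp

omit hO in
/-- The translation partition of an axis. -/
noncomputable def part (B : Y) : Part (Γ.Trl B) {z // Γ.I z B} where
  K := fun z => Γ.dirGrp B z.1
  q := Q.q
  two_le := Q.two_le
  card := fun z => Γ.card_dirGrp Q z.2
  disj := fun z w hne x h h' => Γ.dirGrp_disj (fun e => hne (Subtype.ext e)) h h'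
  cover := fun x => by
    obtain ⟨z, hz, h⟩ := Γ.el_mem x
    exact ⟨⟨z, hz⟩, h⟩
  closed := by
    classical
    rintro ⟨z, hz⟩ ⟨z', hz'⟩ ⟨w, hw⟩ x hx0 hxw hx
    by_cases hzz : z = z'
    · subst hzz
      rw [sup_idem] at hx ⊢
      have : w = z := by
        by_contra hne
        exact hx0 (Γ.dirGrp_disj hne hxw hx)
      subst this
      exact le_rfl
    have := Fintype.ofFinite (Γ.Trl B)
    set U := Γ.dirGrp B z ⊔ Γ.dirGrp B z'
    set L := Γ.line z z'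
    have hfix : ∀ (u : Γ.Trl B), u ∈ U → ∀ y, Γ.I z y → Γ.I z' y → Γ.el u • y = y := by
      intro u hu y h1 h2
      obtain ⟨c, hc, d, hd, rfl⟩ := AddSubgroup.mem_sup.1 hu
      rw [Γ.el_add, mul_smul, hd.2 y h2, hc.2 y h1]
    choose d hd hd' using fun u : Γ.Trl B => Γ.el_mem u
    have hdL : ∀ u ∈ (univ.filter fun u => u ∈ U ∧ u ≠ 0), d u ∈ L := by
      intro u hu
      simp only [mem_filter, mem_univ, true_and] at hu
      exact Γ.mem_line.2 fun y h1 h2 => (Γ.fix_of_mem (hd' u) hu.2 y).1 (hfix u hu.1 y h1 h2)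
    have hU : Nat.card U = Q.q * Q.q := by
      refine (Nat.card_eq_of_bijective
        (fun p : Γ.dirGrp B z × Γ.dirGrp B z' => (⟨(p.1 : Γ.Trl B) + p.2,
          AddSubgroup.add_mem_sup p.1.2 p.2.2⟩ : ↥U)) ⟨?_, ?_⟩).symm.trans
        (by rw [Nat.card_prod, Γ.card_dirGrp Q hz, Γ.card_dirGrp Q hz'])
      · rintro ⟨a, b⟩ ⟨a', b'⟩ e
        have e' : (a : Γ.Trl B) + b = a' + b' := congrArg Subtype.val e
        have e1 : (a : Γ.Trl B) - a' = b' - b := by rw [sub_eq_sub_iff_add_eq_add, e', add_comm]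
        have h1 : (a : Γ.Trl B) = a' := sub_eq_zero.1
          (Γ.dirGrp_disj hzz (sub_mem a.2 a'.2) (e1 ▸ sub_mem b'.2 b.2))
        rw [h1] at e'
        exact Prod.ext (Subtype.ext h1) (Subtype.ext (add_left_cancel e'))
      · rintro ⟨u, hu⟩
        obtain ⟨a, ha, b, hb, rfl⟩ := AddSubgroup.mem_sup.1 hu
        exact ⟨(⟨a, ha⟩, ⟨b, hb⟩), rfl⟩
    have nz : ∀ (H : AddSubgroup (Γ.Trl B)),
        (univ.filter fun u => u ∈ H ∧ u ≠ 0).card = Nat.card H - 1 := by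
      intro H
      rw [Nat.card_eq_fintype_card, Fintype.card_subtype,
        ← card_erase_of_mem (show (0 : Γ.Trl B) ∈ univ.filter (· ∈ H) by simp [H.zero_mem])]
      congr 1; ext g; simp [and_comm]
    have h1 := card_eq_sum_card_fiberwise hdL
    have hLI : ∀ v ∈ L, Γ.I v B := fun v hv => mem_ptsOf.1 (Γ.line_subset hz hz' hv)
    have hle : ∀ v ∈ L, ((univ.filter fun u => u ∈ U ∧ u ≠ 0).filter fun u => d u = v).card
        ≤ Q.q - 1 := by
      intro v hv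
      rw [← Γ.card_dirGrp Q (hLI v hv), ← nz]
      refine card_le_card fun u hu => ?_
      simp only [mem_filter, mem_univ, true_and] at hu ⊢
      exact ⟨hu.2 ▸ hd' u, hu.1.2⟩
    have h2 : ∑ v ∈ L, ((univ.filter fun u => u ∈ U ∧ u ≠ 0).filter fun u => d u = v).card
        = ∑ v ∈ L, (Q.q - 1) := by
      rw [← h1, sum_const, smul_eq_mul, nz, hU, Γ.card_line Q hzz]
      have := Q.two_le
      obtain ⟨r, hr⟩ := Nat.exists_eq_add_of_le this
      rw [hr, show 2 + r - 1 = 1 + r by omega]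
      have : (2 + r) * (2 + r) = (2 + r + 1) * (1 + r) + 1 := by ring
      omega
    have hwL : w ∈ L := Γ.mem_line.2 fun y h1 h2 =>
      (Γ.fix_of_mem hxw hx0 y).1 (hfix x hx y h1 h2)
    have h3 := (Finset.sum_eq_sum_iff_of_le hle).1 h2 w hwL
    intro u hu
    by_cases hu0 : u = 0
    · rw [hu0]; exact zero_mem _
    have hsub : ((univ.filter fun u => u ∈ U ∧ u ≠ 0).filter fun u => d u = w)
        ⊆ univ.filter fun u => u ∈ Γ.dirGrp B w ∧ u ≠ 0 := fun v hv => by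
      simp only [mem_filter, mem_univ, true_and] at hv ⊢
      exact ⟨hv.2 ▸ hd' v, hv.1.2⟩
    have h4 := eq_of_subset_of_card_le hsub (by rw [h3, nz, Γ.card_dirGrp Q hw])
    have : u ∈ univ.filter fun u => u ∈ Γ.dirGrp B w ∧ u ≠ 0 := by
      simpa using And.intro hu hu0
    rw [← h4] at this
    simp only [mem_filter, mem_univ, true_and] at this
    exact this.1.1

end Geo

end Cfsg.Agent.Axial80
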