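import Mathlib

/-!
# A finite semifield with both inverse properties is a field
-/

set_option autoImplicit false

namespace Cfsg.Agent.Axial80

/-- A semifield whose left and right multiplications are closed under inversion. -/
structure SF (W : Type*) [AddCommGroup W] where
  L : W →+ AddMonoid.End W
  one : W
  L_one : L one = 1
  mulOne : ∀ a, L a one = a
  inj : ∀ a, a ≠ 0 → ∀ x, L a x = 0 → x = 0
  linv : ∀ a, a ≠ 0 → ∃ a', L a' * L a = 1
  rinv : ∀ a, a ≠ 0 → ∃ a', ∀ y, L (L y a) a' = y

variable {W : Type*} [AddCommGroup W]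

namespace SF

variable (S : SF W)

lemma L_inj {a b : W} (h : S.L a = S.L b) : a = b := by
  rw [← S.mulOne a, ← S.mulOne b, h]

lemma oneMul (x : W) : S.L S.one x = x := by rw [S.L_one]; rfl

variable [Finite W]

lemma End_add (f g : AddMonoid.End W) (x : W) : (f + g) x = f x + g x := rfl

lemma mul_inv_of_inv_mul {a a' : W} (h : S.L a' * S.L a = 1) : S.L a * S.L a' = 1 := by
  have hinj : Function.Injective (S.L a) := fun x y e => by
    have := congrArg (S.L a') e
    change (S.L a' * S.L a) x = (S.L a' * S.L a) y at this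
    rwa [h] at this
  ext x
  obtain ⟨y, rfl⟩ := (Finite.injective_iff_surjective.1 hinj) x
  show S.L a (S.L a' (S.L a y)) = S.L a y
  rw [show S.L a' (S.L a y) = (S.L a' * S.L a) y from rfl, h]; rfl

/-- Hua's identity. -/
lemma left_moufang (a b : W) : S.L a * S.L b * S.L a = S.L (S.L a (S.L b a)) := by
  suffices h : ∃ c, S.L a * S.L b * S.L a = S.L c by
    obtain ⟨c, hc⟩ := h
    have e : S.L a (S.L b (S.L a S.one)) = S.L c S.one := DFunLike.congr_fun hc S.one
    rw [S.mulOne, S.mulOne] at e
    rw [hc, e]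
  by_cases ha : a = 0
  · exact ⟨0, by simp [ha]⟩
  by_cases hb : b = 0
  · exact ⟨0, by simp [hb]⟩
  obtain ⟨c, hc⟩ := S.linv b hb
  have hc' := S.mul_inv_of_inv_mul hc
  by_cases hca : c = a
  · subst hca
    exact ⟨c, by rw [hc, one_mul]⟩
  obtain ⟨a', ha'⟩ := S.linv a ha
  have ha'' := S.mul_inv_of_inv_mul ha'
  obtain ⟨x', hx'⟩ := S.linv (c - a) (sub_ne_zero.2 hca)
  have hx'' := S.mul_inv_of_inv_mul hx'
  have hM : S.L (a' + x') = S.L a' * S.L c * S.L x' := by
    have : S.L c = S.L (c - a) + S.L a := by rw [← map_add, sub_add_cancel]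
    rw [this, mul_add, add_mul, mul_assoc, hx'', mul_one, ha', one_mul, map_add]
  have hK : S.L (a' + x') * (S.L (c - a) * S.L b * S.L a) = 1 := by
    rw [hM]
    calc S.L a' * S.L c * S.L x' * (S.L (c - a) * S.L b * S.L a)
        = S.L a' * S.L c * (S.L x' * S.L (c - a)) * S.L b * S.L a := by simp only [mul_assoc]
      _ = S.L a' * (S.L c * S.L b) * S.L a := by rw [hx', mul_one]; simp only [mul_assoc]
      _ = 1 := by rw [hc, mul_one, ha']
  have hne : a' + x' ≠ 0 := fun e => by
    rw [e, map_zero, zero_mul] at hK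
    have := DFunLike.congr_fun hK S.one
    exact ha (by rw [← S.mulOne a, ← show (0 : W) = S.one from this, map_zero])
  obtain ⟨d, hd⟩ := S.linv _ hne
  have hdd : S.L d = S.L (c - a) * S.L b * S.L a := by
    calc S.L d = S.L d * (S.L (a' + x') * (S.L (c - a) * S.L b * S.L a)) := by rw [hK, mul_one]
      _ = _ := by rw [← mul_assoc, hd, one_mul]
  refine ⟨a - d, ?_⟩
  rw [map_sub S.L a d, hdd, map_sub S.L c a, sub_mul, sub_mul, hc, one_mul]
  abel

lemma sq_left (a : W) : S.L a * S.L a = S.L (S.L a a) := by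
  have := S.left_moufang a S.one
  simpa [S.L_one] using this

/-- Right multiplication. -/
def R : W →+ AddMonoid.End W := S.L.flip

lemma R_apply (a y : W) : S.R a y = S.L y a := rfl

lemma right_alt (a y : W) : S.L (S.L y a) a = S.L y (S.L a a) := by
  have hR : ∀ a b, S.R a * S.R b * S.R a = S.R (S.L (S.L a b) a) := by
    intro a b
    suffices h : ∃ c, S.R a * S.R b * S.R a = S.R c by
      obtain ⟨c, hc⟩ := h
      have e : S.L (S.L (S.L S.one a) b) a = S.L S.one c := DFunLike.congr_fun hc S.one
      rw [S.oneMul, S.oneMul] at e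
      rw [hc, e]
    have Rinv : ∀ a, a ≠ 0 → ∃ a', S.R a' * S.R a = 1 ∧ S.R a * S.R a' = 1 := by
      intro a ha
      obtain ⟨a', h⟩ := S.rinv a ha
      refine ⟨a', AddMonoidHom.ext fun y => h y, AddMonoidHom.ext fun y => ?_⟩
      have hinj : Function.Injective (S.R a) := fun x y e => by
        have := congrArg (S.R a') e
        simp only [R_apply, h] at this
        exact this
      obtain ⟨x, rfl⟩ := (Finite.injective_iff_surjective.1 hinj) y
      show S.L (S.L (S.L x a) a') a = S.L x a
      rw [h]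
    by_cases ha : a = 0
    · exact ⟨0, by simp [ha]⟩
    by_cases hb : b = 0
    · exact ⟨0, by simp [hb]⟩
    obtain ⟨c, hc, hc'⟩ := Rinv b hb
    by_cases hca : c = a
    · subst hca
      exact ⟨c, by rw [hc, one_mul]⟩
    obtain ⟨a', ha', ha''⟩ := Rinv a ha
    obtain ⟨x', hx', hx''⟩ := Rinv (c - a) (sub_ne_zero.2 hca)
    have hM : S.R (a' + x') = S.R a' * S.R c * S.R x' := by
      have : S.R c = S.R (c - a) + S.R a := by rw [← map_add, sub_add_cancel]
      rw [this, mul_add, add_mul, mul_assoc, hx'', mul_one, ha', one_mul, map_add]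
    have hK : S.R (a' + x') * (S.R (c - a) * S.R b * S.R a) = 1 := by
      rw [hM]
      calc S.R a' * S.R c * S.R x' * (S.R (c - a) * S.R b * S.R a)
          = S.R a' * S.R c * (S.R x' * S.R (c - a)) * S.R b * S.R a := by simp only [mul_assoc]
        _ = S.R a' * (S.R c * S.R b) * S.R a := by rw [hx', mul_one]; simp only [mul_assoc]
        _ = 1 := by rw [hc, mul_one, ha']
    have hne : a' + x' ≠ 0 := fun e => by
      rw [e, map_zero, zero_mul] at hK
      have := DFunLike.congr_fun hK S.one
      exact ha (by rw [← S.mulOne a, ← show (0 : W) = S.one from this, map_zero])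
    obtain ⟨d, hd, -⟩ := Rinv _ hne
    have hdd : S.R d = S.R (c - a) * S.R b * S.R a := by
      calc S.R d = S.R d * (S.R (a' + x') * (S.R (c - a) * S.R b * S.R a)) := by rw [hK, mul_one]
        _ = _ := by rw [← mul_assoc, hd, one_mul]
    refine ⟨a - d, ?_⟩
    rw [map_sub S.R a d, hdd, map_sub S.R c a, sub_mul, sub_mul, hc, one_mul]
    abel
  have h1 := DFunLike.congr_fun (hR a S.one) y
  change S.L (S.L (S.L y a) S.one) a = S.L y (S.L (S.L a S.one) a) at h1
  rwa [S.mulOne, S.mulOne] at h1

/-- The associator. -/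
def A (x y z : W) : W := S.L (S.L x y) z - S.L x (S.L y z)

lemma A_self_left (x z : W) : S.A x x z = 0 := by
  have := DFunLike.congr_fun (S.sq_left x) z
  change S.L x (S.L x z) = S.L (S.L x x) z at this
  rw [A, this, sub_self]

lemma A_self_right (x z : W) : S.A z x x = 0 := by
  rw [A, S.right_alt, sub_self]

lemma A_swap_left (x y z : W) : S.A x y z = -S.A y x z := by
  have h := S.A_self_left (x + y) z
  have h1 := S.A_self_left x z
  have h2 := S.A_self_left y z
  simp only [A, map_add, AddMonoidHom.add_apply, End_add] at h h1 h2 ⊢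
  rw [← sub_eq_zero] at h ⊢
  linear_combination (norm := abel) h - h1 - h2

lemma A_swap_right (x y z : W) : S.A x y z = -S.A x z y := by
  have h := S.A_self_right (y + z) x
  have h1 := S.A_self_right y x
  have h2 := S.A_self_right z x
  simp only [A, map_add, AddMonoidHom.add_apply, End_add] at h h1 h2 ⊢
  rw [← sub_eq_zero] at h ⊢
  linear_combination (norm := abel) h - h1 - h2

lemma sandwich_add (a b : W) :
    S.L a * S.L b + S.L b * S.L a = S.L (S.L a b + S.L b a) := by
  have h := S.sq_left (a + b)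
  have h1 := S.sq_left a
  have h2 := S.sq_left b
  simp only [map_add, AddMonoidHom.add_apply, End_add, mul_add, add_mul] at h ⊢
  linear_combination (norm := abel) h - h1 - h2

/-! ### Subfields generated by one element -/

/-- The range of left multiplication. -/
def Rg : AddSubgroup (AddMonoid.End W) := S.L.range

lemma powMem (a : W) : ∀ n, S.L a ^ n ∈ S.Rg
  | 0 => ⟨S.one, by rw [S.L_one, pow_zero]⟩
  | 1 => ⟨a, by rw [pow_one]⟩
  | n + 2 => by
    obtain ⟨b, hb⟩ := powMem a n
    exact ⟨S.L a (S.L b a), by rw [pow_succ, pow_succ', ← hb, S.left_moufang]⟩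

lemma closure_le (a : W) :
    (Subring.closure {S.L a}).toAddSubgroup ≤ S.Rg := by
  intro x hx
  have hx' : x ∈ Subring.closure {S.L a} := hx
  rw [Subring.mem_closure_iff] at hx'
  refine (AddSubgroup.closure_le _).2 ?_ hx'
  intro y hy
  obtain ⟨n, rfl⟩ := Submonoid.mem_closure_singleton.1 hy
  exact S.powMem a n

/-- The elements of the subfield generated by `a`. -/
def fld (a : W) : AddSubgroup W := (Subring.closure {S.L a}).toAddSubgroup.comap S.L

lemma mem_fld {a u : W} : u ∈ S.fld a ↔ S.L u ∈ Subring.closure {S.L a} := Iff.rfl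

lemma self_mem (a : W) : a ∈ S.fld a := Subring.subset_closure rfl

lemma oneMem (a : W) : S.one ∈ S.fld a := by
  rw [mem_fld, S.L_one]; exact Subring.one_mem _

lemma L_mul_of_mem {a u w : W} (hu : u ∈ S.fld a) (hw : w ∈ S.fld a) :
    S.L (S.L u w) = S.L u * S.L w ∧ S.L u w ∈ S.fld a := by
  obtain ⟨c, hc⟩ := S.closure_le a (Subring.mul_mem _ (S.mem_fld.1 hu) (S.mem_fld.1 hw))
  have : S.L u w = c := by
    have e : S.L c S.one = S.L u (S.L w S.one) := DFunLike.congr_fun hc S.one
    rw [S.mulOne, S.mulOne] at e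
    exact e.symm
  refine ⟨by rw [this, hc], ?_⟩
  rw [mem_fld, this, hc]
  exact Subring.mul_mem _ (S.mem_fld.1 hu) (S.mem_fld.1 hw)

lemma closure_comm (a : W) {x y : AddMonoid.End W} (hx : x ∈ Subring.closure {S.L a})
    (hy : y ∈ Subring.closure {S.L a}) : x * y = y * x := by
  have h1 : Subring.closure {S.L a} ≤ Subring.centralizer {S.L a} := by
    rw [Subring.closure_le]
    rintro _ rfl
    exact Subring.mem_centralizer_iff.2 fun g hg => by rw [Set.mem_singleton_iff.1 hg]
  have h2 : Subring.closure {S.L a} ≤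
      Subring.centralizer (Subring.closure {S.L a} : Set (AddMonoid.End W)) := by
    rw [Subring.closure_le]
    rintro _ rfl
    exact Subring.mem_centralizer_iff.2 fun g hg =>
      (Subring.mem_centralizer_iff.1 (h1 hg) _ rfl).symm
  exact Subring.mem_centralizer_iff.1 (h2 hy) _ hx

lemma fld_comm {a u w : W} (hu : u ∈ S.fld a) (hw : w ∈ S.fld a) : S.L u w = S.L w u := by
  refine S.L_inj ?_
  rw [(S.L_mul_of_mem hu hw).1, (S.L_mul_of_mem hw hu).1,
    S.closure_comm a (S.mem_fld.1 hu) (S.mem_fld.1 hw)]

lemma A_fld {a u w : W} (hu : u ∈ S.fld a) (hw : w ∈ S.fld a) (z : W) :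
    S.A u w z = 0 ∧ S.A u z w = 0 ∧ S.A z u w = 0 := by
  have h1 : ∀ z, S.A u w z = 0 := fun z => by
    rw [A, (S.L_mul_of_mem hu hw).1]; exact sub_self _
  refine ⟨h1 z, ?_, ?_⟩
  · rw [S.A_swap_right, h1, neg_zero]
  · rw [S.A_swap_left, S.A_swap_right, h1, neg_zero, neg_zero]

/-- The multiplicative structure of the subfield generated by one element. -/
@[reducible] def fldType (a : W) := ↥(Subring.closure {S.L a})

lemma fld_isField (a : W) (h0 : S.one ≠ 0) : IsField (S.fldType a) := by
  have : Finite (AddMonoid.End W) :=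
    Finite.of_injective (fun f => (f : W → W)) DFunLike.coe_injective
  let _ : CommRing (S.fldType a) :=
    { (inferInstance : Ring (S.fldType a)) with
      mul_comm := fun x y => Subtype.ext (S.closure_comm a x.2 y.2) }
  have : Nontrivial (S.fldType a) := ⟨⟨1, 0, fun e =>
    h0 (DFunLike.congr_fun (congrArg Subtype.val e) S.one)⟩⟩
  have : NoZeroDivisors (S.fldType a) := ⟨fun {x y} e => by
    by_cases hx : x = 0
    · exact Or.inl hx
    refine Or.inr (Subtype.ext (AddMonoidHom.ext fun w => ?_))
    obtain ⟨c, hc⟩ := S.closure_le a x.2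
    have hc0 : c ≠ 0 := fun e' => hx (Subtype.ext (by rw [← hc, e', map_zero]; rfl))
    refine S.inj c hc0 _ ?_
    rw [hc]
    exact DFunLike.congr_fun (congrArg Subtype.val e) w⟩
  have : IsDomain (S.fldType a) := NoZeroDivisors.to_isDomain _
  exact Finite.isDomain_to_isField (S.fldType a)

/-- The subfield generated by one element, as a field extending the ring structure. -/
@[implicit_reducible] noncomputable def fldField (a : W) (h0 : S.one ≠ 0) : Field (S.fldType a) :=
  open Classical in
  { (inferInstance : Ring (S.fldType a)) with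
    mul_comm := (S.fld_isField a h0).mul_comm
    exists_pair_ne := (S.fld_isField a h0).exists_pair_ne
    inv := fun x => if h : x = 0 then 0 else Classical.choose ((S.fld_isField a h0).mul_inv_cancel h)
    mul_inv_cancel := fun x h => by
      rw [dif_neg h]; exact Classical.choose_spec ((S.fld_isField a h0).mul_inv_cancel h)
    inv_zero := dif_pos rfl
    nnqsmul := _
    nnqsmul_def := fun _ _ => rfl
    qsmul := _
    qsmul_def := fun _ _ => rfl }

end SF

end Cfsg.Agent.Axial80
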