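import Mathlib
import Cfsg.Agent.Lib.Axial80Semifield

/-!
# Commutativity of a finite semifield with both inverse properties
-/

set_option autoImplicit false
set_option maxHeartbeats 1000000

namespace Cfsg.Agent.Axial80

open Finset Polynomial

lemma norm_surjective {K : Type*} [Field K] [Fintype K] (σ : K →+* K) (e : RingAut K)
    (he : ∀ x, e x = σ x) (N : ℕ) (hN0 : 0 < N) (hN : orderOf e = N) {cK : K} (hcK0 : cK ≠ 0)
    (hσc : σ cK = cK) : ∃ x : Kˣ, (∏ j ∈ range N, (e ^ j) (x : K)) * cK = 1 := by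
  classical
  let Nm : ℕ → K → K := fun i x => ∏ j ∈ range i, (e ^ j) x
  have hNm_succ : ∀ i x, Nm (i + 1) x = Nm i x * (e ^ i) x := fun i x => Finset.prod_range_succ _ _
  have hpow : e ^ N = 1 := hN ▸ pow_orderOf_eq_one e
  have hNm_shift : ∀ i x, x * σ (Nm i x) = Nm (i + 1) x := by
    intro i x
    simp only [Nm]
    rw [map_prod, Finset.prod_range_succ' (fun j => (e ^ j) x) i, pow_zero, mul_comm]
    congr 1
    refine prod_congr rfl fun j _ => ?_
    rw [pow_succ']
    exact (he _).symm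
  have hNm_fix : ∀ x, x ≠ 0 → σ (Nm N x) = Nm N x := by
    intro x hx
    refine mul_left_cancel₀ hx ?_
    rw [hNm_shift, hNm_succ, hpow, mul_comm]
    rfl
  let Φ : Kˣ →* Kˣ :=
    { toFun := fun x => ∏ j ∈ range N, Units.map ((e ^ j : RingAut K) : K →* K) x
      map_one' := by simp
      map_mul' := fun x y => by simp [Finset.prod_mul_distrib] }
  have hΦ : ∀ x : Kˣ, ((Φ x : Kˣ) : K) = Nm N x := fun x => by simp [Φ, Nm, Units.coe_prod]
  let ψ : Kˣ →* Kˣ :=
    { toFun := fun y => y / Units.map (σ : K →* K) y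
      map_one' := by simp
      map_mul' := fun x y => by simp [mul_div_mul_comm] }
  have hker : Φ.ker ≤ ψ.range := by
    intro x hx
    have hx1 : Nm N x = 1 := by
      rw [← hΦ, MonoidHom.mem_ker.1 hx, Units.val_one]
    let f : Fin N → (K →* K) := fun j => ((e ^ (j : ℕ) : RingAut K) : K →* K)
    have hfinj : Function.Injective f := fun i j hij => Fin.ext
      (pow_injOn_Iio_orderOf (x := e) (by simpa [hN] using i.2) (by simpa [hN] using j.2)
        (RingEquiv.ext fun k => DFunLike.congr_fun hij k))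
    obtain ⟨z, hz⟩ : ∃ z : K, ∑ j : Fin N, Nm j x * (e ^ (j : ℕ)) z ≠ 0 := by
      by_contra hcon
      push_neg at hcon
      have li := (linearIndependent_monoidHom K K).comp f hfinj
      have h1 := Fintype.linearIndependent_iff.1 li (fun j => Nm j x) (funext fun z => by
        rw [Finset.sum_apply]
        exact hcon z) ⟨0, hN0⟩
      simp [Nm] at h1
    set Y := ∑ j ∈ range N, Nm j x * (e ^ j) z with hY
    have hY0 : Y ≠ 0 := by rwa [hY, ← Fin.sum_univ_eq_sum_range]
    have hxY : (x : K) * σ Y = Y := by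
      rw [hY, map_sum, mul_sum]
      rw [sum_congr rfl fun j _ => show (x : K) * σ (Nm j x * (e ^ j) z)
          = Nm (j + 1) x * (e ^ (j + 1)) z by
        rw [map_mul, ← mul_assoc, hNm_shift, pow_succ', ← he]; rfl]
      have h1 := Finset.sum_range_succ (fun j => Nm j x * (e ^ j) z) N
      have h2 := Finset.sum_range_succ' (fun j => Nm j x * (e ^ j) z) N
      rw [h1] at h2
      have : Nm N x * (e ^ N) z = Nm 0 x * (e ^ 0) z := by
        rw [hx1, hpow]; simp [Nm]
      rw [this] at h2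
      exact (add_right_cancel h2).symm
    refine ⟨Units.mk0 Y hY0, ?_⟩
    show Units.mk0 Y hY0 / Units.map (σ : K →* K) (Units.mk0 Y hY0) = x
    rw [div_eq_iff_eq_mul]
    ext
    simp [hxY]
  obtain ⟨x, hx⟩ : ∃ x : Kˣ, Φ x = (Units.mk0 cK hcK0)⁻¹ := by
    have h2 : Φ.range ≤ ψ.ker := by
      rintro _ ⟨x, rfl⟩
      rw [MonoidHom.mem_ker]
      show Φ x / Units.map (σ : K →* K) (Φ x) = 1
      rw [div_eq_one]
      ext
      show ((Φ x : Kˣ) : K) = σ ((Φ x : Kˣ) : K)
      rw [hΦ, hNm_fix _ x.ne_zero]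
    have h3 : Φ.range = ψ.ker := by
      refine Subgroup.eq_of_le_of_card_ge h2 ?_
      have e1 := Subgroup.card_mul_index Φ.ker
      have e2 := Subgroup.card_mul_index ψ.ker
      rw [Subgroup.index_ker] at e1 e2
      have e3 : Nat.card Φ.ker ≤ Nat.card ψ.range := Subgroup.card_le_of_le hker
      have e4 : 0 < Nat.card ψ.range := Nat.card_pos
      refine Nat.le_of_mul_le_mul_right ?_ e4
      calc Nat.card ψ.ker * Nat.card ψ.range = Nat.card Φ.ker * Nat.card Φ.range := e2.trans e1.symm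
        _ ≤ Nat.card Φ.range * Nat.card ψ.range := by
          rw [mul_comm]; exact Nat.mul_le_mul_left _ e3
    have h4 : (Units.mk0 cK hcK0)⁻¹ ∈ ψ.ker := by
      refine inv_mem ?_
      rw [MonoidHom.mem_ker]
      show Units.mk0 cK hcK0 / Units.map (σ : K →* K) (Units.mk0 cK hcK0) = 1
      rw [div_eq_one]
      ext
      exact hσc.symm
    exact (h3 ▸ h4 : (Units.mk0 cK hcK0)⁻¹ ∈ Φ.range)
  have hxc : Nm N x * cK = 1 := by
    rw [← hΦ, hx]; simp [hcK0]
  exact ⟨x, hxc⟩

lemma sum_two_squares {K : Type*} [Field K] [Fintype K] (x : K) : ∃ y z : K, y * y + z * z = x := by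
  classical
  by_cases h2 : ringChar K = 2
  · obtain ⟨y, hy⟩ := FiniteField.isSquare_of_char_two h2 x
    exact ⟨y, 0, by rw [mul_zero, add_zero, ← hy]⟩
  · have hodd : Fintype.card K % 2 = 1 := FiniteField.odd_card_of_char_ne_two h2
    obtain ⟨y, z, h⟩ := FiniteField.exists_root_sum_quadratic (f := (X : K[X]) ^ 2)
      (g := (X : K[X]) ^ 2 - C x) (degree_X_pow 2) (degree_X_pow_sub_C (by omega) x) hodd
    refine ⟨y, z, ?_⟩
    simp only [eval_pow, eval_X, eval_sub, eval_C] at h
    linear_combination h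

namespace SF

variable {W : Type*} [AddCommGroup W] [Finite W] (S : SF W)

/-- Value of an operator at the unit. -/
def val (f : AddMonoid.End W) : W := f S.one

lemma L_val {a : W} {f : AddMonoid.End W} (hf : f ∈ Subring.closure {S.L a}) :
    S.L (S.val f) = f := by
  obtain ⟨c, hc⟩ := S.closure_le a hf
  have e : S.L c S.one = S.val f := DFunLike.congr_fun hc S.one
  rw [S.mulOne] at e
  rw [← e, hc]

lemma val_mem {a : W} {f : AddMonoid.End W} (hf : f ∈ Subring.closure {S.L a}) :
    S.val f ∈ S.fld a := by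
  rw [S.mem_fld, S.L_val hf]; exact hf

lemma card_closure (a : W) : Nat.card (S.fldType a) = Nat.card (S.fld a) :=
  Nat.card_congr
    ⟨fun f => ⟨S.val f, S.val_mem f.2⟩, fun u => ⟨S.L u, u.2⟩,
      fun f => Subtype.ext (S.L_val f.2), fun u => Subtype.ext (S.mulOne u)⟩

/-- Teichmüller's identity. -/
lemma teich (w x y z : W) :
    S.L w (S.A x y z) + S.L (S.A w x y) z
      = S.A (S.L w x) y z - S.A w (S.L x y) z + S.A w x (S.L y z) := by
  simp only [A, map_sub, AddMonoidHom.sub_apply]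
  have : (S.L (S.L (S.L w x) y) - S.L (S.L w (S.L x y))) z
      = S.L (S.L (S.L w x) y) z - S.L (S.L w (S.L x y)) z := rfl
  rw [this]
  abel

lemma exists_generator (h0 : S.one ≠ 0) :
    ∃ a, a ≠ 0 ∧ ∀ b, Nat.card (S.fld b) ≤ Nat.card (S.fld a) := by
  obtain ⟨a, ha⟩ := Finite.exists_max fun b : W => Nat.card (S.fld b)
  by_cases h : a = 0
  · refine ⟨S.one, h0, fun b => (ha b).trans (le_of_eq ?_)⟩
    have : S.fld a = S.fld S.one := by
      ext u
      rw [S.mem_fld, S.mem_fld, h, map_zero, S.L_one]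
      have e : ∀ r : AddMonoid.End W, (r = 0 ∨ r = 1) → Subring.closure {r} = ⊥ := by
        intro r hr
        refine eq_bot_iff.2 (Subring.closure_le.2 ?_)
        rintro _ rfl
        rcases hr with rfl | rfl
        · exact Subring.zero_mem _
        · exact Subring.one_mem _
      rw [e 0 (Or.inl rfl), e 1 (Or.inr rfl)]
    rw [this]
  · exact ⟨a, h, ha⟩

section Main

variable {a : W} (hmax : ∀ b, Nat.card (S.fld b) ≤ Nat.card (S.fld a)) (h0 : S.one ≠ 0)

include hmax h0

/-- Whatever commutes with a maximal subfield lies in it. -/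
lemma mem_of_comm {d : W} (hd : ∀ x ∈ S.fld a, S.L x d = S.L d x) : d ∈ S.fld a := by
  classical
  set C₀ := Subring.closure {S.L a} with hC₀
  let _ : Field (S.fldType a) := S.fldField a h0
  have : Finite (AddMonoid.End W) :=
    Finite.of_injective (fun f => (f : W → W)) DFunLike.coe_injective
  have := Fintype.ofFinite (S.fldType a)
  set D := S.L d with hD
  -- squares
  have hsq : ∀ x ∈ C₀, x * x * D + D * (x * x) = x * D * x + x * D * x := by
    intro x hx
    have hu := mul_mem hx hx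
    have hu' := S.val_mem hu
    have hxm := S.val_mem hx
    have e1 := S.sandwich_add (S.val (x * x)) d
    rw [S.L_val hu, ← hd _ hu', S.L_val hu] at e1
    have e2 := S.left_moufang (S.val x) d
    rw [S.L_val hx, ← hd _ hxm] at e2
    have e3 : x (S.L (S.val x) d) = S.L (S.val (x * x)) d := by
      rw [S.L_val hu, S.L_val hx]; rfl
    rw [e3] at e2
    rw [e1, map_add, hD, e2, S.L_val hu]
  have hcomm : ∀ x ∈ C₀, Commute x D := by
    intro x hx
    set c := x * D - D * x with hc
    have hxc : x * c = c * x := by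
      have := hsq x hx
      rw [hc, mul_sub, sub_mul, ← mul_assoc, ← mul_assoc, mul_assoc D x x]
      rw [← sub_eq_zero]
      rw [← sub_eq_zero] at this
      linear_combination (norm := abel) this
    have hpow : ∀ n : ℕ, x ^ (n + 1) * D - D * x ^ (n + 1) = (n + 1) • (x ^ n * c) := by
      intro n
      induction n with
      | zero => simp [hc]
      | succ n ih =>
        have hxn : x * (x ^ n * c) = x ^ (n + 1) * c := by rw [← mul_assoc, ← pow_succ']
        have hcn : c * x ^ (n + 1) = x ^ (n + 1) * c := (Commute.pow_left hxc (n + 1)).symm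
        calc x ^ (n + 1 + 1) * D - D * x ^ (n + 1 + 1)
            = x * (x ^ (n + 1) * D - D * x ^ (n + 1)) + c * x ^ (n + 1) := by
              rw [hc, pow_succ' x (n + 1), mul_sub, sub_mul]
              simp only [mul_assoc]
              abel
          _ = (n + 1 + 1) • (x ^ (n + 1) * c) := by
              rw [ih, mul_smul_comm, hcn, hxn, succ_nsmul (x ^ (n + 1) * c) (n + 1)]
    obtain ⟨n, hn⟩ : ∃ n, Fintype.card (S.fldType a) = n + 1 :=
      Nat.exists_eq_add_one.2 Fintype.card_pos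
    have hx1 : x ^ (n + 1) = x := by
      have := congrArg Subtype.val (FiniteField.pow_card (K := S.fldType a) ⟨x, hx⟩)
      rw [hn] at this
      exact this
    have h1 : ((n + 1) • (1 : AddMonoid.End W)) = 0 := by
      have := congrArg Subtype.val (card_nsmul_eq_zero (x := (1 : S.fldType a)))
      rw [hn] at this
      exact this
    have := hpow n
    rw [hx1, ← _root_.one_mul (x ^ n * c), ← smul_mul_assoc, h1, zero_mul, sub_eq_zero] at this
    exact this
  -- the enlarged subring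
  set C := Subring.closure (insert D (C₀ : Set (AddMonoid.End W))) with hC
  have hmon : ∀ y ∈ Submonoid.closure (insert D (C₀ : Set (AddMonoid.End W))),
      ∃ x ∈ C₀, ∃ j : ℕ, y = x * D ^ j := by
    intro y hy
    induction hy using Submonoid.closure_induction with
    | mem y hy =>
      rcases hy with rfl | hy
      · exact ⟨1, Subring.one_mem _, 1, by simp⟩
      · exact ⟨y, hy, 0, by simp⟩
    | one => exact ⟨1, Subring.one_mem _, 0, by simp⟩
    | mul y y' _ _ hy hy' =>
      obtain ⟨x, hx, j, rfl⟩ := hy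
      obtain ⟨x', hx', j', rfl⟩ := hy'
      refine ⟨x * x', mul_mem hx hx', j + j', ?_⟩
      rw [mul_assoc x, ← mul_assoc (D ^ j) x', ((hcomm x' hx').pow_right j).symm.eq, pow_add]
      simp only [mul_assoc]
  have hrg : ∀ y ∈ C, y ∈ S.Rg := by
    intro y hy
    rw [hC, Subring.mem_closure_iff] at hy
    refine (AddSubgroup.closure_le _).2 ?_ hy
    intro m hm
    obtain ⟨x, hx, j, rfl⟩ := hmon m hm
    obtain ⟨y, z, hyz⟩ := sum_two_squares (⟨x, hx⟩ : S.fldType a)
    have hyz' : (y : AddMonoid.End W) * y + (z : AddMonoid.End W) * z = x :=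
      congrArg Subtype.val hyz
    have key : ∀ w : S.fldType a, (w : AddMonoid.End W) * w * D ^ j ∈ S.Rg := by
      intro w
      obtain ⟨b, hb⟩ := S.powMem d j
      obtain ⟨w', hw'⟩ := S.closure_le a w.2
      rw [mul_assoc, ← ((hcomm _ w.2).pow_right j).symm.eq, ← mul_assoc]
      refine ⟨S.L w' (S.L b w'), ?_⟩
      rw [← S.left_moufang, hw', hb]
    rw [← hyz', add_mul]
    exact add_mem (key y) (key z)
  have hCcomm : ∀ x ∈ insert D (C₀ : Set (AddMonoid.End W)),
      ∀ y ∈ insert D (C₀ : Set (AddMonoid.End W)), x * y = y * x := by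
    intro x hx y hy
    rcases hx with rfl | hx <;> rcases hy with rfl | hy
    · rfl
    · exact ((hcomm y hy).eq).symm
    · exact (hcomm x hx).eq
    · exact S.closure_comm a hx hy
  let _ : CommRing C := Subring.closureCommRingOfComm hCcomm
  have : Nontrivial C := ⟨⟨1, 0, fun e =>
    h0 (DFunLike.congr_fun (congrArg Subtype.val e) S.one)⟩⟩
  have : NoZeroDivisors C := ⟨fun {x y} e => by
    by_cases hx : x = 0
    · exact Or.inl hx
    refine Or.inr (Subtype.ext (AddMonoidHom.ext fun w => ?_))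
    obtain ⟨c, hc⟩ := hrg _ x.2
    have hc0 : c ≠ 0 := fun e' => hx (Subtype.ext (by rw [← hc, e', map_zero]; rfl))
    refine S.inj c hc0 _ ?_
    rw [hc]
    exact DFunLike.congr_fun (congrArg Subtype.val e) w⟩
  have : IsDomain C := NoZeroDivisors.to_isDomain _
  obtain ⟨g, hg⟩ := IsCyclic.exists_generator (α := Cˣ)
  obtain ⟨g', hg'⟩ := hrg _ ((g : C).2)
  have hle : C ≤ Subring.closure {S.L g'} := by
    intro y hy
    by_cases h : (⟨y, hy⟩ : C) = 0
    · rw [show y = 0 from congrArg Subtype.val h]; exact Subring.zero_mem _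
    obtain ⟨w, hw⟩ := (Finite.isDomain_to_isField C).mul_inv_cancel h
    have hu : IsUnit (⟨y, hy⟩ : C) := ⟨⟨_, w, hw, by rw [mul_comm]; exact hw⟩, rfl⟩
    obtain ⟨n, hn⟩ := mem_powers_iff_mem_zpowers.2 (hg hu.unit)
    have e : (g : C) ^ n = ⟨y, hy⟩ := by
      rw [← Units.val_pow_eq_pow_val]; exact congrArg Units.val hn
    rw [show y = ((g : C) : AddMonoid.End W) ^ n by rw [← SubmonoidClass.coe_pow, e], ← hg']
    exact Subring.pow_mem _ (Subring.subset_closure (Set.mem_singleton _)) n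
  have hC0le : C₀ ≤ C := fun x hx => Subring.subset_closure (Set.mem_insert_of_mem _ hx)
  have hcard : Nat.card (S.fldType g') ≤ Nat.card (S.fldType a) := by
    rw [S.card_closure, S.card_closure]; exact hmax g'
  have heq : (C₀ : Set (AddMonoid.End W)) = Subring.closure {S.L g'} := by
    refine Set.eq_of_subset_of_ncard_le (hC0le.trans hle) ?_
    rw [← Nat.card_coe_set_eq, ← Nat.card_coe_set_eq]
    exact hcard
  show S.L d ∈ C₀
  exact (Set.ext_iff.1 heq D).2 (hle (Subring.subset_closure (Set.mem_insert _ _)))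


section Emb

variable {K : Type*} [Field K] (op : K →+* AddMonoid.End W)
  (hop : ∀ f, f ∈ Subring.closure {S.L a} ↔ ∃ k, op k = f)

/-- The element of a subfield element. -/
def io (k : K) : W := S.val (op k)

omit hmax h0 in
lemma io_zero : S.io op 0 = 0 := by rw [io, map_zero]; rfl

omit hmax h0 in
lemma io_one : S.io op 1 = S.one := by rw [io, map_one]; rfl

omit hmax h0 in
lemma io_add (k l : K) : S.io op (k + l) = S.io op k + S.io op l := by rw [io, map_add]; rfl

omit hmax h0 in
lemma io_neg (k : K) : S.io op (-k) = -S.io op k := by rw [io, map_neg]; rfl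

omit hmax h0 in
lemma io_mul (k l : K) : S.io op (k * l) = op k (S.io op l) := by rw [io, map_mul]; rfl

include hop

omit hmax h0 in
lemma io_mem (k : K) : S.io op k ∈ S.fld a := S.val_mem ((hop _).2 ⟨k, rfl⟩)

omit hmax h0 in
lemma L_io (k : K) : S.L (S.io op k) = op k := S.L_val ((hop _).2 ⟨k, rfl⟩)

omit hmax in
lemma op_inj : Function.Injective op :=
  have : Nontrivial (AddMonoid.End W) := ⟨⟨1, 0, fun e => h0 (DFunLike.congr_fun e S.one)⟩⟩
  op.injective

omit hmax h0 in
lemma io_surj {x : W} (hx : x ∈ S.fld a) : ∃ k : K, S.io op k = x := by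
  obtain ⟨k, hk⟩ := (hop _).1 (S.mem_fld.1 hx)
  exact ⟨k, by rw [io, hk]; exact S.mulOne x⟩

omit hmax in
lemma exists_eigen [Fintype K] (ha : a ≠ 0) {v : W} (hv : v ∉ S.fld a) :
    ∃ (c : K) (b : W), b ∉ S.fld a ∧ S.L b a = op c b := by
  classical
  let ι : K → W := S.io op
  have hι0 : ι 0 = 0 := S.io_zero op
  have hι1 : ι 1 = S.one := S.io_one op
  have hιadd : ∀ k l, ι (k + l) = ι k + ι l := S.io_add op
  have hιneg : ∀ k, ι (-k) = -ι k := S.io_neg op
  have hιmul : ∀ k l, ι (k * l) = op k (ι l) := S.io_mul op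
  have hιmem : ∀ k : K, ι k ∈ S.fld a := S.io_mem op hop
  have hLι : ∀ k : K, S.L (ι k) = op k := S.L_io op hop
  have hopinj : Function.Injective op := S.op_inj h0 op hop
  obtain ⟨θ, hθ⟩ := (hop (S.L a)).1 (Subring.subset_closure rfl)
  have hιθ : ι θ = a := by show S.val (op θ) = a; rw [hθ]; exact S.mulOne a
  have hθ0 : θ ≠ 0 := fun e => ha (by rw [← hιθ, e, hι0])
  set ρ : AddMonoid.End W := S.R a with hρ
  have hρk : ∀ (k : K) y, ρ ((op k) y) = (op k) (ρ y) := by
    intro k y
    have := (S.A_fld (hιmem k) (S.self_mem a) y).2.1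
    rw [A, hLι, sub_eq_zero] at this
    exact this
  have hρpow : ∀ (i : ℕ) y, (ρ ^ i) y = S.L y (ι (θ ^ i)) := by
    intro i
    induction i with
    | zero => intro y; rw [pow_zero, pow_zero, hι1]; exact (S.mulOne y).symm
    | succ i ih =>
      intro y
      rw [pow_succ']
      show S.L ((ρ ^ i) y) a = _
      rw [ih]
      have := (S.A_fld (hιmem (θ ^ i)) (S.self_mem a) y).2.2
      rw [A, sub_eq_zero] at this
      rw [this]
      congr 1
      rw [S.fld_comm (hιmem _) (S.self_mem a)]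
      rw [pow_succ', hιmul, ← hLι θ, hιθ]
  set n := Fintype.card K - 1 with hn
  have hn0 : 0 < n := by have := Fintype.one_lt_card (α := K); omega
  have hρn : ∀ y, (ρ ^ n) y = y := fun y => by
    rw [hρpow, hn, FiniteField.pow_card_sub_one_eq_one θ hθ0, hι1]; exact S.mulOne y
  -- eigenvectors
  let h : Kˣ → ℕ → W := fun c i => op (((c⁻¹ : Kˣ) : K) ^ i) ((ρ ^ i) v)
  let vc : Kˣ → W := fun c => ∑ i ∈ range n, h c i
  have heig : ∀ c : Kˣ, ρ (vc c) = (op (c : K)) (vc c) := by
    intro c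
    simp only [vc, map_sum]
    have hstep : ∀ i, ρ (h c i) = op (c : K) (h c (i + 1)) := by
      intro i
      show ρ (op _ _) = op (c : K) (op _ _)
      rw [hρk, ← show (op (c : K) * op (((c⁻¹ : Kˣ) : K) ^ (i + 1))) ((ρ ^ (i + 1)) v)
        = op (c : K) (op (((c⁻¹ : Kˣ) : K) ^ (i + 1)) ((ρ ^ (i + 1)) v)) from rfl,
        ← map_mul, pow_succ' ((c⁻¹ : Kˣ) : K), ← mul_assoc, Units.mul_inv, _root_.one_mul,
        pow_succ' ρ]
      rfl
    rw [sum_congr rfl fun i _ => hstep i, ← map_sum, ← map_sum]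
    congr 1
    have hwrap : h c n = h c 0 := by
      simp only [h]
      rw [hρn, ← Units.val_pow_eq_pow_val, hn, ← Fintype.card_units, pow_card_eq_one]
      simp
    have h1 := Finset.sum_range_succ (h c) n
    have h2 := Finset.sum_range_succ' (h c) n
    rw [h1, hwrap] at h2
    exact (add_right_cancel h2).symm
  have hsum : ∑ c : Kˣ, vc c = -v := by
    simp only [vc]
    rw [Finset.sum_comm]
    have hin : ∀ i, ∑ c : Kˣ, h c i = op (if n ∣ i then -1 else 0 : K) ((ρ ^ i) v) := by
      intro i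
      rw [← FiniteField.sum_pow_units K i, ← Equiv.sum_comp (Equiv.inv Kˣ) (fun x : Kˣ => (x : K) ^ i),
        map_sum]
      exact (AddMonoidHom.finsetSum_apply _ _ _).symm
    rw [sum_eq_single 0]
    · rw [hin, if_pos (dvd_zero n), pow_zero, map_neg, map_one]; rfl
    · intro i hi hi0
      rw [hin, if_neg, map_zero]
      · rfl
      · intro hdvd
        have := Nat.le_of_dvd (Nat.pos_of_ne_zero hi0) hdvd
        have := mem_range.1 hi
        omega
    · intro h'; simp [hn0] at h'
  obtain ⟨c, hc⟩ : ∃ c : Kˣ, vc c ∉ S.fld a := by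
    by_contra hc
    push_neg at hc
    exact hv (neg_mem_iff.1 (hsum ▸ sum_mem fun c _ => hc c))
  exact ⟨c, vc c, hc, heig c⟩

omit hmax in
lemma exists_sigma {c : K} {b : W} (hb0 : b ≠ 0) (hcb : S.L b a = op c b) :
    ∃ σ : K →+* K, ∀ k, S.L b (S.io op k) = op (σ k) b := by
  classical
  let ι : K → W := S.io op
  have hι0 : ι 0 = 0 := S.io_zero op
  have hι1 : ι 1 = S.one := S.io_one op
  have hιadd : ∀ k l, ι (k + l) = ι k + ι l := S.io_add op
  have hιneg : ∀ k, ι (-k) = -ι k := S.io_neg op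
  have hιmul : ∀ k l, ι (k * l) = op k (ι l) := S.io_mul op
  have hιmem : ∀ k : K, ι k ∈ S.fld a := S.io_mem op hop
  have hLι : ∀ k : K, S.L (ι k) = op k := S.L_io op hop
  have hopinj : Function.Injective op := S.op_inj h0 op hop
  obtain ⟨θ, hθ⟩ := (hop (S.L a)).1 (Subring.subset_closure rfl)
  have hιθ : ι θ = a := by show S.val (op θ) = a; rw [hθ]; exact S.mulOne a
  have hmul' : ∀ (k l k' l' : K), S.L b (ι k) = op k' b → S.L b (ι l) = op l' b →
      S.L b (ι (k * l)) = op (k' * l') b := by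
    intro k l k' l' hk hl
    rw [hιmul, map_mul]
    show S.L b (op k (ι l)) = op k' (op l' b)
    rw [← hLι k, ← hLι k', ← hl]
    have e1 := (S.A_fld (hιmem k) (hιmem l) b).2.2
    have e2 := (S.A_fld (hιmem k') (hιmem l) b).2.1
    rw [A, sub_eq_zero] at e1 e2
    rw [← e1, hk, ← hLι k', e2]
  have hadd' : ∀ (k l k' l' : K), S.L b (ι k) = op k' b → S.L b (ι l) = op l' b →
      S.L b (ι (k + l)) = op (k' + l') b := by
    intro k l k' l' hk hl
    rw [hιadd, map_add, hk, hl, map_add]; rfl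
  have hone' : S.L b (ι 1) = op 1 b := by rw [hι1, map_one]; exact S.mulOne b
  have hzero' : S.L b (ι 0) = op 0 b := by rw [hι0, map_zero, map_zero]; rfl
  have hσex : ∀ k : K, ∃ k' : K, S.L b (ι k) = op k' b := by
    intro k
    suffices h' : ∀ f ∈ Subring.closure {S.L a}, ∃ l : K, op l = f ∧
        ∃ k' : K, S.L b (ι l) = op k' b by
      obtain ⟨l, hl, hl'⟩ := h' _ ((hop _).2 ⟨k, rfl⟩)
      rwa [hopinj hl] at hl'
    intro f hf
    induction hf using Subring.closure_induction with
    | mem y hy => exact ⟨θ, by rw [hθ, Set.mem_singleton_iff.1 hy], c, by rw [hιθ]; exact hcb⟩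
    | zero => exact ⟨0, map_zero op, 0, hzero'⟩
    | one => exact ⟨1, map_one op, 1, hone'⟩
    | add y z _ _ hy hz =>
      obtain ⟨l, rfl, l', hl⟩ := hy
      obtain ⟨m, rfl, m', hm⟩ := hz
      exact ⟨l + m, map_add op l m, l' + m', hadd' l m l' m' hl hm⟩
    | neg y _ hy =>
      obtain ⟨l, rfl, l', hl⟩ := hy
      exact ⟨-l, map_neg op l, -l', by rw [hιneg, map_neg, hl, map_neg]; rfl⟩
    | mul y z _ _ hy hz =>
      obtain ⟨l, rfl, l', hl⟩ := hy
      obtain ⟨m, rfl, m', hm⟩ := hz
      exact ⟨l * m, map_mul op l m, l' * m', hmul' l m l' m' hl hm⟩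
  choose σ0 hσ0 using hσex
  have huniq : ∀ {k' l' : K}, op k' b = op l' b → k' = l' := by
    intro k' l' e
    by_contra hne
    have h1 : ι (k' - l') ≠ 0 := fun e' => hne (sub_eq_zero.1 (hopinj (by
      rw [← hLι, e', map_zero, map_zero])))
    refine hb0 (S.inj _ h1 b ?_)
    rw [hLι, map_sub]
    exact sub_eq_zero.2 e
  let σ : K →+* K :=
    { toFun := σ0
      map_one' := huniq ((hσ0 1).symm.trans hone')
      map_zero' := huniq ((hσ0 0).symm.trans hzero')
      map_add' := fun k l => huniq ((hσ0 _).symm.trans (hadd' k l _ _ (hσ0 k) (hσ0 l)))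
      map_mul' := fun k l => huniq ((hσ0 _).symm.trans (hmul' k l _ _ (hσ0 k) (hσ0 l))) }
  exact ⟨σ, hσ0⟩

/-- Powers of an element. -/
def pw (b : W) (i : ℕ) : W := S.val (S.L b ^ i)

omit hmax h0 hop in
lemma pw_mem (b : W) (i : ℕ) : S.pw b i ∈ S.fld b :=
  S.val_mem (Subring.pow_mem _ (S.mem_fld.1 (S.self_mem _)) i)

omit hmax h0 hop in
lemma pw_succ (b : W) (i : ℕ) : S.pw b (i + 1) = S.L (S.pw b i) b := by
  show (S.L b ^ (i + 1)) S.one = _
  rw [pw, S.L_val (a := b) (Subring.pow_mem _ (S.mem_fld.1 (S.self_mem _)) i), pow_succ]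
  show (S.L b ^ i) (S.L b S.one) = _
  rw [S.mulOne]

omit hmax in
lemma pw_sigma {b : W} {σ : K →+* K} (hσ : ∀ k, S.L b (S.io op k) = op (σ k) b) (e : RingAut K)
    (he : ∀ x, e x = σ x) : ∀ i (k : K), S.L (S.pw b i) (S.io op k) = op ((e ^ i) k) (S.pw b i) := by
  let ι : K → W := S.io op
  have hι0 : ι 0 = 0 := S.io_zero op
  have hι1 : ι 1 = S.one := S.io_one op
  have hιadd : ∀ k l, ι (k + l) = ι k + ι l := S.io_add op
  have hιneg : ∀ k, ι (-k) = -ι k := S.io_neg op
  have hιmul : ∀ k l, ι (k * l) = op k (ι l) := S.io_mul op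
  have hιmem : ∀ k : K, ι k ∈ S.fld a := S.io_mem op hop
  have hLι : ∀ k : K, S.L (ι k) = op k := S.L_io op hop
  have hopinj : Function.Injective op := S.op_inj h0 op hop
  let p : ℕ → W := S.pw b
  have hpmem : ∀ i, p i ∈ S.fld b := S.pw_mem b
  have hpsucc : ∀ i, p (i + 1) = S.L (p i) b := S.pw_succ b
  have hp0 : p 0 = S.one := rfl
  show ∀ i (k : K), S.L (p i) (ι k) = op ((e ^ i) k) (p i)
  intro i
  induction i with
  | zero => intro k; rw [hp0, S.oneMul]; rfl
  | succ i ih =>
    intro k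
    have e1 := (S.A_fld (hpmem i) (S.self_mem b) (ι k)).1
    have e2 := (S.A_fld (hpmem i) (S.self_mem b) (ι (σ k))).2.1
    have e3 := (S.A_fld (hpmem i) (S.self_mem b) (ι ((e ^ i) (σ k)))).2.2
    rw [A, sub_eq_zero] at e1 e2 e3
    rw [hpsucc, e1, show S.L b (ι k) = op (σ k) b from hσ k, ← hLι (σ k), ← e2, ih, ← hLι ((e ^ i) (σ k)), e3, hLι, pow_succ, ← he]
    rfl

omit hmax in
lemma pw_twist {b : W} {σ : K →+* K} (hσ : ∀ k, S.L b (S.io op k) = op (σ k) b) (e : RingAut K)
    (he : ∀ x, e x = σ x) (x : K) :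
    ∀ i, (S.L (op x b) ^ i) S.one = op (∏ j ∈ range i, (e ^ j) x) (S.pw b i) := by
  let ι : K → W := S.io op
  have hι0 : ι 0 = 0 := S.io_zero op
  have hι1 : ι 1 = S.one := S.io_one op
  have hιadd : ∀ k l, ι (k + l) = ι k + ι l := S.io_add op
  have hιneg : ∀ k, ι (-k) = -ι k := S.io_neg op
  have hιmul : ∀ k l, ι (k * l) = op k (ι l) := S.io_mul op
  have hιmem : ∀ k : K, ι k ∈ S.fld a := S.io_mem op hop
  have hLι : ∀ k : K, S.L (ι k) = op k := S.L_io op hop
  have hopinj : Function.Injective op := S.op_inj h0 op hop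
  let p : ℕ → W := S.pw b
  have hpmem : ∀ i, p i ∈ S.fld b := S.pw_mem b
  have hpsucc : ∀ i, p (i + 1) = S.L (p i) b := S.pw_succ b
  have hp0 : p 0 = S.one := rfl
  have hpσ : ∀ i (k : K), S.L (p i) (ι k) = op ((e ^ i) k) (p i) := S.pw_sigma h0 op hop hσ e he
  let Nm : ℕ → K → K := fun i x => ∏ j ∈ range i, (e ^ j) x
  have hNm_succ : ∀ i x, Nm (i + 1) x = Nm i x * (e ^ i) x := fun i x => Finset.prod_range_succ _ _
  set y := op x b with hy
  show ∀ i, (S.L y ^ i) S.one = op (Nm i x) (p i)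
  intro i
  induction i with
  | zero => simp [Nm, hp0]
  | succ i ih =>
    have hLq : S.L ((S.L y ^ i) S.one) = S.L y ^ i :=
      S.L_val (a := y) (Subring.pow_mem _ (S.mem_fld.1 (S.self_mem _)) i)
    rw [pow_succ]
    show (S.L y ^ i) (S.L y S.one) = _
    rw [S.mulOne, ← hLq, ih, hy]
    set M := ι (Nm i x) with hM
    rw [← hLι (Nm i x), ← hM, ← hLι (x : K)]
    set X := ι (x : K) with hX
    have t1 := S.teich X M (p i) b
    have z1 : S.A M (p i) b = 0 := (S.A_fld (hpmem i) (S.self_mem b) M).2.2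
    have z2 : S.A X M (p i) = 0 := (S.A_fld (hιmem _) (hιmem _) _).1
    have z3 : S.A (S.L X M) (p i) b = 0 := (S.A_fld (hpmem i) (S.self_mem b) _).2.2
    have z4 : S.A X M (S.L (p i) b) = 0 := (S.A_fld (hιmem _) (hιmem _) _).1
    rw [z1, z2, z3, z4] at t1
    simp only [map_zero, AddMonoidHom.zero_apply, zero_sub, add_zero, zero_add] at t1
    have z5 : S.A (S.L M (p i)) X b = 0 := by
      rw [S.A_swap_left]
      have : S.A X (S.L M (p i)) b = 0 := by
        rw [← neg_eq_zero, ← t1]; rfl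
      rw [this, neg_zero]
    rw [A, sub_eq_zero] at z5
    rw [← z5]
    have z6 : S.L (S.L M (p i)) X = S.L M (S.L (p i) X) := by
      have := (S.A_fld (hιmem (Nm i x)) (hιmem (x : K)) (p i)).2.1
      rwa [A, sub_eq_zero] at this
    rw [z6, hX, hpσ, hM, hLι,
      ← show (op (Nm i x * (e ^ i) x)) (p i) = op (Nm i x) (op ((e ^ i) x) (p i)) by
        rw [map_mul]; rfl, ← hNm_succ]
    have z7 := (S.A_fld (hpmem i) (S.self_mem b) (ι (Nm (i + 1) x))).2.2
    rw [A, sub_eq_zero, hLι] at z7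
    rw [z7, ← hpsucc]
omit hmax in
lemma pw_indep {b : W} {σ : K →+* K} (hb0 : b ≠ 0) (hσ : ∀ k, S.L b (S.io op k) = op (σ k) b)
    (e : RingAut K) (he : ∀ x, e x = σ x) :
    ∀ s : Finset ℕ, (∀ i ∈ s, i < orderOf e) → ∀ m : ℕ → K,
      ∑ i ∈ s, op (m i) (S.pw b i) = 0 → ∀ i ∈ s, m i = 0 := by
  classical
  let ι : K → W := S.io op
  have hι0 : ι 0 = 0 := S.io_zero op
  have hι1 : ι 1 = S.one := S.io_one op
  have hιadd : ∀ k l, ι (k + l) = ι k + ι l := S.io_add op
  have hιneg : ∀ k, ι (-k) = -ι k := S.io_neg op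
  have hιmul : ∀ k l, ι (k * l) = op k (ι l) := S.io_mul op
  have hιmem : ∀ k : K, ι k ∈ S.fld a := S.io_mem op hop
  have hLι : ∀ k : K, S.L (ι k) = op k := S.L_io op hop
  have hopinj : Function.Injective op := S.op_inj h0 op hop
  let p : ℕ → W := S.pw b
  have hpsucc : ∀ i, p (i + 1) = S.L (p i) b := S.pw_succ b
  have hpσ : ∀ i (k : K), S.L (p i) (ι k) = op ((e ^ i) k) (p i) := S.pw_sigma h0 op hop hσ e he
  have hp_ne : ∀ i, p i ≠ 0 := by
    intro i
    induction i with
    | zero => exact h0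
    | succ i ih => rw [hpsucc]; exact fun e' => hb0 (S.inj _ ih _ e')
  intro s
  induction s using Finset.induction with
  | empty => intro _ _ _ i hi; simp at hi
  | insert j s hj ih =>
    intro hlt m hm
    have hs : ∀ i ∈ s, m i = 0 := by
      intro i hi
      obtain ⟨k, hk⟩ : ∃ k : K, (e ^ i) k ≠ (e ^ j) k := by
        by_contra hcon
        push_neg at hcon
        have := pow_injOn_Iio_orderOf (hlt i (mem_insert_of_mem hi)) (hlt j (mem_insert_self _ _))
          (RingEquiv.ext hcon)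
        exact hj (this ▸ hi)
      have h1 : ∑ l ∈ insert j s, (op (m l * ((e ^ l) k - (e ^ j) k) : K)) (p l)
          = 0 := by
        have h2 : ∀ l, (op (m l * ((e ^ l) k - (e ^ j) k) : K)) (p l)
            = S.L ((op (m l)) (p l)) (ι k)
              - op ((e ^ j) k) (op (m l) (p l)) := by
          intro l
          have z := (S.A_fld (hιmem (m l)) (hιmem k) (p l)).2.1
          rw [A, sub_eq_zero] at z
          rw [← hLι (m l), z, hpσ, hLι, mul_sub, map_sub, mul_comm (m l) ((e ^ j) k), map_mul,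
            map_mul]
          rfl
        rw [sum_congr rfl fun l _ => h2 l, sum_sub_distrib, ← map_sum]
        have h3 : ∑ l ∈ insert j s, S.L ((op (m l)) (p l)) (ι k)
            = S.L (∑ l ∈ insert j s, (op (m l)) (p l)) (ι k) := by
          rw [map_sum]; exact (AddMonoidHom.finsetSum_apply _ _ _).symm
        rw [h3, hm, map_zero, map_zero]
        simp
      rw [sum_insert hj, sub_self, mul_zero] at h1
      have h4 : ∑ l ∈ s, (op (m l * ((e ^ l) k - (e ^ j) k) : K)) (p l) = 0 := by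
        rwa [show (op (0 : K)) (p j) = 0 by rw [map_zero]; rfl, zero_add] at h1
      exact (mul_eq_zero.1 (ih (fun l hl => hlt l (mem_insert_of_mem hl)) _ h4 i hi)).resolve_right
        (sub_ne_zero.2 hk)
    intro i hi
    rcases mem_insert.1 hi with rfl | hi
    · rw [sum_insert hj, sum_eq_zero (fun l hl => by rw [hs l hl, map_zero]; rfl), add_zero] at hm
      by_contra hne
      refine hp_ne i (S.inj _ ?_ _ (by rw [hLι]; exact hm))
      intro e'
      exact hne (hopinj (by rw [← hLι, e', map_zero, map_zero]))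
    · exact hs i hi

lemma fld_eq_top_aux [Fintype K] (ha : a ≠ 0) : S.fld a = ⊤ := by
  classical
  by_contra htop
  obtain ⟨v, hv⟩ : ∃ v, v ∉ S.fld a := by
    by_contra hc; push_neg at hc; exact htop ((AddSubgroup.eq_top_iff' _).2 hc)
  obtain ⟨c, b, hc, hcb⟩ := S.exists_eigen h0 op hop ha hv
  have hb0 : b ≠ 0 := fun e => hc (e ▸ zero_mem _)
  obtain ⟨σ, hσ⟩ := S.exists_sigma h0 op hop hb0 hcb
  obtain ⟨e, he⟩ : ∃ e : RingAut K, ∀ x, e x = σ x :=
    ⟨RingEquiv.ofBijective σ (Finite.injective_iff_bijective.1 σ.injective), fun _ => rfl⟩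
  have : Finite (RingAut K) :=
    Finite.of_injective (fun f : RingAut K => (f : K → K)) DFunLike.coe_injective
  obtain ⟨N, hN⟩ : ∃ N, orderOf e = N := ⟨_, rfl⟩
  have hN0 : 0 < N := hN ▸ orderOf_pos e
  have hpσ := S.pw_sigma h0 op hop hσ e he
  have hindep := S.pw_indep h0 op hop hb0 hσ e he
  obtain ⟨cK, hcK⟩ := S.io_surj op hop (x := S.pw b N) (S.mem_of_comm hmax h0 fun x hx => by
    obtain ⟨k, rfl⟩ := S.io_surj op hop hx
    rw [hpσ N k, S.L_io op hop, ← hN, pow_orderOf_eq_one]; rfl)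
  have hcK0 : cK ≠ 0 := by
    intro e'
    have hp_ne : ∀ i, S.pw b i ≠ 0 := by
      intro i
      induction i with
      | zero => exact h0
      | succ i ih => rw [S.pw_succ]; exact fun e'' => hb0 (S.inj _ ih _ e'')
    exact hp_ne N (by rw [← hcK, e', S.io_zero])
  have hσc : σ cK = cK := by
    have h1 : op (σ cK) b = op cK b := by
      rw [← hσ, ← S.L_io op hop cK, hcK, S.fld_comm (S.self_mem b) (S.pw_mem b N)]
    by_contra hne
    refine hb0 (S.inj _ ?_ b (show S.L (S.io op (σ cK - cK)) b = 0 by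
      rw [S.L_io op hop, map_sub]; exact sub_eq_zero.2 h1))
    intro e'
    exact hne (sub_eq_zero.1 (S.op_inj h0 op hop (by
      rw [← S.L_io op hop, e', map_zero, map_zero])))
  obtain ⟨x, hxc⟩ := norm_surjective σ e he N hN0 hN hcK0 hσc
  have hyval := S.pw_twist h0 op hop hσ e he (x : K)
  set y := op (x : K) b with hy
  have hyN : S.L y ^ N = 1 := by
    rw [← S.L_val (a := y) (Subring.pow_mem _ (S.mem_fld.1 (S.self_mem _)) N)]
    show S.L ((S.L y ^ N) S.one) = 1
    rw [hyval, ← hcK,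
      show op (∏ j ∈ range N, (e ^ j) (x : K)) (S.io op cK)
        = op ((∏ j ∈ range N, (e ^ j) (x : K)) * cK) S.one by rw [map_mul]; rfl]
    rw [hxc, map_one]
    show S.L S.one = 1
    exact S.L_one
  have hy1 : S.L y ≠ 1 := by
    intro e'
    rw [← S.L_one] at e'
    have hyone : y = S.one := S.L_inj e'
    apply hc
    have : op ((x⁻¹ : Kˣ) : K) y = b := by
      rw [hy]
      show (op ((x⁻¹ : Kˣ) : K) * op (x : K)) b = b
      rw [← map_mul, Units.inv_mul, map_one]; rfl
    rw [← this, hyone]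
    exact S.val_mem ((hop _).2 ⟨_, rfl⟩)
  -- geometric sum
  have hsum0 : ∑ i ∈ range N, op (∏ j ∈ range i, (e ^ j) (x : K)) (S.pw b i) = 0 := by
    have hgeo : (∑ i ∈ range N, S.L y ^ i) * (S.L y - 1) = 0 := by
      rw [geom_sum_mul, hyN, sub_self]
    obtain ⟨u, hu⟩ := S.closure_le y (show (∑ i ∈ range N, S.L y ^ i) ∈ Subring.closure {S.L y}
      from sum_mem fun i _ => Subring.pow_mem _ (S.mem_fld.1 (S.self_mem _)) i)
    by_cases hu0 : u = 0
    · rw [hu0, map_zero] at hu
      have := DFunLike.congr_fun hu.symm S.one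
      rw [show (∑ i ∈ range N, S.L y ^ i) S.one = ∑ i ∈ range N, (S.L y ^ i) S.one from
        AddMonoidHom.finsetSum_apply _ _ _, sum_congr rfl fun i _ => hyval i] at this
      exact this
    · refine absurd (AddMonoidHom.ext fun w => ?_) hy1
      refine sub_eq_zero.1 (S.inj u hu0 _ ?_)
      have := DFunLike.congr_fun hgeo w
      rw [← hu] at this
      exact this
  have := hindep (range N) (fun i hi => hN ▸ mem_range.1 hi) _ hsum0 0 (mem_range.2 hN0)
  simp at this

end Emb

/-- A maximal subfield is everything. -/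
lemma fld_eq_top (ha : a ≠ 0) : S.fld a = ⊤ := by
  let _ : Field (S.fldType a) := S.fldField a h0
  have : Finite (AddMonoid.End W) :=
    Finite.of_injective (fun f => (f : W → W)) DFunLike.coe_injective
  have := Fintype.ofFinite (S.fldType a)
  exact S.fld_eq_top_aux hmax h0
    ({ toFun := fun k => k.1, map_one' := rfl, map_mul' := fun _ _ => rfl, map_zero' := rfl,
       map_add' := fun _ _ => rfl } : S.fldType a →+* AddMonoid.End W)
    (fun f => ⟨fun hf => ⟨⟨f, hf⟩, rfl⟩, fun ⟨k, hk⟩ => hk ▸ k.2⟩) ha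

end Main

/-- A finite semifield with both inverse properties is a field. -/
theorem commutative : (∀ u w, S.L u w = S.L w u) ∧ ∀ u w, S.L (S.L u w) = S.L u * S.L w := by
  by_cases h0 : S.one = 0
  · have hz : ∀ x : W, x = 0 := fun x => by rw [← S.oneMul x, h0]; simp
    refine ⟨fun u w => (hz _).trans (hz _).symm, fun u w => AddMonoidHom.ext fun x => ?_⟩
    exact (hz _).trans (hz _).symm
  obtain ⟨a, ha, hmax⟩ := S.exists_generator h0
  have h := S.fld_eq_top hmax h0 ha
  have hall : ∀ u, u ∈ S.fld a := fun u => h ▸ AddSubgroup.mem_top u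
  exact ⟨fun u w => S.fld_comm (hall u) (hall w), fun u w => (S.L_mul_of_mem (hall u) (hall w)).1⟩

end SF

end Cfsg.Agent.Axial80
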