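import Mathlib
import Cfsg.Agent.Lib.Axial80Lines
import Cfsg.Agent.Lib.Axial80SemifieldMain

/-!
# The kernel of the translation partition is a field of full order
-/

set_option autoImplicit false
set_option maxHeartbeats 1000000

namespace Cfsg.Agent.Axial80

open Finset MulAction

variable {G X Y : Type*} [Group G] [Fintype X] [Fintype Y] [DecidableEq X] [DecidableEq Y]
  [MulAction G X] [MulAction G Y]

namespace Geo

variable (Γ : Geo G X Y) [Finite G] (Q : Γ.Q)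

include Γ

/-- Conjugation of the translations by an automorphism fixing the axis. -/
def conjT {B : Y} (g : G) (hg : g • B = B) (a : Γ.Trl B) : Γ.Trl B :=
  Additive.ofMul ⟨g * Γ.el a * g⁻¹, by
    have := Γ.E_conj (Γ.el_mem a) g
    rwa [hg] at this⟩

lemma el_conjT {B : Y} (g : G) (hg : g • B = B) (a : Γ.Trl B) :
    Γ.el (Γ.conjT g hg a) = g * Γ.el a * g⁻¹ := rfl

lemma conjT_add {B : Y} (g : G) (hg : g • B = B) (a b : Γ.Trl B) :
    Γ.conjT g hg (a + b) = Γ.conjT g hg a + Γ.conjT g hg b :=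
  Γ.el_inj (by
    simp only [el_conjT, el_add]
    group)

lemma conjT_mem {B : Y} {g : G} (hg : g • B = B) {z : X} {a : Γ.Trl B}
    (h : a ∈ Γ.dirGrp B z) : Γ.conjT g hg a ∈ Γ.dirGrp B (g • z) := by
  have := Γ.Ctr_conj (show Γ.el a ∈ Γ.Ctr z B from h) g
  rwa [hg] at this

lemma pt_conjT {B : Y} {g : G} (hg : g • B = B) {O : X} (hgO : g • O = O) (a : Γ.Trl B) :
    Γ.pt O (Γ.conjT g hg a) = g • Γ.pt O a := by
  show (g * Γ.el a * g⁻¹) • O = g • Γ.el a • O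
  rw [mul_smul, mul_smul, inv_smul_eq_iff.2 hgO.symm]

include Q in
/-- An elation with a given centre and axis carrying one point of a line to another. -/
lemma exists_elation {z : X} {D : Y} (hz : Γ.I z D) {w w' : X} (hw : ¬ Γ.I w D)
    (hw' : ¬ Γ.I w' D) (hline : w' ∈ Γ.line z w) : ∃ g ∈ Γ.Ctr z D, g • w = w' := by
  classical
  have := Fintype.ofFinite G
  have hne : z ≠ w := fun e => hw (e ▸ hz)
  set S := (univ : Finset G).filter fun g => g ∈ Γ.Ctr z D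
  have hsub : S.image (fun g => g • w) ⊆ (Γ.line z w).erase z := by
    intro u hu
    obtain ⟨g, hg, rfl⟩ := mem_image.1 hu
    simp only [S, mem_filter, mem_univ, true_and] at hg
    refine mem_erase.2 ⟨fun e => hne ?_, Γ.smul_mem_line hg.2 w⟩
    refine smul_left_cancel g ?_
    rw [Γ.El_fix hg.1 hz]; exact e.symm
  have hcard : (S.image (fun g => g • w)).card = Q.q := by
    rw [card_image_of_injOn, ← Q.ctr_card hz, Nat.card_eq_fintype_card, Fintype.card_subtype]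
    intro g hg h hh e
    simp only [S, coe_filter, mem_univ, true_and, Set.mem_setOf_eq] at hg hh
    by_contra hgh
    refine Γ.El_free (mul_mem (inv_mem hh.1) hg.1)
      (fun e' => hgh (inv_mul_eq_one.1 e').symm) hw ?_
    show (h⁻¹ * g) • w = w
    rw [mul_smul, show g • w = h • w from e, inv_smul_smul]
  have heq := eq_of_subset_of_card_le hsub (by
    rw [hcard, card_erase_of_mem (Γ.left_mem _ _), Γ.card_line Q hne]; omega)
  have : w' ∈ (Γ.line z w).erase z := mem_erase.2 ⟨fun e => hw' (e ▸ hz), hline⟩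
  rw [← heq] at this
  obtain ⟨g, hg, e⟩ := mem_image.1 this
  simp only [S, mem_filter, mem_univ, true_and] at hg
  exact ⟨g, hg, e⟩

include Q in
lemma line_eq_pts (hk1 : Γ.k = Q.q + 1) {z z' : X} {D : Y} (hz : Γ.I z D) (hz' : Γ.I z' D)
    (hne : z ≠ z') : Γ.line z z' = Γ.pts D :=
  eq_of_subset_of_card_le (Γ.line_subset hz hz') (by rw [Γ.cardPts, Γ.card_line Q hne, hk1])

include Q in
lemma exists_block_line (hk1 : Γ.k = Q.q + 1) (hlam : Γ.lam = 1) {u u' : X} (hne : u ≠ u') :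
    ∃ D, Γ.I u D ∧ Γ.I u' D ∧ Γ.line u u' = Γ.pts D := by
  obtain ⟨D, hD⟩ : (Γ.blks u ∩ Γ.blks u').Nonempty :=
    card_pos.1 (by rw [Γ.meetBlks _ _ hne]; omega)
  obtain ⟨h1, h2⟩ := mem_inter.1 hD
  rw [mem_blksOf] at h1 h2
  exact ⟨D, h1, h2, Γ.line_eq_pts Q hk1 h1 h2 hne⟩

end Geo

/-- A coordinate frame of a plane: two directions, a unit direction, and the slopes. -/
structure Frame {G X Y : Type*} [Group G] [Fintype X] [Fintype Y] [DecidableEq X] [DecidableEq Y]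
    [MulAction G X] [MulAction G Y] [Finite G] (Γ : Geo G X Y) (Q : Γ.Q) (B : Y) (O : X) where
  hO : ¬ Γ.I O B
  hk1 : Γ.k = Q.q + 1
  hlam : Γ.lam = 1
  zi : X
  z0 : X
  z1 : X
  hiB : Γ.I zi B
  h0B : Γ.I z0 B
  h1B : Γ.I z1 B
  hi0 : zi ≠ z0
  h1i : z1 ≠ zi
  h10 : z1 ≠ z0
  Di : Y
  D0 : Y
  hiDi : Γ.I zi Di
  hODi : Γ.I O Di
  hLDi : Γ.line zi O = Γ.pts Di
  h0D0 : Γ.I z0 D0
  hOD0 : Γ.I O D0
  hLD0 : Γ.line z0 O = Γ.pts D0
  M : X → Γ.Trl B → Γ.Trl B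
  hMi : ∀ z, Γ.I z B → z ≠ zi → ∀ t, M z t ∈ Γ.dirGrp B zi
  hMz : ∀ z, Γ.I z B → z ≠ zi → ∀ t, t + M z t ∈ Γ.dirGrp B z
  e1 : Γ.dirGrp B z0
  he1 : e1 ≠ 0

namespace Frame

variable [Finite G] {Γ : Geo G X Y} {Q : Γ.Q} {B : Y} {O : X} (F : Frame Γ Q B O)

include F

lemma M_eq {z : X} (hz : Γ.I z B) (hne : z ≠ F.zi) {t y : Γ.Trl B} (hy : y ∈ Γ.dirGrp B F.zi)
    (h : t + y ∈ Γ.dirGrp B z) : F.M z t = y := by
  have := sub_mem (F.hMz z hz hne t) h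
  rw [add_sub_add_left_eq_sub] at this
  exact sub_eq_zero.1 (Γ.dirGrp_disj hne this (sub_mem (F.hMi z hz hne t) hy))

lemma M_add {z : X} (hz : Γ.I z B) (hne : z ≠ F.zi) (t t' : Γ.Trl B) :
    F.M z (t + t') = F.M z t + F.M z t' := by
  refine F.M_eq hz hne (add_mem (F.hMi z hz hne t) (F.hMi z hz hne t')) ?_
  rw [add_add_add_comm]
  exact add_mem (F.hMz z hz hne t) (F.hMz z hz hne t')

lemma M_zero {t : Γ.Trl B} (ht : t ∈ Γ.dirGrp B F.z0) : F.M F.z0 t = 0 :=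
  F.M_eq F.h0B F.hi0.symm (zero_mem _) (by rwa [add_zero])

lemma M_inj {z : X} (hz : Γ.I z B) (hne : z ≠ F.zi) (hne0 : z ≠ F.z0) {t : Γ.Trl B}
    (ht : t ∈ Γ.dirGrp B F.z0) (e : F.M z t = 0) : t = 0 := by
  have := F.hMz z hz hne t
  rw [e, add_zero] at this
  exact Γ.dirGrp_disj hne0 this ht

lemma ptK {z : X} (hz : Γ.I z B) (t : Γ.Trl B) :
    t ∈ Γ.dirGrp B z ↔ Γ.pt O t ∈ Γ.line z O := by
  have h := Γ.line_pt Q F.hO hz (0 : Γ.Trl B) (u := Γ.pt O t)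
  rw [Γ.pt_zero] at h
  rw [h]
  constructor
  · intro ht
    exact Or.inr ⟨t, by rwa [sub_zero], rfl⟩
  · rintro (e | ⟨b, hb, e⟩)
    · exact absurd hz (by rw [← e]; exact Γ.pt_out F.hO t)
    · rw [sub_zero] at hb
      exact Γ.pt_inj F.hO e ▸ hb

lemma lineB {z z' : X} (hz : Γ.I z B) (hz' : Γ.I z' B) (hne : z ≠ z') :
    Γ.line z z' = Γ.pts B :=
  Γ.line_eq_pts Q F.hk1 hz hz' hne

lemma notD {w : X} {D : Y} (hw : Γ.I w B) (hwD : Γ.I w D) (hOD : Γ.I O D) {z : X}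
    (hz : Γ.I z B) (hne : z ≠ w) : ¬ Γ.I z D := by
  intro h
  have h1 := (F.lineB hw hz hne.symm).symm.trans (Γ.line_eq_pts Q F.hk1 hwD h hne.symm)
  exact F.hO (mem_ptsOf.1 (show O ∈ Γ.pts B by rw [h1]; exact mem_ptsOf.2 hOD))

lemma notDi {z : X} (hz : Γ.I z B) (hne : z ≠ F.zi) : ¬ Γ.I z F.Di :=
  F.notD F.hiB F.hiDi F.hODi hz hne

lemma notD0 {z : X} (hz : Γ.I z B) (hne : z ≠ F.z0) : ¬ Γ.I z F.D0 :=
  F.notD F.h0B F.h0D0 F.hOD0 hz hne

lemma fixDi {g : G} (hg : g ∈ Γ.El F.Di) {y : Γ.Trl B} (hy : y ∈ Γ.dirGrp B F.zi) :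
    g • Γ.pt O y = Γ.pt O y :=
  Γ.El_fix hg (mem_ptsOf.1 (show _ ∈ Γ.pts F.Di by rw [← F.hLDi]; exact (F.ptK F.hiB y).1 hy))

lemma fixD0 {g : G} (hg : g ∈ Γ.El F.D0) {y : Γ.Trl B} (hy : y ∈ Γ.dirGrp B F.z0) :
    g • Γ.pt O y = Γ.pt O y :=
  Γ.El_fix hg (mem_ptsOf.1 (show _ ∈ Γ.pts F.D0 by rw [← F.hLD0]; exact (F.ptK F.h0B y).1 hy))

lemma smul_mem_B {g : G} (hgB : g • B = B) {z : X} (hz : Γ.I z B) : Γ.I (g • z) B := by
  have := (Γ.inv g z B).2 hz; rwa [hgB] at this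

/-- An elation with axis through `O` shifts a point along its centre. -/
lemma conjT_sub_mem {w : X} {D : Y} {g : G} (hwB : Γ.I w B) (hg : g ∈ Γ.Ctr w D)
    (hgB : g • B = B) (hgO : g • O = O) (t : Γ.Trl B) :
    Γ.conjT g hgB t - t ∈ Γ.dirGrp B w := by
  have h2 := Γ.smul_mem_line hg.2 (Γ.pt O t)
  rw [← Γ.pt_conjT hgB hgO, Γ.line_pt Q F.hO hwB] at h2
  rcases h2 with e | ⟨b, hb, e⟩
  · exact absurd hwB (by rw [← e]; exact Γ.pt_out F.hO _)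
  · exact Γ.pt_inj F.hO e ▸ hb

lemma slope_add {n m : X} (hn : Γ.I n B) (hni : n ≠ F.zi) (hm : Γ.I m B) (hmi : m ≠ F.zi) :
    ∃ m', Γ.I m' B ∧ m' ≠ F.zi ∧ ∀ t ∈ Γ.dirGrp B F.z0, F.M m' t = F.M n t + F.M m t := by
  obtain ⟨g, hg, hgn⟩ := Γ.exists_elation Q F.hiDi (F.notDi F.h0B F.hi0.symm) (F.notDi hn hni)
    (by rw [F.lineB F.hiB F.h0B F.hi0]; exact mem_ptsOf.2 hn)
  have hgB : g • B = B := hg.2 B F.hiB
  have hgO : g • O = O := Γ.El_fix hg.1 F.hODi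
  have hgi : g • F.zi = F.zi := Γ.El_fix hg.1 F.hiDi
  have hgW : ∀ y ∈ Γ.dirGrp B F.zi, Γ.conjT g hgB y = y := fun y hy => Γ.pt_inj F.hO (by
    rw [Γ.pt_conjT hgB hgO, F.fixDi hg.1 hy])
  have hgX : ∀ t ∈ Γ.dirGrp B F.z0, Γ.conjT g hgB t = t + F.M n t := by
    intro t ht
    have h3 := Γ.conjT_mem hgB ht
    rw [hgn] at h3
    have := F.M_eq hn hni (F.conjT_sub_mem F.hiB hg hgB hgO t) (by rwa [add_sub_cancel])
    rw [this, add_sub_cancel]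
  refine ⟨g • m, F.smul_mem_B hgB hm, fun e => hmi (smul_left_cancel g (e.trans hgi.symm)),
    fun t ht => ?_⟩
  have h1 := Γ.conjT_mem hgB (F.hMz m hm hmi t)
  rw [Γ.conjT_add, hgX t ht, hgW _ (F.hMi m hm hmi t), add_assoc] at h1
  exact F.M_eq (F.smul_mem_B hgB hm) (fun e => hmi (smul_left_cancel g (e.trans hgi.symm)))
    (add_mem (F.hMi n hn hni t) (F.hMi m hm hmi t)) h1

/-- The unit slope. -/
noncomputable def psi : Γ.dirGrp B F.z0 →+ Γ.dirGrp B F.zi :=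
  AddMonoidHom.mk' (fun t => ⟨F.M F.z1 t, F.hMi F.z1 F.h1B F.h1i t⟩)
    (fun t t' => Subtype.ext (F.M_add F.h1B F.h1i t t'))

lemma psi_bij : Function.Bijective F.psi :=
  (Nat.bijective_iff_injective_and_card F.psi).2
    ⟨(injective_iff_map_eq_zero F.psi).2 fun t e =>
        Subtype.ext (F.M_inj F.h1B F.h1i F.h10 t.2 (congrArg Subtype.val e)),
      (Γ.card_dirGrp Q F.h0B).trans (Γ.card_dirGrp Q F.hiB).symm⟩

/-- The identification of the two axes by the unit slope. -/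
noncomputable def Psi : Γ.dirGrp B F.z0 ≃+ Γ.dirGrp B F.zi :=
  AddEquiv.ofBijective F.psi F.psi_bij

lemma Psi_val (t : Γ.dirGrp B F.z0) : ((F.Psi t : Γ.dirGrp B F.zi) : Γ.Trl B) = F.M F.z1 t := rfl

/-- The label of a direction. -/
def lab (z : {z // Γ.I z B ∧ z ≠ F.zi}) : Γ.dirGrp B F.zi :=
  ⟨F.M z.1 F.e1, F.hMi z.1 z.2.1 z.2.2 F.e1⟩

lemma lab_bij : Function.Bijective F.lab := by
  classical
  refine (Nat.bijective_iff_injective_and_card F.lab).2 ⟨fun z z' e => ?_, ?_⟩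
  · by_contra hne
    have e' : F.M z.1 F.e1 = F.M z'.1 F.e1 := congrArg Subtype.val e
    have h1 := F.hMz z.1 z.2.1 z.2.2 F.e1
    have h2 := F.hMz z'.1 z'.2.1 z'.2.2 F.e1
    rw [← e'] at h2
    have h3 := Γ.dirGrp_disj (fun e'' => hne (Subtype.ext e'')) h1 h2
    have h4 : (F.e1 : Γ.Trl B) ∈ Γ.dirGrp B F.zi := by
      rw [eq_neg_of_add_eq_zero_left h3]; exact neg_mem (F.hMi z.1 z.2.1 z.2.2 F.e1)
    exact F.he1 (Subtype.ext (Γ.dirGrp_disj F.hi0 h4 F.e1.2))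
  · rw [Γ.card_dirGrp Q F.hiB, Nat.card_eq_fintype_card, Fintype.card_subtype]
    rw [show (univ.filter fun z => Γ.I z B ∧ z ≠ F.zi) = (Γ.pts B).erase F.zi by
      ext z; simp [mem_ptsOf, and_comm], card_erase_of_mem (mem_ptsOf.2 F.hiB), Γ.cardPts, F.hk1]
    omega

/-- The direction with a given label. -/
noncomputable def zz (w : Γ.dirGrp B F.zi) : X := ((Equiv.ofBijective F.lab F.lab_bij).symm w).1

lemma zzB (w : Γ.dirGrp B F.zi) : Γ.I (F.zz w) B :=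
  ((Equiv.ofBijective F.lab F.lab_bij).symm w).2.1

lemma zzi (w : Γ.dirGrp B F.zi) : F.zz w ≠ F.zi :=
  ((Equiv.ofBijective F.lab F.lab_bij).symm w).2.2

lemma zze (w : Γ.dirGrp B F.zi) : F.M (F.zz w) F.e1 = (w : Γ.Trl B) :=
  congrArg Subtype.val ((Equiv.ofBijective F.lab F.lab_bij).apply_symm_apply w)

lemma zz_eq {z : X} (hz : Γ.I z B) (hne : z ≠ F.zi) {w : Γ.dirGrp B F.zi}
    (e : F.M z F.e1 = (w : Γ.Trl B)) : F.zz w = z := by
  have : F.lab ⟨z, hz, hne⟩ = w := Subtype.ext e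
  rw [← this]
  exact congrArg Subtype.val
    ((Equiv.ofBijective F.lab F.lab_bij).symm_apply_apply (⟨z, hz, hne⟩ : {z // _}))

lemma zz_surj {z : X} (hz : Γ.I z B) (hne : z ≠ F.zi) : ∃ w, F.zz w = z :=
  ⟨⟨F.M z F.e1, F.hMi z hz hne F.e1⟩, F.zz_eq hz hne rfl⟩

lemma zz_add (w w' : Γ.dirGrp B F.zi) {t : Γ.Trl B} (ht : t ∈ Γ.dirGrp B F.z0) :
    F.M (F.zz (w + w')) t = F.M (F.zz w) t + F.M (F.zz w') t := by
  obtain ⟨m', hm', hm'i, hadd⟩ := F.slope_add (F.zzB w) (F.zzi w) (F.zzB w') (F.zzi w')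
  rw [F.zz_eq hm' hm'i (w := w + w') (by rw [hadd F.e1 F.e1.2, F.zze, F.zze]; rfl)]
  exact hadd t ht

/-- Multiplication by a label. -/
noncomputable def L : Γ.dirGrp B F.zi →+ AddMonoid.End (Γ.dirGrp B F.zi) :=
  AddMonoidHom.mk'
    (fun w => AddMonoidHom.mk'
      (fun v => (⟨F.M (F.zz w) (F.Psi.symm v : Γ.Trl B), F.hMi _ (F.zzB w) (F.zzi w) _⟩ :
        Γ.dirGrp B F.zi))
      (fun v v' => Subtype.ext (by
        rw [map_add]; exact F.M_add (F.zzB w) (F.zzi w) _ _)))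
    (fun w w' => AddMonoidHom.ext fun v => Subtype.ext (F.zz_add w w' (F.Psi.symm v).2))

lemma L_val (w v : Γ.dirGrp B F.zi) :
    ((F.L w v : Γ.dirGrp B F.zi) : Γ.Trl B) = F.M (F.zz w) (F.Psi.symm v : Γ.Trl B) := rfl

lemma L_one : F.L (F.Psi F.e1) = 1 := by
  refine AddMonoidHom.ext fun v => Subtype.ext ?_
  show ((F.L (F.Psi F.e1) v : Γ.dirGrp B F.zi) : Γ.Trl B) = v
  rw [L_val, F.zz_eq F.h1B F.h1i (w := F.Psi F.e1) rfl, ← F.Psi_val, AddEquiv.apply_symm_apply]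

lemma L_mulOne (w : Γ.dirGrp B F.zi) : F.L w (F.Psi F.e1) = w := Subtype.ext (by
  rw [L_val, AddEquiv.symm_apply_apply, zze])

lemma L_inj (w : Γ.dirGrp B F.zi) (hw : w ≠ 0) (v : Γ.dirGrp B F.zi) (e : F.L w v = 0) :
    v = 0 := by
  have e' : F.M (F.zz w) (F.Psi.symm v : Γ.Trl B) = 0 := congrArg Subtype.val e
  have := F.M_inj (F.zzB w) (F.zzi w) (fun h => hw ?_) (F.Psi.symm v).2 e'
  · rw [← F.Psi.apply_symm_apply v, show F.Psi.symm v = 0 from Subtype.ext this, map_zero]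
  · refine Subtype.ext ?_
    rw [← F.zze, h, F.M_zero F.e1.2]; rfl

lemma L_linv (c : Γ.dirGrp B F.zi) (hc : c ≠ 0) : ∃ c', F.L c' * F.L c = 1 := by
  obtain ⟨g, hg, hg1⟩ := Γ.exists_elation Q F.h0D0 (F.notD0 F.hiB F.hi0) (F.notD0 F.h1B F.h10)
    (by rw [F.lineB F.h0B F.hiB F.hi0.symm]; exact mem_ptsOf.2 F.h1B)
  have hgB : g • B = B := hg.2 B F.h0B
  have hgO : g • O = O := Γ.El_fix hg.1 F.hOD0
  have hgX : ∀ t ∈ Γ.dirGrp B F.z0, Γ.conjT g hgB t = t := fun t ht => Γ.pt_inj F.hO (by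
    rw [Γ.pt_conjT hgB hgO, F.fixD0 hg.1 ht])
  have hgW : ∀ v : Γ.dirGrp B F.zi, Γ.conjT g hgB v = (F.Psi.symm v : Γ.Trl B) + v := by
    intro v
    have h1 := F.conjT_sub_mem F.h0B hg hgB hgO (v : Γ.Trl B)
    have h3 := Γ.conjT_mem hgB v.2
    rw [hg1] at h3
    have h4 : F.M F.z1 (Γ.conjT g hgB v - v) = v := F.M_eq F.h1B F.h1i v.2 (by rwa [sub_add_cancel])
    have h5 : F.Psi.symm v = ⟨_, h1⟩ := F.Psi.symm_apply_eq.2 (Subtype.ext h4).symm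
    rw [h5]
    exact (sub_add_cancel _ _).symm
  by_cases hm : c - F.Psi F.e1 = 0
  · exact ⟨F.Psi F.e1, by rw [sub_eq_zero.1 hm, L_one, one_mul]⟩
  obtain ⟨m, rfl⟩ : ∃ m, c = F.Psi F.e1 + m := ⟨c - F.Psi F.e1, (add_sub_cancel _ _).symm⟩
  have himg : ∀ t : Γ.dirGrp B F.z0, Γ.conjT g hgB ((t : Γ.Trl B) + F.M (F.zz m) t)
      = ((t : Γ.Trl B) + (F.Psi.symm (F.L m (F.Psi t)) : Γ.Trl B)) + F.M (F.zz m) t := by
    intro t
    have := hgW (F.L m (F.Psi t))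
    rw [L_val, AddEquiv.symm_apply_apply] at this
    rw [Γ.conjT_add, hgX t t.2, this, add_assoc]
  have hmem : ∀ t : Γ.dirGrp B F.z0,
      Γ.conjT g hgB ((t : Γ.Trl B) + F.M (F.zz m) t) ∈ Γ.dirGrp B (g • F.zz m) := fun t =>
    Γ.conjT_mem hgB (F.hMz _ (F.zzB m) (F.zzi m) t)
  have hgmB : Γ.I (g • F.zz m) B := F.smul_mem_B hgB (F.zzB m)
  have hgmi : g • F.zz m ≠ F.zi := by
    intro e
    apply hc
    have h1 := hmem F.e1
    rw [himg, e] at h1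
    have h2 := sub_mem h1 (F.hMi _ (F.zzB m) (F.zzi m) F.e1)
    rw [add_sub_cancel_right] at h2
    have h3 : (F.e1 : Γ.Trl B) + (F.Psi.symm (F.L m (F.Psi F.e1)) : Γ.Trl B) = 0 :=
      Γ.dirGrp_disj F.hi0 h2 (add_mem F.e1.2 (F.Psi.symm _).2)
    rw [L_mulOne] at h3
    have h4 : F.e1 + F.Psi.symm m = 0 := Subtype.ext h3
    have := congrArg F.Psi h4
    rwa [map_add, map_zero, AddEquiv.apply_symm_apply] at this
  obtain ⟨wg, hwg⟩ := F.zz_surj hgmB hgmi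
  refine ⟨F.Psi F.e1 - wg, ?_⟩
  have key : F.L wg * F.L (F.Psi F.e1 + m) = F.L m := by
    refine AddMonoidHom.ext fun v => ?_
    obtain ⟨t, rfl⟩ := F.Psi.surjective v
    show F.L wg (F.L (F.Psi F.e1 + m) (F.Psi t)) = F.L m (F.Psi t)
    have h2 : F.L (F.Psi F.e1 + m) (F.Psi t) = F.Psi t + F.L m (F.Psi t) := by
      rw [map_add, L_one]; rfl
    refine Subtype.ext ?_
    rw [h2, L_val, map_add, AddEquiv.symm_apply_apply, L_val F m, AddEquiv.symm_apply_apply, hwg]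
    refine F.M_eq hgmB hgmi (F.hMi _ (F.zzB m) (F.zzi m) _) ?_
    have h1 := hmem t
    rw [himg] at h1
    exact h1
  rw [map_sub, sub_mul, L_one, one_mul, key, map_add, L_one, add_sub_cancel_right]

lemma L_rinv (c : Γ.dirGrp B F.zi) (hc : c ≠ 0) : ∃ c', ∀ u, F.L (F.L u c) c' = u := by
  have hpe1 : ¬ Γ.I (Γ.pt O (F.e1 : Γ.Trl B)) F.Di := fun h =>
    F.he1 (Subtype.ext (Γ.dirGrp_disj F.hi0.symm F.e1.2 ((F.ptK F.hiB _).2
      (show _ ∈ Γ.line F.zi O by rw [F.hLDi]; exact mem_ptsOf.2 h))))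
  obtain ⟨g, hg, hgz⟩ := Γ.exists_elation Q (z := O) F.hODi (F.notDi F.h0B F.hi0.symm)
    (w' := Γ.pt O (F.e1 : Γ.Trl B)) hpe1
    (by rw [Γ.line_comm]; exact (F.ptK F.h0B _).1 F.e1.2)
  have hgi : g • F.zi = F.zi := Γ.El_fix hg.1 F.hiDi
  obtain ⟨x, rfl⟩ : ∃ x : Γ.dirGrp B F.z0, c = F.Psi x + F.Psi F.e1 :=
    ⟨F.Psi.symm c - F.e1, by rw [map_sub, sub_add_cancel, AddEquiv.apply_symm_apply]⟩
  have hline_inv : ∀ z, Γ.I z B → ∀ p, p ∈ Γ.line z O → g • p ∈ Γ.line z O := by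
    intro z hz p hp
    refine Γ.mem_line.2 fun y h1 h2 => ?_
    have := (Γ.inv g p y).2 (Γ.mem_line.1 hp y h1 h2)
    rwa [hg.2 y h2] at this
  have hgP_line : ∀ (z : X) (_ : Γ.I z B) (t : Γ.Trl B), t ∈ Γ.dirGrp B z →
      g • Γ.pt O t = z ∨ ∃ t', t' ∈ Γ.dirGrp B z ∧ Γ.pt O t' = g • Γ.pt O t := by
    intro z hz t ht
    have h1 := hline_inv z hz _ ((F.ptK hz t).1 ht)
    have h := Γ.line_pt Q F.hO hz (0 : Γ.Trl B) (u := g • Γ.pt O t)
    rw [Γ.pt_zero] at h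
    rcases h.1 h1 with e | ⟨b, hb, e⟩
    · exact Or.inl e
    · exact Or.inr ⟨b, by rwa [sub_zero] at hb, e⟩
  -- images of the verticals and horizontals
  have hvert : ∀ y ∈ Γ.dirGrp B F.zi,
      g • Γ.pt O ((x : Γ.Trl B) + y) ∈ Γ.line F.zi (g • Γ.pt O (x : Γ.Trl B)) := by
    intro y hy
    have h : Γ.pt O ((x : Γ.Trl B) + y) ∈ Γ.line F.zi (Γ.pt O (x : Γ.Trl B)) := by
      rw [Γ.line_pt Q F.hO F.hiB]
      exact Or.inr ⟨_, by rwa [add_sub_cancel_left], rfl⟩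
    have := mem_image_of_mem (fun p => g • p) h
    rwa [Γ.smul_line, hgi] at this
  have hhor : ∀ y ∈ Γ.dirGrp B F.zi, g • Γ.pt O ((x : Γ.Trl B) + y)
      ∈ Γ.line (Γ.pt O y) (Γ.pt O (F.e1 : Γ.Trl B)) := by
    intro y hy
    have h : Γ.pt O ((x : Γ.Trl B) + y) ∈ Γ.line F.z0 (Γ.pt O y) := by
      rw [Γ.line_pt Q F.hO F.h0B]
      exact Or.inr ⟨_, by rw [add_sub_cancel_right]; exact x.2, rfl⟩
    have := mem_image_of_mem (fun p => g • p) h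
    rwa [Γ.smul_line, hgz, F.fixDi hg.1 hy, Γ.line_comm] at this
  have hne : ∀ y ∈ Γ.dirGrp B F.zi, Γ.pt O y ≠ Γ.pt O (F.e1 : Γ.Trl B) := fun y hy e3 =>
    F.he1 (Subtype.ext (Γ.dirGrp_disj F.hi0 (Γ.pt_inj F.hO e3 ▸ hy) F.e1.2))
  rcases hgP_line F.z0 F.h0B x x.2 with e | ⟨fx, hfx, e⟩
  · exfalso
    apply hc
    set y := F.M F.z1 x with hy_def
    have hy : y ∈ Γ.dirGrp B F.zi := F.hMi F.z1 F.h1B F.h1i x
    have h1 := hvert y hy
    rw [e, F.lineB F.hiB F.h0B F.hi0, mem_ptsOf] at h1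
    rcases hgP_line F.z1 F.h1B _ (F.hMz F.z1 F.h1B F.h1i x) with e2 | ⟨t', -, e2⟩
    swap
    · exact absurd (show Γ.I (Γ.pt O t') B by rw [e2]; exact h1) (Γ.pt_out F.hO t')
    have h2 := hhor y hy
    rw [e2] at h2
    have h3 : Γ.pt O y ∈ Γ.line F.z1 (Γ.pt O (F.e1 : Γ.Trl B)) := by
      rw [Γ.line_eq (hne y hy) (fun e3 => Γ.pt_out F.hO (F.e1 : Γ.Trl B) (by rw [← e3]; exact F.h1B))
        h2 (Γ.right_mem _ _)]
      exact Γ.left_mem _ _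
    rw [Γ.line_pt Q F.hO F.h1B] at h3
    rcases h3 with e3 | ⟨b, hb, e3⟩
    · exact absurd (show Γ.I (Γ.pt O y) B by rw [e3]; exact F.h1B) (Γ.pt_out F.hO y)
    rw [Γ.pt_inj F.hO e3] at hb
    have h4 := neg_mem hb
    rw [neg_sub, sub_eq_add_neg] at h4
    have h5 := F.M_eq F.h1B F.h1i (neg_mem hy) h4
    have h6 : F.Psi F.e1 = -F.Psi x := Subtype.ext h5
    rw [h6, add_neg_cancel]
  · obtain ⟨f, hf⟩ : ∃ f : Γ.dirGrp B F.zi, F.Psi.symm f = ⟨fx, hfx⟩ :=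
      ⟨F.Psi ⟨fx, hfx⟩, F.Psi.symm_apply_apply _⟩
    refine ⟨F.Psi F.e1 - f, fun u => ?_⟩
    have hy := F.hMi (F.zz u) (F.zzB u) (F.zzi u) x
    rcases hgP_line (F.zz u) (F.zzB u) _ (F.hMz _ (F.zzB u) (F.zzi u) x) with e2 | ⟨t', ht', e2⟩
    · exfalso
      have h1 := hvert _ hy
      rw [e2, ← e, Γ.line_pt Q F.hO F.hiB] at h1
      rcases h1 with e3 | ⟨b, -, e3⟩
      · exact F.zzi u e3
      · exact Γ.pt_out F.hO b (by rw [e3]; exact F.zzB u)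
    have h1 := hvert _ hy
    have h2 := hhor _ hy
    rw [← e2, ← e, Γ.line_pt Q F.hO F.hiB] at h1
    rw [← e2] at h2
    have h1' : t' - fx ∈ Γ.dirGrp B F.zi := by
      rcases h1 with e3 | ⟨b, hb, e3⟩
      · exact absurd F.hiB (by rw [← e3]; exact Γ.pt_out F.hO t')
      · exact Γ.pt_inj F.hO e3 ▸ hb
    have ht'' : F.M (F.zz u) fx = t' - fx :=
      F.M_eq (F.zzB u) (F.zzi u) h1' (by rwa [add_sub_cancel])
    set y := F.M (F.zz u) x with hy_def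
    obtain ⟨n, hnB, hn⟩ : ∃ n, Γ.I n B ∧ (y - (F.e1 : Γ.Trl B)) ∈ Γ.dirGrp B n := by
      obtain ⟨⟨n, hn⟩, hn'⟩ := (Γ.part Q B).cover (y - (F.e1 : Γ.Trl B))
      exact ⟨n, hn, hn'⟩
    have hni : n ≠ F.zi := by
      rintro rfl
      have h3 := sub_mem hy hn
      rw [sub_sub_cancel] at h3
      exact F.he1 (Subtype.ext (Γ.dirGrp_disj F.hi0.symm F.e1.2 h3))
    have hne' : n ≠ Γ.pt O y := fun e3 => Γ.pt_out F.hO y (by rw [← e3]; exact hnB)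
    have hmem : Γ.pt O (F.e1 : Γ.Trl B) ∈ Γ.line n (Γ.pt O y) := by
      rw [Γ.line_pt Q F.hO hnB]
      exact Or.inr ⟨_, by rw [← neg_sub]; exact neg_mem hn, rfl⟩
    have hline : Γ.line n (Γ.pt O y) = Γ.line (Γ.pt O y) (Γ.pt O (F.e1 : Γ.Trl B)) :=
      (Γ.line_eq hne' (hne y hy) (Γ.right_mem _ _) hmem).symm
    rw [← hline, Γ.line_pt Q F.hO hnB] at h2
    have h2' : t' - y ∈ Γ.dirGrp B n := by
      rcases h2 with e3 | ⟨b, hb, e3⟩
      · exact absurd hnB (by rw [← e3]; exact Γ.pt_out F.hO t')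
      · exact Γ.pt_inj F.hO e3 ▸ hb
    obtain ⟨w, rfl⟩ := F.zz_surj hnB hni
    have hw1 : (w : Γ.Trl B) = -y := by
      rw [← F.zze]
      refine F.M_eq hnB hni (neg_mem hy) ?_
      rw [← sub_eq_add_neg, ← neg_sub]
      exact neg_mem hn
    have hw2 : F.M (F.zz w) fx = F.M (F.zz u) fx - y := by
      refine F.M_eq hnB hni (sub_mem (F.hMi _ (F.zzB u) (F.zzi u) _) hy) ?_
      rw [ht'', ← add_sub_assoc, add_sub_cancel]
      exact h2'
    have hy' : (F.L u (F.Psi x) : Γ.Trl B) = y := by rw [L_val, AddEquiv.symm_apply_apply]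
    have E1 : F.L w f = F.L u f - F.L u (F.Psi x) := Subtype.ext (by
      rw [AddSubgroup.coe_sub, hy', L_val, L_val, hf]; exact hw2)
    have E2 : w = -F.L u (F.Psi x) := Subtype.ext (by rw [AddSubgroup.coe_neg, hy', hw1])
    have E3 : F.L (F.L u (F.Psi x)) f = -(F.L u f - F.L u (F.Psi x)) := by
      rw [← E1, E2, map_neg]
      exact (neg_neg _).symm
    rw [map_add, L_mulOne, map_add]
    show F.L (F.L u (F.Psi x)) (F.Psi F.e1 - f) + F.L u (F.Psi F.e1 - f) = u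
    rw [map_sub, map_sub, L_mulOne, L_mulOne, E3]
    abel

/-- The semifield of the frame. -/
noncomputable def sf : SF (Γ.dirGrp B F.zi) where
  L := F.L
  one := F.Psi F.e1
  L_one := F.L_one
  mulOne := F.L_mulOne
  inj := F.L_inj
  linv := F.L_linv
  rinv := F.L_rinv

lemma exists_dec (a : Γ.Trl B) :
    ∃ (t : Γ.dirGrp B F.z0) (y : Γ.dirGrp B F.zi), (t : Γ.Trl B) + y = a := by
  have h1 := F.hMz F.z0 F.h0B F.hi0.symm a
  exact ⟨⟨_, h1⟩, ⟨-(F.M F.z0 a), neg_mem (F.hMi F.z0 F.h0B F.hi0.symm a)⟩, add_neg_cancel_right _ _⟩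

lemma dec_eq {t t' : Γ.dirGrp B F.z0} {y y' : Γ.dirGrp B F.zi}
    (h : (t : Γ.Trl B) + y = (t' : Γ.Trl B) + y') : t = t' ∧ y = y' := by
  have e1' : (t : Γ.Trl B) - t' = (y' : Γ.Trl B) - y := by
    rw [sub_eq_sub_iff_add_eq_add, h, add_comm]
  have h1 : (t : Γ.Trl B) = t' := sub_eq_zero.1
    (Γ.dirGrp_disj F.hi0.symm (sub_mem t.2 t'.2) (e1' ▸ sub_mem y'.2 y.2))
  rw [h1] at h
  exact ⟨Subtype.ext h1, Subtype.ext (add_left_cancel h)⟩

/-- Coordinates with respect to the two axes. -/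
noncomputable def co : Γ.Trl B ≃+ Γ.dirGrp B F.z0 × Γ.dirGrp B F.zi :=
  (AddEquiv.ofBijective
    (AddMonoidHom.mk' (fun p : Γ.dirGrp B F.z0 × Γ.dirGrp B F.zi => (p.1 : Γ.Trl B) + p.2)
      (fun p p' => by
        simp only [Prod.fst_add, Prod.snd_add, AddSubgroup.coe_add]
        exact add_add_add_comm _ _ _ _))
    ⟨fun _ _ h => Prod.ext (F.dec_eq h).1 (F.dec_eq h).2,
     fun a => let ⟨t, y, h⟩ := F.exists_dec a; ⟨(t, y), h⟩⟩).symm

lemma co_symm (t : Γ.dirGrp B F.z0) (y : Γ.dirGrp B F.zi) :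
    F.co.symm (t, y) = (t : Γ.Trl B) + y := rfl

/-- The scalar map of a label. -/
noncomputable def scal (c : Γ.dirGrp B F.zi) : AddMonoid.End (Γ.Trl B) :=
  AddMonoidHom.mk'
    (fun a => (F.Psi.symm (F.L c (F.Psi (F.co a).1)) : Γ.Trl B) + (F.L c (F.co a).2 : Γ.Trl B))
    (fun a b => by
      simp only [map_add, Prod.fst_add, Prod.snd_add, AddSubgroup.coe_add]
      exact add_add_add_comm _ _ _ _)

lemma scal_apply (c : Γ.dirGrp B F.zi) (t : Γ.dirGrp B F.z0) (y : Γ.dirGrp B F.zi) :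
    F.scal c ((t : Γ.Trl B) + y)
      = (F.Psi.symm (F.L c (F.Psi t)) : Γ.Trl B) + (F.L c y : Γ.Trl B) := by
  show (F.Psi.symm (F.L c (F.Psi (F.co _).1)) : Γ.Trl B) + (F.L c (F.co _).2 : Γ.Trl B) = _
  have h : F.co ((t : Γ.Trl B) + y) = (t, y) := F.co.apply_symm_apply (t, y)
  rw [h]

lemma scal_mem (c : Γ.dirGrp B F.zi) {z : X} (hz : Γ.I z B) {a : Γ.Trl B}
    (ha : a ∈ Γ.dirGrp B z) : F.scal c a ∈ Γ.dirGrp B z := by
  obtain ⟨hcomm, hmul⟩ := F.sf.commutative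
  obtain ⟨t, y, rfl⟩ := F.exists_dec a
  by_cases hzi : z = F.zi
  · subst hzi
    obtain ⟨rfl, -⟩ := F.dec_eq (t' := 0) (y' := ⟨_, ha⟩) (zero_add ((t : Γ.Trl B) + y)).symm
    rw [scal_apply, map_zero, map_zero, map_zero, AddSubgroup.coe_zero, zero_add]
    exact (F.L c y).2
  obtain ⟨u, rfl⟩ := F.zz_surj hz hzi
  have hy : F.M (F.zz u) t = (y : Γ.Trl B) := F.M_eq hz hzi y.2 ha
  have hy' : y = F.L u (F.Psi t) :=
    Subtype.ext (by rw [L_val, AddEquiv.symm_apply_apply]; exact hy.symm)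
  rw [scal_apply, hy']
  have key : F.L c (F.L u (F.Psi t)) = F.L u (F.L c (F.Psi t)) := by
    have h1 := DFunLike.congr_fun (hmul c u) (F.Psi t)
    have h2 := DFunLike.congr_fun (hmul u c) (F.Psi t)
    rw [show F.sf.L c u = F.sf.L u c from hcomm c u] at h1
    exact h1.symm.trans h2
  rw [key, F.L_val u]
  exact F.hMz _ hz hzi _

lemma hasScalars : (Γ.part Q B).HasScalars := by
  intro z v w hv hv0 hw
  let ev : Γ.dirGrp B F.zi → (Γ.part Q B).K z := fun c => ⟨F.scal c v, F.scal_mem c z.2 hv⟩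
  have hev : Function.Bijective ev := by
    refine (Nat.bijective_iff_injective_and_card ev).2 ⟨fun c c' e => ?_, ?_⟩
    · by_contra hne
      have hsub : c - c' ≠ 0 := sub_ne_zero.2 hne
      have e' : F.scal c v = F.scal c' v := congrArg Subtype.val e
      obtain ⟨t, y, rfl⟩ := F.exists_dec v
      rw [scal_apply, scal_apply] at e'
      obtain ⟨h1, h2⟩ := F.dec_eq e'
      have ht : t = 0 := by
        refine F.Psi.injective ((F.L_inj _ hsub _ ?_).trans (map_zero F.Psi).symm)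
        rw [map_sub]
        exact sub_eq_zero.2 (F.Psi.symm.injective h1)
      have hy : y = 0 := F.L_inj _ hsub _ (by rw [map_sub]; exact sub_eq_zero.2 h2)
      apply hv0
      rw [ht, hy, AddSubgroup.coe_zero, AddSubgroup.coe_zero, add_zero]
    · exact (Γ.card_dirGrp Q F.hiB).trans ((Γ.part Q B).card z).symm
  obtain ⟨c, hc⟩ := hev.2 ⟨w, hw⟩
  exact ⟨F.scal c, fun z' a ha => F.scal_mem c z'.2 ha, congrArg Subtype.val hc⟩

end Frame

namespace Geo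

variable (Γ : Geo G X Y) [Finite G] (Q : Γ.Q)

include Γ

theorem hasScalars {B : Y} {O : X} (hO : ¬ Γ.I O B) : (Γ.part Q B).HasScalars := by
  classical
  set P := Γ.part Q B with hP
  by_cases hbig : ∀ z z', P.K z ⊔ P.K z' ≠ ⊤
  · exact P.hasScalars_of_big hbig
  push_neg at hbig
  obtain ⟨za, zb, htop⟩ := hbig
  have hq2 := Q.two_le
  have hl := Γ.toDsn.lam_lt
  have hl1 := Γ.toDsn.lam_pos
  have hcardT : Nat.card (Γ.Trl B) = Q.q * (Γ.k - Γ.lam) := by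
    rw [Nat.card_congr Additive.toMul, Q.e_card, Q.out_eq]
  have hab : za ≠ zb := by
    rintro rfl
    rw [sup_idem] at htop
    have h1 : Nat.card (Γ.dirGrp B za.1) = Q.q := Γ.card_dirGrp Q za.2
    rw [show Γ.dirGrp B za.1 = ⊤ from htop, AddSubgroup.card_top, hcardT] at h1
    have h2 : Γ.k - Γ.lam = 1 :=
      Nat.eq_of_mul_eq_mul_left (show 0 < Q.q by omega) (h1.trans (mul_one _).symm)
    have := Q.k_eq
    have h3 : 2 * Γ.lam ≤ Q.q * Γ.lam := Nat.mul_le_mul_right _ hq2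
    omega
  have hkl : Γ.k - Γ.lam = Q.q := by
    refine Nat.eq_of_mul_eq_mul_left (show 0 < Q.q by omega) ?_
    rw [← hcardT, ← AddSubgroup.card_top, ← htop, P.card_sup hab]
    rfl
  have hlam : Γ.lam = 1 := by
    have h1 := Q.k_eq
    obtain ⟨r, hr⟩ := Nat.exists_eq_add_of_le hq2
    rw [hr] at h1 hkl
    have h2 : (2 + r) * Γ.lam = Γ.lam + (1 + r) * Γ.lam := by ring
    have h3 : (1 + r) * Γ.lam = (1 + r) * 1 := by omega
    exact Nat.eq_of_mul_eq_mul_left (by omega) h3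
  have hk1 : Γ.k = Q.q + 1 := by omega
  have hiB : Γ.I za.1 B := za.2
  have h0B : Γ.I zb.1 B := zb.2
  have hi0 : za.1 ≠ zb.1 := fun e => hab (Subtype.ext e)
  have hsup : ∀ z, Γ.I z B → z ≠ za.1 → ∀ t, ∃ y ∈ Γ.dirGrp B za.1, t + y ∈ Γ.dirGrp B z := by
    intro z hz hne t
    have h1 : Γ.dirGrp B z ⊔ Γ.dirGrp B za.1 = ⊤ := by
      refine AddSubgroup.eq_top_of_card_eq _ ?_
      refine (P.card_sup (z := ⟨z, hz⟩) (z' := za)
        (fun e => hne (congrArg Subtype.val e))).trans ?_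
      rw [hcardT, hkl]
      rfl
    obtain ⟨a, ha, b, hb, hab'⟩ := AddSubgroup.mem_sup.1 (h1.symm ▸ AddSubgroup.mem_top t)
    exact ⟨-b, neg_mem hb, by rw [← hab']; simpa using ha⟩
  choose! M hMi hMz using hsup
  obtain ⟨Di, hiDi, hODi, hLDi⟩ :=
    Γ.exists_block_line Q hk1 hlam (u := za.1) (u' := O) (fun e => hO (e ▸ hiB))
  obtain ⟨D0, h0D0, hOD0, hLD0⟩ :=
    Γ.exists_block_line Q hk1 hlam (u := zb.1) (u' := O) (fun e => hO (e ▸ h0B))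
  obtain ⟨z1, h1B, h1i, h10⟩ : ∃ z1, Γ.I z1 B ∧ z1 ≠ za.1 ∧ z1 ≠ zb.1 := by
    obtain ⟨z1, hz1, hne⟩ := exists_of_ssubset (show ({za.1, zb.1} : Finset X) ⊂ Γ.pts B from
      ssubset_of_ne_of_subset (fun e => by
        have h := Γ.cardPts B
        simp only [Dsn.pts] at e
        rw [← e, card_pair hi0] at h
        omega) (by simp [insert_subset_iff, mem_ptsOf, hiB, h0B]))
    simp only [mem_insert, mem_singleton, not_or] at hne
    exact ⟨z1, mem_ptsOf.1 hz1, hne.1, hne.2⟩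
  have : Nontrivial (Γ.dirGrp B zb.1) := Finite.one_lt_card_iff_nontrivial.1 (by
    rw [Γ.card_dirGrp Q h0B]; omega)
  obtain ⟨e1, he1⟩ := exists_ne (0 : Γ.dirGrp B zb.1)
  exact Frame.hasScalars (Γ := Γ) (Q := Q)
    { hO := hO, hk1 := hk1, hlam := hlam, zi := za.1, z0 := zb.1, z1 := z1, hiB := hiB,
      h0B := h0B, h1B := h1B, hi0 := hi0, h1i := h1i, h10 := h10, Di := Di, D0 := D0,
      hiDi := hiDi, hODi := hODi, hLDi := hLDi, h0D0 := h0D0, hOD0 := hOD0, hLD0 := hLD0,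
      M := M, hMi := hMi, hMz := hMz, e1 := e1, he1 := he1 }

end Geo

end Cfsg.Agent.Axial80
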