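import Mathlib
import Cfsg.Agent.Lib.Axial80Plane

/-!
# Projective coordinates

The design is the point-hyperplane design of a projective space, and its elations are exactly the
transvections.
-/

set_option autoImplicit false

namespace Cfsg.Agent.Axial80

open Finset MulAction Module

variable {G X Y : Type*} [Group G] [Fintype X] [Fintype Y] [DecidableEq X] [DecidableEq Y]
  [MulAction G X] [MulAction G Y]

namespace Geo

variable (Γ : Geo G X Y) [Finite G] (Q : Γ.Q)

/-- A block is the zero set of a functional. -/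
def Rel {F : Type} [Field F] {V : Type*} [AddCommGroup V] [Module F V]
    (π : X ≃ Projectivization F V) (D : Y) (φ : Dual F V) : Prop :=
  ∀ (x : X) (v : V) (hv : v ≠ 0), π x = Projectivization.mk F v hv → (Γ.I x D ↔ φ v = 0)

include Γ

/-! ### Elations and transvections -/

section Transvections

variable {F : Type} [Field F] [Fintype F] {V : Type*} [AddCommGroup V] [Module F V] [Finite V]
  (π : X ≃ Projectivization F V) (hblk : ∀ D : Y, ∃ φ : Dual F V, φ ≠ 0 ∧ Γ.Rel π D φ)

include hblk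

lemma exists_block (f : Dual F V) (hf : f ≠ 0) : ∃ D, Γ.Rel π D f := by
  classical
  have : FiniteDimensional F V := Module.Finite.of_finite
  have : Finite (Dual F V) := Module.finite_of_finite F
  choose φ hφ0 hφ using hblk
  let Φ : Y → Projectivization F (Dual F V) := fun D => Projectivization.mk F (φ D) (hφ0 D)
  have hinj : Function.Injective Φ := by
    intro D D' e
    obtain ⟨a, ha⟩ := (Projectivization.mk_eq_mk_iff F _ _ _ _).1 e
    refine Γ.toDsn.pts_injective ?_
    ext x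
    rw [mem_ptsOf, mem_ptsOf, hφ D x _ _ (π x).mk_rep.symm, hφ D' x _ _ (π x).mk_rep.symm,
      ← ha, LinearMap.smul_apply, smul_eq_zero_iff_eq]
  have hcard : Nat.card Y = Nat.card (Projectivization F (Dual F V)) := by
    rw [Nat.card_eq_fintype_card, ← Γ.cardEq, ← Nat.card_eq_fintype_card, Nat.card_congr π,
      Projectivization.card'', Projectivization.card'', Module.natCard_eq_pow_finrank (K := F),
      Module.natCard_eq_pow_finrank (K := F) (V := Dual F V), Subspace.dual_finrank_eq]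
  obtain ⟨D, hD⟩ := ((Nat.bijective_iff_injective_and_card Φ).2 ⟨hinj, hcard⟩).2
    (Projectivization.mk F f hf)
  obtain ⟨a, ha⟩ := (Projectivization.mk_eq_mk_iff F _ _ _ _).1 hD
  refine ⟨D, fun x v hv e => ?_⟩
  rw [hφ D x v hv e, ← ha, LinearMap.smul_apply, smul_eq_zero_iff_eq]

/-- The map induced by a transvection. -/
lemma exists_perm {f : Dual F V} {u : V} (h : f u = 0) :
    ∃ (σ : Equiv.Perm X) (τ : Equiv.Perm Y),
      (∀ x, π (σ x) = Projectivization.map (LinearEquiv.transvection h).toLinearMap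
        (LinearEquiv.transvection h).injective (π x)) ∧
      Γ.toDsn.IsAut σ τ ∧
      (∀ D φ, Γ.Rel π D φ → φ u = 0 → τ D = D) := by
  classical
  set T := LinearEquiv.transvection h with hT
  let s : X → X := fun x => π.symm (Projectivization.map T.toLinearMap T.injective (π x))
  have hs : Function.Bijective s := Finite.injective_iff_bijective.1 (π.symm.injective.comp
    ((Projectivization.map_injective T.toLinearMap T.injective).comp π.injective))
  have hπ : ∀ x, π (s x) = Projectivization.map T.toLinearMap T.injective (π x) := fun x =>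
    π.apply_symm_apply _
  have hmv : ∀ x v (hv : v ≠ 0), π x = Projectivization.mk F v hv →
      π (s x) = Projectivization.mk F (T v) (T.map_ne_zero_iff.2 hv) := fun x v hv e => by
    rw [hπ, e]; rfl
  have hex : ∀ D : Y, ∃ D', ∀ x, Γ.I (s x) D' ↔ Γ.I x D := by
    intro D
    obtain ⟨φ, hφ0, hφ⟩ := hblk D
    have hψ : φ ∘ₗ T.symm.toLinearMap ≠ 0 := fun e => hφ0 (LinearMap.ext fun v => by
      simpa using DFunLike.congr_fun e (T v))
    obtain ⟨D', hD'⟩ := Γ.exists_block π hblk _ hψ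
    refine ⟨D', fun x => ?_⟩
    rw [hD' _ _ _ (hmv x _ _ (π x).mk_rep.symm), hφ x _ _ (π x).mk_rep.symm]
    simp
  choose t ht using hex
  have htinj : Function.Injective t := fun D D' e => Γ.toDsn.pts_injective (by
    ext x
    rw [mem_ptsOf, mem_ptsOf, ← ht D x, ← ht D' x, e])
  refine ⟨Equiv.ofBijective s hs, Equiv.ofBijective t (Finite.injective_iff_bijective.1 htinj),
    hπ, fun x D => ht D x, fun D φ hφ hu => ?_⟩
  show t D = D
  refine Γ.toDsn.pts_injective ?_
  ext p
  obtain ⟨x, rfl⟩ := hs.2 p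
  rw [mem_ptsOf, mem_ptsOf, ht D x, hφ x _ _ (π x).mk_rep.symm,
    hφ _ _ _ (hmv x _ _ (π x).mk_rep.symm)]
  simp [hT, LinearMap.transvection.apply, hu]

include Q in
/-- Every transvection is induced by an elation with the same centre and axis. -/
lemma exists_elation_eq {D : Y} {f : Dual F V} (hD : Γ.Rel π D f) {u : V} (hu : u ≠ 0)
    (h : f u = 0) {z : X} (hz : π z = Projectivization.mk F u hu) :
    ∃ g ∈ Γ.Ctr z D, ∀ x, π (g • x) = Projectivization.map
      (LinearEquiv.transvection h).toLinearMap (LinearEquiv.transvection h).injective (π x) := by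
  classical
  obtain ⟨σ, τ, hσ, hAut, hτ⟩ := Γ.exists_perm π hblk h
  have hσv : ∀ x v (hv : v ≠ 0), π x = Projectivization.mk F v hv → π (σ x) = Projectivization.mk F
      (LinearEquiv.transvection h v) ((LinearEquiv.transvection h).map_ne_zero_iff.2 hv) := by
    intro x v hv e; rw [hσ, e]; rfl
  have hTf : ∀ v, f (LinearEquiv.transvection h v) = f v := fun v => by
    simp [LinearMap.transvection.apply, h]
  have hzD : Γ.I z D := (hD z u hu hz).2 h
  obtain ⟨w, hw⟩ := Γ.exists_out D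
  have hwv := (π w).mk_rep.symm
  have hw' : ¬ Γ.I (σ w) D := by
    rw [hD _ _ _ (hσv w _ _ hwv), hTf, ← hD w _ _ hwv]; exact hw
  obtain ⟨g, hg, hgw⟩ := Γ.exists_elation Q hzD hw hw' (Γ.mem_line.2 fun y h1 h2 => by
    obtain ⟨φ, -, hφ⟩ := hblk y
    rw [hφ _ _ _ (hσv w _ _ hwv)]
    rw [hφ w _ _ hwv] at h2
    rw [hφ z u hu hz] at h1
    simp [LinearMap.transvection.apply, h1, h2])
  refine ⟨g, hg, ?_⟩
  suffices hfin : ∀ x, g • x = σ x by intro x; rw [hfin, hσ]
  set ρ : Equiv.Perm X := σ.trans (MulAction.toPerm g⁻¹) with hρ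
  set θ : Equiv.Perm Y := τ.trans (MulAction.toPerm g⁻¹) with hθ
  have hρA : Γ.toDsn.IsAut ρ θ := fun x y => (Γ.inv g⁻¹ _ _).trans (hAut x y)
  have hρD : ∀ x ∈ Γ.pts D, ρ x = x := by
    intro x hx
    rw [mem_ptsOf] at hx
    have h1 : f (π x).rep = 0 := (hD x _ _ (π x).mk_rep.symm).1 hx
    have h2 : σ x = x := π.injective (by
      rw [hσv x _ _ (π x).mk_rep.symm]
      conv_rhs => rw [← (π x).mk_rep]
      congr 1
      simp [LinearMap.transvection.apply, h1])
    show g⁻¹ • σ x = x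
    rw [h2, inv_smul_eq_iff, Γ.El_fix hg.1 hx]
  have hρw : ρ w = w := by
    show g⁻¹ • σ w = w
    rw [← hgw, inv_smul_smul]
  have hwB : w ∉ Γ.pts D := fun e => hw (mem_ptsOf.1 e)
  have hsub : Γ.blks z ∪ Γ.blks w ⊆ univ.filter fun y => θ y = y := by
    intro y hy
    refine mem_filter.2 ⟨mem_univ _, ?_⟩
    rcases mem_union.1 hy with hy | hy
    · rw [mem_blksOf] at hy
      obtain ⟨φ, -, hφ⟩ := hblk y
      show g⁻¹ • τ y = y
      rw [hτ y φ hφ ((hφ z u hu hz).1 hy), inv_smul_eq_iff, hg.2 y hy]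
    · exact (hρA.axial hρD).1 w hwB hρw y hy
  have h1 := card_le_card hsub
  rw [← hρA.card_fix] at h1
  have hzw : z ≠ w := fun e => hw (e ▸ hzD)
  have h2 := card_union_add_card_inter (Γ.blks z) (Γ.blks w)
  rw [Γ.meetBlks _ _ hzw, Γ.cardBlks, Γ.cardBlks] at h2
  obtain ⟨p, hp, hpn⟩ : ∃ p ∈ univ.filter (fun x => ρ x = x), p ∉ insert w (Γ.pts D) := by
    refine exists_mem_notMem_of_card_lt_card ?_
    rw [card_insert_of_notMem hwB, Γ.cardPts]
    have := Q.k_eq
    have := Γ.toDsn.lam_lt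
    have : 2 * Γ.lam ≤ Q.q * Γ.lam := Nat.mul_le_mul_right _ Q.two_le
    have := Γ.toDsn.lam_pos
    omega
  simp only [mem_filter, mem_univ, true_and] at hp
  simp only [mem_insert, not_or] at hpn
  have hone := hρA.eq_one_of_two_fixed hρD hwB hpn.2 (Ne.symm hpn.1) hρw hp
  intro x
  have : g⁻¹ • σ x = x := by
    show ρ x = x
    rw [hone]; rfl
  exact (inv_smul_eq_iff.1 this).symm

include Q in
/-- Transvections are induced by the group generated by the centred elations. -/
lemma transvection_realised {T : V ≃ₗ[F] V} (hT : T ∈ LinearEquiv.transvections F V) :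
    ∃ g ∈ Subgroup.closure {g : G | ∃ z D, Γ.I z D ∧ g ∈ Γ.Ctr z D},
      ∀ x, π (g • x) = Projectivization.map T.toLinearMap T.injective (π x) := by
  obtain ⟨f, u, h, rfl⟩ := hT
  by_cases hf : f = 0 ∨ u = 0
  · refine ⟨1, one_mem _, fun x => ?_⟩
    rw [one_smul]
    induction π x using Projectivization.ind with
    | h v hv =>
      rw [Projectivization.map_mk]
      congr 1
      rcases hf with hf | hf <;> simp [LinearMap.transvection.apply, hf]
  push_neg at hf
  obtain ⟨D, hD⟩ := Γ.exists_block π hblk f hf.1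
  obtain ⟨g, hg, hgx⟩ := Γ.exists_elation_eq Q π hblk hD hf.2 h
    (z := π.symm (Projectivization.mk F u hf.2)) (π.apply_symm_apply _)
  exact ⟨g, Subgroup.subset_closure
    ⟨_, D, (hD _ _ _ (π.apply_symm_apply _)).2 h, hg⟩, hgx⟩

include Q in
/-- Centred elations are transvections. -/
lemma elation_is_transvection (hq : Nat.card F = Q.q) {z : X} {D : Y} (hzD : Γ.I z D) {g : G}
    (hg : g ∈ Γ.Ctr z D) : ∃ T ∈ LinearEquiv.transvections F V,
      ∀ x, π (g • x) = Projectivization.map T.toLinearMap T.injective (π x) := by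
  obtain ⟨f, -, hD⟩ := hblk D
  set u := (π z).rep with hu
  have hu0 : u ≠ 0 := (π z).rep_nonzero
  have hz : π z = Projectivization.mk F u hu0 := (π z).mk_rep.symm
  have hfu : f u = 0 := (hD z u hu0 hz).1 hzD
  have hc : ∀ c : F, f (c • u) = 0 := fun c => by rw [map_smul, hfu, smul_zero]
  have hex : ∀ c : F, ∃ g : Γ.Ctr z D, ∀ x, π ((g : G) • x) = Projectivization.map
      (LinearEquiv.transvection (hc c)).toLinearMap (LinearEquiv.transvection (hc c)).injective
      (π x) := by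
    intro c
    by_cases hc0 : c = 0
    · subst hc0
      refine ⟨1, fun x => ?_⟩
      rw [show ((1 : Γ.Ctr z D) : G) = 1 from rfl, one_smul]
      induction π x using Projectivization.ind with
      | h v hv =>
        rw [Projectivization.map_mk]
        congr 1
        simp [LinearMap.transvection.apply]
    obtain ⟨g, hg, hgx⟩ := Γ.exists_elation_eq Q π hblk hD (smul_ne_zero hc0 hu0) (hc c) (z := z)
      (hz.trans ((Projectivization.mk_eq_mk_iff' F _ _ _ _).2
        ⟨c⁻¹, inv_smul_smul₀ hc0 u⟩))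
    exact ⟨⟨g, hg⟩, hgx⟩
  choose e he using hex
  have hinj : Function.Injective e := by
    intro c c' hcc
    obtain ⟨w, hw⟩ := Γ.exists_out D
    have hwv := (π w).mk_rep.symm
    set v := (π w).rep with hv
    have hfv : f v ≠ 0 := fun e' => hw ((hD w v _ hwv).2 e')
    have h1 := he c w
    rw [hcc, he c' w, hwv, Projectivization.map_mk, Projectivization.map_mk,
      Projectivization.mk_eq_mk_iff'] at h1
    obtain ⟨a, ha⟩ := h1
    simp only [LinearEquiv.coe_coe, LinearEquiv.transvection.apply] at ha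
    have h2 := congrArg f ha
    simp only [map_smul, map_add, hfu, smul_zero, add_zero, smul_eq_mul, mul_zero] at h2
    have ha1 : a = 1 := mul_right_cancel₀ hfv (h2.trans (one_mul _).symm)
    rw [ha1, one_smul, add_right_inj, smul_smul, smul_smul] at ha
    exact mul_left_cancel₀ hfv (smul_left_injective F hu0 ha)
  obtain ⟨c, hce⟩ := ((Nat.bijective_iff_injective_and_card e).2
    ⟨hinj, hq.trans (Q.ctr_card hzD).symm⟩).2 ⟨g, hg⟩
  exact ⟨_, LinearEquiv.mem_transvections (hc c), fun x => by rw [← he c x, hce]⟩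

end Transvections

/-! ### Coordinates -/

section Coordinates

variable {B : Y} {O : X} {F : Type} [Field F] [Fintype F] [Module F (Γ.Trl B)]

include Q in
lemma exists_coordinates (hO : ¬ Γ.I O B)
    (hmem : ∀ z, Γ.I z B → ∀ (c : F), ∀ a ∈ Γ.dirGrp B z, c • a ∈ Γ.dirGrp B z)
    (hspan : ∀ z, Γ.I z B → ∀ v ∈ Γ.dirGrp B z, v ≠ 0 → ∀ w ∈ Γ.dirGrp B z, ∃ c : F, c • v = w)
    (hq : Nat.card F = Q.q) :
    ∃ π : X ≃ Projectivization F (F × Γ.Trl B),
      ∀ D, ∃ φ : Dual F (F × Γ.Trl B), φ ≠ 0 ∧ Γ.Rel π D φ := by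
  classical
  have hfin : Module.Finite F (Γ.Trl B) := Module.Finite.of_finite
  have hdir : ∀ z, Γ.I z B → ∃ v, v ∈ Γ.dirGrp B z ∧ v ≠ 0 := by
    intro z hz
    have : Nontrivial (Γ.dirGrp B z) := Finite.one_lt_card_iff_nontrivial.1 (by
      rw [Γ.card_dirGrp Q hz]; exact Q.two_le)
    obtain ⟨v, hv⟩ := exists_ne (0 : Γ.dirGrp B z)
    exact ⟨v, v.2, fun e => hv (Subtype.ext e)⟩
  choose dv hdv hdv0 using hdir
  choose af haf using fun (x : X) (hx : ¬ Γ.I x B) => Γ.pt_surj Q hO hx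
  have h0 : ∀ {v : Γ.Trl B}, v ≠ 0 → ((0 : F), v) ≠ 0 := fun hv e => hv (congrArg Prod.snd e)
  have h1 : ∀ (v : Γ.Trl B), ((1 : F), v) ≠ 0 := fun v e => one_ne_zero (congrArg Prod.fst e)
  let φf : X → Projectivization F (F × Γ.Trl B) := fun x =>
    if hx : Γ.I x B then Projectivization.mk F _ (h0 (hdv0 x hx))
    else Projectivization.mk F _ (h1 (af x hx))
  have fin : ∀ {z v}, Γ.I z B → v ∈ Γ.dirGrp B z → ∀ (hv : v ≠ 0),
      φf z = Projectivization.mk F _ (h0 hv) := by
    intro z v hz hv hv0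
    simp only [φf, dif_pos hz]
    rw [Projectivization.mk_eq_mk_iff']
    obtain ⟨c, hc⟩ := hspan z hz v hv hv0 _ (hdv z hz)
    exact ⟨c, by simp [Prod.smul_mk, hc]⟩
  have fout : ∀ a, φf (Γ.pt O a) = Projectivization.mk F _ (h1 a) := by
    intro a
    simp only [φf, dif_neg (Γ.pt_out hO a)]
    congr 2
    exact Γ.pt_inj hO (haf _ _)
  have hcases : ∀ x, Γ.I x B ∨ ∃ a, x = Γ.pt O a := fun x => by
    by_cases hx : Γ.I x B
    · exact Or.inl hx
    · exact Or.inr ⟨_, (haf x hx).symm⟩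
  have hinj : Function.Injective φf := by
    intro x x' e
    rcases hcases x with hx | ⟨a, rfl⟩ <;> rcases hcases x' with hx' | ⟨a', rfl⟩
    · rw [fin hx (hdv x hx) (hdv0 x hx), fin hx' (hdv x' hx') (hdv0 x' hx'),
        Projectivization.mk_eq_mk_iff'] at e
      obtain ⟨c, hc⟩ := e
      have hc2 : c • dv x' hx' = dv x hx := congrArg Prod.snd hc
      by_contra hne
      exact hdv0 x hx (Γ.dirGrp_disj hne (hdv x hx) (hc2 ▸ hmem x' hx' c _ (hdv x' hx')))
    · rw [fin hx (hdv x hx) (hdv0 x hx), fout, Projectivization.mk_eq_mk_iff'] at e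
      obtain ⟨c, hc⟩ := e
      have hc1 : c = 0 := by simpa using congrArg Prod.fst hc
      exact absurd (congrArg Prod.snd hc).symm (by simpa [hc1] using hdv0 x hx)
    · rw [fin hx' (hdv x' hx') (hdv0 x' hx'), fout, Projectivization.mk_eq_mk_iff'] at e
      obtain ⟨c, hc⟩ := e
      simpa using congrArg Prod.fst hc
    · rw [fout, fout, Projectivization.mk_eq_mk_iff'] at e
      obtain ⟨c, hc⟩ := e
      have hc1 : c = 1 := by simpa using congrArg Prod.fst hc
      rw [← (show c • a' = a from congrArg Prod.snd hc), hc1, one_smul]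
  have hsurj : Function.Surjective φf := by
    intro p
    induction p using Projectivization.ind with
    | h v hv =>
      obtain ⟨c, a⟩ := v
      by_cases hc : c = 0
      · subst hc
        have ha : a ≠ 0 := fun e => hv (by rw [e]; rfl)
        obtain ⟨z, hz, ha'⟩ := Γ.el_mem a
        exact ⟨z, fin hz ha' ha⟩
      · refine ⟨Γ.pt O (c⁻¹ • a), ?_⟩
        rw [fout, Projectivization.mk_eq_mk_iff']
        exact ⟨c⁻¹, by simp [Prod.smul_mk, hc]⟩
  let π := Equiv.ofBijective φf ⟨hinj, hsurj⟩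
  refine ⟨π, fun D => ?_⟩
  -- it suffices to check canonical representatives
  have rel : ∀ φ : Dual F (F × Γ.Trl B), (∀ z v, Γ.I z B → v ∈ Γ.dirGrp B z → v ≠ 0 →
      (Γ.I z D ↔ φ (0, v) = 0)) → (∀ a, Γ.I (Γ.pt O a) D ↔ φ (1, a) = 0) → Γ.Rel π D φ := by
    intro φ hin hout x v hv e
    change φf x = _ at e
    rcases hcases x with hx | ⟨a, rfl⟩
    · rw [fin hx (hdv x hx) (hdv0 x hx), Projectivization.mk_eq_mk_iff] at e
      obtain ⟨c, hc⟩ := e
      rw [hin x _ hx (hdv x hx) (hdv0 x hx), ← hc, Units.smul_def, map_smul, smul_eq_zero,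
        or_iff_right c.ne_zero]
    · rw [fout, Projectivization.mk_eq_mk_iff] at e
      obtain ⟨c, hc⟩ := e
      rw [hout, ← hc, Units.smul_def, map_smul, smul_eq_zero, or_iff_right c.ne_zero]
  by_cases hDB : D = B
  · subst hDB
    refine ⟨LinearMap.fst F F _, fun e => ?_, rel _ (fun z v hz _ _ => by simp [hz])
      (fun a => by simp [Γ.pt_out hO a])⟩
    simpa using DFunLike.congr_fun e ((1 : F), 0)
  let S : Submodule F (Γ.Trl B) :=
    { carrier := {a | Γ.el a • D = D}
      zero_mem' := by simp [Γ.el_zero]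
      add_mem' := fun {a b} (ha : Γ.el a • D = D) (hb : Γ.el b • D = D) => by
        show Γ.el (a + b) • D = D
        rw [Γ.el_add, mul_smul, hb, ha]
      smul_mem' := fun c a (ha : Γ.el a • D = D) => by
        show Γ.el (c • a) • D = D
        by_cases ha0 : a = 0
        · rw [ha0, smul_zero, Γ.el_zero, one_smul]
        obtain ⟨z, hz, haz⟩ := Γ.el_mem a
        exact (hmem z hz c a haz).2 D ((Γ.fix_of_mem haz ha0 D).1 ha) }
  have hS : Nat.card S = Γ.k - Γ.lam := by
    rw [← Q.stab_card hDB]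
    exact Nat.card_congr
      ⟨fun a => ⟨Γ.el (a : Γ.Trl B), Γ.el_mem _, a.2⟩,
        fun g => ⟨Additive.ofMul ⟨(g : G), g.2.1⟩, g.2.2⟩,
        fun a => Subtype.ext (Γ.el_inj rfl), fun g => rfl⟩
  have hq2 := Q.two_le
  have hlk := Γ.toDsn.lam_lt
  have hquot : finrank F (Γ.Trl B ⧸ S) = 1 := by
    have e := S.card_eq_card_quotient_mul_card
    rw [hS, Nat.card_congr Additive.toMul, Q.e_card, Q.out_eq] at e
    have hq' : Nat.card (Γ.Trl B ⧸ S) = Q.q :=
      Nat.eq_of_mul_eq_mul_right (show 0 < Γ.k - Γ.lam by omega) (by rw [e, mul_comm (Γ.k - Γ.lam)])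
    rw [Module.natCard_eq_pow_finrank (K := F), hq] at hq'
    exact Nat.pow_right_injective hq2 (hq'.trans (pow_one _).symm)
  obtain ⟨ι⟩ : Nonempty ((Γ.Trl B ⧸ S) ≃ₗ[F] F) :=
    FiniteDimensional.nonempty_linearEquiv_of_finrank_eq (by rw [hquot, Module.finrank_self])
  set ψ : Γ.Trl B →ₗ[F] F := ι.toLinearMap ∘ₗ S.mkQ with hψ
  have hψker : ∀ a, ψ a = 0 ↔ a ∈ S := fun a => by simp [hψ, Submodule.Quotient.mk_eq_zero]
  obtain ⟨x₀, hx₀D, hx₀B⟩ := Γ.exists_pt_off hDB
  obtain ⟨a₀, ha₀⟩ := Γ.pt_surj Q hO hx₀B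
  have hmemD : ∀ {a}, ψ a = ψ a₀ → Γ.I (Γ.pt O a) D := by
    intro a ha
    have hs : Γ.el (a - a₀) • D = D := (hψker _).1 (by rw [map_sub, ha, sub_self])
    have := (Γ.inv (Γ.el (a - a₀)) x₀ D).2 hx₀D
    rwa [hs, ← ha₀, Γ.el_pt, sub_add_cancel] at this
  have hptD : ∀ a, Γ.I (Γ.pt O a) D ↔ ψ a = ψ a₀ := by
    intro a
    refine ⟨fun ha => ?_, hmemD⟩
    have := Fintype.ofFinite (Γ.Trl B)
    set A := univ.filter fun b : Γ.Trl B => Γ.I (Γ.pt O b) D with hA
    set A' := univ.filter fun b : Γ.Trl B => ψ b = ψ a₀ with hA'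
    have hAA : A' ⊆ A := fun b hb => by
      simp only [hA, hA', mem_filter, mem_univ, true_and] at hb ⊢
      exact hmemD hb
    have hle : A.card ≤ A'.card := by
      have h1 : A.card ≤ (Γ.pts D \ Γ.pts B).card := card_le_card_of_injOn (Γ.pt O)
        (fun b hb => by
          simp only [hA, coe_filter, mem_univ, true_and, Set.mem_setOf_eq] at hb
          simp [mem_ptsOf, hb, Γ.pt_out hO b])
        (Γ.pt_inj hO).injOn
      rw [card_sdiff, inter_comm, Γ.meetPts _ _ hDB, Γ.cardPts] at h1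
      refine h1.trans (le_of_eq ?_)
      rw [← hS, Nat.card_eq_fintype_card, Fintype.card_subtype]
      refine card_bij' (fun s _ => s + a₀) (fun b _ => b - a₀) (fun s hs => ?_) (fun b hb => ?_)
        (by simp) (by simp)
      · simp only [hA', mem_filter, mem_univ, true_and] at hs ⊢
        rw [map_add, (hψker s).2 hs, zero_add]
      · simp only [hA', mem_filter, mem_univ, true_and] at hb ⊢
        exact (hψker _).1 (by rw [map_sub, hb, sub_self])
    have : a ∈ A := by simp [hA, ha]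
    rw [← eq_of_subset_of_card_le hAA hle] at this
    simpa [hA'] using this
  refine ⟨ψ ∘ₗ LinearMap.snd F F _ - ψ a₀ • LinearMap.fst F F _, fun e => ?_,
    rel _ (fun z v hz hv hv0 => ?_) (fun a => ?_)⟩
  · obtain ⟨w, hw⟩ : ∃ w, ψ w = 1 := by
      obtain ⟨b, hb⟩ := S.mkQ_surjective (ι.symm 1)
      exact ⟨b, by simp [hψ, hb]⟩
    simpa [hw] using DFunLike.congr_fun e ((0 : F), w)
  · rw [← Γ.fix_of_mem hv hv0 D]
    simp [hψker]
    rfl
  · rw [hptD]
    simp [sub_eq_zero]

end Coordinates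

omit [Finite G] in
lemma Ctr_smul_centre [Finite G] {z : X} {D : Y} {g : G} (hg : g ∈ Γ.Ctr z D) (h1 : g ≠ 1)
    {h : G} (hc : h * g = g * h) : h • z = z := by
  refine Γ.toDsn.blks_injective ?_
  have e : h * g * h⁻¹ = g := by rw [hc, mul_inv_cancel_right]
  have hg' := Γ.Ctr_conj hg h
  rw [e] at hg'
  ext y
  rw [mem_blksOf, mem_blksOf, ← Γ.fixBlk_iff hg' h1, ← Γ.fixBlk_iff hg h1]

/-- Nothing centralizes all centred elations. -/
lemma centralizer_eq_bot :
    Subgroup.centralizer (Subgroup.closure {g : G | ∃ z D, Γ.I z D ∧ g ∈ Γ.Ctr z D} : Set G) = ⊥ := by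
  refine (Subgroup.eq_bot_iff_forall _).2 fun h hh => Γ.faith h fun z => ?_
  obtain ⟨D, hD⟩ : (Γ.blks z).Nonempty := card_pos.1 (by rw [Γ.cardBlks]; have := Γ.two_le; omega)
  rw [mem_blksOf] at hD
  obtain ⟨⟨g, hg⟩, hg1⟩ := Subgroup.ne_bot_iff_exists_ne_one.1 (Γ.Ctr_ne_bot hD)
  exact Γ.Ctr_smul_centre hg (fun e => hg1 (Subtype.ext e))
    (Subgroup.mem_centralizer_iff.1 hh g (Subgroup.subset_closure ⟨z, D, hD, hg⟩)).symm

lemma normal_closure :
    (Subgroup.closure {g : G | ∃ z D, Γ.I z D ∧ g ∈ Γ.Ctr z D}).Normal := by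
  constructor
  intro n hn h
  induction hn using Subgroup.closure_induction with
  | mem g hg =>
    obtain ⟨z, D, hzD, hg⟩ := hg
    exact Subgroup.subset_closure ⟨h • z, h • D, (Γ.inv h z D).2 hzD, Γ.Ctr_conj hg h⟩
  | one => simp
  | mul a b _ _ iha ihb =>
    rw [show h * (a * b) * h⁻¹ = (h * a * h⁻¹) * (h * b * h⁻¹) by group]
    exact mul_mem iha ihb
  | inv a _ iha =>
    rw [show h * a⁻¹ * h⁻¹ = (h * a * h⁻¹)⁻¹ by group]
    exact inv_mem iha

include Q in
/-- The design is a projective space over a finite field; elations are transvections. -/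
theorem exists_projective :
    ∃ (m : ℕ) (F : Type) (_ : Field F) (_ : Fintype F)
      (π : X ≃ Projectivization F (Fin (m + 1) → F)), 2 ≤ m ∧ Nat.card F = Q.q ∧
      ∀ D, ∃ φ : Dual F (Fin (m + 1) → F), φ ≠ 0 ∧ Γ.Rel π D φ := by
  classical
  obtain ⟨B⟩ := Γ.toDsn.nonemptyY
  obtain ⟨O, hO⟩ := Γ.exists_out B
  set P := Γ.part Q B with hP
  obtain ⟨za, hza⟩ := Γ.exists_pt B
  obtain ⟨zb, hzb, hne⟩ := Γ.exists_other_pt hza
  obtain ⟨hfield, hcard⟩ := P.ker_field (Γ.hasScalars Q hO) (z₀ := ⟨zb, hzb⟩) (z₁ := ⟨za, hza⟩)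
    (fun e => hne (congrArg Subtype.val e))
  letI := hfield.toField
  have : Finite (AddMonoid.End (Γ.Trl B)) :=
    Finite.of_injective (fun f => (f : Γ.Trl B → Γ.Trl B)) DFunLike.coe_injective
  letI := Fintype.ofFinite P.ker
  obtain ⟨p, hp⟩ := CharP.exists P.ker
  obtain ⟨⟨n, hn⟩, hpn, hKn⟩ := FiniteField.card P.ker p
  have := Fact.mk hpn
  letI := Fintype.ofFinite (GaloisField p n)
  have hGK : Fintype.card (GaloisField p n) = Fintype.card P.ker := by
    rw [hKn, ← Nat.card_eq_fintype_card, GaloisField.card p n hn.ne']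
    rfl
  let e : GaloisField p n ≃+* P.ker := FiniteField.ringEquivOfCardEq hGK
  letI : Module (GaloisField p n) (Γ.Trl B) :=
    Module.compHom (Γ.Trl B) (P.ker.subtype.comp (e : GaloisField p n →+* P.ker))
  have hqF : Nat.card (GaloisField p n) = Q.q := by
    rw [Nat.card_congr e.toEquiv, hcard]; rfl
  obtain ⟨π, hπ⟩ := Γ.exists_coordinates Q hO (F := GaloisField p n)
    (fun z hz c a ha => (e c).2 ⟨z, hz⟩ a ha)
    (fun z hz v hv hv0 w hw => by
      obtain ⟨φ, hφ, hφv⟩ := Γ.hasScalars Q hO ⟨z, hz⟩ v w hv hv0 hw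
      refine ⟨e.symm ⟨φ, hφ⟩, ?_⟩
      show (e (e.symm ⟨φ, hφ⟩) : AddMonoid.End (Γ.Trl B)) v = w
      rw [e.apply_symm_apply]
      exact hφv)
    hqF
  have : Module.Finite (GaloisField p n) (Γ.Trl B) := Module.Finite.of_finite
  set m := finrank (GaloisField p n) (Γ.Trl B) with hm
  have hW : Nat.card (Γ.Trl B) = Q.q * (Γ.k - Γ.lam) := by
    rw [Nat.card_congr Additive.toMul, Q.e_card, Q.out_eq]
  have hpow : Q.q ^ m = Q.q * (Γ.k - Γ.lam) := by
    rw [← hW, Module.natCard_eq_pow_finrank (K := GaloisField p n), hqF]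
  have hm2 : 2 ≤ m := by
    have hk := Q.k_eq
    have h2 : 2 * Γ.lam ≤ Q.q * Γ.lam := Nat.mul_le_mul_right _ Q.two_le
    have hl := Γ.toDsn.lam_pos
    by_contra hlt
    have h3 : Q.q ^ m ≤ Q.q ^ 1 := Nat.pow_le_pow_right (by have := Q.two_le; omega) (by omega)
    rw [hpow, pow_one] at h3
    have h4 : Q.q * 2 ≤ Q.q * (Γ.k - Γ.lam) := Nat.mul_le_mul_left _ (by omega)
    have := Q.two_le
    omega
  obtain ⟨ℓ⟩ : Nonempty ((GaloisField p n × Γ.Trl B) ≃ₗ[GaloisField p n]
      (Fin (m + 1) → GaloisField p n)) :=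
    FiniteDimensional.nonempty_linearEquiv_of_finrank_eq (by
      rw [Module.finrank_prod, Module.finrank_self, Module.finrank_fin_fun, hm, add_comm])
  have hbij : Function.Bijective (fun x => Projectivization.map ℓ.toLinearMap ℓ.injective (π x)) := by
    refine ⟨(Projectivization.map_injective _ _).comp π.injective, fun r => ?_⟩
    induction r using Projectivization.ind with
    | h v hv =>
      refine ⟨π.symm (Projectivization.mk _ (ℓ.symm v) (ℓ.symm.map_ne_zero_iff.2 hv)), ?_⟩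
      simp [Projectivization.map_mk]
  refine ⟨m, GaloisField p n, inferInstance, inferInstance, Equiv.ofBijective _ hbij, hm2, hqF,
    fun D => ?_⟩
  obtain ⟨φ, hφ0, hφ⟩ := hπ D
  refine ⟨φ ∘ₗ ℓ.symm.toLinearMap, fun e' => hφ0 (LinearMap.ext fun v => ?_), fun x v hv e' => ?_⟩
  · simpa using DFunLike.congr_fun e' (ℓ v)
  · rw [LinearMap.comp_apply]
    refine hφ x _ (ℓ.symm.map_ne_zero_iff.2 hv) ?_
    refine Projectivization.map_injective ℓ.toLinearMap ℓ.injective ?_
    rw [show Projectivization.map ℓ.toLinearMap ℓ.injective (π x) = Projectivization.mk _ v hv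
      from e']
    simp [Projectivization.map_mk]

end Geo

end Cfsg.Agent.Axial80
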