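import Mathlib
import Cfsg.Agent.Lib.Axial80Design

/-!
# Finite projective planes with a group of collineations: axial collineations and involutions
-/

set_option autoImplicit false

namespace Cfsg.Agent.OW85

open Finset MulAction
open Cfsg.Agent.Axial80

/-- A projective plane (a symmetric design with `lam = 1`) with a faithful group of collineations. -/
structure Pl (G X Y : Type*) [Group G] [Fintype X] [Fintype Y] [DecidableEq X] [DecidableEq Y]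
    [MulAction G X] [MulAction G Y] extends Dsn X Y where
  lam_one : lam = 1
  inv : ∀ (g : G) (x : X) (y : Y), I (g • x) (g • y) ↔ I x y
  faith : ∀ g : G, (∀ x : X, g • x = x) → g = 1

/-- A fixed point free involution lives on a set of even size. -/
lemma even_card_of_fpf {α : Type*} (s : Finset α) (f : α → α) (hs : ∀ a ∈ s, f a ∈ s)
    (hf : ∀ a ∈ s, f (f a) = a) (hne : ∀ a ∈ s, f a ≠ a) : Even s.card := by
  have h : ∑ _a ∈ s, (1 : ZMod 2) = 0 :=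
    Finset.sum_involution (fun a _ => f a) (fun _ _ => CharTwo.add_self_eq_zero 1)
      (fun a ha _ => hne a ha) hs hf
  rw [sum_const, nsmul_eq_mul, mul_one, ZMod.natCast_eq_zero_iff_even] at h
  exact h

variable {G X Y : Type*} [Group G] [Fintype X] [Fintype Y] [DecidableEq X] [DecidableEq Y]
  [MulAction G X] [MulAction G Y]

namespace Pl

variable (Γ : Pl G X Y)

/-- The order of the plane. -/
def n : ℕ := Γ.k - 1

include Γ

lemma k_eq : Γ.k = Γ.n + 1 := by have := Γ.two_le; simp only [n]; omega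

lemma card_X : Fintype.card X = Γ.n * Γ.n + Γ.n + 1 := by
  have h := Γ.toDsn.eqn
  rw [Γ.lam_one, one_mul, Γ.k_eq] at h
  have := Γ.lt_v
  simp only [Nat.add_sub_cancel] at h
  have e : (Γ.n + 1) * Γ.n = Γ.n * Γ.n + Γ.n := by ring
  omega

lemma card_Y : Fintype.card Y = Γ.n * Γ.n + Γ.n + 1 := Γ.cardEq ▸ Γ.card_X

lemma two_le_n : 2 ≤ Γ.n := by
  have h := Γ.lt_v
  have h1 := Γ.two_le
  rw [Γ.card_X, Γ.k_eq] at h
  rw [Γ.k_eq] at h1
  by_contra hc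
  have : Γ.n = 1 := by omega
  rw [this] at h
  norm_num at h

lemma eq_line {x x' : X} {y y' : Y} (h : x ≠ x') (a : Γ.I x y) (b : Γ.I x' y) (c : Γ.I x y')
    (d : Γ.I x' y') : y = y' := by
  have h1 := Γ.meetBlks x x' h
  rw [Γ.lam_one] at h1
  exact card_le_one.1 h1.le y (mem_inter.2 ⟨mem_blksOf.2 a, mem_blksOf.2 b⟩) y'
    (mem_inter.2 ⟨mem_blksOf.2 c, mem_blksOf.2 d⟩)

lemma eq_point {x x' : X} {y y' : Y} (h : y ≠ y') (a : Γ.I x y) (b : Γ.I x' y) (c : Γ.I x y')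
    (d : Γ.I x' y') : x = x' := by
  by_contra hc
  exact h (Γ.eq_line hc a b c d)

lemma exists_join {x x' : X} (h : x ≠ x') : ∃ y, Γ.I x y ∧ Γ.I x' y := by
  obtain ⟨y, hy⟩ : (blksOf Γ.I x ∩ blksOf Γ.I x').Nonempty :=
    card_pos.1 (by rw [Γ.meetBlks x x' h, Γ.lam_one]; norm_num)
  exact ⟨y, mem_blksOf.1 (mem_inter.1 hy).1, mem_blksOf.1 (mem_inter.1 hy).2⟩

lemma exists_meet {y y' : Y} (h : y ≠ y') : ∃ x, Γ.I x y ∧ Γ.I x y' := by
  obtain ⟨x, hx⟩ : (ptsOf Γ.I y ∩ ptsOf Γ.I y').Nonempty :=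
    card_pos.1 (by rw [Γ.meetPts y y' h, Γ.lam_one]; norm_num)
  exact ⟨x, mem_ptsOf.1 (mem_inter.1 hx).1, mem_ptsOf.1 (mem_inter.1 hx).2⟩

lemma exists_join_any (x x' : X) : ∃ y, Γ.I x y ∧ Γ.I x' y := by
  by_cases h : x = x'
  · obtain ⟨y, hy⟩ : (blksOf Γ.I x).Nonempty :=
      card_pos.1 (by rw [Γ.cardBlks]; have := Γ.two_le; omega)
    exact ⟨y, mem_blksOf.1 hy, h ▸ mem_blksOf.1 hy⟩
  · exact Γ.exists_join h

/-- A third point on every line. -/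
lemma exists_pt_avoid (y : Y) (a b : X) : ∃ x, Γ.I x y ∧ x ≠ a ∧ x ≠ b := by
  have h1 : ({a, b} : Finset X).card < (ptsOf Γ.I y).card := by
    have := Γ.two_le_n
    rw [Γ.cardPts, Γ.k_eq]
    exact (card_insert_le _ _).trans_lt (by rw [card_singleton]; omega)
  obtain ⟨x, hx, hx'⟩ := exists_mem_notMem_of_card_lt_card h1
  exact ⟨x, mem_ptsOf.1 hx, by simpa [not_or] using hx'⟩

lemma exists_line_avoid (x : X) (a b : Y) : ∃ y, Γ.I x y ∧ y ≠ a ∧ y ≠ b := by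
  have h1 : ({a, b} : Finset Y).card < (blksOf Γ.I x).card := by
    have := Γ.two_le_n
    rw [Γ.cardBlks, Γ.k_eq]
    exact (card_insert_le _ _).trans_lt (by rw [card_singleton]; omega)
  obtain ⟨y, hy, hy'⟩ := exists_mem_notMem_of_card_lt_card h1
  exact ⟨y, mem_blksOf.1 hy, by simpa [not_or] using hy'⟩

lemma exists_out (y : Y) : ∃ x, ¬ Γ.I x y := by
  by_contra hc
  push_neg at hc
  have : ptsOf Γ.I y = univ := eq_univ_iff_forall.2 fun x => mem_ptsOf.2 (hc x)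
  have h := Γ.cardPts y
  rw [this, card_univ] at h
  have := Γ.lt_v
  omega

lemma isAut (g : G) : Γ.toDsn.IsAut (MulAction.toPerm g) (MulAction.toPerm g) :=
  fun x y => Γ.inv g x y

lemma card_fix (g : G) :
    (univ.filter fun x : X => g • x = x).card = (univ.filter fun y : Y => g • y = y).card :=
  (Γ.isAut g).card_fix

lemma faithY (g : G) (h : ∀ y : Y, g • y = y) : g = 1 := by
  refine Γ.faith g fun x => Γ.toDsn.blks_injective ?_
  ext y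
  have := Γ.inv g x y
  rw [h y] at this
  simp [mem_blksOf, this]

/-- The dual plane. -/
def dual : Pl G Y X where
  toDsn := Γ.toDsn.dual
  lam_one := Γ.lam_one
  inv g y x := Γ.inv g x y
  faith := Γ.faithY

omit Γ in
@[simp] lemma dual_I (Γ : Pl G X Y) (y : Y) (x : X) : Γ.dual.I y x ↔ Γ.I x y := Iff.rfl

omit Γ in
@[simp] lemma dual_n (Γ : Pl G X Y) : Γ.dual.n = Γ.n := rfl

lemma inv_fixed {g : G} {y : Y} (h : g • y = y) (x : X) : Γ.I (g • x) y ↔ Γ.I x y := by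
  have := Γ.inv g x y
  rwa [h] at this

lemma fixed_join {g : G} {x x' : X} {y : Y} (hne : x ≠ x') (hx : g • x = x) (hx' : g • x' = x')
    (a : Γ.I x y) (b : Γ.I x' y) : g • y = y := by
  refine Γ.eq_line hne ?_ ?_ a b
  · have := (Γ.inv g x y).2 a; rwa [hx] at this
  · have := (Γ.inv g x' y).2 b; rwa [hx'] at this

lemma fixed_meet {g : G} {x : X} {y y' : Y} (hne : y ≠ y') (hy : g • y = y) (hy' : g • y' = y')
    (a : Γ.I x y) (b : Γ.I x y') : g • x = x :=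
  Γ.dual.fixed_join hne hy hy' a b

/-- `g` fixes every point of the line `l`. -/
def Ax (g : G) (l : Y) : Prop := ∀ x, Γ.I x l → g • x = x

/-- `g` fixes every line through the point `C`. -/
def Cn (g : G) (C : X) : Prop := ∀ y, Γ.I C y → g • y = y

omit Γ in
lemma dual_Ax (Γ : Pl G X Y) (g : G) (C : X) : Γ.dual.Ax g C ↔ Γ.Cn g C := Iff.rfl

omit Γ in
lemma dual_Cn (Γ : Pl G X Y) (g : G) (l : Y) : Γ.dual.Cn g l ↔ Γ.Ax g l := Iff.rfl

variable {Γ}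

lemma Ax.fix_line {g : G} {l : Y} (h : Γ.Ax g l) : g • l = l := by
  obtain ⟨a, ha, -, -⟩ := Γ.exists_pt_avoid l (Γ.toDsn.nonemptyX.some) (Γ.toDsn.nonemptyX.some)
  obtain ⟨b, hb, hba, -⟩ := Γ.exists_pt_avoid l a a
  exact Γ.fixed_join hba.symm (h a ha) (h b hb) ha hb

lemma Cn.fix_point {g : G} {C : X} (h : Γ.Cn g C) : g • C = C :=
  Ax.fix_line (Γ := Γ.dual) h

lemma Ax.mul {g h : G} {l : Y} (a : Γ.Ax g l) (b : Γ.Ax h l) : Γ.Ax (g * h) l :=
  fun x hx => by rw [mul_smul, b x hx, a x hx]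

lemma Ax.inv' {g : G} {l : Y} (a : Γ.Ax g l) : Γ.Ax g⁻¹ l :=
  fun x hx => inv_smul_eq_iff.2 (a x hx).symm

lemma Ax.conj {g : G} {l : Y} (a : Γ.Ax g l) (h : G) : Γ.Ax (h * g * h⁻¹) (h • l) := by
  intro x hx
  have : Γ.I (h⁻¹ • x) l := by
    have := Γ.inv h (h⁻¹ • x) l
    rw [smul_inv_smul] at this
    exact this.1 hx
  rw [mul_smul, mul_smul, a _ this, smul_inv_smul]

lemma Cn.mul {g h : G} {C : X} (a : Γ.Cn g C) (b : Γ.Cn h C) : Γ.Cn (g * h) C :=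
  Ax.mul (Γ := Γ.dual) a b

lemma Cn.inv' {g : G} {C : X} (a : Γ.Cn g C) : Γ.Cn g⁻¹ C :=
  Ax.inv' (Γ := Γ.dual) a

lemma Cn.conj {g : G} {C : X} (a : Γ.Cn g C) (h : G) : Γ.Cn (h * g * h⁻¹) (h • C) :=
  Ax.conj (Γ := Γ.dual) a h

lemma Ax.eq_one_of_two {g : G} {l : Y} (h : Γ.Ax g l) {P Q : X} (hP : ¬ Γ.I P l)
    (hQ : ¬ Γ.I Q l) (hPQ : P ≠ Q) (hfP : g • P = P) (hfQ : g • Q = Q) : g = 1 := by
  have h1 := (Γ.isAut g).eq_one_of_two_fixed (B := l) (fun x hx => h x (mem_ptsOf.1 hx))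
    (fun e => hP (mem_ptsOf.1 e)) (fun e => hQ (mem_ptsOf.1 e)) hPQ hfP hfQ
  exact Γ.faith g fun x => by simpa using congrArg (fun σ => σ x) h1

lemma Ax.centre_of_fixed {g : G} {l : Y} (h : Γ.Ax g l) {C : X} (hC : ¬ Γ.I C l)
    (hfC : g • C = C) : Γ.Cn g C := by
  intro y hy
  exact ((Γ.isAut g).axial (B := l) fun x hx => h x (mem_ptsOf.1 hx)).1 C
    (fun e => hC (mem_ptsOf.1 e)) hfC y (mem_blksOf.2 hy)

lemma Ax.exists_centre {g : G} {l : Y} (h : Γ.Ax g l) : ∃ C, Γ.Cn g C := by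
  classical
  by_cases hoff : ∃ C, ¬ Γ.I C l ∧ g • C = C
  · obtain ⟨C, hC, hfC⟩ := hoff
    exact ⟨C, h.centre_of_fixed hC hfC⟩
  push_neg at hoff
  have hcard := (Γ.isAut g).card_fixBlk (B := l) (fun x hx => h x (mem_ptsOf.1 hx))
    fun x hx => hoff x fun e => hx (mem_ptsOf.2 e)
  set S := univ.filter fun y : Y => g • y = y with hS
  have hScard : S.card = Γ.k := by simpa [hS] using hcard
  obtain ⟨m, hm, hml⟩ : ∃ m ∈ S, m ≠ l := exists_mem_ne (by rw [hScard]; exact Γ.two_le) l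
  obtain ⟨C, hCl, hCm⟩ := Γ.exists_meet hml.symm
  have hsub : S ⊆ blksOf Γ.I C := by
    intro y hy
    rw [mem_blksOf]
    by_contra hCy
    have hyl : y ≠ l := fun e => hCy (e ▸ hCl)
    have hym : y ≠ m := fun e => hCy (e ▸ hCm)
    obtain ⟨X0, hXy, hXm⟩ := Γ.exists_meet hym
    have hfix := Γ.fixed_meet hym (mem_filter.1 hy).2 (mem_filter.1 hm).2 hXy hXm
    refine hoff X0 (fun e => hCy ?_) hfix
    have : C = X0 := Γ.eq_point hml.symm hCl e hCm hXm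
    rwa [this]
  refine ⟨C, fun y hy => ?_⟩
  have : y ∈ S := by
    rw [eq_of_subset_of_card_le hsub (by rw [Γ.cardBlks, hScard])]
    exact mem_blksOf.2 hy
  exact (mem_filter.1 this).2

lemma Cn.exists_axis {g : G} {C : X} (h : Γ.Cn g C) : ∃ l, Γ.Ax g l :=
  Ax.exists_centre (Γ := Γ.dual) h

lemma Ax.unique {g : G} {l m : Y} (a : Γ.Ax g l) (b : Γ.Ax g m) (h1 : g ≠ 1) : l = m := by
  by_contra hlm
  obtain ⟨Z, hZl, hZm⟩ := Γ.exists_meet hlm
  obtain ⟨P, hP, hPZ, -⟩ := Γ.exists_pt_avoid m Z Z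
  obtain ⟨Q, hQ, hQZ, hQP⟩ := Γ.exists_pt_avoid m Z P
  refine h1 (a.eq_one_of_two (fun e => hPZ ?_) (fun e => hQZ ?_) hQP.symm (b P hP) (b Q hQ))
  · exact Γ.eq_point hlm e hZl hP hZm
  · exact Γ.eq_point hlm e hZl hQ hZm

lemma Cn.unique {g : G} {C D : X} (a : Γ.Cn g C) (b : Γ.Cn g D) (h1 : g ≠ 1) : C = D :=
  Ax.unique (Γ := Γ.dual) a b h1

lemma Ax.fix_iff {g : G} {l : Y} {C : X} (a : Γ.Ax g l) (c : Γ.Cn g C) (h1 : g ≠ 1) (x : X) :
    g • x = x ↔ Γ.I x l ∨ x = C := by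
  refine ⟨fun h => or_iff_not_imp_left.2 fun hx => ?_, ?_⟩
  · exact (a.centre_of_fixed hx h).unique c h1
  · rintro (h | rfl)
    · exact a x h
    · exact c.fix_point

lemma Cn.fix_iff {g : G} {l : Y} {C : X} (c : Γ.Cn g C) (a : Γ.Ax g l) (h1 : g ≠ 1) (y : Y) :
    g • y = y ↔ Γ.I C y ∨ y = l :=
  Ax.fix_iff (Γ := Γ.dual) c a h1 y

variable (Γ)

/-- An involutory perspectivity with centre `C` and axis `l`. -/
def Hom (C : X) (l : Y) (g : G) : Prop := g * g = 1 ∧ g ≠ 1 ∧ Γ.Ax g l ∧ Γ.Cn g C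

variable {Γ}

lemma Hom.dual {C : X} {l : Y} {g : G} (h : Γ.Hom C l g) : Γ.dual.Hom l C g :=
  ⟨h.1, h.2.1, h.2.2.2, h.2.2.1⟩

lemma Hom.invol {C : X} {l : Y} {g : G} (h : Γ.Hom C l g) : g⁻¹ = g :=
  inv_eq_of_mul_eq_one_right h.1

lemma Hom.not_inc {C : X} {l : Y} {g : G} (h : Γ.Hom C l g) (hn : Odd Γ.n) : ¬ Γ.I C l := by
  intro hCl
  obtain ⟨hgg, hg1, ha, hc⟩ := h
  obtain ⟨m, hm, hml, -⟩ := Γ.exists_line_avoid C l l
  have hgm : g • m = m := hc m hm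
  have he := even_card_of_fpf ((ptsOf Γ.I m).erase C) (fun x => g • x) (fun x hx => ?_)
    (fun x _ => by rw [← mul_smul, hgg, one_smul]) (fun x hx hfx => ?_)
  · rw [card_erase_of_mem (mem_ptsOf.2 hm), Γ.cardPts, Γ.k_eq, Nat.add_sub_cancel] at he
    exact Nat.not_even_iff_odd.2 hn he
  · obtain ⟨hxC, hxm⟩ := mem_erase.1 hx
    refine mem_erase.2 ⟨fun e => hxC ?_, mem_ptsOf.2 ((Γ.inv_fixed hgm x).2 (mem_ptsOf.1 hxm))⟩
    exact smul_left_cancel g (e.trans hc.fix_point.symm)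
  · obtain ⟨hxC, hxm⟩ := mem_erase.1 hx
    rcases (ha.fix_iff hc hg1 x).1 hfx with e | e
    · exact hxC (Γ.eq_point hml.symm e hCl (mem_ptsOf.1 hxm) hm)
    · exact hxC e

variable (Γ)

/-- Three points in no common line. -/
def Gen3 (a b c : X) : Prop := ∀ y, Γ.I a y → Γ.I b y → ¬ Γ.I c y

/-- `F` contains four points no three of which are collinear. -/
def Quad (F : X → Prop) : Prop :=
  ∃ a b c d, F a ∧ F b ∧ F c ∧ F d ∧ Γ.Gen3 a b c ∧ Γ.Gen3 a b d ∧ Γ.Gen3 a c d ∧ Γ.Gen3 b c d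

lemma Gen3.ne {a b c : X} (h : Γ.Gen3 a b c) : a ≠ b ∧ a ≠ c ∧ b ≠ c := by
  refine ⟨?_, ?_, ?_⟩ <;> rintro rfl
  · obtain ⟨y, h1, h2⟩ := Γ.exists_join_any a c
    exact h y h1 h1 h2
  · obtain ⟨y, h1, h2⟩ := Γ.exists_join_any a b
    exact h y h1 h2 h1
  · obtain ⟨y, h1, h2⟩ := Γ.exists_join_any a b
    exact h y h1 h2 h2

lemma gen3_of {a b c : X} {y : Y} (hne : a ≠ b) (ha : Γ.I a y) (hb : Γ.I b y)
    (hc : ¬ Γ.I c y) : Γ.Gen3 a b c :=
  fun y' ha' hb' hc' => hc (Γ.eq_line hne ha hb ha' hb' ▸ hc')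

/-- A set of points without quadrangle lies on a line, with at most one exception. -/
lemma cover_of_not_quad (F : X → Prop) (hq : ¬ Γ.Quad F) :
    ∃ (l : Y) (C : X), ∀ x, F x → Γ.I x l ∨ x = C := by
  classical
  obtain ⟨x₀⟩ := Γ.toDsn.nonemptyX
  by_cases h1 : ∃ a b, F a ∧ F b ∧ a ≠ b
  swap
  · push_neg at h1
    obtain ⟨y, -, -⟩ := Γ.exists_join_any x₀ x₀
    by_cases h0 : ∃ a, F a
    · obtain ⟨a, ha⟩ := h0
      exact ⟨y, a, fun x hx => Or.inr (h1 x a hx ha)⟩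
    · exact ⟨y, x₀, fun x hx => absurd ⟨x, hx⟩ h0⟩
  obtain ⟨P, Q, hP, hQ, hPQ⟩ := h1
  obtain ⟨lR, hlP, hlQ⟩ := Γ.exists_join hPQ
  by_cases h2 : ∀ x, F x → Γ.I x lR
  · exact ⟨lR, P, fun x hx => Or.inl (h2 x hx)⟩
  push_neg at h2
  obtain ⟨R, hR, hRl⟩ := h2
  have hPR : P ≠ R := fun e => hRl (e ▸ hlP)
  have hQR : Q ≠ R := fun e => hRl (e ▸ hlQ)
  obtain ⟨lQ, hqP, hqR⟩ := Γ.exists_join hPR
  obtain ⟨lP, hpQ, hpR⟩ := Γ.exists_join hQR
  -- every point lies on one of the three sides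
  have hside : ∀ x, F x → Γ.I x lR ∨ Γ.I x lQ ∨ Γ.I x lP := by
    intro x hx
    by_contra hc
    push_neg at hc
    exact hq ⟨P, Q, R, x, hP, hQ, hR, hx, Γ.gen3_of hPQ hlP hlQ hRl,
      Γ.gen3_of hPQ hlP hlQ hc.1, Γ.gen3_of hPR hqP hqR hc.2.1, Γ.gen3_of hQR hpQ hpR hc.2.2⟩
  -- two sides cannot both have extra points
  have key : ∀ (A B C : X) (m m' : Y), A ≠ B → A ≠ C → Γ.I A m → Γ.I B m → ¬ Γ.I C m →
      Γ.I A m' → Γ.I C m' → F B → F C →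
      ∀ x z, F x → F z → Γ.I x m → x ≠ A → x ≠ B → Γ.I z m' → z ≠ A → z ≠ C → False := by
    intro A B C m m' hAB hAC hAm hBm hCm hAm' hCm' hFB hFC x z hFx hFz hxm hxA hxB hzm' hzA hzC
    have hmm : m ≠ m' := fun e => hCm (e ▸ hCm')
    have hzm : ¬ Γ.I z m := fun e => hzA (Γ.eq_point hmm e hAm hzm' hAm')
    have hBm' : ¬ Γ.I B m' := fun e => hAB (Γ.eq_point hmm hAm hBm hAm' e)
    have hxm' : ¬ Γ.I x m' := fun e => hxA (Γ.eq_point hmm hxm hAm e hAm')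
    refine hq ⟨B, x, C, z, hFB, hFx, hFC, hFz, Γ.gen3_of hxB.symm hBm hxm hCm,
      Γ.gen3_of hxB.symm hBm hxm hzm, ?_, ?_⟩
    · intro y h1 h2 h3
      exact Γ.gen3_of hzC.symm hCm' hzm' hBm' y h2 h3 h1
    · intro y h1 h2 h3
      exact Γ.gen3_of hzC.symm hCm' hzm' hxm' y h2 h3 h1
  have hPp : ¬ Γ.I P lP := fun e => hRl ((Γ.eq_line hPQ hlP hlQ e hpQ).symm ▸ hpR)
  have hQq : ¬ Γ.I Q lQ := fun e => hRl ((Γ.eq_line hPQ hlP hlQ hqP e).symm ▸ hqR)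
  by_cases e1 : ∃ x, F x ∧ Γ.I x lR ∧ x ≠ P ∧ x ≠ Q
  · obtain ⟨x, hx, hxl, hxP, hxQ⟩ := e1
    refine ⟨lR, R, fun z hz => ?_⟩
    by_contra hc
    push_neg at hc
    rcases hside z hz with h | h | h
    · exact hc.1 h
    · refine key P Q R lR lQ hPQ hPR hlP hlQ hRl hqP hqR hQ hR x z hx hz hxl hxP hxQ h ?_ hc.2
      exact fun e => hc.1 (e ▸ hlP)
    · refine key Q P R lR lP hPQ.symm hQR hlQ hlP hRl hpQ hpR hP hR x z hx hz hxl hxQ hxP h ?_ hc.2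
      exact fun e => hc.1 (e ▸ hlQ)
  push_neg at e1
  have e1' : ∀ x, F x → Γ.I x lR → x = P ∨ x = Q := fun x a b => or_iff_not_imp_left.2 (e1 x a b)
  by_cases e2 : ∃ x, F x ∧ Γ.I x lQ ∧ x ≠ P ∧ x ≠ R
  · obtain ⟨x, hx, hxl, hxP, hxR⟩ := e2
    refine ⟨lQ, Q, fun z hz => ?_⟩
    by_contra hc
    push_neg at hc
    rcases hside z hz with h | h | h
    · rcases e1' z hz h with e | e
      · exact hc.1 (e ▸ hqP)
      · exact hc.2 e
    · exact hc.1 h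
    · refine key R P Q lQ lP hPR.symm hQR.symm hqR hqP hQq hpR hpQ hP hQ x z hx hz hxl hxR hxP h
        ?_ hc.2
      exact fun e => hc.1 (e ▸ hqR)
  push_neg at e2
  have e2' : ∀ x, F x → Γ.I x lQ → x = P ∨ x = R := fun x a b => or_iff_not_imp_left.2 (e2 x a b)
  refine ⟨lP, P, fun z hz => ?_⟩
  rcases hside z hz with h | h | h
  · rcases e1' z hz h with e | e
    · exact Or.inr e
    · exact Or.inl (e ▸ hpQ)
  · rcases e2' z hz h with e | e
    · exact Or.inr e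
    · exact Or.inl (e ▸ hpR)
  · exact Or.inl h

lemma moved_on_fixed_line {g : G} (hgg : g * g = 1) {x : X} (hx : g • x ≠ x) :
    ∃ y, Γ.I x y ∧ g • y = y := by
  obtain ⟨y, h1, h2⟩ := Γ.exists_join (fun e => hx e.symm)
  refine ⟨y, h1, Γ.eq_line (fun e => hx e.symm) ?_ ?_ h1 h2⟩
  · have := (Γ.inv g (g • x) y).2 h2
    rwa [← mul_smul, hgg, one_smul] at this
  · exact (Γ.inv g x y).2 h1

lemma moved_line_has_fixed {g : G} (hgg : g * g = 1) {y : Y} (hy : g • y ≠ y) :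
    ∃ x, Γ.I x y ∧ g • x = x :=
  Γ.dual.moved_on_fixed_line hgg hy

/-- An involution either fixes a quadrangle or is a perspectivity. -/
theorem invol_dichotomy (hn : 3 ≤ Γ.n) {g : G} (hgg : g * g = 1) (h1 : g ≠ 1)
    (hq : ¬ Γ.Quad fun x => g • x = x) : ∃ C l, Γ.Hom C l g := by
  classical
  obtain ⟨l, C, hF⟩ := Γ.cover_of_not_quad _ hq
  have hl : Γ.Ax g l := by
    intro x hxl
    by_contra hx
    obtain ⟨f, hxf, hf⟩ := Γ.moved_on_fixed_line hgg hx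
    have hcard : ({l, f} : Finset Y).card + 1 < (blksOf Γ.I x).card := by
      rw [Γ.cardBlks, Γ.k_eq]
      have : ({l, f} : Finset Y).card ≤ 2 :=
        (card_insert_le _ _).trans (by rw [card_singleton])
      omega
    obtain ⟨a, ha, b, hb, hab⟩ := one_lt_card.1
      (show 1 < (blksOf Γ.I x \ {l, f}).card by
        have := le_card_sdiff ({l, f} : Finset Y) (blksOf Γ.I x)
        omega)
    have key : ∀ m ∈ blksOf Γ.I x \ {l, f}, Γ.I C m ∧ g • C = C := by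
      intro m hm
      simp only [mem_sdiff, mem_blksOf, mem_insert, mem_singleton, not_or] at hm
      obtain ⟨hxm, hml, hmf⟩ := hm
      have hmv : g • m ≠ m := fun e => hx (Γ.fixed_meet hmf e hf hxm hxf)
      obtain ⟨z, hzm, hz⟩ := Γ.moved_line_has_fixed hgg hmv
      rcases hF z hz with hzl | rfl
      · exact absurd (Γ.eq_point hml hzm hxm hzl hxl ▸ hz) hx
      · exact ⟨hzm, hz⟩
    obtain ⟨hCa, hC⟩ := key a ha
    obtain ⟨hCb, -⟩ := key b hb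
    refine hab (Γ.eq_line (x := C) (x' := x) (fun e => hx (e ▸ hC)) hCa ?_ hCb ?_)
    · exact mem_blksOf.1 (mem_sdiff.1 ha).1
    · exact mem_blksOf.1 (mem_sdiff.1 hb).1
  obtain ⟨C', hC'⟩ := hl.exists_centre
  exact ⟨C', l, hgg, h1, hl, hC'⟩

end Pl

end Cfsg.Agent.OW85
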