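import Mathlib
import Cfsg.Agent.Lib.OW85Plane

/-!
# Planes of odd order in which any two points, and any two lines, are fixed by an involutory homology

The order of such a plane is a prime power.
-/

set_option autoImplicit false

namespace Cfsg.Agent.OW85

open Finset MulAction
open Cfsg.Agent.Axial80

/-- An involution normalising a subgroup of even order centralises an involution of it. -/
lemma exists_invol_comm {G : Type*} [Group G] [Finite G] {g : G} (hg : g * g = 1) (K : Subgroup G)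
    (hK : ∀ x ∈ K, g * x * g ∈ K) {h : G} (hh : h ∈ K) (hh2 : h * h = 1) (hh1 : h ≠ 1) :
    ∃ x ∈ K, x * x = 1 ∧ x ≠ 1 ∧ g * x = x * g := by
  classical
  have := Fintype.ofFinite G
  set T := (univ : Finset G).filter fun x => x ∈ K with hT
  set S := T.filter fun x => x * x = 1 with hS
  have hTK : T.card = Nat.card K := by
    rw [Nat.card_eq_fintype_card, hT, ← Fintype.card_subtype]
  have h2 : Even T.card := by
    rw [hTK, even_iff_two_dvd]
    have : orderOf (⟨h, hh⟩ : K) = 2 :=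
      orderOf_eq_prime (Subtype.ext (by simpa [pow_two] using hh2))
        fun e => hh1 (congrArg Subtype.val e)
    exact this ▸ orderOf_dvd_natCard _
  have hnon : Even (T.filter fun x => ¬ x * x = 1).card := by
    refine even_card_of_fpf _ (fun x => x⁻¹) ?_ (fun x _ => inv_inv x) ?_
    · intro x hx
      simp only [hT, mem_filter, mem_univ, true_and] at hx ⊢
      refine ⟨inv_mem hx.1, fun e => hx.2 ?_⟩
      rw [← inv_inj, mul_inv_rev, inv_one]
      exact e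
    · intro x hx e
      exact (mem_filter.1 hx).2 (by conv_lhs => arg 1; rw [← e]
                                    exact inv_mul_cancel x)
  have hSeven : Even S.card := by
    have := card_filter_add_card_filter_not (s := T) (fun x => x * x = 1)
    rw [← this, Nat.even_add] at h2
    exact h2.2 hnon
  by_contra hc
  push_neg at hc
  have hodd : Even (S.erase 1).card := by
    refine even_card_of_fpf _ (fun x => g * x * g) ?_ ?_ ?_
    · intro x hx
      simp only [hS, hT, mem_erase, mem_filter, mem_univ, true_and] at hx ⊢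
      refine ⟨fun e => hx.1 ?_, hK x hx.2.1, ?_⟩
      · calc x = (g * g) * x * (g * g) := by rw [hg]; group
          _ = g * (g * x * g) * g := by group
          _ = 1 := by rw [e, mul_one, hg]
      · calc g * x * g * (g * x * g) = g * x * (g * g) * x * g := by group
          _ = g * (x * x) * g := by rw [hg]; group
          _ = 1 := by rw [hx.2.2, mul_one, hg]
    · intro x _
      calc g * (g * x * g) * g = (g * g) * x * (g * g) := by group
        _ = x := by rw [hg]; group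
    · intro x hx e
      simp only [hS, hT, mem_erase, mem_filter, mem_univ, true_and] at hx
      refine hc x hx.2.1 hx.2.2 hx.1 ?_
      calc g * x = g * x * (g * g) := by rw [hg]; group
        _ = (g * x * g) * g := by group
        _ = x * g := by rw [e]
  have h1 : (1 : G) ∈ S := by simp [hS, hT]
  have := card_erase_add_one h1
  rw [← this, Nat.even_add_one] at hSeven
  exact hSeven hodd

variable {G X Y : Type*} [Group G] [Fintype X] [Fintype Y] [DecidableEq X] [DecidableEq Y]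
  [MulAction G X] [MulAction G Y]

namespace Pl

variable (Γ : Pl G X Y)

/-- The collineations fixing every line through `C`. -/
def cnGrp (C : X) : Subgroup G where
  carrier := {g | Γ.Cn g C}
  one_mem' := fun y _ => one_smul _ y
  mul_mem' := fun a b => Cn.mul a b
  inv_mem' := fun a => Cn.inv' a

lemma mem_cnGrp {C : X} {g : G} : g ∈ Γ.cnGrp C ↔ Γ.Cn g C := Iff.rfl

lemma card_fixed_line {s : G} (hq : Γ.Quad fun x => s • x = x) {y : Y} (hy : s • y = y) :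
    ∃ a b c, a ≠ b ∧ a ≠ c ∧ b ≠ c ∧ (Γ.I a y ∧ s • a = a) ∧ (Γ.I b y ∧ s • b = b) ∧
      (Γ.I c y ∧ s • c = c) := by
  obtain ⟨A, B, C, D, hA, hB, hC, hD, h1, h2, h3, h4⟩ := hq
  have key : ∀ O P Q R : X, s • O = O → s • P = P → s • Q = Q → s • R = R → ¬ Γ.I O y →
      Γ.Gen3 O P Q → Γ.Gen3 O P R → Γ.Gen3 O Q R →
      ∃ a b c, a ≠ b ∧ a ≠ c ∧ b ≠ c ∧ (Γ.I a y ∧ s • a = a) ∧ (Γ.I b y ∧ s • b = b) ∧
      (Γ.I c y ∧ s • c = c) := by
    intro O P Q R hO hP hQ hR hOy g1 g2 g3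
    obtain ⟨p, hp1, hp2⟩ := Γ.exists_join g1.ne.1
    obtain ⟨q, hq1, hq2⟩ := Γ.exists_join g1.ne.2.1
    obtain ⟨r, hr1, hr2⟩ := Γ.exists_join g2.ne.2.1
    have hpy : p ≠ y := fun e => hOy (e ▸ hp1)
    have hqy : q ≠ y := fun e => hOy (e ▸ hq1)
    have hry : r ≠ y := fun e => hOy (e ▸ hr1)
    obtain ⟨a, ha1, ha2⟩ := Γ.exists_meet hpy
    obtain ⟨b, hb1, hb2⟩ := Γ.exists_meet hqy
    obtain ⟨c, hc1, hc2⟩ := Γ.exists_meet hry
    have hpq : p ≠ q := fun e => g1 p hp1 hp2 (e ▸ hq2)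
    have hpr : p ≠ r := fun e => g2 p hp1 hp2 (e ▸ hr2)
    have hqr : q ≠ r := fun e => g3 q hq1 hq2 (e ▸ hr2)
    have sep : ∀ {u w : Y} {z : X}, u ≠ w → Γ.I O u → Γ.I O w → Γ.I z u → Γ.I z y → ¬ Γ.I z w :=
      fun huw o1 o2 z1 z2 z3 => hOy (Γ.eq_point huw o1 z1 o2 z3 ▸ z2)
    exact ⟨a, b, c, fun e => sep hpq hp1 hq1 ha1 ha2 (e ▸ hb1),
      fun e => sep hpr hp1 hr1 ha1 ha2 (e ▸ hc1), fun e => sep hqr hq1 hr1 hb1 hb2 (e ▸ hc1),
      ⟨ha2, Γ.fixed_meet hpy (Γ.fixed_join g1.ne.1 hO hP hp1 hp2) hy ha1 ha2⟩,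
      ⟨hb2, Γ.fixed_meet hqy (Γ.fixed_join g1.ne.2.1 hO hQ hq1 hq2) hy hb1 hb2⟩,
      ⟨hc2, Γ.fixed_meet hry (Γ.fixed_join g2.ne.2.1 hO hR hr1 hr2) hy hc1 hc2⟩⟩
  by_cases hAy : Γ.I A y
  · by_cases hBy : Γ.I B y
    · refine key C A B D hC hA hB hD (h1 y hAy hBy) ?_ ?_ ?_
      · exact fun z a b c => h1 z b c a
      · exact fun z a b c => h3 z b a c
      · exact fun z a b c => h4 z b a c
    · refine key B A C D hB hA hC hD hBy ?_ ?_ ?_
      · exact fun z a b c => h1 z b a c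
      · exact fun z a b c => h2 z b a c
      · exact fun z a b c => h4 z a b c
  · exact key A B C D hA hB hC hD hAy h1 h2 h3

variable [Finite G]

/-- If a homology has `P` on its axis and `P` is a centre, then so is it with an axis through
the first centre, and the product of two commuting ones has axis `PC`. -/
lemma symm_hom (hn : Odd Γ.n) {C P : X} {b : Y} {g : G} (hg : Γ.Hom C b g) (hPb : Γ.I P b)
    (hP : ∃ l h, Γ.Hom P l h) :
    ∃ b' h R m s, Γ.Hom P b' h ∧ Γ.I C b' ∧ Γ.Hom R m s ∧ Γ.I P m ∧ Γ.I C m ∧ Γ.I R b ∧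
      Γ.I R b' := by
  obtain ⟨l₀, h₀, hh₀⟩ := hP
  have hgg := hg.1
  obtain ⟨h, hhK, hhh, hh1, hcomm⟩ := exists_invol_comm hgg (Γ.cnGrp P)
    (fun x hx => by
      have := Cn.conj (Γ := Γ) hx g
      rw [hg.2.2.1 P hPb, hg.invol] at this
      exact this) (Γ.mem_cnGrp.2 hh₀.2.2.2) hh₀.1 hh₀.2.1
  obtain ⟨b', hb'⟩ := Cn.exists_axis hhK
  have hh : Γ.Hom P b' h := ⟨hhh, hh1, hb', hhK⟩
  have hPb' : ¬ Γ.I P b' := hh.not_inc hn
  have hCb : ¬ Γ.I C b := hg.not_inc hn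
  have hgb' : g • b' = b' := by
    have := Ax.conj hb' g
    rw [hcomm, mul_inv_cancel_right] at this
    exact this.unique hb' hh1
  have hbb : b' ≠ b := fun e => hPb' (e ▸ hPb)
  have hCb' : Γ.I C b' := ((hg.2.2.2.fix_iff hg.2.2.1 hg.2.1 b').1 hgb').resolve_right hbb
  have hCP : C ≠ P := fun e => hCb (e ▸ hPb)
  obtain ⟨R, hRb, hRb'⟩ := Γ.exists_meet hbb.symm
  have hss : g * h * (g * h) = 1 := by
    calc g * h * (g * h) = g * (h * g) * h := by group
      _ = (g * g) * (h * h) := by rw [← hcomm]; group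
      _ = 1 := by rw [hgg, hhh, one_mul]
  have hs1 : g * h ≠ 1 := by
    intro e
    have hgh : g = h := by rw [← hg.invol]; exact inv_eq_of_mul_eq_one_right e
    exact hCP (hg.2.2.2.unique (hgh ▸ hhK) hg.2.1)
  set s := g * h with hs
  have onb : ∀ x, Γ.I x b → (s • x = x ↔ x = P ∨ x = R) := by
    intro x hx
    rw [hcomm, mul_smul, hg.2.2.1 x hx, hb'.fix_iff hhK hh1]
    constructor
    · rintro (e | e)
      · exact Or.inr (Γ.eq_point hbb.symm hx hRb e hRb')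
      · exact Or.inl e
    · rintro (rfl | rfl)
      · exact Or.inr rfl
      · exact Or.inl hRb'
  have onb' : ∀ x, Γ.I x b' → (s • x = x ↔ x = C ∨ x = R) := by
    intro x hx
    rw [hs, mul_smul, hb' x hx, hg.2.2.1.fix_iff hg.2.2.2 hg.2.1]
    constructor
    · rintro (e | e)
      · exact Or.inr (Γ.eq_point hbb hx hRb' e hRb)
      · exact Or.inl e
    · rintro (rfl | rfl)
      · exact Or.inr rfl
      · exact Or.inl hRb
  have hPR : P ≠ R := fun e => hPb' (e ▸ hRb')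
  have hCR : C ≠ R := fun e => hCb (e ▸ hRb)
  have hsP : s • P = P := (onb P hPb).2 (Or.inl rfl)
  have hsC : s • C = C := (onb' C hCb').2 (Or.inl rfl)
  have hsR : s • R = R := (onb R hRb).2 (Or.inr rfl)
  have hsb : s • b = b := Γ.fixed_join hPR hsP hsR hPb hRb
  have hsb' : s • b' = b' := Γ.fixed_join hCR hsC hsR hCb' hRb'
  have hnq : ¬ Γ.Quad fun x => s • x = x := by
    intro hq
    obtain ⟨a, c, d, hac, had, hcd, ha, hc, hd⟩ := Γ.card_fixed_line hq hsb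
    rcases (onb a ha.1).1 ha.2 with rfl | rfl <;> rcases (onb c hc.1).1 hc.2 with rfl | rfl <;>
      rcases (onb d hd.1).1 hd.2 with rfl | rfl <;> simp_all
  have hn3 : 3 ≤ Γ.n := by
    obtain ⟨j, hj⟩ := hn
    have := Γ.two_le_n
    omega
  obtain ⟨R', m, hm⟩ := Γ.invol_dichotomy hn3 hss hs1 hnq
  have hfix := hm.2.2.1.fix_iff hm.2.2.2 hm.2.1
  have hmb : m ≠ b := by
    intro e
    obtain ⟨x, hx, hxP, hxR⟩ := Γ.exists_pt_avoid b P R
    exact ((onb x hx).1 ((hfix x).2 (Or.inl (e ▸ hx)))).elim hxP hxR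
  have hmb' : m ≠ b' := by
    intro e
    obtain ⟨x, hx, hxC, hxR⟩ := Γ.exists_pt_avoid b' C R
    exact ((onb' x hx).1 ((hfix x).2 (Or.inl (e ▸ hx)))).elim hxC hxR
  have hR' : R = R' := by
    rcases (hfix R).1 hsR with e | e
    swap
    · exact e
    exfalso
    have h1 : ¬ Γ.I P m := fun e1 => hmb (Γ.eq_line hPR e1 e hPb hRb)
    have h2 : ¬ Γ.I C m := fun e1 => hmb' (Γ.eq_line hCR e1 e hCb' hRb')
    exact hCP (((hfix C).1 hsC).resolve_left h2 |>.trans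
      (((hfix P).1 hsP).resolve_left h1).symm)
  refine ⟨b', h, R, m, s, hh, hCb', hR' ▸ hm, ?_, ?_, hRb, hRb'⟩
  · exact ((hfix P).1 hsP).resolve_right (hR' ▸ hPR)
  · exact ((hfix C).1 hsC).resolve_right (hR' ▸ hCR)

/-- Every line is an axis. -/
lemma every_line_axis (hn : Odd Γ.n)
    (cov : ∀ P Q : X, P ≠ Q → ∃ C l g, Γ.Hom C l g ∧ g • P = P ∧ g • Q = Q) (L : Y) :
    ∃ C g, Γ.Hom C L g := by
  by_contra hL
  have pair : ∀ P Q, Γ.I P L → Γ.I Q L → P ≠ Q →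
      ((∃ l h, Γ.Hom P l h) ∨ ∃ l h, Γ.Hom Q l h) ∧
        ¬ ((∃ l h, Γ.Hom P l h) ∧ ∃ l h, Γ.Hom Q l h) := by
    intro P Q hP hQ hPQ
    obtain ⟨C, l, g, hg, hgP, hgQ⟩ := cov P Q hPQ
    have hfix := hg.2.2.1.fix_iff hg.2.2.2 hg.2.1
    have one : ∀ P Q, Γ.I P L → Γ.I Q L → P ≠ Q → P = C → g • Q = Q →
        ¬ ∃ l h, Γ.Hom Q l h := by
      rintro P Q hP hQ hPQ rfl hgQ hcQ
      have hQl : Γ.I Q l := ((hfix Q).1 hgQ).resolve_right hPQ.symm
      obtain ⟨b', h, R, m, s, -, -, hm, hmQ, hmP, -, -⟩ := Γ.symm_hom hn hg hQl hcQ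
      exact hL ⟨R, s, Γ.eq_line hPQ hP hQ hmP hmQ ▸ hm⟩
    rcases (hfix P).1 hgP with h1 | h1
    · rcases (hfix Q).1 hgQ with h2 | h2
      · exact absurd ⟨C, g, Γ.eq_line hPQ hP hQ h1 h2 ▸ hg⟩ hL
      · exact ⟨Or.inr ⟨l, g, h2 ▸ hg⟩, fun h => one Q P hQ hP hPQ.symm h2 hgP h.1⟩
    · exact ⟨Or.inl ⟨l, g, h1 ▸ hg⟩, fun h => one P Q hP hQ hPQ h1 hgQ h.2⟩
  obtain ⟨P, hP, -, -⟩ := Γ.exists_pt_avoid L Γ.toDsn.nonemptyX.some Γ.toDsn.nonemptyX.some
  obtain ⟨Q, hQ, hQP, -⟩ := Γ.exists_pt_avoid L P P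
  obtain ⟨R, hR, hRP, hRQ⟩ := Γ.exists_pt_avoid L P Q
  obtain ⟨a1, a2⟩ := pair P Q hP hQ hQP.symm
  obtain ⟨b1, b2⟩ := pair P R hP hR hRP.symm
  obtain ⟨c1, c2⟩ := pair Q R hQ hR hRQ.symm
  rcases a1 with hp | hq <;> rcases b1 with hp' | hr <;> rcases c1 with hq' | hr' <;>
    first
      | exact a2 ⟨by assumption, by assumption⟩
      | exact b2 ⟨by assumption, by assumption⟩
      | exact c2 ⟨by assumption, by assumption⟩

/-! ### Elations -/

/-- Collineations fixing `a` pointwise and no further point, unless trivial. -/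
def IsElation (a : Y) (x : G) : Prop := Γ.Ax x a ∧ ∀ D, ¬ Γ.I D a → x • D = D → x = 1

omit [Finite G] in
lemma IsElation.centre_mem {a : Y} {x : G} (h : Γ.IsElation a x) (h1 : x ≠ 1) {C : X}
    (hC : Γ.Cn x C) : Γ.I C a :=
  by_contra fun hn => h1 (h.2 C hn hC.fix_point)

/-- The elations with axis `a`. -/
def El (a : Y) : Subgroup G where
  carrier := {x | Γ.IsElation a x}
  one_mem' := ⟨fun y _ => one_smul _ y, fun _ _ _ => rfl⟩
  inv_mem' := fun {x} h => ⟨h.1.inv', fun D hD e => by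
    rw [inv_eq_one]
    exact h.2 D hD (inv_smul_eq_iff.1 e).symm⟩
  mul_mem' := fun {x y} hx hy => ⟨hx.1.mul hy.1, fun D hD e => by
    by_contra hne
    by_cases hy1 : y = 1
    · subst hy1
      rw [mul_one] at e hne
      exact hne (hx.2 D hD e)
    by_cases hx1 : x = 1
    · subst hx1
      rw [one_mul] at e hne
      exact hne (hy.2 D hD e)
    obtain ⟨C, hC⟩ := hx.1.exists_centre
    obtain ⟨C', hC'⟩ := hy.1.exists_centre
    have hCa := hx.centre_mem Γ hx1 hC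
    have hC'a := hy.centre_mem Γ hy1 hC'
    by_cases hCC : C = C'
    · subst hCC
      exact hD ((hC.mul hC').unique ((hx.1.mul hy.1).centre_of_fixed hD e) hne ▸ hCa)
    · obtain ⟨i, hi1, hi2⟩ := Γ.exists_join_any D C
      obtain ⟨j, hj1, hj2⟩ := Γ.exists_join_any D C'
      have hij : i ≠ j := by
        rintro rfl
        exact hD (Γ.eq_line hCC hi2 hj2 hCa hC'a ▸ hi1)
      have e' : y • D = x⁻¹ • D := eq_inv_smul_iff.2 (by rwa [← mul_smul])
      have h1 : Γ.I (y • D) j := (Γ.inv_fixed (hC' j hj2) D).2 hj1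
      have h2 : Γ.I (y • D) i := e' ▸ (Γ.inv_fixed (hC.inv' i hi2) D).2 hi1
      exact hy1 (hy.2 D hD (Γ.eq_point hij h2 hi1 h1 hj1))⟩

omit [Finite G] in
lemma mem_El {a : Y} {x : G} : x ∈ Γ.El a ↔ Γ.IsElation a x := Iff.rfl

omit [Finite G] in
lemma El_conj {a : Y} {x : G} (hx : x ∈ Γ.El a) (h : G) : h * x * h⁻¹ ∈ Γ.El (h • a) := by
  refine ⟨hx.1.conj h, fun D hD e => ?_⟩
  rw [mul_smul, mul_smul, ← eq_inv_smul_iff] at e
  have : x = 1 := hx.2 _ (fun i => hD (by simpa using (Γ.inv h _ a).2 i)) e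
  simp [this]

/-- The elations with axis `a` and centre `W`. -/
def El2 (a : Y) (W : X) : Subgroup G := Γ.El a ⊓ Γ.cnGrp W

omit [Finite G] in
lemma El2_eq_centre {a : Y} {x : G} {W : X} (hx : x ∈ Γ.El2 a W) (h1 : x ≠ 1) {W' : X}
    (hx' : x ∈ Γ.El2 a W') : W = W' :=
  Cn.unique (Subgroup.mem_inf.1 hx).2 (Subgroup.mem_inf.1 hx').2 h1

omit [Finite G] in
lemma exists_El2 {a : Y} {x : G} (hx : x ∈ Γ.El a) (h1 : x ≠ 1) :
    ∃ W, Γ.I W a ∧ x ∈ Γ.El2 a W := by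
  obtain ⟨W, hW⟩ := Ax.exists_centre hx.1
  exact ⟨W, IsElation.centre_mem Γ hx h1 hW, hx, hW⟩

lemma El_invert {a : Y} {C : X} {h : G} (hh : Γ.Hom C a h) (hn : Odd Γ.n) {z : G}
    (hz : z ∈ Γ.El a) : h * z * h = z⁻¹ := by
  have hmem : ∀ x ∈ Γ.El a, h * x * h ∈ Γ.El a := by
    intro x hx
    have := Γ.El_conj hx h
    rwa [hh.2.2.1.fix_line, hh.invol] at this
  have hcent : ∀ x ∈ Γ.El a, h * x * h = x → x = 1 := by
    intro x hx e
    refine hx.2 C (hh.not_inc hn) ?_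
    have hc := hh.2.2.2.conj x
    have : x * h * x⁻¹ = h := by
      calc x * h * x⁻¹ = (h * x * h) * h * x⁻¹ := by rw [e]
        _ = h * x * (h * h) * x⁻¹ := by group
        _ = h := by rw [hh.1]; group
    rw [this] at hc
    exact hc.unique hh.2.2.2 hh.2.1
  let φ : Γ.El a → Γ.El a := fun x =>
    ⟨(x : G)⁻¹ * (h * x * h), mul_mem (inv_mem x.2) (hmem x x.2)⟩
  have hinj : Function.Injective φ := by
    rintro ⟨x, hx⟩ ⟨y, hy⟩ e
    have e' : x⁻¹ * (h * x * h) = y⁻¹ * (h * y * h) := congrArg Subtype.val e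
    have h3 : x * y⁻¹ = 1 := by
      refine hcent _ (mul_mem hx (inv_mem hy)) ?_
      calc h * (x * y⁻¹) * h = (h * x * h) * (h * y * h)⁻¹ := by
            rw [mul_inv_rev, mul_inv_rev, hh.invol]
            calc h * (x * y⁻¹) * h = h * x * 1 * y⁻¹ * h := by group
              _ = h * x * (h * h) * y⁻¹ * h := by rw [hh.1]
              _ = _ := by group
        _ = x * (x⁻¹ * (h * x * h)) * (y * (y⁻¹ * (h * y * h)))⁻¹ := by group
        _ = x * y⁻¹ := by rw [e']; group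
    exact Subtype.ext (mul_inv_eq_one.1 h3)
  obtain ⟨⟨x, hx⟩, hxz⟩ := Finite.surjective_of_injective hinj ⟨z, hz⟩
  have e : x⁻¹ * (h * x * h) = z := congrArg Subtype.val hxz
  rw [← e, mul_inv_rev, mul_inv_rev, mul_inv_rev, hh.invol, inv_inv]
  calc h * (x⁻¹ * (h * x * h)) * h = h * x⁻¹ * h * x * (h * h) := by group
    _ = _ := by rw [hh.1]; group

lemma El_comm {a : Y} {C : X} {h : G} (hh : Γ.Hom C a h) (hn : Odd Γ.n) {x y : G}
    (hx : x ∈ Γ.El a) (hy : y ∈ Γ.El a) : x * y = y * x := by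
  have e := Γ.El_invert hh hn (mul_mem hx hy)
  have e1 := Γ.El_invert hh hn hx
  have e2 := Γ.El_invert hh hn hy
  have : (x * y)⁻¹ = x⁻¹ * y⁻¹ := by
    rw [← e, ← e1, ← e2]
    calc h * (x * y) * h = h * x * 1 * y * h := by group
      _ = h * x * (h * h) * y * h := by rw [hh.1]
      _ = _ := by group
  rw [← inv_inj, this, mul_inv_rev]

/-- An abelian elation group with two centres has exponent a prime. -/
lemma El_exponent {a : Y} {C : X} {h : G} (hh : Γ.Hom C a h) (hn : Odd Γ.n) {W W' : X}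
    (hWW : W ≠ W') {u v : G} (hu : u ∈ Γ.El2 a W) (hu1 : u ≠ 1) (hv : v ∈ Γ.El2 a W')
    (hv1 : v ≠ 1) : ∃ p : ℕ, p.Prime ∧ IsPGroup p (Γ.El a) := by
  have hp : (orderOf u).minFac.Prime :=
    Nat.minFac_prime (by rwa [Ne, orderOf_eq_one_iff])
  set p := (orderOf u).minFac with hpdef
  set x := u ^ (orderOf u / p) with hxdef
  have hx : x ∈ Γ.El2 a W := pow_mem hu _
  have hxo : orderOf x = p := by
    rw [hxdef, orderOf_pow_of_dvd _ (Nat.div_dvd_of_dvd (Nat.minFac_dvd _)),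
      Nat.div_div_self (Nat.minFac_dvd _) (orderOf_pos u).ne']
    exact Nat.div_ne_zero_iff.2 ⟨hp.ne_zero, Nat.minFac_le (orderOf_pos u)⟩
  have key : ∀ {x : G} {W : X}, x ∈ Γ.El2 a W → x ≠ 1 → x ^ p = 1 →
      ∀ {z : G} {V : X}, z ∈ Γ.El2 a V → V ≠ W → z ^ p = 1 := by
    intro x W hx hx1 hxp z V hz hVW
    have hc : Commute x z := Γ.El_comm hh hn (Subgroup.mem_inf.1 hx).1 (Subgroup.mem_inf.1 hz).1
    have hxz : (x * z) ^ p = z ^ p := by rw [hc.mul_pow, hxp, one_mul]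
    by_cases hz1 : z = 1
    · simp [hz1]
    by_contra hzp
    have hne : x * z ≠ 1 := fun e => hzp (by rw [← hxz, e, one_pow])
    obtain ⟨U, -, hU⟩ := Γ.exists_El2
      (mul_mem (Subgroup.mem_inf.1 hx).1 (Subgroup.mem_inf.1 hz).1) hne
    have hUV : U = V := Γ.El2_eq_centre (x := z ^ p) (hxz ▸ pow_mem hU p) hzp (pow_mem hz p)
    subst hUV
    refine hVW (Γ.El2_eq_centre (x := x) ?_ hx1 hx)
    have := mul_mem hU (inv_mem hz)
    rwa [mul_inv_cancel_right] at this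
  have hx1 : x ≠ 1 := fun e => by rw [e, orderOf_one] at hxo; exact hp.one_lt.ne hxo
  have hxp : x ^ p = 1 := hxo ▸ pow_orderOf_eq_one x
  refine ⟨p, hp, fun z => ⟨1, Subtype.ext ?_⟩⟩
  rw [pow_one]
  show (z : G) ^ p = 1
  by_cases hz1 : (z : G) = 1
  · rw [hz1, one_pow]
  obtain ⟨V, -, hV⟩ := Γ.exists_El2 z.2 hz1
  by_cases hVW : V = W
  · subst hVW
    exact key hv hv1 (key hx hx1 hxp hv hWW.symm) hV hWW
  · exact key hx hx1 hxp hV hVW

/-- Two commuting-free homologies with one axis give an elation. -/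
lemma prod_elation (hn : Odd Γ.n) {C C' : X} {a : Y} {g g' : G} (hg : Γ.Hom C a g)
    (hg' : Γ.Hom C' a g') (hne : C ≠ C') : g' * g ∈ Γ.El a ∧ g' * g ≠ 1 := by
  have h1 : g' * g ≠ 1 := by
    intro e
    have : g' = g := by rw [← hg.invol]; exact (inv_eq_of_mul_eq_one_left e).symm
    exact hne (hg.2.2.2.unique (this ▸ hg'.2.2.2) hg.2.1)
  refine ⟨⟨hg'.2.2.1.mul hg.2.2.1, fun D hD e => ?_⟩, h1⟩
  exfalso
  have hD' := (hg'.2.2.1.mul hg.2.2.1).centre_of_fixed hD e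
  have hinv : Γ.Cn (g' * g)⁻¹ D := hD'.inv'
  have h1' : (g' * g)⁻¹ ≠ 1 := fun e => h1 (inv_eq_one.1 e)
  have e1 : g * (g' * g) * g⁻¹ = (g' * g)⁻¹ := by
    rw [mul_inv_rev, hg.invol, hg'.invol]
    calc g * (g' * g) * g = g * g' * (g * g) := by group
      _ = g * g' := by rw [hg.1, mul_one]
  have e2 : g' * (g' * g) * g'⁻¹ = (g' * g)⁻¹ := by
    rw [mul_inv_rev, hg.invol, hg'.invol]
    calc g' * (g' * g) * g' = (g' * g') * g * g' := by group
      _ = g * g' := by rw [hg'.1, one_mul]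
  have d1 : D = C := by
    have := hD'.conj g
    rw [e1] at this
    exact ((hg.2.2.1.fix_iff hg.2.2.2 hg.2.1 D).1 (this.unique hinv h1')).resolve_left hD
  have d2 : D = C' := by
    have := hD'.conj g'
    rw [e2] at this
    exact ((hg'.2.2.1.fix_iff hg'.2.2.2 hg'.2.1 D).1 (this.unique hinv h1')).resolve_left hD
  exact hne (d1.symm.trans d2)

omit [Finite G] in
lemma El_of_dual_El {W : X} {x : G} (hx : x ∈ Γ.dual.El W) (h1 : x ≠ 1) :
    ∃ a, Γ.I W a ∧ x ∈ Γ.El2 a W := by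
  have hc : Γ.Cn x W := hx.1
  obtain ⟨a, ha⟩ := hc.exists_axis
  have hWa : Γ.I W a := IsElation.centre_mem (Γ := Γ.dual) hx h1 ha
  refine ⟨a, hWa, ⟨ha, fun D hD e => ?_⟩, hc⟩
  exfalso
  exact hD (((ha.fix_iff hc h1 D).1 e).resolve_left hD ▸ hWa)

omit [Finite G] in
lemma dual_El_of_El2 {W : X} {a : Y} {x : G} (hx : x ∈ Γ.El2 a W) (h1 : x ≠ 1) :
    x ∈ Γ.dual.El W := by
  obtain ⟨he, hc⟩ := Subgroup.mem_inf.1 hx
  refine ⟨hc, fun m hm e => ?_⟩
  exfalso
  rcases ((Γ.mem_cnGrp.1 hc).fix_iff he.1 h1 m).1 e with h | rfl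
  · exact hm h
  · exact hm (IsElation.centre_mem Γ he h1 hc)

/-- A symmetric incidence relation has an absolute point. -/
lemma exists_absolute (b : X → Y) (hb : Function.Injective b)
    (hsymm : ∀ P Q, Γ.I P (b Q) → Γ.I Q (b P)) : ∃ P, Γ.I P (b P) := by
  classical
  by_contra hc
  push_neg at hc
  obtain ⟨p, hp, hpn⟩ := Nat.exists_prime_and_dvd (n := Γ.n) (by have := Γ.two_le_n; omega)
  have := Fact.mk hp
  have hn0 : (Γ.n : ZMod p) = 0 := (ZMod.natCast_eq_zero_iff _ _).2 hpn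
  set A : Matrix X X (ZMod p) := Matrix.of fun P Q => if Γ.I Q (b P) then 1 else 0 with hA
  set J : Matrix X X (ZMod p) := Matrix.of fun _ _ => 1 with hJ
  have hrow : ∀ P, ((ptsOf Γ.I (b P)).card : ZMod p) = 1 := by
    intro P; rw [Γ.cardPts, Γ.k_eq]; simp [hn0]
  have hAA : A * A = J := by
    ext P Q
    have e : ∀ R, A P R * A R Q = if R ∈ ptsOf Γ.I (b P) ∩ ptsOf Γ.I (b Q) then 1 else 0 := by
      intro R
      have : Γ.I Q (b R) ↔ Γ.I R (b Q) := ⟨hsymm Q R, hsymm R Q⟩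
      simp only [hA, Matrix.of_apply, mem_inter, mem_ptsOf, this]
      split_ifs <;> simp_all
    rw [Matrix.mul_apply, sum_congr rfl fun R _ => e R, sum_boole]
    have : (univ.filter fun R => R ∈ ptsOf Γ.I (b P) ∩ ptsOf Γ.I (b Q))
        = ptsOf Γ.I (b P) ∩ ptsOf Γ.I (b Q) := filter_mem_eq_inter.trans (univ_inter _)
    rw [this]
    by_cases hPQ : P = Q
    · subst hPQ; rw [inter_self, hrow]; rfl
    · rw [Γ.meetPts _ _ (fun e => hPQ (hb e)), Γ.lam_one]; simp [hJ]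
  have hAJ : A * J = J := by
    ext P Q
    rw [Matrix.mul_apply]
    have e : ∀ R, A P R * J R Q = if R ∈ ptsOf Γ.I (b P) then 1 else 0 := by
      intro R; simp [hA, hJ, mem_ptsOf]
    rw [sum_congr rfl fun R _ => e R, sum_boole]
    have : (univ.filter fun R => R ∈ ptsOf Γ.I (b P)) = ptsOf Γ.I (b P) :=
      filter_mem_eq_inter.trans (univ_inter _)
    rw [this, hrow]; rfl
  have hpow : ∀ j, A ^ (j + 2) = J := by
    intro j
    induction j with
    | zero => rw [zero_add, pow_two, hAA]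
    | succ j ih => rw [show j + 1 + 2 = (j + 2) + 1 by ring, pow_succ', ih, hAJ]
  have htr := ZMod.trace_pow_card A
  obtain ⟨j, hj⟩ : ∃ j, p = j + 2 := ⟨p - 2, by have := hp.two_le; omega⟩
  have h1 : Matrix.trace (A ^ p) = 1 := by
    rw [show A ^ p = J from (congrArg (A ^ ·) hj).trans (hpow j)]
    simp [Matrix.trace, hJ, Γ.card_X, hn0]
  have h2 : Matrix.trace A = 0 := by
    simp [Matrix.trace, hA, hc]
  rw [h1, h2, zero_pow hp.ne_zero] at htr
  exact one_ne_zero htr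

omit [Finite G] in
lemma card_El2_mul_le [Finite G] {a : Y} {W W' : X} (hne : W ≠ W') :
    Nat.card (Γ.El2 a W) * Nat.card (Γ.El2 a W') ≤ Nat.card (Γ.El a) := by
  rw [← Nat.card_prod]
  refine Nat.card_le_card_of_injective
    (fun z => (⟨(z.1 : G) * z.2, mul_mem (Subgroup.mem_inf.1 z.1.2).1
      (Subgroup.mem_inf.1 z.2.2).1⟩ : Γ.El a)) ?_
  rintro ⟨⟨x, hx⟩, ⟨y, hy⟩⟩ ⟨⟨x', hx'⟩, ⟨y', hy'⟩⟩ e
  have e' : x * y = x' * y' := congrArg Subtype.val e
  have h1 : x'⁻¹ * x = y' * y⁻¹ := by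
    rw [eq_mul_inv_iff_mul_eq, mul_assoc, e', inv_mul_cancel_left]
  by_cases h : x'⁻¹ * x = 1
  · have hxx : x = x' := (inv_mul_eq_one.1 h).symm
    subst hxx
    have : y = y' := mul_left_cancel e'
    subst this
    rfl
  · exact absurd (Γ.El2_eq_centre (mul_mem (inv_mem hx') hx) h (h1 ▸ mul_mem hy' (inv_mem hy))) hne

/-- For each point `Q` of the axis there is a second one `Z` with `|E(Q)| |E(Z)| = |E|`. -/
lemma exists_partner (hn : Odd Γ.n) (hcen : ∀ P, ∃ l h, Γ.Hom P l h) {a : Y} {C : X} {h₀ : G}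
    (hh : Γ.Hom C a h₀) {Q : X} (hQ : Γ.I Q a) :
    ∃ Z b g, Γ.Hom Q b g ∧ Γ.I C b ∧ Γ.I Z b ∧ Γ.I Z a ∧ Z ≠ Q ∧
      Nat.card (Γ.El2 a Q) * Nat.card (Γ.El2 a Z) = Nat.card (Γ.El a) := by
  obtain ⟨b, g, -, -, -, hg, hCb, -, -, -, -, -⟩ := Γ.symm_hom hn hh hQ (hcen Q)
  have hCa := hh.not_inc hn
  have hba : b ≠ a := fun e => hCa (e ▸ hCb)
  obtain ⟨Z, hZb, hZa⟩ := Γ.exists_meet hba
  have hQb := hg.not_inc hn
  have hZQ : Z ≠ Q := fun e => hQb (e ▸ hZb)
  refine ⟨Z, b, g, hg, hCb, hZb, hZa, hZQ, le_antisymm (Γ.card_El2_mul_le hZQ.symm) ?_⟩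
  have hga : g • a = a := hg.2.2.2 a hQ
  have hmem : ∀ x ∈ Γ.El a, x * (g * x⁻¹ * g⁻¹) ∈ Γ.El2 a Q := by
    intro x hx
    refine ⟨mul_mem hx (hga ▸ Γ.El_conj (inv_mem hx) g), ?_⟩
    have h1 := hg.2.2.2.conj x
    rw [hx.1 Q hQ] at h1
    have := h1.mul hg.2.2.2.inv'
    rw [show x * g * x⁻¹ * g⁻¹ = x * (g * x⁻¹ * g⁻¹) by group] at this
    exact this
  let φ : Γ.El a →* Γ.El2 a Q :=
    { toFun := fun x => ⟨(x : G) * (g * (x : G)⁻¹ * g⁻¹), hmem x x.2⟩
      map_one' := Subtype.ext (by simp)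
      map_mul' := fun x y => Subtype.ext (by
        show (x : G) * y * (g * ((x : G) * y)⁻¹ * g⁻¹)
          = (x : G) * (g * (x : G)⁻¹ * g⁻¹) * ((y : G) * (g * (y : G)⁻¹ * g⁻¹))
        have hy' : g * (y : G)⁻¹ * g⁻¹ ∈ Γ.El a := by have := Γ.El_conj (inv_mem y.2) g; rwa [hga] at this
        have hx' : g * (x : G)⁻¹ * g⁻¹ ∈ Γ.El a := by have := Γ.El_conj (inv_mem x.2) g; rwa [hga] at this
        have c1 := Γ.El_comm hh hn hx' (mul_mem y.2 hy')
        calc (x : G) * y * (g * ((x : G) * y)⁻¹ * g⁻¹)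
            = (x : G) * (((y : G) * (g * (y : G)⁻¹ * g⁻¹)) * (g * (x : G)⁻¹ * g⁻¹)) := by group
          _ = _ := by rw [← c1]; group) }
  have hker : Nat.card φ.ker ≤ Nat.card (Γ.El2 a Z) := by
    refine Nat.card_le_card_of_injective (fun x => (⟨((x : Γ.El a) : G), ?_⟩ : Γ.El2 a Z))
      (fun x y e => Subtype.ext (Subtype.ext (congrArg (fun w : Γ.El2 a Z => (w : G)) e)))
    set z : G := ((x : Γ.El a) : G) with hz
    have hzE : z ∈ Γ.El a := (x : Γ.El a).2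
    by_cases hz1 : z = 1
    · rw [hz1]; exact one_mem _
    have e : z * (g * z⁻¹ * g⁻¹) = 1 := congrArg Subtype.val (MonoidHom.mem_ker.1 x.2)
    have hzg : z * g * z⁻¹ = g := by
      rw [← mul_inv_eq_one, ← e]; group
    have hzb : z • b = b := by
      have := hg.2.2.1.conj z
      rw [hzg] at this
      exact this.unique hg.2.2.1 hg.2.1
    obtain ⟨W, hWa, hW⟩ := Γ.exists_El2 hzE hz1
    have hWb : Γ.I W b :=
      (((Subgroup.mem_inf.1 hW).2 : Γ.Cn z W).fix_iff hzE.1 hz1 b |>.1 hzb).resolve_right hba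
    exact Γ.eq_point hba hWb hZb hWa hZa ▸ hW
  calc Nat.card (Γ.El a) = Nat.card φ.ker * φ.ker.index := (Subgroup.card_mul_index _).symm
    _ ≤ Nat.card (Γ.El2 a Z) * Nat.card (Γ.El2 a Q) := Nat.mul_le_mul hker (by
        rw [Subgroup.index_ker]
        exact Nat.card_le_card_of_injective _ Subtype.val_injective)
    _ = _ := mul_comm _ _

/-- The order of a plane of odd order with homologies fixing any pair is a prime power. -/
theorem isPrimePow_n (hn : Odd Γ.n)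
    (covP : ∀ P Q : X, P ≠ Q → ∃ C l g, Γ.Hom C l g ∧ g • P = P ∧ g • Q = Q)
    (covL : ∀ a b : Y, a ≠ b → ∃ C l g, Γ.Hom C l g ∧ g • a = a ∧ g • b = b) :
    IsPrimePow Γ.n := by
  classical
  have haxis := Γ.every_line_axis hn covP
  have hcen : ∀ P, ∃ l h, Γ.Hom P l h := by
    intro P
    obtain ⟨l, h, hh⟩ := Γ.dual.every_line_axis (by simpa using hn) (fun a b hab => by
      obtain ⟨C, l, g, hg, ha, hb⟩ := covL a b hab
      exact ⟨l, C, g, hg.dual, ha, hb⟩) P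
    exact ⟨l, h, hh.dual⟩
  obtain ⟨a, x₀, hx₀, hx₀1⟩ : ∃ a x, x ∈ Γ.El a ∧ x ≠ 1 := by
    by_contra hc
    push_neg at hc
    choose b gb hgb using hcen
    have hinj : Function.Injective b := by
      intro P Q e
      by_contra hne
      obtain ⟨h1, h2⟩ := Γ.prod_elation hn (hgb P) (e ▸ hgb Q) hne
      exact h2 (hc _ _ h1)
    have huniq : ∀ P l h, Γ.Hom P l h → l = b P := by
      intro P l h hh
      by_contra hne
      obtain ⟨h1, h2⟩ := Γ.dual.prod_elation (by simpa using hn) hh.dual (hgb P).dual hne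
      obtain ⟨a', -, ha'⟩ := Γ.El_of_dual_El h1 h2
      exact h2 (hc _ _ (Subgroup.mem_inf.1 ha').1)
    obtain ⟨P, hP⟩ := Γ.exists_absolute b hinj fun P Q hPQ => by
      obtain ⟨b', h, -, -, -, hh, hQb, -, -, -, -, -⟩ :=
        Γ.symm_hom hn (hgb Q) hPQ ⟨b P, gb P, hgb P⟩
      exact huniq P b' h hh ▸ hQb
    exact (hgb P).not_inc hn hP
  obtain ⟨C, h₀, hh₀⟩ := haxis a
  have hpart := fun Q (hQ : Γ.I Q a) => Γ.exists_partner hn hcen hh₀ hQ
  set hc : X → ℕ := fun W => Nat.card (Γ.El2 a W) with hcdef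
  set e := Nat.card (Γ.El a) with he
  have hpos : ∀ W, 0 < hc W := fun W => Nat.card_pos
  have hfull : ∀ W, hc W = e → Γ.El2 a W = Γ.El a := fun W h =>
    Subgroup.eq_of_le_of_card_ge inf_le_left h.ge
  by_cases hA : ∃ W, Γ.I W a ∧ Γ.El2 a W = Γ.El a
  · -- all elations with axis `a` have one centre
    obtain ⟨W, hWa, hW⟩ := hA
    have hstar : ∀ Q, Γ.I Q a → Q ≠ W → ∃ b g, Γ.Hom W b g ∧ Γ.I Q b := by
      intro Q hQ hQW
      obtain ⟨Z, b, g, hg, -, hZb, hZa, -, hprod⟩ := hpart Q hQ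
      have h1 : Γ.El2 a Q = ⊥ := by
        rw [Subgroup.eq_bot_iff_forall]
        intro x hx
        by_contra hx1
        exact hQW (Γ.El2_eq_centre hx hx1 (hW ▸ (Subgroup.mem_inf.1 hx).1))
      rw [h1, Subgroup.card_bot, one_mul] at hprod
      have hZW : Z = W := Γ.El2_eq_centre (x := x₀) ((hfull Z hprod) ▸ hx₀) hx₀1 (hW ▸ hx₀)
      subst hZW
      obtain ⟨b', g', -, -, -, hg', hQb', -, -, -, -, -⟩ := Γ.symm_hom hn hg hZb (hcen Z)
      exact ⟨b', g', hg', hQb'⟩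
    obtain ⟨Q₁, hQ₁, hQ₁W, -⟩ := Γ.exists_pt_avoid a W W
    obtain ⟨b₁, g₁, hg₁, hQb₁⟩ := hstar Q₁ hQ₁ hQ₁W
    set N := Γ.dual.El W with hN
    have hno : ∀ x ∈ N, x * x = 1 → x = 1 := by
      intro x hx hxx
      by_contra hx1
      obtain ⟨m, hm, hmx⟩ := Γ.El_of_dual_El hx hx1
      exact Hom.not_inc (Γ := Γ)
        ⟨hxx, hx1, (Subgroup.mem_inf.1 hmx).1.1, (Subgroup.mem_inf.1 hmx).2⟩ hn hm
    have hmove : ∀ Q, Γ.I Q a → Q ≠ W → ∃ y ∈ N, y • Q₁ = Q := by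
      intro Q hQ hQW
      by_cases hQQ : Q = Q₁
      · exact ⟨1, one_mem _, by rw [one_smul, hQQ]⟩
      obtain ⟨b₂, g₂, hg₂, hQb₂⟩ := hstar Q hQ hQW
      have hWb₁ := hg₁.not_inc hn
      have hbb : b₁ ≠ b₂ := fun h => hWb₁ (by
        rw [Γ.eq_line hQQ (h ▸ hQb₂) hQb₁ hQ hQ₁]; exact hWa)
      obtain ⟨hx, -⟩ := Γ.dual.prod_elation (by simpa using hn) hg₁.dual hg₂.dual hbb
      set x := g₂ * g₁ with hxdef
      have hodd : Odd (orderOf x) := by
        by_contra hev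
        rw [Nat.not_odd_iff_even, even_iff_two_dvd] at hev
        have h2 : orderOf (x ^ (orderOf x / 2)) = 2 := by
          rw [orderOf_pow_of_dvd _ (Nat.div_dvd_of_dvd hev),
            Nat.div_div_self hev (orderOf_pos x).ne']
          have := orderOf_pos x
          obtain ⟨t, ht⟩ := hev
          omega
        have h1 := hno (x ^ (orderOf x / 2)) (pow_mem hx _)
          (by have h3 := pow_orderOf_eq_one (x ^ (orderOf x / 2)); rwa [h2, pow_two] at h3)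
        rw [h1, orderOf_one] at h2
        omega
      obtain ⟨t, ht⟩ := hodd
      set y := x ^ (t + 1) with hy
      have hyN : y ∈ N := pow_mem hx _
      have hyy : y * y = x := by
        rw [hy, ← pow_add, show t + 1 + (t + 1) = orderOf x + 1 by omega, pow_succ,
          pow_orderOf_eq_one, one_mul]
      have hinv : g₁ * y * g₁ = y⁻¹ := Γ.dual.El_invert hg₁.dual (by simpa using hn) hyN
      have hconj : y * g₁ * y⁻¹ = g₂ := by
        rw [← hinv]
        calc y * g₁ * (g₁ * y * g₁) = y * (g₁ * g₁) * y * g₁ := by group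
          _ = y * y * g₁ := by rw [hg₁.1]; group
          _ = g₂ := by rw [hyy, hxdef, mul_assoc, hg₁.1, mul_one]
      have hyb : y • b₁ = b₂ := by
        have := hg₁.2.2.1.conj y
        rw [hconj] at this
        exact this.unique hg₂.2.2.1 hg₂.2.1
      have hya : y • a = a := (hyN.1 : Γ.Cn y W) a hWa
      refine ⟨y, hyN, Γ.eq_point (y := b₂) (y' := a) ?_ (hyb ▸ (Γ.inv y _ _).2 hQb₁) hQb₂
        ((Γ.inv_fixed hya _).2 hQ₁) hQ⟩
      exact fun h => hg₂.not_inc hn (h ▸ hWa)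
    obtain ⟨Q₂, hQ₂, hQ₂W, hQ₂Q⟩ := Γ.exists_pt_avoid a W Q₁
    obtain ⟨y, hyN, hy⟩ := hmove Q₂ hQ₂ hQ₂W
    have hy1 : y ≠ 1 := by
      rintro rfl
      exact hQ₂Q (by rw [← hy, one_smul])
    obtain ⟨m, hWm, hym⟩ := Γ.El_of_dual_El hyN hy1
    have hma : m ≠ a := by
      rintro rfl
      exact hQ₂Q (by rw [← hy, (Subgroup.mem_inf.1 hym).1.1 Q₁ hQ₁])
    have hx₀W : x₀ ∈ Γ.El2 a W := hW ▸ hx₀
    obtain ⟨p, hp, hpg⟩ := Γ.dual.El_exponent hg₁.dual (by simpa using hn) (W := a) (W' := m)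
      hma.symm (u := x₀) ⟨Γ.dual_El_of_El2 hx₀W hx₀1, hx₀.1⟩ hx₀1 (v := y)
      ⟨hyN, (Subgroup.mem_inf.1 hym).1.1⟩ hy1
    have := Fact.mk hp
    have horb : MulAction.orbit N Q₁ = ↑((ptsOf Γ.I a).erase W) := by
      ext Q
      simp only [coe_erase, Set.mem_diff, mem_coe, mem_ptsOf, Set.mem_singleton_iff]
      constructor
      · rintro ⟨⟨z, hz⟩, rfl⟩
        have hzW : z • W = W := Cn.fix_point (Γ := Γ) hz.1
        refine ⟨(Γ.inv_fixed ((hz.1 : Γ.Cn z W) a hWa) _).2 hQ₁, fun h => hQ₁W ?_⟩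
        exact smul_left_cancel z ((h : z • Q₁ = W).trans hzW.symm)
      · rintro ⟨hQ, hQW⟩
        obtain ⟨z, hz, hzQ⟩ := hmove Q hQ hQW
        exact ⟨⟨z, hz⟩, hzQ⟩
    have hcard : Nat.card (MulAction.orbit N Q₁) = Γ.n := by
      rw [horb, Nat.card_coe_set_eq, Set.ncard_coe_finset, card_erase_of_mem (mem_ptsOf.2 hWa),
        Γ.cardPts, Γ.k_eq, Nat.add_sub_cancel]
    have hdvd : Γ.n ∣ Nat.card N := by
      rw [← hcard, Nat.card_congr (MulAction.orbitEquivQuotientStabilizer N Q₁)]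
      exact Subgroup.card_quotient_dvd_card _
    obtain ⟨j, hj⟩ := (IsPGroup.iff_card.1 hpg)
    rw [hj] at hdvd
    obtain ⟨i, -, hi⟩ := (Nat.dvd_prime_pow hp).1 hdvd
    refine ⟨p, i, hp.prime, Nat.pos_of_ne_zero fun h => ?_, hi.symm⟩
    rw [h, pow_zero] at hi
    have := Γ.two_le_n
    omega
  -- at least two centres
  push_neg at hA
  have htwo : ∀ Q, Γ.I Q a → 2 ≤ hc Q := by
    intro Q hQ
    by_contra hlt
    have h1 : hc Q = 1 := by have := hpos Q; omega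
    obtain ⟨Z, -, -, -, -, -, hZa, -, hprod⟩ := hpart Q hQ
    change hc Q * hc Z = e at hprod
    rw [h1, one_mul] at hprod
    exact hA Z hZa (hfull Z hprod)
  obtain ⟨Q₀, hQ₀, hmax⟩ := exists_max_image (ptsOf Γ.I a) hc
    (card_pos.1 (by rw [Γ.cardPts, Γ.k_eq]; omega))
  rw [mem_ptsOf] at hQ₀
  obtain ⟨Z₀, -, -, -, -, -, hZ₀, hne₀, hprod₀⟩ := hpart Q₀ hQ₀
  change hc Q₀ * hc Z₀ = e at hprod₀
  set M := hc Q₀ with hM
  set m₀ := hc Z₀ with hm₀
  have hMm : m₀ ≤ M := hmax Z₀ (mem_ptsOf.2 hZ₀)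
  have hle : ∀ R, Γ.I R a → R ≠ Q₀ → hc R ≤ m₀ := by
    intro R _ hR
    have h : M * hc R ≤ M * m₀ := by rw [hprod₀]; exact Γ.card_El2_mul_le (a := a) hR.symm
    exact Nat.le_of_mul_le_mul_left h (hpos Q₀)
  have hconst : ∀ R, Γ.I R a → R ≠ Q₀ → hc R = m₀ := by
    intro R hR hRQ
    obtain ⟨Z, -, -, -, -, -, hZ, hZR, hprod⟩ := hpart R hR
    change hc R * hc Z = e at hprod
    refine le_antisymm (hle R hR hRQ) ?_
    by_contra hlt
    rw [not_le] at hlt
    have hZM : hc Z ≤ M := hmax Z (mem_ptsOf.2 hZ)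
    have : hc R * hc Z < m₀ * M :=
      lt_of_le_of_lt (Nat.mul_le_mul_left _ hZM) (Nat.mul_lt_mul_of_pos_right hlt (hpos Q₀))
    rw [hprod, ← hprod₀, mul_comm M] at this
    exact lt_irrefl _ this
  -- count the elations
  have : Fintype G := Fintype.ofFinite G
  have hsum : e = 1 + ∑ W ∈ ptsOf Γ.I a, (hc W - 1) := by
    have hdecomp : ((univ : Finset G).filter fun x => x ∈ Γ.El a).erase 1 =
        (ptsOf Γ.I a).biUnion fun W => ((univ : Finset G).filter fun x => x ∈ Γ.El2 a W).erase 1 := by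
      ext x
      simp only [mem_erase, mem_filter, mem_univ, true_and, mem_biUnion, mem_ptsOf]
      constructor
      · rintro ⟨h1, hx⟩
        obtain ⟨W, hW, hxW⟩ := Γ.exists_El2 hx h1
        exact ⟨W, hW, h1, hxW⟩
      · rintro ⟨W, -, h1, hx⟩
        exact ⟨h1, (Subgroup.mem_inf.1 hx).1⟩
    have hcd := congrArg Finset.card hdecomp
    rw [card_biUnion] at hcd
    · have hcs : ∀ H : Subgroup G, (((univ : Finset G).filter fun x => x ∈ H).erase 1).card
          = Nat.card H - 1 := by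
        intro H
        rw [card_erase_of_mem (by simp), Nat.card_eq_fintype_card, ← Fintype.card_subtype]
      simp only [hcs] at hcd
      have : 0 < e := Nat.card_pos
      simp only [hcdef, he] at this ⊢
      omega
    · intro W _ W' _ hWW
      rw [Function.onFun, disjoint_left]
      intro x hx hx'
      simp only [mem_erase, mem_filter, mem_univ, true_and] at hx hx'
      exact hWW (Γ.El2_eq_centre hx.2 hx.1 hx'.2)
  have hm2 : 2 ≤ m₀ := htwo Z₀ hZ₀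
  rw [← add_sum_erase _ _ (mem_ptsOf.2 hQ₀),
    sum_congr rfl fun W hW => by
      rw [hconst W (mem_ptsOf.1 (mem_erase.1 hW).2) (mem_erase.1 hW).1],
    sum_const, card_erase_of_mem (mem_ptsOf.2 hQ₀), Γ.cardPts, Γ.k_eq, Nat.add_sub_cancel,
    smul_eq_mul, ← hprod₀, ← hM] at hsum
  have hnM : Γ.n = M := by
    have hM1 : 1 ≤ M := hpos Q₀
    obtain ⟨d, hd⟩ : ∃ d, m₀ = d + 2 := ⟨m₀ - 2, by omega⟩
    rw [hd, show d + 2 - 1 = d + 1 by omega, Nat.mul_add] at hsum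
    have : Γ.n * (d + 1) = M * (d + 1) := by
      rw [Nat.mul_add M d 1, mul_one]
      omega
    exact Nat.eq_of_mul_eq_mul_right (by omega) this
  obtain ⟨u, hu⟩ : ∃ u : Γ.El2 a Q₀, u ≠ 1 := by
    have : Nontrivial (Γ.El2 a Q₀) := Finite.one_lt_card_iff_nontrivial.1 (htwo Q₀ hQ₀)
    exact exists_ne 1
  obtain ⟨v, hv⟩ : ∃ v : Γ.El2 a Z₀, v ≠ 1 := by
    have : Nontrivial (Γ.El2 a Z₀) := Finite.one_lt_card_iff_nontrivial.1 hm2
    exact exists_ne 1
  obtain ⟨p, hp, hpg⟩ := Γ.El_exponent hh₀ hn hne₀.symm u.2 (fun h => hu (Subtype.ext h)) v.2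
    (fun h => hv (Subtype.ext h))
  have := Fact.mk hp
  obtain ⟨j, hj⟩ := IsPGroup.iff_card.1 hpg
  have hdvd : Γ.n ∣ p ^ j := by rw [← hj, hnM, ← he, ← hprod₀]; exact dvd_mul_right _ _
  obtain ⟨i, -, hi⟩ := (Nat.dvd_prime_pow hp).1 hdvd
  refine ⟨p, i, hp.prime, Nat.pos_of_ne_zero fun h => ?_, hi.symm⟩
  rw [h, pow_zero] at hi
  have := Γ.two_le_n
  omega

end Pl

end Cfsg.Agent.OW85
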