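import Mathlib
import Cfsg.Agent.Lib.OW85Plane

/-!
# The plane of fixed points of a subgroup fixing a quadrangle
-/

set_option autoImplicit false

namespace Cfsg.Agent.OW85

open Finset MulAction
open Cfsg.Agent.Axial80

section Fix

variable {G : Type*} [Group G] (H : Subgroup G) (X : Type*) [MulAction G X]

/-- The points fixed by `H`. -/
abbrev Fix := {x : X // ∀ h ∈ H, h • x = x}

noncomputable instance fixFintype [Finite X] : Fintype (Fix H X) := Fintype.ofFinite _

instance fixAction : MulAction (Subgroup.normalizer (H : Set G)) (Fix H X) where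
  smul g x := ⟨(g : G) • (x : X), fun h hh => by
    have hm : (g : G)⁻¹ * h * (g : G) ∈ H := by
      have := (Subgroup.mem_normalizer_iff''.1 g.2 h).1 hh
      exact this
    have h2 := x.2 _ hm
    rw [mul_smul, mul_smul, inv_smul_eq_iff] at h2
    exact h2⟩
  one_smul x := Subtype.ext (one_smul G (x : X))
  mul_smul g g' x := Subtype.ext (mul_smul (g : G) (g' : G) (x : X))

variable (Y : Type*) [MulAction G Y]

/-- The normalizer, acting on the fixed points and lines. -/
def subHom : Subgroup.normalizer (H : Set G) →* Equiv.Perm (Fix H X) × Equiv.Perm (Fix H Y) :=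
  (MulAction.toPermHom _ _).prod (MulAction.toPermHom _ _)

/-- The group induced on the fixed configuration. -/
abbrev SubG := (subHom H X Y).range

instance subActionX : MulAction (SubG H X Y) (Fix H X) :=
  MulAction.compHom _ ((MonoidHom.fst _ _).comp (SubG H X Y).subtype)

instance subActionY : MulAction (SubG H X Y) (Fix H Y) :=
  MulAction.compHom _ ((MonoidHom.snd _ _).comp (SubG H X Y).subtype)

/-- The induced collineation of an element normalizing `H`. -/
def img (g : Subgroup.normalizer (H : Set G)) : SubG H X Y := (subHom H X Y).rangeRestrict g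

variable {H X Y}

lemma img_smul (g : Subgroup.normalizer (H : Set G)) (x : Fix H X) :
    ((img H X Y g • x : Fix H X) : X) = (g : G) • (x : X) := rfl

lemma img_smulY (g : Subgroup.normalizer (H : Set G)) (y : Fix H Y) :
    ((img H X Y g • y : Fix H Y) : Y) = (g : G) • (y : Y) := rfl

end Fix

variable {G X Y : Type*} [Group G] [Fintype X] [Fintype Y] [DecidableEq X] [DecidableEq Y]
  [MulAction G X] [MulAction G Y]

namespace Pl

variable (Γ : Pl G X Y)

/-- The plane of fixed points and lines. -/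
noncomputable def sub (H : Subgroup G) (hq : Γ.Quad fun x => ∀ h ∈ H, h • x = x) :
    Pl (SubG H X Y) (Fix H X) (Fix H Y) :=
  letI : Membership (Fix H X) (Fix H Y) := ⟨fun y x => Γ.I x.1 y.1⟩
  haveI nd : Configuration.Nondegenerate (Fix H X) (Fix H Y) :=
    { exists_point := fun l => by
        obtain ⟨A, B, C, D, hA, hB, hC, hD, h1, -, -, -⟩ := hq
        by_contra hc
        push_neg at hc
        exact h1 l.1 (hc ⟨A, hA⟩) (hc ⟨B, hB⟩) (hc ⟨C, hC⟩)
      exists_line := fun p => by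
        obtain ⟨A, B, C, D, hA, hB, hC, hD, h1, h2, h3, h4⟩ := hq
        obtain ⟨y1, a1, b1⟩ := Γ.exists_join h1.ne.1
        obtain ⟨y2, a2, c2⟩ := Γ.exists_join h1.ne.2.1
        obtain ⟨y3, b3, c3⟩ := Γ.exists_join h1.ne.2.2
        by_contra hc
        push_neg at hc
        have p1 : Γ.I p.1 y1 := hc ⟨y1, fun h hh => Γ.fixed_join h1.ne.1 (hA h hh) (hB h hh) a1 b1⟩
        have p2 : Γ.I p.1 y2 :=
          hc ⟨y2, fun h hh => Γ.fixed_join h1.ne.2.1 (hA h hh) (hC h hh) a2 c2⟩
        have p3 : Γ.I p.1 y3 :=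
          hc ⟨y3, fun h hh => Γ.fixed_join h1.ne.2.2 (hB h hh) (hC h hh) b3 c3⟩
        have hpA : p.1 = A := Γ.eq_point (fun e => h1 y1 a1 b1 (by rw [e]; exact c2)) p1 a1 p2 a2
        exact h1 y3 (hpA ▸ p3) b3 c3
      eq_or_eq := fun {p₁ p₂ l₁ l₂} a b c d => or_iff_not_imp_left.2 fun hne =>
        Subtype.ext (Γ.eq_line (fun e => hne (Subtype.ext e)) a b c d) }
  haveI hP : Configuration.ProjectivePlane (Fix H X) (Fix H Y) :=
    { nd with
      mkPoint := fun {l₁ l₂} h =>
        ⟨Classical.choose (Γ.exists_meet fun e => h (Subtype.ext e)), fun g hg =>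
          Γ.fixed_meet (fun e => h (Subtype.ext e)) (l₁.2 g hg) (l₂.2 g hg)
            (Classical.choose_spec (Γ.exists_meet fun e => h (Subtype.ext e))).1
            (Classical.choose_spec (Γ.exists_meet fun e => h (Subtype.ext e))).2⟩
      mkPoint_ax := fun {l₁ l₂} h =>
        Classical.choose_spec (Γ.exists_meet (y := l₁.1) (y' := l₂.1) fun e => h (Subtype.ext e))
      mkLine := fun {p₁ p₂} h =>
        ⟨Classical.choose (Γ.exists_join fun e => h (Subtype.ext e)), fun g hg =>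
          Γ.fixed_join (fun e => h (Subtype.ext e)) (p₁.2 g hg) (p₂.2 g hg)
            (Classical.choose_spec (Γ.exists_join fun e => h (Subtype.ext e))).1
            (Classical.choose_spec (Γ.exists_join fun e => h (Subtype.ext e))).2⟩
      mkLine_ax := fun {p₁ p₂} h =>
        Classical.choose_spec (Γ.exists_join (x := p₁.1) (x' := p₂.1) fun e => h (Subtype.ext e))
      exists_config := by
        obtain ⟨A, B, C, D, hA, hB, hC, hD, h1, h2, h3, h4⟩ := hq
        obtain ⟨yBC, bBC, cBC⟩ := Γ.exists_join h1.ne.2.2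
        obtain ⟨yBD, bBD, dBD⟩ := Γ.exists_join h2.ne.2.2
        obtain ⟨yAD, aAD, dAD⟩ := Γ.exists_join h2.ne.2.1
        exact ⟨⟨A, hA⟩, ⟨B, hB⟩, ⟨C, hC⟩,
          ⟨yAD, fun h hh => Γ.fixed_join h2.ne.2.1 (hA h hh) (hD h hh) aAD dAD⟩,
          ⟨yBC, fun h hh => Γ.fixed_join h1.ne.2.2 (hB h hh) (hC h hh) bBC cBC⟩,
          ⟨yBD, fun h hh => Γ.fixed_join h2.ne.2.2 (hB h hh) (hD h hh) bBD dBD⟩,
          fun e => h1 yBC e bBC cBC, fun e => h2 yBD e bBD dBD, fun e => h2 yAD aAD e dAD,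
          bBC, bBD, fun e => h3 yAD aAD e dAD, cBC, fun e => h4 yBD bBD e dBD⟩ }
  { I := fun x y => Γ.I x.1 y.1
    k := Configuration.ProjectivePlane.order (Fix H X) (Fix H Y) + 1
    lam := 1
    lam_one := rfl
    cardEq := Configuration.ProjectivePlane.card_points_eq_card_lines (Fix H X) (Fix H Y)
    cardPts := fun y => by
      rw [← Configuration.ProjectivePlane.pointCount_eq (Fix H X) y, Configuration.pointCount,
        ← Nat.card_eq_finsetCard]
      exact Nat.card_congr (Equiv.subtypeEquivRight fun x => mem_ptsOf)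
    cardBlks := fun x => by
      rw [← Configuration.ProjectivePlane.lineCount_eq (Fix H Y) x, Configuration.lineCount,
        ← Nat.card_eq_finsetCard]
      exact Nat.card_congr (Equiv.subtypeEquivRight fun y => mem_blksOf)
    meetBlks := fun x x' h => by
      obtain ⟨l, hl, hu⟩ := Configuration.HasLines.existsUnique_line (Fix H X) (Fix H Y) x x' h
      refine card_eq_one.2 ⟨l, ext fun y => ?_⟩
      rw [mem_inter, mem_blksOf, mem_blksOf, mem_singleton]
      exact ⟨fun hy => hu y hy, fun e => e ▸ hl⟩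
    meetPts := fun y y' h => by
      obtain ⟨p, hp, hu⟩ := Configuration.HasPoints.existsUnique_point (Fix H X) (Fix H Y) y y' h
      refine card_eq_one.2 ⟨p, ext fun x => ?_⟩
      rw [mem_inter, mem_ptsOf, mem_ptsOf, mem_singleton]
      exact ⟨fun hx => hu x hx, fun e => e ▸ hp⟩
    two_le := by
      have := Configuration.ProjectivePlane.one_lt_order (Fix H X) (Fix H Y)
      omega
    lt_v := by
      have := Configuration.ProjectivePlane.one_lt_order (Fix H X) (Fix H Y)
      rw [Configuration.ProjectivePlane.card_points (Fix H X) (Fix H Y), pow_two]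
      nlinarith
    inv := fun g x y => by
      obtain ⟨_, g', rfl⟩ := g
      exact Γ.inv (g' : G) x.1 y.1
    faith := fun g hg => by
      obtain ⟨_, g', rfl⟩ := g
      refine Subtype.ext (Prod.ext (Equiv.ext hg) (Equiv.ext fun y => Subtype.ext ?_))
      obtain ⟨a, b, hab, ha, hb⟩ : ∃ a b : Fix H X, a ≠ b ∧ Γ.I a.1 y.1 ∧ Γ.I b.1 y.1 := by
        have hc : 1 < Nat.card {p : Fix H X // p ∈ y} := by
          have h1 := Configuration.ProjectivePlane.two_lt_pointCount (Fix H X) y
          rw [Configuration.pointCount] at h1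
          omega
        obtain ⟨⟨a, ha⟩, ⟨b, hb⟩, hab⟩ :=
          (Finite.one_lt_card_iff_nontrivial.1 hc).exists_pair_ne
        exact ⟨a, b, fun e => hab (Subtype.ext e), ha, hb⟩
      exact Γ.fixed_join (fun e => hab (Subtype.ext e)) (congrArg Subtype.val (hg a))
        (congrArg Subtype.val (hg b)) ha hb }

variable {H : Subgroup G} (hq : Γ.Quad fun x => ∀ h ∈ H, h • x = x)

lemma sub_I (x : Fix H X) (y : Fix H Y) : (Γ.sub H hq).I x y ↔ Γ.I x.1 y.1 := Iff.rfl

lemma sub_quad {F : X → Prop} (hF : ∀ x, F x → ∀ h ∈ H, h • x = x) (hQ : Γ.Quad F) :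
    (Γ.sub H hq).Quad fun x => F x.1 := by
  obtain ⟨A, B, C, D, hA, hB, hC, hD, h1, h2, h3, h4⟩ := hQ
  exact ⟨⟨A, hF A hA⟩, ⟨B, hF B hB⟩, ⟨C, hF C hC⟩, ⟨D, hF D hD⟩, hA, hB, hC, hD,
    fun y => h1 y.1, fun y => h2 y.1, fun y => h3 y.1, fun y => h4 y.1⟩

lemma gen3_of_sub {a b c : Fix H X} (h : (Γ.sub H hq).Gen3 a b c) : Γ.Gen3 a.1 b.1 c.1 :=
  fun y ha hb hc => h ⟨y, fun g hg => Γ.fixed_join
    (fun e => h.ne.1 (Subtype.ext e)) (a.2 g hg) (b.2 g hg) ha hb⟩ ha hb hc

lemma quad_of_sub {F : Fix H X → Prop} {F' : X → Prop} (hF : ∀ x, F x → F' x.1)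
    (hQ : (Γ.sub H hq).Quad F) : Γ.Quad F' := by
  obtain ⟨A, B, C, D, hA, hB, hC, hD, h1, h2, h3, h4⟩ := hQ
  exact ⟨A.1, B.1, C.1, D.1, hF A hA, hF B hB, hF C hC, hF D hD, Γ.gen3_of_sub hq h1,
    Γ.gen3_of_sub hq h2, Γ.gen3_of_sub hq h3, Γ.gen3_of_sub hq h4⟩

omit [DecidableEq X] [DecidableEq Y] in
lemma fix_zpowers {α : Type*} [MulAction G α] (g : G) (x : α) :
    (∀ h ∈ Subgroup.zpowers g, h • x = x) ↔ g • x = x :=
  ⟨fun h => h g (Subgroup.mem_zpowers g), fun hx _ hh =>
    (Subgroup.zpowers_le.2 (show g ∈ stabilizer G x from hx)) hh⟩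

/-- An involution fixing a quadrangle fixes a Baer subplane. -/
lemma baer {g : G} (hgg : g * g = 1) (h1 : g ≠ 1) (hQ : Γ.Quad fun x => g • x = x) :
    ∃ m, Γ.n = m * m ∧ (univ.filter fun x : X => g • x = x).card = m * m + m + 1 ∧
      ∀ y : Y, g • y = y → ((ptsOf Γ.I y).filter fun x => g • x = x).card = m + 1 := by
  classical
  set H := Subgroup.zpowers g
  have hq : Γ.Quad fun x => ∀ h ∈ H, h • x = x := by
    obtain ⟨A, B, C, D, hA, hB, hC, hD, r⟩ := hQ
    exact ⟨A, B, C, D, (fix_zpowers g A).2 hA, (fix_zpowers g B).2 hB, (fix_zpowers g C).2 hC,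
      (fix_zpowers g D).2 hD, r⟩
  set m := (Γ.sub H hq).n with hm
  have hv : (univ.filter fun x : X => g • x = x).card = m * m + m + 1 := by
    rw [← (Γ.sub H hq).card_X, ← Fintype.card_subtype]
    exact Fintype.card_congr (Equiv.subtypeEquivRight fun x => (fix_zpowers g x).symm)
  have hline : ∀ y : Y, g • y = y → ((ptsOf Γ.I y).filter fun x => g • x = x).card = m + 1 := by
    intro y hy
    rw [← (Γ.sub H hq).k_eq, ← (Γ.sub H hq).cardPts ⟨y, (fix_zpowers g y).2 hy⟩]
    refine (card_bij (fun x _ => x.1) (fun x hx => ?_) (fun x _ x' _ e => Subtype.ext e) ?_).symm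
    · exact mem_filter.2 ⟨mem_ptsOf.2 ((Γ.sub_I hq _ _).1 (mem_ptsOf.1 hx)),
        (fix_zpowers g _).1 x.2⟩
    · intro x hx
      rw [mem_filter, mem_ptsOf] at hx
      exact ⟨⟨x, (fix_zpowers g x).2 hx.2⟩, mem_ptsOf.2 hx.1, rfl⟩
  refine ⟨m, ?_, hv, hline⟩
  set M := univ.filter fun x : X => ¬ g • x = x with hM
  set L := univ.filter fun y : Y => g • y = y with hL
  have hMcard : M.card + (m * m + m + 1) = Γ.n * Γ.n + Γ.n + 1 := by
    rw [← hv, add_comm, card_filter_add_card_filter_not, card_univ, Γ.card_X]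
  have hcount : M.card = L.card * (Γ.n - m) := by
    have hMU : M = L.biUnion fun y => (ptsOf Γ.I y).filter fun x => ¬ g • x = x := by
      ext x
      simp only [hM, hL, mem_filter, mem_univ, true_and, mem_biUnion, mem_ptsOf]
      exact ⟨fun hx => by
        obtain ⟨y, h1, h2⟩ := Γ.moved_on_fixed_line hgg hx
        exact ⟨y, h2, h1, hx⟩, fun ⟨y, _, _, hx⟩ => hx⟩
    rw [hMU, card_biUnion]
    · rw [sum_congr rfl fun y hy => ?_, sum_const, smul_eq_mul]
      have h2 := card_filter_add_card_filter_not (s := ptsOf Γ.I y) (fun x => g • x = x)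
      rw [hline y (mem_filter.1 hy).2, Γ.cardPts, Γ.k_eq] at h2
      omega
    · intro y hy y' hy' hne
      rw [Function.onFun, disjoint_left]
      intro x hx hx'
      simp only [mem_filter, mem_ptsOf] at hx hx'
      exact hx.2 (Γ.fixed_meet hne (mem_filter.1 hy).2 (mem_filter.1 hy').2 hx.1 hx'.1)
  rw [hL, ← Γ.card_fix, hv] at hcount
  have hmn : m < Γ.n := by
    by_contra hge
    rw [not_lt] at hge
    rw [Nat.sub_eq_zero_of_le hge, mul_zero] at hcount
    refine h1 (Γ.faith g fun x => by_contra fun hx => ?_)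
    exact (card_pos.2 ⟨x, mem_filter.2 ⟨mem_univ x, hx⟩⟩).ne' hcount
  obtain ⟨d, hd, hd0⟩ : ∃ d, Γ.n = m + d ∧ 0 < d := ⟨Γ.n - m, by omega, by omega⟩
  rw [hd, Nat.add_sub_cancel_left] at hcount
  rw [hd] at hMcard ⊢
  have : (m + d + m + 1) * d = (m * m + m + 1) * d := by nlinarith
  have := Nat.eq_of_mul_eq_mul_right hd0 this
  omega

lemma eq_of_card_eq {a b : ℕ} (h : a * a + a + 1 = b * b + b + 1) : a = b := by nlinarith

variable [Finite G]

/-- The order of the plane is a `2 ^ i`-th power of the order of the fixed plane of a 2-group. -/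
theorem order_tower : ∀ (H : Subgroup G), IsPGroup 2 H →
    ∀ hq : Γ.Quad fun x => ∀ h ∈ H, h • x = x, ∃ i, Γ.n = (Γ.sub H hq).n ^ (2 ^ i) := by
  suffices h : ∀ (c : ℕ) (H : Subgroup G), Nat.card H = c → IsPGroup 2 H →
      ∀ hq : Γ.Quad fun x => ∀ h ∈ H, h • x = x, ∃ i, Γ.n = (Γ.sub H hq).n ^ (2 ^ i) from
    fun H => h _ H rfl
  intro c
  induction c using Nat.strong_induction_on with
  | _ c ih =>
    intro H hc hH hq
    classical
    obtain ⟨j, hj⟩ := IsPGroup.iff_card.1 hH
    rcases j with _ | j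
    · refine ⟨0, ?_⟩
      rw [pow_zero] at hj
      have hbot : H = ⊥ := Subgroup.card_eq_one.1 hj
      rw [pow_zero, pow_one]
      refine eq_of_card_eq ?_
      rw [← Γ.card_X, ← (Γ.sub H hq).card_X]
      exact (Fintype.card_congr (Equiv.subtypeUnivEquiv fun x h hh => by
        rw [hbot, Subgroup.mem_bot] at hh
        rw [hh, one_smul])).symm
    have := Fact.mk Nat.prime_two
    obtain ⟨K, hK⟩ := Sylow.exists_subgroup_card_pow_prime (G := H) 2 (n := j)
      (hj ▸ pow_dvd_pow 2 j.le_succ)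
    have hidx : K.index = 2 := by
      have := K.card_mul_index
      rw [hK, hj, pow_succ] at this
      exact Nat.eq_of_mul_eq_mul_left (pow_pos two_pos _) this
    have hKn : K.Normal := Subgroup.normal_of_index_eq_two hidx
    obtain ⟨g₀, hg₀⟩ : ∃ g₀ : H, g₀ ∉ K := by
      by_contra hh
      push_neg at hh
      rw [(Subgroup.eq_top_iff' K).2 hh, Subgroup.index_top] at hidx
      omega
    set H₁ := K.map H.subtype with hH₁
    have hc₁ : Nat.card H₁ = 2 ^ j := by
      rw [hH₁, Subgroup.card_map_of_injective H.subtype_injective, hK]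
    have hle : H₁ ≤ H := Subgroup.map_subtype_le K
    have hp₁ : IsPGroup 2 H₁ := IsPGroup.of_card hc₁
    have hq₁ : Γ.Quad fun x => ∀ h ∈ H₁, h • x = x := by
      obtain ⟨A, B, C, D, hA, hB, hC, hD, r⟩ := hq
      exact ⟨A, B, C, D, fun h hh => hA h (hle hh), fun h hh => hB h (hle hh),
        fun h hh => hC h (hle hh), fun h hh => hD h (hle hh), r⟩
    obtain ⟨i, hi⟩ := ih _ (by rw [← hc, hj]; exact Nat.pow_lt_pow_right one_lt_two j.lt_succ_self)
      H₁ hc₁ hp₁ hq₁
    have hgN : (g₀ : G) ∈ Subgroup.normalizer (H₁ : Set G) := by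
      rw [Subgroup.mem_normalizer_iff]
      intro x
      constructor
      · rintro ⟨k, hk, rfl⟩
        exact ⟨g₀ * k * g₀⁻¹, hKn.conj_mem k hk g₀, rfl⟩
      · rintro ⟨k, hk, e⟩
        refine ⟨g₀⁻¹ * k * g₀, hKn.conj_mem' k hk g₀, ?_⟩
        change (g₀ : G)⁻¹ * (k : G) * (g₀ : G) = x
        rw [show ((k : H) : G) = (g₀ : G) * x * (g₀ : G)⁻¹ from e]
        group
    set σ := img H₁ X Y ⟨g₀, hgN⟩ with hσ
    set Δ := Γ.sub H₁ hq₁ with hΔ
    have hσσ : σ * σ = 1 := by
      refine Δ.faith _ fun x => Subtype.ext ?_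
      rw [mul_smul, hσ, img_smul, img_smul]
      change (g₀ : G) • (g₀ : G) • (x : X) = x
      rw [← mul_smul]
      exact x.2 _ ⟨g₀ * g₀, Subgroup.mul_self_mem_of_index_two hidx g₀, rfl⟩
    have hfix : ∀ x : Fix H₁ X, σ • x = x ↔ ∀ h ∈ H, h • (x : X) = x := by
      intro x
      refine ⟨fun hx h hh => ?_, fun hx => Subtype.ext (hx _ g₀.2)⟩
      have hgx : (g₀ : G) • (x : X) = x := congrArg Subtype.val hx
      by_cases hhK : (⟨h, hh⟩ : H) ∈ K
      · exact x.2 h ⟨⟨h, hh⟩, hhK, rfl⟩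
      · have : (⟨h, hh⟩ : H) * g₀ ∈ K := (Subgroup.mul_mem_iff_of_index_two hidx).2
          (by simp [hhK, hg₀])
        have h2 := x.2 (h * g₀) ⟨_, this, rfl⟩
        rwa [mul_smul, hgx] at h2
    have hcard : (univ.filter fun x : Fix H₁ X => σ • x = x).card =
        (Γ.sub H hq).n * (Γ.sub H hq).n + (Γ.sub H hq).n + 1 := by
      rw [← (Γ.sub H hq).card_X, ← Fintype.card_subtype]
      exact Fintype.card_congr
        { toFun := fun x => ⟨x.1.1, (hfix x.1).1 x.2⟩
          invFun := fun x => ⟨⟨x.1, fun h hh => x.2 h (hle hh)⟩, (hfix _).2 x.2⟩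
          left_inv := fun _ => rfl
          right_inv := fun _ => rfl }
    by_cases hσ1 : σ = 1
    · refine ⟨i, ?_⟩
      have : Δ.n = (Γ.sub H hq).n := by
        refine eq_of_card_eq ?_
        rw [← hcard, filter_true_of_mem fun x _ => by rw [hσ1, one_smul], card_univ, Δ.card_X]
      rw [hi, this]
    · obtain ⟨m, hm, hmc, -⟩ := Δ.baer hσσ hσ1 (by
        obtain ⟨A, B, C, D, hA, hB, hC, hD, r1, r2, r3, r4⟩ :=
          Γ.sub_quad hq₁ (fun x hx h hh => hx h (hle hh)) hq
        exact ⟨A, B, C, D, (hfix A).2 hA, (hfix B).2 hB, (hfix C).2 hC, (hfix D).2 hD,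
          r1, r2, r3, r4⟩)
      refine ⟨i + 1, ?_⟩
      rw [hi, hm, ← eq_of_card_eq (hcard.symm.trans hmc), ← pow_two, ← pow_mul,
        pow_succ']

end Pl

end Cfsg.Agent.OW85
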