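import Mathlib
import Cfsg.Agent.Lib.OW85Plane
import Cfsg.Agent.Lib.OW85Sub
import Cfsg.Agent.Lib.OW85Homology

/-!
# A plane with a group doubly transitive on points has a nontrivial axial collineation
-/

set_option autoImplicit false

namespace Cfsg.Agent.OW85

open Finset MulAction
open Cfsg.Agent.Axial80

variable {G X Y : Type*} [Group G] [Fintype X] [Fintype Y] [DecidableEq X] [DecidableEq Y]
  [MulAction G X] [MulAction G Y]

omit [Fintype X] [DecidableEq X] in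
/-- A Sylow subgroup's orbit has length divisible by the `p`-part of the orbit of the group. -/
lemma dvd_card_orbit [Finite G] [Finite X] {p : ℕ} [Fact p.Prime] {S K : Subgroup G} (hle : S ≤ K)
    (hS : IsPGroup p S) (hmax : ∀ e, p ^ e ∣ Nat.card K → p ^ e ∣ Nat.card S) (a : X) {e : ℕ}
    (he : p ^ e ∣ Nat.card (orbit K a)) : p ^ e ∣ Nat.card (orbit S a) := by
  obtain ⟨s, hs⟩ := IsPGroup.iff_card.1 hS
  have hK : Nat.card (orbit K a) * Nat.card (stabilizer K a) = Nat.card K := by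
    rw [← Nat.card_prod]
    exact Nat.card_congr (orbitProdStabilizerEquivGroup K a)
  have hS' : Nat.card (orbit S a) * Nat.card (stabilizer S a) = Nat.card S := by
    rw [← Nat.card_prod]
    exact Nat.card_congr (orbitProdStabilizerEquivGroup S a)
  obtain ⟨t, ht⟩ := IsPGroup.iff_card.1 (hS.to_subgroup (stabilizer S a))
  have hdvd : p ^ t ∣ Nat.card (stabilizer K a) := by
    rw [← ht]
    let f : stabilizer S a →* stabilizer K a :=
      { toFun := fun x => ⟨⟨((x : S) : G), hle (x : S).2⟩, x.2⟩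
        map_one' := rfl
        map_mul' := fun _ _ => rfl }
    exact Subgroup.card_dvd_of_injective f fun x y e =>
      Subtype.ext (Subtype.ext (congrArg (fun z : stabilizer K a => ((z : K) : G)) e))
  have h := hmax (e + t) (by rw [← hK, pow_add]; exact mul_dvd_mul he hdvd)
  rw [← hS', ht, pow_add] at h
  exact Nat.dvd_of_mul_dvd_mul_right (pow_pos (Fact.out (p := p.Prime)).pos t) h

omit [Fintype X] [DecidableEq X] in
lemma mem_orbit_of_subset [Finite X] {S : Subgroup G} {s : Finset X} {a b : X}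
    (hsub : ∀ x ∈ orbit S a, x ∈ s) (hcard : s.card ≤ Nat.card (orbit S a)) (hb : b ∈ s) :
    b ∈ orbit S a := by
  have h : orbit S a = ↑s := Set.eq_of_subset_of_ncard_le (fun x hx => hsub x hx)
    (by rw [Set.ncard_coe_finset]; rwa [← Nat.card_coe_set_eq]) (Finset.finite_toSet s)
  rw [h]
  exact hb

omit [Fintype X] in
lemma dvd_card_of_orbits [Finite X] {S : Subgroup G} {s : Finset X} {d : ℕ}
    (hinv : ∀ g ∈ S, ∀ x ∈ s, g • x ∈ s) (hd : ∀ x ∈ s, d ∣ Nat.card (orbit S x)) :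
    d ∣ s.card := by
  classical
  rw [card_eq_sum_card_fiberwise (f := fun x => orbit S x) (t := s.image fun x => orbit S x)
    fun x hx => mem_image_of_mem _ hx]
  refine dvd_sum fun O hO => ?_
  obtain ⟨a, ha, rfl⟩ := mem_image.1 hO
  have he : ((s.filter fun x => orbit S x = orbit S a : Finset X) : Set X) = orbit S a := by
    ext x
    simp only [coe_filter, Set.mem_setOf_eq]
    refine ⟨fun hx => hx.2 ▸ mem_orbit_self x, fun hx => ⟨?_, orbit_eq_iff.2 hx⟩⟩
    obtain ⟨⟨g, hg⟩, rfl⟩ := hx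
    exact hinv g hg a ha
  rw [← Set.ncard_coe_finset, he, ← Nat.card_coe_set_eq]
  exact hd a ha

/-- The elements fixing two given points. -/
abbrev pairStab (G : Type*) [Group G] {α : Type*} [MulAction G α] (a b : α) : Subgroup G :=
  stabilizer G a ⊓ stabilizer G b

omit [Fintype X] [DecidableEq X] in
/-- The order of the stabiliser of two points in a doubly transitive action. -/
lemma card_pairStab [Finite G] [Finite X]
    (h2 : ∀ a b c d : X, a ≠ b → c ≠ d → ∃ g : G, g • a = c ∧ g • b = d) {a b : X} (hab : a ≠ b) :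
    Nat.card X * (Nat.card X - 1) * Nat.card (pairStab G a b) = Nat.card G := by
  classical
  have := Fintype.ofFinite X
  have hstab : stabilizer G (a, b) = pairStab G a b := by
    ext g
    simp [Subgroup.mem_inf, Prod.ext_iff]
  have horb : orbit G (a, b) = ↑(univ : Finset X).offDiag := by
    ext ⟨c, d⟩
    simp only [coe_offDiag, Set.mem_offDiag, mem_coe, mem_univ, true_and]
    constructor
    · rintro ⟨g, hg⟩ rfl
      obtain ⟨h1, h2⟩ := Prod.ext_iff.1 hg
      exact hab (smul_left_cancel g (h1.trans h2.symm))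
    · intro hcd
      obtain ⟨g, h1, h2⟩ := h2 a b c d hab hcd
      exact ⟨g, Prod.ext h1 h2⟩
  have := Nat.card_congr (orbitProdStabilizerEquivGroup G (a, b))
  rw [Nat.card_prod, horb, hstab, Nat.card_coe_set_eq, Set.ncard_coe_finset, offDiag_card,
    card_univ, ← Nat.card_eq_fintype_card] at this
  rw [← this, Nat.mul_sub, mul_one]

namespace Pl

variable (Γ : Pl G X Y) [Finite G]

include Γ

/-- `K` has as many orbits on points as on lines. -/
lemma card_orbits_eq (K : Subgroup G) :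
    Nat.card (Quotient (orbitRel K X)) = Nat.card (Quotient (orbitRel K Y)) := by
  classical
  have := Fintype.ofFinite K
  have := Fintype.ofFinite (Quotient (orbitRel K X))
  have := Fintype.ofFinite (Quotient (orbitRel K Y))
  have hX := sum_card_fixedBy_eq_card_orbits_mul_card_group (G := K) (X := X)
  have hY := sum_card_fixedBy_eq_card_orbits_mul_card_group (G := K) (X := Y)
  have e : ∀ g : K, Fintype.card (fixedBy X g) = Fintype.card (fixedBy Y g) := by
    intro g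
    rw [Fintype.card_subtype, Fintype.card_subtype]
    exact Γ.card_fix (g : G)
  rw [sum_congr rfl fun g _ => e g, hY] at hX
  rw [Nat.card_eq_fintype_card, Nat.card_eq_fintype_card]
  exact (Nat.eq_of_mul_eq_mul_right Fintype.card_pos hX).symm

variable (h2 : ∀ a b c d : X, a ≠ b → c ≠ d → ∃ g : G, g • a = c ∧ g • b = d)

include h2

omit [Finite G] in
lemma exists_move (a c : X) : ∃ g : G, g • a = c := by
  obtain ⟨y⟩ := Γ.toDsn.nonemptyY
  obtain ⟨b, -, hb, -⟩ := Γ.exists_pt_avoid y a a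
  obtain ⟨d, -, hd, -⟩ := Γ.exists_pt_avoid y c c
  obtain ⟨g, hg, -⟩ := h2 a b c d hb.symm hd.symm
  exact ⟨g, hg⟩

omit [Finite G] in
/-- Moving a flag to any other. -/
lemma flag_trans {P P' : X} {a a' : Y} (h : Γ.I P a) (h' : Γ.I P' a') :
    ∃ g : G, g • P = P' ∧ g • a = a' := by
  obtain ⟨Q, hQ, hQP, -⟩ := Γ.exists_pt_avoid a P P
  obtain ⟨Q', hQ', hQP', -⟩ := Γ.exists_pt_avoid a' P' P'
  obtain ⟨g, h1, h2'⟩ := h2 P Q P' Q' hQP.symm hQP'.symm
  refine ⟨g, h1, Γ.eq_line hQP'.symm ?_ ?_ h' hQ'⟩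
  · exact h1 ▸ (Γ.inv g P a).2 h
  · exact h2' ▸ (Γ.inv g Q a).2 hQ

/-- The stabiliser of a point is transitive on the lines not through it. -/
lemma trans_nonflag {P : X} {a a' : Y} (h : ¬ Γ.I P a) (h' : ¬ Γ.I P a') :
    ∃ g : G, g • P = P ∧ g • a = a' := by
  classical
  set K := stabilizer G P
  have hX : Nat.card (Quotient (orbitRel K X)) = 2 := by
    obtain ⟨Q, -, hQ, -⟩ := Γ.exists_pt_avoid a P P
    rw [Nat.card_eq_two_iff]
    refine ⟨⟦P⟧, ⟦Q⟧, ?_, ?_⟩
    · intro e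
      obtain ⟨g, hg⟩ := Quotient.exact e
      have h3 : (g : G) • Q = P := hg
      exact hQ (smul_left_cancel (g : G) (h3.trans g.2.symm))
    · refine Set.eq_univ_of_forall fun q => Quotient.inductionOn q fun R => ?_
      by_cases hR : R = P
      · left; rw [hR]
      · right
        obtain ⟨g, h1, h3⟩ := h2 P Q P R hQ.symm (Ne.symm hR)
        exact Quotient.sound ⟨⟨g, h1⟩, h3⟩
  rw [Γ.card_orbits_eq K] at hX
  obtain ⟨b, hb, -, -⟩ := Γ.exists_line_avoid P a a
  have hinv : ∀ {u w : Y}, (⟦u⟧ : Quotient (orbitRel K Y)) = ⟦w⟧ → (Γ.I P u ↔ Γ.I P w) := by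
    intro u w e
    obtain ⟨g, hg⟩ := Quotient.exact e
    have h3 : (g : G) • w = u := hg
    rw [← h3]
    conv_lhs => rw [show P = (g : G) • P from g.2.symm]
    exact Γ.inv _ P w
  have e := ((Nat.card_eq_two_iff' (⟦b⟧ : Quotient (orbitRel K Y))).1 hX).unique
    (fun e => h ((hinv e).2 hb)) (fun e => h' ((hinv e).2 hb))
  obtain ⟨g, hg⟩ := Quotient.exact e
  refine ⟨(g : G)⁻¹, inv_smul_eq_iff.2 g.2.symm, ?_⟩
  have h3 : (g : G) • a' = a := hg
  rw [← h3, inv_smul_smul]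

/-- The stabiliser of a line is transitive on the points off it. -/
lemma trans_off {l : Y} {P P' : X} (h : ¬ Γ.I P l) (h' : ¬ Γ.I P' l) :
    ∃ g : G, g • l = l ∧ g • P = P' := by
  obtain ⟨g, hg⟩ := Γ.exists_move h2 P P'
  have h1 : ¬ Γ.I P' (g • l) := fun e => h ((Γ.inv g P l).1 (hg.symm ▸ e))
  obtain ⟨k, hk1, hk2⟩ := Γ.trans_nonflag h2 h1 h'
  exact ⟨k * g, by rw [mul_smul, hk2], by rw [mul_smul, hg, hk1]⟩

/-- The group is doubly transitive on lines. -/
lemma twoY {a b c d : Y} (hab : a ≠ b) (hcd : c ≠ d) : ∃ g : G, g • a = c ∧ g • b = d := by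
  classical
  set K := stabilizer G c
  have hX : Nat.card (Quotient (orbitRel K X)) = 2 := by
    obtain ⟨x, hx, -, -⟩ :=
      Γ.exists_pt_avoid c Γ.toDsn.nonemptyX.some Γ.toDsn.nonemptyX.some
    obtain ⟨o, ho⟩ := Γ.exists_out c
    rw [Nat.card_eq_two_iff]
    refine ⟨⟦x⟧, ⟦o⟧, ?_, ?_⟩
    · intro e
      obtain ⟨g, hg⟩ := Quotient.exact e
      have h3 : (g : G) • o = x := hg
      exact ho ((Γ.inv_fixed g.2 o).1 (h3.symm ▸ hx))
    · refine Set.eq_univ_of_forall fun q => Quotient.inductionOn q fun R => ?_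
      by_cases hR : Γ.I R c
      · left
        obtain ⟨g, h1, h3⟩ := Γ.flag_trans h2 hx hR
        exact Quotient.sound ⟨⟨g, h3⟩, h1⟩
      · right
        obtain ⟨g, h1, h3⟩ := Γ.trans_off h2 ho hR
        exact Quotient.sound ⟨⟨g, h1⟩, h3⟩
  rw [Γ.card_orbits_eq K] at hX
  obtain ⟨Pa, hPa, -, -⟩ := Γ.exists_pt_avoid a Γ.toDsn.nonemptyX.some Γ.toDsn.nonemptyX.some
  obtain ⟨Pc, hPc, -, -⟩ := Γ.exists_pt_avoid c Γ.toDsn.nonemptyX.some Γ.toDsn.nonemptyX.some
  obtain ⟨g, -, hg⟩ := Γ.flag_trans h2 hPa hPc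
  have hne : g • b ≠ c := fun e => hab (smul_left_cancel g (hg.trans e.symm))
  have hone : ∀ {u : Y}, u ≠ c → (⟦u⟧ : Quotient (orbitRel K Y)) ≠ ⟦c⟧ := by
    intro u hu e
    obtain ⟨k, hk⟩ := Quotient.exact e
    have h3 : (k : G) • c = u := hk
    exact hu (h3.symm.trans k.2)
  have e := ((Nat.card_eq_two_iff' (⟦c⟧ : Quotient (orbitRel K Y))).1 hX).unique
    (hone hne) (hone hcd.symm)
  obtain ⟨k, hk⟩ := Quotient.exact e
  have h3 : (k : G) • d = g • b := hk
  exact ⟨(k : G)⁻¹ * g, by rw [mul_smul, hg]; exact inv_smul_eq_iff.2 k.2.symm,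
    by rw [mul_smul, ← h3, inv_smul_smul]⟩

/-- Prime power order: a central element of the Sylow subgroup of a pair stabiliser has an axis. -/
theorem axial_of_prime_pow (hn : IsPrimePow Γ.n) : ∃ g : G, g ≠ 1 ∧ ∃ l, Γ.Ax g l := by
  classical
  by_contra hno
  push_neg at hno
  obtain ⟨p, s, hp', hs, hps⟩ := hn
  have hp : p.Prime := hp'.nat_prime
  have := Fact.mk hp
  have hpn : (p : ℕ) ∣ Γ.n := hps ▸ dvd_pow_self p hs.ne'
  have hv : Nat.card X = Γ.n * Γ.n + Γ.n + 1 := by rw [Nat.card_eq_fintype_card, Γ.card_X]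
  obtain ⟨P⟩ := Γ.toDsn.nonemptyX
  set KP := stabilizer G P with hKP
  obtain ⟨S₀⟩ : Nonempty (Sylow p KP) := inferInstance
  set S := (S₀ : Subgroup KP).map KP.subtype with hSdef
  have hSK : S ≤ KP := Subgroup.map_subtype_le _
  have hScard : Nat.card S = Nat.card (S₀ : Subgroup KP) :=
    Subgroup.card_map_of_injective KP.subtype_injective
  have hSp : IsPGroup p S := S₀.2.map _
  have hmaxS : ∀ e, p ^ e ∣ Nat.card KP → p ^ e ∣ Nat.card S := fun e he =>
    hScard ▸ Sylow.pow_dvd_card_of_pow_dvd_card S₀ he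
  -- `S` fixes a line through `P`
  have hfixP : ∀ g ∈ S, g • P = P := fun g hg => hSK hg
  have hinvP : ∀ (g : G), g • P = P → ∀ y, Γ.I P (g • y) ↔ Γ.I P y := fun g hg y =>
    Γ.dual.inv_fixed hg y
  obtain ⟨l, hPl, hlS⟩ : ∃ l, Γ.I P l ∧ ∀ g ∈ S, g • l = l := by
    by_contra hc
    push_neg at hc
    have h := dvd_card_of_orbits (S := S) (s := blksOf Γ.I P) (d := p)
      (fun g hg y hy => mem_blksOf.2 ((hinvP g (hfixP g hg) y).2 (mem_blksOf.1 hy))) fun y hy => by
        obtain ⟨g, hg, hgy⟩ := hc y (mem_blksOf.1 hy)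
        obtain ⟨j, hj⟩ := hSp.card_orbit y
        rcases j with _ | j
        · exfalso
          rw [pow_zero] at hj
          obtain ⟨h1, -⟩ := Nat.card_eq_one_iff_unique.1 hj
          exact hgy (congrArg Subtype.val (h1.elim (⟨g • y, ⟨g, hg⟩, rfl⟩ : orbit S y)
            ⟨y, mem_orbit_self y⟩))
        · exact hj ▸ dvd_pow_self p j.succ_ne_zero
    rw [Γ.cardBlks, Γ.k_eq] at h
    exact hp.one_lt.ne' (Nat.dvd_one.1 ((Nat.dvd_add_right hpn).1 h))
  -- transitivity of `S` on the lines not through `P`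
  have hSlines : ∀ b b', ¬ Γ.I P b → ¬ Γ.I P b' → ∃ g ∈ S, g • b = b' := by
    intro b b' hb hb'
    set T := univ \ blksOf Γ.I P with hTdef
    have hT : T.card = p ^ (s + s) := by
      rw [hTdef, card_univ_sdiff, Γ.cardBlks, Γ.k_eq, Γ.card_Y, pow_add, hps]
      omega
    have horb : orbit KP b = ↑T := by
      ext y
      simp only [hTdef, coe_sdiff, Set.mem_diff, mem_coe, mem_univ, true_and, mem_blksOf]
      constructor
      · rintro ⟨g, rfl⟩
        exact fun e => hb ((hinvP g g.2 b).1 e)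
      · intro hy
        obtain ⟨g, h1, h3⟩ := Γ.trans_nonflag h2 hb hy
        exact ⟨⟨g, h1⟩, h3⟩
    have hdvd := dvd_card_orbit hSK hSp hmaxS b (e := s + s)
      (by rw [horb, Nat.card_coe_set_eq, Set.ncard_coe_finset, hT])
    have hmem : b' ∈ orbit S b := mem_orbit_of_subset (s := T)
      (fun y hy => by
        obtain ⟨⟨g, hg⟩, rfl⟩ := hy
        exact mem_sdiff.2 ⟨mem_univ _, fun e => hb ((hinvP g (hfixP g hg) b).1 (mem_blksOf.1 e))⟩)
      (hT ▸ Nat.le_of_dvd (by have := (nonempty_orbit (M := S) b).to_subtype; exact Nat.card_pos) hdvd)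
      (mem_sdiff.2 ⟨mem_univ _, fun e => hb' (mem_blksOf.1 e)⟩)
    obtain ⟨⟨g, hg⟩, e⟩ := hmem
    exact ⟨g, hg, e⟩
  -- `S` is transitive on the points of `l` other than `P`
  have hSpts : ∀ Q Q', Γ.I Q l → Γ.I Q' l → Q ≠ P → Q' ≠ P → ∃ g ∈ S, g • Q = Q' := by
    intro Q Q' hQ hQ' hQP hQP'
    obtain ⟨b, hb, hbl, -⟩ := Γ.exists_line_avoid Q l l
    obtain ⟨b', hb', hbl', -⟩ := Γ.exists_line_avoid Q' l l
    have hbP : ¬ Γ.I P b := fun e => hQP (Γ.eq_point hbl hb e hQ hPl)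
    have hbP' : ¬ Γ.I P b' := fun e => hQP' (Γ.eq_point hbl' hb' e hQ' hPl)
    obtain ⟨g, hg, hgb⟩ := hSlines b b' hbP hbP'
    exact ⟨g, hg, Γ.eq_point hbl' (hgb ▸ (Γ.inv g Q b).2 hb) hb'
      ((Γ.inv_fixed (hlS g hg) Q).2 hQ) hQ'⟩
  have hUsize : ∀ Z, Γ.I Z l → Z ≠ P →
      Nat.card ↥(S ⊓ stabilizer G Z) * Γ.n = Nat.card S := by
    intro Z hZ hZP
    have horb : orbit S Z = ↑((ptsOf Γ.I l).erase P) := by
      ext x
      simp only [coe_erase, Set.mem_diff, mem_coe, mem_ptsOf, Set.mem_singleton_iff]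
      constructor
      · rintro ⟨⟨g, hg⟩, rfl⟩
        refine ⟨(Γ.inv_fixed (hlS g hg) Z).2 hZ, fun e => hZP ?_⟩
        exact smul_left_cancel g ((e : g • Z = P).trans (hfixP g hg).symm)
      · rintro ⟨h1, h3⟩
        obtain ⟨g, hg, e⟩ := hSpts Z x hZ h1 hZP h3
        exact ⟨⟨g, hg⟩, e⟩
    have h := Nat.card_congr (orbitProdStabilizerEquivGroup S Z)
    rw [Nat.card_prod, horb, Nat.card_coe_set_eq, Set.ncard_coe_finset,
      card_erase_of_mem (mem_ptsOf.2 hPl), Γ.cardPts, Γ.k_eq, Nat.add_sub_cancel, mul_comm] at h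
    rw [← h]
    congr 1
    exact Nat.card_congr
      { toFun := fun x => ⟨⟨x.1, x.2.1⟩, x.2.2⟩
        invFun := fun x => ⟨x.1.1, x.1.2, x.2⟩
        left_inv := fun _ => rfl
        right_inv := fun _ => rfl }
  have hUlines : ∀ Z, Γ.I Z l → Z ≠ P → ∀ b b', Γ.I Z b → Γ.I Z b' → b ≠ l → b' ≠ l →
      ∃ g ∈ S ⊓ stabilizer G Z, g • b = b' := by
    intro Z hZ hZP b b' hb hb' hbl hbl'
    have hbP : ¬ Γ.I P b := fun e => hZP (Γ.eq_point hbl hb e hZ hPl)
    have hbP' : ¬ Γ.I P b' := fun e => hZP (Γ.eq_point hbl' hb' e hZ hPl)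
    obtain ⟨g, hg, hgb⟩ := hSlines b b' hbP hbP'
    exact ⟨g, ⟨hg, Γ.eq_point hbl' (hgb ▸ (Γ.inv g Z b).2 hb) hb'
      ((Γ.inv_fixed (hlS g hg) Z).2 hZ) hZ⟩, hgb⟩
  obtain ⟨Q, hQ, hQP, -⟩ := Γ.exists_pt_avoid l P P
  set U := S ⊓ stabilizer G Q with hU
  set K := pairStab G P Q with hK
  have hUK : U ≤ K := fun g hg => ⟨hSK hg.1, hg.2⟩
  have hUp : IsPGroup p U := hSp.to_le inf_le_left
  have hn0 : 0 < Γ.n := by have := Γ.two_le_n; omega
  have hGP : Nat.card KP * Nat.card X = Nat.card G := by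
    have h := Nat.card_congr (orbitProdStabilizerEquivGroup G P)
    have horb : orbit G P = Set.univ := Set.eq_univ_of_forall fun x => Γ.exists_move h2 P x
    rw [Nat.card_prod, horb, Nat.card_univ, mul_comm] at h
    exact h
  have hKPK : Nat.card KP = Γ.n * (Γ.n + 1) * Nat.card K := by
    have h := card_pairStab h2 hQP.symm
    rw [hv] at h hGP
    rw [← hGP, show Γ.n * Γ.n + Γ.n + 1 - 1 = Γ.n * (Γ.n + 1) by
      rw [Nat.add_sub_cancel]; ring, mul_assoc, mul_comm (Nat.card KP)] at h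
    exact (Nat.eq_of_mul_eq_mul_left (by omega) h).symm
  have hmaxU : ∀ e, p ^ e ∣ Nat.card K → p ^ e ∣ Nat.card U := by
    intro e he
    have h := hmaxS (s + e) (by
      rw [hKPK, pow_add, hps, mul_assoc]
      exact mul_dvd_mul_left _ (he.mul_left _))
    rw [← hUsize Q hQ hQP, pow_add, hps, mul_comm (Nat.card _)] at h
    exact Nat.dvd_of_mul_dvd_mul_left hn0 h
  have hUP : ∀ b b', Γ.I P b → Γ.I P b' → b ≠ l → b' ≠ l → ∃ g ∈ U, g • b = b' := by
    intro b b' hb hb' hbl hbl'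
    obtain ⟨w, hwP, hwQ⟩ := h2 P Q Q P hQP.symm hQP
    have hwl : w • l = l := Γ.eq_line hQP (hwP ▸ (Γ.inv w P l).2 hPl) (hwQ ▸ (Γ.inv w Q l).2 hQ)
      hQ hPl
    set T := (blksOf Γ.I P).erase l with hT
    have hTc : T.card = p ^ s := by
      rw [hT, card_erase_of_mem (mem_blksOf.2 hPl), Γ.cardBlks, Γ.k_eq, hps, Nat.add_sub_cancel]
    have hstab : ∀ g : G, g • P = P → g • Q = Q → g • l = l := fun g h1 h3 =>
      Γ.fixed_join hQP.symm h1 h3 hPl hQ
    have horb : orbit K b = ↑T := by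
      ext y
      simp only [hT, coe_erase, Set.mem_diff, mem_coe, mem_blksOf, Set.mem_singleton_iff]
      constructor
      · rintro ⟨⟨g, hgP, hgQ⟩, rfl⟩
        refine ⟨(hinvP g hgP b).2 hb, fun e => hbl ?_⟩
        exact smul_left_cancel g ((e : g • b = l).trans (hstab g hgP hgQ).symm)
      · rintro ⟨hy, hyl⟩
        have t : ∀ z, Γ.I P z → z ≠ l → Γ.I Q (w • z) ∧ w • z ≠ l := fun z hz hzl =>
          ⟨hwP ▸ (Γ.inv w P z).2 hz, fun e => hzl (smul_left_cancel w (e.trans hwl.symm))⟩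
        obtain ⟨g, ⟨hgS, hgQ⟩, hg⟩ := hUlines Q hQ hQP (w • b) (w • y) (t b hb hbl).1
          (t y hy hyl).1 (t b hb hbl).2 (t y hy hyl).2
        have hgQ' : g • Q = Q := hgQ
        refine ⟨⟨w⁻¹ * g * w, ?_, ?_⟩, ?_⟩
        · show (w⁻¹ * g * w) • P = P
          rw [mul_smul, mul_smul, hwP, hgQ', inv_smul_eq_iff, hwP]
        · show (w⁻¹ * g * w) • Q = Q
          rw [mul_smul, mul_smul, hwQ, hfixP g hgS, inv_smul_eq_iff, hwQ]
        · show (w⁻¹ * g * w) • b = y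
          rw [mul_smul, mul_smul, hg, inv_smul_smul]
    have hdvd := dvd_card_orbit hUK hUp hmaxU b (e := s)
      (by rw [horb, Nat.card_coe_set_eq, Set.ncard_coe_finset, hTc])
    have hmem : b' ∈ orbit U b := mem_orbit_of_subset (s := T)
      (fun y hy => by
        obtain ⟨⟨g, hg⟩, rfl⟩ := hy
        refine mem_erase.2 ⟨fun e => hbl ?_, mem_blksOf.2 ((hinvP g (hfixP g hg.1) b).2 hb)⟩
        exact smul_left_cancel g ((e : g • b = l).trans (hlS g hg.1).symm))
      (hTc ▸ Nat.le_of_dvd (by have := (nonempty_orbit (M := U) b).to_subtype; exact Nat.card_pos) hdvd) (mem_erase.2 ⟨hbl', mem_blksOf.2 hb'⟩)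
    obtain ⟨⟨g, hg⟩, e⟩ := hmem
    exact ⟨g, hg, e⟩
  have : Nontrivial U := by
    obtain ⟨b, hb, hbl, -⟩ := Γ.exists_line_avoid P l l
    obtain ⟨b', hb', hbl', hbb⟩ := Γ.exists_line_avoid P l b
    obtain ⟨g, hg, hgb⟩ := hUP b b' hb hb' hbl hbl'
    refine ⟨⟨⟨g, hg⟩, 1, fun e => hbb ?_⟩⟩
    rw [← hgb, show g = 1 from congrArg Subtype.val e, one_smul]
  obtain ⟨u₀, hu₀⟩ := (Subgroup.nontrivial_iff_ne_bot _).1 hUp.center_nontrivial |> fun h => by
    exact (Subgroup.ne_bot_iff_exists_ne_one.1 h)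
  set u : G := ((u₀ : U) : G) with hu
  have hu1 : u ≠ 1 := fun e => hu₀ (Subtype.ext (Subtype.ext e))
  have huU : u ∈ U := (u₀ : U).2
  have hucomm : ∀ g ∈ U, g * u = u * g := fun g hg =>
    congrArg Subtype.val (Subgroup.mem_center_iff.1 u₀.2 ⟨g, hg⟩)
  have huP : u • P = P := hfixP u huU.1
  have huQ : u • Q = Q := huU.2
  have hul : u • l = l := hlS u huU.1
  have hmove : ∀ g ∈ U, ∀ y : Y, u • y = y → u • (g • y) = g • y := fun g hg y hy => by
    rw [← mul_smul, ← hucomm g hg, mul_smul, hy]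
  -- a fixed line through a fixed point of `U` on `l` gives a centre
  have hnc : ∀ Z, Γ.I Z l → (∀ g ∈ U, g • Z = Z) → ∀ b, Γ.I Z b → b ≠ l → u • b ≠ b := by
    intro Z hZ hZU b hb hbl hub
    have hC : Γ.Cn u Z := by
      intro y hy
      by_cases hyl : y = l
      · rw [hyl]; exact hul
      obtain ⟨g, hg, hgy⟩ : ∃ g ∈ U, g • b = y := by
        by_cases hZP : Z = P
        · subst hZP; exact hUP b y hb hy hbl hyl
        · have hle : U ≤ S ⊓ stabilizer G Z := fun g hg => ⟨hg.1, hZU g hg⟩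
          have heq : U = S ⊓ stabilizer G Z := Subgroup.eq_of_le_of_card_ge hle
            (Nat.eq_of_mul_eq_mul_right hn0
              ((hUsize Z hZ hZP).trans (hUsize Q hQ hQP).symm)).le
          rw [heq]
          exact hUlines Z hZ hZP b y hb hy hbl hyl
      exact hgy ▸ hmove g hg b hub
    obtain ⟨l', hl'⟩ := hC.exists_axis
    exact hno u hu1 l' hl'
  obtain ⟨b, hub, hbl⟩ : ∃ b, u • b = b ∧ b ≠ l := by
    have h : 1 < (univ.filter fun y : Y => u • y = y).card := by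
      rw [← Γ.card_fix]
      exact one_lt_card.2 ⟨P, mem_filter.2 ⟨mem_univ _, huP⟩, Q, mem_filter.2 ⟨mem_univ _, huQ⟩,
        hQP.symm⟩
    obtain ⟨b, hb, hne⟩ := exists_mem_ne h l
    exact ⟨b, (mem_filter.1 hb).2, hne⟩
  obtain ⟨C, hCb, hCl⟩ := Γ.exists_meet hbl
  obtain ⟨v, hvU, hvC⟩ : ∃ v ∈ U, v • C ≠ C := by
    by_contra hc
    push_neg at hc
    exact hnc C hCl hc b hCb hbl hub
  set b' := v • b with hb'def
  have hvl : v • l = l := hlS v hvU.1
  have hub' : u • b' = b' := hmove v hvU b hub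
  have hb'l : b' ≠ l := fun e => hbl (smul_left_cancel v (e.trans hvl.symm))
  have hbb : b ≠ b' := fun e => hvC (Γ.eq_point hbl
    (e ▸ (Γ.inv v C b).2 hCb : Γ.I (v • C) b) hCb ((Γ.inv_fixed hvl C).2 hCl) hCl)
  obtain ⟨W, hWb, hWb'⟩ := Γ.exists_meet hbb
  have hWl : ¬ Γ.I W l := fun e => hvC (by
    have h1 : W = C := Γ.eq_point hbl hWb hCb e hCl
    have h3 : v • C = W := Γ.eq_point hb'l ((Γ.inv v C b).2 hCb) hWb'
      ((Γ.inv_fixed hvl C).2 hCl) e
    rw [h3, h1])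
  have huW : u • W = W := Γ.fixed_meet hbb hub hub' hWb hWb'
  have hWP : P ≠ W := fun e => hWl (e ▸ hPl)
  obtain ⟨c, hPc, hWc⟩ := Γ.exists_join hWP
  exact hnc P hPl (fun g hg => hfixP g hg.1) c hPc (fun e => hWl (e ▸ hWc))
    (Γ.fixed_join hWP huP huW hPc hWc)

end Pl

end Cfsg.Agent.OW85
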