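import Mathlib
import Cfsg.Agent.Lib.OW85Axial

/-!
# Existence of an axial collineation in every doubly transitive plane
-/

set_option autoImplicit false

namespace Cfsg.Agent.OW85

open Finset MulAction
open Cfsg.Agent.Axial80

variable {G X Y : Type*} [Group G] [Fintype X] [Fintype Y] [DecidableEq X] [DecidableEq Y]
  [MulAction G X] [MulAction G Y]

omit [Fintype X] [Fintype Y] [DecidableEq X] [DecidableEq Y] in
/-- A 2-group smaller than the Sylow subgroups is of index two in a larger one. -/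
lemma exists_double [Finite G] {H K : Subgroup G} (hle : H ≤ K) {t : ℕ} (hH : Nat.card H = 2 ^ t)
    (hd : 2 ^ (t + 1) ∣ Nat.card K) :
    ∃ L : Subgroup G, H ≤ L ∧ L ≤ K ∧ Nat.card L = 2 ^ (t + 1) ∧
      ∃ y ∈ L, y ∉ H ∧ y ∈ Subgroup.normalizer (H : Set G) ∧ y * y ∈ H ∧
        ∀ z ∈ L, z ∈ H ∨ z * y ∈ H := by
  have := Fact.mk Nat.prime_two
  obtain ⟨L₀, hL₀, hL₀le⟩ := Sylow.exists_subgroup_card_pow_succ (G := K) (p := 2) hd
    (H := H.subgroupOf K) (by rw [Nat.card_congr (Subgroup.subgroupOfEquivOfLe hle).toEquiv, hH])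
  set L := L₀.map K.subtype with hL
  have hLc : Nat.card L = 2 ^ (t + 1) := by
    rw [hL, Subgroup.card_map_of_injective K.subtype_injective, hL₀]
  have hHL : H ≤ L := fun x hx => ⟨⟨x, hle hx⟩, hL₀le hx, rfl⟩
  set H' := H.subgroupOf L
  have hidx : H'.index = 2 := by
    have h := H'.card_mul_index
    rw [hLc, Nat.card_congr (Subgroup.subgroupOfEquivOfLe hHL).toEquiv, hH, pow_succ] at h
    exact Nat.eq_of_mul_eq_mul_left (pow_pos two_pos _) h
  obtain ⟨y, hyL, hyH⟩ : ∃ y ∈ L, y ∉ H := by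
    by_contra hc
    push_neg at hc
    have h := Subgroup.card_le_of_le (show L ≤ H from hc)
    rw [hLc, hH] at h
    exact absurd h (not_le.2 (Nat.pow_lt_pow_right one_lt_two t.lt_succ_self))
  refine ⟨L, hHL, Subgroup.map_subtype_le _, hLc, y, hyL, hyH, ?_, ?_, ?_⟩
  · have hn : H'.Normal := Subgroup.normal_of_index_eq_two hidx
    rw [Subgroup.mem_normalizer_iff]
    intro x
    constructor
    · intro hx
      exact hn.conj_mem ⟨x, hHL hx⟩ hx ⟨y, hyL⟩
    · intro hx
      have h := hn.conj_mem' ⟨y * x * y⁻¹, hHL hx⟩ hx ⟨y, hyL⟩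
      have e : y⁻¹ * (y * x * y⁻¹) * y = x := by group
      rw [← e]
      exact h
  · exact Subgroup.mul_self_mem_of_index_two (H := H') hidx ⟨y, hyL⟩
  · intro z hz
    by_cases hzH : z ∈ H
    · exact Or.inl hzH
    · refine Or.inr ?_
      exact (Subgroup.mul_mem_iff_of_index_two (H := H') hidx (a := ⟨z, hz⟩) (b := ⟨y, hyL⟩)).2
        (iff_of_false hzH hyH)

omit [Fintype X] [Fintype Y] [DecidableEq X] [DecidableEq Y] in
lemma stab_le_of (L H : Subgroup G) {y : G} (hy : ∀ z ∈ L, z ∈ H ∨ z * y ∈ H) {Z : X}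
    (hH : ∀ h ∈ H, h • Z = Z) (hyZ : y • Z = Z) : ∀ z ∈ L, z • Z = Z := by
  intro z hz
  rcases hy z hz with h | h
  · exact hH z h
  · have := hH _ h
    rwa [mul_smul, hyZ] at this

namespace Pl

variable (Γ : Pl G X Y) [Finite G]
variable (h2 : ∀ a b c d : X, a ≠ b → c ≠ d → ∃ g : G, g • a = c ∧ g • b = d)

include Γ h2

lemma exists_invol : ∃ t : G, t * t = 1 ∧ t ≠ 1 := by
  obtain ⟨y⟩ := Γ.toDsn.nonemptyY
  obtain ⟨P, hP, -, -⟩ := Γ.exists_pt_avoid y Γ.toDsn.nonemptyX.some Γ.toDsn.nonemptyX.some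
  obtain ⟨Q, -, hQP, -⟩ := Γ.exists_pt_avoid y P P
  obtain ⟨g, hgP, hgQ⟩ := h2 P Q Q P hQP.symm hQP
  have hev : 2 ∣ orderOf g := by
    rw [← even_iff_two_dvd, ← Nat.not_odd_iff_even]
    rintro ⟨j, hj⟩
    have hsq : ∀ i, g ^ (2 * i) • P = P := by
      intro i
      induction i with
      | zero => simp
      | succ i ih => rw [show 2 * (i + 1) = 2 + 2 * i by ring, pow_add, mul_smul, ih, pow_two,
          mul_smul, hgP, hgQ]
    have h := congrArg (fun x : G => x • P) (pow_orderOf_eq_one g)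
    simp only [hj, one_smul] at h
    rw [pow_succ', mul_smul, hsq, hgP] at h
    exact hQP h
  have := Fact.mk Nat.prime_two
  obtain ⟨t, ht⟩ := exists_prime_orderOf_dvd_card' (G := G) 2
    (hev.trans (orderOf_dvd_natCard g))
  refine ⟨t, ?_, fun e => ?_⟩
  · rw [← pow_two, ← ht, pow_orderOf_eq_one]
  · rw [e, orderOf_one] at ht
    omega

/-- A nontrivial axial collineation exists. -/
theorem exists_axial : ∃ g : G, g ≠ 1 ∧ ∃ l, Γ.Ax g l := by
  classical
  by_cases hpp : IsPrimePow Γ.n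
  · exact Γ.axial_of_prime_pow h2 hpp
  by_contra hno
  push_neg at hno
  have hn3 : 3 ≤ Γ.n := by
    have := Γ.two_le_n
    by_contra h
    exact hpp (show Γ.n = 2 by omega ▸ Nat.prime_two.isPrimePow)
  have hquad : ∀ t : G, t * t = 1 → t ≠ 1 → Γ.Quad fun x => t • x = x := by
    intro t h h'
    by_contra hq
    obtain ⟨C, l, hh⟩ := Γ.invol_dichotomy hn3 h h' hq
    exact hno t h' l hh.2.2.1
  obtain ⟨t₀, ht₀, ht₀1⟩ := Γ.exists_invol h2
  obtain ⟨m₀, hm₀, -, -⟩ := Γ.baer ht₀ ht₀1 (hquad _ ht₀ ht₀1)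
  have := Fact.mk Nat.prime_two
  have hv : Nat.card X = Γ.n * Γ.n + Γ.n + 1 := by rw [Nat.card_eq_fintype_card, Γ.card_X]
  obtain ⟨P₀⟩ := Γ.toDsn.nonemptyX
  obtain ⟨y₀⟩ := Γ.toDsn.nonemptyY
  obtain ⟨Q₀, -, hQ₀, -⟩ := Γ.exists_pt_avoid y₀ P₀ P₀
  set c₂ := Nat.card (pairStab G P₀ Q₀) with hc₂
  have hGc : ∀ P Q : X, P ≠ Q → Nat.card (pairStab G P Q) = c₂ := by
    intro P Q h
    have h1 := card_pairStab h2 h
    rw [← card_pairStab h2 hQ₀.symm] at h1
    refine Nat.eq_of_mul_eq_mul_left (Nat.mul_pos ?_ ?_) h1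
    · rw [hv]; omega
    · rw [hv]; have : 0 < Γ.n * Γ.n := by positivity
      omega
  have hGcY : ∀ a b : Y, a ≠ b → Nat.card (pairStab G a b) = c₂ := by
    intro a b h
    have h1 := card_pairStab (fun _ _ _ _ h h' => Γ.twoY h2 h h') h
    have hvY : Nat.card Y = Nat.card X := by
      rw [Nat.card_eq_fintype_card, Nat.card_eq_fintype_card, Γ.cardEq]
    rw [hvY, ← card_pairStab h2 hQ₀.symm] at h1
    refine Nat.eq_of_mul_eq_mul_left (Nat.mul_pos ?_ ?_) h1
    · rw [hv]; omega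
    · rw [hv]; have : 0 < Γ.n * Γ.n := by positivity
      omega
  -- the order is odd
  have hodd : Odd Γ.n := by
    by_contra hev
    rw [Nat.not_odd_iff_even] at hev
    obtain ⟨S₀⟩ : Nonempty (Sylow 2 G) := inferInstance
    set S := (S₀ : Subgroup G) with hSdef
    obtain ⟨l, hlS⟩ : ∃ l : Y, ∀ g ∈ S, g • l = l := by
      by_contra hc
      push_neg at hc
      have h := dvd_card_of_orbits (S := S) (s := (univ : Finset Y)) (d := 2)
        (fun g _ y _ => mem_univ _) fun y _ => by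
          obtain ⟨g, hg, hgy⟩ := hc y
          obtain ⟨j, hj⟩ := S₀.2.card_orbit y
          rcases j with _ | j
          · exfalso
            rw [pow_zero] at hj
            obtain ⟨h1, -⟩ := Nat.card_eq_one_iff_unique.1 hj
            exact hgy (congrArg Subtype.val (h1.elim (⟨g • y, ⟨g, hg⟩, rfl⟩ : orbit S y)
              ⟨y, mem_orbit_self y⟩))
          · exact hj ▸ dvd_pow_self 2 j.succ_ne_zero
      rw [card_univ, Γ.card_Y] at h
      obtain ⟨d, hd⟩ := hev
      have h' : 2 ∣ Γ.n * Γ.n + Γ.n := dvd_add (Dvd.dvd.mul_left ⟨d, by omega⟩ _) ⟨d, by omega⟩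
      exact absurd ((Nat.dvd_add_right h').1 h) (by norm_num)
    have : Nontrivial S := by
      rw [← Finite.one_lt_card_iff_nontrivial]
      have h : 2 ^ 1 ∣ Nat.card S := Sylow.pow_dvd_card_of_pow_dvd_card S₀ (by
        rw [pow_one]
        have ho : orderOf t₀ = 2 := orderOf_eq_prime (by rw [pow_two, ht₀]) ht₀1
        exact ho ▸ orderOf_dvd_natCard t₀)
      rw [pow_one] at h
      exact Nat.lt_of_lt_of_le one_lt_two (Nat.le_of_dvd Nat.card_pos h)
    have := S₀.2.center_nontrivial (G := S)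
    obtain ⟨z₀, hz₀⟩ := exists_prime_orderOf_dvd_card' (G := Subgroup.center S) 2 (by
      obtain ⟨j, hj⟩ := IsPGroup.iff_card.1 (S₀.2.to_subgroup (Subgroup.center S))
      rcases j with _ | j
      · rw [pow_zero] at hj
        exact absurd hj (Finite.one_lt_card).ne'
      · exact hj ▸ dvd_pow_self 2 j.succ_ne_zero)
    set z : G := ((z₀ : S) : G) with hzdef
    have hzz : z * z = 1 := by
      have h := pow_orderOf_eq_one z₀
      rw [hz₀, pow_two] at h
      exact congrArg (fun w : Subgroup.center S => ((w : S) : G)) h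
    have hz1 : z ≠ 1 := fun e => by
      rw [show z₀ = 1 from Subtype.ext (Subtype.ext e), orderOf_one] at hz₀
      omega
    have hzc : ∀ g ∈ S, g * z = z * g := fun g hg =>
      congrArg Subtype.val (Subgroup.mem_center_iff.1 z₀.2 ⟨g, hg⟩)
    obtain ⟨m, hm, hfx, hline⟩ := Γ.baer hzz hz1 (hquad z hzz hz1)
    have hzl : z • l = l := hlS z (z₀ : S).2
    set F := (univ.filter fun x : X => z • x = x) \ ptsOf Γ.I l with hF
    have hFc : F.card = m * m := by
      rw [hF, card_sdiff, hfx]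
      have : ptsOf Γ.I l ∩ (univ.filter fun x : X => z • x = x)
          = (ptsOf Γ.I l).filter fun x => z • x = x := by
        ext x; simp
      rw [this, hline l hzl]
      omega
    set e := (Γ.n * Γ.n).factorization 2 with he
    have hdvd : 2 ^ e ∣ F.card := by
      refine dvd_card_of_orbits (S := S) (fun g hg x hx => ?_) (fun x hx => ?_)
      · simp only [hF, mem_sdiff, mem_filter, mem_univ, true_and, mem_ptsOf] at hx ⊢
        refine ⟨by rw [← mul_smul, ← hzc g hg, mul_smul, hx.1], ?_⟩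
        exact fun e => hx.2 ((Γ.inv_fixed (hlS g hg) x).1 e)
      · simp only [hF, mem_sdiff, mem_filter, mem_univ, true_and, mem_ptsOf] at hx
        refine dvd_card_orbit (K := stabilizer G l) hlS S₀.2
          (fun i hi => Sylow.pow_dvd_card_of_pow_dvd_card S₀
            (hi.trans (Subgroup.card_subgroup_dvd_card _))) x ?_
        have horb : orbit (stabilizer G l) x = ↑(univ \ ptsOf Γ.I l) := by
          ext y
          simp only [coe_sdiff, Set.mem_diff, mem_coe, mem_univ, true_and, mem_ptsOf]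
          constructor
          · rintro ⟨g, rfl⟩
            exact fun e => hx.2 ((Γ.inv_fixed g.2 x).1 e)
          · intro hy
            obtain ⟨g, h1, h3⟩ := Γ.trans_off h2 hx.2 hy
            exact ⟨⟨g, h1⟩, h3⟩
        rw [horb, Nat.card_coe_set_eq, Set.ncard_coe_finset, card_univ_sdiff, Γ.cardPts, Γ.k_eq,
          Γ.card_X, show Γ.n * Γ.n + Γ.n + 1 - (Γ.n + 1) = Γ.n * Γ.n by omega]
        exact Nat.ordProj_dvd _ _
    rw [hFc] at hdvd
    have hm0 : m ≠ 0 := by rintro rfl; omega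
    have h1 := (Nat.prime_two.pow_dvd_iff_le_factorization (mul_ne_zero hm0 hm0)).1 hdvd
    rw [he, hm, Nat.factorization_mul (mul_ne_zero hm0 hm0) (mul_ne_zero hm0 hm0),
      Nat.factorization_mul hm0 hm0] at h1
    simp only [Finsupp.coe_add, Pi.add_apply] at h1
    have h3 : 0 < m.factorization 2 := by
      refine Nat.prime_two.factorization_pos_of_dvd hm0 ?_
      rw [← even_iff_two_dvd]
      rw [hm, Nat.even_mul] at hev
      tauto
    omega
  -- every 2-subgroup fixing a quadrangle is smaller than a Sylow subgroup of a pair stabiliser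
  have hsmall : ∀ (H : Subgroup G) (t : ℕ), Nat.card H = 2 ^ t →
      (Γ.Quad fun x => ∀ h ∈ H, h • x = x) → 2 ^ (t + 1) ∣ c₂ := by
    intro H t hH hq
    by_contra hnd
    obtain ⟨A, B, C, D, hA, hB, -, -, hg, -, -, -⟩ := id hq
    have hAB : A ≠ B := hg.ne.1
    have hle : H ≤ pairStab G A B := fun h hh => ⟨hA h hh, hB h hh⟩
    have hdc : 2 ^ t ∣ c₂ := by
      rw [← hGc A B hAB, ← hH]
      exact Subgroup.card_dvd_of_le hle
    have hleA : H ≤ stabilizer G A := fun h hh => hA h hh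
    have hd : 2 ^ (t + 1) ∣ Nat.card (stabilizer G A) := by
      have h1 := card_pairStab h2 hAB
      have h3 := Nat.card_congr (orbitProdStabilizerEquivGroup G A)
      have horb : orbit G A = Set.univ := Set.eq_univ_of_forall fun x => Γ.exists_move h2 A x
      rw [Nat.card_prod, horb, Nat.card_univ, ← h1, mul_assoc, hGc A B hAB] at h3
      rw [Nat.eq_of_mul_eq_mul_left (by rw [hv]; omega) h3, pow_succ', hv, Nat.add_sub_cancel]
      refine mul_dvd_mul ?_ hdc
      have : Even (Γ.n * (Γ.n + 1)) := Nat.even_mul_succ_self _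
      rw [show Γ.n * Γ.n + Γ.n = Γ.n * (Γ.n + 1) by ring]
      exact this.two_dvd
    obtain ⟨L, hHL, hLA, hLc, y, hyL, -, hyN, hyy, hcov⟩ := exists_double hleA hH hd
    set Δ := Γ.sub H hq with hΔ
    set σ := img H X Y ⟨y, hyN⟩ with hσ
    have hσσ : σ * σ = 1 := Δ.faith _ fun x => Subtype.ext (by
      rw [mul_smul, hσ, img_smul, img_smul, ← mul_smul]
      exact x.2 _ hyy)
    have big : ∀ Z : Fix H X, (Z : X) ≠ A → σ • Z = Z → False := by
      intro Z hZA hσZ
      have hyZ : y • (Z : X) = Z := congrArg Subtype.val hσZ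
      have hZ : ∀ z ∈ L, z • (Z : X) = Z := stab_le_of L H hcov Z.2 hyZ
      have h := Subgroup.card_dvd_of_le
        (show L ≤ pairStab G A (Z : X) from fun z hz => ⟨hLA hz, hZ z hz⟩)
      rw [hLc, hGc A (Z : X) hZA.symm] at h
      exact hnd h
    by_cases hσ1 : σ = 1
    · exact big ⟨B, hB⟩ hAB.symm (by rw [hσ1, one_smul])
    by_cases hqσ : Δ.Quad fun x => σ • x = x
    · obtain ⟨a, b, c, d, ha, hb, -, -, hg', -, -, -⟩ := hqσ
      by_cases haA : (a : X) = A
      · exact big b (fun e => hg'.ne.1 (Subtype.ext (haA.trans e.symm))) hb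
      · exact big a haA ha
    obtain ⟨i, hi⟩ := Γ.order_tower H (IsPGroup.of_card hH) hq
    have hk : Odd Δ.n := by
      rw [hi] at hodd
      exact (Nat.odd_pow_iff (pow_ne_zero _ two_ne_zero)).1 hodd
    have hk3 : 3 ≤ Δ.n := by
      obtain ⟨j, hj⟩ := hk
      have := Δ.two_le_n
      omega
    obtain ⟨C', m', hh⟩ := Δ.invol_dichotomy hk3 hσσ hσ1 hqσ
    obtain ⟨Z, hZ, hZA, -⟩ := Δ.exists_pt_avoid m' ⟨A, hA⟩ ⟨A, hA⟩
    exact big Z (fun e => hZA (Subtype.ext e)) (hh.2.2.1 Z hZ)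
  -- a largest 2-subgroup fixing a quadrangle
  let 𝒮 := {H : Subgroup G // IsPGroup 2 H ∧ Γ.Quad fun x => ∀ h ∈ H, h • x = x}
  have : Nonempty 𝒮 := by
    refine ⟨⟨Subgroup.zpowers t₀, ?_, ?_⟩⟩
    · refine IsPGroup.of_card (n := 1) ?_
      rw [pow_one, Nat.card_zpowers, orderOf_eq_prime (by rw [pow_two, ht₀]) ht₀1]
    · obtain ⟨A, B, C, D, hA, hB, hC, hD, r⟩ := hquad t₀ ht₀ ht₀1
      exact ⟨A, B, C, D, (fix_zpowers t₀ A).2 hA, (fix_zpowers t₀ B).2 hB,
        (fix_zpowers t₀ C).2 hC, (fix_zpowers t₀ D).2 hD, r⟩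
  have : Finite 𝒮 := Subtype.finite
  obtain ⟨⟨H, hHp, hq⟩, hmax⟩ := Finite.exists_max fun H : 𝒮 => Nat.card H.1
  obtain ⟨t, ht⟩ := IsPGroup.iff_card.1 hHp
  set Δ := Γ.sub H hq with hΔ
  obtain ⟨i, hi⟩ := Γ.order_tower H hHp hq
  have hk : Odd Δ.n := by
    rw [hi] at hodd
    exact (Nat.odd_pow_iff (pow_ne_zero _ two_ne_zero)).1 hodd
  have hk3 : 3 ≤ Δ.n := by
    obtain ⟨j, hj⟩ := hk
    have := Δ.two_le_n
    omega
  have key : ∀ K : Subgroup G, H ≤ K → Nat.card K = c₂ →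
      ∃ y ∈ K, ∃ hy : y ∈ Subgroup.normalizer (H : Set G),
        ∃ C l, Δ.Hom C l (img H X Y ⟨y, hy⟩) := by
    intro K hle hK
    obtain ⟨L, hHL, hLK, hLc, y, hyL, -, hyN, hyy, hcov⟩ :=
      exists_double hle ht (hK.symm ▸ hsmall H t ht hq)
    refine ⟨y, hLK hyL, hyN, ?_⟩
    set σ := img H X Y ⟨y, hyN⟩ with hσ
    have hσσ : σ * σ = 1 := Δ.faith _ fun x => Subtype.ext (by
      rw [mul_smul, hσ, img_smul, img_smul, ← mul_smul]
      exact x.2 _ hyy)
    have notQ : ¬ Δ.Quad fun x => σ • x = x := by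
      intro hQ
      have hQ' : Γ.Quad fun x => ∀ h ∈ L, h • x = x := Γ.quad_of_sub hq
        (fun x hx => stab_le_of L H hcov x.2 (congrArg Subtype.val hx)) hQ
      have h : Nat.card L ≤ Nat.card H := hmax ⟨L, IsPGroup.of_card hLc, hQ'⟩
      rw [hLc, ht] at h
      exact absurd h (not_le.2 (Nat.pow_lt_pow_right one_lt_two t.lt_succ_self))
    have hσ1 : σ ≠ 1 := fun e => notQ (by
      obtain ⟨A, B, C, D, hA, hB, hC, hD, r⟩ := Γ.sub_quad hq (fun x hx => hx) hq
      have fx : ∀ x : Fix H X, σ • x = x := fun x => by rw [e, one_smul]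
      exact ⟨A, B, C, D, fx A, fx B, fx C, fx D, r⟩)
    exact Δ.invol_dichotomy hk3 hσσ hσ1 notQ
  have hkpp : IsPrimePow Δ.n := by
    refine Δ.isPrimePow_n hk (fun P Q hPQ => ?_) (fun a b hab => ?_)
    · have hne : (P : X) ≠ Q := fun e => hPQ (Subtype.ext e)
      obtain ⟨y, hy, hyN, C, l, hh⟩ := key (pairStab G (P : X) (Q : X))
        (fun h hh => ⟨P.2 h hh, Q.2 h hh⟩) (hGc _ _ hne)
      exact ⟨C, l, _, hh, Subtype.ext hy.1, Subtype.ext hy.2⟩
    · have hne : (a : Y) ≠ b := fun e => hab (Subtype.ext e)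
      obtain ⟨y, hy, hyN, C, l, hh⟩ := key (pairStab G (a : Y) (b : Y))
        (fun h hh => ⟨a.2 h hh, b.2 h hh⟩) (hGcY _ _ hne)
      exact ⟨C, l, _, hh, Subtype.ext hy.1, Subtype.ext hy.2⟩
  exact hpp (hi ▸ hkpp.pow (pow_ne_zero _ two_ne_zero))

end Pl

end Cfsg.Agent.OW85
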