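import Mathlib
import Cfsg.Agent.Lib.Axial80Projective
import Cfsg.Agent.Lib.OW85Exists

/-!
# The theorem of Ostrom and Wagner
-/

set_option autoImplicit false

namespace Cfsg.Agent.OW85

open Finset MulAction Configuration
open Cfsg.Agent.Axial80

variable (P L : Type*) [Membership P L]

/-- The collineations of a configuration. -/
def collGrp : Subgroup (Equiv.Perm P × Equiv.Perm L) where
  carrier := {g | ∀ (p : P) (l : L), g.1 p ∈ g.2 l ↔ p ∈ l}
  one_mem' := fun _ _ => Iff.rfl
  mul_mem' := fun {a b} ha hb p l => (ha _ _).trans (hb p l)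
  inv_mem' := fun {a} ha p l => by
    have h := ha (a.1⁻¹ p) (a.2⁻¹ l)
    rw [Equiv.Perm.inv_def, Equiv.Perm.inv_def, Equiv.apply_symm_apply, Equiv.apply_symm_apply] at h
    exact h.symm

instance collActP : MulAction (collGrp P L) P :=
  MulAction.compHom _ ((MonoidHom.fst _ _).comp (collGrp P L).subtype)

instance collActL : MulAction (collGrp P L) L :=
  MulAction.compHom _ ((MonoidHom.snd _ _).comp (collGrp P L).subtype)

variable {P L}
variable [Fintype P] [Fintype L] [DecidableEq P] [DecidableEq L] [ProjectivePlane P L]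

/-- The plane with its full collineation group. -/
noncomputable def planeOf : Pl (collGrp P L) P L where
  I p l := p ∈ l
  k := ProjectivePlane.order P L + 1
  lam := 1
  lam_one := rfl
  cardEq := ProjectivePlane.card_points_eq_card_lines P L
  cardPts y := by
    rw [← ProjectivePlane.pointCount_eq P y, pointCount, ← Nat.card_eq_finsetCard]
    exact Nat.card_congr (Equiv.subtypeEquivRight fun x => mem_ptsOf)
  cardBlks x := by
    rw [← ProjectivePlane.lineCount_eq L x, lineCount, ← Nat.card_eq_finsetCard]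
    exact Nat.card_congr (Equiv.subtypeEquivRight fun y => mem_blksOf)
  meetBlks x x' h := by
    obtain ⟨l, hl, hu⟩ := HasLines.existsUnique_line P L x x' h
    refine card_eq_one.2 ⟨l, ext fun y => ?_⟩
    rw [mem_inter, mem_blksOf, mem_blksOf, mem_singleton]
    exact ⟨fun hy => hu y hy, fun e => e ▸ hl⟩
  meetPts y y' h := by
    obtain ⟨p, hp, hu⟩ := HasPoints.existsUnique_point P L y y' h
    refine card_eq_one.2 ⟨p, ext fun x => ?_⟩
    rw [mem_inter, mem_ptsOf, mem_ptsOf, mem_singleton]
    exact ⟨fun hx => hu x hx, fun e => e ▸ hp⟩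
  two_le := by
    have := ProjectivePlane.one_lt_order P L
    omega
  lt_v := by
    have := ProjectivePlane.one_lt_order P L
    rw [ProjectivePlane.card_points P L, pow_two]
    nlinarith
  inv g p l := g.2 p l
  faith g hg := by
    refine Subtype.ext (Prod.ext (Equiv.ext hg) (Equiv.ext fun l => ?_))
    obtain ⟨⟨a, ha⟩, ⟨b, hb⟩, hab⟩ := (Finite.one_lt_card_iff_nontrivial.1
      (show 1 < Nat.card {p : P // p ∈ l} by
        have h := ProjectivePlane.two_lt_pointCount P l
        rw [pointCount] at h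
        omega)).exists_pair_ne
    refine (Nondegenerate.eq_or_eq (P := P) (L := L) ?_ ?_ ha hb).resolve_left
      (fun e => hab (Subtype.ext e))
    · have := (g.2 a l).2 ha
      rwa [show g.1.1 a = a from hg a] at this
    · have := (g.2 b l).2 hb
      rwa [show g.1.1 b = b from hg b] at this

/-- A plane with a group doubly transitive on points is Desarguesian. -/
theorem desarguesian
    (h2t : ∀ p₁ p₂ q₁ q₂ : P, p₁ ≠ p₂ → q₁ ≠ q₂ →
      ∃ (σ : Equiv.Perm P) (τ : Equiv.Perm L),
        (∀ (p : P) (l : L), σ p ∈ τ l ↔ p ∈ l) ∧ σ p₁ = q₁ ∧ σ p₂ = q₂) :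
    ∃ (F : Type) (_ : Field F) (_ : Fintype F) (φ : P ≃ Projectivization F (Fin 3 → F)),
      (∀ l : L, ∃ W : Submodule F (Fin 3 → F), Module.finrank F W = 2 ∧
          ∀ p : P, p ∈ l ↔ (φ p).submodule ≤ W) ∧
      (∀ W : Submodule F (Fin 3 → F), Module.finrank F W = 2 →
          ∃ l : L, ∀ p : P, p ∈ l ↔ (φ p).submodule ≤ W) := by
  classical
  let Γ₀ : Pl (collGrp P L) P L := planeOf
  have h2 : ∀ a b c d : P, a ≠ b → c ≠ d → ∃ g : collGrp P L, g • a = c ∧ g • b = d := by
    intro a b c d hab hcd
    obtain ⟨σ, τ, hst, h1, h2⟩ := h2t a b c d hab hcd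
    exact ⟨⟨(σ, τ), hst⟩, h1, h2⟩
  obtain ⟨g, hg, l₀, hl₀⟩ := Γ₀.exists_axial h2
  let Γ : Geo (collGrp P L) P L :=
    { Γ₀.toDsn with
      inv := Γ₀.inv
      faith := Γ₀.faith
      twoX := h2
      twoY := fun _ _ _ _ h h' => Γ₀.twoY h2 h h'
      axial := ⟨l₀, g, hg, hl₀⟩ }
  obtain ⟨Q⟩ := Γ.exists_Q
  obtain ⟨m, F, iF, iFt, π, hm, hq, hblk⟩ := Γ.exists_projective Q
  have hcard : Nat.card P = ProjectivePlane.order P L ^ 2 + ProjectivePlane.order P L + 1 := by
    rw [Nat.card_eq_fintype_card, ProjectivePlane.card_points P L]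
  have hqn : Q.q = ProjectivePlane.order P L := by
    have h := Q.k_eq
    change ProjectivePlane.order P L + 1 = 1 + Q.q * 1 at h
    omega
  have hm2 : m = 2 := by
    rw [Nat.card_congr π, Projectivization.card_of_finrank F (Fin (m + 1) → F)
      (Module.finrank_fin_fun F), hq, hqn] at hcard
    set q := ProjectivePlane.order P L
    have hq1 : 1 < q := ProjectivePlane.one_lt_order P L
    have h3 : ∑ i ∈ range (2 + 1), q ^ i = q ^ 2 + q + 1 := by
      simp [sum_range_succ]; ring
    rw [← h3] at hcard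
    rcases lt_trichotomy m 2 with h | h | h
    · exact absurd hcard (ne_of_lt (sum_lt_sum_of_subset (range_mono (by omega))
        (i := m + 1) (by simp; omega) (by simp) (by positivity) fun _ _ _ => by positivity))
    · exact h
    · exact absurd hcard.symm (ne_of_lt (sum_lt_sum_of_subset (range_mono (by omega))
        (i := m) (by simp) (by simp; omega) (by positivity) fun _ _ _ => by positivity))
  subst hm2
  refine ⟨F, iF, iFt, π, fun l => ?_, fun W hW => ?_⟩
  · obtain ⟨φ, hφ, hrel⟩ := hblk l
    refine ⟨LinearMap.ker φ, ?_, fun p => ?_⟩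
    · have h := φ.finrank_range_add_finrank_ker
      rw [LinearMap.range_eq_top.2 (LinearMap.surjective hφ), finrank_top, Module.finrank_self,
        Module.finrank_fin_fun] at h
      exact Nat.add_left_cancel (h.trans (by norm_num : (2 + 1 : ℕ) = 1 + 2))
    · rw [Projectivization.submodule_eq, Submodule.span_singleton_le_iff_mem, LinearMap.mem_ker]
      exact hrel p (π p).rep (π p).rep_nonzero (π p).mk_rep.symm
  · obtain ⟨φ, hφ⟩ : ∃ φ : Module.Dual F (Fin 3 → F), LinearMap.ker φ = W := by
      have hne : W ≠ ⊤ := fun e => by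
        rw [e, finrank_top, Module.finrank_fin_fun] at hW
        omega
      obtain ⟨φ, hφ0, hφW⟩ := Submodule.exists_le_ker_of_lt_top W (lt_top_iff_ne_top.2 hne)
      refine ⟨φ, (Submodule.eq_of_le_of_finrank_le hφW ?_).symm⟩
      have h := φ.finrank_range_add_finrank_ker
      rw [LinearMap.range_eq_top.2 (LinearMap.surjective hφ0), finrank_top, Module.finrank_self,
        Module.finrank_fin_fun] at h
      omega
    have hφ0 : φ ≠ 0 := by
      rintro rfl
      rw [LinearMap.ker_zero] at hφ
      rw [← hφ, finrank_top, Module.finrank_fin_fun] at hW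
      omega
    obtain ⟨l, hl⟩ := Γ.exists_block π hblk φ hφ0
    refine ⟨l, fun p => ?_⟩
    rw [Projectivization.submodule_eq, Submodule.span_singleton_le_iff_mem, ← hφ,
      LinearMap.mem_ker]
    exact hl p (π p).rep (π p).rep_nonzero (π p).mk_rep.symm

end Cfsg.Agent.OW85
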