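import Cfsg.Agent.Lib.AutL34Plane54Global
import Cfsg.Agent.Lib.CIT21PlaneElation
import Cfsg.Agent.Lib.PSLCard
import Cfsg.Agent.S3732

/-!
# Identification of the configuration `Flags` as a group with normal `PSL₃(4)` of index three
-/

set_option autoImplicit false
set_option linter.unusedSectionVars false

namespace Cfsg.Agent.AutL34Plane54

open Subgroup Cfsg.Agent.CIT21
open scoped LinearAlgebra.Projectivization

variable {G : Type*} [Group G]

/-- The points (for `(V, A)`) or the lines (for `(A, V)`). -/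
structure Member (A : Subgroup G) where
  sub : Subgroup G
  mem : IsPt A sub

theorem Member.ext' {A : Subgroup G} {x y : Member A} (h : x.sub = y.sub) : x = y := by
  cases x; cases y; subst h; rfl

instance (A : Subgroup G) : MulAction G (Member A) where
  smul g x := ⟨cj g x.sub, x.mem.cj g⟩
  one_smul x := Member.ext' (cj_one x.sub)
  mul_smul g h x := Member.ext' (cj_cj g h x.sub).symm

theorem smul_sub {A : Subgroup G} (g : G) (x : Member A) : (g • x).sub = cj g x.sub := rfl

instance [Finite G] (A : Subgroup G) : Finite (Member A) :=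
  Finite.of_injective Member.sub fun _ _ h => Member.ext' h

variable {F : Type*} [Field F]

theorem finrank_sup_two {x y : ℙ F (Fin 3 → F)} (h : x ≠ y) :
    Module.finrank F ↥(x.submodule ⊔ y.submodule) = 2 := by
  have h1 := Submodule.finrank_sup_add_finrank_inf_eq x.submodule y.submodule
  rw [Projectivization.finrank_submodule, Projectivization.finrank_submodule] at h1
  suffices Module.finrank F ↥(x.submodule ⊓ y.submodule) = 0 by omega
  by_contra h0
  apply h
  apply Projectivization.submodule_injective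
  have hx : x.submodule ⊓ y.submodule = x.submodule :=
    Submodule.eq_of_le_of_finrank_le inf_le_left (by rw [Projectivization.finrank_submodule]; omega)
  exact Submodule.eq_of_le_of_finrank_le (inf_eq_left.1 hx)
    (by rw [Projectivization.finrank_submodule, Projectivization.finrank_submodule])

/-- The group order of `PSL₃(4)`. -/
theorem card_psl34 (F : Type) [Field F] [Fintype F] (h4 : Fintype.card F = 4) :
    Nat.card (Matrix.ProjectiveSpecialLinearGroup (Fin 3) F) = 20160 := by
  have h4' : Nat.card F = 4 := by rw [Nat.card_eq_fintype_card, h4]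
  have h1 := PSLCard.card_SL (F := F) 3
  have h2 := PSLCard.card_PSL_mul (F := F) 3
  rw [h4', Fin.prod_univ_three] at h1
  rw [h4'] at h2
  norm_num at h1 h2
  omega

section

variable [Finite G] {V A S : Subgroup G}

theorem smul_inc (g : G) {p : Member A} {l : Member V} :
    Inc V A (g • p).sub (g • l).sub ↔ Inc V A p.sub l.sub := by
  constructor
  · intro h
    have := h.cj g⁻¹
    rwa [smul_sub, smul_sub, cj_inv, cj_inv] at this
  · intro h
    exact h.cj g

theorem card_member (hf : Flags V A S) :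
    Nat.card (Member A) = 21 := by
  rw [← ncard_allPts hf, ← Nat.card_coe_set_eq]
  exact Nat.card_congr ⟨fun x => ⟨x.sub, x.mem⟩, fun x => ⟨x.1, x.2⟩, fun x => rfl, fun x => rfl⟩

theorem card_G (hf : Flags V A S) : Nat.card G = 60480 := by
  let a : Member A := ⟨A, 1, (cj_one A).symm⟩
  have : MulAction.IsPretransitive G (Member A) := ⟨fun x y => by
    obtain ⟨g, hg⟩ := x.mem
    obtain ⟨h, hh⟩ := y.mem
    exact ⟨h * g⁻¹, Member.ext' (by rw [smul_sub, hg, hh, cj_cj, inv_mul_cancel_right])⟩⟩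
  have h1 : MulAction.stabilizer G a = normalizer (A : Set G) := by
    ext g
    rw [MulAction.mem_stabilizer_iff, mem_norm_iff]
    exact ⟨fun h => congrArg Member.sub h, fun h => Member.ext' h⟩
  rw [← (MulAction.stabilizer G a).card_mul_index,
    MulAction.index_stabilizer_of_transitive G a, card_member hf, h1, hf.side_A.card_N]

/-- A normal subgroup containing all involutions, of order dividing `20160`, has order `20160`. -/
theorem card_L (hf : Flags V A S) (L : Subgroup G) (hn : L.Normal)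
    (hinv : ∀ x : G, x * x = 1 → x ∈ L) (hdvd : Nat.card L ∣ 20160) : Nat.card L = 20160 := by
  have : Fact (Nat.Prime 3) := ⟨Nat.prime_three⟩
  have hA : IsPt A A := ⟨1, (cj_one A).symm⟩
  have hAL : A ≤ L := fun x hx => hinv x (hf.side_A.sq_U x hx)
  have hVL : V ≤ L := fun x hx => hinv x (hf.side_V.sq_U x hx)
  have hptL : ∀ {q}, IsPt A q → q ≤ L := by
    rintro q ⟨g, rfl⟩ x hx
    exact hinv x (sq_cj hf.swap hx)
  have hlnL : ∀ {m}, IsPt V m → m ≤ L := by
    rintro m ⟨g, rfl⟩ x hx
    exact hinv x (sq_cj hf hx)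
  have hSL : S ≤ L := by
    let S' := (V ⊔ A)
    have hle : S' ≤ S := sup_le hf.V_le hf.A_le
    have hd : Nat.card ↥(S' : Subgroup G) ∣ 64 := hf.card_S ▸ Subgroup.card_dvd_of_le hle
    have hV := Subgroup.card_dvd_of_le (le_sup_left : V ≤ S')
    rw [card_V hf] at hV
    have hbig : 32 < Nat.card ↥(S' : Subgroup G) := by
      have h1 : Subgroup.relIndex V A = 4 := by
        have := ((V ⊓ A).subgroupOf A).card_mul_index
        rw [Nat.card_congr (subgroupOfEquivOfLe (inf_le_right : V ⊓ A ≤ A)).toEquiv, hf.card_inter,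
          card_A hf, inf_subgroupOf_right] at this
        unfold Subgroup.relIndex; omega
      have h2 : Subgroup.relIndex V A ≤ Subgroup.relIndex V S' := by
        exact Subgroup.relIndex_le_of_le_right le_sup_right Subgroup.index_ne_zero_of_finite
      have h3 := (V.subgroupOf S').card_mul_index
      rw [Nat.card_congr (subgroupOfEquivOfLe (le_sup_left : V ≤ S')).toEquiv, card_V hf] at h3
      change 16 * Subgroup.relIndex V S' = _ at h3
      omega
    obtain ⟨c, hc⟩ := hd
    have hc1 : c = 1 := by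
      rcases c with _ | _ | c
      · omega
      · rfl
      · nlinarith
    have e : S' = S := eq_of_le_of_card_ge hle (by rw [hf.card_S]; subst hc1; omega)
    rw [← e]; exact sup_le hVL hAL
  letI : MulAction G (Subgroup G) :=
    { smul := cj, one_smul := cj_one, mul_smul := fun g h H => (cj_cj g h H).symm }
  set M := L ⊓ normalizer (A : Set G) with hM
  have hstA : MulAction.stabilizer L A = M.subgroupOf L := by
    ext g
    rw [MulAction.mem_stabilizer_iff, mem_subgroupOf, hM, Subgroup.mem_inf]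
    exact ⟨fun h => ⟨g.2, mem_norm_iff.2 h⟩, fun h => mem_norm_iff.1 h.2⟩
  have horbA : MulAction.orbit L A = {q | IsPt A q} := by
    ext q
    constructor
    · rintro ⟨g, rfl⟩; exact hA.cj _
    · intro hq
      rcases eq_or_ne q A with rfl | hne
      · exact MulAction.mem_orbit_self _
      obtain ⟨l, hl, hql⟩ := col_all hf hA hq
      obtain ⟨r, hr, hrA, hrq⟩ : ∃ r, Inc V A r l ∧ r ≠ A ∧ r ≠ q := by
        by_contra hno
        push Not at hno
        have hsub : {x | Inc V A x l ∧ x ≠ A} ⊆ {q} := fun x hx => hno x hx.1 hx.2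
        have := Set.ncard_le_ncard hsub
        rw [ncard_pts_ne hf hl, Set.ncard_singleton] at this
        omega
      obtain ⟨l0, hl0, hne0⟩ := exists_ne_line hf hr.isPt l
      obtain ⟨w, hw, e⟩ := reg hf hr hl0 hne0.symm hl hrA.symm hql (Ne.symm hrq)
      exact ⟨⟨w, hptL hr.isPt hw.1⟩, e⟩
  have h1 := (MulAction.stabilizer L A).card_mul_index
  rw [MulAction.index_stabilizer, horbA, hstA, ncard_allPts hf,
    Nat.card_congr (subgroupOfEquivOfLe (inf_le_left : M ≤ L)).toEquiv] at h1
  have h64 : 64 ∣ Nat.card M := hf.card_S ▸ Subgroup.card_dvd_of_le (le_inf hSL (normA hf))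
  have horbV : MulAction.orbit M V = {l | Inc V A A l} := by
    ext m
    constructor
    · rintro ⟨⟨g, hg⟩, rfl⟩
      exact (inc_base_iff hf).2 ⟨g, hg.2, rfl⟩
    · intro hm
      rcases eq_or_ne m V with rfl | hne
      · exact MulAction.mem_orbit_self _
      obtain ⟨m', hm', hm'V, hm'm⟩ : ∃ m', Inc V A A m' ∧ m' ≠ V ∧ m' ≠ m := by
        by_contra hno
        push Not at hno
        have hsub : {x | Inc V A A x} ⊆ {V, m} := fun x hx => by
          by_cases e : x = V
          · exact Or.inl e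
          · exact Or.inr (hno x hx e)
        have := (Set.ncard_le_ncard hsub).trans (Set.ncard_insert_le _ _)
        rw [ncard_lines_base hf, Set.ncard_singleton] at this
        omega
      obtain ⟨p0, hp0, hne0⟩ := exists_ne_pt hf hm'
      obtain ⟨w, hw, e⟩ := reg hf.swap hm'.symm hp0.symm hne0.symm (inc_self hf).symm hm'V.symm
        hm.symm (Ne.symm hm'm)
      exact ⟨⟨w, hlnL hm'.isLn hw.1, mem_norm_iff.2 (fix_pts hf hm' hw.1)⟩, e⟩
  have h5 : 5 ∣ Nat.card M := by
    rw [← ncard_lines_base hf, ← horbV, ← MulAction.index_stabilizer]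
    exact Subgroup.index_dvd_card _
  have h3 : 3 ∣ Nat.card M := by
    obtain ⟨m, hm, hmV⟩ := exists_ne_line hf hA V
    obtain ⟨k, hkA, rfl⟩ := id hm
    have hR : IsSyl (normalizer (A : Set G)) A 4 (cj k S) :=
      ⟨fun x hx => by rw [hkA, norm_cj]; exact normA hf (mem_cj.1 hx),
        isPGroup_cj (pGroup_S hf), by rw [card_cj, hf.card_S, card_A hf]⟩
    have hne : cj k S ≠ S := by
      intro e
      have h' : cj 1 V = cj k V := pt_unique hf.swap (by rw [cj_one, e]; exact hf.V_le)
      exact hmV (h'.symm.trans (cj_one V))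
    obtain ⟨h, h3, hreg, hN, hhS, hhR⟩ := hf.side_A.exists_regular (cj k S) hR hne
    obtain ⟨s, hs, -, -, -, hsh⟩ := hf.side_A.inverter (cj k S) h hR hne h3 hreg hN hhS hhR
    have hsL := hinv s hs
    have hh : h * h ∈ L := by
      have := mul_mem (hn.conj_mem s hsL h) (inv_mem hsL)
      have es : s * h⁻¹ * s⁻¹ = h := by
        calc s * h⁻¹ * s⁻¹ = (s * h * s⁻¹)⁻¹ := by group
          _ = h := by rw [hsh, inv_inv]
      rwa [show h * s * h⁻¹ * s⁻¹ = h * (s * h⁻¹ * s⁻¹) by group, es] at this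
    have hh3 : h * (h * h) = 1 := by
      have := pow_orderOf_eq_one h
      rwa [h3, pow_succ', pow_two] at this
    have hhL : h ∈ L := by
      rw [eq_inv_of_mul_eq_one_left hh3]; exact inv_mem hh
    exact h3 ▸ Subgroup.orderOf_dvd_natCard M ⟨hhL, hN⟩
  have h960 : 960 ∣ Nat.card M :=
    (by norm_num : Nat.lcm 64 (Nat.lcm 5 3) = 960) ▸ Nat.lcm_dvd h64 (Nat.lcm_dvd h5 h3)
  have hle := Nat.le_of_dvd (by norm_num) hdvd
  have hposM : 0 < Nat.card M := Nat.card_pos
  clear_value M
  obtain ⟨c, hc⟩ := h960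
  subst hM
  omega

theorem two_trans (hf : Flags V A S) {p₁ p₂ q₁ q₂ : Member A}
    (hp : p₁ ≠ p₂) (hq : q₁ ≠ q₂) : ∃ g : G, g • p₁ = q₁ ∧ g • p₂ = q₂ := by
  obtain ⟨a, ha⟩ := p₁.mem
  obtain ⟨b, hb⟩ := q₁.mem
  have h1 : cj a⁻¹ p₂.sub ≠ A := fun e =>
    hp (Member.ext' (by rw [ha, ← cj_inv' a p₂.sub, e]))
  have h2 : cj b⁻¹ q₂.sub ≠ A := fun e =>
    hq (Member.ext' (by rw [hb, ← cj_inv' b q₂.sub, e]))
  obtain ⟨n, n1, n2⟩ := trans_others hf (p₂.mem.cj a⁻¹) h1 (q₂.mem.cj b⁻¹) h2
  refine ⟨b * n * a⁻¹, Member.ext' ?_, Member.ext' ?_⟩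
  · rw [smul_sub, ha, hb, cj_cj, inv_mul_cancel_right, ← cj_cj, n1]
  · rw [smul_sub, ← cj_cj, ← cj_cj, n2, cj_inv']

end

section

open Configuration
open scoped LinearAlgebra.Projectivization

/-- The configuration `Flags` forces a normal `PSL₃(4)` of index three. -/
theorem main {G : Type*} [Group G] [Finite G] {V A S : Subgroup G} (hf : Flags V A S) :
    PlaneGoal G := by
  classical
  letI : Membership (Member A) (Member V) := ⟨fun l p => Inc V A p.sub l.sub⟩
  have hmem : ∀ (p : Member A) (l : Member V), p ∈ l ↔ Inc V A p.sub l.sub := fun p l => Iff.rfl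
  have hneq : ∀ {B : Subgroup G} {x y : Member B}, x ≠ y → x.sub ≠ y.sub :=
    fun h e => h (Member.ext' e)
  have hline : ∀ p₁ p₂ : Member A, ∃ l : Member V, p₁ ∈ l ∧ p₂ ∈ l := fun p₁ p₂ => by
    obtain ⟨l, h1, h2⟩ := col_all hf p₁.mem p₂.mem
    exact ⟨⟨l, h1.isLn⟩, h1, h2⟩
  have hpoint : ∀ l₁ l₂ : Member V, ∃ p : Member A, p ∈ l₁ ∧ p ∈ l₂ := fun l₁ l₂ => by
    obtain ⟨p, h1, h2⟩ := lines_meet hf l₁.mem l₂.mem
    exact ⟨⟨p, h1.isPt⟩, h1, h2⟩
  choose mL hmL1 hmL2 using hline
  choose mP hmP1 hmP2 using hpoint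
  letI : ProjectivePlane (Member A) (Member V) :=
    { exists_point := fun l => by
        obtain ⟨q, hq, -⟩ := exists_ne_line hf.swap l.mem ⊥
        obtain ⟨m, hm, hml⟩ := exists_ne_line hf hq.symm.isPt l.sub
        obtain ⟨x, hx, hxl, -⟩ := exists_other_pt hf (r := ⊥) hm.isLn l.mem hml
        exact ⟨⟨x, hx.isPt⟩, hxl⟩
      exists_line := fun p => by
        obtain ⟨m, hm, -⟩ := exists_ne_line hf p.mem ⊥
        obtain ⟨q, hq, hqp⟩ := exists_ne_pt hf hm
        obtain ⟨l, hl, hlm⟩ := exists_ne_line hf hq.isPt m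
        exact ⟨⟨l, hl.isLn⟩, fun h => hlm
          ((two_lines hf hl h hq hm).resolve_left hqp)⟩
      eq_or_eq := fun h1 h2 h3 h4 => (two_lines hf h1 h2 h3 h4).imp Member.ext' Member.ext'
      mkPoint := fun {l₁ l₂} _ => mP l₁ l₂
      mkPoint_ax := fun {l₁ l₂} _ => ⟨hmP1 l₁ l₂, hmP2 l₁ l₂⟩
      mkLine := fun {p₁ p₂} _ => mL p₁ p₂
      mkLine_ax := fun {p₁ p₂} _ => ⟨hmL1 p₁ p₂, hmL2 p₁ p₂⟩
      exists_config := by
        have hA : IsPt A A := ⟨1, (cj_one A).symm⟩
        obtain ⟨m, hm, hne⟩ := exists_ne_line hf hA V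
        obtain ⟨p3, hp3, hp3m, hp3A⟩ := exists_other_pt hf (r := A)
          (inc_self hf).isLn hm.isLn hne.symm
        obtain ⟨q, hq, hqA, hq3⟩ : ∃ q, Inc V A q V ∧ q ≠ A ∧ q ≠ p3 := by
          by_contra hno
          push Not at hno
          have hsub : {q | Inc V A q V ∧ q ≠ A} ⊆ {p3} := fun q hq => hno q hq.1 hq.2
          have := Set.ncard_le_ncard hsub
          rw [ncard_pts_ne hf (inc_self hf), Set.ncard_singleton] at this
          omega
        obtain ⟨l1, hl1, hl1V⟩ := exists_ne_line hf hq.isPt V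
        have hqm : ¬ Inc V A q m := fun h =>
          hne ((two_lines hf hm h (inc_self hf) hq).resolve_left hqA.symm)
        have hl1m : l1 ≠ m := fun e => hqm (e ▸ hl1)
        obtain ⟨p1, hp1, hp1m, hp1q⟩ := exists_other_pt hf (r := q) hl1.isLn hm.isLn hl1m
        refine ⟨⟨p1, hp1.isPt⟩, ⟨A, hA⟩, ⟨p3, hp3.isPt⟩, ⟨l1, hl1.isLn⟩,
          ⟨V, (inc_self hf).isLn⟩, ⟨m, hm.isLn⟩, ?_, hp1m, ?_, inc_self hf, hm, ?_, hp3, hp3m⟩
        · exact fun h => hl1V ((two_lines hf hp1 hl1 h hq).resolve_left hp1q)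
        · exact fun h => hl1V ((two_lines hf h hl1 (inc_self hf) hq).resolve_left hqA.symm)
        · exact fun h => hl1V ((two_lines hf h hl1 hp3 hq).resolve_left hq3.symm) }
  letI := Fintype.ofFinite (Member A)
  letI := Fintype.ofFinite (Member V)
  obtain ⟨F, iF, iFt, φ, hW, -⟩ := Cfsg.Agent.S3732.result (P := Member A) (L := Member V)
    (fun p₁ p₂ q₁ q₂ hp hq => by
      obtain ⟨g, h1, h2⟩ := two_trans hf hp hq
      exact ⟨MulAction.toPerm g, MulAction.toPerm g, fun p l => smul_inc g, h1, h2⟩)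
  have h21 : Nat.card (ℙ F (Fin 3 → F)) = 21 := by
    rw [← Nat.card_congr φ, card_member hf]
  have h4 : Fintype.card F = 4 := by
    have h := Projectivization.card' (k := F) (V := Fin 3 → F)
    rw [h21, Nat.card_fun, Nat.card_fin, Nat.card_eq_fintype_card] at h
    have hq : 1 < Fintype.card F := Fintype.one_lt_card
    obtain ⟨r, hr⟩ : ∃ r, Fintype.card F = r + 2 := ⟨Fintype.card F - 2, by omega⟩
    rw [hr, show r + 2 - 1 = r + 1 from rfl] at h
    have : r ≤ 4 := by
      by_contra hr5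
      have h49 : 7 * 7 ≤ (r + 2) * (r + 2) := Nat.mul_le_mul (by omega) (by omega)
      nlinarith [Nat.mul_le_mul_right (r + 2) h49]
    interval_cases r <;> first | omega | (rw [hr])
  let ψ : G →* Equiv.Perm (ℙ F (Fin 3 → F)) :=
    (Equiv.permCongrHom φ).toMonoidHom.comp (MulAction.toPermHom G (Member A))
  have hψ : ∀ g x, ψ g x = φ (g • φ.symm x) := fun g x => rfl
  set R := (Projectivization.PSLAction.toPermHom (ι := Fin 3) (K := F)).range with hR
  have hinv : ∀ u : G, orderOf u = 2 → ψ u ∈ R := by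
    intro u hu
    obtain ⟨c, l, hcl, huc, hul⟩ := exists_flag_invol hf hu
    obtain ⟨W, hW2, hWm⟩ := hW ⟨l, hcl.isLn⟩
    refine CIT21Plane.elation_mem_range (ψ u) W hW2 (φ ⟨c, hcl.isPt⟩) ((hWm ⟨c, hcl.isPt⟩).1 hcl) ?_ ?_ ?_
    · intro x hx
      obtain ⟨p, rfl⟩ := φ.surjective x
      rw [hψ, Equiv.symm_apply_apply]
      exact congrArg φ (Member.ext' (fix_pts hf ((hWm p).2 hx) hul))
    · intro x
      obtain ⟨p, rfl⟩ := φ.surjective x
      rw [hψ, Equiv.symm_apply_apply]
      rcases eq_or_ne p ⟨c, hcl.isPt⟩ with e | e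
      · subst e
        have : u • (⟨c, hcl.isPt⟩ : Member A) = ⟨c, hcl.isPt⟩ := Member.ext' (cj_self huc)
        rw [this]
        exact le_sup_left
      · obtain ⟨W', hW2', hW'⟩ := hW (mL p ⟨c, hcl.isPt⟩)
        have eW : (φ p).submodule ⊔ (φ ⟨c, hcl.isPt⟩).submodule = W' :=
          Submodule.eq_of_le_of_finrank_le
            (sup_le ((hW' p).1 (hmL1 _ _)) ((hW' _).1 (hmL2 _ _)))
            (by rw [hW2', finrank_sup_two (φ.injective.ne e)])
        rw [eW]
        refine (hW' _).1 ((hmem _ _).2 ?_)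
        have h := Inc.cj ((hmem _ _).1 (hmL1 p ⟨c, hcl.isPt⟩)) u
        rwa [fix_lns hf ((hmem _ _).1 (hmL2 p ⟨c, hcl.isPt⟩)) huc] at h
    · intro x y z hz
      obtain ⟨a, rfl⟩ := φ.surjective x
      obtain ⟨b, rfl⟩ := φ.surjective y
      obtain ⟨d, rfl⟩ := φ.surjective z
      simp only [hψ, Equiv.symm_apply_apply]
      rcases eq_or_ne a b with rfl | e
      · rw [sup_idem] at hz ⊢
        have : φ d = φ a := Projectivization.submodule_injective
          (Submodule.eq_of_le_of_finrank_le hz (by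
            rw [Projectivization.finrank_submodule, Projectivization.finrank_submodule]))
        rw [φ.injective this]
      · obtain ⟨W', hW2', hW'⟩ := hW (mL a b)
        have eW : (φ a).submodule ⊔ (φ b).submodule = W' :=
          Submodule.eq_of_le_of_finrank_le
            (sup_le ((hW' a).1 (hmL1 _ _)) ((hW' b).1 (hmL2 _ _)))
            (by rw [hW2', finrank_sup_two (φ.injective.ne e)])
        rw [eW] at hz
        have hd : d ∈ mL a b := (hW' d).2 hz
        obtain ⟨W'', hW2'', hW''⟩ := hW (u • mL a b)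
        have m : ∀ {t : Member A}, t ∈ mL a b → (φ (u • t)).submodule ≤ W'' := fun ht =>
          (hW'' _).1 ((smul_inc u).2 ht)
        have eW' : (φ (u • a)).submodule ⊔ (φ (u • b)).submodule = W'' :=
          Submodule.eq_of_le_of_finrank_le (sup_le (m (hmL1 _ _)) (m (hmL2 _ _)))
            (by rw [hW2'', finrank_sup_two
              (φ.injective.ne ((MulAction.injective u).ne e))])
        rw [eW']
        exact m hd
  -- the kernel
  have hkpt : ∀ g ∈ ψ.ker, ∀ q, IsPt A q → cj g q = q := by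
    intro g hg q hq
    have h1 := congrArg (fun σ : Equiv.Perm (ℙ F (Fin 3 → F)) => σ (φ ⟨q, hq⟩))
      (MonoidHom.mem_ker.1 hg)
    simp only [hψ, Equiv.symm_apply_apply, Equiv.Perm.one_apply] at h1
    exact congrArg Member.sub (φ.injective h1)
  have hkln : ∀ g ∈ ψ.ker, ∀ {q m : Subgroup G}, Inc V A q m → cj g m = m := by
    intro g hg q m h
    obtain ⟨r, hr, hrq⟩ := exists_ne_pt hf h
    have a1 : Inc V A q (cj g m) := by
      have := h.cj g; rwa [hkpt g hg q h.isPt] at this
    have a2 : Inc V A r (cj g m) := by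
      have := hr.cj g; rwa [hkpt g hg r hr.isPt] at this
    exact ((two_lines hf a1 a2 h hr).resolve_left (Ne.symm hrq))
  have hA : IsPt A A := ⟨1, (cj_one A).symm⟩
  have hAker : ∀ x ∈ A, x ∈ ψ.ker → x = 1 := by
    intro x hx hk
    by_contra h1
    obtain ⟨q, hq, hqA⟩ := exists_ne_pt hf (inc_self hf)
    have hmem : ∀ m, Inc V A q m → x ∈ m := fun m hm => by
      rcases mem_of_fix hf hm (hf.side_A.sq_U x hx) (hkpt x hk q hm.isPt) (hkln x hk hm) with h | h
      · exact absurd (pt_unique_mem hf hm.isPt hA h1 h hx) hqA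
      · exact h
    obtain ⟨m, hm, hmV⟩ := exists_ne_line hf hq.isPt V
    exact hmV (pt_unique_mem hf.swap hm.isLn hq.isLn h1 (hmem m hm) (hmem V hq))
  have hinj : Function.Injective ψ := by
    rw [← MonoidHom.ker_eq_bot_iff]
    refine (eq_bot_iff_forall _).2 fun g hg => ?_
    have hgA := hkpt g hg A hA
    have hcomm : g ∈ centralizer (A : Set G) := by
      refine mem_centralizer_iff.2 fun x hx => ?_
      have hy : g * x * g⁻¹ * x⁻¹ = 1 := hAker _
        (mul_mem (by rw [← hgA]; exact conj_mem_cj hx) (inv_mem hx))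
        (by rw [mul_assoc g, mul_assoc g]
            exact mul_mem hg ((inferInstance : ψ.ker.Normal).conj_mem _ (inv_mem hg) x))
      calc x * g = g * x * g⁻¹ * x⁻¹ * (x * g) := by rw [hy, one_mul]
        _ = g * x := by group
    rw [hf.side_A.cent_U] at hcomm
    exact hAker g hcomm hg
  -- the subgroup generated by the involutions
  set L := normalClosure {x : G | orderOf x = 2} with hL
  have hLinv : ∀ x : G, x * x = 1 → x ∈ L := fun x hx => by
    rcases eq_or_ne x 1 with rfl | h1
    · exact one_mem L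
    · exact subset_normalClosure (orderOf_eq_prime (by rw [pow_two, hx]) h1)
  have hLR : ∀ g ∈ L, ψ g ∈ R := by
    intro g hg
    have h : L ≤ R.comap ψ := by
      rw [hL, normalClosure, closure_le]
      intro x hx
      obtain ⟨b, hb, hbx⟩ := Group.mem_conjugatesOfSet_iff.1 hx
      obtain ⟨c, hc'⟩ := isConj_iff.1 hbx
      refine hinv x ?_
      rw [← hc', ← MulAut.conj_apply, MulEquiv.orderOf_eq]
      exact hb
    exact h hg
  have hcR : Nat.card R = 20160 := by
    rw [hR, ← Nat.card_congr (MonoidHom.ofInjective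
      (Matrix.ProjectiveSpecialLinearGroup.toPermHom_injective (K := F) (ι := Fin 3))).toEquiv,
      card_psl34 F h4]
  have hcL : Nat.card L = 20160 := card_L hf L (normalClosure_normal) hLinv (by
    rw [← hcR, Nat.card_congr (L.equivMapOfInjective ψ hinj).toEquiv]
    exact Subgroup.card_dvd_of_le (by rintro _ ⟨g, hg, rfl⟩; exact hLR g hg))
  have hmap : L.map ψ = R := by
    refine Subgroup.eq_of_le_of_card_ge (by rintro _ ⟨g, hg, rfl⟩; exact hLR g hg) ?_
    rw [hcR, ← Nat.card_congr (L.equivMapOfInjective ψ hinj).toEquiv, hcL]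
  refine ⟨card_G hf, L, F, iF, iFt, normalClosure_normal, h4, ?_,
    ⟨(L.equivMapOfInjective ψ hinj).trans ((MulEquiv.subgroupCongr hmap).trans
      (MonoidHom.ofInjective
        (Matrix.ProjectiveSpecialLinearGroup.toPermHom_injective (K := F) (ι := Fin 3))).symm)⟩⟩
  refine (eq_bot_iff_forall _).2 fun x hx => ?_
  by_contra h1
  have hall : ∀ q, IsPt A q → x ∈ q := by
    rintro q ⟨g, rfl⟩
    have h : g⁻¹ * x * g ∈ centralizer (A : Set G) := by
      refine mem_centralizer_iff.2 fun a ha => ?_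
      have h' := mem_centralizer_iff.1 hx (g * a * g⁻¹) (hLinv _ (by
        rw [show g * a * g⁻¹ * (g * a * g⁻¹) = g * (a * a) * g⁻¹ by group, hf.side_A.sq_U a ha]
        group))
      calc a * (g⁻¹ * x * g) = g⁻¹ * (g * a * g⁻¹ * x) * g := by group
        _ = g⁻¹ * (x * (g * a * g⁻¹)) * g := by rw [h']
        _ = g⁻¹ * x * g * a := by group
    rw [hf.side_A.cent_U] at h
    exact mem_cj.2 h
  obtain ⟨q, hq, hqA⟩ := exists_ne_pt hf (inc_self hf)
  exact hqA (pt_unique_mem hf hq.isPt hA h1 (hall q hq.isPt) (hall A hA))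

end

end Cfsg.Agent.AutL34Plane54
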