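import Cfsg.Agent.Lib.AutL34Sub54

/-!
# The subgroup of index four: interface (towards S3237)
-/

set_option autoImplicit false

namespace Cfsg.Agent.AutL34Model54

open Subgroup

variable {G : Type*} [Group G]

/-- A normal subgroup of index four meeting the centralizer of `z` in `inH2`. -/
structure Four (K : Cen G false false) (G2 : Subgroup G) : Prop where
  normal : G2.Normal
  index : G2.index = 4
  mem_iff : ∀ n < 768, (K.f n ∈ G2 ↔ inH2 n = true)

namespace Four

variable {K : Cen G false false} {G2 : Subgroup G} (hF : Four K G2)

include hF in
theorem z_mem : K.z ∈ G2 := by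
  rw [← K.f_z]
  exact (hF.mem_iff 16 (by norm_num)).2 (by decide +kernel)

/-- The involution `z` in the subgroup of index four. -/
def z0 : ↥G2 := ⟨K.z, hF.z_mem⟩

/-- The lines, the points and the Sylow subgroup in the subgroup of index four. -/
def sub0 (_hF : Four K G2) (l : List ℕ) : Subgroup ↥G2 := (K.sub l).subgroupOf G2

end Four

end Cfsg.Agent.AutL34Model54
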