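import Cfsg.Agent.Lib.AutL34Classes54
import Cfsg.Agent.Lib.AutL34Four54
import Cfsg.Agent.Lib.TransferThompson

/-!
# The subgroup of index four by three transfers (towards S3237)
-/

set_option autoImplicit false

namespace Cfsg.Agent.AutL34Model54

open Subgroup

/-! ### The two characters of the model -/

theorem evP_hom : ∀ p < 24, ∀ q < 24, evP (pM p q) = (evP p == evP q) := by decide +kernel

theorem oddA_xor : ∀ A < 16, ∀ B < 16, oddA (Nat.xor A B) = xor (oddA A) (oddA B) := by
  decide +kernel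

theorem oddA_iA : ∀ p < 24, ∀ A < 16, oddA (iA p A) = oddA A := by decide +kernel

theorem mk_mod {s : Bool} {A p : ℕ} (hA : A < 16) : mk s A p % 16 = A := by
  unfold mk
  split <;> omega

/-- Even permutation of a model element. -/
def chiP (n : ℕ) : Bool := evP (n / 32)

/-- Even subset of a model element. -/
def chiA (n : ℕ) : Bool := !oddA (n % 16)

theorem chiP_mu {n m : ℕ} (hn : n < 768) (hm : m < 768) : chiP (mu n m) = (chiP n == chiP m) := by
  rw [chiP, mu_div, evP_hom _ (mul_args hn).2 _ (mul_args hm).2]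
  rfl

theorem chiA_mu {n m : ℕ} (hn : n < 768) (hm : m < 768) : chiA (mu n m) = (chiA n == chiA m) := by
  have h : mu n m % 16 = Nat.xor (n % 16) (iA (n / 32) (m % 16)) :=
    mk_mod (xor_lt (mul_args hn).1 (iA_lt _ _))
  rw [chiA, chiA, chiA, h, oddA_xor _ (mul_args hn).1 _ (iA_lt _ _),
    oddA_iA _ (mul_args hn).2 _ (mul_args hm).1]
  cases oddA (n % 16) <;> cases oddA (m % 16) <;> rfl

theorem chi_facts : (Nat.beq (sylI.filter chiP).length 128 &&
    Nat.beq (sylI.filter chiA).length 128 && chiP 0 && chiA 0) = true := by decide +kernel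

theorem inH2_eq (n : ℕ) : inH2 n = (chiP n && chiA n) := rfl

theorem inH2_length : (els.filter inH2).length = 192 := by decide +kernel

namespace Cen

variable {G : Type*} [Group G] [Finite G] (K : Cen G false false)

/-- The Sylow subgroup. -/
theorem exists_syl : ∃ P : Sylow 2 G, (P : Subgroup G) = K.sub sylI := by
  have hf := syl_ok
  simp only [Bool.and_eq_true, List.all_eq_true] at hf
  obtain ⟨⟨hnd, hlen⟩, hcent⟩ := hf
  have hcard : Nat.card (K.sub sylI) = 256 := by
    rw [K.card_sub syl_closed hnd, Nat.eq_of_beq_eq_true hlen]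
  refine sylow_of_fix _ (centralizer ({K.z} : Set G)) (IsPGroup.of_card (n := 8) (by rw [hcard]; norm_num))
    (K.sub_le_cent syl_closed) ?_ ?_
  · have h := card_mul_index ((K.sub sylI).subgroupOf (centralizer ({K.z} : Set G)))
    rw [Nat.card_congr (subgroupOfEquivOfLe (K.sub_le_cent syl_closed)).toEquiv, hcard,
      K.card_cent_z] at h
    have h3 : (K.sub sylI).relIndex (centralizer ({K.z} : Set G)) = 3 := by
      change ((K.sub sylI).subgroupOf (centralizer ({K.z} : Set G))).index = 3
      omega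
    rw [h3]
    decide
  · intro n hn
    have hz : K.z ∈ K.sub sylI :=
      (K.mem_sub syl_closed).2 ⟨16, mem_sylI.2 ⟨by norm_num, by decide⟩, K.f_z⟩
    obtain ⟨m, hm, hmz⟩ := (K.mem_sub syl_closed).1 ((mem_normalizer_iff.1 hn K.z).1 hz)
    have hall : (sylI.all fun k => cmu m k) = true := by
      rw [List.all_eq_true]
      intro k hk
      rw [cmu, K.cm_iff (mem_sylI.1 hm).1 (mem_sylI.1 hk).1, hmz]
      have hk' : n⁻¹ * K.f k * n ∈ K.sub sylI :=
        (mem_normalizer_iff''.1 hn _).1 ((K.mem_sub syl_closed).2 ⟨k, hk, rfl⟩)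
      have hc := mem_centralizer_singleton_iff.1 (K.sub_le_cent syl_closed hk')
      calc n * K.z * n⁻¹ * K.f k = n * (K.z * (n⁻¹ * K.f k * n)) * n⁻¹ := by group
        _ = n * (n⁻¹ * K.f k * n * K.z) * n⁻¹ := by rw [hc]
        _ = _ := by group
    have h := hcent m hm
    rw [hall] at h
    simp only [Bool.not_true, Bool.false_or, Bool.or_eq_true] at h
    rcases h with h | h
    · rw [Nat.eq_of_beq_eq_true h, K.f_zero, eq_comm, mul_inv_eq_one, mul_eq_left] at hmz
      exact absurd hmz K.z_ne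
    · rw [Nat.eq_of_beq_eq_true h, K.f_z] at hmz
      rw [mem_centralizer_singleton_iff]
      calc n * K.z = n * K.z * n⁻¹ * n := by group
        _ = K.z * n := by rw [← hmz]

/-- An involution of a subgroup of index two containing no representative of its class. -/
theorem transfer_step (ht : ∃ g : G, g * K.z * g⁻¹ = K.f 15) {r : ℕ}
    (hr : r = 1 ∨ r = 32 ∨ r = 33) (c : ℕ → Bool)
    (hc : ∀ n < 768, ∀ m < 768, c (mu n m) = (c n == c m))
    (hlen : (sylI.filter c).length = 128) (h0 : c 0 = true) (hcr : c r = false) :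
    ∃ M : Subgroup G, M.Normal ∧ M.index = 2 ∧ K.f r ∉ M := by
  obtain ⟨P, hP⟩ := K.exists_syl
  have hrm : r ∈ repI := by rcases hr with rfl | rfl | rfl <;> simp [repI]
  obtain ⟨hr768, hiv, -, -, -, -, -, hrS, -⟩ := rep_facts hrm
  have hcl : closedL (sylI.filter c) = true := by
    obtain ⟨h0', hlt, hmul⟩ := closedL_spec syl_closed
    simp only [closedL, Bool.and_eq_true, List.all_eq_true, memL_iff, List.mem_filter]
    refine ⟨⟨h0', h0⟩, fun a ha => ⟨Nat.ble_eq_true_of_le (hlt a ha.1), fun b hb =>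
      ⟨hmul a ha.1 b hb.1, ?_⟩⟩⟩
    rw [hc a (hlt a ha.1) b (hlt b hb.1), ha.2, hb.2]
    rfl
  have hf := syl_ok
  simp only [Bool.and_eq_true] at hf
  have hnd : nodupL sylI = true := hf.1.1
  have hS : Nat.card (K.sub sylI) = 256 := by
    rw [K.card_sub syl_closed hnd, Nat.eq_of_beq_eq_true hf.1.2]
  have hQS : K.sub (sylI.filter c) ≤ K.sub sylI := by
    intro x hx
    obtain ⟨a, ha, rfl⟩ := (K.mem_sub hcl).1 hx
    exact (K.mem_sub syl_closed).2 ⟨a, (List.mem_filter.1 ha).1, rfl⟩
  have hQcard : Nat.card (K.sub (sylI.filter c)) = 128 := by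
    obtain ⟨-, hlt, -⟩ := closedL_spec hcl
    rw [← hlen, ← List.toFinset_card_of_nodup ((nodupL_nodup hnd).filter c), ← SetLike.coe_sort_coe,
      Nat.card_coe_set_eq, ← Set.ncard_coe_finset]
    have hs : (K.sub (sylI.filter c) : Set G) = K.f '' ((sylI.filter c).toFinset : Set ℕ) := by
      ext x
      simp only [SetLike.mem_coe, K.mem_sub hcl, Set.mem_image, List.mem_toFinset, Finset.mem_coe]
    rw [hs, Set.ncard_image_of_injOn]
    intro a ha b hb e
    rw [Finset.mem_coe, List.mem_toFinset] at ha hb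
    exact K.f_inj (hlt a ha) (hlt b hb) e
  refine TransferThompson.thompson_transfer P (K.sub (sylI.filter c)) (le_of_le_of_eq hQS hP.symm) ?_
    ((K.inv2_iff hr768).1 hiv) (by rw [hP]; exact (K.mem_sub syl_closed).2 ⟨r, hrS, rfl⟩) ?_
  · rw [hP]
    have h := card_mul_index ((K.sub (sylI.filter c)).subgroupOf (K.sub sylI))
    rw [Nat.card_congr (subgroupOfEquivOfLe hQS).toEquiv, hQcard, hS] at h
    change ((K.sub (sylI.filter c)).subgroupOf (K.sub sylI)).index = 2
    omega
  · intro g hg
    obtain ⟨n, hn, hne⟩ := (K.mem_sub hcl).1 hg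
    obtain ⟨hnS, hnc⟩ := List.mem_filter.1 hn
    have hn768 := (mem_sylI.1 hnS).1
    have hconj : IsConj (K.f r) (K.f n) := isConj_iff.2 ⟨g, hne.symm⟩
    have hord : orderOf (K.f n) = 2 := by
      have he : g * K.f r * g⁻¹ = MulAut.conj g (K.f r) := rfl
      rw [show K.f n = MulAut.conj g (K.f r) from hne.trans he, MulEquiv.orderOf_eq]
      exact (K.inv2_iff hr768).1 hiv
    have hnX : ¬ IsConj K.z (K.f r) := by
      intro h'
      obtain ⟨y, hy⟩ := isConj_iff.1 h'
      rcases K.conj_allowed hr768 hy with e | e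
      · exact (rep_facts hrm).2.2.1 e
      · rcases hr with rfl | rfl | rfl <;> revert e <;> decide +kernel
    have hnotz : ¬ IsConj K.z (K.f n) := fun h => hnX (h.trans hconj.symm)
    have hcl2 := classes
    simp only [Bool.and_eq_true, List.all_eq_true] at hcl2
    have h := hcl2.2 n (mem_els.2 hn768)
    have hiv' : iv n = true := (K.inv2_iff hn768).2 hord
    rw [hiv'] at h
    simp only [Bool.not_true, Bool.false_or, Bool.or_eq_true, List.any_eq_true] at h
    rcases h with ((h | h) | h) | ⟨s, hs, j, hj, h⟩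
    · rw [Nat.eq_of_beq_eq_true h, K.f_z] at hnotz
      exact hnotz (IsConj.refl _)
    · rw [Nat.eq_of_beq_eq_true h] at hnotz
      exact hnotz (isConj_iff.2 ht)
    · rw [Nat.eq_of_beq_eq_true h] at hnotz
      obtain ⟨y, hy⟩ := ht
      exact hnotz ((isConj_iff.2 ⟨y, hy⟩).trans (isConj_iff.2 ⟨_, K.t_swap⟩))
    · have hj768 : j < 768 := by simpa using hcl2.1 j hj
      have hs768 : s < 768 := (rep_facts hs).1
      have he := Nat.eq_of_beq_eq_true h
      have hsn : IsConj (K.f s) (K.f n) := isConj_iff.2 ⟨K.f j, by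
        rw [mul_inv_eq_iff_eq_mul, K.f_mul hj768 hs768, K.f_mul hn768 hj768]
        exact congrArg K.f he⟩
      have hsr : r ≠ s := by
        rintro rfl
        have h2 := congrArg c he
        rw [hc j hj768 r hr768, hc n hn768 j hj768, hnc, hcr] at h2
        cases hcj : c j <;> rw [hcj] at h2 <;> exact Bool.noConfusion h2
      exact K.rep_not_conj hr hs hsr (hconj.trans hsn.symm)

/-- The subgroup of index four. -/
theorem exists_four (ht : ∃ g : G, g * K.z * g⁻¹ = K.f 15) : ∃ G2 : Subgroup G, Four K G2 := by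
  have hf := chi_facts
  simp only [Bool.and_eq_true] at hf
  obtain ⟨⟨⟨hP, hA⟩, hP0⟩, hA0⟩ := hf
  have hP' := Nat.eq_of_beq_eq_true hP
  have hA' := Nat.eq_of_beq_eq_true hA
  obtain ⟨M1, n1, i1, o1⟩ := K.transfer_step ht (Or.inr (Or.inr rfl)) chiP
    (fun n hn m hm => chiP_mu hn hm) hP' hP0 (by decide +kernel)
  obtain ⟨M2, n2, i2, o2⟩ := K.transfer_step ht (Or.inl rfl) chiA
    (fun n hn m hm => chiA_mu hn hm) hA' hA0 (by decide +kernel)
  obtain ⟨M3, n3, i3, o3⟩ := K.transfer_step ht (Or.inr (Or.inl rfl)) chiP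
    (fun n hn m hm => chiP_mu hn hm) hP' hP0 (by decide +kernel)
  have hsq := h2_squares
  simp only [Bool.and_eq_true, List.all_eq_true] at hsq
  have hH2 : ∀ {M : Subgroup G}, M.index = 2 → ∀ n < 768, inH2 n = true → K.f n ∈ M := by
    intro M hM n hn hin
    have hs : ∀ s ∈ sqI, s < 768 ∧ K.f s ∈ M := by
      intro s hs
      obtain ⟨a, ha, he⟩ := els_any (hsq.1 s hs)
      have he' := Nat.eq_of_beq_eq_true he
      refine ⟨he' ▸ mul_lt _ _ ha ha, ?_⟩
      rw [← he', ← K.f_mul ha ha]
      exact mul_self_mem_of_index_two hM _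
    have h := hsq.2 n (mem_els.2 hn)
    rw [hin] at h
    simp only [Bool.not_true, Bool.false_or, List.any_eq_true] at h
    obtain ⟨a, ha, b, hb, h⟩ := h
    rw [← Nat.eq_of_beq_eq_true h, ← K.f_mul (hs a ha).1 (hs b hb).1]
    exact mul_mem (hs a ha).2 (hs b hb).2
  -- two of the three subgroups meet the representatives of the cosets only in the identity
  have key : ∀ Ma Mb : Subgroup G, Ma.Normal → Mb.Normal → Ma.index = 2 → Mb.index = 2 →
      (K.f 1 ∉ Ma ∨ K.f 1 ∉ Mb) → (K.f 32 ∉ Ma ∨ K.f 32 ∉ Mb) →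
      (K.f 33 ∉ Ma ∨ K.f 33 ∉ Mb) → ∃ G2 : Subgroup G, Four K G2 := by
    intro Ma Mb na nb ia ib p1 p32 p33
    have hmem : ∀ n < 768, (K.f n ∈ Ma ⊓ Mb ↔ inH2 n = true) := by
      refine fun n hn => ⟨fun hnm => ?_, fun h => mem_inf.2 ⟨hH2 ia n hn h, hH2 ib n hn h⟩⟩
      obtain ⟨r, hr, h⟩ := List.any_eq_true.1 (els_all cosets hn)
      have hr4 : r = 0 ∨ r = 1 ∨ r = 32 ∨ r = 33 := by simpa using hr
      have hr768 : r < 768 := by omega
      have hiff : ∀ {M : Subgroup G}, M.index = 2 → (K.f n ∈ M ↔ K.f r ∈ M) := by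
        intro M hM
        rcases Bool.or_eq_true _ _ ▸ h with h | h
        · have := hH2 hM _ (mul_lt _ _ hn hr768) h
          rwa [← K.f_mul hn hr768, mul_mem_iff_of_index_two hM] at this
        · have := hH2 hM _ (mul_lt _ _ hr768 hn) h
          rw [← K.f_mul hr768 hn, mul_mem_iff_of_index_two hM] at this
          exact this.symm
      have ha := (hiff ia).1 hnm.1
      have hb := (hiff ib).1 hnm.2
      rcases hr4 with rfl | rfl | rfl | rfl
      · have e : mu n 0 = n := K.f_inj (mul_lt _ _ hn hr768) hn (by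
          rw [← K.f_mul hn hr768, K.f_zero, mul_one])
        have e' : mu 0 n = n := K.f_inj (mul_lt _ _ hr768 hn) hn (by
          rw [← K.f_mul hr768 hn, K.f_zero, one_mul])
        rw [e, e', Bool.or_self] at h
        exact h
      · rcases p1 with p | p
        · exact absurd ha p
        · exact absurd hb p
      · rcases p32 with p | p
        · exact absurd ha p
        · exact absurd hb p
      · rcases p33 with p | p
        · exact absurd ha p
        · exact absurd hb p
    have hn' : (Ma ⊓ Mb).Normal := normal_inf_normal Ma Mb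
    refine ⟨Ma ⊓ Mb, hn', ?_, hmem⟩
    have hle : (Ma ⊓ Mb).index ≤ 4 := index_inf_le.trans (by rw [ia, ib])
    set H := centralizer ({K.z} : Set G) with hH
    have hcard : Nat.card ↥((Ma ⊓ Mb).subgroupOf H) = 192 := by
      rw [← inf_subgroupOf_right, Nat.card_congr (subgroupOfEquivOfLe inf_le_right).toEquiv,
        ← SetLike.coe_sort_coe, Nat.card_coe_set_eq]
      have hs : ((Ma ⊓ Mb ⊓ H : Subgroup G) : Set G) =
          K.f '' ((els.filter inH2).toFinset : Set ℕ) := by
        ext x
        simp only [SetLike.mem_coe, mem_inf, Set.mem_image, Finset.mem_coe, List.mem_toFinset,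
          List.mem_filter, mem_els]
        constructor
        · rintro ⟨hx, hxz⟩
          obtain ⟨n, hn, rfl⟩ := K.exists_f (mem_centralizer_singleton_iff.1 hxz)
          exact ⟨n, ⟨hn, (hmem n hn).1 (mem_inf.2 hx)⟩, rfl⟩
        · rintro ⟨n, ⟨hn, h2⟩, rfl⟩
          exact ⟨mem_inf.1 ((hmem n hn).2 h2), mem_centralizer_singleton_iff.2 (K.f_mem hn)⟩
      have hnd : (els.filter inH2).Nodup := (List.nodup_range : els.Nodup).filter _
      rw [hs, Set.ncard_image_of_injOn, Set.ncard_coe_finset, List.toFinset_card_of_nodup hnd]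
      · exact inH2_length
      · intro a ha b hb e
        rw [Finset.mem_coe, List.mem_toFinset, List.mem_filter, mem_els] at ha hb
        exact K.f_inj ha.1 hb.1 e
    have h := card_mul_index ((Ma ⊓ Mb).subgroupOf H)
    rw [hcard, K.card_cent_z] at h
    have h4 : (Ma ⊓ Mb).relIndex H = 4 := by
      change ((Ma ⊓ Mb).subgroupOf H).index = 4
      omega
    have hdvd : (Ma ⊓ Mb).relIndex H ∣ (Ma ⊓ Mb).index := relIndex_dvd_index_of_normal _ _
    have hne : (Ma ⊓ Mb).index ≠ 0 := FiniteIndex.index_ne_zero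
    have := Nat.le_of_dvd (Nat.pos_of_ne_zero hne) hdvd
    omega
  by_cases h1 : K.f 1 ∈ M1
  · have h32 : K.f 32 ∉ M1 := by
      intro h32
      apply o1
      have e : mu 1 32 = 33 ∨ mu 32 1 = 33 := by decide +kernel
      rcases e with e | e
      · rw [← e, ← K.f_mul (by norm_num) (by norm_num)]
        exact mul_mem h1 h32
      · rw [← e, ← K.f_mul (by norm_num) (by norm_num)]
        exact mul_mem h32 h1
    exact key M1 M2 n1 n2 i1 i2 (Or.inr o2) (Or.inl h32) (Or.inl o1)
  · exact key M1 M3 n1 n3 i1 i3 (Or.inl h1) (Or.inr o3) (Or.inl o1)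

end Cen

end Cfsg.Agent.AutL34Model54
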