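import Cfsg.Agent.Lib.AutL34LocG54
import Cfsg.Agent.Lib.AutL34Transfer54
import Cfsg.Agent.Lib.AutL34Flags54
import Cfsg.Agent.Lib.AutL34Plane54Main
import Cfsg.Agent.Lib.AutL34Closed54
import Cfsg.Agent.Lib.AutL34End54

/-!
# The case of trivial parameters (towards S3237)
-/

set_option autoImplicit false

namespace Cfsg.Agent.AutL34Model54

open Subgroup

/-- A nonsolvable group with the centralizer of trivial parameters and a fused `t` is
`Aut L₃(4)`. -/
theorem real_case {G : Type*} [Group G] [Finite G] (K : Cen G false false)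
    (ht : ∃ g : G, g * K.z * g⁻¹ = K.f 15)
    (hH : Group.IsSolvable (centralizer ({K.z} : Set G)))
    (hmin : ∀ N : Subgroup G, N.Normal → N ≤ centralizer ({K.z} : Set G) → N ≠ ⊥ → K.z ∈ N)
    (hns : ¬ Group.IsSolvable G) {F : Type*} [Field F] [Fintype F] (hF : Fintype.card F = 4) :
    Nonempty (G ≃* MulAut (GL (Fin 3) F ⧸ Subgroup.center (GL (Fin 3) F))) := by
  classical
  obtain ⟨G2, h4⟩ := K.exists_four ht
  have hS := K.exists_syl
  have hloc := h4.loc_of_four hS ht
  by_cases hw : ∃ g : G, g * K.z * g⁻¹ = K.f 224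
  · obtain ⟨hV, hA⟩ := h4.fused_of_w hS ht hw
    exact exists_mulAut_of_plane G2 h4.normal h4.index K.z h4.z_mem K.orderOf_z hmin
      (AutL34Plane54.main (AutL34Plane54.flags_of_loc hloc hV hA)) hF
  · obtain ⟨hV, hA⟩ := h4.not_fused_of_w hS ht hw
    exact absurd (solvable_of_closed G2 h4.normal h4.index _
      (AutL34Plane54.normal_of_closed hloc hV hA) hloc.card_inter h4.z0 hloc.mem_z hH) hns

end Cfsg.Agent.AutL34Model54
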