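import Cfsg.Agent.Lib.AutL34Model54Facts
import Cfsg.Agent.Lib.ZStarTheorem
import Cfsg.Prelude.Def_TwoFusion
import Cfsg.Prelude.Def_Solvable

/-!
# Groups with the model as centralizer of an involution: translation between group and model
-/

set_option autoImplicit false

namespace Cfsg.Agent.AutL34Model54

open Subgroup

/-- A group with centralizer of `z` equal to a model. -/
structure Cen (G : Type*) [Group G] (e d : Bool) where
  /-- the generators -/
  M : Gens G e d
  bij : Set.BijOn M.φ (Set.Iio 768) (centralizer ({M.z} : Set G) : Set G)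

theorem mem_els {n : ℕ} : n ∈ els ↔ n < 768 := List.mem_range

theorem els_all {f : ℕ → Bool} (h : els.all f = true) {n : ℕ} (hn : n < 768) : f n = true :=
  List.all_eq_true.1 h n (mem_els.2 hn)

theorem els_any {f : ℕ → Bool} (h : els.any f = true) : ∃ n < 768, f n = true := by
  obtain ⟨n, hn, hf⟩ := List.any_eq_true.1 h
  exact ⟨n, mem_els.1 hn, hf⟩

namespace Cen

variable {G : Type*} [Group G] {e d : Bool} (K : Cen G e d)

/-- The central involution. -/
abbrev z : G := K.M.z

/-- The value of a model element. -/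
abbrev f (n : ℕ) : G := K.M.φ n

theorem f_mem {n : ℕ} (hn : n < 768) : K.f n * K.z = K.z * K.f n :=
  mem_centralizer_singleton_iff.1 (K.bij.mapsTo hn)

theorem exists_f {x : G} (hx : x * K.z = K.z * x) : ∃ n < 768, K.f n = x :=
  K.bij.surjOn (mem_centralizer_singleton_iff.2 hx)

theorem f_inj {n m : ℕ} (hn : n < 768) (hm : m < 768) (h : K.f n = K.f m) : n = m :=
  K.bij.injOn hn hm h

theorem f_mul {n m : ℕ} (hn : n < 768) (hm : m < 768) : K.f n * K.f m = K.f (mul e d n m) :=
  (K.M.φ_mul hn hm).symm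

theorem f_zero : K.f 0 = 1 := K.M.φ_zero

theorem f_z : K.f 16 = K.z := K.M.φ_z

theorem z_ne : K.z ≠ 1 := by
  rw [← K.f_z, ← K.f_zero]
  exact fun h => absurd (K.f_inj (by norm_num) (by norm_num) h) (by norm_num)

theorem orderOf_z : orderOf K.z = 2 := orderOf_eq_prime (by rw [pow_two]; exact K.M.zz) K.z_ne

theorem cm_iff {n m : ℕ} (hn : n < 768) (hm : m < 768) :
    cm e d n m = true ↔ K.f n * K.f m = K.f m * K.f n := by
  rw [K.f_mul hn hm, K.f_mul hm hn]
  unfold cm
  constructor
  · intro h; rw [Nat.eq_of_beq_eq_true h]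
  · intro h
    rw [K.f_inj (mul_lt e d hn hm) (mul_lt e d hm hn) h, Nat.beq_refl]

theorem sq_iff {y n : ℕ} (hy : y < 768) (hn : n < 768) :
    Nat.beq (mul e d y y) n = true ↔ K.f y * K.f y = K.f n := by
  rw [K.f_mul hy hy]
  exact ⟨fun h => by rw [Nat.eq_of_beq_eq_true h],
    fun h => by rw [K.f_inj (mul_lt e d hy hy) hn h, Nat.beq_refl]⟩

theorem inv2_iff {n : ℕ} (hn : n < 768) : inv2 e d n = true ↔ orderOf (K.f n) = 2 := by
  constructor
  · intro h
    simp only [inv2, Bool.and_eq_true, Bool.not_eq_true'] at h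
    refine orderOf_eq_prime ?_ fun h1 => ?_
    · rw [pow_two, (K.sq_iff hn (by norm_num)).1 h.1, K.f_zero]
    · have := K.f_inj hn (by norm_num) (h1.trans K.f_zero.symm)
      subst this
      simp at h
  · intro h
    have h2 := pow_orderOf_eq_one (K.f n)
    rw [h, pow_two, ← K.f_zero] at h2
    simp only [inv2, Bool.and_eq_true, Bool.not_eq_true', (K.sq_iff hn (by norm_num)).2 h2,
      true_and]
    by_contra h0
    rw [Bool.not_eq_false] at h0
    rw [Nat.eq_of_beq_eq_true h0, K.f_zero, orderOf_one] at h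
    omega

/-- The elements commuting with `z` and `f n`. -/
theorem card_cent {n : ℕ} (hn : n < 768) :
    {y : G | y * K.z = K.z * y ∧ y * K.f n = K.f n * y}.ncard = (centL e d n).length := by
  classical
  have hs : {y : G | y * K.z = K.z * y ∧ y * K.f n = K.f n * y} =
      K.f '' ((centL e d n).toFinset : Set ℕ) := by
    ext y
    simp only [Set.mem_ofPred_eq, Set.mem_image, Finset.mem_coe, List.mem_toFinset]
    constructor
    · rintro ⟨hz, hy⟩
      obtain ⟨m, hm, rfl⟩ := K.exists_f hz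
      exact ⟨m, List.mem_filter.2 ⟨mem_els.2 hm, (K.cm_iff hn hm).2 hy.symm⟩, rfl⟩
    · rintro ⟨m, hm, rfl⟩
      obtain ⟨hm, hc⟩ := List.mem_filter.1 hm
      exact ⟨K.f_mem (mem_els.1 hm), ((K.cm_iff hn (mem_els.1 hm)).1 hc).symm⟩
  rw [hs, Set.ncard_image_of_injOn, Set.ncard_coe_finset, List.toFinset_card_of_nodup]
  · exact List.nodup_range.filter _
  · intro a ha b hb h
    rw [Finset.mem_coe, List.mem_toFinset, centL, List.mem_filter, mem_els] at ha hb
    exact K.f_inj ha.1 hb.1 h

/-- A conjugate of `z` in the centralizer is `z` or allowed. -/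
theorem conj_allowed {n : ℕ} (hn : n < 768) {g : G} (hg : g * K.z * g⁻¹ = K.f n) :
    n = 16 ∨ allowed e d n = true := by
  by_contra hcon
  push Not at hcon
  obtain ⟨h16, hal⟩ := hcon
  set y := g⁻¹ * K.z * g with hy
  have hyz : y * K.z = K.z * y := by
    have h := K.f_mem hn
    rw [← hg] at h
    calc y * K.z = g⁻¹ * (K.z * (g * K.z * g⁻¹)) * g := by rw [hy]; group
      _ = g⁻¹ * (g * K.z * g⁻¹ * K.z) * g := by rw [h]
      _ = K.z * y := by rw [hy]; group
  obtain ⟨m, hm, hmy⟩ := K.exists_f hyz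
  have hm2 : inv2 e d m = true := by
    rw [K.inv2_iff hm, hmy, hy]
    have h1 := MulEquiv.orderOf_eq (MulAut.conj g⁻¹) K.z
    rw [MulAut.conj_apply, inv_inv, K.orderOf_z] at h1
    exact h1
  have hn2 : inv2 e d n = true := by
    rw [K.inv2_iff hn, ← hg]
    have h1 := MulEquiv.orderOf_eq (MulAut.conj g) K.z
    rw [MulAut.conj_apply, K.orderOf_z] at h1
    exact h1
  have h1 := els_all (z_square e d) hm
  simp only [hm2, Bool.not_true, Bool.false_or] at h1
  obtain ⟨w, hw, hw'⟩ := els_any h1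
  simp only [Bool.and_eq_true] at hw'
  have ew2 := (K.sq_iff hw (by norm_num)).1 hw'.1
  rw [K.f_z] at ew2
  have ewy := (K.cm_iff hw hm).1 hw'.2
  rw [hmy, hy] at ewy
  have hwz : g * K.f w * g⁻¹ * K.z = K.z * (g * K.f w * g⁻¹) := by
    calc g * K.f w * g⁻¹ * K.z = g * (K.f w * (g⁻¹ * K.z * g)) * g⁻¹ := by group
      _ = g * (g⁻¹ * K.z * g * K.f w) * g⁻¹ := by rw [ewy]
      _ = _ := by group
  obtain ⟨k, hk, hkw⟩ := K.exists_f hwz
  have h2 := els_all (square_allowed e d) hn
  simp only [hn2, hal, Bool.not_true, Bool.false_or, Bool.or_false,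
    Bool.or_eq_true] at h2
  rcases h2 with h2 | h2
  · exact h16 (Nat.eq_of_beq_eq_true h2)
  · have h3 := els_all h2 hk
    rw [Bool.not_eq_true'] at h3
    have h4 : Nat.beq (mul e d k k) n = true := by
      rw [K.sq_iff hk hn, hkw, ← hg]
      calc g * K.f w * g⁻¹ * (g * K.f w * g⁻¹) = g * (K.f w * K.f w) * g⁻¹ := by group
        _ = _ := by rw [ew2]
    rw [h3] at h4
    exact Bool.noConfusion h4

end Cen

end Cfsg.Agent.AutL34Model54
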