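import Cfsg.Agent.Lib.AutL34Sub54

/-!
# The classes of involutions outside `z^G` are separated by the Sylow subgroups of their centralizers
-/

set_option autoImplicit false

namespace Cfsg.Agent.AutL34Model54

open Subgroup

namespace Cen

variable {G : Type*} [Group G] [Finite G] (K : Cen G false false)

/-- Facts about a representative. -/
theorem rep_facts {r : ℕ} (hr : r ∈ repI) :
    r < 768 ∧ iv r = true ∧ r ≠ 16 ∧ closedL (pI r) = true ∧ nodupL (pI r) = true ∧ r ∈ pI r ∧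
      16 ∈ pI r ∧ r ∈ sylI ∧ (∀ a ∈ pI r, cmu a r = true) := by
  have h : r < 768 := by
    simp only [repI, List.mem_cons, List.not_mem_nil, or_false] at hr
    omega
  have h' := rep_ok
  simp only [Bool.and_eq_true, List.all_eq_true] at h'
  have h'' := h' r hr
  simp only [memL_iff, Bool.not_eq_true'] at h''
  obtain ⟨⟨⟨⟨⟨⟨⟨⟨⟨⟨⟨⟨h1, h2⟩, -⟩, h4⟩, h5⟩, h6⟩, h7⟩, h8⟩, h9⟩, -⟩, -⟩, -⟩, -⟩ := h''
  exact ⟨h, h1, fun e => by simp [e] at h2, h5, h6, h7, h8, h4, h9⟩

/-- A representative not fused to `z`: its Sylow subgroup in the centralizer. -/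
theorem rep_sylow {r : ℕ} (hr : r ∈ repI) (hX : ¬ IsConj K.z (K.f r)) :
    ∃ Q : Sylow 2 ↥(centralizer ({K.f r} : Set G)),
      (Q : Subgroup ↥(centralizer ({K.f r} : Set G))) =
        (K.sub (pI r)).subgroupOf (centralizer ({K.f r} : Set G)) := by
  classical
  obtain ⟨hr768, -, -, hc, hn, hrP, hzP, -, hcm⟩ := rep_facts hr
  obtain ⟨-, hlt, -⟩ := closedL_spec hc
  set X := centralizer ({K.f r} : Set G) with hXdef
  have hPX : K.sub (pI r) ≤ X := by
    intro x hx
    obtain ⟨a, ha, rfl⟩ := (K.mem_sub hc).1 hx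
    exact mem_centralizer_singleton_iff.2 ((K.cm_iff (hlt a ha) hr768).1 (hcm a ha))
  have hok := rep_ok
  simp only [Bool.and_eq_true, List.all_eq_true] at hok
  have hr' := hok r hr
  simp only [Bool.and_eq_true, List.all_eq_true, Bool.or_eq_true, Bool.not_eq_true', memL_iff]
    at hr'
  obtain ⟨⟨⟨⟨-, hodd⟩, hdiv⟩, hom⟩, hswap⟩ := hr'
  have hcardX : Nat.card ↥((centralizer ({K.z} : Set G)).subgroupOf X) =
      (els.filter (cmu r)).length := by
    rw [← inf_subgroupOf_right, Nat.card_congr (subgroupOfEquivOfLe inf_le_right).toEquiv,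
      ← SetLike.coe_sort_coe, Nat.card_coe_set_eq]
    have hs : ((centralizer ({K.z} : Set G) ⊓ X : Subgroup G) : Set G) =
        {y : G | y * K.z = K.z * y ∧ y * K.f r = K.f r * y} := by
      ext y
      simp [hXdef, mem_centralizer_singleton_iff]
    rw [hs, K.card_cent hr768]
    rfl
  have hcardP : Nat.card ↥((K.sub (pI r)).subgroupOf X) = (pI r).length := by
    rw [Nat.card_congr (subgroupOfEquivOfLe hPX).toEquiv, K.card_sub hc hn]
  have hP2 : IsPGroup 2 ↥((K.sub (pI r)).subgroupOf X) := by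
    have hl : (pI r).length = 32 ∨ (pI r).length = 16 := by
      have h := rep_sep
      simp only [Bool.and_eq_true] at h
      simp only [repI, List.mem_cons, List.not_mem_nil, or_false] at hr
      rcases hr with rfl | rfl | rfl | rfl
      · exact Or.inl (Nat.eq_of_beq_eq_true h.1.1.1.1.1.1.1.1)
      · exact Or.inl (Nat.eq_of_beq_eq_true h.1.1.1.1.1.1.1.2)
      · exact Or.inr (Nat.eq_of_beq_eq_true h.1.1.1.1.1.1.2)
      · exact Or.inl (Nat.eq_of_beq_eq_true h.1.1.1.1.1.2)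
    rcases hl with hl | hl
    · exact IsPGroup.of_card (n := 5) (by rw [hcardP, hl]; norm_num)
    · exact IsPGroup.of_card (n := 4) (by rw [hcardP, hl]; norm_num)
  refine sylow_of_fix _ ((centralizer ({K.z} : Set G)).subgroupOf X) hP2 ?_ ?_ ?_
  · intro x hx
    exact K.sub_le_cent hc (mem_subgroupOf.1 hx)
  · have h1 : ((K.sub (pI r)).subgroupOf X).relIndex ((centralizer ({K.z} : Set G)).subgroupOf X) *
        Nat.card ↥((K.sub (pI r)).subgroupOf X) =
        Nat.card ↥((centralizer ({K.z} : Set G)).subgroupOf X) := by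
      rw [mul_comm, ← Nat.card_congr (subgroupOfEquivOfLe (H := (K.sub (pI r)).subgroupOf X)
        (K := (centralizer ({K.z} : Set G)).subgroupOf X) (fun x hx => by
          exact K.sub_le_cent hc (mem_subgroupOf.1 hx))).toEquiv]
      exact card_mul_index _
    rw [hcardX, hcardP] at h1
    have hpos : 0 < (pI r).length := List.length_pos_of_mem hrP
    rw [Nat.odd_iff]
    rw [← h1, Nat.mul_div_cancel _ hpos] at hodd
    exact Nat.eq_of_beq_eq_true hodd
  · intro n hn'
    have hnr : (n : G) * K.f r = K.f r * (n : G) := mem_centralizer_singleton_iff.1 n.2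
    have hzX : K.z ∈ X := by
      rw [hXdef, mem_centralizer_singleton_iff]
      exact (K.f_mem hr768).symm
    have hmem : ∀ a ∈ pI r, (n : G) * K.f a * (n : G)⁻¹ ∈ K.sub (pI r) := by
      intro a ha
      have haX : K.f a ∈ X := hPX ((K.mem_sub hc).2 ⟨a, ha, rfl⟩)
      exact mem_subgroupOf.1 ((mem_normalizer_iff.1 hn' ⟨K.f a, haX⟩).1
        (mem_subgroupOf.2 ((K.mem_sub hc).2 ⟨a, ha, rfl⟩)))
    obtain ⟨b, hb, hbz⟩ := (K.mem_sub hc).1 (hmem 16 hzP)
    rw [K.f_z] at hbz
    -- the image of `z` is a central involution of the subgroup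
    have hb2 : Nat.beq (mu b b) 0 = true := by
      rw [K.sq_iff (hlt b hb) (by norm_num), hbz, K.f_zero]
      calc (n : G) * K.z * (n : G)⁻¹ * ((n : G) * K.z * (n : G)⁻¹) = n * (K.z * K.z) * (n : G)⁻¹ := by
            group
        _ = 1 := by rw [K.M.zz]; group
    have hbc : ∀ a ∈ pI r, cmu b a = true := by
      intro a ha
      rw [K.cm_iff (hlt b hb) (hlt a ha), hbz]
      have hai : (n : G)⁻¹ * K.f a * (n : G) ∈ K.sub (pI r) := by
        have haX : K.f a ∈ X := hPX ((K.mem_sub hc).2 ⟨a, ha, rfl⟩)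
        have h := mem_subgroupOf.1 ((mem_normalizer_iff.1 hn' (n⁻¹ * ⟨K.f a, haX⟩ * n)).2 (by
          rw [show n * (n⁻¹ * ⟨K.f a, haX⟩ * n) * n⁻¹ = (⟨K.f a, haX⟩ : X) by group]
          exact mem_subgroupOf.2 ((K.mem_sub hc).2 ⟨a, ha, rfl⟩)))
        exact h
      obtain ⟨a', ha', hea⟩ := (K.mem_sub hc).1 hai
      calc (n : G) * K.z * (n : G)⁻¹ * K.f a
          = n * (K.z * ((n : G)⁻¹ * K.f a * n)) * (n : G)⁻¹ := by group
        _ = n * (((n : G)⁻¹ * K.f a * n) * K.z) * (n : G)⁻¹ := by rw [← hea, K.f_mem (hlt a' ha')]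
        _ = _ := by group
    have hb' : b = 0 ∨ b = 16 ∨ b = r ∨ b = mu r 16 := by
      rcases hom b hb with h | h
      · rcases h with h | h
        · rw [hb2] at h; exact absurd h (by simp)
        · exfalso
          have h' : ((pI r).all fun a => cmu b a) = true := List.all_eq_true.2 hbc
          rw [h'] at h
          simp at h
      · simpa using h
    show (n : X) ∈ _
    rw [mem_subgroupOf, mem_centralizer_singleton_iff]
    rcases hb' with rfl | rfl | rfl | rfl
    · exfalso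
      rw [K.f_zero, eq_comm, mul_inv_eq_one, mul_eq_left] at hbz
      exact K.z_ne hbz
    · rw [K.f_z] at hbz
      calc (n : G) * K.z = n * K.z * (n : G)⁻¹ * n := by group
        _ = K.z * n := by rw [← hbz]
    · exact absurd (isConj_iff.2 ⟨(n : G), hbz.symm⟩) hX
    · exfalso
      obtain ⟨g, hg, hg'⟩ := els_any hswap
      have e1 : K.f g * K.f r = K.f (mu r 16) * K.f g := by
        have h16 : (16 : ℕ) < 768 := by norm_num
        rw [K.f_mul hg hr768, K.f_mul (mul_lt _ _ hr768 h16) hg]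
        exact congrArg K.f (Nat.eq_of_beq_eq_true hg')
      refine hX (isConj_iff.2 ⟨(K.f g)⁻¹ * n, ?_⟩)
      calc (K.f g)⁻¹ * n * K.z * ((K.f g)⁻¹ * n)⁻¹
          = (K.f g)⁻¹ * (n * K.z * (n : G)⁻¹) * K.f g := by group
        _ = (K.f g)⁻¹ * (K.f (mu r 16) * K.f g) := by rw [← hbz]; group
        _ = _ := by rw [← e1]; group

/-- Conjugate representatives have the same data. -/
theorem rep_invariant {r s : ℕ} (hr : r ∈ repI) (hs : s ∈ repI) (hrX : ¬ IsConj K.z (K.f r))
    (h : IsConj (K.f r) (K.f s)) :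
    (pI r).length = (pI s).length ∧ ninv (pI r) = ninv (pI s) ∧
      (((pI r).any fun a => Nat.beq (mu a a) r) = (pI s).any fun a => Nat.beq (mu a a) s) := by
  classical
  obtain ⟨g, hg⟩ := isConj_iff.1 h
  have hsX : ¬ IsConj K.z (K.f s) := fun h' => hrX (h'.trans h.symm)
  set Xr := centralizer ({K.f r} : Set G) with hXr
  set Xs := centralizer ({K.f s} : Set G) with hXs
  obtain ⟨Qr, hQr⟩ := K.rep_sylow hr hrX
  obtain ⟨Qs, hQs⟩ := K.rep_sylow hs hsX
  obtain ⟨-, -, -, hcr, hnr, -, -, -, -⟩ := rep_facts hr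
  obtain ⟨hs768, -, -, hcs, hns, -, -, -, -⟩ := rep_facts hs
  have hr768 := (rep_facts hr).1
  have hmap : ∀ x, x ∈ Xs ↔ g⁻¹ * x * g ∈ Xr := by
    intro x
    rw [hXs, hXr, mem_centralizer_singleton_iff, mem_centralizer_singleton_iff, ← hg]
    constructor
    · intro h
      calc g⁻¹ * x * g * K.f r = g⁻¹ * (x * (g * K.f r * g⁻¹)) * g := by group
        _ = _ := by rw [h]; group
    · intro h
      calc x * (g * K.f r * g⁻¹) = g * (g⁻¹ * x * g * K.f r) * g⁻¹ := by group
        _ = _ := by rw [h]; group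
  have hrsub : K.sub (pI r) ≤ Xr := by
    intro x hx
    obtain ⟨a, ha, rfl⟩ := (K.mem_sub hcr).1 hx
    exact mem_centralizer_singleton_iff.2
      ((K.cm_iff ((closedL_spec hcr).2.1 a ha) hr768).1 ((rep_facts hr).2.2.2.2.2.2.2.2 a ha))
  let φ : Xr →* Xs :=
    { toFun := fun x => ⟨g * x * g⁻¹, (hmap _).2 (by
        rw [show g⁻¹ * (g * (x : G) * g⁻¹) * g = x by group]; exact x.2)⟩
      map_one' := Subtype.ext (by simp)
      map_mul' := fun a b => Subtype.ext (by simp [mul_assoc]) }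
  let ψ : Xr ≃* Xs := MulEquiv.ofBijective φ
    ⟨fun a b e => Subtype.ext (mul_left_cancel (mul_right_cancel (congrArg Subtype.val e))),
      fun y => ⟨⟨g⁻¹ * y * g, (hmap _).1 y.2⟩, Subtype.ext (by simp [φ, mul_assoc])⟩⟩
  let Qr' : Sylow 2 Xs := Qr.mapSurjective (f := ψ.toMonoidHom) ψ.surjective
  obtain ⟨c, hc⟩ := MulAction.exists_smul_eq Xs Qr' Qs
  set m := (c : G) * g with hm
  have hkey : ∀ x ∈ K.sub (pI r), m * x * m⁻¹ ∈ K.sub (pI s) := by
    intro x hx
    have h1 : ψ ⟨x, hrsub hx⟩ ∈ (Qr' : Subgroup Xs) := by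
      show ψ ⟨x, hrsub hx⟩ ∈ (Qr : Subgroup Xr).map ψ.toMonoidHom
      exact ⟨⟨x, hrsub hx⟩, by rw [hQr, SetLike.mem_coe, mem_subgroupOf]; exact hx, rfl⟩
    have h2 : c * ψ ⟨x, hrsub hx⟩ * c⁻¹ ∈ (Qs : Subgroup Xs) := by
      rw [← hc, Sylow.coe_subgroup_smul]
      exact Subgroup.mem_map_of_mem _ h1
    rw [hQs, mem_subgroupOf] at h2
    have e : m * x * m⁻¹ = (c : G) * (g * x * g⁻¹) * (c : G)⁻¹ := by rw [hm]; group
    rw [e]
    exact h2
  have hcardQ : Nat.card ↥(K.sub (pI r)) = Nat.card ↥(K.sub (pI s)) := by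
    have h1 := Sylow.card_eq_multiplicity Qr'
    have h2 := Sylow.card_eq_multiplicity Qs
    have h3 : Nat.card ↥(Qr' : Subgroup Xs) = Nat.card ↥(Qr : Subgroup Xr) :=
      card_map_of_injective ψ.injective
    have hssub : K.sub (pI s) ≤ Xs := by
      intro x hx
      obtain ⟨a, ha, rfl⟩ := (K.mem_sub hcs).1 hx
      exact mem_centralizer_singleton_iff.2
        ((K.cm_iff ((closedL_spec hcs).2.1 a ha) hs768).1 ((rep_facts hs).2.2.2.2.2.2.2.2 a ha))
    rw [← Nat.card_congr (subgroupOfEquivOfLe hrsub).toEquiv, ← hQr, ← h3,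
      ← Nat.card_congr (subgroupOfEquivOfLe hssub).toEquiv, ← hQs]
    exact h1.trans h2.symm
  have hlen : (pI r).length = (pI s).length := by
    rw [← K.card_sub hcr hnr, ← K.card_sub hcs hns, hcardQ]
  have hbij : Set.BijOn (fun x => m * x * m⁻¹) (K.sub (pI r) : Set G) (K.sub (pI s) : Set G) := by
    refine ⟨hkey, fun a _ b _ e => mul_left_cancel (mul_right_cancel e), ?_⟩
    have himg : (fun x => m * x * m⁻¹) '' (K.sub (pI r) : Set G) = (K.sub (pI s) : Set G) := by
      refine Set.eq_of_subset_of_ncard_le (by rintro _ ⟨x, hx, rfl⟩; exact hkey x hx) ?_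
        (Set.toFinite _)
      rw [Set.ncard_image_of_injective _ fun a b e => mul_left_cancel (mul_right_cancel e),
        ← Nat.card_coe_set_eq, ← Nat.card_coe_set_eq]
      exact hcardQ.ge
    exact himg.ge
  have hmr : m * K.f r * m⁻¹ = K.f s := by
    have hcs' := mem_centralizer_singleton_iff.1 c.2
    calc m * K.f r * m⁻¹ = (c : G) * (g * K.f r * g⁻¹) * (c : G)⁻¹ := by rw [hm]; group
      _ = (c : G) * K.f s * (c : G)⁻¹ := by rw [hg]
      _ = K.f s := by rw [hcs']; group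
  refine ⟨hlen, ?_, ?_⟩
  · have key : ∀ {q : ℕ}, closedL (pI q) = true → nodupL (pI q) = true →
        ninv (pI q) = {x : G | x ∈ K.sub (pI q) ∧ x * x = 1}.ncard := by
      intro q hq hqn
      have hs' : {x : G | x ∈ K.sub (pI q) ∧ x * x = 1} =
          K.f '' (((pI q).filter fun a => Nat.beq (mu a a) 0).toFinset : Set ℕ) := by
        ext x
        simp only [Set.mem_ofPred_eq, Set.mem_image, Finset.mem_coe, List.mem_toFinset,
          List.mem_filter, K.mem_sub hq]
        constructor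
        · rintro ⟨⟨a, ha, rfl⟩, h1⟩
          exact ⟨a, ⟨ha, (K.sq_iff ((closedL_spec hq).2.1 a ha) (by norm_num)).2
            (by rw [h1, K.f_zero])⟩, rfl⟩
        · rintro ⟨a, ⟨ha, h1⟩, rfl⟩
          exact ⟨⟨a, ha, rfl⟩, by
            rw [(K.sq_iff ((closedL_spec hq).2.1 a ha) (by norm_num)).1 h1, K.f_zero]⟩
      have hnd : ((pI q).filter fun a => Nat.beq (mu a a) 0).Nodup :=
        (nodupL_nodup hqn).filter _
      rw [hs', Set.ncard_image_of_injOn, Set.ncard_coe_finset, List.toFinset_card_of_nodup hnd]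
      · rfl
      · intro a ha b hb e
        rw [Finset.mem_coe, List.mem_toFinset, List.mem_filter] at ha hb
        exact K.f_inj ((closedL_spec hq).2.1 a ha.1) ((closedL_spec hq).2.1 b hb.1) e
    rw [key hcr hnr, key hcs hns]
    refine Set.BijOn.ncard_eq (f := fun x => m * x * m⁻¹) ⟨?_, ?_, ?_⟩
    · rintro x ⟨hx, h1⟩
      exact ⟨hkey x hx, by
        calc m * x * m⁻¹ * (m * x * m⁻¹) = m * (x * x) * m⁻¹ := by group
          _ = 1 := by rw [h1]; group⟩
    · exact fun a _ b _ e => mul_left_cancel (mul_right_cancel e)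
    · rintro y ⟨hy, h1⟩
      obtain ⟨x, hx, rfl⟩ := hbij.surjOn hy
      refine ⟨x, ⟨hx, ?_⟩, rfl⟩
      calc x * x = m⁻¹ * ((m * x * m⁻¹) * (m * x * m⁻¹)) * m := by group
        _ = 1 := by rw [h1]; group
  · rw [Bool.eq_iff_iff, List.any_eq_true, List.any_eq_true]
    constructor
    · rintro ⟨a, ha, h1⟩
      obtain ⟨b, hb, hbe⟩ := (K.mem_sub hcs).1 (hkey _ ((K.mem_sub hcr).2 ⟨a, ha, rfl⟩))
      refine ⟨b, hb, (K.sq_iff ((closedL_spec hcs).2.1 b hb) hs768).2 ?_⟩
      rw [hbe]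
      calc m * K.f a * m⁻¹ * (m * K.f a * m⁻¹) = m * (K.f a * K.f a) * m⁻¹ := by group
        _ = _ := by rw [(K.sq_iff ((closedL_spec hcr).2.1 a ha) hr768).1 h1, hmr]
    · rintro ⟨b, hb, h1⟩
      obtain ⟨x, hx, hxe⟩ := hbij.surjOn ((K.mem_sub hcs).2 ⟨b, hb, rfl⟩)
      obtain ⟨a, ha, rfl⟩ := (K.mem_sub hcr).1 hx
      refine ⟨a, ha, (K.sq_iff ((closedL_spec hcr).2.1 a ha) hr768).2 ?_⟩
      calc K.f a * K.f a = m⁻¹ * ((m * K.f a * m⁻¹) * (m * K.f a * m⁻¹)) * m := by group
        _ = m⁻¹ * (K.f b * K.f b) * m := by rw [← hxe]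
        _ = _ := by rw [(K.sq_iff ((closedL_spec hcs).2.1 b hb) hs768).1 h1, ← hmr]; group

/-- The three outer representatives are fused neither to one another nor to an allowed element. -/
theorem rep_not_conj {r s : ℕ} (hr : r = 1 ∨ r = 32 ∨ r = 33) (hs : s ∈ repI) (hne : r ≠ s) :
    ¬ IsConj (K.f r) (K.f s) := by
  intro h
  have hrm : r ∈ repI := by rcases hr with rfl | rfl | rfl <;> simp [repI]
  have hnX : ¬ IsConj K.z (K.f r) := by
    intro h'
    obtain ⟨g, hg⟩ := isConj_iff.1 h'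
    rcases K.conj_allowed (rep_facts hrm).1 hg with e | e
    · exact (rep_facts hrm).2.2.1 e
    · rcases hr with rfl | rfl | rfl <;> revert e <;> decide +kernel
  obtain ⟨h1, h2, h3⟩ := K.rep_invariant hrm hs hnX h
  simp only [repI, List.mem_cons, List.not_mem_nil, or_false] at hs
  revert h1 h2 h3 hne
  rcases hr with rfl | rfl | rfl <;> rcases hs with rfl | rfl | rfl | rfl <;> decide +kernel

end Cen

end Cfsg.Agent.AutL34Model54
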