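import Cfsg.Agent.Lib.AutL34Model54Data

/-!
# Models of the centralizer `2^{1+4}.S₄` of an involution, with a rewriting certificate

An element `n < 768` stands for `s · a^A · λ(π)`: `A = n % 16` a subset of four anticommuting
involutions `a₁,…,a₄`, `s = n / 16 % 2` a sign, `π = n / 32` a permutation with lift `λ(π)`.
The two signs `e = x²` and `d = [x₁, x₃]` are parameters.
-/

set_option autoImplicit false

namespace Cfsg.Agent.AutL34Model54

/-- Whether bit `k` of `n` is set. -/
def bit (n k : ℕ) : Bool := Nat.beq ((n >>> k) % 2) 1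

/-- The image of the point `j` under the `k`-th adjacent transposition. -/
def gp (k j : ℕ) : ℕ := if j = k then k + 1 else if j = k + 1 then k else j

/-- The letters of a subset of `{a₁,…,a₄}` (letters `3,…,6`). -/
def ew (A : ℕ) : List ℕ := ([3, 4, 5, 6] : List ℕ).filter fun i => bit A (i - 3)

/-- The word of the `p`-th permutation. -/
def pw (p : ℕ) : List ℕ := wordT.getD p []

/-- Image subset of `A` under the permutation `p`. -/
def iA (p A : ℕ) : ℕ := (iaT >>> (4 * (16 * p + A))) % 16

/-- Product of two permutations. -/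
def pM (p q : ℕ) : ℕ := (pmT >>> (5 * (24 * p + q))) % 32

/-- Sign of a product of two lifts. -/
def pS (e d : Bool) (p q : ℕ) : Bool :=
  xor (bit neT (24 * p + q) && e) (bit ndT (24 * p + q) && d)

/-- The sign of the model element `n`. -/
def sg (n : ℕ) : Bool := bit n 4

/-- The element with sign `s`, subset `A`, permutation `p`. -/
def mk (s : Bool) (A p : ℕ) : ℕ := 32 * p + A + (if s then 16 else 0)

/-- The product of the model. -/
def mul (e d : Bool) (n m : ℕ) : ℕ :=
  mk (xor (xor (sg n) (sg m))
      (xor (bit isT (16 * (n / 32) + m % 16))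
        (xor (bit esT (16 * (n % 16) + iA (n / 32) (m % 16))) (pS e d (n / 32) (m / 32)))))
    (Nat.xor (n % 16) (iA (n / 32) (m % 16))) (pM (n / 32) (m / 32))

/-- One rewriting step at the head. -/
def step0 (e d : Bool) (r : ℕ) : List ℕ → Option (List ℕ × Bool)
  | a :: b :: w =>
    if r = 0 then
      (if a = b ∧ a < 7 then some (w, decide (a < 3) && e) else none)
    else if r = 1 then
      (if 3 ≤ a ∧ a < 7 ∧ 3 ≤ b ∧ b < 7 ∧ a ≠ b then some (b :: a :: w, true)
      else if (a = 0 ∧ b = 2) ∨ (a = 2 ∧ b = 0) then some (b :: a :: w, d) else none)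
    else if r = 2 then
      (if a < 3 ∧ 3 ≤ b ∧ b < 7 then some ((gp a (b - 3) + 3) :: a :: w, false) else none)
    else match w with
      | c :: w' => if c = a ∧ a < 3 ∧ b < 3 ∧ (a + 1 = b ∨ b + 1 = a)
          then some (b :: a :: b :: w', false) else none
      | [] => none
  | _ => none

/-- One rewriting step at position `i`. -/
def stepAt (e d : Bool) (r : ℕ) : ℕ → List ℕ → Option (List ℕ × Bool)
  | 0, w => step0 e d r w
  | i + 1, c :: w => match stepAt e d r i w with
    | some (w', b) => some (c :: w', b)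
    | none => none
  | _ + 1, [] => none

/-- A chain of steps; move `m` is rule `m % 4` at position `m / 4`. -/
def run (e d : Bool) : List ℕ → List ℕ → Option (List ℕ × Bool)
  | [], w => some (w, false)
  | m :: ms, w => match stepAt e d (m % 4) (m / 4) w with
    | some (w', b) => match run e d ms w' with
      | some (w'', b') => some (w'', xor b b')
      | none => none
    | none => none

/-- Generators satisfying the relations of the model. -/
structure Gens (G : Type*) [Group G] (e d : Bool) where
  /-- the central involution -/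
  z : G
  /-- the seven letters -/
  v : ℕ → G
  zz : z * z = 1
  zc : ∀ i < 7, z * v i = v i * z
  sqA : ∀ i < 7, 3 ≤ i → v i * v i = 1
  sqX : ∀ i < 3, v i * v i = if e then z else 1
  anti : ∀ i < 7, ∀ j < 7, 3 ≤ i → 3 ≤ j → i ≠ j → v i * v j = z * (v j * v i)
  far : v 0 * v 2 = (if d then z else 1) * (v 2 * v 0)
  conj : ∀ k < 3, ∀ j < 4, v k * v (j + 3) = v (gp k j + 3) * v k
  braid : ∀ a < 3, ∀ b < 3, (a + 1 = b ∨ b + 1 = a) → v a * v b * v a = v b * v a * v b

namespace Gens

variable {G : Type*} [Group G] {e d : Bool} (M : Gens G e d)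

/-- The sign as an element. -/
def zp (b : Bool) : G := if b then M.z else 1

theorem zp_xor (a b : Bool) : M.zp (xor a b) = M.zp a * M.zp b := by
  cases a <;> cases b <;> simp [zp, M.zz]

/-- The value of a word. -/
def ev (w : List ℕ) : G := (w.map M.v).prod

theorem ev_nil : M.ev [] = 1 := rfl

theorem ev_cons (a : ℕ) (w : List ℕ) : M.ev (a :: w) = M.v a * M.ev w := List.prod_cons

theorem ev_append (u w : List ℕ) : M.ev (u ++ w) = M.ev u * M.ev w := by
  simp [ev, List.prod_append]

theorem zp_comm_v (b : Bool) {i : ℕ} (hi : i < 7) : M.zp b * M.v i = M.v i * M.zp b := by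
  cases b
  · simp [zp]
  · simp only [zp, if_true]; exact M.zc i hi

theorem far' : M.v 2 * M.v 0 = M.zp d * (M.v 0 * M.v 2) := by
  rw [M.far, ← mul_assoc, show (if d then M.z else 1) = M.zp d from rfl, ← zp_xor, Bool.xor_self]
  simp [zp]

theorem step0_sound {r : ℕ} {w w' : List ℕ} {b : Bool} (h : step0 e d r w = some (w', b)) :
    M.ev w = M.zp b * M.ev w' := by
  unfold step0 at h
  split at h
  · rename_i a c t
    split_ifs at h with hr hc hr1 hc1 hc2 hr2 hc3
    · simp only [Option.some.injEq, Prod.mk.injEq] at h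
      obtain ⟨rfl, rfl⟩ := h
      obtain ⟨rfl, h7⟩ := hc
      rw [M.ev_cons, M.ev_cons, ← mul_assoc]
      by_cases h3 : a < 3
      · rw [M.sqX a h3]; cases e <;> simp [h3, zp]
      · rw [M.sqA a h7 (by omega)]; simp [h3, zp]
    · simp only [Option.some.injEq, Prod.mk.injEq] at h
      obtain ⟨rfl, rfl⟩ := h
      obtain ⟨h1, h2, h3, h4, h5⟩ := hc1
      simp only [M.ev_cons, ← mul_assoc]
      rw [M.anti a h2 c h4 h1 h3 h5]
      simp [zp, mul_assoc]
    · simp only [Option.some.injEq, Prod.mk.injEq] at h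
      obtain ⟨rfl, rfl⟩ := h
      simp only [M.ev_cons, ← mul_assoc]
      rcases hc2 with ⟨rfl, rfl⟩ | ⟨rfl, rfl⟩
      · rw [M.far]; simp [zp, mul_assoc]
      · rw [M.far']; simp [mul_assoc]
    · simp only [Option.some.injEq, Prod.mk.injEq] at h
      obtain ⟨rfl, rfl⟩ := h
      obtain ⟨h1, h2, h3⟩ := hc3
      simp only [M.ev_cons, ← mul_assoc]
      have := M.conj a h1 (c - 3) (by omega)
      rw [show c - 3 + 3 = c by omega] at this
      rw [this]
      simp [zp, mul_assoc]
    · cases t with
      | nil => simp at h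
      | cons x t =>
        simp only at h
        split_ifs at h with hb
        simp only [Option.some.injEq, Prod.mk.injEq] at h
        obtain ⟨rfl, rfl⟩ := h
        obtain ⟨rfl, h1, h2, h3⟩ := hb
        simp only [M.ev_cons, ← mul_assoc]
        rw [M.braid x h1 c h2 h3]
        simp [zp, mul_assoc]
  · simp at h

theorem stepAt_sound {r : ℕ} : ∀ {i : ℕ} {w w' : List ℕ} {b : Bool}, (∀ a ∈ w, a < 7) →
    stepAt e d r i w = some (w', b) → M.ev w = M.zp b * M.ev w'
  | 0, w, w', b, _, h => M.step0_sound h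
  | i + 1, [], w', b, _, h => by simp [stepAt] at h
  | i + 1, c :: w, w', b, hw, h => by
    simp only [stepAt] at h
    split at h
    · rename_i u b' hu
      simp only [Option.some.injEq, Prod.mk.injEq] at h
      obtain ⟨rfl, rfl⟩ := h
      rw [M.ev_cons, M.ev_cons, stepAt_sound (fun a ha => hw a (List.mem_cons_of_mem c ha)) hu,
        ← mul_assoc, ← M.zp_comm_v _ (hw c List.mem_cons_self), mul_assoc]
    · simp at h

end Gens

theorem gp_lt {k j : ℕ} (hk : k < 3) (hj : j < 4) : gp k j < 4 := by
  unfold gp; split_ifs <;> omega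

theorem step0_lt {e d : Bool} {r : ℕ} {w w' : List ℕ} {b : Bool} (hw : ∀ a ∈ w, a < 7)
    (h : step0 e d r w = some (w', b)) : ∀ a ∈ w', a < 7 := by
  unfold step0 at h
  split at h
  · rename_i a c t
    have ha := hw a (by simp)
    have hc := hw c (by simp)
    have ht : ∀ x ∈ t, x < 7 := fun x hx => hw x (by simp [hx])
    split_ifs at h with hr hc' hr1 hc1 hc2 hr2 hc3
    all_goals try (simp only [Option.some.injEq, Prod.mk.injEq] at h; obtain ⟨rfl, rfl⟩ := h)
    · exact ht
    · simpa [ha, hc] using ht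
    · simpa [ha, hc] using ht
    · have := gp_lt hc3.1 (show c - 3 < 4 by omega)
      simpa [ha, show gp a (c - 3) + 3 < 7 by omega] using ht
    · cases t with
      | nil => simp at h
      | cons x t =>
        simp only at h
        split_ifs at h with hb
        simp only [Option.some.injEq, Prod.mk.injEq] at h
        obtain ⟨rfl, rfl⟩ := h
        intro y hy
        simp only [List.mem_cons] at hy
        rcases hy with rfl | rfl | rfl | hy <;>
          first | exact hc | exact ha | exact ht _ (by simp [hy])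
  · simp at h

theorem stepAt_lt {e d : Bool} {r : ℕ} : ∀ {i : ℕ} {w w' : List ℕ} {b : Bool},
    (∀ a ∈ w, a < 7) → stepAt e d r i w = some (w', b) → ∀ a ∈ w', a < 7
  | 0, w, w', b, hw, h => step0_lt hw h
  | i + 1, [], w', b, _, h => by simp [stepAt] at h
  | i + 1, c :: w, w', b, hw, h => by
    simp only [stepAt] at h
    split at h
    · rename_i u b' hu
      simp only [Option.some.injEq, Prod.mk.injEq] at h
      obtain ⟨rfl, rfl⟩ := h
      intro a ha
      rcases List.mem_cons.1 ha with rfl | ha
      · exact hw _ List.mem_cons_self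
      · exact stepAt_lt (fun a ha => hw a (List.mem_cons_of_mem c ha)) hu a ha
    · simp at h

/-- All letters of a word are below seven. -/
def okW (w : List ℕ) : Bool := w.all fun a => Nat.blt a 7

theorem Gens.run_sound {G : Type*} [Group G] {e d : Bool} (M : Gens G e d) :
    ∀ {ms : List ℕ} {w w' : List ℕ} {b : Bool}, (∀ a ∈ w, a < 7) →
      run e d ms w = some (w', b) → M.ev w = M.zp b * M.ev w'
  | [], w, w', b, _, h => by
    simp only [run, Option.some.injEq, Prod.mk.injEq] at h
    obtain ⟨rfl, rfl⟩ := h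
    simp [Gens.zp]
  | m :: ms, w, w', b, hw, h => by
    simp only [run] at h
    split at h
    · rename_i u b' hu
      split at h
      · rename_i u' b'' hu'
        simp only [Option.some.injEq, Prod.mk.injEq] at h
        obtain ⟨rfl, rfl⟩ := h
        rw [M.stepAt_sound hw hu, run_sound M (stepAt_lt hw hu) hu', M.zp_xor, mul_assoc]
      · simp at h
    · simp at h

/-- Compare the outcome of a chain with the expected word and sign. -/
def chk (e d : Bool) (ms w w' : List ℕ) (b : Bool) : Bool :=
  okW w && match run e d ms w with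
    | some (u, c) => (u == w') && (c == b)
    | none => false

theorem Gens.chk_sound {G : Type*} [Group G] {e d : Bool} (M : Gens G e d) {ms w w' : List ℕ}
    {b : Bool} (h : chk e d ms w w' b = true) : M.ev w = M.zp b * M.ev w' := by
  simp only [chk, Bool.and_eq_true] at h
  obtain ⟨h1, h2⟩ := h
  split at h2
  · rename_i u c hu
    simp only [Bool.and_eq_true, beq_iff_eq] at h2
    obtain ⟨rfl, rfl⟩ := h2
    refine M.run_sound (fun a ha => ?_) hu
    simpa using List.all_eq_true.1 h1 a ha
  · simp at h2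

theorem es_ok : ∀ e d : Bool, ((List.range 16).all fun A => (List.range 16).all fun B =>
    chk e d ((esM.getD A []).getD B []) (ew A ++ ew B) (ew (Nat.xor A B))
      (bit esT (16 * A + B))) = true := by
  decide +kernel

theorem i_ok : ∀ e d : Bool, ((List.range 24).all fun p => (List.range 16).all fun A =>
    chk e d ((iM.getD p []).getD A []) (pw p ++ ew A) (ew (iA p A) ++ pw p)
      (bit isT (16 * p + A))) = true := by
  decide +kernel

theorem pm_ok : ∀ e d : Bool, ((List.range 24).all fun p => (List.range 24).all fun q =>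
    Nat.blt (pM p q) 24 && chk e d ((pmM.getD p []).getD q []) (pw p ++ pw q) (pw (pM p q))
      (pS e d p q)) = true := by
  decide +kernel

theorem all2_spec {N M : ℕ} {f : ℕ → ℕ → Bool}
    (h : ((List.range N).all fun i => (List.range M).all (f i)) = true) {i j : ℕ} (hi : i < N)
    (hj : j < M) : f i j = true :=
  List.all_eq_true.1 (List.all_eq_true.1 h i (List.mem_range.2 hi)) j (List.mem_range.2 hj)

theorem bit_mk_four : ∀ s : Bool, ((List.range 16).all fun A => (List.range 24).all fun p =>
    (sg (mk s A p) == s) && Nat.beq (mk s A p % 16) A && Nat.beq (mk s A p / 32) p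
      && Nat.blt (mk s A p) 768) = true := by
  decide +kernel

theorem mk_spec (s : Bool) {A p : ℕ} (hA : A < 16) (hp : p < 24) :
    sg (mk s A p) = s ∧ mk s A p % 16 = A ∧ mk s A p / 32 = p ∧ mk s A p < 768 := by
  have h := all2_spec (bit_mk_four s) hA hp
  simpa [Bool.and_eq_true, and_assoc] using h

theorem mk_eta : ((List.range 768).all fun n => Nat.beq (mk (sg n) (n % 16) (n / 32)) n) = true := by
  decide +kernel

theorem mul_args {n : ℕ} (hn : n < 768) : n % 16 < 16 ∧ n / 32 < 24 := by omega

theorem iA_lt (p A : ℕ) : iA p A < 16 := Nat.mod_lt _ (by norm_num)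

theorem xor_lt {A B : ℕ} (hA : A < 16) (hB : B < 16) : Nat.xor A B < 16 :=
  Nat.xor_lt_two_pow (n := 4) hA hB

theorem pM_lt {p q : ℕ} (hp : p < 24) (hq : q < 24) : pM p q < 24 := by
  have h := all2_spec (pm_ok false false) hp hq
  simp only [Bool.and_eq_true] at h
  simpa using h.1

theorem mul_lt (e d : Bool) {n m : ℕ} (hn : n < 768) (hm : m < 768) : mul e d n m < 768 :=
  (mk_spec _ (xor_lt (mul_args hn).1 (iA_lt _ _)) (pM_lt (mul_args hn).2 (mul_args hm).2)).2.2.2

namespace Gens

variable {G : Type*} [Group G] {e d : Bool} (M : Gens G e d)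

/-- The value of a model element. -/
def φ (n : ℕ) : G := M.zp (sg n) * M.ev (ew (n % 16)) * M.ev (pw (n / 32))

theorem zp_comm_ev (b : Bool) : ∀ {w : List ℕ}, (∀ a ∈ w, a < 7) → M.zp b * M.ev w = M.ev w * M.zp b
  | [], _ => by simp [ev_nil]
  | a :: w, hw => by
    rw [M.ev_cons, ← mul_assoc, M.zp_comm_v b (hw a List.mem_cons_self), mul_assoc,
      zp_comm_ev b (fun x hx => hw x (List.mem_cons_of_mem a hx)), ← mul_assoc]

theorem ew_lt (A : ℕ) : ∀ a ∈ ew A, a < 7 := by
  intro a ha
  have := (List.mem_filter.1 ha).1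
  simp only [List.mem_cons, List.not_mem_nil, or_false] at this
  omega

theorem pw_ok : ((List.range 24).all fun p => okW (pw p)) = true := by decide +kernel

theorem pw_lt {p : ℕ} (hp : p < 24) : ∀ a ∈ pw p, a < 7 := fun a ha => by
  simpa using List.all_eq_true.1 (List.all_eq_true.1 pw_ok p (List.mem_range.2 hp)) a ha

theorem zp_comm_φ (b : Bool) {n : ℕ} (hn : n < 768) : M.zp b * M.φ n = M.φ n * M.zp b := by
  rw [φ, ← mul_assoc, ← mul_assoc, ← zp_xor, Bool.xor_comm, zp_xor, mul_assoc (M.zp (sg n)),
    M.zp_comm_ev b (ew_lt _), ← mul_assoc (M.zp (sg n)), mul_assoc (M.zp (sg n) * _),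
    M.zp_comm_ev b (pw_lt (mul_args hn).2), ← mul_assoc]

/-- `φ` turns the product of the model into the product of the group. -/
theorem φ_mul {n m : ℕ} (hn : n < 768) (hm : m < 768) : M.φ (mul e d n m) = M.φ n * M.φ m := by
  obtain ⟨hA, hp⟩ := mul_args hn
  obtain ⟨hB, hq⟩ := mul_args hm
  set A := n % 16 with hAdef
  set p := n / 32 with hpdef
  set B := m % 16 with hBdef
  set q := m / 32 with hqdef
  have h1 := M.chk_sound (all2_spec (i_ok e d) hp hB)
  have h2 := M.chk_sound (all2_spec (es_ok e d) hA (iA_lt p B))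
  have h3' := all2_spec (pm_ok e d) hp hq
  simp only [Bool.and_eq_true] at h3'
  have h3 := M.chk_sound h3'.2
  rw [M.ev_append, M.ev_append] at h1
  rw [M.ev_append] at h2 h3
  set s1 := bit isT (16 * p + B)
  set s2 := bit esT (16 * A + iA p B)
  set s3 := pS e d p q
  obtain ⟨e1, e2, e3, -⟩ := mk_spec (xor (xor (sg n) (sg m)) (xor s1 (xor s2 s3)))
    (xor_lt hA (iA_lt p B)) (pM_lt hp hq)
  have hC : ∀ b, M.zp b * M.ev (ew A) = M.ev (ew A) * M.zp b := fun b => M.zp_comm_ev b (ew_lt A)
  have hP : ∀ b, M.zp b * M.ev (pw p) = M.ev (pw p) * M.zp b := fun b =>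
    M.zp_comm_ev b (pw_lt hp)
  have hC' : ∀ b, M.zp b * M.ev (ew (Nat.xor A (iA p B))) = M.ev (ew (Nat.xor A (iA p B))) * M.zp b :=
    fun b => M.zp_comm_ev b (ew_lt _)
  unfold φ mul
  rw [e1, e2, e3]
  symm
  calc M.zp (sg n) * M.ev (ew A) * M.ev (pw p) * (M.zp (sg m) * M.ev (ew B) * M.ev (pw q))
      = M.zp (sg n) * M.ev (ew A) * (M.ev (pw p) * M.zp (sg m)) * M.ev (ew B) * M.ev (pw q) := by
        group
    _ = M.zp (sg n) * (M.ev (ew A) * M.zp (sg m)) * (M.ev (pw p) * M.ev (ew B)) * M.ev (pw q) := by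
        rw [← hP]; group
    _ = M.zp (sg n) * (M.zp (sg m) * M.ev (ew A)) *
          (M.zp s1 * (M.ev (ew (iA p B)) * M.ev (pw p))) * M.ev (pw q) := by
        rw [← hC, h1]
    _ = M.zp (sg n) * M.zp (sg m) * (M.ev (ew A) * M.zp s1) *
          M.ev (ew (iA p B)) * (M.ev (pw p) * M.ev (pw q)) := by group
    _ = M.zp (sg n) * M.zp (sg m) * M.zp s1 * (M.ev (ew A) * M.ev (ew (iA p B))) *
          (M.ev (pw p) * M.ev (pw q)) := by rw [← hC]; group
    _ = M.zp (sg n) * M.zp (sg m) * M.zp s1 * (M.zp s2 * M.ev (ew (Nat.xor A (iA p B)))) *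
          (M.zp s3 * M.ev (pw (pM p q))) := by rw [h2, h3]
    _ = M.zp (sg n) * M.zp (sg m) * M.zp s1 * M.zp s2 *
          (M.ev (ew (Nat.xor A (iA p B))) * M.zp s3) * M.ev (pw (pM p q)) := by group
    _ = M.zp (sg n) * M.zp (sg m) * M.zp s1 * M.zp s2 * M.zp s3 *
          M.ev (ew (Nat.xor A (iA p B))) * M.ev (pw (pM p q)) := by rw [← hC']; group
    _ = _ := by
        simp only [zp_xor, mul_assoc]

theorem φ_zero : M.φ 0 = 1 := by
  simp [φ, sg, bit, zp, ew, pw, wordT, ev]

theorem φ_z : M.φ 16 = M.z := by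
  simp [φ, sg, bit, zp, ew, pw, wordT, ev]

end Gens

end Cfsg.Agent.AutL34Model54
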