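import Cfsg.Agent.Lib.LargeExtraspecial
import Cfsg.Prelude.Def_Local

/-!
# Odd-order groups acting on extraspecial 2-groups
-/

set_option autoImplicit false

namespace Cfsg.Agent.LargeExtraspecialAct

open Subgroup Cfsg.Agent.LargeExtraspecial
open scoped commutatorElement

variable {G : Type*} [Group G]

section lists

variable {Q : Subgroup G} {z : G} (h : Ext Q z)
include h

/-- Permuting the factors of a product in `Q` changes it at most by `z`. -/
theorem perm_prod {l l' : List G} (hp : l.Perm l') (hl : ∀ x ∈ l, x ∈ Q) :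
    l.prod = l'.prod ∨ l.prod = z * l'.prod := by
  induction hp with
  | nil => exact Or.inl rfl
  | cons x _ ih =>
    rcases ih fun y hy => hl y (List.mem_cons_of_mem _ hy) with e | e
    · exact Or.inl (by rw [List.prod_cons, List.prod_cons, e])
    · refine Or.inr ?_
      rw [List.prod_cons, List.prod_cons, e, ← mul_assoc, h.comm x (hl x (List.mem_cons_self ..)),
        mul_assoc]
  | swap x y l =>
    have hx : x ∈ Q := hl x (by simp)
    have hy : y ∈ Q := hl y (by simp)
    simp only [List.prod_cons]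
    rcases h.conj y hy x hx with e | e
    · exact Or.inl (by rw [← mul_assoc, ← mul_assoc, mul_inv_eq_iff_eq_mul.mp e])
    · refine Or.inr ?_
      rw [← mul_assoc y x, mul_inv_eq_iff_eq_mul.mp e]
      group
  | trans hp₁ _ ih₁ ih₂ =>
    rcases ih₁ hl with e | e <;>
      rcases ih₂ (fun y hy => hl y (hp₁.mem_iff.mpr hy)) with e' | e' <;>
      rw [e, e']
    · exact Or.inl rfl
    · exact Or.inr rfl
    · exact Or.inr rfl
    · exact Or.inl (h.z_mul_z_mul _)

/-- A product of an odd number of elements moving `x` moves `x`. -/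
theorem prod_moves {x : G} (hx : x ∈ Q) : ∀ l : List G, (∀ y ∈ l, y ∈ Q ∧ y * x * y⁻¹ = z * x) →
    (Even l.length → l.prod * x * l.prod⁻¹ = x) ∧ (Odd l.length → l.prod * x * l.prod⁻¹ = z * x)
  | [], _ => ⟨fun _ => by simp, fun ho => by simp at ho⟩
  | y :: l, hl => by
    obtain ⟨ih1, ih2⟩ := prod_moves hx l fun w hw => hl w (List.mem_cons_of_mem _ hw)
    obtain ⟨hy, ey⟩ := hl y (List.mem_cons_self ..)
    have e : ∀ P : G, y * P * x * (y * P)⁻¹ = y * (P * x * P⁻¹) * y⁻¹ := fun P => by group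
    refine ⟨fun he => ?_, fun ho => ?_⟩
    · have hodd : Odd l.length := by
        rw [List.length_cons] at he
        simpa [Nat.even_add_one, Nat.not_even_iff_odd] using he
      rw [List.prod_cons, e, ih2 hodd]
      calc y * (z * x) * y⁻¹ = (y * z) * x * y⁻¹ := by group
        _ = z * (y * x * y⁻¹) := by rw [h.comm y hy]; group
        _ = x := by rw [ey, h.z_mul_z_mul]
    · have heven : Even l.length := by
        rw [List.length_cons] at ho
        simpa [Nat.odd_add_one, Nat.not_odd_iff_even] using ho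
      rw [List.prod_cons, e, ih1 heven, ey]

theorem pow_odd {y : G} (hy : y ∈ Q) {n : ℕ} (hn : Odd n) : y ^ n = y ∨ y ^ n = z * y := by
  obtain ⟨k, rfl⟩ := hn
  rw [pow_succ, pow_mul, pow_two]
  rcases h.sq y hy with e | e
  · left; rw [e, one_pow, one_mul]
  · rw [e]
    rcases Nat.even_or_odd k with ⟨j, rfl⟩ | ⟨j, rfl⟩
    · left; rw [← two_mul, pow_mul, pow_two, h.zz, one_pow, one_mul]
    · right; rw [pow_succ, pow_mul, pow_two, h.zz, one_pow, one_mul]

/-- An element of odd order normalising `Q` fixes whatever it fixes modulo `z`. -/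
theorem fix_of_fix_mod {b y : G} {n : ℕ} (hn : Odd n) (hbn : b ^ n = 1) (hbz : b * z = z * b)
    (hy : b * y * b⁻¹ = y ∨ b * y * b⁻¹ = z * y) : b * y = y * b := by
  rcases hy with e | e
  · exact mul_inv_eq_iff_eq_mul.mp e
  exfalso
  have key : ∀ k : ℕ, b ^ k * y * (b ^ k)⁻¹ = z ^ k * y := by
    intro k
    induction k with
    | zero => simp
    | succ k ih =>
      have hc : b ^ k * z = z * b ^ k := (Commute.pow_left hbz k).eq
      calc b ^ (k + 1) * y * (b ^ (k + 1))⁻¹ = b ^ k * (b * y * b⁻¹) * (b ^ k)⁻¹ := by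
            rw [pow_succ]; group
        _ = (b ^ k * z) * y * (b ^ k)⁻¹ := by rw [e]; group
        _ = z * (b ^ k * y * (b ^ k)⁻¹) := by rw [hc]; group
        _ = z ^ (k + 1) * y := by rw [ih, pow_succ', mul_assoc]
  have h1 := key n
  rw [hbn] at h1
  obtain ⟨j, rfl⟩ := hn
  rw [pow_succ, pow_mul, pow_two, h.zz, one_pow, one_mul, one_mul, inv_one, mul_one] at h1
  exact h.z_mul_ne y h1.symm

end lists

/-! ### An odd subgroup normalising `Q` -/

section action

variable [Finite G] {Q : Subgroup G} {z : G} (h : Ext Q z) {A : Subgroup G}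
  (hA : ∀ a ∈ A, ∀ x ∈ Q, a * x * a⁻¹ ∈ Q) (hodd : Odd (Nat.card A))
include h hA hodd

omit hodd in
theorem comm_z {a : G} (ha : a ∈ A) : a * z = z * a := by
  rcases h.central (hA a ha z h.mem) fun y hy => by
      have hy' := hA a⁻¹ (A.inv_mem ha) y hy
      rw [inv_inv] at hy'
      calc y * (a * z * a⁻¹) = a * (a⁻¹ * y * a * z) * a⁻¹ := by group
        _ = a * (z * (a⁻¹ * y * a)) * a⁻¹ := by rw [h.comm _ hy']
        _ = a * z * a⁻¹ * y := by group with e | e
  · exact absurd (conj_eq_one_iff.mp e) h.ne_one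
  · exact mul_inv_eq_iff_eq_mul.mp e

theorem fix_mod {a y : G} (ha : a ∈ A) (hy : a * y * a⁻¹ = y ∨ a * y * a⁻¹ = z * y) :
    a * y = y * a := by
  refine fix_of_fix_mod h hodd ?_ (comm_z h hA ha) hy
  exact congrArg Subtype.val (pow_card_eq_one' (x := (⟨a, ha⟩ : A)))

/-- Averaging: the product of the `A`-conjugates of `y` is centralised by `A`. -/
theorem exists_average (y : G) (hy : y ∈ Q) :
    ∃ l : List G, l.length = Nat.card A ∧ (∀ w ∈ l, ∃ a ∈ A, w = a * y * a⁻¹) ∧
      (∀ a ∈ A, a * l.prod = l.prod * a) := by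
  classical
  haveI : Fintype A := Fintype.ofFinite A
  let f : A → G := fun a => (a : G) * y * (a : G)⁻¹
  refine ⟨(Finset.univ : Finset A).toList.map f, by simp, ?_, ?_⟩
  · intro w hw
    obtain ⟨a, -, rfl⟩ := List.mem_map.mp hw
    exact ⟨a, a.2, rfl⟩
  · intro b hb
    apply fix_mod h hA hodd hb
    have e : b * ((Finset.univ : Finset A).toList.map f).prod * b⁻¹ =
        (((Finset.univ : Finset A).toList.map (fun a => (⟨b, hb⟩ : A) * a)).map f).prod := by
      rw [← MulAut.conj_apply b, map_list_prod, List.map_map, List.map_map]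
      congr 1
      refine List.map_congr_left fun a _ => ?_
      simp only [Function.comp_apply, f, MulAut.conj_apply, coe_mul]
      group
    rw [e]
    refine perm_prod h (List.Perm.map f ?_) ?_
    · apply (List.perm_ext_iff_of_nodup ?_ (Finset.nodup_toList _)).mpr
      · intro a
        simp only [Finset.mem_toList, Finset.mem_univ, iff_true, List.mem_map, true_and]
        exact ⟨(⟨b, hb⟩ : A)⁻¹ * a, mul_inv_cancel_left _ _⟩
      · exact (Finset.nodup_toList _).map (mul_right_injective _)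
    · intro w hw
      obtain ⟨a, -, rfl⟩ := List.mem_map.mp hw
      exact hA _ a.2 y hy

/-- `C_Q(A)`. -/
theorem partner_fixed {x : G} (hx : x ∈ Q) (hxA : ∀ a ∈ A, a * x = x * a) (h1 : x ≠ 1)
    (h2 : x ≠ z) : ∃ y ∈ Q ⊓ centralizer (A : Set G), y * x * y⁻¹ = z * x := by
  obtain ⟨y, hy, ey⟩ := h.partner x hx h1 h2
  obtain ⟨l, hlen, hl, hfix⟩ := exists_average h hA hodd y hy
  have hmove : ∀ w ∈ l, w ∈ Q ∧ w * x * w⁻¹ = z * x := by
    intro w hw
    obtain ⟨a, ha, rfl⟩ := hl w hw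
    refine ⟨hA a ha y hy, ?_⟩
    have e1 : a⁻¹ * x * a = x := by rw [mul_assoc, ← hxA a ha, inv_mul_cancel_left]
    calc a * y * a⁻¹ * x * (a * y * a⁻¹)⁻¹ = a * (y * (a⁻¹ * x * a) * y⁻¹) * a⁻¹ := by group
      _ = (a * z) * x * a⁻¹ := by rw [e1, ey]; group
      _ = z * (a * x * a⁻¹) := by rw [comm_z h hA ha]; group
      _ = z * x := by rw [hxA a ha, mul_inv_cancel_right]
  refine ⟨l.prod, ⟨Q.list_prod_mem fun w hw => (hmove w hw).1,
    mem_centralizer_iff.mpr fun a ha => hfix a ha⟩, ?_⟩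
  exact (prod_moves h hx l hmove).2 (hlen ▸ hodd)

/-- `C_Q(A)` is `{1,z}` or extraspecial. -/
theorem ext_centralizer : Ext (Q ⊓ centralizer (A : Set G)) z := by
  refine ⟨⟨h.mem, mem_centralizer_iff.mpr fun a ha => comm_z h hA ha⟩, h.ne_one, h.zz,
    fun x hx => h.comm x hx.1, fun x hx => h.sq x hx.1, fun x hx y hy => h.conj x hx.1 y hy.1, ?_⟩
  intro x hx h1 h2
  exact partner_fixed h hA hodd hx.1 (fun a ha => mem_centralizer_iff.mp hx.2 a ha) h1 h2

omit hodd in
theorem commutator_le : ⁅Q, A⁆ ≤ Q := by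
  rw [Subgroup.commutator_le]
  intro x hx a ha
  rw [commutatorElement_def, mul_assoc, mul_assoc, ← mul_assoc a]
  exact Q.mul_mem hx (hA a ha _ (Q.inv_mem hx))

omit hA hodd in
theorem conj_mem_commutator {r : G} (hr : r ∈ Q) {w : G} (hw : w ∈ ⁅Q, A⁆) :
    r * w * r⁻¹ ∈ ⁅Q, A⁆ := by
  have : ⁅Q, A⁆ ≤ (⁅Q, A⁆).comap (MulAut.conj r).toMonoidHom := by
    rw [Subgroup.commutator_le]
    intro x hx a ha
    show r * ⁅x, a⁆ * r⁻¹ ∈ ⁅Q, A⁆
    have e : r * ⁅x, a⁆ * r⁻¹ = ⁅r * x, a⁆ * ⁅r, a⁆⁻¹ := by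
      simp only [commutatorElement_def]; group
    rw [e]
    exact mul_mem (commutator_mem_commutator (Q.mul_mem hr hx) ha)
      (inv_mem (commutator_mem_commutator hr ha))
  exact this hw

omit hodd in
theorem commute_commutator {c : G} (hc : c ∈ Q ⊓ centralizer (A : Set G)) {w : G}
    (hw : w ∈ ⁅Q, A⁆) : c * w = w * c := by
  have key : ⁅Q, A⁆ ≤ centralizer ({c} : Set G) := by
    rw [Subgroup.commutator_le]
    intro x hx a ha
    rw [mem_centralizer_singleton_iff]
    have hca : c * a * c⁻¹ = a := by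
      rw [← mem_centralizer_iff.mp hc.2 a ha, mul_inv_cancel_right]
    suffices c * ⁅x, a⁆ * c⁻¹ = ⁅x, a⁆ from (mul_inv_eq_iff_eq_mul.mp this).symm
    have e : c * ⁅x, a⁆ * c⁻¹ =
        (c * x * c⁻¹) * (c * a * c⁻¹) * (c * x * c⁻¹)⁻¹ * (c * a * c⁻¹)⁻¹ := by
      simp only [commutatorElement_def]; group
    rw [e, hca]
    rcases h.conj c hc.1 x hx with e' | e'
    · rw [e', commutatorElement_def]
    · have hxa : x * a * x⁻¹ * a⁻¹ ∈ Q := by
        rw [mul_assoc, mul_assoc, ← mul_assoc a]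
        exact Q.mul_mem hx (hA a ha _ (Q.inv_mem hx))
      have hz2 : z * (x * a * x⁻¹) * z⁻¹ = x * a * x⁻¹ := by
        apply mul_inv_eq_iff_eq_mul.mpr
        calc z * (x * a * x⁻¹) = (z * (x * a * x⁻¹ * a⁻¹)) * a := by group
          _ = (x * a * x⁻¹ * a⁻¹) * (z * a) := by rw [← h.comm _ hxa]; group
          _ = x * a * x⁻¹ * z := by rw [← comm_z h hA ha]; group
      rw [e', commutatorElement_def]
      calc z * x * a * (z * x)⁻¹ * a⁻¹ = z * (x * a * x⁻¹) * z⁻¹ * a⁻¹ := by group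
        _ = _ := by rw [hz2]
  exact (mem_centralizer_singleton_iff.mp (key hw)).symm

/-- `Q = C_Q(A) [Q,A]`, elementwise. -/
theorem decompose {y : G} (hy : y ∈ Q) :
    ∃ c ∈ Q ⊓ centralizer (A : Set G), ∃ w ∈ ⁅Q, A⁆, y = c * w := by
  obtain ⟨l, hlen, hl, hfix⟩ := exists_average h hA hodd y hy
  have key : ∀ l : List G, (∀ w ∈ l, ∃ a ∈ A, w = a * y * a⁻¹) →
      ∃ w ∈ ⁅Q, A⁆, l.prod = w * y ^ l.length := by
    intro l
    induction l with
    | nil => exact fun _ => ⟨1, one_mem _, by simp⟩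
    | cons u l ih =>
      intro hl
      obtain ⟨a, ha, rfl⟩ := hl u (List.mem_cons_self ..)
      obtain ⟨w, hw, e⟩ := ih fun v hv => hl v (List.mem_cons_of_mem _ hv)
      refine ⟨⁅y, a⁆⁻¹ * (y * w * y⁻¹), mul_mem (inv_mem (commutator_mem_commutator hy ha))
        (conj_mem_commutator h hy hw), ?_⟩
      rw [List.prod_cons, e, List.length_cons, pow_succ', commutatorElement_def]
      group
  obtain ⟨w, hw, e⟩ := key l hl
  have hc : l.prod ∈ Q ⊓ centralizer (A : Set G) := by
    refine ⟨Q.list_prod_mem fun u hu => ?_, mem_centralizer_iff.mpr fun a ha => hfix a ha⟩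
    obtain ⟨a, ha, rfl⟩ := hl u hu
    exact hA a ha y hy
  have hzc : z ∈ Q ⊓ centralizer (A : Set G) := (ext_centralizer h hA hodd).mem
  rw [hlen] at e
  rcases pow_odd h hy hodd with e' | e' <;> rw [e'] at e
  · refine ⟨l.prod, hc, w⁻¹, inv_mem hw, ?_⟩
    rw [commute_commutator h hA hc (inv_mem hw), e, inv_mul_cancel_left]
  · refine ⟨z * l.prod, mul_mem hzc hc, w⁻¹, inv_mem hw, ?_⟩
    rw [mul_assoc, commute_commutator h hA hc (inv_mem hw), e, inv_mul_cancel_left, h.z_mul_z_mul]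

theorem ext_commutator (hzW : z ∈ ⁅Q, A⁆) : Ext ⁅Q, A⁆ z := by
  have hle := commutator_le h hA
  refine ⟨hzW, h.ne_one, h.zz, fun x hx => h.comm x (hle hx), fun x hx => h.sq x (hle hx),
    fun x hx y hy => h.conj x (hle hx) y (hle hy), ?_⟩
  intro x hx h1 h2
  obtain ⟨y, hy, ey⟩ := h.partner x (hle hx) h1 h2
  obtain ⟨c, hc, w, hw, rfl⟩ := decompose h hA hodd hy
  refine ⟨w, hw, ?_⟩
  rcases h.conj w (hle hw) x (hle hx) with e | e
  · exfalso
    apply h.z_mul_ne x
    rw [← ey]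
    calc c * w * x * (c * w)⁻¹ = c * (w * x * w⁻¹) * c⁻¹ := by group
      _ = x := by rw [e, commute_commutator h hA hc hx, mul_inv_cancel_right]
  · exact e

end action

end Cfsg.Agent.LargeExtraspecialAct
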