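import Mathlib
import Cfsg.Agent.Lib.LargeExtraspecialAct

/-!
# Groups of Hall–Janko type: the five points

For a large extraspecial subgroup `Q` of order `32` whose centraliser `H = C_G(z)` has `H / Q`
alternating of degree five and in which `z` is not weakly closed, the noncentral involutions of `Q`
form five pairs `{a p, z * a p}`, pairwise non-commuting, permuted by `H` as the even permutations
of five points.
-/

set_option autoImplicit false

namespace Cfsg.Agent.J2TypePoints79

open Subgroup Cfsg.Agent.LargeExtraspecial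

variable {G : Type*} [Group G] [Finite G]

/-- Hall–Janko type data. -/
structure Hyp (Q : Subgroup G) (z : G) : Prop where
  l : LHyp Q z
  cardQ : Nat.card Q = 32
  quot : ∃ f : ↥(centralizer ({z} : Set G)) →* ↥(alternatingGroup (Fin 5)),
    Function.Surjective f ∧ f.ker = Q.subgroupOf (centralizer ({z} : Set G))
  conjIn : ∃ g : G, g * z * g⁻¹ ∈ Q ∧ g * z * g⁻¹ ≠ z
  two : ∃ x y : G, orderOf x = 2 ∧ orderOf y = 2 ∧ ¬ IsConj x y

variable {Q : Subgroup G} {z : G}

theorem mem_H {h : G} : h ∈ centralizer ({z} : Set G) ↔ h * z = z * h :=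
  mem_centralizer_singleton_iff

theorem Q_le_H (hJ : Hyp Q z) : Q ≤ centralizer ({z} : Set G) := fun x hx =>
  mem_H.2 (hJ.l.comm x hx)

theorem card_H (hJ : Hyp Q z) : Nat.card ↥(centralizer ({z} : Set G)) = 1920 := by
  obtain ⟨f, hf, hk⟩ := hJ.quot
  have h1 : f.ker.index = 60 := by
    rw [index_ker, MonoidHom.range_eq_top.2 hf, card_top, nat_card_alternatingGroup]
    simp [Nat.factorial]
  rw [← card_mul_index f.ker, h1, hk,
    Nat.card_congr (subgroupOfEquivOfLe (Q_le_H hJ)).toEquiv, hJ.cardQ]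

theorem norm_Q (hJ : Hyp Q z) {h : G} (hh : h * z = z * h) :
    ∀ x ∈ Q, h * x * h⁻¹ ∈ Q := hJ.l.norm h hh

/-- Five points. -/
structure Pts (Q : Subgroup G) (z : G) (a : Fin 5 → G) : Prop where
  mem : ∀ p, a p ∈ Q
  sq : ∀ p, a p * a p = 1
  conj : ∀ p, IsConj z (a p)
  inv_cases : ∀ x ∈ Q, x * x = 1 → x = 1 ∨ x = z ∨ ∃ p, x = a p ∨ x = z * a p
  anti : ∀ p q, p ≠ q → a p * a q * (a p)⁻¹ = z * a q
  ne : ∀ p, a p ≠ 1 ∧ a p ≠ z

omit [Finite G] in
theorem Pts.inv_self {a : Fin 5 → G} (P : Pts Q z a) (p : Fin 5) : (a p)⁻¹ = a p :=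
  inv_eq_of_mul_eq_one_right (P.sq p)

/-- The noncentral involutions of `Q` number ten or eighteen. -/
theorem count_invol (h : Ext Q z) (hcard : Nat.card Q = 32) :
    Nat.card {x : Q // (x : G) * x = 1 ∧ (x : G) ≠ 1 ∧ (x : G) ≠ z} = 10 ∨
      Nat.card {x : Q // (x : G) * x = 1 ∧ (x : G) ≠ 1 ∧ (x : G) ≠ z} = 18 := by
  classical
  haveI : Fintype Q := Fintype.ofFinite _
  have hzz : ∀ x : G, z * x ≠ x := h.z_mul_ne
  let f : Q → ℤ := fun x => if (x : G) * x = 1 then 1 else -1
  let e : Q → Q → ℤ := fun u x => if (u : G) * x = x * u then 1 else -1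
  have hff : ∀ u x : Q, f (x * u) = f x * f u * e u x := by
    intro u x
    have hk : ∀ w : G, z * w = 1 ↔ w = z := fun w =>
      ⟨fun e => (eq_inv_of_mul_eq_one_right e).trans h.inv_z, fun e => by rw [e, h.zz]⟩
    have hne : (1 : G) ≠ z := fun e => h.ne_one e.symm
    have hxu : ((x * u : Q) : G) * (x * u : Q) = (x : G) * ((u : G) * x) * u := by
      rw [Subgroup.coe_mul]; group
    simp only [f, e, hxu]
    by_cases hc : (u : G) * x = x * u
    · rw [if_pos hc, hc, show (x : G) * (x * u) * u = (x * x) * (u * u) by group]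
      rcases h.sq x x.2 with ex | ex <;> rcases h.sq u u.2 with eu | eu <;>
        simp [ex, eu, h.zz, hne, hne.symm]
    · have e1 := mul_inv_eq_iff_eq_mul.1 ((h.not_comm_iff x.2 u.2).1 hc)
      rw [if_neg hc, e1, show (x : G) * (z * x * u) * u = (x * z) * x * (u * u) by group,
        h.comm x x.2, show z * (x : G) * x * (u * u) = z * ((x * x) * (u * u)) by group]
      rcases h.sq x x.2 with ex | ex <;> rcases h.sq u u.2 with eu | eu <;>
        simp [ex, eu, h.zz, hne, hne.symm]
  have hf2 : ∀ x : Q, f x * f x = 1 := fun x => by simp only [f]; split_ifs <;> norm_num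
  have he : ∀ u : Q, (u : G) ≠ 1 → (u : G) ≠ z → ∑ x : Q, e u x = 0 := by
    intro u h1 h2
    obtain ⟨y, hy, ey⟩ := h.partner u u.2 h1 h2
    have key : ∀ x : Q, e u ((⟨y, hy⟩ : Q) * x) = -e u x := by
      intro x
      have hu : (u : G) * y = z * y * u := by
        have := mul_inv_eq_iff_eq_mul.1 ey
        calc (u : G) * y = z * (z * (u : G) * y) := by
              rw [show z * (z * (u : G) * y) = z * z * u * y by group, h.zz, one_mul]
          _ = z * (y * u) := by rw [← this]
          _ = z * y * u := by rw [mul_assoc]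
      simp only [e, Subgroup.coe_mul]
      rcases h.conj (u : G) u.2 x x.2 with ex | ex
      · rw [mul_inv_eq_iff_eq_mul] at ex
        rw [if_pos ex, if_neg]
        intro e'
        refine hzz (y * x * u) ?_
        calc z * (y * x * u) = z * y * (x * u) := by group
          _ = z * y * u * x := by rw [← ex]; group
          _ = u * y * x := by rw [← hu]
          _ = y * x * u := by rw [← e']; group
      · rw [mul_inv_eq_iff_eq_mul] at ex
        rw [if_pos, if_neg (fun e' => hzz (x * u) (by rw [← mul_assoc, ← ex, e'])), neg_neg]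
        calc (u : G) * (y * x) = z * y * (u * x) := by rw [← mul_assoc, hu]; group
          _ = z * (y * z) * (x * u) := by rw [ex]; group
          _ = y * x * u := by rw [h.comm y hy, h.z_mul_z_mul, mul_assoc]
    have h3 : ∑ x : Q, e u x = ∑ x : Q, -e u x :=
      (Fintype.sum_equiv (Equiv.mulLeft (⟨y, hy⟩ : Q)) _ _ fun x => by
        simp only [Equiv.coe_mulLeft]; rw [key x]).symm
    rw [Finset.sum_neg_distrib] at h3
    omega
  have hcent : ∀ u : Q, (u : G) = 1 ∨ (u : G) = z → f u = 1 ∧ ∀ x : Q, e u x = 1 := by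
    rintro u (hu | hu)
    · simp [f, e, hu]
    · refine ⟨by simp [f, hu, h.zz], fun x => ?_⟩
      simp only [e, hu]
      rw [if_pos (h.comm x x.2).symm]
  have hS : (∑ x : Q, f x) * (∑ x : Q, f x) = 64 := by
    have h1 : (∑ x : Q, f x) * (∑ x : Q, f x) = ∑ u : Q, f u * ∑ x : Q, e u x := by
      rw [Finset.sum_mul_sum]
      calc ∑ x : Q, ∑ w : Q, f x * f w = ∑ x : Q, ∑ u : Q, f x * f (x * u) :=
            Finset.sum_congr rfl fun x _ =>
              (Fintype.sum_equiv (Equiv.mulLeft x) _ _ fun u => by simp).symm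
        _ = ∑ u : Q, ∑ x : Q, f x * f (x * u) := Finset.sum_comm
        _ = _ := Finset.sum_congr rfl fun u _ => by
            rw [Finset.mul_sum]
            refine Finset.sum_congr rfl fun x _ => ?_
            rw [hff, show f x * (f x * f u * e u x) = f x * f x * (f u * e u x) by ring, hf2, one_mul]
    let z₁ : Q := ⟨z, h.mem⟩
    have h2 : ∀ u ∉ ({1, z₁} : Finset Q), f u * ∑ x : Q, e u x = 0 := by
      intro u hu
      simp only [Finset.mem_insert, Finset.mem_singleton, not_or] at hu
      rw [he u (fun e => hu.1 (Subtype.ext e)) (fun e => hu.2 (Subtype.ext e)), mul_zero]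
    have h32 : Fintype.card Q = 32 := by rw [← Nat.card_eq_fintype_card, hcard]
    rw [h1, ← Finset.sum_subset (Finset.subset_univ ({1, z₁} : Finset Q)) fun u _ hu => h2 u hu,
      Finset.sum_pair (fun e => h.ne_one (congrArg Subtype.val e).symm)]
    simp [(hcent 1 (Or.inl rfl)).1, (hcent 1 (Or.inl rfl)).2, (hcent z₁ (Or.inr rfl)).1,
      (hcent z₁ (Or.inr rfl)).2, h32]
  set n := (Finset.univ.filter fun x : Q => (x : G) * x = 1).card with hn
  have hsum : ∑ x : Q, f x = 2 * (n : ℤ) - 32 := by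
    have : ∀ x : Q, f x = 2 * (if (x : G) * x = 1 then 1 else 0) - 1 := fun x => by
      simp only [f]; split_ifs <;> norm_num
    simp only [this, Finset.sum_sub_distrib, ← Finset.mul_sum, Finset.sum_boole,
      Finset.sum_const, Finset.card_univ, ← Nat.card_eq_fintype_card, hcard]
    rw [hn]; norm_num
  have hn2 : n = Nat.card {x : Q // (x : G) * x = 1 ∧ (x : G) ≠ 1 ∧ (x : G) ≠ z} + 2 := by
    have h1 : (Finset.univ.filter fun x : Q => (x : G) * x = 1) =
        (Finset.univ.filter fun x : Q => (x : G) * x = 1 ∧ (x : G) ≠ 1 ∧ (x : G) ≠ z) ∪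
          {1, ⟨z, h.mem⟩} := by
      ext x
      simp only [Finset.mem_filter, Finset.mem_univ, true_and, Finset.mem_union,
        Finset.mem_insert, Finset.mem_singleton]
      constructor
      · intro hx
        by_cases h1 : (x : G) = 1
        · exact Or.inr (Or.inl (Subtype.ext h1))
        · by_cases h2 : (x : G) = z
          · exact Or.inr (Or.inr (Subtype.ext h2))
          · exact Or.inl ⟨hx, h1, h2⟩
      · rintro (hx | rfl | rfl)
        exacts [hx.1, by simp, h.zz]
    rw [hn, h1, Finset.card_union_of_disjoint, Finset.card_pair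
      (fun e => h.ne_one (congrArg Subtype.val e).symm), Nat.card_eq_fintype_card,
      Fintype.card_subtype]
    rw [Finset.disjoint_left]
    rintro x hx hx'
    simp only [Finset.mem_filter, Finset.mem_univ, true_and] at hx
    simp only [Finset.mem_insert, Finset.mem_singleton] at hx'
    rcases hx' with rfl | rfl
    exacts [hx.2.1 rfl, hx.2.2 rfl]
  rw [hsum] at hS
  have h8 : n = 12 ∨ n = 20 := by
    have h3 : ((n : ℤ) - 12) * ((n : ℤ) - 20) = 0 := by linarith
    rcases mul_eq_zero.1 h3 with e | e <;> omega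
  omega

/-- An element of order five in `C(z)` centralises only `1` and `z` in `Q`. -/
theorem fix_five (hJ : Hyp Q z) {c : G} (hc : orderOf c = 5) (hcz : c * z = z * c) :
    ∀ x ∈ Q, c * x = x * c → x = 1 ∨ x = z := by
  classical
  haveI : Fact (Nat.Prime 5) := ⟨by norm_num⟩
  let F : Subgroup G := Q ⊓ centralizer ({c} : Set G)
  have hFQ : F ≤ Q := inf_le_left
  have hcQ : c ∈ normalizer (Q : Set G) := hJ.l.mem_normalizer hcz
  have hne : F ≠ Q := by
    intro e
    rcases hJ.l.cent c fun x hx => (mem_centralizer_singleton_iff.1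
      ((e.symm ▸ hx : x ∈ F).2)).symm with e' | e'
    · rw [e', orderOf_one] at hc; omega
    · rw [e', hJ.l.orderOf_z] at hc; omega
  have hzF : z ∈ F := ⟨hJ.l.mem, mem_centralizer_singleton_iff.2 hcz.symm⟩
  have hmod : Nat.card Q % 5 = Nat.card F % 5 := by
    let A : Subgroup G := zpowers c
    have hA : IsPGroup 5 A := IsPGroup.of_card (n := 1) (by rw [Nat.card_zpowers, hc, pow_one])
    have hAQ : A ≤ normalizer (Q : Set G) := zpowers_le.2 hcQ
    letI : MulAction A Q :=
      { smul := fun g x => ⟨(g : G) * x * (g : G)⁻¹, (mem_normalizer_iff.1 (hAQ g.2) _).1 x.2⟩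
        one_smul := fun x => Subtype.ext (by
          show ((1 : A) : G) * x * ((1 : A) : G)⁻¹ = x; simp)
        mul_smul := fun g h x => Subtype.ext (by
          show ((g * h : A) : G) * x * ((g * h : A) : G)⁻¹ =
            (g : G) * ((h : G) * x * (h : G)⁻¹) * (g : G)⁻¹
          rw [Subgroup.coe_mul]; group) }
    have e := hA.card_modEq_card_fixedPoints Q
    have hfix : Nat.card (MulAction.fixedPoints A Q) = Nat.card F := by
      refine Nat.card_congr
        { toFun := fun x => ⟨(x.1 : G), x.1.2, mem_centralizer_singleton_iff.2 ?_⟩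
          invFun := fun x => ⟨⟨x.1, hFQ x.2⟩, fun g => Subtype.ext ?_⟩
          left_inv := fun x => rfl
          right_inv := fun x => rfl }
      · have h1 : c * (x.1 : G) * c⁻¹ = x.1 :=
          congrArg Subtype.val (x.2 ⟨c, mem_zpowers c⟩)
        exact (mul_inv_eq_iff_eq_mul.1 h1).symm
      · show (g : G) * x.1 * (g : G)⁻¹ = x.1
        obtain ⟨i, hi⟩ := g.2
        have hcx : Commute c x.1 := (mem_centralizer_singleton_iff.1 x.2.2).symm
        rw [← hi]
        exact mul_inv_eq_iff_eq_mul.2 (hcx.zpow_left i).eq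
    rw [hfix] at e
    exact e
  have hdvd : Nat.card F ∣ 2 ^ 5 := by
    rw [show 2 ^ 5 = Nat.card Q by rw [hJ.cardQ]; rfl]; exact card_dvd_of_le hFQ
  obtain ⟨k, hk, hk'⟩ := (Nat.dvd_prime_pow Nat.prime_two).1 hdvd
  have hF2 : Nat.card F = 2 := by
    rw [hJ.cardQ, hk'] at hmod
    interval_cases k <;> first | (rw [hk']; rfl) | omega | skip
    exact absurd (eq_of_le_of_card_ge hFQ (by rw [hk', hJ.cardQ]; rfl)) hne
  intro x hxQ hxc
  have hzle : zpowers z = F := eq_of_le_of_card_ge (zpowers_le.2 hzF)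
    (by rw [hF2, Nat.card_zpowers, hJ.l.orderOf_z])
  exact hJ.l.eq_of_mem_zpowers (hzle ▸ ⟨hxQ, mem_centralizer_singleton_iff.2 hxc.symm⟩)

/-- The five points exist. -/
theorem exists_pts (hJ : Hyp Q z) :
    ∃ (a : Fin 5 → G) (c : G), Pts Q z a ∧ orderOf c = 5 ∧ c * z = z * c ∧
      ∀ p, c * a p * c⁻¹ = a (p + 1) := by
  classical
  haveI : Fact (Nat.Prime 5) := ⟨by norm_num⟩
  have h := hJ.l
  obtain ⟨c₀, hc₀⟩ := exists_prime_orderOf_dvd_card' (G := ↥(centralizer ({z} : Set G))) 5
    (by rw [card_H hJ]; norm_num)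
  set c : G := (c₀ : G)
  have hc : orderOf c = 5 := by rw [Subgroup.orderOf_coe]; exact hc₀
  have hcz : c * z = z * c := mem_H.1 c₀.2
  have hfix := fix_five hJ hc hcz
  obtain ⟨g, hgQ, hgz⟩ := hJ.conjIn
  set w := g * z * g⁻¹
  have hww : w * w = 1 := by
    show g * z * g⁻¹ * (g * z * g⁻¹) = 1
    rw [show g * z * g⁻¹ * (g * z * g⁻¹) = g * (z * z) * g⁻¹ by group, h.zz]; group
  have hw1 : w ≠ 1 := fun e => h.ne_one (conj_eq_one_iff.1 e)
  let a : Fin 5 → G := fun p => c ^ (p : ℕ) * w * (c ^ (p : ℕ))⁻¹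
  have hpz : ∀ n : ℕ, c ^ n * z = z * c ^ n := fun n => ((show Commute c z from hcz).pow_left n).eq
  have hmem : ∀ p, a p ∈ Q := fun p => h.norm _ (hpz p) w hgQ
  have hsq : ∀ p, a p * a p = 1 := fun p => by
    show c ^ (p : ℕ) * w * (c ^ (p : ℕ))⁻¹ * (c ^ (p : ℕ) * w * (c ^ (p : ℕ))⁻¹) = 1
    rw [show c ^ (p : ℕ) * w * (c ^ (p : ℕ))⁻¹ * (c ^ (p : ℕ) * w * (c ^ (p : ℕ))⁻¹) =
      c ^ (p : ℕ) * (w * w) * (c ^ (p : ℕ))⁻¹ by group, hww]; group
  have hne : ∀ p, a p ≠ 1 ∧ a p ≠ z := fun p => by
    refine ⟨fun e => hw1 (conj_eq_one_iff.1 e), fun e => hgz ?_⟩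
    have e' := mul_inv_eq_iff_eq_mul.1 e
    rw [← hpz] at e'
    exact mul_left_cancel e'
  have hstep : ∀ p, c * a p * c⁻¹ = a (p + 1) := by
    intro p
    show c * (c ^ (p : ℕ) * w * (c ^ (p : ℕ))⁻¹) * c⁻¹ =
      c ^ ((p + 1 : Fin 5) : ℕ) * w * (c ^ ((p + 1 : Fin 5) : ℕ))⁻¹
    have h1 : c ^ ((p + 1 : Fin 5) : ℕ) = c ^ ((p : ℕ) + 1) := by
      rw [pow_eq_pow_iff_modEq, hc, Fin.val_add]
      exact Nat.mod_modEq _ _
    rw [h1, pow_succ']; group
  have hshift : ∀ (r p : Fin 5), c ^ (r : ℕ) * a p * (c ^ (r : ℕ))⁻¹ = a (p + r) := by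
    intro r p
    show c ^ (r : ℕ) * (c ^ (p : ℕ) * w * (c ^ (p : ℕ))⁻¹) * (c ^ (r : ℕ))⁻¹ =
      c ^ ((p + r : Fin 5) : ℕ) * w * (c ^ ((p + r : Fin 5) : ℕ))⁻¹
    have h1 : c ^ ((p + r : Fin 5) : ℕ) = c ^ ((r : ℕ) + (p : ℕ)) := by
      rw [pow_eq_pow_iff_modEq, hc, Fin.val_add, add_comm (r : ℕ)]
      exact Nat.mod_modEq _ _
    rw [h1, pow_add]; group
  -- distinct modulo the centre
  have hdist : ∀ p q, p ≠ q → a p ≠ a q ∧ a p ≠ z * a q := by
    intro p q hpq
    have h0 : a p ≠ a q ∧ a p ≠ z * a q := by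
      by_contra hcon
      have hfm : a p = a q ∨ a p = z * a q := by tauto
      have hd : ∀ m : ℕ, orderOf (c ^ ((q - p : Fin 5) : ℕ)) = m → m = 5 := by
        intro m hm
        rw [← hm]
        refine (Nat.Coprime.orderOf_pow ?_).trans hc
        rw [hc]
        refine (Nat.Prime.coprime_iff_not_dvd (by norm_num)).2 fun hdvd => hpq ?_
        have : ((q - p : Fin 5) : ℕ) = 0 := Nat.eq_zero_of_dvd_of_lt hdvd (q - p).isLt
        exact (sub_eq_zero.1 (Fin.ext this)).symm
      have hd5 := hd _ rfl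
      set d := c ^ ((q - p : Fin 5) : ℕ)
      have hdz : d * z = z * d := hpz _
      have hmove : d * a p * d⁻¹ = a q := by rw [hshift, add_sub_cancel]
      have hcom : d * a p = a p * d := by
        refine LargeExtraspecialAct.fix_of_fix_mod h.toExt (n := 5) (by decide)
          (by rw [← hd5, pow_orderOf_eq_one]) hdz ?_
        rcases hfm with e | e
        · exact Or.inl (hmove.trans e.symm)
        · refine Or.inr (hmove.trans ?_)
          rw [e, h.z_mul_z_mul]
      rcases fix_five hJ hd5 hdz (a p) (hmem p) hcom with e | e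
      exacts [(hne p).1 e, (hne p).2 e]
    exact h0
  -- exhaustion
  have hcases : ∀ x ∈ Q, x * x = 1 → x = 1 ∨ x = z ∨ ∃ p, x = a p ∨ x = z * a p := by
    haveI : Fintype Q := Fintype.ofFinite _
    let ι : Fin 5 × Bool → {x : Q // (x : G) * x = 1 ∧ (x : G) ≠ 1 ∧ (x : G) ≠ z} := fun pb =>
      if pb.2 then ⟨⟨z * a pb.1, Q.mul_mem h.mem (hmem _)⟩, by
        refine ⟨?_, fun e => (hne pb.1).2 ?_, fun e => (hne pb.1).1 ?_⟩
        · show z * a pb.1 * (z * a pb.1) = 1
          rw [← mul_assoc, mul_assoc z (a pb.1) z, h.comm _ (hmem _), h.z_mul_z_mul, hsq]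
        · rw [eq_inv_of_mul_eq_one_right e, h.inv_z]
        · exact mul_eq_left.1 e⟩
      else ⟨⟨a pb.1, hmem _⟩, hsq _, hne _⟩
    have hιv : ∀ pb, (((ι pb) : Q) : G) = if pb.2 then z * a pb.1 else a pb.1 := by
      intro pb; simp only [ι]; split_ifs <;> rfl
    have hinj : Function.Injective ι := by
      rintro ⟨p, b⟩ ⟨q, b'⟩ e
      have e' : (((ι (p, b)) : Q) : G) = (((ι (q, b')) : Q) : G) := by rw [e]
      simp only [hιv] at e'
      by_cases hpq : p = q
      · subst hpq
        rcases b <;> rcases b' <;> simp only [Bool.false_eq_true, if_false, if_true] at e'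
        exacts [rfl, absurd e'.symm (h.z_mul_ne _), absurd e' (h.z_mul_ne _), rfl]
      · obtain ⟨n1, n2⟩ := hdist p q hpq
        exfalso
        rcases b <;> rcases b' <;> simp only [Bool.false_eq_true, if_false, if_true] at e'
        · exact n1 e'
        · exact n2 e'
        · exact n2 (by rw [← e', h.z_mul_z_mul])
        · exact n1 (mul_left_cancel e')
    have hle := Nat.card_le_card_of_injective ι hinj
    have hdvd : 5 ∣ Nat.card {x : Q // (x : G) * x = 1 ∧ (x : G) ≠ 1 ∧ (x : G) ≠ z} := by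
      set X := {x : Q // (x : G) * x = 1 ∧ (x : G) ≠ 1 ∧ (x : G) ≠ z}
      let A : Subgroup G := zpowers c
      have hA : IsPGroup 5 A := IsPGroup.of_card (n := 1) (by rw [Nat.card_zpowers, hc, pow_one])
      have hAz : ∀ g : A, (g : G) * z = z * (g : G) := fun g => by
        obtain ⟨i, hi⟩ := g.2
        rw [← hi]
        exact ((show Commute c z from hcz).zpow_left i).eq
      letI : MulAction A X :=
        { smul := fun g x => ⟨⟨(g : G) * x.1 * (g : G)⁻¹, h.norm _ (hAz g) _ x.1.2⟩, by
            obtain ⟨x1, x2, x3⟩ := x.2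
            refine ⟨?_, fun e => x2 (conj_eq_one_iff.1 e), fun e => x3 ?_⟩
            · show (g : G) * x.1 * (g : G)⁻¹ * ((g : G) * x.1 * (g : G)⁻¹) = 1
              rw [show (g : G) * x.1 * (g : G)⁻¹ * ((g : G) * x.1 * (g : G)⁻¹) =
                (g : G) * ((x.1 : G) * x.1) * (g : G)⁻¹ by group, x1]; group
            · have e' := mul_inv_eq_iff_eq_mul.1 e
              rw [← hAz g] at e'
              exact mul_left_cancel e'⟩
          one_smul := fun x => Subtype.ext (Subtype.ext (by
            show ((1 : A) : G) * x.1 * ((1 : A) : G)⁻¹ = x.1; simp))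
          mul_smul := fun g g' x => Subtype.ext (Subtype.ext (by
            show ((g * g' : A) : G) * x.1 * ((g * g' : A) : G)⁻¹ =
              (g : G) * ((g' : G) * x.1 * (g' : G)⁻¹) * (g : G)⁻¹
            rw [Subgroup.coe_mul]; group)) }
      have e := hA.card_modEq_card_fixedPoints X
      have h0 : Nat.card (MulAction.fixedPoints A X) = 0 := by
        rw [Nat.card_eq_zero]
        refine Or.inl ⟨fun x => ?_⟩
        have h1 : c * (x.1.1 : G) * c⁻¹ = x.1.1 :=
          congrArg (fun t : X => ((t : Q) : G)) (x.2 ⟨c, mem_zpowers c⟩)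
        rcases hfix _ x.1.1.2 (mul_inv_eq_iff_eq_mul.1 h1) with e' | e'
        exacts [x.1.2.2.1 e', x.1.2.2.2 e']
      rw [h0] at e
      exact Nat.modEq_zero_iff_dvd.1 e
    rcases count_invol h.toExt hJ.cardQ with e10 | e18
    · have hbij : Function.Bijective ι := (Nat.bijective_iff_injective_and_card ι).2 ⟨hinj, by
        rw [e10, Nat.card_eq_fintype_card]; rfl⟩
      intro x hx hxx
      by_cases h1 : x = 1
      · exact Or.inl h1
      by_cases h2 : x = z
      · exact Or.inr (Or.inl h2)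
      obtain ⟨⟨p, b⟩, hpb⟩ := hbij.2 ⟨⟨x, hx⟩, hxx, h1, h2⟩
      refine Or.inr (Or.inr ⟨p, ?_⟩)
      have : (((ι (p, b)) : Q) : G) = x := by rw [hpb]
      simp only [hιv] at this
      rcases b <;> simp only [Bool.false_eq_true, if_false, if_true] at this
      exacts [Or.inl this.symm, Or.inr this.symm]
    · rw [e18] at hdvd; omega
  -- pairwise non-commuting
  have hclass : ∀ p q, a p * a q = a q * a p → p ≠ q →
      ∃ r, r ≠ p ∧ r ≠ q ∧ a p * a r = a r * a p ∧ a q * a r = a r * a q := by
    intro p q hpq hne'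
    have hprod : a p * a q * (a p * a q) = 1 := by
      rw [show a p * a q * (a p * a q) = a p * (a q * a p) * a q by group, ← hpq,
        show a p * (a p * a q) * a q = (a p * a p) * (a q * a q) by group, hsq, hsq, one_mul]
    rcases hcases _ (Q.mul_mem (hmem p) (hmem q)) hprod with e | e | ⟨r, hr⟩
    · refine absurd ?_ (hdist p q hne').1
      rw [eq_inv_of_mul_eq_one_left e, inv_eq_of_mul_eq_one_right (hsq q)]
    · refine absurd ?_ (hdist p q hne').2
      rw [← e, mul_assoc, hsq, mul_one]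
    · have c1 : a p * (a p * a q) = (a p * a q) * a p := by
        rw [mul_assoc (a p) (a q) (a p), ← hpq]
      have c2 : a q * (a p * a q) = (a p * a q) * a q := by
        rw [← mul_assoc, ← hpq]
      have hr1 : r ≠ p := by
        rintro rfl
        rcases hr with e | e
        · exact (hne q).1 (mul_eq_left.1 e)
        · rw [← h.comm _ (hmem _)] at e
          exact (hne q).2 (mul_left_cancel e)
      have hr2 : r ≠ q := by
        rintro rfl
        rcases hr with e | e
        · exact (hne p).1 (mul_eq_right.1 e)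
        · exact (hne p).2 (mul_right_cancel e)
      refine ⟨r, hr1, hr2, ?_⟩
      rcases hr with e | e
      · rw [e] at c1 c2; exact ⟨c1, c2⟩
      · rw [e] at c1 c2
        have cc : ∀ u ∈ Q, ∀ v : G, u * (z * v) = z * v * u → u * v = v * u := fun u hu v e =>
          mul_left_cancel (a := z) (by rw [← mul_assoc, ← h.comm u hu, mul_assoc, e, mul_assoc])
        exact ⟨cc _ (hmem p) _ c1, cc _ (hmem q) _ c2⟩
  have hshiftc : ∀ r p q : Fin 5, a p * a q = a q * a p →
      a (p + r) * a (q + r) = a (q + r) * a (p + r) := by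
    intro r p q e
    rw [← hshift r p, ← hshift r q]
    calc _ = c ^ (r : ℕ) * (a p * a q) * (c ^ (r : ℕ))⁻¹ := by group
      _ = _ := by rw [e]; group
  have hanti : ∀ p q, p ≠ q → a p * a q ≠ a q * a p := by
    intro p q hpq hcom
    let R : Fin 5 → Prop := fun d => a 0 * a d = a d * a 0
    have hR : ∀ p q, a p * a q = a q * a p → R (q - p) := fun p q e => by
      have := hshiftc (-p) p q e
      rwa [add_neg_cancel, ← sub_eq_add_neg] at this
    have hRneg : ∀ d, R d → R (-d) := fun d e => by simpa using hR d 0 e.symm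
    have hRe : ∀ d, d ≠ 0 → R d → ∃ e, e ≠ 0 ∧ e ≠ d ∧ R e ∧ R (e - d) := by
      intro d hd e
      obtain ⟨r, r1, r2, e1, e2⟩ := hclass 0 d e (Ne.symm hd)
      exact ⟨r, r1, r2, e1, hR d r e2⟩
    have key : ∀ S : Fin 5 → Bool, (∀ d, S d = true → S (-d) = true) →
        (∀ d, d ≠ 0 → S d = true → ∃ e, e ≠ 0 ∧ e ≠ d ∧ S e = true ∧ S (e - d) = true) →
        (∃ d, d ≠ 0 ∧ S d = true) → ∀ d, d ≠ 0 → S d = true := by decide
    have hall0 : ∀ d : Fin 5, d ≠ 0 → R d := by
      intro d hd
      have := key (fun d => decide (R d)) (fun d hd => by simpa using hRneg d (by simpa using hd))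
        (fun d h0 hd => by simpa using hRe d h0 (by simpa using hd))
        ⟨q - p, sub_ne_zero.2 (Ne.symm hpq), by simpa using hR p q hcom⟩ d hd
      simpa using this
    have hall : ∀ p q, a p * a q = a q * a p := by
      intro p q
      by_cases e : p = q
      · rw [e]
      · have := hshiftc p 0 (q - p) (hall0 _ (sub_ne_zero.2 (Ne.symm e)))
        rwa [zero_add, sub_add_cancel] at this
    -- the square-one elements would form a subgroup of order twelve
    let Z : Subgroup G := Q ⊓ centralizer ((insert z (Set.range a) : Set G))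
    have hall' : ∀ x ∈ Q, x * x = 1 → x ∈ Z := by
      intro x hx hxx
      refine ⟨hx, mem_centralizer_iff.2 fun y hy => ?_⟩
      rcases hy with rfl | ⟨r, rfl⟩
      · exact (h.comm x hx).symm
      · rcases hcases x hx hxx with rfl | rfl | ⟨p, rfl | rfl⟩
        · simp
        · exact h.comm _ (hmem r)
        · exact hall r p
        · rw [← mul_assoc, h.comm _ (hmem r), mul_assoc, hall r p, ← mul_assoc]
    let S : Subgroup G :=
      { carrier := {x | x ∈ Q ∧ x * x = 1}
        mul_mem' := by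
          rintro x y ⟨hx, hxx⟩ ⟨hy, hyy⟩
          refine ⟨Q.mul_mem hx hy, ?_⟩
          have hcxy : y * x = x * y := by
            rcases hcases y hy hyy with rfl | rfl | ⟨p, rfl | rfl⟩
            · simp
            · exact (h.comm x hx).symm
            · exact (mem_centralizer_iff.1 (hall' x hx hxx).2 _ (Or.inr ⟨p, rfl⟩))
            · rw [mul_assoc, mem_centralizer_iff.1 (hall' x hx hxx).2 _ (Or.inr ⟨p, rfl⟩),
                ← mul_assoc, ← h.comm x hx, mul_assoc]
          rw [show x * y * (x * y) = x * (y * x) * y by group, hcxy,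
            show x * (x * y) * y = (x * x) * (y * y) by group, hxx, hyy, one_mul]
        one_mem' := ⟨Q.one_mem, one_mul 1⟩
        inv_mem' := by
          rintro x ⟨hx, hxx⟩
          rw [Set.mem_setOf_eq, inv_eq_of_mul_eq_one_right hxx]
          exact ⟨hx, hxx⟩ }
    have hS : Nat.card S ∣ 2 ^ 5 := by
      rw [show 2 ^ 5 = Nat.card Q by rw [hJ.cardQ]; rfl]
      exact card_dvd_of_le fun x hx => hx.1
    haveI : Fintype Q := Fintype.ofFinite _
    have h12 : Nat.card S = 12 ∨ Nat.card S = 20 := by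
      have h1 : Nat.card S = Nat.card {x : Q // (x : G) * x = 1} := Nat.card_congr
        { toFun := fun x => ⟨⟨x.1, x.2.1⟩, x.2.2⟩
          invFun := fun x => ⟨x.1.1, x.1.2, x.2⟩
          left_inv := fun x => rfl
          right_inv := fun x => rfl }
      have h2 : Nat.card {x : Q // (x : G) * x = 1} =
          Nat.card {x : Q // (x : G) * x = 1 ∧ (x : G) ≠ 1 ∧ (x : G) ≠ z} + 2 := by
        rw [Nat.card_eq_fintype_card, Nat.card_eq_fintype_card, Fintype.card_subtype,
          Fintype.card_subtype, ← Finset.card_pair (a := (1 : Q)) (b := ⟨z, h.mem⟩)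
            (fun e => h.ne_one (congrArg Subtype.val e).symm), ← Finset.card_union_of_disjoint]
        · congr 1
          ext x
          simp only [Finset.mem_filter, Finset.mem_univ, true_and, Finset.mem_union,
            Finset.mem_insert, Finset.mem_singleton]
          constructor
          · intro hx
            by_cases h1 : (x : G) = 1
            · exact Or.inr (Or.inl (Subtype.ext h1))
            · by_cases h2 : (x : G) = z
              · exact Or.inr (Or.inr (Subtype.ext h2))
              · exact Or.inl ⟨hx, h1, h2⟩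
          · rintro (hx | rfl | rfl)
            exacts [hx.1, by simp, h.zz]
        · rw [Finset.disjoint_left]
          rintro x hx hx'
          simp only [Finset.mem_filter, Finset.mem_univ, true_and] at hx
          simp only [Finset.mem_insert, Finset.mem_singleton] at hx'
          rcases hx' with rfl | rfl
          exacts [hx.2.1 rfl, hx.2.2 rfl]
      rcases count_invol h.toExt hJ.cardQ with e | e <;> omega
    obtain ⟨k, hk, hk'⟩ := (Nat.dvd_prime_pow Nat.prime_two).1 hS
    interval_cases k <;> omega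
  exact ⟨a, c, ⟨hmem, hsq, fun p => isConj_iff.2 ⟨c ^ (p : ℕ) * g, by
    show c ^ (p : ℕ) * g * z * (c ^ (p : ℕ) * g)⁻¹ =
      c ^ (p : ℕ) * (g * z * g⁻¹) * (c ^ (p : ℕ))⁻¹
    group⟩, hcases,
    fun p q hpq => (h.not_comm_iff (hmem q) (hmem p)).1 (hanti p q hpq), hne⟩, hc, hcz, hstep⟩

end Cfsg.Agent.J2TypePoints79
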