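import Mathlib
import Cfsg.Agent.Lib.AutL34Model54
import Cfsg.Agent.Lib.J2TypePoints79

/-!
# The frame of an involution centralizer `2^{1+4}.S₄` of minus type (towards S3237)

Four anticommuting involutions of the extraspecial subgroup and three lifts of adjacent
transpositions satisfy the relations of `Gens`, and the model maps bijectively onto the centralizer.
-/

set_option autoImplicit false
set_option linter.unusedSectionVars false

namespace Cfsg.Agent.AutL34Model54

open Subgroup Cfsg.Agent.LargeExtraspecial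

/-! ### tables -/

/-- Sign of the conjugation of the `A`-th product by the `j`-th involution. -/
def sgn (j A : ℕ) : Bool := Nat.beq (((ew A).countP fun i => !(Nat.beq (i - 3) j)) % 2) 1

/-- The subset of the `p`-th of the five points. -/
def pA : Fin 5 → ℕ := ![1, 2, 4, 8, 15]

/-- The action of a word on the four letters. -/
def wact (w : List ℕ) (j : ℕ) : ℕ := w.foldr gp j

theorem sgn_inj : ((List.range 16).all fun A => (List.range 16).all fun B =>
    Nat.beq A B || (List.range 4).any fun j => sgn j A != sgn j B) = true := by decide +kernel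

theorem sgn_surj : ∀ s0 s1 s2 s3 : Bool, ((List.range 16).any fun A =>
    sgn 0 A == s0 && sgn 1 A == s1 && sgn 2 A == s2 && sgn 3 A == s3) = true := by decide +kernel

theorem invol_table : ∀ A : Fin 16, (A : ℕ) ≠ 0 →
    (∀ j : Fin 4, sgn j A = true ∨ (A : ℕ) = 2 ^ (j : ℕ)) → ∃ p : Fin 5, (A : ℕ) = pA p := by
  decide +kernel

theorem pA_lt : ∀ p : Fin 5, pA p < 16 ∧ pA p ≠ 0 := by decide +kernel

theorem pA_inj : ∀ p q : Fin 5, pA p = pA q → p = q := by decide +kernel

theorem ew_single : ∀ j : Fin 4, ew (2 ^ (j : ℕ)) = [(j : ℕ) + 3] := by decide +kernel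

theorem pA_castSucc : ∀ j : Fin 4, pA j.castSucc = 2 ^ (j : ℕ) := by decide +kernel

theorem pw_small : ((List.range 24).all fun p => (pw p).all fun i => Nat.blt i 3) = true := by
  decide +kernel

theorem wact_inj : ((List.range 24).all fun p => (List.range 24).all fun q =>
    Nat.beq p q || (List.range 4).any fun j => wact (pw p) j != wact (pw q) j) = true := by
  decide +kernel

set_option synthInstance.maxSize 5000 in
set_option synthInstance.maxHeartbeats 400000 in
theorem swaps_of_relations : ∀ s₀ : Equiv.Perm (Fin 5), s₀ * s₀ = 1 →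
    ∀ s₁ : Equiv.Perm (Fin 5), s₁ * s₁ = 1 → s₀ * s₁ * s₀ = s₁ * s₀ * s₁ →
    ∀ s₂ : Equiv.Perm (Fin 5), s₂ * s₂ = 1 → s₁ * s₂ * s₁ = s₂ * s₁ * s₂ → s₀ * s₂ = s₂ * s₀ →
      s₀ ≠ s₂ → ∃ a b, a ≠ b ∧ s₀ = Equiv.swap a b ∧ ∃ c, c ≠ a ∧ c ≠ b ∧ s₁ = Equiv.swap b c ∧
        ∃ f, f ≠ a ∧ f ≠ b ∧ f ≠ c ∧ s₂ = Equiv.swap c f := by
  decide +kernel

/-! ### four anticommuting involutions -/

variable {G : Type*} [Group G] {Q : Subgroup G} {z : G}

/-- Four pairwise anticommuting noncentral involutions of `Q`. -/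
structure Quad (Q : Subgroup G) (z : G) (a : ℕ → G) : Prop where
  mem : ∀ j < 4, a j ∈ Q
  sq : ∀ j < 4, a j * a j = 1
  anti : ∀ i < 4, ∀ j < 4, i ≠ j → a i * a j = z * (a j * a i)

/-- The sign `b` as an element. -/
def zs (z : G) (b : Bool) : G := if b then z else 1

/-- The product of a subset of the four involutions. -/
def ap (a : ℕ → G) (A : ℕ) : G := ((ew A).map fun i => a (i - 3)).prod

theorem zs_mem (h : Ext Q z) (b : Bool) : zs z b ∈ Q := by
  cases b <;> simp [zs, h.mem, one_mem]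

theorem zs_comm (h : Ext Q z) (b : Bool) {x : G} (hx : x ∈ Q) : zs z b * x = x * zs z b := by
  cases b <;> simp [zs, h.comm x hx]

theorem zs_xor (h : Ext Q z) (a b : Bool) : zs z (xor a b) = zs z a * zs z b := by
  cases a <;> cases b <;> simp [zs, h.zz]

theorem zs_inj (h : Ext Q z) {a b : Bool} (e : zs z a = zs z b) : a = b := by
  cases a <;> cases b <;> simp [zs, h.ne_one, h.ne_one.symm] at e ⊢

theorem zs_cases (h : Ext Q z) {x y : G} : (x = y ∨ x = z * y) ↔ ∃ b, x = zs z b * y := by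
  constructor
  · rintro (e | e)
    exacts [⟨false, by simp [zs, e]⟩, ⟨true, by simp [zs, e]⟩]
  · rintro ⟨b, rfl⟩
    cases b <;> simp [zs]

theorem ew_mem {A i : ℕ} (hi : i ∈ ew A) : i - 3 < 4 := by
  have := (List.mem_filter.1 hi).1
  simp only [List.mem_cons, List.not_mem_nil, or_false] at this
  omega

namespace Quad

variable {a : ℕ → G}

theorem ap_mem (F : Quad Q z a) (A : ℕ) : ap a A ∈ Q :=
  Q.list_prod_mem fun x hx => by
    obtain ⟨i, hi, rfl⟩ := List.mem_map.1 hx
    exact F.mem _ (ew_mem hi)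

theorem flip_list (h : Ext Q z) (F : Quad Q z a) {j : ℕ} (hj : j < 4) :
    ∀ l : List ℕ, (∀ i ∈ l, i - 3 < 4) → a j * (l.map fun i => a (i - 3)).prod =
      zs z (Nat.beq ((l.countP fun i => !(Nat.beq (i - 3) j)) % 2) 1) *
        ((l.map fun i => a (i - 3)).prod * a j)
  | [], _ => by simp [zs]
  | i :: l, hl => by
    have hi := hl i List.mem_cons_self
    have ih := flip_list h F hj l fun k hk => hl k (List.mem_cons_of_mem i hk)
    simp only [List.map_cons, List.prod_cons, List.countP_cons]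
    set c := l.countP fun i => !(Nat.beq (i - 3) j)
    set P := (l.map fun i => a (i - 3)).prod
    by_cases e : i - 3 = j
    · have hb : Nat.beq (i - 3) j = true := by rw [e]; exact Nat.beq_refl j
      simp only [hb, Bool.not_true, Bool.false_eq_true, if_false, add_zero]
      rw [e]
      conv_lhs => rw [ih, ← mul_assoc (a j), ← zs_comm h _ (F.mem j hj), mul_assoc]
      simp only [mul_assoc]
    · have hb : Nat.beq (i - 3) j = false := by
        rw [Bool.eq_false_iff]
        exact fun h' => e (Nat.eq_of_beq_eq_true h')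
      simp only [hb, Bool.not_false, if_true]
      have hx : Nat.beq ((c + 1) % 2) 1 = !(Nat.beq (c % 2) 1) := by
        rcases Nat.mod_two_eq_zero_or_one c with h' | h' <;>
          simp [Nat.add_mod, h'] <;> rfl
      rw [hx, ← Bool.true_xor, zs_xor h, ← mul_assoc (a j), F.anti j hj _ hi fun e' => e e'.symm,
        mul_assoc z, mul_assoc (a (i - 3)), ih, ← mul_assoc (a (i - 3)),
        ← zs_comm h _ (F.mem _ hi)]
      simp [zs, mul_assoc]

theorem flip (h : Ext Q z) (F : Quad Q z a) {j : ℕ} (hj : j < 4) (A : ℕ) :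
    a j * ap a A = zs z (sgn j A) * (ap a A * a j) :=
  flip_list h F hj (ew A) fun _ hi => ew_mem hi

theorem uniq (h : Ext Q z) (F : Quad Q z a) {s t : Bool} {A B : ℕ} (hA : A < 16) (hB : B < 16)
    (e : zs z s * ap a A = zs z t * ap a B) : A = B ∧ s = t := by
  have hAB : A = B := by
    have h1 := all2_spec sgn_inj hA hB
    rw [Bool.or_eq_true] at h1
    rcases h1 with h2 | h2
    · exact Nat.eq_of_beq_eq_true h2
    obtain ⟨j, hj, hne⟩ := List.any_eq_true.1 h2
    rw [List.mem_range] at hj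
    exfalso
    refine (bne_iff_ne.1 hne) (zs_inj h ?_)
    have hx : ∀ (s : Bool) (A : ℕ), a j * (zs z s * ap a A) =
        zs z (sgn j A) * ((zs z s * ap a A) * a j) := fun s A => by
      rw [← mul_assoc, ← zs_comm h _ (F.mem j hj), mul_assoc, F.flip h hj, ← mul_assoc,
        zs_comm h _ (zs_mem h _)]
      simp only [mul_assoc]
    have h3 := hx s A
    rw [e, hx t B] at h3
    exact (mul_right_cancel h3).symm
  subst hAB
  exact ⟨rfl, zs_inj h (mul_right_cancel e)⟩

theorem exists_word [Finite G] (h : Ext Q z) (F : Quad Q z a) (hcard : Nat.card Q = 32) {x : G}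
    (hx : x ∈ Q) : ∃ s A, A < 16 ∧ x = zs z s * ap a A := by
  let f : Bool × Fin 16 → Q := fun r => ⟨zs z r.1 * ap a r.2, mul_mem (zs_mem h _) (F.ap_mem _)⟩
  have hf : Function.Injective f := fun r r' e => by
    obtain ⟨e1, e2⟩ := F.uniq h r.2.isLt r'.2.isLt (congrArg Subtype.val e)
    exact Prod.ext e2 (Fin.ext e1)
  obtain ⟨⟨s, A⟩, hr⟩ := ((Nat.bijective_iff_injective_and_card f).2 ⟨hf, by
    rw [hcard, Nat.card_eq_fintype_card]; rfl⟩).2 ⟨x, hx⟩
  exact ⟨s, A, A.isLt, (congrArg Subtype.val hr).symm⟩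

theorem ap_single (j : Fin 4) : ap a (2 ^ (j : ℕ)) = a j := by
  rw [ap, ew_single]
  simp

theorem ap_zero : ap a 0 = 1 := by
  simp [ap, show ew 0 = [] by decide +kernel]

/-- Every noncentral involution is one of the five up to sign. -/
theorem classify [Finite G] (h : Ext Q z) (F : Quad Q z a) (hcard : Nat.card Q = 32)
    (hpair : ∀ u ∈ Q, ∀ w ∈ Q, u * u = 1 → w * w = 1 → u ≠ 1 → u ≠ z → w ≠ 1 → w ≠ z →
      u * w = w * u → u = w ∨ u = z * w)
    {x : G} (hx : x ∈ Q) (hxx : x * x = 1) (h1 : x ≠ 1) (h2 : x ≠ z) :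
    ∃ p : Fin 5, x = ap a (pA p) ∨ x = z * ap a (pA p) := by
  obtain ⟨s, A, hA, rfl⟩ := F.exists_word h hcard hx
  have h0 : A ≠ 0 := by
    rintro rfl
    cases s <;> simp [zs, ap_zero] at h1 h2
  obtain ⟨p, hp⟩ := invol_table ⟨A, hA⟩ h0 fun j => by
    by_cases hs : sgn j A = true
    · exact Or.inl hs
    refine Or.inr ?_
    have hj1 : a j ≠ 1 ∧ a j ≠ z := by
      refine ⟨fun e => ?_, fun e => ?_⟩
      · have := (F.uniq h (s := false) (t := false) (A := 2 ^ (j : ℕ)) (B := 0)
          (by have := j.isLt; interval_cases (j : ℕ) <;> norm_num) (by norm_num)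
          (by simp [ap_single, ap_zero, e])).1
        exact (pow_ne_zero _ two_ne_zero) this
      · have := (F.uniq h (s := false) (t := true) (A := 2 ^ (j : ℕ)) (B := 0)
          (by have := j.isLt; interval_cases (j : ℕ) <;> norm_num) (by norm_num)
          (by simp [ap_single, ap_zero, e, zs])).1
        exact (pow_ne_zero _ two_ne_zero) this
    have hcom : a j * (zs z s * ap a A) = zs z s * ap a A * a j := by
      rw [← mul_assoc, ← zs_comm h _ (F.mem _ j.isLt), mul_assoc, F.flip h j.isLt,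
        Bool.eq_false_iff.2 hs]
      simp [zs, mul_assoc]
    obtain ⟨t, ht⟩ := (zs_cases h).1 (hpair _ hx _ (F.mem _ j.isLt) hxx (F.sq _ j.isLt) h1 h2
      hj1.1 hj1.2 hcom.symm)
    rw [← ap_single (a := a) j] at ht
    exact (F.uniq h hA (by have := j.isLt; interval_cases (j : ℕ) <;> norm_num) ht).1
  refine ⟨p, ?_⟩
  rw [show A = pA p from hp]
  cases s <;> simp [zs]

theorem pt_sq (h : Ext Q z) (F : Quad Q z a) : ∀ p : Fin 5, ap a (pA p) * ap a (pA p) = 1 := by
  have hsingle : ∀ j : Fin 4, ap a (pA j.castSucc) * ap a (pA j.castSucc) = 1 := fun j => by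
    rw [pA_castSucc, ap_single]
    exact F.sq j j.isLt
  intro p
  obtain ⟨j, rfl⟩ | rfl := p.eq_castSucc_or_eq_last
  · exact hsingle j
  have e0 := F.flip h (j := 0) (by norm_num) 15
  simp only [show sgn 0 15 = true by decide +kernel] at e0
  simp only [show pA (Fin.last 4) = 15 by decide +kernel, ap,
    show ew 15 = [3, 4, 5, 6] by decide +kernel, List.map_cons, List.map_nil, List.prod_cons,
    List.prod_nil, mul_one, zs, if_true, Nat.reduceSub] at e0 ⊢
  have q0 := F.sq 0 (by norm_num)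
  have q1 := F.sq 1 (by norm_num)
  have q2 := F.sq 2 (by norm_num)
  have q3 := F.sq 3 (by norm_num)
  have a12 := F.anti 1 (by norm_num) 2 (by norm_num) (by norm_num)
  have a21 := F.anti 2 (by norm_num) 1 (by norm_num) (by norm_num)
  have a31 := F.anti 3 (by norm_num) 1 (by norm_num) (by norm_num)
  have a32 := F.anti 3 (by norm_num) 2 (by norm_num) (by norm_num)
  have c1 := h.comm _ (F.mem 1 (by norm_num))
  have c2 := h.comm _ (F.mem 2 (by norm_num))
  have c0 := h.comm _ (F.mem 0 (by norm_num))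
  have e1 : a 2 * a 3 * a 1 = a 1 * (a 2 * a 3) := by
    calc a 2 * a 3 * a 1 = a 2 * (a 3 * a 1) := mul_assoc _ _ _
      _ = a 2 * (z * (a 1 * a 3)) := by rw [a31]
      _ = z * (a 2 * a 1) * a 3 := by rw [← mul_assoc, c2]; group
      _ = a 1 * a 2 * a 3 := by rw [← a12]
      _ = _ := mul_assoc _ _ _
  have hT : a 1 * (a 2 * a 3) * (a 1 * (a 2 * a 3)) = z := by
    calc a 1 * (a 2 * a 3) * (a 1 * (a 2 * a 3))
        = a 1 * (a 2 * a 3 * a 1) * (a 2 * a 3) := by group
      _ = a 1 * a 1 * (a 2 * a 3) * (a 2 * a 3) := by rw [e1]; group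
      _ = a 2 * (a 3 * a 2) * a 3 := by rw [q1, one_mul]; group
      _ = a 2 * (z * (a 2 * a 3)) * a 3 := by rw [a32]
      _ = z := by
        rw [← mul_assoc (a 2), c2,
          show z * a 2 * (a 2 * a 3) * a 3 = z * (a 2 * a 2) * (a 3 * a 3) by group, q2, q3]
        simp
  set T := a 1 * (a 2 * a 3)
  rw [← mul_assoc (a 0) (a 0), q0, one_mul] at e0
  have e2 : T * a 0 = z * (a 0 * T) := by
    conv_lhs => rw [e0]
    simp [mul_assoc, q0]
  calc a 0 * T * (a 0 * T) = a 0 * (T * a 0) * T := by group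
    _ = a 0 * z * a 0 * (T * T) := by rw [e2]; group
    _ = z * (a 0 * a 0) * (T * T) := by rw [c0]; group
    _ = 1 := by rw [q0, hT, mul_one, h.zz]

/-- Inner elements realise every sign pattern. -/
theorem exists_signs (h : Ext Q z) (F : Quad Q z a) (s : ℕ → Bool) :
    ∃ q ∈ Q, ∀ j < 4, q * a j = zs z (s j) * (a j * q) := by
  obtain ⟨A, -, hA⟩ := List.any_eq_true.1 (sgn_surj (s 0) (s 1) (s 2) (s 3))
  simp only [Bool.and_eq_true, beq_iff_eq] at hA
  obtain ⟨⟨⟨h0, h1⟩, h2⟩, h3⟩ := hA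
  refine ⟨ap a A, F.ap_mem A, fun j hj => ?_⟩
  have hs : sgn j A = s j := by interval_cases j <;> assumption
  rw [F.flip h hj, ← mul_assoc (zs z (s j)), hs, ← zs_xor h, Bool.xor_self]
  simp [zs]

theorem commute_all [Finite G] (h : Ext Q z) (F : Quad Q z a) (hcard : Nat.card Q = 32) {g : G}
    (hgz : g * z = z * g) (hg : ∀ j < 4, g * a j = a j * g) : ∀ x ∈ Q, g * x = x * g := by
  intro x hx
  obtain ⟨s, A, -, rfl⟩ := F.exists_word h hcard hx
  have h1 : Commute g (zs z s) := by cases s <;> simp [zs, Commute, SemiconjBy, hgz]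
  have h2 : Commute g (ap a A) := Commute.list_prod_right _ _ fun y hy => by
    obtain ⟨i, hi, rfl⟩ := List.mem_map.1 hy
    exact hg _ (ew_mem hi)
  exact (h1.mul_right h2).eq

end Quad

/-! ### the frame -/

/-- The standing hypotheses on the centralizer, read in `G`. -/
structure Frame (Q : Subgroup G) (z : G) : Prop where
  ext : Ext Q z
  card : Nat.card Q = 32
  pair : ∀ u ∈ Q, ∀ w ∈ Q, u * u = 1 → w * w = 1 → u ≠ 1 → u ≠ z → w ≠ 1 → w ≠ z →
    u * w = w * u → u = w ∨ u = z * w
  norm : ∀ g, g * z = z * g → ∀ x ∈ Q, g * x * g⁻¹ ∈ Q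
  cent : ∀ g, g * z = z * g → (∀ x ∈ Q, g * x = x * g) → g = 1 ∨ g = z

namespace Frame

variable [Finite G]

theorem anti_of (D : Frame Q z) {u w : G} (hu : u ∈ Q) (hw : w ∈ Q) (huu : u * u = 1)
    (hww : w * w = 1) (h1 : u ≠ 1) (h2 : u ≠ z) (h3 : w ≠ 1) (h4 : w ≠ z) (hne : u ≠ w)
    (hne' : u ≠ z * w) : u * w = z * (w * u) := by
  have h := (D.ext.not_comm_iff hw hu).1 fun e => (D.pair u hu w hw huu hww h1 h2 h3 h4 e).elim hne hne'
  rw [mul_inv_eq_iff_eq_mul] at h
  rw [h, mul_assoc]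

theorem exists_four (D : Frame Q z) : ∃ a : ℕ → G, Quad Q z a := by
  classical
  have : Fintype G := Fintype.ofFinite G
  have h := D.ext
  let I : Finset G := Finset.univ.filter fun x => x ∈ Q ∧ x * x = 1 ∧ x ≠ 1 ∧ x ≠ z
  have hI : 10 ≤ I.card := by
    have hc : Nat.card {x : Q // (x : G) * x = 1 ∧ (x : G) ≠ 1 ∧ (x : G) ≠ z} = I.card := by
      rw [← Nat.card_eq_finsetCard]
      exact Nat.card_congr
        { toFun := fun x => ⟨(x.1 : G), by simp [I, x.2]⟩
          invFun := fun x => ⟨⟨x.1, (Finset.mem_filter.1 x.2).2.1⟩, (Finset.mem_filter.1 x.2).2.2⟩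
          left_inv := fun _ => rfl
          right_inv := fun _ => rfl }
    rcases J2TypePoints79.count_invol h D.card with e | e <;> omega
  have pick : ∀ S : Finset G, S.card < 10 →
      ∃ x, x ∈ Q ∧ x * x = 1 ∧ x ≠ 1 ∧ x ≠ z ∧ x ∉ S := fun S hS => by
    obtain ⟨x, hx, hxS⟩ := Finset.exists_mem_notMem_of_card_lt_card (show S.card < I.card by omega)
    exact ⟨x, (Finset.mem_filter.1 hx).2.1, (Finset.mem_filter.1 hx).2.2.1,
      (Finset.mem_filter.1 hx).2.2.2.1, (Finset.mem_filter.1 hx).2.2.2.2, hxS⟩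
  obtain ⟨u0, m0, s0, n0, k0, -⟩ := pick ∅ (by simp)
  obtain ⟨u1, m1, s1, n1, k1, f1⟩ := pick {u0, z * u0}
    (Finset.card_le_two.trans_lt (by norm_num))
  obtain ⟨u2, m2, s2, n2, k2, f2⟩ := pick {u0, z * u0, u1, z * u1}
    (Finset.card_le_four.trans_lt (by norm_num))
  obtain ⟨u3, m3, s3, n3, k3, f3⟩ := pick ({u0, z * u0, u1, z * u1} ∪ {u2, z * u2})
    ((Finset.card_union_le _ _).trans_lt (by
      have := Finset.card_le_four (a := u0) (b := z * u0) (c := u1) (d := z * u1)
      have := Finset.card_le_two (a := u2) (b := z * u2)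
      omega))
  simp only [Finset.mem_union, Finset.mem_insert, Finset.mem_singleton, not_or] at f1 f2 f3
  have e10 := D.anti_of m1 m0 s1 s0 n1 k1 n0 k0 f1.1 f1.2
  have e20 := D.anti_of m2 m0 s2 s0 n2 k2 n0 k0 f2.1 f2.2.1
  have e21 := D.anti_of m2 m1 s2 s1 n2 k2 n1 k1 f2.2.2.1 f2.2.2.2
  have e30 := D.anti_of m3 m0 s3 s0 n3 k3 n0 k0 f3.1.1 f3.1.2.1
  have e31 := D.anti_of m3 m1 s3 s1 n3 k3 n1 k1 f3.1.2.2.1 f3.1.2.2.2
  have e32 := D.anti_of m3 m2 s3 s2 n3 k3 n2 k2 f3.2.1 f3.2.2
  have sym : ∀ {u w : G}, u * w = z * (w * u) → w * u = z * (u * w) := fun e => by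
    rw [e, h.z_mul_z_mul]
  refine ⟨fun j => if j = 0 then u0 else if j = 1 then u1 else if j = 2 then u2 else u3, ?_, ?_, ?_⟩
  · intro j hj; interval_cases j <;> assumption
  · intro j hj; interval_cases j <;> assumption
  · intro i hi j hj hij
    interval_cases i <;> interval_cases j <;>
      first
      | exact absurd rfl hij
      | assumption
      | exact sym e10 | exact sym e20 | exact sym e21 | exact sym e30 | exact sym e31 | exact sym e32

/-- `g` carries the `p`-th pair to the `q`-th. -/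
def Rel (z : G) (a : ℕ → G) (g : G) (p q : Fin 5) : Prop :=
  ∃ t, g * ap a (pA p) = zs z t * (ap a (pA q) * g)

theorem rel_unique (D : Frame Q z) {a : ℕ → G} (F : Quad Q z a) {g : G} {p q q' : Fin 5}
    (h1 : Rel z a g p q) (h2 : Rel z a g p q') : q = q' := by
  obtain ⟨t, ht⟩ := h1
  obtain ⟨t', ht'⟩ := h2
  rw [ht, ← mul_assoc, ← mul_assoc, mul_left_inj] at ht'
  exact pA_inj _ _ (F.uniq D.ext (pA_lt q).1 (pA_lt q').1 ht').1

theorem rel_mul {a : ℕ → G} {g g' : G} {p q r : Fin 5} (hgz : g * z = z * g) (h : Ext Q z)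
    (h' : Rel z a g' p q) (hg : Rel z a g q r) : Rel z a (g * g') p r := by
  obtain ⟨t, ht⟩ := hg
  obtain ⟨t', ht'⟩ := h'
  refine ⟨xor t' t, ?_⟩
  have hc : g * zs z t' = zs z t' * g := by cases t' <;> simp [zs, hgz]
  rw [mul_assoc, ht', ← mul_assoc g, hc, mul_assoc, ← mul_assoc g, ht, zs_xor h]
  simp only [mul_assoc]

theorem rel_exists (D : Frame Q z) {a : ℕ → G} (F : Quad Q z a) {g : G} (hgz : g * z = z * g)
    (p : Fin 5) : ∃ q, Rel z a g p q := by
  have hne : ap a (pA p) ≠ 1 ∧ ap a (pA p) ≠ z := by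
    refine ⟨fun e => ?_, fun e => ?_⟩
    · exact (pA_lt p).2 (F.uniq D.ext (s := false) (t := false) (pA_lt p).1 (B := 0) (by norm_num)
        (by simp [e, Quad.ap_zero])).1
    · exact (pA_lt p).2 (F.uniq D.ext (s := false) (t := true) (pA_lt p).1 (B := 0) (by norm_num)
        (by simp [e, Quad.ap_zero, zs])).1
  have hsq := F.pt_sq D.ext p
  obtain ⟨q, hq⟩ := F.classify D.ext D.card D.pair (D.norm g hgz _ (F.ap_mem (pA p)))
    (by rw [show g * ap a (pA p) * g⁻¹ * (g * ap a (pA p) * g⁻¹) =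
      g * (ap a (pA p) * ap a (pA p)) * g⁻¹ by group, hsq]; group)
    (fun e => hne.1 (conj_eq_one_iff.1 e))
    (fun e => hne.2 (by
      have e' := mul_inv_eq_iff_eq_mul.1 e
      rw [← hgz] at e'
      exact mul_left_cancel e'))
  obtain ⟨t, ht⟩ := (zs_cases D.ext).1 hq
  exact ⟨q, t, by rw [← mul_assoc, ← ht, inv_mul_cancel_right]⟩

/-- The action of the centralizer on the five pairs. -/
theorem exists_action (D : Frame Q z) {a : ℕ → G} (F : Quad Q z a) :
    ∃ ρ : ↥(centralizer ({z} : Set G)) →* Equiv.Perm (Fin 5),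
      (∀ (g : ↥(centralizer ({z} : Set G))) (p : Fin 5), Rel z a (g : G) p (ρ g p)) ∧
        (∀ g : ↥(centralizer ({z} : Set G)), ρ g = 1 ↔ (g : G) ∈ Q) := by
  classical
  have hH : ∀ g : ↥(centralizer ({z} : Set G)), (g : G) * z = z * (g : G) := fun g =>
    mem_centralizer_singleton_iff.1 g.2
  choose σ hσ using fun (g : ↥(centralizer ({z} : Set G))) (p : Fin 5) => D.rel_exists F (hH g) p
  have hone : ∀ p, σ 1 p = p := fun p => D.rel_unique F (hσ 1 p) ⟨false, by simp [zs]⟩
  have hmul : ∀ g g' p, σ (g * g') p = σ g (σ g' p) := fun g g' p =>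
    D.rel_unique F (hσ (g * g') p) (by
      rw [Subgroup.coe_mul]
      exact rel_mul (hH g) D.ext (hσ g' p) (hσ g _))
  let ρ : ↥(centralizer ({z} : Set G)) →* Equiv.Perm (Fin 5) :=
    { toFun := fun g => ⟨σ g, σ g⁻¹, fun p => by rw [← hmul, inv_mul_cancel, hone],
        fun p => by rw [← hmul, mul_inv_cancel, hone]⟩
      map_one' := Equiv.ext hone
      map_mul' := fun g g' => Equiv.ext (hmul g g') }
  refine ⟨ρ, hσ, fun g => ⟨fun e => ?_, fun hg => Equiv.ext fun p => ?_⟩⟩
  · have hfix : ∀ j : ℕ, j < 4 → ∃ t, (g : G) * a j = zs z t * (a j * g) := fun j hj => by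
      obtain ⟨t, ht⟩ := hσ g (⟨j, hj⟩ : Fin 4).castSucc
      have e' : σ g (⟨j, hj⟩ : Fin 4).castSucc = (⟨j, hj⟩ : Fin 4).castSucc :=
        DFunLike.congr_fun e _
      rw [e', pA_castSucc, Quad.ap_single] at ht
      exact ⟨t, ht⟩
    let s : ℕ → Bool := fun j => if hj : j < 4 then (hfix j hj).choose else false
    obtain ⟨q, hq, hqs⟩ := F.exists_signs D.ext s
    have hqz : q * z = z * q := D.ext.comm q hq
    have hgq : ∀ j < 4, (q⁻¹ * (g : G)) * a j = a j * (q⁻¹ * (g : G)) := fun j hj => by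
      have hgs : (g : G) * a j = zs z (s j) * (a j * g) := by
        simp only [s, dif_pos hj]
        exact (hfix j hj).choose_spec
      rw [mul_assoc, hgs, eq_comm, ← mul_right_inj q, mul_inv_cancel_left, ← mul_assoc q, hqs j hj]
      group
    have hqg : q⁻¹ * (g : G) * z = z * (q⁻¹ * (g : G)) := by
      rw [mul_assoc, hH g, ← mul_assoc, ← mul_assoc]
      congr 1
      exact ((show Commute q z from hqz).inv_left).eq
    rcases D.cent _ hqg (F.commute_all D.ext D.card hqg hgq) with e1 | e1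
    · rw [inv_mul_eq_one] at e1
      exact e1 ▸ hq
    · rw [inv_mul_eq_iff_eq_mul] at e1
      exact e1 ▸ mul_mem hq D.ext.mem
  · refine D.rel_unique F (hσ g p) ?_
    obtain ⟨t, ht⟩ := (zs_cases D.ext).1 (D.ext.conj (g : G) hg _ (F.ap_mem (pA p)))
    exact ⟨t, by rw [mul_inv_eq_iff_eq_mul] at ht; rw [ht, mul_assoc]; rfl⟩

/-- Four pairs and three lifts of adjacent transpositions acting on them up to sign. -/
theorem exists_lifts (D : Frame Q z)
    (hq : ∃ f : ↥(centralizer ({z} : Set G)) →* Equiv.Perm (Fin 4),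
      Function.Surjective f ∧ ∀ g, f g = 1 ↔ (g : G) ∈ Q) :
    ∃ (b : ℕ → G) (x : ℕ → G), Quad Q z b ∧ (∀ k < 3, x k * z = z * x k) ∧
      ∀ k < 3, ∀ j < 4, x k * b j = b (gp k j) * x k := by
  classical
  obtain ⟨a, F⟩ := D.exists_four
  obtain ⟨ρ, hρ, hker⟩ := D.exists_action F
  obtain ⟨f, hf, hfk⟩ := hq
  have hiff : ∀ g g', f g = f g' → ρ g = ρ g' := fun g g' e => by
    rw [← mul_inv_eq_one, ← map_inv, ← map_mul, hker, ← hfk, map_mul, map_inv, e, mul_inv_cancel]
  obtain ⟨g0, hg0⟩ := hf (Equiv.swap 0 1)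
  obtain ⟨g1, hg1⟩ := hf (Equiv.swap 1 2)
  obtain ⟨g2, hg2⟩ := hf (Equiv.swap 2 3)
  obtain ⟨p, q, hpq, e0, r, hrp, hrq, e1, w, hwp, hwq, hwr, e2⟩ := swaps_of_relations (ρ g0)
    (by rw [← map_mul, ← map_one ρ]; exact hiff _ _ (by rw [map_mul, map_one, hg0]; decide))
    (ρ g1)
    (by rw [← map_mul, ← map_one ρ]; exact hiff _ _ (by rw [map_mul, map_one, hg1]; decide))
    (by rw [← map_mul, ← map_mul, ← map_mul, ← map_mul]
        exact hiff _ _ (by simp only [map_mul, hg0, hg1]; decide))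
    (ρ g2)
    (by rw [← map_mul, ← map_one ρ]; exact hiff _ _ (by rw [map_mul, map_one, hg2]; decide))
    (by rw [← map_mul, ← map_mul, ← map_mul, ← map_mul]
        exact hiff _ _ (by simp only [map_mul, hg1, hg2]; decide))
    (by rw [← map_mul, ← map_mul]
        exact hiff _ _ (by simp only [map_mul, hg0, hg2]; decide))
    (fun e => by
      have h1 : ρ (g0 * g2⁻¹) = 1 := by rw [map_mul, map_inv, e, mul_inv_cancel]
      rw [hker, ← hfk, map_mul, map_inv, hg0, hg2, mul_inv_eq_one] at h1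
      exact absurd h1 (by decide))
  let P : ℕ → Fin 5 := fun j => if j = 0 then p else if j = 1 then q else if j = 2 then r else w
  let b : ℕ → G := fun j => ap a (pA (P j))
  have hP : ∀ i < 4, ∀ j < 4, i ≠ j → P i ≠ P j := by
    intro i hi j hj hij
    interval_cases i <;> interval_cases j <;>
      first
      | exact absurd rfl hij
      | exact hpq | exact hpq.symm | exact hrp | exact hrp.symm | exact hrq | exact hrq.symm
      | exact hwp | exact hwp.symm | exact hwq | exact hwq.symm | exact hwr | exact hwr.symm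
  have hne : ∀ t, ap a (pA t) ≠ 1 ∧ ap a (pA t) ≠ z := fun t => by
    refine ⟨fun e => ?_, fun e => ?_⟩
    · exact (pA_lt t).2 (F.uniq D.ext (s := false) (t := false) (pA_lt t).1 (B := 0) (by norm_num)
        (by simp [e, Quad.ap_zero])).1
    · exact (pA_lt t).2 (F.uniq D.ext (s := false) (t := true) (pA_lt t).1 (B := 0) (by norm_num)
        (by simp [e, Quad.ap_zero, zs])).1
  have hsq : ∀ t, ap a (pA t) * ap a (pA t) = 1 := F.pt_sq D.ext
  have Fb : Quad Q z b := ⟨fun j _ => F.ap_mem _, fun j _ => hsq _, fun i hi j hj hij =>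
    D.anti_of (F.ap_mem _) (F.ap_mem _) (hsq _) (hsq _) (hne _).1 (hne _).2 (hne _).1 (hne _).2
      (fun e => hP i hi j hj hij (pA_inj _ _ (F.uniq D.ext (s := false) (t := false) (pA_lt _).1
        (pA_lt _).1 (by simpa [zs] using e)).1))
      (fun e => hP i hi j hj hij (pA_inj _ _ (F.uniq D.ext (s := false) (t := true) (pA_lt _).1
        (pA_lt _).1 (by simpa [zs] using e)).1))⟩
  let gs : ℕ → ↥(centralizer ({z} : Set G)) := fun k =>
    if k = 0 then g0 else if k = 1 then g1 else g2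
  have hmove : ∀ k < 3, ∀ j < 4, ρ (gs k) (P j) = P (gp k j) := by
    intro k hk j hj
    interval_cases k <;> interval_cases j <;>
      simp [gs, P, gp, e0, e1, e2, Equiv.swap_apply_def, hpq, hpq.symm, hrp, hrp.symm, hrq,
        hrq.symm, hwp, hwp.symm, hwq, hwq.symm, hwr, hwr.symm]
  have hx : ∀ k < 3, ∃ x : G, x * z = z * x ∧ ∀ j < 4, x * b j = b (gp k j) * x := by
    intro k hk
    have hgz : (gs k : G) * z = z * (gs k : G) := mem_centralizer_singleton_iff.1 (gs k).2
    have hs : ∀ j < 4, ∃ t, (gs k : G) * b j = zs z t * (b (gp k j) * gs k) := fun j hj => by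
      obtain ⟨t, ht⟩ := hρ (gs k) (P j)
      rw [hmove k hk j hj] at ht
      exact ⟨t, ht⟩
    let s : ℕ → Bool := fun j => if hj : j < 4 then (hs j hj).choose else false
    obtain ⟨u, hu, hus⟩ := Fb.exists_signs D.ext s
    have huz : u * z = z * u := D.ext.comm u hu
    refine ⟨gs k * u, by rw [mul_assoc, huz, ← mul_assoc, hgz, mul_assoc], fun j hj => ?_⟩
    have hgs : (gs k : G) * b j = zs z (s j) * (b (gp k j) * gs k) := by
      simp only [s, dif_pos hj]
      exact (hs j hj).choose_spec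
    have hc : (gs k : G) * zs z (s j) = zs z (s j) * gs k := by
      cases s j <;> simp [zs, hgz]
    rw [mul_assoc, hus j hj, ← mul_assoc, hc, mul_assoc, ← mul_assoc (gs k : G), hgs, ← mul_assoc,
      ← mul_assoc, ← mul_assoc, ← zs_xor D.ext, Bool.xor_self]
    simp [zs, mul_assoc]
  choose! x hx1 hx2 using hx
  exact ⟨b, x, Fb, hx1, hx2⟩

end Frame

/-! ### the bijection -/

theorem gp_spec : ∀ (k : Fin 3) (j : Fin 4), gp k (gp k j) = j ∧ gp 0 (gp 2 j) = gp 2 (gp 0 j) ∧
    ∀ l : Fin 3, ((k : ℕ) + 1 = l ∨ (l : ℕ) + 1 = k) →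
      gp k (gp l (gp k j)) = gp l (gp k (gp l j)) := by
  decide +kernel

theorem wact_lt {w : List ℕ} (hw : ∀ i ∈ w, i < 3) {j : ℕ} (hj : j < 4) : wact w j < 4 := by
  induction w with
  | nil => exact hj
  | cons k w ih =>
    exact gp_lt (hw k List.mem_cons_self) (ih fun i hi => hw i (List.mem_cons_of_mem k hi))

theorem ap_single_nat {a : ℕ → G} {j : ℕ} (hj : j < 4) : ap a (2 ^ j) = a j :=
  Quad.ap_single (a := a) ⟨j, hj⟩

theorem ap_single_inj (h : Ext Q z) {a : ℕ → G} (F : Quad Q z a) {i j : ℕ} (hi : i < 4)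
    (hj : j < 4) {s t : Bool} (e : zs z s * ap a (2 ^ i) = zs z t * ap a (2 ^ j)) : i = j :=
  Nat.pow_right_injective le_rfl (F.uniq h (by interval_cases i <;> norm_num)
    (by interval_cases j <;> norm_num) e).1

theorem Quad.single_inj (h : Ext Q z) {a : ℕ → G} (F : Quad Q z a) {i j : ℕ} (hi : i < 4)
    (hj : j < 4) (e : a i = a j) : i = j := by
  by_contra hne
  have := F.anti i hi j hj hne
  rw [e] at this
  exact h.z_mul_ne _ this.symm

namespace Frame

variable [Finite G]

theorem exists_gens (D : Frame Q z) (hH : Nat.card ↥(centralizer ({z} : Set G)) = 768)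
    (hq : ∃ f : ↥(centralizer ({z} : Set G)) →* Equiv.Perm (Fin 4),
      Function.Surjective f ∧ ∀ g, f g = 1 ↔ (g : G) ∈ Q) :
    ∃ (e d : Bool) (M : Gens G e d), M.z = z ∧
      Set.BijOn M.φ (Set.Iio 768) (centralizer ({z} : Set G) : Set G) := by
  classical
  obtain ⟨b, x, F, hxz, hxb⟩ := D.exists_lifts hq
  have h := D.ext
  -- the elements moving the four involutions in the same way agree up to sign
  have agree : ∀ {g g' : G}, g * z = z * g → g' * z = z * g' →
      (∀ j < 4, ∃ i < 4, g * b j = b i * g ∧ g' * b j = b i * g') → ∃ t, g = zs z t * g' := by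
    intro g g' hg hg' hgg
    have hz : g'⁻¹ * g * z = z * (g'⁻¹ * g) := by
      rw [mul_assoc, hg, ← mul_assoc, ((show Commute g' z from hg').inv_left).eq, mul_assoc]
    have hb : ∀ j < 4, (g'⁻¹ * g) * b j = b j * (g'⁻¹ * g) := fun j hj => by
      obtain ⟨i, -, e1, e2⟩ := hgg j hj
      rw [mul_assoc, e1, ← mul_right_inj g', mul_inv_cancel_left, ← mul_assoc g', e2]
      group
    rcases D.cent _ hz (F.commute_all h D.card hz hb) with e | e
    · exact ⟨false, by rw [inv_mul_eq_one] at e; simp [zs, e]⟩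
    · exact ⟨true, by rw [inv_mul_eq_iff_eq_mul, hg'] at e; simp [zs, e]⟩
  -- fix the signs of the outer lifts
  have hxx : ∀ k < 3, ∃ t, x k * x k = zs z t := fun k hk => by
    obtain ⟨t, ht⟩ := agree (g := x k * x k) (g' := 1)
      (by rw [mul_assoc, hxz k hk, ← mul_assoc, hxz k hk, mul_assoc]) (by simp) fun j hj =>
        ⟨j, hj, by
          rw [mul_assoc, hxb k hk j hj, ← mul_assoc, hxb k hk _ (gp_lt hk hj),
            (gp_spec ⟨k, hk⟩ ⟨j, hj⟩).1, mul_assoc], by simp⟩
    exact ⟨t, by rw [ht, mul_one]⟩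
  have htri : ∀ k < 3, ∀ l < 3, (k + 1 = l ∨ l + 1 = k) →
      ∃ t, x k * x l * x k = zs z t * (x l * x k * x l) := fun k hk l hl hkl => by
    refine agree ?_ ?_ fun j hj => ⟨gp k (gp l (gp k j)), gp_lt hk (gp_lt hl (gp_lt hk hj)), ?_, ?_⟩
    · rw [mul_assoc, hxz k hk, ← mul_assoc, mul_assoc (x k), hxz l hl, ← mul_assoc (x k), hxz k hk]
      group
    · rw [mul_assoc, hxz l hl, ← mul_assoc, mul_assoc (x l), hxz k hk, ← mul_assoc (x l), hxz l hl]
      group
    · rw [mul_assoc, hxb k hk j hj, ← mul_assoc, mul_assoc (x k), hxb l hl _ (gp_lt hk hj),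
        ← mul_assoc (x k), hxb k hk _ (gp_lt hl (gp_lt hk hj))]
      group
    · rw [mul_assoc, hxb l hl j hj, ← mul_assoc, mul_assoc (x l), hxb k hk _ (gp_lt hl hj),
        ← mul_assoc (x l), hxb l hl _ (gp_lt hk (gp_lt hl hj))]
      have e := (gp_spec ⟨k, hk⟩ ⟨j, hj⟩).2.2 ⟨l, hl⟩ hkl
      simp only at e
      rw [e]
      group
  obtain ⟨t0, ht0⟩ := htri 0 (by norm_num) 1 (by norm_num) (by norm_num)
  obtain ⟨t2, ht2⟩ := htri 2 (by norm_num) 1 (by norm_num) (by norm_num)
  let y : ℕ → G := fun k =>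
    if k = 0 then zs z t0 * x 0 else if k = 1 then x 1 else zs z t2 * x 2
  have hy : ∀ k < 3, ∃ t, y k = zs z t * x k := fun k hk => by
    interval_cases k
    exacts [⟨t0, rfl⟩, ⟨false, by simp [y, zs]⟩, ⟨t2, rfl⟩]
  have zscomm : ∀ (t : Bool) (g : G), g * z = z * g → g * zs z t = zs z t * g := fun t g hg => by
    cases t <;> simp [zs, hg]
  have hyz : ∀ k < 3, y k * z = z * y k := fun k hk => by
    obtain ⟨t, e⟩ := hy k hk
    rw [e, mul_assoc, hxz k hk, ← mul_assoc, ← zscomm t z rfl, mul_assoc]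
  have hyb : ∀ k < 3, ∀ j < 4, y k * b j = b (gp k j) * y k := fun k hk j hj => by
    obtain ⟨t, e⟩ := hy k hk
    rw [e, mul_assoc, hxb k hk j hj, ← mul_assoc, zs_comm h t (F.mem _ (gp_lt hk hj)), mul_assoc]
  have hmove : ∀ (t : Bool) (k l : ℕ), k < 3 → l < 3 →
      x k * x l * x k = zs z t * (x l * x k * x l) →
      zs z t * x k * x l * (zs z t * x k) = x l * (zs z t * x k) * x l := fun t k l hk hl e => by
    rw [show zs z t * x k * x l * (zs z t * x k) = zs z t * x k * (x l * zs z t) * x k by group,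
      zscomm t _ (hxz l hl),
      show zs z t * x k * (zs z t * x l) * x k = zs z t * (x k * zs z t) * x l * x k by group,
      zscomm t _ (hxz k hk),
      show zs z t * (zs z t * x k) * x l * x k = (zs z t * zs z t) * (x k * x l * x k) by group,
      e, ← zs_xor h, Bool.xor_self,
      show x l * (zs z t * x k) * x l = (x l * zs z t) * (x k * x l) by group,
      zscomm t _ (hxz l hl)]
    simp [zs, mul_assoc]
  have hbr0 : y 0 * y 1 * y 0 = y 1 * y 0 * y 1 := hmove t0 0 1 (by norm_num) (by norm_num) ht0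
  have hbr2 : y 2 * y 1 * y 2 = y 1 * y 2 * y 1 := hmove t2 2 1 (by norm_num) (by norm_num) ht2
  obtain ⟨e, he⟩ := hxx 1 (by norm_num)
  have hy1 : y 1 * y 1 = zs z e := he
  have sq_of_braid : ∀ u v : G, u * z = z * u → v * z = z * v → u * v * u = v * u * v →
      v * v = zs z e → u * u = zs z e := fun u v hu hv huv hvv => by
    have hu' : u = (u * v)⁻¹ * v * (u * v) := by
      rw [mul_assoc, ← mul_assoc v u v, ← huv]; group
    have hc : u * v * zs z e = zs z e * (u * v) :=
      zscomm e _ (by rw [mul_assoc, hv, ← mul_assoc, hu, mul_assoc])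
    rw [hu', show (u * v)⁻¹ * v * (u * v) * ((u * v)⁻¹ * v * (u * v)) =
      (u * v)⁻¹ * (v * v) * (u * v) by group, hvv, mul_assoc, ← hc, inv_mul_cancel_left]
  have hsq : ∀ k < 3, y k * y k = zs z e := fun k hk => by
    interval_cases k
    exacts [sq_of_braid _ _ (hyz 0 hk) (hyz 1 (by norm_num)) hbr0 hy1, hy1,
      sq_of_braid _ _ (hyz 2 hk) (hyz 1 (by norm_num)) hbr2 hy1]
  obtain ⟨d, hd⟩ := agree (g := y 0 * y 2) (g' := y 2 * y 0)
    (by rw [mul_assoc, hyz 2 (by norm_num), ← mul_assoc, hyz 0 (by norm_num), mul_assoc])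
    (by rw [mul_assoc, hyz 0 (by norm_num), ← mul_assoc, hyz 2 (by norm_num), mul_assoc])
    fun j hj => ⟨gp 0 (gp 2 j), gp_lt (by norm_num) (gp_lt (by norm_num) hj), by
      rw [mul_assoc, hyb 2 (by norm_num) j hj, ← mul_assoc,
        hyb 0 (by norm_num) _ (gp_lt (by norm_num) hj), mul_assoc], by
      rw [mul_assoc, hyb 0 (by norm_num) j hj, ← mul_assoc,
        hyb 2 (by norm_num) _ (gp_lt (by norm_num) hj), mul_assoc,
        show gp 0 (gp 2 j) = gp 2 (gp 0 j) from (gp_spec ⟨0, by norm_num⟩ ⟨j, hj⟩).2.1]⟩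
  let v : ℕ → G := fun i => if i < 3 then y i else b (i - 3)
  let M : Gens G e d :=
    { z := z
      v := v
      zz := h.zz
      zc := fun i hi => by
        by_cases h3 : i < 3
        · simp only [v, if_pos h3]; exact (hyz i h3).symm
        · simp only [v, if_neg h3]; exact (h.comm _ (F.mem _ (by omega))).symm
      sqA := fun i hi h3 => by
        simp only [v, if_neg (not_lt.2 h3)]
        exact F.sq _ (by omega)
      sqX := fun i h3 => by
        simp only [v, if_pos h3]
        exact hsq i h3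
      anti := fun i hi j hj h3 h3' hne => by
        simp only [v, if_neg (not_lt.2 h3), if_neg (not_lt.2 h3')]
        exact F.anti _ (by omega) _ (by omega) (by omega)
      far := by
        simp only [v, if_pos (show 0 < 3 by norm_num), if_pos (show 2 < 3 by norm_num)]
        exact hd
      conj := fun k hk j hj => by
        simp only [v, if_pos hk, if_neg (show ¬ j + 3 < 3 by omega),
          if_neg (show ¬ gp k j + 3 < 3 by omega), Nat.add_sub_cancel]
        exact hyb k hk j hj
      braid := fun k hk l hl hkl => by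
        simp only [v, if_pos hk, if_pos hl]
        rcases (show (k = 0 ∧ l = 1) ∨ (k = 1 ∧ l = 0) ∨ (k = 1 ∧ l = 2) ∨ (k = 2 ∧ l = 1) by
          omega) with ⟨rfl, rfl⟩ | ⟨rfl, rfl⟩ | ⟨rfl, rfl⟩ | ⟨rfl, rfl⟩
        exacts [hbr0, hbr0.symm, hbr2.symm, hbr2] }
  have hMA : ∀ A, M.ev (ew A) = ap b A := fun A => by
    show ((ew A).map v).prod = ((ew A).map fun i => b (i - 3)).prod
    refine congrArg List.prod (List.map_congr_left fun i hi => ?_)
    have := (List.mem_filter.1 hi).1
    simp only [List.mem_cons, List.not_mem_nil, or_false] at this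
    simp only [v, if_neg (show ¬ i < 3 by omega)]
  have hact : ∀ (w : List ℕ), (∀ i ∈ w, i < 3) → ∀ j < 4,
      M.ev w * b j = b (wact w j) * M.ev w := by
    intro w
    induction w with
    | nil => intro _ j _; simp [Gens.ev, wact]
    | cons k w ih =>
      intro hw j hj
      have hk := hw k List.mem_cons_self
      have hw' := fun i hi => hw i (List.mem_cons_of_mem k hi)
      rw [M.ev_cons, mul_assoc, ih hw' j hj, ← mul_assoc,
        show M.v k = y k from if_pos hk, hyb k hk _ (wact_lt hw' hj), mul_assoc]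
      rfl
  have hpw : ∀ {p}, p < 24 → ∀ i ∈ pw p, i < 3 := fun hp i hi => by
    simpa using List.all_eq_true.1 (List.all_eq_true.1 pw_small _ (List.mem_range.2 hp)) i hi
  have hφ : ∀ n, M.φ n = zs z (sg n) * ap b (n % 16) * M.ev (pw (n / 32)) := fun n => by
    rw [Gens.φ, hMA]; rfl
  have hmaps : Set.MapsTo M.φ (Set.Iio 768) (centralizer ({z} : Set G) : Set G) := by
    intro n hn
    have hp := (mul_args hn).2
    refine mem_centralizer_singleton_iff.2 ?_
    rw [hφ]
    have h1 : M.ev (pw (n / 32)) ∈ centralizer ({z} : Set G) :=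
      list_prod_mem fun u hu => by
        obtain ⟨i, hi, rfl⟩ := List.mem_map.1 hu
        exact mem_centralizer_singleton_iff.2 (M.zc i (Gens.pw_lt hp i hi)).symm
    rw [mul_assoc, mem_centralizer_singleton_iff.1 h1, ← mul_assoc,
      h.comm _ (mul_mem (zs_mem h _) (F.ap_mem _)), mul_assoc]
  have hinj : Set.InjOn M.φ (Set.Iio 768) := by
    intro n hn m hm hnm
    obtain ⟨hA, hp⟩ := mul_args hn
    obtain ⟨hB, hq⟩ := mul_args hm
    rw [hφ, hφ] at hnm
    have hpq : n / 32 = m / 32 := by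
      have h1 := all2_spec wact_inj hp hq
      rw [Bool.or_eq_true] at h1
      rcases h1 with h2 | h2
      · exact Nat.eq_of_beq_eq_true h2
      obtain ⟨j, hj, hne⟩ := List.any_eq_true.1 h2
      rw [List.mem_range] at hj
      exfalso
      refine (bne_iff_ne.1 hne) ?_
      have key : ∀ (r : ℕ), r < 768 → ∃ t, M.φ r * b j =
          zs z t * (b (wact (pw (r / 32)) j) * M.φ r) := fun r hr => by
        have hp' := (mul_args hr).2
        have hi := wact_lt (hpw hp') hj
        refine ⟨sgn (wact (pw (r / 32)) j) (r % 16), ?_⟩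
        have hact' := hact _ (hpw hp') j hj
        set i := wact (pw (r / 32)) j
        set σ := sgn i (r % 16)
        have hback : ap b (r % 16) * b i = zs z σ * (b i * ap b (r % 16)) := by
          rw [F.flip h hi, ← mul_assoc (zs z σ), ← zs_xor h, Bool.xor_self]; simp [zs]
        rw [hφ]
        calc zs z (sg r) * ap b (r % 16) * M.ev (pw (r / 32)) * b j
            = zs z (sg r) * (ap b (r % 16) * b i) * M.ev (pw (r / 32)) := by
              rw [mul_assoc _ (M.ev _) (b j), hact']; group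
          _ = zs z (sg r) * zs z σ * b i * ap b (r % 16) * M.ev (pw (r / 32)) := by
              rw [hback]; group
          _ = zs z σ * (zs z (sg r) * b i) * ap b (r % 16) * M.ev (pw (r / 32)) := by
              rw [← zs_xor h, Bool.xor_comm, zs_xor h]; group
          _ = _ := by rw [zs_comm h _ (F.mem _ hi)]; group
      obtain ⟨t, ht⟩ := key n hn
      obtain ⟨t', ht'⟩ := key m hm
      rw [hφ] at ht
      rw [hφ] at ht'
      rw [hnm] at ht
      generalize zs z (sg m) * ap b (m % 16) * M.ev (pw (m / 32)) = P at ht ht'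
      rw [ht', ← mul_assoc, ← mul_assoc, mul_left_inj] at ht
      rw [← ap_single_nat (a := b) (wact_lt (hpw hq) hj), ← ap_single_nat (a := b) (wact_lt (hpw hp) hj)] at ht
      exact (ap_single_inj h F (wact_lt (hpw hp) hj) (wact_lt (hpw hq) hj) ht.symm)
    rw [hpq] at hnm
    obtain ⟨e1, e2⟩ := F.uniq h hA hB (mul_right_cancel hnm)
    have hn' := List.all_eq_true.1 mk_eta n (List.mem_range.2 hn)
    have hm' := List.all_eq_true.1 mk_eta m (List.mem_range.2 hm)
    rw [← Nat.eq_of_beq_eq_true hn', ← Nat.eq_of_beq_eq_true hm', e1, e2, hpq]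
  refine ⟨e, d, M, rfl, hmaps, hinj, ?_⟩
  have hN : (M.φ '' Set.Iio 768).ncard = 768 := by
    rw [hinj.ncard_image, Set.ncard_Iio_nat]
  have heq : M.φ '' Set.Iio 768 = (centralizer ({z} : Set G) : Set G) :=
    Set.eq_of_subset_of_ncard_le hmaps.image_subset (by
      rw [hN, ← Nat.card_coe_set_eq]
      exact hH.le) (Set.toFinite _)
  exact heq.ge

end Frame

/-- The frame of the centralizer in the situation of S3237. -/
theorem exists_frame {G : Type*} [Group G] [Finite G] (z : G) (hz : orderOf z = 2)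
    (E : Subgroup ↥(centralizer ({z} : Set G))) [E.Normal] (hE : Cfsg.IsExtraspecial 2 ↥E)
    (hE32 : Nat.card ↥E = 32)
    (hEminus : ∀ A : Subgroup ↥E, Cfsg.IsElementaryAbelian 2 A → Nat.card ↥A ≠ 8)
    (hCE : centralizer (E : Set ↥(centralizer ({z} : Set G))) ≤ E)
    (q : (↥(centralizer ({z} : Set G)) ⧸ E) ≃* Equiv.Perm (Fin 4)) :
    ∃ (e d : Bool) (M : Gens G e d), M.z = z ∧
      Set.BijOn M.φ (Set.Iio 768) (centralizer ({z} : Set G) : Set G) := by
  classical
  have hzH : z ∈ centralizer ({z} : Set G) := mem_centralizer_singleton_iff.2 rfl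
  obtain ⟨c, hc, -, -⟩ := exists_ext hE
  have hzE : (⟨z, hzH⟩ : ↥(centralizer ({z} : Set G))) ∈ E := hCE (mem_centralizer_iff.2 fun u _ =>
    Subtype.ext (mem_centralizer_singleton_iff.1 u.2))
  have hcz : (⟨z, hzH⟩ : ↥(centralizer ({z} : Set G))) = c := (hc.central hzE fun u _ =>
    Subtype.ext (mem_centralizer_singleton_iff.1 u.2)).resolve_left fun e => by
      have e' : z = 1 := congrArg Subtype.val e
      rw [e', orderOf_one] at hz
      omega
  subst hcz
  set Q := E.map (centralizer ({z} : Set G)).subtype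
  have hmemQ : ∀ {g : ↥(centralizer ({z} : Set G))}, (g : G) ∈ Q ↔ g ∈ E := fun {g} =>
    mem_map_iff_mem (subtype_injective (centralizer ({z} : Set G)))
  have hsub : ∀ {x : G}, x ∈ Q → ∃ u : ↥(centralizer ({z} : Set G)), u ∈ E ∧ (u : G) = x := fun hx => hx
  have hQext : Ext Q z := by
    refine ⟨⟨_, hc.mem, rfl⟩, fun e => hc.ne_one (Subtype.ext e), congrArg Subtype.val hc.zz,
      ?_, ?_, ?_, ?_⟩
    · intro x hx
      obtain ⟨u, hu, rfl⟩ := hsub hx
      exact congrArg Subtype.val (hc.comm u hu)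
    · intro x hx
      obtain ⟨u, hu, rfl⟩ := hsub hx
      exact (hc.sq u hu).imp (congrArg Subtype.val) (congrArg Subtype.val)
    · intro x hx y hy
      obtain ⟨u, hu, rfl⟩ := hsub hx
      obtain ⟨w, hw, rfl⟩ := hsub hy
      exact (hc.conj u hu w hw).imp (congrArg Subtype.val) (congrArg Subtype.val)
    · intro x hx h1 h2
      obtain ⟨u, hu, rfl⟩ := hsub hx
      obtain ⟨w, hw, hwu⟩ := hc.partner u hu (fun e => h1 (congrArg Subtype.val e))
        fun e => h2 (congrArg Subtype.val e)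
      exact ⟨w, hmemQ.2 hw, congrArg Subtype.val hwu⟩
  have hQcard : Nat.card Q = 32 := by
    rw [card_map_of_injective (subtype_injective (centralizer ({z} : Set G))), hE32]
  let f : ↥(centralizer ({z} : Set G)) →* Equiv.Perm (Fin 4) := q.toMonoidHom.comp (QuotientGroup.mk' E)
  have hf : Function.Surjective f := q.surjective.comp (QuotientGroup.mk'_surjective E)
  have hfk : ∀ g : ↥(centralizer ({z} : Set G)), f g = 1 ↔ (g : G) ∈ Q := fun g => by
    rw [hmemQ, ← QuotientGroup.eq_one_iff]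
    exact q.map_eq_one_iff
  have hH : Nat.card ↥(centralizer ({z} : Set G)) = 768 := by
    rw [card_eq_card_quotient_mul_card_subgroup E, Nat.card_congr q.toEquiv, hE32,
      Nat.card_eq_fintype_card, Fintype.card_perm, Fintype.card_fin]
    rfl
  refine Frame.exists_gens ⟨hQext, hQcard, ?_, ?_, ?_⟩ hH ⟨f, hf, hfk⟩
  · intro u hu w hw huu hww hu1 huz hw1 hwz huw
    by_contra hne
    push Not at hne
    let A : Subgroup G := closure {z, u, w}
    have hAQ : A ≤ Q := (closure_le _).2 (by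
      rintro y (rfl | rfl | rfl)
      exacts [hQext.mem, hu, hw])
    have hcomm : IsMulCommutative A := isMulCommutative_closure (by
      rintro s (rfl | rfl | rfl) t (rfl | rfl | rfl) <;>
        first
        | rfl
        | exact huw | exact huw.symm
        | exact hQext.comm _ hu | exact (hQext.comm _ hu).symm
        | exact hQext.comm _ hw | exact (hQext.comm _ hw).symm)
    have hsq : ∀ y ∈ A, y * y = 1 := by
      intro y hy
      refine closure_induction (p := fun y _ => y * y = 1) ?_ (mul_one 1) ?_ ?_ hy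
      · rintro t (rfl | rfl | rfl)
        exacts [hQext.zz, huu, hww]
      · intro s t hs ht es et
        rw [show s * t * (s * t) = s * (t * s) * t by group,
          (show t * s = s * t from congrArg Subtype.val (hcomm.is_comm.comm (⟨t, ht⟩ : A) ⟨s, hs⟩)),
          show s * (s * t) * t = (s * s) * (t * t) by group, es, et, one_mul]
      · intro s _ es
        rw [← mul_inv_rev, es, inv_one]
    have hA2 : IsPGroup 2 A := fun y => ⟨1, Subtype.ext (by
      rw [pow_one, pow_two]; exact hsq y y.2)⟩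
    have : Fact (Nat.Prime 2) := ⟨Nat.prime_two⟩
    obtain ⟨k, hk⟩ := IsPGroup.iff_card.1 hA2
    have h5 : 5 ≤ Nat.card A := by
      have hzA : z ∈ A := Subgroup.subset_closure (by simp)
      have huA : u ∈ A := Subgroup.subset_closure (by simp)
      have hwA : w ∈ A := Subgroup.subset_closure (by simp)
      let L : Fin 5 → A := ![1, ⟨z, hzA⟩, ⟨u, huA⟩, ⟨z * u, mul_mem hzA huA⟩, ⟨w, hwA⟩]
      have e1 : z * u ≠ 1 := fun e => huz (by
        rw [← hQext.z_mul_z_mul u, e, mul_one])
      have e2 : z * u ≠ z := fun e => hu1 (mul_eq_left.1 e)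
      have e3 : z * u ≠ w := fun e => hne.2 (by rw [← e, hQext.z_mul_z_mul])
      have hL : Function.Injective L := by
        intro i j hij
        have h' := congrArg (fun y : A => (y : G)) hij
        fin_cases i <;> fin_cases j <;> first | rfl | (exfalso; revert h'; simp [L, hQext.ne_one,
          hQext.ne_one.symm, hu1, Ne.symm hu1, huz, Ne.symm huz, hw1, Ne.symm hw1, hwz, Ne.symm hwz,
          hne.1, Ne.symm hne.1, e1, Ne.symm e1, e2, Ne.symm e2, e3, Ne.symm e3, hQext.z_mul_ne u,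
          (hQext.z_mul_ne u).symm])
      simpa using Nat.card_le_card_of_injective L hL
    have h3 : 3 ≤ k := by
      by_contra hk3
      have := Nat.pow_le_pow_right two_pos (show k ≤ 2 by omega)
      omega
    obtain ⟨B, hB⟩ := Sylow.exists_subgroup_card_pow_prime 2 (G := A) (n := 3)
      (hk ▸ Nat.pow_dvd_pow 2 h3)
    let B' : Subgroup E := (B.map A.subtype).comap ((centralizer ({z} : Set G)).subtype.comp E.subtype)
    have hB'card : Nat.card B' = 8 := by
      rw [show (8 : ℕ) = 2 ^ 3 by norm_num, ← hB, ← card_map_of_injective A.subtype_injective (K := B)]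
      refine Nat.card_congr
        { toFun := fun y => ⟨((y : E) : ↥(centralizer ({z} : Set G))), y.2⟩
          invFun := fun y => ⟨⟨⟨y.1, ?_⟩, ?_⟩, y.2⟩
          left_inv := fun _ => rfl
          right_inv := fun _ => rfl }
      · obtain ⟨y', -, e⟩ := y.2
        exact e ▸ mem_centralizer_singleton_iff.2 (hQext.comm _ (hAQ y'.2))
      · obtain ⟨y', -, e⟩ := y.2
        exact hmemQ.1 (e ▸ hAQ y'.2)
    refine hEminus B' ⟨⟨⟨fun ⟨s, hs⟩ ⟨t, ht⟩ => Subtype.ext ?_⟩⟩, fun s hs => ?_⟩
      hB'card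
    · obtain ⟨s', -, es⟩ := hs
      obtain ⟨t', -, et⟩ := ht
      refine Subtype.ext (Subtype.ext ?_)
      show ((s : ↥(centralizer ({z} : Set G))) : G) * ((t : ↥(centralizer ({z} : Set G))) : G) = ((t : ↥(centralizer ({z} : Set G))) : G) * ((s : ↥(centralizer ({z} : Set G))) : G)
      simp only [MonoidHom.comp_apply, Subgroup.coe_subtype] at es et
      rw [← es, ← et]
      exact congrArg Subtype.val (hcomm.is_comm.comm s' t')
    · obtain ⟨s', -, es⟩ := hs
      refine Subtype.ext (Subtype.ext ?_)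
      simp only [MonoidHom.comp_apply, Subgroup.coe_subtype] at es
      show (((s ^ 2 : E) : ↥(centralizer ({z} : Set G))) : G) = 1
      rw [SubmonoidClass.coe_pow, SubmonoidClass.coe_pow, ← es, pow_two]
      exact hsq _ s'.2
  · intro g hg x hx
    obtain ⟨u, hu, rfl⟩ := hsub hx
    exact hmemQ.2 (Normal.conj_mem inferInstance u hu ⟨g, mem_centralizer_singleton_iff.2 hg⟩)
  · intro g hg hgx
    have hgE : (⟨g, mem_centralizer_singleton_iff.2 hg⟩ : ↥(centralizer ({z} : Set G))) ∈ E :=
      hCE (mem_centralizer_iff.2 fun u hu => Subtype.ext (hgx u (hmemQ.2 hu)).symm)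
    exact (hc.central hgE fun u hu => Subtype.ext (hgx u (hmemQ.2 hu)).symm).imp
      (congrArg Subtype.val) (congrArg Subtype.val)

end Cfsg.Agent.AutL34Model54
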