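import Cfsg.Agent.Lib.AutL34Cen54

/-!
# Fusion of `z`: the involution `t` is fused and the model has trivial parameters
-/

set_option autoImplicit false
set_option maxRecDepth 10000

namespace Cfsg.Agent.AutL34Model54

open Subgroup

/-- `t` times `z t` is `z`, and a letter interchanges them. -/
theorem t_facts : ∀ e d : Bool, (Nat.beq (mul e d 15 31) 16 &&
    Nat.beq (mul e d 1 15) (mul e d 31 1)) = true := by
  decide +kernel

namespace Cen

variable {G : Type*} [Group G] {e d : Bool} (K : Cen G e d)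

/-- Elements commuting with `z`, `f n` and `f k`. -/
def cent3 (n k : ℕ) : Set G :=
  {y : G | y * K.z = K.z * y ∧ y * K.f n = K.f n * y ∧ y * K.f k = K.f k * y}

theorem markP_iff {n k : ℕ} (hn : n < 768) (hk : k < 768) :
    markP e d (centL e d n) k = true ↔
      (K.cent3 n k).ncard = 16 ∧ ∀ y ∈ K.cent3 n k, y * y = 1 := by
  classical
  have hmem : ∀ m, m ∈ (centL e d n).filter (cm e d k) ↔
      m < 768 ∧ cm e d n m = true ∧ cm e d k m = true := by
    intro m
    rw [List.mem_filter, centL, List.mem_filter, mem_els, and_assoc]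
  have hs : K.cent3 n k = K.f '' (((centL e d n).filter (cm e d k)).toFinset : Set ℕ) := by
    ext y
    simp only [cent3, Set.mem_ofPred_eq, Set.mem_image, Finset.mem_coe, List.mem_toFinset, hmem]
    constructor
    · rintro ⟨hz, h1, h2⟩
      obtain ⟨m, hm, rfl⟩ := K.exists_f hz
      exact ⟨m, ⟨hm, (K.cm_iff hn hm).2 h1.symm, (K.cm_iff hk hm).2 h2.symm⟩, rfl⟩
    · rintro ⟨m, ⟨hm, h1, h2⟩, rfl⟩
      exact ⟨K.f_mem hm, ((K.cm_iff hn hm).1 h1).symm, ((K.cm_iff hk hm).1 h2).symm⟩
  have hnd : ((centL e d n).filter (cm e d k)).Nodup := (List.nodup_range.filter _).filter _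
  have hc : (K.cent3 n k).ncard = ((centL e d n).filter (cm e d k)).length := by
    rw [hs, Set.ncard_image_of_injOn, Set.ncard_coe_finset, List.toFinset_card_of_nodup hnd]
    intro a ha b hb h
    rw [Finset.mem_coe, List.mem_toFinset, hmem] at ha hb
    exact K.f_inj ha.1 hb.1 h
  simp only [markP, Bool.and_eq_true, List.all_eq_true, hc]
  constructor
  · rintro ⟨h1, h2⟩
    refine ⟨Nat.eq_of_beq_eq_true h1, fun y hy => ?_⟩
    rw [hs] at hy
    obtain ⟨m, hm, rfl⟩ := hy
    rw [Finset.mem_coe, List.mem_toFinset] at hm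
    rw [(K.sq_iff ((hmem m).1 hm).1 (by norm_num)).1 (h2 m hm), K.f_zero]
  · rintro ⟨h1, h2⟩
    refine ⟨by rw [h1]; rfl, fun m hm => ?_⟩
    obtain ⟨h3, h4, h5⟩ := (hmem m).1 hm
    rw [K.sq_iff h3 (by norm_num), K.f_zero]
    exact h2 _ (by rw [hs]; exact ⟨m, by simpa using hm, rfl⟩)

theorem isW_lt {n : ℕ} (h : allowed e d n = true) : n < 768 ∨ isW e d n = true := by
  simp only [allowed, Bool.or_eq_true] at h
  rcases h with (h | h) | h
  · exact Or.inl (by rw [Nat.eq_of_beq_eq_true h]; norm_num)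
  · exact Or.inl (by rw [Nat.eq_of_beq_eq_true h]; norm_num)
  · exact Or.inr h

/-- The elements of `isW` are conjugate in the centralizer. -/
theorem isW_isConj {n m : ℕ} (hn : n < 768) (hm : m < 768) (h1 : isW e d n = true)
    (h2 : isW e d m = true) : ∃ c, c * K.z = K.z * c ∧ c * K.f n * c⁻¹ = K.f m := by
  have h := els_all (isW_conj e d) hn
  simp only [h1, Bool.not_true, Bool.false_or] at h
  have h := els_all h hm
  simp only [h2, Bool.not_true, Bool.false_or] at h
  obtain ⟨g, hg, hg'⟩ := els_any h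
  refine ⟨K.f g, K.f_mem hg, ?_⟩
  have := Nat.eq_of_beq_eq_true hg'
  rw [mul_inv_eq_iff_eq_mul, K.f_mul hg hn, K.f_mul hm hg, this]

/-- `t` and `z t` are conjugate in the centralizer. -/
theorem t_swap : K.f 1 * K.f 15 * (K.f 1)⁻¹ = K.f 31 := by
  have h := t_facts e d
  simp only [Bool.and_eq_true] at h
  rw [mul_inv_eq_iff_eq_mul, K.f_mul (by norm_num) (by norm_num),
    K.f_mul (by norm_num) (by norm_num), Nat.eq_of_beq_eq_true h.2]

/-- If `z` is fused to another element of its centralizer, it is fused to `t`. -/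
theorem t_fused (hfus : ∃ g : G, g * K.z * g⁻¹ ≠ K.z ∧ Commute K.z (g * K.z * g⁻¹)) :
    ∃ g : G, g * K.z * g⁻¹ = K.f 15 := by
  obtain ⟨g, hne, hc⟩ := hfus
  obtain ⟨n, hn, hn'⟩ := K.exists_f hc.symm
  rcases K.conj_allowed hn hn'.symm with rfl | hal
  · exact absurd (hn'.symm.trans K.f_z) hne
  by_contra hno
  have hno31 : ¬ ∃ g : G, g * K.z * g⁻¹ = K.f 31 := fun ⟨k, hk⟩ => hno ⟨(K.f 1)⁻¹ * k, by
    calc (K.f 1)⁻¹ * k * K.z * ((K.f 1)⁻¹ * k)⁻¹ = (K.f 1)⁻¹ * (k * K.z * k⁻¹) * K.f 1 := by group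
      _ = (K.f 1)⁻¹ * (K.f 1 * K.f 15 * (K.f 1)⁻¹) * K.f 1 := by rw [hk, K.t_swap]
      _ = K.f 15 := by group⟩
  simp only [allowed, Bool.or_eq_true] at hal
  rcases hal with (h | h) | hW
  · exact hno ⟨g, by rw [← hn', Nat.eq_of_beq_eq_true h]⟩
  · exact hno31 ⟨g, by rw [← hn', Nat.eq_of_beq_eq_true h]⟩
  have hmark := els_all (mark e d) hn
  simp only [hW, Bool.not_true, Bool.false_or, Bool.and_eq_true] at hmark
  obtain ⟨⟨⟨hm15, hm31⟩, hc15⟩, -⟩ := hmark
  set h := g⁻¹ with hh
  -- the image of `z`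
  set x' := h * K.z * h⁻¹ with hx'
  have hx'z : x' * K.z = K.z * x' := by
    calc x' * K.z = h * (K.z * (g * K.z * g⁻¹)) * h⁻¹ := by rw [hx', hh]; group
      _ = h * (g * K.z * g⁻¹ * K.z) * h⁻¹ := by rw [hc.eq]
      _ = K.z * x' := by rw [hx', hh]; group
  obtain ⟨m, hm, hmx⟩ := K.exists_f hx'z
  have hx'ne : x' ≠ K.z := fun e' => hne (by
    calc g * K.z * g⁻¹ = g * x' * g⁻¹ := by rw [e']
      _ = K.z := by rw [hx', hh]; group)
  have hmW : isW e d m = true := by
    rcases K.conj_allowed hm hmx.symm with rfl | hal'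
    · exact absurd (hmx.symm.trans K.f_z) hx'ne
    · simp only [allowed, Bool.or_eq_true] at hal'
      rcases hal' with (h' | h') | h'
      · exact absurd ⟨h, by rw [← hx', ← hmx, Nat.eq_of_beq_eq_true h']⟩ hno
      · exact absurd ⟨h, by rw [← hx', ← hmx, Nat.eq_of_beq_eq_true h']⟩ hno31
      · exact h'
  have hnz : h * K.f n * h⁻¹ = K.z := by rw [hn', hh]; group
  -- the images of `t` and `z t`
  have key : ∀ k, (k = 15 ∨ k = 31) → h * K.f k * h⁻¹ = K.f 15 ∨ h * K.f k * h⁻¹ = K.f 31 := by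
    intro k hk
    have hk768 : k < 768 := by rcases hk with rfl | rfl <;> norm_num
    have hkc : cm e d n k = true := by
      rcases hk with rfl | rfl
      · exact hc15
      · rw [K.cm_iff hn (by norm_num)]
        have e1 := (K.cm_iff hn (by norm_num)).1 hc15
        have h31 : K.f 31 = K.z * K.f 15 := by
          have h := z_facts e d
          simp only [Bool.and_eq_true] at h
          rw [← K.f_z, K.f_mul (by norm_num) (by norm_num), Nat.eq_of_beq_eq_true h.1.1.2]
        rw [h31, ← mul_assoc, K.f_mem hn, mul_assoc, e1, mul_assoc]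
    have hmk : markP e d (centL e d n) k = true := by rcases hk with rfl | rfl <;> assumption
    set u := h * K.f k * h⁻¹ with hu
    have huz : u * K.z = K.z * u := by
      have e1 := (K.cm_iff hn hk768).1 hkc
      calc u * K.z = h * (K.f k * K.f n) * h⁻¹ := by rw [← hnz, hu]; group
        _ = h * (K.f n * K.f k) * h⁻¹ := by rw [e1]
        _ = K.z * u := by rw [← hnz, hu]; group
    obtain ⟨j, hj, hju⟩ := K.exists_f huz
    have hzf := z_facts e d
    simp only [Bool.and_eq_true] at hzf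
    have hk2 : orderOf (K.f k) = 2 := by
      rw [← K.inv2_iff hk768]
      rcases hk with rfl | rfl
      · exact hzf.1.1.1.1.1.2
      · exact hzf.1.1.1.1.2
    have hj2 : inv2 e d j = true := by
      rw [K.inv2_iff hj, hju, hu]
      have h1 := MulEquiv.orderOf_eq (MulAut.conj h) (K.f k)
      rw [MulAut.conj_apply, hk2] at h1
      exact h1
    have hjm : cm e d m j = true := by
      rw [K.cm_iff hm hj, hju, hmx, hu, hx']
      have e1 := K.f_mem hk768
      calc h * K.z * h⁻¹ * (h * K.f k * h⁻¹) = h * (K.z * K.f k) * h⁻¹ := by group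
        _ = h * (K.f k * K.z) * h⁻¹ := by rw [e1]
        _ = _ := by group
    have hset : K.cent3 m j = (fun y => h * y * h⁻¹) '' K.cent3 n k := by
      ext y
      simp only [cent3, Set.mem_ofPred_eq, Set.mem_image]
      constructor
      · rintro ⟨h1, h2, h3⟩
        rw [hmx, hx'] at h2
        rw [hju, hu] at h3
        rw [← hnz] at h1
        refine ⟨h⁻¹ * y * h, ⟨?_, ?_, ?_⟩, by group⟩
        · calc h⁻¹ * y * h * K.z = h⁻¹ * (y * (h * K.z * h⁻¹)) * h := by group
            _ = _ := by rw [h2]; group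
        · calc h⁻¹ * y * h * K.f n = h⁻¹ * (y * (h * K.f n * h⁻¹)) * h := by group
            _ = _ := by rw [h1]; group
        · calc h⁻¹ * y * h * K.f k = h⁻¹ * (y * (h * K.f k * h⁻¹)) * h := by group
            _ = _ := by rw [h3]; group
      · rintro ⟨w, ⟨h1, h2, h3⟩, rfl⟩
        refine ⟨?_, ?_, ?_⟩
        · calc h * w * h⁻¹ * K.z = h * (w * K.f n) * h⁻¹ := by rw [← hnz]; group
            _ = _ := by rw [h2, ← hnz]; group
        · rw [hmx, hx']
          calc h * w * h⁻¹ * (h * K.z * h⁻¹) = h * (w * K.z) * h⁻¹ := by group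
            _ = _ := by rw [h1]; group
        · rw [hju, hu]
          calc h * w * h⁻¹ * (h * K.f k * h⁻¹) = h * (w * K.f k) * h⁻¹ := by group
            _ = _ := by rw [h3]; group
    obtain ⟨hcard, hsq⟩ := (K.markP_iff hn hk768).1 hmk
    have hinj : Function.Injective (fun y : G => h * y * h⁻¹) := fun a b hab =>
      mul_left_cancel (mul_right_cancel hab)
    have hmj : markP e d (centL e d m) j = true := by
      rw [K.markP_iff hm hj, hset, Set.ncard_image_of_injective _ hinj]
      refine ⟨hcard, ?_⟩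
      rintro _ ⟨w, hw, rfl⟩
      calc h * w * h⁻¹ * (h * w * h⁻¹) = h * (w * w) * h⁻¹ := by group
        _ = 1 := by rw [hsq w hw]; group
    have h1 := els_all (mark e d) hm
    simp only [hmW, Bool.not_true, Bool.false_or, Bool.and_eq_true] at h1
    have h2 := List.all_eq_true.1 h1.2 j
      (List.mem_filter.2 ⟨mem_els.2 hj, hjm⟩)
    simp only [hj2, hmj, Bool.not_true, Bool.false_or, Bool.or_false, Bool.or_eq_true] at h2
    rcases h2 with ((h2 | h2) | h2) | h2
    · exfalso
      rw [Nat.eq_of_beq_eq_true h2, K.f_z, hu] at hju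
      have : g * K.z * g⁻¹ = K.f k := by
        rw [hju, hh]; group
      rcases hk with rfl | rfl
      · exact hno ⟨g, this⟩
      · exact hno31 ⟨g, this⟩
    · exfalso
      obtain ⟨c, -, hc'⟩ := K.isW_isConj hn hj hW h2
      have e1 : K.f k = g * (c * (g * K.z * g⁻¹) * c⁻¹) * g⁻¹ := by
        rw [← hn', hc', hju, hu, hh]; group
      have : (g * c * g) * K.z * (g * c * g)⁻¹ = K.f k := by rw [e1]; group
      rcases hk with rfl | rfl
      · exact hno ⟨_, this⟩
      · exact hno31 ⟨_, this⟩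
    · exact Or.inl (by rw [← hju, Nat.eq_of_beq_eq_true h2])
    · exact Or.inr (by rw [← hju, Nat.eq_of_beq_eq_true h2])
  have hprod : K.f 15 * K.f 31 = K.z := by
    have h := t_facts e d
    simp only [Bool.and_eq_true] at h
    rw [K.f_mul (by norm_num) (by norm_num), Nat.eq_of_beq_eq_true h.1, K.f_z]
  have hprod' : K.f 31 * K.f 15 = K.z := by
    have h := z_facts e d
    simp only [Bool.and_eq_true] at h
    rw [← (K.cm_iff (by norm_num) (by norm_num)).1 h.1.2, hprod]
  have hne1531 : h * K.f 15 * h⁻¹ ≠ h * K.f 31 * h⁻¹ := fun e' =>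
    absurd (K.f_inj (by norm_num) (by norm_num) (mul_left_cancel (mul_right_cancel e')))
      (by norm_num)
  have hx : x' = h * K.f 15 * h⁻¹ * (h * K.f 31 * h⁻¹) := by
    rw [hx', ← hprod]; group
  rcases key 15 (Or.inl rfl) with e1 | e1 <;> rcases key 31 (Or.inr rfl) with e2 | e2
  · exact hne1531 (e1.trans e2.symm)
  · exact hx'ne (by rw [hx, e1, e2, hprod])
  · exact hx'ne (by rw [hx, e1, e2, hprod'])
  · exact hne1531 (e1.trans e2.symm)

/-- If `t` is conjugate to `z`, both parameters are trivial. -/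
theorem params (ht : ∃ g : G, g * K.z * g⁻¹ = K.f 15) : e = false ∧ d = false := by
  classical
  by_contra hed
  have hed' : (e || d) = true := by
    cases e <;> cases d <;> simp at hed ⊢
  obtain ⟨g, hgt⟩ : ∃ g : G, g * K.f 15 * g⁻¹ = K.z := by
    obtain ⟨g₀, hg₀⟩ := ht
    exact ⟨g₀⁻¹, by rw [← hg₀]; group⟩
  set x' := g * K.z * g⁻¹ with hx'
  have htz : K.f 15 * K.z = K.z * K.f 15 := K.f_mem (by norm_num)
  have hx'z : x' * K.z = K.z * x' := by
    calc x' * K.z = g * K.z * g⁻¹ * (g * K.f 15 * g⁻¹) := by rw [hgt]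
      _ = g * (K.z * K.f 15) * g⁻¹ := by group
      _ = g * (K.f 15 * K.z) * g⁻¹ := by rw [htz]
      _ = g * K.f 15 * g⁻¹ * x' := by rw [hx']; group
      _ = _ := by rw [hgt]
  obtain ⟨m, hm, hmx⟩ := K.exists_f hx'z
  have hinj : Function.Injective (fun y : G => g * y * g⁻¹) := fun a b hab =>
    mul_left_cancel (mul_right_cancel hab)
  have hsets : ∀ (P : G → G → Prop), (∀ y x, P (g * y * g⁻¹) (g * x * g⁻¹) ↔ P y x) →
      {y : G | y * K.z = K.z * y ∧ y * x' = x' * y ∧ P y x'} =
        (fun y => g * y * g⁻¹) '' {y : G | y * K.z = K.z * y ∧ y * K.f 15 = K.f 15 * y ∧ P y K.z} := by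
    intro P hP
    ext y
    simp only [Set.mem_ofPred_eq, Set.mem_image]
    constructor
    · rintro ⟨h1, h2, h3⟩
      refine ⟨g⁻¹ * y * g, ⟨?_, ?_, ?_⟩, by group⟩
      · calc g⁻¹ * y * g * K.z = g⁻¹ * (y * x') * g := by rw [hx']; group
          _ = _ := by rw [h2, hx']; group
      · calc g⁻¹ * y * g * K.f 15 = g⁻¹ * (y * K.z) * g := by rw [← hgt]; group
          _ = _ := by rw [h1, ← hgt]; group
      · rw [← hP, show g * (g⁻¹ * y * g) * g⁻¹ = y by group]; exact h3
    · rintro ⟨w, ⟨h1, h2, h3⟩, rfl⟩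
      refine ⟨?_, ?_, (hP w K.z).2 h3⟩
      · calc g * w * g⁻¹ * K.z = g * (w * K.f 15) * g⁻¹ := by rw [← hgt]; group
          _ = _ := by rw [h2, ← hgt]; group
      · calc g * w * g⁻¹ * x' = g * (w * K.z) * g⁻¹ := by rw [hx']; group
          _ = _ := by rw [h1, hx']; group
  have hne : m ≠ 16 := fun e' => by
    rw [e', K.f_z] at hmx
    have : K.z = K.f 15 := hinj (show g * K.z * g⁻¹ = g * K.f 15 * g⁻¹ by rw [hgt, ← hx', hmx])
    rw [← K.f_z] at this
    exact absurd (K.f_inj (by norm_num) (by norm_num) this) (by norm_num)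
  have hal := (K.conj_allowed hm hmx.symm).resolve_left hne
  have hcc := cent_card e d
  simp only [Bool.and_eq_true] at hcc
  have h384 : {y : G | y * K.z = K.z * y ∧ y * x' = x' * y ∧ True}.ncard = 384 := by
    rw [hsets (fun _ _ => True) (fun _ _ => Iff.rfl), Set.ncard_image_of_injective _ hinj]
    simp only [and_true]
    rw [K.card_cent (by norm_num), Nat.eq_of_beq_eq_true hcc.1.1]
  have hm' : m = 15 ∨ m = 31 := by
    simp only [allowed, Bool.or_eq_true] at hal
    rcases hal with (h | h) | h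
    · exact Or.inl (Nat.eq_of_beq_eq_true h)
    · exact Or.inr (Nat.eq_of_beq_eq_true h)
    · exfalso
      simp only [and_true, ← hmx] at h384
      rw [K.card_cent hm] at h384
      have := els_all hcc.2 hm
      simp only [h, Bool.not_true, Bool.false_or] at this
      rw [Nat.eq_of_beq_eq_true this] at h384
      norm_num at h384
  have hroot : ∀ k, k < 768 → (rootsC e d k).length =
      {y : G | y * K.z = K.z * y ∧ y * K.f 15 = K.f 15 * y ∧ y * y = K.f k}.ncard := by
    intro k hk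
    have hs : {y : G | y * K.z = K.z * y ∧ y * K.f 15 = K.f 15 * y ∧ y * y = K.f k} =
        K.f '' ((rootsC e d k).toFinset : Set ℕ) := by
      ext y
      simp only [Set.mem_ofPred_eq, Set.mem_image, Finset.mem_coe, List.mem_toFinset, rootsC,
        List.mem_filter, mem_els, Bool.and_eq_true]
      constructor
      · rintro ⟨hz, h1, h2⟩
        obtain ⟨j, hj, rfl⟩ := K.exists_f hz
        exact ⟨j, ⟨hj, (K.cm_iff hj (by norm_num)).2 h1, (K.sq_iff hj hk).2 h2⟩, rfl⟩
      · rintro ⟨j, ⟨hj, h1, h2⟩, rfl⟩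
        exact ⟨K.f_mem hj, (K.cm_iff hj (by norm_num)).1 h1, (K.sq_iff hj hk).1 h2⟩
    have hnd : (rootsC e d k).Nodup := List.nodup_range.filter _
    rw [hs, Set.ncard_image_of_injOn, Set.ncard_coe_finset, List.toFinset_card_of_nodup hnd]
    intro a ha b hb h
    rw [Finset.mem_coe, List.mem_toFinset, rootsC, List.mem_filter, mem_els] at ha hb
    exact K.f_inj ha.1 hb.1 h
  have hsame : ∀ y : G, y * K.z = K.z * y → (y * x' = x' * y ↔ y * K.f 15 = K.f 15 * y) := by
    intro y hy
    rcases hm' with rfl | rfl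
    · rw [hmx]
    · have h31 : K.f 31 = K.z * K.f 15 := by
        have h := z_facts e d
        simp only [Bool.and_eq_true] at h
        rw [← K.f_z, K.f_mul (by norm_num) (by norm_num), Nat.eq_of_beq_eq_true h.1.1.2]
      rw [← hmx, h31, ← mul_assoc, hy, mul_assoc, mul_assoc, mul_left_cancel_iff]
  have h1 := hroot m hm
  rw [hmx] at h1
  have h2 := hroot 16 (by norm_num)
  rw [K.f_z] at h2
  have h3 := hsets (fun y x => y * y = x) (fun y x => by
    rw [show g * y * g⁻¹ * (g * y * g⁻¹) = g * (y * y) * g⁻¹ by group]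
    exact ⟨fun h => mul_left_cancel (mul_right_cancel h), fun h => by rw [h]⟩)
  have h4 : {y : G | y * K.z = K.z * y ∧ y * x' = x' * y ∧ y * y = x'} =
      {y : G | y * K.z = K.z * y ∧ y * K.f 15 = K.f 15 * y ∧ y * y = x'} :=
    Set.ext fun y => ⟨fun h => ⟨h.1, (hsame y h.1).1 h.2.1, h.2.2⟩,
      fun h => ⟨h.1, (hsame y h.1).2 h.2.1, h.2.2⟩⟩
  rw [← h4, h3, Set.ncard_image_of_injective _ hinj, ← h2] at h1
  have hr := roots_ne e d hed'
  simp only [Bool.and_eq_true, Bool.not_eq_true'] at hr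
  rcases hm' with rfl | rfl
  · rw [h1] at hr; simp at hr
  · rw [h1] at hr; simp at hr

end Cen

end Cfsg.Agent.AutL34Model54
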