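import Cfsg.Agent.Lib.AutL34Four54
import Cfsg.Agent.Lib.AutL34Loc54

/-!
# The local configuration in the subgroup of index four (towards S3237)
-/

set_option autoImplicit false
set_option maxRecDepth 10000

namespace Cfsg.Agent.AutL34Model54

open Subgroup
open Cfsg.Agent.AutL34Plane54 (Loc)

/-- The centre of the Sylow subgroup of order sixty-four. -/
def tI : List ℕ := [0, 15, 16, 31]

theorem tI_ok : (closedL tI && nodupL tI && Nat.beq tI.length 4 && Nat.beq (mu 16 15) 31) = true := by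
  decide +kernel

theorem wI_facts : closedL wI = true ∧ nodupL wI = true ∧ wI.length = 64 := by
  have h := w_ok
  simp only [Bool.and_eq_true] at h
  exact ⟨h.1.1, h.1.2, Nat.eq_of_beq_eq_true h.2⟩

theorem va_facts {l : List ℕ} (hl : l = vI ∨ l = aI) :
    closedL l = true ∧ nodupL l = true ∧ l.length = 16 ∧
      (∀ a ∈ l, a ∈ wI ∧ mu a a = 0) ∧ 16 ∈ l ∧ 15 ∈ l ∧ 31 ∈ l := by
  have h := va_ok
  simp only [Bool.and_eq_true, List.all_eq_true, memL_iff] at h
  obtain ⟨⟨⟨⟨⟨⟨⟨⟨⟨⟨⟨⟨⟨⟨⟨h1, h2⟩, h3⟩, h4⟩, h5⟩, h6⟩, h7⟩, h8⟩, -⟩, -⟩, h16v⟩, h16a⟩, h15v⟩, h15a⟩,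
    h31v⟩, h31a⟩ := h
  rcases hl with rfl | rfl
  · exact ⟨h1, h3, Nat.eq_of_beq_eq_true h5,
      fun a ha => ⟨(h7 a ha).1, Nat.eq_of_beq_eq_true (h7 a ha).2⟩, h16v, h15v, h31v⟩
  · exact ⟨h2, h4, Nat.eq_of_beq_eq_true h6,
      fun a ha => ⟨(h8 a ha).1, Nat.eq_of_beq_eq_true (h8 a ha).2⟩, h16a, h15a, h31a⟩

theorem va_inter {n : ℕ} (hv : n ∈ vI) (ha : n ∈ aI) : n ∈ tI := by
  have h := va_ok
  simp only [Bool.and_eq_true, List.all_eq_true] at h
  obtain ⟨⟨⟨⟨⟨⟨⟨-, hi⟩, -⟩, -⟩, -⟩, -⟩, -⟩, -⟩ := h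
  have h2 := hi n hv
  rw [memL_iff.2 ha] at h2
  simpa [memL_iff, tI] using h2

theorem tI_sub {n : ℕ} (h : n ∈ tI) : n ∈ vI ∧ n ∈ aI := by
  simp only [tI, List.mem_cons, List.not_mem_nil, or_false] at h
  rcases h with rfl | rfl | rfl | rfl <;> simp [vI, aI]

theorem inH2_facts : inH2 15 = true ∧ inH2 16 = true ∧ (els.filter inH2).length = 192 ∧
    ∀ n < 768, inH2 n = true → cmu n 15 = true := by
  have h := h2_ok
  simp only [Bool.and_eq_true, List.all_eq_true] at h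
  refine ⟨h.1.2, h.1.1.2, Nat.eq_of_beq_eq_true h.1.1.1.2, fun n hn hn2 => ?_⟩
  have := h.1.1.1.1 n (mem_els.2 hn)
  simpa [hn2] using this

namespace Four

variable {G : Type*} [Group G] [Finite G] {K : Cen G false false} {G2 : Subgroup G}

theorem mem_sub0 (hF : Four K G2) {l : List ℕ} (hl : closedL l = true) {x : G2} :
    x ∈ hF.sub0 l ↔ ∃ n ∈ l, K.f n = (x : G) := by
  rw [sub0, mem_subgroupOf, K.mem_sub hl]

theorem sub_le (hF : Four K G2) {l : List ℕ} (hl : closedL l = true)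
    (h : ∀ n ∈ l, inH2 n = true) : K.sub l ≤ G2 := by
  intro x hx
  obtain ⟨n, hn, rfl⟩ := (K.mem_sub hl).1 hx
  exact (hF.mem_iff n ((closedL_spec hl).2.1 n hn)).2 (h n hn)

theorem card_sub0 (hF : Four K G2) {l : List ℕ} (hl : closedL l = true) (hnd : nodupL l = true)
    (h : ∀ n ∈ l, inH2 n = true) : Nat.card (hF.sub0 l) = l.length := by
  rw [sub0, Nat.card_congr (subgroupOfEquivOfLe (hF.sub_le hl h)).toEquiv, K.card_sub hl hnd]

theorem inH2_va (hF : Four K G2) {l : List ℕ} (hl : l = vI ∨ l = aI) :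
    ∀ n ∈ l, inH2 n = true := by
  have := hF.index
  exact fun n hn => (mem_wI.1 ((va_facts hl).2.2.2.1 n hn).1).2.1

theorem exists_num (hF : Four K G2) {x : G2} (hx : (x : G) * K.z = K.z * x) :
    ∃ n < 768, inH2 n = true ∧ K.f n = (x : G) := by
  obtain ⟨n, hn, he⟩ := K.exists_f hx
  exact ⟨n, hn, (hF.mem_iff n hn).1 (he ▸ x.2), he⟩

theorem mem_cent_z0 (hF : Four K G2) {x : G2} :
    x ∈ centralizer ({hF.z0} : Set G2) ↔ ∃ n < 768, inH2 n = true ∧ K.f n = (x : G) := by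
  rw [mem_centralizer_singleton_iff]
  constructor
  · exact fun h => hF.exists_num (congrArg Subtype.val h)
  · rintro ⟨n, hn, -, he⟩
    apply Subtype.ext
    show (x : G) * K.z = K.z * x
    rw [← he]
    exact K.f_mem hn

theorem card_cent_z0 (hF : Four K G2) : Nat.card ↥(centralizer ({hF.z0} : Set G2)) = 192 := by
  classical
  let L := els.filter inH2
  have hL : ∀ n ∈ L.toFinset, n < 768 ∧ inH2 n = true := fun n hn => by
    rw [List.mem_toFinset, List.mem_filter, mem_els] at hn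
    exact hn
  let g : ↥L.toFinset → ↥(centralizer ({hF.z0} : Set G2)) := fun n =>
    ⟨⟨K.f n, (hF.mem_iff n (hL n n.2).1).2 (hL n n.2).2⟩,
      hF.mem_cent_z0.2 ⟨n, (hL n n.2).1, (hL n n.2).2, rfl⟩⟩
  have hg : Function.Bijective g := by
    constructor
    · intro a b h
      exact Subtype.ext (K.f_inj (hL a a.2).1 (hL b b.2).1
        (congrArg (fun y : ↥(centralizer ({hF.z0} : Set G2)) => ((y : G2) : G)) h))
    · rintro ⟨x, hx⟩
      obtain ⟨n, hn, h2, he⟩ := hF.mem_cent_z0.1 hx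
      exact ⟨⟨n, List.mem_toFinset.2 (List.mem_filter.2 ⟨mem_els.2 hn, h2⟩)⟩,
        Subtype.ext (Subtype.ext he)⟩
  rw [← Nat.card_eq_of_bijective g hg, Nat.card_eq_fintype_card, Fintype.card_coe,
    List.toFinset_card_of_nodup (List.Nodup.filter _ List.nodup_range : L.Nodup)]
  exact inH2_facts.2.2.1

/-- `G` is the product of the subgroup of index four and the centralizer of `z`. -/
theorem exists_mul (hF : Four K G2) (g : G) :
    ∃ a ∈ G2, ∃ c, c * K.z = K.z * c ∧ g = a * c := by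
  classical
  haveI := hF.normal
  set C := centralizer ({K.z} : Set G) with hC
  let φ : C →* G ⧸ G2 := (QuotientGroup.mk' G2).comp C.subtype
  have hker : φ.ker = G2.subgroupOf C := by
    ext x
    simp [φ, MonoidHom.mem_ker, mem_subgroupOf]
  have h192 : Nat.card (G2.subgroupOf C) = 192 := by
    rw [← hF.card_cent_z0]
    refine Nat.card_congr
      { toFun := fun x => ⟨⟨(x : C), x.2⟩, ?_⟩
        invFun := fun y => ⟨⟨((y : G2) : G), ?_⟩, (y : G2).2⟩
        left_inv := fun _ => rfl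
        right_inv := fun _ => rfl }
    · rw [mem_centralizer_singleton_iff]
      exact Subtype.ext (mem_centralizer_singleton_iff.1 (x : C).2)
    · exact mem_centralizer_singleton_iff.2
        (congrArg Subtype.val (mem_centralizer_singleton_iff.1 y.2))
  have h4 : φ.ker.index = 4 := by
    have h := Subgroup.card_mul_index (G2.subgroupOf C)
    rw [h192, hC, K.card_cent_z] at h
    rw [hker, hC]
    omega
  have htop : φ.range = ⊤ := by
    refine Subgroup.eq_top_of_card_eq _ ?_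
    rw [← Subgroup.index_ker, h4, ← Subgroup.index_eq_card, hF.index]
  obtain ⟨c, hc⟩ := MonoidHom.range_eq_top.1 htop (QuotientGroup.mk' G2 g)
  refine ⟨g * (c : G)⁻¹, ?_, c, mem_centralizer_singleton_iff.1 c.2, by group⟩
  rw [← QuotientGroup.eq_one_iff, QuotientGroup.mk_mul, QuotientGroup.mk_inv]
  have hc' : ((c : G) : G ⧸ G2) = (g : G ⧸ G2) := hc
  rw [hc', mul_inv_cancel]

/-- Conjugates of `z` in the subgroup of index four are conjugate there. -/
theorem isConj_z0 (hF : Four K G2) {x : G2} : IsConj hF.z0 x ↔ IsConj K.z (x : G) := by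
  constructor
  · intro h
    obtain ⟨a, rfl⟩ := isConj_iff.1 h
    exact isConj_iff.2 ⟨a, rfl⟩
  · intro h
    obtain ⟨g, hg⟩ := isConj_iff.1 h
    obtain ⟨a, ha, c, hc, rfl⟩ := hF.exists_mul g
    refine isConj_iff.2 ⟨⟨a, ha⟩, Subtype.ext ?_⟩
    show a * K.z * a⁻¹ = x
    rw [← hg]
    calc a * K.z * a⁻¹ = a * (c * K.z * c⁻¹) * a⁻¹ := by rw [hc]; group
      _ = _ := by group

theorem mem_inter (hF : Four K G2) {x : G2} :
    x ∈ hF.sub0 vI ⊓ hF.sub0 aI ↔ ∃ n ∈ tI, K.f n = (x : G) := by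
  have hv := va_facts (Or.inl (rfl : vI = vI))
  have ha := va_facts (Or.inr (rfl : aI = aI))
  rw [mem_inf, hF.mem_sub0 hv.1, hF.mem_sub0 ha.1]
  constructor
  · rintro ⟨⟨n, hn, he⟩, m, hm, hm'⟩
    have := K.f_inj ((closedL_spec hv.1).2.1 n hn) ((closedL_spec ha.1).2.1 m hm) (he.trans hm'.symm)
    subst this
    exact ⟨n, va_inter hn hm, he⟩
  · rintro ⟨n, hn, he⟩
    exact ⟨⟨n, (tI_sub hn).1, he⟩, n, (tI_sub hn).2, he⟩

/-- The elements of `T` other than `1` are conjugate to `z`. -/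
theorem isConj_of_inter (hF : Four K G2) (ht : ∃ g : G, g * K.z * g⁻¹ = K.f 15) {x : G2}
    (hx : x ∈ hF.sub0 vI ⊓ hF.sub0 aI) (hx1 : x ≠ 1) : IsConj hF.z0 x := by
  obtain ⟨n, hn, he⟩ := hF.mem_inter.1 hx
  rw [hF.isConj_z0, ← he]
  obtain ⟨g, hg⟩ := ht
  simp only [tI, List.mem_cons, List.not_mem_nil, or_false] at hn
  rcases hn with rfl | rfl | rfl | rfl
  · exact absurd (Subtype.ext (he.symm.trans K.f_zero)) hx1
  · exact isConj_iff.2 ⟨g, hg⟩
  · rw [K.f_z]
  · exact (isConj_iff.2 ⟨g, hg⟩).trans (isConj_iff.2 ⟨K.f 1, K.t_swap⟩)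

theorem cent_inter (hF : Four K G2) (ht : ∃ g : G, g * K.z * g⁻¹ = K.f 15) {x : G2}
    (hx : x ∈ hF.sub0 vI ⊓ hF.sub0 aI) (hx1 : x ≠ 1) :
    centralizer ({x} : Set G2) = centralizer ({hF.z0} : Set G2) := by
  have hle : centralizer ({hF.z0} : Set G2) ≤ centralizer ({x} : Set G2) := by
    intro y hy
    obtain ⟨n, hn, hn2, he⟩ := hF.mem_cent_z0.1 hy
    have h15 : K.f n * K.f 15 = K.f 15 * K.f n :=
      (K.cm_iff hn (by norm_num)).1 (inH2_facts.2.2.2 n hn hn2)
    have h16 : K.f n * K.z = K.z * K.f n := K.f_mem hn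
    obtain ⟨m, hm, hm'⟩ := hF.mem_inter.1 hx
    rw [mem_centralizer_singleton_iff]
    apply Subtype.ext
    show (y : G) * (x : G) = (x : G) * y
    rw [← he, ← hm']
    simp only [tI, List.mem_cons, List.not_mem_nil, or_false] at hm
    rcases hm with rfl | rfl | rfl | rfl
    · rw [K.f_zero, mul_one, one_mul]
    · exact h15
    · rw [K.f_z]; exact h16
    · have h31 : K.f 31 = K.z * K.f 15 := by
        have h := tI_ok
        simp only [Bool.and_eq_true] at h
        rw [← K.f_z, K.f_mul (by norm_num) (by norm_num)]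
        exact congrArg K.f (Nat.eq_of_beq_eq_true h.2).symm
      rw [h31, ← mul_assoc, h16, mul_assoc, h15, mul_assoc]
  obtain ⟨a, ha⟩ := isConj_iff.1 (hF.isConj_of_inter ht hx hx1)
  refine (Subgroup.eq_of_le_of_card_ge hle ?_).symm
  refine Nat.card_le_card_of_injective (fun y => ⟨a⁻¹ * (y : G2) * a, ?_⟩) ?_
  · have hy' := mem_centralizer_singleton_iff.1 y.2
    have hy : (y : G2) * (a * hF.z0 * a⁻¹) = a * hF.z0 * a⁻¹ * (y : G2) := by
      rw [ha]; exact hy'
    rw [mem_centralizer_singleton_iff]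
    calc a⁻¹ * (y : G2) * a * hF.z0 = a⁻¹ * ((y : G2) * (a * hF.z0 * a⁻¹)) * a := by group
      _ = a⁻¹ * (a * hF.z0 * a⁻¹ * (y : G2)) * a := by rw [hy]
      _ = _ := by group
  · intro u v h
    exact Subtype.ext (mul_left_cancel (mul_right_cancel (congrArg Subtype.val h :)))

theorem cent_le_normalizer (hF : Four K G2) :
    centralizer ({hF.z0} : Set G2) ≤ normalizer (hF.sub0 wI : Set G2) := by
  have key : ∀ y ∈ centralizer ({hF.z0} : Set G2), ∀ x ∈ hF.sub0 wI,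
      y * x * y⁻¹ ∈ hF.sub0 wI := by
    intro y hy x hx
    obtain ⟨n, hn, -, he⟩ := hF.mem_cent_z0.1 hy
    obtain ⟨m, hm, hm'⟩ := (hF.mem_sub0 wI_facts.1).1 hx
    have hm768 := (mem_wI.1 hm).1
    have hz : ((y * x * y⁻¹ : G2) : G) * K.z = K.z * ((y * x * y⁻¹ : G2) : G) := by
      have hxz : x ∈ centralizer ({hF.z0} : Set G2) :=
        hF.mem_cent_z0.2 ⟨m, hm768, (mem_wI.1 hm).2.1, hm'⟩
      exact congrArg Subtype.val (mem_centralizer_singleton_iff.1
        (mul_mem (mul_mem hy hxz) (inv_mem hy)))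
    obtain ⟨k, hk, hk2, hk'⟩ := hF.exists_num hz
    refine (hF.mem_sub0 wI_facts.1).2 ⟨k, mem_wI.2 ⟨hk, hk2, ?_⟩, hk'⟩
    have e : K.f (mu k n) = K.f (mu n m) := by
      rw [← K.f_mul hk hn, ← K.f_mul hn hm768, hk', he, hm', Subgroup.coe_mul, Subgroup.coe_mul,
        Subgroup.coe_inv]
      group
    have e' := K.f_inj (mul_lt _ _ hk hn) (mul_lt _ _ hn hm768) e
    have e'' := congrArg (· / 32) e'
    simp only [mu_div] at e''
    exact v4_normal _ (by omega) _ (by omega) _ (mem_wI.1 hm).2.2 e''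
  intro y hy
  rw [mem_normalizer_iff]
  intro x
  refine ⟨key y hy x, fun hx => ?_⟩
  have := key y⁻¹ (inv_mem hy) _ hx
  simpa [mul_assoc] using this

theorem exists_sylow0 (hF : Four K G2) (hS : ∃ P : Sylow 2 G, (P : Subgroup G) = K.sub sylI) :
    ∃ T : Sylow 2 G2, (T : Subgroup G2) = hF.sub0 wI := by
  haveI : Fact (Nat.Prime 2) := ⟨Nat.prime_two⟩
  obtain ⟨hw, hnd, hlen⟩ := wI_facts
  obtain ⟨P, hP⟩ := hS
  have h256 : Nat.card (P : Subgroup G) = 256 := by
    have h := syl_ok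
    simp only [Bool.and_eq_true] at h
    rw [hP, K.card_sub syl_closed h.1.1, Nat.eq_of_beq_eq_true h.1.2]
  have h64 : Nat.card (hF.sub0 wI) = 64 := by
    rw [hF.card_sub0 hw hnd (fun n hn => (mem_wI.1 hn).2.1), hlen]
  have hodd : ¬ 2 ∣ (P : Subgroup G).index := P.not_dvd_index
  have h1 := Subgroup.card_mul_index (hF.sub0 wI)
  have h2 := Subgroup.card_mul_index G2
  have h3 := Subgroup.card_mul_index (P : Subgroup G)
  rw [h64] at h1
  rw [hF.index, ← h1] at h2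
  rw [h256, ← h2] at h3
  have hni : ¬ 2 ∣ (hF.sub0 wI).index := by omega
  exact ⟨(IsPGroup.of_card (p := 2) (n := 6) (by rw [h64]; rfl)).toSylow hni,
    IsPGroup.toSylow_coe _ _⟩

theorem orbit (hF : Four K G2) {l l' : List ℕ} (hl : l = vI ∧ l' = aI ∨ l = aI ∧ l' = vI) {x y : G2}
    (hx : x ∈ hF.sub0 l) (hy : y ∈ hF.sub0 l) (hxA : x ∉ hF.sub0 l') (hyA : y ∉ hF.sub0 l') :
    ∃ c ∈ centralizer ({hF.z0} : Set G2), c * x * c⁻¹ = y := by
  have hcl : closedL l = true ∧ closedL l' = true := by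
    rcases hl with ⟨rfl, rfl⟩ | ⟨rfl, rfl⟩
    · exact ⟨(va_facts (Or.inl rfl)).1, (va_facts (Or.inr rfl)).1⟩
    · exact ⟨(va_facts (Or.inr rfl)).1, (va_facts (Or.inl rfl)).1⟩
  obtain ⟨a, ha, hax⟩ := (hF.mem_sub0 hcl.1).1 hx
  obtain ⟨b, hb, hby⟩ := (hF.mem_sub0 hcl.1).1 hy
  have hna : memL a l' ≠ true := fun h => hxA ((hF.mem_sub0 hcl.2).2 ⟨a, memL_iff.1 h, hax⟩)
  have hnb : memL b l' ≠ true := fun h => hyA ((hF.mem_sub0 hcl.2).2 ⟨b, memL_iff.1 h, hby⟩)
  have h := va_orbit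
  simp only [Bool.and_eq_true, List.all_eq_true, Bool.or_eq_true] at h
  have key : (els.any fun c => inH2 c && Nat.beq (mu c a) (mu b c)) = true := by
    rcases hl with ⟨rfl, rfl⟩ | ⟨rfl, rfl⟩
    · have h2 := (h.1 a ha).resolve_left hna
      exact (h2 b hb).resolve_left hnb
    · have h2 := (h.2 a ha).resolve_left hna
      exact (h2 b hb).resolve_left hnb
  obtain ⟨c, hc, hc'⟩ := els_any key
  simp only [Bool.and_eq_true] at hc'
  refine ⟨⟨K.f c, (hF.mem_iff c hc).2 hc'.1⟩, hF.mem_cent_z0.2 ⟨c, hc, hc'.1, rfl⟩, Subtype.ext ?_⟩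
  show K.f c * (x : G) * (K.f c)⁻¹ = y
  rw [← hax, ← hby, mul_inv_eq_iff_eq_mul, K.f_mul hc ((closedL_spec hcl.1).2.1 a ha),
    K.f_mul ((closedL_spec hcl.1).2.1 b hb) hc]
  exact congrArg K.f (Nat.eq_of_beq_eq_true hc'.2)

theorem cent_side (hF : Four K G2) {l : List ℕ} (hl : l = vI ∨ l = aI) :
    centralizer (hF.sub0 l : Set G2) = hF.sub0 l := by
  obtain ⟨hcl, -, -, hall, h16, -, -⟩ := va_facts hl
  have hsq : ∀ u ∈ hF.sub0 l, u * u = 1 := by
    intro u hu
    obtain ⟨n, hn, he⟩ := (hF.mem_sub0 hcl).1 hu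
    apply Subtype.ext
    show (u : G) * (u : G) = 1
    rw [← he, K.f_mul ((closedL_spec hcl).2.1 n hn) ((closedL_spec hcl).2.1 n hn), ← K.f_zero]
    exact congrArg K.f (hall n hn).2
  refine le_antisymm (fun x hx => ?_) (fun u hu => mem_centralizer_iff.2 fun v hv => ?_)
  · rw [mem_centralizer_iff] at hx
    have hz : hF.z0 ∈ hF.sub0 l := (hF.mem_sub0 hcl).2 ⟨16, h16, K.f_z⟩
    obtain ⟨n, hn, hn2, he⟩ :=
      hF.exists_num (x := x) (congrArg Subtype.val (hx _ hz)).symm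
    have hcomm : l.all (fun a => cmu n a) = true := by
      rw [List.all_eq_true]
      intro a ha
      have ha768 := (closedL_spec hcl).2.1 a ha
      have hm : (⟨K.f a, (hF.mem_iff a ha768).2 (hF.inH2_va hl a ha)⟩ : G2) ∈ hF.sub0 l :=
        (hF.mem_sub0 hcl).2 ⟨a, ha, rfl⟩
      rw [K.cm_iff hn ha768, he]
      exact (congrArg Subtype.val (hx _ hm)).symm
    have h := els_all va_cent hn
    simp only [hn2, Bool.not_true, Bool.false_or, Bool.and_eq_true, Bool.or_eq_true,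
      Bool.not_eq_true', memL_iff] at h
    refine (hF.mem_sub0 hcl).2 ⟨n, ?_, he⟩
    rcases hl with rfl | rfl
    · exact h.1.resolve_left (by rw [hcomm]; decide)
    · exact h.2.resolve_left (by rw [hcomm]; decide)
  · have h1 := hsq _ (mul_mem hv hu)
    calc v * u = v * u * (u * v * (u * v)⁻¹) := by group
      _ = v * (u * u) * v * (u * v)⁻¹ := by group
      _ = (u * v)⁻¹ := by rw [hsq u hu, mul_one, hsq v hv, one_mul]
      _ = u * v := inv_eq_of_mul_eq_one_left (hsq _ (mul_mem hu hv))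

/-- The local configuration. -/
theorem loc_of_four (hF : Four K G2) (hS : ∃ P : Sylow 2 G, (P : Subgroup G) = K.sub sylI)
    (ht : ∃ g : G, g * K.z * g⁻¹ = K.f 15) :
    Loc (hF.sub0 vI) (hF.sub0 aI) (hF.sub0 wI) hF.z0 := by
  obtain ⟨hv, hvn, hvl, hvall, hv16, -, -⟩ := va_facts (Or.inl (rfl : vI = vI))
  obtain ⟨ha, han, hal, haall, ha16, -, -⟩ := va_facts (Or.inr (rfl : aI = aI))
  obtain ⟨hw, hwn, hwl⟩ := wI_facts
  have hle : ∀ {l : List ℕ}, closedL l = true → (∀ n ∈ l, n ∈ wI) → hF.sub0 l ≤ hF.sub0 wI := by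
    intro l hl h x hx
    obtain ⟨n, hn, he⟩ := (hF.mem_sub0 hl).1 hx
    exact (hF.mem_sub0 hw).2 ⟨n, h n hn, he⟩
  have hsq : ∀ {l : List ℕ}, closedL l = true → (∀ n ∈ l, mu n n = 0) →
      ∀ u ∈ hF.sub0 l, u * u = 1 := by
    intro l hl h u hu
    obtain ⟨n, hn, he⟩ := (hF.mem_sub0 hl).1 hu
    apply Subtype.ext
    show (u : G) * (u : G) = 1
    rw [← he, K.f_mul ((closedL_spec hl).2.1 n hn) ((closedL_spec hl).2.1 n hn), ← K.f_zero]
    exact congrArg K.f (h n hn)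
  have htI := tI_ok
  simp only [Bool.and_eq_true] at htI
  have hinter : hF.sub0 vI ⊓ hF.sub0 aI = hF.sub0 tI := by
    ext x
    rw [hF.mem_inter, hF.mem_sub0 htI.1.1.1]
  have hws := w_struct
  simp only [Bool.and_eq_true, List.all_eq_true] at hws
  exact
    { sylow := hF.exists_sylow0 hS
      card_S := by rw [hF.card_sub0 hw hwn (fun n hn => (mem_wI.1 hn).2.1), hwl]
      V_le := hle hv fun n hn => (hvall n hn).1
      A_le := hle ha fun n hn => (haall n hn).1
      card_V := by rw [hF.card_sub0 hv hvn (hF.inH2_va (Or.inl rfl)), hvl]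
      card_A := by rw [hF.card_sub0 ha han (hF.inH2_va (Or.inr rfl)), hal]
      sq_V := hsq hv fun n hn => (hvall n hn).2
      sq_A := hsq ha fun n hn => (haall n hn).2
      card_inter := by
        rw [hinter, hF.card_sub0 htI.1.1.1 htI.1.1.2
          fun n hn => hF.inH2_va (Or.inl rfl) n (tI_sub hn).1, Nat.eq_of_beq_eq_true htI.1.2]
      center_S := by
        ext x
        rw [mem_inf, hF.mem_inter]
        constructor
        · rintro ⟨hxS, hxc⟩
          obtain ⟨n, hn, he⟩ := (hF.mem_sub0 hw).1 hxS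
          have hall : wI.all (fun m => cmu n m) = true := by
            rw [List.all_eq_true]
            intro m hm
            have hm768 := (mem_wI.1 hm).1
            rw [K.cm_iff (mem_wI.1 hn).1 hm768, he]
            exact (congrArg Subtype.val (mem_centralizer_iff.1 hxc
              ⟨K.f m, (hF.mem_iff m hm768).2 (mem_wI.1 hm).2.1⟩
              ((hF.mem_sub0 hw).2 ⟨m, hm, rfl⟩))).symm
          have h := hws.2 n hn
          rw [hall, beq_iff_eq] at h
          exact ⟨n, memL_iff.1 h.symm, he⟩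
        · rintro ⟨n, hn, he⟩
          have hnw : n ∈ wI := (hvall n (tI_sub hn).1).1
          refine ⟨(hF.mem_sub0 hw).2 ⟨n, hnw, he⟩, mem_centralizer_iff.2 fun y hy => ?_⟩
          obtain ⟨m, hm, hm'⟩ := (hF.mem_sub0 hw).1 hy
          have h := hws.2 n hnw
          rw [show memL n [0, 15, 16, 31] = true from memL_iff.2 hn, beq_iff_eq,
            List.all_eq_true] at h
          apply Subtype.ext
          show (y : G) * (x : G) = (x : G) * y
          rw [← he, ← hm']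
          exact ((K.cm_iff (mem_wI.1 hnw).1 (mem_wI.1 hm).1).1 (h m hm)).symm
      involutions := fun x hx hxx => by
        obtain ⟨n, hn, he⟩ := (hF.mem_sub0 hw).1 hx
        have hn768 := (mem_wI.1 hn).1
        have h2 : Nat.beq (mu n n) 0 = true := by
          rw [K.sq_iff hn768 (by norm_num), he, K.f_zero]
          exact congrArg Subtype.val hxx
        have h := hws.1 n hn
        simp only [h2, Bool.not_true, Bool.false_or, Bool.or_eq_true, memL_iff] at h
        exact h.imp (fun h => (hF.mem_sub0 hv).2 ⟨n, h, he⟩)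
          fun h => (hF.mem_sub0 ha).2 ⟨n, h, he⟩
      cent_V := hF.cent_side (Or.inl rfl)
      cent_A := hF.cent_side (Or.inr rfl)
      mem_z := mem_inf.2 ⟨(hF.mem_sub0 hv).2 ⟨16, hv16, K.f_z⟩,
        (hF.mem_sub0 ha).2 ⟨16, ha16, K.f_z⟩⟩
      z_ne := fun h => K.z_ne (congrArg Subtype.val h)
      cent := fun x hx hx1 => by
        rw [hF.cent_inter ht hx hx1]
        exact ⟨hF.card_cent_z0, hF.cent_le_normalizer⟩
      fused := fun x hx y hy hx1 hy1 => isConj_iff.1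
        ((hF.isConj_of_inter ht hx hx1).symm.trans (hF.isConj_of_inter ht hy hy1))
      orbit_V := fun x hx y hy hxA hyA => hF.orbit (Or.inl ⟨rfl, rfl⟩) hx hy hxA hyA
      orbit_A := fun x hx y hy hxA hyA => hF.orbit (Or.inr ⟨rfl, rfl⟩) hx hy hxA hyA }

/-- The outer involutions of both sides are conjugate in `G` to the representative `224`. -/
theorem isConj_w (hF : Four K G2) {l l' : List ℕ} (hl : l = vI ∧ l' = aI ∨ l = aI ∧ l' = vI)
    {x : G2} (hx : x ∈ hF.sub0 l) (hxA : x ∉ hF.sub0 l') : IsConj (K.f 224) (x : G) := by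
  have hcl : closedL l = true ∧ closedL l' = true := by
    rcases hl with ⟨rfl, rfl⟩ | ⟨rfl, rfl⟩
    · exact ⟨(va_facts (Or.inl rfl)).1, (va_facts (Or.inr rfl)).1⟩
    · exact ⟨(va_facts (Or.inr rfl)).1, (va_facts (Or.inl rfl)).1⟩
  obtain ⟨a, ha, hax⟩ := (hF.mem_sub0 hcl.1).1 hx
  have hna : memL a l' ≠ true := fun h => hxA ((hF.mem_sub0 hcl.2).2 ⟨a, memL_iff.1 h, hax⟩)
  have h := w_isW
  simp only [Bool.and_eq_true, List.all_eq_true, Bool.or_eq_true] at h
  have hW : isW false false a = true := by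
    rcases hl with ⟨rfl, rfl⟩ | ⟨rfl, rfl⟩
    · exact (h.1.1.1 a ha).resolve_left hna
    · exact (h.1.1.2 a ha).resolve_left hna
  obtain ⟨c, -, hc⟩ := K.isW_isConj (by norm_num : 224 < 768)
    ((closedL_spec hcl.1).2.1 a ha) h.1.2 hW
  exact isConj_iff.2 ⟨c, hc.trans hax⟩

set_option linter.unusedVariables false in
/-- If `z` is fused to `224`, the outer involutions of both sides are conjugate to `z`. -/
theorem fused_of_w (hF : Four K G2) (hS : ∃ P : Sylow 2 G, (P : Subgroup G) = K.sub sylI)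
    (ht : ∃ g : G, g * K.z * g⁻¹ = K.f 15) (hw : ∃ g : G, g * K.z * g⁻¹ = K.f 224) :
    (∀ x ∈ hF.sub0 vI, x ∉ hF.sub0 aI → IsConj hF.z0 x) ∧
      ∀ x ∈ hF.sub0 aI, x ∉ hF.sub0 vI → IsConj hF.z0 x :=
  ⟨fun _ hx hxA => hF.isConj_z0.2
      ((isConj_iff.2 hw).trans (hF.isConj_w (Or.inl ⟨rfl, rfl⟩) hx hxA)),
    fun _ hx hxA => hF.isConj_z0.2
      ((isConj_iff.2 hw).trans (hF.isConj_w (Or.inr ⟨rfl, rfl⟩) hx hxA))⟩

set_option linter.unusedVariables false in
/-- If `z` is not fused to `224`, no outer involution of either side is conjugate to `z`. -/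
theorem not_fused_of_w (hF : Four K G2) (hS : ∃ P : Sylow 2 G, (P : Subgroup G) = K.sub sylI)
    (ht : ∃ g : G, g * K.z * g⁻¹ = K.f 15) (hw : ¬ ∃ g : G, g * K.z * g⁻¹ = K.f 224) :
    (∀ x ∈ hF.sub0 vI, x ∉ hF.sub0 aI → ¬ IsConj hF.z0 x) ∧
      ∀ x ∈ hF.sub0 aI, x ∉ hF.sub0 vI → ¬ IsConj hF.z0 x :=
  ⟨fun _ hx hxA hc => hw (isConj_iff.1
      ((hF.isConj_z0.1 hc).trans (hF.isConj_w (Or.inl ⟨rfl, rfl⟩) hx hxA).symm)),
    fun _ hx hxA hc => hw (isConj_iff.1
      ((hF.isConj_z0.1 hc).trans (hF.isConj_w (Or.inr ⟨rfl, rfl⟩) hx hxA).symm))⟩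

end Four

end Cfsg.Agent.AutL34Model54
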