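import Cfsg.Agent.Lib.AutL34Model54

/-!
# Kernel checked facts about the centralizer models

`16` is the central involution `z`, `15` the involution `t = a₁a₂a₃a₄` and `31 = z t`.
-/

set_option autoImplicit false

namespace Cfsg.Agent.AutL34Model54

/-- The elements. -/
def els : List ℕ := List.range 768

/-- Commutation in the model. -/
def cm (e d : Bool) (n m : ℕ) : Bool := Nat.beq (mul e d n m) (mul e d m n)

/-- An involution of the model. -/
def inv2 (e d : Bool) (n : ℕ) : Bool := Nat.beq (mul e d n n) 0 && !Nat.beq n 0

/-- Involutions outside `E` over a double transposition and centralising `t`. -/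
def isW (e d : Bool) (n : ℕ) : Bool :=
  inv2 e d n && cm e d n 15 && (Nat.beq (n / 32) 7 || Nat.beq (n / 32) 16 || Nat.beq (n / 32) 23)

/-- The candidates for conjugates of `z` other than `z`. -/
def allowed (e d : Bool) (n : ℕ) : Bool := Nat.beq n 15 || Nat.beq n 31 || isW e d n

/-- The centralizer of `n` as a list. -/
def centL (e d : Bool) (n : ℕ) : List ℕ := els.filter (cm e d n)

/-- The square roots of `n` in `C(t)`. -/
def rootsC (e d : Bool) (n : ℕ) : List ℕ :=
  els.filter fun y => cm e d y 15 && Nat.beq (mul e d y y) n

/-- The marking property of `t` inside the centralizer of an element of `isW`. -/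
def markP (e d : Bool) (Q : List ℕ) (u : ℕ) : Bool :=
  Nat.beq (Q.filter (cm e d u)).length 16 && (Q.filter (cm e d u)).all fun y => Nat.beq (mul e d y y) 0

theorem z_facts : ∀ e d : Bool, (inv2 e d 16 && inv2 e d 15 && inv2 e d 31 &&
    (els.all fun n => cm e d n 16) && Nat.beq (mul e d 16 15) 31 && cm e d 15 31 &&
    (els.all fun n => Nat.beq (mul e d n n) 0 || !Nat.beq (mul e d n 16) 0)) = true := by
  decide +kernel

/-- `z` is a square in the centralizer of every involution. -/
theorem z_square : ∀ e d : Bool, (els.all fun n => !inv2 e d n ||
    els.any fun y => Nat.beq (mul e d y y) 16 && cm e d y n) = true := by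
  decide +kernel

/-- An involution that is a square in its centralizer is `z` or `allowed`. -/
theorem square_allowed : ∀ e d : Bool, (els.all fun n => !inv2 e d n || Nat.beq n 16 ||
    allowed e d n || els.all fun y => !Nat.beq (mul e d y y) n) = true := by
  decide +kernel

/-- The elements of `isW` are conjugate. -/
theorem isW_conj : ∀ e d : Bool, (els.all fun n => !isW e d n ||
    els.all fun m => !isW e d m || els.any fun g => Nat.beq (mul e d g n) (mul e d m g)) = true := by
  decide +kernel

/-- The centralizer of `t` has order `384`, those of the elements of `isW` order `32`. -/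
theorem cent_card : ∀ e d : Bool, (Nat.beq (centL e d 15).length 384 &&
    Nat.beq (centL e d 31).length 384 &&
    els.all fun n => !isW e d n || Nat.beq (centL e d n).length 32) = true := by
  decide +kernel

/-- The roots of `z`, `t` and `z t` in `C(t)`. -/
theorem roots_ne : ∀ e d : Bool, (e || d) = true →
    (!Nat.beq (rootsC e d 16).length (rootsC e d 15).length &&
     !Nat.beq (rootsC e d 16).length (rootsC e d 31).length) = true := by
  decide +kernel

/-- In the centralizer of an element of `isW`, `t` and `z t` are recognisable. -/
theorem mark : ∀ e d : Bool, (els.all fun w => !isW e d w ||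
    (markP e d (centL e d w) 15 && markP e d (centL e d w) 31 && cm e d w 15 &&
      (centL e d w).all fun u => !inv2 e d u || Nat.beq u 16 || isW e d u ||
        Nat.beq u 15 || Nat.beq u 31 || !markP e d (centL e d w) u)) = true := by
  decide +kernel

end Cfsg.Agent.AutL34Model54
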