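import Cfsg.Agent.Lib.AutL34Plane54Triangle
import Cfsg.Agent.S1225

/-!
# All points are collinear: the global structure of the geometry of `Flags`
-/

set_option autoImplicit false
set_option linter.unusedSectionVars false

namespace Cfsg.Agent.AutL34Plane54

open Subgroup Cfsg.Agent.CIT21

variable {G : Type*} [Group G] [Finite G] {V A S p q l : Subgroup G}

theorem col_refl (hf : Flags V A S) (hp : IsPt A p) : Col V A p p := by
  obtain ⟨m, hm, -⟩ := exists_ne_line hf hp ⊥
  exact ⟨m, hm, hm⟩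

section


/-- The class of `A` under collinearity has `21` points. -/
theorem ncard_class (hf : Flags V A S) : {q | Col V A A q}.ncard = 21 := by
  classical
  have hA : IsPt A A := ⟨1, (cj_one A).symm⟩
  have e : {q | Col V A A q} = insert A {q | Col V A A q ∧ q ≠ A} := by
    ext q
    constructor
    · intro h
      by_cases e : q = A
      · exact Or.inl e
      · exact Or.inr ⟨h, e⟩
    · rintro (rfl | h)
      · exact col_refl hf hA
      · exact h.1
  rw [e, Set.ncard_insert_of_notMem (by simp)]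
  have : Fintype {l // Inc V A A l} := Fintype.ofFinite _
  let f : (Σ l : {l // Inc V A A l}, {q | Inc V A q l.1 ∧ q ≠ A}) →
      {q | Col V A A q ∧ q ≠ A} := fun x => ⟨x.2.1, ⟨x.1.1, x.1.2, x.2.2.1⟩, x.2.2.2⟩
  have hf' : Function.Bijective f := by
    constructor
    · rintro ⟨⟨l, hl⟩, ⟨x, hx, hxA⟩⟩ ⟨⟨m, hm⟩, ⟨y, hy, hyA⟩⟩ e
      obtain rfl : x = y := congrArg Subtype.val e
      obtain rfl : l = m := (two_lines hf hl hx hm hy).resolve_left (Ne.symm hxA)
      rfl
    · rintro ⟨x, ⟨l, hl, hx⟩, hxA⟩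
      exact ⟨⟨⟨l, hl⟩, ⟨x, hx, hxA⟩⟩, rfl⟩
  have h20 : {q | Col V A A q ∧ q ≠ A}.ncard = 20 := by
    rw [← Nat.card_coe_set_eq, ← Nat.card_eq_of_bijective f hf', Nat.card_sigma,
      Finset.sum_congr rfl (fun l _ => by rw [Nat.card_coe_set_eq, ncard_pts_ne hf l.2]),
      Finset.sum_const, Finset.card_univ, smul_eq_mul, ← Nat.card_eq_fintype_card]
    have := ncard_lines_base hf
    rw [← Nat.card_coe_set_eq] at this
    exact congrArg (· * 4) this
  rw [h20]

/-- The stabiliser of the class of `A`. -/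
def classStab (hf : Flags V A S) : Subgroup G where
  carrier := {g | Col V A A (cj g A)}
  one_mem' := by
    show Col V A A (cj 1 A)
    rw [cj_one]; exact col_refl hf ⟨1, (cj_one A).symm⟩
  mul_mem' {a b} ha hb := by
    show Col V A A (cj (a * b) A)
    have := Col.cj hb a
    rw [cj_cj] at this
    exact collinear_trans hf ha this
  inv_mem' {a} ha := by
    show Col V A A (cj a⁻¹ A)
    have := Col.cj (Col.symm ha) a⁻¹
    rwa [cj_inv] at this

theorem mem_classStab (hf : Flags V A S) {g : G} :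
    g ∈ classStab hf ↔ Col V A A (cj g A) := Iff.rfl

theorem normalizer_le_classStab (hf : Flags V A S) :
    normalizer (A : Set G) ≤ classStab hf := by
  intro g hg
  rw [mem_classStab, mem_norm_iff.1 hg]
  exact col_refl hf ⟨1, (cj_one A).symm⟩

/-- An involution lies in the class stabiliser iff its centre lies in the class. -/
theorem invol_mem_iff (hf : Flags V A S) {u : G} (hu : orderOf u = 2) (hq : IsPt A q)
    (huq : u ∈ q) : u ∈ classStab hf ↔ Col V A A q := by
  have : Fact (Nat.Prime 2) := ⟨Nat.prime_two⟩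
  constructor
  · intro hu'
    have hinv : ∀ x ∈ {q | Col V A A q}, cj u x ∈ {q | Col V A A q} := fun x hx =>
      collinear_trans hf hu' (Col.cj hx u)
    obtain ⟨p, hp, ep⟩ := perm_fixed (r := 2) (g := u) (by rw [← hu]; exact pow_orderOf_eq_one u)
      hinv (by rw [ncard_class hf]; decide)
    have hu1 : u ≠ 1 := fun e => by rw [e, orderOf_one] at hu; omega
    have huu : u * u = 1 := by
      have := pow_orderOf_eq_one u
      rwa [hu, pow_two] at this
    obtain ⟨l0, -, hpl0⟩ := id hp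
    rcases mem_of_fix_pt hf hpl0.isPt huu ep with h | ⟨m, hm, hum⟩
    · rwa [← pt_unique_mem hf hpl0.isPt hq hu1 h huq]
    · exact collinear_trans hf hp ⟨m, hm, meet_inc hf hq hm.isLn hu1 huq hum⟩
  · intro h
    have := Col.cj h u
    rw [cj_self huq] at this
    exact collinear_trans hf h (Col.symm this)

theorem card_classStab (hf : Flags V A S) : Nat.card (classStab hf) = 60480 := by
  letI : MulAction G (Subgroup G) :=
    { smul := cj, one_smul := cj_one, mul_smul := fun g h H => (cj_cj g h H).symm }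
  have horb : MulAction.orbit (classStab hf) A = {q | Col V A A q} := by
    ext q
    constructor
    · rintro ⟨⟨g, hg⟩, rfl⟩
      exact hg
    · intro h
      obtain ⟨l, -, hl⟩ := id h
      obtain ⟨g, rfl⟩ := hl.isPt
      exact ⟨⟨g, h⟩, rfl⟩
  have hst : MulAction.stabilizer (classStab hf) A
      = (normalizer (A : Set G)).subgroupOf (classStab hf) := by
    ext g
    rw [MulAction.mem_stabilizer_iff, mem_subgroupOf, mem_norm_iff]
    rfl
  rw [← (MulAction.stabilizer (classStab hf) A).card_mul_index, MulAction.index_stabilizer, horb,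
    ncard_class hf, hst,
    Nat.card_congr (subgroupOfEquivOfLe (normalizer_le_classStab hf)).toEquiv, hf.side_A.card_N]

theorem ncard_invol (hf : Flags V A S) :
    {x : G | orderOf x = 2 ∧ x ∈ classStab hf}.ncard = 315 := by
  classical
  have hpt : ∀ {q}, Col V A A q → IsPt A q := fun ⟨_, _, h⟩ => h.isPt
  have ho : ∀ {q x}, IsPt A q → x ∈ q → x ≠ 1 → orderOf x = 2 := by
    rintro q x ⟨g, rfl⟩ hx h1
    exact orderOf_two_cj hf.swap hx h1
  have : Fintype {q // Col V A A q} := Fintype.ofFinite _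
  let F : (Σ q : {q // Col V A A q}, {x : G | x ∈ q.1 ∧ x ≠ 1}) →
      {x : G | orderOf x = 2 ∧ x ∈ classStab hf} := fun z =>
    ⟨z.2.1, ho (hpt z.1.2) z.2.2.1 z.2.2.2,
      (invol_mem_iff hf (ho (hpt z.1.2) z.2.2.1 z.2.2.2) (hpt z.1.2) z.2.2.1).2 z.1.2⟩
  have hF : Function.Bijective F := by
    constructor
    · rintro ⟨⟨q, hq⟩, ⟨x, hx, hx1⟩⟩ ⟨⟨r, hr⟩, ⟨y, hy, hy1⟩⟩ e
      obtain rfl : x = y := congrArg Subtype.val e
      obtain rfl : q = r := pt_unique_mem hf (hpt hq) (hpt hr) hx1 hx hy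
      rfl
    · rintro ⟨x, hx2, hxK⟩
      obtain ⟨q, l, hql, hxq, -⟩ := exists_flag_invol hf hx2
      exact ⟨⟨⟨q, (invol_mem_iff hf hx2 hql.isPt hxq).1 hxK⟩,
        ⟨x, hxq, fun h => by rw [h, orderOf_one] at hx2; omega⟩⟩, rfl⟩
  have h15 : ∀ q : {q // Col V A A q}, Nat.card {x : G | x ∈ q.1 ∧ x ≠ 1} = 15 := by
    rintro ⟨q, hq⟩
    obtain ⟨g, rfl⟩ := hpt hq
    rw [Nat.card_coe_set_eq,
      show {x : G | x ∈ cj g A ∧ x ≠ 1} = ((cj g A : Subgroup G) : Set G) \ {1} by ext x; simp,
      Set.ncard_sdiff_singleton_of_mem (one_mem _), ← Nat.card_coe_set_eq, SetLike.coe_sort_coe,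
      card_cj, card_A hf]
  have h21 : Fintype.card {q // Col V A A q} = 21 := by
    rw [← Nat.card_eq_fintype_card]
    exact (Nat.card_coe_set_eq {q | Col V A A q}).trans (ncard_class hf)
  rw [← Nat.card_coe_set_eq, ← Nat.card_eq_of_bijective F hF, Nat.card_sigma,
    Finset.sum_congr rfl (fun q _ => h15 q), Finset.sum_const, Finset.card_univ, h21, smul_eq_mul]

/-- A flag is fixed by no element of order `5`. -/
theorem five_fix (hf : Flags V A S) {f : G} (h5 : orderOf f = 5) (hpq : Col V A p q)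
    (hp : cj f p = p) (hq : cj f q = q) : p = q := by
  by_contra hne
  obtain ⟨l, hl, hl'⟩ := hpq
  have e : cj f l = l := by
    have a1 : Inc V A p (cj f l) := by have := hl.cj f; rwa [hp] at this
    have a2 : Inc V A q (cj f l) := by have := hl'.cj f; rwa [hq] at this
    exact ((two_lines hf hl hl' a1 a2).resolve_left hne).symm
  obtain ⟨k, rfl, rfl⟩ := hl
  set y := k⁻¹ * f * k with hy
  have hyA : cj y A = A := by rw [hy, mul_assoc, ← cj_cj, ← cj_cj, hp, cj_inv]
  have hyV : cj y V = V := by rw [hy, mul_assoc, ← cj_cj, ← cj_cj, e, cj_inv]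
  have hyS : cj y S = S := by
    have := flag_syl hf (g := y) (h := 1) (by rw [hyA, cj_one]) (by rw [hyV, cj_one])
    rwa [cj_one] at this
  letI : MulAction G (Subgroup G) :=
    { smul := cj, one_smul := cj_one, mul_smul := fun g h H => (cj_cj g h H).symm }
  have horb : MulAction.orbit (normalizer (A : Set G)) S =
      {R | IsSyl (normalizer (A : Set G)) A 4 R} := by
    ext R
    constructor
    · rintro ⟨⟨g, hg⟩, rfl⟩
      refine ⟨fun x hx => ?_, isPGroup_cj (pGroup_S hf),
        show Nat.card (cj g S) = _ by rw [card_cj, hf.card_S, card_A hf]⟩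
      rw [← mem_norm_iff.1 hg, norm_cj]
      exact normA hf (mem_cj.1 hx)
    · intro hR
      obtain ⟨g, hg, hgR⟩ := hf.side_A.syl_conj S R (sylS hf) hR
      exact ⟨⟨g, hg⟩, hgR⟩
  have hc := (MulAction.stabilizer (normalizer (A : Set G)) S).card_mul_index
  rw [MulAction.index_stabilizer, horb, hf.side_A.card_N, ← Nat.card_coe_set_eq,
    show Nat.card {R | IsSyl (normalizer (A : Set G)) A 4 R} = 5 from hf.side_A.syl_count] at hc
  have hm : (⟨y, mem_norm_iff.2 hyA⟩ : ↥(normalizer (A : Set G))) ∈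
      MulAction.stabilizer (normalizer (A : Set G)) S := hyS
  have hd := Subgroup.orderOf_dvd_natCard _ hm
  have ho : orderOf y = 5 := by
    have := MulEquiv.orderOf_eq (MulAut.conj k⁻¹) f
    rw [MulAut.conj_apply, inv_inv] at this
    rw [hy, this, h5]
  rw [Subgroup.orderOf_mk, ho] at hd
  obtain ⟨c, hc'⟩ := hd
  omega

/-- A point is fixed by no element of order `7`. -/
theorem seven_fix (hf : Flags V A S) {y : G} (h7 : orderOf y = 7) (hp : IsPt A p) :
    cj y p ≠ p := by
  intro e
  obtain ⟨g, rfl⟩ := hp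
  have h : g⁻¹ * y * g ∈ normalizer (A : Set G) := norm_cj.1 (mem_norm_iff.2 e)
  have hd := Subgroup.orderOf_dvd_natCard _ h
  have ho := MulEquiv.orderOf_eq (MulAut.conj g⁻¹) y
  rw [MulAut.conj_apply, inv_inv] at ho
  rw [ho, h7, hf.side_A.card_N] at hd
  omega

/-- Coprime action on a cyclic group of prime order. -/
theorem conj_eq_of_coprime {H : Type*} [Group H] [Finite H] {r : ℕ} [hr : Fact r.Prime]
    (P : Subgroup H) (hP : Nat.card P = r) {x : H} (hx : x ∈ normalizer (P : Set H))
    (hco : (orderOf x).Coprime (r - 1)) : x ∈ centralizer (P : Set H) := by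
  have : IsCyclic P := isCyclic_of_prime_card hP
  set F := P.normalizerMonoidHom
  have h1 : orderOf (F ⟨x, hx⟩) ∣ orderOf x := by
    have := orderOf_map_dvd F ⟨x, hx⟩
    rwa [Subgroup.orderOf_mk] at this
  have h2 : orderOf (F ⟨x, hx⟩) ∣ r - 1 := by
    have := orderOf_dvd_natCard (F ⟨x, hx⟩)
    rwa [IsCyclic.card_mulAut, hP, Nat.totient_prime hr.out] at this
  have h3 : F ⟨x, hx⟩ = 1 := orderOf_eq_one_iff.1
    (Nat.dvd_one.1 (hco ▸ Nat.dvd_gcd h1 h2))
  have h4 : (⟨x, hx⟩ : ↥(normalizer (P : Set H))) ∈ F.ker := h3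
  rwa [Subgroup.normalizerMonoidHom_ker, mem_subgroupOf] at h4

set_option maxHeartbeats 800000 in
/-- Any two points are collinear. -/
theorem classStab_eq_top (hf : Flags V A S) : classStab hf = ⊤ := by
  classical
  have : Fact (Nat.Prime 2) := ⟨Nat.prime_two⟩
  have : Fact (Nat.Prime 5) := ⟨Nat.prime_five⟩
  have : Fact (Nat.Prime 7) := ⟨by norm_num⟩
  by_contra htop
  set H := classStab hf with hH
  have hA : IsPt A A := ⟨1, (cj_one A).symm⟩
  obtain ⟨a, haA, ha1⟩ : ∃ a ∈ A, a ≠ 1 := by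
    refine A.bot_or_exists_ne_one.resolve_left fun e => ?_
    have := card_A hf
    rw [e, Subgroup.card_bot] at this
    omega
  have ha2 : orderOf a = 2 := orderOf_two hf.swap haA ha1
  have haH : a ∈ H := (invol_mem_iff hf ha2 hA haA).2 (col_refl hf hA)
  obtain ⟨u, hu, huH⟩ : ∃ u : G, orderOf u = 2 ∧ u ∉ H := by
    by_contra hno
    push Not at hno
    refine htop (eq_top_iff.2 fun g _ => ?_)
    have h2 : orderOf (g * a * g⁻¹) = 2 := by
      rw [← MulAut.conj_apply, MulEquiv.orderOf_eq, ha2]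
    exact (invol_mem_iff hf h2 (hA.cj g) (conj_mem_cj haA)).1 (hno _ h2)
  have hse : Cfsg.IsStronglyEmbedded H := by
    refine ⟨htop, ?_, fun g hg => ?_⟩
    · rw [even_iff_two_dvd]
      have := orderOf_dvd_natCard (⟨a, haH⟩ : H)
      rwa [Subgroup.orderOf_mk, ha2] at this
    · rw [← Nat.not_even_iff_odd, even_iff_two_dvd]
      intro h2
      obtain ⟨⟨x, hmem⟩, hx⟩ := exists_prime_orderOf_dvd_card' 2 h2
      rw [Subgroup.orderOf_mk] at hx
      obtain ⟨hxH, hxg⟩ := hmem
      apply hg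
      obtain ⟨q, l, hql, hxq, -⟩ := exists_flag_invol hf hx
      have h1 : Col V A A q := (invol_mem_iff hf hx hql.isPt hxq).1 hxH
      have hxg' : g⁻¹ * x * g ∈ H := mem_cj.1 (show x ∈ cj g H from hxg)
      have hxq' : g⁻¹ * x * g ∈ cj g⁻¹ q := by
        have := conj_mem_cj (g := g⁻¹) hxq
        rwa [inv_inv] at this
      have hx' : orderOf (g⁻¹ * x * g) = 2 := by
        have e := MulEquiv.orderOf_eq (MulAut.conj g⁻¹) x
        rw [MulAut.conj_apply, inv_inv] at e
        rw [e, hx]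
      have h2 := Col.cj ((invol_mem_iff hf hx' (hql.isPt.cj g⁻¹) hxq').1 hxg') g
      rw [cj_inv'] at h2
      exact collinear_trans hf h1 h2.symm
  have hDodd := hse.2.2 u huH
  set D := H ⊓ H.map (MulAut.conj u).toMonoidHom with hD
  have h945 : Nat.card D ∣ 945 := by
    have h : Nat.card D ∣ 2 ^ 6 * 945 := by
      have := Subgroup.card_dvd_of_le (show D ≤ H from inf_le_left)
      rw [card_classStab hf] at this
      norm_num; exact this
    exact (Nat.Coprime.pow_right _ (Nat.coprime_two_right.2 hDodd)).dvd_of_dvd_mul_left h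
  have h315 : 315 ∣ Nat.card D := by
    letI : MulAction D G := MulAction.compHom G ((MulAut.conj (G := G)).comp D.subtype)
    have horb : MulAction.orbit D a = {x : G | orderOf x = 2 ∧ x ∈ H} := by
      ext x
      constructor
      · rintro ⟨⟨d, hd⟩, rfl⟩
        show orderOf (MulAut.conj d a) = 2 ∧ MulAut.conj d a ∈ H
        refine ⟨by rw [MulEquiv.orderOf_eq, ha2], ?_⟩
        rw [MulAut.conj_apply]
        exact mul_mem (mul_mem hd.1 haH) (inv_mem hd.1)
      · rintro ⟨hx, hxH⟩
        obtain ⟨⟨d, hd, e⟩, -⟩ := Cfsg.Agent.S1225.result H hse u hu huH a x ha2 haH hx hxH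
        exact ⟨⟨d, hd⟩, e⟩
    have hn : (MulAction.orbit D a).ncard = 315 := by rw [horb, hH, ncard_invol hf]
    rw [← hn, ← MulAction.index_stabilizer]
    exact Subgroup.index_dvd_card _
  -- the Sylow subgroups of order `5` and `7`
  have hcard : Nat.card D = 315 ∨ Nat.card D = 945 := by
    obtain ⟨c, hc⟩ := h315
    rw [hc] at h945
    have hc3 : c ∣ 3 := Nat.dvd_of_mul_dvd_mul_left (by norm_num : (0:ℕ) < 315) h945
    rcases (Nat.dvd_prime Nat.prime_three).1 hc3 with rfl | rfl <;> omega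
  let Q : Sylow 5 D := default
  have hQc : Nat.card Q = 5 := by
    rw [Sylow.card_eq_multiplicity]
    have h : (Nat.card D).factorization 5 = 1 := by
      obtain ⟨m, hm, hm5⟩ : ∃ m, Nat.card D = 5 * m ∧ ¬ 5 ∣ m := by
        rcases hcard with h | h
        · exact ⟨63, by omega, by norm_num⟩
        · exact ⟨189, by omega, by norm_num⟩
      rw [hm, Nat.factorization_mul (by norm_num) (by omega), Finsupp.add_apply,
        Nat.prime_five.factorization_self, Nat.factorization_eq_zero_of_not_dvd hm5]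
    rw [h, pow_one]
  have hcom : ∀ x : D, (orderOf x).Coprime 4 := fun x => by
    rw [show (4 : ℕ) = 2 ^ 2 by norm_num]
    exact Nat.Coprime.pow_right _
      (Nat.coprime_two_right.2 (hDodd.of_dvd_nat (orderOf_dvd_natCard x)))
  have hNC : normalizer ((Q : Subgroup D) : Set D) ≤ centralizer ((Q : Subgroup D) : Set D) :=
    fun x hx => conj_eq_of_coprime (r := 5) (Q : Subgroup D) hQc hx (hcom x)
  set N := (MonoidHom.transferSylow Q hNC).ker with hN
  have hcN : Nat.card N * 5 = Nat.card D := by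
    rw [← hQc]; exact (MonoidHom.ker_transferSylow_isComplement' Q hNC).card_mul
  let P : Sylow 7 N := default
  have hPc : Nat.card P = 7 := by
    rw [Sylow.card_eq_multiplicity]
    have h : (Nat.card N).factorization 7 = 1 := by
      obtain ⟨m, hm, hm7⟩ : ∃ m, Nat.card N = 7 * m ∧ ¬ 7 ∣ m := by
        rcases hcard with h | h
        · exact ⟨9, by omega, by norm_num⟩
        · exact ⟨27, by omega, by norm_num⟩
      rw [hm, Nat.factorization_mul (by norm_num) (by omega), Finsupp.add_apply,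
        (by norm_num : Nat.Prime 7).factorization_self, Nat.factorization_eq_zero_of_not_dvd hm7]
    rw [h, pow_one]
  have hsub : Subsingleton (Sylow 7 N) := by
    have h1 := card_sylow_modEq_one 7 N
    have h2 := P.card_dvd_index
    have h3 := (P : Subgroup N).card_mul_index
    rw [hPc] at h3
    have h4 : Nat.card (Sylow 7 N) = 1 := by
      have hidx : (P : Subgroup N).index = 9 ∨ (P : Subgroup N).index = 27 := by omega
      have h5 : Nat.card (Sylow 7 N) ∣ 27 := by
        rcases hidx with e | e <;> rw [e] at h2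
        · exact h2.trans (by norm_num)
        · exact h2
      have h6 := Nat.le_of_dvd (by norm_num) h5
      generalize Nat.card (Sylow 7 N) = n at h1 h5 h6
      interval_cases n <;> revert h1 h5 <;> unfold Nat.ModEq <;> decide
    exact (Nat.card_eq_one_iff_unique.1 h4).1
  have : (P : Subgroup N).Normal := Sylow.normal_of_subsingleton P
  have : (P : Subgroup N).Characteristic := Sylow.characteristic_of_normal P inferInstance
  set P' := (P : Subgroup N).map N.subtype with hP'
  have hP'n : P'.Normal := inferInstance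
  have hP'c : Nat.card P' = 7 := by
    rw [hP', Nat.card_congr ((P : Subgroup N).equivMapOfInjective _ N.subtype_injective).toEquiv.symm,
      hPc]
  obtain ⟨⟨f, hfQ⟩, hf5⟩ := exists_prime_orderOf_dvd_card' (G := ↥(Q : Subgroup D)) 5
    (dvd_of_eq hQc.symm)
  obtain ⟨⟨y, hyP⟩, hy7⟩ := exists_prime_orderOf_dvd_card' (G := ↥P') 7 (dvd_of_eq hP'c.symm)
  rw [Subgroup.orderOf_mk] at hf5 hy7
  have hfy : f ∈ centralizer (P' : Set D) := conj_eq_of_coprime (r := 7) P' hP'c
    (by rw [Subgroup.normalizer_eq_top]; trivial) (by rw [hf5]; norm_num)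
  have hcm : (y : G) * f = f * y :=
    congrArg (Subtype.val : D → G) (mem_centralizer_iff.1 hfy y hyP)
  have hfK : (f : G) ∈ H := f.2.1
  have hyK : (y : G) ∈ H := y.2.1
  have hinv : ∀ {g : G}, g ∈ H → ∀ x, Col V A A x → Col V A A (cj g x) := fun hg x hx =>
    collinear_trans hf hg (Col.cj hx _)
  have hf5' : orderOf (f : G) = 5 := by rw [Subgroup.orderOf_coe, hf5]
  obtain ⟨q, hq, eq⟩ := perm_fixed (r := 5) (g := (f : G)) (X := {q | Col V A A q})
    (by rw [← hf5']; exact pow_orderOf_eq_one _) (fun x hx => hinv hfK x hx)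
    (by rw [ncard_class hf]; decide)
  obtain ⟨l, -, hl⟩ := id hq
  refine seven_fix hf (y := (y : G)) (by rw [Subgroup.orderOf_coe, hy7]) hl.isPt ?_
  refine (five_fix hf hf5' (collinear_trans hf hq.symm (hinv hyK q hq)) eq ?_).symm
  rw [cj_cj, ← hcm, ← cj_cj, eq]

theorem col_all (hf : Flags V A S) (hp : IsPt A p) (hq : IsPt A q) :
    Col V A p q := by
  obtain ⟨a, rfl⟩ := hp
  obtain ⟨b, rfl⟩ := hq
  have h : ∀ g, Col V A A (cj g A) := fun g => by
    rw [← mem_classStab hf, classStab_eq_top hf]; trivial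
  exact collinear_trans hf (h a).symm (h b)

theorem ncard_allPts (hf : Flags V A S) : {q | IsPt A q}.ncard = 21 := by
  rw [← ncard_class hf]
  congr 1
  ext q
  exact ⟨fun h => col_all hf ⟨1, (cj_one A).symm⟩ h, fun ⟨l, _, h⟩ => h.isPt⟩

theorem exists_other_pt (hf : Flags V A S) {m r : Subgroup G} (hl : IsPt V l) (hm : IsPt V m)
    (hne : l ≠ m) : ∃ x, Inc V A x l ∧ ¬ Inc V A x m ∧ x ≠ r := by
  by_contra hno
  push Not at hno
  have h1 : 1 < ({x | Inc V A x l} \ {r}).ncard := by
    have := Set.le_ncard_sdiff {r} {x | Inc V A x l}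
    rw [ncard_pts hf hl, Set.ncard_singleton] at this
    omega
  obtain ⟨x, ⟨hx, hxr⟩, y, ⟨hy, hyr⟩, hxy⟩ := (Set.one_lt_ncard (Set.toFinite _)).1 h1
  have hx' : Inc V A x m := by
    by_contra h; exact hxr (hno x hx h)
  have hy' : Inc V A y m := by
    by_contra h; exact hyr (hno y hy h)
  exact hne ((two_lines hf hx hy hx' hy').resolve_left hxy)

/-- Any two lines meet. -/
theorem lines_meet (hf : Flags V A S) {m : Subgroup G} (hl : IsPt V l)
    (hm : IsPt V m) : ∃ x, Inc V A x l ∧ Inc V A x m := by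
  rcases eq_or_ne l m with rfl | hne
  · obtain ⟨x, hx⟩ := Set.nonempty_of_ncard_ne_zero (s := {x | Inc V A x l})
      (by rw [ncard_pts hf hl]; omega)
    exact ⟨x, hx, hx⟩
  obtain ⟨p, hpl, hpm, -⟩ := exists_other_pt hf (r := ⊥) hl hm hne
  have key : ∀ x ∈ {x | Inc V A x m}, ∃ j, Inc V A p j ∧ Inc V A x j :=
    fun x hx => col_all hf hpl.isPt (Inc.isPt hx)
  choose j hj hj' using key
  obtain ⟨x, hx, e⟩ := Set.surj_on_of_inj_on_of_ncard_le (t := {j | Inc V A p j}) j hj
    (fun x y hx hy e => (two_lines hf hx hy (hj' x hx) (e ▸ hj' y hy)).resolve_right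
      fun e' => hpm (e' ▸ hj x hx))
    (by rw [ncard_lines hf hpl.isPt, ncard_pts hf hm]) (Set.toFinite _) l hpl
  exact ⟨x, e ▸ hj' x hx, hx⟩

/-- The normaliser of `A` is transitive on the other points. -/
theorem trans_others (hf : Flags V A S) {r : Subgroup G} (hq : IsPt A q)
    (hqA : q ≠ A) (hr : IsPt A r) (hrA : r ≠ A) : ∃ n : G, cj n A = A ∧ cj n q = r := by
  have hA : IsPt A A := ⟨1, (cj_one A).symm⟩
  obtain ⟨l, hl, hql⟩ := col_all hf hA hq
  obtain ⟨m, hm, hrm⟩ := col_all hf hA hr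
  obtain ⟨a, ha, rfl⟩ := (inc_base_iff hf).1 hl
  obtain ⟨b, hb, rfl⟩ := (inc_base_iff hf).1 hm
  set g := b * a⁻¹ with hg
  have e1 : cj g (cj a V) = cj b V := by rw [hg, cj_cj, inv_mul_cancel_right]
  have e2 : cj g A = A := mem_norm_iff.1 (mul_mem hb (inv_mem ha))
  have hq' : Inc V A (cj g q) (cj b V) := e1 ▸ hql.cj g
  obtain ⟨l0, hl0, hne⟩ := exists_ne_line hf hA (cj b V)
  obtain ⟨w, hw, e⟩ := reg hf hm hl0 hne.symm hq'
    (fun e => hqA (cj_inj g (e.trans e2.symm))) hrm hrA
  exact ⟨w * g, by rw [← cj_cj, e2, cj_self hw.1], by rw [← cj_cj, e]⟩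

end

end Cfsg.Agent.AutL34Plane54
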