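import Cfsg.Agent.Lib.AutL34Plane54Basic

/-!
# A triangle in the geometry of `Flags`, and the transitivity of collinearity
-/

set_option autoImplicit false
set_option linter.unusedSectionVars false

namespace Cfsg.Agent.AutL34Plane54

open Subgroup Cfsg.Agent.CIT21

variable {G : Type*} [Group G] [Finite G] {V A S p q l : Subgroup G}

/-- An involution (or `1`) fixing a point lies in it or in a line through it. -/
theorem mem_of_fix_pt (hf : Flags V A S) (hp : IsPt A p) {x : G} (hx : x * x = 1)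
    (h : cj x p = p) : x ∈ p ∨ ∃ l, Inc V A p l ∧ x ∈ l := by
  obtain ⟨g, rfl⟩ := hp
  set y := g⁻¹ * x * g with hy
  have hyN : y ∈ normalizer (A : Set G) := norm_cj.1 (mem_norm_iff.2 h)
  have hy2 : y * y = 1 := by
    rw [hy, show g⁻¹ * x * g * (g⁻¹ * x * g) = g⁻¹ * (x * x) * g by group, hx]; group
  have hP : IsPGroup 2 (zpowers y) := fun z => ⟨1, by
    obtain ⟨z, hz⟩ := z
    obtain ⟨i, rfl⟩ := mem_zpowers_iff.1 hz
    refine Subtype.ext ?_
    show (y ^ i) ^ (2 ^ 1) = 1
    rw [pow_one, ← zpow_natCast, ← zpow_mul, mul_comm, zpow_mul, zpow_natCast, pow_two, hy2,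
      one_zpow]⟩
  obtain ⟨R, hR, hyR⟩ := hf.side_A.exists_syl _ (zpowers_le.2 hyN) hP
  obtain ⟨j, rfl⟩ := syl_eq hf hR
  have eA : cj 1 A = cj j A := pt_unique hf (by rw [cj_one]; exact hf.side_A.syl_ge _ hR)
  have hyS := mem_cj.1 (hyR (mem_zpowers y))
  have hy2' : j⁻¹ * y * j * (j⁻¹ * y * j) = 1 := by
    rw [show j⁻¹ * y * j * (j⁻¹ * y * j) = j⁻¹ * (y * y) * j by group, hy2]; group
  rcases hf.involutions _ hyS hy2' with h' | h'
  · refine Or.inr ⟨cj (g * j) V, ⟨g * j, by rw [← cj_cj g j A, ← eA, cj_one], rfl⟩, ?_⟩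
    rw [← cj_cj, mem_cj]
    exact mem_cj.2 h'
  · refine Or.inl (mem_cj.2 ?_)
    rw [← cj_one A, eA]
    exact mem_cj.2 h'

theorem exists_ne_line (hf : Flags V A S) (hp : IsPt A p) (l : Subgroup G) :
    ∃ m, Inc V A p m ∧ m ≠ l := by
  by_contra h
  push Not at h
  have hsub : {m | Inc V A p m} ⊆ {l} := fun m hm => h m hm
  have := Set.ncard_le_ncard hsub
  rw [ncard_lines hf hp, Set.ncard_singleton] at this
  omega

theorem perm_fixed {X : Set (Subgroup G)} {r : ℕ} [Fact r.Prime] {g : G} (hg : g ^ r = 1)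
    (hX : ∀ x ∈ X, cj g x ∈ X) (hr : ¬ r ∣ X.ncard) : ∃ x ∈ X, cj g x = x := by
  classical
  have hpow : ∀ (n : ℕ) x, x ∈ X → cj (g ^ n) x ∈ X := by
    intro n
    induction n with
    | zero => intro x hx; rwa [pow_zero, cj_one]
    | succ k ih =>
      intro x hx
      rw [pow_succ', ← cj_cj]
      exact hX _ (ih x hx)
  have := Fintype.ofFinite X
  have : DecidableEq X := Classical.decEq _
  let σ : Equiv.Perm X := Equiv.ofBijective (fun x => ⟨cj g x, hX _ x.2⟩)
    (Finite.injective_iff_bijective.1 fun a b e =>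
      Subtype.ext (cj_inj g (congrArg Subtype.val e)))
  have hσ : ∀ (n : ℕ) (x : X), ((σ ^ n) x : Subgroup G) = cj (g ^ n) x := by
    intro n
    induction n with
    | zero => intro x; simp [cj_one]
    | succ k ih =>
      intro x
      rw [pow_succ', Equiv.Perm.mul_apply, pow_succ', ← cj_cj, ← ih]
      rfl
  have hr' : ¬ r ∣ Fintype.card X := by
    rwa [← Nat.card_eq_fintype_card, Nat.card_coe_set_eq]
  obtain ⟨x, hx⟩ := Equiv.Perm.exists_fixed_point_of_prime (p := r) (n := 1) hr' (σ := σ)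
    (Equiv.ext fun x => Subtype.ext (by rw [pow_one, hσ, hg, cj_one]; rfl))
  exact ⟨x, x.2, congrArg Subtype.val hx⟩

section


omit [Finite G] in
theorem eq_one_of_comm {x h : G} (hreg : Regular h) (hx : x * x = 1) (hcm : Commute x h) :
    x = 1 := by
  by_contra h1
  exact hreg x (orderOf_eq_prime (by rw [pow_two, hx]) h1) hcm

/-- A regular element of order `3` does not fix all lines through a point. -/
theorem no_fix_all (hf : Flags V A S) {h : G} (h3 : orderOf h = 3) (hreg : Regular h)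
    (hA : cj h A = A) (hfix : ∀ l, Inc V A A l → cj h l = l) : False := by
  refine hf.side_A.no_fix h h3 hreg (mem_norm_iff.2 hA) fun R hR => ?_
  obtain ⟨k, rfl⟩ := syl_eq hf hR
  have e : cj 1 A = cj k A := pt_unique hf (by rw [cj_one]; exact hf.side_A.syl_ge _ hR)
  rw [cj_one] at e
  rw [cj_cj]
  exact flag_syl hf (by rw [← cj_cj, ← e, hA]) (by rw [← cj_cj, hfix _ ⟨k, e, rfl⟩])

/-- An element of order `3` fixing two lines at `A` fixes no further one. -/
theorem fix_two (hf : Flags V A S) {h : G} {V0 : Subgroup G} (h3 : orderOf h = 3)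
    (hreg : Regular h)
    (hA : cj h A = A) (hV0 : Inc V A A V0) (hne : V0 ≠ V) (e1 : cj h V = V) (e2 : cj h V0 = V0)
    {W : Subgroup G} (hW : Inc V A A W) (e3 : cj h W = W) : W = V ∨ W = V0 := by
  by_contra hcon
  push Not at hcon
  apply no_fix_all hf h3 hreg hA
  intro x hx
  by_contra hne'
  have hx1 : Inc V A A (cj h x) := by have := hx.cj h; rwa [hA] at this
  have hx2 : Inc V A A (cj h (cj h x)) := by have := hx1.cj h; rwa [hA] at this
  have e4 : cj h (cj h (cj h x)) = x := by
    have : h * (h * h) = 1 := by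
      have := pow_orderOf_eq_one h
      rwa [h3, pow_succ', pow_two] at this
    rw [cj_cj, cj_cj, mul_assoc, this, cj_one]
  have d1 : cj h (cj h x) ≠ cj h x := fun e => hne' (cj_inj h e)
  have d2 : cj h (cj h x) ≠ x := fun e => by
    rw [e] at e4
    exact hne' e4
  have m : ∀ U, cj h U = U → x ≠ U ∧ cj h x ≠ U ∧ cj h (cj h x) ≠ U := by
    intro U eU
    have a1 : x ≠ U := fun e => hne' (e ▸ eU)
    have a2 : cj h x ≠ U := fun e => a1 (cj_inj h (e.trans eU.symm))
    exact ⟨a1, a2, fun e => a2 (cj_inj h (e.trans eU.symm))⟩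
  obtain ⟨b1, b2, b3⟩ := m V e1
  obtain ⟨c1, c2, c3⟩ := m V0 e2
  obtain ⟨w1, w2, w3⟩ := m W e3
  classical
  let T : Finset (Subgroup G) := Finset.univ.image
    (![x, cj h x, cj h (cj h x), V, V0, W] : Fin 6 → Subgroup G) 
  have hinj : Function.Injective (![x, cj h x, cj h (cj h x), V, V0, W] : Fin 6 → Subgroup G) := by
    intro i j e
    fin_cases i <;> fin_cases j <;> simp at e ⊢ <;>
      first
        | exact absurd e.symm hne' | exact absurd e hne'
        | exact absurd e.symm d1 | exact absurd e d1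
        | exact absurd e.symm d2 | exact absurd e d2
        | exact absurd e b1 | exact absurd e.symm b1
        | exact absurd e b2 | exact absurd e.symm b2
        | exact absurd e b3 | exact absurd e.symm b3
        | exact absurd e c1 | exact absurd e.symm c1
        | exact absurd e c2 | exact absurd e.symm c2
        | exact absurd e c3 | exact absurd e.symm c3
        | exact absurd e w1 | exact absurd e.symm w1
        | exact absurd e w2 | exact absurd e.symm w2
        | exact absurd e w3 | exact absurd e.symm w3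
        | exact absurd e hne | exact absurd e.symm hne
        | exact absurd e hcon.1 | exact absurd e.symm hcon.1
        | exact absurd e hcon.2 | exact absurd e.symm hcon.2
  have hsub : (T : Set (Subgroup G)) ⊆ {l | Inc V A A l} := by
    intro y hy
    simp only [T, Finset.coe_image, Finset.coe_univ, Set.image_univ, Set.mem_range] at hy
    obtain ⟨i, rfl⟩ := hy
    fin_cases i
    · exact hx
    · exact hx1
    · exact hx2
    · exact inc_self hf
    · exact hV0
    · exact hW
  have := Set.ncard_le_ncard hsub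
  rw [Set.ncard_coe_finset, Finset.card_image_of_injective _ hinj, ncard_lines_base hf] at this
  simp at this

/-- A regular element of order `3` fixing two lines at `A` is inverted by an involution
interchanging them. -/
theorem inverter (hf : Flags V A S) {h : G} {V0 : Subgroup G} (h3 : orderOf h = 3)
    (hreg : Regular h) (hA : cj h A = A) (hV0 : Inc V A A V0) (hne : V0 ≠ V)
    (e1 : cj h V = V) (e2 : cj h V0 = V0) :
    ∃ s : G, s * s = 1 ∧ cj s A = A ∧ s * h * s⁻¹ = h⁻¹ ∧ cj s V = V0 ∧ cj s V0 = V := by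
  obtain ⟨k, hkA, rfl⟩ := id hV0
  have hR : IsSyl (normalizer (A : Set G)) A 4 (cj k S) :=
    ⟨fun x hx => by rw [hkA, norm_cj]; exact normA hf (mem_cj.1 hx),
      isPGroup_cj (pGroup_S hf), by rw [card_cj, hf.card_S, card_A hf]⟩
  have hne' : cj k S ≠ S := by
    intro e
    have h' : cj 1 V = cj k V :=
      pt_unique hf.swap (by rw [cj_one, e]; exact hf.V_le)
    exact hne (h'.symm.trans (cj_one V))
  have hhS : cj h S = S := by
    have := flag_syl hf (g := h) (h := 1) (by rw [hA, cj_one]) (by rw [e1, cj_one])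
    rwa [cj_one] at this
  have hhR : cj h (cj k S) = cj k S := by
    rw [cj_cj]
    exact flag_syl hf (by rw [← cj_cj, ← hkA, hA]) (by rw [← cj_cj, e2])
  obtain ⟨s, hs2, hsN, hsS, -, hsh⟩ :=
    hf.side_A.inverter (cj k S) h hR hne' h3 hreg (mem_norm_iff.2 hA) hhS hhR
  have hsV : cj s V = cj k V := pt_unique hf.swap (by
    rw [← hsS]; exact cj_mono _ hf.V_le)
  exact ⟨s, hs2, mem_norm_iff.1 hsN, hsh, hsV, by rw [← hsV, cj_cj, hs2, cj_one]⟩

/-- Collinearity of points is transitive. -/
theorem collinear_trans (hf : Flags V A S) {a b c : Subgroup G} (hab : Col V A a b)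
    (hbc : Col V A b c) : Col V A a c := by
  have : Fact (Nat.Prime 2) := ⟨Nat.prime_two⟩
  have : Fact (Nat.Prime 3) := ⟨Nat.prime_three⟩
  have hA1 : IsPt A A := ⟨1, (cj_one A).symm⟩
  obtain ⟨V0, hV0, hne⟩ := exists_ne_line hf hA1 V
  obtain ⟨k, hkA, hk⟩ := id hV0
  have hR : IsSyl (normalizer (A : Set G)) A 4 (cj k S) :=
    ⟨fun x hx => by rw [hkA, norm_cj]; exact normA hf (mem_cj.1 hx),
      isPGroup_cj (pGroup_S hf), by rw [card_cj, hf.card_S, card_A hf]⟩
  have hne' : S ≠ cj k S := fun e => hne (by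
    rw [hk]
    conv_rhs => rw [← cj_one V]
    exact pt_unique hf.swap (by rw [cj_one, e]; exact cj_mono _ hf.V_le))
  obtain ⟨h, h3, hreg, hhA', hhS', hhR'⟩ := hf.side_A.exists_regular (cj k S) hR hne'.symm
  have hhS : h ∈ normalizer (S : Set G) := mem_norm_iff.2 hhS'
  have hhR : h ∈ normalizer ((cj k S : Subgroup G) : Set G) := mem_norm_iff.2 hhR'
  have hhA : cj h A = A := mem_norm_iff.1 hhA'
  have e1 : cj h V = V := by
    conv_rhs => rw [← cj_one V]
    exact pt_unique hf.swap (by rw [cj_one]; exact (cj_mono _ hf.V_le).trans (mem_norm_iff.1 hhS).le)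
  have e2 : cj h V0 = V0 := by
    rw [hk, cj_cj]
    exact pt_unique hf.swap (by
      rw [← cj_cj]; exact (cj_mono _ (cj_mono _ hf.V_le)).trans (mem_norm_iff.1 hhR).le)
  obtain ⟨s, hs2, hsA, hsh, hsV, hsV0⟩ := inverter hf h3 hreg hhA hV0 hne e1 e2
  obtain ⟨p0, ⟨hp0, hp0A⟩, ep0⟩ := perm_fixed (r := 3) (g := h)
    (X := {q | Inc V A q V ∧ q ≠ A}) (by rw [← h3]; exact pow_orderOf_eq_one h)
    (fun q hq => ⟨by have := hq.1.cj h; rwa [e1] at this,
      fun e => hq.2 (cj_inj h (e.trans hhA.symm))⟩)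
    (by rw [ncard_pts_ne hf (inc_self hf)]; decide)
  obtain ⟨s', hs2', hsV', hsh', -, -⟩ := inverter hf.swap h3 hreg e1 hp0.symm hp0A hhA ep0
  have hcm : Commute (s * s') h := by
    have a' : s' * h = h⁻¹ * s' := by rw [← hsh']; group
    have a'' : s * h⁻¹ = h * s := by
      have := congrArg (fun z => z⁻¹) hsh
      simp only [mul_inv_rev, inv_inv] at this
      calc s * h⁻¹ = s * (h⁻¹ * s⁻¹) * s := by group
        _ = h * s := by rw [this]
    show s * s' * h = h * (s * s')
    calc s * s' * h = s * (s' * h) := by group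
      _ = s * h⁻¹ * s' := by rw [a']; group
      _ = h * (s * s') := by rw [a'']; group
  obtain ⟨r, hr⟩ : Odd (orderOf (s * s')) := by
    rw [← Nat.not_even_iff_odd]
    rintro ⟨r, hr⟩
    have hpos := orderOf_pos (s * s')
    have hz : (s * s') ^ r * (s * s') ^ r = 1 := by rw [← pow_add, ← hr, pow_orderOf_eq_one]
    have := eq_one_of_comm hreg hz (hcm.pow_left r)
    rw [← orderOf_dvd_iff_pow_eq_one] at this
    have := Nat.le_of_dvd (by omega) this
    omega
  set m := (s * s') ^ (r + 1) with hm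
  have hmm : m * m = s * s' := by
    rw [hm, ← pow_add, show r + 1 + (r + 1) = 2 * r + 1 + 1 by ring, pow_succ, ← hr,
      pow_orderOf_eq_one, one_mul]
  have es : s⁻¹ = s := inv_eq_of_mul_eq_one_right hs2
  have es' : s'⁻¹ = s' := inv_eq_of_mul_eq_one_right hs2'
  have hinvk : s' * (s * s') * s'⁻¹ = (s * s')⁻¹ := by
    rw [mul_inv_rev, es, es', mul_assoc, mul_assoc, hs2', mul_one]
  have hinvm : s' * m * s'⁻¹ = m⁻¹ := by
    rw [hm, ← conj_pow, hinvk, inv_pow]
  have hconj : m * s' * m⁻¹ = s := by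
    calc m * s' * m⁻¹ = m * (s' * (s' * m * s'⁻¹)) := by rw [hinvm]; group
      _ = m * m * s' := by
        rw [es', show s' * (s' * m * s') = s' * s' * (m * s') by group, hs2']; group
      _ = s := by rw [hmm, mul_assoc, hs2', mul_one]
  have hmh : Commute m h := hcm.pow_left _
  have f1 : cj h (cj m V) = cj m V := by
    rw [cj_cj, ← hmh.eq, ← cj_cj, e1]
  have f2 : cj s (cj m V) = cj m V := by
    rw [cj_cj, ← hconj, show m * s' * m⁻¹ * m = m * s' by group, ← cj_cj, hsV']
  have nA : ¬ Inc V A A (cj m V) := by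
    intro hi
    rcases fix_two hf h3 hreg hhA hV0 hne e1 e2 hi f1 with e | e <;> rw [e] at f2
    · exact hne (hsV.symm.trans f2)
    · exact hne (f2.symm.trans hsV0)
  have s1 : s ≠ 1 := by
    intro e
    rw [e] at hsV
    exact hne (hsV.symm.trans (cj_one V))
  obtain ⟨m3, hm3, hsm3⟩ := (mem_of_fix_pt hf hA1 hs2 hsA).resolve_left fun h' =>
    hne (hsV.symm.trans (fix_lns hf (inc_self hf) h'))
  obtain ⟨c, hc0, hsc⟩ := (mem_of_fix_pt hf.swap (p := cj m V) ⟨m, rfl⟩ hs2 f2).resolve_left
    fun h' => nA (pt_unique_mem hf.swap hm3.isLn ⟨m, rfl⟩ s1 hsm3 h' ▸ hm3)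
  have hc1 : Inc V A c (cj m V) := hc0.symm
  have hc3 : Inc V A c m3 := meet_inc hf hc1.isPt hm3.isLn s1 hsc hsm3
  have hcA : c ≠ A := fun e => nA (e ▸ hc1)
  have hm3' : Inc V A A (cj h m3) := by have := hm3.cj h; rwa [hhA] at this
  have hm3ne : m3 ≠ cj h m3 := by
    intro e
    have e3 := cj_self hsm3
    rcases fix_two hf h3 hreg hhA hV0 hne e1 e2 hm3 e.symm with e' | e' <;> rw [e'] at e3
    · exact hne (hsV.symm.trans e3)
    · exact hne (e3.symm.trans hsV0)
  have hhc : Inc V A (cj h c) (cj h m3) := hc3.cj h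
  have hhc0 : Inc V A (cj h c) (cj m V) := by have := hc1.cj h; rwa [f1] at this
  exact col_trans hf hm3 hm3' hm3ne hc3 hcA hhc
    (fun e => hcA (cj_inj h (e.trans hhA.symm))) ⟨_, hc1, hhc0⟩ hab hbc

end

end Cfsg.Agent.AutL34Plane54
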