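import Cfsg.Agent.Lib.AutL34Model54Facts

/-!
# The model with trivial parameters: transfer and local data

Representatives of the outer classes of involutions: `1` (in `E`), `32`, `33`; `224` lies in `W`.
-/

set_option autoImplicit false

namespace Cfsg.Agent.AutL34Model54

/-- The product for trivial parameters. -/
abbrev mu (n m : ℕ) : ℕ := mul false false n m

/-- Commutation for trivial parameters. -/
abbrev cmu (n m : ℕ) : Bool := cm false false n m

/-- An involution for trivial parameters. -/
abbrev iv (n : ℕ) : Bool := inv2 false false n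

/-- Even permutation. -/
def evP (p : ℕ) : Bool := bit 10066329 p

/-- Odd size of a subset. -/
def oddA (A : ℕ) : Bool := xor (xor (bit A 0) (bit A 1)) (xor (bit A 2) (bit A 3))

/-- The subgroup of index four. -/
def inH2 (n : ℕ) : Bool := evP (n / 32) && !oddA (n % 16)

/-- The Sylow subgroup of the symmetric group. -/
def p8 : List ℕ := [0,1,6,7,16,17,22,23]

/-- The Klein group. -/
def v4 : List ℕ := [0,7,16,23]

/-- The Sylow subgroup of the model. -/
def sylI : List ℕ := els.filter fun n => p8.any (Nat.beq (n / 32))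

/-- The Sylow subgroup of order sixty-four. -/
def wI : List ℕ := els.filter fun n => inH2 n && v4.any (Nat.beq (n / 32))

/-- The lines. -/
def vI : List ℕ := [0,15,16,31,224,239,240,255,512,527,528,543,736,751,752,767]

/-- The points. -/
def aI : List ℕ := [0,15,16,31,227,236,243,252,517,522,533,538,742,745,758,761]

/-- The representatives of the classes outside `T`. -/
def repI : List ℕ := [1, 32, 33, 224]

/-- Sylow subgroups of the centralizers of the representatives. -/
def pI : ℕ → List ℕ
  | 1 => [0,1,6,7,10,11,12,13,16,17,22,23,26,27,28,29,32,33,38,39,42,43,44,45,48,49,54,55,58,59,60,61]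
  | 32 => [0,1,2,3,16,17,18,19,32,33,34,35,48,49,50,51,192,193,194,195,208,209,210,211,224,225,226,227,240,241,242,243]
  | 33 => [0,1,14,15,16,17,30,31,32,33,46,47,48,49,62,63]
  | _ => [0,15,16,31,32,47,48,63,192,207,208,223,224,239,240,255,512,527,528,543,544,559,560,575,704,719,720,735,736,751,752,767]

/-- Squares whose pairwise products cover the subgroup of index four. -/
def sqI : List ℕ := [0, 3, 96, 106, 134, 256, 261, 377, 746, 10, 533, 387, 751, 518, 608, 227, 362, 12, 480, 371, 15]

/-- Conjugators. -/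
def gI : List ℕ := [0, 4, 200, 204, 384, 386, 576, 578, 72, 74, 132, 134, 257, 264, 321, 324, 513, 514, 6, 67, 131, 256, 265, 320, 325, 453, 512, 515, 646, 709, 2, 64, 128, 192, 196, 385, 387, 448, 450, 451, 577, 579, 640, 642, 643, 704, 705, 707]

/-- Membership. -/
def memL (n : ℕ) (l : List ℕ) : Bool := l.any (Nat.beq n)

/-- Closed under the product. -/
def closedL (l : List ℕ) : Bool :=
  memL 0 l && (l.all fun a => Nat.blt a 768 && l.all fun b => memL (mu a b) l)

/-- No repetition. -/
def nodupL : List ℕ → Bool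
  | [] => true
  | a :: l => !memL a l && nodupL l

/-- Involutions counted. -/
def ninv (l : List ℕ) : ℕ := (l.filter fun a => Nat.beq (mu a a) 0).length

theorem syl_ok : (nodupL sylI && Nat.beq sylI.length 256 && sylI.all fun n => !(sylI.all fun m => cmu n m) || Nat.beq n 0 || Nat.beq n 16) = true := by
  decide +kernel

theorem w_ok : (closedL wI && nodupL wI && Nat.beq wI.length 64) = true := by
  decide +kernel

theorem va_ok : (closedL vI && closedL aI && nodupL vI && nodupL aI && Nat.beq vI.length 16 && Nat.beq aI.length 16 && (vI.all fun a => memL a wI && Nat.beq (mu a a) 0) && (aI.all fun a => memL a wI && Nat.beq (mu a a) 0) && Nat.beq (vI.filter fun a => memL a aI).length 4 && (vI.all fun a => !memL a aI || memL a [0,15,16,31]) && memL 16 vI && memL 16 aI && memL 15 vI && memL 15 aI && memL 31 vI && memL 31 aI) = true := by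
  decide +kernel

theorem w_struct : ((wI.all fun n => !Nat.beq (mu n n) 0 || memL n vI || memL n aI) && (wI.all fun n => (wI.all fun m => cmu n m) == memL n [0,15,16,31])) = true := by
  decide +kernel

theorem va_cent : (els.all fun n => !inH2 n || ((!(vI.all fun a => cmu n a) || memL n vI) && (!(aI.all fun a => cmu n a) || memL n aI))) = true := by
  decide +kernel

theorem h2_ok : ((els.all fun n => !inH2 n || cmu n 15) && Nat.beq (els.filter inH2).length 192 && inH2 16 && inH2 15 && (els.all fun n => inH2 (mu n n))) = true := by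
  decide +kernel

theorem va_orbit : ((vI.all fun a => memL a aI || (vI.all fun b => memL b aI || els.any fun c => inH2 c && Nat.beq (mu c a) (mu b c))) && (aI.all fun a => memL a vI || (aI.all fun b => memL b vI || els.any fun c => inH2 c && Nat.beq (mu c a) (mu b c)))) = true := by
  decide +kernel

theorem w_isW : ((vI.all fun a => memL a aI || isW false false a) && (aI.all fun a => memL a vI || isW false false a) && isW false false 224 && memL 224 (vI ++ aI)) = true := by
  decide +kernel

theorem h2_squares : ((sqI.all fun s => els.any fun a => Nat.beq (mu a a) s) && els.all fun n => !inH2 n || sqI.any fun a => sqI.any fun b => Nat.beq (mu a b) n) = true := by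
  decide +kernel

theorem cosets : (els.all fun n => [0, 1, 32, 33].any fun r => inH2 (mu n r) || inH2 (mu r n)) = true := by
  decide +kernel

theorem classes : ((gI.all fun g => Nat.blt g 768) && els.all fun n => !iv n || Nat.beq n 16 || Nat.beq n 15 || Nat.beq n 31 || repI.any fun r => gI.any fun g => Nat.beq (mu g r) (mu n g)) = true := by
  decide +kernel

theorem rep_ok : (repI.all fun r => iv r && !Nat.beq r 16 && cmu r 16 && memL r sylI && closedL (pI r) && nodupL (pI r) && memL r (pI r) && memL 16 (pI r) && (pI r).all (fun a => cmu a r) && Nat.beq ((els.filter (cmu r)).length / (pI r).length % 2) 1 && Nat.beq ((els.filter (cmu r)).length % (pI r).length) 0 && ((pI r).all fun a => !Nat.beq (mu a a) 0 || !((pI r).all fun b => cmu a b) || memL a [0, 16, r, mu r 16]) && els.any fun g => Nat.beq (mu g r) (mu (mu r 16) g)) = true := by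
  decide +kernel

theorem rep_sep : (Nat.beq (pI 1).length 32 && Nat.beq (pI 32).length 32 && Nat.beq (pI 33).length 16 && Nat.beq (pI 224).length 32 && Nat.beq (ninv (pI 1)) 12 && Nat.beq (ninv (pI 32)) 20 && Nat.beq (ninv (pI 224)) 20 && ((pI 32).all fun a => !Nat.beq (mu a a) 32) && (pI 224).any fun a => Nat.beq (mu a a) 224) = true := by
  decide +kernel

theorem mk_lt_div {s : Bool} {A p : ℕ} (hA : A < 16) : mk s A p / 32 = p := by
  unfold mk
  split <;> omega

theorem mu_div (n m : ℕ) : mu n m / 32 = pM (n / 32) (m / 32) :=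
  mk_lt_div (Nat.xor_lt_two_pow (n := 4) (Nat.mod_lt _ (by norm_num)) (Nat.mod_lt _ (by norm_num)))

theorem mu_lt_of {n m : ℕ} (h : pM (n / 32) (m / 32) < 24) : mu n m < 768 := by
  have := mu_div n m
  omega

theorem mem_sylI {n : ℕ} : n ∈ sylI ↔ n < 768 ∧ n / 32 ∈ p8 := by
  simp only [sylI, els, List.mem_filter, List.mem_range, List.any_eq_true]
  exact ⟨fun ⟨h, q, hq, e⟩ => ⟨h, Nat.eq_of_beq_eq_true e ▸ hq⟩,
    fun ⟨h, hq⟩ => ⟨h, _, hq, Nat.beq_refl _⟩⟩

theorem mem_wI {n : ℕ} : n ∈ wI ↔ n < 768 ∧ inH2 n = true ∧ n / 32 ∈ v4 := by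
  simp only [wI, els, List.mem_filter, List.mem_range, List.any_eq_true, Bool.and_eq_true]
  exact ⟨fun ⟨h, h2, q, hq, e⟩ => ⟨h, h2, Nat.eq_of_beq_eq_true e ▸ hq⟩,
    fun ⟨h, h2, hq⟩ => ⟨h, h2, _, hq, Nat.beq_refl _⟩⟩

theorem p8_closed : ∀ a ∈ p8, ∀ b ∈ p8, pM a b < 24 ∧ pM a b ∈ p8 := by decide +kernel

theorem p8_even : ∀ p ∈ p8, evP p = true → p ∈ v4 := by decide +kernel

theorem v4_le : ∀ p ∈ v4, p ∈ p8 := by decide +kernel

theorem v4_normal : ∀ p < 24, ∀ r < 24, ∀ q ∈ v4, pM r p = pM p q → r ∈ v4 := by decide +kernel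

theorem syl_closed : closedL sylI = true := by
  simp only [closedL, Bool.and_eq_true, List.all_eq_true, memL, List.any_eq_true]
  refine ⟨⟨0, mem_sylI.2 ⟨by norm_num, by decide⟩, rfl⟩, fun a ha => ?_⟩
  refine ⟨Nat.ble_eq_true_of_le (mem_sylI.1 ha).1, fun b hb => ?_⟩
  have h := p8_closed _ (mem_sylI.1 ha).2 _ (mem_sylI.1 hb).2
  exact ⟨_, mem_sylI.2 ⟨mu_lt_of h.1, by rw [mu_div]; exact h.2⟩, Nat.beq_refl _⟩

end Cfsg.Agent.AutL34Model54
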