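import Cfsg.Agent.Lib.AutL34Fusion54
import Cfsg.Agent.Lib.AutL34Real54

/-!
# Subgroups given by lists of model elements
-/

set_option autoImplicit false

namespace Cfsg.Agent.AutL34Model54

open Subgroup

/-- A `2`-subgroup `P` of `C` of odd index that is normalised only inside `C` is a Sylow subgroup. -/
theorem sylow_of_fix {X : Type*} [Group X] [Finite X] (P C : Subgroup X) (hP : IsPGroup 2 P)
    (hPC : P ≤ C) (hodd : Odd (P.relIndex C)) (hN : ∀ n ∈ normalizer (P : Set X), n ∈ C) :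
    ∃ Q : Sylow 2 X, (Q : Subgroup X) = P := by
  have : Fact (Nat.Prime 2) := ⟨Nat.prime_two⟩
  obtain ⟨Q, hQ⟩ := hP.exists_le_sylow
  refine ⟨Q, (eq_of_le_of_not_lt hQ fun hlt => ?_).symm⟩
  have hnil : Group.IsNilpotent (Q : Subgroup X) := Q.isPGroup'.isNilpotent
  have hlt' : P.subgroupOf (Q : Subgroup X) < normalizer ((P.subgroupOf (Q : Subgroup X) : Subgroup (Q : Subgroup X)) : Set (Q : Subgroup X)) := by
    refine Group.normalizerCondition_of_isNilpotent _ (lt_top_iff_ne_top.2 ?_)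
    rw [Ne, subgroupOf_eq_top]
    exact hlt.not_ge
  obtain ⟨⟨n, hnQ⟩, hn, hnP⟩ := SetLike.exists_of_lt hlt'
  have hnN : n ∈ normalizer (P : Set X) := by
    rw [mem_normalizer_iff]
    intro x
    constructor
    · intro hx
      exact (mem_normalizer_iff.1 hn ⟨x, hQ hx⟩).1 hx
    · intro hx
      have hx' : x ∈ (Q : Subgroup X) := by
        have h := mul_mem (mul_mem (inv_mem hnQ) (hQ hx)) hnQ
        rwa [show n⁻¹ * (n * x * n⁻¹) * n = x by group] at h
      exact (mem_normalizer_iff.1 hn ⟨x, hx'⟩).2 hx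
  set R := P ⊔ zpowers n with hR
  have hRC : R ≤ C := sup_le hPC (zpowers_le.2 (hN n hnN))
  have hR2 : IsPGroup 2 R := Q.isPGroup'.to_le (sup_le hQ (zpowers_le.2 hnQ))
  have hPR : P < R := lt_of_le_of_ne le_sup_left fun e => hnP (by
    rw [mem_subgroupOf, e]
    exact (le_sup_right : zpowers n ≤ R) (mem_zpowers n))
  have h1 : P.relIndex R * R.relIndex C = P.relIndex C := relIndex_mul_relIndex P R C le_sup_left hRC
  obtain ⟨k, hk⟩ := IsPGroup.iff_card.1 hR2
  have h2 : P.relIndex R ∣ 2 ^ k := hk ▸ relIndex_dvd_card P R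
  obtain ⟨j, -, hj⟩ := (Nat.dvd_prime_pow Nat.prime_two).1 h2
  have hj0 : j ≠ 0 := fun e => hPR.not_ge (relIndex_eq_one.1 (by rw [hj, e, pow_zero]))
  have : Even (P.relIndex C) := by
    rw [← h1, hj]
    exact ((Nat.even_pow.2 ⟨even_two, hj0⟩).mul_right _)
  exact (Nat.not_even_iff_odd.2 hodd) this

theorem memL_iff {n : ℕ} {l : List ℕ} : memL n l = true ↔ n ∈ l := by
  simp only [memL, List.any_eq_true]
  exact ⟨fun ⟨m, hm, e⟩ => Nat.eq_of_beq_eq_true e ▸ hm, fun h => ⟨n, h, Nat.beq_refl n⟩⟩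

theorem nodupL_nodup : ∀ {l : List ℕ}, nodupL l = true → l.Nodup
  | [], _ => List.nodup_nil
  | a :: l, h => by
    simp only [nodupL, Bool.and_eq_true, Bool.not_eq_true'] at h
    refine List.nodup_cons.2 ⟨fun ha => ?_, nodupL_nodup h.2⟩
    rw [memL_iff.2 ha] at h
    exact Bool.noConfusion h.1

theorem closedL_spec {l : List ℕ} (h : closedL l = true) :
    0 ∈ l ∧ (∀ a ∈ l, a < 768) ∧ ∀ a ∈ l, ∀ b ∈ l, mu a b ∈ l := by
  simp only [closedL, Bool.and_eq_true, List.all_eq_true, memL_iff] at h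
  exact ⟨h.1, fun a ha => by simpa using (h.2 a ha).1, fun a ha b hb => (h.2 a ha).2 b hb⟩

namespace Cen

variable {G : Type*} [Group G] (K : Cen G false false)

/-- The subgroup with the elements of a closed list. -/
def sub (l : List ℕ) : Subgroup G := closure (K.f '' {n | n ∈ l})

theorem mem_sub [Finite G] {l : List ℕ} (h : closedL l = true) {x : G} :
    x ∈ K.sub l ↔ ∃ n ∈ l, K.f n = x := by
  obtain ⟨h0, hlt, hmul⟩ := closedL_spec h
  constructor
  · intro hx
    let S : Submonoid G :=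
      { carrier := {y | ∃ n ∈ l, K.f n = y}
        one_mem' := ⟨0, h0, K.f_zero⟩
        mul_mem' := by
          rintro _ _ ⟨a, ha, rfl⟩ ⟨b, hb, rfl⟩
          exact ⟨_, hmul a ha b hb, (K.f_mul (hlt a ha) (hlt b hb)).symm⟩ }
    let S' : Subgroup G :=
      { toSubmonoid := S
        inv_mem' := by
          intro y hy
          rw [inv_eq_of_mul_eq_one_right (b := y ^ (orderOf y - 1)) (by
            rw [← pow_succ', Nat.sub_add_cancel (orderOf_pos y), pow_orderOf_eq_one])]
          exact S.pow_mem hy _ }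
    have : K.sub l ≤ S' := by
      rw [sub, closure_le]
      rintro _ ⟨n, hn, rfl⟩
      exact ⟨n, hn, rfl⟩
    exact this hx
  · rintro ⟨n, hn, rfl⟩
    exact subset_closure ⟨n, hn, rfl⟩

theorem card_sub [Finite G] {l : List ℕ} (h : closedL l = true) (hn : nodupL l = true) :
    Nat.card (K.sub l) = l.length := by
  classical
  obtain ⟨-, hlt, -⟩ := closedL_spec h
  have hs : (K.sub l : Set G) = K.f '' (l.toFinset : Set ℕ) := by
    ext x
    simp only [SetLike.mem_coe, K.mem_sub h, Set.mem_image, List.mem_toFinset, Finset.mem_coe]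
  rw [← SetLike.coe_sort_coe, Nat.card_coe_set_eq, hs, Set.ncard_image_of_injOn,
    Set.ncard_coe_finset, List.toFinset_card_of_nodup (nodupL_nodup hn)]
  intro a ha b hb e
  rw [Finset.mem_coe, List.mem_toFinset] at ha hb
  exact K.f_inj (hlt a ha) (hlt b hb) e

theorem sub_le_cent [Finite G] {l : List ℕ} (h : closedL l = true) :
    K.sub l ≤ centralizer ({K.z} : Set G) := by
  intro x hx
  obtain ⟨n, hn, rfl⟩ := (K.mem_sub h).1 hx
  exact mem_centralizer_singleton_iff.2 (K.f_mem ((closedL_spec h).2.1 n hn))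

theorem card_cent_z [Finite G] : Nat.card ↥(centralizer ({K.z} : Set G)) = 768 := by
  rw [← SetLike.coe_sort_coe, Nat.card_coe_set_eq, ← K.bij.image_eq,
    Set.ncard_image_of_injOn K.bij.injOn, ← Finset.coe_Iio, Set.ncard_coe_finset, Nat.card_Iio]

end Cen

end Cfsg.Agent.AutL34Model54
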