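import Cfsg.Agent.Lib.AutL34Fusion54
import Cfsg.Agent.Lib.AutL34Frame54
import Cfsg.Agent.Lib.ZStarTheorem
import Cfsg.Agent.Lib.PGroupsBasic
import Cfsg.Agent.S2929
import Cfsg.Prelude.Def_CaseTheorems

/-!
# Groups with centralizer `2^{1+4}.S₄` of minus type: reduction to the real case (towards S3237)
-/

set_option autoImplicit false

namespace Cfsg.Agent.AutL34Top54

open Subgroup Cfsg.Agent.LargeExtraspecial Cfsg.Agent.AutL34Model54

set_option linter.unusedSectionVars false

variable {G : Type*} [Group G] [Finite G] {z : G}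

/-- An odd normal subgroup on which the involution `z` acts without fixed points is inverted by
`z` and abelian. -/
theorem inverts (hzz : z * z = 1) (N : Subgroup G) [N.Normal]
    (hfix : ∀ k ∈ N, k * z = z * k → k = 1) :
    (∀ k ∈ N, z * k * z⁻¹ = k⁻¹) ∧ IsMulCommutative ↥N := by
  let φ : N →* N := (MulAut.conjNormal (H := N) z).toMonoidHom
  have hval : ∀ k : N, (φ k : G) = z * k * z⁻¹ := fun k => MulAut.conjNormal_apply z k
  have hf : MonoidHom.FixedPointFree φ := by
    intro k hk
    have h' : z * (k : G) * z⁻¹ = k := (hval k).symm.trans (congrArg Subtype.val hk)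
    exact Subtype.ext (hfix k k.2 (mul_inv_eq_iff_eq_mul.1 h').symm)
  have hinv : Function.Involutive φ := fun k => by
    apply Subtype.ext
    rw [hval, hval]
    calc z * (z * (k : G) * z⁻¹) * z⁻¹ = (z * z) * k * (z * z)⁻¹ := by group
      _ = k := by rw [hzz]; simp
  refine ⟨fun k hk => ?_, ⟨⟨fun a b => hf.commute_all_of_involutive hinv a b⟩⟩⟩
  exact (hval ⟨k, hk⟩).symm.trans
    (congrArg Subtype.val (congrFun (hf.coe_eq_inv_of_involutive hinv) ⟨k, hk⟩))

/-- The data of the statement. -/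
structure Hyp (z : G) (E : Subgroup ↥(centralizer ({z} : Set G))) : Prop where
  ord : orderOf z = 2
  normal : E.Normal
  ext : Cfsg.IsExtraspecial 2 ↥E
  card : Nat.card ↥E = 32
  cent : centralizer (E : Set ↥(centralizer ({z} : Set G))) ≤ E

variable {E : Subgroup ↥(centralizer ({z} : Set G))}

theorem Hyp.zz (h : Hyp z E) : z * z = 1 := by
  have := pow_orderOf_eq_one z
  rwa [h.ord, pow_two] at this

/-- A subgroup of odd order, normal in `G`, has no fixed point of `z`. -/
theorem Hyp.fix_eq_one (h : Hyp z E) (N : Subgroup G) [hN : N.Normal] (hodd : Odd (Nat.card ↥N))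
    (k : G) (hk : k ∈ N) (hkz : k * z = z * k) : k = 1 := by
  have := h.normal
  set kk : ↥(centralizer ({z} : Set G)) := ⟨k, mem_centralizer_singleton_iff.2 hkz⟩
  have hdis : ∀ x ∈ E, (x : G) ∈ N → x = 1 := by
    intro x hx hxN
    have h1 : orderOf (x : G) ∣ Nat.card ↥N := Subgroup.orderOf_dvd_natCard N hxN
    have h2 : orderOf (x : G) ∣ 32 := by
      rw [← h.card, Subgroup.orderOf_coe]
      exact Subgroup.orderOf_dvd_natCard E hx
    have h3 : (Nat.card ↥N).Coprime 32 := by
      rw [show (32 : ℕ) = 2 ^ 5 by norm_num]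
      exact Nat.Coprime.pow_right 5 (Nat.coprime_two_right.2 hodd)
    exact Subtype.ext (orderOf_eq_one_iff.1 (Nat.eq_one_of_dvd_one (by
      rw [← h3]; exact Nat.dvd_gcd h1 h2)))
  have hcomm : kk ∈ centralizer (E : Set ↥(centralizer ({z} : Set G))) := by
    rw [mem_centralizer_iff]
    intro u hu
    have h1 : u * kk * u⁻¹ * kk⁻¹ = 1 := hdis _ (by
        have : u * kk * u⁻¹ * kk⁻¹ = u * (kk * u⁻¹ * kk⁻¹) := by group
        rw [this]
        exact mul_mem hu (h.normal.conj_mem _ (inv_mem hu) kk))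
      (by
        rw [Subgroup.coe_mul, Subgroup.coe_mul, Subgroup.coe_mul, Subgroup.coe_inv,
          Subgroup.coe_inv]
        exact mul_mem (hN.conj_mem _ hk _) (inv_mem hk))
    calc u * kk = u * kk * u⁻¹ * kk⁻¹ * (kk * u) := by group
      _ = kk * u := by rw [h1, one_mul]
  exact congrArg Subtype.val (hdis kk (h.cent hcomm) hk)

/-- The centralizer of `z` is solvable. -/
theorem Hyp.solvable (h : Hyp z E) [E.Normal]
    (e : (↥(centralizer ({z} : Set G)) ⧸ E) ≃* Equiv.Perm (Fin 4)) :
    Group.IsSolvable ↥(centralizer ({z} : Set G)) := by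
  have : Fact (Nat.Prime 2) := ⟨Nat.prime_two⟩
  have hnil : Group.IsNilpotent ↥E :=
    (IsPGroup.of_card (p := 2) (n := 5) (by rw [h.card]; norm_num)).isNilpotent
  have : Group.IsSolvable (Equiv.Perm (Fin 4)) := S2929.isSolvable_perm_four
  have : Group.IsSolvable (↥(centralizer ({z} : Set G)) ⧸ E) :=
    Group.isSolvable_of_isSolvable_injective (f := e.toMonoidHom) e.injective
  exact (Group.isSolvable_iff_subgroup_quotient E).mpr ⟨inferInstance, inferInstance⟩

/-- A nontrivial normal subgroup of `G` inside `C(z)` contains `z`. -/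
theorem Hyp.z_mem (h : Hyp z E) (N : Subgroup G) (hN : N.Normal)
    (hle : N ≤ centralizer ({z} : Set G)) (hne : N ≠ ⊥) : z ∈ N := by
  classical
  have := h.normal
  have : Fact (Nat.Prime 2) := ⟨Nat.prime_two⟩
  let N' : Subgroup ↥(centralizer ({z} : Set G)) := N.subgroupOf _
  have hN' : N'.Normal := hN.subgroupOf _
  let W : Subgroup ↥E := N'.subgroupOf E
  have hW : W.Normal := hN'.subgroupOf E
  have hWne : W ≠ ⊥ := by
    intro hbot
    refine hne (eq_bot_iff.2 fun k hk => ?_)
    set kk : ↥(centralizer ({z} : Set G)) := ⟨k, hle hk⟩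
    have hdis : ∀ x ∈ E, x ∈ N' → x = 1 := fun x hx hxN => by
      have : (⟨x, hx⟩ : ↥E) ∈ W := hxN
      rw [hbot, mem_bot] at this
      exact congrArg Subtype.val this
    have hcomm : kk ∈ centralizer (E : Set ↥(centralizer ({z} : Set G))) := by
      rw [mem_centralizer_iff]
      intro u hu
      have h1 : u * kk * u⁻¹ * kk⁻¹ = 1 := hdis _ (by
          have : u * kk * u⁻¹ * kk⁻¹ = u * (kk * u⁻¹ * kk⁻¹) := by group
          rw [this]
          exact mul_mem hu (h.normal.conj_mem _ (inv_mem hu) kk))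
        (mul_mem (hN'.conj_mem _ hk _) (inv_mem hk))
      calc u * kk = u * kk * u⁻¹ * kk⁻¹ * (kk * u) := by group
        _ = kk * u := by rw [h1, one_mul]
    exact mem_bot.2 (congrArg Subtype.val (hdis kk (h.cent hcomm) hk))
  obtain ⟨c, hc, -, -⟩ := exists_ext h.ext
  have hzH : z ∈ centralizer ({z} : Set G) := mem_centralizer_singleton_iff.2 rfl
  have hzE : (⟨z, hzH⟩ : ↥(centralizer ({z} : Set G))) ∈ E := h.cent (mem_centralizer_iff.2
    fun u _ => Subtype.ext (mem_centralizer_singleton_iff.1 u.2))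
  have hcz : (⟨z, hzH⟩ : ↥(centralizer ({z} : Set G))) = c := (hc.central hzE fun u _ =>
    Subtype.ext (mem_centralizer_singleton_iff.1 u.2)).resolve_left fun e => by
      have e' : z = 1 := congrArg Subtype.val e
      have := h.ord
      rw [e', orderOf_one] at this
      omega
  have hp : IsPGroup 2 ↥E := IsPGroup.of_card (p := 2) (n := 5) (by rw [h.card]; norm_num)
  obtain ⟨⟨w, hwW, hwc⟩, hw1'⟩ :=
    Subgroup.ne_bot_iff_exists_ne_one.1 (PGroupsBasic.inf_center_ne_bot hp (N := W) hWne)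
  have hw1 : w ≠ 1 := fun e => hw1' (Subtype.ext e)
  have hwz : (w : ↥(centralizer ({z} : Set G))) = c :=
    (hc.central w.2 fun u hu =>
      congrArg Subtype.val (mem_center_iff.1 hwc ⟨u, hu⟩)).resolve_left
        fun e => hw1 (Subtype.ext e)
  have : (w : ↥(centralizer ({z} : Set G))) ∈ N' := hwW
  rw [hwz, ← hcz] at this
  exact this

/-- If `z` is isolated, `G` is solvable. -/
theorem Hyp.solvable_of_isolated (h : Hyp z E) [E.Normal]
    (e : (↥(centralizer ({z} : Set G)) ⧸ E) ≃* Equiv.Perm (Fin 4))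
    (hiso : Cfsg.IsIsolatedInvolution z) : Group.IsSolvable G := by
  set O := Cfsg.pPrimeCore 2 G
  have hO : O.Normal := HallCore.pPrimeCore_normal 2 G
  have hodd : Odd (Nat.card ↥O) := ZStarTheorem.odd_card_pPrimeCore
  obtain ⟨hinv, hab⟩ := inverts h.zz O (h.fix_eq_one O hodd)
  have : Group.IsSolvable ↥O := Group.isSolvable_of_comm fun a b => hab.is_comm.comm a b
  have := h.solvable e
  have hsurj : Function.Surjective
      ((QuotientGroup.mk' O).comp (centralizer ({z} : Set G)).subtype) := by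
    intro q
    obtain ⟨g, rfl⟩ := QuotientGroup.mk'_surjective O q
    -- `g` conjugates `z` to an element of `z O`
    set w := z⁻¹ * (g * z * g⁻¹) with hw
    have hwO : w ∈ O := by
      have h1 := ZStarTheorem.commutator_mem hiso g
      have h2 := hO.conj_mem _ (inv_mem h1) z⁻¹
      have : w = z⁻¹ * (z * g * z⁻¹ * g⁻¹)⁻¹ * z⁻¹⁻¹ := by rw [hw]; group
      rw [this]
      exact h2
    obtain ⟨j, hj⟩ := hodd
    set u := w ^ (j + 1) with hu
    have huO : u ∈ O := pow_mem hwO _
    have huu : u * u = w := by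
      rw [hu, ← pow_add, show j + 1 + (j + 1) = Nat.card ↥O + 1 by omega, pow_succ]
      have : w ^ Nat.card ↥O = 1 := by
        have := pow_card_eq_one' (G := ↥O) (x := ⟨w, hwO⟩)
        exact congrArg Subtype.val this
      rw [this, one_mul]
    have hzu : z * u * z⁻¹ = u⁻¹ := hinv u huO
    have hconj : g * z * g⁻¹ = u⁻¹ * z * u := by
      have e1 : g * z * g⁻¹ = z * w := by rw [hw]; group
      rw [e1, ← huu, ← hzu]; group
    refine ⟨⟨u * g, mem_centralizer_singleton_iff.2 ?_⟩, ?_⟩
    · calc u * g * z = u * (g * z * g⁻¹) * g := by group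
        _ = z * (u * g) := by rw [hconj]; group
    · show QuotientGroup.mk' O (u * g) = QuotientGroup.mk' O g
      rw [map_mul, QuotientGroup.mk'_apply, (QuotientGroup.eq_one_iff u).2 huO, one_mul]
  have : Group.IsSolvable (G ⧸ O) := Group.isSolvable_of_surjective hsurj
  exact (Group.isSolvable_iff_subgroup_quotient O).mpr ⟨inferInstance, inferInstance⟩

/-- The statement, given the theorem for the real case. -/
theorem result_of_real (hz : orderOf z = 2)
    (E : Subgroup ↥(centralizer ({z} : Set G))) [E.Normal] (hE : Cfsg.IsExtraspecial 2 ↥E)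
    (hE32 : Nat.card ↥E = 32)
    (hEminus : ∀ A : Subgroup ↥E, Cfsg.IsElementaryAbelian 2 A → Nat.card ↥A ≠ 8)
    (hCE : centralizer (E : Set ↥(centralizer ({z} : Set G))) ≤ E)
    (e : (↥(centralizer ({z} : Set G)) ⧸ E) ≃* Equiv.Perm (Fin 4)) {P : Prop}
    (hreal : ∀ K : Cen G false false, (∃ g, g * K.z * g⁻¹ = K.f 15) →
      Group.IsSolvable ↥(centralizer ({K.z} : Set G)) →
      (∀ N : Subgroup G, N.Normal → N ≤ centralizer ({K.z} : Set G) → N ≠ ⊥ → K.z ∈ N) →
      ¬ Group.IsSolvable G → P) :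
    IsMulCommutative ↥(Cfsg.oddCore G) ∧ (¬ Group.IsSolvable G → P) := by
  have h : Hyp z E := ⟨hz, inferInstance, hE, hE32, hCE⟩
  have : (Cfsg.pPrimeCore 2 G).Normal := HallCore.pPrimeCore_normal 2 G
  refine ⟨(inverts h.zz _ (h.fix_eq_one _ ZStarTheorem.odd_card_pPrimeCore)).2, fun hns => ?_⟩
  obtain ⟨e', d, M, hMz, hbij⟩ := exists_frame z hz E hE hE32 hEminus hCE e
  subst hMz
  let K : Cen G e' d := ⟨M, hbij⟩
  by_cases hfus : ∃ g : G, g * K.z * g⁻¹ ≠ K.z ∧ Commute K.z (g * K.z * g⁻¹)
  · have ht := K.t_fused hfus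
    obtain ⟨rfl, rfl⟩ := K.params ht
    exact hreal K ht (h.solvable e) h.z_mem hns
  · push Not at hfus
    exact absurd (h.solvable_of_isolated e ⟨hz, fun g hg => by
      by_contra hne
      exact hfus g hne hg⟩) hns

end Cfsg.Agent.AutL34Top54
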