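import Mathlib
import Cfsg.Agent.Lib.CharKernel

/-!
The automorphism group of a finite nonabelian group has at most `|G| / p` orbits,
`p` the least prime divisor of the order (helper56).
-/

set_option autoImplicit false

namespace Cfsg.Agent.AutOrbitCount56

universe u

variable {G : Type u} [Group G]

/-- Orbit count bounded by a cost function. -/
theorem orbit_bound [Finite G] [Fintype G] (cost : G → ℕ) (N : ℕ)
    (h : ∀ g : G, ∀ g' ∈ MulAction.orbit (MulAut G) g,
      N ≤ Nat.card ↥(MulAction.orbit (MulAut G) g) * cost g') :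
    N * Nat.card (MulAction.orbitRel.Quotient (MulAut G) G) ≤ ∑ g, cost g := by
  classical
  have : Fintype (MulAction.orbitRel.Quotient (MulAut G) G) := Fintype.ofFinite _
  let π : G → MulAction.orbitRel.Quotient (MulAut G) G := fun g => Quotient.mk'' g
  rw [← Finset.sum_fiberwise (Finset.univ : Finset G) π cost, Nat.card_eq_fintype_card, mul_comm,
    ← smul_eq_mul, ← Finset.card_univ]
  refine Finset.card_nsmul_le_sum _ _ _ fun ω _ => ?_
  obtain ⟨g, rfl⟩ := Quotient.mk''_surjective ω
  set F := Finset.univ.filter fun g' : G => π g' = Quotient.mk'' g with hF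
  have hmem : ∀ g', g' ∈ F ↔ g' ∈ MulAction.orbit (MulAut G) g := fun g' => by
    rw [hF, Finset.mem_filter, and_iff_right (Finset.mem_univ _)]
    exact Quotient.eq''.trans MulAction.orbitRel_apply
  have hcard : Nat.card ↥(MulAction.orbit (MulAut G) g) = F.card := by
    rw [← Nat.card_eq_finsetCard]
    exact Nat.card_congr (Equiv.subtypeEquivRight fun g' => (hmem g').symm)
  have hpos : 0 < F.card := Finset.card_pos.2 ⟨g, (hmem g).2 (MulAction.mem_orbit_self g)⟩
  obtain ⟨g', hg', hmin⟩ := F.exists_min_image cost (Finset.card_pos.1 hpos)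
  calc N ≤ F.card * cost g' := hcard ▸ h g g' ((hmem g').1 hg')
    _ = F.card • cost g' := (smul_eq_mul _ _).symm
    _ ≤ _ := Finset.card_nsmul_le_sum F cost _ fun a ha => hmin a ha

theorem orbit_eq {g g' : G} (h : g' ∈ MulAction.orbit (MulAut G) g) :
    MulAction.orbit (MulAut G) g' = MulAction.orbit (MulAut G) g :=
  MulAction.orbit_eq_iff.2 h

theorem conj_mem_orbit (g v : G) : g * v * g⁻¹ ∈ MulAction.orbit (MulAut G) v :=
  ⟨MulAut.conj g, rfl⟩

/-- A divisor of `|G|` greater than one is at least the least prime divisor. -/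
theorem minFac_le_of_dvd {n m : ℕ} (hd : m ∣ n) (hm : 1 < m) : n.minFac ≤ m :=
  Nat.minFac_le_of_dvd hm hd

theorem sq_minFac_le_of_dvd {n m : ℕ} (hd : m ∣ n) (hm : 1 < m) (hnp : ¬ m.Prime) :
    n.minFac ^ 2 ≤ m := by
  obtain ⟨a, had, ha1, ham⟩ := Nat.exists_dvd_of_not_prime2 hm hnp
  obtain ⟨b, rfl⟩ := had
  have hb : 1 < b := by
    rcases b with _ | _ | b
    · simp at hm
    · simp at ham
    · omega
  rw [sq]
  exact Nat.mul_le_mul (Nat.minFac_le_of_dvd ha1 ((dvd_mul_right a b).trans hd))
    (Nat.minFac_le_of_dvd hb ((dvd_mul_left b a).trans hd))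

theorem card_orbit_ge [Finite G] {v : G} (hv : v ∉ Subgroup.center G) :
    (Nat.card G).minFac ≤ Nat.card ↥(MulAction.orbit (MulAut G) v) := by
  classical
  have : Finite (ConjAct G) := Finite.of_equiv G ConjAct.toConjAct.toEquiv
  have h1 : MulAction.orbit (ConjAct G) v ⊆ MulAction.orbit (MulAut G) v := by
    rintro _ ⟨g, rfl⟩
    exact conj_mem_orbit (ConjAct.ofConjAct g) v
  refine le_trans ?_ (Nat.card_mono (Set.toFinite _) h1)
  rw [← Nat.card_congr (MulAction.orbitEquivQuotientStabilizer (ConjAct G) v).symm]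
  refine Nat.minFac_le_of_dvd ?_ ?_
  · refine Nat.lt_of_le_of_ne Nat.card_pos fun h => hv ?_
    · have htop : MulAction.stabilizer (ConjAct G) v = ⊤ := Subgroup.index_eq_one.1 h.symm
      rw [Subgroup.mem_center_iff]
      intro g
      have hg : ConjAct.toConjAct g ∈ MulAction.stabilizer (ConjAct G) v := htop ▸ Subgroup.mem_top _
      rw [MulAction.mem_stabilizer_iff, ConjAct.smul_def, ConjAct.ofConjAct_toConjAct,
        mul_inv_eq_iff_eq_mul] at hg
      exact hg
  · exact (Subgroup.index_dvd_card (MulAction.stabilizer (ConjAct G) v)).trans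
      (dvd_of_eq (Nat.card_congr ConjAct.ofConjAct.toEquiv))

theorem sq_le_index_center [Finite G] (hna : ¬ IsMulCommutative G) :
    (Nat.card G).minFac ^ 2 ≤ (Subgroup.center G).index := by
  refine sq_minFac_le_of_dvd (Subgroup.index_dvd_card _) ?_ ?_
  · refine Nat.lt_of_le_of_ne (Nat.pos_of_ne_zero Subgroup.index_ne_zero_of_finite) fun h => hna ?_
    have := Subgroup.index_eq_one.1 h.symm
    exact ⟨⟨fun a b => ((Subgroup.mem_center_iff.1 (this ▸ Subgroup.mem_top b)) a)⟩⟩
  · intro hp
    have : Fact (Nat.card (G ⧸ Subgroup.center G)).Prime := ⟨hp⟩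
    have hc : IsCyclic (G ⧸ Subgroup.center G) := isCyclic_of_prime_card rfl
    refine hna ⟨⟨?_⟩⟩
    exact commutative_of_cyclic_center_quotient (QuotientGroup.mk' (Subgroup.center G))
      (by rw [QuotientGroup.ker_mk'])

theorem card_classes_bound [Finite G]
    (hbig : (Nat.card G).minFac + 1 ≤ Nat.card ↥(commutator G)) :
    Nat.card (ConjClasses G) * (Nat.card G).minFac ≤ Nat.card G := by
  classical
  rw [← CharBasicOrth.card_irrCharacter, Nat.card_eq_fintype_card]
  set p := (Nat.card G).minFac with hp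
  set L := Finset.univ.filter fun χ : Cfsg.IrrCharacter G => Cfsg.charDegree (χ : G → ℂ) = 1
  set k := Fintype.card (Cfsg.IrrCharacter G)
  have hL : L.card = (commutator G).index := by
    rw [← CharBasicLinear.card_linear, ← Nat.card_eq_finsetCard]
    refine Nat.card_congr (Equiv.subtypeEquivRight fun χ => ?_)
    simp only [L, Finset.mem_filter, Finset.mem_univ, true_and]
    rw [CharAverage.irr_apply_one]
    exact_mod_cast Iff.rfl
  have hpp : p.Prime := by
    refine Nat.minFac_prime fun h => ?_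
    have := (Nat.le_of_dvd Nat.card_pos (Subgroup.card_subgroup_dvd_card (commutator G)))
    have := Nat.minFac_pos (Nat.card G)
    omega
  have hsum := CharKernel.sum_sq_charDegree (G := G)
  rw [← Finset.sum_filter_add_sum_filter_not (Finset.univ : Finset (Cfsg.IrrCharacter G))
    (fun χ => Cfsg.charDegree (χ : G → ℂ) = 1)
    (fun χ => Cfsg.charDegree (χ : G → ℂ) ^ 2)] at hsum
  have h1 : ∑ χ ∈ L, Cfsg.charDegree (χ : G → ℂ) ^ 2 = L.card := by
    rw [Finset.card_eq_sum_ones]
    exact Finset.sum_congr rfl fun χ hχ => by rw [(Finset.mem_filter.1 hχ).2, one_pow]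
  have h2 : (k - L.card) * p ^ 2 ≤ ∑ χ ∈ Finset.univ.filter
      (fun χ : Cfsg.IrrCharacter G => ¬ Cfsg.charDegree (χ : G → ℂ) = 1),
      Cfsg.charDegree (χ : G → ℂ) ^ 2 := by
    rw [← smul_eq_mul]
    refine le_trans (le_of_eq ?_) (Finset.card_nsmul_le_sum _ _ (p ^ 2) fun χ hχ => ?_)
    · congr 1
      have h3 := Finset.card_filter_add_card_filter_not (s := (Finset.univ : Finset (Cfsg.IrrCharacter G)))
        (fun χ => Cfsg.charDegree (χ : G → ℂ) = 1)
      rw [Finset.card_univ] at h3
      change L.card + _ = k at h3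
      omega
    · refine Nat.pow_le_pow_left (Nat.minFac_le_of_dvd ?_ (CharAverage.charDegree_dvd_card χ)) 2
      have := CharAverage.irr_degree_pos χ
      have := (Finset.mem_filter.1 hχ).2
      omega
  have hLk : L.card ≤ k := L.card_le_univ
  have h4 : (p + 1) * L.card ≤ Nat.card G := by
    rw [hL, ← Subgroup.card_mul_index (commutator G)]
    exact Nat.mul_le_mul_right _ hbig
  have h5 : L.card + (k - L.card) * p ^ 2 ≤ Nat.card G := by
    rw [← hsum]
    exact add_le_add h1.ge h2
  have hp1 := hpp.two_le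
  obtain ⟨j, hj⟩ : ∃ j, k = L.card + j := ⟨k - L.card, by omega⟩
  rw [hj, Nat.add_sub_cancel_left] at h5
  rw [hj]
  by_contra hcon
  rw [not_le] at hcon
  nlinarith [Nat.mul_le_mul_left (p - 1) h4, Nat.sub_add_cancel (hp1.trans' one_le_two)]

/-- The commutator `u v u⁻¹ v⁻¹`. -/
def com (u v : G) : G := u * v * u⁻¹ * v⁻¹

theorem com_mem (u v : G) : com u v ∈ commutator G :=
  Subgroup.commutator_mem_commutator (Subgroup.mem_top u) (Subgroup.mem_top v)

theorem com_swap (u v : G) : (com u v)⁻¹ = com v u := by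
  simp [com, mul_assoc]

theorem mul_eq_com_mul (u v : G) : u * v = com u v * v * u := by
  simp [com, mul_assoc]

theorem com_eq_one_iff {u v : G} : com u v = 1 ↔ u * v = v * u := by
  rw [com, mul_inv_eq_one, mul_inv_eq_iff_eq_mul]

section Small

variable (hcen : commutator G ≤ Subgroup.center G)
include hcen

theorem com_central (u v g : G) : g * com u v = com u v * g :=
  Subgroup.mem_center_iff.1 (hcen (com_mem u v)) g

theorem com_mul_left (u v w : G) : com (u * v) w = com u w * com v w := by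
  have h := com_central hcen v w u
  calc com (u * v) w = u * com v w * w * u⁻¹ * w⁻¹ := by simp [com, mul_assoc]
    _ = com v w * (u * w * u⁻¹ * w⁻¹) := by rw [h]; simp [mul_assoc]
    _ = com u w * com v w := by rw [← com_central hcen v w]; rfl

theorem com_mul_right (u v w : G) : com w (u * v) = com w u * com w v := by
  rw [← com_swap (u * v) w, com_mul_left hcen, mul_inv_rev, com_swap, com_swap,
    com_central hcen w u]

theorem com_pow_left (u w : G) : ∀ n : ℕ, com (u ^ n) w = com u w ^ n
  | 0 => by simp [com]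
  | n + 1 => by rw [pow_succ, com_mul_left hcen, com_pow_left u w n, pow_succ]

theorem mul_pow_eq (v w : G) :
    ∀ n : ℕ, (v * w) ^ n = v ^ n * w ^ n * com w v ^ (n.choose 2)
  | 0 => by simp
  | n + 1 => by
    have hz : ∀ m : ℕ, ∀ g : G, com w v ^ m * g = g * com w v ^ m := fun m g =>
      ((Commute.pow_right (com_central hcen w v g) m).eq).symm
    rw [pow_succ, mul_pow_eq v w n, mul_assoc (v ^ n * w ^ n), hz, Nat.choose_succ_succ',
      Nat.choose_one_right, pow_add (com w v), pow_succ v, pow_succ w]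
    have h := mul_eq_com_mul (w ^ n) v
    rw [com_pow_left hcen] at h
    calc v ^ n * w ^ n * (v * w * com w v ^ n.choose 2)
        = v ^ n * (w ^ n * v) * w * com w v ^ n.choose 2 := by simp [mul_assoc]
      _ = v ^ n * (v * w ^ n * com w v ^ n) * w * com w v ^ n.choose 2 := by
          rw [h, mul_assoc (com w v ^ n), hz n]
      _ = v ^ n * v * (w ^ n * w) * (com w v ^ n * com w v ^ n.choose 2) := by
          have := hz n w
          simp only [mul_assoc]
          rw [← mul_assoc (com w v ^ n) w, this, mul_assoc]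

end Small

/-- A homomorphism to `ZMod p` separating an element from a subgroup with elementary quotient. -/
theorem exists_functional [Finite G] {p : ℕ} [hp : Fact p.Prime] (T : Subgroup G)
    (hder : commutator G ≤ T) (hpow : ∀ g : G, g ^ p ∈ T) {v : G} (hv : v ∉ T) :
    ∃ φ : G →* Multiplicative (ZMod p),
      (∀ t ∈ T, φ t = 1) ∧ φ v = Multiplicative.ofAdd 1 := by
  classical
  obtain ⟨M, ⟨hTM, hvM⟩, hmax⟩ :=
    (Set.toFinite {M : Subgroup G | T ≤ M ∧ v ∉ M}).exists_maximal ⟨T, le_rfl, hv⟩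
  have hMn : M.Normal := Subgroup.Normal.of_commutator_le G (hder.trans hTM)
  set Q := G ⧸ M
  have hv1 : (v : Q) ≠ 1 := fun h => hvM ((QuotientGroup.eq_one_iff v).1 h)
  have hQp : ∀ q : Q, q ^ p = 1 := by
    intro q
    obtain ⟨g, rfl⟩ := QuotientGroup.mk'_surjective M q
    rw [← map_pow, QuotientGroup.mk'_apply, QuotientGroup.eq_one_iff]
    exact hTM (hpow g)
  have hord : ∀ q : Q, q ≠ 1 → orderOf q = p := fun q hq => orderOf_eq_prime (hQp q) hq
  have hgen : ∀ q : Q, q ∈ Subgroup.zpowers (v : Q) := by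
    intro q
    by_cases hq : q = 1
    · rw [hq]; exact one_mem _
    set K := (Subgroup.zpowers q).comap (QuotientGroup.mk' M)
    have hMK : M ≤ K := fun m hm => by
      show (m : Q) ∈ Subgroup.zpowers q
      rw [(QuotientGroup.eq_one_iff m).2 hm]; exact one_mem _
    have hvK : v ∈ K := by
      by_contra hvK
      have hKM : K ≤ M := hmax ⟨hTM.trans hMK, hvK⟩ hMK
      obtain ⟨g, rfl⟩ := QuotientGroup.mk'_surjective M q
      exact hq ((QuotientGroup.eq_one_iff g).2 (hKM (Subgroup.mem_zpowers _)))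
    have hle : Subgroup.zpowers (v : Q) ≤ Subgroup.zpowers q := Subgroup.zpowers_le.2 hvK
    have heq : Subgroup.zpowers (v : Q) = Subgroup.zpowers q :=
      Subgroup.eq_of_le_of_card_ge hle
        (by rw [Nat.card_zpowers, Nat.card_zpowers, hord _ hv1, hord _ hq])
    rw [heq]; exact Subgroup.mem_zpowers q
  have hpQ : orderOf (v : Q) = p := hord _ hv1
  have hcard : Nat.card Q = Nat.card (Multiplicative (ZMod p)) := by
    rw [← orderOf_eq_card_of_forall_mem_zpowers hgen, hpQ]
    simp
  have hgen' : ∀ a : Multiplicative (ZMod p), a ∈ Subgroup.zpowers (Multiplicative.ofAdd (1 : ZMod p)) := by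
    intro a
    refine ⟨(a.toAdd.val : ℤ), ?_⟩
    show (Multiplicative.ofAdd (1 : ZMod p)) ^ (a.toAdd.val : ℤ) = a
    rw [zpow_natCast, ← ofAdd_nsmul, nsmul_eq_mul, mul_one, ZMod.natCast_zmod_val, ofAdd_toAdd]
  let e := mulEquivOfOrderOfEq hgen hgen'
    (by rw [hpQ, orderOf_ofAdd_eq_addOrderOf, ZMod.addOrderOf_one])
  refine ⟨e.toMonoidHom.comp (QuotientGroup.mk' M), fun t ht => ?_, ?_⟩
  · show e (t : Q) = 1
    rw [(QuotientGroup.eq_one_iff t).2 (hTM ht), map_one]
  · exact mulEquivOfOrderOfEq_apply_gen hgen hgen'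
      (by rw [hpQ, orderOf_ofAdd_eq_addOrderOf, ZMod.addOrderOf_one])

/-- Shifting by a homomorphism into a central subgroup killed by it. -/
theorem mul_hom_mem_orbit [Finite G] (f : G →* G) (hc : ∀ g, f g ∈ Subgroup.center G)
    (hff : ∀ g, f (f g) = 1) (v : G) : v * f v ∈ MulAction.orbit (MulAut G) v := by
  let φ : G →* G := MonoidHom.mk' (fun g => g * f g) (fun a b => by
    show a * b * f (a * b) = a * f a * (b * f b)
    rw [map_mul]
    have := Subgroup.mem_center_iff.1 (hc a) b
    calc a * b * (f a * f b) = a * (b * f a) * f b := by simp [mul_assoc]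
      _ = a * f a * (b * f b) := by rw [this]; simp [mul_assoc])
  have hinj : Function.Injective φ := by
    refine (injective_iff_map_eq_one φ).2 fun g hg => ?_
    have h1 : g * f g = 1 := hg
    have h2 := congrArg f h1
    rw [map_mul, hff, mul_one, map_one] at h2
    rwa [h2, mul_one] at h1
  exact ⟨MulEquiv.ofBijective φ ⟨hinj, Finite.injective_iff_surjective.1 hinj⟩, rfl⟩

section Prime

variable [Finite G] {p : ℕ} [hp : Fact p.Prime]

theorem orbit_big_of_kernel (T : Subgroup G) (hder : commutator G ≤ T)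
    (hcen : T ≤ Subgroup.center G) (hpow : ∀ g : G, g ^ p ∈ T) {v : G} (hv : v ∉ T) :
    Nat.card {t : G // t ∈ T ∧ t ^ p = 1} ≤ Nat.card ↥(MulAction.orbit (MulAut G) v) := by
  obtain ⟨φ, hφT, hφv⟩ := exists_functional T hder hpow hv
  refine Nat.card_le_card_of_injective
    (fun t : {t : G // t ∈ T ∧ t ^ p = 1} => (⟨v * t, ?_⟩ : ↥(MulAction.orbit (MulAut G) v)))
    (fun a b h => Subtype.ext (mul_left_cancel (Subtype.ext_iff.1 h)))
  obtain ⟨t, htT, htp⟩ := t
  let τ : Multiplicative (ZMod p) →* G := MonoidHom.mk' (fun a => t ^ a.toAdd.val) (fun a b => by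
    show t ^ (a.toAdd + b.toAdd).val = t ^ a.toAdd.val * t ^ b.toAdd.val
    rw [← pow_add, ZMod.val_add, ← pow_eq_pow_mod _ htp])
  let f : G →* G := τ.comp φ
  have hf : ∀ g, f g ∈ T := fun g => pow_mem htT _
  have hfv : f v = t := by
    show t ^ (φ v).toAdd.val = t
    rw [hφv, toAdd_ofAdd, ZMod.val_one, pow_one]
  have := mul_hom_mem_orbit f (fun g => hcen (hf g))
    (fun g => by show τ (φ (f g)) = 1; rw [hφT _ (hf g), map_one]) v
  rwa [hfv] at this

/-- The transvection-type automorphism attached to `x`. -/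
theorem orbit_big_of_transvection (hcen : commutator G ≤ Subgroup.center G) {c : G}
    (hcp : orderOf c = p) (hcc : c ∈ Subgroup.center G)
    (hgen : ∀ d ∈ commutator G, ∃ n : ℕ, c ^ n = d)
    (hmin : p = (Nat.card G).minFac) {x : G} (hxc : x ∉ Subgroup.center G)
    (hxpc : x ^ p ∈ Subgroup.center G) (hx : x ^ p * c ^ p.choose 2 = 1) {v : G}
    (hv : com x v ≠ 1) : p ^ 2 ≤ Nat.card ↥(MulAction.orbit (MulAut G) v) := by
  classical
  have hcz : ∀ (m : ℕ) (g : G), g * c ^ m = c ^ m * g := fun m g =>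
    (Commute.pow_right (Subgroup.mem_center_iff.1 hcc g) m).eq
  let w : ℕ → G := fun n => x ^ n * c ^ n.choose 2
  have hw_add : ∀ a b, w (a + b) = w a * w b * c ^ (a * b) := by
    intro a b
    have hch : (a + b).choose 2 = a.choose 2 + b.choose 2 + a * b := by
      induction b with
      | zero => simp
      | succ b ih =>
        rw [← add_assoc a b 1, Nat.choose_succ_succ' (a + b), Nat.choose_succ_succ' b,
          Nat.choose_one_right, Nat.choose_one_right, ih]
        ring
    show x ^ (a + b) * c ^ (a + b).choose 2 =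
      x ^ a * c ^ a.choose 2 * (x ^ b * c ^ b.choose 2) * c ^ (a * b)
    rw [hch, pow_add, pow_add, pow_add]
    calc x ^ a * x ^ b * (c ^ a.choose 2 * c ^ b.choose 2 * c ^ (a * b))
        = x ^ a * (x ^ b * c ^ a.choose 2) * c ^ b.choose 2 * c ^ (a * b) := by simp [mul_assoc]
      _ = _ := by rw [hcz (a.choose 2) (x ^ b)]; simp only [mul_assoc]
  have hw_per : ∀ n, w (n + p) = w n := by
    intro n
    rw [hw_add, show w p = 1 from hx, mul_one, pow_mul', ← hcp, pow_orderOf_eq_one, one_pow,
      mul_one]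
  have hw_mod : ∀ n, w n = w (n % p) := fun n => by
    conv_lhs => rw [← Nat.mod_add_div n p]
    generalize n / p = k
    induction k with
    | zero => simp
    | succ k ih => rw [Nat.mul_succ, ← add_assoc, hw_per, ih]
  have hw_eq : ∀ n m, c ^ n = c ^ m → w n = w m := fun n m h => by
    rw [pow_eq_pow_iff_modEq, hcp] at h
    rw [hw_mod n, hw_mod m, h]
  choose B hB using fun g : G => hgen (com x g) (com_mem x g)
  have hBadd : ∀ g h, c ^ B (g * h) = c ^ (B g + B h) := fun g h => by
    rw [pow_add, hB, hB, hB, com_mul_right hcen]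
  have hwx : ∀ n, x * w n = w n * x := fun n => by
    show x * (x ^ n * c ^ n.choose 2) = x ^ n * c ^ n.choose 2 * x
    rw [mul_assoc (x ^ n), ← hcz _ x, ← mul_assoc, ← mul_assoc, (Commute.self_pow x n).eq]
  let φ : G →* G := MonoidHom.mk' (fun g => g * w (B g)) (fun g h => by
    show g * h * w (B (g * h)) = g * w (B g) * (h * w (B h))
    rw [hw_eq _ _ (hBadd g h), hw_add]
    have hxh : x ^ B g * h = h * x ^ B g * c ^ (B g * B h) := by
      rw [mul_eq_com_mul (x ^ B g) h, com_pow_left hcen, ← hB h, ← pow_mul, mul_comm (B h),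
        hcz (B g * B h) (h * x ^ B g), mul_assoc]
    show g * h * (w (B g) * w (B h) * c ^ (B g * B h)) =
      g * (x ^ B g * c ^ (B g).choose 2) * (h * w (B h))
    calc g * h * (x ^ B g * c ^ (B g).choose 2 * w (B h) * c ^ (B g * B h))
        = g * (h * x ^ B g) * ((c ^ (B g).choose 2 * w (B h)) * c ^ (B g * B h)) := by
          simp only [mul_assoc]
      _ = g * (h * x ^ B g * c ^ (B g * B h)) * (c ^ (B g).choose 2 * w (B h)) := by
          rw [hcz (B g * B h) (c ^ (B g).choose 2 * w (B h))]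
          simp only [mul_assoc]
      _ = g * x ^ B g * (h * c ^ (B g).choose 2) * w (B h) := by
          rw [← hxh]
          simp only [mul_assoc]
      _ = g * (x ^ B g * c ^ (B g).choose 2) * (h * w (B h)) := by
          rw [hcz ((B g).choose 2) h]
          simp only [mul_assoc])
  have hcomw : ∀ n, com x (w n) = 1 := fun n => com_eq_one_iff.2 (hwx n)
  have hB1 : ∀ g, com x g = 1 → w (B g) = 1 := fun g hg => by
    rw [hw_eq (B g) 0 (by rw [hB, hg, pow_zero])]
    simp [w]
  have hinj : Function.Injective φ := by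
    refine (injective_iff_map_eq_one φ).2 fun g hg => ?_
    have h1 : g * w (B g) = 1 := hg
    have h2 : com x g = 1 := by
      have := congrArg (com x) h1
      rw [com_mul_right hcen, hcomw, mul_one] at this
      rw [this]; simp [com]
    rwa [hB1 g h2, mul_one] at h1
  let Φ : MulAut G := MulEquiv.ofBijective φ ⟨hinj, Finite.injective_iff_surjective.1 hinj⟩
  set y := w (B v) with hy
  have hfix : ∀ g, com x g = 1 → Φ g = g := fun g hg => by
    show g * w (B g) = g
    rw [hB1 g hg, mul_one]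
  have hpow : ∀ i : ℕ, (Φ ^ i) v = v * y ^ i := by
    intro i
    induction i with
    | zero => simp
    | succ i ih =>
      rw [pow_succ', MulAut.mul_apply, ih, map_mul, map_pow, hfix y (hcomw _), pow_succ']
      show v * w (B v) * y ^ i = _
      rw [mul_assoc]
  have hycen : y ∉ Subgroup.center G := by
    intro hyc
    apply hxc
    have hxB : x ^ B v ∈ Subgroup.center G := by
      have := mul_mem hyc (inv_mem (pow_mem hcc ((B v).choose 2)))
      rwa [hy, show w (B v) = x ^ B v * c ^ (B v).choose 2 from rfl, mul_inv_cancel_right] at this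
    have hBv : ¬ p ∣ B v := fun h => hv (by
      rw [← hB v]
      exact orderOf_dvd_iff_pow_eq_one.1 (hcp ▸ h))
    have hcop : Int.gcd (B v : ℤ) (p : ℤ) = 1 := by
      rw [Int.gcd_natCast_natCast]
      exact Nat.Coprime.symm ((Nat.Prime.coprime_iff_not_dvd hp.out).2 hBv)
    obtain ⟨a, b, hab⟩ := Int.isCoprime_iff_gcd_eq_one.2 hcop
    rw [← zpow_one x, ← hab, zpow_add, mul_comm a, mul_comm b, zpow_mul, zpow_mul, zpow_natCast,
      zpow_natCast]
    exact mul_mem (zpow_mem hxB a) (zpow_mem hxpc b)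
  have hconj : ∀ j : ℕ, ∃ g : G, g * v * g⁻¹ = c ^ j * v := by
    intro j
    have hco : Nat.Coprime (B v) p := by
      refine Nat.Coprime.symm ((Nat.Prime.coprime_iff_not_dvd hp.out).2 fun h => hv ?_)
      rw [← hB v]
      exact orderOf_dvd_iff_pow_eq_one.1 (hcp ▸ h)
    obtain ⟨i, hi⟩ := exists_pow_eq_self_of_coprime (x := c) (n := B v) (hcp.symm ▸ hco)
    refine ⟨x ^ (i * j), ?_⟩
    have h := com_pow_left hcen x v (i * j)
    rw [← hB v, pow_mul (c ^ B v) i j, hi, com, mul_inv_eq_iff_eq_mul] at h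
    exact h
  set C := Subgroup.zpowers c
  set K := C ⊔ Subgroup.zpowers y
  have hsub : ∀ k ∈ K, v * k ∈ MulAction.orbit (MulAut G) v := by
    have hCn : C.Normal := ⟨fun n hn g => by
      rwa [Subgroup.mem_center_iff.1 ((Subgroup.zpowers_le.2 hcc) hn) g, mul_inv_cancel_right]⟩
    intro k hk
    obtain ⟨a, ha, b, hb, rfl⟩ := Subgroup.mem_sup_of_normal_left.1 hk
    obtain ⟨j, rfl⟩ := (mem_powers_iff_mem_zpowers (x := c)).2 ha
    obtain ⟨i, rfl⟩ := (mem_powers_iff_mem_zpowers (x := y)).2 hb
    obtain ⟨g, hg⟩ := hconj j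
    refine ⟨Φ ^ i * MulAut.conj g, ?_⟩
    show (Φ ^ i * MulAut.conj g) v = v * (c ^ j * y ^ i)
    rw [MulAut.mul_apply, MulAut.conj_apply, hg, map_mul, hpow, ← mul_assoc v, hcz j v, mul_assoc]
    congr 1
    have hΦc : ∀ i : ℕ, (Φ ^ i) (c ^ j) = c ^ j := by
      intro i
      induction i with
      | zero => simp
      | succ i ih =>
        rw [pow_succ', MulAut.mul_apply, ih, hfix _ (com_eq_one_iff.2 (hcz j x))]
    rw [hΦc]
  have hle : p ^ 2 ≤ Nat.card K := by
    have hlt : C < K := lt_of_le_of_ne le_sup_left fun h => hycen (by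
      have : y ∈ C := h ▸ Subgroup.mem_sup_right (Subgroup.mem_zpowers y)
      exact (Subgroup.zpowers_le.2 hcc) this)
    have h1 : 1 < C.relIndex K := by
      refine Nat.lt_of_le_of_ne (Nat.pos_of_ne_zero ?_) fun h => hlt.2 ?_
      · exact fun h0 => Subgroup.index_ne_zero_of_finite h0
      · exact Subgroup.relIndex_eq_one.1 h.symm
    have h2 : C.relIndex K ∣ Nat.card G :=
      (Subgroup.index_dvd_card _).trans (Subgroup.card_subgroup_dvd_card K)
    rw [← Subgroup.relIndex_bot_left, ← Subgroup.relIndex_mul_relIndex ⊥ C K bot_le le_sup_left,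
      Subgroup.relIndex_bot_left, Nat.card_zpowers, hcp, sq]
    exact Nat.mul_le_mul_left p (hmin ▸ Nat.minFac_le_of_dvd h1 h2)
  exact hle.trans (Nat.card_le_card_of_injective
    (fun k : ↥K => (⟨v * k, hsub k k.2⟩ : ↥(MulAction.orbit (MulAut G) v)))
    (fun a b h => Subtype.ext (mul_left_cancel (Subtype.ext_iff.1 h))))

end Prime

theorem exists_transvection_base [Finite G] {p : ℕ} [hp : Fact p.Prime]
    (hcen : commutator G ≤ Subgroup.center G) {c : G} (hcp : orderOf c = p)
    (hgen : ∀ d ∈ commutator G, ∃ n : ℕ, c ^ n = d) (hna : ¬ IsMulCommutative G)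
    (T : Subgroup G) (hTc : T ≤ Subgroup.center G) (hcT : c ∈ T) (hpow : ∀ g : G, g ^ p ∈ T)
    (hker : Nat.card {t : G // t ∈ T ∧ t ^ p = 1} ≤ p) :
    ∃ x : G, x ∉ Subgroup.center G ∧ x ^ p * c ^ p.choose 2 = 1 := by
  classical
  let _ : CommGroup T :=
    { (inferInstance : Group T) with
      mul_comm := fun a b => Subtype.ext (Subgroup.mem_center_iff.1 (hTc b.2) a) }
  set S : Subgroup T := (powMonoidHom p : T →* T).range
  have hidx : S.index ≤ p := by
    have h1 := Subgroup.card_mul_index (powMonoidHom p : T →* T).ker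
    rw [Subgroup.index_ker, ← Subgroup.card_mul_index S, mul_comm] at h1
    rw [← Nat.eq_of_mul_eq_mul_left (Nat.card_pos (α := S)) h1]
    refine le_trans (le_of_eq (Nat.card_congr ?_)) hker
    exact
      { toFun := fun t => ⟨(t.1 : G), t.1.2, congrArg Subtype.val (MonoidHom.mem_ker.1 t.2)⟩
        invFun := fun t => ⟨⟨t.1, t.2.1⟩, MonoidHom.mem_ker.2 (Subtype.ext t.2.2)⟩
        left_inv := fun t => rfl
        right_inv := fun t => rfl }
  let π : T →* T ⧸ S := QuotientGroup.mk' S
  have hQp : ∀ q : T ⧸ S, q ^ p = 1 := by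
    intro q
    obtain ⟨t, rfl⟩ := QuotientGroup.mk'_surjective S q
    rw [← map_pow, QuotientGroup.mk'_apply, QuotientGroup.eq_one_iff]
    exact ⟨t, rfl⟩
  let cl : G → T ⧸ S := fun g => π ⟨g ^ p, hpow g⟩
  set γ : T ⧸ S := π ⟨c, hcT⟩ ^ p.choose 2 with hγ
  have hcl : ∀ g h (m : ℕ), com h g = c ^ m → cl (g * h) = cl g * cl h * γ ^ m := by
    intro g h m hm
    show π ⟨(g * h) ^ p, _⟩ = π ⟨g ^ p, _⟩ * π ⟨h ^ p, _⟩ * _
    rw [hγ, ← map_pow, ← map_pow, ← map_mul, ← map_mul]
    congr 1
    apply Subtype.ext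
    simp only [Subgroup.coe_mul, SubmonoidClass.coe_pow]
    rw [mul_pow_eq hcen, hm, ← pow_mul, ← pow_mul, mul_comm m]
  have hcl1 : ∀ g (i : ℕ), cl (g ^ i) = cl g ^ i := by
    intro g i
    show π ⟨(g ^ i) ^ p, _⟩ = π ⟨g ^ p, _⟩ ^ i
    rw [← map_pow]
    congr 1
    apply Subtype.ext
    simp only [SubmonoidClass.coe_pow]
    rw [← pow_mul, ← pow_mul, mul_comm]
  obtain ⟨v, w, hvw⟩ : ∃ v w : G, com v w ≠ 1 := by
    by_contra h
    simp only [not_exists, ne_eq, not_not] at h
    exact hna ⟨⟨fun a b => com_eq_one_iff.1 (h a b)⟩⟩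
  have hnc : ∀ u z : G, com u z ≠ 1 → u ∉ Subgroup.center G := fun u z h hu =>
    h (com_eq_one_iff.2 (Subgroup.mem_center_iff.1 hu z).symm)
  obtain ⟨n, hn⟩ := hgen _ (com_mem v w)
  suffices hu : ∃ u, u ∉ Subgroup.center G ∧ cl u = γ⁻¹ by
    obtain ⟨u, huc, hu⟩ := hu
    have hmem : (⟨u ^ p, hpow u⟩ : T) * (⟨c, hcT⟩ : T) ^ p.choose 2 ∈ S := by
      rw [← QuotientGroup.eq_one_iff, ← QuotientGroup.mk'_apply, map_mul, map_pow]
      show cl u * γ = 1
      rw [hu, inv_mul_cancel]
    obtain ⟨s, hs⟩ := hmem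
    have hs' : (s : G) ^ p = u ^ p * c ^ p.choose 2 := congrArg Subtype.val hs
    refine ⟨u * (s : G)⁻¹, fun h => huc ?_, ?_⟩
    · have := mul_mem h (hTc s.2)
      rwa [inv_mul_cancel_right] at this
    · have hsu : Commute u (s : G)⁻¹ :=
        Commute.inv_right (Subgroup.mem_center_iff.1 (hTc s.2) u)
      have hsc : Commute ((s : G)⁻¹ ^ p) (c ^ p.choose 2) :=
        Subgroup.mem_center_iff.1 (pow_mem (hTc hcT) _) _
      rw [hsu.mul_pow, mul_assoc, hsc.eq, ← mul_assoc, ← hs', inv_pow, mul_inv_cancel]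
  by_cases hα : cl v * γ ^ n = 1
  · refine ⟨v, hnc v w hvw, ?_⟩
    have hγn : γ ^ n = γ := by
      by_cases h2 : p = 2
      · have hodd : n % p = 1 := by
          subst h2
          have : ¬ (2 ∣ n) := fun hd => hvw (by
            rw [← hn]; exact orderOf_dvd_iff_pow_eq_one.1 (hcp ▸ hd))
          omega
        rw [pow_eq_pow_mod n (hQp γ), hodd, pow_one]
      · have hd : p ∣ p.choose 2 :=
          hp.out.dvd_choose_self (by norm_num) (lt_of_le_of_ne hp.out.two_le (Ne.symm h2))
        obtain ⟨k, hk⟩ := hd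
        have : γ = 1 := by rw [hγ, hk, pow_mul, hQp, one_pow]
        rw [this, one_pow]
    rw [hγn] at hα
    exact eq_inv_of_mul_eq_one_left hα
  · set α := cl v * γ ^ n
    have hord : orderOf α = p := orderOf_eq_prime (hQp α) hα
    have htop : Subgroup.zpowers α = ⊤ :=
      Subgroup.eq_top_of_le_card _ (by rw [Nat.card_zpowers, hord]; exact hidx)
    obtain ⟨i, hi⟩ : ∃ i : ℕ, α ^ i = (cl w)⁻¹ * γ⁻¹ :=
      (mem_powers_iff_mem_zpowers (x := α)).2 (htop ▸ Subgroup.mem_top _)
    refine ⟨w * v ^ i, hnc _ v (fun h => hvw ?_), ?_⟩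
    · rw [com_mul_left hcen, com_pow_left hcen, show com v v = 1 from com_eq_one_iff.2 rfl,
        one_pow, mul_one] at h
      rw [← com_swap, h, inv_one]
    · rw [hcl w (v ^ i) (n * i) (by rw [com_pow_left hcen, ← hn, pow_mul]), hcl1, mul_assoc,
        pow_mul, ← (Commute.all (cl v) (γ ^ n)).mul_pow, hi, mul_inv_cancel_left]

theorem main [Finite G] (hna : ¬ IsMulCommutative G) :
    Nat.card (MulAction.orbitRel.Quotient (MulAut G) G) ≤ Nat.card G / (Nat.card G).minFac := by
  classical
  have : Fintype G := Fintype.ofFinite G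
  set p := (Nat.card G).minFac with hpdef
  have hnt : Nat.card G ≠ 1 := fun h => hna ⟨⟨fun a b => by
    have := (Nat.card_eq_one_iff_unique.1 h).1
    exact Subsingleton.elim _ _⟩⟩
  have hp : p.Prime := Nat.minFac_prime hnt
  have : Fact p.Prime := ⟨hp⟩
  rw [Nat.le_div_iff_mul_le hp.pos]
  by_cases hbig : p + 1 ≤ Nat.card ↥(commutator G)
  · refine le_trans (Nat.mul_le_mul_right p ?_) (card_classes_bound hbig)
    refine Nat.card_le_card_of_surjective
      (Quotient.map' id fun a b h => ?_ : ConjClasses G → MulAction.orbitRel.Quotient (MulAut G) G) ?_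
    · obtain ⟨c, hc⟩ := isConj_iff.1 h
      exact MulAction.orbitRel_apply.2
        (MulAction.mem_orbit_symm.1 (hc ▸ conj_mem_orbit c a))
    · intro ω
      obtain ⟨g, rfl⟩ := Quotient.mk''_surjective ω
      exact ⟨ConjClasses.mk g, rfl⟩
  have hGd : commutator G ≠ ⊥ := fun h => hna ⟨⟨fun a b => com_eq_one_iff.1 <| by
    simpa [h] using com_mem a b⟩⟩
  have hcard : Nat.card ↥(commutator G) = p := by
    have h1 : 1 < Nat.card ↥(commutator G) := (Subgroup.one_lt_card_iff_ne_bot _).2 hGd
    have h2 := Nat.minFac_le_of_dvd h1 (Subgroup.card_subgroup_dvd_card (commutator G))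
    omega
  have hcen : commutator G ≤ Subgroup.center G := by
    intro d hd
    rw [Subgroup.mem_center_iff]
    intro g
    by_contra hne
    have hdc : d ∉ Subgroup.center G := fun h => hne (Subgroup.mem_center_iff.1 h g)
    have hd1 : d ≠ 1 := fun h => hdc (h ▸ one_mem _)
    have hsub : MulAction.orbit (ConjAct G) d ⊆ (↑(commutator G) : Set G) \ {1} := by
      rintro _ ⟨k, rfl⟩
      refine ⟨?_, fun h => hd1 (by simpa [ConjAct.smul_def] using h)⟩
      exact (inferInstance : (commutator G).Normal).conj_mem d hd (ConjAct.ofConjAct k)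
    have h3 := Nat.card_mono (Set.toFinite _) hsub
    rw [Nat.card_coe_set_eq ((↑(commutator G) : Set G) \ {1}),
      Set.ncard_sdiff_singleton_of_mem (one_mem (commutator G)), ← Nat.card_coe_set_eq] at h3
    change _ ≤ Nat.card ↥(commutator G) - 1 at h3
    rw [hcard, ← Nat.card_congr (MulAction.orbitEquivQuotientStabilizer (ConjAct G) d).symm] at h3
    have hdvd : (MulAction.stabilizer (ConjAct G) d).index ∣ Nat.card G :=
      (Subgroup.index_dvd_card _).trans (dvd_of_eq (Nat.card_congr ConjAct.ofConjAct.toEquiv))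
    have h4 : (MulAction.stabilizer (ConjAct G) d).index = 1 := by
      by_contra h5
      have h6 := Nat.minFac_le_of_dvd
        (lt_of_le_of_ne (Nat.pos_of_ne_zero Subgroup.index_ne_zero_of_finite) (Ne.symm h5)) hdvd
      have : (MulAction.stabilizer (ConjAct G) d).index ≤ p - 1 := h3
      have := hp.two_le
      omega
    have h7 : ConjAct.toConjAct g ∈ MulAction.stabilizer (ConjAct G) d :=
      Subgroup.index_eq_one.1 h4 ▸ Subgroup.mem_top _
    rw [MulAction.mem_stabilizer_iff, ConjAct.smul_def, ConjAct.ofConjAct_toConjAct,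
      mul_inv_eq_iff_eq_mul] at h7
    exact hne h7
  obtain ⟨c₀, hc₀⟩ := (isCyclic_of_prime_card hcard).exists_generator
  set c : G := (c₀ : G)
  have hcp : orderOf c = p := by
    rw [Subgroup.orderOf_coe, orderOf_eq_card_of_forall_mem_zpowers hc₀, hcard]
  have hgen : ∀ d ∈ commutator G, ∃ n : ℕ, c ^ n = d := fun d hd => by
    obtain ⟨n, hn⟩ := (mem_powers_iff_mem_zpowers (x := c₀)).2 (hc₀ ⟨d, hd⟩)
    exact ⟨n, congrArg Subtype.val hn⟩
  set T := commutator G ⊔ Subgroup.closure (Set.range fun g : G => g ^ p) with hT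
  have hpowc : ∀ g : G, g ^ p ∈ Subgroup.center G := fun g => by
    rw [Subgroup.mem_center_iff]
    intro h
    have h1 : com g h ^ p = 1 := by
      obtain ⟨n, hn⟩ := hgen _ (com_mem g h)
      rw [← hn, ← pow_mul, mul_comm, pow_mul, ← hcp, pow_orderOf_eq_one, one_pow]
    rw [← com_pow_left hcen, com_eq_one_iff] at h1
    exact h1.symm
  have hTc : T ≤ Subgroup.center G := sup_le hcen
    ((Subgroup.closure_le _).2 (by rintro _ ⟨g, rfl⟩; exact hpowc g))
  have hcT : c ∈ T := Subgroup.mem_sup_left c₀.2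
  have hpowT : ∀ g : G, g ^ p ∈ T := fun g =>
    Subgroup.mem_sup_right (Subgroup.subset_closure ⟨g, rfl⟩)
  have hTi : p ^ 2 ≤ T.index := (sq_le_index_center hna).trans
    (Nat.le_of_dvd (Nat.pos_of_ne_zero Subgroup.index_ne_zero_of_finite)
      (Subgroup.index_dvd_of_le hTc))
  have hp2 := hp.two_le
  refine Nat.le_of_mul_le_mul_left ?_ hp.pos
  rw [← mul_assoc, mul_comm (p * _) p, ← mul_assoc, ← sq]
  by_cases hker : Nat.card {t : G // t ∈ T ∧ t ^ p = 1} ≤ p
  · obtain ⟨x, hxc, hx⟩ := exists_transvection_base hcen hcp hgen hna T hTc hcT hpowT hker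
    set C := Subgroup.centralizer ({x} : Set G)
    have hC : ∀ v, v ∈ C ↔ com x v = 1 := fun v => by
      rw [Subgroup.mem_centralizer_singleton_iff, com_eq_one_iff]
      exact eq_comm
    let cost : G → ℕ := fun v => if v ∈ Subgroup.center G then p ^ 2 else if v ∈ C then p else 1
    have hb : ∀ g : G, ∀ g' ∈ MulAction.orbit (MulAut G) g,
        p ^ 2 ≤ Nat.card ↥(MulAction.orbit (MulAut G) g) * cost g' := by
      intro g g' hg'
      rw [← orbit_eq hg']
      have hpos : 0 < Nat.card ↥(MulAction.orbit (MulAut G) g') := by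
        have : Nonempty ↥(MulAction.orbit (MulAut G) g') := ⟨⟨g', MulAction.mem_orbit_self g'⟩⟩
        exact Nat.card_pos
      simp only [cost]
      split_ifs with h1 h2
      · exact Nat.le_mul_of_pos_left _ hpos
      · rw [sq]; exact Nat.mul_le_mul_right p (card_orbit_ge h1)
      · rw [mul_one]
        exact orbit_big_of_transvection hcen hcp (hcen c₀.2) hgen hpdef hxc (hpowc x) hx
          fun h => h2 ((hC g').2 h)
    refine (orbit_bound cost _ hb).trans ?_
    have hcost : ∀ v, cost v = 1 + (if v ∈ C then p - 1 else 0) +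
        (if v ∈ Subgroup.center G then p ^ 2 - p else 0) := by
      intro v
      simp only [cost]
      split_ifs with h1 h2 h2
      · have : p ≤ p ^ 2 := Nat.le_self_pow two_ne_zero p
        omega
      · exact absurd ((hC v).2 (com_eq_one_iff.2 (Subgroup.mem_center_iff.1 h1 x))) h2
      · omega
      · rfl
    rw [Finset.sum_congr rfl fun v _ => hcost v, Finset.sum_add_distrib, Finset.sum_add_distrib,
      Finset.sum_ite, Finset.sum_ite]
    simp only [Finset.sum_const_zero, add_zero, Finset.sum_const, smul_eq_mul, mul_one]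
    rw [Finset.card_univ, ← Nat.card_eq_fintype_card, ← Nat.card_eq_finsetCard,
      ← Nat.card_eq_finsetCard]
    simp only [Finset.mem_filter, Finset.mem_univ, true_and]
    change Nat.card G + Nat.card C * (p - 1) + Nat.card (Subgroup.center G) * (p ^ 2 - p) ≤ _
    have h1 : Nat.card (Subgroup.center G) * p ^ 2 ≤ Nat.card G := by
      rw [← Subgroup.card_mul_index (Subgroup.center G)]
      exact Nat.mul_le_mul_left _ (sq_le_index_center hna)
    have h2 : Nat.card C * 2 ≤ Nat.card G := by
      rw [← Subgroup.card_mul_index C]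
      refine Nat.mul_le_mul_left _ (Nat.lt_of_le_of_ne
        (Nat.pos_of_ne_zero Subgroup.index_ne_zero_of_finite) fun h => hxc ?_)
      rw [Subgroup.mem_center_iff]
      intro g
      exact (com_eq_one_iff.1 ((hC g).1 (Subgroup.index_eq_one.1 h.symm ▸ Subgroup.mem_top g))).symm
    have hsq : p ^ 2 - p = p * (p - 1) := by rw [Nat.mul_sub, mul_one, sq]
    rw [hsq]
    have h3 : Nat.card C + Nat.card (Subgroup.center G) * p ≤ Nat.card G := by
      have : Nat.card (Subgroup.center G) * p * 2 ≤ Nat.card G := le_trans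
        (by rw [mul_assoc, sq]; exact Nat.mul_le_mul_left _ (Nat.mul_le_mul_left _ hp2)) h1
      omega
    calc _ = Nat.card G + (p - 1) * (Nat.card C + Nat.card (Subgroup.center G) * p) := by ring
      _ ≤ Nat.card G + (p - 1) * Nat.card G := by gcongr
      _ = p * Nat.card G := by
          conv_rhs => rw [← Nat.sub_add_cancel hp.one_le, add_mul, one_mul]
          ring
  · have hsq : p ^ 2 ≤ Nat.card {t : G // t ∈ T ∧ t ^ p = 1} := by
      let Ω : Subgroup G :=
        { carrier := {t | t ∈ T ∧ t ^ p = 1}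
          one_mem' := ⟨one_mem _, one_pow _⟩
          mul_mem' := fun {a b} ha hb => ⟨mul_mem ha.1 hb.1, by
            rw [Commute.mul_pow (Subgroup.mem_center_iff.1 (hTc hb.1) a), ha.2, hb.2, one_mul]⟩
          inv_mem' := fun {a} ha => ⟨inv_mem ha.1, by rw [inv_pow, ha.2, inv_one]⟩ }
      have hΩp : IsPGroup p Ω := fun t => ⟨1, Subtype.ext (by rw [pow_one]; exact t.2.2)⟩
      obtain ⟨k, hk⟩ := IsPGroup.iff_card.1 hΩp
      change p ^ 2 ≤ Nat.card Ω
      have hk1 : ¬ Nat.card Ω ≤ p := hker
      rw [hk] at hk1 ⊢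
      refine Nat.pow_le_pow_right hp.pos (not_lt.1 fun h => hk1 ?_)
      calc p ^ k ≤ p ^ 1 := Nat.pow_le_pow_right hp.pos (by omega)
        _ = p := pow_one p
    let cost : G → ℕ := fun v => if v ∈ T then p ^ 2 else 1
    have hb : ∀ g : G, ∀ g' ∈ MulAction.orbit (MulAut G) g,
        p ^ 2 ≤ Nat.card ↥(MulAction.orbit (MulAut G) g) * cost g' := by
      intro g g' hg'
      rw [← orbit_eq hg']
      have hpos : 0 < Nat.card ↥(MulAction.orbit (MulAut G) g') := by
        have : Nonempty ↥(MulAction.orbit (MulAut G) g') := ⟨⟨g', MulAction.mem_orbit_self g'⟩⟩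
        exact Nat.card_pos
      simp only [cost]
      split_ifs with h1
      · exact Nat.le_mul_of_pos_left _ hpos
      · rw [mul_one]
        exact hsq.trans (orbit_big_of_kernel T le_sup_left hTc hpowT h1)
    refine (orbit_bound cost _ hb).trans ?_
    have hcost : ∀ v, cost v = 1 + (if v ∈ T then p ^ 2 - 1 else 0) := by
      intro v
      simp only [cost]
      split_ifs
      · have : 1 ≤ p ^ 2 := Nat.one_le_pow _ _ hp.pos
        omega
      · rfl
    rw [Finset.sum_congr rfl fun v _ => hcost v, Finset.sum_add_distrib, Finset.sum_ite]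
    simp only [Finset.sum_const_zero, add_zero, Finset.sum_const, smul_eq_mul, mul_one]
    rw [Finset.card_univ, ← Nat.card_eq_fintype_card, ← Nat.card_eq_finsetCard]
    simp only [Finset.mem_filter, Finset.mem_univ, true_and]
    change Nat.card G + Nat.card T * (p ^ 2 - 1) ≤ _
    have h1 : Nat.card T * p ^ 2 ≤ Nat.card G := by
      rw [← Subgroup.card_mul_index T]
      exact Nat.mul_le_mul_left _ hTi
    have h2 : Nat.card T * (p ^ 2 - 1) ≤ Nat.card G :=
      le_trans (Nat.mul_le_mul_left _ (Nat.sub_le _ _)) h1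
    have h4 : 2 * Nat.card G ≤ p * Nat.card G := Nat.mul_le_mul_right _ hp2
    omega

end Cfsg.Agent.AutOrbitCount56
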