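import Mathlib
import Cfsg.Prelude.Def_LieTypeDatum
import Cfsg.Agent.Lib.OrthUnitarySimAut
import Cfsg.Agent.Lib.OrthUnitaryStd
import Cfsg.Agent.Lib.OmegaClasses
import Cfsg.Agent.Lib.TwoInvolutions

/-!
The similarity group of an even-dimensional quadratic form over a field of odd order, modulo the
similarities inducing inner automorphisms of `PΩ`.
-/

set_option autoImplicit false
set_option linter.unusedSectionVars false

namespace Cfsg.Agent.OrthUnitarySimilar

open QuadraticMap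
open scoped Matrix MatrixGroups commutatorElement
open Cfsg.Agent.OrthUnitaryQuad
open Cfsg.Agent.OrthUnitaryRefl
open Cfsg.Agent.OrthUnitaryOmega
open Cfsg.Agent.OrthUnitaryPrelude
open Cfsg.Agent.OrthUnitarySimAut
open Cfsg.Agent.OmegaClasses

/-! ### Small groups -/

/-- A homomorphism onto two values gives one onto the group of order two. -/
theorem exists_bit {G A : Type*} [Group G] [Group A] (f : G →* A) {a : A} (ha : a * a = 1)
    (ha1 : a ≠ 1) (hf : ∀ g, f g = 1 ∨ f g = a) :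
    ∃ χ : G →* Multiplicative (ZMod 2), ∀ g, χ g = 1 ↔ f g = 1 := by
  classical
  have h11 : Multiplicative.ofAdd (1 : ZMod 2) * Multiplicative.ofAdd 1 = 1 := by decide
  refine ⟨MonoidHom.mk' (fun g => if f g = 1 then 1 else Multiplicative.ofAdd 1) fun g h => ?_,
    fun g => ?_⟩
  · rcases hf g with hg | hg <;> rcases hf h with hh | hh <;> simp [map_mul, hg, hh, ha, ha1, h11]
  · by_cases h : f g = 1 <;> simp [h]

theorem mult_two_cases (x : Multiplicative (ZMod 2)) : x = 1 ∨ x = Multiplicative.ofAdd 1 := by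
  revert x; decide

section Quotients

variable {G : Type*} [Group G] (N : Subgroup G) [N.Normal]

theorem exists_hom_of_equiv {A : Type*} [Group A] (e : G ⧸ N ≃* A) :
    ∃ φ : G →* A, Function.Surjective φ ∧ φ.ker = N := by
  refine ⟨e.toMonoidHom.comp (QuotientGroup.mk' N), ?_, ?_⟩
  · exact e.surjective.comp (QuotientGroup.mk'_surjective N)
  · rw [← MonoidHom.comap_ker, MonoidHom.ker_eq_bot_iff _ |>.2 e.injective, MonoidHom.comap_bot]
    exact QuotientGroup.ker_mk' N

theorem klein_quotient (hi : N.index = 4) (h : ∀ x : G, x * x ∈ N) :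
    ∃ φ : G →* Multiplicative (ZMod 2 × ZMod 2), Function.Surjective φ ∧ φ.ker = N := by
  haveI : IsKleinFour (G ⧸ N) := by
    refine ⟨by rwa [← Subgroup.index_eq_card], ?_⟩
    have hdvd : Monoid.exponent (G ⧸ N) ∣ 2 := Monoid.exponent_dvd_iff_forall_pow_eq_one.2 fun q => by
      induction q using QuotientGroup.induction_on with
      | _ x => rw [pow_two, ← QuotientGroup.mk_mul]; exact (QuotientGroup.eq_one_iff _).2 (h x)
    haveI : Nontrivial (G ⧸ N) := by
      haveI : Finite (G ⧸ N) := Nat.finite_of_card_ne_zero (by rw [← Subgroup.index_eq_card, hi]; omega)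
      rw [← Finite.one_lt_card_iff_nontrivial, ← Subgroup.index_eq_card, hi]
      omega
    rcases (Nat.dvd_prime Nat.prime_two).1 hdvd with h1 | h2
    · exact absurd (Monoid.exp_eq_one_iff.1 h1) (not_subsingleton _)
    · exact h2
  obtain ⟨e⟩ := IsKleinFour.nonempty_mulEquiv (G₁ := G ⧸ N)
    (G₂ := Multiplicative (ZMod 2 × ZMod 2))
  exact exists_hom_of_equiv N e

theorem cyclic_four_quotient (hi : N.index = 4) {x : G} (hx : x * x ∉ N) :
    ∃ φ : G →* Multiplicative (ZMod 4), Function.Surjective φ ∧ φ.ker = N := by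
  have hc : Nat.card (G ⧸ N) = 4 := by rw [← Subgroup.index_eq_card, hi]
  haveI : Finite (G ⧸ N) := Nat.finite_of_card_ne_zero (by omega)
  have h4 : orderOf (x : G ⧸ N) = 4 := by
    refine orderOf_eq_prime_pow (p := 2) (n := 1) ?_ ?_
    · rw [pow_one, pow_two, ← QuotientGroup.mk_mul, QuotientGroup.eq_one_iff]
      exact hx
    · rw [show 2 ^ (1 + 1) = Nat.card (G ⧸ N) from hc.symm]
      exact pow_card_eq_one'
  haveI : IsCyclic (G ⧸ N) := isCyclic_of_orderOf_eq_card _ (h4.trans hc.symm)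
  exact exists_hom_of_equiv N (mulEquivOfCyclicCardEq (by simp [hc]))

theorem two_quotient (hi : N.index = 2) :
    ∃ φ : G →* Multiplicative (ZMod 2), Function.Surjective φ ∧ φ.ker = N := by
  have hc : Nat.card (G ⧸ N) = 2 := by rw [← Subgroup.index_eq_card, hi]
  haveI := Fact.mk Nat.prime_two
  haveI : IsCyclic (G ⧸ N) := isCyclic_of_prime_card hc
  exact exists_hom_of_equiv N (mulEquivOfCyclicCardEq (by simp [hc]))

end Quotients

/-- A group of order eight with an element of order four inverted by an involution is dihedral. -/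
theorem dihedral_of_gens {H : Type*} [Group H] (hc : Nat.card H = 8) {r s : H} (hr2 : r * r ≠ 1)
    (hr4 : r * r * (r * r) = 1) (hs : s * s = 1) (hs1 : s ≠ 1) (hsr : s * r * s = r⁻¹) :
    Nonempty (H ≃* DihedralGroup 4) := by
  haveI : Finite H := Nat.finite_of_card_ne_zero (by omega)
  have hor : orderOf r = 4 := by
    refine orderOf_eq_prime_pow (p := 2) (n := 1) ?_ ?_
    · rwa [pow_one, pow_two]
    · rw [show 2 ^ (1 + 1) = 2 * 2 from rfl, pow_mul, pow_two r, pow_two]
      exact hr4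
  have hox : orderOf s = 2 := orderOf_eq_prime (by rw [pow_two]; exact hs) hs1
  have hsr1 : s * r ≠ 1 := fun h => by
    have : r = s := by
      rw [← one_mul r, ← hs, mul_assoc, h, mul_one]
    exact hr2 (this ▸ hs)
  have hoy : orderOf (s * r) = 2 := by
    refine orderOf_eq_prime ?_ hsr1
    rw [pow_two, ← mul_assoc, hsr, inv_mul_cancel]
  have hne : s ≠ s * r := fun h => hr2 (by
    have : r = 1 := mul_left_cancel (h.symm.trans (mul_one s).symm)
    rw [this, mul_one])
  obtain ⟨e⟩ := TwoInvolutions.nonempty_mulEquiv_dihedral hox hoy hne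
  have hxy : s * (s * r) = r := by rw [← mul_assoc, hs, one_mul]
  rw [hxy, hor] at e
  have htop : Subgroup.closure ({s, s * r} : Set H) = ⊤ :=
    Subgroup.eq_top_of_card_eq _ (by rw [Nat.card_congr e.toEquiv, DihedralGroup.nat_card, hc])
  exact ⟨(Subgroup.topEquiv.symm.trans (MulEquiv.subgroupCongr htop.symm)).trans e⟩

/-! ### Multipliers and determinants -/

variable {ι : Type} [Fintype ι] [DecidableEq ι] {F : Type*} [Field F] [Fintype F]
  (Q : QuadraticForm F (ι → F))

/-- An even-dimensional form over a field of odd order with enough similarities. -/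
structure Good (M : ℕ) : Prop where
  card : Fintype.card ι = 2 * M
  five : 5 ≤ Fintype.card ι
  two : (2 : F) ≠ 0
  nd : (polarBilin Q).Nondegenerate
  swap : ∀ c : Fˣ, ∃ g : Sim Q, (∀ v, Q ((g : GL ι F).1 *ᵥ v) = (c : F) * Q v) ∧
    g * g ∈ scalarSim Q ∧ (g : GL ι F).1.det = (-1) ^ M * (c : F) ^ M

variable {Q}

/-- Special isometries among the similarities. -/
abbrev SOs (Q : QuadraticForm F (ι → F)) : Subgroup (Sim Q) :=
  (specialIsometryGL F ⇑Q).subgroupOf (Sim Q)

/-- A scalar similarity. -/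
def scalarOf (Q : QuadraticForm F (ι → F)) (l : Fˣ) : Sim Q :=
  ⟨Units.map (Matrix.scalar ι : F →+* Matrix ι ι F).toMonoidHom l, l * l, fun v => by
    show Q ((Matrix.scalar ι (l : F)) *ᵥ v) = _
    rw [Matrix.scalar_apply, ← Matrix.smul_one_eq_diagonal, Matrix.smul_mulVec, Matrix.one_mulVec,
      QuadraticMap.map_smul, smul_eq_mul, Units.val_mul]⟩

theorem scalarOf_coe (l : Fˣ) :
    (scalarOf Q l : GL ι F).1 = (l : F) • (1 : Matrix ι ι F) := by
  show Matrix.scalar ι (l : F) = _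
  rw [Matrix.scalar_apply, ← Matrix.smul_one_eq_diagonal]

theorem scalarOf_mem (l : Fˣ) : scalarOf Q l ∈ scalarSim Q :=
  (mem_scalarSim Q).2 ⟨l, scalarOf_coe l, l.ne_zero⟩

/-- An isometry as a similarity. -/
noncomputable def ofOrth (k : orth Q) : Sim Q :=
  ⟨(((iso Q).symm k : isometryGroup F ⇑Q) : GL ι F), isometry_le_sim Q ((iso Q).symm k).2⟩

theorem ofOrth_mulVec (k : orth Q) (x : ι → F) : (ofOrth k : GL ι F).1 *ᵥ x = k.1 x := by
  have := iso_apply ((iso Q).symm k) x
  rw [MulEquiv.apply_symm_apply] at this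
  exact this.symm

theorem ofOrth_mul (a b : orth Q) : ofOrth (a * b) = ofOrth a * ofOrth b :=
  Subtype.ext (by simp [ofOrth])

theorem ofOrth_mem_omegaSim (k : orth Q) :
    ofOrth k ∈ omegaSim Q ↔ k ∈ commutator (orth Q) := by
  constructor
  · rintro ⟨s, hs, hsk⟩
    have e : s = (iso Q).symm k := Subtype.ext hsk
    rw [← MulEquiv.apply_symm_apply (iso Q) k, ← e]
    exact (mem_Omega_iff s).1 hs
  · intro hk
    refine ⟨(iso Q).symm k, ?_, rfl⟩
    show _ ∈ Omega F ⇑Q
    rw [mem_Omega_iff, MulEquiv.apply_symm_apply]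
    exact hk

/-- Minus the identity lies in `Ω`. -/
def NegMem (Q : QuadraticForm F (ι → F)) : Prop :=
  ∃ g : isometryGroup F ⇑Q, g ∈ Omega F ⇑Q ∧ mat g = -1

theorem negMem_iff : NegMem Q ↔ scalarOf Q (-1) ∈ omegaSim Q := by
  have hv : (scalarOf Q (-1) : GL ι F).1 = -1 := by
    rw [scalarOf_coe]; simp
  constructor
  · rintro ⟨g, hg, hgm⟩
    exact ⟨g, hg, Units.ext (hgm.trans hv.symm)⟩
  · rintro ⟨g, hg, hgm⟩
    exact ⟨g, hg, (congrArg Units.val hgm).trans hv⟩

variable {M : ℕ} (h : Good Q M)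

include h

theorem Good.exists_ne_zero : ∃ v, Q v ≠ 0 :=
  exists_map_ne_zero (isReg_of_nondegenerate h.nd) (by rw [finrank_pi]; have := h.five; omega)

theorem Good.exists_value (c : F) : ∃ v, Q v = c :=
  exists_map_eq (isReg_of_nondegenerate h.nd) (by rw [finrank_pi]; have := h.five; omega) c

theorem Good.exc : Fintype.card F ≠ 2 ∨ Module.finrank F (ι → F) ≠ 4 :=
  Or.inr (by rw [finrank_pi]; have := h.five; omega)

theorem Good.mult_unique {g : GL ι F} {c d : F} (hc : ∀ v, Q (g.1 *ᵥ v) = c * Q v)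
    (hd : ∀ v, Q (g.1 *ᵥ v) = d * Q v) : c = d := by
  obtain ⟨v, hv⟩ := h.exists_ne_zero
  exact mul_right_cancel₀ hv ((hc v).symm.trans (hd v))

/-- The multiplier. -/
noncomputable def mult : Sim Q →* Fˣ where
  toFun g := g.2.choose
  map_one' := Units.ext (h.mult_unique (g := ((1 : Sim Q) : GL ι F)) (1 : Sim Q).2.choose_spec
    fun v => by simp)
  map_mul' a b := Units.ext (h.mult_unique (a * b).2.choose_spec fun v => by
    rw [Subgroup.coe_mul, Units.val_mul, ← Matrix.mulVec_mulVec, a.2.choose_spec,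
      b.2.choose_spec, Units.val_mul, mul_assoc])

theorem mult_spec (g : Sim Q) (v : ι → F) :
    Q ((g : GL ι F).1 *ᵥ v) = (mult h g : F) * Q v := g.2.choose_spec v

theorem mult_eq {g : Sim Q} {c : Fˣ} (hg : ∀ v, Q ((g : GL ι F).1 *ᵥ v) = (c : F) * Q v) :
    mult h g = c := Units.ext (h.mult_unique (mult_spec h g) hg)

theorem mult_eq_one_iff (g : Sim Q) : mult h g = 1 ↔ (g : GL ι F) ∈ isometryGroup F ⇑Q := by
  constructor
  · intro hg u v
    have := mult_spec h g u
    rwa [hg, Units.val_one, one_mul] at this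
  · intro hg
    exact mult_eq h fun v => by rw [Units.val_one, one_mul]; exact hg v v

/-- The determinant divided by the power of the multiplier. -/
noncomputable def dHom : Sim Q →* Fˣ :=
  (Matrix.GeneralLinearGroup.det.comp (Sim Q).subtype) * ((mult h) ^ M)⁻¹

theorem dHom_apply (g : Sim Q) :
    dHom h g = Matrix.GeneralLinearGroup.det (g : GL ι F) * (mult h g ^ M)⁻¹ := rfl

theorem dHom_eq_one_iff (g : Sim Q) :
    dHom h g = 1 ↔ (g : GL ι F).1.det = (mult h g : F) ^ M := by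
  rw [dHom_apply, mul_inv_eq_one, Units.ext_iff, Units.val_pow_eq_pow_val,
    Matrix.GeneralLinearGroup.val_det_apply]

theorem dHom_isometry (s : isometryGroup F ⇑Q) :
    dHom h ⟨(s : GL ι F), isometry_le_sim Q s.2⟩ = detHom Q (iso Q s) := by
  rw [dHom_apply, (mult_eq_one_iff h _).2 s.2, one_pow, inv_one, mul_one]
  exact Units.ext ((Matrix.GeneralLinearGroup.val_det_apply _).trans (det_mat s))

theorem Good.detHom_cases (k : orth Q) : detHom Q k = 1 ∨ detHom Q k = -1 := by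
  obtain ⟨vs, hns, rfl⟩ := exists_rprod (reflGroup_top h.nd h.exc) k
  rw [detHom_rprod hns]
  exact neg_one_pow_eq_or Fˣ vs.length

theorem dHom_swap {g : Sim Q} {c : Fˣ} (hg : ∀ v, Q ((g : GL ι F).1 *ᵥ v) = (c : F) * Q v)
    (hdet : (g : GL ι F).1.det = (-1) ^ M * (c : F) ^ M) : dHom h g = (-1) ^ M := by
  rw [dHom_apply, mult_eq h hg, mul_inv_eq_iff_eq_mul]
  refine Units.ext ?_
  rw [Matrix.GeneralLinearGroup.val_det_apply, hdet]
  simp

theorem dHom_cases (g : Sim Q) : dHom h g = 1 ∨ dHom h g = -1 := by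
  obtain ⟨s, hs, -, hdet⟩ := h.swap (mult h g)
  have hk : (g * s⁻¹ : Sim Q).1 ∈ isometryGroup F ⇑Q :=
    (mult_eq_one_iff h _).1 (by rw [map_mul, map_inv, mult_eq h hs, mul_inv_cancel])
  have hd : dHom h (g * s⁻¹) = 1 ∨ dHom h (g * s⁻¹) = -1 := by
    have e : (g * s⁻¹ : Sim Q) = ⟨((⟨_, hk⟩ : isometryGroup F ⇑Q) : GL ι F), isometry_le_sim Q hk⟩ :=
      Subtype.ext rfl
    rw [e, dHom_isometry h]
    exact h.detHom_cases _
  rw [map_mul, map_inv, dHom_swap h hs hdet] at hd
  rcases neg_one_pow_eq_or Fˣ M with e | e <;> rw [e] at hd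
  · simpa using hd
  · simpa [neg_eq_iff_eq_neg, or_comm] using hd

theorem Good.neg_one_ne_one : (-1 : Fˣ) ≠ 1 := fun he => h.two (by
  have := congrArg Units.val he
  simp only [Units.val_neg, Units.val_one] at this
  linear_combination -this)

/-- The quadratic character of the multiplier. -/
noncomputable def sqHom : Sim Q →* ℤˣ :=
  haveI := Classical.decEq F
  (Units.map (quadraticChar F).toMonoidHom).comp (mult h)

theorem sqHom_eq_one_iff (g : Sim Q) : sqHom h g = 1 ↔ IsSquare (mult h g : F) := by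
  classical
  rw [← quadraticChar_one_iff_isSquare (mult h g).ne_zero, Units.ext_iff]
  unfold sqHom
  simp only [MonoidHom.comp_apply, Units.coe_map, Units.val_one]
  congr! 1

theorem exists_chi_d :
    ∃ χ : Sim Q →* Multiplicative (ZMod 2), ∀ g, χ g = 1 ↔ dHom h g = 1 :=
  exists_bit (dHom h) (a := -1) (by simp) h.neg_one_ne_one (dHom_cases h)

theorem exists_chi_sq :
    ∃ χ : Sim Q →* Multiplicative (ZMod 2), ∀ g, χ g = 1 ↔ IsSquare (mult h g : F) := by
  obtain ⟨χ, hχ⟩ := exists_bit (sqHom h) (a := -1) (by simp) (by decide)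
    (fun g => Int.units_eq_one_or _)
  exact ⟨χ, fun g => (hχ g).trans (sqHom_eq_one_iff h g)⟩

/-! ### The named subgroups -/

/-- The similarities of determinant `μ^M`. -/
noncomputable def S1 : Subgroup (Sim Q) := (dHom h).ker

/-- The similarities with square multiplier and determinant `μ^M`. -/
noncomputable def K : Subgroup (Sim Q) := S1 h ⊓ (sqHom h).ker

theorem mem_S1 {g : Sim Q} : g ∈ S1 h ↔ dHom h g = 1 := Iff.rfl

theorem mem_K {g : Sim Q} : g ∈ K h ↔ dHom h g = 1 ∧ IsSquare (mult h g : F) := by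
  rw [K, Subgroup.mem_inf, mem_S1, MonoidHom.mem_ker, sqHom_eq_one_iff]

theorem mem_SOs {g : Sim Q} : g ∈ SOs Q ↔ mult h g = 1 ∧ dHom h g = 1 := by
  rw [SOs, Subgroup.mem_subgroupOf, specialIsometryGL, Subgroup.mem_inf, ← mult_eq_one_iff h,
    dHom_eq_one_iff]
  constructor
  · rintro ⟨hm, hd⟩
    refine ⟨hm, ?_⟩
    rw [hm, Units.val_one, one_pow]
    exact congrArg Units.val (hd : Matrix.GeneralLinearGroup.det (g : GL ι F) = 1)
  · rintro ⟨hm, hd⟩
    rw [hm, Units.val_one, one_pow] at hd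
    exact ⟨hm, (Units.ext hd : Matrix.GeneralLinearGroup.det (g : GL ι F) = 1)⟩

theorem mult_scalarOf (l : Fˣ) : mult h (scalarOf Q l) = l * l :=
  mult_eq h fun v => by
    rw [scalarOf_coe, Matrix.smul_mulVec, Matrix.one_mulVec, QuadraticMap.map_smul, smul_eq_mul,
      Units.val_mul]

theorem dHom_scalarOf (l : Fˣ) : dHom h (scalarOf Q l) = 1 := by
  rw [dHom_eq_one_iff, mult_scalarOf, scalarOf_coe, Matrix.det_smul, Matrix.det_one, mul_one,
    h.card, pow_mul, Units.val_mul, pow_two]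

theorem scalarSim_le_K : scalarSim Q ≤ K h := by
  intro g hg
  obtain ⟨l, hl, hl0⟩ := (mem_scalarSim Q).1 hg
  have e : g = scalarOf Q (Units.mk0 l hl0) :=
    Subtype.ext (Units.ext (hl.trans (scalarOf_coe (Q := Q) (Units.mk0 l hl0)).symm))
  rw [mem_K, e, dHom_scalarOf, mult_scalarOf]
  exact ⟨rfl, ⟨l, rfl⟩⟩

theorem SOs_le_K : SOs Q ≤ K h := fun g hg => by
  obtain ⟨hm, hd⟩ := (mem_SOs h).1 hg
  rw [mem_K, hm]
  exact ⟨hd, by simp⟩

theorem K_eq : K h = SOs Q ⊔ scalarSim Q := by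
  refine le_antisymm (fun g hg => ?_) (sup_le (SOs_le_K h) (scalarSim_le_K h))
  obtain ⟨hd, c, hc⟩ := (mem_K h).1 hg
  have hc0 : c ≠ 0 := fun e => (mult h g).ne_zero (by rw [hc, e, mul_zero])
  set z := scalarOf Q (Units.mk0 c hc0)
  have hgz : g * z⁻¹ ∈ SOs Q := by
    rw [mem_SOs h, map_mul, map_mul, map_inv, map_inv, dHom_scalarOf, mult_scalarOf, hd,
      mul_inv_eq_one]
    exact ⟨Units.ext (by simpa using hc), by simp⟩
  rw [← inv_mul_cancel_right g z]
  exact Subgroup.mul_mem_sup hgz (scalarOf_mem _)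

theorem omegaSim_le_SOs : omegaSim Q ≤ SOs Q := by
  rintro g ⟨s, hs, hsg⟩
  have e : g = ⟨(s : GL ι F), isometry_le_sim Q s.2⟩ := Subtype.ext hsg.symm
  rw [mem_SOs h, e, (mult_eq_one_iff h _).2 s.2, dHom_isometry h]
  exact ⟨rfl, ((odd_main h.two (isReg_of_nondegenerate h.nd)).1 _).1
    ((mem_Omega_iff s).1 hs) |>.1⟩

theorem innSim_le_K : innSim Q ≤ K h := by
  rw [innSim_eq Q h.nd h.five, K_eq h]
  exact sup_le_sup_right (omegaSim_le_SOs h) _

theorem conj_mem_K {w : Sim Q} (hw : w ∈ K h) (y : Sim Q) : y * w * y⁻¹ ∈ K h := by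
  obtain ⟨h1, h2⟩ := (mem_K h).1 hw
  rw [mem_K, map_mul, map_mul, map_inv, map_mul, map_mul, map_inv]
  exact ⟨by rw [h1, mul_one, mul_inv_cancel], by rwa [mul_comm (mult h y), mul_inv_cancel_right]⟩

theorem K_le_S1 : K h ≤ S1 h := inf_le_left

/-- The conformal group modulo the image of the special group. -/
theorem comap_psoAut : (psoAut F ⇑Q).comap (conjP Q) = K h := by
  rw [psoAut_eq, Subgroup.comap_map_eq, ker_conjP Q h.nd h.five, K_eq h]

theorem exists_nonsquare_swap : ∃ g : Sim Q, ¬ IsSquare (mult h g : F) ∧ g * g ∈ scalarSim Q ∧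
    dHom h g = (-1) ^ M := by
  obtain ⟨c, hc⟩ := FiniteField.exists_nonsquare (ringChar_ne_two h.two)
  have hc0 : c ≠ 0 := fun e => hc (e ▸ IsSquare.zero)
  obtain ⟨g, hg, hgg, hdet⟩ := h.swap (Units.mk0 c hc0)
  exact ⟨g, by rw [mult_eq h hg]; exact hc, hgg, dHom_swap h hg hdet⟩

theorem mult_ofOrth (k : orth Q) : mult h (ofOrth k) = 1 :=
  (mult_eq_one_iff h _).2 ((iso Q).symm k).2

theorem dHom_ofOrth (k : orth Q) : dHom h (ofOrth k) = detHom Q k := by
  rw [ofOrth, dHom_isometry h, MulEquiv.apply_symm_apply]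

theorem exists_ofOrth {g : Sim Q} (hg : mult h g = 1) : ∃ k : orth Q, g = ofOrth k :=
  ⟨iso Q ⟨(g : GL ι F), (mult_eq_one_iff h g).1 hg⟩, Subtype.ext (by simp [ofOrth])⟩

theorem exists_chi_V4 : ∃ χ : Sim Q →* Multiplicative (ZMod 2 × ZMod 2),
    Function.Surjective χ ∧ χ.ker = K h := by
  obtain ⟨χd, hd⟩ := exists_chi_d h
  obtain ⟨χs, hs⟩ := exists_chi_sq h
  let e := (MulEquiv.prodMultiplicative (ZMod 2) (ZMod 2)).symm
  refine ⟨e.toMonoidHom.comp (χd.prod χs), ?_, ?_⟩
  · rw [MonoidHom.coe_comp]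
    refine e.surjective.comp ?_
    obtain ⟨v, hv⟩ := h.exists_ne_zero
    set t := ofOrth (refl Q v hv)
    have htd : χd t = Multiplicative.ofAdd 1 := (mult_two_cases _).resolve_left fun he =>
      h.neg_one_ne_one (by
        have := (hd t).1 he
        rwa [dHom_ofOrth, detHom_refl] at this)
    have hts : χs t = 1 := (hs t).2 (by rw [mult_ofOrth, Units.val_one]; exact IsSquare.one)
    obtain ⟨g, hg, -, -⟩ := exists_nonsquare_swap h
    have hgs : χs g = Multiplicative.ofAdd 1 :=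
      (mult_two_cases _).resolve_left fun he => hg ((hs g).1 he)
    rintro ⟨a, b⟩
    have key : ∀ a, ∃ x : Sim Q, χd x = a ∧ χs x = 1 := fun a => by
      rcases mult_two_cases a with rfl | rfl
      · exact ⟨1, map_one _, map_one _⟩
      · exact ⟨t, htd, hts⟩
    rcases mult_two_cases b with rfl | rfl
    · obtain ⟨x, hx, hx'⟩ := key a
      exact ⟨x, Prod.ext hx hx'⟩
    · obtain ⟨x, hx, hx'⟩ := key (a * (χd g)⁻¹)
      refine ⟨x * g, Prod.ext ?_ ?_⟩
      · show χd (x * g) = a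
        rw [map_mul, hx, inv_mul_cancel_right]
      · show χs (x * g) = _
        rw [map_mul, hx', hgs, one_mul]
  · ext g
    rw [MonoidHom.mem_ker, MonoidHom.comp_apply, MulEquiv.toMonoidHom_eq_coe, MonoidHom.coe_coe,
      EmbeddingLike.map_eq_one_iff, mem_K, ← hd, ← hs, MonoidHom.prod_apply, Prod.mk_eq_one]

theorem pgo_mod_pso : ∃ φ : ↥(pgoAut F ⇑Q) →* Multiplicative (ZMod 2 × ZMod 2),
    Function.Surjective φ ∧ φ.ker = (psoAut F ⇑Q).subgroupOf (pgoAut F ⇑Q) := by
  obtain ⟨χ, hχ, hker⟩ := exists_chi_V4 h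
  rw [pgoAut_eq]
  refine exists_hom_image Q ⊤ _ (χ.comp (⊤ : Subgroup (Sim Q)).subtype)
    (fun a => ?_) ?_
  · obtain ⟨g, rfl⟩ := hχ a
    exact ⟨⟨g, Subgroup.mem_top g⟩, rfl⟩
  · rw [comap_psoAut h, ← hker, ← MonoidHom.comap_ker]
    rfl

/-! ### The two cases -/

theorem mem_innSim_of_SOs {g : Sim Q} (hg : g ∈ SOs Q) :
    g ∈ innSim Q ↔ g ∈ omegaSim Q ∨ g * scalarOf Q (-1) ∈ omegaSim Q := by
  rw [mem_innSim Q h.nd h.five]
  constructor
  · rintro ⟨l, s, hl0, hs, hgs⟩
    have hl : l * l = 1 := by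
      obtain ⟨v, hv⟩ := h.exists_ne_zero
      have e : Q ((g : GL ι F).1 *ᵥ v) = Q v := by
        rw [mult_spec h, ((mem_SOs h).1 hg).1, Units.val_one, one_mul]
      rw [hgs, Matrix.smul_mulVec, QuadraticMap.map_smul, smul_eq_mul,
        show Q ((s : GL ι F).1 *ᵥ v) = Q v from s.2 v v] at e
      exact mul_right_cancel₀ hv (e.trans (one_mul _).symm)
    rcases mul_self_eq_one_iff.1 hl with rfl | rfl
    · exact Or.inl ⟨s, hs, Units.ext (by simpa using hgs.symm)⟩
    · refine Or.inr ⟨s, hs, Units.ext ?_⟩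
      show (s : GL ι F).1 = ((g * scalarOf Q (-1) : Sim Q) : GL ι F).1
      rw [Subgroup.coe_mul, Units.val_mul, scalarOf_coe, hgs]
      simp
  · rintro (⟨s, hs, hsg⟩ | ⟨s, hs, hsg⟩)
    · exact ⟨1, s, one_ne_zero, hs, by rw [one_smul]; exact congrArg Units.val hsg.symm⟩
    · refine ⟨-1, s, neg_ne_zero.2 one_ne_zero, hs, ?_⟩
      have e := congrArg Units.val hsg
      rw [Subgroup.coe_subtype, Subgroup.coe_subtype, Subgroup.coe_mul, Units.val_mul,
        scalarOf_coe] at e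
      rw [e]
      simp

theorem mul_mem_omegaSim {a b : Sim Q} (ha : a ∈ SOs Q) (hb : b ∈ SOs Q) (ha' : a ∉ omegaSim Q)
    (hb' : b ∉ omegaSim Q) : a * b ∈ omegaSim Q := by
  obtain ⟨ham, had⟩ := (mem_SOs h).1 ha
  obtain ⟨hbm, hbd⟩ := (mem_SOs h).1 hb
  obtain ⟨a, rfl⟩ := exists_ofOrth h ham
  obtain ⟨b, rfl⟩ := exists_ofOrth h hbm
  rw [dHom_ofOrth] at had hbd
  have hmain := (odd_main h.two (isReg_of_nondegenerate h.nd)).1
  rw [ofOrth_mem_omegaSim, hmain] at ha' hb'
  rw [← ofOrth_mul, ofOrth_mem_omegaSim, hmain, map_mul, map_mul, had, hbd, mul_one,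
    (Int.units_eq_one_or _).resolve_left (fun e => ha' ⟨had, e⟩),
    (Int.units_eq_one_or _).resolve_left (fun e => hb' ⟨hbd, e⟩)]
  simp

theorem exists_not_omega : ∃ e ∈ SOs Q, e ∉ omegaSim Q := by
  obtain ⟨c, hc⟩ := FiniteField.exists_nonsquare (ringChar_ne_two h.two)
  obtain ⟨u, hu⟩ := h.exists_value 1
  obtain ⟨v, hv⟩ := h.exists_value c
  have hns : NS Q [u, v] := by
    intro w hw
    simp only [List.mem_cons, List.not_mem_nil, or_false] at hw
    rcases hw with rfl | rfl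
    · rw [hu]; exact one_ne_zero
    · rw [hv]; exact fun e => hc (e ▸ IsSquare.zero)
  refine ⟨ofOrth (rprod Q [u, v]), ?_, ?_⟩
  · rw [mem_SOs h, mult_ofOrth, dHom_ofOrth, detHom_rprod hns]
    simp
  · rw [ofOrth_mem_omegaSim, rprod_mem_iff h.nd h.exc hns]
    simp [hu, hv, hc]

theorem SOs_le_innSim (hneg : ¬ NegMem Q) : SOs Q ≤ innSim Q := by
  intro g hg
  rw [mem_innSim_of_SOs h hg, or_iff_not_imp_left]
  intro hg'
  refine mul_mem_omegaSim h hg ?_ hg' (fun e => hneg (negMem_iff.2 e))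
  rw [mem_SOs h, dHom_scalarOf, mult_scalarOf]
  simp

theorem K_eq_innSim (hneg : ¬ NegMem Q) : K h = innSim Q := by
  refine le_antisymm ?_ (innSim_le_K h)
  rw [K_eq h]
  exact sup_le (SOs_le_innSim h hneg) (by rw [innSim_eq Q h.nd h.five]; exact le_sup_right)

theorem mem_innSim_iff_of_neg (hneg : NegMem Q) {g : Sim Q} (hg : g ∈ SOs Q) :
    g ∈ innSim Q ↔ g ∈ omegaSim Q := by
  rw [mem_innSim_of_SOs h hg]
  refine ⟨fun hh => hh.elim id fun e => ?_, Or.inl⟩
  have := Subgroup.mul_mem _ e (Subgroup.inv_mem _ (negMem_iff.1 hneg))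
  rwa [mul_inv_cancel_right] at this

theorem relIndex_SOs (hneg : NegMem Q) : (innSim Q).relIndex (SOs Q) = 2 := by
  rw [Subgroup.relIndex, Subgroup.index_eq_two_iff]
  obtain ⟨e, he, he'⟩ := exists_not_omega h
  refine ⟨⟨e, he⟩, fun b => ?_⟩
  rw [Subgroup.mem_subgroupOf, Subgroup.mem_subgroupOf, mem_innSim_iff_of_neg h hneg b.2,
    mem_innSim_iff_of_neg h hneg (b * ⟨e, he⟩).2, Subgroup.coe_mul]
  by_cases hb : (b : Sim Q) ∈ omegaSim Q
  · exact Or.inr ⟨hb, fun hbe => he' ((Subgroup.mul_mem_cancel_left _ hb).1 hbe)⟩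
  · exact Or.inl ⟨mul_mem_omegaSim h b.2 he hb he', hb⟩

theorem relIndex_psoAut :
    (NegMem Q → (Inn (POmega F ⇑Q)).relIndex (psoAut F ⇑Q) = 2) ∧
      (¬ NegMem Q → (Inn (POmega F ⇑Q)).relIndex (psoAut F ⇑Q) = 1) := by
  rw [psoAut_eq, ← Subgroup.relIndex_comap]
  exact ⟨relIndex_SOs h, fun hneg => Subgroup.relIndex_eq_one.2 (SOs_le_innSim h hneg)⟩

theorem relIndex_K (hneg : NegMem Q) : (innSim Q).relIndex (K h) = 2 := by
  have hN : scalarSim Q ≤ innSim Q := by rw [innSim_eq Q h.nd h.five]; exact le_sup_right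
  rw [show K h = SOs Q ⊔ innSim Q from le_antisymm (by rw [K_eq h]; exact sup_le_sup_left hN _)
    (sup_le (SOs_le_K h) (innSim_le_K h)), Subgroup.relIndex_sup_right, relIndex_SOs h hneg]

theorem index_K : (K h).index = 4 := by
  obtain ⟨χ, hχ, hker⟩ := exists_chi_V4 h
  rw [← hker, Subgroup.index_ker, MonoidHom.range_eq_top.2 hχ,
    Nat.card_congr Subgroup.topEquiv.toEquiv]
  simp

theorem index_S1 : (S1 h).index = 2 := by
  rw [Subgroup.index_eq_two_iff]
  obtain ⟨v, hv⟩ := h.exists_ne_zero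
  have hd : dHom h (ofOrth (refl Q v hv)) = -1 := by rw [dHom_ofOrth, detHom_refl]
  refine ⟨ofOrth (refl Q v hv), fun b => ?_⟩
  rw [mem_S1, mem_S1, map_mul, hd]
  rcases dHom_cases h b with e | e <;> rw [e]
  · exact Or.inr ⟨rfl, by simpa using h.neg_one_ne_one⟩
  · exact Or.inl ⟨by simp, h.neg_one_ne_one⟩

/-! ### The quotients modulo inner similarities -/

theorem index_innSim (hneg : NegMem Q) : (innSim Q).index = 8 := by
  rw [← Subgroup.relIndex_mul_index (innSim_le_K h), relIndex_K h hneg, index_K h]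

theorem relIndex_S1 (hneg : NegMem Q) : (innSim Q).relIndex (S1 h) = 4 := by
  have e := Subgroup.relIndex_mul_index ((innSim_le_K h).trans (K_le_S1 h))
  rw [index_innSim h hneg, index_S1 h] at e
  omega

/-- The image of an element of the nontrivial class of `K`. -/
theorem mul_mem_innSim_of_K (hneg : NegMem Q) {a b : Sim Q} (ha : a ∈ K h) (hb : b ∈ K h)
    (ha' : a ∉ innSim Q) (hb' : b ∉ innSim Q) : a * b ∈ innSim Q := by
  have e := Subgroup.mul_mem_iff_of_index_two (H := (innSim Q).subgroupOf (K h))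
    (relIndex_K h hneg) (a := ⟨a, ha⟩) (b := ⟨b, hb⟩)
  simp only [Subgroup.mem_subgroupOf, Subgroup.coe_mul] at e
  exact e.2 (iff_of_false ha' hb')

/-- The commutator of a similarity of non-square multiplier with a reflection is not inner. -/
theorem comm_refl_not_mem (hneg : NegMem Q) {g : Sim Q} (hg : ¬ IsSquare (mult h g : F))
    {u : ι → F} (hu : Q u ≠ 0) :
    ⁅g, ofOrth (refl Q u hu)⁆ ∈ K h ∧ ⁅g, ofOrth (refl Q u hu)⁆ ∉ innSim Q := by
  set gu := (g : GL ι F).1 *ᵥ u with hgu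
  have hgu0 : Q gu ≠ 0 := by
    rw [hgu, mult_spec h]; exact mul_ne_zero (mult h g).ne_zero hu
  have hconj : g * ofOrth (refl Q u hu) * g⁻¹ = ofOrth (refl Q gu hgu0) := by
    refine Subtype.ext (Units.ext (Matrix.ext_iff_mulVec.2 fun x => ?_))
    rw [ofOrth_mulVec, Subgroup.coe_mul, Subgroup.coe_mul, Subgroup.coe_inv, Units.val_mul,
      Units.val_mul, ← Matrix.mulVec_mulVec, ← Matrix.mulVec_mulVec, ofOrth_mulVec]
    have hx : (g : GL ι F).1 *ᵥ (((g : GL ι F)⁻¹).1 *ᵥ x) = x := by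
      rw [Matrix.mulVec_mulVec, ← Units.val_mul, mul_inv_cancel, Units.val_one, Matrix.one_mulVec]
    set y := ((g : GL ι F)⁻¹).1 *ᵥ x with hy
    have hp : polar Q gu x = (mult h g : F) * polar Q u y := by
      conv_lhs => rw [← hx]
      simp only [polar, hgu, ← Matrix.mulVec_add, mult_spec h]
      ring
    rw [refl_apply, refl_apply, Matrix.mulVec_sub, Matrix.mulVec_smul, hx, hp, hgu, mult_spec h,
      mul_inv, mul_mul_mul_comm, inv_mul_cancel₀ (mult h g).ne_zero, one_mul]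
  have hns : NS Q [gu, u] := by
    intro w hw
    simp only [List.mem_cons, List.not_mem_nil, or_false] at hw
    rcases hw with rfl | rfl
    · exact hgu0
    · exact hu
  have hval : ⁅g, ofOrth (refl Q u hu)⁆ = ofOrth (rprod Q [gu, u]) := by
    have hinv : (ofOrth (refl Q u hu))⁻¹ = ofOrth (refl Q u hu) := by
      refine inv_eq_of_mul_eq_one_right ?_
      rw [← ofOrth_mul, refl_sq]
      exact Subtype.ext (by simp [ofOrth])
    rw [commutatorElement_def, hconj, hinv, rprod_cons hgu0, rprod_singleton hu, ofOrth_mul]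
  have hSO : ofOrth (rprod Q [gu, u]) ∈ SOs Q := by
    rw [mem_SOs h, mult_ofOrth, dHom_ofOrth, detHom_rprod hns]
    simp
  rw [hval]
  refine ⟨SOs_le_K h hSO, ?_⟩
  rw [mem_innSim_iff_of_neg h hneg hSO, ofOrth_mem_omegaSim, rprod_mem_iff h.nd h.exc hns,
    not_and]
  intro _ hsq
  apply hg
  obtain ⟨r, hr⟩ := hsq
  simp only [List.map_cons, List.map_nil, List.prod_cons, List.prod_nil, mul_one, hgu,
    mult_spec h] at hr
  exact ⟨r / Q u, by field_simp; linear_combination hr⟩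

/-- A representative of the non-square classes, together with its square. -/
theorem exists_delta (hneg : NegMem Q) : ∃ d : Sim Q, d ∈ S1 h ∧ ¬ IsSquare (mult h d : F) ∧
    (d * d ∈ innSim Q ↔ Even M) := by
  obtain ⟨g, hg, hgg, hdg⟩ := exists_nonsquare_swap h
  have hgg' : g * g ∈ innSim Q := by
    rw [innSim_eq Q h.nd h.five]; exact Subgroup.mem_sup_right hgg
  rcases Nat.even_or_odd M with hM | hM
  · exact ⟨g, by rw [mem_S1, hdg, hM.neg_one_pow], hg, iff_of_true hgg' hM⟩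
  obtain ⟨u, hu⟩ := h.exists_value 1
  have hu0 : Q u ≠ 0 := by rw [hu]; exact one_ne_zero
  set t := ofOrth (refl Q u hu0)
  refine ⟨g * t, ?_, ?_, iff_of_false ?_ (Nat.not_even_iff_odd.2 hM)⟩
  · rw [mem_S1, map_mul, hdg, hM.neg_one_pow, dHom_ofOrth, detHom_refl]
    simp
  · rw [map_mul, mult_ofOrth, mul_one]
    exact hg
  · have htt : t * t = 1 := by
      rw [← ofOrth_mul, refl_sq]
      exact Subtype.ext (by simp [ofOrth])
    intro hmem
    refine (comm_refl_not_mem h hneg hg hu0).2 ?_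
    have e : ⁅g, t⁆ * (t * (g * g) * t⁻¹) = g * t * (g * t) := by
      rw [commutatorElement_def]
      have : t⁻¹ = t := inv_eq_of_mul_eq_one_right htt
      rw [this]
      calc g * t * g⁻¹ * t * (t * (g * g) * t) = g * t * g⁻¹ * (t * t) * (g * g) * t := by group
        _ = g * t * (g * t) := by rw [htt]; group
    rw [← e] at hmem
    exact (Subgroup.mul_mem_cancel_right _ (innSim_normal Q |>.conj_mem _ hgg' t)).1 hmem

theorem exists_S1_quotient :
    (¬ NegMem Q → ∃ χ : S1 h →* Multiplicative (ZMod 2),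
      Function.Surjective χ ∧ χ.ker = (innSim Q).subgroupOf (S1 h)) ∧
    (NegMem Q → Odd M → ∃ χ : S1 h →* Multiplicative (ZMod 4),
      Function.Surjective χ ∧ χ.ker = (innSim Q).subgroupOf (S1 h)) ∧
    (NegMem Q → Even M → ∃ χ : S1 h →* Multiplicative (ZMod 2 × ZMod 2),
      Function.Surjective χ ∧ χ.ker = (innSim Q).subgroupOf (S1 h)) := by
  refine ⟨fun hneg => two_quotient _ ?_, fun hneg hM => ?_, fun hneg hM => ?_⟩
  · show (innSim Q).relIndex (S1 h) = 2
    have e := Subgroup.relIndex_mul_index ((innSim_le_K h).trans (K_le_S1 h))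
    rw [← K_eq_innSim h hneg, index_K h, index_S1 h] at e
    rw [← K_eq_innSim h hneg]
    omega
  · obtain ⟨d, hd, -, hsq⟩ := exists_delta h hneg
    exact cyclic_four_quotient _ (relIndex_S1 h hneg) (x := ⟨d, hd⟩)
      fun hm => Nat.not_even_iff_odd.2 hM (hsq.1 hm)
  · obtain ⟨d, hd, hdm, hsq⟩ := exists_delta h hneg
    have hdd := hsq.2 hM
    refine klein_quotient _ (relIndex_S1 h hneg) fun x => ?_
    show (x : Sim Q) * x ∈ innSim Q
    have hK : ∀ k ∈ K h, k * k ∈ innSim Q := fun k hk => by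
      by_cases hk' : k ∈ innSim Q
      · exact Subgroup.mul_mem _ hk' hk'
      · exact mul_mem_innSim_of_K h hneg hk hk hk' hk'
    by_cases hx : IsSquare (mult h (x : Sim Q) : F)
    · exact hK _ ((mem_K h).2 ⟨x.2, hx⟩)
    set k := d⁻¹ * (x : Sim Q) with hk
    have hkK : k ∈ K h := by
      refine (mem_K h).2 ⟨Subgroup.mul_mem _ (Subgroup.inv_mem _ hd) x.2, ?_⟩
      rw [hk, map_mul, map_inv, Units.val_mul, Units.val_inv_eq_inv_val, mul_comm, ← div_eq_mul_inv]
      exact isSquare_div_of_not hdm hx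
    have hcomm : (d * k * d⁻¹) * k ∈ innSim Q := by
      by_cases hk' : k ∈ innSim Q
      · exact Subgroup.mul_mem _ ((innSim_normal Q).conj_mem _ hk' d) hk'
      · refine mul_mem_innSim_of_K h hneg (conj_mem_K h hkK d) hkK (fun hc => hk' ?_) hk'
        have := (innSim_normal Q).conj_mem _ hc d⁻¹
        simpa [mul_assoc] using this
    have e : (x : Sim Q) * x = d * k * d⁻¹ * k * (k⁻¹ * (d * d) * k) := by
      rw [hk]; group
    rw [e]
    exact Subgroup.mul_mem _ hcomm
      (by simpa using (innSim_normal Q).conj_mem _ hdd k⁻¹)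

theorem exists_Sim_quotient (hneg : NegMem Q) : ∃ χ : Sim Q →* DihedralGroup 4,
    Function.Surjective χ ∧ χ.ker = innSim Q := by
  obtain ⟨d, hd, hdm, -⟩ := exists_delta h hneg
  obtain ⟨u, hu⟩ := h.exists_ne_zero
  set t := ofOrth (refl Q u hu)
  obtain ⟨heK, heN⟩ := comm_refl_not_mem h hneg hdm hu
  have htt : t * t = 1 := by
    rw [← ofOrth_mul, refl_sq]
    exact Subtype.ext (by simp [ofOrth])
  set π := QuotientGroup.mk' (innSim Q)
  set D := π d
  set T := π t
  set E := π ⁅d, t⁆ with hE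
  have hmem : ∀ x, π x = 1 ↔ x ∈ innSim Q := fun x => QuotientGroup.eq_one_iff x
  have hE1 : E ≠ 1 := fun e => heN ((hmem _).1 e)
  have hK2 : ∀ x ∈ K h, π x = 1 ∨ π x = E := fun x hx => by
    by_cases hx' : x ∈ innSim Q
    · exact Or.inl ((hmem x).2 hx')
    · right
      have h1 := (hmem _).2 (mul_mem_innSim_of_K h hneg hx heK hx' heN)
      have h2 := (hmem _).2 (mul_mem_innSim_of_K h hneg heK heK heN heN)
      rw [map_mul] at h1 h2
      exact mul_right_cancel (h1.trans h2.symm)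
  have hEE : E * E = 1 := by
    rw [← map_mul]; exact (hmem _).2 (mul_mem_innSim_of_K h hneg heK heK heN heN)
  have hcen : ∀ y, y * E = E * y := by
    intro y
    obtain ⟨y, rfl⟩ := QuotientGroup.mk'_surjective (innSim Q) y
    have hnorm : ∀ w ∈ K h, y * w * y⁻¹ ∈ K h := fun w hw => conj_mem_K h hw y
    rcases hK2 _ (hnorm _ heK) with e | e
    · exfalso
      rw [map_mul, map_mul, map_inv, ← hE, mul_inv_eq_one] at e
      exact hE1 (mul_left_cancel (e.trans (mul_one _).symm))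
    · rw [map_mul, map_mul, map_inv, ← hE, mul_inv_eq_iff_eq_mul] at e
      exact e
  have hT : T * T = 1 := by rw [← map_mul, htt, map_one]
  have hTi : T⁻¹ = T := inv_eq_of_mul_eq_one_right hT
  have hDT : D * T = E * T * D := by
    rw [hE, map_commutatorElement, commutatorElement_def]
    show D * T = D * T * D⁻¹ * T⁻¹ * T * D
    group
  have hT1 : T ≠ 1 := fun e => by
    have := (mem_K h).1 (innSim_le_K h ((hmem _).1 e))
    rw [dHom_ofOrth, detHom_refl] at this
    exact h.neg_one_ne_one this.1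
  have hcard : Nat.card (Sim Q ⧸ innSim Q) = 8 := by
    rw [← Subgroup.index_eq_card, index_innSim h hneg]
  have hDD : D * D = 1 ∨ D * D = E := by
    rw [← map_mul]
    refine hK2 _ ((mem_K h).2 ⟨Subgroup.mul_mem _ hd hd, ?_⟩)
    rw [map_mul, Units.val_mul]
    exact ⟨_, rfl⟩
  obtain ⟨e⟩ : Nonempty ((Sim Q ⧸ innSim Q) ≃* DihedralGroup 4) := by
    rcases hDD with hD | hD
    · have hR2 : D * T * (D * T) = E := by
        conv_lhs => arg 1; rw [hDT]
        rw [mul_assoc (E * T) D, ← mul_assoc D D T, hD, one_mul, mul_assoc, hT, mul_one]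
      refine dihedral_of_gens hcard (r := D * T) (s := T) (by rw [hR2]; exact hE1)
        (by rw [hR2, hEE]) hT hT1 ?_
      rw [mul_assoc T, mul_assoc D, hT, mul_one, mul_inv_rev, hTi, inv_eq_of_mul_eq_one_right hD]
    · refine dihedral_of_gens hcard (r := D) (s := T) (by rw [hD]; exact hE1)
        (by rw [hD, hEE]) hT hT1 ?_
      refine eq_inv_of_mul_eq_one_left ?_
      calc T * D * T * D = T * (D * T) * D := by group
        _ = T * (E * T * D) * D := by rw [hDT]
        _ = T * (E * T) * (D * D) := by group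
        _ = T * (T * E) * E := by rw [hcen T, hD]
        _ = 1 := by rw [← mul_assoc T T E, hT, one_mul, hEE]
  exact exists_hom_of_equiv _ e

theorem pgo_mod_inn :
    (NegMem Q → ∃ φ : ↥(pgoAut F ⇑Q) →* DihedralGroup 4, Function.Surjective φ ∧
      φ.ker = (Inn (POmega F ⇑Q)).subgroupOf (pgoAut F ⇑Q)) ∧
    (¬ NegMem Q → ∃ φ : ↥(pgoAut F ⇑Q) →* Multiplicative (ZMod 2 × ZMod 2),
      Function.Surjective φ ∧ φ.ker = (Inn (POmega F ⇑Q)).subgroupOf (pgoAut F ⇑Q)) := by
  rw [pgoAut_eq]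
  constructor
  · intro hneg
    obtain ⟨χ, hχ, hker⟩ := exists_Sim_quotient h hneg
    refine exists_hom_image Q ⊤ _ (χ.comp (⊤ : Subgroup (Sim Q)).subtype) (fun a => ?_) ?_
    · obtain ⟨g, rfl⟩ := hχ a
      exact ⟨⟨g, Subgroup.mem_top g⟩, rfl⟩
    · rw [← MonoidHom.comap_ker, hker]
      rfl
  · intro hneg
    obtain ⟨χ, hχ, hker⟩ := exists_chi_V4 h
    refine exists_hom_image Q ⊤ _ (χ.comp (⊤ : Subgroup (Sim Q)).subtype) (fun a => ?_) ?_
    · obtain ⟨g, rfl⟩ := hχ a
      exact ⟨⟨g, Subgroup.mem_top g⟩, rfl⟩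
    · rw [← MonoidHom.comap_ker, hker, K_eq_innSim h hneg]
      rfl

theorem inndiag_mod_inn (P : (POmega F ⇑Q ≃* POmega F ⇑Q) → Prop)
    (hP : ∀ β, P β ↔ ∃ g ∈ S1 h, β = conjP Q g) :
    (¬ NegMem Q → ∃ φ : ↥(autSubgroupOf P) →* Multiplicative (ZMod 2), Function.Surjective φ ∧
      φ.ker = (Inn (POmega F ⇑Q)).subgroupOf (autSubgroupOf P)) ∧
    (NegMem Q → Odd M → ∃ φ : ↥(autSubgroupOf P) →* Multiplicative (ZMod 4),
      Function.Surjective φ ∧ φ.ker = (Inn (POmega F ⇑Q)).subgroupOf (autSubgroupOf P)) ∧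
    (NegMem Q → Even M → ∃ φ : ↥(autSubgroupOf P) →* Multiplicative (ZMod 2 × ZMod 2),
      Function.Surjective φ ∧ φ.ker = (Inn (POmega F ⇑Q)).subgroupOf (autSubgroupOf P)) := by
  rw [autSubgroupOf_eq Q P (S1 h) hP]
  obtain ⟨h2, h4, hV⟩ := exists_S1_quotient h
  refine ⟨fun hneg => ?_, fun hneg hM => ?_, fun hneg hM => ?_⟩
  · obtain ⟨χ, hχ, hker⟩ := h2 hneg
    exact exists_hom_image Q _ _ χ hχ hker
  · obtain ⟨χ, hχ, hker⟩ := h4 hneg hM
    exact exists_hom_image Q _ _ χ hχ hker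
  · obtain ⟨χ, hχ, hker⟩ := hV hneg hM
    exact exists_hom_image Q _ _ χ hχ hker

end Cfsg.Agent.OrthUnitarySimilar
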