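import Mathlib
import Cfsg.Prelude.Def_LieTypeDatum
import Cfsg.Agent.Lib.OrthUnitarySimilar
import Cfsg.Agent.Lib.OmegaGeo
import Cfsg.Agent.Lib.OmegaStd
import Cfsg.Agent.Lib.FiniteFormClass

/-!
Similarities and the two classes of maximal totally singular subspaces.
-/

set_option autoImplicit false
set_option linter.unusedSectionVars false

namespace Cfsg.Agent.OrthUnitarySimClasses

open QuadraticMap Module
open scoped Matrix MatrixGroups
open Cfsg.Agent.OrthUnitaryQuad
open Cfsg.Agent.OrthUnitaryRefl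
open Cfsg.Agent.OrthUnitaryOmega
open Cfsg.Agent.OrthUnitaryPrelude
open Cfsg.Agent.OmegaClasses

section General

variable {K V : Type*} [Field K] [AddCommGroup V] [Module K V] [FiniteDimensional K V]
  {Q : QuadraticForm K V}

/-- Any two maximal totally singular subspaces of half dimension differ by an isometry. -/
theorem exists_map_lagr (hnd : (polarBilin Q).Nondegenerate) {W : Submodule K V} (hW : Lagr Q W)
    {U : Submodule K V} (hU : Lagr Q U) : ∃ k : orth Q, W.map (k.1 : V →ₗ[K] V) = U := by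
  suffices H : ∀ (n : ℕ) (U : Submodule K V), Lagr Q U → finrank K U ≤ finrank K ↥(U ⊓ W) + n →
      ∃ k : orth Q, W.map (k.1 : V →ₗ[K] V) = U from H _ U hU (Nat.le_add_left _ _)
  intro n
  induction n with
  | zero =>
    intro U hU hn
    refine ⟨1, ?_⟩
    have h1 : U ⊓ W = U := Submodule.eq_of_le_of_finrank_le inf_le_left (by omega)
    have h2 : U = W := Submodule.eq_of_le_of_finrank_eq (inf_eq_left.1 h1)
      (by have := hU.2; have := hW.2; omega)
    rw [h2]
    exact Submodule.map_id W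
  | succ n ih =>
    intro U hU hn
    by_cases hle : U ≤ W
    · exact ih U hU (by rw [inf_eq_left.2 hle]; omega)
    obtain ⟨u, hu, huW⟩ := SetLike.not_le_iff_exists.1 hle
    obtain ⟨w, hw, huw⟩ : ∃ w ∈ W, polar Q w u ≠ 0 := by
      by_contra hc
      push Not at hc
      exact huW (mem_of_orth hnd hW hc)
    have hv : Q (u - w) ≠ 0 := by
      rw [sub_eq_add_neg, QuadraticMap.map_add (⇑Q), hU.1 u hu, QuadraticMap.map_neg, hW.1 w hw,
        polar_neg_right, polar_comm]
      simpa using huw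
    set r := refl Q (u - w) hv
    have hfix : ∀ x ∈ U ⊓ W, r.1 x = x := fun x hx => by
      rw [refl_apply, polar_sub_left, polar_of_sing hU.1 hu hx.1, polar_of_sing hW.1 hw hx.2,
        sub_zero, mul_zero, zero_smul, sub_zero]
    have hru : r.1 u = w := by
      have e : polar Q (u - w) u = Q (u - w) := by
        rw [sub_eq_add_neg, QuadraticMap.map_add (⇑Q), hU.1 u hu, QuadraticMap.map_neg, hW.1 w hw,
          polar_neg_right, polar_add_left, polar_neg_left, polar_self_mul, hU.1 u hu,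
          polar_comm Q w u]
        ring
      rw [refl_apply, e, inv_mul_cancel₀ hv, one_smul, sub_sub_cancel]
    set U' := U.map (r.1 : V →ₗ[K] V)
    have hU' : Lagr Q U' := hU.map r
    have hlt : U ⊓ W < U' ⊓ W := by
      refine lt_of_le_of_ne (fun x hx => ⟨⟨x, hx.1, hfix x hx⟩, hx.2⟩) fun he => huW ?_
      have hw' : w ∈ U' ⊓ W := ⟨⟨u, hu, hru⟩, hw⟩
      rw [← he] at hw'
      have := hfix w hw'
      rw [← hru] at this hw'
      rw [← r.1.injective this]
      exact hw'.2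
    have := Submodule.finrank_lt_finrank_of_lt hlt
    obtain ⟨k, hk⟩ := ih U' hU' (by
      rw [show finrank K U' = finrank K U from LinearEquiv.finrank_map_eq r.1 U]
      omega)
    refine ⟨r⁻¹ * k, ?_⟩
    rw [show ((r⁻¹ * k).1 : V →ₗ[K] V) = ((r⁻¹).1 : V →ₗ[K] V).comp (k.1 : V →ₗ[K] V) from rfl,
      Submodule.map_comp, hk, ← Submodule.map_comp,
      show ((r⁻¹).1 : V →ₗ[K] V).comp (r.1 : V →ₗ[K] V) = ((r⁻¹ * r).1 : V →ₗ[K] V) from rfl,
      inv_mul_cancel]
    exact Submodule.map_id U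

/-- The class of the image of a subspace under an isometry. -/
theorem parity_det [Fintype K] (hnd : (polarBilin Q).Nondegenerate)
    (hexc : Fintype.card K ≠ 2 ∨ finrank K V ≠ 4) (h2 : (2 : K) ≠ 0) {U W : Submodule K V}
    (hU : Lagr Q U) (hW : Lagr Q W) (a : orth Q) :
    Even (finrank K ↥(U ⊓ W.map (a.1 : V →ₗ[K] V)) + finrank K ↥(U ⊓ W)) ↔ detHom Q a = 1 := by
  obtain ⟨vs, hns, rfl⟩ := exists_rprod (reflGroup_top hnd hexc) a
  have h := parity_rprod hnd hU hW hns
  rw [Nat.even_add] at h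
  rw [h, detHom_rprod hns]
  rcases Nat.even_or_odd vs.length with he | ho
  · simp [he, he.neg_one_pow]
  · have hne : (-1 : Kˣ) ≠ 1 := fun e => h2 (by
      have := congrArg Units.val e
      simp only [Units.val_neg, Units.val_one] at this
      linear_combination -this)
    simp [Nat.not_even_iff_odd.2 ho, ho.neg_one_pow, hne]

end General

section Plus

variable {K : Type*} [Field K] [Fintype K] {ι : Type} [Fintype ι] [DecidableEq ι]
  {Q : QuadraticForm K (ι → K)} {M : ℕ}

/-- A matrix preserving the form as an element of the orthogonal group. -/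
theorem exists_orth_of_mat (A : Matrix ι ι K) (hA : ∀ v, Q (A *ᵥ v) = Q v) (hd : A.det ≠ 0) :
    ∃ a : orth Q, (∀ x, a.1 x = A *ᵥ x) ∧ (detHom Q a : K) = A.det := by
  let g : isometryGroup K ⇑Q :=
    ⟨Matrix.GeneralLinearGroup.mkOfDetNeZero A hd, fun u _ => hA u⟩
  refine ⟨iso Q g, fun x => ?_, ?_⟩
  · rw [iso_apply]; rfl
  · rw [← det_mat]; rfl

theorem maxTS_iff {U₀ : Submodule K (ι → K)} (hnd : (polarBilin Q).Nondegenerate)
    (hU₀ : Lagr Q U₀) (U : Submodule K (ι → K)) : IsMaxTotallySingular (⇑Q) U ↔ Lagr Q U := by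
  constructor
  · rintro ⟨hts, hmax⟩
    have hl := OmegaGeo.lagr_extend hnd hU₀ (W := U) hts
    rwa [hmax _ hl.1 le_sup_left] at hl
  · intro hU
    refine ⟨hU.1, fun W hW hUW => (Submodule.eq_of_le_of_finrank_le hUW ?_).symm⟩
    have := two_finrank_le hnd (U := W) hW
    have := hU.2
    omega

/-- A similarity of a hyperbolic form keeps the classes exactly when its determinant is the
power of the multiplier. -/
theorem preserves_iff (hM : 3 ≤ M) (h2 : (2 : K) ≠ 0)
    (L : (ι → K) ≃ₗ[K] (Fin M ⊕ Fin M → K)) (hL : ∀ v, quadFormPlus M K (L v) = Q v)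
    {G : Matrix ι ι K} {μ : K} (hμ : μ ≠ 0) (hG : ∀ v, Q (G *ᵥ v) = μ * Q v) (hdet : G.det ≠ 0) :
    PreservesSingularClasses (⇑Q) G ↔ G.det = μ ^ M := by
  classical
  have hq : ∀ v, QuadClassify.qPlus M K (L v) = Q v := fun v => by
    rw [QuadClassify.qPlus_apply]; exact hL v
  have hq' : ∀ w, Q (L.symm w) = QuadClassify.qPlus M K w := fun w => by
    rw [← hq, L.apply_symm_apply]
  have hnd : (polarBilin Q).Nondegenerate :=
    OrthUnitaryStd.nondegenerate_congr L.symm hq' OmegaStd.nondeg_plus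
  have hfr : finrank K (ι → K) = 2 * M := by rw [L.finrank_eq, OmegaStd.finrank_plus]
  have hexc : Fintype.card K ≠ 2 ∨ finrank K (ι → K) ≠ 4 := Or.inr (by omega)
  set U₀ := (LinearMap.ker (LinearMap.funLeft K K (Sum.inr : Fin M → Fin M ⊕ Fin M))).map
    (L.symm : (Fin M ⊕ Fin M → K) →ₗ[K] (ι → K)) with hU₀def
  have hU₀ : Lagr Q U₀ := by
    refine ⟨?_, ?_⟩
    · rintro _ ⟨w, hw, rfl⟩
      exact (hq' w).trans (OmegaStd.lagr_plus.1 w hw)
    · rw [hU₀def, LinearEquiv.finrank_map_eq, L.finrank_eq]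
      exact OmegaStd.lagr_plus.2
  -- the standard similarity with the same multiplier fixing `U₀`
  set d : Fin M ⊕ Fin M → K := Sum.elim (fun _ => 1) (fun _ => μ) with hd
  have hd0 : ∀ i, d i ≠ 0 := by rintro (i | i) <;> simp [hd, hμ]
  set T : (ι → K) →ₗ[K] (ι → K) := (L.symm : (Fin M ⊕ Fin M → K) →ₗ[K] (ι → K)).comp
    ((Matrix.toLin' (Matrix.diagonal d)).comp (L : (ι → K) →ₗ[K] (Fin M ⊕ Fin M → K))) with hT
  set D := LinearMap.toMatrix' T with hD
  have hDv : ∀ v, D *ᵥ v = L.symm (fun i => d i * L v i) := fun v => by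
    rw [hD, LinearMap.toMatrix'_mulVec, hT]
    simp only [LinearMap.comp_apply, LinearEquiv.coe_coe, Matrix.toLin'_apply]
    congr 1
    funext i
    rw [Matrix.mulVec_diagonal]
  have hDQ : ∀ v, Q (D *ᵥ v) = μ * Q v := fun v => by
    rw [hDv, hq', ← hq v, QuadClassify.qPlus_apply, QuadClassify.qPlus_apply]
    simp only [quadFormPlus, hd, Sum.elim_inl, Sum.elim_inr, Finset.mul_sum, one_mul]
    exact Finset.sum_congr rfl fun i _ => by ring
  have hDdet : D.det = μ ^ M := by
    rw [hD, LinearMap.det_toMatrix', hT,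
      show LinearMap.det ((L.symm : (Fin M ⊕ Fin M → K) →ₗ[K] (ι → K)).comp
        ((Matrix.toLin' (Matrix.diagonal d)).comp (L : (ι → K) →ₗ[K] (Fin M ⊕ Fin M → K))))
        = LinearMap.det (Matrix.toLin' (Matrix.diagonal d)) from
          LinearMap.det_conj (Matrix.toLin' (Matrix.diagonal d)) L.symm,
      LinearMap.det_toLin', Matrix.det_diagonal, Fintype.prod_sum_type]
    simp [hd]
  have hDdet0 : D.det ≠ 0 := by rw [hDdet]; exact pow_ne_zero _ hμ
  have hDu : IsUnit D.det := Ne.isUnit hDdet0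
  have hDi : ∀ v, D *ᵥ (D⁻¹ *ᵥ v) = v := fun v => by
    rw [Matrix.mulVec_mulVec, Matrix.mul_nonsing_inv _ hDu, Matrix.one_mulVec]
  have hDinj : Function.Injective D.mulVec :=
    Matrix.mulVec_injective_iff_isUnit.2 ((Matrix.isUnit_iff_isUnit_det D).2 hDu)
  have hD0 : U₀.map (Matrix.toLin' D) = U₀ := by
    refine Submodule.eq_of_le_of_finrank_eq ?_ ?_
    · rintro _ ⟨_, ⟨w, hw, rfl⟩, rfl⟩
      rw [Matrix.toLin'_apply, LinearEquiv.coe_coe, hDv, L.apply_symm_apply]
      refine ⟨fun i => d i * w i, ?_, rfl⟩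
      funext i
      show d (Sum.inr i) * w (Sum.inr i) = 0
      rw [show w (Sum.inr i) = 0 from congrFun hw i, mul_zero]
    · exact (Submodule.equivMapOfInjective (Matrix.toLin' D)
        (fun x y e => hDinj (by simpa using e)) U₀).finrank_eq.symm
  clear_value U₀
  -- the isometry `G D⁻¹`
  obtain ⟨a, ha, hadet⟩ := exists_orth_of_mat (Q := Q) (G * D⁻¹) (fun v => by
    rw [← Matrix.mulVec_mulVec, hG, ← hDQ, hDi]) (by
    rw [Matrix.det_mul, Matrix.det_nonsing_inv, Ring.inverse_eq_inv', hDdet]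
    exact mul_ne_zero hdet (inv_ne_zero (pow_ne_zero _ hμ)))
  have hcrit : detHom Q a = 1 ↔ G.det = μ ^ M := by
    rw [Units.ext_iff, hadet, Units.val_one, Matrix.det_mul, Matrix.det_nonsing_inv,
      Ring.inverse_eq_inv', hDdet, mul_inv_eq_one₀ (pow_ne_zero _ hμ)]
  rw [← hcrit]
  -- every subspace behaves alike
  have main : ∀ U, Lagr Q U →
      (SameParityClass U (imageSubmodule G U) ↔ detHom Q a = 1) := by
    intro U hU
    set W := U.map (Matrix.toLin' D) with hWdef
    have hW : Lagr Q W := by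
      refine ⟨?_, ?_⟩
      · rintro _ ⟨u, hu, rfl⟩
        rw [Matrix.toLin'_apply, hDQ, hU.1 u hu, mul_zero]
      · rw [← (Submodule.equivMapOfInjective (Matrix.toLin' D)
          (fun x y e => hDinj (by simpa using e)) U).finrank_eq]
        exact hU.2
    have hGW : imageSubmodule G U = W.map (a.1 : (ι → K) →ₗ[K] (ι → K)) := by
      rw [imageSubmodule, hWdef, ← Submodule.map_comp]
      congr 1
      refine LinearMap.ext fun v => ?_
      rw [LinearMap.comp_apply, LinearEquiv.coe_coe, ha, Matrix.toLin'_apply, Matrix.toLin'_apply,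
        Matrix.mulVec_mulVec, Matrix.mul_assoc, Matrix.nonsing_inv_mul _ hDu, Matrix.mul_one]
    obtain ⟨k, hk⟩ := exists_map_lagr hnd hU₀ hU
    obtain ⟨A, hA⟩ : ∃ A : Matrix ι ι K, ∀ x, k.1 x = A *ᵥ x :=
      ⟨LinearMap.toMatrix' (k.1 : (ι → K) →ₗ[K] (ι → K)), fun x =>
        (LinearMap.toMatrix'_mulVec (k.1 : (ι → K) →ₗ[K] (ι → K)) x).symm⟩
    have hAdet : A.det = (detHom Q k : K) := by
      show _ = ((LinearEquiv.det k.1 : Kˣ) : K)
      rw [LinearEquiv.coe_det, ← LinearMap.det_toLin' A]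
      congr 1
      exact LinearMap.ext fun x => by rw [Matrix.toLin'_apply, ← hA]; rfl
    obtain ⟨k', hk', hk'det⟩ := exists_orth_of_mat (Q := Q) (D * A * D⁻¹) (fun v => by
      rw [← Matrix.mulVec_mulVec, ← Matrix.mulVec_mulVec, hDQ, ← hA, map_orth, ← hDQ, hDi]) (by
      rw [Matrix.det_mul, Matrix.det_mul, Matrix.det_nonsing_inv, Ring.inverse_eq_inv', hAdet]
      exact mul_ne_zero (mul_ne_zero hDdet0 (Units.ne_zero _)) (inv_ne_zero hDdet0))
    have hkk : detHom Q k' = detHom Q k := by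
      refine Units.ext ?_
      rw [hk'det, Matrix.det_mul, Matrix.det_mul, Matrix.det_nonsing_inv, Ring.inverse_eq_inv',
        hAdet]
      field_simp
    have hW0 : U₀.map (k'.1 : (ι → K) →ₗ[K] (ι → K)) = W := by
      conv_lhs => rw [← hD0]
      rw [hWdef, ← hk, ← Submodule.map_comp, ← Submodule.map_comp]
      refine congrArg (fun T : (ι → K) →ₗ[K] (ι → K) => Submodule.map T U₀) ?_
      refine LinearMap.ext fun v => ?_
      simp only [LinearMap.comp_apply, LinearEquiv.coe_coe, Matrix.toLin'_apply, hk', hA,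
        Matrix.mulVec_mulVec, Matrix.mul_assoc, Matrix.nonsing_inv_mul _ hDu, Matrix.mul_one]
    have e1 := parity_det hnd hexc h2 hU hW a
    have e2 := parity_det hnd hexc h2 hU hU₀ k'
    have e3 := parity_det hnd hexc h2 hU₀ hU₀ k
    rw [hW0, hkk] at e2
    rw [hk, inf_idem] at e3
    rw [inf_comm U₀ U] at e3
    rw [SameParityClass, hGW]
    have hle : finrank K ↥(U ⊓ W.map (a.1 : (ι → K) →ₗ[K] (ι → K))) ≤ finrank K U :=
      Submodule.finrank_mono inf_le_left
    have hUM : finrank K U = finrank K U₀ := by have := hU.2; have := hU₀.2; omega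
    rw [← e1, Nat.even_sub hle, Nat.even_add, hUM]
    rw [Nat.even_add] at e2 e3
    tauto
  constructor
  · exact fun hp => (main U₀ hU₀).1 (hp U₀ ((maxTS_iff hnd hU₀ U₀).2 hU₀))
  · exact fun hd U hU => (main U ((maxTS_iff hnd hU₀ U).1 hU)).2 hd

theorem preserves_plus (hM : 3 ≤ M) (h2 : (2 : K) ≠ 0)
    {G : Matrix (Fin M ⊕ Fin M) (Fin M ⊕ Fin M) K} {μ : K} (hμ : μ ≠ 0)
    (hG : ∀ v, quadFormPlus M K (G *ᵥ v) = μ * quadFormPlus M K v) (hdet : G.det ≠ 0) :
    PreservesSingularClasses (quadFormPlus M K) G ↔ G.det = μ ^ M := by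
  simp only [← QuadClassify.qPlus_coe] at hG ⊢
  exact preserves_iff hM h2 (LinearEquiv.refl K _) (fun v => (QuadClassify.qPlus_apply M v).symm)
    hμ hG hdet

end Plus

/-! ### The minus type over a quadratic extension -/

section Minus

variable {m : ℕ} {F : Type*} [Field F] [Fintype F]

/-- In odd characteristic two forms agreeing on the sums of two standard vectors are equal. -/
theorem form_ext {K : Type*} [Field K] (h2 : (2 : K) ≠ 0) {ι : Type} [Fintype ι] [DecidableEq ι]
    (R R' : QuadraticForm K (ι → K)) (h1 : ∀ i, R (Pi.single i 1) = R' (Pi.single i 1))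
    (hadd : ∀ i j, R (Pi.single i 1 + Pi.single j 1) = R' (Pi.single i 1 + Pi.single j 1)) :
    R = R' := by
  have hb : polarBilin R = polarBilin R' := LinearMap.BilinForm.ext_basis (Pi.basisFun K ι)
    fun i j => by simp [Pi.basisFun_apply, polar, h1, hadd]
  refine QuadraticMap.ext fun v => ?_
  have e := congrArg (fun B : LinearMap.BilinForm K (ι → K) => B v v) hb
  simp only [polarBilin_apply_apply, polar_self_mul] at e
  exact mul_left_cancel₀ h2 e

theorem exists_root {K : Type*} [Field K] [Algebra F K] (hK : finrank F K = 2)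
    (h2 : (2 : F) ≠ 0) (x : F) : IsSquare (algebraMap F K x) := by
  by_cases hx : x = 0
  · subst hx; simp
  haveI : FiniteDimensional F K := Module.finite_of_finrank_eq_succ hK
  haveI : Finite K := Module.finite_of_finite F
  letI := Fintype.ofFinite K
  have h2K : (2 : K) ≠ 0 := by
    rw [show (2 : K) = algebraMap F K 2 from (map_ofNat (algebraMap F K) 2).symm]
    exact fun e => h2 ((algebraMap F K).injective (e.trans (map_zero _).symm))
  have hcard : Fintype.card K = Fintype.card F ^ 2 := by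
    rw [Module.card_eq_pow_finrank (K := F) (V := K), hK]
  rw [FiniteField.isSquare_iff (ringChar_ne_two h2K) (by simpa using hx), hcard]
  obtain ⟨r, hr⟩ : Odd (Fintype.card F) := Nat.odd_iff.2 (card_mod_two h2)
  have e : Fintype.card F ^ 2 / 2 = (Fintype.card F - 1) * (r + 1) := by
    rw [hr, Nat.add_sub_cancel,
      show (2 * r + 1) ^ 2 = 2 * (2 * r * (r + 1)) + 1 by ring]
    omega
  rw [e, pow_mul, ← map_pow, FiniteField.pow_card_sub_one_eq_one x hx, map_one, one_pow]

/-- Over a quadratic extension the minus form is hyperbolic. -/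
theorem exists_hyperbolic {K : Type*} [Field K] [Algebra F K] (hK : finrank F K = 2)
    (h2 : (2 : F) ≠ 0) {a b : F}
    (hab : ∀ z₁ z₂ : F, z₁ ^ 2 + a * z₁ * z₂ + b * z₂ ^ 2 = 0 → z₁ = 0 ∧ z₂ = 0) :
    ∃ L : ((Fin m ⊕ Fin m) ⊕ Fin 2 → K) ≃ₗ[K] (Fin (m + 1) ⊕ Fin (m + 1) → K),
      ∀ v, quadFormPlus (m + 1) K (L v) =
        QuadClassify.qMinus m K (algebraMap F K a) (algebraMap F K b) v := by
  have h2K : (2 : K) ≠ 0 := by
    rw [show (2 : K) = algebraMap F K 2 from (map_ofNat (algebraMap F K) 2).symm]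
    exact fun e => h2 ((algebraMap F K).injective (e.trans (map_zero _).symm))
  set A := algebraMap F K a
  set B := algebraMap F K b
  obtain ⟨s, hs⟩ := exists_root hK h2 (a ^ 2 - 4 * b)
  have hs' : s * s = A ^ 2 - 4 * B := by
    rw [← hs, map_sub, map_mul, map_pow, map_ofNat]
  have hs0 : s ≠ 0 := by
    intro e
    rw [e, mul_zero] at hs'
    have h0 : algebraMap F K (4 * b - a ^ 2) = 0 := by
      simp only [map_sub, map_mul, map_pow, map_ofNat]; linear_combination hs'
    exact QuadClassify.qBin_disc_ne hab ((algebraMap F K).injective (h0.trans (map_zero _).symm))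
  let u : ((Fin m ⊕ Fin m) ⊕ Fin 2 → K) →ₗ[K] K :=
    LinearMap.proj (Sum.inr 0) + ((A + s) / 2) • LinearMap.proj (Sum.inr 1)
  let u' : ((Fin m ⊕ Fin m) ⊕ Fin 2 → K) →ₗ[K] K :=
    LinearMap.proj (Sum.inr 0) + ((A - s) / 2) • LinearMap.proj (Sum.inr 1)
  let T : ((Fin m ⊕ Fin m) ⊕ Fin 2 → K) →ₗ[K] (Fin (m + 1) ⊕ Fin (m + 1) → K) :=
    LinearMap.pi (Sum.elim
      (Fin.lastCases u fun i => LinearMap.proj (Sum.inl (Sum.inl i)))
      (Fin.lastCases u' fun i => LinearMap.proj (Sum.inl (Sum.inr i))))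
  have hinj : Function.Injective T := by
    rw [← LinearMap.ker_eq_bot, LinearMap.ker_eq_bot']
    intro v hv
    have e1 := congrFun hv (Sum.inl (Fin.last m))
    have e2 := congrFun hv (Sum.inr (Fin.last m))
    simp only [T, u, u', LinearMap.pi_apply, Sum.elim_inl, Sum.elim_inr, Fin.lastCases_last,
      LinearMap.add_apply, LinearMap.smul_apply, LinearMap.proj_apply, smul_eq_mul,
      Pi.zero_apply] at e1 e2
    have e3 : v (Sum.inr 1) = 0 := by
      have : s * v (Sum.inr 1) = 0 := by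
        have h := sub_eq_zero.2 (e1.trans e2.symm)
        field_simp at h
        have h' : s * v (Sum.inr 1) * 2 = 0 := by linear_combination h
        exact (mul_eq_zero.1 h').resolve_right h2K
      exact (mul_eq_zero.1 this).resolve_left hs0
    have e4 : v (Sum.inr 0) = 0 := by simpa [e3] using e1
    funext i
    rcases i with (i | i) | i
    · simpa [T] using congrFun hv (Sum.inl i.castSucc)
    · simpa [T] using congrFun hv (Sum.inr i.castSucc)
    · fin_cases i
      · exact e4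
      · exact e3
  refine ⟨LinearMap.linearEquivOfInjective T hinj (by simp; omega), fun v => ?_⟩
  rw [LinearMap.linearEquivOfInjective_apply, QuadClassify.qMinus_apply, quadFormPlus,
    quadFormMinus, Fin.sum_univ_castSucc]
  simp only [T, u, u', LinearMap.pi_apply, Sum.elim_inl, Sum.elim_inr, Fin.lastCases_last,
    Fin.lastCases_castSucc, LinearMap.add_apply, LinearMap.smul_apply, LinearMap.proj_apply,
    smul_eq_mul, quadFormPlus]
  field_simp
  linear_combination (-(v (Sum.inr 1)) ^ 2) * hs'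

theorem preserves_minus_ext {K : Type*} [Field K] [Algebra F K] (hK : finrank F K = 2)
    (hm : 2 ≤ m) (h2 : (2 : F) ≠ 0) {a b : F}
    (hab : ∀ z₁ z₂ : F, z₁ ^ 2 + a * z₁ * z₂ + b * z₂ ^ 2 = 0 → z₁ = 0 ∧ z₂ = 0)
    {G : Matrix ((Fin m ⊕ Fin m) ⊕ Fin 2) ((Fin m ⊕ Fin m) ⊕ Fin 2) F} {μ : F} (hμ : μ ≠ 0)
    (hG : ∀ v, quadFormMinus m F a b (G *ᵥ v) = μ * quadFormMinus m F a b v) (hdet : G.det ≠ 0) :
    PreservesSingularClasses (quadFormMinus m K (algebraMap F K a) (algebraMap F K b))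
      (G.map (algebraMap F K)) ↔ G.det = μ ^ (m + 1) := by
  haveI : FiniteDimensional F K := Module.finite_of_finrank_eq_succ hK
  haveI : Finite K := Module.finite_of_finite F
  letI := Fintype.ofFinite K
  set φ := algebraMap F K
  have h2K : (2 : K) ≠ 0 := by
    rw [show (2 : K) = φ 2 from (map_ofNat φ 2).symm]
    exact fun e => h2 (φ.injective (e.trans (map_zero _).symm))
  obtain ⟨L, hL⟩ := exists_hyperbolic (m := m) hK h2 hab
  set R := QuadClassify.qMinus m K (φ a) (φ b)
  have hrat : ∀ v : (Fin m ⊕ Fin m) ⊕ Fin 2 → F,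
      R (fun i => φ (v i)) = φ (quadFormMinus m F a b v) := by
    intro v
    simp [R, QuadClassify.qMinus_apply, quadFormMinus, quadFormPlus]
  have hGK : ∀ w, R (G.map φ *ᵥ w) = φ μ * R w := by
    have e : R.comp (Matrix.toLin' (G.map φ)) = φ μ • R := by
      have key : ∀ v : (Fin m ⊕ Fin m) ⊕ Fin 2 → F,
          R.comp (Matrix.toLin' (G.map φ)) (fun i => φ (v i)) = (φ μ • R) (fun i => φ (v i)) := by
        intro v
        have hmv : G.map φ *ᵥ (fun i => φ (v i)) = fun i => φ ((G *ᵥ v) i) := by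
          funext i
          exact (RingHom.map_mulVec φ G v i).symm
        rw [QuadraticMap.comp_apply, Matrix.toLin'_apply, hmv, hrat, hG, map_mul, ← hrat]
        simp
      have hsing : ∀ i, (Pi.single i (1 : K) : (Fin m ⊕ Fin m) ⊕ Fin 2 → K) =
          fun l => φ ((Pi.single i (1 : F) : (Fin m ⊕ Fin m) ⊕ Fin 2 → F) l) := by
        intro i; funext l; simp [Pi.single_apply, apply_ite φ]
      refine form_ext h2K _ _ (fun i => ?_) (fun i j => ?_)
      · rw [hsing]; exact key _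
      · have : (Pi.single i (1 : K) + Pi.single j 1 : (Fin m ⊕ Fin m) ⊕ Fin 2 → K) =
            fun l => φ ((Pi.single i (1 : F) + Pi.single j 1 : (Fin m ⊕ Fin m) ⊕ Fin 2 → F) l) := by
          rw [hsing i, hsing j]; funext l; simp
        rw [this]; exact key _
    intro w
    simpa using congrArg (fun T => T w) e
  have hdetK : (G.map φ).det = φ G.det := (RingHom.map_det φ G).symm
  rw [← QuadClassify.qMinus_coe, preserves_iff (M := m + 1) (by omega) h2K L hL
    (fun e => hμ (φ.injective (e.trans (map_zero _).symm))) hGK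
    (by rw [hdetK]; exact fun e => hdet (φ.injective (e.trans (map_zero _).symm))),
    hdetK, ← map_pow, φ.injective.eq_iff]

theorem preserves_minus {F : Type*} [Field F] [Fintype F] (hm : 2 ≤ m) (h2 : (2 : F) ≠ 0)
    {a b : F} (hab : ∀ z₁ z₂ : F, z₁ ^ 2 + a * z₁ * z₂ + b * z₂ ^ 2 = 0 → z₁ = 0 ∧ z₂ = 0)
    {G : Matrix ((Fin m ⊕ Fin m) ⊕ Fin 2) ((Fin m ⊕ Fin m) ⊕ Fin 2) F} {μ : F} (hμ : μ ≠ 0)
    (hG : ∀ v, quadFormMinus m F a b (G *ᵥ v) = μ * quadFormMinus m F a b v) (hdet : G.det ≠ 0) :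
    PreservesSingularClassesMinus m a b G ↔ G.det = μ ^ (m + 1) := by
  constructor
  · rintro ⟨K, _, _, hK, hp⟩
    exact (preserves_minus_ext hK hm h2 hab hμ hG hdet).1 hp
  · intro hd
    obtain ⟨ν, hν⟩ := FiniteField.exists_nonsquare (ringChar_ne_two h2)
    have hirr : Irreducible (Polynomial.X ^ 2 - Polynomial.C ν) :=
      X_pow_sub_C_irreducible_of_prime Nat.prime_two fun x hx => hν ⟨x, by rw [← hx, pow_two]⟩
    haveI := Fact.mk hirr
    refine ⟨AdjoinRoot (Polynomial.X ^ 2 - Polynomial.C ν), inferInstance, inferInstance, ?_, ?_⟩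
    · rw [(AdjoinRoot.powerBasis hirr.ne_zero).finrank, AdjoinRoot.powerBasis_dim,
        Polynomial.natDegree_X_pow_sub_C]
    · refine (preserves_minus_ext ?_ hm h2 hab hμ hG hdet).2 hd
      rw [(AdjoinRoot.powerBasis hirr.ne_zero).finrank, AdjoinRoot.powerBasis_dim,
        Polynomial.natDegree_X_pow_sub_C]

end Minus

/-! ### The standard forms -/

section Std

open Cfsg.Agent.OrthUnitarySimAut
open Cfsg.Agent.OrthUnitarySimilar

variable {F : Type*} [Field F] [Fintype F] {m : ℕ}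

/-- The block swap with multiplier `c`. -/
def swapMat (m : ℕ) (c : F) : Matrix (Fin m ⊕ Fin m) (Fin m ⊕ Fin m) F :=
  Matrix.fromBlocks 0 1 (c • 1) 0

theorem swapMat_det (c : F) : (swapMat m c).det = (-1) ^ m * c ^ m := by
  have e : swapMat m c = Matrix.fromBlocks 1 0 0 (c • 1) * Matrix.fromBlocks 0 1 1 0 := by
    simp [swapMat, Matrix.fromBlocks_multiply]
  rw [e, Matrix.det_mul, Matrix.det_fromBlocks_zero₂₁, FiniteFormClass.det_swap,
    Matrix.det_one, one_mul, Matrix.det_smul, Matrix.det_one, mul_one, Fintype.card_fin, mul_comm]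

theorem swapMat_sq (c : F) : swapMat m c * swapMat m c = c • 1 := by
  simp [swapMat, Matrix.fromBlocks_multiply, ← Matrix.fromBlocks_one, Matrix.fromBlocks_smul]

theorem swapMat_form (c : F) (v : Fin m ⊕ Fin m → F) :
    quadFormPlus m F (swapMat m c *ᵥ v) = c * quadFormPlus m F v := by
  rw [swapMat, Matrix.fromBlocks_mulVec]
  simp only [quadFormPlus, Finset.mul_sum]
  refine Finset.sum_congr rfl fun i _ => ?_
  simp [Matrix.smul_mulVec, Function.comp_def]
  ring

theorem good_plus (hm : 3 ≤ m) (h2 : (2 : F) ≠ 0) : Good (QuadClassify.qPlus m F) m where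
  card := by simp; omega
  five := by simp; omega
  two := h2
  nd := OmegaStd.nondeg_plus
  swap c := by
    have hd : (swapMat m (c : F)).det ≠ 0 := by
      rw [swapMat_det]; exact mul_ne_zero (pow_ne_zero _ (by simp)) (pow_ne_zero _ c.ne_zero)
    have hform : ∀ v, QuadClassify.qPlus m F (swapMat m (c : F) *ᵥ v) =
        (c : F) * QuadClassify.qPlus m F v := fun v => by
      rw [QuadClassify.qPlus_apply, QuadClassify.qPlus_apply, swapMat_form]
    refine ⟨⟨Matrix.GeneralLinearGroup.mkOfDetNeZero _ hd, c, hform⟩, hform, ?_, swapMat_det _⟩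
    exact (mem_scalarSim _).2 ⟨c, swapMat_sq _, c.ne_zero⟩

/-- Conjugation followed by multiplication by `x + y θ`. -/
def binMat (a b x y : F) : Matrix (Fin 2) (Fin 2) F := !![x, a * x + b * y; y, -x]

theorem good_minus (hm : 2 ≤ m) (h2 : (2 : F) ≠ 0) {a b : F}
    (hab : ∀ z₁ z₂ : F, z₁ ^ 2 + a * z₁ * z₂ + b * z₂ ^ 2 = 0 → z₁ = 0 ∧ z₂ = 0) :
    Good (QuadClassify.qMinus m F a b) (m + 1) where
  card := by simp; omega
  five := by simp; omega
  two := h2
  nd := by
    refine OrthUnitaryStd.nondegenerate_congr (OrthUnitaryForms.eqMinus m) (fun p => ?_)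
      (OrthUnitaryStd.nondegenerate_withBase (OrthUnitaryStd.nondegenerate_qfBin hab) m)
    rw [QuadClassify.qMinus_apply, OrthUnitaryForms.eqMinus_isometry]
  swap c := by
    obtain ⟨z, hz⟩ := exists_map_eq (OrthUnitaryForms.isReg_qfBin hab) (by simp) (c : F)
    rw [OrthUnitaryForms.qfBin_apply] at hz
    set x := z 0
    set y := z 1
    set W := binMat a b x y
    set G := Matrix.fromBlocks (swapMat m (c : F)) 0 0 W
    have hWdet : W.det = -(c : F) := by
      simp only [W, binMat, Matrix.det_fin_two_of]; linear_combination -hz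
    have hWsq : W * W = (c : F) • 1 := by
      simp only [W, binMat, Matrix.mul_fin_two, Matrix.one_fin_two, Matrix.smul_of,
        Matrix.smul_cons, smul_eq_mul, mul_one, mul_zero, Matrix.smul_empty]
      congr 1
      ext i j
      fin_cases i <;> fin_cases j <;> simp <;> first | linear_combination hz | ring
    have hGdet : G.det = (-1) ^ (m + 1) * (c : F) ^ (m + 1) := by
      rw [Matrix.det_fromBlocks_zero₂₁, swapMat_det, hWdet]; ring
    have hd : G.det ≠ 0 := by
      rw [hGdet]; exact mul_ne_zero (pow_ne_zero _ (by simp)) (pow_ne_zero _ c.ne_zero)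
    have hform : ∀ v, QuadClassify.qMinus m F a b (G *ᵥ v) =
        (c : F) * QuadClassify.qMinus m F a b v := fun v => by
      rw [QuadClassify.qMinus_apply, QuadClassify.qMinus_apply, Matrix.fromBlocks_mulVec]
      simp only [quadFormMinus, Sum.elim_inl, Sum.elim_inr, Matrix.zero_mulVec, add_zero, zero_add]
      show quadFormPlus m F (swapMat m (c : F) *ᵥ (v ∘ Sum.inl)) + _ = _
      rw [swapMat_form]
      simp only [quadFormPlus, Function.comp_def, Matrix.mulVec, dotProduct, W, binMat, Fin.sum_univ_two,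
        Matrix.of_apply, Matrix.cons_val_zero, Matrix.cons_val_one]
      linear_combination (v (Sum.inr 0) ^ 2 + a * v (Sum.inr 0) * v (Sum.inr 1)
        + b * v (Sum.inr 1) ^ 2) * hz
    refine ⟨⟨Matrix.GeneralLinearGroup.mkOfDetNeZero _ hd, c, hform⟩, hform, ?_, hGdet⟩
    refine (mem_scalarSim _).2 ⟨c, ?_, c.ne_zero⟩
    show G * G = _
    simp [G, Matrix.fromBlocks_multiply, swapMat_sq, hWsq, ← Matrix.fromBlocks_one,
      Matrix.fromBlocks_smul]

theorem four_cases {q : ℕ} (hodd : Odd q) : q % 4 = 1 ∨ q % 4 = 3 := by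
  obtain ⟨k, rfl⟩ := hodd; omega

theorem negMem_plus (hodd : Odd (Fintype.card F)) :
    NegMem (QuadClassify.qPlus m F) ↔ ¬ (Odd m ∧ Fintype.card F % 4 = 3) := by
  unfold NegMem
  rw [QuadClassify.qPlus_coe]
  refine ((OrthUnitaryStd.exists_negOne_iff (withBase m (OrthUnitaryForms.qfNil F)) _
    (OrthUnitaryForms.eqPlus m) (OrthUnitaryForms.eqPlus_isometry m)).trans
    (OrthUnitaryStd.negOne_mem_plus rfl hodd m)).trans ?_
  rw [Nat.pow_mod]
  rcases four_cases hodd with h | h <;> rw [h]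
  · simp
  · rcases Nat.even_or_odd' m with ⟨r, rfl | rfl⟩
    · simp [pow_mul, Nat.pow_mod]
    · simp [pow_succ, pow_mul, Nat.mul_mod, Nat.pow_mod]

theorem negMem_minus (hodd : Odd (Fintype.card F)) {a b : F}
    (hab : ∀ z₁ z₂ : F, z₁ ^ 2 + a * z₁ * z₂ + b * z₂ ^ 2 = 0 → z₁ = 0 ∧ z₂ = 0) :
    NegMem (QuadClassify.qMinus m F a b) ↔ Even m ∧ Fintype.card F % 4 = 3 := by
  unfold NegMem
  rw [QuadClassify.qMinus_coe]
  refine ((OrthUnitaryStd.exists_negOne_iff (withBase m (OrthUnitaryForms.qfBin a b)) _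
    (OrthUnitaryForms.eqMinus m) (OrthUnitaryForms.eqMinus_isometry m a b)).trans
    (OrthUnitaryStd.negOne_mem_minus rfl hodd hab m)).trans ?_
  rw [Nat.pow_mod]
  rcases four_cases hodd with h | h <;> rw [h]
  · simp
  · rcases Nat.even_or_odd' m with ⟨r, rfl | rfl⟩
    · simp [pow_succ, pow_mul, Nat.mul_mod, Nat.pow_mod]
    · simp [show 2 * r + 1 + 1 = 2 * (r + 1) by ring, pow_mul, Nat.pow_mod]

theorem inner_diag_plus (hm : 3 ≤ m) (h2 : (2 : F) ≠ 0)
    (β : POmega F ⇑(QuadClassify.qPlus m F) ≃* POmega F ⇑(QuadClassify.qPlus m F)) :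
    (∃ g : GL (Fin m ⊕ Fin m) F, g ∈ Sim (QuadClassify.qPlus m F) ∧
      PreservesSingularClasses (⇑(QuadClassify.qPlus m F)) g.1 ∧
      IsInducedBySemilinearPOmega (⇑(QuadClassify.qPlus m F)) g (RingEquiv.refl F) β) ↔
    ∃ g ∈ S1 (good_plus hm h2), β = conjP _ g := by
  have key : ∀ g : Sim (QuadClassify.qPlus m F),
      PreservesSingularClasses (⇑(QuadClassify.qPlus m F)) (g : GL (Fin m ⊕ Fin m) F).1 ↔
        g ∈ S1 (good_plus hm h2) := fun g => by
    rw [mem_S1, dHom_eq_one_iff, preserves_iff hm h2 (LinearEquiv.refl F _)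
      (fun v => (QuadClassify.qPlus_apply m v).symm) (mult (good_plus hm h2) g).ne_zero
      (mult_spec _ g) (Matrix.GeneralLinearGroup.det_ne_zero _)]
  constructor
  · rintro ⟨g, hg, hp, hi⟩
    exact ⟨⟨g, hg⟩, (key ⟨g, hg⟩).1 hp, (induced_iff _ g hg β).1 hi⟩
  · rintro ⟨g, hg, rfl⟩
    exact ⟨g.1, g.2, (key g).2 hg, (induced_iff _ g.1 g.2 _).2 rfl⟩

theorem inner_diag_minus (hm : 2 ≤ m) (h2 : (2 : F) ≠ 0) {a b : F}
    (hab : ∀ z₁ z₂ : F, z₁ ^ 2 + a * z₁ * z₂ + b * z₂ ^ 2 = 0 → z₁ = 0 ∧ z₂ = 0)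
    (β : POmega F ⇑(QuadClassify.qMinus m F a b) ≃* POmega F ⇑(QuadClassify.qMinus m F a b)) :
    (∃ g : GL ((Fin m ⊕ Fin m) ⊕ Fin 2) F, g ∈ Sim (QuadClassify.qMinus m F a b) ∧
      PreservesSingularClassesMinus m a b g.1 ∧
      IsInducedBySemilinearPOmega (⇑(QuadClassify.qMinus m F a b)) g (RingEquiv.refl F) β) ↔
    ∃ g ∈ S1 (good_minus hm h2 hab), β = conjP _ g := by
  have key : ∀ g : Sim (QuadClassify.qMinus m F a b),
      PreservesSingularClassesMinus m a b (g : GL ((Fin m ⊕ Fin m) ⊕ Fin 2) F).1 ↔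
        g ∈ S1 (good_minus hm h2 hab) := fun g => by
    rw [mem_S1, dHom_eq_one_iff, preserves_minus hm h2 hab (mult (good_minus hm h2 hab) g).ne_zero
      (fun v => by simpa [QuadClassify.qMinus_apply] using mult_spec (good_minus hm h2 hab) g v)
      (Matrix.GeneralLinearGroup.det_ne_zero _)]
  constructor
  · rintro ⟨g, hg, hp, hi⟩
    exact ⟨⟨g, hg⟩, (key ⟨g, hg⟩).1 hp, (induced_iff _ g hg β).1 hi⟩
  · rintro ⟨g, hg, rfl⟩
    exact ⟨g.1, g.2, (key g).2 hg, (induced_iff _ g.1 g.2 _).2 rfl⟩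

/-- The inner-diagonal quotients read at an equal function. -/
theorem inndiag_mod_inn' {ι : Type} [Fintype ι] [DecidableEq ι] {Q : QuadraticForm F (ι → F)} {M : ℕ}
    (h : Good Q M) (R : ((ι → F) → F) → GL ι F → Prop)
    (hR : ∀ β, (∃ g : GL ι F, g ∈ Sim Q ∧ R (⇑Q) g ∧
      IsInducedBySemilinearPOmega (⇑Q) g (RingEquiv.refl F) β) ↔ ∃ g ∈ S1 h, β = conjP Q g)
    (f : (ι → F) → F) (hf : ⇑Q = f) (S : Subgroup (MulAut (POmega F f)))
    (hS : S = autSubgroupOf fun β => ∃ g : GL ι F, g ∈ Geo.quadSimilarityGroup (F := F) f ∧ R f g ∧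
      IsInducedBySemilinearPOmega f g (RingEquiv.refl F) β) :
    (¬ NegMem Q → ∃ φ : ↥S →* Multiplicative (ZMod 2), Function.Surjective φ ∧
      φ.ker = (Inn (POmega F f)).subgroupOf S) ∧
    (NegMem Q → Odd M → ∃ φ : ↥S →* Multiplicative (ZMod 4),
      Function.Surjective φ ∧ φ.ker = (Inn (POmega F f)).subgroupOf S) ∧
    (NegMem Q → Even M → ∃ φ : ↥S →* Multiplicative (ZMod 2 × ZMod 2),
      Function.Surjective φ ∧ φ.ker = (Inn (POmega F f)).subgroupOf S) := by
  subst hf
  subst hS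
  exact inndiag_mod_inn h _ hR

end Std

end Cfsg.Agent.OrthUnitarySimClasses
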