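import Mathlib
import Cfsg.Agent.Lib.OrthUnitarySimClasses

/-!
The two classes of maximal totally singular subspaces in any characteristic, and the
semisimilarities which keep them.
-/

set_option autoImplicit false
set_option linter.unusedSectionVars false

namespace Cfsg.Agent.AutOrth45Parity

open QuadraticMap Module
open Cfsg.Agent.OrthUnitaryQuad
open Cfsg.Agent.OrthUnitaryRefl
open Cfsg.Agent.OmegaClasses

variable {K : Type*} [Field K] {V : Type*} [AddCommGroup V] [Module K V]
  {K' : Type*} [Field K'] {V' : Type*} [AddCommGroup V'] [Module K' V']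
  {K'' : Type*} [Field K''] {V'' : Type*} [AddCommGroup V''] [Module K'' V'']
  {Q : QuadraticForm K V} {Q' : QuadraticForm K' V'} {Q'' : QuadraticForm K'' V''}

/-- A semisimilarity between two quadratic spaces. -/
def IsSS (Q : QuadraticForm K V) (Q' : QuadraticForm K' V') (S : V ≃+ V') : Prop :=
  ∃ (σ : K ≃+* K') (μ : K'), μ ≠ 0 ∧ (∀ (c : K) v, S (c • v) = σ c • S v) ∧
    ∀ v, Q' (S v) = μ * σ (Q v)

theorem IsSS.trans {S : V ≃+ V'} {T : V' ≃+ V''} (hS : IsSS Q Q' S) (hT : IsSS Q' Q'' T) :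
    IsSS Q Q'' (S.trans T) := by
  obtain ⟨σ, μ, hμ, hs, hq⟩ := hS
  obtain ⟨τ, ν, hν, ht, hq'⟩ := hT
  refine ⟨σ.trans τ, ν * τ μ, mul_ne_zero hν (by simpa using hμ), fun c v => ?_, fun v => ?_⟩
  · simp [hs, ht]
  · simp [hq, hq', mul_assoc]

/-- The image of a subspace. -/
def img (K' : Type*) [Field K'] [Module K' V'] (S : V ≃+ V') (U : Submodule K V) :
    Submodule K' V' :=
  Submodule.span K' (S '' (U : Set V))

theorem mem_img {S : V ≃+ V'} (hS : IsSS Q Q' S) {U : Submodule K V} {x : V'} :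
    x ∈ img K' S U ↔ S.symm x ∈ U := by
  obtain ⟨σ, μ, -, hs, -⟩ := hS
  constructor
  · intro hx
    let W : Submodule K' V' :=
      { carrier := {y | S.symm y ∈ U}
        add_mem' := fun {a b} (ha : S.symm a ∈ U) (hb : S.symm b ∈ U) => by
          show S.symm (a + b) ∈ U
          rw [map_add]
          exact U.add_mem ha hb
        zero_mem' := by
          show S.symm 0 ∈ U
          rw [map_zero]
          exact U.zero_mem
        smul_mem' := fun c y (hy : S.symm y ∈ U) => by
          show S.symm (c • y) ∈ U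
          have e : S.symm (c • y) = σ.symm c • S.symm y :=
            S.injective (by rw [hs, S.apply_symm_apply, S.apply_symm_apply, σ.apply_symm_apply])
          rw [e]
          exact U.smul_mem _ hy }
    have hle : img K' S U ≤ W := Submodule.span_le.2 (by
      rintro _ ⟨u, hu, rfl⟩
      show S.symm (S u) ∈ U
      rwa [S.symm_apply_apply])
    exact hle hx
  · intro hx
    exact Submodule.subset_span ⟨_, hx, S.apply_symm_apply x⟩

theorem img_inf {S : V ≃+ V'} (hS : IsSS Q Q' S) (U W : Submodule K V) :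
    img K' S (U ⊓ W) = img K' S U ⊓ img K' S W := by
  ext x
  simp only [Submodule.mem_inf, mem_img hS]

theorem img_trans {S : V ≃+ V'} {T : V' ≃+ V''} (hS : IsSS Q Q' S) (hT : IsSS Q' Q'' T)
    (U : Submodule K V) : img K'' (S.trans T) U = img K'' T (img K' S U) := by
  ext x
  rw [mem_img (hS.trans hT), mem_img hT, mem_img hS]
  rfl

theorem finrank_img [Finite K] [FiniteDimensional K V] [FiniteDimensional K' V'] {S : V ≃+ V'}
    (hS : IsSS Q Q' S) (U : Submodule K V) : finrank K' (img K' S U) = finrank K U := by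
  obtain ⟨σ, -, -, -, -⟩ := id hS
  haveI : Finite K' := Finite.of_equiv K σ.toEquiv
  have e : ↥(img K' S U) ≃ ↥U :=
    { toFun := fun x => ⟨S.symm x.1, (mem_img hS).1 x.2⟩
      invFun := fun u => ⟨S u.1, (mem_img hS).2 (by rw [S.symm_apply_apply]; exact u.2)⟩
      left_inv := fun x => Subtype.ext (S.apply_symm_apply x.1)
      right_inv := fun u => Subtype.ext (S.symm_apply_apply u.1) }
  have h1 := Nat.card_congr e
  rw [Module.natCard_eq_pow_finrank (K := K') (V := ↥(img K' S U)),
    Module.natCard_eq_pow_finrank (K := K) (V := ↥U), ← Nat.card_congr σ.toEquiv] at h1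
  exact Nat.pow_right_injective Finite.one_lt_card h1

theorem finrank_space [Finite K] [FiniteDimensional K V] [FiniteDimensional K' V'] {S : V ≃+ V'}
    (hS : IsSS Q Q' S) : finrank K' V' = finrank K V := by
  have e : img K' S (⊤ : Submodule K V) = ⊤ := by ext x; simp [mem_img hS]
  have := finrank_img hS (⊤ : Submodule K V)
  rwa [e, finrank_top, finrank_top] at this

theorem lagr_img [Finite K] [FiniteDimensional K V] [FiniteDimensional K' V'] {S : V ≃+ V'}
    (hS : IsSS Q Q' S) {U : Submodule K V} (hU : Lagr Q U) : Lagr Q' (img K' S U) := by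
  refine ⟨fun x hx => ?_, by rw [finrank_img hS, finrank_space hS]; exact hU.2⟩
  have hx' := hU.1 _ ((mem_img hS).1 hx)
  obtain ⟨σ, μ, -, -, hq⟩ := hS
  rw [← S.apply_symm_apply x, hq, hx', map_zero, mul_zero]

/-- The two subspaces are of the same class. -/
def Par (U W : Submodule K V) : Prop := Even (finrank K U + finrank K ↥(U ⊓ W))

theorem par_self (U : Submodule K V) : Par U U := by
  rw [Par, inf_idem]; exact ⟨_, rfl⟩

theorem Par.symm_iff [FiniteDimensional K V] {U W : Submodule K V} (hU : Lagr Q U)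
    (hW : Lagr Q W) : Par U W ↔ Par W U := by
  have := hU.2
  have := hW.2
  rw [Par, Par, inf_comm, show finrank K U = finrank K W by omega]

theorem sameParityClass_iff {ι : Type} {U W : Submodule K (ι → K)} [Fintype ι] :
    Cfsg.SameParityClass U W ↔ Par U W := by
  rw [Cfsg.SameParityClass, Nat.even_sub (Submodule.finrank_mono inf_le_left), Par, Nat.even_add]

theorem par_img [Finite K] [FiniteDimensional K V] [FiniteDimensional K' V'] {S : V ≃+ V'}
    (hS : IsSS Q Q' S) (U W : Submodule K V) : Par (img K' S U) (img K' S W) ↔ Par U W := by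
  rw [Par, Par, ← img_inf hS, finrank_img hS, finrank_img hS]

section Classes

variable [Fintype K] [FiniteDimensional K V]

/-- The hypotheses making the classes an equivalence relation. -/
structure Hyp (Q : QuadraticForm K V) : Prop where
  nd : (polarBilin Q).Nondegenerate
  exc : Fintype.card K ≠ 2 ∨ finrank K V ≠ 4

variable (hQ : Hyp Q)

include hQ

theorem par_trans {U W X : Submodule K V} (hU : Lagr Q U) (hW : Lagr Q W) (hX : Lagr Q X) :
    Par U X ↔ (Par U W ↔ Par W X) := by
  obtain ⟨k, hk⟩ := OrthUnitarySimClasses.exists_map_lagr hQ.nd hW hX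
  obtain ⟨vs, hns, rfl⟩ := exists_rprod (reflGroup_top hQ.nd hQ.exc) k
  have h1 := parity_rprod hQ.nd hU hW hns
  have h2 := parity_rprod hQ.nd hW hW hns
  rw [hk] at h1 h2
  rw [inf_idem] at h2
  have := hU.2
  have := hW.2
  simp only [Par, Nat.even_iff] at h1 h2 ⊢
  omega

/-- A semisimilarity of the space keeps both classes. -/
def Keeps (Q : QuadraticForm K V) (S : V ≃+ V) : Prop := ∀ U, Lagr Q U → Par U (img K S U)

omit hQ in
theorem keeps_congr {S T : V ≃+ V} (h : ∀ v, S v = T v) : Keeps Q S ↔ Keeps Q T := by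
  rw [AddEquiv.ext h]

theorem keeps_iff {S : V ≃+ V} (hS : IsSS Q Q S) {U₀ : Submodule K V} (hU₀ : Lagr Q U₀) :
    Keeps Q S ↔ Par U₀ (img K S U₀) := by
  refine ⟨fun h => h _ hU₀, fun h U hU => ?_⟩
  rw [par_trans hQ hU hU₀ (lagr_img hS hU),
    par_trans hQ hU₀ (lagr_img hS hU₀) (lagr_img hS hU), par_img hS,
    Par.symm_iff hU₀ hU]
  tauto

theorem keeps_trans {S T : V ≃+ V} (hS : IsSS Q Q S) (hT : IsSS Q Q T) {U₀ : Submodule K V}
    (hU₀ : Lagr Q U₀) : Keeps Q (S.trans T) ↔ (Keeps Q S ↔ Keeps Q T) := by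
  rw [keeps_iff hQ (hS.trans hT) hU₀, keeps_iff hQ hS hU₀, keeps_iff hQ hT (lagr_img hS hU₀),
    img_trans hS hT]
  exact par_trans hQ hU₀ (lagr_img hS hU₀) (lagr_img hT (lagr_img hS hU₀))

theorem keeps_of_fixed {S : V ≃+ V} (hS : IsSS Q Q S) {U₀ : Submodule K V} (hU₀ : Lagr Q U₀)
    (h : ∀ u ∈ U₀, S u ∈ U₀) : Keeps Q S := by
  rw [keeps_iff hQ hS hU₀]
  have e : img K S U₀ = U₀ := by
    refine Submodule.eq_of_le_of_finrank_eq (Submodule.span_le.2 ?_) (finrank_img hS U₀)
    rintro _ ⟨u, hu, rfl⟩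
    exact h u hu
  rw [e]
  exact par_self U₀

/-- Conjugate maps keep the classes together. -/
theorem keeps_intertwine [Fintype K'] [FiniteDimensional K' V'] (hQ' : Hyp Q') {S : V ≃+ V'}
    (hS : IsSS Q Q' S) {A : V ≃+ V} {A' : V' ≃+ V'} (hA : IsSS Q Q A) (hA' : IsSS Q' Q' A')
    (h : ∀ v, S (A v) = A' (S v)) {U₀ : Submodule K V} (hU₀ : Lagr Q U₀) :
    Keeps Q A ↔ Keeps Q' A' := by
  rw [keeps_iff hQ hA hU₀, keeps_iff hQ' hA' (lagr_img hS hU₀), ← img_trans hS hA',
    show S.trans A' = A.trans S from AddEquiv.ext fun v => (h v).symm, img_trans hA hS,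
    par_img hS]

theorem not_keeps_refl {v : V} (hv : Q v ≠ 0) {S : V ≃+ V}
    (h : ∀ x, S x = (refl Q v hv).1 x) {U₀ : Submodule K V} (hU₀ : Lagr Q U₀) : ¬ Keeps Q S := by
  intro hk
  have e : img K S U₀ = U₀.map ((refl Q v hv).1 : V →ₗ[K] V) := by
    refine le_antisymm (Submodule.span_le.2 ?_) ?_
    · rintro _ ⟨u, hu, rfl⟩
      exact ⟨u, hu, (h u).symm⟩
    · rintro _ ⟨u, hu, rfl⟩
      exact Submodule.subset_span ⟨u, hu, h u⟩
  have h1 := hk U₀ hU₀
  have h2 := parity_step hQ.nd hU₀ hU₀ hv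
  rw [Par, e] at h1
  rw [inf_idem] at h2
  rw [Nat.even_iff] at h1
  rw [Nat.odd_iff] at h2
  omega

end Classes

end Cfsg.Agent.AutOrth45Parity
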