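import Mathlib
import Cfsg.Agent.Lib.AutOrth45Api
import Cfsg.Agent.Lib.AutOrth45Parity
import Cfsg.Agent.Lib.GaloisDescentGL

/-!
Descent of a quadratic form along a semisimilarity of finite order.
-/

set_option autoImplicit false
set_option linter.unusedSectionVars false

namespace Cfsg.Agent.AutOrth45Descent

open QuadraticMap Module
open scoped Matrix MatrixGroups
open Cfsg.Agent.OrthUnitarySimAut
open Cfsg.Agent.AutOrth45Api
open Cfsg.Agent.OmegaClasses
open Cfsg.Agent.AutOrth45Parity

variable {ι : Type} [Fintype ι] [DecidableEq ι] {F : Type*} [Field F]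

/-- Two forms agreeing on the sums of two standard vectors are equal. -/
theorem form_ext' (R R' : QuadraticForm F (ι → F))
    (h1 : ∀ i, R (Pi.single i 1) = R' (Pi.single i 1))
    (hadd : ∀ i j, R (Pi.single i 1 + Pi.single j 1) = R' (Pi.single i 1 + Pi.single j 1)) :
    R = R' := by
  classical
  have hb : polarBilin R = polarBilin R' := LinearMap.BilinForm.ext_basis (Pi.basisFun F ι)
    fun i j => by simp [Pi.basisFun_apply, polar, h1, hadd]
  refine QuadraticMap.ext fun v => ?_
  rw [← Finset.univ_sum_single v]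
  induction (Finset.univ : Finset ι) using Finset.induction_on with
  | empty => simp
  | insert j s hj ih =>
    rw [Finset.sum_insert hj, QuadraticMap.map_add (⇑R), QuadraticMap.map_add (⇑R'), ih,
      show polar R (Pi.single j (v j)) (∑ i ∈ s, Pi.single i (v i)) =
        polar R' (Pi.single j (v j)) (∑ i ∈ s, Pi.single i (v i)) from
          LinearMap.congr_fun₂ hb _ _,
      show (Pi.single j (v j) : ι → F) = v j • Pi.single j 1 by
        rw [← Pi.single_smul, smul_eq_mul, mul_one],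
      QuadraticMap.map_smul, QuadraticMap.map_smul, h1]

/-- The fixed field. -/
abbrev fixF (σ : F ≃+* F) : Subfield F := (σ : F →+* F).eqLocusField (RingHom.id F)

theorem mem_fixF {σ : F ≃+* F} {x : F} : x ∈ fixF σ ↔ σ x = x := Iff.rfl

/-- The inclusion of the points over the fixed field. -/
def incl (σ : F ≃+* F) (w : ι → fixF σ) : ι → F := fun i => (w i : F)

theorem incl_fixed (σ : F ≃+* F) (w : ι → fixF σ) : (fun i => σ (incl σ w i)) = incl σ w :=
  funext fun i => (w i).2

theorem incl_add (σ : F ≃+* F) (v w : ι → fixF σ) : incl σ (v + w) = incl σ v + incl σ w := rfl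

theorem incl_smul (σ : F ≃+* F) (c : fixF σ) (w : ι → fixF σ) :
    incl σ (c • w) = (c : F) • incl σ w := rfl

theorem incl_single (σ : F ≃+* F) (i : ι) :
    incl σ (Pi.single i 1) = (Pi.single i 1 : ι → F) := by
  funext l
  rcases eq_or_ne l i with rfl | hl
  · simp [incl]
  · simp [incl, Pi.single_eq_of_ne hl]

theorem incl_injective (σ : F ≃+* F) : Function.Injective (incl (ι := ι) σ) :=
  fun _ _ h => funext fun i => Subtype.ext (congrFun h i)

/-- A semilinear map of finite order is conjugate to the coordinatewise one. -/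
theorem exists_base [Finite F] (σ : F ≃+* F) (g : GL ι F)
    (h : ∀ v, (semi g σ)^[orderOf σ] v = v) :
    ∃ B : GL ι F, ∀ v, semi g σ (B.1 *ᵥ v) = B.1 *ᵥ (fun i => σ (v i)) := by
  classical
  let e := Fintype.equivFin ι
  let E : GL ι F ≃* GL (Fin (Fintype.card ι)) F :=
    Units.mapEquiv (Matrix.reindexAlgEquiv F F e).toMulEquiv
  have hE : ∀ k, GaloisDescentGL.gmap σ (E k) =
      E (Matrix.GeneralLinearGroup.map (σ : F →+* F) k) := fun k => Units.ext (by ext i j; rfl)
  have hsc : Function.Semiconj (fun v : ι → F => v ∘ e.symm) (semi g σ)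
      (GaloisDescentGL.slin σ (E g)) := fun v => by
    funext i
    simp only [GaloisDescentGL.slin, semi_apply, Function.comp_apply, E, Units.coe_mapEquiv,
      Matrix.mulVec, dotProduct]
    exact (Equiv.sum_comp e.symm fun j => (g : GL ι F).1 (e.symm i) j * σ (v j)).symm
  have hN : GaloisDescentGL.ntw σ (E g) (orderOf σ) = 1 := by
    refine Units.ext (Matrix.ext_iff_mulVec.2 fun w => ?_)
    obtain ⟨v, rfl⟩ : ∃ v : ι → F, v ∘ e.symm = w := ⟨w ∘ e, by ext; simp⟩
    have h1 := GaloisDescentGL.slin_iterate σ (E g) (orderOf σ) (v ∘ e.symm)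
    rw [← hsc.iterate_right (orderOf σ) v, h, pow_orderOf_eq_one] at h1
    rw [Units.val_one, Matrix.one_mulVec]
    exact h1.symm
  obtain ⟨b, hb⟩ := GaloisDescentGL.hilbert90 σ (E g) hN
  refine ⟨E.symm b, fun v => ?_⟩
  have hgb : g * Matrix.GeneralLinearGroup.map (σ : F →+* F) (E.symm b) = E.symm b :=
    E.injective (by rw [map_mul, ← hE, E.apply_symm_apply, hb, inv_mul_cancel_right])
  conv_rhs => rw [← hgb, Units.val_mul, ← Matrix.mulVec_mulVec]
  rw [semi_apply]
  exact congrArg _ (map_mulVec_comp σ _ v).symm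

variable {Q : QuadraticForm F (ι → F)}

/-- A descent of the form along a semisimilarity. -/
structure Desc (Q : QuadraticForm F (ι → F)) (σ : F ≃+* F) (g B : GL ι F) (y : F)
    (q : QuadraticForm (fixF σ) (ι → fixF σ)) : Prop where
  base : ∀ v, semi g σ (B.1 *ᵥ v) = B.1 *ᵥ (fun i => σ (v i))
  y_ne : y ≠ 0
  val : ∀ w, Q (B.1 *ᵥ incl σ w) = y * (q w : F)
  nd : (polarBilin q).Nondegenerate

/-- Existence of descents. -/
theorem exists_desc [Finite F] (hnd : (polarBilin Q).Nondegenerate) (hne : ∃ v, Q v ≠ 0)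
    (σ : F ≃+* F) (g : GL ι F) {μ : F} (hμ : ∀ v, Q (semi g σ v) = μ * σ (Q v)) (hμ0 : μ ≠ 0)
    (h : ∀ v, (semi g σ)^[orderOf σ] v = v) : ∃ B y q, Desc Q σ g B y q := by
  obtain ⟨B, hB⟩ := exists_base σ g h
  have hit : ∀ k v, Q ((semi g σ)^[k] v) =
      (∏ i ∈ Finset.range k, (σ ^ i) μ) * (σ ^ k) (Q v) := by
    intro k v
    induction k with
    | zero => simp
    | succ k ih =>
      rw [Function.iterate_succ_apply', hμ, ih, map_mul, map_prod, Finset.prod_range_succ' _ k]
      simp only [pow_succ', RingAut.mul_apply, pow_zero, RingAut.one_apply]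
      ring
  have hN : GaloisDescentGL.unorm σ (Units.mk0 μ hμ0) = 1 := by
    refine Units.ext ?_
    show ((∏ i ∈ Finset.range (orderOf σ), _ : Fˣ) : F) = 1
    rw [Units.coe_prod]
    obtain ⟨v, hv⟩ := hne
    have h1 := hit (orderOf σ) v
    rw [h, pow_orderOf_eq_one, RingAut.one_apply] at h1
    refine mul_right_cancel₀ hv ?_
    rw [one_mul]
    exact h1.symm
  obtain ⟨y, hy⟩ := GaloisDescentGL.hilbert90_units σ _ hN
  have hy' : μ * σ (y : F) = y := congrArg Units.val (eq_mul_inv_iff_mul_eq.1 hy)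
  set qd : QuadraticForm F (ι → F) := (y⁻¹ : Fˣ).1 • Q.comp (Matrix.mulVecLin B.1)
  have hqd : ∀ w, qd w = (y : F)⁻¹ * Q (B.1 *ᵥ w) := fun w => by simp [qd]
  have hfix : ∀ w : ι → fixF σ, qd (incl σ w) ∈ fixF σ := by
    intro w
    rw [mem_fixF, hqd, map_mul, map_inv₀]
    have e := hμ (B.1 *ᵥ incl σ w)
    rw [hB, incl_fixed] at e
    conv_rhs => rw [e, ← hy']
    field_simp
  let q : QuadraticForm (fixF σ) (ι → fixF σ) :=
    QuadraticMap.ofPolar (fun w => ⟨qd (incl σ w), hfix w⟩)
      (fun c w => Subtype.ext (by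
        show qd (incl σ (c • w)) = _
        rw [incl_smul, QuadraticMap.map_smul]
        rfl))
      (fun x x' z => Subtype.ext (by
        have e := polar_add_left qd (incl σ x) (incl σ x') (incl σ z)
        simp only [polar, ← incl_add] at e
        simpa [polar] using e))
      (fun c x z => Subtype.ext (by
        have e := polar_smul_left qd (c : F) (incl σ x) (incl σ z)
        simp only [polar, ← incl_smul, ← incl_add, smul_eq_mul] at e
        simpa [polar] using e))
  have hval : ∀ w, Q (B.1 *ᵥ incl σ w) = (y : F) * (q w : F) := fun w => by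
    show _ = (y : F) * qd (incl σ w)
    rw [hqd, mul_inv_cancel_left₀ y.ne_zero]
  refine ⟨B, y, q, hB, y.ne_zero, hval, ?_⟩
  have key : ∀ a, (∀ b, polar q a b = 0) → a = 0 := by
    intro a ha
    have h0 : (polarBilin Q (B.1 *ᵥ incl σ a)).comp (Matrix.mulVecLin B.1) = 0 := by
      refine (Pi.basisFun F ι).ext fun i => ?_
      have e := congrArg Subtype.val (ha (Pi.single i 1))
      simp only [polar] at e
      simp only [LinearMap.comp_apply, Matrix.mulVecLin_apply, Pi.basisFun_apply,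
        polarBilin_apply_apply, LinearMap.zero_apply, polar, ← incl_single σ i, ← Matrix.mulVec_add,
        ← incl_add, hval]
      push_cast at e
      linear_combination (y : F) * e
    have h1 : B.1 *ᵥ incl σ a = 0 := hnd.1 _ fun z => by
      obtain ⟨z', rfl⟩ : ∃ z', B.1 *ᵥ z' = z := Matrix.mulVec_surjective_iff_isUnit.2 B.isUnit z
      exact LinearMap.congr_fun h0 z'
    exact incl_injective σ (Matrix.mulVec_injective_iff_isUnit.2 B.isUnit (by
      rw [h1, show incl σ (0 : ι → fixF σ) = 0 from rfl, Matrix.mulVec_zero]))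
  exact ⟨fun a ha => key a ha, fun a ha => key a fun b => by rw [polar_comm]; exact ha b⟩

section Desc

variable {σ : F ≃+* F} {g B : GL ι F} {y : F} {q : QuadraticForm (fixF σ) (ι → fixF σ)}
  (D : Desc Q σ g B y q)

include D

theorem Desc.fixed (w : ι → fixF σ) : semi g σ (B.1 *ᵥ incl σ w) = B.1 *ᵥ incl σ w := by
  rw [D.base, incl_fixed]

theorem Desc.polar_val (v w : ι → fixF σ) :
    polar Q (B.1 *ᵥ incl σ v) (B.1 *ᵥ incl σ w) = y * ((polar (⇑q) v w : fixF σ) : F) := by
  simp only [polar, ← Matrix.mulVec_add, ← incl_add, D.val]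
  push_cast
  ring

theorem Desc.linearIndependent {κ : Type} [Fintype κ] {w : κ → ι → fixF σ}
    (hw : LinearIndependent (fixF σ) w) :
    LinearIndependent F fun l => B.1 *ᵥ incl σ (w l) := by
  classical
  obtain ⟨φ, hφ⟩ := LinearMap.exists_leftInverse_of_injective
    (Fintype.linearCombination (fixF σ) w) (LinearMap.ker_eq_bot.2
      (linearIndependent_iff_injective_fintypeLinearCombination.1 hw))
  have hφl : ∀ l, φ (w l) = Pi.single l 1 := fun l => by
    have := LinearMap.congr_fun hφ (Pi.single l 1)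
    rwa [LinearMap.comp_apply, Fintype.linearCombination_apply_single, one_smul,
      LinearMap.id_apply] at this
  set A := (LinearMap.toMatrix' φ).map (fixF σ).subtype
  have hA : ∀ l, A *ᵥ incl σ (w l) = Pi.single l 1 := fun l => by
    have e := hφl l
    rw [← LinearMap.toMatrix'_mulVec φ] at e
    funext i
    have ei := congrArg (fixF σ).subtype (congrFun e i)
    rw [RingHom.map_mulVec] at ei
    refine ei.trans ?_
    rcases eq_or_ne i l with rfl | hil
    · simp
    · simp [Pi.single_eq_of_ne hil]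
  refine LinearIndependent.of_comp (Matrix.mulVecLin (A * (B⁻¹ : GL ι F).1)) ?_
  have e : (Matrix.mulVecLin (A * (B⁻¹ : GL ι F).1)) ∘ (fun l => B.1 *ᵥ incl σ (w l)) =
      fun l => Pi.single l 1 := by
    funext l
    simp only [Function.comp_apply, Matrix.mulVecLin_apply, Matrix.mulVec_mulVec, Matrix.mul_assoc,
      ← Units.val_mul, inv_mul_cancel, Units.val_one, Matrix.mul_one]
    exact hA l
  rw [e]
  exact Pi.linearIndependent_single_one κ F

theorem Desc.hyp {k : ℕ} {e f : Fin k → ι → fixF σ} (H : QuadClassify.Hyp q e f) :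
    QuadClassify.Hyp Q (fun i => B.1 *ᵥ incl σ (e i)) (fun i => y⁻¹ • (B.1 *ᵥ incl σ (f i))) := by
  refine ⟨fun i => ?_, fun i => ?_, fun i j => ?_, fun i j => ?_, fun i j => ?_⟩
  · simp [D.val, H.qe]
  · simp [QuadraticMap.map_smul, D.val, H.qf]
  · rw [polar_smul_right, D.polar_val, H.pef, smul_eq_mul]
    split_ifs with hij
    · rw [OneMemClass.coe_one, mul_one, inv_mul_cancel₀ D.y_ne]
    · simp
  · simp [D.polar_val, H.pee]
  · simp [polar_smul_right, polar_smul_left, D.polar_val, H.pff]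

end Desc

/-- Descended forms which are similar give conjugate semisimilarities. -/
theorem exists_sim_of_similar {σ : F ≃+* F} {g B g₀ B₀ : GL ι F} {y y₀ : F}
    {q q₀ : QuadraticForm (fixF σ) (ι → fixF σ)} (D : Desc Q σ g B y q)
    (D₀ : Desc Q σ g₀ B₀ y₀ q₀) (L : (ι → fixF σ) ≃ₗ[fixF σ] (ι → fixF σ)) {l : fixF σ}
    (hl : l ≠ 0) (hL : ∀ w, q (L w) = l * q₀ w) :
    ∃ b : Sim Q, ∀ v, semi g σ ((b : GL ι F).1 *ᵥ v) = (b : GL ι F).1 *ᵥ semi g₀ σ v := by
  set T : GL ι (fixF σ) := Matrix.GeneralLinearGroup.toLin.symm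
    ((LinearMap.GeneralLinearGroup.generalLinearEquiv (fixF σ) (ι → fixF σ)).symm L)
  have hT : ∀ w, T.1 *ᵥ w = L w := fun w => by
    have := Matrix.GeneralLinearGroup.toLin_apply T w
    rw [MulEquiv.apply_symm_apply] at this
    exact this.symm
  set TF : GL ι F := Matrix.GeneralLinearGroup.map (fixF σ).subtype T
  have hTF : ∀ w, TF.1 *ᵥ incl σ w = incl σ (L w) := fun w => by
    funext i
    rw [← hT]
    exact ((fixF σ).subtype.map_mulVec T.1 w i).symm
  set b : GL ι F := B * TF * B₀⁻¹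
  have hb : ∀ w, b.1 *ᵥ (B₀.1 *ᵥ w) = B.1 *ᵥ (TF.1 *ᵥ w) := fun w => by
    rw [Matrix.mulVec_mulVec, ← Units.val_mul, inv_mul_cancel_right, Units.val_mul,
      ← Matrix.mulVec_mulVec]
  have hfix : TF.1.map σ = TF.1 := Matrix.ext fun i j => (T.1 i j).2
  have hform : Q.comp (Matrix.mulVecLin (b * B₀).1) =
      (y * (l : F) / y₀) • Q.comp (Matrix.mulVecLin B₀.1) := by
    have h0 : ∀ w : ι → fixF σ, Q ((b * B₀).1 *ᵥ incl σ w) =
        (y * (l : F) / y₀) * Q (B₀.1 *ᵥ incl σ w) := fun w => by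
      rw [Units.val_mul, ← Matrix.mulVec_mulVec, hb, hTF, D.val, D₀.val, hL]
      push_cast
      field_simp [D₀.y_ne]
    refine form_ext' _ _ (fun i => ?_) (fun i j => ?_) <;>
      simp only [QuadraticMap.comp_apply, Matrix.mulVecLin_apply, QuadraticMap.smul_apply,
        smul_eq_mul, ← incl_single σ, ← incl_add] <;> exact h0 _
  have hsim : b ∈ Sim Q := ⟨Units.mk0 (y * (l : F) / y₀)
      (div_ne_zero (mul_ne_zero D.y_ne (by exact_mod_cast hl)) D₀.y_ne), fun v => by
    obtain ⟨w, rfl⟩ : ∃ w, B₀.1 *ᵥ w = v := Matrix.mulVec_surjective_iff_isUnit.2 B₀.isUnit v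
    have := QuadraticMap.congr_fun hform w
    simpa [Matrix.mulVec_mulVec] using this⟩
  refine ⟨⟨b, hsim⟩, fun v => ?_⟩
  obtain ⟨w, rfl⟩ : ∃ w, B₀.1 *ᵥ w = v := Matrix.mulVec_surjective_iff_isUnit.2 B₀.isUnit v
  rw [D₀.base]
  show semi g σ (b.1 *ᵥ (B₀.1 *ᵥ w)) = b.1 *ᵥ (B₀.1 *ᵥ _)
  rw [hb, hb, D.base, ← map_mulVec_comp, hfix]

end Cfsg.Agent.AutOrth45Descent
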