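import Mathlib
import Cfsg.Agent.Lib.AutOrth45Descent
import Cfsg.Agent.Lib.OmegaGeo

/-!
The type of a descended form, read off from the action on the two classes of maximal totally
singular subspaces.
-/

set_option autoImplicit false
set_option linter.unusedSectionVars false

namespace Cfsg.Agent.AutOrth45Types

open QuadraticMap Module
open scoped Matrix MatrixGroups
open Cfsg.Agent.OrthUnitarySimAut
open Cfsg.Agent.AutOrth45Api
open Cfsg.Agent.OmegaClasses
open Cfsg.Agent.AutOrth45Parity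
open Cfsg.Agent.AutOrth45Descent

variable {ι : Type} [Fintype ι] [DecidableEq ι] {F : Type*} [Field F] [Fintype F]
  {Q : QuadraticForm F (ι → F)} {σ : F ≃+* F} {g B g₀ B₀ : GL ι F} {y y₀ : F}
  {q q₀ : QuadraticForm (fixF σ) (ι → fixF σ)}

/-- The descended form has `M` hyperbolic pairs. -/
def Split (M : ℕ) (q : QuadraticForm (fixF σ) (ι → fixF σ)) : Prop :=
  ∃ e f : Fin M → (ι → fixF σ), QuadClassify.Hyp q e f

theorem semi_smul (g : GL ι F) (σ : F ≃+* F) (c : F) (v : ι → F) :
    semi g σ (c • v) = σ c • semi g σ v := by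
  rw [semi_apply, semi_apply, comp_smul, Matrix.mulVec_smul]

theorem isSS_semi {g : GL ι F} {σ : F ≃+* F} (hp : IsSemisimilarityPair ⇑Q g σ) :
    IsSS Q Q (semi g σ) := by
  obtain ⟨c, hc⟩ := hp
  exact ⟨σ, c, c.ne_zero, semi_smul g σ, fun v => hc v⟩

section Hyp

variable {k : ℕ} {e f : Fin k → ι → F}

theorem sing_span (H : QuadClassify.Hyp Q e f) :
    ∀ u ∈ Submodule.span F (Set.range e), Q u = 0 := by
  intro u hu
  obtain ⟨a, rfl⟩ := (Submodule.mem_span_range_iff_exists_fun F).1 hu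
  simpa using H.value 0 (fun i => by simp) (fun i => by simp) a 0

theorem finrank_span (H : QuadClassify.Hyp Q e f) :
    finrank F (Submodule.span F (Set.range e)) = k := by
  have h1 := H.linearIndependent (z := Fin.elim0) linearIndependent_empty_type
    (fun _ l => l.elim0) (fun _ l => l.elim0)
  have h2 : LinearIndependent F e := h1.comp (fun i => Sum.inl (Sum.inl i))
    (fun a b h => by simpa using h)
  rw [finrank_span_eq_card h2, Fintype.card_fin]

end Hyp

section Even

variable (D : Desc Q σ g B y q) {M : ℕ}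

include D

theorem semi_span {k : ℕ} (e : Fin k → ι → fixF σ) :
    ∀ u ∈ Submodule.span F (Set.range fun i => B.1 *ᵥ incl σ (e i)),
      semi g σ u ∈ Submodule.span F (Set.range fun i => B.1 *ᵥ incl σ (e i)) := by
  intro u hu
  obtain ⟨a, rfl⟩ := (Submodule.mem_span_range_iff_exists_fun F).1 hu
  rw [map_sum]
  refine Submodule.sum_mem _ fun i _ => ?_
  rw [semi_smul, D.fixed]
  exact Submodule.smul_mem _ _ (Submodule.subset_span ⟨i, rfl⟩)

/-- A split descended form gives a fixed maximal totally singular subspace. -/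
theorem exists_fixed_lagr (hcard : Fintype.card ι = 2 * M) (hs : Split M q) :
    ∃ U, Lagr Q U ∧ ∀ u ∈ U, semi g σ u ∈ U := by
  obtain ⟨e, f, H⟩ := hs
  refine ⟨_, ⟨sing_span (D.hyp H), ?_⟩, semi_span D e⟩
  rw [finrank_span (D.hyp H), finrank_pi, hcard]

/-- Without a maximal totally singular subspace the descended form does not split. -/
theorem not_split (hcard : Fintype.card ι = 2 * M) (h : ∀ U, ¬ Lagr Q U) : ¬ Split M q :=
  fun hs => (exists_fixed_lagr D hcard hs).elim fun U hU => h U hU.1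

theorem decomp_plane (hcard : Fintype.card ι = 2 * M) (hs : ¬ Split M q) :
    ∃ (k : ℕ) (e f : Fin k → ι → fixF σ) (W : Submodule (fixF σ) (ι → fixF σ)),
      QuadClassify.Decomp q ⊤ k e f W ∧ finrank (fixF σ) W = 2 ∧ k + 1 = M := by
  obtain ⟨k, e, f, W, hd, hW⟩ := QuadClassify.exists_decomp q D.nd
  have h1 := hd.2.2.2.2.2.1
  rw [finrank_top, finrank_pi, hcard] at h1
  refine ⟨k, e, f, W, hd, ?_⟩
  by_contra hne
  refine hs ?_
  obtain rfl : k = M := by omega
  exact ⟨e, f, hd.1⟩

/-- The descended form splits exactly when the semisimilarity keeps both classes. -/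
theorem split_iff (hQ : Hyp Q) (hp : IsSemisimilarityPair ⇑Q g σ)
    (hcard : Fintype.card ι = 2 * M) {U₀ : Submodule F (ι → F)} (hU₀ : Lagr Q U₀) :
    Split M q ↔ Keeps Q (semi g σ) := by
  have hS := isSS_semi hp
  constructor
  · intro hs
    obtain ⟨U, hU, hfix⟩ := exists_fixed_lagr D hcard hs
    exact keeps_of_fixed hQ hS hU hfix
  intro hk
  by_contra hs
  obtain ⟨k, e, f, W, hd, hW2, hkM⟩ := decomp_plane D hcard hs
  obtain ⟨H, -, -, -, horth, -, han, -⟩ := hd
  set w : Fin 2 → ι → fixF σ := fun l => (finBasisOfFinrankEq (fixF σ) W hW2 l).1 with hw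
  have hwW : ∀ l, w l ∈ W := fun l => (finBasisOfFinrankEq (fixF σ) W hW2 l).2
  have hwli : LinearIndependent (fixF σ) w :=
    (finBasisOfFinrankEq (fixF σ) W hW2).linearIndependent.map' W.subtype (Submodule.ker_subtype W)
  have H' := D.hyp H
  set e' : Fin k → ι → F := fun i => B.1 *ᵥ incl σ (e i) with he'
  set w' : Fin 2 → ι → F := fun l => B.1 *ᵥ incl σ (w l) with hw'
  have hew : ∀ i l, polar Q (e' i) (w' l) = 0 := fun i l => by
    rw [he', hw', D.polar_val, (horth i _ (hwW l)).1]; simp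
  have hli : LinearIndependent F (Sum.elim e' w') := by
    have h1 := H'.linearIndependent (z := w') (D.linearIndependent hwli) hew fun i l => by
      rw [polar_smul_left, hw', D.polar_val, (horth i _ (hwW l)).2]; simp
    have h2 := h1.comp (Sum.map Sum.inl id) (Sum.map_injective.2 ⟨Sum.inl_injective, fun _ _ h => h⟩)
    have e3 : Sum.elim (Sum.elim e' fun i => y⁻¹ • (B.1 *ᵥ incl σ (f i))) w' ∘ Sum.map Sum.inl id =
        Sum.elim e' w' := by
      funext i
      rcases i with i | i <;> rfl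
    rwa [e3] at h2
  set E := Submodule.span F (Set.range e') with hE
  set P := Submodule.span F (Set.range (Sum.elim e' w')) with hP
  have hEs := sing_span H'
  have hEr : finrank F E = k := finrank_span H'
  have hfr : finrank F (ι → F) = 2 * M := by rw [finrank_pi, hcard]
  set U := E ⊔ U₀ ⊓ LinearMap.BilinForm.orthogonal (polarBilin Q) E with hUdef
  have hU : Lagr Q U := OmegaGeo.lagr_extend hQ.nd hU₀ hEs
  have hEU : E ≤ U := le_sup_left
  have hUr : finrank F U = k + 1 := by have := hU.2; omega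
  have hPE : P ≤ LinearMap.BilinForm.orthogonal (polarBilin Q) E := by
    rw [hP, Submodule.span_le]
    rintro _ ⟨i, rfl⟩ n hn
    obtain ⟨a, rfl⟩ := (Submodule.mem_span_range_iff_exists_fun F).1 hn
    show polarBilin Q (∑ j, a j • e' j) (Sum.elim e' w' i) = 0
    rw [map_sum, LinearMap.sum_apply]
    refine Finset.sum_eq_zero fun j _ => ?_
    rw [map_smul, LinearMap.smul_apply, polarBilin_apply_apply]
    rcases i with i | i
    · rw [Sum.elim_inl, H'.pee, smul_zero]
    · rw [Sum.elim_inr, hew, smul_zero]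
  have hP' : P = LinearMap.BilinForm.orthogonal (polarBilin Q) E := by
    refine Submodule.eq_of_le_of_finrank_le hPE ?_
    have h1 := LinearMap.BilinForm.finrank_orthogonal (B := polarBilin Q) hQ.nd E
    rw [hP, finrank_span_eq_card hli]
    simp only [Fintype.card_sum, Fintype.card_fin]
    omega
  obtain ⟨u, huU, huE⟩ : ∃ u ∈ U, u ∉ E := by
    refine SetLike.not_le_iff_exists.1 fun hle => ?_
    have := Submodule.finrank_mono hle
    omega
  have huP : u ∈ P := hP' ▸ fun n hn => polar_of_sing hU.1 (hEU hn) huU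
  obtain ⟨a, ha⟩ := (Submodule.mem_span_range_iff_exists_fun F).1 huP
  rw [Fintype.sum_sum_type] at ha
  simp only [Sum.elim_inl, Sum.elim_inr, Fin.sum_univ_two] at ha
  set s := a (Sum.inr 0)
  set t := a (Sum.inr 1)
  have hsum : (∑ i, a (Sum.inl i) • e' i) ∈ E :=
    Submodule.sum_mem _ fun i _ => Submodule.smul_mem _ _ (Submodule.subset_span ⟨i, rfl⟩)
  have hst : s • w' 0 + t • w' 1 ∈ U := by
    have := U.sub_mem huU (hEU hsum)
    rw [← ha] at this
    simpa using this
  have hst0 : s ≠ 0 ∨ t ≠ 0 := by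
    by_contra h
    push Not at h
    rw [h.1, h.2, zero_smul, zero_smul, add_zero, add_zero] at ha
    exact huE (ha ▸ hsum)
  have hTU : img F (semi g σ) U = U := by
    have h1 : E ≤ U ⊓ img F (semi g σ) U := by
      refine le_inf hEU fun v hv => ?_
      have h2 : img F (semi g σ) E = E := by
        refine Submodule.eq_of_le_of_finrank_eq (Submodule.span_le.2 ?_) (finrank_img hS E)
        rintro _ ⟨x, hx, rfl⟩
        exact semi_span D e x hx
      rw [← h2] at hv
      exact (mem_img hS).2 (hEU ((mem_img hS).1 hv))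
    have h2 := Submodule.finrank_mono h1
    have h3 := Submodule.finrank_mono (inf_le_left : U ⊓ img F (semi g σ) U ≤ U)
    have h4 := hk U hU
    rw [Par, Nat.even_iff] at h4
    have h5 : U ⊓ img F (semi g σ) U = U :=
      Submodule.eq_of_le_of_finrank_le inf_le_left (by omega)
    exact (Submodule.eq_of_le_of_finrank_eq (inf_eq_left.1 h5) (finrank_img hS U).symm).symm
  have hT : ∀ v ∈ U, semi g σ v ∈ U := fun v hv => by
    have h1 : semi g σ v ∈ img F (semi g σ) U := Submodule.subset_span ⟨v, hv, rfl⟩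
    rwa [hTU] at h1
  have hline : ∀ z ∈ W, z ≠ 0 → B.1 *ᵥ incl σ z ∉ U := fun z hz hz0 hzU => by
    have h1 := hU.1 _ hzU
    rw [D.val, mul_eq_zero] at h1
    exact hz0 (han z hz (Subtype.ext (h1.resolve_left D.y_ne)))
  have h1U : w' 1 ∉ U := hline _ (hwW 1) (hwli.ne_zero 1)
  by_cases hs0 : s = 0
  · refine h1U ?_
    rw [hs0, zero_smul, zero_add] at hst
    have := U.smul_mem t⁻¹ hst
    rwa [inv_smul_smul₀ (hst0.resolve_left (fun h => h hs0))] at this
  set c := t / s
  have hc : w' 0 + c • w' 1 ∈ U := by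
    have := U.smul_mem s⁻¹ hst
    rwa [smul_add, inv_smul_smul₀ hs0, smul_smul, mul_comm, ← div_eq_mul_inv] at this
  have hd : (σ c - c) • w' 1 ∈ U := by
    have := U.sub_mem (hT _ hc) hc
    rwa [map_add, semi_smul, hw', D.fixed, D.fixed, add_sub_add_left_eq_sub, ← sub_smul] at this
  by_cases hcfix : σ c = c
  · refine hline (w 0 + (⟨c, hcfix⟩ : fixF σ) • w 1) (W.add_mem (hwW 0) (W.smul_mem _ (hwW 1))) ?_ ?_
    · intro h0
      have h2 := Fintype.linearIndependent_iff.1 hwli ![1, ⟨c, hcfix⟩] (by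
        rw [Fin.sum_univ_two]; simpa using h0) 0
      simp at h2
    · rw [incl_add, incl_smul, Matrix.mulVec_add, Matrix.mulVec_smul]
      exact hc
  · refine h1U ?_
    have := U.smul_mem (σ c - c)⁻¹ hd
    rwa [inv_smul_smul₀ (sub_ne_zero.2 hcfix)] at this

/-- Two descended forms in even dimension which split together are isometric. -/
theorem similar_even (D₀ : Desc Q σ g₀ B₀ y₀ q₀) (hcard : Fintype.card ι = 2 * M)
    (h : Split M q ↔ Split M q₀) :
    ∃ L : (ι → fixF σ) ≃ₗ[fixF σ] (ι → fixF σ), ∀ w, q (L w) = q₀ w := by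
  by_cases hs : Split M q
  · obtain ⟨e, f, H⟩ := hs
    obtain ⟨e₀, f₀, H₀⟩ := h.1 ⟨e, f, H⟩
    obtain ⟨a, ha⟩ := QuadClassify.iso_plus q H (by rw [finrank_pi, hcard])
    obtain ⟨b, hb⟩ := QuadClassify.iso_plus q₀ H₀ (by rw [finrank_pi, hcard])
    exact ⟨b.trans a.symm, fun w => by
      rw [← ha, LinearEquiv.trans_apply, a.apply_symm_apply, hb]⟩
  · obtain ⟨k, e, f, W, hd, hW, hk⟩ := decomp_plane D hcard hs
    obtain ⟨k₀, e₀, f₀, W₀, hd₀, hW₀, hk₀⟩ := decomp_plane D₀ hcard (fun h₀ => hs (h.2 h₀))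
    obtain rfl : k₀ = k := by omega
    exact QuadClassify.iso_of_decomp q₀ q hd₀ hd (hW.trans hW₀.symm) (Or.inr hW₀)

omit [Fintype F] in
theorem decomp_line [Finite F] (hodd : Odd (Fintype.card ι)) :
    ∃ (k : ℕ) (b : Basis ((Fin k ⊕ Fin k) ⊕ Fin 1) (fixF σ) (ι → fixF σ)) (c : fixF σ), c ≠ 0 ∧
      Fintype.card ι = 2 * k + 1 ∧ ∀ v, q v =
        (∑ i, b.repr v (.inl (.inl i)) * b.repr v (.inl (.inr i))) +
          c * (b.repr v (.inr 0) * b.repr v (.inr 0)) := by
  obtain ⟨k, e, f, W, hd, hW⟩ := QuadClassify.exists_decomp q D.nd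
  obtain ⟨H, -, -, -, horth, h1, han, -⟩ := hd
  rw [finrank_top, finrank_pi] at h1
  obtain ⟨j, hj⟩ := hodd
  have hW1 : finrank (fixF σ) W = 1 := by omega
  set z := finBasisOfFinrankEq (fixF σ) W hW1
  have hzli : LinearIndependent (fixF σ) fun l => (z l : ι → fixF σ) :=
    z.linearIndependent.map' W.subtype (Submodule.ker_subtype W)
  obtain ⟨b, -, -, -, hval⟩ := H.exists_basis hzli (fun i l => (horth i _ (z l).2).1)
    (fun i l => (horth i _ (z l).2).2) (by rw [finrank_pi, Fintype.card_fin]; omega)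
  refine ⟨k, b, q (z 0 : ι → fixF σ), fun h0 => hzli.ne_zero 0 (han _ (z 0).2 h0), by omega,
    fun v => ?_⟩
  rw [hval, Fin.sum_univ_one, QuadraticMap.map_smul, smul_eq_mul, mul_comm (q _)]

/-- All descended forms in odd dimension are similar. -/
theorem similar_odd (D₀ : Desc Q σ g₀ B₀ y₀ q₀) (hodd : Odd (Fintype.card ι)) :
    ∃ (L : (ι → fixF σ) ≃ₗ[fixF σ] (ι → fixF σ)) (l : fixF σ), l ≠ 0 ∧
      ∀ w, q (L w) = l * q₀ w := by
  obtain ⟨k, b, c, hc, hk, hq⟩ := decomp_line D hodd
  obtain ⟨k₀, b₀, c₀, hc₀, hk₀, hq₀⟩ := decomp_line D₀ hodd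
  obtain rfl : k₀ = k := by omega
  set l := c / c₀
  have hl : l ≠ 0 := div_ne_zero hc hc₀
  let d : (Fin k₀ ⊕ Fin k₀) ⊕ Fin 1 → (fixF σ)ˣ :=
    Sum.elim (Sum.elim (fun _ => Units.mk0 l hl) fun _ => 1) fun _ => 1
  refine ⟨(b₀.equivFun.trans (LinearEquiv.piCongrRight fun i => LinearEquiv.smulOfUnit (d i))).trans
    b.equivFun.symm, l, hl, fun w => ?_⟩
  have hcoord : ∀ i, b.repr (((b₀.equivFun.trans
      (LinearEquiv.piCongrRight fun i => LinearEquiv.smulOfUnit (d i))).trans b.equivFun.symm) w) i =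
      (d i : fixF σ) * b₀.repr w i := fun i => by
    rw [← Basis.equivFun_apply b, LinearEquiv.trans_apply, LinearEquiv.apply_symm_apply]
    rfl
  rw [hq, hq₀]
  simp only [hcoord, d, Sum.elim_inl, Sum.elim_inr, Units.val_one, one_mul, Units.val_mk0, mul_add,
    Finset.mul_sum]
  refine congrArg₂ _ (Finset.sum_congr rfl fun i _ => mul_assoc _ _ _) ?_
  rw [← mul_assoc l c₀, div_mul_cancel₀ _ hc₀]

end Even

end Cfsg.Agent.AutOrth45Types
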