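import Mathlib
import Cfsg.Agent.Lib.AutOrth45Api

/-!
The field part of an automorphism of `PΩ(Q)`, and iterates of semisimilarities.
-/

set_option autoImplicit false
set_option linter.unusedSectionVars false

namespace Cfsg.Agent.AutOrth45Gal

open QuadraticMap
open scoped Matrix MatrixGroups
open Cfsg.Agent.OrthUnitarySimAut
open Cfsg.Agent.AutOrth45
open Cfsg.Agent.AutOrth45Api

variable {ι : Type} [Fintype ι] [DecidableEq ι] {F : Type*} [Field F] [Fintype F]
  {Q : QuadraticForm F (ι → F)} (h : Good Q)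

include h in
theorem exists_semiAut (α : MulAut (POmega F ⇑Q)) :
    ∃ σ : F ≃+* F, ∃ (g : GL ι F) (hp : IsSemisimilarityPair ⇑Q g σ), α = semiAut h g σ hp := by
  obtain ⟨g, σ, hp, hi⟩ := exists_semisim h α
  exact ⟨σ, g, hp, (induced_iff h g σ hp α).1 hi⟩

theorem field_unique {g k : GL ι F} {σ τ : F ≃+* F} (hp : IsSemisimilarityPair ⇑Q g σ)
    (hq : IsSemisimilarityPair ⇑Q k τ) (he : semiAut h g σ hp = semiAut h k τ hq) : σ = τ := by
  obtain ⟨ρ, l, hl, hinv⟩ := exists_semiAut h (semiAut h k τ hq)⁻¹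
  have h1 : semiAut h k τ hq * semiAut h l ρ hl = 1 := by rw [← hinv, mul_inv_cancel]
  have h2 : semiAut h g σ hp * semiAut h l ρ hl = 1 := by rw [he, ← hinv, mul_inv_cancel]
  rw [semiAut_mul] at h1 h2
  have e1 : τ * ρ = 1 := semiAut_eq_one h _ h1
  have e2 : σ * ρ = 1 := semiAut_eq_one h _ h2
  exact mul_right_cancel (e2.trans e1.symm)

/-- The field automorphism of an automorphism. -/
noncomputable def galHom : MulAut (POmega F ⇑Q) →* (F ≃+* F) :=
  MonoidHom.mk' (fun α => (exists_semiAut h α).choose) fun α β => by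
    obtain ⟨g, hp, e1⟩ := (exists_semiAut h α).choose_spec
    obtain ⟨k, hq, e2⟩ := (exists_semiAut h β).choose_spec
    obtain ⟨l, hl, e3⟩ := (exists_semiAut h (α * β)).choose_spec
    refine field_unique h hl (pair_mul hp hq) ?_
    rw [← e3, ← semiAut_mul h hp hq, ← e1, ← e2]

theorem galHom_semiAut {g : GL ι F} {σ : F ≃+* F} (hp : IsSemisimilarityPair ⇑Q g σ) :
    galHom h (semiAut h g σ hp) = σ := by
  obtain ⟨k, hq, e⟩ := (exists_semiAut h (semiAut h g σ hp)).choose_spec
  exact (field_unique h hp hq e).symm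

theorem ker_galHom : (galHom h).ker = (conjP Q).range := by
  ext α
  constructor
  · intro hα
    obtain ⟨g, hp, e⟩ := (exists_semiAut h α).choose_spec
    have hσ : (exists_semiAut h α).choose = (1 : F ≃+* F) := hα
    generalize (exists_semiAut h α).choose = σ at hp e hσ
    subst hσ
    obtain ⟨c, hc⟩ := id hp
    refine ⟨⟨g, c, fun v => hc v⟩, ?_⟩
    rw [conjP_eq h]
    exact e.symm
  · rintro ⟨g, rfl⟩
    rw [MonoidHom.mem_ker, conjP_eq h, galHom_semiAut]
    rfl

theorem semi_mul {g k : GL ι F} {σ τ : F ≃+* F} (v : ι → F) :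
    semi (g * Matrix.GeneralLinearGroup.map (σ : F →+* F) k) (σ * τ) v
      = semi g σ (semi k τ v) := by
  show (g.1 * (k.1).map σ) *ᵥ (fun i => σ (τ (v i))) = _
  rw [← Matrix.mulVec_mulVec, map_mulVec_comp]
  rfl

/-- Powers of an induced automorphism. -/
theorem semiAut_pow {g : GL ι F} {σ : F ≃+* F} (hp : IsSemisimilarityPair ⇑Q g σ) (j : ℕ) :
    ∃ (k : GL ι F) (hk : IsSemisimilarityPair ⇑Q k (σ ^ j)),
      semiAut h g σ hp ^ j = semiAut h k (σ ^ j) hk ∧
        ∀ v, semi k (σ ^ j) v = (semi g σ)^[j] v := by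
  induction j with
  | zero =>
    have h0 : IsSemisimilarityPair ⇑Q (1 : GL ι F) (σ ^ 0) := ⟨1, fun v => by simp⟩
    refine ⟨1, h0, ?_, fun v => by simp [semi_apply]⟩
    rw [pow_zero, ← map_one (conjP Q), conjP_eq h]
    exact semiAut_congr h _ _ rfl (pow_zero σ).symm
  | succ j ih =>
    obtain ⟨k, hk, e, hs⟩ := ih
    have hσ : σ * σ ^ j = σ ^ (j + 1) := (pow_succ' σ j).symm
    have hp' := hσ ▸ pair_mul hp hk
    refine ⟨_, hp', ?_, fun v => ?_⟩
    · rw [pow_succ', e, semiAut_mul]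
      exact semiAut_congr h _ _ rfl hσ
    · rw [← hσ, semi_mul, hs, Function.iterate_succ_apply']

end Cfsg.Agent.AutOrth45Gal
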