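import Mathlib
import Cfsg.Agent.Lib.AutOrth45Gal
import Cfsg.Agent.Lib.AutOrth45Types

/-!
Elements of prime order in the cosets of field and graph-field automorphisms of `PΩ(Q)`.
-/

set_option autoImplicit false
set_option linter.unusedSectionVars false

namespace Cfsg.Agent.AutOrth45Coset

open QuadraticMap
open scoped Matrix MatrixGroups
open Cfsg.Agent.OrthUnitaryQuad
open Cfsg.Agent.OrthUnitaryRefl
open Cfsg.Agent.OrthUnitaryOmega
open Cfsg.Agent.OrthUnitarySimAut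
open Cfsg.Agent.AutOrth45Api
open Cfsg.Agent.AutOrth45Gal
open Cfsg.Agent.AutOrth45Parity
open Cfsg.Agent.AutOrth45Descent
open Cfsg.Agent.AutOrth45Types

/-- Transport of the coset criterion along a conjugating element. -/
theorem reduce {X : Type*} [Group X] (H : Subgroup X) [H.Normal] {x x₀ α : X}
    (hα : α * x * α⁻¹ = x₀) {r : ℕ} (hxr : orderOf x = r)
    (h : ∀ δ ∈ H, orderOf (δ * x₀) = r → Cfsg.IsConjUnder H x₀ (δ * x₀))
    {δ : X} (hδ : δ ∈ H) : orderOf (δ * x) = r ↔ Cfsg.IsConjUnder H x (δ * x) := by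
  constructor
  · intro ho
    have e : α * (δ * x) * α⁻¹ = (α * δ * α⁻¹) * x₀ := by rw [← hα]; group
    obtain ⟨k, hk, hke⟩ := h _ (Subgroup.Normal.conj_mem ‹H.Normal› δ hδ α) (by
      rw [← e, show α * (δ * x) * α⁻¹ = MulAut.conj α (δ * x) from rfl, MulEquiv.orderOf_eq, ho])
    refine ⟨α⁻¹ * k * α, by simpa using Subgroup.Normal.conj_mem ‹H.Normal› k hk α⁻¹, ?_⟩
    calc δ * x = α⁻¹ * ((α * δ * α⁻¹) * x₀) * α := by rw [← hα]; group
      _ = _ := by rw [hke, ← hα]; group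
  · rintro ⟨k, -, hke⟩
    rw [hke, show k * x * k⁻¹ = MulAut.conj k x from rfl, MulEquiv.orderOf_eq, hxr]

variable {ι : Type} [Fintype ι] [DecidableEq ι] {F : Type*} [Field F] [Fintype F]
  {Q : QuadraticForm F (ι → F)}

omit [Fintype F] in
/-- The matrix of a semilinear map is determined by the map. -/
theorem semi_ext {g k : GL ι F} {σ : F ≃+* F} (h : ∀ v, semi g σ v = semi k σ v) : g = k := by
  refine Units.ext (Matrix.ext_iff_mulVec.2 fun w => ?_)
  have := h fun i => σ.symm (w i)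
  simpa [semi_apply] using this

/-- A scalar times the semilinear map. -/
theorem semi_scalar (g : GL ι F) (σ : F ≃+* F) (l : Fˣ) (v : ι → F) :
    semi ((OrthUnitarySimilar.scalarOf Q l : GL ι F) * g) σ v = (l : F) • semi g σ v := by
  rw [semi_apply, semi_apply, Units.val_mul, OrthUnitarySimilar.scalarOf_coe, Matrix.smul_mul,
    Matrix.one_mul, Matrix.smul_mulVec]

omit [Fintype F] in
theorem keeps_smul {S T : (ι → F) ≃+ (ι → F)} {l : F} (hl : l ≠ 0) (h : ∀ v, T v = l • S v)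
    [Fintype F] : Keeps Q T ↔ Keeps Q S := by
  have e : ∀ U : Submodule F (ι → F), img F T U = img F S U := fun U => by
    refine le_antisymm (Submodule.span_le.2 ?_) (Submodule.span_le.2 ?_)
    · rintro _ ⟨u, hu, rfl⟩
      rw [h]
      exact Submodule.smul_mem _ _ (Submodule.subset_span ⟨u, hu, rfl⟩)
    · rintro _ ⟨u, hu, rfl⟩
      rw [← inv_smul_smul₀ hl (S u), ← h]
      exact Submodule.smul_mem _ _ (Submodule.subset_span ⟨u, hu, rfl⟩)
  simp only [Keeps, e]

variable (h : AutOrth45.Good Q)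

include h in
theorem five_le : 5 ≤ Fintype.card ι := by
  rw [← Module.finrank_pi (R := F)]; exact h.dim5

/-- Scaling a semisimilarity inducing an element of order dividing that of its field automorphism. -/
theorem scalar_adjust {g : GL ι F} {σ : F ≃+* F} (hp : IsSemisimilarityPair ⇑Q g σ)
    (he : semiAut h g σ hp ^ orderOf σ = 1) :
    ∃ (g' : GL ι F) (hp' : IsSemisimilarityPair ⇑Q g' σ) (l : Fˣ),
      semiAut h g' σ hp' = semiAut h g σ hp ∧ (∀ v, semi g' σ v = (l : F) • semi g σ v) ∧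
      ∀ v, (semi g' σ)^[orderOf σ] v = v := by
  obtain ⟨k, hk, e1, e2⟩ := semiAut_pow h hp (orderOf σ)
  rw [he] at e1
  have hσ : σ ^ orderOf σ = RingEquiv.refl F := pow_orderOf_eq_one σ
  generalize σ ^ orderOf σ = τ at hk e1 e2 hσ
  subst hσ
  obtain ⟨c, hc⟩ := id hk
  have hker : (⟨k, c, fun v => hc v⟩ : Sim Q) ∈ scalarSim Q := by
    rw [← ker_conjP Q h.nd (five_le h), MonoidHom.mem_ker, conjP_eq h]
    exact e1.symm
  obtain ⟨u, hu, hu0⟩ := (mem_scalarSim Q).1 hker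
  have hit : ∀ v, (semi g σ)^[orderOf σ] v = u • v := fun v => by
    rw [← e2, semi_apply]
    show k.1 *ᵥ (fun i => v i) = _
    rw [show k.1 = u • 1 from hu, Matrix.smul_mulVec, Matrix.one_mulVec]
  haveI : Nonempty ι := Fintype.card_pos_iff.1 (by have := five_le h; omega)
  have hσu : σ u = u := by
    have h1 := hit (semi g σ 1)
    rw [← Function.iterate_succ_apply, Function.iterate_succ_apply', hit, semi_smul] at h1
    exact smul_left_injective F
      (fun h0 => one_ne_zero (α := ι → F) ((semi g σ).injective (h0.trans (map_zero _).symm))) h1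
  obtain ⟨l, hl⟩ : Units.mk0 u hu0 ∈ (GaloisDescentGL.unorm σ).range := by
    rw [GaloisDescentGL.range_unorm]
    exact Units.ext hσu
  set L := OrthUnitarySimilar.scalarOf Q l⁻¹ with hL
  have hp' := pair_mul (sim_pair L) hp
  have hg' : (L : GL ι F) * Matrix.GeneralLinearGroup.map
      ((RingEquiv.refl F : F ≃+* F) : F →+* F) g = (L : GL ι F) * g := by
    congr 1
  have hσ' : (RingEquiv.refl F) * σ = σ := one_mul σ
  refine ⟨(L : GL ι F) * g, by rw [hg', hσ'] at hp'; exact hp', l⁻¹, ?_, fun v => semi_scalar g σ _ v,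
    fun v => ?_⟩
  · have e3 : conjP Q L = 1 := scalarSim_le_ker Q (OrthUnitarySimilar.scalarOf_mem _)
    conv_rhs => rw [← one_mul (semiAut h g σ hp), ← e3, conjP_eq h, semiAut_mul]
    exact semiAut_congr h _ _ hg'.symm hσ'.symm
  · have key : ∀ j, (semi ((L : GL ι F) * g) σ)^[j] v =
        (∏ i ∈ Finset.range j, (σ ^ i) ((l⁻¹ : Fˣ) : F)) • (semi g σ)^[j] v := by
      intro j
      induction j with
      | zero => simp
      | succ j ih =>
        rw [Function.iterate_succ_apply', Function.iterate_succ_apply', ih, semi_scalar, semi_smul,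
          smul_smul, Finset.prod_range_succ' _ j, map_prod]
        simp only [pow_succ', RingAut.mul_apply, pow_zero, RingAut.one_apply, mul_comm]
    rw [key, hit, smul_smul]
    have e4 : ((GaloisDescentGL.unorm σ l⁻¹ : Fˣ) : F) = u⁻¹ := by
      rw [map_inv, hl, Units.val_inv_eq_inv_val, Units.val_mk0]
    rw [show (GaloisDescentGL.unorm σ l⁻¹ : Fˣ) = ∏ i ∈ Finset.range (orderOf σ),
      Units.map ((σ ^ i : F ≃+* F) : F →* F) l⁻¹ from rfl, Units.coe_prod] at e4
    have e5 : (∏ i ∈ Finset.range (orderOf σ), (σ ^ i) ((l⁻¹ : Fˣ) : F)) * u = 1 :=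
      (congrArg (· * u) e4).trans (inv_mul_cancel₀ hu0)
    rw [e5, one_smul]

/-- A twisted intertwining similarity conjugates the induced automorphisms. -/
theorem conj_of_intertwine {g g₀ : GL ι F} {σ : F ≃+* F} (hp : IsSemisimilarityPair ⇑Q g σ)
    (hp₀ : IsSemisimilarityPair ⇑Q g₀ σ) (b : Sim Q)
    (hb : ∀ v, semi g σ ((b : GL ι F).1 *ᵥ v) = (b : GL ι F).1 *ᵥ semi g₀ σ v) :
    semiAut h g σ hp * conjP Q b = conjP Q b * semiAut h g₀ σ hp₀ := by
  rw [conjP_eq h, semiAut_mul, semiAut_mul]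
  refine semiAut_congr h _ _ (semi_ext (σ := σ) fun v => ?_) ((mul_one σ).trans (one_mul σ).symm)
  show (g.1 * ((b : GL ι F).1).map σ) *ᵥ (fun i => σ (v i)) =
    ((b : GL ι F).1 * (g₀.1.map (RingEquiv.refl F))) *ᵥ (fun i => σ (v i))
  rw [← Matrix.mulVec_mulVec, map_mulVec_comp,
    show g₀.1.map (RingEquiv.refl F) = g₀.1 from Matrix.ext fun _ _ => rfl, ← Matrix.mulVec_mulVec]
  exact hb v

/-- Two elements of the right order over the same field automorphism are conjugate when their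
descended forms are similar; a reflection commutes with the second one. -/
theorem exists_conj {g g₀ : GL ι F} {σ : F ≃+* F} (hp : IsSemisimilarityPair ⇑Q g σ)
    (hp₀ : IsSemisimilarityPair ⇑Q g₀ σ) (he : semiAut h g σ hp ^ orderOf σ = 1)
    (he₀ : semiAut h g₀ σ hp₀ ^ orderOf σ = 1)
    (hsim : ∀ (g₁ g₂ B B₀ : GL ι F) (y y₀ : F)
      (q q₀ : QuadraticForm (fixF σ) (ι → fixF σ)) (l l₀ : Fˣ),
      (∀ v, semi g₁ σ v = (l : F) • semi g σ v) → (∀ v, semi g₂ σ v = (l₀ : F) • semi g₀ σ v) →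
      IsSemisimilarityPair ⇑Q g₁ σ → IsSemisimilarityPair ⇑Q g₂ σ →
      Desc Q σ g₁ B y q → Desc Q σ g₂ B₀ y₀ q₀ →
      ∃ (L : (ι → fixF σ) ≃ₗ[fixF σ] (ι → fixF σ)) (c : fixF σ), c ≠ 0 ∧
        ∀ w, q (L w) = c * q₀ w) :
    ∃ (b : Sim Q) (v : ι → F) (hv : Q v ≠ 0),
      semiAut h g σ hp = conjP Q b * semiAut h g₀ σ hp₀ * (conjP Q b)⁻¹ ∧
      Commute (conjP Q (OrthUnitarySimilar.ofOrth (refl Q v hv))) (semiAut h g₀ σ hp₀) := by
  obtain ⟨g₁, hp₁, l, ea, es, hit⟩ := scalar_adjust h hp he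
  obtain ⟨g₂, hp₂, l₀, ea₀, es₀, hit₀⟩ := scalar_adjust h hp₀ he₀
  have hne : ∃ v, Q v ≠ 0 :=
    exists_map_ne_zero (isReg_of_nondegenerate h.nd) (by rw [Module.finrank_pi]; have := five_le h; omega)
  obtain ⟨μ, hμ⟩ := id hp₁
  obtain ⟨μ₀, hμ₀⟩ := id hp₂
  obtain ⟨B, y, q, D⟩ := exists_desc h.nd hne σ g₁ (fun v => hμ v) μ.ne_zero hit
  obtain ⟨B₀, y₀, q₀, D₀⟩ := exists_desc h.nd hne σ g₂ (fun v => hμ₀ v) μ₀.ne_zero hit₀
  obtain ⟨L, c, hc, hL⟩ := hsim g₁ g₂ B B₀ y y₀ q q₀ l l₀ es es₀ hp₁ hp₂ D D₀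
  obtain ⟨b, hb⟩ := exists_sim_of_similar D D₀ L hc hL
  obtain ⟨w, hw⟩ := exists_map_ne_zero (isReg_of_nondegenerate D₀.nd)
    (by rw [Module.finrank_pi]; have := five_le h; omega)
  set v := B₀.1 *ᵥ incl σ w with hvdef
  have hv : Q v ≠ 0 := by
    rw [hvdef, D₀.val]; exact mul_ne_zero D₀.y_ne (by exact_mod_cast hw)
  refine ⟨b, v, hv, ?_, ?_⟩
  · rw [eq_mul_inv_iff_mul_eq, ← ea, ← ea₀]
    exact conj_of_intertwine h hp₁ hp₂ b hb
  · rw [← ea₀]
    refine (conj_of_intertwine h hp₂ hp₂ _ fun x => ?_).symm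
    rw [OrthUnitarySimilar.ofOrth_mulVec, OrthUnitarySimilar.ofOrth_mulVec, refl_apply, refl_apply,
      map_sub, semi_smul, D₀.fixed, ← hvdef]
    congr 2
    have hfix : semi g₂ σ v = v := D₀.fixed w
    have hQ : ∀ z, Q (semi g₂ σ z) = (μ₀ : F) * σ (Q z) := fun z => hμ₀ z
    have h1 : (μ₀ : F) * σ (Q v) = Q v := by rw [← hQ, hfix]
    have h2 : polar Q v (semi g₂ σ x) = (μ₀ : F) * σ (polar Q v x) := by
      nth_rw 1 [← hfix]
      simp only [polar, ← map_add, hQ]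
      simp only [map_sub]
      ring
    rw [h2, map_mul, map_inv₀]
    nth_rw 2 [← h1]
    field_simp

end Cfsg.Agent.AutOrth45Coset
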