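import Mathlib
import Cfsg.Agent.Lib.AutOrth45Gal

/-!
The isomorphism of projective groups `PΩ` induced by an isometry of the forms.
-/

set_option autoImplicit false
set_option linter.unusedSectionVars false

namespace Cfsg.Agent.AutOrth45Congr

open scoped Matrix MatrixGroups
open Cfsg.Agent.OrthUnitaryPrelude
open Cfsg.Agent.OrthUnitarySimAut
open Cfsg.Agent.AutOrth45Api
open Cfsg.Agent.AutOrth45Gal

variable {ι : Type} [Fintype ι] [DecidableEq ι] {F : Type*} [Field F]
  {Q Q' : QuadraticForm F (ι → F)} (L : GL ι F) (hL : ∀ v, Q' (L.1 *ᵥ v) = Q v)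

include hL in
theorem back_q (v : ι → F) : Q ((L⁻¹ : GL ι F).1 *ᵥ v) = Q' v := by
  rw [← hL, Matrix.mulVec_mulVec, ← Units.val_mul, mul_inv_cancel, Units.val_one, Matrix.one_mulVec]

include hL in
theorem isometry_mem {g : GL ι F} (hg : g ∈ isometryGroup F ⇑Q) :
    L * g * L⁻¹ ∈ isometryGroup F ⇑Q' := fun v _ => by
  show Q' ((L * g * L⁻¹ : GL ι F).1 *ᵥ v) = Q' v
  rw [Units.val_mul, Units.val_mul, ← Matrix.mulVec_mulVec, ← Matrix.mulVec_mulVec, hL,
    show Q (g.1 *ᵥ ((L⁻¹ : GL ι F).1 *ᵥ v)) = Q ((L⁻¹ : GL ι F).1 *ᵥ v) from hg _ 0, back_q L hL]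

/-- The isometry groups correspond. -/
def isoEquiv : isometryGroup F ⇑Q ≃* isometryGroup F ⇑Q' where
  toFun g := ⟨L * g * L⁻¹, isometry_mem L hL g.2⟩
  invFun g := ⟨L⁻¹ * g * L, by
    simpa using isometry_mem (Q := Q') (Q' := Q) L⁻¹ (back_q L hL) g.2⟩
  left_inv g := Subtype.ext (by simp [mul_assoc])
  right_inv g := Subtype.ext (by simp [mul_assoc])
  map_mul' g k := Subtype.ext (by simp [mul_assoc])

/-- The groups `Ω` correspond. -/
def omegaEquiv : Omega F ⇑Q ≃* Omega F ⇑Q' :=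
  ((isoEquiv L hL).subgroupMap (Omega F ⇑Q)).trans
    (MulEquiv.subgroupCongr (OrthUnitaryOmega.map_commutator_equiv (isoEquiv L hL)))

/-- The groups `PΩ` correspond. -/
def congrP : POmega F ⇑Q ≃* POmega F ⇑Q' :=
  QuotientGroup.congr _ _ (omegaEquiv L hL) (by
    ext x
    constructor
    · rintro ⟨y, hy, rfl⟩
      exact Subgroup.mem_center_iff.2 fun z => by
        obtain ⟨z, rfl⟩ := (omegaEquiv L hL).surjective z
        show omegaEquiv L hL z * omegaEquiv L hL y = omegaEquiv L hL y * omegaEquiv L hL z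
        rw [← map_mul, ← map_mul, Subgroup.mem_center_iff.1 hy z]
    · intro hx
      exact ⟨(omegaEquiv L hL).symm x, Subgroup.mem_center_iff.2 fun z => (omegaEquiv L hL).injective (by
        rw [map_mul, map_mul, MulEquiv.apply_symm_apply,
          Subgroup.mem_center_iff.1 hx (omegaEquiv L hL z)]),
        (omegaEquiv L hL).apply_symm_apply x⟩)

theorem congrP_mk (s : Omega F ⇑Q) :
    congrP L hL (QuotientGroup.mk s) = QuotientGroup.mk (omegaEquiv L hL s) := rfl

include hL in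
theorem sim_mem (d : Sim Q) : L * (d : GL ι F) * L⁻¹ ∈ Sim Q' := by
  obtain ⟨c, hc⟩ := d.2
  refine ⟨c, fun v => ?_⟩
  rw [Units.val_mul, Units.val_mul, ← Matrix.mulVec_mulVec, ← Matrix.mulVec_mulVec, hL, hc,
    back_q L hL]

/-- Similarity-induced automorphisms go to similarity-induced ones. -/
theorem congrP_conjP (d : Sim Q) (x : POmega F ⇑Q) :
    congrP L hL (conjP Q d x) = conjP Q' ⟨_, sim_mem L hL d⟩ (congrP L hL x) := by
  induction x using QuotientGroup.induction_on with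
  | H s =>
    rw [conjP_mk, congrP_mk, congrP_mk, conjP_mk]
    congr 1
    refine Subtype.ext (Subtype.ext ?_)
    show L * (omegaConj Q d s).1.1 * L⁻¹ = (omegaConj Q' ⟨_, sim_mem L hL d⟩ (omegaEquiv L hL s)).1.1
    rw [omegaConj_coe, omegaConj_coe]
    show L * ((d : GL ι F) * s.1.1 * (d : GL ι F)⁻¹) * L⁻¹ =
      (L * d * L⁻¹) * (L * s.1.1 * L⁻¹) * (L * d * L⁻¹ : GL ι F)⁻¹
    group

variable [Fintype F]

include hL in
/-- An automorphism which becomes a field automorphism is not induced by a similarity. -/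
theorem galHom_ne_one (h : AutOrth45.Good Q) (h' : AutOrth45.Good Q') {σ : F ≃+* F}
    (hσ : σ ≠ RingEquiv.refl F) (hp : IsSemisimilarityPair ⇑Q' (1 : GL ι F) σ)
    (ψ : POmega F ⇑Q ≃* POmega F ⇑Q') (x : MulAut (POmega F ⇑Q))
    (hx : (ψ.symm.trans x).trans ψ = semiAut h' 1 σ hp) : galHom h x ≠ 1 := by
  intro h1
  have hmem : x ∈ (galHom h).ker := h1
  rw [ker_galHom h] at hmem
  obtain ⟨d, rfl⟩ := hmem
  set α : MulAut (POmega F ⇑Q') := (congrP L hL).symm.trans ψ
  have e : α * conjP Q' ⟨_, sim_mem L hL d⟩ * α⁻¹ = semiAut h' 1 σ hp := by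
    rw [← hx]
    refine MulEquiv.ext fun z => ?_
    show ψ ((congrP L hL).symm (conjP Q' _ (congrP L hL (ψ.symm z)))) = ψ (conjP Q d (ψ.symm z))
    rw [← congrP_conjP L hL d, MulEquiv.symm_apply_apply]
  have := congrArg (galHom h') e
  rw [galHom_semiAut, map_mul, map_mul,
    MonoidHom.mem_ker.1 (show conjP Q' ⟨_, sim_mem L hL d⟩ ∈ (galHom h').ker by
      rw [ker_galHom h']; exact ⟨_, rfl⟩), mul_one, map_inv, mul_inv_cancel] at this
  exact hσ this.symm

end Cfsg.Agent.AutOrth45Congr
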