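import Mathlib
import Cfsg.Prelude.Def_Classical

/-!
Root elements of the eight-dimensional split orthogonal group, over an arbitrary field.
-/

set_option autoImplicit false
set_option linter.unusedSectionVars false

open Matrix
open scoped Matrix

namespace Cfsg.Agent.DFourRoots

/-- The index set of eight coordinates. -/
abbrev I8 : Type := Fin 4 ⊕ Fin 4

/-- The partner of a coordinate. -/
def bar (a : I8) : I8 := Sum.swap a

theorem bar_bar (a : I8) : bar (bar a) = a := Sum.swap_swap a

theorem bar_inj {a b : I8} (h : bar a = bar b) : a = b := by rw [← bar_bar a, h, bar_bar]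

theorem bar_ne : ∀ a : I8, bar a ≠ a := by decide

theorem bar_inl (i : Fin 4) : bar (Sum.inl i) = Sum.inr i := rfl

theorem bar_inr (i : Fin 4) : bar (Sum.inr i) = Sum.inl i := rfl

/-- A pair of coordinates carrying a root. -/
def RootPair (a b : I8) : Prop := b ≠ a ∧ b ≠ bar a

theorem RootPair.symm {a b : I8} (h : RootPair a b) : RootPair b a :=
  ⟨h.1.symm, fun e => h.2 (by rw [e, bar_bar])⟩

section Ring

variable (R : Type*) [CommRing R]

/-- The matrix of the quadratic form. -/
def upM : Matrix I8 I8 R := fromBlocks 0 1 0 0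

/-- The matrix of the polar form. -/
def polM : Matrix I8 I8 R := fromBlocks 0 1 1 0

variable {R}

/-- The skew map attached to a tensor. -/
def phiM (X : Matrix I8 I8 R) : Matrix I8 I8 R := (X - Xᵀ) * polM R

/-- The root vector of a pair of coordinates. -/
def pairM (a b : I8) : Matrix I8 I8 R := Matrix.single a (bar b) 1 - Matrix.single b (bar a) 1

theorem upM_add : upM R + (upM R)ᵀ = polM R := by
  simp [upM, polM, fromBlocks_transpose, fromBlocks_add]

end Ring

variable {F : Type*} [Field F]

/-- The form. -/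
abbrev q8 (F : Type*) [Field F] : (I8 → F) → F := quadFormPlus 4 F

/-- The isometry group. -/
abbrev O8 (F : Type*) [Field F] := ↥(isometryGroup F (q8 F))

/-- The matrix of an isometry. -/
abbrev mat8 (g : O8 F) : Matrix I8 I8 F := ((g : GL I8 F) : Matrix I8 I8 F)

/-- The action of an isometry on vectors. -/
abbrev ap (g : O8 F) (v : I8 → F) : I8 → F := mat8 g *ᵥ v

theorem ap_mul (g h : O8 F) (v : I8 → F) : ap (g * h) v = ap g (ap h v) := by
  simp [ap, mat8, Matrix.mulVec_mulVec]

theorem ap_one (v : I8 → F) : ap (1 : O8 F) v = v := by simp [ap, mat8]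

theorem ap_inv {g : O8 F} {u w : I8 → F} (h : ap g u = w) : ap g⁻¹ w = u := by
  rw [← h, ← ap_mul, inv_mul_cancel, ap_one]

theorem ap_ext {g h : O8 F} (e : ∀ v, ap g v = ap h v) : g = h :=
  Subtype.ext (Units.ext (Matrix.mulVec_injective (funext e)))

theorem mat8_ext {g h : O8 F} (e : mat8 g = mat8 h) : g = h := Subtype.ext (Units.ext e)

theorem ap_q (g : O8 F) (v : I8 → F) : q8 F (ap g v) = q8 F v := g.2 v v

/-- The polar form. -/
def pol8 (u v : I8 → F) : F := ∑ i : Fin 4, (u (.inl i) * v (.inr i) + u (.inr i) * v (.inl i))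

theorem q8_add (u v : I8 → F) : q8 F (u + v) = q8 F u + q8 F v + pol8 u v := by
  simp only [q8, quadFormPlus, pol8, Pi.add_apply, ← Finset.sum_add_distrib]
  exact Finset.sum_congr rfl fun i _ => by ring

theorem pol8_comm (u v : I8 → F) : pol8 u v = pol8 v u :=
  Finset.sum_congr rfl fun i _ => by ring

theorem pol8_single_inl (u : I8 → F) (i : Fin 4) (c : F) :
    pol8 u (Pi.single (Sum.inl i) c) = u (.inr i) * c := by
  simp [pol8, Pi.single_apply]

theorem pol8_single_inr (u : I8 → F) (i : Fin 4) (c : F) :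
    pol8 u (Pi.single (Sum.inr i) c) = u (.inl i) * c := by
  simp [pol8, Pi.single_apply]

theorem pol8_single (u : I8 → F) (a : I8) (c : F) : pol8 u (Pi.single a c) = u (bar a) * c := by
  rcases a with i | i
  · rw [bar_inl]; exact pol8_single_inl u i c
  · rw [bar_inr]; exact pol8_single_inr u i c

theorem ap_pol (g : O8 F) (u v : I8 → F) : pol8 (ap g u) (ap g v) = pol8 u v := by
  have h := ap_q g (u + v)
  rw [q8_add, show ap g (u + v) = ap g u + ap g v from Matrix.mulVec_add _ _ _, q8_add, ap_q,
    ap_q] at h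
  linear_combination h

theorem q8_single (a : I8) (c : F) : q8 F (Pi.single a c) = 0 := by
  rcases a with i | i <;> simp [q8, quadFormPlus, Pi.single_apply]

/-- The vector map of a root element. -/
def pairFun (a b : I8) (t : F) (v : I8 → F) : I8 → F :=
  v + (Pi.single a (t * v (bar b)) - Pi.single b (t * v (bar a)))

theorem pairM_mulVec (a b : I8) (t : F) (v : I8 → F) :
    (1 + t • pairM a b) *ᵥ v = pairFun a b t v := by
  rw [Matrix.add_mulVec, Matrix.one_mulVec, Matrix.smul_mulVec, pairM, Matrix.sub_mulVec, pairFun]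
  congr 1
  funext c
  simp [Matrix.mulVec, dotProduct, Matrix.single_apply, Pi.single_apply, ite_and, eq_comm (a := c),
    mul_sub]

theorem pairFun_apply {a b : I8} (h : RootPair a b) (t : F) (v : I8 → F) (c : I8) :
    pairFun a b t v c = if c = a then v c + t * v (bar b) else if c = b then v c - t * v (bar a)
      else v c := by
  by_cases h1 : c = a
  · subst h1
    simp [pairFun, h.1.symm]
  · by_cases h2 : c = b
    · subst h2
      simp [pairFun, h.1, sub_eq_add_neg]
    · simp [pairFun, h1, h2]

theorem pairFun_self_bar {a b : I8} (h : RootPair a b) (t : F) (v : I8 → F) :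
    pairFun a b t v (bar a) = v (bar a) ∧ pairFun a b t v (bar b) = v (bar b) := by
  have h1 : bar a ≠ b := fun e => h.2 e.symm
  have h2 : bar b ≠ a := fun e => h.symm.2 e.symm
  refine ⟨?_, ?_⟩ <;> rw [pairFun_apply h] <;> simp [bar_ne, h1, h2]

theorem q8_pairFun {a b : I8} (h : RootPair a b) (t : F) (v : I8 → F) :
    q8 F (pairFun a b t v) = q8 F v := by
  have e1 : ∀ c : F, q8 F (-(Pi.single b c : I8 → F)) = 0 := fun c => by
    rw [← Pi.single_neg, q8_single]
  have e2 : bar b ≠ a := fun e => h.symm.2 e.symm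
  rw [pairFun, q8_add, sub_eq_add_neg, q8_add, q8_single, e1, ← Pi.single_neg, pol8_single,
    Pi.single_eq_of_ne e2]
  have hl : pol8 v (Pi.single a (t * v (bar b)) + Pi.single b (-(t * v (bar a))))
      = pol8 v (Pi.single a (t * v (bar b))) + pol8 v (Pi.single b (-(t * v (bar a)))) := by
    simp only [pol8, Pi.add_apply, ← Finset.sum_add_distrib]
    exact Finset.sum_congr rfl fun i _ => by ring
  rw [hl, pol8_single, pol8_single]
  ring

theorem pairFun_neg {a b : I8} (h : RootPair a b) (t : F) (v : I8 → F) :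
    pairFun a b (-t) (pairFun a b t v) = v := by
  funext c
  obtain ⟨e1, e2⟩ := pairFun_self_bar h t v
  rw [pairFun_apply h, e1, e2, pairFun_apply h]
  split_ifs <;> ring

theorem pairM_inverse {a b : I8} (h : RootPair a b) (t : F) :
    (1 + t • pairM a b : Matrix I8 I8 F) * (1 + (-t) • pairM a b) = 1 := by
  refine Matrix.mulVec_injective (funext fun v => ?_)
  rw [← Matrix.mulVec_mulVec, pairM_mulVec, pairM_mulVec, Matrix.one_mulVec]
  have e := pairFun_neg h (-t) v
  rwa [neg_neg] at e

theorem pairM_inverse' {a b : I8} (h : RootPair a b) (t : F) :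
    (1 + (-t) • pairM a b : Matrix I8 I8 F) * (1 + t • pairM a b) = 1 := by
  have e := pairM_inverse h (-t)
  rwa [neg_neg] at e

/-- The root element of a pair of coordinates as an invertible matrix. -/
def peltUnit (a b : I8) (h : RootPair a b) (t : F) : GL I8 F :=
  ⟨1 + t • pairM a b, 1 + (-t) • pairM a b, pairM_inverse h t, pairM_inverse' h t⟩

theorem mem_of_preserves {ι : Type} [Fintype ι] [DecidableEq ι] {f : (ι → F) → F} {g : GL ι F}
    (h : ∀ v, f ((g : Matrix ι ι F) *ᵥ v) = f v) : g ∈ isometryGroup F f := fun u _ => h u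

theorem coe_peltUnit (a b : I8) (h : RootPair a b) (t : F) :
    ((peltUnit a b h t : GL I8 F) : Matrix I8 I8 F) = 1 + t • pairM a b := rfl

theorem peltUnit_mem (a b : I8) (h : RootPair a b) (t : F) :
    peltUnit a b h t ∈ isometryGroup F (q8 F) :=
  mem_of_preserves fun u => by rw [coe_peltUnit, pairM_mulVec, q8_pairFun h]

/-- The root element of a pair of coordinates. -/
def pelt (a b : I8) (h : RootPair a b) (t : F) : O8 F := ⟨peltUnit a b h t, peltUnit_mem a b h t⟩

theorem mat8_pelt (a b : I8) (h : RootPair a b) (t : F) :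
    mat8 (pelt a b h t) = 1 + t • pairM a b := rfl

theorem mat8_pelt_inv (a b : I8) (h : RootPair a b) (t : F) :
    mat8 (pelt a b h t)⁻¹ = 1 + (-t) • pairM a b := rfl

theorem ap_pelt (a b : I8) (h : RootPair a b) (t : F) (v : I8 → F) :
    ap (pelt a b h t) v = pairFun a b t v := pairM_mulVec a b t v

/-- The table of the roots: coordinates and sign. -/
def rootData : Fin 24 → I8 × I8 × ℤ :=
  ![(.inr 0, .inr 1, -1), (.inr 0, .inr 2, -1), (.inl 3, .inr 0, 1), (.inr 0, .inr 3, -1),
    (.inl 2, .inr 0, -1), (.inl 1, .inr 0, 1), (.inr 1, .inr 2, 1), (.inl 3, .inr 1, -1),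
    (.inr 1, .inr 3, 1), (.inl 2, .inr 1, 1), (.inl 3, .inr 2, 1), (.inr 2, .inr 3, -1),
    (.inl 2, .inl 3, 1), (.inl 2, .inr 3, 1), (.inl 1, .inr 2, 1), (.inl 1, .inl 3, -1),
    (.inl 1, .inr 3, -1), (.inl 1, .inl 2, -1), (.inl 0, .inr 1, 1), (.inl 0, .inr 2, -1),
    (.inl 0, .inl 3, 1), (.inl 0, .inr 3, 1), (.inl 0, .inl 2, 1), (.inl 0, .inl 1, 1)]

theorem rootData_pair' : ∀ r : Fin 24, (rootData r).2.1 ≠ (rootData r).1 ∧
    (rootData r).2.1 ≠ bar (rootData r).1 := by decide

theorem rootData_pair (r : Fin 24) : RootPair (rootData r).1 (rootData r).2.1 := rootData_pair' r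

theorem rootData_sign : ∀ r : Fin 24, (rootData r).2.2 = 1 ∨ (rootData r).2.2 = -1 := by decide

theorem rootData_surj : ∀ a b : I8, a = b ∨ b = bar a ∨ ∃ r : Fin 24,
    ((rootData r).1 = a ∧ (rootData r).2.1 = b) ∨ ((rootData r).1 = b ∧ (rootData r).2.1 = a) := by
  decide

/-- The root vectors. -/
def rootM (r : Fin 24) : Matrix I8 I8 ℤ :=
  (rootData r).2.2 • pairM (rootData r).1 (rootData r).2.1

/-- The root vectors over a field. -/
def rootF (F : Type*) [Field F] (r : Fin 24) : Matrix I8 I8 F :=
  (rootM r).map (Int.castRingHom F)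

theorem rootF_eq (r : Fin 24) : rootF F r
    = ((rootData r).2.2 : F) • pairM (rootData r).1 (rootData r).2.1 := by
  ext a b
  rcases rootData_sign r with s | s <;>
    simp [rootF, rootM, s, pairM, Matrix.single_apply] <;> split_ifs <;> simp

/-- The root elements. -/
def root (r : Fin 24) (t : F) : O8 F :=
  pelt _ _ (rootData_pair r) (((rootData r).2.2 : F) * t)

theorem mat8_root (r : Fin 24) (t : F) : mat8 (root r t) = 1 + t • rootF F r := by
  rw [root, mat8_pelt, rootF_eq, smul_smul, mul_comm]

theorem mat8_root_inv (r : Fin 24) (t : F) : mat8 (root r t)⁻¹ = 1 + (-t) • rootF F r := by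
  rw [root, mat8_pelt_inv, rootF_eq, smul_smul]
  congr 2
  ring

/-- The subgroup generated by the root elements. -/
def rootGroup (F : Type*) [Field F] : Subgroup (O8 F) :=
  Subgroup.closure (Set.range fun p : Fin 24 × F => root p.1 p.2)

theorem root_mem (r : Fin 24) (t : F) : root r t ∈ rootGroup F :=
  Subgroup.subset_closure ⟨(r, t), rfl⟩

theorem pairM_swap {R : Type*} [CommRing R] (a b : I8) :
    (pairM b a : Matrix I8 I8 R) = -pairM a b := by simp [pairM]

theorem pelt_mem (a b : I8) (h : RootPair a b) (t : F) : pelt a b h t ∈ rootGroup F := by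
  rcases rootData_surj a b with e | e | ⟨r, e⟩
  · exact absurd e.symm h.1
  · exact absurd e h.2
  · obtain ⟨c, hc⟩ : ∃ c : F, pelt a b h t = root r c := by
      rcases e with ⟨e1, e2⟩ | ⟨e1, e2⟩
      · refine ⟨((rootData r).2.2 : F) * t, mat8_ext ?_⟩
        rw [root, mat8_pelt, mat8_pelt, e1, e2]
        rcases rootData_sign r with s | s <;> simp [s]
      · refine ⟨-(((rootData r).2.2 : F) * t), mat8_ext ?_⟩
        rw [root, mat8_pelt, mat8_pelt, e1, e2, pairM_swap a b]
        rcases rootData_sign r with s | s <;> simp [s]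
    rw [hc]
    exact root_mem r c

/-- For each root two roots having it as commutator. -/
def commData : Fin 24 → Fin 24 × Fin 24 :=
  ![(1, 9), (0, 14), (1, 12), (1, 13), (0, 17), (1, 17), (7, 11), (0, 20), (0, 21), (7, 13),
    (14, 7), (14, 8), (15, 9), (16, 9), (10, 16), (2, 23), (3, 23), (12, 16), (6, 22), (6, 23),
    (10, 22), (11, 22), (9, 23), (14, 22)]

theorem commData_spec : ∀ r : Fin 24,
    rootM (commData r).1 * rootM (commData r).2 - rootM (commData r).2 * rootM (commData r).1
        = rootM r ∧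
      rootM (commData r).1 * rootM (commData r).1 = 0 ∧
      rootM (commData r).2 * rootM (commData r).2 = 0 ∧
      rootM (commData r).1 * rootM (commData r).2 * rootM (commData r).1 = 0 ∧
      rootM r * rootM (commData r).2 = 0 := by
  decide +kernel

theorem root_eq_commutator (r : Fin 24) (t : F) :
    root r t = root (commData r).1 t * root (commData r).2 1 * (root (commData r).1 t)⁻¹
      * (root (commData r).2 (1 : F))⁻¹ := by
  obtain ⟨h1, h2, h3, h4, h5⟩ := commData_spec r
  have m : ∀ {X Y : Matrix I8 I8 ℤ}, X = Y →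
      X.map (Int.castRingHom F) = Y.map (Int.castRingHom F) := fun e => by rw [e]
  have k1 := m h1
  have k2 := m h2
  have k3 := m h3
  have k4 := m h4
  have k5 := m h5
  simp only [Matrix.map_sub _ (map_sub (Int.castRingHom F)), Matrix.map_mul,
    Matrix.map_zero _ (map_zero (Int.castRingHom F))] at k1 k2 k3 k4 k5
  set A := rootF F (commData r).1 with hA
  set B := rootF F (commData r).2 with hB
  set C := rootF F r with hC
  change A * B - B * A = C at k1
  change A * A = 0 at k2
  change B * B = 0 at k3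
  change A * B * A = 0 at k4
  change C * B = 0 at k5
  refine mat8_ext ?_
  rw [mat8_root]
  have e : mat8 (root (commData r).1 t * root (commData r).2 1 * (root (commData r).1 t)⁻¹
      * (root (commData r).2 (1 : F))⁻¹)
      = (1 + t • A) * (1 + (1 : F) • B) * (1 + (-t) • A) * (1 + (-1 : F) • B) := by
    rw [← mat8_root, ← mat8_root, ← mat8_root_inv, ← mat8_root_inv]
    simp [mat8]
  rw [e, ← hC]
  have f1 : (1 + t • A) * (1 + (1 : F) • B) * (1 + (-t) • A) = 1 + B + t • C := by
    simp only [add_mul, mul_add, one_mul, mul_one, Matrix.smul_mul, Matrix.mul_smul, k2, k4,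
      smul_zero, add_zero]
    rw [← k1]
    module
  rw [f1]
  simp only [add_mul, mul_add, one_mul, mul_one, Matrix.smul_mul, Matrix.mul_smul, k3, k5,
    smul_zero, add_zero]
  module

theorem rootGroup_le_commutator : rootGroup F ≤ commutator (O8 F) := by
  rw [rootGroup, Subgroup.closure_le]
  rintro _ ⟨p, rfl⟩
  rw [SetLike.mem_coe]
  show root p.1 p.2 ∈ _
  rw [root_eq_commutator, ← commutatorElement_def]
  exact Subgroup.commutator_mem_commutator (Subgroup.mem_top _) (Subgroup.mem_top _)

end Cfsg.Agent.DFourRoots
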