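import Mathlib
import Cfsg.Prelude.Def_ChevD4
import Cfsg.Agent.Lib.ChevalleyCore
import Cfsg.Agent.Lib.ChevalleyDataD4
import Cfsg.Agent.Lib.DFourRoots

/-!
The Chevalley lattice of type `D_4` as the tensors of trace zero modulo the null symmetric ones:
every isometry of the split eight-dimensional form acts on it, in every characteristic.
-/

set_option autoImplicit false
set_option linter.unusedSectionVars false

open Matrix Cfsg.Lie Cfsg.Agent.DFourRoots

namespace Cfsg.Agent.DFourAdjoint

/-- The index set of the adjoint module. -/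
abbrev I28 : Type := Fin 4 ⊕ Fin 24

section Ring

variable {R : Type*} [CommRing R]

/-- The diagonal coordinate `X(e_i, f_i) - X(f_i, e_i)`. -/
def dco (X : Matrix I8 I8 R) (i : Fin 4) : R := X (.inl i) (.inr i) - X (.inr i) (.inl i)

/-- The scalar coordinate. -/
def cco (X : Matrix I8 I8 R) : R := ∑ i : Fin 4, X (.inr i) (.inl i)

/-- The skew coordinate at a pair. -/
def sco (X : Matrix I8 I8 R) (r : Fin 24) : R :=
  ((rootData r).2.2 : R) * (X (rootData r).1 (rootData r).2.1 - X (rootData r).2.1 (rootData r).1)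

/-- The coordinates of a tensor on the Chevalley basis. -/
def coordFun (X : Matrix I8 I8 R) : I28 → R :=
  Sum.elim ![dco X 0, dco X 0 + dco X 1, -cco X - dco X 3, -cco X] (sco X)

/-- The pairing with the polar form. -/
def chi (X : Matrix I8 I8 R) : R :=
  ∑ i : Fin 4, (X (.inl i) (.inr i) + X (.inr i) (.inl i))

/-- The contraction with the quadratic form. -/
def contr (X : Matrix I8 I8 R) : R := ∑ i : Fin 4, X (.inl i) (.inr i)

/-- The tensors inducing zero. -/
def IsNull (X : Matrix I8 I8 R) : Prop := Xᵀ = X ∧ contr X = 0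

end Ring

/-- The tensors of the Chevalley basis. -/
def bas : I28 → Matrix I8 I8 ℤ :=
  Sum.elim
    ![Matrix.single (.inl 0) (.inr 0) 1 - Matrix.single (.inl 1) (.inr 1) 1,
      Matrix.single (.inl 1) (.inr 1) 1 - Matrix.single (.inl 2) (.inr 2) 1,
      Matrix.single (.inl 2) (.inr 2) 1 - Matrix.single (.inl 3) (.inr 3) 1,
      Matrix.single (.inl 2) (.inr 2) 1 - Matrix.single (.inr 3) (.inl 3) 1]
    fun r => (rootData r).2.2 • Matrix.single (rootData r).1 (rootData r).2.1 1

/-- The tables of the datum, with the index set unfolded. -/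
def xmD (k r : ℕ) (i j : I28) : ℤ := ChevalleyEngine.xm chevD4 k r i j

theorem bas_coord : ∀ i j : I28, coordFun (bas j) i = if i = j then 1 else 0 := by decide +kernel

theorem bas_chi : ∀ j : I28, chi (bas j) = 0 := by decide +kernel

theorem bas_phi : ∀ r : Fin 24, phiM (bas (Sum.inr r)) = rootM r := by decide +kernel

/-- Left multiplication by a root vector, entrywise. -/
def lop (r : Fin 24) (X : Matrix I8 I8 ℤ) : Matrix I8 I8 ℤ :=
  Matrix.of fun x y =>
    if x = (rootData r).1 then (rootData r).2.2 * X (bar (rootData r).2.1) y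
    else if x = (rootData r).2.1 then -((rootData r).2.2 * X (bar (rootData r).1) y) else 0

/-- Right multiplication by the transpose of a root vector, entrywise. -/
def rop (r : Fin 24) (X : Matrix I8 I8 ℤ) : Matrix I8 I8 ℤ :=
  Matrix.of fun x y =>
    if y = (rootData r).1 then (rootData r).2.2 * X x (bar (rootData r).2.1)
    else if y = (rootData r).2.1 then -((rootData r).2.2 * X x (bar (rootData r).1)) else 0

theorem rootM_mul (r : Fin 24) (X : Matrix I8 I8 ℤ) : rootM r * X = lop r X := by
  ext x y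
  have h := (rootData_pair r).1
  simp only [rootM, pairM, lop, Matrix.of_apply, Matrix.smul_mul, Matrix.sub_mul, Matrix.smul_apply,
    Matrix.sub_apply, smul_eq_mul]
  by_cases h1 : x = (rootData r).1
  · rw [if_pos h1, h1, Matrix.single_mul_apply_same,
      Matrix.single_mul_apply_of_ne _ _ _ _ _ (Ne.symm h)]
    ring
  · rw [if_neg h1, Matrix.single_mul_apply_of_ne _ _ _ _ _ h1]
    by_cases h2 : x = (rootData r).2.1
    · rw [if_pos h2, h2, Matrix.single_mul_apply_same]
      ring
    · rw [if_neg h2, Matrix.single_mul_apply_of_ne _ _ _ _ _ h2]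
      ring

theorem mul_rootM_transpose (r : Fin 24) (X : Matrix I8 I8 ℤ) : X * (rootM r)ᵀ = rop r X := by
  rw [← transpose_transpose (X * (rootM r)ᵀ), transpose_mul, transpose_transpose, rootM_mul]
  ext x y
  simp [lop, rop]

set_option maxHeartbeats 4000000 in
theorem table_one : ∀ (r : Fin 24) (i j : I28),
    coordFun (lop r (bas j) + rop r (bas j)) i = xmD 1 r.val i j := by
  decide +kernel

set_option maxHeartbeats 4000000 in
theorem table_two : ∀ (r : Fin 24) (i j : I28),
    coordFun (rop r (lop r (bas j))) i = xmD 2 r.val i j ∧ xmD 3 r.val i j = 0 := by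
  decide +kernel

variable {F : Type*} [Field F]

theorem coordFun_map {R S : Type*} [CommRing R] [CommRing S] (f : R →+* S) (X : Matrix I8 I8 R)
    (i : I28) : coordFun (X.map f) i = f (coordFun X i) := by
  rcases i with i | r
  · fin_cases i <;> simp [coordFun, dco, cco]
  · simp [coordFun, sco]

theorem chi_map {R S : Type*} [CommRing R] [CommRing S] (f : R →+* S) (X : Matrix I8 I8 R) :
    chi (X.map f) = f (chi X) := by simp [chi]

theorem phiM_map {R S : Type*} [CommRing R] [CommRing S] (f : R →+* S) (X : Matrix I8 I8 R) :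
    phiM (X.map f) = (phiM X).map f := by
  rw [phiM, phiM, Matrix.map_mul, Matrix.map_sub _ (map_sub f), transpose_map]
  congr 1
  simp [polM, fromBlocks_map]

/-- The coordinates, as a linear map. -/
def coord : Matrix I8 I8 F →ₗ[F] (I28 → F) where
  toFun := coordFun
  map_add' X Y := by
    funext i
    rcases i with i | r
    · fin_cases i <;> simp [coordFun, dco, cco, Finset.sum_add_distrib] <;> ring
    · simp [coordFun, sco]; ring
  map_smul' c X := by
    funext i
    rcases i with i | r
    · fin_cases i <;> simp [coordFun, dco, cco, ← Finset.mul_sum] <;> ring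
    · simp [coordFun, sco]; ring

theorem coord_apply (X : Matrix I8 I8 F) : coord X = coordFun X := rfl

/-- The basis tensors over a field. -/
def basF (F : Type*) [Field F] (j : I28) : Matrix I8 I8 F := (bas j).map (Int.castRingHom F)

theorem coord_basF (j i : I28) : coord (basF F j) i = if i = j then 1 else 0 := by
  rw [coord_apply, basF, coordFun_map, bas_coord]
  split_ifs <;> simp

theorem chi_basF (j : I28) : chi (basF F j) = 0 := by rw [basF, chi_map, bas_chi, map_zero]

theorem chi_eq_trace (X : Matrix I8 I8 F) : chi X = (X * polM F).trace := by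
  simp [chi, polM, Matrix.trace, Matrix.mul_apply, Fintype.sum_sum_type, Matrix.one_apply,
    Finset.sum_add_distrib, add_comm]

theorem contr_eq_trace (X : Matrix I8 I8 F) : contr X = (X * (upM F)ᵀ).trace := by
  simp [contr, upM, fromBlocks_transpose, Matrix.trace, Matrix.mul_apply, Fintype.sum_sum_type,
    Matrix.one_apply]

theorem q8_eq (v : I8 → F) : q8 F v = v ⬝ᵥ (upM F *ᵥ v) := by
  simp [q8, quadFormPlus, upM, dotProduct, Matrix.mulVec, Fintype.sum_sum_type, Matrix.one_apply]

theorem pol8_eq (u v : I8 → F) : pol8 u v = u ⬝ᵥ (polM F *ᵥ v) := by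
  simp [pol8, polM, dotProduct, Matrix.mulVec, Fintype.sum_sum_type, Matrix.one_apply,
    Finset.sum_add_distrib]

theorem polar_congr (g : O8 F) : (mat8 g)ᵀ * polM F * mat8 g = polM F := by
  ext a b
  have h := ap_pol g (Pi.single a 1) (Pi.single b 1)
  rw [pol8_eq, pol8_eq] at h
  have k : ∀ (M : Matrix I8 I8 F), (Pi.single a 1 : I8 → F) ⬝ᵥ (M *ᵥ Pi.single b 1) = M a b :=
    fun M => by simp
  rw [← k ((mat8 g)ᵀ * polM F * mat8 g), ← k (polM F), ← h, ← Matrix.mulVec_mulVec,
    ← Matrix.mulVec_mulVec, Matrix.dotProduct_mulVec, Matrix.vecMul_transpose]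

theorem upper_diag (g : O8 F) (a : I8) : ((mat8 g)ᵀ * upM F * mat8 g) a a = upM F a a := by
  have h := ap_q g (Pi.single a 1)
  rw [q8_eq, q8_eq] at h
  have k : ∀ (M : Matrix I8 I8 F), (Pi.single a 1 : I8 → F) ⬝ᵥ (M *ᵥ Pi.single a 1) = M a a :=
    fun M => by simp
  rw [← k ((mat8 g)ᵀ * upM F * mat8 g), ← k (upM F), ← h, ← Matrix.mulVec_mulVec,
    ← Matrix.mulVec_mulVec, Matrix.dotProduct_mulVec, Matrix.vecMul_transpose]

theorem chi_conj (g : O8 F) (X : Matrix I8 I8 F) : chi (mat8 g * X * (mat8 g)ᵀ) = chi X := by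
  rw [chi_eq_trace, chi_eq_trace]
  conv_rhs => rw [← polar_congr g]
  rw [Matrix.trace_mul_comm (mat8 g * X * (mat8 g)ᵀ), ← Matrix.mul_assoc, ← Matrix.mul_assoc,
    Matrix.trace_mul_comm (polM F * mat8 g * X), Matrix.trace_mul_comm X]
  simp only [Matrix.mul_assoc]

theorem sum_mul_alternating {M D : Matrix I8 I8 F} (hM : Mᵀ = M) (hd : ∀ a, D a a = 0)
    (hs : ∀ a b, D a b + D b a = 0) : ∑ p : I8 × I8, M p.1 p.2 * D p.1 p.2 = 0 := by
  refine Finset.sum_involution (fun p _ => p.swap) (fun p _ => ?_) (fun p _ hp e => ?_)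
    (fun p _ => Finset.mem_univ _) (fun p _ => Prod.swap_swap p)
  · have h1 : M p.2 p.1 = M p.1 p.2 := congrFun (congrFun hM p.1) p.2
    simp only [Prod.fst_swap, Prod.snd_swap, h1]
    rw [← mul_add, hs, mul_zero]
  · apply hp
    have : p.2 = p.1 := congrArg Prod.fst e
    rw [this, hd, mul_zero]

theorem contr_conj (g : O8 F) {X : Matrix I8 I8 F} (hX : Xᵀ = X) :
    contr (mat8 g * X * (mat8 g)ᵀ) = contr X := by
  set D := (mat8 g)ᵀ * upM F * mat8 g - upM F with hD
  have hs : ∀ a b, D a b + D b a = 0 := by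
    intro a b
    have : D + Dᵀ = 0 := by
      rw [hD, transpose_sub, transpose_mul, transpose_mul, transpose_transpose]
      have e : (mat8 g)ᵀ * upM F * mat8 g + (mat8 g)ᵀ * ((upM F)ᵀ * mat8 g)
          = (mat8 g)ᵀ * polM F * mat8 g := by
        rw [← upM_add, Matrix.mul_add, Matrix.add_mul, Matrix.mul_assoc _ (upM F)ᵀ]
      rw [show (mat8 g)ᵀ * upM F * mat8 g - upM F + ((mat8 g)ᵀ * ((upM F)ᵀ * mat8 g) - (upM F)ᵀ)
          = ((mat8 g)ᵀ * upM F * mat8 g + (mat8 g)ᵀ * ((upM F)ᵀ * mat8 g))
            - (upM F + (upM F)ᵀ) by abel, e, polar_congr, upM_add, sub_self]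
    exact congrFun (congrFun this a) b
  have hz := sum_mul_alternating (D := D) hX
    (fun a => by rw [hD, Matrix.sub_apply, upper_diag, sub_self]) hs
  have e : (X * Dᵀ).trace = ∑ p : I8 × I8, X p.1 p.2 * D p.1 p.2 := by
    simp only [Matrix.trace, Matrix.diag, Matrix.mul_apply, transpose_apply, Fintype.sum_prod_type]
  rw [← e, hD, transpose_sub, Matrix.mul_sub, Matrix.trace_sub, transpose_mul, transpose_mul,
    transpose_transpose, sub_eq_zero] at hz
  rw [contr_eq_trace, contr_eq_trace, ← hz]
  simp only [← Matrix.mul_assoc]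
  rw [Matrix.trace_mul_comm (X * (mat8 g)ᵀ * (upM F)ᵀ)]
  simp only [← Matrix.mul_assoc]

theorem isNull_conj (g : O8 F) {X : Matrix I8 I8 F} (hX : IsNull X) :
    IsNull (mat8 g * X * (mat8 g)ᵀ) :=
  ⟨by rw [transpose_mul, transpose_mul, transpose_transpose, hX.1, Matrix.mul_assoc],
    by rw [contr_conj g hX.1, hX.2]⟩

theorem coord_null {X : Matrix I8 I8 F} (hX : IsNull X) : coord X = 0 := by
  have hs : ∀ a b, X a b = X b a := fun a b => congrFun (congrFun hX.1 b) a
  have hc : cco X = 0 := by
    rw [← hX.2]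
    exact Finset.sum_congr rfl fun i _ => hs _ _
  have hd : ∀ i, dco X i = 0 := fun i => sub_eq_zero.2 (hs _ _)
  funext i
  rw [coord_apply]
  rcases i with i | r
  · fin_cases i <;> simp [coordFun, hd, hc]
  · simp [coordFun, sco, hs (rootData r).2.1]

theorem null_of_coord {X : Matrix I8 I8 F} (hc : coord X = 0) (hchi : chi X = 0) : IsNull X := by
  have h : ∀ i, coordFun X i = 0 := fun i => congrFun hc i
  have h0 := h (.inl 0)
  have h1 := h (.inl 1)
  have h2 := h (.inl 2)
  have h3 := h (.inl 3)
  simp [coordFun] at h0 h1 h2 h3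
  have hx : chi X = dco X 0 + dco X 1 + dco X 2 + dco X 3 + 2 * cco X := by
    simp [chi, dco, cco, Fin.sum_univ_four]; ring
  have d0 : dco X 0 = 0 := h0
  have d1 : dco X 1 = 0 := by linear_combination h1 - h0
  have d3 : dco X 3 = 0 := by linear_combination -h3 - h2
  have c0 : cco X = 0 := h3
  have d2 : dco X 2 = 0 := by linear_combination hchi - hx - d0 - d1 - d3 - 2 * c0
  have hd : ∀ i, dco X i = 0 := fun i => by fin_cases i <;> assumption
  refine ⟨?_, ?_⟩
  · ext a b
    rw [transpose_apply]
    rcases rootData_surj a b with e | e | ⟨r, e⟩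
    · rw [e]
    · subst e
      rcases a with i | i
      · rw [bar_inl]; exact (sub_eq_zero.1 (hd i)).symm
      · rw [bar_inr]; exact sub_eq_zero.1 (hd i)
    · have hr := h (.inr r)
      simp only [coordFun, Sum.elim_inr, sco] at hr
      have hne : ((rootData r).2.2 : F) ≠ 0 := by
        rcases rootData_sign r with s | s <;> simp [s]
      have := sub_eq_zero.1 ((mul_eq_zero.1 hr).resolve_left hne)
      rcases e with ⟨e1, e2⟩ | ⟨e1, e2⟩ <;> rw [e1, e2] at this
      · exact this.symm
      · exact this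
  · rw [← c0]
    exact Finset.sum_congr rfl fun i _ => sub_eq_zero.1 (hd i)

/-- The reconstruction of a trace-zero tensor modulo the null ones. -/
theorem recon_null {X : Matrix I8 I8 F} (hX : chi X = 0) :
    IsNull (X - ∑ j, coord X j • basF F j) := by
  refine null_of_coord ?_ ?_
  · rw [map_sub, map_sum, sub_eq_zero]
    funext i
    simp [coord_basF]
  · rw [chi_eq_trace, Matrix.sub_mul, Matrix.trace_sub, ← chi_eq_trace, hX, Matrix.sum_mul,
      Matrix.trace_sum, zero_sub, neg_eq_zero]
    refine Finset.sum_eq_zero fun j _ => ?_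
    rw [Matrix.smul_mul, Matrix.trace_smul, ← chi_eq_trace, chi_basF, smul_zero]

/-- The adjoint representation. -/
def adM (g : O8 F) : Matrix I28 I28 F :=
  Matrix.of fun i j => coord (mat8 g * basF F j * (mat8 g)ᵀ) i

theorem adM_one : adM (1 : O8 F) = 1 := by
  ext i j
  rw [adM, Matrix.of_apply, show mat8 (1 : O8 F) = 1 from rfl, transpose_one, Matrix.mul_one,
    Matrix.one_mul, coord_basF, Matrix.one_apply]

theorem adM_mul (g h : O8 F) : adM (g * h) = adM g * adM h := by
  ext i j
  set Y := mat8 h * basF F j * (mat8 h)ᵀ with hY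
  have hn := coord_null (isNull_conj g (recon_null (X := Y) (by rw [hY, chi_conj, chi_basF])))
  rw [Matrix.mul_sub, Matrix.sub_mul, map_sub, sub_eq_zero] at hn
  rw [adM, Matrix.of_apply, show mat8 (g * h) * basF F j * (mat8 (g * h))ᵀ
      = mat8 g * Y * (mat8 g)ᵀ by
    rw [show mat8 (g * h) = mat8 g * mat8 h from rfl, transpose_mul, hY]
    simp only [Matrix.mul_assoc], hn, Matrix.mul_sum, Matrix.sum_mul, map_sum, Finset.sum_apply,
    Matrix.mul_apply]
  refine Finset.sum_congr rfl fun k _ => ?_
  rw [Matrix.mul_smul, Matrix.smul_mul, map_smul, Pi.smul_apply, smul_eq_mul, adM, adM,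
    Matrix.of_apply, Matrix.of_apply, hY]
  ring

theorem adM_root (r : Fin 24) (t : F) : adM (root r t) = chevD4.xMat F r t := by
  have hx : chevD4.x F r.val t = chevD4.xMat F r t :=
    dif_pos (show r.val < chevD4.nroots from r.isLt)
  rw [← hx, ChevalleyCore.x_eq_xR ChevalleyDataD4.cert r.isLt, ChevalleyExp.xR]
  ext i j
  have k1 : coord (rootF F r * basF F j + basF F j * (rootF F r)ᵀ) i
      = ((ChevalleyEngine.xm chevD4 1 r.val i j : ℤ) : F) := by
    rw [coord_apply, rootF, basF, ← transpose_map, ← Matrix.map_mul, ← Matrix.map_mul,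
      ← Matrix.map_add _ (map_add (Int.castRingHom F)), coordFun_map, rootM_mul,
      mul_rootM_transpose, table_one]
    rfl
  have k2 : coord (rootF F r * basF F j * (rootF F r)ᵀ) i
      = ((ChevalleyEngine.xm chevD4 2 r.val i j : ℤ) : F) := by
    rw [coord_apply, rootF, basF, ← transpose_map, ← Matrix.map_mul, ← Matrix.map_mul,
      coordFun_map, rootM_mul, mul_rootM_transpose, (table_two r i j).1]
    rfl
  have k3 : ChevalleyEngine.xm chevD4 3 r.val i j = 0 := (table_two r i j).2
  have e : mat8 (root r t) * basF F j * (mat8 (root r t))ᵀ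
      = basF F j + t • (rootF F r * basF F j + basF F j * (rootF F r)ᵀ)
        + t ^ 2 • (rootF F r * basF F j * (rootF F r)ᵀ) := by
    rw [mat8_root, transpose_add, transpose_one, transpose_smul]
    simp only [add_mul, mul_add, one_mul, mul_one, Matrix.smul_mul, Matrix.mul_smul, smul_add]
    module
  rw [adM, Matrix.of_apply, e, map_add, map_add, map_smul, map_smul]
  show _ = (1 : Matrix I28 I28 F) i j + t * ((ChevalleyEngine.xm chevD4 1 r.val i j : ℤ) : F)
    + t ^ 2 * ((ChevalleyEngine.xm chevD4 2 r.val i j : ℤ) : F)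
    + t ^ 3 * ((ChevalleyEngine.xm chevD4 3 r.val i j : ℤ) : F)
  rw [k3]
  simp only [Pi.add_apply, Pi.smul_apply, k1, k2, coord_basF, Matrix.one_apply, smul_eq_mul]
  push_cast
  ring

/-- The adjoint representation as a homomorphism into the invertible matrices. -/
def adHom : O8 F →* GL I28 F :=
  MonoidHom.toHomUnits
    { toFun := adM
      map_one' := adM_one
      map_mul' := adM_mul }

theorem coe_adHom (g : O8 F) : ((adHom g : GL I28 F) : Matrix I28 I28 F) = adM g := rfl

theorem map_rootGroup : (rootGroup F).map (adHom (F := F)) = chevD4.group F := by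
  rw [rootGroup, MonoidHom.map_closure, ChevalleyDatum.group]
  refine congrArg Subgroup.closure (Set.ext fun x => ⟨?_, ?_⟩)
  · rintro ⟨_, ⟨p, rfl⟩, rfl⟩
    exact ⟨p.1, p.2, (coe_adHom _).trans (adM_root _ _)⟩
  · rintro ⟨r, t, hx⟩
    exact ⟨root r t, ⟨(r, t), rfl⟩, Units.ext ((coe_adHom _).trans ((adM_root r t).trans hx.symm))⟩

theorem phiM_null {X : Matrix I8 I8 F} (hX : IsNull X) : phiM X = 0 := by
  rw [phiM, hX.1, sub_self, Matrix.zero_mul]

theorem phiM_conj (g : O8 F) (X : Matrix I8 I8 F) :
    phiM (mat8 g * X * (mat8 g)ᵀ) * mat8 g = mat8 g * phiM X := by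
  rw [phiM, phiM, transpose_mul, transpose_mul, transpose_transpose]
  conv_rhs => rw [← polar_congr g]
  simp only [Matrix.sub_mul, Matrix.mul_sub, Matrix.mul_assoc]

/-- An isometry acting trivially commutes with every root element. -/
theorem commute_of_adM_eq_one {g : O8 F} (hg : adM g = 1) (r : Fin 24) (t : F) :
    g * root r t = root r t * g := by
  have hn : IsNull (mat8 g * basF F (.inr r) * (mat8 g)ᵀ - basF F (.inr r)) := by
    refine null_of_coord ?_ ?_
    · funext i
      have e := congrFun (congrFun hg i) (.inr r)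
      rw [adM, Matrix.of_apply, Matrix.one_apply] at e
      rw [map_sub, Pi.sub_apply, e, coord_basF, sub_self, Pi.zero_apply]
    · rw [chi_eq_trace, Matrix.sub_mul, Matrix.trace_sub, ← chi_eq_trace, ← chi_eq_trace,
        chi_conj, sub_self]
  have h1 := phiM_null hn
  rw [phiM, transpose_sub, sub_sub_sub_comm, Matrix.sub_mul, sub_eq_zero] at h1
  change phiM (mat8 g * basF F (.inr r) * (mat8 g)ᵀ) = phiM (basF F (.inr r)) at h1
  have h2 := phiM_conj g (basF F (.inr r))
  rw [h1, basF, phiM_map, bas_phi] at h2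
  change rootF F r * mat8 g = mat8 g * rootF F r at h2
  refine mat8_ext ?_
  rw [show mat8 (g * root r t) = mat8 g * mat8 (root r t) from rfl,
    show mat8 (root r t * g) = mat8 (root r t) * mat8 g from rfl, mat8_root, Matrix.mul_add,
    Matrix.add_mul, Matrix.mul_one, Matrix.one_mul, Matrix.smul_mul, Matrix.mul_smul, h2]

/-- Scalar isometries act trivially. -/
theorem adM_eq_one_of_scalar {g : O8 F} {a : F} (hg : mat8 g = a • 1) (ha : a * a = 1) :
    adM g = 1 := by
  ext i j
  rw [adM, Matrix.of_apply, hg, transpose_smul, transpose_one, Matrix.smul_mul, Matrix.one_mul,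
    Matrix.mul_smul, Matrix.mul_one, smul_smul, ha, one_smul, coord_basF, Matrix.one_apply]

end Cfsg.Agent.DFourAdjoint
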