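import Mathlib
import Cfsg.Agent.Lib.DFourRoots

/-!
The root elements generate the commutator subgroup of the split eight-dimensional orthogonal group,
over every field.
-/

set_option autoImplicit false
set_option linter.unusedSectionVars false

open Matrix Cfsg.Agent.DFourRoots
open scoped Matrix commutatorElement

namespace Cfsg.Agent.DFourOmega

variable {F : Type*} [Field F]

/-- The hyperbolic plane of a coordinate. -/
def plane (a : I8) : Fin 4 := Sum.elim id id a

theorem plane_bar (a : I8) : plane (bar a) = plane a := by rcases a with i | i <;> rfl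

instance (a b : I8) : Decidable (RootPair a b) := inferInstanceAs (Decidable (_ ∧ _))

theorem rootPair_of_plane {a b : I8} (h : plane a ≠ plane b) : RootPair a b :=
  ⟨fun e => h (by rw [e]), fun e => h (by rw [e, plane_bar])⟩

theorem eq_or_eq_of_plane {c : I8} {k : Fin 4} (h : plane c = k) : c = .inl k ∨ c = .inr k := by
  rcases c with i | i
  · exact Or.inl (congrArg _ h)
  · exact Or.inr (congrArg _ h)

/-- The root subgroup of the planes from `k` on. -/
def upperRoots (F : Type*) [Field F] (k : Fin 4) : Subgroup (O8 F) :=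
  Subgroup.closure {g | ∃ a b, ∃ (h : RootPair a b) (t : F),
    k ≤ plane a ∧ k ≤ plane b ∧ g = pelt a b h t}

theorem upperRoots_le (k : Fin 4) : upperRoots F k ≤ rootGroup F := by
  rw [upperRoots, Subgroup.closure_le]
  rintro _ ⟨a, b, h, t, -, -, rfl⟩
  exact pelt_mem a b h t

theorem pelt_mem_upper {k : Fin 4} {a b : I8} (h : RootPair a b) (t : F) (ha : k ≤ plane a)
    (hb : k ≤ plane b) : pelt a b h t ∈ upperRoots F k :=
  Subgroup.subset_closure ⟨a, b, h, t, ha, hb, rfl⟩

theorem upper_coord {k : Fin 4} {g : O8 F} (hg : g ∈ upperRoots F k) (v : I8 → F) (c : I8)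
    (hc : plane c < k) : ap g v c = v c := by
  induction hg using Subgroup.closure_induction generalizing v with
  | mem g hg =>
    obtain ⟨a, b, h, t, ha, hb, rfl⟩ := hg
    have h1 : c ≠ a := fun e => (not_le.2 hc) (e ▸ ha)
    have h2 : c ≠ b := fun e => (not_le.2 hc) (e ▸ hb)
    rw [ap_pelt, pairFun_apply h, if_neg h1, if_neg h2]
  | one => rw [ap_one]
  | mul g g' _ _ ih ih' => rw [ap_mul, ih, ih']
  | inv g _ ih =>
    rw [← ih (ap g⁻¹ v), ← ap_mul, mul_inv_cancel, ap_one]

theorem upper_fix {k : Fin 4} {g : O8 F} (hg : g ∈ upperRoots F k) (c : I8) (hc : plane c < k) :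
    ap g (Pi.single c 1) = Pi.single c 1 := by
  induction hg using Subgroup.closure_induction with
  | mem g hg =>
    obtain ⟨a, b, h, t, ha, hb, rfl⟩ := hg
    have h1 : bar a ≠ c := fun e => (not_le.2 hc) (by rw [← e, plane_bar]; exact ha)
    have h2 : bar b ≠ c := fun e => (not_le.2 hc) (by rw [← e, plane_bar]; exact hb)
    rw [ap_pelt, pairFun, Pi.single_eq_of_ne h1, Pi.single_eq_of_ne h2]
    simp
  | one => rw [ap_one]
  | mul g g' _ _ ih ih' => rw [ap_mul, ih', ih]
  | inv g _ ih => exact ap_inv ih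

theorem coord_of_fix {g : O8 F} {c : I8} (h : ap g (Pi.single (bar c) 1) = Pi.single (bar c) 1)
    (v : I8 → F) : ap g v c = v c := by
  have e := ap_pol g v (Pi.single (bar c) 1)
  rw [h, pol8_single, pol8_single, bar_bar, mul_one, mul_one] at e
  exact e

theorem clear_first {k : Fin 4} {v : I8 → F} (hv : v (.inl k) ≠ 0) (s : Finset I8)
    (hs : ∀ c ∈ s, k < plane c) :
    ∃ e ∈ upperRoots F k, ∀ c, c ≠ .inr k → ap e v c = if c ∈ s then 0 else v c := by
  induction s using Finset.induction_on with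
  | empty => exact ⟨1, one_mem _, fun c _ => by simp [ap_one]⟩
  | @insert x s hx ih =>
    obtain ⟨e, he, hev⟩ := ih fun c hc => hs c (Finset.mem_insert_of_mem hc)
    have hxk := hs x (Finset.mem_insert_self x s)
    have hp : RootPair x (.inr k) := rootPair_of_plane (ne_of_gt hxk)
    have hk : ap e v (.inl k) = v (.inl k) := by
      rw [hev _ (by simp), if_neg fun h => lt_irrefl k
        (show k < k from hs (.inl k) (Finset.mem_insert_of_mem h))]
    refine ⟨pelt x (.inr k) hp (-(ap e v x) / v (.inl k)) * e,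
      mul_mem (pelt_mem_upper hp _ hxk.le le_rfl) he, fun c hc => ?_⟩
    rw [ap_mul, ap_pelt, pairFun_apply hp]
    by_cases hcx : c = x
    · subst hcx
      rw [if_pos rfl, if_pos (Finset.mem_insert_self c s), bar_inr, hk]
      field_simp
      ring
    · rw [if_neg hcx, if_neg hc, hev c hc]
      simp [Finset.mem_insert, hcx]

theorem clear_partner {k : Fin 4} {v : I8 → F} (hv : v (.inr k) = 1) (s : Finset I8)
    (hs : ∀ c ∈ s, k < plane c) :
    ∃ e ∈ upperRoots F k, ap e (Pi.single (.inl k) 1) = Pi.single (.inl k) 1 ∧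
      ∀ c, c ≠ .inl k → ap e v c = if c ∈ s then 0 else v c := by
  induction s using Finset.induction_on with
  | empty => exact ⟨1, one_mem _, ap_one _, fun c _ => by simp [ap_one]⟩
  | @insert x s hx ih =>
    obtain ⟨e, he, hfix, hev⟩ := ih fun c hc => hs c (Finset.mem_insert_of_mem hc)
    have hxk := hs x (Finset.mem_insert_self x s)
    have hp : RootPair x (.inl k) := rootPair_of_plane (ne_of_gt hxk)
    have hk : ap e v (.inr k) = 1 := by
      rw [hev _ (by simp), if_neg fun h => lt_irrefl k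
        (show k < k from hs (.inr k) (Finset.mem_insert_of_mem h)), hv]
    refine ⟨pelt x (.inl k) hp (-(ap e v x)) * e,
      mul_mem (pelt_mem_upper hp _ hxk.le le_rfl) he, ?_, fun c hc => ?_⟩
    · have h1 : bar x ≠ .inl k := fun e' => hp.2 e'.symm
      rw [ap_mul, hfix, ap_pelt, pairFun, Pi.single_eq_of_ne h1, bar_inl,
        Pi.single_eq_of_ne (by simp)]
      simp
    rw [ap_mul, ap_pelt, pairFun_apply hp]
    by_cases hcx : c = x
    · subst hcx
      rw [if_pos rfl, if_pos (Finset.mem_insert_self c s), bar_inl, hk]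
      ring
    · rw [if_neg hcx, if_neg hc, hev c hc]
      simp [Finset.mem_insert, hcx]

theorem q8_two (k : Fin 4) (x y : F) :
    q8 F (Pi.single (.inl k) x + Pi.single (.inr k) y) = x * y := by
  rw [q8_add, q8_single, q8_single, pol8_single_inr]
  simp

theorem eq_two {k : Fin 4} {w : I8 → F} (h : ∀ c, plane c ≠ k → w c = 0) :
    w = Pi.single (.inl k) (w (.inl k)) + Pi.single (.inr k) (w (.inr k)) := by
  funext c
  by_cases h1 : plane c = k
  · rcases eq_or_eq_of_plane h1 with rfl | rfl <;> simp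
  · have e1 : c ≠ .inl k := fun e => h1 (by rw [e]; rfl)
    have e2 : c ≠ .inr k := fun e => h1 (by rw [e]; rfl)
    rw [Pi.add_apply, Pi.single_eq_of_ne e1, Pi.single_eq_of_ne e2, h c h1, add_zero]

theorem exists_to_first {k : Fin 4} (hk : k < 3) {v : I8 → F} (hq : q8 F v = 0) (hne : v ≠ 0)
    (hlow : ∀ c, plane c < k → v c = 0) :
    ∃ e ∈ upperRoots F k, ap e v = Pi.single (.inl k) 1 := by
  classical
  have hj : k < (3 : Fin 4) := hk
  -- a non-zero leading coordinate suffices
  have main : ∀ v : I8 → F, q8 F v = 0 → (∀ c, plane c < k → v c = 0) → v (.inl k) ≠ 0 →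
      ∃ e ∈ upperRoots F k, ap e v = Pi.single (.inl k) 1 := by
    intro v hq hlow hv
    obtain ⟨e, he, hev⟩ := clear_first hv (Finset.univ.filter fun c => k < plane c)
      (fun c hc => (Finset.mem_filter.1 hc).2)
    have hz : ∀ c, plane c ≠ k → ap e v c = 0 := by
      intro c hc
      have hc' : c ≠ .inr k := fun e' => hc (by rw [e']; rfl)
      rw [hev c hc']
      rcases lt_or_gt_of_ne hc with h | h
      · simp [not_lt.2 h.le, hlow c h]
      · simp [h]
    have hk0 : ap e v (.inl k) = v (.inl k) := by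
      rw [hev _ (by simp)]
      simp [show ¬ k < plane (Sum.inl k : I8) from lt_irrefl k]
    have hy : ap e v (.inr k) = 0 := by
      have := ap_q e v
      rw [eq_two hz, q8_two, hk0, hq] at this
      exact (mul_eq_zero.1 this).resolve_left hv
    have h1 : ap e v = Pi.single (.inl k) (v (.inl k)) := by
      rw [eq_two hz, hk0, hy, Pi.single_zero, add_zero]
    -- normalise the leading coordinate
    set a := v (.inl k)
    have hp : RootPair (Sum.inl 3) (.inr k : I8) := rootPair_of_plane (ne_of_gt hj)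
    have hp' : RootPair (.inl k : I8) (Sum.inr 3) := rootPair_of_plane (ne_of_lt hj)
    refine ⟨pelt _ _ hp (-a) * (pelt _ _ hp' ((1 - a) / a) * (pelt _ _ hp 1 * e)),
      mul_mem (pelt_mem_upper hp _ hj.le le_rfl) (mul_mem (pelt_mem_upper hp' _ le_rfl hj.le)
        (mul_mem (pelt_mem_upper hp _ hj.le le_rfl) he)), ?_⟩
    have n1 : k ≠ 3 := ne_of_lt hj
    rw [ap_mul, ap_mul, ap_mul, h1, ap_pelt, ap_pelt, ap_pelt]
    funext c
    simp only [pairFun_apply hp, pairFun_apply hp', bar_inl, bar_inr, Pi.single_apply]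
    have hne' : a ≠ 0 := hv
    rcases c with i | i <;> simp only [Sum.inl.injEq, Sum.inr.injEq, reduceCtorEq, if_false] <;>
      split_ifs <;> simp_all
  by_cases hv : v (.inl k) = 0
  · have step : ∀ v : I8 → F, q8 F v = 0 → (∀ c, plane c < k → v c = 0) → v (.inl k) = 0 →
        ∀ c, k < plane c → v c ≠ 0 → ∃ e ∈ upperRoots F k, ap e v = Pi.single (.inl k) 1 := by
      intro v hq hlow hv c hc hvc
      have hp : RootPair (.inl k) (bar c) := rootPair_of_plane (by
        rw [plane_bar]; exact ne_of_lt hc)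
      have hm : pelt _ _ hp (1 : F) ∈ upperRoots F k :=
        pelt_mem_upper hp 1 le_rfl (by rw [plane_bar]; exact hc.le)
      obtain ⟨e, he, hev⟩ := main (ap (pelt _ _ hp (1 : F)) v) (by rw [ap_q, hq])
        (fun d hd => by rw [upper_coord hm v d hd, hlow d hd])
        (by rw [ap_pelt, pairFun_apply hp, if_pos rfl, bar_bar, hv]; simpa using hvc)
      exact ⟨e * pelt _ _ hp 1, mul_mem he hm, by rw [ap_mul, hev]⟩
    by_cases hup : ∃ c, k < plane c ∧ v c ≠ 0
    · obtain ⟨c, hc, hvc⟩ := hup
      exact step v hq hlow hv c hc hvc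
    · push Not at hup
      have hy : v (.inr k) ≠ 0 := fun h0 => hne (funext fun c => by
        rcases lt_trichotomy (plane c) k with h | h | h
        · exact hlow c h
        · rcases eq_or_eq_of_plane h with rfl | rfl
          · exact hv
          · exact h0
        · exact hup c h)
      have hp : RootPair (Sum.inl 3) (.inl k : I8) := rootPair_of_plane (ne_of_gt hj)
      have hm : pelt _ _ hp (1 : F) ∈ upperRoots F k := pelt_mem_upper hp 1 hj.le le_rfl
      have h3 : (Sum.inl 3 : I8) ≠ .inl k := fun e => (ne_of_gt hj) (Sum.inl_injective e)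
      have e3 : v (.inl 3) = 0 := hup (.inl 3) hj
      have e3' : v (.inr 3) = 0 := hup (.inr 3) hj
      obtain ⟨e, he, hev⟩ := step (ap (pelt _ _ hp (1 : F)) v) (by rw [ap_q, hq])
        (fun d hd => by rw [upper_coord hm v d hd, hlow d hd])
        (by rw [ap_pelt, pairFun_apply hp, if_neg h3.symm, if_pos rfl, bar_inl, hv, e3']; ring)
        (.inl 3) hj
        (by rw [ap_pelt, pairFun_apply hp, if_pos rfl, bar_inl, e3]; simpa using hy)
      exact ⟨e * pelt _ _ hp 1, mul_mem he hm, by rw [ap_mul, hev]⟩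
  · exact main v hq hlow hv

theorem exists_reduce (k : ℕ) (hk : k ≤ 3) (g : O8 F) :
    ∃ e ∈ rootGroup F, ∀ c, (plane c : ℕ) < k → ap (e * g) (Pi.single c 1) = Pi.single c 1 := by
  classical
  induction k with
  | zero => exact ⟨1, one_mem _, fun c h => absurd h (Nat.not_lt_zero _)⟩
  | succ k ih =>
    obtain ⟨e, he, hfix⟩ := ih (Nat.le_of_succ_le hk)
    let kk : Fin 4 := ⟨k, by omega⟩
    have hk3 : kk < 3 := Fin.lt_def.2 (show k < 3 by omega)
    have hlt : ∀ {c : I8}, plane c < kk → (plane c : ℕ) < k := fun h => h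
    have hcoord : ∀ (v : I8 → F) c, plane c < kk → ap (e * g) v c = v c := fun v c hc =>
      coord_of_fix (hfix (bar c) (by rw [plane_bar]; exact hlt hc)) v
    -- the first vector
    obtain ⟨e1, he1, h1⟩ := exists_to_first hk3 (v := ap (e * g) (Pi.single (.inl kk) 1))
      (by rw [ap_q, q8_single])
      (fun h => by
        have h' := congrArg (ap (e * g)⁻¹) h
        rw [← ap_mul, inv_mul_cancel, ap_one] at h'
        simp [ap] at h')
      (fun c hc => by
        rw [hcoord _ c hc, Pi.single_eq_of_ne]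
        rintro rfl
        exact lt_irrefl _ hc)
    have hfix1 : ∀ c, plane c < kk → ap (e1 * (e * g)) (Pi.single c 1) = Pi.single c 1 :=
      fun c hc => by rw [ap_mul, hfix c (hlt hc), upper_fix he1 c hc]
    have h1' : ap (e1 * (e * g)) (Pi.single (.inl kk) 1) = Pi.single (.inl kk) 1 := by
      rw [ap_mul]; exact h1
    -- the second vector
    set v := ap (e1 * (e * g)) (Pi.single (.inr kk) 1) with hv
    have hvy : v (.inr kk) = 1 := by
      rw [hv, coord_of_fix (by rw [bar_inr]; exact h1')]
      simp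
    have hvlow : ∀ c, plane c < kk → v c = 0 := fun c hc => by
      rw [hv, coord_of_fix (hfix1 (bar c) (by rwa [plane_bar])), Pi.single_eq_of_ne]
      rintro rfl
      exact lt_irrefl _ hc
    obtain ⟨e2, he2, h2fix, h2⟩ := clear_partner hvy (Finset.univ.filter fun c => kk < plane c)
      (fun c hc => (Finset.mem_filter.1 hc).2)
    have hz : ∀ c, plane c ≠ kk → ap e2 v c = 0 := fun c hc => by
      have hc' : c ≠ .inl kk := fun e' => hc (by rw [e']; rfl)
      rw [h2 c hc']
      rcases lt_or_gt_of_ne hc with h | h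
      · simp [not_lt.2 h.le, hvlow c h]
      · simp [h]
    have hy' : ap e2 v (.inr kk) = 1 := by
      rw [h2 _ (by simp)]
      simp [show ¬ kk < plane (Sum.inr kk : I8) from lt_irrefl kk, hvy]
    have hx' : ap e2 v (.inl kk) = 0 := by
      have := ap_q e2 v
      rw [eq_two hz, q8_two, hy', mul_one, hv, ap_q, q8_single] at this
      exact this
    refine ⟨e2 * (e1 * e), mul_mem (upperRoots_le kk he2) (mul_mem (upperRoots_le kk he1) he),
      fun c hc => ?_⟩
    rw [show e2 * (e1 * e) * g = e2 * (e1 * (e * g)) by group, ap_mul]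
    rcases Nat.lt_succ_iff_lt_or_eq.1 hc with h | h
    · rw [hfix1 c h, upper_fix he2 c h]
    · rcases eq_or_eq_of_plane (c := c) (k := kk) (Fin.ext h) with rfl | rfl
      · rw [h1', h2fix]
      · rw [← hv, eq_two hz, hx', hy', Pi.single_zero, zero_add]

/-- The isometries of the last plane. -/
def IsLast (g : O8 F) (l : F) (σ : Bool) : Prop :=
  l ≠ 0 ∧ (∀ c, plane c < 3 → ap g (Pi.single c 1) = Pi.single c 1) ∧
    ap g (Pi.single (.inl 3) 1) = Pi.single (bif σ then .inr 3 else .inl 3) l ∧
    ap g (Pi.single (.inr 3) 1) = Pi.single (bif σ then .inl 3 else .inr 3) l⁻¹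

theorem exists_last (g : O8 F) : ∃ e ∈ rootGroup F, ∃ l σ, IsLast (e * g) l σ := by
  obtain ⟨e, he, hfix⟩ := exists_reduce 3 le_rfl g
  refine ⟨e, he, ?_⟩
  have hfix' : ∀ c, plane c < 3 → ap (e * g) (Pi.single c 1) = Pi.single c 1 := fun c hc =>
    hfix c hc
  have hz : ∀ (d : I8), plane d = 3 → ∀ c, plane c ≠ 3 → ap (e * g) (Pi.single d 1) c = 0 := by
    intro d hd c hc
    have h3 : plane c < 3 := lt_of_le_of_ne (Fin.le_last _) hc
    rw [coord_of_fix (hfix' (bar c) (by rwa [plane_bar])), Pi.single_eq_of_ne]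
    rintro rfl
    exact hc hd
  have hE := eq_two (hz (.inl 3) rfl)
  have hF := eq_two (hz (.inr 3) rfl)
  set x := ap (e * g) (Pi.single (.inl 3) 1) (.inl 3)
  set y := ap (e * g) (Pi.single (.inl 3) 1) (.inr 3)
  set x' := ap (e * g) (Pi.single (.inr 3) 1) (.inl 3)
  set y' := ap (e * g) (Pi.single (.inr 3) 1) (.inr 3)
  have qe := ap_q (e * g) (Pi.single (.inl 3) 1)
  rw [hE, q8_two, q8_single] at qe
  have qf := ap_q (e * g) (Pi.single (.inr 3) 1)
  rw [hF, q8_two, q8_single] at qf
  have qp := ap_pol (e * g) (Pi.single (.inl 3) 1) (Pi.single (.inr 3) 1)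
  rw [hE, hF, pol8_single_inr, Pi.single_eq_same, one_mul] at qp
  have qp' : x * y' + y * x' = 1 := by
    rw [← qp]
    simp [pol8, Fin.sum_univ_four, Pi.single_apply]
  rcases mul_eq_zero.1 qe with hx | hy
  · rw [hx, zero_mul, zero_add] at qp'
    have hy : y ≠ 0 := left_ne_zero_of_mul_eq_one qp'
    have hy' : y' = 0 := (mul_eq_zero.1 qf).resolve_left (right_ne_zero_of_mul_eq_one qp')
    refine ⟨y, true, hy, hfix', ?_, ?_⟩
    · rw [hE, hx, Pi.single_zero, zero_add]; rfl
    · rw [hF, hy', Pi.single_zero, add_zero, eq_inv_of_mul_eq_one_right qp']; rfl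
  · rw [hy, zero_mul, add_zero] at qp'
    have hx : x ≠ 0 := left_ne_zero_of_mul_eq_one qp'
    have hx' : x' = 0 := (mul_eq_zero.1 qf).resolve_right (right_ne_zero_of_mul_eq_one qp')
    refine ⟨x, false, hx, hfix', ?_, ?_⟩
    · rw [hE, hy, Pi.single_zero, add_zero]; rfl
    · rw [hF, hx', Pi.single_zero, zero_add, eq_inv_of_mul_eq_one_right qp']; rfl

theorem ap_single_smul (g : O8 F) (c : I8) (a : F) :
    ap g (Pi.single c a) = a • ap g (Pi.single c 1) := by
  rw [← Matrix.mulVec_smul, ← Pi.single_smul, smul_eq_mul, mul_one]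

theorem monomial_conj {g : O8 F} {π : I8 → I8} {cf : I8 → F}
    (hπ : Function.Injective π) (hbar : ∀ c, π (bar c) = bar (π c)) (hcf : ∀ c, cf c ≠ 0)
    (hg : ∀ c, ap g (Pi.single c 1) = Pi.single (π c) (cf c)) {a b : I8} (h : RootPair a b)
    (t : F) : ∃ h' : RootPair (π a) (π b), g * pelt a b h t * g⁻¹ = pelt (π a) (π b) h' (t * cf a * cf b) := by
  have h' : RootPair (π a) (π b) :=
    ⟨fun e => h.1 (hπ e), fun e => h.2 (hπ (by rw [hbar]; exact e))⟩
  refine ⟨h', mul_inv_eq_of_eq_mul (ap_ext fun v => ?_)⟩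
  rw [ap_mul, ap_mul, ap_pelt, ap_pelt]
  have key : ∀ c, v (bar c) = cf c * ap g v (bar (π c)) := by
    intro c
    have := ap_pol g v (Pi.single c 1)
    rw [hg, pol8_single, pol8_single, mul_one] at this
    rw [← this, mul_comm]
  rw [pairFun, pairFun, show ap g (v + (Pi.single a (t * v (bar b)) - Pi.single b (t * v (bar a))))
      = ap g v + (ap g (Pi.single a (t * v (bar b))) - ap g (Pi.single b (t * v (bar a)))) by
    simp [ap, Matrix.mulVec_add, Matrix.mulVec_sub], ap_single_smul g a, ap_single_smul g b, hg, hg,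
    ← Pi.single_smul, ← Pi.single_smul, key a, key b, smul_eq_mul, smul_eq_mul]
  congr 3 <;> ring

theorem last_normalizes {g : O8 F} {l : F} {σ : Bool} (hg : IsLast g l σ) :
    ∀ y ∈ rootGroup F, g * y * g⁻¹ ∈ rootGroup F := by
  obtain ⟨hl, hfix, he, hf⟩ := hg
  let π : I8 → I8 := fun c => bif σ then (if plane c = 3 then bar c else c) else c
  let cf : I8 → F := fun c => if c = .inl 3 then l else if c = .inr 3 then l⁻¹ else 1
  have hπ : Function.Injective π := by
    intro a b e
    cases σ with
    | false => exact e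
    | true =>
      simp only [π, cond_true] at e
      split_ifs at e with h1 h2 h2
      · exact bar_inj e
      · exact absurd (by rw [← e, plane_bar, h1]) h2
      · exact absurd (by rw [e, plane_bar, h2]) h1
      · exact e
  have hbar : ∀ c, π (bar c) = bar (π c) := fun c => by
    cases σ with
    | false => rfl
    | true =>
      simp only [π, cond_true, plane_bar]
      split_ifs <;> rfl
  have hcf : ∀ c, cf c ≠ 0 := fun c => by
    simp only [cf]; split_ifs <;> first | exact hl | exact inv_ne_zero hl | exact one_ne_zero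
  have hg : ∀ c, ap g (Pi.single c 1) = Pi.single (π c) (cf c) := fun c => by
    by_cases hc : plane c = 3
    · rcases eq_or_eq_of_plane hc with rfl | rfl <;> cases σ
      all_goals first
        | (rw [he]; simp [π, cf, plane, bar])
        | (rw [hf]; simp [π, cf, plane, bar])
    · rw [hfix c (lt_of_le_of_ne (Fin.le_last _) hc)]
      have h1 : c ≠ .inl 3 := fun e => hc (by rw [e]; rfl)
      have h2 : c ≠ .inr 3 := fun e => hc (by rw [e]; rfl)
      cases σ <;> simp [π, cf, h1, h2, hc]
  intro y hy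
  induction hy using Subgroup.closure_induction with
  | mem y hy =>
    obtain ⟨p, rfl⟩ := hy
    obtain ⟨h', e⟩ := monomial_conj hπ hbar hcf hg (rootData_pair p.1)
      (((rootData p.1).2.2 : F) * p.2)
    show g * root p.1 p.2 * g⁻¹ ∈ _
    rw [root, e]
    exact pelt_mem _ _ h' _
  | one => simp
  | mul y z _ _ h1 h2 =>
    have := mul_mem h1 h2
    rwa [show g * y * g⁻¹ * (g * z * g⁻¹) = g * (y * z) * g⁻¹ by group] at this
  | inv y _ h1 =>
    have := inv_mem h1
    rwa [show (g * y * g⁻¹)⁻¹ = g * y⁻¹ * g⁻¹ by group] at this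

theorem rootGroup_normal : (rootGroup F).Normal := ⟨fun y hy g => by
  obtain ⟨e, he, l, σ, hk⟩ := exists_last g
  have h1 := last_normalizes hk y hy
  have h2 := mul_mem (mul_mem (inv_mem he) h1) he
  rwa [show e⁻¹ * (e * g * y * (e * g)⁻¹) * e = g * y * g⁻¹ by group] at h2⟩

/-- A torus element of a root. -/
def nn (a b : I8) (h : RootPair a b) (h' : RootPair (bar b) (bar a)) (l : F) : O8 F :=
  pelt a b h l * pelt (bar b) (bar a) h' (-l⁻¹) * pelt a b h l

theorem ap_nn {a b : I8} (h : RootPair a b) (h' : RootPair (bar b) (bar a)) {l : F} (hl : l ≠ 0)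
    (v : I8 → F) :
    ap (nn a b h h' l) v = fun c => if c = a then l * v (bar b) else if c = bar b then -(v a / l)
      else if c = b then -(l * v (bar a)) else if c = bar a then v b / l else v c := by
  have n1 : a ≠ b := h.1.symm
  have n2 : a ≠ bar b := fun e => h.symm.2 e
  have n3 : a ≠ bar a := (bar_ne a).symm
  have n4 : b ≠ bar a := h.2
  have n5 : b ≠ bar b := (bar_ne b).symm
  have n6 : bar b ≠ bar a := fun e => n1 (bar_inj e).symm
  rw [nn, ap_mul, ap_mul, ap_pelt, ap_pelt, ap_pelt]
  funext c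
  simp only [pairFun_apply h, pairFun_apply h', bar_bar]
  by_cases c1 : c = a
  · subst c1
    simp [n1, n2, n3, n4, n5, n6, n1.symm, n2.symm, n3.symm, n4.symm, n5.symm, n6.symm]
    field_simp
    ring
  by_cases c2 : c = bar b
  · subst c2
    simp [n1, n2, n3, n4, n5, n6, n1.symm, n2.symm, n3.symm, n4.symm, n5.symm, n6.symm]
    field_simp
    ring
  by_cases c3 : c = b
  · subst c3
    simp [n1, n2, n3, n4, n5, n6, n1.symm, n2.symm, n3.symm, n4.symm, n5.symm, n6.symm]
    field_simp
    ring
  by_cases c4 : c = bar a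
  · subst c4
    simp [n1, n2, n3, n4, n5, n6, n1.symm, n2.symm, n3.symm, n4.symm, n5.symm, n6.symm]
    field_simp
    ring
  simp [c1, c2, c3, c4]

/-- The diagonal element of a root. -/
theorem exists_torus {a b : I8} (h : RootPair a b) {l : F} (hl : l ≠ 0) :
    ∃ e ∈ rootGroup F, ∀ (v : I8 → F) c, ap e v c =
      if c = a ∨ c = b then l * v c else if c = bar a ∨ c = bar b then v c / l else v c := by
  have h' : RootPair (bar b) (bar a) :=
    ⟨fun e => h.1 (bar_inj e).symm, fun e => h.2 (by rw [bar_bar] at e; exact e.symm)⟩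
  have n1 : a ≠ b := h.1.symm
  have n2 : a ≠ bar b := fun e => h.symm.2 e
  have n3 : a ≠ bar a := (bar_ne a).symm
  have n4 : b ≠ bar a := h.2
  have n5 : b ≠ bar b := (bar_ne b).symm
  have n6 : bar b ≠ bar a := fun e => n1 (bar_inj e).symm
  have hm : ∀ t : F, nn a b h h' t ∈ rootGroup F := fun t =>
    mul_mem (mul_mem (pelt_mem _ _ _ _) (pelt_mem _ _ _ _)) (pelt_mem _ _ _ _)
  refine ⟨nn a b h h' l * nn a b h h' (-1), mul_mem (hm _) (hm _), fun v c => ?_⟩
  rw [ap_mul, ap_nn h h' hl, ap_nn h h' (neg_ne_zero.2 one_ne_zero)]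
  by_cases c1 : c = a
  · subst c1; simp [n1, n2, n3, n4, n5, n6, n1.symm, n2.symm, n3.symm, n4.symm, n5.symm, n6.symm] <;> field_simp
  by_cases c2 : c = bar b
  · subst c2; simp [n1, n2, n3, n4, n5, n6, n1.symm, n2.symm, n3.symm, n4.symm, n5.symm, n6.symm] <;> field_simp
  by_cases c3 : c = b
  · subst c3; simp [n1, n2, n3, n4, n5, n6, n1.symm, n2.symm, n3.symm, n4.symm, n5.symm, n6.symm] <;> field_simp
  by_cases c4 : c = bar a
  · subst c4; simp [n1, n2, n3, n4, n5, n6, n1.symm, n2.symm, n3.symm, n4.symm, n5.symm, n6.symm] <;> field_simp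
  simp [c1, c2, c3, c4]

theorem exists_square {m : F} (hm : m ≠ 0) :
    ∃ e ∈ rootGroup F, (∀ c, plane c < 3 → ap e (Pi.single c 1) = Pi.single c 1) ∧
      ap e (Pi.single (.inl 3) 1) = Pi.single (.inl 3) (m * m) ∧
      ap e (Pi.single (.inr 3) 1) = Pi.single (.inr 3) (m * m)⁻¹ := by
  obtain ⟨e1, he1, h1⟩ := exists_torus (a := .inl 2) (b := .inl 3)
    (rootPair_of_plane (show (2 : Fin 4) ≠ 3 by decide)) hm
  obtain ⟨e2, he2, h2⟩ := exists_torus (a := .inl 3) (b := .inr 2)
    (rootPair_of_plane (show (3 : Fin 4) ≠ 2 by decide)) hm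
  have key : ∀ c d, ap (e1 * e2) (Pi.single c 1) d =
      (if d = .inl 3 then m * m else if d = .inr 3 then (m * m)⁻¹ else 1)
        * (Pi.single c (1 : F) : I8 → F) d := by
    intro c d
    rw [ap_mul, h1, h2]
    rcases d with i | i <;> fin_cases i <;> simp [bar_inl, bar_inr] <;> field_simp
  refine ⟨e1 * e2, mul_mem he1 he2, fun c hc => ?_, ?_, ?_⟩
  · funext d
    rw [key]
    by_cases hd : d = c
    · subst hd
      have h1 : d ≠ .inl 3 := fun e => absurd hc (by rw [e]; exact lt_irrefl _)
      have h2 : d ≠ .inr 3 := fun e => absurd hc (by rw [e]; exact lt_irrefl _)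
      simp [h1, h2]
    · simp [hd]
  · funext d; rw [key]; by_cases hd : d = .inl 3 <;> simp [hd]
  · funext d; rw [key]; by_cases hd : d = .inr 3 <;> simp [hd]

theorem ext_single {g h : O8 F} (e : ∀ c, ap g (Pi.single c 1) = ap h (Pi.single c 1)) : g = h :=
  mat8_ext (Matrix.ext fun i j => by simpa [ap] using congrFun (e j) i)

theorem last_commute {g g' : O8 F} {l l' : F} {σ σ' : Bool} (hg : IsLast g l σ)
    (hg' : IsLast g' l' σ') : ∃ e ∈ rootGroup F, g * g' = e * (g' * g) := by
  obtain ⟨hl, hfix, he, hf⟩ := hg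
  obtain ⟨hl', hfix', he', hf'⟩ := hg'
  obtain ⟨m, hm, hm2⟩ : ∃ m : F, m ≠ 0 ∧ m = (bif σ then (bif σ' then l' / l else l'⁻¹)
      else (bif σ' then l else 1)) :=
    ⟨_, by cases σ <;> cases σ' <;> simp [hl, hl'], rfl⟩
  obtain ⟨e, hmem, hef, hee, hee'⟩ := exists_square hm
  refine ⟨e, hmem, ext_single fun c => ?_⟩
  by_cases hc : plane c < 3
  · rw [ap_mul, ap_mul, ap_mul, hfix' c hc, hfix c hc, hfix' c hc, hef c hc]
  · have h3 : plane c = 3 := le_antisymm (Fin.le_last _) (not_lt.1 hc)
    rcases eq_or_eq_of_plane h3 with rfl | rfl <;> cases σ <;> cases σ'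
    all_goals
      simp only [cond_true, cond_false] at he hf he' hf' hm2
      subst hm2
      rw [ap_mul, ap_mul, ap_mul]
      simp only [he, he', hf, hf']
      conv_lhs => rw [ap_single_smul]
      simp only [he, he', hf, hf', ← Pi.single_smul, smul_eq_mul]
      conv_rhs => arg 2; rw [ap_single_smul]
      simp only [he, he', hf, hf', ← Pi.single_smul, smul_eq_mul]
      rw [ap_single_smul e]
      simp only [hee, hee', ← Pi.single_smul, smul_eq_mul]
      congr 1
      field_simp

theorem rootGroup_eq_commutator : rootGroup F = commutator (O8 F) := by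
  refine le_antisymm rootGroup_le_commutator ?_
  have := rootGroup_normal (F := F)
  rw [commutator_def, Subgroup.commutator_le]
  intro g _ h _
  rw [← QuotientGroup.eq_one_iff (N := rootGroup F)]
  obtain ⟨e, he, l, σ, hk⟩ := exists_last g
  obtain ⟨e', he', l', σ', hk'⟩ := exists_last h
  obtain ⟨e'', he'', hc⟩ := last_commute hk hk'
  let π := QuotientGroup.mk' (rootGroup F)
  have h1 : ∀ {x : O8 F}, x ∈ rootGroup F → π x = 1 := fun hx => (QuotientGroup.eq_one_iff _).2 hx
  have hc' := congrArg π hc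
  simp only [map_mul, h1 he, h1 he', h1 he'', one_mul] at hc'
  show π ⁅g, h⁆ = 1
  rw [map_commutatorElement, commutatorElement_eq_one_iff_mul_comm]
  exact hc'

/-- An isometry commuting with all root elements is a scalar. -/
theorem scalar_of_commute {g : O8 F}
    (hg : ∀ a b (h : RootPair a b), g * pelt a b h (1 : F) = pelt a b h 1 * g) :
    ∃ a : F, a * a = 1 ∧ mat8 g = a • 1 := by
  let d : I8 → F := fun c => ap g (Pi.single c 1) c
  have key : ∀ a b, RootPair a b → ap g (Pi.single a 1)
      = Pi.single a (d (bar b)) - Pi.single b (ap g (Pi.single (bar b) 1) (bar a)) := by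
    intro a b h
    have n : bar b ≠ bar a := fun e => h.1 (bar_inj e)
    have e := congrArg (fun x : O8 F => ap x (Pi.single (bar b) 1)) (hg a b h)
    simp only [ap_mul, ap_pelt] at e
    rw [pairFun, pairFun, Pi.single_eq_same, Pi.single_eq_of_ne n.symm, mul_one, mul_zero,
      Pi.single_zero, sub_zero, show ap g (Pi.single (bar b) 1 + Pi.single a 1)
        = ap g (Pi.single (bar b) 1) + ap g (Pi.single a 1) from Matrix.mulVec_add _ _ _,
      one_mul, one_mul] at e
    exact add_left_cancel e
  have other : ∀ a c : I8, ∃ b, RootPair a b ∧ b ≠ c := by decide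
  have hdiag : ∀ a, ap g (Pi.single a 1) = Pi.single a (d a) := by
    intro a
    funext c
    by_cases hc : c = a
    · subst hc; simp [d]
    · obtain ⟨b, hb, hbc⟩ := other a c
      rw [key a b hb, Pi.sub_apply, Pi.single_eq_of_ne hc, Pi.single_eq_of_ne hbc.symm,
        Pi.single_eq_of_ne hc, sub_zero]
  have hd : ∀ a b, RootPair a b → d a = d (bar b) := by
    intro a b h
    have e := congrFun (key a b h) a
    rw [Pi.sub_apply, Pi.single_eq_same, Pi.single_eq_of_ne h.1.symm, sub_zero] at e
    exact e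
  have conn : ∀ c : I8, ∃ b b', RootPair (.inl 0) b ∧ RootPair c b' ∧
      bar b = bar b' := by decide
  have hall : ∀ c, d c = d (.inl 0) := fun c => by
    obtain ⟨b, b', h, h', e⟩ := conn c
    rw [hd c b' h', hd _ b h, e]
  refine ⟨d (.inl 0), ?_, Matrix.ext fun i j => ?_⟩
  · have e := ap_pol g (Pi.single (.inl 0) 1) (Pi.single (.inr 0) 1)
    rw [hdiag, hdiag, hall (.inr 0), pol8_single, pol8_single] at e
    simpa [bar] using e
  · have e := congrFun (hdiag j) i
    rw [hall j] at e
    simp only [ap, Matrix.mulVec_single_one, Matrix.col_apply] at e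
    rw [e, Matrix.smul_apply, Matrix.one_apply, Pi.single_apply]
    simp

end Cfsg.Agent.DFourOmega
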