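import Mathlib
import Cfsg.Agent.Lib.OrthUnitaryStd

/-!
Recognition of projective commutator groups of isometry groups: a group with a homomorphism into
an isometry group that has small central kernel and the right order.
-/

set_option autoImplicit false
set_option linter.unusedSectionVars false

namespace Cfsg.Agent.OrthUnitaryIsoCore

open QuadraticMap
open scoped commutatorElement
open Cfsg.Agent.OrthUnitaryQuad
open Cfsg.Agent.OrthUnitaryOmega
open Cfsg.Agent.OrthUnitaryStd

/-- In a perfect group the second centre is the centre. -/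
theorem center_of_perfect {H : Type*} [Group H] (hperf : commutator H = ⊤) (x : H)
    (hx : ∀ y, ⁅x, y⁆ ∈ Subgroup.center H) : x ∈ Subgroup.center H := by
  have hc : ∀ a, a ∈ Subgroup.center H → ∀ b : H, b * a = a * b := fun a ha b =>
    Subgroup.mem_center_iff.1 ha b
  let f : H →* Subgroup.center H :=
    { toFun := fun y => ⟨⁅x, y⁆, hx y⟩
      map_one' := Subtype.ext (commutatorElement_one_right x)
      map_mul' := fun y z => Subtype.ext (by
        show ⁅x, y * z⁆ = ⁅x, y⁆ * ⁅x, z⁆
        have h1 : y * ⁅x, z⁆ * y⁻¹ = ⁅x, z⁆ := by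
          rw [hc _ (hx z) y, mul_inv_cancel_right]
        calc ⁅x, y * z⁆ = ⁅x, y⁆ * (y * ⁅x, z⁆ * y⁻¹) := by
              simp only [commutatorElement_def]; group
          _ = _ := by rw [h1]) }
  rw [Subgroup.mem_center_iff]
  intro y
  have hle : commutator H ≤ f.ker := by
    rw [commutator_def, Subgroup.commutator_le]
    intro a _ b _
    rw [MonoidHom.mem_ker, map_commutatorElement]
    exact Subtype.ext (commutatorElement_eq_one_iff_mul_comm.2
      (hc _ (f b).2 (f a).1))
  have hy : f y = 1 := hle (hperf ▸ Subgroup.mem_top y)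
  exact (commutatorElement_eq_one_iff_mul_comm.1 (congrArg Subtype.val hy)).symm

/-- Groups related by a surjection with small kernel have the same central quotient. -/
theorem nonempty_equiv_central_quotient {H K : Type*} [Group H] [Group K] (ψ : H →* K)
    (hsurj : Function.Surjective ψ) (hker : ψ.ker ≤ Subgroup.center H)
    (hZ : ∀ x, (∀ y, ⁅x, y⁆ ∈ ψ.ker) → x ∈ Subgroup.center H) :
    Nonempty (H ⧸ Subgroup.center H ≃* K ⧸ Subgroup.center K) := by
  set π := (QuotientGroup.mk' (Subgroup.center K)).comp ψ with hπ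
  have hk : π.ker = Subgroup.center H := by
    ext x
    rw [MonoidHom.mem_ker, hπ, MonoidHom.comp_apply, QuotientGroup.mk'_apply,
      QuotientGroup.eq_one_iff]
    constructor
    · intro hx
      refine hZ x fun y => ?_
      rw [MonoidHom.mem_ker, map_commutatorElement, commutatorElement_eq_one_iff_mul_comm]
      exact ((Subgroup.mem_center_iff.1 hx) (ψ y)).symm
    · intro hx
      rw [Subgroup.mem_center_iff]
      intro k
      obtain ⟨y, rfl⟩ := hsurj k
      rw [← map_mul, ← map_mul, Subgroup.mem_center_iff.1 hx y]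
  exact ⟨(QuotientGroup.quotientMulEquivOfEq hk).symm.trans
    (QuotientGroup.quotientKerEquivOfSurjective π
      ((QuotientGroup.mk'_surjective _).comp hsurj))⟩

/-- Isomorphic groups have isomorphic central quotients. -/
theorem nonempty_quotient_congr {H K : Type*} [Group H] [Group K] (e : H ≃* K) :
    Nonempty (H ⧸ Subgroup.center H ≃* K ⧸ Subgroup.center K) :=
  nonempty_equiv_central_quotient e.toMonoidHom e.surjective
    (fun x hx => by
      have h : x = 1 := e.injective (by rw [map_one]; exact hx)
      rw [h]; exact Subgroup.one_mem _)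
    (fun x hx => Subgroup.mem_center_iff.2 fun y => by
      have h : ⁅x, y⁆ = 1 := e.injective (by rw [map_one]; exact hx y)
      exact (commutatorElement_eq_one_iff_mul_comm.1 h).symm)

variable {F : Type*} [Field F] [Fintype F] {V : Type*} [AddCommGroup V] [Module F V]
  {Q : QuadraticForm F V}

/-- The index of the commutator subgroup of an isometry group. -/
theorem index_commutator [Finite V] [FiniteDimensional F V] [DecidableEq F]
    (hQ : (polarBilin Q).Nondegenerate)
    (hn : 2 ≤ Module.finrank F V)
    (hexc : Fintype.card F ≠ 2 ∨ Module.finrank F V ≠ 4) :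
    (commutator (orth Q)).index = if (2 : F) = 0 then 2 else 4 := by
  split_ifs with h2
  · obtain ⟨D, hD⟩ := exists_dickson h2 hQ
    exact (even_main h2 hQ hexc D hD).2.2 (by omega)
  · exact (odd_main h2 (isReg_of_nondegenerate hQ)).2 hn

/-- A lower bound for the index of the commutator subgroup of an isometry group. -/
theorem le_index_commutator [Finite V] [FiniteDimensional F V] [DecidableEq F]
    (hQ : (polarBilin Q).Nondegenerate) (hn : 2 ≤ Module.finrank F V) :
    (if (2 : F) = 0 then 2 else 4) ≤ (commutator (orth Q)).index := by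
  have := finite_orth Q
  split_ifs with h2
  · obtain ⟨D, hD⟩ := exists_dickson h2 hQ
    obtain ⟨v, hv⟩ := OrthUnitaryRefl.exists_map_ne_zero (isReg_of_nondegenerate hQ) (by omega)
    have h0 : (commutator (orth Q)).index ≠ 0 := Subgroup.index_ne_zero_of_finite
    have h1 : (commutator (orth Q)).index ≠ 1 := fun h => by
      have hm : refl Q v hv ∈ commutator (orth Q) :=
        (Subgroup.index_eq_one.1 h) ▸ Subgroup.mem_top _
      have hd : D (refl Q v hv) = 1 := Abelianization.commutator_subset_ker D hm
      rw [hD] at hd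
      exact one_ne_zero (congrArg Multiplicative.toAdd hd)
    omega
  · exact ((odd_main h2 (isReg_of_nondegenerate hQ)).2 hn).ge

/-- In odd characteristic a group generated by squares maps into the commutator subgroup. -/
theorem range_le_of_squares {H : Type*} [Group H] [Finite V] [FiniteDimensional F V]
    (h2 : (2 : F) ≠ 0) (hQ : (polarBilin Q).Nondegenerate) (φ : H →* orth Q)
    (hgen : Subgroup.closure (Set.range fun y : H => y * y) = ⊤) :
    φ.range ≤ commutator (orth Q) := by
  have hdet : ∀ g : orth Q, detHom Q g * detHom Q g = 1 := fun g =>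
    DFunLike.congr_fun (OrthUnitaryCentre.hom_ext
      (OrthUnitaryCentre.reflGroup_top_of_two_ne_zero h2 (isReg_of_nondegenerate hQ))
      (detHom Q * detHom Q) 1 (fun v hv => by
        show detHom Q (refl Q v hv) * detHom Q (refl Q v hv) = 1
        rw [detHom_refl]; simp)) g
  rw [MonoidHom.range_eq_map, ← hgen, MonoidHom.map_closure, Subgroup.closure_le]
  rintro _ ⟨_, ⟨y, rfl⟩, rfl⟩
  refine ((odd_main h2 (isReg_of_nondegenerate hQ)).1 _).2 ⟨?_, ?_⟩
  · rw [map_mul, map_mul]; exact hdet (φ y)
  · rw [map_mul, map_mul]; exact Int.units_mul_self _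

/-- Recognition of `POmega`, general version. -/
theorem nonempty_POmega_equiv {ι : Type} [Fintype ι] [DecidableEq ι] {H : Type*} [Group H]
    [Finite H] [DecidableEq F] (Q : QuadraticForm F (ι → F)) (f : (ι → F) → F)
    (hf : ∀ v, f v = Q v) (hQ : (polarBilin Q).Nondegenerate)
    (hn : 2 ≤ Fintype.card ι)
    (φ : H →* orth Q) (hrange : φ.range ≤ commutator (orth Q))
    (hker : φ.ker ≤ Subgroup.center H)
    (hZ : ∀ x, (∀ y, ⁅x, y⁆ ∈ φ.ker) → x ∈ Subgroup.center H)
    (hkcard : Nat.card φ.ker ≤ if (2 : F) = 0 then 1 else 2)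
    (hcard : Nat.card (isometryGroup F f) ≤ 2 * Nat.card H) :
    Nonempty (POmega F f ≃* H ⧸ Subgroup.center H) ∧
      Nonempty (H ⧸ φ.ker ≃* Omega F f) := by
  have := finite_orth Q
  set C := commutator (orth Q)
  have hle : φ.range = C := by
    refine Subgroup.eq_of_le_of_card_ge hrange ?_
    have h1 : Nat.card φ.ker * Nat.card φ.range = Nat.card H := by
      rw [← Subgroup.index_ker, Subgroup.card_mul_index]
    have h2 := Subgroup.card_mul_index C
    rw [← Nat.card_congr (isometryGroupEquiv Q f hf).toEquiv] at h2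
    have h3 := le_index_commutator hQ
      (by rw [Module.finrank_fintype_fun_eq_card]; exact hn)
    have hpos : 0 < Nat.card φ.range := Nat.card_pos
    split_ifs at hkcard h3 with h
    · nlinarith
    · nlinarith
  set ψ : H →* C := φ.codRestrict C (fun x => hrange ⟨x, rfl⟩) with hψ
  have hsurj : Function.Surjective ψ := fun c => by
    obtain ⟨x, hx⟩ : c.1 ∈ φ.range := by rw [hle]; exact c.2
    exact ⟨x, Subtype.ext hx⟩
  have hkerψ : ψ.ker = φ.ker := by
    ext x
    exact ⟨fun h => congrArg Subtype.val (MonoidHom.mem_ker.1 h),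
      fun h => Subtype.ext (MonoidHom.mem_ker.1 h)⟩
  have eΩ := omegaEquiv Q f (LinearEquiv.refl F (ι → F)) (fun x => hf x)
  obtain ⟨e1⟩ := nonempty_equiv_central_quotient ψ hsurj (hkerψ.trans_le hker)
    (fun x hx => hZ x fun y => hkerψ ▸ hx y)
  obtain ⟨e2⟩ := nonempty_quotient_congr eΩ
  exact ⟨⟨e2.trans e1.symm⟩, ⟨((QuotientGroup.quotientMulEquivOfEq hkerψ.symm).trans
    (QuotientGroup.quotientKerEquivOfSurjective ψ hsurj)).trans eΩ.symm⟩⟩

/-- Recognition of `POmega` by a perfect group. -/
theorem nonempty_POmega_equiv_of_perfect {ι : Type} [Fintype ι] [DecidableEq ι] {H : Type*}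
    [Group H] [Finite H] [DecidableEq F] (Q : QuadraticForm F (ι → F)) (f : (ι → F) → F)
    (hf : ∀ v, f v = Q v) (hQ : (polarBilin Q).Nondegenerate)
    (hn : 2 ≤ Fintype.card ι)
    (φ : H →* orth Q) (hperf : commutator H = ⊤)
    (hker : φ.ker ≤ Subgroup.center H)
    (hkcard : Nat.card φ.ker ≤ if (2 : F) = 0 then 1 else 2)
    (hcard : Nat.card (isometryGroup F f) ≤ 2 * Nat.card H) :
    Nonempty (POmega F f ≃* H ⧸ Subgroup.center H) ∧
      Nonempty (H ⧸ φ.ker ≃* Omega F f) :=
  nonempty_POmega_equiv Q f hf hQ hn φ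
    (by
      rw [MonoidHom.range_eq_map, ← hperf, commutator_def, Subgroup.map_commutator]
      exact Subgroup.commutator_mono le_top le_top)
    hker (fun x hx => center_of_perfect hperf x fun y => hker (hx y)) hkcard hcard

/-- A subgroup inside `{1, z}` has at most two elements, and one if `z = 1`. -/
theorem card_le_ite {H : Type*} [Group H] [DecidableEq F] (K : Subgroup H) (z : H)
    (h : ∀ x ∈ K, x = 1 ∨ x = z) (hz : (2 : F) = 0 → z = 1) :
    Nat.card K ≤ if (2 : F) = 0 then 1 else 2 := by
  split_ifs with h2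
  · have : Subsingleton K := ⟨fun a b => Subtype.ext (by
      rcases h a.1 a.2 with ha | ha <;> rcases h b.1 b.2 with hb | hb <;>
        simp [ha, hb, hz h2])⟩
    exact Finite.card_le_one_iff_subsingleton.2 this
  · have hsub : (K : Set H) ⊆ {1, z} := fun x hx => by
      rcases h x hx with hx | hx <;> simp [hx]
    calc Nat.card K = (K : Set H).ncard := rfl
      _ ≤ ({1, z} : Set H).ncard := Set.ncard_le_ncard hsub
      _ ≤ ({z} : Set H).ncard + 1 := Set.ncard_insert_le _ _
      _ = 2 := by rw [Set.ncard_singleton]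

end Cfsg.Agent.OrthUnitaryIsoCore
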