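import Mathlib
import Cfsg.Agent.Lib.DFourAdjoint
import Cfsg.Agent.Lib.DFourOmega
import Cfsg.Agent.Lib.OrthUnitaryIsoCore

/-!
`D_4(F)` is the projective commutator subgroup of the split eight-dimensional orthogonal group.
-/

set_option autoImplicit false
set_option linter.unusedSectionVars false

open Matrix Cfsg.Lie Cfsg.Agent.DFourRoots Cfsg.Agent.DFourAdjoint Cfsg.Agent.DFourOmega

namespace Cfsg.Agent.DFourIso

variable {F : Type*} [Field F]

/-- The adjoint representation of the group of root elements. -/
def adRoot : ↥(rootGroup F) →* GL I28 F := (adHom (F := F)).comp (rootGroup F).subtype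

theorem range_adRoot : (adRoot (F := F)).range = chevD4.group F := by
  rw [adRoot, MonoidHom.range_comp, Subgroup.range_subtype, map_rootGroup]

theorem ker_adRoot : (adRoot (F := F)).ker = Subgroup.center ↥(rootGroup F) := by
  ext g
  constructor
  · intro hg
    have h1 : adM g.1 = 1 := by
      have := congrArg (fun u : GL I28 F => (u : Matrix I28 I28 F)) (MonoidHom.mem_ker.1 hg)
      rwa [Units.val_one] at this
    have hle : rootGroup F ≤ Subgroup.centralizer {g.1} := by
      refine (Subgroup.closure_le _).2 ?_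
      rintro _ ⟨p, rfl⟩
      exact Subgroup.mem_centralizer_singleton_iff.2 (commute_of_adM_eq_one h1 p.1 p.2).symm
    rw [Subgroup.mem_center_iff]
    exact fun h => Subtype.ext (Subgroup.mem_centralizer_singleton_iff.1 (hle h.2))
  · intro hg
    obtain ⟨a, ha, hm⟩ := scalar_of_commute (g := g.1) fun x y h => by
      have := Subgroup.mem_center_iff.1 hg ⟨pelt x y h 1, pelt_mem x y h 1⟩
      exact (congrArg Subtype.val this).symm
    rw [MonoidHom.mem_ker]
    refine Units.ext ?_
    exact adM_eq_one_of_scalar hm ha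

/-- `D_4(F) ≅ PΩ⁺_8(F)`. -/
theorem nonempty_equiv :
    Nonempty (↥(chevD4.group F) ≃* POmega F (quadFormPlus 4 F)) := by
  obtain ⟨e⟩ : Nonempty (↥(adRoot (F := F)).range ≃* ↥(rootGroup F) ⧸ Subgroup.center ↥(rootGroup F)) :=
    ⟨(QuotientGroup.quotientKerEquivRange (adRoot (F := F))).symm.trans
      (QuotientGroup.quotientMulEquivOfEq ker_adRoot)⟩
  obtain ⟨e'⟩ := OrthUnitaryIsoCore.nonempty_quotient_congr
    (MulEquiv.subgroupCongr (rootGroup_eq_commutator (F := F)))
  rw [← range_adRoot]
  exact ⟨e.trans e'⟩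

end Cfsg.Agent.DFourIso
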