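import Mathlib
import Cfsg.Agent.Lib.AutOrth45Gal
import Cfsg.Agent.Lib.AutOrth45Forms
import Cfsg.Agent.Lib.AutPSLApi
import Cfsg.Agent.Lib.OutPSL52

/-!
A semisimilarity of the minus form over the Frobenius automorphism whose `f`-th power is a
reflection.
-/

set_option autoImplicit false
set_option linter.unusedSectionVars false

namespace Cfsg.Agent.AutOrth45Frob

open QuadraticMap
open scoped Matrix MatrixGroups
open Cfsg.Agent.OrthUnitaryQuad
open Cfsg.Agent.OrthUnitaryRefl
open Cfsg.Agent.OrthUnitaryForms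
open Cfsg.Agent.AutOrth45
open Cfsg.Agent.AutOrth45Api

variable {F : Type*} [Field F] [Fintype F] {p f : ℕ} [Fact p.Prime]

theorem exists_frobenius (hF : Fintype.card F = p ^ f) (hf : 1 ≤ f) :
    ∃ φ : F ≃+* F, orderOf φ = f ∧ ∀ (j : ℕ) (x : F), (φ ^ j) x = x ^ p ^ j := by
  classical
  haveI : CharP F p := charP_of_card_eq_prime_pow hF
  let φ : F ≃+* F := RingEquiv.ofBijective (frobenius F p)
    (Finite.injective_iff_bijective.1 (frobenius F p).injective)
  have hpow : ∀ (j : ℕ) (x : F), (φ ^ j) x = x ^ p ^ j := by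
    intro j
    induction j with
    | zero => intro x; simp
    | succ j ih =>
      intro x
      rw [pow_succ', show (φ * φ ^ j) x = φ ((φ ^ j) x) from rfl, ih]
      show (x ^ p ^ j) ^ p = x ^ p ^ (j + 1)
      rw [← pow_mul, ← pow_succ]
  refine ⟨φ, ?_, hpow⟩
  have hf1 : φ ^ f = 1 := RingEquiv.ext fun x => by
    rw [hpow, ← hF, FiniteField.pow_card]; rfl
  refine (orderOf_eq_iff (by omega)).2 ⟨hf1, fun j hjf hj he => ?_⟩
  have hp1 := (Fact.out : p.Prime).one_lt
  set P : Polynomial F := Polynomial.X ^ p ^ j - Polynomial.X with hP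
  have hdeg : P.natDegree = p ^ j :=
    FiniteField.X_pow_card_pow_sub_X_natDegree_eq F (by omega) hp1
  have hne : P ≠ 0 := FiniteField.X_pow_card_pow_sub_X_ne_zero F (by omega) hp1
  have hsub : (Finset.univ : Finset F).val ⊆ P.roots := fun x _ => by
    rw [Polynomial.mem_roots hne]
    simp [P, ← hpow, he]
  have h1 := (Multiset.card_le_card
    ((Multiset.le_iff_subset Finset.univ.nodup).2 hsub)).trans P.card_roots'
  rw [Finset.card_val, Finset.card_univ, hF, hdeg] at h1
  exact absurd h1 (not_le.2 (Nat.pow_lt_pow_right hp1 hjf))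

/-- The vector of the reflection. -/
def binVec {m : ℕ} (a : F) : (Fin m ⊕ Fin m) ⊕ Fin 2 → F :=
  Sum.elim 0 ![a, -2]

theorem q_binVec {m : ℕ} {a b : F} (hab : IsAniso a b) :
    QuadClassify.qMinus m F a b (binVec a) ≠ 0 := by
  rw [QuadClassify.qMinus_apply]
  simp [quadFormMinus, binVec]
  intro h0
  obtain ⟨h1, h2⟩ := hab a (-2) (by linear_combination h0)
  exact (a_ne_zero_of_two_eq_zero hab (neg_eq_zero.1 h2)) h1

theorem exists_frob (hF : Fintype.card F = p ^ f) (hf : 1 ≤ f) {m : ℕ} {a b : F}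
    (hab : IsAniso a b) :
    ∃ φ : F ≃+* F, orderOf φ = f ∧ ∃ g : GL ((Fin m ⊕ Fin m) ⊕ Fin 2) F,
      IsSemisimilarityPair ⇑(QuadClassify.qMinus m F a b) g φ ∧
      ∀ v, (semi g φ)^[f] v
        = (refl (QuadClassify.qMinus m F a b) (binVec a) (q_binVec hab)).1 v := by
  classical
  obtain ⟨φ, hord, hpow⟩ := exists_frobenius hF hf
  refine ⟨φ, hord, ?_⟩
  haveI : CharP F p := charP_of_card_eq_prime_pow hF
  -- the quadratic extension
  set P : Polynomial F := Polynomial.X ^ 2 + Polynomial.C a * Polynomial.X + Polynomial.C b with hP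
  have hPdeg : P.natDegree = 2 := by rw [hP]; compute_degree!
  have hirr : Irreducible P := by
    refine Polynomial.irreducible_of_degree_le_three_of_not_isRoot
      (by rw [hPdeg]; simp) fun r hr => ?_
    simp [P, Polynomial.IsRoot] at hr
    exact one_ne_zero (hab r 1 (by linear_combination hr)).2
  haveI := Fact.mk hirr
  let E := AdjoinRoot P
  haveI : CharP E p := charP_of_injective_algebraMap (algebraMap F E).injective p
  let ω : E := AdjoinRoot.root P
  let A := algebraMap F E
  have hω : ω ^ 2 + A a * ω + A b = 0 := by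
    have := AdjoinRoot.eval₂_root P
    simp [P] at this
    exact this
  have hωF : ∀ r : F, ω ≠ A r := by
    intro r hr
    rw [hr, ← map_pow, ← map_mul, ← map_add, ← map_add, map_eq_zero] at hω
    exact one_ne_zero (hab r 1 (by linear_combination hω)).2
  have hfin : Module.finrank F E = 2 := by
    rw [(AdjoinRoot.powerBasis hirr.ne_zero).finrank, AdjoinRoot.powerBasis_dim, hPdeg]
  haveI : FiniteDimensional F E := Module.finite_of_finrank_eq_succ hfin
  let T : (Fin 2 → F) →ₗ[F] E :=
    { toFun := fun z => A (z 0) - ω * A (z 1)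
      map_add' := fun z w => by simp [A]; ring
      map_smul' := fun t z => by simp [A, Algebra.smul_def]; ring }
  have hTinj : Function.Injective T := LinearMap.ker_eq_bot.1 (by
    rw [Submodule.eq_bot_iff]
    intro z hz
    have h0 : A (z 0) = ω * A (z 1) := sub_eq_zero.1 hz
    by_cases h1 : z 1 = 0
    · rw [h1, map_zero, mul_zero, map_eq_zero] at h0
      funext i; fin_cases i
      exacts [h0, h1]
    · refine absurd ?_ (hωF (z 0 / z 1))
      rw [map_div₀, h0, mul_div_cancel_right₀ _ ((map_ne_zero A).2 h1)])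
  have hTsurj : Function.Surjective T :=
    (LinearMap.injective_iff_surjective_of_finrank_eq_finrank
      (by rw [hfin, Module.finrank_fin_fun])).1 hTinj
  obtain ⟨u, hu⟩ := hTsurj (ω ^ p)
  -- `ω ^ q` is the other root
  have hq : p ^ f = Fintype.card F := hF.symm
  have hAq : ∀ r : F, (A r) ^ p ^ f = A r := fun r => by
    rw [← map_pow, hq, FiniteField.pow_card]
  have hp1 := (Fact.out : p.Prime).one_lt
  have hconj : ω ^ p ^ f = -A a - ω := by
    have h2 : (ω ^ p ^ f) ^ 2 + A a * ω ^ p ^ f + A b = 0 := by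
      have h1 := congrArg (iterateFrobenius E p f) hω
      simp only [map_add, map_mul, map_zero, map_pow, iterateFrobenius_def, hAq] at h1
      exact h1
    have h3 : (ω ^ p ^ f - ω) * (ω ^ p ^ f + ω + A a) = 0 := by linear_combination h2 - hω
    refine (mul_eq_zero.1 h3).elim (fun h4 => ?_) fun h4 => by linear_combination h4
    exfalso
    set R : Polynomial E := Polynomial.X ^ p ^ f - Polynomial.X with hR
    have hdeg : R.natDegree = p ^ f :=
      FiniteField.X_pow_card_pow_sub_X_natDegree_eq E (by omega) hp1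
    have hne : R ≠ 0 := FiniteField.X_pow_card_pow_sub_X_ne_zero E (by omega) hp1
    let S : Finset E := insert ω (Finset.univ.map ⟨A, (algebraMap F E).injective⟩)
    have hsub : S.val ⊆ R.roots := by
      intro x hx
      rw [Polynomial.mem_roots hne]
      rcases Finset.mem_insert.1 hx with rfl | hx
      · simp [R, sub_eq_zero.1 h4]
      · obtain ⟨r, -, rfl⟩ := Finset.mem_map.1 hx
        simp [R, hAq]
    have h5 := (Multiset.card_le_card ((Multiset.le_iff_subset S.nodup).2 hsub)).trans R.card_roots'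
    rw [Finset.card_val, hdeg, Finset.card_insert_of_notMem (by
      simp only [Finset.mem_map, Finset.mem_univ, true_and, not_exists]
      exact fun r hr => hωF r hr.symm), Finset.card_map, Finset.card_univ, hF] at h5
    omega
  have hbin : ∀ z : Fin 2 → F, A (z 0 ^ 2 + a * z 0 * z 1 + b * z 1 ^ 2) = T z * T z ^ p ^ f := by
    intro z
    show _ = (A (z 0) - ω * A (z 1)) * (A (z 0) - ω * A (z 1)) ^ p ^ f
    rw [sub_pow_expChar_pow, mul_pow, hAq, hAq, hconj]
    simp only [map_add, map_mul, map_pow]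
    linear_combination (A (z 1)) ^ 2 * hω
  -- the semilinear map
  let M : Matrix (Fin 2) (Fin 2) F := !![1, -u 0; 0, -u 1]
  have hu1 : u 1 ≠ 0 := by
    intro h1
    have h2 : A (u 0) = ω ^ p := by rw [← hu]; simp [T, h1]
    obtain ⟨r, hr⟩ : ∃ r : F, r ^ p = u 0 :=
      ⟨φ.symm (u 0), by
        have := hpow 1 (φ.symm (u 0))
        rw [pow_one, pow_one, RingEquiv.apply_symm_apply] at this
        exact this.symm⟩
    rw [← hr, map_pow] at h2
    exact hωF r (frobenius_inj E p (by simpa [frobenius_def] using h2.symm))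
  have hMT : ∀ z : Fin 2 → F, T (M *ᵥ fun i => φ (z i)) = T z ^ p := by
    intro z
    have hz : ∀ r : F, φ r = r ^ p := fun r => by simpa using hpow 1 r
    show A _ - ω * A _ = (A (z 0) - ω * A (z 1)) ^ p
    rw [sub_pow_expChar, mul_pow, ← hu]
    simp [M, T, hz, Matrix.mulVec, dotProduct, Fin.sum_univ_two]
    ring
  have hdet : M.det ≠ 0 := by simp [M, Matrix.det_fin_two, hu1]
  let B : Matrix ((Fin m ⊕ Fin m) ⊕ Fin 2) ((Fin m ⊕ Fin m) ⊕ Fin 2) F :=
    Matrix.fromBlocks 1 0 0 M
  have hBdet : B.det ≠ 0 := by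
    simp [B, Matrix.det_fromBlocks_zero₂₁, hdet]
  let g : GL ((Fin m ⊕ Fin m) ⊕ Fin 2) F := Matrix.GeneralLinearGroup.mkOfDetNeZero B hBdet
  have hl : ∀ (v : (Fin m ⊕ Fin m) ⊕ Fin 2 → F) i, semi g φ v (.inl i) = φ (v (.inl i)) := by
    intro v i
    show (B *ᵥ fun i => φ (v i)) (.inl i) = _
    simp [B, Matrix.fromBlocks_mulVec, Matrix.one_mulVec]
  have hr : ∀ (v : (Fin m ⊕ Fin m) ⊕ Fin 2 → F),
      (fun i => semi g φ v (.inr i)) = M *ᵥ fun i => φ (v (.inr i)) := by
    intro v
    funext i
    show (B *ᵥ fun i => φ (v i)) (.inr i) = _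
    simp [B, Matrix.fromBlocks_mulVec, Function.comp_def]
  have hT : ∀ v : (Fin m ⊕ Fin m) ⊕ Fin 2 → F,
      T (fun i => semi g φ v (.inr i)) = T (fun i => v (.inr i)) ^ p := fun v => by rw [hr, hMT]
  refine ⟨g, ⟨1, fun v => ?_⟩, fun v => ?_⟩
  · show QuadClassify.qMinus m F a b (semi g φ v) = _
    rw [Units.val_one, one_mul, QuadClassify.qMinus_apply, QuadClassify.qMinus_apply]
    have h1 : semi g φ v (.inr 0) ^ 2 + a * semi g φ v (.inr 0) * semi g φ v (.inr 1)
        + b * semi g φ v (.inr 1) ^ 2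
        = φ (v (.inr 0) ^ 2 + a * v (.inr 0) * v (.inr 1) + b * v (.inr 1) ^ 2) := by
      apply (algebraMap F E).injective
      show A _ = A _
      have hz : ∀ r : F, φ r = r ^ p := fun r => by simpa using hpow 1 r
      rw [hz, map_pow A, hbin fun i => semi g φ v (.inr i), hbin fun i => v (.inr i), hT,
        mul_pow, ← pow_mul, ← pow_mul, mul_comm p]
    simp only [quadFormMinus, hl, h1, map_add, map_sum, map_mul]
  · have hiter : ∀ j : ℕ, (∀ i, (semi g φ)^[j] v (.inl i) = (φ ^ j) (v (.inl i))) ∧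
        T (fun i => (semi g φ)^[j] v (.inr i)) = T (fun i => v (.inr i)) ^ p ^ j := by
      intro j
      induction j with
      | zero => exact ⟨fun i => rfl, by simp⟩
      | succ j ih =>
        simp only [Function.iterate_succ_apply']
        refine ⟨fun i => by rw [hl, ih.1, pow_succ']; rfl, ?_⟩
        rw [hT, ih.2, ← pow_mul, ← pow_succ]
    obtain ⟨h1, h2⟩ := hiter f
    have hφ : φ ^ f = 1 := hord ▸ pow_orderOf_eq_one φ
    have hB : ∀ x, polar (QuadClassify.qMinus m F a b) (binVec a) x
        = (a ^ 2 - 4 * b) * x (.inr 1) := by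
      intro x
      simp [polar, QuadClassify.qMinus_apply, quadFormMinus, binVec, add_mul]
      ring
    have hQv : QuadClassify.qMinus m F a b (binVec a) = -(a ^ 2 - 4 * b) := by
      simp [QuadClassify.qMinus_apply, quadFormMinus, binVec]
      ring
    have hd : a ^ 2 - 4 * b ≠ 0 := fun h0 => q_binVec (m := m) hab (by rw [hQv, h0, neg_zero])
    have hrefl : (refl (QuadClassify.qMinus m F a b) (binVec a) (q_binVec hab)).1 v
        = v + v (.inr 1) • binVec a := by
      rw [refl_apply, hQv, hB, inv_neg, neg_mul, ← mul_assoc, inv_mul_cancel₀ hd, one_mul,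
        neg_smul, sub_neg_eq_add]
    funext i
    rw [hrefl]
    rcases i with i | i
    · rw [h1, hφ]; simp [binVec]
    · have h3 : (fun i => (semi g φ)^[f] v (.inr i))
          = ![v (.inr 0) + a * v (.inr 1), -v (.inr 1)] := by
        apply hTinj
        rw [h2]
        show (A (v (.inr 0)) - ω * A (v (.inr 1))) ^ p ^ f = A _ - ω * A _
        rw [sub_pow_expChar_pow, mul_pow, hAq, hAq, hconj]
        simp only [Matrix.cons_val_zero, Matrix.cons_val_one, map_add, map_mul, map_neg]
        ring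
      rw [congrFun h3 i]
      fin_cases i <;> simp [binVec] <;> ring

end Cfsg.Agent.AutOrth45Frob
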