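import Mathlib
import Cfsg.Agent.Lib.AutOrth45Api
import Cfsg.Agent.Lib.AutOrth45Forms
import Cfsg.Agent.Lib.OrthUnitarySimilar
import Cfsg.Agent.Lib.OrthUnitarySimClasses
import Cfsg.Agent.Lib.AutPSLApi

/-!
The order of the automorphism group of `PΩ` when every field automorphism is realised by a
semisimilarity; application to the forms of minus type.
-/

set_option autoImplicit false
set_option linter.unusedSectionVars false

namespace Cfsg.Agent.OrthUnitaryAutMinus

open QuadraticMap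
open scoped Matrix MatrixGroups
open Cfsg.Agent.OrthUnitaryQuad
open Cfsg.Agent.OrthUnitaryRefl
open Cfsg.Agent.OrthUnitaryOmega
open Cfsg.Agent.OrthUnitaryPrelude
open Cfsg.Agent.OrthUnitarySimple
open Cfsg.Agent.OrthUnitarySimAut

section General

variable {ι : Type} [Fintype ι] [DecidableEq ι] {F : Type*} [Field F] [Fintype F]
  {Q : QuadraticForm F (ι → F)}

theorem card_inn (hQ : (polarBilin Q).Nondegenerate) (hn : 5 ≤ Fintype.card ι) :
    Nat.card (Inn (POmega F ⇑Q)) = Nat.card (POmega F ⇑Q) := by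
  refine (Nat.card_congr (MonoidHom.ofInjective ((injective_iff_map_eq_one _).2 fun x hx => ?_)
    ).toEquiv).symm
  induction x using QuotientGroup.induction_on with
  | _ s =>
    have hk : (⟨((s : isometryGroup F ⇑Q) : GL ι F), isometry_le_sim Q s.1.2⟩ : Sim Q) ∈
        scalarSim Q := by
      rw [← ker_conjP Q hQ hn, MonoidHom.mem_ker, conjP_omega]
      exact hx
    obtain ⟨l, hl, -⟩ := (mem_scalarSim Q).1 hk
    rw [QuotientGroup.eq_one_iff, Subgroup.mem_center_iff]
    intro t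
    refine Subtype.ext (Subtype.ext (Units.ext ?_))
    show (t.1 : GL ι F).1 * (s.1 : GL ι F).1 = (s.1 : GL ι F).1 * (t.1 : GL ι F).1
    rw [show (s.1 : GL ι F).1 = l • 1 from hl, Matrix.mul_smul, Matrix.smul_mul, mul_one, one_mul]

theorem card_range (hQ : (polarBilin Q).Nondegenerate) (hn : 5 ≤ Fintype.card ι) :
    Nat.card (conjP Q).range = (innSim Q).index * Nat.card (POmega F ⇑Q) := by
  have hle : Inn (POmega F ⇑Q) ≤ (conjP Q).range := by
    rw [inn_eq]; exact Subgroup.map_le_range _ _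
  rw [innSim, Subgroup.index_comap, ← card_inn hQ hn, mul_comm]
  rw [← Subgroup.relIndex_bot_left, ← Subgroup.relIndex_bot_left]
  exact (Subgroup.relIndex_mul_relIndex _ _ _ bot_le hle).symm

open Cfsg.Agent.AutOrth45Api in
/-- The automorphisms are `PGO` times the field automorphisms. -/
theorem card_aut (h : AutOrth45.Good Q)
    (tw : ∀ σ : F ≃+* F, ∃ g : GL ι F, IsSemisimilarityPair ⇑Q g σ) :
    Nat.card (MulAut (POmega F ⇑Q)) =
      (innSim Q).index * Nat.card (F ≃+* F) * Nat.card (POmega F ⇑Q) := by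
  have hn : 5 ≤ Fintype.card ι := by
    rw [← finrank_pi (F := F)]; have := h.dim; omega
  choose k hk using tw
  -- the field component of a pair is determined by the automorphism
  have huniq : ∀ {g g' : GL ι F} {σ σ' : F ≃+* F} (hp : IsSemisimilarityPair ⇑Q g σ)
      (hp' : IsSemisimilarityPair ⇑Q g' σ'), semiAut h g σ hp = semiAut h g' σ' hp' → σ = σ' := by
    intro g g' σ σ' hp hp' he
    obtain ⟨u, ρ, hu, hi⟩ := exists_semisim h (semiAut h g σ hp)⁻¹
    have e := (induced_iff h u ρ hu _).1 hi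
    have h1 : semiAut h _ _ (pair_mul hp hu) = 1 := by
      rw [← semiAut_mul h hp hu, ← e, mul_inv_cancel]
    have h2 : semiAut h _ _ (pair_mul hp' hu) = 1 := by
      rw [← semiAut_mul h hp' hu, ← e, ← he, mul_inv_cancel]
    exact mul_right_cancel ((semiAut_eq_one h _ h1).trans (semiAut_eq_one h _ h2).symm)
  let Φ : (conjP Q).range × (F ≃+* F) → MulAut (POmega F ⇑Q) := fun x =>
    (x.1 : MulAut (POmega F ⇑Q)) * semiAut h (k x.2) x.2 (hk x.2)
  have hΦ : Function.Bijective Φ := by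
    constructor
    · rintro ⟨⟨_, x, rfl⟩, σ⟩ ⟨⟨_, y, rfl⟩, τ⟩ he
      have he' : conjP Q x * semiAut h (k σ) σ (hk σ) = conjP Q y * semiAut h (k τ) τ (hk τ) := he
      have hσ : σ = τ := by
        have hx := conjP_eq h x
        have hy := conjP_eq h y
        have he'' := he'
        simp only [hx, hy, semiAut_mul] at he''
        exact huniq _ _ he''
      subst hσ
      exact Prod.ext (Subtype.ext (mul_right_cancel he')) rfl
    · intro α
      obtain ⟨g, σ, hp, hi⟩ := exists_semisim h α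
      obtain rfl := (induced_iff h g σ hp α).1 hi
      obtain ⟨u, ρ, hu, hi'⟩ := exists_semisim h (semiAut h (k σ) σ (hk σ))⁻¹
      have e := (induced_iff h u ρ hu _).1 hi'
      have h1 : semiAut h _ _ (pair_mul (hk σ) hu) = 1 := by
        rw [← semiAut_mul h (hk σ) hu, ← e, mul_inv_cancel]
      have hσ : σ * ρ = RingEquiv.refl F := semiAut_eq_one h _ h1
      obtain ⟨c, hc⟩ := pair_mul hp hu
      have hmem : g * Matrix.GeneralLinearGroup.map (σ : F →+* F) u ∈ Sim Q :=
        ⟨c, fun v => by have := hc v; rw [hσ] at this; exact this⟩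
      refine ⟨⟨⟨_, ⟨_, hmem⟩, rfl⟩, σ⟩, ?_⟩
      have e3 : conjP Q ⟨_, hmem⟩ = semiAut h g σ hp * semiAut h u ρ hu := by
        rw [semiAut_mul h hp hu, conjP_eq h]
        exact semiAut_congr h _ _ rfl hσ.symm
      show conjP Q ⟨_, hmem⟩ * semiAut h (k σ) σ (hk σ) = semiAut h g σ hp
      rw [e3, ← e, inv_mul_cancel_right]
  rw [← Nat.card_congr (Equiv.ofBijective Φ hΦ), Nat.card_prod, card_range h.nd hn]
  ring

/-- In characteristic two the isometries meet `PΩ` with index two. -/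
theorem index_innSim_two (hQ : (polarBilin Q).Nondegenerate) (hn : 5 ≤ Fintype.card ι)
    (h2 : (2 : F) = 0) : (innSim Q).index = 2 := by
  have hn' : Module.finrank F (ι → F) ≠ 0 := by rw [finrank_pi]; omega
  obtain ⟨D, hD⟩ := exists_dickson (Q := Q) h2 hQ
  have hidx := (even_main h2 hQ (Or.inr (by rw [finrank_pi]; omega)) D hD).2.2 hn'
  obtain ⟨v₀, hv₀⟩ := exists_map_ne_zero (isReg_of_nondegenerate hQ) hn'
  let π : orth Q →* Sim Q := MonoidHom.mk' OrthUnitarySimilar.ofOrth OrthUnitarySimilar.ofOrth_mul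
  have hcomap : (innSim Q).comap π = commutator (orth Q) := by
    ext a
    rw [Subgroup.mem_comap, ← OrthUnitarySimilar.ofOrth_mem_omegaSim]
    refine ⟨fun ha => ?_, fun ha => by
      rw [innSim_eq Q hQ hn]; exact Subgroup.mem_sup_left ha⟩
    obtain ⟨l, s, hl0, hs, hgs⟩ := (mem_innSim Q hQ hn).1 ha
    have hv : ∀ v, a.1 v = l • (mat s *ᵥ v) := fun v => by
      rw [← OrthUnitarySimilar.ofOrth_mulVec]
      exact (congrArg (· *ᵥ v) hgs).trans (Matrix.smul_mulVec _ _ _)
    have hl : l = 1 := by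
      have e : Q v₀ = l * l * Q v₀ := by
        conv_lhs => rw [← a.2 v₀]
        rw [hv, QuadraticMap.map_smul, smul_eq_mul]
        congr 1
        exact s.2 v₀ v₀
      have e1 : (l - 1) * (l - 1) = 0 := by
        have := mul_right_cancel₀ hv₀ ((one_mul (Q v₀)).trans e)
        linear_combination -this + (1 - l) * h2
      exact sub_eq_zero.1 (mul_self_eq_zero.1 e1)
    subst hl
    exact ⟨s, hs, Units.ext (hgs.trans (one_smul F _)).symm⟩
  have hsup : π.range ⊔ innSim Q = ⊤ := by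
    rw [eq_top_iff]
    rintro ⟨g, c, hc⟩ -
    obtain ⟨l, hl⟩ := FiniteField.isSquare_of_char_two
      (by have : CharP F 2 := CharTwo.of_one_ne_zero_of_two_eq_zero one_ne_zero h2
          exact ringChar.eq F 2) (c : F)
    have hl0 : l ≠ 0 := fun e => c.ne_zero (by rw [hl, e, mul_zero])
    set lu : Fˣ := Units.mk0 l hl0
    set z := OrthUnitarySimilar.scalarOf Q lu⁻¹
    have hz : z ∈ innSim Q := by
      rw [innSim_eq Q hQ hn]; exact Subgroup.mem_sup_right (OrthUnitarySimilar.scalarOf_mem _)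
    have hiso : ((⟨g, c, hc⟩ * z : Sim Q) : GL ι F) ∈ isometryGroup F ⇑Q := fun v _ => by
      show Q ((g.1 * (z : GL ι F).1) *ᵥ v) = Q v
      rw [OrthUnitarySimilar.scalarOf_coe, ← Matrix.mulVec_mulVec, Matrix.smul_mulVec,
        Matrix.one_mulVec, hc, QuadraticMap.map_smul, hl, smul_eq_mul, Units.val_inv_eq_inv_val,
        Units.val_mk0]
      field_simp
    have he : (⟨g, c, hc⟩ * z : Sim Q) = π (iso Q ⟨_, hiso⟩) := Subtype.ext (by
      show _ = (((iso Q).symm (iso Q _) : isometryGroup F ⇑Q) : GL ι F)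
      rw [MulEquiv.symm_apply_apply])
    have := mul_inv_cancel_right (⟨g, c, hc⟩ : Sim Q) z
    rw [← this, he]
    exact Subgroup.mul_mem_sup ⟨_, rfl⟩ (Subgroup.inv_mem _ hz)
  rw [← Subgroup.relIndex_top_right, ← hsup, Subgroup.relIndex_sup_right, ← Subgroup.index_comap,
    hcomap, hidx]

end General

section Minus

variable {F : Type*} [Field F] [Fintype F]

open QuadClassify in
theorem exists_bin_equiv {a b a' b' : F}
    (hab : ∀ z₁ z₂ : F, z₁ ^ 2 + a * z₁ * z₂ + b * z₂ ^ 2 = 0 → z₁ = 0 ∧ z₂ = 0)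
    (hab' : ∀ z₁ z₂ : F, z₁ ^ 2 + a' * z₁ * z₂ + b' * z₂ ^ 2 = 0 → z₁ = 0 ∧ z₂ = 0) :
    ∃ g : (Fin 2 → F) ≃ₗ[F] (Fin 2 → F), ∀ v, qBin F a b (g v) = qBin F a' b' v := by
  obtain ⟨ζ, g', hζ, hg'⟩ := exists_zeta hab'
  obtain ⟨x, -, y, -, hli, hx, hxy, hy⟩ := exists_plane_normal (qBin F a b) (qBin_aniso hab)
    (qBin_nondeg hab) (by simp)
  obtain ⟨y', -, hli', hxy', hy'⟩ := plane_adjust (qBin F a b) hx hxy hli hy hζ
  let B : Module.Basis (Fin 2) F (Fin 2 → F) :=
    basisOfLinearIndependentOfCardEqFinrank hli' (by simp)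
  refine ⟨g'.symm.trans B.equivFun.symm, fun v => ?_⟩
  conv_rhs => rw [← g'.apply_symm_apply v, hg']
  have hB : ⇑B = ![x, y'] := coe_basisOfLinearIndependentOfCardEqFinrank hli' _
  simp only [LinearEquiv.trans_apply, Module.Basis.equivFun_symm_apply, Fin.sum_univ_two, hB,
    Matrix.cons_val_zero, Matrix.cons_val_one]
  rw [QuadraticMap.map_add (qBin F a b), QuadraticMap.map_smul, QuadraticMap.map_smul,
    polar_smul_left, polar_smul_right, hx, hxy', hy', qBin_apply 1]
  simp only [smul_eq_mul]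
  ring

/-- Every field automorphism is realised by a semisimilarity of a form of minus type. -/
theorem exists_twist (m : ℕ) {a b : F}
    (hab : ∀ z₁ z₂ : F, z₁ ^ 2 + a * z₁ * z₂ + b * z₂ ^ 2 = 0 → z₁ = 0 ∧ z₂ = 0) (σ : F ≃+* F) :
    ∃ g : GL ((Fin m ⊕ Fin m) ⊕ Fin 2) F,
      IsSemisimilarityPair ⇑(QuadClassify.qMinus m F a b) g σ := by
  have hab' : ∀ z₁ z₂ : F, z₁ ^ 2 + σ a * z₁ * z₂ + σ b * z₂ ^ 2 = 0 → z₁ = 0 ∧ z₂ = 0 := by
    intro z₁ z₂ hz
    obtain ⟨x, rfl⟩ := σ.surjective z₁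
    obtain ⟨y, rfl⟩ := σ.surjective z₂
    obtain ⟨rfl, rfl⟩ := hab x y (σ.injective (by rw [map_zero, ← hz]; simp))
    simp
  obtain ⟨g₂, hg₂⟩ := exists_bin_equiv hab hab'
  let G : ((Fin m ⊕ Fin m) ⊕ Fin 2 → F) ≃ₗ[F] ((Fin m ⊕ Fin m) ⊕ Fin 2 → F) :=
    (LinearEquiv.sumArrowLequivProdArrow _ _ F F).trans
      (((LinearEquiv.refl F (Fin m ⊕ Fin m → F)).prodCongr g₂).trans
        (LinearEquiv.sumArrowLequivProdArrow _ _ F F).symm)
  let g : GL ((Fin m ⊕ Fin m) ⊕ Fin 2) F := Matrix.GeneralLinearGroup.toLin.symm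
    ((LinearMap.GeneralLinearGroup.generalLinearEquiv F _).symm G)
  have hg : ∀ w, g.1 *ᵥ w = G w := fun w => by
    have := Matrix.GeneralLinearGroup.toLin_apply g w
    rw [MulEquiv.apply_symm_apply] at this
    exact this.symm
  refine ⟨g, 1, fun v => ?_⟩
  rw [Units.val_one, one_mul, hg]
  have h1 : ∀ w i, G w (Sum.inl i) = w (Sum.inl i) := fun w i => rfl
  have h2 : ∀ w, (fun i => G w (Sum.inr i)) = g₂ (fun i => w (Sum.inr i)) := fun w => rfl
  have h3 := hg₂ (fun i => σ (v (Sum.inr i)))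
  rw [← h2 (fun i => σ (v i)), QuadClassify.qBin_apply, QuadClassify.qBin_apply] at h3
  simp only [QuadClassify.qMinus_apply, quadFormMinus, h1] at h3 ⊢
  simp [h3, quadFormPlus]

theorem card_mulAut (p f : ℕ) [Fact p.Prime] (hf : 1 ≤ f) (hF : Fintype.card F = p ^ f) {m : ℕ}
    (hm : 4 ≤ m) {a b : F}
    (hab : ∀ z₁ z₂ : F, z₁ ^ 2 + a * z₁ * z₂ + b * z₂ ^ 2 = 0 → z₁ = 0 ∧ z₂ = 0) :
    Nat.card (MulAut (POmega F (quadFormMinus (m - 1) F a b))) =
      (if p = 2 then 2 else (if Even (m * (p ^ f - 1) / 2) then 4 else 8)) * f *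
        Nat.card (POmega F (quadFormMinus (m - 1) F a b)) := by
  have hG := AutOrth45Forms.good_minus (F := F) (m := m - 1) (by omega) hab
  have hn : 5 ≤ Fintype.card ((Fin (m - 1) ⊕ Fin (m - 1)) ⊕ Fin 2) := by simp; omega
  rw [← QuadClassify.qMinus_coe, card_aut hG (exists_twist _ hab),
    AutPSLApi.card_ringAut hF hf]
  congr 2
  by_cases hp : p = 2
  · subst hp
    have h2 : (2 : F) = 0 := by
      have : (Fintype.card F : F) = 0 := Nat.cast_card_eq_zero F
      rw [hF] at this; push_cast at this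
      exact eq_zero_of_pow_eq_zero this
    rw [if_pos rfl, index_innSim_two hG.nd hn h2]
  · rw [if_neg hp]
    have hodd : Odd (Fintype.card F) := by
      rw [hF]; exact ((Fact.out : p.Prime).eq_two_or_odd'.resolve_left hp).pow
    have hgood := OrthUnitarySimClasses.good_minus (F := F) (m := m - 1) (by omega)
      (OmegaStd.two_ne_zero rfl hodd) hab
    have key : ¬ (Even (m - 1) ∧ Fintype.card F % 4 = 3) ↔ Even (m * (p ^ f - 1) / 2) := by
      rw [← hF]
      obtain ⟨r, hr⟩ : ∃ r, Fintype.card F = 2 * r + 1 := hodd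
      rw [hr, show 2 * r + 1 - 1 = 2 * r by omega, show m * (2 * r) / 2 = m * r by
        rw [mul_left_comm]; omega, Nat.even_mul, Nat.even_iff, Nat.even_iff, Nat.even_iff]
      omega
    by_cases hneg : OrthUnitarySimilar.NegMem (QuadClassify.qMinus (m - 1) F a b)
    · rw [OrthUnitarySimilar.index_innSim hgood hneg, if_neg]
      rw [← key, not_not, ← OrthUnitarySimClasses.negMem_minus hodd hab]
      exact hneg
    · rw [← OrthUnitarySimilar.K_eq_innSim hgood hneg, OrthUnitarySimilar.index_K hgood, if_pos]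
      rw [← key, ← OrthUnitarySimClasses.negMem_minus hodd hab]
      exact hneg

end Minus

end Cfsg.Agent.OrthUnitaryAutMinus
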