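import Mathlib
import Cfsg.Agent.Lib.AutOrth45InnDiag
import Cfsg.Agent.Lib.OmegaGeo
import Cfsg.Agent.Lib.OrthUnitaryAutMinus

/-!
The similarities of a minus form keeping the two classes over the quadratic extension.
-/

set_option autoImplicit false
set_option linter.unusedSectionVars false

namespace Cfsg.Agent.AutOrth45MinusClass

open QuadraticMap Polynomial
open scoped Matrix MatrixGroups
open Cfsg.Agent.OrthUnitaryQuad
open Cfsg.Agent.OrthUnitaryRefl
open Cfsg.Agent.OrthUnitarySimAut
open Cfsg.Agent.AutOrth45Api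
open Cfsg.Agent.OmegaClasses
open Cfsg.Agent.AutOrth45Parity
open Cfsg.Agent.AutOrth45Descent
open Cfsg.Agent.AutOrth45Types
open Cfsg.Agent.AutOrth45InnDiag

section MapForm

variable {F K : Type*} [Field F] [Field K] {m : ℕ}

theorem map_qMinus (φ : F →+* K) (a b : F) (v : (Fin m ⊕ Fin m) ⊕ Fin 2 → F) :
    φ (QuadClassify.qMinus m F a b v) =
      QuadClassify.qMinus m K (φ a) (φ b) (fun i => φ (v i)) := by
  simp [QuadClassify.qMinus_apply, quadFormMinus, quadFormPlus]

theorem map_polar (φ : F →+* K) (a b : F) (u v : (Fin m ⊕ Fin m) ⊕ Fin 2 → F) :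
    φ (polar (QuadClassify.qMinus m F a b) u v) =
      polar (QuadClassify.qMinus m K (φ a) (φ b)) (fun i => φ (u i)) (fun i => φ (v i)) := by
  simp only [polar, map_sub, map_qMinus]
  congr 2
  congr 1
  funext i
  exact map_add φ _ _

theorem map_single {ι : Type} [DecidableEq ι] (φ : F →+* K) (i : ι) :
    (fun j => φ ((Pi.single i 1 : ι → F) j)) = (Pi.single i 1 : ι → K) := by
  funext j
  rcases eq_or_ne j i with rfl | hj <;> simp [*]

theorem map_single_add {ι : Type} [DecidableEq ι] (φ : F →+* K) (i j : ι) :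
    (fun l => φ ((Pi.single i 1 + Pi.single j 1 : ι → F) l)) =
      (Pi.single i 1 + Pi.single j 1 : ι → K) := by
  rw [← map_single φ i, ← map_single φ j]
  funext l
  exact map_add φ _ _

end MapForm

variable {F : Type*} [Field F] [Fintype F] {m : ℕ} {a b : F}

/-- The binary form is anisotropic. -/
local notation "Aniso₂" => OrthUnitaryForms.IsAniso

theorem irreducible_poly (hab : Aniso₂ a b) :
    Irreducible (X ^ 2 + C a * X + C b : F[X]) := by
  refine Polynomial.irreducible_of_degree_le_three_of_not_isRoot ?_ fun r hr => ?_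
  · rw [show (X ^ 2 + C a * X + C b : F[X]).natDegree = 2 by compute_degree!]
    simp
  · simp [Polynomial.IsRoot] at hr
    exact one_ne_zero (hab r 1 (by linear_combination hr)).2

variable {K : Type*} [Field K] [Algebra F K]

theorem finite_ext (hK : Module.finrank F K = 2) : Finite K := by
  haveI : FiniteDimensional F K := Module.finite_of_finrank_eq_succ hK
  exact Module.finite_of_finite F

theorem finrank_adjoin (hab : Aniso₂ a b) :
    haveI := Fact.mk (irreducible_poly hab)
    Module.finrank F (AdjoinRoot (X ^ 2 + C a * X + C b : F[X])) = 2 := by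
  haveI := Fact.mk (irreducible_poly hab)
  rw [(AdjoinRoot.powerBasis (irreducible_poly hab).ne_zero).finrank, AdjoinRoot.powerBasis_dim]
  compute_degree!

/-- An anisotropic binary form has a zero over a quadratic extension. -/
theorem exists_zero_ext (hab : Aniso₂ a b) (hK : Module.finrank F K = 2) :
    ∃ ω : K, ω ^ 2 + algebraMap F K a * ω + algebraMap F K b = 0 := by
  haveI := Fact.mk (irreducible_poly hab)
  haveI := finite_ext hK
  obtain ⟨e⟩ := FiniteField.nonempty_algHom_of_finrank_dvd (F := F)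
    (K := AdjoinRoot (X ^ 2 + C a * X + C b : F[X])) (L := K) (by rw [finrank_adjoin hab, hK])
  refine ⟨e (AdjoinRoot.root _), ?_⟩
  have h1 := AdjoinRoot.eval₂_root (X ^ 2 + C a * X + C b : F[X])
  simp at h1
  have h2 := congrArg e h1
  have hc : ∀ x : F, e (AdjoinRoot.of _ x) = algebraMap F K x := fun x => e.commutes x
  simpa [hc] using h2

variable (K) in
/-- The minus form read over an extension. -/
abbrev QK (m : ℕ) (a b : F) : QuadraticForm K ((Fin m ⊕ Fin m) ⊕ Fin 2 → K) :=
  QuadClassify.qMinus m K (algebraMap F K a) (algebraMap F K b)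

theorem disc_ne (hab : Aniso₂ a b) :
    4 * algebraMap F K b - algebraMap F K a ^ 2 ≠ 0 := by
  rw [show 4 * algebraMap F K b - algebraMap F K a ^ 2 = algebraMap F K (4 * b - a ^ 2) by
    simp [map_ofNat], _root_.map_ne_zero]
  exact QuadClassify.qBin_disc_ne hab

theorem nd_QK (hab : Aniso₂ a b) : (polarBilin (QK K m a b)).Nondegenerate := by
  set A := algebraMap F K a
  set B := algebraMap F K b
  have key : ∀ x, (∀ y, polar (QK K m a b) x y = 0) → x = 0 := by
    intro x hx
    have hp : ∀ y, polar (QK K m a b) x y =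
        (∑ i, (x (.inl (.inl i)) * y (.inl (.inr i)) + y (.inl (.inl i)) * x (.inl (.inr i)))) +
          (2 * x (.inr 0) * y (.inr 0) + A * (x (.inr 0) * y (.inr 1) + x (.inr 1) * y (.inr 0)) +
            2 * B * x (.inr 1) * y (.inr 1)) := fun y => by
      simp only [polar, QuadClassify.qMinus_apply, quadFormMinus, quadFormPlus, Pi.add_apply,
        Finset.sum_add_distrib, add_mul, mul_add]
      ring
    have h0 := hx (Pi.single (.inr 0) 1)
    have h1 := hx (Pi.single (.inr 1) 1)
    simp [hp] at h0 h1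
    have d0 : (4 * B - A ^ 2) * x (.inr 0) = 0 := by linear_combination 2 * B * h0 - A * h1
    have d1 : (4 * B - A ^ 2) * x (.inr 1) = 0 := by linear_combination 2 * h1 - A * h0
    funext i
    rcases i with (i | i) | i
    · have e := hx (Pi.single (.inl (.inr i)) 1)
      simpa [hp, Pi.single_apply] using e
    · have e := hx (Pi.single (.inl (.inl i)) 1)
      simpa [hp, Pi.single_apply] using e
    · fin_cases i
      · exact (mul_eq_zero.1 d0).resolve_left (disc_ne hab)
      · exact (mul_eq_zero.1 d1).resolve_left (disc_ne hab)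
  exact ⟨fun x hx => key x hx, fun x hx => key x fun y => by rw [polar_comm]; exact hx y⟩

theorem hyp_QK [Fintype K] (hm : 2 ≤ m) (hab : Aniso₂ a b) : Hyp (QK K m a b) :=
  ⟨nd_QK hab, Or.inr (by
    rw [Module.finrank_pi]
    simp only [Fintype.card_sum, Fintype.card_fin]
    omega)⟩

theorem exists_lagr (hab : Aniso₂ a b) (hK : Module.finrank F K = 2) :
    ∃ U, Lagr (QK K m a b) U := by
  obtain ⟨ω, hω⟩ := exists_zero_ext hab hK
  let T : ((Fin m → K) × K) →ₗ[K] ((Fin m ⊕ Fin m) ⊕ Fin 2 → K) :=
    LinearMap.pi (Sum.elim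
      (Sum.elim (fun i => (LinearMap.proj i).comp (LinearMap.fst K _ _)) fun _ => 0)
      ![ω • LinearMap.snd K _ _, LinearMap.snd K _ _])
  have hT : ∀ p, T p = Sum.elim (Sum.elim p.1 0) ![ω * p.2, p.2] := fun p => by
    funext i
    rcases i with (i | i) | i
    · rfl
    · rfl
    · fin_cases i <;> rfl
  refine ⟨LinearMap.range T, ?_, ?_⟩
  · rintro _ ⟨p, rfl⟩
    rw [hT, QuadClassify.qMinus_apply]
    simp [quadFormMinus, quadFormPlus]
    linear_combination (p.2 ^ 2) * hω
  · have hinj : Function.Injective T := by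
      intro p p' he
      rw [hT, hT] at he
      refine Prod.ext (funext fun i => ?_) ?_
      · exact congrFun he (.inl (.inl i))
      · exact congrFun he (.inr 1)
    rw [LinearMap.finrank_range_of_inj hinj, Module.finrank_prod, Module.finrank_pi,
      Module.finrank_self, Module.finrank_pi]
    simp only [Fintype.card_sum, Fintype.card_fin]
    omega

variable (K) in
/-- A matrix read over the extension. -/
abbrev extGL : GL ((Fin m ⊕ Fin m) ⊕ Fin 2) F →* GL ((Fin m ⊕ Fin m) ⊕ Fin 2) K :=
  Matrix.GeneralLinearGroup.map (algebraMap F K)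

/-- A semisimilarity pair extends. -/
theorem ext_pair {g : GL ((Fin m ⊕ Fin m) ⊕ Fin 2) F} {τ : F ≃+* F}
    (hp : IsSemisimilarityPair ⇑(QuadClassify.qMinus m F a b) g τ) (τK : K ≃+* K)
    (hτ : ∀ x, τK (algebraMap F K x) = algebraMap F K (τ x)) :
    IsSemisimilarityPair ⇑(QK K m a b) (extGL K g) τK := by
  obtain ⟨c, hc⟩ := hp
  refine ⟨Units.map (algebraMap F K : F →* K) c, fun v => ?_⟩
  have key : (QK K m a b).comp (Matrix.mulVecLin (extGL K g).1) =
      algebraMap F K c •
        QuadClassify.qMinus m K (algebraMap F K (τ a)) (algebraMap F K (τ b)) := by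
    have h0 : ∀ w : (Fin m ⊕ Fin m) ⊕ Fin 2 → F, QK K m a b ((extGL K g).1 *ᵥ fun i => algebraMap F K (w i)) =
        algebraMap F K c * QuadClassify.qMinus m K (algebraMap F K (τ a)) (algebraMap F K (τ b))
          (fun i => algebraMap F K (w i)) := fun w => by
      have e := hc fun i => τ.symm (w i)
      simp only [RingEquiv.apply_symm_apply] at e
      rw [show τ (QuadClassify.qMinus m F a b fun i => τ.symm (w i)) =
          QuadClassify.qMinus m F (τ a) (τ b) w from
        (map_qMinus (τ : F →+* F) a b _).trans (by simp)] at e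
      rw [← map_qMinus, ← map_mul, ← e, map_qMinus]
      exact congrArg _ (funext fun i => (RingHom.map_mulVec (algebraMap F K) g.1 w i).symm)
    refine form_ext' _ _ (fun i => ?_) (fun i j => ?_) <;>
      simp only [QuadraticMap.comp_apply, Matrix.mulVecLin_apply, QuadraticMap.smul_apply,
        smul_eq_mul]
    · have e := h0 (Pi.single i 1)
      rwa [map_single] at e
    · have e := h0 (Pi.single i 1 + Pi.single j 1)
      rwa [map_single_add] at e
  have e := QuadraticMap.congr_fun key fun i => τK (v i)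
  simp only [QuadraticMap.comp_apply, Matrix.mulVecLin_apply, QuadraticMap.smul_apply,
    smul_eq_mul] at e
  rw [e, show τK (QK K m a b v) =
      QuadClassify.qMinus m K (τK (algebraMap F K a)) (τK (algebraMap F K b)) (fun i => τK (v i))
    from map_qMinus (τK : K →+* K) _ _ v, hτ, hτ]
  rfl

variable (K) in
/-- A similarity read over the extension. -/
noncomputable def extSim (m : ℕ) (a b : F) :
    Sim (QuadClassify.qMinus m F a b) →* Sim (QK K m a b) :=
  MonoidHom.codRestrict ((extGL K).comp (Sim (QuadClassify.qMinus m F a b)).subtype) _ fun g => by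
    obtain ⟨c, hc⟩ := ext_pair (K := K) (sim_pair g) (RingEquiv.refl K) fun _ => rfl
    exact ⟨c, fun v => hc v⟩

theorem extSim_refl [Fintype K] (v : (Fin m ⊕ Fin m) ⊕ Fin 2 → F) (hv : QuadClassify.qMinus m F a b v ≠ 0) :
    ∃ hv' : QK K m a b (fun i => algebraMap F K (v i)) ≠ 0,
      extSim K m a b (OrthUnitarySimilar.ofOrth (refl _ v hv)) =
        OrthUnitarySimilar.ofOrth (refl (QK K m a b) (fun i => algebraMap F K (v i)) hv') := by
  refine ⟨by rw [← map_qMinus, _root_.map_ne_zero]; exact hv, ?_⟩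
  refine Subtype.ext (Units.ext (Matrix.ext_of_mulVec_single fun i => ?_))
  show (extGL K _).1 *ᵥ _ = _
  rw [OrthUnitarySimilar.ofOrth_mulVec, refl_apply, ← map_single (algebraMap F K) i,
    ← map_polar, ← map_qMinus]
  funext j
  refine (RingHom.map_mulVec (algebraMap F K) _ (Pi.single i 1) j).symm.trans ?_
  rw [Subgroup.subtype_apply, OrthUnitarySimilar.ofOrth_mulVec, refl_apply]
  simp only [Pi.sub_apply, Pi.smul_apply, smul_eq_mul, map_sub, map_mul, map_inv₀]

section Sub

variable [Fintype K] (hm : 2 ≤ m) (hab : Aniso₂ a b) (hK : Module.finrank F K = 2)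

/-- The similarities keeping the classes over the extension. -/
noncomputable def minusSub : Subgroup (Sim (QuadClassify.qMinus m F a b)) :=
  (keepSub (hyp_QK (K := K) hm hab) (exists_lagr hab hK).choose_spec).comap (extSim K m a b)

include hab hK in
theorem exists_lift (τ : F ≃+* F) :
    ∃ τK : K ≃+* K, ∀ x, τK (algebraMap F K x) = algebraMap F K (τ x) := by
  haveI := Fact.mk (irreducible_poly hab)
  have hτab : Aniso₂ (τ a) (τ b) := fun z₁ z₂ hz => by
    have h1 := hab (τ.symm z₁) (τ.symm z₂) (τ.injective (by simpa using hz))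
    exact ⟨τ.symm.injective (h1.1.trans (map_zero _).symm),
      τ.symm.injective (h1.2.trans (map_zero _).symm)⟩
  obtain ⟨ω, hω⟩ := exists_zero_ext hτab hK
  haveI := finite_ext (K := AdjoinRoot (X ^ 2 + C a * X + C b : F[X])) (finrank_adjoin hab)
  obtain ⟨e⟩ := FiniteField.nonempty_algHom_of_finrank_dvd (F := F)
    (K := K) (L := AdjoinRoot (X ^ 2 + C a * X + C b : F[X])) (by rw [finrank_adjoin hab, hK])
  let f : AdjoinRoot (X ^ 2 + C a * X + C b : F[X]) →+* K :=
    AdjoinRoot.lift ((algebraMap F K).comp (τ : F →+* F)) ω (by simpa using hω)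
  let g : K →+* K := f.comp (e : K →+* AdjoinRoot (X ^ 2 + C a * X + C b : F[X]))
  refine ⟨RingEquiv.ofBijective g (Finite.injective_iff_bijective.1 g.injective), fun x => ?_⟩
  show f (e (algebraMap F K x)) = _
  rw [e.commutes, AdjoinRoot.algebraMap_eq, AdjoinRoot.lift_of]
  rfl

theorem classSub_minus : ClassSub _ (minusSub (K := K) hm hab hK) where
  conj := fun g σ hp d d' hd => by
    obtain ⟨τK, hτ⟩ := exists_lift hab hK σ
    have hQ := hyp_QK (K := K) hm hab
    refine (classSub_keep hQ (exists_lagr hab hK).choose_spec).conj _ _ (ext_pair hp τK hτ)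
      (extSim K m a b d) (extSim K m a b d') fun v => ?_
    have e : g * Matrix.GeneralLinearGroup.map (σ : F →+* F) d = (d' : GL _ F) * g :=
      AutOrth45Coset.semi_ext (σ := σ) fun w => by
        show (g.1 * ((d : GL _ F).1).map σ) *ᵥ (fun i => σ (w i)) = ((d' : GL _ F).1 * g.1) *ᵥ _
        rw [← Matrix.mulVec_mulVec, map_mulVec_comp, ← Matrix.mulVec_mulVec]
        exact hd w
    show (extGL K g).1 *ᵥ (fun i => τK (((extGL K (d : GL _ F)).1 *ᵥ v) i)) =
      (extGL K (d' : GL _ F)).1 *ᵥ ((extGL K g).1 *ᵥ fun i => τK (v i))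
    rw [← map_mulVec_comp, Matrix.mulVec_mulVec, Matrix.mulVec_mulVec, ← Units.val_mul (extGL K _),
      ← map_mul, ← e, map_mul, Units.val_mul]
    congr 2
    ext i j
    exact hτ _
  improper := fun d v hv => by
    obtain ⟨hv', e⟩ := extSim_refl (K := K) v hv
    rw [minusSub, Subgroup.mem_comap, Subgroup.mem_comap, map_mul, e]
    exact (classSub_keep (hyp_QK (K := K) hm hab) (exists_lagr hab hK).choose_spec).improper _ _ hv'

/-- The classes may be read over any quadratic extension. -/
theorem preserves_iff_minus (g : Sim (QuadClassify.qMinus m F a b)) (K' : Type*) [Field K']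
    [Algebra F K'] (hK' : Module.finrank F K' = 2) :
    PreservesSingularClasses (quadFormMinus m K' (algebraMap F K' a) (algebraMap F K' b))
      ((g : GL _ F).1.map (algebraMap F K')) ↔ g ∈ minusSub (K := K) hm hab hK := by
  haveI := finite_ext hK'
  letI := Fintype.ofFinite K'
  have hQ := hyp_QK (K := K) hm hab
  have hQ' := hyp_QK (K := K') hm hab
  obtain ⟨e₀⟩ := FiniteField.nonempty_algHom_of_finrank_dvd (F := F) (K := K) (L := K')
    (by rw [hK, hK'])
  have hbij : Function.Bijective e₀ := by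
    haveI : FiniteDimensional F K := Module.finite_of_finrank_eq_succ hK
    haveI : FiniteDimensional F K' := Module.finite_of_finrank_eq_succ hK'
    exact ⟨e₀.toRingHom.injective,
      (LinearMap.injective_iff_surjective_of_finrank_eq_finrank (hK.trans hK'.symm)
        (f := e₀.toLinearMap)).1 e₀.toRingHom.injective⟩
  let e : K ≃+* K' := RingEquiv.ofBijective e₀ hbij
  let S : ((Fin m ⊕ Fin m) ⊕ Fin 2 → K) ≃+ ((Fin m ⊕ Fin m) ⊕ Fin 2 → K') :=
    AddEquiv.piCongrRight fun _ => e.toAddEquiv
  have hS : IsSS (QK K m a b) (QK K' m a b) S := by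
    refine ⟨e, 1, one_ne_zero, fun c v => funext fun i => map_mul e c (v i), fun v => ?_⟩
    rw [one_mul]
    refine Eq.trans ?_ (map_qMinus (e : K →+* K') _ _ v).symm
    rw [show (e : K →+* K') (algebraMap F K a) = algebraMap F K' a from e₀.commutes a,
      show (e : K →+* K') (algebraMap F K b) = algebraMap F K' b from e₀.commutes b]
    rfl
  have hU := (exists_lagr (m := m) hab hK).choose_spec
  have hmid : Keeps (QK K' m a b) (simMap (extSim K' m a b g)) ↔
      g ∈ minusSub (K := K) hm hab hK := by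
    refine (keeps_intertwine hQ hQ' hS (isSS_simMap _) (isSS_simMap _) (fun v => ?_) hU).symm
    funext i
    show e (((extGL K (g : GL _ F)).1 *ᵥ v) i) = ((extGL K' (g : GL _ F)).1 *ᵥ fun j => e (v j)) i
    refine (RingHom.map_mulVec (e : K →+* K') _ v i).trans ?_
    congr 1
    congr 1
    ext j l
    exact e₀.commutes _
  rw [← hmid, ← QuadClassify.qMinus_coe]
  refine forall_congr' fun U => ?_
  rw [OrthUnitarySimClasses.maxTS_iff hQ'.nd (exists_lagr (m := m) hab hK').choose_spec U,
    sameParityClass_iff]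
  have eimg : imageSubmodule ((g : GL _ F).1.map (algebraMap F K')) U =
      img K' (simMap (extSim K' m a b g)) U := by
    refine le_antisymm ?_ (Submodule.span_le.2 ?_)
    · rintro _ ⟨u, hu, rfl⟩
      exact Submodule.subset_span ⟨u, hu, (Matrix.toLin'_apply _ u).symm⟩
    · rintro _ ⟨u, hu, rfl⟩
      exact ⟨u, hu, Matrix.toLin'_apply _ u⟩
  rw [eimg]

end Sub

/-- A minus form has no totally singular subspace of half the dimension. -/
theorem not_lagr (_hm : 2 ≤ m) (hab : Aniso₂ a b) :
    ∀ U, ¬ Lagr (QuadClassify.qMinus m F a b) U := by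
  intro U₀ hU₀
  have hnd := AutOrth45Forms.nondegenerate_qMinus hab m
  let T : (Fin m → F) →ₗ[F] ((Fin m ⊕ Fin m) ⊕ Fin 2 → F) :=
    LinearMap.pi (Sum.elim (Sum.elim (fun i => LinearMap.proj i) fun _ => 0) fun _ => 0)
  have hT : ∀ x, T x = Sum.elim (Sum.elim x 0) 0 := fun x => by
    funext i
    rcases i with (i | i) | i <;> rfl
  set E := LinearMap.range T
  have hE : ∀ u ∈ E, QuadClassify.qMinus m F a b u = 0 := by
    rintro _ ⟨x, rfl⟩
    simp [hT, QuadClassify.qMinus_apply, quadFormMinus, quadFormPlus]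
  have hU := OmegaGeo.lagr_extend hnd hU₀ hE
  set U := E ⊔ U₀ ⊓ LinearMap.BilinForm.orthogonal
    (polarBilin (QuadClassify.qMinus m F a b)) E
  obtain ⟨u, huU, huE⟩ : ∃ u ∈ U, u ∉ E := by
    refine SetLike.not_le_iff_exists.1 fun hle => ?_
    have h1 := Submodule.finrank_mono hle
    have h2 := LinearMap.finrank_range_le T
    have h3 : Module.finrank F E ≤ Module.finrank F (Fin m → F) := h2
    have := hU.2
    rw [Module.finrank_pi] at this h3
    simp only [Fintype.card_sum, Fintype.card_fin] at this h3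
    omega
  have hy : ∀ i, u (.inl (.inr i)) = 0 := fun i => by
    have h1 := polar_of_sing hU.1
      (le_sup_left (a := E) (LinearMap.mem_range_self T (Pi.single i 1))) huU
    rw [hT] at h1
    simpa [polar, QuadClassify.qMinus_apply, quadFormMinus, quadFormPlus, Pi.single_apply, add_mul,
      Finset.sum_add_distrib, add_comm, add_left_comm] using h1
  have h0 := hU.1 u huU
  simp [QuadClassify.qMinus_apply, quadFormMinus, quadFormPlus, hy] at h0
  obtain ⟨h00, h01⟩ := hab _ _ h0
  refine huE ⟨fun i => u (.inl (.inl i)), ?_⟩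
  rw [hT]
  funext i
  rcases i with (i | i) | i
  · rfl
  · exact (hy i).symm
  · fin_cases i
    · exact h00.symm
    · exact h01.symm

/-- Any two minus forms are isometric. -/
theorem exists_isometry (m : ℕ) {a' b' : F} (hab : Aniso₂ a b) (hab' : Aniso₂ a' b') :
    ∃ L : GL ((Fin m ⊕ Fin m) ⊕ Fin 2) F,
      ∀ v, QuadClassify.qMinus m F a' b' (L.1 *ᵥ v) = QuadClassify.qMinus m F a b v := by
  obtain ⟨g₂, hg₂⟩ := OrthUnitaryAutMinus.exists_bin_equiv hab' hab
  let G : ((Fin m ⊕ Fin m) ⊕ Fin 2 → F) ≃ₗ[F] ((Fin m ⊕ Fin m) ⊕ Fin 2 → F) :=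
    (LinearEquiv.sumArrowLequivProdArrow _ _ F F).trans
      (((LinearEquiv.refl F (Fin m ⊕ Fin m → F)).prodCongr g₂).trans
        (LinearEquiv.sumArrowLequivProdArrow _ _ F F).symm)
  let g : GL ((Fin m ⊕ Fin m) ⊕ Fin 2) F := Matrix.GeneralLinearGroup.toLin.symm
    ((LinearMap.GeneralLinearGroup.generalLinearEquiv F _).symm G)
  have hg : ∀ w, g.1 *ᵥ w = G w := fun w => by
    have := Matrix.GeneralLinearGroup.toLin_apply g w
    rw [MulEquiv.apply_symm_apply] at this
    exact this.symm
  refine ⟨g, fun v => ?_⟩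
  have h1 : ∀ w i, G w (Sum.inl i) = w (Sum.inl i) := fun w i => rfl
  have h2 : ∀ w, (fun i => G w (Sum.inr i)) = g₂ (fun i => w (Sum.inr i)) := fun w => rfl
  have h3 := hg₂ (fun i => v (Sum.inr i))
  rw [← h2 v, QuadClassify.qBin_apply, QuadClassify.qBin_apply] at h3
  simp only [hg, QuadClassify.qMinus_apply, quadFormMinus, h1] at h3 ⊢
  linear_combination h3

universe u

variable {F : Type u} [Field F] [Fintype F] {m : ℕ} {a b : F} {K : Type u} [Field K] [Algebra F K]
  [Fintype K]

/-- The inner-diagonal automorphisms of the minus groups. -/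
theorem inndiag_minus_eq (hm : 2 ≤ m) (hab : OrthUnitaryForms.IsAniso a b)
    (hK : Module.finrank F K = 2) :
    autSubgroupOf (fun β : POmega F ⇑(QuadClassify.qMinus m F a b) ≃*
        POmega F ⇑(QuadClassify.qMinus m F a b) =>
      ∃ g : GL ((Fin m ⊕ Fin m) ⊕ Fin 2) F,
        g ∈ Geo.quadSimilarityGroup (F := F) ⇑(QuadClassify.qMinus m F a b) ∧
        PreservesSingularClassesMinus m a b g.1 ∧
        IsInducedBySemilinearPOmega ⇑(QuadClassify.qMinus m F a b) g (RingEquiv.refl F) β) =
      (minusSub (K := K) hm hab hK).map (conjP (QuadClassify.qMinus m F a b)) := by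
  refine autSubgroupOf_eq _ _ _ fun β => ⟨?_, ?_⟩
  · rintro ⟨g, hg, ⟨K', _, _, hK', hp⟩, hi⟩
    exact ⟨⟨g, hg⟩, (preserves_iff_minus hm hab hK ⟨g, hg⟩ K' hK').1 hp,
      (induced_iff _ g hg β).1 hi⟩
  · rintro ⟨g, hg, rfl⟩
    exact ⟨g.1, g.2, ⟨K, inferInstance, inferInstance, hK,
      (preserves_iff_minus hm hab hK g K hK).2 hg⟩, (induced_iff _ g.1 g.2 _).2 rfl⟩

end Cfsg.Agent.AutOrth45MinusClass
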