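import Mathlib
import Cfsg.Agent.Lib.AutOrth45MinusClass
import Cfsg.Agent.Lib.AutOrth45Congr
import Cfsg.Agent.Lib.AutOrth45Centralizer
import Cfsg.Agent.Lib.AutOrth45FieldTools

/-!
Field automorphisms of the minus orthogonal groups: centralisers and splitting of classes.
-/

set_option autoImplicit false
set_option linter.unusedSectionVars false

namespace Cfsg.Agent.AutOrth45MinusField

open QuadraticMap
open scoped Matrix MatrixGroups
open Cfsg.Agent.OrthUnitarySimAut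
open Cfsg.Agent.AutOrth45Api
open Cfsg.Agent.AutOrth45Gal
open Cfsg.Agent.AutOrth45Parity
open Cfsg.Agent.AutOrth45InnDiag
open Cfsg.Agent.AutOrth45MinusClass

variable {F : Type*} [Field F] [Fintype F] {m : ℕ} {a b a' b' : F}
  {K : Type*} [Field K] [Algebra F K] [Fintype K]
  (hm : 2 ≤ m) (hab : OrthUnitaryForms.IsAniso a b) (hK : Module.finrank F K = 2)

local notation "Q₁" => QuadClassify.qMinus m F a b
local notation "Q₂" => QuadClassify.qMinus m F a' b'

theorem refl_notMem (v : (Fin m ⊕ Fin m) ⊕ Fin 2 → F) (hv : Q₁ v ≠ 0) :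
    OrthUnitarySimilar.ofOrth (OrthUnitaryQuad.refl Q₁ v hv) ∉ minusSub (K := K) hm hab hK := by
  obtain ⟨hv', e⟩ := extSim_refl (K := K) v hv
  rw [minusSub, Subgroup.mem_comap, e]
  exact not_keeps_ofOrth (hyp_QK (K := K) hm hab) (exists_lagr hab hK).choose_spec _ hv'

theorem scalar_le : scalarSim Q₁ ≤ minusSub (K := K) hm hab hK := by
  intro g hg
  obtain ⟨l, hl, hl0⟩ := (mem_scalarSim _).1 hg
  show Keeps _ (simMap (extSim K m a b g))
  refine keeps_of_fixed (hyp_QK (K := K) hm hab) (isSS_simMap _)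
    (exists_lagr hab hK).choose_spec fun u hu => ?_
  rw [simMap_apply, show ((extSim K m a b g : GL ((Fin m ⊕ Fin m) ⊕ Fin 2) K) :
      Matrix ((Fin m ⊕ Fin m) ⊕ Fin 2) ((Fin m ⊕ Fin m) ⊕ Fin 2) K) = (algebraMap F K l) • 1 by
    show (g : GL ((Fin m ⊕ Fin m) ⊕ Fin 2) F).1.map (algebraMap F K) = _
    rw [hl]
    ext i j
    rcases eq_or_ne i j with rfl | hij <;> simp [*], Matrix.smul_mulVec, Matrix.one_mulVec]
  exact Submodule.smul_mem _ _ hu

/-- The class subgroup does not depend on the anisotropic binary part. -/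
theorem sim_mem_minusSub (hab' : OrthUnitaryForms.IsAniso a' b')
    (L : GL ((Fin m ⊕ Fin m) ⊕ Fin 2) F) (hL : ∀ v, Q₂ (L.1 *ᵥ v) = Q₁ v) (d : Sim Q₁) :
    (⟨_, AutOrth45Congr.sim_mem L hL d⟩ : Sim Q₂) ∈ minusSub (K := K) hm hab' hK ↔
      d ∈ minusSub (K := K) hm hab hK := by
  have hS : IsSS (QK K m a b) (QK K m a' b') (semi (extGL K L) (RingEquiv.refl K)) := by
    have key : (QK K m a' b').comp (Matrix.mulVecLin (extGL K L).1) = QK K m a b := by
      have h0 : ∀ w : (Fin m ⊕ Fin m) ⊕ Fin 2 → F,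
          QK K m a' b' ((extGL K L).1 *ᵥ fun i => algebraMap F K (w i)) =
            QK K m a b (fun i => algebraMap F K (w i)) := fun w => by
        rw [← map_qMinus, ← hL, map_qMinus]
        exact congrArg _ (funext fun i => (RingHom.map_mulVec (algebraMap F K) L.1 w i).symm)
      refine AutOrth45Descent.form_ext' _ _ (fun i => ?_) (fun i j => ?_) <;>
        simp only [QuadraticMap.comp_apply, Matrix.mulVecLin_apply]
      · have e := h0 (Pi.single i 1)
        rwa [map_single] at e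
      · have e := h0 (Pi.single i 1 + Pi.single j 1)
        rwa [map_single_add] at e
    refine ⟨RingEquiv.refl K, 1, one_ne_zero, AutOrth45Types.semi_smul _ _, fun v => ?_⟩
    rw [one_mul]
    exact QuadraticMap.congr_fun key v
  refine (keeps_intertwine (hyp_QK (K := K) hm hab) (hyp_QK (K := K) hm hab') hS
    (isSS_simMap (extSim K m a b d)) (isSS_simMap (extSim K m a' b' ⟨_, AutOrth45Congr.sim_mem L hL d⟩))
    (fun v => ?_) (exists_lagr hab hK).choose_spec).symm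
  show (extGL K L).1 *ᵥ ((extGL K (d : GL _ F)).1 *ᵥ v) =
    (extGL K (L * (d : GL _ F) * L⁻¹)).1 *ᵥ ((extGL K L).1 *ᵥ v)
  rw [Matrix.mulVec_mulVec, Matrix.mulVec_mulVec, ← Units.val_mul, ← Units.val_mul, ← map_mul,
    ← map_mul, inv_mul_cancel_right]

theorem map_minusSub (hab' : OrthUnitaryForms.IsAniso a' b')
    (L : GL ((Fin m ⊕ Fin m) ⊕ Fin 2) F) (hL : ∀ v, Q₂ (L.1 *ᵥ v) = Q₁ v) :
    ((minusSub (K := K) hm hab hK).map (conjP Q₁)).map
        (MulAut.congr (AutOrth45Congr.congrP L hL)).toMonoidHom =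
      (minusSub (K := K) hm hab' hK).map (conjP Q₂) := by
  have e : ∀ d : Sim Q₁, MulAut.congr (AutOrth45Congr.congrP L hL) (conjP Q₁ d) =
      conjP Q₂ ⟨_, AutOrth45Congr.sim_mem L hL d⟩ := fun d => MulEquiv.ext fun y => by
    show AutOrth45Congr.congrP L hL (conjP Q₁ d ((AutOrth45Congr.congrP L hL).symm y)) = _
    rw [AutOrth45Congr.congrP_conjP L hL, MulEquiv.apply_symm_apply]
  refine le_antisymm ?_ ?_
  · rintro _ ⟨_, ⟨d, hd, rfl⟩, rfl⟩
    exact ⟨_, (sim_mem_minusSub hm hab hK hab' L hL d).2 hd, (e d).symm⟩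
  · rintro _ ⟨d', hd', rfl⟩
    let d : Sim Q₁ := ⟨_, AutOrth45Congr.sim_mem L⁻¹ (AutOrth45Congr.back_q L hL) d'⟩
    have hd : (⟨_, AutOrth45Congr.sim_mem L hL d⟩ : Sim Q₂) = d' :=
      Subtype.ext (by simp [d, mul_assoc])
    refine ⟨conjP Q₁ d, ⟨d, (sim_mem_minusSub hm hab hK hab' L hL d).1 (by rw [hd]; exact hd'), rfl⟩, ?_⟩
    show MulAut.congr _ _ = _
    rw [e, hd]

section Subfield

variable {F₀ : Type*} [Field F₀] [Fintype F₀] {a₀ b₀ : F₀} {φ : F₀ →+* F}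
  {K₀ : Type*} [Field K₀] [Algebra F₀ K₀] [Fintype K₀]

/-- The classes over the subfield and over the field agree. -/
theorem rat_mem_minusSub (hab₀ : OrthUnitaryForms.IsAniso a₀ b₀)
    (hK₀ : Module.finrank F₀ K₀ = 2) (ha : φ a₀ = a) (hb : φ b₀ = b) (ψ : K₀ →+* K)
    (hψ : ∀ x, ψ (algebraMap F₀ K₀ x) = algebraMap F K (φ x))
    (hQ : ∀ v, Q₁ (AutOrth45BaseChange.emb φ v) = φ (QuadClassify.qMinus m F₀ a₀ b₀ v))
    (d₀ : Sim (QuadClassify.qMinus m F₀ a₀ b₀)) :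
    AutOrth45Centralizer.rat hQ d₀ ∈ minusSub (K := K) hm hab hK ↔
      d₀ ∈ minusSub (K := K₀) hm hab₀ hK₀ := by
  have hQK : ∀ v, QK K m a b (AutOrth45BaseChange.emb ψ v) = ψ (QK K₀ m a₀ b₀ v) := fun v => by
    rw [map_qMinus ψ, hψ, hψ, ha, hb]
    rfl
  have e : Matrix.GeneralLinearGroup.map ψ (extGL K₀ (d₀ : GL _ F₀)) =
      extGL K (AutOrth45Centralizer.rat hQ d₀ : GL ((Fin m ⊕ Fin m) ⊕ Fin 2) F) := by
    refine Units.ext (Matrix.ext fun i j => ?_)
    exact hψ _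
  have hp' : IsSemisimilarityPair ⇑(QK K m a b)
      (Matrix.GeneralLinearGroup.map ψ (extGL K₀ (d₀ : GL _ F₀))) (RingEquiv.refl K) := by
    rw [e]
    exact sim_pair (extSim K m a b (AutOrth45Centralizer.rat hQ d₀))
  have h1 := AutOrth45BaseChange.keeps_ext ψ (hyp_QK (K := K₀) hm hab₀) (hyp_QK (K := K) hm hab)
    hQK (exists_lagr (K := K₀) hab₀ hK₀).choose_spec
    (sim_pair (extSim K₀ m a₀ b₀ d₀)) hp'
  refine Iff.trans ?_ h1.symm
  show Keeps _ (semi (extGL K (AutOrth45Centralizer.rat hQ d₀ : GL ((Fin m ⊕ Fin m) ⊕ Fin 2) F)) (RingEquiv.refl K)) ↔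
    Keeps _ (semi _ (RingEquiv.refl K))
  rw [← e]
  rfl

end Subfield

universe u

/-- The inner-diagonal group of the minus groups as the image of the class subgroup. -/
theorem nonempty_inndiag {F₀ : Type u} [Field F₀] [Fintype F₀] {m : ℕ} {a₀ b₀ : F₀} {K₀ : Type u}
    [Field K₀] [Algebra F₀ K₀] [Fintype K₀] (hm : 2 ≤ m) (hab : OrthUnitaryForms.IsAniso a₀ b₀)
    (hK : Module.finrank F₀ K₀ = 2) :
    Nonempty (↥((minusSub (K := K₀) hm hab hK).map (conjP (QuadClassify.qMinus m F₀ a₀ b₀))) ≃*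
      ↥(Cfsg.inndiagPOmegaMinus m F₀ a₀ b₀)) := by
  suffices gen : ∀ f, ⇑(QuadClassify.qMinus m F₀ a₀ b₀) = f →
      ∀ S : Subgroup (MulAut (POmega F₀ f)),
      S = autSubgroupOf (fun β : POmega F₀ f ≃* POmega F₀ f =>
        ∃ g : GL ((Fin m ⊕ Fin m) ⊕ Fin 2) F₀, g ∈ Geo.quadSimilarityGroup (F := F₀) f ∧
          PreservesSingularClassesMinus m a₀ b₀ g.1 ∧
          IsInducedBySemilinearPOmega f g (RingEquiv.refl F₀) β) →
      Nonempty (↥((minusSub (K := K₀) hm hab hK).map (conjP (QuadClassify.qMinus m F₀ a₀ b₀))) ≃*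
        ↥S) from gen _ (QuadClassify.qMinus_coe m a₀ b₀) (Cfsg.inndiagPOmegaMinus m F₀ a₀ b₀) rfl
  rintro f rfl S rfl
  rw [inndiag_minus_eq hm hab hK]
  exact ⟨MulEquiv.refl _⟩

end Cfsg.Agent.AutOrth45MinusField
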