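import Mathlib

/-!
A quotient which is a product of a group of order two and a complement.
-/

set_option autoImplicit false

namespace Cfsg.Agent.AutOrth45Out

/-- The quotient by `N` when `R/N` has order two and a group of automorphisms complements `R`. -/
theorem nonempty_equiv_prod {G A : Type*} [Group G] [CommGroup A] (N R : Subgroup G) [N.Normal]
    [R.Normal] (hle : N ≤ R) (hrel : N.relIndex R = 2) (fd : A →* G)
    (hdec : ∀ x : G, ∃ r ∈ R, ∃ a, x = r * fd a) (hinj : ∀ a, fd a ∈ R → a = 1) :
    Nonempty (G ⧸ N ≃* Multiplicative (ZMod 2) × A) := by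
  classical
  set π := QuotientGroup.mk' N with hπ
  have hπs : Function.Surjective π := QuotientGroup.mk'_surjective N
  set S := R.map π with hS
  have hScard : Nat.card S = 2 := by
    have h1 := Subgroup.relIndex_ker (K := R) π
    rw [hπ, QuotientGroup.ker_mk', hrel] at h1
    rw [hS, hπ]
    exact h1.symm
  haveI : S.Normal := Subgroup.Normal.map inferInstance π hπs
  have hcomm : ∀ s ∈ S, ∀ x, s * x = x * s := by
    intro s hs x
    by_cases hs1 : s = 1
    · rw [hs1, one_mul, mul_one]
    obtain ⟨y, z, hyz, huniv⟩ := Nat.card_eq_two_iff.1 hScard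
    have hmem : ∀ t : S, t = y ∨ t = z := fun t => by
      have := (huniv.symm ▸ Set.mem_univ t : t ∈ ({y, z} : Set S))
      simpa using this
    have hc : x⁻¹ * s * x ∈ S := by simpa using Subgroup.Normal.conj_mem inferInstance s hs x⁻¹
    have hne : x⁻¹ * s * x ≠ 1 := fun h => hs1 (by
      have := congrArg (fun t => x * t * x⁻¹) h
      simpa [mul_assoc] using this)
    have key : x⁻¹ * s * x = s := by
      rcases hmem ⟨_, hc⟩ with a | a <;> rcases hmem ⟨s, hs⟩ with b | b <;>
        rcases hmem 1 with c | c <;> first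
          | exact congrArg Subtype.val (a.trans b.symm)
          | exact absurd (congrArg Subtype.val (a.trans c.symm)) hne
          | exact absurd (congrArg Subtype.val (b.trans c.symm)) hs1
    calc s * x = x * (x⁻¹ * s * x) := by group
      _ = x * s := by rw [key]
  haveI : IsCyclic S := isCyclic_of_prime_card (p := 2) hScard
  let eS : Multiplicative (ZMod 2) ≃* S :=
    mulEquivOfCyclicCardEq (by simp [hScard])
  let Φ : Multiplicative (ZMod 2) × A →* G ⧸ N :=
    MonoidHom.noncommCoprod (S.subtype.comp eS.toMonoidHom) (π.comp fd)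
      fun a b => hcomm _ (eS a).2 _
  have happ : ∀ a b, Φ (a, b) = (eS a : G ⧸ N) * π (fd b) := fun a b => rfl
  refine ⟨(MulEquiv.ofBijective Φ ⟨(injective_iff_map_eq_one Φ).2 ?_, fun x => ?_⟩).symm⟩
  · rintro ⟨a, b⟩ h
    rw [happ] at h
    have hb : fd b ∈ R := by
      have h1 : π (fd b) ∈ S := by
        rw [eq_inv_of_mul_eq_one_right h]; exact inv_mem (eS a).2
      obtain ⟨r, hr, hre⟩ := h1
      have h2 := hle (QuotientGroup.eq.1 hre)
      simpa using R.mul_mem hr h2
    obtain rfl := hinj b hb
    rw [map_one, map_one, mul_one] at h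
    have : eS a = 1 := Subtype.ext h
    simp [(eS.map_eq_one_iff).1 this]
  · obtain ⟨g, rfl⟩ := hπs x
    obtain ⟨r, hr, a, rfl⟩ := hdec g
    obtain ⟨e, he⟩ := eS.surjective ⟨π r, r, hr, rfl⟩
    exact ⟨(e, a), by rw [happ, he, map_mul]⟩

end Cfsg.Agent.AutOrth45Out
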