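import Mathlib
import Cfsg.Agent.Lib.AutOrth45Forms
import Cfsg.Agent.Lib.OrthUnitarySimilar
import Cfsg.Agent.Lib.AutPSLApi
import Cfsg.Agent.Lib.OutPSL52
import Cfsg.Agent.Lib.AutOrth45OutGroup

/-!
The automorphism group of the odd-dimensional orthogonal groups.
-/

set_option autoImplicit false
set_option linter.unusedSectionVars false

namespace Cfsg.Agent.AutOrth45Odd

open QuadraticMap
open scoped Matrix MatrixGroups
open Cfsg.Agent.OrthUnitaryQuad
open Cfsg.Agent.OrthUnitaryRefl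
open Cfsg.Agent.OrthUnitaryOmega
open Cfsg.Agent.OrthUnitaryCentre
open Cfsg.Agent.OrthUnitaryPrelude
open Cfsg.Agent.OrthUnitarySimAut
open Cfsg.Agent.AutOrth45
open Cfsg.Agent.AutOrth45Api

variable {F : Type*} [Field F] [Fintype F]

section General

variable {ι : Type} [Fintype ι] [DecidableEq ι] {Q : QuadraticForm F (ι → F)}

theorem gram_det_ne_zero (hnd : (polarBilin Q).Nondegenerate) {κ : Type*} [Fintype κ]
    [DecidableEq κ] (b : Module.Basis κ F (ι → F)) : (QuadClassify.gram Q b).det ≠ 0 := by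
  intro h0
  obtain ⟨v, hv, hmul⟩ := Matrix.exists_mulVec_eq_zero_iff.2 h0
  have hb : ∀ i, polar Q (b i) (∑ j, v j • b j) = 0 := fun i => by
    rw [← polarBilin_apply_apply, map_sum]
    have := congrFun hmul i
    simpa [Matrix.mulVec, dotProduct, QuadClassify.gram_apply, mul_comm] using this
  have h1 : ∑ j, v j • b j = 0 := hnd.2 _ fun x => by
    rw [← b.sum_repr x, map_sum (polarBilin Q), LinearMap.coe_sum, Finset.sum_apply]
    exact Finset.sum_eq_zero fun i _ => by
      rw [map_smul, LinearMap.smul_apply, polarBilin_apply_apply, hb, smul_zero]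
  exact hv (funext (Fintype.linearIndependent_iff.1 b.linearIndependent v h1))

/-- In odd dimension multipliers are squares. -/
theorem isSquare_mult (hnd : (polarBilin Q).Nondegenerate) (hodd : Odd (Fintype.card ι))
    {g : GL ι F} {c : Fˣ} (hg : ∀ v, Q (g.1 *ᵥ v) = (c : F) * Q v) : IsSquare (c : F) := by
  set b := Pi.basisFun F ι
  let L : (ι → F) ≃ₗ[F] (ι → F) :=
    LinearMap.GeneralLinearGroup.generalLinearEquiv F _ (Matrix.GeneralLinearGroup.toLin g)
  have hL : ∀ v, L v = g.1 *ᵥ v := fun v => Matrix.GeneralLinearGroup.toLin_apply g v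
  have h1 : QuadClassify.gram Q (b.map L) = (c : F) • QuadClassify.gram Q b := by
    ext i j
    simp only [QuadClassify.gram_apply, Module.Basis.map_apply, hL, Matrix.smul_apply, smul_eq_mul,
      polar, ← Matrix.mulVec_add, hg]
    ring
  have h2 := QuadClassify.gram_change Q b (b.map L)
  rw [h1, Matrix.det_smul] at h2
  have h3 := mul_right_cancel₀ (gram_det_ne_zero hnd b) h2
  obtain ⟨k, hk⟩ := hodd
  refine ⟨(b.toMatrix (b.map L)).det / (c : F) ^ k, ?_⟩
  rw [div_mul_div_comm, ← h3, hk, pow_succ, two_mul, pow_add]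
  field_simp

/-- In odd dimension every similarity is a scalar times an isometry. -/
theorem exists_scalar_orth (hnd : (polarBilin Q).Nondegenerate) (hodd : Odd (Fintype.card ι))
    (g : Sim Q) : ∃ (l : Fˣ) (k : orth Q),
      g = OrthUnitarySimilar.scalarOf Q l * OrthUnitarySimilar.ofOrth k := by
  obtain ⟨c, hc⟩ := g.2
  obtain ⟨l, hl⟩ := isSquare_mult hnd hodd hc
  have hl0 : l ≠ 0 := fun h0 => c.ne_zero (by rw [hl, h0, mul_zero])
  set g' := (OrthUnitarySimilar.scalarOf Q (Units.mk0 l hl0))⁻¹ * g with hg'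
  have hiso : (g' : GL ι F) ∈ isometryGroup F ⇑Q := fun v _ => by
    show Q ((g' : GL ι F).1 *ᵥ v) = Q v
    have h1 : (g : GL ι F).1 *ᵥ v = l • ((g' : GL ι F).1 *ᵥ v) := by
      rw [show g = OrthUnitarySimilar.scalarOf Q (Units.mk0 l hl0) * g' by
        rw [hg', mul_inv_cancel_left]]
      rw [Subgroup.coe_mul, Units.val_mul, OrthUnitarySimilar.scalarOf_coe, Matrix.smul_mul,
        Matrix.one_mul, Matrix.smul_mulVec]
      rfl
    have h2 := hc v
    rw [h1, QuadraticMap.map_smul, smul_eq_mul, ← hl] at h2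
    exact mul_left_cancel₀ c.ne_zero h2
  refine ⟨Units.mk0 l hl0, iso Q ⟨_, hiso⟩, ?_⟩
  rw [show OrthUnitarySimilar.ofOrth (iso Q ⟨_, hiso⟩) = g' from Subtype.ext (by
    simp [OrthUnitarySimilar.ofOrth]), hg', mul_inv_cancel_left]

variable (Q) in
/-- The action of isometries. -/
noncomputable def orthAct : orth Q →* MulAut (POmega F ⇑Q) :=
  (conjP Q).comp (MonoidHom.mk' OrthUnitarySimilar.ofOrth OrthUnitarySimilar.ofOrth_mul)

theorem scalarOf_act (l : Fˣ) : conjP Q (OrthUnitarySimilar.scalarOf Q l) = 1 :=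
  scalarSim_le_ker Q (OrthUnitarySimilar.scalarOf_mem l)

theorem range_orthAct (hnd : (polarBilin Q).Nondegenerate) (hodd : Odd (Fintype.card ι)) :
    (orthAct Q).range = (conjP Q).range := by
  refine le_antisymm ?_ ?_
  · rintro _ ⟨k, rfl⟩; exact ⟨_, rfl⟩
  · rintro _ ⟨g, rfl⟩
    obtain ⟨l, k, rfl⟩ := exists_scalar_orth hnd hodd g
    exact ⟨k, by rw [map_mul, scalarOf_act, one_mul]; rfl⟩

theorem mem_ker_orthAct (hnd : (polarBilin Q).Nondegenerate) (hn : 5 ≤ Fintype.card ι)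
    (k : orth Q) : k ∈ (orthAct Q).ker ↔ k = 1 ∨ k = negOne Q := by
  have hne : Nonempty ι := Fintype.card_pos_iff.1 (by omega)
  have hm : k ∈ (orthAct Q).ker ↔ OrthUnitarySimilar.ofOrth k ∈ scalarSim Q := by
    rw [← ker_conjP Q hnd hn]; rfl
  rw [hm, mem_scalarSim]
  constructor
  · rintro ⟨l, hl, hl0⟩
    have happ : ∀ x, k.1 x = l • x := fun x => by
      rw [← OrthUnitarySimilar.ofOrth_mulVec, hl, Matrix.smul_mulVec, Matrix.one_mulVec]
    obtain ⟨v, hv⟩ := exists_map_ne_zero (isReg_of_nondegenerate hnd)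
      (by rw [finrank_pi]; omega)
    have h1 := map_orth k v
    rw [happ, QuadraticMap.map_smul, smul_eq_mul] at h1
    rcases mul_self_eq_one_iff.1 (mul_right_cancel₀ hv (h1.trans (one_mul _).symm)) with rfl | rfl
    · exact Or.inl (orth_ext fun x => by rw [happ, one_smul]; rfl)
    · exact Or.inr (orth_ext fun x => by rw [happ, neg_one_smul]; rfl)
  · have key : ∀ l : F, (∀ x, k.1 x = l • x) →
        ((OrthUnitarySimilar.ofOrth k : GL ι F) : Matrix ι ι F) = l • 1 := fun l hl =>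
      Matrix.ext_iff_mulVec.2 fun x => by
        rw [OrthUnitarySimilar.ofOrth_mulVec, hl, Matrix.smul_mulVec, Matrix.one_mulVec]
    rintro (rfl | rfl)
    · exact ⟨1, key 1 fun x => (one_smul F x).symm, one_ne_zero⟩
    · exact ⟨-1, key (-1) fun x => (neg_one_smul F x).symm, by simp⟩

end General

variable {m : ℕ}

local notation "Qo" => QuadClassify.qOdd m F

theorem negOne_not_mem (h2 : (2 : F) ≠ 0) : negOne Qo ∉ commutator (orth Qo) := fun hmem => by
  have he : ∀ x, Qo (OrthUnitaryForms.eqOdd m x) = withBase m (OrthUnitaryForms.qfSq F) x :=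
    fun x => by rw [QuadClassify.qOdd_apply, OrthUnitaryForms.eqOdd_isometry]
  refine OrthUnitaryStd.not_negOne_mem_odd h2 m ?_
  rw [mem_commutator_iff (orthCongr _ he), orthCongr_negOne]
  exact hmem

theorem facts (h2 : (2 : F) ≠ 0) (hm : 3 ≤ m) :
    (Inn (POmega F ⇑Qo)).relIndex (conjP Qo).range = 2 ∧
      Nat.card (conjP Qo).range = 2 * Nat.card (POmega F ⇑Qo) := by
  have h := AutOrth45Forms.good_odd (F := F) h2 hm
  have hn : 5 ≤ Fintype.card (Unit ⊕ (Fin m ⊕ Fin m)) := by simp; omega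
  have hodd : Odd (Fintype.card (Unit ⊕ (Fin m ⊕ Fin m))) := ⟨m, by simp; omega⟩
  have hQd : 2 ≤ Module.finrank F (Unit ⊕ (Fin m ⊕ Fin m) → F) := by rw [finrank_pi]; omega
  have := finite_orth Qo
  set C := commutator (orth Qo)
  set K := (orthAct Qo).ker with hKdef
  have hK : Nat.card K = 2 := by
    rw [Nat.card_eq_two_iff]
    refine ⟨⟨1, one_mem _⟩, ⟨negOne Qo, (mem_ker_orthAct h.nd hn _).2 (Or.inr rfl)⟩, ?_,
      Set.eq_univ_of_forall fun x => ?_⟩
    · intro he
      have h' : (1 : orth Qo) = negOne Qo := congrArg Subtype.val he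
      exact negOne_not_mem h2 (m := m) (h' ▸ one_mem _)
    · rcases (mem_ker_orthAct h.nd hn x.1).1 x.2 with hx | hx
      · exact Or.inl (Subtype.ext hx)
      · exact Or.inr (Subtype.ext hx)
  have hC := (odd_main h2 h.reg).2 hQd
  have hdisj : C ⊓ K = ⊥ := by
    rw [Subgroup.eq_bot_iff_forall]
    intro x hx
    rcases (mem_ker_orthAct h.nd hn x).1 hx.2 with h1 | h1
    · exact h1
    · exact absurd (h1 ▸ hx.1) (negOne_not_mem h2)
  have hinn : C.map (orthAct Qo) = Inn (POmega F ⇑Qo) := by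
    rw [inn_eq]
    ext β
    constructor
    · rintro ⟨k, hk, rfl⟩
      exact ⟨_, (OrthUnitarySimilar.ofOrth_mem_omegaSim k).2 hk, rfl⟩
    · rintro ⟨g, ⟨s, hs, hsg⟩, rfl⟩
      refine ⟨iso Qo s, (mem_Omega_iff s).1 hs, ?_⟩
      show conjP Qo (OrthUnitarySimilar.ofOrth (iso Qo s)) = _
      congr 1
      exact Subtype.ext (by simpa [OrthUnitarySimilar.ofOrth] using hsg)
  have hKn : K.Normal := MonoidHom.normal_ker _
  have hsup : Nat.card ↥(C ⊔ K) = Nat.card C * 2 := by
    have h1 : K.relIndex (C ⊔ K) = K.relIndex C := by rw [sup_comm]; exact Subgroup.relIndex_sup_left C K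
    have h2' : K.relIndex C = Nat.card C := by
      rw [← Subgroup.inf_relIndex_right, inf_comm, hdisj, Subgroup.relIndex_bot_left]
    have h3 := Subgroup.relIndex_mul_relIndex ⊥ K (C ⊔ K) bot_le le_sup_right
    rw [Subgroup.relIndex_bot_left, Subgroup.relIndex_bot_left, h1, h2', hK] at h3
    rw [← h3, mul_comm]
  have hidx : (C ⊔ K).index = 2 := by
    have h1 := (C ⊔ K).card_mul_index
    rw [hsup, ← C.card_mul_index, hC, mul_assoc] at h1
    have := Nat.eq_of_mul_eq_mul_left Nat.card_pos h1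
    omega
  have hrel : (Inn (POmega F ⇑Qo)).relIndex (conjP Qo).range = 2 := by
    rw [← range_orthAct h.nd hodd, ← hinn, MonoidHom.range_eq_map, Subgroup.relIndex_map_map]
    rw [top_sup_eq, Subgroup.relIndex_top_right]
    exact hidx
  refine ⟨hrel, ?_⟩
  have hcardInn : Nat.card (Inn (POmega F ⇑Qo)) = Nat.card C := by
    rw [← hinn]
    refine (Nat.card_congr (Equiv.ofBijective (fun c : C => (⟨orthAct Qo c.1, c.1, c.2, rfl⟩ :
      C.map (orthAct Qo))) ⟨fun a b hab => ?_, fun y => ?_⟩)).symm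
    · have h1 : (a⁻¹ * b).1 ∈ C ⊓ K := ⟨(a⁻¹ * b).2, by
        have : orthAct Qo a.1 = orthAct Qo b.1 := congrArg Subtype.val hab
        show orthAct Qo (a.1⁻¹ * b.1) = 1
        rw [map_mul, map_inv, this]; simp⟩
      rw [hdisj, Subgroup.mem_bot] at h1
      exact inv_mul_eq_one.1 (Subtype.ext h1)
    · obtain ⟨_, k, hk, rfl⟩ := y
      exact ⟨⟨k, hk⟩, rfl⟩
  have hΩ : Nat.card (POmega F ⇑Qo) = Nat.card C := by
    have e : Nat.card (Omega F ⇑Qo) = Nat.card C :=
      Nat.card_congr (((iso Qo).subgroupMap (Omega F ⇑Qo)).trans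
        (MulEquiv.subgroupCongr (map_commutator_equiv (iso Qo)))).toEquiv
    have hb : Subgroup.center (Omega F ⇑Qo) = ⊥ := by
      rw [Subgroup.eq_bot_iff_forall]
      intro z hz
      have h1 : toS h z ∈ Subgroup.center (OrthUnitarySimple.sGroup Qo) :=
        Subgroup.mem_center_iff.2 fun y => by
          obtain ⟨y, rfl⟩ := (toS h).surjective y
          rw [← map_mul, ← map_mul, Subgroup.mem_center_iff.1 hz y]
      rcases h.center_mem h1 with h3 | h3
      · exact (toS h).injective (by rw [map_one]; exact Subtype.ext h3)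
      · refine absurd ?_ (negOne_not_mem (m := m) h2)
        rw [OrthUnitarySimple.commutator_eq_sGroup h.nd h.dim5, ← h3]
        exact (toS h z).2
    have h4 := Subgroup.card_eq_card_quotient_mul_card_subgroup (Subgroup.center (Omega F ⇑Qo))
    rw [hb, Subgroup.card_bot, mul_one] at h4
    show Nat.card (Omega F ⇑Qo ⧸ Subgroup.center (Omega F ⇑Qo)) = _
    rw [← e, h4, hb]
  have hle : Inn (POmega F ⇑Qo) ≤ (conjP Qo).range := by
    rw [inn_eq]; exact Subgroup.map_le_range _ _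
  have h3 := Subgroup.relIndex_mul_relIndex ⊥ _ _ bot_le hle
  rw [Subgroup.relIndex_bot_left, Subgroup.relIndex_bot_left, hrel, hcardInn] at h3
  rw [hΩ, ← h3, mul_comm]

theorem card_mulAut (h2 : (2 : F) ≠ 0) (hm : 3 ≤ m) :
    Nat.card (MulAut (POmega F ⇑Qo))
      = 2 * Nat.card (F ≃+* F) * Nat.card (POmega F ⇑Qo) := by
  have h := AutOrth45Forms.good_odd (F := F) h2 hm
  have hinv := AutOrth45Forms.inv_odd (F := F) m
  rw [mul_right_comm, ← (facts h2 hm).2, ← Nat.card_prod]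
  refine (Nat.card_congr (Equiv.ofBijective
    (fun x : (conjP Qo).range × (F ≃+* F) => x.1.1 * fd h hinv x.2) ⟨?_, fun α => ?_⟩)).symm
  · rintro ⟨⟨_, g, rfl⟩, σ⟩ ⟨⟨_, k, rfl⟩, τ⟩ he
    have h1 : conjP Qo (k⁻¹ * g) * fd h hinv (σ * τ⁻¹) = 1 := by
      rw [map_mul, map_inv, map_mul, map_inv, mul_assoc, ← mul_assoc (conjP Qo g)]
      rw [show conjP Qo g * fd h hinv σ = conjP Qo k * fd h hinv τ from he]
      group
    obtain ⟨hσ, hg⟩ := decomp_unique h hinv h1
    obtain rfl := mul_inv_eq_one.1 hσ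
    refine Prod.ext (Subtype.ext ?_) rfl
    exact mul_right_cancel he
  · obtain ⟨g, σ, rfl⟩ := aut_decomp h hinv α
    exact ⟨(⟨_, g, rfl⟩, σ), rfl⟩

theorem out_structure (h2 : (2 : F) ≠ 0) (hm : 3 ≤ m) [IsMulCommutative (F ≃+* F)] :
    Nonempty (Cfsg.Out (POmega F ⇑Qo) ≃* Multiplicative (ZMod 2) × (F ≃+* F)) := by
  have h := AutOrth45Forms.good_odd (F := F) h2 hm
  have hinv := AutOrth45Forms.inv_odd (F := F) m
  have hnorm : (conjP Qo).range.Normal := by
    refine ⟨fun x hx α => ?_⟩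
    obtain ⟨g, σ, rfl⟩ := aut_decomp h hinv α
    obtain ⟨k, rfl⟩ := hx
    have hp := pair_mul (field_pair hinv σ) (sim_pair k)
    obtain ⟨g₁, -, hg₁⟩ := semiAut_decomp h hinv hp
    refine ⟨g * g₁ * g⁻¹, ?_⟩
    have h1 : fd h hinv σ * conjP Qo k = conjP Qo g₁ * fd h hinv σ := by
      rw [fd_apply h hinv σ, conjP_eq h k, semiAut_mul]
      rw [hg₁, show σ * (RingEquiv.refl F : F ≃+* F) = σ from mul_one σ]
      rfl
    rw [map_mul, map_mul, map_inv, mul_inv_rev, mul_assoc (conjP Qo g) (fd h hinv σ), h1]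
    group
  haveI := hnorm
  letI : CommGroup (F ≃+* F) :=
    { (inferInstance : Group (F ≃+* F)) with mul_comm := mul_comm' }
  refine AutOrth45Out.nonempty_equiv_prod (Inn (POmega F ⇑Qo)) (conjP Qo).range
    (by rw [inn_eq]; exact Subgroup.map_le_range _ _) (facts h2 hm).1 (fd h hinv) (fun α => ?_) ?_
  · obtain ⟨g, σ, rfl⟩ := aut_decomp h hinv α
    exact ⟨_, ⟨g, rfl⟩, σ, rfl⟩
  · rintro σ ⟨g, hg⟩
    exact (decomp_unique h hinv (g := g⁻¹) (σ := σ) (by rw [map_inv, hg, inv_mul_cancel])).1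

end Cfsg.Agent.AutOrth45Odd
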