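import Mathlib
import Cfsg.Agent.Lib.AutOrth45Centralizer

/-!
Field automorphisms of `PΩ(Q)` through their action on the similarity-induced automorphisms, for
forms in every dimension at least five.
-/

set_option autoImplicit false
set_option linter.unusedSectionVars false

namespace Cfsg.Agent.AutOrth45Twine

open QuadraticMap
open scoped Matrix MatrixGroups
open Cfsg.Agent.OrthUnitaryPrelude
open Cfsg.Agent.OrthUnitarySimAut
open Cfsg.Agent.AutOrth45Api
open Cfsg.Agent.AutOrth45InnDiag
open Cfsg.Agent.AutOrth45Centralizer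

variable {ι : Type} [Fintype ι] [DecidableEq ι] {F : Type*} [Field F] [Fintype F]
  {Q : QuadraticForm F (ι → F)}

omit [Fintype F] in
/-- Intertwining a matrix with a field automorphism. -/
theorem semi_one_iff (σ : F ≃+* F) (A B : Matrix ι ι F) :
    (∀ v, semi 1 σ (A *ᵥ v) = B *ᵥ semi 1 σ v) ↔ B = A.map σ := by
  constructor
  · intro hd
    refine Matrix.ext_iff_mulVec.2 fun w => ?_
    have e := hd fun i => σ.symm (w i)
    simp only [semi_apply, Units.val_one, Matrix.one_mulVec, RingEquiv.apply_symm_apply] at e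
    rw [← e]
    conv_rhs => rw [show w = fun i => σ (σ.symm (w i)) by simp, map_mulVec_comp]
  · rintro rfl v
    simp only [semi_apply, Units.val_one, Matrix.one_mulVec, map_mulVec_comp]

omit [Fintype F] in
theorem apply_mem {σ : F ≃+* F} (hinv : Inv Q) (s : isometryGroup F ⇑Q) :
    Matrix.GeneralLinearGroup.map (σ : F →+* F) (s : GL ι F) ∈ isometryGroup F ⇑Q := by
  intro u v
  show Q ((s : GL ι F).1.map σ *ᵥ u) = Q u
  conv_lhs => rw [show u = fun i => σ (σ.symm (u i)) by simp, map_mulVec_comp]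
  conv_rhs => rw [show u = fun i => σ (σ.symm (u i)) by simp]
  rw [hinv, hinv]
  congr 1
  exact s.2 _ v

/-- A field automorphism acting on the isometry group. -/
noncomputable def fieldIso (hinv : Inv Q) (σ : F ≃+* F) :
    isometryGroup F ⇑Q →* isometryGroup F ⇑Q :=
  MonoidHom.codRestrict
    ((Matrix.GeneralLinearGroup.map (σ : F →+* F)).comp (isometryGroup F ⇑Q).subtype) _
    fun s => apply_mem hinv s

theorem fieldIso_mem (hinv : Inv Q) (σ : F ≃+* F) {s : isometryGroup F ⇑Q}
    (hs : s ∈ Omega F ⇑Q) : fieldIso hinv σ s ∈ Omega F ⇑Q := by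
  have h1 : (commutator (isometryGroup F ⇑Q)).map (fieldIso hinv σ) ≤
      commutator (isometryGroup F ⇑Q) := by
    rw [commutator_def, Subgroup.map_commutator]
    exact Subgroup.commutator_mono le_top le_top
  exact h1 ⟨s, hs, rfl⟩

/-- Standard field automorphisms intertwine. -/
theorem twine_field (hinv : Inv Q) {σ : F ≃+* F} {x : MulAut (POmega F ⇑Q)}
    (hx : IsFieldAutPOmegaOf ⇑Q σ x) : Twine Q σ x := by
  intro d d' hd
  have hd' : (d' : GL ι F) = Matrix.GeneralLinearGroup.map (σ : F →+* F) (d : GL ι F) :=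
    Units.ext ((semi_one_iff σ _ _).1 hd)
  refine MulEquiv.ext fun y => ?_
  induction y using QuotientGroup.induction_on with
  | _ s =>
    set t : Omega F ⇑Q := ⟨fieldIso hinv σ s.1, fieldIso_mem hinv σ s.2⟩
    have hxs : x (QuotientGroup.mk s) = QuotientGroup.mk t := hx s t rfl
    rw [MulAut.mul_apply, MulAut.mul_apply, hxs, OrthUnitarySimAut.conjP_mk,
      OrthUnitarySimAut.conjP_mk]
    refine hx _ _ ?_
    show _ = (((omegaConj Q d s : Omega F ⇑Q) : isometryGroup F ⇑Q) : GL ι F).1.map σ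
    rw [omegaConj_coe, omegaConj_coe, hd']
    show ((Matrix.GeneralLinearGroup.map (σ : F →+* F) (d : GL ι F)) *
      Matrix.GeneralLinearGroup.map (σ : F →+* F) ((s : isometryGroup F ⇑Q) : GL ι F) *
      (Matrix.GeneralLinearGroup.map (σ : F →+* F) (d : GL ι F))⁻¹).1 = _
    rw [← map_inv, ← map_mul, ← map_mul]
    rfl

theorem twine_pow (hinv : Inv Q) {σ : F ≃+* F} {x : MulAut (POmega F ⇑Q)} (hx : Twine Q σ x)
    (k : ℕ) : Twine Q (σ ^ k) (x ^ k) := by
  induction k with
  | zero =>
    intro d d' hd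
    have e : d' = d := Subtype.ext (Units.ext (by
      rw [(semi_one_iff _ _ _).1 hd]
      ext i j
      rfl))
    rw [e, pow_zero, one_mul, mul_one]
  | succ k ih =>
    intro d d' hd
    obtain ⟨d₁, hd₁⟩ := exists_moved (field_pair hinv (σ ^ k)) d
    rw [pow_succ', mul_assoc, ih d d₁ hd₁, ← mul_assoc, ← mul_assoc, hx d₁ d' ((semi_one_iff _ _ _).2 ?_)]
    rw [(semi_one_iff _ _ _).1 hd, (semi_one_iff _ _ _).1 hd₁, pow_succ', Matrix.map_map]
    rfl

/-- The field of an intertwiner equal to one fixes every similarity up to scalars. -/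
theorem fixed_of_twine_one (hinv : Inv Q) (hnd : (polarBilin Q).Nondegenerate)
    (h5 : 5 ≤ Fintype.card ι) {σ : F ≃+* F} (hx : Twine Q σ 1) (d : Sim Q) :
    ∃ l : F, l ≠ 0 ∧ (d : GL ι F).1.map σ = l • (d : GL ι F).1 := by
  obtain ⟨d', hd'⟩ := exists_moved (field_pair hinv σ) d
  have e := hx d d' hd'
  rw [one_mul, mul_one, eq_comm, ← mul_inv_eq_one, ← map_inv, ← map_mul, ← MonoidHom.mem_ker,
    ker_conjP Q hnd h5, mem_scalarSim] at e
  obtain ⟨l, hl, hl0⟩ := e
  refine ⟨l, hl0, ?_⟩
  rw [← (semi_one_iff σ _ _).1 hd']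
  calc (d' : GL ι F).1 = ((d' * d⁻¹ : Sim Q) : GL ι F).1 * (d : GL ι F).1 := by
        rw [← Units.val_mul, ← Subgroup.coe_mul, inv_mul_cancel_right]
    _ = l • (d : GL ι F).1 := by rw [hl, Matrix.smul_mul, Matrix.one_mul]

end Cfsg.Agent.AutOrth45Twine
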