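import Mathlib
import Cfsg.Agent.Lib.AutOrth45PlusTorus
import Cfsg.Agent.Lib.AutOrth45Twine

/-!
Field automorphisms of the plus groups: the classes into which their inner-diagonal classes split.
-/

set_option autoImplicit false
set_option linter.unusedSectionVars false

namespace Cfsg.Agent.AutOrth45PlusCount

open QuadraticMap
open scoped Matrix MatrixGroups
open Cfsg.Agent.OrthUnitaryQuad
open Cfsg.Agent.OrthUnitaryRefl
open Cfsg.Agent.OrthUnitaryPrelude
open Cfsg.Agent.OrthUnitarySimAut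
open Cfsg.Agent.OmegaClasses
open Cfsg.Agent.AutOrth45Api
open Cfsg.Agent.AutOrth45InnDiag
open Cfsg.Agent.AutOrth45BaseChange
open Cfsg.Agent.AutOrth45Centralizer
open Cfsg.Agent.AutOrth45PlusTorus
open Cfsg.Agent.OrthUnitarySimilar (scalarOf scalarOf_coe scalarOf_mem ofOrth ofOrth_mul ofOrth_mulVec
  ofOrth_mem_omegaSim)

variable {F : Type*} [Field F] [Fintype F] {m : ℕ}

local notation "Qp" => QuadClassify.qPlus m F
local notation "Hp" hm:max => keepSub (hyp_plus (F := F) (m := m) hm) (OmegaStd.lagr_plus (F := F) (m := m))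

section Sub

variable {F₀ : Type*} [Field F₀] [Fintype F₀] (φ : F₀ →+* F)

local notation "Qz" => QuadClassify.qPlus m F₀

theorem map_plus (v : Fin m ⊕ Fin m → F₀) : Qp (emb φ v) = φ (Qz v) := by
  simp [QuadClassify.qPlus_apply, Cfsg.quadFormPlus, emb]

/-- The diagonal similarities over the subfield. -/
theorem rat_tor (z : (Fin m → Fˣ) × Fˣ) (z₀ : (Fin m → F₀ˣ) × F₀ˣ)
    (h1 : ∀ i, (z.1 i : F) = φ (z₀.1 i)) (h2 : (z.2 : F) = φ z₀.2) :
    rat (map_plus φ) (tor z₀) = tor z := by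
  refine Subtype.ext (Units.ext ?_)
  rw [rat_coe, tor_coe, tor_coe, torGL_coe, torGL_coe, Matrix.diagonal_map (map_zero φ)]
  congr 1
  funext s
  rcases s with i | i
  · simp [ent, h1]
  · simp [ent, h1, h2]

theorem ns_map {vs : List (Fin m ⊕ Fin m → F₀)} (hns : NS Qz vs) : NS Qp (vs.map (emb φ)) := by
  intro v hv
  obtain ⟨w, hw, rfl⟩ := List.mem_map.1 hv
  rw [map_plus, _root_.map_ne_zero]
  exact hns w hw

theorem rat_rprod : ∀ {vs : List (Fin m ⊕ Fin m → F₀)}, NS Qz vs →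
    rat (map_plus φ) (ofOrth (rprod Qz vs)) = ofOrth (rprod Qp (vs.map (emb φ))) := by
  intro vs
  induction vs with
  | nil =>
    intro _
    rw [List.map_nil, rprod_nil, rprod_nil,
      show ofOrth (1 : orth Qz) = 1 from Subtype.ext (by simp [ofOrth]),
      show ofOrth (1 : orth Qp) = 1 from Subtype.ext (by simp [ofOrth]), map_one]
  | cons v vs ih =>
    intro hns
    obtain ⟨hv', e⟩ := rat_refl (map_plus φ) v hns.head
    rw [List.map_cons, rprod_cons hns.head, rprod_cons hv', ofOrth_mul, ofOrth_mul, map_mul, e,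
      ih hns.tail]

variable (hm : 3 ≤ m)

include hm in
/-- The classes over the subfield. -/
theorem rat_mem_keep (d₀ : Sim Qz) :
    rat (map_plus φ) d₀ ∈ Hp hm ↔ d₀ ∈ keepSub (hyp_plus (F := F₀) hm) OmegaStd.lagr_plus :=
  (keeps_ext φ (hyp_plus hm) (hyp_plus hm) (map_plus φ) OmegaStd.lagr_plus (sim_pair d₀)
    (sim_pair (rat (map_plus φ) d₀))).symm

end Sub

variable (hm : 3 ≤ m)

include hm

theorem keep_eq_S1 (h2 : (2 : F) ≠ 0) :
    Hp hm = OrthUnitarySimilar.S1 (OrthUnitarySimClasses.good_plus (m := m) hm h2) := by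
  ext g
  set h := OrthUnitarySimClasses.good_plus (m := m) (F := F) hm h2
  have e1 := preserves_iff_keeps hm g
  rw [mem_keepSub, OrthUnitarySimilar.mem_S1, OrthUnitarySimilar.dHom_eq_one_iff, ← e1]
  rw [QuadClassify.qPlus_coe]
  refine OrthUnitarySimClasses.preserves_plus hm h2 (OrthUnitarySimilar.mult h g).ne_zero
    (fun v => ?_) (Matrix.GeneralLinearGroup.det_ne_zero _)
  rw [← QuadClassify.qPlus_apply, ← QuadClassify.qPlus_apply]
  exact OrthUnitarySimilar.mult_spec h g v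

omit hm in
theorem one_mod_four (h2 : (2 : F) ≠ 0) {q₀ : ℕ} (hq : Fintype.card F = q₀ ^ 2) :
    Odd (Fintype.card F) ∧ Fintype.card F % 4 = 1 := by
  have hodd : Odd (Fintype.card F) := by
    rw [Nat.odd_iff]
    exact FiniteField.odd_card_of_char_ne_two fun h => h2 (by
      haveI := ringChar.of_eq h
      exact CharTwo.two_eq_zero)
  refine ⟨hodd, ?_⟩
  rw [hq] at hodd ⊢
  obtain ⟨k, rfl⟩ := (Nat.odd_pow_iff two_ne_zero).1 hodd
  have e : (2 * k + 1) ^ 2 = 1 + 4 * (k * k + k) := by ring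
  rw [e, Nat.add_mul_mod_self_left]

theorem negMem (h2 : (2 : F) ≠ 0) {q₀ : ℕ} (hq : Fintype.card F = q₀ ^ 2) :
    OrthUnitarySimilar.NegMem Qp := by
  obtain ⟨hodd, h4⟩ := one_mod_four h2 hq
  rw [OrthUnitarySimClasses.negMem_plus hodd, h4]
  omega

/-- A single scaled pair is inner only for a square. -/
theorem sq_of_torS_mem (h2 : (2 : F) ≠ 0) {q₀ : ℕ} (hq : Fintype.card F = q₀ ^ 2) (j : Fin m)
    {t : Fˣ} (ht : tor (Pi.mulSingle j t, 1) ∈ innSim Qp) : IsSquare (t : F) := by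
  obtain ⟨l, s, hl, hs, e⟩ := (mem_innSim _ (nd hm) (five_le hm)).1 ht
  obtain ⟨n1, p1, e1⟩ := torS_eq j t
  have hsim : (⟨(s : GL (Fin m ⊕ Fin m) F), isometry_le_sim Qp s.2⟩ : Sim Qp) ∈ omegaSim Qp :=
    ⟨s, hs, rfl⟩
  have hprod : tor (Pi.mulSingle j t, 1) =
      scalarOf Qp (Units.mk0 l hl) * ⟨(s : GL (Fin m ⊕ Fin m) F), isometry_le_sim Qp s.2⟩ := by
    refine Subtype.ext (Units.ext ?_)
    rw [Subgroup.coe_mul, Units.val_mul, scalarOf_coe, Matrix.smul_mul, Matrix.one_mul]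
    exact e
  set h := OrthUnitarySimClasses.good_plus (m := m) (F := F) hm h2
  have hl1 : l = 1 ∨ l = -1 := by
    have e2 := congrArg (OrthUnitarySimilar.mult h) hprod
    rw [map_mul, OrthUnitarySimilar.mult_scalarOf, (OrthUnitarySimilar.mult_eq_one_iff h ⟨(s : GL (Fin m ⊕ Fin m) F), isometry_le_sim Qp s.2⟩).2 s.2,
      mul_one, OrthUnitarySimilar.mult_eq h (c := (1 : Fˣ)) (fun v => by
        rw [tor_coe, torGL_q])] at e2
    exact mul_self_eq_one_iff.1 (congrArg Units.val e2).symm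
  have hsc : scalarOf Qp (Units.mk0 l hl) ∈ omegaSim Qp := by
    rcases hl1 with rfl | rfl
    · rw [show scalarOf Qp (Units.mk0 (1 : F) hl) = 1 from Subtype.ext (Units.ext (by
        rw [scalarOf_coe]; simp))]
      exact one_mem _
    · rw [show Units.mk0 (-1 : F) hl = -1 from Units.ext (by simp)]
      exact OrthUnitarySimilar.negMem_iff.1 (negMem hm h2 hq)
  have hmem : ofOrth (rprod Qp (pairVecs j (t : F))) ∈ omegaSim Qp := by
    rw [← e1, hprod]
    exact mul_mem hsc hsim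
  rw [ofOrth_mem_omegaSim, rprod_mem_iff (nd hm) (exc hm) n1, p1] at hmem
  exact hmem.2

section Count

variable {F₀ : Type*} [Field F₀] [Fintype F₀] {φ : F₀ →+* F}

local notation "Qz" => QuadClassify.qPlus m F₀

omit hm in
theorem isSquare_map (hq : Fintype.card F = Fintype.card F₀ ^ 2) (c : F₀) : IsSquare (φ c) := by
  by_cases h2 : (2 : F) = 0
  · exact QuadClassify.isSquare_of_two_eq_zero h2 _
  by_cases hc : c = 0
  · subst hc; simp
  have hrc : ringChar F ≠ 2 := fun h => h2 (by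
    haveI := ringChar.of_eq h
    exact CharTwo.two_eq_zero)
  rw [FiniteField.isSquare_iff hrc ((_root_.map_ne_zero φ).2 hc), ← map_pow]
  obtain ⟨k, hk⟩ := (Nat.odd_pow_iff two_ne_zero).1 (hq ▸ (one_mod_four h2 hq).1)
  have e : Fintype.card F / 2 = (Fintype.card F₀ - 1) * (k + 1) := by
    rw [hq, hk, show (2 * k + 1) ^ 2 = 1 + 2 * (2 * k * (k + 1)) by ring,
      Nat.add_mul_div_left _ _ two_pos]
    simp
  rw [e, pow_mul, FiniteField.pow_card_sub_one_eq_one c hc, one_pow, map_one]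

omit hm in
/-- Square roots of non-squares of the subfield. -/
theorem isSquare_root_iff (hq : Fintype.card F = Fintype.card F₀ ^ 2) (h2 : (2 : F) ≠ 0) {c : F₀}
    (hc : ¬ IsSquare c) {s : F} (hs : s * s = φ c) :
    IsSquare s ↔ Fintype.card F₀ % 4 = 3 := by
  have hrc : ringChar F ≠ 2 := fun h => h2 (by
    haveI := ringChar.of_eq h
    exact CharTwo.two_eq_zero)
  have h20 : (2 : F₀) ≠ 0 := fun h => h2 (by rw [← map_ofNat φ 2, h, map_zero])
  have hrc0 : ringChar F₀ ≠ 2 := fun h => h20 (by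
    haveI := ringChar.of_eq h
    exact CharTwo.two_eq_zero)
  have hc0 : c ≠ 0 := fun h => hc (h ▸ IsSquare.zero)
  have hs0 : s ≠ 0 := fun h => hc0 ((_root_.map_eq_zero φ).1 (by rw [← hs, h, mul_zero]))
  obtain ⟨k, hk⟩ := (Nat.odd_pow_iff two_ne_zero).1 (hq ▸ (one_mod_four h2 hq).1)
  have e : Fintype.card F / 2 = 2 * ((Fintype.card F₀ / 2) * (k + 1)) := by
    rw [hq, hk, show (2 * k + 1) ^ 2 = 1 + 2 * (2 * k * (k + 1)) by ring,
      Nat.add_mul_div_left _ _ two_pos, show (2 * k + 1) / 2 = k by omega,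
      show (1 : ℕ) / 2 = 0 from rfl, zero_add, mul_assoc]
  have hm1 : c ^ (Fintype.card F₀ / 2) = -1 :=
    (FiniteField.pow_dichotomy hrc0 hc0).resolve_left fun h =>
      hc ((FiniteField.isSquare_iff hrc0 hc0).2 h)
  rw [FiniteField.isSquare_iff hrc hs0, e, pow_mul, pow_two, hs, ← map_pow, pow_mul, hm1, map_pow,
    map_neg, map_one, hk]
  rcases Nat.even_or_odd' k with ⟨r, rfl | rfl⟩
  · rw [pow_succ, pow_mul, neg_one_sq, one_pow, one_mul]
    refine iff_of_false (fun h => h2 ?_) (by omega)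
    linear_combination -h
  · refine iff_of_true ?_ (by omega)
    rw [show 2 * r + 1 + 1 = 2 * (r + 1) by ring, pow_mul, neg_one_sq, one_pow]

/-- A rational similarity keeping the classes, modulo the inner part. -/
theorem rat_congr (hq : Fintype.card F = Fintype.card F₀ ^ 2) {d₀ : Sim Qz}
    (hd : d₀ ∈ keepSub (hyp_plus (F := F₀) hm) OmegaStd.lagr_plus) {c : F₀ˣ}
    (hc : ∀ v, Qz ((d₀ : GL (Fin m ⊕ Fin m) F₀).1 *ᵥ v) = (c : F₀) * Qz v)
    {s : Fˣ} (hs : (s : F) * s = φ c) (j : Fin m) :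
    rat (map_plus φ) d₀ ∈ innSim Qp ↔ tor (Pi.mulSingle j (s⁻¹ ^ m), 1) ∈ innSim Qp := by
  obtain ⟨vs, hns, hev, rfl⟩ := exists_decomp hm hd hc
  have hω : ofOrth (rprod Qp (vs.map (emb φ))) ∈ innSim Qp := by
    refine omega_le_inn hm (rprod_omega hm (ns_map φ hns) (by rwa [List.length_map]) ?_)
    rw [List.map_map, show (⇑Qp ∘ emb φ) = (⇑φ ∘ ⇑Qz) from funext fun v => map_plus φ v,
      ← List.map_map, ← map_list_prod]
    exact isSquare_map hq _
  rw [map_mul, rat_rprod φ hns, Subgroup.mul_mem_cancel_right _ hω,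
    rat_tor φ ((fun _ => 1), s * s) _ (fun i => by simp) (by simp [hs]), tor_sq,
    Subgroup.mul_mem_cancel_left _ (scalar_le_inn hm (scalarOf_mem _)), tor_iso_mem_iff hm j]
  simp

variable {σ : F ≃+* F} (hσ : ∀ x, σ x = x ↔ x ∈ φ.range)
  {x : MulAut (POmega F ⇑(QuadClassify.qPlus m F))} (hx : Twine (QuadClassify.qPlus m F) σ x)

include hσ hx

/-- The class splits into two or four classes. -/
theorem split_two (hq : Fintype.card F = Fintype.card F₀ ^ 2) (h2 : (2 : F) ≠ 0) :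
    (Odd m ∧ Fintype.card F₀ % 4 = 1 →
      Cfsg.splitClassCount ((Hp hm).map (conjP Qp)) (Inn (POmega F ⇑Qp)) x = 2) ∧
    (¬ (Odd m ∧ Fintype.card F₀ % 4 = 1) →
      Cfsg.splitClassCount ((Hp hm).map (conjP Qp)) (Inn (POmega F ⇑Qp)) x = 4) := by
  classical
  have hnd : (polarBilin Qp).Nondegenerate := nd hm
  have h5 := five_le (m := m) hm
  set h := OrthUnitarySimClasses.good_plus (m := m) (F := F) hm h2
  have hneg := negMem hm h2 hq
  have hS1 := keep_eq_S1 (F := F) hm h2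
  set H := Hp hm
  have hle : innSim Qp ≤ H := hS1 ▸ (OrthUnitarySimilar.innSim_le_K h).trans (OrthUnitarySimilar.K_le_S1 h)
  haveI : ((innSim Qp).subgroupOf H).Normal := inferInstance
  have hrange : ((conjP Qp).comp H.subtype).range = H.map (conjP Qp) := by
    rw [MonoidHom.range_comp, Subgroup.range_subtype]
  have hinn : Inn (POmega F ⇑Qp) = ((innSim Qp).subgroupOf H).map ((conjP Qp).comp H.subtype) := by
    refine le_antisymm ?_ ?_
    · rw [inn_eq]
      rintro _ ⟨g, hg, rfl⟩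
      exact ⟨⟨g, hle (omega_le_inn hm hg)⟩, omega_le_inn hm hg, rfl⟩
    · rintro _ ⟨g, hg, rfl⟩
      exact hg
  rw [← hrange, hinn, SplitClassIndex.splitClassCount_eq]
  set C := (Subgroup.centralizer ({x} : Set (MulAut (POmega F ⇑Qp)))).comap ((conjP Qp).comp H.subtype)
    with hC
  have hq0 : Odd (Fintype.card F₀) := (Nat.odd_pow_iff two_ne_zero).1 (hq ▸ (one_mod_four h2 hq).1)
  set j : Fin m := ⟨0, by omega⟩
  have hne : ∃ v, Qz v ≠ 0 := ⟨Pi.single (Sum.inl j) 1 + Pi.single (Sum.inr j) 1, by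
    rw [QuadraticMap.map_add (⇑Qz), OmegaStd.qPlus_single, OmegaStd.qPlus_single,
      (OmegaStd.hyp_plus (F := F₀) (m := m)).pef]
    simp⟩
  -- the centralising elements
  have hCmem : ∀ g ∈ C, ∃ (y : Fˣ) (d₀ : Sim Qz),
      (g : Sim Qp) = scalarOf Qp y * rat (map_plus φ) d₀ ∧
        d₀ ∈ keepSub (hyp_plus (F := F₀) hm) OmegaStd.lagr_plus := by
    rintro ⟨g, hg⟩ hgC
    obtain ⟨y, d₀, e⟩ := exists_rat_of_commute' (map_plus φ) hσ
      (field_pair (AutOrth45Forms.inv_plus m) σ) hnd h5 hx hne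
      (Subgroup.mem_centralizer_singleton_iff.1 hgC)
    refine ⟨y, d₀, e, (rat_mem_keep φ hm d₀).1 ?_⟩
    have h3 := H.mul_mem (H.inv_mem (scalar_le hm (scalarOf_mem (Q := Qp) y))) hg
    rw [show g = scalarOf Qp y * rat (map_plus φ) d₀ from e, inv_mul_cancel_left] at h3
    exact h3
  have hroot : ∀ c : F₀ˣ, ∃ s : Fˣ, (s : F) * s = φ c := fun c => by
    obtain ⟨s, hs⟩ := isSquare_map (φ := φ) hq (c : F₀)
    exact ⟨Units.mk0 s fun e => (_root_.map_ne_zero φ).2 c.ne_zero (by rw [hs, e, mul_zero]),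
      hs.symm⟩
  constructor
  · rintro ⟨hmo, hq4⟩
    -- the image is the square multiplier part
    have hKH : OrthUnitarySimilar.K h ≤ H := hS1 ▸ OrthUnitarySimilar.K_le_S1 h
    obtain ⟨n, hn⟩ : ∃ n : F₀, ¬ IsSquare n := FiniteField.exists_nonsquare fun hr => h2 (by
      haveI := ringChar.of_eq hr
      rw [← map_ofNat φ, CharTwo.two_eq_zero, map_zero])
    have hn0 : n ≠ 0 := fun e => hn (e ▸ IsSquare.zero)
    obtain ⟨s, hs⟩ := hroot (Units.mk0 n hn0)
    set d₀ : Sim Qz := tor (1, Units.mk0 n hn0)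
    set d := rat (map_plus φ) d₀
    have hdH : d ∈ H := (rat_mem_keep φ hm d₀).2 (tor_mem hm _)
    have hdK : d ∈ OrthUnitarySimilar.K h := by
      refine (OrthUnitarySimilar.mem_K h).2 ⟨(OrthUnitarySimilar.mem_S1 h).1 (hS1 ▸ hdH), ?_⟩
      rw [show d = tor (1, s * s) from rat_tor φ _ _ (fun i => by simp) (by simpa using hs),
        OrthUnitarySimilar.mult_eq h (c := s * s) (fun v => by rw [tor_coe, torGL_q])]
      exact ⟨s, by simp⟩
    have hdi : d ∉ innSim Qp := fun hd => by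
      have h3 := sq_of_torS_mem hm h2 hq j ((rat_congr hm hq (tor_mem hm _)
        (c := Units.mk0 n hn0) (fun v => by rw [tor_coe, torGL_q]) hs j).1 hd)
      obtain ⟨r, hr⟩ := hmo
      rw [hr, Units.val_pow_eq_pow_val, Units.val_inv_eq_inv_val, inv_pow, isSquare_inv] at h3
      have h4 : IsSquare (s : F) := by
        have e : (s : F) = (s : F) ^ (2 * r + 1) * (((s : F) ^ r)⁻¹ * ((s : F) ^ r)⁻¹) := by
          have := s.ne_zero
          field_simp
          ring
        rw [e]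
        exact h3.mul ⟨_, rfl⟩
      exact absurd ((isSquare_root_iff hq h2 hn hs).1 h4) (by omega)
    have hdC : (⟨d, hdH⟩ : H) ∈ C :=
      Subgroup.mem_centralizer_singleton_iff.2 (rat_commute' (map_plus φ) hσ hx d₀).symm.eq
    have heq : (innSim Qp).subgroupOf H ⊔ C = (OrthUnitarySimilar.K h).subgroupOf H := by
      refine le_antisymm (sup_le (fun g hg => OrthUnitarySimilar.innSim_le_K h hg) ?_) ?_
      · intro g hg
        obtain ⟨y, e₀, e, he₀⟩ := hCmem g hg
        obtain ⟨c, hc⟩ := id e₀.2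
        rw [Subgroup.mem_subgroupOf, e]
        refine mul_mem (OrthUnitarySimilar.scalarSim_le_K h (scalarOf_mem y)) ?_
        refine (OrthUnitarySimilar.mem_K h).2
          ⟨(OrthUnitarySimilar.mem_S1 h).1 (hS1 ▸ (rat_mem_keep φ hm e₀).2 he₀), ?_⟩
        obtain ⟨v, hv⟩ := hne
        have e1 := OrthUnitarySimilar.mult_spec h (rat (map_plus φ) e₀) (emb φ v)
        rw [rat_coe, ← emb_mulVec, map_plus, map_plus, hc, map_mul] at e1
        rw [← mul_right_cancel₀ ((_root_.map_ne_zero φ).2 hv) e1]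
        exact isSquare_map hq _
      · intro g hg
        by_cases hgi : (g : Sim Qp) ∈ innSim Qp
        · exact Subgroup.mem_sup_left hgi
        · have h3 : g * ⟨d, hdH⟩ ∈ (innSim Qp).subgroupOf H :=
            OrthUnitarySimilar.mul_mem_innSim_of_K h hneg hg hdK hgi hdi
          rw [← mul_inv_cancel_right g ⟨d, hdH⟩]
          exact mul_mem (Subgroup.mem_sup_left h3) (inv_mem (Subgroup.mem_sup_right hdC))
    rw [heq]
    show (OrthUnitarySimilar.K h).relIndex H = 2
    have e := Subgroup.relIndex_mul_index (OrthUnitarySimilar.K_le_S1 h)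
    rw [OrthUnitarySimilar.index_K h, OrthUnitarySimilar.index_S1 h] at e
    rw [hS1]
    omega
  · intro hcase
    have hCle : C ≤ (innSim Qp).subgroupOf H := by
      intro g hg
      obtain ⟨y, e₀, e, he₀⟩ := hCmem g hg
      obtain ⟨c, hc⟩ := id e₀.2
      obtain ⟨s, hs⟩ := hroot c
      rw [Subgroup.mem_subgroupOf, e]
      refine mul_mem (scalar_le_inn hm (scalarOf_mem y))
        ((rat_congr hm hq he₀ hc hs j).2 (torS_mem_of_sq hm j ?_))
      rw [Units.val_pow_eq_pow_val, Units.val_inv_eq_inv_val]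
      rcases Nat.even_or_odd m with ⟨r, hr⟩ | hmo
      · exact ⟨(s : F)⁻¹ ^ r, by rw [hr, pow_add]⟩
      refine IsSquare.pow _ (IsSquare.inv ?_)
      by_cases hcs : IsSquare (c : F₀)
      · obtain ⟨t, ht⟩ := hcs
        have hst : (s : F) * s = φ t * φ t := by rw [hs, ← map_mul, ht]
        rcases mul_self_eq_mul_self_iff.1 hst with e1 | e1
        · exact e1 ▸ isSquare_map hq t
        · rw [e1, ← map_neg]; exact isSquare_map hq _
      · refine (isSquare_root_iff hq h2 hcs hs).2 ?_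
        have : Fintype.card F₀ % 4 ≠ 1 := fun e => hcase ⟨hmo, e⟩
        rcases OrthUnitarySimClasses.four_cases hq0 with h4 | h4
        · exact absurd h4 this
        · exact h4
    rw [sup_eq_left.2 hCle]
    show (innSim Qp).relIndex H = 4
    rw [hS1]
    exact OrthUnitarySimilar.relIndex_S1 h hneg

end Count

end Cfsg.Agent.AutOrth45PlusCount
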