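import Mathlib
import Cfsg.Prelude.Def_KGroupFacts
import Cfsg.Agent.Lib.AutPSpBasic
import Cfsg.Agent.Lib.AutPSpTransv
import Cfsg.Agent.Lib.AutPSpMain
import Cfsg.Agent.Lib.AutPSpApi
import Cfsg.Agent.Lib.AutPSp4Duality
import Cfsg.Agent.Lib.AutPSLApi

/-!
All automorphisms of `PSp m F`, their number, and the outer automorphism group in rank two and characteristic two.
-/

set_option autoImplicit false

namespace Cfsg.Agent.AutPSpFull

open Cfsg.Agent.AutPSpBasic Cfsg.Agent.AutPSpMain Cfsg.Agent.AutPSpApi Cfsg.Agent.AutPSp4Duality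

variable {F : Type*} [Field F] [Fintype F]

/-- The exceptional automorphism composed with a semilinear one is not semilinear. -/
lemma gam_ne [CharP F 2] (g h : ↥(Cfsg.GSp 2 F)) (σ τ : F ≃+* F) : gam F * (cj g * fd σ) ≠ cj h * fd τ := fun e =>
  not_good_gam (F := F) (by
    rw [← mul_inv_cancel_right (gam F) (cj g * fd σ), e]
    exact good_mul (good_mul (good_cj h) (good_fd τ)) (good_inv (good_mul (good_cj g) (good_fd σ))))

/-- The order of the automorphism group of `PSp 2 F` in characteristic two. -/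
theorem card_mulAut_two [CharP F 2] {f : ℕ} (hF : Fintype.card F = 2 ^ f) (hf : 1 ≤ f) :
    Nat.card (MulAut (PS 2 F)) = 2 * f * Nat.card (PS 2 F) := by
  haveI : Fact (Nat.Prime 2) := ⟨Nat.prime_two⟩
  let Φ : Bool × (Cfsg.PGSp 2 F × (F ≃+* F)) → MulAut (PS 2 F) :=
    fun x => (if x.1 then gam F else 1) * (cjP le_rfl x.2.1 * fd x.2.2)
  have hbij : Function.Bijective Φ := by
    constructor
    · rintro ⟨a, x, σ⟩ ⟨b, y, τ⟩ h
      obtain ⟨x, rfl⟩ := QuotientGroup.mk_surjective x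
      obtain ⟨y, rfl⟩ := QuotientGroup.mk_surjective y
      have h' : (if a then gam F else 1) * (cj x * fd σ) = ((if b then gam F else 1) * (cj y * fd τ) : MulAut (PS 2 F)) := h
      have hab : a = b := by
        rcases a with _ | _ <;> rcases b with _ | _ <;> simp at h' ⊢
        · exact gam_ne y x τ σ h'.symm
        · exact gam_ne x y σ τ h'
      subst hab
      have := semilinear_injective (F := F) le_rfl
        (a₁ := (QuotientGroup.mk x, σ)) (a₂ := (QuotientGroup.mk y, τ)) (mul_left_cancel h')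
      rw [this]
    · intro α
      obtain ⟨g, σ, h | h⟩ := AutPSp4Duality.aut_decomp α
      · exact ⟨(false, QuotientGroup.mk g, σ), by rw [h]; exact one_mul _⟩
      · exact ⟨(true, QuotientGroup.mk g, σ), by rw [h]; rfl⟩
  have hodd : Nat.gcd 2 (2 ^ f - 1) = 1 := by
    refine (Nat.Prime.coprime_iff_not_dvd Nat.prime_two).2 fun hd => ?_
    have : 2 ∣ 2 ^ f := dvd_pow_self 2 (by omega)
    have : 1 ≤ 2 ^ f := Nat.one_le_two_pow
    omega
  rw [← Nat.card_eq_of_bijective Φ hbij, Nat.card_prod, Nat.card_prod, card_PGSp le_rfl, hF, hodd,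
    AutPSLApi.card_ringAut hF hf, Nat.card_eq_fintype_card (α := Bool), Fintype.card_bool]
  ring

lemma two_ne_zero_of {p : ℕ} [Fact p.Prime] [CharP F p] (hp : p ≠ 2) : (2 : F) ≠ 0 := fun h2 => by
  have h2' : ((2 : ℕ) : F) = 0 := by exact_mod_cast h2
  exact hp ((Nat.prime_dvd_prime_iff_eq Fact.out Nat.prime_two).1 ((CharP.cast_eq_zero_iff F p 2).1 h2'))

lemma charP_of_card {p f : ℕ} [Fact p.Prime] (hF : Fintype.card F = p ^ f) : CharP F p := by
  obtain ⟨q, hq⟩ := CharP.exists F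
  obtain ⟨k, hqp, hk⟩ := FiniteField.card F q
  have hdvd : q ∣ p ^ f := hF ▸ hk ▸ dvd_pow_self q k.ne_zero
  exact (Nat.prime_dvd_prime_iff_eq hqp Fact.out).1 (hqp.dvd_of_dvd_pow hdvd) ▸ hq

/-- The order of the automorphism group of `PSp m F`. -/
theorem card_mulAut' {m p f : ℕ} [Fact p.Prime] (hF : Fintype.card F = p ^ f) (hf : 1 ≤ f) (hm : 2 ≤ m) :
    Nat.card (MulAut (PS m F)) = (if m = 2 ∧ p = 2 then 2 else 1) * Nat.gcd 2 (p ^ f - 1) * f * Nat.card (PS m F) := by
  haveI := charP_of_card hF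
  by_cases h : m = 2 ∧ p = 2
  · obtain ⟨rfl, rfl⟩ := h
    rw [if_pos ⟨rfl, rfl⟩, card_mulAut_two hF hf]
    have hodd : Nat.gcd 2 (2 ^ f - 1) = 1 := by
      refine (Nat.Prime.coprime_iff_not_dvd Nat.prime_two).2 fun hd => ?_
      have : 2 ∣ 2 ^ f := dvd_pow_self 2 (by omega)
      have : 1 ≤ 2 ^ f := Nat.one_le_two_pow
      omega
    rw [hodd, mul_one]
  · have hne : 3 ≤ m ∨ (2 : F) ≠ 0 := by
      rcases Nat.lt_or_ge m 3 with h3 | h3
      · exact Or.inr (two_ne_zero_of fun hp => h ⟨by omega, hp⟩)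
      · exact Or.inl h3
    rw [if_neg h, AutPSpApi.card_mulAut hF hf hm fun α => AutPSpMain.aut_decomp hm hne α]
    ring

/-- Every automorphism of a finite field of characteristic two is a power of the Frobenius. -/
lemma exists_pow_frob [CharP F 2] (σ : F ≃+* F) : ∃ k : ℕ, frob F ^ k = σ := by
  haveI : Fact (Nat.Prime 2) := ⟨Nat.prime_two⟩
  letI : Algebra (ZMod 2) F := ZMod.algebra F 2
  obtain ⟨k, hk⟩ := (FiniteField.bijective_frobeniusAlgEquivOfAlgebraic_pow (ZMod 2) F).2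
    (AlgEquiv.ofRingEquiv (f := σ) fun x =>
      RingHom.congr_fun (RingHom.ext_zmod (σ.toRingHom.comp (algebraMap (ZMod 2) F)) (algebraMap (ZMod 2) F)) x)
  refine ⟨k, RingEquiv.ext fun x => ?_⟩
  have h := DFunLike.congr_fun hk x
  have hl : ∀ n : ℕ, (frob F ^ n) x = (FiniteField.frobeniusAlgEquivOfAlgebraic (ZMod 2) F ^ n) x := by
    intro n
    induction n with
    | zero => rfl
    | succ n ih =>
      rw [pow_succ', pow_succ', RingAut.mul_apply, AlgEquiv.mul_apply, ih, frob_apply,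
        FiniteField.coe_frobeniusAlgEquivOfAlgebraic, ZMod.card]
  rw [hl]
  exact h

/-- The outer automorphism group of `PSp 2 F` in characteristic two is generated by the exceptional automorphism. -/
theorem out_cyclic [CharP F 2] : IsCyclic (Cfsg.Out (PS 2 F)) := by
  refine ⟨⟨QuotientGroup.mk (gam F), fun x => ?_⟩⟩
  obtain ⟨α, rfl⟩ := QuotientGroup.mk_surjective x
  have hcj : ∀ g : ↥(Cfsg.GSp 2 F), (QuotientGroup.mk (cj g) : Cfsg.Out (PS 2 F)) = 1 := fun g => by
    obtain ⟨x, hx⟩ := cj_inner le_rfl g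
    exact (QuotientGroup.eq_one_iff _).2 ⟨x, hx.symm⟩
  have hfd : ∀ σ : F ≃+* F, (QuotientGroup.mk (fd σ) : Cfsg.Out (PS 2 F)) ∈ Subgroup.zpowers (QuotientGroup.mk (gam F)) := by
    intro σ
    obtain ⟨k, rfl⟩ := exists_pow_frob σ
    rw [map_pow, ← gam_sq, QuotientGroup.mk_pow, QuotientGroup.mk_mul]
    exact pow_mem (mul_mem (Subgroup.mem_zpowers _) (Subgroup.mem_zpowers _)) k
  obtain ⟨g, σ, rfl | rfl⟩ := AutPSp4Duality.aut_decomp α
  · rw [QuotientGroup.mk_mul, hcj, one_mul]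
    exact hfd σ
  · rw [QuotientGroup.mk_mul, QuotientGroup.mk_mul, hcj, one_mul]
    exact mul_mem (Subgroup.mem_zpowers _) (hfd σ)

/-- The order of the outer automorphism group of `PSp 2 F` in characteristic two. -/
theorem card_out [CharP F 2] {f : ℕ} (hF : Fintype.card F = 2 ^ f) (hf : 1 ≤ f) :
    Nat.card (Cfsg.Out (PS 2 F)) = 2 * f := by
  haveI : Finite (MulAut (PS 2 F)) := Finite.of_injective (fun α => (α : PS 2 F → PS 2 F)) DFunLike.coe_injective
  have h := Subgroup.card_eq_card_quotient_mul_card_subgroup (Cfsg.Inn (PS 2 F))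
  have hinn : Nat.card (Cfsg.Inn (PS 2 F)) = Nat.card (PS 2 F) :=
    (Nat.card_congr (Equiv.ofInjective _ (inn_injective le_rfl))).symm
  rw [card_mulAut_two hF hf, hinn] at h
  exact (Nat.eq_of_mul_eq_mul_right Nat.card_pos h).symm

end Cfsg.Agent.AutPSpFull
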