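import Mathlib
import Cfsg.Prelude.Def_LieTypeDatum
import Cfsg.Agent.Lib.SymplecticBasic
import Cfsg.Agent.Lib.SymplecticSimple
import Cfsg.Agent.Lib.AutPSpBasic
import Cfsg.Agent.Lib.AutPSpTransv
import Cfsg.Agent.Lib.AutPSpMain
import Cfsg.Agent.Lib.AutPSpApi
import Cfsg.Agent.Lib.AutPSp4Duality
import Cfsg.Agent.Lib.AutPSpFull
import Cfsg.Agent.Lib.AutPSLField
import Cfsg.Agent.Lib.GaloisDescentGL
import Cfsg.Agent.Lib.SplitClassIndex
import Cfsg.Agent.Lib.FormCongruence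

/-!
Field automorphisms of `PSp m F`: their classes, cosets, centralisers, and splitting of classes.
-/

set_option autoImplicit false

namespace Cfsg.Agent.AutPSpField

open Matrix
open Cfsg.Agent.SymplecticBasic Cfsg.Agent.SymplecticSimple Cfsg.Agent.AutPSpBasic Cfsg.Agent.AutPSpMain Cfsg.Agent.AutPSpApi
open Cfsg.Agent.GaloisDescentGL (unorm fixedUnits range_unorm hilbert90_units)

variable {m : ℕ} {F : Type*} [Field F]

/-- Index type. -/
abbrev Ii (m : ℕ) : Type := Fin m ⊕ Fin m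

/-- A field automorphism entrywise on `GL`. -/
def gm (σ : F ≃+* F) : GL (Ii m) F →* GL (Ii m) F := Matrix.GeneralLinearGroup.map (σ : F →+* F)

lemma coe_gm (σ : F ≃+* F) (g : GL (Ii m) F) : (gm σ g : Matrix (Ii m) (Ii m) F) = (g : Matrix (Ii m) (Ii m) F).map σ := rfl

lemma form_map' {K : Type*} [Field K] (ι : F →+* K) (u v : Vc m F) :
    sympForm m K (ι ∘ u) (ι ∘ v) = ι (sympForm m F u v) := by
  simp [form_eq_sum, map_sum]

lemma gm_mem (σ : F ≃+* F) {g : GL (Ii m) F} {c : Fˣ}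
    (hc : ∀ u v, sympForm m F ((g : Matrix (Ii m) (Ii m) F) *ᵥ u) ((g : Matrix (Ii m) (Ii m) F) *ᵥ v) = (c : F) * sympForm m F u v)
    (u v : Vc m F) :
    sympForm m F ((gm σ g : Matrix (Ii m) (Ii m) F) *ᵥ u) ((gm σ g : Matrix (Ii m) (Ii m) F) *ᵥ v) =
      (Units.map (σ : F →* F) c : F) * sympForm m F u v := by
  obtain ⟨u, rfl⟩ : ∃ w : Vc m F, u = σ ∘ w := ⟨σ.symm ∘ u, by ext; simp⟩
  obtain ⟨v, rfl⟩ : ∃ w : Vc m F, v = σ ∘ w := ⟨σ.symm ∘ v, by ext; simp⟩
  rw [coe_gm, map_mulVec_comp, map_mulVec_comp, form_map_field, form_map_field, hc, map_mul]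
  rfl

/-- A field automorphism entrywise on `GSp`. -/
def gmS (σ : F ≃+* F) : ↥(Cfsg.GSp m F) →* ↥(Cfsg.GSp m F) :=
  MonoidHom.codRestrict ((gm σ).comp (Cfsg.GSp m F).subtype) _ fun g => by
    obtain ⟨c, hc⟩ := g.2
    exact ⟨_, gm_mem σ hc⟩

lemma coe_gmS (σ : F ≃+* F) (g : ↥(Cfsg.GSp m F)) : ((gmS σ g : ↥(Cfsg.GSp m F)) : GL (Ii m) F) = gm σ (g : GL (Ii m) F) := rfl

lemma gmS_mul (σ τ : F ≃+* F) (g : ↥(Cfsg.GSp m F)) : gmS (σ * τ) g = gmS σ (gmS τ g) := Subtype.ext (Units.ext rfl)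

lemma gmS_one (g : ↥(Cfsg.GSp m F)) : gmS (1 : F ≃+* F) g = g := Subtype.ext (Units.ext (by ext i j; rfl))

lemma fd_mul_cj (σ : F ≃+* F) (g : ↥(Cfsg.GSp m F)) : (fd σ : MulAut (PS m F)) * cj g = cj (gmS σ g) * fd σ := by
  apply MulEquiv.ext
  intro x
  induction x using QuotientGroup.induction_on with
  | H s =>
    rw [MulAut.mul_apply, MulAut.mul_apply, cj_mk, fd_mk, fd_mk, cj_mk]
    congr 1
    apply Subtype.ext
    rw [coe_spField, coe_spConj, coe_spConj, coe_spField, coe_gmS, ← map_inv, coe_gm, coe_gm,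
      Matrix.map_mul, Matrix.map_mul]

lemma mult_gmS (hm : 1 ≤ m) (σ : F ≃+* F) (g : ↥(Cfsg.GSp m F)) :
    multHom m F hm (gmS σ g) = Units.map (σ : F →* F) (multHom m F hm g) := by
  apply Units.ext
  obtain ⟨z, hz⟩ := exists_form_eq_one (sv_ne (F := F) (Sum.inl (⟨0, hm⟩ : Fin m) : Fin m ⊕ Fin m))
  have h1 := mult_spec (gmS σ g) (sv (.inl ⟨0, hm⟩)) z
  rw [coe_gmS, gm_mem σ (mult_spec g), hz, mul_one, mul_one] at h1
  exact h1.symm

lemma gmS_scalarG (σ : F ≃+* F) (u : Fˣ) : gmS (m := m) σ (scalarG u) = scalarG (Units.map (σ : F →* F) u) := by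
  apply Subtype.ext
  apply Units.ext
  ext i j
  show σ (Matrix.scalar (Ii m) (u : F) i j) = Matrix.scalar (Ii m) (σ u) i j
  rcases eq_or_ne i j with rfl | hij <;> simp [*]

/-- Conjugates of standard field automorphisms are inner-diagonally conjugate to standard ones. -/
lemma field_class [Fintype F] (hm : 2 ≤ m) {x : MulAut (PS m F)} (hx : Cfsg.IsFieldAutClassPSp x) :
    ∃ (h : ↥(Cfsg.GSp m F)) (σ : F ≃+* F), σ ≠ 1 ∧ x = cj h * fd σ * (cj h)⁻¹ := by
  obtain ⟨α, σ, hσ, hstd⟩ := hx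
  rw [isStdField_iff] at hstd
  have hx' : x = α⁻¹ * fd σ * α := by rw [← hstd]; group
  obtain ⟨g, τ, e⟩ : ∃ (g : ↥(Cfsg.GSp m F)) (τ : F ≃+* F),
      α⁻¹ * fd σ * α = (cj g * fd τ)⁻¹ * fd σ * (cj g * fd τ) := by
    by_cases hne : 3 ≤ m ∨ (2 : F) ≠ 0
    · obtain ⟨g, τ, rfl⟩ := AutPSpMain.aut_decomp hm hne α
      exact ⟨g, τ, rfl⟩
    · push Not at hne
      obtain rfl : m = 2 := by omega
      haveI : CharP F 2 := CharTwo.of_one_ne_zero_of_two_eq_zero one_ne_zero hne.2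
      obtain ⟨g, τ, rfl | rfl⟩ := AutPSp4Duality.aut_decomp α
      · exact ⟨g, τ, rfl⟩
      · refine ⟨g, τ, ?_⟩
        rw [_root_.mul_inv_rev, mul_assoc _ _ (fd σ),
          show (AutPSp4Duality.gam F)⁻¹ * fd σ = fd σ * (AutPSp4Duality.gam F)⁻¹ from
            ((show Commute (AutPSp4Duality.gam F) (fd σ) from AutPSp4Duality.gam_fd σ).inv_left).eq]
        group
  refine ⟨gmS τ⁻¹ g⁻¹, τ⁻¹ * σ * τ, fun e => hσ ?_, ?_⟩
  · have := congrArg (fun u => τ * u * τ⁻¹) e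
    simpa [mul_assoc] using! this
  · rw [hx', e, eq_mul_inv_iff_mul_eq, map_mul fd, map_mul fd, map_inv fd]
    have h1 : (fd τ : MulAut (PS m F)) * cj (gmS τ⁻¹ g⁻¹) = (cj g)⁻¹ * fd τ := by
      rw [fd_mul_cj, ← gmS_mul, mul_inv_cancel, gmS_one, map_inv]
    have h2 : (fd τ : MulAut (PS m F))⁻¹ * (cj g)⁻¹ = cj (gmS τ⁻¹ g⁻¹) * (fd τ)⁻¹ := by
      rw [← map_inv fd, ← fd_mul_cj, map_inv cj]
    rw [_root_.mul_inv_rev, h2]
    calc cj (gmS τ⁻¹ g⁻¹) * (fd τ)⁻¹ * fd σ * (cj g * fd τ) * cj (gmS τ⁻¹ g⁻¹)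
        = cj (gmS τ⁻¹ g⁻¹) * (fd τ)⁻¹ * fd σ * (cj g * (fd τ * cj (gmS τ⁻¹ g⁻¹))) := by simp only [mul_assoc]
      _ = _ := by rw [h1]; simp [mul_assoc]

/-! ### Cosets -/

/-- The twisted norm. -/
def ntwS (σ : F ≃+* F) (a : ↥(Cfsg.GSp m F)) : ℕ → ↥(Cfsg.GSp m F)
  | 0 => 1
  | k + 1 => a * gmS σ (ntwS σ a k)

lemma pow_cj_fd (σ : F ≃+* F) (a : ↥(Cfsg.GSp m F)) (k : ℕ) :
    (cj a * fd σ : MulAut (PS m F)) ^ k = cj (ntwS σ a k) * fd (σ ^ k) := by
  induction k with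
  | zero => simp [ntwS]
  | succ k ih =>
    rw [pow_succ', ih, ntwS, map_mul, pow_succ', map_mul fd]
    calc (cj a * fd σ) * (cj (ntwS σ a k) * fd (σ ^ k))
        = cj a * (fd σ * cj (ntwS σ a k)) * fd (σ ^ k) := by simp only [mul_assoc]
      _ = _ := by rw [fd_mul_cj]; simp only [mul_assoc]

lemma ntwS_succ' (σ : F ≃+* F) (a : ↥(Cfsg.GSp m F)) (k : ℕ) : ntwS σ a (k + 1) = ntwS σ a k * gmS (σ ^ k) a := by
  induction k with
  | zero =>
    show a * gmS σ 1 = 1 * gmS (σ ^ 0) a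
    rw [map_one, one_mul, mul_one, pow_zero, gmS_one]
  | succ k ih =>
    conv_lhs => rw [ntwS, ih, map_mul, ← mul_assoc, ← gmS_mul, ← pow_succ']
    rfl

lemma scalarG_comm (u : Fˣ) (g : ↥(Cfsg.GSp m F)) : g * scalarG u = scalarG u * g := by
  refine Subtype.ext (Units.ext ?_)
  exact (Matrix.scalar_commute (n := Ii m) (u : F) (Commute.all _) _).symm

lemma scalarG_mul (u v : Fˣ) : scalarG (m := m) (u * v) = scalarG u * scalarG v :=
  Subtype.ext (map_mul _ u v)

lemma scalarG_one : scalarG (m := m) (1 : Fˣ) = 1 := Subtype.ext (map_one _)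

lemma ntwS_scalar_mul (σ : F ≃+* F) (u : Fˣ) (a : ↥(Cfsg.GSp m F)) (k : ℕ) :
    ntwS σ (scalarG u * a) k =
      scalarG (∏ i ∈ Finset.range k, Units.map ((σ ^ i : F ≃+* F) : F →* F) u) * ntwS σ a k := by
  induction k with
  | zero => simp [ntwS, scalarG_one]
  | succ k ih =>
    have hp : (∏ i ∈ Finset.range (k + 1), Units.map ((σ ^ i : F ≃+* F) : F →* F) u) =
        u * Units.map (σ : F →* F) (∏ i ∈ Finset.range k, Units.map ((σ ^ i : F ≃+* F) : F →* F) u) := by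
      rw [map_prod, Finset.prod_range_succ' _ k, mul_comm]
      congr 1
      refine Finset.prod_congr rfl fun i _ => ?_
      apply Units.ext
      simp [pow_succ', RingAut.mul_apply]
    simp only [ntwS]
    rw [ih, map_mul, gmS_scalarG, hp, scalarG_mul, mul_assoc, mul_assoc, ← mul_assoc a, scalarG_comm, mul_assoc]

lemma scalar_entry (hm : 1 ≤ m) {u v : Fˣ} (h : scalarG (m := m) u = scalarG v) : u = v := by
  apply Units.ext
  have := congrArg (fun g : ↥(Cfsg.GSp m F) => ((g : GL (Ii m) F) : Matrix (Ii m) (Ii m) F) (.inl ⟨0, hm⟩) (.inl ⟨0, hm⟩)) h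
  simpa [scalarG] using this

lemma exists_scalarG {g : ↥(Cfsg.GSp m F)} (h : (g : GL (Ii m) F) ∈ Cfsg.Geo.scalars (Ii m) F) : ∃ u, g = scalarG u := by
  obtain ⟨u, hu⟩ := h
  exact ⟨u, Subtype.ext hu.symm⟩

/-- Hilbert 90 on the index type of the symplectic space. -/
lemma hilbert90' [Finite F] (σ : F ≃+* F) (a : ↥(Cfsg.GSp m F)) (h : ntwS σ a (orderOf σ) = 1) :
    ∃ b : GL (Ii m) F, (a : GL (Ii m) F) = b * (gm σ b)⁻¹ := by
  let e : GL (Ii m) F ≃* GL (Fin (m + m)) F :=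
    Units.mapEquiv (Matrix.reindexAlgEquiv F F (finSumFinEquiv : Fin m ⊕ Fin m ≃ Fin (m + m))).toMulEquiv
  have he : ∀ g, GaloisDescentGL.gmap σ (e g) = e (gm σ g) := fun g => Units.ext (by ext i j; rfl)
  have hk : ∀ k, GaloisDescentGL.ntw σ (e (a : GL (Ii m) F)) k = e (ntwS σ a k : GL (Ii m) F) := by
    intro k
    induction k with
    | zero => simp [GaloisDescentGL.ntw, ntwS]
    | succ k ih => rw [GaloisDescentGL.ntw, ih, he, ← map_mul, ntwS, Subgroup.coe_mul, coe_gmS]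
  obtain ⟨b, hb⟩ := GaloisDescentGL.hilbert90 σ (e (a : GL (Ii m) F)) (by rw [hk, h, Subgroup.coe_one, map_one])
  refine ⟨e.symm b, e.injective ?_⟩
  rw [hb, map_mul, map_inv, ← he, e.apply_symm_apply]

/-- The matrix of `sympForm`, pulled back. -/
lemma form_pull (b : Matrix (Ii m) (Ii m) F) (s t : Ii m) :
    (bᵀ * Matrix.J (Fin m) F * b) s t = sympForm m F (b *ᵥ Pi.single s 1) (b *ᵥ Pi.single t 1) := by
  rw [FormCongruence.gram_apply]
  simp [sympForm, mulVec_single_one]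
  rfl

/-- Similitudes from their Gram matrix. -/
lemma simil_of_gram (b : Matrix (Ii m) (Ii m) F) (c : F) (h : bᵀ * Matrix.J (Fin m) F * b = c • Matrix.J (Fin m) F)
    (u v : Vc m F) : sympForm m F (b *ᵥ u) (b *ᵥ v) = c * sympForm m F u v := by
  have : sympForm m F (b *ᵥ u) (b *ᵥ v) = u ⬝ᵥ ((bᵀ * Matrix.J (Fin m) F * b) *ᵥ v) := by
    rw [← Matrix.mulVec_mulVec, ← Matrix.mulVec_mulVec, Matrix.dotProduct_mulVec, Matrix.vecMul_transpose]
    rfl
  rw [this, h, smul_mulVec, dotProduct_smul, smul_eq_mul]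
  rfl

lemma gram_of_simil {b : Matrix (Ii m) (Ii m) F} {c : F}
    (h : ∀ u v : Vc m F, sympForm m F (b *ᵥ u) (b *ᵥ v) = c * sympForm m F u v) :
    bᵀ * Matrix.J (Fin m) F * b = c • Matrix.J (Fin m) F := by
  ext s t
  rw [form_pull, h, Matrix.smul_apply, smul_eq_mul, FormCongruence.sympForm_single]

lemma pull_alt (b : Matrix (Ii m) (Ii m) F) (v : Vc m F) : v ⬝ᵥ ((bᵀ * Matrix.J (Fin m) F * b) *ᵥ v) = 0 := by
  rw [← Matrix.mulVec_mulVec, ← Matrix.mulVec_mulVec, Matrix.dotProduct_mulVec, Matrix.vecMul_transpose]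
  exact form_self (b *ᵥ v)

/-- Lang's theorem for `GSp` and a field automorphism. -/
theorem lang [Finite F] (hm : 1 ≤ m) (σ : F ≃+* F) (a : ↥(Cfsg.GSp m F)) (h : ntwS σ a (orderOf σ) = 1) :
    ∃ b : ↥(Cfsg.GSp m F), a = b * (gmS σ b)⁻¹ := by
  classical
  obtain ⟨b, hb⟩ := hilbert90' σ a h
  set μ := multHom m F hm a with hμ
  have hN : unorm σ μ = 1 := by
    have hk : ∀ k, multHom m F hm (ntwS σ a k) = ∏ i ∈ Finset.range k, Units.map ((σ ^ i : F ≃+* F) : F →* F) μ := by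
      intro k
      induction k with
      | zero => simp [ntwS]
      | succ k ih => rw [ntwS_succ', map_mul, ih, mult_gmS, Finset.prod_range_succ]
    have := hk (orderOf σ)
    rw [h, map_one] at this
    exact this.symm
  obtain ⟨y, hy⟩ := hilbert90_units σ μ hN
  set B : Matrix (Ii m) (Ii m) F := (b : Matrix (Ii m) (Ii m) F) with hB
  set σb : Matrix (Ii m) (Ii m) F := B.map σ with hσb
  have hab : ((a : GL (Ii m) F) : Matrix (Ii m) (Ii m) F) * σb = B := by
    have := congrArg Units.val (eq_mul_inv_iff_mul_eq.1 hb)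
    simpa [coe_gm] using this
  set M0 : Matrix (Ii m) (Ii m) F := Bᵀ * Matrix.J (Fin m) F * B with hM0
  have hM0σ : M0 = (μ : F) • M0.map σ := by
    have hmap : M0.map σ = σbᵀ * Matrix.J (Fin m) F * σb := by
      rw [hM0, Matrix.map_mul, Matrix.map_mul, ← Matrix.transpose_map, map_J]
    rw [hmap, hM0, ← hab, transpose_mul]
    calc σbᵀ * ((a : GL (Ii m) F) : Matrix (Ii m) (Ii m) F)ᵀ * Matrix.J (Fin m) F * (((a : GL (Ii m) F) : Matrix (Ii m) (Ii m) F) * σb)
        = σbᵀ * (((a : GL (Ii m) F) : Matrix (Ii m) (Ii m) F)ᵀ * Matrix.J (Fin m) F * ((a : GL (Ii m) F) : Matrix (Ii m) (Ii m) F)) * σb := by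
          simp only [Matrix.mul_assoc]
      _ = _ := by
          rw [gram_of_simil (mult_spec a), Matrix.mul_smul, Matrix.smul_mul]
          rfl
  -- the fixed field and the descended form
  let K : Subfield F := (σ : F →+* F).eqLocusField (RingHom.id F)
  set M := (y : F)⁻¹ • M0 with hM
  have hfix : ∀ i j, M i j ∈ K := fun i j => by
    show σ (M i j) = M i j
    have e := congrFun (congrFun hM0σ i) j
    rw [Matrix.smul_apply, Matrix.map_apply, smul_eq_mul] at e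
    have hy' : (μ : F) * σ y = y := congrArg Units.val (eq_mul_inv_iff_mul_eq.1 hy)
    rw [hM, Matrix.smul_apply, smul_eq_mul, map_mul, map_inv₀]
    have := y.ne_zero
    have : σ (y : F) ≠ 0 := by simp
    field_simp
    linear_combination -(σ (M0 i j)) * hy' - σ (y : F) * e
  let E : Fin m ⊕ Fin m ≃ Fin (m + m) := finSumFinEquiv
  let MK : Matrix (Fin (m + m)) (Fin (m + m)) K := Matrix.of fun i j => ⟨M (E.symm i) (E.symm j), hfix _ _⟩
  have hMK : ∀ (i j), ((MK i j : K) : F) = M (E.symm i) (E.symm j) := fun i j => rfl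
  have halt : ∀ v, v ⬝ᵥ (MK *ᵥ v) = 0 := by
    intro v
    apply Subtype.ext
    have := pull_alt B (fun i => (v (E i) : F))
    rw [← hM0] at this
    calc ((v ⬝ᵥ (MK *ᵥ v) : K) : F) = (fun i => (v (E i) : F)) ⬝ᵥ (M *ᵥ fun i => (v (E i) : F)) := by
          simp only [dotProduct, mulVec, AddSubmonoidClass.coe_finsetSum, MulMemClass.coe_mul, hMK]
          refine (Fintype.sum_equiv E _ _ fun i => ?_).symm
          congr 1
          · exact Fintype.sum_equiv E _ _ fun j => by simp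
      _ = 0 := by rw [hM, smul_mulVec, dotProduct_smul, this, smul_zero]
  have hdet : MK.det ≠ 0 := by
    intro e
    have e' : (MK.map (K.subtype)).det = 0 := by rw [← RingHom.mapMatrix_apply, ← RingHom.map_det, e, map_zero]
    have hre : MK.map K.subtype = Matrix.reindex E E M := by ext i j; rfl
    rw [hre, Matrix.det_reindex_self, hM, Matrix.det_smul, hM0, det_mul, det_mul, det_transpose] at e'
    have h1 : B.det ≠ 0 := ((Matrix.isUnit_iff_isUnit_det _).1 b.isUnit).ne_zero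
    exact mul_ne_zero (pow_ne_zero _ (inv_ne_zero y.ne_zero))
      (mul_ne_zero (mul_ne_zero h1 (FormCongruence.det_J_ne_zero m)) h1) e'
  obtain ⟨k, hk, hcongr⟩ := FormCongruence.classify_alt halt hdet
  obtain rfl : k = m := by omega
  obtain ⟨T', T, -, hTT, hTeq⟩ := hcongr.symm
  -- `T'ᵀ * MK * T' = J` over `K`
  let S : Matrix (Ii k) (Ii k) F := Matrix.of fun i j => ((T' (E i) j : K) : F)
  have hS : Sᵀ * M * S = Matrix.J (Fin k) F := by
    have e1 : (Matrix.J (Fin k) K).map K.subtype = Matrix.J (Fin k) F := by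
      simp [Matrix.J, Matrix.fromBlocks_map, Matrix.map_neg, Matrix.map_one]
    rw [← e1, hTeq, Matrix.map_mul, Matrix.map_mul]
    ext i j
    simp only [Matrix.mul_apply, Matrix.transpose_apply, Matrix.map_apply, S, Matrix.of_apply]
    refine Fintype.sum_equiv E _ _ fun l => ?_
    congr 1
    exact Fintype.sum_equiv E _ _ fun l' => by simp [hMK]
  have hSdet : S.det ≠ 0 := by
    intro e
    have := congrArg Matrix.det hS
    rw [det_mul, det_mul, e, mul_zero] at this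
    exact FormCongruence.det_J_ne_zero (F := F) k this.symm
  let Sg : GL (Ii k) F := Matrix.GeneralLinearGroup.mkOfDetNeZero S hSdet
  have hSfix : gm σ Sg = Sg := Units.ext (by ext i j; exact (T' (E i) j).2)
  have hgram : (B * S)ᵀ * Matrix.J (Fin k) F * (B * S) = (y : F) • Matrix.J (Fin k) F := by
    conv_rhs => rw [← hS]
    rw [transpose_mul, hM, Matrix.mul_smul, Matrix.smul_mul, smul_smul, mul_inv_cancel₀ y.ne_zero, one_smul, hM0]
    simp only [Matrix.mul_assoc]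
  refine ⟨⟨b * Sg, y, simil_of_gram (B * S) y hgram⟩, Subtype.ext ?_⟩
  show (a : GL (Ii k) F) = b * Sg * (gm σ (b * Sg))⁻¹
  rw [map_mul, hSfix, _root_.mul_inv_rev, mul_assoc, mul_inv_cancel_left, ← hb]

/-- An element of the coset of a field automorphism with the same order is conjugate to it. -/
theorem field_coset [Finite F] (hm : 2 ≤ m) (σ : F ≃+* F) (a : ↥(Cfsg.GSp m F))
    (h : (cj a * fd σ : MulAut (PS m F)) ^ orderOf σ = 1) :
    ∃ b : ↥(Cfsg.GSp m F), (cj a * fd σ : MulAut (PS m F)) = cj b * fd σ * (cj b)⁻¹ := by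
  rw [pow_cj_fd, pow_orderOf_eq_one, map_one, mul_one] at h
  obtain ⟨u, hu⟩ := exists_scalarG ((cj_eq_one_iff hm _).1 h)
  have hfix : u ∈ fixedUnits σ := by
    show Units.map (σ : F →* F) u = u
    have e1 : ntwS σ a (orderOf σ + 1) = a * gmS σ (ntwS σ a (orderOf σ)) := rfl
    rw [ntwS_succ', pow_orderOf_eq_one, gmS_one, hu, gmS_scalarG, ← scalarG_comm u a] at e1
    exact (scalar_entry (by omega) (mul_left_cancel e1)).symm
  obtain ⟨lam, hlam⟩ : u ∈ (unorm σ).range := by rw [range_unorm]; exact hfix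
  have h' : ntwS σ (scalarG lam⁻¹ * a) (orderOf σ) = 1 := by
    rw [ntwS_scalar_mul, hu]
    show scalarG (unorm σ lam⁻¹) * _ = 1
    rw [map_inv, hlam, ← scalarG_mul, inv_mul_cancel, scalarG_one]
  obtain ⟨b, hb⟩ := lang (by omega) σ _ h'
  refine ⟨b, ?_⟩
  have : (cj a : MulAut (PS m F)) = cj (b * (gmS σ b)⁻¹) := by
    rw [← hb, map_mul, (cj_eq_one_iff hm _).2 (scalarG_mem _), one_mul]
  rw [this, map_mul, mul_assoc, mul_assoc, ← map_inv cj b, fd_mul_cj]
  simp only [map_inv]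

/-! ### Centralisers and splitting -/

lemma cj_commute_fd [Finite F] (hm : 2 ≤ m) (σ : F ≃+* F) (g : ↥(Cfsg.GSp m F)) :
    cj g * fd σ = fd σ * (cj g : MulAut (PS m F)) ↔
      ∃ (y : Fˣ) (g0 : ↥(Cfsg.GSp m F)), gmS σ g0 = g0 ∧ g = scalarG y * g0 := by
  constructor
  · intro h
    rw [fd_mul_cj] at h
    have h1 : cj (g * (gmS σ g)⁻¹) = (1 : MulAut (PS m F)) := by
      rw [map_mul, map_inv, mul_right_cancel h, mul_inv_cancel]
    obtain ⟨u, hu⟩ := exists_scalarG ((cj_eq_one_iff hm _).1 h1)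
    have key : ∀ k : ℕ,
        g = scalarG (∏ i ∈ Finset.range k, Units.map ((σ ^ i : F ≃+* F) : F →* F) u) * gmS (σ ^ k) g := by
      intro k
      induction k with
      | zero => rw [Finset.prod_range_zero, scalarG_one, one_mul, pow_zero, gmS_one]
      | succ k ih =>
        conv_lhs => rw [ih]
        rw [Finset.prod_range_succ, scalarG_mul, mul_assoc, pow_succ, gmS_mul, ← gmS_scalarG, ← map_mul]
        congr 2
        rw [← hu, inv_mul_cancel_right]
    have h2 := key (orderOf σ)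
    rw [pow_orderOf_eq_one, gmS_one, eq_comm, mul_eq_right, ← scalarG_one] at h2
    obtain ⟨y, hy⟩ := hilbert90_units σ u (scalar_entry (by omega) h2)
    refine ⟨y, scalarG y⁻¹ * g, ?_, by rw [← mul_assoc, ← scalarG_mul, mul_inv_cancel, scalarG_one, one_mul]⟩
    have hg : gmS σ g = scalarG u⁻¹ * g := by
      have e := mul_inv_eq_iff_eq_mul.1 hu
      calc gmS σ g = scalarG u⁻¹ * (scalarG u * gmS σ g) := by
            rw [← mul_assoc, ← scalarG_mul, inv_mul_cancel, scalarG_one, one_mul]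
        _ = _ := by rw [← e]
    rw [map_mul, gmS_scalarG, hg, ← mul_assoc, ← scalarG_mul, map_inv, hy, _root_.mul_inv_rev, inv_inv,
      inv_mul_cancel_left]
  · rintro ⟨y, g0, h0, rfl⟩
    rw [map_mul, (cj_eq_one_iff hm _).2 (scalarG_mem y), one_mul, fd_mul_cj, h0]

/-- Extension of scalars on `GSp`. -/
def gspMap {F₀ : Type*} [Field F₀] (ι : F₀ →+* F) : ↥(Cfsg.GSp m F₀) →* ↥(Cfsg.GSp m F) :=
  MonoidHom.codRestrict ((Matrix.GeneralLinearGroup.map ι).comp (Cfsg.GSp m F₀).subtype) _ fun g => by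
    obtain ⟨c, hc⟩ := g.2
    refine ⟨Units.map (ι : F₀ →* F) c, simil_of_gram _ _ ?_⟩
    have h := congrArg (fun A : Matrix (Ii m) (Ii m) F₀ => A.map ι) (gram_of_simil hc)
    simp only [Matrix.map_mul] at h
    rw [Matrix.transpose_map] at h
    have hJ : (Matrix.J (Fin m) F₀).map ι = Matrix.J (Fin m) F := by
      simp [Matrix.J, Matrix.fromBlocks_map, Matrix.map_neg, Matrix.map_one]
    rw [hJ] at h
    refine Eq.trans h ?_
    ext i j
    simp only [Matrix.map_apply, Matrix.smul_apply, smul_eq_mul, map_mul]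
    rw [← hJ]
    rfl

/-- A similitude fixed by `σ` is rational over the fixed field. -/
theorem exists_rational (hm : 1 ≤ m) (σ : F ≃+* F) {F₀ : Type*} [Field F₀] (ι : F₀ →+* F)
    (hι : ∀ x, σ x = x ↔ x ∈ ι.range) (g0 : ↥(Cfsg.GSp m F)) (h0 : gmS σ g0 = g0) :
    ∃ G : ↥(Cfsg.GSp m F₀), gspMap ι G = g0 := by
  classical
  have hent : ∀ i j, ((g0 : GL (Ii m) F) : Matrix (Ii m) (Ii m) F) i j ∈ ι.range := fun i j =>
    (hι _).1 (congrArg (fun g : ↥(Cfsg.GSp m F) => ((g : GL (Ii m) F) : Matrix (Ii m) (Ii m) F) i j) h0)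
  choose G hG using hent
  have hGmap : (Matrix.of G).map ι = ((g0 : GL (Ii m) F) : Matrix (Ii m) (Ii m) F) := by
    ext i j; exact hG i j
  have hGdet : (Matrix.of G).det ≠ 0 := fun e => by
    apply ((Matrix.isUnit_iff_isUnit_det _).1 (g0 : GL (Ii m) F).isUnit).ne_zero
    rw [← hGmap, ← RingHom.mapMatrix_apply, ← RingHom.map_det, e, map_zero]
  obtain ⟨c, hc0⟩ : (multHom m F hm g0 : F) ∈ ι.range := by
    rw [← hι]
    have := mult_gmS hm σ g0
    rw [h0] at this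
    exact (congrArg Units.val this).symm
  have hc1 : c ≠ 0 := fun e => (multHom m F hm g0).ne_zero (by rw [← hc0, e, map_zero])
  refine ⟨⟨Matrix.GeneralLinearGroup.mkOfDetNeZero _ hGdet, Units.mk0 c hc1, fun u v => ι.injective ?_⟩,
    Subtype.ext (Units.ext hGmap)⟩
  show ι (sympForm m F₀ (Matrix.of G *ᵥ u) (Matrix.of G *ᵥ v)) = ι (c * sympForm m F₀ u v)
  rw [map_mul, ← form_map', ← form_map', hc0]
  have e : ∀ w : Vc m F₀, ι ∘ (Matrix.of G *ᵥ w) = ((g0 : GL (Ii m) F) : Matrix (Ii m) (Ii m) F) *ᵥ (ι ∘ w) :=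
    fun w => by rw [← hGmap]; exact funext fun i => ι.map_mulVec _ w i
  rw [e, e, mult_spec]
  rfl

/-- The centraliser of a field automorphism. -/
theorem field_centralizer [Finite F] (hm : 2 ≤ m) (σ : F ≃+* F) (h : ↥(Cfsg.GSp m F)) {F₀ : Type*} [Field F₀]
    (ι : F₀ →+* F) (hι : ∀ x, σ x = x ↔ x ∈ ι.range) :
    Nonempty (↥(Cfsg.inndiagPSp m F ⊓ Subgroup.centralizer {cj h * fd σ * (cj h)⁻¹}) ≃* Cfsg.PGSp m F₀) := by
  classical
  let ρ : ↥(Cfsg.GSp m F₀) →* MulAut (PS m F) :=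
    (MulAut.conj (cj h : MulAut (PS m F))).toMonoidHom.comp (cj.comp (gspMap ι))
  refine AutPSLField.equiv_of_range ρ _ ?_ _ ?_
  · ext β
    constructor
    · rintro ⟨g, rfl⟩
      refine ⟨(mem_inndiag _).2 ⟨h * gspMap ι g * h⁻¹, by simp [ρ]⟩, Subgroup.mem_centralizer_singleton_iff.2 ?_⟩
      have hc := (cj_commute_fd hm σ (gspMap ι g)).2 ⟨1, gspMap ι g,
        Subtype.ext (Units.ext (by ext i j; exact (hι _).2 ⟨_, rfl⟩)), by rw [scalarG_one, one_mul]⟩
      show cj h * cj (gspMap ι g) * (cj h)⁻¹ * (cj h * fd σ * (cj h)⁻¹) = cj h * fd σ * (cj h)⁻¹ * (cj h * cj (gspMap ι g) * (cj h)⁻¹)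
      calc cj h * cj (gspMap ι g) * (cj h)⁻¹ * (cj h * fd σ * (cj h)⁻¹) = cj h * (cj (gspMap ι g) * fd σ) * (cj h)⁻¹ := by simp [mul_assoc]
        _ = cj h * (fd σ * cj (gspMap ι g)) * (cj h)⁻¹ := by rw [hc]
        _ = _ := by simp [mul_assoc]
    · rintro ⟨hβ, hc⟩
      obtain ⟨g, rfl⟩ := (mem_inndiag _).1 hβ
      have hc' := Subgroup.mem_centralizer_singleton_iff.1 hc
      obtain ⟨y, g0, h0, hg⟩ := (cj_commute_fd hm σ (h⁻¹ * g * h)).1 (by
        calc cj (h⁻¹ * g * h) * fd σ = (cj h)⁻¹ * (cj g * (cj h * fd σ * (cj h)⁻¹)) * cj h := by simp [mul_assoc]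
          _ = fd σ * cj (h⁻¹ * g * h) := by rw [hc']; simp [mul_assoc])
      obtain ⟨G, hG⟩ := exists_rational (by omega) σ ι hι g0 h0
      refine ⟨G, ?_⟩
      show cj h * cj (gspMap ι G) * (cj h)⁻¹ = cj g
      rw [hG]
      have : g = h * (scalarG y * g0) * h⁻¹ := by rw [← hg]; group
      rw [this, map_mul, map_mul, map_mul, (cj_eq_one_iff hm _).2 (scalarG_mem y), one_mul, map_inv]
  · ext g
    rw [MonoidHom.mem_ker, Subgroup.mem_subgroupOf]
    show MulAut.conj (cj h : MulAut (PS m F)) (cj (gspMap ι g)) = 1 ↔ _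
    rw [map_eq_one_iff _ (MulAut.conj _).injective, cj_eq_one_iff hm, Cfsg.Geo.mem_scalars_iff,
      Cfsg.Geo.mem_scalars_iff]
    constructor
    · rintro ⟨c, hc⟩
      have hent := fun i j => congrFun (congrFun hc i) j
      have h00 := hent (.inl ⟨0, by omega⟩) (.inl ⟨0, by omega⟩)
      simp [gspMap] at h00
      have hne : ((g : GL (Ii m) F₀) : Matrix (Ii m) (Ii m) F₀) (.inl ⟨0, by omega⟩) (.inl ⟨0, by omega⟩) ≠ 0 := fun e =>
        c.ne_zero (by rw [← h00, e, map_zero])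
      refine ⟨Units.mk0 _ hne, ?_⟩
      ext i j
      apply ι.injective
      have e := hent i j
      simp [gspMap] at e
      rw [e, Matrix.smul_apply, smul_eq_mul, map_mul, Units.val_mk0, h00]
      rcases eq_or_ne i j with rfl | hij <;> simp [*]
    · rintro ⟨c, hc⟩
      refine ⟨Units.map (ι : F₀ →* F) c, ?_⟩
      ext i j
      have e := congrFun (congrFun hc i) j
      simp [gspMap, e]
      rcases eq_or_ne i j with rfl | hij <;> simp [*]

/-- The number of inner classes in the inner-diagonal class of a field automorphism. -/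
theorem field_split [Fintype F] (hm : 2 ≤ m) (σ : F ≃+* F) (h : ↥(Cfsg.GSp m F)) :
    Cfsg.splitClassCount (Cfsg.inndiagPSp m F) (Cfsg.Inn (PS m F)) (cj h * fd σ * (cj h)⁻¹) =
      ((powMonoidHom 2 : Fˣ →* Fˣ).range ⊔ fixedUnits σ).index := by
  classical
  have hm1 : 1 ≤ m := by omega
  rw [inndiag_eq, inn_eq' hm, SplitClassIndex.splitClassCount_eq]
  set K0 := (powMonoidHom 2 : Fˣ →* Fˣ).range.comap (multHom m F hm1)
  set C := (Subgroup.centralizer ({cj h * fd σ * (cj h)⁻¹} : Set (MulAut (PS m F)))).comap cj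
  have h1 := Subgroup.index_map (K0 ⊔ C) (multHom m F hm1)
  rw [MonoidHom.range_eq_top.2 (mult_surjective hm1), Subgroup.index_top, mul_one,
    sup_eq_left.2 ((show (multHom m F hm1).ker ≤ K0 from fun g hg => by
      rw [Subgroup.mem_comap, MonoidHom.mem_ker.1 hg]; exact one_mem _).trans (le_sup_left : K0 ≤ K0 ⊔ C)),
    Subgroup.map_sup, Subgroup.map_comap_eq_self_of_surjective (mult_surjective hm1)] at h1
  rw [← h1]
  congr 1
  refine le_antisymm (sup_le le_sup_left ?_) (sup_le le_sup_left ?_)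
  · rintro _ ⟨g, hg, rfl⟩
    have hc' := Subgroup.mem_centralizer_singleton_iff.1 hg
    obtain ⟨y, g0, h0, e⟩ := (cj_commute_fd hm σ (h⁻¹ * g * h)).1 (by
      calc cj (h⁻¹ * g * h) * fd σ = (cj h)⁻¹ * (cj g * (cj h * fd σ * (cj h)⁻¹)) * cj h := by simp [mul_assoc]
        _ = fd σ * cj (h⁻¹ * g * h) := by rw [hc']; simp [mul_assoc])
    have hgm : multHom m F hm1 g = y * y * multHom m F hm1 g0 := by
      have := congrArg (multHom m F hm1) e
      rw [map_mul, map_mul, map_mul, map_inv, mult_scalarG, mul_comm, mul_inv_cancel_left] at this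
      exact this
    rw [hgm]
    refine Subgroup.mul_mem_sup ⟨y, by rw [powMonoidHom_apply, pow_two]⟩ ?_
    show Units.map (σ : F →* F) _ = _
    rw [← mult_gmS, h0]
    rfl
  · intro u hu
    obtain ⟨g, hg, -⟩ := exists_diag (fun _ : Fin m => (1 : Fˣ)) u
    have hgu : multHom m F hm1 g = u := by
      apply Units.ext
      have e1 := mult_spec g (sv (.inl ⟨0, hm1⟩)) (sv (.inr ⟨0, hm1⟩))
      rw [hg, hg] at e1
      simp [form_eq_sum, sv, Pi.single_apply] at e1
      exact e1.symm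
    refine Subgroup.mem_sup_right ⟨h * g * h⁻¹, ?_, by rw [map_mul, map_mul, map_inv, mul_inv_cancel_comm, hgu]⟩
    rw [SetLike.mem_coe, Subgroup.mem_comap, Subgroup.mem_centralizer_singleton_iff]
    have hfix : gmS σ g = g := by
      apply Subtype.ext
      apply Units.ext
      ext i j
      have hu' : σ (u : F) = u := congrArg Units.val hu
      have e := congrFun (hg (Pi.single j 1)) i
      rw [mulVec_single_one] at e
      simp only [Matrix.col_apply] at e
      show σ (((g : GL (Ii m) F) : Matrix (Ii m) (Ii m) F) i j) = ((g : GL (Ii m) F) : Matrix (Ii m) (Ii m) F) i j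
      simp only [e]
      rcases i with i | i <;> simp [Pi.single_apply, apply_ite σ, hu']
    have hc := (cj_commute_fd hm σ g).2 ⟨1, g, hfix, by rw [scalarG_one, one_mul]⟩
    calc cj (h * g * h⁻¹) * (cj h * fd σ * (cj h)⁻¹) = cj h * (cj g * fd σ) * (cj h)⁻¹ := by simp [mul_assoc]
      _ = cj h * (fd σ * cj g) * (cj h)⁻¹ := by rw [hc]
      _ = cj h * fd σ * (cj h)⁻¹ * cj (h * g * h⁻¹) := by simp [mul_assoc]

end Cfsg.Agent.AutPSpField
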