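import Mathlib
import Cfsg.Agent.Lib.SymplecticBasic

/-!
The order of the finite symplectic groups.
-/

set_option autoImplicit false

open Matrix Cfsg.Agent.SymplecticBasic

namespace Cfsg.Agent.SymplecticOrder

variable {F : Type*} [Field F] {m : ℕ}

/-- Hyperbolic pairs inside a subspace. -/
def hypPairs (W : Submodule F (Fin m ⊕ Fin m → F)) :
    Set ((Fin m ⊕ Fin m → F) × (Fin m ⊕ Fin m → F)) :=
  {p | p.1 ∈ W ∧ p.2 ∈ W ∧ sympForm m F p.1 p.2 = 1}

theorem card_fiber_mul [Fintype F] {W : Submodule F (Fin m ⊕ Fin m → F)} (hW : NondegOn W)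
    {u : Fin m ⊕ Fin m → F} (hu : u ∈ W) (hu0 : u ≠ 0) :
    Nat.card {v : Fin m ⊕ Fin m → F // v ∈ W ∧ sympForm m F u v = 1} * Nat.card F = Nat.card W := by
  obtain ⟨z, hz, hz0⟩ := hW u hu hu0
  set y := (sympForm m F u z)⁻¹ • z with hy
  have hyW : y ∈ W := W.smul_mem _ hz
  have hy1 : sympForm m F u y = 1 := by rw [hy, form_smul_right, inv_mul_cancel₀ hz0]
  rw [← Nat.card_prod]
  refine Nat.card_congr
    { toFun := fun p => ⟨p.1.1 + (p.2 - 1) • y, add_mem p.1.2.1 (W.smul_mem _ hyW)⟩
      invFun := fun w => (⟨w.1 + (1 - sympForm m F u w.1) • y,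
        add_mem w.2 (W.smul_mem _ hyW), by
          rw [form_add_right, form_smul_right, hy1, mul_one, add_sub_cancel]⟩, sympForm m F u w.1)
      left_inv := ?_
      right_inv := ?_ }
  · rintro ⟨⟨v, hv, hv1⟩, c⟩
    have hc : sympForm m F u (v + (c - 1) • y) = c := by
      rw [form_add_right, form_smul_right, hy1, hv1, mul_one, add_sub_cancel]
    refine Prod.ext (Subtype.ext ?_) hc
    change v + (c - 1) • y + (1 - sympForm m F u (v + (c - 1) • y)) • y = v
    rw [hc]; module
  · rintro ⟨w, hw⟩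
    refine Subtype.ext ?_
    change w + (1 - sympForm m F u w) • y + (sympForm m F u w - 1) • y = w
    module

theorem card_hypPairs_mul [Fintype F] {W : Submodule F (Fin m ⊕ Fin m → F)} (hW : NondegOn W) :
    Nat.card (hypPairs W) * Nat.card F = (Nat.card W - 1) * Nat.card W := by
  classical
  have e : hypPairs W ≃ (u : {u : Fin m ⊕ Fin m → F // u ∈ W ∧ u ≠ 0}) ×
      {v : Fin m ⊕ Fin m → F // v ∈ W ∧ sympForm m F u.1 v = 1} :=
    { toFun := fun p => ⟨⟨p.1.1, p.2.1, fun h => by simpa [h] using p.2.2.2⟩, ⟨p.1.2, p.2.2⟩⟩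
      invFun := fun s => ⟨(s.1.1, s.2.1), s.1.2.1, s.2.2⟩
      left_inv := fun p => rfl
      right_inv := fun s => rfl }
  rw [Nat.card_congr e, Nat.card_sigma, Finset.sum_mul,
    Finset.sum_congr rfl (fun u _ => card_fiber_mul hW u.2.1 u.2.2), Finset.sum_const,
    smul_eq_mul, Finset.card_univ, ← Nat.card_eq_fintype_card]
  congr 1
  have e2 : {u : Fin m ⊕ Fin m → F // u ∈ W ∧ u ≠ 0} ≃ {w : W // w ≠ 0} :=
    { toFun := fun u => ⟨⟨u.1, u.2.1⟩, fun h => u.2.2 (congrArg Subtype.val h)⟩
      invFun := fun w => ⟨w.1.1, w.1.2, fun h => w.2 (Subtype.ext h)⟩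
      left_inv := fun u => rfl
      right_inv := fun w => rfl }
  rw [Nat.card_congr e2, Nat.card_eq_fintype_card, Nat.card_eq_fintype_card,
    Fintype.card_subtype_compl, Fintype.card_subtype_eq]

theorem card_tailSpace [Fintype F] {k d : ℕ} (h : k + d = m) :
    Nat.card (tailSpace F m k) = Nat.card F ^ (2 * d) := by
  let idx : Fin d ⊕ Fin d → Fin m ⊕ Fin m :=
    Sum.map (fun j => ⟨k + j, by omega⟩) (fun j => ⟨k + j, by omega⟩)
  have hbij : Function.Bijective (fun (x : tailSpace F m k) (s : Fin d ⊕ Fin d) => x.1 (idx s)) := by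
    constructor
    · intro x y hxy
      refine Subtype.ext (funext fun t => ?_)
      rcases t with i | i <;> by_cases hi : (i : ℕ) < k
      · rw [(x.2 i hi).1, (y.2 i hi).1]
      · simpa [idx, show k + ((i : ℕ) - k) = i by omega] using
          congrFun hxy (Sum.inl ⟨i - k, by omega⟩)
      · rw [(x.2 i hi).2, (y.2 i hi).2]
      · simpa [idx, show k + ((i : ℕ) - k) = i by omega] using
          congrFun hxy (Sum.inr ⟨i - k, by omega⟩)
    · intro y
      refine ⟨⟨Sum.elim (fun i => if hi : (i : ℕ) < k then 0 else y (Sum.inl ⟨i - k, by omega⟩))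
        (fun i => if hi : (i : ℕ) < k then 0 else y (Sum.inr ⟨i - k, by omega⟩)),
        fun i hi => by simp [hi]⟩, funext fun s => ?_⟩
      rcases s with j | j <;> simp [idx]
  rw [Nat.card_eq_of_bijective _ hbij, Nat.card_fun, Nat.card_sum, Nat.card_fin]
  ring_nf

theorem card_fixPairs [Fintype F] (d : ℕ) : ∀ k, k + d = m →
    Nat.card (fixPairs F m k) = Nat.card F ^ (d ^ 2) *
      ∏ i ∈ Finset.range d, (Nat.card F ^ (2 * (i + 1)) - 1) := by
  induction d with
  | zero => intro k hk; rw [show k = m by omega, fixPairs_top, Subgroup.card_bot]; simp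
  | succ d ih =>
    intro k hk
    have hkm : k < m := by omega
    set p : (Fin m ⊕ Fin m → F) × (Fin m ⊕ Fin m → F) :=
      (Pi.single (Sum.inr ⟨k, hkm⟩) 1, Pi.single (Sum.inl ⟨k, hkm⟩) 1) with hp
    have h1 := single_inr_mem_tailSpace (F := F) (m := m) (i := ⟨k, hkm⟩) (le_refl k) 1
    have h2 := single_inl_mem_tailSpace (F := F) (m := m) (i := ⟨k, hkm⟩) (le_refl k) 1
    have horb : MulAction.orbit (fixPairs F m k) p = hypPairs (tailSpace F m k) := by
      ext ⟨a, b⟩
      constructor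
      · rintro ⟨g, hg⟩
        have ha : g.1 • p.1 = a := congrArg Prod.fst hg
        have hb : g.1 • p.2 = b := congrArg Prod.snd hg
        refine ⟨?_, ?_, ?_⟩
        · exact ha ▸ fixPairs_maps g.2 h1
        · exact hb ▸ fixPairs_maps g.2 h2
        · change sympForm m F a b = 1
          rw [← ha, ← hb, form_map]; exact form_std_pair _
      · rintro ⟨ha, hb, hab⟩
        obtain ⟨t, ht, htu, htv⟩ := exists_map_pair (nondegOn_tailSpace k) h1 h2 ha hb
          (form_std_pair _) hab
        exact ⟨⟨t, transvGroup_le_fixPairs k ht⟩, Prod.ext htu htv⟩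
    have hst : Nat.card (MulAction.stabilizer (fixPairs F m k) p) =
        Nat.card (fixPairs F m (k + 1)) := by
      refine Nat.card_congr
        { toFun := fun g => ⟨g.1.1, (mem_fixPairs_succ hkm).mpr
            ⟨g.1.2, congrArg Prod.snd g.2, congrArg Prod.fst g.2⟩⟩
          invFun := fun g => ⟨⟨g.1, ((mem_fixPairs_succ hkm).mp g.2).1⟩,
            Prod.ext ((mem_fixPairs_succ hkm).mp g.2).2.2 ((mem_fixPairs_succ hkm).mp g.2).2.1⟩
          left_inv := fun g => rfl
          right_inv := fun g => rfl }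
    have hos := Nat.card_congr (MulAction.orbitProdStabilizerEquivGroup (fixPairs F m k) p)
    rw [Nat.card_prod, hst, ih (k + 1) (by omega), horb] at hos
    have hc := card_hypPairs_mul (F := F) (nondegOn_tailSpace (F := F) (m := m) k)
    rw [card_tailSpace (by omega : k + (d + 1) = m)] at hc
    have hq : 0 < Nat.card F := Nat.card_pos
    refine Nat.eq_of_mul_eq_mul_right hq ?_
    rw [← hos, mul_right_comm, hc, Finset.prod_range_succ]
    ring

theorem card_symplectic [Fintype F] {q : ℕ} (hF : Fintype.card F = q) (m : ℕ) :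
    Nat.card (symplecticGroup (Fin m) F) =
      q ^ (m ^ 2) * ∏ i ∈ Finset.range m, (q ^ (2 * (i + 1)) - 1) := by
  have h := card_fixPairs (F := F) (m := m) m 0 (by omega)
  rw [fixPairs_zero, Subgroup.card_top, Nat.card_eq_fintype_card (α := F), hF] at h
  exact h

end Cfsg.Agent.SymplecticOrder
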