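import Mathlib
import Cfsg.Prelude.Def_Solvable
import Cfsg.Prelude.Def_LieTypeDatum
import Cfsg.Agent.Lib.ComponentsCores
import Cfsg.Agent.Lib.SymplecticBasic
import Cfsg.Agent.Lib.SymplecticSimple
import Cfsg.Agent.Lib.SymplecticOrder
import Cfsg.Agent.Lib.AutPSpBasic
import Cfsg.Agent.Lib.AutPSpTransv
import Cfsg.Agent.Lib.AutPSpMain
import Cfsg.Agent.Lib.AutPSpApi
import Cfsg.Agent.Lib.AutPSp4Duality
import Cfsg.Agent.Lib.AutPSpFull
import Cfsg.Agent.Lib.AutPSpField
import Cfsg.Agent.S0247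

/-!
The centraliser of a field automorphism of prime order in an almost simple group with socle `PSp m F`: its largest
normal subgroup of order prime to that prime.
-/

set_option autoImplicit false

namespace Cfsg.Agent.AutPSpBalance

open Matrix
open Cfsg.Agent.SymplecticBasic Cfsg.Agent.SymplecticSimple Cfsg.Agent.AutPSpBasic Cfsg.Agent.AutPSpTransv Cfsg.Agent.AutPSpMain
open Cfsg.Agent.AutPSpApi Cfsg.Agent.AutPSpField

variable {m : ℕ} {F : Type*} [Field F]

/-- The order of `PSp` is even. -/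
lemma two_dvd (K : Type*) [Field K] [Fintype K] (hm : 2 ≤ m) : 2 ∣ Nat.card (PS m K) := by
  haveI : Finite (PS m K) := inferInstance
  let j : Sp m K := ⟨Matrix.J (Fin m) K, SymplecticGroup.J_mem (Fin m) K⟩
  have hj2 : j * j ∈ Subgroup.center (Sp m K) := by
    refine mem_center_of_scalar (a := (-1 : K)) fun v => ?_
    rw [smul_def]
    show (Matrix.J (Fin m) K * Matrix.J (Fin m) K) *ᵥ v = _
    rw [Matrix.J_squared, neg_mulVec, one_mulVec, neg_one_smul]
  have hj : j ∉ Subgroup.center (Sp m K) := fun h => by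
    obtain ⟨a, -, ha⟩ := (mem_center_iff (by omega)).1 h
    have := congrFun (ha (sv (.inl ⟨0, by omega⟩))) (.inr ⟨0, by omega⟩)
    rw [smul_def] at this
    simp [j, Matrix.J, Matrix.fromBlocks_mulVec, sv, Pi.single_apply] at this
  have h1 : (QuotientGroup.mk j : PS m K) ≠ 1 := fun h => hj ((QuotientGroup.eq_one_iff j).1 h)
  have h2 : (QuotientGroup.mk j : PS m K) ^ 2 = 1 := by
    rw [← QuotientGroup.mk_pow, QuotientGroup.eq_one_iff, pow_two]; exact hj2
  exact orderOf_eq_prime h2 h1 ▸ orderOf_dvd_natCard _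

/-- Non-trivial normal subgroups of `PSp` have order divisible by the primes in question. -/
lemma normal_dvd (K : Type*) [Field K] [Fintype K] (hm : 2 ≤ m) {p : ℕ} (hp : p.Prime)
    (h22 : m = 2 → Fintype.card K = 2 → p ≠ 2) (N : Subgroup (PS m K)) [hN : N.Normal] (hne : N ≠ ⊥)
    (hdvd : p ∣ Nat.card (PS m K)) : p ∣ Nat.card N := by
  classical
  by_cases h : m = 2 → 3 ≤ Fintype.card K
  · haveI := psp_simple (F := K) m hm h
    rw [(IsSimpleGroup.eq_bot_or_eq_top_of_normal N hN).resolve_left hne, Subgroup.card_top]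
    exact hdvd
  push Not at h
  obtain ⟨rfl, hK⟩ := h
  have hK2 : Fintype.card K = 2 := by
    have := Fintype.one_lt_card (α := K); omega
  have hp2 := h22 rfl hK2
  obtain ⟨e⟩ := Cfsg.Agent.S0247.result hK2
  haveI : CharP K 2 := charP_of_card_eq_prime (R := K) hK2
  have hbot : Subgroup.center (Sp 2 K) = ⊥ := (Subgroup.eq_bot_iff_forall _).2 fun s hs =>
    eq_one_of_mk (by omega) CharTwo.two_eq_zero ((QuotientGroup.eq_one_iff s).2 hs)
  let e' : PS 2 K ≃* Equiv.Perm (Fin 6) :=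
    ((QuotientGroup.quotientMulEquivOfEq hbot).trans QuotientGroup.quotientBot).trans e
  rw [Nat.card_congr (N.equivMapOfInjective e'.toMonoidHom e'.injective).toEquiv]
  rw [Nat.card_congr e'.toEquiv] at hdvd
  set N' := N.map e'.toMonoidHom with hN'
  haveI : N'.Normal := hN.map _ e'.surjective
  have hne' : N' ≠ ⊥ := fun h => hne ((Subgroup.map_eq_bot_iff_of_injective _ e'.injective).1 h)
  haveI := alternatingGroup.isSimpleGroup (α := Fin 6) (by simp)
  rcases IsSimpleGroup.eq_bot_or_eq_top_of_normal (N'.subgroupOf (alternatingGroup (Fin 6))) inferInstance with h0 | h0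
  · exfalso
    rw [Subgroup.subgroupOf_eq_bot] at h0
    have hcomm : ∀ n ∈ N', ∀ a ∈ alternatingGroup (Fin 6), Commute n a := fun n hn a ha =>
      Subgroup.commute_of_normal_of_disjoint N' (alternatingGroup (Fin 6)) inferInstance inferInstance h0 n a hn ha
    obtain ⟨n, hn, hn1⟩ : ∃ n ∈ N', n ≠ 1 := by
      by_contra hcon; push Not at hcon
      exact hne' ((Subgroup.eq_bot_iff_forall _).2 hcon)
    obtain ⟨i, hi⟩ : ∃ i, n i ≠ i := by
      by_contra hcon; push Not at hcon; exact hn1 (Equiv.ext hcon)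
    obtain ⟨j, k, hji, hki, hjk, hjn⟩ : ∃ j k : Fin 6, j ≠ i ∧ k ≠ i ∧ j ≠ k ∧ n i ≠ j ∧ n i ≠ k := by
      revert hi; generalize n i = t; revert i t; decide
    have hc := hcomm n hn (Equiv.swap i j * Equiv.swap i k) (Equiv.Perm.mem_alternatingGroup.2 (by
      simp [Equiv.Perm.sign_swap hji.symm, Equiv.Perm.sign_swap hki.symm]))
    have := congrArg (fun f : Equiv.Perm (Fin 6) => f i) hc.eq
    simp [Equiv.swap_apply_def] at this
    split_ifs at this <;> simp_all
  · have hle : alternatingGroup (Fin 6) ≤ N' := Subgroup.subgroupOf_eq_top.1 h0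
    refine dvd_trans ?_ (Subgroup.card_dvd_of_le hle)
    have h720 : p ∣ Nat.card (alternatingGroup (Fin 6)) * 2 := by
      rw [mul_comm, two_mul_nat_card_alternatingGroup]; exact hdvd
    exact (hp.dvd_mul.1 h720).resolve_right fun h => hp2 ((Nat.prime_dvd_prime_iff_eq hp Nat.prime_two).1 h)

/-- An automorphism of the field fixing the fixed field of `σ` is a power of `σ`. -/
lemma galois_fix [Fintype F] (σ τ : F ≃+* F) (h : ∀ a, σ a = a → τ a = a) : τ ∈ Subgroup.zpowers σ := by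
  classical
  let K : Subfield F := (σ : F →+* F).eqLocusField (RingHom.id F)
  haveI : Finite (F ≃+* F) := Finite.of_injective (fun σ => (σ : F → F)) DFunLike.coe_injective
  let H : Subgroup (F ≃+* F) :=
    { carrier := {ρ | ∀ a, σ a = a → ρ a = a}
      one_mem' := fun a _ => rfl
      mul_mem' := fun {x y} hx hy a ha => by rw [RingAut.mul_apply, hy a ha, hx a ha]
      inv_mem' := fun {x} hx a ha => by conv_lhs => rw [← hx a ha]; exact x.symm_apply_apply a }
  have hle : Subgroup.zpowers σ ≤ H := Subgroup.zpowers_le.2 fun a ha => ha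
  haveI : FaithfulSMul H F := ⟨fun h => Subtype.ext (RingEquiv.ext h)⟩
  haveI : Fintype H := Fintype.ofFinite H
  have h1 := FixedPoints.finrank_eq_card H F
  have h2 : Nat.card (FixedPoints.subfield H F) = Nat.card {y : F // σ y = y} :=
    Nat.card_congr (Equiv.subtypeEquivRight fun y => ⟨fun hy => hy ⟨σ, fun a ha => ha⟩, fun hy ρ => ρ.2 y hy⟩)
  have h3 := Module.natCard_eq_pow_finrank (K := FixedPoints.subfield H F) (V := F)
  rw [h1, h2, ← GaloisDescentGL.card_fixed σ] at h3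
  have hq0 : 2 ≤ Nat.card {y : F // σ y = y} := by
    haveI : Nontrivial {y : F // σ y = y} := ⟨⟨0, map_zero σ⟩, ⟨1, map_one σ⟩, fun e => zero_ne_one (congrArg Subtype.val e)⟩
    exact Finite.one_lt_card
  have hcard := Nat.pow_right_injective hq0 h3
  have heq : Subgroup.zpowers σ = H := Subgroup.eq_of_le_of_card_ge hle (by
    rw [Nat.card_zpowers, hcard, Nat.card_eq_fintype_card])
  exact heq.symm ▸ (show τ ∈ H from h)

variable {F₀ : Type*} [Field F₀]

/-- The subfield subgroup, acting on `PSp m F`. -/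
noncomputable def rat (hm : 2 ≤ m) (ι : F₀ →+* F) : PS m F₀ →* MulAut (PS m F) :=
  QuotientGroup.lift _ (cj.comp ((gspMap ι).comp ofSp)) fun s hs => by
    rw [MonoidHom.mem_ker, MonoidHom.comp_apply, cj_eq_one_iff hm, Cfsg.Geo.mem_scalars_iff]
    obtain ⟨a, ha, hsa⟩ := (mem_center_iff (by omega)).1 hs
    have ha0 : a ≠ 0 := fun e => by simp [e] at ha
    refine ⟨Units.map (ι : F₀ →* F) (Units.mk0 a ha0), ?_⟩
    ext i j
    have := congrFun (hsa (Pi.single j 1)) i
    rw [smul_def, mulVec_single_one] at this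
    simp only [Matrix.col_apply, Pi.smul_apply, smul_eq_mul] at this
    show ι ((s : Matrix (Ii m) (Ii m) F₀) i j) = _
    rw [this]
    rcases eq_or_ne i j with rfl | hij <;> simp [*]

lemma rat_mk (hm : 2 ≤ m) (ι : F₀ →+* F) (s : Sp m F₀) :
    rat hm ι (QuotientGroup.mk s) = cj (gspMap ι (ofSp s)) := rfl

lemma rat_injective (hm : 2 ≤ m) (ι : F₀ →+* F) : Function.Injective (rat (m := m) hm ι) := by
  rw [injective_iff_map_eq_one]
  intro x hx
  induction x using QuotientGroup.induction_on with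
  | H s =>
    rw [rat_mk, cj_eq_one_iff hm, Cfsg.Geo.mem_scalars_iff] at hx
    obtain ⟨c, hc⟩ := hx
    have hent : ∀ i j, ι ((s : Matrix (Ii m) (Ii m) F₀) i j) = if i = j then (c : F) else 0 := fun i j => by
      have := congrFun (congrFun hc i) j
      rw [Matrix.smul_apply, smul_eq_mul, Matrix.one_apply, mul_ite, mul_one, mul_zero] at this
      exact this
    let z : Ii m := .inl ⟨0, by omega⟩
    have hs : ∀ v : Vc m F₀, s • v = (s : Matrix (Ii m) (Ii m) F₀) z z • v := by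
      intro v
      have : (s : Matrix (Ii m) (Ii m) F₀) = (s : Matrix (Ii m) (Ii m) F₀) z z • 1 := by
        ext i j
        apply ι.injective
        rw [hent, Matrix.smul_apply, smul_eq_mul, map_mul, hent, if_pos rfl]
        rcases eq_or_ne i j with rfl | hij <;> simp [*]
      conv_lhs => rw [smul_def, this, smul_mulVec, one_mulVec]
    exact (QuotientGroup.eq_one_iff s).2 (mem_center_of_scalar hs)

lemma rat_T (hm : 2 ≤ m) (ι : F₀ →+* F) (v : Vc m F₀) (c : F₀) :
    rat hm ι (T v c) = MulAut.conj (T (ι ∘ v) (ι c)) := by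
  rw [T, rat_mk]
  have : gspMap ι (ofSp (transv v c)) = ofSp (transv (ι ∘ v) (ι c)) := by
    apply Subtype.ext
    apply Units.ext
    ext i j
    show ι (((transv v c : Sp m F₀) : Matrix (Ii m) (Ii m) F₀) i j) = ((transv (ι ∘ v) (ι c) : Sp m F) : Matrix (Ii m) (Ii m) F) i j
    have h1 := congrFun (transv_smul v c (Pi.single j 1)) i
    have h2 := congrFun (transv_smul (ι ∘ v) (ι c) (Pi.single j 1)) i
    rw [smul_def, mulVec_single_one] at h1 h2
    simp only [Matrix.col_apply, Pi.add_apply, Pi.smul_apply, smul_eq_mul] at h1 h2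
    rw [h1, h2]
    have he : (Pi.single j 1 : Vc m F) = ι ∘ Pi.single j 1 := by
      funext l; rcases eq_or_ne l j with rfl | hl <;> simp [*]
    rw [he, form_map']
    simp
  rw [this]
  exact MulEquiv.ext fun y => cj_ofSp _ y

lemma rat_inn (hm : 2 ≤ m) (ι : F₀ →+* F) (y : PS m F₀) : rat hm ι y ∈ Cfsg.Inn (PS m F) := by
  induction y using QuotientGroup.induction_on with
  | H s =>
    rw [rat_mk, inn_eq' hm]
    refine ⟨_, ⟨1, ?_⟩, rfl⟩
    rw [map_one]
    apply Units.ext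
    let z : Fin m := ⟨0, by omega⟩
    have e := mult_spec (gspMap ι (ofSp s)) (ι ∘ sv (F := F₀) (.inr z)) (ι ∘ sv (F := F₀) (.inl z))
    rw [form_map'] at e
    have hmv : ∀ u : Vc m F₀, ((gspMap ι (ofSp s) : GL (Ii m) F) : Matrix (Ii m) (Ii m) F) *ᵥ (ι ∘ u) =
        ι ∘ ((s : Matrix (Ii m) (Ii m) F₀) *ᵥ u) := fun u => funext fun i => (ι.map_mulVec _ u i).symm
    rw [hmv, hmv, form_map', mem_sp_iff_form.1 s.2] at e
    simp [form_sv_right_inl, sv] at e
    exact e

lemma rat_commute [Finite F] (hm : 2 ≤ m) (σ : F ≃+* F) (ι : F₀ →+* F) (hι : ∀ x, σ x = x ↔ x ∈ ι.range) (y : PS m F₀) :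
    Commute (rat hm ι y) (fd σ) := by
  induction y using QuotientGroup.induction_on with
  | H s =>
    exact (cj_commute_fd hm σ _).2 ⟨1, gspMap ι (ofSp s),
      Subtype.ext (Units.ext (by ext i j; exact (hι _).2 ⟨_, rfl⟩)), by rw [scalarG_one, one_mul]; rfl⟩

/-- Automorphisms centralising the subfield subgroup. -/
theorem centralizer_rat [Fintype F] (hm : 2 ≤ m) (σ : F ≃+* F) (ι : F₀ →+* F) (hι : ∀ x, σ x = x ↔ x ∈ ι.range)
    (α : MulAut (PS m F)) (h : ∀ y, Commute α (rat hm ι y)) : α ∈ Subgroup.zpowers (fd σ) := by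
  classical
  have hfix : ∀ (v : Vc m F₀) (c : F₀), α (T (ι ∘ v) (ι c)) = T (ι ∘ v) (ι c) := by
    intro v c
    apply inn_injective hm
    have e := (h (T v c)).eq
    rw [rat_T] at e
    apply MulEquiv.ext
    intro z
    have e2 := congrArg (fun φ : MulAut (PS m F) => φ (α.symm z)) e
    simp [MulAut.mul_apply] at e2 ⊢
    exact e2
  have hιsv : ∀ z, (ι ∘ sv z : Vc m F) = sv z := fun z => by
    funext y; rcases eq_or_ne y z with rfl | hy <;> simp [sv, *]
  have hfix1 : ∀ z, α (T (sv z) 1) = T (sv z) 1 := fun z => by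
    have := hfix (sv z) 1; rwa [hιsv, map_one] at this
  have hGood : Good α := by
    by_cases hne : 3 ≤ m ∨ (2 : F) ≠ 0
    · exact fun x => ⟨fun h => by simpa using isTr_map hm hne α⁻¹ h, isTr_map hm hne α⟩
    push Not at hne
    obtain rfl : m = 2 := by omega
    haveI : CharP F 2 := CharTwo.of_one_ne_zero_of_two_eq_zero one_ne_zero hne.2
    refine (AutPSp4Duality.good_or α).resolve_right fun hg => AutPSp4Duality.not_isTr_gam (F := F) ?_
    have h1 := (hg (T (sv (.inl 0)) 1)).2 ⟨_, 1, sv_ne _, one_ne_zero, rfl⟩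
    rw [MulAut.mul_apply, hfix1] at h1
    have e : (AutPSp4Duality.gam F)⁻¹ = AutPSp4Duality.gam F * (fd (AutPSp4Duality.frob F))⁻¹ := by
      rw [← AutPSp4Duality.gam_sq]; group
    have e2 : fd (AutPSp4Duality.frob F) (T (sv (.inl 0)) 1) = T (sv (.inl 0) : Vc 2 F) 1 := by
      rw [fd_T, map_one]
      congr 1
      funext y; rcases eq_or_ne y (.inl 0) with rfl | hy <;> simp [sv, AutPSp4Duality.frob_apply, *]
    rw [e, MulAut.mul_apply] at h1
    rwa [show (fd (AutPSp4Duality.frob F))⁻¹ (T (sv (.inl 0)) 1) = T (sv (.inl 0) : Vc 2 F) 1 by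
      conv_lhs => rw [← e2, MulAut.inv_apply_self]] at h1
  obtain ⟨g, τ, rfl⟩ := rigid hm hGood
  obtain ⟨μ, hμ, hg⟩ := GSp_mult g
  set G := ((g : GL (Fin m ⊕ Fin m) F) : Matrix (Fin m ⊕ Fin m) (Fin m ⊕ Fin m) F) with hGdef
  have key : ∀ v : Vc m F₀, v ≠ 0 → ∀ c : F₀, c ≠ 0 →
      ∃ a : F, a ≠ 0 ∧ G *ᵥ (τ ∘ ι ∘ v) = a • (ι ∘ v) ∧ ι c = a ^ 2 * (τ (ι c) / μ) := by
    intro v hv c hc
    have e := hfix v c
    rw [MulAut.mul_apply, fd_T, cj_T g hμ hg] at e
    exact T_eq hm (fun e0 => hv (funext fun i => ι.injective (by simpa using congrFun e0 i)))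
      (fun e0 => hc (ι.injective (by simpa using e0))) e.symm
  have hτsv : ∀ z, (τ ∘ ι ∘ sv z : Vc m F) = sv z := fun z => by
    rw [hιsv]; funext y; rcases eq_or_ne y z with rfl | hy <;> simp [sv, *]
  have hkey : ∀ z, ∃ a : F, a ≠ 0 ∧ G *ᵥ sv z = a • sv z := fun z => by
    obtain ⟨a, ha, h1, -⟩ := key _ (sv_ne z) 1 one_ne_zero
    rw [hτsv, hιsv] at h1
    exact ⟨a, ha, h1⟩
  choose d hd0 hd using hkey
  have hsame : ∀ z w, d z = d w := by
    intro z w
    rcases eq_or_ne z w with rfl | hzw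
    · rfl
    obtain ⟨a, -, ha, -⟩ := key (sv z + sv w) (fun e => by
      have := congrFun e z; simp [sv, hzw] at this) 1 one_ne_zero
    have hs : (τ ∘ ι ∘ (sv z + sv w) : Vc m F) = sv z + sv w := by
      funext y
      show τ (ι (sv z y + sv w y)) = _
      rw [map_add, map_add]
      exact congrArg₂ (· + ·) (congrFun (hτsv z) y) (congrFun (hτsv w) y)
    have hs' : (ι ∘ (sv z + sv w) : Vc m F) = sv z + sv w := by
      funext y
      show ι (sv z y + sv w y) = _
      rw [map_add]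
      exact congrArg₂ (· + ·) (congrFun (hιsv z) y) (congrFun (hιsv w) y)
    rw [hs, hs', mulVec_add, hd, hd] at ha
    have h1 := congrFun ha z
    have h2 := congrFun ha w
    simp [sv, hzw, hzw.symm] at h1 h2
    rw [h1, h2]
  let z0 : Fin m ⊕ Fin m := .inl ⟨0, by omega⟩
  have hscal : G = d z0 • (1 : Matrix (Fin m ⊕ Fin m) (Fin m ⊕ Fin m) F) := by
    ext a b
    have := congrFun (hd b) a
    rw [mulVec_single_one] at this
    simp only [Matrix.col_apply, Pi.smul_apply, smul_eq_mul] at this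
    rw [this, hsame b z0]
    rcases eq_or_ne a b with rfl | hab <;> simp [sv, *]
  have hg1 : (cj g : MulAut (PS m F)) = 1 :=
    (cj_eq_one_iff hm g).2 ((Cfsg.Geo.mem_scalars_iff _).2 ⟨Units.mk0 _ (hd0 z0), hscal⟩)
  rw [hg1, one_mul] at hfix ⊢
  obtain ⟨k, hk⟩ : τ ∈ Subgroup.zpowers σ := galois_fix σ τ fun a ha => by
    obtain ⟨c, rfl⟩ := (hι a).1 ha
    have e := hfix (sv z0) c
    rw [fd_T, hτsv] at e
    rw [hιsv] at e
    exact T_inj hm (sv_ne z0) e
  exact ⟨k, by rw [← hk]; exact (map_zpow fd σ k).symm⟩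

lemma eq_one_of_coprime {G : Type*} [Group G] {N : Subgroup G} (n : G) (p : ℕ) (h1 : n ^ p = 1) (hn : n ∈ N)
    (hN : (Nat.card N).Coprime p) : n = 1 := by
  have h2 : n ^ Nat.card N = 1 := by
    simpa only [SubmonoidClass.coe_pow, OneMemClass.coe_one] using
      congrArg Subtype.val (pow_card_eq_one' (x := (⟨n, hn⟩ : N)))
  have h3 : n ^ Nat.gcd (Nat.card N) p = 1 := pow_gcd_eq_one.2 ⟨h2, h1⟩
  rwa [hN.gcd_eq_one, pow_one] at h3

/-- The criterion. -/
theorem balance [Fintype F] [Fintype F₀] (hm : 2 ≤ m) (σ : F ≃+* F) (ι : F₀ →+* F) (hι : ∀ x, σ x = x ↔ x ∈ ι.range)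
    {p : ℕ} [Fact p.Prime] (hσ : orderOf σ = p) (h22 : m = 2 → Fintype.card F₀ = 2 → p ≠ 2)
    (h : ↥(Cfsg.GSp m F)) (A : Subgroup (MulAut (PS m F))) (hinn : ∀ k : PS m F, MulAut.conj k ∈ A) :
    Cfsg.pPrimeCore p ↥(A ⊓ Subgroup.centralizer {cj h * fd σ * (cj h)⁻¹}) ≠ ⊥ ↔
      Nat.Coprime p (Nat.card ↥(MonoidHom.eqLocus (cj h * fd σ * (cj h)⁻¹ : MulAut (PS m F)).toMonoidHom
        (MonoidHom.id (PS m F)))) := by
  classical
  have hp := (Fact.out : p.Prime)
  haveI : Finite (MulAut (PS m F)) := Finite.of_injective (fun α => (α : PS m F → PS m F)) DFunLike.coe_injective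
  set x : MulAut (PS m F) := cj h * fd σ * (cj h)⁻¹ with hx
  set W := A ⊓ Subgroup.centralizer {x} with hW
  let φ : PS m F₀ →* MulAut (PS m F) := (MulAut.conj (cj h : MulAut (PS m F))).toMonoidHom.comp (rat hm ι)
  have hφ : ∀ y, φ y = cj h * rat hm ι y * (cj h)⁻¹ := fun y => rfl
  have hφinj : Function.Injective φ := (MulAut.conj _).injective.comp (rat_injective hm ι)
  set M := Cfsg.Inn (PS m F) ⊓ Subgroup.centralizer {x} with hM
  have hMW : M ≤ W := fun β ⟨⟨k, hk⟩, h2⟩ => ⟨hk ▸ hinn k, h2⟩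
  have hφM : ∀ y, φ y ∈ M := fun y => by
    refine ⟨Subgroup.Normal.conj_mem inferInstance _ (rat_inn hm ι y) _, Subgroup.mem_centralizer_singleton_iff.2 ?_⟩
    rw [hφ, hx]
    calc cj h * rat hm ι y * (cj h)⁻¹ * (cj h * fd σ * (cj h)⁻¹) = cj h * (rat hm ι y * fd σ) * (cj h)⁻¹ := by simp [mul_assoc]
      _ = cj h * (fd σ * rat hm ι y) * (cj h)⁻¹ := by rw [(rat_commute hm σ ι hι y).eq]
      _ = _ := by simp [mul_assoc]
  have hcentx : ∀ β, (∀ y, Commute β (φ y)) → β ∈ Subgroup.zpowers x := by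
    intro β hβ
    obtain ⟨k, hk⟩ := centralizer_rat hm σ ι hι ((cj h)⁻¹ * β * cj h) fun y => by
      have := (hβ y).map (MulAut.conj (cj h : MulAut (PS m F))⁻¹)
      simpa [hφ, mul_assoc] using this
    refine ⟨k, ?_⟩
    show x ^ k = β
    rw [hx, conj_zpow, show (fd σ : MulAut (PS m F)) ^ k = _ from hk]
    group
  -- `M` normalises the subfield subgroup
  have hnorm : ∀ β ∈ M, ∀ y, ∃ y', β * φ y * β⁻¹ = φ y' := by
    intro β hβ y
    obtain ⟨s, rfl⟩ := QuotientGroup.mk_surjective y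
    obtain ⟨g, rfl⟩ : ∃ g, β = cj g := by
      obtain ⟨k, hk⟩ := hβ.1
      obtain ⟨g, hg⟩ := AutPSp4Duality.conj_eq_cj k
      exact ⟨g, hk ▸ hg⟩
    have hc' := Subgroup.mem_centralizer_singleton_iff.1 hβ.2
    obtain ⟨u, g0, h0, hg⟩ := (cj_commute_fd hm σ (h⁻¹ * g * h)).1 (by
      calc cj (h⁻¹ * g * h) * fd σ = (cj h)⁻¹ * (cj g * x) * cj h := by simp [hx, mul_assoc]
        _ = fd σ * cj (h⁻¹ * g * h) := by rw [hc', hx]; simp [mul_assoc])
    obtain ⟨G, rfl⟩ := exists_rational (by omega) σ ι hι g0 h0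
    refine ⟨QuotientGroup.mk (spConj G s), ?_⟩
    have hgc : cj g = cj h * cj (gspMap ι G) * (cj h)⁻¹ := by
      have : g = h * (scalarG u * gspMap ι G) * h⁻¹ := by rw [← hg]; group
      rw [this, map_mul, map_mul, map_mul, (cj_eq_one_iff hm _).2 (scalarG_mem u), one_mul, map_inv]
    have hcs : ofSp (spConj G s) = G * ofSp s * G⁻¹ := Subtype.ext (Units.ext rfl)
    rw [hφ, hφ, hgc, rat_mk, rat_mk, hcs, map_mul, map_mul, map_mul, map_mul, map_inv, map_inv]
    group
  have hLne : ∃ y : PS m F₀, φ y ≠ 1 := by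
    refine ⟨T (sv (.inl ⟨0, by omega⟩)) 1, fun e => ?_⟩
    rw [map_eq_one_iff _ hφinj, T_eq_one_iff hm] at e
    exact e.elim (sv_ne _) one_ne_zero
  have hMeq : Nat.card M = Nat.card ↥(MonoidHom.eqLocus x.toMonoidHom (MonoidHom.id (PS m F))) := by
    have hiff : ∀ k, MulAut.conj k ∈ Subgroup.centralizer {x} ↔ x k = k := by
      intro k
      rw [Subgroup.mem_centralizer_singleton_iff]
      constructor
      · intro e
        apply inn_injective hm
        apply MulEquiv.ext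
        intro z
        have e2 := congrArg (fun β : MulAut (PS m F) => β (x.symm z)) e
        simp [MulAut.mul_apply] at e2 ⊢
        exact e2.symm
      · intro e
        apply MulEquiv.ext
        intro z
        simp [MulAut.mul_apply, e]
    have : (MonoidHom.eqLocus x.toMonoidHom (MonoidHom.id (PS m F))).map MulAut.conj = M := by
      ext β
      constructor
      · rintro ⟨k, hk, rfl⟩; exact ⟨⟨k, rfl⟩, (hiff k).2 hk⟩
      · rintro ⟨⟨k, rfl⟩, h2⟩; exact ⟨k, (hiff k).1 h2, rfl⟩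
    rw [← this]
    exact (Nat.card_congr (Subgroup.equivMapOfInjective _ _ (inn_injective hm)).toEquiv).symm
  rw [← hMeq]
  -- conjugation by `W` preserves `M`
  have hWM : ∀ w ∈ W, ∀ β ∈ M, w * β * w⁻¹ ∈ M := fun w hw β hβ =>
    ⟨Subgroup.Normal.conj_mem inferInstance β hβ.1 w,
      Subgroup.mul_mem _ (Subgroup.mul_mem _ hw.2 hβ.2) (Subgroup.inv_mem _ hw.2)⟩
  constructor
  · intro hcore
    by_contra hnc
    have hpM : p ∣ Nat.card M := hp.dvd_iff_not_coprime.2 hnc
    have hp0 : p ∣ Nat.card (PS m F₀) := by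
      obtain ⟨e⟩ := field_centralizer hm σ h ι hι
      have hle : M ≤ Cfsg.inndiagPSp m F ⊓ Subgroup.centralizer {x} := fun β hβ => by
        obtain ⟨k, hk⟩ := hβ.1
        obtain ⟨g, hg⟩ := AutPSp4Duality.conj_eq_cj k
        exact ⟨(mem_inndiag _).2 ⟨g, hk ▸ hg⟩, hβ.2⟩
      have h1 := hpM.trans (Subgroup.card_dvd_of_le hle)
      rw [Nat.card_congr e.toEquiv, card_PGSp hm] at h1
      rcases hp.dvd_mul.1 h1 with h2 | h2
      · have : p = 2 := (Nat.prime_dvd_prime_iff_eq hp Nat.prime_two).1 (h2.trans (Nat.gcd_dvd_left _ _))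
        rw [this]; exact two_dvd F₀ hm
      · exact h2
    set N := (Cfsg.pPrimeCore p W).map W.subtype with hN
    haveI hcn : (Cfsg.pPrimeCore p W).Normal := Subgroup.sSup_normal _ (fun _ h => h.1)
    have hNcard : (Nat.card N).Coprime p := by
      rw [hN, Nat.card_congr (Subgroup.equivMapOfInjective _ _ W.subtype_injective).toEquiv.symm]
      exact ComponentsCores.pPrimeCore_coprime p
    have hWN : ∀ w ∈ W, ∀ n ∈ N, w * n * w⁻¹ ∈ N := by
      rintro w hw _ ⟨n, hn, rfl⟩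
      exact ⟨⟨w, hw⟩ * n * ⟨w, hw⟩⁻¹, hcn.conj_mem n hn _, rfl⟩
    have hNW : N ≤ W := Subgroup.map_subtype_le _
    have hsmall : ∀ n ∈ N, n ∈ Subgroup.zpowers x → n = 1 := by
      rintro n hn ⟨k, rfl⟩
      have hord : orderOf x = p := by
        rw [hx, AutPSLField.orderOf_conj', orderOf_injective (fd (m := m) (F := F)) (fd_injective hm), hσ]
      refine eq_one_of_coprime (x ^ k) p ?_ hn hNcard
      rw [← zpow_natCast, ← _root_.zpow_mul, mul_comm, _root_.zpow_mul, zpow_natCast, ← hord, pow_orderOf_eq_one, _root_.one_zpow]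
    have hNL : ∀ y, φ y ∈ N → φ y = 1 := by
      intro y hy
      by_contra hne
      haveI : (N.comap φ).Normal := ⟨fun a ha b => by
        show φ (b * a * b⁻¹) ∈ N
        rw [map_mul, map_mul, map_inv]
        exact hWN _ (hMW (hφM b)) _ ha⟩
      have h1 := normal_dvd F₀ hm hp h22 (N.comap φ)
        (fun e => hne (by rw [(Subgroup.eq_bot_iff_forall _).1 e y hy, map_one])) hp0
      have h2 : Nat.card (N.comap φ) ∣ Nat.card N := by
        rw [Nat.card_congr (Subgroup.equivMapOfInjective _ _ hφinj).toEquiv]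
        exact Subgroup.card_dvd_of_le (Subgroup.map_comap_le _ _)
      exact hp.dvd_iff_not_coprime.1 (h1.trans h2) hNcard.symm
    have hNM : ∀ n ∈ N, n ∈ M → n = 1 := by
      intro n hn hnM
      refine hsmall n hn (hcentx n fun y => ?_)
      obtain ⟨y', hy'⟩ := hnorm n hnM y
      have h1 : φ (y' * y⁻¹) ∈ N := by
        rw [map_mul, map_inv, ← hy', mul_assoc, mul_assoc]
        refine mul_mem hn ?_
        rw [← mul_assoc]
        exact hWN _ (hMW (hφM y)) _ (inv_mem hn)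
      have h2 := hNL _ h1
      rw [map_mul, map_inv, ← hy', mul_inv_eq_one, mul_inv_eq_iff_eq_mul] at h2
      exact h2
    apply hcore
    rw [Subgroup.eq_bot_iff_forall]
    rintro ⟨n, hnW⟩ hn
    refine Subtype.ext (hsmall n ⟨_, hn, rfl⟩ (hcentx n fun y => ?_))
    have hnN : n ∈ N := ⟨_, hn, rfl⟩
    have h2 := hNM (n * φ y * n⁻¹ * (φ y)⁻¹) (by
        rw [mul_assoc, mul_assoc]
        refine mul_mem hnN ?_
        rw [← mul_assoc]
        exact hWN _ (hMW (hφM y)) _ (inv_mem hnN))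
      (mul_mem (hWM n hnW _ (hφM y)) (inv_mem (hφM y)))
    rw [mul_inv_eq_one, mul_inv_eq_iff_eq_mul] at h2
    exact h2
  · intro hco hbot
    haveI : (M.subgroupOf W).Normal := ⟨fun a ha w => hWM w w.2 a ha⟩
    have hle : M.subgroupOf W ≤ Cfsg.pPrimeCore p W := ComponentsCores.le_pPrimeCore' (by
      rw [Nat.card_congr (Subgroup.subgroupOfEquivOfLe hMW).toEquiv]
      exact hco.symm)
    obtain ⟨y, hy⟩ := hLne
    rw [hbot, le_bot_iff, Subgroup.subgroupOf_eq_bot] at hle
    exact hy (Subgroup.mem_bot.1 (hle.le_bot ⟨hφM y, hMW (hφM y)⟩))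

end Cfsg.Agent.AutPSpBalance
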