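import Mathlib
import Cfsg.Prelude.Def_Solvable
import Cfsg.Agent.Lib.ComponentsCores

/-!
Two criteria on the largest normal subgroup of order prime to `p` of the centraliser of an element `x` of order
`p`, in terms of a subgroup of it whose centraliser is generated by `x`.
-/

set_option autoImplicit false

namespace Cfsg.Agent.BalanceCriterion

variable {G : Type*} [Group G] [Finite G]

lemma eq_one_of_coprime {N : Subgroup G} (n : G) (p : ℕ) (h1 : n ^ p = 1) (hn : n ∈ N)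
    (hN : (Nat.card N).Coprime p) : n = 1 := by
  have h2 : n ^ Nat.card N = 1 := by
    simpa only [SubmonoidClass.coe_pow, OneMemClass.coe_one] using
      congrArg Subtype.val (pow_card_eq_one' (x := (⟨n, hn⟩ : N)))
  have h3 : n ^ Nat.gcd (Nat.card N) p = 1 := pow_gcd_eq_one.2 ⟨h2, h1⟩
  rwa [hN.gcd_eq_one, pow_one] at h3

/-- The core of `W`, seen in `G`. -/
lemma core_props (p : ℕ) (W : Subgroup G) :
    (Cfsg.pPrimeCore p W).map W.subtype ≤ W ∧
      (Nat.card ((Cfsg.pPrimeCore p W).map W.subtype)).Coprime p ∧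
      ∀ w ∈ W, ∀ n ∈ (Cfsg.pPrimeCore p W).map W.subtype, w * n * w⁻¹ ∈ (Cfsg.pPrimeCore p W).map W.subtype := by
  refine ⟨Subgroup.map_subtype_le _, ?_, ?_⟩
  · rw [← Nat.card_congr (Subgroup.equivMapOfInjective _ _ W.subtype_injective).toEquiv]
    exact ComponentsCores.pPrimeCore_coprime p
  · rintro w hw _ ⟨n, hn, rfl⟩
    exact ⟨⟨w, hw⟩ * n * ⟨w, hw⟩⁻¹, (inferInstance : (Cfsg.pPrimeCore p W).Normal).conj_mem n hn _, rfl⟩

lemma zpowers_trivial {p : ℕ} {x : G} (hx : orderOf x = p) {N : Subgroup G} (hN : (Nat.card N).Coprime p)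
    {n : G} (hn : n ∈ N) (hz : n ∈ Subgroup.zpowers x) : n = 1 := by
  obtain ⟨k, rfl⟩ := hz
  refine eq_one_of_coprime (x ^ k) p ?_ hn hN
  rw [← zpow_natCast, ← _root_.zpow_mul, mul_comm, _root_.zpow_mul, zpow_natCast, ← hx, pow_orderOf_eq_one,
    _root_.one_zpow]

/-- The case of a field automorphism: `M` contains the image of `H`, normalises it, and the non-trivial normal
subgroups of `H` have order divisible by `p` as soon as `p` divides the order of `M`. -/
theorem field_core {H : Type*} [Group H] {p : ℕ} [Fact p.Prime] (W M : Subgroup G) (x : G) (φ : H →* G)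
    (hφ : Function.Injective φ) (hMW : M ≤ W) (hWM : ∀ w ∈ W, ∀ β ∈ M, w * β * w⁻¹ ∈ M) (hφM : ∀ y, φ y ∈ M)
    (hcent : ∀ β, (∀ y, Commute β (φ y)) → β ∈ Subgroup.zpowers x) (hx : orderOf x = p)
    (hnorm : ∀ β ∈ M, ∀ y, ∃ y', β * φ y * β⁻¹ = φ y') (hne : ∃ y, φ y ≠ 1)
    (hH : p ∣ Nat.card M → ∀ N : Subgroup H, N.Normal → N ≠ ⊥ → p ∣ Nat.card N) :
    Cfsg.pPrimeCore p W ≠ ⊥ ↔ Nat.Coprime p (Nat.card M) := by
  have hp := (Fact.out : p.Prime)
  constructor
  · intro hcore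
    by_contra hnc
    have hpM : p ∣ Nat.card M := hp.dvd_iff_not_coprime.2 hnc
    obtain ⟨hNW, hNcard, hWN⟩ := core_props p W
    set N := (Cfsg.pPrimeCore p W).map W.subtype with hN
    have hNL : ∀ y, φ y ∈ N → φ y = 1 := by
      intro y hy
      by_contra hne'
      have hnorm' : (N.comap φ).Normal := ⟨fun a ha b => by
        show φ (b * a * b⁻¹) ∈ N
        rw [map_mul, map_mul, map_inv]
        exact hWN _ (hMW (hφM b)) _ ha⟩
      have h1 := hH hpM _ hnorm' fun e => hne' (by rw [(Subgroup.eq_bot_iff_forall _).1 e y hy, map_one])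
      have h2 : Nat.card (N.comap φ) ∣ Nat.card N := by
        rw [Nat.card_congr (Subgroup.equivMapOfInjective _ _ hφ).toEquiv]
        exact Subgroup.card_dvd_of_le (Subgroup.map_comap_le _ _)
      exact hp.dvd_iff_not_coprime.1 (h1.trans h2) hNcard.symm
    have hNM : ∀ n ∈ N, n ∈ M → n = 1 := by
      intro n hn hnM
      refine zpowers_trivial hx hNcard hn (hcent n fun y => ?_)
      obtain ⟨y', hy'⟩ := hnorm n hnM y
      have h1 : φ (y' * y⁻¹) ∈ N := by
        rw [map_mul, map_inv, ← hy', mul_assoc, mul_assoc]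
        refine mul_mem hn ?_
        rw [← mul_assoc]
        exact hWN _ (hMW (hφM y)) _ (inv_mem hn)
      have h2 := hNL _ h1
      rw [map_mul, map_inv, ← hy', mul_inv_eq_one, mul_inv_eq_iff_eq_mul] at h2
      exact h2
    apply hcore
    rw [Subgroup.eq_bot_iff_forall]
    rintro ⟨n, hnW⟩ hn
    refine Subtype.ext (zpowers_trivial hx hNcard ⟨_, hn, rfl⟩ (hcent n fun y => ?_))
    have hnN : n ∈ N := ⟨_, hn, rfl⟩
    have h2 := hNM (n * φ y * n⁻¹ * (φ y)⁻¹) (by
        rw [mul_assoc, mul_assoc]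
        refine mul_mem hnN ?_
        rw [← mul_assoc]
        exact hWN _ (hMW (hφM y)) _ (inv_mem hnN))
      (mul_mem (hWM n hnW _ (hφM y)) (inv_mem (hφM y)))
    rw [mul_inv_eq_one, mul_inv_eq_iff_eq_mul] at h2
    exact h2
  · intro hco hbot
    haveI : (M.subgroupOf W).Normal := ⟨fun a ha w => hWM w w.2 a ha⟩
    have hle : M.subgroupOf W ≤ Cfsg.pPrimeCore p W := ComponentsCores.le_pPrimeCore' (by
      rw [Nat.card_congr (Subgroup.subgroupOfEquivOfLe hMW).toEquiv]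
      exact hco.symm)
    obtain ⟨y, hy⟩ := hne
    rw [hbot, le_bot_iff, Subgroup.subgroupOf_eq_bot] at hle
    exact hy (Subgroup.mem_bot.1 (hle.le_bot ⟨hφM y, hMW (hφM y)⟩))

/-- The case where a normal subgroup `L` of `W` has trivial core and centraliser generated by `x`. -/
theorem core_eq_bot {p : ℕ} (W L : Subgroup G) (x : G) (hx : orderOf x = p) (hLW : L ≤ W)
    (hWL : ∀ w ∈ W, ∀ l ∈ L, w * l * w⁻¹ ∈ L) (hL : Cfsg.pPrimeCore p L = ⊥)
    (hcent : ∀ w ∈ W, (∀ l ∈ L, Commute w l) → w ∈ Subgroup.zpowers x) : Cfsg.pPrimeCore p W = ⊥ := by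
  obtain ⟨hNW, hNcard, hWN⟩ := core_props p W
  set N := (Cfsg.pPrimeCore p W).map W.subtype with hN
  haveI : (N.subgroupOf L).Normal := ⟨fun a ha l => hWN _ (hLW l.2) _ ha⟩
  have hle : N.subgroupOf L ≤ ⊥ := hL ▸ ComponentsCores.le_pPrimeCore' (by
    have h1 : Nat.card (N.subgroupOf L) ∣ Nat.card N := by
      rw [Nat.card_congr (Subgroup.equivMapOfInjective _ _ L.subtype_injective).toEquiv]
      exact Subgroup.card_dvd_of_le (Subgroup.map_comap_le _ _)
    exact Nat.Coprime.coprime_dvd_left h1 hNcard)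
  rw [Subgroup.eq_bot_iff_forall]
  rintro ⟨n, hnW⟩ hn
  have hnN : n ∈ N := ⟨_, hn, rfl⟩
  refine Subtype.ext (zpowers_trivial hx hNcard hnN (hcent n hnW fun l hl => ?_))
  have h1 : n * l * n⁻¹ * l⁻¹ ∈ L := mul_mem (hWL n hnW l hl) (inv_mem hl)
  have h2 : n * l * n⁻¹ * l⁻¹ ∈ N := by
    rw [mul_assoc, mul_assoc]
    refine mul_mem hnN ?_
    rw [← mul_assoc]
    exact hWN _ (hLW hl) _ (inv_mem hnN)
  have h3 : (⟨_, h1⟩ : L) = 1 := Subgroup.mem_bot.1 (hle h2)
  have h4 : n * l * n⁻¹ * l⁻¹ = 1 := congrArg Subtype.val h3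
  rw [mul_inv_eq_one, mul_inv_eq_iff_eq_mul] at h4
  exact h4

/-- The core of a subgroup is normalised by every element normalising the subgroup. -/
theorem conj_core_mem (p : ℕ) (L : Subgroup G) (g : G) (hg : ∀ l, l ∈ L ↔ g * l * g⁻¹ ∈ L) {n : G}
    (hn : n ∈ (Cfsg.pPrimeCore p L).map L.subtype) : g * n * g⁻¹ ∈ (Cfsg.pPrimeCore p L).map L.subtype := by
  obtain ⟨⟨n, hnL⟩, hn', rfl⟩ := hn
  let e : L ≃* L :=
    { toFun := fun l => ⟨g * l * g⁻¹, (hg l).1 l.2⟩
      invFun := fun l => ⟨g⁻¹ * l * g, (hg _).2 (by simp [mul_assoc])⟩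
      left_inv := fun l => Subtype.ext (by simp [mul_assoc])
      right_inv := fun l => Subtype.ext (by simp [mul_assoc])
      map_mul' := fun a b => Subtype.ext (by simp [mul_assoc]) }
  have := ComponentsCores.pPrimeCore_map_mulEquiv e p
  exact ⟨e ⟨n, hnL⟩, this ▸ Subgroup.mem_map_of_mem e.toMonoidHom hn', rfl⟩

end Cfsg.Agent.BalanceCriterion
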