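import Mathlib
import Cfsg.Prelude.Def_Solvable
import Cfsg.Agent.Lib.ComponentsCores

/-!
A generic criterion for the largest normal subgroup of order prime to `p` of the centraliser of an
automorphism in an almost simple group.
-/

set_option autoImplicit false

namespace Cfsg.Agent.BalanceGeneric52

variable {G : Type*} [Group G]

/-- The inner automorphisms centralising `β`. -/
def innCent (β : MulAut G) : Subgroup (MulAut G) :=
  (MulAut.conj : G →* MulAut G).range ⊓ Subgroup.centralizer {β}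

theorem conj_commute_iff (hinj : Function.Injective (MulAut.conj : G →* MulAut G)) (β : MulAut G)
    (k : G) : MulAut.conj k ∈ Subgroup.centralizer {β} ↔ β k = k := by
  rw [Subgroup.mem_centralizer_singleton_iff]
  constructor
  · intro e
    apply hinj
    apply MulEquiv.ext
    intro z
    have e2 := congrArg (fun δ : MulAut G => δ (β.symm z)) e
    simp [MulAut.mul_apply] at e2 ⊢
    exact e2.symm
  · intro e
    apply MulEquiv.ext
    intro z
    simp [MulAut.mul_apply, e]

theorem card_innCent (hinj : Function.Injective (MulAut.conj : G →* MulAut G)) (β : MulAut G) :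
    Nat.card (innCent β) = Nat.card ↥(MonoidHom.eqLocus β.toMonoidHom (MonoidHom.id G)) := by
  have : (MonoidHom.eqLocus β.toMonoidHom (MonoidHom.id G)).map MulAut.conj = innCent β := by
    ext δ
    constructor
    · rintro ⟨k, hk, rfl⟩; exact ⟨⟨k, rfl⟩, (conj_commute_iff hinj β k).2 hk⟩
    · rintro ⟨⟨k, rfl⟩, h2⟩; exact ⟨k, (conj_commute_iff hinj β k).1 h2, rfl⟩
  rw [← this]
  exact (Nat.card_congr (Subgroup.equivMapOfInjective _ _ hinj).toEquiv).symm

theorem conj_mem_innCent {β x m : MulAut G} (hx : x ∈ Subgroup.centralizer {β})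
    (hm : m ∈ innCent β) : x * m * x⁻¹ ∈ innCent β := by
  obtain ⟨⟨k, rfl⟩, h2⟩ := hm
  refine ⟨⟨x k, ?_⟩, Subgroup.mul_mem _ (Subgroup.mul_mem _ hx h2) (Subgroup.inv_mem _ hx)⟩
  apply MulEquiv.ext
  intro z
  simp [MulAut.mul_apply]

theorem eq_one_of_coprime {G : Type*} [Group G] {N : Subgroup G} (n : G) (p : ℕ) (h1 : n ^ p = 1)
    (hn : n ∈ N) (hN : (Nat.card N).Coprime p) : n = 1 := by
  have h2 : n ^ Nat.card N = 1 := by
    simpa only [SubmonoidClass.coe_pow, OneMemClass.coe_one] using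
      congrArg Subtype.val (pow_card_eq_one' (x := (⟨n, hn⟩ : N)))
  have h3 : n ^ Nat.gcd (Nat.card N) p = 1 := pow_gcd_eq_one.2 ⟨h2, h1⟩
  rwa [hN.gcd_eq_one, pow_one] at h3

/-- The criterion. -/
theorem balance [Finite G] (hinj : Function.Injective (MulAut.conj : G →* MulAut G))
    (A : Subgroup (MulAut G)) (hinn : ∀ k : G, MulAut.conj k ∈ A) (β : MulAut G) (p : ℕ)
    [hp : Fact p.Prime] (hne : innCent β ≠ ⊥)
    (hcore : p ∣ Nat.card (innCent β) → ∀ Y : Subgroup (MulAut G), Y ≤ innCent β →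
      (Nat.card Y).Coprime p →
      (∀ x ∈ Subgroup.centralizer {β}, ∀ y ∈ Y, x * y * x⁻¹ ∈ Y) → Y = ⊥)
    (hrig : ∀ n ∈ Subgroup.centralizer {β}, (∀ m ∈ innCent β, Commute n m) →
      ∀ k : ℕ, n ^ k = 1 → k.Coprime p → n = 1) :
    Cfsg.pPrimeCore p ↥(A ⊓ Subgroup.centralizer {β}) ≠ ⊥ ↔
      Nat.Coprime p (Nat.card ↥(MonoidHom.eqLocus β.toMonoidHom (MonoidHom.id G))) := by
  classical
  haveI : Finite (MulAut G) := Finite.of_injective (fun α => (α : G → G)) DFunLike.coe_injective
  set W := A ⊓ Subgroup.centralizer {β} with hW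
  set M := innCent β with hM
  have hMW : M ≤ W := fun δ ⟨⟨k, hk⟩, h2⟩ => ⟨hk ▸ hinn k, h2⟩
  rw [← card_innCent hinj β, ← hM]
  constructor
  · intro hcore'
    by_contra hnc
    have hpM : p ∣ Nat.card M := hp.out.dvd_iff_not_coprime.2 hnc
    set N := (Cfsg.pPrimeCore p W).map W.subtype with hN
    haveI hcn : (Cfsg.pPrimeCore p W).Normal := Subgroup.sSup_normal _ (fun _ h => h.1)
    have hNcard : (Nat.card N).Coprime p := by
      rw [hN, Nat.card_congr (Subgroup.equivMapOfInjective _ _ W.subtype_injective).toEquiv.symm]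
      exact ComponentsCores.pPrimeCore_coprime p
    have hWN : ∀ w ∈ W, ∀ n ∈ N, w * n * w⁻¹ ∈ N := by
      rintro w hw _ ⟨n, hn, rfl⟩
      exact ⟨⟨w, hw⟩ * n * ⟨w, hw⟩⁻¹, hcn.conj_mem n hn _, rfl⟩
    set Y := (Cfsg.pPrimeCore p M).map M.subtype with hY
    haveI hcm : (Cfsg.pPrimeCore p M).Normal := Subgroup.sSup_normal _ (fun _ h => h.1)
    have hYbot : Y = ⊥ := by
      refine hcore hpM Y (Subgroup.map_subtype_le _) ?_ ?_
      · rw [hY, Nat.card_congr (Subgroup.equivMapOfInjective _ _ M.subtype_injective).toEquiv.symm]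
        exact ComponentsCores.pPrimeCore_coprime p
      · rintro x hx _ ⟨y, hy, rfl⟩
        let e : M ≃* M :=
          { toFun := fun m => ⟨x * m * x⁻¹, conj_mem_innCent hx m.2⟩
            invFun := fun m => ⟨x⁻¹ * m * x, by
              simpa using conj_mem_innCent (Subgroup.inv_mem _ hx) m.2⟩
            left_inv := fun m => Subtype.ext (by simp [mul_assoc])
            right_inv := fun m => Subtype.ext (by simp [mul_assoc])
            map_mul' := fun a b => Subtype.ext (by simp [mul_assoc]) }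
        refine ⟨e y, ?_, rfl⟩
        rw [← ComponentsCores.pPrimeCore_map_mulEquiv e p]
        exact ⟨y, hy, rfl⟩
    have hNM : ∀ n ∈ N, n ∈ M → n = 1 := by
      intro n hn hnM
      haveI : ((N ⊓ M).subgroupOf M).Normal := ⟨fun a ha b =>
        ⟨hWN _ (hMW b.2) _ ha.1, M.mul_mem (M.mul_mem b.2 a.2) (M.inv_mem b.2)⟩⟩
      have hle : (N ⊓ M).subgroupOf M ≤ Cfsg.pPrimeCore p M := ComponentsCores.le_pPrimeCore' (by
        rw [Nat.card_congr (Subgroup.subgroupOfEquivOfLe inf_le_right).toEquiv]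
        exact hNcard.coprime_dvd_left (Subgroup.card_dvd_of_le inf_le_left))
      have : n ∈ Y := ⟨⟨n, hnM⟩, hle ⟨hn, hnM⟩, rfl⟩
      rwa [hYbot, Subgroup.mem_bot] at this
    apply hcore'
    rw [Subgroup.eq_bot_iff_forall]
    rintro ⟨n, hnW⟩ hn
    have hnN : n ∈ N := ⟨_, hn, rfl⟩
    refine Subtype.ext (hrig n hnW.2 (fun m hm => ?_) (Nat.card N) ?_ hNcard)
    · have h2 := hNM (n * m * n⁻¹ * m⁻¹) (by
          rw [mul_assoc, mul_assoc]
          refine mul_mem hnN ?_
          rw [← mul_assoc]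
          exact hWN _ (hMW hm) _ (inv_mem hnN))
        (mul_mem (conj_mem_innCent hnW.2 hm) (inv_mem hm))
      rw [mul_inv_eq_one, mul_inv_eq_iff_eq_mul] at h2
      exact h2
    · simpa only [SubmonoidClass.coe_pow, OneMemClass.coe_one] using
        congrArg Subtype.val (pow_card_eq_one' (x := (⟨n, hnN⟩ : N)))
  · intro hco hbot
    haveI : (M.subgroupOf W).Normal := ⟨fun a ha w => conj_mem_innCent w.2.2 ha⟩
    have hle : M.subgroupOf W ≤ Cfsg.pPrimeCore p W := ComponentsCores.le_pPrimeCore' (by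
      rw [Nat.card_congr (Subgroup.subgroupOfEquivOfLe hMW).toEquiv]
      exact hco.symm)
    rw [hbot, le_bot_iff, Subgroup.subgroupOf_eq_bot] at hle
    exact hne ((Subgroup.eq_bot_iff_forall _).2 fun m hm => Subgroup.mem_bot.1 (hle.le_bot ⟨hm, hMW hm⟩))

end Cfsg.Agent.BalanceGeneric52
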