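import Mathlib
import Cfsg.Agent.Lib.AutOrth45Odd
import Cfsg.Agent.Lib.GaloisDescentGL
import Cfsg.Agent.Lib.FormCongruence

/-!
Field automorphisms of the odd-dimensional orthogonal groups: coset classes and rational centralisers.
-/

set_option autoImplicit false
set_option linter.unusedSectionVars false

namespace Cfsg.Agent.AutOrthOdd52Field

open QuadraticMap
open scoped Matrix MatrixGroups
open Cfsg.Agent.OrthUnitaryQuad
open Cfsg.Agent.OrthUnitarySimAut
open Cfsg.Agent.AutOrth45Api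
open Cfsg.Agent.FormCongruence (pOdd)

variable {F : Type*} [Field F] {m : ℕ}

local notation "J" => Unit ⊕ (Fin m ⊕ Fin m)
local notation "Qo" => QuadClassify.qOdd m F

theorem qOdd_polar (u w : J → F) : polar Qo u w = u ⬝ᵥ (pOdd m F *ᵥ w) := by
  rw [polar, QuadClassify.qOdd_apply, QuadClassify.qOdd_apply, QuadClassify.qOdd_apply,
    FormCongruence.polar_odd]

theorem pOdd_map {L : Type*} [Field L] (f : F →+* L) : (pOdd m F).map f = pOdd m L := by
  ext i j
  rcases i with i | i | i <;> rcases j with j | j | j <;>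
    simp [pOdd, FormCongruence.pPlus, Matrix.one_apply, map_ofNat, apply_ite f]

theorem pOdd_transpose : (pOdd m F)ᵀ = pOdd m F := by
  ext i j
  rcases i with i | i | i <;> rcases j with j | j | j <;>
    simp [pOdd, FormCongruence.pPlus, Matrix.one_apply, eq_comm]

theorem pOdd_ne_zero (h2 : (2 : F) ≠ 0) : pOdd m F ≠ 0 := fun h => by
  have := congrFun (congrFun h (.inl ())) (.inl ())
  simp [pOdd, h2] at this

theorem pOdd_det (h2 : (2 : F) ≠ 0) : (pOdd m F).det ≠ 0 := by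
  rw [FormCongruence.det_pOdd]
  exact mul_ne_zero h2 (pow_ne_zero _ (neg_ne_zero.2 one_ne_zero))

/-- Similarities in matrix terms. -/
theorem sim_iff (h2 : (2 : F) ≠ 0) (M : Matrix J J F) (c : F) :
    (∀ v, Qo (M *ᵥ v) = c * Qo v) ↔ Mᵀ * pOdd m F * M = c • pOdd m F := by
  have hQ : ∀ v, 2 * Qo v = v ⬝ᵥ (pOdd m F *ᵥ v) := fun v => by
    rw [← qOdd_polar, polar_self, two_smul, two_mul]
  constructor
  · intro h
    refine FormCongruence.ext_form fun u w => ?_
    rw [Matrix.smul_mulVec, dotProduct_smul, ← qOdd_polar, smul_eq_mul,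
      ← Matrix.mulVec_mulVec, ← Matrix.mulVec_mulVec, Matrix.dotProduct_mulVec u,
      Matrix.vecMul_transpose, ← qOdd_polar]
    simp only [polar, ← Matrix.mulVec_add, h]
    ring
  · intro h v
    refine mul_left_cancel₀ h2 ?_
    rw [hQ, mul_left_comm, hQ, ← smul_eq_mul c, ← dotProduct_smul, ← Matrix.smul_mulVec, ← h,
      ← Matrix.mulVec_mulVec, ← Matrix.mulVec_mulVec, Matrix.dotProduct_mulVec v Mᵀ,
      Matrix.vecMul_transpose]

theorem mem_sim_iff (h2 : (2 : F) ≠ 0) (g : GL J F) :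
    g ∈ Sim Qo ↔ ∃ c : F, c ≠ 0 ∧ g.1ᵀ * pOdd m F * g.1 = c • pOdd m F := by
  constructor
  · rintro ⟨c, hc⟩
    exact ⟨c, c.ne_zero, (sim_iff h2 _ _).1 hc⟩
  · rintro ⟨c, hc0, hc⟩
    exact ⟨Units.mk0 c hc0, (sim_iff h2 _ _).2 hc⟩

variable [Fintype F]

theorem card_J : Fintype.card J = 2 * m + 1 := by simp; omega

theorem five_le (hm : 3 ≤ m) : 5 ≤ Fintype.card J := by rw [card_J]; omega

theorem ker_iff (h2 : (2 : F) ≠ 0) (hm : 3 ≤ m) (g : Sim Qo) :
    conjP Qo g = 1 ↔ ∃ l : F, (g : GL J F).1 = l • (1 : Matrix J J F) := by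
  rw [← MonoidHom.mem_ker, ker_conjP _ (AutOrth45Forms.nondegenerate_qOdd h2 m) (five_le hm),
    mem_scalarSim]
  refine ⟨fun ⟨l, hl, _⟩ => ⟨l, hl⟩, fun ⟨l, hl⟩ => ⟨l, hl, fun h0 => ?_⟩⟩
  rw [h0, zero_smul] at hl
  exact (g : GL J F).ne_zero hl

theorem conjP_eq_iff (h2 : (2 : F) ≠ 0) (hm : 3 ≤ m) (g k : Sim Qo) :
    conjP Qo g = conjP Qo k ↔ ∃ l : F, (g : GL J F).1 = l • (k : GL J F).1 := by
  rw [← mul_inv_eq_one, ← map_inv, ← map_mul, ker_iff h2 hm]
  constructor
  · rintro ⟨l, hl⟩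
    refine ⟨l, ?_⟩
    have e : (g : GL J F).1 = ((g * k⁻¹ : Sim Qo) : GL J F).1 * (k : GL J F).1 := by
      rw [← Units.val_mul, ← Subgroup.coe_mul, inv_mul_cancel_right]
    rw [e, hl, Matrix.smul_mul, Matrix.one_mul]
  · rintro ⟨l, hl⟩
    refine ⟨l, ?_⟩
    rw [Subgroup.coe_mul, Units.val_mul, hl, Matrix.smul_mul, ← Units.val_mul, ← Subgroup.coe_mul,
      mul_inv_cancel]
    rfl

/-- Every inner-diagonal automorphism is induced by a special isometry. -/
theorem exists_special (h2 : (2 : F) ≠ 0) (g : Sim Qo) :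
    ∃ k : Sim Qo, conjP Qo k = conjP Qo g ∧ (k : GL J F).1ᵀ * pOdd m F * (k : GL J F).1 = pOdd m F ∧
      (k : GL J F).1.det = 1 := by
  have hodd : Odd (Fintype.card J) := ⟨m, card_J⟩
  obtain ⟨l, k, rfl⟩ := AutOrth45Odd.exists_scalar_orth (AutOrth45Forms.nondegenerate_qOdd h2 m) hodd g
  set K := OrthUnitarySimilar.ofOrth k with hK
  have hiso : (K : GL J F).1ᵀ * pOdd m F * (K : GL J F).1 = pOdd m F := by
    rw [← one_smul F (pOdd m F), Matrix.mul_smul, Matrix.smul_mul, ← (sim_iff h2 _ 1).1 ?_,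
      one_smul]
    intro v
    rw [hK, OrthUnitarySimilar.ofOrth_mulVec, map_orth k, one_mul]
  have hd : (K : GL J F).1.det * (K : GL J F).1.det = 1 := by
    have e := congrArg Matrix.det hiso
    rw [Matrix.det_mul, Matrix.det_mul, Matrix.det_transpose, mul_comm (K : GL J F).1.det (pOdd m F).det,
      mul_assoc, mul_eq_left₀ (pOdd_det h2)] at e
    exact e
  have hc : conjP Qo (OrthUnitarySimilar.scalarOf Qo l * K) = conjP Qo K := by
    rw [map_mul, AutOrth45Odd.scalarOf_act, one_mul]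
  rcases mul_self_eq_one_iff.1 hd with h1 | h1
  · exact ⟨K, hc.symm, hiso, h1⟩
  · refine ⟨OrthUnitarySimilar.scalarOf Qo (-1) * K, ?_, ?_, ?_⟩
    · rw [map_mul, AutOrth45Odd.scalarOf_act, one_mul, hc]
    · rw [Subgroup.coe_mul, Units.val_mul, OrthUnitarySimilar.scalarOf_coe]
      simp [hiso]
    · rw [Subgroup.coe_mul, Units.val_mul, OrthUnitarySimilar.scalarOf_coe, Units.val_neg,
        Units.val_one, Matrix.smul_mul, Matrix.one_mul, Matrix.det_smul, h1, hodd.neg_one_pow]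
      ring

theorem eq_one_of_isom (h2 : (2 : F) ≠ 0) {M : Matrix J J F} {l : F} (hM : M = l • 1)
    (hiso : Mᵀ * pOdd m F * M = pOdd m F) (hd : M.det = 1) : l = 1 := by
  rw [hM, Matrix.transpose_smul, Matrix.transpose_one, Matrix.smul_mul, Matrix.one_mul,
    Matrix.mul_smul, Matrix.mul_one, smul_smul] at hiso
  have hll : l * l = 1 := smul_left_injective F (pOdd_ne_zero h2)
    (hiso.trans (one_smul F (pOdd m F)).symm)
  rw [hM, Matrix.det_smul, Matrix.det_one, mul_one, card_J, pow_succ, pow_mul, pow_two, hll,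
    one_pow, one_mul] at hd
  exact hd

/-- Application of a field automorphism to similarities. -/
def gmS (h2 : (2 : F) ≠ 0) (σ : F ≃+* F) : Sim Qo →* Sim Qo :=
  MonoidHom.codRestrict ((Matrix.GeneralLinearGroup.map (σ : F →+* F)).comp (Sim Qo).subtype) _
    fun g => by
      obtain ⟨c, hc0, hc⟩ := (mem_sim_iff h2 _).1 g.2
      refine (mem_sim_iff h2 _).2 ⟨σ c, (map_ne_zero σ).2 hc0, ?_⟩
      show (((g : GL J F).1).map (σ : F →+* F))ᵀ * pOdd m F * ((g : GL J F).1).map (σ : F →+* F) = _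
      conv_lhs => rw [← pOdd_map (σ : F →+* F)]
      rw [← Matrix.transpose_map, ← Matrix.map_mul, ← Matrix.map_mul, hc]
      conv_rhs => rw [← pOdd_map (σ : F →+* F)]
      exact Matrix.map_smul' _ c _ (map_mul σ)

theorem gmS_coe (h2 : (2 : F) ≠ 0) (σ : F ≃+* F) (g : Sim Qo) :
    (gmS h2 σ g : GL J F).1 = (g : GL J F).1.map σ := rfl

variable (h : AutOrth45.Good (QuadClassify.qOdd m F))

theorem fd_mul_conjP (h2 : (2 : F) ≠ 0) (σ : F ≃+* F) (g : Sim Qo) :
    AutOrth45Api.fd h (AutOrth45Forms.inv_odd (F := F) m) σ * conjP Qo g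
      = conjP Qo (gmS h2 σ g) * AutOrth45Api.fd h (AutOrth45Forms.inv_odd (F := F) m) σ := by
  rw [fd_apply, conjP_eq h, semiAut_mul]
  obtain ⟨g', hg', e⟩ := semiAut_decomp h (AutOrth45Forms.inv_odd (F := F) m)
    (pair_mul (field_pair (AutOrth45Forms.inv_odd (F := F) m) σ) (sim_pair g))
  rw [e, fd_apply]
  have e1 : g' = gmS h2 σ g := Subtype.ext (by rw [hg', one_mul]; rfl)
  rw [e1]
  congr 1

/-- The twisted product. -/
def ntwS (h2 : (2 : F) ≠ 0) (σ : F ≃+* F) (g : Sim Qo) : ℕ → Sim Qo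
  | 0 => 1
  | k + 1 => g * gmS h2 σ (ntwS h2 σ g k)

theorem pow_conjP_fd (h2 : (2 : F) ≠ 0) (σ : F ≃+* F) (g : Sim Qo) (k : ℕ) :
    (conjP Qo g * AutOrth45Api.fd h (AutOrth45Forms.inv_odd (F := F) m) σ) ^ k
      = conjP Qo (ntwS h2 σ g k) * AutOrth45Api.fd h (AutOrth45Forms.inv_odd (F := F) m) (σ ^ k) := by
  induction k with
  | zero => simp [ntwS]
  | succ k ih =>
    rw [pow_succ', ih, ntwS, map_mul, pow_succ', map_mul (AutOrth45Api.fd h (AutOrth45Forms.inv_odd (F := F) m))]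
    calc (conjP Qo g * AutOrth45Api.fd h (AutOrth45Forms.inv_odd (F := F) m) σ)
          * (conjP Qo (ntwS h2 σ g k) * AutOrth45Api.fd h (AutOrth45Forms.inv_odd (F := F) m) (σ ^ k))
        = conjP Qo g * (AutOrth45Api.fd h (AutOrth45Forms.inv_odd (F := F) m) σ * conjP Qo (ntwS h2 σ g k))
            * AutOrth45Api.fd h (AutOrth45Forms.inv_odd (F := F) m) (σ ^ k) := by simp only [mul_assoc]
      _ = _ := by rw [fd_mul_conjP h h2]; simp only [mul_assoc]

theorem ntwS_isom (h2 : (2 : F) ≠ 0) (σ : F ≃+* F) {g : Sim Qo}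
    (hg : (g : GL J F).1ᵀ * pOdd m F * (g : GL J F).1 = pOdd m F) (hd : (g : GL J F).1.det = 1)
    (k : ℕ) :
    (ntwS h2 σ g k : GL J F).1ᵀ * pOdd m F * (ntwS h2 σ g k : GL J F).1 = pOdd m F ∧
      (ntwS h2 σ g k : GL J F).1.det = 1 := by
  induction k with
  | zero =>
    show (1 : Matrix J J F)ᵀ * pOdd m F * 1 = _ ∧ (1 : Matrix J J F).det = 1
    simp
  | succ k ih =>
    have hσ : (gmS h2 σ (ntwS h2 σ g k) : GL J F).1ᵀ * pOdd m F
        * (gmS h2 σ (ntwS h2 σ g k) : GL J F).1 = pOdd m F := by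
      rw [gmS_coe, ← RingEquiv.coe_toRingHom]
      conv_lhs => rw [← pOdd_map (σ : F →+* F)]
      rw [← Matrix.transpose_map, ← Matrix.map_mul, ← Matrix.map_mul, ih.1, pOdd_map]
    rw [ntwS, Subgroup.coe_mul, Units.val_mul]
    refine ⟨?_, ?_⟩
    · rw [Matrix.transpose_mul, show ∀ A B C D E : Matrix J J F, A * B * C * (D * E) = A * (B * C * D) * E
        from fun A B C D E => by simp only [Matrix.mul_assoc], hg, hσ]
    · rw [Matrix.det_mul, hd, gmS_coe, one_mul]
      exact ((σ : F →+* F).map_det _).symm.trans (by rw [ih.2, map_one])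

/-- Hilbert 90 for any index type. -/
theorem hilbert90' (σ : F ≃+* F) (a : GL J F)
    (hσ : (fun b => a * Matrix.GeneralLinearGroup.map (σ : F →+* F) b)^[orderOf σ] 1 = 1) :
    ∃ b : GL J F, a.1 * b.1.map σ = b.1 := by
  let e : J ≃ Fin (2 * m + 1) := Fintype.equivFinOfCardEq card_J
  let E : GL J F ≃* GL (Fin (2 * m + 1)) F :=
    Units.mapEquiv (Matrix.reindexAlgEquiv F F e).toMulEquiv
  have hE : ∀ b : GL J F, E (Matrix.GeneralLinearGroup.map (σ : F →+* F) b)
      = GaloisDescentGL.gmap σ (E b) := fun b => Units.ext (by ext i j; rfl)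
  have hit : ∀ k, GaloisDescentGL.ntw σ (E a) k
      = E ((fun b => a * Matrix.GeneralLinearGroup.map (σ : F →+* F) b)^[k] 1) := by
    intro k
    induction k with
    | zero => simp [GaloisDescentGL.ntw]
    | succ k ih => rw [GaloisDescentGL.ntw, ih, Function.iterate_succ_apply', map_mul, hE]
  obtain ⟨b, hb⟩ := GaloisDescentGL.hilbert90 σ (E a) (by rw [hit, hσ, map_one])
  refine ⟨E.symm b, ?_⟩
  have e1 : a * Matrix.GeneralLinearGroup.map (σ : F →+* F) (E.symm b) = E.symm b := by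
    apply E.injective
    rw [map_mul, hE, E.apply_symm_apply, hb, inv_mul_cancel_right]
  exact congrArg Units.val e1

/-- An element of the coset of a field automorphism with the same order is conjugate to it. -/
theorem field_coset {F₀ : Type*} [Field F₀] [Fintype F₀] (h2 : (2 : F) ≠ 0) (hm : 3 ≤ m)
    (σ : F ≃+* F) (emb : F₀ →+* F) (he : ∀ x, σ x = x ↔ x ∈ emb.range) (g : Sim Qo)
    (hx : (conjP Qo g * AutOrth45Api.fd h (AutOrth45Forms.inv_odd (F := F) m) σ) ^ orderOf σ = 1) :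
    ∃ B : Sim Qo, conjP Qo g * AutOrth45Api.fd h (AutOrth45Forms.inv_odd (F := F) m) σ
      = conjP Qo B * AutOrth45Api.fd h (AutOrth45Forms.inv_odd (F := F) m) σ * (conjP Qo B)⁻¹ := by
  classical
  obtain ⟨K, hK, hiso, hd⟩ := exists_special h2 g
  rw [← hK] at hx ⊢
  rw [pow_conjP_fd h h2, pow_orderOf_eq_one, map_one, mul_one, ker_iff h2 hm] at hx
  obtain ⟨l, hl⟩ := hx
  obtain ⟨hi, hdn⟩ := ntwS_isom h2 σ hiso hd (orderOf σ)
  rw [eq_one_of_isom h2 hl hi hdn, one_smul] at hl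
  have hit : ∀ k, (fun b => (K : GL J F) * Matrix.GeneralLinearGroup.map (σ : F →+* F) b)^[k] 1
      = (ntwS h2 σ K k : GL J F) := by
    intro k
    induction k with
    | zero => rfl
    | succ k ih => rw [Function.iterate_succ_apply', ih]; rfl
  obtain ⟨b, hb⟩ := hilbert90' σ (K : GL J F) (by rw [hit]; exact Units.ext hl)
  set N := b.1ᵀ * pOdd m F * b.1 with hN
  have hNσ : N.map σ = N := by
    have e : b.1 = (K : GL J F).1 * b.1.map (σ : F →+* F) := hb.symm
    conv_rhs => rw [hN, e, Matrix.transpose_mul,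
      show ∀ A B C D E : Matrix J J F, A * B * C * (D * E) = A * (B * C * D) * E
        from fun A B C D E => by simp only [Matrix.mul_assoc], hiso]
    rw [hN, ← RingEquiv.coe_toRingHom, Matrix.map_mul, Matrix.map_mul, pOdd_map, Matrix.transpose_map]
  choose A₀ hA₀ using fun i j => (he _).1 (congrFun (congrFun hNσ i) j)
  let e : J ≃ Fin (2 * m + 1) := Fintype.equivFinOfCardEq card_J
  let A : Matrix (Fin (2 * m + 1)) (Fin (2 * m + 1)) F₀ := Matrix.of fun i j => A₀ (e.symm i) (e.symm j)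
  have hA : A.map emb = N.submatrix e.symm e.symm := by ext i j; exact hA₀ _ _
  have h20 : (2 : F₀) ≠ 0 := fun h0 => h2 (by rw [← map_ofNat emb 2, h0, map_zero])
  have hAT : Aᵀ = A := Matrix.map_injective emb.injective (by
    show Aᵀ.map emb = A.map emb
    rw [Matrix.transpose_map, hA, Matrix.transpose_submatrix, hN, Matrix.transpose_mul,
      Matrix.transpose_mul, Matrix.transpose_transpose, pOdd_transpose, Matrix.mul_assoc])
  have hAd : A.det ≠ 0 := fun h0 => by
    have e1 : (A.map emb).det = 0 := ((emb.map_det A).symm).trans (by rw [h0, map_zero])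
    rw [hA, Matrix.det_submatrix_equiv_self, hN, Matrix.det_mul, Matrix.det_mul, Matrix.det_transpose] at e1
    simp [pOdd_det h2, ((Matrix.isUnit_iff_isUnit_det _).1 b.isUnit).ne_zero] at e1
  obtain ⟨u, hu, T, T', hT, hT', hAeq⟩ := FormCongruence.classify_odd h20 rfl hAT hAd
  let Bm : Matrix J J F := b.1.submatrix id e.symm * T'.map emb
  have hbm : (b.1.submatrix id e.symm)ᵀ * pOdd m F * b.1.submatrix id e.symm = A.map emb := by
    rw [hA, hN]
    ext i j
    simp [Matrix.mul_apply]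
  have hBm : Bmᵀ * pOdd m F * Bm = emb u • pOdd m F := by
    show (b.1.submatrix id e.symm * T'.map emb)ᵀ * pOdd m F * (b.1.submatrix id e.symm * T'.map emb) = _
    rw [Matrix.transpose_mul, show (T'.map emb)ᵀ * (b.1.submatrix id e.symm)ᵀ * pOdd m F
        * (b.1.submatrix id e.symm * T'.map emb)
      = (T'.map emb)ᵀ * ((b.1.submatrix id e.symm)ᵀ * pOdd m F * b.1.submatrix id e.symm) * T'.map emb
        from by simp only [Matrix.mul_assoc], hbm, ← Matrix.transpose_map, ← Matrix.map_mul, ← Matrix.map_mul]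
    rw [hAeq, show T'ᵀ * (Tᵀ * (u • pOdd m F₀) * T) * T' = u • pOdd m F₀ by
      rw [Matrix.mul_assoc T'ᵀ, Matrix.mul_assoc _ T T', hT, Matrix.mul_one,
        ← Matrix.mul_assoc, ← Matrix.transpose_mul, hT, Matrix.transpose_one, Matrix.one_mul],
      Matrix.map_smul' _ _ _ (map_mul emb), pOdd_map]
  have hBd : Bm.det ≠ 0 := fun h0 => by
    have e1 := congrArg Matrix.det hBm
    rw [Matrix.det_mul, Matrix.det_mul, h0, mul_zero, Matrix.det_smul] at e1
    exact mul_ne_zero (pow_ne_zero _ ((map_ne_zero emb).2 hu)) (pOdd_det h2) e1.symm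
  let B : Sim Qo := ⟨Matrix.GeneralLinearGroup.mkOfDetNeZero Bm hBd,
    (mem_sim_iff h2 _).2 ⟨emb u, (map_ne_zero emb).2 hu, hBm⟩⟩
  have hKB : (K : GL J F).1 * Bm.map σ = Bm := by
    show _ * (b.1.submatrix id e.symm * T'.map emb).map σ = _
    rw [← RingEquiv.coe_toRingHom, Matrix.map_mul, ← Matrix.mul_assoc]
    congr 1
    · ext i j
      exact congrFun (congrFun hb i) (e.symm j)
    · ext i j
      exact (he _).2 ⟨_, rfl⟩
  refine ⟨B, ?_⟩
  have e1 : K * gmS h2 σ B = B := Subtype.ext (Units.ext hKB)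
  rw [eq_mul_inv_iff_mul_eq, mul_assoc, fd_mul_conjP h h2, ← mul_assoc, ← map_mul, e1]

/-- Inner-diagonal automorphisms centralising a field automorphism are rational. -/
theorem rational_of_commute {F₀ : Type*} [Field F₀] (h2 : (2 : F) ≠ 0) (hm : 3 ≤ m)
    (σ : F ≃+* F) (emb : F₀ →+* F) (he : ∀ x, σ x = x ↔ x ∈ emb.range) (g : Sim Qo)
    (hg : Commute (conjP Qo g) (AutOrth45Api.fd h (AutOrth45Forms.inv_odd (F := F) m) σ)) :
    ∃ (K : Sim Qo) (K₀ : Matrix J J F₀), conjP Qo K = conjP Qo g ∧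
      (K : GL J F).1ᵀ * pOdd m F * (K : GL J F).1 = pOdd m F ∧ (K : GL J F).1.det = 1 ∧
      K₀.map emb = (K : GL J F).1 := by
  obtain ⟨K, hK, hiso, hd⟩ := exists_special h2 g
  rw [← hK] at hg
  have e := hg.eq
  rw [fd_mul_conjP h h2, mul_left_inj, conjP_eq_iff h2 hm, gmS_coe] at e
  obtain ⟨l, hl⟩ := e
  have hl' : l = 1 := by
    have hσiso : ((K : GL J F).1.map σ)ᵀ * pOdd m F * (K : GL J F).1.map σ = pOdd m F := by
      rw [← RingEquiv.coe_toRingHom]
      conv_lhs => rw [← pOdd_map (σ : F →+* F)]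
      rw [← Matrix.transpose_map, ← Matrix.map_mul, ← Matrix.map_mul, hiso, pOdd_map]
    have hσd : ((K : GL J F).1.map σ).det = 1 :=
      ((σ : F →+* F).map_det _).symm.trans (by rw [hd, map_one])
    rw [hl, Matrix.transpose_smul, Matrix.smul_mul, Matrix.smul_mul, Matrix.mul_smul, hσiso,
      smul_smul] at hiso
    have hll : l * l = 1 :=
      smul_left_injective F (pOdd_ne_zero h2) (hiso.trans (one_smul F (pOdd m F)).symm)
    rw [hl, Matrix.det_smul, hσd, mul_one, card_J, pow_succ, pow_mul, pow_two, hll, one_pow,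
      one_mul] at hd
    exact hd
  rw [hl', one_smul] at hl
  choose K₀ hK₀ using fun i j => (he _).1 (congrFun (congrFun hl.symm i) j)
  exact ⟨K, Matrix.of K₀, hK, hiso, hd, by ext i j; exact hK₀ i j⟩

end Cfsg.Agent.AutOrthOdd52Field
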