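import Mathlib
import Cfsg.Agent.Lib.OrthUnitarySimple
import Cfsg.Agent.Lib.OrthUnitaryStd

/-!
Simplicity of the Prelude's `POmega` in dimension at least five.
-/

set_option autoImplicit false

namespace Cfsg.Agent.OrthUnitarySimpleStd

open QuadraticMap
open Cfsg.Agent.OrthUnitaryQuad
open Cfsg.Agent.OrthUnitarySimple
open Cfsg.Agent.OrthUnitaryStd

theorem isSimpleGroup_POmega {F W : Type*} [Field F] [Fintype F] [AddCommGroup W] [Module F W]
    [FiniteDimensional F W] {ι : Type} [Fintype ι] [DecidableEq ι] (Q : QuadraticForm F W)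
    (f : (ι → F) → F) (e : W ≃ₗ[F] (ι → F)) (h : ∀ x, f (e x) = Q x)
    (hQ : (polarBilin Q).Nondegenerate) (hn : 5 ≤ Module.finrank F W) :
    IsSimpleGroup (POmega F f) := by
  let ψ : Omega F f ≃* sGroup Q :=
    (omegaEquiv Q f e h).trans (MulEquiv.subgroupCongr (commutator_eq_sGroup hQ hn))
  have hc : (Subgroup.center (Omega F f)).map ψ.toMonoidHom = Subgroup.center (sGroup Q) := by
    ext x
    constructor
    · rintro ⟨y, hy, rfl⟩
      rw [Subgroup.mem_center_iff]
      intro z
      obtain ⟨z, rfl⟩ := ψ.surjective z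
      show ψ z * ψ y = ψ y * ψ z
      rw [← map_mul, ← map_mul, Subgroup.mem_center_iff.1 hy z]
    · intro hx
      refine ⟨ψ.symm x, Subgroup.mem_center_iff.2 fun z => ψ.injective ?_, ψ.apply_symm_apply x⟩
      rw [map_mul, map_mul, ψ.apply_symm_apply, Subgroup.mem_center_iff.1 hx (ψ z)]
  have e' : POmega F f ≃* sGroup Q ⧸ Subgroup.center (sGroup Q) :=
    QuotientGroup.congr _ _ ψ hc
  haveI := isSimpleGroup_sGroup hQ hn
  exact e'.isSimpleGroup

end Cfsg.Agent.OrthUnitarySimpleStd
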