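import Mathlib
import Cfsg.Prelude.Def_Solvable
import Cfsg.Prelude.Def_LieTypeDatum
import Cfsg.Agent.Lib.AutOrthOdd52Field
import Cfsg.Agent.Lib.BalanceCriterion
import Cfsg.Agent.Lib.AutPSpBalance
import Cfsg.Agent.S0292
import Cfsg.Agent.S0295
import Cfsg.Agent.Lib.OmegaStd

/-!
The core of the centraliser of a field automorphism of prime order of an odd-dimensional orthogonal group.
-/

set_option autoImplicit false
set_option linter.unusedSectionVars false

namespace Cfsg.Agent.AutOrthOdd52Balance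

open QuadraticMap
open scoped Matrix MatrixGroups
open Cfsg.Agent.OrthUnitaryQuad
open Cfsg.Agent.OrthUnitaryPrelude
open Cfsg.Agent.OrthUnitarySimAut
open Cfsg.Agent.AutOrth45Api
open Cfsg.Agent.AutOrthOdd52Field
open Cfsg.Agent.FormCongruence (pOdd)

variable {F F₀ : Type*} [Field F] [Field F₀] {m : ℕ}

local notation "J" => Unit ⊕ (Fin m ⊕ Fin m)
local notation "Qo" => QuadClassify.qOdd m F
local notation "Q₀" => QuadClassify.qOdd m F₀

/-- The operator of a pair of vectors. -/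
def nilM {L : Type*} [Field L] (P : Matrix J J L) (a b : J → L) : Matrix J J L :=
  Matrix.vecMulVec b (P *ᵥ a) - Matrix.vecMulVec a (P *ᵥ b)

theorem nilM_map {L : Type*} [Field L] {L' : Type*} [Field L'] (f : L →+* L') (a b : J → L) :
    (nilM (pOdd m L) a b).map f = nilM (pOdd m L') (f ∘ a) (f ∘ b) := by
  ext i j
  simp only [nilM, Matrix.map_apply, Matrix.sub_apply, Matrix.vecMulVec_apply, map_sub, map_mul,
    Function.comp_apply, f.map_mulVec, pOdd_map]

theorem nilM_mulVec (a b v : J → F) :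
    nilM (pOdd m F) a b *ᵥ v = polar Qo a v • b - polar Qo b v • a := by
  rw [nilM, Matrix.sub_mulVec, Matrix.vecMulVec_mulVec, Matrix.vecMulVec_mulVec,
    op_smul_eq_smul, op_smul_eq_smul]
  congr 2 <;>
    rw [polar_comm, qOdd_polar, dotProduct_comm]

theorem nilM_sq (h2 : (2 : F) ≠ 0) {a b : J → F} (ha : Qo a = 0) (hb : Qo b = 0)
    (hab : polar Qo a b = 0) : nilM (pOdd m F) a b * nilM (pOdd m F) a b = 0 := by
  refine Matrix.ext_iff_mulVec.2 fun v => ?_
  rw [← Matrix.mulVec_mulVec, nilM_mulVec (v := v), Matrix.mulVec_sub, Matrix.mulVec_smul,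
    Matrix.mulVec_smul, nilM_mulVec, nilM_mulVec, Matrix.zero_mulVec, polar_self_mul, polar_self_mul,
    ha, hb, hab, polar_comm Qo b a, hab]
  simp

/-- A unit conjugating a square-zero perturbation of `1` to a scalar multiple of another. -/
theorem eq_of_twist {g N₁ N₂ : Matrix J J F} {l : F} (hg : IsUnit g) (h₁ : N₁ * N₁ = 0)
    (h₂ : N₂ * N₂ = 0) (he : g * (1 + N₁) = l • ((1 + N₂) * g)) : g * N₁ = N₂ * g := by
  set X := (l - 1) • (1 : Matrix J J F) + l • N₂ with hX
  have hgX : g * N₁ = X * g := by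
    have : g * N₁ = g * (1 + N₁) - g := by rw [Matrix.mul_add, Matrix.mul_one, add_sub_cancel_left]
    rw [this, he, hX, Matrix.add_mul, Matrix.add_mul, Matrix.smul_mul, Matrix.smul_mul,
      Matrix.one_mul, smul_add, sub_smul, one_smul]
    abel
  have hXX : X * X = 0 := by
    refine hg.mul_left_inj.1 ?_
    rw [Matrix.zero_mul, Matrix.mul_assoc, ← hgX, ← Matrix.mul_assoc, ← hgX, Matrix.mul_assoc, h₁,
      Matrix.mul_zero]
  have hl : l = 1 := by
    by_contra hne
    have h0 : (l - 1) ≠ 0 := sub_ne_zero.2 hne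
    have e1 : X * X * N₂ = ((l - 1) * (l - 1)) • N₂ := by
      simp [hX, Matrix.add_mul, Matrix.mul_add, Matrix.mul_assoc, h₂, smul_smul]
    rw [hXX, Matrix.zero_mul, eq_comm, smul_eq_zero, or_iff_right (mul_ne_zero h0 h0)] at e1
    rw [hX, e1, smul_zero, add_zero, Matrix.smul_mul, Matrix.one_mul, smul_smul, smul_eq_zero,
      or_iff_right (mul_ne_zero h0 h0)] at hXX
    exact one_ne_zero hXX
  rw [hgX, hX, hl, sub_self, zero_smul, zero_add, one_smul]

/-! ### The basis -/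

/-- A standard basis vector. -/
def bv (L : Type*) [Field L] (j : J) : J → L := Pi.single j 1

theorem bv_map {L : Type*} [Field L] {L' : Type*} [Field L'] (f : L →+* L') (j : J) :
    f ∘ bv L (m := m) j = bv L' j := by
  funext i
  rcases eq_or_ne i j with rfl | hij <;> simp [bv, *]

theorem polar_bv (u : J → F) (j : J) : polar Qo (bv F j) u = (pOdd m F *ᵥ u) j := by
  rw [qOdd_polar, bv, single_one_dotProduct]

theorem polar_zb (u : J → F) : polar Qo (bv F (.inl ())) u = 2 * u (.inl ()) := by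
  rw [polar_bv]
  simp [pOdd, Matrix.mulVec, dotProduct]

theorem polar_eb (u : J → F) (i : Fin m) :
    polar Qo (bv F (.inr (.inl i))) u = u (.inr (.inr i)) := by
  rw [polar_bv]
  simp [pOdd, FormCongruence.pPlus, Matrix.mulVec, dotProduct, Matrix.one_apply]

theorem polar_fb (u : J → F) (i : Fin m) :
    polar Qo (bv F (.inr (.inr i))) u = u (.inr (.inl i)) := by
  rw [polar_bv]
  simp [pOdd, FormCongruence.pPlus, Matrix.mulVec, dotProduct, Matrix.one_apply]

theorem q_eb (i : Fin m) : Qo (bv F (.inr (.inl i))) = 0 := by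
  simp [QuadClassify.qOdd_apply, Cfsg.quadFormOdd, bv]

theorem q_fb (i : Fin m) : Qo (bv F (.inr (.inr i))) = 0 := by
  simp [QuadClassify.qOdd_apply, Cfsg.quadFormOdd, bv]

theorem polar_smul_eb (x : F) (u : J → F) (i : Fin m) :
    polar Qo (x • bv F (.inr (.inl i))) u = x * u (.inr (.inr i)) := by
  rw [polar_smul_left, polar_eb, smul_eq_mul]

/-- The auxiliary singular vector. -/
def wv (L : Type*) [Field L] (i : Fin m) : J → L :=
  bv L (.inl ()) + bv L (.inr (.inl i)) - bv L (.inr (.inr i))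

theorem wv_map {L : Type*} [Field L] {L' : Type*} [Field L'] (f : L →+* L') (i : Fin m) :
    f ∘ wv L (m := m) i = wv L' i := by
  funext j
  simp only [wv, Function.comp_apply, Pi.add_apply, Pi.sub_apply, map_sub, map_add, ← bv_map f]

theorem q_wv (i : Fin m) : Qo (wv F i) = 0 := by
  simp [QuadClassify.qOdd_apply, Cfsg.quadFormOdd, wv, bv, Pi.single_apply, Finset.sum_ite_eq']

theorem polar_wv (u : J → F) (i : Fin m) :
    polar Qo (wv F i) u = 2 * u (.inl ()) + u (.inr (.inr i)) - u (.inr (.inl i)) := by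
  rw [wv, polar_sub_left, polar_add_left, polar_zb, polar_eb, polar_fb]

section Rigid

variable {τ : F ≃+* F} (emb : F₀ →+* F)

/-- A twisted element commuting with the rational root elements is scalar and fixes the smaller field. -/
theorem rigid (hm : 2 ≤ m) (g : GL J F)
    (H : ∀ a b : J → F₀, Q₀ a = 0 → Q₀ b = 0 → polar Q₀ a b = 0 →
      g.1 * nilM (pOdd m F) (τ ∘ emb ∘ a) (τ ∘ emb ∘ b) = nilM (pOdd m F) (emb ∘ a) (emb ∘ b) * g.1) :
    (∀ x, τ (emb x) = emb x) ∧ ∃ c : F, g.1 = c • 1 := by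
  classical
  set M := g.1 with hM
  have happ : ∀ (a b : J → F) (a' b' : J → F) (v : J → F),
      M * nilM (pOdd m F) a' b' = nilM (pOdd m F) a b * M →
      polar Qo a' v • (M *ᵥ b') - polar Qo b' v • (M *ᵥ a')
        = polar Qo a (M *ᵥ v) • b - polar Qo b (M *ᵥ v) • a := by
    intro a b a' b' v e
    have e2 := congrArg (fun X : Matrix J J F => X *ᵥ v) e
    simp only [← Matrix.mulVec_mulVec, nilM_mulVec, Matrix.mulVec_sub, Matrix.mulVec_smul] at e2
    exact e2
  have hb : ∀ j : J, τ ∘ emb ∘ bv F₀ (m := m) j = bv F j := fun j => by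
    rw [bv_map]; exact bv_map (τ : F →+* F) j
  have hbb : ∀ j : J, emb ∘ bv F₀ (m := m) j = bv F j := fun j => bv_map emb j
  have hpee : ∀ i j : Fin m, polar Q₀ (bv F₀ (.inr (.inl i))) (bv F₀ (.inr (.inl j))) = 0 :=
    fun i j => by rw [polar_eb]; simp [bv]
  have hpff : ∀ i j : Fin m, polar Q₀ (bv F₀ (.inr (.inr i))) (bv F₀ (.inr (.inr j))) = 0 :=
    fun i j => by rw [polar_fb]; simp [bv]
  have hee : ∀ (i j : Fin m) (v : J → F),
      v (.inr (.inr i)) • (M *ᵥ bv F (.inr (.inl j))) - v (.inr (.inr j)) • (M *ᵥ bv F (.inr (.inl i)))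
        = (M *ᵥ v) (.inr (.inr i)) • bv F (.inr (.inl j))
          - (M *ᵥ v) (.inr (.inr j)) • bv F (.inr (.inl i)) := by
    intro i j v
    have e := H _ _ (q_eb i) (q_eb j) (hpee i j)
    rw [hb, hb, hbb, hbb] at e
    have e2 := happ _ _ _ _ v e
    rwa [polar_eb, polar_eb, polar_eb, polar_eb] at e2
  have hff : ∀ (i j : Fin m) (v : J → F),
      v (.inr (.inl i)) • (M *ᵥ bv F (.inr (.inr j))) - v (.inr (.inl j)) • (M *ᵥ bv F (.inr (.inr i)))
        = (M *ᵥ v) (.inr (.inl i)) • bv F (.inr (.inr j))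
          - (M *ᵥ v) (.inr (.inl j)) • bv F (.inr (.inr i)) := by
    intro i j v
    have e := H _ _ (q_fb i) (q_fb j) (hpff i j)
    rw [hb, hb, hbb, hbb] at e
    have e2 := happ _ _ _ _ v e
    rwa [polar_fb, polar_fb, polar_fb, polar_fb] at e2
  have hcol : ∀ t j : J, (M *ᵥ bv F j) t = M t j := fun t j => by
    rw [bv, Matrix.mulVec_single_one]; rfl
  have hex : ∀ i : Fin m, ∃ j, j ≠ i := fun i => by
    haveI : Nontrivial (Fin m) := Fintype.one_lt_card_iff_nontrivial.1 (by rw [Fintype.card_fin]; omega)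
    exact exists_ne i
  have hwe : ∀ (i j : Fin m), i ≠ j → ∀ v : J → F,
      polar Qo (wv F j) v • (M *ᵥ bv F (.inr (.inl i))) - v (.inr (.inr i)) • (M *ᵥ wv F j)
        = polar Qo (wv F j) (M *ᵥ v) • bv F (.inr (.inl i)) - (M *ᵥ v) (.inr (.inr i)) • wv F j := by
    intro i j hij v
    have hq : polar Q₀ (wv F₀ j) (bv F₀ (.inr (.inl i))) = 0 := by
      rw [polar_wv]; simp [bv, hij.symm]
    have e := H _ _ (q_wv j) (q_eb i) hq
    rw [hb, hbb, wv_map, show (τ : F → F) ∘ wv F j = wv F j from wv_map (τ : F →+* F) j] at e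
    have e2 := happ _ _ _ _ v e
    rwa [polar_eb, polar_eb] at e2
  -- the columns of the hyperbolic vectors are diagonal
  have hde : ∀ (i : Fin m) (t : J), t ≠ .inr (.inl i) → M t (.inr (.inl i)) = 0 := by
    intro i t ht
    obtain ⟨j, hji⟩ := hex i
    have h1 : M *ᵥ bv F (.inr (.inl i))
        = (M *ᵥ bv F (.inr (.inr j))) (.inr (.inr j)) • bv F (.inr (.inl i))
          - (M *ᵥ bv F (.inr (.inr j))) (.inr (.inr i)) • bv F (.inr (.inl j)) := by
      have e := hee j i (bv F (.inr (.inr j)))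
      simpa [bv, hji, hji.symm] using e
    have h2 := congrFun (hwe i j hji.symm (bv F (.inr (.inr j)))) (.inl ())
    have h0 := congrFun h1 (.inl ())
    rw [polar_wv] at h2
    simp [hcol, bv, wv, hji, hji.symm] at h2 h0
    rw [h0, zero_eq_neg] at h2
    have ht' := congrFun h1 t
    simp [hcol, bv, ht, h2] at ht'
    exact ht'
  have hdf : ∀ (i : Fin m) (t : J), t ≠ .inr (.inr i) → M t (.inr (.inr i)) = 0 := by
    intro i t ht
    obtain ⟨j, hji⟩ := hex i
    have h1 : M *ᵥ bv F (.inr (.inr i))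
        = (M *ᵥ bv F (.inr (.inl j))) (.inr (.inl j)) • bv F (.inr (.inr i))
          - (M *ᵥ bv F (.inr (.inl j))) (.inr (.inl i)) • bv F (.inr (.inr j)) := by
      have e := hff j i (bv F (.inr (.inl j)))
      simpa [bv, hji, hji.symm] using e
    have h2 := congrFun h1 t
    have h3 : M (.inr (.inl i)) (.inr (.inl j)) = 0 := hde j _ (by simp [hji.symm])
    simp [hcol, bv, ht, h3] at h2
    exact h2
  set de : Fin m → F := fun i => M (.inr (.inl i)) (.inr (.inl i)) with hde'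
  set df : Fin m → F := fun i => M (.inr (.inr i)) (.inr (.inr i)) with hdf'
  have hMe : ∀ i, M *ᵥ bv F (.inr (.inl i)) = de i • bv F (.inr (.inl i)) := fun i => by
    funext t
    rw [hcol]
    rcases eq_or_ne t (.inr (.inl i)) with rfl | ht
    · simp [bv, hde']
    · simp [bv, ht, hde i t ht]
  have hMf : ∀ i, M *ᵥ bv F (.inr (.inr i)) = df i • bv F (.inr (.inr i)) := fun i => by
    funext t
    rw [hcol]
    rcases eq_or_ne t (.inr (.inr i)) with rfl | ht
    · simp [bv, hdf']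
    · simp [bv, ht, hdf i t ht]
  have hef : ∀ i j : Fin m, i ≠ j → de i = df j := by
    intro i j hij
    have e := congrFun (hee j i (bv F (.inr (.inr j)))) (.inr (.inl i))
    rw [hMf, hMe, hMe] at e
    simp [bv, hij, hij.symm] at e
    exact e
  let i₀ : Fin m := ⟨0, by omega⟩
  let i₁ : Fin m := ⟨1, by omega⟩
  have h01 : i₀ ≠ i₁ := by simp [i₀, i₁]
  -- the remaining column
  have hMw : ∀ i j : Fin m, j ≠ i → M *ᵥ wv F i = df j • wv F i := by
    intro i j hji
    have e2 := hwe j i hji (bv F (.inr (.inr j)))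
    rw [hMf, polar_smul_right, polar_wv] at e2
    simp [bv, hji, hji.symm] at e2
    simpa [bv] using e2
  have hMz : ∀ i j : Fin m, j ≠ i →
      M *ᵥ bv F (.inl ()) = df j • bv F (.inl ()) ∧ df i = df j ∧ de i = df j := by
    intro i j hji
    have e : bv F (.inl ()) = wv F i - bv F (.inr (.inl i)) + bv F (.inr (.inr i)) := by
      simp [wv]; abel
    have hc2 : M *ᵥ bv F (.inl ()) = df j • bv F (.inl ()) + (df i - df j) • bv F (.inr (.inr i)) := by
      conv_lhs => rw [e, Matrix.mulVec_add, Matrix.mulVec_sub, hMw i j hji, hMe, hMf, hef i j hji.symm]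
      rw [e]; module
    have hdd : df i = df j := by
      have e2 := congrFun (hwe j i hji (bv F (.inl ()))) (.inr (.inl j))
      rw [hMe, hMw i j hji, polar_wv, polar_wv, hc2, hef j i hji] at e2
      simp [bv, wv, hji, hji.symm] at e2
      linear_combination e2
    refine ⟨?_, hdd, hef i j hji.symm⟩
    rw [hc2, hdd, sub_self, zero_smul, add_zero]
  set c := df i₁ with hc
  have hdall : ∀ i, df i = c := fun i => by
    rcases eq_or_ne i i₁ with rfl | hi
    · rfl
    · exact (hMz i i₁ hi.symm).2.1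
  have heall : ∀ i, de i = c := fun i => by
    obtain ⟨j, hj⟩ := hex i
    rw [(hMz i j hj).2.2, hdall]
  have hscal : M = c • 1 := by
    refine Matrix.ext_of_mulVec_single fun j => ?_
    show M *ᵥ bv F j = (c • (1 : Matrix J J F)) *ᵥ bv F j
    rw [Matrix.smul_mulVec, Matrix.one_mulVec]
    rcases j with ⟨⟩ | i | i
    · exact (hMz i₀ i₁ h01.symm).1
    · rw [hMe, heall]
    · rw [hMf, hdall]
  refine ⟨fun x => ?_, c, hscal⟩
  have hc0 : c ≠ 0 := fun h0 => g.ne_zero (by rw [← hM, hscal, h0, zero_smul])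
  have hq : polar Q₀ (x • bv F₀ (.inr (.inl i₀))) (bv F₀ (.inr (.inl i₁))) = 0 := by
    rw [polar_smul_left, hpee, smul_zero]
  have e := H _ _ (by rw [QuadraticMap.map_smul, q_eb, smul_zero]) (q_eb i₁) hq
  have hx : ∀ f : F₀ →+* F, f ∘ (x • bv F₀ (.inr (.inl i₀)) : J → F₀)
      = f x • bv F (.inr (.inl i₀)) := fun f => by
    funext t
    simp [← congrFun (bv_map f (.inr (.inl i₀))) t]
  rw [hb, hbb, hx, show (τ : F → F) ∘ (emb x • bv F (.inr (.inl i₀)) : J → F)
      = τ (emb x) • bv F (.inr (.inl i₀)) from funext fun t => by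
        rcases eq_or_ne t (.inr (.inl i₀)) with rfl | ht <;> simp [bv, *]] at e
  have e2 := happ _ _ _ _ (bv F (.inr (.inr i₀))) e
  simp only [hscal, Matrix.smul_mulVec, Matrix.one_mulVec, polar_smul_right, polar_smul_eb,
    polar_eb, smul_eq_mul] at e2
  have e3 := congrFun e2 (.inr (.inl i₁))
  simp [bv, h01, h01.symm, Matrix.smul_mulVec] at e3
  exact mul_right_cancel₀ hc0 (by linear_combination e3)

end Rigid

/-! ### The subfield subgroup -/

section Sub

variable [Fintype F] [Fintype F₀] (h2 : (2 : F) ≠ 0) (h20 : (2 : F₀) ≠ 0) (emb : F₀ →+* F)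

/-- Extension of scalars on similarities. -/
def simE : Sim Q₀ →* Sim Qo :=
  MonoidHom.codRestrict ((Matrix.GeneralLinearGroup.map emb).comp (Sim Q₀).subtype) _
    fun g => by
      obtain ⟨c, hc0, hc⟩ := (mem_sim_iff h20 _).1 g.2
      refine (mem_sim_iff h2 _).2 ⟨emb c, (map_ne_zero emb).2 hc0, ?_⟩
      show (((g : GL J F₀).1).map emb)ᵀ * pOdd m F * ((g : GL J F₀).1).map emb = _
      rw [← pOdd_map emb, ← Matrix.transpose_map, ← Matrix.map_mul, ← Matrix.map_mul, hc]
      exact Matrix.map_smul' _ c _ (map_mul emb)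

theorem simE_coe (g : Sim Q₀) : (simE h2 h20 emb g : GL J F).1 = (g : GL J F₀).1.map emb := rfl

theorem gmS_simE (σ : F ≃+* F) (he : ∀ x, σ x = x ↔ x ∈ emb.range) (g : Sim Q₀) :
    gmS h2 σ (simE h2 h20 emb g) = simE h2 h20 emb g :=
  Subtype.ext (Units.ext (by ext i j; exact (he _).2 ⟨_, rfl⟩))

theorem ker_simE (hm : 3 ≤ m) :
    ((conjP Qo).comp (simE (m := m) h2 h20 emb)).ker = (conjP Q₀).ker := by
  ext g
  rw [MonoidHom.mem_ker, MonoidHom.mem_ker, MonoidHom.comp_apply, ker_iff h2 hm, ker_iff h20 hm,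
    simE_coe]
  constructor
  · rintro ⟨l, hl⟩
    refine ⟨(g : GL J F₀).1 (.inl ()) (.inl ()), ?_⟩
    ext i j
    apply emb.injective
    have h00 := congrFun (congrFun hl (.inl ())) (.inl ())
    have hij := congrFun (congrFun hl i) j
    simp at h00 hij
    rcases eq_or_ne i j with rfl | hne
    · simp [hij, h00]
    · simp [hij, hne]
  · rintro ⟨l, hl⟩
    refine ⟨emb l, ?_⟩
    rw [hl, Matrix.map_smul' _ _ _ (map_mul emb), Matrix.map_one _ (map_zero emb) (map_one emb)]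

/-- The inclusion of `Ω` in the similarity group. -/
def omS {L : Type*} [Field L] : Omega L ⇑(QuadClassify.qOdd m L) →* Sim (QuadClassify.qOdd m L) :=
  MonoidHom.mk'
    (fun s => ⟨((s : isometryGroup L ⇑(QuadClassify.qOdd m L)) : GL J L), isometry_le_sim _ s.1.2⟩)
    fun _ _ => rfl

theorem conjP_omS {L : Type*} [Field L] [Fintype L] (s : Omega L ⇑(QuadClassify.qOdd m L)) :
    conjP (QuadClassify.qOdd m L) (omS s) = MulAut.conj (QuotientGroup.mk s) :=
  conjP_omega _ s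

/-- The subfield subgroup, acting on the whole group. -/
noncomputable def rat (hm : 3 ≤ m) : POmega F₀ ⇑Q₀ →* MulAut (POmega F ⇑Qo) :=
  QuotientGroup.lift _ (((conjP Qo).comp (simE (m := m) h2 h20 emb)).comp omS) fun s hs => by
    rw [MonoidHom.mem_ker, MonoidHom.comp_apply, ← MonoidHom.mem_ker, ker_simE h2 h20 emb hm,
      MonoidHom.mem_ker, conjP_omS, (QuotientGroup.eq_one_iff s).2 hs, map_one]

theorem rat_mk (hm : 3 ≤ m) (s : Omega F₀ ⇑Q₀) :
    rat h2 h20 emb hm (QuotientGroup.mk s) = conjP Qo (simE h2 h20 emb (omS s)) := rfl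

theorem rat_injective (hm : 3 ≤ m) : Function.Injective (rat (m := m) h2 h20 emb hm) := by
  rw [injective_iff_map_eq_one]
  intro y hy
  obtain ⟨s, rfl⟩ := QuotientGroup.mk_surjective y
  rw [rat_mk, ← MonoidHom.comp_apply, ← MonoidHom.mem_ker, ker_simE h2 h20 emb hm, MonoidHom.mem_ker,
    ker_iff h20 hm] at hy
  obtain ⟨l, hl⟩ := hy
  refine (QuotientGroup.eq_one_iff s).2 (Subgroup.mem_center_iff.2 fun t => ?_)
  refine Subtype.ext (Subtype.ext (Units.ext ?_))
  have hs : (((s : isometryGroup F₀ ⇑Q₀) : GL J F₀)).1 = l • (1 : Matrix J J F₀) := hl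
  show _ * _ = _ * _
  rw [hs, Matrix.mul_smul, Matrix.mul_one, Matrix.smul_mul, Matrix.one_mul]

end Sub

theorem facts₀ [Fintype F₀] (h20 : (2 : F₀) ≠ 0) (hm : 3 ≤ m) :
    2 ∣ Nat.card (POmega F₀ ⇑Q₀) ∧ ∃ y : POmega F₀ ⇑Q₀, y * y ≠ 1 := by
  have hodd : Odd (Fintype.card F₀) := Nat.odd_iff.2 (FiniteField.odd_card_of_char_ne_two
    fun h => h20 (AutOrth45.two_eq_zero_iff.2 h))
  have e := S0292.result (F := F₀) rfl hodd m hm
  rw [← QuadClassify.qOdd_coe] at e
  set q := Fintype.card F₀ with hq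
  obtain ⟨k, hk⟩ : 4 ∣ ∏ i ∈ Finset.range m, (q ^ (2 * (i + 1)) - 1) := by
    refine dvd_trans ?_ (Finset.prod_dvd_prod_of_subset (Finset.range 2) (Finset.range m) _
      (Finset.range_mono (by omega)))
    rw [Finset.prod_range_succ, Finset.prod_range_one]
    exact mul_dvd_mul (a := 2) (c := 2) (Nat.Odd.sub_odd hodd.pow odd_one).two_dvd
      (Nat.Odd.sub_odd hodd.pow odd_one).two_dvd
  rw [hk] at e
  refine ⟨⟨q ^ m ^ 2 * k, by linarith⟩, ?_⟩
  obtain ⟨r, hr⟩ := CharP.exists F₀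
  haveI : Fact r.Prime := ⟨CharP.char_is_prime F₀ r⟩
  obtain ⟨a, hrp, hqa⟩ := FiniteField.card F₀ r
  have hr2 : r ≠ 2 := by rintro rfl; exact h20 (CharTwo.two_eq_zero)
  have hrd : r ∣ 2 * Nat.card (POmega F₀ ⇑Q₀) := by
    rw [e, hq, hqa, ← pow_mul]
    exact dvd_mul_of_dvd_left (dvd_pow_self r (Nat.mul_pos a.pos (by positivity)).ne') _
  obtain ⟨y, hy⟩ := exists_prime_orderOf_dvd_card' r ((hrp.dvd_mul.1 hrd).resolve_left fun h =>
    hr2 ((Nat.prime_dvd_prime_iff_eq hrp Nat.prime_two).1 h))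
  refine ⟨y, fun h0 => hr2 ?_⟩
  have := orderOf_dvd_of_pow_eq_one (x := y) (n := 2) (by rw [pow_two]; exact h0)
  rw [hy] at this
  exact (Nat.prime_dvd_prime_iff_eq hrp Nat.prime_two).1 this

theorem simple₀ [Fintype F₀] (h20 : (2 : F₀) ≠ 0) (hm : 3 ≤ m) : IsSimpleGroup (POmega F₀ ⇑Q₀) := by
  rw [QuadClassify.qOdd_coe]
  exact OrthUnitarySimpleStd.isSimpleGroup_POmega _ _ (OrthUnitaryForms.eqOdd m)
    (OrthUnitaryForms.eqOdd_isometry m)
    (OrthUnitaryStd.nondegenerate_withBase (OrthUnitaryStd.nondegenerate_qfSq h20) m)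
    (by rw [OrthUnitaryStd.finrank_withBase_space, Module.finrank_fintype_fun_eq_card]; simp; omega)

theorem rat_inn [Fintype F] [Fintype F₀] (h2 : (2 : F) ≠ 0) (h20 : (2 : F₀) ≠ 0) (hm : 3 ≤ m)
    (emb : F₀ →+* F) (y : POmega F₀ ⇑Q₀) : rat h2 h20 emb hm y ∈ Inn (POmega F ⇑Qo) := by
  have hr : ∀ y, rat h2 h20 emb hm y ∈ (conjP Qo).range := fun y => by
    obtain ⟨s, rfl⟩ := QuotientGroup.mk_surjective y
    exact ⟨_, (rat_mk h2 h20 emb hm s).symm⟩
  have := simple₀ (m := m) h20 hm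
  obtain ⟨-, y₂, hy₂⟩ := facts₀ (m := m) h20 hm
  have hN : (Inn (POmega F ⇑Qo)).comap (rat h2 h20 emb hm) = ⊤ := by
    refine (IsSimpleGroup.eq_bot_or_eq_top_of_normal _ (Subgroup.Normal.comap inferInstance _)).resolve_left
      fun hN => hy₂ ?_
    rw [← Subgroup.mem_bot, ← hN, Subgroup.mem_comap, map_mul]
    have hidx : ((Inn (POmega F ⇑Qo)).subgroupOf (conjP Qo).range).index = 2 :=
      (AutOrth45Odd.facts h2 hm).1
    exact (Subgroup.mul_mem_iff_of_index_two hidx (a := ⟨_, hr y₂⟩) (b := ⟨_, hr y₂⟩)).2 Iff.rfl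
  have : y ∈ (Inn (POmega F ⇑Qo)).comap (rat h2 h20 emb hm) := hN ▸ Subgroup.mem_top y
  exact this

/-- The criterion for a conjugate of a field automorphism. -/
theorem balance [Fintype F] [Fintype F₀] (h2 : (2 : F) ≠ 0) (hm : 3 ≤ m) (σ : F ≃+* F)
    (emb : F₀ →+* F) (he : ∀ x, σ x = x ↔ x ∈ emb.range) {p : ℕ} [Fact p.Prime]
    (hσ : orderOf σ = p) (B : Sim Qo) (h : AutOrth45.Good (QuadClassify.qOdd m F))
    (A : Subgroup (MulAut (POmega F ⇑Qo))) (hinn : ∀ k : POmega F ⇑Qo, MulAut.conj k ∈ A)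
    (x : MulAut (POmega F ⇑Qo))
    (hx : x = conjP Qo B * AutOrth45Api.fd h (AutOrth45Forms.inv_odd (F := F) m) σ * (conjP Qo B)⁻¹) :
    Cfsg.pPrimeCore p ↥(A ⊓ Subgroup.centralizer {x}) ≠ ⊥ ↔
      Nat.Coprime p (Nat.card ↥(MonoidHom.eqLocus x.toMonoidHom (MonoidHom.id (POmega F ⇑Qo)))) := by
  classical
  haveI : Finite (POmega F ⇑Qo) := inferInstance
  haveI : Finite (MulAut (POmega F ⇑Qo)) :=
    Finite.of_injective (fun α => (α : POmega F ⇑Qo → POmega F ⇑Qo)) DFunLike.coe_injective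
  have h20 : (2 : F₀) ≠ 0 := fun h0 => h2 (by rw [← map_ofNat emb 2, h0, map_zero])
  have h0 := AutOrth45Forms.good_odd (F := F₀) h20 hm
  set f := AutOrth45Api.fd h (AutOrth45Forms.inv_odd (F := F) m) σ with hf
  set cB := conjP Qo B with hcB
  haveI hsimp : IsSimpleGroup (POmega F₀ ⇑Q₀) := by
    rw [QuadClassify.qOdd_coe]
    exact OrthUnitarySimpleStd.isSimpleGroup_POmega _ _ (OrthUnitaryForms.eqOdd m)
      (OrthUnitaryForms.eqOdd_isometry m)
      (OrthUnitaryStd.nondegenerate_withBase (OrthUnitaryStd.nondegenerate_qfSq h20) m)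
      (by rw [OrthUnitaryStd.finrank_withBase_space, Module.finrank_fintype_fun_eq_card]; simp; omega)
  obtain ⟨h2d, y₂, hy₂⟩ := facts₀ (m := m) h20 hm
  have hinnle : Inn (POmega F ⇑Qo) ≤ (conjP Qo).range := by
    rw [inn_eq]; exact Subgroup.map_le_range _ _
  have hratI := rat_inn h2 h20 hm emb
  let φ : POmega F₀ ⇑Q₀ →* MulAut (POmega F ⇑Qo) :=
    (MulAut.conj cB).toMonoidHom.comp (rat h2 h20 emb hm)
  have hφ : ∀ y, φ y = cB * rat h2 h20 emb hm y * cB⁻¹ := fun y => rfl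
  have hφinj : Function.Injective φ := (MulAut.conj _).injective.comp (rat_injective h2 h20 emb hm)
  set M := Inn (POmega F ⇑Qo) ⊓ Subgroup.centralizer {x} with hM
  have hrc : ∀ g : Sim Q₀, Commute (conjP Qo (simE h2 h20 emb g)) f := fun g => by
    show _ * _ = _ * _
    rw [hf, fd_mul_conjP h h2, gmS_simE h2 h20 emb σ he]
  have hMW : M ≤ A ⊓ Subgroup.centralizer {x} := fun β ⟨⟨k, hk⟩, hC⟩ => ⟨hk ▸ hinn k, hC⟩
  have hφM : ∀ y, φ y ∈ M := fun y => by
    refine ⟨Subgroup.Normal.conj_mem inferInstance _ (hratI y) _,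
      Subgroup.mem_centralizer_singleton_iff.2 ?_⟩
    obtain ⟨s, rfl⟩ := QuotientGroup.mk_surjective y
    rw [hφ, hx, rat_mk]
    calc cB * conjP Qo (simE h2 h20 emb (omS s)) * cB⁻¹ * (cB * f * cB⁻¹)
        = cB * (conjP Qo (simE h2 h20 emb (omS s)) * f) * cB⁻¹ := by simp [mul_assoc]
      _ = cB * (f * conjP Qo (simE h2 h20 emb (omS s))) * cB⁻¹ := by rw [(hrc _).eq]
      _ = _ := by simp [mul_assoc]
  have hWM : ∀ w ∈ A ⊓ Subgroup.centralizer {x}, ∀ β ∈ M, w * β * w⁻¹ ∈ M := fun w hw β hβ =>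
    ⟨Subgroup.Normal.conj_mem inferInstance β hβ.1 w,
      Subgroup.mul_mem _ (Subgroup.mul_mem _ hw.2 hβ.2) (Subgroup.inv_mem _ hw.2)⟩
  -- centralising inner automorphisms are rational
  have hMrat : ∀ β ∈ M, ∃ k : Sim Q₀, β = cB * conjP Qo (simE h2 h20 emb k) * cB⁻¹ := by
    intro β hβ
    obtain ⟨g, rfl⟩ := hinnle hβ.1
    have hc : Commute (conjP Qo g) x := Subgroup.mem_centralizer_singleton_iff.1 hβ.2
    have hc' : Commute (conjP Qo (B⁻¹ * g * B)) f := by
      have := hc.map (MulAut.conj cB⁻¹).toMonoidHom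
      simpa [hx, hcB, mul_assoc] using this
    obtain ⟨K, K₀, hK, hiso, hd, hKK⟩ := rational_of_commute h h2 hm σ emb he _ hc'
    have hiso0 : K₀ᵀ * pOdd m F₀ * K₀ = pOdd m F₀ := Matrix.map_injective emb.injective (by
      show (K₀ᵀ * pOdd m F₀ * K₀).map emb = (pOdd m F₀).map emb
      rw [Matrix.map_mul, Matrix.map_mul, Matrix.transpose_map, hKK, pOdd_map, hiso])
    have hd0 : K₀.det ≠ 0 := fun e => by
      have e1 : (K₀.map emb).det = 0 := (emb.map_det K₀).symm.trans (by rw [e, map_zero])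
      rw [hKK, hd] at e1
      exact one_ne_zero e1
    refine ⟨⟨Matrix.GeneralLinearGroup.mkOfDetNeZero K₀ hd0,
      (mem_sim_iff h20 _).2 ⟨1, one_ne_zero, hiso0.trans (one_smul _ _).symm⟩⟩, ?_⟩
    have e2 : simE h2 h20 emb ⟨Matrix.GeneralLinearGroup.mkOfDetNeZero K₀ hd0,
        (mem_sim_iff h20 _).2 ⟨1, one_ne_zero, hiso0.trans (one_smul _ _).symm⟩⟩ = K :=
      Subtype.ext (Units.ext hKK)
    rw [e2, hK, hcB, map_mul, map_mul, map_inv]
    group
  have hnorm : ∀ β ∈ M, ∀ y, ∃ y', β * φ y * β⁻¹ = φ y' := by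
    intro β hβ y
    obtain ⟨k, rfl⟩ := hMrat β hβ
    obtain ⟨s, rfl⟩ := QuotientGroup.mk_surjective y
    refine ⟨QuotientGroup.mk (omegaConj Q₀ k s), ?_⟩
    have hcs : omS (omegaConj Q₀ k s) = k * omS s * k⁻¹ := Subtype.ext (omegaConj_coe Q₀ k s)
    rw [hφ, hφ, rat_mk, rat_mk, hcs, map_mul, map_mul, map_mul, map_mul, map_inv, map_inv]
    group
  have hne : ∃ y, φ y ≠ 1 := by
    refine ⟨y₂, fun e => hy₂ ?_⟩
    rw [map_eq_one_iff _ hφinj] at e
    rw [e, mul_one]
  have hord : orderOf x = p := by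
    rw [hx, AutPSLField.orderOf_conj', hf,
      orderOf_injective (AutOrth45Api.fd h (AutOrth45Forms.inv_odd (F := F) m)) (fd_injective h _), hσ]
  have hH : p ∣ Nat.card M → ∀ N : Subgroup (POmega F₀ ⇑Q₀), N.Normal → N ≠ ⊥ → p ∣ Nat.card N := by
    intro hpM N hN hNne
    rw [(IsSimpleGroup.eq_bot_or_eq_top_of_normal N hN).resolve_left hNne, Subgroup.card_top]
    set ρ := (conjP Qo).comp (simE (m := m) h2 h20 emb)
    have hle : M ≤ ρ.range.map (MulAut.conj cB).toMonoidHom := fun β hβ => by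
      obtain ⟨k, hk⟩ := hMrat β hβ
      exact ⟨_, ⟨k, rfl⟩, hk.symm⟩
    have h1 := hpM.trans (Subgroup.card_dvd_of_le hle)
    rw [← Nat.card_congr (Subgroup.equivMapOfInjective _ _ (MulAut.conj cB).injective).toEquiv,
      ← Subgroup.index_ker, ker_simE h2 h20 emb hm, Subgroup.index_ker,
      (AutOrth45Odd.facts h20 hm).2] at h1
    rcases (Fact.out : p.Prime).dvd_mul.1 h1 with h3 | h3
    · rw [(Nat.prime_dvd_prime_iff_eq Fact.out Nat.prime_two).1 h3]; exact h2d
    · exact h3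
  have hcent : ∀ β, (∀ y, Commute β (φ y)) → β ∈ Subgroup.zpowers x := by
    intro β hβ
    obtain ⟨g, τ, hg⟩ := aut_decomp h (AutOrth45Forms.inv_odd (F := F) m) (cB⁻¹ * β * cB)
    have hβ' : ∀ y, Commute (conjP Qo g * AutOrth45Api.fd h (AutOrth45Forms.inv_odd (F := F) m) τ)
        (rat h2 h20 emb hm y) := fun y => by
      have := (hβ y).map (MulAut.conj cB⁻¹).toMonoidHom
      rw [← hg]
      simpa [hφ, mul_assoc] using this
    obtain ⟨hfix, c, hc⟩ := rigid (τ := τ) emb (by omega) (g : GL J F) fun a b ha hb hab => by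
      set s := (toS h0).symm (h0.sg a b) with hs
      have hmat : ((omS s : Sim Q₀) : GL J F₀).1 = 1 + nilM (pOdd m F₀) a b := by
        refine Matrix.ext_iff_mulVec.2 fun v => ?_
        rw [Matrix.add_mulVec, Matrix.one_mulVec, nilM_mulVec]
        have e := toS_apply h0 s v
        rw [hs, MulEquiv.apply_symm_apply, h0.root_app ha hb hab] at e
        rw [← add_sub_assoc]
        exact e.symm
      have h1 := (hβ' (QuotientGroup.mk s)).eq
      rw [rat_mk, mul_assoc, fd_mul_conjP h h2, ← mul_assoc, ← map_mul, ← mul_assoc, ← map_mul,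
        mul_left_inj, conjP_eq_iff h2 hm] at h1
      obtain ⟨l, hl⟩ := h1
      rw [Subgroup.coe_mul, Units.val_mul, Subgroup.coe_mul, Units.val_mul, gmS_coe, simE_coe, hmat,
        Matrix.map_add _ (map_add emb), Matrix.map_one _ (map_zero emb) (map_one emb), nilM_map,
        ← RingEquiv.coe_toRingHom, Matrix.map_add _ (map_add (τ : F →+* F)),
        Matrix.map_one _ (map_zero (τ : F →+* F)) (map_one (τ : F →+* F)), nilM_map] at hl
      have hsing : ∀ f : F₀ →+* F, Qo (f ∘ a) = 0 ∧ Qo (f ∘ b) = 0 ∧ polar Qo (f ∘ a) (f ∘ b) = 0 := by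
        intro f
        have hQ : ∀ v : J → F₀, Qo (f ∘ v) = f (Q₀ v) := fun v => by
          simp [QuadClassify.qOdd_apply, Cfsg.quadFormOdd]
        refine ⟨by rw [hQ, ha, map_zero], by rw [hQ, hb, map_zero], ?_⟩
        rw [polar, show (f ∘ a : J → F) + f ∘ b = f ∘ (a + b) from funext fun i => (map_add f _ _).symm,
          hQ, hQ, hQ, ← map_sub, ← map_sub, show Q₀ (a + b) - Q₀ a - Q₀ b = polar Q₀ a b from rfl,
          hab, map_zero]
      obtain ⟨a1, b1, ab1⟩ := hsing emb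
      obtain ⟨a2, b2, ab2⟩ := hsing ((τ : F →+* F).comp emb)
      exact eq_of_twist (g : GL J F).isUnit (nilM_sq h2 a2 b2 ab2) (nilM_sq h2 a1 b1 ab1) hl
    obtain ⟨k, hk⟩ : τ ∈ Subgroup.zpowers σ := AutPSpBalance.galois_fix σ τ fun a ha => by
      obtain ⟨a, rfl⟩ := (he a).1 ha
      exact hfix a
    have hg1 : conjP Qo g = 1 := (ker_iff h2 hm g).2 ⟨c, hc⟩
    rw [hg1, one_mul, ← hk, map_zpow] at hg
    refine ⟨k, ?_⟩
    show x ^ k = β
    rw [hx, conj_zpow, hf, ← hg]
    group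
  have hMeq : Nat.card M = Nat.card ↥(MonoidHom.eqLocus x.toMonoidHom (MonoidHom.id (POmega F ⇑Qo))) := by
    have hinj : Function.Injective (MulAut.conj : POmega F ⇑Qo →* MulAut (POmega F ⇑Qo)) := by
      haveI : IsSimpleGroup (POmega F ⇑Qo) := by
        rw [QuadClassify.qOdd_coe]
        exact OrthUnitarySimpleStd.isSimpleGroup_POmega _ _ (OrthUnitaryForms.eqOdd m)
          (OrthUnitaryForms.eqOdd_isometry m)
          (OrthUnitaryStd.nondegenerate_withBase (OrthUnitaryStd.nondegenerate_qfSq h2) m)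
          (by rw [OrthUnitaryStd.finrank_withBase_space, Module.finrank_fintype_fun_eq_card]; simp; omega)
      rw [← MonoidHom.ker_eq_bot_iff]
      refine ((MonoidHom.normal_ker _).eq_bot_or_eq_top).resolve_right fun e => ?_
      obtain ⟨y, hy⟩ := hne
      apply hy
      obtain ⟨k, hk⟩ := (hφM y).1
      rw [← hk]
      exact MonoidHom.mem_ker.1 (e ▸ Subgroup.mem_top k)
    have hiff : ∀ k, MulAut.conj k ∈ Subgroup.centralizer {x} ↔ x k = k := by
      intro k
      rw [Subgroup.mem_centralizer_singleton_iff]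
      constructor
      · intro e
        apply hinj
        apply MulEquiv.ext
        intro z
        have e2 := congrArg (fun β : MulAut (POmega F ⇑Qo) => β (x.symm z)) e
        simp [MulAut.mul_apply] at e2 ⊢
        exact e2.symm
      · intro e
        apply MulEquiv.ext
        intro z
        simp [MulAut.mul_apply, e]
    have : (MonoidHom.eqLocus x.toMonoidHom (MonoidHom.id (POmega F ⇑Qo))).map MulAut.conj = M := by
      ext β
      constructor
      · rintro ⟨k, hk, rfl⟩; exact ⟨⟨k, rfl⟩, (hiff k).2 hk⟩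
      · rintro ⟨⟨k, rfl⟩, hC⟩; exact ⟨k, (hiff k).1 hC, rfl⟩
    rw [← this]
    exact (Nat.card_congr (Subgroup.equivMapOfInjective _ _ hinj).toEquiv).symm
  rw [← hMeq]
  exact BalanceCriterion.field_core _ M x φ hφinj hMW hWM hφM hcent hord hnorm hne hH

/-- Local balance for the odd-dimensional orthogonal groups. -/
theorem main [Fintype F] (hodd : Odd (Fintype.card F)) (hm : 3 ≤ m) {p : ℕ} [Fact p.Prime]
    (A : Subgroup (MulAut (POmega F ⇑Qo))) (hinn : ∀ k : POmega F ⇑Qo, MulAut.conj k ∈ A)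
    (x : MulAut (POmega F ⇑Qo)) (hord : orderOf x = p)
    (hnot : ¬ Cfsg.IsSimilarityInducedAutPOmega ⇑Qo x) :
    Cfsg.pPrimeCore p ↥(A ⊓ Subgroup.centralizer {x}) ≠ ⊥ ↔
      (Cfsg.IsFieldAutClassPOmega ⇑Qo x ∧
        Nat.Coprime p (Nat.card ↥(MonoidHom.eqLocus x.toMonoidHom (MonoidHom.id (POmega F ⇑Qo))))) := by
  classical
  have h2 : (2 : F) ≠ 0 := OmegaStd.two_ne_zero rfl hodd
  have h := AutOrth45Forms.good_odd (F := F) h2 hm
  have hp := (Fact.out : p.Prime)
  obtain ⟨g, σ, rfl⟩ := aut_decomp h (AutOrth45Forms.inv_odd (F := F) m) x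
  have hσ1 : σ ≠ 1 := fun e => hnot ⟨g, g.2, (OrthUnitarySimAut.induced_iff Qo g g.2 _).2 (by
    rw [e, map_one, mul_one])⟩
  have hpow := pow_orderOf_eq_one (conjP Qo g * AutOrth45Api.fd h (AutOrth45Forms.inv_odd (F := F) m) σ)
  rw [hord] at hpow
  have hpow' := hpow
  rw [pow_conjP_fd h h2] at hpow'
  have hσp : orderOf σ = p := orderOf_eq_prime (decomp_unique h _ hpow').1 hσ1
  let K : Subfield F := (σ : F →+* F).eqLocusField (RingHom.id F)
  have he : ∀ y, σ y = y ↔ y ∈ K.subtype.range := fun y =>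
    ⟨fun hy => ⟨⟨y, hy⟩, rfl⟩, by rintro ⟨z, rfl⟩; exact z.2⟩
  haveI : Fintype K := Fintype.ofFinite K
  obtain ⟨B, hB⟩ := field_coset h h2 hm σ K.subtype he g (by rw [hσp]; exact hpow)
  rw [balance h2 hm σ K.subtype he hσp B h A hinn _ hB]
  refine (and_iff_right ?_).symm
  refine ⟨(conjP Qo B)⁻¹, AutOrth45Api.fd h (AutOrth45Forms.inv_odd (F := F) m) σ, σ, hσ1,
    (isField_iff h _ σ _).2 rfl, ?_⟩
  rw [hB]
  group

end Cfsg.Agent.AutOrthOdd52Balance
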