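import Mathlib
import Cfsg.Prelude.Def_Solvable
import Cfsg.Agent.Lib.AutOrthOdd52Balance

/-!
An odd-order normal subgroup of a group of automorphisms containing an embedded odd-dimensional
orthogonal group `Ω` centralises it, and what centralises it acts trivially on the model.
-/

set_option autoImplicit false
set_option linter.unusedSectionVars false

namespace Cfsg.Agent.OrthModelKill52

open QuadraticMap
open scoped Matrix MatrixGroups
open Cfsg.Agent.OrthUnitaryQuad
open Cfsg.Agent.OrthUnitaryRefl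
open Cfsg.Agent.OrthUnitaryOmega
open Cfsg.Agent.OrthUnitaryPrelude
open Cfsg.Agent.OrthUnitarySimAut
open Cfsg.Agent.OmegaClasses
open Cfsg.Agent.AutOrth45Api
open Cfsg.Agent.AutOrthOdd52Field (pOdd_map)
open Cfsg.Agent.AutOrthOdd52Balance
open Cfsg.Agent.FormCongruence (pOdd)

variable {K : Type*} [Field K] {k : ℕ}

local notation "J" => Unit ⊕ (Fin k ⊕ Fin k)

/-- Applying a field automorphism on both sides. -/
theorem map_semi_pair {ι : Type} [Fintype ι] [DecidableEq ι] {F : Type*} [Field F] [Fintype F] (f : (ι → F) → F)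
    (g : GL ι F) (σ : F ≃+* F) (hp : IsSemisimilarityPair f g σ) (s : isometryGroup F f) :
    g * Matrix.GeneralLinearGroup.map (σ : F →+* F) (s : GL ι F) * g⁻¹ ∈ isometryGroup F f := by
  intro v _
  obtain ⟨c, hc⟩ := hp
  obtain ⟨w, rfl⟩ := (semi g σ).surjective v
  show f ((g.1 * ((s : GL ι F).1).map σ * (g⁻¹ : GL ι F).1) *ᵥ semi g σ w) = f (semi g σ w)
  rw [semi_conj, semi_apply, semi_apply, hc, hc]
  exact congrArg (fun z => (c : F) * σ z) (s.2 w w)

/-- Conjugation of isometries by a semisimilarity. -/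
def semiHom {ι : Type} [Fintype ι] [DecidableEq ι] {F : Type*} [Field F] [Fintype F] (f : (ι → F) → F)
    (g : GL ι F) (σ : F ≃+* F) (hp : IsSemisimilarityPair f g σ) :
    isometryGroup F f →* isometryGroup F f :=
  MonoidHom.mk' (fun s => ⟨g * Matrix.GeneralLinearGroup.map (σ : F →+* F) (s : GL ι F) * g⁻¹,
    map_semi_pair f g σ hp s⟩) fun s t => Subtype.ext (by simp [mul_assoc])

/-- Homomorphisms of isometry groups preserve `Ω`. -/
theorem map_mem_Omega {ι ι' : Type} [Fintype ι] [DecidableEq ι] [Fintype ι'] [DecidableEq ι']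
    {F F' : Type*} [Field F] [Field F'] {f : (ι → F) → F} {f' : (ι' → F') → F'}
    (X : isometryGroup F f →* isometryGroup F' f') {s : isometryGroup F f} (hs : s ∈ Omega F f) :
    X s ∈ Omega F' f' := by
  have h1 : (commutator (isometryGroup F f)).map X ≤ commutator (isometryGroup F' f') := by
    rw [commutator_def, Subgroup.map_commutator, commutator_def]
    exact Subgroup.commutator_mono le_top le_top
  exact h1 ⟨s, hs, rfl⟩

theorem five_card (hk : 2 ≤ k) : 5 ≤ Fintype.card J := by simp; omega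

/-- A scalar element of `Ω` in odd dimension is trivial. -/
theorem eq_one_of_scalar [Fintype K] (h2 : (2 : K) ≠ 0)
    (s : Omega K ⇑(QuadClassify.qOdd k K)) {c : K}
    (hs : mat s.1 = c • (1 : Matrix J J K)) : s = 1 := by
  have hdet : (mat s.1).det = 1 := by
    have hd : detHom (QuadClassify.qOdd k K) (iso (QuadClassify.qOdd k K) s.1) = 1 :=
      MonoidHom.mem_ker.1 (Abelianization.commutator_subset_ker (detHom (QuadClassify.qOdd k K))
        ((mem_Omega_iff s.1).1 s.2))
    rw [det_mat, hd, Units.val_one]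
  have hiso : (mat s.1)ᵀ * pOdd k K * mat s.1 = pOdd k K := by
    refine ((AutOrthOdd52Field.sim_iff h2 _ 1).1 fun v => ?_).trans (one_smul _ _)
    rw [one_mul]
    exact s.1.2 v v
  have h1 := AutOrthOdd52Field.eq_one_of_isom h2 hs hiso hdet
  rw [h1, one_smul] at hs
  exact Subtype.ext (Subtype.ext (Units.ext hs))

/-- `Ω` contains a non-central involution. -/
theorem exists_involution [Fintype K] (h2 : (2 : K) ≠ 0) (hk : 2 ≤ k) :
    ∃ s : Omega K ⇑(QuadClassify.qOdd k K), s * s = 1 ∧
      (QuotientGroup.mk s : POmega K ⇑(QuadClassify.qOdd k K)) ≠ 1 := by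
  let i₀ : Fin k := ⟨0, by omega⟩
  set Q := QuadClassify.qOdd k K
  let u : J → K := bv K (.inl ())
  let v : J → K := bv K (.inr (.inl i₀)) + bv K (.inr (.inr i₀))
  have hu1 : Q u = 1 := by simp [Q, u, QuadClassify.qOdd_apply, Cfsg.quadFormOdd, bv]
  have hv1 : Q v = 1 := by
    simp [Q, v, QuadClassify.qOdd_apply, Cfsg.quadFormOdd, bv, Pi.single_apply, Finset.sum_ite_eq']
  have hu : Q u ≠ 0 := by rw [hu1]; exact one_ne_zero
  have hv : Q v ≠ 0 := by rw [hv1]; exact one_ne_zero
  have hns : NS Q [u, v] := by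
    intro w hw
    simp only [List.mem_cons, List.not_mem_nil, or_false] at hw
    rcases hw with rfl | rfl
    · exact hu
    · exact hv
  have hmem : refl Q u hu * refl Q v hv ∈ commutator (orth Q) := by
    have e : refl Q u hu * refl Q v hv = rprod Q [u, v] := by rw [rprod_cons hu, rprod_singleton hv]
    rw [e, rprod_mem_iff (AutOrth45Forms.nondegenerate_qOdd h2 k)
      (Or.inr (by rw [finrank_pi]; simp; omega)) hns]
    simp [show QuadClassify.qOdd k K u = 1 from hu1, show QuadClassify.qOdd k K v = 1 from hv1, Q]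
  set t := (iso Q).symm (refl Q u hu * refl Q v hv) with ht
  have htO : t ∈ Omega K ⇑Q := by
    rw [mem_Omega_iff, ht, MulEquiv.apply_symm_apply]; exact hmem
  have happ : ∀ x, mat t *ᵥ x = (refl Q u hu).1 ((refl Q v hv).1 x) := fun x => by
    rw [← iso_apply, ht, MulEquiv.apply_symm_apply]; rfl
  have huv : polar Q u v = 0 := by rw [polar_zb]; simp [v, bv]
  have hpu : polar Q u u = 2 := by rw [polar_self_mul, hu1, mul_one]
  have hpv : polar Q v v = 2 := by rw [polar_self_mul, hv1, mul_one]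
  have hrr : (refl Q u hu * refl Q v hv) * (refl Q u hu * refl Q v hv) = 1 := by
    refine orth_ext fun x => ?_
    simp only [orth_mul_apply, refl_apply, hu1, hv1, inv_one, one_mul, polar_sub_right,
      polar_smul_right, huv, polar_comm Q v u, hpu, hpv, smul_eq_mul, mul_zero, sub_zero]
    simp only [OneMemClass.coe_one, LinearEquiv.coe_one, id_eq]
    module
  refine ⟨⟨t, htO⟩, Subtype.ext ?_, fun e => ?_⟩
  · show t * t = 1
    rw [ht, ← map_mul, hrr, map_one]
  · have h1 : conjP Q (omS (m := k) ⟨t, htO⟩) = 1 := by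
      rw [conjP_omS, e, map_one]
    rw [← MonoidHom.mem_ker, ker_conjP Q (AutOrth45Forms.nondegenerate_qOdd h2 k) (five_card hk),
      mem_scalarSim] at h1
    obtain ⟨l, hl, -⟩ := h1
    have h3 := eq_one_of_scalar h2 ⟨t, htO⟩ (c := l) hl
    have h4 : mat t = 1 := congrArg (fun z : Omega K ⇑Q => mat z.1) h3
    have h5 := congrFun (happ u) (.inl ())
    rw [h4, Matrix.one_mulVec] at h5
    simp only [refl_apply, hu1, hv1, inv_one, one_mul, polar_sub_right, polar_smul_right,
      polar_comm Q v u, huv, hpu] at h5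
    simp [u, v, bv] at h5
    exact h2 (by linear_combination h5)

variable {ι : Type} [Fintype ι] [DecidableEq ι] {F : Type*} [Field F] [Fintype F]
  {Q : QuadraticForm F (ι → F)}

/-- The inner automorphisms induced through a homomorphism of isometry groups. -/
noncomputable def inMap (X : isometryGroup K ⇑(QuadClassify.qOdd k K) →* isometryGroup F ⇑Q) :
    Omega K ⇑(QuadClassify.qOdd k K) →* MulAut (POmega F ⇑Q) :=
  (MulAut.conj : POmega F ⇑Q →* MulAut (POmega F ⇑Q)).comp
    ((QuotientGroup.mk' (Subgroup.center (Omega F ⇑Q))).comp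
      (MonoidHom.codRestrict (X.comp (Omega K ⇑(QuadClassify.qOdd k K)).subtype) (Omega F ⇑Q)
        fun s => map_mem_Omega X s.2))

theorem inMap_apply (X : isometryGroup K ⇑(QuadClassify.qOdd k K) →* isometryGroup F ⇑Q)
    (s : Omega K ⇑(QuadClassify.qOdd k K)) :
    inMap X s = MulAut.conj (QuotientGroup.mk ⟨X s.1, map_mem_Omega X s.2⟩ : POmega F ⇑Q) := rfl

theorem inMap_eq_conjP (X : isometryGroup K ⇑(QuadClassify.qOdd k K) →* isometryGroup F ⇑Q)
    (s : Omega K ⇑(QuadClassify.qOdd k K)) :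
    inMap X s = conjP Q ⟨(X s.1 : GL ι F), isometry_le_sim Q (X s.1).2⟩ :=
  (conjP_omega Q ⟨X s.1, map_mem_Omega X s.2⟩).symm

theorem inMap_injective [Fintype K] (h2 : (2 : K) ≠ 0) (hQ : (polarBilin Q).Nondegenerate)
    (hn : 5 ≤ Fintype.card ι) (X : isometryGroup K ⇑(QuadClassify.qOdd k K) →* isometryGroup F ⇑Q)
    (hX : ∀ s : isometryGroup K ⇑(QuadClassify.qOdd k K), ∀ l : F, mat (X s) = l • 1 →
      ∃ c : K, mat s = c • (1 : Matrix J J K)) :
    Function.Injective (inMap X) := by
  rw [injective_iff_map_eq_one]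
  intro s hs
  rw [inMap_eq_conjP, ← MonoidHom.mem_ker, ker_conjP Q hQ hn, mem_scalarSim] at hs
  obtain ⟨l, hl, -⟩ := hs
  obtain ⟨c, hc⟩ := hX s.1 l hl
  exact eq_one_of_scalar h2 s hc

/-- An element of an odd-order normal subgroup inducing a semisimilarity of the model acts on it
by a scalar. -/
theorem kill [Fintype K] (h2 : (2 : K) ≠ 0) (hk : 2 ≤ k) (hQ : (polarBilin Q).Nondegenerate)
    (hn : 5 ≤ Fintype.card ι) (X : isometryGroup K ⇑(QuadClassify.qOdd k K) →* isometryGroup F ⇑Q)
    (hX : ∀ s : isometryGroup K ⇑(QuadClassify.qOdd k K), ∀ l : F, mat (X s) = l • 1 →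
      ∃ c : K, mat s = c • (1 : Matrix J J K))
    (W N : Subgroup (MulAut (POmega F ⇑Q))) (hXW : ∀ s, inMap X s ∈ W)
    (hWN : ∀ w ∈ W, ∀ y ∈ N, w * y * w⁻¹ ∈ N) (hN : Odd (Nat.card N))
    (g : GL J K) (τ : K ≃+* K) (hp : IsSemisimilarityPair ⇑(QuadClassify.qOdd k K) g τ)
    (n : MulAut (POmega F ⇑Q)) (hn' : n ∈ N)
    (hint : ∀ s : Omega K ⇑(QuadClassify.qOdd k K),
      n * inMap X s * n⁻¹ = inMap X ⟨semiHom _ g τ hp s.1, map_mem_Omega _ s.2⟩) :
    τ = RingEquiv.refl K ∧ ∃ c : K, g.1 = c • 1 := by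
  classical
  haveI : IsSimpleGroup (POmega K ⇑(QuadClassify.qOdd k K)) := by
    rw [QuadClassify.qOdd_coe]
    exact OrthUnitarySimpleStd.isSimpleGroup_POmega _ _ (OrthUnitaryForms.eqOdd k)
      (OrthUnitaryForms.eqOdd_isometry k)
      (OrthUnitaryStd.nondegenerate_withBase (OrthUnitaryStd.nondegenerate_qfSq h2) k)
      (by rw [OrthUnitaryStd.finrank_withBase_space, Module.finrank_fintype_fun_eq_card]; simp; omega)
  have hinj := inMap_injective h2 hQ hn X hX
  haveI : Finite (MulAut (POmega F ⇑Q)) :=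
    Finite.of_injective (fun α => (α : POmega F ⇑Q → POmega F ⇑Q)) DFunLike.coe_injective
  set Y := N.comap (inMap X) with hY
  haveI hYn : Y.Normal := ⟨fun y hy s => by
    rw [hY, Subgroup.mem_comap, map_mul, map_mul, map_inv]
    exact hWN _ (hXW s) _ hy⟩
  have hYodd : Odd (Nat.card Y) := by
    refine Odd.of_dvd_nat hN ?_
    rw [Nat.card_congr (Subgroup.equivMapOfInjective _ _ hinj).toEquiv]
    exact Subgroup.card_dvd_of_le (Subgroup.map_comap_le _ _)
  have hYbot : ∀ y ∈ Y, y = 1 := by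
    intro y hy
    let π := QuotientGroup.mk' (Subgroup.center (Omega K ⇑(QuadClassify.qOdd k K)))
    haveI : (Y.map π).Normal := hYn.map π (QuotientGroup.mk'_surjective _)
    rcases IsSimpleGroup.eq_bot_or_eq_top_of_normal (Y.map π) inferInstance with h0 | h0
    · have h1 : π y = 1 := Subgroup.mem_bot.1 (h0 ▸ Subgroup.mem_map_of_mem π hy)
      have h3 : conjP (QuadClassify.qOdd k K) (omS y) = 1 := by
        rw [conjP_omS]
        show MulAut.conj (π y) = 1
        rw [h1, map_one]
      rw [← MonoidHom.mem_ker, ker_conjP _ (AutOrth45Forms.nondegenerate_qOdd h2 k) (five_card hk),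
        mem_scalarSim] at h3
      obtain ⟨l, hl, -⟩ := h3
      exact eq_one_of_scalar h2 y hl
    · exfalso
      obtain ⟨s, hs, hs1⟩ := exists_involution h2 hk
      haveI : Finite Y := inferInstance
      have h1 : 2 ∣ Nat.card (Y.map π) := by
        rw [h0, Subgroup.card_top, ← orderOf_eq_prime (p := 2) (x := π s)
          (by rw [← map_pow, pow_two, hs, map_one]) hs1]
        exact orderOf_dvd_natCard _
      exact (Nat.not_even_iff_odd.2 hYodd) (even_iff_two_dvd.2 (h1.trans (Subgroup.card_map_dvd Y π)))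
  have hfix : ∀ s : Omega K ⇑(QuadClassify.qOdd k K),
      g.1 * (mat s.1).map τ * (g⁻¹ : GL J K).1 = mat s.1 := by
    intro s
    set s' : Omega K ⇑(QuadClassify.qOdd k K) := ⟨semiHom _ g τ hp s.1, map_mem_Omega _ s.2⟩
    have h1 : s' * s⁻¹ ∈ Y := by
      rw [hY, Subgroup.mem_comap, map_mul, map_inv, ← hint s, mul_assoc, mul_assoc]
      refine N.mul_mem hn' ?_
      rw [← mul_assoc]
      exact hWN _ (hXW s) _ (N.inv_mem hn')
    have h3 := mul_inv_eq_one.1 (hYbot _ h1)
    exact congrArg (fun z : Omega K ⇑(QuadClassify.qOdd k K) => mat z.1) h3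
  have hroot : ∀ a b : J → K, QuadClassify.qOdd k K a = 0 → QuadClassify.qOdd k K b = 0 →
      polar (QuadClassify.qOdd k K) a b = 0 →
      g.1 * nilM (pOdd k K) (τ ∘ (RingHom.id K) ∘ a) (τ ∘ (RingHom.id K) ∘ b)
        = nilM (pOdd k K) ((RingHom.id K) ∘ a) ((RingHom.id K) ∘ b) * g.1 := by
    intro a b ha hb hab
    set Qk := QuadClassify.qOdd k K
    set s := (iso Qk).symm (siegel Qk a b ha hab) with hsdef
    have hsO : s ∈ Omega K ⇑Qk := by
      rw [mem_Omega_iff, hsdef, MulEquiv.apply_symm_apply,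
        OrthUnitarySimple.commutator_eq_sGroup (AutOrth45Forms.nondegenerate_qOdd h2 k)
          (by rw [finrank_pi]; exact five_card hk)]
      exact OrthUnitarySimple.siegel_mem_sGroup ha hab hb
    have hmat : mat s = 1 + nilM (pOdd k K) a b := by
      refine Matrix.ext_iff_mulVec.2 fun v => ?_
      rw [← iso_apply, hsdef, MulEquiv.apply_symm_apply, siegel_apply, Matrix.add_mulVec,
        Matrix.one_mulVec, nilM_mulVec, hb, zero_mul, add_zero, add_sub_assoc]
    have e := hfix ⟨s, hsO⟩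
    show g.1 * nilM (pOdd k K) (τ ∘ a) (τ ∘ b) = nilM (pOdd k K) a b * g.1
    have e' : g.1 * (mat s).map τ = mat s * g.1 := by
      conv_rhs => rw [← e]
      rw [Matrix.mul_assoc _ _ g.1, ← Units.val_mul, inv_mul_cancel, Units.val_one, Matrix.mul_one]
    rw [hmat, ← RingEquiv.coe_toRingHom, Matrix.map_add _ (map_add (τ : K →+* K)),
      Matrix.map_one _ (map_zero (τ : K →+* K)) (map_one (τ : K →+* K)), nilM_map,
      RingEquiv.coe_toRingHom, Matrix.mul_add, Matrix.add_mul, Matrix.mul_one, Matrix.one_mul] at e'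
    exact add_left_cancel e'
  obtain ⟨hτ, c, hc⟩ := rigid (RingHom.id K) hk g hroot
  exact ⟨RingEquiv.ext hτ, c, hc⟩

end Cfsg.Agent.OrthModelKill52
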