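import Mathlib
import Cfsg.Prelude.Def_Solvable
import Cfsg.Prelude.Def_LieTypeDatum
import Cfsg.Agent.Lib.AutOrth45MinusClass
import Cfsg.Agent.Lib.AutOrth45Congr
import Cfsg.Agent.Lib.AutOrth45Centralizer
import Cfsg.Agent.Lib.AutOrth45FieldTools
import Cfsg.Agent.Lib.OrthModelKill52
import Cfsg.Agent.Lib.BalanceCriterion
import Cfsg.Agent.Lib.BalanceGeneric52
import Cfsg.Agent.Lib.AutPSpBalance
import Cfsg.Agent.Lib.OrthUnitarySimpleStd

/-!
Field automorphisms of prime order of the minus-type groups: normal form and local balance.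
-/

set_option autoImplicit false
set_option linter.unusedSectionVars false

namespace Cfsg.Agent.AutOrthMinus52Field

open QuadraticMap Module
open scoped Matrix MatrixGroups
open Cfsg.Agent.OrthUnitaryQuad
open Cfsg.Agent.OrthUnitaryRefl
open Cfsg.Agent.OrthUnitaryOmega
open Cfsg.Agent.OrthUnitaryPrelude
open Cfsg.Agent.OrthUnitarySimAut
open Cfsg.Agent.OmegaClasses
open Cfsg.Agent.AutOrth45Api
open Cfsg.Agent.AutOrth45Gal
open Cfsg.Agent.AutOrth45InnDiag
open Cfsg.Agent.AutOrth45Descent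
open Cfsg.Agent.AutOrth45BaseChange
open Cfsg.Agent.AutOrth45Types (semi_smul)
open Cfsg.Agent.AutOrth45MinusClass (map_qMinus not_lagr)
open Cfsg.Agent.OrthUnitarySimilar (scalarOf scalarOf_coe scalarOf_mem ofOrth)

/-! ### Rigidity -/

section Rigid

variable {ι : Type} [Fintype ι] [DecidableEq ι] {F : Type*} [Field F]
  {Q : QuadraticForm F (ι → F)}

/-- The operator of a pair of vectors. -/
def op (Q : QuadraticForm F (ι → F)) (a b v : ι → F) : ι → F := polar Q a v • b - polar Q b v • a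

theorem op_sq (a b v : ι → F) (ha : Q a = 0) (hb : Q b = 0) (hab : polar Q a b = 0) :
    op Q a b (op Q a b v) = 0 := by
  have haa : polar Q a a = 0 := by rw [polar_self_mul, ha, mul_zero]
  have hbb : polar Q b b = 0 := by rw [polar_self_mul, hb, mul_zero]
  simp [op, polar_sub_right, polar_smul_right, haa, hbb, hab, polar_comm Q b a]

/-- Intertwining a square-zero perturbation up to a scalar. -/
theorem commute_of_twist [Nonempty ι] {τ : F ≃+* F} {g : GL ι F} {N : (ι → F) → (ι → F)}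
    (hNadd : ∀ v w, N (v + w) = N v + N w) (hNsmul : ∀ (c : F) v, N (c • v) = c • N v)
    (hN : ∀ v, N (N v) = 0) {l : F} (hl : l ≠ 0)
    (e : ∀ v, semi g τ (v + N v) = l • (semi g τ v + N (semi g τ v))) :
    ∀ v, semi g τ (N v) = N (semi g τ v) := by
  set S := semi g τ
  have hN0 : N 0 = 0 := by simpa using hNsmul 0 0
  have e1 : ∀ v, S (N v) = (l - 1) • S v + l • N (S v) := fun v => by
    have := e v
    rw [map_add] at this
    rw [sub_smul, one_smul, eq_sub_of_add_eq' this, smul_add]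
    abel
  have hl1 : l = 1 := by
    by_contra hne
    have h0 : l - 1 ≠ 0 := sub_ne_zero.2 hne
    obtain ⟨u, hu⟩ := S.surjective (1 : ι → F)
    have e2 := e1 (N u)
    rw [hN, map_zero, e1, hNadd, hNsmul, hNsmul, hN, smul_zero, add_zero, smul_add, smul_smul,
      smul_smul, smul_smul, hu] at e2
    have e3 := congrArg N e2
    rw [hN0, hNadd, hNadd, hNsmul, hNsmul, hNsmul, hN, smul_zero, smul_zero, add_zero, add_zero] at e3
    have h4 : N (1 : ι → F) = 0 := (smul_eq_zero.1 e3.symm).resolve_left (mul_ne_zero h0 h0)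
    rw [h4, smul_zero, smul_zero, add_zero, add_zero] at e2
    exact one_ne_zero ((smul_eq_zero.1 e2.symm).resolve_left (mul_ne_zero h0 h0))
  intro v
  rw [e1, hl1, sub_self, zero_smul, zero_add, one_smul]

end Rigid

section Minus

variable {F : Type*} [Field F] {m : ℕ} {a b : F}

local notation "I" => (Fin m ⊕ Fin m) ⊕ Fin 2

/-- The first vector of a hyperbolic pair. -/
def ev (L : Type*) [Field L] (i : Fin m) : (Fin m ⊕ Fin m) ⊕ Fin 2 → L := Pi.single (.inl (.inl i)) 1

/-- The second vector of a hyperbolic pair. -/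
def fv (L : Type*) [Field L] (i : Fin m) : (Fin m ⊕ Fin m) ⊕ Fin 2 → L := Pi.single (.inl (.inr i)) 1

/-- A vector of the binary part. -/
def zv (L : Type*) [Field L] (j : Fin 2) : (Fin m ⊕ Fin m) ⊕ Fin 2 → L := Pi.single (.inr j) 1

theorem q_ev (i : Fin m) : QuadClassify.qMinus m F a b (ev F i) = 0 := by
  simp [QuadClassify.qMinus_apply, ev, Cfsg.quadFormMinus, Cfsg.quadFormPlus]

theorem q_fv (i : Fin m) : QuadClassify.qMinus m F a b (fv F i) = 0 := by
  simp [QuadClassify.qMinus_apply, fv, Cfsg.quadFormMinus, Cfsg.quadFormPlus]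

theorem polar_ev (i : Fin m) (v : I → F) :
    polar (QuadClassify.qMinus m F a b) (ev F i) v = v (.inl (.inr i)) := by
  simp [polar, QuadClassify.qMinus_apply, ev, Cfsg.quadFormMinus, Cfsg.quadFormPlus, add_mul,
    Finset.sum_add_distrib, Pi.single_apply, Finset.sum_ite_eq']

theorem polar_fv (i : Fin m) (v : I → F) :
    polar (QuadClassify.qMinus m F a b) (fv F i) v = v (.inl (.inl i)) := by
  simp [polar, QuadClassify.qMinus_apply, fv, Cfsg.quadFormMinus, Cfsg.quadFormPlus, mul_add,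
    Finset.sum_add_distrib, Pi.single_apply, Finset.sum_ite_eq']

variable [Fintype F]

/-- A semilinear map commuting with the rational root elements is scalar. -/
theorem rigid {F₀ : Type*} [Field F₀] (φ : F₀ →+* F) {a₀ b₀ : F₀} (ha : φ a₀ = a) (hb : φ b₀ = b)
    (hm : 3 ≤ m) (g : GL I F) (τ : F ≃+* F)
    (H : ∀ u w : I → F₀, QuadClassify.qMinus m F₀ a₀ b₀ u = 0 → QuadClassify.qMinus m F₀ a₀ b₀ w = 0 →
      polar (QuadClassify.qMinus m F₀ a₀ b₀) u w = 0 → ∀ v,
        semi g τ (op (QuadClassify.qMinus m F a b) (emb φ u) (emb φ w) v) =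
          op (QuadClassify.qMinus m F a b) (emb φ u) (emb φ w) (semi g τ v)) :
    (∀ x, τ (φ x) = φ x) ∧ ∃ c : F, g.1 = c • 1 := by
  classical
  set Q := QuadClassify.qMinus m F a b
  set Q₀ := QuadClassify.qMinus m F₀ a₀ b₀
  set S := semi g τ with hSdef
  have he : ∀ i, emb φ (ev F₀ (m := m) i) = ev F i := fun i => emb_single φ _
  have hf : ∀ i, emb φ (fv F₀ (m := m) i) = fv F i := fun i => emb_single φ _
  have hz : ∀ j, emb φ (zv F₀ (m := m) j) = zv F j := fun j => emb_single φ _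
  have hS : ∀ (u w : I → F₀), Q₀ u = 0 → Q₀ w = 0 → polar Q₀ u w = 0 → ∀ v,
      τ (polar Q (emb φ u) v) • S (emb φ w) - τ (polar Q (emb φ w) v) • S (emb φ u) =
        polar Q (emb φ u) (S v) • emb φ w - polar Q (emb φ w) (S v) • emb φ u := by
    intro u w hu hw huw v
    have e := H u w hu hw huw v
    rw [op, map_sub, semi_smul, semi_smul] at e
    exact e
  have pee : ∀ i j : Fin m, polar Q₀ (ev F₀ i) (ev F₀ j) = 0 := fun i j => by
    rw [polar_ev]; simp [ev]
  have pff : ∀ i j : Fin m, polar Q₀ (fv F₀ i) (fv F₀ j) = 0 := fun i j => by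
    rw [polar_fv]; simp [fv]
  have pef : ∀ i j : Fin m, i ≠ j → polar Q₀ (ev F₀ i) (fv F₀ j) = 0 := fun i j hij => by
    rw [polar_ev]; simp [fv, hij]
  have hEF : ∀ i j : Fin m, polar Q (ev F i) (fv F j) = if i = j then 1 else 0 := fun i j => by
    rw [polar_ev]
    rcases eq_or_ne i j with rfl | hij <;> simp [fv, *]
  have hEE : ∀ i j : Fin m, polar Q (ev F i) (ev F j) = 0 := fun i j => by rw [polar_ev]; simp [ev]
  have hFF : ∀ i j : Fin m, polar Q (fv F i) (fv F j) = 0 := fun i j => by rw [polar_fv]; simp [fv]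
  haveI : Nontrivial (Fin m) := Fintype.one_lt_card_iff_nontrivial.1 (by rw [Fintype.card_fin]; omega)
  -- columns
  have hEcol : ∀ i, ∃ c : F, S (ev F i) = c • ev F i := fun i => by
    obtain ⟨j, hji⟩ := exists_ne i
    have h1 := hS _ _ (q_ev j) (q_ev i) (pee j i) (fv F j)
    have h3 := hS _ _ (q_fv j) (q_ev i) (by rw [polar_comm]; exact pef i j hji.symm) (ev F j)
    rw [he, he] at h1
    rw [hf, he] at h3
    simp only [hEF, hEE, polar_comm Q (fv F j) (ev F j), if_true, if_neg hji.symm, map_one, map_zero,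
      one_smul, zero_smul, sub_zero] at h1 h3
    set α := polar Q (ev F j) (S (fv F j))
    set β := polar Q (ev F i) (S (fv F j))
    set γ := polar Q (fv F j) (S (ev F j))
    set δ := polar Q (ev F i) (S (ev F j))
    have h4 := congrFun (h1.symm.trans h3) (.inl (.inl j))
    simp [ev, fv, hji] at h4
    exact ⟨α, by rw [h1, h4, zero_smul, sub_zero]⟩
  have hFcol : ∀ i, ∃ c : F, S (fv F i) = c • fv F i := fun i => by
    obtain ⟨j, hji⟩ := exists_ne i
    have h1 := hS _ _ (q_fv j) (q_fv i) (pff j i) (ev F j)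
    have h3 := hS _ _ (q_ev j) (q_fv i) (pef j i hji) (fv F j)
    rw [hf, hf] at h1
    rw [he, hf] at h3
    simp only [hFF, hEF, polar_comm Q (fv F j) (ev F j), polar_comm Q (fv F i) (ev F j), if_true,
      if_neg hji, map_one, map_zero, one_smul, zero_smul, sub_zero] at h1 h3
    set α := polar Q (fv F j) (S (ev F j))
    set β := polar Q (fv F i) (S (ev F j))
    set δ := polar Q (fv F i) (S (fv F j))
    have h4 := congrFun (h1.symm.trans h3) (.inl (.inr j))
    simp [ev, fv, hji] at h4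
    exact ⟨α, by rw [h1, h4, zero_smul, sub_zero]⟩
  choose ce hce using hEcol
  choose cf hcf using hFcol
  have hne : ∀ i, ev F (m := m) i ≠ 0 := fun i h0 => by simpa [ev] using congrFun h0 (.inl (.inl i))
  have hef : ∀ i j, i ≠ j → ce j = cf i := fun i j hij => by
    have h1 := hS _ _ (q_ev i) (q_ev j) (pee i j) (fv F i)
    rw [he, he] at h1
    simp only [hce, hcf, hEF, polar_smul_right, smul_eq_mul, mul_one, if_true, if_neg hij.symm,
      map_one, map_zero, mul_zero, one_smul, zero_smul, sub_zero] at h1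
    exact smul_left_injective F (hne j) h1
  have hee : ∀ i j, i ≠ j → ce j = ce i := fun i j hij => by
    have h1 := hS _ _ (q_fv i) (q_ev j) (by rw [polar_comm]; exact pef j i hij.symm) (ev F i)
    rw [hf, he] at h1
    simp only [hce, polar_comm Q (fv F i) (ev F i), hEF, hEE, polar_smul_right, smul_eq_mul, mul_one,
      if_true, map_one, map_zero, mul_zero, one_smul, zero_smul, sub_zero] at h1
    exact smul_left_injective F (hne j) h1
  let i₀ : Fin m := ⟨0, by omega⟩
  let i₁ : Fin m := ⟨1, by omega⟩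
  have h01 : i₀ ≠ i₁ := by simp [i₀, i₁]
  set c := ce i₀
  have hec : ∀ i, ce i = c := fun i => by
    rcases eq_or_ne i i₀ with rfl | hi
    · rfl
    · exact hee i₀ i hi.symm
  have hfc : ∀ i, cf i = c := fun i => by
    obtain ⟨j, hji⟩ := exists_ne i
    rw [← hef i j hji.symm, hec]
  have hc0 : c ≠ 0 := fun h0 => hne i₀ (S.injective (by rw [hce, hec, h0, zero_smul, map_zero]))
  have hτ : ∀ x, τ (φ x) = φ x := fun x => by
    have h1 := hS (x • ev F₀ i₀) (ev F₀ i₁) (by rw [QuadraticMap.map_smul, q_ev, smul_zero])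
      (q_ev i₁) (by rw [polar_smul_left, pee, smul_zero]) (fv F i₀)
    rw [emb_smul, he, he] at h1
    simp only [hce, hec, hcf, hfc, polar_smul_left, polar_smul_right, hEF, smul_eq_mul, mul_one,
      if_true, if_neg h01.symm, map_zero, mul_zero, zero_mul, zero_smul, sub_zero, smul_smul] at h1
    exact mul_right_cancel₀ hc0 ((smul_left_injective F (hne i₁) h1).trans (mul_comm _ _))
  refine ⟨hτ, c, ?_⟩
  have hzcol : ∀ j, S (zv F j) = c • zv F j := by
    intro j
    set κ := Q₀ (zv F₀ j) with hκ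
    set w := zv F₀ j + ev F₀ i₀ + (-κ) • fv F₀ i₀ with hw
    have p1 : polar Q₀ (zv F₀ j) (ev F₀ i₀) = 0 := by rw [polar_comm, polar_ev]; simp [zv]
    have p2 : polar Q₀ (zv F₀ j) (fv F₀ i₀) = 0 := by rw [polar_comm, polar_fv]; simp [zv]
    have p3 : polar Q₀ (ev F₀ i₀) (fv F₀ i₀) = 1 := by rw [polar_ev]; simp [fv]
    have hqw : Q₀ w = 0 := by
      rw [hw, QuadraticMap.map_add Q₀, QuadraticMap.map_add Q₀, QuadraticMap.map_smul, q_ev, q_fv,
        polar_add_left, polar_smul_right, polar_smul_right, p1, p2, p3, hκ]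
      simp
    have hpw : polar Q₀ (ev F₀ i₁) w = 0 := by
      rw [polar_ev, hw]; simp [zv, ev, fv, h01.symm]
    have h1 := hS _ _ (q_ev i₁) hqw hpw (fv F i₁)
    have hew : emb φ w = zv F j + ev F i₀ + (-φ κ) • fv F i₀ := by
      rw [hw, emb_add, emb_add, emb_smul, hz, he, hf, map_neg]
    have hwf : polar Q (emb φ w) (fv F i₁) = 0 := by
      rw [hew, polar_comm, polar_fv]; simp [zv, ev, fv, h01.symm]
    rw [he] at h1
    simp only [hcf, hfc, hEF, polar_smul_right, hwf, smul_eq_mul, mul_one, mul_zero, if_true,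
      map_one, map_zero, one_smul, zero_smul, sub_zero] at h1
    rw [hew, map_add, map_add, semi_smul, hce, hec, hcf, hfc, map_neg, hτ, smul_add, smul_add,
      smul_comm c] at h1
    exact add_right_cancel (add_right_cancel h1)
  refine Matrix.ext_of_mulVec_single fun t => ?_
  have hcol : S (Pi.single t 1) = g.1 *ᵥ Pi.single t 1 := by
    rw [hSdef, semi_apply]
    congr 1
    funext l
    rcases eq_or_ne l t with rfl | hl <;> simp [*]
  rw [Matrix.smul_mulVec, Matrix.one_mulVec, ← hcol]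
  rcases t with (i | i) | j
  · exact (hce i).trans (by rw [hec]; rfl)
  · exact (hcf i).trans (by rw [hfc]; rfl)
  · exact hzcol j

/-! ### The normal form -/

/-- A semilinear automorphism of prime order is conjugate to a standard one over fixed coefficients. -/
theorem normal_form (hm : 3 ≤ m) (hab : OrthUnitaryForms.IsAniso a b) {g : GL I F} {σ : F ≃+* F}
    (hp : IsSemisimilarityPair ⇑(QuadClassify.qMinus m F a b) g σ)
    (he : semiAut (AutOrth45Forms.good_minus hm hab) g σ hp ^ orderOf σ = 1) :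
    ∃ (a' b' : F) (hab' : OrthUnitaryForms.IsAniso a' b') (_ : σ a' = a') (_ : σ b' = b')
      (hp' : IsSemisimilarityPair ⇑(QuadClassify.qMinus m F a' b') (1 : GL I F) σ)
      (ψ : POmega F ⇑(QuadClassify.qMinus m F a b) ≃* POmega F ⇑(QuadClassify.qMinus m F a' b')),
      MulAut.congr ψ (semiAut (AutOrth45Forms.good_minus hm hab) g σ hp) =
        semiAut (AutOrth45Forms.good_minus hm hab') 1 σ hp' := by
  classical
  set h := AutOrth45Forms.good_minus (F := F) hm hab
  obtain ⟨g₁, hp₁, -, ea, -, hit⟩ := AutOrth45Coset.scalar_adjust h hp he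
  set Q := QuadClassify.qMinus m F a b with hQdef
  obtain ⟨c, hc⟩ := id hp₁
  have hne : ∃ v, Q v ≠ 0 :=
    exists_map_ne_zero (isReg_of_nondegenerate h.nd) (by rw [Module.finrank_pi]; simp)
  obtain ⟨B, y, q, D⟩ := exists_desc h.nd hne σ g₁ (fun v => hc v) c.ne_zero hit
  obtain ⟨k, e, f, W, hd, hW⟩ := QuadClassify.exists_decomp q D.nd
  have hdim : finrank (fixF σ) (I → fixF σ) = 2 * m + 2 := by
    rw [Module.finrank_pi]; simp; omega
  have hkW : 2 * k + finrank (fixF σ) W = 2 * m + 2 := by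
    have := hd.2.2.2.2.2.1
    rwa [finrank_top, hdim] at this
  obtain hk | hk : k = m + 1 ∨ k = m := by omega
  · subst hk
    exfalso
    have H := D.hyp hd.1
    set E := fun i => B.1 *ᵥ incl σ (e i)
    set Fv := fun i => y⁻¹ • (B.1 *ᵥ incl σ (f i))
    refine not_lagr (by omega) hab (LinearMap.range (Fintype.linearCombination F E)) ⟨?_, ?_⟩
    · rintro _ ⟨x, rfl⟩
      have := H.value 0 (fun i => polar_zero_right _ _) (fun i => polar_zero_right _ _) x 0
      simpa [Fintype.linearCombination_apply] using this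
    · rw [LinearMap.finrank_range_of_inj, Module.finrank_pi, Module.finrank_pi]
      · simp; omega
      · rw [← LinearMap.ker_eq_bot, LinearMap.ker_eq_bot']
        intro x hx
        funext i
        have e1 := congrArg (fun v => polar Q (Fv i) v) hx
        rw [Fintype.linearCombination_apply, ← polarBilin_apply_apply, map_sum] at e1
        simpa [H.pef, polar_comm Q (Fv i) (E _), Finset.sum_ite_eq'] using e1
  subst k
  have hW2 : finrank (fixF σ) W = 2 := by omega
  obtain ⟨ζ, hζ⟩ : ∃ ζ : fixF σ, ∀ t : fixF σ, t ^ 2 + t + ζ ≠ 0 := by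
    by_contra hcon
    push Not at hcon
    have hs : Function.Surjective fun t : fixF σ => t ^ 2 + t := fun z => by
      obtain ⟨t, ht⟩ := hcon (-z)
      exact ⟨t, by linear_combination ht⟩
    exact neg_ne_zero.2 one_ne_zero
      (Finite.injective_iff_surjective.2 hs (a₁ := -1) (a₂ := 0) (by simp))
  obtain ⟨g₀, hg₀⟩ := QuadClassify.iso_minus_one q hd hW2 hζ
  set T : GL I (fixF σ) := Matrix.GeneralLinearGroup.toLin.symm
    ((LinearMap.GeneralLinearGroup.generalLinearEquiv (fixF σ) (I → fixF σ)).symm g₀.symm)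
  have hT : ∀ w, T.1 *ᵥ w = g₀.symm w := fun w => by
    have := Matrix.GeneralLinearGroup.toLin_apply T w
    rw [MulEquiv.apply_symm_apply] at this
    exact this.symm
  set M : GL I F := B * Matrix.GeneralLinearGroup.map (fixF σ).subtype T with hM
  have hMi : ∀ w, M.1 *ᵥ incl σ w = B.1 *ᵥ incl σ (g₀.symm w) := fun w => by
    rw [hM, Units.val_mul, ← Matrix.mulVec_mulVec]
    congr 1
    funext i
    rw [← hT]
    exact ((fixF σ).subtype.map_mulVec T.1 w i).symm
  set Q₁ := QuadClassify.qMinus m F 1 (ζ : F) with hQ₁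
  have hMform : ∀ v, Q (M.1 *ᵥ v) = y * Q₁ v := by
    have h0 : ∀ w : I → fixF σ, Q (M.1 *ᵥ incl σ w) = y * Q₁ (incl σ w) := fun w => by
      rw [hMi, D.val, ← hg₀, g₀.apply_symm_apply, ← QuadClassify.qMinus_apply,
        show ((QuadClassify.qMinus m (fixF σ) 1 ζ w : fixF σ) : F) = Q₁ (incl σ w) from by
          have := map_qMinus (fixF σ).subtype 1 ζ w
          rw [map_one] at this
          exact this]
    have hform : Q.comp (Matrix.mulVecLin M.1) = y • Q₁ := by
      refine form_ext' _ _ (fun i => ?_) (fun i j => ?_) <;>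
        simp only [QuadraticMap.comp_apply, Matrix.mulVecLin_apply, QuadraticMap.smul_apply,
          smul_eq_mul, ← incl_single σ, ← incl_add] <;> exact h0 _
    intro v
    simpa using QuadraticMap.congr_fun hform v
  have hab' : OrthUnitaryForms.IsAniso (1 : F) (ζ : F) := by
    by_contra hcon
    obtain ⟨z₁, z₂, hz, hne'⟩ : ∃ z₁ z₂ : F, z₁ ^ 2 + 1 * z₁ * z₂ + (ζ : F) * z₂ ^ 2 = 0 ∧
        ¬ (z₁ = 0 ∧ z₂ = 0) := by
      by_contra hno; push Not at hno; exact hcon fun z₁ z₂ hz => hno z₁ z₂ hz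
    let L : (Fin m → F) × F →ₗ[F] (I → F) :=
      LinearMap.pi (Sum.elim (Sum.elim (fun i => (LinearMap.proj i).comp (LinearMap.fst F _ _))
        fun _ => 0) ![z₁ • LinearMap.snd F _ _, z₂ • LinearMap.snd F _ _])
    have hL : ∀ x, L x = Sum.elim (Sum.elim x.1 0) ![z₁ * x.2, z₂ * x.2] := fun x => by
      funext i
      rcases i with (i | i) | i
      · rfl
      · rfl
      · fin_cases i <;> rfl
    have hLinj : Function.Injective L := by
      rw [← LinearMap.ker_eq_bot, LinearMap.ker_eq_bot']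
      intro x hx
      rw [hL] at hx
      refine Prod.ext (funext fun i => congrFun hx (.inl (.inl i))) ?_
      have h1 : z₁ * x.2 = 0 := congrFun hx (.inr 0)
      have h3 : z₂ * x.2 = 0 := congrFun hx (.inr 1)
      by_contra hx2
      exact hne' ⟨(mul_eq_zero.1 h1).resolve_right hx2, (mul_eq_zero.1 h3).resolve_right hx2⟩
    refine not_lagr (by omega) hab (LinearMap.range (M.1.mulVecLin ∘ₗ L)) ⟨?_, ?_⟩
    · rintro _ ⟨x, rfl⟩
      rw [LinearMap.comp_apply, Matrix.mulVecLin_apply, hMform, hL]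
      refine mul_eq_zero_of_right _ ?_
      simp [hQ₁, QuadClassify.qMinus_apply, Cfsg.quadFormMinus, Cfsg.quadFormPlus]
      linear_combination x.2 ^ 2 * hz
    · rw [LinearMap.finrank_range_of_inj]
      · simp; omega
      · exact (Matrix.mulVec_injective_iff_isUnit.2 M.isUnit).comp hLinj
  obtain ⟨L, hL⟩ := AutOrth45MinusClass.exists_isometry m hab hab'
  set h' := AutOrth45Forms.good_minus (F := F) hm hab'
  have hp' : IsSemisimilarityPair ⇑Q₁ (1 : GL I F) σ := ⟨1, fun v => by
    have e := map_qMinus (σ : F →+* F) (1 : F) (ζ : F) v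
    rw [RingEquiv.coe_toRingHom, map_one, show σ (ζ : F) = ζ from ζ.2] at e
    rw [Units.val_one, Units.val_one, Matrix.one_mulVec, one_mul, e]⟩
  set g' : GL I F := L * g₁ * Matrix.GeneralLinearGroup.map (σ : F →+* F) L⁻¹ with hg'
  have hsemi : ∀ v, semi g' σ (L.1 *ᵥ v) = L.1 *ᵥ semi g₁ σ v := fun v => by
    rw [semi_apply, semi_apply, Matrix.mulVec_mulVec, ← map_mulVec_comp, Matrix.mulVec_mulVec,
      show g'.1 * L.1.map σ = (L * g₁ : GL I F).1 from ?_]
    · rfl
    · rw [hg', show L.1.map σ = (Matrix.GeneralLinearGroup.map (σ : F →+* F) L).1 from rfl,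
        ← Units.val_mul, mul_assoc, ← map_mul, inv_mul_cancel, map_one, mul_one]
  have hpg' : IsSemisimilarityPair ⇑Q₁ g' σ := ⟨c, fun u => by
    obtain ⟨v, rfl⟩ : ∃ v, L.1 *ᵥ v = u := Matrix.mulVec_surjective_iff_isUnit.2 L.isUnit u
    show Q₁ (semi g' σ (L.1 *ᵥ v)) = c * σ (Q₁ (L.1 *ᵥ v))
    rw [hsemi, hL, hL]
    exact hc v⟩
  have hbsim : (L * M : GL I F) ∈ Sim Q₁ := ⟨Units.mk0 y D.y_ne, fun v => by
    rw [Units.val_mul, ← Matrix.mulVec_mulVec, hL, hMform]; rfl⟩
  have hb : ∀ v, semi g' σ ((L * M : GL I F).1 *ᵥ v) = (L * M : GL I F).1 *ᵥ semi 1 σ v := by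
    intro v
    rw [Units.val_mul, ← Matrix.mulVec_mulVec, ← Matrix.mulVec_mulVec, hsemi]
    congr 1
    rw [hM, Units.val_mul, ← Matrix.mulVec_mulVec, ← Matrix.mulVec_mulVec, D.base]
    congr 1
    rw [← map_mulVec_comp, semi_apply, Units.val_one, Matrix.one_mulVec]
    congr 1
    exact Matrix.ext fun i j => (T.1 i j).2
  have hcc := AutOrth45Coset.conj_of_intertwine h' hpg' hp' ⟨_, hbsim⟩ hb
  have hcongr : MulAut.congr (AutOrth45Congr.congrP L hL) (semiAut h g₁ σ hp₁) =
      semiAut h' g' σ hpg' := by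
    refine (induced_iff h' g' σ hpg' _).1 fun s s' hs => ?_
    obtain ⟨t, rfl⟩ := (AutOrth45Congr.omegaEquiv L hL).surjective s
    obtain ⟨t', ht', -⟩ := exists_image h g₁ σ hp₁ t
    have h1 : semiAut h g₁ σ hp₁ (QuotientGroup.mk t) = QuotientGroup.mk t' :=
      (induced_iff h g₁ σ hp₁ _).2 rfl t t' ht'
    show AutOrth45Congr.congrP L hL (semiAut h g₁ σ hp₁
      ((AutOrth45Congr.congrP L hL).symm (QuotientGroup.mk _))) = _
    rw [← AutOrth45Congr.congrP_mk L hL t, MulEquiv.symm_apply_apply, h1, AutOrth45Congr.congrP_mk]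
    congr 1
    refine Subtype.ext (Subtype.ext (Units.ext ?_))
    refine Eq.trans ?_ hs.symm
    show (L.1 * mat t'.1 * (L⁻¹ : GL I F).1) =
      g'.1 * (L.1 * mat t.1 * (L⁻¹ : GL I F).1).map σ * (g'⁻¹ : GL I F).1
    rw [ht', hg']
    show ((L : GL I F).1 * (g₁.1 * (mat t.1).map σ * (g₁⁻¹ : GL I F).1) * (L⁻¹ : GL I F).1) = _
    simp only [mul_inv_rev, map_inv, inv_inv, Units.val_mul, ← RingEquiv.coe_toRingHom, Matrix.map_mul]
    show _ = L.1 * g₁.1 * ((Matrix.GeneralLinearGroup.map (σ : F →+* F) L)⁻¹ : GL I F).1 *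
      ((Matrix.GeneralLinearGroup.map (σ : F →+* F) L).1 * (mat t.1).map (σ : F →+* F) *
        (Matrix.GeneralLinearGroup.map (σ : F →+* F) L⁻¹).1) *
      ((Matrix.GeneralLinearGroup.map (σ : F →+* F) L).1 * ((g₁⁻¹ : GL I F).1 * (L⁻¹ : GL I F).1))
    rw [map_inv]
    simp only [mul_assoc, Units.inv_mul_cancel_left]
  refine ⟨1, ζ, hab', map_one σ, ζ.2, hp',
    (AutOrth45Congr.congrP L hL).trans (conjP Q₁ ⟨_, hbsim⟩).symm, ?_⟩
  rw [← ea]
  have e1 : MulAut.congr ((AutOrth45Congr.congrP L hL).trans (conjP Q₁ ⟨_, hbsim⟩).symm)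
      (semiAut h g₁ σ hp₁) = (conjP Q₁ ⟨_, hbsim⟩)⁻¹ *
        MulAut.congr (AutOrth45Congr.congrP L hL) (semiAut h g₁ σ hp₁) * conjP Q₁ ⟨_, hbsim⟩ :=
    MulEquiv.ext fun z => rfl
  rw [e1, hcongr, mul_assoc, hcc, inv_mul_cancel_left]

/-! ### Balance for the standard field automorphism -/

/-- Fourth powers of similarities are isometries in `Ω` up to scalars. -/
theorem pow_four_mem {ι : Type} [Fintype ι] [DecidableEq ι] {Q : QuadraticForm F (ι → F)}
    (hQ : (polarBilin Q).Nondegenerate) (hn : Fintype.card ι ≠ 4) (d : Sim Q) :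
    ∃ (l : Fˣ) (s : Omega F ⇑Q),
      d ^ 4 = scalarOf Q l * Subgroup.inclusion (isometry_le_sim Q) s.1 := by
  obtain ⟨c, hc⟩ := id d.2
  set e : Sim Q := scalarOf Q c⁻¹ * (d * d) with he
  have hiso : (e : GL ι F) ∈ isometryGroup F ⇑Q := fun v _ => by
    show Q ((e : GL ι F).1 *ᵥ v) = Q v
    rw [he, Subgroup.coe_mul, Units.val_mul, Subgroup.coe_mul, Units.val_mul, scalarOf_coe,
      Matrix.smul_mul, Matrix.one_mul, Matrix.smul_mulVec, QuadraticMap.map_smul,
      ← Matrix.mulVec_mulVec, hc, hc, smul_eq_mul, Units.val_inv_eq_inv_val]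
    field_simp
  set o := iso Q ⟨_, hiso⟩
  have hgen : reflGroup Q = ⊤ :=
    reflGroup_eq_top (isReg_of_nondegenerate hQ) (Or.inr (by rw [Module.finrank_pi]; exact hn))
  have hsq : ∀ z : orth Q, Abelianization.of z * Abelianization.of z = 1 := by
    intro z
    have hz : z ∈ reflGroup Q := hgen ▸ Subgroup.mem_top z
    induction hz using Subgroup.closure_induction with
    | mem z hz =>
      obtain ⟨v, hv, rfl⟩ := hz
      rw [← map_mul, refl_sq, map_one]
    | one => simp
    | mul x z _ _ hx hz =>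
      rw [map_mul, mul_mul_mul_comm, hx, hz, one_mul]
    | inv x _ hx => rw [map_inv, ← mul_inv_rev, hx, inv_one]
  have hmem : o * o ∈ commutator (orth Q) := by
    rw [← Abelianization.ker_of, MonoidHom.mem_ker, map_mul]
    exact hsq o
  refine ⟨c * c, ⟨⟨_, hiso⟩ * ⟨_, hiso⟩, (mem_Omega_iff _).2 (by rw [map_mul]; exact hmem)⟩, ?_⟩
  have hcomm : ∀ (l : Fˣ) (x : Sim Q), scalarOf Q l * x = x * scalarOf Q l := fun l x =>
    Subtype.ext (Units.ext (by simp [scalarOf_coe]))
  have hmul : ∀ x y : Fˣ, scalarOf Q x * scalarOf Q y = scalarOf Q (x * y) := fun x y =>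
    Subtype.ext (Units.ext (by simp [scalarOf_coe, smul_smul, mul_comm (x : F)]))
  have h1 : scalarOf Q 1 = (1 : Sim Q) := Subtype.ext (Units.ext (by simp [scalarOf_coe]))
  have hdd : d * d = scalarOf Q c * e := by
    rw [he, ← mul_assoc, hmul, mul_inv_cancel, h1, one_mul]
  rw [show d ^ 4 = d * d * (d * d) by simp [pow_succ, mul_assoc], hdd, map_mul, ← hmul]
  show _ = scalarOf Q c * scalarOf Q c * (e * e)
  rw [mul_assoc, ← mul_assoc e, ← hcomm c e]
  simp only [mul_assoc]

/-- The criterion for a standard field automorphism. -/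
theorem balance (hm : 3 ≤ m) (hab : OrthUnitaryForms.IsAniso a b) (σ : F ≃+* F) (ha : σ a = a)
    (hb : σ b = b) (hp' : IsSemisimilarityPair ⇑(QuadClassify.qMinus m F a b) (1 : GL I F) σ)
    {p : ℕ} [Fact p.Prime] (hσ : orderOf σ = p)
    (A : Subgroup (MulAut (POmega F ⇑(QuadClassify.qMinus m F a b))))
    (hinn : ∀ k : POmega F ⇑(QuadClassify.qMinus m F a b), MulAut.conj k ∈ A) :
    Cfsg.pPrimeCore p
        ↥(A ⊓ Subgroup.centralizer {semiAut (AutOrth45Forms.good_minus hm hab) 1 σ hp'}) ≠ ⊥ ↔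
      Nat.Coprime p (Nat.card ↥(MonoidHom.eqLocus
        (semiAut (AutOrth45Forms.good_minus hm hab) 1 σ hp').toMonoidHom
        (MonoidHom.id (POmega F ⇑(QuadClassify.qMinus m F a b))))) := by
  classical
  set Q := QuadClassify.qMinus m F a b with hQdef
  set h := AutOrth45Forms.good_minus (F := F) hm hab
  set f := semiAut h 1 σ hp' with hf
  haveI : Finite (MulAut (POmega F ⇑Q)) :=
    Finite.of_injective (fun α => (α : POmega F ⇑Q → POmega F ⇑Q)) DFunLike.coe_injective
  haveI : Fintype (fixF σ) := Fintype.ofFinite _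
  set φ := (fixF σ).subtype
  let a₀ : fixF σ := ⟨a, ha⟩
  let b₀ : fixF σ := ⟨b, hb⟩
  have hfix : ∀ x, σ x = x ↔ x ∈ φ.range :=
    fun x => ⟨fun hx => ⟨⟨x, hx⟩, rfl⟩, by rintro ⟨z, rfl⟩; exact z.2⟩
  have hab₀ : OrthUnitaryForms.IsAniso a₀ b₀ := fun z₁ z₂ hz => by
    obtain ⟨e1, e2⟩ := hab (z₁ : F) (z₂ : F) (congrArg Subtype.val hz)
    exact ⟨Subtype.ext e1, Subtype.ext e2⟩
  set h₀ := AutOrth45Forms.good_minus (F := fixF σ) hm hab₀
  set Q₀ := QuadClassify.qMinus m (fixF σ) a₀ b₀ with hQ₀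
  have hQ : ∀ v, Q (emb φ v) = φ (Q₀ v) := fun v => by rw [map_qMinus]; rfl
  haveI hsimp : IsSimpleGroup (POmega (fixF σ) ⇑Q₀) := by
    rw [hQ₀, QuadClassify.qMinus_coe]
    exact OrthUnitarySimpleStd.isSimpleGroup_POmega _ _ (OrthUnitaryForms.eqMinus m)
      (OrthUnitaryForms.eqMinus_isometry m a₀ b₀)
      (OrthUnitaryStd.nondegenerate_withBase (OrthUnitaryStd.nondegenerate_qfBin hab₀) m)
      (by rw [OrthUnitaryStd.finrank_withBase_space, Module.finrank_fintype_fun_eq_card]; simp; omega)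
  have hn5 : 5 ≤ Fintype.card ((Fin m ⊕ Fin m) ⊕ Fin 2) := AutOrth45Coset.five_le h
  set rat := AutOrth45Centralizer.rat hQ
  let X₀ : isometryGroup (fixF σ) ⇑Q₀ →* isometryGroup F ⇑Q :=
    MonoidHom.codRestrict ((Sim Q).subtype.comp (rat.comp (Subgroup.inclusion (isometry_le_sim Q₀))))
      _ fun s v _ => by
      have key : Q.comp (Matrix.mulVecLin ((s : GL I (fixF σ)).1.map φ)) = Q := by
        have h0 : ∀ w, Q ((s : GL I (fixF σ)).1.map φ *ᵥ emb φ w) = Q (emb φ w) := fun w => by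
          rw [← emb_mulVec, hQ, hQ]
          exact congrArg φ (s.2 w w)
        refine form_ext' _ _ (fun i => ?_) (fun i j => ?_) <;>
          simp only [QuadraticMap.comp_apply, Matrix.mulVecLin_apply, ← emb_single φ, ← emb_add] <;>
          exact h0 _
      exact QuadraticMap.congr_fun key v
  let ρ : Omega (fixF σ) ⇑Q₀ →* MulAut (POmega F ⇑Q) :=
    (conjP Q).comp ((rat.comp (Subgroup.inclusion (isometry_le_sim Q₀))).comp
      (Omega (fixF σ) ⇑Q₀).subtype)
  have hρinn : ∀ s, ρ s = MulAut.conj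
      (QuotientGroup.mk ⟨X₀ s.1, OrthModelKill52.map_mem_Omega X₀ s.2⟩ : POmega F ⇑Q) := fun s =>
    conjP_omega Q ⟨X₀ s.1, OrthModelKill52.map_mem_Omega X₀ s.2⟩
  have hker : ∀ s : Omega (fixF σ) ⇑Q₀, ρ s = 1 ↔
      (QuotientGroup.mk s : POmega (fixF σ) ⇑Q₀) = 1 := by
    intro s
    haveI : Nonempty I := Fintype.card_pos_iff.1 (by omega)
    have e0 : ρ s = 1 ↔ Subgroup.inclusion (isometry_le_sim Q₀) s.1 ∈ scalarSim Q₀ := by
      rw [← MonoidHom.mem_ker (f := ρ), ← AutOrth45Centralizer.rat_scalar hQ,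
        ← ker_conjP Q h.nd hn5]
      rfl
    rw [e0, ← ker_conjP Q₀ h₀.nd hn5, MonoidHom.mem_ker,
      show conjP Q₀ (Subgroup.inclusion (isometry_le_sim Q₀) s.1) = MulAut.conj (QuotientGroup.mk s)
        from conjP_omega Q₀ s]
    constructor
    · intro e
      refine (QuotientGroup.eq_one_iff s).2 (Subgroup.mem_center_iff.2 fun t => ?_)
      have h1 : Subgroup.inclusion (isometry_le_sim Q₀) s.1 ∈ scalarSim Q₀ := by
        rw [← ker_conjP Q₀ h₀.nd hn5, MonoidHom.mem_ker,
          show conjP Q₀ (Subgroup.inclusion (isometry_le_sim Q₀) s.1) =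
            MulAut.conj (QuotientGroup.mk s) from conjP_omega Q₀ s, e]
      obtain ⟨l, hl, -⟩ := (mem_scalarSim Q₀).1 h1
      refine Subtype.ext (Subtype.ext (Units.ext ?_))
      have hl' : mat s.1 = l • 1 := hl
      show mat t.1 * mat s.1 = mat s.1 * mat t.1
      rw [hl', Matrix.mul_smul, Matrix.mul_one, Matrix.smul_mul, Matrix.one_mul]
    · intro e; rw [e, map_one]
  let φr : POmega (fixF σ) ⇑Q₀ →* MulAut (POmega F ⇑Q) :=
    QuotientGroup.lift _ ρ fun s hs => (hker s).2 ((QuotientGroup.eq_one_iff s).2 hs)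
  have hφinj : Function.Injective φr := by
    rw [injective_iff_map_eq_one]
    intro z hz
    obtain ⟨s, rfl⟩ := QuotientGroup.mk_surjective z
    exact (hker s).1 hz
  set M := BalanceGeneric52.innCent f with hM
  have hrc : ∀ d : Sim Q₀, Commute f (conjP Q (rat d)) :=
    AutOrth45Centralizer.rat_commute hQ h hfix hp'
  have hφM : ∀ z, φr z ∈ M := fun z => by
    obtain ⟨s, rfl⟩ := QuotientGroup.mk_surjective z
    refine ⟨⟨_, (hρinn s).symm⟩, Subgroup.mem_centralizer_singleton_iff.2 ?_⟩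
    exact ((hrc _).eq).symm
  have hinnle : Inn (POmega F ⇑Q) ≤ (conjP Q).range := by
    rw [inn_eq]; exact Subgroup.map_le_range _ _
  have hne₀ : ∃ v, Q₀ v ≠ 0 :=
    exists_map_ne_zero (isReg_of_nondegenerate h₀.nd) (by rw [Module.finrank_pi]; omega)
  have hMrat : ∀ β ∈ M, ∃ d₀ : Sim Q₀, β = conjP Q (rat d₀) := by
    intro β hβ
    obtain ⟨d, rfl⟩ := hinnle hβ.1
    obtain ⟨y, d₀, rfl⟩ := AutOrth45Centralizer.exists_rat_of_commute hQ h hfix hp' hne₀
      (d := d) (Subgroup.mem_centralizer_singleton_iff.1 hβ.2)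
    exact ⟨d₀, by rw [map_mul, MonoidHom.mem_ker.1 (scalarSim_le_ker Q (scalarOf_mem y)), one_mul]⟩
  have hnorm : ∀ β ∈ M, ∀ z, ∃ z', β * φr z * β⁻¹ = φr z' := by
    intro β hβ z
    obtain ⟨d, rfl⟩ := hMrat β hβ
    obtain ⟨s, rfl⟩ := QuotientGroup.mk_surjective z
    refine ⟨QuotientGroup.mk (omegaConj Q₀ d s), ?_⟩
    have e : Subgroup.inclusion (isometry_le_sim Q₀) (omegaConj Q₀ d s).1 =
        d * Subgroup.inclusion (isometry_le_sim Q₀) s.1 * d⁻¹ := Subtype.ext (omegaConj_coe Q₀ d s)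
    show conjP Q (rat d) * ρ s * (conjP Q (rat d))⁻¹ = ρ (omegaConj Q₀ d s)
    show _ = conjP Q (rat (Subgroup.inclusion (isometry_le_sim Q₀) (omegaConj Q₀ d s).1))
    rw [e, map_mul, map_mul, map_mul, map_mul, map_inv, map_inv]
    rfl
  have hne : ∃ z, φr z ≠ 1 := by
    obtain ⟨z, hz⟩ := exists_ne (1 : POmega (fixF σ) ⇑Q₀)
    exact ⟨z, fun e => hz ((map_eq_one_iff _ hφinj).1 e)⟩
  have hord : orderOf f = p := by
    refine orderOf_eq_prime ?_ fun e => ?_
    · subst hσ
      obtain ⟨k, hk, e1, e2⟩ := semiAut_pow h hp' (orderOf σ)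
      have hσ1 : σ ^ orderOf σ = RingEquiv.refl F := pow_orderOf_eq_one σ
      generalize σ ^ orderOf σ = τ at hk e1 e2 hσ1
      subst hσ1
      have hk1 : k = (1 : GL I F) := AutOrth45Coset.semi_ext (σ := RingEquiv.refl F) fun v => by
        rw [e2]
        have key : ∀ j, (semi (1 : GL I F) σ)^[j] v = fun i => (σ ^ j) (v i) := by
          intro j
          induction j with
          | zero => rfl
          | succ j ih =>
            rw [Function.iterate_succ_apply', ih, semi_apply, Units.val_one, Matrix.one_mulVec]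
            funext i
            rw [pow_succ', RingAut.mul_apply]
        rw [key, pow_orderOf_eq_one, semi_apply, Units.val_one, Matrix.one_mulVec]
        rfl
      subst hk1
      rw [hf, e1]
      have h1 := conjP_eq h (1 : Sim Q)
      rw [map_one] at h1
      exact h1.symm
    · have := semiAut_eq_one h hp' e
      rw [show σ = 1 from this, orderOf_one] at hσ
      exact (Fact.out : p.Prime).ne_one hσ.symm
  have hp2 : p ≠ 2 := by
    rintro rfl
    obtain ⟨x, hx⟩ : ∃ x, σ x ≠ x := by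
      by_contra hno
      push Not at hno
      rw [show σ = 1 from RingEquiv.ext hno, orderOf_one] at hσ
      omega
    have hσσ : ∀ z, σ (σ z) = z := fun z => by
      have e := pow_orderOf_eq_one σ
      rw [hσ, pow_two] at e
      exact RingEquiv.congr_fun e z
    have hd : x - σ x ≠ 0 := sub_ne_zero.2 (Ne.symm hx)
    have hb' : ∀ z, σ ((z - σ z) / (x - σ x)) = (z - σ z) / (x - σ x) := fun z => by
      rw [map_div₀, map_sub, map_sub, hσσ, hσσ, ← neg_sub z, ← neg_sub x, neg_div_neg_eq]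
    have ha' : ∀ z, σ (z - (z - σ z) / (x - σ x) * x) = z - (z - σ z) / (x - σ x) * x := fun z => by
      rw [map_sub, map_mul, hb']
      field_simp
      ring
    let E : (fixF σ × fixF σ) →ₗ[fixF σ] F :=
      (LinearMap.toSpanSingleton (fixF σ) F 1).coprod (LinearMap.toSpanSingleton (fixF σ) F x)
    have hE : ∀ u w : fixF σ, E (u, w) = (u : F) + (w : F) * x := fun u w => by
      simp [E, Algebra.smul_def]
      rfl
    have hbij : Function.Bijective E := by
      refine ⟨?_, fun z => ⟨(⟨_, ha' z⟩, ⟨_, hb' z⟩), by rw [hE]; ring⟩⟩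
      rw [← LinearMap.ker_eq_bot, LinearMap.ker_eq_bot']
      rintro ⟨u, w⟩ huw
      rw [hE] at huw
      have hw : (w : F) = 0 := by
        by_contra hw0
        refine hx ?_
        have hx' : x = -(u : F) / w := by field_simp; linear_combination huw
        rw [hx', map_div₀, map_neg, show σ (u : F) = u from u.2, show σ (w : F) = w from w.2]
      rw [hw, zero_mul, add_zero] at huw
      exact Prod.ext (Subtype.ext huw) (Subtype.ext hw)
    have hfr : finrank (fixF σ) F = 2 := by
      rw [← (LinearEquiv.ofBijective E hbij).finrank_eq, finrank_prod, finrank_self]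
    obtain ⟨ω, hω⟩ := AutOrth45MinusClass.exists_zero_ext (F := fixF σ) (K := F) hab₀ hfr
    rw [show algebraMap (fixF σ) F a₀ = a from rfl, show algebraMap (fixF σ) F b₀ = b from rfl] at hω
    exact one_ne_zero (hab ω 1 (by linear_combination hω)).2
  have hH : p ∣ Nat.card M → ∀ N : Subgroup (POmega (fixF σ) ⇑Q₀), N.Normal → N ≠ ⊥ → p ∣ Nat.card N := by
    intro hpM N hN hNne
    rw [(IsSimpleGroup.eq_bot_or_eq_top_of_normal N hN).resolve_left hNne, Subgroup.card_top]
    obtain ⟨⟨β, hβM⟩, hβ⟩ := exists_prime_orderOf_dvd_card' p hpM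
    rw [← orderOf_injective M.subtype M.subtype_injective] at hβ
    change orderOf β = p at hβ
    obtain ⟨d, hd⟩ := hMrat β hβM
    obtain ⟨l, s, hs⟩ := pow_four_mem h₀.nd (by simp; omega) d
    have h4 : β ^ 4 = φr (QuotientGroup.mk s) := by
      show β ^ 4 = conjP Q (rat (Subgroup.inclusion (isometry_le_sim Q₀) s.1))
      rw [hd, ← map_pow, ← map_pow, hs, map_mul, map_mul,
        MonoidHom.mem_ker.1 (scalarSim_le_ker Q
          ((AutOrth45Centralizer.rat_scalar hQ _).2 (scalarOf_mem l))), one_mul]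
    have h4o : orderOf (β ^ 4) = p := by
      rw [Nat.Coprime.orderOf_pow, hβ]
      rw [hβ, show (4 : ℕ) = 2 ^ 2 from rfl]
      exact ((Nat.coprime_primes Fact.out Nat.prime_two).2 hp2).pow_right 2
    rw [← h4o, h4, orderOf_injective φr hφinj]
    exact orderOf_dvd_natCard _
  have hcent : ∀ β, (∀ z, Commute β (φr z)) → β ∈ Subgroup.zpowers f := by
    intro β hβ
    obtain ⟨τ, g, hp, rfl⟩ := exists_semiAut h β
    haveI : Nonempty I := Fintype.card_pos_iff.1 (by omega)
    obtain ⟨hτ, c, hc⟩ := rigid φ (a₀ := a₀) (b₀ := b₀) rfl rfl hm g τ fun u w hu hw huw => by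
      set s := (toS h₀).symm (h₀.sg u w)
      set d : Sim Q := rat (Subgroup.inclusion (isometry_le_sim Q₀) s.1)
      obtain ⟨d', hd'⟩ := exists_moved hp d
      have h1 := semiAut_mul_sim h hp d d' hd'
      rw [(show Commute _ (conjP Q d) from hβ (QuotientGroup.mk s)).eq, mul_left_inj] at h1
      have h3 : d' * d⁻¹ ∈ (conjP Q).ker := by
        rw [MonoidHom.mem_ker, map_mul, map_inv, ← h1, mul_inv_cancel]
      rw [ker_conjP Q h.nd hn5, mem_scalarSim] at h3
      obtain ⟨l, hl, hl0⟩ := h3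
      have h4 : (d' : GL I F).1 = l • (d : GL I F).1 := by
        rw [show d' = d' * d⁻¹ * d by group, Subgroup.coe_mul, Units.val_mul, hl, Matrix.smul_mul,
          Matrix.one_mul]
      set u' := emb φ u
      set w' := emb φ w
      have hu' : Q u' = 0 := by rw [hQ, hu, map_zero]
      have hw' : Q w' = 0 := by rw [hQ, hw, map_zero]
      have huw' : polar Q u' w' = 0 := by rw [polar_emb φ hQ, huw, map_zero]
      let op₀ : (I → fixF σ) →ₗ[fixF σ] (I → fixF σ) :=
        (polarBilin Q₀ u).smulRight w - (polarBilin Q₀ w).smulRight u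
      have happ : ∀ v, (d : GL I F).1 *ᵥ v = v + op Q u' w' v := by
        have hsv : ∀ x, mat s.1 *ᵥ x = x + op₀ x := fun x => by
          rw [← toS_apply h₀ s x, MulEquiv.apply_symm_apply, h₀.sg_app hu huw, hw, zero_mul, add_zero]
          simp [op₀]
          abel
        intro v
        let D' : (I → F) →ₗ[F] (I → F) := LinearMap.id +
          ((polarBilin Q u').smulRight w' - (polarBilin Q w').smulRight u')
        have hD' : ∀ v, D' v = v + op Q u' w' v := fun v => by simp [D', op]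
        rw [← hD']
        refine LinearMap.congr_fun (f := Matrix.mulVecLin (d : GL I F).1) (g := D') ?_ v
        refine (Pi.basisFun F I).ext fun i => ?_
        rw [Pi.basisFun_apply, Matrix.mulVecLin_apply, hD', ← emb_single φ i]
        show ((Subgroup.inclusion (isometry_le_sim Q₀) s.1 : Sim Q₀) : GL I (fixF σ)).1.map φ *ᵥ _ = _
        rw [← emb_mulVec]
        show emb φ (mat s.1 *ᵥ _) = _
        rw [hsv, emb_add]
        congr 1
        simp only [op₀, op, LinearMap.sub_apply, LinearMap.smulRight_apply, polarBilin_apply_apply,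
          polar_emb φ hQ, u', w']
        rw [sub_eq_add_neg, emb_add, ← neg_one_smul (fixF σ), emb_smul, emb_smul, emb_smul]
        simp [sub_eq_add_neg]
      refine commute_of_twist (N := op Q u' w') (fun v v' => ?_) (fun t v => ?_)
        (fun v => op_sq u' w' v hu' hw' huw') hl0 fun v => ?_
      · simp only [op, polar_add_right, add_smul]; abel
      · simp only [op, polar_smul_right, smul_sub, smul_smul, smul_eq_mul]
      · rw [← happ, ← happ, hd', h4, Matrix.smul_mulVec]
    obtain ⟨k, hk⟩ : τ ∈ Submonoid.powers σ := by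
      haveI : Finite (F ≃+* F) := Finite.of_injective _ DFunLike.coe_injective
      exact (isOfFinOrder_of_finite σ).mem_powers_iff_mem_zpowers.2
        (AutPSpBalance.galois_fix σ τ fun x hx => hτ ⟨x, hx⟩)
    obtain ⟨k', hk', e1, e2⟩ := semiAut_pow h hp' k
    refine ⟨k, ?_⟩
    show f ^ (k : ℤ) = _
    rw [zpow_natCast, hf, e1]
    replace hk : σ ^ k = τ := hk
    generalize σ ^ k = τ' at hk' e1 e2 hk
    subst hk
    have hk1 : k' = (1 : GL I F) := AutOrth45Coset.semi_ext (σ := τ') fun v => by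
      rw [e2]
      have key : ∀ j, ∃ ρ' : F ≃+* F, ρ' = σ ^ j ∧
          (semi (1 : GL I F) σ)^[j] v = fun i => ρ' (v i) := by
        intro j
        induction j with
        | zero => exact ⟨1, (pow_zero σ).symm, rfl⟩
        | succ j ih =>
          obtain ⟨ρ', hρ', ih⟩ := ih
          refine ⟨σ * ρ', by rw [hρ', pow_succ'], ?_⟩
          rw [Function.iterate_succ_apply', ih, semi_apply, Units.val_one, Matrix.one_mulVec]
          rfl
      obtain ⟨ρ', hρ', hv⟩ := key k
      rw [hv, semi_apply, Units.val_one, Matrix.one_mulVec, hρ']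
      have hgal : σ ^ k = τ' := by
        rw [← galHom_semiAut h hp', ← map_pow, e1, galHom_semiAut h hk']
      rw [hgal]
    subst hk1
    have hc0 : c ≠ 0 := fun h0 => g.ne_zero (by rw [hc, h0, zero_smul])
    have hcd : g ∈ Sim Q := by
      refine ⟨Units.mk0 (c * c) (mul_ne_zero hc0 hc0), fun v => ?_⟩
      simp only [hc, Matrix.smul_mulVec, Matrix.one_mulVec, QuadraticMap.map_smul]
      rfl
    obtain ⟨hp'', e3⟩ := sim_mul_semiAut h hk' ⟨g, hcd⟩
    have hg1 : conjP Q (⟨g, hcd⟩ : Sim Q) = 1 := by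
      refine scalarSim_le_ker Q ((mem_scalarSim Q).2 ⟨c, hc, fun h0 => g.ne_zero ?_⟩)
      rw [hc, h0, zero_smul]
    rw [hg1, one_mul] at e3
    rw [e3]
    exact semiAut_congr h _ _ (mul_one g) rfl
  have hinj : Function.Injective (MulAut.conj : POmega F ⇑Q →* MulAut (POmega F ⇑Q)) := by
    rw [injective_iff_map_eq_one]
    intro z hz
    obtain ⟨s, rfl⟩ := QuotientGroup.mk_surjective z
    have h1 : Subgroup.inclusion (isometry_le_sim Q) s.1 ∈ (conjP Q).ker :=
      (conjP_omega Q s).trans hz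
    rw [ker_conjP Q h.nd hn5, mem_scalarSim] at h1
    obtain ⟨l, hl, -⟩ := h1
    refine (QuotientGroup.eq_one_iff s).2 (Subgroup.mem_center_iff.2 fun t => ?_)
    refine Subtype.ext (Subtype.ext (Units.ext ?_))
    have hl' : mat s.1 = l • 1 := hl
    show mat t.1 * mat s.1 = mat s.1 * mat t.1
    rw [hl', Matrix.mul_smul, Matrix.mul_one, Matrix.smul_mul, Matrix.one_mul]
  rw [← BalanceGeneric52.card_innCent hinj f]
  exact BalanceCriterion.field_core _ M f φr hφinj (fun β ⟨⟨z, hz⟩, hC⟩ => ⟨hz ▸ hinn z, hC⟩)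
    (fun w hw β hβ => BalanceGeneric52.conj_mem_innCent hw.2 hβ) hφM hcent hord hnorm hne hH

end Minus

end Cfsg.Agent.AutOrthMinus52Field
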