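import Mathlib
import Cfsg.Agent.Lib.OrthModelKill52
import Cfsg.Agent.Lib.AutOrth45InnDiag
import Cfsg.Agent.Lib.AutOrth45Coset

/-!
Odd-dimensional orthogonal models inside a quadratic space, and the semilinear maps respecting them.
-/

set_option autoImplicit false
set_option linter.unusedSectionVars false

namespace Cfsg.Agent.AutOrthMinus52Models

open QuadraticMap Module
open scoped Matrix MatrixGroups
open Cfsg.Agent.OrthUnitaryQuad
open Cfsg.Agent.OrthUnitaryPrelude
open Cfsg.Agent.OrthUnitarySimAut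
open Cfsg.Agent.AutOrth45Api
open Cfsg.Agent.AutOrth45InnDiag
open Cfsg.Agent.AutOrthOdd52Balance (bv)

/-- An odd-dimensional non-degenerate space is similar to the standard one. -/
theorem exists_std {K : Type*} [Field K] [Finite K] {V : Type*} [AddCommGroup V] [Module K V]
    [FiniteDimensional K V] (Q' : QuadraticForm K V) (hQ : (polarBilin Q').Nondegenerate)
    {k : ℕ} (hV : finrank K V = 2 * k + 1) :
    ∃ (e : (Unit ⊕ (Fin k ⊕ Fin k) → K) ≃ₗ[K] V) (c : K), c ≠ 0 ∧
      ∀ a, Q' (e a) = c * QuadClassify.qOdd k K a := by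
  classical
  obtain ⟨k', e, f, W, hd, hW⟩ := QuadClassify.exists_decomp Q' hQ
  obtain ⟨hH, -, -, -, horth, hdim, han, -⟩ := hd
  rw [finrank_top] at hdim
  have hk : k' = k := by omega
  subst hk
  have hW1 : finrank K W = 1 := by omega
  haveI : Nontrivial W := Module.nontrivial_of_finrank_eq_succ hW1
  obtain ⟨z, hz0⟩ : ∃ z : W, z ≠ 0 := exists_ne 0
  have hc : Q' (z : V) ≠ 0 := fun h0 => hz0 (Subtype.ext (han z z.2 h0))
  set c := Q' (z : V)
  have hli : LinearIndependent K (fun _ : Unit => (z : V)) :=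
    linearIndependent_unique_iff.2 fun h0 => hz0 (Subtype.ext h0)
  have hz : ∀ i, polar Q' (e i) z = 0 ∧ polar Q' (f i) z = 0 := fun i => horth i _ z.2
  obtain ⟨b, -, -, -, hval⟩ := hH.exists_basis hli (fun i _ => (hz i).1) (fun i _ => (hz i).2)
    (by simp; omega)
  let T : (Unit ⊕ (Fin k' ⊕ Fin k') → K) ≃ₗ[K] ((Fin k' ⊕ Fin k') ⊕ Unit → K) :=
    { toFun := fun a => Sum.elim (Sum.elim (fun i => a (.inr (.inl i))) fun i => c * a (.inr (.inr i)))
        fun _ => a (.inl ())
      map_add' := fun a a' => by funext t; rcases t with (i | i) | _ <;> simp [mul_add]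
      map_smul' := fun r a => by
        funext t; rcases t with (i | i) | _ <;> simp [mul_left_comm]
      invFun := fun a => Sum.elim (fun _ => a (.inr ()))
        (Sum.elim (fun i => a (.inl (.inl i))) fun i => c⁻¹ * a (.inl (.inr i)))
      left_inv := fun a => by funext t; rcases t with _ | i | i <;> simp [hc]
      right_inv := fun a => by funext t; rcases t with (i | i) | _ <;> simp [hc] }
  refine ⟨T.trans b.equivFun.symm, c, hc, fun a => ?_⟩
  rw [hval]
  simp only [LinearEquiv.trans_apply, ← Basis.equivFun_apply, LinearEquiv.apply_symm_apply,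
    Finset.univ_unique, Finset.sum_singleton, QuadraticMap.map_smul, QuadClassify.qOdd_apply,
    Cfsg.quadFormOdd]
  simp [T, mul_add, Finset.mul_sum, mul_comm, add_comm]
  ring_nf
  simp only [c]
  congr 1
  all_goals first
    | ring1
    | exact Finset.sum_congr rfl fun i _ => by ring

/-! ### Models -/

variable {ι : Type} [Fintype ι] [DecidableEq ι] {F : Type*} [Field F]
  {K : Type*} [Field K] [Algebra F K] {k : ℕ}

local notation "J" => Unit ⊕ (Fin k ⊕ Fin k)

/-- An orthogonal summand carrying a standard odd-dimensional form over an extension. -/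
structure Model (Q : QuadraticForm F (ι → F)) (K : Type*) [Field K] [Algebra F K] (k : ℕ) where
  E : (Unit ⊕ (Fin k ⊕ Fin k) → K) →ₗ[F] (ι → F)
  P : (ι → F) →ₗ[F] (Unit ⊕ (Fin k ⊕ Fin k) → K)
  qv : (ι → F) → K
  u : K
  f : K → F
  u_ne : u ≠ 0
  pe : ∀ a, P (E a) = a
  orth : ∀ a v, polar Q (E a) (v - E (P v)) = 0
  qv_val : ∀ a, qv (E a) = u * QuadClassify.qOdd k K a
  q_val : ∀ a, Q (E a) = f (qv (E a))

variable {Q : QuadraticForm F (ι → F)} (M : Model Q K k)

/-- The component in the complement. -/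
theorem Model.split (v : ι → F) : ∃ w, M.P w = 0 ∧ v = M.E (M.P v) + w :=
  ⟨v - M.E (M.P v), by rw [map_sub, M.pe, sub_self], by abel⟩

theorem Model.q_split (a : J → K) {w : ι → F} (hw : M.P w = 0) :
    Q (M.E a + w) = Q (M.E a) + Q w := by
  rw [QuadraticMap.map_add Q]
  have := M.orth a (M.E a + w)
  rw [map_add, M.pe, hw, add_zero, add_sub_cancel_left] at this
  rw [this, add_zero]

/-- The linear map extending a map of the summand by the identity. -/
def Model.lin (A : Matrix J J K) : Module.End F (ι → F) :=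
  M.E ∘ₗ ((Matrix.mulVecLin A : (J → K) →ₗ[K] (J → K)).restrictScalars F) ∘ₗ M.P
    + ((LinearMap.id : (ι → F) →ₗ[F] (ι → F)) - M.E ∘ₗ M.P)

theorem Model.lin_apply (A : Matrix J J K) (a : J → K) {w : ι → F} (hw : M.P w = 0) :
    M.lin A (M.E a + w) = M.E (A *ᵥ a) + w := by
  simp [Model.lin, hw, M.pe]

/-- Extension by the identity on matrices. -/
def Model.ext : Matrix J J K →* Matrix ι ι F where
  toFun A := LinearMap.toMatrix' (M.lin A)
  map_one' := by
    rw [← LinearMap.toMatrix'_id (R := F) (n := ι)]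
    refine congrArg _ (LinearMap.ext fun v => ?_)
    obtain ⟨w, hw, hv⟩ := M.split v
    rw [hv, M.lin_apply _ _ hw, Matrix.one_mulVec]
    rfl
  map_mul' A B := by
    rw [← LinearMap.toMatrix'_comp]
    refine congrArg _ (LinearMap.ext fun v => ?_)
    obtain ⟨w, hw, hv⟩ := M.split v
    rw [hv, LinearMap.comp_apply, M.lin_apply _ _ hw, M.lin_apply _ _ hw, M.lin_apply _ _ hw,
      Matrix.mulVec_mulVec]

theorem Model.ext_apply (A : Matrix J J K) (a : J → K) {w : ι → F} (hw : M.P w = 0) :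
    M.ext A *ᵥ (M.E a + w) = M.E (A *ᵥ a) + w := by
  show LinearMap.toMatrix' (M.lin A) *ᵥ _ = _
  rw [LinearMap.toMatrix'_mulVec, M.lin_apply _ _ hw]

variable [Fintype K]

/-- The embedding of the isometries of the summand. -/
noncomputable def Model.X :
    isometryGroup K ⇑(QuadClassify.qOdd k K) →* isometryGroup F ⇑Q :=
  MonoidHom.codRestrict (MonoidHom.toHomUnits
    (M.ext.comp ((Units.coeHom (Matrix J J K)).comp
      (isometryGroup K ⇑(QuadClassify.qOdd k K)).subtype))) _ fun s => by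
    intro v _
    show Q (M.ext (mat s) *ᵥ v) = Q v
    obtain ⟨w, hw, hv⟩ := M.split v
    rw [hv, M.ext_apply _ _ hw, M.q_split _ hw, M.q_split _ hw, M.q_val, M.q_val, M.qv_val,
      M.qv_val]
    exact congrArg (fun z => M.f (M.u * z) + Q w) (s.2 (M.P v) (M.P v))

theorem Model.mat_X (s : isometryGroup K ⇑(QuadClassify.qOdd k K)) :
    mat (M.X s) = M.ext (mat s) := rfl

theorem Model.X_apply (s : isometryGroup K ⇑(QuadClassify.qOdd k K)) (a : J → K) {w : ι → F}
    (hw : M.P w = 0) : mat (M.X s) *ᵥ (M.E a + w) = M.E (mat s *ᵥ a) + w := by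
  rw [M.mat_X, M.ext_apply _ _ hw]

theorem Model.scalar_X (s : isometryGroup K ⇑(QuadClassify.qOdd k K)) (l : F)
    (hl : mat (M.X s) = l • 1) : ∃ c : K, mat s = c • (1 : Matrix J J K) := by
  refine ⟨algebraMap F K l, Matrix.ext_iff_mulVec.2 fun a => ?_⟩
  have e := M.X_apply s a (w := 0) (map_zero _)
  rw [hl, Matrix.smul_mulVec, Matrix.one_mulVec, add_zero, add_zero, ← map_smul] at e
  rw [Matrix.smul_mulVec, Matrix.one_mulVec, algebraMap_smul]
  have := congrArg M.P e
  rw [M.pe, M.pe] at this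
  exact this.symm

theorem Model.commute (G : Matrix ι ι F) (c : K) (hGE : ∀ a, G *ᵥ M.E a = M.E (c • a))
    (hGP : ∀ w, M.P w = 0 → M.P (G *ᵥ w) = 0) (s : isometryGroup K ⇑(QuadClassify.qOdd k K)) :
    G * mat (M.X s) = mat (M.X s) * G := by
  refine Matrix.ext_iff_mulVec.2 fun v => ?_
  obtain ⟨w, hw, hv⟩ := M.split v
  rw [← Matrix.mulVec_mulVec, ← Matrix.mulVec_mulVec, hv, M.X_apply _ _ hw, Matrix.mulVec_add,
    Matrix.mulVec_add, hGE, hGE, M.X_apply _ _ (hGP w hw), Matrix.mulVec_smul]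

/-! ### Semilinear maps respecting a model -/

section Transfer

variable [Fintype F] {g : GL ι F} {τ : F ≃+* F} (τK : K ≃+* K) (c : K)
  (hc : c ≠ 0)
  (hrange : ∀ a, M.E (M.P (semi g τ (M.E a))) = semi g τ (M.E a))
  (hker : ∀ w, M.P w = 0 → M.P (semi g τ w) = 0)
  (hsmul : ∀ (r : K) a, M.P (semi g τ (M.E (r • a))) = τK r • M.P (semi g τ (M.E a)))
  (hqv : ∀ a, M.qv (semi g τ (M.E a)) = c * τK (M.qv (M.E a)))

include hc hrange hker hsmul hqv

/-- The matrix induced on the summand. -/
theorem Model.exists_pair :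
    ∃ (g' : GL J K), IsSemisimilarityPair ⇑(QuadClassify.qOdd k K) g' τK ∧
      ∀ a, semi g τ (M.E a) = M.E (semi g' τK a) := by
  classical
  set T : (J → K) → (J → K) := fun a => M.P (semi g τ (M.E a)) with hT
  have hTadd : ∀ a b, T (a + b) = T a + T b := fun a b => by simp [hT]
  let L : (J → K) →ₗ[K] (J → K) :=
    { toFun := fun a => T fun j => τK.symm (a j)
      map_add' := fun a b => by
        rw [← hTadd]; congr 1; funext j; simp
      map_smul' := fun r a => by
        show T _ = r • T _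
        have e := hsmul (τK.symm r) fun j => τK.symm (a j)
        rw [RingEquiv.apply_symm_apply] at e
        rw [← e]
        congr 1
        show (fun j => τK.symm ((r • a) j)) = _
        funext j; simp }
  have hL : ∀ a, LinearMap.toMatrix' L *ᵥ (fun j => τK (a j)) = T a := fun a => by
    rw [LinearMap.toMatrix'_mulVec]
    show T _ = T a
    simp
  have hdet : (LinearMap.toMatrix' L).det ≠ 0 := by
    intro h0
    obtain ⟨a, ha0, ha⟩ := Matrix.exists_mulVec_eq_zero_iff.2 h0
    obtain ⟨a', rfl⟩ : ∃ a', (fun j => τK (a' j)) = a := ⟨fun j => τK.symm (a j), by simp⟩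
    rw [hL] at ha
    have h1 : semi g τ (M.E a') = 0 := by rw [← hrange, show M.P _ = T a' from rfl, ha, map_zero]
    have h2 : M.E a' = 0 := (semi g τ).injective (h1.trans (map_zero _).symm)
    have h3 : a' = 0 := by rw [← M.pe a', h2, map_zero]
    exact ha0 (by funext j; simp [h3])
  refine ⟨Matrix.GeneralLinearGroup.mkOfDetNeZero _ hdet, ⟨Units.mk0 (c * τK M.u / M.u)
    (div_ne_zero (mul_ne_zero hc ((_root_.map_ne_zero τK).2 M.u_ne)) M.u_ne), fun a => ?_⟩,
    fun a => ?_⟩
  · show QuadClassify.qOdd k K (LinearMap.toMatrix' L *ᵥ fun j => τK (a j)) = _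
    rw [hL, Units.val_mk0]
    have e := hqv a
    rw [← hrange, M.qv_val, M.qv_val, map_mul] at e
    have hu := M.u_ne
    field_simp
    linear_combination e
  · rw [semi_apply]
    show _ = M.E (LinearMap.toMatrix' L *ᵥ fun j => τK (a j))
    rw [hL]
    exact (hrange a).symm

/-- Conjugation moves the model to itself. -/
theorem Model.moved (g' : GL J K) (hp : IsSemisimilarityPair ⇑(QuadClassify.qOdd k K) g' τK)
    (hg : ∀ a, semi g τ (M.E a) = M.E (semi g' τK a))
    (s : isometryGroup K ⇑(QuadClassify.qOdd k K)) (v : ι → F) :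
    semi g τ (mat (M.X s) *ᵥ v)
      = mat (M.X (OrthModelKill52.semiHom _ g' τK hp s)) *ᵥ semi g τ v := by
  obtain ⟨w, hw, hv⟩ := M.split v
  rw [hv, M.X_apply _ _ hw, map_add, map_add, hg, hg, M.X_apply _ _ (hker w hw)]
  congr 2
  exact (semi_conj g' τK (mat s) (M.P v)).symm

variable (h : AutOrth45.Good Q) (hp₀ : IsSemisimilarityPair ⇑Q g τ)

/-- An element of an odd-order normal subgroup respecting a model of dimension at least five. -/
theorem Model.kill (h2 : (2 : K) ≠ 0) (hk : 2 ≤ k) (W N : Subgroup (MulAut (POmega F ⇑Q)))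
    (hXW : ∀ s, OrthModelKill52.inMap M.X s ∈ W) (hWN : ∀ w ∈ W, ∀ y ∈ N, w * y * w⁻¹ ∈ N)
    (hN : Odd (Nat.card N)) (hn : semiAut h g τ hp₀ ∈ N) :
    τK = RingEquiv.refl K ∧ ∃ r : K, ∀ a, semi g τ (M.E a) = M.E (r • a) := by
  obtain ⟨g', hp, hg⟩ := M.exists_pair τK c hc hrange hker hsmul hqv
  obtain ⟨hτ, r, hr⟩ := OrthModelKill52.kill h2 hk h.nd (AutOrth45Coset.five_le h) M.X M.scalar_X W N
    hXW hWN hN g' τK hp _ hn fun s => by
      rw [OrthModelKill52.inMap_eq_conjP, OrthModelKill52.inMap_eq_conjP, mul_inv_eq_iff_eq_mul]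
      exact semiAut_mul_sim h hp₀ _ _
        (M.moved τK c hc hrange hker hsmul hqv g' hp hg s.1)
  refine ⟨hτ, r, fun a => ?_⟩
  rw [hg, semi_apply, hr, Matrix.smul_mulVec, Matrix.one_mulVec, hτ]
  rfl

end Transfer

end Cfsg.Agent.AutOrthMinus52Models
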