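import Mathlib
import Cfsg.Prelude.Def_LieTypeDatum

/-!
A projective similitude group of a non-degenerate diagonal form in dimension at least three over a
finite field of odd order has no non-trivial normal subgroup of odd order.
-/

set_option autoImplicit false
set_option linter.unusedSectionVars false

namespace Cfsg.Agent.OddCoreOrth52

open Matrix
open scoped MatrixGroups

variable {K : Type*} [Field K] {ι : Type} [Fintype ι] [DecidableEq ι] (d : ι → K)

/-- The bilinear form of `diagonal d`. -/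
def B (v w : ι → K) : K := ∑ l, d l * v l * w l

variable {d}

theorem B_comm (v w : ι → K) : B d v w = B d w v := by
  simp only [B, mul_right_comm]

theorem B_add_left (u v w : ι → K) : B d (u + v) w = B d u w + B d v w := by
  simp only [B, Pi.add_apply, mul_add, add_mul, Finset.sum_add_distrib]

theorem B_add_right (u v w : ι → K) : B d u (v + w) = B d u v + B d u w := by
  rw [B_comm, B_add_left, B_comm v, B_comm w]

theorem B_smul_left (c : K) (v w : ι → K) : B d (c • v) w = c * B d v w := by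
  simp only [B, Pi.smul_apply, smul_eq_mul, Finset.mul_sum]
  exact Finset.sum_congr rfl fun l _ => by ring

theorem B_smul_right (c : K) (v w : ι → K) : B d v (c • w) = c * B d v w := by
  rw [B_comm, B_smul_left, B_comm]

theorem B_single (v : ι → K) (l : ι) : B d v (Pi.single l 1) = d l * v l := by
  rw [B, Finset.sum_eq_single l] <;> simp +contextual

theorem B_eq_dot (v w : ι → K) : B d v w = v ⬝ᵥ (Matrix.diagonal d *ᵥ w) := by
  simp only [B, dotProduct, mulVec_diagonal]
  exact Finset.sum_congr rfl fun l _ => by ring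

/-- A matrix scaling the form by `c`. -/
def IsSim (d : ι → K) (M : Matrix ι ι K) (c : K) : Prop :=
  ∀ v w, B d (M *ᵥ v) (M *ᵥ w) = c * B d v w

theorem isSim_iff (M : Matrix ι ι K) (c : K) :
    IsSim d M c ↔ Mᵀ * Matrix.diagonal d * M = c • Matrix.diagonal d := by
  constructor
  · intro h
    ext i j
    have := h (Pi.single i 1) (Pi.single j 1)
    rw [B_eq_dot, B_eq_dot, mulVec_mulVec, dotProduct_mulVec, vecMul_mulVec, ← dotProduct_mulVec,
      ← Matrix.mul_assoc] at this
    rcases eq_or_ne i j with rfl | hij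
    · simpa using this
    · simpa [hij, Ne.symm hij] using this
  · intro h v w
    rw [B_eq_dot, B_eq_dot, mulVec_mulVec, dotProduct_mulVec, vecMul_mulVec, ← dotProduct_mulVec,
      ← Matrix.mul_assoc, h, smul_mulVec, dotProduct_smul, smul_eq_mul]

theorem IsSim.mul {M N : Matrix ι ι K} {a c : K} (hM : IsSim d M a) (hN : IsSim d N c) :
    IsSim d (M * N) (a * c) := fun v w => by
  rw [← mulVec_mulVec, ← mulVec_mulVec, hM, hN, mul_assoc]

variable (hd : ∀ l, d l ≠ 0)
include hd

/-- A similitude stabilising an axis stabilises its orthogonal hyperplane. -/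
theorem axis_row {M : Matrix ι ι K} {c α : K} (hc : c ≠ 0) (hM : IsSim d M c) {l : ι}
    (hl : M *ᵥ Pi.single l 1 = α • (Pi.single l 1 : ι → K)) (j : ι) (hj : j ≠ l) :
    M l j = 0 ∧ M j l = 0 := by
  have h1 : ∀ m, M m l = α * (Pi.single l 1 : ι → K) m := fun m => by
    have := congrFun hl m; simpa [mulVec_single_one] using this
  refine ⟨?_, by simp [h1, hj]⟩
  have h := hM (Pi.single j 1) (Pi.single l 1)
  rw [hl, B_smul_right, B_single, B_single, Pi.single_eq_of_ne (Ne.symm hj), mul_zero,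
    mul_zero] at h
  have hα : α ≠ 0 := fun h0 => by
    have := hM (Pi.single l 1) (Pi.single l 1)
    rw [hl, h0, zero_smul, B_single (Pi.single l 1)] at this
    simp [B, hc, hd] at this
  simpa [mulVec_single_one, hα, hd] using h

/-- An isometry fixing pointwise the orthogonal complement of a line squares to one. -/
theorem sq_of_line {g : Matrix ι ι K} (hg : IsSim d g 1) (h2 : (2 : K) ≠ 0) {z : ι → K}
    (hz : z ≠ 0) (hz' : ∀ h, ∃ t : K, g *ᵥ h = h + t • z) : g * g = 1 := by
  obtain ⟨t, ht⟩ := hz' z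
  have hgz : g *ᵥ z = (1 + t) • z := by rw [ht, add_smul, one_smul]
  obtain ⟨h₀, hh₀⟩ : ∃ h₀, B d h₀ z ≠ 0 := by
    obtain ⟨l, hl⟩ := Function.ne_iff.1 hz
    exact ⟨Pi.single l 1, by rw [B_comm, B_single]; exact mul_ne_zero (hd l) hl⟩
  have key : ∀ h s, g *ᵥ h = h + s • z → s * ((1 + t) * B d z z) + t * B d h z = 0 := fun h s hs => by
    have e := hg h z
    rw [hs, hgz, B_smul_right, B_add_left, B_smul_left, one_mul] at e
    linear_combination e
  have key2 : ∀ h s, g *ᵥ h = h + s • z → s * (2 * B d h z + s * B d z z) = 0 := fun h s hs => by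
    have e := hg h h
    rw [hs, B_add_left, B_add_right, B_add_right, B_smul_left, B_smul_right, B_smul_left,
      B_smul_right, B_comm z h, one_mul] at e
    linear_combination e
  refine Matrix.ext_of_mulVec_single fun l => ?_
  suffices ∀ h, g *ᵥ (g *ᵥ h) = h by rw [← mulVec_mulVec, this, one_mulVec]
  intro h
  obtain ⟨s, hs⟩ := hz' h
  rw [hs, mulVec_add, mulVec_smul, hs, hgz, smul_smul, add_assoc, ← add_smul]
  suffices s + s * (1 + t) = 0 by rw [this, zero_smul, add_zero]
  by_cases hQ : B d z z = 0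
  · have ht0 : t = 0 := by
      obtain ⟨s₀, hs₀⟩ := hz' h₀
      have e := key h₀ s₀ hs₀
      rw [hQ, mul_zero, mul_zero, zero_add] at e
      exact (mul_eq_zero.1 e).resolve_right hh₀
    subst ht0
    have hs0 : s = 0 := by
      by_cases hb : B d h z = 0
      · obtain ⟨s₀, hs₀⟩ := hz' h₀
        have hsum : g *ᵥ (h + h₀) = (h + h₀) + (s + s₀) • z := by
          rw [mulVec_add, hs, hs₀, add_smul]; abel
        have e1 := key2 _ _ hsum
        have e2 := key2 _ _ hs₀
        rw [hQ, B_add_left, hb] at e1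
        rw [hQ] at e2
        have h0 : s₀ = 0 := by
          rcases mul_eq_zero.1 e2 with e | e
          · exact e
          · simp [h2, hh₀] at e
        rw [h0] at e1
        rcases mul_eq_zero.1 e1 with e | e
        · simpa using e
        · simp [h2, hh₀] at e
      · rcases mul_eq_zero.1 (key2 h s hs) with e | e
        · exact e
        · simp [h2, hb, hQ] at e
    rw [hs0]; ring
  · have e := hg z z
    rw [hgz, B_smul_left, B_smul_right, one_mul, ← mul_assoc] at e
    rcases mul_self_eq_one_iff.1 (mul_right_cancel₀ hQ (e.trans (one_mul _).symm)) with h1 | h1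
    · have ht0 : t = 0 := by linear_combination h1
      subst ht0
      have := key h s hs
      simp [hQ] at this
      rw [this]; ring
    · rw [h1]; ring

omit hd

/-! ### Coprime action of an involution -/

theorem inverts_of_fpf {G : Type*} [Group G] [Finite G] (e : G) (X : Subgroup G) (he : e * e = 1)
    (hX : ∀ x ∈ X, e * x * e ∈ X) (hC : ∀ x ∈ X, e * x = x * e → x = 1) {y : G} (hy : y ∈ X) :
    e * y * e = y⁻¹ := by
  have hei : e⁻¹ = e := inv_eq_of_mul_eq_one_right he
  have hee : ∀ z : G, e * (e * z) = z := fun z => by rw [← mul_assoc, he, one_mul]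
  let f : X → X := fun x => ⟨(x : G)⁻¹ * (e * x * e), X.mul_mem (X.inv_mem x.2) (hX _ x.2)⟩
  have hinj : Function.Injective f := by
    intro a b h
    have h' : (a : G)⁻¹ * (e * a * e) = (b : G)⁻¹ * (e * b * e) := congrArg Subtype.val h
    have h1 := hC _ (X.mul_mem b.2 (X.inv_mem a.2)) (by
      calc e * ((b : G) * (a : G)⁻¹)
          = e * (b : G) * ((a : G)⁻¹ * (e * a * e)) * (e * (a : G)⁻¹ * e) := by
            simp [mul_assoc, hee, he]
        _ = e * (b : G) * ((b : G)⁻¹ * (e * b * e)) * (e * (a : G)⁻¹ * e) := by rw [h']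
        _ = _ := by simp [mul_assoc, hee])
    exact Subtype.ext (mul_inv_eq_one.1 h1).symm
  obtain ⟨a, ha⟩ := Finite.surjective_of_injective hinj ⟨y, hy⟩
  have ha' : (a : G)⁻¹ * (e * a * e) = y := congrArg Subtype.val ha
  rw [← ha']
  simp [mul_assoc, hee, he, hei]

/-! ### The projective group -/

variable (d)

/-- The sign change in one coordinate. -/
def sgnVec (i : ι) : ι → K := fun l => if l = i then -1 else 1

variable [Fintype K] (hd : ∀ l, d l ≠ 0) (h2 : (2 : K) ≠ 0) (S : Subgroup (GL ι K))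
  (hS : ∀ x, x ∈ S ↔ ∃ c : K, (x : Matrix ι ι K)ᵀ * Matrix.diagonal d * (x : Matrix ι ι K)
    = c • Matrix.diagonal d)

variable {d S}

theorem sgnVec_sq (i : ι) : (fun l => sgnVec (K := K) i l * sgnVec i l) = 1 := by
  funext l
  unfold sgnVec
  split_ifs <;> simp

/-- The sign change as an element of `GL`. -/
def sgn (i : ι) : GL ι K :=
  ⟨Matrix.diagonal (sgnVec i), Matrix.diagonal (sgnVec i),
    by rw [Matrix.diagonal_mul_diagonal, sgnVec_sq]; exact Matrix.diagonal_one,
    by rw [Matrix.diagonal_mul_diagonal, sgnVec_sq]; exact Matrix.diagonal_one⟩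

include hS

theorem sgn_mem (i : ι) : (sgn i : GL ι K) ∈ S := by
  refine (hS _).2 ⟨1, ?_⟩
  show (Matrix.diagonal (sgnVec i))ᵀ * Matrix.diagonal d * Matrix.diagonal (sgnVec i) = _
  rw [diagonal_transpose, diagonal_mul_diagonal, diagonal_mul_diagonal, one_smul]
  congr 1
  funext l
  rcases eq_or_ne l i with rfl | h <;> simp [sgnVec, *]

include hd

theorem exists_mult [Nonempty ι] {x : GL ι K} (hx : x ∈ S) :
    ∃ c : K, c ≠ 0 ∧ IsSim d (x : Matrix ι ι K) c := by
  obtain ⟨c, hc⟩ := (hS x).1 hx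
  refine ⟨c, fun h => ?_, (isSim_iff _ _).2 hc⟩
  have e := congrArg Matrix.det hc
  rw [det_mul, det_mul, det_transpose, det_diagonal, h, zero_smul, det_zero] at e
  simp [((Matrix.isUnit_iff_isUnit_det _).1 x.isUnit).ne_zero, Finset.prod_eq_zero_iff, hd] at e

omit hd hS

/-- The class of an element. -/
abbrev cls (x : S) : Cfsg.projQuot S := QuotientGroup.mk x

theorem cls_eq_one {x : S} :
    cls x = 1 ↔ ∃ a : Kˣ, ((x : GL ι K) : Matrix ι ι K) = (a : K) • 1 := by
  rw [cls, QuotientGroup.eq_one_iff, Subgroup.mem_subgroupOf, Cfsg.Geo.mem_scalars_iff]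

variable (Y : Subgroup (Cfsg.projQuot S)) (hY : Odd (Nat.card Y))
include hY

theorem eq_one_of_sq [Finite (Cfsg.projQuot S)] {y : Cfsg.projQuot S} (hy : y ∈ Y)
    (h : y * y = 1) : y = 1 := by
  obtain ⟨k, hk⟩ := hY
  have h1 : y ^ Nat.card Y = 1 :=
    congrArg Subtype.val (pow_card_eq_one' (x := (⟨y, hy⟩ : Y)))
  rwa [hk, pow_succ, pow_mul, pow_two, h, one_pow, one_mul] at h1

/-- Projective commutation with a product of sign changes lifts for elements of odd order. -/
theorem comm_lift [Nonempty ι] [Finite (Cfsg.projQuot S)] {x : S} (hx : cls x ∈ Y) {e : S}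
    (s : ι → K) (hs : ∀ l, s l = 1 ∨ s l = -1)
    (he : ((e : GL ι K) : Matrix ι ι K) = Matrix.diagonal s)
    (h : cls e * cls x = cls x * cls e) (a b : ι) (hab : s a ≠ s b) :
    ((x : GL ι K) : Matrix ι ι K) a b = 0 := by
  set M := ((x : GL ι K) : Matrix ι ι K) with hM
  obtain ⟨μ, hμ⟩ := cls_eq_one.1 (show cls ((x * e) * (e * x)⁻¹) = 1 by
    show QuotientGroup.mk _ = (1 : Cfsg.projQuot S)
    rw [QuotientGroup.mk_mul, QuotientGroup.mk_inv, QuotientGroup.mk_mul, QuotientGroup.mk_mul]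
    exact mul_inv_eq_one.2 h.symm)
  have e1 : M * Matrix.diagonal s = (μ : K) • (Matrix.diagonal s * M) := by
    rw [hM, ← he]
    have : ((x * e : S) : GL ι K).1 = ((x * e * (e * x)⁻¹ : S) : GL ι K).1 * ((e * x : S) : GL ι K).1 := by
      rw [← Units.val_mul, ← Subgroup.coe_mul, inv_mul_cancel_right]
    rw [hμ, Matrix.smul_mul, Matrix.one_mul] at this
    exact this
  have hpow : ∀ k : ℕ, M ^ k * Matrix.diagonal s = (μ : K) ^ k • (Matrix.diagonal s * M ^ k) := by
    intro k
    induction k with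
    | zero => simp
    | succ k ih =>
      rw [pow_succ, Matrix.mul_assoc, e1, Matrix.mul_smul, ← Matrix.mul_assoc, ih, Matrix.smul_mul,
        smul_smul, ← pow_succ', Matrix.mul_assoc]
  obtain ⟨a', ha'⟩ := cls_eq_one.1 (show cls (x ^ Nat.card Y) = 1 by
    show QuotientGroup.mk _ = (1 : Cfsg.projQuot S)
    rw [QuotientGroup.mk_pow]
    exact congrArg Subtype.val (pow_card_eq_one' (x := (⟨cls x, hx⟩ : Y))))
  have hMk : M ^ Nat.card Y = (a' : K) • 1 := by rw [← ha', hM]; simp
  have hk := hpow (Nat.card Y)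
  rw [hMk, Matrix.smul_mul, Matrix.one_mul, Matrix.mul_smul, Matrix.mul_one, smul_smul] at hk
  have hsa : ∀ l, s l ≠ 0 := fun l => by rcases hs l with h | h <;> simp [h]
  have hμk : (μ : K) ^ Nat.card Y = 1 := by
    have := congrFun (congrFun hk a) a
    simp only [Matrix.smul_apply, diagonal_apply_eq, smul_eq_mul] at this
    have h1 := mul_right_cancel₀ (hsa a) this
    exact mul_right_cancel₀ a'.ne_zero (by rw [one_mul]; exact h1.symm)
  have eab := congrFun (congrFun e1 a) b
  simp only [Matrix.mul_diagonal, Matrix.diagonal_mul, Matrix.smul_apply, smul_eq_mul] at eab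
  by_contra hne
  have hμ1 : (μ : K) * μ = 1 := by
    have h1 : s b = μ * s a := mul_left_cancel₀ hne (by linear_combination eab)
    have h1' : s b * s b = (μ : K) * μ * (s a * s a) := by rw [h1]; ring
    rcases hs a with ha | ha <;> rcases hs b with hb | hb <;> rw [ha, hb] at h1' <;>
      linear_combination -h1'
  have hμ' : (μ : K) = 1 := by
    obtain ⟨k, hk⟩ := hY
    rwa [hk, pow_succ, pow_mul, pow_two, hμ1, one_pow, one_mul] at hμk
  rw [hμ', one_mul] at eab
  exact hab (mul_left_cancel₀ hne (by linear_combination eab)).symm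

omit hY
include hS

/-- The elements of `Y` commuting with the sign changes in `T`. -/
def Cs (T : Finset ι) : Subgroup (Cfsg.projQuot S) :=
  Y ⊓ Subgroup.centralizer ((fun l => cls ⟨sgn l, sgn_mem hS l⟩) '' (T : Set ι))

theorem mem_Cs {T : Finset ι} {y : Cfsg.projQuot S} :
    y ∈ Cs hS Y T ↔ y ∈ Y ∧ ∀ l ∈ T, cls ⟨sgn l, sgn_mem hS l⟩ * y = y * cls ⟨sgn l, sgn_mem hS l⟩ := by
  rw [Cs, Subgroup.mem_inf, Subgroup.mem_centralizer_iff]
  simp

theorem sgn_sq (l : ι) :
    cls (S := S) ⟨sgn l, sgn_mem hS l⟩ * cls ⟨sgn l, sgn_mem hS l⟩ = 1 := by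
  rw [← QuotientGroup.mk_mul]
  refine cls_eq_one.2 ⟨1, ?_⟩
  show Matrix.diagonal (sgnVec l) * Matrix.diagonal (sgnVec l) = _
  rw [Matrix.diagonal_mul_diagonal, sgnVec_sq, Units.val_one, one_smul]
  exact Matrix.diagonal_one

include hY hd h2

theorem axis_of_mem [Nonempty ι] [Finite (Cfsg.projQuot S)] {T : Finset ι} {x : S}
    (hx : cls x ∈ Cs hS Y T) {l : ι} (hl : l ∈ T) (j : ι) (hj : j ≠ l) :
    ((x : GL ι K) : Matrix ι ι K) l j = 0 ∧ ((x : GL ι K) : Matrix ι ι K) j l = 0 := by
  obtain ⟨h1, h3⟩ := (mem_Cs hS Y).1 hx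
  have hne : sgnVec (K := K) l l ≠ sgnVec l j := by
    simp only [sgnVec, if_pos, if_neg hj]
    intro h
    exact h2 (by linear_combination -h)
  have hs : ∀ a, sgnVec (K := K) l a = 1 ∨ sgnVec (K := K) l a = -1 := fun a => by
    unfold sgnVec; split_ifs <;> simp
  exact ⟨comm_lift Y hY h1 _ hs rfl (h3 l hl) l j hne,
    comm_lift Y hY h1 _ hs rfl (h3 l hl) j l (Ne.symm hne)⟩

theorem eq_one_of_diag [Nonempty ι] [Finite (Cfsg.projQuot S)] {x : S} (hx : cls x ∈ Y)
    (hdiag : ∀ a b, a ≠ b → ((x : GL ι K) : Matrix ι ι K) a b = 0) : cls x = 1 := by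
  set M := ((x : GL ι K) : Matrix ι ι K) with hM
  obtain ⟨c, hc0, hc⟩ := exists_mult hd hS x.2
  refine eq_one_of_sq Y hY hx ?_
  rw [← QuotientGroup.mk_mul]
  refine cls_eq_one.2 ⟨Units.mk0 c hc0, ?_⟩
  have hMd : M = Matrix.diagonal fun l => M l l := by
    ext a b
    rcases eq_or_ne a b with rfl | h
    · simp
    · simp [h, hdiag a b h]
  show M * M = c • 1
  have hl : ∀ l, M l l * M l l = c := fun l => by
    have he : M *ᵥ Pi.single l 1 = M l l • (Pi.single l 1 : ι → K) := by
      funext a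
      rcases eq_or_ne a l with rfl | h
      · simp [mulVec_single_one]
      · simp [mulVec_single_one, h, hdiag a l h]
    have := hc (Pi.single l 1) (Pi.single l 1)
    rw [← hM, he, B_smul_left, B_smul_right, B_single, Pi.single_eq_same] at this
    refine mul_left_cancel₀ (hd l) ?_
    linear_combination this
  rw [hMd, Matrix.diagonal_mul_diagonal]
  ext a b
  rcases eq_or_ne a b with rfl | h
  · simp [hl]
  · simp [h]

variable [Finite (Cfsg.projQuot S)] [Y.Normal]

omit hY hd h2 in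
theorem sgn_comm (l m : ι) :
    cls (S := S) ⟨sgn l, sgn_mem hS l⟩ * cls ⟨sgn m, sgn_mem hS m⟩
      = cls ⟨sgn m, sgn_mem hS m⟩ * cls ⟨sgn l, sgn_mem hS l⟩ := by
  rw [← QuotientGroup.mk_mul, ← QuotientGroup.mk_mul]
  congr 1
  apply Subtype.ext
  apply Units.ext
  show Matrix.diagonal (sgnVec (K := K) l) * Matrix.diagonal (sgnVec m)
    = Matrix.diagonal (sgnVec m) * Matrix.diagonal (sgnVec l)
  rw [Matrix.diagonal_mul_diagonal, Matrix.diagonal_mul_diagonal]
  simp only [mul_comm]

omit hY hd h2 in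
theorem conj_mem_Cs {T : Finset ι} {R : Cfsg.projQuot S} (hR : R * R = 1)
    (hRT : ∀ l ∈ T, R * cls ⟨sgn l, sgn_mem hS l⟩ = cls ⟨sgn l, sgn_mem hS l⟩ * R)
    {y : Cfsg.projQuot S} (hy : y ∈ Cs hS Y T) : R * y * R ∈ Cs hS Y T := by
  obtain ⟨h1, h3⟩ := (mem_Cs hS Y).1 hy
  have hi : R⁻¹ = R := inv_eq_of_mul_eq_one_right hR
  refine (mem_Cs hS Y).2 ⟨?_, fun l hl => ?_⟩
  · conv => arg 2; rw [← hi]
    rw [hi]
    have := ‹Y.Normal›.conj_mem y h1 R
    rwa [hi] at this
  · have hc : Commute R (cls ⟨sgn l, sgn_mem hS l⟩) := hRT l hl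
    have hy' : Commute y (cls ⟨sgn l, sgn_mem hS l⟩) := (h3 l hl).symm
    exact ((hc.mul_left hy').mul_left hc).symm

theorem pair_comm {T : Finset ι} {y : Cfsg.projQuot S} (hy : y ∈ Cs hS Y T) (i j : ι)
    (hi : ∀ z ∈ Cs hS Y (insert i T), z = 1) (hj : ∀ z ∈ Cs hS Y (insert j T), z = 1) :
    (cls ⟨sgn i, sgn_mem hS i⟩ * cls ⟨sgn j, sgn_mem hS j⟩) * y
      = y * (cls ⟨sgn i, sgn_mem hS i⟩ * cls ⟨sgn j, sgn_mem hS j⟩) := by
  have hinv : ∀ m, (∀ z ∈ Cs hS Y (insert m T), z = 1) →
      cls ⟨sgn m, sgn_mem hS m⟩ * y * cls ⟨sgn m, sgn_mem hS m⟩ = y⁻¹ := fun m hm =>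
    inverts_of_fpf _ (Cs hS Y T) (sgn_sq hS m)
      (fun x hx => conj_mem_Cs hS Y (sgn_sq hS m) (fun l _ => sgn_comm hS m l) hx)
      (fun x hx hc => hm x ((mem_Cs hS Y).2 ⟨((mem_Cs hS Y).1 hx).1, fun l hl => by
        rcases Finset.mem_insert.1 hl with rfl | hl
        · exact hc
        · exact ((mem_Cs hS Y).1 hx).2 l hl⟩)) hy
  have e1 := hinv i hi
  have e2 := hinv j hj
  set a := cls (S := S) ⟨sgn i, sgn_mem hS i⟩
  set b := cls (S := S) ⟨sgn j, sgn_mem hS j⟩
  have ha : a⁻¹ = a := inv_eq_of_mul_eq_one_right (sgn_sq hS i)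
  have hb : b⁻¹ = b := inv_eq_of_mul_eq_one_right (sgn_sq hS j)
  calc a * b * y = a * (b * y * b) * b := by rw [mul_assoc, mul_assoc, mul_assoc, mul_assoc,
        sgn_sq hS j, mul_one]
    _ = a * (a * y * a) * b := by rw [e2, e1]
    _ = y * (a * b) := by
        rw [mul_assoc a y a, ← mul_assoc a a, sgn_sq hS i, one_mul, mul_assoc]

theorem step_big [Nonempty ι] {T : Finset ι} (h3 : 3 ≤ (Finset.univ \ T).card)
    (ih : ∀ i ∉ T, ∀ z ∈ Cs hS Y (insert i T), z = 1) : ∀ y ∈ Cs hS Y T, y = 1 := by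
  intro y hy
  obtain ⟨x, rfl⟩ := QuotientGroup.mk_surjective y
  refine eq_one_of_diag hd h2 hS Y hY ((mem_Cs hS Y).1 hy).1 fun a b hab => ?_
  by_cases ha : a ∈ T
  · exact (axis_of_mem hd h2 hS Y hY hy ha b hab.symm).1
  by_cases hb : b ∈ T
  · exact (axis_of_mem hd h2 hS Y hY hy hb a hab).2
  obtain ⟨c, hc⟩ : ∃ c, c ∈ ((Finset.univ \ T).erase a).erase b := by
    apply Finset.card_pos.1
    rw [Finset.card_erase_of_mem (by simp [hb, hab.symm]), Finset.card_erase_of_mem (by simp [ha])]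
    omega
  simp only [Finset.mem_erase, Finset.mem_sdiff, Finset.mem_univ, true_and] at hc
  obtain ⟨hcb, hca, hcT⟩ := hc
  refine comm_lift Y hY ((mem_Cs hS Y).1 hy).1
    (e := (⟨sgn a, sgn_mem hS a⟩ : S) * ⟨sgn c, sgn_mem hS c⟩)
    (fun l => sgnVec a l * sgnVec c l) (fun l => ?_) ?_ ?_ a b ?_
  · unfold sgnVec
    split_ifs <;> simp
  · show Matrix.diagonal (sgnVec a) * Matrix.diagonal (sgnVec c) = _
    rw [Matrix.diagonal_mul_diagonal]
  · exact pair_comm hd h2 hS Y hY hy a c (ih a ha) (ih c hcT)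
  · simp only [sgnVec, if_pos, if_neg hca.symm, if_neg hab.symm, if_neg hcb.symm, mul_one]
    intro h
    exact h2 (by linear_combination -h)

theorem step_small [Nonempty ι] {T : Finset ι} (h1 : (Finset.univ \ T).card ≤ 1) :
    ∀ y ∈ Cs hS Y T, y = 1 := by
  intro y hy
  obtain ⟨x, rfl⟩ := QuotientGroup.mk_surjective y
  refine eq_one_of_diag hd h2 hS Y hY ((mem_Cs hS Y).1 hy).1 fun a b hab => ?_
  by_cases ha : a ∈ T
  · exact (axis_of_mem hd h2 hS Y hY hy ha b hab.symm).1
  by_cases hb : b ∈ T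
  · exact (axis_of_mem hd h2 hS Y hY hy hb a hab).2
  exact absurd (Finset.card_le_one.1 h1 a (by simp [ha]) b (by simp [hb])) hab

/-- An element fixing two axes inside a three-space and all axes outside it is trivial. -/
theorem two_axes [Nonempty ι] {T : Finset ι} {i j : ι} (hT : Finset.univ \ T = {i, j}) (hij : i ≠ j)
    {x : S} (hx : cls x ∈ Cs hS Y T) {w : ι → K} (hw : B d w w ≠ 0)
    (hwne : w i ≠ 0 ∨ w j ≠ 0) {β : K}
    (hxw : ((x : GL ι K) : Matrix ι ι K) *ᵥ w = β • w) : cls x = 1 := by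
  set M := ((x : GL ι K) : Matrix ι ι K) with hM
  obtain ⟨c, hc0, hc⟩ := exists_mult hd hS x.2
  have hmemT : ∀ l, l ≠ i → l ≠ j → l ∈ T := fun l h1 h3 => by
    by_contra h
    have : l ∈ Finset.univ \ T := by simp [h]
    simp [hT, h1, h3] at this
  have hax : ∀ l ∈ T, M *ᵥ Pi.single l 1 = M l l • (Pi.single l 1 : ι → K) := fun l hl => by
    funext a
    rcases eq_or_ne a l with rfl | h
    · simp [mulVec_single_one]
    · simp [mulVec_single_one, h, hM, (axis_of_mem hd h2 hS Y hY hx hl a h).2]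
  have hl2 : ∀ l ∈ T, M l l * M l l = c := fun l hl => by
    have := hc (Pi.single l 1) (Pi.single l 1)
    rw [hax l hl, B_smul_left, B_smul_right, B_single, Pi.single_eq_same] at this
    refine mul_left_cancel₀ (hd l) ?_
    linear_combination this
  have hb2 : β * β = c := by
    have := hc w w
    rw [hxw, B_smul_left, B_smul_right, ← mul_assoc] at this
    exact mul_right_cancel₀ hw this
  set g : Matrix ι ι K := c⁻¹ • (M * M) with hg
  have hgs : IsSim d g 1 := fun v v' => by
    rw [hg, smul_mulVec, smul_mulVec, B_smul_left, B_smul_right, hc.mul hc]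
    field_simp
  have hfix : ∀ v α, M *ᵥ v = α • v → α * α = c → g *ᵥ v = v := fun v α hv hα => by
    rw [hg, smul_mulVec, ← mulVec_mulVec, hv, mulVec_smul, hv, smul_smul α, hα,
      inv_smul_smul₀ hc0]
  have hgl : ∀ l ∈ T, g *ᵥ Pi.single l 1 = Pi.single l 1 := fun l hl =>
    hfix _ _ (hax l hl) (hl2 l hl)
  have hgw : g *ᵥ w = w := hfix _ _ hxw hb2
  set z : ι → K := fun l => if l = i then d j * w j else if l = j then -(d i * w i) else 0 with hz
  have hz0 : z ≠ 0 := fun h => by
    have e1 := congrFun h i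
    have e2 := congrFun h j
    simp [hz, hij.symm, hd] at e1 e2
    rcases hwne with h' | h'
    · exact h' e2
    · exact h' e1
  have hz' : ∀ h, ∃ t : K, g *ᵥ h = h + t • z := by
    intro h
    set δ := g *ᵥ h - h with hδ
    have horth : ∀ v, g *ᵥ v = v → B d δ v = 0 := fun v hv => by
      have := hgs h v
      rw [hv, one_mul] at this
      have e : B d (g *ᵥ h) v = B d δ v + B d h v := by rw [← B_add_left, hδ, sub_add_cancel]
      linear_combination this - e
    have hδl : ∀ l ∈ T, δ l = 0 := fun l hl => by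
      simpa [B_single, hd] using horth _ (hgl l hl)
    have hrel : d i * δ i * w i + d j * δ j * w j = 0 := by
      have e := horth w hgw
      rw [B, ← Finset.sum_subset (Finset.subset_univ ({i, j} : Finset ι)) (fun l _ hl => by
        simp at hl
        simp [hδl l (hmemT l hl.1 hl.2)]), Finset.sum_pair hij] at e
      exact e
    suffices ∃ t : K, δ = t • z by
      obtain ⟨t, ht⟩ := this
      exact ⟨t, by rw [← ht, hδ, add_sub_cancel]⟩
    have hsupp : ∀ t : K, δ i = t * z i → δ j = t * z j → δ = t • z := fun t hi hj => by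
      funext l
      rcases eq_or_ne l i with rfl | h1
      · exact hi
      rcases eq_or_ne l j with rfl | h3
      · exact hj
      simp [hz, h1, h3, hδl l (hmemT l h1 h3)]
    by_cases hwj : w j = 0
    · have hwi : w i ≠ 0 := hwne.resolve_right (not_not_intro hwj)
      have hi0 : δ i = 0 := by simpa [hwj, hwi, hd] using hrel
      exact ⟨δ j / -(d i * w i), hsupp _ (by simp [hz, hwj, hi0])
        (by simp [hz, hij.symm]; field_simp [hd i, hwi])⟩
    · refine ⟨δ i / (d j * w j), hsupp _ (by simp [hz]; field_simp [hd j, hwj]) ?_⟩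
      simp [hz, hij.symm]
      field_simp [hd j, hwj]
      linear_combination hrel
  have h4 := sq_of_line hd hgs h2 hz0 hz'
  have h4' : cls x * cls x * (cls x * cls x) = 1 := by
    rw [← QuotientGroup.mk_mul, ← QuotientGroup.mk_mul]
    refine cls_eq_one.2 ⟨Units.mk0 (c * c) (mul_ne_zero hc0 hc0), ?_⟩
    show M * M * (M * M) = (c * c) • 1
    rw [← h4, hg, Matrix.smul_mul, Matrix.mul_smul, smul_smul, smul_smul]
    rw [show c * c * c⁻¹ * c⁻¹ = 1 by field_simp, one_smul]
  have hxY := ((mem_Cs hS Y).1 hx).1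
  exact eq_one_of_sq Y hY hxY (eq_one_of_sq Y hY (Y.mul_mem hxY hxY) h4')

theorem exists_sum_sq (a b c : K) (ha : a ≠ 0) (hb : b ≠ 0) :
    ∃ x y : K, a * x ^ 2 + b * y ^ 2 = c := by
  classical
  have hodd : Fintype.card K % 2 = 1 := by
    refine FiniteField.odd_card_of_char_ne_two fun h => h2 ?_
    have := CharP.cast_eq_zero K (ringChar K)
    rw [h] at this
    exact_mod_cast this
  obtain ⟨x, y, hxy⟩ := FiniteField.exists_root_sum_quadratic
    (f := Polynomial.C a * Polynomial.X ^ 2) (g := Polynomial.C b * Polynomial.X ^ 2 - Polynomial.C c)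
    (Polynomial.degree_C_mul_X_pow 2 ha)
    (Polynomial.degree_sub_eq_left_of_degree_lt (by
      rw [Polynomial.degree_C_mul_X_pow 2 hb]
      exact lt_of_le_of_lt Polynomial.degree_C_le (by norm_num)) |>.trans
        (Polynomial.degree_C_mul_X_pow 2 hb)) hodd
  refine ⟨x, y, ?_⟩
  simp at hxy
  linear_combination hxy

theorem step_pair [Nonempty ι] (hn : 3 ≤ Fintype.card ι) {T : Finset ι}
    (h2T : (Finset.univ \ T).card = 2) : ∀ y ∈ Cs hS Y T, y = 1 := by
  classical
  obtain ⟨i, j, hij, hT⟩ := Finset.card_eq_two.1 h2T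
  by_contra hcon
  push Not at hcon
  obtain ⟨y₀, hy₀, hy₀1⟩ := hcon
  obtain ⟨k, hk⟩ : ∃ k, k ∈ T := by
    apply Finset.card_pos.1
    have := Finset.card_sdiff_add_card_eq_card (Finset.subset_univ T)
    rw [Finset.card_univ, h2T] at this
    omega
  have hki : k ≠ i := fun h => by
    have : i ∈ Finset.univ \ T := by simp [hT]
    simp [← h, hk] at this
  have hkj : k ≠ j := fun h => by
    have : j ∈ Finset.univ \ T := by simp [hT]
    simp [← h, hk] at this
  have hmemT : ∀ l, l ≠ i → l ≠ j → l ∈ T := fun l h1 h3 => by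
    by_contra h
    have : l ∈ Finset.univ \ T := by simp [h]
    simp [hT, h1, h3] at this
  obtain ⟨a, b, hab⟩ := exists_sum_sq hd h2 hS Y hY (d i) (d j) (d k) (hd i) (hd j)
  set v' : ι → K := a • Pi.single i 1 + b • Pi.single j 1 with hv'
  have hv'k : v' k = 0 := by simp [hv', hki, hkj]
  have hQv : B d v' v' = d k := by
    rw [hv', B_add_left, B_add_right, B_add_right]
    simp only [B_smul_left, B_smul_right, B_single, Pi.smul_apply, smul_eq_mul, Pi.single_eq_same,
      Pi.single_eq_of_ne hij, Pi.single_eq_of_ne hij.symm]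
    linear_combination hab
  set u : ι → K := Pi.single k 1 - v' with hu
  have hBku : B d u (Pi.single k 1) = d k := by rw [B_single]; simp [hu, hv'k]
  have hBvu : B d u v' = -(d k) := by
    have : B d v' (Pi.single k 1) = 0 := by rw [B_single, hv'k, mul_zero]
    have e : B d (u + v') v' = B d u v' + B d v' v' := B_add_left _ _ _
    rw [hu, sub_add_cancel, B_comm (Pi.single k 1), this, hQv] at e
    linear_combination -e
  have hQu : B d u u = 2 * d k := by
    have e : B d u (u + v') = B d u u + B d u v' := B_add_right _ _ _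
    have e2 : u + v' = Pi.single k 1 := by rw [hu, sub_add_cancel]
    rw [e2, hBku, hBvu] at e
    linear_combination -e
  set r : Matrix ι ι K := 1 - (d k)⁻¹ • vecMulVec u (fun l => d l * u l) with hr
  have hrv : ∀ h, r *ᵥ h = h - ((d k)⁻¹ * B d u h) • u := fun h => by
    rw [hr, sub_mulVec, one_mulVec, smul_mulVec, vecMulVec_mulVec, op_smul_eq_smul, smul_smul]
    rfl
  have hrr : r * r = 1 := by
    refine Matrix.ext_of_mulVec_single fun l => ?_
    have e : ∀ (c' : K) h, B d u (h - c' • u) = B d u h - c' * B d u u := fun c' h => by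
      rw [sub_eq_add_neg, B_add_right, ← neg_smul, B_smul_right]; ring
    rw [← mulVec_mulVec, hrv, hrv, one_mulVec, e, hQu, sub_sub, ← add_smul]
    have : (d k)⁻¹ * B d u (Pi.single l 1) + (d k)⁻¹ * (B d u (Pi.single l 1) -
        (d k)⁻¹ * B d u (Pi.single l 1) * (2 * d k)) = 0 := by
      field_simp [hd k]; ring
    rw [this, zero_smul, sub_zero]
  have hrs : IsSim d r 1 := fun v w => by
    have e : ∀ (c' : K) v w, B d (v - c' • u) w = B d v w - c' * B d u w := fun c' v w => by
      rw [sub_eq_add_neg, B_add_left, ← neg_smul, B_smul_left]; ring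
    have e' : ∀ (c' : K) v w, B d v (w - c' • u) = B d v w - c' * B d v u := fun c' v w => by
      rw [B_comm, e, B_comm w v, B_comm u v]
    rw [hrv, hrv, e, e', e', hQu, B_comm v u]
    field_simp [hd k]
    ring
  let rG : GL ι K := ⟨r, r, hrr, hrr⟩
  have hrS : rG ∈ S := (hS _).2 ⟨1, (isSim_iff _ _).1 hrs⟩
  set R : Cfsg.projQuot S := cls ⟨rG, hrS⟩ with hRdef
  have hRR : R * R = 1 := by
    rw [hRdef, ← QuotientGroup.mk_mul]
    exact cls_eq_one.2 ⟨1, by rw [Units.val_one, one_smul]; exact hrr⟩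
  have hRi : R⁻¹ = R := inv_eq_of_mul_eq_one_right hRR
  have hrv' : r *ᵥ v' = Pi.single k 1 := by
    rw [hrv, hBvu, mul_neg, inv_mul_cancel₀ (hd k), neg_one_smul, sub_neg_eq_add, hu,
      add_sub_cancel]
  have hrk : r *ᵥ Pi.single k 1 = v' := by
    rw [hrv, hBku, inv_mul_cancel₀ (hd k), one_smul, hu, sub_sub_cancel]
  set T₀ := T.erase k with hT₀
  have hRT : ∀ l ∈ T₀, R * cls ⟨sgn l, sgn_mem hS l⟩ = cls ⟨sgn l, sgn_mem hS l⟩ * R := by
    intro l hl
    obtain ⟨hlk, hlT⟩ := Finset.mem_erase.1 hl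
    have hul : u l = 0 := by
      have hli : l ≠ i := fun h => by
        have : i ∈ Finset.univ \ T := by simp [hT]
        simp [← h, hlT] at this
      have hlj : l ≠ j := fun h => by
        have : j ∈ Finset.univ \ T := by simp [hT]
        simp [← h, hlT] at this
      simp [hu, hv', hlk, hli, hlj]
    rw [hRdef, ← QuotientGroup.mk_mul, ← QuotientGroup.mk_mul]
    congr 1
    apply Subtype.ext
    apply Units.ext
    show r * Matrix.diagonal (sgnVec l) = Matrix.diagonal (sgnVec l) * r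
    have hug : ∀ a, sgnVec (K := K) l a * u a = u a := fun a => by
      rcases eq_or_ne a l with rfl | h
      · simp [hul]
      · simp [sgnVec, h]
    ext a b
    rw [Matrix.mul_diagonal, Matrix.diagonal_mul]
    simp only [hr, Matrix.sub_apply, Matrix.smul_apply, vecMulVec_apply, smul_eq_mul]
    rcases eq_or_ne a b with rfl | hab'
    · ring
    · rw [one_apply_ne hab']
      linear_combination ((d k)⁻¹ * (d b * u b)) * hug a - ((d k)⁻¹ * u a * d b) * hug b
  set X := Cs hS Y T₀ with hX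
  set A := Cs hS Y T with hA
  have hAX : A ≤ X := fun z hz => (mem_Cs hS Y).2
    ⟨((mem_Cs hS Y).1 hz).1, fun l hl => ((mem_Cs hS Y).1 hz).2 l (Finset.mem_of_mem_erase hl)⟩
  have hXR : ∀ z ∈ X, R * z * R ∈ X := fun z hz => conj_mem_Cs hS Y hRR hRT hz
  -- images of vectors in the three-space stay there
  have hsupp : ∀ g : S, cls g ∈ X → ∀ v : ι → K, (∀ l ∈ T₀, v l = 0) →
      ∀ l ∈ T₀, (((g : GL ι K) : Matrix ι ι K) *ᵥ v) l = 0 := by
    intro g hg v hv l hl
    show ∑ m, ((g : GL ι K) : Matrix ι ι K) l m * v m = 0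
    refine Finset.sum_eq_zero fun m _ => ?_
    rcases eq_or_ne m l with rfl | hm
    · rw [hv m hl, mul_zero]
    · rw [(axis_of_mem hd h2 hS Y hY hg hl m hm).1, zero_mul]
  -- an element of `X` fixing the axis `k` lies in `A`
  have hA' : ∀ g : S, cls g ∈ X → ∀ α : K,
      ((g : GL ι K) : Matrix ι ι K) *ᵥ Pi.single k 1 = α • (Pi.single k 1 : ι → K) →
      cls g ∈ A := by
    intro g hg α hα
    refine (mem_Cs hS Y).2 ⟨((mem_Cs hS Y).1 hg).1, fun l hl => ?_⟩
    rcases eq_or_ne l k with rfl | hlk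
    · obtain ⟨c, hc0, hc⟩ := exists_mult hd hS g.2
      rw [← QuotientGroup.mk_mul, ← QuotientGroup.mk_mul]
      congr 1
      apply Subtype.ext
      apply Units.ext
      show Matrix.diagonal (sgnVec l) * ((g : GL ι K) : Matrix ι ι K)
        = ((g : GL ι K) : Matrix ι ι K) * Matrix.diagonal (sgnVec l)
      ext a b
      rw [Matrix.diagonal_mul, Matrix.mul_diagonal]
      rcases eq_or_ne a l with ha | ha <;> rcases eq_or_ne b l with hb | hb
      · simp [sgnVec, ha, hb]
      · rw [ha, (axis_row hd hc0 hc hα b hb).1]; ring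
      · rw [hb, (axis_row hd hc0 hc hα a ha).2]; ring
      · simp [sgnVec, ha, hb]
    · exact ((mem_Cs hS Y).1 hg).2 l (Finset.mem_erase.2 ⟨hlk, hl⟩)
  have hek : ∀ l ∈ T₀, (Pi.single k 1 : ι → K) l = 0 := fun l hl =>
    Pi.single_eq_of_ne (Finset.mem_erase.1 hl).1 _
  have hv'0 : ∀ l ∈ T₀, v' l = 0 := by
    intro l hl
    obtain ⟨hlk, hlT⟩ := Finset.mem_erase.1 hl
    have hli : l ≠ i := fun h => by
      have : i ∈ Finset.univ \ T := by simp [hT]
      simp [← h, hlT] at this
    have hlj : l ≠ j := fun h => by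
      have : j ∈ Finset.univ \ T := by simp [hT]
      simp [← h, hlT] at this
    simp [hv', hli, hlj]
  have heig : ∀ x : S, cls x ∈ A → ∃ α : K,
      ((x : GL ι K) : Matrix ι ι K) *ᵥ Pi.single k 1 = α • (Pi.single k 1 : ι → K) := fun x hx =>
    ⟨((x : GL ι K) : Matrix ι ι K) k k, funext fun m => by
      rcases eq_or_ne m k with rfl | h
      · simp [mulVec_single_one]
      · simp [mulVec_single_one, h, (axis_of_mem hd h2 hS Y hY hx hk m h).2]⟩
  -- the key: conjugates landing in `A`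
  have key : ∀ g : S, cls g ∈ X → ∀ x : S, cls x ∈ A → cls x ≠ 1 → ∀ v : ι → K, B d v v = d k →
      (∀ l ∈ T₀, v l = 0) → ∀ β : K, ((x : GL ι K) : Matrix ι ι K) *ᵥ
        (((g : GL ι K) : Matrix ι ι K) *ᵥ v) = β • (((g : GL ι K) : Matrix ι ι K) *ᵥ v) →
      ∃ t : K, ((g : GL ι K) : Matrix ι ι K) *ᵥ v = t • (Pi.single k 1 : ι → K) := by
    intro g hg x hx hx1 v hv hv0 β hxv
    set w := ((g : GL ι K) : Matrix ι ι K) *ᵥ v
    obtain ⟨c, hc0, hc⟩ := exists_mult hd hS g.2
    have hw : B d w w ≠ 0 := by rw [hc, hv]; exact mul_ne_zero hc0 (hd k)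
    by_cases hne : w i ≠ 0 ∨ w j ≠ 0
    · exact absurd (two_axes hd h2 hS Y hY hT hij hx hw hne hxv) hx1
    push Not at hne
    refine ⟨w k, funext fun l => ?_⟩
    rcases eq_or_ne l k with rfl | hlk
    · simp
    rcases eq_or_ne l i with rfl | hli
    · simp [hne.1, hlk]
    rcases eq_or_ne l j with rfl | hlj
    · simp [hne.2, hlk]
    have := hsupp g hg v hv0 l (Finset.mem_erase.2 ⟨hlk, hmemT l hli hlj⟩)
    simp [hlk, this, w]
  have hnorm : ∀ g ∈ X, ∀ z ∈ A, z ≠ 1 → g⁻¹ * z * g ∈ A → g ∈ A := by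
    intro g hg z hz hz1 hz'
    obtain ⟨g, rfl⟩ := QuotientGroup.mk_surjective g
    obtain ⟨x, rfl⟩ := QuotientGroup.mk_surjective z
    obtain ⟨α, hα⟩ := heig (g⁻¹ * x * g) (by simpa [cls] using hz')
    obtain ⟨t, ht⟩ := key g hg x hz hz1 (Pi.single k 1) (by simp [B_single]) hek α (by
      have e : ((x : GL ι K) : Matrix ι ι K) * ((g : GL ι K) : Matrix ι ι K)
          = ((g : GL ι K) : Matrix ι ι K) * (((g⁻¹ * x * g : S) : GL ι K) : Matrix ι ι K) := by
        rw [← Units.val_mul, ← Units.val_mul, ← Subgroup.coe_mul, ← Subgroup.coe_mul]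
        congr 2
        group
      rw [mulVec_mulVec, e, ← mulVec_mulVec, hα, mulVec_smul])
    exact hA' g hg t ht
  have hdisj : ∀ h ∈ X, ∀ z ∈ A, z ≠ 1 → R * (h⁻¹ * z * h) * R ∈ A → False := by
    intro h hh z hz hz1 hz'
    obtain ⟨g, rfl⟩ := QuotientGroup.mk_surjective h
    obtain ⟨x, rfl⟩ := QuotientGroup.mk_surjective z
    let rr : S := ⟨rG, hrS⟩
    obtain ⟨α, hα⟩ := heig (rr * (g⁻¹ * x * g) * rr) (by simpa [cls, hRdef] using hz')
    obtain ⟨t, ht⟩ := key g hh x hz hz1 v' hQv hv'0 α (by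
      have e : ((x : GL ι K) : Matrix ι ι K) * ((g : GL ι K) : Matrix ι ι K)
          = ((g : GL ι K) : Matrix ι ι K) *
            (r * ((((rr * (g⁻¹ * x * g) * rr : S) : GL ι K) : Matrix ι ι K)) * r) := by
        show _ = _ * (((rr : S) : GL ι K).1 * _ * ((rr : S) : GL ι K).1)
        simp only [← Units.val_mul, ← Subgroup.coe_mul]
        congr 2
        have hrr' : rr * rr = 1 := Subtype.ext (Units.ext hrr)
        simp [mul_assoc, hrr', ← mul_assoc rr rr]
      rw [mulVec_mulVec, e, ← mulVec_mulVec, ← mulVec_mulVec, ← mulVec_mulVec, hrv', hα,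
        mulVec_smul, hrk, mulVec_smul])
    set M := ((g : GL ι K) : Matrix ι ι K) with hM
    have ht0 : t ≠ 0 := fun h0 => by
      obtain ⟨c, hc0, hc⟩ := exists_mult hd hS g.2
      have := hc v' v'
      rw [ht, h0, zero_smul, hQv] at this
      simp [B, hc0, hd] at this
    let ek : S := ⟨sgn k, sgn_mem hS k⟩
    have hek2 : ek * ek = 1 := by
      apply Subtype.ext
      apply Units.ext
      show Matrix.diagonal (sgnVec k) * Matrix.diagonal (sgnVec k) = 1
      rw [Matrix.diagonal_mul_diagonal, sgnVec_sq]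
      exact Matrix.diagonal_one
    have hconj : cls (ek * g * ek) ∈ X := by
      rw [cls, QuotientGroup.mk_mul, QuotientGroup.mk_mul]
      exact conj_mem_Cs hS Y (sgn_sq hS k) (fun l _ => sgn_comm hS k l) hh
    have hz'' : cls (ek * g * ek * g⁻¹) ∈ A := by
      refine hA' _ ?_ (-1) ?_
      · rw [cls, QuotientGroup.mk_mul, QuotientGroup.mk_inv]
        exact X.mul_mem hconj (X.inv_mem hh)
      · have hinv : (((g⁻¹ : S) : GL ι K) : Matrix ι ι K) *ᵥ Pi.single k 1 = t⁻¹ • v' := by
          have e : (((g⁻¹ : S) : GL ι K) : Matrix ι ι K) *ᵥ (M *ᵥ v') = v' := by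
            rw [mulVec_mulVec, hM, ← Units.val_mul, ← Subgroup.coe_mul, inv_mul_cancel]
            simp
          rw [ht, mulVec_smul] at e
          conv_rhs => rw [← e, inv_smul_smul₀ ht0]
        show (Matrix.diagonal (sgnVec k) * M * Matrix.diagonal (sgnVec k) * _) *ᵥ _ = _
        rw [← mulVec_mulVec, hinv, mulVec_smul, ← mulVec_mulVec, ← mulVec_mulVec]
        have e1 : Matrix.diagonal (sgnVec k) *ᵥ v' = v' := by
          funext l
          rcases eq_or_ne l k with rfl | hl
          · simp [mulVec_diagonal, hv'k]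
          · simp [mulVec_diagonal, sgnVec, hl]
        have e3 : Matrix.diagonal (sgnVec k) *ᵥ (Pi.single k 1 : ι → K) = -Pi.single k 1 := by
          funext l
          rcases eq_or_ne l k with rfl | hl
          · simp [mulVec_diagonal, sgnVec]
          · simp [mulVec_diagonal, hl]
        rw [e1, ht, mulVec_smul, e3, smul_smul, inv_mul_cancel₀ ht0, one_smul, neg_one_smul]
    have hzY := ((mem_Cs hS Y).1 hz'').1
    have hzk := ((mem_Cs hS Y).1 hz'').2 k hk
    set E := cls (S := S) ⟨sgn k, sgn_mem hS k⟩ with hE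
    set G := cls g with hG
    have hz2 : cls (ek * g * ek * g⁻¹) = E * G * E * G⁻¹ := by
      rw [cls, QuotientGroup.mk_mul, QuotientGroup.mk_mul, QuotientGroup.mk_mul,
        QuotientGroup.mk_inv]
    rw [hz2] at hzY hzk
    have hEE : E * E = 1 := sgn_sq hS k
    have hEi : E⁻¹ = E := inv_eq_of_mul_eq_one_right hEE
    have hz1' : E * G * E * G⁻¹ = 1 := by
      refine eq_one_of_sq Y hY hzY ?_
      have e : E * (E * G * E * G⁻¹) * E = (E * G * E * G⁻¹)⁻¹ := by
        simp [mul_assoc, hEi, ← mul_assoc E E, hEE]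
      rw [hzk, mul_assoc, hEE, mul_one] at e
      exact eq_inv_iff_mul_eq_one.1 e
    have hgA : G ∈ A := by
      refine (mem_Cs hS Y).2 ⟨((mem_Cs hS Y).1 hh).1, fun l hl => ?_⟩
      rcases eq_or_ne l k with rfl | hlk
      · calc E * G = E * G * E * G⁻¹ * (G * E) := by simp [mul_assoc, hEE]
          _ = G * E := by rw [hz1', one_mul]
      · exact ((mem_Cs hS Y).1 hh).2 l (Finset.mem_erase.2 ⟨hlk, hl⟩)
    have e0 : (M *ᵥ v') k = 0 := by
      show ∑ m, M k m * v' m = 0
      refine Finset.sum_eq_zero fun m _ => ?_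
      rcases eq_or_ne m k with rfl | hm
      · rw [hv'k, mul_zero]
      · rw [hM, (axis_of_mem hd h2 hS Y hY hgA hk m hm).1, zero_mul]
    rw [ht] at e0
    simp [ht0] at e0
  -- counting
  let A0 : Subgroup X := A.subgroupOf X
  have hcardA : Nat.card A0 = Nat.card A := Nat.card_congr (Subgroup.subgroupOfEquivOfLe hAX).toEquiv
  let P := (X ⧸ A0) × {a : A // (a : Cfsg.projQuot S) ≠ 1}
  let f : P → Cfsg.projQuot S :=
    fun p => (p.1.out : Cfsg.projQuot S) * (p.2.1 : Cfsg.projQuot S) * (p.1.out : Cfsg.projQuot S)⁻¹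
  have hfmem : ∀ p, f p ∈ X ∧ f p ≠ 1 := fun p =>
    ⟨X.mul_mem (X.mul_mem p.1.out.2 (hAX p.2.1.2)) (X.inv_mem p.1.out.2), fun h => p.2.2 (by
      simpa [f, mul_inv_eq_one] using h)⟩
  have hf : Function.Injective f := by
    intro p p' h
    have h' : ((p'.1.out : Cfsg.projQuot S)⁻¹ * (p.1.out : Cfsg.projQuot S)) * (p.2.1 : Cfsg.projQuot S)
        * ((p'.1.out : Cfsg.projQuot S)⁻¹ * (p.1.out : Cfsg.projQuot S))⁻¹ = p'.2.1 := by
      calc _ = (p'.1.out : Cfsg.projQuot S)⁻¹ * f p * (p'.1.out : Cfsg.projQuot S) := by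
            simp [f, mul_assoc]
        _ = _ := by rw [h]; simp [f, mul_assoc]
    set g := (p'.1.out : Cfsg.projQuot S)⁻¹ * (p.1.out : Cfsg.projQuot S) with hg
    have hgA : g ∈ A := hnorm g (X.mul_mem (X.inv_mem p'.1.out.2) p.1.out.2) _ p'.2.1.2 p'.2.2 (by
      rw [← h']
      simp [mul_assoc])
    have h1 : p'.1 = p.1 := by
      rw [← QuotientGroup.out_eq' p'.1, ← QuotientGroup.out_eq' p.1]
      exact QuotientGroup.eq.2 (Subgroup.mem_subgroupOf.2 hgA)
    have hg1 : g = 1 := by rw [hg, h1, inv_mul_cancel]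
    rw [hg1, one_mul, inv_one, mul_one] at h'
    exact Prod.ext h1.symm (Subtype.ext (Subtype.ext h'))
  let F : P ⊕ P → {z : X // (z : Cfsg.projQuot S) ≠ 1} := Sum.elim
    (fun p => ⟨⟨f p, (hfmem p).1⟩, (hfmem p).2⟩)
    (fun p => ⟨⟨R * f p * R, hXR _ (hfmem p).1⟩, fun h => (hfmem p).2 (by
      have e : f p = R * (R * f p * R) * R := by simp [mul_assoc, hRR, ← mul_assoc R R]
      rw [e, show R * f p * R = 1 from h, mul_one, hRR])⟩)
  have hcross : ∀ p p', f p = R * f p' * R → False := by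
    intro p p' h
    have hh : R * ((p'.1.out : Cfsg.projQuot S)) * R ∈ X := hXR _ p'.1.out.2
    refine hdisj (((p.1.out : Cfsg.projQuot S))⁻¹ * (R * (p'.1.out : Cfsg.projQuot S) * R))
      (X.mul_mem (X.inv_mem p.1.out.2) hh) _ p.2.1.2 p.2.2 ?_
    have e : (p.2.1 : Cfsg.projQuot S)
        = (p.1.out : Cfsg.projQuot S)⁻¹ * (R * f p' * R) * (p.1.out : Cfsg.projQuot S) := by
      rw [← h]; simp [f, mul_assoc]
    convert p'.2.1.2 using 1
    rw [e]
    simp [f, mul_assoc, hRi, hRR, ← mul_assoc R R]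
  have hF : Function.Injective F := by
    rintro (p | p) (p' | p') h <;>
      have h' := congrArg (fun z : {z : X // (z : Cfsg.projQuot S) ≠ 1} => (z.1 : Cfsg.projQuot S)) h <;>
      simp only [F, Sum.elim_inl, Sum.elim_inr] at h'
    · rw [hf h']
    · exact (hcross p p' h').elim
    · exact (hcross p' p h'.symm).elim
    · rw [hf (mul_left_cancel (mul_right_cancel h'))]
  haveI : Finite X := inferInstance
  have hle := Nat.card_le_card_of_injective F hF
  rw [Nat.card_sum, Nat.card_prod] at hle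
  have hA2 : Nat.card {a : A // (a : Cfsg.projQuot S) ≠ 1} + 1 = Nat.card A := by
    rw [← Nat.card_congr (Equiv.sumCompl fun a : A => (a : Cfsg.projQuot S) ≠ 1), Nat.card_sum]
    congr 1
    symm
    rw [Nat.card_eq_one_iff_unique]
    exact ⟨⟨fun a b => Subtype.ext (Subtype.ext (by
      rw [not_not.1 a.2, not_not.1 b.2]))⟩, ⟨⟨1, fun h => h rfl⟩⟩⟩
  have hX2 : Nat.card {z : X // (z : Cfsg.projQuot S) ≠ 1} + 1 = Nat.card X := by
    rw [← Nat.card_congr (Equiv.sumCompl fun z : X => (z : Cfsg.projQuot S) ≠ 1), Nat.card_sum]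
    congr 1
    symm
    rw [Nat.card_eq_one_iff_unique]
    exact ⟨⟨fun a b => Subtype.ext (Subtype.ext (by
      rw [not_not.1 a.2, not_not.1 b.2]))⟩, ⟨⟨1, fun h => h rfl⟩⟩⟩
  have hXA := Subgroup.card_eq_card_quotient_mul_card_subgroup A0
  rw [hcardA] at hXA
  have hpos : 0 < Nat.card {a : A // (a : Cfsg.projQuot S) ≠ 1} := by
    haveI : Nonempty {a : A // (a : Cfsg.projQuot S) ≠ 1} := ⟨⟨⟨y₀, hy₀⟩, hy₀1⟩⟩
    exact Nat.card_pos
  have : Nonempty (X ⧸ A0) := ⟨QuotientGroup.mk 1⟩
  have hm : 0 < Nat.card (X ⧸ A0) := Nat.card_pos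
  nlinarith

/-- The projective similitude group has no non-trivial normal subgroup of odd order. -/
theorem odd_core (hn : 3 ≤ Fintype.card ι) : Y = ⊥ := by
  haveI : Nonempty ι := Fintype.card_pos_iff.1 (by omega)
  have main : ∀ m (T : Finset ι), (Finset.univ \ T).card = m → ∀ y ∈ Cs hS Y T, y = 1 := by
    intro m
    induction m using Nat.strong_induction_on with
    | _ m ih =>
      intro T hm
      by_cases h1 : m ≤ 1
      · exact step_small hd h2 hS Y hY (hm.trans_le h1)
      by_cases h3 : m = 2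
      · exact step_pair hd h2 hS Y hY hn (hm.trans h3)
      refine step_big hd h2 hS Y hY (by omega) fun i hi => ?_
      have hc : (Finset.univ \ insert i T).card = m - 1 := by
        rw [Finset.sdiff_insert, Finset.card_erase_of_mem (by simp [hi]), hm]
      exact ih _ (by omega) _ hc
  rw [Subgroup.eq_bot_iff_forall]
  intro y hy
  exact main _ ∅ rfl y ((mem_Cs hS Y).2 ⟨hy, by simp⟩)

end Cfsg.Agent.OddCoreOrth52
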