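import Mathlib
import Cfsg.Prelude.Def_Solvable
import Cfsg.Agent.Lib.AutOrthMinus52Models
import Cfsg.Agent.Lib.OddCoreOrth52
import Cfsg.Agent.Lib.BalanceGeneric52

/-!
An odd-order group normalised by the inner centraliser of a similarity involution with odd-dimensional
models is trivial.
-/

set_option autoImplicit false
set_option linter.unusedSectionVars false

namespace Cfsg.Agent.AutOrthMinus52Graph

open QuadraticMap Module
open scoped Matrix MatrixGroups
open Cfsg.Agent.OrthUnitaryQuad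
open Cfsg.Agent.OrthUnitaryRefl
open Cfsg.Agent.OrthUnitaryOmega
open Cfsg.Agent.OrthUnitaryPrelude
open Cfsg.Agent.OrthUnitarySimAut
open Cfsg.Agent.OmegaClasses
open Cfsg.Agent.AutOrth45Api
open Cfsg.Agent.AutOrth45InnDiag
open Cfsg.Agent.AutOrth45Gal
open Cfsg.Agent.AutOrthMinus52Models
open Cfsg.Agent.OrthUnitarySimilar (ofOrth ofOrth_mulVec)
open Cfsg.Agent.AutOrth45Types (semi_smul)
open Cfsg.Agent.AutOrthOdd52Balance (bv)

variable {ι : Type} [Fintype ι] [DecidableEq ι] {F : Type*} [Field F] [Fintype F]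
  {Q : QuadraticForm F (ι → F)}

theorem eq_one_of_sq {G : Type*} [Group G] [Finite G] {N : Subgroup G} (hN : Odd (Nat.card N))
    {n : G} (hn : n ∈ N) (h2 : n * n = 1) : n = 1 :=
  BalanceGeneric52.eq_one_of_coprime n 2 (by rw [pow_two]; exact h2) hn hN.coprime_two_right

theorem finite_aut : Finite (MulAut (POmega F ⇑Q)) :=
  Finite.of_injective (fun α => (α : POmega F ⇑Q → POmega F ⇑Q)) DFunLike.coe_injective

variable (h : AutOrth45.Good Q)

/-- A semisimilarity whose square is scalar gives an element of square one. -/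
theorem sq_one {k : GL ι F} (hp : IsSemisimilarityPair ⇑Q k (RingEquiv.refl F)) {μ : F}
    (hsq : ∀ v, semi k (RingEquiv.refl F) (semi k (RingEquiv.refl F) v) = μ • v) :
    semiAut h k _ hp * semiAut h k _ hp = 1 := by
  obtain ⟨c, hc⟩ := id hp
  let d : Sim Q := ⟨k, c, fun v => hc v⟩
  rw [show semiAut h k _ hp = conjP Q d from (conjP_eq h d).symm, ← map_mul, ← MonoidHom.mem_ker]
  refine scalarSim_le_ker Q ((mem_scalarSim Q).2 ⟨μ, ?_, fun h0 => ?_⟩)
  · refine Matrix.ext_iff_mulVec.2 fun v => ?_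
    rw [Matrix.smul_mulVec, Matrix.one_mulVec]
    show (k.1 * k.1) *ᵥ v = μ • v
    rw [← Matrix.mulVec_mulVec]
    exact hsq v
  · haveI : Nonempty ι := Fintype.card_pos_iff.1 (by have := AutOrth45Coset.five_le h; omega)
    have := hsq 1
    rw [h0, zero_smul] at this
    exact one_ne_zero (α := ι → F) ((map_eq_zero_iff _ (semi k (RingEquiv.refl F)).injective).1
      ((map_eq_zero_iff _ (semi k (RingEquiv.refl F)).injective).1 this))

/-- Commuting with the automorphism of a similarity. -/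
theorem exists_twist {k : GL ι F} {τ : F ≃+* F} (hp : IsSemisimilarityPair ⇑Q k τ) (g : Sim Q)
    (hc : Commute (semiAut h k τ hp) (conjP Q g)) :
    ∃ l : F, l ≠ 0 ∧ ∀ v, semi k τ ((g : GL ι F).1 *ᵥ v) = l • ((g : GL ι F).1 *ᵥ semi k τ v) := by
  obtain ⟨d, hd⟩ := exists_moved hp g
  have h1 := semiAut_mul_sim h hp g d hd
  rw [hc.eq, mul_left_inj] at h1
  have h3 : d * g⁻¹ ∈ (conjP Q).ker := by rw [MonoidHom.mem_ker, map_mul, map_inv, ← h1, mul_inv_cancel]
  rw [ker_conjP Q h.nd (AutOrth45Coset.five_le h), mem_scalarSim] at h3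
  obtain ⟨l, hl, hl0⟩ := h3
  refine ⟨l, hl0, fun v => ?_⟩
  have h4 : (d : GL ι F).1 = l • (g : GL ι F).1 := by
    rw [show d = d * g⁻¹ * g by group, Subgroup.coe_mul, Units.val_mul, hl, Matrix.smul_mul,
      Matrix.one_mul]
  rw [hd, h4, Matrix.smul_mulVec]

/-- The multiplier of the polar form. -/
theorem polar_semi {k : GL ι F} {τ : F ≃+* F} {μ : F} (hμ : ∀ v, Q (semi k τ v) = μ * τ (Q v))
    (v w : ι → F) : polar Q (semi k τ v) (semi k τ w) = μ * τ (polar Q v w) := by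
  simp only [polar, ← map_add (semi k τ), hμ, map_sub, mul_sub]

section In

variable {K : Type*} [Field K] [Algebra F K] [Fintype K] {n : ℕ}

/-- A model commuting with the similarity gives elements of `W`. -/
theorem inMap_mem (M : Model Q K n) (g : Sim Q) (W : Subgroup (MulAut (POmega F ⇑Q)))
    (hW : ∀ c : POmega F ⇑Q, Commute (MulAut.conj c) (conjP Q g) → MulAut.conj c ∈ W) (r : K)
    (hGE : ∀ a, (g : GL ι F).1 *ᵥ M.E a = M.E (r • a))
    (hGP : ∀ w, M.P w = 0 → M.P ((g : GL ι F).1 *ᵥ w) = 0)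
    (s : Omega K ⇑(QuadClassify.qOdd n K)) : OrthModelKill52.inMap M.X s ∈ W := by
  rw [OrthModelKill52.inMap_apply]
  refine hW _ ?_
  rw [← OrthModelKill52.inMap_apply, OrthModelKill52.inMap_eq_conjP]
  refine Commute.map (Subtype.ext (Units.ext ?_)) (conjP Q)
  exact (M.commute _ r hGE hGP s.1).symm

end In

/-! ### Eigenspace models -/

section Eigen

variable (h2 : (2 : F) ≠ 0) (t : Matrix ι ι F) (htt : t * t = 1) (hQt : ∀ v, Q (t *ᵥ v) = Q v)

/-- An eigenspace of an involutory matrix. -/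
def eig (ε : F) : Submodule F (ι → F) := LinearMap.ker (t.mulVecLin - ε • LinearMap.id)

theorem mem_eig {t : Matrix ι ι F} {ε : F} {v : ι → F} : v ∈ eig t ε ↔ t *ᵥ v = ε • v := by
  simp [eig, sub_eq_zero]

include h2 htt hQt

theorem polar_t (v w : ι → F) : polar Q (t *ᵥ v) w = polar Q v (t *ᵥ w) := by
  have key : ∀ a b, polar Q (t *ᵥ a) (t *ᵥ b) = polar Q a b := fun a b => by
    simp only [polar, ← Matrix.mulVec_add, hQt]
  conv_rhs => rw [← key, Matrix.mulVec_mulVec _ t t, htt, Matrix.one_mulVec]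

theorem polar_eig {v w : ι → F} {ε : F} (hε : ε * ε = 1) (hv : t *ᵥ v = ε • v)
    (hw : t *ᵥ w = -ε • w) : polar Q v w = 0 := by
  have e := polar_t h2 t htt hQt v w
  rw [hv, hw, polar_smul_left, polar_smul_right, smul_eq_mul, smul_eq_mul] at e
  have e2 : (2 : F) * polar Q v w = 0 := by linear_combination ε * e - 2 * polar Q v w * hε
  exact (mul_eq_zero.1 e2).resolve_left h2

theorem proj_mem {ε : F} (hε : ε * ε = 1) (v : ι → F) :
    (2 : F)⁻¹ • (v + ε • (t *ᵥ v)) ∈ eig t ε := by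
  rw [mem_eig, Matrix.mulVec_smul, Matrix.mulVec_add, Matrix.mulVec_smul, Matrix.mulVec_mulVec, htt,
    Matrix.one_mulVec, smul_comm ε, smul_add ε, smul_smul ε ε, hε, one_smul, add_comm]

theorem exists_eigen_model (hQ : (polarBilin Q).Nondegenerate) {ε : F} (hε : ε * ε = 1) {n : ℕ}
    (hd : finrank F (eig t ε) = 2 * n + 1) :
    ∃ M : Model Q F n, (∀ v, M.qv v = Q v) ∧ (∀ a, t *ᵥ M.E a = ε • M.E a) ∧
      (∀ w, M.P w = 0 ↔ t *ᵥ w = -ε • w) ∧
      (∀ v, t *ᵥ v = ε • v → M.E (M.P v) = v) := by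
  set U := eig t ε with hU
  have hsplit : ∀ v : ι → F, v = (2 : F)⁻¹ • (v + ε • (t *ᵥ v)) +
      (2 : F)⁻¹ • (v + (-ε) • (t *ᵥ v)) := fun v => by
    rw [← smul_add, neg_smul, show v + ε • (t *ᵥ v) + (v + -(ε • (t *ᵥ v))) = (2 : F) • v by
      rw [two_smul]; abel, smul_smul, inv_mul_cancel₀ h2, one_smul]
  have hperp : ∀ (a : U) (v : ι → F),
      polar Q (a : ι → F) ((2 : F)⁻¹ • (v + (-ε) • (t *ᵥ v))) = 0 := fun a v =>
    polar_eig h2 t htt hQt hε (mem_eig.1 a.2)
      (mem_eig.1 (proj_mem h2 t htt hQt (by linear_combination hε) v))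
  have hnd : (polarBilin (Q.comp U.subtype)).Nondegenerate := by
    refine OrthUnitaryOmega.nondegenerate_of_isReg h2 fun a ha _ => Subtype.ext (hQ.1 _ fun v => ?_)
    rw [polarBilin_apply_apply, hsplit v, polar_add_right, hperp a, add_zero]
    exact ha ⟨_, proj_mem h2 t htt hQt hε v⟩
  obtain ⟨e, c, hc, he⟩ := exists_std (Q.comp U.subtype) hnd hd
  let π : (ι → F) →ₗ[F] U := LinearMap.codRestrict U
    ((2 : F)⁻¹ • ((LinearMap.id : (ι → F) →ₗ[F] (ι → F)) + ε • t.mulVecLin))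
    (proj_mem h2 t htt hQt hε)
  have hπ : ∀ v, (π v : ι → F) = (2 : F)⁻¹ • (v + ε • (t *ᵥ v)) := fun v => rfl
  have hfix : ∀ v, t *ᵥ v = ε • v → (π v : ι → F) = v := fun v hv => by
    rw [hπ, hv, smul_smul ε ε, hε, one_smul, ← two_smul F v, smul_smul, inv_mul_cancel₀ h2, one_smul]
  refine ⟨⟨U.subtype ∘ₗ e.toLinearMap, e.symm.toLinearMap ∘ₗ π, Q, c, id, hc, fun a => ?_,
    fun a v => ?_, he, fun a => rfl⟩, fun v => rfl, fun a => mem_eig.1 (e a).2, fun w => ?_,
    fun v hv => ?_⟩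
  · show e.symm (π (e a : ι → F)) = a
    rw [e.symm_apply_eq]
    exact Subtype.ext (hfix _ (mem_eig.1 (e a).2))
  · show polar Q (e a : ι → F) (v - (e (e.symm (π v)) : ι → F)) = 0
    rw [e.apply_symm_apply, hπ]
    nth_rewrite 1 [hsplit v]
    rw [add_sub_cancel_left]
    exact hperp (e a) v
  · show e.symm (π w) = 0 ↔ _
    rw [LinearEquiv.map_eq_zero_iff, Subtype.ext_iff, hπ, ZeroMemClass.coe_zero, smul_eq_zero,
      or_iff_right (inv_ne_zero h2), neg_smul]
    constructor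
    · intro e0
      have e1 := congrArg (ε • ·) e0
      simp only [smul_add, smul_smul, hε, one_smul, smul_zero] at e1
      exact (neg_eq_of_add_eq_zero_right e1).symm
    · intro e0
      rw [e0, smul_neg, smul_smul, hε, one_smul, add_neg_cancel]
  · show (e (e.symm (π v)) : ι → F) = v
    rw [e.apply_symm_apply, hfix v hv]

variable {k : GL ι F} {τ : F ≃+* F} {μ : F} (hμ : ∀ v, Q (semi k τ v) = μ * τ (Q v))
  (hcomm : ∀ v, semi k τ (t *ᵥ v) = t *ᵥ semi k τ v) {ε : F} (hε : ε * ε = 1) {n : ℕ}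
  (M : Model Q F n) (hMq : ∀ v, M.qv v = Q v) (hME : ∀ a, t *ᵥ M.E a = ε • M.E a)
  (hMP : ∀ w, M.P w = 0 ↔ t *ᵥ w = -ε • w) (hMfix : ∀ v, t *ᵥ v = ε • v → M.E (M.P v) = v)

include hμ hcomm hε hMq hME hMP hMfix

theorem map_sign : τ ε = ε := by
  rcases mul_self_eq_one_iff.1 hε with rfl | rfl <;> simp

theorem eigen_transfer :
    (∀ a, M.E (M.P (semi k τ (M.E a))) = semi k τ (M.E a)) ∧
    (∀ w, M.P w = 0 → M.P (semi k τ w) = 0) ∧
    (∀ (r : F) a, M.P (semi k τ (M.E (r • a))) = τ r • M.P (semi k τ (M.E a))) ∧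
    (∀ a, M.qv (semi k τ (M.E a)) = μ * τ (M.qv (M.E a))) := by
  have hτ := map_sign (μ := μ) h2 t htt hQt hμ hcomm hε M hMq hME hMP hMfix
  refine ⟨fun a => hMfix _ ?_, fun w hw => (hMP _).2 ?_, fun r a => ?_, fun a => ?_⟩
  · rw [← hcomm, hME, semi_smul, hτ]
  · rw [← hcomm, (hMP w).1 hw, semi_smul, map_neg, hτ]
  · rw [map_smul, semi_smul, map_smul]
  · rw [hMq, hMq, hμ]

end Eigen

/-! ### Three dimensions -/

section Three

variable {d : Fin 3 → F}

/-- An odd normal subgroup of the three-dimensional orthogonal group consists of scalars. -/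
theorem three_scalar (h2 : (2 : F) ≠ 0) (Y : Subgroup (isometryGroup F ⇑(QuadClassify.qOdd 1 F)))
    [Y.Normal] (hY : Odd (Nat.card Y)) {s : isometryGroup F ⇑(QuadClassify.qOdd 1 F)} (hs : s ∈ Y) :
    s * s = 1 := by
  classical
  let q := QuadClassify.qOdd 1 F
  let d : Fin 3 → F := ![1, 1, -1]
  let ψ : (Fin 3 → F) ≃ₗ[F] (Unit ⊕ (Fin 1 ⊕ Fin 1) → F) :=
    { toFun := fun w => Sum.elim (fun _ => w 0) (Sum.elim (fun _ => w 1 + w 2) fun _ => w 1 - w 2)
      map_add' := fun a b => by funext i; rcases i with _ | _ | _ <;> simp <;> ring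
      map_smul' := fun r a => by funext i; rcases i with _ | _ | _ <;> simp <;> ring
      invFun := fun a => ![a (.inl ()), (a (.inr (.inl 0)) + a (.inr (.inr 0))) / 2,
        (a (.inr (.inl 0)) - a (.inr (.inr 0))) / 2]
      left_inv := fun a => by funext i; fin_cases i <;> simp <;> field_simp <;> ring
      right_inv := fun a => by
        funext i
        rcases i with _ | i | i
        · simp
        · obtain rfl : i = 0 := Subsingleton.elim _ _
          simp; field_simp; ring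
        · obtain rfl : i = 0 := Subsingleton.elim _ _
          simp; field_simp; ring }
  set qd : QuadraticForm F (Fin 3 → F) := q.comp ψ.toLinearMap with hqd
  have hval : ∀ w, qd w = OddCoreOrth52.B d w w := fun w => by
    simp [hqd, q, d, ψ, OddCoreOrth52.B, Fin.sum_univ_three, QuadClassify.qOdd_apply,
      Cfsg.quadFormOdd]
    ring
  have hsim : ∀ (A : Matrix (Fin 3) (Fin 3) F) (c : F),
      (∀ v, qd (A *ᵥ v) = c * qd v) ↔ Aᵀ * Matrix.diagonal d * A = c • Matrix.diagonal d := by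
    intro A c
    rw [← OddCoreOrth52.isSim_iff]
    refine ⟨fun hA v w => mul_left_cancel₀ h2 ?_, fun hA v => by rw [hval, hval, hA]⟩
    have e := hA (v + w)
    rw [Matrix.mulVec_add, hval, hval, OddCoreOrth52.B_add_left, OddCoreOrth52.B_add_right,
      OddCoreOrth52.B_add_right, OddCoreOrth52.B_add_left, OddCoreOrth52.B_add_right,
      OddCoreOrth52.B_add_right, OddCoreOrth52.B_comm (A *ᵥ w), OddCoreOrth52.B_comm w,
      ← hval, ← hval, ← hval, ← hval, hA, hA] at e
    linear_combination e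
  have hdd : ∀ l, d l ≠ 0 := fun l => by fin_cases l <;> simp [d]
  set S := Sim qd with hSdef
  have hS : ∀ x : GL (Fin 3) F, x ∈ S ↔ ∃ c : F,
      (x : Matrix (Fin 3) (Fin 3) F)ᵀ * Matrix.diagonal d * (x : Matrix (Fin 3) (Fin 3) F)
        = c • Matrix.diagonal d := by
    intro x
    refine ⟨fun ⟨c, hc⟩ => ⟨c, (hsim _ _).1 hc⟩, fun ⟨c, hc⟩ => ?_⟩
    have hc0 : c ≠ 0 := by
      rintro rfl
      have e := congrArg Matrix.det hc
      rw [zero_smul, Matrix.det_mul, Matrix.det_mul, Matrix.det_transpose, Matrix.det_diagonal,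
        Matrix.det_zero] at e
      simp [Finset.prod_eq_zero_iff, hdd, (Matrix.GeneralLinearGroup.det_ne_zero x)] at e
    exact ⟨Units.mk0 c hc0, (hsim _ _).2 hc⟩
  let tr : Matrix (Unit ⊕ (Fin 1 ⊕ Fin 1)) (Unit ⊕ (Fin 1 ⊕ Fin 1)) F →* Matrix (Fin 3) (Fin 3) F :=
    { toFun := fun A => LinearMap.toMatrix' (ψ.symm.toLinearMap ∘ₗ A.mulVecLin ∘ₗ ψ.toLinearMap)
      map_one' := by
        rw [← LinearMap.toMatrix'_id (R := F) (n := Fin 3)]
        exact congrArg _ (LinearMap.ext fun v => by simp)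
      map_mul' := fun A B => by
        rw [← LinearMap.toMatrix'_comp]
        exact congrArg _ (LinearMap.ext fun v => by simp) }
  have htr : ∀ A w, tr A *ᵥ w = ψ.symm (A *ᵥ ψ w) := fun A w => by
    show LinearMap.toMatrix' _ *ᵥ w = _
    rw [LinearMap.toMatrix'_mulVec]
    rfl
  let Φ : isometryGroup F ⇑q →* S := MonoidHom.codRestrict (MonoidHom.toHomUnits
    (tr.comp ((Units.coeHom _).comp (isometryGroup F ⇑q).subtype))) _ fun x => by
      refine ⟨1, fun v => ?_⟩
      show qd (tr (mat x) *ᵥ v) = _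
      rw [htr, Units.val_one, one_mul]
      show q (ψ (ψ.symm (mat x *ᵥ ψ v))) = q (ψ v)
      rw [ψ.apply_symm_apply]
      exact x.2 (ψ v) (ψ v)
  let Ψ : isometryGroup F ⇑q →* Cfsg.projQuot S := (QuotientGroup.mk' _).comp Φ
  have hsurj : Function.Surjective Ψ := by
    intro y
    obtain ⟨y, rfl⟩ := QuotientGroup.mk_surjective y
    obtain ⟨c, hc⟩ := (hS _).1 y.2
    set M := ((y : GL (Fin 3) F) : Matrix (Fin 3) (Fin 3) F)
    have hd0 : M.det ≠ 0 := Matrix.GeneralLinearGroup.det_ne_zero _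
    have he : M.det * M.det = c ^ 3 := by
      have e := congrArg Matrix.det hc
      rw [Matrix.det_mul, Matrix.det_mul, Matrix.det_transpose, Matrix.det_smul,
        Fintype.card_fin] at e
      refine mul_right_cancel₀ (b := (Matrix.diagonal d).det) ?_ (by linear_combination e)
      simp [Finset.prod_eq_zero_iff, hdd]
    have hc0 : c ≠ 0 := by rintro rfl; simp [hd0] at he
    set e := M.det / c with he'
    have he0 : e ≠ 0 := div_ne_zero hd0 hc0
    have hee : e * e = c := by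
      rw [he', div_mul_div_comm, he]; field_simp
    set A : Matrix (Unit ⊕ (Fin 1 ⊕ Fin 1)) (Unit ⊕ (Fin 1 ⊕ Fin 1)) F :=
      LinearMap.toMatrix' (ψ.toLinearMap ∘ₗ (e⁻¹ • M).mulVecLin ∘ₗ ψ.symm.toLinearMap) with hA
    have hAv : ∀ v, A *ᵥ v = ψ ((e⁻¹ • M) *ᵥ ψ.symm v) := fun v => by
      rw [hA, LinearMap.toMatrix'_mulVec]; rfl
    have hAq : ∀ v, q (A *ᵥ v) = q v := fun v => by
      rw [hAv]
      show qd ((e⁻¹ • M) *ᵥ ψ.symm v) = _
      rw [Matrix.smul_mulVec, QuadraticMap.map_smul, (hsim M c).2 hc, smul_eq_mul, ← mul_assoc,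
        ← mul_inv, hee, inv_mul_cancel₀ hc0, one_mul]
      show q (ψ (ψ.symm v)) = q v
      rw [ψ.apply_symm_apply]
    have hAdet : A.det ≠ 0 := by
      intro h0
      obtain ⟨v, hv0, hv⟩ := Matrix.exists_mulVec_eq_zero_iff.2 h0
      rw [hAv, LinearEquiv.map_eq_zero_iff, Matrix.smul_mulVec,
        smul_eq_zero, or_iff_right (inv_ne_zero he0)] at hv
      refine hv0 (ψ.symm.injective ?_)
      rw [map_zero]
      exact Matrix.mulVec_injective_iff_isUnit.2 ((Matrix.isUnit_iff_isUnit_det M).2 hd0.isUnit)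
        (hv.trans (Matrix.mulVec_zero M).symm)
    refine ⟨⟨Matrix.GeneralLinearGroup.mkOfDetNeZero A hAdet, fun v _ => hAq v⟩, ?_⟩
    refine (mul_inv_eq_one (a := Ψ _) (b := OddCoreOrth52.cls y)).1 ?_
    show OddCoreOrth52.cls _ * (OddCoreOrth52.cls y)⁻¹ = 1
    rw [← QuotientGroup.mk_inv, ← QuotientGroup.mk_mul, OddCoreOrth52.cls_eq_one]
    refine ⟨Units.mk0 e⁻¹ (inv_ne_zero he0), ?_⟩
    have h1 : tr A = e⁻¹ • M := Matrix.ext_iff_mulVec.2 fun v => by
      rw [htr, hAv, ψ.symm_apply_apply, ψ.symm_apply_apply]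
    show tr A * ((y : GL (Fin 3) F)⁻¹ : GL (Fin 3) F).1 = _
    rw [h1, Matrix.smul_mul, ← Units.val_mul, mul_inv_cancel, Units.val_one, Units.val_mk0]
  haveI : (Y.map Ψ).Normal := Subgroup.Normal.map inferInstance Ψ hsurj
  have hbot := OddCoreOrth52.odd_core hdd h2 hS (Y.map Ψ)
    (hY.of_dvd_nat (Subgroup.card_map_dvd Y Ψ)) (by simp)
  have h1 : OddCoreOrth52.cls (Φ s) = 1 := by
    rw [← Subgroup.mem_bot, ← hbot]; exact Subgroup.mem_map_of_mem Ψ hs
  obtain ⟨a, ha⟩ := OddCoreOrth52.cls_eq_one.1 h1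
  have h3 : mat s = (a : F) • 1 := Matrix.ext_iff_mulVec.2 fun v => by
    have e := htr (mat s) (ψ.symm v)
    rw [show tr (mat s) = _ from ha, Matrix.smul_mulVec, Matrix.one_mulVec, ψ.apply_symm_apply,
      eq_comm, ψ.symm_apply_eq, map_smul, ψ.apply_symm_apply] at e
    rw [Matrix.smul_mulVec, Matrix.one_mulVec]
    exact e
  have h4 : (a : F) * a = 1 := by
    have e : q (mat s *ᵥ bv F (.inl ())) = q (bv F (.inl ())) := s.2 (bv F (.inl ())) (bv F (.inl ()))
    rw [h3, Matrix.smul_mulVec, Matrix.one_mulVec, QuadraticMap.map_smul] at e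
    simpa [q, QuadClassify.qOdd_apply, Cfsg.quadFormOdd, AutOrthOdd52Balance.bv] using e
  refine Subtype.ext (Units.ext ?_)
  show mat s * mat s = 1
  rw [h3, Matrix.smul_mul, Matrix.one_mul, smul_smul, h4, one_smul]

end Three

end Cfsg.Agent.AutOrthMinus52Graph
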