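import Mathlib
import Cfsg.Agent.Lib.AutOrthMinus52Graph

/-!
An odd-order group normalised by the inner centraliser of a similarity involution with odd-dimensional
models is trivial.
-/

set_option autoImplicit false
set_option linter.unusedSectionVars false

namespace Cfsg.Agent.AutOrthMinus52Graph

open QuadraticMap Module
open scoped Matrix MatrixGroups
open Cfsg.Agent.OrthUnitaryQuad
open Cfsg.Agent.OrthUnitaryRefl
open Cfsg.Agent.OrthUnitaryOmega
open Cfsg.Agent.OrthUnitaryPrelude
open Cfsg.Agent.OrthUnitarySimAut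
open Cfsg.Agent.OmegaClasses
open Cfsg.Agent.AutOrth45Api
open Cfsg.Agent.AutOrth45InnDiag
open Cfsg.Agent.AutOrth45Gal
open Cfsg.Agent.AutOrthMinus52Models
open Cfsg.Agent.OrthUnitarySimilar (ofOrth ofOrth_mulVec)
open Cfsg.Agent.AutOrth45Types (semi_smul)
open Cfsg.Agent.AutOrthOdd52Balance (bv)

variable {ι : Type} [Fintype ι] [DecidableEq ι] {F : Type*} [Field F] [Fintype F]
  {Q : QuadraticForm F (ι → F)}

/-! ### The non-split case -/

/-- The similarity gives a quadratic structure with an odd-dimensional model. -/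
theorem nonsplit_case (h : AutOrth45.Good Q) (h2 : (2 : F) ≠ 0) {n : ℕ} (hn : 2 ≤ n)
    (hcard : Fintype.card ι = 2 * (2 * n + 1)) (g : Sim Q) {ν : F} (hν : ¬ IsSquare ν)
    (hgg : (g : GL ι F).1 * (g : GL ι F).1 = ν • 1)
    (hQg : ∀ v, Q ((g : GL ι F).1 *ᵥ v) = ν * Q v)
    (W N : Subgroup (MulAut (POmega F ⇑Q)))
    (hW : ∀ c : POmega F ⇑Q, Commute (MulAut.conj c) (conjP Q g) → MulAut.conj c ∈ W)
    (hWN : ∀ w ∈ W, ∀ y ∈ N, w * y * w⁻¹ ∈ N) (hN : Odd (Nat.card N))
    (hNC : ∀ y ∈ N, Commute y (conjP Q g)) : ∀ y ∈ N, y = 1 := by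
  classical
  haveI := finite_aut (Q := Q)
  haveI : Fact (∀ r : F, r ^ 2 ≠ ν + 0 * r) := ⟨fun r hr => hν ⟨r, by
    rw [zero_mul, add_zero] at hr; rw [← hr, pow_two]⟩⟩
  have hν0 : ν ≠ 0 := fun h0 => hν ⟨0, by simp [h0]⟩
  haveI : Finite (QuadraticAlgebra F ν 0) := Module.finite_of_finite F
  letI : Fintype (QuadraticAlgebra F ν 0) := Fintype.ofFinite (QuadraticAlgebra F ν 0)
  set G := (g : GL ι F).1 with hG
  let φ : (QuadraticAlgebra F ν 0) →ₐ[F] Module.End F (ι → F) := QuadraticAlgebra.lift ⟨Matrix.toLin' G, by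
    rw [zero_smul, add_zero, Module.End.mul_eq_comp, ← Matrix.toLin'_mul, hgg, map_smul,
      Matrix.toLin'_one]
    rfl⟩
  letI : Module (QuadraticAlgebra F ν 0) (ι → F) := Module.compHom (ι → F) φ.toRingHom
  have hsmul : ∀ (z : (QuadraticAlgebra F ν 0)) (v : ι → F), z • v = z.re • v + z.im • (G *ᵥ v) := fun z v => by
    show (z.re • (1 : Module.End F (ι → F)) + z.im • Matrix.toLin' G) v = _
    simp
  haveI : IsScalarTower F (QuadraticAlgebra F ν 0) (ι → F) := ⟨fun r z v => by
    rw [hsmul, hsmul, QuadraticAlgebra.re_smul, QuadraticAlgebra.im_smul]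
    simp [smul_smul, smul_add]⟩
  haveI : Module.Finite (QuadraticAlgebra F ν 0) (ι → F) := Module.Finite.of_restrictScalars_finite F (QuadraticAlgebra F ν 0) (ι → F)
  have hK2 : finrank F (QuadraticAlgebra F ν 0) = 2 := QuadraticAlgebra.finrank_eq_two ν 0
  have hdim : finrank (QuadraticAlgebra F ν 0) (ι → F) = 2 * n + 1 := by
    have := finrank_mul_finrank F (QuadraticAlgebra F ν 0) (ι → F)
    rw [hK2, Module.finrank_pi, hcard] at this
    omega
  have hGG : ∀ v, G *ᵥ (G *ᵥ v) = ν • v := fun v => by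
    rw [Matrix.mulVec_mulVec, hgg, Matrix.smul_mulVec, Matrix.one_mulVec]
  have hPG : ∀ v w, polar Q (G *ᵥ v) (G *ᵥ w) = ν * polar Q v w := fun v w => by
    simp only [polar, ← Matrix.mulVec_add, hQg, mul_sub]
  have hadj : ∀ v w, polar Q (G *ᵥ v) w = polar Q v (G *ᵥ w) := fun v w => by
    have e := hPG v (G *ᵥ w)
    rw [hGG, polar_smul_right, smul_eq_mul] at e
    exact mul_left_cancel₀ hν0 e
  let B : LinearMap.BilinMap (QuadraticAlgebra F ν 0) (ι → F) (QuadraticAlgebra F ν 0) := LinearMap.mk₂ (QuadraticAlgebra F ν 0)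
    (fun v w => (⟨polar Q v w / 2, polar Q v (G *ᵥ w) / (2 * ν)⟩ : (QuadraticAlgebra F ν 0)))
    (fun v v' w => by ext <;> simp [polar_add_left, add_div])
    (fun z v w => by
      ext
      · simp only [hsmul, polar_add_left, polar_smul_left, smul_eq_mul, hadj,
          QuadraticAlgebra.re_mul]
        field_simp
      · simp only [hsmul, polar_add_left, polar_smul_left, smul_eq_mul, hPG,
          QuadraticAlgebra.im_mul]
        field_simp
        ring)
    (fun v w w' => by ext <;> simp [polar_add_right, Matrix.mulVec_add, add_div])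
    (fun z v w => by
      ext
      · simp only [hsmul, polar_add_right, polar_smul_right, smul_eq_mul, QuadraticAlgebra.re_mul]
        field_simp
      · simp only [hsmul, Matrix.mulVec_add, Matrix.mulVec_smul, hGG, polar_add_right,
          polar_smul_right, smul_eq_mul, QuadraticAlgebra.im_mul]
        field_simp
        ring)
  let qK : QuadraticForm (QuadraticAlgebra F ν 0) (ι → F) := B.toQuadraticMap
  have hqK : ∀ v, qK v = (⟨Q v, polar Q v (G *ᵥ v) / (2 * ν)⟩ : (QuadraticAlgebra F ν 0)) := fun v => by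
    show (⟨_, _⟩ : (QuadraticAlgebra F ν 0)) = _
    ext
    · show polar Q v v / 2 = Q v
      rw [polar_self_mul]; field_simp
    · rfl
  have hndK : (polarBilin qK).Nondegenerate := by
    have key : ∀ v, (∀ w, polar qK v w = 0) → v = 0 := by
      intro v hv
      refine h.nd.1 v fun w => ?_
      have e := congrArg QuadraticAlgebra.re (hv w)
      simp only [polar, hqK, QuadraticAlgebra.re_sub, QuadraticAlgebra.re_zero] at e
      exact e
    exact ⟨fun v hv => key v hv, fun v hv => key v fun w => by rw [polar_comm]; exact hv w⟩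
  obtain ⟨e, c₀, hc₀, he⟩ := exists_std qK hndK hdim
  let M : Model Q (QuadraticAlgebra F ν 0) n :=
    { E := e.toLinearMap.restrictScalars F
      P := e.symm.toLinearMap.restrictScalars F
      qv := qK
      u := c₀
      f := QuadraticAlgebra.re
      u_ne := hc₀
      pe := e.symm_apply_apply
      orth := fun a v => by simp
      qv_val := he
      q_val := fun a => by rw [hqK] }
  have hGE : ∀ a, G *ᵥ M.E a = M.E ((⟨0, 1⟩ : (QuadraticAlgebra F ν 0)) • a) := fun a => by
    show _ = e ((⟨0, 1⟩ : (QuadraticAlgebra F ν 0)) • a)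
    rw [map_smul, hsmul]
    simp [M]
  have hP0 : ∀ w, M.P w = 0 → w = 0 := fun w hw => e.symm.map_eq_zero_iff.1 hw
  intro y hy
  obtain ⟨τ, k, hp, rfl⟩ := exists_semiAut h y
  obtain ⟨c, hc⟩ := id hp
  set μ := (c : F) with hμdef
  have hμ : ∀ v, Q (semi k τ v) = μ * τ (Q v) := fun v => hc v
  obtain ⟨l, hl0, hl⟩ := exists_twist h hp g (hNC _ hy)
  have hτν : τ ν = l * l * ν := by
    haveI : Nonempty ι := Fintype.card_pos_iff.1 (by omega)
    have e1 := hl (G *ᵥ 1)
    rw [hl 1, hGG, semi_smul, Matrix.mulVec_smul, hGG, smul_smul, smul_smul] at e1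
    exact smul_left_injective F (fun h0 : semi k τ 1 = 0 => one_ne_zero (α := ι → F)
      ((semi k τ).injective (h0.trans (map_zero _).symm))) e1
  let τK : (QuadraticAlgebra F ν 0) ≃+* (QuadraticAlgebra F ν 0) :=
    { toFun := fun z => ⟨τ z.re, l * τ z.im⟩
      invFun := fun z => ⟨τ.symm z.re, τ.symm (l⁻¹ * z.im)⟩
      left_inv := fun z => by ext <;> simp [hl0]
      right_inv := fun z => by ext <;> simp [hl0]
      map_mul' := fun z z' => by
        ext
        · simp [hτν]; ring
        · simp; ring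
      map_add' := fun z z' => by ext <;> simp [mul_add] }
  have hτK : ∀ z, τK z = ⟨τ z.re, l * τ z.im⟩ := fun z => rfl
  have hSsmul : ∀ (z : (QuadraticAlgebra F ν 0)) v, semi k τ (z • v) = τK z • semi k τ v := fun z v => by
    rw [hsmul, hsmul, map_add, semi_smul, semi_smul, hl, smul_smul, hτK, mul_comm]
  have hqS : ∀ v, qK (semi k τ v) = (algebraMap F (QuadraticAlgebra F ν 0) μ) * τK (qK v) := fun v => by
    have hsw : G *ᵥ semi k τ v = l⁻¹ • semi k τ (G *ᵥ v) := by
      rw [hl, smul_smul, inv_mul_cancel₀ hl0, one_smul]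
    rw [hqK, hqK, hτK, hsw, polar_smul_right, polar_semi hμ, hμ, smul_eq_mul]
    ext
    · simp
    · simp [hτν, map_ofNat]
      field_simp
  obtain ⟨hτ1, r, hr⟩ := M.kill τK (algebraMap F (QuadraticAlgebra F ν 0) μ) ((_root_.map_ne_zero _).2 c.ne_zero)
    (fun a => e.apply_symm_apply _) (fun w hw => by rw [hP0 w hw]; simp)
    (fun z a => by
      show e.symm (semi k τ (e (z • a))) = τK z • e.symm (semi k τ (e a))
      rw [map_smul, hSsmul, map_smul])
    (fun a => hqS _) h hp (fun h0 => h2 ((algebraMap F (QuadraticAlgebra F ν 0)).injective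
      (by rw [map_ofNat, map_zero]; exact h0))) hn W N
    (inMap_mem M g W hW _ hGE fun w hw => by rw [hP0 w hw, Matrix.mulVec_zero, map_zero]) hWN hN hy
  have hτ : τ = RingEquiv.refl F := RingEquiv.ext fun a => by
    have := congrArg QuadraticAlgebra.re (RingEquiv.congr_fun hτ1 (algebraMap F (QuadraticAlgebra F ν 0) a))
    simpa [hτK] using this
  subst hτ
  have hS : ∀ v, semi k (RingEquiv.refl F) v = r • v := fun v => by
    obtain ⟨a, rfl⟩ := e.surjective v
    exact (hr a).trans (map_smul e r a)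
  refine eq_one_of_sq hN hy (sq_one h hp (μ := μ) fun v => ?_)
  obtain ⟨v₀, hv₀⟩ : ∃ v₀, qK v₀ ≠ 0 :=
    exists_map_ne_zero (isReg_of_nondegenerate hndK) (by omega)
  have hrr : r * r = algebraMap F (QuadraticAlgebra F ν 0) μ := by
    have e1 := hqS v₀
    rw [hS, QuadraticMap.map_smul, hτ1, RingEquiv.refl_apply, smul_eq_mul] at e1
    exact mul_right_cancel₀ hv₀ e1
  rw [hS, hS, smul_smul, hrr, algebraMap_smul]

end Cfsg.Agent.AutOrthMinus52Graph
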