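import Mathlib
import Cfsg.Agent.Lib.AutOrthMinus52Graph

/-!
An odd-order group normalised by the inner centraliser of a similarity involution with odd-dimensional
models is trivial.
-/

set_option autoImplicit false
set_option linter.unusedSectionVars false

namespace Cfsg.Agent.AutOrthMinus52Graph

open QuadraticMap Module
open scoped Matrix MatrixGroups
open Cfsg.Agent.OrthUnitaryQuad
open Cfsg.Agent.OrthUnitaryRefl
open Cfsg.Agent.OrthUnitaryOmega
open Cfsg.Agent.OrthUnitaryPrelude
open Cfsg.Agent.OrthUnitarySimAut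
open Cfsg.Agent.OmegaClasses
open Cfsg.Agent.AutOrth45Api
open Cfsg.Agent.AutOrth45InnDiag
open Cfsg.Agent.AutOrth45Gal
open Cfsg.Agent.AutOrthMinus52Models
open Cfsg.Agent.OrthUnitarySimilar (ofOrth ofOrth_mulVec)
open Cfsg.Agent.AutOrth45Types (semi_smul)
open Cfsg.Agent.AutOrthOdd52Balance (bv)

variable {ι : Type} [Fintype ι] [DecidableEq ι] {F : Type*} [Field F] [Fintype F]
  {Q : QuadraticForm F (ι → F)}

/-! ### The split case -/

/-- Two eigenspaces of odd dimensions. -/
theorem split_case (h : AutOrth45.Good Q) (h2 : (2 : F) ≠ 0) (hn : 8 ≤ Fintype.card ι) (hev : Even (Fintype.card ι))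
    (t : Matrix ι ι F) (htt : t * t = 1) (hQt : ∀ v, Q (t *ᵥ v) = Q v) (hdet : t.det ≠ 1)
    (g : Sim Q) {ρ : F} (hρ : ρ ≠ 0) (hg : (g : GL ι F).1 = ρ • t)
    (W N : Subgroup (MulAut (POmega F ⇑Q)))
    (hW : ∀ c : POmega F ⇑Q, Commute (MulAut.conj c) (conjP Q g) → MulAut.conj c ∈ W)
    (hWN : ∀ w ∈ W, ∀ y ∈ N, w * y * w⁻¹ ∈ N) (hN : Odd (Nat.card N))
    (hNC : ∀ y ∈ N, Commute y (conjP Q g)) : ∀ y ∈ N, y = 1 := by
  classical
  haveI := finite_aut (Q := Q)
  -- the dimensions
  have hcompl : IsCompl (eig t 1) (eig t (-1)) := by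
    refine ⟨Submodule.disjoint_def.2 fun v h1 h3 => ?_, codisjoint_iff.2 (eq_top_iff.2 fun v _ => ?_)⟩
    · rw [mem_eig, one_smul] at h1
      rw [mem_eig, h1, neg_one_smul] at h3
      have : (2 : F) • v = 0 := by rw [two_smul]; nth_rewrite 2 [h3]; exact add_neg_cancel v
      exact (smul_eq_zero.1 this).resolve_left h2
    · refine Submodule.mem_sup.2 ⟨_, proj_mem h2 t htt hQt (mul_one (1 : F)) v, _,
        proj_mem h2 t htt hQt (by norm_num : (-1 : F) * -1 = 1) v, ?_⟩
      rw [one_smul, neg_one_smul, ← smul_add, show v + t *ᵥ v + (v + -(t *ᵥ v)) = (2 : F) • v by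
        rw [two_smul]; abel, smul_smul, inv_mul_cancel₀ h2, one_smul]
  set eU := Submodule.prodEquivOfIsCompl _ _ hcompl
  have hsum : finrank F (eig t 1) + finrank F (eig t (-1)) = Fintype.card ι := by
    rw [← Module.finrank_prod, eU.finrank_eq, Module.finrank_pi]
  have hodd : Odd (finrank F (eig t (-1))) := by
    by_contra hh
    refine hdet ?_
    have e : t.mulVecLin = eU.toLinearMap ∘ₗ
        ((LinearMap.id : eig t 1 →ₗ[F] eig t 1).prodMap
          ((-1 : F) • (LinearMap.id : eig t (-1) →ₗ[F] eig t (-1)))) ∘ₗ eU.symm.toLinearMap := by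
      refine LinearMap.ext fun v => ?_
      obtain ⟨p, rfl⟩ := eU.surjective v
      simp only [LinearMap.coe_comp, LinearEquiv.coe_coe, Function.comp_apply,
        LinearEquiv.symm_apply_apply]
      simp [eU, Submodule.coe_prodEquivOfIsCompl', Matrix.mulVec_add, mem_eig.1 p.1.2, mem_eig.1 p.2.2,
        Matrix.mulVec_smul]
    rw [← LinearMap.det_toLin', show Matrix.toLin' t = t.mulVecLin from rfl, e,
      LinearMap.det_conj, LinearMap.det_prodMap, LinearMap.det_id,
      LinearMap.det_smul, LinearMap.det_id, one_mul, mul_one,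
      (Nat.not_odd_iff_even.1 hh).neg_one_pow]
  intro y hy
  obtain ⟨τ, k, hp, rfl⟩ := exists_semiAut h y
  obtain ⟨c, hc⟩ := id hp
  set μ := (c : F)
  have hμ : ∀ v, Q (semi k τ v) = μ * τ (Q v) := fun v => hc v
  obtain ⟨l, hl0, hl⟩ := exists_twist h hp g (hNC _ hy)
  have hcomm0 : ∃ l' : F, l' * l' = 1 ∧ ∀ v, semi k τ (t *ᵥ v) = l' • (t *ᵥ semi k τ v) := by
    refine ⟨l * ρ / τ ρ, ?_, fun v => ?_⟩
    swap
    · have e := hl v
      rw [hg, Matrix.smul_mulVec, semi_smul, Matrix.smul_mulVec, smul_smul] at e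
      rw [div_eq_inv_mul, ← smul_smul, ← e, smul_smul, inv_mul_cancel₀ ((_root_.map_ne_zero τ).2 hρ),
        one_smul]
    · haveI : Nonempty ι := Fintype.card_pos_iff.1 (by omega)
      set l' := l * ρ / τ ρ
      have key : ∀ v, semi k τ (t *ᵥ v) = l' • (t *ᵥ semi k τ v) := fun v => by
        have e := hl v
        rw [hg, Matrix.smul_mulVec, semi_smul, Matrix.smul_mulVec, smul_smul] at e
        rw [show l' = (τ ρ)⁻¹ * (l * ρ) from div_eq_inv_mul _ _, ← smul_smul, ← e, smul_smul,
          inv_mul_cancel₀ ((_root_.map_ne_zero τ).2 hρ), one_smul]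
      have e := key (t *ᵥ 1)
      rw [Matrix.mulVec_mulVec _ t t, htt, Matrix.one_mulVec, key, Matrix.mulVec_smul,
        Matrix.mulVec_mulVec _ t t, htt, Matrix.one_mulVec, smul_smul] at e
      refine smul_left_injective F (fun h0 : semi k τ 1 = 0 => one_ne_zero (α := ι → F)
        ((semi k τ).injective (h0.trans (map_zero _).symm))) ?_
      show (l' * l') • semi k τ 1 = (1 : F) • semi k τ 1
      rw [one_smul]; exact e.symm
  obtain ⟨l', hl', hlt⟩ := hcomm0
  have hl1 : l' = 1 := by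
    rcases mul_self_eq_one_iff.1 hl' with h1 | h1
    · exact h1
    exfalso
    subst h1
    set j := orderOf (semiAut h k τ hp) with hj
    have hjodd : Odd j := hN.of_dvd_nat (Subgroup.orderOf_dvd_natCard N hy)
    obtain ⟨k', hk', e1, e2⟩ := semiAut_pow h hp j
    replace e1 := e1.symm.trans (pow_orderOf_eq_one (semiAut h k τ hp))
    have hτj : τ ^ j = RingEquiv.refl F := semiAut_eq_one h hk' e1
    generalize τ ^ j = τ' at hk' e1 e2 hτj
    subst hτj
    obtain ⟨c', hc'⟩ := id hk'
    have hker : (⟨k', c', fun v => hc' v⟩ : Sim Q) ∈ scalarSim Q := by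
      rw [← ker_conjP Q h.nd (AutOrth45Coset.five_le h), MonoidHom.mem_ker, conjP_eq h]
      exact e1
    obtain ⟨u, hu, hu0⟩ := (mem_scalarSim Q).1 hker
    have hit : ∀ v, (semi k τ)^[j] v = u • v := fun v => by
      rw [← e2, semi_apply]
      show k'.1 *ᵥ v = _
      rw [show k'.1 = u • 1 from hu, Matrix.smul_mulVec, Matrix.one_mulVec]
    have hanti : ∀ i v, (semi k τ)^[i] (t *ᵥ v) = ((-1 : F) ^ i) • (t *ᵥ (semi k τ)^[i] v) := by
      intro i v
      induction i with
      | zero => simp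
      | succ i ih =>
        rw [Function.iterate_succ_apply', Function.iterate_succ_apply', ih, semi_smul, hlt,
          smul_smul, map_pow, map_neg, map_one, pow_succ]
    haveI : Nonempty ι := Fintype.card_pos_iff.1 (by omega)
    have e := hanti j (t *ᵥ 1)
    rw [Matrix.mulVec_mulVec _ t t, htt, Matrix.one_mulVec, hit, hit, Matrix.mulVec_smul,
      Matrix.mulVec_mulVec _ t t, htt, Matrix.one_mulVec, hjodd.neg_one_pow, smul_smul, neg_one_mul] at e
    have h3 : (u + u) • (1 : ι → F) = 0 := by rw [add_smul]; nth_rewrite 1 [e]; simp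
    rcases smul_eq_zero.1 h3 with h4 | h4
    · exact mul_ne_zero h2 hu0 (by linear_combination h4)
    · exact one_ne_zero h4
  subst hl1
  have hcomm : ∀ v, semi k τ (t *ᵥ v) = t *ᵥ semi k τ v := fun v => by rw [hlt, one_smul]
  -- the larger eigenspace
  obtain ⟨ε, hε, a, ha, hda, b, hdb⟩ : ∃ ε : F, ε * ε = 1 ∧ ∃ a, 2 ≤ a ∧
      finrank F (eig t ε) = 2 * a + 1 ∧ ∃ b, finrank F (eig t (-ε)) = 2 * b + 1 := by
    obtain ⟨b, hb⟩ := hodd
    obtain ⟨m', hm'⟩ := hev
    rcases le_or_gt 2 b with hb2 | hb2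
    · exact ⟨-1, by norm_num, b, hb2, hb, m' - b - 1, by rw [neg_neg]; omega⟩
    · exact ⟨1, by norm_num, m' - b - 1, by omega, by omega, b, hb⟩
  obtain ⟨M, hMq, hME, hMP, hMfix⟩ := exists_eigen_model h2 t htt hQt h.nd hε hda
  obtain ⟨M', hMq', hME', hMP', hMfix'⟩ := exists_eigen_model h2 t htt hQt h.nd
    (ε := -ε) (by linear_combination hε) hdb
  obtain ⟨t1, t2, t3, t4⟩ := eigen_transfer h2 t htt hQt hμ hcomm hε M hMq hME hMP hMfix
  have hgE : ∀ {e : F} {i : ℕ} (L : Model Q F i), (∀ a, t *ᵥ L.E a = e • L.E a) →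
      (∀ w, L.P w = 0 ↔ t *ᵥ w = -e • w) →
      (∀ a, (g : GL ι F).1 *ᵥ L.E a = L.E ((ρ * e) • a)) ∧
        ∀ w, L.P w = 0 → L.P ((g : GL ι F).1 *ᵥ w) = 0 := fun {e i} L hE hP =>
    ⟨fun a => by rw [hg, Matrix.smul_mulVec, hE, smul_smul, map_smul],
      fun w hw => by rw [hg, Matrix.smul_mulVec, (hP w).1 hw, map_smul, map_smul, hw, smul_zero,
        smul_zero]⟩
  obtain ⟨hτ, r, hr⟩ := M.kill τ μ c.ne_zero t1 t2 t3 t4 h hp h2 ha W N
    (inMap_mem M g W hW _ (hgE M hME hMP).1 (hgE M hME hMP).2) hWN hN hy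
  subst hτ
  -- the multiplier
  have hv1 : Q (M.E (bv F (.inl ()))) = M.u := by
    rw [← hMq, M.qv_val]
    simp [QuadClassify.qOdd_apply, Cfsg.quadFormOdd, AutOrthOdd52Balance.bv]
  have hrμ : r * r = μ := by
    have e := hμ (M.E (bv F (.inl ())))
    rw [hr, map_smul, QuadraticMap.map_smul, smul_eq_mul, hv1] at e
    exact mul_right_cancel₀ M.u_ne e
  have hbig : ∀ w, M'.P w = 0 → semi k (RingEquiv.refl F) w = r • w := fun w hw => by
    have h1 : t *ᵥ w = ε • w := by rw [(hMP' w).1 hw, neg_neg]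
    rw [← hMfix w h1, hr, map_smul]
  obtain ⟨s1, s2, s3, s4⟩ := eigen_transfer h2 t htt hQt hμ hcomm
    (show (-ε) * (-ε) = 1 by linear_combination hε) M' hMq' hME' hMP' hMfix'
  -- square scalar criterion
  have finish : ∀ r' : F, (∀ a, semi k (RingEquiv.refl F) (M'.E a) = r' • M'.E a) →
      semiAut h k _ hp = 1 := by
    intro r' hr'
    have hv2 : Q (M'.E (bv F (.inl ()))) = M'.u := by
      rw [← hMq', M'.qv_val]
      simp [QuadClassify.qOdd_apply, Cfsg.quadFormOdd, AutOrthOdd52Balance.bv]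
    have hrμ' : r' * r' = μ := by
      have e := hμ (M'.E (bv F (.inl ())))
      rw [hr', QuadraticMap.map_smul, smul_eq_mul, hv2] at e
      exact mul_right_cancel₀ M'.u_ne e
    refine eq_one_of_sq hN hy (sq_one h hp (μ := μ) fun v => ?_)
    obtain ⟨w, hw, hv⟩ := M'.split v
    rw [hv, map_add, map_add, hr', semi_smul, hr', hbig w hw, semi_smul, hbig w hw, smul_smul,
      smul_smul, smul_add, ← hrμ]
    congr 2
    simp [hrμ, hrμ']
  rcases lt_or_ge b 2 with hb2 | hb2
  swap
  · obtain ⟨-, r', hr'⟩ := M'.kill (RingEquiv.refl F) μ c.ne_zero s1 s2 s3 s4 h hp h2 hb2 W N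
      (inMap_mem M' g W hW _ (hgE M' hME' hMP').1 (hgE M' hME' hMP').2) hWN hN hy
    exact finish r' fun a => by rw [hr', map_smul]
  obtain ⟨g', hg'p, hg'⟩ := M'.exists_pair (RingEquiv.refl F) μ c.ne_zero s1 s2 s3 s4
  obtain rfl | rfl : b = 0 ∨ b = 1 := by omega
  · refine finish (g'.1 (.inl ()) (.inl ())) fun a => ?_
    rw [hg', ← map_smul]
    congr 1
    funext i
    rcases i with u | i | i
    · cases u
      simp [semi_apply, Matrix.mulVec, dotProduct]
    · exact i.elim0
    · exact i.elim0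
  -- dimension three
  set q := QuadClassify.qOdd 1 F with hq
  have hr0 : r ≠ 0 := by rintro rfl; exact c.ne_zero (hrμ.symm.trans (zero_mul _))
  have hsq : ∀ a, q ((r⁻¹ • g'.1) *ᵥ a) = q a := fun a => by
    have e := s4 a
    rw [hg', M'.qv_val, M'.qv_val, RingEquiv.refl_apply, ← hrμ] at e
    rw [Matrix.smul_mulVec, QuadraticMap.map_smul, smul_eq_mul]
    have e' : q (g'.1 *ᵥ a) = r * r * q a := mul_left_cancel₀ M'.u_ne (by
      rw [show g'.1 *ᵥ a = semi g' (RingEquiv.refl F) a from rfl]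
      linear_combination e)
    rw [e']; field_simp
  let s : isometryGroup F ⇑q := ⟨Matrix.GeneralLinearGroup.mkOfDetNeZero (r⁻¹ • g'.1) (by
    rw [Matrix.det_smul]
    exact mul_ne_zero (pow_ne_zero _ (inv_ne_zero hr0)) (Matrix.GeneralLinearGroup.det_ne_zero g')),
    fun a _ => hsq a⟩
  let φ : isometryGroup F ⇑q →* MulAut (POmega F ⇑Q) :=
    (conjP Q).comp ((Subgroup.inclusion (isometry_le_sim Q)).comp M'.X)
  have hφinj : Function.Injective φ := by
    rw [injective_iff_map_eq_one]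
    intro z hz
    have h1 : (Subgroup.inclusion (isometry_le_sim Q) (M'.X z)) ∈ (conjP Q).ker := hz
    rw [ker_conjP Q h.nd (AutOrth45Coset.five_le h), mem_scalarSim] at h1
    obtain ⟨u, hu, -⟩ := h1
    change mat (M'.X z) = u • 1 at hu
    have hu1 : u = 1 := by
      have h5 : M'.P (M.E (bv F (.inl ()))) = 0 := (hMP' _).2 (by rw [hME, neg_neg])
      have e := M'.X_apply z 0 h5
      rw [Matrix.mulVec_zero, map_zero, zero_add, hu, Matrix.smul_mulVec, Matrix.one_mulVec] at e
      have e2 := congrArg Q e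
      rw [QuadraticMap.map_smul, smul_eq_mul, hv1] at e2
      have e3 : u • M.E (bv F (.inl ())) = (1 : F) • M.E (bv F (.inl ())) := by rw [e, one_smul]
      exact smul_left_injective F (fun h0 => M.u_ne (by rw [← hv1, h0, QuadraticMap.map_zero])) e3
    refine Subtype.ext (Units.ext (Matrix.ext_iff_mulVec.2 fun a => ?_))
    have e := congrArg M'.P (M'.X_apply z a (map_zero M'.P))
    rw [hu, hu1, one_smul, Matrix.one_mulVec, add_zero, add_zero, M'.pe, M'.pe] at e
    rw [OneMemClass.coe_one, Units.val_one, Matrix.one_mulVec]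
    exact e.symm
  set Y := N.comap φ with hY
  have hYodd : Odd (Nat.card Y) := by
    refine hN.of_dvd_nat ?_
    rw [Nat.card_congr (Subgroup.equivMapOfInjective _ _ hφinj).toEquiv]
    exact Subgroup.card_dvd_of_le (Subgroup.map_comap_le _ _)
  have hreflN : ∀ (v : Unit ⊕ (Fin 1 ⊕ Fin 1) → F) (hv : q v ≠ 0), ∀ z ∈ Y,
      (iso q).symm (refl q v hv) * z * ((iso q).symm (refl q v hv))⁻¹ ∈ Y := by
    intro v hv z hz
    set sv := (iso q).symm (refl q v hv)
    set v' := M'.E v with hv'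
    have hQv : Q v' = M'.u * q v := by rw [hv', ← hMq', M'.qv_val]
    have hQv0 : Q v' ≠ 0 := by rw [hQv]; exact mul_ne_zero M'.u_ne hv
    obtain ⟨w₀, hw₀⟩ := OrthUnitaryOmega.exists_map_eq (Q := QuadClassify.qOdd a F)
      (OrthUnitaryOmega.isReg_of_nondegenerate (AutOrth45Forms.nondegenerate_qOdd h2 a))
      (by rw [Module.finrank_pi]; simp; omega) (Q v' / M.u)
    set u' := M.E w₀ with hu'
    have hQu : Q u' = Q v' := by
      rw [hu', ← hMq, M.qv_val, hw₀, mul_div_cancel₀ _ M.u_ne]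
    have hQu0 : Q u' ≠ 0 := by rw [hQu]; exact hQv0
    have hPu : M'.P u' = 0 := (hMP' _).2 (by rw [hu', hME, neg_neg])
    have hsv : mat (M'.X sv) = (ofOrth (refl Q v' hQv0) : GL ι F).1 := by
      refine Matrix.ext_iff_mulVec.2 fun x => ?_
      rw [ofOrth_mulVec]
      obtain ⟨w, hw, hx⟩ := M'.split x
      have h1 : polar Q v' w = 0 := by
        have := M'.orth v (M'.E 0 + w)
        rw [map_add, M'.pe, hw, add_zero, map_zero, zero_add, sub_zero] at this
        exact this
      have h3 : polar Q v' (M'.E (M'.P x)) = M'.u * polar q v (M'.P x) := by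
        simp only [polar, hv', ← map_add, ← hMq', M'.qv_val]
        ring
      rw [hx, M'.X_apply _ _ hw, show mat sv *ᵥ M'.P x = (refl q v hv).1 (M'.P x) by
        rw [← iso_apply, MulEquiv.apply_symm_apply], refl_apply, refl_apply, polar_add_right, h1, add_zero,
        h3, hQv, map_sub, map_smul, ← hv', mul_inv, show M'.u⁻¹ * (q v)⁻¹ * (M'.u * polar q v (M'.P x))
          = (q v)⁻¹ * polar q v (M'.P x) by field_simp [M'.u_ne, hv]]
      abel
    set R : Sim Q := ofOrth (refl Q u' hQu0)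
    set V' : Sim Q := ofOrth (refl Q v' hQv0)
    have hRX : ∀ z' : isometryGroup F ⇑q,
        Commute R (Subgroup.inclusion (isometry_le_sim Q) (M'.X z')) := fun z' => by
      refine Subtype.ext (Units.ext ?_)
      refine M'.commute _ 1 (fun x => ?_) (fun w hw => ?_) z'
      · rw [ofOrth_mulVec, refl_apply, polar_eig h2 t htt hQt hε (v := u') (w := M'.E x)
          (hME w₀) (hME' x), mul_zero, zero_smul, sub_zero, one_smul]
      · rw [ofOrth_mulVec, refl_apply, map_sub, map_smul, hw, hPu, smul_zero, sub_zero]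
    have hV' : Subgroup.inclusion (isometry_le_sim Q) (M'.X sv) = V' := Subtype.ext (Units.ext hsv)
    have htrefl : ∀ (e : F) (p : ι → F) (hp0 : Q p ≠ 0), e * e = 1 → t *ᵥ p = e • p →
        t * (ofOrth (refl Q p hp0) : GL ι F).1 = (ofOrth (refl Q p hp0) : GL ι F).1 * t := by
      intro e p hp0 he hp'
      refine Matrix.ext_iff_mulVec.2 fun x => ?_
      rw [← Matrix.mulVec_mulVec, ← Matrix.mulVec_mulVec, ofOrth_mulVec, ofOrth_mulVec, refl_apply,
        refl_apply, Matrix.mulVec_sub, Matrix.mulVec_smul, hp', ← polar_t h2 t htt hQt p x, hp',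
        polar_smul_left, smul_eq_mul, smul_smul]
      congr 2; ring
    have hmem : conjP Q (V' * R) ∈ W := by
      have hΩ : (iso Q).symm (refl Q v' hQv0 * refl Q u' hQu0) ∈ Omega F ⇑Q := by
        rw [mem_Omega_iff, MulEquiv.apply_symm_apply,
          show refl Q v' hQv0 * refl Q u' hQu0 = rprod Q [v', u'] by
            rw [rprod_cons hQv0, rprod_singleton hQu0],
          rprod_mem_iff h.nd (Or.inr (by rw [Module.finrank_pi]; omega)) (by
            intro w hw
            simp only [List.mem_cons, List.not_mem_nil, or_false] at hw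
            rcases hw with rfl | rfl
            · exact hQv0
            · exact hQu0)]
        exact ⟨by simp, Q v', by simp [hQu]⟩
      have e : conjP Q (V' * R) = MulAut.conj (QuotientGroup.mk ⟨_, hΩ⟩ : POmega F ⇑Q) := by
        rw [← conjP_omega]
        congr 1
        refine Subtype.ext (Units.ext ?_)
        show (V' : GL ι F).1 * (R : GL ι F).1 = mat ((iso Q).symm (refl Q v' hQv0 * refl Q u' hQu0))
        rw [map_mul]
        rfl
      rw [e]
      refine hW _ ?_
      rw [← e]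
      refine Commute.map (Subtype.ext (Units.ext ?_)) (conjP Q)
      show (V' : GL ι F).1 * (R : GL ι F).1 * (g : GL ι F).1 =
        (g : GL ι F).1 * ((V' : GL ι F).1 * (R : GL ι F).1)
      rw [hg, Matrix.mul_smul, Matrix.smul_mul]
      congr 1
      rw [Matrix.mul_assoc, ← htrefl ε u' hQu0 hε (hME w₀), ← Matrix.mul_assoc,
        ← htrefl (-ε) v' hQv0 (by linear_combination hε) (hME' v), Matrix.mul_assoc]
    show φ (sv * z * sv⁻¹) ∈ N
    have e := hWN _ hmem _ (show φ z ∈ N from hz)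
    rw [map_mul, map_mul, map_inv]
    have h9 : conjP Q (V' * R) * φ z * (conjP Q (V' * R))⁻¹ = φ sv * φ z * (φ sv)⁻¹ := by
      rw [show φ sv = conjP Q V' from congrArg (conjP Q) hV', map_mul, mul_inv_rev]
      have hc' : Commute (conjP Q R) (φ z) := (hRX z).map (conjP Q)
      rw [mul_assoc (conjP Q V') (conjP Q R), hc'.eq]
      group
    rwa [h9] at e
  haveI : Y.Normal := by
    refine ⟨fun z hz b => ?_⟩
    obtain ⟨o, rfl⟩ := (iso q).symm.surjective b
    have htop : o ∈ reflGroup q := by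
      rw [reflGroup_eq_top (OrthUnitaryOmega.isReg_of_nondegenerate
        (AutOrth45Forms.nondegenerate_qOdd h2 1)) (Or.inr (by rw [Module.finrank_pi]; simp))]
      exact Subgroup.mem_top _
    revert z
    induction htop using Subgroup.closure_induction with
    | mem o ho =>
      intro z hz
      obtain ⟨v, hv, rfl⟩ := ho
      exact hreflN v hv z hz
    | one => intro z hz; simpa using hz
    | mul o₁ o₂ _ _ h₁ h₃ =>
      intro z hz
      rw [map_mul, show ∀ p p' : isometryGroup F ⇑q, p * p' * z * (p * p')⁻¹ =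
        p * (p' * z * p'⁻¹) * p⁻¹ from fun p p' => by group]
      exact h₁ _ (h₃ _ hz)
    | inv o ho h₁ =>
      intro z hz
      have hfin : IsOfFinOrder ((iso q).symm o) := isOfFinOrder_of_finite _
      obtain ⟨i, hi⟩ := hfin.mem_powers_iff_mem_zpowers.2
        (show ((iso q).symm o)⁻¹ ∈ Subgroup.zpowers ((iso q).symm o) from inv_mem (Subgroup.mem_zpowers _))
      have key : ∀ (i : ℕ), ∀ z ∈ Y, ((iso q).symm o) ^ i * z * (((iso q).symm o) ^ i)⁻¹ ∈ Y := by
        intro i
        induction i with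
        | zero => intro z hz; simpa using hz
        | succ i ih =>
          intro z hz
          rw [pow_succ', show ∀ p p' : isometryGroup F ⇑q, p * p' * z * (p * p')⁻¹ =
            p * (p' * z * p'⁻¹) * p⁻¹ from fun p p' => by group]
          exact h₁ _ (ih _ hz)
      rw [map_inv, ← (show ((iso q).symm o) ^ i = ((iso q).symm o)⁻¹ from hi)]
      exact key i z hz
  have hn : semiAut h k _ hp = φ s := by
    let L : Sim Q := OrthUnitarySimilar.scalarOf Q (Units.mk0 r hr0)
    have e : (⟨k, c, fun v => hc v⟩ : Sim Q) = L * Subgroup.inclusion (isometry_le_sim Q) (M'.X s) := by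
      refine Subtype.ext (Units.ext (Matrix.ext_iff_mulVec.2 fun x => ?_))
      obtain ⟨w, hw, hx⟩ := M'.split x
      show semi k (RingEquiv.refl F) x = ((L : GL ι F).1 * mat (M'.X s)) *ᵥ x
      rw [← Matrix.mulVec_mulVec, OrthUnitarySimilar.scalarOf_coe, Matrix.smul_mulVec,
        Matrix.one_mulVec, hx, M'.X_apply _ _ hw, map_add, hg', hbig w hw, smul_add, ← map_smul]
      congr 2
      show g'.1 *ᵥ M'.P x = r • ((r⁻¹ • g'.1) *ᵥ M'.P x)
      rw [Matrix.smul_mulVec, smul_smul, mul_inv_cancel₀ hr0, one_smul]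
    have hL : conjP Q L = 1 := scalarSim_le_ker Q (OrthUnitarySimilar.scalarOf_mem _)
    have e1 := conjP_eq h (⟨k, c, fun v => hc v⟩ : Sim Q)
    have e3 := congrArg (conjP Q) e
    rw [map_mul, hL, one_mul] at e3
    exact e1.symm.trans e3
  have hsY : s ∈ Y := by rw [hY, Subgroup.mem_comap, ← hn]; exact hy
  refine eq_one_of_sq hN hy ?_
  rw [hn, ← map_mul, three_scalar h2 Y hYodd hsY, map_one]

end Cfsg.Agent.AutOrthMinus52Graph
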