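import Mathlib
import Cfsg.Prelude.Def_Solvable
import Cfsg.Prelude.Def_LieTypeDatum
import Cfsg.Agent.Lib.AutOrthMinus52Field
import Cfsg.Agent.Lib.AutOrthMinus52Split
import Cfsg.Agent.Lib.AutOrthMinus52Nonsplit
import Cfsg.Agent.Lib.AutOrth45MinusField

/-!
Local balance for the minus-type orthogonal groups.
-/

set_option autoImplicit false
set_option linter.unusedSectionVars false

namespace Cfsg.Agent.AutOrthMinus52Balance

open QuadraticMap Module
open scoped Matrix MatrixGroups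
open Cfsg.Agent.OrthUnitaryQuad
open Cfsg.Agent.OrthUnitaryPrelude
open Cfsg.Agent.OrthUnitarySimAut
open Cfsg.Agent.OrthUnitaryOmega
open Cfsg.Agent.AutOrth45Api
open Cfsg.Agent.AutOrth45Gal
open Cfsg.Agent.AutOrth45InnDiag
open Cfsg.Agent.AutOrth45MinusClass
open Cfsg.Agent.AutOrth45Types (semi_smul)

/-- The core criterion is invariant under transport. -/
theorem core_congr {X Y : Type*} [Group X] [Group Y] [Finite X] (E : X ≃* Y) (H : Subgroup X)
    (x : X) (p : ℕ) [Fact p.Prime] :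
    Cfsg.pPrimeCore p ↥(H ⊓ Subgroup.centralizer {x}) ≠ ⊥ ↔
      Cfsg.pPrimeCore p ↥(H.map E.toMonoidHom ⊓ Subgroup.centralizer {E x}) ≠ ⊥ := by
  obtain ⟨e⟩ := AutOrth45Centralizer.centralizer_map E H x
  rw [← ComponentsCores.pPrimeCore_map_mulEquiv e p, ne_eq, ne_eq,
    Subgroup.map_eq_bot_iff_of_injective _ e.injective]

theorem locus_congr {P P' : Type*} [Group P] [Group P'] (ψ : P ≃* P') (x : MulAut P) :
    Nat.card ↥(MonoidHom.eqLocus x.toMonoidHom (MonoidHom.id P)) =
      Nat.card ↥(MonoidHom.eqLocus (MulAut.congr ψ x).toMonoidHom (MonoidHom.id P')) := by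
  refine Nat.card_congr (ψ.toEquiv.subtypeEquiv fun z => ?_)
  show x z = z ↔ ψ (x (ψ.symm (ψ z))) = ψ z
  rw [ψ.symm_apply_apply, ψ.injective.eq_iff]

variable {F : Type*} [Field F] [Fintype F] {m : ℕ} {a b : F}

local notation "I" => (Fin m ⊕ Fin m) ⊕ Fin 2

/-- A similarity with square `ν`, not a square, has determinant `(-ν) ^ (m + 1)`. -/
theorem det_of_sq (g : Matrix I I F) {ν : F} (hν : ¬ IsSquare ν) (hgg : g * g = ν • 1) :
    g.det = (-ν) ^ (m + 1) := by
  haveI : Fact (∀ r : F, r ^ 2 ≠ ν + 0 * r) := ⟨fun r hr => hν ⟨r, by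
    rw [zero_mul, add_zero] at hr; rw [← hr, pow_two]⟩⟩
  let φ : QuadraticAlgebra F ν 0 →ₐ[F] Module.End F (I → F) :=
    QuadraticAlgebra.lift ⟨Matrix.toLin' g, by
      rw [zero_smul, add_zero, Module.End.mul_eq_comp, ← Matrix.toLin'_mul, hgg, map_smul,
        Matrix.toLin'_one]
      rfl⟩
  letI : Module (QuadraticAlgebra F ν 0) (I → F) := Module.compHom (I → F) φ.toRingHom
  have hsmul : ∀ (z : QuadraticAlgebra F ν 0) (v : I → F),
      z • v = z.re • v + z.im • (g *ᵥ v) := fun z v => by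
    show (z.re • (1 : Module.End F (I → F)) + z.im • Matrix.toLin' g) v = _
    simp
  haveI : IsScalarTower F (QuadraticAlgebra F ν 0) (I → F) := ⟨fun r z v => by
    rw [hsmul, hsmul, QuadraticAlgebra.re_smul, QuadraticAlgebra.im_smul]
    simp [smul_smul, smul_add]⟩
  haveI : Module.Finite (QuadraticAlgebra F ν 0) (I → F) :=
    Module.Finite.of_restrictScalars_finite F (QuadraticAlgebra F ν 0) (I → F)
  have hdim : finrank (QuadraticAlgebra F ν 0) (I → F) = m + 1 := by
    have := finrank_mul_finrank F (QuadraticAlgebra F ν 0) (I → F)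
    rw [QuadraticAlgebra.finrank_eq_two ν 0, Module.finrank_pi] at this
    simp at this
    omega
  set θ : QuadraticAlgebra F ν 0 := ⟨0, 1⟩
  have he : Matrix.toLin' g = ((θ • (LinearMap.id : (I → F) →ₗ[QuadraticAlgebra F ν 0] (I → F))) :
      (I → F) →ₗ[QuadraticAlgebra F ν 0] (I → F)).restrictScalars F := by
    refine LinearMap.ext fun v => ?_
    show _ = θ • v
    rw [hsmul]
    simp [θ]
  rw [← LinearMap.det_toLin', he, LinearMap.det_restrictScalars, LinearMap.det_smul, LinearMap.det_id,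
    mul_one, hdim, map_pow]
  congr 1
  rw [Algebra.norm_apply]
  refine (QuadraticAlgebra.det_toLinearMap_eq_norm θ).trans ?_
  simp [θ, QuadraticAlgebra.norm_def]

/-- A similarity of square one and multiplier minus one does not exist in minus type. -/
theorem not_swap (hm : 3 ≤ m) (h2 : (2 : F) ≠ 0) (hab : OrthUnitaryForms.IsAniso a b)
    (t : Matrix I I F) (htt : t * t = 1)
    (hQ : ∀ v, QuadClassify.qMinus m F a b (t *ᵥ v) = -QuadClassify.qMinus m F a b v) : False := by
  set Q := QuadClassify.qMinus m F a b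
  have hnd := AutOrth45Forms.nondegenerate_qMinus hab m
  have hts : ∀ e : F, e * e = 1 → ∀ v ∈ AutOrthMinus52Graph.eig t e, Q v = 0 := by
    intro e he v hv
    have h1 := hQ v
    rw [AutOrthMinus52Graph.mem_eig.1 hv, QuadraticMap.map_smul, smul_eq_mul, he, one_mul] at h1
    have h3 : (2 : F) * Q v = 0 := by linear_combination h1
    exact (mul_eq_zero.1 h3).resolve_left h2
  set U := AutOrthMinus52Graph.eig t 1
  set U' := AutOrthMinus52Graph.eig t (-1)
  have htop : U ⊔ U' = ⊤ := by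
    refine eq_top_iff.2 fun v _ => Submodule.mem_sup.2 ⟨(2 : F)⁻¹ • (v + t *ᵥ v), ?_,
      (2 : F)⁻¹ • (v - t *ᵥ v), ?_, ?_⟩
    · rw [AutOrthMinus52Graph.mem_eig, Matrix.mulVec_smul, Matrix.mulVec_add, Matrix.mulVec_mulVec, htt,
        Matrix.one_mulVec, one_smul, add_comm]
    · rw [AutOrthMinus52Graph.mem_eig, Matrix.mulVec_smul, Matrix.mulVec_sub, Matrix.mulVec_mulVec, htt,
        Matrix.one_mulVec, neg_one_smul, ← smul_neg, neg_sub]
    · rw [← smul_add, show v + t *ᵥ v + (v - t *ᵥ v) = (2 : F) • v by rw [two_smul]; abel, smul_smul,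
        inv_mul_cancel₀ h2, one_smul]
  have hle : ∀ e e' : F, e * e = 1 → e' * e' = 1 →
      AutOrthMinus52Graph.eig t e ⊔ AutOrthMinus52Graph.eig t e' = ⊤ →
      finrank F (AutOrthMinus52Graph.eig t e) ≤ finrank F (AutOrthMinus52Graph.eig t e') := by
    intro e e' he he' hsup
    set L := (polarBilin Q).compl₁₂ (AutOrthMinus52Graph.eig t e).subtype
      (AutOrthMinus52Graph.eig t e').subtype
    have hinj : Function.Injective L := by
      rw [← LinearMap.ker_eq_bot, LinearMap.ker_eq_bot']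
      intro u hu
      refine Subtype.ext (hnd.1 _ fun v => ?_)
      obtain ⟨w, hw, w', hw', rfl⟩ := Submodule.mem_sup.1 (hsup.symm ▸ Submodule.mem_top (x := v))
      rw [map_add, show polarBilin Q (u : I → F) w' = 0 from LinearMap.congr_fun hu ⟨w', hw'⟩,
        add_zero]
      exact OmegaClasses.polar_of_sing (hts e he) u.2 hw
    refine (LinearMap.finrank_le_finrank_of_injective hinj).trans ?_
    rw [Subspace.dual_finrank_eq]
  have h11 : (-1 : F) * -1 = 1 := by norm_num
  have heq : finrank F U = finrank F U' := le_antisymm (hle 1 (-1) (one_mul 1) h11 htop)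
    (hle (-1) 1 h11 (one_mul 1) (by rw [sup_comm]; exact htop))
  have hinf : U ⊓ U' = ⊥ := by
    rw [Submodule.eq_bot_iff]
    intro v hv
    have h1 := AutOrthMinus52Graph.mem_eig.1 hv.1
    rw [AutOrthMinus52Graph.mem_eig.1 hv.2, neg_one_smul, one_smul] at h1
    have : (2 : F) • v = 0 := by rw [two_smul]; nth_rewrite 1 [← h1]; exact neg_add_cancel v
    exact (smul_eq_zero.1 this).resolve_left h2
  have hs := Submodule.finrank_sup_add_finrank_inf_eq U U'
  rw [htop, hinf, finrank_top, finrank_bot, add_zero, ← heq] at hs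
  exact not_lagr (by omega) hab U ⟨hts 1 (one_mul 1), by omega⟩

local notation "Qm" => QuadClassify.qMinus m F a b

/-- Local balance for minus-type groups. -/
theorem main (hm : 3 ≤ m) (hab : OrthUnitaryForms.IsAniso a b) {r : ℕ} [Fact r.Prime] [CharP F r]
    (A : Subgroup (MulAut (POmega F ⇑(QuadClassify.qMinus m F a b))))
    (hinn : ∀ k : POmega F ⇑(QuadClassify.qMinus m F a b), MulAut.conj k ∈ A) {p : ℕ} [Fact p.Prime]
    (hpr : p ≠ r) (x : MulAut (POmega F ⇑(QuadClassify.qMinus m F a b))) (hord : orderOf x = p)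
    (hnot : ∀ g : Sim (QuadClassify.qMinus m F a b),
      PreservesSingularClassesMinus m a b (g : GL I F).1 →
        x ≠ conjP (QuadClassify.qMinus m F a b) g) :
    Cfsg.pPrimeCore p ↥(A ⊓ Subgroup.centralizer {x}) ≠ ⊥ ↔
      ((∃ (a' b' : F) (ψ : POmega F ⇑(QuadClassify.qMinus m F a b) ≃*
          POmega F (quadFormMinus m F a' b')) (σ : F ≃+* F),
        (∀ z₁ z₂ : F, z₁ ^ 2 + a' * z₁ * z₂ + b' * z₂ ^ 2 = 0 → z₁ = 0 ∧ z₂ = 0) ∧
        σ ≠ RingEquiv.refl F ∧ σ a' = a' ∧ σ b' = b' ∧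
        IsFieldAutPOmegaOf (quadFormMinus m F a' b') σ ((ψ.symm.trans x).trans ψ)) ∧
      Nat.Coprime p (Nat.card ↥(MonoidHom.eqLocus x.toMonoidHom
        (MonoidHom.id (POmega F ⇑(QuadClassify.qMinus m F a b)))))) := by
  classical
  set h := AutOrth45Forms.good_minus (F := F) hm hab
  haveI : Finite (MulAut (POmega F ⇑Qm)) :=
    Finite.of_injective (fun α => (α : POmega F ⇑Qm → POmega F ⇑Qm)) DFunLike.coe_injective
  obtain ⟨σ, g, hp, hx⟩ := exists_semiAut h x
  by_cases hσ : σ = 1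
  swap
  · -- field type
    have hσp : orderOf σ = p := by
      refine orderOf_eq_prime ?_ hσ
      have e := congrArg (galHom h) (pow_orderOf_eq_one x)
      rwa [map_pow, map_one, hord, hx, galHom_semiAut] at e
    obtain ⟨a', b', hab', ha', hb', hp', ψ, hψ⟩ := AutOrthMinus52Field.normal_form hm hab hp
      (by rw [← hx, hσp, ← hord, pow_orderOf_eq_one])
    rw [← hx] at hψ
    set A' := A.map (MulAut.congr ψ).toMonoidHom
    have hinn' : ∀ k, MulAut.conj k ∈ A' := fun k =>
      ⟨_, hinn (ψ.symm k), MulEquiv.ext fun z => by simp⟩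
    rw [core_congr (MulAut.congr ψ) A x p, hψ, locus_congr ψ x, hψ,
      AutOrthMinus52Field.balance hm hab' σ ha' hb' hp' hσp A' hinn']
    refine (and_iff_right ?_).symm
    suffices gen : ∀ f₂ : (I → F) → F, ⇑(QuadClassify.qMinus m F a' b') = f₂ →
        ∃ ψ' : POmega F ⇑Qm ≃* POmega F f₂, IsFieldAutPOmegaOf f₂ σ ((ψ'.symm.trans x).trans ψ') by
      obtain ⟨ψ', hψ'⟩ := gen _ (QuadClassify.qMinus_coe m a' b')
      exact ⟨a', b', ψ', σ, hab', hσ, ha', hb', hψ'⟩
    rintro f₂ rfl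
    refine ⟨ψ, fun s s' hs => ?_⟩
    refine (induced_iff (AutOrth45Forms.good_minus hm hab') 1 σ hp' _).2 hψ s s' ?_
    simpa using hs
  -- similarity type
  subst hσ
  obtain ⟨c, hc⟩ := id hp
  let d : Sim Qm := ⟨g, c, fun v => hc v⟩
  have hxd : x = conjP Qm d := hx.trans (conjP_eq h d).symm
  clear hx
  have hnd : ¬ PreservesSingularClassesMinus m a b g.1 := fun hpres => hnot d hpres hxd
  haveI := Fact.mk (irreducible_poly (F := F) hab)
  have hK := finrank_adjoin (F := F) hab
  haveI := finite_ext hK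
  letI := Fintype.ofFinite (AdjoinRoot
    (Polynomial.X ^ 2 + Polynomial.C a * Polynomial.X + Polynomial.C b : Polynomial F))
  set K := AdjoinRoot (Polynomial.X ^ 2 + Polynomial.C a * Polynomial.X + Polynomial.C b : Polynomial F)
  set H := minusSub (K := K) (m := m) (by omega) hab hK with hH
  have hdH : d ∉ H := fun hd => hnd ⟨K, _, _, hK, (preserves_iff_minus (by omega) hab hK d K hK).2 hd⟩
  have hn5 : 5 ≤ Fintype.card I := AutOrth45Coset.five_le h
  haveI : Nonempty I := Fintype.card_pos_iff.1 (by omega)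
  have hdp : d ^ p ∈ scalarSim Qm := by
    rw [← ker_conjP Qm h.nd hn5, MonoidHom.mem_ker, map_pow, ← hxd, ← hord, pow_orderOf_eq_one]
  have hdd : d * d ∈ H := by
    rw [hH, minusSub, Subgroup.mem_comap, map_mul]
    exact (keeps_mul (hyp_QK (K := K) (by omega) hab) (exists_lagr hab hK).choose_spec _ _).2 Iff.rfl
  have hp2 : p = 2 := by
    rcases (Fact.out : p.Prime).eq_two_or_odd' with h' | ⟨j, hj⟩
    · exact h'
    refine absurd ?_ hdH
    have h1 : d ^ p ∈ H := AutOrth45MinusField.scalar_le (by omega) hab hK hdp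
    rw [hj, pow_succ', pow_mul, pow_two] at h1
    exact (Subgroup.mul_mem_cancel_right H (Subgroup.pow_mem H hdd j)).1 h1
  subst hp2
  have h2 : (2 : F) ≠ 0 := by
    intro h0
    have : r ∣ 2 := (CharP.cast_eq_zero_iff F r 2).1 (by exact_mod_cast h0)
    exact hpr ((Nat.prime_dvd_prime_iff_eq Fact.out Nat.prime_two).1 this).symm
  obtain ⟨ν, hν', hν0⟩ := (mem_scalarSim Qm).1 hdp
  have hgg : g.1 * g.1 = ν • 1 := by
    rw [← hν', pow_two]
    rfl
  obtain ⟨μ, hμ0, hμ⟩ : ∃ μ : F, μ ≠ 0 ∧ ∀ v, Qm (g.1 *ᵥ v) = μ * Qm v :=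
    ⟨c, c.ne_zero, fun v => hc v⟩
  have hdet : g.1.det ≠ μ ^ (m + 1) := fun e => hnd
    ((OrthUnitarySimClasses.preserves_minus (by omega) h2 hab hμ0
      (fun v => by rw [← QuadClassify.qMinus_apply, ← QuadClassify.qMinus_apply]; exact hμ v)
      (Matrix.GeneralLinearGroup.det_ne_zero g)).2 e)
  have hμν : μ * μ = ν * ν := by
    obtain ⟨v, hv⟩ := OrthUnitaryRefl.exists_map_ne_zero (Q := Qm) (isReg_of_nondegenerate h.nd)
      (by rw [Module.finrank_pi]; omega)
    have e := hμ (g.1 *ᵥ v)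
    rw [Matrix.mulVec_mulVec, hgg, Matrix.smul_mulVec, Matrix.one_mulVec, QuadraticMap.map_smul, hμ,
      smul_eq_mul] at e
    exact mul_right_cancel₀ hv (by linear_combination -e)
  set W := A ⊓ Subgroup.centralizer {x} with hW
  obtain ⟨hNW, hNcard, hWN⟩ := BalanceCriterion.core_props 2 W
  set N := (Cfsg.pPrimeCore 2 W).map W.subtype with hN
  have hNodd : Odd (Nat.card N) := Nat.coprime_two_right.1 hNcard
  have hW' : ∀ k : POmega F ⇑Qm, Commute (MulAut.conj k) (conjP Qm d) → MulAut.conj k ∈ W :=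
    fun k hk => ⟨hinn k, Subgroup.mem_centralizer_singleton_iff.2 (by rw [hxd]; exact hk.eq)⟩
  have hNC : ∀ y ∈ N, Commute y (conjP Qm d) := fun y hy => by
    rw [← hxd]; exact Subgroup.mem_centralizer_singleton_iff.1 (hNW hy).2
  have hN1 : ∀ y ∈ N, y = 1 := by
    by_cases hsq : IsSquare ν
    · obtain ⟨ρ, hρ⟩ := hsq
      have hρ0 : ρ ≠ 0 := fun h0 => hν0 (by rw [hρ, h0, mul_zero])
      set t := ρ⁻¹ • g.1 with ht
      have hgt : g.1 = ρ • t := by rw [ht, smul_smul, mul_inv_cancel₀ hρ0, one_smul]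
      have htt : t * t = 1 := by
        rw [ht, Matrix.smul_mul, Matrix.mul_smul, smul_smul, hgg, smul_smul, hρ]
        rw [show ρ⁻¹ * ρ⁻¹ * (ρ * ρ) = 1 by field_simp, one_smul]
      have hQt : ∀ v, Qm (t *ᵥ v) = μ / ν * Qm v := fun v => by
        rw [ht, Matrix.smul_mulVec, QuadraticMap.map_smul, hμ, smul_eq_mul, hρ]
        field_simp
      rcases mul_self_eq_mul_self_iff.1 hμν with e | e
      swap
      · exfalso
        refine not_swap hm h2 hab t htt fun v => ?_
        rw [hQt, e, neg_div, div_self hν0, neg_one_mul]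
      have hQt' : ∀ v, Qm (t *ᵥ v) = Qm v := fun v => by rw [hQt, e, div_self hν0, one_mul]
      refine AutOrthMinus52Graph.split_case h h2 (by simp; omega)
        (by simp [Fintype.card_sum, parity_simps]) t htt hQt' (fun ht1 => hdet ?_) d hρ0 hgt W N hW'
        hWN hNodd hNC
      rw [hgt, Matrix.det_smul, ht1, mul_one, e, hρ]
      simp only [Fintype.card_sum, Fintype.card_fin]
      rw [← pow_two ρ, ← pow_mul]
      congr 1
      omega
    · have hd' := det_of_sq g.1 hsq hgg
      rcases mul_self_eq_mul_self_iff.1 hμν with e | e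
      swap
      · exact absurd (by rw [hd', e]) hdet
      have hodd : Odd (m + 1) := by
        by_contra hev
        exact hdet (by rw [hd', e, (Nat.not_odd_iff_even.1 hev).neg_pow])
      obtain ⟨n, hn⟩ := hodd
      refine AutOrthMinus52Graph.nonsplit_case h h2 (n := n) (by omega) (by simp; omega) d hsq hgg
        (fun v => by rw [← e]; exact hμ v) W N hW' hWN hNodd hNC
  have hbot : Cfsg.pPrimeCore 2 W = ⊥ := by
    rw [Subgroup.eq_bot_iff_forall]
    intro y hy
    exact Subtype.ext (hN1 _ (Subgroup.mem_map_of_mem W.subtype hy))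
  refine iff_of_false (not_not.2 hbot) ?_
  rintro ⟨⟨a', b', ψ, τ, hab', hτ, ha', hb', hf⟩, -⟩
  obtain ⟨L, hL⟩ := exists_isometry m hab hab'
  revert ψ
  suffices gen : ∀ f₂ : (I → F) → F, ⇑(QuadClassify.qMinus m F a' b') = f₂ →
      ∀ ψ : POmega F ⇑Qm ≃* POmega F f₂, IsFieldAutPOmegaOf f₂ τ ((ψ.symm.trans x).trans ψ) → False from
    gen _ (QuadClassify.qMinus_coe m a' b')
  rintro f₂ rfl ψ hf
  have hp' : IsSemisimilarityPair ⇑(QuadClassify.qMinus m F a' b') (1 : GL I F) τ := ⟨1, fun v => by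
    have e := map_qMinus (τ : F →+* F) a' b' v
    rw [RingEquiv.coe_toRingHom, ha', hb'] at e
    rw [Units.val_one, Units.val_one, Matrix.one_mulVec, one_mul, e]⟩
  have h' := AutOrth45Forms.good_minus (F := F) hm hab'
  refine AutOrth45Congr.galHom_ne_one L hL h h' hτ hp' ψ x ?_ ?_
  · refine (induced_iff h' 1 τ hp' _).1 fun s s' hs => hf s s' ?_
    simpa using hs
  · rw [← MonoidHom.mem_ker, ker_galHom, hxd]
    exact ⟨d, rfl⟩

end Cfsg.Agent.AutOrthMinus52Balance
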