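import Mathlib
import Cfsg.Prelude.Def_LieTypeDatum
import Cfsg.Agent.Lib.AutOrthOdd52Balance
import Cfsg.Agent.Lib.SplitClassIndex
import Cfsg.Agent.Lib.OrthUnitarySimilar

/-!
Centralisers and class splitting of the field automorphisms of the odd-dimensional orthogonal groups.
-/

set_option autoImplicit false
set_option linter.unusedSectionVars false

namespace Cfsg.Agent.AutOrthOdd52Classes

open QuadraticMap
open scoped Matrix MatrixGroups
open Cfsg.Agent.OrthUnitaryQuad
open Cfsg.Agent.OrthUnitaryRefl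
open Cfsg.Agent.OrthUnitaryOmega
open Cfsg.Agent.OmegaClasses
open Cfsg.Agent.OrthUnitaryPrelude
open Cfsg.Agent.OrthUnitarySimAut
open Cfsg.Agent.AutOrth45Api
open Cfsg.Agent.AutOrthOdd52Field
open Cfsg.Agent.AutOrthOdd52Balance
open Cfsg.Agent.FormCongruence (pOdd)

variable {F F₀ : Type*} [Field F] [Field F₀] {m : ℕ}

local notation "J" => Unit ⊕ (Fin m ⊕ Fin m)
local notation "Qo" => QuadClassify.qOdd m F
local notation "Q₀" => QuadClassify.qOdd m F₀

theorem inndiag_eq (h : AutOrth45.Good (QuadClassify.qOdd m F)) [Fintype F] :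
    Cfsg.pgoAut F ⇑Qo = (conjP Qo).range := by
  rw [pgoAut_eq, MonoidHom.range_eq_map]

/-- A field automorphism class element is an inner-diagonal conjugate of a standard one. -/
theorem exists_conjugate [Fintype F] (h2 : (2 : F) ≠ 0) (h : AutOrth45.Good (QuadClassify.qOdd m F))
    (x : MulAut (POmega F ⇑Qo)) (hx : Cfsg.IsFieldAutClassPOmega ⇑Qo x) :
    ∃ (σ : F ≃+* F) (B : Sim Qo), σ ≠ 1 ∧
      x = conjP Qo B * AutOrth45Api.fd h (AutOrth45Forms.inv_odd (F := F) m) σ * (conjP Qo B)⁻¹ := by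
  obtain ⟨α, φ, σ, hσ, hφ, hαx⟩ := hx
  rw [isField_iff h (AutOrth45Forms.inv_odd (F := F) m)] at hφ
  subst hφ
  obtain ⟨g, τ, hg⟩ := aut_decomp h (AutOrth45Forms.inv_odd (F := F) m) α⁻¹
  refine ⟨σ, g, hσ, ?_⟩
  have e : x = α⁻¹ * AutOrth45Api.fd h (AutOrth45Forms.inv_odd (F := F) m) σ * (α⁻¹)⁻¹ := by
    rw [← hαx]; group
  have hcomm : τ * σ * τ⁻¹ = σ := by
    rw [mul_inv_eq_iff_eq_mul]
    obtain ⟨u, hu⟩ := IsCyclic.exists_generator (α := Fˣ)
    have hpow : ∀ ρ : F ≃+* F, ∃ i : ℤ, ρ (u : F) = ((u ^ i : Fˣ) : F) := fun ρ => by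
      obtain ⟨i, hi⟩ := Subgroup.mem_zpowers_iff.1 (hu (Units.map (ρ : F →* F) u))
      exact ⟨i, (congrArg Units.val hi).symm⟩
    refine RingEquiv.ext fun y => ?_
    rcases eq_or_ne y 0 with rfl | hy
    · simp
    obtain ⟨k, hk⟩ := Subgroup.mem_zpowers_iff.1 (hu (Units.mk0 y hy))
    obtain ⟨i, hi⟩ := hpow τ
    obtain ⟨j, hj⟩ := hpow σ
    have hy' : y = (u : F) ^ k := by rw [← Units.val_zpow_eq_zpow_val, hk]; rfl
    simp only [RingAut.mul_apply, hy', map_zpow₀, hi, hj, Units.val_zpow_eq_zpow_val, ← zpow_mul,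
      mul_comm, mul_left_comm]
  rw [e, hg]
  calc conjP Qo g * AutOrth45Api.fd h (AutOrth45Forms.inv_odd (F := F) m) τ
        * AutOrth45Api.fd h (AutOrth45Forms.inv_odd (F := F) m) σ
        * (conjP Qo g * AutOrth45Api.fd h (AutOrth45Forms.inv_odd (F := F) m) τ)⁻¹
      = conjP Qo g * (AutOrth45Api.fd h (AutOrth45Forms.inv_odd (F := F) m) τ
          * AutOrth45Api.fd h (AutOrth45Forms.inv_odd (F := F) m) σ
          * (AutOrth45Api.fd h (AutOrth45Forms.inv_odd (F := F) m) τ)⁻¹) * (conjP Qo g)⁻¹ := by group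
    _ = _ := by rw [← map_inv (AutOrth45Api.fd h (AutOrth45Forms.inv_odd (F := F) m)), ← map_mul, ← map_mul, hcomm]

variable [Fintype F] [Fintype F₀] (hm : 3 ≤ m)
  (h : AutOrth45.Good (QuadClassify.qOdd m F)) (σ : F ≃+* F) (emb : F₀ →+* F)
  (he : ∀ x, σ x = x ↔ x ∈ emb.range)

include he hm

/-- The inner-diagonal centraliser of a conjugate of a field automorphism. -/
theorem centralizer_eq (h2 : (2 : F) ≠ 0) (h20 : (2 : F₀) ≠ 0) (B : Sim Qo) {x : MulAut (POmega F ⇑Qo)}
    (hx : x = conjP Qo B * AutOrth45Api.fd h (AutOrth45Forms.inv_odd (F := F) m) σ * (conjP Qo B)⁻¹) :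
    (conjP Qo).range ⊓ Subgroup.centralizer {x}
      = (((conjP Qo).comp (simE (m := m) h2 h20 emb)).range).map (MulAut.conj (conjP Qo B)).toMonoidHom := by
  ext β
  constructor
  · rintro ⟨⟨g, rfl⟩, hC⟩
    have hc : Commute (conjP Qo g) x := Subgroup.mem_centralizer_singleton_iff.1 hC
    have hc' : Commute (conjP Qo (B⁻¹ * g * B))
        (AutOrth45Api.fd h (AutOrth45Forms.inv_odd (F := F) m) σ) := by
      have := hc.map (MulAut.conj (conjP Qo B)⁻¹).toMonoidHom
      simpa [hx, mul_assoc] using this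
    obtain ⟨K, K₀, hK, hiso, hd, hKK⟩ := rational_of_commute h h2 hm σ emb he _ hc'
    have hiso0 : K₀ᵀ * pOdd m F₀ * K₀ = pOdd m F₀ := Matrix.map_injective emb.injective (by
      show (K₀ᵀ * pOdd m F₀ * K₀).map emb = (pOdd m F₀).map emb
      rw [Matrix.map_mul, Matrix.map_mul, Matrix.transpose_map, hKK, pOdd_map, hiso])
    have hd0 : K₀.det ≠ 0 := fun e => by
      have e1 : (K₀.map emb).det = 0 := (emb.map_det K₀).symm.trans (by rw [e, map_zero])
      rw [hKK, hd] at e1
      exact one_ne_zero e1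
    let k : Sim Q₀ := ⟨Matrix.GeneralLinearGroup.mkOfDetNeZero K₀ hd0,
      (mem_sim_iff h20 _).2 ⟨1, one_ne_zero, hiso0.trans (one_smul _ _).symm⟩⟩
    refine ⟨_, ⟨k, rfl⟩, ?_⟩
    have e2 : simE h2 h20 emb k = K := Subtype.ext (Units.ext hKK)
    show conjP Qo B * conjP Qo (simE h2 h20 emb k) * (conjP Qo B)⁻¹ = _
    rw [e2, hK, map_mul, map_mul, map_inv]
    group
  · rintro ⟨_, ⟨k, rfl⟩, rfl⟩
    refine ⟨⟨B * simE h2 h20 emb k * B⁻¹, by rw [map_mul, map_mul, map_inv]; rfl⟩,
      Subgroup.mem_centralizer_singleton_iff.2 ?_⟩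
    show conjP Qo B * conjP Qo (simE h2 h20 emb k) * (conjP Qo B)⁻¹ * x
      = x * (conjP Qo B * conjP Qo (simE h2 h20 emb k) * (conjP Qo B)⁻¹)
    have hc : conjP Qo (simE h2 h20 emb k) * AutOrth45Api.fd h (AutOrth45Forms.inv_odd (F := F) m) σ
        = AutOrth45Api.fd h (AutOrth45Forms.inv_odd (F := F) m) σ * conjP Qo (simE h2 h20 emb k) := by
      rw [fd_mul_conjP h h2, gmS_simE h2 h20 emb σ he]
    rw [hx]
    simp only [mul_assoc, inv_mul_cancel_left]
    rw [← mul_assoc (conjP Qo (simE h2 h20 emb k)), hc, mul_assoc]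

theorem centralizer_equiv (h2 : (2 : F) ≠ 0) (B : Sim Qo) {x : MulAut (POmega F ⇑Qo)}
    (hx : x = conjP Qo B * AutOrth45Api.fd h (AutOrth45Forms.inv_odd (F := F) m) σ * (conjP Qo B)⁻¹) :
    Nonempty (↥((conjP Qo).range ⊓ Subgroup.centralizer {x}) ≃* ↥(conjP Q₀).range) := by
  have h20 : (2 : F₀) ≠ 0 := fun h0 => h2 (by rw [← map_ofNat emb 2, h0, map_zero])
  rw [centralizer_eq hm h σ emb he h2 h20 B hx]
  exact ⟨((Subgroup.equivMapOfInjective _ _ (MulAut.conj _).injective).symm.trans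
    ((QuotientGroup.quotientKerEquivRange _).symm.trans
      (QuotientGroup.quotientMulEquivOfEq (ker_simE h2 h20 emb hm)))).trans
    (QuotientGroup.quotientKerEquivRange _)⟩

omit he hm in
theorem det_ofOrth {L : Type*} [Field L] [Fintype L] (k : orth (QuadClassify.qOdd m L)) :
    (OrthUnitarySimilar.ofOrth k : GL J L).1.det = ((detHom (QuadClassify.qOdd m L) k : Lˣ) : L) := by
  have e := det_mat ((iso (QuadClassify.qOdd m L)).symm k)
  rw [MulEquiv.apply_symm_apply] at e
  exact e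

omit he in
/-- A product of two reflections is inner exactly when the product of the two values is a square. -/
theorem pair_inn {L : Type*} [Field L] [Fintype L] (h2 : (2 : L) ≠ 0) (u v : J → L)
    (hu : QuadClassify.qOdd m L u ≠ 0) (hv : QuadClassify.qOdd m L v ≠ 0) :
    conjP (QuadClassify.qOdd m L) (OrthUnitarySimilar.ofOrth
        (refl (QuadClassify.qOdd m L) u hu * refl (QuadClassify.qOdd m L) v hv)) ∈ Inn (POmega L ⇑(QuadClassify.qOdd m L)) ↔
      IsSquare (QuadClassify.qOdd m L u * QuadClassify.qOdd m L v) := by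
  have hnd := AutOrth45Forms.nondegenerate_qOdd (F := L) h2 m
  have hns : NS (QuadClassify.qOdd m L) [u, v] := by
    intro w hw
    simp only [List.mem_cons, List.not_mem_nil, or_false] at hw
    rcases hw with rfl | rfl
    · exact hu
    · exact hv
  have e : refl (QuadClassify.qOdd m L) u hu * refl (QuadClassify.qOdd m L) v hv
      = rprod (QuadClassify.qOdd m L) [u, v] := by
    rw [rprod_cons hu, rprod_singleton hv]
  have hexc : Fintype.card L ≠ 2 ∨ Module.finrank L (J → L) ≠ 4 :=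
    Or.inr (by rw [Module.finrank_pi]; simp; omega)
  have hiff := rprod_mem_iff hnd hexc hns
  simp only [List.length_cons, List.length_nil, List.map_cons, List.map_nil, List.prod_cons,
    List.prod_nil, mul_one] at hiff
  rw [inn_eq]
  constructor
  · rintro ⟨s, hs, hse⟩
    obtain ⟨l, hl⟩ := (conjP_eq_iff h2 hm s _).1 hse
    obtain ⟨t, ht, hts⟩ := hs
    have htm : (s : GL J L).1ᵀ * pOdd m L * (s : GL J L).1 = pOdd m L := by
      refine ((sim_iff h2 _ 1).1 fun w => ?_).trans (one_smul _ _)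
      rw [one_mul, ← show (t : GL J L) = (s : GL J L) from hts]
      exact t.2 w w
    have hdet : (s : GL J L).1.det = 1 := by
      have hΩ : OrthUnitarySimilar.ofOrth ((iso (QuadClassify.qOdd m L)) t) = s :=
        Subtype.ext (by simpa [OrthUnitarySimilar.ofOrth] using hts)
      rw [← hΩ]
      have hmem := (mem_Omega_iff t).1 ht
      have hd := MonoidHom.mem_ker.1 (Abelianization.commutator_subset_ker
        (detHom (Q := QuadClassify.qOdd m L)) hmem)
      rw [det_ofOrth, hd, Units.val_one]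
    set w := OrthUnitarySimilar.ofOrth (refl (QuadClassify.qOdd m L) u hu * refl (QuadClassify.qOdd m L) v hv) with hw
    have hwm : (w : GL J L).1ᵀ * pOdd m L * (w : GL J L).1 = pOdd m L := by
      refine ((sim_iff h2 _ 1).1 fun z => ?_).trans (one_smul _ _)
      rw [one_mul, hw, OrthUnitarySimilar.ofOrth_mulVec]
      exact map_orth _ z
    have hwd : (w : GL J L).1.det = 1 := by rw [hw, det_ofOrth, e, detHom_rprod hns]; simp
    have hl1 : l = 1 := by
      rw [hl, Matrix.transpose_smul, Matrix.smul_mul, Matrix.smul_mul, Matrix.mul_smul, hwm,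
        smul_smul] at htm
      have hll : l * l = 1 :=
        smul_left_injective L (pOdd_ne_zero h2) (htm.trans (one_smul L (pOdd m L)).symm)
      rw [hl, Matrix.det_smul, hwd, mul_one, card_J, pow_succ, pow_mul, pow_two, hll, one_pow,
        one_mul] at hdet
      exact hdet
    rw [hl1, one_smul] at hl
    have hsw : w = s := Subtype.ext (Units.ext hl.symm)
    have hmem : w ∈ omegaSim (QuadClassify.qOdd m L) := hsw ▸ ⟨t, ht, hts⟩
    rw [OrthUnitarySimilar.ofOrth_mem_omegaSim, e] at hmem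
    exact (hiff.1 hmem).2
  · intro hsq
    refine ⟨_, (OrthUnitarySimilar.ofOrth_mem_omegaSim _).2 ?_, rfl⟩
    rw [e]
    exact hiff.2 ⟨even_two, hsq⟩

/-- The number of inner classes in the inner-diagonal class. -/
theorem split_count (h2 : (2 : F) ≠ 0) (B : Sim Qo) {x : MulAut (POmega F ⇑Qo)}
    (hx : x = conjP Qo B * AutOrth45Api.fd h (AutOrth45Forms.inv_odd (F := F) m) σ * (conjP Qo B)⁻¹)
    {r : ℕ} (hr : r.Prime) (hσ : orderOf σ = r) :
    Cfsg.splitClassCount (conjP Qo).range (Inn (POmega F ⇑Qo)) x = if r = 2 then 2 else 1 := by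
  classical
  have h20 : (2 : F₀) ≠ 0 := fun h0 => h2 (by rw [← map_ofNat emb 2, h0, map_zero])
  have hmap : (innSim Qo).map (conjP Qo) = Inn (POmega F ⇑Qo) :=
    Subgroup.map_comap_eq_self (by rw [inn_eq]; exact Subgroup.map_le_range _ _)
  rw [← hmap, SplitClassIndex.splitClassCount_eq]
  set C := (Subgroup.centralizer ({x} : Set (MulAut (POmega F ⇑Qo)))).comap (conjP Qo) with hC
  have hidx : (innSim Qo).index = 2 := by
    rw [innSim, Subgroup.index_comap]
    exact (AutOrth45Odd.facts h2 hm).1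
  -- a pair of reflections outside the inner part over the smaller field
  have hodd0 : Odd (Fintype.card F₀) := Nat.odd_iff.2 (FiniteField.odd_card_of_char_ne_two
    fun h => h20 (AutOrth45.two_eq_zero_iff.2 h))
  have hc0 : ringChar F₀ ≠ 2 := fun e => h20 (AutOrth45.two_eq_zero_iff.2 e)
  have hcF : ringChar F ≠ 2 := fun e => h2 (AutOrth45.two_eq_zero_iff.2 e)
  obtain ⟨t, ht⟩ := FiniteField.exists_nonsquare hc0
  have ht0 : t ≠ 0 := fun e => ht (e ▸ IsSquare.zero)
  let i₀ : Fin m := ⟨0, by omega⟩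
  let u : J → F₀ := bv F₀ (.inl ())
  let v : J → F₀ := bv F₀ (.inr (.inl i₀)) + t • bv F₀ (.inr (.inr i₀))
  have hQu : Q₀ u = 1 := by simp [u, QuadClassify.qOdd_apply, Cfsg.quadFormOdd, bv]
  have hQv : Q₀ v = t := by
    simp [v, QuadClassify.qOdd_apply, Cfsg.quadFormOdd, bv, Pi.single_apply, Finset.sum_ite_eq']
  have hu : Q₀ u ≠ 0 := by rw [hQu]; exact one_ne_zero
  have hv : Q₀ v ≠ 0 := by rw [hQv]; exact ht0
  set k := OrthUnitarySimilar.ofOrth (refl Q₀ u hu * refl Q₀ v hv) with hk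
  have hQe : ∀ w : J → F₀, Qo (emb ∘ w) = emb (Q₀ w) := fun w => by
    simp [QuadClassify.qOdd_apply, Cfsg.quadFormOdd]
  have huE : Qo (emb ∘ u) ≠ 0 := by rw [hQe]; exact (map_ne_zero emb).2 hu
  have hvE : Qo (emb ∘ v) ≠ 0 := by rw [hQe]; exact (map_ne_zero emb).2 hv
  have hkE : simE h2 h20 emb k
      = OrthUnitarySimilar.ofOrth (refl Qo (emb ∘ u) huE * refl Qo (emb ∘ v) hvE) := by
    refine Subtype.ext (Units.ext (Matrix.ext_of_mulVec_single fun j => ?_))
    have hbv : (Pi.single j 1 : J → F) = emb ∘ (Pi.single j 1 : J → F₀) := (bv_map emb j).symm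
    rw [simE_coe, hbv, OrthUnitarySimilar.ofOrth_mulVec, ← show emb ∘ ((k : GL J F₀).1 *ᵥ Pi.single j 1)
      = (k : GL J F₀).1.map emb *ᵥ (emb ∘ (Pi.single j 1 : J → F₀)) from
        funext fun i => emb.map_mulVec _ _ i, hk, OrthUnitarySimilar.ofOrth_mulVec]
    have hp : ∀ a b : J → F₀, polar Qo (emb ∘ a) (emb ∘ b) = emb (polar Q₀ a b) := fun a b => by
      rw [polar, polar, show (emb ∘ a : J → F) + emb ∘ b = emb ∘ (a + b) from
        funext fun i => (map_add emb _ _).symm, hQe, hQe, hQe, map_sub, map_sub]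
    have hr : ∀ (w : J → F₀) (hw : Q₀ w ≠ 0) (hw' : Qo (emb ∘ w) ≠ 0) (y : J → F₀),
        (refl Qo (emb ∘ w) hw').1 (emb ∘ y) = emb ∘ (refl Q₀ w hw).1 y := fun w hw hw' y => by
      funext i
      rw [refl_apply, refl_apply, hp, hQe]
      simp
    rw [orth_mul_apply, orth_mul_apply, hr v hv hvE, hr u hu huE]
  have hkinn : simE h2 h20 emb k ∈ innSim Qo ↔ IsSquare (emb t) := by
    show conjP Qo _ ∈ Inn _ ↔ _
    rw [hkE, pair_inn hm h2, hQe, hQe, hQu, hQv, map_one, one_mul]
  have hkC : B * simE h2 h20 emb k * B⁻¹ ∈ C := by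
    show conjP Qo _ ∈ Subgroup.centralizer _
    have h1 : conjP Qo (B * simE h2 h20 emb k * B⁻¹) ∈
        (((conjP Qo).comp (simE (m := m) h2 h20 emb)).range).map (MulAut.conj (conjP Qo B)).toMonoidHom :=
      ⟨_, ⟨k, rfl⟩, by rw [map_mul, map_mul, map_inv]; rfl⟩
    rw [← centralizer_eq hm h σ emb he h2 h20 B hx] at h1
    exact h1.2
  -- squares of the smaller field
  have hcard : Nat.card F₀ ^ r = Nat.card F := by
    rw [← hσ, ← GaloisDescentGL.card_fixed σ]
    congr 1
    refine Nat.card_congr (Equiv.ofBijective (fun y => ⟨emb y, (he _).2 ⟨y, rfl⟩⟩)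
      ⟨fun a b e => emb.injective (congrArg Subtype.val e), fun y => ?_⟩)
    obtain ⟨z, hz⟩ := (he _).1 y.2
    exact ⟨z, Subtype.ext hz⟩
  rw [Nat.card_eq_fintype_card, Nat.card_eq_fintype_card] at hcard
  have hsq : IsSquare (emb t) ↔ r = 2 := by
    rw [FiniteField.isSquare_iff hcF ((map_ne_zero emb).2 ht0)]
    have hneg : t ^ (Fintype.card F₀ / 2) = -1 :=
      (FiniteField.pow_dichotomy hc0 ht0).resolve_left
        fun e => ht ((FiniteField.isSquare_iff hc0 ht0).2 e)
    obtain ⟨a, ha⟩ := hodd0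
    have hgeom : Fintype.card F / 2 = a * ∑ i ∈ Finset.range r, Fintype.card F₀ ^ i := by
      have := geom_sum_mul_add (2 * a) r
      rw [← ha, hcard] at this
      have e : Fintype.card F = 2 * (a * ∑ i ∈ Finset.range r, Fintype.card F₀ ^ i) + 1 := by
        rw [← this]; ring
      omega
    rw [show Fintype.card F₀ / 2 = a by omega] at hneg
    rw [hgeom, ← map_pow, pow_mul, hneg]
    have hpar : ∀ n, Even (∑ i ∈ Finset.range n, Fintype.card F₀ ^ i) ↔ Even n := by
      intro n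
      induction n with
      | zero => simp
      | succ n ih =>
        rw [Finset.sum_range_succ, Nat.even_add, ih, Nat.even_add_one]
        have hn : ¬ Even (Fintype.card F₀ ^ n) := by
          rw [Nat.not_even_iff_odd]
          exact Odd.pow ⟨a, ha⟩
        tauto
    rcases hr.eq_two_or_odd' with rfl | ho
    · rw [((hpar 2).2 even_two).neg_one_pow, map_one]; simp
    · rw [(Nat.not_even_iff_odd.1 (fun e => Nat.not_even_iff_odd.2 ho ((hpar r).1 e))).neg_one_pow]
      constructor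
      · intro e
        rw [map_neg, map_one] at e
        exact absurd e (Ring.neg_one_ne_one_of_char_ne_two hcF)
      · rintro rfl
        exact absurd ho (by decide)
  split_ifs with h2r
  · -- the centraliser is inner
    have hle : C ≤ innSim Qo := by
      intro g hg
      have h1 : conjP Qo g ∈ (conjP Qo).range ⊓ Subgroup.centralizer {x} := ⟨⟨g, rfl⟩, hg⟩
      rw [centralizer_eq hm h σ emb he h2 h20 B hx] at h1
      obtain ⟨_, ⟨c, rfl⟩, hc⟩ := h1
      show conjP Qo g ∈ Inn _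
      rw [← hc]
      refine Subgroup.Normal.conj_mem inferInstance _ ?_ _
      show c ∈ (innSim Qo).comap (simE h2 h20 emb)
      have hk1 : k ∈ (innSim Qo).comap (simE h2 h20 emb) := hkinn.2 (hsq.2 h2r)
      have hidx0 : (innSim Q₀).index = 2 := by
        rw [innSim, Subgroup.index_comap]
        exact (AutOrth45Odd.facts h20 hm).1
      have hk0 : k ∉ innSim Q₀ := by
        show ¬ conjP Q₀ k ∈ Inn _
        rw [hk, pair_inn hm h20, hQu, hQv, one_mul]
        exact ht
      have hle0 : innSim Q₀ ≤ (innSim Qo).comap (simE h2 h20 emb) := by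
        intro c hc
        have hc' : conjP Q₀ c ∈ (omegaSim Q₀).map (conjP Q₀) := by rw [← inn_eq]; exact hc
        obtain ⟨s, ⟨s', hs', hss⟩, hsc⟩ := hc'
        have hsw : omS (⟨s', hs'⟩ : Omega F₀ ⇑Q₀) = s := Subtype.ext hss
        have hker0 : s⁻¹ * c ∈ (conjP Q₀).ker := by
          rw [MonoidHom.mem_ker, map_mul, map_inv, hsc, inv_mul_cancel]
        rw [← ker_simE h2 h20 emb hm, MonoidHom.mem_ker] at hker0
        show conjP Qo (simE h2 h20 emb c) ∈ Inn _
        rw [map_mul, map_inv, inv_mul_eq_one, MonoidHom.comp_apply, MonoidHom.comp_apply] at hker0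
        rw [← hker0, ← hsw, ← rat_mk h2 h20 emb hm]
        exact rat_inn h2 h20 hm emb _
      by_cases hcm : c ∈ innSim Q₀
      · exact hle0 hcm
      · have := (Subgroup.mul_mem_iff_of_index_two hidx0 (a := c) (b := k)).2 (iff_of_false hcm hk0)
        exact (Subgroup.mul_mem_cancel_right _ hk1).1 (hle0 this)
    rw [sup_eq_left.2 hle, hidx]
  · have hnle : ¬ C ≤ innSim Qo := fun hle => by
      have h1 := hle hkC
      rw [(OrthUnitarySimAut.innSim_normal Qo).mem_comm_iff, ← mul_assoc, inv_mul_cancel, one_mul,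
        hkinn, hsq] at h1
      exact h2r h1
    rw [Subgroup.index_eq_one]
    obtain ⟨g, hgC, hg⟩ := SetLike.not_le_iff_exists.1 hnle
    rw [eq_top_iff]
    intro y _
    by_cases hy : y ∈ innSim Qo
    · exact Subgroup.mem_sup_left hy
    · have := (Subgroup.mul_mem_iff_of_index_two hidx (a := y) (b := g)).2 (iff_of_false hy hg)
      have h3 := Subgroup.mul_mem _ (Subgroup.mem_sup_left (T := C) this)
        (Subgroup.inv_mem _ (Subgroup.mem_sup_right (S := innSim Qo) hgC))
      rwa [mul_inv_cancel_right] at h3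

end Cfsg.Agent.AutOrthOdd52Classes
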