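import Mathlib
import Cfsg.Prelude.Def_Solvable
import Cfsg.Prelude.Def_LieTypeDatum
import Cfsg.Agent.Lib.AutPSLBasic
import Cfsg.Agent.Lib.AutPSLGeometry
import Cfsg.Agent.Lib.AutPSLMain
import Cfsg.Agent.Lib.AutPSLApi
import Cfsg.Agent.Lib.AutPSLField
import Cfsg.Agent.Lib.PSLCard
import Cfsg.Agent.Lib.PSLSimple
import Cfsg.Agent.Lib.AutPSpBalance
import Cfsg.Agent.Lib.BalanceCriterion

/-!
The centraliser of a field automorphism of prime order in an almost simple group with socle `PSL n F`: its largest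
normal subgroup of order prime to that prime.
-/

set_option autoImplicit false

namespace Cfsg.Agent.AutPSLBalance

open Matrix
open Cfsg.Agent.AutPSLBasic Cfsg.Agent.AutPSLGeometry Cfsg.Agent.AutPSLMain Cfsg.Agent.AutPSLApi
open Cfsg.Agent.AutPSLField Cfsg.Agent.GaloisDescentGL
open scoped MatrixGroups

variable {n : ℕ} {F : Type*} [Field F]

lemma inn_injective (hn : 2 ≤ n) : Function.Injective (MulAut.conj : P n F → MulAut (P n F)) := by
  intro a b e
  obtain ⟨s, hs⟩ := QuotientGroup.mk_surjective (a⁻¹ * b)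
  have h1 : (MulAut.conj (QuotientGroup.mk s : P n F)) = 1 := by rw [hs, map_mul, map_inv, e, inv_mul_cancel]
  rw [conj_mk, cj_eq_one_iff hn, Subgroup.mem_center_iff] at h1
  have h2 : s ∈ Subgroup.center (Matrix.SpecialLinearGroup (Fin n) F) :=
    Subgroup.mem_center_iff.2 fun t => Subtype.ext (congrArg Units.val (h1 (Matrix.SpecialLinearGroup.toGL t)))
  have h3 : a⁻¹ * b = 1 := hs ▸ (QuotientGroup.eq_one_iff s).2 h2
  exact inv_mul_eq_one.1 h3

lemma xr_pow {i j : Fin n} [NeZero n] (h : i ≠ j) (c : F) (k : ℕ) : xr i j c ^ k = xr i j ((k : F) * c) := by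
  induction k with
  | zero => rw [pow_zero, Nat.cast_zero, zero_mul, xr_zero h]
  | succ k ih => rw [pow_succ, ih, xr_add h, Nat.cast_succ, add_mul, one_mul]

section Small

variable (K : Type*) [Field K] [Fintype K]

/-- A prime other than the characteristic dividing the order of `PGL` divides that of `PSL`. -/
lemma dvd_card_PSL (hn : 2 ≤ n) {p : ℕ} [Fact p.Prime] (hpK : (p : K) ≠ 0)
    (h : p ∣ Nat.card (Matrix.SpecialLinearGroup (Fin n) K)) : p ∣ Nat.card (P n K) := by
  classical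
  have hp := (Fact.out : p.Prime)
  haveI : NeZero n := ⟨by omega⟩
  rw [← PSLCard.card_PSL_mul, hp.dvd_mul] at h
  refine h.elim (fun hg => ?_) id
  have h2K : p = 2 → (2 : K) ≠ 0 := fun e => by subst e; simpa using hpK
  suffices ∃ x : P n K, x ≠ 1 ∧ x ^ p = 1 by
    obtain ⟨x, hx, hxp⟩ := this
    exact orderOf_eq_prime hxp hx ▸ orderOf_dvd_natCard x
  rcases eq_or_lt_of_le hn with rfl | hn3
  · have hp2 : p = 2 := (Nat.prime_dvd_prime_iff_eq hp Nat.prime_two).1 (hg.trans (Nat.gcd_dvd_left _ _))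
    subst hp2
    let w : Matrix.SpecialLinearGroup (Fin 2) K := ⟨!![0, 1; -1, 0], by simp [det_fin_two]⟩
    refine ⟨QuotientGroup.mk w, fun e => ?_, ?_⟩
    · rw [← QuotientGroup.mk_one, mk_eq_mk_iff] at e
      obtain ⟨l, hl⟩ := e
      have := congrFun (congrFun hl 0) 0
      simp [w] at this
    · rw [← QuotientGroup.mk_pow, ← QuotientGroup.mk_one, mk_eq_mk_iff]
      refine ⟨-1, ?_⟩
      rw [Matrix.SpecialLinearGroup.coe_pow, pow_two]
      ext i j
      fin_cases i <;> fin_cases j <;> simp [w, Matrix.mul_apply]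
  · have hq : p ∣ Nat.card Kˣ := by
      rw [PSLCard.card_units_field]; exact hg.trans (Nat.gcd_dvd_right _ _)
    obtain ⟨a, ha⟩ := exists_prime_orderOf_dvd_card' p hq
    let i : Fin n := ⟨0, by omega⟩
    let j : Fin n := ⟨1, by omega⟩
    let k : Fin n := ⟨2, hn3⟩
    have hij : i ≠ j := Fin.ne_of_val_ne (by simp [i, j])
    have hki : k ≠ i := Fin.ne_of_val_ne (by simp [i, k])
    have hkj : k ≠ j := Fin.ne_of_val_ne (by simp [j, k])
    let d : Fin n → Kˣ := fun l => if l = i then a else if l = j then a⁻¹ else 1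
    have hd : (diagonal fun l => (d l : K)).det = 1 := by
      rw [det_diagonal, ← Units.coe_prod]
      have : ∏ l, d l = 1 := by
        rw [Finset.prod_eq_mul i j hij (fun l _ hl => by simp [d, hl.1, hl.2]) (by simp) (by simp)]
        simp [d, hij.symm]
      rw [this, Units.val_one]
    let s : Matrix.SpecialLinearGroup (Fin n) K := ⟨diagonal fun l => (d l : K), hd⟩
    refine ⟨QuotientGroup.mk s, fun e => ?_, ?_⟩
    · rw [← QuotientGroup.mk_one, mk_eq_mk_iff] at e
      obtain ⟨l, hl⟩ := e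
      have h1 := congrFun (congrFun hl i) i
      have h2 := congrFun (congrFun hl k) k
      simp [s, d, hki, hkj] at h1 h2
      rw [← h2, one_mul, eq_comm] at h1
      have : a = 1 := Units.ext (by simpa using h1)
      rw [this, orderOf_one] at ha
      exact hp.one_lt.ne ha
    · rw [← QuotientGroup.mk_pow, ← QuotientGroup.mk_one, mk_eq_mk_iff]
      refine ⟨1, ?_⟩
      rw [Matrix.SpecialLinearGroup.coe_pow, one_smul]
      show 1 = (diagonal fun l => (d l : K)) ^ p
      have hap : a ^ p = 1 := ha ▸ pow_orderOf_eq_one a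
      rw [diagonal_pow, ← diagonal_one]
      congr 1
      funext l
      show (1 : K) = (d l : K) ^ p
      rw [← Units.val_pow_eq_pow_val]
      simp only [d]
      split_ifs <;> simp [hap]

/-- Non-trivial normal subgroups of `PSL` have order divisible by the primes in question. -/
lemma normal_dvd (hn : 2 ≤ n) {p : ℕ} [Fact p.Prime] (hpK : (p : K) ≠ 0)
    (h : p ∣ Nat.card (Matrix.SpecialLinearGroup (Fin n) K)) (N : Subgroup (P n K)) [hN : N.Normal] (hne : N ≠ ⊥) :
    p ∣ Nat.card N := by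
  classical
  have hp := (Fact.out : p.Prime)
  have hdvd := dvd_card_PSL K hn hpK h
  haveI : NeZero n := ⟨by omega⟩
  by_cases hs : n = 2 → 4 ≤ Nat.card K
  · haveI := PSLSimple.isSimpleGroup_PSL_fin' (F := K) hn hs
    rw [(IsSimpleGroup.eq_bot_or_eq_top_of_normal N hN).resolve_left hne, Subgroup.card_top]
    exact hdvd
  push Not at hs
  obtain ⟨rfl, hK⟩ := hs
  have hK2 : 1 < Nat.card K := PSLCard.one_lt_card K
  have hcard : Nat.gcd 2 (Nat.card K - 1) * Nat.card (P 2 K) * (Nat.card K - 1) =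
      (Nat.card K ^ 2 - 1) * (Nat.card K ^ 2 - Nat.card K) := by
    rw [PSLCard.card_PSL_mul, mul_comm, PSLCard.card_SL, Fin.prod_univ_two]
    simp
  set q := Nat.card K with hq
  have hqP : (q = 2 ∧ Nat.card (P 2 K) = 6) ∨ (q = 3 ∧ Nat.card (P 2 K) = 12) := by
    interval_cases q
    · left; norm_num at hcard; exact ⟨rfl, by rw [Nat.card_eq_fintype_card]; omega⟩
    · right; norm_num at hcard; exact ⟨rfl, by rw [Nat.card_eq_fintype_card]; omega⟩
  have hqK : (q : K) = 0 := by rw [hq, Nat.card_eq_fintype_card, FiniteField.cast_card_eq_zero]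
  have hpq : p ≠ q := fun e => hpK (e ▸ hqK)
  by_contra hpN
  have hNd := Subgroup.card_subgroup_dvd_card N
  have hN1 : Nat.card N ≠ 1 := fun e => hne (Subgroup.card_eq_one.1 e)
  have hNq : Nat.card N = q ∧ (Nat.card (P 2 K) / q).Coprime q := by
    have hpd := hdvd
    rcases hqP with ⟨h1, h2⟩ | ⟨h1, h2⟩ <;> rw [h2] at hNd hpd ⊢ <;> rw [h1] at hpq ⊢
    · have hp3 : p = 3 := by
        have := Nat.le_of_dvd (by norm_num) hpd
        interval_cases p <;> revert hpd hpq <;> first | decide | (exfalso; revert hp; decide)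
      subst hp3
      have := Nat.le_of_dvd (by norm_num) hNd
      refine ⟨?_, by decide⟩
      interval_cases hc : Nat.card N <;> revert hpN hNd hN1 <;> decide
    · have hp2 : p = 2 := by
        have := Nat.le_of_dvd (by norm_num) hpd
        interval_cases p <;> revert hpd hpq <;> first | decide | (exfalso; revert hp; decide)
      subst hp2
      have := Nat.le_of_dvd (by norm_num) hNd
      refine ⟨?_, by decide⟩
      interval_cases hc : Nat.card N <;> revert hpN hNd hN1 <;> decide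
  have hidx : Nat.card (P 2 K ⧸ N) = Nat.card (P 2 K) / q := by
    rw [Subgroup.card_eq_card_quotient_mul_card_subgroup N, hNq.1, Nat.mul_div_cancel _ (by omega)]
  have hmem : ∀ u : P 2 K, u ^ q = 1 → u ∈ N := by
    intro u hu
    rw [← QuotientGroup.eq_one_iff]
    have h1 : (QuotientGroup.mk u : P 2 K ⧸ N) ^ q = 1 := by rw [← QuotientGroup.mk_pow, hu, QuotientGroup.mk_one]
    have h2 : (QuotientGroup.mk u : P 2 K ⧸ N) ^ Nat.card (P 2 K ⧸ N) = 1 := pow_card_eq_one'
    rw [hidx] at h2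
    have h3 := pow_gcd_eq_one.2 ⟨h2, h1⟩
    rwa [hNq.2.gcd_eq_one, pow_one] at h3
  have h01 : (0 : Fin 2) ≠ 1 := Fin.zero_ne_one
  have ha : xr 0 1 (1 : K) ∈ N := hmem _ (by rw [xr_pow h01, hqK, zero_mul, xr_zero h01])
  have hb : xr 1 0 (1 : K) ∈ N := hmem _ (by rw [xr_pow h01.symm, hqK, zero_mul, xr_zero h01.symm])
  haveI : Fact q.Prime := ⟨by rcases hqP with ⟨h1, -⟩ | ⟨h1, -⟩ <;> rw [h1] <;> norm_num⟩
  haveI : IsCyclic N := isCyclic_of_prime_card hNq.1
  obtain ⟨g, hg⟩ := IsCyclic.exists_generator (α := N)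
  obtain ⟨s, hs⟩ := Subgroup.mem_zpowers_iff.1 (hg ⟨_, ha⟩)
  obtain ⟨t, ht⟩ := Subgroup.mem_zpowers_iff.1 (hg ⟨_, hb⟩)
  have hc : (⟨_, ha⟩ : N) * ⟨_, hb⟩ = ⟨_, hb⟩ * ⟨_, ha⟩ := by
    rw [← hs, ← ht, ← _root_.zpow_add, ← _root_.zpow_add, add_comm]
  have hc' := congrArg Subtype.val hc
  simp only [Subgroup.coe_mul] at hc'
  rw [← mk_transvection h01, ← mk_transvection h01.symm, ← QuotientGroup.mk_mul, ← QuotientGroup.mk_mul,
    mk_eq_mk_iff] at hc'
  obtain ⟨l, hl⟩ := hc'
  have e1 := congrFun (congrFun hl 0) 1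
  have e2 := congrFun (congrFun hl 0) 0
  simp [Matrix.SpecialLinearGroup.transvection_coe, Matrix.mul_apply, Fin.sum_univ_two, Matrix.single_apply,
    Matrix.one_apply] at e1 e2
  rw [← e1] at e2
  simp at e2

end Small

variable {F₀ : Type*} [Field F₀]

/-- The subfield subgroup, acting on `PSL n F`. -/
noncomputable def rat (hn : 2 ≤ n) (ι : F₀ →+* F) : P n F₀ →* MulAut (P n F) :=
  QuotientGroup.lift _ (cj.comp ((Matrix.GeneralLinearGroup.map ι).comp Matrix.SpecialLinearGroup.toGL)) fun s hs => by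
    rw [MonoidHom.mem_ker, MonoidHom.comp_apply, cj_eq_one_iff hn, mem_center]
    haveI : NeZero n := ⟨by omega⟩
    obtain ⟨a, ha, hsa⟩ := Matrix.SpecialLinearGroup.mem_center_iff.1 hs
    have ha0 : a ≠ 0 := fun e => by simp [e, zero_pow (show n ≠ 0 by omega)] at ha
    refine ⟨Units.map (ι : F₀ →* F) (Units.mk0 a ha0), Units.ext ?_⟩
    ext i j
    show ι ((s : Matrix (Fin n) (Fin n) F₀) i j) = _
    have he : (s : Matrix (Fin n) (Fin n) F₀) i j = Matrix.scalar (Fin n) a i j := by rw [hsa]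
    rw [he]
    rcases eq_or_ne i j with rfl | hij
    · simp [Matrix.GeneralLinearGroup.coe_scalar]
    · simp [Matrix.GeneralLinearGroup.coe_scalar, hij]

lemma rat_mk (hn : 2 ≤ n) (ι : F₀ →+* F) (s : Matrix.SpecialLinearGroup (Fin n) F₀) :
    rat hn ι (QuotientGroup.mk s) = cj (Matrix.GeneralLinearGroup.map ι (Matrix.SpecialLinearGroup.toGL s)) := rfl

lemma rat_mk' (hn : 2 ≤ n) (ι : F₀ →+* F) (s : Matrix.SpecialLinearGroup (Fin n) F₀) :
    rat hn ι (QuotientGroup.mk s) = MulAut.conj (QuotientGroup.mk (Matrix.SpecialLinearGroup.map ι s) : P n F) := by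
  rw [rat_mk, conj_mk]
  congr 1
  exact Units.ext rfl

lemma rat_injective (hn : 2 ≤ n) (ι : F₀ →+* F) : Function.Injective (rat (n := n) hn ι) := by
  rw [injective_iff_map_eq_one]
  intro x hx
  induction x using QuotientGroup.induction_on with
  | H s =>
    rw [rat_mk, cj_eq_one_iff hn, Subgroup.mem_center_iff] at hx
    refine (QuotientGroup.eq_one_iff s).2 (Subgroup.mem_center_iff.2 fun t => Subtype.ext ?_)
    have e := hx (Matrix.GeneralLinearGroup.map ι (Matrix.SpecialLinearGroup.toGL t))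
    rw [← map_mul, ← map_mul, ← map_mul, ← map_mul] at e
    ext i j
    exact ι.injective (entry e i j)

lemma rat_xr (hn : 2 ≤ n) (ι : F₀ →+* F) {i j : Fin n} (h : i ≠ j) (c : F₀) :
    rat hn ι (xr i j c) = MulAut.conj (xr i j (ι c)) := by
  rw [← mk_transvection h, rat_mk', ← mk_transvection h]
  congr 2
  apply Subtype.ext
  show (Matrix.SpecialLinearGroup.transvection h c : Matrix (Fin n) (Fin n) F₀).map ι = _
  ext a b
  simp [Matrix.SpecialLinearGroup.transvection_coe, Matrix.single_apply, Matrix.one_apply, apply_ite ι]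

lemma rat_inn (hn : 2 ≤ n) (ι : F₀ →+* F) (y : P n F₀) : rat hn ι y ∈ Cfsg.Inn (P n F) := by
  induction y using QuotientGroup.induction_on with
  | H s => exact ⟨_, (rat_mk' hn ι s).symm⟩

lemma rat_commute [Fintype F] (hn : 2 ≤ n) (σ : F ≃+* F) (ι : F₀ →+* F) (hι : ∀ x, σ x = x ↔ x ∈ Set.range ι)
    (y : P n F₀) : Commute (rat hn ι y) (fd σ) := by
  induction y using QuotientGroup.induction_on with
  | H s =>
    refine (cj_commute_fd hn σ _).2
      ⟨1, Matrix.GeneralLinearGroup.map ι (Matrix.SpecialLinearGroup.toGL s), Units.ext ?_, by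
        rw [map_one, one_mul]; rfl⟩
    ext i j
    exact (hι _).2 ⟨_, rfl⟩

/-- Automorphisms centralising the subfield subgroup. -/
theorem centralizer_rat [Fintype F] (hn : 2 ≤ n) (σ : F ≃+* F) (ι : F₀ →+* F) (hι : ∀ x, σ x = x ↔ x ∈ Set.range ι)
    (α : MulAut (P n F)) (h : ∀ y, Commute α (rat hn ι y)) : α ∈ Subgroup.zpowers (fd σ) := by
  haveI : NeZero n := ⟨by omega⟩
  haveI : Nontrivial (Fin n) := Fin.nontrivial_iff_two_le.2 hn
  have hfix : ∀ i j : Fin n, i ≠ j → ∀ c : F₀, α (xr i j (ι c)) = xr i j (ι c) := by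
    intro i j hij c
    apply inn_injective hn
    have e := (h (xr i j c)).eq
    rw [rat_xr hn ι hij] at e
    apply MulEquiv.ext
    intro z
    have e2 := congrArg (fun φ : MulAut (P n F) => φ (α.symm z)) e
    simp [MulAut.mul_apply] at e2 ⊢
    exact e2
  obtain ⟨g, τ, hα | ⟨hn3, hα⟩⟩ := aut_decomp hn α
  · subst hα
    set G : Matrix (Fin n) (Fin n) F := (g : Matrix (Fin n) (Fin n) F) with hG
    have key : ∀ i j : Fin n, i ≠ j → ∀ c : F₀, c ≠ 0 →
        (∀ a, a ≠ i → G a i = 0) ∧ ι c * G j j = G i i * τ (ι c) := by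
      intro i j hij c hc
      have hc' : ι c ≠ 0 := fun e => hc (ι.injective (by simpa using e))
      have e := hfix i j hij c
      rw [MulAut.mul_apply, fd_xr τ hij] at e
      have hf : IsFlag (Pi.single i (1 : F) : Fin n → F) (Pi.single j (τ (ι c))) :=
        flag_single hij one_ne_zero (by simpa using hc')
      rw [xr, cj_tv g hf.2.2, xr] at e
      obtain ⟨k, hk, h1, h2⟩ :=
        (tv_eq_tv (flag_single hij one_ne_zero hc') (flag_conj g hf).2.2).1 e.symm
      rw [mulVec_single_one] at h1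
      have hcol : ∀ a, G a i = k * (Pi.single i (1 : F) : Fin n → F) a := fun a => congrFun h1 a
      refine ⟨fun a ha => by rw [hcol]; simp [ha], ?_⟩
      have h3 := congrArg (fun u : Fin n → F => u ᵥ* G) h2
      simp only [hG, smul_vecMul, vecMul_vecMul, Units.inv_mul, vecMul_one] at h3
      have h4 := congrFun h3 j
      simp [single_vecMul] at h4
      rw [hcol i, hG, h4]
      simp
    have hdiag : ∀ i j, G i i = G j j := fun i j => by
      rcases eq_or_ne i j with rfl | hij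
      · rfl
      · simpa using (key i j hij 1 one_ne_zero).2.symm
    have hoff : ∀ a i, a ≠ i → G a i = 0 := fun a i hai =>
      let ⟨j, hj⟩ := exists_ne i
      (key i j hj.symm 1 one_ne_zero).1 a hai
    obtain ⟨i₁, j₁, hij₁⟩ := exists_pair_ne (Fin n)
    have hne : G i₁ i₁ ≠ 0 := fun h0 =>
      ((Matrix.isUnit_iff_isUnit_det G).1 g.isUnit).ne_zero (Matrix.det_eq_zero_of_column_eq_zero i₁ fun a => by
        rcases eq_or_ne a i₁ with rfl | ha
        · exact h0
        · exact hoff a i₁ ha)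
    have hg1 : (cj g : MulAut (P n F)) = 1 := by
      rw [cj_eq_one_iff hn, mem_center]
      refine ⟨Units.mk0 _ hne, Units.ext ?_⟩
      ext a b
      rcases eq_or_ne a b with rfl | hab
      · simpa [Matrix.GeneralLinearGroup.coe_scalar, ← hG] using hdiag a i₁
      · simp [Matrix.GeneralLinearGroup.coe_scalar, hab, ← hG, hoff a b hab]
    obtain ⟨k, hk⟩ : τ ∈ Subgroup.zpowers σ := AutPSpBalance.galois_fix σ τ fun a ha => by
      obtain ⟨c, rfl⟩ := (hι a).1 ha
      rcases eq_or_ne c 0 with rfl | hc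
      · simp
      have h2 := (key i₁ j₁ hij₁ c hc).2
      rw [hdiag j₁ i₁, mul_comm] at h2
      exact (mul_left_cancel₀ hne h2).symm
    refine ⟨k, ?_⟩
    rw [hg1, one_mul, ← hk]
    exact (map_zpow fd σ k).symm
  · exfalso
    subst hα
    have key : ∀ i j : Fin n, i ≠ j → ∀ a, a ≠ i → (g : Matrix (Fin n) (Fin n) F) a j = 0 := by
      intro i j hij a hai
      have e := hfix i j hij 1
      rw [map_one, MulAut.mul_apply, MulAut.mul_apply, it_xr hij, fd_xr τ hij.symm, map_neg, map_one] at e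
      have hf : IsFlag (Pi.single j (1 : F) : Fin n → F) (Pi.single i (-1)) :=
        flag_single hij.symm one_ne_zero (neg_ne_zero.2 one_ne_zero)
      rw [xr, cj_tv g hf.2.2, xr] at e
      obtain ⟨k, hk, h1, -⟩ := (tv_eq_tv (flag_single hij one_ne_zero one_ne_zero) (flag_conj g hf).2.2).1 e.symm
      rw [mulVec_single_one] at h1
      have := congrFun h1 a
      simpa [hai] using this
    let j : Fin n := ⟨0, by omega⟩
    let i : Fin n := ⟨1, by omega⟩
    let i' : Fin n := ⟨2, by omega⟩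
    have h1 : i ≠ j := Fin.ne_of_val_ne (by simp [i, j])
    have h2 : i' ≠ j := Fin.ne_of_val_ne (by simp [i', j])
    refine ((Matrix.isUnit_iff_isUnit_det _).1 g.isUnit).ne_zero (Matrix.det_eq_zero_of_column_eq_zero j fun a => ?_)
    by_cases ha : a = i
    · exact key i' j h2 a (by rw [ha]; exact Fin.ne_of_val_ne (by simp [i, i']))
    · exact key i j h1 a ha

lemma exists_rational (ι : F₀ →+* F) (σ : F ≃+* F) (hι : ∀ x, σ x = x ↔ x ∈ Set.range ι) (g0 : GL (Fin n) F)
    (hg0 : gmap σ g0 = g0) : ∃ G : GL (Fin n) F₀, Matrix.GeneralLinearGroup.map ι G = g0 := by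
  have hent : ∀ i j, ∃ z, ι z = (g0 : Matrix (Fin n) (Fin n) F) i j := fun i j => by
    have := entry hg0 i j
    rw [coe_gmap] at this
    exact (hι _).1 this
  choose z hz using hent
  have hmap : (Matrix.of z).map ι = (g0 : Matrix (Fin n) (Fin n) F) := by
    ext i j; exact hz i j
  have hdet : (Matrix.of z).det ≠ 0 := by
    intro e
    have := ((Matrix.isUnit_iff_isUnit_det _).1 g0.isUnit).ne_zero
    rw [← hmap, ← RingHom.mapMatrix_apply, ← RingHom.map_det, e, map_zero] at this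
    exact this rfl
  exact ⟨Matrix.GeneralLinearGroup.mkOfDetNeZero _ hdet, Units.ext hmap⟩

/-- The criterion for field automorphisms. -/
theorem balance [Fintype F] [Fintype F₀] (hn : 2 ≤ n) (σ : F ≃+* F) (ι : F₀ →+* F)
    (hι : ∀ x, σ x = x ↔ x ∈ Set.range ι) {p : ℕ} [Fact p.Prime] (hσ : orderOf σ = p) (hpF : (p : F₀) ≠ 0)
    (h : GL (Fin n) F) (A : Subgroup (MulAut (P n F))) (hinn : ∀ k : P n F, MulAut.conj k ∈ A) :
    Cfsg.pPrimeCore p ↥(A ⊓ Subgroup.centralizer {cj h * fd σ * (cj h)⁻¹}) ≠ ⊥ ↔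
      Nat.Coprime p (Nat.card ↥(MonoidHom.eqLocus (cj h * fd σ * (cj h)⁻¹ : MulAut (P n F)).toMonoidHom
        (MonoidHom.id (P n F)))) := by
  classical
  have hp := (Fact.out : p.Prime)
  haveI : NeZero n := ⟨by omega⟩
  haveI : Nontrivial (Fin n) := Fin.nontrivial_iff_two_le.2 hn
  haveI : Finite (MulAut (P n F)) := Finite.of_injective (fun α => (α : P n F → P n F)) DFunLike.coe_injective
  set x : MulAut (P n F) := cj h * fd σ * (cj h)⁻¹ with hx
  set W := A ⊓ Subgroup.centralizer {x} with hW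
  let φ : P n F₀ →* MulAut (P n F) := (MulAut.conj (cj h : MulAut (P n F))).toMonoidHom.comp (rat hn ι)
  have hφ : ∀ y, φ y = cj h * rat hn ι y * (cj h)⁻¹ := fun y => rfl
  set M := Cfsg.Inn (P n F) ⊓ Subgroup.centralizer {x} with hM
  have hMeq : Nat.card M = Nat.card ↥(MonoidHom.eqLocus x.toMonoidHom (MonoidHom.id (P n F))) := by
    have hiff : ∀ k, MulAut.conj k ∈ Subgroup.centralizer {x} ↔ x k = k := by
      intro k
      rw [Subgroup.mem_centralizer_singleton_iff]
      constructor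
      · intro e
        apply inn_injective hn
        apply MulEquiv.ext
        intro z
        have e2 := congrArg (fun β : MulAut (P n F) => β (x.symm z)) e
        simp [MulAut.mul_apply] at e2 ⊢
        exact e2.symm
      · intro e
        apply MulEquiv.ext
        intro z
        simp [MulAut.mul_apply, e]
    have : (MonoidHom.eqLocus x.toMonoidHom (MonoidHom.id (P n F))).map MulAut.conj = M := by
      ext β
      constructor
      · rintro ⟨k, hk, rfl⟩; exact ⟨⟨k, rfl⟩, (hiff k).2 hk⟩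
      · rintro ⟨⟨k, rfl⟩, h2⟩; exact ⟨k, (hiff k).1 h2, rfl⟩
    rw [← this]
    exact (Nat.card_congr (Subgroup.equivMapOfInjective _ _ (inn_injective hn)).toEquiv).symm
  rw [← hMeq]
  refine BalanceCriterion.field_core W M x φ ((MulAut.conj _).injective.comp (rat_injective hn ι))
    (fun β ⟨⟨k, hk⟩, h2⟩ => ⟨hk ▸ hinn k, h2⟩)
    (fun w hw β hβ => ⟨Subgroup.Normal.conj_mem inferInstance β hβ.1 w,
      Subgroup.mul_mem _ (Subgroup.mul_mem _ hw.2 hβ.2) (Subgroup.inv_mem _ hw.2)⟩) ?_ ?_ ?_ ?_ ?_ ?_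
  · intro y
    refine ⟨Subgroup.Normal.conj_mem inferInstance _ (rat_inn hn ι y) _, Subgroup.mem_centralizer_singleton_iff.2 ?_⟩
    rw [hφ, hx]
    calc cj h * rat hn ι y * (cj h)⁻¹ * (cj h * fd σ * (cj h)⁻¹) = cj h * (rat hn ι y * fd σ) * (cj h)⁻¹ := by
          simp [mul_assoc]
      _ = cj h * (fd σ * rat hn ι y) * (cj h)⁻¹ := by rw [(rat_commute hn σ ι hι y).eq]
      _ = _ := by simp [mul_assoc]
  · intro β hβ
    obtain ⟨k, hk⟩ := centralizer_rat hn σ ι hι ((cj h)⁻¹ * β * cj h) fun y => by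
      have := (hβ y).map (MulAut.conj (cj h : MulAut (P n F))⁻¹)
      simpa [hφ, mul_assoc] using this
    refine ⟨k, ?_⟩
    show x ^ k = β
    rw [hx, conj_zpow, show (fd σ : MulAut (P n F)) ^ k = _ from hk]
    group
  · rw [hx, AutPSLField.orderOf_conj', orderOf_injective (fd (n := n) (F := F)) (fd_injective hn), hσ]
  · intro β hβ y
    obtain ⟨s, rfl⟩ := QuotientGroup.mk_surjective y
    obtain ⟨g, rfl⟩ : ∃ g, β = cj g := by
      obtain ⟨k, hk⟩ := hβ.1
      obtain ⟨t, rfl⟩ := QuotientGroup.mk_surjective k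
      exact ⟨_, hk.symm.trans (conj_mk t)⟩
    have hc' := Subgroup.mem_centralizer_singleton_iff.1 hβ.2
    obtain ⟨u, g0, h0, hg⟩ := (cj_commute_fd hn σ (h⁻¹ * g * h)).1 (by
      calc cj (h⁻¹ * g * h) * fd σ = (cj h)⁻¹ * (cj g * x) * cj h := by simp [hx, mul_assoc]
        _ = fd σ * cj (h⁻¹ * g * h) := by rw [hc', hx]; simp [mul_assoc])
    obtain ⟨G, rfl⟩ := exists_rational ι σ hι g0 h0
    refine ⟨QuotientGroup.mk (slConj G s), ?_⟩
    have hgc : cj g = cj h * cj (Matrix.GeneralLinearGroup.map ι G) * (cj h)⁻¹ := by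
      have : g = h * (Matrix.GeneralLinearGroup.scalar (Fin n) u * Matrix.GeneralLinearGroup.map ι G) * h⁻¹ := by
        rw [← hg]; group
      rw [this, map_mul, map_mul, map_mul, cj_scalar hn, one_mul, map_inv]
    have hcs : Matrix.SpecialLinearGroup.toGL (slConj G s) = G * Matrix.SpecialLinearGroup.toGL s * G⁻¹ :=
      Units.ext (coe_slConj G s)
    rw [hφ, hφ, hgc, rat_mk, rat_mk, hcs, map_mul, map_mul, map_mul, map_mul, map_inv, map_inv]
    group
  · obtain ⟨i, j, hij⟩ := exists_pair_ne (Fin n)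
    refine ⟨xr i j 1, fun e => ?_⟩
    rw [hφ, mul_inv_eq_one, mul_eq_left, map_eq_one_iff _ (rat_injective hn ι), xr_eq_one_iff hij] at e
    exact one_ne_zero e
  · intro hpM N hN hne
    refine normal_dvd F₀ hn hpF ?_ N hne
    obtain ⟨e⟩ := field_centralizer hn σ h F₀ ι hι
    have hle : M ≤ Cfsg.inndiagPSL n F ⊓ Subgroup.centralizer {x} := fun β hβ => by
      obtain ⟨k, hk⟩ := hβ.1
      obtain ⟨t, rfl⟩ := QuotientGroup.mk_surjective k
      exact ⟨(mem_inndiag _).2 ⟨_, hk.symm.trans (conj_mk t)⟩, hβ.2⟩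
    have h1 := hpM.trans (Subgroup.card_dvd_of_le hle)
    haveI : Nonempty (Fin n) := ⟨⟨0, by omega⟩⟩
    rwa [Nat.card_congr e.toEquiv, PSLCard.card_PGL] at h1

end Cfsg.Agent.AutPSLBalance
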