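import Mathlib
import Cfsg.Prelude.Def_LieTypeDatum
import Cfsg.Agent.Lib.AutPSLBasic
import Cfsg.Agent.Lib.AutPSLMain
import Cfsg.Agent.Lib.AutPSLApi
import Cfsg.Agent.Lib.AutPSLField
import Cfsg.Agent.Lib.SplitClassIndex
import Cfsg.Agent.Lib.FormCongruence

/-!
Involutory graph automorphisms of `PSL n F` and congruence classes of non-degenerate bilinear forms.
-/

set_option autoImplicit false

namespace Cfsg.Agent.AutPSLGraph

open Matrix
open Cfsg.Agent.AutPSLBasic Cfsg.Agent.AutPSLMain Cfsg.Agent.AutPSLApi Cfsg.Agent.AutPSLField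
open Cfsg.Agent.FormCongruence
open scoped MatrixGroups

variable {n : ℕ} {F : Type*} [Field F]

/-- The graph automorphism attached to an invertible matrix. -/
noncomputable def gam (A : GL (Fin n) F) : MulAut (P n F) := cj A⁻¹ * it

lemma gam_sq (A : GL (Fin n) F) : gam A * gam A = (cj (A⁻¹ * glInvT A⁻¹) : MulAut (P n F)) := by
  rw [gam, map_mul, mul_assoc, ← mul_assoc it, it_mul_cj, mul_assoc (cj (glInvT A⁻¹)), it_mul_it, mul_one]

lemma glInvT_inv_val (A : GL (Fin n) F) :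
    ((glInvT A⁻¹ : GL (Fin n) F) : Matrix (Fin n) (Fin n) F) = (A : Matrix (Fin n) (Fin n) F)ᵀ := by
  show (((A⁻¹)⁻¹ : GL (Fin n) F) : Matrix (Fin n) (Fin n) F)ᵀ = _
  rw [inv_inv]

lemma isGraph_gam (hn : 3 ≤ n) (A : GL (Fin n) F) : Cfsg.IsGraphAutClassPSL (gam A) :=
  ⟨hn, cj A⁻¹, it, (isInnerDiagonal_iff _).2 ⟨_, rfl⟩, (isInverseTranspose_iff _).2 rfl, rfl⟩

lemma gam_ne_one (hn : 3 ≤ n) (A : GL (Fin n) F) : gam A ≠ (1 : MulAut (P n F)) := fun h => by
  refine cj_fd_ne_it hn A 1 ?_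
  rw [map_one, mul_one]
  have : (cj A⁻¹ : MulAut (P n F)) * it = 1 := h
  rw [map_inv] at this
  exact (inv_mul_eq_one.1 this)

lemma orderOf_gam_iff (hn : 3 ≤ n) (A : GL (Fin n) F) :
    orderOf (gam A) = 2 ↔ (A : Matrix (Fin n) (Fin n) F)ᵀ = A ∨ (A : Matrix (Fin n) (Fin n) F)ᵀ = -A := by
  have hn2 : 2 ≤ n := by omega
  constructor
  · intro h
    have h2 : gam A ^ 2 = (1 : MulAut (P n F)) := h ▸ pow_orderOf_eq_one _
    rw [pow_two, gam_sq] at h2
    obtain ⟨u, hu⟩ := (mem_center _).1 ((cj_eq_one_iff hn2 _).1 h2)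
    have e : glInvT A⁻¹ = Matrix.GeneralLinearGroup.scalar (Fin n) u * A := by
      rw [← AutPSLField.scalar_comm, ← hu, mul_inv_cancel_left]
    have e1 : (A : Matrix (Fin n) (Fin n) F)ᵀ = (u : F) • (A : Matrix (Fin n) (Fin n) F) := by
      rw [← glInvT_inv_val, e, Units.val_mul, Matrix.GeneralLinearGroup.coe_scalar, scalar_apply, ← smul_one_eq_diagonal,
        Matrix.smul_mul, Matrix.one_mul]
    have e2 : ((u : F) * u) • (A : Matrix (Fin n) (Fin n) F) = (1 : F) • (A : Matrix (Fin n) (Fin n) F) := by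
      rw [one_smul, mul_smul, ← e1, ← transpose_smul, ← e1, transpose_transpose]
    haveI : Nonempty (Fin n) := ⟨⟨0, by omega⟩⟩
    rcases mul_self_eq_one_iff.1 (smul_left_injective F A.ne_zero e2) with h1 | h1
    · exact Or.inl (by rw [e1, h1, one_smul])
    · exact Or.inr (by rw [e1, h1, neg_one_smul])
  · intro h
    refine orderOf_eq_prime ?_ (gam_ne_one hn A)
    rw [pow_two, gam_sq, cj_eq_one_iff hn2, mem_center]
    rcases h with h | h
    · exact ⟨1, Units.ext (by rw [Units.val_mul, glInvT_inv_val, h, map_one, Units.inv_mul, Units.val_one])⟩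
    · exact ⟨-1, Units.ext (by
        rw [Units.val_mul, glInvT_inv_val, h, Matrix.mul_neg, Units.inv_mul, Matrix.GeneralLinearGroup.coe_scalar,
          scalar_apply]
        ext i j
        rcases eq_or_ne i j with rfl | hij <;> simp [*])⟩

lemma graph_class {γ : MulAut (P n F)} (h : Cfsg.IsGraphAutClassPSL γ) (h2 : orderOf γ = 2) :
    ∃ A : GL (Fin n) F, γ = gam A ∧ ((A : Matrix (Fin n) (Fin n) F)ᵀ = A ∨ (A : Matrix (Fin n) (Fin n) F)ᵀ = -A) := by
  obtain ⟨hn, δ, γ', hδ, hγ', rfl⟩ := h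
  obtain ⟨g, rfl⟩ := (isInnerDiagonal_iff _).1 hδ
  rw [isInverseTranspose_iff] at hγ'
  subst hγ'
  have e : cj g * it = (gam g⁻¹ : MulAut (P n F)) := by rw [gam, inv_inv]
  rw [e] at h2 ⊢
  exact ⟨g⁻¹, rfl, (orderOf_gam_iff hn _).1 h2⟩

lemma conj_gam (h A : GL (Fin n) F) :
    cj h * gam A * (cj h)⁻¹ = (gam (glInvT h * A * h⁻¹) : MulAut (P n F)) := by
  rw [gam, gam, ← map_inv cj h, mul_assoc, mul_assoc, it_mul_cj, ← mul_assoc, ← mul_assoc, ← map_mul, ← map_mul]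
  congr 2
  have : glInvT h⁻¹ = (glInvT h)⁻¹ := Units.ext rfl
  rw [this, _root_.mul_inv_rev, _root_.mul_inv_rev, inv_inv, mul_assoc]

lemma gam_eq_iff (hn : 2 ≤ n) (A B : GL (Fin n) F) :
    (gam A : MulAut (P n F)) = gam B ↔ ∃ u : F, u ≠ 0 ∧ (B : Matrix (Fin n) (Fin n) F) = u • (A : Matrix (Fin n) (Fin n) F) := by
  constructor
  · intro h
    obtain ⟨u, hu⟩ := cj_eq_cj hn (mul_right_cancel h)
    refine ⟨u, u.ne_zero, ?_⟩
    have : B = Matrix.GeneralLinearGroup.scalar (Fin n) u * A := by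
      have e := congrArg (·⁻¹) hu
      simp only [inv_inv, _root_.mul_inv_rev] at e
      rw [e, ← mul_assoc, ← AutPSLField.scalar_comm, mul_inv_cancel_right]
    rw [this, Units.val_mul, Matrix.GeneralLinearGroup.coe_scalar, scalar_apply, ← smul_one_eq_diagonal,
      Matrix.smul_mul, Matrix.one_mul]
  · rintro ⟨u, hu, h⟩
    have : B = Matrix.GeneralLinearGroup.scalar (Fin n) (Units.mk0 u hu) * A := by
      apply Units.ext
      rw [h, Units.val_mul, Matrix.GeneralLinearGroup.coe_scalar, scalar_apply, ← smul_one_eq_diagonal,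
        Matrix.smul_mul, Matrix.one_mul]
      rfl
    rw [gam, gam, this, _root_.mul_inv_rev, map_mul cj, ← map_inv (Matrix.GeneralLinearGroup.scalar (Fin n)), cj_scalar hn,
      mul_one]

lemma coe_congr_mul (h A : GL (Fin n) F) :
    ((glInvT h⁻¹ * A * h : GL (Fin n) F) : Matrix (Fin n) (Fin n) F) =
      (h : Matrix (Fin n) (Fin n) F)ᵀ * (A : Matrix (Fin n) (Fin n) F) * (h : Matrix (Fin n) (Fin n) F) := by
  rw [Units.val_mul, Units.val_mul, glInvT_inv_val]

lemma commute_iff (hn : 2 ≤ n) (h A : GL (Fin n) F) :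
    cj h * gam A = gam A * (cj h : MulAut (P n F)) ↔
      ∃ u : F, (h : Matrix (Fin n) (Fin n) F)ᵀ * (A : Matrix (Fin n) (Fin n) F) * (h : Matrix (Fin n) (Fin n) F) =
        u • (A : Matrix (Fin n) (Fin n) F) := by
  have key : gam (glInvT h⁻¹ * A * h) = ((cj h)⁻¹ * gam A * cj h : MulAut (P n F)) := by
    have := conj_gam h⁻¹ A
    rw [map_inv, inv_inv, inv_inv] at this
    exact this.symm
  constructor
  · intro e
    have : gam A = (gam (glInvT h⁻¹ * A * h) : MulAut (P n F)) := by rw [key, mul_assoc, ← e, inv_mul_cancel_left]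
    obtain ⟨u, -, hu⟩ := (gam_eq_iff hn _ _).1 this
    exact ⟨u, by rw [← coe_congr_mul, hu]⟩
  · rintro ⟨u, hu⟩
    rw [← coe_congr_mul] at hu
    have hu0 : u ≠ 0 := by
      rintro rfl
      haveI : Nonempty (Fin n) := ⟨⟨0, by omega⟩⟩
      exact (glInvT h⁻¹ * A * h).ne_zero (by rw [hu, zero_smul])
    have := (gam_eq_iff hn A _).2 ⟨u, hu0, hu⟩
    rw [key] at this
    calc cj h * gam A = cj h * ((cj h)⁻¹ * gam A * cj h) := by rw [← this]
      _ = _ := by group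

/-- Conjugate graph automorphisms have congruent matrices up to scalars. -/
lemma congrS_of_isConj (hn : 2 ≤ n) {A B : GL (Fin n) F} (h : Cfsg.IsConjUnder (Cfsg.inndiagPSL n F) (gam A) (gam B)) :
    CongrS (B : Matrix (Fin n) (Fin n) F) (A : Matrix (Fin n) (Fin n) F) := by
  obtain ⟨δ, hδ, e⟩ := h
  obtain ⟨g, rfl⟩ := (mem_inndiag _).1 hδ
  rw [conj_gam] at e
  obtain ⟨u, hu, hB⟩ := (gam_eq_iff hn _ _).1 e.symm
  refine ⟨u, hu, ((g⁻¹ : GL (Fin n) F) : Matrix (Fin n) (Fin n) F), (g : Matrix (Fin n) (Fin n) F),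
    Units.inv_mul g, Units.mul_inv g, ?_⟩
  rw [hB, Matrix.mul_smul, Matrix.smul_mul]
  congr 1

section Congr
variable {ι : Type} [Fintype ι] [DecidableEq ι] {N : Matrix ι ι F} {A B : GL (Fin n) F}

/-- Matrices congruent to multiples of the same matrix give conjugate graph automorphisms. -/
lemma isConj_of_congrS (hn : 2 ≤ n) (hA : CongrS (A : Matrix (Fin n) (Fin n) F) N)
    (hB : CongrS (B : Matrix (Fin n) (Fin n) F) N) : Cfsg.IsConjUnder (Cfsg.inndiagPSL n F) (gam A) (gam B) := by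
  obtain ⟨u, hu, hA⟩ := hA
  obtain ⟨v, hv, hB⟩ := hB
  have h0 := (hB.smul (u * v⁻¹))
  rw [smul_smul, inv_mul_cancel_right₀ hv] at h0
  obtain ⟨T, T', h1, h2, h3⟩ := h0.trans hA.symm
  let g : GL (Fin n) F := ⟨T', T, h2, h1⟩
  refine ⟨cj g, (mem_inndiag _).2 ⟨g, rfl⟩, ?_⟩
  rw [conj_gam]
  refine (gam_eq_iff hn B _).2 ⟨u * v⁻¹, mul_ne_zero hu (inv_ne_zero hv), ?_⟩
  rw [Units.val_mul, Units.val_mul]
  exact h3.symm

lemma exists_gl (hd : N.det ≠ 0) (hc : Fintype.card ι = n) :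
    ∃ A : GL (Fin n) F, Congr (A : Matrix (Fin n) (Fin n) F) N := by
  let e : ι ≃ Fin n := Fintype.equivFinOfCardEq hc
  let A : Matrix (Fin n) (Fin n) F := N.submatrix e.symm e.symm
  refine ⟨Matrix.GeneralLinearGroup.mkOfDetNeZero A (by rwa [det_submatrix_equiv_self]),
    (1 : Matrix ι ι F).submatrix id e.symm, (1 : Matrix ι ι F).submatrix e.symm id, ?_, ?_, ?_⟩
  · rw [submatrix_mul_equiv, Matrix.one_mul, submatrix_id_id]
  · rw [← submatrix_mul _ _ _ id _ Function.bijective_id, Matrix.one_mul, submatrix_one_equiv]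
  · show A = _
    rw [transpose_submatrix, transpose_one, ← Matrix.submatrix_id_id N,
      ← submatrix_mul _ _ _ id _ Function.bijective_id, Matrix.one_mul,
      ← submatrix_mul _ _ _ id _ Function.bijective_id, Matrix.mul_one]

/-- `GL` of the congruent space, transported. -/
noncomputable def conjHom (T : Matrix ι (Fin n) F) (T' : Matrix (Fin n) ι F) (h1 : T * T' = 1) (h2 : T' * T = 1) :
    GL ι F →* GL (Fin n) F where
  toFun x := ⟨T' * (x : Matrix ι ι F) * T, T' * ((x⁻¹ : GL ι F) : Matrix ι ι F) * T,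
    by rw [Matrix.mul_assoc, ← Matrix.mul_assoc T, ← Matrix.mul_assoc T, h1, Matrix.one_mul, Matrix.mul_assoc T',
      ← Matrix.mul_assoc (x : Matrix ι ι F), Units.mul_inv, Matrix.one_mul, h2],
    by rw [Matrix.mul_assoc, ← Matrix.mul_assoc T, ← Matrix.mul_assoc T, h1, Matrix.one_mul, Matrix.mul_assoc T',
      ← Matrix.mul_assoc ((x⁻¹ : GL ι F) : Matrix ι ι F), Units.inv_mul, Matrix.one_mul, h2]⟩
  map_one' := Units.ext (by simp [h2])
  map_mul' x y := Units.ext (by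
    simp only [Units.val_mul]
    rw [Matrix.mul_assoc (T' * _) T, ← Matrix.mul_assoc T, ← Matrix.mul_assoc T, h1, Matrix.one_mul]
    simp only [Matrix.mul_assoc])

lemma coe_conjHom (T : Matrix ι (Fin n) F) (T' : Matrix (Fin n) ι F) (h1 : T * T' = 1) (h2 : T' * T = 1) (x : GL ι F) :
    ((conjHom T T' h1 h2 x : GL (Fin n) F) : Matrix (Fin n) (Fin n) F) = T' * (x : Matrix ι ι F) * T := rfl

lemma conjHom_surjective (T : Matrix ι (Fin n) F) (T' : Matrix (Fin n) ι F) (h1 : T * T' = 1) (h2 : T' * T = 1)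
    (h : GL (Fin n) F) : ∃ x, conjHom T T' h1 h2 x = h := by
  refine ⟨⟨T * (h : Matrix (Fin n) (Fin n) F) * T', T * ((h⁻¹ : GL (Fin n) F) : Matrix (Fin n) (Fin n) F) * T', ?_, ?_⟩, ?_⟩
  · rw [Matrix.mul_assoc, ← Matrix.mul_assoc T', ← Matrix.mul_assoc T', h2, Matrix.one_mul, Matrix.mul_assoc T,
      ← Matrix.mul_assoc (h : Matrix (Fin n) (Fin n) F), Units.mul_inv, Matrix.one_mul, h1]
  · rw [Matrix.mul_assoc, ← Matrix.mul_assoc T', ← Matrix.mul_assoc T', h2, Matrix.one_mul, Matrix.mul_assoc T,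
      ← Matrix.mul_assoc ((h⁻¹ : GL (Fin n) F) : Matrix (Fin n) (Fin n) F), Units.inv_mul, Matrix.one_mul, h1]
  · apply Units.ext
    show T' * (T * (h : Matrix (Fin n) (Fin n) F) * T') * T = _
    rw [Matrix.mul_assoc, Matrix.mul_assoc, h2, Matrix.mul_one, ← Matrix.mul_assoc, h2, Matrix.one_mul]

lemma conjHom_center (hn : 2 ≤ n) (T : Matrix ι (Fin n) F) (T' : Matrix (Fin n) ι F) (h1 : T * T' = 1) (h2 : T' * T = 1)
    (x : GL ι F) : (cj (conjHom T T' h1 h2 x) : MulAut (P n F)) = 1 ↔ x ∈ Cfsg.Geo.scalars ι F := by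
  rw [cj_eq_one_iff hn, mem_center, Cfsg.Geo.mem_scalars_iff]
  constructor
  · rintro ⟨u, hu⟩
    refine ⟨u, ?_⟩
    have e := congrArg (fun M : GL (Fin n) F => T * (M : Matrix (Fin n) (Fin n) F) * T') hu
    simp only [coe_conjHom, Matrix.GeneralLinearGroup.coe_scalar, scalar_apply, ← smul_one_eq_diagonal] at e
    rwa [← Matrix.mul_assoc, ← Matrix.mul_assoc, h1, Matrix.one_mul, Matrix.mul_assoc, h1, Matrix.mul_one,
      Matrix.mul_smul, Matrix.smul_mul, Matrix.mul_one, h1] at e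
  · rintro ⟨u, hu⟩
    refine ⟨u, Units.ext ?_⟩
    rw [coe_conjHom, hu, Matrix.GeneralLinearGroup.coe_scalar, scalar_apply, ← smul_one_eq_diagonal,
      Matrix.mul_smul, Matrix.smul_mul, Matrix.mul_one, h2]

lemma sim_conjHom (T : Matrix ι (Fin n) F) (T' : Matrix (Fin n) ι F) (h1 : T * T' = 1) (h2 : T' * T = 1) {u : F}
    (hu : u ≠ 0) (hA : (A : Matrix (Fin n) (Fin n) F) = Tᵀ * (u • N) * T) (x : GL ι F) (c : F) :
    (conjHom T T' h1 h2 x : Matrix (Fin n) (Fin n) F)ᵀ * (A : Matrix (Fin n) (Fin n) F) *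
        (conjHom T T' h1 h2 x : Matrix (Fin n) (Fin n) F) = c • (A : Matrix (Fin n) (Fin n) F) ↔
      (x : Matrix ι ι F)ᵀ * N * (x : Matrix ι ι F) = c • N := by
  have key : (conjHom T T' h1 h2 x : Matrix (Fin n) (Fin n) F)ᵀ * (A : Matrix (Fin n) (Fin n) F) *
      (conjHom T T' h1 h2 x : Matrix (Fin n) (Fin n) F) = u • (Tᵀ * ((x : Matrix ι ι F)ᵀ * N * (x : Matrix ι ι F)) * T) := by
    rw [coe_conjHom, hA, transpose_mul, transpose_mul]
    have t : T'ᵀ * Tᵀ = 1 := by rw [← transpose_mul, h1, transpose_one]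
    simp only [Matrix.mul_smul, Matrix.smul_mul]
    congr 1
    calc Tᵀ * ((x : Matrix ι ι F)ᵀ * T'ᵀ) * (Tᵀ * N * T) * (T' * (x : Matrix ι ι F) * T)
        = Tᵀ * (x : Matrix ι ι F)ᵀ * (T'ᵀ * Tᵀ) * N * (T * T') * (x : Matrix ι ι F) * T := by
          simp only [Matrix.mul_assoc]
      _ = _ := by rw [t, h1, Matrix.mul_one, Matrix.mul_one]; simp only [Matrix.mul_assoc]
  have inj : ∀ M M' : Matrix ι ι F, Tᵀ * M * T = Tᵀ * M' * T → M = M' := by
    intro M M' e
    have t : T'ᵀ * Tᵀ = 1 := by rw [← transpose_mul, h1, transpose_one]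
    have := congrArg (fun Z => T'ᵀ * Z * T') e
    simpa only [← Matrix.mul_assoc, t, Matrix.one_mul, Matrix.mul_assoc _ T T', h1, Matrix.mul_one] using this
  rw [key, hA]
  constructor
  · intro e
    refine inj _ _ (smul_right_injective _ hu ?_)
    simpa only [Matrix.mul_smul, Matrix.smul_mul, smul_comm c u] using e
  · intro e
    rw [e]
    simp only [Matrix.mul_smul, Matrix.smul_mul, smul_comm c u]

/-- The centraliser of a graph automorphism in `PGL` is the projective similitude group of its form. -/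
theorem centralizer_equiv (hn : 2 ≤ n) (hA : CongrS (A : Matrix (Fin n) (Fin n) F) N) (S : Subgroup (GL ι F))
    (hS : ∀ x, x ∈ S ↔ ∃ c : F, (x : Matrix ι ι F)ᵀ * N * (x : Matrix ι ι F) = c • N) :
    Nonempty (↥(Cfsg.inndiagPSL n F ⊓ Subgroup.centralizer {gam A}) ≃* Cfsg.projQuot S) := by
  obtain ⟨u, hu, T, T', h1, h2, hA⟩ := hA
  let ρ : ↥S →* MulAut (P n F) := cj.comp ((conjHom T T' h1 h2).comp S.subtype)
  have hρ : ∀ x : ↥S, ρ x = cj (conjHom T T' h1 h2 (x : GL ι F)) := fun x => rfl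
  refine equiv_of_range ρ _ ?_ _ ?_
  · ext β
    simp only [MonoidHom.mem_range, Subgroup.mem_inf, mem_inndiag, Subgroup.mem_centralizer_singleton_iff]
    constructor
    · rintro ⟨⟨x, hx⟩, rfl⟩
      refine ⟨⟨_, rfl⟩, (commute_iff hn _ _).2 ?_⟩
      obtain ⟨c, hc⟩ := (hS x).1 hx
      exact ⟨c, (sim_conjHom T T' h1 h2 hu hA x c).2 hc⟩
    · rintro ⟨⟨g, rfl⟩, hc⟩
      obtain ⟨c, hc⟩ := (commute_iff hn _ _).1 hc
      obtain ⟨x, rfl⟩ := conjHom_surjective T T' h1 h2 g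
      exact ⟨⟨x, (hS x).2 ⟨c, (sim_conjHom T T' h1 h2 hu hA x c).1 hc⟩⟩, rfl⟩
  · ext x
    rw [MonoidHom.mem_ker, hρ, conjHom_center hn, Subgroup.mem_subgroupOf]

/-- When every scalar is a square the centraliser is the isometry group. -/
theorem centralizer_equiv_isometry (hn : 2 ≤ n) (h2' : (2 : F) = 0) (hsq : ∀ c : F, IsSquare c) (hN : N ≠ 0)
    (hA : CongrS (A : Matrix (Fin n) (Fin n) F) N) {G : Type*} [Group G] (φ : G →* GL ι F)
    (hinj : Function.Injective φ)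
    (hφ : ∀ x : GL ι F, x ∈ φ.range ↔ (x : Matrix ι ι F)ᵀ * N * (x : Matrix ι ι F) = N) :
    Nonempty (↥(Cfsg.inndiagPSL n F ⊓ Subgroup.centralizer {gam A}) ≃* G) := by
  obtain ⟨u, hu, T, T', h1, h2, hA⟩ := hA
  let ρ : G →* MulAut (P n F) := cj.comp ((conjHom T T' h1 h2).comp φ)
  have hρ : ∀ x : G, ρ x = cj (conjHom T T' h1 h2 (φ x)) := fun x => rfl
  have hker : Function.Injective ρ := by
    rw [injective_iff_map_eq_one]
    intro x hx
    obtain ⟨c, hc⟩ := (Cfsg.Geo.mem_scalars_iff _).1 ((conjHom_center hn T T' h1 h2 _).1 hx)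
    have h3 := (hφ _).1 ⟨x, rfl⟩
    rw [hc, transpose_smul, transpose_one, Matrix.smul_mul, Matrix.one_mul, Matrix.smul_mul, Matrix.mul_smul,
      Matrix.mul_one, smul_smul] at h3
    conv_rhs at h3 => rw [← one_smul F N]
    have hc1 : (c : F) = 1 := by
      rcases mul_self_eq_one_iff.1 (smul_left_injective F hN h3) with h | h
      · exact h
      · rw [h]; linear_combination -h2'
    apply hinj
    rw [map_one]
    apply Units.ext
    rw [hc, hc1, one_smul, Units.val_one]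
  have hH : ρ.range = Cfsg.inndiagPSL n F ⊓ Subgroup.centralizer {gam A} := by
    ext β
    simp only [MonoidHom.mem_range, Subgroup.mem_inf, mem_inndiag, Subgroup.mem_centralizer_singleton_iff]
    constructor
    · rintro ⟨x, rfl⟩
      refine ⟨⟨_, rfl⟩, (commute_iff hn _ _).2 ⟨1, (sim_conjHom T T' h1 h2 hu hA (φ x) 1).2 ?_⟩⟩
      rw [one_smul]
      exact (hφ _).1 ⟨x, rfl⟩
    · rintro ⟨⟨g, rfl⟩, hc⟩
      obtain ⟨c, hc⟩ := (commute_iff hn _ _).1 hc
      obtain ⟨x, rfl⟩ := conjHom_surjective T T' h1 h2 g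
      have hx := (sim_conjHom T T' h1 h2 hu hA x c).1 hc
      obtain ⟨s, rfl⟩ := hsq c
      have hs : s ≠ 0 := by
        rintro rfl
        rw [mul_zero, zero_smul] at hx
        refine hN ?_
        have := congrArg (fun Z => ((x⁻¹ : GL ι F) : Matrix ι ι F)ᵀ * Z * ((x⁻¹ : GL ι F) : Matrix ι ι F)) hx
        simpa only [← Matrix.mul_assoc, ← transpose_mul, Units.mul_inv, transpose_one, Matrix.one_mul, Matrix.mul_assoc _ _ ((x⁻¹ : GL ι F) : Matrix ι ι F), Matrix.mul_one, Matrix.mul_zero, Matrix.zero_mul] using this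
      obtain ⟨y, hy⟩ : Units.map (Matrix.scalar ι : F →+* Matrix ι ι F).toMonoidHom (Units.mk0 s hs)⁻¹ * x ∈ φ.range := by
        rw [hφ, Units.val_mul]
        show (diagonal (fun _ => ((Units.mk0 s hs)⁻¹ : Fˣ).val) * _)ᵀ * N * (diagonal (fun _ => ((Units.mk0 s hs)⁻¹ : Fˣ).val) * _) = N
        rw [← smul_one_eq_diagonal, Matrix.smul_mul, Matrix.one_mul, transpose_smul, Matrix.smul_mul, Matrix.smul_mul,
          Matrix.mul_smul, hx, smul_smul, smul_smul, Units.val_inv_eq_inv_val, Units.val_mk0]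
        rw [show s⁻¹ * s⁻¹ * (s * s) = 1 by field_simp, one_smul]
      refine ⟨y, ?_⟩
      rw [hρ, hy, map_mul, map_mul, (conjHom_center hn T T' h1 h2 _).2 ⟨(Units.mk0 s hs)⁻¹, rfl⟩, one_mul]
  exact ⟨((MonoidHom.ofInjective hker).trans (MulEquiv.subgroupCongr hH)).symm⟩

end Congr

/-- The determinants of the similitudes of `A`. -/
noncomputable def simDet (hn : 2 ≤ n) (A : GL (Fin n) F) : Subgroup Fˣ :=
  (((Subgroup.centralizer ({gam A} : Set (MulAut (P n F)))).comap cj).map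
    (Matrix.GeneralLinearGroup.det : GL (Fin n) F →* Fˣ))

lemma mem_simDet (hn : 2 ≤ n) (A : GL (Fin n) F) (d : Fˣ) :
    d ∈ simDet hn A ↔ ∃ (h : GL (Fin n) F) (u : F), Matrix.GeneralLinearGroup.det h = d ∧
      (h : Matrix (Fin n) (Fin n) F)ᵀ * (A : Matrix (Fin n) (Fin n) F) * (h : Matrix (Fin n) (Fin n) F) =
        u • (A : Matrix (Fin n) (Fin n) F) := by
  simp only [simDet, Subgroup.mem_map, Subgroup.mem_comap, Subgroup.mem_centralizer_singleton_iff, commute_iff hn]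
  constructor
  · rintro ⟨h, ⟨u, hu⟩, hd⟩; exact ⟨h, u, hd, hu⟩
  · rintro ⟨h, u, hd, hu⟩; exact ⟨h, ⟨u, hu⟩, hd⟩

lemma split_gam (hn : 2 ≤ n) (A : GL (Fin n) F) :
    Cfsg.splitClassCount (Cfsg.inndiagPSL n F) (Cfsg.Inn (P n F)) (gam A) = (simDet hn A).index := by
  have := split_eq_index hn 1 (gam A)
  rw [map_one, one_mul, inv_one, mul_one] at this
  exact this

lemma range_le_simDet (hn : 2 ≤ n) (A : GL (Fin n) F) :
    (powMonoidHom n : Fˣ →* Fˣ).range ≤ simDet hn A := by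
  rintro _ ⟨y, rfl⟩
  refine (mem_simDet hn A _).2 ⟨Matrix.GeneralLinearGroup.scalar (Fin n) y, (y : F) * y, ?_, ?_⟩
  · apply Units.ext; simp
  · simp [Matrix.GeneralLinearGroup.coe_scalar, ← smul_one_eq_diagonal, Matrix.smul_mul, Matrix.mul_smul, smul_smul]

lemma det_sq_of_sim (hn : 2 ≤ n) {A h : GL (Fin n) F} {u : F}
    (e : (h : Matrix (Fin n) (Fin n) F)ᵀ * (A : Matrix (Fin n) (Fin n) F) * (h : Matrix (Fin n) (Fin n) F) =
      u • (A : Matrix (Fin n) (Fin n) F)) :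
    ∃ v : Fˣ, (v : F) = u ∧ Matrix.GeneralLinearGroup.det h ^ 2 = v ^ n := by
  have hA : (A : Matrix (Fin n) (Fin n) F).det ≠ 0 := ((Matrix.isUnit_iff_isUnit_det _).1 A.isUnit).ne_zero
  have hh : (h : Matrix (Fin n) (Fin n) F).det ≠ 0 := ((Matrix.isUnit_iff_isUnit_det _).1 h.isUnit).ne_zero
  have := congrArg Matrix.det e
  rw [det_mul, det_mul, det_transpose, det_smul, Fintype.card_fin] at this
  have e2 : (h : Matrix (Fin n) (Fin n) F).det ^ 2 = u ^ n := mul_right_cancel₀ hA (by linear_combination this)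
  have hu : u ≠ 0 := by
    rintro rfl
    rw [zero_pow (by omega)] at e2
    exact hh ((pow_eq_zero_iff two_ne_zero).1 e2)
  exact ⟨Units.mk0 u hu, rfl, Units.ext (by simpa using e2)⟩

end Cfsg.Agent.AutPSLGraph
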