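import Mathlib
import Cfsg.Agent.Lib.GaloisDescentGL
import Cfsg.Agent.Lib.AutPSLBasic

/-!
Hermitian (and, for trivial twist, symmetric) forms in odd characteristic: reflections, anisotropic vectors,
and two rigidity statements about the lines of anisotropic vectors.
-/

set_option autoImplicit false

namespace Cfsg.Agent.SesquiReflect

open Matrix
open scoped MatrixGroups

variable {n : ℕ} {F : Type*} [Field F]

/-- The sesquilinear form with matrix `P`. -/
def B (σ : F ≃+* F) (P : Matrix (Fin n) (Fin n) F) (u v : Fin n → F) : F := (σ ∘ u) ⬝ᵥ (P *ᵥ v)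

/-- `B u ·` as a linear map. -/
def Bl (σ : F ≃+* F) (P : Matrix (Fin n) (Fin n) F) (u : Fin n → F) : (Fin n → F) →ₗ[F] F where
  toFun v := B σ P u v
  map_add' v v' := by simp [B, mulVec_add, dotProduct_add]
  map_smul' c v := by simp [B, mulVec_smul, dotProduct_smul]

variable {σ : F ≃+* F} {P : Matrix (Fin n) (Fin n) F}

lemma B_add_right (u v w : Fin n → F) : B σ P u (v + w) = B σ P u v + B σ P u w := (Bl σ P u).map_add v w
lemma B_sub_right (u v w : Fin n → F) : B σ P u (v - w) = B σ P u v - B σ P u w := (Bl σ P u).map_sub v w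
lemma B_smul_right (c : F) (u v : Fin n → F) : B σ P u (c • v) = c * B σ P u v := (Bl σ P u).map_smul c v
lemma B_zero_right (u : Fin n → F) : B σ P u 0 = 0 := (Bl σ P u).map_zero

lemma B_add_left (u v w : Fin n → F) : B σ P (u + v) w = B σ P u w + B σ P v w := by
  have : σ ∘ (u + v) = σ ∘ u + σ ∘ v := funext fun i => map_add σ (u i) (v i)
  simp [B, this, add_dotProduct]

lemma B_smul_left (c : F) (u v : Fin n → F) : B σ P (c • u) v = σ c * B σ P u v := by
  have : σ ∘ (c • u) = σ c • (σ ∘ u) := funext fun i => map_mul σ c (u i)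
  simp [B, this, smul_dotProduct]

lemma B_sub_left (u v w : Fin n → F) : B σ P (u - v) w = B σ P u w - B σ P v w := by
  have : σ ∘ (u - v) = σ ∘ u - σ ∘ v := funext fun i => map_sub σ (u i) (v i)
  simp [B, this, sub_dotProduct]

lemma B_row (u v : Fin n → F) : B σ P u v = ((σ ∘ u) ᵥ* P) ⬝ᵥ v := by rw [B, dotProduct_mulVec]

/-- `P` is hermitian for the involution `σ`, and non-degenerate. -/
structure Herm (σ : F ≃+* F) (P : Matrix (Fin n) (Fin n) F) : Prop where
  invol : ∀ a, σ (σ a) = a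
  herm : (P.map σ)ᵀ = P
  det : P.det ≠ 0

lemma Herm.symm (H : Herm σ P) (u v : Fin n → F) : σ (B σ P u v) = B σ P v u := by
  have h1 : σ (B σ P u v) = u ⬝ᵥ (P.map σ *ᵥ (σ ∘ v)) := by
    simp only [B, dotProduct, mulVec, map_sum, map_mul, Matrix.map_apply, Function.comp_apply, H.invol]
  have hP : P.map σ = Pᵀ := by
    rw [← Matrix.transpose_transpose (P.map σ), H.herm]
  rw [h1, hP, mulVec_transpose, dotProduct_comm, ← dotProduct_mulVec]
  rfl

lemma Herm.symm_zero (H : Herm σ P) {u v : Fin n → F} (h : B σ P u v = 0) : B σ P v u = 0 := by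
  rw [← H.symm, h, map_zero]

lemma Herm.fixed (H : Herm σ P) (u : Fin n → F) : σ (B σ P u u) = B σ P u u := H.symm u u

lemma Herm.nondeg_right (H : Herm σ P) {v : Fin n → F} (h : ∀ u, B σ P u v = 0) : v = 0 := by
  refine Matrix.eq_zero_of_mulVec_eq_zero H.det (funext fun i => ?_)
  have := h (Pi.single i 1)
  have hs : σ ∘ (Pi.single i (1 : F) : Fin n → F) = Pi.single i 1 := by
    funext j; rcases eq_or_ne j i with rfl | hj <;> simp [*]
  rw [B, hs, single_dotProduct, one_mul] at this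
  exact this

lemma Herm.exists_partner (H : Herm σ P) {v : Fin n → F} (hv : v ≠ 0) : ∃ u, B σ P v u ≠ 0 := by
  by_contra h
  push Not at h
  exact hv (H.nondeg_right fun u => H.symm_zero (h u))

/-- Fewer than `n` linear functionals have a common zero. -/
lemma exists_ker {k : ℕ} (rows : Fin k → Fin n → F) (h : k < n) : ∃ v : Fin n → F, v ≠ 0 ∧ ∀ i, rows i ⬝ᵥ v = 0 := by
  have hk : LinearMap.ker (Matrix.of rows).mulVecLin ≠ ⊥ :=
    LinearMap.ker_ne_bot_of_finrank_lt (by simpa using h)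
  obtain ⟨v, hv, hv0⟩ := (Submodule.ne_bot_iff _).1 hk
  exact ⟨v, hv0, fun i => congrFun (show (Matrix.of rows) *ᵥ v = 0 from hv) i⟩

lemma exists_orth {k : ℕ} (a : Fin k → Fin n → F) (h : k < n) :
    ∃ v : Fin n → F, v ≠ 0 ∧ ∀ i, B σ P (a i) v = 0 := by
  obtain ⟨v, hv, hv'⟩ := exists_ker (fun i => (σ ∘ a i) ᵥ* P) h
  exact ⟨v, hv, fun i => by rw [B_row]; exact hv' i⟩

lemma exists_unit_pair (H : Herm σ P) (h2 : (2 : F) ≠ 0) {k : ℕ} (a : Fin k → Fin n → F)
    (horth : ∀ i j, i ≠ j → B σ P (a i) (a j) = 0) (han : ∀ i, B σ P (a i) (a i) ≠ 0) {v : Fin n → F} (hv : v ≠ 0)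
    (hva : ∀ i, B σ P (a i) v = 0) (hvv : B σ P v v = 0) {d : F} (hd : σ d = d) :
    ∃ z, (∀ i, B σ P (a i) z = 0) ∧ B σ P v z = 1 ∧ B σ P z z = d := by
  obtain ⟨v0, hv0⟩ := H.exists_partner hv
  set v1 := v0 - ∑ i, (B σ P (a i) v0 / B σ P (a i) (a i)) • a i with hv1
  have hsum : ∀ u, B σ P u v1 = B σ P u v0 - ∑ i, B σ P (a i) v0 / B σ P (a i) (a i) * B σ P u (a i) := by
    intro u
    show Bl σ P u v1 = _
    rw [hv1, map_sub, map_sum]
    simp only [map_smul, smul_eq_mul]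
    rfl
  have ha1 : ∀ j, B σ P (a j) v1 = 0 := by
    intro j
    rw [hsum, Finset.sum_eq_single j (fun i _ hij => by rw [horth j i hij.symm, mul_zero]) (by simp),
      div_mul_cancel₀ _ (han j), sub_self]
  have hv1' : B σ P v v1 = B σ P v v0 := by
    rw [hsum, Finset.sum_eq_zero (fun i _ => by rw [H.symm_zero (hva i), mul_zero]), sub_zero]
  set v2 := (B σ P v v0)⁻¹ • v1 with hv2def
  have hv2 : B σ P v v2 = 1 := by rw [hv2def, B_smul_right, hv1', inv_mul_cancel₀ hv0]
  have hv2' : B σ P v2 v = 1 := by rw [← H.symm, hv2, map_one]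
  set δ := (d - B σ P v2 v2) / 2 with hδdef
  have hδ : σ δ = δ := by rw [hδdef, map_div₀, map_sub, hd, H.fixed, map_ofNat]
  have ha2 : ∀ j, B σ P (a j) v2 = 0 := fun j => by rw [hv2def, B_smul_right, ha1, mul_zero]
  clear_value v2 δ
  refine ⟨v2 + δ • v, fun i => ?_, ?_, ?_⟩
  · rw [B_add_right, ha2, B_smul_right, hva, mul_zero, add_zero]
  · rw [B_add_right, B_smul_right, hvv, mul_zero, add_zero, hv2]
  · simp only [B_add_right, B_add_left, B_smul_left, B_smul_right, hv2, hv2', hvv, hδ]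
    rw [hδdef]
    field_simp
    ring

lemma exists_aniso (H : Herm σ P) (h2 : (2 : F) ≠ 0) {k : ℕ} (a : Fin k → Fin n → F)
    (horth : ∀ i j, i ≠ j → B σ P (a i) (a j) = 0) (han : ∀ i, B σ P (a i) (a i) ≠ 0) (h : k < n) :
    ∃ z, (∀ i, B σ P (a i) z = 0) ∧ B σ P z z ≠ 0 := by
  obtain ⟨v, hv, hva⟩ := exists_orth (σ := σ) (P := P) a h
  by_cases hvv : B σ P v v = 0
  · obtain ⟨z, h1, -, h3⟩ := exists_unit_pair H h2 a horth han hv hva hvv (map_one σ)
    exact ⟨z, h1, by rw [h3]; exact one_ne_zero⟩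
  · exact ⟨v, hva, hvv⟩

lemma exists_third (H : Herm σ P) (h2 : (2 : F) ≠ 0) (hn : 3 ≤ n) {a b : Fin n → F} (hab : B σ P a b = 0)
    (ha : B σ P a a ≠ 0) (hb : B σ P b b ≠ 0) : ∃ d, B σ P a d = 0 ∧ B σ P b d = 0 ∧ B σ P d d ≠ 0 := by
  obtain ⟨d, hd, hdd⟩ := exists_aniso H h2 ![a, b] (by
    intro i j hij
    fin_cases i <;> fin_cases j <;> first | exact absurd rfl hij | exact hab | exact H.symm_zero hab)
    (by intro i; fin_cases i <;> assumption) (by omega)
  exact ⟨d, hd 0, hd 1, hdd⟩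

lemma exists_second (H : Herm σ P) (h2 : (2 : F) ≠ 0) (hn : 3 ≤ n) {a : Fin n → F}
    (ha : B σ P a a ≠ 0) : ∃ d, B σ P a d = 0 ∧ B σ P d d ≠ 0 := by
  obtain ⟨d, hd, hdd⟩ := exists_aniso H h2 ![a] (by
    intro i j hij; exact absurd (Subsingleton.elim i j) hij)
    (by intro i; fin_cases i; exact ha) (by omega)
  exact ⟨d, hd 0, hdd⟩

variable [Fintype F]

lemma norm_surj (hσ2 : ∀ a, σ (σ a) = a) (hσ : σ ≠ 1) {d : F} (hd : σ d = d) : ∃ α, σ α * α = d := by
  classical
  rcases eq_or_ne d 0 with rfl | hd0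
  · exact ⟨0, mul_zero _⟩
  haveI : Fact (Nat.Prime 2) := ⟨Nat.prime_two⟩
  have hord : orderOf σ = 2 := orderOf_eq_prime (RingEquiv.ext fun a => by rw [pow_two, RingAut.mul_apply, hσ2]; rfl) hσ
  obtain ⟨u, hu⟩ : Units.mk0 d hd0 ∈ (GaloisDescentGL.unorm σ).range := by
    rw [GaloisDescentGL.range_unorm]
    exact Units.ext hd
  refine ⟨(u : F), ?_⟩
  have h1 := congrArg Units.val hu
  simp only [GaloisDescentGL.unorm, MonoidHom.coe_mk, OneHom.coe_mk, hord, Finset.prod_range_succ,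
    Finset.prod_range_zero, one_mul, Units.val_mul, Units.coe_map, Units.val_mk0] at h1
  rw [← h1, mul_comm]
  simp

lemma binary_rep (h2 : (2 : F) ≠ 0) (hσ2 : ∀ a, σ (σ a) = a) {C1 C2 d : F} (h1 : C1 ≠ 0) (hC1 : σ C1 = C1)
    (hC2 : C2 ≠ 0) (hd : σ d = d) : ∃ α β, σ α * α * C1 + σ β * β * C2 = d := by
  classical
  by_cases hσ : σ = 1
  · subst hσ
    have hodd : Fintype.card F % 2 = 1 := FiniteField.odd_card_of_char_ne_two fun h => h2 (by
      haveI : CharP F 2 := ringChar.eq_iff.1 h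
      exact CharTwo.two_eq_zero)
    obtain ⟨α, β, h⟩ := FiniteField.exists_root_sum_quadratic (f := Polynomial.C C1 * Polynomial.X ^ 2)
      (g := Polynomial.C C2 * Polynomial.X ^ 2 - Polynomial.C d) (by simp [Polynomial.degree_C_mul_X_pow, h1])
      (by rw [Polynomial.degree_sub_C] <;> simp [Polynomial.degree_C_mul_X_pow, hC2]) hodd
    refine ⟨α, β, ?_⟩
    simp at h
    show α * α * C1 + β * β * C2 = d
    linear_combination h
  · obtain ⟨α, hα⟩ := norm_surj hσ2 hσ (d := d / C1) (by rw [map_div₀, hd, hC1])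
    exact ⟨α, 0, by rw [hα]; field_simp; ring⟩

/-- Orthogonally to two vectors every fixed value is represented, except possibly in dimension three over trivial twist. -/
lemma exists_rep (H : Herm σ P) (h2 : (2 : F) ≠ 0) (hn : 3 ≤ n) (hns : σ = 1 → 4 ≤ n) {a b : Fin n → F}
    (hab : B σ P a b = 0) (ha : B σ P a a ≠ 0) (hb : B σ P b b ≠ 0) {d : F} (hd : σ d = d) :
    ∃ z, B σ P a z = 0 ∧ B σ P b z = 0 ∧ B σ P z z = d := by
  obtain ⟨v, hva, hvb, hvv⟩ := exists_third H h2 hn hab ha hb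
  by_cases hσ : σ = 1
  · obtain ⟨w, hw, hww⟩ := exists_aniso H h2 ![a, b, v] (by
      intro i j hij
      fin_cases i <;> fin_cases j <;> first | exact absurd rfl hij | exact hab | exact H.symm_zero hab | exact hva | exact H.symm_zero hva | exact hvb | exact H.symm_zero hvb)
      (by intro i; fin_cases i <;> assumption) (by have := hns hσ; omega)
    obtain ⟨α, β, hab'⟩ := binary_rep h2 H.invol hvv (H.fixed v) hww hd
    have h1 : B σ P a w = 0 := hw 0
    have h3 : B σ P b w = 0 := hw 1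
    have h4 : B σ P v w = 0 := hw 2
    refine ⟨α • v + β • w, ?_, ?_, ?_⟩
    · simp [B_add_right, B_smul_right, hva, h1]
    · simp [B_add_right, B_smul_right, hvb, h3]
    · simp only [B_add_right, B_add_left, B_smul_right, B_smul_left, h4, H.symm_zero h4]
      linear_combination hab'
  · obtain ⟨α, hα⟩ := norm_surj H.invol hσ (d := d / B σ P v v) (by rw [map_div₀, hd, H.fixed])
    refine ⟨α • v, by rw [B_smul_right, hva, mul_zero], by rw [B_smul_right, hvb, mul_zero], ?_⟩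
    rw [B_smul_right, B_smul_left, ← mul_assoc, mul_comm α, hα, div_mul_cancel₀ _ hvv]

omit [Fintype F]

section Refl

/-- The reflection in the orthogonal complement of `a`, as a matrix. -/
def rmat (σ : F ≃+* F) (P : Matrix (Fin n) (Fin n) F) (a : Fin n → F) : Matrix (Fin n) (Fin n) F :=
  AutPSLBasic.tm a (-(2 / B σ P a a) • ((σ ∘ a) ᵥ* P))

lemma rmat_mulVec (a u : Fin n → F) : rmat σ P a *ᵥ u = u - (2 * B σ P a u / B σ P a a) • a := by
  rw [rmat, AutPSLBasic.tm_mulVec, smul_dotProduct, ← B_row, smul_eq_mul, sub_eq_add_neg, ← neg_smul]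
  congr 2
  ring

lemma det_rmat {a : Fin n → F} (ha : B σ P a a ≠ 0) : (rmat σ P a).det = -1 := by
  rw [rmat, AutPSLBasic.det_tm, smul_dotProduct, ← B_row, smul_eq_mul, neg_mul, div_mul_cancel₀ _ ha]
  ring

/-- The reflection. -/
noncomputable def refl (σ : F ≃+* F) (P : Matrix (Fin n) (Fin n) F) (a : Fin n → F) (ha : B σ P a a ≠ 0) :
    GL (Fin n) F :=
  Matrix.GeneralLinearGroup.mkOfDetNeZero (rmat σ P a) (by rw [det_rmat ha]; exact neg_ne_zero.2 one_ne_zero)

variable {a b : Fin n → F}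

lemma refl_mulVec (ha : B σ P a a ≠ 0) (u : Fin n → F) :
    (refl σ P a ha : Matrix (Fin n) (Fin n) F) *ᵥ u = u - (2 * B σ P a u / B σ P a a) • a := rmat_mulVec a u

lemma refl_self (ha : B σ P a a ≠ 0) : (refl σ P a ha : Matrix (Fin n) (Fin n) F) *ᵥ a = -a := by
  rw [refl_mulVec, mul_div_cancel_right₀ _ ha, two_smul]
  abel

lemma refl_orth (ha : B σ P a a ≠ 0) {u : Fin n → F} (hu : B σ P a u = 0) :
    (refl σ P a ha : Matrix (Fin n) (Fin n) F) *ᵥ u = u := by
  rw [refl_mulVec, hu, mul_zero, zero_div, zero_smul, sub_zero]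

lemma refl_invol (ha : B σ P a a ≠ 0) (u : Fin n → F) :
    (refl σ P a ha : Matrix (Fin n) (Fin n) F) *ᵥ ((refl σ P a ha : Matrix (Fin n) (Fin n) F) *ᵥ u) = u := by
  rw [refl_mulVec ha (refl σ P a ha *ᵥ u), refl_mulVec, B_sub_right, B_smul_right, div_mul_cancel₀ _ ha, sub_sub,
    ← add_smul]
  have : 2 * B σ P a u / B σ P a a + 2 * (B σ P a u - 2 * B σ P a u) / B σ P a a = 0 := by
    rw [← add_div, div_eq_zero_iff]; left; ring
  rw [this, zero_smul, sub_zero]

lemma refl_mul_self (ha : B σ P a a ≠ 0) : refl σ P a ha * refl σ P a ha = 1 := by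
  apply Units.ext
  apply Matrix.ext_of_mulVec_single
  intro i
  rw [Units.val_mul, Units.val_one, ← mulVec_mulVec, refl_invol, one_mulVec]

lemma refl_isom (H : Herm σ P) (ha : B σ P a a ≠ 0) (u v : Fin n → F) :
    B σ P ((refl σ P a ha : Matrix (Fin n) (Fin n) F) *ᵥ u) ((refl σ P a ha : Matrix (Fin n) (Fin n) F) *ᵥ v) =
      B σ P u v := by
  simp only [refl_mulVec, B_sub_right, B_sub_left, B_smul_right, B_smul_left, map_div₀, map_mul, map_ofNat, H.fixed,
    H.symm a u]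
  field_simp
  ring

lemma gl_ext {g h : GL (Fin n) F}
    (e : ∀ u, (g : Matrix (Fin n) (Fin n) F) *ᵥ u = (h : Matrix (Fin n) (Fin n) F) *ᵥ u) : g = h :=
  Units.ext (Matrix.ext_of_mulVec_single fun i => e _)

/-- Similitude. -/
def Sim (σ : F ≃+* F) (P : Matrix (Fin n) (Fin n) F) (g : GL (Fin n) F) (μ : F) : Prop :=
  μ ≠ 0 ∧ ∀ u v, B σ P ((g : Matrix (Fin n) (Fin n) F) *ᵥ u) ((g : Matrix (Fin n) (Fin n) F) *ᵥ v) = μ * B σ P u v

lemma Sim.aniso {g : GL (Fin n) F} {μ : F} (hg : Sim σ P g μ) (ha : B σ P a a ≠ 0) :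
    B σ P ((g : Matrix (Fin n) (Fin n) F) *ᵥ a) ((g : Matrix (Fin n) (Fin n) F) *ᵥ a) ≠ 0 := by
  rw [hg.2]; exact mul_ne_zero hg.1 ha

lemma refl_conj {g : GL (Fin n) F} {μ : F} (hg : Sim σ P g μ) (ha : B σ P a a ≠ 0) :
    g * refl σ P a ha = refl σ P ((g : Matrix (Fin n) (Fin n) F) *ᵥ a) (hg.aniso ha) * g := by
  refine gl_ext fun u => ?_
  rw [Units.val_mul, Units.val_mul, ← mulVec_mulVec, ← mulVec_mulVec, refl_mulVec, refl_mulVec, mulVec_sub,
    mulVec_smul, hg.2, hg.2, mul_left_comm, mul_div_mul_left _ _ hg.1]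

lemma refl_comm (H : Herm σ P) (ha : B σ P a a ≠ 0) (hb : B σ P b b ≠ 0) (hab : B σ P a b = 0) :
    refl σ P a ha * refl σ P b hb = refl σ P b hb * refl σ P a ha := by
  refine gl_ext fun u => ?_
  simp only [Units.val_mul, ← mulVec_mulVec, refl_mulVec, B_sub_right, B_smul_right, hab, H.symm_zero hab,
    mul_zero, sub_zero]
  abel

lemma refl_mul_not_scalar (H : Herm σ P) (h2 : (2 : F) ≠ 0) (hn : 3 ≤ n) (ha : B σ P a a ≠ 0) (hb : B σ P b b ≠ 0)
    (hab : B σ P a b = 0) (u : Fˣ) : refl σ P b hb * refl σ P a ha ≠ Matrix.GeneralLinearGroup.scalar (Fin n) u := by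
  intro e
  have happ : ∀ v : Fin n → F, (refl σ P b hb : Matrix (Fin n) (Fin n) F) *ᵥ
      ((refl σ P a ha : Matrix (Fin n) (Fin n) F) *ᵥ v) = (u : F) • v := by
    intro v
    rw [mulVec_mulVec, ← Units.val_mul, e, Matrix.GeneralLinearGroup.coe_scalar, scalar_apply]
    funext i
    simp [mulVec_diagonal]
  have e1 := happ a
  rw [refl_self, mulVec_neg, refl_orth hb (H.symm_zero hab)] at e1
  obtain ⟨d, hd, hd', hdd⟩ := exists_third H h2 hn hab ha hb
  have e2 := happ d
  rw [refl_orth ha hd, refl_orth hb hd'] at e2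
  have h1 := congrArg (B σ P a) e1
  have h3 := congrArg (B σ P d) e2
  rw [← neg_one_smul F a, B_smul_right, B_smul_right] at h1
  rw [B_smul_right] at h3
  have hu : (u : F) = -1 := (mul_right_cancel₀ ha h1).symm
  have hu' : (u : F) = 1 := by
    have h4 : 1 * B σ P d d = (u : F) * B σ P d d := by rw [one_mul]; exact h3
    exact (mul_right_cancel₀ hdd h4).symm
  exact h2 (by linear_combination hu - hu')

end Refl

variable [Fintype F]

/-- A similitude moving an anisotropic line admits a reflection fixing that line after which the images are orthogonal. -/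
lemma exists_separating (H : Herm σ P) (h2 : (2 : F) ≠ 0) (hn : 3 ≤ n) (hns : σ = 1 → 4 ≤ n) {a b : Fin n → F}
    (ha : B σ P a a ≠ 0) (hb : B σ P b b ≠ 0) (hne : ∀ t : F, b ≠ t • a) :
    ∃ (w : Fin n → F) (hw : B σ P w w ≠ 0), B σ P a w = 0 ∧
      B σ P b ((refl σ P w hw : Matrix (Fin n) (Fin n) F) *ᵥ b) = 0 := by
  set e := B σ P b b with he
  have hef : σ e = e := H.fixed b
  set c := B σ P a b / B σ P a a with hc
  set u := b - c • a with hu
  have hau : B σ P a u = 0 := by rw [hu, B_sub_right, B_smul_right, hc, div_mul_cancel₀ _ ha, sub_self]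
  have hu0 : u ≠ 0 := fun h => hne c (sub_eq_zero.1 h)
  have hbw : ∀ w, B σ P a w = 0 → B σ P b w = B σ P u w := fun w hw => by
    have : b = u + c • a := by rw [hu]; abel
    rw [this, B_add_left, B_smul_left, hw, mul_zero, add_zero]
  have key : ∀ (w : Fin n → F) (hw : B σ P w w ≠ 0), B σ P a w = 0 → σ (B σ P u w) * B σ P u w * 2 = e * B σ P w w →
      B σ P b ((refl σ P w hw : Matrix (Fin n) (Fin n) F) *ᵥ b) = 0 := by
    intro w hw haw h
    rw [refl_mulVec, B_sub_right, B_smul_right, ← H.symm b w, hbw w haw, ← he, sub_eq_zero, eq_comm,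
      div_mul_eq_mul_div, div_eq_iff hw, ← h]
    ring
  by_cases ht : B σ P u u = 0
  · obtain ⟨w, h1, huw, hww⟩ := exists_unit_pair H h2 ![a] (by
      intro i j hij; exact absurd (Subsingleton.elim i j) hij) (by intro i; fin_cases i; exact ha) hu0
      (by intro i; fin_cases i; exact hau) ht (d := 2 / e) (by rw [map_div₀, map_ofNat, hef])
    have hw0 : B σ P w w ≠ 0 := by rw [hww]; exact div_ne_zero h2 hb
    refine ⟨w, hw0, h1 0, key w hw0 (h1 0) ?_⟩
    rw [huw, map_one, hww, mul_div_cancel₀ _ hb]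
    ring
  · set t := B σ P u u with htdef
    have htf : σ t = t := H.fixed u
    obtain ⟨z, hz1, hz2, hzz⟩ := exists_rep H h2 hn hns hau ha ht (d := 2 * t ^ 2 / e - t)
      (by rw [map_sub, map_div₀, map_mul, map_ofNat, map_pow, htf, hef])
    have h1 : B σ P a (u + z) = 0 := by rw [B_add_right, hau, hz1, add_zero]
    have h3 : B σ P u (u + z) = t := by rw [B_add_right, hz2, add_zero]
    have h4 : B σ P (u + z) (u + z) = 2 * t ^ 2 / e := by
      rw [B_add_left, h3, B_add_right, H.symm_zero hz2, hzz]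
      ring
    have hw0 : B σ P (u + z) (u + z) ≠ 0 := by
      rw [h4]; exact div_ne_zero (mul_ne_zero h2 (pow_ne_zero 2 ht)) hb
    refine ⟨u + z, hw0, h1, key _ hw0 h1 ?_⟩
    rw [h3, htf, h4, mul_div_cancel₀ _ hb]
    ring

end Cfsg.Agent.SesquiReflect
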