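import Mathlib
import Cfsg.Prelude.Def_Solvable
import Cfsg.Prelude.Def_LieTypeDatum
import Cfsg.Agent.Lib.AutPSLBasic
import Cfsg.Agent.Lib.AutPSLGeometry
import Cfsg.Agent.Lib.AutPSLMain
import Cfsg.Agent.Lib.AutPSLApi
import Cfsg.Agent.Lib.AutPSLField
import Cfsg.Agent.Lib.AutPSLGraph
import Cfsg.Agent.Lib.AutPSLBalance
import Cfsg.Agent.Lib.AutPSpBasic
import Cfsg.Agent.Lib.FormCongruence
import Cfsg.Agent.Lib.SymplecticSimple
import Cfsg.Agent.Lib.SesquiReflect
import Cfsg.Agent.Lib.SesquiRigid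
import Cfsg.Agent.Lib.BalanceCriterion

/-!
Involutions involving the inverse-transpose in almost simple groups with socle `PSL n F`, odd characteristic:
their centralisers have no non-trivial normal subgroup of odd order.
-/

set_option autoImplicit false

namespace Cfsg.Agent.AutPSLGraphBalance

open Matrix
open Cfsg.Agent.AutPSLBasic Cfsg.Agent.AutPSLGeometry Cfsg.Agent.AutPSLMain Cfsg.Agent.AutPSLApi
open Cfsg.Agent.AutPSLField Cfsg.Agent.GaloisDescentGL Cfsg.Agent.SesquiReflect Cfsg.Agent.SesquiRigid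
open scoped MatrixGroups

variable {n : ℕ} {F : Type*} [Field F]

/-- The automorphism attached to a form. -/
noncomputable def bta (σ : F ≃+* F) (P : GL (Fin n) F) : MulAut (AutPSLBasic.P n F) := cj P⁻¹ * fd σ * it

lemma bta_mul_cj (σ : F ≃+* F) (P g : GL (Fin n) F) :
    bta σ P * cj g = cj (P⁻¹ * gmap σ (glInvT g)) * fd σ * it := by
  rw [bta, mul_assoc, it_mul_cj, ← mul_assoc, mul_assoc (cj P⁻¹) (fd σ), fd_mul_cj', ← mul_assoc, ← map_mul]

lemma cj_mul_bta (σ : F ≃+* F) (P g : GL (Fin n) F) :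
    cj g * bta σ P = cj (g * P⁻¹) * fd σ * it := by
  rw [bta, ← mul_assoc, ← mul_assoc, ← map_mul]

lemma coe_gmap_glInvT (σ : F ≃+* F) (g : GL (Fin n) F) :
    (gmap σ (glInvT g) : Matrix (Fin n) (Fin n) F) = (((g⁻¹ : GL (Fin n) F) : Matrix (Fin n) (Fin n) F).map σ)ᵀ := by
  rw [coe_gmap]
  rfl

lemma B_mulVec (σ : F ≃+* F) (P g : Matrix (Fin n) (Fin n) F) (u v : Fin n → F) :
    B σ P (g *ᵥ u) (g *ᵥ v) = B σ ((g.map σ)ᵀ * P * g) u v := by
  have h : σ ∘ (g *ᵥ u) = g.map σ *ᵥ (σ ∘ u) := funext fun i => RingHom.map_mulVec (σ : F →+* F) g u i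
  rw [B, B, h, ← mulVec_mulVec, ← mulVec_mulVec, dotProduct_mulVec _ (g.map σ)ᵀ, vecMul_transpose]

lemma sigma_single (σ : F ≃+* F) (i : Fin n) : σ ∘ (Pi.single i (1 : F) : Fin n → F) = Pi.single i 1 := by
  funext j; rcases eq_or_ne j i with rfl | hj <;> simp [*]

/-- Isometries centralise the automorphism attached to their form. -/
lemma commute_of_isom (σ : F ≃+* F) (P g : GL (Fin n) F)
    (h : ∀ u v, B σ (P : Matrix (Fin n) (Fin n) F) ((g : Matrix (Fin n) (Fin n) F) *ᵥ u)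
      ((g : Matrix (Fin n) (Fin n) F) *ᵥ v) = B σ (P : Matrix (Fin n) (Fin n) F) u v) :
    Commute (cj g) (bta σ P) := by
  have hm : ((g : Matrix (Fin n) (Fin n) F).map σ)ᵀ * (P : Matrix (Fin n) (Fin n) F) * (g : Matrix (Fin n) (Fin n) F) = P := by
    ext i j
    have := h (Pi.single i 1) (Pi.single j 1)
    rw [B_mulVec, B, B, sigma_single, single_dotProduct, single_dotProduct, one_mul, one_mul, mulVec_single_one,
      mulVec_single_one] at this
    exact this
  have e : g * P⁻¹ = P⁻¹ * gmap σ (glInvT g) := by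
    rw [eq_inv_mul_iff_mul_eq, ← mul_assoc, mul_inv_eq_iff_eq_mul]
    apply Units.ext
    rw [Units.val_mul, Units.val_mul, coe_gmap_glInvT]
    have hi : (((g⁻¹ : GL (Fin n) F) : Matrix (Fin n) (Fin n) F).map σ)ᵀ * ((g : Matrix (Fin n) (Fin n) F).map σ)ᵀ = 1 := by
      rw [← transpose_mul, ← Matrix.map_mul, Units.mul_inv, Matrix.map_one _ (map_zero σ) (map_one σ), transpose_one]
    conv_rhs => rw [← hm, ← Matrix.mul_assoc, ← Matrix.mul_assoc, hi, Matrix.one_mul]
  show cj g * bta σ P = bta σ P * cj g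
  rw [cj_mul_bta, bta_mul_cj, e]

/-- The centraliser consists of similitudes. -/
lemma sim_of_commute (hn : 2 ≤ n) (σ : F ≃+* F) (P g : GL (Fin n) F) (h : Commute (cj g) (bta σ P)) :
    ∃ μ, Sim σ (P : Matrix (Fin n) (Fin n) F) g μ := by
  have e : cj g * bta σ P = bta σ P * cj g := h
  rw [cj_mul_bta, bta_mul_cj] at e
  obtain ⟨u, hu⟩ := cj_eq_cj hn (mul_right_cancel (mul_right_cancel e))
  have h1 : (g : Matrix (Fin n) (Fin n) F) * ((P⁻¹ : GL (Fin n) F) : Matrix (Fin n) (Fin n) F) =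
      (u : F) • (((P⁻¹ : GL (Fin n) F) : Matrix (Fin n) (Fin n) F) * (((g⁻¹ : GL (Fin n) F) : Matrix (Fin n) (Fin n) F).map σ)ᵀ) := by
    have := congrArg Units.val hu
    simp only [Units.val_mul, Matrix.GeneralLinearGroup.coe_scalar, scalar_apply, ← smul_one_eq_diagonal,
      Matrix.smul_mul, Matrix.one_mul, coe_gmap_glInvT] at this
    exact this
  have hi : ((g : Matrix (Fin n) (Fin n) F).map σ)ᵀ * (((g⁻¹ : GL (Fin n) F) : Matrix (Fin n) (Fin n) F).map σ)ᵀ = 1 := by
    rw [← transpose_mul, ← Matrix.map_mul, Units.inv_mul, Matrix.map_one _ (map_zero σ) (map_one σ), transpose_one]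
  refine ⟨u, u.ne_zero, fun v w => ?_⟩
  have hm : ((g : Matrix (Fin n) (Fin n) F).map σ)ᵀ * (P : Matrix (Fin n) (Fin n) F) * (g : Matrix (Fin n) (Fin n) F) =
      (u : F) • (P : Matrix (Fin n) (Fin n) F) := by
    have hg : (g : Matrix (Fin n) (Fin n) F) = (u : F) • (((P⁻¹ : GL (Fin n) F) : Matrix (Fin n) (Fin n) F) *
        (((g⁻¹ : GL (Fin n) F) : Matrix (Fin n) (Fin n) F).map σ)ᵀ) * (P : Matrix (Fin n) (Fin n) F) := by
      rw [← h1, Matrix.mul_assoc, Units.inv_mul, Matrix.mul_one]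
    conv_lhs => arg 2; rw [hg]
    simp only [Matrix.smul_mul, Matrix.mul_smul, Matrix.mul_assoc]
    rw [← Matrix.mul_assoc (P : Matrix (Fin n) (Fin n) F), Units.mul_inv, Matrix.one_mul, ← Matrix.mul_assoc, hi,
      Matrix.one_mul]
  rw [B_mulVec, hm, B, B, smul_mulVec, dotProduct_smul, smul_eq_mul]

/-- An involution in the graph coset comes from a hermitian or an alternating form. -/
lemma normal_form [Fintype F] (hn : 3 ≤ n) (a : GL (Fin n) F) (σ : F ≃+* F)
    (h : (cj a * fd σ * it : MulAut (AutPSLBasic.P n F)) * (cj a * fd σ * it) = 1) :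
    ∃ P : GL (Fin n) F, (cj a * fd σ * it : MulAut (AutPSLBasic.P n F)) = bta σ P ∧
      (Herm σ (P : Matrix (Fin n) (Fin n) F) ∨
        (σ = 1 ∧ (P : Matrix (Fin n) (Fin n) F)ᵀ = -(P : Matrix (Fin n) (Fin n) F))) := by
  classical
  have hn2 : 2 ≤ n := by omega
  have hsq : (cj a * fd σ * it : MulAut (AutPSLBasic.P n F)) * (cj a * fd σ * it) =
      cj (a * gmap σ (glInvT a)) * fd (σ * σ) := by
    calc (cj a * fd σ * it : MulAut (AutPSLBasic.P n F)) * (cj a * fd σ * it)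
        = cj a * fd σ * (it * cj a) * (fd σ * it) := by simp only [mul_assoc]
      _ = cj a * (fd σ * cj (glInvT a)) * (it * fd σ) * it := by rw [it_mul_cj]; simp only [mul_assoc]
      _ = cj a * cj (gmap σ (glInvT a)) * fd σ * (fd σ * it) * it := by
          rw [fd_mul_cj', it_mul_fd]; simp only [mul_assoc]
      _ = cj (a * gmap σ (glInvT a)) * fd (σ * σ) * (it * it) := by
          rw [map_mul cj, map_mul fd]; simp only [mul_assoc]
      _ = _ := by rw [it_mul_it, mul_one]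
  rw [hsq] at h
  obtain ⟨hc, hσ2⟩ := cj_fd_eq_one hn2 h
  obtain ⟨w, hw⟩ := (mem_center _).1 hc
  have hinv : ∀ x, σ (σ x) = x := fun x => by
    have := congrArg (fun τ : F ≃+* F => τ x) hσ2
    simpa [RingAut.mul_apply] using this
  have hA : (a : Matrix (Fin n) (Fin n) F) = (w : F) • ((a : Matrix (Fin n) (Fin n) F).map σ)ᵀ := by
    have h1 := congrArg Units.val hw
    simp only [Units.val_mul, Matrix.GeneralLinearGroup.coe_scalar, scalar_apply, ← smul_one_eq_diagonal,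
      coe_gmap_glInvT] at h1
    have hi : (((a⁻¹ : GL (Fin n) F) : Matrix (Fin n) (Fin n) F).map σ)ᵀ * ((a : Matrix (Fin n) (Fin n) F).map σ)ᵀ = 1 := by
      rw [← transpose_mul, ← Matrix.map_mul, Units.mul_inv, Matrix.map_one _ (map_zero σ) (map_one σ), transpose_one]
    have := congrArg (fun M => M * ((a : Matrix (Fin n) (Fin n) F).map σ)ᵀ) h1
    simpa only [Matrix.mul_assoc, hi, Matrix.mul_one, Matrix.smul_mul, Matrix.one_mul] using this
  set B0 : Matrix (Fin n) (Fin n) F := ((a⁻¹ : GL (Fin n) F) : Matrix (Fin n) (Fin n) F) with hB0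
  have hB : (B0.map σ)ᵀ = (w : F) • B0 := by
    have h1 : ((a : Matrix (Fin n) (Fin n) F).map σ)ᵀ * ((w : F) • B0) = 1 := by
      rw [Matrix.mul_smul, ← Matrix.smul_mul, ← hA, hB0, Units.mul_inv]
    have h2 : (B0.map σ)ᵀ * ((a : Matrix (Fin n) (Fin n) F).map σ)ᵀ = 1 := by
      rw [← transpose_mul, ← Matrix.map_mul, hB0, Units.mul_inv, Matrix.map_one _ (map_zero σ) (map_one σ), transpose_one]
    exact left_inv_eq_right_inv h2 h1
  have hww : σ (w : F) * (w : F) = 1 := by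
    have h1 : B0 = (σ (w : F) * (w : F)) • B0 := by
      have h2 := congrArg (fun M : Matrix (Fin n) (Fin n) F => (M.map σ)ᵀ) hB
      have h3 : ((B0.map σ)ᵀ.map σ)ᵀ = B0 := by ext i j; simp [hinv]
      have h4 : (((w : F) • B0).map σ)ᵀ = σ (w : F) • (B0.map σ)ᵀ := by ext i j; simp
      simp only [h3, h4] at h2
      rw [hB, smul_smul] at h2
      exact h2
    by_contra hne
    have : (1 - σ (w : F) * (w : F)) • B0 = 0 := by rw [sub_smul, one_smul, ← h1, sub_self]
    rw [smul_eq_zero] at this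
    rcases this with h5 | h5
    · exact hne (sub_eq_zero.1 h5).symm
    · haveI : Nonempty (Fin n) := ⟨⟨0, by omega⟩⟩
      exact (a⁻¹ : GL (Fin n) F).ne_zero h5
  by_cases hσ : σ = 1
  · subst hσ
    refine ⟨a⁻¹, by rw [bta, inv_inv], ?_⟩
    rcases mul_self_eq_one_iff.1 (show (w : F) * (w : F) = 1 from hww) with h1 | h1
    · exact Or.inl ⟨hinv, by rw [← hB0, hB, h1, one_smul], ((Matrix.isUnit_iff_isUnit_det _).1 (a⁻¹).isUnit).ne_zero⟩
    · refine Or.inr ⟨rfl, ?_⟩
      rw [h1, neg_one_smul] at hB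
      exact hB
  · haveI : Fact (Nat.Prime 2) := ⟨Nat.prime_two⟩
    have hord : orderOf σ = 2 := orderOf_eq_prime (by rw [pow_two]; exact hσ2) hσ
    obtain ⟨y, hy⟩ := hilbert90_units σ w (by
      apply Units.ext
      simp only [unorm, MonoidHom.coe_mk, OneHom.coe_mk, hord, Finset.prod_range_succ, Finset.prod_range_zero,
        one_mul, Units.val_mul, Units.coe_map, Units.val_one]
      rw [← hww, mul_comm]
      simp)
    have hy' : (w : F) * σ (y : F) = y := by
      have e := congrArg (fun z : Fˣ => (z : F) * σ (y : F)) hy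
      simpa [mul_assoc] using e
    refine ⟨Matrix.GeneralLinearGroup.scalar (Fin n) y * a⁻¹, ?_, Or.inl ⟨hinv, ?_, ?_⟩⟩
    · rw [bta, _root_.mul_inv_rev, inv_inv, map_mul, ← map_inv, cj_scalar hn2, mul_one]
    · have hP : ((Matrix.GeneralLinearGroup.scalar (Fin n) y * a⁻¹ : GL (Fin n) F) : Matrix (Fin n) (Fin n) F) =
          (y : F) • B0 := by
        simp [Matrix.GeneralLinearGroup.coe_scalar, ← smul_one_eq_diagonal, Matrix.smul_mul, hB0]
      have h4 : (((y : F) • B0).map σ)ᵀ = σ (y : F) • (B0.map σ)ᵀ := by ext i j; simp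
      rw [hP, h4, hB, smul_smul, mul_comm (σ (y : F)), hy']
    · exact ((Matrix.isUnit_iff_isUnit_det _).1
        (Matrix.GeneralLinearGroup.scalar (Fin n) y * a⁻¹).isUnit).ne_zero

variable [Fintype F]

/-- The inner automorphisms centralising `bta σ P`. -/
noncomputable def LL (σ : F ≃+* F) (P : GL (Fin n) F) : Subgroup (MulAut (AutPSLBasic.P n F)) :=
  Cfsg.Inn (AutPSLBasic.P n F) ⊓ Subgroup.centralizer {bta σ P}

lemma cj_mem_inn (g : GL (Fin n) F) (h : (g : Matrix (Fin n) (Fin n) F).det = 1) :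
    (cj g : MulAut (AutPSLBasic.P n F)) ∈ Cfsg.Inn (AutPSLBasic.P n F) :=
  ⟨QuotientGroup.mk (⟨(g : Matrix (Fin n) (Fin n) F), h⟩ : Matrix.SpecialLinearGroup (Fin n) F),
    (conj_mk _).trans (congrArg cj (Units.ext rfl))⟩

lemma mem_LL (σ : F ≃+* F) (P g : GL (Fin n) F) (hd : (g : Matrix (Fin n) (Fin n) F).det = 1)
    (h : ∀ u v, B σ (P : Matrix (Fin n) (Fin n) F) ((g : Matrix (Fin n) (Fin n) F) *ᵥ u)
      ((g : Matrix (Fin n) (Fin n) F) *ᵥ v) = B σ (P : Matrix (Fin n) (Fin n) F) u v) :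
    cj g ∈ LL σ P :=
  ⟨cj_mem_inn g hd, Subgroup.mem_centralizer_singleton_iff.2 (commute_of_isom σ P g h).eq⟩

lemma conj_LL (σ : F ≃+* F) (P : GL (Fin n) F) (w : MulAut (AutPSLBasic.P n F))
    (hw : w ∈ Subgroup.centralizer {bta σ P}) (l : MulAut (AutPSLBasic.P n F)) :
    l ∈ LL σ P ↔ w * l * w⁻¹ ∈ LL σ P := by
  constructor
  · intro hl
    exact ⟨Subgroup.Normal.conj_mem inferInstance l hl.1 w,
      Subgroup.mul_mem _ (Subgroup.mul_mem _ hw hl.2) (Subgroup.inv_mem _ hw)⟩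
  · intro hl
    have e : l = w⁻¹ * (w * l * w⁻¹) * w⁻¹⁻¹ := by group
    rw [e]
    exact ⟨Subgroup.Normal.conj_mem inferInstance _ hl.1 _,
      Subgroup.mul_mem _ (Subgroup.mul_mem _ (Subgroup.inv_mem _ hw) hl.2) (by rw [inv_inv]; exact hw)⟩

variable {σ : F ≃+* F} {P : GL (Fin n) F}

lemma refl_mem_centralizer (H : Herm σ (P : Matrix (Fin n) (Fin n) F)) {a : Fin n → F}
    (ha : B σ (P : Matrix (Fin n) (Fin n) F) a a ≠ 0) :
    cj (refl σ (P : Matrix (Fin n) (Fin n) F) a ha) ∈ Subgroup.centralizer {bta σ P} :=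
  Subgroup.mem_centralizer_singleton_iff.2 (commute_of_isom σ P _ (refl_isom H ha)).eq

/-- The odd core of the inner centraliser, hermitian and symmetric case. -/
theorem core_LL_herm (hn : 3 ≤ n) (h2 : (2 : F) ≠ 0) (H : Herm σ (P : Matrix (Fin n) (Fin n) F)) :
    Cfsg.pPrimeCore 2 (LL σ P) = ⊥ := by
  classical
  have hn2 : 2 ≤ n := by omega
  haveI : Finite (MulAut (AutPSLBasic.P n F)) :=
    Finite.of_injective (fun α => (α : AutPSLBasic.P n F → AutPSLBasic.P n F)) DFunLike.coe_injective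
  set Pm : Matrix (Fin n) (Fin n) F := (P : Matrix (Fin n) (Fin n) F) with hPm
  set R := (Cfsg.pPrimeCore 2 (LL σ P)).map (LL σ P).subtype with hR
  obtain ⟨hRL, hRcard, -⟩ := BalanceCriterion.core_props 2 (LL σ P)
  have hconj : ∀ a (ha : B σ Pm a a ≠ 0), ∀ x ∈ R, cj (refl σ Pm a ha) * x * (cj (refl σ Pm a ha))⁻¹ ∈ R :=
    fun a ha x hx => BalanceCriterion.conj_core_mem 2 _ _ (conj_LL σ P _ (refl_mem_centralizer H ha)) hx
  have hrep : ∀ x ∈ R, ∃ g μ, x = cj g ∧ Sim σ Pm g μ := by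
    intro x hx
    obtain ⟨k, hk⟩ := (hRL hx).1
    obtain ⟨t, rfl⟩ := QuotientGroup.mk_surjective k
    have e : x = cj (Matrix.SpecialLinearGroup.toGL t) := hk.symm.trans (conj_mk t)
    obtain ⟨μ, hμ⟩ := sim_of_commute hn2 σ P _ (show Commute (cj (Matrix.SpecialLinearGroup.toGL t)) (bta σ P) by
      rw [← e]; exact Subgroup.mem_centralizer_singleton_iff.1 (hRL hx).2)
    exact ⟨_, μ, e, hμ⟩
  have hne : ∀ g μ, cj g ∈ R → Sim σ Pm g μ → ∀ a, B σ Pm a a ≠ 0 →
      B σ Pm a ((g : Matrix (Fin n) (Fin n) F) *ᵥ a) ≠ 0 := by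
    intro g μ hgR hg a ha horth
    set b := (g : Matrix (Fin n) (Fin n) F) *ᵥ a
    have hb := hg.aniso ha
    have hmem : cj g * (cj (refl σ Pm a ha) * (cj g)⁻¹ * (cj (refl σ Pm a ha))⁻¹) ∈ R :=
      mul_mem hgR (hconj a ha _ (inv_mem hgR))
    have hinv : (refl σ Pm a ha)⁻¹ = refl σ Pm a ha := inv_eq_of_mul_eq_one_right (refl_mul_self ha)
    have hmem' : cj (refl σ Pm b hb * refl σ Pm a ha) ∈ R := by
      have e : g * (refl σ Pm a ha * g⁻¹ * (refl σ Pm a ha)⁻¹) = refl σ Pm b hb * refl σ Pm a ha := by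
        rw [← mul_assoc, ← mul_assoc, refl_conj hg ha, hinv, mul_inv_cancel_right]
      rw [← e]
      simp only [map_mul, map_inv]
      exact hmem
    have hsq : (refl σ Pm b hb * refl σ Pm a ha) * (refl σ Pm b hb * refl σ Pm a ha) = 1 := by
      rw [mul_assoc, ← mul_assoc (refl σ Pm a ha), refl_comm H ha hb horth, mul_assoc (refl σ Pm b hb),
        refl_mul_self, mul_one, refl_mul_self]
    have h1 : (cj (refl σ Pm b hb * refl σ Pm a ha) : MulAut (AutPSLBasic.P n F)) = 1 :=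
      BalanceCriterion.eq_one_of_coprime _ 2 (by rw [pow_two, ← map_mul, hsq, map_one]) hmem' hRcard
    obtain ⟨u, hu⟩ := (mem_center _).1 ((cj_eq_one_iff hn2 _).1 h1)
    exact refl_mul_not_scalar H h2 hn ha hb horth u hu
  rw [Subgroup.eq_bot_iff_forall]
  rintro ⟨x, hx⟩ hx'
  have hxR : x ∈ R := ⟨_, hx', rfl⟩
  obtain ⟨g, μ, rfl, hg⟩ := hrep x hxR
  have hfix : ∀ a, B σ Pm a a ≠ 0 → ∃ l : F, psi g 1 a = l • a := by
    by_cases hcase : σ = 1 ∧ n = 3
    · obtain ⟨rfl, hn3⟩ := hcase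
      exact three_fix hn3 H h2 hg (hne g μ hxR hg)
    · intro a ha
      by_contra hno
      push Not at hno
      set b := (g : Matrix (Fin n) (Fin n) F) *ᵥ a
      have hb := hg.aniso ha
      obtain ⟨w, hw, haw, hsep⟩ := exists_separating H h2 hn
        (fun h => by
          rcases eq_or_lt_of_le hn with e | e
          · exact absurd ⟨h, e.symm⟩ hcase
          · exact e) ha hb hno
      set s := refl σ Pm w hw
      have hz : cj ((s * g * s⁻¹)⁻¹ * g) ∈ R := by
        simp only [map_mul, map_inv]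
        exact mul_mem (inv_mem (hconj w hw _ hxR)) hxR
      obtain ⟨ν, hν⟩ := sim_of_commute hn2 σ P ((s * g * s⁻¹)⁻¹ * g)
        (Subgroup.mem_centralizer_singleton_iff.1 (hRL hz).2)
      refine hne _ ν hz hν a ha ?_
      set v := (((s * g * s⁻¹)⁻¹ * g : GL (Fin n) F) : Matrix (Fin n) (Fin n) F) *ᵥ a
      have hv : ((s * g * s⁻¹ : GL (Fin n) F) : Matrix (Fin n) (Fin n) F) *ᵥ v = b := by
        rw [mulVec_mulVec, ← Units.val_mul, mul_inv_cancel_left]
      rw [inv_eq_of_mul_eq_one_right (refl_mul_self hw), Units.val_mul, Units.val_mul, ← mulVec_mulVec,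
        ← mulVec_mulVec] at hv
      have hgv := congrArg (fun t => (s : Matrix (Fin n) (Fin n) F) *ᵥ t) hv
      simp only [s, refl_invol hw] at hgv
      have h3 := hg.2 a ((refl σ Pm w hw : Matrix (Fin n) (Fin n) F) *ᵥ v)
      rw [hgv, hsep, eq_comm, mul_eq_zero] at h3
      have h4 := h3.resolve_left hg.1
      rw [← refl_isom H hw a v, refl_orth hw (H.symm_zero haw)]
      exact h4
  exact Subtype.ext ((cj_eq_one_iff hn2 g).2 (eq_one_of_fix H h2 hn hfix).1)

/-- The odd core of the inner centraliser, alternating case. -/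
theorem core_LL_alt {P : GL (Fin n) F} (hn : 3 ≤ n) (h2 : (2 : F) ≠ 0)
    (hP : (P : Matrix (Fin n) (Fin n) F)ᵀ = -(P : Matrix (Fin n) (Fin n) F)) :
    Cfsg.pPrimeCore 2 (LL (1 : F ≃+* F) P) = ⊥ := by
  classical
  have hn2 : 2 ≤ n := by omega
  haveI : Finite (MulAut (AutPSLBasic.P n F)) :=
    Finite.of_injective (fun α => (α : AutPSLBasic.P n F → AutPSLBasic.P n F)) DFunLike.coe_injective
  set Pm : Matrix (Fin n) (Fin n) F := (P : Matrix (Fin n) (Fin n) F) with hPm
  have hdet : Pm.det ≠ 0 := ((Matrix.isUnit_iff_isUnit_det _).1 P.isUnit).ne_zero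
  obtain ⟨m, hm, T, T', h1, h1', hA⟩ := FormCongruence.classify_alt (A := Pm)
    (fun v => by rw [dotProduct_mulVec]; exact alt_self h2 hP v) hdet
  have hm2 : 2 ≤ m := by omega
  let φ : AutPSpBasic.Sp m F →* MulAut (AutPSLBasic.P n F) :=
    cj.comp ((AutPSLGraph.conjHom T T' h1 h1').comp
      (MonoidHom.toHomUnits (Matrix.symplecticGroup (Fin m) F).subtype))
  have hφ : ∀ s : AutPSpBasic.Sp m F, φ s = cj (AutPSLGraph.conjHom T T' h1 h1'
      (MonoidHom.toHomUnits (Matrix.symplecticGroup (Fin m) F).subtype s)) := fun s => rfl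
  have hA' : Pm = Tᵀ * ((1 : F) • Matrix.J (Fin m) F) * T := by rw [one_smul]; exact hA
  have hB : ∀ u v, B (1 : F ≃+* F) Pm u v = u ⬝ᵥ (Pm *ᵥ v) := fun u v => rfl
  have hmap1 : ∀ M : Matrix (Fin n) (Fin n) F, M.map (1 : F ≃+* F) = M := fun M => by ext i j; rfl
  have hisom_sp : ∀ g : GL (Fin n) F, (∀ u v, B (1 : F ≃+* F) Pm ((g : Matrix (Fin n) (Fin n) F) *ᵥ u)
      ((g : Matrix (Fin n) (Fin n) F) *ᵥ v) = B (1 : F ≃+* F) Pm u v) → cj g ∈ φ.range := by
    intro g hg
    obtain ⟨x, rfl⟩ := AutPSLGraph.conjHom_surjective T T' h1 h1' g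
    set G := ((AutPSLGraph.conjHom T T' h1 h1' x : GL (Fin n) F) : Matrix (Fin n) (Fin n) F)
    have hm' : Gᵀ * Pm * G = (1 : F) • Pm := by
      rw [one_smul]
      ext i j
      have := hg (Pi.single i 1) (Pi.single j 1)
      rw [B_mulVec, B, B, sigma_single, single_dotProduct, single_dotProduct, one_mul, one_mul, mulVec_single_one,
        mulVec_single_one, hmap1] at this
      exact this
    have hx := (AutPSLGraph.sim_conjHom (A := P) (N := Matrix.J (Fin m) F) T T' h1 h1' one_ne_zero hA' x 1).1 hm'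
    rw [one_smul] at hx
    exact ⟨⟨(x : Matrix (Fin m ⊕ Fin m) (Fin m ⊕ Fin m) F), SymplecticGroup.mem_iff'.2 hx⟩, by
      rw [hφ]; congr 2; exact Units.ext rfl⟩
  set R := (Cfsg.pPrimeCore 2 (LL (1 : F ≃+* F) P)).map (LL (1 : F ≃+* F) P).subtype with hR
  obtain ⟨hRL, hRcard, hRconj⟩ := BalanceCriterion.core_props 2 (LL (1 : F ≃+* F) P)
  have hrange : ∀ s, φ s ∈ Subgroup.centralizer {bta (1 : F ≃+* F) P} := by
    intro s
    refine Subgroup.mem_centralizer_singleton_iff.2 (commute_of_isom _ P _ fun u v => ?_).eq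
    rw [B_mulVec]
    congr 1
    rw [hmap1]
    have := (AutPSLGraph.sim_conjHom (A := P) (N := Matrix.J (Fin m) F) T T' h1 h1' one_ne_zero hA'
      (MonoidHom.toHomUnits (Matrix.symplecticGroup (Fin m) F).subtype s) 1).2 (by
        rw [one_smul]; exact SymplecticGroup.mem_iff'.1 s.2)
    rwa [one_smul] at this
  haveI : (R.comap φ).Normal := ⟨fun a ha b => by
    show φ (b * a * b⁻¹) ∈ R
    rw [map_mul, map_mul, map_inv]
    exact BalanceCriterion.conj_core_mem 2 _ _ (conj_LL _ P _ (hrange b)) ha⟩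
  have hcenter : R.comap φ ≤ Subgroup.center (AutPSpBasic.Sp m F) := by
    haveI := SymplecticSimple.psp_simple (F := F) m hm2 (fun _ => by
      have h3 := Fintype.one_lt_card (α := F)
      by_contra h4
      have h5 : Fintype.card F = 2 := by omega
      haveI : CharP F 2 := charP_of_card_eq_prime (R := F) h5
      exact h2 CharTwo.two_eq_zero)
    let q := QuotientGroup.mk' (Subgroup.center (AutPSpBasic.Sp m F))
    haveI : ((R.comap φ).map q).Normal := Subgroup.Normal.map inferInstance _ (QuotientGroup.mk'_surjective _)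
    rcases IsSimpleGroup.eq_bot_or_eq_top_of_normal ((R.comap φ).map q) inferInstance with h | h
    · intro s hs
      exact (QuotientGroup.eq_one_iff s).1 ((Subgroup.eq_bot_iff_forall _).1 h _ ⟨s, hs, rfl⟩)
    · exfalso
      let j : AutPSpBasic.Sp m F := ⟨Matrix.J (Fin m) F, SymplecticGroup.J_mem (Fin m) F⟩
      obtain ⟨s, hs, hsj⟩ : q j ∈ (R.comap φ).map q := by rw [h]; trivial
      have hker : ∀ z ∈ Subgroup.center (AutPSpBasic.Sp m F), φ z = 1 := by
        intro z hz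
        obtain ⟨c, -, hc⟩ := (SymplecticSimple.mem_center_iff (by omega)).1 hz
        have hzmat : (z : Matrix (Fin m ⊕ Fin m) (Fin m ⊕ Fin m) F) = c • 1 := Matrix.ext_of_mulVec_single fun i => by
          rw [smul_mulVec, one_mulVec]
          exact hc (Pi.single i 1)
        rw [hφ, AutPSLGraph.conjHom_center hn2, Cfsg.Geo.mem_scalars_iff]
        have hc0 : c ≠ 0 := by
          intro e
          haveI : Nonempty (Fin m ⊕ Fin m) := ⟨.inl ⟨0, by omega⟩⟩
          rw [e, zero_smul] at hzmat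
          exact (MonoidHom.toHomUnits (Matrix.symplecticGroup (Fin m) F).subtype z).ne_zero hzmat
        exact ⟨Units.mk0 c hc0, hzmat⟩
      have hjR : φ j ∈ R := by
        have hz : s⁻¹ * j ∈ Subgroup.center (AutPSpBasic.Sp m F) := QuotientGroup.eq.1 hsj
        have : φ j = φ s := by
          rw [← mul_inv_cancel_left s j, map_mul, hker _ hz, mul_one]
        rw [this]; exact hs
      have hjj : φ j = 1 := by
        refine BalanceCriterion.eq_one_of_coprime _ 2 ?_ hjR hRcard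
        rw [pow_two, ← map_mul]
        refine hker _ (SymplecticSimple.mem_center_of_scalar (a := (-1 : F)) fun v => ?_)
        show (Matrix.J (Fin m) F * Matrix.J (Fin m) F) *ᵥ v = _
        rw [Matrix.J_squared, neg_mulVec, one_mulVec, neg_one_smul]
      rw [hφ, AutPSLGraph.conjHom_center hn2, Cfsg.Geo.mem_scalars_iff] at hjj
      obtain ⟨c, hc⟩ := hjj
      have e := congrFun (congrFun hc (.inl ⟨0, by omega⟩)) (.inr ⟨0, by omega⟩)
      simp [j, Matrix.J] at e
  have hcR : ∀ s, φ s ∈ R → φ s = 1 := by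
    intro s hs
    obtain ⟨c, -, hc⟩ := (SymplecticSimple.mem_center_iff (by omega)).1 (hcenter hs)
    refine BalanceCriterion.eq_one_of_coprime _ 2 ?_ hs hRcard
    rw [pow_two, ← map_mul]
    have hzmat : (s : Matrix (Fin m ⊕ Fin m) (Fin m ⊕ Fin m) F) = c • 1 := Matrix.ext_of_mulVec_single fun i => by
      rw [smul_mulVec, one_mulVec]
      exact hc (Pi.single i 1)
    rw [hφ, AutPSLGraph.conjHom_center hn2, Cfsg.Geo.mem_scalars_iff]
    have hc0 : c ≠ 0 := by
      intro e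
      haveI : Nonempty (Fin m ⊕ Fin m) := ⟨.inl ⟨0, by omega⟩⟩
      rw [e, zero_smul] at hzmat
      exact (MonoidHom.toHomUnits (Matrix.symplecticGroup (Fin m) F).subtype s).ne_zero hzmat
    refine ⟨Units.mk0 (c * c) (mul_ne_zero hc0 hc0), ?_⟩
    show (s : Matrix (Fin m ⊕ Fin m) (Fin m ⊕ Fin m) F) * (s : Matrix (Fin m ⊕ Fin m) (Fin m ⊕ Fin m) F) = _
    rw [hzmat, Matrix.smul_mul, Matrix.one_mul, smul_smul]
    rfl
  rw [Subgroup.eq_bot_iff_forall]
  rintro ⟨x, hx⟩ hx'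
  have hxR : x ∈ R := ⟨_, hx', rfl⟩
  obtain ⟨k, hk⟩ := hx.1
  obtain ⟨t, rfl⟩ := QuotientGroup.mk_surjective k
  obtain rfl : x = cj (Matrix.SpecialLinearGroup.toGL t) := hk.symm.trans (conj_mk t)
  set g := Matrix.SpecialLinearGroup.toGL t
  obtain ⟨μ, hg⟩ := sim_of_commute hn2 (1 : F ≃+* F) P g (Subgroup.mem_centralizer_singleton_iff.1 hx.2)
  suffices hg1 : g ∈ Subgroup.center (GL (Fin n) F) from Subtype.ext ((cj_eq_one_iff hn2 g).2 hg1)
  have htalt : ∀ v u w, B (1 : F ≃+* F) Pm ((talt Pm v : Matrix (Fin n) (Fin n) F) *ᵥ u)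
      ((talt Pm v : Matrix (Fin n) (Fin n) F) *ᵥ w) = B (1 : F ≃+* F) Pm u w := by
    intro v u w
    rw [talt_mulVec h2 hP, talt_mulVec h2 hP]
    simp only [B_add_left, B_add_right, B_smul_left, B_smul_right, RingAut.one_apply]
    have e1 : B (1 : F ≃+* F) Pm v v = 0 := by rw [hB, dotProduct_mulVec]; exact alt_self h2 hP v
    have e2 : B (1 : F ≃+* F) Pm u v = -((v ᵥ* Pm) ⬝ᵥ u) := by
      rw [hB, ← dotProduct_mulVec, dotProduct_mulVec u, ← mulVec_transpose, hP, neg_mulVec, neg_dotProduct,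
        dotProduct_comm]
    have e3 : B (1 : F ≃+* F) Pm v w = (v ᵥ* Pm) ⬝ᵥ w := by rw [hB, dotProduct_mulVec]
    rw [e1, e2, e3]
    ring
  refine (eq_one_of_centralises_alt (g := g) (τ := 1) h2 hn2 hP hdet fun v => ⟨1, fun u => ?_⟩).1
  set t' : GL (Fin n) F := Matrix.SpecialLinearGroup.toGL (talt Pm v)
  have ht : cj t' ∈ φ.range := hisom_sp t' (htalt v)
  have hgt : cj (g * t' * g⁻¹) ∈ φ.range := by
    refine hisom_sp _ fun u w => ?_
    have hinv : ∀ u w, B (1 : F ≃+* F) Pm (((g⁻¹ : GL (Fin n) F) : Matrix (Fin n) (Fin n) F) *ᵥ u)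
        (((g⁻¹ : GL (Fin n) F) : Matrix (Fin n) (Fin n) F) *ᵥ w) * μ = B (1 : F ≃+* F) Pm u w := fun u w => by
      rw [mul_comm, ← hg.2, mulVec_mulVec, mulVec_mulVec, Units.mul_inv, one_mulVec, one_mulVec]
    rw [Units.val_mul, Units.val_mul, ← mulVec_mulVec, ← mulVec_mulVec, ← mulVec_mulVec, ← mulVec_mulVec, hg.2]
    erw [htalt v]
    rw [mul_comm, hinv]
  obtain ⟨s, hs⟩ : cj (g * t' * g⁻¹ * t'⁻¹) ∈ φ.range := by
    rw [map_mul, map_inv]
    exact mul_mem hgt (inv_mem ht)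
  have hyR : φ s ∈ R := by
    rw [hs]
    have e : g * t' * g⁻¹ * t'⁻¹ = g * (t' * g⁻¹ * t'⁻¹) := by group
    rw [e]
    simp only [map_mul, map_inv]
    refine mul_mem hxR (BalanceCriterion.conj_core_mem 2 _ _ (conj_LL _ P _ ?_) (inv_mem hxR))
    obtain ⟨s', hs'⟩ := ht
    exact hs' ▸ hrange s'
  have h1y := hcR s hyR
  rw [hs, cj_eq_one_iff hn2] at h1y
  obtain ⟨c, hc⟩ := (mem_center _).1 h1y
  have hgl : g * t' = Matrix.GeneralLinearGroup.scalar (Fin n) c * (t' * g) := by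
    rw [← hc]; group
  have hcv : ∀ z, (g : Matrix (Fin n) (Fin n) F) *ᵥ ((talt Pm v : Matrix (Fin n) (Fin n) F) *ᵥ z) =
      (c : F) • ((talt Pm v : Matrix (Fin n) (Fin n) F) *ᵥ ((g : Matrix (Fin n) (Fin n) F) *ᵥ z)) := by
    intro z
    have := congrArg (fun M : GL (Fin n) F => (M : Matrix (Fin n) (Fin n) F) *ᵥ z) hgl
    simp only [Units.val_mul, ← mulVec_mulVec, Matrix.GeneralLinearGroup.coe_scalar, scalar_apply,
      ← smul_one_eq_diagonal, smul_mulVec, one_mulVec] at this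
    exact this
  have hc1 : (c : F) = 1 := by
    rcases eq_or_ne v 0 with rfl | hv
    · have h0 : ∀ z, (talt Pm (0 : Fin n → F) : Matrix (Fin n) (Fin n) F) *ᵥ z = z := fun z => by
        rw [talt_mulVec h2 hP, smul_zero, add_zero]
      have hz := hcv (Pi.single ⟨0, by omega⟩ 1)
      rw [h0, h0] at hz
      have hne : (g : Matrix (Fin n) (Fin n) F) *ᵥ (Pi.single (⟨0, by omega⟩ : Fin n) (1 : F)) ≠ 0 := fun e => by
        have := congrFun (gl_mulVec_eq_zero e) ⟨0, by omega⟩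
        simp at this
      exact (smul_left_injective F hne (by simpa using hz)).symm
    · by_contra hne
      have e := hcv v
      have hself : (talt Pm v : Matrix (Fin n) (Fin n) F) *ᵥ v = v := by
        rw [talt_mulVec h2 hP, alt_self h2 hP, zero_smul, add_zero]
      rw [hself, talt_mulVec h2 hP] at e
      set G := (g : Matrix (Fin n) (Fin n) F) *ᵥ v
      set k := (v ᵥ* Pm) ⬝ᵥ G with hk
      have hG : G = ((c : F) * k / (1 - (c : F))) • v := by
        apply smul_right_injective _ (sub_ne_zero.2 (Ne.symm hne))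
        show (1 - (c : F)) • G = (1 - (c : F)) • (((c : F) * k / (1 - (c : F))) • v)
        rw [smul_smul, mul_div_cancel₀ _ (sub_ne_zero.2 (Ne.symm hne))]
        linear_combination (norm := module) e
      have hk0 : k = 0 := by rw [hk, hG, dotProduct_smul, alt_self h2 hP, smul_zero]
      rw [hk0, mul_zero, zero_div, zero_smul] at hG
      exact hv (gl_mulVec_eq_zero hG)
  rw [one_smul]
  show (g : Matrix (Fin n) (Fin n) F) *ᵥ ((talt Pm v : Matrix (Fin n) (Fin n) F) *ᵥ u) = _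
  rw [hcv, hc1, one_smul]
  rfl

/-- The centraliser of the inner centraliser. -/
theorem centralizer_LL (hn : 3 ≤ n) (h2 : (2 : F) ≠ 0)
    (hform : Herm σ (P : Matrix (Fin n) (Fin n) F) ∨
      (σ = 1 ∧ (P : Matrix (Fin n) (Fin n) F)ᵀ = -(P : Matrix (Fin n) (Fin n) F)))
    (w : MulAut (AutPSLBasic.P n F)) (hw : ∀ l ∈ LL σ P, Commute w l) : w ∈ Subgroup.zpowers (bta σ P) := by
  have hn2 : 2 ≤ n := by omega
  have key : ∀ (g : GL (Fin n) F) (τ : F ≃+* F), (∀ l ∈ LL σ P, Commute (cj g * fd τ) l) →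
      (cj g * fd τ : MulAut (AutPSLBasic.P n F)) = 1 := by
    intro g τ hc
    have hpsi : ∀ s : GL (Fin n) F, cj s ∈ LL σ P → ∃ c : F, ∀ v,
        psi g τ ((s : Matrix (Fin n) (Fin n) F) *ᵥ v) = c • ((s : Matrix (Fin n) (Fin n) F) *ᵥ psi g τ v) := by
      intro s hs
      have e := (hc _ hs).eq
      rw [mul_assoc, fd_mul_cj', ← mul_assoc, ← map_mul, ← mul_assoc, ← map_mul] at e
      obtain ⟨u, hu⟩ := cj_eq_cj hn2 (mul_right_cancel e)
      refine ⟨u, fun v => ?_⟩
      have := congrArg (fun M : GL (Fin n) F => (M : Matrix (Fin n) (Fin n) F) *ᵥ (τ ∘ v)) hu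
      simp only [Units.val_mul, ← mulVec_mulVec, Matrix.GeneralLinearGroup.coe_scalar, scalar_apply,
        ← smul_one_eq_diagonal, smul_mulVec, one_mulVec, coe_gmap] at this
      rw [psi, psi, ← this]
      congr 1
      exact funext fun i => RingHom.map_mulVec (τ : F →+* F) _ v i
    suffices hh : g ∈ Subgroup.center (GL (Fin n) F) ∧ τ = 1 by
      rw [(cj_eq_one_iff hn2 g).2 hh.1, hh.2, map_one, mul_one]
    rcases hform with H | ⟨rfl, hP⟩
    · refine eq_one_of_centralises H h2 hn fun a b ha hb => ?_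
      obtain ⟨c, hc'⟩ := hpsi (refl σ (P : Matrix (Fin n) (Fin n) F) a ha * refl σ (P : Matrix (Fin n) (Fin n) F) b hb)
        (mem_LL σ P _ (by
          rw [Units.val_mul, det_mul,
            show (refl σ (P : Matrix (Fin n) (Fin n) F) a ha : Matrix (Fin n) (Fin n) F).det = -1 from det_rmat ha,
            show (refl σ (P : Matrix (Fin n) (Fin n) F) b hb : Matrix (Fin n) (Fin n) F).det = -1 from det_rmat hb]
          ring) fun u v => by
          rw [Units.val_mul, ← mulVec_mulVec, ← mulVec_mulVec, refl_isom H ha, refl_isom H hb])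
      refine ⟨c, fun v => ?_⟩
      have := hc' v
      simp only [Units.val_mul, ← mulVec_mulVec] at this
      exact this
    · refine eq_one_of_centralises_alt h2 hn2 hP ((Matrix.isUnit_iff_isUnit_det _).1 P.isUnit).ne_zero fun v => ?_
      refine hpsi (Matrix.SpecialLinearGroup.toGL (talt (P : Matrix (Fin n) (Fin n) F) v))
        (mem_LL _ P _ (talt (P : Matrix (Fin n) (Fin n) F) v).det_coe fun u w => ?_)
      show B _ _ ((talt (P : Matrix (Fin n) (Fin n) F) v : Matrix (Fin n) (Fin n) F) *ᵥ u)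
        ((talt (P : Matrix (Fin n) (Fin n) F) v : Matrix (Fin n) (Fin n) F) *ᵥ w) = _
      rw [talt_mulVec h2 hP, talt_mulVec h2 hP]
      simp only [B_add_left, B_add_right, B_smul_left, B_smul_right, RingAut.one_apply]
      have hB : ∀ u v, B (1 : F ≃+* F) (P : Matrix (Fin n) (Fin n) F) u v = u ⬝ᵥ ((P : Matrix (Fin n) (Fin n) F) *ᵥ v) :=
        fun u v => rfl
      have e1 : B (1 : F ≃+* F) (P : Matrix (Fin n) (Fin n) F) v v = 0 := by
        rw [hB, dotProduct_mulVec]; exact alt_self h2 hP v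
      have e2 : B (1 : F ≃+* F) (P : Matrix (Fin n) (Fin n) F) u v = -((v ᵥ* (P : Matrix (Fin n) (Fin n) F)) ⬝ᵥ u) := by
        rw [hB, ← dotProduct_mulVec, dotProduct_mulVec u, ← mulVec_transpose, hP, neg_mulVec, neg_dotProduct,
          dotProduct_comm]
      have e3 : B (1 : F ≃+* F) (P : Matrix (Fin n) (Fin n) F) v w = (v ᵥ* (P : Matrix (Fin n) (Fin n) F)) ⬝ᵥ w := by
        rw [hB, dotProduct_mulVec]
      rw [e1, e2, e3]
      ring
  obtain ⟨g, τ, rfl | ⟨-, rfl⟩⟩ := aut_decomp hn2 w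
  · rw [key g τ hw]; exact one_mem _
  · have e : (cj g * fd τ * it : MulAut (AutPSLBasic.P n F)) * bta σ P =
        cj (g * gmap τ (glInvT P⁻¹)) * fd (τ * σ) := by
      calc (cj g * fd τ * it : MulAut (AutPSLBasic.P n F)) * bta σ P
          = cj g * fd τ * (it * cj P⁻¹) * (fd σ * it) := by rw [bta]; simp only [mul_assoc]
        _ = cj g * (fd τ * cj (glInvT P⁻¹)) * (it * fd σ) * it := by rw [it_mul_cj]; simp only [mul_assoc]
        _ = cj (g * gmap τ (glInvT P⁻¹)) * fd τ * fd σ * (it * it) := by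
            rw [fd_mul_cj', it_mul_fd, map_mul cj]; simp only [mul_assoc]
        _ = _ := by rw [it_mul_it, mul_one, mul_assoc, ← map_mul]
    have h1 := key _ _ fun l hl => e ▸ (hw l hl).mul_left (Subgroup.mem_centralizer_singleton_iff.1 hl.2).symm
    rw [← e, mul_eq_one_iff_eq_inv] at h1
    rw [h1]
    exact inv_mem (Subgroup.mem_zpowers _)

/-- The criterion for involutions in the graph coset. -/
theorem balance (hn : 3 ≤ n) (h2 : (2 : F) ≠ 0) (a : GL (Fin n) F) (σ : F ≃+* F)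
    (hord : orderOf (cj a * fd σ * it : MulAut (AutPSLBasic.P n F)) = 2)
    (A : Subgroup (MulAut (AutPSLBasic.P n F))) (hinn : ∀ k : AutPSLBasic.P n F, MulAut.conj k ∈ A) :
    Cfsg.pPrimeCore 2 ↥(A ⊓ Subgroup.centralizer {(cj a * fd σ * it : MulAut (AutPSLBasic.P n F))}) = ⊥ := by
  haveI : Finite (MulAut (AutPSLBasic.P n F)) :=
    Finite.of_injective (fun α => (α : AutPSLBasic.P n F → AutPSLBasic.P n F)) DFunLike.coe_injective
  obtain ⟨P, hP, hform⟩ := normal_form hn a σ (by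
    rw [← pow_two, ← hord, pow_orderOf_eq_one])
  rw [hP] at hord ⊢
  refine BalanceCriterion.core_eq_bot _ (LL σ P) _ hord ?_ ?_ ?_ ?_
  · rintro l ⟨⟨k, hk⟩, hl⟩
    exact ⟨hk ▸ hinn k, hl⟩
  · exact fun w hw l hl => (conj_LL σ P w hw.2 l).1 hl
  · rcases hform with H | ⟨rfl, hP'⟩
    · exact core_LL_herm hn h2 H
    · exact core_LL_alt hn h2 hP'
  · exact fun w _ hw => centralizer_LL hn h2 hform w hw

end Cfsg.Agent.AutPSLGraphBalance
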