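import Mathlib
import Cfsg.Prelude.Def_LieTypeDatum
import Cfsg.Agent.Lib.AutPSLBasic
import Cfsg.Agent.Lib.AutPSLMain
import Cfsg.Agent.Lib.AutPSLGraph
import Cfsg.Agent.Lib.FormCongruence
import Cfsg.Agent.Lib.SymplecticBasic
import Cfsg.Agent.Lib.SymplecticOrder
import Cfsg.Agent.Lib.OrthUnitaryForms

/-!
Similitude groups of the standard forms, their determinants and orders, for graph automorphisms of `PSL`.
-/

set_option autoImplicit false

namespace Cfsg.Agent.AutPSLGraphForms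

open Matrix
open Cfsg.Agent.AutPSLBasic Cfsg.Agent.AutPSLMain Cfsg.Agent.AutPSLGraph Cfsg.Agent.FormCongruence
open scoped MatrixGroups

variable {F : Type*} [Field F]

section Forms
variable {ι : Type} [Fintype ι] [DecidableEq ι]

lemma dot_congr (x P : Matrix ι ι F) (v w : ι → F) : (x *ᵥ v) ⬝ᵥ (P *ᵥ (x *ᵥ w)) = v ⬝ᵥ ((xᵀ * P * x) *ᵥ w) := by
  rw [← mulVec_mulVec, ← mulVec_mulVec, dotProduct_mulVec v, vecMul_transpose]

/-- Similitudes of a quadratic form, in terms of its polar matrix. -/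
lemma quadSim_iff (h2 : (2 : F) ≠ 0) (Q : (ι → F) → F) (P : Matrix ι ι F)
    (hpol : ∀ v w, Q (v + w) - Q v - Q w = v ⬝ᵥ (P *ᵥ w)) (hhom : ∀ (t : F) v, Q (t • v) = t ^ 2 * Q v)
    (hP : P.det ≠ 0) (x : GL ι F) :
    x ∈ Cfsg.Geo.quadSimilarityGroup Q ↔ ∃ c : F, (x : Matrix ι ι F)ᵀ * P * (x : Matrix ι ι F) = c • P := by
  have hQ : ∀ v, 2 * Q v = v ⬝ᵥ (P *ᵥ v) := fun v => by
    rw [← hpol, ← two_smul F v, hhom]; ring
  constructor
  · rintro ⟨c, hc⟩
    refine ⟨c, ext_form fun v w => ?_⟩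
    rw [← dot_congr, smul_mulVec, dotProduct_smul, smul_eq_mul, ← hpol, ← hpol, ← mulVec_add, hc, hc, hc]
    ring
  · rintro ⟨c, hc⟩
    rcases isEmpty_or_nonempty ι with hι | hι
    · refine ⟨1, fun v => ?_⟩
      rw [Units.val_one, one_mul]
      congr 1
      exact funext fun i => isEmptyElim i
    have hx : (x : Matrix ι ι F).det ≠ 0 := ((Matrix.isUnit_iff_isUnit_det _).1 x.isUnit).ne_zero
    have hc0 : c ≠ 0 := by
      rintro rfl
      have e := congrArg Matrix.det hc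
      rw [det_mul, det_mul, det_transpose, zero_smul, det_zero] at e
      simp [hx, hP] at e
    refine ⟨Units.mk0 c hc0, fun v => mul_left_cancel₀ h2 ?_⟩
    rw [hQ, dot_congr, hc, smul_mulVec, dotProduct_smul, smul_eq_mul, ← hQ, Units.val_mk0]
    ring

end Forms

lemma plus_smul (m : ℕ) (t : F) (v : Fin m ⊕ Fin m → F) : quadFormPlus m F (t • v) = t ^ 2 * quadFormPlus m F v := by
  simp only [quadFormPlus, Pi.smul_apply, smul_eq_mul, Finset.mul_sum]
  exact Finset.sum_congr rfl fun i _ => by ring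

lemma minus_smul (m : ℕ) (a b t : F) (v : (Fin m ⊕ Fin m) ⊕ Fin 2 → F) :
    quadFormMinus m F a b (t • v) = t ^ 2 * quadFormMinus m F a b v := by
  simp only [quadFormMinus, Pi.smul_apply, smul_eq_mul, mul_add, Finset.mul_sum]
  congr 1
  · exact Finset.sum_congr rfl fun i _ => by ring
  · ring

lemma odd_smul (m : ℕ) (t : F) (v : Unit ⊕ (Fin m ⊕ Fin m) → F) :
    quadFormOdd m F (t • v) = t ^ 2 * quadFormOdd m F v := by
  simp only [quadFormOdd, Pi.smul_apply, smul_eq_mul, mul_add, Finset.mul_sum]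
  congr 1
  · ring
  · exact Finset.sum_congr rfl fun i _ => by ring

lemma det_pPlus_ne_zero (m : ℕ) : (pPlus m F).det ≠ 0 := by
  rw [det_pPlus]; exact pow_ne_zero _ (neg_ne_zero.2 one_ne_zero)

lemma det_pOdd_ne_zero (h2 : (2 : F) ≠ 0) (m : ℕ) : (pOdd m F).det ≠ 0 := by
  rw [det_pOdd]; exact mul_ne_zero h2 (pow_ne_zero _ (neg_ne_zero.2 one_ne_zero))

lemma det_pMinus_ne_zero (h2 : (2 : F) ≠ 0) (m : ℕ) {a b : F}
    (hab : ∀ z₁ z₂ : F, z₁ ^ 2 + a * z₁ * z₂ + b * z₂ ^ 2 = 0 → z₁ = 0 ∧ z₂ = 0) : (pMinus m F a b).det ≠ 0 := by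
  rw [det_pMinus]
  exact mul_ne_zero (pow_ne_zero _ (neg_ne_zero.2 one_ne_zero)) fun h => disc_not_square h2 hab (h ▸ IsSquare.zero)

lemma mem_plus_sim (h2 : (2 : F) ≠ 0) (m : ℕ) (x : GL (Fin m ⊕ Fin m) F) :
    x ∈ Cfsg.Geo.quadSimilarityGroup (quadFormPlus m F) ↔
      ∃ c : F, (x : Matrix (Fin m ⊕ Fin m) (Fin m ⊕ Fin m) F)ᵀ * pPlus m F * (x : Matrix (Fin m ⊕ Fin m) (Fin m ⊕ Fin m) F) = c • pPlus m F :=
  quadSim_iff h2 _ _ (polar_plus m) (plus_smul m) (det_pPlus_ne_zero m) x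

lemma mem_minus_sim (h2 : (2 : F) ≠ 0) (m : ℕ) {a b : F}
    (hab : ∀ z₁ z₂ : F, z₁ ^ 2 + a * z₁ * z₂ + b * z₂ ^ 2 = 0 → z₁ = 0 ∧ z₂ = 0) (x : GL ((Fin m ⊕ Fin m) ⊕ Fin 2) F) :
    x ∈ Cfsg.Geo.quadSimilarityGroup (quadFormMinus m F a b) ↔
      ∃ c : F, (x : Matrix ((Fin m ⊕ Fin m) ⊕ Fin 2) ((Fin m ⊕ Fin m) ⊕ Fin 2) F)ᵀ * pMinus m F a b *
        (x : Matrix ((Fin m ⊕ Fin m) ⊕ Fin 2) ((Fin m ⊕ Fin m) ⊕ Fin 2) F) = c • pMinus m F a b :=
  quadSim_iff h2 _ _ (polar_minus m a b) (minus_smul m a b) (det_pMinus_ne_zero h2 m hab) x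

lemma mem_odd_sim (h2 : (2 : F) ≠ 0) (m : ℕ) (x : GL (Unit ⊕ (Fin m ⊕ Fin m)) F) :
    x ∈ Cfsg.Geo.quadSimilarityGroup (quadFormOdd m F) ↔
      ∃ c : F, (x : Matrix (Unit ⊕ (Fin m ⊕ Fin m)) (Unit ⊕ (Fin m ⊕ Fin m)) F)ᵀ * pOdd m F *
        (x : Matrix (Unit ⊕ (Fin m ⊕ Fin m)) (Unit ⊕ (Fin m ⊕ Fin m)) F) = c • pOdd m F :=
  quadSim_iff h2 _ _ (polar_odd m) (odd_smul m) (det_pOdd_ne_zero h2 m) x

lemma mem_GSp_iff (m : ℕ) (x : GL (Fin m ⊕ Fin m) F) :
    x ∈ Cfsg.GSp m F ↔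
      ∃ c : F, (x : Matrix (Fin m ⊕ Fin m) (Fin m ⊕ Fin m) F)ᵀ * Matrix.J (Fin m) F * (x : Matrix (Fin m ⊕ Fin m) (Fin m ⊕ Fin m) F) = c • Matrix.J (Fin m) F := by
  constructor
  · rintro ⟨c, hc⟩
    refine ⟨c, ext_form fun v w => ?_⟩
    rw [← dot_congr, smul_mulVec, dotProduct_smul, smul_eq_mul]
    exact hc v w
  · rintro ⟨c, hc⟩
    rcases eq_or_ne m 0 with rfl | hm
    · refine ⟨1, fun u v => ?_⟩
      simp [sympForm, dotProduct]
    have hc0 : c ≠ 0 := by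
      rintro rfl
      have e := congrArg Matrix.det hc
      haveI : Nonempty (Fin m ⊕ Fin m) := ⟨.inl ⟨0, by omega⟩⟩
      rw [det_mul, det_mul, det_transpose, zero_smul, det_zero] at e
      simp [((Matrix.isUnit_iff_isUnit_det _).1 x.isUnit).ne_zero, det_J_ne_zero] at e
    refine ⟨Units.mk0 c hc0, fun u v => ?_⟩
    rw [sympForm, dot_congr, hc, smul_mulVec, dotProduct_smul, smul_eq_mul]
    rfl

lemma sympTranspose (m : ℕ) : (Matrix.J (Fin m) F)ᵀ = -Matrix.J (Fin m) F := Matrix.J_transpose _ _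

/-- The multiplier similitude `diag(1, c)`. -/
lemma diag_sim (m : ℕ) (c : F) :
    (Matrix.fromBlocks (1 : Matrix (Fin m) (Fin m) F) 0 0 (c • 1))ᵀ * Matrix.J (Fin m) F *
      Matrix.fromBlocks (1 : Matrix (Fin m) (Fin m) F) 0 0 (c • 1) = c • Matrix.J (Fin m) F := by
  simp [Matrix.J, fromBlocks_transpose, fromBlocks_multiply, fromBlocks_smul, smul_neg]

lemma det_diag (m : ℕ) (c : F) :
    (Matrix.fromBlocks (1 : Matrix (Fin m) (Fin m) F) 0 0 (c • (1 : Matrix (Fin m) (Fin m) F))).det = c ^ m := by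
  simp [det_fromBlocks_zero₂₁, det_smul]

section SimDet
variable {n : ℕ} {A : GL (Fin n) F}

lemma simDet_eq_range (hn : 2 ≤ n) (h : Odd n ∨ (2 : F) = 0) [Finite F] :
    simDet hn A = (powMonoidHom n : Fˣ →* Fˣ).range := by
  refine le_antisymm ?_ (range_le_simDet hn A)
  intro d hd
  obtain ⟨g, u, rfl, hu⟩ := (mem_simDet hn A d).1 hd
  obtain ⟨v, -, hv⟩ := det_sq_of_sim hn hu
  generalize Matrix.GeneralLinearGroup.det g = d at hv ⊢
  rcases h with ⟨m, rfl⟩ | h2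
  · refine ⟨d * (v ^ m)⁻¹, ?_⟩
    show (d * (v ^ m)⁻¹) ^ (2 * m + 1) = d
    have h1 : (d * (v ^ m)⁻¹) ^ 2 = v := by
      rw [mul_pow, hv, inv_pow, ← pow_mul, mul_comm m 2, pow_succ, mul_comm (v ^ (2 * m)), mul_inv_cancel_right]
    rw [pow_succ, pow_mul, h1, mul_comm, inv_mul_cancel_right]
  · obtain ⟨s, hs⟩ := QuadClassify.isSquare_of_two_eq_zero h2 (v : F)
    have hs0 : s ≠ 0 := fun e => v.ne_zero (by rw [hs, e, mul_zero])
    refine ⟨Units.mk0 s hs0, Units.ext ?_⟩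
    have e : (d : F) ^ 2 = (s ^ n) ^ 2 := by
      have := congrArg Units.val hv
      rw [Units.val_pow_eq_pow_val, Units.val_pow_eq_pow_val, hs] at this
      rw [this, ← pow_two, ← pow_mul, ← pow_mul, mul_comm]
    show s ^ n = (d : F)
    have e2 : ((d : F) - s ^ n) ^ 2 = 0 := by linear_combination e - (((d : F) * s ^ n) - (s ^ n) ^ 2) * h2
    exact (sub_eq_zero.1 ((pow_eq_zero_iff two_ne_zero).1 e2)).symm

variable {m : ℕ}

/-- An element of `GL` from congruence coordinates. -/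
lemma det_conj' {ι : Type} [Fintype ι] [DecidableEq ι] (T : Matrix ι (Fin n) F) (T' : Matrix (Fin n) ι F)
    (h1 : T * T' = 1) (h2 : T' * T = 1) (x : GL ι F) :
    Matrix.GeneralLinearGroup.det (conjHom T T' h1 h2 x) = Matrix.GeneralLinearGroup.det x :=
  Units.ext (Matrix.det_conj_of_mul_eq_one h2 h1)

theorem simDet_skew (hn : 2 ≤ n) (hA : CongrS (A : Matrix (Fin n) (Fin n) F) (Matrix.J (Fin m) F)) :
    simDet hn A = (powMonoidHom m : Fˣ →* Fˣ).range := by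
  obtain ⟨u, hu, T, T', h1, h2, hA⟩ := hA
  refine le_antisymm ?_ ?_
  · intro d hd
    obtain ⟨g, c, rfl, hg⟩ := (mem_simDet hn A d).1 hd
    obtain ⟨x, rfl⟩ := conjHom_surjective T T' h1 h2 g
    have hx := (sim_conjHom T T' h1 h2 hu hA x c).1 hg
    obtain ⟨v, hvc, -⟩ := det_sq_of_sim hn hg
    rw [det_conj']
    refine ⟨v, Units.ext ?_⟩
    have hmem : (x : Matrix (Fin m ⊕ Fin m) (Fin m ⊕ Fin m) F) * Matrix.fromBlocks 1 0 0 (c⁻¹ • 1) ∈
        Matrix.symplecticGroup (Fin m) F := by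
      rw [SymplecticGroup.mem_iff', transpose_mul]
      calc _ = (Matrix.fromBlocks (1 : Matrix (Fin m) (Fin m) F) 0 0 (c⁻¹ • 1))ᵀ *
            ((x : Matrix (Fin m ⊕ Fin m) (Fin m ⊕ Fin m) F)ᵀ * Matrix.J (Fin m) F * (x : Matrix (Fin m ⊕ Fin m) (Fin m ⊕ Fin m) F)) *
            Matrix.fromBlocks (1 : Matrix (Fin m) (Fin m) F) 0 0 (c⁻¹ • 1) := by simp only [Matrix.mul_assoc]
        _ = _ := by
          rw [hx, Matrix.mul_smul, Matrix.smul_mul, diag_sim, smul_smul,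
            mul_inv_cancel₀ (hvc ▸ v.ne_zero), one_smul]
    have hdet := SymplecticGroup.det_eq_one hmem
    rw [det_mul, det_diag, inv_pow] at hdet
    show (v : F) ^ m = (x : Matrix (Fin m ⊕ Fin m) (Fin m ⊕ Fin m) F).det
    rw [hvc]
    exact (mul_inv_eq_one₀ (pow_ne_zero _ (hvc ▸ v.ne_zero))).1 hdet |>.symm
  · rintro _ ⟨y, rfl⟩
    have hd : (Matrix.fromBlocks (1 : Matrix (Fin m) (Fin m) F) 0 0 ((y : F) • (1 : Matrix (Fin m) (Fin m) F))).det ≠ 0 := by
      rw [det_diag]; exact pow_ne_zero _ y.ne_zero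
    let x := Matrix.GeneralLinearGroup.mkOfDetNeZero _ hd
    refine (mem_simDet hn A _).2 ⟨conjHom T T' h1 h2 x, y, ?_, (sim_conjHom T T' h1 h2 hu hA x y).2 (diag_sim m _)⟩
    rw [det_conj']
    exact Units.ext (det_diag m _)

variable [Finite F]

/-- The square class of the discriminant separates plus and minus forms. -/
lemma not_congr_both (h2 : (2 : F) ≠ 0) (hm : 1 ≤ m) {a b : F}
    (hab : ∀ z₁ z₂ : F, z₁ ^ 2 + a * z₁ * z₂ + b * z₂ ^ 2 = 0 → z₁ = 0 ∧ z₂ = 0) {X Y : Matrix (Fin n) (Fin n) F}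
    (hXY : ∃ s : F, s ≠ 0 ∧ Y.det = s ^ 2 * X.det) (hX : Congr X (pPlus m F)) (hY : Congr Y (pMinus (m - 1) F a b)) :
    False := by
  have key : ∀ {ι : Type} [Fintype ι] [DecidableEq ι] {Z : Matrix (Fin n) (Fin n) F} {N : Matrix ι ι F},
      Congr Z N → ∃ s : F, s ≠ 0 ∧ Z.det = s ^ 2 * N.det := by
    intro ι _ _ Z N h
    obtain ⟨T, T', h1, h2, rfl⟩ := h
    have hc : Fintype.card ι = n := by
      have e1 := congrArg Matrix.trace h1
      have hcard : Fintype.card ι = Fintype.card (Fin n) := by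
        refine le_antisymm ?_ ?_
        · have := Matrix.rank_mul_le_right T T'
          rw [h1, Matrix.rank_one] at this
          exact le_trans this (Matrix.rank_le_card_height T')
        · have := Matrix.rank_mul_le_right T' T
          rw [h2, Matrix.rank_one] at this
          exact le_trans this (Matrix.rank_le_card_height T)
      rwa [Fintype.card_fin] at hcard
    let e : ι ≃ Fin n := Fintype.equivFinOfCardEq hc
    refine ⟨(T.submatrix id e).det, fun h0 => ?_, ?_⟩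
    · have : (T.submatrix id e) * (T'.submatrix e id) = 1 := by rw [submatrix_mul_equiv, h1, submatrix_id_id]
      have := congrArg Matrix.det this
      rw [det_mul, h0, zero_mul, det_one] at this
      exact zero_ne_one this
    · have : (Tᵀ * N * T).submatrix e e = (T.submatrix id e)ᵀ * N * T.submatrix id e := by
        rw [transpose_submatrix]
        conv_rhs => rw [← submatrix_id_id N, ← submatrix_mul _ _ _ id _ Function.bijective_id,
          ← submatrix_mul _ _ _ id _ Function.bijective_id]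
      rw [← det_submatrix_equiv_self e, this, det_mul, det_mul, det_transpose]
      ring
  obtain ⟨s, hs, hs'⟩ := hXY
  obtain ⟨t, ht, ht'⟩ := key hX
  obtain ⟨r, hr, hr'⟩ := key hY
  obtain ⟨k, rfl⟩ : ∃ k, m = k + 1 := ⟨m - 1, by omega⟩
  rw [Nat.add_sub_cancel] at hr'
  rw [ht', det_pPlus] at hs'
  rw [hs', det_pMinus] at hr'
  refine disc_not_square h2 hab ⟨s * t / r, ?_⟩
  field_simp
  refine mul_left_cancel₀ (pow_ne_zero (k + 1) (neg_ne_zero.2 one_ne_zero) : ((-1 : F)) ^ (k + 1) ≠ 0) ?_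
  linear_combination -hr'

lemma exists_sim_mult (h2 : (2 : F) ≠ 0) (hm : 1 ≤ m) (hnm : n = 2 * m)
    (hA : (A : Matrix (Fin n) (Fin n) F)ᵀ = A) (u : Fˣ) :
    ∃ h : GL (Fin n) F, (h : Matrix (Fin n) (Fin n) F)ᵀ * (A : Matrix (Fin n) (Fin n) F) * (h : Matrix (Fin n) (Fin n) F) =
      (u : F) • (A : Matrix (Fin n) (Fin n) F) := by
  have hd : (A : Matrix (Fin n) (Fin n) F).det ≠ 0 := ((Matrix.isUnit_iff_isUnit_det _).1 A.isUnit).ne_zero
  obtain ⟨a, b, hab⟩ := exists_aniso h2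
  have hA' : ((u : F) • (A : Matrix (Fin n) (Fin n) F))ᵀ = (u : F) • (A : Matrix (Fin n) (Fin n) F) := by
    rw [transpose_smul, hA]
  have hd' : ((u : F) • (A : Matrix (Fin n) (Fin n) F)).det ≠ 0 := by
    rw [det_smul]; exact mul_ne_zero (pow_ne_zero _ u.ne_zero) hd
  have hsq : ∃ s : F, s ≠ 0 ∧ ((2 : F) • (u : F) • (A : Matrix (Fin n) (Fin n) F)).det = s ^ 2 * ((2 : F) • (A : Matrix (Fin n) (Fin n) F)).det := by
    refine ⟨(u : F) ^ m, pow_ne_zero _ u.ne_zero, ?_⟩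
    rw [det_smul, det_smul, det_smul, Fintype.card_fin]
    generalize (A : Matrix (Fin n) (Fin n) F).det = D
    rw [hnm]
    ring
  have fin : Congr ((2 : F) • (u : F) • (A : Matrix (Fin n) (Fin n) F)) ((2 : F) • (A : Matrix (Fin n) (Fin n) F)) := by
    rcases classify_even h2 hnm hab hA hd with h | h <;> rcases classify_even h2 hnm hab hA' hd' with h' | h'
    · exact h'.trans h.symm
    · exact (not_congr_both h2 hm hab hsq h h').elim
    · obtain ⟨s, hs, e⟩ := hsq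
      exact (not_congr_both h2 hm hab ⟨s⁻¹, inv_ne_zero hs, by rw [e, inv_pow, inv_mul_cancel_left₀ (pow_ne_zero _ hs)]⟩ h' h).elim
    · exact h'.trans h.symm
  have fin' := fin.smul (2 : F)⁻¹
  rw [inv_smul_smul₀ h2, inv_smul_smul₀ h2] at fin'
  obtain ⟨T, T', h1, h3, e⟩ := fin'
  exact ⟨⟨T, T', h1, h3⟩, e.symm⟩

omit [Finite F] in
lemma exists_reflection (h2 : (2 : F) ≠ 0) (hA : (A : Matrix (Fin n) (Fin n) F)ᵀ = A) (hn : 1 ≤ n) :
    ∃ h : GL (Fin n) F, (h : Matrix (Fin n) (Fin n) F)ᵀ * (A : Matrix (Fin n) (Fin n) F) * (h : Matrix (Fin n) (Fin n) F) =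
      (A : Matrix (Fin n) (Fin n) F) ∧ Matrix.GeneralLinearGroup.det h = -1 := by
  obtain ⟨v, hv⟩ : ∃ v : Fin n → F, v ⬝ᵥ ((A : Matrix (Fin n) (Fin n) F) *ᵥ v) ≠ 0 := by
    by_contra hcon
    push Not at hcon
    obtain ⟨-, hs⟩ := (quad_zero_iff _).1 hcon
    haveI : Nonempty (Fin n) := ⟨⟨0, by omega⟩⟩
    refine A.ne_zero (Matrix.ext fun i j => ?_)
    have e : (A : Matrix (Fin n) (Fin n) F) j i = (A : Matrix (Fin n) (Fin n) F) i j := congrFun (congrFun hA i) j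
    have := hs i j
    rw [e, ← two_mul] at this
    exact (mul_eq_zero.1 this).resolve_left h2
  set c := v ⬝ᵥ ((A : Matrix (Fin n) (Fin n) F) *ᵥ v) with hc
  set M := (1 : Matrix (Fin n) (Fin n) F) + vecMulVec ((-(2 / c)) • v) ((A : Matrix (Fin n) (Fin n) F) *ᵥ v) with hM
  have hdet : M.det = -1 := by
    rw [hM, vecMulVec_eq Unit, det_one_add_replicateCol_mul_replicateRow, dotProduct_smul, dotProduct_comm, ← hc,
      smul_eq_mul]
    field_simp
    ring
  refine ⟨Matrix.GeneralLinearGroup.mkOfDetNeZero M (by rw [hdet]; exact neg_ne_zero.2 one_ne_zero), ?_,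
    Units.ext (by simpa using hdet)⟩
  show Mᵀ * _ * M = _
  refine ext_form fun x y => ?_
  rw [← dot_congr, hM, add_mulVec, add_mulVec, one_mulVec, one_mulVec, vecMulVec_mulVec, vecMulVec_mulVec]
  have hs : ∀ x, x ⬝ᵥ ((A : Matrix (Fin n) (Fin n) F) *ᵥ v) = v ⬝ᵥ ((A : Matrix (Fin n) (Fin n) F) *ᵥ x) := fun x => by
    rw [dotProduct_mulVec, ← mulVec_transpose, hA, dotProduct_comm]
  simp only [op_smul_eq_smul, smul_smul, mulVec_add, mulVec_smul, add_dotProduct, dotProduct_add,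
    smul_dotProduct, dotProduct_smul, smul_eq_mul, ← hc]
  rw [dotProduct_comm ((A : Matrix (Fin n) (Fin n) F) *ᵥ v) x, dotProduct_comm ((A : Matrix (Fin n) (Fin n) F) *ᵥ v) y,
    hs x, hs y]
  field_simp
  ring

theorem simDet_sym (h2 : (2 : F) ≠ 0) (hn : 2 ≤ n) (hm : 1 ≤ m) (hnm : n = 2 * m)
    (hA : (A : Matrix (Fin n) (Fin n) F)ᵀ = A) :
    simDet hn A = ((powMonoidHom n : Fˣ →* Fˣ).range).comap (powMonoidHom 2) := by
  refine le_antisymm ?_ ?_
  · intro d hd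
    obtain ⟨g, u, rfl, hu⟩ := (mem_simDet hn A d).1 hd
    obtain ⟨v, -, hv⟩ := det_sq_of_sim hn hu
    exact ⟨v, hv.symm⟩
  · rintro d ⟨v, hv⟩
    have hv' : v ^ n = d ^ 2 := hv
    obtain ⟨h, hh⟩ := exists_sim_mult h2 hm hnm hA v
    have h1 : Matrix.GeneralLinearGroup.det h ∈ simDet hn A := (mem_simDet hn A _).2 ⟨h, v, rfl, hh⟩
    obtain ⟨r, hr, hr'⟩ := exists_reflection h2 hA (by omega)
    have h2' : (-1 : Fˣ) ∈ simDet hn A := (mem_simDet hn A _).2 ⟨r, 1, hr', by rw [one_smul]; exact hr⟩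
    obtain ⟨w, hw, hw'⟩ := det_sq_of_sim hn hh
    obtain rfl : w = v := Units.ext hw
    rw [hv'] at hw'
    have hw'' := congrArg Units.val hw'
    simp only [Units.val_pow_eq_pow_val] at hw''
    rcases sq_eq_sq_iff_eq_or_eq_neg.1 hw'' with e | e
    · rwa [← Units.ext e]
    · have : d = -1 * Matrix.GeneralLinearGroup.det h := by rw [neg_one_mul]; exact Units.ext (by simp [e])
      rw [this]
      exact mul_mem h2' h1

end SimDet

section Card
variable [Fintype F] {ι : Type} [Fintype ι] [DecidableEq ι]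

lemma card_projQuot_le (S : Subgroup (GL ι F)) :
    Nat.card ↥S ≤ Nat.card (Cfsg.projQuot S) * (Fintype.card F - 1) := by
  rw [Subgroup.card_eq_card_quotient_mul_card_subgroup ((Cfsg.Geo.scalars ι F).subgroupOf S)]
  refine Nat.mul_le_mul_left _ ?_
  have h : ∀ x : ↥((Cfsg.Geo.scalars ι F).subgroupOf S), ∃ c : Fˣ, ((x : ↥S) : GL ι F) =
      Units.map (Matrix.scalar ι : F →+* Matrix ι ι F).toMonoidHom c := fun x => by
    obtain ⟨c, hc⟩ := Subgroup.mem_subgroupOf.1 x.2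
    exact ⟨c, hc.symm⟩
  choose c hc using h
  refine le_trans (Nat.card_le_card_of_injective c fun x y e => Subtype.ext (Subtype.ext (by rw [hc, hc, e]))) ?_
  rw [Nat.card_units, Nat.card_eq_fintype_card]

lemma card_quadSim_le (Q : (ι → F) → F) :
    Nat.card ↥(Cfsg.Geo.quadSimilarityGroup Q) ≤ (Fintype.card F - 1) * Nat.card (isometryGroup F Q) := by
  classical
  have h : ∀ x : ↥(Cfsg.Geo.quadSimilarityGroup Q), ∃ c : Fˣ, ∀ v,
      Q ((((x : GL ι F)) : Matrix ι ι F) *ᵥ v) = (c : F) * Q v := fun x => x.2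
  choose μ hμ using h
  let rep : Fˣ → GL ι F := fun c => if hc : ∃ x, μ x = c then (hc.choose : GL ι F) else 1
  have hrep : ∀ x, (rep (μ x))⁻¹ * (x : GL ι F) ∈ isometryGroup F Q := by
    intro x u _
    have hc : ∃ y, μ y = μ x := ⟨x, rfl⟩
    show Q ((((rep (μ x))⁻¹ * (x : GL ι F) : GL ι F) : Matrix ι ι F) *ᵥ u) = Q u
    simp only [rep, dif_pos hc]
    rw [Units.val_mul, ← mulVec_mulVec]
    have hy := hμ hc.choose ((((hc.choose : GL ι F))⁻¹ : GL ι F).val *ᵥ ((x : GL ι F).val *ᵥ u))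
    rw [mulVec_mulVec, ← Units.val_mul, mul_inv_cancel, Units.val_one, one_mulVec, hc.choose_spec, hμ] at hy
    exact (mul_left_cancel₀ (μ x).ne_zero hy).symm
  let Φ : ↥(Cfsg.Geo.quadSimilarityGroup Q) → Fˣ × ↥(isometryGroup F Q) := fun x => (μ x, ⟨_, hrep x⟩)
  have : Function.Injective Φ := by
    intro x y e
    have e1 : μ x = μ y := congrArg Prod.fst e
    have e2 : (rep (μ x))⁻¹ * (x : GL ι F) = (rep (μ y))⁻¹ * (y : GL ι F) := congrArg (fun z => (z.2 : GL ι F)) e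
    rw [e1] at e2
    exact Subtype.ext (mul_left_cancel e2)
  refine le_trans (Nat.card_le_card_of_injective Φ this) ?_
  rw [Nat.card_prod, Nat.card_units, Nat.card_eq_fintype_card]

lemma card_sp_le_GSp (m : ℕ) : Nat.card (Matrix.symplecticGroup (Fin m) F) ≤ Nat.card ↥(Cfsg.GSp m F) := by
  have hd : ∀ x : Matrix.symplecticGroup (Fin m) F, (x : Matrix (Fin m ⊕ Fin m) (Fin m ⊕ Fin m) F).det ≠ 0 :=
    fun x => by rw [SymplecticGroup.det_eq_one x.2]; exact one_ne_zero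
  refine Nat.card_le_card_of_injective
    (fun x => ⟨Matrix.GeneralLinearGroup.mkOfDetNeZero _ (hd x), (mem_GSp_iff m _).2 ⟨1, ?_⟩⟩) ?_
  · rw [one_smul]
    exact SymplecticGroup.mem_iff'.1 x.2
  · intro x y e
    exact Subtype.ext (congrArg (fun z : ↥(Cfsg.GSp m F) => ((z : GL (Fin m ⊕ Fin m) F) : Matrix (Fin m ⊕ Fin m) (Fin m ⊕ Fin m) F)) e)

lemma not_iso_of_card_isometry (m : ℕ) (hm : 2 ≤ m) (Q : (ι → F) → F)
    (hQ : Nat.card (isometryGroup F Q) ≤
      2 * Fintype.card F ^ (m * (m - 1)) * (Fintype.card F ^ m + 1) * ∏ i ∈ Finset.range (m - 1), (Fintype.card F ^ (2 * (i + 1)) - 1)) :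
    ¬ Nonempty (Cfsg.PGSp m F ≃* Cfsg.PGO F Q) := by
  rintro ⟨e⟩
  have h1 := card_sp_le_GSp (F := F) m
  have h2 := card_projQuot_le (Cfsg.GSp m F)
  rw [Nat.card_congr e.toEquiv] at h2
  have h3 : Nat.card (Cfsg.PGO F Q) ≤ Nat.card ↥(Cfsg.Geo.quadSimilarityGroup Q) :=
    Nat.card_le_card_of_surjective _ (QuotientGroup.mk_surjective)
  have h4 := card_quadSim_le Q
  set q := Fintype.card F with hq
  have hq2 : 2 ≤ q := Fintype.one_lt_card
  set Pr := ∏ i ∈ Finset.range (m - 1), (q ^ (2 * (i + 1)) - 1) with hPr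
  have hPr0 : 0 < Pr := Finset.prod_pos fun i _ => Nat.sub_pos_of_lt (Nat.one_lt_pow (by omega) hq2)
  have key : Nat.card (Matrix.symplecticGroup (Fin m) F) ≤
      ((q - 1) * (2 * q ^ (m * (m - 1)) * (q ^ m + 1) * Pr)) * (q - 1) :=
    h1.trans (h2.trans (Nat.mul_le_mul_right _ (h3.trans (h4.trans (Nat.mul_le_mul_left _ hQ)))))
  rw [SymplecticOrder.card_symplectic rfl] at key
  obtain ⟨k, rfl⟩ : ∃ k, m = k + 1 := ⟨m - 1, by omega⟩
  rw [Finset.prod_range_succ, show q ^ (2 * (k + 1)) - 1 = (q ^ (k + 1) - 1) * (q ^ (k + 1) + 1) by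
    rw [two_mul, pow_add, mul_comm (q ^ (k + 1) - 1), ← Nat.sq_sub_sq, one_pow, pow_two]] at key
  rw [Nat.add_sub_cancel] at hPr key
  rw [← hPr, show (k + 1) ^ 2 = (k + 1) * k + (k + 1) by ring, pow_add] at key
  have hlt : (q - 1) * 2 * (q - 1) < q ^ (k + 1) * (q ^ (k + 1) - 1) := by
    have h22 : q ^ 2 ≤ q ^ (k + 1) := Nat.pow_le_pow_right (by omega) (by omega)
    calc (q - 1) * 2 * (q - 1) < q ^ 2 * 2 := by
          rw [pow_two, mul_assoc, mul_assoc]
          exact Nat.mul_lt_mul_of_lt_of_le (by omega) (by rw [mul_comm]; exact Nat.mul_le_mul_right _ (by omega)) (by omega)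
      _ ≤ q ^ (k + 1) * (q ^ (k + 1) - 1) := Nat.mul_le_mul h22 (by
          have : 4 ≤ q ^ (k + 1) := le_trans (by nlinarith) h22
          omega)
  have hpos : 0 < q ^ ((k + 1) * k) * (q ^ (k + 1) + 1) * Pr := by positivity
  have := (Nat.mul_lt_mul_right hpos).2 hlt
  nlinarith [key, this]

end Card

section CharTwo
variable [Fintype F] {ι : Type} [Fintype ι] [DecidableEq ι]

/-- In characteristic two the projective similitude group is the isometry group. -/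
lemma pgo_equiv_isometry (h2 : (2 : F) = 0) (Q : (ι → F) → F) (hhom : ∀ (t : F) v, Q (t • v) = t ^ 2 * Q v)
    (hQ : ∃ v, Q v ≠ 0) : Nonempty (Cfsg.PGO F Q ≃* isometryGroup F Q) := by
  have hle : isometryGroup F Q ≤ Cfsg.Geo.quadSimilarityGroup Q := fun g hg => ⟨1, fun v => by
    rw [Units.val_one, one_mul]; exact hg v v⟩
  let ρ : ↥(isometryGroup F Q) →* Cfsg.PGO F Q := (QuotientGroup.mk' _).comp (Subgroup.inclusion hle)
  have hρ : Function.Bijective ρ := by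
    constructor
    · rw [injective_iff_map_eq_one]
      intro x hx
      obtain ⟨c, hc⟩ := (Cfsg.Geo.mem_scalars_iff _).1 (Subgroup.mem_subgroupOf.1 ((QuotientGroup.eq_one_iff _).1 hx))
      obtain ⟨v, hv⟩ := hQ
      have := x.2 v v
      change Q (((x : GL ι F) : Matrix ι ι F) *ᵥ v) = Q v at this
      rw [show ((x : GL ι F) : Matrix ι ι F) = (c : F) • (1 : Matrix ι ι F) from hc, smul_mulVec, one_mulVec, hhom] at this
      have hc2 : (c : F) ^ 2 = 1 := mul_right_cancel₀ hv (by rw [this, one_mul])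
      have hc1 : (c : F) = 1 := by
        rcases sq_eq_one_iff.1 hc2 with h | h
        · exact h
        · rw [h]; linear_combination -h2
      apply Subtype.ext
      apply Units.ext
      rw [show ((x : GL ι F) : Matrix ι ι F) = (c : F) • (1 : Matrix ι ι F) from hc, hc1, one_smul]
      rfl
    · intro y
      obtain ⟨⟨g, c, hc⟩, rfl⟩ := QuotientGroup.mk_surjective y
      obtain ⟨s, hs⟩ := QuadClassify.isSquare_of_two_eq_zero h2 (c : F)
      have hs0 : s ≠ 0 := fun e => c.ne_zero (by rw [hs, e, mul_zero])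
      let z : GL ι F := Units.map (Matrix.scalar ι : F →+* Matrix ι ι F).toMonoidHom (Units.mk0 s hs0)⁻¹
      have hz : ∀ v, ((z * g : GL ι F) : Matrix ι ι F) *ᵥ v = s⁻¹ • ((g : Matrix ι ι F) *ᵥ v) := by
        intro v
        rw [Units.val_mul, ← mulVec_mulVec]
        simp [z, ← smul_one_eq_diagonal, smul_mulVec]
      refine ⟨⟨z * g, fun u _ => ?_⟩, QuotientGroup.eq.2 ?_⟩
      · show Q (((z * g : GL ι F) : Matrix ι ι F) *ᵥ u) = Q u
        rw [hz, hhom, hc, hs]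
        field_simp
      · rw [Subgroup.mem_subgroupOf]
        show (z * g)⁻¹ * g ∈ _
        rw [_root_.mul_inv_rev, mul_assoc]
        have hzc : z⁻¹ ∈ Cfsg.Geo.scalars ι F := inv_mem ⟨_, rfl⟩
        have : z⁻¹ * g = g * z⁻¹ := by
          apply Units.ext
          obtain ⟨d, hd⟩ := (Cfsg.Geo.mem_scalars_iff _).1 hzc
          rw [Units.val_mul, Units.val_mul, hd, Matrix.smul_mul, Matrix.mul_smul, Matrix.one_mul, Matrix.mul_one]
        rw [this, inv_mul_cancel_left]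
        exact hzc
  exact ⟨(MulEquiv.ofBijective ρ hρ).symm⟩

end CharTwo

end Cfsg.Agent.AutPSLGraphForms
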