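import Mathlib
import Cfsg.Agent.Lib.AutPSU52Api
import Cfsg.Agent.Lib.GaloisDescentGL

/-!
Descent for `GU` along a field automorphism of odd order: orthonormal bases over the fixed field
and Lang's theorem.
-/

set_option autoImplicit false
set_option linter.unusedSectionVars false

namespace Cfsg.Agent.AutPSU52Lang

open Matrix Module
open Cfsg.Agent.OrthUnitaryHerm Cfsg.Agent.OrthUnitaryTransvection
open Cfsg.Agent.AutPSU52Basic Cfsg.Agent.AutPSU52Semilin Cfsg.Agent.AutPSU52Api

/-! ### Orthonormal bases -/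

section Orthonormal

variable {F : Type*} [Field F] [Fintype F] {q : ℕ}

/-- A non-degenerate hermitian form has an orthonormal family of full length. -/
theorem exists_orthonormal (hF : Fintype.card F = q ^ 2) {V : Type*} [AddCommGroup V]
    [Module F V] [FiniteDimensional F V] (b : V → V → F)
    (hadd : ∀ x y v, b (x + y) v = b x v + b y v) (hsmul : ∀ (c : F) x v, b (c • x) v = c * b x v)
    (hconj : ∀ u v, b v u = b u v ^ q) :
    ∀ (k : ℕ) (W : Submodule F V), finrank F W = k →
      (∀ u ∈ W, (∀ v ∈ W, b u v = 0) → u = 0) →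
      ∃ e : Fin k → V, (∀ i, e i ∈ W) ∧ ∀ i j, b (e i) (e j) = if i = j then 1 else 0 := by
  have hsmul2 : ∀ (c : F) x v, b x (c • v) = c ^ q * b x v := fun c x v => by
    rw [hconj (c • v) x, hsmul, mul_pow, ← hconj v x]
  have hadd2 : ∀ x y v, b v (x + y) = b v x + b v y := fun x y v => by
    rw [hconj (x + y) v, hadd, add_pow_q hF, ← hconj x v, ← hconj y v]
  intro k
  induction k with
  | zero => intro W _ _; exact ⟨fun i => i.elim0, fun i => i.elim0, fun i => i.elim0⟩
  | succ k ih =>
    intro W hk hW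
    obtain ⟨x, hx, hx0⟩ : ∃ x ∈ W, b x x ≠ 0 := by
      by_contra hall
      push Not at hall
      have hne : W ≠ ⊥ := fun h => by rw [h, finrank_bot] at hk; omega
      obtain ⟨x, hx, hx0⟩ := Submodule.exists_mem_ne_zero_of_ne_bot hne
      obtain ⟨y, hy, hxy⟩ : ∃ y ∈ W, b x y ≠ 0 := by
        by_contra h; push Not at h; exact hx0 (hW x hx h)
      obtain ⟨z, hz⟩ := exists_trace hF (a := (1 : F)) (one_pow q)
      have hyx : b y x ≠ 0 := fun h => hxy (by rw [hconj y x, h, zero_pow_q hF])
      have h0 := hall _ (W.add_mem hx (W.smul_mem (z * (b y x)⁻¹) hy))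
      simp only [hadd, hadd2, hsmul, hsmul2, hall x hx, hall y hy, mul_zero, zero_add,
        add_zero] at h0
      rw [hconj y x, ← mul_pow, inv_mul_cancel_right₀ hyx] at h0
      exact one_ne_zero (hz.symm.trans (by linear_combination h0))
    obtain ⟨c, hc⟩ := exists_norm_eq hF (a := (b x x)⁻¹) (by rw [inv_pow, ← hconj])
    have he0 : b (c • x) (c • x) = 1 := by
      rw [hsmul, hsmul2, ← mul_assoc, ← pow_succ', hc, inv_mul_cancel₀ hx0]
    let φ : V →ₗ[F] F :=
      { toFun := fun y => b y (c • x), map_add' := fun a d => hadd a d _,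
        map_smul' := fun a d => hsmul a d _ }
    let W' : Submodule F V := W ⊓ LinearMap.ker φ
    have hd : finrank F W' + 1 = finrank F W := by
      have h1 : W ⊔ LinearMap.ker φ = ⊤ := by
        refine eq_top_iff.2 fun y _ => ?_
        rw [show y = φ y • (c • x) + (y - φ y • (c • x)) by abel]
        refine Submodule.add_mem_sup (W.smul_mem _ (W.smul_mem _ hx)) ?_
        rw [LinearMap.mem_ker, map_sub, map_smul, show φ (c • x) = 1 from he0, smul_eq_mul,
          mul_one, sub_self]
      have h2 := Submodule.finrank_sup_add_finrank_inf_eq W (LinearMap.ker φ)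
      have h3 := LinearMap.finrank_range_add_finrank_ker φ
      rw [LinearMap.range_eq_top.2 fun a => ⟨a • (c • x), by
        rw [map_smul, show φ (c • x) = 1 from he0, smul_eq_mul, mul_one]⟩, finrank_top,
        finrank_self] at h3
      rw [h1, finrank_top] at h2
      show finrank F ↥(W ⊓ LinearMap.ker φ) + 1 = _
      omega
    obtain ⟨e, heW, he⟩ := ih W' (by omega) (fun u hu h => hW u hu.1 fun v hv => by
      have hu0 : b u (c • x) = 0 := hu.2
      have hv' : v - φ v • (c • x) ∈ W' := ⟨W.sub_mem hv (W.smul_mem _ (W.smul_mem _ hx)), by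
        rw [SetLike.mem_coe, LinearMap.mem_ker, map_sub, map_smul,
          show φ (c • x) = 1 from he0, smul_eq_mul, mul_one, sub_self]⟩
      calc b u v = b u ((v - φ v • (c • x)) + φ v • (c • x)) := by rw [sub_add_cancel]
        _ = 0 := by rw [hadd2, h _ hv', hsmul2, hu0, mul_zero, add_zero])
    refine ⟨Fin.cons (c • x) e, ?_, ?_⟩
    · intro i
      refine Fin.cases ?_ (fun i => ?_) i
      · simpa using W.smul_mem c hx
      · simpa using (heW i).1
    · intro i j
      refine Fin.cases ?_ (fun i => ?_) i <;> refine Fin.cases ?_ (fun j => ?_) j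
      · simpa using he0
      · have : b (e j) (c • x) = 0 := (heW j).2
        simpa [(Fin.succ_ne_zero j).symm, hconj (e j) (c • x), zero_pow_q hF] using
          congrArg (· ^ q) this
      · simpa [Fin.succ_ne_zero i] using (show b (e i) (c • x) = 0 from (heW i).2)
      · simpa using he i j

end Orthonormal

variable {F : Type*} [Field F] [Fintype F] {q n : ℕ}

/-- Unitary matrices are recognised on the standard basis. -/
theorem isU_of_gram (hF : Fintype.card F = q ^ 2) (M : Matrix (Fin n) (Fin n) F)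
    (h : ∀ i j, hermForm n F q (M *ᵥ Pi.single i 1) (M *ᵥ Pi.single j 1) = if i = j then 1 else 0) :
    IsU q M := by
  classical
  have hleft : ∀ (i : Fin n) (v : Fin n → F),
      hermForm n F q (M *ᵥ v) (M *ᵥ Pi.single i 1) = v i := by
    intro i v
    have e : (hermL q (M *ᵥ Pi.single i 1)).comp (Matrix.mulVecLin M) = LinearMap.proj i := by
      apply LinearMap.pi_ext'
      intro j
      apply LinearMap.ext_ring
      simp only [LinearMap.comp_apply, LinearMap.coe_single, Matrix.mulVecLin_apply, hermL_apply,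
        LinearMap.proj_apply, h, Pi.single_apply]
      simp [eq_comm]
    exact LinearMap.congr_fun e v
  intro u v
  have e : (hermL q (M *ᵥ v)).comp (Matrix.mulVecLin M) = hermL q v := by
    apply LinearMap.pi_ext'
    intro j
    apply LinearMap.ext_ring
    simp only [LinearMap.comp_apply, LinearMap.coe_single, Matrix.mulVecLin_apply, hermL_apply]
    rw [herm_conj hF (M *ᵥ v) (M *ᵥ Pi.single j 1), hleft, herm_conj hF v (Pi.single j 1),
      herm_single_right hF]
  exact LinearMap.congr_fun e u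

variable {q₀ : ℕ} (σ : F ≃+* F)

/-- The fixed field. -/
abbrev Kf : Subfield F := (σ : F →+* F).eqLocusField (RingHom.id F)

theorem mem_Kf {x : F} : x ∈ Kf σ ↔ σ x = x := Iff.rfl

theorem card_Kf (hF : Fintype.card F = q ^ 2) (hq₀ : q₀ ^ orderOf σ = q)
    [Fintype (Kf σ)] : Fintype.card (Kf σ) = q₀ ^ 2 := by
  have h1 := GaloisDescentGL.card_fixed σ
  rw [Nat.card_eq_fintype_card (α := F), hF, ← hq₀, ← pow_mul, mul_comm, pow_mul] at h1
  refine Nat.pow_left_injective (GaloisDescentGL.orderOf_pos' σ).ne' ?_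
  show Fintype.card (Kf σ) ^ orderOf σ = (q₀ ^ 2) ^ orderOf σ
  rw [← h1, ← Nat.card_eq_fintype_card]
  rfl

theorem pow_q_of_fixed (hF : Fintype.card F = q ^ 2) (hodd : Odd (orderOf σ))
    (hq₀ : q₀ ^ orderOf σ = q) {x : F} (hx : σ x = x) : x ^ q = x ^ q₀ := by
  haveI : Fintype (Kf σ) := Fintype.ofFinite _
  have hK := card_Kf σ hF hq₀
  have h2 : x ^ q₀ ^ 2 = x := by
    have := congrArg Subtype.val (FiniteField.pow_card (⟨x, hx⟩ : Kf σ))
    rwa [SubmonoidClass.coe_pow, hK] at this
  have h3 : ∀ k : ℕ, x ^ q₀ ^ (2 * k) = x := by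
    intro k
    induction k with
    | zero => simp
    | succ k ih => rw [Nat.mul_succ, pow_add, pow_mul, ih, h2]
  obtain ⟨k, hk⟩ := hodd
  conv_lhs => rw [← hq₀, hk, pow_succ, pow_mul, h3]

/-- Lang's theorem for `GU` and a field automorphism of odd order. -/
theorem lang (hF : Fintype.card F = q ^ 2) (hodd : Odd (orderOf σ)) (hq₀ : q₀ ^ orderOf σ = q)
    (a : GU n F q)
    (h : GaloisDescentGL.ntw σ (a : GL (Fin n) F) (orderOf σ) = 1) :
    ∃ b : GU n F q, a = b * (gmU σ b)⁻¹ := by
  classical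
  haveI : Fintype (Kf σ) := Fintype.ofFinite _
  have hK := card_Kf σ hF hq₀
  have hcoe : ∀ x : Kf σ, ((x ^ q₀ : Kf σ) : F) = (x : F) ^ q := fun x => by
    rw [SubmonoidClass.coe_pow, pow_q_of_fixed σ hF hodd hq₀ x.2]
  obtain ⟨b, hb⟩ := GaloisDescentGL.hilbert90 σ (a : GL (Fin n) F) h
  set B : Matrix (Fin n) (Fin n) F := (b : Matrix (Fin n) (Fin n) F) with hB
  have hσB : gMat a⁻¹ * B = B.map σ := by
    have h1 : ((a : GL (Fin n) F))⁻¹ * b = GaloisDescentGL.gmap σ b := by
      rw [hb]; group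
    have := congrArg Units.val h1
    rw [Units.val_mul, GaloisDescentGL.coe_gmap] at this
    exact this
  let ι : (Fin n → Kf σ) → (Fin n → F) := fun u i => (u i : F)
  have hιadd : ∀ u v, ι (u + v) = ι u + ι v := fun u v => by funext i; simp [ι]
  have hιsmul : ∀ (c : Kf σ) u, ι (c • u) = (c : F) • ι u := fun c u => by
    funext i; simp [ι]
  have hfix : ∀ u v, hermForm n F q (B *ᵥ ι u) (B *ᵥ ι v) ∈ Kf σ := by
    intro u v
    rw [mem_Kf, ← herm_field σ]
    have hσu : ∀ u : Fin n → Kf σ, σ ∘ (B *ᵥ ι u) = gMat a⁻¹ *ᵥ (B *ᵥ ι u) := fun u => by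
      rw [← map_mulVec_comp, show σ ∘ ι u = ι u from funext fun i => (u i).2, ← hσB,
        mulVec_mulVec]
    rw [hσu, hσu, isU_of_mem a⁻¹]
  let β : (Fin n → Kf σ) → (Fin n → Kf σ) → Kf σ := fun u v => ⟨_, hfix u v⟩
  have βadd : ∀ x y v, β (x + y) v = β x v + β y v := fun x y v => Subtype.ext (by
    show hermForm n F q (B *ᵥ ι (x + y)) (B *ᵥ ι v) = _ + _
    rw [hιadd, mulVec_add, herm_add_left])
  have βsmul : ∀ (c : Kf σ) x v, β (c • x) v = c * β x v := fun c x v => Subtype.ext (by
    show hermForm n F q (B *ᵥ ι (c • x)) (B *ᵥ ι v) = (c : F) * _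
    rw [hιsmul, mulVec_smul, herm_smul_left])
  have βconj : ∀ u v, β v u = β u v ^ q₀ := fun u v => Subtype.ext (by
    rw [hcoe]; exact herm_conj hF _ _)
  have hdet : IsUnit B := b.isUnit
  have hnd : ∀ u : Fin n → Kf σ, (∀ v, β u v = 0) → u = 0 := by
    intro u hu
    have h0 : ∀ z : Fin n → F, hermForm n F q z (B *ᵥ ι u) = 0 := by
      have e : (hermL q (B *ᵥ ι u)).comp (Matrix.mulVecLin B) = 0 := by
        apply LinearMap.pi_ext'
        intro j
        apply LinearMap.ext_ring
        simp only [LinearMap.comp_apply, LinearMap.coe_single, Matrix.mulVecLin_apply,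
          hermL_apply, LinearMap.zero_apply]
        have h1 := congrArg Subtype.val (hu (Pi.single j 1))
        have hι : ι (Pi.single j 1) = Pi.single j 1 := by
          funext i
          rcases eq_or_ne i j with rfl | hij
          · simp [ι]
          · simp [ι, Pi.single_eq_of_ne hij]
        simp only [β, hι] at h1
        exact herm_skew_zero hF h1
      intro z
      obtain ⟨y, rfl⟩ : ∃ y, B *ᵥ y = z :=
        (Matrix.mulVec_surjective_iff_isUnit.2 hdet) z
      exact LinearMap.congr_fun e y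
    have h1 := eq_zero_of_herm_eq_zero hF fun z => herm_skew_zero hF (h0 z)
    have h2 : ι u = 0 := Matrix.mulVec_injective_iff_isUnit.2 hdet (by rw [h1, mulVec_zero])
    funext i
    exact Subtype.ext (congrFun h2 i)
  obtain ⟨e, -, he⟩ := exists_orthonormal hK β βadd βsmul βconj n ⊤
    (by rw [finrank_top, Module.finrank_fin_fun]) (fun u _ hu => hnd u fun v => hu v trivial)
  let S : Matrix (Fin n) (Fin n) F := Matrix.of fun i j => (e j i : F)
  have hS : ∀ j, S *ᵥ Pi.single j 1 = ι (e j) := fun j => by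
    funext i; simp [S, ι]
  have hU : IsU q (B * S) := isU_of_gram hF _ fun i j => by
    rw [← mulVec_mulVec, ← mulVec_mulVec, hS, hS]
    have h1 := congrArg Subtype.val (he i j)
    simp only [β] at h1
    rw [h1]
    split_ifs <;> simp
  refine ⟨mkGU hF _ hU, eq_mul_inv_iff_mul_eq.2 (Subtype.ext (Units.ext ?_))⟩
  show gMat a * gMat (gmU σ (mkGU hF _ hU)) = gMat (mkGU hF _ hU)
  rw [coe_gmU, show gMat (mkGU hF (B * S) hU) = B * S from mkGU_coe hF _ hU, Matrix.map_mul,
    show S.map σ = S from Matrix.ext fun i j => (e j i).2, ← hσB, ← mul_assoc, ← mul_assoc]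
  simp [gMat]

/-- Norms from the norm-one scalars onto those fixed by `σ`. -/
theorem exists_unorm (hF : Fintype.card F = q ^ 2) (hodd : Odd (orderOf σ))
    (hq₀ : q₀ ^ orderOf σ = q) {u : Fˣ} (hu : u ∈ mu q F)
    (hfix : u ∈ GaloisDescentGL.fixedUnits σ) :
    ∃ lam ∈ mu q F, GaloisDescentGL.unorm σ lam = u := by
  classical
  haveI : Fintype (Kf σ) := Fintype.ofFinite _
  have hK := card_Kf σ hF hq₀
  have hu' : (u : F) ^ (q + 1) = 1 := by
    have := congrArg Units.val (MonoidHom.mem_ker.1 hu)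
    simpa using this
  have hσu : σ (u : F) = u := congrArg Units.val hfix
  have hη : (⟨(u : F)⁻¹, (mem_Kf σ).2 (by rw [map_inv₀, hσu])⟩ : Kf σ) ^ (q₀ + 1) = 1 := by
    apply Subtype.ext
    rw [SubmonoidClass.coe_pow, OneMemClass.coe_one, pow_succ,
      ← pow_q_of_fixed σ hF hodd hq₀ (show σ ((u : F)⁻¹) = _ by rw [map_inv₀, hσu]), ← pow_succ,
      inv_pow, hu', inv_one]
  obtain ⟨w, hw0, hw⟩ := exists_hilbert hK hη
  have hw' : (w : F) ^ q = (u : F)⁻¹ * (w : F) := by
    have := congrArg Subtype.val hw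
    rw [SubmonoidClass.coe_pow, ← pow_q_of_fixed σ hF hodd hq₀ w.2] at this
    exact this
  have hw0' : (w : F) ≠ 0 := fun h0 => hw0 (Subtype.ext h0)
  set wu : Fˣ := Units.mk0 (w : F) hw0' with hwu
  have hwfix : wu ∈ GaloisDescentGL.fixedUnits σ := by
    show Units.map (σ : F →* F) wu = wu
    exact Units.ext w.2
  obtain ⟨z, hz⟩ : wu ∈ (GaloisDescentGL.unorm σ).range := by
    rw [GaloisDescentGL.range_unorm]; exact hwfix
  have hzq : (z ^ q) ^ q = z := Units.ext (by simp [pow_q_q hF])
  refine ⟨z / z ^ q, MonoidHom.mem_ker.2 ?_, ?_⟩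
  · rw [powMonoidHom_apply, pow_succ, div_pow, hzq, div_mul_div_cancel, div_self']
  · rw [map_div, map_pow, hz, div_eq_iff_eq_mul]
    apply Units.ext
    rw [Units.val_mul, Units.val_pow_eq_pow_val, hwu, Units.val_mk0, hw',
      mul_inv_cancel_left₀ u.ne_zero]

/-- Hilbert 90 inside the norm-one scalars. -/
theorem exists_hilbert_mu (hF : Fintype.card F = q ^ 2) (hodd : Odd (orderOf σ))
    (hq₀ : q₀ ^ orderOf σ = q) {u : Fˣ} (hu : u ∈ mu q F)
    (h : GaloisDescentGL.unorm σ u = 1) :
    ∃ y ∈ mu q F, u = y * (Units.map (σ : F →* F) y)⁻¹ := by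
  classical
  haveI : Fintype (Kf σ) := Fintype.ofFinite _
  have hK := card_Kf σ hF hq₀
  obtain ⟨y, hy⟩ := GaloisDescentGL.hilbert90_units σ u h
  have hu' : (u : F) ^ (q + 1) = 1 := by
    have := congrArg Units.val (MonoidHom.mem_ker.1 hu)
    simpa using this
  have hy' : (u : F) * σ y = y := congrArg Units.val (eq_mul_inv_iff_mul_eq.1 hy)
  have hkσ : σ ((y : F) ^ (q + 1)) = (y : F) ^ (q + 1) := by
    rw [map_pow]
    conv_rhs => rw [← hy', mul_pow, hu', one_mul]
  have hkq : (⟨(y : F) ^ (q + 1), hkσ⟩ : Kf σ) ^ q₀ = ⟨(y : F) ^ (q + 1), hkσ⟩ := by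
    apply Subtype.ext
    rw [SubmonoidClass.coe_pow, ← pow_q_of_fixed σ hF hodd hq₀ hkσ]
    show ((y : F) ^ (q + 1)) ^ q = (y : F) ^ (q + 1)
    rw [pow_succ (y : F) q, mul_pow, pow_q_q hF, mul_comm]
  obtain ⟨z, hz⟩ := exists_norm_eq hK hkq
  have hz' : (z : F) ^ (q + 1) = (y : F) ^ (q + 1) := by
    have := congrArg Subtype.val hz
    rw [SubmonoidClass.coe_pow, pow_succ, ← pow_q_of_fixed σ hF hodd hq₀ z.2, ← pow_succ] at this
    exact this
  have hz0 : (z : F) ≠ 0 := fun h0 => by
    rw [h0, zero_pow (Nat.succ_ne_zero q)] at hz'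
    exact pow_ne_zero _ y.ne_zero hz'.symm
  set zu : Fˣ := Units.mk0 (z : F) hz0 with hzu
  refine ⟨y / zu, MonoidHom.mem_ker.2 ?_, ?_⟩
  · rw [powMonoidHom_apply, div_pow, div_eq_one]
    exact Units.ext (by simp [hzu, hz'])
  · have hzσ : Units.map (σ : F →* F) zu = zu := Units.ext z.2
    rw [map_div, hzσ, hy, inv_div, div_eq_mul_inv, div_eq_mul_inv]
    group

/-- The number of norm-one scalars fixed by `σ`. -/
theorem card_fixedMu (hF : Fintype.card F = q ^ 2) (hodd : Odd (orderOf σ))
    (hq₀ : q₀ ^ orderOf σ = q) :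
    Nat.card ((GaloisDescentGL.fixedUnits σ).subgroupOf (mu q F)) = q₀ + 1 := by
  classical
  haveI : Fintype (Kf σ) := Fintype.ofFinite _
  have hK := card_Kf σ hF hq₀
  rw [← card_normOne hK]
  refine Nat.card_congr
    { toFun := fun u => ⟨Units.mk0 ⟨((u : mu q F) : Fˣ), congrArg Units.val
          (Subgroup.mem_subgroupOf.1 u.2 : Units.map (σ : F →* F) _ = _)⟩
          (fun h0 => ((u : mu q F) : Fˣ).ne_zero (congrArg Subtype.val h0)),
        Units.ext (Subtype.ext (by
          rw [Units.val_pow_eq_pow_val, Units.val_mk0, SubmonoidClass.coe_pow, pow_succ,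
            ← pow_q_of_fixed σ hF hodd hq₀
              (congrArg Units.val (Subgroup.mem_subgroupOf.1 u.2 : Units.map (σ : F →* F) _ = _)),
            ← pow_succ]
          have := congrArg Units.val (MonoidHom.mem_ker.1 (u : mu q F).2)
          simpa using this))⟩
      invFun := fun w => ⟨⟨Units.map ((Kf σ).subtype : Kf σ →* F) w.1,
          MonoidHom.mem_ker.2 (Units.ext (by
            rw [powMonoidHom_apply, Units.val_pow_eq_pow_val, Units.coe_map, Units.val_one]
            show ((w.1 : Kf σ) : F) ^ (q + 1) = 1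
            rw [pow_succ, pow_q_of_fixed σ hF hodd hq₀ (w.1 : Kf σ).2, ← pow_succ,
              ← SubmonoidClass.coe_pow, ← Units.val_pow_eq_pow_val, w.2, Units.val_one,
              OneMemClass.coe_one]))⟩,
        Subgroup.mem_subgroupOf.2
          (show Units.map (σ : F →* F) _ = _ from Units.ext (w.1 : Kf σ).2)⟩
      left_inv := fun u => Subtype.ext (Subtype.ext (Units.ext rfl))
      right_inv := fun w => Subtype.ext (Units.ext rfl) }

end Cfsg.Agent.AutPSU52Lang
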