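import Mathlib
import Cfsg.Prelude.Def_LieTypeDatum
import Cfsg.Agent.Lib.AutPSU52Lang
import Cfsg.Agent.Lib.AutPSLField
import Cfsg.Agent.Lib.SplitClassIndex

/-!
Field automorphisms of `PSU`: their classes, cosets, centralisers, and splitting of classes.
-/

set_option autoImplicit false
set_option linter.unusedSectionVars false

namespace Cfsg.Agent.AutPSU52Field

open Matrix
open Cfsg.Agent.OrthUnitaryHerm
open Cfsg.Agent.AutPSU52Basic Cfsg.Agent.AutPSU52Api Cfsg.Agent.AutPSU52Lang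
open Cfsg.Agent.GaloisDescentGL (unorm fixedUnits gmap ntw)

variable {F : Type*} [Field F] [Fintype F] {q n : ℕ}

theorem coe_gmU' (σ : F ≃+* F) (g : GU n F q) :
    ((gmU σ g : GU n F q) : GL (Fin n) F) = gmap σ (g : GL (Fin n) F) := rfl

theorem fd_injective (hF : Fintype.card F = q ^ 2) (hn : 3 ≤ n) :
    Function.Injective (fd : (F ≃+* F) → MulAut (PSU n F q)) :=
  (injective_iff_map_eq_one _).2 fun σ h =>
    (cj_fd_eq_one hF hn (g := 1) (σ := σ) (by rw [map_one, one_mul, h])).2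

/-- Scalars of norm one, in `GU`. -/
def scalarU : mu q F →* GU n F q :=
  MonoidHom.mk' (fun u => ⟨_, scalar_mem_GU u.2⟩) fun u v => Subtype.ext (map_mul _ (u : Fˣ) v)

theorem coe_scalarU (u : mu q F) :
    ((scalarU u : GU n F q) : GL (Fin n) F) = Matrix.GeneralLinearGroup.scalar (Fin n) (u : Fˣ) :=
  Units.ext rfl

theorem cj_scalarU (u : mu q F) : (cj (scalarU u : GU n F q) : MulAut (PSU n F q)) = 1 :=
  cj_scalar ⟨u.1, rfl⟩

theorem scalarU_comm (u : mu q F) (g : GU n F q) : g * scalarU u = scalarU u * g := by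
  apply Subtype.ext
  rw [Subgroup.coe_mul, Subgroup.coe_mul, coe_scalarU, AutPSLField.scalar_comm]

theorem scalarU_injective (hn : 1 ≤ n) :
    Function.Injective (scalarU : mu q F → GU n F q) := fun u v h => by
  have h1 := congrArg (fun g : GU n F q => gMat g ⟨0, hn⟩ ⟨0, hn⟩) h
  exact Subtype.ext (Units.ext (by simpa [gMat, scalarU] using h1))

theorem exists_scalarU (hF : Fintype.card F = q ^ 2) (hn : 1 ≤ n) {g : GU n F q}
    (h : (g : GL (Fin n) F) ∈ Cfsg.Geo.scalars (Fin n) F) : ∃ u, g = scalarU u := by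
  obtain ⟨c, hc⟩ := h
  have hcmu : c ∈ mu q F := by
    refine MonoidHom.mem_ker.2 (Units.ext ?_)
    have h2 : IsU q (Matrix.scalar (Fin n) (c : F)) := by
      have h3 := g.2
      rw [← hc] at h3
      exact h3
    have h4 := h2 (Pi.single ⟨0, hn⟩ 1) (Pi.single ⟨0, hn⟩ 1)
    rw [Matrix.scalar_apply, ← Matrix.smul_one_eq_diagonal, smul_mulVec, one_mulVec,
      herm_smul_left, herm_smul_right, herm_single_right hF, Pi.single_eq_same, mul_one,
      ← pow_succ'] at h4
    simpa using h4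
  exact ⟨⟨c, hcmu⟩, Subtype.ext hc.symm⟩

/-- A field automorphism on the norm-one scalars. -/
def muMap (σ : F ≃+* F) : mu q F →* mu q F :=
  MonoidHom.codRestrict ((Units.map (σ : F →* F)).comp (mu q F).subtype) _ fun u => by
    rw [MonoidHom.mem_ker, MonoidHom.comp_apply, powMonoidHom_apply, ← map_pow]
    have : ((u : Fˣ)) ^ (q + 1) = 1 := MonoidHom.mem_ker.1 u.2
    rw [Subgroup.coe_subtype, this, map_one]

theorem gmU_scalarU (σ : F ≃+* F) (u : mu q F) :
    gmU σ (scalarU u : GU n F q) = scalarU (muMap σ u) := by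
  apply Subtype.ext
  rw [coe_gmU', coe_scalarU, coe_scalarU, GaloisDescentGL.gmap_scalar]
  rfl

/-- Conjugates of standard field automorphisms are inner-diagonally conjugate to standard ones. -/
theorem field_class (hF : Fintype.card F = q ^ 2) (hn : 3 ≤ n) (h32 : ¬(n = 3 ∧ q = 2))
    {x : MulAut (PSU n F q)} (hx : Cfsg.IsFieldAutClassPSU x) :
    ∃ (h : GU n F q) (σ : F ≃+* F),
      σ ≠ 1 ∧ Odd (orderOf σ) ∧ x = cj h * fd σ * (cj h)⁻¹ := by
  obtain ⟨α, φ, σ, hσ, hodd, hstd, hconj⟩ := hx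
  rw [isField_iff] at hstd
  subst hstd
  obtain ⟨g, τ, rfl⟩ := aut_decomp hF hn h32 α
  have hx' : x = (cj g * fd τ)⁻¹ * fd σ * (cj g * fd τ) := by rw [← hconj]; group
  refine ⟨gmU τ⁻¹ g⁻¹, τ⁻¹ * σ * τ, fun e => hσ ?_, ?_, ?_⟩
  · have := congrArg (fun u => τ * u * τ⁻¹) e
    simpa [mul_assoc] using! this
  · have := AutPSLField.orderOf_conj' τ⁻¹ σ
    rw [inv_inv] at this
    rwa [this]
  · have h1 : (cj (gmU τ⁻¹ g⁻¹) : MulAut (PSU n F q)) = (fd τ)⁻¹ * (cj g)⁻¹ * fd τ := by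
      rw [← map_inv cj g, ← map_inv fd, fd_mul_cj, map_inv fd, inv_mul_cancel_right]
    rw [hx', h1, map_mul fd, map_mul fd, map_inv fd]
    group

/-- The twisted norm. -/
def ntwU (σ : F ≃+* F) (a : GU n F q) : ℕ → GU n F q
  | 0 => 1
  | k + 1 => a * gmU σ (ntwU σ a k)

theorem coe_ntwU (σ : F ≃+* F) (a : GU n F q) (k : ℕ) :
    ((ntwU σ a k : GU n F q) : GL (Fin n) F) = ntw σ (a : GL (Fin n) F) k := by
  induction k with
  | zero => simp [ntwU, ntw]
  | succ k ih => rw [ntwU, ntw, Subgroup.coe_mul, coe_gmU', ih]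

theorem pow_cj_fd (σ : F ≃+* F) (a : GU n F q) (k : ℕ) :
    (cj a * fd σ : MulAut (PSU n F q)) ^ k = cj (ntwU σ a k) * fd (σ ^ k) := by
  induction k with
  | zero => simp [ntwU]
  | succ k ih =>
    rw [pow_succ', ih, ntwU, map_mul, pow_succ', map_mul fd]
    calc (cj a * fd σ) * (cj (ntwU σ a k) * fd (σ ^ k))
        = cj a * (fd σ * cj (ntwU σ a k)) * fd (σ ^ k) := by simp only [mul_assoc]
      _ = _ := by rw [fd_mul_cj]; simp only [mul_assoc]

theorem ntwU_succ' (σ : F ≃+* F) (a : GU n F q) (k : ℕ) :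
    ntwU σ a (k + 1) = ntwU σ a k * gmU (σ ^ k) a := by
  induction k with
  | zero =>
    show a * gmU σ 1 = 1 * gmU (σ ^ 0) a
    rw [map_one, one_mul, mul_one, pow_zero, gmU_one]
  | succ k ih =>
    conv_lhs => rw [ntwU, ih, map_mul, ← mul_assoc, ← gmU_mul, ← pow_succ']
    rfl

variable {q₀ : ℕ}

/-- An element of the coset of a field automorphism with the same order is conjugate to it. -/
theorem field_coset (hF : Fintype.card F = q ^ 2) (hn : 3 ≤ n) (σ : F ≃+* F)
    (hodd : Odd (orderOf σ)) (hq₀ : q₀ ^ orderOf σ = q) (a : GU n F q)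
    (h : (cj a * fd σ : MulAut (PSU n F q)) ^ orderOf σ = 1) :
    ∃ b : GU n F q, (cj a * fd σ : MulAut (PSU n F q)) = cj b * fd σ * (cj b)⁻¹ := by
  rw [pow_cj_fd, pow_orderOf_eq_one, map_one, mul_one] at h
  obtain ⟨u, hu⟩ := exists_scalarU hF (by omega) ((cj_eq_one_iff hF hn _).1 h)
  have hfix : (u : Fˣ) ∈ fixedUnits σ := by
    show Units.map (σ : F →* F) (u : Fˣ) = u
    have e1 : ntwU σ a (orderOf σ + 1) = a * gmU σ (ntwU σ a (orderOf σ)) := rfl
    rw [ntwU_succ', pow_orderOf_eq_one, gmU_one, hu, gmU_scalarU, ← scalarU_comm u a] at e1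
    exact congrArg Subtype.val (scalarU_injective (by omega) (mul_left_cancel e1)).symm
  obtain ⟨lam, hlam, hN⟩ := exists_unorm σ hF hodd hq₀ u.2 hfix
  set l : mu q F := ⟨lam, hlam⟩ with hl
  have h' : ntw σ ((scalarU l⁻¹ * a : GU n F q) : GL (Fin n) F) (orderOf σ) = 1 := by
    rw [Subgroup.coe_mul, coe_scalarU, AutPSLField.ntw_scalar_mul, GaloisDescentGL.ntw_scalar,
      ← coe_ntwU, hu, coe_scalarU, ← map_mul]
    show Matrix.GeneralLinearGroup.scalar (Fin n) (unorm σ lam⁻¹ * (u : Fˣ)) = 1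
    rw [map_inv, hN, inv_mul_cancel, map_one]
  obtain ⟨b, hb⟩ := lang σ hF hodd hq₀ _ h'
  refine ⟨b, ?_⟩
  have : (cj a : MulAut (PSU n F q)) = cj (b * (gmU σ b)⁻¹) := by
    rw [← hb, map_mul, cj_scalarU, one_mul]
  rw [this, map_mul, mul_assoc, mul_assoc, ← map_inv cj b, fd_mul_cj]
  simp only [map_inv]

/-- The centraliser of a standard field automorphism. -/
theorem cj_commute_fd (hF : Fintype.card F = q ^ 2) (hn : 3 ≤ n) (σ : F ≃+* F)
    (hodd : Odd (orderOf σ)) (hq₀ : q₀ ^ orderOf σ = q) (g : GU n F q) :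
    cj g * fd σ = fd σ * (cj g : MulAut (PSU n F q)) ↔
      ∃ (y : mu q F) (g0 : GU n F q), gmU σ g0 = g0 ∧ g = scalarU y * g0 := by
  constructor
  · intro h
    rw [fd_mul_cj] at h
    have h1 : cj (g * (gmU σ g)⁻¹) = (1 : MulAut (PSU n F q)) := by
      rw [map_mul, map_inv, mul_right_cancel h, mul_inv_cancel]
    obtain ⟨u, hu⟩ := exists_scalarU hF (by omega) ((cj_eq_one_iff hF hn _).1 h1)
    have hg : g = scalarU u * gmU σ g := mul_inv_eq_iff_eq_mul.1 hu
    have key : ∀ k : ℕ, (g : GL (Fin n) F) = Matrix.GeneralLinearGroup.scalar (Fin n)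
        (∏ i ∈ Finset.range k, Units.map ((σ ^ i : F ≃+* F) : F →* F) (u : Fˣ))
          * gmap (σ ^ k) (g : GL (Fin n) F) := by
      intro k
      induction k with
      | zero =>
        rw [Finset.prod_range_zero, map_one, one_mul, pow_zero]
        exact Units.ext (by ext i j; rfl)
      | succ k ih =>
        conv_lhs => rw [ih]
        rw [Finset.prod_range_succ, map_mul, mul_assoc]
        congr 1
        conv_lhs => rw [hg]
        rw [Subgroup.coe_mul, coe_scalarU, coe_gmU', map_mul, GaloisDescentGL.gmap_scalar]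
        congr 1
    have h2 := key (orderOf σ)
    rw [pow_orderOf_eq_one, show gmap (1 : F ≃+* F) (g : GL (Fin n) F) = g from
      Units.ext (by ext i j; rfl), eq_comm, mul_eq_right] at h2
    have hN : unorm σ (u : Fˣ) = 1 := by
      apply Units.ext
      have h3 := congrArg (fun M : GL (Fin n) F => (M : Matrix (Fin n) (Fin n) F)
        ⟨0, by omega⟩ ⟨0, by omega⟩) h2
      simpa [GaloisDescentGL.unorm] using! h3
    obtain ⟨y, hymu, hy⟩ := exists_hilbert_mu σ hF hodd hq₀ u.2 hN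
    set yu : mu q F := ⟨y, hymu⟩ with hyu
    have hu' : u = yu * (muMap σ yu)⁻¹ := Subtype.ext hy
    refine ⟨yu, scalarU yu⁻¹ * g, ?_, by rw [map_inv, mul_inv_cancel_left]⟩
    rw [map_mul, gmU_scalarU, show gmU σ g = scalarU u⁻¹ * g by
      conv_rhs => rw [hg, map_inv, inv_mul_cancel_left],
      ← mul_assoc, ← map_mul scalarU]
    congr 2
    rw [hu', map_inv (muMap σ)]
    group
  · rintro ⟨y, g0, h0, rfl⟩
    rw [map_mul, cj_scalarU, one_mul, fd_mul_cj, h0]

/-- The diagonal section is compatible with field automorphisms. -/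
theorem gmU_g1 (hF : Fintype.card F = q ^ 2) (hn : 1 ≤ n) (σ : F ≃+* F) (u : mu q F)
    (hu : σ (u.1 : F) = (u.1 : F)) :
    gmU σ (AutPSU52Api.g1 hF hn u : GU n F q) = AutPSU52Api.g1 hF hn u := by
  apply Subtype.ext
  apply Units.ext
  show gMat (gmU σ (AutPSU52Api.g1 hF hn u : GU n F q))
    = gMat (AutPSU52Api.g1 hF hn u : GU n F q)
  have hcoe : gMat (AutPSU52Api.g1 hF hn u : GU n F q) = monMat 1 (diag1 hn (u.1 : F)) := by
    simp only [gMat, AutPSU52Api.g1, MonoidHom.mk'_apply]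
    rw [mkGU_coe]
  rw [coe_gmU, hcoe]
  ext i j
  simp only [monMat, Matrix.permMatrix_one, one_mul, Matrix.map_apply, Matrix.diagonal_apply,
    diag1, Function.update_apply]
  split_ifs <;> simp [hu]

theorem det_gmU (σ : F ≃+* F) (g : GU n F q) :
    detGU (gmU σ g) = Units.map (σ : F →* F) (detGU g) := by
  apply Units.ext
  exact ((σ : F →+* F).map_det (gMat g)).symm

theorem detGU_mem (hF : Fintype.card F = q ^ 2) (hn : 1 ≤ n) (g : GU n F q) :
    detGU g ∈ mu q F := by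
  rw [mu, ← range_detGU (n := n) hF hn]
  exact ⟨g, rfl⟩

/-- The determinant onto the norm-one scalars. -/
noncomputable def detMu (hF : Fintype.card F = q ^ 2) (hn : 1 ≤ n) : GU n F q →* mu q F :=
  MonoidHom.codRestrict detGU _ (detGU_mem hF hn)

theorem detMu_g1 (hF : Fintype.card F = q ^ 2) (hn : 1 ≤ n) (u : mu q F) :
    detMu hF hn (AutPSU52Api.g1 hF hn u) = u := Subtype.ext (det_g1 hF hn u)

theorem detMu_surjective (hF : Fintype.card F = q ^ 2) (hn : 1 ≤ n) :
    Function.Surjective (detMu (n := n) (F := F) (q := q) hF hn) :=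
  fun u => ⟨_, detMu_g1 hF hn u⟩

theorem detMu_scalarU (hF : Fintype.card F = q ^ 2) (hn : 1 ≤ n) (u : mu q F) :
    detMu hF hn (scalarU u : GU n F q) = u ^ n := Subtype.ext (det_scalarGU u.2)

/-- The number of inner classes in the inner-diagonal class of a field automorphism. -/
theorem field_split (hF : Fintype.card F = q ^ 2) (hn : 3 ≤ n) (σ : F ≃+* F)
    (hodd : Odd (orderOf σ)) (hq₀ : q₀ ^ orderOf σ = q) (h : GU n F q) :
    Cfsg.splitClassCount (Cfsg.inndiagPSU n F q) (Cfsg.Inn (PSU n F q))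
        (cj h * fd σ * (cj h)⁻¹) = Nat.gcd n ((q + 1) / (q₀ + 1)) := by
  classical
  have hn1 : 1 ≤ n := by omega
  set K₀ := ((powMonoidHom n : mu q F →* mu q F).range).comap (detMu (n := n) hF hn1) with hK₀
  have hinn : Cfsg.Inn (PSU n F q) = K₀.map cj := by
    rw [inn_eq, range_suToGU]
    apply le_antisymm
    · rintro _ ⟨s, hs, rfl⟩
      refine ⟨s, ?_, rfl⟩
      have : detMu hF hn1 s = 1 := Subtype.ext (MonoidHom.mem_ker.1 hs)
      rw [SetLike.mem_coe, Subgroup.mem_comap, this]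
      exact one_mem _
    · rintro _ ⟨g, ⟨c, hc⟩, rfl⟩
      refine ⟨(scalarU c)⁻¹ * g, ?_, by rw [map_mul, map_inv, cj_scalarU, inv_one, one_mul]⟩
      have : detMu hF hn1 ((scalarU c)⁻¹ * g) = 1 := by
        rw [map_mul, map_inv, detMu_scalarU, ← hc, powMonoidHom_apply, inv_mul_cancel]
      exact MonoidHom.mem_ker.2 (congrArg Subtype.val this)
  rw [inndiag_eq, hinn, SplitClassIndex.splitClassCount_eq]
  set C := (Subgroup.centralizer ({cj h * fd σ * (cj h)⁻¹} : Set (MulAut (PSU n F q)))).comap cj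
    with hC
  have h1 := Subgroup.index_map (K₀ ⊔ C) (detMu (n := n) hF hn1)
  rw [MonoidHom.range_eq_top.2 (detMu_surjective hF hn1), Subgroup.index_top, mul_one,
    sup_eq_left.2 ((show (detMu (n := n) hF hn1).ker ≤ K₀ from fun g hg => by
      rw [Subgroup.mem_comap, MonoidHom.mem_ker.1 hg]; exact one_mem _).trans
      (le_sup_left : K₀ ≤ K₀ ⊔ C)),
    Subgroup.map_sup, Subgroup.map_comap_eq_self_of_surjective (detMu_surjective hF hn1)] at h1
  rw [← h1]
  have hC' : C.map (detMu hF hn1) ≤ (powMonoidHom n : mu q F →* mu q F).range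
      ⊔ (fixedUnits σ).subgroupOf (mu q F) := by
    rintro _ ⟨g, hg, rfl⟩
    have hc' := Subgroup.mem_centralizer_singleton_iff.1 hg
    obtain ⟨y, g0, h0, e⟩ := (cj_commute_fd hF hn σ hodd hq₀ (h⁻¹ * g * h)).1 (by
      calc cj (h⁻¹ * g * h) * fd σ
          = (cj h)⁻¹ * (cj g * (cj h * fd σ * (cj h)⁻¹)) * cj h := by simp [mul_assoc]
        _ = fd σ * cj (h⁻¹ * g * h) := by rw [hc']; simp [mul_assoc])
    have hgm : detMu hF hn1 g = y ^ n * detMu hF hn1 g0 := by
      have := congrArg (detMu hF hn1) e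
      rw [map_mul, map_mul, map_mul, map_inv, detMu_scalarU, mul_comm, mul_inv_cancel_left] at this
      exact this
    rw [hgm]
    refine Subgroup.mul_mem_sup ⟨y, rfl⟩ (Subgroup.mem_subgroupOf.2 ?_)
    show Units.map (σ : F →* F) (detGU g0) = detGU g0
    rw [← det_gmU, h0]
  have hC'' : (fixedUnits σ).subgroupOf (mu q F) ≤ C.map (detMu hF hn1) := by
    intro u hu
    refine ⟨h * AutPSU52Api.g1 hF hn1 u * h⁻¹, ?_,
      by rw [map_mul, map_mul, map_inv, mul_inv_cancel_comm, detMu_g1]⟩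
    rw [SetLike.mem_coe, hC, Subgroup.mem_comap, Subgroup.mem_centralizer_singleton_iff]
    have hc := (cj_commute_fd hF hn σ hodd hq₀ (AutPSU52Api.g1 hF hn1 u : GU n F q)).2
      ⟨1, _, gmU_g1 hF hn1 σ u (congrArg Units.val (Subgroup.mem_subgroupOf.1 hu)),
        by rw [map_one, one_mul]⟩
    calc cj (h * AutPSU52Api.g1 hF hn1 u * h⁻¹) * (cj h * fd σ * (cj h)⁻¹)
        = cj h * (cj (AutPSU52Api.g1 hF hn1 u : GU n F q) * fd σ) * (cj h)⁻¹ := by simp [mul_assoc]
      _ = cj h * (fd σ * cj (AutPSU52Api.g1 hF hn1 u : GU n F q)) * (cj h)⁻¹ := by rw [hc]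
      _ = cj h * fd σ * (cj h)⁻¹ * cj (h * AutPSU52Api.g1 hF hn1 u * h⁻¹) := by simp [mul_assoc]
  rw [le_antisymm (sup_le le_sup_left hC') (sup_le le_sup_left (hC''.trans le_sup_right)),
    GaloisDescentGL.index_powers_sup]
  congr 1
  have h2 := ((fixedUnits σ).subgroupOf (mu q F)).card_mul_index
  rw [card_fixedMu σ hF hodd hq₀, card_mu hF] at h2
  rw [← h2, Nat.mul_div_cancel_left _ (Nat.succ_pos q₀)]

theorem herm_map {F₀ : Type*} [Field F₀] (ι : F₀ →+* F) (hι : ∀ x, ι x ^ q = ι (x ^ q₀))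
    (u v : Fin n → F₀) :
    hermForm n F q (ι ∘ u) (ι ∘ v) = ι (hermForm n F₀ q₀ u v) := by
  simp [hermForm, map_sum, map_mul, hι]

/-- Extension of scalars on `GU`. -/
noncomputable def guMap (hF : Fintype.card F = q ^ 2) {F₀ : Type*} [Field F₀] [Fintype F₀]
    (hF₀ : Fintype.card F₀ = q₀ ^ 2) (ι : F₀ →+* F) (hι : ∀ x, ι x ^ q = ι (x ^ q₀)) :
    GU n F₀ q₀ →* GU n F q :=
  MonoidHom.codRestrict ((Matrix.GeneralLinearGroup.map ι).comp (GU n F₀ q₀).subtype) _ fun g => by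
    classical
    refine isU_of_gram (F := F) hF _ fun i j => ?_
    have he : ∀ i : Fin n, (Matrix.GeneralLinearGroup.map ι (g : GL (Fin n) F₀)).1 *ᵥ Pi.single i 1
        = ι ∘ (gMat g *ᵥ Pi.single i 1) := fun i => by
      funext k
      simp [gMat]
    show hermForm n F q ((Matrix.GeneralLinearGroup.map ι (g : GL (Fin n) F₀)).1 *ᵥ Pi.single i 1)
      ((Matrix.GeneralLinearGroup.map ι (g : GL (Fin n) F₀)).1 *ᵥ Pi.single j 1) = _
    rw [he, he, herm_map ι hι, isU_of_mem g, herm_single_right hF₀, Pi.single_apply]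
    split_ifs <;> simp_all

/-- The centraliser of a field automorphism in the inner-diagonal group. -/
theorem field_centralizer (hF : Fintype.card F = q ^ 2) (hn : 3 ≤ n) (σ : F ≃+* F)
    (hodd : Odd (orderOf σ)) (hq₀ : q₀ ^ orderOf σ = q) (h : GU n F q)
    {F₀ : Type*} [Field F₀] [Fintype F₀] (hF₀ : Fintype.card F₀ = q₀ ^ 2)
    (ι : F₀ →+* F) (hι : ∀ x, σ x = x ↔ x ∈ ι.range) :
    Nonempty (↥(Cfsg.inndiagPSU n F q ⊓ Subgroup.centralizer {cj h * fd σ * (cj h)⁻¹})
      ≃* Cfsg.PGU n F₀ q₀) := by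
  classical
  have hιq : ∀ x, ι x ^ q = ι (x ^ q₀) := fun x => by
    rw [pow_q_of_fixed σ hF hodd hq₀ ((hι _).2 ⟨x, rfl⟩), map_pow]
  set m := guMap (n := n) hF hF₀ ι hιq with hm
  let ρ : GU n F₀ q₀ →* MulAut (PSU n F q) :=
    (MulAut.conj (cj h : MulAut (PSU n F q))).toMonoidHom.comp (cj.comp m)
  have hmfix : ∀ g, gmU σ (m g) = m g := fun g =>
    Subtype.ext (Units.ext (by ext i j; exact (hι _).2 ⟨_, rfl⟩))
  refine AutPSLField.equiv_of_range ρ _ ?_ _ ?_
  · ext β
    constructor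
    · rintro ⟨g, rfl⟩
      refine ⟨(mem_inndiag _).2 ⟨h * m g * h⁻¹, by simp [ρ]⟩,
        Subgroup.mem_centralizer_singleton_iff.2 ?_⟩
      have hc := (cj_commute_fd hF hn σ hodd hq₀ (m g)).2
        ⟨1, m g, hmfix g, by rw [map_one, one_mul]⟩
      show cj h * cj (m g) * (cj h)⁻¹ * (cj h * fd σ * (cj h)⁻¹)
        = cj h * fd σ * (cj h)⁻¹ * (cj h * cj (m g) * (cj h)⁻¹)
      calc cj h * cj (m g) * (cj h)⁻¹ * (cj h * fd σ * (cj h)⁻¹)
          = cj h * (cj (m g) * fd σ) * (cj h)⁻¹ := by simp [mul_assoc]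
        _ = cj h * (fd σ * cj (m g)) * (cj h)⁻¹ := by rw [hc]
        _ = _ := by simp [mul_assoc]
    · rintro ⟨hβ, hc⟩
      obtain ⟨g, rfl⟩ := (mem_inndiag _).1 hβ
      have hc' := Subgroup.mem_centralizer_singleton_iff.1 hc
      obtain ⟨y, g0, h0, hg⟩ := (cj_commute_fd hF hn σ hodd hq₀ (h⁻¹ * g * h)).1 (by
        calc cj (h⁻¹ * g * h) * fd σ
            = (cj h)⁻¹ * (cj g * (cj h * fd σ * (cj h)⁻¹)) * cj h := by simp [mul_assoc]
          _ = fd σ * cj (h⁻¹ * g * h) := by rw [hc']; simp [mul_assoc])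
      have hent : ∀ i j, gMat g0 i j ∈ ι.range := fun i j =>
        (hι _).1 (congrArg (fun g : GU n F q => gMat g i j) h0)
      choose G hG using hent
      have hGmap : (Matrix.of G).map ι = gMat g0 := by ext i j; exact hG i j
      have hGU : IsU q₀ (Matrix.of G) := fun u v => ι.injective (by
        have e : ∀ w : Fin n → F₀, ι ∘ (Matrix.of G *ᵥ w) = gMat g0 *ᵥ (ι ∘ w) := fun w => by
          rw [← hGmap]
          exact funext fun i => ι.map_mulVec _ w i
        rw [← herm_map ι hιq, ← herm_map ι hιq, e, e, isU_of_mem g0])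
      refine ⟨mkGU hF₀ _ hGU, ?_⟩
      have e1 : m (mkGU hF₀ _ hGU) = g0 := Subtype.ext (Units.ext (by
        show Matrix.map (gMat (mkGU hF₀ _ hGU)) ι = gMat g0
        rw [show gMat (mkGU hF₀ _ hGU) = Matrix.of G from mkGU_coe hF₀ _ _, hGmap]))
      show cj h * cj (m (mkGU hF₀ _ hGU)) * (cj h)⁻¹ = cj g
      have : g = h * (scalarU y * g0) * h⁻¹ := by rw [← hg]; group
      rw [e1, this, map_mul, map_mul, map_mul, cj_scalarU, one_mul, map_inv]
  · ext g
    rw [MonoidHom.mem_ker, Subgroup.mem_subgroupOf]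
    show MulAut.conj (cj h : MulAut (PSU n F q)) (cj (m g)) = 1 ↔ _
    rw [map_eq_one_iff _ (MulAut.conj _).injective, cj_eq_one_iff hF hn, Cfsg.Geo.mem_scalars_iff,
      Cfsg.Geo.mem_scalars_iff]
    have hcoe : ((m g : GU n F q) : GL (Fin n) F).1 = ((g : GL (Fin n) F₀).1).map ι := rfl
    constructor
    · rintro ⟨c, hc⟩
      rw [hcoe] at hc
      have hent := fun i j => congrFun (congrFun hc i) j
      have h00 := hent ⟨0, by omega⟩ ⟨0, by omega⟩
      simp at h00
      refine ⟨Units.mk0 ((g : GL (Fin n) F₀).1 ⟨0, by omega⟩ ⟨0, by omega⟩)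
        (fun e => c.ne_zero (by rw [← h00, e, map_zero])), ?_⟩
      ext i j
      apply ι.injective
      have e := hent i j
      simp at e
      rw [e, Matrix.smul_apply, smul_eq_mul, map_mul, Units.val_mk0, h00]
      rcases eq_or_ne i j with rfl | hij <;> simp [*]
    · rintro ⟨c, hc⟩
      refine ⟨Units.map (ι : F₀ →* F) c, ?_⟩
      rw [hcoe]
      ext i j
      have e := congrFun (congrFun hc i) j
      simp [e]
      rcases eq_or_ne i j with rfl | hij <;> simp [*]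

end Cfsg.Agent.AutPSU52Field
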