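import Mathlib
import Cfsg.Prelude.Def_LieTypeDatum
import Cfsg.Agent.Lib.AutPSU52Api
import Cfsg.Agent.Lib.AutPSU52Lang
import Cfsg.Agent.Lib.AutPSU52Field
import Cfsg.Agent.Lib.AutPSLField
import Cfsg.Agent.Lib.GaloisDescentGL
import Cfsg.Agent.Lib.SplitClassIndex
import Cfsg.Agent.Lib.FormCongruence

/-!
Involutory graph automorphisms of `PSU` and congruence classes of non-degenerate symmetric and skew
matrices over the field with `q` elements.
-/

set_option autoImplicit false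
set_option linter.unusedSectionVars false

namespace Cfsg.Agent.AutPSU52Graph

open Matrix
open Cfsg.Agent.OrthUnitaryHerm Cfsg.Agent.OrthUnitaryTransvection Cfsg.Agent.OrthUnitaryPSU
open Cfsg.Agent.AutPSU52Basic Cfsg.Agent.AutPSU52Semilin Cfsg.Agent.AutPSU52Api
open Cfsg.Agent.AutPSU52Lang Cfsg.Agent.AutPSU52Field Cfsg.Agent.FormCongruence
open scoped MatrixGroups

variable {F : Type*} [Field F] {q n : ℕ} (σ : F ≃+* F)

/-! ### The `q`-Frobenius and the field with `q` elements -/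

section Frobenius
variable [Fintype F]

theorem exists_frob (hF : Fintype.card F = q ^ 2) :
    ∃ σ : F ≃+* F, (∀ x, σ x = x ^ q) ∧ orderOf σ = 2 := by
  classical
  obtain ⟨f, hf⟩ := exists_frobHom hF
  refine ⟨RingEquiv.ofBijective f (Finite.injective_iff_bijective.1 f.injective), fun x => hf x, ?_⟩
  refine orderOf_eq_prime ?_ fun h => ?_
  · refine RingEquiv.ext fun x => ?_
    show f (f x) = x
    rw [hf, hf, pow_q_q hF]
  · obtain ⟨c, hc0, hc⟩ := exists_skew hF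
    have hall : ∀ x : F, x ^ q = x := fun x => by rw [← hf]; exact RingEquiv.congr_fun h x
    have h1 := hall
    have hq := two_le_q hF
    have hcard := card_fixedUnits hF
    have : Nat.card {x : Fˣ // x ^ (q - 1) = 1} = Nat.card Fˣ := by
      refine Nat.card_congr (Equiv.subtypeUnivEquiv fun x => ?_)
      apply Units.ext
      have e := hall x
      rw [show q = q - 1 + 1 by omega, pow_succ, mul_eq_right₀ x.ne_zero] at e
      simpa using e
    rw [hcard, card_units_eq hF] at this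
    nlinarith [Nat.sub_add_cancel (show 1 ≤ q by omega)]

theorem card_fixed_invol (hF : Fintype.card F = q ^ 2) {τ : F ≃+* F} (hτ : orderOf τ = 2) :
    Nat.card {x : F // τ x = x} = q := by
  have h := GaloisDescentGL.card_fixed τ
  rw [hτ, Nat.card_eq_fintype_card (α := F), hF] at h
  exact Nat.pow_left_injective two_ne_zero h

theorem pow_q_of_invol (hF : Fintype.card F = q ^ 2) {τ : F ≃+* F} (hτ : orderOf τ = 2) (x : F) :
    τ x = x ^ q := by
  classical
  obtain ⟨φ, hφ, hφ2⟩ := exists_frob hF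
  have hττ : ∀ x, τ (τ x) = x := fun x => by
    have h := pow_orderOf_eq_one τ
    rw [hτ, pow_two] at h
    exact RingEquiv.congr_fun h x
  -- the fixed points of `τ` are fixed by the Frobenius
  haveI : Fintype (Kf τ) := Fintype.ofFinite _
  have hK : Fintype.card (Kf τ) = q := by
    rw [← Nat.card_eq_fintype_card]; exact card_fixed_invol hF hτ
  have hfix : ∀ y, τ y = y → y ^ q = y := fun y hy => by
    have := congrArg Subtype.val (FiniteField.pow_card (⟨y, hy⟩ : Kf τ))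
    rwa [SubmonoidClass.coe_pow, hK] at this
  have e1 : (x + τ x) ^ q = x + τ x := hfix _ (by rw [map_add, hττ, add_comm])
  have e2 : (x * τ x) ^ q = x * τ x := hfix _ (by rw [map_mul, hττ, mul_comm])
  have e0 : (x ^ q - x) * (x ^ q - τ x) = 0 := by
    rw [add_pow_q hF] at e1
    rw [mul_pow] at e2
    linear_combination (-(x ^ q)) * e1.symm + (-1 : F) * e2 + 0
  rcases mul_eq_zero.1 e0 with h | h
  · have hsub : {x : F | τ x = x} ⊆ {x : F | φ x = x} := fun y hy => by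
      show φ y = y
      rw [hφ]; exact hfix y hy
    have := Set.eq_of_subset_of_ncard_le hsub (le_of_eq (by
      rw [← Nat.card_coe_set_eq, ← Nat.card_coe_set_eq]
      exact (card_fixed_invol hF hφ2).trans (card_fixed_invol hF hτ).symm))
    have hx : x ∈ {x : F | φ x = x} := by
      show φ x = x
      rw [hφ]; exact sub_eq_zero.1 h
    rw [← this] at hx
    exact hx.trans (sub_eq_zero.1 h).symm
  · exact (sub_eq_zero.1 h).symm

theorem exists_embed (hF : Fintype.card F = q ^ 2) {F₀ : Type*} [Field F₀] [Fintype F₀]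
    (hF₀ : Fintype.card F₀ = q) (hσ : ∀ x, σ x = x ^ q) :
    ∃ emb : F₀ →+* F, ∀ y, σ y = y ↔ y ∈ emb.range := by
  classical
  haveI : Fintype (Kf σ) := Fintype.ofFinite _
  have hσ2 : orderOf σ = 2 := by
    obtain ⟨φ, hφ, hφ2⟩ := exists_frob hF
    rwa [show σ = φ from RingEquiv.ext fun x => (hσ x).trans (hφ x).symm]
  have hK : Fintype.card (Kf σ) = q := by
    rw [← Nat.card_eq_fintype_card]; exact card_fixed_invol hF hσ2
  let e : F₀ ≃+* Kf σ := FiniteField.ringEquivOfCardEq (hF₀.trans hK.symm)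
  refine ⟨(Kf σ).subtype.comp e.toRingHom, fun y => ⟨fun h => ⟨e.symm ⟨y, h⟩, by simp⟩, ?_⟩⟩
  rintro ⟨z, rfl⟩
  exact (e z).2

end Frobenius

/-! ### Matrix form of unitarity -/

section Basic

theorem herm_eq_dot (hσ : ∀ x, σ x = x ^ q) (u v : Fin n → F) :
    hermForm n F q u v = u ⬝ᵥ (fun i => σ (v i)) := by
  simp [hermForm, dotProduct, hσ]

theorem isU_iff (hσ : ∀ x, σ x = x ^ q) (M : Matrix (Fin n) (Fin n) F) :
    IsU q M ↔ Mᵀ * M.map σ = 1 := by
  have key : ∀ u v, hermForm n F q (M *ᵥ u) (M *ᵥ v) = u ⬝ᵥ ((Mᵀ * M.map σ) *ᵥ (σ ∘ v)) := by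
    intro u v
    rw [herm_eq_dot σ hσ, show (fun i => σ ((M *ᵥ v) i)) = M.map σ *ᵥ (σ ∘ v) from
      (map_mulVec_comp σ M v).symm, ← mulVec_mulVec, dotProduct_mulVec u, vecMul_transpose]
  constructor
  · intro h
    refine ext_form fun u w => ?_
    obtain ⟨v, rfl⟩ : ∃ v : Fin n → F, w = σ ∘ v := ⟨σ.symm ∘ w, by ext; simp⟩
    rw [← key, h u v, herm_eq_dot σ hσ, one_mulVec]
    rfl
  · intro h u v
    rw [key, h, one_mulVec, herm_eq_dot σ hσ]
    rfl

theorem gMat_unitary (hσ : ∀ x, σ x = x ^ q) (g : GU n F q) :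
    (gMat g)ᵀ * (gMat g).map σ = 1 :=
  (isU_iff σ hσ _).1 (isU_of_mem g)

theorem gMat_mul (x y : GU n F q) : gMat (x * y) = gMat x * gMat y := rfl

theorem gMat_ne_zero (hn : 1 ≤ n) (x : GU n F q) : gMat x ≠ 0 := fun h => by
  haveI : Nonempty (Fin n) := ⟨⟨0, hn⟩⟩
  exact (x : GL (Fin n) F).ne_zero h

variable [Fintype F]

theorem cj_eq_cj (hF : Fintype.card F = q ^ 2) (hn : 3 ≤ n) (x y : GU n F q) :
    (cj x : MulAut (PSU n F q)) = cj y ↔ ∃ l : F, gMat x = l • gMat y := by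
  constructor
  · intro h
    obtain ⟨c, hc⟩ := (Cfsg.Geo.mem_scalars_iff _).1
      ((cj_eq_one_iff hF hn (x * y⁻¹)).1 (by rw [map_mul, map_inv, h, mul_inv_cancel]))
    refine ⟨(c : F), ?_⟩
    have e : gMat x = gMat (x * y⁻¹) * gMat y := by rw [← gMat_mul, inv_mul_cancel_right]
    rw [e, show gMat (x * y⁻¹) = _ from hc, Matrix.smul_mul, Matrix.one_mul]
  · rintro ⟨l, hl⟩
    have hl0 : l ≠ 0 := fun h => gMat_ne_zero (by omega) x (by rw [hl, h, zero_smul])
    have e : gMat (x * y⁻¹) = l • (1 : Matrix (Fin n) (Fin n) F) := by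
      rw [gMat_mul, hl, Matrix.smul_mul, ← gMat_mul, mul_inv_cancel]
      rfl
    have h1 : (cj (x * y⁻¹) : MulAut (PSU n F q)) = 1 :=
      cj_scalar ((Cfsg.Geo.mem_scalars_iff _).2 ⟨Units.mk0 l hl0, e⟩)
    rwa [map_mul, map_inv, mul_inv_eq_one] at h1

end Basic

/-! ### The data attached to an involutory graph automorphism -/

variable {F₀ : Type*} [Field F₀] (emb : F₀ →+* F)

/-- `γ` is `cj a * fd σ` and `θ N` is the Gram matrix of a basis on which the semilinear map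
`x ↦ a σ(x)` is the scalar `s`. -/
structure Dat (γ : MulAut (PSU n F q)) {κ : Type} [Fintype κ] [DecidableEq κ]
    (N : Matrix κ κ F₀) where
  b : Matrix (Fin n) κ F
  b' : Matrix κ (Fin n) F
  θ : F
  s : F
  a : GU n F q
  hb : b * b' = 1
  hb' : b' * b = 1
  hθ : θ ≠ 0
  hN : bᵀ * b.map σ = θ • N.map emb
  ha : gMat a * b.map σ = s • b
  hγ : γ = cj a * fd σ

/-- `N` represents `γ`. -/
def Rep (γ : MulAut (PSU n F q)) {κ : Type} [Fintype κ] [DecidableEq κ] (N : Matrix κ κ F₀) : Prop :=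
  Nonempty (Dat σ emb γ N)

variable {σ emb} {γ γ₁ γ₂ : MulAut (PSU n F q)} {κ μ : Type} [Fintype κ] [DecidableEq κ]
  [Fintype μ] [DecidableEq μ]

theorem map_one' {α : Type} [DecidableEq α] : (1 : Matrix α α F).map σ = 1 :=
  Matrix.map_one σ (map_zero σ) (map_one σ)

theorem map_mul' {α β δ : Type} [Fintype β] (L : Matrix α β F) (M : Matrix β δ F) :
    (L * M).map σ = L.map σ * M.map σ :=
  Matrix.map_mul

theorem map_smul' {α β : Type} (c : F) (M : Matrix α β F) : (c • M).map σ = σ c • M.map σ := by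
  ext i j
  simp

theorem map_map' (hσσ : ∀ x, σ (σ x) = x) {α β : Type} (M : Matrix α β F) :
    (M.map σ).map σ = M := by
  ext i j
  exact hσσ _

theorem map_emb (he : ∀ y, σ y = y ↔ y ∈ emb.range) {α β : Type} (P : Matrix α β F₀) :
    (P.map emb).map σ = P.map emb := by
  ext i j
  exact (he _).2 ⟨_, rfl⟩

theorem emb_smul {α β : Type} (c : F₀) (P : Matrix α β F₀) :
    (c • P).map emb = emb c • P.map emb := by
  ext i j
  simp

theorem emb_mul {α β δ : Type} [Fintype β] (L : Matrix α β F₀) (M : Matrix β δ F₀) :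
    (L * M).map emb = L.map emb * M.map emb :=
  Matrix.map_mul

theorem emb_transpose {α β : Type} (L : Matrix α β F₀) : (L.map emb)ᵀ = Lᵀ.map emb := rfl

theorem emb_injective {α β : Type} {L M : Matrix α β F₀} (h : L.map emb = M.map emb) : L = M :=
  Matrix.map_injective emb.injective h

/-- A matrix with fixed entries comes from the small field. -/
theorem exists_preimage (he : ∀ y, σ y = y ↔ y ∈ emb.range) {α β : Type} {M : Matrix α β F}
    (h : M.map σ = M) : ∃ P : Matrix α β F₀, P.map emb = M := by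
  choose P hP using fun i j => (he _).1 (congrFun (congrFun h i) j)
  exact ⟨Matrix.of P, by ext i j; exact hP i j⟩

namespace Dat

variable {N : Matrix κ κ F₀} (D : Dat σ emb γ N)
include D

theorem card_eq : Fintype.card κ = n := by
  have h1 : Fintype.card κ ≤ Fintype.card (Fin n) := by
    have := Matrix.rank_mul_le_right D.b' D.b
    rw [D.hb', Matrix.rank_one] at this
    exact le_trans this (Matrix.rank_le_card_height D.b)
  have h2 : Fintype.card (Fin n) ≤ Fintype.card κ := by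
    have := Matrix.rank_mul_le_right D.b D.b'
    rw [D.hb, Matrix.rank_one] at this
    exact le_trans this (Matrix.rank_le_card_height D.b')
  simpa using le_antisymm h1 h2

theorem hbσ : D.b.map σ * D.b'.map σ = 1 := by rw [← map_mul', D.hb, map_one']

theorem hbσ' : D.b'.map σ * D.b.map σ = 1 := by rw [← map_mul', D.hb', map_one']

theorem hN' : D.b'ᵀ * N.map emb * D.b'.map σ = D.θ⁻¹ • 1 := by
  have e : N.map emb = D.θ⁻¹ • (D.bᵀ * D.b.map σ) := by rw [D.hN, inv_smul_smul₀ D.hθ]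
  rw [e, Matrix.mul_smul, Matrix.smul_mul]
  congr 1
  rw [← Matrix.mul_assoc, ← transpose_mul, D.hb, transpose_one, Matrix.one_mul, D.hbσ]

theorem ha' : D.b' * gMat D.a = D.s • D.b'.map σ := by
  calc D.b' * gMat D.a = D.b' * gMat D.a * (D.b.map σ * D.b'.map σ) := by
        rw [D.hbσ, Matrix.mul_one]
    _ = D.b' * (gMat D.a * D.b.map σ) * D.b'.map σ := by simp only [Matrix.mul_assoc]
    _ = _ := by rw [D.ha, Matrix.mul_smul, D.hb', Matrix.smul_mul, Matrix.one_mul]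

theorem s_ne (hn : 1 ≤ n) : D.s ≠ 0 := fun h => by
  have h0 : gMat D.a * D.b.map σ = 0 := by rw [D.ha, h, zero_smul]
  have h1 := congrArg (· * D.b'.map σ) h0
  simp only [Matrix.mul_assoc, D.hbσ, Matrix.mul_one, Matrix.zero_mul] at h1
  exact gMat_ne_zero hn D.a h1

theorem det_ne_zero : N.det ≠ 0 := fun h => by
  have e : (N.map emb) * (D.θ • (D.b'.map σ * D.b'ᵀ)) = 1 := by
    rw [Matrix.mul_smul, ← Matrix.smul_mul, ← D.hN]
    calc D.bᵀ * D.b.map σ * (D.b'.map σ * D.b'ᵀ)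
        = D.bᵀ * (D.b.map σ * D.b'.map σ) * D.b'ᵀ := by simp only [Matrix.mul_assoc]
      _ = _ := by rw [D.hbσ, Matrix.mul_one, ← transpose_mul, D.hb', transpose_one]
  have := congrArg Matrix.det e
  rw [det_mul, det_one, show (N.map emb).det = emb N.det from (emb.map_det N).symm, h,
    map_zero, zero_mul] at this
  exact zero_ne_one this

theorem ne_zero (hn : 1 ≤ n) : N ≠ 0 := fun h => by
  have : Nonempty κ := Fintype.card_pos_iff.1 (by rw [D.card_eq]; omega)
  exact D.det_ne_zero (by rw [h, det_zero])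

theorem theta_rel (hσσ : ∀ x, σ (σ x) = x) (he : ∀ y, σ y = y ↔ y ∈ emb.range) :
    σ D.θ • Nᵀ.map emb = D.θ • N.map emb := by
  rw [← D.hN]
  have e : (σ D.θ • N.map emb)ᵀ = σ D.θ • Nᵀ.map emb := by rw [transpose_smul, emb_transpose]
  rw [← e]
  have e2 : σ D.θ • N.map emb = (D.θ • N.map emb).map σ := by rw [map_smul', map_emb he]
  rw [e2, ← D.hN, map_mul', transpose_mul, map_map' hσσ, ← transpose_map, transpose_transpose]

/-- The ratio of the two multipliers of the same matrix is fixed. -/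
theorem ratio_fixed (hn : 1 ≤ n) (hσσ : ∀ x, σ (σ x) = x) (he : ∀ y, σ y = y ↔ y ∈ emb.range)
    (D' : Dat σ emb γ₁ N) : σ (D.θ / D'.θ) = D.θ / D'.θ := by
  obtain ⟨i, j, hij⟩ : ∃ i j, Nᵀ i j ≠ 0 := by
    by_contra h
    push Not at h
    exact D.ne_zero hn (Matrix.ext fun i j => h j i)
  have e1 := congrFun (congrFun (D.theta_rel hσσ he) i) j
  have e2 := congrFun (congrFun (D'.theta_rel hσσ he) i) j
  simp only [Matrix.smul_apply, Matrix.map_apply, smul_eq_mul] at e1 e2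
  have hx : emb (Nᵀ i j) ≠ 0 := (map_ne_zero emb).2 hij
  rw [map_div₀, div_eq_div_iff ((map_ne_zero σ).2 D'.hθ) D'.hθ]
  refine mul_right_cancel₀ hx ?_
  linear_combination D'.θ * e1 - D.θ * e2

end Dat

theorem Rep.congr (he : ∀ y, σ y = y ↔ y ∈ emb.range) {N : Matrix κ κ F₀} {M : Matrix μ μ F₀}
    (h : Rep σ emb γ N) (hc : CongrS N M) : Rep σ emb γ M := by
  obtain ⟨D⟩ := h
  obtain ⟨u, hu, T, T', h1, h2, rfl⟩ := hc
  refine ⟨⟨D.b * T'.map emb, T.map emb * D.b', D.θ * emb u, D.s, D.a, ?_, ?_,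
    mul_ne_zero D.hθ ((map_ne_zero emb).2 hu), ?_, ?_, D.hγ⟩⟩
  · rw [Matrix.mul_assoc, ← Matrix.mul_assoc (T'.map emb), ← emb_mul, h2,
      Matrix.map_one emb (map_zero emb) (map_one emb), Matrix.one_mul, D.hb]
  · rw [Matrix.mul_assoc, ← Matrix.mul_assoc D.b', D.hb', Matrix.one_mul, ← emb_mul, h1,
      Matrix.map_one emb (map_zero emb) (map_one emb)]
  · rw [map_mul', map_emb he, transpose_mul, Matrix.mul_assoc, ← Matrix.mul_assoc D.bᵀ, D.hN,
      Matrix.smul_mul, Matrix.mul_smul, emb_transpose, ← emb_mul, ← emb_mul,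
      show T'ᵀ * (Tᵀ * (u • M) * T * T') = u • M by
        rw [Matrix.mul_assoc _ T T', h1, Matrix.mul_one, ← Matrix.mul_assoc, ← transpose_mul, h1,
          transpose_one, Matrix.one_mul],
      emb_smul, smul_smul]
  · rw [map_mul', map_emb he, ← Matrix.mul_assoc, D.ha, Matrix.smul_mul]

section Fintype
variable [Fintype F]

theorem cj_comm_iff (hF : Fintype.card F = q ^ 2) (hn : 3 ≤ n) (a₁ a₂ g : GU n F q) :
    cj g * (cj a₁ * fd σ) = (cj a₂ * fd σ) * (cj g : MulAut (PSU n F q)) ↔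
      ∃ l : F, gMat g * gMat a₁ = l • (gMat a₂ * (gMat g).map σ) := by
  rw [mul_assoc (cj a₂), fd_mul_cj, ← mul_assoc, ← mul_assoc, ← map_mul, ← map_mul,
    mul_left_inj, cj_eq_cj hF hn, gMat_mul, gMat_mul, coe_gmU]

/-- Similitudes of the forms give elements conjugating one graph automorphism to the other. -/
theorem Dat.push (hF : Fintype.card F = q ^ 2) (hn : 3 ≤ n) (hσ : ∀ x, σ x = x ^ q)
    (he : ∀ y, σ y = y ↔ y ∈ emb.range) {N₁ : Matrix κ κ F₀} {N₂ : Matrix μ μ F₀}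
    (D₁ : Dat σ emb γ₁ N₁) (D₂ : Dat σ emb γ₂ N₂) (P : Matrix μ κ F₀) (u : F₀)
    (hP : Pᵀ * N₂ * P = u • N₁) (t : F) (ht : t ^ (q + 1) * (D₂.θ * emb u) = D₁.θ) :
    ∃ g : GU n F q, gMat g = t • (D₂.b * P.map emb * D₁.b') ∧ cj g * γ₁ = γ₂ * cj g := by
  have hσg : (t • (D₂.b * P.map emb * D₁.b')).map σ
      = σ t • (D₂.b.map σ * P.map emb * D₁.b'.map σ) := by
    rw [map_smul', map_mul', map_mul', map_emb he]
  have hU : IsU q (t • (D₂.b * P.map emb * D₁.b')) := by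
    rw [isU_iff σ hσ, hσg, transpose_smul, Matrix.smul_mul, Matrix.mul_smul, transpose_mul,
      transpose_mul, emb_transpose, smul_smul]
    calc (t * σ t) • (D₁.b'ᵀ * (Pᵀ.map emb * D₂.bᵀ) * (D₂.b.map σ * P.map emb * D₁.b'.map σ))
        = (t * σ t) • (D₁.b'ᵀ * (Pᵀ.map emb * (D₂.bᵀ * D₂.b.map σ) * P.map emb) * D₁.b'.map σ) := by
          simp only [Matrix.mul_assoc]
      _ = 1 := by
          rw [D₂.hN, Matrix.mul_smul, Matrix.smul_mul, ← emb_mul, ← emb_mul, hP, emb_smul,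
            smul_smul, Matrix.mul_smul, Matrix.smul_mul, D₁.hN', smul_smul, smul_smul, hσ,
            ← pow_succ', ht, mul_inv_cancel₀ D₁.hθ, one_smul]
  refine ⟨mkGU hF _ hU, mkGU_coe hF _ hU, ?_⟩
  refine (congrArg (cj (mkGU hF _ hU) * ·) D₁.hγ).trans
    (Eq.trans ?_ (congrArg (· * cj (mkGU hF _ hU)) D₂.hγ).symm)
  show cj (mkGU hF _ hU) * (cj D₁.a * fd σ) = cj D₂.a * fd σ * cj (mkGU hF _ hU)
  rw [cj_comm_iff hF hn, show gMat (mkGU hF _ hU) = _ from mkGU_coe hF _ hU, hσg]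
  have ht0 : σ t ≠ 0 := (map_ne_zero σ).2 fun h => D₁.hθ (by rw [← ht, h, zero_pow (Nat.succ_ne_zero q), zero_mul])
  have hs := D₂.s_ne (by omega)
  refine ⟨t * D₁.s / (σ t * D₂.s), ?_⟩
  rw [Matrix.smul_mul, Matrix.mul_assoc, D₁.ha', Matrix.mul_smul, smul_smul, Matrix.mul_smul,
    ← Matrix.mul_assoc, ← Matrix.mul_assoc, D₂.ha, Matrix.smul_mul, Matrix.smul_mul, smul_smul,
    smul_smul]
  congr 1
  field_simp

/-- An element conjugating one graph automorphism to the other is a scalar times a similitude. -/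
theorem Dat.descend (hF : Fintype.card F = q ^ 2) (hn : 3 ≤ n) (hσ : ∀ x, σ x = x ^ q)
    (he : ∀ y, σ y = y ↔ y ∈ emb.range) {N₁ : Matrix κ κ F₀} {N₂ : Matrix μ μ F₀}
    (D₁ : Dat σ emb γ₁ N₁) (D₂ : Dat σ emb γ₂ N₂) (g : GU n F q)
    (hg : cj g * γ₁ = γ₂ * cj g) :
    ∃ (t : F) (P : Matrix μ κ F₀) (u : F₀), u ≠ 0 ∧ gMat g = t • (D₂.b * P.map emb * D₁.b') ∧
      Pᵀ * N₂ * P = u • N₁ ∧ t ^ (q + 1) * (D₂.θ * emb u) = D₁.θ := by
  rw [D₁.hγ, D₂.hγ] at hg
  obtain ⟨l, hl⟩ := (cj_comm_iff hF hn _ _ _).1 hg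
  set Q : Matrix μ κ F := D₂.b' * gMat g * D₁.b with hQ
  have hgb : gMat g * D₁.b = D₂.b * Q := by
    rw [hQ, Matrix.mul_assoc, ← Matrix.mul_assoc D₂.b, D₂.hb, Matrix.one_mul]
  have hgQ : gMat g = D₂.b * Q * D₁.b' := by
    rw [← hgb, Matrix.mul_assoc, D₁.hb, Matrix.mul_one]
  have hQσ : D₁.s • Q = (l * D₂.s) • Q.map σ := by
    have e1 : gMat g * gMat D₁.a * D₁.b.map σ = D₁.s • (D₂.b * Q) := by
      rw [Matrix.mul_assoc, D₁.ha, Matrix.mul_smul, hgb]
    have e2 : gMat D₂.a * (gMat g).map σ * D₁.b.map σ = D₂.s • (D₂.b * Q.map σ) := by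
      rw [Matrix.mul_assoc, ← map_mul', hgb, map_mul', ← Matrix.mul_assoc, D₂.ha, Matrix.smul_mul]
    rw [hl, Matrix.smul_mul, e2, smul_smul] at e1
    have := congrArg (D₂.b' * ·) e1.symm
    simpa only [Matrix.mul_smul, ← Matrix.mul_assoc, D₂.hb', Matrix.one_mul] using this
  have hQ0 : Q ≠ 0 := fun h => gMat_ne_zero (by omega) g (by
    rw [hgQ, h, Matrix.mul_zero, Matrix.zero_mul])
  have hk : l * D₂.s ≠ 0 := fun h => hQ0 (by
    rw [h, zero_smul] at hQσ
    exact (smul_eq_zero.1 hQσ).resolve_left (D₁.s_ne (by omega)))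
  obtain ⟨i, j, hij⟩ : ∃ i j, Q i j ≠ 0 := by
    by_contra h
    push Not at h
    exact hQ0 (Matrix.ext h)
  set t := Q i j with ht
  have hσt : D₁.s * t = l * D₂.s * σ t := congrFun (congrFun hQσ i) j
  obtain ⟨P, hP⟩ := exists_preimage he (M := t⁻¹ • Q) (by
    rw [map_smul', map_inv₀]
    have e : Q.map σ = (D₁.s / (l * D₂.s)) • Q := by
      rw [div_eq_inv_mul, mul_smul, hQσ, inv_smul_smul₀ hk]
    rw [e, smul_smul]
    congr 1
    have hσt0 : σ t ≠ 0 := (map_ne_zero σ).2 hij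
    have hl0 := left_ne_zero_of_mul hk
    have hs0 := right_ne_zero_of_mul hk
    field_simp
    linear_combination hσt)
  have hg' : gMat g = t • (D₂.b * P.map emb * D₁.b') := by
    rw [hP, Matrix.mul_smul, Matrix.smul_mul, smul_inv_smul₀ hij, hgQ]
  have hgb' : gMat g * D₁.b = t • (D₂.b * P.map emb) := by
    rw [hg', Matrix.smul_mul, Matrix.mul_assoc, D₁.hb', Matrix.mul_one]
  have hU := gMat_unitary σ hσ g
  have key : D₁.θ • N₁.map emb = (t * σ t * D₂.θ) • (Pᵀ * N₂ * P).map emb := by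
    calc D₁.θ • N₁.map emb = D₁.bᵀ * ((gMat g)ᵀ * (gMat g).map σ) * D₁.b.map σ := by
          rw [hU, Matrix.mul_one, D₁.hN]
      _ = (gMat g * D₁.b)ᵀ * (gMat g * D₁.b).map σ := by
          rw [transpose_mul, map_mul']; simp only [Matrix.mul_assoc]
      _ = (t * σ t) • (Pᵀ.map emb * (D₂.bᵀ * D₂.b.map σ) * P.map emb) := by
          rw [hgb', map_smul', map_mul', map_emb he, transpose_smul, transpose_mul, emb_transpose,
            Matrix.smul_mul, Matrix.mul_smul, smul_smul]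
          simp only [Matrix.mul_assoc]
      _ = _ := by
          rw [D₂.hN, Matrix.mul_smul, Matrix.smul_mul, smul_smul, ← emb_mul, ← emb_mul]
  obtain ⟨k, m, hkm⟩ : ∃ k m, N₁ k m ≠ 0 := by
    by_contra h
    push Not at h
    exact D₁.ne_zero (by omega) (Matrix.ext h)
  have hc0 : t * σ t * D₂.θ ≠ 0 := mul_ne_zero (mul_ne_zero hij ((map_ne_zero σ).2 hij)) D₂.hθ
  have hkey := congrFun (congrFun key k) m
  simp only [Matrix.smul_apply, Matrix.map_apply, smul_eq_mul] at hkey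
  set u := (Pᵀ * N₂ * P) k m / N₁ k m with hu
  have hemb : emb (N₁ k m) ≠ 0 := (map_ne_zero emb).2 hkm
  have hu' : t * σ t * D₂.θ * emb u = D₁.θ := by
    rw [hu, map_div₀, ← mul_div_assoc, div_eq_iff hemb, ← hkey]
  refine ⟨t, P, u, fun h => D₁.hθ (by rw [← hu', h, map_zero, mul_zero]), hg', ?_, ?_⟩
  · apply emb_injective (emb := emb)
    refine smul_right_injective _ hc0 ?_
    show (t * σ t * D₂.θ) • _ = (t * σ t * D₂.θ) • _
    rw [← key, emb_smul, smul_smul, hu']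
  · rw [← hu', hσ, pow_succ']; ring

theorem pow_q_fixed (hσ : ∀ x, σ x = x ^ q) (he : ∀ y, σ y = y ↔ y ∈ emb.range) (x : F₀) :
    emb x ^ q = emb x := by rw [← hσ]; exact (he _).2 ⟨x, rfl⟩

theorem sigma_sigma (hF : Fintype.card F = q ^ 2) (hσ : ∀ x, σ x = x ^ q) (x : F) :
    σ (σ x) = x := by rw [hσ, hσ, pow_q_q hF]

/-- Graph automorphisms represented by the same matrix are conjugate. -/
theorem isConj_of_rep (hF : Fintype.card F = q ^ 2) (hn : 3 ≤ n) (hσ : ∀ x, σ x = x ^ q)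
    (he : ∀ y, σ y = y ↔ y ∈ emb.range) {N : Matrix κ κ F₀}
    (h₁ : Rep σ emb γ₁ N) (h₂ : Rep σ emb γ₂ N) :
    Cfsg.IsConjUnder (Cfsg.inndiagPSU n F q) γ₁ γ₂ := by
  obtain ⟨D₁⟩ := h₁
  obtain ⟨D₂⟩ := h₂
  have hr := D₁.ratio_fixed (by omega) (sigma_sigma hF hσ) he D₂
  rw [hσ] at hr
  obtain ⟨t, ht⟩ := exists_norm_eq hF hr
  obtain ⟨g, -, hg⟩ := D₁.push hF hn hσ he D₂ 1 1
    (by rw [transpose_one, Matrix.one_mul, Matrix.mul_one, one_smul]) t
    (by rw [map_one, mul_one, ht, div_mul_cancel₀ _ D₂.hθ])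
  refine ⟨cj g, (mem_inndiag _).2 ⟨g, rfl⟩, ?_⟩
  rw [hg, mul_inv_cancel_right]

/-- Conjugate graph automorphisms have matrices congruent up to scalars. -/
theorem congrS_of_isConj (hF : Fintype.card F = q ^ 2) (hn : 3 ≤ n) (hσ : ∀ x, σ x = x ^ q)
    (he : ∀ y, σ y = y ↔ y ∈ emb.range) {N₁ : Matrix κ κ F₀} {N₂ : Matrix μ μ F₀}
    (h₁ : Rep σ emb γ₁ N₁) (h₂ : Rep σ emb γ₂ N₂)
    (h : Cfsg.IsConjUnder (Cfsg.inndiagPSU n F q) γ₁ γ₂) : CongrS N₂ N₁ := by
  obtain ⟨D₁⟩ := h₁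
  obtain ⟨D₂⟩ := h₂
  obtain ⟨δ, hδ, e⟩ := h
  obtain ⟨g, rfl⟩ := (mem_inndiag _).1 hδ
  obtain ⟨t, P, u, hu, -, hP, -⟩ := D₁.descend hF hn hσ he D₂ g (
    ((congrArg (· * cj g) e).trans (inv_mul_cancel_right _ _)).symm)
  refine ⟨u, hu, congr_of_gram P hP ?_ (D₂.card_eq.trans D₁.card_eq.symm)⟩
  rw [det_smul]
  exact mul_ne_zero (pow_ne_zero _ hu) D₁.det_ne_zero

/-- The similitudes of a matrix. -/
def simGroup (N : Matrix κ κ F₀) : Subgroup (GL κ F₀) where
  carrier := {x | ∃ c : F₀, (x : Matrix κ κ F₀)ᵀ * N * (x : Matrix κ κ F₀) = c • N}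
  one_mem' := ⟨1, by simp⟩
  mul_mem' := by
    rintro x y ⟨c, hc⟩ ⟨d, hd⟩
    refine ⟨c * d, ?_⟩
    calc ((x * y : GL κ F₀) : Matrix κ κ F₀)ᵀ * N * ((x * y : GL κ F₀) : Matrix κ κ F₀)
        = (y : Matrix κ κ F₀)ᵀ * ((x : Matrix κ κ F₀)ᵀ * N * (x : Matrix κ κ F₀)) * (y : Matrix κ κ F₀) := by
          rw [Units.val_mul, transpose_mul]; simp only [Matrix.mul_assoc]
      _ = _ := by rw [hc, Matrix.mul_smul, Matrix.smul_mul, hd, smul_smul]
  inv_mem' := by
    rintro x ⟨c, hc⟩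
    have e : N = c • (((x⁻¹ : GL κ F₀) : Matrix κ κ F₀)ᵀ * N * ((x⁻¹ : GL κ F₀) : Matrix κ κ F₀)) := by
      rw [← Matrix.smul_mul, ← Matrix.mul_smul, ← hc, ← Matrix.mul_assoc, ← Matrix.mul_assoc,
        ← transpose_mul, Units.mul_inv, transpose_one, Matrix.one_mul, Matrix.mul_assoc,
        Units.mul_inv, Matrix.mul_one]
    rcases eq_or_ne c 0 with rfl | hc0
    · refine ⟨0, ?_⟩
      rw [zero_smul] at e
      rw [e]; simp
    · refine ⟨c⁻¹, ?_⟩
      conv_rhs => rw [e]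
      rw [inv_smul_smul₀ hc0]

theorem mem_simGroup (N : Matrix κ κ F₀) (x : GL κ F₀) :
    x ∈ simGroup N ↔ ∃ c : F₀, (x : Matrix κ κ F₀)ᵀ * N * (x : Matrix κ κ F₀) = c • N := Iff.rfl

theorem sim_ne_zero {N : Matrix κ κ F₀} (hd : N.det ≠ 0) (hκ : Nonempty κ) {x : GL κ F₀} {c : F₀}
    (hc : (x : Matrix κ κ F₀)ᵀ * N * (x : Matrix κ κ F₀) = c • N) : c ≠ 0 := fun h => by
  have e := congrArg Matrix.det hc
  rw [det_mul, det_mul, det_transpose, h, zero_smul, det_zero] at e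
  simp [hd, ((Matrix.isUnit_iff_isUnit_det _).1 x.isUnit).ne_zero] at e

theorem exists_mult (hF : Fintype.card F = q ^ 2) (hσ : ∀ x, σ x = x ^ q)
    (he : ∀ y, σ y = y ↔ y ∈ emb.range) {u : F₀} (hu : u ≠ 0) :
    ∃ t : F, t ^ (q + 1) * emb u = 1 := by
  obtain ⟨t, ht⟩ := exists_norm_eq hF (a := (emb u)⁻¹) (by rw [inv_pow, pow_q_fixed hσ he])
  exact ⟨t, by rw [ht, inv_mul_cancel₀ ((map_ne_zero emb).2 hu)]⟩

/-- The centraliser in `PGU` is the projective similitude group. -/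
theorem centralizer_equiv (hF : Fintype.card F = q ^ 2) (hn : 3 ≤ n) (hσ : ∀ x, σ x = x ^ q)
    (he : ∀ y, σ y = y ↔ y ∈ emb.range) {N : Matrix κ κ F₀} (h : Rep σ emb γ N)
    (S : Subgroup (GL κ F₀))
    (hS : ∀ x, x ∈ S ↔ ∃ c : F₀, (x : Matrix κ κ F₀)ᵀ * N * (x : Matrix κ κ F₀) = c • N) :
    Nonempty (↥(Cfsg.inndiagPSU n F q ⊓ Subgroup.centralizer {γ}) ≃* Cfsg.projQuot S) := by
  obtain ⟨D⟩ := h
  haveI hκ : Nonempty κ := Fintype.card_pos_iff.1 (by rw [D.card_eq]; omega)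
  have hel : ∀ x : S, ∃ (g : GU n F q) (t : F), t ≠ 0 ∧
      gMat g = t • (D.b * ((x : GL κ F₀) : Matrix κ κ F₀).map emb * D.b') ∧
      cj g * γ = γ * cj g := by
    intro x
    obtain ⟨c, hc⟩ := (hS _).1 x.2
    obtain ⟨t, ht⟩ := exists_mult hF hσ he (sim_ne_zero D.det_ne_zero hκ hc)
    obtain ⟨g, hg, hcomm⟩ := D.push hF hn hσ he D _ c hc t (by linear_combination D.θ * ht)
    exact ⟨g, t, fun h0 => gMat_ne_zero (by omega) g (by rw [hg, h0, zero_smul]), hg, hcomm⟩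
  choose el tt htt hel hcom using hel
  have hmul : ∀ x y, (cj (el (x * y)) : MulAut (PSU n F q)) = cj (el x) * cj (el y) := by
    intro x y
    rw [← map_mul, cj_eq_cj hF hn, gMat_mul, hel, hel, hel]
    refine ⟨tt (x * y) / (tt x * tt y), ?_⟩
    rw [Matrix.smul_mul, Matrix.mul_smul, smul_smul, smul_smul, mul_assoc,
      div_mul_cancel₀ _ (mul_ne_zero (htt x) (htt y))]
    congr 1
    rw [Subgroup.coe_mul, Units.val_mul, emb_mul]
    calc D.b * (((x : GL κ F₀) : Matrix κ κ F₀).map emb * ((y : GL κ F₀) : Matrix κ κ F₀).map emb) * D.b'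
        = D.b * ((x : GL κ F₀) : Matrix κ κ F₀).map emb * (D.b' * D.b) *
            ((y : GL κ F₀) : Matrix κ κ F₀).map emb * D.b' := by
          rw [D.hb', Matrix.mul_one]; simp only [Matrix.mul_assoc]
      _ = _ := by simp only [Matrix.mul_assoc]
  let ρ : S →* MulAut (PSU n F q) := MonoidHom.mk' (fun x => cj (el x)) hmul
  refine AutPSLField.equiv_of_range ρ _ ?_ _ ?_
  · ext β
    simp only [MonoidHom.mem_range, Subgroup.mem_inf, mem_inndiag,
      Subgroup.mem_centralizer_singleton_iff]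
    constructor
    · rintro ⟨x, rfl⟩
      exact ⟨⟨_, rfl⟩, hcom x⟩
    · rintro ⟨⟨g, rfl⟩, hc⟩
      obtain ⟨t, P, u, hu, hg, hP, -⟩ := D.descend hF hn hσ he D g hc
      have hdP : P.det ≠ 0 := fun h0 => by
        have e := congrArg Matrix.det hP
        rw [det_mul, det_mul, det_transpose, h0, det_smul] at e
        simp [D.det_ne_zero, hu] at e
      let x : GL κ F₀ := Matrix.GeneralLinearGroup.mkOfDetNeZero P hdP
      have hx : x ∈ S := (hS _).2 ⟨u, hP⟩
      refine ⟨⟨x, hx⟩, ?_⟩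
      show cj (el ⟨x, hx⟩) = cj g
      rw [cj_eq_cj hF hn, hel, hg]
      have ht : t ≠ 0 := fun h0 => gMat_ne_zero (by omega) g (by rw [hg, h0, zero_smul])
      refine ⟨tt ⟨x, hx⟩ / t, ?_⟩
      rw [smul_smul, div_mul_cancel₀ _ ht]
      rfl
  · ext x
    rw [MonoidHom.mem_ker, Subgroup.mem_subgroupOf]
    show cj (el x) = 1 ↔ _
    rw [cj_eq_one_iff hF hn, Cfsg.Geo.mem_scalars_iff, Cfsg.Geo.mem_scalars_iff]
    constructor
    · rintro ⟨c, hc⟩
      have hc' : gMat (el x) = (c : F) • (1 : Matrix (Fin n) (Fin n) F) := hc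
      rw [hel] at hc'
      have e := congrArg (fun M => D.b' * M * D.b) hc'
      simp only [Matrix.mul_smul, Matrix.smul_mul, Matrix.mul_one, D.hb', ← Matrix.mul_assoc,
        Matrix.one_mul] at e
      rw [Matrix.mul_assoc _ D.b' D.b, D.hb', Matrix.mul_one] at e
      obtain ⟨k⟩ := hκ
      have hkk := congrFun (congrFun e k) k
      simp only [Matrix.smul_apply, Matrix.map_apply, smul_eq_mul, one_apply_eq, mul_one] at hkk
      refine ⟨Units.mk0 (((x : GL κ F₀) : Matrix κ κ F₀) k k) (fun h0 => c.ne_zero (by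
        rw [← hkk, h0, map_zero, mul_zero])), ?_⟩
      apply emb_injective (emb := emb)
      refine smul_right_injective _ (htt x) ?_
      show tt x • _ = tt x • _
      rw [e, emb_smul, Matrix.map_one emb (map_zero emb) (map_one emb), smul_smul, Units.val_mk0,
        hkk]
    · rintro ⟨c, hc⟩
      refine ⟨Units.mk0 (tt x * emb c) (mul_ne_zero (htt x) ((map_ne_zero emb).2 c.ne_zero)), ?_⟩
      show gMat (el x) = _
      rw [hel, hc, emb_smul, Matrix.map_one emb (map_zero emb) (map_one emb), Matrix.mul_smul,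
        Matrix.smul_mul, smul_smul, Matrix.mul_one, D.hb, Units.val_mk0]

/-- When every scalar is a square the projective similitude group is the isometry group. -/
theorem projQuot_equiv_isometry (h2 : (2 : F₀) = 0) (hsq : ∀ c : F₀, IsSquare c)
    {N : Matrix κ κ F₀} (hd : N.det ≠ 0) [Nonempty κ] {G : Type*} [Group G] (φ : G →* GL κ F₀)
    (hinj : Function.Injective φ)
    (hφ : ∀ x : GL κ F₀,
      x ∈ φ.range ↔ (x : Matrix κ κ F₀)ᵀ * N * (x : Matrix κ κ F₀) = N) :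
    Nonempty (Cfsg.projQuot (simGroup N) ≃* G) := by
  have hmem : ∀ g, φ g ∈ simGroup N := fun g => ⟨1, by rw [one_smul]; exact (hφ _).1 ⟨g, rfl⟩⟩
  let ρ : G →* Cfsg.projQuot (simGroup N) := (QuotientGroup.mk' _).comp (φ.codRestrict _ hmem)
  have hN : N ≠ 0 := fun h => hd (by rw [h, det_zero])
  have hρ : Function.Bijective ρ := by
    constructor
    · rw [injective_iff_map_eq_one]
      intro g hg
      obtain ⟨c, hc⟩ := (Cfsg.Geo.mem_scalars_iff _).1
        (Subgroup.mem_subgroupOf.1 ((QuotientGroup.eq_one_iff _).1 hg))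
      have hc' : (φ g : Matrix κ κ F₀) = (c : F₀) • 1 := hc
      have h3 := (hφ _).1 ⟨g, rfl⟩
      rw [hc', transpose_smul, transpose_one, Matrix.smul_mul, Matrix.one_mul, Matrix.smul_mul,
        Matrix.mul_smul, Matrix.mul_one, smul_smul] at h3
      conv_rhs at h3 => rw [← one_smul F₀ N]
      have hc1 : (c : F₀) = 1 := by
        rcases mul_self_eq_one_iff.1 (smul_left_injective F₀ hN h3) with h | h
        · exact h
        · rw [h]; linear_combination -h2
      exact hinj (by rw [map_one]; exact Units.ext (by rw [hc', hc1, one_smul]; rfl))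
    · intro y
      obtain ⟨⟨x, c, hc⟩, rfl⟩ := QuotientGroup.mk_surjective y
      obtain ⟨r, rfl⟩ := hsq c
      have hr : r ≠ 0 := fun h => sim_ne_zero hd inferInstance hc (by rw [h, mul_zero])
      let z : GL κ F₀ := Units.map (Matrix.scalar κ : F₀ →+* Matrix κ κ F₀).toMonoidHom (Units.mk0 r hr)⁻¹
      obtain ⟨g, hg⟩ : x * z ∈ φ.range := by
        rw [hφ, Units.val_mul]
        have hz : (z : Matrix κ κ F₀) = r⁻¹ • 1 := by simp [z, Matrix.smul_one_eq_diagonal]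
        rw [hz, Matrix.mul_smul, Matrix.mul_one, transpose_smul, Matrix.smul_mul, Matrix.smul_mul,
          Matrix.mul_smul, hc, smul_smul, smul_smul]
        rw [show r⁻¹ * r⁻¹ * (r * r) = 1 by field_simp, one_smul]
      refine ⟨g, QuotientGroup.eq.2 ?_⟩
      rw [Subgroup.mem_subgroupOf]
      show (φ g)⁻¹ * x ∈ _
      rw [hg, _root_.mul_inv_rev, inv_mul_cancel_right]
      exact inv_mem ⟨_, rfl⟩
  exact ⟨(MulEquiv.ofBijective ρ hρ).symm⟩

/-- The centraliser when every scalar of the small field is a square. -/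
theorem centralizer_equiv_isometry (hF : Fintype.card F = q ^ 2) (hn : 3 ≤ n)
    (hσ : ∀ x, σ x = x ^ q) (he : ∀ y, σ y = y ↔ y ∈ emb.range) {N : Matrix κ κ F₀}
    (h : Rep σ emb γ N) (h2 : (2 : F₀) = 0) (hsq : ∀ c : F₀, IsSquare c) {G : Type*} [Group G]
    (φ : G →* GL κ F₀) (hinj : Function.Injective φ)
    (hφ : ∀ x : GL κ F₀,
      x ∈ φ.range ↔ (x : Matrix κ κ F₀)ᵀ * N * (x : Matrix κ κ F₀) = N) :
    Nonempty (↥(Cfsg.inndiagPSU n F q ⊓ Subgroup.centralizer {γ}) ≃* G) := by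
  obtain ⟨D⟩ := h
  have : Nonempty κ := Fintype.card_pos_iff.1 (by rw [D.card_eq]; omega)
  obtain ⟨e1⟩ := centralizer_equiv hF hn hσ he ⟨D⟩ (simGroup N) (mem_simGroup N)
  obtain ⟨e2⟩ := projQuot_equiv_isometry h2 hsq D.det_ne_zero φ hinj hφ
  exact ⟨e1.trans e2⟩

/-- Every involutory graph automorphism has a matrix. -/
theorem exists_rep (hF : Fintype.card F = q ^ 2) (hn : 3 ≤ n) (hσ : ∀ x, σ x = x ^ q)
    (hσ2 : orderOf σ = 2) (he : ∀ y, σ y = y ↔ y ∈ emb.range)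
    (hγ : Cfsg.IsGraphAutClassPSU γ) (hγ2 : orderOf γ = 2) :
    ∃ N : Matrix (Fin n) (Fin n) F₀, Rep σ emb γ N ∧ (Nᵀ = N ∨ Nᵀ = -N) := by
  obtain ⟨-, δ, φ, τ, hτ, hδ, hφ, rfl⟩ := hγ
  obtain ⟨a, rfl⟩ := (isInnerDiagonal_iff _).1 hδ
  obtain rfl := (isField_iff _ _).1 hφ
  have h2 : (cj a * fd τ) * (cj a * fd τ) = (1 : MulAut (PSU n F q)) := by
    have := pow_orderOf_eq_one (cj a * fd τ : MulAut (PSU n F q))
    rwa [hγ2, pow_two] at this
  rw [mul_assoc, ← mul_assoc (fd τ), fd_mul_cj, ← mul_assoc, ← mul_assoc, ← map_mul cj, mul_assoc,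
    ← map_mul fd] at h2
  obtain ⟨hsc, hττ⟩ := cj_fd_eq_one hF hn h2
  have hτ2 : orderOf τ = 2 := by
    refine orderOf_eq_prime (by rw [pow_two]; exact hττ) ?_
    rintro rfl
    simp at hτ
  obtain rfl : τ = σ := RingEquiv.ext fun x => (pow_q_of_invol hF hτ2 x).trans (hσ x).symm
  obtain ⟨c, hc⟩ := (Cfsg.Geo.mem_scalars_iff _).1 hsc
  set A := gMat a with hA
  have hAc : A * A.map τ = (c : F) • 1 := by
    have : gMat (a * gmU τ a) = (c : F) • 1 := hc
    rwa [gMat_mul, coe_gmU] at this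
  have hU := gMat_unitary τ hσ a
  rw [← hA] at hU
  have hU' : A.map τ * Aᵀ = 1 := mul_eq_one_comm.1 hU
  have hAT : A = (c : F) • Aᵀ := by
    calc A = A * (A.map τ * Aᵀ) := by rw [hU', Matrix.mul_one]
      _ = _ := by rw [← Matrix.mul_assoc, hAc, Matrix.smul_mul, Matrix.one_mul]
  haveI : Nonempty (Fin n) := ⟨⟨0, by omega⟩⟩
  have hcc : (c : F) = 1 ∨ (c : F) = -1 := by
    refine mul_self_eq_one_iff.1 (smul_left_injective F (gMat_ne_zero (by omega) a) ?_)
    show ((c : F) * c) • A = (1 : F) • A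
    rw [one_smul]
    conv_rhs => rw [hAT, hAT, transpose_smul, transpose_transpose, smul_smul]
  have hcq : (c : F) ^ q = c := by
    rcases hcc with h | h <;> rw [h]
    · exact one_pow q
    · rw [neg_pow_q hF, one_pow]
  obtain ⟨t, ht⟩ := exists_norm_eq hF hcq
  have hc2 : (c : F) * c = 1 := by rcases hcc with h | h <;> rw [h] <;> ring
  have ht0 : t ≠ 0 := fun h0 => c.ne_zero (by rw [← ht, h0, zero_pow (Nat.succ_ne_zero q)])
  set tu : Fˣ := Units.mk0 t ht0
  set A' : GL (Fin n) F := Matrix.GeneralLinearGroup.scalar (Fin n) tu * (a : GL (Fin n) F) with hA'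
  have hA'c : (A' : Matrix (Fin n) (Fin n) F) = t • A := by
    rw [hA', Units.val_mul, Matrix.GeneralLinearGroup.coe_scalar, Matrix.scalar_apply,
      ← Matrix.smul_one_eq_diagonal, Matrix.smul_mul, Matrix.one_mul]
    rfl
  have hA'n : GaloisDescentGL.ntw τ A' (orderOf τ) = 1 := by
    rw [hσ2]
    show A' * GaloisDescentGL.gmap τ (A' * GaloisDescentGL.gmap τ 1) = 1
    rw [map_one, mul_one]
    apply Units.ext
    rw [Units.val_mul, GaloisDescentGL.coe_gmap, hA'c, map_smul', Matrix.smul_mul, Matrix.mul_smul,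
      hAc, smul_smul, smul_smul, hσ, ← pow_succ', ht, hc2, one_smul, Units.val_one]
  obtain ⟨b, hb⟩ := GaloisDescentGL.hilbert90 τ A' hA'n
  set B : Matrix (Fin n) (Fin n) F := (b : Matrix (Fin n) (Fin n) F) with hB
  have hAB : A * B.map τ = t⁻¹ • B := by
    have e1 : A' * GaloisDescentGL.gmap τ b = b := by rw [hb, inv_mul_cancel_right]
    have e := congrArg Units.val e1
    rw [Units.val_mul, GaloisDescentGL.coe_gmap, hA'c, Matrix.smul_mul] at e
    conv_rhs => rw [hB, ← e, inv_smul_smul₀ ht0]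
  set M := Bᵀ * B.map τ with hM
  have hB' : B = t • (A * B.map τ) := by rw [hAB, smul_inv_smul₀ ht0]
  have hMT : Mᵀ = (c : F) • M := by
    have e1 : Mᵀ = t • ((B.map τ)ᵀ * A * B.map τ) := by
      rw [hM, transpose_mul, transpose_transpose]
      refine (congrArg ((B.map τ)ᵀ * ·) hB').trans ?_
      show (B.map τ)ᵀ * (t • (A * B.map τ)) = _
      rw [Matrix.mul_smul, Matrix.mul_assoc]
    have e2 : M = t • ((B.map τ)ᵀ * Aᵀ * B.map τ) := by
      rw [hM]
      refine (congrArg (·ᵀ * B.map τ) hB').trans ?_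
      show (t • (A * B.map τ))ᵀ * B.map τ = _
      rw [transpose_smul, transpose_mul, Matrix.smul_mul]
    rw [e1, e2]
    conv_lhs => rw [hAT]
    rw [Matrix.mul_smul, Matrix.smul_mul, smul_comm]
  have hσM : M.map τ = (c : F) • M := by
    rw [← hMT, hM, map_mul', map_map' (sigma_sigma hF hσ), transpose_mul, transpose_transpose,
      transpose_map]
  obtain ⟨θ, hθ0, hθ⟩ : ∃ θ : F, θ ≠ 0 ∧ τ θ = (c : F) * θ := by
    rcases hcc with h | h
    · exact ⟨1, one_ne_zero, by rw [map_one, h, one_mul]⟩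
    · obtain ⟨θ, h0, hθ⟩ := exists_skew hF
      exact ⟨θ, h0, by rw [hσ, h]; linear_combination hθ⟩
  obtain ⟨N, hN⟩ := exists_preimage he (M := θ⁻¹ • M) (by
    rw [map_smul', hσM, map_inv₀, hθ, smul_smul]
    congr 1
    field_simp)
  refine ⟨N, ⟨⟨B, ((b⁻¹ : GL (Fin n) F) : Matrix (Fin n) (Fin n) F), θ, t⁻¹, a, b.mul_inv,
    b.inv_mul, hθ0, ?_, hAB, rfl⟩⟩, ?_⟩
  · rw [hN, smul_inv_smul₀ hθ0]
  · have e : Nᵀ.map emb = (c : F) • N.map emb := by
      rw [← emb_transpose, hN, transpose_smul, hMT, smul_comm]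
    rcases hcc with h | h
    · exact Or.inl (emb_injective (emb := emb) (by rw [e, h, one_smul]))
    · refine Or.inr (emb_injective (emb := emb) ?_)
      rw [e, h, neg_one_smul]
      ext i j
      simp

/-- Every non-degenerate symmetric or skew matrix represents an involutory graph automorphism. -/
theorem exists_of_form (hF : Fintype.card F = q ^ 2) (hn : 3 ≤ n) (hσ : ∀ x, σ x = x ^ q)
    (hσ2 : orderOf σ = 2) (he : ∀ y, σ y = y ↔ y ∈ emb.range) (N : Matrix κ κ F₀)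
    (hd : N.det ≠ 0) (hc : Fintype.card κ = n) (hN : Nᵀ = N ∨ Nᵀ = -N) :
    ∃ γ : MulAut (PSU n F q), Cfsg.IsGraphAutClassPSU γ ∧ orderOf γ = 2 ∧ Rep σ emb γ N := by
  classical
  obtain ⟨ε, θ, hε, hθ0, hθ, hNT⟩ : ∃ ε θ : F, ε * ε = 1 ∧ θ ≠ 0 ∧ σ θ = ε * θ ∧
      Nᵀ.map emb = ε • N.map emb := by
    rcases hN with h | h
    · exact ⟨1, 1, one_mul 1, one_ne_zero, by rw [map_one, one_mul], by rw [h, one_smul]⟩
    · obtain ⟨θ, h0, hθ⟩ := exists_skew hF
      refine ⟨-1, θ, by ring, h0, by rw [hσ]; linear_combination hθ, ?_⟩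
      rw [h]
      ext i j
      simp
  set H := θ • N.map emb with hH
  have hσH : H.map σ = ε • H := by rw [hH, map_smul', map_emb he, hθ, mul_smul]
  have hHT : Hᵀ = ε • H := by rw [hH, transpose_smul, emb_transpose, hNT, smul_comm]
  have hdH : H.det ≠ 0 := by
    rw [hH, det_smul, show (N.map emb).det = emb N.det from (emb.map_det N).symm]
    exact mul_ne_zero (pow_ne_zero _ hθ0) ((map_ne_zero emb).2 hd)
  let β : (κ → F) → (κ → F) → F := fun u v => u ⬝ᵥ (H *ᵥ (σ ∘ v))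
  have hβT : ∀ u v, β v u = β u v ^ q := by
    intro u v
    show v ⬝ᵥ (H *ᵥ (σ ∘ u)) = (u ⬝ᵥ (H *ᵥ (σ ∘ v))) ^ q
    rw [← hσ]
    have e : σ (u ⬝ᵥ (H *ᵥ (σ ∘ v))) = (σ ∘ u) ⬝ᵥ (H.map σ *ᵥ v) := by
      simp only [dotProduct, mulVec, map_sum, map_mul, Function.comp_apply, Matrix.map_apply,
        sigma_sigma hF hσ]
    rw [e, hσH, ← hHT, mulVec_transpose, dotProduct_comm (σ ∘ u), dotProduct_mulVec]
  have hnd : ∀ u ∈ (⊤ : Submodule F (κ → F)), (∀ v ∈ (⊤ : Submodule F (κ → F)), β u v = 0) → u = 0 := by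
    intro u _ h
    have h0 : u ᵥ* H = 0 := by
      funext k
      have e := h (Pi.single k 1) trivial
      show (u ᵥ* H) k = 0
      have e1 : σ ∘ (Pi.single k (1 : F)) = Pi.single k 1 := by
        funext i
        rcases eq_or_ne i k with rfl | hik
        · simp
        · simp [Pi.single_eq_of_ne hik]
      simpa [β, e1, dotProduct_mulVec] using e
    exact eq_zero_of_vecMul_eq_zero hdH h0
  obtain ⟨e, -, he1⟩ := exists_orthonormal hF β (fun x y v => add_dotProduct _ _ _)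
    (fun c x v => smul_dotProduct _ _ _) hβT n ⊤
    (by rw [finrank_top, Module.finrank_fintype_fun_eq_card, hc]) hnd
  let E : Matrix κ (Fin n) F := Matrix.of fun k i => e i k
  have hE : Eᵀ * (H * E.map σ) = 1 := by
    ext i j
    rw [one_apply, ← he1 i j]
    simp only [β, Matrix.mul_apply, dotProduct, mulVec, E, Matrix.transpose_apply,
      Matrix.of_apply, Matrix.map_apply, Function.comp_apply]
  set b := (H * E.map σ)ᵀ with hb
  have hbE : b * E = 1 := by
    rw [hb, ← transpose_transpose E, ← transpose_mul, transpose_transpose, hE, transpose_one]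
  have hEb : E * b = 1 := (Matrix.mul_eq_one_comm_of_equiv (Fintype.equivFinOfCardEq hc).symm).1 hbE
  have hbb : bᵀ * b.map σ = H := by
    calc bᵀ * b.map σ = bᵀ * (Eᵀ * (H * E.map σ)) * b.map σ := by rw [hE, Matrix.mul_one]
      _ = (E * b)ᵀ * H * (E * b).map σ := by
          rw [transpose_mul, map_mul']; simp only [Matrix.mul_assoc]
      _ = H := by rw [hEb, transpose_one, map_one', Matrix.one_mul, Matrix.mul_one]
  have hεq : ε ^ q = ε := by
    rcases mul_self_eq_one_iff.1 hε with h | h <;> rw [h]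
    · exact one_pow q
    · rw [neg_pow_q hF, one_pow]
  obtain ⟨s, hs⟩ := exists_norm_eq hF hεq
  have hss : s * σ s = ε := by rw [hσ, ← pow_succ', hs]
  have hσσ := sigma_sigma hF hσ
  have hEσ : (E.map σ)ᵀ * H * E = ε • (1 : Matrix (Fin n) (Fin n) F) := by
    have e := congrArg (fun M : Matrix (Fin n) (Fin n) F => M.map σ) hE
    simp only [map_mul', map_one', map_map' hσσ, hσH, Matrix.smul_mul,
      Matrix.mul_smul] at e
    rw [Matrix.mul_assoc, ← e, smul_smul, hε, one_smul]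
    rfl
  set A := s • (b * E.map σ) with hA
  have hσA : A.map σ = σ s • (b.map σ * E) := by rw [hA, map_smul', map_mul', map_map' hσσ]
  have hU : IsU q A := by
    rw [isU_iff σ hσ, hσA, hA, transpose_smul, transpose_mul, Matrix.smul_mul, Matrix.mul_smul,
      smul_smul, hss]
    calc ε • ((E.map σ)ᵀ * bᵀ * (b.map σ * E))
        = ε • ((E.map σ)ᵀ * (bᵀ * b.map σ) * E) := by simp only [Matrix.mul_assoc]
      _ = 1 := by rw [hbb, hEσ, smul_smul, hε, one_smul]
  set a := mkGU hF A hU with ha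
  have hga : gMat a = A := mkGU_coe hF A hU
  have hσbE : E.map σ * b.map σ = 1 := by rw [← map_mul', hEb, map_one']
  have hab : gMat a * b.map σ = s • b := by
    rw [hga, hA, Matrix.smul_mul, Matrix.mul_assoc, hσbE, Matrix.mul_one]
  refine ⟨cj a * fd σ, ⟨hn, cj a, fd σ, σ, ⟨1, hσ2⟩, (isInnerDiagonal_iff _).2 ⟨a, rfl⟩,
    (isField_iff _ _).2 rfl, rfl⟩, orderOf_eq_prime ?_ ?_, ⟨⟨b, E, θ, s, a, hbE, hEb, hθ0, hbb, hab, rfl⟩⟩⟩
  · have hσ1 : σ * σ = 1 := RingEquiv.ext hσσ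
    rw [pow_two, mul_assoc, ← mul_assoc (fd σ), fd_mul_cj, ← mul_assoc, ← mul_assoc, ← map_mul cj,
      mul_assoc, ← map_mul fd, hσ1, map_one, mul_one]
    refine cj_scalar ((Cfsg.Geo.mem_scalars_iff _).2
      ⟨Units.mk0 ε (left_ne_zero_of_mul_eq_one hε), ?_⟩)
    show gMat (a * gmU σ a) = _
    rw [gMat_mul, coe_gmU, hga, hσA, Matrix.mul_smul, hA, Matrix.smul_mul, smul_smul, mul_comm (σ s),
      hss, Units.val_mk0]
    congr 1
    rw [Matrix.mul_assoc, ← Matrix.mul_assoc (E.map σ), hσbE, Matrix.one_mul, hbE]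
  · intro h
    have := (cj_fd_eq_one hF hn h).2
    rw [this, orderOf_one] at hσ2
    exact absurd hσ2 (by norm_num)

end Fintype

end Cfsg.Agent.AutPSU52Graph
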