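import Mathlib
import Cfsg.Prelude.Def_LieTypeDatum
import Cfsg.Agent.Lib.AutPSU52Graph
import Cfsg.Agent.Lib.AutPSLGraphForms
import Cfsg.Agent.Lib.OrthUnitaryForms

/-!
Determinants of the centralisers of involutory graph automorphisms of `PSU`, and the two or three
types of the forms attached to them in even dimension.
-/

set_option autoImplicit false
set_option linter.unusedSectionVars false

namespace Cfsg.Agent.AutPSU52GraphSplit

open Matrix
open Cfsg.Agent.OrthUnitaryHerm Cfsg.Agent.OrthUnitaryTransvection Cfsg.Agent.OrthUnitaryPSU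
open Cfsg.Agent.AutPSU52Basic Cfsg.Agent.AutPSU52Semilin Cfsg.Agent.AutPSU52Api
open Cfsg.Agent.AutPSU52Field Cfsg.Agent.AutPSU52Graph Cfsg.Agent.FormCongruence
open scoped MatrixGroups

variable {F : Type*} [Field F] [Fintype F] {q n : ℕ} {F₀ : Type*} [Field F₀]
  {σ : F ≃+* F} {emb : F₀ →+* F} {γ : MulAut (PSU n F q)}

/-- The determinants of the centraliser. -/
noncomputable def detCent (hF : Fintype.card F = q ^ 2) (hn : 1 ≤ n) (γ : MulAut (PSU n F q)) :
    Subgroup (mu q F) :=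
  ((Subgroup.centralizer ({γ} : Set (MulAut (PSU n F q)))).comap cj).map (detMu hF hn)

theorem mem_detCent_scalar (hF : Fintype.card F = q ^ 2) (hn : 1 ≤ n) :
    (powMonoidHom n : mu q F →* mu q F).range ≤ detCent hF hn γ := by
  rintro _ ⟨c, rfl⟩
  refine ⟨scalarU c, ?_, detMu_scalarU hF hn c⟩
  rw [SetLike.mem_coe, Subgroup.mem_comap, cj_scalarU]
  exact one_mem _

/-- The number of inner classes in an inner-diagonal class. -/
theorem split_eq (hF : Fintype.card F = q ^ 2) (hn : 1 ≤ n) (γ : MulAut (PSU n F q)) :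
    Cfsg.splitClassCount (Cfsg.inndiagPSU n F q) (Cfsg.Inn (PSU n F q)) γ
      = (detCent hF hn γ).index := by
  classical
  set K₀ := ((powMonoidHom n : mu q F →* mu q F).range).comap (detMu (n := n) hF hn) with hK₀
  have hinn : Cfsg.Inn (PSU n F q) = K₀.map cj := by
    rw [inn_eq, range_suToGU]
    apply le_antisymm
    · rintro _ ⟨s, hs, rfl⟩
      refine ⟨s, ?_, rfl⟩
      have : detMu hF hn s = 1 := Subtype.ext (MonoidHom.mem_ker.1 hs)
      rw [SetLike.mem_coe, Subgroup.mem_comap, this]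
      exact one_mem _
    · rintro _ ⟨g, ⟨c, hc⟩, rfl⟩
      refine ⟨(scalarU c)⁻¹ * g, ?_, by rw [map_mul, map_inv, cj_scalarU, inv_one, one_mul]⟩
      have : detMu hF hn ((scalarU c)⁻¹ * g) = 1 := by
        rw [map_mul, map_inv, detMu_scalarU, ← hc, powMonoidHom_apply, inv_mul_cancel]
      exact MonoidHom.mem_ker.2 (congrArg Subtype.val this)
  rw [inndiag_eq, hinn, SplitClassIndex.splitClassCount_eq]
  set C := (Subgroup.centralizer ({γ} : Set (MulAut (PSU n F q)))).comap cj with hC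
  have h1 := Subgroup.index_map (K₀ ⊔ C) (detMu (n := n) hF hn)
  rw [MonoidHom.range_eq_top.2 (detMu_surjective hF hn), Subgroup.index_top, mul_one,
    sup_eq_left.2 ((show (detMu (n := n) hF hn).ker ≤ K₀ from fun g hg => by
      rw [Subgroup.mem_comap, MonoidHom.mem_ker.1 hg]; exact one_mem _).trans
      (le_sup_left : K₀ ≤ K₀ ⊔ C)),
    Subgroup.map_sup, Subgroup.map_comap_eq_self_of_surjective (detMu_surjective hF hn)] at h1
  rw [← h1]
  congr 1
  exact sup_eq_right.2 (mem_detCent_scalar hF hn)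

theorem index_range (hF : Fintype.card F = q ^ 2) (d : ℕ) :
    ((powMonoidHom d : mu q F →* mu q F).range).index = Nat.gcd d (q + 1) := by
  rw [IsCyclic.index_powMonoidHom_range, card_mu hF, Nat.gcd_comm]

theorem mu_val_pow (d : mu q F) : ((d : Fˣ) : F) ^ (q + 1) = 1 := by
  have := congrArg Units.val (MonoidHom.mem_ker.1 d.2)
  simpa using this

theorem mu_ext {d e : mu q F} (h : ((d : Fˣ) : F) = ((e : Fˣ) : F)) : d = e :=
  Subtype.ext (Units.ext h)

theorem exists_mu {x : F} (h : x ^ (q + 1) = 1) : ∃ d : mu q F, ((d : Fˣ) : F) = x := by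
  have hx : x ≠ 0 := fun h0 => by simp [h0] at h
  exact ⟨⟨Units.mk0 x hx, MonoidHom.mem_ker.2 (Units.ext (by simpa using h))⟩, rfl⟩

variable {κ : Type} [Fintype κ] [DecidableEq κ] {N : Matrix κ κ F₀}

theorem mem_detCent (hF : Fintype.card F = q ^ 2) (hn : 3 ≤ n) (hσ : ∀ x, σ x = x ^ q)
    (he : ∀ y, σ y = y ↔ y ∈ emb.range) (D : Dat σ emb γ N) (d : mu q F) :
    d ∈ detCent hF (by omega) γ ↔ ∃ (t : F) (P : Matrix κ κ F₀) (u : F₀),
      Pᵀ * N * P = u • N ∧ t ^ (q + 1) * emb u = 1 ∧ ((d : Fˣ) : F) = t ^ n * emb P.det := by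
  have hdet : ∀ (g : GU n F q) (t : F) (P : Matrix κ κ F₀),
      gMat g = t • (D.b * P.map emb * D.b') → (gMat g).det = t ^ n * emb P.det := by
    intro g t P hg
    rw [hg, det_smul, Fintype.card_fin, Matrix.det_conj_of_mul_eq_one D.hb D.hb']
    exact congrArg _ (emb.map_det P).symm
  constructor
  · rintro ⟨g, hg, rfl⟩
    obtain ⟨t, P, u, -, hgt, hP, ht⟩ := D.descend hF hn hσ he D g
      (Subgroup.mem_centralizer_singleton_iff.1 hg)
    refine ⟨t, P, u, hP, mul_right_cancel₀ D.hθ (by linear_combination ht), ?_⟩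
    exact hdet g t P hgt
  · rintro ⟨t, P, u, hP, ht, hd⟩
    obtain ⟨g, hg, hc⟩ := D.push hF hn hσ he D P u hP t (by linear_combination D.θ * ht)
    exact ⟨g, Subgroup.mem_centralizer_singleton_iff.2 hc,
      mu_ext ((hdet g t P hg).trans hd.symm)⟩

theorem det_sq (D : Dat σ emb γ N) {P : Matrix κ κ F₀} {u : F₀} (hP : Pᵀ * N * P = u • N) :
    P.det ^ 2 = u ^ n := by
  have e := congrArg Matrix.det hP
  rw [det_mul, det_mul, det_transpose, det_smul, D.card_eq] at e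
  exact mul_right_cancel₀ D.det_ne_zero (by linear_combination e)

theorem twist_mu (hσ : ∀ x, σ x = x ^ q) (he : ∀ y, σ y = y ↔ y ∈ emb.range) {t : F} {u : F₀}
    (ht : t ^ (q + 1) * emb u = 1) : (t ^ 2 * emb u) ^ (q + 1) = 1 := by
  rw [mul_pow, ← pow_mul, mul_comm 2, pow_mul, pow_succ (emb u), pow_q_fixed hσ he]
  calc (t ^ (q + 1)) ^ 2 * (emb u * emb u) = (t ^ (q + 1) * emb u) ^ 2 := by ring
    _ = 1 := by rw [ht, one_pow]

/-- Every norm-one scalar is a twisted multiplier. -/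
theorem exists_twist (hF : Fintype.card F = q ^ 2) (hσ : ∀ x, σ x = x ^ q)
    (he : ∀ y, σ y = y ↔ y ∈ emb.range) (w : mu q F) :
    ∃ (t : F) (u : F₀), u ≠ 0 ∧ t ^ (q + 1) * emb u = 1 ∧ t ^ 2 * emb u = ((w : Fˣ) : F) := by
  have hw := mu_val_pow w
  obtain ⟨y, hy0, hy⟩ := exists_hilbert hF (η := ((w : Fˣ) : F)⁻¹) (by rw [inv_pow, hw, inv_one])
  have hN : σ ((y ^ (q + 1))⁻¹) = (y ^ (q + 1))⁻¹ := by
    rw [map_inv₀, hσ, pow_succ, mul_pow, pow_q_q hF, mul_comm y]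
  obtain ⟨u, hu⟩ := (he _).1 hN
  refine ⟨y, u, fun h => ?_, by rw [hu, mul_inv_cancel₀ (pow_ne_zero _ hy0)], ?_⟩
  · rw [h, map_zero, eq_comm, inv_eq_zero] at hu
    exact pow_ne_zero _ hy0 hu
  · rw [hu, pow_two, pow_succ y q, hy, mul_inv, mul_inv, inv_inv]
    field_simp

theorem sq_mem (hF : Fintype.card F = q ^ 2) (hn : 3 ≤ n) (hσ : ∀ x, σ x = x ^ q)
    (he : ∀ y, σ y = y ↔ y ∈ emb.range) (D : Dat σ emb γ N) {d : mu q F}
    (hd : d ∈ detCent hF (by omega) γ) : ∃ w : mu q F, d ^ 2 = w ^ n := by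
  obtain ⟨t, P, u, hP, ht, hd⟩ := (mem_detCent hF hn hσ he D d).1 hd
  obtain ⟨w, hw⟩ := exists_mu (twist_mu hσ he ht)
  refine ⟨w, mu_ext ?_⟩
  simp only [SubmonoidClass.coe_pow, Units.val_pow_eq_pow_val]
  rw [hd, hw, mul_pow, mul_pow, ← map_pow, det_sq D hP, map_pow]
  ring

theorem detCent_eq_range (hF : Fintype.card F = q ^ 2) (hn : 3 ≤ n) (hσ : ∀ x, σ x = x ^ q)
    (he : ∀ y, σ y = y ↔ y ∈ emb.range) (D : Dat σ emb γ N) (h : Odd n ∨ Odd (q + 1)) :
    detCent hF (by omega) γ = (powMonoidHom n : mu q F →* mu q F).range := by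
  refine le_antisymm (fun d hd => ?_) (mem_detCent_scalar hF (by omega))
  obtain ⟨w, hw⟩ := sq_mem hF hn hσ he D hd
  rcases h with ⟨k, hk⟩ | ⟨k, hk⟩
  · refine ⟨d * (w ^ k)⁻¹, ?_⟩
    show (d * (w ^ k)⁻¹) ^ n = d
    have h1 : (d * (w ^ k)⁻¹) ^ 2 = w := by
      rw [mul_pow, hw, inv_pow, ← pow_mul, hk, mul_comm k 2, pow_succ, mul_comm (w ^ (2 * k)),
        mul_inv_cancel_right]
    rw [hk, pow_succ, pow_mul, h1, mul_comm, inv_mul_cancel_right]
  · refine ⟨w ^ (k + 1), ?_⟩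
    show (w ^ (k + 1)) ^ n = d
    rw [← pow_mul, mul_comm, pow_mul, ← hw, ← pow_mul, show 2 * (k + 1) = (q + 1) + 1 by omega,
      pow_succ]
    have h1 : d ^ (q + 1) = 1 := Subtype.ext (MonoidHom.mem_ker.1 d.2)
    rw [h1, one_mul]

/-- Similitudes of the symplectic form have determinant a power of the multiplier. -/
theorem det_sim_J {m : ℕ} {P : Matrix (Fin m ⊕ Fin m) (Fin m ⊕ Fin m) F₀} {u : F₀} (hu : u ≠ 0)
    (hP : Pᵀ * Matrix.J (Fin m) F₀ * P = u • Matrix.J (Fin m) F₀) : P.det = u ^ m := by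
  have hmem : P * Matrix.fromBlocks 1 0 0 (u⁻¹ • 1) ∈ Matrix.symplecticGroup (Fin m) F₀ := by
    rw [SymplecticGroup.mem_iff', transpose_mul]
    calc _ = (Matrix.fromBlocks (1 : Matrix (Fin m) (Fin m) F₀) 0 0 (u⁻¹ • 1))ᵀ *
          (Pᵀ * Matrix.J (Fin m) F₀ * P) *
          Matrix.fromBlocks (1 : Matrix (Fin m) (Fin m) F₀) 0 0 (u⁻¹ • 1) := by
            simp only [Matrix.mul_assoc]
      _ = _ := by
        rw [hP, Matrix.mul_smul, Matrix.smul_mul, AutPSLGraphForms.diag_sim, smul_smul,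
          mul_inv_cancel₀ hu, one_smul]
  have hdet := SymplecticGroup.det_eq_one hmem
  rw [det_mul, AutPSLGraphForms.det_diag, inv_pow] at hdet
  exact (mul_inv_eq_one₀ (pow_ne_zero _ hu)).1 hdet

theorem detCent_skew (hF : Fintype.card F = q ^ 2) (hn : 3 ≤ n) (hσ : ∀ x, σ x = x ^ q)
    (he : ∀ y, σ y = y ↔ y ∈ emb.range) {m : ℕ} (D : Dat σ emb γ (Matrix.J (Fin m) F₀)) :
    detCent hF (by omega) γ = (powMonoidHom m : mu q F →* mu q F).range := by
  have hnm : n = m + m := by have := D.card_eq; simpa using this.symm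
  ext d
  rw [mem_detCent hF hn hσ he D]
  constructor
  · rintro ⟨t, P, u, hP, ht, hd⟩
    have hu : u ≠ 0 := fun h => by simp [h] at ht
    obtain ⟨w, hw⟩ := exists_mu (twist_mu hσ he ht)
    refine ⟨w, mu_ext ?_⟩
    simp only [powMonoidHom_apply, SubmonoidClass.coe_pow, Units.val_pow_eq_pow_val]
    rw [hd, hw, det_sim_J hu hP, map_pow, hnm]
    ring
  · rintro ⟨w, rfl⟩
    obtain ⟨t, u, hu, ht, htw⟩ := exists_twist hF hσ he w
    refine ⟨t, Matrix.fromBlocks 1 0 0 (u • 1), u, AutPSLGraphForms.diag_sim m u, ht, ?_⟩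
    simp only [powMonoidHom_apply, SubmonoidClass.coe_pow, Units.val_pow_eq_pow_val]
    rw [← htw, AutPSLGraphForms.det_diag, map_pow, hnm]
    ring

theorem detCent_sym [Fintype F₀] (hF : Fintype.card F = q ^ 2) (hn : 3 ≤ n)
    (hσ : ∀ x, σ x = x ^ q) (he : ∀ y, σ y = y ↔ y ∈ emb.range) (h2 : (2 : F₀) ≠ 0) {m : ℕ}
    (hnm : n = 2 * m) {N : Matrix (Fin n) (Fin n) F₀} (D : Dat σ emb γ N) (hN : Nᵀ = N) :
    detCent hF (by omega) γ
      = ((powMonoidHom n : mu q F →* mu q F).range).comap (powMonoidHom 2) := by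
  refine le_antisymm (fun d hd => ?_) (fun d hd => ?_)
  · obtain ⟨w, hw⟩ := sq_mem hF hn hσ he D hd
    exact ⟨w, hw.symm⟩
  · obtain ⟨w, hw⟩ := hd
    have hw' : w ^ n = d ^ 2 := hw
    obtain ⟨t, u, hu, ht, htw⟩ := exists_twist hF hσ he w
    let A : GL (Fin n) F₀ := Matrix.GeneralLinearGroup.mkOfDetNeZero N D.det_ne_zero
    obtain ⟨h, hh⟩ := AutPSLGraphForms.exists_sim_mult (A := A) h2 (by omega) hnm hN (Units.mk0 u hu)
    obtain ⟨r, hr, hr'⟩ := AutPSLGraphForms.exists_reflection (A := A) h2 hN (by omega)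
    have hh' : (h : Matrix (Fin n) (Fin n) F₀)ᵀ * N * (h : Matrix (Fin n) (Fin n) F₀) = u • N := hh
    obtain ⟨e, he'⟩ := exists_mu (q := q) (x := t ^ n * emb (h : Matrix (Fin n) (Fin n) F₀).det) (by
      obtain ⟨v, hv⟩ := exists_mu (twist_mu hσ he ht)
      have h1 : (t ^ n * emb (h : Matrix (Fin n) (Fin n) F₀).det) ^ 2
          = ((v : Fˣ) : F) ^ n := by
        rw [hv, mul_pow, mul_pow, ← map_pow, det_sq D hh', map_pow]
        ring
      have h3 : emb (h : Matrix (Fin n) (Fin n) F₀).det ^ q = emb (h : Matrix (Fin n) (Fin n) F₀).det :=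
        pow_q_fixed hσ he _
      have hd2 : emb (h : Matrix (Fin n) (Fin n) F₀).det ^ 2 = emb u ^ n := by
        rw [← map_pow, det_sq D hh', map_pow]
      calc (t ^ n * emb (h : Matrix (Fin n) (Fin n) F₀).det) ^ (q + 1)
          = (t ^ (q + 1)) ^ n * emb (h : Matrix (Fin n) (Fin n) F₀).det ^ 2 := by
            rw [mul_pow, ← pow_mul, mul_comm n, pow_mul, pow_succ (emb _), h3, ← pow_two]
        _ = 1 := by rw [hd2, ← mul_pow, ht, one_pow])
    have hemem : e ∈ detCent hF (by omega) γ :=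
      (mem_detCent hF hn hσ he D e).2 ⟨t, _, u, hh', ht, he'⟩
    obtain ⟨o, ho⟩ := exists_mu (q := q) (x := (-1 : F)) (by
      rw [pow_succ, neg_pow_q hF, one_pow]; ring)
    have homem : o ∈ detCent hF (by omega) γ :=
      (mem_detCent hF hn hσ he D o).2 ⟨1, (r : Matrix (Fin n) (Fin n) F₀), 1,
        by rw [one_smul]; exact hr, by simp, by
          rw [ho, one_pow, one_mul, show (r : Matrix (Fin n) (Fin n) F₀).det = -1 from
            congrArg Units.val hr', map_neg, map_one]⟩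
    have hsq : ((d : Fˣ) : F) ^ 2 = ((e : Fˣ) : F) ^ 2 := by
      have := congrArg (fun x : mu q F => ((x : Fˣ) : F)) hw'
      simp only [SubmonoidClass.coe_pow, Units.val_pow_eq_pow_val] at this
      rw [← this, he', ← htw, mul_pow, mul_pow, ← map_pow emb _ 2, det_sq D hh', map_pow]
      ring
    rcases sq_eq_sq_iff_eq_or_eq_neg.1 hsq with h1 | h1
    · rwa [mu_ext h1]
    · have : d = o * e := mu_ext (by
        rw [h1, Subgroup.coe_mul, Units.val_mul, ho, neg_one_mul])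
      rw [this]
      exact mul_mem homem hemem

theorem index_sym (hF : Fintype.card F = q ^ 2) (hodd : Odd q) {m : ℕ} (hnm : n = 2 * m) :
    (((powMonoidHom n : mu q F →* mu q F).range).comap (powMonoidHom 2)).index
      = Nat.gcd n (q + 1) / 2 := by
  rw [Subgroup.index_comap]
  have hle : (powMonoidHom n : mu q F →* mu q F).range
      ≤ (powMonoidHom 2 : mu q F →* mu q F).range := by
    rintro _ ⟨y, rfl⟩
    exact ⟨y ^ m, show (y ^ m) ^ 2 = y ^ n by rw [← pow_mul, mul_comm, ← hnm]⟩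
  have e := Subgroup.relIndex_mul_index hle
  rw [index_range hF, index_range hF, Nat.gcd_eq_left (Nat.dvd_of_mod_eq_zero (by
    have : q % 2 = 1 := Nat.odd_iff.1 hodd
    omega))] at e
  omega

/-! ### The types in even dimension and odd characteristic -/

theorem classify_even_rep [Fintype F₀] (he : ∀ y, σ y = y ↔ y ∈ emb.range) (h2 : (2 : F₀) ≠ 0)
    {m : ℕ} (hnm : n = 2 * m) {a b : F₀}
    (hab : ∀ z₁ z₂ : F₀, z₁ ^ 2 + a * z₁ * z₂ + b * z₂ ^ 2 = 0 → z₁ = 0 ∧ z₂ = 0)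
    {N : Matrix (Fin n) (Fin n) F₀} (h : Rep σ emb γ N) (hN : Nᵀ = N) :
    Rep σ emb γ (pPlus m F₀) ∨ Rep σ emb γ (pMinus (m - 1) F₀ a b) := by
  obtain ⟨D⟩ := h
  rcases classify_even h2 hnm hab hN D.det_ne_zero with h | h
  · refine Or.inl (Rep.congr he ⟨D⟩ ⟨2⁻¹, inv_ne_zero h2, ?_⟩)
    have := h.smul (2 : F₀)⁻¹
    rwa [inv_smul_smul₀ h2] at this
  · refine Or.inr (Rep.congr he ⟨D⟩ ⟨2⁻¹, inv_ne_zero h2, ?_⟩)
    have := h.smul (2 : F₀)⁻¹
    rwa [inv_smul_smul₀ h2] at this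

theorem rep_J_of_alt (he : ∀ y, σ y = y ↔ y ∈ emb.range) {m : ℕ} (hnm : n = 2 * m)
    {N : Matrix (Fin n) (Fin n) F₀} (h : Rep σ emb γ N) (halt : ∀ v, v ⬝ᵥ (N *ᵥ v) = 0) :
    Rep σ emb γ (Matrix.J (Fin m) F₀) := by
  obtain ⟨D⟩ := h
  obtain ⟨m', hm', h⟩ := classify_alt halt D.det_ne_zero
  obtain rfl : m' = m := by omega
  exact Rep.congr he ⟨D⟩ ⟨1, one_ne_zero, by rwa [one_smul]⟩

theorem alt_of_skew (h2 : (2 : F₀) ≠ 0) {N : Matrix κ κ F₀} (hN : Nᵀ = -N) :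
    ∀ v, v ⬝ᵥ (N *ᵥ v) = 0 := by
  intro v
  have : v ⬝ᵥ (N *ᵥ v) = -(v ⬝ᵥ (N *ᵥ v)) := by
    conv_lhs => rw [dotProduct_mulVec, ← mulVec_transpose, hN, neg_mulVec, neg_dotProduct,
      dotProduct_comm]
  rw [eq_neg_iff_add_eq_zero, ← two_mul] at this
  exact (mul_eq_zero.1 this).resolve_left h2

theorem two_ne_zero_small [Fintype F₀] (hF₀ : Fintype.card F₀ = q) (hodd : Odd q) :
    (2 : F₀) ≠ 0 :=
  OrthUnitaryForms.two_ne_zero_of_odd rfl (hF₀ ▸ hodd)

theorem plus_card_le [Fintype F₀] {m : ℕ} (hm : 1 ≤ m) :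
    Nat.card (isometryGroup F₀ (quadFormPlus m F₀)) ≤
      2 * Fintype.card F₀ ^ (m * (m - 1)) * (Fintype.card F₀ ^ m + 1) *
        ∏ i ∈ Finset.range (m - 1), (Fintype.card F₀ ^ (2 * (i + 1)) - 1) := by
  obtain ⟨k, rfl⟩ : ∃ k, m = k + 1 := ⟨m - 1, by omega⟩
  rw [OrthUnitaryForms.card_isometryGroup_plus rfl, Nat.add_sub_cancel]
  exact Nat.mul_le_mul_right _ (Nat.mul_le_mul_left _ (by omega))

theorem minus_card_le [Fintype F₀] {m : ℕ} (hm : 1 ≤ m) {a b : F₀}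
    (hab : ∀ z₁ z₂ : F₀, z₁ ^ 2 + a * z₁ * z₂ + b * z₂ ^ 2 = 0 → z₁ = 0 ∧ z₂ = 0) :
    Nat.card (isometryGroup F₀ (quadFormMinus (m - 1) F₀ a b)) ≤
      2 * Fintype.card F₀ ^ (m * (m - 1)) * (Fintype.card F₀ ^ m + 1) *
        ∏ i ∈ Finset.range (m - 1), (Fintype.card F₀ ^ (2 * (i + 1)) - 1) := by
  rw [OrthUnitaryForms.card_isometryGroup_minus rfl hab, show m - 1 + 1 = m by omega]

/-- An orthogonal type has no centraliser of symplectic type. -/
theorem not_sp_of_sym [Fintype F₀] (hF : Fintype.card F = q ^ 2) (hn : 3 ≤ n)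
    (hσ : ∀ x, σ x = x ^ q) (he : ∀ y, σ y = y ↔ y ∈ emb.range) (h2 : (2 : F₀) ≠ 0) {m : ℕ}
    (hnm : n = 2 * m) {N : Matrix (Fin n) (Fin n) F₀} (h : Rep σ emb γ N) (hN : Nᵀ = N) :
    ¬ Nonempty (↥(Cfsg.inndiagPSU n F q ⊓ Subgroup.centralizer {γ}) ≃* Cfsg.PGSp m F₀) := by
  rintro ⟨e⟩
  obtain ⟨a, b, hab⟩ := exists_aniso h2
  rcases classify_even_rep he h2 hnm hab h hN with h | h
  · obtain ⟨e'⟩ := centralizer_equiv hF hn hσ he h _ (AutPSLGraphForms.mem_plus_sim h2 m)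
    exact AutPSLGraphForms.not_iso_of_card_isometry (F := F₀) m (by omega) (quadFormPlus m F₀)
      (plus_card_le (by omega)) ⟨e.symm.trans e'⟩
  · obtain ⟨e'⟩ := centralizer_equiv hF hn hσ he h _
      (AutPSLGraphForms.mem_minus_sim h2 (m - 1) hab)
    exact AutPSLGraphForms.not_iso_of_card_isometry (F := F₀) m (by omega)
      (quadFormMinus (m - 1) F₀ a b) (minus_card_le (by omega) hab) ⟨e.symm.trans e'⟩

end Cfsg.Agent.AutPSU52GraphSplit
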