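import Mathlib
import Cfsg.Prelude.Def_ClassicalGeometry

/-!
Semilinear maps commuting projectively with the rational isometries of a bilinear or Hermitian
form fix the scalar field and are scalar.
-/

set_option autoImplicit false
set_option linter.unusedSectionVars false

namespace Cfsg.Agent.RigidForms52

open Matrix

variable {F F₀ : Type*} [Field F] [Field F₀] (emb : F₀ →+* F) (τ : F ≃+* F)
  {κ : Type} [Fintype κ] [DecidableEq κ]

/-- `Q` followed by `τ` commutes with `P` up to a scalar. -/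
def Comm (Q : Matrix κ κ F) (P : Matrix κ κ F₀) : Prop :=
  ∃ l : F, Q * (P.map emb).map τ = l • (P.map emb * Q)

/-- The conclusion. -/
def Rigid (Q : Matrix κ κ F) : Prop :=
  (∀ c, τ (emb c) = emb c) ∧ ∃ y : F, Q = y • 1

variable {emb τ}

theorem tau_single (i : κ) : (τ ∘ (Pi.single i 1 : κ → F)) = Pi.single i 1 := by
  funext l; rcases eq_or_ne l i with rfl | h <;> simp [*]

theorem emb_single (i : κ) : (emb ∘ (Pi.single i 1 : κ → F₀)) = Pi.single i 1 := by
  funext l; rcases eq_or_ne l i with rfl | h <;> simp [*]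

/-- A unipotent rank-one element pins the image of its centre. -/
theorem fix_line {Q Q' : Matrix κ κ F} (hQ : Q' * Q = 1) {u w : κ → F} (hwu : w ⬝ᵥ u = 0) (hu : u ≠ 0)
    (hw : w ≠ 0) {l : F}
    (h : Q * ((1 : Matrix κ κ F) + vecMulVec (τ ∘ u) (τ ∘ w)) = l • ((1 + vecMulVec u w) * Q)) :
    ∃ a : F, Q *ᵥ (τ ∘ u) = a • u ∧ a • (τ ∘ w) = w ᵥ* Q := by
  have hwu' : (τ ∘ w) ⬝ᵥ (τ ∘ u) = 0 := by
    rw [← map_zero τ, ← hwu]
    simp [dotProduct, map_sum]
  set x := Q *ᵥ (τ ∘ u) with hx
  have hx0 : x ≠ 0 := fun h0 => hu (funext fun i => τ.injective (by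
    have := congrArg (fun v => Q' *ᵥ v) h0
    simp only [hx, mulVec_mulVec, hQ, one_mulVec, mulVec_zero] at this
    simpa using congrFun this i))
  have h1 := congrArg (fun M => M *ᵥ (τ ∘ u)) h
  simp only [Matrix.mul_add, Matrix.mul_one, add_mulVec, ← mulVec_mulVec, vecMulVec_mulVec, hwu',
    op_smul_eq_smul, zero_smul, mulVec_zero, add_zero, smul_mulVec, one_mulVec, ← hx] at h1
  have hl : l = 1 := by
    by_contra hl
    have h2 := congrArg (fun v => w ⬝ᵥ v) h1
    simp only [dotProduct_smul, dotProduct_add, smul_eq_mul, hwu, mul_zero, add_zero] at h2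
    have h3 : w ⬝ᵥ x = 0 := by
      have : (1 - l) * (w ⬝ᵥ x) = 0 := by linear_combination h2
      exact (mul_eq_zero.1 this).resolve_left (sub_ne_zero.2 (Ne.symm hl))
    rw [h3, zero_smul, add_zero] at h1
    have : (1 - l) • x = 0 := by rw [sub_smul, one_smul, ← h1, sub_self]
    exact hx0 ((smul_eq_zero.1 this).resolve_left (sub_ne_zero.2 (Ne.symm hl)))
  rw [hl, one_smul, Matrix.mul_add, Matrix.mul_one, Matrix.add_mul, Matrix.one_mul, add_left_cancel_iff,
    mul_vecMulVec, vecMulVec_mul, ← hx] at h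
  obtain ⟨j, hj⟩ : ∃ j, (τ ∘ w) j ≠ 0 := by
    obtain ⟨j, hj⟩ := Function.ne_iff.1 hw
    exact ⟨j, by simpa using hj⟩
  refine ⟨(w ᵥ* Q) j / (τ ∘ w) j, ?_, ?_⟩
  · funext i
    have := congrFun (congrFun h i) j
    simp only [vecMulVec_apply] at this
    simp only [Pi.smul_apply, smul_eq_mul, hx] at this ⊢
    field_simp
    linear_combination this
  · funext k
    obtain ⟨i, hi⟩ := Function.ne_iff.1 hu
    have e1 := congrFun (congrFun h i) j
    have e2 := congrFun (congrFun h i) k
    simp only [vecMulVec_apply] at e1 e2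
    simp only [Pi.smul_apply, smul_eq_mul]
    field_simp
    refine mul_left_cancel₀ (show u i ≠ 0 from hi) ?_
    linear_combination (-(τ ∘ w) k) * e1 + (τ ∘ w) j * e2

theorem map_unip {L L' : Type*} [Field L] [Field L'] (f : L →+* L') (v w : κ → L) :
    (1 + vecMulVec v w : Matrix κ κ L).map f = 1 + vecMulVec (f ∘ v) (f ∘ w) := by
  ext i j
  rcases eq_or_ne i j with h | h <;> simp [vecMulVec_apply, Matrix.one_apply, h]

/-! ### Alternating forms -/

theorem rigid_alt [Nonempty κ] {N : Matrix κ κ F₀} (hd : N.det ≠ 0)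
    (halt : ∀ v, v ⬝ᵥ (N *ᵥ v) = 0) {Q Q' : Matrix κ κ F} (hQ : Q' * Q = 1)
    (h : ∀ (v : κ → F₀) (c : F₀), Comm emb τ Q (1 + vecMulVec v (c • (N *ᵥ v)))) :
    Rigid emb τ Q := by
  have hmap : ∀ (v w : κ → F₀),
      (1 + vecMulVec v w : Matrix κ κ F₀).map emb = 1 + vecMulVec (emb ∘ v) (emb ∘ w) := by
    intro v w
    ext i j
    rcases eq_or_ne i j with rfl | hij <;> simp [vecMulVec_apply, *]
  have hmapτ : ∀ (v w : κ → F),
      (1 + vecMulVec v w : Matrix κ κ F).map τ = 1 + vecMulVec (τ ∘ v) (τ ∘ w) := by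
    intro v w
    ext i j
    rcases eq_or_ne i j with rfl | hij <;> simp [vecMulVec_apply, *]
  have hNv : ∀ v : κ → F₀, v ≠ 0 → N *ᵥ v ≠ 0 := fun v hv e =>
    hv (eq_zero_of_mulVec_eq_zero hd e)
  have key : ∀ (v : κ → F₀) (c : F₀), v ≠ 0 → c ≠ 0 → ∃ a : F, Q *ᵥ (τ ∘ emb ∘ v) = a • (emb ∘ v) ∧
      a • (τ ∘ emb ∘ (c • (N *ᵥ v))) = (emb ∘ (c • (N *ᵥ v))) ᵥ* Q := by
    intro v c hv hc
    obtain ⟨l, hl⟩ := h v c
    rw [hmap, hmapτ] at hl
    refine fix_line hQ ?_ ?_ ?_ hl
    · show ∑ i, emb ((c • (N *ᵥ v)) i) * emb (v i) = 0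
      simp only [← map_mul, ← map_sum]
      rw [show ∑ i, (c • (N *ᵥ v)) i * v i = (c • (N *ᵥ v)) ⬝ᵥ v from rfl, smul_dotProduct,
        dotProduct_comm, halt, smul_zero, map_zero]
    · exact fun e => hv (funext fun i => emb.injective (by simpa using congrFun e i))
    · exact fun e => smul_ne_zero hc (hNv v hv) (funext fun i => emb.injective (by simpa using congrFun e i))
  have hsing : ∀ i, ∃ a : F, Q *ᵥ (Pi.single i 1) = a • (Pi.single i 1 : κ → F) := fun i => by
    obtain ⟨a, ha, -⟩ := key (Pi.single i 1) 1 (by simp [Pi.single_eq_zero_iff]) one_ne_zero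
    rw [emb_single, tau_single] at ha
    exact ⟨a, ha⟩
  choose d hdd using hsing
  obtain ⟨k⟩ := ‹Nonempty κ›
  have hsame : ∀ i, d i = d k := by
    intro i
    rcases eq_or_ne i k with rfl | hik
    · rfl
    obtain ⟨a, ha, -⟩ := key (Pi.single i 1 + Pi.single k 1) 1 (fun e => by
      have := congrFun e i; simp [hik] at this) one_ne_zero
    have hs : (emb ∘ (Pi.single i 1 + Pi.single k 1) : κ → F) = Pi.single i 1 + Pi.single k 1 := by
      rw [← emb_single (emb := emb) i, ← emb_single (emb := emb) k]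
      funext l; simp
    have hs' : (τ ∘ (Pi.single i 1 + Pi.single k 1) : κ → F) = Pi.single i 1 + Pi.single k 1 := by
      conv_rhs => rw [← tau_single (τ := τ) i, ← tau_single (τ := τ) k]
      funext l; simp
    rw [hs, hs', mulVec_add, hdd, hdd] at ha
    have h1 := congrFun ha i
    have h2 := congrFun ha k
    simp [hik, hik.symm] at h1 h2
    rw [h1, h2]
  have hQd : Q = d k • 1 := by
    ext a b
    have := congrFun (hdd b) a
    rw [mulVec_single_one] at this
    simp only [col_apply, Pi.smul_apply, smul_eq_mul] at this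
    rw [this, hsame b]
    rcases eq_or_ne a b with rfl | hab <;> simp [*]
  have hdk : d k ≠ 0 := fun e => by
    rw [e, zero_smul] at hQd
    rw [hQd, Matrix.mul_zero] at hQ
    simpa using congrFun (congrFun hQ k) k
  refine ⟨fun c => ?_, d k, hQd⟩
  rcases eq_or_ne c 0 with rfl | hc
  · simp
  obtain ⟨j, hj⟩ : ∃ j, (N *ᵥ Pi.single k 1) j ≠ 0 :=
    Function.ne_iff.1 (hNv _ (by simp [Pi.single_eq_zero_iff]))
  obtain ⟨a, ha, hb⟩ := key (Pi.single k 1) (c * ((N *ᵥ Pi.single k 1) j)⁻¹)
    (by simp [Pi.single_eq_zero_iff]) (mul_ne_zero hc (inv_ne_zero hj))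
  rw [emb_single, tau_single, hdd] at ha
  have ha' : a = d k := by simpa using (congrFun ha k).symm
  have := congrFun hb j
  rw [hQd, vecMul_smul, vecMul_one] at this
  simp only [Pi.smul_apply, Function.comp_apply, smul_eq_mul, inv_mul_cancel_right₀ hj, ha'] at this
  exact mul_left_cancel₀ hdk this

/-! ### Diagonal symmetric forms -/

/-- The reflection in `u`. -/
def refl (d u : κ → F₀) : Matrix κ κ F₀ :=
  1 - vecMulVec u ((2 / ∑ i, d i * u i * u i) • (d * u))

theorem refl_isom {d u : κ → F₀} (hu : ∑ i, d i * u i * u i ≠ 0) :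
    (refl d u)ᵀ * diagonal d * refl d u = diagonal d ∧ (refl d u).det = -1 := by
  set B := ∑ i, d i * u i * u i with hB
  have hdot : (d * u) ⬝ᵥ u = B := by simp [dotProduct, hB]
  have hvm : u ᵥ* diagonal d = d * u := by funext i; simp [vecMul_diagonal, mul_comm]
  have hmv : diagonal d *ᵥ u = d * u := by funext i; simp [mulVec_diagonal]
  set c := 2 / B with hc
  have hr : refl d u = 1 - c • vecMulVec u (d * u) := by
    rw [refl, ← hB, vecMulVec_smul]
  constructor
  · rw [hr, transpose_sub, transpose_one, transpose_smul, transpose_vecMulVec, Matrix.sub_mul,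
      Matrix.one_mul, Matrix.smul_mul, vecMulVec_mul, hvm, Matrix.mul_sub, Matrix.mul_one]
    rw [Matrix.sub_mul, Matrix.mul_smul, mul_vecMulVec, hmv, Matrix.mul_smul, Matrix.smul_mul,
      vecMulVec_mul_vecMulVec, hdot, vecMulVec_smul, smul_smul, smul_smul]
    rw [hc]
    ext a b
    simp only [Matrix.sub_apply, Matrix.smul_apply, vecMulVec_apply, smul_eq_mul, Pi.mul_apply]
    field_simp
    ring
  · rw [refl, sub_eq_add_neg, ← neg_vecMulVec, vecMulVec_eq Unit,
      det_one_add_replicateCol_mul_replicateRow, ← hB, smul_dotProduct, dotProduct_neg, hdot,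
      smul_eq_mul]
    field_simp
    ring

theorem sq_comm {D : Matrix κ κ F} (hD : D * D = 1) (hDτ : D.map τ = D) {Q : Matrix κ κ F}
    (hQ0 : Q ≠ 0) {l : F} (h : Q * D = l • (D * Q)) :
    l * τ l = 1 ∧ Q * Q.map τ * D = (l * τ l) • (D * (Q * Q.map τ)) := by
  have h1 : Q = (l * l) • Q := by
    calc Q = Q * D * D := by rw [Matrix.mul_assoc, hD, Matrix.mul_one]
      _ = _ := by
        rw [h, Matrix.smul_mul, Matrix.mul_assoc, h, Matrix.mul_smul, smul_smul,
          ← Matrix.mul_assoc, hD, Matrix.one_mul]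
  have hll : l * l = 1 := smul_left_injective F hQ0 (by
    show (l * l) • Q = (1 : F) • Q; rw [one_smul]; exact h1.symm)
  have h3 := congrArg (fun M : Matrix κ κ F => M.map τ) h
  simp only [Matrix.map_mul, hDτ, Matrix.map_smul' (f := τ) _ _ (map_mul τ)] at h3
  refine ⟨?_, ?_⟩
  · rcases mul_self_eq_one_iff.1 hll with e | e <;> rw [e] <;> simp
  · rw [Matrix.mul_assoc, h3, Matrix.mul_smul, ← Matrix.mul_assoc, h, Matrix.smul_mul, smul_smul,
      mul_comm (τ l), Matrix.mul_assoc]

theorem rigid_sym [Fintype F₀] (h3 : 3 ≤ Fintype.card κ) (h2 : (2 : F₀) ≠ 0) {d : κ → F₀} (hd : ∀ i, d i ≠ 0)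
    {Q Q' : Matrix κ κ F} (hQ : Q' * Q = 1)
    (h : ∀ P : Matrix κ κ F₀, Pᵀ * diagonal d * P = diagonal d → P.det = 1 → Comm emb τ Q P) :
    Rigid emb (τ * τ) (Q * Q.map τ) := by
  classical
  set Q₂ := Q * Q.map τ with hQ₂
  have hQ0 : Q ≠ 0 := fun e => by
    rw [e, Matrix.mul_zero] at hQ
    obtain ⟨k⟩ : Nonempty κ := Fintype.card_pos_iff.1 (by omega)
    simpa using congrFun (congrFun hQ k) k
  have hQ₂i : (Q'.map τ * Q') * Q₂ = 1 := by
    rw [hQ₂, Matrix.mul_assoc, ← Matrix.mul_assoc Q', hQ, Matrix.one_mul, ← Matrix.map_mul, hQ,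
      Matrix.map_one τ (map_zero τ) (map_one τ)]
  -- `Q₂` is diagonal
  have hthird : ∀ a b : κ, ∃ c, c ≠ a ∧ c ≠ b := by
    intro a b
    obtain ⟨c, -, hc⟩ := Finset.exists_mem_notMem_of_card_lt_card (s := ({a, b} : Finset κ))
      (t := Finset.univ) (lt_of_le_of_lt Finset.card_le_two (by rw [Finset.card_univ]; omega))
    exact ⟨c, by simpa [not_or] using hc⟩
  have hoff : ∀ a b, a ≠ b → Q₂ a b = 0 := by
    intro a b hab
    obtain ⟨c, hca, hcb⟩ := hthird a b
    let s : κ → F₀ := fun x => if x = a then -1 else if x = c then -1 else 1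
    have hss : ∀ x, s x * s x = 1 := fun x => by simp only [s]; split_ifs <;> simp
    have hdet : (diagonal s).det = 1 := by
      rw [det_diagonal, ← Finset.prod_subset (Finset.subset_univ {a, c}) (fun x _ hx => by
        simp at hx; simp [s, hx.1, hx.2]), Finset.prod_pair hca.symm]
      simp [s, hca]
    obtain ⟨l, hl⟩ := h (diagonal s) (by
      rw [diagonal_transpose, diagonal_mul_diagonal, diagonal_mul_diagonal]
      congr 1; funext x; linear_combination d x * hss x) hdet
    set D : Matrix κ κ F := diagonal fun x => emb (s x) with hDdef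
    have hDe : (diagonal s).map emb = D := diagonal_map (map_zero emb)
    have hDD : D * D = 1 := by
      rw [hDdef, diagonal_mul_diagonal, ← diagonal_one]
      congr 1; funext x; rw [← map_mul, hss, map_one]
    have hDτ : D.map τ = D := by
      rw [hDdef, diagonal_map (map_zero τ)]
      congr 1; funext x; simp only [s, Function.comp_apply]; split_ifs <;> simp
    rw [hDe, hDτ] at hl
    obtain ⟨e1, e2⟩ := sq_comm hDD hDτ hQ0 hl
    rw [e1, one_smul, ← hQ₂] at e2
    have := congrFun (congrFun e2 a) b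
    rw [hDdef, mul_diagonal, diagonal_mul] at this
    have hsa : s a = -1 := by simp [s]
    have hsb : s b = 1 := by simp [s, hab.symm, hcb.symm]
    rw [hsa, hsb, map_neg, map_one, mul_one] at this
    have h2' : (2 : F) ≠ 0 := by
      rw [← map_ofNat emb 2]; exact (map_ne_zero emb).2 h2
    exact (mul_eq_zero.1 (show (2 : F) * Q₂ a b = 0 by linear_combination this)).resolve_left h2'
  have hdiag : ∀ a, Q₂ a a ≠ 0 := fun a e => by
    have h1 := congrFun (congrFun hQ₂i a) a
    rw [Matrix.mul_apply, Finset.sum_eq_zero fun x _ => by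
      rcases eq_or_ne x a with rfl | hx
      · rw [e, mul_zero]
      · rw [hoff x a hx, mul_zero]] at h1
    simp at h1
  -- test elements
  have htest : ∀ (u : κ → F₀) (k : κ), ∑ i, d i * u i * u i ≠ 0 → ∃ l : F, ∀ a b,
      Q₂ a a * τ (τ (emb ((refl d u * diagonal (fun x => if x = k then -1 else (1 : F₀)) : Matrix κ κ F₀) a b)))
        = l * (emb ((refl d u * diagonal (fun x => if x = k then -1 else (1 : F₀)) : Matrix κ κ F₀) a b) * Q₂ b b) := by
    intro u k hu
    set s : κ → F₀ := fun x => if x = k then -1 else 1 with hs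
    set R := refl d u * diagonal s with hR
    obtain ⟨hr1, hr2⟩ := refl_isom hu
    obtain ⟨l, hl⟩ := h R (by
      rw [hR, transpose_mul, show (diagonal s)ᵀ * (refl d u)ᵀ * diagonal d * (refl d u * diagonal s)
        = (diagonal s)ᵀ * ((refl d u)ᵀ * diagonal d * refl d u) * diagonal s by
          simp only [Matrix.mul_assoc], hr1, diagonal_transpose, diagonal_mul_diagonal,
        diagonal_mul_diagonal]
      congr 1; funext x; simp only [hs]; split_ifs <;> simp)
      (by rw [hR, det_mul, hr2, det_diagonal, Finset.prod_eq_single k]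
          · simp [hs]
          · intro x _ hx; simp [hs, hx]
          · simp)
    refine ⟨l * τ l, fun a b => ?_⟩
    have h3 := congrArg (fun M : Matrix κ κ F => M.map τ) hl
    simp only [Matrix.map_mul, Matrix.map_smul' (f := τ) _ _ (map_mul τ)] at h3
    have h4 : Q₂ * ((R.map emb).map τ).map τ = (l * τ l) • (R.map emb * Q₂) := by
      rw [hQ₂, Matrix.mul_assoc, h3, Matrix.mul_smul, ← Matrix.mul_assoc, hl, Matrix.smul_mul,
        smul_smul, mul_comm (τ l), Matrix.mul_assoc]
    have h5 := congrFun (congrFun h4 a) b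
    rw [Matrix.smul_apply, smul_eq_mul, Matrix.mul_apply, Matrix.mul_apply,
      Finset.sum_eq_single a (fun x _ hx => by rw [hoff a x hx.symm, zero_mul]) (by simp),
      Finset.sum_eq_single b (fun x _ hx => by rw [hoff x b hx, mul_zero]) (by simp)] at h5
    simpa using h5
  have hRapp : ∀ (u : κ → F₀) (k a b : κ),
      (refl d u * diagonal (fun x => if x = k then -1 else (1 : F₀))) a b =
        ((if a = b then 1 else 0) - u a * ((2 / ∑ i, d i * u i * u i) * (d b * u b))) *
          (if b = k then -1 else 1) := by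
    intro u k a b
    rw [mul_diagonal, refl]
    simp [Matrix.one_apply, vecMulVec_apply]
    split_ifs <;> ring
  have hτsgn : ∀ a k : κ, τ (τ (emb (if a = k then -1 else 1))) = emb (if a = k then -1 else 1) := by
    intro a k; split_ifs <;> simp
  -- squares times a constant are fixed
  have hfixc : ∀ i j : κ, i ≠ j → ∀ x : F₀, τ (τ (emb (x ^ 2 * (d j / d i)))) = emb (x ^ 2 * (d j / d i)) := by
    intro i j hij x
    by_cases hB0 : d i + x ^ 2 * d j = 0
    · have : x ^ 2 * (d j / d i) = -1 := by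
        field_simp [hd i]; linear_combination hB0
      rw [this]; simp
    set u : κ → F₀ := Pi.single i 1 + Pi.single j x with hu
    have hB : ∑ m, d m * u m * u m = d i + x ^ 2 * d j := by
      rw [← Finset.sum_subset (Finset.subset_univ {i, j}) (fun y _ hy => by
        simp at hy; simp [hu, hy.1, hy.2]), Finset.sum_pair hij]
      simp [hu, hij, hij.symm]; ring
    obtain ⟨c, hci, hcj⟩ := hthird i j
    obtain ⟨l, hl⟩ := htest u c (hB.symm ▸ hB0)
    have hcc := hl c c
    have huc : u c = 0 := by simp [hu, hci, hcj]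
    rw [hRapp, huc] at hcc
    simp only [if_true, zero_mul, sub_zero, one_mul, map_neg, map_one, mul_neg, mul_one, neg_inj,
      neg_mul] at hcc
    have hl1 : l = 1 := mul_right_cancel₀ (hdiag c) (by linear_combination -hcc)
    have hii := hl i i
    rw [hRapp, hl1, one_mul, if_pos rfl, if_neg hci.symm, mul_one, hB,
      show u i = 1 by simp [hu, hij], one_mul, mul_one, mul_comm _ (Q₂ i i)] at hii
    have e := mul_left_cancel₀ (hdiag i) hii
    simp only [map_sub, map_one, map_mul, map_div₀, map_ofNat] at e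
    have h2' : (2 : F) ≠ 0 := by
      rw [← map_ofNat emb 2]; exact (map_ne_zero emb).2 h2
    set z := emb (d i / (d i + x ^ 2 * d j)) with hz
    have ez : τ (τ z) = z := by
      refine mul_left_cancel₀ h2' ?_
      rw [hz]
      simp only [map_div₀]
      linear_combination -e
    have hx : x ^ 2 * (d j / d i) = (d i / (d i + x ^ 2 * d j))⁻¹ - 1 := by
      field_simp [hd i]; ring
    rw [hx, map_sub, map_inv₀, ← hz, map_sub, map_sub, map_inv₀, map_inv₀, ez]
    simp
  obtain ⟨i, j, hij⟩ := Fintype.exists_pair_of_one_lt_card (show 1 < Fintype.card κ by omega)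
  have hsq : ∀ x : F₀, τ (τ (emb (x ^ 2))) = emb (x ^ 2) := by
    intro x
    have e := hfixc i j hij x
    have e1 := hfixc i j hij 1
    rw [one_pow, one_mul] at e1
    rw [map_mul, map_mul, map_mul, e1] at e
    exact mul_right_cancel₀ ((map_ne_zero emb).2 (div_ne_zero (hd j) (hd i))) e
  have hfix : ∀ c, (τ * τ) (emb c) = emb c := by
    intro c
    show τ (τ (emb c)) = emb c
    have e := hsq (c + 1)
    have e1 := hsq c
    have hc : c = ((c + 1) ^ 2 - c ^ 2 - 1) / 2 := by field_simp; ring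
    conv_lhs => rw [hc]
    simp only [map_div₀, map_sub, map_one, map_ofNat, e, e1]
    conv_rhs => rw [hc, map_div₀, map_sub, map_sub, map_one, map_ofNat]
  refine ⟨hfix, Q₂ i i, ?_⟩
  have hfix' : ∀ c, τ (τ (emb c)) = emb c := hfix
  have hlink : ∀ a b, a ≠ b → Q₂ a a = Q₂ b b := by
    intro a b hab
    obtain ⟨c, hca, hcb⟩ := hthird a b
    obtain ⟨u, k, hu, hua, hub, hk⟩ : ∃ (u : κ → F₀) (k : κ), ∑ m, d m * u m * u m ≠ 0 ∧ u a ≠ 0 ∧
        u b ≠ 0 ∧ (u k = 0 ∨ d k * u k * u k = ∑ m, d m * u m * u m) := by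
      by_cases hB0 : d a + d b = 0
      · refine ⟨Pi.single a 1 + Pi.single b 1 + Pi.single c 1, c, ?_, by simp [hab, hca.symm],
          by simp [hab.symm, hcb.symm], Or.inr ?_⟩
        all_goals
          rw [← Finset.sum_subset (Finset.subset_univ {a, b, c}) (fun y _ hy => by
            simp at hy; simp [hy.1, hy.2.1, hy.2.2]),
            Finset.sum_insert (by simp [hab, hca.symm]), Finset.sum_pair hcb.symm]
          simp [hab, hab.symm, hca, hca.symm, hcb, hcb.symm]
        · intro e; exact hd c (by linear_combination e - hB0)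
        · linear_combination -hB0
      · refine ⟨Pi.single a 1 + Pi.single b 1, c, ?_, by simp [hab], by simp [hab.symm],
          Or.inl (by simp [hca, hcb])⟩
        rw [← Finset.sum_subset (Finset.subset_univ {a, b}) (fun y _ hy => by
          simp at hy; simp [hy.1, hy.2]), Finset.sum_pair hab]
        simpa [hab, hab.symm] using hB0
    obtain ⟨l, hl⟩ := htest u k hu
    have hl1 : l = 1 := by
      have hkk := hl k k
      rw [hfix', hRapp, if_pos rfl, if_pos rfl] at hkk
      have hne : (1 - u k * ((2 / ∑ m, d m * u m * u m) * (d k * u k))) * (-1 : F₀) ≠ 0 := by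
        rcases hk with e | e
        · simp [e]
        · rw [show u k * ((2 / ∑ m, d m * u m * u m) * (d k * u k))
            = (2 / ∑ m, d m * u m * u m) * (d k * u k * u k) by ring, e, div_mul_cancel₀ _ hu]
          norm_num
      exact (mul_right_cancel₀ (mul_ne_zero ((map_ne_zero emb).2 hne) (hdiag k))
        (by linear_combination hkk : (1 : F) * _ = l * _)).symm
    have e := hl a b
    rw [hfix', hl1, one_mul, hRapp, if_neg hab, zero_sub] at e
    refine mul_right_cancel₀ ?_ (e.trans (mul_comm _ _))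
    refine (map_ne_zero emb).2 (mul_ne_zero (neg_ne_zero.2 (mul_ne_zero hua (mul_ne_zero
      (div_ne_zero h2 hu) (mul_ne_zero (hd b) hub)))) ?_)
    split_ifs <;> simp
  ext a b
  rcases eq_or_ne a b with rfl | hab
  · rcases eq_or_ne a i with rfl | hai
    · simp
    · simpa using hlink a i hai
  · simp [hab, hoff a b hab]

/-! ### Hermitian forms -/

theorem rigid_herm [Fintype F₀] {n q₀ : ℕ} (hn : 3 ≤ n) (hF₀ : Fintype.card F₀ = q₀ ^ 2)
    (hq0 : 2 ≤ q₀) {x₀ c₀ : F₀} (hx₀ : x₀ ^ (q₀ + 1) = -1) (hc₀ : c₀ ≠ 0)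
    (hmu : Nat.card {z : F₀ˣ // z ^ (q₀ + 1) = 1} = q₀ + 1)
    {Q Q' : Matrix (Fin n) (Fin n) F} (hQ : Q' * Q = 1)
    (h : ∀ v : Fin n → F₀, Cfsg.hermForm n F₀ q₀ v v = 0 →
      Comm emb τ Q (1 + c₀ • vecMulVec v (fun j => v j ^ q₀))) :
    Rigid emb τ Q := by
  classical
  let S := {x : F₀ // x ^ (q₀ + 1) = -1}
  have key : ∀ (i j : Fin n), i ≠ j → ∀ x : S,
      ∃ a : F, Q *ᵥ (Pi.single i 1 + τ (emb x) • Pi.single j 1)
        = a • (Pi.single i 1 + emb x • Pi.single j 1 : Fin n → F) := by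
    intro i j hij x
    set v : Fin n → F₀ := Pi.single i 1 + (x : F₀) • Pi.single j 1 with hv
    have hiso : ∑ m, v m * v m ^ q₀ = 0 := by
      rw [← Finset.sum_subset (Finset.subset_univ {i, j}) (fun y _ hy => by
        simp at hy; simp [hv, hy.1, hy.2, zero_pow (show q₀ ≠ 0 by omega)]),
        Finset.sum_pair hij]
      simp [hv, hij, hij.symm]
      have := x.2
      rw [pow_succ'] at this
      linear_combination this
    obtain ⟨l, hl⟩ := h v (by simpa [Cfsg.hermForm] using hiso)
    rw [← vecMulVec_smul] at hl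
    set w : Fin n → F₀ := c₀ • fun m => v m ^ q₀ with hw
    have hm := map_unip emb v w
    have hmτ := map_unip (τ : F →+* F) (emb ∘ v) (emb ∘ w)
    simp only [RingHom.coe_coe] at hmτ
    rw [hm, hmτ] at hl
    have hvi : v i = 1 := by simp [hv, hij]
    obtain ⟨a, ha, -⟩ := fix_line hQ (u := emb ∘ v) (w := emb ∘ w) (by
      show ∑ m, emb (w m) * emb (v m) = 0
      simp only [← map_mul, ← map_sum]
      rw [show ∑ m, w m * v m = c₀ * ∑ m, v m * v m ^ q₀ by
        rw [Finset.mul_sum]; exact Finset.sum_congr rfl fun m _ => by simp [hw]; ring,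
        hiso, mul_zero, map_zero])
      (fun e => by simpa [hvi] using congrFun e i)
      (fun e => by simpa [hw, hvi, hc₀] using congrFun e i) hl
    refine ⟨a, ?_⟩
    have e1 : (emb ∘ v : Fin n → F) = Pi.single i 1 + emb x • Pi.single j 1 := by
      funext m; simp [hv, Pi.single_apply, apply_ite emb]
    have e2 : (τ ∘ emb ∘ v : Fin n → F) = Pi.single i 1 + τ (emb x) • Pi.single j 1 := by
      funext m
      show τ ((emb ∘ v) m) = _
      rw [e1]; simp [Pi.single_apply, apply_ite τ]
    rwa [e2, e1] at ha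
  have hmulS : ∀ z : {z : F₀ˣ // z ^ (q₀ + 1) = 1}, ((z : F₀ˣ) : F₀) * x₀ ∈ {x : F₀ | x ^ (q₀ + 1) = -1} :=
    fun z => by
      show _ ^ _ = _
      rw [mul_pow, hx₀, ← Units.val_pow_eq_pow_val, z.2, Units.val_one, one_mul]
  have hx0 : x₀ ≠ 0 := fun e => by
    rw [e, zero_pow (Nat.succ_ne_zero _)] at hx₀; simp at hx₀
  have hy : ∃ y : S, (y : F₀) ≠ x₀ := by
    by_contra hc
    push Not at hc
    haveI : Subsingleton {z : F₀ˣ // z ^ (q₀ + 1) = 1} := ⟨fun z w => by
      have e := (hc ⟨_, hmulS z⟩).trans (hc ⟨_, hmulS w⟩).symm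
      exact Subtype.ext (Units.ext (mul_right_cancel₀ hx0 e))⟩
    have := Finite.card_le_one_iff_subsingleton.2 this
    omega
  obtain ⟨y₀, hy₀⟩ := hy
  have hoff : ∀ k i, k ≠ i → Q k i = 0 := by
    intro k i hki
    obtain ⟨j, hji, hjk⟩ : ∃ j, j ≠ i ∧ j ≠ k := by
      obtain ⟨c, -, hc⟩ := Finset.exists_mem_notMem_of_card_lt_card (s := ({i, k} : Finset (Fin n)))
        (t := Finset.univ) (lt_of_le_of_lt Finset.card_le_two (by simp; omega))
      exact ⟨c, by simpa [not_or] using hc⟩
    obtain ⟨a, ha⟩ := key i j hji.symm ⟨x₀, hx₀⟩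
    obtain ⟨b, hb⟩ := key i j hji.symm y₀
    have h1 := congrFun ha k
    have h2 := congrFun hb k
    simp [mulVec_add, mulVec_smul, mulVec_single_one, hki, hjk.symm] at h1 h2
    have h3 : (τ (emb x₀) - τ (emb (y₀ : F₀))) * Q k j = 0 := by linear_combination h1 - h2
    rcases mul_eq_zero.1 h3 with e | e
    · exact absurd (emb.injective (τ.injective (sub_eq_zero.1 e))).symm hy₀
    · rw [e, mul_zero, add_zero] at h1; exact h1
  have hrat : ∀ i j, i ≠ j → ∀ x : S, Q j j * τ (emb x) = Q i i * emb x := by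
    intro i j hij x
    obtain ⟨a, ha⟩ := key i j hij x
    have h1 := congrFun ha i
    have h2 := congrFun ha j
    simp [mulVec_add, mulVec_smul, mulVec_single_one, hij, hij.symm, hoff i j hij,
      hoff j i hij.symm] at h1 h2
    rw [h1]; linear_combination h2
  have hdiag : ∀ a, Q a a ≠ 0 := fun a e => by
    have h1 := congrFun (congrFun hQ a) a
    rw [Matrix.mul_apply, Finset.sum_eq_zero fun x _ => by
      rcases eq_or_ne x a with rfl | hx
      · rw [e, mul_zero]
      · rw [hoff x a hx, mul_zero]] at h1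
    simp at h1
  have he0 : emb x₀ ≠ 0 := (map_ne_zero emb).2 hx0
  set ρ := τ (emb x₀) / emb x₀ with hρ
  have hr : ∀ i j, i ≠ j → Q i i = ρ * Q j j := by
    intro i j hij
    rw [hρ, div_mul_eq_mul_div, eq_div_iff he0]
    linear_combination -hrat i j hij ⟨x₀, hx₀⟩
  have hρ1 : ρ = 1 := by
    let i : Fin n := ⟨0, by omega⟩
    let j : Fin n := ⟨1, by omega⟩
    let k : Fin n := ⟨2, by omega⟩
    have e1 := hr i j (by simp [i, j])
    have e2 := hr j k (by simp [j, k])
    have e3 := hr i k (by simp [i, k])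
    have hρ0 : ρ ≠ 0 := div_ne_zero ((map_ne_zero τ).2 he0) he0
    exact mul_left_cancel₀ hρ0 (mul_right_cancel₀ (hdiag k)
      (by linear_combination -e1 + e3 - ρ * e2))
  let z0 : Fin n := ⟨0, by omega⟩
  have hsame : ∀ a, Q a a = Q z0 z0 := fun a => by
    rcases eq_or_ne a z0 with rfl | ha
    · rfl
    · rw [hr a z0 ha, hρ1, one_mul]
  refine ⟨?_, Q z0 z0, ?_⟩
  · have hS : ∀ x : S, τ (emb x) = emb x := fun x => by
      have := hrat z0 ⟨1, by omega⟩ (by simp [z0]) x
      rw [hsame] at this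
      exact mul_left_cancel₀ (hdiag _) this
    have hz : ∀ z : {z : F₀ˣ // z ^ (q₀ + 1) = 1}, τ (emb (z : F₀ˣ)) = emb (z : F₀ˣ) := fun z => by
      have := hS ⟨_, hmulS z⟩
      rw [map_mul, map_mul, hS ⟨x₀, hx₀⟩] at this
      exact mul_right_cancel₀ he0 this
    let T : Subfield F₀ := ((τ : F →+* F).comp emb).eqLocusField emb
    haveI : Fintype T := Fintype.ofFinite T
    have hT1 : q₀ + 1 ≤ Nat.card Tˣ := by
      rw [← hmu]
      refine Nat.card_le_card_of_injective (fun z => Units.mk0 (⟨((z : F₀ˣ) : F₀), hz z⟩ : T)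
        (fun e => (z : F₀ˣ).ne_zero (congrArg Subtype.val e))) fun z w e => ?_
      exact Subtype.ext (Units.ext (congrArg Subtype.val (congrArg Units.val e)))
    rw [Nat.card_units] at hT1
    have h4 := Module.natCard_eq_pow_finrank (K := T) (V := F₀)
    rw [Nat.card_eq_fintype_card (α := F₀), hF₀] at h4
    have hfr : Module.finrank T F₀ = 1 := by
      rcases Nat.lt_or_ge (Module.finrank T F₀) 2 with hlt | hge
      · have := Module.finrank_pos (R := T) (M := F₀)
        omega
      · exfalso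
        have h5 : Nat.card T ^ 2 ≤ q₀ ^ 2 := h4 ▸ Nat.pow_le_pow_right (by omega) hge
        have := (Nat.pow_le_pow_iff_left two_ne_zero).1 h5
        omega
    intro c
    rw [hfr, pow_one] at h4
    have htop : (T : Set F₀) = Set.univ := Set.eq_of_subset_of_ncard_le (Set.subset_univ _) (by
      rw [Set.ncard_univ, ← Nat.card_coe_set_eq, Nat.card_eq_fintype_card (α := F₀), hF₀, h4]
      exact le_rfl)
    exact htop.ge (Set.mem_univ c)
  · ext a b
    rcases eq_or_ne a b with rfl | hab
    · simp [hsame a]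
    · simp [hab, hoff a b hab]

end Cfsg.Agent.RigidForms52
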