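import Mathlib
import Cfsg.Prelude.Def_Solvable
import Cfsg.Prelude.Def_LieTypeDatum
import Cfsg.Agent.Lib.AutPSU52GraphSplit
import Cfsg.Agent.Lib.AutPSpBalance
import Cfsg.Agent.Lib.BalanceGeneric52
import Cfsg.Agent.Lib.RigidForms52
import Cfsg.Agent.Lib.OddCoreOrth52

/-!
Local balance for involutions outside the inner-diagonal group of `PSU`.
-/

set_option autoImplicit false
set_option linter.unusedSectionVars false

namespace Cfsg.Agent.AutPSU52BalTwo

open Matrix
open Cfsg.Agent.OrthUnitaryHerm Cfsg.Agent.OrthUnitaryTransvection Cfsg.Agent.OrthUnitaryPSU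
open Cfsg.Agent.AutPSU52Basic Cfsg.Agent.AutPSU52Api Cfsg.Agent.AutPSU52Field
open Cfsg.Agent.AutPSU52Graph Cfsg.Agent.AutPSU52GraphSplit Cfsg.Agent.FormCongruence
open Cfsg.Agent.BalanceGeneric52 Cfsg.Agent.RigidForms52
open Cfsg.Agent.AutPSU52Lang (Kf)
open scoped MatrixGroups

variable {F : Type*} [Field F] [Fintype F] {q n : ℕ}

/-! ### Inner automorphisms -/

theorem conj_injective (hF : Fintype.card F = q ^ 2) (hn : 3 ≤ n) :
    Function.Injective (MulAut.conj : PSU n F q →* MulAut (PSU n F q)) := by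
  rw [injective_iff_map_eq_one]
  intro x hx
  induction x using QuotientGroup.induction_on with
  | H s =>
    rw [← cj_suToGU, cj_eq_one_iff hF hn, Cfsg.Geo.mem_scalars_iff] at hx
    obtain ⟨c, hc⟩ := hx
    refine (QuotientGroup.eq_one_iff s).2 (mem_center_of_scalar (a := (c : F)) fun v => ?_)
    show sMat s *ᵥ v = _
    rw [show sMat s = (c : F) • 1 from hc, smul_mulVec, one_mulVec]

theorem mem_range_conj (hF : Fintype.card F = q ^ 2) {g : GU n F q} (hg : (gMat g).det = 1) :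
    (cj g : MulAut (PSU n F q)) ∈ (MulAut.conj : PSU n F q →* MulAut (PSU n F q)).range := by
  have : g ∈ (suToGU (n := n) (F := F) (q := q)).range := by
    rw [range_suToGU]
    exact MonoidHom.mem_ker.2 (Units.ext hg)
  obtain ⟨s, rfl⟩ := this
  exact ⟨_, (cj_suToGU s).symm⟩

theorem innCent_le (β : MulAut (PSU n F q)) :
    innCent β ≤ Cfsg.inndiagPSU n F q ⊓ Subgroup.centralizer {β} := by
  rintro δ ⟨⟨k, rfl⟩, h⟩
  refine ⟨?_, h⟩
  induction k using QuotientGroup.induction_on with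
  | H s => exact (mem_inndiag _).2 ⟨suToGU s, (cj_suToGU s).symm⟩

/-- An element of order prime to `p` in the coset given by a power of `σ` which acts as a scalar. -/
theorem eq_one_of_scalar (hF : Fintype.card F = q ^ 2) (hn : 3 ≤ n) {σ τ : F ≃+* F}
    (hτ : τ ∈ Subgroup.zpowers σ) (g : GU n F q) {k : ℕ}
    (hk : (cj g * fd τ : MulAut (PSU n F q)) ^ k = 1) (hco : k.Coprime (orderOf σ)) : τ = 1 := by
  rw [pow_cj_fd] at hk
  have h1 := (cj_fd_eq_one hF hn hk).2
  have h2 : τ ^ orderOf σ = 1 := by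
    obtain ⟨i, rfl⟩ := hτ
    show (σ ^ i) ^ orderOf σ = 1
    rw [← zpow_natCast, ← _root_.zpow_mul, mul_comm, _root_.zpow_mul, zpow_natCast,
      pow_orderOf_eq_one, _root_.one_zpow]
  have h3 : τ ^ Nat.gcd k (orderOf σ) = 1 := pow_gcd_eq_one.2 ⟨h1, h2⟩
  rwa [hco.gcd_eq_one, pow_one] at h3

/-! ### The elements attached to isometries -/

variable {σ : F ≃+* F} {F₀ : Type*} [Field F₀] {emb : F₀ →+* F} {γ : MulAut (PSU n F q)}
  {κ : Type} [Fintype κ] [DecidableEq κ] {N : Matrix κ κ F₀}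

theorem exists_el (hF : Fintype.card F = q ^ 2) (hn : 3 ≤ n) (hσ : ∀ x, σ x = x ^ q)
    (he : ∀ y, σ y = y ↔ y ∈ emb.range) (D : Dat σ emb γ N) (P : Matrix κ κ F₀)
    (hP : Pᵀ * N * P = N) :
    ∃ g : GU n F q, gMat g = D.b * P.map emb * D.b' ∧
      (cj g : MulAut (PSU n F q)) ∈ Subgroup.centralizer {γ} ∧
      (P.det = 1 → (cj g : MulAut (PSU n F q)) ∈ innCent γ) := by
  obtain ⟨g, hg, hc⟩ := D.push hF hn hσ he D P 1 (by rw [hP, one_smul]) 1
    (by rw [one_pow, map_one, mul_one, one_mul])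
  rw [one_smul] at hg
  have hC : (cj g : MulAut (PSU n F q)) ∈ Subgroup.centralizer {γ} :=
    Subgroup.mem_centralizer_singleton_iff.2 hc
  refine ⟨g, hg, hC, fun hd => ⟨mem_range_conj hF ?_, hC⟩⟩
  rw [hg, Matrix.det_conj_of_mul_eq_one D.hb D.hb',
    show (P.map emb).det = emb P.det from (emb.map_det P).symm, hd, map_one]

/-- The matrix of `g τ` in the basis of the form. -/
def qMat (D : Dat σ emb γ N) (g : GU n F q) (τ : F ≃+* F) : Matrix κ κ F :=
  D.b' * gMat g * D.b.map τ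

theorem qMat_inv (D : Dat σ emb γ N) (g : GU n F q) (τ : F ≃+* F) :
    (D.b'.map τ * gMat g⁻¹ * D.b) * qMat D g τ = 1 := by
  calc D.b'.map τ * gMat g⁻¹ * D.b * (D.b' * gMat g * D.b.map τ)
      = D.b'.map τ * (gMat g⁻¹ * (D.b * D.b') * gMat g) * D.b.map τ := by simp only [Matrix.mul_assoc]
    _ = 1 := by
      rw [D.hb, Matrix.mul_one, ← AutPSU52Graph.gMat_mul, inv_mul_cancel,
        show gMat (1 : GU n F q) = 1 from rfl, Matrix.mul_one, ← AutPSU52Graph.map_mul', D.hb',
        AutPSU52Graph.map_one']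

theorem comm_of_commute (hF : Fintype.card F = q ^ 2) (hn : 3 ≤ n) (D : Dat σ emb γ N)
    (g x : GU n F q) (τ : F ≃+* F) (P : Matrix κ κ F₀) (hx : gMat x = D.b * P.map emb * D.b')
    (h : Commute (cj g * fd τ : MulAut (PSU n F q)) (cj x)) :
    RigidForms52.Comm emb τ (qMat D g τ) P := by
  have e : (cj g * fd τ : MulAut (PSU n F q)) * cj x = cj (g * gmU τ x) * fd τ := by
    rw [mul_assoc, fd_mul_cj, ← mul_assoc, ← map_mul]
  have e2 := e.symm.trans h.eq
  rw [← mul_assoc, ← map_mul, mul_left_inj, cj_eq_cj hF hn, AutPSU52Graph.gMat_mul,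
    AutPSU52Graph.gMat_mul, coe_gmU] at e2
  obtain ⟨l, hl⟩ := e2
  refine ⟨l, ?_⟩
  calc qMat D g τ * (P.map emb).map τ
      = D.b' * (gMat g * (gMat x).map τ) * D.b.map τ := by
        rw [hx, AutPSU52Graph.map_mul', AutPSU52Graph.map_mul', qMat]
        simp only [Matrix.mul_assoc, ← AutPSU52Graph.map_mul', D.hb', AutPSU52Graph.map_one', Matrix.mul_one]
    _ = l • (D.b' * (gMat x * gMat g) * D.b.map τ) := by
        rw [hl, Matrix.mul_smul, Matrix.smul_mul]
    _ = _ := by
        rw [hx, qMat]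
        congr 1
        simp only [← Matrix.mul_assoc, D.hb', Matrix.one_mul]

theorem eq_one_of_rigid (hF : Fintype.card F = q ^ 2) (hn : 3 ≤ n)
    (he : ∀ y, σ y = y ↔ y ∈ emb.range) (D : Dat σ emb γ N) (g : GU n F q) (τ : F ≃+* F)
    (h : RigidForms52.Rigid emb τ (qMat D g τ)) {k : ℕ}
    (hk : (cj g * fd τ : MulAut (PSU n F q)) ^ k = 1) (hco : k.Coprime (orderOf σ)) :
    (cj g * fd τ : MulAut (PSU n F q)) = 1 := by
  obtain ⟨hfix, y, hy⟩ := h
  have hτ : τ ∈ Subgroup.zpowers σ := AutPSpBalance.galois_fix σ τ fun a ha => by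
    obtain ⟨c, rfl⟩ := (he a).1 ha
    exact hfix c
  obtain rfl := eq_one_of_scalar hF hn hτ g hk hco
  rw [map_one, mul_one, cj_eq_one_iff hF hn, Cfsg.Geo.mem_scalars_iff]
  have e : gMat g = y • 1 := by
    calc gMat g = D.b * qMat D g 1 * D.b' := by
          rw [qMat, show D.b.map (1 : F ≃+* F) = D.b from by ext i j; rfl]
          simp only [← Matrix.mul_assoc, D.hb, Matrix.one_mul]
          simp only [Matrix.mul_assoc, D.hb, Matrix.mul_one]
      _ = _ := by rw [hy, Matrix.mul_smul, Matrix.smul_mul, Matrix.mul_one, D.hb]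
  exact ⟨Units.mk0 y (fun h0 => AutPSU52Graph.gMat_ne_zero (by omega) g (by rw [e, h0, zero_smul])), e⟩

theorem qMat_sq (D : Dat σ emb γ N) (g : GU n F q) (τ : F ≃+* F) :
    qMat D (g * gmU τ g) (τ * τ) = qMat D g τ * (qMat D g τ).map τ := by
  rw [qMat, qMat, AutPSU52Graph.gMat_mul, coe_gmU, AutPSU52Graph.map_mul', AutPSU52Graph.map_mul',
    show (D.b.map τ).map τ = D.b.map (τ * τ) from by ext i j; rfl]
  simp only [Matrix.mul_assoc]
  congr 2
  rw [← Matrix.mul_assoc (D.b.map τ) (D.b'.map τ), ← AutPSU52Graph.map_mul', D.hb,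
    AutPSU52Graph.map_one', Matrix.one_mul]

theorem exists_diag (h2 : (2 : F₀) ≠ 0) {A : Matrix (Fin n) (Fin n) F₀} (hA : Aᵀ = A)
    (hd : A.det ≠ 0) :
    ∃ d : Fin n → F₀, (∀ i, d i ≠ 0) ∧ CongrS A (Matrix.diagonal d) := by
  haveI : Invertible (2 : F₀) := invertibleOfNonzero h2
  have hsym : LinearMap.IsSymm (Matrix.toBilin' A) := ⟨fun x y => by
    rw [RingHom.id_apply, Matrix.toBilin'_apply', Matrix.toBilin'_apply']
    conv_lhs => rw [← hA, mulVec_transpose, dotProduct_comm, ← dotProduct_mulVec]⟩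
  obtain ⟨v, hv⟩ := LinearMap.BilinForm.exists_orthogonal_basis hsym
  let e : Fin n ≃ Fin (Module.finrank F₀ (Fin n → F₀)) := finCongr (Module.finrank_fin_fun F₀).symm
  let T : Matrix (Fin n) (Fin n) F₀ := Matrix.of fun i j => v (e j) i
  have hT : Tᵀ * A * T = Matrix.diagonal fun j => v (e j) ⬝ᵥ (A *ᵥ v (e j)) := by
    ext i j
    rw [FormCongruence.gram_apply]
    rcases eq_or_ne i j with rfl | hij
    · rw [diagonal_apply_eq]; rfl
    · rw [diagonal_apply_ne _ hij]
      have := hv (i := e i) (j := e j) (e.injective.ne hij)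
      show v (e i) ⬝ᵥ (A *ᵥ v (e j)) = 0
      simpa [Function.onFun, LinearMap.BilinForm.IsOrtho, Matrix.toBilin'_apply'] using this
  have hTd : T.det ≠ 0 := by
    have hc := Module.Basis.invertibleToMatrix (Pi.basisFun F₀ (Fin n)) (v.reindex e.symm)
    have he : T = (Pi.basisFun F₀ (Fin n)).toMatrix (v.reindex e.symm) := by
      ext i j; simp [T, Module.Basis.toMatrix_apply]
    rw [he]
    exact ((Matrix.isUnit_iff_isUnit_det _).1 (@isUnit_of_invertible _ _ _ hc)).ne_zero
  set d : Fin n → F₀ := fun j => v (e j) ⬝ᵥ (A *ᵥ v (e j)) with hdd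
  have hdet : (Matrix.diagonal d).det ≠ 0 := by
    rw [← hT, det_mul, det_mul, det_transpose]
    exact mul_ne_zero (mul_ne_zero hTd hd) hTd
  refine ⟨d, fun i e0 => hdet (by rw [det_diagonal]; exact Finset.prod_eq_zero (Finset.mem_univ i) e0),
    1, one_ne_zero, ?_⟩
  rw [one_smul]
  exact congr_of_gram T hT hdet rfl

/-! ### The two types -/

section Types

variable [Fintype F₀] (hF : Fintype.card F = q ^ 2) (hn : 3 ≤ n) (hσ : ∀ x, σ x = x ^ q)
  (hσ2 : orderOf σ = 2) (he : ∀ y, σ y = y ↔ y ∈ emb.range) (h32 : ¬(n = 3 ∧ q = 2))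
  (h2 : (2 : F₀) ≠ 0)
include hF hn hσ hσ2 he h32 h2

theorem balance_sym {d : κ → F₀} (hd : ∀ i, d i ≠ 0) (D : Dat σ emb γ (Matrix.diagonal d))
    (A : Subgroup (MulAut (PSU n F q))) (hinn : ∀ k : PSU n F q, MulAut.conj k ∈ A) :
    Cfsg.pPrimeCore 2 ↥(A ⊓ Subgroup.centralizer {γ}) ≠ ⊥ ↔
      Nat.Coprime 2 (Nat.card ↥(MonoidHom.eqLocus γ.toMonoidHom (MonoidHom.id (PSU n F q)))) := by
  classical
  have hκ : 3 ≤ Fintype.card κ := by rw [D.card_eq]; exact hn
  haveI : Finite (MulAut (PSU n F q)) :=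
    Finite.of_injective (fun α => (α : PSU n F q → PSU n F q)) DFunLike.coe_injective
  refine balance (conj_injective hF hn) A hinn γ 2 ?_ (fun _ Y hYM hYc hYn => ?_)
    (fun x hx hcomm k hk hco => ?_)
  · obtain ⟨i, j, hij⟩ := Fintype.exists_pair_of_one_lt_card (show 1 < Fintype.card κ by omega)
    obtain ⟨c, -, hc⟩ := Finset.exists_mem_notMem_of_card_lt_card (s := ({i, j} : Finset κ))
      (t := Finset.univ) (lt_of_le_of_lt Finset.card_le_two (by rw [Finset.card_univ]; omega))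
    simp only [Finset.mem_insert, Finset.mem_singleton, not_or] at hc
    let s : κ → F₀ := fun x => if x = i then -1 else if x = j then -1 else 1
    have hss : ∀ x, s x * s x = 1 := fun x => by simp only [s]; split_ifs <;> simp
    obtain ⟨g, hg, -, hM⟩ := exists_el hF hn hσ he D (Matrix.diagonal s) (by
      rw [diagonal_transpose, diagonal_mul_diagonal, diagonal_mul_diagonal]
      congr 1; funext x; linear_combination d x * hss x)
    intro hbot
    have h1 := hM (by
      rw [det_diagonal, ← Finset.prod_subset (Finset.subset_univ {i, j}) (fun x _ hx => by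
        simp at hx; simp [s, hx.1, hx.2]), Finset.prod_pair hij]
      simp [s, hij.symm])
    rw [hbot, Subgroup.mem_bot, cj_eq_one_iff hF hn, Cfsg.Geo.mem_scalars_iff] at h1
    obtain ⟨u, hu⟩ := h1
    have e : (Matrix.diagonal s).map emb = (u : F) • 1 := by
      calc (Matrix.diagonal s).map emb = D.b' * gMat g * D.b := by
            rw [hg]; simp only [← Matrix.mul_assoc, D.hb', Matrix.one_mul]
            simp only [Matrix.mul_assoc, D.hb', Matrix.mul_one]
        _ = _ := by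
          rw [show gMat g = (u : F) • 1 from hu, Matrix.mul_smul, Matrix.mul_one, Matrix.smul_mul, D.hb']
    have ei := congrFun (congrFun e i) i
    have ec := congrFun (congrFun e c) c
    simp [s, hc.1, hc.2] at ei ec
    rw [← ec] at ei
    exact h2 (emb.injective (by rw [map_ofNat, map_zero]; linear_combination -ei))
  · -- the core of the centraliser
    let S := simGroup (Matrix.diagonal d)
    obtain ⟨e⟩ := centralizer_equiv hF hn hσ he ⟨D⟩ S (fun x => mem_simGroup _ x)
    set C := Cfsg.inndiagPSU n F q ⊓ Subgroup.centralizer {γ}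
    have hYC : Y ≤ C := hYM.trans (innCent_le γ)
    haveI : (Y.subgroupOf C).Normal := ⟨fun a ha b => hYn b b.2.2 a ha⟩
    haveI : ((Y.subgroupOf C).map e.toMonoidHom).Normal :=
      Subgroup.Normal.map inferInstance _ e.surjective
    haveI : Finite (Cfsg.projQuot S) := Finite.of_equiv _ e.toEquiv
    have hc : Nat.card ((Y.subgroupOf C).map e.toMonoidHom) = Nat.card Y := by
      rw [← Nat.card_congr (Subgroup.equivMapOfInjective _ _ e.injective).toEquiv,
        Nat.card_congr (Subgroup.subgroupOfEquivOfLe hYC).toEquiv]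
    have hY : Odd (Nat.card ((Y.subgroupOf C).map e.toMonoidHom)) := by
      rw [hc]; exact Nat.coprime_two_right.1 hYc
    have h1 := OddCoreOrth52.odd_core hd h2 (fun x => mem_simGroup _ x) _ hY hκ
    rw [h1, Subgroup.card_bot] at hc
    exact Subgroup.card_eq_one.1 hc.symm
  · obtain ⟨g, τ, rfl⟩ := aut_decomp hF hn h32 x
    have hrig := RigidForms52.rigid_sym hκ h2 hd (qMat_inv D g τ) fun P hP hdet => by
      obtain ⟨y, hy, -, hM⟩ := exists_el hF hn hσ he D P hP
      exact comm_of_commute hF hn D g y τ P hy (hcomm _ (hM hdet))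
    rw [← qMat_sq D g τ] at hrig
    have hsq : (cj g * fd τ : MulAut (PSU n F q)) ^ 2 = cj (g * gmU τ g) * fd (τ * τ) := by
      rw [pow_cj_fd, pow_two, ntwU, ntwU, ntwU, map_one, mul_one]
    have hk2 : (cj (g * gmU τ g) * fd (τ * τ) : MulAut (PSU n F q)) ^ k = 1 := by
      rw [← hsq, ← pow_mul, mul_comm, pow_mul, hk, one_pow]
    have h1 := eq_one_of_rigid hF hn he D _ _ hrig hk2 (by rwa [hσ2])
    rw [← hsq] at h1
    have h3 : (cj g * fd τ : MulAut (PSU n F q)) ^ Nat.gcd k 2 = 1 := pow_gcd_eq_one.2 ⟨hk, h1⟩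
    rwa [hco.gcd_eq_one, pow_one] at h3

theorem balance_alt {m : ℕ} (hm : 2 ≤ m) (D : Dat σ emb γ (Matrix.J (Fin m) F₀))
    (A : Subgroup (MulAut (PSU n F q))) (hinn : ∀ k : PSU n F q, MulAut.conj k ∈ A) :
    Cfsg.pPrimeCore 2 ↥(A ⊓ Subgroup.centralizer {γ}) ≠ ⊥ ↔
      Nat.Coprime 2 (Nat.card ↥(MonoidHom.eqLocus γ.toMonoidHom (MonoidHom.id (PSU n F q)))) := by
  classical
  haveI : Finite (MulAut (PSU n F q)) :=
    Finite.of_injective (fun α => (α : PSU n F q → PSU n F q)) DFunLike.coe_injective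
  haveI : Nonempty (Fin m ⊕ Fin m) := ⟨.inl ⟨0, by omega⟩⟩
  set J := Matrix.J (Fin m) F₀ with hJ
  have hJd : J.det ≠ 0 := det_J_ne_zero m
  have halt : ∀ v, v ⬝ᵥ (J *ᵥ v) = 0 := alt_of_skew h2 (Matrix.J_transpose _ _)
  have htr : ∀ (v : Fin m ⊕ Fin m → F₀) (c : F₀),
      (1 + vecMulVec v (c • (J *ᵥ v)))ᵀ * J * (1 + vecMulVec v (c • (J *ᵥ v))) = J ∧
      (1 + vecMulVec v (c • (J *ᵥ v))).det = 1 := by
    intro v c
    have hv : (J *ᵥ v) ⬝ᵥ v = 0 := by rw [dotProduct_comm, halt]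
    have hvm : v ᵥ* J = -(J *ᵥ v) := by
      rw [← Matrix.mulVec_transpose, Matrix.J_transpose, neg_mulVec]
    constructor
    · rw [transpose_add, transpose_one, transpose_vecMulVec, Matrix.add_mul, Matrix.one_mul,
        vecMulVec_mul, hvm, Matrix.mul_add, Matrix.mul_one]
      rw [Matrix.add_mul, mul_vecMulVec, vecMulVec_mul_vecMulVec, neg_dotProduct, hv, neg_zero,
        zero_smul, vecMulVec_zero, add_zero, add_assoc]
      convert add_zero J using 2
      ext a b
      simp [vecMulVec_apply]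
    · rw [vecMulVec_eq Unit, det_one_add_replicateCol_mul_replicateRow, smul_dotProduct, hv,
        smul_zero, add_zero]
  have hmem : ∀ x : AutPSpBasic.Sp m F₀,
      ((x : Matrix (Fin m ⊕ Fin m) (Fin m ⊕ Fin m) F₀))ᵀ * J * (x : Matrix (Fin m ⊕ Fin m) (Fin m ⊕ Fin m) F₀) = J :=
    fun x => SymplecticGroup.mem_iff'.1 x.2
  choose el hel helC _ using fun x : AutPSpBasic.Sp m F₀ => exists_el hF hn hσ he D _ (hmem x)
  have hmul : ∀ x y, el (x * y) = el x * el y := by
    intro x y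
    apply Subtype.ext
    apply Units.ext
    show gMat (el (x * y)) = gMat (el x * el y)
    rw [AutPSU52Graph.gMat_mul, hel, hel, hel]
    show D.b * ((x : Matrix (Fin m ⊕ Fin m) (Fin m ⊕ Fin m) F₀) * (y : Matrix (Fin m ⊕ Fin m) (Fin m ⊕ Fin m) F₀)).map emb * D.b' = _
    rw [emb_mul]
    simp only [Matrix.mul_assoc]
    rw [← Matrix.mul_assoc D.b' D.b, D.hb', Matrix.one_mul]
  let ρ : AutPSpBasic.Sp m F₀ →* MulAut (PSU n F q) := MonoidHom.mk' (fun x => cj (el x)) fun x y => by
    show cj (el (x * y)) = cj (el x) * cj (el y)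
    rw [hmul, map_mul]
  have hrigid : ∀ (g : GU n F q) (τ : F ≃+* F),
      (∀ (v : Fin m ⊕ Fin m → F₀) (c : F₀) (y : GU n F q), gMat y = D.b * (1 + vecMulVec v (c • (J *ᵥ v))).map emb * D.b' →
        Commute (cj g * fd τ : MulAut (PSU n F q)) (cj y)) →
      RigidForms52.Rigid emb τ (qMat D g τ) := by
    intro g τ h
    refine RigidForms52.rigid_alt hJd halt (qMat_inv D g τ) fun v c => ?_
    obtain ⟨y, hy, -, -⟩ := exists_el hF hn hσ he D _ (htr v c).1
    exact comm_of_commute hF hn D g y τ _ hy (h v c y hy)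
  refine balance (conj_injective hF hn) A hinn γ 2 ?_ (fun _ Y hYM hYc hYn => ?_)
    (fun x hx hcomm k hk hco => ?_)
  · intro hbot
    set z : Fin m ⊕ Fin m := .inl ⟨0, by omega⟩
    set z' : Fin m ⊕ Fin m := .inr ⟨0, by omega⟩
    obtain ⟨g, hg, -, hM⟩ := exists_el hF hn hσ he D _ (htr (Pi.single z 1) 1).1
    have h1 := hM (htr _ _).2
    rw [hbot, Subgroup.mem_bot, cj_eq_one_iff hF hn, Cfsg.Geo.mem_scalars_iff] at h1
    obtain ⟨u, hu⟩ := h1
    have e : (1 + vecMulVec (Pi.single z 1) ((1 : F₀) • (J *ᵥ Pi.single z 1))).map emb = (u : F) • 1 := by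
      calc _ = D.b' * gMat g * D.b := by
            rw [hg]; simp only [← Matrix.mul_assoc, D.hb', Matrix.one_mul]
            simp only [Matrix.mul_assoc, D.hb', Matrix.mul_one]
        _ = _ := by
          rw [show gMat g = (u : F) • 1 from hu, Matrix.mul_smul, Matrix.mul_one, Matrix.smul_mul, D.hb']
    have := congrFun (congrFun e z) z'
    simp [z, z', vecMulVec_apply, hJ, Matrix.J, mulVec_single_one] at this
  · rw [Subgroup.eq_bot_iff_forall]
    haveI : (Y.comap ρ).Normal := ⟨fun a ha b => by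
      show ρ (b * a * b⁻¹) ∈ Y
      rw [map_mul, map_mul, map_inv]
      exact hYn _ (helC b) _ ha⟩
    have hcen : ∀ z ∈ Subgroup.center (AutPSpBasic.Sp m F₀), ρ z = 1 := by
      intro z hz
      obtain ⟨a, ha⟩ := SymplecticSimple.center_scalar (by omega) hz
      have hza : (z : Matrix (Fin m ⊕ Fin m) (Fin m ⊕ Fin m) F₀) = a • 1 := by
        refine Matrix.ext_of_mulVec_single fun i => ?_
        rw [smul_mulVec, one_mulVec]
        exact ha _
      show cj (el z) = 1
      have e : gMat (el z) = emb a • 1 := by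
        rw [hel, hza, emb_smul, Matrix.map_one emb (map_zero emb) (map_one emb), Matrix.mul_smul,
          Matrix.smul_mul, Matrix.mul_one, D.hb]
      refine cj_scalar ((Cfsg.Geo.mem_scalars_iff _).2 ⟨Units.mk0 (emb a) (fun h0 =>
        AutPSU52Graph.gMat_ne_zero (by omega) (el z) (by rw [e, h0, zero_smul])), e⟩)
    have hker : Y.comap ρ ≤ Subgroup.center _ := by
      haveI := SymplecticSimple.psp_simple (F := F₀) m hm (fun _ => by
        have h1 := Fintype.one_lt_card (α := F₀)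
        by_contra hlt
        have hc2 : Fintype.card F₀ = 2 := by omega
        haveI : CharP F₀ 2 := charP_of_card_eq_prime (R := F₀) hc2
        exact h2 CharTwo.two_eq_zero)
      haveI hN : ((Y.comap ρ).map (QuotientGroup.mk' (Subgroup.center _))).Normal :=
        Subgroup.Normal.map inferInstance _ (QuotientGroup.mk'_surjective _)
      rcases IsSimpleGroup.eq_bot_or_eq_top_of_normal _ hN with h | h
      · rw [Subgroup.map_eq_bot_iff, QuotientGroup.ker_mk'] at h
        exact h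
      · exfalso
        let j : AutPSpBasic.Sp m F₀ := ⟨Matrix.J (Fin m) F₀, SymplecticGroup.J_mem (Fin m) F₀⟩
        obtain ⟨y, hy, hyj⟩ : QuotientGroup.mk' (Subgroup.center _) j ∈
            (Y.comap ρ).map (QuotientGroup.mk' (Subgroup.center (AutPSpBasic.Sp m F₀))) := by
          rw [h]; trivial
        have hyc := (QuotientGroup.eq).1 hyj
        have hρj : ρ j = ρ y := by
          rw [show j = y * (y⁻¹ * j) by group, map_mul, hcen _ hyc, mul_one]
        have hjj : j * j ∈ Subgroup.center (AutPSpBasic.Sp m F₀) := by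
          refine SymplecticSimple.mem_center_of_scalar (a := (-1 : F₀)) fun v => ?_
          show (Matrix.J (Fin m) F₀ * Matrix.J (Fin m) F₀) *ᵥ v = _
          rw [Matrix.J_squared, neg_mulVec, one_mulVec, neg_one_smul]
        have h1 : ρ j = 1 := eq_one_of_coprime (ρ j) 2 (by rw [pow_two, ← map_mul, hcen _ hjj])
          (hρj ▸ hy) hYc
        have h1' : (cj (el j) : MulAut (PSU n F q)) = 1 := h1
        rw [cj_eq_one_iff hF hn, Cfsg.Geo.mem_scalars_iff] at h1'
        obtain ⟨u, hu⟩ := h1'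
        have e : J.map emb = (u : F) • 1 := by
          calc _ = D.b' * gMat (el j) * D.b := by
                rw [hel]; simp only [← Matrix.mul_assoc, D.hb', Matrix.one_mul]
                simp only [Matrix.mul_assoc, D.hb', Matrix.mul_one]
                rfl
            _ = _ := by
              rw [show gMat (el j) = (u : F) • 1 from hu, Matrix.mul_smul, Matrix.mul_one,
                Matrix.smul_mul, D.hb']
        have := congrFun (congrFun e (.inl ⟨0, by omega⟩)) (.inr ⟨0, by omega⟩)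
        simp [hJ, Matrix.J] at this
    intro y hy
    obtain ⟨g, rfl⟩ := (mem_inndiag _).1 ((hYM.trans (innCent_le γ)) hy).1
    have hgc : (cj g : MulAut (PSU n F q)) * γ = γ * cj g :=
      Subgroup.mem_centralizer_singleton_iff.1 ((hYM hy).2)
    obtain ⟨t, P, u, hu, hg, hP, -⟩ := D.descend hF hn hσ he D g hgc
    have hdP : P.det ≠ 0 := fun h0 => by
      have e := congrArg Matrix.det hP
      rw [det_mul, det_mul, det_transpose, h0, det_smul] at e
      simp [hJd, hu] at e
    set P' := P⁻¹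
    have hPP : P * P' = 1 := Matrix.mul_nonsing_inv _ (isUnit_iff_ne_zero.2 hdP)
    have hPP' : P' * P = 1 := Matrix.nonsing_inv_mul _ (isUnit_iff_ne_zero.2 hdP)
    have hPJ : P'ᵀ * J * P' = u⁻¹ • J := by
      have e : J = u • (P'ᵀ * J * P') := by
        calc J = (P * P')ᵀ * J * (P * P') := by rw [hPP, transpose_one, Matrix.one_mul, Matrix.mul_one]
          _ = P'ᵀ * (Pᵀ * J * P) * P' := by rw [transpose_mul]; simp only [Matrix.mul_assoc]
          _ = _ := by rw [hP, Matrix.mul_smul, Matrix.smul_mul]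
      conv_rhs => rw [e]
      rw [inv_smul_smul₀ hu]
    have hcomm : ∀ x, Commute (cj g : MulAut (PSU n F q)) (ρ x) := by
      intro x
      let x' : AutPSpBasic.Sp m F₀ := ⟨P * (x : Matrix (Fin m ⊕ Fin m) (Fin m ⊕ Fin m) F₀) * P', SymplecticGroup.mem_iff'.2 (by
        calc (P * (x : Matrix (Fin m ⊕ Fin m) (Fin m ⊕ Fin m) F₀) * P')ᵀ * J * (P * (x : Matrix (Fin m ⊕ Fin m) (Fin m ⊕ Fin m) F₀) * P')
            = P'ᵀ * ((x : Matrix (Fin m ⊕ Fin m) (Fin m ⊕ Fin m) F₀)ᵀ * (Pᵀ * J * P) * (x : Matrix (Fin m ⊕ Fin m) (Fin m ⊕ Fin m) F₀)) * P' := by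
              rw [transpose_mul, transpose_mul]; simp only [Matrix.mul_assoc]
          _ = J := by
              rw [hP, Matrix.mul_smul, Matrix.smul_mul, hmem, Matrix.mul_smul, Matrix.smul_mul, hPJ,
                smul_smul, mul_inv_cancel₀ hu, one_smul])⟩
      have e : g * el x = el x' * g := by
        apply Subtype.ext
        apply Units.ext
        show gMat (g * el x) = gMat (el x' * g)
        rw [AutPSU52Graph.gMat_mul, AutPSU52Graph.gMat_mul, hg, hel, hel, Matrix.smul_mul,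
          Matrix.mul_smul]
        congr 1
        show _ = D.b * (P * (x : Matrix (Fin m ⊕ Fin m) (Fin m ⊕ Fin m) F₀) * P').map emb * D.b' * (D.b * P.map emb * D.b')
        simp only [← Matrix.mul_assoc]
        rw [Matrix.mul_assoc _ D.b' D.b, D.hb', Matrix.mul_one, Matrix.mul_assoc _ D.b' D.b, D.hb',
          Matrix.mul_one, Matrix.mul_assoc D.b ((P * (x : Matrix (Fin m ⊕ Fin m) (Fin m ⊕ Fin m) F₀) * P').map emb),
          ← emb_mul, Matrix.mul_assoc (P * _), hPP', Matrix.mul_one, Matrix.mul_assoc D.b,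
          ← emb_mul]
      have h1 : cj g * ρ x * (cj g)⁻¹ = ρ x' := by
        show cj g * cj (el x) * (cj g)⁻¹ = cj (el x')
        rw [← map_inv, ← map_mul, ← map_mul, e, mul_inv_cancel_right]
      have h3 : ρ (x' * x⁻¹) ∈ Y := by
        rw [map_mul, map_inv, ← h1, mul_assoc, mul_assoc]
        refine mul_mem hy ?_
        rw [← mul_assoc]
        exact hYn _ (helC x) _ (inv_mem hy)
      have h4 := hcen _ (hker h3)
      rw [map_mul, map_inv, ← h1, mul_inv_eq_one, mul_inv_eq_iff_eq_mul] at h4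
      exact h4
    have h1 := hrigid g 1 fun v c z hz => by
      rw [map_one, mul_one]
      have h5 := hcomm ⟨_, SymplecticGroup.mem_iff'.2 (htr v c).1⟩
      have e : el ⟨_, SymplecticGroup.mem_iff'.2 (htr v c).1⟩ = z :=
        Subtype.ext (Units.ext ((hel _).trans hz.symm))
      show Commute _ _
      rw [← e]
      exact h5
    have hyk : (cj g * fd (1 : F ≃+* F) : MulAut (PSU n F q)) ^ Nat.card Y = 1 := by
      rw [map_one, mul_one]
      simpa only [SubmonoidClass.coe_pow, OneMemClass.coe_one] using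
        congrArg Subtype.val (pow_card_eq_one' (x := (⟨_, hy⟩ : Y)))
    simpa using eq_one_of_rigid hF hn he D g 1 h1 hyk (by rwa [hσ2])
  · obtain ⟨g, τ, rfl⟩ := aut_decomp hF hn h32 x
    refine eq_one_of_rigid hF hn he D g τ (hrigid g τ fun v c y hy => ?_) hk (by rwa [hσ2])
    obtain ⟨y', hy', -, hM⟩ := exists_el hF hn hσ he D _ (htr v c).1
    rw [show y = y' from Subtype.ext (Units.ext (hy.trans hy'.symm))]
    exact hcomm _ (hM (htr v c).2)

end Types

/-- The criterion for involutions. -/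
theorem balance_two (hF : Fintype.card F = q ^ 2) (hn : 3 ≤ n) (hodd : Odd q) {a : GU n F q}
    {ρ : F ≃+* F} (hρ : orderOf ρ = 2) (hord : orderOf (cj a * fd ρ : MulAut (PSU n F q)) = 2)
    (A : Subgroup (MulAut (PSU n F q))) (hinn : ∀ k : PSU n F q, MulAut.conj k ∈ A) :
    Cfsg.pPrimeCore 2 ↥(A ⊓ Subgroup.centralizer {(cj a * fd ρ : MulAut (PSU n F q))}) ≠ ⊥ ↔
      Nat.Coprime 2 (Nat.card ↥(MonoidHom.eqLocus (cj a * fd ρ : MulAut (PSU n F q)).toMonoidHom
        (MonoidHom.id (PSU n F q)))) := by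
  classical
  have hσ : ∀ x, ρ x = x ^ q := pow_q_of_invol hF hρ
  let F₀ := Kf ρ
  haveI : Fintype F₀ := Fintype.ofFinite _
  have hF₀ : Fintype.card F₀ = q := by
    rw [← Nat.card_eq_fintype_card]; exact card_fixed_invol hF hρ
  let emb : F₀ →+* F := F₀.subtype
  have he : ∀ y, ρ y = y ↔ y ∈ emb.range := fun y =>
    ⟨fun h => ⟨⟨y, h⟩, rfl⟩, by rintro ⟨z, rfl⟩; exact z.2⟩
  have h2 : (2 : F₀) ≠ 0 := two_ne_zero_small hF₀ hodd
  have h32 : ¬(n = 3 ∧ q = 2) := fun h => by rw [h.2] at hodd; exact absurd hodd (by decide)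
  have hgraph : Cfsg.IsGraphAutClassPSU (cj a * fd ρ : MulAut (PSU n F q)) :=
    ⟨hn, cj a, fd ρ, ρ, ⟨1, hρ⟩, (isInnerDiagonal_iff _).2 ⟨a, rfl⟩, (isField_iff _ _).2 rfl, rfl⟩
  obtain ⟨N, hN, hsym⟩ := exists_rep hF hn hσ hρ he hgraph hord
  rcases hsym with hsym | hskew
  · obtain ⟨D⟩ := hN
    obtain ⟨d, hd, hc⟩ := exists_diag h2 hsym D.det_ne_zero
    obtain ⟨D'⟩ := Rep.congr he ⟨D⟩ hc
    exact balance_sym hF hn hσ hρ he h32 h2 hd D' A hinn
  · have halt := alt_of_skew h2 hskew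
    obtain ⟨D⟩ := hN
    obtain ⟨m, hnm, -⟩ := classify_alt halt D.det_ne_zero
    obtain ⟨D'⟩ := rep_J_of_alt he hnm ⟨D⟩ halt
    exact balance_alt hF hn hσ hρ he h32 h2 (by omega) D' A hinn

end Cfsg.Agent.AutPSU52BalTwo
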