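import Mathlib
import Cfsg.Prelude.Def_Classical

/-!
Hermitian geometry over the field with four elements: the form `hermForm n F 2`, unitary
transvections, orthonormal families, and the isotropic vectors used for 3-transposition groups.
-/

set_option autoImplicit false
set_option maxHeartbeats 1000000

namespace Cfsg.Agent.UnitaryF4Geo

variable {F : Type*} [Field F] [Fintype F]

/-- The field has four elements. -/
class FourField (F : Type*) [Field F] [Fintype F] : Prop where
  card_eq : Fintype.card F = 4

variable [hF : FourField F]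

theorem pow_four (x : F) : x ^ 4 = x := by
  have := FiniteField.pow_card x
  rwa [hF.card_eq] at this

theorem two_eq_zero : (2 : F) = 0 := by
  have h4 : ((4 : ℕ) : F) = 0 := by rw [← hF.card_eq]; exact FiniteField.cast_card_eq_zero F
  have : (2 : F) * 2 = 0 := by
    rw [← h4]; norm_num
  exact mul_self_eq_zero.mp this

theorem add_self (x : F) : x + x = 0 := by
  rw [← two_mul, two_eq_zero, zero_mul]

theorem neg_eq (x : F) : -x = x := neg_eq_of_add_eq_zero_right (add_self x)

theorem sub_eq (x y : F) : x - y = x + y := by rw [sub_eq_add_neg, neg_eq]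

theorem eq_of_add_eq_zero {x y : F} (h : x + y = 0) : x = y := by
  rw [← neg_eq y]; exact eq_neg_of_add_eq_zero_left h

theorem sq_add (x y : F) : (x + y) ^ 2 = x ^ 2 + y ^ 2 := by
  linear_combination (x * y) * (two_eq_zero (F := F))

theorem sq_sq (x : F) : (x ^ 2) ^ 2 = x := by rw [← pow_mul]; exact pow_four x

theorem cube {x : F} (hx : x ≠ 0) : x ^ 3 = 1 := by
  apply mul_right_cancel₀ hx
  rw [one_mul, ← pow_succ]
  exact pow_four x

theorem rel {x : F} (h0 : x ≠ 0) (h1 : x ≠ 1) : x ^ 2 = x + 1 := by
  have h3 := cube h0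
  have : (x - 1) * (x ^ 2 + x + 1) = 0 := by linear_combination h3
  have := (mul_eq_zero.mp this).resolve_left (sub_ne_zero.mpr h1)
  exact eq_of_add_eq_zero (by linear_combination this)

theorem exists_omega : ∃ w : F, w ^ 2 = w + 1 := by
  classical
  obtain ⟨w, -, hw⟩ := Finset.exists_mem_notMem_of_card_lt_card (s := ({0, 1} : Finset F))
    (t := Finset.univ) (by
      rw [Finset.card_univ, hF.card_eq]
      exact Finset.card_le_two.trans_lt (by norm_num))
  simp only [Finset.mem_insert, Finset.mem_singleton, not_or] at hw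
  exact ⟨w, rel hw.1 hw.2⟩

theorem omega_ne {w : F} (hw : w ^ 2 = w + 1) : w ≠ 0 ∧ w ≠ 1 := by
  constructor <;> rintro rfl <;> simp at hw

theorem fixed_cases {x : F} (h : x ^ 2 = x) : x = 0 ∨ x = 1 := by
  have : x * (x - 1) = 0 := by linear_combination h
  rcases mul_eq_zero.mp this with h | h
  · exact Or.inl h
  · exact Or.inr (sub_eq_zero.mp h)

variable {n : ℕ}

/-- The Hermitian form. -/
def h (u v : Fin n → F) : F := ∑ i, u i * v i ^ 2

omit hF [Fintype F] in
theorem h_eq (u v : Fin n → F) : h u v = Cfsg.hermForm n F 2 u v := rfl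

omit hF [Fintype F] in
theorem h_add_left (u u' v : Fin n → F) : h (u + u') v = h u v + h u' v := by
  simp only [h, Pi.add_apply, add_mul, Finset.sum_add_distrib]

omit hF [Fintype F] in
theorem h_smul_left (c : F) (u v : Fin n → F) : h (c • u) v = c * h u v := by
  simp only [h, Pi.smul_apply, smul_eq_mul, mul_assoc, Finset.mul_sum]

omit hF [Fintype F] in
theorem h_zero_left (v : Fin n → F) : h 0 v = 0 := by simp [h]

theorem h_add_right (u v v' : Fin n → F) : h u (v + v') = h u v + h u v' := by
  simp only [h, Pi.add_apply, sq_add, mul_add, Finset.sum_add_distrib]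

omit hF [Fintype F] in
theorem h_smul_right (c : F) (u v : Fin n → F) : h u (c • v) = c ^ 2 * h u v := by
  simp only [h, Pi.smul_apply, smul_eq_mul, mul_pow, Finset.mul_sum]
  exact Finset.sum_congr rfl fun i _ => by ring

omit hF [Fintype F] in
theorem h_zero_right (u : Fin n → F) : h u 0 = 0 := by simp [h]

theorem sq_sum {ι : Type*} (s : Finset ι) (f : ι → F) :
    (∑ i ∈ s, f i) ^ 2 = ∑ i ∈ s, f i ^ 2 := by
  classical
  induction s using Finset.induction_on with
  | empty => simp
  | insert a s ha ih => rw [Finset.sum_insert ha, Finset.sum_insert ha, sq_add, ih]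

theorem h_symm (u v : Fin n → F) : h v u = h u v ^ 2 := by
  simp only [h, sq_sum, mul_pow, sq_sq]
  exact Finset.sum_congr rfl fun i _ => by ring

theorem h_self (v : Fin n → F) : h v v = 0 ∨ h v v = 1 :=
  fixed_cases (h_symm v v).symm

theorem h_comm_zero {u v : Fin n → F} (e : h u v = 0) : h v u = 0 := by
  rw [h_symm, e]; ring

theorem h_comm_one {u v : Fin n → F} (e : h u v = 1) : h v u = 1 := by
  rw [h_symm, e]; ring

omit hF [Fintype F] in
theorem h_single [DecidableEq (Fin n)] (v : Fin n → F) (i : Fin n) :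
    h v (Pi.single i 1) = v i := by
  rw [h, Finset.sum_eq_single i] <;> simp +contextual [Pi.single_eq_of_ne]

theorem exists_h_eq_one {u : Fin n → F} (hu : u ≠ 0) : ∃ v, h v u = 1 ∧ h u v = 1 := by
  classical
  obtain ⟨i, hi⟩ := Function.ne_iff.mp hu
  have key : h ((u i ^ 2)⁻¹ • Pi.single i 1) u = 1 := by
    rw [h_smul_left, h_symm, h_single, inv_mul_cancel₀]
    exact pow_ne_zero 2 hi
  exact ⟨_, key, h_comm_one key⟩

theorem eq_zero_of_h {v : Fin n → F} (e : ∀ w, h v w = 0) : v = 0 := by
  classical
  funext i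
  rw [← h_single v i]
  exact e _

/-- The transvection with centre `u`. -/
def tv (u : Fin n → F) : (Fin n → F) →ₗ[F] (Fin n → F) where
  toFun v := v + h v u • u
  map_add' v w := by rw [h_add_left, add_smul]; abel
  map_smul' c v := by rw [h_smul_left, smul_add, smul_smul, RingHom.id_apply]

omit hF [Fintype F] in
theorem tv_apply (u v : Fin n → F) : tv u v = v + h v u • u := rfl

theorem vec_add_self (v : Fin n → F) : v + v = 0 := funext fun i => add_self (v i)

theorem vec_eq_of_add {u v : Fin n → F} (e : u + v = 0) : u = v :=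
  funext fun i => eq_of_add_eq_zero (congrFun e i)

theorem tv_tv {u : Fin n → F} (hu : h u u = 0) (v : Fin n → F) : tv u (tv u v) = v := by
  rw [tv_apply, tv_apply, h_add_left, h_smul_left, hu, mul_zero, add_zero, add_assoc,
    vec_add_self, add_zero]

theorem tv_isom {u : Fin n → F} (hu : h u u = 0) (v w : Fin n → F) :
    h (tv u v) (tv u w) = h v w := by
  simp only [tv_apply, h_add_left, h_add_right, h_smul_left, h_smul_right, hu, mul_zero, add_zero]
  rw [h_symm w u, add_assoc, mul_comm (h v u), add_self, add_zero]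

theorem tv_smul {u : Fin n → F} {c : F} (hc : c ≠ 0) : tv (c • u) = tv u := by
  refine LinearMap.ext fun v => ?_
  rw [tv_apply, tv_apply, h_smul_right, smul_smul,
    show c ^ 2 * h v u * c = c ^ 3 * h v u by ring, cube hc, one_mul]

theorem tv_inj {u u' : Fin n → F} (hu : u ≠ 0) (e : tv u = tv u') : ∃ c : F, c ≠ 0 ∧ u = c • u' := by
  obtain ⟨v, hv, -⟩ := exists_h_eq_one hu
  have := LinearMap.congr_fun e v
  rw [tv_apply, tv_apply, hv, one_smul] at this
  have h' : u = h v u' • u' := add_left_cancel this
  refine ⟨h v u', ?_, h'⟩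
  intro h0
  rw [h0, zero_smul] at h'
  exact hu h'

theorem tv_fix {u v : Fin n → F} (e : h v u = 0) : tv u v = v := by
  rw [tv_apply, e, zero_smul, add_zero]

/-- Conjugation of transvections by isometries. -/
theorem tv_conj (g : (Fin n → F) →ₗ[F] (Fin n → F)) (hg : ∀ v w, h (g v) (g w) = h v w)
    (u v : Fin n → F) : g (tv u v) = tv (g u) (g v) := by
  rw [tv_apply, tv_apply, map_add, map_smul, hg]

/-- An orthonormal family. -/
def ON {k : ℕ} (f : Fin k → Fin n → F) : Prop :=
  ∀ i j, h (f i) (f j) = if i = j then 1 else 0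

omit hF [Fintype F] in
theorem h_sum_left {ι : Type*} [Fintype ι] (c : ι → F) (f : ι → Fin n → F) (v : Fin n → F) :
    h (∑ i, c i • f i) v = ∑ i, c i * h (f i) v := by
  simp only [h, Finset.sum_apply, Pi.smul_apply, smul_eq_mul, Finset.sum_mul, Finset.mul_sum]
  rw [Finset.sum_comm]
  exact Finset.sum_congr rfl fun _ _ => Finset.sum_congr rfl fun _ _ => by ring

omit hF [Fintype F] in
theorem ON.h_sum {k : ℕ} {f : Fin k → Fin n → F} (hf : ON f) (c : Fin k → F) (j : Fin k) :
    h (∑ i, c i • f i) (f j) = c j := by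
  rw [h_sum_left, Finset.sum_eq_single j] <;> simp +contextual [hf _ _]

theorem exists_one {k : ℕ} {f : Fin k → Fin n → F} (hf : ON f) (hk : k < n) :
    ∃ y, h y y = 1 ∧ ∀ i, h y (f i) = 0 ∧ h (f i) y = 0 := by
  let φ : (Fin n → F) →ₗ[F] (Fin k → F) :=
    { toFun := fun v i => h v (f i)
      map_add' := fun v w => funext fun i => h_add_left _ _ _
      map_smul' := fun c v => funext fun i => h_smul_left _ _ _ }
  have hker : LinearMap.ker φ ≠ ⊥ := LinearMap.ker_ne_bot_of_finrank_lt (by simp [hk])
  obtain ⟨y, hy, hy0⟩ := (Submodule.ne_bot_iff _).mp hker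
  have hy' : ∀ i, h y (f i) = 0 := fun i => congrFun (LinearMap.mem_ker.mp hy) i
  rcases h_self y with e | e
  swap
  · exact ⟨y, e, fun i => ⟨hy' i, h_comm_zero (hy' i)⟩⟩
  obtain ⟨z, hz, -⟩ := exists_h_eq_one hy0
  set z' := z + ∑ i, h z (f i) • f i with hz'
  have hzf : ∀ i, h z' (f i) = 0 := fun i => by
    rw [hz', h_add_left, hf.h_sum, add_self]
  have hzy : h z' y = 1 := by
    rw [hz', h_add_left, hz, h_sum_left, Finset.sum_eq_zero (fun i _ => ?_), add_zero]
    rw [h_comm_zero (hy' i), mul_zero]
  rcases h_self z' with e' | e'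
  swap
  · exact ⟨z', e', fun i => ⟨hzf i, h_comm_zero (hzf i)⟩⟩
  obtain ⟨w, hw⟩ := exists_omega (F := F)
  refine ⟨z' + w • y, ?_, fun i => ?_⟩
  · simp only [h_add_left, h_add_right, h_smul_left, h_smul_right, e, e', hzy, h_comm_one hzy]
    linear_combination hw + w * (two_eq_zero (F := F))
  · have : h (z' + w • y) (f i) = 0 := by
      rw [h_add_left, h_smul_left, hzf, hy', mul_zero, add_zero]
    exact ⟨this, h_comm_zero this⟩

theorem ON.snoc {k : ℕ} {f : Fin k → Fin n → F} (hf : ON f) {y : Fin n → F} (hy : h y y = 1)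
    (hyf : ∀ i, h y (f i) = 0 ∧ h (f i) y = 0) :
    ON (Fin.snoc (α := fun _ => Fin n → F) f y) := by
  intro i j
  cases i using Fin.lastCases with
  | last =>
    cases j using Fin.lastCases with
    | last => simp [hy]
    | cast j => simp [(hyf j).1, (Fin.castSucc_lt_last j).ne']
  | cast i =>
    cases j using Fin.lastCases with
    | last => simp [(hyf i).2]
    | cast j => simp [hf i j]

theorem ON.le {k : ℕ} {f : Fin k → Fin n → F} (hf : ON f) : k ≤ n := by
  have hli : LinearIndependent F f := by
    rw [Fintype.linearIndependent_iff]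
    intro c hc j
    rw [← hf.h_sum c j, hc, h_zero_left]
  simpa using hli.fintype_card_le_finrank

/-- Every orthonormal family extends to an orthonormal family of full length. -/
theorem exists_frame : ∀ (m k : ℕ) (f : Fin k → Fin n → F), ON f → k + m = n →
    ∃ b : Fin n → Fin n → F, ON b ∧ ∀ (i : Fin k) (hi : (i : ℕ) < n), b ⟨i, hi⟩ = f i := by
  intro m
  induction m with
  | zero =>
    intro k f hf hkn
    obtain rfl : k = n := by omega
    exact ⟨f, hf, fun i hi => rfl⟩
  | succ m ih =>
    intro k f hf hkn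
    obtain ⟨y, hy, hyf⟩ := exists_one hf (by omega)
    obtain ⟨b, hb, hbf⟩ := ih (k + 1) _ (hf.snoc hy hyf) (by omega)
    refine ⟨b, hb, fun i hi => ?_⟩
    have := hbf i.castSucc (by simpa using hi)
    simpa using this

theorem ON.expand {b : Fin n → Fin n → F} (hb : ON b) (v : Fin n → F) :
    v = ∑ i, h v (b i) • b i := by
  apply vec_eq_of_add
  by_contra hne
  set y := v + ∑ i, h v (b i) • b i with hy
  have hyb : ∀ i, h y (b i) = 0 := fun i => by rw [hy, h_add_left, hb.h_sum, add_self]
  let φ : (Fin n → F) →ₗ[F] (Fin n → F) :=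
    { toFun := fun u i => h u (b i)
      map_add' := fun u w => funext fun i => h_add_left _ _ _
      map_smul' := fun c u => funext fun i => h_smul_left _ _ _ }
  have hsurj : Function.Surjective φ := fun c =>
    ⟨∑ i, c i • b i, funext fun j => hb.h_sum c j⟩
  exact hne (LinearMap.injective_iff_surjective.mpr hsurj (a₁ := y) (a₂ := 0)
    (funext fun i => by simp [φ, hyb i, h_zero_left]))

theorem ON.ext {b : Fin n → Fin n → F} (hb : ON b) {f g : (Fin n → F) →ₗ[F] (Fin n → F)}
    (e : ∀ i, f (b i) = g (b i)) : f = g := by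
  refine LinearMap.ext fun v => ?_
  rw [hb.expand v, map_sum, map_sum]
  exact Finset.sum_congr rfl fun i _ => by rw [map_smul, map_smul, e]

theorem ON_one {a : Fin n → F} (ha : h a a = 1) : ON ![a] := by
  intro i j; fin_cases i; fin_cases j; simpa using ha

theorem ON_two {a b : Fin n → F} (ha : h a a = 1) (hb : h b b = 1) (hab : h a b = 0) :
    ON ![a, b] := by
  intro i j
  fin_cases i <;> fin_cases j <;> simp [ha, hb, hab, h_comm_zero hab]

theorem ON_three {a b c : Fin n → F} (ha : h a a = 1) (hb : h b b = 1) (hc : h c c = 1)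
    (hab : h a b = 0) (hac : h a c = 0) (hbc : h b c = 0) : ON ![a, b, c] := by
  intro i j
  fin_cases i <;> fin_cases j <;>
    simp [ha, hb, hc, hab, hac, hbc, h_comm_zero hab, h_comm_zero hac, h_comm_zero hbc]

/-! ### A hyperbolic pair and its orthogonal complement -/

/-- `p` and `q` are isotropic with product `1`. -/
structure Hyp (p q : Fin n → F) : Prop where
  pp : h p p = 0
  qq : h q q = 0
  pq : h p q = 1

theorem Hyp.qp {p q : Fin n → F} (H : Hyp p q) : h q p = 1 := h_comm_one H.pq

theorem exists_hyp {p : Fin n → F} (hp : p ≠ 0) (hpp : h p p = 0) : ∃ q, Hyp p q := by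
  obtain ⟨z, -, hz⟩ := exists_h_eq_one hp
  rcases h_self z with e | e
  · exact ⟨z, hpp, e, hz⟩
  · obtain ⟨w, hw⟩ := exists_omega (F := F)
    refine ⟨z + w • p, hpp, ?_, ?_⟩
    · simp only [h_add_left, h_add_right, h_smul_left, h_smul_right, e, hpp, hz, h_comm_one hz]
      linear_combination hw + (w + 1) * (two_eq_zero (F := F))
    · rw [h_add_right, h_smul_right, hpp, hz, mul_zero, add_zero]

/-- The two orthonormal vectors spanning the plane of a hyperbolic pair. -/
theorem Hyp.exists_one {p q : Fin n → F} (H : Hyp p q) (hn : 3 ≤ n) :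
    ∃ y, h y y = 1 ∧ h y p = 0 ∧ h y q = 0 := by
  obtain ⟨w, hw⟩ := exists_omega (F := F)
  have e1 : h (q + w • p) (q + w • p) = 1 := by
    simp only [h_add_left, h_add_right, h_smul_left, h_smul_right, H.pp, H.qq, H.pq, H.qp]
    linear_combination hw + w * (two_eq_zero (F := F))
  have e2 : h (q + w • p + p) (q + w • p + p) = 1 := by
    simp only [h_add_left, h_add_right, h_smul_left, h_smul_right, H.pp, H.qq, H.pq, H.qp]
    linear_combination hw + (w + 1) * (two_eq_zero (F := F))
  have e3 : h (q + w • p) (q + w • p + p) = 0 := by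
    simp only [h_add_left, h_add_right, h_smul_left, h_smul_right, H.pp, H.qq, H.pq, H.qp]
    linear_combination hw + (w + 1) * (two_eq_zero (F := F))
  obtain ⟨y, hy, hyf⟩ := UnitaryF4Geo.exists_one (ON_two e1 e2 e3) (by omega)
  have a1 : h y (q + w • p) = 0 := by simpa using (hyf 0).1
  have a2 : h y (q + w • p + p) = 0 := by simpa using (hyf 1).1
  have a3 : h y p = 0 := by rw [h_add_right, a1, zero_add] at a2; exact a2
  rw [h_add_right, h_smul_right, a3, mul_zero, add_zero] at a1
  exact ⟨y, hy, a3, a1⟩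

/-- A norm-one vector of the complement orthogonal to a given one. -/
theorem Hyp.exists_orth {p q w : Fin n → F} (H : Hyp p q) (hn : 4 ≤ n) (hw1 : h w w = 1)
    (hwp : h w p = 0) (hwq : h w q = 0) :
    ∃ y, h y y = 1 ∧ h y p = 0 ∧ h y q = 0 ∧ h y w = 0 := by
  obtain ⟨o, ho⟩ := exists_omega (F := F)
  have e1 : h (q + o • p) (q + o • p) = 1 := by
    simp only [h_add_left, h_add_right, h_smul_left, h_smul_right, H.pp, H.qq, H.pq, H.qp]
    linear_combination ho + o * (two_eq_zero (F := F))
  have e2 : h (q + o • p + p) (q + o • p + p) = 1 := by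
    simp only [h_add_left, h_add_right, h_smul_left, h_smul_right, H.pp, H.qq, H.pq, H.qp]
    linear_combination ho + (o + 1) * (two_eq_zero (F := F))
  have e3 : h (q + o • p) (q + o • p + p) = 0 := by
    simp only [h_add_left, h_add_right, h_smul_left, h_smul_right, H.pp, H.qq, H.pq, H.qp]
    linear_combination ho + (o + 1) * (two_eq_zero (F := F))
  have e4 : h (q + o • p) w = 0 := by
    rw [h_add_left, h_smul_left, h_comm_zero hwp, h_comm_zero hwq, mul_zero, add_zero]
  have e5 : h (q + o • p + p) w = 0 := by rw [h_add_left, e4, h_comm_zero hwp, add_zero]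
  obtain ⟨y, hy, hyf⟩ := UnitaryF4Geo.exists_one (ON_three e1 e2 hw1 e3 e4 e5) (by omega)
  have a1 : h y (q + o • p) = 0 := by simpa using (hyf 0).1
  have a2 : h y (q + o • p + p) = 0 := by simpa using (hyf 1).1
  have a4 : h y w = 0 := by simpa using (hyf 2).1
  have a3 : h y p = 0 := by rw [h_add_right, a1, zero_add] at a2; exact a2
  rw [h_add_right, h_smul_right, a3, mul_zero, add_zero] at a1
  exact ⟨y, hy, a3, a1, a4⟩

/-- The component of a vector orthogonal to a hyperbolic pair. -/
def proj (p q v : Fin n → F) : Fin n → F := v + h v q • p + h v p • q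

theorem Hyp.proj_p {p q : Fin n → F} (H : Hyp p q) (v : Fin n → F) : h (proj p q v) p = 0 := by
  simp only [proj, h_add_left, h_smul_left, H.pp, H.qp]
  linear_combination h v p * (two_eq_zero (F := F))

theorem Hyp.proj_q {p q : Fin n → F} (H : Hyp p q) (v : Fin n → F) : h (proj p q v) q = 0 := by
  simp only [proj, h_add_left, h_smul_left, H.pq, H.qq]
  linear_combination h v q * (two_eq_zero (F := F))

theorem proj_decomp (p q v : Fin n → F) : v = h v q • p + h v p • q + proj p q v := by
  apply vec_eq_of_add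
  funext i
  simp only [proj, Pi.add_apply, Pi.smul_apply, smul_eq_mul, Pi.zero_apply]
  linear_combination (v i + h v q * p i + h v p * q i) * (two_eq_zero (F := F))

/-- A subset of the complement containing all isotropic vectors and closed under sums is everything. -/
theorem Hyp.induction {p q : Fin n → F} (H : Hyp p q) (hn : 4 ≤ n) {P : (Fin n → F) → Prop}
    (hP0 : ∀ u, h u p = 0 → h u q = 0 → h u u = 0 → P u)
    (hP1 : ∀ u u', h u p = 0 → h u q = 0 → h u' p = 0 → h u' q = 0 → P u → P u' → P (u + u'))
    {v : Fin n → F} (hvp : h v p = 0) (hvq : h v q = 0) : P v := by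
  rcases h_self v with e | e
  · exact hP0 v hvp hvq e
  obtain ⟨y, hy, hyp, hyq, hyv⟩ := H.exists_orth hn e hvp hvq
  obtain ⟨w, hw⟩ := exists_omega (F := F)
  have hvy := h_comm_zero hyv
  have key : v = w • (v + w • y) + (w ^ 2) • (v + y) := by
    funext i
    simp only [Pi.add_apply, Pi.smul_apply, smul_eq_mul]
    linear_combination (-(v i) * 1) * hw - (w ^ 2 * y i + w * v i) * (two_eq_zero (F := F))
  rw [key]
  refine hP1 _ _ ?_ ?_ ?_ ?_ (hP0 _ ?_ ?_ ?_) (hP0 _ ?_ ?_ ?_)
  all_goals simp only [h_add_left, h_add_right, h_smul_left, h_smul_right, hvp, hvq, hyp, hyq, hy,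
    hyv, hvy, e]
  all_goals try ring1
  · linear_combination (w ^ 3) * (cube (omega_ne hw).1) + w ^ 3 * (two_eq_zero (F := F))
  · linear_combination (w ^ 6) * (two_eq_zero (F := F))

end Cfsg.Agent.UnitaryF4Geo
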