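import Mathlib
import Cfsg.Agent.Lib.AutPSU52BalTwo
import Cfsg.Agent.S0282
import Cfsg.Agent.S0827

/-!
Local balance for field automorphisms of odd prime order of `PSU`.
-/

set_option autoImplicit false
set_option linter.unusedSectionVars false

namespace Cfsg.Agent.AutPSU52BalOdd

open Matrix
open Cfsg.Agent.OrthUnitaryHerm Cfsg.Agent.OrthUnitaryTransvection Cfsg.Agent.OrthUnitaryPSU
open Cfsg.Agent.AutPSU52Basic Cfsg.Agent.AutPSU52Api Cfsg.Agent.AutPSU52Field
open Cfsg.Agent.AutPSU52Lang Cfsg.Agent.BalanceGeneric52 Cfsg.Agent.AutPSU52BalTwo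
open scoped MatrixGroups

variable {F : Type*} [Field F] [Fintype F] {q n q₀ : ℕ}

theorem exists_guMap (hF : Fintype.card F = q ^ 2) {F₀ : Type*} [Field F₀] [Fintype F₀]
    (hF₀ : Fintype.card F₀ = q₀ ^ 2) (ι : F₀ →+* F) (hιq : ∀ x, ι x ^ q = ι (x ^ q₀))
    {σ : F ≃+* F} (hι : ∀ x, σ x = x ↔ x ∈ ι.range) {g0 : GU n F q} (h0 : gmU σ g0 = g0) :
    ∃ G, guMap (n := n) hF hF₀ ι hιq G = g0 := by
  have hent : ∀ i j, gMat g0 i j ∈ ι.range := fun i j =>
    (hι _).1 (congrArg (fun g : GU n F q => gMat g i j) h0)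
  choose G hG using hent
  have hGmap : (Matrix.of G).map ι = gMat g0 := by ext i j; exact hG i j
  have hGU : IsU q₀ (Matrix.of G) := fun u v => ι.injective (by
    have e : ∀ w : Fin n → F₀, ι ∘ (Matrix.of G *ᵥ w) = gMat g0 *ᵥ (ι ∘ w) := fun w => by
      rw [← hGmap]
      exact funext fun i => ι.map_mulVec _ w i
    rw [← herm_map ι hιq, ← herm_map ι hιq, e, e, isU_of_mem g0])
  refine ⟨mkGU hF₀ _ hGU, Subtype.ext (Units.ext ?_)⟩
  show Matrix.map (gMat (mkGU hF₀ _ hGU)) ι = gMat g0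
  rw [show gMat (mkGU hF₀ _ hGU) = Matrix.of G from mkGU_coe hF₀ _ _, hGmap]

theorem center_of_scalar {s : SU n F q} {c : F} (h : sMat s = c • 1) :
    s ∈ Subgroup.center (SU n F q) :=
  mem_center_of_scalar (a := c) fun v => by
    show sMat s *ᵥ v = _
    rw [h, smul_mulVec, one_mulVec]

theorem scalar_of_center (hF : Fintype.card F = q ^ 2) (hn : 2 ≤ n) {s : SU n F q}
    (h : s ∈ Subgroup.center (SU n F q)) : ∃ c : F, c ≠ 0 ∧ sMat s = c • 1 := by
  obtain ⟨c, hc0, hc⟩ := exists_scalar_of_mem_center hF hn h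
  refine ⟨c, hc0, Matrix.ext_of_mulVec_single fun i => ?_⟩
  rw [smul_mulVec, one_mulVec]
  exact hc _

/-- The order of `PSU` is divisible by the prime divisors of `q + 1`. -/
theorem dvd_card_of_dvd (hF : Fintype.card F = q ^ 2) (hn : 3 ≤ n) {p : ℕ} [hp : Fact p.Prime]
    (h : p ∣ q + 1) : p ∣ Nat.card (PSU n F q) := by
  classical
  obtain ⟨z, hz⟩ := exists_prime_orderOf_dvd_card' (G := mu q F) p (by rwa [card_mu hF])
  let i0 : Fin n := ⟨0, by omega⟩
  let i1 : Fin n := ⟨1, by omega⟩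
  let i2 : Fin n := ⟨2, by omega⟩
  set x : F := ((z : Fˣ) : F) with hx
  have hxn : x ^ (q + 1) = 1 := AutPSU52GraphSplit.mu_val_pow z
  have hx0 : x ≠ 0 := (z : Fˣ).ne_zero
  have hxp : x ^ p = 1 := by
    have := pow_orderOf_eq_one z
    rw [hz] at this
    simpa using congrArg (fun u : mu q F => ((u : Fˣ) : F)) this
  have hx1 : x ≠ 1 := fun e => by
    have : z = 1 := Subtype.ext (Units.ext e)
    rw [this, orderOf_one] at hz
    exact hp.out.ne_one hz.symm
  let d : Fin n → F := fun l => if l = i0 then x else if l = i1 then x⁻¹ else 1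
  have hd : ∀ l, d l ^ (q + 1) = 1 := fun l => by
    simp only [d]; split_ifs <;> simp [hxn, inv_pow]
  have hmon : monMat 1 d = Matrix.diagonal d := by
    simp [monMat, Matrix.permMatrix_one]
  have hU : IsU q (Matrix.diagonal d) := hmon ▸ isU_monMat 1 hd
  have hdet : (Matrix.diagonal d).det = 1 := by
    rw [det_diagonal, ← Finset.prod_subset (Finset.subset_univ {i0, i1}) (fun l _ hl => by
      simp at hl; simp [d, hl.1, hl.2]), Finset.prod_pair (by simp [i0, i1])]
    simp [d, i0, i1, hx0]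
  have : mkGU hF _ hU ∈ (suToGU (n := n) (F := F) (q := q)).range := by
    rw [range_suToGU]
    exact MonoidHom.mem_ker.2 (Units.ext ((congrArg Matrix.det (mkGU_coe hF _ hU)).trans hdet))
  obtain ⟨s, hs⟩ := this
  have hsM : sMat s = Matrix.diagonal d := by
    have := congrArg gMat hs
    rw [show gMat (mkGU hF _ hU) = _ from mkGU_coe hF _ hU] at this
    exact this
  have hne : (QuotientGroup.mk s : PSU n F q) ≠ 1 := fun e => by
    obtain ⟨c, -, hc⟩ := scalar_of_center hF (by omega) ((QuotientGroup.eq_one_iff s).1 e)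
    rw [hsM] at hc
    have e0 := congrFun (congrFun hc i0) i0
    have e2 := congrFun (congrFun hc i2) i2
    simp [d, i0, i1, i2] at e0 e2
    exact hx1 (e0.trans e2.symm)
  have hpow : s ^ p = 1 := by
    apply Subtype.ext
    apply Subtype.ext
    show (sMat s) ^ p = 1
    rw [hsM, Matrix.diagonal_pow, ← diagonal_one]
    congr 1
    funext l
    simp only [Pi.pow_apply, d]
    split_ifs <;> simp [hxp, inv_pow]
  have := orderOf_eq_prime (x := (QuotientGroup.mk s : PSU n F q))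
    (by rw [← QuotientGroup.mk_pow, hpow, QuotientGroup.mk_one]) hne
  exact this ▸ orderOf_dvd_natCard _

theorem suToGU_suConj (G : GU n F q) (s : SU n F q) : suToGU (suConj G s) = G * suToGU s * G⁻¹ :=
  Subtype.ext (Units.ext (coe_suConj G s))

/-- A `2`-group normalised by `GU(3,2)` in a faithful projective image is trivial. -/
theorem core32 {F₀ : Type*} [Field F₀] [Fintype F₀] (hF₀ : Fintype.card F₀ = 2 ^ 2) {H : Type*}
    [Group H] (ρ : GU 3 F₀ 2 →* H) (hρker : ∀ G, ρ G = 1 ↔ ∃ c : F₀, gMat G = c • 1)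
    (Y : Subgroup H) (hYc : (Nat.card Y).Coprime 3) (hYn : ∀ x, ∀ y ∈ Y, ρ x * y * (ρ x)⁻¹ ∈ Y)
    (G : GU 3 F₀ 2) (y : H) (hy : y ∈ Y) (hG : y = ρ G) : y = 1 := by
  classical
  let ρS : SU 3 F₀ 2 →* H := ρ.comp suToGU
  have hρScen : ∀ s, ρS s = 1 ↔ s ∈ Subgroup.center (SU 3 F₀ 2) := fun s => by
    refine (hρker _).trans ⟨fun ⟨c, hc⟩ => center_of_scalar hc, fun h => ?_⟩
    obtain ⟨c, -, hc⟩ := scalar_of_center hF₀ (by omega) h
    exact ⟨c, hc⟩
  have hF4 : Fintype.card F₀ = 4 := by rw [hF₀]; norm_num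
  obtain ⟨N, hNn, hN9, hN3, -⟩ := S0827.result hF4
  have h72 := (S0282.result hF4).1
  obtain ⟨w, hw⟩ := exists_prime_orderOf_dvd_card' (G := mu 2 F₀) 3 (by rw [card_mu hF₀])
  set x : F₀ := ((w : F₀ˣ) : F₀) with hx
  have hx3 : x ^ (2 + 1) = 1 := AutPSU52GraphSplit.mu_val_pow w
  have hx0 : x ≠ 0 := (w : F₀ˣ).ne_zero
  have hx1 : x ≠ 1 := fun e => by
    have : w = 1 := Subtype.ext (Units.ext e)
    rw [this, orderOf_one] at hw
    omega
  have hxx : x⁻¹ ≠ x := fun e => hx1 (by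
    have h2 : x * x = 1 := by nth_rewrite 1 [← e]; exact inv_mul_cancel₀ hx0
    calc x = x * (x * x) := by rw [h2, mul_one]
      _ = 1 := by rw [← hx3]; ring)
  let d : Fin 3 → F₀ := ![x, x⁻¹, 1]
  have hd3 : ∀ l, d l ^ (2 + 1) = 1 := fun l => by fin_cases l <;> simp [d, hx3, inv_pow]
  have hdinj : ∀ l k, l ≠ k → d l ≠ d k := fun l k hlk => by
    have h12 : x⁻¹ ≠ 1 := inv_ne_one.2 hx1
    fin_cases l <;> fin_cases k <;> first
      | exact absurd rfl hlk
      | simpa [d] using hxx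
      | simpa [d] using hxx.symm
      | simpa [d] using hx1
      | simpa [d] using hx1.symm
      | simpa [d] using h12
      | simpa [d] using h12.symm
  have hU : IsU 2 (Matrix.diagonal d) := by
    have := isU_monMat (q := 2) (1 : Equiv.Perm (Fin 3)) hd3
    simpa [monMat, Matrix.permMatrix_one] using this
  have : mkGU hF₀ _ hU ∈ (suToGU (n := 3) (F := F₀) (q := 2)).range := by
    rw [range_suToGU]
    refine MonoidHom.mem_ker.2 (Units.ext ((congrArg Matrix.det (mkGU_coe hF₀ _ hU)).trans ?_))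
    rw [det_diagonal, Fin.prod_univ_three]
    simp [d, hx0]
  obtain ⟨a, ha⟩ := this
  have haM : gMat (suToGU a) = Matrix.diagonal d := by rw [ha]; exact mkGU_coe hF₀ _ hU
  have ha3 : a ^ 3 = 1 := by
    apply Subtype.ext
    apply Subtype.ext
    show (gMat (suToGU a)) ^ 3 = 1
    rw [haM, Matrix.diagonal_pow, ← diagonal_one]
    congr 1
    funext l
    simpa using hd3 l
  have hinN : ∀ z : PSU 3 F₀ 2, z ^ 3 = 1 → z ∈ N := by
    intro z hz
    rw [← QuotientGroup.eq_one_iff]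
    have hidx : Nat.card (PSU 3 F₀ 2 ⧸ N) = 8 := by
      have := N.card_eq_card_quotient_mul_card_subgroup
      rw [h72, hN9] at this
      omega
    have h8 : (QuotientGroup.mk z : PSU 3 F₀ 2 ⧸ N) ^ 8 = 1 := by
      rw [← hidx]; exact pow_card_eq_one'
    have h3 : (QuotientGroup.mk z : PSU 3 F₀ 2 ⧸ N) ^ 3 = 1 := by
      rw [← QuotientGroup.mk_pow, hz, QuotientGroup.mk_one]
    have := pow_gcd_eq_one.2 ⟨h8, h3⟩
    simpa using this
  have hdiff : ρS (suConj G a * a⁻¹) ∈ Y := by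
    rw [map_mul, map_inv, show ρS (suConj G a) = ρ G * ρS a * (ρ G)⁻¹ from by
      show ρ (suToGU (suConj G a)) = ρ G * ρ (suToGU a) * (ρ G)⁻¹
      rw [suToGU_suConj, map_mul ρ, map_mul ρ, map_inv ρ], ← hG, mul_assoc, mul_assoc]
    refine mul_mem hy ?_
    rw [← mul_assoc]
    exact hYn _ _ (inv_mem hy)
  set s₁ := suConj G a * a⁻¹ with hs₁
  have hs3 : (QuotientGroup.mk s₁ : PSU 3 F₀ 2) ^ 3 = 1 := by
    refine hN3 _ ?_
    rw [hs₁, QuotientGroup.mk_mul, QuotientGroup.mk_inv]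
    refine mul_mem (hinN _ ?_) (inv_mem (hinN _ ?_))
    · rw [← QuotientGroup.mk_pow, ← map_pow, ha3, map_one, QuotientGroup.mk_one]
    · rw [← QuotientGroup.mk_pow, ha3, QuotientGroup.mk_one]
  have h1 : ρS s₁ = 1 := eq_one_of_coprime _ 3 (by
    rw [← map_pow, hρScen]
    rwa [← QuotientGroup.mk_pow, QuotientGroup.eq_one_iff] at hs3) (hdiff) hYc
  rw [hρScen] at h1
  obtain ⟨l, hl0, hl⟩ := scalar_of_center hF₀ (by omega) h1
  set M := gMat G with hM
  have hGa : M * Matrix.diagonal d = l • (Matrix.diagonal d * M) := by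
    have e1 : gMat (suToGU s₁) * (gMat (suToGU a) * M) = M * gMat (suToGU a) := by
      rw [hM, ← AutPSU52Graph.gMat_mul, ← AutPSU52Graph.gMat_mul, ← AutPSU52Graph.gMat_mul]
      congr 1
      have e : suToGU s₁ = G * suToGU a * G⁻¹ * (suToGU a)⁻¹ := by
        rw [hs₁, map_mul, map_inv, suToGU_suConj]
      rw [e]; group
    rw [show gMat (suToGU s₁) = l • 1 from hl, haM, Matrix.smul_mul, Matrix.one_mul] at e1
    exact e1.symm
  have hl3 : l ^ 3 = 1 := by
    have := FiniteField.pow_card_sub_one_eq_one l hl0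
    rwa [hF4] at this
  have hG3 : M ^ 3 * Matrix.diagonal d = Matrix.diagonal d * M ^ 3 := by
    calc M ^ 3 * Matrix.diagonal d = M * (M * (M * Matrix.diagonal d)) := by
          rw [pow_succ', pow_succ', pow_one]; simp only [Matrix.mul_assoc]
      _ = (l ^ 3) • (Matrix.diagonal d * M ^ 3) := by
          simp only [hGa, Matrix.mul_smul, ← Matrix.mul_assoc, Matrix.smul_mul, smul_smul]
          congr 1
          · ring
          · rw [pow_succ', pow_succ', pow_one]; simp only [Matrix.mul_assoc]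
      _ = _ := by rw [hl3, one_smul]
  have hdiag : M ^ 3 = Matrix.diagonal fun k => (M ^ 3) k k := by
    ext i j
    rcases eq_or_ne i j with rfl | hij
    · simp
    · have := congrFun (congrFun hG3 i) j
      rw [mul_diagonal, diagonal_mul] at this
      rw [diagonal_apply_ne _ hij]
      by_contra hne
      exact hdinj i j hij (mul_left_cancel₀ hne (by linear_combination -this))
  have h9 : M ^ 9 = 1 := by
    have hdet : (M ^ 3).det ≠ 0 := by
      rw [det_pow]
      exact pow_ne_zero _ ((Matrix.isUnit_iff_isUnit_det _).1 (G : GL (Fin 3) F₀).isUnit).ne_zero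
    rw [hdiag, det_diagonal, Finset.prod_ne_zero_iff] at hdet
    rw [show (9 : ℕ) = 3 * 3 from rfl, pow_mul, hdiag, Matrix.diagonal_pow, ← diagonal_one]
    congr 1
    funext k
    have := FiniteField.pow_card_sub_one_eq_one _ (hdet k (Finset.mem_univ k))
    rwa [hF4] at this
  refine eq_one_of_coprime y (3 ^ 2) ?_ hy (Nat.Coprime.pow_right 2 hYc)
  rw [hG, ← map_pow, show G ^ 3 ^ 2 = 1 from Subtype.ext (Units.ext (by
    show gMat G ^ 3 ^ 2 = 1
    exact h9)), map_one]

/-- The criterion, relative to a copy of the fixed field. -/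
theorem balance_odd_aux (hF : Fintype.card F = q ^ 2) (hn : 3 ≤ n) (h32 : ¬(n = 3 ∧ q = 2))
    {σ : F ≃+* F} {p : ℕ} [hp : Fact p.Prime] (hp2 : p ≠ 2) (hσ : orderOf σ = p)
    (hq₀ : q₀ ^ orderOf σ = q) (b : GU n F q) {F₀ : Type*} [Field F₀] [Fintype F₀]
    (hF₀ : Fintype.card F₀ = q₀ ^ 2) (emb : F₀ →+* F) (he : ∀ y, σ y = y ↔ y ∈ emb.range)
    (A : Subgroup (MulAut (PSU n F q))) (hinn : ∀ k : PSU n F q, MulAut.conj k ∈ A) :
    Cfsg.pPrimeCore p ↥(A ⊓ Subgroup.centralizer {(cj b * fd σ * (cj b)⁻¹ : MulAut (PSU n F q))}) ≠ ⊥ ↔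
      Nat.Coprime p (Nat.card ↥(MonoidHom.eqLocus
        (cj b * fd σ * (cj b)⁻¹ : MulAut (PSU n F q)).toMonoidHom (MonoidHom.id (PSU n F q)))) := by
  classical
  have hodd : Odd (orderOf σ) := hσ ▸ hp.out.odd_of_ne_two hp2
  haveI : Finite (MulAut (PSU n F q)) :=
    Finite.of_injective (fun α => (α : PSU n F q → PSU n F q)) DFunLike.coe_injective
  set β : MulAut (PSU n F q) := cj b * fd σ * (cj b)⁻¹ with hβ
  have hιq : ∀ x, emb x ^ q = emb (x ^ q₀) := fun x => by
    rw [pow_q_of_fixed σ hF hodd hq₀ ((he _).2 ⟨x, rfl⟩), map_pow]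
  set m := guMap (n := n) hF hF₀ emb hιq with hm
  have hmmat : ∀ G, gMat (m G) = (gMat G).map emb := fun G => rfl
  let ρ : GU n F₀ q₀ →* MulAut (PSU n F q) :=
    (MulAut.conj (cj b : MulAut (PSU n F q))).toMonoidHom.comp (cj.comp m)
  have hρ : ∀ G, ρ G = cj b * cj (m G) * (cj b)⁻¹ := fun G => rfl
  have hρC : ∀ G, ρ G ∈ Subgroup.centralizer {β} := fun G => by
    have hc := (cj_commute_fd hF hn σ hodd hq₀ (m G)).2
      ⟨1, m G, Subtype.ext (Units.ext (by ext i j; exact (he _).2 ⟨_, rfl⟩)), by rw [map_one, one_mul]⟩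
    refine Subgroup.mem_centralizer_singleton_iff.2 ?_
    rw [hρ, hβ]
    calc cj b * cj (m G) * (cj b)⁻¹ * (cj b * fd σ * (cj b)⁻¹)
        = cj b * (cj (m G) * fd σ) * (cj b)⁻¹ := by simp [mul_assoc]
      _ = cj b * (fd σ * cj (m G)) * (cj b)⁻¹ := by rw [hc]
      _ = _ := by simp [mul_assoc]
  have hρker : ∀ G, ρ G = 1 ↔ ∃ c : F₀, gMat G = c • 1 := by
    intro G
    rw [hρ, mul_inv_eq_one, mul_eq_left, cj_eq_one_iff hF hn, Cfsg.Geo.mem_scalars_iff]
    constructor
    · rintro ⟨c, hc⟩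
      have hc' : (gMat G).map emb = (c : F) • 1 := hc
      refine ⟨gMat G ⟨0, by omega⟩ ⟨0, by omega⟩, ?_⟩
      ext i j
      apply emb.injective
      have h00 := congrFun (congrFun hc' ⟨0, by omega⟩) ⟨0, by omega⟩
      have hij := congrFun (congrFun hc' i) j
      simp at h00 hij
      rcases eq_or_ne i j with rfl | hij'
      · simp [hij, h00]
      · simp [hij, hij']
    · rintro ⟨c, hc⟩
      have e : gMat (m G) = emb c • 1 := by
        rw [hmmat, hc, AutPSU52Graph.emb_smul, Matrix.map_one emb (map_zero emb) (map_one emb)]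
      exact ⟨Units.mk0 (emb c) (fun h0 =>
        AutPSU52Graph.gMat_ne_zero (by omega) (m G) (by rw [e, h0, zero_smul])), e⟩
  let ρS : SU n F₀ q₀ →* MulAut (PSU n F q) := ρ.comp suToGU
  have hρScen : ∀ s, ρS s = 1 ↔ s ∈ Subgroup.center (SU n F₀ q₀) := fun s => by
    refine (hρker _).trans ⟨fun ⟨c, hc⟩ => center_of_scalar hc, fun h => ?_⟩
    obtain ⟨c, -, hc⟩ := scalar_of_center hF₀ (by omega) h
    exact ⟨c, hc⟩
  have hρSM : ∀ s, ρS s ∈ innCent β := fun s => by
    refine ⟨?_, hρC _⟩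
    show ρ (suToGU s) ∈ _
    rw [hρ, ← map_inv, ← map_mul, ← map_mul]
    refine mem_range_conj hF ?_
    rw [AutPSU52Graph.gMat_mul, AutPSU52Graph.gMat_mul, det_mul, det_mul, mul_comm, ← mul_assoc,
      ← det_mul, ← AutPSU52Graph.gMat_mul, inv_mul_cancel, show gMat (1 : GU n F q) = 1 from rfl,
      det_one, one_mul, hmmat, show ((gMat (suToGU s)).map emb).det = emb (gMat (suToGU s)).det from
        (emb.map_det _).symm]
    show emb ((s : Matrix.SpecialLinearGroup (Fin n) F₀) : Matrix (Fin n) (Fin n) F₀).det = 1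
    rw [Matrix.SpecialLinearGroup.det_coe, map_one]
  -- rigidity
  have hq02 := two_le_q hF₀
  obtain ⟨x₀, hx₀⟩ := exists_norm_eq hF₀ (a := (-1 : F₀)) (by rw [neg_pow_q hF₀, one_pow])
  obtain ⟨c₀, hc₀, hc₀'⟩ := exists_skew hF₀
  have htest : ∀ v : Fin n → F₀, hermForm n F₀ q₀ v v = 0 →
      ∃ s : SU n F₀ q₀, gMat (suToGU s) = 1 + c₀ • vecMulVec v (fun j => v j ^ q₀) := by
    intro v hv
    have hU : IsU q₀ (unitaryTransvection n q₀ v c₀) := isU_transvection hF₀ (by rw [hv, mul_zero, add_zero, hc₀'])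
    have : mkGU hF₀ _ hU ∈ (suToGU (n := n) (F := F₀) (q := q₀)).range := by
      rw [range_suToGU]
      exact MonoidHom.mem_ker.2 (Units.ext ((congrArg Matrix.det (mkGU_coe hF₀ _ hU)).trans
        (by rw [det_transvection hF₀, hv, mul_zero, add_zero]; rfl)))
    obtain ⟨s, hs⟩ := this
    exact ⟨s, by rw [hs]; exact mkGU_coe hF₀ _ hU⟩
  have hrig : ∀ x ∈ Subgroup.centralizer {β}, (∀ s, Commute x (ρS s)) →
      ∀ k : ℕ, x ^ k = 1 → k.Coprime p → x = 1 := by
    intro x _ hcomm k hk hco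
    obtain ⟨g, τ, hg⟩ := aut_decomp hF hn h32 ((cj b)⁻¹ * x * cj b)
    have hx : x = cj b * (cj g * fd τ) * (cj b)⁻¹ := by rw [← hg]; group
    have hk' : (cj g * fd τ : MulAut (PSU n F q)) ^ k = 1 := by
      have e : x ^ k = cj b * (cj g * fd τ) ^ k * (cj b)⁻¹ := by rw [hx, conj_pow]
      rw [hk, eq_comm, mul_inv_eq_one, mul_eq_left] at e
      exact e
    have hr : RigidForms52.Rigid emb τ (gMat g) := by
      refine RigidForms52.rigid_herm hn hF₀ hq02 hx₀ hc₀ (card_normOne hF₀) (Q' := gMat g⁻¹)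
        (by rw [← AutPSU52Graph.gMat_mul, inv_mul_cancel]; rfl) fun v hv => ?_
      obtain ⟨s, hs⟩ := htest v hv
      have h1 : Commute (cj g * fd τ : MulAut (PSU n F q)) (cj (m (suToGU s))) := by
        have h2 := (hcomm s).map (MulAut.conj (cj b : MulAut (PSU n F q))⁻¹).toMonoidHom
        simpa [hx, ρS, hρ, mul_assoc] using h2
      have e : (cj g * fd τ : MulAut (PSU n F q)) * cj (m (suToGU s))
          = cj (g * gmU τ (m (suToGU s))) * fd τ := by
        rw [mul_assoc, fd_mul_cj, ← mul_assoc, ← map_mul]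
      have e2 := e.symm.trans h1.eq
      rw [← mul_assoc, ← map_mul, mul_left_inj, AutPSU52Graph.cj_eq_cj hF hn, AutPSU52Graph.gMat_mul,
        AutPSU52Graph.gMat_mul, coe_gmU, hmmat, hs] at e2
      exact e2
    obtain ⟨hfix, y, hy⟩ := hr
    have hτ : τ ∈ Subgroup.zpowers σ := AutPSpBalance.galois_fix σ τ fun a ha => by
      obtain ⟨c, rfl⟩ := (he a).1 ha
      exact hfix c
    obtain rfl := eq_one_of_scalar hF hn hτ g hk' (by rwa [hσ])
    have : (cj g : MulAut (PSU n F q)) = 1 :=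
      cj_scalar ((Cfsg.Geo.mem_scalars_iff _).2 ⟨Units.mk0 y (fun h0 =>
        AutPSU52Graph.gMat_ne_zero (by omega) g (by rw [hy, h0, zero_smul])), hy⟩)
    rw [hx, this, map_one, mul_one, mul_one, mul_inv_cancel]
  refine balance (conj_injective hF hn) A hinn β p ?_ (fun hpM Y hYM hYc hYn => ?_)
    (fun x hx hcomm k hk hco => hrig x hx (fun s => hcomm _ (hρSM s)) k hk hco)
  · intro hbot
    let i0 : Fin n := ⟨0, by omega⟩
    let i1 : Fin n := ⟨1, by omega⟩
    obtain ⟨s, hs⟩ := htest (Pi.single i0 1 + x₀ • Pi.single i1 1) (by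
      show ∑ l, (Pi.single i0 1 + x₀ • Pi.single i1 1 : Fin n → F₀) l *
        (Pi.single i0 1 + x₀ • Pi.single i1 1 : Fin n → F₀) l ^ q₀ = 0
      rw [← Finset.sum_subset (Finset.subset_univ {i0, i1}) (fun l _ hl => by
        simp at hl; simp [hl.1, hl.2, zero_pow (show q₀ ≠ 0 by omega)]),
        Finset.sum_pair (by simp [i0, i1])]
      simp [i0, i1]
      rw [← pow_succ', hx₀, add_neg_cancel])
    have h1 := hρSM s
    rw [hbot, Subgroup.mem_bot, hρScen] at h1
    obtain ⟨c, -, hc⟩ := scalar_of_center hF₀ (by omega) h1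
    have hc' : gMat (suToGU s) = c • 1 := hc
    rw [hs] at hc'
    have := congrFun (congrFun hc' i0) i1
    simp [i0, i1, vecMulVec_apply, hc₀] at this
    rw [this.1, zero_pow (Nat.succ_ne_zero _)] at hx₀
    exact one_ne_zero (neg_eq_zero.1 hx₀.symm)
  · obtain ⟨e⟩ := field_centralizer hF hn σ hodd hq₀ b hF₀ emb he
    have hp0 : p ∣ Nat.card (PSU n F₀ q₀) := by
      have h1 := hpM.trans (Subgroup.card_dvd_of_le (innCent_le β))
      rw [Nat.card_congr e.toEquiv, card_PGU hF₀ (by omega)] at h1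
      rcases hp.out.dvd_mul.1 h1 with h | h
      · exact dvd_card_of_dvd hF₀ hn (h.trans (Nat.gcd_dvd_right _ _))
      · exact h
    have hYρ : ∀ y ∈ Y, ∃ G, y = ρ G := by
      intro y hy
      obtain ⟨g, rfl⟩ := (mem_inndiag _).1 ((innCent_le β (hYM hy)).1)
      have hc' := Subgroup.mem_centralizer_singleton_iff.1 (hYM hy).2
      obtain ⟨u, g0, h0, hg⟩ := (cj_commute_fd hF hn σ hodd hq₀ (b⁻¹ * g * b)).1 (by
        calc cj (b⁻¹ * g * b) * fd σ = (cj b)⁻¹ * (cj g * β) * cj b := by simp [hβ, mul_assoc]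
          _ = fd σ * cj (b⁻¹ * g * b) := by rw [hc', hβ]; simp [mul_assoc])
      obtain ⟨G, hG⟩ := exists_guMap hF hF₀ emb hιq he h0
      refine ⟨G, ?_⟩
      have : g = b * (scalarU u * g0) * b⁻¹ := by rw [← hg]; group
      rw [hρ, show m G = g0 from hG, this, map_mul, map_mul, map_mul, cj_scalarU, one_mul, map_inv]
    have hconj : ∀ G s, ρ G * ρS s * (ρ G)⁻¹ = ρS (suConj G s) := by
      intro G s
      show ρ G * ρ (suToGU s) * (ρ G)⁻¹ = ρ (suToGU (suConj G s))
      rw [suToGU_suConj, map_mul ρ, map_mul ρ, map_inv ρ]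
    -- it suffices that `Y` centralises the test elements
    have hdiff : ∀ y ∈ Y, ∀ G, y = ρ G → ∀ s, ρS (suConj G s * s⁻¹) ∈ Y := by
      intro y hy G hG s
      rw [map_mul, map_inv, ← hconj, ← hG, mul_assoc, mul_assoc]
      refine mul_mem hy ?_
      rw [← mul_assoc]
      exact hYn _ (hρC _) _ (inv_mem hy)
    have hYcard : ∀ y ∈ Y, y ^ Nat.card Y = 1 := fun y hy => by
      simpa only [SubmonoidClass.coe_pow, OneMemClass.coe_one] using
        congrArg Subtype.val (pow_card_eq_one' (x := (⟨y, hy⟩ : Y)))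
    rw [Subgroup.eq_bot_iff_forall]
    intro y hy
    obtain ⟨G, hG⟩ := hYρ y hy
    by_cases h032 : n = 3 ∧ q₀ = 2
    · obtain ⟨rfl, rfl⟩ := h032
      obtain rfl : p = 3 := by
        rw [(S0282.result (F := F₀) (by rw [hF₀]; norm_num)).1] at hp0
        have h' : p ∣ 2 ^ 3 * 3 ^ 2 := by norm_num; exact hp0
        rcases hp.out.dvd_mul.1 h' with h | h
        · exact absurd ((Nat.prime_dvd_prime_iff_eq hp.out Nat.prime_two).1 (hp.out.dvd_of_dvd_pow h)) hp2
        · exact (Nat.prime_dvd_prime_iff_eq hp.out Nat.prime_three).1 (hp.out.dvd_of_dvd_pow h)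
      exact core32 hF₀ ρ hρker Y hYc (fun x y hy => hYn _ (hρC x) _ hy) G y hy hG
    · haveI := isSimpleGroup_PSU hF₀ hn h032
      haveI : (Y.comap ρS).Normal := ⟨fun a ha c => by
        show ρS (c * a * c⁻¹) ∈ Y
        rw [map_mul, map_mul, map_inv]
        exact hYn _ (hρC _) _ ha⟩
      have hker : Y.comap ρS ≤ Subgroup.center _ := by
        haveI hN : ((Y.comap ρS).map (QuotientGroup.mk' (Subgroup.center _))).Normal :=
          Subgroup.Normal.map inferInstance _ (QuotientGroup.mk'_surjective _)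
        rcases IsSimpleGroup.eq_bot_or_eq_top_of_normal _ hN with h | h
        · rw [Subgroup.map_eq_bot_iff, QuotientGroup.ker_mk'] at h
          exact h
        · exfalso
          obtain ⟨z, hz⟩ := exists_prime_orderOf_dvd_card' (G := PSU n F₀ q₀) p hp0
          obtain ⟨j, hj, hjz⟩ : z ∈ (Y.comap ρS).map
              (QuotientGroup.mk' (Subgroup.center (SU n F₀ q₀))) := by rw [h]; trivial
          have hjp : ρS j ^ p = 1 := by
            rw [← map_pow, hρScen, ← QuotientGroup.eq_one_iff, QuotientGroup.mk_pow,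
              show (QuotientGroup.mk j : PSU n F₀ q₀) = z from hjz, ← hz, pow_orderOf_eq_one]
          have h1 := eq_one_of_coprime _ p hjp hj hYc
          rw [hρScen, ← QuotientGroup.eq_one_iff,
            show (QuotientGroup.mk j : PSU n F₀ q₀) = z from hjz] at h1
          rw [h1, orderOf_one] at hz
          exact hp.out.ne_one hz.symm
      refine hrig y (hYM hy).2 (fun s => ?_) _ (hYcard y hy) hYc
      have h4 := (hρScen _).2 (hker (hdiff y hy G hG s))
      rw [map_mul, map_inv, ← hconj, ← hG, mul_inv_eq_one, mul_inv_eq_iff_eq_mul] at h4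
      exact h4

/-- The criterion for field automorphisms of odd prime order. -/
theorem balance_odd (hF : Fintype.card F = q ^ 2) (hn : 3 ≤ n) (h32 : ¬(n = 3 ∧ q = 2))
    {σ : F ≃+* F} {p : ℕ} [hp : Fact p.Prime] (hp2 : p ≠ 2) (hσ : orderOf σ = p)
    (hq₀ : q₀ ^ orderOf σ = q) (b : GU n F q)
    (A : Subgroup (MulAut (PSU n F q))) (hinn : ∀ k : PSU n F q, MulAut.conj k ∈ A) :
    Cfsg.pPrimeCore p ↥(A ⊓ Subgroup.centralizer {(cj b * fd σ * (cj b)⁻¹ : MulAut (PSU n F q))}) ≠ ⊥ ↔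
      Nat.Coprime p (Nat.card ↥(MonoidHom.eqLocus
        (cj b * fd σ * (cj b)⁻¹ : MulAut (PSU n F q)).toMonoidHom (MonoidHom.id (PSU n F q)))) := by
  classical
  haveI : Fintype (Kf σ) := Fintype.ofFinite _
  exact balance_odd_aux hF hn h32 hp2 hσ hq₀ b (card_Kf σ hF hq₀) (Kf σ).subtype
    (fun y => ⟨fun h => ⟨⟨y, h⟩, rfl⟩, by rintro ⟨z, rfl⟩; exact z.2⟩) A hinn

end Cfsg.Agent.AutPSU52BalOdd
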