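import Mathlib
import Cfsg.Agent.Lib.PSLSimple

/-!
# Groups of permutations induced by the transvections of a projective space

A faithful permutation group generated by elements inducing transvections, and containing every
transvection, is the projective special linear group.
-/

set_option autoImplicit false

namespace Cfsg.Agent.Axial80

open LinearAlgebra.Projectivization Matrix

namespace PSL

variable {F : Type} [Field F] {n : ℕ}

lemma linear_smul_eq_map (T : (Fin n → F) ≃ₗ[F] (Fin n → F)) (x : Projectivization F (Fin n → F)) :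
    T • x = Projectivization.map T.toLinearMap T.injective x := by
  induction x using Projectivization.ind with
  | _ v hv => rw [Projectivization.smul_mk, Projectivization.map_mk]; rfl

/-- Every transvection comes from the special linear group. -/
lemma exists_SL {T : (Fin n → F) ≃ₗ[F] (Fin n → F)}
    (hT : T ∈ LinearEquiv.transvections F (Fin n → F)) :
    ∃ A : Matrix.SpecialLinearGroup (Fin n) F, A.toLin' = T := by
  obtain ⟨f, v, hfv, rfl⟩ := hT
  refine ⟨⟨LinearMap.toMatrix' (LinearEquiv.transvection hfv : (Fin n → F) →ₗ[F] (Fin n → F)),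
    ?_⟩, ?_⟩
  · rw [LinearMap.det_toMatrix', LinearEquiv.transvection.coe_toLinearMap,
      LinearMap.transvection.det, hfv, add_zero]
  · apply LinearEquiv.toLinearMap_injective
    exact Matrix.toLin'_toMatrix' _

/-- The elementary transvections are transvections. -/
lemma toLin'_transvection_mem {i j : Fin n} (hij : i ≠ j) (c : F) :
    (Matrix.SpecialLinearGroup.transvection hij c).toLin' ∈
      LinearEquiv.transvections F (Fin n → F) := by
  have h : (c • LinearMap.proj j : Module.Dual F (Fin n → F)) (Pi.single i 1) = 0 := by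
    simp [hij.symm]
  refine ⟨c • LinearMap.proj j, Pi.single i 1, h, ?_⟩
  apply LinearEquiv.ext
  intro w
  rw [Matrix.SpecialLinearGroup.toLin'_apply, Matrix.toLin'_apply,
    Cfsg.Agent.PSLSimple.transvection_mulVec hij c w, ← LinearEquiv.coe_coe,
    LinearEquiv.transvection.coe_toLinearMap, LinearMap.transvection.apply]
  congr 1
  rw [← Pi.single_smul']
  simp

end PSL

open PSL in
theorem nonempty_mulEquiv_PSL {G Ω : Type*} [Group G] [MulAction G Ω] [FaithfulSMul G Ω] {F : Type}
    [Field F] [Fintype F] {n : ℕ} (hn : 2 ≤ n) (π : Ω ≃ Projectivization F (Fin n → F)) (S : Set G)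
    (hS : ∀ g ∈ S, ∃ T ∈ LinearEquiv.transvections F (Fin n → F),
      ∀ x, π (g • x) = Projectivization.map T.toLinearMap T.injective (π x))
    (hT : ∀ T ∈ LinearEquiv.transvections F (Fin n → F), ∃ g ∈ Subgroup.closure S,
      ∀ x, π (g • x) = Projectivization.map T.toLinearMap T.injective (π x)) :
    Nonempty (Subgroup.closure S ≃* Matrix.ProjectiveSpecialLinearGroup (Fin n) F) := by
  classical
  haveI : Nontrivial (Fin n) := Fin.nontrivial_iff_two_le.2 hn
  let ρ : Matrix.SpecialLinearGroup (Fin n) F →*
      Equiv.Perm (Projectivization F (Fin n → F)) := MulAction.toPermHom _ _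
  let ψ : G →* Equiv.Perm (Projectivization F (Fin n → F)) :=
    π.permCongrHom.toMonoidHom.comp (MulAction.toPermHom G Ω)
  have hψ : Function.Injective ψ :=
    π.permCongrHom.injective.comp MulAction.toPerm_injective
  have hψx : ∀ g x, ψ g (π x) = π (g • x) := by
    intro g x
    simp [ψ, Equiv.permCongrHom, Equiv.permCongr_apply]
  have heq : ∀ (g : G) (A : Matrix.SpecialLinearGroup (Fin n) F)
      (T : (Fin n → F) ≃ₗ[F] (Fin n → F)), A.toLin' = T →
      (∀ x, π (g • x) = Projectivization.map T.toLinearMap T.injective (π x)) → ψ g = ρ A := by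
    rintro g A T rfl hg
    refine Equiv.ext fun y => ?_
    obtain ⟨x, rfl⟩ := π.surjective y
    rw [hψx, hg, ← linear_smul_eq_map]
    induction π x using Projectivization.ind with
    | _ v hv => rfl
  have himg : (Subgroup.closure S).map ψ = ρ.range := by
    apply le_antisymm
    · rw [MonoidHom.map_closure, Subgroup.closure_le]
      rintro _ ⟨g, hg, rfl⟩
      obtain ⟨T, hTm, hgT⟩ := hS g hg
      obtain ⟨A, hA⟩ := exists_SL hTm
      exact ⟨A, (heq g A T hA hgT).symm⟩
    · rw [MonoidHom.range_eq_map, Subgroup.map_le_iff_le_comap]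
      refine (Cfsg.Agent.PSLSimple.eq_top_of_transvection_mem _ fun i j hij c => ?_).ge
      obtain ⟨g, hg, hgT⟩ := hT _ (toLin'_transvection_mem hij c)
      rw [Subgroup.mem_comap]
      exact ⟨g, hg, heq g _ _ rfl hgT⟩
  have hker : ρ.ker = Subgroup.center (Matrix.SpecialLinearGroup (Fin n) F) :=
    Projectivization.SL_mulAction_ker
  exact ⟨((Subgroup.closure S).equivMapOfInjective ψ hψ).trans
    ((MulEquiv.subgroupCongr himg).trans
      ((QuotientGroup.quotientKerEquivRange ρ).symm.trans
        (QuotientGroup.quotientMulEquivOfEq hker)))⟩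

end Cfsg.Agent.Axial80
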