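import Mathlib
import Cfsg.Agent.Lib.Axial80Geo

/-!
# The symmetric design of an intransitive subgroup of index `n` in a 2-transitive group of degree `n`

The blocks are the translates of an orbit of the subgroup, indexed by its cosets.
-/

set_option autoImplicit false

namespace Cfsg.Agent.Axial80

open Finset MulAction

namespace PermDesign

variable {X Y : Type*} [Fintype X] [Fintype Y] [DecidableEq X] [DecidableEq Y] (I : X → Y → Prop)
  {k lam : ℕ}

/-- Two blocks of a square 2-design meet in `lam` points. -/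
theorem meetPts_of_square (hcard : Fintype.card X = Fintype.card Y)
    (hP : ∀ y, (ptsOf I y).card = k) (hB : ∀ x, (blksOf I x).card = k)
    (hM : ∀ x x', x ≠ x' → (blksOf I x ∩ blksOf I x').card = lam) :
    ∀ y y', y ≠ y' → (ptsOf I y ∩ ptsOf I y').card = lam := by
  classical
  intro y y' hne
  set c : X → Y → ℤ := fun x z => if I x z then 1 else 0 with hc
  have hcc : ∀ x z, c x z * c x z = c x z := by
    intro x z; simp only [hc]; split_ifs <;> norm_num
  have hcy : ∀ x ∈ ptsOf I y, c x y = 1 := by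
    intro x hx; simp [hc, mem_ptsOf.1 hx]
  have hrow : ∀ x, ∑ z, c x z = (k : ℤ) := by
    intro x
    rw [← hB x, blksOf, card_filter]
    push_cast
    rfl
  have hpair : ∀ x x', x ≠ x' → ∑ z, c x z * c x' z = (lam : ℤ) := by
    intro x x' hx
    rw [← hM x x' hx, show blksOf I x ∩ blksOf I x' = univ.filter (fun z => I x z ∧ I x' z) by
      ext z; simp [mem_blksOf], card_filter]
    push_cast
    refine sum_congr rfl fun z _ => ?_
    simp only [hc]
    split_ifs <;> simp_all
  set μ : Y → ℤ := fun z => ∑ x ∈ ptsOf I y, c x z with hμ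
  have hμcard : ∀ z, μ z = ((ptsOf I y ∩ ptsOf I z).card : ℤ) := by
    intro z
    have : ptsOf I y ∩ ptsOf I z = (ptsOf I y).filter (fun x => I x z) := by
      ext x; simp [mem_ptsOf]
    rw [this, card_filter]
    push_cast
    rfl
  have hμy : μ y = k := by rw [hμcard, inter_self, hP]
  have S1 : ∑ z, μ z = (k : ℤ) * k := by
    simp only [hμ]
    rw [sum_comm, sum_congr rfl fun x _ => hrow x, sum_const, hP, nsmul_eq_mul]
  have S2 : ∑ z, μ z * μ z = (k : ℤ) * (k + (k - 1) * lam) := by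
    simp only [hμ, sum_mul_sum]
    rw [sum_comm]
    have : ∀ x ∈ ptsOf I y, ∑ z, ∑ x' ∈ ptsOf I y, c x z * c x' z = (k : ℤ) + ((k : ℤ) - 1) * lam := by
      intro x hx
      rw [sum_comm, ← add_sum_erase _ _ hx]
      simp only [hcc]
      rw [hrow, sum_congr rfl fun x' hx' => hpair x x' (ne_of_mem_erase hx').symm, sum_const,
        card_erase_of_mem hx, hP, nsmul_eq_mul]
      have : 1 ≤ k := hP y ▸ card_pos.2 ⟨x, hx⟩
      push_cast [this]
      ring
    rw [sum_congr rfl this, sum_const, hP, nsmul_eq_mul]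
  have S3 : ∀ _x : X, (k : ℤ) * k = k + ((Fintype.card X : ℤ) - 1) * lam := by
    intro x
    have h1 : ∑ x', ∑ z, c x z * c x' z = (k : ℤ) * k := by
      have hcol : ∀ z, ∑ x', c x' z = (k : ℤ) := by
        intro z
        rw [← hP z, ptsOf, card_filter]
        push_cast
        rfl
      rw [sum_comm]
      simp only [← mul_sum, hcol, ← sum_mul, hrow]
    rw [← add_sum_erase _ _ (mem_univ x)] at h1
    simp only [hcc] at h1
    rw [hrow, sum_congr rfl fun x' hx' => hpair x x' (ne_of_mem_erase hx').symm, sum_const,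
      card_erase_of_mem (mem_univ x), card_univ, nsmul_eq_mul] at h1
    have : 1 ≤ Fintype.card X := Fintype.card_pos_iff.2 ⟨x⟩
    push_cast [this] at h1
    linarith
  obtain ⟨x₀⟩ : Nonempty X := Fintype.card_pos_iff.1 (hcard ▸ Fintype.card_pos_iff.2 ⟨y⟩)
  have h3 := S3 x₀
  have T1 : ∑ z ∈ univ.erase y, μ z = (k : ℤ) * k - k := by
    have := add_sum_erase univ μ (mem_univ y)
    rw [S1, hμy] at this
    linarith
  have T2 : ∑ z ∈ univ.erase y, μ z * μ z = (k : ℤ) * (k + (k - 1) * lam) - k * k := by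
    have := add_sum_erase univ (fun z => μ z * μ z) (mem_univ y)
    rw [S2, hμy] at this
    linarith
  have hn : ((univ.erase y).card : ℤ) = (Fintype.card X : ℤ) - 1 := by
    have : 1 ≤ Fintype.card Y := Fintype.card_pos_iff.2 ⟨y⟩
    rw [card_erase_of_mem (mem_univ y), card_univ, hcard]
    push_cast [this]
    ring
  have hvar : ∑ z ∈ univ.erase y, (μ z - (lam : ℤ)) ^ 2 = 0 := by
    have e : ∀ z, (μ z - (lam : ℤ)) ^ 2 = μ z * μ z - (2 * lam : ℤ) * μ z + (lam : ℤ) * lam :=
      fun z => by ring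
    simp only [e, sum_add_distrib, sum_sub_distrib, ← mul_sum, T1, T2, sum_const, nsmul_eq_mul, hn]
    linear_combination (-(lam : ℤ)) * h3
  have := (sum_eq_zero_iff_of_nonneg fun z _ => sq_nonneg _).1 hvar y'
    (mem_erase.2 ⟨hne.symm, mem_univ _⟩)
  rw [sq_eq_zero_iff, sub_eq_zero, hμcard] at this
  exact_mod_cast this

end PermDesign

open PermDesign in
theorem exists_geo {G Ω : Type*} [Group G] [Finite G] [MulAction G Ω] [FaithfulSMul G Ω] [Fintype Ω]
    [DecidableEq Ω] (h2 : MulAction.IsMultiplyPretransitive G Ω 2) (H : Subgroup G)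
    (hidx : H.index = Nat.card Ω) (hnt : ¬ MulAction.IsPretransitive H Ω)
    (hfix : ∀ a : Ω, ∃ h : H, h • a ≠ a)
    (hunf : ∃ a : Ω, ∃ h : H, h ≠ 1 ∧ ∀ b ∈ MulAction.orbit H a, h • b = b)
    [Fintype (G ⧸ H)] [DecidableEq (G ⧸ H)] : Nonempty (Geo G Ω (G ⧸ H)) := by
  classical
  rw [MulAction.is_two_pretransitive_iff] at h2
  obtain ⟨a, h₀, h₀1, h₀fix⟩ := hunf
  set B : Set Ω := MulAction.orbit H a with hB
  have hBinv : ∀ (h : G), h ∈ H → ∀ x, h • x ∈ B ↔ x ∈ B := by
    intro h hh x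
    constructor
    · intro hx
      have := MulAction.mem_orbit_of_mem_orbit (⟨h, hh⟩⁻¹ : H) hx
      simpa [Subgroup.smul_def] using this
    · exact fun hx => MulAction.mem_orbit_of_mem_orbit (⟨h, hh⟩ : H) hx
  set I : Ω → G ⧸ H → Prop := fun x q => ∃ g : G, (g : G ⧸ H) = q ∧ g⁻¹ • x ∈ B with hIdef
  have hI : ∀ (x : Ω) (g : G), I x (g : G ⧸ H) ↔ g⁻¹ • x ∈ B := by
    intro x g
    refine ⟨?_, fun hx => ⟨g, rfl, hx⟩⟩
    rintro ⟨c, hc, hx⟩
    have := (hBinv _ (QuotientGroup.eq.1 hc.symm) (c⁻¹ • x)).2 hx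
    rwa [smul_smul, mul_assoc, mul_inv_cancel, mul_one] at this
  have hinv : ∀ (g : G) (x : Ω) (q : G ⧸ H), I (g • x) (g • q) ↔ I x q := by
    intro g x q
    induction q using QuotientGroup.induction_on with
    | H c =>
      rw [show g • (c : G ⧸ H) = ((g * c : G) : G ⧸ H) from rfl, hI, hI, _root_.mul_inv_rev,
        mul_smul, inv_smul_smul]
  set k := B.toFinset.card with hk
  have hP : ∀ q, (ptsOf I q).card = k := by
    intro q
    induction q using QuotientGroup.induction_on with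
    | H c =>
      rw [hk, ← card_image_of_injective B.toFinset (MulAction.injective c)]
      congr 1
      ext x
      rw [mem_ptsOf, hI, mem_image]
      constructor
      · intro hx
        exact ⟨c⁻¹ • x, Set.mem_toFinset.2 hx, smul_inv_smul c x⟩
      · rintro ⟨b, hb, rfl⟩
        rw [inv_smul_smul]
        exact Set.mem_toFinset.1 hb
  have hblks : ∀ (g : G) (x : Ω), blksOf I (g • x) = (blksOf I x).image (fun q => g • q) := by
    intro g x
    ext q
    rw [mem_blksOf, mem_image]
    constructor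
    · intro hq
      refine ⟨g⁻¹ • q, mem_blksOf.2 ?_, smul_inv_smul g q⟩
      rwa [← hinv g, smul_inv_smul]
    · rintro ⟨r, hr, rfl⟩
      exact (hinv g x r).2 (mem_blksOf.1 hr)
  have hcard : Fintype.card Ω = Fintype.card (G ⧸ H) := by
    rw [← Nat.card_eq_fintype_card, ← hidx, Subgroup.index, Nat.card_eq_fintype_card]
  have ha : a ∈ B := MulAction.mem_orbit_self a
  have hk2 : 2 ≤ k := by
    obtain ⟨h, hh⟩ := hfix a
    exact Finset.one_lt_card.2 ⟨a, Set.mem_toFinset.2 ha, h • a,
      Set.mem_toFinset.2 (MulAction.mem_orbit a h), Ne.symm hh⟩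
  have hkv : k + 1 < Fintype.card Ω := by
    obtain ⟨o, ho⟩ : ∃ o, o ∉ B := by
      by_contra hc
      push Not at hc
      exact hnt ⟨fun x y => by
        obtain ⟨h, rfl⟩ := hc x
        obtain ⟨h', rfl⟩ := hc y
        exact ⟨h' * h⁻¹, by rw [mul_smul, inv_smul_smul]⟩⟩
    obtain ⟨h, hh⟩ := hfix o
    have ho' : h • o ∉ B := fun e => ho ((hBinv _ h.2 o).1 e)
    have hsub : B.toFinset ⊆ (univ.erase o).erase (h • o) := fun x hx => by
      rw [Set.mem_toFinset] at hx
      simp only [mem_erase, mem_univ, and_true]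
      exact ⟨fun e => ho' (e ▸ hx), fun e => ho (e ▸ hx)⟩
    have h3 := card_le_card hsub
    rw [card_erase_of_mem (mem_erase.2 ⟨hh, mem_univ _⟩), card_erase_of_mem (mem_univ _),
      card_univ, ← hk] at h3
    omega
  obtain ⟨x₁, x₂, hx12⟩ : ∃ x₁ x₂ : Ω, x₁ ≠ x₂ := by
    obtain ⟨h, hh⟩ := hfix a
    exact ⟨_, _, hh⟩
  have htrans : ∀ x x' : Ω, ∃ g : G, g • x = x' := by
    intro x x'
    obtain ⟨w, hw⟩ : ∃ w, w ≠ x := by
      by_cases e : x₁ = x
      · exact ⟨x₂, fun e' => hx12 (e.trans e'.symm)⟩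
      · exact ⟨x₁, e⟩
    obtain ⟨w', hw'⟩ : ∃ w', w' ≠ x' := by
      by_cases e : x₁ = x'
      · exact ⟨x₂, fun e' => hx12 (e.trans e'.symm)⟩
      · exact ⟨x₁, e⟩
    obtain ⟨g, hg, -⟩ := h2 hw.symm hw'.symm
    exact ⟨g, hg⟩
  have hBk : ∀ x, (blksOf I x).card = k := by
    have hc : ∀ x, (blksOf I x).card = (blksOf I a).card := by
      intro x
      obtain ⟨g, rfl⟩ := htrans a x
      rw [hblks, card_image_of_injective _ (MulAction.injective g)]
    have e : ∑ x, (blksOf I x).card = ∑ q, (ptsOf I q).card := by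
      simp only [blksOf, ptsOf, card_filter]
      exact sum_comm
    rw [sum_congr rfl fun x _ => hc x, sum_congr rfl fun q _ => hP q, sum_const, sum_const,
      card_univ, card_univ, smul_eq_mul, smul_eq_mul, ← hcard] at e
    intro x
    rw [hc x]
    exact Nat.eq_of_mul_eq_mul_left (by omega) e
  set lam := (blksOf I x₁ ∩ blksOf I x₂).card with hlam
  have hM : ∀ x x', x ≠ x' → (blksOf I x ∩ blksOf I x').card = lam := by
    intro x x' hxx
    obtain ⟨g, rfl, rfl⟩ := h2 hx12 hxx
    rw [hblks, hblks, ← image_inter _ _ (MulAction.injective g),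
      card_image_of_injective _ (MulAction.injective g)]
  let D : Dsn Ω (G ⧸ H) :=
    { I := I, k := k, lam := lam, cardEq := hcard, cardPts := hP, cardBlks := hBk, meetBlks := hM
      meetPts := meetPts_of_square I hcard hP hBk hM, two_le := hk2, lt_v := hkv }
  have haut : ∀ g : G, D.IsAut (MulAction.toPerm g) (MulAction.toPerm g) := fun g x q => hinv g x q
  have htwoY : ∀ p q r s : G ⧸ H, p ≠ q → r ≠ s → ∃ g : G, g • p = r ∧ g • q = s := by
    haveI := Fintype.ofFinite G
    haveI := Fintype.ofFinite (Quotient (orbitRel G (Ω × Ω)))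
    haveI := Fintype.ofFinite (Quotient (orbitRel G ((G ⧸ H) × (G ⧸ H))))
    have hX := sum_card_fixedBy_eq_card_orbits_mul_card_group (G := G) (X := Ω × Ω)
    have hY := sum_card_fixedBy_eq_card_orbits_mul_card_group (G := G) (X := (G ⧸ H) × (G ⧸ H))
    have e : ∀ g : G, Fintype.card (fixedBy (Ω × Ω) g) =
        Fintype.card (fixedBy ((G ⧸ H) × (G ⧸ H)) g) := by
      intro g
      have h1 := (haut g).card_fix
      simp only [MulAction.toPerm_apply] at h1
      rw [Fintype.card_subtype, Fintype.card_subtype,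
        show (univ.filter fun x : Ω × Ω => x ∈ fixedBy (Ω × Ω) g) =
          (univ.filter fun x : Ω => g • x = x) ×ˢ (univ.filter fun x : Ω => g • x = x) by
          ext x; simp [MulAction.mem_fixedBy, Prod.ext_iff],
        show (univ.filter fun x : (G ⧸ H) × (G ⧸ H) => x ∈ fixedBy ((G ⧸ H) × (G ⧸ H)) g) =
          (univ.filter fun x : G ⧸ H => g • x = x) ×ˢ (univ.filter fun x : G ⧸ H => g • x = x) by
          ext x; simp [MulAction.mem_fixedBy, Prod.ext_iff],
        card_product, card_product, h1]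
    rw [sum_congr rfl fun g _ => e g, hY] at hX
    have horb : Nat.card (Quotient (orbitRel G (Ω × Ω))) = 2 := by
      rw [Nat.card_eq_two_iff]
      refine ⟨⟦(x₁, x₁)⟧, ⟦(x₁, x₂)⟧, ?_, ?_⟩
      · intro e
        obtain ⟨g, hg⟩ := Quotient.exact e
        have hg' : g • (x₁, x₂) = (x₁, x₁) := hg
        rw [Prod.smul_mk, Prod.mk.injEq] at hg'
        exact hx12 (MulAction.injective g (hg'.1.trans hg'.2.symm))
      · refine Set.eq_univ_of_forall fun c => Quotient.inductionOn c ?_
        rintro ⟨u, w⟩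
        by_cases huw : u = w
        · subst huw
          left
          obtain ⟨g, hg⟩ := htrans x₁ u
          exact Quotient.sound ⟨g, by show g • (x₁, x₁) = (u, u); rw [Prod.smul_mk, hg]⟩
        · right
          obtain ⟨g, hg1, hg2⟩ := h2 hx12 huw
          exact Quotient.sound ⟨g, by show g • (x₁, x₂) = (u, w); rw [Prod.smul_mk, hg1, hg2]⟩
    have horbY : Nat.card (Quotient (orbitRel G ((G ⧸ H) × (G ⧸ H)))) = 2 := by
      rw [← horb, Nat.card_eq_fintype_card, Nat.card_eq_fintype_card]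
      exact Nat.eq_of_mul_eq_mul_right Fintype.card_pos hX
    intro p q r s hpq hrs
    have hne : ∀ {u w : G ⧸ H}, u ≠ w →
        (⟦(u, w)⟧ : Quotient (orbitRel G ((G ⧸ H) × (G ⧸ H)))) ≠ ⟦(p, p)⟧ := by
      intro u w huw e
      obtain ⟨g, hg⟩ := Quotient.exact e
      have hg' : g • (p, p) = (u, w) := hg
      rw [Prod.smul_mk, Prod.mk.injEq] at hg'
      exact huw (hg'.1.symm.trans hg'.2)
    have e2 := ((Nat.card_eq_two_iff'
      (⟦(p, p)⟧ : Quotient (orbitRel G ((G ⧸ H) × (G ⧸ H))))).1 horbY).unique (hne hrs) (hne hpq)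
    obtain ⟨g, hg⟩ := Quotient.exact e2
    have hg' : g • (p, q) = (r, s) := hg
    rw [Prod.smul_mk, Prod.mk.injEq] at hg'
    exact ⟨g, hg'⟩
  refine ⟨{ toDsn := D, inv := hinv, faith := fun g hg => ?_, twoX := ?_, twoY := htwoY, axial := ?_ }⟩
  · exact eq_of_smul_eq_smul (α := Ω) fun x => by rw [hg x, one_smul]
  · exact fun p q r s hpq hrs => h2 hpq hrs
  · refine ⟨((1 : G) : G ⧸ H), (h₀ : G), fun e => h₀1 (Subtype.ext e), fun x hx => ?_⟩
    have hx' : I x ((1 : G) : G ⧸ H) := hx
    rw [hI, inv_one, one_smul] at hx'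
    exact h₀fix x hx'

end Cfsg.Agent.Axial80
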