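import Mathlib
import Cfsg.Agent.Lib.Axial80Projective
import Cfsg.Agent.Lib.Axial80Perm
import Cfsg.Agent.Lib.Axial80PSL

/-!
# Doubly transitive groups with an intransitive, unfaithful subgroup of index equal to the degree
-/

set_option autoImplicit false

namespace Cfsg.Agent.Axial80

/-- The conclusion for a design with an axial automorphism. -/
theorem Geo.exists_psl {G X Y : Type*} [Group G] [Fintype X] [Fintype Y] [DecidableEq X]
    [DecidableEq Y] [MulAction G X] [MulAction G Y] [Finite G] (Γ : Geo G X Y) :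
    ∃ (m : ℕ) (F : Type) (_ : Field F) (_ : Fintype F), 2 ≤ m ∧
      Nat.card X = (Fintype.card F ^ (m + 1) - 1) / (Fintype.card F - 1) ∧
      ∃ N : Subgroup G, N.Normal ∧
        Nonempty (N ≃* Matrix.ProjectiveSpecialLinearGroup (Fin (m + 1)) F) ∧
        Subgroup.centralizer (N : Set G) = ⊥ := by
  classical
  obtain ⟨Q⟩ := Γ.exists_Q
  obtain ⟨m, F, iF, iFt, π, hm, hq, hblk⟩ := Γ.exists_projective Q
  have : FaithfulSMul G X := ⟨fun {a b} h => inv_mul_eq_one.1 (Γ.faith (a⁻¹ * b) fun x => by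
    rw [mul_smul, ← h x, inv_smul_smul])⟩
  refine ⟨m, F, iF, iFt, hm, ?_,
    Subgroup.closure {g : G | ∃ z D, Γ.I z D ∧ g ∈ Γ.Ctr z D}, Γ.normal_closure,
    nonempty_mulEquiv_PSL (by omega) π _ ?_ (fun T hT => Γ.transvection_realised Q π hblk hT),
    Γ.centralizer_eq_bot⟩
  · rw [Nat.card_congr π, Projectivization.card'', Module.natCard_eq_pow_finrank (K := F),
      Module.finrank_fin_fun, Nat.card_eq_fintype_card]
  · rintro g ⟨z, D, hzD, hg⟩
    exact Γ.elation_is_transvection Q π hblk hq hzD hg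

/-- Itô's theorem. -/
theorem exists_psl_of_unfaithful {G Ω : Type*} [Group G] [Finite G] [MulAction G Ω]
    [FaithfulSMul G Ω] [Finite Ω] (h2 : MulAction.IsMultiplyPretransitive G Ω 2) (H : Subgroup G)
    (hidx : H.index = Nat.card Ω) (hnt : ¬ MulAction.IsPretransitive H Ω)
    (hfix : ∀ a : Ω, ∃ h : H, h • a ≠ a)
    (hunf : ∃ a : Ω, ∃ h : H, h ≠ 1 ∧ ∀ b ∈ MulAction.orbit H a, h • b = b) :
    ∃ (m : ℕ) (F : Type) (_ : Field F) (_ : Fintype F), 2 ≤ m ∧
      Nat.card Ω = (Fintype.card F ^ (m + 1) - 1) / (Fintype.card F - 1) ∧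
      ∃ N : Subgroup G, N.Normal ∧
        Nonempty (N ≃* Matrix.ProjectiveSpecialLinearGroup (Fin (m + 1)) F) ∧
        Subgroup.centralizer (N : Set G) = ⊥ := by
  classical
  letI := Fintype.ofFinite Ω
  letI := Fintype.ofFinite (G ⧸ H)
  obtain ⟨Γ⟩ := exists_geo h2 H hidx hnt hfix hunf
  exact Γ.exists_psl

end Cfsg.Agent.Axial80
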