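import Mathlib
import Cfsg.Prelude.Def_OddOrderLocal
import Cfsg.Agent.Lib.BGTypePBase
import Cfsg.Agent.Lib.BGTypeBasic
import Cfsg.Agent.Lib.BGSigmaRank
import Cfsg.Agent.Lib.BGSigmaDisjoint

/-!
Basic facts for Bender-Glauberman section 14: primes outside σ(M), complements, κ(M).
-/

set_option autoImplicit false
set_option linter.style.haveILetI false

namespace Cfsg.Agent.BG14

open Subgroup
open Cfsg.Agent.HallCore
open Cfsg.Agent.BGTypeP (cj)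

universe u

variable {G : Type u} [Group G] [Finite G]

omit [Finite G] in
theorem pRankLE_cj {p k : ℕ} {M : Subgroup G} (g : G) (h : Cfsg.PRankLE p k M) :
    Cfsg.PRankLE p k (cj g M) := by
  intro A hA hAp
  set e : M ≃* cj g M := M.equivMapOfInjective _ (MulAut.conj g).injective with he
  haveI := hA
  have h1 := h (A.map e.symm.toMonoidHom) inferInstance
    (by rintro _ ⟨a, ha, rfl⟩; rw [← map_pow, hAp a ha, map_one])
  rwa [card_map_of_injective e.symm.injective] at h1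

theorem not_cj_of_rank {p k : ℕ} {M L : Subgroup G} (hM : Cfsg.PRankLE p k M)
    (hL : ¬ Cfsg.PRankLE p k L) (g : G) : L ≠ cj g M :=
  fun h => hL (h ▸ pRankLE_cj g hM)

theorem not_cj_of_sigma {p : ℕ} {M L : Subgroup G} (hL : p ∈ Cfsg.sigma L)
    (hM : p ∉ Cfsg.sigma M) (g : G) : L ≠ cj g M := by
  intro h
  rw [h, BGTypeP.sigma_cj] at hL
  exact hM hL

omit [Finite G] in
theorem not_cj_symm {M L : Subgroup G} (h : ∀ g : G, L ≠ cj g M) (g : G) : M ≠ cj g L := by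
  intro e
  exact h g⁻¹ (by rw [e, BGTypeP.cj_inv_cj])

omit [Finite G] in
theorem ne_of_not_cj {M L : Subgroup G} (h : ∀ g : G, L ≠ cj g M) : L ≠ M := fun e =>
  h 1 (by rw [BGTypeP.cj_one, e])

theorem exists_elementary_sq {p : ℕ} [Fact p.Prime] {M : Subgroup G} (h2 : Cfsg.PRankLE p 2 M)
    (h1 : ¬ Cfsg.PRankLE p 1 M) :
    ∃ A : Subgroup G, A ≤ M ∧ Cfsg.IsElementaryAbelian p A ∧ Nat.card A = p ^ 2 := by
  obtain ⟨E, hEM, hE, hEc⟩ := BGUnique.pow_le_of_not_pRankLE h1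
  exact ⟨E, hEM, hE, le_antisymm (BGSigma.card_le_of_pRankLE h2 hEM hE) hEc⟩

theorem not_pRankLE_one {p : ℕ} [hp : Fact p.Prime] {M A : Subgroup G} (hAM : A ≤ M)
    (hA : Cfsg.IsElementaryAbelian p A) (hAc : Nat.card A = p ^ 2) : ¬ Cfsg.PRankLE p 1 M := by
  intro h
  have h1 := BGSigma.card_le_of_pRankLE h hAM hA
  rw [hAc] at h1
  have := (Nat.pow_le_pow_iff_right hp.out.one_lt).1 h1
  omega

omit [Finite G] in
theorem isPGroup_of_card {p : ℕ} {P : Subgroup G} (h : Nat.card P = p) : IsPGroup p P :=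
  IsPGroup.of_card (n := 1) (by rw [h, pow_one])

omit [Finite G] in
theorem ne_bot_of_card {p : ℕ} (hp : p.Prime) {P : Subgroup G} (h : Nat.card P = p) : P ≠ ⊥ := by
  rintro rfl
  rw [card_bot] at h
  exact hp.one_lt.ne h

theorem exists_prime_subgroup {C : Subgroup G} (h : C ≠ ⊥) :
    ∃ (t : ℕ) (X : Subgroup G), t.Prime ∧ X ≤ C ∧ Nat.card X = t := by
  obtain ⟨c, hc, hc1⟩ := C.bot_or_exists_ne_one.resolve_left h
  obtain ⟨q, hq, -, z, hz, hzo⟩ := BGTypeP.exists_prime_order (orderOf_pos c).ne' hc1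
  exact ⟨q, zpowers z, hq, zpowers_le.2 (zpowers_le.2 hc hz), by rw [Nat.card_zpowers, hzo]⟩

theorem exists_prime_subgroup_of_dvd {p : ℕ} (hp : p.Prime) {C : Subgroup G}
    (h : p ∣ Nat.card C) : ∃ X : Subgroup G, X ≤ C ∧ Nat.card X = p := by
  haveI := Fact.mk hp
  obtain ⟨x, hx⟩ := exists_prime_orderOf_dvd_card' p h
  exact ⟨zpowers (x : G), zpowers_le.2 x.2, by rw [Nat.card_zpowers, Subgroup.orderOf_coe, hx]⟩

theorem piNat_of_isPGroup {p : ℕ} [hp : Fact p.Prime] {π : Set ℕ} {P : Subgroup G}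
    (hP : IsPGroup p P) (hpπ : p ∈ π) : PiNat π (Nat.card P) :=
  BGSigma.piNat_of_isPGroup hP hpπ

omit [Finite G] in
theorem piNat_prime {p : ℕ} {π : Set ℕ} (hp : p.Prime) (hpπ : p ∈ π) : PiNat π p :=
  fun _ hq hd => (Nat.prime_dvd_prime_iff_eq hq hp).1 hd ▸ hpπ

/-- Two commuting subgroups of coprime prime orders lie in a cyclic one of order the product. -/
theorem exists_cyclic_sup {p t : ℕ} (hp : p.Prime) (ht : t.Prime) (hne : p ≠ t) {P X : Subgroup G}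
    (hP : Nat.card P = p) (hX : Nat.card X = t) (hc : X ≤ centralizer (P : Set G)) :
    ∃ Z : Subgroup G, Nat.card Z = p * t ∧ P ≤ Z ∧ X ≤ Z ∧ Z ≤ P ⊔ X := by
  haveI := Fact.mk hp
  haveI := Fact.mk ht
  obtain ⟨a, ha, ha1⟩ := P.bot_or_exists_ne_one.resolve_left (ne_bot_of_card hp hP)
  obtain ⟨b, hb, hb1⟩ := X.bot_or_exists_ne_one.resolve_left (ne_bot_of_card ht hX)
  have hao : orderOf a = p :=
    PGroupsBasic.orderOf_eq_of_pow_eq_one (PGroupsBasic.pow_eq_one_of_card hP ha) ha1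
  have hbo : orderOf b = t :=
    PGroupsBasic.orderOf_eq_of_pow_eq_one (PGroupsBasic.pow_eq_one_of_card hX hb) hb1
  have hab : Commute a b := hc hb a ha
  have hco : (orderOf a).Coprime (orderOf b) := by
    rw [hao, hbo]
    exact (Nat.coprime_primes hp ht).2 hne
  have hPa : P = zpowers a := (eq_of_le_of_card_ge (zpowers_le.2 ha)
    (by rw [Nat.card_zpowers, hao, hP])).symm
  have hXb : X = zpowers b := (eq_of_le_of_card_ge (zpowers_le.2 hb)
    (by rw [Nat.card_zpowers, hbo, hX])).symm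
  refine ⟨zpowers (a * b), by rw [Nat.card_zpowers, hab.orderOf_mul_eq_mul_orderOf_of_coprime hco,
    hao, hbo], hPa ▸ zpowers_le.2 (BGTypeP.mem_zpowers_mul hab hco),
    hXb ▸ zpowers_le.2 (BGTypeP.mem_zpowers_mul_right hab hco),
    zpowers_le.2 (mul_mem_sup ha hb)⟩

/-! ### Primes outside σ(M) -/

variable (hG : Cfsg.IsMinSimpleOddOrder G) {M : Subgroup G} (hM : IsCoatom M)

omit [Finite G] in
theorem tau13_iff {p : ℕ} {M : Subgroup G} :
    p ∈ Cfsg.tau1 M ∪ Cfsg.tau3 M ↔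
      p.Prime ∧ p ∉ Cfsg.sigma M ∧ p ∣ Nat.card M ∧ Cfsg.PRankLE p 1 M := by
  refine ⟨?_, fun h => ?_⟩
  · rintro (⟨h1, h2, h3, -, h5⟩ | ⟨h1, h2, h3, h4⟩)
    · exact ⟨h1, h2, h3, h5⟩
    · exact ⟨h1, h2, h3.trans (card_dvd_of_le (commutator_le_self M)), h4⟩
  · by_cases hd : p ∣ Nat.card ↥⁅M, M⁆
    · exact Or.inr ⟨h.1, h.2.1, hd, h.2.2.2⟩
    · exact Or.inl ⟨h.1, h.2.1, h.2.2.1, hd, h.2.2.2⟩

omit [Finite G] in
theorem not_tau2_of_tau13 {p : ℕ} {M : Subgroup G} (h : p ∈ Cfsg.tau1 M ∪ Cfsg.tau3 M) :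
    p ∉ Cfsg.tau2 M := fun h2 => h2.2.2.2 (tau13_iff.1 h).2.2.2

theorem dvd_of_tau2 {p : ℕ} {M : Subgroup G} (h : p ∈ Cfsg.tau2 M) : p ∣ Nat.card M := by
  haveI := Fact.mk h.1
  exact BGSigma.dvd_card_of_not_pRankLE h.2.2.2

include hG hM in
theorem tau_cases {p : ℕ} (hp : p.Prime) (hs : p ∉ Cfsg.sigma M) (hd : p ∣ Nat.card M) :
    p ∈ Cfsg.tau1 M ∪ Cfsg.tau3 M ∨ p ∈ Cfsg.tau2 M := by
  by_cases h : Cfsg.PRankLE p 1 M
  · exact Or.inl (tau13_iff.2 ⟨hp, hs, hd, h⟩)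
  · exact Or.inr ⟨hp, hs, BGSigma.outside_alpha hG hM hp hs, h⟩

include hG in
/-- BG 10.5 in the form used below. -/
theorem mem_tau2_of_normalizer_le {p : ℕ} (hp : p.Prime) {L : Subgroup G} (hL : IsCoatom L)
    (hs : p ∉ Cfsg.sigma L) {P : Subgroup G} (hP : Nat.card P = p)
    (hN : normalizer (P : Set G) ≤ L) : p ∈ Cfsg.tau2 L := by
  haveI := Fact.mk hp
  exact ⟨hp, hs, (BGSigma.order_p_normalizer_le hG hL hs hP hN).1⟩

include hG in
theorem not_cj_of_normalizer_le {p : ℕ} {L : Subgroup G} (hL : IsCoatom L)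
    (hp : p ∈ Cfsg.tau1 M ∪ Cfsg.tau3 M) {P : Subgroup G} (hP : Nat.card P = p)
    (hN : normalizer (P : Set G) ≤ L) (g : G) : L ≠ cj g M := by
  obtain ⟨hp', hs, -, hr⟩ := tau13_iff.1 hp
  by_cases h : p ∈ Cfsg.sigma L
  · exact not_cj_of_sigma h hs g
  · exact not_cj_of_rank hr (mem_tau2_of_normalizer_le hG hp' hL h hP hN).2.2.2 g

/-! ### Complements -/

include hG hM

theorem compl_hall {E : Subgroup G} (hE : Cfsg.IsComplIn E (Cfsg.sigmaCore M) M) :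
    Cfsg.IsPiHallOf (Cfsg.sigma M)ᶜ E M := by
  have hH := BGTypeP.hallOf_iff.1 (BGTypeP.hall hG hM)
  have h1 := BGTypeBasic.relIndex_of_isComplIn hE
  refine BGTypeP.hallOf_iff.2 ⟨hE.1, ?_, ?_⟩
  · rw [← h1.2]; exact hH.2.2
  · rw [h1.1, compl_compl]; exact hH.2.1

theorem compl_of_hall {E : Subgroup G} (hE : Cfsg.IsPiHallOf (Cfsg.sigma M)ᶜ E M) :
    Cfsg.IsComplIn E (Cfsg.sigmaCore M) M := by
  have hH := BGTypeP.hallOf_iff.1 (BGTypeP.hall hG hM)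
  have hE' := BGTypeP.hallOf_iff.1 hE
  rw [compl_compl] at hE'
  have hc : (Nat.card E).Coprime (Nat.card (Cfsg.sigmaCore M)) :=
    (PiNat.coprime hH.2.1 hE'.2.1).symm
  refine BGTypeBasic.isComplIn_of_card hE'.1 hH.1 hc (Nat.dvd_antisymm ?_ ?_)
  · exact hc.mul_dvd_of_dvd_of_dvd (card_dvd_of_le hE'.1) (card_dvd_of_le hH.1)
  · -- the index of each factor is prime to the other set
    have e1 := BGFinal72.card_mul_relIndex hH.1
    have e2 := BGFinal72.card_mul_relIndex hE'.1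
    have hc2 : ((Cfsg.sigmaCore M).relIndex M).Coprime (E.relIndex M) :=
      (PiNat.coprime hE'.2.2 hH.2.2).symm
    have h3 : (Cfsg.sigmaCore M).relIndex M ∣ Nat.card E :=
      hc2.dvd_of_dvd_mul_right (e2.symm ▸ ⟨Nat.card (Cfsg.sigmaCore M), by rw [mul_comm]; exact e1.symm⟩)
    rw [← e1, mul_comm]
    exact mul_dvd_mul_right h3 _

theorem exists_compl_ge {X : Subgroup G} (hX : X ≤ M) (hXσ : PiNat (Cfsg.sigma M)ᶜ (Nat.card X)) :
    ∃ E : Subgroup G, Cfsg.IsComplIn E (Cfsg.sigmaCore M) M ∧ X ≤ E := by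
  obtain ⟨E, hE, hXE⟩ := BGTypeP.exists_hallOf_ge (BGTypeP.solvable hG hM) _ hX hXσ
  exact ⟨E, compl_of_hall hG hM hE, hXE⟩

theorem exists_compl : ∃ E : Subgroup G, Cfsg.IsComplIn E (Cfsg.sigmaCore M) M := by
  obtain ⟨E, hE, -⟩ := exists_compl_ge hG hM (X := ⊥) bot_le (by simpa using piNat_one _)
  exact ⟨E, hE⟩

theorem exists_compl_ge_prime {p : ℕ} (hp : p.Prime) (hs : p ∉ Cfsg.sigma M) {P : Subgroup G}
    (hPM : P ≤ M) (hP : IsPGroup p P) :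
    ∃ E : Subgroup G, Cfsg.IsComplIn E (Cfsg.sigmaCore M) M ∧ P ≤ E := by
  haveI := Fact.mk hp
  exact exists_compl_ge hG hM hPM (piNat_of_isPGroup hP hs)

theorem le_conj_compl {E : Subgroup G} (hE : Cfsg.IsComplIn E (Cfsg.sigmaCore M) M)
    {U : Subgroup G} (hU : U ≤ M) (hUσ : PiNat (Cfsg.sigma M)ᶜ (Nat.card U)) :
    ∃ m ∈ M, U ≤ cj m E :=
  BGTypeP.le_conj_hallOf (BGTypeP.solvable hG hM) (compl_hall hG hM hE) hU hUσ

/-- An elementary abelian subgroup of order `p ^ 2` inside a given complement. -/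
theorem exists_sq_le_compl {p : ℕ} (hp : p ∈ Cfsg.tau2 M) {E : Subgroup G}
    (hE : Cfsg.IsComplIn E (Cfsg.sigmaCore M) M) :
    ∃ A : Subgroup G, A ≤ E ∧ Cfsg.IsElementaryAbelian p A ∧ Nat.card A = p ^ 2 := by
  haveI := Fact.mk hp.1
  obtain ⟨A, hAM, hA, hAc⟩ := exists_elementary_sq hp.2.2.1 hp.2.2.2
  obtain ⟨m, hm, hle⟩ := le_conj_compl hG hM hE hAM
    (piNat_of_isPGroup (PGroupsBasic.isPGroup_of_isElementaryAbelian hA) hp.2.1)
  refine ⟨cj m⁻¹ A, BGTypeP.le_cj_iff.2 hle, PGroupsBasic.isElementaryAbelian_map_hom hA _, ?_⟩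
  rw [BGTypeP.card_cj, hAc]

omit hG hM in
theorem mem_sigma_of_le {t : ℕ} (ht : t.Prime) {X : Subgroup G} (hX : X ≤ Cfsg.sigmaCore M)
    (hc : Nat.card X = t) : t ∈ Cfsg.sigma M :=
  BGTypeP.piNat_sigmaCore M t ht (hc ▸ card_dvd_of_le hX)

omit hG hM in
theorem isPGroup_eq_of_order_prime {p : ℕ} [hp : Fact p.Prime] {S X Y : Subgroup G}
    (hc : IsCyclic S) (hXS : X ≤ S) (hYS : Y ≤ S) (hX : Nat.card X = p) (hY : Nat.card Y = p) :
    X = Y := by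
  haveI := hc
  have hE : Cfsg.IsElementaryAbelian p (X ⊔ Y) := by
    refine PGroupsBasic.isElementaryAbelian_sup
      (PGroupsBasic.isElementaryAbelian_of_card_eq_prime hX)
      (PGroupsBasic.isElementaryAbelian_of_card_eq_prime hY) ?_
    intro a ha b hb
    exact PGroupsBasic.comm_of_isMulCommutative (inferInstance : IsMulCommutative S) (hYS hb) (hXS ha)
  haveI hXY : IsCyclic ↥(X ⊔ Y) :=
    isCyclic_of_injective (inclusion (sup_le hXS hYS)) (inclusion_injective _)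
  have h := PGroupsBasic.card_le_prime_of_isCyclic hXY hE.2
  exact (eq_of_le_of_card_ge (le_sup_left (b := Y)) (hX.symm ▸ h)).trans
    (eq_of_le_of_card_ge (le_sup_right (a := X)) (hY.symm ▸ h)).symm

omit hM in
theorem isCyclic_of_rank_one {p : ℕ} [hp : Fact p.Prime] (hr : Cfsg.PRankLE p 1 M)
    {P : Subgroup G} (hPM : P ≤ M) (hP : IsPGroup p P) : IsCyclic P := by
  by_contra h
  obtain ⟨E, hE, hEe, hEc⟩ := BGUnique.exists_elementary_sq_of_noncyclic hG hP h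
  exact not_pRankLE_one (hE.trans hPM) hEe hEc hr

omit hM in
theorem exists_conj_prime {p : ℕ} [Fact p.Prime] (hr : Cfsg.PRankLE p 1 M) {P Q : Subgroup G}
    (hP : P ≤ M) (hQ : Q ≤ M) (hPc : Nat.card P = p) (hQc : Nat.card Q = p) :
    ∃ m ∈ M, cj m P = Q := by
  obtain ⟨S, hS, hQS⟩ := BGUnique.exists_isMaxP_ge (isPGroup_of_card hQc) hQ
  obtain ⟨m, hm, hle⟩ := BGSigma.exists_conj_maxP hS hP (isPGroup_of_card hPc)
  exact ⟨m, hm, isPGroup_eq_of_order_prime (isCyclic_of_rank_one hG hr hS.le hS.isPGroup) hle hQS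
    (by rw [BGTypeP.card_cj, hPc]) hQc⟩

/-- A maximal subgroup conjugate to `M` and containing `C(X)`, `X` a σ(M)-subgroup of M, is M. -/
theorem eq_of_conj_of_centralizer_le {t : ℕ} [Fact t.Prime] (ht : t ∈ Cfsg.sigma M)
    {X : Subgroup G} (hXM : X ≤ M) (hX : IsPGroup t X) (hX1 : X ≠ ⊥) {L : Subgroup G} {g : G}
    (hL : L = cj g M) (hXL : X ≤ L) (hCL : centralizer (X : Set G) ≤ L) : L = M := by
  have hgX : cj g⁻¹ X ≤ M := BGTypeP.le_cj_iff.2 (hL ▸ hXL)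
  obtain ⟨m, hm, c, hc, he⟩ := BGSigma.fusion hG hM ht hX hX1 hXM (g := g⁻¹) hgX
  have hg : g = c⁻¹ * m⁻¹ := by rw [← mul_inv_rev, ← he, inv_inv]
  have h1 : cj c L = M := by
    rw [hL, hg, BGTypeP.cj_mul, mul_inv_cancel_left, BGTypeP.cj_of_mem (inv_mem hm)]
  exact (BGTypeP.cj_of_mem (hCL hc)).symm.trans h1

/-! ### κ(M) -/

omit hG hM in
theorem exists_of_kappa {p : ℕ} (h : p ∈ Cfsg.kappa M) :
    p ∈ Cfsg.tau1 M ∪ Cfsg.tau3 M ∧
      ∃ P : Subgroup G, P ≤ M ∧ Nat.card P = p ∧ Cfsg.sigmaCore M ⊓ centralizer (P : Set G) ≠ ⊥ := by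
  obtain ⟨hp, hd, hs, hS⟩ := h
  haveI := Fact.mk hp
  refine ⟨tau13_iff.2 ⟨hp, hs, hd, fun A hA hAp => ?_⟩, ?_⟩
  · obtain ⟨S, hAS⟩ := (PGroupsBasic.isPGroup_of_isElementaryAbelian ⟨hA, hAp⟩).exists_le_sylow
    haveI := (hS S).1
    have hAc : IsCyclic A := isCyclic_of_injective (inclusion hAS) (inclusion_injective hAS)
    rw [pow_one]
    exact PGroupsBasic.card_le_prime_of_isCyclic hAc hAp
  · obtain ⟨S⟩ : Nonempty (Sylow p M) := inferInstance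
    obtain ⟨-, x, hxS, hx1, y, hy, hy1, hxy⟩ := hS S
    obtain ⟨n, hn⟩ : ∃ n, orderOf (⟨x, hxS⟩ : S) = p ^ n :=
      IsPGroup.iff_orderOf.1 S.isPGroup' _
    rw [← orderOf_coe] at hn
    obtain ⟨q, hq, hqd, z, hz, hzo⟩ := BGTypeP.exists_prime_order (orderOf_pos x).ne' hx1
    have hqp : q = p := (Nat.prime_dvd_prime_iff_eq hq hp).1 (hq.dvd_of_dvd_pow (hn ▸ hqd))
    refine ⟨zpowers (z : G), zpowers_le.2 z.2, by
      rw [Nat.card_zpowers, Subgroup.orderOf_coe, hzo, hqp], fun hb => hy1 ?_⟩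
    obtain ⟨i, rfl⟩ := mem_zpowers_iff.1 hz
    have hmem : y ∈ Cfsg.sigmaCore M ⊓ centralizer (zpowers ((x ^ i : M) : G) : Set G) := by
      refine ⟨hy, ?_⟩
      intro w hw
      obtain ⟨j, rfl⟩ := mem_zpowers_iff.1 hw
      rw [SubgroupClass.coe_zpow]
      exact ((show Commute (x : G) y from hxy).zpow_left i |>.zpow_left j).eq
    rw [hb, mem_bot] at hmem
    exact hmem

omit hG hM [Finite G] in
theorem cj_inf_centralizer {m : G} (hm : m ∈ M) (P : Subgroup G) {y : G}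
    (hy : y ∈ Cfsg.sigmaCore M ⊓ centralizer (P : Set G)) :
    m * y * m⁻¹ ∈ Cfsg.sigmaCore M ⊓ centralizer (cj m P : Set G) := by
  refine ⟨(mem_normalizer_iff.1 (BGFinal72.le_normalizer_sigmaCore M hm) y).1 hy.1, ?_⟩
  rintro _ ⟨x, hx, rfl⟩
  have h := hy.2 x hx
  simp only [MulEquiv.coe_toMonoidHom, MulAut.conj_apply]
  calc m * x * m⁻¹ * (m * y * m⁻¹) = m * (x * y) * m⁻¹ := by group
    _ = m * (y * x) * m⁻¹ := by rw [h]
    _ = m * y * m⁻¹ * (m * x * m⁻¹) := by group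

omit hM in
theorem fixed_ne_bot_of_conj {p : ℕ} [Fact p.Prime] (hr : Cfsg.PRankLE p 1 M) {P Q : Subgroup G}
    (hP : P ≤ M) (hQ : Q ≤ M) (hPc : Nat.card P = p) (hQc : Nat.card Q = p)
    (h : Cfsg.sigmaCore M ⊓ centralizer (P : Set G) ≠ ⊥) :
    Cfsg.sigmaCore M ⊓ centralizer (Q : Set G) ≠ ⊥ := by
  obtain ⟨y, hy, hy1⟩ := (bot_or_exists_ne_one _).resolve_left h
  obtain ⟨m, hm, rfl⟩ := exists_conj_prime hG hr hP hQ hPc hQc
  intro hb
  have := cj_inf_centralizer hm P hy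
  rw [hb, mem_bot, conj_eq_one_iff] at this
  exact hy1 this

omit hM in
theorem fixed_ne_bot_of_kappa {p : ℕ} (h : p ∈ Cfsg.kappa M) {Q : Subgroup G} (hQ : Q ≤ M)
    (hQc : Nat.card Q = p) : Cfsg.sigmaCore M ⊓ centralizer (Q : Set G) ≠ ⊥ := by
  obtain ⟨h1, P, hP, hPc, hC⟩ := exists_of_kappa h
  haveI := Fact.mk h.1
  exact fixed_ne_bot_of_conj hG (tau13_iff.1 h1).2.2.2 hP hQ hPc hQc hC

omit hM in
theorem mem_kappa {p : ℕ} (h : p ∈ Cfsg.tau1 M ∪ Cfsg.tau3 M) {P : Subgroup G} (hP : P ≤ M)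
    (hPc : Nat.card P = p) (hC : Cfsg.sigmaCore M ⊓ centralizer (P : Set G) ≠ ⊥) :
    p ∈ Cfsg.kappa M := by
  obtain ⟨hp, hs, hd, hr⟩ := tau13_iff.1 h
  haveI := Fact.mk hp
  refine ⟨hp, hd, hs, fun S => ⟨?_, ?_⟩⟩
  · exact (((S : Subgroup M).equivMapOfInjective _ M.subtype_injective).isCyclic).2
      (isCyclic_of_rank_one hG hr (map_subtype_le _) (S.isPGroup'.map _))
  · obtain ⟨x, hx⟩ := exists_prime_orderOf_dvd_card' p
      (show p ∣ Nat.card (S : Subgroup M) from S.dvd_card_of_dvd_card hd)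
    have hQc : Nat.card (zpowers ((x : M) : G)) = p := by
      rw [Nat.card_zpowers, Subgroup.orderOf_coe, Subgroup.orderOf_coe, hx]
    have hne := fixed_ne_bot_of_conj hG hr hP (zpowers_le.2 (x : M).2) hPc hQc hC
    obtain ⟨y, hy, hy1⟩ := (bot_or_exists_ne_one _).resolve_left hne
    refine ⟨x, x.2, fun h1 => ?_, y, hy.1, hy1, hy.2 _ (mem_zpowers _)⟩
    have : x = 1 := Subtype.ext h1
    rw [this, orderOf_one] at hx
    exact hp.one_lt.ne hx

end Cfsg.Agent.BG14
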