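import Mathlib
import Cfsg.Agent.Lib.CoprimeAction

/-!
# A group of order `p r` acting with equal fixed points

If `R` of prime order acts nontrivially on `P` of prime order `p`, both normalize a solvable
subgroup `H` of order prime to `p r` and `C_H(R)` centralizes `P`, then `P` centralizes `H`.
-/

set_option autoImplicit false
set_option linter.style.haveILetI false

namespace Cfsg.Agent.BG14Frob83

open Subgroup
open scoped commutatorElement IsMulCommutative

universe u

variable {G : Type u} [Group G]

/-- The product of the conjugates of an element of an abelian subgroup. -/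
theorem prod_conj_mem_centralizer {A W : Subgroup G} [Fintype A] [IsMulCommutative W]
    (hA : A ≤ normalizer (W : Set G)) (w : W) :
    ((∏ a : A, (⟨a * w * (a : G)⁻¹, (mem_normalizer_iff.1 (hA a.2) w).1 w.2⟩ : W) : W) : G) ∈
      centralizer (A : Set G) := by
  set f : A → W := fun a => ⟨a * w * (a : G)⁻¹, (mem_normalizer_iff.1 (hA a.2) w).1 w.2⟩ with hf
  intro b hb
  set φ : W →* W :=
    { toFun := fun x => ⟨b * x * b⁻¹, (mem_normalizer_iff.1 (hA hb) x).1 x.2⟩
      map_one' := Subtype.ext (by simp)
      map_mul' := fun x y => Subtype.ext (by simp [mul_assoc]) } with hφ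
  have h1 : φ (∏ a, f a) = ∏ a, f a := by
    rw [map_prod]
    refine Fintype.prod_equiv (Equiv.mulLeft (⟨b, hb⟩ : A)) _ _ fun a => Subtype.ext ?_
    simp only [hf, hφ, MonoidHom.coe_mk, OneHom.coe_mk, Equiv.coe_mulLeft, Subgroup.coe_mul]
    group
  have h2 : b * ((∏ a, f a : W) : G) * b⁻¹ = ((∏ a, f a : W) : G) := congrArg Subtype.val h1
  change b * ((∏ a, f a : W) : G) = ((∏ a, f a : W) : G) * b
  conv_rhs => rw [← h2]
  group

variable [Finite G]

/-- The abelian case. -/
theorem commute_of_abelian {p : ℕ} (hp : p.Prime) {P R V : Subgroup G} [IsMulCommutative V]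
    (hP : Nat.card P = p) (hR : (Nat.card R).Prime)
    (hRP : R ≤ normalizer (P : Set G)) (hRnc : ¬ R ≤ centralizer (P : Set G))
    (hPV : P ≤ normalizer (V : Set G)) (hRV : R ≤ normalizer (V : Set G))
    (hcop : p.Coprime (Nat.card V))
    (hfix : V ⊓ centralizer (R : Set G) ≤ centralizer (P : Set G)) :
    P ≤ centralizer (V : Set G) := by
  classical
  haveI : Fintype P := Fintype.ofFinite P
  haveI : Fintype R := Fintype.ofFinite R
  set W : Subgroup G := ⁅V, P⁆ with hW
  have hWV : W ≤ V := CoprimeAction.commutator_le_self_of_le_normalizer hPV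
  haveI : IsMulCommutative W := ⟨⟨fun a b => Subtype.ext (by
    simpa using congrArg Subtype.val
      (IsMulCommutative.is_comm.comm (⟨a, hWV a.2⟩ : V) ⟨b, hWV b.2⟩))⟩⟩
  have hWP : W ⊓ centralizer (P : Set G) = ⊥ := by
    refine eq_bot_iff.2 fun x hx => ?_
    have hcop' : (Nat.card P).Coprime (Nat.card V) := hP.symm ▸ hcop
    have h := CoprimeAction.inf_centralizer_inf_commutator_eq_bot hPV hcop'
    exact (eq_bot_iff.1 h) ⟨⟨hWV hx.1, hx.2⟩, hx.1⟩
  have hPW : P ≤ normalizer (W : Set G) := by
    refine CoprimeAction.le_normalizer_of_conj_mem fun a ha w hw => ?_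
    induction hw using closure_induction with
    | mem x hx =>
      obtain ⟨v, hv, b, hb, rfl⟩ := hx
      have : a * ⁅v, b⁆ * a⁻¹ = ⁅a * v * a⁻¹, a * b * a⁻¹⁆ := by
        simp [commutatorElement_def, mul_assoc]
      rw [this]
      exact commutator_mem_commutator ((mem_normalizer_iff.1 (hPV ha) v).1 hv)
        (mul_mem (mul_mem ha hb) (inv_mem ha))
    | one => simp
    | mul x y _ _ hx hy =>
      have : a * (x * y) * a⁻¹ = (a * x * a⁻¹) * (a * y * a⁻¹) := by group
      rw [this]
      exact mul_mem hx hy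
    | inv x _ hx =>
      have : a * x⁻¹ * a⁻¹ = (a * x * a⁻¹)⁻¹ := by group
      rw [this]
      exact inv_mem hx
  have hRW : R ≤ normalizer (W : Set G) := by
    refine CoprimeAction.le_normalizer_of_conj_mem fun a ha w hw => ?_
    induction hw using closure_induction with
    | mem x hx =>
      obtain ⟨v, hv, b, hb, rfl⟩ := hx
      have : a * ⁅v, b⁆ * a⁻¹ = ⁅a * v * a⁻¹, a * b * a⁻¹⁆ := by
        simp [commutatorElement_def, mul_assoc]
      rw [this]
      exact commutator_mem_commutator ((mem_normalizer_iff.1 (hRV ha) v).1 hv)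
        ((mem_normalizer_iff.1 (hRP ha) b).1 hb)
    | one => simp
    | mul x y _ _ hx hy =>
      have : a * (x * y) * a⁻¹ = (a * x * a⁻¹) * (a * y * a⁻¹) := by group
      rw [this]
      exact mul_mem hx hy
    | inv x _ hx =>
      have : a * x⁻¹ * a⁻¹ = (a * x * a⁻¹)⁻¹ := by group
      rw [this]
      exact inv_mem hx
  -- conjugation as endomorphisms of `W`
  set N : Subgroup G := normalizer (W : Set G) with hN
  let act : N → W → W := fun g w =>
    ⟨(g : G) * w * (g : G)⁻¹, (mem_normalizer_iff.1 g.2 w).1 w.2⟩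
  let iP : P → N := fun b => ⟨b, hPW b.2⟩
  let iR : R → N := fun y => ⟨y, hRW y.2⟩
  have hsumP : ∀ w : W, ∏ b : P, act (iP b) w = 1 := fun w => by
    have h := prod_conj_mem_centralizer hPW w
    have h' : ((∏ b : P, act (iP b) w : W) : G) ∈ W ⊓ centralizer (P : Set G) :=
      ⟨SetLike.coe_mem _, h⟩
    rw [hWP] at h'
    exact Subtype.ext (mem_bot.1 h')
  have hsumR : ∀ w : W, ∏ y : R, act (iR y) w = 1 := fun w => by
    have h := prod_conj_mem_centralizer hRW w
    have h' : ((∏ y : R, act (iR y) w : W) : G) ∈ W ⊓ centralizer (P : Set G) :=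
      ⟨SetLike.coe_mem _, hfix ⟨hWV (SetLike.coe_mem _), h⟩⟩
    rw [hWP] at h'
    exact Subtype.ext (mem_bot.1 h')
  have hpow : ∀ w : W, w ^ p = 1 := by
    intro w
    let φ : N → W →* W := fun g =>
      { toFun := act g
        map_one' := Subtype.ext (by simp [act])
        map_mul' := fun x y => Subtype.ext (by simp [act, mul_assoc]) }
    have hφ : ∀ g h : N, ∀ x : W, φ g (φ h x) = φ (g * h) x := fun g h x =>
      Subtype.ext (by simp [φ, act, mul_assoc])
    have htot : ∏ b : P, ∏ y : R, act (iP b * iR y * (iP b)⁻¹) w = 1 := by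
      refine Finset.prod_eq_one fun b _ => ?_
      have : ∀ y : R, act (iP b * iR y * (iP b)⁻¹) w = φ (iP b) (act (iR y) (act (iP b)⁻¹ w)) :=
        fun y => by
          change φ _ w = φ _ (φ _ (φ _ w))
          rw [hφ, hφ, mul_assoc]
      rw [Finset.prod_congr rfl fun y _ => this y, ← map_prod, hsumR, map_one]
    rw [Finset.prod_comm] at htot
    have hrest : ∀ y : R, y ≠ 1 → ∏ b : P, act (iP b * iR y * (iP b)⁻¹) w = 1 := by
      intro y hy
      let e : P → P := fun b => ⟨(b : G) * ((y : G) * (b : G)⁻¹ * (y : G)⁻¹),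
        mul_mem b.2 ((mem_normalizer_iff.1 (hRP y.2) _).1 (inv_mem b.2))⟩
      have he : Function.Injective e := by
        intro b c hbc
        have h1 : (b : G) * ((y : G) * (b : G)⁻¹ * (y : G)⁻¹) =
            (c : G) * ((y : G) * (c : G)⁻¹ * (y : G)⁻¹) := congrArg Subtype.val hbc
        have h2 : ((c : G)⁻¹ * b) * y = y * ((c : G)⁻¹ * b) := by
          calc ((c : G)⁻¹ * b) * y
              = (c : G)⁻¹ * ((b : G) * ((y : G) * (b : G)⁻¹ * (y : G)⁻¹)) * y * b := by group
            _ = (c : G)⁻¹ * ((c : G) * ((y : G) * (c : G)⁻¹ * (y : G)⁻¹)) * y * b := by rw [h1]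
            _ = y * ((c : G)⁻¹ * b) := by group
        by_contra hne
        set d : P := c⁻¹ * b with hd
        have hd1 : d ≠ 1 := fun h => hne (inv_mul_eq_one.1 h).symm
        apply hRnc
        haveI := Fact.mk hp
        haveI := Fact.mk hR
        have hy' : zpowers (y : G) = R := by
          refine eq_of_le_of_card_ge (zpowers_le.2 y.2) (le_of_eq ?_)
          rw [Nat.card_zpowers]
          have := orderOf_eq_card_of_forall_mem_zpowers
            (g := y) (fun x => mem_zpowers_of_prime_card rfl hy)
          rw [← Subgroup.orderOf_coe y] at this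
          exact this.symm
        rw [← hy', zpowers_le]
        intro x hx
        have hxd : (⟨x, hx⟩ : P) ∈ zpowers d := mem_zpowers_of_prime_card hP hd1
        obtain ⟨k, hk⟩ := mem_zpowers_iff.1 hxd
        have hx' : x = ((c : G)⁻¹ * b) ^ k := by
          have := congrArg Subtype.val hk
          simpa [hd] using this.symm
        rw [hx']
        exact ((show Commute ((c : G)⁻¹ * b) y from h2).zpow_left k).eq
      have hbij : Function.Bijective e := Finite.injective_iff_bijective.1 he
      have hterm : ∀ b : P, act (iP b * iR y * (iP b)⁻¹) w = act (iP (e b)) (act (iR y) w) :=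
        fun b => Subtype.ext (by simp [act, iP, iR, e, mul_assoc])
      rw [Finset.prod_congr rfl fun b _ => hterm b, Fintype.prod_equiv (Equiv.ofBijective e hbij)
        (fun b => act (iP (e b)) (act (iR y) w)) (fun c => act (iP c) (act (iR y) w))
        (fun b => rfl), hsumP]
    rw [Fintype.prod_eq_single 1 hrest] at htot
    have h1 : ∀ b : P, act (iP b * iR 1 * (iP b)⁻¹) w = w := fun b =>
      Subtype.ext (by simp [act, iP, iR])
    rwa [Finset.prod_congr rfl fun b _ => h1 b, Finset.prod_const, Finset.card_univ,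
      ← Nat.card_eq_fintype_card, hP] at htot
  have hWbot : W = ⊥ := by
    refine eq_bot_iff.2 fun w hw => mem_bot.2 ?_
    have h1 : w ^ p = 1 := congrArg Subtype.val (hpow ⟨w, hw⟩)
    have h2 : orderOf w ∣ 1 := by
      have hd : orderOf w ∣ Nat.card V := V.orderOf_dvd_natCard (hWV hw)
      exact (hcop.coprime_dvd_right hd) ▸ Nat.dvd_gcd (orderOf_dvd_of_pow_eq_one h1) dvd_rfl
    exact orderOf_eq_one_iff.1 (Nat.dvd_one.1 h2)
  rw [hW, commutator_eq_bot_iff_le_centralizer] at hWbot
  exact le_centralizer_iff.1 hWbot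

/-- Equal fixed points force trivial action of `P`. -/
theorem le_centralizer_of_fixed {p : ℕ} (hp : p.Prime) {P R H : Subgroup G}
    (hP : Nat.card P = p) (hR : (Nat.card R).Prime)
    (hRP : R ≤ normalizer (P : Set G)) (hRnc : ¬ R ≤ centralizer (P : Set G))
    (hPH : P ≤ normalizer (H : Set G)) (hRH : R ≤ normalizer (H : Set G))
    (hcopP : p.Coprime (Nat.card H)) (hcopR : (Nat.card R).Coprime (Nat.card H))
    [hs : Group.IsSolvable H]
    (hfix : H ⊓ centralizer (R : Set G) ≤ centralizer (P : Set G)) :
    P ≤ centralizer (H : Set G) := by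
  induction hn : Nat.card H using Nat.strong_induction_on generalizing H with
  | _ n ih =>
    subst hn
    by_cases hH : H = ⊥
    · subst hH
      intro x _ y hy
      simp only [SetLike.mem_coe, mem_bot] at hy
      simp [hy]
    haveI : Nontrivial H := (nontrivial_iff_ne_bot H).2 hH
    have hlt : ⁅H, H⁆ < H := by
      refine lt_of_le_of_ne (commutator_le_self H) fun h => ?_
      have h' := IsSolvable.commutator_lt_top_of_nontrivial H
      rw [← map_subtype_commutator] at h
      refine h'.ne (map_injective H.subtype_injective ?_)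
      rw [h, ← MonoidHom.range_eq_map, range_subtype]
    set D : Subgroup G := ⁅H, H⁆ with hD
    have hchar : ∀ A : Subgroup G, A ≤ normalizer (H : Set G) → A ≤ normalizer (D : Set G) := by
      intro A hA
      refine CoprimeAction.le_normalizer_of_conj_mem fun a ha x hx => ?_
      have h1 : H.map (MulAut.conj a).toMonoidHom = H := by
        ext y
        simp only [mem_map, MulEquiv.coe_toMonoidHom, MulAut.conj_apply]
        constructor
        · rintro ⟨z, hz, rfl⟩
          exact (mem_normalizer_iff.1 (hA ha) z).1 hz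
        · intro hy
          exact ⟨a⁻¹ * y * a, CoprimeAction.conj_mem' (hA ha) hy, by group⟩
      have h2 : D.map (MulAut.conj a).toMonoidHom = D := by rw [hD, map_commutator, h1]
      rw [← h2]
      exact ⟨x, hx, by simp⟩
    have hDle : D ≤ H := hlt.le
    haveI : Group.IsSolvable D := CoprimeAction.isSolvable_of_le hDle
    have hdvd : Nat.card D ∣ Nat.card H := card_dvd_of_le hDle
    have hcardlt : Nat.card D < Nat.card H := by
      refine lt_of_le_of_ne (Nat.le_of_dvd Nat.card_pos hdvd) fun h => hlt.ne ?_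
      exact eq_of_le_of_card_ge hDle h.ge
    have hPD : P ≤ centralizer (D : Set G) := ih _ hcardlt (hchar P hPH) (hchar R hRH)
      (hcopP.coprime_dvd_right hdvd) (hcopR.coprime_dvd_right hdvd)
      (le_trans (inf_le_inf_right _ hDle) hfix) rfl
    -- pass to `N(D)/D`
    set N : Subgroup G := normalizer (D : Set G) with hN
    have hHN : H ≤ N := le_trans le_normalizer (by
      exact fun x hx => hchar (normalizer (H : Set G)) le_rfl hx)
    have hPN : P ≤ N := hchar P hPH
    have hRN : R ≤ N := hchar R hRH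
    haveI : (D.subgroupOf N).Normal := normal_subgroupOf_of_le_normalizer le_rfl
    set f : N →* N ⧸ D.subgroupOf N := QuotientGroup.mk' _ with hf
    set H' := (H.subgroupOf N).map f with hH'
    set P' := (P.subgroupOf N).map f with hP'
    set R' := (R.subgroupOf N).map f with hR'
    haveI : IsMulCommutative H' := by
      refine ⟨⟨fun a b => ?_⟩⟩
      obtain ⟨x, hx, hxa⟩ := a.2
      obtain ⟨y, hy, hyb⟩ := b.2
      apply Subtype.ext
      change (a : N ⧸ D.subgroupOf N) * b = b * a
      rw [← hxa, ← hyb, ← map_mul, ← map_mul]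
      refine (QuotientGroup.eq.2 ?_)
      rw [mem_subgroupOf]
      have : ((x * y)⁻¹ * (y * x) : N) = ⁅y⁻¹, x⁻¹⁆ := by
        simp [commutatorElement_def, mul_assoc]
      rw [this]
      exact commutator_mem_commutator (inv_mem (mem_subgroupOf.1 hy)) (inv_mem (mem_subgroupOf.1 hx))
    have hinjOn : ∀ A : Subgroup G, A ≤ N → (Nat.card A).Coprime (Nat.card H) →
        Nat.card ((A.subgroupOf N).map f) = Nat.card A := by
      intro A hA hc
      rw [← Nat.card_congr (subgroupOfEquivOfLe hA).toEquiv]
      have hker : ∀ x : N, x ∈ A.subgroupOf N → f x = 1 → x = 1 := fun x hx hxf => by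
        have hxD : x ∈ D.subgroupOf N := (QuotientGroup.eq_one_iff x).1 hxf
        have : (x : G) ∈ A ⊓ H := ⟨hx, hDle (mem_subgroupOf.1 hxD)⟩
        rw [inf_eq_bot_of_coprime hc, mem_bot] at this
        exact Subtype.ext this
      have hinj : Function.Injective (f.comp (A.subgroupOf N).subtype) :=
        (injective_iff_map_eq_one _).2 fun x hx => Subtype.ext (hker x x.2 hx)
      have hr : (A.subgroupOf N).map f = (f.comp (A.subgroupOf N).subtype).range := by
        rw [MonoidHom.range_comp, range_subtype]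
      rw [hr]
      exact (Nat.card_congr (MonoidHom.ofInjective hinj).toEquiv).symm
    have hcP' : Nat.card P' = p := (hinjOn P hPN (hP.symm ▸ hcopP)).trans hP
    have hcR' : Nat.card R' = Nat.card R := hinjOn R hRN hcopR
    have hsub : ∀ A B : Subgroup G, A ≤ N → A ≤ normalizer (B : Set G) →
        (A.subgroupOf N) ≤ normalizer ((B.subgroupOf N : Subgroup N) : Set N) := by
      intro A B hA hAB a ha
      rw [mem_normalizer_iff]
      intro x
      exact mem_normalizer_iff.1 (hAB ha) (x : G)
    have hmapN : ∀ A B : Subgroup G, A ≤ N → A ≤ normalizer (B : Set G) →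
        (A.subgroupOf N).map f ≤ normalizer (((B.subgroupOf N).map f : Subgroup _) : Set _) :=
      fun A B hA hAB => (map_mono (hsub A B hA hAB)).trans (le_normalizer_map f)
    have hfix' : H' ⊓ centralizer (R' : Set _) ≤ centralizer (P' : Set _) := by
      have h := CoprimeAction.map_inf_centralizer_eq f (hsub R H hRN hRH)
        (by rw [Nat.card_congr (subgroupOfEquivOfLe hRN).toEquiv,
          Nat.card_congr (subgroupOfEquivOfLe hHN).toEquiv]; exact hcopR)
        (Or.inr (solvable_of_solvable_injective
          (f := (subgroupOfEquivOfLe hHN).toMonoidHom) (subgroupOfEquivOfLe hHN).injective))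
      rw [← h]
      rintro _ ⟨x, hx, rfl⟩ _ ⟨b, hb, rfl⟩
      have hx1 : (x : G) ∈ centralizer (R : Set G) := fun r hr =>
        congrArg Subtype.val (hx.2 (⟨r, hRN hr⟩ : N) hr)
      have := hfix ⟨hx.1, hx1⟩ (b : G) hb
      rw [← map_mul, ← map_mul]
      exact congrArg f (Subtype.ext this)
    have hnc' : ¬ R' ≤ centralizer (P' : Set _) := by
      intro h
      apply hRnc
      intro r hr b hb
      have h1 := h (mem_map_of_mem f (show (⟨r, hRN hr⟩ : N) ∈ R.subgroupOf N from hr))
        (f ⟨b, hPN hb⟩) (mem_map_of_mem f hb)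
      rw [← map_mul, ← map_mul] at h1
      have h2 := QuotientGroup.eq.1 h1
      rw [mem_subgroupOf] at h2
      have h3 : (b * r)⁻¹ * (r * b) ∈ P ⊓ H := by
        refine ⟨?_, hDle (by simpa using h2)⟩
        have : (b * r)⁻¹ * (r * b) = (r⁻¹ * b⁻¹ * r) * b := by group
        rw [this]
        exact mul_mem (CoprimeAction.conj_mem' (hRP hr) (inv_mem hb)) hb
      rw [inf_eq_bot_of_coprime (hP.symm ▸ hcopP), mem_bot, inv_mul_eq_one] at h3
      exact h3
    have hab := commute_of_abelian hp hcP' (hcR' ▸ hR) (hmapN R P hRN hRP) hnc'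
      (hmapN P H hPN hPH) (hmapN R H hRN hRH)
      (hcopP.coprime_dvd_right ((card_map_dvd _ _).trans
        (by rw [Nat.card_congr (subgroupOfEquivOfLe hHN).toEquiv]))) hfix'
    refine CoprimeAction.le_centralizer_of_stabilizes
      ((hP.symm ▸ hcopP).coprime_dvd_right hdvd) (le_centralizer_iff.1 hPD) ?_
    intro a ha k hk
    have h1 := hab (mem_map_of_mem f (show (⟨a, hPN ha⟩ : N) ∈ P.subgroupOf N from ha))
      (f ⟨k, hHN hk⟩) (mem_map_of_mem f hk)
    rw [← map_mul, ← map_mul] at h1
    have h2 := QuotientGroup.eq.1 h1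
    rw [mem_subgroupOf] at h2
    have : k⁻¹ * a * k * a⁻¹ = a * ((k * a)⁻¹ * (a * k)) * a⁻¹ := by group
    rw [this]
    exact (mem_normalizer_iff.1 (hPN ha) _).1 (by simpa using h2)

end Cfsg.Agent.BG14Frob83
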