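import Cfsg.Agent.Lib.BG14Link83

/-!
Bender-Glauberman 13.11 and the basic action of a Hall κ(M)-subgroup (14.2).
-/

set_option autoImplicit false
set_option linter.style.haveILetI false

namespace Cfsg.Agent.BG14

open Subgroup
open Cfsg.Agent.HallCore
open Cfsg.Agent.BGTypeP (cj)
open Cfsg.Agent.BGSigmaPartition (conj_of_sigma_inter)
open Cfsg.Agent.BGPrime (centralizes_of_le_commutator le_centralizer_inter)
open scoped IsMulCommutative commutatorElement

universe u

variable {G : Type u} [Group G] [Finite G]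

omit [Finite G] in
/-- The commutator subgroup of a group normalizing a group of prime order centralizes it. -/
theorem commutator_le_centralizer_prime {t : ℕ} (ht : t.Prime) {E Y : Subgroup G}
    (hY : Nat.card Y = t) (hn : E ≤ normalizer (Y : Set G)) :
    ⁅E, E⁆ ≤ centralizer (Y : Set G) := by
  haveI := Fact.mk ht
  obtain ⟨y, hy, hy1⟩ := Y.bot_or_exists_ne_one.resolve_left (ne_bot_of_card ht hY)
  have hgen : ∀ z ∈ Y, ∃ n : ℤ, y ^ n = z := fun z hz => by
    have h : (⟨z, hz⟩ : Y) ∈ zpowers (⟨y, hy⟩ : Y) :=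
      mem_zpowers_of_prime_card hY (fun h => hy1 (congrArg Subtype.val h))
    obtain ⟨n, hn⟩ := mem_zpowers_iff.1 h
    exact ⟨n, congrArg Subtype.val hn⟩
  rw [commutator_le]
  intro a ha b hb z hz
  obtain ⟨k, hk⟩ := hgen _ (CoprimeAction.conj_mem (hn ha) hy)
  obtain ⟨l, hl⟩ := hgen _ (CoprimeAction.conj_mem (hn hb) hy)
  have hab : a * b * y * (a * b)⁻¹ = b * a * y * (b * a)⁻¹ := by
    calc a * b * y * (a * b)⁻¹ = a * (b * y * b⁻¹) * a⁻¹ := by group
      _ = (a * y * a⁻¹) ^ l := by rw [← hl, conj_zpow]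
      _ = (y ^ k) ^ l := by rw [hk]
      _ = (y ^ l) ^ k := by rw [← zpow_mul, mul_comm, zpow_mul]
      _ = (b * y * b⁻¹) ^ k := by rw [hl]
      _ = b * (a * y * a⁻¹) * b⁻¹ := by rw [conj_zpow, hk]
      _ = b * a * y * (b * a)⁻¹ := by group
  have hy' : Commute y ⁅a, b⁆ := by
    have hn1 : b⁻¹ * y * b ∈ Y := CoprimeAction.conj_mem' (hn hb) hy
    have hn2 : a⁻¹ * (b⁻¹ * y * b) * a ∈ Y := CoprimeAction.conj_mem' (hn ha) hn1
    obtain ⟨j, hj⟩ := hgen _ hn2
    rw [commute_iff_eq]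
    calc y * ⁅a, b⁆ = b * a * (a⁻¹ * (b⁻¹ * y * b) * a) * (b * a)⁻¹ * ⁅a, b⁆ := by group
      _ = (b * a * y * (b * a)⁻¹) ^ j * ⁅a, b⁆ := by rw [← hj, conj_zpow]
      _ = (a * b * y * (a * b)⁻¹) ^ j * ⁅a, b⁆ := by rw [hab]
      _ = a * b * (a⁻¹ * (b⁻¹ * y * b) * a) * (a * b)⁻¹ * ⁅a, b⁆ := by rw [conj_zpow, hj]
      _ = ⁅a, b⁆ * y := by rw [commutatorElement_def]; group
  obtain ⟨n, rfl⟩ := hgen z hz
  exact (hy'.zpow_left n).eq

variable (hG : Cfsg.IsMinSimpleOddOrder G) {M : Subgroup G} (hM : IsCoatom M)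

include hG hM

omit hM in
/-- If a `τ₁(H)`-element `x` moves `P ≤ H_σ`, the subgroup of order `r` in `⟨x⟩` does too. -/
theorem tau1_prime_moves {H : Subgroup G} (hH : IsCoatom H) {r i : ℕ} [hr : Fact r.Prime]
    (hrH : r ∈ Cfsg.tau1 H) {x : G} (hx : orderOf x = r ^ i) (hxH : x ∈ H) {R : Subgroup G}
    (hR : R ≤ zpowers x) (hRc : Nat.card R = r) {P : Subgroup G} (hPσ : P ≤ Cfsg.sigmaCore H)
    (hRP : R ≤ centralizer (P : Set G)) : x ∈ centralizer (P : Set G) := by
  obtain ⟨F, hF, hxF⟩ := exists_compl_ge_prime hG hH hr.out hrH.2.1 (zpowers_le.2 hxH)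
    (IsPGroup.of_card (n := i) (by rw [Nat.card_zpowers, hx]))
  obtain ⟨T, hT⟩ := ((IsPGroup.of_card (n := i) (by rw [Nat.card_zpowers, hx]) :
    IsPGroup r (zpowers x)).comap_of_injective F.subtype F.subtype_injective).exists_le_sylow
  set T' : Subgroup G := (T : Subgroup F).map F.subtype with hT'
  have hxT : x ∈ T' := ⟨⟨x, hxF (mem_zpowers x)⟩, hT (mem_zpowers x), rfl⟩
  have hTc : IsCyclic (T : Subgroup F) :=
    (((T : Subgroup F).equivMapOfInjective _ F.subtype_injective).isCyclic).2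
      (isCyclic_of_rank_one hG hrH.2.2.2.2 ((map_subtype_le _).trans hF.1) (T.isPGroup'.map _))
  obtain ⟨z, hz, hz1⟩ := R.bot_or_exists_ne_one.resolve_left (ne_bot_of_card hr.out hRc)
  have hzT : z ∈ T' := (zpowers_le.2 hxT) (hR hz)
  have hT1 : (T : Subgroup F) ≠ ⊥ := fun hb => hz1 (by
    rw [hT', hb, Subgroup.map_bot, mem_bot] at hzT
    exact hzT)
  intro y hy
  have hyz : y ∈ Cfsg.sigmaCore H ⊓ centralizer ({z} : Set G) :=
    ⟨hPσ hy, mem_centralizer_singleton_iff.2 (hRP hz y hy)⟩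
  rw [S1427.result hG H hH F hF r T hT1 hTc z hzT hz1] at hyz
  exact (hyz.2 x hxT).symm

omit hM in
theorem subgroup_solvable (hM : IsCoatom M) {E : Subgroup G} (hE : E ≤ M) : Group.IsSolvable E :=
  BGUnique.isSolvable_of_ne_top hG fun h => hM.1 (top_le_iff.1 (h ▸ hE))

theorem compl_prime {E : Subgroup G} (hE : Cfsg.IsComplIn E (Cfsg.sigmaCore M) M) {q : ℕ}
    (hq : q.Prime) (hd : q ∣ Nat.card E) : q ∉ Cfsg.sigma M ∧ q ∣ Nat.card M :=
  ⟨(compl_hall hG hM hE).2.1 q hq hd, hd.trans (card_dvd_of_le hE.1)⟩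

theorem le_hall_tau1 {E : Subgroup G} (hE : Cfsg.IsComplIn E (Cfsg.sigmaCore M) M) {R : Subgroup G}
    (hRE : R ≤ E) {r : ℕ} (hr : r ∈ Cfsg.tau1 M) (hRc : Nat.card R = r) :
    ∃ E₁ : Subgroup G, Cfsg.IsPiHallOf (Cfsg.tau1 M) E₁ E ∧ R ≤ E₁ ∧ IsCyclic E₁ := by
  obtain ⟨E₁, hE₁, hle⟩ := BGTypeP.exists_hallOf_ge (subgroup_solvable hG hM hE.1)
    (Cfsg.tau1 M) hRE (hRc ▸ piNat_prime hr.1 hr)
  exact ⟨E₁, hE₁, hle, (S1415.result hG M hM E hE).2.1 E₁ hE₁⟩

section nonregular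

variable {p : ℕ} (hp : p ∈ Cfsg.tau3 M) {E P : Subgroup G}
  (hE : Cfsg.IsComplIn E (Cfsg.sigmaCore M) M) (hPE : P ≤ E) (hPc : Nat.card P = p)
  (hC : Cfsg.sigmaCore M ⊓ centralizer (P : Set G) ≠ ⊥)

include hp hE hPE hPc hC

theorem tau13_of_dvd {q : ℕ} (hq : q.Prime) (hd : q ∣ Nat.card E) :
    q ∈ Cfsg.tau1 M ∪ Cfsg.tau3 M := by
  obtain ⟨h1, h2⟩ := compl_prime hG hM hE hq hd
  exact (tau_cases hG hM hq h1 h2).resolve_right
    (tau2_empty hG hM hp (hPE.trans hE.1) hPc hC q)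

/-- In the nonregular `τ₃` case the complement centralizes `C_{M_σ}(P)`. -/
theorem tau3_centralizes :
    E ≤ centralizer ((Cfsg.sigmaCore M ⊓ centralizer (P : Set G) : Subgroup G) : Set G) := by
  haveI := Fact.mk hp.1
  have hPM := hPE.trans hE.1
  have hEs := subgroup_solvable hG hM hE.1
  have hEP := tau3_normal hG hM hp hE hPE hPc
  obtain ⟨H, hH, hN⟩ := exists_coatom_normalizer hG hp.1 hPc
  have hne := not_cj_of_normalizer_le hG hH (Or.inr hp) hPc hN
  have hpH := mem_sigma_of_fixed hG hM (Or.inr hp) hPM hPc hC hH hN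
  have hPσ : P ≤ Cfsg.sigmaCore H :=
    le_sigmaCore_of_pgroup hG hH hpH (le_normalizer.trans hN) (isPGroup_of_card hPc)
  have hEH : E ≤ H := hEP.trans hN
  set C : Subgroup G := Cfsg.sigmaCore M ⊓ centralizer (P : Set G) with hCdef
  have hCH : C ≤ H := inf_le_right.trans ((centralizer_le_normalizer _).trans hN)
  have hCle : C ≤ Cfsg.sigmaCore M ⊓ H := le_inf inf_le_left hCH
  have hEC : E ≤ normalizer (C : Set G) :=
    CoprimeAction.le_normalizer_inf (hE.1.trans (BGFinal72.le_normalizer_sigmaCore M))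
      (hEP.trans (BGRankTwo.normalizer_le_normalizer_centralizer P))
  have hcop : (Nat.card E).Coprime (Nat.card C) :=
    ((PiNat.coprime (BGTypeP.piNat_sigmaCore M)
      (BGTypeP.hallOf_iff.1 (compl_hall hG hM hE)).2.1).coprime_dvd_left
      (card_dvd_of_le inf_le_left)).symm
  -- subgroups of prime order suffice
  suffices hR : ∀ (r : ℕ) (R : Subgroup G), r.Prime → R ≤ E → Nat.card R = r →
      R ≤ centralizer (C : Set G) by
    refine BGRankTwo.le_of_sylow_le fun q hq x hx ⟨i, hi⟩ => ?_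
    haveI := Fact.mk hq
    rcases Nat.eq_zero_or_pos i with h0 | h0
    · rw [h0, pow_zero, orderOf_eq_one_iff] at hi
      simp [hi]
    have hxp : IsPGroup q (zpowers x) := IsPGroup.of_card (n := i) (by rw [Nat.card_zpowers, hi])
    have hqd : q ∣ Nat.card (zpowers x) := by
      rw [Nat.card_zpowers, hi]; exact dvd_pow_self q h0.ne'
    obtain ⟨R, hRx, hRc⟩ := exists_prime_subgroup_of_dvd hq hqd
    have hRE : R ≤ E := hRx.trans (zpowers_le.2 hx)
    obtain ⟨T, hT⟩ := (hxp.comap_of_injective E.subtype E.subtype_injective).exists_le_sylow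
    set T' : Subgroup G := (T : Subgroup E).map E.subtype with hT'
    have hxT : x ∈ T' := ⟨⟨x, hx⟩, hT (mem_zpowers x), rfl⟩
    have hTc : IsCyclic (T : Subgroup E) :=
      (((T : Subgroup E).equivMapOfInjective _ E.subtype_injective).isCyclic).2
        (isCyclic_of_rank_one hG (tau13_iff.1 (tau13_of_dvd hG hM hp hE hPE hPc hC hq
          (hqd.trans (card_dvd_of_le (zpowers_le.2 hx))))).2.2.2
          ((map_subtype_le _).trans hE.1) (T.isPGroup'.map _))
    obtain ⟨z, hz, hz1⟩ := R.bot_or_exists_ne_one.resolve_left (ne_bot_of_card hq hRc)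
    have hzT : z ∈ T' := (zpowers_le.2 hxT) (hRx hz)
    have hT1 : (T : Subgroup E) ≠ ⊥ := fun hb => hz1 (by
      rw [hT', hb, Subgroup.map_bot, mem_bot] at hzT
      exact hzT)
    intro y hy
    have hyz : y ∈ Cfsg.sigmaCore M ⊓ centralizer ({z} : Set G) :=
      ⟨hy.1, mem_centralizer_singleton_iff.2 (hR q R hq hRE hRc hz y hy)⟩
    rw [S1427.result hG M hM E hE q T hT1 hTc z hzT hz1] at hyz
    exact (hyz.2 x hxT).symm
  intro r R hr hRE hRc
  haveI := Fact.mk hr
  obtain ⟨hrσ, -⟩ := compl_prime hG hM hE hr (hRc ▸ card_dvd_of_le hRE)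
  have hRMH : R ≤ M ⊓ H := le_inf (hRE.trans hE.1) (hRE.trans hEH)
  -- subgroups inside `H'` are handled by 13.1
  have hder : ∀ (r : ℕ) (R : Subgroup G), r.Prime → R ≤ E → Nat.card R = r →
      (r ∈ Cfsg.sigma H ∨ r ∈ Cfsg.tau3 H) → R ≤ centralizer (C : Set G) := by
    intro r R hr hRE hRc h
    haveI := Fact.mk hr
    have hd : R ≤ ⁅H, H⁆ := by
      rcases h with h | h
      · exact le_derived_of_sigma hG hH
          (le_sigmaCore_of_pgroup hG hH h (hRE.trans hEH) (isPGroup_of_card hRc))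
      · exact le_derived_of_tau3 hG hH h (hRE.trans hEH) hRc
    exact (centralizes_of_le_commutator hG hH hM hne
      (compl_prime hG hM hE hr (hRc ▸ card_dvd_of_le hRE)).1 (isPGroup_of_card hRc)
      (le_inf (hRE.trans hE.1) (hRE.trans hEH)) hd).trans (centralizer_le hCle)
  suffices hsyl : ∀ (t : ℕ) (S : Sylow t C),
      E ≤ normalizer ((S : Subgroup C).map C.subtype : Set G) → t.Prime →
      R ≤ centralizer ((S : Subgroup C).map C.subtype : Set G) by
    refine le_centralizer_iff.1 (BGUnique.le_of_qgroups fun t ht => ?_)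
    haveI := Fact.mk ht
    obtain ⟨S, hS⟩ := CoprimeAction.exists_invariant_sylow hEC hcop (Or.inl hEs) t
    exact ⟨_, map_subtype_le _, le_centralizer_iff.1 (hsyl t S hS ht),
      (CoprimeAction.card_map_sylow S)⟩
  intro t S hS ht
  haveI := Fact.mk ht
  set S' : Subgroup G := (S : Subgroup C).map C.subtype with hS'
  have hS'C : S' ≤ C := map_subtype_le _
  by_cases hS0 : S' = ⊥
  · rw [hS0]
    intro x _ y hy
    simp only [SetLike.mem_coe, mem_bot] at hy
    simp [hy]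
  have hS'p : IsPGroup t S' := S.isPGroup'.map _
  obtain ⟨Y, hYS, hYc⟩ :=
    exists_prime_subgroup_of_dvd ht (BGUnique.dvd_card_of_ne_bot hS'p hS0)
  have hYC : Y ≤ C := hYS.trans hS'C
  have hYH : Y ≤ H := hYC.trans hCH
  have htM : t ∈ Cfsg.sigma M := mem_sigma_of_le ht (hYC.trans inf_le_left) hYc
  have htH : t ∉ Cfsg.sigma H := not_sigma_of_sigma hG hM hH hne htM
  have hPY : Cfsg.sigmaCore H ⊓ centralizer (Y : Set G) ≠ ⊥ := fun h =>
    ne_bot_of_card hp.1 hPc (eq_bot_iff.2 (h ▸ le_inf hPσ (le_centralizer_iff.1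
      (hYC.trans inf_le_right))))
  have ht13 : t ∈ Cfsg.tau1 H ∪ Cfsg.tau3 H := by
    rcases tau_cases hG hH ht htH (hYc ▸ card_dvd_of_le hYH) with h | h
    · exact h
    · have hu := (cent_prime_unique hG hM (Or.inr hp) hPM hPc ht hYC hYc).1
      exact absurd ((tau2_cent_unique hG hH h hYH hYc hPY).2 M hM hu) (ne_of_not_cj hne).symm
  have hS'cyc : IsCyclic S' := isCyclic_of_rank_one hG (tau13_iff.1 ht13).2.2.2
    (hS'C.trans hCH) hS'p
  have hEY : E ≤ normalizer (Y : Set G) := by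
    refine CoprimeAction.le_normalizer_of_conj_mem fun e he y hy => ?_
    rw [← isPGroup_eq_of_order_prime (p := t) hS'cyc
      ((BGTypeP.cj_mono e hYS).trans_eq (BGTypeP.cj_eq_self (hS he))) hYS
      (by rw [BGTypeP.card_cj, hYc]) hYc]
    exact BGTypeP.conj_mem_cj.2 hy
  suffices hRY : R ≤ centralizer (Y : Set G) by
    haveI := hS'cyc
    refine CoprimeAction.le_centralizer_of_prime_order_fixed (A := R) (V := S')
      (hRE.trans hS) ?_ fun v hv hvp a ha => ?_
    · exact (hcop.coprime_dvd_left (card_dvd_of_le hRE)).coprime_dvd_right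
        (card_dvd_of_le hS'C)
    · have hvt : orderOf v = t := by
        obtain ⟨n, hn⟩ := IsPGroup.iff_orderOf.1 hS'p ⟨v, hv⟩
        rw [orderOf_mk] at hn
        rw [hn] at hvp ⊢
        rcases Nat.eq_zero_or_pos n with h0 | h0
        · simp [h0, Nat.not_prime_one] at hvp
        · exact ((Nat.prime_dvd_prime_iff_eq ht hvp).1 (dvd_pow_self t h0.ne')).symm
      have hvY : zpowers v = Y := isPGroup_eq_of_order_prime (p := t) hS'cyc
        (zpowers_le.2 hv) hYS (by rw [Nat.card_zpowers, hvt]) hYc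
      exact (hRY ha v (hvY ▸ mem_zpowers v)).symm
  rcases ht13 with ht1 | ht3
  · -- `[Y, R] ≤ H'` has order prime to `t`
    by_contra hYR
    refine ht1.2.2.2.1 ?_
    have hne' : ⁅Y, R⁆ ≠ ⊥ := fun hb => hYR
      (le_centralizer_iff.1 (commutator_eq_bot_iff_le_centralizer.1 hb))
    have hle' : ⁅Y, R⁆ ≤ Y :=
      CoprimeAction.commutator_le_self_of_le_normalizer (hRE.trans hEY)
    have heq : ⁅Y, R⁆ = Y := by
      refine eq_of_le_of_card_ge hle' ?_
      rw [hYc]
      exact ((Nat.dvd_prime ht).1 (hYc ▸ card_dvd_of_le hle')).elim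
        (fun h1 => absurd ((card_eq_one).1 h1) hne') (fun h1 => h1.ge)
    rw [← hYc]
    exact card_dvd_of_le (heq ▸ commutator_mono hYH (hRE.trans hEH))
  -- both `t` and the primes of `E` are now exceptional on both sides
  have hno2 : ∀ q, q ∉ Cfsg.tau2 H := tau2_empty hG hH ht3 hYH hYc hPY
  have hH1 : ∀ (r : ℕ) (R : Subgroup G), r.Prime → R ≤ E → Nat.card R = r →
      R ≤ centralizer (C : Set G) ∨ r ∈ Cfsg.tau1 H := by
    intro r R hr hRE hRc
    by_cases hs : r ∈ Cfsg.sigma H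
    · exact Or.inl (hder r R hr hRE hRc (Or.inl hs))
    rcases tau_cases hG hH hr hs (hRc ▸ card_dvd_of_le (hRE.trans hEH)) with (h | h) | h
    · exact Or.inr h
    · exact Or.inl (hder r R hr hRE hRc (Or.inr h))
    · exact absurd h (hno2 r)
  rcases tau13_of_dvd hG hM hp hE hPE hPc hC hr (hRc ▸ card_dvd_of_le hRE) with hr1 | hr3
  swap
  · obtain ⟨E₃, hE₃, hle⟩ := BGTypeP.exists_hallOf_ge hEs (Cfsg.tau3 M) hRE
      (hRc ▸ piNat_prime hr hr3)
    exact (hle.trans ((S1415.result hG M hM E hE).2.2 E₃ hE₃).2.1).trans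
      (commutator_le_centralizer_prime ht hYc hEY)
  -- an element of `E` moving `P`
  obtain ⟨E₃, hE₃⟩ := BGTypeP.exists_hallOf hEs (Cfsg.tau3 M)
  obtain ⟨hc3, h3le, hn3⟩ := (S1415.result hG M hM E hE).2.2 E₃ hE₃
  have hP3 : P ≤ E₃ := BGTypeP.le_of_normal_hall hE₃ hn3 hPE (hPc ▸ piNat_prime hp.1 hp)
  obtain ⟨q, hq, hqp, x, hxE, ⟨i, hi⟩, hxP⟩ := exists_moving_element hG hp.1 hEs
    (BGRankTwo.pRankLE_mono hE.1 hp.2.2.2) (hP3.trans h3le) hPc hEP
  haveI := Fact.mk hq
  have hi0 : i ≠ 0 := fun h0 => hxP (by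
    rw [h0, pow_zero, orderOf_eq_one_iff] at hi
    simp [hi])
  have hqd : q ∣ Nat.card (zpowers x) := by rw [Nat.card_zpowers, hi]; exact dvd_pow_self q hi0
  obtain ⟨R₁, hR₁x, hR₁c⟩ := exists_prime_subgroup_of_dvd hq hqd
  have hR₁E : R₁ ≤ E := hR₁x.trans (zpowers_le.2 hxE)
  have hq1 : q ∈ Cfsg.tau1 M := by
    rcases tau13_of_dvd hG hM hp hE hPE hPc hC hq (hR₁c ▸ card_dvd_of_le hR₁E) with h | h
    · exact h
    · haveI := hc3
      have hx3 : x ∈ E₃ := BGTypeP.mem_of_normal_hall hE₃ hn3 hxE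
        (by rw [hi]; exact (piNat_prime hq h).pow i)
      exact absurd (fun y hy => PGroupsBasic.comm_of_isMulCommutative
        (inferInstance : IsMulCommutative E₃) (hP3 hy) hx3) hxP
  have hR₁Y : R₁ ≤ centralizer (Y : Set G) := by
    rcases hH1 q R₁ hq hR₁E hR₁c with h | h
    · exact h.trans (centralizer_le hYC)
    by_contra hR₁Y
    by_cases hR₁P : R₁ ≤ centralizer (P : Set G)
    · exact hxP (tau1_prime_moves hG hH h hi (hEH hxE) hR₁x hR₁c hPσ hR₁P)
    · exact tau3_asymmetry hG hM hp hE hPE hPc hH hN hpH hq1 h hR₁E hR₁c ht3 hYC hYc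
        (hR₁E.trans hEY) hR₁Y hR₁P
  -- move `R` next to `R₁`
  obtain ⟨E₁, hE₁, hR₁1, hcyc⟩ := le_hall_tau1 hG hM hE hR₁E hq1 hR₁c
  haveI := hcyc
  obtain ⟨e, he, hle⟩ := BGTypeP.le_conj_hallOf hEs hE₁ hRE (hRc ▸ piNat_prime hr hr1)
  have hR' : cj e⁻¹ R ≤ E₁ := BGTypeP.le_cj_iff.2 hle
  have hcomm : cj e⁻¹ R ≤ centralizer (R₁ : Set G) := fun a ha b hb =>
    PGroupsBasic.comm_of_isMulCommutative (inferInstance : IsMulCommutative E₁) (hR₁1 hb) (hR' ha)
  have h28 := S1428.result hG M hM E hE q hq1 R₁ hR₁E hR₁c (cj e⁻¹ R)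
    (le_inf (hR'.trans hE₁.1) hcomm) (by rw [BGTypeP.card_cj, hRc]; exact hr)
  have hY' : cj e⁻¹ R ≤ centralizer (Y : Set G) :=
    le_centralizer_iff.1 (((le_inf (hYC.trans inf_le_left) (le_centralizer_iff.1 hR₁Y)).trans
      h28).trans inf_le_right)
  intro a ha y hy
  have h1 := hY' (BGTypeP.conj_mem_cj.2 ha) (e⁻¹ * y * e)
    (CoprimeAction.conj_mem' (hEY he) hy)
  rw [inv_inv] at h1
  calc y * a = e * (e⁻¹ * y * e * (e⁻¹ * a * e)) * e⁻¹ := by group
    _ = e * (e⁻¹ * a * e * (e⁻¹ * y * e)) * e⁻¹ := by rw [h1]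
    _ = a * y := by group

theorem kappa_of_dvd {q : ℕ} (hq : q.Prime) (hd : q ∣ Nat.card E) : q ∈ Cfsg.kappa M := by
  obtain ⟨Q, hQ, hQc⟩ := exists_prime_subgroup_of_dvd hq hd
  refine mem_kappa hG (tau13_of_dvd hG hM hp hE hPE hPc hC hq hd) (hQ.trans hE.1) hQc
    fun h => hC (eq_bot_iff.2 (h ▸ le_inf inf_le_left ?_))
  exact le_centralizer_iff.1 (hQ.trans (tau3_centralizes hG hM hp hE hPE hPc hC))

/-- Subgroups of prime order of `E` centralize `P`. -/
theorem prime_centralizes {r : ℕ} (hr : r.Prime) {R : Subgroup G} (hRE : R ≤ E)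
    (hRc : Nat.card R = r) : R ≤ centralizer (P : Set G) := by
  haveI := Fact.mk hp.1
  haveI := Fact.mk hr
  have hPM := hPE.trans hE.1
  have hEP := tau3_normal hG hM hp hE hPE hPc
  have hEC := tau3_centralizes hG hM hp hE hPE hPc hC
  by_cases hrp : r = p
  · subst hrp
    obtain ⟨S, hS, hPS⟩ := BGUnique.exists_isMaxP_ge (isPGroup_of_card hPc) hPE
    obtain ⟨e, he, hle⟩ := BGSigma.exists_conj_maxP hS hRE (isPGroup_of_card hRc)
    have h1 : cj e R = P := isPGroup_eq_of_order_prime (p := r)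
      (isCyclic_of_rank_one hG hp.2.2.2 (hS.le.trans hE.1) hS.isPGroup) hle hPS
      (by rw [BGTypeP.card_cj, hRc]) hPc
    have h2 : R = P := by
      rw [← BGTypeP.cj_inv_cj e R, h1, BGTypeP.cj_eq_self (hEP (inv_mem he))]
    rw [h2]
    exact PGroupsBasic.le_centralizer_of_isMulCommutative
      (PGroupsBasic.isElementaryAbelian_of_card_eq_prime hPc).1
  rcases tau13_of_dvd hG hM hp hE hPE hPc hC hr (hRc ▸ card_dvd_of_le hRE) with hr1 | hr3
  swap
  · have hdis : R ⊓ P = ⊥ := inf_eq_bot_of_coprime (by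
      rw [hRc, hPc]; exact (Nat.coprime_primes hr hp.1).2 hrp)
    exact BGTypeP.le_centralizer_of_normalizes (hRE.trans hEP)
      (hPE.trans (tau3_normal hG hM hr3 hE hRE hRc)) hdis
  obtain ⟨H, hH, hN⟩ := exists_coatom_normalizer hG hp.1 hPc
  have hne := not_cj_of_normalizer_le hG hH (Or.inr hp) hPc hN
  have hpH := mem_sigma_of_fixed hG hM (Or.inr hp) hPM hPc hC hH hN
  have hPσ : P ≤ Cfsg.sigmaCore H :=
    le_sigmaCore_of_pgroup hG hH hpH (le_normalizer.trans hN) (isPGroup_of_card hPc)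
  have hEH : E ≤ H := hEP.trans hN
  set C : Subgroup G := Cfsg.sigmaCore M ⊓ centralizer (P : Set G) with hCdef
  have hRC : R ≤ centralizer (C : Set G) := hRE.trans hEC
  by_cases hrH : r ∈ Cfsg.sigma H
  · by_contra hRP
    obtain ⟨L, hL, hNR⟩ := exists_coatom_normalizer hG hr hRc
    have hCR : Cfsg.sigmaCore M ⊓ centralizer (R : Set G) ≠ ⊥ := fun h =>
      hC (eq_bot_iff.2 (h ▸ le_inf inf_le_left (le_centralizer_iff.1 hRC)))
    have hrL := mem_sigma_of_fixed hG hM (Or.inl hr1) (hRE.trans hE.1) hRc hCR hL hNR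
    obtain ⟨g, hg⟩ := conj_of_sigma_inter hG hH hL hrH hrL
    have hLH : L = H := eq_of_conj_of_centralizer_le hG hH hrH (hRE.trans hEH)
      (isPGroup_of_card hRc) (ne_bot_of_card hr hRc) hg (le_normalizer.trans hNR)
      ((centralizer_le_normalizer _).trans hNR)
    have hfix : Cfsg.sigmaCore M ⊓ centralizer (R : Set G) ≤ centralizer (P : Set G) :=
      (le_inf inf_le_left (inf_le_right.trans
        ((centralizer_le_normalizer _).trans (hNR.trans_eq hLH)))).trans
        (le_centralizer_iff.1 (le_centralizer_inter hG hM hH (Or.inr hp) hPM hPc hN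
          (isPGroup_of_card hPc) (le_inf hPM (le_normalizer.trans hN))))
    haveI : Group.IsSolvable (Cfsg.sigmaCore M) :=
      subgroup_solvable hG hM (BGFinal72.sigmaCore_le M)
    have hco : ∀ Q : Subgroup G, Q ≤ E → (Nat.card Q).Coprime (Nat.card (Cfsg.sigmaCore M)) :=
      fun Q hQ => ((PiNat.coprime (BGTypeP.piNat_sigmaCore M)
        (BGTypeP.hallOf_iff.1 (compl_hall hG hM hE)).2.1).symm).coprime_dvd_left
        (card_dvd_of_le hQ)
    have hPcen := BG14Frob83.le_centralizer_of_fixed hp.1 hPc (hRc ▸ hr) (hRE.trans hEP) hRP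
      (hPM.trans (BGFinal72.le_normalizer_sigmaCore M))
      ((hRE.trans hE.1).trans (BGFinal72.le_normalizer_sigmaCore M))
      (hPc ▸ hco P hPE) (hco R hRE) hfix
    have hMH : M ≤ H := fun m hm => by
      obtain ⟨a, ha, b, hb, rfl⟩ := hE.2.2.2 m hm
      exact mul_mem (hEH ha)
        (((centralizer_le_normalizer _).trans hN) (le_centralizer_iff.1 hPcen hb))
    exact hH.1 (hM.2 H (lt_of_le_of_ne hMH (ne_of_not_cj hne).symm))
  -- `R` and a subgroup `Y ≤ C` lie in a complement of `H`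
  obtain ⟨t, Y, ht, hYC, hYc⟩ := exists_prime_subgroup hC
  haveI := Fact.mk ht
  have hYH : Y ≤ H := hYC.trans (inf_le_right.trans ((centralizer_le_normalizer _).trans hN))
  have htM : t ∈ Cfsg.sigma M := mem_sigma_of_le ht (hYC.trans inf_le_left) hYc
  have htH : t ∉ Cfsg.sigma H := not_sigma_of_sigma hG hM hH hne htM
  have hrt : t ≠ r := fun h => (compl_prime hG hM hE hr (hRc ▸ card_dvd_of_le hRE)).1 (h ▸ htM)
  have hRY : R ≤ centralizer (Y : Set G) := hRC.trans (centralizer_le hYC)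
  obtain ⟨Z, hZc, hYZ, hRZ, hZle⟩ := exists_cyclic_sup ht hr hrt hYc hRc hRY
  obtain ⟨F, hF, hZF⟩ := exists_compl_ge hG hH (hZle.trans (sup_le hYH (hRE.trans hEH)))
    (hZc ▸ (piNat_prime ht htH).mul (piNat_prime hr hrH))
  have hPY : P ≤ Cfsg.sigmaCore H ⊓ centralizer (Y : Set G) :=
    le_inf hPσ (le_centralizer_iff.1 (hYC.trans inf_le_right))
  have hPY1 : Cfsg.sigmaCore H ⊓ centralizer (Y : Set G) ≠ ⊥ := fun h =>
    ne_bot_of_card hp.1 hPc (eq_bot_iff.2 (h ▸ hPY))
  rcases tau_cases hG hH ht htH (hYc ▸ card_dvd_of_le hYH) with (h | h) | h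
  · exact le_centralizer_iff.1 ((hPY.trans (S1428.result hG H hH F hF t h Y (hYZ.trans hZF) hYc R
      (le_inf (hRZ.trans hZF) hRY) (hRc ▸ hr))).trans inf_le_right)
  · exact (hRZ.trans hZF).trans
      ((tau3_centralizes hG hH h hF (hYZ.trans hZF) hYc hPY1).trans (centralizer_le hPY))
  · exact absurd ((tau2_cent_unique hG hH h hYH hYc hPY1).2 M hM
      (cent_prime_unique hG hM (Or.inr hp) hPM hPc ht hYC hYc).1) (ne_of_not_cj hne).symm

/-- All subgroups of prime order of `E` have the same fixed points on `M_σ`. -/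
theorem prime_fixed_eq {r : ℕ} (hr : r.Prime) {R : Subgroup G} (hRE : R ≤ E)
    (hRc : Nat.card R = r) :
    Cfsg.sigmaCore M ⊓ centralizer (R : Set G) = Cfsg.sigmaCore M ⊓ centralizer (P : Set G) := by
  haveI := Fact.mk hr
  have hCR : Cfsg.sigmaCore M ⊓ centralizer (P : Set G) ≤
      Cfsg.sigmaCore M ⊓ centralizer (R : Set G) :=
    le_inf inf_le_left (le_centralizer_iff.1
      (hRE.trans (tau3_centralizes hG hM hp hE hPE hPc hC)))
  refine le_antisymm ?_ hCR
  have hRP := prime_centralizes hG hM hp hE hPE hPc hC hr hRE hRc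
  rcases tau13_of_dvd hG hM hp hE hPE hPc hC hr (hRc ▸ card_dvd_of_le hRE) with h | h
  · exact S1428.result hG M hM E hE r h R hRE hRc P (le_inf hPE (le_centralizer_iff.1 hRP))
      (hPc ▸ hp.1)
  · exact le_inf inf_le_left (le_centralizer_iff.1 (hPE.trans
      (tau3_centralizes hG hM h hE hRE hRc (fun hb => hC (eq_bot_iff.2 (hb ▸ hCR))))))

/-- Subgroups of prime order of `E` are normal in `E`. -/
theorem prime_normal {r : ℕ} (hr : r.Prime) {R : Subgroup G} (hRE : R ≤ E)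
    (hRc : Nat.card R = r) : E ≤ normalizer (R : Set G) := by
  haveI := Fact.mk hr
  rcases tau13_of_dvd hG hM hp hE hPE hPc hC hr (hRc ▸ card_dvd_of_le hRE) with h1 | h3
  swap
  · exact tau3_normal hG hM h3 hE hRE hRc
  have hEs := subgroup_solvable hG hM hE.1
  obtain ⟨E₁, hE₁, hR1, hcyc⟩ := le_hall_tau1 hG hM hE hRE h1 hRc
  obtain ⟨E₃, hE₃⟩ := BGTypeP.exists_hallOf hEs (Cfsg.tau3 M)
  obtain ⟨hc3, -, hn3⟩ := (S1415.result hG M hM E hE).2.2 E₃ hE₃
  haveI := hcyc
  haveI := hc3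
  haveI : IsMulCommutative E₃ := inferInstance
  have h1' : E₁ ≤ normalizer (R : Set G) := fun a ha => centralizer_le_normalizer _
    fun b hb => PGroupsBasic.comm_of_isMulCommutative (inferInstance : IsMulCommutative E₁)
      (hR1 hb) ha
  have hR3 : R ≤ centralizer (E₃ : Set G) := by
    refine CoprimeAction.le_centralizer_of_prime_order_fixed (hRE.trans hn3) ?_
      fun v hv hvp a ha => ?_
    · rw [hRc]
      refine (Nat.Prime.coprime_iff_not_dvd hr).2 fun hd => ?_
      exact (hE₃.2.1 r hr hd).2.2.1 |> fun hd' => h1.2.2.2.1 hd'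
    · have hvE : zpowers v ≤ E := (zpowers_le.2 hv).trans hE₃.1
      have hv3 : orderOf v ∈ Cfsg.tau3 M :=
        hE₃.2.1 _ hvp (E₃.orderOf_dvd_natCard hv)
      have hne : Cfsg.sigmaCore M ⊓ centralizer (zpowers v : Set G) ≠ ⊥ := fun hb =>
        hC (eq_bot_iff.2 (hb ▸ le_inf inf_le_left (le_centralizer_iff.1
          (hvE.trans (tau3_centralizes hG hM hp hE hPE hPc hC)))))
      exact (prime_centralizes hG hM hv3 hE hvE (Nat.card_zpowers v) hne hr hRE hRc ha v
        (mem_zpowers v)).symm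
  have h3' : E₃ ≤ normalizer (R : Set G) :=
    (le_centralizer_iff.1 hR3).trans (centralizer_le_normalizer _)
  -- `E` is generated by its `τ₁` and `τ₃` Hall subgroups
  have hN : (E ⊓ normalizer (R : Set G)).relIndex E = 1 := by
    by_contra hne
    obtain ⟨q, hq, hd⟩ := Nat.exists_prime_and_dvd hne
    rcases tau13_of_dvd hG hM hp hE hPE hPc hC hq (hd.trans (relIndex_dvd_card _ _)) with h | h
    · exact hE₁.2.2 q hq h (hd.trans (relIndex_dvd_of_le_left E (le_inf hE₁.1 h1')))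
    · exact hE₃.2.2 q hq h (hd.trans (relIndex_dvd_of_le_left E (le_inf hE₃.1 h3')))
  exact (relIndex_eq_one.1 hN).trans inf_le_right

end nonregular

/-- Either `κ(M) ⊆ τ₁(M)` or some `τ₃`-prime is in `κ(M)`. -/
theorem kappa_cases : (∀ p ∈ Cfsg.kappa M, p ∈ Cfsg.tau1 M) ∨
    ∃ p ∈ Cfsg.tau3 M, p ∈ Cfsg.kappa M := by
  by_cases h : ∃ p ∈ Cfsg.tau3 M, p ∈ Cfsg.kappa M
  · exact Or.inr h
  · exact Or.inl fun p hp => (exists_of_kappa hp).1.resolve_right fun h3 => h ⟨p, h3, hp⟩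

/-- The Hall κ(M)-subgroup `K` inside a complement: prime action and its normalizers. -/
theorem hall_kappa_action {K E : Subgroup G} (hK : Cfsg.IsPiHallOf (Cfsg.kappa M) K M)
    (hK1 : K ≠ ⊥) (hE : Cfsg.IsComplIn E (Cfsg.sigmaCore M) M) (hKE : K ≤ E) :
    Cfsg.sigmaCore M ⊓ centralizer (K : Set G) ≠ ⊥ ∧
      (∀ (r : ℕ) (X : Subgroup G), r.Prime → X ≤ K → Nat.card X = r →
        Cfsg.sigmaCore M ⊓ centralizer (X : Set G) = Cfsg.sigmaCore M ⊓ centralizer (K : Set G) ∧
        E ⊓ normalizer (X : Set G) = K) ∧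
      E ⊓ normalizer (K : Set G) = K := by
  have hEs := subgroup_solvable hG hM hE.1
  obtain ⟨q, X₀, hq, hX₀, hX₀c⟩ := exists_prime_subgroup hK1
  have hqk : q ∈ Cfsg.kappa M := hK.2.1 q hq (hX₀c ▸ card_dvd_of_le hX₀)
  rcases kappa_cases hG hM with hA | ⟨p, hp, hpk⟩
  · -- `κ(M) ⊆ τ₁(M)`, so `K` is cyclic
    obtain ⟨E₁, hE₁, hle⟩ := BGTypeP.exists_hallOf_ge hEs (Cfsg.tau1 M) hKE
      (PiNat.mono hK.2.1 hA)
    haveI := (S1415.result hG M hM E hE).2.1 E₁ hE₁
    haveI hKc : IsCyclic K := isCyclic_of_injective (inclusion hle) (inclusion_injective hle)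
    haveI : IsMulCommutative K := inferInstance
    have hKK : ∀ Y : Subgroup G, Y ≤ K → K ≤ centralizer (Y : Set G) := fun Y hY a ha b hb =>
      PGroupsBasic.comm_of_isMulCommutative (inferInstance : IsMulCommutative K) (hY hb) ha
    have heq : ∀ (r : ℕ) (X : Subgroup G), r.Prime → X ≤ K → Nat.card X = r →
        Cfsg.sigmaCore M ⊓ centralizer (X : Set G) =
          Cfsg.sigmaCore M ⊓ centralizer (X₀ : Set G) := by
      intro r X hr hX hXc
      have hrk : r ∈ Cfsg.kappa M := hK.2.1 r hr (hXc ▸ card_dvd_of_le hX)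
      refine le_antisymm ?_ ?_
      · exact S1428.result hG M hM E hE r (hA r hrk) X (hX.trans hKE) hXc X₀
          (le_inf (hX₀.trans hKE) (hX₀.trans (hKK X hX))) (hX₀c ▸ hq)
      · exact S1428.result hG M hM E hE q (hA q hqk) X₀ (hX₀.trans hKE) hX₀c X
          (le_inf (hX.trans hKE) (hX.trans (hKK X₀ hX₀))) (hXc ▸ hr)
    -- `K` centralizes the common fixed points
    have hKC : K ≤ centralizer
        ((Cfsg.sigmaCore M ⊓ centralizer (X₀ : Set G) : Subgroup G) : Set G) := by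
      refine BGRankTwo.le_of_sylow_le fun s hs x hx ⟨i, hi⟩ => ?_
      haveI := Fact.mk hs
      rcases Nat.eq_zero_or_pos i with h0 | h0
      · rw [h0, pow_zero, orderOf_eq_one_iff] at hi
        simp [hi]
      have hxp : IsPGroup s (zpowers x) := IsPGroup.of_card (n := i) (by rw [Nat.card_zpowers, hi])
      have hsd : s ∣ Nat.card (zpowers x) := by
        rw [Nat.card_zpowers, hi]; exact dvd_pow_self s h0.ne'
      obtain ⟨X, hXx, hXc⟩ := exists_prime_subgroup_of_dvd hs hsd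
      have hxE : x ∈ E := hKE hx
      obtain ⟨T, hT⟩ := (hxp.comap_of_injective E.subtype E.subtype_injective).exists_le_sylow
      set T' : Subgroup G := (T : Subgroup E).map E.subtype with hT'
      have hxT : x ∈ T' := ⟨⟨x, hxE⟩, hT (mem_zpowers x), rfl⟩
      have hTc : IsCyclic (T : Subgroup E) :=
        (((T : Subgroup E).equivMapOfInjective _ E.subtype_injective).isCyclic).2
          (isCyclic_of_rank_one hG (hA s (hK.2.1 s hs
            (hsd.trans (card_dvd_of_le (zpowers_le.2 hx))))).2.2.2.2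
            ((map_subtype_le _).trans hE.1) (T.isPGroup'.map _))
      obtain ⟨z, hz, hz1⟩ := X.bot_or_exists_ne_one.resolve_left (ne_bot_of_card hs hXc)
      have hzT : z ∈ T' := (zpowers_le.2 hxT) (hXx hz)
      have hT1 : (T : Subgroup E) ≠ ⊥ := fun hb => hz1 (by
        rw [hT', hb, Subgroup.map_bot, mem_bot] at hzT
        exact hzT)
      intro y hy
      rw [← heq s X hs (hXx.trans (zpowers_le.2 hx)) hXc] at hy
      have hyz : y ∈ Cfsg.sigmaCore M ⊓ centralizer ({z} : Set G) :=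
        ⟨hy.1, mem_centralizer_singleton_iff.2 (hy.2 z hz).symm⟩
      rw [S1427.result hG M hM E hE s T hT1 hTc z hzT hz1] at hyz
      exact (hyz.2 x hxT).symm
    have hstar : Cfsg.sigmaCore M ⊓ centralizer (K : Set G) =
        Cfsg.sigmaCore M ⊓ centralizer (X₀ : Set G) :=
      le_antisymm (inf_le_inf_left _ (centralizer_le hX₀))
        (le_inf inf_le_left (le_centralizer_iff.1 hKC))
    have hne : Cfsg.sigmaCore M ⊓ centralizer (X₀ : Set G) ≠ ⊥ :=
      fixed_ne_bot_of_kappa hG hqk (hX₀.trans hK.1) hX₀c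
    have hnorm : ∀ (r : ℕ) (X : Subgroup G), r.Prime → X ≤ K → Nat.card X = r →
        E ⊓ normalizer (X : Set G) = K := by
      intro r X hr hX hXc
      haveI := Fact.mk hr
      have hrk : r ∈ Cfsg.kappa M := hK.2.1 r hr (hXc ▸ card_dvd_of_le hX)
      have hr1 := hA r hrk
      have hKle : K ≤ E ⊓ normalizer (X : Set G) :=
        le_inf hKE ((hKK X hX).trans (centralizer_le_normalizer _))
      -- `N_E(X) = C_E(X)`
      have hNC : E ⊓ normalizer (X : Set G) ≤ centralizer (X : Set G) := by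
        intro e he x hx
        have h1 : ⁅x, e⁆ ∈ X ⊓ ⁅M, M⁆ := by
          refine ⟨?_, commutator_mem_commutator (hK.1 (hX hx)) (hE.1 he.1)⟩
          rw [commutatorElement_def]
          have : x * e * x⁻¹ * e⁻¹ = x * (e * x⁻¹ * e⁻¹) := by group
          rw [this]
          exact mul_mem hx ((mem_normalizer_iff.1 he.2 _).1 (inv_mem hx))
        rw [inf_eq_bot_of_coprime (by
          rw [hXc]; exact (Nat.Prime.coprime_iff_not_dvd hr).2 hr1.2.2.2.1), mem_bot,
          commutatorElement_eq_one_iff_mul_comm] at h1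
        exact h1
      refine le_antisymm ?_ hKle
      refine (eq_of_le_of_card_ge hKle ?_).ge
      refine Nat.le_of_dvd Nat.card_pos ?_
      have hπ : PiNat (Cfsg.kappa M) (Nat.card ↥(E ⊓ normalizer (X : Set G))) := by
        intro s hs hd
        obtain ⟨Y, hY, hYc⟩ := exists_prime_subgroup_of_dvd hs hd
        have hYE : Y ≤ E := hY.trans inf_le_left
        have hYX : Y ≤ centralizer (X : Set G) := hY.trans hNC
        obtain ⟨hsσ, hsM⟩ := compl_prime hG hM hE hs (hYc ▸ card_dvd_of_le hYE)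
        have hCX : Cfsg.sigmaCore M ⊓ centralizer (X : Set G) ≠ ⊥ := heq r X hr hX hXc ▸ hne
        rcases tau_cases hG hM hs hsσ hsM with h | h
        · refine mem_kappa hG h (hYE.trans hE.1) hYc fun hb => hCX (eq_bot_iff.2 (hb ▸ ?_))
          exact S1428.result hG M hM E hE r hr1 X (hX.trans hKE) hXc Y (le_inf hYE hYX) (hYc ▸ hs)
        · exact absurd hYX (tau2_fixed_eq_bot hG hM hr1 hE (hX.trans hKE) hXc hCX h hYE hYc)
      have hd : Nat.card ↥(E ⊓ normalizer (X : Set G)) ∣ Nat.card K * K.relIndex M := by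
        rw [BGFinal72.card_mul_relIndex hK.1]
        exact card_dvd_of_le (inf_le_left.trans hE.1)
      exact ((PiNat.coprime hπ (BGTypeP.hallOf_iff.1 hK).2.2).dvd_of_dvd_mul_right hd)
    refine ⟨hstar ▸ hne, fun r X hr hX hXc => ⟨(heq r X hr hX hXc).trans hstar.symm,
      hnorm r X hr hX hXc⟩, le_antisymm (fun e he => ?_) (le_inf hKE le_normalizer)⟩
    rw [← hnorm q X₀ hq hX₀ hX₀c]
    haveI := Fact.mk hq
    obtain ⟨k, hk⟩ := hKc.exists_generator
    refine ⟨he.1, ?_⟩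
    have h1 : cj e X₀ = X₀ := by
      refine isPGroup_eq_of_order_prime (p := q) hKc
        ((BGTypeP.cj_mono e hX₀).trans_eq (BGTypeP.cj_eq_self he.2)) hX₀
        (by rw [BGTypeP.card_cj, hX₀c]) hX₀c
    exact CoprimeAction.mem_normalizer_of_conj_smul_eq h1
  · -- `K` is a whole complement
    obtain ⟨P, hPE, hPc⟩ := exists_prime_subgroup_of_dvd hpk.1 (show p ∣ Nat.card E by
      by_contra hnd
      have hd := hpk.2.1
      rw [← BGTypeBasic.card_mul_of_isComplIn hE] at hd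
      rcases hpk.1.dvd_mul.1 hd with h | h
      · exact hnd h
      · exact hpk.2.2.1 (BGTypeP.piNat_sigmaCore M p hpk.1 h))
    have hC := fixed_ne_bot_of_kappa hG hpk (hPE.trans hE.1) hPc
    have hKeq : K = E := by
      refine eq_of_le_of_card_ge hKE (Nat.le_of_dvd Nat.card_pos ?_)
      have hπ : PiNat (Cfsg.kappa M) (Nat.card E) := fun s hs hd =>
        kappa_of_dvd hG hM hp hE hPE hPc hC hs hd
      have hd : Nat.card E ∣ Nat.card K * K.relIndex M := by
        rw [BGFinal72.card_mul_relIndex hK.1]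
        exact card_dvd_of_le hE.1
      exact (PiNat.coprime hπ (BGTypeP.hallOf_iff.1 hK).2.2).dvd_of_dvd_mul_right hd
    subst hKeq
    have hstar : Cfsg.sigmaCore M ⊓ centralizer (K : Set G) =
        Cfsg.sigmaCore M ⊓ centralizer (P : Set G) :=
      le_antisymm (inf_le_inf_left _ (centralizer_le hPE))
        (le_inf inf_le_left (le_centralizer_iff.1 (tau3_centralizes hG hM hp hE hPE hPc hC)))
    refine ⟨hstar ▸ hC, fun r X hr hX hXc =>
      ⟨(prime_fixed_eq hG hM hp hE hPE hPc hC hr hX hXc).trans hstar.symm, ?_⟩,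
      inf_eq_left.2 le_normalizer⟩
    exact inf_eq_left.2 (prime_normal hG hM hp hE hPE hPc hC hr hX hXc)

end Cfsg.Agent.BG14
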