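import Cfsg.Agent.Lib.BGPrimeBeta
import Cfsg.Agent.S1409
import Cfsg.Agent.S1416
import Cfsg.Agent.S1417
import Cfsg.Agent.S1418
import Cfsg.Agent.S1420
import Cfsg.Agent.S1423
import Cfsg.Agent.S1424

/-!
Bender-Glauberman 13.1 and 13.2: centralisation of intersections by rank-one primes.
-/

set_option autoImplicit false
set_option linter.style.haveILetI false

namespace Cfsg.Agent.BGPrime

open Subgroup
open Cfsg.Agent.BGUnique
open Cfsg.Agent.HallCore
open scoped commutatorElement Pointwise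

universe u

variable {G : Type u} [Group G] [Finite G]
variable (hG : Cfsg.IsMinSimpleOddOrder G) {M H : Subgroup G} (hM : IsCoatom M) (hH : IsCoatom H)
include hG hM hH

omit hH in
theorem rank_one_not_sigma {p : ℕ} (hp : p ∈ Cfsg.tau1 M ∪ Cfsg.tau3 M) :
    p ∉ Cfsg.sigma M ∧ Cfsg.PRankLE p 1 M := by
  rcases hp with h | h
  · exact ⟨h.2.1, h.2.2.2.2⟩
  · exact ⟨h.2.1, h.2.2.2⟩

omit hH in
theorem mem_tau2_of_not_rank_one {p : ℕ} [hp : Fact p.Prime] (hps : p ∉ Cfsg.sigma M)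
    (h : ¬ Cfsg.PRankLE p 1 M) : p ∈ Cfsg.tau2 M :=
  ⟨hp.out, hps, BGSigma.outside_alpha hG hM hp.out hps, h⟩

omit hH in
/-- A prime of `τ₂(M)` with a complement containing a given `σ'`-subgroup. -/
theorem exists_sq_in_compl {E : Subgroup G} (hE : Cfsg.IsComplIn E (Cfsg.sigmaCore M) M)
    {p : ℕ} [hp : Fact p.Prime] (hp2 : p ∈ Cfsg.tau2 M) :
    ∃ A : Subgroup G, A ≤ E ∧ Cfsg.IsElementaryAbelian p A ∧ Nat.card A = p ^ 2 := by
  obtain ⟨A, hAM, hA, hAc⟩ := exists_sq_of_not_rank_one hp2.2.2.2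
  obtain ⟨m, hm, hle⟩ := BGTypeP.le_conj_hallOf (isSolvable_of_ne_top hG hM.1)
    (compl_hall hG hM hE) hAM
    (BGSigma.piNat_of_isPGroup (PGroupsBasic.isPGroup_of_isElementaryAbelian hA) hp2.2.1)
  refine ⟨BGTypeP.cj m⁻¹ A, BGTypeP.le_cj_iff.2 hle, PGroupsBasic.isElementaryAbelian_map_hom hA _,
    by rw [BGTypeP.card_cj, hAc]⟩

omit hM hH in
/-- Elements of order `q` of `E'` commute with a normal elementary abelian subgroup of coprime order. -/
theorem commute_derived {E A : Subgroup G} {p q : ℕ} [Fact p.Prime] [Fact q.Prime] (hpq : p ≠ q)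
    (hab : IsMulCommutative ↥⁅E, E⁆) (hA : Cfsg.IsElementaryAbelian p A) (hAE : A ≤ E)
    (hEA : E ≤ normalizer (A : Set G)) {x a : G} (hx : x ∈ ⁅E, E⁆) (hxq : x ^ q = 1) (ha : a ∈ A) :
    Commute x a := by
  have hEn : E ≤ normalizer ((⁅E, E⁆ : Subgroup G) : Set G) := le_normalizer.trans (by
    have h := ComponentsCores.normalizer_le_normalizer_map_subtype E (commutator ↥E)
    rwa [Subgroup.map_subtype_commutator] at h)
  have hxE : x ∈ E := commutator_le_self E hx
  have hy : a * x⁻¹ * a⁻¹ ∈ ⁅E, E⁆ :=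
    (mem_normalizer_iff.1 (hEn (hAE ha)) _).1 (inv_mem hx)
  have hc : Commute x (a * x⁻¹ * a⁻¹) := PGroupsBasic.comm_of_isMulCommutative hab hx hy
  have h1 : ⁅x, a⁆ ^ q = 1 := by
    rw [commutatorElement_def, show x * a * x⁻¹ * a⁻¹ = x * (a * x⁻¹ * a⁻¹) by group, hc.mul_pow,
      hxq, one_mul, conj_pow, inv_pow, hxq, inv_one, mul_one, mul_inv_cancel]
  have h2 : ⁅x, a⁆ ^ p = 1 := by
    refine hA.2 _ ?_
    rw [commutatorElement_def]
    exact mul_mem ((mem_normalizer_iff.1 (hEA hxE) a).1 ha) (inv_mem ha)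
  refine commutatorElement_eq_one_iff_commute.1 (orderOf_eq_one_iff.1 ?_)
  exact Nat.eq_one_of_dvd_coprimes ((Nat.coprime_primes Fact.out Fact.out).2 hpq)
    (orderOf_dvd_of_pow_eq_one h2) (orderOf_dvd_of_pow_eq_one h1)

omit hM in
theorem not_conj_of_rank_one {p : ℕ} [Fact p.Prime] {P : Subgroup G} (hP : Nat.card P = p)
    (hps : p ∉ Cfsg.sigma M) (hr : Cfsg.PRankLE p 1 M) (hN : normalizer (P : Set G) ≤ H) :
    ∀ g : G, H ≠ M.map (MulAut.conj g).toMonoidHom := by
  intro g hg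
  subst hg
  refine (S1409.result hG _ hH p ?_ P hP hN).1.2 (pRankLE_conj g hr)
  have := BGTypeP.sigma_cj g M
  exact fun h => hps (this ▸ h)

/-- BG 13.1 (b) in the form used for 13.2: for `p ∈ τ₂(H)`, the group `M_σ ∩ H` meets `H'` trivially. -/
theorem tau2_inter_commutator {p : ℕ} [Fact p.Prime] (hps : p ∉ Cfsg.sigma M)
    (hr : Cfsg.PRankLE p 1 M) {P : Subgroup G} (hPM : P ≤ M) (hP : Nat.card P = p)
    (hN : normalizer (P : Set G) ≤ H) (hp2 : p ∈ Cfsg.tau2 H) :
    Cfsg.sigmaCore M ⊓ H ⊓ ⁅H, H⁆ = ⊥ := by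
  have hne := not_conj_of_rank_one hG hH hP hps hr hN
  have hneM : H ≠ M := fun h => hne 1 (by rw [h]; exact (BGTypeP.cj_one M).symm)
  have hPH : P ≤ H := le_normalizer.trans hN
  set R := Cfsg.sigmaCore M ⊓ H ⊓ ⁅H, H⁆ with hRdef
  by_contra hR0
  obtain ⟨q, hq, hqd⟩ := Nat.exists_prime_and_dvd (fun h1 => hR0 (eq_bot_of_card_eq _ h1))
  haveI := Fact.mk hq
  obtain ⟨A₀, hA₀H, hA₀, hA₀c⟩ := exists_sq_of_not_rank_one hp2.2.2.2
  have hnilH := (S1417.result hG H hH p hp2 A₀ ⟨hA₀H, hA₀, hA₀c⟩).1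
  have hdisj : ∀ r : ℕ, r.Prime → r ∈ Cfsg.sigma M → r ∉ Cfsg.sigma H := by
    intro r hr hrM hrH
    haveI := Fact.mk hr
    obtain ⟨g, hg⟩ := BGSigma.conj_of_sigma_inter_of_nilpotent hG hH hnilH hM hrH hrM
    exact hne g⁻¹ (by rw [hg]; exact (BGTypeP.cj_inv_cj g H).symm)
  have hRM : ∀ r : ℕ, r.Prime → r ∣ Nat.card R → r ∈ Cfsg.sigma M := fun r hr hd =>
    piNat_sigmaCore M r hr (hd.trans (card_dvd_of_le (inf_le_left.trans inf_le_left)))
  have hqM := hRM q hq hqd
  have hqH := hdisj q hq hqM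
  have hpq : p ≠ q := fun h => hps (h ▸ hqM)
  -- a complement containing `P` and `R`
  have hPR : P ≤ normalizer (R : Set G) := CoprimeAction.le_normalizer_inf
    (CoprimeAction.le_normalizer_inf (hPM.trans (le_normalizer_sigmaCore M))
      (hPH.trans le_normalizer))
    (hPH.trans (le_normalizer.trans (by
      have h := ComponentsCores.normalizer_le_normalizer_map_subtype H (commutator ↥H)
      rwa [Subgroup.map_subtype_commutator] at h)))
  obtain ⟨E, hE, hRPE⟩ := exists_compl_ge hG hH (A := R ⊔ P)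
    (sup_le (inf_le_left.trans inf_le_right) hPH) (by
      intro r hr hd
      have h1 : r ∣ Nat.card R * Nat.card P := by
        refine hd.trans ?_
        haveI : (R.subgroupOf (R ⊔ P)).Normal :=
          (normal_subgroupOf_iff_le_normalizer le_sup_left).2 (sup_le le_normalizer hPR)
        have h1 := HallCore.card_sup_dvd (P.subgroupOf (R ⊔ P)) (R.subgroupOf (R ⊔ P))
        rwa [← subgroupOf_sup le_sup_right le_sup_left, sup_comm P R, subgroupOf_self, card_top,
          Nat.card_congr (subgroupOfEquivOfLe (le_sup_left : R ≤ R ⊔ P)).toEquiv,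
          Nat.card_congr (subgroupOfEquivOfLe (le_sup_right : P ≤ R ⊔ P)).toEquiv, mul_comm] at h1
      rcases hr.dvd_mul.1 h1 with h | h
      · exact hdisj r hr (hRM r hr h)
      · rw [hP] at h
        exact ((Nat.prime_dvd_prime_iff_eq hr Fact.out).1 h) ▸ hp2.2.1)
  obtain ⟨A, hAE, hA, hAc⟩ := exists_sq_in_compl hG hH hE hp2
  obtain ⟨⟨hEA, hAX⟩, ⟨hCA, hEeq, hNA⟩, -⟩ := S1418.result hG H hH E hE p hp2 A ⟨hAE, hA, hAc⟩
  have hAM : ¬ A ≤ M := fun h => not_sq_le_of_rank_one hr h hA hAc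
  have hAp := PGroupsBasic.isPGroup_of_isElementaryAbelian hA
  have hAH : A ≤ H := hAE.trans hE.1
  have hPA : P ≤ A := hAX P (le_sup_right.trans hRPE) hP
  -- a subgroup of order `q` centralized by `A`
  obtain ⟨x, hx⟩ := exists_prime_orderOf_dvd_card' q hqd
  set X := zpowers (x : G) with hXdef
  have hXc : Nat.card X = q := by rw [Nat.card_zpowers, orderOf_coe, hx]
  have hXp := isPGroup_card_prime hXc
  have hX1 := card_prime_ne_bot hXc
  have hXR : X ≤ R := zpowers_le.2 x.2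
  have hXM : X ≤ M := hXR.trans (inf_le_left.trans (inf_le_left.trans (sigmaCore_le M)))
  have hXE : X ≤ E := hXR.trans (le_sup_left.trans hRPE)
  have hXE' : X ≤ ⁅E, E⁆ := by
    rw [← compl_inf_commutator (le_normalizer_sigmaCore H) hE]
    exact le_inf hXE (hXR.trans inf_le_right)
  have hab := (S1420.result hG H hH E hE).2.1
  have hAX' : A ≤ centralizer (X : Set G) := fun a ha => mem_centralizer_iff.2 fun y hy =>
    (commute_derived hG hpq hab hA hAE hEA (hXE' hy)
      ((PGroupsBasic.isElementaryAbelian_of_card_eq_prime hXc).2 y hy) ha).eq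
  have hNX : normalizer (X : Set G) ≠ ⊤ :=
    BGSigma.normalizer_ne_top' hG hX1 fun h => hM.1 (top_le_iff.1 (h ▸ hXM))
  obtain ⟨L, hL, hNL⟩ := exists_coatom_ge hNX
  have hCL : centralizer (X : Set G) ≤ L := (centralizer_le_normalizer _).trans hNL
  have hAL : A ≤ L := hAX'.trans hCL
  have hLM : L ≠ M := fun h => hAM (h ▸ hAL)
  have hXML : X ≤ M ⊓ L := le_inf hXM (le_normalizer.trans hNL)
  obtain ⟨S, hS, hXS⟩ := exists_isMaxP_ge hXp hXML
  obtain ⟨S', hS'⟩ := hS.exists_sylow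
  obtain ⟨hLne, hNS, hSidx⟩ :=
    S1424.result hG M hM q hqM X hXp hX1 hXM L hL hLM hNL S' (by rw [hS']; exact hXS)
  rw [hS'] at hNS hSidx
  have hSM : S ≤ M := hS.le.trans inf_le_left
  have hSL := isMaxP_of_relIndex hS.isPGroup (hS.le.trans inf_le_right) hSidx
  by_cases hqr : Cfsg.PRankLE q 1 H
  swap
  · -- `q ∈ τ₂(H)`
    have hq2 := mem_tau2_of_not_rank_one hG hH hqH hqr
    obtain ⟨B, hBE, hB, hBc⟩ := exists_sq_in_compl hG hH hE hq2
    obtain ⟨⟨hEB, hBX⟩, -, -⟩ := S1418.result hG H hH E hE q hq2 B ⟨hBE, hB, hBc⟩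
    have hXB := hBX X hXE hXc
    have hBC : B ≤ centralizer (X : Set G) := fun b hb => mem_centralizer_iff.2 fun y hy =>
      PGroupsBasic.comm_of_isMulCommutative hB.1 (hXB hy) hb
    obtain ⟨l, -, hlB⟩ := BGSigma.exists_conj_maxP hSL (hBC.trans hCL)
      (PGroupsBasic.isPGroup_of_isElementaryAbelian hB)
    have hBl := (S1416.result hG M hM q (MulAut.conj l • B)
      ⟨hlB.trans hSM, PGroupsBasic.isElementaryAbelian_map_hom hB _,
        by rw [CoprimeSZ.card_conj_smul, hBc]⟩).1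
    have hAB : A ≤ centralizer (B : Set G) := BGTypeP.le_centralizer_of_normalizes
      (hAE.trans hEB) (hBE.trans hEA) (inf_eq_bot_of_coprime (by
        rw [hAc, hBc]; exact ((Nat.coprime_primes Fact.out Fact.out).2 hpq).pow 2 2))
    refine not_sq_le_of_rank_one hr (A := MulAut.conj l • A) ?_
      (PGroupsBasic.isElementaryAbelian_map_hom hA _) (by rw [CoprimeSZ.card_conj_smul, hAc])
    refine le_trans ?_ hBl
    rintro _ ⟨a, ha, rfl⟩
    refine mem_centralizer_iff.2 ?_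
    rintro _ ⟨b, hb, rfl⟩
    exact (map_mul _ _ _).symm.trans ((congrArg _ (mem_centralizer_iff.1 (hAB ha) b hb)).trans
      (map_mul _ _ _))
  -- `q`-rank one in `H`
  have huniq : ∀ Y : Subgroup G, Y ≤ E → Nat.card Y = q → Y ≤ normalizer (X : Set G) → Y = X :=
    fun Y hYE hYc hYX => (eq_of_normalizes hG hqr (hXE.trans hE.1) (hYE.trans hE.1) hXc hYc hYX).symm
  have hEn : E ≤ normalizer ((⁅E, E⁆ : Subgroup G) : Set G) := le_normalizer.trans (by
    have h := ComponentsCores.normalizer_le_normalizer_map_subtype E (commutator ↥E)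
    rwa [Subgroup.map_subtype_commutator] at h)
  have hEX : E ≤ normalizer (X : Set G) := by
    intro e he
    refine CoprimeAction.mem_normalizer_of_conj_smul_eq ?_
    have hle : MulAut.conj e • X ≤ ⁅E, E⁆ := by
      rintro _ ⟨y, hy, rfl⟩
      exact (mem_normalizer_iff.1 (hEn he) y).1 (hXE' hy)
    refine huniq _ (hle.trans (commutator_le_self E)) (by rw [CoprimeSZ.card_conj_smul, hXc]) ?_
    exact fun y hy => centralizer_le_normalizer _ (mem_centralizer_iff.2 fun z hz =>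
      PGroupsBasic.comm_of_isMulCommutative hab (hXE' hz) (hle hy))
  have hCE : centralizer (A : Set G) ≤ E := hEeq ▸ hCA
  have hNAX : normalizer (A : Set G) ≤ normalizer (X : Set G) := by
    intro n hn
    refine CoprimeAction.mem_normalizer_of_conj_smul_eq ?_
    have hXCA : X ≤ centralizer (A : Set G) := le_centralizer_iff.1 hAX'
    have hle : MulAut.conj n • X ≤ centralizer (A : Set G) := by
      rintro _ ⟨y, hy, rfl⟩
      refine mem_centralizer_iff.2 fun a ha => ?_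
      have ha' : n⁻¹ * a * n ∈ A := by
        have h := (mem_normalizer_iff.1 (inv_mem hn) a).1 ha
        rwa [inv_inv] at h
      have hya : n⁻¹ * a * n * y = y * (n⁻¹ * a * n) := mem_centralizer_iff.1 (hXCA hy) _ ha'
      show a * (n * y * n⁻¹) = n * y * n⁻¹ * a
      calc a * (n * y * n⁻¹) = n * (n⁻¹ * a * n * y) * n⁻¹ := by group
        _ = n * (y * (n⁻¹ * a * n)) * n⁻¹ := by rw [hya]
        _ = n * y * n⁻¹ * a := by group
    exact huniq _ (hle.trans hCE) (by rw [CoprimeSZ.card_conj_smul, hXc])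
      ((hle.trans hCE).trans hEX)
  have hLH : L ≠ H := fun h => (S1409.result hG H hH q hqH X hXc (h ▸ hNL)).1.2 hqr
  have hpL : p ∈ Cfsg.sigma L := by
    by_contra hpL
    have hp2L := mem_tau2_of_not_rank_one hG hL hpL
      fun h => not_sq_le_of_rank_one h hAL hA hAc
    obtain ⟨EL, hEL, hAEL⟩ := exists_compl_ge hG hL hAL fun r hr' hd => by
      rw [hAc] at hd
      exact (Nat.prime_dvd_prime_iff_eq hr' Fact.out).1 (hr'.dvd_of_dvd_pow hd) ▸ hpL
    exact (S1418.result hG L hL EL hEL p hp2L A ⟨hAEL, hA, hAc⟩).2.1.2.2 (hNAX.trans hNL)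
  have hPL : P ≤ L := hPA.trans hAL
  by_cases hqL : q ∈ Cfsg.sigma L
  · have hpb : p ∉ Cfsg.beta L := fun hb => hLH (by
      obtain ⟨T⟩ := (inferInstance : Nonempty (Sylow p ↥(Cfsg.sigmaCore L)))
      exact ((S1423.result hG L hL p hpL P hPL hP T (Or.inl hb)).1.2 H hH
        ((centralizer_le_normalizer _).trans hN)).symm)
    have hqb : q ∉ Cfsg.beta L := fun hb => by
      obtain ⟨g, hg⟩ := BGSigma.conj_of_alpha_inter_sigma hG hL hM hb.1 hqM
      exact hLne g⁻¹ (by rw [hg]; exact (BGTypeP.cj_inv_cj g L).symm)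
    obtain ⟨T₀, hT₀, -⟩ := exists_isMaxP_ge hAp hAL
    obtain ⟨T, hT, hTS⟩ := exists_commuting_sylow hG hL hpq hpb hqb hS.isPGroup
      (le_commutator_of_sigma_tau3 hG hL (Or.inl hqL) hS.isPGroup hSL.le) hT₀
      (BGSigma.le_commutator hG hL hpL hT₀)
    obtain ⟨m, -, hmA⟩ := BGSigma.exists_conj_maxP hT hAL hAp
    exact not_sq_le_of_rank_one hr (A := MulAut.conj m • A)
      (hmA.trans (hTS.trans ((centralizer_le_normalizer _).trans hNS)))
      (PGroupsBasic.isElementaryAbelian_map_hom hA _) (by rw [CoprimeSZ.card_conj_smul, hAc])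
  -- `q ∉ σ(L)`: then `q ∈ τ₂(L)`
  have hqL2 := mem_tau2_of_not_rank_one hG hL hqL (S1409.result hG L hL q hqL X hXc hNL).1.2
  obtain ⟨B, hBS, hB, hBc⟩ : ∃ B : Subgroup G, B ≤ S ∧ Cfsg.IsElementaryAbelian q B ∧
      Nat.card B = q ^ 2 := by
    obtain ⟨B, hBL, hB, hBc⟩ := exists_sq_of_not_rank_one hqL2.2.2.2
    obtain ⟨l, -, hl⟩ := BGSigma.exists_conj_maxP hSL hBL (PGroupsBasic.isPGroup_of_isElementaryAbelian hB)
    exact ⟨MulAut.conj l • B, hl, PGroupsBasic.isElementaryAbelian_map_hom hB _,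
      by rw [CoprimeSZ.card_conj_smul, hBc]⟩
  have hBL : B ≤ L := hBS.trans hSL.le
  obtain ⟨hLnil, hSyl, -⟩ := S1417.result hG L hL q hqL2 B ⟨hBL, hB, hBc⟩
  obtain ⟨SL, hSLe⟩ := hSL.exists_sylow
  have hXB : X ≤ B := fun y hy => (((hSyl SL).2 (hSLe ▸ hBS)).1 y (hSLe ▸ hXS hy)).1
    ((PGroupsBasic.isElementaryAbelian_of_card_eq_prime hXc).2 y hy)
  set Y := Cfsg.sigmaCore L ⊓ M ⊓ centralizer (X : Set G) with hY
  have hBn : B ≤ normalizer (Y : Set G) := CoprimeAction.le_normalizer_inf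
    (CoprimeAction.le_normalizer_inf (hBL.trans (le_normalizer_sigmaCore L))
      ((hBS.trans hSM).trans le_normalizer))
    (fun b hb => le_normalizer (mem_centralizer_iff.2 fun y hy =>
      PGroupsBasic.comm_of_isMulCommutative hB.1 (hXB hy) hb))
  have hPY : P ≤ Y := le_inf (le_inf (BGTypeP.le_sigmaCore hG hL hPL
    (BGSigma.piNat_of_isPGroup (isPGroup_card_prime hP) hpL)) hPM) (hPA.trans hAX')
  haveI := hLnil
  haveI hYnil : Group.IsNilpotent Y :=
    ComponentsCores.nilpotent_of_le (inf_le_left.trans inf_le_left) hLnil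
  obtain ⟨T, hT⟩ := ((isPGroup_card_prime hP).comap_of_injective Y.subtype
    Y.subtype_injective).exists_le_sylow
  have hTn : (T : Subgroup Y).Normal :=
    Sylow.normal_of_normalizerCondition Group.normalizerCondition_of_isNilpotent T
  haveI : (T : Subgroup Y).Characteristic := Sylow.characteristic_of_normal T hTn
  have hBT : B ≤ normalizer (((T : Subgroup Y).map Y.subtype : Subgroup G) : Set G) :=
    hBn.trans (ComponentsCores.normalizer_le_normalizer_map_subtype Y _)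
  have hPT : P ≤ (T : Subgroup Y).map Y.subtype := by
    rw [← map_subgroupOf_eq_of_le hPY]
    exact map_mono hT
  have hBP := normalizes_order_p hG hr (T.isPGroup'.map _)
    ((map_subtype_le _).trans (inf_le_left.trans inf_le_right)) hPT hP hBT
  exact not_sq_le_of_rank_one hqr (hBP.trans hN) hB hBc

variable {p : ℕ} [Fact p.Prime] (hp : p ∈ Cfsg.tau1 M ∪ Cfsg.tau3 M) {P : Subgroup G} (hPM : P ≤ M)
  (hP : Nat.card P = p) (hN : normalizer (P : Set G) ≤ H)
include hp hPM hP hN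

omit hPM in
/-- BG 13.2 (a). -/
theorem not_conj_of_normalizer : ∀ g : G, H ≠ M.map (MulAut.conj g).toMonoidHom :=
  not_conj_of_rank_one hG hH hP (rank_one_not_sigma hG hM hp).1 (rank_one_not_sigma hG hM hp).2 hN

omit hPM in
theorem sigma_or_tau2 : p ∈ Cfsg.sigma H ∨ p ∈ Cfsg.tau2 H := by
  by_cases h : p ∈ Cfsg.sigma H
  · exact Or.inl h
  · exact Or.inr (mem_tau2_of_not_rank_one hG hH h (S1409.result hG H hH p h P hP hN).1.2)

/-- BG 13.2 (b). -/
theorem le_centralizer_inter {P₁ : Subgroup G} (h₁ : IsPGroup p P₁) (hle : P₁ ≤ M ⊓ H) :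
    P₁ ≤ centralizer ((Cfsg.sigmaCore M ⊓ H : Subgroup G) : Set G) := by
  have hne := not_conj_of_normalizer hG hM hH hp hP hN
  obtain ⟨hps, hr⟩ := rank_one_not_sigma hG hM hp
  rcases sigma_or_tau2 hG hM hH hp hP hN with h | h
  · exact centralizes_of_le_commutator hG hH hM hne hps h₁ hle
      (le_commutator_of_sigma_tau3 hG hH (Or.inl h) h₁ (hle.trans inf_le_right))
  · rw [← commutator_eq_bot_iff_le_centralizer, commutator_comm, ← le_bot_iff,
      ← tau2_inter_commutator hG hM hH hps hr hPM hP hN h]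
    refine le_inf (le_normalizer_iff_commutator_le_left.1 (CoprimeAction.le_normalizer_inf
      ((hle.trans inf_le_left).trans (le_normalizer_sigmaCore M))
      ((hle.trans inf_le_right).trans le_normalizer))) ?_
    exact commutator_mono inf_le_right (hle.trans inf_le_right)

theorem inter_eq_centralizer :
    Cfsg.sigmaCore M ⊓ H = Cfsg.sigmaCore M ⊓ centralizer (P : Set G) :=
  le_antisymm (le_inf inf_le_left (le_centralizer_iff.1
      (le_centralizer_inter hG hM hH hp hPM hP hN (isPGroup_card_prime hP)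
        (le_inf hPM (le_normalizer.trans hN)))))
    (le_inf inf_le_left (inf_le_right.trans ((centralizer_le_normalizer _).trans hN)))

/-- BG 13.2 (c). -/
theorem mem_sigma_of_commutator (hne : ⁅Cfsg.sigmaCore M ⊓ H, M ⊓ H⁆ ≠ ⊥) : p ∈ Cfsg.sigma H := by
  rcases sigma_or_tau2 hG hM hH hp hP hN with h | h
  · exact h
  refine absurd ?_ hne
  obtain ⟨hps, hr⟩ := rank_one_not_sigma hG hM hp
  rw [← le_bot_iff, ← tau2_inter_commutator hG hM hH hps hr hPM hP hN h]
  refine le_inf (le_normalizer_iff_commutator_le_left.1 (CoprimeAction.le_normalizer_inf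
    (inf_le_left.trans (le_normalizer_sigmaCore M)) (inf_le_right.trans le_normalizer))) ?_
  exact commutator_mono inf_le_right inf_le_right

end Cfsg.Agent.BGPrime
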