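import Cfsg.Agent.Lib.BGPrimeRank
import Cfsg.Agent.Lib.BGFrobeniusAct
import Cfsg.Agent.Lib.OmegaCoprime
import Cfsg.Agent.Lib.CoprimeGen

/-!
A coprime abelian group with a fixed-point-free operator acting on a `p`-group, the operator having
few fixed points (the configuration of Bender-Glauberman 13.4).
-/

set_option autoImplicit false
set_option linter.style.haveILetI false

namespace Cfsg.Agent.BGPrime

open Subgroup
open Cfsg.Agent.BGUnique
open scoped commutatorElement Pointwise

universe u

variable {G : Type u} [Group G] [Finite G]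

omit [Finite G] in
theorem mem_normalizer_sup {A B : Subgroup G} {g : G} (hA : g ∈ normalizer (A : Set G))
    (hB : g ∈ normalizer (B : Set G)) : g ∈ normalizer ((A ⊔ B : Subgroup G) : Set G) := by
  refine CoprimeAction.mem_normalizer_of_conj_smul_eq ?_
  rw [smul_sup, BGSigma.conj_le_normalizer hA, BGSigma.conj_le_normalizer hB]

omit [Finite G] in
theorem le_normalizer_commutator_self (U : Subgroup G) :
    normalizer (U : Set G) ≤ normalizer ((⁅U, U⁆ : Subgroup G) : Set G) := by
  have h := ComponentsCores.normalizer_le_normalizer_map_subtype U (commutator ↥U)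
  rwa [Subgroup.map_subtype_commutator] at h

/-- Let `Q` be abelian, normalized by `R` with `C_Q(R) = 1`, both acting coprimely on the `p`-group
`T` and fixing the subgroup `P` of order `p`; if `C_T(R)` is cyclic and contains `P`, then `Q`
centralizes `T`. -/
theorem le_centralizer_of_fixed_cyclic {p : ℕ} [hp : Fact p.Prime] (hp2 : p ≠ 2)
    {Q R P T : Subgroup G} (hT : IsPGroup p T) (hQc : IsMulCommutative Q) (hR : R ≠ ⊥)
    (hRQ : R ≤ normalizer (Q : Set G))
    (hfpf : ∀ r ∈ R, r ≠ 1 → Q ⊓ centralizer ({r} : Set G) = ⊥)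
    (hQT : Q ≤ normalizer (T : Set G)) (hRT : R ≤ normalizer (T : Set G))
    (hcopQ : (Nat.card Q).Coprime p) (hcopR : (Nat.card R).Coprime p)
    (hPT : P ≤ T) (hP : Nat.card P = p)
    (hQP : Q ≤ centralizer (P : Set G)) (hRP : R ≤ centralizer (P : Set G))
    (hcyc : IsCyclic ↥(T ⊓ centralizer (R : Set G))) : Q ≤ centralizer (T : Set G) := by
  have hcopG : ∀ {X U : Subgroup G}, IsPGroup p U → (Nat.card X).Coprime p →
      (Nat.card X).Coprime (Nat.card U) := by
    intro X U hU hX
    obtain ⟨n, hn⟩ := IsPGroup.iff_card.1 hU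
    rw [hn]
    exact hX.pow_right n
  have hQs : ∀ U : Subgroup G, Group.IsSolvable Q ∨ Group.IsSolvable U := fun U => by
    refine Or.inl ?_
    exact Group.isSolvable_of_comm fun x y => hQc.is_comm.comm x y
  suffices key : ∀ (n : ℕ) (U : Subgroup G), Nat.card U = n → U ≤ T →
      Q ≤ normalizer (U : Set G) → R ≤ normalizer (U : Set G) → Q ≤ centralizer (U : Set G) from
    key _ T rfl le_rfl hQT hRT
  intro n
  induction n using Nat.strong_induction_on with
  | _ n ih =>
  intro U hn hUT hQU hRU
  have hUp : IsPGroup p U := hT.to_le hUT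
  have hproper : ∀ V : Subgroup G, V < U → Q ≤ normalizer (V : Set G) →
      R ≤ normalizer (V : Set G) → Q ≤ centralizer (V : Set G) := fun V hV hQV hRV =>
    ih _ (by
      rw [← hn]
      by_contra hc
      exact hV.ne (eq_of_le_of_card_ge hV.le (not_lt.1 hc))) V rfl (hV.le.trans hUT) hQV hRV
  by_cases hU0 : U = ⊥
  · subst hU0
    intro a _
    simp [mem_centralizer_iff]
  -- the elements of order `p`
  set U₁ := closure {x : G | x ∈ U ∧ x ^ p = 1} with hU₁
  have hU₁le : U₁ ≤ U := (closure_le _).2 fun x hx => hx.1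
  have hU₁n : ∀ a ∈ normalizer (U : Set G), a ∈ normalizer (U₁ : Set G) := by
    intro a ha
    refine CoprimeAction.mem_normalizer_of_conj_smul_eq (Subgroup.eq_of_le_of_card_ge ?_
      (CoprimeSZ.card_conj_smul a U₁).ge)
    show U₁.map (MulAut.conj a).toMonoidHom ≤ U₁
    rw [hU₁, MonoidHom.map_closure, closure_le]
    rintro _ ⟨x, hx, rfl⟩
    refine subset_closure ⟨(mem_normalizer_iff.1 ha x).1 hx.1, ?_⟩
    show (a * x * a⁻¹) ^ p = 1
    rw [conj_pow, hx.2, mul_one, mul_inv_cancel]
  rcases hU₁le.lt_or_eq with hlt | hΩ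
  · have hQ₁ := hproper U₁ hlt (fun a ha => hU₁n a (hQU ha)) (fun a ha => hU₁n a (hRU ha))
    intro a ha
    refine mem_centralizer_iff.2 fun y hy => ?_
    exact (OmegaCoprime.commute_of_forall_pow_eq_one hp2
      (hcopQ.coprime_dvd_left (Q.orderOf_dvd_natCard ha)) U hUp
      (fun x hx => (mem_normalizer_iff.1 (hQU ha) x).1 hx)
      (fun x hx hxp => (mem_centralizer_iff.1 (hQ₁ ha) x (subset_closure ⟨hx, hxp⟩)).symm) y hy).symm.eq
  -- `U = [U, Q]`
  have hUQle : ⁅U, Q⁆ ≤ U := le_normalizer_iff_commutator_le_left.1 hQU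
  rcases hUQle.lt_or_eq with hlt | hUQ
  · have h1 := hproper ⁅U, Q⁆ hlt (normalizer_commutator_ge_right U Q) (fun r hr =>
      CoprimeAction.mem_normalizer_of_conj_smul_eq (by
        show (⁅U, Q⁆).map (MulAut.conj r).toMonoidHom = ⁅U, Q⁆
        rw [map_commutator]
        exact congrArg₂ (fun A B : Subgroup G => ⁅A, B⁆) (BGSigma.conj_le_normalizer (hRU hr))
          (BGSigma.conj_le_normalizer (hRQ hr))))
    refine CoprimeAction.le_centralizer_of_commutator_commutator_eq_bot hQU
      (hcopG hUp hcopQ) (hQs U) ?_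
    rw [commutator_comm, commutator_eq_bot_iff_le_centralizer]
    exact h1
  -- the derived group is central
  set D := ⁅U, U⁆ with hD
  have hDU : D ≤ U := commutator_le_self U
  have hDlt : D < U := by
    haveI : Group.IsSolvable U := CoprimeAction.isSolvable_of_isPGroup hUp
    haveI : Nontrivial U := (nontrivial_iff_ne_bot U).2 hU0
    have h := (Subgroup.map_lt_map_iff_of_injective U.subtype_injective).2
      (Group.IsSolvable.commutator_lt_top_of_nontrivial ↥U)
    rwa [map_subtype_commutator, ← MonoidHom.range_eq_map, U.range_subtype] at h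
  have hQD := hproper D hDlt (hQU.trans (le_normalizer_commutator_self U))
    (hRU.trans (le_normalizer_commutator_self U))
  have hDc : ⁅U, D⁆ = ⊥ := by
    have h1 : ⁅⁅Q, D⁆, U⁆ = ⊥ := by
      rw [commutator_eq_bot_iff_le_centralizer.2 hQD, commutator_bot_left]
    have h2 : ⁅⁅D, U⁆, Q⁆ = ⊥ := by
      have h3 : ⁅D, U⁆ ≤ D := le_normalizer_iff_commutator_le_left.1
        (le_normalizer.trans (le_normalizer_commutator_self U))
      rw [commutator_eq_bot_iff_le_centralizer]
      exact h3.trans (le_centralizer_iff.1 hQD)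
    have h4 := commutator_commutator_eq_bot_of_rotate h1 h2
    rwa [hUQ] at h4
  have hexp : ∀ x ∈ U, x ^ p = 1 := by
    intro x hx
    have hx' : x ∈ U₁ := hΩ.symm ▸ hx
    induction hx' using closure_induction with
    | mem y hy => exact hy.2
    | one => exact one_pow _
    | inv y hy ihy => rw [inv_pow, ihy (hU₁le hy), inv_one]
    | mul a b ha hb iha ihb =>
      have haU : a ∈ U := hU₁le ha
      have hbU : b ∈ U := hU₁le hb
      have hc : ∀ {u v : G}, u ∈ U → v ∈ D → Commute u v := fun hu hv =>
        commutatorElement_eq_one_iff_commute.1 (by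
          rw [← mem_bot, ← hDc]; exact commutator_mem_commutator hu hv)
      set z := ⁅b⁻¹, a⁻¹⁆ with hz
      have hzD : z ∈ D := commutator_mem_commutator (inv_mem hbU) (inv_mem haU)
      have hzeq : b * a = a * b * z := by rw [hz, commutatorElement_def]; group
      have hzp : z ^ p = 1 := by
        have h5 : ∀ i : ℕ, b ^ i * a = a * b ^ i * z ^ i := by
          intro i
          induction i with
          | zero => simp
          | succ i hi =>
            have hzb : Commute b (z ^ i) := (hc hbU hzD).pow_right i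
            calc b ^ (i + 1) * a = b ^ i * (b * a) := by rw [pow_succ]; group
              _ = (b ^ i * a) * b * z := by rw [hzeq]; group
              _ = a * b ^ i * (z ^ i * b) * z := by rw [hi]; group
              _ = a * b ^ i * (b * z ^ i) * z := by rw [hzb.eq]
              _ = a * b ^ (i + 1) * z ^ (i + 1) := by rw [pow_succ b, pow_succ z]; group
        have h6 := h5 p
        rw [ihb hbU, one_mul, mul_one] at h6
        exact mul_left_cancel (h6.symm.trans (mul_one a).symm)
      rw [OmegaCoprime.mul_pow_class_two hzeq (hc haU hzD).symm (hc hbU hzD).symm, iha haU,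
        ihb hbU, one_mul, one_mul]
      obtain ⟨c, hcd⟩ : p ∣ p.choose 2 := hp.out.dvd_choose_self two_ne_zero
        (lt_of_le_of_ne hp.out.two_le (Ne.symm hp2))
      rw [hcd, pow_mul, hzp, one_pow]
  -- fixed points of `R`
  have hfix : U ⊓ centralizer (R : Set G) ≤ P := by
    intro x hx
    by_cases hx1 : x = 1
    · exact hx1 ▸ one_mem _
    haveI := hcyc
    have hPC : P ≤ T ⊓ centralizer (R : Set G) := le_inf hPT (le_centralizer_iff.1 hRP)
    have hxo : orderOf x = p := orderOf_eq_prime (hexp x hx.1) hx1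
    have hXle : zpowers x ≤ T ⊓ centralizer (R : Set G) := zpowers_le.2 ⟨hUT hx.1, hx.2⟩
    have he : zpowers x = P := by
      have hcp : IsPGroup p ↥(T ⊓ centralizer (R : Set G)) := hT.to_le inf_le_left
      letI : CommGroup ↥(T ⊓ centralizer (R : Set G)) := IsCyclic.commGroup
      refine eq_of_commute (M := T ⊓ centralizer (R : Set G)) ?_ hXle hPC
        (by rw [Nat.card_zpowers, hxo]) hP fun a ha b hb =>
          congrArg Subtype.val (mul_comm (⟨a, hXle ha⟩ : ↥(T ⊓ centralizer (R : Set G))) ⟨b, hPC hb⟩)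
      intro E hEc hEe
      haveI : IsCyclic E := inferInstance
      exact (PGroupsBasic.card_le_prime_of_isCyclic inferInstance hEe).trans (by rw [pow_one])
    exact he ▸ mem_zpowers x
  -- modulo the derived group
  set W := normalizer (D : Set G) with hW
  have hUW : U ≤ W := le_normalizer.trans (le_normalizer_commutator_self U)
  have hQW : Q ≤ W := hQU.trans (le_normalizer_commutator_self U)
  have hRW : R ≤ W := hRU.trans (le_normalizer_commutator_self U)
  haveI : (D.subgroupOf W).Normal := normal_in_normalizer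
  set π := QuotientGroup.mk' (D.subgroupOf W) with hπ
  set V := (U.subgroupOf W).map π with hV
  haveI hVc : IsMulCommutative V := by
    refine PGroupsBasic.isMulCommutative_of_forall ?_
    rintro _ ⟨x, hx, rfl⟩ _ ⟨y, hy, rfl⟩
    have h : Commute (π x) (π y) := by
      rw [← commutatorElement_eq_one_iff_commute, ← map_commutatorElement, hπ,
        QuotientGroup.mk'_apply, QuotientGroup.eq_one_iff, mem_subgroupOf]
      exact commutator_mem_commutator hx hy
    exact h.eq
  have hn' : ∀ {X : Subgroup G}, X ≤ W → X ≤ normalizer (U : Set G) →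
      (X.subgroupOf W).map π ≤ normalizer (V : Set (↥W ⧸ D.subgroupOf W)) := by
    intro X _ hXU
    refine (map_mono ?_).trans (le_normalizer_map π)
    rw [← subgroupOf_normalizer_eq hUW]
    exact fun x hx => hXU hx
  have hcardW : ∀ {X : Subgroup G}, X ≤ W → Nat.card (X.subgroupOf W) = Nat.card X :=
    fun hX => Nat.card_congr (subgroupOfEquivOfLe hX).toEquiv
  have hVQ : ⁅V, (Q.subgroupOf W).map π⁆ = V := by
    rw [hV, ← map_commutator]
    congr 1
    apply map_injective W.subtype_injective
    rw [map_commutator, map_subgroupOf_eq_of_le hUW, map_subgroupOf_eq_of_le hQW, hUQ]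
  have h0 := CoprimeAction.inf_centralizer_inf_commutator_eq_bot
    (A := (Q.subgroupOf W).map π) (V := V) (hn' hQW hQU)
    (((hcopG hUp hcopQ).coprime_dvd_left ((card_map_dvd _ π).trans (hcardW hQW).dvd)).coprime_dvd_right
      ((card_map_dvd _ π).trans (hcardW hUW).dvd))
  rw [hVQ, inf_eq_left.2 inf_le_left] at h0
  have hfixV : V ⊓ centralizer ((R.subgroupOf W).map π : Set (↥W ⧸ D.subgroupOf W)) = ⊥ := by
    rw [← CoprimeAction.map_inf_centralizer_eq (A := R.subgroupOf W) (K := U.subgroupOf W) π ?_ ?_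
      ?_, eq_bot_iff]
    · rintro _ ⟨x, hx, rfl⟩
      have hxP : (x : G) ∈ P := hfix ⟨hx.1, mem_centralizer_iff.2 fun r hr =>
        congrArg Subtype.val (mem_centralizer_iff.1 hx.2 ⟨r, hRW hr⟩ hr)⟩
      rw [← h0]
      refine ⟨mem_map_of_mem π hx.1, mem_centralizer_iff.2 ?_⟩
      rintro _ ⟨a, ha, rfl⟩
      rw [← map_mul, ← map_mul]
      exact congrArg π (Subtype.ext (mem_centralizer_iff.1 (hQP ha) _ hxP).symm)
    · rw [← subgroupOf_normalizer_eq hUW]
      exact fun r hr => hRU hr
    · rw [hcardW hRW, hcardW hUW]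
      exact hcopG hUp hcopR
    · haveI : Group.IsSolvable U := CoprimeAction.isSolvable_of_isPGroup hUp
      exact Or.inr (Group.isSolvable_of_surjective
        (subgroupOfEquivOfLe hUW).symm.surjective (f := (subgroupOfEquivOfLe hUW).symm.toMonoidHom))
  have key := BGFrobeniusAct.commute_of_abelian π (K := Q.subgroupOf W) (R := R.subgroupOf W)
    (V := V) ?_ ?_ ?_ hVc (hn' hQW hQU) (hn' hRW hRU) hfixV ?_
  · refine CoprimeAction.le_centralizer_of_stabilizes (N := D) (hcopG (hUp.to_le hDU) hcopQ)
      (le_centralizer_iff.1 hQD) fun a ha k hk => ?_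
    have h1 := key ⟨a, hQW ha⟩ ha _
      (mem_map_of_mem π (show (⟨k, hUW hk⟩ : W) ∈ U.subgroupOf W from hk))
    have h2 : π ((⟨k, hUW hk⟩ : W)⁻¹ * ⟨a, hQW ha⟩ * ⟨k, hUW hk⟩ * (⟨a, hQW ha⟩ : W)⁻¹) = 1 := by
      rw [map_mul, map_mul, map_mul, map_inv, map_inv, mul_assoc (π ⟨k, hUW hk⟩)⁻¹, h1.eq]
      group
    rw [hπ, QuotientGroup.mk'_apply, QuotientGroup.eq_one_iff, mem_subgroupOf] at h2
    exact h2
  · rw [ne_eq, subgroupOf_eq_bot]
    exact fun h => hR (by rwa [disjoint_iff, inf_eq_left.2 hRW] at h)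
  · intro r hr
    rw [mem_normalizer_iff]
    exact fun x => (mem_normalizer_iff.1 (hRQ hr) x)
  · intro r hr hr1
    rw [eq_bot_iff]
    intro x hx
    have hx' : (x : G) ∈ Q ⊓ centralizer ({(r : G)} : Set G) :=
      ⟨hx.1, mem_centralizer_singleton_iff.2
        (congrArg Subtype.val (mem_centralizer_singleton_iff.1 hx.2))⟩
    rw [hfpf r hr fun h => hr1 (Subtype.ext h), mem_bot] at hx'
    exact Subtype.ext hx'
  · rw [hcardW hQW]
    exact (hcopG hUp hcopQ).coprime_dvd_right ((card_map_dvd _ π).trans (hcardW hUW).dvd)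

end Cfsg.Agent.BGPrime
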