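import Cfsg.Agent.Lib.BGPrimeBeta
import Cfsg.Agent.Lib.BGPrimeFixed
import Cfsg.Agent.S1409
import Cfsg.Agent.S1411
import Cfsg.Agent.S1417
import Cfsg.Agent.S1422
import Cfsg.Agent.S1427

/-!
Centralisation of `α`-Sylow subgroups (Bender-Glauberman 13.4, the case of a prime in `β`).
-/

set_option autoImplicit false
set_option linter.style.haveILetI false

namespace Cfsg.Agent.BGPrime

open Subgroup
open Cfsg.Agent.BGUnique
open Cfsg.Agent.HallCore
open scoped commutatorElement Pointwise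

universe u

variable {G : Type u} [Group G] [Finite G]

theorem isMaxP_in_hall {E M S : Subgroup G} {π : Set ℕ} {p : ℕ} [Fact p.Prime]
    (hE : Cfsg.IsPiHallOf π E M) (hp : p ∈ π) (hS : IsMaxP p S E) : IsMaxP p S M := by
  refine isMaxP_of_relIndex hS.isPGroup (hS.le.trans hE.1) ?_
  rw [← relIndex_mul_relIndex S E M hS.le hE.1]
  intro hd
  rcases (Fact.out : p.Prime).dvd_mul.1 hd with h | h
  · obtain ⟨S', hS'⟩ := hS.exists_sylow
    rw [← hS', relIndex, BGSigma.subgroupOf_map_subtype_self] at h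
    exact S'.not_dvd_index h
  · exact hE.2.2 p Fact.out hp h

variable (hG : Cfsg.IsMinSimpleOddOrder G) {H : Subgroup G} (hH : IsCoatom H)
include hG hH

/-- Prime action for one element of prime power order of rank one (from S1427). -/
theorem prime_action_element {s : ℕ} [hs : Fact s.Prime] (hsH : s ∉ Cfsg.sigma H)
    (hr : Cfsg.PRankLE s 1 H) {v : G} (hv : v ∈ H) (hvs : IsPGroup s ↥(zpowers v)) {v₁ : G}
    (hv₁ : v₁ ∈ zpowers v) (hv₁1 : v₁ ≠ 1) {c : G} (hc : c ∈ Cfsg.sigmaCore H)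
    (hcv : Commute c v₁) : Commute c v := by
  obtain ⟨E, hE, hvE⟩ := exists_compl_ge hG hH (zpowers_le.2 hv)
    fun q hq hd => BGSigma.piNat_of_isPGroup (π := {r | r ∉ Cfsg.sigma H}) hvs hsH q hq hd
  obtain ⟨S₀, hS₀, hvS⟩ := exists_isMaxP_ge hvs hvE
  obtain ⟨S, hS⟩ := hS₀.exists_sylow
  have hcyc₀ : IsCyclic S₀ := isCyclic_of_rank_one hG hr hS₀.isPGroup (hS₀.le.trans hE.1)
  have hcyc : IsCyclic (S : Subgroup E) := by
    have : IsCyclic ↥((S : Subgroup E).map E.subtype) := hS.symm ▸ hcyc₀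
    exact ((S : Subgroup E).equivMapOfInjective _ E.subtype_injective).isCyclic.2 this
  have hv₁S : v₁ ∈ (S : Subgroup E).map E.subtype := by
    rw [hS]; exact hvS hv₁
  have hne : (S : Subgroup E) ≠ ⊥ := fun h => hv₁1 (by
    rw [h, Subgroup.map_bot, mem_bot] at hv₁S
    exact hv₁S)
  have h := S1427.result hG H hH E hE s S hne hcyc v₁ hv₁S hv₁1
  have h1 : c ∈ Cfsg.sigmaCore H ⊓ centralizer ({v₁} : Set G) :=
    ⟨hc, mem_centralizer_singleton_iff.2 hcv.eq⟩
  rw [h, hS] at h1
  exact (mem_centralizer_iff.1 h1.2 v (hvS (mem_zpowers v))).symm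

/-- If `M_α ∩ C(r)` has a noncyclic `p`-subgroup then `N(⟨r⟩) ≤ H`, so the prime of `r` has rank two. -/
theorem isCyclic_inf_centralizer {p s : ℕ} [Fact p.Prime] [Fact s.Prime] (hsH : s ∉ Cfsg.sigma H)
    (hr : Cfsg.PRankLE s 1 H) {R : Subgroup G} (hR : Nat.card R = s) (hRH : R ≤ H) {Y : Subgroup G}
    (hY : IsPGroup p Y) (hYα : Y ≤ Cfsg.alphaCore H) (hYR : Y ≤ centralizer (R : Set G)) :
    IsCyclic Y := by
  by_contra hnc
  obtain ⟨E, hEY, hE, hEc⟩ := exists_elementary_sq_of_noncyclic hG hY hnc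
  have hr1 : ¬ Cfsg.RankLE 1 ↥(Cfsg.alphaCore H ⊓ centralizer (R : Set G)) := fun h =>
    not_sq_le_of_rank_one (h p Fact.out) (le_inf (hEY.trans hYα) (hEY.trans hYR)) hE hEc
  have hu := BGSigma.centralizer_alpha_unique hG hH hRH (fun q hq hd hα => by
    rw [hR, Nat.prime_dvd_prime_iff_eq hq Fact.out] at hd
    exact hsH (hd ▸ BGSigma.alpha_subset hG hH hα)) hr1
  have hNR : normalizer (R : Set G) ≤ H := le_of_unique hu hH inf_le_left
    (inf_le_right.trans (centralizer_le_normalizer _))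
    (BGSigma.normalizer_ne_top' hG (card_prime_ne_bot hR) fun h => hH.1 (top_le_iff.1 (h ▸ hRH)))
  exact (S1409.result hG H hH s hsH R hR hNR).1.2 hr

/-- An invariant Sylow subgroup for a prime of `α(H)` through a fixed subgroup of order `p`. -/
theorem exists_invariant_alpha_sylow {p : ℕ} [Fact p.Prime] (hp : p ∈ Cfsg.alpha H) {P W : Subgroup G}
    (hPH : P ≤ H) (hP : IsPGroup p P) (hWH : W ≤ H) (hWP : W ≤ centralizer (P : Set G))
    (hW : ∀ r : ℕ, r.Prime → r ∣ Nat.card W → r ∉ Cfsg.alpha H) :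
    ∃ T : Subgroup G, IsMaxP p T H ∧ P ≤ T ∧ T ≤ Cfsg.alphaCore H ∧ W ≤ normalizer (T : Set G) := by
  have hαH : Cfsg.alphaCore H ≤ H := map_subtype_le _
  have hPα : P ≤ Cfsg.alphaCore H := BGTypeP.le_of_normal_hall (BGSigma.hall_alpha hG hH).1
    (BGSigma.le_normalizer_core _ H) hPH (BGSigma.piNat_of_isPGroup hP hp)
  obtain ⟨T, hPT, hWT⟩ := CoprimeAction.exists_invariant_sylow_ge (A := W) (K := Cfsg.alphaCore H)
    (hWH.trans (BGSigma.le_normalizer_core _ H))
    (Nat.coprime_of_dvd fun r hr h1 h2 => hW r hr h1 (BGSigma.dvd_alphaCore hG hH hr h2))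
    (Or.inr (isSolvable_of_le_coatom hG hH hαH)) hPα hP
    (hWP.trans (centralizer_le_normalizer _))
  refine ⟨_, isMaxP_in_hall (BGSigma.hall_alpha hG hH).1 hp (isMaxP_sylow _ T), hPT,
    map_subtype_le _, hWT⟩

/-- The centralisation step of BG 13.4. -/
theorem le_centralizer_alpha_sylow {p s : ℕ} [Fact p.Prime] [Fact s.Prime] (hsH : s ∉ Cfsg.sigma H)
    (hr : Cfsg.PRankLE s 1 H) {T P Q R : Subgroup G} (hT : IsMaxP p T H)
    (hTα : T ≤ Cfsg.alphaCore H) (hPT : P ≤ T) (hP : Nat.card P = p)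
    (hQc : IsMulCommutative Q) (hR : Nat.card R = s) (hRH : R ≤ H)
    (hRQ : R ≤ normalizer (Q : Set G))
    (hfpf : ∀ r ∈ R, r ≠ 1 → Q ⊓ centralizer ({r} : Set G) = ⊥)
    (hQT : Q ≤ normalizer (T : Set G)) (hRT : R ≤ normalizer (T : Set G))
    (hcopQ : (Nat.card Q).Coprime p) (hps : p ≠ s)
    (hQP : Q ≤ centralizer (P : Set G)) (hRP : R ≤ centralizer (P : Set G)) :
    Q ≤ centralizer (T : Set G) := by
  have hp2 : p ≠ 2 := prime_ne_two hG ((hP ▸ card_subgroup_dvd_card P : p ∣ Nat.card G))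
  set T₁ := T ⊓ centralizer (P : Set G) with hT₁
  have hn : ∀ {A : Subgroup G}, A ≤ normalizer (T : Set G) → A ≤ centralizer (P : Set G) →
      A ≤ normalizer (T₁ : Set G) := fun h1 h2 =>
    CoprimeAction.le_normalizer_inf h1 (h2.trans le_normalizer)
  have hcopR : (Nat.card R).Coprime p := by
    rw [hR]; exact (Nat.coprime_primes Fact.out Fact.out).2 hps.symm
  have hPc : P ≤ centralizer (P : Set G) := fun x hx => mem_centralizer_iff.2 fun y hy =>
    PGroupsBasic.comm_of_isMulCommutative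
      (PGroupsBasic.isElementaryAbelian_of_card_eq_prime hP).1 hy hx
  have h1 : Q ≤ centralizer (T₁ : Set G) := le_centralizer_of_fixed_cyclic hp2
    (hT.isPGroup.to_le inf_le_left) hQc (card_prime_ne_bot hR) hRQ hfpf
    (hn hQT hQP) (hn hRT hRP) hcopQ hcopR (le_inf hPT hPc) hP hQP hRP
    (isCyclic_inf_centralizer hG hH hsH hr hR hRH
      (hT.isPGroup.to_le (inf_le_left.trans inf_le_left))
      ((inf_le_left.trans inf_le_left).trans hTα) inf_le_right)
  exact CoprimeGen.le_centralizer_of_prod_action hT.isPGroup (isPGroup_card_prime hP)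
    (fun hd => (Fact.out : p.Prime).coprime_iff_not_dvd.1 hcopQ.symm hd) hQT
    (hPT.trans le_normalizer) hQP (le_centralizer_iff.1 h1)

omit hH in
/-- A `p`-subgroup meets `M'` trivially when `p` does not divide `|M'|`. -/
theorem inf_commutator_eq_bot {M X : Subgroup G} {p : ℕ} [Fact p.Prime] (hX : IsPGroup p X)
    (hp : ¬ p ∣ Nat.card ↥⁅M, M⁆) : X ⊓ ⁅M, M⁆ = ⊥ := by
  by_contra h
  exact hp ((dvd_card_of_ne_bot (hX.to_le inf_le_left) h).trans (card_dvd_of_le inf_le_right))

omit hH in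
/-- `N_M(X) = C_M(X)` for a `p`-subgroup of `M` with `p` prime to `|M'|`. -/
theorem normalizer_le_centralizer_of_tau1 {M X : Subgroup G} {p : ℕ} [Fact p.Prime]
    (hX : IsPGroup p X) (hXM : X ≤ M) (hp : ¬ p ∣ Nat.card ↥⁅M, M⁆) {A : Subgroup G} (hAM : A ≤ M)
    (hAX : A ≤ normalizer (X : Set G)) : A ≤ centralizer (X : Set G) := by
  rw [← commutator_eq_bot_iff_le_centralizer, commutator_comm, ← le_bot_iff,
    ← inf_commutator_eq_bot hG hX hp]
  exact le_inf (le_normalizer_iff_commutator_le_left.1 hAX) (commutator_mono hXM hAM)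

/-- `M` and `H` cannot share a Sylow `q`-subgroup centralized by an element of order `p` in
`τ₁(M) ∩ α(H)`. -/
theorem no_tau1_alpha_centralizing_sylow {M : Subgroup G} (hM : IsCoatom M)
    (hne : ∀ g : G, H ≠ M.map (MulAut.conj g).toMonoidHom) {q : ℕ} [Fact q.Prime]
    (hqM : q ∈ Cfsg.sigma M) (hqH : q ∈ Cfsg.sigma H) {S : Subgroup G} (hS : IsMaxP q S M)
    (hSH : S ≤ H) {p : ℕ} [Fact p.Prime] (hp : p ∈ Cfsg.tau1 M) (hpH : p ∈ Cfsg.alpha H)
    {P : Subgroup G} (hPM : P ≤ M) (hP : Nat.card P = p) (hPS : P ≤ centralizer (S : Set G)) :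
    False := by
  have hStop := BGSigma.isMaxP_top_of_sigma hqM hS
  have hSHmax : IsMaxP q S H := isMaxP_mono hStop hSH le_top
  have hNM := BGSigma.normalizer_le_of_sigma hqM hS
  have hNH := BGSigma.normalizer_le_of_sigma hqH hSHmax
  have hPH : P ≤ H := hPS.trans ((centralizer_le_normalizer _).trans hNH)
  have hPM1 := hp.2.2.2.1
  have hqα : q ∉ Cfsg.alpha H := fun h => by
    obtain ⟨g, hg⟩ := BGSigma.conj_of_alpha_inter_sigma hG hH hM h hqM
    exact hne g⁻¹ (by rw [hg]; exact (BGTypeP.cj_inv_cj g H).symm)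
  have hSp := hS.isPGroup
  have hneM : H ≠ M := fun h => hne 1 (by rw [h]; exact (BGTypeP.cj_one M).symm)
  have hSab : IsMulCommutative S := by
    by_contra hab
    exact hneM (eq_of_unique (S1422.result hG q S hSp hab) hH hSH hM hS.le)
  -- non-nilpotent cores
  have hnil : ¬ Group.IsNilpotent ↥(Cfsg.sigmaCore H) := fun h => by
    obtain ⟨g, hg⟩ := BGSigma.conj_of_sigma_inter_of_nilpotent hG hH h hM hqH hqM
    exact hne g⁻¹ (by rw [hg]; exact (BGTypeP.cj_inv_cj g H).symm)
  -- a complement of `S` in its normalizer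
  set N := normalizer (S : Set G) with hN
  obtain ⟨S', hS'⟩ := hStop.exists_sylow_top
  haveI : (S.subgroupOf N).Normal := normal_in_normalizer
  have hcopS : (Nat.card (S.subgroupOf N)).Coprime (S.subgroupOf N).index := by
    obtain ⟨i, hi⟩ := IsPGroup.iff_card.1 hSp
    rw [Nat.card_congr (subgroupOfEquivOfLe le_normalizer).toEquiv, hi]
    refine Nat.Coprime.pow_left i ((Fact.out : q.Prime).coprime_iff_not_dvd.2 fun hd => ?_)
    refine S'.not_dvd_index ?_
    rw [hS', ← relIndex_mul_index (le_normalizer : S ≤ N)]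
    exact hd.mul_right _
  obtain ⟨V₀, hV₀⟩ := exists_right_complement'_of_coprime hcopS
  set V := V₀.map N.subtype with hV
  have hVN : V ≤ N := map_subtype_le _
  have hcompl : Cfsg.IsComplIn S V N := by
    refine ⟨le_normalizer, hVN, ?_, fun n hn => ?_⟩
    · rw [eq_bot_iff]
      rintro x ⟨hxS, y, hy, rfl⟩
      have : y ∈ S.subgroupOf N ⊓ V₀ := ⟨hxS, hy⟩
      rw [disjoint_iff.1 hV₀.disjoint, mem_bot] at this
      rw [this]
      exact one_mem _
    · obtain ⟨⟨⟨a, ha⟩, ⟨b, hb⟩⟩, hab⟩ := (hV₀.existsUnique ⟨n, hn⟩).exists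
      exact ⟨a, ha, b, mem_map_of_mem _ hb, (congrArg Subtype.val hab).symm⟩
  have hSV : S = ⁅S, V⁆ := by
    have h := (S1411.result hG q S' V (by rw [hS']; exact hcompl)).1
    rwa [hS'] at h
  -- the covering `N(S) = C(S) C_{N(S)}(P)`
  set C₀ := N ⊓ centralizer (P : Set G) with hC₀
  have hcover : ∀ n ∈ N, ∃ c ∈ centralizer (S : Set G), c * n ∈ C₀ := by
    intro n hn
    have hCn : N ≤ normalizer (centralizer (S : Set G) : Set G) := by
      intro x hx
      rw [mem_normalizer_iff]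
      have key : ∀ x ∈ N, ∀ c ∈ centralizer (S : Set G), x * c * x⁻¹ ∈ centralizer (S : Set G) := by
        intro x hx c hc
        refine mem_centralizer_iff.2 fun s hs => ?_
        have hs' : x⁻¹ * s * x ∈ S := by
          have h := (mem_normalizer_iff.1 (inv_mem hx) s).1 hs
          rwa [inv_inv] at h
        have h1 := mem_centralizer_iff.1 hc _ hs'
        calc s * (x * c * x⁻¹) = x * (x⁻¹ * s * x * c) * x⁻¹ := by group
          _ = x * (c * (x⁻¹ * s * x)) * x⁻¹ := by rw [h1]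
          _ = x * c * x⁻¹ * s := by group
      refine fun c => ⟨key x hx c, fun h => ?_⟩
      have := key x⁻¹ (inv_mem hx) _ h
      simpa [mul_assoc] using this
    have hCM : centralizer (S : Set G) ≤ M := (centralizer_le_normalizer _).trans hNM
    obtain ⟨T, hT, hPT⟩ := exists_isMaxP_ge (isPGroup_card_prime hP) hPS
    have hnP : MulAut.conj n • P ≤ centralizer (S : Set G) := by
      rintro _ ⟨x, hx, rfl⟩
      exact (mem_normalizer_iff.1 (hCn hn) x).1 (hPS hx)
    obtain ⟨c, hc, hcT⟩ := BGSigma.exists_conj_maxP hT hnP ((isPGroup_card_prime hP).map _)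
    refine ⟨c, hc, mul_mem (centralizer_le_normalizer _ hc) hn, ?_⟩
    have hTM : T ≤ M := hT.le.trans hCM
    have he : P = MulAut.conj c • MulAut.conj n • P := by
      haveI := isCyclic_of_rank_one hG hp.2.2.2.2 hT.isPGroup hTM
      letI : CommGroup T := IsCyclic.commGroup
      exact eq_of_commute hp.2.2.2.2 hPM (hcT.trans hTM) hP
        (by rw [CoprimeSZ.card_conj_smul, CoprimeSZ.card_conj_smul, hP]) fun x hx y hy =>
          congrArg Subtype.val (mul_comm (⟨x, hPT hx⟩ : T) ⟨y, hcT hy⟩)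
    have hcn : c * n ∈ normalizer (P : Set G) := CoprimeAction.mem_normalizer_of_conj_smul_eq (by
      rw [map_mul, mul_smul, ← he])
    exact normalizer_le_centralizer_of_tau1 hG (isPGroup_card_prime hP) hPM hPM1
      (A := M ⊓ normalizer (P : Set G)) inf_le_left inf_le_right
      ⟨M.mul_mem (hCM hc) (hNM hn), hcn⟩
  -- a Hall `α(H)'`-subgroup of `C₀` through `S`
  have hC₀H : C₀ ≤ H := inf_le_left.trans hNH
  have hSP : S ≤ centralizer (P : Set G) := le_centralizer_iff.1 hPS
  obtain ⟨W, hW, hSW⟩ := BGTypeP.exists_hallOf_ge (isSolvable_of_le_coatom hG hH hC₀H)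
    {r | r ∉ Cfsg.alpha H} (le_inf le_normalizer hSP) (BGSigma.piNat_of_isPGroup hSp hqα)
  have hWN : W ≤ N := hW.1.trans inf_le_left
  have hWH : W ≤ H := hW.1.trans hC₀H
  obtain ⟨T, hT, hPT, hTα, hWT⟩ := exists_invariant_alpha_sylow hG hH hpH hPH
    (isPGroup_card_prime hP) hWH (hW.1.trans inf_le_right) hW.2.1
  set Z := S ⊓ centralizer (T : Set G) with hZ
  have hWZ : W ≤ normalizer (Z : Set G) := by
    refine CoprimeAction.le_normalizer_inf hWN (hWT.trans ?_)
    intro x hx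
    rw [mem_normalizer_iff]
    have key : ∀ x ∈ normalizer (T : Set G), ∀ c ∈ centralizer (T : Set G),
        x * c * x⁻¹ ∈ centralizer (T : Set G) := by
      intro x hx c hc
      refine mem_centralizer_iff.2 fun t ht => ?_
      have ht' : x⁻¹ * t * x ∈ T := by
        have h := (mem_normalizer_iff.1 (inv_mem hx) t).1 ht
        rwa [inv_inv] at h
      have h1 := mem_centralizer_iff.1 hc _ ht'
      calc t * (x * c * x⁻¹) = x * (x⁻¹ * t * x * c) * x⁻¹ := by group
        _ = x * (c * (x⁻¹ * t * x)) * x⁻¹ := by rw [h1]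
        _ = x * c * x⁻¹ * t := by group
    refine fun c => ⟨key x hx c, fun h => ?_⟩
    have := key x⁻¹ (inv_mem hx) _ h
    simpa [mul_assoc] using this
  -- elements moving `S` only inside `Z`
  let J : Subgroup G :=
    { carrier := {v | v ∈ N ∧ v ∈ normalizer (Z : Set G) ∧ ∀ x ∈ S, ⁅x, v⁆ ∈ Z}
      one_mem' := ⟨one_mem _, one_mem _, fun x _ => by simp⟩
      mul_mem' := by
        rintro a b ⟨haN, haZ, ha⟩ ⟨hbN, hbZ, hb⟩
        refine ⟨mul_mem haN hbN, mul_mem haZ hbZ, fun x hx => ?_⟩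
        have h : ⁅x, a * b⁆ = ⁅x, a⁆ * (a * ⁅x, b⁆ * a⁻¹) := by
          simp only [commutatorElement_def]; group
        rw [h]
        exact mul_mem (ha x hx) ((mem_normalizer_iff.1 haZ _).1 (hb x hx))
      inv_mem' := by
        rintro a ⟨haN, haZ, ha⟩
        refine ⟨inv_mem haN, inv_mem haZ, fun x hx => ?_⟩
        have h : ⁅x, a⁻¹⁆ = a⁻¹ * ⁅x, a⁆⁻¹ * a⁻¹⁻¹ := by
          simp only [commutatorElement_def]; group
        rw [h]
        exact (mem_normalizer_iff.1 (inv_mem haZ) _).1 (inv_mem (ha x hx)) }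
  have hCJ : centralizer (S : Set G) ≤ J := fun c hc =>
    ⟨centralizer_le_normalizer _ hc,
      mem_normalizer_iff.2 fun z =>
        ⟨fun hz => by
          rw [← mem_centralizer_iff.1 hc z hz.1, mul_inv_cancel_right]; exact hz,
        fun hz => by
          have h1 := mem_centralizer_iff.1 hc _ hz.1
          have h2 : c * z * c⁻¹ = z := by
            calc c * z * c⁻¹ = c⁻¹ * (c * z * c⁻¹ * c) := by rw [h1]; group
              _ = z := by group
          rwa [h2] at hz⟩,
      fun x hx => by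
        rw [commutatorElement_eq_one_iff_commute.2 (mem_centralizer_iff.1 hc x hx)]
        exact one_mem _⟩
  have hWJ : W ≤ J := by
    refine le_of_qgroups fun s hs => ?_
    haveI := Fact.mk hs
    obtain ⟨W₁⟩ := (inferInstance : Nonempty (Sylow s W))
    refine ⟨(W₁ : Subgroup W).map W.subtype, map_subtype_le _, fun v hv => ?_,
      by rw [card_map_of_injective W.subtype_injective]; exact W₁.card_eq_multiplicity⟩
    have hvW : v ∈ W := map_subtype_le _ hv
    have hvp : IsPGroup s ↥(zpowers v) := (W₁.isPGroup'.map W.subtype).to_le (zpowers_le.2 hv)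
    refine ⟨hWN hvW, hWZ hvW, fun x hx => ?_⟩
    by_cases hv1 : v = 1
    · simp [hv1]
    by_cases hsq : s = q
    · subst hsq
      have hle : zpowers v ≤ normalizer (S : Set G) := zpowers_le.2 (hWN hvW)
      have h2 := hStop.eq_of_le _ (le_sup_left : S ≤ S ⊔ zpowers v) le_top
        (IsPGroup.to_sup_of_normal_left' hSp hvp hle)
      have hvS : v ∈ S := h2 ▸ mem_sup_right (mem_zpowers v)
      rw [commutatorElement_eq_one_iff_commute.2 (PGroupsBasic.comm_of_isMulCommutative hSab hx hvS)]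
      exact one_mem _
    have hcopvS : (Nat.card ↥(zpowers v)).Coprime (Nat.card S) := by
      obtain ⟨i, hi⟩ := IsPGroup.iff_card.1 hvp
      obtain ⟨j, hj⟩ := IsPGroup.iff_card.1 hSp
      rw [hi, hj]
      exact ((Nat.coprime_primes hs Fact.out).2 hsq).pow i j
    by_cases hsH : s ∈ Cfsg.sigma H
    · have h1 := commutator_le_beta hG hH
        (le_commutator_of_sigma_tau3 hG hH (Or.inl hqH) hSp hSH)
        (le_commutator_of_sigma_tau3 hG hH (Or.inl hsH) hvp (zpowers_le.2 (hWH hvW))) hcopvS.symm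
      have hmem : ⁅x, v⁆ ∈ S ⊓ Cfsg.piCoreOf (Cfsg.beta H) H :=
        ⟨le_normalizer_iff_commutator_le_left.1 (zpowers_le.2 (hWN hvW))
            (commutator_mem_commutator hx (mem_zpowers v)),
          h1 (commutator_mem_commutator hx (mem_zpowers v))⟩
      rw [inf_betaCore_eq_bot hG hH hM hne (fun r hr hd =>
        BGSigma.piNat_of_isPGroup hSp hqM r hr hd), mem_bot] at hmem
      rw [hmem]
      exact one_mem _
    have hr1 : Cfsg.PRankLE s 1 H := by
      by_contra hr
      obtain ⟨A, hAH, hA, hAc⟩ := exists_sq_of_not_rank_one hr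
      exact hnil (S1417.result hG H hH s ⟨hs, hsH, BGSigma.outside_alpha hG hH hs hsH, hr⟩ A
        ⟨hAH, hA, hAc⟩).1
    obtain ⟨s', hs', hs'v, v₁, hv₁, hv₁o⟩ := BGTypeP.exists_prime_order (orderOf_pos v).ne' hv1
    obtain ⟨i, hi⟩ := IsPGroup.iff_card.1 hvp
    rw [Nat.card_zpowers] at hi
    rw [hi] at hs'v
    have hss := (Nat.prime_dvd_prime_iff_eq hs' hs).1 (hs'.dvd_of_dvd_pow hs'v)
    subst hss
    set R := zpowers v₁ with hR
    have hRc : Nat.card R = s' := by rw [Nat.card_zpowers, hv₁o]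
    have hRv : R ≤ zpowers v := zpowers_le.2 hv₁
    have hRW : R ≤ W := hRv.trans (zpowers_le.2 hvW)
    have hRS : R ≤ normalizer (S : Set G) := hRW.trans hWN
    have hcopRS : (Nat.card R).Coprime (Nat.card S) := hcopvS.coprime_dvd_left (card_dvd_of_le hRv)
    have hSs : Group.IsSolvable R ∨ Group.IsSolvable S :=
      Or.inl (CoprimeAction.isSolvable_zpowers v₁)
    set Q := ⁅S, R⁆ with hQ
    have hQS : Q ≤ S := le_normalizer_iff_commutator_le_left.1 hRS
    haveI := hSab
    have hQfix : Q ⊓ centralizer (R : Set G) = ⊥ := by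
      rw [eq_bot_iff, ← CoprimeAction.inf_centralizer_inf_commutator_eq_bot hRS hcopRS]
      exact le_inf (le_inf (inf_le_left.trans hQS) inf_le_right) inf_le_left
    have hQT : Q ≤ centralizer (T : Set G) := by
      refine le_centralizer_alpha_sylow hG hH hsH hr1 hT hTα hPT hP ?_ hRc (hRW.trans hWH)
        (normalizer_commutator_ge_right S R) (fun r hr hr1' => ?_) (hQS.trans (hSW.trans hWT))
        (hRW.trans hWT) ?_ ?_ (hQS.trans hSP) (hRW.trans (hW.1.trans inf_le_right))
      · exact PGroupsBasic.isMulCommutative_of_forall fun a ha b hb =>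
          PGroupsBasic.comm_of_isMulCommutative hSab (hQS ha) (hQS hb)
      · rw [eq_bot_iff, ← hQfix]
        refine le_inf inf_le_left (fun y hy => mem_centralizer_iff.2 ?_)
        have hgen : zpowers r = R := eq_of_le_of_card_ge (zpowers_le.2 hr) (by
          rw [hRc, Nat.card_zpowers]
          have hd : orderOf r ∣ s' := hRc ▸ R.orderOf_dvd_natCard hr
          rcases (Nat.dvd_prime hs).1 hd with h | h
          · exact absurd (orderOf_eq_one_iff.1 h) hr1'
          · exact h.ge)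
        rw [← hgen]
        rintro _ ⟨j, rfl⟩
        exact (Commute.zpow_left (mem_centralizer_singleton_iff.1 hy.2).symm j).eq
      · obtain ⟨j, hj⟩ := IsPGroup.iff_card.1 (hSp.to_le hQS)
        rw [hj]
        exact ((Nat.coprime_primes Fact.out Fact.out).2 fun (h : q = p) => hqα (h ▸ hpH)).pow_left j
      · exact fun h => hsH (h ▸ BGSigma.alpha_subset hG hH hpH)
    have hx' : x ∈ Q ⊔ (S ⊓ centralizer (R : Set G)) := by
      rw [CoprimeAction.commutator_sup_centralizer_eq hRS hcopRS hSs]; exact hx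
    obtain ⟨y, hy, c, hc, rfl⟩ := CoprimeAction.exists_mul_fixed hRS hcopRS hSs hx
    have hcv : Commute c v := prime_action_element hG hH hsH hr1 (hWH hvW) hvp hv₁
      (fun h => by rw [h, orderOf_one] at hv₁o; exact hs.one_lt.ne hv₁o)
      (BGTypeP.le_sigmaCore hG hH hSH (BGSigma.piNat_of_isPGroup hSp hqH) hc.1)
      (mem_centralizer_iff.1 hc.2 v₁ (mem_zpowers v₁)).symm
    have he : ⁅y * c, v⁆ = ⁅y, v⁆ := by
      simp only [commutatorElement_def]
      rw [show y * c * v * (y * c)⁻¹ = y * (c * v) * c⁻¹ * y⁻¹ by group, hcv.eq]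
      group
    have hyZ : y ∈ Z := ⟨hQS hy, hQT hy⟩
    rw [he, commutatorElement_def, show y * v * y⁻¹ * v⁻¹ = y * (v * y⁻¹ * v⁻¹) by group]
    exact mul_mem hyZ ((mem_normalizer_iff.1 (hWZ hvW) _).1 (inv_mem hyZ))
  have hαS : C₀ ⊓ Cfsg.alphaCore H ≤ centralizer (S : Set G) := by
    rw [← commutator_eq_bot_iff_le_centralizer, commutator_comm, eq_bot_iff]
    have h1 : S ⊓ Cfsg.alphaCore H = ⊥ := inf_eq_bot_of_coprime (Nat.coprime_of_dvd fun r hr h1 h2 =>
      (BGSigma.piNat_of_isPGroup (π := {r | r ∉ Cfsg.alpha H}) hSp hqα r hr h1)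
        (BGSigma.dvd_alphaCore hG hH hr h2))
    rw [← h1]
    refine le_inf (le_normalizer_iff_commutator_le_left.1 (inf_le_left.trans inf_le_left)) ?_
    rw [commutator_comm]
    exact (commutator_mono inf_le_right le_rfl).trans
      (le_normalizer_iff_commutator_le_left.1 (hSH.trans (BGSigma.le_normalizer_core _ H)))
  have hC₀J : C₀ ≤ J := by
    set W' := (C₀ ⊓ Cfsg.alphaCore H) ⊔ W with hW'
    have hW'C : W' ≤ C₀ := sup_le inf_le_left hW.1
    refine le_trans (relIndex_eq_one.1 ?_) (sup_le (hαS.trans hCJ) hWJ)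
    by_contra hne1
    obtain ⟨r, hr, hd⟩ := Nat.exists_prime_and_dvd hne1
    have h1 : r ∣ W.relIndex C₀ := hd.trans (relIndex_dvd_of_le_left C₀ le_sup_right)
    have h2 : r ∣ (C₀ ⊓ Cfsg.alphaCore H).relIndex C₀ :=
      hd.trans (relIndex_dvd_of_le_left C₀ le_sup_left)
    have hrα : r ∈ Cfsg.alpha H := by_contra fun h => hW.2.2 r hr h h1
    rw [inf_relIndex_left] at h2
    haveI : ((Cfsg.alphaCore H).subgroupOf H).Normal :=
      normal_subgroupOf_of_le_normalizer (BGSigma.le_normalizer_core (Cfsg.alpha H) H)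
    refine (BGSigma.hall_alpha hG hH).1.2.2 r hr hrα (h2.trans ?_)
    rw [← relIndex_subgroupOf hC₀H]
    exact relIndex_dvd_index_of_normal _ _
  have hSZ : S ≤ Z := by
    intro x hx
    have hx' : x ∈ ⁅S, V⁆ := hSV ▸ hx
    refine (commutator_le.2 fun a ha v hv => ?_ : ⁅S, V⁆ ≤ Z) hx'
    obtain ⟨c, hc, hcn⟩ := hcover v (hVN hv)
    have hvJ : v ∈ J := by
      have := J.mul_mem (J.inv_mem (hCJ hc)) (hC₀J hcn)
      rwa [inv_mul_cancel_left] at this
    exact hvJ.2.2 a ha
  have hTM : T ≤ M := by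
    have h : S ≤ centralizer (T : Set G) := hSZ.trans inf_le_right
    exact (le_centralizer_iff.1 h).trans ((centralizer_le_normalizer _).trans hNM)
  exact BGSigma.pRankLE_of_isMaxP hT hpH.2
    (pRankLE_le hTM (pRankLE_mono (Fact.out : p.Prime).ne_zero one_le_two hp.2.2.2.2))

end Cfsg.Agent.BGPrime
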