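import Cfsg.Agent.Lib.BGPrimeAction
import Cfsg.Agent.Lib.BGPrimeBetaAct

/-!
Bender-Glauberman 13.4: the cases.
-/

set_option autoImplicit false
set_option linter.style.haveILetI false

namespace Cfsg.Agent.BGPrime

open Subgroup
open Cfsg.Agent.BGUnique
open Cfsg.Agent.HallCore
open scoped commutatorElement Pointwise

universe u

variable {G : Type u} [Group G] [Finite G]

theorem tau1_conj {M : Subgroup G} {p : ℕ} (g : G) (hp : p ∈ Cfsg.tau1 M) :
    p ∈ Cfsg.tau1 (M.map (MulAut.conj g).toMonoidHom) := by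
  obtain ⟨h1, h2, h3, h4, h5⟩ := hp
  refine ⟨h1, fun h => h2 ?_, ?_, ?_, pRankLE_conj g h5⟩
  · have e := BGTypeP.sigma_cj g M
    exact e ▸ h
  · rw [card_map_of_injective (MulAut.conj g).injective]; exact h3
  · rw [← map_commutator, card_map_of_injective (MulAut.conj g).injective]; exact h4

variable (hG : Cfsg.IsMinSimpleOddOrder G)
include hG

omit hG in
/-- An abelian Sylow subgroup centralized by its normalizer avoids the derived group. -/
theorem false_of_central_sylow {p : ℕ} [Fact p.Prime] {L T : Subgroup G} (hT : IsMaxP p T L)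
    (hTc : IsMulCommutative T) (hTD : T ≤ ⁅L, L⁆) (hT1 : T ≠ ⊥)
    (hN : L ⊓ normalizer (T : Set G) ≤ centralizer (T : Set G)) : False := by
  obtain ⟨P, hP⟩ := hT.exists_sylow
  have hPc : ∀ x y : (P : Subgroup L), Commute x y := fun x y => Subtype.ext (Subtype.ext
    (PGroupsBasic.comm_of_isMulCommutative hTc (hP ▸ mem_map_of_mem L.subtype x.2)
      (hP ▸ mem_map_of_mem L.subtype y.2)))
  haveI : IsMulCommutative (P : Subgroup L) := ⟨⟨fun x y => (hPc x y).eq⟩⟩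
  have hNP : normalizer ((P : Subgroup L) : Set L) ≤ centralizer ((P : Subgroup L) : Set L) := by
    intro n hn
    refine mem_centralizer_iff.2 fun y hy => Subtype.ext ?_
    have hnN : (n : G) ∈ normalizer (T : Set G) := by
      rw [← hP]
      exact (le_normalizer_map L.subtype) ⟨n, hn, rfl⟩
    exact mem_centralizer_iff.1 (hN ⟨n.2, hnN⟩) _ (hP ▸ mem_map_of_mem L.subtype hy)
  refine hT1 (eq_bot_iff.2 ?_)
  intro t ht
  obtain ⟨t', ht', rfl⟩ : t ∈ (P : Subgroup L).map L.subtype := hP.symm ▸ ht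
  have h1 : t' ∈ commutator L := by
    have h2 : (t' : G) ∈ ⁅L, L⁆ := hTD ht
    rw [← map_subtype_commutator] at h2
    obtain ⟨y, hy, hyt⟩ := h2
    exact Subtype.ext hyt ▸ hy
  letI : CommGroup (P : Subgroup L) :=
    { (inferInstance : Group (P : Subgroup L)) with mul_comm := fun x y => (hPc x y).eq }
  have h3 : t' ∈ (MonoidHom.transferSylow P hNP).ker :=
    Abelianization.commutator_subset_ker (MonoidHom.transferSylow P hNP) h1
  have h4 : t' ∈ (MonoidHom.transferSylow P hNP).ker ⊓ (P : Subgroup L) := ⟨h3, ht'⟩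
  rw [disjoint_iff.1 (MonoidHom.ker_transferSylow_disjoint P hNP _ P.isPGroup'), mem_bot] at h4
  rw [h4]
  exact one_mem _

omit hG in
/-- A Sylow `p`-subgroup in `L'` centralizing a Sylow `q`-subgroup `S` cannot be centralized by all of
its normalizer in `N_L(S)`. -/
theorem false_of_commuting_sylow {p q : ℕ} [Fact p.Prime] [Fact q.Prime] {L T S : Subgroup G}
    (hT : IsMaxP p T L) (hTc : IsMulCommutative T) (hTD : T ≤ ⁅L, L⁆) (hT1 : T ≠ ⊥)
    (hS : IsMaxP q S L) (hTS : T ≤ centralizer (S : Set G))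
    (h : L ⊓ normalizer (S : Set G) ⊓ normalizer (T : Set G) ≤ centralizer (T : Set G)) : False := by
  refine false_of_central_sylow hT hTc hTD hT1 fun n ⟨hnL, hn⟩ => ?_
  set K := L ⊓ centralizer (T : Set G) with hK
  have hSK : S ≤ K := le_inf hS.le (le_centralizer_iff.1 hTS)
  have hSK' := isMaxP_mono hS hSK inf_le_left
  have hle : MulAut.conj n • S ≤ K := by
    rintro _ ⟨y, hy, rfl⟩
    refine ⟨L.mul_mem (L.mul_mem hnL (hS.le hy)) (L.inv_mem hnL), mem_centralizer_iff.2 fun t ht => ?_⟩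
    have ht' : n⁻¹ * t * n ∈ T := by
      have h := (mem_normalizer_iff.1 (inv_mem hn) t).1 ht
      rwa [inv_inv] at h
    have h1 := mem_centralizer_iff.1 (hSK hy).2 _ ht'
    show t * (n * y * n⁻¹) = n * y * n⁻¹ * t
    calc t * (n * y * n⁻¹) = n * (n⁻¹ * t * n * y) * n⁻¹ := by group
      _ = n * (y * (n⁻¹ * t * n)) * n⁻¹ := by rw [h1]
      _ = n * y * n⁻¹ * t := by group
  obtain ⟨c, hc, hcS⟩ := BGSigma.exists_conj_maxP hSK' hle (hS.isPGroup.map _)
  have hcn : c * n ∈ normalizer (S : Set G) := CoprimeAction.mem_normalizer_of_conj_smul_eq (by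
    rw [map_mul, mul_smul]
    exact eq_of_le_of_card_ge hcS (by rw [CoprimeSZ.card_conj_smul, CoprimeSZ.card_conj_smul]))
  have h2 := h ⟨⟨L.mul_mem hc.1 hnL, hcn⟩, mul_mem (centralizer_le_normalizer _ hc.2) hn⟩
  have := Subgroup.mul_mem _ (Subgroup.inv_mem _ (show c ∈ centralizer (T : Set G) from hc.2)) h2
  rwa [inv_mul_cancel_left] at this

omit [Finite G] hG in
theorem le_commutator_of_conj_le {L T : Subgroup G} {m : G} (hm : m ∈ L)
    (h : MulAut.conj m • T ≤ ⁅L, L⁆) : T ≤ ⁅L, L⁆ := fun x hx => by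
  have h1 : m * x * m⁻¹ ∈ ⁅L, L⁆ := h ⟨x, hx, rfl⟩
  exact (mem_normalizer_iff.1 ((le_normalizer.trans (le_normalizer_commutator_self L)) hm) x).2 h1

/-- The transfer argument for `τ₁(M)`. -/
theorem no_commuting_tau1 {L : Subgroup G} (hL : IsCoatom L) {M : Subgroup G}
    {p q : ℕ} [Fact p.Prime] [Fact q.Prime] (hp : p ∈ Cfsg.tau1 M) (hpq : p ≠ q)
    (hpb : p ∉ Cfsg.beta L) (hqb : q ∉ Cfsg.beta L) {S : Subgroup G} (hS : IsMaxP q S L)
    (hSD : S ≤ ⁅L, L⁆) (hSM : normalizer (S : Set G) ≤ M) {T₀ : Subgroup G}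
    (hT₀ : IsMaxP p T₀ L) (hT₀D : T₀ ≤ ⁅L, L⁆) (hT₀1 : T₀ ≠ ⊥) : False := by
  obtain ⟨T, hT, hTS⟩ := exists_commuting_sylow hG hL hpq hpb hqb hS.isPGroup hSD hT₀ hT₀D
  have hTM : T ≤ M := hTS.trans ((centralizer_le_normalizer _).trans hSM)
  haveI hcyc := isCyclic_of_rank_one hG hp.2.2.2.2 hT.isPGroup hTM
  obtain ⟨m, hm, hmT⟩ := BGSigma.exists_conj_maxP hT₀ hT.le hT.isPGroup
  refine false_of_commuting_sylow hT IsCyclic.isMulCommutative
    (le_commutator_of_conj_le hm (hmT.trans hT₀D)) ?_ hS hTS fun n hn => ?_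
  · intro h0
    have := BGSigma.isMaxP_card hT hT₀
    rw [h0, card_bot] at this
    exact hT₀1 (eq_bot_of_card_eq _ this.symm)
  · exact normalizer_le_centralizer_of_tau1 hG hT.isPGroup hTM hp.2.2.2.1
      (A := M ⊓ normalizer (T : Set G)) inf_le_left inf_le_right ⟨hSM hn.1.2, hn.2⟩

/-- `B` normalizes `P` when it normalizes a subgroup of a nilpotent `L_σ ∩ M` around `P`. -/
theorem normalizes_of_nilpotent_core {L M : Subgroup G} (hnil : Group.IsNilpotent ↥(Cfsg.sigmaCore L))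
    {p : ℕ} [Fact p.Prime] (hr : Cfsg.PRankLE p 1 M) {P B X : Subgroup G} (hP : Nat.card P = p)
    (hPY : P ≤ Cfsg.sigmaCore L ⊓ M ⊓ centralizer (X : Set G)) (hBL : B ≤ L) (hBM : B ≤ M)
    (hBX : B ≤ centralizer (X : Set G)) : B ≤ normalizer (P : Set G) := by
  set Y := Cfsg.sigmaCore L ⊓ M ⊓ centralizer (X : Set G) with hY
  have hBn : B ≤ normalizer (Y : Set G) := CoprimeAction.le_normalizer_inf
    (CoprimeAction.le_normalizer_inf (hBL.trans (le_normalizer_sigmaCore L))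
      (hBM.trans le_normalizer)) (hBX.trans le_normalizer)
  haveI hYnil : Group.IsNilpotent Y :=
    ComponentsCores.nilpotent_of_le (inf_le_left.trans inf_le_left) hnil
  obtain ⟨T, hT⟩ := ((isPGroup_card_prime hP).comap_of_injective Y.subtype
    Y.subtype_injective).exists_le_sylow
  have hTn : (T : Subgroup Y).Normal :=
    Sylow.normal_of_normalizerCondition Group.normalizerCondition_of_isNilpotent T
  haveI : (T : Subgroup Y).Characteristic := Sylow.characteristic_of_normal T hTn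
  refine normalizes_order_p hG hr (T.isPGroup'.map _)
    ((map_subtype_le _).trans (inf_le_left.trans inf_le_right)) ?_ hP
    (hBn.trans (ComponentsCores.normalizer_le_normalizer_map_subtype Y _))
  rw [← map_subgroupOf_eq_of_le hPY]
  exact map_mono hT

variable {M H : Subgroup G} (hM : IsCoatom M) (hH : IsCoatom H)
  {p q : ℕ} [hpp : Fact p.Prime] [hqq : Fact q.Prime] (hp : p ∈ Cfsg.tau1 M) {P X : Subgroup G}
  (hPM : P ≤ M) (hP : Nat.card P = p) (hN : normalizer (P : Set G) ≤ H) (hpH : p ∈ Cfsg.sigma H)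
  (hX : Nat.card X = q) (hXC : X ≤ Cfsg.sigmaCore M ⊓ centralizer (P : Set G))
  (hqH : q ∉ Cfsg.sigma H)
include hM hH hp hPM hP hN hpH hX hXC hqH

/-- The case `q ∈ τ₂(H)`. -/
theorem not_tau2_case : q ∉ Cfsg.tau2 H := by
  intro hq2
  have hXH : X ≤ H := (hXC.trans inf_le_right).trans ((centralizer_le_normalizer _).trans hN)
  have hXM : X ≤ M := hXC.trans (inf_le_left.trans (sigmaCore_le M))
  have hX1 := card_prime_ne_bot hX
  have hqM : q ∈ Cfsg.sigma M := piNat_sigmaCore M q Fact.out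
    (hX ▸ card_dvd_of_le (hXC.trans inf_le_left))
  have hne := not_conj_of_normalizer hG hM hH (Or.inl hp) hP hN
  have hneM : H ≠ M := fun h => hne 1 (by rw [h]; exact (BGTypeP.cj_one M).symm)
  obtain ⟨E, hE, hXE⟩ := exists_compl_ge hG hH hXH fun r hr hd => by
    rw [hX] at hd
    exact (Nat.prime_dvd_prime_iff_eq hr Fact.out).1 hd ▸ hqH
  obtain ⟨B₀, hB₀E, hB₀, hB₀c⟩ := exists_sq_in_compl hG hH hE hq2
  obtain ⟨⟨-, hB₀X⟩, -, h3⟩ := S1418.result hG H hH E hE q hq2 B₀ ⟨hB₀E, hB₀, hB₀c⟩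
  have hPH : P ≤ H := le_normalizer.trans hN
  have hPσ : P ≤ Cfsg.sigmaCore H :=
    BGTypeP.le_sigmaCore hG hH hPH (BGSigma.piNat_of_isPGroup (isPGroup_card_prime hP) hpH)
  have hPX : P ≤ centralizer (X : Set G) := le_centralizer_iff.1 (hXC.trans inf_le_right)
  obtain ⟨hCX, huniq⟩ := h3 X (hB₀X X hXE hX) hX fun h =>
    card_prime_ne_bot hP (le_bot_iff.1 (h ▸ le_inf hPσ hPX))
  have hNX : normalizer (X : Set G) ≤ H := by
    obtain ⟨L, hL, hNL⟩ := exists_coatom_ge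
      (BGSigma.normalizer_ne_top' hG hX1 fun h => hM.1 (top_le_iff.1 (h ▸ hXM)))
    rwa [huniq L hL ((centralizer_le_normalizer _).trans hNL)] at hNL
  obtain ⟨S, hS, hXS⟩ := exists_isMaxP_ge (isPGroup_card_prime hX) (le_inf hXM hXH)
  obtain ⟨S', hS'⟩ := hS.exists_sylow
  obtain ⟨-, -, hSidx⟩ := S1424.result hG M hM q hqM X (isPGroup_card_prime hX) hX1 hXM H hH hneM
    hNX S' (by rw [hS']; exact hXS)
  rw [hS'] at hSidx
  have hSH := isMaxP_of_relIndex hS.isPGroup (hS.le.trans inf_le_right) hSidx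
  obtain ⟨B₁, hB₁H, hB₁, hB₁c⟩ := exists_sq_of_not_rank_one hq2.2.2.2
  obtain ⟨l, -, hl⟩ := BGSigma.exists_conj_maxP hSH hB₁H
    (PGroupsBasic.isPGroup_of_isElementaryAbelian hB₁)
  set B := MulAut.conj l • B₁ with hBdef
  have hB : Cfsg.IsElementaryAbelian q B := PGroupsBasic.isElementaryAbelian_map_hom hB₁ _
  have hBc : Nat.card B = q ^ 2 := by rw [CoprimeSZ.card_conj_smul, hB₁c]
  have hBM : B ≤ M := hl.trans (hS.le.trans inf_le_left)
  have hBH : B ≤ H := hl.trans hSH.le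
  obtain ⟨hnil, hSyl, -, hCB, -⟩ := S1417.result hG H hH q hq2 B ⟨hBH, hB, hBc⟩
  obtain ⟨SH, hSHe⟩ := hSH.exists_sylow
  have hXB : X ≤ B := fun y hy => (((hSyl SH).2 (hSHe ▸ hl)).1 y (hSHe ▸ hXS hy)).1
    ((PGroupsBasic.isElementaryAbelian_of_card_eq_prime hX).2 y hy)
  have hBX : B ≤ centralizer (X : Set G) := fun b hb => mem_centralizer_iff.2 fun y hy =>
    PGroupsBasic.comm_of_isMulCommutative hB.1 (hXB hy) hb
  have hBP := normalizes_of_nilpotent_core hG hnil hp.2.2.2.2 hP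
    (le_inf (le_inf hPσ hPM) hPX) hBH hBM hBX
  have hBCP : B ≤ centralizer (P : Set G) :=
    normalizer_le_centralizer_of_tau1 hG (isPGroup_card_prime hP) hPM hp.2.2.2.1 hBM hBP
  exact card_prime_ne_bot hP (le_bot_iff.1 (hCB ▸ le_inf hPσ (le_centralizer_iff.1 hBCP)))

/-- The case `q ∈ τ₃(H)`, `p ∉ β(H)`. -/
theorem not_tau3_case (hpb : p ∉ Cfsg.beta H) (hq3 : q ∈ Cfsg.tau3 H) : False := by
  have hXH : X ≤ H := (hXC.trans inf_le_right).trans ((centralizer_le_normalizer _).trans hN)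
  have hXM : X ≤ M := hXC.trans (inf_le_left.trans (sigmaCore_le M))
  have hX1 := card_prime_ne_bot hX
  have hXp := isPGroup_card_prime hX
  have hqM : q ∈ Cfsg.sigma M := piNat_sigmaCore M q Fact.out
    (hX ▸ card_dvd_of_le (hXC.trans inf_le_left))
  have hne := not_conj_of_normalizer hG hM hH (Or.inl hp) hP hN
  have hpq : p ≠ q := fun h => hp.2.1 (h ▸ hqM)
  have hqr : Cfsg.PRankLE q 1 H := hq3.2.2.2
  have hPX : P ≤ centralizer (X : Set G) := le_centralizer_iff.1 (hXC.trans inf_le_right)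
  have hqb : q ∉ Cfsg.beta H := fun h => hqH (BGSigma.alpha_subset hG hH h.1)
  obtain ⟨S₀, hS₀, hXS₀⟩ := exists_isMaxP_ge hXp hXH
  have hS₀D := le_commutator_of_sigma_tau3 hG hH (Or.inr hq3) hS₀.isPGroup hS₀.le
  have hPH : P ≤ H := le_normalizer.trans hN
  obtain ⟨T₀, hT₀, hPT₀⟩ := exists_isMaxP_ge (isPGroup_card_prime hP) hPH
  obtain ⟨T, hT, hTS⟩ := exists_commuting_sylow hG hH hpq hpb hqb hS₀.isPGroup hS₀D hT₀
    (BGSigma.le_commutator hG hH hpH hT₀)
  have hNS : normalizer (S₀ : Set G) ≤ normalizer (X : Set G) :=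
    normalizes_order_p hG hqr hS₀.isPGroup hS₀.le hXS₀ hX le_rfl
  obtain ⟨L, hL, hNL⟩ := exists_coatom_ge
    (BGSigma.normalizer_ne_top' hG hX1 fun h => hM.1 (top_le_iff.1 (h ▸ hXM)))
  have hCL : centralizer (X : Set G) ≤ L := (centralizer_le_normalizer _).trans hNL
  have hTL : T ≤ L := (hTS.trans (centralizer_le (show (X : Set G) ⊆ S₀ from hXS₀))).trans hCL
  have hPL : P ≤ L := hPX.trans hCL
  have hfin : ∀ N : Subgroup G, T ≤ N → p ∈ Cfsg.tau1 N → normalizer (X : Set G) ≤ N → False := by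
    intro N hTN hpN hXN
    haveI := isCyclic_of_rank_one hG hpN.2.2.2.2 hT.isPGroup hTN
    refine false_of_commuting_sylow hT IsCyclic.isMulCommutative
      (BGSigma.le_commutator hG hH hpH hT) ?_ hS₀ hTS fun n hn => ?_
    · intro h0
      have := BGSigma.isMaxP_card hT hT₀
      rw [h0, card_bot] at this
      exact card_prime_ne_bot hP (le_bot_iff.1 (eq_bot_of_card_eq _ this.symm ▸ hPT₀))
    · exact normalizer_le_centralizer_of_tau1 hG hT.isPGroup hTN hpN.2.2.2.1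
        (A := N ⊓ normalizer (T : Set G)) inf_le_left inf_le_right ⟨hXN (hNS hn.1.2), hn.2⟩
  by_cases hLM : L = M
  · exact hfin M (hLM ▸ hTL) hp (hLM ▸ hNL)
  by_cases hp1 : p ∈ Cfsg.tau1 L
  · exact hfin L hTL hp1 hNL
  have hLH : L ≠ H := fun h => (S1409.result hG H hH q hqH X hX (h ▸ hNL)).1.2 hqr
  obtain ⟨S, hS, hXS⟩ := exists_isMaxP_ge hXp (le_inf hXM (le_normalizer.trans hNL))
  obtain ⟨S', hS'⟩ := hS.exists_sylow
  obtain ⟨hLne, hNSM, hSidx⟩ :=
    S1424.result hG M hM q hqM X hXp hX1 hXM L hL hLM hNL S' (by rw [hS']; exact hXS)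
  rw [hS'] at hNSM hSidx
  have hSL := isMaxP_of_relIndex hS.isPGroup (hS.le.trans inf_le_right) hSidx
  have hSM : S ≤ M := hS.le.trans inf_le_left
  by_cases hqL : q ∈ Cfsg.sigma L
  · have hqbL : q ∉ Cfsg.beta L := fun hb => by
      obtain ⟨g, hg⟩ := BGSigma.conj_of_alpha_inter_sigma hG hL hM hb.1 hqM
      exact hLne g⁻¹ (by rw [hg]; exact (BGTypeP.cj_inv_cj g L).symm)
    have hpbL : p ∉ Cfsg.beta L := fun hb => by
      obtain ⟨g, hg⟩ := BGSigma.conj_of_alpha_inter_sigma hG hL hH hb.1 hpH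
      have e := BGTypeP.sigma_cj g L
      exact hqH (by rw [hg]; exact e.symm ▸ hqL)
    obtain ⟨TL, hTLm, hPTL⟩ := exists_isMaxP_ge (isPGroup_card_prime hP) hPL
    have hTL1 : TL ≠ ⊥ := ne_bot_of_le_ne_bot (card_prime_ne_bot hP) hPTL
    have hSD := le_commutator_of_sigma_tau3 hG hL (Or.inl hqL) hS.isPGroup hSL.le
    by_cases hpL : p ∈ Cfsg.sigma L
    · exact no_commuting_tau1 hG hL hp hpq hpbL hqbL hSL hSD hNSM hTLm
        (BGSigma.le_commutator hG hL hpL hTLm) hTL1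
    by_cases hpr : Cfsg.PRankLE p 1 L
    · have hd : p ∣ Nat.card ↥⁅L, L⁆ := by_contra fun hd =>
        hp1 ⟨Fact.out, hpL, hP ▸ card_dvd_of_le hPL, hd, hpr⟩
      exact no_commuting_tau1 hG hL hp hpq hpbL hqbL hSL hSD hNSM hTLm
        (le_commutator_of_sigma_tau3 hG hL (Or.inr ⟨Fact.out, hpL, hd, hpr⟩) hTLm.isPGroup hTLm.le)
        hTL1
    obtain ⟨A, hAL, hA, hAc⟩ := exists_sq_of_not_rank_one hpr
    obtain ⟨g, hg⟩ := BGSigma.conj_of_sigma_inter_of_nilpotent hG hL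
      (S1417.result hG L hL p (mem_tau2_of_not_rank_one hG hL hpL hpr) A ⟨hAL, hA, hAc⟩).1
      hM hqL hqM
    exact hLne g⁻¹ (by rw [hg]; exact (BGTypeP.cj_inv_cj g L).symm)
  -- `q ∈ τ₂(L)`
  have hqL2 := mem_tau2_of_not_rank_one hG hL hqL (S1409.result hG L hL q hqL X hX hNL).1.2
  obtain ⟨B₁, hB₁L, hB₁, hB₁c⟩ := exists_sq_of_not_rank_one hqL2.2.2.2
  obtain ⟨l, -, hl⟩ := BGSigma.exists_conj_maxP hSL hB₁L
    (PGroupsBasic.isPGroup_of_isElementaryAbelian hB₁)
  set B := MulAut.conj l • B₁ with hBdef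
  have hB : Cfsg.IsElementaryAbelian q B := PGroupsBasic.isElementaryAbelian_map_hom hB₁ _
  have hBc : Nat.card B = q ^ 2 := by rw [CoprimeSZ.card_conj_smul, hB₁c]
  have hBM : B ≤ M := hl.trans hSM
  have hBL : B ≤ L := hl.trans hSL.le
  obtain ⟨hnil, hSyl, -⟩ := S1417.result hG L hL q hqL2 B ⟨hBL, hB, hBc⟩
  obtain ⟨SL, hSLe⟩ := hSL.exists_sylow
  have hXB : X ≤ B := fun y hy => (((hSyl SL).2 (hSLe ▸ hl)).1 y (hSLe ▸ hXS hy)).1
    ((PGroupsBasic.isElementaryAbelian_of_card_eq_prime hX).2 y hy)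
  have hBX : B ≤ centralizer (X : Set G) := fun b hb => mem_centralizer_iff.2 fun y hy =>
    PGroupsBasic.comm_of_isMulCommutative hB.1 (hXB hy) hb
  have hrankH : ∀ B' : Subgroup G, B' ≤ H → Cfsg.IsElementaryAbelian q B' → Nat.card B' = q ^ 2 →
      False := fun B' h1 h2 h3 => not_sq_le_of_rank_one hqr h1 h2 h3
  by_cases hpL : p ∈ Cfsg.sigma L
  · have hPσ : P ≤ Cfsg.sigmaCore L :=
      BGTypeP.le_sigmaCore hG hL hPL (BGSigma.piNat_of_isPGroup (isPGroup_card_prime hP) hpL)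
    exact hrankH B ((normalizes_of_nilpotent_core hG hnil hp.2.2.2.2 hP
      (le_inf (le_inf hPσ hPM) hPX) hBL hBM hBX).trans hN) hB hBc
  by_cases hpr : Cfsg.PRankLE p 1 L
  · have hd : p ∣ Nat.card ↥⁅L, L⁆ := by_contra fun hd =>
      hp1 ⟨Fact.out, hpL, hP ▸ card_dvd_of_le hPL, hd, hpr⟩
    have hcard : ∀ r : ℕ, r.Prime → r ∣ Nat.card ↥(P ⊔ X) → r ∉ Cfsg.sigma L := by
      intro r hr hd'
      have h1 : r ∣ Nat.card P * Nat.card X := by
        refine hd'.trans ?_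
        haveI : (X.subgroupOf (P ⊔ X)).Normal := (normal_subgroupOf_iff_le_normalizer le_sup_right).2
          (sup_le (hPX.trans (centralizer_le_normalizer _)) le_normalizer)
        have h1 := HallCore.card_sup_dvd (P.subgroupOf (P ⊔ X)) (X.subgroupOf (P ⊔ X))
        rwa [← subgroupOf_sup le_sup_left le_sup_right, subgroupOf_self, card_top,
          Nat.card_congr (subgroupOfEquivOfLe (le_sup_left : P ≤ P ⊔ X)).toEquiv,
          Nat.card_congr (subgroupOfEquivOfLe (le_sup_right : X ≤ P ⊔ X)).toEquiv] at h1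
      rw [hP, hX] at h1
      rcases hr.dvd_mul.1 h1 with h | h
      · exact (Nat.prime_dvd_prime_iff_eq hr Fact.out).1 h ▸ hpL
      · exact (Nat.prime_dvd_prime_iff_eq hr Fact.out).1 h ▸ hqL
    obtain ⟨E, hE, hPXE⟩ := exists_compl_ge hG hL (sup_le hPL (le_normalizer.trans hNL)) hcard
    obtain ⟨BE, hBEE, hBE, hBEc⟩ := exists_sq_in_compl hG hL hE hqL2
    have hPE' : P ≤ ⁅E, E⁆ := by
      rw [← compl_inf_commutator (le_normalizer_sigmaCore L) hE]
      exact le_inf (le_sup_left.trans hPXE) (le_commutator_of_sigma_tau3 hG hL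
        (Or.inr ⟨Fact.out, hpL, hd, hpr⟩) (isPGroup_card_prime hP) hPL)
    have hab := (S1420.result hG L hL E hE).2.1
    refine hrankH BE (le_trans (fun e he => ?_) hN) hBE hBEc
    refine CoprimeAction.mem_normalizer_of_conj_smul_eq ?_
    have hle : MulAut.conj e • P ≤ ⁅E, E⁆ := by
      rintro _ ⟨y, hy, rfl⟩
      exact (mem_normalizer_iff.1 ((le_normalizer.trans (le_normalizer_commutator_self E))
        (hBEE he)) y).1 (hPE' hy)
    exact (eq_of_commute hpr hPL (hle.trans ((commutator_le_self E).trans hE.1)) hP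
      (by rw [CoprimeSZ.card_conj_smul, hP]) fun x hx y hy =>
        PGroupsBasic.comm_of_isMulCommutative hab (hPE' hx) (hle hy)).symm
  have hpL2 := mem_tau2_of_not_rank_one hG hL hpL hpr
  obtain ⟨E, hE, hBE⟩ := exists_compl_ge hG hL hBL fun r hr hd => by
    rw [hBc] at hd
    exact (Nat.prime_dvd_prime_iff_eq hr Fact.out).1 (hr.dvd_of_dvd_pow hd) ▸ hqL
  obtain ⟨A, hAE, hA, hAc⟩ := exists_sq_in_compl hG hL hE hpL2
  obtain ⟨⟨hEA, -⟩, -, -⟩ := S1418.result hG L hL E hE p hpL2 A ⟨hAE, hA, hAc⟩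
  obtain ⟨⟨hEB, -⟩, -, -⟩ := S1418.result hG L hL E hE q hqL2 B ⟨hBE, hB, hBc⟩
  have hAB : A ≤ centralizer (B : Set G) := BGTypeP.le_centralizer_of_normalizes
    (hAE.trans hEB) (hBE.trans hEA) (inf_eq_bot_of_coprime (by
      rw [hAc, hBc]; exact ((Nat.coprime_primes Fact.out Fact.out).2 hpq).pow 2 2))
  exact not_sq_le_of_rank_one hp.2.2.2.2
    (hAB.trans (S1416.result hG M hM q B ⟨hBM, hB, hBc⟩).1) hA hAc

end Cfsg.Agent.BGPrime
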