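import Cfsg.Agent.Lib.BGPrimeRank
import Cfsg.Agent.Lib.BGRankTwo
import Cfsg.Agent.Lib.BGSigmaRank
import Cfsg.Agent.Lib.BGSigmaDisjoint
import Cfsg.Agent.Lib.RankTwoOdd
import Cfsg.Agent.S1412
import Cfsg.Agent.S1414
import Cfsg.Agent.S1417
import Cfsg.Agent.S1418
import Cfsg.Agent.S1423
import Cfsg.Agent.S1426
import Cfsg.Agent.S1427
import Cfsg.Agent.S1428

/-!
# BG 13.6: centralizers of fixed points of a `τ₁`-element in `M_σ`

For `p ∈ τ₁(M)` and `P ≤ M` of order `p`, the `β(M)'`-elements of `C_{M_σ}(P)` lie in `M_σ'`.  Indeed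
every element of a complement `E ⊇ P` fixes such an element `x` modulo the normal `q`-complement of
`M'`: write it as a product of an element of `E'` and one of `C_E(P)`.
-/

set_option autoImplicit false
set_option linter.style.haveILetI false

namespace Cfsg.Agent.BGPrime

open Subgroup
open Cfsg.Agent.BGUnique
open scoped commutatorElement Pointwise

universe u

variable {G : Type u} [Group G] [Finite G]

omit [Finite G] in
/-- Conjugation by an element with a two-step commutator chain, iterated. -/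
theorem conj_pow_chain {t e d f : G} (he : t * e * t⁻¹ = e * d) (hd : t * d * t⁻¹ = d * f)
    (hf : t * f * t⁻¹ = f) (hdf : Commute d f) :
    ∀ k : ℕ, t ^ k * e * (t ^ k)⁻¹ = e * d ^ k * f ^ k.choose 2 := by
  intro k
  induction k with
  | zero => simp
  | succ k ih =>
    have hdk : t * d ^ k * t⁻¹ = d ^ k * f ^ k := by rw [← conj_pow, hd, hdf.mul_pow]
    have hfk : t * f ^ k.choose 2 * t⁻¹ = f ^ k.choose 2 := by rw [← conj_pow, hf]
    calc t ^ (k + 1) * e * (t ^ (k + 1))⁻¹ = t * (t ^ k * e * (t ^ k)⁻¹) * t⁻¹ := by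
          rw [pow_succ']; group
      _ = t * (e * d ^ k * f ^ k.choose 2) * t⁻¹ := by rw [ih]
      _ = (t * e * t⁻¹) * (t * d ^ k * t⁻¹) * (t * f ^ k.choose 2 * t⁻¹) := by group
      _ = e * d * (d ^ k * f ^ k) * f ^ k.choose 2 := by rw [he, hdk, hfk]
      _ = e * d ^ (k + 1) * f ^ (k + 1).choose 2 := by
          rw [Nat.choose_succ_succ' k 1, Nat.choose_one_right, pow_succ', pow_add]; group

/-- The `r`-th power of an element of an `r`-group (`r` odd) centralizes every normal elementary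
abelian subgroup of order at most `r ^ 3`. -/
theorem pow_mem_centralizer_of_normal {U : Type u} [Group U] [Finite U] {r : ℕ} [hr : Fact r.Prime]
    (hr2 : r ≠ 2) (hU : IsPGroup r U) {E : Subgroup U} (hEn : E.Normal)
    (hE : Cfsg.IsElementaryAbelian r E) (hEc : Nat.card E = r ^ 3) {t e : U} (he : e ∈ E) :
    Commute (t ^ r) e := by
  haveI := hEn
  obtain ⟨E₂, hE₂n, hE₂E, hE₂c⟩ := PGroupsBasic.exists_normal_card_pow hU E 2
    (hEc ▸ Nat.pow_le_pow_right hr.out.pos (by norm_num))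
  haveI := hE₂n
  obtain ⟨E₁, hE₁n, hE₁E, hE₁c⟩ := PGroupsBasic.exists_normal_card_pow hU E₂ 1
    (hE₂c ▸ Nat.pow_le_pow_right hr.out.pos (by norm_num))
  haveI := hE₁n
  -- an element fixes each factor of the series
  have step : ∀ (A B : Subgroup U) (_ : A.Normal) (_ : B.Normal), B ≤ A →
      Nat.card A = Nat.card B * r → ∀ a ∈ A, a⁻¹ * (t * a * t⁻¹) ∈ B := by
    intro A B hA hB hBA hc a ha
    haveI := hA
    haveI := hB
    have hq : Nat.card ↥(A.map (QuotientGroup.mk' B)) = r := by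
      have h := HallCore.card_map_mk'_mul B A hBA
      rw [hc, mul_comm] at h
      exact Nat.eq_of_mul_eq_mul_left Nat.card_pos h
    haveI hn : (A.map (QuotientGroup.mk' B)).Normal :=
      hA.map _ (QuotientGroup.mk'_surjective B)
    have hUB : IsPGroup r (U ⧸ B) := hU.to_quotient B
    have hmem : QuotientGroup.mk' B a ∈ A.map (QuotientGroup.mk' B) := mem_map_of_mem _ ha
    have hcent : Commute (QuotientGroup.mk' B t) (QuotientGroup.mk' B a) :=
      mem_center_iff.1 (PGroupsBasic.le_center_of_card_eq_prime hUB hq hmem) (QuotientGroup.mk' B t)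
    rw [← QuotientGroup.eq_one_iff]
    show QuotientGroup.mk' B (a⁻¹ * (t * a * t⁻¹)) = 1
    rw [map_mul, map_mul, map_mul, map_inv, map_inv, hcent.eq]
    group
  have hd : e⁻¹ * (t * e * t⁻¹) ∈ E₂ :=
    step E E₂ hEn hE₂n hE₂E (by rw [hEc, hE₂c, ← pow_succ]) e he
  set d := e⁻¹ * (t * e * t⁻¹) with hdd
  have hf : d⁻¹ * (t * d * t⁻¹) ∈ E₁ :=
    step E₂ E₁ hE₂n hE₁n hE₁E (by rw [hE₁c, hE₂c, ← pow_succ]) d hd
  set f := d⁻¹ * (t * d * t⁻¹) with hff
  have hf1 : f⁻¹ * (t * f * t⁻¹) ∈ (⊥ : Subgroup U) :=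
    step E₁ ⊥ hE₁n inferInstance bot_le (by rw [hE₁c, card_bot, pow_one, one_mul]) f hf
  rw [mem_bot] at hf1
  have hdf : Commute d f :=
    PGroupsBasic.comm_of_isMulCommutative hE.1 (hE₂E hd) (hE₂E (hE₁E hf))
  have h := conj_pow_chain (t := t) (e := e) (d := d) (f := f) (by rw [hdd]; group) (by rw [hff]; group)
    (inv_mul_eq_one.1 hf1).symm hdf r
  rw [hE.2 d (hE₂E hd), mul_one] at h
  obtain ⟨s, hs⟩ : r ∣ r.choose 2 := hr.out.dvd_choose_self (by norm_num)
    (lt_of_le_of_ne hr.out.two_le (Ne.symm hr2))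
  rw [hs, pow_mul, hE.2 f (hE₂E (hE₁E hf)), one_pow, mul_one] at h
  exact (mul_inv_eq_iff_eq_mul.1 h)

variable (hG : Cfsg.IsMinSimpleOddOrder G) {M : Subgroup G} (hM : IsCoatom M)
include hG hM

/-- An `r`-element `c` of a complement commuting with `P` (of order `p ∈ τ₁(M)`) centralizes
`C_{M_σ}(P)`. -/
theorem commute_of_fixed_tau1 {E : Subgroup G} (hE : Cfsg.IsComplIn E (Cfsg.sigmaCore M) M) {p : ℕ}
    [hpf : Fact p.Prime] (hp : p ∈ Cfsg.tau1 M) {P : Subgroup G} (hPE : P ≤ E) (hP : Nat.card P = p)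
    {c : G} (hcE : c ∈ E) (hcP : c ∈ centralizer (P : Set G)) {r j : ℕ} [hrf : Fact r.Prime]
    (hco : orderOf c = r ^ j) {x : G} (hx : x ∈ Cfsg.sigmaCore M ⊓ centralizer (P : Set G)) :
    Commute c x := by
  rcases Nat.eq_zero_or_pos j with rfl | hj
  · rw [pow_zero, orderOf_eq_one_iff] at hco
    rw [hco]
    exact Commute.one_left x
  by_cases hx1 : x = 1
  · rw [hx1]; exact Commute.one_right c
  set c₀ := c ^ r ^ (j - 1) with hc₀def
  have hc₀ : orderOf c₀ = r := by
    rw [hc₀def, orderOf_pow_of_dvd (pow_ne_zero _ hrf.out.ne_zero) (hco ▸ pow_dvd_pow r (by omega)),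
      hco, Nat.pow_div (by omega) hrf.out.pos, show j - (j - 1) = 1 by omega, pow_one]
  set R := zpowers c₀ with hR
  have hRc : Nat.card R = r := by rw [hR, Nat.card_zpowers, hc₀]
  have hc₀E : c₀ ∈ E := E.pow_mem hcE _
  have hc₀P : c₀ ∈ centralizer (P : Set G) := pow_mem hcP _
  have hRE : R ≤ E := zpowers_le.2 hc₀E
  have hxR : x ∈ Cfsg.sigmaCore M ⊓ centralizer (R : Set G) :=
    S1428.result hG M hM E hE p hp P hPE hP R
      (le_inf hRE (zpowers_le.2 hc₀P)) (hRc.symm ▸ hrf.out) hx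
  have hrσ : r ∉ Cfsg.sigma M :=
    compl_not_sigma hG hM hE hrf.out (hRc ▸ card_dvd_of_le hRE)
  have hEM : E ≤ M := hE.1
  have hcp : IsPGroup r (zpowers c) := IsPGroup.of_card (by rw [Nat.card_zpowers, hco])
  by_cases hr1 : Cfsg.PRankLE r 1 M
  · -- cyclic Sylow subgroups: BG 13.3
    obtain ⟨S, hS, hcS⟩ := exists_isMaxP_ge hcp (zpowers_le.2 hcE)
    obtain ⟨T, hT⟩ := hS.exists_sylow
    have hTne : (T : Subgroup E) ≠ ⊥ := by
      refine T.ne_bot_of_dvd_card (hRc ▸ card_dvd_of_le hRE)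
    have hTcyc : IsCyclic (T : Subgroup E) := by
      have := isCyclic_of_rank_one hG hr1 hS.isPGroup (hS.le.trans hEM)
      rw [← hT] at this
      exact ((T : Subgroup E).equivMapOfInjective _ E.subtype_injective).isCyclic.2 this
    have h := S1427.result hG M hM E hE r T hTne hTcyc c₀
      (hT.symm ▸ pow_mem (hcS (mem_zpowers c)) _) (fun h => hrf.out.one_lt.ne (by
        rw [← hc₀, h, orderOf_one]))
    have hx' : x ∈ Cfsg.sigmaCore M ⊓ centralizer ({c₀} : Set G) :=
      ⟨hxR.1, mem_centralizer_iff.2 fun y hy => by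
        rw [Set.mem_singleton_iff.1 hy]; exact hxR.2 c₀ (mem_zpowers c₀)⟩
    rw [h, hT] at hx'
    exact hx'.2 c (hcS (mem_zpowers c))
  -- `r ∈ τ₂(M)`: then `c` has order `r`
  suffices hj1 : j = 1 by
    have : c₀ = c := by rw [hc₀def, hj1, Nat.sub_self, pow_zero, pow_one]
    exact this ▸ hxR.2 c₀ (mem_zpowers c₀)
  by_contra hj1
  have hr2 : Cfsg.PRankLE r 2 M := BGSigma.outside_alpha hG hM hrf.out hrσ
  have hτ : r ∈ Cfsg.tau2 M := ⟨hrf.out, hrσ, hr2, hr1⟩
  obtain ⟨A₀, hA₀M, hA₀, hA₀c⟩ := exists_sq_of_not_rank_one hr1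
  obtain ⟨a, ha, haA⟩ := BGTypeP.le_conj_hallOf (isSolvable_of_ne_top hG hM.1)
    (compl_hall hG hM hE) hA₀M
    (BGSigma.piNat_of_isPGroup (PGroupsBasic.isPGroup_of_isElementaryAbelian hA₀) hrσ)
  set A := BGTypeP.cj a⁻¹ A₀ with hAdef
  have hAE : A ≤ E := BGTypeP.le_cj_iff.2 haA
  have hA : Cfsg.IsElementaryAbelian r A := PGroupsBasic.isElementaryAbelian_map_hom hA₀ _
  have hAc : Nat.card A = r ^ 2 := by rw [hAdef, BGTypeP.card_cj, hA₀c]
  have hAp : IsPGroup r A := PGroupsBasic.isPGroup_of_isElementaryAbelian hA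
  have hAM : A ≤ M := hAE.trans hEM
  obtain ⟨-, hSyl, -, hfixA, -, -⟩ := S1417.result hG M hM r hτ A ⟨hAM, hA, hAc⟩
  obtain ⟨⟨hEA, hAX⟩, ⟨-, -, hNA⟩, hline⟩ := S1418.result hG M hM E hE r hτ A ⟨hAE, hA, hAc⟩
  have hRA : R ≤ A := hAX R hRE hRc
  obtain ⟨hCR, huniqR⟩ := hline R hRA hRc fun h0 => hx1 (by rwa [h0, mem_bot] at hxR)
  -- a Sylow subgroup `T` of `M` containing `A` and `c` is abelian
  obtain ⟨T, hT, hAcT⟩ : ∃ T, IsMaxP r T M ∧ A ⊔ zpowers c ≤ T :=
    exists_isMaxP_ge (IsPGroup.to_sup_of_normal_left' hAp hcp ((zpowers_le.2 hcE).trans hEA))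
      (sup_le hAM (zpowers_le.2 (hEM hcE)))
  obtain ⟨T', hT'⟩ := hT.exists_sylow
  have hTab : ∀ u ∈ T, ∀ v ∈ T, u * v = v * u := by
    intro u hu v hv
    rw [← hT'] at hu hv
    obtain ⟨u', hu', rfl⟩ := hu
    obtain ⟨v', hv', rfl⟩ := hv
    exact congrArg Subtype.val (PGroupsBasic.comm_of_isMulCommutative (hSyl T').1 hu' hv')
  have hAT : A ≤ T := le_sup_left.trans hAcT
  have hcT : c ∈ T := le_sup_right.trans hAcT (mem_zpowers c)
  -- a Sylow subgroup of `G`
  obtain ⟨U, hTU⟩ := hT.isPGroup.exists_le_sylow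
  have hr2' : r ≠ 2 := prime_ne_two hG
    ((hRc ▸ card_dvd_of_le hRE).trans (card_subgroup_dvd_card E))
  have hUM : ¬ (U : Subgroup G) ≤ M → False := by
    intro hUM
    refine hUM (le_trans ?_ hCR)
    -- `c₀` is central in `U`
    by_cases hrU : Cfsg.PRankLE r 2 (U : Subgroup G)
    · rcases S1412.result hG r U hrU with hab | ⟨P₁, P₂, hsup, hcomm, -, -, hexp, hcyc2, -⟩
      · exact fun u hu => mem_centralizer_iff.2 fun y hy =>
          PGroupsBasic.comm_of_isMulCommutative hab (hTU ((hRA.trans hAT) hy)) hu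
      · have hkey : ∀ t ∈ (U : Subgroup G), ∀ u ∈ (U : Subgroup G), Commute (t ^ r) u := by
          intro t ht u hu
          rw [← hsup] at ht hu
          haveI : IsCyclic P₂ := hcyc2
          have hP₂ : ∀ v ∈ P₂, ∀ w ∈ P₂, v * w = w * v := fun v hv w hw =>
            congrArg Subtype.val ((IsCyclic.commGroup (α := P₂)).mul_comm ⟨v, hv⟩ ⟨w, hw⟩)
          have hn : P₁ ≤ normalizer (P₂ : Set G) := fun v hv =>
            centralizer_le_normalizer _ (mem_centralizer_iff.2 fun w hw => (hcomm v hv w hw).symm)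
          have ht' : t ∈ ((P₁ ⊔ P₂ : Subgroup G) : Set G) := ht
          rw [coe_mul_of_left_le_normalizer_right P₁ P₂ hn] at ht'
          obtain ⟨v, hv, w, hw, rfl⟩ := ht'
          have hvr : v ^ r = 1 := by
            have h1 := Monoid.pow_exponent_eq_one (⟨v, hv⟩ : P₁)
            rw [hexp] at h1
            exact congrArg Subtype.val h1
          rw [(show Commute v w from hcomm v hv w hw).mul_pow, hvr, one_mul]
          have hle : P₁ ⊔ P₂ ≤ centralizer ({w ^ r} : Set G) := by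
            refine sup_le (fun z hz => ?_) (fun z hz => ?_) <;> rw [mem_centralizer_iff] <;>
              intro y hy <;> rw [Set.mem_singleton_iff.1 hy]
            · exact (hcomm z hz _ (P₂.pow_mem hw r)).symm
            · exact hP₂ _ (P₂.pow_mem hw r) z hz
          exact mem_centralizer_iff.1 (hle hu) _ rfl
        intro u hu
        refine mem_centralizer_iff.2 fun y hy => ?_
        obtain ⟨i, rfl⟩ := mem_zpowers_iff.1 hy
        have h : Commute c₀ u := by
          rw [hc₀def, show r ^ (j - 1) = r ^ (j - 2) * r by rw [← pow_succ]; congr 1; omega, pow_mul]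
          exact hkey _ (pow_mem (hTU hcT) _) u hu
        exact (h.zpow_left i).eq
    · -- rank three: a normal elementary subgroup of order `r ^ 3` would lie in `M`
      exfalso
      obtain ⟨E₃, hE₃n, hE₃, hE₃c⟩ : ∃ E₃ : Subgroup (U : Subgroup G), E₃.Normal ∧
          Cfsg.IsElementaryAbelian r E₃ ∧ Nat.card E₃ = r ^ 3 := by
        by_contra h
        push Not at h
        exact hrU fun B hB hBp =>
          RankTwoOdd.rank_le_two hr2' U.isPGroup' (fun B' hB' hB'e => h B' hB' hB'e) B ⟨hB, hBp⟩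
      have hle : E₃.map (U : Subgroup G).subtype ≤ centralizer (R : Set G) := by
        rintro _ ⟨e, he, rfl⟩
        refine mem_centralizer_iff.2 fun y hy => ?_
        obtain ⟨i, rfl⟩ := mem_zpowers_iff.1 hy
        have h := pow_mem_centralizer_of_normal hr2' U.isPGroup' hE₃n hE₃ hE₃c
          (t := (⟨c, hTU hcT⟩ : (U : Subgroup G)) ^ r ^ (j - 2)) he
        have h' : Commute c₀ (e : G) := by
          rw [hc₀def, show r ^ (j - 1) = r ^ (j - 2) * r by rw [← pow_succ]; congr 1; omega, pow_mul]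
          exact congrArg Subtype.val h.eq
        exact (h'.zpow_left i).eq
      have h1 := BGSigma.card_le_of_pRankLE hr2 (hle.trans hCR)
        (PGroupsBasic.isElementaryAbelian_map_hom hE₃ _)
      rw [card_map_of_injective (U : Subgroup G).subtype_injective, hE₃c] at h1
      exact absurd ((Nat.pow_le_pow_iff_right hrf.out.one_lt).1 h1) (by norm_num)
  have hUT : (U : Subgroup G) = T := hT.eq_of_le U hTU (not_not.1 hUM) U.isPGroup'
  -- `N(A)` acts on `A` by an abelian group, so it fixes `C_A(P) = R`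
  refine hNA fun n hn => ?_
  obtain ⟨⟨b, hb⟩, hbo⟩ := exists_prime_orderOf_dvd_card' (G := P) p hP.symm.dvd
  rw [Subgroup.orderOf_mk] at hbo
  set N := normalizer (A : Set G) with hNdef
  have hbN : b ∈ N := hEA (hPE hb)
  haveI hNs : Group.IsSolvable N := isSolvable_of_ne_top hG
    (BGSigma.normalizer_ne_top' hG (fun h => by
      rw [h, card_bot] at hAc
      exact absurd hAc.symm (Nat.one_lt_pow two_ne_zero hrf.out.one_lt).ne')
      fun h => hM.1 (top_le_iff.1 (h ▸ hAM)))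
  letI : CommGroup A :=
    { mul_comm := fun u v => Subtype.ext (PGroupsBasic.comm_of_isMulCommutative hA.1 u.2 v.2) }
  set φ : N →* MulAut A := A.normalizerMonoidHom with hφ
  set d : N := ⁅(⟨n, hn⟩ : N), (⟨b, hbN⟩ : N)⁆ with hd
  have hφd : φ d = 1 := by
    have h1 : φ d ^ r = 1 := BGRankTwo.action_pow hr2' (odd_card_subgroup hG N)
      (fun u => Subtype.ext (by rw [SubgroupClass.coe_pow]; exact hA.2 _ u.2)) hAc.le φ
      (commutator_mem_commutator (mem_top _) (mem_top _))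
    have hTN : T ≤ N := fun u hu => centralizer_le_normalizer _
      (mem_centralizer_iff.2 fun v hv => hTab v (hAT hv) u hu)
    have h2 : T.subgroupOf N ≤ φ.ker := by
      intro u hu
      rw [MonoidHom.mem_ker]
      ext v
      show (u : G) * v * (u : G)⁻¹ = v
      rw [hTab u hu v (hAT v.2), mul_inv_cancel_right]
    rw [← orderOf_eq_one_iff]
    refine Nat.eq_one_of_dvd_coprimes (hrf.out.coprime_iff_not_dvd.2 (fun hdvd => U.not_dvd_index ?_))
      (orderOf_dvd_of_pow_eq_one h1) (b := Nat.card φ.range) ?_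
    · rw [hUT]
      rw [← index_ker] at hdvd
      exact (hdvd.trans (index_dvd_of_le h2)).trans (relIndex_dvd_index_of_le hTN)
    · have := (φ.range).orderOf_dvd_natCard (⟨d, rfl⟩ : φ d ∈ φ.range)
      exact this
  have hfix : ∀ v ∈ R, n⁻¹ * v * n ∈ R := by
    intro v hv
    have hvA : v ∈ A := hRA hv
    have hbv : b * v * b⁻¹ = v := by
      have h : b * v = v * b := by
        obtain ⟨i, rfl⟩ := mem_zpowers_iff.1 hv
        exact (((show Commute b c₀ from hc₀P b hb)).zpow_right i).eq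
      rw [h, mul_inv_cancel_right]
    set w := n⁻¹ * v * n with hw
    have hwA : w ∈ A := (mem_normalizer_iff''.1 hn v).1 hvA
    have hd1 := congrArg Subtype.val (MulEquiv.congr_fun hφd ⟨v, hvA⟩)
    change (d : G) * v * (d : G)⁻¹ = v at hd1
    rw [hd, commutatorElement_def] at hd1
    simp only [Subgroup.coe_mul, Subgroup.coe_inv] at hd1
    have hbw : b * w * b⁻¹ = w := by
      have h3 : n * b * n⁻¹ * (b⁻¹ * v * b) * (n * b * n⁻¹)⁻¹ = v := by
        refine Eq.trans ?_ hd1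
        group
      have h4 : b⁻¹ * v * b = v := by
        calc b⁻¹ * v * b = b⁻¹ * (b * v * b⁻¹) * b := by rw [hbv]
          _ = v := by group
      rw [h4] at h3
      calc b * w * b⁻¹ = n⁻¹ * (n * b * n⁻¹ * v * (n * b * n⁻¹)⁻¹) * n := by rw [hw]; group
        _ = w := by rw [h3, hw]
    by_contra hwR
    -- otherwise `P` centralizes `A`
    have hAP : A ≤ centralizer (P : Set G) := by
      have hwP : w ∈ centralizer (P : Set G) := by
        have hgen : zpowers b = P := eq_of_le_of_card_ge (zpowers_le.2 hb)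
          (by rw [Nat.card_zpowers, hbo, hP])
        refine mem_centralizer_iff.2 fun y hy => ?_
        rw [← hgen] at hy
        obtain ⟨i, rfl⟩ := mem_zpowers_iff.1 hy
        exact ((show Commute b w from mul_inv_eq_iff_eq_mul.1 hbw).zpow_left i).eq
      set D := A ⊓ centralizer (P : Set G) with hD
      have hlt : R < D := lt_of_le_of_ne (le_inf hRA (zpowers_le.2 hc₀P))
        fun h => hwR (by rw [h]; exact mem_inf.2 ⟨hwA, hwP⟩)
      have hDA : D = A := by
        obtain ⟨i, hi2, hi⟩ := (Nat.dvd_prime_pow hrf.out).1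
          (hAc ▸ card_dvd_of_le (inf_le_left : D ≤ A))
        have h1 : Nat.card R < Nat.card D := by
          by_contra h2
          exact hlt.ne (eq_of_le_of_card_ge hlt.le (not_lt.1 h2))
        rw [hRc, hi] at h1
        have h3 : i = 2 := by
          rcases (show i = 0 ∨ i = 1 ∨ i = 2 by omega) with rfl | rfl | rfl
          · rw [pow_zero] at h1; exact absurd h1 (by have := hrf.out.pos; omega)
          · rw [pow_one] at h1; exact absurd h1 (lt_irrefl _)
          · rfl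
        exact eq_of_le_of_card_ge inf_le_left (by rw [hAc, hi, h3])
      exact hDA ▸ inf_le_right
    refine hx1 ?_
    have hxA : x ∈ Cfsg.sigmaCore M ⊓ centralizer (A : Set G) := by
      refine ⟨hx.1, mem_centralizer_iff.2 fun y hy => ?_⟩
      by_cases hy1 : y = 1
      · rw [hy1, one_mul, mul_one]
      have hYc : Nat.card (zpowers y) = r := by
        rw [Nat.card_zpowers, orderOf_eq_prime (hA.2 y hy) hy1]
      exact (S1428.result hG M hM E hE p hp P hPE hP (zpowers y)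
        (le_inf (zpowers_le.2 (hAE hy)) (zpowers_le.2 (hAP hy))) (hYc.symm ▸ hrf.out) hx).2 y
        (mem_zpowers y)
    rwa [hfixA, mem_bot] at hxA
  have hnR : n ∈ normalizer (R : Set G) := by
    refine inv_mem_iff.1 (CoprimeAction.mem_normalizer_of_conj_smul_eq
      (eq_of_le_of_card_ge (fun y hy => ?_) (by rw [CoprimeSZ.card_conj_smul])))
    obtain ⟨v, hv, rfl⟩ := hy
    show n⁻¹ * v * n⁻¹⁻¹ ∈ R
    rw [inv_inv]
    exact hfix v hv
  refine BGSigma.mem_of_conj_eq hG hM (huniqR _ (isCoatom_conj n hM) ?_)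
  intro y hy
  rw [CoprimeSZ.mem_conj_smul]
  refine hCR (mem_centralizer_iff.2 fun v hv => ?_)
  have hv' : n * v * n⁻¹ ∈ R := (mem_normalizer_iff.1 hnR v).1 hv
  calc v * (n⁻¹ * y * n) = n⁻¹ * (n * v * n⁻¹ * y) * n := by group
    _ = n⁻¹ * (y * (n * v * n⁻¹)) * n := by rw [mem_centralizer_iff.1 hy _ hv']
    _ = n⁻¹ * y * n * v := by group

/-- The `β(M)'`-elements of prime-power order in `C_{M_σ}(P)` lie in `M_σ'`, for `P` of order
`p ∈ τ₁(M)`. -/
theorem mem_commutator_sigmaCore {p : ℕ} [hpf : Fact p.Prime] (hp : p ∈ Cfsg.tau1 M)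
    {P : Subgroup G} (hPM : P ≤ M) (hP : Nat.card P = p) {q : ℕ} [hqf : Fact q.Prime]
    (hqβ : q ∉ Cfsg.beta M) {x : G} {i : ℕ} (hxo : orderOf x = q ^ i)
    (hx : x ∈ Cfsg.sigmaCore M ⊓ centralizer (P : Set G)) :
    x ∈ ⁅Cfsg.sigmaCore M, Cfsg.sigmaCore M⁆ := by
  by_cases hx1 : x = 1
  · rw [hx1]; exact one_mem _
  have hi : i ≠ 0 := fun h => hx1 (orderOf_eq_one_iff.1 (by rw [hxo, h, pow_zero]))
  set S := Cfsg.sigmaCore M with hS
  have hqS : q ∣ Nat.card S :=
    ((dvd_pow_self q hi).trans hxo.symm.dvd).trans (S.orderOf_dvd_natCard hx.1)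
  have hqM : q ∣ Nat.card M := hqS.trans (card_dvd_of_le (sigmaCore_le M))
  obtain ⟨E, hE, hPE⟩ := exists_compl_ge hG hM hPM fun s hs hd => by
    rw [hP] at hd
    exact (Nat.prime_dvd_prime_iff_eq hs hpf.out).1 hd ▸ hp.2.1
  have hqσ : q ∈ Cfsg.sigma M := (BGSigma.hall_sigma hG hM).1.2.1 q hqf.out hqS
  -- the normal `q`-complement of `M'`
  obtain ⟨⟨Q, N₀, hN₀n, hN₀⟩, -, -⟩ :=
    (S1414.result hG M hM).2.2.2.2 q hqf.out hqM hqβ
  set W := coreOf q ⁅M, M⁆ with hW
  have hN₀le : N₀ ≤ Cfsg.pPrimeCore q ↥⁅M, M⁆ := by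
    haveI := hN₀n
    refine HallCore.le_pPrimeCore ((Nat.coprime_comm).1 ((hqf.out.coprime_iff_not_dvd).2 ?_))
    rw [← hN₀.index_eq_card]
    exact Q.not_dvd_index
  obtain ⟨k, hk⟩ := Q.isPGroup'.exists_card_eq
  have hidx : (Cfsg.pPrimeCore q ↥⁅M, M⁆).index ∣ q ^ k := by
    rw [← hk, ← hN₀.symm.index_eq_card]
    exact index_dvd_of_le hN₀le
  have hnW : M ≤ normalizer (W : Set G) := by
    refine le_trans ?_ (le_normalizer_coreOf q _)
    have h := ComponentsCores.normalizer_le_normalizer_map_subtype M (commutator ↥M)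
    rw [map_subtype_commutator] at h
    exact le_normalizer.trans h
  set D := W ⊓ S with hD
  have hnD : M ≤ normalizer (D : Set G) :=
    CoprimeAction.le_normalizer_inf hnW (le_normalizer_sigmaCore M)
  have hEW : ⁅E, E⁆ ≤ W := by
    intro d hd
    have hdM : d ∈ ⁅M, M⁆ := commutator_mono hE.1 hE.1 hd
    refine ⟨⟨d, hdM⟩, ?_, rfl⟩
    haveI := HallCore.pPrimeCore_normal q ↥⁅M, M⁆
    show (⟨d, hdM⟩ : ↥⁅M, M⁆) ∈ Cfsg.pPrimeCore q ↥⁅M, M⁆
    rw [← QuotientGroup.eq_one_iff, ← orderOf_eq_one_iff]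
    refine Nat.eq_one_of_dvd_coprimes
      (show (orderOf (⟨d, hdM⟩ : ↥⁅M, M⁆)).Coprime (q ^ k) from Nat.Coprime.pow_right k ?_)
      (orderOf_map_dvd (QuotientGroup.mk' _) _) ((_root_.orderOf_dvd_natCard _).trans ?_)
    · rw [Subgroup.orderOf_mk]
      exact (hqf.out.coprime_iff_not_dvd.2 fun h => compl_not_sigma hG hM hE hqf.out
        (h.trans (E.orderOf_dvd_natCard (commutator_le_self E hd))) hqσ).symm
    · rw [← index_eq_card]
      exact hidx
  have hEn : E ≤ normalizer ((⁅E, E⁆ : Subgroup G) : Set G) := le_normalizer.trans (by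
    have h := ComponentsCores.normalizer_le_normalizer_map_subtype E (commutator ↥E)
    rwa [Subgroup.map_subtype_commutator] at h)
  -- every element of `E` fixes `x` modulo `D`
  have hfix : ∀ e ∈ E, x⁻¹ * e * x * e⁻¹ ∈ D := by
    intro e he
    have hpE' : (Nat.card P).Coprime (Nat.card ↥⁅E, E⁆) := by
      rw [hP]
      exact hpf.out.coprime_iff_not_dvd.2 fun h =>
        hp.2.2.2.1 (h.trans (card_dvd_of_le (commutator_mono hE.1 hE.1)))
    obtain ⟨c, hcP, hce⟩ := CoprimeAction.exists_fixed_mem_coset (hPE.trans hEn) hpE'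
      (Or.inl (CoprimeAction.isSolvable_of_isPGroup (p := p)
        (IsPGroup.of_card (n := 1) (by rw [hP, pow_one])))) e fun b hb => by
        rw [show e⁻¹ * b * e * b⁻¹ = ⁅e⁻¹, b⁆ by rw [commutatorElement_def, inv_inv]]
        exact commutator_mem_commutator (inv_mem he) (hPE hb)
    have hcE : c ∈ E := by
      rw [show c = e * (e⁻¹ * c) by group]
      exact mul_mem he (commutator_le_self E hce)
    have hcx : Commute c x := by
      have hle : E ⊓ centralizer (P : Set G) ≤ centralizer ({x} : Set G) := by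
        refine BGRankTwo.le_of_sylow_le fun r hr u hu hui => ?_
        obtain ⟨l, hl⟩ := hui
        haveI := Fact.mk hr
        exact mem_centralizer_iff.2 fun y hy => by
          rw [Set.mem_singleton_iff.1 hy]
          exact (commute_of_fixed_tau1 hG hM hE hp hPE hP hu.1 hu.2 hl hx).symm.eq
      exact (mem_centralizer_iff.1 (hle ⟨hcE, hcP⟩) x rfl).symm
    set d := (e⁻¹ * c)⁻¹ with hddef
    have hed : e = c * d := by rw [hddef]; group
    have hdW : d ∈ W := inv_mem (hEW hce)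
    have hd2 : x⁻¹ * d * x * d⁻¹ ∈ D := by
      refine mem_inf.2 ⟨mul_mem ((mem_normalizer_iff''.1 (hnW (sigmaCore_le M hx.1)) d).1 hdW)
        (inv_mem hdW), ?_⟩
      rw [show x⁻¹ * d * x * d⁻¹ = x⁻¹ * (d * x * d⁻¹) by group]
      refine mul_mem (inv_mem hx.1) ((mem_normalizer_iff.1 (le_normalizer_sigmaCore M ?_) x).1 hx.1)
      exact hE.1 (inv_mem (commutator_le_self E hce))
    have hcx' : x⁻¹ * c * x = c := by rw [mul_assoc, hcx.eq, inv_mul_cancel_left]
    rw [hed, show x⁻¹ * (c * d) * x * (c * d)⁻¹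
        = (x⁻¹ * c * x) * (x⁻¹ * d * x * d⁻¹) * c⁻¹ by group, hcx']
    exact (mem_normalizer_iff.1 (hnD (hE.1 hcE)) _).1 hd2
  have hcop : (Nat.card E).Coprime (Nat.card D) :=
    (compl_coprime hG hM hE).coprime_dvd_right (card_dvd_of_le inf_le_right)
  obtain ⟨y, hyE, hyD⟩ := CoprimeAction.exists_fixed_mem_coset (hE.1.trans hnD) hcop
    (Or.inl (isSolvable_of_le_coatom hG hM hE.1)) x hfix
  have hyS : y ∈ S := by
    rw [show y = x * (x⁻¹ * y) by group]
    exact mul_mem hx.1 hyD.2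
  have hy' : y ∈ ⁅S, S⁆ := (S1426.result hG M hM E hE).1 ⟨hyS, hyE⟩
  -- read off modulo `S'`
  have hmk : (QuotientGroup.mk' (commutator ↥S)) ⟨x, hx.1⟩ =
      QuotientGroup.mk' (commutator ↥S) ⟨(x⁻¹ * y)⁻¹, inv_mem hyD.2⟩ := by
    have h0 : QuotientGroup.mk' (commutator ↥S) ⟨y, hyS⟩ = 1 := by
      rw [QuotientGroup.mk'_apply, QuotientGroup.eq_one_iff]
      rw [← map_subtype_commutator] at hy'
      obtain ⟨z, hz, hzy⟩ := hy'
      exact (Subtype.ext hzy : z = ⟨y, hyS⟩) ▸ hz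
    have h1 : (⟨(x⁻¹ * y)⁻¹, inv_mem hyD.2⟩ : ↥S) = ⟨y, hyS⟩⁻¹ * ⟨x, hx.1⟩ :=
      Subtype.ext (by simp [mul_inv_rev])
    rw [h1, map_mul, map_inv, h0, inv_one, one_mul]
  have hone : (QuotientGroup.mk' (commutator ↥S)) ⟨x, hx.1⟩ = 1 := by
    rw [← orderOf_eq_one_iff]
    refine Nat.eq_one_of_dvd_coprimes (k := _) ?_
      (orderOf_map_dvd (QuotientGroup.mk' (commutator ↥S)) (⟨x, hx.1⟩ : ↥S))
      ((congrArg orderOf hmk).dvd.trans (orderOf_map_dvd _ _))
    rw [Subgroup.orderOf_mk, Subgroup.orderOf_mk, hxo, orderOf_inv]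
    exact ((coprime_coreOf q ⁅M, M⁆).symm.pow_left i).coprime_dvd_right
      (W.orderOf_dvd_natCard hyD.1)
  rw [QuotientGroup.mk'_apply, QuotientGroup.eq_one_iff] at hone
  rw [← map_subtype_commutator]
  exact ⟨_, hone, rfl⟩

/-- BG 13.6: subgroups of prime order of `C_{M_σ}(P)` have their centralizer in `M` only. -/
theorem centralizer_unique_prime {p : ℕ} [hpf : Fact p.Prime] (hp : p ∈ Cfsg.tau1 M)
    {P : Subgroup G} (hPM : P ≤ M) (hP : Nat.card P = p) {X : Subgroup G} (hX : (Nat.card X).Prime)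
    (hXle : X ≤ Cfsg.sigmaCore M ⊓ centralizer (P : Set G)) :
    (centralizer (X : Set G) ≤ M ∧
        ∀ L : Subgroup G, IsCoatom L → centralizer (X : Set G) ≤ L → L = M) ∧
      (Nat.card X ∈ Cfsg.beta M ∨ X ≤ ⁅Cfsg.sigmaCore M, Cfsg.sigmaCore M⁆) := by
  haveI := Fact.mk hX
  have h : Nat.card X ∈ Cfsg.beta M ∨ X ≤ ⁅Cfsg.sigmaCore M, Cfsg.sigmaCore M⁆ := by
    by_cases hb : Nat.card X ∈ Cfsg.beta M
    · exact Or.inl hb
    · refine Or.inr fun x hx => ?_
      obtain ⟨i, -, hi⟩ := (Nat.dvd_prime_pow hX).1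
        ((X.orderOf_dvd_natCard hx).trans (pow_one (Nat.card X)).symm.dvd)
      exact mem_commutator_sigmaCore hG hM hp hPM hP hb hi (hXle hx)
  have hXS : X ≤ Cfsg.sigmaCore M := hXle.trans inf_le_left
  exact ⟨(S1423.result hG M hM (Nat.card X)
    ((BGSigma.hall_sigma hG hM).1.2.1 _ hX (card_dvd_of_le hXS)) X (hXS.trans (sigmaCore_le M)) rfl
    default h).1, h⟩

/-- BG 13.6, inclusion for an arbitrary nontrivial subgroup. -/
theorem centralizer_le_of_tau1 {p : ℕ} [hpf : Fact p.Prime] (hp : p ∈ Cfsg.tau1 M)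
    {P : Subgroup G} (hPM : P ≤ M) (hP : Nat.card P = p) {X : Subgroup G} (hX1 : X ≠ ⊥)
    (hXle : X ≤ Cfsg.sigmaCore M ⊓ centralizer (P : Set G)) : centralizer (X : Set G) ≤ M := by
  obtain ⟨q, hq, hqd⟩ := Nat.exists_prime_and_dvd (fun h => hX1 (eq_bot_of_card_eq _ h))
  haveI := Fact.mk hq
  obtain ⟨x, hxo⟩ := exists_prime_orderOf_dvd_card' q hqd
  have hle : zpowers (x : G) ≤ X := zpowers_le.2 x.2
  refine (centralizer_le (SetLike.coe_subset_coe.2 hle)).trans
    (centralizer_unique_prime hG hM hp hPM hP (X := zpowers (x : G)) ?_ (hle.trans hXle)).1.1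
  rw [Nat.card_zpowers, Subgroup.orderOf_coe, hxo]
  exact hq

end Cfsg.Agent.BGPrime
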