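import Cfsg.Agent.Lib.BG14Basic83
import Cfsg.Agent.Lib.BG14Frob83
import Cfsg.Agent.Lib.BGPrimeAction
import Cfsg.Agent.Lib.BGPrimeUnique
import Cfsg.Agent.Lib.BGSigmaPartition
import Cfsg.Agent.S1415
import Cfsg.Agent.S1417
import Cfsg.Agent.S1418
import Cfsg.Agent.S1420
import Cfsg.Agent.S1424
import Cfsg.Agent.S1427
import Cfsg.Agent.S1428

/-!
Bender-Glauberman 13.12, 13.13 and the uniqueness of `C(X)` for `X ≤ C_{M_σ}(P)`.
-/

set_option autoImplicit false
set_option linter.style.haveILetI false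

namespace Cfsg.Agent.BG14

open Subgroup
open Cfsg.Agent.HallCore
open Cfsg.Agent.BGTypeP (cj)
open Cfsg.Agent.BGSigmaPartition (conj_of_sigma_inter)
open Cfsg.Agent.BGPrime (centralizes_of_le_commutator le_centralizer_inter mem_sigma_of_commutator)
open scoped IsMulCommutative commutatorElement

universe u

variable {G : Type u} [Group G] [Finite G]
variable (hG : Cfsg.IsMinSimpleOddOrder G) {M : Subgroup G} (hM : IsCoatom M)

include hG hM

theorem not_sigma_of_sigma {L : Subgroup G} (hL : IsCoatom L) (hne : ∀ g : G, L ≠ cj g M) {t : ℕ}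
    (ht : t ∈ Cfsg.sigma M) : t ∉ Cfsg.sigma L := fun h => by
  obtain ⟨g, hg⟩ := conj_of_sigma_inter hG hM hL ht h
  exact hne g hg

theorem le_derived_of_sigma {X : Subgroup G} (hX : X ≤ Cfsg.sigmaCore M) : X ≤ ⁅M, M⁆ :=
  hX.trans (BGSigma.sigmaCore_le_commutator hG hM)

theorem le_sigmaCore_of_pgroup {t : ℕ} (ht : t ∈ Cfsg.sigma M) {X : Subgroup G} (hX : X ≤ M)
    (hXt : IsPGroup t X) : X ≤ Cfsg.sigmaCore M := by
  haveI := Fact.mk ht.1
  exact BGTypeP.le_sigmaCore hG hM hX (piNat_of_isPGroup hXt ht)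

theorem centralizer_ne_top {X : Subgroup G} {t : ℕ} (ht : t.Prime) (hX : Nat.card X = t) :
    centralizer (X : Set G) ≠ ⊤ := by
  clear hM
  exact BGUnique.centralizer_subgroup_ne_top hG (ne_bot_of_card ht hX)

omit hM in
theorem exists_coatom_normalizer {X : Subgroup G} {t : ℕ} (ht : t.Prime) (hX : Nat.card X = t) :
    ∃ L : Subgroup G, IsCoatom L ∧ normalizer (X : Set G) ≤ L := by
  refine BGUnique.exists_coatom_ge (BGSigma.normalizer_ne_top' hG (ne_bot_of_card ht hX) ?_)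
  rintro rfl
  haveI := Fact.mk ht
  exact BGUnique.centralizer_subgroup_ne_top hG (ne_bot_of_card ht hX)
    (top_le_iff.1 fun g _ h _ =>
      PGroupsBasic.comm_of_isMulCommutative (isMulCommutative_of_card_eq_prime hX)
        (mem_top h) (mem_top g))
where
  isMulCommutative_of_card_eq_prime {Y : Subgroup G} {q : ℕ} [Fact q.Prime] (h : Nat.card Y = q) :
      IsMulCommutative Y := (PGroupsBasic.isElementaryAbelian_of_card_eq_prime h).1

/-- A maximal subgroup `L ≠ M` containing `N(X)`, `X ≤ M` of order `t ∈ σ(M)`. -/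
theorem sigma_normalizer {t : ℕ} (ht : t ∈ Cfsg.sigma M) {X : Subgroup G} (hXM : X ≤ M)
    (hX : Nat.card X = t) {L : Subgroup G} (hL : IsCoatom L) (hne : L ≠ M)
    (hN : normalizer (X : Set G) ≤ L) :
    t ∈ Cfsg.tau2 L ∧ Cfsg.sigmaCore L ⊓ M = ⊥ ∧
      Cfsg.IsComplIn (L ⊓ M) (Cfsg.sigmaCore L) L ∧ ∀ g : G, L ≠ cj g M := by
  haveI := Fact.mk ht.1
  have hXp := isPGroup_of_card hX
  have hXL : X ≤ M ⊓ L := le_inf hXM (le_normalizer.trans hN)
  obtain ⟨S, hS⟩ := (hXp.comap_of_injective (M ⊓ L).subtype (M ⊓ L).subtype_injective).exists_le_sylow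
  set T : Subgroup G := (S : Subgroup ↥(M ⊓ L)).map (M ⊓ L).subtype with hT
  have hXT : X ≤ T := fun x hx => ⟨⟨x, hXL hx⟩, hS hx, rfl⟩
  obtain ⟨hnc, -, hfull⟩ :=
    S1424.result hG M hM t ht X hXp (ne_bot_of_card ht.1 hX) hXM L hL hne hN S hXT
  have hnot := not_sigma_of_sigma hG hM hL hnc ht
  have hτ := mem_tau2_of_normalizer_le hG ht.1 hL hnot hX hN
  have hTle : T ≤ M ⊓ L := map_subtype_le _
  have hTp : IsPGroup t T := S.isPGroup'.map _
  -- a Sylow subgroup of `L` inside `M`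
  obtain ⟨P, hP⟩ := (hTp.comap_of_injective L.subtype L.subtype_injective).exists_le_sylow
  have hTP : T ≤ (P : Subgroup L).map L.subtype := fun x hx =>
    ⟨⟨x, (hTle hx).2⟩, hP hx, rfl⟩
  have hPT : (P : Subgroup L).map L.subtype = T := by
    refine (eq_of_le_of_card_ge hTP ?_).symm
    obtain ⟨n, hn⟩ := IsPGroup.iff_card.1 (P.isPGroup'.map L.subtype)
    obtain ⟨k, hk⟩ := IsPGroup.iff_card.1 hTp
    have h1 : Nat.card ((P : Subgroup L).map L.subtype) ∣ Nat.card T * T.relIndex L := by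
      rw [BGFinal72.card_mul_relIndex (hTle.trans inf_le_right)]
      exact card_dvd_of_le (map_subtype_le _)
    have hco : (Nat.card ((P : Subgroup L).map L.subtype)).Coprime (T.relIndex L) := by
      rw [hn]
      exact Nat.Coprime.pow_left n ((Nat.Prime.coprime_iff_not_dvd ht.1).2 hfull)
    exact Nat.le_of_dvd Nat.card_pos (hco.dvd_of_dvd_mul_right h1)
  obtain ⟨A₀, hA₀L, hA₀, hA₀c⟩ := exists_elementary_sq hτ.2.2.1 hτ.2.2.2
  obtain ⟨l, hl, hle⟩ := BGSigma.exists_conj_maxP (BGUnique.isMaxP_sylow L P) hA₀L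
    (PGroupsBasic.isPGroup_of_isElementaryAbelian hA₀)
  set A : Subgroup G := cj l A₀ with hAdef
  have hA : Cfsg.IsElementaryAbelian t A := PGroupsBasic.isElementaryAbelian_map_hom hA₀ _
  have hAc : Nat.card A = t ^ 2 := by rw [hAdef, BGTypeP.card_cj, hA₀c]
  have hAP : A ≤ (P : Subgroup L).map L.subtype := hle
  have hAM : A ≤ M ⊓ L := (hPT ▸ hAP).trans hTle
  have hAp := PGroupsBasic.isPGroup_of_isElementaryAbelian hA
  obtain ⟨E₀, hE₀⟩ := exists_compl hG hM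
  have hNA : normalizer (A : Set G) ≤ M := (S1420.result hG M hM E₀ hE₀).2.2.1 t A ht hAp
    (hAM.trans inf_le_left) (BGUnique.not_isCyclic_of_sq_le hA hAc.ge)
  obtain ⟨E, hE, hAE⟩ := exists_compl_ge_prime hG hL ht.1 hnot (hAM.trans inf_le_right) hAp
  have hEM : E ≤ M :=
    ((S1418.result hG L hL E hE t hτ A ⟨hAE, hA, hAc⟩).1.1).trans hNA
  have hbot : Cfsg.sigmaCore L ⊓ M = ⊥ :=
    (S1417.result hG L hL t hτ A ⟨hAM.trans inf_le_right, hA, hAc⟩).2.2.2.2.1 M hM hne.symm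
      (hAM.trans inf_le_left)
  refine ⟨hτ, hbot, ⟨inf_le_left, hE.2.1, eq_bot_iff.2 ?_, fun m hm => ?_⟩, hnc⟩
  · rw [← hbot]
    exact fun x hx => ⟨hx.2, hx.1.2⟩
  · obtain ⟨a, ha, b, hb, hab⟩ := hE.2.2.2 m hm
    exact ⟨a, ⟨hE.1 ha, hEM ha⟩, b, hb, hab⟩

/-- BG 13.6 for a subgroup of prime order. -/
theorem cent_unique {p : ℕ}
    [Fact p.Prime] (hp : p ∈ Cfsg.tau1 M) {P : Subgroup G} (hPM : P ≤ M) (hP : Nat.card P = p)
    {X : Subgroup G} (hX : X ≤ Cfsg.sigmaCore M ⊓ centralizer (P : Set G))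
    (hXp : (Nat.card X).Prime) :
    centralizer (X : Set G) ≤ M ∧
      ∀ L : Subgroup G, IsCoatom L → centralizer (X : Set G) ≤ L → L = M :=
  (BGPrime.centralizer_unique_prime hG hM hp hPM hP hXp hX).1

/-- BG 12.? restated: `C(X)` for `X` of order `p ∈ τ₂` with fixed points on `M_σ`. -/
theorem tau2_cent_unique {p : ℕ} (hp : p ∈ Cfsg.tau2 M) {X : Subgroup G} (hXM : X ≤ M)
    (hX : Nat.card X = p) (hC : Cfsg.sigmaCore M ⊓ centralizer (X : Set G) ≠ ⊥) :
    centralizer (X : Set G) ≤ M ∧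
      ∀ L : Subgroup G, IsCoatom L → centralizer (X : Set G) ≤ L → L = M := by
  haveI := Fact.mk hp.1
  obtain ⟨E, hE, hXE⟩ := exists_compl_ge_prime hG hM hp.1 hp.2.1 hXM (isPGroup_of_card hX)
  obtain ⟨A, hA⟩ := exists_sq_le_compl hG hM hp hE
  have h := S1418.result hG M hM E hE p hp A hA
  exact h.2.2 X (h.1.2 X hXE hX) hX hC

/-- The normalizer of `X` lies in `M` when `X` lies in `C_{M_σ}(P)` and `C(X) ≤ M`. -/
theorem normalizer_le_of_centralizer {X : Subgroup G} {t : ℕ} (ht : t.Prime) (hX : Nat.card X = t)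
    (h : ∀ L : Subgroup G, IsCoatom L → centralizer (X : Set G) ≤ L → L = M) :
    normalizer (X : Set G) ≤ M := by
  obtain ⟨L, hL, hN⟩ := exists_coatom_normalizer hG ht hX
  exact h L hL ((centralizer_le_normalizer _).trans hN) ▸ hN

theorem le_derived_of_tau3 {q : ℕ} (hq : q ∈ Cfsg.tau3 M) {R : Subgroup G} (hR : R ≤ M)
    (hRc : Nat.card R = q) : R ≤ ⁅M, M⁆ := by
  haveI := Fact.mk hq.1
  obtain ⟨Y, hY, hYc⟩ := exists_prime_subgroup_of_dvd hq.1 hq.2.2.1
  obtain ⟨m, hm, rfl⟩ := exists_conj_prime hG hq.2.2.2 (hY.trans (commutator_le_self M)) hR hYc hRc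
  exact (BGTypeP.cj_mono m hY).trans_eq
    (BGTypeP.cj_eq_self (BGTypeBasic.le_normalizer_derived M hm))

/-- A subgroup of order `p ∈ τ₃(M)` is normal in every complement containing it. -/
theorem tau3_normal {p : ℕ} (hp : p ∈ Cfsg.tau3 M) {P E : Subgroup G}
    (hE : Cfsg.IsComplIn E (Cfsg.sigmaCore M) M) (hPE : P ≤ E) (hPc : Nat.card P = p) :
    E ≤ normalizer (P : Set G) := by
  haveI := Fact.mk hp.1
  have hEs : Group.IsSolvable E := BGUnique.isSolvable_of_ne_top hG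
    (fun h => hM.1 (top_le_iff.1 (h ▸ hE.1)))
  obtain ⟨E₃, hE₃⟩ := BGTypeP.exists_hallOf hEs (Cfsg.tau3 M)
  obtain ⟨hc, -, hn⟩ := (S1415.result hG M hM E hE).2.2 E₃ hE₃
  have hP3 : P ≤ E₃ :=
    BGTypeP.le_of_normal_hall hE₃ hn hPE (hPc ▸ piNat_prime hp.1 hp)
  refine CoprimeAction.le_normalizer_of_conj_mem fun e he x hx => ?_
  have h1 : cj e P = P := isPGroup_eq_of_order_prime hc
    ((BGTypeP.cj_mono e hP3).trans_eq (BGTypeP.cj_eq_self (hn he))) hP3
    (by rw [BGTypeP.card_cj, hPc]) hPc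
  rw [← h1]
  exact BGTypeP.conj_mem_cj.2 hx

/-- BG 13.11 (first part): a nonregular `τ₃`-prime leaves no `τ₂`-prime. -/
theorem tau2_empty {p : ℕ} (hp : p ∈ Cfsg.tau3 M) {P : Subgroup G} (hPM : P ≤ M)
    (hPc : Nat.card P = p) (hC : Cfsg.sigmaCore M ⊓ centralizer (P : Set G) ≠ ⊥) (q : ℕ) :
    q ∉ Cfsg.tau2 M := by
  intro hq
  haveI := Fact.mk hp.1
  haveI := Fact.mk hq.1
  have hqp : q ≠ p := fun h => hq.2.2.2 (h ▸ hp.2.2.2)
  obtain ⟨E, hE, hPE⟩ := exists_compl_ge_prime hG hM hp.1 hp.2.1 hPM (isPGroup_of_card hPc)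
  obtain ⟨A, hAE, hA, hAc⟩ := exists_sq_le_compl hG hM hq hE
  have hNA := (S1418.result hG M hM E hE q hq A ⟨hAE, hA, hAc⟩).1.1
  have hdis : P ⊓ A = ⊥ := inf_eq_bot_of_coprime (by
    rw [hPc, hAc]
    exact ((Nat.coprime_primes hp.1 hq.1).2 hqp.symm).pow_right 2)
  have hAP : A ≤ centralizer (P : Set G) := le_centralizer_iff.1
    (BGTypeP.le_centralizer_of_normalizes (hPE.trans hNA)
      (hAE.trans (tau3_normal hG hM hp hE hPE hPc)) hdis)
  obtain ⟨L, hL, hN⟩ := exists_coatom_normalizer hG hp.1 hPc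
  have hne : L ≠ M := ne_of_not_cj
    (not_cj_of_normalizer_le hG hL (Or.inr hp) hPc hN)
  have h := (S1417.result hG M hM q hq A ⟨hAE.trans hE.1, hA, hAc⟩).2.2.2.2.1 L hL hne
    (hAP.trans ((centralizer_le_normalizer _).trans hN))
  refine hC (eq_bot_iff.2 ?_)
  rw [← h]
  exact le_inf inf_le_left (inf_le_right.trans ((centralizer_le_normalizer _).trans hN))

omit hM in
/-- A nontrivial `p'`-element of a complement moves `P ≤ E'` of order `p`. -/
theorem exists_moving_element {p : ℕ} (hp : p.Prime) {E P : Subgroup G}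
    (hE : Group.IsSolvable E) (hr : Cfsg.PRankLE p 1 E) (hP : P ≤ ⁅E, E⁆) (hPc : Nat.card P = p)
    (hn : E ≤ normalizer (P : Set G)) :
    ∃ r : ℕ, r.Prime ∧ r ≠ p ∧ ∃ x ∈ E, (∃ i, orderOf x = r ^ i) ∧
      x ∉ centralizer (P : Set G) := by
  haveI := Fact.mk hp
  by_contra hcon
  have hPE : P ≤ E := hP.trans (commutator_le_self E)
  obtain ⟨S, hS, hPS⟩ := BGUnique.exists_isMaxP_ge (isPGroup_of_card hPc) hPE
  have hScyc : IsCyclic S := isCyclic_of_rank_one hG hr hS.le hS.isPGroup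
  haveI : IsMulCommutative S := inferInstance
  -- every element of prime power order centralizes `P`
  have hPnS : E ⊓ centralizer (P : Set G) = E := by
    refine inf_eq_left.2 (BGRankTwo.le_of_sylow_le fun q hq x hx ⟨i, hi⟩ => ?_)
    by_contra hx'
    by_cases hqp : q = p
    · subst hqp
      obtain ⟨m, hm, hle⟩ := BGSigma.exists_conj_maxP hS (zpowers_le.2 hx)
        (IsPGroup.of_card (n := i) (by rw [Nat.card_zpowers, hi]))
      have hP' : cj m P = P := BGTypeP.cj_eq_self (hn hm)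
      refine hx' fun y hy => ?_
      have h1 : m * x * m⁻¹ ∈ S := hle ⟨x, mem_zpowers x, rfl⟩
      have h2 : m * y * m⁻¹ ∈ S := hPS (hP' ▸ BGTypeP.conj_mem_cj.2 hy)
      have h3 := PGroupsBasic.comm_of_isMulCommutative (inferInstance : IsMulCommutative S) h2 h1
      calc y * x = m⁻¹ * (m * y * m⁻¹ * (m * x * m⁻¹)) * m := by group
        _ = m⁻¹ * (m * x * m⁻¹ * (m * y * m⁻¹)) * m := by rw [h3]
        _ = x * y := by group
    · exact hcon ⟨q, hq, hqp, x, hx, ⟨i, hi⟩, hx'⟩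
  exact absurd_central hp hE hr hP hPc (inf_eq_left.1 hPnS)
where
  /-- `P ≤ E'` cannot be central in `E`. -/
  absurd_central {p : ℕ} (hp : p.Prime) {E P : Subgroup G} (hE : Group.IsSolvable E)
      (hr : Cfsg.PRankLE p 1 E) (hP : P ≤ ⁅E, E⁆) (hPc : Nat.card P = p)
      (hc : E ≤ centralizer (P : Set G)) : False := by
    haveI := Fact.mk hp
    obtain ⟨y, hy, hy1⟩ := P.bot_or_exists_ne_one.resolve_left (ne_bot_of_card hp hPc)
    obtain ⟨S⟩ : Nonempty (Sylow p E) := inferInstance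
    have hScyc : IsCyclic S := by
      exact (((S : Subgroup E).equivMapOfInjective _ E.subtype_injective).isCyclic).2
        (isCyclic_of_rank_one hG hr (map_subtype_le _) (S.isPGroup'.map _))
    haveI := hScyc
    haveI : IsMulCommutative S := inferInstance
    have hyE : y ∈ E := (hP.trans (commutator_le_self E)) hy
    let f : E →* S := MonoidHom.transfer (MonoidHom.id S)
    have hcen : (⟨y, hyE⟩ : E) ∈ center E := by
      rw [mem_center_iff]
      exact fun e => Subtype.ext (hc e.2 y hy).symm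
    have h1 : f ⟨y, hyE⟩ = 1 := by
      refine Abelianization.commutator_subset_ker f ?_
      have h2 : y ∈ (commutator E).map E.subtype := by
        rw [map_subtype_commutator]; exact hP hy
      obtain ⟨z, hz, hzy⟩ := h2
      rwa [show (⟨y, hyE⟩ : E) = z from Subtype.ext hzy.symm]
    have h2 := MonoidHom.transfer_eq_pow (MonoidHom.id S) (⟨y, hyE⟩ : E) (fun k g₀ hk => by
      rw [mem_center_iff.1 (pow_mem hcen k) g₀⁻¹, inv_mul_cancel_right])
    have h3 : (⟨y, hyE⟩ : E) ^ (S : Subgroup E).index = 1 := by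
      have := h2.symm.trans h1
      exact congrArg Subtype.val this
    have h4 : orderOf (⟨y, hyE⟩ : E) = p := by
      rw [orderOf_mk]
      exact PGroupsBasic.orderOf_eq_of_pow_eq_one (PGroupsBasic.pow_eq_one_of_card hPc hy) hy1
    have h5 := orderOf_dvd_of_pow_eq_one h3
    rw [h4] at h5
    exact S.not_dvd_index h5

/-- BG 13.13, given BG 13.6 for `(M, P)`. -/
theorem mem_sigma_of_fixed_aux {p : ℕ} (hp : p ∈ Cfsg.tau1 M ∪ Cfsg.tau3 M) {P : Subgroup G}
    (hPM : P ≤ M) (hPc : Nat.card P = p) (hC : Cfsg.sigmaCore M ⊓ centralizer (P : Set G) ≠ ⊥)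
    (h136 : ∀ (t : ℕ) (X : Subgroup G), t.Prime →
      X ≤ Cfsg.sigmaCore M ⊓ centralizer (P : Set G) → Nat.card X = t →
      centralizer (X : Set G) ≤ M ∧
        ∀ L : Subgroup G, IsCoatom L → centralizer (X : Set G) ≤ L → L = M)
    {L : Subgroup G} (hL : IsCoatom L) (hN : normalizer (P : Set G) ≤ L) :
    p ∈ Cfsg.sigma L := by
  by_contra hpL
  obtain ⟨hp', hpM, -, hr1⟩ := tau13_iff.1 hp
  haveI := Fact.mk hp'
  have hτ := mem_tau2_of_normalizer_le hG hp' hL hpL hPc hN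
  have hne := not_cj_of_normalizer_le hG hL hp hPc hN
  obtain ⟨t, X, ht, hX, hXc⟩ := exists_prime_subgroup hC
  haveI := Fact.mk ht
  obtain ⟨hCX, hu⟩ := h136 t X ht hX hXc
  have htM := mem_sigma_of_le ht (hX.trans inf_le_left) hXc
  have htL := not_sigma_of_sigma hG hM hL hne htM
  have hPL : P ≤ L := le_normalizer.trans hN
  have hXL : X ≤ L := hX.trans (inf_le_right.trans ((centralizer_le_normalizer _).trans hN))
  have hPX : X ≤ centralizer (P : Set G) := hX.trans inf_le_right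
  have htp : p ≠ t := fun h => hpM (h ▸ htM)
  obtain ⟨Z, hZc, hPZ, hXZ, hZle⟩ := exists_cyclic_sup hp' ht htp hPc hXc hPX
  obtain ⟨F, hF, hZF⟩ := exists_compl_ge hG hL (hZle.trans (sup_le hPL hXL))
    (hZc ▸ (piNat_prime hp' hpL).mul (piNat_prime ht htL))
  obtain ⟨B, hB⟩ := exists_sq_le_compl hG hL hτ hF
  obtain ⟨⟨hFB, hBall⟩, ⟨-, -, hNB⟩, -⟩ := S1418.result hG L hL F hF p hτ B hB
  have hBp := PGroupsBasic.isPGroup_of_isElementaryAbelian hB.2.1
  have hPB : P ≤ B := hBall P (hPZ.trans hZF) hPc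
  have hXB : ¬ X ≤ centralizer (B : Set G) := fun h =>
    not_pRankLE_one ((le_centralizer_iff.1 h).trans hCX) hB.2.1 hB.2.2 hr1
  have hB1 : B ≠ ⊥ := fun h => ne_bot_of_card hp' hPc (eq_bot_iff.2 (h ▸ hPB))
  have hBt : B ≠ ⊤ := fun h => hL.1 (top_le_iff.1 (h ▸ hB.1.trans hF.1))
  obtain ⟨H, hH, hNH⟩ := BGUnique.exists_coatom_ge (BGSigma.normalizer_ne_top' hG hB1 hBt)
  have hBH : B ≤ H := le_normalizer.trans hNH
  have hpH : p ∈ Cfsg.sigma H := by
    by_contra hpH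
    have hτH : p ∈ Cfsg.tau2 H := ⟨hp', hpH, BGSigma.outside_alpha hG hH hp' hpH,
      not_pRankLE_one hBH hB.2.1 hB.2.2⟩
    obtain ⟨EH, hEH, hBE⟩ := exists_compl_ge_prime hG hH hp' hpH hBH hBp
    exact (S1418.result hG H hH EH hEH p hτH B ⟨hBE, hB.2⟩).2.1.2.2 hNH
  have hHL : ∀ g : G, H ≠ cj g L := not_cj_of_sigma hpH hpL
  have hHM : ∀ g : G, H ≠ cj g M := not_cj_of_sigma hpH hpM
  have htH := not_sigma_of_sigma hG hM hH hHM htM
  have hXH : X ≤ H := (hXZ.trans hZF).trans (hFB.trans hNH)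
  have hPσ : P ≤ Cfsg.sigmaCore H :=
    le_sigmaCore_of_pgroup hG hH hpH (hPB.trans hBH) (isPGroup_of_card hPc)
  have hPin : P ≤ Cfsg.sigmaCore H ⊓ centralizer (X : Set G) :=
    le_inf hPσ (le_centralizer_iff.1 hPX)
  rcases tau_cases hG hH ht htH (hXc ▸ card_dvd_of_le hXH) with (h | h) | h
  · obtain ⟨-, hu'⟩ := cent_unique hG hH h hXH hXc hPin (hPc ▸ hp')
    exact ne_of_not_cj hHL (hu' L hL ((centralizer_le_normalizer _).trans hN)).symm
  · -- a complement of `H` normalizing `X` and a conjugate of `P` moves `X` inside `L'`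
    have hNX := normalizer_le_of_centralizer hG hM ht hXc hu
    obtain ⟨E, hE, hXE⟩ := exists_compl_ge_prime hG hH ht htH hXH (isPGroup_of_card hXc)
    have hEX := tau3_normal hG hH h hE hXE hXc
    set D : Subgroup G := Cfsg.sigmaCore H ⊓ centralizer (X : Set G) with hD
    have hED : E ≤ normalizer (D : Set G) :=
      CoprimeAction.le_normalizer_inf (hE.1.trans (BGFinal72.le_normalizer_sigmaCore H))
        (hEX.trans (BGRankTwo.normalizer_le_normalizer_centralizer X))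
    have hEs : Group.IsSolvable E :=
      BGUnique.isSolvable_of_ne_top hG fun h' => hH.1 (top_le_iff.1 (h' ▸ hE.1))
    have hco : (Nat.card E).Coprime (Nat.card D) :=
      ((PiNat.coprime (BGTypeP.piNat_sigmaCore H)
        (BGTypeP.hallOf_iff.1 (compl_hall hG hH hE)).2.1).coprime_dvd_left
        (card_dvd_of_le inf_le_left)).symm
    obtain ⟨S, hS⟩ := CoprimeAction.exists_invariant_sylow hED hco (Or.inl hEs) p
    obtain ⟨c, hc, hle⟩ := BGSigma.exists_conj_maxP (BGUnique.isMaxP_sylow D S) hPin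
      (isPGroup_of_card hPc)
    have hcyc : IsCyclic ((S : Subgroup D).map D.subtype) :=
      isCyclic_of_rank_one hG hr1 (((map_subtype_le _).trans inf_le_right).trans
        ((centralizer_le_normalizer _).trans hNX)) (S.isPGroup'.map _)
    have hEP : E ≤ normalizer (cj c P : Set G) := by
      refine CoprimeAction.le_normalizer_of_conj_mem fun a ha y hy => ?_
      rw [← isPGroup_eq_of_order_prime (p := p) hcyc (Y := cj c P)
        ((BGTypeP.cj_mono a (show cj c P ≤ _ from hle)).trans_eq (BGTypeP.cj_eq_self (hS ha))) hle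
        (by rw [BGTypeP.card_cj, BGTypeP.card_cj, hPc]) (by rw [BGTypeP.card_cj, hPc])]
      exact BGTypeP.conj_mem_cj.2 hy
    -- move back
    have hEL : cj c⁻¹ E ≤ L := by
      refine le_trans ?_ hN
      refine CoprimeAction.le_normalizer_of_conj_mem fun a ha y hy => ?_
      rw [BGTypeP.mem_cj, inv_inv] at ha
      have h1 := CoprimeAction.conj_mem (hEP ha) (BGTypeP.conj_mem_cj (g := c).2 hy)
      rw [BGTypeP.mem_cj] at h1
      convert h1 using 1
      group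
    obtain ⟨E₃, hE₃, hX3⟩ := BGTypeP.exists_hallOf_ge hEs (Cfsg.tau3 H) hXE
      (hXc ▸ piNat_prime ht h)
    have hXd : X ≤ ⁅E, E⁆ := hX3.trans ((S1415.result hG H hH E hE).2.2 E₃ hE₃).2.1
    have hcX : cj c⁻¹ X = X :=
      BGTypeP.cj_eq_self (inv_mem (centralizer_le_normalizer _ hc.2))
    have hXL' : X ≤ ⁅L, L⁆ := by
      rw [← hcX]
      refine (BGTypeP.cj_mono _ hXd).trans ?_
      rw [BGTypeP.cj, map_commutator]
      exact commutator_mono hEL hEL
    -- `t ∈ τ₁(L)`, as otherwise `X` would centralize `B`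
    rcases tau_cases hG hL ht htL (hXc ▸ card_dvd_of_le hXL) with (h1 | h3) | h2
    · exact h1.2.2.2.1 (hXc ▸ card_dvd_of_le hXL')
    · refine hXB ((centralizes_of_le_commutator hG hL hH (not_cj_symm hHL) htH
        (isPGroup_of_card hXc) (le_inf hXH hXL) (le_derived_of_tau3 hG hL h3 hXL hXc)).trans
        (centralizer_le (le_inf (le_sigmaCore_of_pgroup hG hH hpH hBH hBp) (hB.1.trans hF.1))))
    · refine hXB ?_
      obtain ⟨A, hA⟩ := exists_sq_le_compl hG hL h2 hF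
      obtain ⟨⟨hFA, hAall⟩, -, -⟩ := S1418.result hG L hL F hF t h2 A hA
      exact (hAall X (hXZ.trans hZF) hXc).trans (BGTypeP.le_centralizer_of_normalizes
        (hA.1.trans hFB) (hB.1.trans hFA) (inf_eq_bot_of_coprime (by
          rw [hA.2.2, hB.2.2]
          exact ((Nat.coprime_primes ht hp').2 htp.symm).pow _ _)))
  · obtain ⟨-, hu'⟩ := tau2_cent_unique hG hH h hXH hXc
      (fun hb => ne_bot_of_card hp' hPc (eq_bot_iff.2 (hb ▸ hPin)))
    exact ne_of_not_cj hHM (hu' M hM hCX).symm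

/-- BG 13.13 for `p ∈ τ₁(M)`. -/
theorem mem_sigma_of_fixed_tau1 {p : ℕ} (hp : p ∈ Cfsg.tau1 M) {P : Subgroup G}
    (hPM : P ≤ M) (hPc : Nat.card P = p) (hC : Cfsg.sigmaCore M ⊓ centralizer (P : Set G) ≠ ⊥)
    {L : Subgroup G} (hL : IsCoatom L) (hN : normalizer (P : Set G) ≤ L) :
    p ∈ Cfsg.sigma L := by
  haveI := Fact.mk hp.1
  exact mem_sigma_of_fixed_aux hG hM (Or.inl hp) hPM hPc hC
    (fun t X ht hX hXc => cent_unique hG hM hp hPM hPc hX (hXc ▸ ht)) hL hN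

/-- With `Z ≤ H_σ` normal in a complement of `L_σ`, every prime of that complement has a subgroup
centralizing `Z`. -/
theorem exists_commuting {H : Subgroup G} (hH : IsCoatom H) {L : Subgroup G} (hL : IsCoatom L)
    {r : ℕ} (hrH : r ∈ Cfsg.tau1 H) {R : Subgroup G} (hRH : R ≤ H) (hRc : Nat.card R = r)
    (hRσ : R ≤ Cfsg.sigmaCore L) {t : ℕ} (ht : t ∈ Cfsg.tau3 L) {Z : Subgroup G}
    (hZL : Z ≤ L) (hZσ : Z ≤ Cfsg.sigmaCore H) (hZc : Nat.card Z = t)
    (hZR : Z ≤ centralizer (R : Set G)) (hNZ : normalizer (Z : Set G) ≤ H)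
    {s : ℕ} (hs : s.Prime) (hsL : s ∉ Cfsg.sigma L) (hsd : s ∣ Nat.card L)
    (hsH : s ∉ Cfsg.sigma H) (hsr : r ≠ s) :
    ∃ W : Subgroup G, W ≤ L ∧ Nat.card W = s ∧ W ≤ centralizer (Z : Set G) := by
  clear hM
  haveI := Fact.mk hrH.1
  haveI := Fact.mk ht.1
  have hCZ : centralizer (Z : Set G) ≤ H := (centralizer_le_normalizer _).trans hNZ
  obtain ⟨F, hF, hZF⟩ := exists_compl_ge_prime hG hL ht.1 ht.2.1 hZL (isPGroup_of_card hZc)
  have hFZ := tau3_normal hG hL ht hF hZF hZc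
  set D : Subgroup G := Cfsg.sigmaCore L ⊓ centralizer (Z : Set G) with hD
  have hFD : F ≤ normalizer (D : Set G) :=
    CoprimeAction.le_normalizer_inf (hF.1.trans (BGFinal72.le_normalizer_sigmaCore L))
      (hFZ.trans (BGRankTwo.normalizer_le_normalizer_centralizer Z))
  have hco : (Nat.card F).Coprime (Nat.card D) :=
    ((PiNat.coprime (BGTypeP.piNat_sigmaCore L)
      (BGTypeP.hallOf_iff.1 (compl_hall hG hL hF)).2.1).coprime_dvd_left
      (card_dvd_of_le inf_le_left)).symm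
  obtain ⟨S, hS⟩ := CoprimeAction.exists_invariant_sylow hFD hco
    (Or.inl (BGUnique.isSolvable_of_ne_top hG fun h => hL.1 (top_le_iff.1 (h ▸ hF.1)))) r
  obtain ⟨c, hc, hle⟩ := BGSigma.exists_conj_maxP (BGUnique.isMaxP_sylow D S)
    (le_inf hRσ (le_centralizer_iff.1 hZR)) (isPGroup_of_card hRc)
  set R₀ : Subgroup G := cj c R with hR₀
  have hR₀S : R₀ ≤ (S : Subgroup D).map D.subtype := hle
  have hR₀c : Nat.card R₀ = r := by rw [hR₀, BGTypeP.card_cj, hRc]
  have hScyc : IsCyclic ((S : Subgroup D).map D.subtype) :=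
    isCyclic_of_rank_one hG hrH.2.2.2.2
      (((map_subtype_le _).trans inf_le_right).trans hCZ) (S.isPGroup'.map _)
  have hcH : c ∈ H := hCZ hc.2
  have hR₀H : R₀ ≤ H := (BGTypeP.cj_mono c hRH).trans_eq (BGTypeP.cj_of_mem hcH)
  obtain ⟨W, hWF, hWc⟩ := exists_prime_subgroup_of_dvd hs (show s ∣ Nat.card F by
    have hd := hsd
    rw [← BGTypeBasic.card_mul_of_isComplIn hF] at hd
    exact (hs.dvd_mul.1 hd).resolve_right fun h => hsL (BGTypeP.piNat_sigmaCore L s hs h))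
  have hWH : W ≤ H := hWF.trans (hFZ.trans hNZ)
  have hWR : W ≤ normalizer (R₀ : Set G) := by
    refine CoprimeAction.le_normalizer_of_conj_mem fun a ha y hy => ?_
    rw [← isPGroup_eq_of_order_prime (p := r) hScyc
      ((BGTypeP.cj_mono a hR₀S).trans_eq (BGTypeP.cj_eq_self (hS (hWF ha)))) hR₀S
      (by rw [BGTypeP.card_cj, hR₀c]) hR₀c]
    exact BGTypeP.conj_mem_cj.2 hy
  have hWR' : W ≤ centralizer (R₀ : Set G) := by
    intro a ha b hb
    have h1 : ⁅b, a⁆ ∈ R₀ ⊓ ⁅H, H⁆ := by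
      refine ⟨?_, commutator_mem_commutator (hR₀H hb) (hWH ha)⟩
      rw [commutatorElement_def]
      have : b * a * b⁻¹ * a⁻¹ = b * (a * b⁻¹ * a⁻¹) := by group
      rw [this]
      exact mul_mem hb ((mem_normalizer_iff.1 (hWR ha) _).1 (inv_mem hb))
    rw [inf_eq_bot_of_coprime (by
      rw [hR₀c]; exact (Nat.Prime.coprime_iff_not_dvd hrH.1).2 hrH.2.2.2.1), mem_bot,
      commutatorElement_eq_one_iff_mul_comm] at h1
    exact h1
  obtain ⟨V, hVc, hRV, hWV, hVle⟩ := exists_cyclic_sup hrH.1 hs hsr hR₀c hWc hWR'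
  obtain ⟨FH, hFH, hVF⟩ := exists_compl_ge hG hH (hVle.trans (sup_le hR₀H hWH))
    (hVc ▸ (piNat_prime hrH.1 hrH.2.1).mul (piNat_prime hs hsH))
  have hZR₀ : Z ≤ centralizer (R₀ : Set G) := by
    intro z hz
    rintro _ ⟨y, hy, rfl⟩
    have h1 : Commute y z := hZR hz y hy
    have h2 : Commute c z := (hc.2 z hz).symm
    simp only [MulEquiv.coe_toMonoidHom, MulAut.conj_apply]
    exact ((h2.mul_left h1).mul_left h2.inv_left).eq
  refine ⟨W, hWF.trans hF.1, hWc, le_centralizer_iff.1 ?_⟩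
  exact (((le_inf hZσ hZR₀).trans (S1428.result hG H hH FH hFH r hrH R₀ (hRV.trans hVF) hR₀c W
    (le_inf (hWV.trans hVF) hWR') (hWc ▸ hs))).trans inf_le_right)

/-- No subgroup of order `r ∈ τ₁(M) ∩ τ₁(H)` moves both `P` and `Y` (the part of BG 13.8 that is
needed here). -/
theorem tau3_asymmetry {p : ℕ} (hp : p ∈ Cfsg.tau3 M) {E P : Subgroup G}
    (hE : Cfsg.IsComplIn E (Cfsg.sigmaCore M) M) (hPE : P ≤ E) (hPc : Nat.card P = p)
    {H : Subgroup G} (hH : IsCoatom H) (hN : normalizer (P : Set G) ≤ H)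
    (hpH : p ∈ Cfsg.sigma H) {r : ℕ} (hr1 : r ∈ Cfsg.tau1 M) (hrH : r ∈ Cfsg.tau1 H)
    {R : Subgroup G} (hRE : R ≤ E) (hRc : Nat.card R = r) {t : ℕ} (ht3 : t ∈ Cfsg.tau3 H)
    {Y : Subgroup G} (hYC : Y ≤ Cfsg.sigmaCore M ⊓ centralizer (P : Set G))
    (hYc : Nat.card Y = t) (hRY : R ≤ normalizer (Y : Set G))
    (hRYnc : ¬ R ≤ centralizer (Y : Set G)) (hRPnc : ¬ R ≤ centralizer (P : Set G)) : False := by
  haveI := Fact.mk hp.1
  haveI := Fact.mk hr1.1
  haveI := Fact.mk ht3.1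
  have hPM : P ≤ M := hPE.trans hE.1
  have hRM : R ≤ M := hRE.trans hE.1
  have hEP := tau3_normal hG hM hp hE hPE hPc
  have hEH : E ≤ H := hEP.trans hN
  have hne := not_cj_of_normalizer_le hG hH (Or.inr hp) hPc hN
  have hC : Cfsg.sigmaCore M ⊓ centralizer (P : Set G) ≠ ⊥ := fun h =>
    ne_bot_of_card ht3.1 hYc (eq_bot_iff.2 (h ▸ hYC))
  have hCH : Cfsg.sigmaCore M ⊓ centralizer (P : Set G) ≤ H :=
    inf_le_right.trans ((centralizer_le_normalizer _).trans hN)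
  have hYM : Y ≤ Cfsg.sigmaCore M := hYC.trans inf_le_left
  have hYH : Y ≤ H := hYC.trans hCH
  have htM : t ∈ Cfsg.sigma M := mem_sigma_of_le ht3.1 hYM hYc
  have hinter : Cfsg.sigmaCore M ⊓ H ≤ centralizer (P : Set G) :=
    le_centralizer_iff.1 (le_centralizer_inter hG hM hH (Or.inr hp) hPM hPc hN
      (isPGroup_of_card hPc) (le_inf hPM (le_normalizer.trans hN)))
  -- `C_{M_σ}(R)` is not inside `H`
  have hcoM : ∀ Q : Subgroup G, Q ≤ E →
      (Nat.card Q).Coprime (Nat.card (Cfsg.sigmaCore M)) := fun Q hQ =>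
    ((PiNat.coprime (BGTypeP.piNat_sigmaCore M)
      (BGTypeP.hallOf_iff.1 (compl_hall hG hM hE)).2.1).symm).coprime_dvd_left (card_dvd_of_le hQ)
  have hD1 : ¬ Cfsg.sigmaCore M ⊓ centralizer (R : Set G) ≤ H := by
    intro hle
    haveI : Group.IsSolvable (Cfsg.sigmaCore M) := BGUnique.isSolvable_of_ne_top hG
      fun h => hM.1 (top_le_iff.1 (h ▸ BGFinal72.sigmaCore_le M))
    have hPcen := BG14Frob83.le_centralizer_of_fixed hp.1 hPc (hRc ▸ hr1.1) (hRE.trans hEP)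
      hRPnc (hPM.trans (BGFinal72.le_normalizer_sigmaCore M))
      (hRM.trans (BGFinal72.le_normalizer_sigmaCore M)) (hPc ▸ hcoM P hPE) (hcoM R hRE)
      ((le_inf inf_le_left hle).trans hinter)
    have hMH : M ≤ H := fun m hm => by
      obtain ⟨a, ha, b, hb, rfl⟩ := hE.2.2.2 m hm
      exact mul_mem (hEH ha)
        (((centralizer_le_normalizer _).trans hN) (le_centralizer_iff.1 hPcen hb))
    exact hH.1 (hM.2 H (lt_of_le_of_ne hMH (ne_of_not_cj hne).symm))
  obtain ⟨t₁, X, ht1, hX, hXc⟩ := exists_prime_subgroup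
    (fun hb : Cfsg.sigmaCore M ⊓ centralizer (R : Set G) = ⊥ => hD1 (hb ▸ bot_le))
  haveI := Fact.mk ht1
  -- `C_{H_σ}(R) ≠ 1`
  have htH : t ∉ Cfsg.sigma H := ht3.2.1
  have hYn : ¬ normalizer (Y : Set G) ≤ H := fun h =>
    not_tau2_of_tau13 (Or.inr ht3) (mem_tau2_of_normalizer_le hG ht3.1 hH htH hYc h)
  obtain ⟨F, hF, hYF⟩ := exists_compl_ge_prime hG hH ht3.1 htH hYH (isPGroup_of_card hYc)
  have hD2 : Cfsg.sigmaCore H ⊓ centralizer (R : Set G) ≠ ⊥ := by
    intro hb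
    haveI : Group.IsSolvable (Cfsg.sigmaCore H) := BGUnique.isSolvable_of_ne_top hG
      fun h => hH.1 (top_le_iff.1 (h ▸ BGFinal72.sigmaCore_le H))
    have hcoH : ∀ {q : ℕ}, q.Prime → q ∉ Cfsg.sigma H →
        q.Coprime (Nat.card (Cfsg.sigmaCore H)) := fun hq hqs =>
      (Nat.Prime.coprime_iff_not_dvd hq).2 fun h => hqs (BGTypeP.piNat_sigmaCore H _ hq h)
    have hcen := BG14Frob83.le_centralizer_of_fixed ht3.1 hYc (hRc ▸ hr1.1) hRY hRYnc
      (hYH.trans (BGFinal72.le_normalizer_sigmaCore H))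
      ((hRE.trans hEH).trans (BGFinal72.le_normalizer_sigmaCore H)) (hcoH ht3.1 htH)
      (hRc.symm ▸ hcoH hr1.1 hrH.2.1) (hb ▸ bot_le)
    have hHY : H ≤ normalizer (Y : Set G) := fun h hh => by
      obtain ⟨a, ha, b, hb', rfl⟩ := hF.2.2.2 h hh
      exact mul_mem (tau3_normal hG hH ht3 hF hYF hYc ha)
        (centralizer_le_normalizer _ (le_centralizer_iff.1 hcen hb'))
    obtain ⟨L, hL, hLN⟩ := exists_coatom_normalizer hG ht3.1 hYc
    have hHL : H = L := by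
      by_contra hne'
      exact hL.1 (hH.2 L (lt_of_le_of_ne (hHY.trans hLN) hne'))
    exact hYn (hHL.symm ▸ hLN)
  obtain ⟨t₂, Z, ht2, hZ, hZc⟩ := exists_prime_subgroup hD2
  haveI := Fact.mk ht2
  have ht1M : t₁ ∈ Cfsg.sigma M := mem_sigma_of_le ht1 (hX.trans inf_le_left) hXc
  have ht2H : t₂ ∈ Cfsg.sigma H := mem_sigma_of_le ht2 (hZ.trans inf_le_left) hZc
  have ht2M : t₂ ∉ Cfsg.sigma M := not_sigma_of_sigma hG hH hM (not_cj_symm hne) ht2H
  have hXR : X ≤ centralizer (R : Set G) := hX.trans inf_le_right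
  have hZR : Z ≤ centralizer (R : Set G) := hZ.trans inf_le_right
  have hXM : X ≤ M := (hX.trans inf_le_left).trans (BGFinal72.sigmaCore_le M)
  have hZH : Z ≤ H := (hZ.trans inf_le_left).trans (BGFinal72.sigmaCore_le H)
  obtain ⟨hCX, huX⟩ := cent_unique hG hM hr1 hRM hRc hX (hXc ▸ ht1)
  obtain ⟨hCZ, huZ⟩ := cent_unique hG hH hrH (hRE.trans hEH) hRc hZ (hZc ▸ ht2)
  have hNX := normalizer_le_of_centralizer hG hM ht1 hXc huX
  have hNZ := normalizer_le_of_centralizer hG hH ht2 hZc huZ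
  have hCR : Cfsg.sigmaCore M ⊓ centralizer (R : Set G) ≠ ⊥ := fun h =>
    ne_bot_of_card ht1 hXc (eq_bot_iff.2 (h ▸ hX))
  -- a subgroup of order `t₂` of `M` centralizing `X`
  obtain ⟨Zs, hZsC, hZsc⟩ : ∃ Zs : Subgroup G, Zs ≤ centralizer (X : Set G) ∧
      Nat.card Zs = t₂ := by
    obtain ⟨L, hL, hNR⟩ := exists_coatom_normalizer hG hr1.1 hRc
    have hrL := mem_sigma_of_fixed_tau1 hG hM hr1 hRM hRc hCR hL hNR
    have hLM := not_cj_of_normalizer_le hG hL (Or.inl hr1) hRc hNR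
    have hLH := not_cj_of_normalizer_le (M := H) hG hL (Or.inl hrH) hRc hNR
    have hCRL : centralizer (R : Set G) ≤ L := (centralizer_le_normalizer _).trans hNR
    have hRσ : R ≤ Cfsg.sigmaCore L :=
      le_sigmaCore_of_pgroup hG hL hrL (le_normalizer.trans hNR) (isPGroup_of_card hRc)
    have htau : ∀ (N W : Subgroup G) (s : ℕ), IsCoatom N → (∀ g : G, L ≠ cj g N) →
        s ∈ Cfsg.sigma N → W ≤ centralizer (R : Set G) → Nat.card W = s →
        centralizer (W : Set G) ≤ N → s ∈ Cfsg.tau1 L ∪ Cfsg.tau3 L := by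
      intro N W s hN' hLN hs hWR hWc hCW
      have hsL := not_sigma_of_sigma hG hN' hL hLN hs
      rcases tau_cases hG hL hs.1 hsL (hWc ▸ card_dvd_of_le (hWR.trans hCRL)) with h | h
      · exact h
      · refine absurd ((tau2_cent_unique hG hL h (hWR.trans hCRL) hWc fun hb => ?_).2 N hN' hCW)
          (ne_of_not_cj hLN).symm
        exact ne_bot_of_card hr1.1 hRc (eq_bot_iff.2 (hb ▸ le_inf hRσ (le_centralizer_iff.1 hWR)))
    have hXL : X ≤ L := hXR.trans hCRL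
    have hZL : Z ≤ L := hZR.trans hCRL
    have hX13 := htau M X t₁ hM hLM ht1M hXR hXc hCX
    have hZ13 := htau H Z t₂ hH hLH ht2H hZR hZc hCZ
    have ht1L := (tau13_iff.1 hX13).2.1
    have ht2L := (tau13_iff.1 hZ13).2.1
    rcases hX13 with hX1' | hX3
    swap
    · obtain ⟨W, -, hWc, hW⟩ := exists_commuting hG hM hM hL hr1 hRM hRc hRσ hX3 hXL
        (hX.trans inf_le_left) hXc hXR hNX ht2 ht2L (hZc ▸ card_dvd_of_le hZL) ht2M
        (fun h => not_sigma_of_sigma hG hH hL hLH ht2H (h ▸ hrL))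
      exact ⟨W, hW, hWc⟩
    rcases hZ13 with hZ1' | hZ3
    · -- both in a cyclic Hall subgroup
      obtain ⟨FX, hFX, hXFX⟩ := exists_compl_ge_prime hG hL ht1 ht1L hXL (isPGroup_of_card hXc)
      have hFs : Group.IsSolvable FX :=
        BGUnique.isSolvable_of_ne_top hG fun h => hL.1 (top_le_iff.1 (h ▸ hFX.1))
      obtain ⟨E₁, hE₁, hX1⟩ := BGTypeP.exists_hallOf_ge hFs (Cfsg.tau1 L) hXFX
        (hXc ▸ piNat_prime ht1 hX1')
      haveI := (S1415.result hG L hL FX hFX).2.1 E₁ hE₁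
      obtain ⟨l, -, hlZ⟩ := le_conj_compl hG hL hFX hZL (hZc ▸ piNat_prime ht2 ht2L)
      obtain ⟨e, -, hle⟩ := BGTypeP.le_conj_hallOf hFs hE₁ (BGTypeP.le_cj_iff.2 hlZ)
        (by rw [BGTypeP.card_cj, hZc]; exact piNat_prime ht2 hZ1')
      have hW : cj e⁻¹ (cj l⁻¹ Z) ≤ E₁ := BGTypeP.le_cj_iff.2 hle
      exact ⟨_, fun a ha b hb => PGroupsBasic.comm_of_isMulCommutative
        (inferInstance : IsMulCommutative E₁) (hX1 hb) (hW ha),
        by rw [BGTypeP.card_cj, BGTypeP.card_cj, hZc]⟩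
    obtain ⟨W, hWL, hWc, hW⟩ := exists_commuting hG hM hH hL hrH (hRE.trans hEH) hRc hRσ hZ3 hZL
      (hZ.trans inf_le_left) hZc hZR hNZ ht1 ht1L (hXc ▸ card_dvd_of_le hXL)
      (not_sigma_of_sigma hG hM hH hne ht1M) (fun h => hr1.2.1 (h ▸ ht1M))
    obtain ⟨l', -, hl'⟩ := exists_conj_prime hG hX1'.2.2.2.2 hWL hXL hWc hXc
    refine ⟨cj l' Z, ?_, by rw [BGTypeP.card_cj, hZc]⟩
    rw [← hl']
    rintro _ ⟨z, hz, rfl⟩ _ ⟨x, hx, rfl⟩
    simp only [MulEquiv.coe_toMonoidHom]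
    rw [← map_mul, ← map_mul, (le_centralizer_iff.1 hW) hz x hx]
  have hZsM : Zs ≤ M := hZsC.trans hCX
  have h13 : t₂ ∈ Cfsg.tau1 M ∪ Cfsg.tau3 M :=
    (tau_cases hG hM ht2 ht2M (hZsc ▸ card_dvd_of_le hZsM)).resolve_right
      (tau2_empty hG hM hp hPM hPc hC t₂)
  obtain ⟨Y₂, hY₂E, hY₂c⟩ := exists_prime_subgroup_of_dvd ht2 (show t₂ ∣ Nat.card E by
    have hd := hZsc ▸ card_dvd_of_le hZsM
    rw [← BGTypeBasic.card_mul_of_isComplIn hE] at hd
    exact (ht2.dvd_mul.1 hd).resolve_right fun h =>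
      ht2M (BGTypeP.piNat_sigmaCore M t₂ ht2 h))
  -- subgroups of order `t₂` of `E` centralize `Y`
  have hY₂Y : ∀ W : Subgroup G, W ≤ M → W ≤ H → Nat.card W = t₂ →
      W ≤ centralizer (Y : Set G) := fun W hWM hWH hWc =>
    (centralizes_of_le_commutator hG hH hM hne ht2M (isPGroup_of_card hWc) (le_inf hWM hWH)
      (le_derived_of_sigma hG hH (le_sigmaCore_of_pgroup hG hH ht2H hWH
        (isPGroup_of_card hWc)))).trans (centralizer_le (le_inf hYM hYH))
  rcases h13 with h1 | h3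
  · have hEs : Group.IsSolvable E := BGUnique.isSolvable_of_ne_top hG
      fun h => hM.1 (top_le_iff.1 (h ▸ hE.1))
    obtain ⟨E₁, hE₁, hR1⟩ := BGTypeP.exists_hallOf_ge hEs (Cfsg.tau1 M) hRE
      (hRc ▸ piNat_prime hr1.1 hr1)
    haveI := (S1415.result hG M hM E hE).2.1 E₁ hE₁
    obtain ⟨e, -, hle⟩ := BGTypeP.le_conj_hallOf hEs hE₁ hY₂E (hY₂c ▸ piNat_prime ht2 h1)
    have hW : cj e⁻¹ Y₂ ≤ E₁ := BGTypeP.le_cj_iff.2 hle
    have hWc : Nat.card (cj e⁻¹ Y₂) = t₂ := by rw [BGTypeP.card_cj, hY₂c]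
    have hRW : R ≤ centralizer (cj e⁻¹ Y₂ : Set G) := fun a ha b hb =>
      PGroupsBasic.comm_of_isMulCommutative (inferInstance : IsMulCommutative E₁) (hW hb)
        (hR1 ha)
    have h28 := S1428.result hG M hM E hE t₂ h1 _ (hW.trans hE₁.1) hWc R (le_inf hRE hRW)
      (hRc ▸ hr1.1)
    exact hRYnc (le_centralizer_iff.1 (((le_inf hYM (le_centralizer_iff.1
      (hY₂Y _ ((hW.trans hE₁.1).trans hE.1) ((hW.trans hE₁.1).trans hEH) hWc))).trans h28).trans
        inf_le_right))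
  -- `t₂ ∈ τ₃(M)`
  -- the normalizer of a common subgroup lies in `H`
  have hinH : ∀ W : Subgroup G, W ≤ M → W ≤ H → Nat.card W = t₂ →
      R ≤ normalizer (W : Set G) → centralizer (W : Set G) ≤ H := by
    intro W hWM hWH hWc hRW
    obtain ⟨L, hL, hLN⟩ := exists_coatom_normalizer hG ht2 hWc
    have hcom : ⁅Cfsg.sigmaCore M ⊓ L, M ⊓ L⁆ ≠ ⊥ := fun hb => hRYnc
      ((le_inf hRM (hRW.trans hLN)).trans ((le_centralizer_iff.1
        (commutator_eq_bot_iff_le_centralizer.1 hb)).trans (centralizer_le (le_inf hYM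
          ((le_centralizer_iff.1 (hY₂Y W hWM hWH hWc)).trans
            ((centralizer_le_normalizer _).trans hLN))))))
    have hσ := mem_sigma_of_commutator hG hM hL (Or.inr h3) hWM hWc hLN hcom
    obtain ⟨g, hg⟩ := conj_of_sigma_inter hG hH hL ht2H hσ
    have hLH : L = H := eq_of_conj_of_centralizer_le hG hH ht2H hWH (isPGroup_of_card hWc)
      (ne_bot_of_card ht2 hWc) hg (le_normalizer.trans hLN)
      ((centralizer_le_normalizer _).trans hLN)
    exact hLH ▸ (centralizer_le_normalizer _).trans hLN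
  obtain ⟨m, hm, hmZ⟩ := exists_conj_prime hG h3.2.2.2 hZsM (hY₂E.trans hE.1) hZsc hY₂c
  have hX'C : cj m X ≤ Cfsg.sigmaCore M ⊓ centralizer (P : Set G) := by
    have h1 : cj m X ≤ Cfsg.sigmaCore M := (BGTypeP.cj_mono m (hX.trans inf_le_left)).trans_eq
      (BGTypeP.cj_eq_self (BGFinal72.le_normalizer_sigmaCore M hm))
    refine le_inf h1 ((le_inf h1 ?_).trans hinter)
    refine le_trans ?_ (hinH Y₂ (hY₂E.trans hE.1) (hY₂E.trans hEH) hY₂c
      (hRE.trans (tau3_normal hG hM h3 hE hY₂E hY₂c)))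
    rw [← hmZ]
    rintro _ ⟨x, hx, rfl⟩ _ ⟨z, hz, rfl⟩
    simp only [MulEquiv.coe_toMonoidHom]
    rw [← map_mul, ← map_mul, (le_centralizer_iff.1 hZsC) hx z hz]
  set C : Subgroup G := Cfsg.sigmaCore M ⊓ centralizer (P : Set G) with hCdef
  have hEs : Group.IsSolvable E := BGUnique.isSolvable_of_ne_top hG
    fun h => hM.1 (top_le_iff.1 (h ▸ hE.1))
  have hEC : E ≤ normalizer (C : Set G) :=
    CoprimeAction.le_normalizer_inf (hE.1.trans (BGFinal72.le_normalizer_sigmaCore M))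
      (hEP.trans (BGRankTwo.normalizer_le_normalizer_centralizer P))
  obtain ⟨S, hS⟩ := CoprimeAction.exists_invariant_sylow hEC
    ((hcoM E le_rfl).coprime_dvd_right (card_dvd_of_le inf_le_left)) (Or.inl hEs) t₁
  obtain ⟨c, hc, hle⟩ := BGSigma.exists_conj_maxP (BGUnique.isMaxP_sylow C S) hX'C
    (isPGroup_of_card (by rw [BGTypeP.card_cj, hXc]))
  set X₂ : Subgroup G := cj c (cj m X) with hX₂
  have hX₂S : X₂ ≤ (S : Subgroup C).map C.subtype := hle
  have hX₂c : Nat.card X₂ = t₁ := by rw [hX₂, BGTypeP.card_cj, BGTypeP.card_cj, hXc]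
  have hX₂C : X₂ ≤ C := hX₂S.trans (map_subtype_le _)
  have hPX₂ : Cfsg.sigmaCore H ⊓ centralizer (X₂ : Set G) ≠ ⊥ := fun h =>
    ne_bot_of_card hp.1 hPc (eq_bot_iff.2 (h ▸ le_inf (le_sigmaCore_of_pgroup hG hH hpH
      (le_normalizer.trans hN) (isPGroup_of_card hPc))
      (le_centralizer_iff.1 (hX₂C.trans inf_le_right))))
  have ht1H : t₁ ∉ Cfsg.sigma H := not_sigma_of_sigma hG hM hH hne ht1M
  have hcm : c * m ∈ M := mul_mem (BGFinal72.sigmaCore_le M hc.1) hm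
  have hX₂eq : X₂ = cj (c * m) X := by rw [hX₂, BGTypeP.cj_mul]
  have hR₂ : cj (c * m) R ≤ centralizer (X₂ : Set G) := by
    rw [hX₂eq]
    rintro _ ⟨y, hy, rfl⟩ _ ⟨x, hx, rfl⟩
    simp only [MulEquiv.coe_toMonoidHom]
    rw [← map_mul, ← map_mul, (le_centralizer_iff.1 hXR) hy x hx]
  obtain ⟨hCX₂, huX₂⟩ := cent_unique hG hM hr1
    ((BGTypeP.cj_mono _ hRM).trans_eq (BGTypeP.cj_of_mem hcm))
    (by rw [BGTypeP.card_cj, hRc])
    (le_inf (hX₂C.trans inf_le_left) (le_centralizer_iff.1 hR₂)) (hX₂c ▸ ht1)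
  have hScyc : IsCyclic ((S : Subgroup C).map C.subtype) := by
    refine isCyclic_of_rank_one hG ?_ ((map_subtype_le _).trans hCH) (S.isPGroup'.map _)
    rcases tau_cases hG hH ht1 ht1H (hX₂c ▸ card_dvd_of_le (hX₂C.trans hCH)) with h | h
    · exact (tau13_iff.1 h).2.2.2
    · exact absurd ((tau2_cent_unique hG hH h (hX₂C.trans hCH) hX₂c hPX₂).2 M hM hCX₂)
        (ne_of_not_cj hne).symm
  have hEX₂ : E ≤ normalizer (X₂ : Set G) := by
    refine CoprimeAction.le_normalizer_of_conj_mem fun e he y hy => ?_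
    rw [← isPGroup_eq_of_order_prime (p := t₁) hScyc
      ((BGTypeP.cj_mono e hX₂S).trans_eq (BGTypeP.cj_eq_self (hS he))) hX₂S
      (by rw [BGTypeP.card_cj, hX₂c]) hX₂c]
    exact BGTypeP.conj_mem_cj.2 hy
  -- the subgroups of order `r` of `N_M(X₂)` are conjugate there
  have hRX₂ : R ≤ centralizer (X₂ : Set G) := by
    obtain ⟨n, hn, hnR⟩ := exists_conj_prime (M := M ⊓ normalizer (X₂ : Set G)) hG
      (BGRankTwo.pRankLE_mono inf_le_left hr1.2.2.2.2)
      (le_inf ((BGTypeP.cj_mono _ hRM).trans_eq (BGTypeP.cj_of_mem hcm))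
        (hR₂.trans (centralizer_le_normalizer _)))
      (le_inf hRM (hRE.trans hEX₂)) (by rw [BGTypeP.card_cj, hRc]) hRc
    rw [← hnR]
    rintro _ ⟨y, hy, rfl⟩ x hx
    have h1 := hR₂ hy (n⁻¹ * x * n) (CoprimeAction.conj_mem' hn.2 hx)
    simp only [MulEquiv.coe_toMonoidHom, MulAut.conj_apply]
    calc x * (n * y * n⁻¹) = n * ((n⁻¹ * x * n) * y) * n⁻¹ := by group
      _ = n * (y * (n⁻¹ * x * n)) * n⁻¹ := by rw [h1]
      _ = n * y * n⁻¹ * x := by group
  -- so `C_{H_σ}(R) ≤ M`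
  have hne1 : r ≠ t₁ := fun h => hr1.2.1 (h ▸ ht1M)
  obtain ⟨W, hWc, hRW, hXW, hWle⟩ := exists_cyclic_sup hr1.1 ht1 hne1 hRc hX₂c
    (le_centralizer_iff.1 hRX₂)
  obtain ⟨FH, hFH, hWF⟩ := exists_compl_ge hG hH
    (hWle.trans (sup_le (hRE.trans hEH) (hX₂C.trans hCH)))
    (hWc ▸ (piNat_prime hr1.1 hrH.2.1).mul (piNat_prime ht1 ht1H))
  have hZM : Z ≤ M := ((le_inf (hZ.trans inf_le_left) hZR).trans
    ((S1428.result hG H hH FH hFH r hrH R (hRW.trans hWF) hRc X₂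
      (le_inf (hXW.trans hWF) (le_centralizer_iff.1 hRX₂)) (hX₂c ▸ ht1)).trans inf_le_right)).trans
      hCX₂
  have hCZH := hinH Z hZM hZH hZc
    ((le_centralizer_iff.1 hZR).trans (centralizer_le_normalizer _))
  have hne2 : r ≠ t₂ := fun h => hr1.2.2.2.1 (h ▸ h3.2.2.1)
  obtain ⟨W', hW'c, hRW', hZW', hW'le⟩ := exists_cyclic_sup hr1.1 ht2 hne2 hRc hZc hZR
  obtain ⟨E', hE', hW'E⟩ := exists_compl_ge hG hM (hW'le.trans (sup_le hRM hZM))
    (hW'c ▸ (piNat_prime hr1.1 hr1.2.1).mul (piNat_prime ht2 ht2M))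
  exact hD1 (((S1428.result hG M hM E' hE' r hr1 R (hRW'.trans hW'E) hRc Z
    (le_inf (hZW'.trans hW'E) hZR) (hZc ▸ ht2)).trans inf_le_right).trans hCZH)

/-- BG 13.6 for `τ₁ ∪ τ₃`: `C(X) ≤ M` for `X ≤ C_{M_σ}(P)` of prime order. -/
theorem cent_prime_unique {p : ℕ} (hp : p ∈ Cfsg.tau1 M ∪ Cfsg.tau3 M) {P : Subgroup G}
    (hPM : P ≤ M) (hPc : Nat.card P = p) {t : ℕ} (ht : t.Prime) {X : Subgroup G}
    (hX : X ≤ Cfsg.sigmaCore M ⊓ centralizer (P : Set G)) (hXc : Nat.card X = t) :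
    centralizer (X : Set G) ≤ M ∧
      ∀ L : Subgroup G, IsCoatom L → centralizer (X : Set G) ≤ L → L = M := by
  haveI := Fact.mk ht
  have hX1 := ne_bot_of_card ht hXc
  rcases hp with hp | hp
  · haveI := Fact.mk hp.1
    exact cent_unique hG hM hp hPM hPc hX (hXc ▸ ht)
  haveI := Fact.mk hp.1
  have hC : Cfsg.sigmaCore M ⊓ centralizer (P : Set G) ≠ ⊥ :=
    fun h => hX1 (eq_bot_iff.2 (h ▸ hX))
  obtain ⟨E, hE, hPE⟩ := exists_compl_ge_prime hG hM hp.1 hp.2.1 hPM (isPGroup_of_card hPc)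
  have hEP := tau3_normal hG hM hp hE hPE hPc
  obtain ⟨H, hH, hN⟩ := exists_coatom_normalizer hG hp.1 hPc
  have hne := not_cj_of_normalizer_le hG hH (Or.inr hp) hPc hN
  have hEH : E ≤ H := hEP.trans hN
  have hCH : Cfsg.sigmaCore M ⊓ centralizer (P : Set G) ≤ H :=
    inf_le_right.trans ((centralizer_le_normalizer _).trans hN)
  -- it suffices to find a prime of `τ₁(M)` acting trivially
  have key : ∀ {Y R : Subgroup G} {r : ℕ}, r ∈ Cfsg.tau1 M → R ≤ M → Nat.card R = r →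
      Y ≤ Cfsg.sigmaCore M → (Nat.card Y).Prime → Y ≤ centralizer (R : Set G) →
      centralizer (Y : Set G) ≤ M ∧
        ∀ L : Subgroup G, IsCoatom L → centralizer (Y : Set G) ≤ L → L = M := by
    intro Y R r hr hR hRc hY hY1 hYR
    haveI := Fact.mk hr.1
    exact cent_unique hG hM hr hR hRc (le_inf hY hYR) hY1
  -- an element of `E` moving `P`
  have hEs : Group.IsSolvable E := BGUnique.isSolvable_of_ne_top hG
    (fun h => hM.1 (top_le_iff.1 (h ▸ hE.1)))
  obtain ⟨E₃, hE₃⟩ := BGTypeP.exists_hallOf hEs (Cfsg.tau3 M)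
  obtain ⟨hc3, h3le, hn3⟩ := (S1415.result hG M hM E hE).2.2 E₃ hE₃
  have hP3 : P ≤ E₃ := BGTypeP.le_of_normal_hall hE₃ hn3 hPE (hPc ▸ piNat_prime hp.1 hp)
  obtain ⟨r, hr, hrp, x, hxE, ⟨i, hi⟩, hxP⟩ := exists_moving_element hG hp.1 hEs
    (BGRankTwo.pRankLE_mono hE.1 hp.2.2.2) (hP3.trans h3le) hPc hEP
  haveI := Fact.mk hr
  have hi0 : i ≠ 0 := fun h0 => hxP (by
    rw [h0, pow_zero, orderOf_eq_one_iff] at hi
    simp [hi])
  have hzx : IsPGroup r (zpowers x) := IsPGroup.of_card (n := i) (by rw [Nat.card_zpowers, hi])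
  have hrd : r ∣ Nat.card (zpowers x) := by rw [Nat.card_zpowers, hi]; exact dvd_pow_self r hi0
  have hrσ : r ∉ Cfsg.sigma M := fun h =>
    (compl_hall hG hM hE).2.1 r hr (hrd.trans (card_dvd_of_le (zpowers_le.2 hxE))) h
  have hrτ : r ∈ Cfsg.tau1 M := by
    rcases tau_cases hG hM hr hrσ
      (hrd.trans (card_dvd_of_le ((zpowers_le.2 hxE).trans hE.1))) with (h | h) | h
    · exact h
    · haveI := hc3
      haveI : IsMulCommutative E₃ := inferInstance
      have hx3 : x ∈ E₃ := BGTypeP.mem_of_normal_hall hE₃ hn3 hxE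
        (by rw [hi]; exact (piNat_prime hr h).pow i)
      exact absurd (fun y hy => PGroupsBasic.comm_of_isMulCommutative
        (inferInstance : IsMulCommutative E₃) (hP3 hy) hx3) hxP
    · exact absurd h (tau2_empty hG hM hp hPM hPc hC r)
  obtain ⟨R, hR, hRc⟩ := exists_prime_subgroup_of_dvd hr hrd
  have hRE : R ≤ E := hR.trans (zpowers_le.2 hxE)
  by_cases hcom : ⁅Cfsg.sigmaCore M ⊓ H, M ⊓ H⁆ = ⊥
  · refine key hrτ (hRE.trans hE.1) hRc (hX.trans inf_le_left) (hXc ▸ ht) ?_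
    rw [commutator_eq_bot_iff_le_centralizer] at hcom
    exact (le_inf (hX.trans inf_le_left) (hX.trans hCH)).trans
      (hcom.trans (centralizer_le (le_inf (hRE.trans hE.1) (hRE.trans hEH))))
  have hpH : p ∈ Cfsg.sigma H := mem_sigma_of_commutator hG hM hH (Or.inr hp) hPM hPc hN hcom
  have hPσ : P ≤ Cfsg.sigmaCore H :=
    le_sigmaCore_of_pgroup hG hH hpH (le_normalizer.trans hN) (isPGroup_of_card hPc)
  have htM : t ∈ Cfsg.sigma M := mem_sigma_of_le ht (hX.trans inf_le_left) hXc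
  have htH : t ∉ Cfsg.sigma H := not_sigma_of_sigma hG hM hH hne htM
  have hXH : X ≤ H := hX.trans hCH
  have hPX : Cfsg.sigmaCore H ⊓ centralizer (X : Set G) ≠ ⊥ := fun h =>
    ne_bot_of_card hp.1 hPc (eq_bot_iff.2 (h ▸ le_inf hPσ (le_centralizer_iff.1
      (hX.trans inf_le_right))))
  have ht13 : t ∈ Cfsg.tau1 H ∪ Cfsg.tau3 H := by
    rcases tau_cases hG hH ht htH (hXc ▸ card_dvd_of_le hXH) with h | h
    · exact h
    · exfalso
      obtain ⟨-, hu⟩ := tau2_cent_unique hG hH h hXH hXc hPX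
      have hNX := normalizer_le_of_centralizer hG hH ht hXc hu
      have hbot := (sigma_normalizer hG hM htM (hX.trans inf_le_left |>.trans
        (BGFinal72.sigmaCore_le M)) hXc hH (ne_of_not_cj hne) hNX).2.1
      exact ne_bot_of_card hp.1 hPc (eq_bot_iff.2 (hbot ▸ le_inf hPσ hPM))
  -- replace `X` by an `E`-invariant subgroup of the same order
  set C : Subgroup G := Cfsg.sigmaCore M ⊓ centralizer (P : Set G) with hCdef
  have hEC : E ≤ normalizer (C : Set G) :=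
    CoprimeAction.le_normalizer_inf (hE.1.trans (BGFinal72.le_normalizer_sigmaCore M))
      (hEP.trans (BGRankTwo.normalizer_le_normalizer_centralizer P))
  have hcop : (Nat.card E).Coprime (Nat.card C) :=
    ((PiNat.coprime (BGTypeP.piNat_sigmaCore M)
      (BGTypeP.hallOf_iff.1 (compl_hall hG hM hE)).2.1).coprime_dvd_left
      (card_dvd_of_le inf_le_left)).symm
  obtain ⟨S, hS⟩ := CoprimeAction.exists_invariant_sylow hEC hcop (Or.inl hEs) t
  set S' : Subgroup G := (S : Subgroup C).map C.subtype with hS'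
  obtain ⟨c, hc, hle⟩ := BGSigma.exists_conj_maxP (BGUnique.isMaxP_sylow C S) hX
    (isPGroup_of_card hXc)
  set Y : Subgroup G := cj c X with hY
  have hYc : Nat.card Y = t := by rw [hY, BGTypeP.card_cj, hXc]
  have hYS : Y ≤ S' := hle
  have hYC : Y ≤ C := hYS.trans (map_subtype_le _)
  have hS'cyc : IsCyclic S' := isCyclic_of_rank_one hG (tau13_iff.1 ht13).2.2.2
    ((map_subtype_le _).trans hCH) (S.isPGroup'.map _)
  have hEY : E ≤ normalizer (Y : Set G) := by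
    refine CoprimeAction.le_normalizer_of_conj_mem fun e he y hy => ?_
    rw [← isPGroup_eq_of_order_prime (p := t) hS'cyc
      ((BGTypeP.cj_mono e hYS).trans_eq (BGTypeP.cj_eq_self (hS he))) hYS
      (by rw [BGTypeP.card_cj, hYc]) hYc]
    exact BGTypeP.conj_mem_cj.2 hy
  suffices hYR : Y ≤ centralizer (R : Set G) by
    obtain ⟨h1, h2⟩ := key hrτ (hRE.trans hE.1) hRc (hYC.trans inf_le_left)
      (hYc ▸ ht) hYR
    have hcM : c ∈ M := BGFinal72.sigmaCore_le M hc.1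
    have hcent : cj c (centralizer (X : Set G)) ≤ centralizer (Y : Set G) := by
      rintro _ ⟨g, hg, rfl⟩ _ ⟨z, hz, rfl⟩
      simp only [MulEquiv.coe_toMonoidHom]
      rw [← map_mul, ← map_mul, hg z hz]
    refine ⟨?_, fun L hL hle' => ?_⟩
    · refine (BGTypeP.le_cj_iff (g := c⁻¹)).1 ?_ |>.trans_eq (BGTypeP.cj_of_mem (inv_mem hcM))
      rw [inv_inv]
      exact hcent.trans h1
    · have hcent' : centralizer (Y : Set G) ≤ cj c (centralizer (X : Set G)) := fun g hg => by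
        rw [BGTypeP.mem_cj]
        intro z hz
        have h3 := hg (c * z * c⁻¹) ⟨z, hz, rfl⟩
        calc z * (c⁻¹ * g * c) = c⁻¹ * (c * z * c⁻¹ * g) * c := by group
          _ = c⁻¹ * (g * (c * z * c⁻¹)) * c := by rw [h3]
          _ = c⁻¹ * g * c * z := by group
      have h4 := h2 _ (BGTypeP.isCoatom_cj c hL) (hcent'.trans (BGTypeP.cj_mono c hle'))
      rw [← BGTypeP.cj_inv_cj c L, h4, BGTypeP.cj_of_mem (inv_mem hcM)]
  by_contra hYR
  have hYR' : ¬ R ≤ centralizer (Y : Set G) := fun h => hYR (le_centralizer_iff.1 h)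
  have hRMH : R ≤ M ⊓ H := le_inf (hRE.trans hE.1) (hRE.trans hEH)
  have hYMH : Y ≤ Cfsg.sigmaCore M ⊓ H := le_inf (hYC.trans inf_le_left) (hYC.trans hCH)
  have hnot : ¬ R ≤ centralizer ((Cfsg.sigmaCore M ⊓ H : Subgroup G) : Set G) := fun h =>
    hYR (le_centralizer_iff.1 (h.trans (centralizer_le hYMH)))
  have hRp : IsPGroup r R := isPGroup_of_card hRc
  have h131 : ¬ R ≤ ⁅H, H⁆ := fun h =>
    hnot (centralizes_of_le_commutator hG hH hM hne hrσ hRp hRMH h)
  have hrH : r ∉ Cfsg.sigma H := fun h => h131 (le_derived_of_sigma hG hH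
    (le_sigmaCore_of_pgroup hG hH h (hRMH.trans inf_le_right) hRp))
  have ht3 : t ∈ Cfsg.tau3 H := by
    rcases ht13 with h | h
    · exfalso
      refine h.2.2.2.1 ?_
      have hne' : ⁅Y, R⁆ ≠ ⊥ := fun hb => hYR (commutator_eq_bot_iff_le_centralizer.1 hb)
      have hle' : ⁅Y, R⁆ ≤ Y :=
        CoprimeAction.commutator_le_self_of_le_normalizer (hRE.trans hEY)
      have heq : ⁅Y, R⁆ = Y := by
        refine eq_of_le_of_card_ge hle' ?_
        rw [hYc]
        exact ((Nat.dvd_prime ht).1 (hYc ▸ card_dvd_of_le hle')).elim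
          (fun h1 => absurd ((card_eq_one).1 h1) hne') (fun h1 => h1.ge)
      rw [← hYc]
      exact card_dvd_of_le (heq ▸ commutator_mono (hYC.trans hCH) (hRMH.trans inf_le_right))
    · exact h
  have hrH1 : r ∈ Cfsg.tau1 H := by
    rcases tau_cases hG hH hr hrH (hRc ▸ card_dvd_of_le (hRMH.trans inf_le_right)) with (h | h) | h
    · exact h
    · exact absurd (le_derived_of_tau3 hG hH h (hRMH.trans inf_le_right) hRc) h131
    · have hPY : Cfsg.sigmaCore H ⊓ centralizer (Y : Set G) ≠ ⊥ := fun hb =>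
        ne_bot_of_card hp.1 hPc (eq_bot_iff.2 (hb ▸ le_inf hPσ (le_centralizer_iff.1
          (hYC.trans inf_le_right))))
      exact absurd h (tau2_empty hG hH ht3 (hYC.trans hCH) hYc hPY r)
  have hRP : R ≤ centralizer (P : Set G) := by
    by_contra hRP
    exact tau3_asymmetry hG hM hp hE hPE hPc hH hN hpH hrτ hrH1 hRE hRc ht3 hYC hYc
      (hRE.trans hEY) hYR' hRP
  -- prime action of the Sylow `r`-subgroup of a complement of `H`
  obtain ⟨F, hF, hxF⟩ := exists_compl_ge_prime hG hH hr hrH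
    ((zpowers_le.2 hxE).trans hEH) hzx
  obtain ⟨T, hT⟩ := (hzx.comap_of_injective F.subtype F.subtype_injective).exists_le_sylow
  set T' : Subgroup G := (T : Subgroup F).map F.subtype with hT'
  have hxT : x ∈ T' := ⟨⟨x, hxF (mem_zpowers x)⟩, hT (mem_zpowers x), rfl⟩
  have hTc : IsCyclic (T : Subgroup F) :=
    (((T : Subgroup F).equivMapOfInjective _ F.subtype_injective).isCyclic).2
      (isCyclic_of_rank_one hG hrH1.2.2.2.2 ((map_subtype_le _).trans hF.1) (T.isPGroup'.map _))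
  have hT1 : (T : Subgroup F) ≠ ⊥ := fun hb => hxP (by
    rw [hT', hb, Subgroup.map_bot, mem_bot] at hxT
    simp [hxT])
  obtain ⟨z, hz, hz1⟩ := R.bot_or_exists_ne_one.resolve_left (ne_bot_of_card hr hRc)
  have hzT : z ∈ T' := (zpowers_le.2 hxT) (hR hz)
  have h27 := S1427.result hG H hH F hF r T hT1 hTc z hzT hz1
  refine hxP fun y hy => ?_
  have hyz : y ∈ Cfsg.sigmaCore H ⊓ centralizer ({z} : Set G) :=
    ⟨hPσ hy, mem_centralizer_singleton_iff.2 (hRP hz y hy)⟩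
  rw [h27] at hyz
  exact (hyz.2 x hxT).symm

/-- BG 13.13: `p ∈ σ(L)` for `L ≥ N(P)` when `C_{M_σ}(P) ≠ 1`. -/
theorem mem_sigma_of_fixed {p : ℕ} (hp : p ∈ Cfsg.tau1 M ∪ Cfsg.tau3 M) {P : Subgroup G}
    (hPM : P ≤ M) (hPc : Nat.card P = p) (hC : Cfsg.sigmaCore M ⊓ centralizer (P : Set G) ≠ ⊥)
    {L : Subgroup G} (hL : IsCoatom L) (hN : normalizer (P : Set G) ≤ L) :
    p ∈ Cfsg.sigma L :=
  mem_sigma_of_fixed_aux hG hM hp hPM hPc hC
    (fun _ _ ht hX hXc => cent_prime_unique hG hM hp hPM hPc ht hX hXc) hL hN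

/-- BG 13.12: a `τ₁`-subgroup with fixed points on `M_σ` acts regularly on `τ₂`-elementary groups. -/
theorem tau2_fixed_eq_bot {p : ℕ} (hp : p ∈ Cfsg.tau1 M) {E P : Subgroup G}
    (hE : Cfsg.IsComplIn E (Cfsg.sigmaCore M) M) (hPE : P ≤ E) (hPc : Nat.card P = p)
    (hC : Cfsg.sigmaCore M ⊓ centralizer (P : Set G) ≠ ⊥) {q : ℕ} (hq : q ∈ Cfsg.tau2 M)
    {Y : Subgroup G} (hYE : Y ≤ E) (hYc : Nat.card Y = q) :
    ¬ Y ≤ centralizer (P : Set G) := by
  intro hYP
  haveI := Fact.mk hp.1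
  haveI := Fact.mk hq.1
  have hPM : P ≤ M := hPE.trans hE.1
  have hCY := S1428.result hG M hM E hE p hp P hPE hPc Y (le_inf hYE hYP) (hYc ▸ hq.1)
  have hCY1 : Cfsg.sigmaCore M ⊓ centralizer (Y : Set G) ≠ ⊥ := fun h =>
    hC (eq_bot_iff.2 (h ▸ hCY))
  obtain ⟨-, hu⟩ := tau2_cent_unique hG hM hq (hYE.trans hE.1) hYc hCY1
  have hNY := normalizer_le_of_centralizer hG hM hq.1 hYc hu
  obtain ⟨L, hL, hN⟩ := exists_coatom_normalizer hG hp.1 hPc
  have hne := not_cj_of_normalizer_le hG hL (Or.inl hp) hPc hN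
  have hpL := mem_sigma_of_fixed hG hM (Or.inl hp) hPM hPc hC hL hN
  have hPσ : P ≤ Cfsg.sigmaCore L :=
    le_sigmaCore_of_pgroup hG hL hpL (le_normalizer.trans hN) (isPGroup_of_card hPc)
  have hCL : centralizer (P : Set G) ≤ L := (centralizer_le_normalizer _).trans hN
  have hYL : Y ≤ L := hYP.trans hCL
  have hPY : Cfsg.sigmaCore L ⊓ centralizer (Y : Set G) ≠ ⊥ := fun h =>
    ne_bot_of_card hp.1 hPc (eq_bot_iff.2 (h ▸ le_inf hPσ (le_centralizer_iff.1 hYP)))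
  by_cases hqL : q ∈ Cfsg.sigma L
  · have hbot := (sigma_normalizer hG hL hqL hYL hYc hM (ne_of_not_cj hne).symm hNY).2.1
    exact hC (eq_bot_iff.2 (hbot ▸ le_inf inf_le_left (inf_le_right.trans hCL)))
  rcases tau_cases hG hL hq.1 hqL (hYc ▸ card_dvd_of_le hYL) with h | h
  · exact hq.2.1 (mem_sigma_of_fixed hG hL h hYL hYc hPY hM hNY)
  · exact ne_of_not_cj hne
      ((tau2_cent_unique hG hL h hYL hYc hPY).2 M hM
        ((centralizer_le_normalizer _).trans hNY)).symm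

end Cfsg.Agent.BG14
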