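import Cfsg.Agent.S1414
import Cfsg.Agent.Lib.BGTypePBase
import Cfsg.Agent.Lib.BGSigmaRank
import Cfsg.Agent.Lib.BGSigmaDisjoint

/-!
Bender-Glauberman 10.9: subgroups of order prime to `β(M)` centralize Sylow subgroups.
-/

set_option autoImplicit false
set_option linter.style.haveILetI false

namespace Cfsg.Agent.BGSigma

open Subgroup
open Cfsg.Agent.BGUnique
open Cfsg.Agent.HallCore
open scoped commutatorElement

universe u

variable {G : Type u} [Group G] [Finite G]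

section general

variable {p : ℕ} [hp : Fact p.Prime]

theorem not_dvd_relIndex_of_isMaxP {P S : Subgroup G} (h : IsMaxP p P S) :
    ¬ p ∣ P.relIndex S := by
  obtain ⟨T, rfl⟩ := h.exists_sylow
  rw [relIndex, show ((T : Subgroup S).map S.subtype).subgroupOf S = T from
    comap_map_eq_self_of_injective S.subtype_injective _]
  exact T.not_dvd_index

theorem isMaxP_of_not_dvd_relIndex {P S : Subgroup G} (hPS : P ≤ S) (hP : IsPGroup p P)
    (h : ¬ p ∣ P.relIndex S) : IsMaxP p P S := by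
  refine ⟨hPS, hP, fun Q hPQ hQS hQ => le_antisymm (relIndex_eq_one.1 ?_) hPQ⟩
  obtain ⟨n, hn⟩ := IsPGroup.iff_card.1 hQ
  have h1 : P.relIndex Q ∣ p ^ n :=
    hn ▸ dvd_of_mul_left_eq _ (BGFinal72.card_mul_relIndex hPQ)
  obtain ⟨k, -, hk⟩ := (Nat.dvd_prime_pow hp.out).1 h1
  cases k with
  | zero => simpa using hk
  | succ k =>
    exact absurd ((hk ▸ dvd_pow_self p k.succ_ne_zero).trans
      (dvd_of_mul_right_eq _ (relIndex_mul_relIndex P Q S hPQ hQS))) h

omit hp in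
theorem le_normalizer_derived (M : Subgroup G) : M ≤ normalizer ((⁅M, M⁆ : Subgroup G) : Set G) := by
  rw [← Subgroup.map_subtype_commutator]
  exact le_normalizer.trans (ComponentsCores.normalizer_le_normalizer_map_subtype M (commutator M))

theorem piNat_beta'_of_isPGroup {M Y : Subgroup G} (hp' : p ∉ Cfsg.beta M) (hY : IsPGroup p Y) :
    PiNat {r | r.Prime ∧ r ∉ Cfsg.beta M} (Nat.card Y) := by
  intro r hr hd
  obtain ⟨n, hn⟩ := IsPGroup.iff_card.1 hY
  have := (Nat.prime_dvd_prime_iff_eq hr hp.out).1 (hr.dvd_of_dvd_pow (hn ▸ hd))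
  exact ⟨hr, this ▸ hp'⟩

omit hp in
theorem card_sup_dvd_of_le_normalizer {X Y : Subgroup G} (h : Y ≤ normalizer (X : Set G)) :
    Nat.card ↥(Y ⊔ X) ∣ Nat.card Y * Nat.card X := by
  have hle : Y ⊔ X ≤ normalizer (X : Set G) := sup_le h le_normalizer
  haveI : (X.subgroupOf (normalizer (X : Set G))).Normal :=
    normal_subgroupOf_of_le_normalizer le_rfl
  have h1 := card_sup_dvd (Y.subgroupOf (normalizer (X : Set G)))
    (X.subgroupOf (normalizer (X : Set G)))
  rw [← subgroupOf_sup h le_normalizer] at h1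
  rwa [Nat.card_congr (subgroupOfEquivOfLe hle).toEquiv,
    Nat.card_congr (subgroupOfEquivOfLe h).toEquiv,
    Nat.card_congr (subgroupOfEquivOfLe (le_normalizer : X ≤ _)).toEquiv] at h1

/-- A `p`-element and a `q`-element of a nilpotent subgroup commute. -/
theorem commute_of_mem_nilpotent {q : ℕ} [Fact q.Prime] (hpq : p ≠ q) {H X Y : Subgroup G}
    (hH : Group.IsNilpotent H) (hXH : X ≤ H) (hYH : Y ≤ H) (hX : IsPGroup q X) (hY : IsPGroup p Y)
    {x y : G} (hx : x ∈ X) (hy : y ∈ Y) : Commute x y := by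
  have h1 : (orderOf (⟨x, hXH hx⟩ : H)).Coprime (orderOf (⟨y, hYH hy⟩ : H)) := by
    rw [orderOf_mk, orderOf_mk]
    exact Nat.Coprime.coprime_dvd_left (orderOf_dvd_natCard X hx)
      (Nat.Coprime.coprime_dvd_right (orderOf_dvd_natCard Y hy)
        (BGFittingUnique.coprime_of_qgroups hpq.symm hX hY))
  exact congrArg Subtype.val (haveI := hH; FittingHallBasic.commute_of_coprime_orderOf h1).eq

end general

section derived

variable (hG : Cfsg.IsMinSimpleOddOrder G) {M : Subgroup G} (hM : IsCoatom M)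
  {p q : ℕ} [hp : Fact p.Prime] [hq : Fact q.Prime]
  (hpβ : p ∉ Cfsg.beta M) (hqβ : q ∉ Cfsg.beta M)
include hG hM hpβ hqβ

omit hp hq hpβ hqβ in
theorem isSolvable_derived : Group.IsSolvable ↥⁅M, M⁆ :=
  isSolvable_of_ne_top hG fun h => hM.1 (top_le_iff.1 (h.ge.trans (commutator_le_self M)))

/-- A `q`-subgroup of `M'` centralizes a Sylow `p`-subgroup of `M'`. -/
theorem exists_isMaxP_derived (hpq : p ≠ q) {X : Subgroup G} (hX : IsPGroup q X)
    (hXM : X ≤ ⁅M, M⁆) :
    ∃ P, IsMaxP p P ⁅M, M⁆ ∧ X ≤ centralizer (P : Set G) := by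
  obtain ⟨H, hH, hHn⟩ := (S1414.result hG M hM).2.2.1
  obtain ⟨s, hs, hXs⟩ := BGTypeP.le_conj_hallOf (isSolvable_derived hG hM) hH hXM
    (piNat_beta'_of_isPGroup hqβ hX)
  have hH' : Cfsg.IsPiHallOf {r | r.Prime ∧ r ∉ Cfsg.beta M} (BGTypeP.cj s H) ⁅M, M⁆ := by
    have := BGTypeP.hallOf_cj s hH
    rwa [show BGTypeP.cj s ⁅M, M⁆ = ⁅M, M⁆ from BGTypeP.cj_of_mem hs] at this
  have hn : Group.IsNilpotent ↥(BGTypeP.cj s H) :=
    haveI := hHn; Group.nilpotent_of_mulEquiv (H.equivMapOfInjective _ (MulAut.conj s).injective)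
  obtain ⟨P, hP, -⟩ := exists_isMaxP_ge (p := p) (A := ⊥) (M := BGTypeP.cj s H)
    IsPGroup.of_bot bot_le
  refine ⟨P, isMaxP_of_not_dvd_relIndex (hP.le.trans hH'.1) hP.isPGroup fun hd => ?_,
    fun x hx => mem_centralizer_iff.2 fun y hy =>
      (commute_of_mem_nilpotent hpq hn hXs hP.le hX hP.isPGroup hx hy).symm.eq⟩
  rw [← relIndex_mul_relIndex P _ _ hP.le hH'.1] at hd
  rcases hp.out.dvd_mul.1 hd with h | h
  · exact not_dvd_relIndex_of_isMaxP hP h
  · exact hH'.2.2 p hp.out ⟨hp.out, hpβ⟩ h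

/-- A `p`-subgroup of `M'` normalizing a `q`-subgroup of `M'` centralizes it. -/
theorem le_centralizer_of_normalize (hpq : p ≠ q) {X Y : Subgroup G} (hX : IsPGroup q X)
    (hXM : X ≤ ⁅M, M⁆) (hY : IsPGroup p Y) (hYM : Y ≤ ⁅M, M⁆)
    (hYX : Y ≤ normalizer (X : Set G)) : Y ≤ centralizer (X : Set G) := by
  obtain ⟨H, hH, hHn⟩ := (S1414.result hG M hM).2.2.1
  obtain ⟨s, hs, hle⟩ := BGTypeP.le_conj_hallOf (isSolvable_derived hG hM) hH (sup_le hYM hXM)
    (((piNat_beta'_of_isPGroup hpβ hY).mul (piNat_beta'_of_isPGroup hqβ hX)).of_dvd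
      (card_sup_dvd_of_le_normalizer hYX))
  have hn : Group.IsNilpotent ↥(BGTypeP.cj s H) :=
    haveI := hHn; Group.nilpotent_of_mulEquiv (H.equivMapOfInjective _ (MulAut.conj s).injective)
  exact fun y hy => mem_centralizer_iff.2 fun x hx =>
    (commute_of_mem_nilpotent hpq hn (le_sup_right.trans hle) (le_sup_left.trans hle) hX hY hx hy).eq

omit hqβ in
/-- For `q ≠ p`, the `q`-subgroups of `M'` lie in `O_{p'}(M')`. -/
theorem le_coreOf_derived (hpM : p ∣ Nat.card M) (hpq : p ≠ q) {X : Subgroup G} (hX : IsPGroup q X)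
    (hXM : X ≤ ⁅M, M⁆) : X ≤ coreOf p ⁅M, M⁆ := by
  obtain ⟨P, N, hN, hc⟩ := ((S1414.result hG M hM).2.2.2.2 p hp.out hpM hpβ).1
  haveI := hN
  obtain ⟨n, hn⟩ := IsPGroup.iff_card.1 P.isPGroup'
  have hind : N.index = p ^ n := by rw [hc.symm.index_eq_card, hn]
  have hcop : (Nat.card N).Coprime p := by
    refine (hp.out.coprime_iff_not_dvd.2 fun hd => ?_).symm
    refine P.not_dvd_index ?_
    rwa [hc.index_eq_card]
  rw [← map_subgroupOf_eq_of_le hXM]
  refine map_mono (le_trans (le_of_prime_not_dvd fun r hr hd hdi => ?_) (le_pPrimeCore hcop))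
  obtain ⟨m, hm⟩ := IsPGroup.iff_card.1 hX
  rw [Nat.card_congr (subgroupOfEquivOfLe hXM).toEquiv, hm] at hd
  rw [hind] at hdi
  exact hpq (((Nat.prime_dvd_prime_iff_eq hr hp.out).1 (hr.dvd_of_dvd_pow hdi)).symm.trans
    ((Nat.prime_dvd_prime_iff_eq hr hq.out).1 (hr.dvd_of_dvd_pow hd)))

/-- BG 10.9 (c): a Sylow `p`-subgroup of `M'` lies in `N_M(X)'` and centralizes `X`, for a Sylow
`q`-subgroup `X` of `M'`. -/
theorem beta'_cent_sylow_derived (hpq : p ≠ q) {X : Subgroup G} (hX : IsMaxP q X ⁅M, M⁆) :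
    ∃ P, IsMaxP p P ⁅M ⊓ normalizer (X : Set G), M ⊓ normalizer (X : Set G)⁆ ∧
      IsMaxP p P ⁅M, M⁆ ∧ P ≤ centralizer (X : Set G) := by
  set N : Subgroup G := M ⊓ normalizer (X : Set G) with hNdef
  have hN'N : ⁅N, N⁆ ≤ normalizer (X : Set G) := (commutator_le_self N).trans inf_le_right
  have hN'M : ⁅N, N⁆ ≤ ⁅M, M⁆ := commutator_mono inf_le_left inf_le_left
  obtain ⟨P, hP, -⟩ := exists_isMaxP_ge (p := p) (A := ⊥) (M := ⁅N, N⁆) IsPGroup.of_bot bot_le
  refine ⟨P, hP, isMaxP_of_not_dvd_relIndex (hP.le.trans hN'M) hP.isPGroup fun hd => ?_,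
    le_centralizer_of_normalize hG hM hpβ hqβ hpq hX.isPGroup hX.le hP.isPGroup
      (hP.le.trans hN'M) (hP.le.trans hN'N)⟩
  rw [← relIndex_mul_relIndex P _ _ hP.le hN'M] at hd
  rcases hp.out.dvd_mul.1 hd with h | h
  · exact not_dvd_relIndex_of_isMaxP hP h
  by_cases hpM : p ∣ Nat.card M
  swap
  · exact hpM (h.trans ((dvd_of_mul_left_eq _ (BGFinal72.card_mul_relIndex hN'M)).trans
      (card_dvd_of_le (commutator_le_self M))))
  set K : Subgroup G := coreOf p ⁅M, M⁆ with hKdef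
  have hKM : K ≤ M := (coreOf_le p _).trans (commutator_le_self M)
  have hMK : M ≤ normalizer (K : Set G) := (le_normalizer_derived M).trans (le_normalizer_coreOf p _)
  have hXK : X ≤ K := le_coreOf_derived hG hM hpβ hpM hpq hX.isPGroup hX.le
  haveI : (K.subgroupOf M).Normal := normal_subgroupOf_of_le_normalizer hMK
  -- Frattini argument
  have hfrat : M ≤ K ⊔ N := by
    have hXKmax : IsMaxP q X K :=
      ⟨hXK, hX.isPGroup, fun Q hXQ hQK hQ => hX.eq_of_le Q hXQ (hQK.trans (coreOf_le p _)) hQ⟩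
    have hXKM : IsMaxP q (X.subgroupOf M) (K.subgroupOf M) :=
      ⟨fun _ hx => hXK hx, hX.isPGroup.comap_of_injective _ M.subtype_injective, fun Q hXQ hQK hQ => by
        have h1 : Q.map M.subtype = X := hXKmax.eq_of_le _
          (by rw [← map_subgroupOf_eq_of_le (hXK.trans hKM)]; exact map_mono hXQ)
          ((map_mono hQK).trans (map_subgroupOf_eq_of_le hKM).le) (hQ.map _)
        rw [← h1]
        exact (comap_map_eq_self_of_injective M.subtype_injective Q).symm⟩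
    obtain ⟨T, hT⟩ := hXKM.exists_sylow
    have h1 := Sylow.normalizer_sup_eq_top T
    rw [hT] at h1
    intro m hm
    have h2 : (⟨m, hm⟩ : M) ∈ normalizer ((X.subgroupOf M : Subgroup M) : Set M) ⊔ K.subgroupOf M :=
      h1 ▸ mem_top _
    obtain ⟨a, ha, b, hb, hab⟩ := mem_sup_of_normal_right.1 h2
    have ha' : (a : G) ∈ normalizer (X : Set G) := by
      rw [mem_normalizer_iff]
      intro x
      constructor
      · intro hx
        exact (mem_normalizer_iff.1 ha ⟨x, hXK.trans hKM hx⟩).1 hx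
      · intro hx
        have hxM : x ∈ M := by
          have h3 := M.mul_mem (M.mul_mem (M.inv_mem a.2) ((hXK.trans hKM) hx)) a.2
          simpa [mul_assoc] using h3
        exact (mem_normalizer_iff.1 ha ⟨x, hxM⟩).2 hx
    have h4 : m = (a : G) * (b : G) := (congrArg Subtype.val hab).symm
    rw [h4]
    exact mul_mem (mem_sup_right ⟨a.2, ha'⟩) (mem_sup_left hb)
  have hNM : N ≤ M := inf_le_left
  -- `M' ≤ K N'`
  have hder : ⁅M, M⁆ ≤ K ⊔ ⁅N, N⁆ := by
    set π := QuotientGroup.mk' (K.subgroupOf M)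
    have htop : (N.subgroupOf M).map π = ⊤ := by
      rw [eq_top_iff]
      intro z _
      obtain ⟨m, rfl⟩ := QuotientGroup.mk'_surjective _ z
      have h1 : M.subtype m ∈ K ⊔ N := hfrat m.2
      have h2 : m ∈ (K ⊔ N).subgroupOf M := h1
      rw [subgroupOf_sup hKM hNM] at h2
      obtain ⟨a, ha, b, hb, hab⟩ := mem_sup_of_normal_left.1 h2
      exact ⟨b, hb, by
        rw [← hab, map_mul, show π a = 1 from (QuotientGroup.eq_one_iff a).2 ha, one_mul]⟩
    have h1 : commutator M ≤ (⁅N.subgroupOf M, N.subgroupOf M⁆) ⊔ K.subgroupOf M := by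
      rw [← QuotientGroup.ker_mk' (K.subgroupOf M), ← comap_map_eq, map_commutator, htop,
        ← map_le_iff_le_comap, commutator_def, map_commutator]
      exact commutator_mono le_top le_top
    rw [← Subgroup.map_subtype_commutator]
    refine (map_mono h1).trans ?_
    rw [Subgroup.map_sup, map_commutator, map_subgroupOf_eq_of_le hNM, map_subgroupOf_eq_of_le hKM]
    exact (sup_comm _ _).le
  have hKN : Nat.card ↥⁅M, M⁆ ∣ Nat.card ↥⁅N, N⁆ * Nat.card K :=
    (card_dvd_of_le hder).trans (by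
      rw [sup_comm]
      exact card_sup_dvd_of_le_normalizer ((hN'M.trans (commutator_le_self M)).trans hMK))
  rw [← BGFinal72.card_mul_relIndex hN'M] at hKN
  exact (hp.out.coprime_iff_not_dvd.1 (coprime_coreOf p ⁅M, M⁆).symm)
    (h.trans (Nat.dvd_of_mul_dvd_mul_left Nat.card_pos hKN))

end derived

/-- BG 10.9. -/
theorem beta'_cent_sylow (hG : Cfsg.IsMinSimpleOddOrder G) {M : Subgroup G} (hM : IsCoatom M)
    {p q : ℕ} [Fact p.Prime] [Fact q.Prime] (hp : p ∉ Cfsg.beta M) (hq : q ∉ Cfsg.beta M)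
    {X : Subgroup G} (hX : IsPGroup q X) (hXM : X ≤ M) (h : (p ≠ q ∧ X ≤ ⁅M, M⁆) ∨ p < q) :
    (∃ P, IsMaxP p P (Cfsg.sigmaCore M) ∧ X ≤ centralizer (P : Set G)) ∧
      (p ∈ Cfsg.alpha M → ∀ H, IsCoatom H → M ⊓ centralizer (X : Set G) ≤ H → H = M) ∧
      (IsMaxP q X ⁅M, M⁆ → ∃ P, IsMaxP p P ⁅M ⊓ normalizer (X : Set G), M ⊓ normalizer (X : Set G)⁆ ∧
        P ≤ centralizer (X : Set G)) := by
  have hpq : p ≠ q := h.elim (·.1) (·.ne)
  have hpP : p.Prime := Fact.out
  have hqP : q.Prime := Fact.out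
  have hσle : Cfsg.sigmaCore M ≤ M := map_subtype_le _
  have hnσ : M ≤ normalizer (Cfsg.sigmaCore M : Set G) := le_normalizer_core _ M
  -- (a)
  have ha : ∃ P, IsMaxP p P (Cfsg.sigmaCore M) ∧ X ≤ centralizer (P : Set G) := by
    by_cases hpσ : p ∈ Cfsg.sigma M
    swap
    · refine ⟨⊥, isMaxP_of_not_dvd_relIndex bot_le IsPGroup.of_bot ?_, fun x _ => ?_⟩
      · rw [relIndex_bot_left]
        exact fun hd => hpσ ((hall_sigma hG hM).1.2.1 p hpP hd)
      · exact mem_centralizer_iff.2 fun y hy => by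
          rw [mem_bot.1 hy, one_mul, mul_one]
    by_cases hXd : X ≤ ⁅M, M⁆
    · obtain ⟨P, hP, hXP⟩ := exists_isMaxP_derived hG hM hp hq hpq hX hXd
      refine ⟨P, ⟨?_, hP.isPGroup, fun Q hPQ hQ hQp =>
        hP.eq_of_le Q hPQ (hQ.trans (sigmaCore_le_commutator hG hM)) hQp⟩, hXP⟩
      exact BGTypeP.le_of_normal_hall (hall_sigma hG hM).1 hnσ
        (hP.le.trans (commutator_le_self M)) (piNat_of_isPGroup hP.isPGroup hpσ)
    have hlt : p < q := h.elim (fun h' => absurd h'.2 hXd) id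
    have hqσ : q ∉ Cfsg.sigma M := fun hqσ => hXd
      ((BGTypeP.le_of_normal_hall (hall_sigma hG hM).1 hnσ hXM (piNat_of_isPGroup hX hqσ)).trans
        (sigmaCore_le_commutator hG hM))
    have hXO : X ≤ coreOf p M := by
      rw [← map_subgroupOf_eq_of_le hXM]
      haveI := pPrimeCore_normal p M
      refine map_mono (le_of_prime_not_dvd fun r hr hd hdi => ?_)
      obtain ⟨m, hm⟩ := IsPGroup.iff_card.1 hX
      rw [Nat.card_congr (subgroupOfEquivOfLe hXM).toEquiv, hm] at hd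
      have := (Nat.prime_dvd_prime_iff_eq hr hqP).1 (hr.dvd_of_dvd_pow hd)
      subst this
      exact hlt.not_ge (((S1414.result hG M hM).2.2.2.2 p hpP hpσ.2.1 hp).2.2 _ hr hdi)
    have hcop : (Nat.card X).Coprime (Nat.card (Cfsg.sigmaCore M)) :=
      BGFittingUnique.coprime_card_of_qgroup hX fun hd => hqσ ((hall_sigma hG hM).1.2.1 q hqP hd)
    obtain ⟨T, hT⟩ := CoprimeAction.exists_invariant_sylow (hXM.trans hnσ) hcop
      (Or.inl (CoprimeAction.isSolvable_of_isPGroup hX)) p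
    refine ⟨_, isMaxP_sylow _ T, fun x hx => mem_centralizer_iff.2 fun a ha => ?_⟩
    have haM : a ∈ M := hσle (map_subtype_le _ ha)
    have hn : M ≤ normalizer (coreOf p M : Set G) := le_normalizer.trans (le_normalizer_coreOf p M)
    have h1 : ⁅x, a⁆ ∈ (T : Subgroup (Cfsg.sigmaCore M)).map (Cfsg.sigmaCore M).subtype ⊓
        coreOf p M := by
      refine mem_inf.2 ⟨?_, ?_⟩
      · rw [commutatorElement_def]
        exact mul_mem ((mem_normalizer_iff.1 (hT hx) a).1 ha) (inv_mem ha)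
      · rw [commutatorElement_def, mul_assoc, mul_assoc, ← mul_assoc a]
        exact mul_mem (hXO hx) ((mem_normalizer_iff.1 (hn haM) _).1 (inv_mem (hXO hx)))
    rw [HallCore.disjoint_of_coprime_card ?_, mem_bot,
      commutatorElement_eq_one_iff_mul_comm] at h1
    · exact h1.symm
    · obtain ⟨k, hk⟩ := IsPGroup.iff_card.1
        (T.isPGroup'.map (Cfsg.sigmaCore M).subtype)
      rw [hk]
      exact (coprime_coreOf p M).symm.pow_left k
  refine ⟨ha, fun hpα H hH hle => ?_, fun hXmax => ?_⟩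
  · obtain ⟨P, hP, hXP⟩ := ha
    have hpσ := alpha_subset hG hM hpα
    have hPM : IsMaxP p P M := ⟨hP.le.trans hσle, hP.isPGroup, fun Q hPQ hQM hQ =>
      hP.eq_of_le Q hPQ (BGTypeP.le_of_normal_hall (hall_sigma hG hM).1 hnσ hQM
        (piNat_of_isPGroup hQ hpσ)) hQ⟩
    have hle' : P ≤ M ⊓ centralizer (X : Set G) :=
      le_inf hPM.le (fun a ha => mem_centralizer_iff.2 fun x hx =>
        ((mem_centralizer_iff.1 (hXP hx)) a ha).symm)
    have hU : Cfsg.InUniqueMaximal (M ⊓ centralizer (X : Set G)) :=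
      unique_of_rank (p := p) hG (fun he => hM.1 (top_le_iff.1 (he ▸ inf_le_left)))
        fun hr => pRankLE_of_isMaxP hPM hpα.2 (BGRankTwo.pRankLE_mono hle' hr)
    exact (eq_of_unique hU hM inf_le_left hH hle).symm
  · obtain ⟨P, hP, -, hPX⟩ := beta'_cent_sylow_derived hG hM hp hq hpq hXmax
    exact ⟨P, hP, hPX⟩

end Cfsg.Agent.BGSigma
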