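import Cfsg.Agent.Lib.BGExcTI
import Cfsg.Agent.Lib.BGSigmaComplement
import Cfsg.Agent.Lib.BGCoprimeFPF
import Cfsg.Agent.Lib.CoprimeTools

/-!
Bender-Glauberman 11.3-11.6 for an exceptional pair `(M, A₀ ≤ A)`: `p ∉ σ(M)`, `A ≤ M` elementary
abelian of order `p ^ 2`, `A₀ ≤ A` of order `p` with `N(A₀) ≤ M`. `M_σ` is nilpotent, the Sylow
`p`-subgroups of `M` are abelian, `C_{M_σ}(A) = 1`.
-/

set_option autoImplicit false
set_option linter.style.haveILetI false

namespace Cfsg.Agent.BGExc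

open Subgroup
open Cfsg.Agent.BGUnique
open Cfsg.Agent.BGSigma
open scoped commutatorElement Pointwise

universe u

variable {G : Type u} [Group G] [Finite G]

/-- The exceptional configuration of Bender-Glauberman section 11. -/
structure IsExc (p : ℕ) (M A A₀ : Subgroup G) : Prop where
  coatom : IsCoatom M
  not_sigma : p ∉ Cfsg.sigma M
  le : A ≤ M
  elem : Cfsg.IsElementaryAbelian p A
  card : Nat.card A = p ^ 2
  le₀ : A₀ ≤ A
  card₀ : Nat.card A₀ = p
  normalizer_le : normalizer (A₀ : Set G) ≤ M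

theorem eq_zpowers_of_card {p : ℕ} [hp : Fact p.Prime] {X : Subgroup G} (hX : Nat.card X = p) {x : G}
    (hx : x ∈ X) (hx1 : x ≠ 1) : zpowers x = X := by
  refine eq_of_le_of_card_ge (zpowers_le.2 hx) ?_
  rw [hX, Nat.card_zpowers]
  exact (PGroupsBasic.orderOf_eq_of_pow_eq_one (PGroupsBasic.pow_eq_one_of_card hX hx) hx1).ge

theorem exists_generator {p : ℕ} [hp : Fact p.Prime] {X : Subgroup G} (hX : Nat.card X = p) :
    ∃ x ∈ X, x ^ p = 1 ∧ x ≠ 1 ∧ zpowers x = X := by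
  obtain ⟨x, hx, hx1⟩ := X.bot_or_exists_ne_one.resolve_left fun h => by
    rw [h, card_bot] at hX; exact hp.out.one_lt.ne hX
  exact ⟨x, hx, PGroupsBasic.pow_eq_one_of_card hX hx, hx1, eq_zpowers_of_card hX hx hx1⟩

/-- Two distinct subgroups of order `p` generate the elementary abelian group of order `p ^ 2`. -/
theorem sup_eq_of_sq {p : ℕ} [hp : Fact p.Prime] {A X Y : Subgroup G} (hAc : Nat.card A = p ^ 2)
    (hX : X ≤ A) (hY : Y ≤ A) (hXc : Nat.card X = p) (hYc : Nat.card Y = p) (hne : X ≠ Y) :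
    X ⊔ Y = A := by
  refine eq_of_le_of_card_ge (sup_le hX hY) ?_
  obtain ⟨i, -, hi'⟩ := (Nat.dvd_prime_pow hp.out).1 (hAc ▸ card_dvd_of_le (sup_le hX hY))
  rw [hi', hAc]
  refine Nat.pow_le_pow_right hp.out.pos ?_
  by_contra h
  have h1 : Nat.card ↥(X ⊔ Y) ≤ p := by
    rw [hi']
    exact le_trans (Nat.pow_le_pow_right hp.out.pos (by omega : i ≤ 1)) (pow_one p).le
  exact hne ((eq_of_le_of_card_ge le_sup_left (hXc ▸ h1)).trans
    (eq_of_le_of_card_ge (H := Y) le_sup_right (hYc ▸ h1)).symm)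

/-- The conjugates of a moved subgroup of order `p` cover `A ∖ T`. -/
theorem exists_conj_cover {p : ℕ} [hp : Fact p.Prime] {A T A₀ : Subgroup G}
    (hAc : Nat.card A = p ^ 2) (hTA : T ≤ A) (hTc : Nat.card T = p) (hA₀A : A₀ ≤ A)
    (hA₀c : Nat.card A₀ = p) (hne : A₀ ≠ T) {y : G} {n : ℕ} (hyn : y ^ p ^ n = 1)
    (hyA : y ∈ normalizer (A : Set G)) (hyT : y ∈ centralizer (T : Set G))
    (hy₀ : y ∉ normalizer (A₀ : Set G)) {a : G} (ha : a ∈ A) (haT : a ∉ T) :
    ∃ j : ℕ, a ∈ MulAut.conj (y ^ j) • A₀ := by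
  classical
  haveI := Fintype.ofFinite A
  haveI := Fintype.ofFinite A₀
  haveI := Fintype.ofFinite T
  have hdisj : ∀ x : G, x ∈ A₀ → x ≠ 1 → x ∉ T := fun x hx hx1 hxT =>
    hne ((eq_zpowers_of_card hA₀c hx hx1).symm.trans (eq_zpowers_of_card hTc hxT hx1))
  have hconjT : ∀ (j : ℕ) (t : G), t ∈ T → y ^ j * t * (y ^ j)⁻¹ = t := fun j t ht => by
    have h : Commute (y ^ j) t :=
      (show Commute y t from (mem_centralizer_iff.1 hyT t ht).symm).pow_left j
    rw [h.eq, mul_inv_cancel_right]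
  let f : Fin p × {x : A₀ // x ≠ 1} → {b : A // (b : G) ∉ T} := fun w =>
    ⟨⟨y ^ (w.1 : ℕ) * (w.2.1 : G) * (y ^ (w.1 : ℕ))⁻¹,
      (mem_normalizer_iff.1 (pow_mem hyA _) _).1 (hA₀A w.2.1.2)⟩, fun h => by
      refine hdisj _ w.2.1.2 (fun h1 => w.2.2 (Subtype.ext h1)) ?_
      have h2 := hconjT w.1 _ h
      have h3 : y ^ (w.1 : ℕ) * (w.2.1 : G) * (y ^ (w.1 : ℕ))⁻¹ = (w.2.1 : G) :=
        mul_left_cancel (mul_right_cancel h2)
      exact h3 ▸ h⟩
  have hinj : Function.Injective f := by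
    have main : ∀ (i j : Fin p) (x z : {x : A₀ // x ≠ 1}), f (i, x) = f (j, z) → (i : ℕ) ≤ j →
        i = j := by
      intro i j x z h hij
      by_contra hne'
      have h0 : y ^ (i : ℕ) * (x.1 : G) * (y ^ (i : ℕ))⁻¹ = y ^ (j : ℕ) * (z.1 : G) * (y ^ (j : ℕ))⁻¹ :=
        congrArg (fun w : {b : A // (b : G) ∉ T} => ((w.1 : A) : G)) h
      obtain ⟨d, hd⟩ := Nat.exists_eq_add_of_le hij
      rw [hd, pow_add] at h0
      have h1 : y ^ d * (z.1 : G) * (y ^ d)⁻¹ = (x.1 : G) := by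
        have h' := congrArg (fun t => (y ^ (i : ℕ))⁻¹ * t * y ^ (i : ℕ)) h0
        simpa [mul_assoc] using h'.symm
      have hdne : d ≠ 0 := fun h2 => hne' (Fin.ext (by omega))
      have hdp : d < p := by have := j.2; omega
      have hz1 : (z.1 : G) ≠ 1 := fun h2 => z.2 (Subtype.ext h2)
      have hx1 : (x.1 : G) ≠ 1 := fun h2 => x.2 (Subtype.ext h2)
      have hsmul : MulAut.conj (y ^ d) • A₀ = A₀ := by
        conv_lhs => rw [← eq_zpowers_of_card hA₀c z.1.2 hz1]
        rw [CoprimeSZ.conj_smul_eq_map, MonoidHom.map_zpowers]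
        exact (congrArg zpowers h1).trans (eq_zpowers_of_card hA₀c x.1.2 hx1)
      have hmem := CoprimeAction.mem_normalizer_of_conj_smul_eq hsmul
      have hco : d.Coprime (p ^ n) := ((hp.out.coprime_iff_not_dvd.2 fun h2 =>
        hdne (Nat.eq_zero_of_dvd_of_lt h2 hdp)).symm).pow_right n
      obtain ⟨k, hk⟩ := exists_pow_eq_self_of_coprime (x := y) (n := d)
        (hco.coprime_dvd_right (orderOf_dvd_of_pow_eq_one hyn))
      exact hy₀ (hk ▸ pow_mem hmem k)
    rintro ⟨i, x⟩ ⟨j, z⟩ h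
    obtain rfl : i = j := by
      rcases le_total (i : ℕ) j with h' | h'
      · exact main i j x z h h'
      · exact (main j i z x h.symm h').symm
    have h0 : y ^ (i : ℕ) * (x.1 : G) * (y ^ (i : ℕ))⁻¹ = y ^ (i : ℕ) * (z.1 : G) * (y ^ (i : ℕ))⁻¹ :=
      congrArg (fun w : {b : A // (b : G) ∉ T} => ((w.1 : A) : G)) h
    exact Prod.ext rfl (Subtype.ext (Subtype.ext (mul_left_cancel (mul_right_cancel h0))))
  have hc1 : Fintype.card {x : A₀ // x ≠ 1} = p - 1 := by
    rw [Fintype.card_subtype_compl, Fintype.card_subtype_eq, ← Nat.card_eq_fintype_card, hA₀c]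
  have hc2 : Fintype.card {b : A // (b : G) ∉ T} = p ^ 2 - p := by
    rw [Fintype.card_subtype_compl, ← Nat.card_eq_fintype_card, hAc, ← Nat.card_eq_fintype_card]
    congr 1
    exact (Nat.card_congr (subgroupOfEquivOfLe hTA).toEquiv).trans hTc
  obtain ⟨⟨i, x⟩, hix⟩ := ((Fintype.bijective_iff_injective_and_card f).2 ⟨hinj, by
    rw [Fintype.card_prod, Fintype.card_fin, hc1, hc2, Nat.mul_sub_one, pow_two]⟩).2 ⟨⟨a, ha⟩, haT⟩
  refine ⟨i, ?_⟩
  have h0 : y ^ (i : ℕ) * (x.1 : G) * (y ^ (i : ℕ))⁻¹ = a :=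
    congrArg (fun w : {b : A // (b : G) ∉ T} => ((w.1 : A) : G)) hix
  exact h0 ▸ CoprimeSZ.conj_mul_mem_conj_smul x.1.2

namespace IsExc

variable (hG : Cfsg.IsMinSimpleOddOrder G) {p : ℕ} [hp : Fact p.Prime] {M A A₀ : Subgroup G}
  (h : IsExc p M A A₀)
include hG h

omit hG hp in
theorem centralizer_le : centralizer (A : Set G) ≤ M :=
  (Subgroup.centralizer_le (SetLike.coe_subset_coe.2 h.le₀)).trans
    ((centralizer_le_normalizer _).trans h.normalizer_le)

theorem rank : Cfsg.PRankLE p 2 ↥(centralizer (A : Set G)) :=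
  centralizer_rank hG h.coatom h.not_sigma h.le h.elem h.card

omit hG in
theorem isPGroup : IsPGroup p A := PGroupsBasic.isPGroup_of_isElementaryAbelian h.elem

theorem exists_moving {P : Subgroup G} (hP : IsMaxP p P M) :
    ∃ g ∈ normalizer (P : Set G), g ∉ M :=
  SetLike.not_le_iff_exists.1
    (not_normalizer_le_maxP h.not_sigma hP (dvd_card_of_sq h.le h.card))

theorem conj_le {P : Subgroup G} (hP : IsMaxP p P M) (hAP : A ≤ P) {g : G}
    (hg : g ∈ normalizer (P : Set G)) : A ≤ MulAut.conj g • M := by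
  refine hAP.trans ?_
  rw [← CoprimeSZ.conj_smul_eq_self hg]
  exact pointwise_smul_le_pointwise_smul_iff.2 hP.le

theorem fpf_conj {g : G} (hg : g ∉ M) (hAg : A ≤ MulAut.conj g • M) :
    Cfsg.sigmaCore M ⊓ centralizer ((MulAut.conj g • A₀ : Subgroup G) : Set G) = ⊥ :=
  sigmaCore_inf_centralizer hG h.elem h.card h.coatom h.not_sigma h.le (centralizer_le h)
    h.normalizer_le hg hAg

/-- BG 11.3. -/
theorem nilpotent : Group.IsNilpotent (Cfsg.sigmaCore M) := by
  obtain ⟨P, hP, hAP⟩ := exists_isMaxP_ge (isPGroup h) h.le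
  obtain ⟨g, hg, hgM⟩ := exists_moving hG h hP
  have hfix := fpf_conj hG h hgM (conj_le hG h hP hAP hg)
  obtain ⟨x, hx, hxp, hx1, hxz⟩ :=
    exists_generator (p := p) (X := MulAut.conj g • A₀) (by rw [CoprimeSZ.card_conj_smul, h.card₀])
  rw [← hxz, zpowers_eq_closure, centralizer_closure] at hfix
  have hxM : x ∈ M := by
    refine hP.le ?_
    rw [← CoprimeSZ.conj_smul_eq_self hg]
    exact pointwise_smul_le_pointwise_smul_iff.2 (h.le₀.trans hAP) hx
  have hxn : x ∈ normalizer (Cfsg.sigmaCore M : Set G) := le_normalizer_sigmaCore M hxM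
  refine FrobeniusNilpotent.isNilpotent_of_fpf
    ((normalizerMonoidHom (Cfsg.sigmaCore M)) ⟨x, hxn⟩) (fun v hv => ?_) p hp.out ?_
  · have h1 : x * (v : G) * x⁻¹ = v := congrArg Subtype.val hv
    have h2 : (v : G) ∈ Cfsg.sigmaCore M ⊓ centralizer {x} :=
      ⟨v.2, mem_centralizer_singleton_iff.2 (mul_inv_eq_iff_eq_mul.1 h1).symm⟩
    rw [hfix, mem_bot] at h2
    exact Subtype.ext h2
  · rw [← map_pow]
    exact (congrArg _ (Subtype.ext hxp)).trans (map_one _)

/-- BG 11.5, for a Sylow subgroup over `A`. -/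
theorem isMulCommutative_of_le {P : Subgroup G} (hP : IsMaxP p P M) (hAP : A ≤ P) :
    IsMulCommutative P := by
  by_contra hnc
  have hr := rank hG h
  have hmem : ∀ x ∈ centralizer (A : Set G), x ^ p = 1 → x ∈ A := fun x hx hxp =>
    mem_of_centralizer h.elem h.card hr hx hxp
  have hnC : ¬ P ≤ centralizer (A : Set G) := fun hC =>
    hnc (PGroupsBasic.isMulCommutative_of_forall fun x hx y hy =>
      commute_of_centralizing hG h.elem h.card hr hP.isPGroup hAP hx (hC hx) hy (hC hy))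
  have hPne : P ≠ ⊥ := ne_bot_of_le_ne_bot (ne_bot_of_sq h.card) hAP
  obtain ⟨z, hzP, hzo, hzc⟩ := exists_central_prime hP.isPGroup hPne
  have hzA : z ∈ A := hmem z (mem_centralizer_iff.2 fun a ha => ((hzc a (hAP ha)).eq).symm)
    (hzo ▸ pow_orderOf_eq_one z)
  set T := zpowers z with hTdef
  have hTA : T ≤ A := zpowers_le.2 hzA
  have hTc : Nat.card T = p := by rw [hTdef, Nat.card_zpowers, hzo]
  have hT : ∀ x ∈ P, (∀ y ∈ P, Commute x y) → x ^ p = 1 → x ∈ T := by
    intro x hx hxc hxp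
    by_contra hxT
    have hxA : x ∈ A := hmem x (mem_centralizer_iff.2 fun a ha => ((hxc a (hAP ha)).eq).symm) hxp
    have hx1 : x ≠ 1 := fun h0 => hxT (h0 ▸ one_mem T)
    have hxc' : Nat.card (zpowers x) = p := by
      rw [Nat.card_zpowers, PGroupsBasic.orderOf_eq_of_pow_eq_one hxp hx1]
    have hsup := sup_eq_of_sq h.card hTA (zpowers_le.2 hxA) hTc hxc'
      (fun he => hxT (he ▸ mem_zpowers x))
    have hc : A ≤ centralizer (P : Set G) := by
      rw [← hsup, sup_le_iff]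
      exact ⟨zpowers_le.2 (mem_centralizer_iff.2 fun y hy => ((hzc y hy).eq).symm),
        zpowers_le.2 (mem_centralizer_iff.2 fun y hy => ((hxc y hy).eq).symm)⟩
    exact hnC (le_centralizer_iff.1 hc)
  have hTP' : T ≤ ⁅P, P⁆ := by
    have hne : commutator P ≠ ⊥ := by
      intro h0
      refine hnc (PGroupsBasic.isMulCommutative_of_forall fun x hx y hy => ?_)
      have h1 : ⁅(⟨x, hx⟩ : P), (⟨y, hy⟩ : P)⁆ ∈ commutator P :=
        commutator_mem_commutator (mem_top _) (mem_top _)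
      rw [h0, mem_bot, commutatorElement_eq_one_iff_mul_comm] at h1
      exact congrArg Subtype.val h1
    obtain ⟨w, hw, hwo⟩ := PGroupsBasic.exists_orderOf_eq_of_ne_bot (p := p)
      (hP.isPGroup.to_subgroup _) (PGroupsBasic.inf_center_ne_bot hP.isPGroup hne)
    have hwT : (w : G) ∈ T := hT _ w.2 (fun y hy => (congrArg Subtype.val
      ((mem_center_iff.1 hw.2) ⟨y, hy⟩)).symm)
      (by rw [← SubgroupClass.coe_pow, ← hwo, pow_orderOf_eq_one]; rfl)
    have hw1 : (w : G) ≠ 1 := fun h0 => hp.out.one_lt.ne'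
      (by rw [← hwo, ← Subgroup.orderOf_coe, h0, orderOf_one])
    rw [← eq_zpowers_of_card hTc hwT hw1, zpowers_le, ← Subgroup.map_subtype_commutator]
    exact mem_map_of_mem _ hw.1
  obtain ⟨E, hE, hPE⟩ := exists_compl hG h.coatom hP h.not_sigma
  have hET : E ≤ normalizer (T : Set G) := le_normalizer_of_char hG h.coatom hE
    (Q := P) ⟨hPE, hP.isPGroup, fun R hR hRE => hP.eq_of_le R hR (hRE.trans hE.1)⟩ hTP'
    fun e t ht => hT _ (e t).2 (fun y hy => by
        have ht' : ∀ u : P, Commute t u := fun u => Subtype.ext (by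
          obtain ⟨i, hi⟩ := mem_zpowers_iff.1 ht
          show (t : G) * u = u * t
          rw [← hi]
          exact ((hzc u u.2).zpow_left i).eq)
        have h1 := (ht' (e.symm ⟨y, hy⟩)).map (e : P →* P)
        show ((e t : P) : G) * y = y * ((e t : P) : G)
        simpa using congrArg Subtype.val h1.eq)
      (by
        have ht1 : t ^ p = 1 := Subtype.ext (by
          rw [SubgroupClass.coe_pow]; exact h.elem.2 _ (hTA ht))
        rw [← SubgroupClass.coe_pow, ← map_pow, ht1, map_one]; rfl)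
  obtain ⟨g, hg, hgM⟩ := exists_moving hG h hP
  have hgT : g ∈ normalizer (T : Set G) := by
    refine CoprimeAction.mem_normalizer_of_conj_smul_eq ?_
    rw [hTdef, CoprimeSZ.conj_smul_eq_map, MonoidHom.map_zpowers]
    refine eq_zpowers_of_card hTc (hT _ ((mem_normalizer_iff.1 hg z).1 hzP) (fun y hy => ?_) ?_) ?_
    · have h1 : g⁻¹ * y * g ∈ P := by simpa using (mem_normalizer_iff.1 (inv_mem hg) y).1 hy
      calc g * z * g⁻¹ * y = g * (z * (g⁻¹ * y * g)) * g⁻¹ := by group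
        _ = g * ((g⁻¹ * y * g) * z) * g⁻¹ := by rw [(hzc _ h1).eq]
        _ = y * (g * z * g⁻¹) := by group
    · show (g * z * g⁻¹) ^ p = 1
      rw [conj_pow, ← hzo, pow_orderOf_eq_one]; simp
    · show g * z * g⁻¹ ≠ 1
      exact fun h0 => hp.out.one_lt.ne' (by rw [← hzo, conj_eq_one_iff.1 h0, orderOf_one])
  have hA₀T : A₀ ≠ T := fun h0 => hgM (h.normalizer_le (h0 ▸ hgT))
  -- an element of `P` moving `A₀`
  obtain ⟨y, hyP, hyA, hyC⟩ : ∃ y ∈ P, y ∈ normalizer (A : Set G) ∧ y ∉ centralizer (A : Set G) := by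
    set C := P ⊓ centralizer (A : Set G) with hC
    have hlt : C < P := lt_of_le_of_ne inf_le_left fun h0 => hnC (h0 ▸ inf_le_right)
    obtain ⟨y, hy, hyC⟩ := SetLike.exists_of_lt (lt_inf_normalizer hP.isPGroup hlt)
    refine ⟨y, hy.1, ?_, fun h0 => hyC ⟨hy.1, h0⟩⟩
    exact normalizer_le_of_omega h.elem
      (le_inf hAP (PGroupsBasic.le_centralizer_of_isMulCommutative h.elem.1))
      (fun x hx hxp => hmem x hx.2 hxp) hy.2
  obtain ⟨n, hn⟩ := hP.isPGroup ⟨y, hyP⟩
  have hyn : y ^ p ^ n = 1 := congrArg Subtype.val hn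
  have hyT : y ∈ centralizer (T : Set G) := mem_centralizer_iff.2 fun t ht => by
    obtain ⟨i, rfl⟩ := mem_zpowers_iff.1 ht
    exact ((hzc y hyP).zpow_left i).eq
  have hy₀ : y ∉ normalizer (A₀ : Set G) := by
    intro hy
    -- a `p`-element normalising a group of order `p` centralises it
    refine hyC ?_
    have h1 : A ≤ centralizer ({y} : Set G) := by
      rw [← sup_eq_of_sq h.card h.le₀ hTA h.card₀ hTc hA₀T, sup_le_iff]
      refine ⟨fun a ha => ?_, fun t ht => mem_centralizer_singleton_iff.2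
        (mem_centralizer_iff.1 hyT t ht)⟩
      have hA₀p : IsPGroup p A₀ := (isPGroup h).to_le h.le₀
      have hU : IsPGroup p ↥(A₀ ⊔ zpowers y) := IsPGroup.to_sup_of_normal_left' hA₀p
        (hP.isPGroup.to_le (zpowers_le.2 hyP)) (zpowers_le.2 hy)
      haveI : (A₀.subgroupOf (A₀ ⊔ zpowers y)).Normal :=
        normal_subgroupOf_of_le_normalizer (sup_le le_normalizer (zpowers_le.2 hy))
      have h2 := PGroupsBasic.le_center_of_card_eq_prime hU
        (N := A₀.subgroupOf (A₀ ⊔ zpowers y))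
        ((Nat.card_congr (subgroupOfEquivOfLe le_sup_left).toEquiv).trans h.card₀)
      have h3 := mem_center_iff.1 (h2 (show (⟨a, mem_sup_left ha⟩ : ↥(A₀ ⊔ zpowers y)) ∈ _ from ha))
        ⟨y, mem_sup_right (mem_zpowers y)⟩
      exact mem_centralizer_singleton_iff.2 (congrArg Subtype.val h3).symm
    exact mem_centralizer_iff.2 fun a ha => mem_centralizer_singleton_iff.1 (h1 ha)
  -- every element of `A^g ∖ T` acts fixed point freely on `M_σ`, so `T` centralises it
  have hAg := conj_le hG h hP hAP hg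
  set A' := MulAut.conj g • A with hA'
  haveI : IsMulCommutative A' := (PGroupsBasic.isElementaryAbelian_map_hom h.elem _).1
  have hA'p : Cfsg.IsElementaryAbelian p A' := PGroupsBasic.isElementaryAbelian_map_hom h.elem _
  have hA'M : A' ≤ M := by
    refine le_trans ?_ hP.le
    rw [hA', ← CoprimeSZ.conj_smul_eq_self hg]
    exact pointwise_smul_le_pointwise_smul_iff.2 hAP
  have hσT : Cfsg.sigmaCore M ≤ centralizer (T : Set G) := by
    refine CoprimeGen.le_of_centralizers (A := A')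
      (not_isCyclic_of_sq_le hA'p (by rw [hA', CoprimeSZ.card_conj_smul, h.card]))
      (hA'M.trans (le_normalizer_sigmaCore M))
      (coprime_sigmaCore hG h.coatom hp.out h.not_sigma
        (PGroupsBasic.isPGroup_of_isElementaryAbelian hA'p)) ?_
    intro b hb hb1
    by_cases hbT : b ∈ T
    · rw [← eq_zpowers_of_card hTc hbT hb1, zpowers_eq_closure, centralizer_closure]
      exact inf_le_right
    rw [hA', CoprimeSZ.mem_conj_smul] at hb
    have haT : g⁻¹ * b * g ∉ T := fun h0 => hbT (by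
      simpa [mul_assoc] using (mem_normalizer_iff.1 hgT _).1 h0)
    obtain ⟨j, hj⟩ := exists_conj_cover h.card hTA hTc h.le₀ h.card₀ hA₀T hyn hyA hyT hy₀ hb haT
    have hyjM : y ^ j ∈ M := pow_mem (hP.le hyP) j
    have hN : normalizer ((MulAut.conj (y ^ j) • A₀ : Subgroup G) : Set G) ≤ M := by
      rw [BGTypeBasic.conj_smul_normalizer]
      exact CoprimeSZ.conj_smul_le_of_mem h.normalizer_le hyjM
    have hfix := sigmaCore_inf_centralizer hG h.elem h.card h.coatom h.not_sigma h.le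
      (centralizer_le h) hN hgM hAg
    have hbmem : b ∈ MulAut.conj g • MulAut.conj (y ^ j) • A₀ := CoprimeSZ.mem_conj_smul.2 hj
    rw [← eq_zpowers_of_card (X := MulAut.conj g • MulAut.conj (y ^ j) • A₀)
      (by rw [CoprimeSZ.card_conj_smul, CoprimeSZ.card_conj_smul, h.card₀]) hbmem hb1,
      zpowers_eq_closure, centralizer_closure] at hfix
    exact (le_of_eq hfix).trans bot_le
  have hTn : M ≤ normalizer (T : Set G) := by
    rw [← BGTypeBasic.sup_eq_of_isComplIn hE]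
    exact sup_le hET (hσT.trans (centralizer_le_normalizer _))
  exact hgM (normalizer_eq_of_normal hG h.coatom (hTA.trans h.le)
    (fun h0 => by rw [h0, card_bot] at hTc; exact hp.out.one_lt.ne hTc) hTn ▸ hgT)

/-- BG 11.5. -/
theorem isMulCommutative_maxP {P : Subgroup G} (hP : IsMaxP p P M) : IsMulCommutative P := by
  obtain ⟨P₀, hP₀, hAP⟩ := exists_isMaxP_ge (isPGroup h) h.le
  obtain ⟨m, hm, hle⟩ := exists_conj_maxP hP₀ hP.le hP.isPGroup
  haveI := isMulCommutative_of_le hG h hP₀ hAP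
  refine PGroupsBasic.isMulCommutative_of_forall fun x hx y hy => ?_
  have h1 := PGroupsBasic.comm_of_isMulCommutative (H := P₀) inferInstance
    (hle (CoprimeSZ.conj_mul_mem_conj_smul (g := m) hx))
    (hle (CoprimeSZ.conj_mul_mem_conj_smul (g := m) hy))
  simpa [mul_assoc] using congrArg (fun t => m⁻¹ * t * m) h1

/-- The elements of order `p` of a `p`-subgroup of `M` over `A` lie in `A`. -/
theorem mem_of_pow_eq_one {Y : Subgroup G} (hY : IsPGroup p Y) (hYM : Y ≤ M) (hAY : A ≤ Y) {x : G}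
    (hx : x ∈ Y) (hxp : x ^ p = 1) : x ∈ A := by
  obtain ⟨P, hP, hYP⟩ := exists_isMaxP_ge hY hYM
  exact mem_of_centralizer h.elem h.card (rank hG h) (mem_centralizer_iff.2 fun a ha =>
    PGroupsBasic.comm_of_isMulCommutative (isMulCommutative_maxP hG h hP) (hYP (hAY ha)) (hYP hx)) hxp

theorem normalizer_maxP_le {Y : Subgroup G} (hY : IsPGroup p Y) (hYM : Y ≤ M) (hAY : A ≤ Y) :
    normalizer (Y : Set G) ≤ normalizer (A : Set G) :=
  normalizer_le_of_omega h.elem hAY fun _ hx hxp => mem_of_pow_eq_one hG h hY hYM hAY hx hxp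

/-- BG 11.6. -/
theorem exists_fpf_pair : ∃ A₁ A₂ : Subgroup G, A₁ ≤ A ∧ A₂ ≤ A ∧ Nat.card A₁ = p ∧
    Nat.card A₂ = p ∧ A₁ ⊔ A₂ = A ∧ Cfsg.sigmaCore M ⊓ centralizer (A₁ : Set G) = ⊥ ∧
    Cfsg.sigmaCore M ⊓ centralizer (A₂ : Set G) = ⊥ := by
  obtain ⟨P, hP, hAP⟩ := exists_isMaxP_ge (isPGroup h) h.le
  obtain ⟨g, hg, hgM⟩ := exists_moving hG h hP
  have key : ∀ k ∈ normalizer (P : Set G), k ∉ M → MulAut.conj k • A₀ ≤ A ∧
      Cfsg.sigmaCore M ⊓ centralizer ((MulAut.conj k • A₀ : Subgroup G) : Set G) = ⊥ := by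
    intro k hk hkM
    refine ⟨?_, fpf_conj hG h hkM (conj_le hG h hP hAP hk)⟩
    rw [← CoprimeSZ.conj_smul_eq_self (normalizer_maxP_le hG h hP.isPGroup hP.le hAP hk)]
    exact pointwise_smul_le_pointwise_smul_iff.2 h.le₀
  obtain ⟨h1, h1'⟩ := key g hg hgM
  obtain ⟨h2, h2'⟩ := key g⁻¹ (inv_mem hg) fun hh => hgM (inv_mem_iff.1 hh)
  have hne : MulAut.conj g • A₀ ≠ MulAut.conj g⁻¹ • A₀ := by
    intro he
    have h3 : g * g ∈ M := h.normalizer_le (CoprimeAction.mem_normalizer_of_conj_smul_eq (by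
      rw [CoprimeSZ.conj_smul_mul, he, ← CoprimeSZ.conj_smul_mul, mul_inv_cancel, map_one, one_smul]))
    obtain ⟨k, hk⟩ : Odd (orderOf g) := by
      have hodd := hG.1
      exact hodd.of_dvd_nat (orderOf_dvd_natCard g)
    refine hgM ?_
    have : g = (g * g) ^ (k + 1) := by
      rw [← pow_two, ← pow_mul, show 2 * (k + 1) = orderOf g + 1 by omega, pow_succ,
        pow_orderOf_eq_one, one_mul]
    rw [this]
    exact pow_mem h3 _
  have hc : ∀ k : G, Nat.card (MulAut.conj k • A₀ : Subgroup G) = p := fun k => by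
    rw [CoprimeSZ.card_conj_smul, h.card₀]
  exact ⟨_, _, h1, h2, hc g, hc g⁻¹, sup_eq_of_sq h.card h1 h2 (hc g) (hc g⁻¹) hne, h1', h2'⟩

theorem inf_centralizer : Cfsg.sigmaCore M ⊓ centralizer (A : Set G) = ⊥ := by
  obtain ⟨A₁, A₂, hA₁, -, -, -, -, h₁, -⟩ := exists_fpf_pair hG h
  exact le_bot_iff.1 (h₁ ▸ inf_le_inf_left _ (Subgroup.centralizer_le (SetLike.coe_subset_coe.2 hA₁)))

/-- `[R, A]` centralises `M_σ` for an `A`-invariant `q`-subgroup `R` of `M`, `q ∉ σ(M)`. -/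
theorem commutator_le_centralizer {q : ℕ} (hq : q.Prime) (hqp : q ≠ p) (hqσ : q ∉ Cfsg.sigma M)
    {R : Subgroup G} (hR : IsPGroup q R) (hRM : R ≤ M) (hAR : A ≤ normalizer (R : Set G)) :
    ⁅R, A⁆ ≤ centralizer (Cfsg.sigmaCore M : Set G) := by
  rcases eq_or_ne R ⊥ with rfl | hRne
  · rw [commutator_bot_left]; exact bot_le
  haveI := Fact.mk hq
  have hq2 : q ≠ 2 := prime_ne_two hG ((dvd_card_of_ne_bot hR hRne).trans (card_subgroup_dvd_card R))
  have hp2 : p ≠ 2 := prime_ne_two hG ((dvd_card_of_sq le_rfl h.card).trans (card_subgroup_dvd_card A))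
  obtain ⟨A₁, A₂, hA₁, hA₂, hc₁, hc₂, hsup, h₁, h₂⟩ := exists_fpf_pair hG h
  have key : ∀ A' : Subgroup G, A' ≤ A → Nat.card A' = p →
      Cfsg.sigmaCore M ⊓ centralizer (A' : Set G) = ⊥ →
      ⁅A', R⁆ ≤ centralizer (Cfsg.sigmaCore M : Set G) := by
    intro A' hA' hc hfix
    obtain ⟨a, ha, hap, ha1, haz⟩ := exists_generator hc
    rw [← haz, commutator_comm]
    rw [← haz, zpowers_eq_closure, centralizer_closure] at hfix
    exact BGCoprimeFPF.commutator_centralizes hp.out hq hp2 hq2 (Ne.symm hqp) hap (nilpotent hG h)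
      (fun hd => h.not_sigma (sigma_of_dvd hG h.coatom hp.out hd))
      (fun hd => hqσ (sigma_of_dvd hG h.coatom hq hd)) hR
      (hRM.trans (le_normalizer_sigmaCore M)) (le_normalizer_sigmaCore M (h.le (hA' ha)))
      (hAR (hA' ha)) hfix
  rw [commutator_comm, ← hsup]
  refine CoprimeTools.commutator_sup_le ?_ (key A₁ hA₁ hc₁ h₁) (key A₂ hA₂ hc₂ h₂)
  exact CoprimeTools.le_normalizer_centralizer_of_le
    ((hsup.le.trans h.le).trans (le_normalizer_sigmaCore M))

end IsExc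

end Cfsg.Agent.BGExc
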