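import Cfsg.Agent.Lib.BGExceptionalPrep
import Cfsg.Agent.Lib.FrobeniusNilpotent
import Cfsg.Agent.S1396
import Cfsg.Agent.S1410
import Cfsg.Agent.S1412
import Cfsg.Agent.S1453

/-!
Bender-Glauberman section 11, first part: conjugates of `M_σ` meet trivially over `A`, `M_σ` is
nilpotent; centralizers of maximal elementary abelian subgroups of order `p ^ 2` in Sylow subgroups
are abelian.
-/

set_option autoImplicit false
set_option linter.style.haveILetI false

namespace Cfsg.Agent.BGExc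

open Subgroup
open Cfsg.Agent.BGUnique
open Cfsg.Agent.BGSigma
open scoped commutatorElement Pointwise

universe u

variable {G : Type u} [Group G] [Finite G] (hG : Cfsg.IsMinSimpleOddOrder G)
  {p : ℕ} [hp : Fact p.Prime] {A : Subgroup G} (hA : Cfsg.IsElementaryAbelian p A)
  (hAc : Nat.card A = p ^ 2) (hr : Cfsg.PRankLE p 2 ↥(centralizer (A : Set G)))
include hG hA hAc hr

theorem transitivityHypothesis : Cfsg.TransitivityHypothesis A := by
  refine Cfsg.Agent.S1396.result hG p ?_ A (PGroupsBasic.isPGroup_of_isElementaryAbelian hA) hA.1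
    (Or.inl ⟨fun x hx => ⟨fun h => mem_of_centralizer hA hAc hr hx h, fun h => hA.2 x h⟩,
      fun H hH => Cfsg.Agent.S1410.result hG p H hH⟩)
  exact (dvd_card_of_sq le_rfl hAc).trans (card_subgroup_dvd_card A)

/-- The centralizer of `A` in a `p`-group containing it is abelian. -/
theorem commute_of_centralizing {P : Subgroup G} (hP : IsPGroup p P) (hAP : A ≤ P) {x y : G}
    (hx : x ∈ P) (hxA : x ∈ centralizer (A : Set G)) (hy : y ∈ P)
    (hyA : y ∈ centralizer (A : Set G)) : x * y = y * x := by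
  obtain ⟨S, hPS⟩ := hP.exists_le_sylow
  have hAS : A ≤ (S : Subgroup G) := hAP.trans hPS
  have hp2 : p ≠ 2 := prime_ne_two hG ((dvd_card_of_sq le_rfl hAc).trans (card_subgroup_dvd_card A))
  by_cases hS : Cfsg.PRankLE p 2 (S : Subgroup G)
  · rcases Cfsg.Agent.S1412.result hG p S hS with h | ⟨P₁, P₂, hsup, hcomm, -, hc3, hexp, hcyc, hcl⟩
    · exact PGroupsBasic.comm_of_isMulCommutative h (hPS hx) (hPS hy)
    have hle : P₁ ≤ normalizer (P₂ : Set G) := fun a ha => centralizer_le_normalizer _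
      (mem_centralizer_iff.2 fun b hb => (hcomm a ha b hb).symm)
    have hdec : ∀ z ∈ (S : Subgroup G), ∃ a ∈ P₁, ∃ b ∈ P₂, z = a * b := by
      intro z hz
      rw [← hsup, ← SetLike.mem_coe, Subgroup.coe_mul_of_left_le_normalizer_right P₁ P₂ hle] at hz
      obtain ⟨a, ha, b, hb, rfl⟩ := hz
      exact ⟨a, ha, b, hb, rfl⟩
    have hAP1 : A ≤ P₁ := by
      intro z hz
      obtain ⟨a, ha, b, hb, rfl⟩ := hdec z (hAS hz)
      have h1 := hA.2 _ hz
      rw [(show Commute a b from hcomm a ha b hb).mul_pow] at h1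
      have ha1 : a ^ p = 1 := by
        have h2 := Monoid.pow_exponent_eq_one (⟨a, ha⟩ : P₁)
        rw [hexp] at h2
        exact congrArg Subtype.val h2
      rw [ha1, one_mul] at h1
      have hb1 : b ∈ P₁ ⊓ centralizer (P₁ : Set G) := hcl ▸ subset_closure ⟨hb, h1⟩
      exact mul_mem ha hb1.1
    set C := P₁ ⊓ centralizer (A : Set G) with hC
    have hAC : A ≤ C := le_inf hAP1 (PGroupsBasic.le_centralizer_of_isMulCommutative hA.1)
    have hCA : A = C := by
      refine eq_of_le_of_card_ge hAC ?_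
      have hd : Nat.card C ∣ p ^ 3 := hc3 ▸ card_dvd_of_le inf_le_left
      obtain ⟨i, hi, hCi⟩ := (Nat.dvd_prime_pow hp.out).1 hd
      rw [hCi, hAc]
      refine Nat.pow_le_pow_right hp.out.pos ?_
      by_contra hlt
      have hi3 : i = 3 := by omega
      have hall : P₁ ≤ A := by
        intro a ha
        have hCP : C = P₁ := eq_of_le_of_card_ge inf_le_left (by rw [hCi, hc3, hi3])
        have h2 := Monoid.pow_exponent_eq_one (⟨a, ha⟩ : P₁)
        rw [hexp] at h2
        exact mem_of_centralizer hA hAc hr (hCP.ge ha).2 (congrArg Subtype.val h2)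
      have h4 := card_le_of_le hall
      rw [hc3, hAc, Nat.pow_le_pow_iff_right hp.out.one_lt] at h4
      omega
    have key : ∀ z ∈ P, z ∈ centralizer (A : Set G) → ∃ a ∈ A, ∃ b ∈ P₂, z = a * b := by
      intro z hz hzA
      obtain ⟨a, ha, b, hb, rfl⟩ := hdec z (hPS hz)
      have hbA : b ∈ centralizer (A : Set G) :=
        mem_centralizer_iff.2 fun c hc => hcomm c (hAP1 hc) b hb
      have haA : a ∈ centralizer (A : Set G) := by simpa using mul_mem hzA (inv_mem hbA)
      exact ⟨a, hCA.ge ⟨ha, haA⟩, b, hb, rfl⟩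
    obtain ⟨a, ha, b, hb, rfl⟩ := key x hx hxA
    obtain ⟨c, hc, d, hd, rfl⟩ := key y hy hyA
    have h1 : Commute a c := PGroupsBasic.comm_of_isMulCommutative hA.1 ha hc
    have h2 : Commute a d := hcomm a (hAP1 ha) d hd
    have h3 : Commute b c := (hcomm c (hAP1 hc) b hb).symm
    have h4 : Commute b d := by
      haveI := hcyc
      letI := IsCyclic.commGroup (α := P₂)
      exact congrArg Subtype.val (mul_comm (⟨b, hb⟩ : P₂) ⟨d, hd⟩)
    exact ((h1.mul_right h2).mul_left (h3.mul_right h4)).eq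
  · set R : Type u := ↥(S : Subgroup G)
    set E : Subgroup R := A.subgroupOf S
    have hE : Cfsg.IsElementaryAbelian p E :=
      PGroupsBasic.isElementaryAbelian_comap_injective hA (S : Subgroup G).subtype_injective
    have hE2 : Nat.card E = p ^ 2 := by
      rw [← hAc]; exact Nat.card_congr (subgroupOfEquivOfLe hAS).toEquiv
    have hEmax : ∀ B : Subgroup R, Cfsg.IsElementaryAbelian p B → E ≤ B → B = E := by
      intro B hB hEB
      refine le_antisymm (fun b hb => mem_of_centralizer hA hAc hr ?_ ?_) hEB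
      · exact mem_centralizer_iff.2 fun a ha => congrArg Subtype.val
          (PGroupsBasic.comm_of_isMulCommutative hB.1 (x := ⟨a, hAS ha⟩) (hEB ha) hb)
      · exact congrArg Subtype.val (hB.2 b hb)
    obtain ⟨hnT, -, -, hTc, hTi⟩ := Cfsg.Agent.S1453.result p hp2 S.isPGroup' hS E hE hE2 hEmax
    set T := centralizer ((closure {x : R | x ∈ Subgroup.upperCentralSeries R 2 ∧ x ^ p = 1} : Subgroup R) :
      Set R) with hT
    haveI : T.Characteristic := hTc
    haveI : T.Normal := inferInstance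
    obtain ⟨e, heE, heT⟩ := SetLike.not_le_iff_exists.1 hnT
    set U := T ⊓ centralizer (E : Set R) with hU
    have hmemE : ∀ z : R, z ∈ centralizer (E : Set R) → z ^ p = 1 → z ∈ E := by
      intro z hz hzp
      refine mem_of_centralizer hA hAc hr ?_ (congrArg Subtype.val hzp)
      exact mem_centralizer_iff.2 fun a ha =>
        congrArg Subtype.val (mem_centralizer_iff.1 hz ⟨a, hAS ha⟩ ha)
    have hUc : IsCyclic (U.map (S : Subgroup G).subtype) := by
      by_contra hnc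
      obtain ⟨B, hBU, hB, hBc⟩ := exists_elementary_sq_of_noncyclic hG
        ((S.isPGroup'.to_subgroup U).map (S : Subgroup G).subtype) hnc
      have hBT : B ≤ (E ⊓ T).map (S : Subgroup G).subtype := by
        intro b hb
        obtain ⟨z, hz, rfl⟩ := hBU hb
        exact ⟨z, ⟨hmemE z hz.2 (Subtype.ext (hB.2 _ hb)), hz.1⟩, rfl⟩
      have h1 := card_le_of_le hBT
      rw [card_map_of_injective (S : Subgroup G).subtype_injective, hBc] at h1
      have h2 : Nat.card ↥(E ⊓ T) < Nat.card E := by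
        refine lt_of_le_of_ne (card_le_of_le inf_le_left) fun h => heT ?_
        exact ((eq_of_le_of_card_ge inf_le_left h.ge).ge heE).2
      exact absurd (h1.trans_lt (h2.trans_eq hE2)) (lt_irrefl _)
    have key : ∀ z : R, z ∈ centralizer (E : Set R) → ∃ i : ℤ, e ^ i * z ∈ U := by
      intro z hz
      have hq : Nat.card (R ⧸ T) = p := hTi
      have hne : (QuotientGroup.mk e : R ⧸ T) ≠ 1 := fun h => heT ((QuotientGroup.eq_one_iff e).1 h)
      have htop := zpowers_eq_top_of_prime_card hq hne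
      obtain ⟨i, hi⟩ := mem_zpowers_iff.1 (htop.ge (mem_top (QuotientGroup.mk z : R ⧸ T)))
      refine ⟨-i, Subgroup.mem_inf.2 ⟨?_, mul_mem (zpow_mem ?_ _) hz⟩⟩
      · rw [← QuotientGroup.eq_one_iff, QuotientGroup.mk_mul, QuotientGroup.mk_zpow, zpow_neg, hi,
          inv_mul_cancel]
      · exact PGroupsBasic.le_centralizer_of_isMulCommutative hE.1 heE
    have hUcomm : ∀ u ∈ U, ∀ v ∈ U, Commute u v := by
      intro u hu v hv
      haveI := hUc
      letI := IsCyclic.commGroup (α := U.map (S : Subgroup G).subtype)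
      exact Subtype.ext (congrArg (fun w : ↥(U.map (S : Subgroup G).subtype) => (w : G)) (mul_comm
        (⟨u, u, hu, rfl⟩ : U.map (S : Subgroup G).subtype) ⟨v, v, hv, rfl⟩))
    have hcen : ∀ z : G, z ∈ centralizer (A : Set G) → ∀ hz : z ∈ (S : Subgroup G),
        (⟨z, hz⟩ : R) ∈ centralizer (E : Set R) := fun z h hz =>
      mem_centralizer_iff.2 fun a ha => Subtype.ext (mem_centralizer_iff.1 h (a : G) ha)
    obtain ⟨i, hi⟩ := key ⟨x, hPS hx⟩ (hcen x hxA (hPS hx))
    obtain ⟨j, hj⟩ := key ⟨y, hPS hy⟩ (hcen y hyA (hPS hy))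
    have hce : ∀ u ∈ U, Commute e u := fun u hu => mem_centralizer_iff.1 hu.2 e heE
    obtain ⟨x', hx'⟩ : ∃ x' : R, x' = ⟨x, hPS hx⟩ := ⟨_, rfl⟩
    obtain ⟨y', hy'⟩ : ∃ y' : R, y' = ⟨y, hPS hy⟩ := ⟨_, rfl⟩
    rw [← hx'] at hi
    rw [← hy'] at hj
    have h5 : Commute (e ^ (-i) * (e ^ i * x')) (e ^ (-j) * (e ^ j * y')) :=
      ((((Commute.refl e).zpow_zpow (-i) (-j))).mul_right ((hce _ hj).zpow_left (-i))).mul_left
        ((((hce _ hi).zpow_left (-j)).symm).mul_right (hUcomm _ hi _ hj))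
    simp only [← mul_assoc, ← zpow_add, neg_add_cancel, zpow_zero, one_mul] at h5
    rw [hx', hy'] at h5
    exact congrArg Subtype.val h5.eq

omit hr

variable {M : Subgroup G} (hM : IsCoatom M) (hpM : p ∉ Cfsg.sigma M) (hAM : A ≤ M)
  (hCA : centralizer (A : Set G) ≤ M)
include hM hpM hAM hCA

/-- BG 11.2 (a): a conjugate of `M` containing `A` meets `M_σ` trivially. -/
theorem sigmaCore_inf_conj {g : G} (hg : g ∉ M) (hAg : A ≤ MulAut.conj g • M) :
    Cfsg.sigmaCore M ⊓ MulAut.conj g • M = ⊥ := by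
  have hr := centralizer_rank hG hM hpM hAM hA hAc
  have hAp := PGroupsBasic.isPGroup_of_isElementaryAbelian hA
  set X := Cfsg.sigmaCore M ⊓ MulAut.conj g • M with hX
  by_contra hne
  haveI := isSolvable_of_ne_top hG hM.1
  have hXσ : X ≤ Cfsg.sigmaCore M := inf_le_left
  have hAX : A ≤ normalizer (X : Set G) := CoprimeAction.le_normalizer_inf
    (hAM.trans (le_normalizer_sigmaCore M)) (hAg.trans le_normalizer)
  have hcopσ := coprime_sigmaCore hG hM hp.out hpM hAp
  haveI hsσ : Group.IsSolvable (Cfsg.sigmaCore M) :=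
    CoprimeAction.isSolvable_of_le (sigmaCore_le M)
  haveI hsX : Group.IsSolvable X := CoprimeAction.isSolvable_of_le hXσ
  have hcX := CoprimeAction.coprime_of_le_right hXσ hcopσ
  obtain ⟨q, hq, hqX⟩ := Nat.exists_prime_and_dvd (fun h => hne (eq_bot_of_card_eq X h))
  haveI := Fact.mk hq
  have hqσ := sigma_of_dvd hG hM hq (hqX.trans (card_dvd_of_le hXσ))
  obtain ⟨Y₀, hAY⟩ := CoprimeAction.exists_invariant_sylow hAX hcX (Or.inr hsX) q
  set Y := (Y₀ : Subgroup X).map X.subtype with hY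
  have hYp : IsPGroup q Y := Y₀.isPGroup'.map _
  have hYne : Y ≠ ⊥ := fun h =>
    Y₀.ne_bot_of_dvd_card hqX ((map_eq_bot_iff_of_injective _ X.subtype_injective).1 h)
  have hYX : Y ≤ X := map_subtype_le _
  obtain ⟨S₁, hYQ₁, hAQ₁⟩ := CoprimeAction.exists_invariant_sylow_ge
    (hAM.trans (le_normalizer_sigmaCore M)) hcopσ (Or.inr hsσ) (hYX.trans hXσ) hYp hAY
  have hQ₁M := sylow_sigmaCore hG hM hqσ S₁
  set Q₁ := (S₁ : Subgroup ↥(Cfsg.sigmaCore M)).map (Cfsg.sigmaCore M).subtype with hQ₁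
  set K := MulAut.conj g • Cfsg.sigmaCore M with hK
  have hAK : A ≤ normalizer (K : Set G) := by
    rw [hK, BGTypeBasic.conj_smul_normalizer]
    exact hAg.trans (pointwise_smul_le_pointwise_smul_iff.2 (le_normalizer_sigmaCore M))
  have hcK : (Nat.card A).Coprime (Nat.card K) := by rwa [hK, CoprimeSZ.card_conj_smul]
  have hsA : Group.IsSolvable A := CoprimeAction.isSolvable_of_isPGroup hAp
  have hYg : MulAut.conj g⁻¹ • Y ≤ M := by
    rw [map_inv]
    exact pointwise_smul_subset_iff.2 (by rw [inv_inv]; exact hYX.trans inf_le_right)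
  have hYK : Y ≤ K := by
    rw [hK, subset_pointwise_smul_iff, ← map_inv]
    exact pgroup_le_sigmaCore hG hM hqσ (hYp.map _) hYg
  obtain ⟨S₂, hYQ₂, hAQ₂⟩ := CoprimeAction.exists_invariant_sylow_ge hAK hcK (Or.inl hsA) hYK hYp hAY
  have hQ₂K := isMaxP_sylow K S₂
  set Q₂ := (S₂ : Subgroup K).map K.subtype with hQ₂
  have hQ₂top : IsMaxP q Q₂ ⊤ := by
    have h1 := isMaxP_conj g⁻¹ hQ₂K
    rw [hK, map_inv, inv_smul_smul] at h1
    obtain ⟨S, hS⟩ := h1.exists_sylow
    have h2 := isMaxP_top_of_sigma hqσ (sylow_sigmaCore hG hM hqσ S)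
    rw [hS] at h2
    have h3 := isMaxP_conj g h2
    rw [smul_inv_smul] at h3
    exact ⟨le_top, h3.isPGroup, fun R hR _ hRp => h3.eq_of_le R hR
      (fun r _ => mem_pointwise_smul_iff_inv_smul_mem.2 (mem_top _)) hRp⟩
  have hQ₁top := isMaxP_top_of_sigma hqσ hQ₁M
  have hmem : ∀ Q : Subgroup G, IsMaxP q Q ⊤ → A ≤ normalizer (Q : Set G) →
      Q ∈ BGTransitivity.maxInv A q := fun Q hQ hQA =>
    ⟨⟨le_top, BGTransitivity.piNat_singleton_iff_isPGroup.2 hQ.isPGroup, hQA⟩, fun R hR hle =>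
      hQ.eq_of_le R hle le_top (BGTransitivity.piNat_singleton_iff_isPGroup.1 hR.2.1)⟩
  have hqA : ¬ q ∣ Nat.card A := by
    rw [hAc]
    exact fun h => hpM ((Nat.prime_dvd_prime_iff_eq hq hp.out).1 (hq.dvd_of_dvd_pow h) ▸ hqσ)
  have hYne' : Y ≠ ⊤ := BGTransitivity.qgroup_ne_top hG hYp
  obtain ⟨k, hk, hQ₂eq⟩ := BGTransitivity.conj_of_meet hG (transitivityHypothesis hG hA hAc hr) hqA
    (hmem Q₁ hQ₁top hAQ₁) (hmem Q₂ hQ₂top hAQ₂) (BGTransitivity.normalizer_ne_top hG hYne hYne') hAY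
    (fun h => hYne (le_bot_iff.1 (h ▸ le_inf le_normalizer hYQ₁)))
    (fun h => hYne (le_bot_iff.1 (h ▸ le_inf le_normalizer hYQ₂)))
  have hkM : k ∈ M := hCA (BGTransitivity.piCoreOf_le _ _ hk)
  have hQ₂M : Q₂ ≤ M := hQ₂eq ▸ CoprimeSZ.conj_smul_le_of_mem hQ₁M.le hkM
  have hQ₂g : MulAut.conj g⁻¹ • Q₂ ≤ M := by
    rw [map_inv]
    refine pointwise_smul_subset_iff.2 ?_
    rw [inv_inv]
    exact hQ₂K.le.trans (pointwise_smul_le_pointwise_smul_iff.2 (sigmaCore_le M))
  have hQ₂ne : Q₂ ≠ ⊥ := fun h => hYne (le_bot_iff.1 (h ▸ hYQ₂))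
  obtain ⟨m, hm, c, hc, hgc⟩ := fusion hG hM hqσ hQ₂top.isPGroup hQ₂ne hQ₂M hQ₂g
  have hcM : c ∈ M := by
    have h1 : c ∈ normalizer (Q₂ : Set G) := centralizer_le_normalizer _ hc
    rw [hQ₂eq, BGTypeBasic.conj_smul_normalizer] at h1
    exact CoprimeSZ.conj_smul_le_of_mem (normalizer_le_of_sigma hqσ hQ₁M) hkM h1
  exact hg (inv_mem_iff.1 (hgc ▸ mul_mem hm hcM))

/-- BG 11.2 (b). -/
theorem sigmaCore_inf_centralizer {A₀ : Subgroup G} (hN : normalizer (A₀ : Set G) ≤ M) {g : G}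
    (hg : g ∉ M) (hAg : A ≤ MulAut.conj g • M) :
    Cfsg.sigmaCore M ⊓ centralizer ((MulAut.conj g • A₀ : Subgroup G) : Set G) = ⊥ := by
  rw [← le_bot_iff, ← sigmaCore_inf_conj hG hA hAc hM hpM hAM hCA hg hAg]
  refine inf_le_inf_left _ ((centralizer_le_normalizer _).trans ?_)
  rw [BGTypeBasic.conj_smul_normalizer]
  exact pointwise_smul_le_pointwise_smul_iff.2 hN

end Cfsg.Agent.BGExc
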