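import Cfsg.Agent.Lib.BGSigmaPrime
import Cfsg.Agent.Lib.FrobeniusNilpotent

/-!
Exceptional maximal subgroups (Bender-Glauberman, section 11).
-/

set_option autoImplicit false
set_option linter.style.haveILetI false

namespace Cfsg.Agent.BGExceptional

open Subgroup
open Cfsg.Agent.BGUnique
open Cfsg.Agent.BGTransitivity
open Cfsg.Agent.BGSigma
open scoped commutatorElement Pointwise

universe u

variable {G : Type u} [Group G] [Finite G]

/-- Hypothesis 11.1: `p` outside `σ(M)`, `A` of order `p²` in `M`, and a line `A₀` of `A` whose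
normalizer lies in `M`. -/
structure Hyp (p : ℕ) (M A A₀ : Subgroup G) : Prop where
  simple : Cfsg.IsMinSimpleOddOrder G
  coatom : IsCoatom M
  not_sigma : p ∉ Cfsg.sigma M
  le_M : A ≤ M
  elem : Cfsg.IsElementaryAbelian p A
  card_A : Nat.card A = p ^ 2
  line_le : A₀ ≤ A
  card_line : Nat.card A₀ = p
  normalizer_line : normalizer (A₀ : Set G) ≤ M

omit [Finite G] in
theorem smul_centralizer_le {g : G} {X : Subgroup G} :
    MulAut.conj g • centralizer (X : Set G) = centralizer ((MulAut.conj g • X : Subgroup G) : Set G) := by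
  ext x
  rw [mem_pointwise_smul_iff_inv_smul_mem, mem_centralizer_iff, mem_centralizer_iff]
  refine ⟨fun h y hy => ?_, fun h y hy => ?_⟩
  · obtain ⟨z, hz, rfl⟩ := hy
    have := h z hz
    simp only [← map_inv, MulAut.smul_def, MulAut.conj_apply, inv_inv] at this ⊢
    show (g * z * g⁻¹) * x = x * (g * z * g⁻¹)
    calc g * z * g⁻¹ * x = g * (z * (g⁻¹ * x * g)) * g⁻¹ := by group
      _ = g * ((g⁻¹ * x * g) * z) * g⁻¹ := by rw [this]
      _ = x * (g * z * g⁻¹) := by group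
  · have := h (g * y * g⁻¹) ⟨y, hy, rfl⟩
    simp only [← map_inv, MulAut.smul_def, MulAut.conj_apply, inv_inv]
    calc y * (g⁻¹ * x * g) = g⁻¹ * ((g * y * g⁻¹) * x) * g := by group
      _ = g⁻¹ * (x * (g * y * g⁻¹)) * g := by rw [this]
      _ = g⁻¹ * x * g * y := by group

theorem maxInv_of_sylow_top {q : ℕ} [Fact q.Prime] {B Q : Subgroup G} (hQ : IsMaxP q Q ⊤)
    (hBQ : B ≤ normalizer (Q : Set G)) : Q ∈ maxInv B q :=
  ⟨⟨le_top, piNat_of_isPGroup hQ.isPGroup rfl, hBQ⟩, fun _ hR hle =>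
    hQ.eq_of_le _ hle le_top (piNat_singleton_iff_isPGroup.1 hR.2.1)⟩

theorem inf_centralizer_mono {X Y Z : Subgroup G} (h : Y ≤ Z) :
    X ⊓ centralizer (Z : Set G) ≤ X ⊓ centralizer (Y : Set G) :=
  inf_le_inf_left X (centralizer_le h)

section maximal

variable (hG : Cfsg.IsMinSimpleOddOrder G) {M : Subgroup G} (hM : IsCoatom M)
include hG hM

theorem le_sigmaCore {X : Subgroup G} (hXM : X ≤ M)
    (hX : ∀ r : ℕ, r.Prime → r ∣ Nat.card X → r ∈ Cfsg.sigma M) : X ≤ Cfsg.sigmaCore M := by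
  rw [← map_subgroupOf_eq_of_le hXM]
  refine map_mono (le_of_prime_not_dvd fun s hs hd hdi => ?_)
  refine (hall_sigma hG hM).1.2.2 s hs (hX s hs (hd.trans (HallCore.card_subgroupOf_dvd _ _))) ?_
  rwa [relIndex, Cfsg.sigmaCore, subgroupOf_map_subtype_self]

theorem isMaxP_of_sigmaCore {q : ℕ} [Fact q.Prime] (hq : q ∈ Cfsg.sigma M) {Q : Subgroup G}
    (hQ : IsMaxP q Q (Cfsg.sigmaCore M)) : IsMaxP q Q M := by
  refine ⟨hQ.le.trans (map_subtype_le _), hQ.isPGroup, fun T hQT hTM hT => ?_⟩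
  exact hQ.eq_of_le T hQT (le_sigmaCore hG hM hTM (piNat_of_isPGroup hT hq)) hT

theorem coprime_sigmaCore {X : Subgroup G}
    (hX : ∀ r : ℕ, r.Prime → r ∣ Nat.card X → r ∉ Cfsg.sigma M) :
    (Nat.card X).Coprime (Nat.card (Cfsg.sigmaCore M)) :=
  Nat.coprime_of_dvd fun r hr h1 h2 => hX r hr h1 ((hall_sigma hG hM).1.2.1 r hr h2)

theorem isSolvable_sigmaCore : Group.IsSolvable (Cfsg.sigmaCore M) :=
  isSolvable_of_ne_top hG fun h => hM.1 (top_le_iff.1 (h ▸ map_subtype_le _))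

theorem exists_invariant_sylow_sigmaCore {q : ℕ} [Fact q.Prime] (hq : q ∈ Cfsg.sigma M)
    {B X : Subgroup G} (hBM : B ≤ M) (hB : ∀ r : ℕ, r.Prime → r ∣ Nat.card B → r ∉ Cfsg.sigma M)
    (hX : IsPGroup q X) (hXM : X ≤ M) (hBX : B ≤ normalizer (X : Set G)) :
    ∃ Q : Subgroup G, X ≤ Q ∧ B ≤ normalizer (Q : Set G) ∧ IsMaxP q Q M ∧ IsMaxP q Q ⊤ := by
  obtain ⟨S, hXS, hBS⟩ := CoprimeAction.exists_invariant_sylow_ge (p := q)
    (hBM.trans (le_normalizer_core _ M)) (coprime_sigmaCore hG hM hB)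
    (Or.inr (isSolvable_sigmaCore hG hM)) (le_sigmaCore hG hM hXM (piNat_of_isPGroup hX hq)) hX hBX
  have hmax := isMaxP_of_sigmaCore hG hM hq (isMaxP_sylow _ S)
  exact ⟨_, hXS, hBS, hmax, isMaxP_top_of_sigma hq hmax⟩

end maximal

variable {p : ℕ} [hp : Fact p.Prime] {M A A₀ : Subgroup G}

theorem Hyp.sigma' (h : Hyp p M A A₀) {X : Subgroup G} (hX : IsPGroup p X) :
    ∀ r : ℕ, r.Prime → r ∣ Nat.card X → r ∉ Cfsg.sigma M := fun r hr hd hrσ => by
  rw [(piNat_of_isPGroup (π := {p}) hX rfl r hr hd : r = p)] at hrσ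
  exact h.not_sigma hrσ

theorem Hyp.isPGroup (h : Hyp p M A A₀) : IsPGroup p A :=
  PGroupsBasic.isPGroup_of_isElementaryAbelian h.elem

theorem Hyp.maximal (h : Hyp p M A A₀) :
    ∀ B : Subgroup G, Cfsg.IsElementaryAbelian p B → A ≤ B → B = A :=
  fun _ hB hle => maximal_of_rank_two h.simple h.coatom h.not_sigma h.le_M h.elem h.card_A hB hle

theorem Hyp.not_dvd (h : Hyp p M A A₀) {q : ℕ} (hq : q.Prime) (hqp : q ≠ p) :
    ¬ q ∣ Nat.card A := fun hd =>
  hqp ((Nat.prime_dvd_prime_iff_eq hq hp.out).1 (hq.dvd_of_dvd_pow (h.card_A ▸ hd)))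

theorem Hyp.transitivity (h : Hyp p M A A₀) : Cfsg.TransitivityHypothesis A := by
  refine transitivity_of_maximal h.simple h.elem ?_ h.maximal
  intro h0
  have := h.card_A
  rw [h0, card_bot] at this
  exact (Nat.one_lt_pow two_ne_zero hp.out.one_lt).ne this

theorem Hyp.not_isCyclic (h : Hyp p M A A₀) : ¬ IsCyclic A :=
  not_isCyclic_of_sq_le h.elem h.card_A.ge

theorem Hyp.centralizer_le (h : Hyp p M A A₀) : centralizer (A : Set G) ≤ M :=
  (Subgroup.centralizer_le h.line_le).trans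
    ((centralizer_le_normalizer _).trans h.normalizer_line)

theorem Hyp.centCore_le (h : Hyp p M A A₀) : centCore A ≤ M :=
  (piCoreOf_le _ _).trans h.centralizer_le

/-- BG 11.2: no element of `C(A)` has a sigma prime order. -/
theorem Hyp.not_dvd_centralizer (h : Hyp p M A A₀) {q : ℕ} [hq : Fact q.Prime]
    (hq' : q ∈ Cfsg.sigma M) : ¬ q ∣ Nat.card (centralizer (A : Set G)) := by
  intro hqC
  have hqp : q ≠ p := fun he => h.not_sigma (he ▸ hq')
  obtain ⟨Q, -, hAQ, hQM, hQtop⟩ := exists_invariant_sylow_sigmaCore h.simple h.coatom hq' h.le_M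
    (h.sigma' h.isPGroup) (IsPGroup.of_bot (G := G)) bot_le
    (fun x _ => mem_normalizer_iff.2 fun y => by simp)
  obtain ⟨P, hAP, -, hPd, hN⟩ := max_normed_signaliser h.simple hqp h.elem h.card_A h.maximal hqC
    (maxInv_of_sylow_top hQtop hAQ)
  have hNQ := normalizer_le_of_sigma hq' hQM
  have hPM : (P : Subgroup G) ≤ M :=
    (hPd.trans (commutator_mono hNQ hNQ)).trans (commutator_le_self M)
  have hNP : normalizer ((P : Subgroup G) : Set G) ≤ M := by
    rw [hN]
    exact sup_le ((piCoreOf_le _ _).trans ((Subgroup.centralizer_le hAP).trans h.centralizer_le))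
      (inf_le_right.trans hNQ)
  obtain ⟨S, hS⟩ := IsMaxP.exists_sylow
    (⟨hPM, P.isPGroup', fun T hPT _ hT => P.is_maximal' hT hPT⟩ : IsMaxP p (P : Subgroup G) M)
  refine h.not_sigma ⟨hp.out, ?_, S, hS ▸ hNP⟩
  exact ((h.card_A ▸ dvd_pow_self p two_ne_zero : p ∣ Nat.card A)).trans (card_dvd_of_le h.le_M)

theorem Hyp.sigmaCore_inf_centralizer (h : Hyp p M A A₀) :
    Cfsg.sigmaCore M ⊓ centralizer (A : Set G) = ⊥ := by
  by_contra hne
  obtain ⟨q, hq, hd⟩ := Nat.exists_prime_and_dvd (fun h1 => hne (eq_bot_of_card_eq _ h1))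
  haveI := Fact.mk hq
  exact h.not_dvd_centralizer
    ((hall_sigma h.simple h.coatom).1.2.1 q hq (hd.trans (card_dvd_of_le inf_le_left)))
    (hd.trans (card_dvd_of_le inf_le_right))

/-- BG 11.1: `M_σ` meets the other conjugates of `M` containing `A` trivially. -/
theorem Hyp.sigmaCore_inf_conj (h : Hyp p M A A₀) {g : G} (hg : g ∉ M)
    (hA : A ≤ MulAut.conj g • M) : Cfsg.sigmaCore M ⊓ MulAut.conj g • M = ⊥ := by
  by_contra hne
  set D := Cfsg.sigmaCore M ⊓ MulAut.conj g • M with hD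
  obtain ⟨q, hq, hd⟩ := Nat.exists_prime_and_dvd (fun h1 => hne (eq_bot_of_card_eq _ h1))
  haveI := Fact.mk hq
  have hqσ := (hall_sigma h.simple h.coatom).1.2.1 q hq (hd.trans (card_dvd_of_le inf_le_left))
  have hqp : q ≠ p := fun he => h.not_sigma (he ▸ hqσ)
  have hDM : D ≤ M := inf_le_left.trans (map_subtype_le _)
  have hAD : A ≤ normalizer (D : Set G) :=
    CoprimeAction.le_normalizer_inf (h.le_M.trans (le_normalizer_core _ M)) (hA.trans le_normalizer)
  have hcop : (Nat.card A).Coprime (Nat.card D) :=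
    (coprime_sigmaCore h.simple h.coatom (h.sigma' h.isPGroup)).coprime_dvd_right
      (card_dvd_of_le inf_le_left)
  haveI : Group.IsSolvable D := isSolvable_of_ne_top h.simple
    fun he => h.coatom.1 (top_le_iff.1 (he ▸ hDM))
  obtain ⟨S, hAS⟩ := CoprimeAction.exists_invariant_sylow (p := q) hAD hcop (Or.inr inferInstance)
  set X := (S : Subgroup D).map D.subtype with hX
  have hXp : IsPGroup q X := S.isPGroup'.map _
  have hX1 : X ≠ ⊥ := fun he => S.ne_bot_of_dvd_card hd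
    ((map_eq_bot_iff_of_injective _ D.subtype_injective).1 he)
  have hXD : X ≤ D := map_subtype_le _
  obtain ⟨Q, hXQ, hAQ, hQM, hQtop⟩ := exists_invariant_sylow_sigmaCore h.simple h.coatom hqσ h.le_M
    (h.sigma' h.isPGroup) hXp (hXD.trans hDM) hAS
  -- the same inside `g • M`
  obtain ⟨Q', hXQ', hAQ', hQ'M, hQ'top⟩ : ∃ Q' : Subgroup G, MulAut.conj g⁻¹ • X ≤ Q' ∧
      MulAut.conj g⁻¹ • A ≤ normalizer (Q' : Set G) ∧ IsMaxP q Q' M ∧ IsMaxP q Q' ⊤ := by
    refine exists_invariant_sylow_sigmaCore h.simple h.coatom hqσ ?_ ?_ (hXp.map _) ?_ ?_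
    · rw [map_inv]; exact subset_pointwise_smul_iff.1 hA
    · exact h.sigma' (h.isPGroup.map _)
    · rw [map_inv]; exact subset_pointwise_smul_iff.1 (hXD.trans inf_le_right)
    · exact (pointwise_smul_le_pointwise_smul_iff.2 hAS).trans (le_normalizer_map _)
  have hQ'top' : IsMaxP q (MulAut.conj g • Q') ⊤ := by
    have h1 := isMaxP_conj g hQ'top
    exact ⟨le_top, h1.isPGroup, fun R hR _ hRp => h1.eq_of_le R hR
      (fun r _ => mem_pointwise_smul_iff_inv_smul_mem.2 (mem_top _)) hRp⟩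
  have hAgQ : A ≤ normalizer ((MulAut.conj g • Q' : Subgroup G) : Set G) := by
    refine le_trans ?_ (le_normalizer_map (MulAut.conj g).toMonoidHom)
    refine le_trans (le_of_eq ?_) (pointwise_smul_le_pointwise_smul_iff (a := MulAut.conj g).2 hAQ')
    rw [← mul_smul, ← map_mul, mul_inv_cancel, map_one, one_smul]
  have hXgQ : X ≤ MulAut.conj g • Q' := by
    refine le_trans (le_of_eq ?_) (pointwise_smul_le_pointwise_smul_iff (a := MulAut.conj g).2 hXQ')
    rw [← mul_smul, ← map_mul, mul_inv_cancel, map_one, one_smul]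
  obtain ⟨k, hk, hkQ⟩ := maxInv_conj_of_inf h.simple h.transitivity (h.not_dvd hq hqp)
    (Nat.card G) Q (MulAut.conj g • Q') (maxInv_of_sylow_top hQtop hAQ)
    (maxInv_of_sylow_top hQ'top' hAgQ) (ne_bot_of_le_ne_bot hX1 (le_inf hXQ hXgQ))
    (Nat.le_add_left _ _)
  have hle : MulAut.conj g • Q' ≤ M := by
    rw [hkQ]
    exact (pointwise_smul_le_pointwise_smul_iff.2 hQM.le).trans
      (conj_le_normalizer (le_normalizer (h.centCore_le hk))).le
  have hQ'1 : Q' ≠ ⊥ := by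
    intro he
    rw [he, Subgroup.smul_bot, le_bot_iff] at hXgQ
    exact hX1 hXgQ
  obtain ⟨m, hm, c, hc, rfl⟩ := fusion h.simple h.coatom hqσ hQ'M.isPGroup hQ'1 hQ'M.le hle
  exact hg (mul_mem hm (normalizer_le_of_sigma hqσ hQ'M (centralizer_le_normalizer _ hc)))

theorem Hyp.fpf_conj (h : Hyp p M A A₀) {g : G} (hg : g ∉ M) (hA : A ≤ MulAut.conj g • M) :
    Cfsg.sigmaCore M ⊓ centralizer ((MulAut.conj g • A₀ : Subgroup G) : Set G) = ⊥ := by
  rw [← le_bot_iff, ← h.sigmaCore_inf_conj hg hA]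
  refine inf_le_inf_left _ ?_
  rw [← smul_centralizer_le]
  exact pointwise_smul_le_pointwise_smul_iff.2
    ((centralizer_le_normalizer _).trans h.normalizer_line)

theorem Hyp.exists_moving (h : Hyp p M A A₀) {P : Subgroup G} (hP : IsMaxP p P M) :
    ∃ g : G, g ∈ normalizer (P : Set G) ∧ g ∉ M := by
  obtain ⟨S, rfl⟩ := hP.exists_sylow
  by_contra hall
  push Not at hall
  exact h.not_sigma ⟨hp.out, (h.card_A ▸ dvd_pow_self p two_ne_zero : p ∣ Nat.card A).trans
    (card_dvd_of_le h.le_M), S, hall⟩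

omit [Finite G] hp in
theorem conj_le_of_mem_normalizer {g : G} {P X : Subgroup G} (hg : g ∈ normalizer (P : Set G))
    (hXP : X ≤ P) : MulAut.conj g • X ≤ P :=
  (pointwise_smul_le_pointwise_smul_iff.2 hXP).trans (conj_le_normalizer hg).le

/-- For `g` normalizing a Sylow subgroup over `A`, not in `M`: `g • A₀` is fixed-point-free on `M_σ`. -/
theorem Hyp.fpf_of_normalizer (h : Hyp p M A A₀) {P : Subgroup G} (hP : IsMaxP p P M) (hAP : A ≤ P)
    {g : G} (hg : g ∈ normalizer (P : Set G)) (hgM : g ∉ M) :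
    MulAut.conj g • A₀ ≤ M ∧
      Cfsg.sigmaCore M ⊓ centralizer ((MulAut.conj g • A₀ : Subgroup G) : Set G) = ⊥ := by
  refine ⟨(conj_le_of_mem_normalizer hg (h.line_le.trans hAP)).trans hP.le, h.fpf_conj hgM ?_⟩
  refine hAP.trans ((conj_le_normalizer hg).ge.trans ?_)
  exact pointwise_smul_le_pointwise_smul_iff.2 hP.le

omit hp in
theorem fixed_point_free_of_line {q : ℕ} [hq : Fact q.Prime] {L K : Subgroup G}
    (hL : Nat.card L = q) (hfix : K ⊓ centralizer (L : Set G) = ⊥) {a : G} (ha : a ∈ L) (ha1 : a ≠ 1) :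
    K ⊓ centralizer ({a} : Set G) = ⊥ := by
  have hgen : zpowers a = L := eq_of_le_of_card_ge (zpowers_le.2 ha) (by
    rw [Nat.card_zpowers, PGroupsBasic.orderOf_eq_of_pow_eq_one
      (PGroupsBasic.pow_eq_one_of_card hL ha) ha1, hL])
  rw [← hfix, ← hgen, zpowers_eq_closure, centralizer_closure]

/-- BG 11.3. -/
theorem Hyp.nilpotent (h : Hyp p M A A₀) : Group.IsNilpotent (Cfsg.sigmaCore M) := by
  obtain ⟨P, hP, hAP⟩ := exists_isMaxP_ge h.isPGroup h.le_M
  obtain ⟨g, hg, hgM⟩ := h.exists_moving hP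
  obtain ⟨hle, hfix⟩ := h.fpf_of_normalizer hP hAP hg hgM
  set L := MulAut.conj g • A₀ with hL
  have hLc : Nat.card L = p := by rw [hL, CoprimeSZ.card_conj_smul, h.card_line]
  have hL1 : L ≠ ⊥ := fun he => hp.out.one_lt.ne (by rw [← hLc, he, card_bot])
  obtain ⟨a, ha, ha1⟩ := L.bot_or_exists_ne_one.resolve_left hL1
  set K := Cfsg.sigmaCore M with hK
  have hN : a ∈ normalizer (K : Set G) := le_normalizer_core _ M (hle ha)
  haveI : (K.subgroupOf (normalizer (K : Set G))).Normal := normal_in_normalizer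
  haveI hnil : Group.IsNilpotent (K.subgroupOf (normalizer (K : Set G))) := by
    refine FrobeniusNilpotent.isNilpotent_of_complement
      (H := zpowers (⟨a, hN⟩ : normalizer (K : Set G))) ?_ fun b hb hb1 => ?_
    · exact fun he => ha1 (congrArg Subtype.val (zpowers_eq_bot.1 he))
    · have hbL : (b : G) ∈ L := by
        obtain ⟨i, rfl⟩ := mem_zpowers_iff.1 hb
        rw [SubgroupClass.coe_zpow]
        exact L.zpow_mem ha i
      rw [eq_bot_iff]
      intro x hx
      have hx' : (x : G) ∈ K ⊓ centralizer ({(b : G)} : Set G) :=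
        ⟨hx.1, mem_centralizer_singleton_iff.2
          (congrArg Subtype.val (mem_centralizer_singleton_iff.1 hx.2))⟩
      rw [fixed_point_free_of_line hLc hfix hbL (fun he => hb1 (Subtype.ext he)), mem_bot] at hx'
      exact Subtype.ext hx'
  exact nilpotent_of_mulEquiv (subgroupOfEquivOfLe (le_normalizer (H := K)))

end Cfsg.Agent.BGExceptional
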