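import Cfsg.Agent.Lib.BGExceptionalSylow
import Cfsg.Agent.Lib.BGNarrowAction
import Cfsg.Agent.S1443

/-!
Exceptional maximal subgroups: `A = Ω₁(P)` and `M_σ A` is normal in `M` (Bender-Glauberman
11.6 and 11.7).
-/

set_option autoImplicit false
set_option linter.style.haveILetI false

namespace Cfsg.Agent.BGExceptional

open Subgroup
open Cfsg.Agent.BGUnique
open Cfsg.Agent.BGTransitivity
open Cfsg.Agent.BGSigma
open scoped commutatorElement Pointwise

universe u

variable {G : Type u} [Group G] [Finite G] {p : ℕ} [hp : Fact p.Prime] {M A A₀ : Subgroup G}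

/-- BG 11.6 (a): `A = Ω₁(P)`. -/
theorem Hyp.mem_of_pow_eq_one (h : Hyp p M A A₀) {P : Subgroup G} (hP : IsMaxP p P M) (hAP : A ≤ P)
    {x : G} (hx : x ∈ P) (hxp : x ^ p = 1) : x ∈ A :=
  mem_of_commute_maximal h.elem h.maximal hxp fun _ ha =>
    PGroupsBasic.comm_of_isMulCommutative (h.sylow_abelian hP hAP) (hAP ha) hx

theorem Hyp.normalizer_sylow_le (h : Hyp p M A A₀) {P : Subgroup G} (hP : IsMaxP p P M)
    (hAP : A ≤ P) : normalizer (P : Set G) ≤ normalizer (A : Set G) :=
  CoprimeAction.le_normalizer_of_conj_mem fun g hg a ha => h.mem_of_pow_eq_one hP hAP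
    ((mem_normalizer_iff.1 hg a).1 (hAP ha)) (by rw [conj_pow, h.elem.2 a ha, mul_one, mul_inv_cancel])

/-- BG 11.6: the normalizer of `A` is not contained in `M`. -/
theorem Hyp.exists_moving_A (h : Hyp p M A A₀) : ∃ g : G, g ∈ normalizer (A : Set G) ∧ g ∉ M := by
  obtain ⟨P, hP, hAP⟩ := exists_isMaxP_ge h.isPGroup h.le_M
  obtain ⟨g, hg, hgM⟩ := h.exists_moving hP
  exact ⟨g, h.normalizer_sylow_le hP hAP hg, hgM⟩

/-- BG 11.6: two distinct lines of `A` without fixed points on `M_σ`. -/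
theorem Hyp.exists_fpf_lines (h : Hyp p M A A₀) :
    ∃ L₁ L₂ : Subgroup G, L₁ ≠ L₂ ∧ L₁ ≤ A ∧ L₂ ≤ A ∧ Nat.card L₁ = p ∧ Nat.card L₂ = p ∧
      Cfsg.sigmaCore M ⊓ centralizer (L₁ : Set G) = ⊥ ∧
      Cfsg.sigmaCore M ⊓ centralizer (L₂ : Set G) = ⊥ := by
  obtain ⟨P, hP, hAP⟩ := exists_isMaxP_ge h.isPGroup h.le_M
  obtain ⟨g, hg, hgM⟩ := h.exists_moving hP
  have hg2 : g * g ∉ M := by
    intro hh
    obtain ⟨k, hk⟩ := odd_card_subgroup h.simple (zpowers g)
    rw [Nat.card_zpowers] at hk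
    refine hgM ?_
    have h1 : (g * g) ^ (k + 1) = g := by
      rw [← sq, ← pow_mul, show 2 * (k + 1) = orderOf g + 1 by omega, pow_succ,
        pow_orderOf_eq_one, one_mul]
    exact h1 ▸ M.pow_mem hh _
  have hgg : g * g ∈ normalizer (P : Set G) := Subgroup.mul_mem _ hg hg
  refine ⟨MulAut.conj g • A₀, MulAut.conj (g * g) • A₀, ?_, ?_, ?_, ?_, ?_,
    (h.fpf_of_normalizer hP hAP hg hgM).2, (h.fpf_of_normalizer hP hAP hgg hg2).2⟩
  · intro he
    rw [map_mul, mul_smul] at he
    have h1 := smul_left_cancel _ he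
    exact hgM (h.normalizer_line (CoprimeAction.mem_normalizer_of_conj_smul_eq h1.symm))
  · exact conj_le_of_mem_normalizer (h.normalizer_sylow_le hP hAP hg) h.line_le
  · exact conj_le_of_mem_normalizer (h.normalizer_sylow_le hP hAP hgg) h.line_le
  · rw [CoprimeSZ.card_conj_smul, h.card_line]
  · rw [CoprimeSZ.card_conj_smul, h.card_line]

theorem Hyp.sup_of_lines (h : Hyp p M A A₀) {L₁ L₂ : Subgroup G} (hne : L₁ ≠ L₂) (h₁ : L₁ ≤ A)
    (h₂ : L₂ ≤ A) (hc₁ : Nat.card L₁ = p) (hc₂ : Nat.card L₂ = p) : A ≤ L₁ ⊔ L₂ := by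
  refine (eq_of_le_of_card_ge (sup_le h₁ h₂) ?_).ge
  obtain ⟨j, hj⟩ := IsPGroup.iff_card.1 (h.isPGroup.to_le (sup_le h₁ h₂))
  have hlt : Nat.card L₁ < Nat.card ↥(L₁ ⊔ L₂) :=
    lt_of_le_of_ne (card_le_of_le le_sup_left) fun he => by
      have he' := eq_of_le_of_card_ge le_sup_left he.ge
      exact hne (eq_of_le_of_card_ge (le_sup_right.trans he'.ge) (by rw [hc₁, hc₂])).symm
  rw [hc₁, hj, ← pow_one p] at hlt
  rw [h.card_A, hj]
  refine Nat.pow_le_pow_right hp.out.pos ?_
  have := (Nat.pow_lt_pow_iff_right hp.out.one_lt).1 (by simpa using hlt : p ^ 1 < p ^ j)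
  omega

/-- A line normalizing a group of `σ(M)'`-order without fixed points, and fixed-point-free on `M_σ`. -/
theorem Hyp.line_fpf_facts (h : Hyp p M A A₀) {L R : Subgroup G} (hLA : L ≤ A)
    (hL : Nat.card L = p) (hfix : Cfsg.sigmaCore M ⊓ centralizer (L : Set G) = ⊥) (hRM : R ≤ M)
    (hR : ∀ r : ℕ, r.Prime → r ∣ Nat.card R → r ∉ Cfsg.sigma M) (hLR : L ≤ normalizer (R : Set G))
    (hRfix : R ⊓ centralizer (L : Set G) = ⊥) : R ≤ centralizer (Cfsg.sigmaCore M : Set G) := by
  have hL1 : L ≠ ⊥ := fun he => hp.out.one_lt.ne (by rw [← hL, he, card_bot])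
  refine BGFrobeniusAct.le_centralizer hL1 hLR
    (fun r hr hr1 => fixed_point_free_of_line hL hRfix hr hr1)
    (hRM.trans (le_normalizer_core _ M)) ((hLA.trans h.le_M).trans (le_normalizer_core _ M))
    (coprime_sigmaCore h.simple h.coatom hR)
    (coprime_sigmaCore h.simple h.coatom (h.sigma' (h.isPGroup.to_le hLA)))
    (isSolvable_sigmaCore h.simple h.coatom) hfix

theorem Hyp.prime_sigma' (h : Hyp p M A A₀) {q : ℕ} [Fact q.Prime] (hqσ : q ∉ Cfsg.sigma M)
    {X : Subgroup G} (hX : IsPGroup q X) :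
    ∀ r : ℕ, r.Prime → r ∣ Nat.card X → r ∉ Cfsg.sigma M := fun r hr hd hrσ => by
  have := h.coatom
  rw [(piNat_of_isPGroup (π := {q}) hX rfl r hr hd : r = q)] at hrσ
  exact hqσ hrσ

/-- An `A`-invariant subgroup of prime order `q ∉ σ(M)` not centralized by `A`. -/
theorem Hyp.small (h : Hyp p M A A₀) {q : ℕ} [hq : Fact q.Prime] (hqp : q ≠ p)
    (hqσ : q ∉ Cfsg.sigma M) {X : Subgroup G} (hX : Nat.card X = q) (hXM : X ≤ M)
    (hAX : A ≤ normalizer (X : Set G)) (hXA : X ⊓ centralizer (A : Set G) = ⊥) :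
    X ≤ centralizer (Cfsg.sigmaCore M : Set G) ∧ X ≤ ⁅M, M⁆ ∧ M ≤ normalizer (X : Set G) ∧
      p ∣ q - 1 := by
  obtain ⟨L₁, L₂, hne, h₁, h₂, hc₁, hc₂, hf₁, hf₂⟩ := h.exists_fpf_lines
  have hXel := PGroupsBasic.isElementaryAbelian_of_card_eq_prime hX
  obtain ⟨L, hLA, hLc, hLf, hXL⟩ : ∃ L : Subgroup G, L ≤ A ∧ Nat.card L = p ∧
      Cfsg.sigmaCore M ⊓ centralizer (L : Set G) = ⊥ ∧ X ⊓ centralizer (L : Set G) = ⊥ := by
    rcases PGroupsBasic.le_or_inf_eq_bot hX (centralizer (L₁ : Set G)) with hX₁ | hX₁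
    · rcases PGroupsBasic.le_or_inf_eq_bot hX (centralizer (L₂ : Set G)) with hX₂ | hX₂
      · refine absurd ?_ (fun he : X = ⊥ => hq.out.one_lt.ne (by rw [← hX, he, card_bot]))
        rw [← le_bot_iff, ← hXA]
        exact le_inf le_rfl (le_centralizer_iff.1 ((h.sup_of_lines hne h₁ h₂ hc₁ hc₂).trans
          (sup_le (le_centralizer_iff.1 hX₁) (le_centralizer_iff.1 hX₂))))
      · exact ⟨L₂, h₂, hc₂, hf₂, hX₂⟩
    · exact ⟨L₁, h₁, hc₁, hf₁, hX₁⟩
  have hLX : L ≤ normalizer (X : Set G) := hLA.trans hAX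
  obtain ⟨hc, -, hn⟩ := commutator_sigma'_cyclic h.simple h.coatom hXM (hLA.trans h.le_M)
    (h.prime_sigma' hqσ (PGroupsBasic.isPGroup_of_isElementaryAbelian hXel)) h.not_sigma hLc hLX
    hXel.1 (fun hd => hqp
      ((Nat.prime_dvd_prime_iff_eq hp.out hq.out).1 (hX ▸ hd)).symm) hLf
  have heq : ⁅X, L⁆ = X := by
    have h1 := CoprimeAction.commutator_le_self_of_le_normalizer hLX
    refine (PGroupsBasic.le_or_inf_eq_bot hX ⁅X, L⁆).elim (le_antisymm h1) fun h2 => ?_
    rw [inf_eq_right.2 h1] at h2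
    have h3 : X ≤ centralizer (L : Set G) := commutator_eq_bot_iff_le_centralizer.1 h2
    rw [inf_eq_left.2 h3] at hXL
    exact absurd hXL fun he => hq.out.one_lt.ne (by rw [← hX, he, card_bot])
  rw [heq] at hc hn
  refine ⟨hc, heq.ge.trans (commutator_mono hXM (hLA.trans h.le_M)), hn, ?_⟩
  -- the action of `L` on `X` gives an element of order `p` in `(ℤ/q)ˣ`
  obtain ⟨x, hx, hx1⟩ := X.bot_or_exists_ne_one.resolve_left
    fun he => hq.out.one_lt.ne (by rw [← hX, he, card_bot])
  obtain ⟨a, ha, ha1⟩ := L.bot_or_exists_ne_one.resolve_left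
    fun he => hp.out.one_lt.ne (by rw [← hLc, he, card_bot])
  have hxo : orderOf x = q := PGroupsBasic.orderOf_eq_of_pow_eq_one (hXel.2 x hx) hx1
  have hgen : zpowers x = X := eq_of_le_of_card_ge (zpowers_le.2 hx) (by
    rw [Nat.card_zpowers, hxo, hX])
  have hax : a * x * a⁻¹ ∈ zpowers x := hgen.symm ▸ (mem_normalizer_iff.1 (hLX ha) x).1 hx
  obtain ⟨k, hk⟩ := Submonoid.mem_powers_iff _ _ |>.1
    ((isOfFinOrder_of_finite x).mem_powers_iff_mem_zpowers.2 hax)
  have hpow : ∀ n : ℕ, a ^ n * x * (a ^ n)⁻¹ = x ^ k ^ n := by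
    intro n
    induction n with
    | zero => simp
    | succ n ih =>
      calc a ^ (n + 1) * x * (a ^ (n + 1))⁻¹ = a * (a ^ n * x * (a ^ n)⁻¹) * a⁻¹ := by
            rw [pow_succ']; group
        _ = (a * x * a⁻¹) ^ k ^ n := by rw [ih, conj_pow]
        _ = x ^ k ^ (n + 1) := by rw [← hk, ← pow_mul, ← pow_succ']
  have hap : a ^ p = 1 := h.elem.2 a (hLA ha)
  have hkp : (k : ZMod q) ^ p = 1 := by
    have h1 := hpow p
    rw [hap, one_mul, inv_one, mul_one] at h1
    nth_rw 1 [← pow_one x] at h1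
    rw [pow_eq_pow_iff_modEq, hxo] at h1
    exact_mod_cast ((ZMod.natCast_eq_natCast_iff _ _ q).2 h1).symm
  have hk1 : (k : ZMod q) ≠ 1 := by
    intro he
    have h1 : x ^ k = x ^ 1 := by
      rw [pow_eq_pow_iff_modEq, hxo]
      exact (ZMod.natCast_eq_natCast_iff _ _ q).1 (by simpa using he)
    rw [pow_one] at h1
    refine hx1 ?_
    rw [← mem_bot, ← fixed_point_free_of_line hLc hXL ha ha1]
    refine ⟨hx, mem_centralizer_singleton_iff.2 ?_⟩
    have h2 : a * x * a⁻¹ = x := hk.symm.trans h1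
    calc x * a = (a * x * a⁻¹) * a := by rw [h2]
      _ = a * x := by group
  by_contra hd
  have hk0 : (k : ZMod q) ≠ 0 := by
    intro he
    rw [he, zero_pow hp.out.ne_zero] at hkp
    exact zero_ne_one hkp
  have h1 : (k : ZMod q) ^ Nat.gcd p (q - 1) = 1 :=
    pow_gcd_eq_one.2 ⟨hkp, ZMod.pow_card_sub_one_eq_one hk0⟩
  rw [(Nat.Prime.coprime_iff_not_dvd hp.out).2 hd, pow_one] at h1
  exact hk1 h1

/-- No `A`-invariant noncyclic `q`-group, `q ∉ σ(M)`, lies in `M` if `q` does not divide `|C(A)|`. -/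
theorem Hyp.isCyclic_of_invariant (h : Hyp p M A A₀) {q : ℕ} [hq : Fact q.Prime] (hqp : q ≠ p)
    (hqσ : q ∉ Cfsg.sigma M) (hqC : ¬ q ∣ Nat.card (centralizer (A : Set G))) {Q : Subgroup G}
    (hQ : IsPGroup q Q) (hQM : Q ≤ M) (hAQ : A ≤ normalizer (Q : Set G)) : IsCyclic Q := by
  by_contra hnc
  have hq2 : q ≠ 2 := prime_ne_two h.simple
    ((dvd_card_of_ne_bot hQ fun he => hnc (he ▸ inferInstance)).trans (card_subgroup_dvd_card Q))
  -- an invariant subgroup of exponent `q` of order at least `q ^ 2`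
  set W := BGRankTwo.wSub q hq2 Q with hW
  have hWc : q ^ 2 ≤ Nat.card W := by
    obtain ⟨E, hEn, hEc, hE⟩ := PGroupsCyclic.exists_normal_elementary_sq hQ hq2 hnc
    haveI := hEn
    rw [← hEc, ← card_map_of_injective (K := E) Q.subtype_injective]
    exact card_le_of_le (BGRankTwo.map_le_wSub hQ E hE hEc.le)
  -- no such subgroup exists
  suffices key : ∀ (n : ℕ) (R : Subgroup G), Nat.card R = n → IsPGroup q R → R ≤ M →
      A ≤ normalizer (R : Set G) → (∀ r ∈ R, r ^ q = 1) → ¬ q ^ 2 ≤ Nat.card R from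
    key _ W rfl (hQ.to_le (BGRankTwo.wSub_le Q)) ((BGRankTwo.wSub_le Q).trans hQM)
      (hAQ.trans (BGRankTwo.normalizer_le_wSub Q)) (fun _ => BGRankTwo.pow_eq_one_of_mem_wSub) hWc
  intro n
  induction n using Nat.strong_induction_on with
  | _ n ih =>
  intro R hn hR hRM hAR hexp hc
  have hσ := h.prime_sigma' hqσ hR
  have hRA : R ⊓ centralizer (A : Set G) = ⊥ := by
    by_contra hne
    exact hqC ((dvd_card_of_ne_bot (hR.to_le inf_le_left) hne).trans (card_dvd_of_le inf_le_right))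
  obtain ⟨hYcyc, -⟩ := sigma'_centralizer_cyclic h.simple h.coatom hRM hσ
  set Y := R ⊓ centralizer (Cfsg.sigmaCore M : Set G) ⊓ ⁅M, M⁆ with hY
  haveI := h.elem.1
  by_cases hall : ∃ b ∈ A, b ≠ 1 ∧ R ≤ centralizer ({b} : Set G)
  · obtain ⟨b, hb, hb1, hbR⟩ := hall
    obtain ⟨L₁, L₂, hne, h₁, h₂, hc₁, hc₂, hf₁, hf₂⟩ := h.exists_fpf_lines
    have hbo : Nat.card (zpowers b) = p := by
      rw [Nat.card_zpowers, PGroupsBasic.orderOf_eq_of_pow_eq_one (h.elem.2 b hb) hb1]
    obtain ⟨L, hLA, hLc, hLf, hLb⟩ : ∃ L : Subgroup G, L ≤ A ∧ Nat.card L = p ∧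
        Cfsg.sigmaCore M ⊓ centralizer (L : Set G) = ⊥ ∧ L ≠ zpowers b := by
      by_cases he : L₁ = zpowers b
      · exact ⟨L₂, h₂, hc₂, hf₂, fun he' => hne (he.trans he'.symm)⟩
      · exact ⟨L₁, h₁, hc₁, hf₁, he⟩
    have hRL : R ⊓ centralizer (L : Set G) = ⊥ := by
      rw [← le_bot_iff, ← hRA]
      refine le_inf inf_le_left (le_centralizer_iff.1 ?_)
      refine (h.sup_of_lines hLb hLA (zpowers_le.2 hb) hLc hbo).trans (sup_le ?_ ?_)
      · exact le_centralizer_iff.1 inf_le_right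
      · exact zpowers_le.2 (mem_centralizer_iff.2 fun r hr =>
          mem_centralizer_singleton_iff.1 (hbR hr.1))
    have hRC := h.line_fpf_facts hLA hLc hLf hRM hσ (hLA.trans hAR) hRL
    have hrk := sigma'_centralizer_rank_one h.simple h.coatom hRM hσ q hq.out
    rw [inf_eq_left.2 hRC] at hrk
    have hRnc : ¬ IsCyclic R := by
      intro hcyc
      have h1 := PGroupsBasic.card_le_prime_of_isCyclic (p := q) hcyc hexp
      nlinarith [hq.out.one_lt]
    obtain ⟨E, hER, hE, hEc⟩ := exists_elementary_sq_of_noncyclic h.simple hR hRnc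
    have h2 := card_le_of_pRankLE hrk hER hE
    rw [hEc, pow_one] at h2
    nlinarith [hq.out.one_lt]
  push Not at hall
  have hle : R ≤ Y := by
    refine CoprimeGen.le_of_centralizers (A := A) h.not_isCyclic hAR ?_ fun a ha ha1 => ?_
    · rw [h.card_A]
      obtain ⟨j, hj⟩ := IsPGroup.iff_card.1 hR
      rw [hj]
      exact ((Nat.coprime_primes hp.out hq.out).2 hqp.symm).pow 2 j
    set C := R ⊓ centralizer ({a} : Set G) with hC
    have hCR : C ≤ R := inf_le_left
    have hAC : A ≤ normalizer (C : Set G) := CoprimeAction.le_normalizer_inf hAR fun c hc =>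
      le_normalizer (mem_centralizer_singleton_iff.2
        (PGroupsBasic.comm_of_isMulCommutative h.elem.1 hc ha))
    by_cases hC1 : C = ⊥
    · rw [hC1]; exact bot_le
    have hlt : Nat.card C < Nat.card R :=
      lt_of_le_of_ne (card_le_of_le hCR) fun he =>
        hall a ha ha1 (inf_eq_left.1 (eq_of_le_of_card_ge hCR he.ge))
    have hsm := ih _ (hn ▸ hlt) C rfl (hR.to_le hCR) (hCR.trans hRM) hAC fun r hr => hexp r hr.1
    obtain ⟨j, hj⟩ := IsPGroup.iff_card.1 (hR.to_le hCR)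
    have hCq : Nat.card C = q := by
      have hj2 : j < 2 := by
        by_contra hh
        exact hsm (hj ▸ Nat.pow_le_pow_right hq.out.pos (by omega))
      have hj0 : j ≠ 0 := fun hh => hC1 (eq_bot_of_card_eq _ (by rw [hj, hh, pow_zero]))
      rw [hj, show j = 1 by omega, pow_one]
    obtain ⟨h1, h2, -, -⟩ := h.small hqp hqσ hCq (hCR.trans hRM) hAC
      (le_bot_iff.1 ((inf_le_inf_right _ hCR).trans hRA.le))
    exact le_inf (le_inf hCR h1) h2
  have h1 := PGroupsBasic.card_le_prime_of_isCyclic (p := q) hYcyc fun r hr => hexp r hr.1.1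
  have h2 := card_le_of_le hle
  nlinarith [hq.out.one_lt]

/-- BG 11.7, main step: `A` centralizes the `A`-invariant `σ(M)'`-subgroups of `M` of order prime
to `p`. -/
theorem Hyp.centralizes (h : Hyp p M A A₀) {q : ℕ} [hq : Fact q.Prime] (hqp : q ≠ p)
    (hqσ : q ∉ Cfsg.sigma M) {Q : Subgroup G} (hQ : IsPGroup q Q) (hQM : Q ≤ M)
    (hAQ : A ≤ normalizer (Q : Set G)) : Q ≤ centralizer (A : Set G) := by
  by_contra hnot
  have hQ1 : Q ≠ ⊥ := fun he => hnot (he ▸ bot_le)
  have hqG : q ∣ Nat.card G := (dvd_card_of_ne_bot hQ hQ1).trans (card_subgroup_dvd_card Q)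
  have hq2 : q ≠ 2 := prime_ne_two h.simple hqG
  have hcopA : (Nat.card A).Coprime q := by
    rw [h.card_A]; exact ((Nat.coprime_primes hp.out hq.out).2 hqp.symm).pow_left 2
  have hr2 : Cfsg.PRankLE q 2 M := outside_alpha h.simple h.coatom hq.out hqσ
  -- a noncentralized subgroup of order `q` in a cyclic case
  have hcyc : IsCyclic Q → ∃ x ∈ Q, orderOf x = q ∧ A ≤ normalizer (zpowers x : Set G) ∧
      zpowers x ⊓ centralizer (A : Set G) = ⊥ := by
    intro hc
    have : ∃ x ∈ Q, orderOf x = q ∧ ¬ A ≤ centralizer ({x} : Set G) := by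
      by_contra hall
      push Not at hall
      refine hnot (le_centralizer_iff.1 (S1443.result q hq2 Q ⊥ A hQ bot_le
        PGroupsBasic.isElementaryAbelian_bot hAQ hcopA fun x hx hxo => hall x hx.1 hxo))
    obtain ⟨x, hx, hxo, hxA⟩ := this
    have hxle : zpowers x ≤ Q := zpowers_le.2 hx
    refine ⟨x, hx, hxo, ?_, ?_⟩
    · refine CoprimeAction.le_normalizer_of_conj_mem ?_ |>.trans' le_rfl
      intro a ha w hw
      have hwQ : a * w * a⁻¹ ∈ Q := (mem_normalizer_iff.1 (hAQ ha) w).1 (hxle hw)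
      have hwq : (a * w * a⁻¹) ^ q = 1 := by
        obtain ⟨i, rfl⟩ := mem_zpowers_iff.1 hw
        rw [conj_pow, ← zpow_natCast (x ^ i) q, zpow_comm, zpow_natCast, ← hxo,
          pow_orderOf_eq_one, one_zpow, mul_one, mul_inv_cancel]
      set Ω := zpowers x ⊔ zpowers (a * w * a⁻¹) with hΩ
      have hΩQ : Ω ≤ Q := sup_le hxle (zpowers_le.2 hwQ)
      have hΩe : Cfsg.IsElementaryAbelian q Ω := PGroupsBasic.isElementaryAbelian_sup
        (PGroupsBasic.isElementaryAbelian_zpowers (hxo ▸ pow_orderOf_eq_one x))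
        (PGroupsBasic.isElementaryAbelian_zpowers hwq) fun u hu => mem_centralizer_iff.2
          fun v hv => congrArg Subtype.val ((IsCyclic.isMulCommutative (α := Q)).is_comm.comm
            ⟨v, (zpowers_le.2 hwQ) hv⟩ ⟨u, hxle hu⟩)
      haveI : IsCyclic Ω := isCyclic_of_injective (Subgroup.inclusion hΩQ)
        (Subgroup.inclusion_injective hΩQ)
      have h1 := PGroupsBasic.card_le_prime_of_isCyclic (p := q) this hΩe.2
      rw [eq_of_le_of_card_ge (H := zpowers x) le_sup_left (h1.trans (by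
        rw [Nat.card_zpowers, hxo]))]
      exact mem_sup_right (mem_zpowers _)
    · refine (PGroupsBasic.le_or_inf_eq_bot (by rw [Nat.card_zpowers, hxo]) _).resolve_left
        fun hle => hxA fun a ha => mem_centralizer_singleton_iff.2 ?_
      exact mem_centralizer_iff.1 (hle (mem_zpowers x)) a ha
  have hNX : ∀ x : G, orderOf x = q → zpowers x ≤ M → A ≤ normalizer (zpowers x : Set G) →
      zpowers x ⊓ centralizer (A : Set G) = ⊥ →
      normalizer (zpowers x : Set G) = M ∧ p ∣ q - 1 := by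
    intro x hxo hxM hAx hxA
    obtain ⟨-, -, hn, hd⟩ := h.small hqp hqσ (by rw [Nat.card_zpowers, hxo]) hxM hAx hxA
    refine ⟨((h.coatom.le_iff.1 hn).resolve_left ?_), hd⟩
    exact normalizer_ne_top' h.simple
      (fun he => hq.out.one_lt.ne (by rw [← hxo, ← Nat.card_zpowers, he, card_bot]))
      fun he => h.coatom.1 (top_le_iff.1 (he ▸ hxM))
  by_cases hqC : q ∣ Nat.card (centralizer (A : Set G))
  · obtain ⟨Qs, hQs, hQQs⟩ := exists_maxInv_ge (A := A) (q := q) hQ hAQ
    have hQsp : IsPGroup q Qs := piNat_singleton_iff_isPGroup.1 hQs.1.2.1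
    obtain ⟨P, hAP, -, hPd, -⟩ :=
      max_normed_signaliser h.simple hqp h.elem h.card_A h.maximal hqC hQs
    -- an element of order `q` with small centralizer
    obtain ⟨x, hx, hxq, hx1, hxr⟩ : ∃ x ∈ Qs, x ^ q = 1 ∧ x ≠ 1 ∧ ∀ E : Subgroup G, E ≤ Qs →
        Cfsg.IsElementaryAbelian q E → E ≤ centralizer ({x} : Set G) → Nat.card E ≤ q ^ 2 := by
      by_cases hc : IsCyclic Q
      · obtain ⟨x, hx, hxo, hAx, hxA⟩ := hcyc hc
        refine ⟨x, hQQs hx, hxo ▸ pow_orderOf_eq_one x,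
          fun he => hq.out.one_lt.ne' (by rw [← hxo, he, orderOf_one]), fun E _ hE hEC => ?_⟩
        refine card_le_of_pRankLE hr2 (hEC.trans ?_) hE
        rw [← (hNX x hxo (zpowers_le.2 (hQM hx)) hAx hxA).1, zpowers_eq_closure,
          ← centralizer_closure]
        exact centralizer_le_normalizer _
      · obtain ⟨B, hBQ, hB, hBc⟩ := exists_elementary_sq_of_noncyclic h.simple hQ hc
        have hBmax : ∀ B' : Subgroup G, Cfsg.IsElementaryAbelian q B' → B ≤ B' → B' = B :=
          fun B' hB' hle =>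
            maximal_of_rank_two h.simple h.coatom hqσ (hBQ.trans hQM) hB hBc hB' hle
        have hBQs : B ≤ Qs := hBQ.trans hQQs
        obtain ⟨z, hz, hzo, hzc⟩ := exists_central_prime hQsp
          (fun he => hQ1 (le_bot_iff.1 (he ▸ hQQs)))
        have hzB : z ∈ B := mem_of_commute_maximal hB hBmax (hzo ▸ pow_orderOf_eq_one z)
          fun b hb => (hzc b (hBQs hb)).symm
        have hlt : zpowers z < B := lt_of_le_of_ne (zpowers_le.2 hzB) fun he => by
          have h1 := hBc
          rw [← he, Nat.card_zpowers, hzo] at h1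
          nlinarith [hq.out.one_lt]
        obtain ⟨x, hxB, hxz⟩ := SetLike.exists_of_lt hlt
        have hxq := hB.2 x hxB
        have hx1 : x ≠ 1 := fun he => hxz (he ▸ one_mem _)
        refine ⟨x, hBQs hxB, hxq, hx1, fun E hEQ hE hEC => ?_⟩
        refine (card_le_of_le (K := B) fun e he => ?_).trans hBc.le
        refine mem_of_commute_maximal hB hBmax (hE.2 e he) fun b hb => ?_
        have hgen : B ≤ zpowers z ⊔ zpowers x := by
          refine (eq_of_le_of_card_ge (sup_le hlt.le (zpowers_le.2 hxB)) ?_).ge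
          obtain ⟨j, hj⟩ := IsPGroup.iff_card.1
            ((PGroupsBasic.isPGroup_of_isElementaryAbelian hB).to_le
              (sup_le hlt.le (zpowers_le.2 hxB)))
          have hl : Nat.card (zpowers z) < Nat.card ↥(zpowers z ⊔ zpowers x) :=
            lt_of_le_of_ne (card_le_of_le le_sup_left) fun he' => hxz
              ((eq_of_le_of_card_ge le_sup_left he'.ge).symm ▸ mem_sup_right (mem_zpowers x))
          rw [Nat.card_zpowers, hzo, hj] at hl
          rw [hBc, hj]
          refine Nat.pow_le_pow_right hq.out.pos ?_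
          have := (Nat.pow_lt_pow_iff_right hq.out.one_lt).1 (by simpa using hl : q ^ 1 < q ^ j)
          omega
        have hle : B ≤ centralizer ({e} : Set G) := hgen.trans (sup_le
          (zpowers_le.2 (mem_centralizer_singleton_iff.2 (hzc e (hEQ he)).eq))
          (zpowers_le.2 (mem_centralizer_singleton_iff.2
            (mem_centralizer_singleton_iff.1 (hEC he)).symm)))
        exact mem_centralizer_singleton_iff.1 (hle hb)
    set N := normalizer (Qs : Set G) with hN
    have hN0 : N ≠ ⊤ := normalizer_ne_top' h.simple (fun he => hQ1 (le_bot_iff.1 (he ▸ hQQs)))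
      (qgroup_ne_top h.simple hQsp)
    haveI := isSolvable_of_ne_top h.simple hN0
    set R := Qs.subgroupOf N with hR
    haveI : R.Normal := normal_in_normalizer
    have hRp : IsPGroup q R := hQsp.comap_subtype
    have hrank : Cfsg.PRankLE q 2
        ↥(centralizer ({(⟨⟨x, le_normalizer hx⟩, hx⟩ : R)} : Set R)) := by
      intro E hEc hEe
      set ι := (N.subtype.comp R.subtype).comp
        (centralizer ({(⟨⟨x, le_normalizer hx⟩, hx⟩ : R)} : Set R)).subtype with hι
      have hinj : Function.Injective ι := (N.subtype_injective.comp R.subtype_injective).comp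
        (Subgroup.subtype_injective _)
      rw [← card_map_of_injective (K := E) hinj]
      refine hxr _ ?_ (PGroupsBasic.isElementaryAbelian_map_hom ⟨hEc, hEe⟩ ι) ?_
      · rintro _ ⟨e, -, rfl⟩
        exact e.1.2
      · rintro _ ⟨e, -, rfl⟩
        exact mem_centralizer_singleton_iff.2
          (congrArg (fun w : R => ((w : N) : G)) (mem_centralizer_singleton_iff.1 e.2))
    refine hnot fun w hw => mem_centralizer_iff.2 fun a ha => ?_
    have haN : a ∈ ⁅N, N⁆ := hPd (hAP ha)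
    rw [← map_subtype_commutator] at haN
    obtain ⟨y, hy, rfl⟩ := haN
    have hord : (orderOf y).Coprime q := by
      rw [← orderOf_injective N.subtype N.subtype_injective y]
      exact Nat.Coprime.coprime_dvd_left (orderOf_dvd_of_pow_eq_one (h.elem.2 _ ha))
        ((Nat.coprime_primes hp.out hq.out).2 hqp.symm)
    exact congrArg N.subtype (BGNarrowAction.commute_of_centralizer_rank hq2
      (odd_card_subgroup h.simple N) hRp (x := ⟨⟨x, le_normalizer hx⟩, hx⟩)
      (Subtype.ext (Subtype.ext hxq)) (fun he => hx1 (congrArg (fun w : R => ((w : N) : G)) he))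
      hrank hy hord ⟨w, le_normalizer (hQQs hw)⟩ (hQQs hw)).eq
  · -- `q` does not divide `|C(A)|`
    obtain ⟨x, hx, hxo, hAx, hxA⟩ := hcyc (h.isCyclic_of_invariant hqp hqσ hqC hQ hQM hAQ)
    obtain ⟨hN, hd⟩ := hNX x hxo (zpowers_le.2 (hQM hx)) hAx hxA
    obtain ⟨⟨-, hr1⟩, -, -⟩ := order_p_normalizer_le h.simple h.coatom hqσ
      (X := zpowers x) (by rw [Nat.card_zpowers, hxo]) hN.le
    obtain ⟨E, hEM, hE, hEc⟩ := pow_le_of_not_pRankLE hr1
    have hpq : p < q := by
      have h1 := Nat.le_of_dvd (Nat.sub_pos_of_lt hq.out.one_lt) hd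
      omega
    haveI := isSolvable_of_ne_top h.simple h.coatom.1
    have hp2 : p ≠ 2 := prime_ne_two h.simple
      ((h.card_A ▸ dvd_pow_self p two_ne_zero : p ∣ Nat.card A).trans (card_subgroup_dvd_card A))
    set W := coreOf p M with hW
    have hEW : E ≤ W := by
      rw [← map_subgroupOf_eq_of_le hEM]
      haveI := HallCore.pPrimeCore_normal p M
      refine map_mono (le_of_prime_not_dvd fun r hr hdr hdi => ?_)
      have hrq : r = q := (piNat_of_isPGroup (π := {q})
        (PGroupsBasic.isPGroup_of_isElementaryAbelian hE) rfl r hr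
        (hdr.trans (HallCore.card_subgroupOf_dvd _ _)) : r = q)
      have := BGRankTwo.prime_le_of_dvd_index hp2 (odd_card_subgroup h.simple M)
        (outside_alpha h.simple h.coatom hp.out h.not_sigma) hr hdi
      omega
    have hAW : A ≤ normalizer (W : Set G) :=
      h.le_M.trans (le_normalizer.trans (le_normalizer_coreOf p M))
    haveI : Group.IsSolvable W := isSolvable_of_ne_top h.simple
      fun he => h.coatom.1 (top_le_iff.1 (he ▸ coreOf_le p M))
    obtain ⟨S, hS⟩ := CoprimeAction.exists_invariant_sylow (p := q) hAW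
      (by rw [h.card_A]; exact ((coprime_coreOf p M).symm).pow_left 2) (Or.inr inferInstance)
    have hcS := h.isCyclic_of_invariant hqp hqσ hqC (S.isPGroup'.map W.subtype)
      ((map_subtype_le _).trans (coreOf_le p M)) hS
    have hEp : IsPGroup q E := PGroupsBasic.isPGroup_of_isElementaryAbelian hE
    obtain ⟨T, hT⟩ := (hEp.comap_subtype (K := W)).exists_le_sylow
    haveI : IsCyclic (S : Subgroup W) := isCyclic_of_surjective
      ((S : Subgroup W).equivMapOfInjective _ W.subtype_injective).symm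
      (MulEquiv.surjective _)
    haveI : IsCyclic (T : Subgroup W) := isCyclic_of_surjective (S.equiv T) (MulEquiv.surjective _)
    have hTc : IsCyclic (E.subgroupOf W) := isCyclic_of_injective (inclusion hT)
      (inclusion_injective hT)
    have hEcyc : IsCyclic E := isCyclic_of_surjective (subgroupOfEquivOfLe hEW)
      (MulEquiv.surjective _)
    have h1 := PGroupsBasic.card_le_prime_of_isCyclic (p := q) hEcyc hE.2
    rw [show (1 + 1 : ℕ) = 2 from rfl] at hEc
    nlinarith [hq.out.one_lt]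

/-- `M = M_σ (M ∩ N(A))`. -/
theorem Hyp.le_sigmaCore_sup (h : Hyp p M A A₀) :
    M ≤ Cfsg.sigmaCore M ⊔ (M ⊓ normalizer (A : Set G)) := by
  haveI := isSolvable_of_ne_top h.simple h.coatom.1
  have hp2 : p ≠ 2 := prime_ne_two h.simple
    ((h.card_A ▸ dvd_pow_self p two_ne_zero : p ∣ Nat.card A).trans (card_subgroup_dvd_card A))
  obtain ⟨P, hP, hAP⟩ := exists_isMaxP_ge h.isPGroup h.le_M
  obtain ⟨S, hS⟩ := hP.exists_sylow
  set K := Cfsg.sigmaCore M ⊔ (M ⊓ normalizer (A : Set G)) with hK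
  -- the `p'`-core
  set W := coreOf p M with hW
  have hWK : W ≤ K := by
    refine le_of_invariant_qgroups h.isPGroup (coprime_coreOf p M)
      (h.le_M.trans (le_normalizer.trans (le_normalizer_coreOf p M))) fun q hq hqp Q hQ hAQ hQW => ?_
    haveI := Fact.mk hq
    have hQM : Q ≤ M := hQW.trans (coreOf_le p M)
    by_cases hqσ : q ∈ Cfsg.sigma M
    · exact (le_sigmaCore h.simple h.coatom hQM (piNat_of_isPGroup hQ hqσ)).trans le_sup_left
    · exact (le_inf hQM ((h.centralizes hqp hqσ hQ hQM hAQ).trans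
        (centralizer_le_normalizer _))).trans le_sup_right
  -- the Frattini argument
  haveI := HallCore.pPrimePCore_normal p M
  haveI := HallCore.pPrimeCore_normal p M
  set U := Cfsg.pPrimePCore p M with hU
  have hSU : (S : Subgroup M) ≤ U := le_of_prime_not_dvd fun r hr hdr hdi => by
    have hrp : r = p := (piNat_of_isPGroup (π := {p}) S.isPGroup' rfl r hr hdr : r = p)
    exact (hr.coprime_iff_not_dvd.1 (hrp ▸ (BGRankTwo.index_pPrimePCore_coprime hp2
      (odd_card_subgroup h.simple M) (outside_alpha h.simple h.coatom hp.out h.not_sigma)).symm)) hdi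
  set π := QuotientGroup.mk' (Cfsg.pPrimeCore p M) with hπ
  have hUle : U ≤ (S : Subgroup M) ⊔ Cfsg.pPrimeCore p M := by
    intro u hu
    have hu' : π u ∈ Cfsg.pCore p (M ⧸ Cfsg.pPrimeCore p M) := hu
    have h1 := HallCore.pCore_le_sylow (S.mapSurjective (QuotientGroup.mk'_surjective _)) hu'
    rw [Sylow.coe_mapSurjective] at h1
    have h2 : u ∈ ((S : Subgroup M).map π).comap π := h1
    rwa [comap_map_eq, hπ, QuotientGroup.ker_mk'] at h2
  have hfr := Sylow.normalizer_sup_eq_top (S.subtype hSU)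
  rw [Sylow.coe_subtype, subgroupOf_map_subtype, inf_eq_left.2 hSU] at hfr
  have hN : normalizer ((S : Subgroup M) : Set M) ≤ K.subgroupOf M := by
    intro n hn
    refine mem_sup_right ⟨n.2, h.normalizer_sylow_le hP hAP ?_⟩
    have h1 := le_normalizer_map M.subtype (mem_map_of_mem M.subtype hn)
    rwa [hS] at h1
  have hWK' : Cfsg.pPrimeCore p M ≤ K.subgroupOf M := fun w hw => hWK (mem_map_of_mem _ hw)
  have hle : (⊤ : Subgroup M) ≤ K.subgroupOf M := hfr.ge.trans
    (sup_le hN (hUle.trans (sup_le (le_normalizer.trans hN) hWK')))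
  intro m hm
  exact hle (mem_top ⟨m, hm⟩)

/-- BG 11.7: `M_σ A` is normal in `M`. -/
theorem Hyp.normal_sup (h : Hyp p M A A₀) :
    M ≤ normalizer ((Cfsg.sigmaCore M ⊔ A : Subgroup G) : Set G) := by
  refine h.le_sigmaCore_sup.trans (sup_le (le_sup_left.trans le_normalizer) ?_)
  refine CoprimeAction.le_normalizer_of_conj_mem fun g hg x hx => ?_
  have hgσ : MulAut.conj g • Cfsg.sigmaCore M = Cfsg.sigmaCore M :=
    conj_le_normalizer (le_normalizer_core _ M hg.1)
  have hgA : MulAut.conj g • A = A := conj_le_normalizer hg.2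
  have h1 : MulAut.conj g • x ∈ MulAut.conj g • (Cfsg.sigmaCore M ⊔ A) :=
    smul_mem_pointwise_smul _ _ _ hx
  rwa [Subgroup.smul_sup, hgσ, hgA] at h1

end Cfsg.Agent.BGExceptional
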