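import Cfsg.Agent.Lib.BGExceptional
import Cfsg.Agent.Lib.CharTwoLocal
import Cfsg.Agent.S1412
import Cfsg.Agent.S1453
import Cfsg.Agent.S1462

/-!
The structure of `p`-groups over a maximal elementary subgroup of order `p²` (Bender-Glauberman
10.13) and abelian Sylow subgroups in exceptional maximal subgroups (11.5).
-/

set_option autoImplicit false
set_option linter.style.haveILetI false

namespace Cfsg.Agent.BGExceptional

open Subgroup
open Cfsg.Agent.BGUnique
open Cfsg.Agent.BGTransitivity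
open Cfsg.Agent.BGSigma
open scoped commutatorElement Pointwise

universe u

variable {G : Type u} [Group G] [Finite G] {p : ℕ} [hp : Fact p.Prime]

omit [Finite G] hp in
/-- Elements of order `p` centralizing a maximal elementary subgroup lie in it. -/
theorem mem_of_commute_maximal {A : Subgroup G} (hA : Cfsg.IsElementaryAbelian p A)
    (hmax : ∀ B : Subgroup G, Cfsg.IsElementaryAbelian p B → A ≤ B → B = A) {x : G}
    (hx : x ^ p = 1) (hc : ∀ a ∈ A, Commute a x) : x ∈ A := by
  rw [← hmax (A ⊔ zpowers x) (PGroupsBasic.isElementaryAbelian_sup hA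
    (PGroupsBasic.isElementaryAbelian_zpowers hx) ?_) le_sup_left]
  · exact mem_sup_right (mem_zpowers x)
  · intro a ha
    refine mem_centralizer_iff.2 fun b hb => ?_
    obtain ⟨i, rfl⟩ := mem_zpowers_iff.1 hb
    exact ((hc a ha).zpow_right i).eq.symm

theorem isCyclic_of_pRankLE_one (hG : Cfsg.IsMinSimpleOddOrder G) {T : Subgroup G}
    (hT : IsPGroup p T) (h : ∀ E : Subgroup G, E ≤ T → Cfsg.IsElementaryAbelian p E →
      Nat.card E ≤ p) : IsCyclic T := by
  by_contra hnc
  obtain ⟨E, hET, hE, hEc⟩ := exists_elementary_sq_of_noncyclic hG hT hnc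
  have h1 := h E hET hE
  rw [hEc] at h1
  have h2 := Nat.pow_lt_pow_right hp.out.one_lt one_lt_two
  rw [pow_one] at h2
  omega

/-- BG 10.13 (b), main part: the centralizer in a Sylow subgroup of a maximal elementary subgroup of
order `p²` is abelian. -/
theorem centralizer_sylow_abelian (hG : Cfsg.IsMinSimpleOddOrder G) (S : Sylow p G) {A : Subgroup G}
    (hAS : A ≤ (S : Subgroup G)) (hA : Cfsg.IsElementaryAbelian p A) (hAc : Nat.card A = p ^ 2)
    (hmax : ∀ B : Subgroup G, Cfsg.IsElementaryAbelian p B → A ≤ B → B = A) :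
    IsMulCommutative ↥((S : Subgroup G) ⊓ centralizer (A : Set G)) := by
  set S' : Subgroup G := (S : Subgroup G) with hS'
  have hp2 : p ≠ 2 := prime_ne_two hG
    ((hAc ▸ dvd_pow_self p two_ne_zero : p ∣ Nat.card A).trans (card_subgroup_dvd_card A))
  by_cases hr : Cfsg.PRankLE p 2 S'
  · rcases S1412.result hG p S hr with hab | ⟨P₁, P₂, hsup, hcom, -, -, hexp, hcyc, hΩ⟩
    · exact PGroupsBasic.isMulCommutative_mono hab inf_le_left
    have hP₂ : P₂ ≤ centralizer (P₁ : Set G) := fun b hb => mem_centralizer_iff.2 fun a ha =>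
      hcom a ha b hb
    have dec : ∀ x ∈ S', ∃ a ∈ P₁, ∃ b ∈ P₂, x = a * b := by
      intro x hx
      rw [hS', ← hsup] at hx
      have : x ∈ ((P₁ : Set G) * (P₂ : Set G) : Set G) := by
        rw [← coe_mul_of_right_le_normalizer_left P₁ P₂ (hP₂.trans (centralizer_le_normalizer _))]
        exact hx
      obtain ⟨a, ha, b, hb, rfl⟩ := this
      exact ⟨a, ha, b, hb, rfl⟩
    have hP₁exp : ∀ a ∈ P₁, a ^ p = 1 := fun a ha => by
      have := Monoid.pow_exponent_eq_one (⟨a, ha⟩ : P₁)
      rw [hexp] at this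
      exact congrArg Subtype.val this
    have hP₁S : P₁ ≤ S' := hS' ▸ hsup ▸ le_sup_left
    have hΩ1 : ∀ x ∈ S', x ^ p = 1 → x ∈ P₁ := by
      intro x hx hxp
      obtain ⟨a, ha, b, hb, rfl⟩ := dec x hx
      rw [Commute.mul_pow (hcom a ha b hb), hP₁exp a ha, one_mul] at hxp
      have hb1 : b ∈ closure {x : G | x ∈ P₂ ∧ x ^ p = 1} := subset_closure ⟨hb, hxp⟩
      rw [hΩ] at hb1
      exact mul_mem ha hb1.1
    have hAP : A ≤ P₁ := fun a ha => hΩ1 a (hAS ha) (hA.2 a ha)
    refine PGroupsBasic.isMulCommutative_of_forall fun x hx y hy => ?_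
    have dec' : ∀ w ∈ S' ⊓ centralizer (A : Set G), ∃ a ∈ A, ∃ b ∈ P₂, w = a * b := by
      intro w hw
      obtain ⟨a, ha, b, hb, rfl⟩ := dec w hw.1
      refine ⟨a, mem_of_commute_maximal hA hmax (hP₁exp a ha) fun c hc => ?_, b, hb, rfl⟩
      have h1 : c * (a * b) = a * b * c := mem_centralizer_iff.1 hw.2 c hc
      have h2 : c * b = b * c := hcom c (hAP hc) b hb
      show c * a = a * c
      calc c * a = c * (a * b) * b⁻¹ := by group
        _ = a * (b * c) * b⁻¹ := by rw [h1]; group
        _ = a * c := by rw [← h2]; group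
    obtain ⟨a, ha, b, hb, rfl⟩ := dec' x hx
    obtain ⟨c, hc, d, hd, rfl⟩ := dec' y hy
    have hbd : b * d = d * b := by
      haveI := hcyc
      exact congrArg Subtype.val
        ((IsCyclic.isMulCommutative (α := P₂)).is_comm.comm ⟨b, hb⟩ ⟨d, hd⟩)
    have hac : a * c = c * a := PGroupsBasic.comm_of_isMulCommutative hA.1 ha hc
    calc a * b * (c * d) = a * (b * c) * d := by group
      _ = a * (c * b) * d := by rw [← hcom c (hAP hc) b hb]
      _ = (a * c) * (b * d) := by group
      _ = (c * a) * (d * b) := by rw [hac, hbd]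
      _ = c * (a * d) * b := by group
      _ = c * (d * a) * b := by rw [hcom a (hAP ha) d hd]
      _ = c * d * (a * b) := by group
  · -- rank at least three: the narrow case
    set A' : Subgroup S' := A.subgroupOf S' with hA'
    have hA'e : Cfsg.IsElementaryAbelian p A' :=
      PGroupsBasic.isElementaryAbelian_comap_injective hA S'.subtype_injective
    have hA'c : Nat.card A' = p ^ 2 := by rw [hA', Nat.card_congr (subgroupOfEquivOfLe hAS).toEquiv, hAc]
    have hA'max : ∀ B : Subgroup S', Cfsg.IsElementaryAbelian p B → A' ≤ B → B = A' := by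
      intro B hB hle
      have h1 := hmax (B.map S'.subtype) (PGroupsBasic.isElementaryAbelian_map_hom hB _) (by
        rw [← map_subgroupOf_eq_of_le hAS]; exact map_mono hle)
      rw [hA', ← h1]
      exact (comap_map_eq_self_of_injective S'.subtype_injective B).symm
    obtain ⟨hnot, -, -, hchar, hidx⟩ :=
      S1453.result p hp2 S.isPGroup' hr A' hA'e hA'c hA'max
    set CW := centralizer ((closure {x : S' | x ∈ Subgroup.upperCentralSeries S' 2 ∧ x ^ p = 1} :
      Subgroup S') : Set S') with hCW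
    haveI := hchar
    haveI : CW.Normal := inferInstance
    obtain ⟨a₀, ha₀, ha₀W⟩ := SetLike.not_le_iff_exists.1 hnot
    set T := (centralizer (A' : Set S') ⊓ CW).map S'.subtype with hT
    have hTcyc : IsCyclic T := by
      refine isCyclic_of_pRankLE_one hG (((S.isPGroup'.to_subgroup _)).map _) fun E hET hE => ?_
      have hEA : E ≤ A := by
        intro e he
        obtain ⟨w, hw, rfl⟩ := hET he
        refine mem_of_commute_maximal hA hmax (hE.2 _ he) fun a ha => ?_
        exact congrArg Subtype.val (mem_centralizer_iff.1 hw.1 ⟨a, hAS ha⟩ ha)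
      have hlt : E < A := by
        refine lt_of_le_of_ne hEA fun he => ha₀W ?_
        obtain ⟨w, hw, hwa⟩ := hET (he.symm ▸ ha₀ : (a₀ : G) ∈ E)
        exact S'.subtype_injective hwa ▸ hw.2
      obtain ⟨j, hj⟩ := IsPGroup.iff_card.1 (PGroupsBasic.isPGroup_of_isElementaryAbelian hE)
      have h1 := Set.ncard_lt_ncard (SetLike.coe_ssubset_coe.2 hlt) (Set.toFinite _)
      rw [← Nat.card_coe_set_eq, ← Nat.card_coe_set_eq, SetLike.coe_sort_coe,
        SetLike.coe_sort_coe, hAc, hj] at h1
      have h2 := (Nat.pow_lt_pow_iff_right hp.out.one_lt).1 h1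
      rw [hj]
      calc p ^ j ≤ p ^ 1 := Nat.pow_le_pow_right hp.out.pos (by omega)
        _ = p := pow_one p
    have dec : ∀ x ∈ S' ⊓ centralizer (A : Set G), ∃ t ∈ T, ∃ i : ℤ, x = t * (a₀ : G) ^ i := by
      intro x hx
      set π := QuotientGroup.mk' CW with hπ
      have hne : π a₀ ≠ 1 := fun he => ha₀W ((QuotientGroup.eq_one_iff a₀).1 he)
      have hq : Nat.card (S' ⧸ CW) = p := by rw [← index_eq_card, hidx]
      obtain ⟨i, hi⟩ := mem_zpowers_iff.1
        (mem_zpowers_of_prime_card hq (g := π a₀) (g' := π ⟨x, hx.1⟩) hne)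
      refine ⟨x * ((a₀ : G) ^ i)⁻¹, ⟨(⟨x, hx.1⟩ : S') * (a₀ ^ i)⁻¹, ⟨?_, ?_⟩, by simp⟩, i, by group⟩
      · refine Subgroup.mul_mem _ ?_ (Subgroup.inv_mem _ (Subgroup.zpow_mem _ ?_ i))
        · exact mem_centralizer_iff.2 fun a ha => Subtype.ext (mem_centralizer_iff.1 hx.2 _ ha)
        · exact mem_centralizer_iff.2 fun a ha =>
            PGroupsBasic.comm_of_isMulCommutative hA'e.1 ha ha₀
      · refine (QuotientGroup.eq_one_iff _).1 ?_
        show π (⟨x, hx.1⟩ * (a₀ ^ i)⁻¹) = 1
        rw [map_mul, map_inv, map_zpow, hi, mul_inv_cancel]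
    refine PGroupsBasic.isMulCommutative_of_forall fun x hx y hy => ?_
    obtain ⟨t, ht, i, rfl⟩ := dec x hx
    obtain ⟨t', ht', j, rfl⟩ := dec y hy
    have hta : ∀ s ∈ T, Commute (a₀ : G) s := by
      rintro _ ⟨s, hs, rfl⟩
      exact congrArg Subtype.val (mem_centralizer_iff.1 hs.1 a₀ ha₀)
    haveI := hTcyc
    have htt : Commute t t' :=
      congrArg Subtype.val ((IsCyclic.isMulCommutative (α := T)).is_comm.comm ⟨t, ht⟩ ⟨t', ht'⟩)
    exact ((htt.mul_right ((hta t ht).symm.zpow_right j)).mul_left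
      (((hta t' ht').zpow_left i).mul_right ((Commute.refl _).zpow_zpow i j))).eq

/-- BG 10.13 (c): transitivity on the noncentral lines. -/
theorem line_conj {P A : Subgroup G} (hP : IsPGroup p P) (hAP : A ≤ P)
    (hA : Cfsg.IsElementaryAbelian p A) (hAc : Nat.card A = p ^ 2)
    (hmax : ∀ B : Subgroup G, Cfsg.IsElementaryAbelian p B → A ≤ B → B = A)
    (hnc : ¬ P ≤ centralizer (A : Set G)) {z : G} (hzo : orderOf z = p)
    (hz : ∀ y ∈ P, Commute z y) (hzP : z ∈ P) {X Y : Subgroup G} (hXA : X ≤ A)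
    (hXc : Nat.card X = p) (hXz : z ∉ X) (hYA : Y ≤ A) (hYc : Nat.card Y = p) (hYz : z ∉ Y) :
    ∃ v ∈ P, MulAut.conj v • X = Y := by
  have hzp : z ^ p = 1 := hzo ▸ pow_orderOf_eq_one z
  have hz1 : z ≠ 1 := fun he => hp.out.one_lt.ne (by rw [← hzo, he, orderOf_one])
  have hzA : z ∈ A := mem_of_commute_maximal hA hmax hzp fun a ha => (hz a (hAP ha)).symm
  -- a normalizing element outside the centralizer
  set C := P ⊓ centralizer (A : Set G) with hC
  obtain ⟨u, ⟨huP, huN⟩, huC⟩ := SetLike.exists_of_lt (lt_inf_normalizer (P := C) hP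
    (lt_of_le_of_ne inf_le_left fun he => hnc (he ▸ inf_le_right)))
  have huA : ∀ a ∈ A, u * a * u⁻¹ ∈ A := by
    intro a ha
    have haC : a ∈ C := ⟨hAP ha, mem_centralizer_iff.2 fun b hb =>
      PGroupsBasic.comm_of_isMulCommutative hA.1 hb ha⟩
    have h1 : u * a * u⁻¹ ∈ C := (mem_normalizer_iff.1 huN a).1 haC
    refine mem_of_commute_maximal hA hmax ?_ fun b hb => mem_centralizer_iff.1 h1.2 b hb
    rw [conj_pow, hA.2 a ha, mul_one, mul_inv_cancel]
  have hU : zpowers u ≤ normalizer (A : Set G) :=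
    zpowers_le.2 (mem_normalizer_fintype huA)
  have hUp : IsPGroup p (zpowers u) := hP.to_le (zpowers_le.2 huP)
  set D := ⁅A, zpowers u⁆ with hD
  have hA1 : A ≠ ⊥ := fun he => hz1 (by rw [he, mem_bot] at hzA; exact hzA)
  have hDA := CharTwoLocal.commutator_lt (PGroupsBasic.isPGroup_of_isElementaryAbelian hA) hUp hU hA1
  have hgen : zpowers z ≤ A := zpowers_le.2 hzA
  have line_sup : ∀ L : Subgroup G, L ≤ A → 1 < Nat.card L → z ∉ L → A ≤ L ⊔ zpowers z := by
    intro L hL hL1 hzL
    refine (eq_of_le_of_card_ge (sup_le hL hgen) ?_).ge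
    obtain ⟨j, hj⟩ := IsPGroup.iff_card.1
      ((PGroupsBasic.isPGroup_of_isElementaryAbelian hA).to_le (sup_le hL hgen))
    have hlt : Nat.card L < Nat.card ↥(L ⊔ zpowers z) :=
      lt_of_le_of_ne (card_le_of_le le_sup_left) fun he =>
        hzL ((eq_of_le_of_card_ge le_sup_left he.ge).symm ▸ mem_sup_right (mem_zpowers z))
    have hzle : p ≤ Nat.card ↥(L ⊔ zpowers z) := by
      rw [← hzo, ← Nat.card_zpowers]; exact card_le_of_le le_sup_right
    obtain ⟨i, hi⟩ := IsPGroup.iff_card.1
      ((PGroupsBasic.isPGroup_of_isElementaryAbelian hA).to_le hL)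
    rw [hi, hj] at hlt
    rw [hi] at hL1
    have hi0 : i ≠ 0 := by rintro rfl; simp at hL1
    have := (Nat.pow_lt_pow_iff_right hp.out.one_lt).1 hlt
    rw [hAc, hj]
    exact Nat.pow_le_pow_right hp.out.pos (by omega)
  -- `[a, u]` lies in `⟨z⟩`
  have hcz : ∀ a ∈ A, u * a * u⁻¹ * a⁻¹ ∈ zpowers z := by
    intro a ha
    by_contra hc
    have hcD : u * a * u⁻¹ * a⁻¹ ∈ D := by
      have h1 := commutator_mem_commutator (mem_zpowers u) ha
      rw [commutatorElement_def, Subgroup.commutator_comm] at h1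
      exact h1
    have hD1 : D ≠ ⊥ := fun he => hc (by rw [he, mem_bot] at hcD; rw [hcD]; exact one_mem _)
    have hDn : zpowers u ≤ normalizer (D : Set G) :=
      BGSCNUniqueMain.le_normalizer_commutator' hU le_normalizer
    have hlt := CharTwoLocal.commutator_lt
      ((PGroupsBasic.isPGroup_of_isElementaryAbelian hA).to_le hDA.le) hUp hDn hD1
    obtain ⟨i, hi⟩ := IsPGroup.iff_card.1
      ((PGroupsBasic.isPGroup_of_isElementaryAbelian hA).to_le hDA.le)
    obtain ⟨j, hj⟩ := IsPGroup.iff_card.1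
      ((PGroupsBasic.isPGroup_of_isElementaryAbelian hA).to_le (hlt.le.trans hDA.le))
    have h2 := Set.ncard_lt_ncard (SetLike.coe_ssubset_coe.2 hDA) (Set.toFinite _)
    have h3 := Set.ncard_lt_ncard (SetLike.coe_ssubset_coe.2 hlt) (Set.toFinite _)
    rw [← Nat.card_coe_set_eq, ← Nat.card_coe_set_eq, SetLike.coe_sort_coe, SetLike.coe_sort_coe]
      at h2 h3
    rw [hAc, hi] at h2
    rw [hi, hj] at h3
    have h2' := (Nat.pow_lt_pow_iff_right hp.out.one_lt).1 h2
    have h3' := (Nat.pow_lt_pow_iff_right hp.out.one_lt).1 h3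
    have hDu : ⁅D, zpowers u⁆ = ⊥ := eq_bot_of_card_eq _ (by
      rw [hj, show j = 0 by omega, pow_zero])
    have huc : zpowers u ≤ centralizer (D : Set G) :=
      commutator_eq_bot_iff_le_centralizer.1 (by rw [Subgroup.commutator_comm]; exact hDu)
    refine huC ⟨huP, mem_centralizer_iff.2 fun b hb => ?_⟩
    have hzD : z ∉ D := fun hzD => hc (by
      have : zpowers z = D := eq_of_le_of_card_ge (zpowers_le.2 hzD) (by
        rw [Nat.card_zpowers, hzo, hi]
        calc p ^ i ≤ p ^ 1 := Nat.pow_le_pow_right hp.out.pos (by omega)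
          _ = p := pow_one p)
      exact this ▸ hcD)
    have hDcard : 1 < Nat.card D := one_lt_card_iff_ne_bot D |>.2 hD1
    have hle : A ≤ centralizer ({u} : Set G) := (line_sup D hDA.le hDcard hzD).trans
      (sup_le (fun d hd => mem_centralizer_singleton_iff.2
        (mem_centralizer_iff.1 (huc (mem_zpowers u)) d hd))
        (zpowers_le.2 (mem_centralizer_singleton_iff.2 (hz u huP).eq)))
    exact mem_centralizer_singleton_iff.1 (hle hb)
  -- move a generator
  obtain ⟨x, hx, hx1⟩ := X.bot_or_exists_ne_one.resolve_left fun he =>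
    hp.out.one_lt.ne (by rw [← hXc, he, card_bot])
  obtain ⟨c, hc⟩ : ∃ c, c = u * x * u⁻¹ * x⁻¹ := ⟨_, rfl⟩
  have hxA := hXA hx
  have hc1 : c ≠ 1 := by
    intro he
    rw [hc, mul_inv_eq_one] at he
    refine huC ⟨huP, mem_centralizer_iff.2 fun b hb => ?_⟩
    have hle : A ≤ centralizer ({u} : Set G) := (line_sup X hXA (by rw [hXc]; exact hp.out.one_lt) hXz).trans
      (sup_le (by
        have hXx : zpowers x = X := eq_of_le_of_card_ge (zpowers_le.2 hx) (by
          rw [Nat.card_zpowers, PGroupsBasic.orderOf_eq_of_pow_eq_one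
            (PGroupsBasic.pow_eq_one_of_card hXc hx) hx1, hXc])
        rw [← hXx]
        exact zpowers_le.2 (mem_centralizer_singleton_iff.2 (mul_inv_eq_iff_eq_mul.1 he).symm))
        (zpowers_le.2 (mem_centralizer_singleton_iff.2 (hz u huP).eq)))
    exact mem_centralizer_singleton_iff.1 (hle hb)
  have hcmem : c ∈ zpowers z := hc ▸ hcz x hxA
  have hgenc : zpowers c = zpowers z := eq_of_le_of_card_ge (zpowers_le.2 hcmem) (by
    rw [Nat.card_zpowers, Nat.card_zpowers, hzo,
      PGroupsBasic.orderOf_eq_of_pow_eq_one (p := p) ?_ hc1]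
    exact hA.2 c (hgen hcmem))
  -- the target
  have hxmem : x ∈ Y ⊔ zpowers z := line_sup Y hYA (by rw [hYc]; exact hp.out.one_lt) hYz hxA
  have hset : x ∈ ((Y : Set G) * (zpowers z : Set G) : Set G) := by
    rw [← coe_mul_of_right_le_normalizer_left Y (zpowers z) (hgen.trans fun a ha =>
      centralizer_le_normalizer _ (mem_centralizer_iff.2 fun b hb =>
        PGroupsBasic.comm_of_isMulCommutative hA.1 (hYA hb) ha))]
    exact hxmem
  obtain ⟨y, hy, w, hw, rfl⟩ := hset
  rw [← hgenc] at hw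
  obtain ⟨m, hm⟩ := mem_zpowers_iff.1 (inv_mem hw)
  have hmove : ∀ k : ℕ, u ^ k * (y * w) * (u ^ k)⁻¹ = c ^ k * (y * w) := by
    intro k
    have hcu : Commute c u := by
      obtain ⟨i, hi⟩ := mem_zpowers_iff.1 hcmem
      exact hi ▸ (hz u huP).zpow_left i
    induction k with
    | zero => simp
    | succ k ih =>
      calc u ^ (k + 1) * (y * w) * (u ^ (k + 1))⁻¹
          = u * (u ^ k * (y * w) * (u ^ k)⁻¹) * u⁻¹ := by rw [pow_succ']; group
        _ = (u * c ^ k) * (y * w) * u⁻¹ := by rw [ih]; group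
        _ = c ^ k * (u * (y * w) * u⁻¹ * (y * w)⁻¹) * (y * w) := by
              rw [← (hcu.pow_left k).eq]; group
        _ = c ^ (k + 1) * (y * w) := by rw [← hc, pow_succ]
  have hfin : IsOfFinOrder c := isOfFinOrder_of_finite c
  obtain ⟨k, hk⟩ := Submonoid.mem_powers_iff _ _ |>.1
    (hfin.mem_powers_iff_mem_zpowers.2 (zpow_mem (mem_zpowers c) m) : c ^ m ∈ Submonoid.powers c)
  refine ⟨u ^ k, pow_mem huP k, eq_of_le_of_card_ge ?_ (by
    rw [CoprimeSZ.card_conj_smul, hXc, hYc])⟩
  have hXx : zpowers (y * w) = X := eq_of_le_of_card_ge (zpowers_le.2 hx) (by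
    rw [Nat.card_zpowers, PGroupsBasic.orderOf_eq_of_pow_eq_one
      (PGroupsBasic.pow_eq_one_of_card hXc hx) hx1, hXc])
  rw [← hXx]
  rintro _ ⟨t, ht, rfl⟩
  obtain ⟨i, rfl⟩ := mem_zpowers_iff.1 (show t ∈ zpowers (y * w) from ht)
  show u ^ k * (y * w) ^ i * (u ^ k)⁻¹ ∈ Y
  rw [← conj_zpow, hmove k, hk, hm]
  have hyw : Commute y w := PGroupsBasic.comm_of_isMulCommutative hA.1 (hYA hy)
    (hgen (hgenc ▸ hw))
  rw [show w⁻¹ * (y * w) = y by rw [hyw.eq]; group]
  exact Y.zpow_mem hy i

/-- BG 11.5: Sylow subgroups over `A` are abelian. -/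
theorem Hyp.sylow_abelian {M A A₀ : Subgroup G} (h : Hyp p M A A₀) {P : Subgroup G}
    (hP : IsMaxP p P M) (hAP : A ≤ P) : IsMulCommutative P := by
  by_contra hnab
  obtain ⟨S, hPS⟩ := hP.isPGroup.exists_le_sylow
  have hnc : ¬ P ≤ centralizer (A : Set G) := fun hle => hnab
    (PGroupsBasic.isMulCommutative_mono
      (centralizer_sylow_abelian h.simple S (hAP.trans hPS) h.elem h.card_A h.maximal)
      (le_inf hPS hle))
  have hP1 : P ≠ ⊥ := by
    rintro rfl
    exact hnab (PGroupsBasic.isMulCommutative_of_forall fun x hx y _ => by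
      rw [mem_bot] at hx; simp [hx])
  obtain ⟨z, hzP, hzo, hz⟩ := exists_central_prime hP.isPGroup hP1
  have hzp : z ^ p = 1 := hzo ▸ pow_orderOf_eq_one z
  have hzA : z ∈ A :=
    mem_of_commute_maximal h.elem h.maximal hzp fun a ha => (hz a (hAP ha)).symm
  obtain ⟨g, hg, hgM⟩ := h.exists_moving hP
  set Z := zpowers z with hZ
  -- central elements of order `p` of `P` lie in `⟨z⟩`
  have hcen : ∀ w ∈ P, w ^ p = 1 → (∀ y ∈ P, Commute w y) → w ∈ Z := by
    intro w hwP hwp hwc
    by_contra hwZ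
    have hwA : w ∈ A := mem_of_commute_maximal h.elem h.maximal hwp fun a ha => (hwc a (hAP ha)).symm
    have hle : A ≤ Z ⊔ zpowers w := by
      refine (eq_of_le_of_card_ge (sup_le (zpowers_le.2 hzA) (zpowers_le.2 hwA)) ?_).ge
      obtain ⟨j, hj⟩ := IsPGroup.iff_card.1
        (h.isPGroup.to_le (sup_le (zpowers_le.2 hzA) (zpowers_le.2 hwA)))
      have hlt : Nat.card Z < Nat.card ↥(Z ⊔ zpowers w) :=
        lt_of_le_of_ne (card_le_of_le le_sup_left) fun he =>
          hwZ ((eq_of_le_of_card_ge le_sup_left he.ge).symm ▸ mem_sup_right (mem_zpowers w))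
      rw [hZ, Nat.card_zpowers, hzo, hj] at hlt
      rw [h.card_A, hj]
      refine Nat.pow_le_pow_right hp.out.pos ?_
      by_contra hj2
      interval_cases j <;> simp at hlt
      have := hp.out.one_lt; omega
    refine hnc fun y hy => mem_centralizer_iff.2 fun a ha => ?_
    have hle2 : A ≤ centralizer ({y} : Set G) := hle.trans (sup_le
      (zpowers_le.2 (mem_centralizer_singleton_iff.2 (hz y hy).eq))
      (zpowers_le.2 (mem_centralizer_singleton_iff.2 (hwc y hy).eq)))
    exact mem_centralizer_singleton_iff.1 (hle2 ha)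
  have hgZ : MulAut.conj g • Z = Z := by
    refine eq_of_le_of_card_ge ?_ (by rw [CoprimeSZ.card_conj_smul])
    rintro _ ⟨t, ht, rfl⟩
    obtain ⟨i, rfl⟩ := mem_zpowers_iff.1 (show t ∈ zpowers z from ht)
    show g * z ^ i * g⁻¹ ∈ Z
    rw [← conj_zpow]
    refine Z.zpow_mem (hcen _ ((mem_normalizer_iff.1 hg z).1 hzP)
      (by rw [conj_pow, hzp, mul_one, mul_inv_cancel]) fun y hy => ?_) i
    have h1 : g⁻¹ * y * g ∈ P := by
      have h0 := (mem_normalizer_iff.1 (inv_mem hg) y).1 hy
      rwa [inv_inv] at h0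
    calc g * z * g⁻¹ * y = g * (z * (g⁻¹ * y * g)) * g⁻¹ := by group
      _ = g * ((g⁻¹ * y * g) * z) * g⁻¹ := by rw [(hz _ h1).eq]
      _ = y * (g * z * g⁻¹) := by group
  -- `z` is fixed-point-free on `M_σ`
  have hVbot : Cfsg.sigmaCore M ⊓ centralizer ({z} : Set G) = ⊥ := by
    by_contra hne
    set V := Cfsg.sigmaCore M ⊓ centralizer ({z} : Set G) with hV
    obtain ⟨q, hq, hd⟩ := Nat.exists_prime_and_dvd (fun h1 => hne (eq_bot_of_card_eq _ h1))
    haveI := Fact.mk hq
    have hqσ := (hall_sigma h.simple h.coatom).1.2.1 q hq (hd.trans (card_dvd_of_le inf_le_left))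
    have hqp : q ≠ p := fun he => h.not_sigma (he ▸ hqσ)
    have hVM : V ≤ M := inf_le_left.trans (map_subtype_le _)
    have hPC : P ≤ centralizer ({z} : Set G) := fun y hy =>
      mem_centralizer_singleton_iff.2 (hz y hy).eq.symm
    have hPV : P ≤ normalizer (V : Set G) :=
      CoprimeAction.le_normalizer_inf (hP.le.trans (le_normalizer_core _ M))
        (hPC.trans le_normalizer)
    haveI : Group.IsSolvable V := isSolvable_of_ne_top h.simple
      fun he => h.coatom.1 (top_le_iff.1 (he ▸ hVM))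
    obtain ⟨T, hT⟩ := CoprimeAction.exists_invariant_sylow (p := q) hPV
      ((coprime_sigmaCore h.simple h.coatom (h.sigma' hP.isPGroup)).coprime_dvd_right
        (card_dvd_of_le inf_le_left)) (Or.inr inferInstance)
    set X := (T : Subgroup V).map V.subtype with hX
    have hXp : IsPGroup q X := T.isPGroup'.map _
    have hX1 : X ≠ ⊥ := fun he => T.ne_bot_of_dvd_card hd
      ((map_eq_bot_iff_of_injective _ V.subtype_injective).1 he)
    have hXV : X ≤ V := map_subtype_le _
    have hgP : MulAut.conj g • P = P := conj_le_normalizer hg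
    have hgX : P ≤ normalizer ((MulAut.conj g • X : Subgroup G) : Set G) := by
      refine le_trans ?_ (le_normalizer_map (MulAut.conj g).toMonoidHom)
      rw [← hgP]
      exact pointwise_smul_le_pointwise_smul_iff.2 hT
    have hgXC : MulAut.conj g • X ≤ centralizer ({z} : Set G) := by
      have h1 : centralizer ({z} : Set G) = centralizer (Z : Set G) := by
        rw [hZ, zpowers_eq_closure, centralizer_closure]
      rw [h1, ← hgZ, ← smul_centralizer_le, ← h1]
      exact pointwise_smul_le_pointwise_smul_iff.2 (hXV.trans inf_le_right)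
    -- inside the core of `C(z)`
    set H := centralizer ({z} : Set G) with hH
    have hz1 : z ≠ 1 := fun he => hp.out.one_lt.ne (by rw [← hzo, he, orderOf_one])
    have hHne : H ≠ ⊤ := centralizer_ne_top h.simple hz1
    haveI := isSolvable_of_ne_top h.simple hHne
    have hAH : A ≤ H := hAP.trans hPC
    have hp2 : p ≠ 2 := prime_ne_two h.simple
      ((hzo ▸ orderOf_dvd_natCard z : p ∣ Nat.card G))
    have core : ∀ W : Subgroup G, W ≤ H → A ≤ normalizer (W : Set G) → IsPGroup q W →
        W ≤ coreOf p H := by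
      intro W hW hAW hWq
      rw [← map_subgroupOf_eq_of_le hW]
      refine map_mono (S1462.result p hp2 (S1410.result h.simple p H hHne) (A.subgroupOf H)
        (W.subgroupOf H) (PGroupsBasic.isElementaryAbelian_comap_injective h.elem H.subtype_injective)
        ?_ ?_ ?_)
      · intro B hB hle
        have h1 := h.maximal (B.map H.subtype) (PGroupsBasic.isElementaryAbelian_map_hom hB _) (by
          rw [← map_subgroupOf_eq_of_le hAH]; exact map_mono hle)
        rw [← h1]
        exact (comap_map_eq_self_of_injective H.subtype_injective B).symm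
      · obtain ⟨n, hn⟩ := IsPGroup.iff_card.1 hWq
        rw [Nat.card_congr (subgroupOfEquivOfLe hW).toEquiv, hn]
        exact ((Nat.coprime_primes hq hp.out).2 hqp).pow_left n
      · intro a ha
        rw [← subgroupOf_normalizer_eq hW]
        exact hAW ha
    set W := coreOf p H with hW
    have hXW : X ≤ W := core X (hXV.trans inf_le_right) (hAP.trans hT) hXp
    have hgXW : MulAut.conj g • X ≤ W := core _ hgXC (hAP.trans hgX) (hXp.map _)
    have hAW : A ≤ normalizer (W : Set G) :=
      hAH.trans (le_normalizer.trans (le_normalizer_coreOf p H))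
    have hcopW : (Nat.card A).Coprime (Nat.card W) := by
      rw [h.card_A]; exact ((coprime_coreOf p H).symm).pow_left 2
    haveI : Group.IsSolvable W := isSolvable_of_ne_top h.simple
      fun he => hHne (top_le_iff.1 (he ▸ coreOf_le p H))
    obtain ⟨T₁, hXT₁, hAT₁⟩ := CoprimeAction.exists_invariant_sylow_ge (p := q) hAW hcopW
      (Or.inr inferInstance) hXW hXp (hAP.trans hT)
    obtain ⟨T₂, hgT₂, hAT₂⟩ := CoprimeAction.exists_invariant_sylow_ge (p := q) hAW hcopW
      (Or.inr inferInstance) hgXW (hXp.map _) (hAP.trans hgX)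
    -- the first lies in `M`
    have hT₁M : (T₁ : Subgroup W).map W.subtype ≤ M := by
      obtain ⟨Q, hXQ, hAQ, hQM, hQtop⟩ := exists_invariant_sylow_sigmaCore h.simple h.coatom hqσ
        h.le_M (h.sigma' h.isPGroup) hXp (hXV.trans hVM) (hAP.trans hT)
      obtain ⟨Q₁, hQ₁, hle⟩ := exists_maxInv_ge (A := A) (q := q) (T₁.isPGroup'.map W.subtype) hAT₁
      obtain ⟨k, hk, hkQ⟩ := maxInv_conj_of_inf h.simple h.transitivity (h.not_dvd hq hqp)
        (Nat.card G) Q Q₁ (maxInv_of_sylow_top hQtop hAQ) hQ₁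
        (ne_bot_of_le_ne_bot hX1 (le_inf hXQ (hXT₁.trans hle))) (Nat.le_add_left _ _)
      refine hle.trans ?_
      rw [hkQ]
      exact (pointwise_smul_le_pointwise_smul_iff.2 hQM.le).trans
        (conj_le_normalizer (le_normalizer (h.centCore_le hk))).le
    obtain ⟨c, hc, hcT⟩ := CoprimeAction.invariant_sylow_conj hAW hcopW (Or.inr inferInstance)
      T₁ T₂ hAT₁ hAT₂
    have hgXM : MulAut.conj g • X ≤ M := by
      refine hgT₂.trans ?_
      rw [← hcT]
      rintro _ ⟨w, hw, rfl⟩
      rw [Sylow.pointwise_smul_def] at hw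
      obtain ⟨t, ht, rfl⟩ := hw
      show ((c * t * c⁻¹ : W) : G) ∈ M
      exact M.mul_mem (M.mul_mem (h.centralizer_le hc) (hT₁M ⟨t, ht, rfl⟩))
        (M.inv_mem (h.centralizer_le hc))
    have hgXσ : MulAut.conj g • X ≤ Cfsg.sigmaCore M :=
      le_sigmaCore h.simple h.coatom hgXM (piNat_of_isPGroup (hXp.map _) hqσ)
    have hbot : MulAut.conj g • X ≤ ⊥ := by
      rw [← h.sigmaCore_inf_conj hgM ((hAP.trans hgP.ge).trans
        (pointwise_smul_le_pointwise_smul_iff.2 hP.le))]
      exact le_inf hgXσ (pointwise_smul_le_pointwise_smul_iff.2 (hXV.trans hVM))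
    refine hX1 (le_bot_iff.1 ?_)
    have := pointwise_smul_le_pointwise_smul_iff (a := (MulAut.conj g)⁻¹).2 hbot
    rwa [inv_smul_smul, Subgroup.smul_bot] at this
  -- `g • A` acts without fixed points, which is absurd
  set A' := MulAut.conj g • A with hA'
  have hA'P : A' ≤ P := conj_le_of_mem_normalizer hg hAP
  have hA'e : Cfsg.IsElementaryAbelian p A' := PGroupsBasic.isElementaryAbelian_map_hom h.elem _
  have hA'c : Nat.card A' = p ^ 2 := by rw [hA', CoprimeSZ.card_conj_smul, h.card_A]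
  have hA'max : ∀ B : Subgroup G, Cfsg.IsElementaryAbelian p B → A' ≤ B → B = A' := by
    intro B hB hle
    have h1 := h.maximal ((MulAut.conj g)⁻¹ • B) (PGroupsBasic.isElementaryAbelian_map_hom hB _)
      (pointwise_smul_subset_iff.1 hle)
    rw [hA', ← h1, smul_inv_smul]
  have hzA₀ : z ∉ A₀ := by
    intro hzmem
    refine hgM (h.normalizer_line ?_)
    have hA₀ : zpowers z = A₀ := eq_of_le_of_card_ge (zpowers_le.2 hzmem)
      (by rw [Nat.card_zpowers, hzo, h.card_line])
    rw [← hA₀, mem_normalizer_iff]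
    intro x
    conv_rhs => rw [show zpowers z = MulAut.conj g • zpowers z from hgZ.symm]
    exact (smul_mem_pointwise_smul_iff (a := MulAut.conj g) (S := zpowers z) (x := x)).symm
  obtain ⟨hLM, hLfix⟩ := h.fpf_of_normalizer hP hAP hg hgM
  have hnc' : ¬ P ≤ centralizer (A' : Set G) := by
    intro hle
    refine hnc fun y hy => mem_centralizer_iff.2 fun a ha => ?_
    have h1 : g * y * g⁻¹ ∈ P := (mem_normalizer_iff.1 hg y).1 hy
    have h2 := mem_centralizer_iff.1 (hle h1) (g * a * g⁻¹) ⟨a, ha, rfl⟩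
    calc a * y = g⁻¹ * (g * a * g⁻¹ * (g * y * g⁻¹)) * g := by group
      _ = g⁻¹ * (g * y * g⁻¹ * (g * a * g⁻¹)) * g := by rw [h2]
      _ = y * a := by group
  have hgz : z ∉ MulAut.conj g • A₀ := by
    intro hzmem
    refine hzA₀ ?_
    have h1 : zpowers z = MulAut.conj g • A₀ := eq_of_le_of_card_ge (zpowers_le.2 hzmem)
      (by rw [Nat.card_zpowers, hzo, CoprimeSZ.card_conj_smul, h.card_line])
    have h2 : MulAut.conj g • Z = MulAut.conj g • A₀ := hgZ.trans h1
    exact smul_left_cancel _ h2 ▸ mem_zpowers z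
  refine sigmaCore_ne_bot h.simple h.coatom (le_bot_iff.1 ?_)
  haveI : IsMulCommutative A' := hA'e.1
  refine CoprimeGen.le_of_centralizers (A := A') (not_isCyclic_of_sq_le hA'e hA'c.ge)
    ((hA'P.trans hP.le).trans (le_normalizer_core _ M))
    (coprime_sigmaCore h.simple h.coatom (h.sigma' (hP.isPGroup.to_le hA'P))) fun a ha ha1 => ?_
  rw [le_bot_iff]
  by_cases haz : a ∈ Z
  · rw [← hVbot]
    refine le_antisymm (inf_le_inf_left _ ?_) (inf_le_inf_left _ ?_)
    · intro x hx
      have hgen : zpowers a = Z := eq_of_le_of_card_ge (zpowers_le.2 haz) (by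
        rw [hZ, Nat.card_zpowers, Nat.card_zpowers, hzo,
          PGroupsBasic.orderOf_eq_of_pow_eq_one (hA'e.2 a ha) ha1])
      have : z ∈ zpowers a := by rw [hgen]; exact mem_zpowers z
      obtain ⟨i, hi⟩ := mem_zpowers_iff.1 this
      refine mem_centralizer_singleton_iff.2 ?_
      rw [← hi]
      exact (Commute.zpow_right (mem_centralizer_singleton_iff.1 hx) i).eq
    · intro x hx
      obtain ⟨i, hi⟩ := mem_zpowers_iff.1 haz
      refine mem_centralizer_singleton_iff.2 ?_
      rw [← hi]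
      exact (Commute.zpow_right (mem_centralizer_singleton_iff.1 hx) i).eq
  · have hzX : z ∉ zpowers a := fun hz' => haz (by
      have hgen : Z = zpowers a := eq_of_le_of_card_ge (zpowers_le.2 hz') (by
        rw [hZ, Nat.card_zpowers, Nat.card_zpowers, hzo,
          PGroupsBasic.orderOf_eq_of_pow_eq_one (hA'e.2 a ha) ha1])
      rw [hgen]; exact mem_zpowers a)
    obtain ⟨v, hv, hvX⟩ := line_conj hP.isPGroup hA'P hA'e hA'c hA'max hnc' hzo hz hzP
      (X := MulAut.conj g • A₀) (Y := zpowers a)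
      (pointwise_smul_le_pointwise_smul_iff.2 h.line_le)
      (by rw [CoprimeSZ.card_conj_smul, h.card_line]) hgz (zpowers_le.2 ha)
      (by rw [Nat.card_zpowers, PGroupsBasic.orderOf_eq_of_pow_eq_one (hA'e.2 a ha) ha1]) hzX
    have hcl : centralizer ({a} : Set G) = centralizer ((zpowers a : Subgroup G) : Set G) := by
      rw [zpowers_eq_closure, centralizer_closure]
    have hvσ : MulAut.conj v • Cfsg.sigmaCore M = Cfsg.sigmaCore M :=
      conj_le_normalizer (le_normalizer_core _ M (hP.le hv))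
    rw [hcl, ← hvX, ← smul_centralizer_le, ← hvσ, ← Subgroup.smul_inf, hLfix, Subgroup.smul_bot]

end Cfsg.Agent.BGExceptional
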