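import Cfsg.Agent.Lib.BGNonTISetup
import Cfsg.Agent.S1412
import Cfsg.Agent.S1417
import Cfsg.Agent.S1419
import Cfsg.Agent.S1453

/-!
Bender-Glauberman 15.7, second part: the structure of the nilpotent kernel `M_σ`.
-/

set_option autoImplicit false
set_option linter.style.haveILetI false

namespace Cfsg.Agent.BGNonTI

open Subgroup
open Cfsg.Agent.BGUnique
open Cfsg.Agent.BGTypeP (cj)
open Cfsg.Agent.HallCore
open scoped commutatorElement Pointwise

variable {G : Type*} [Group G] [Finite G]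

/-- The data shared by the proofs: `x` has prime order `p` and lies in `M_σ ∩ M_σ^g`. -/
structure Config (M : Subgroup G) (g : G) (p : ℕ) (x : G) : Prop where
  hG : Cfsg.IsMinSimpleOddOrder G
  hM : IsCoatom M
  hg : g ∉ M
  nilp : Group.IsNilpotent ↥(Cfsg.sigmaCore M)
  hp : p.Prime
  hx : x ∈ Cfsg.sigmaCore M
  hx' : g⁻¹ * x * g ∈ Cfsg.sigmaCore M
  order : orderOf x = p
  le_inter : ∀ y ∈ Cfsg.sigmaCore M, g⁻¹ * y * g ∈ Cfsg.sigmaCore M →
    y ∈ Cfsg.fittingOf M ⊓ cj g (Cfsg.fittingOf M)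
  inter_cyclic : IsCyclic ↥(Cfsg.fittingOf M ⊓ cj g (Cfsg.fittingOf M))

/-- The `p`-core of `M_σ`. -/
abbrev P (M : Subgroup G) (p : ℕ) : Subgroup G := BGFittingUnique.Oc p (Cfsg.sigmaCore M)

namespace Config

variable {M : Subgroup G} {g : G} {p : ℕ} {x : G} (c : Config M g p x)
include c

omit [Finite G] in
theorem x_ne_one : x ≠ 1 := fun h => c.hp.one_lt.ne (by rw [← c.order, h, orderOf_one])

omit [Finite G] in
theorem order' : orderOf (g⁻¹ * x * g) = p := by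
  rw [← c.order, ← BGTypeP.orderOf_conj g⁻¹ x, inv_inv]

theorem p_mem_sigma : p ∈ Cfsg.sigma M :=
  BGTypeP.piNat_mem_sigmaCore c.hx p c.hp (dvd_of_eq c.order.symm)

omit c in
theorem oc_le_M (q : ℕ) : P M q ≤ M :=
  (BGFittingUnique.Oc_le q _).trans (BGTypeSetup.sigmaCore_le M)

omit c in
theorem le_normalizer_oc (q : ℕ) : M ≤ normalizer (P M q : Set G) :=
  (BGTypeSetup.le_normalizer_sigmaCore M).trans (BGFittingUnique.normalizer_le_Oc q _)

theorem oc_isMaxP_M {q : ℕ} [Fact q.Prime] (hq : q ∈ Cfsg.sigma M) : IsMaxP q (P M q) M :=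
  ⟨oc_le_M q, BGFittingUnique.isPGroup_Oc q _, fun _ hle hQM hQ => le_antisymm
    (le_oc c.nilp hQ (BGTypeP.le_sigmaCore c.hG c.hM hQM (BGSigma.piNat_of_isPGroup hQ hq))) hle⟩

theorem oc_isMaxP_top {q : ℕ} [Fact q.Prime] (hq : q ∈ Cfsg.sigma M) : IsMaxP q (P M q) ⊤ :=
  BGSigma.isMaxP_top_of_sigma hq (c.oc_isMaxP_M hq)

theorem normalizer_oc {q : ℕ} (h : P M q ≠ ⊥) : normalizer (P M q : Set G) = M :=
  BGTypeSetup.normalizer_eq_of_normal c.hG c.hM h (oc_le_M q) (le_normalizer_oc q)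

theorem x_mem_oc [Fact p.Prime] : x ∈ P M p := mem_oc c.nilp (i := 1) c.hx (by rw [c.order, pow_one])

theorem x'_mem_oc [Fact p.Prime] : g⁻¹ * x * g ∈ P M p :=
  mem_oc c.nilp (i := 1) c.hx' (by rw [c.order', pow_one])

theorem oc_p_ne_bot [Fact p.Prime] : P M p ≠ ⊥ := fun h =>
  c.x_ne_one (mem_bot.1 (h ▸ c.x_mem_oc))

/-- A uniqueness subgroup of `M` cannot commute with `x` and `x^g`. -/
theorem not_unique {D : Subgroup G} (hDM : D ≤ M) (h1 : ∀ d ∈ D, Commute x d)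
    (h2 : ∀ d ∈ D, Commute (g⁻¹ * x * g) d) : ¬ Cfsg.InUniqueMaximal D := fun hD =>
  no_unique c.hG c.hM c.hg hDM hD c.x_ne_one h1 fun d hd => by
    simpa [mul_assoc] using (h2 d hd).map (MulAut.conj g).toMonoidHom

theorem oc_not_unique {q : ℕ} [Fact q.Prime] (hqp : q ≠ p) : ¬ Cfsg.InUniqueMaximal (P M q) :=
  haveI := Fact.mk c.hp
  c.not_unique (oc_le_M q) (fun _ hd => commute_oc c.nilp hqp c.hx c.order hd)
    fun _ hd => commute_oc c.nilp hqp c.hx' c.order' hd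

theorem oc_comm {q : ℕ} [Fact q.Prime] (hqp : q ≠ p) : IsMulCommutative (P M q) :=
  by_contra fun h => c.oc_not_unique hqp
    (S1422.result c.hG q _ (BGFittingUnique.isPGroup_Oc q _) h)

theorem oc_rank {q : ℕ} [Fact q.Prime] (hqp : q ≠ p) : Cfsg.PRankLE q 2 (P M q) :=
  by_contra fun h => c.oc_not_unique hqp
    (BGSigma.unique_of_rank c.hG (fun e => c.hM.1 (top_le_iff.1 (e ▸ oc_le_M q))) h)

theorem sigmaCore_rank {q : ℕ} [Fact q.Prime] (hqp : q ≠ p) :
    Cfsg.PRankLE q 2 ↥(Cfsg.sigmaCore M) :=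
  BGUnique.pRankLE_of_sylow_le (oc_isMaxP c.nilp q) (c.oc_rank hqp)

theorem oc_not_isCyclic [Fact p.Prime] : ¬ IsCyclic ↥(P M p) := by
  intro hc
  haveI := hc
  have hN : normalizer (zpowers x : Set G) = M :=
    BGTypeSetup.normalizer_eq_of_normal c.hG c.hM (fun h => c.x_ne_one (zpowers_eq_bot.1 h))
      (zpowers_le.2 (oc_le_M p c.x_mem_oc))
      (le_normalizer_zpowers_of_cyclic (le_normalizer_oc p) c.x_mem_oc)
  have h1 : g⁻¹ * x * g ∈ zpowers x :=
    mem_zpowers_of_orderOf_eq c.x_mem_oc c.x'_mem_oc (c.order'.trans c.order.symm)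
  have hmap : cj g⁻¹ (zpowers x) = zpowers x := by
    rw [cj, MonoidHom.map_zpowers]
    refine eq_of_le_of_card_ge (zpowers_le.2 (by simpa using h1)) (le_of_eq ?_)
    rw [Nat.card_zpowers, Nat.card_zpowers]
    exact (BGTypeP.orderOf_conj g⁻¹ x).symm
  have hgi : g⁻¹ ∈ normalizer (zpowers x : Set G) :=
    CoprimeAction.mem_normalizer_of_conj_smul_eq hmap
  rw [hN] at hgi
  exact c.hg (by simpa using inv_mem hgi)

/-! ### The abelian case -/

theorem rankLE_of_comm (hS : IsMulCommutative ↥(Cfsg.sigmaCore M)) :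
    Cfsg.RankLE 2 ↥(Cfsg.sigmaCore M) := by
  intro q hq
  haveI := Fact.mk hq
  by_cases hqp : q = p
  swap
  · exact c.sigmaCore_rank hqp
  refine by_contra fun h => c.not_unique (BGTypeSetup.sigmaCore_le M) (fun d hd => ?_)
    (fun d hd => ?_) (BGSigma.unique_of_rank c.hG
      (fun e => c.hM.1 (top_le_iff.1 (e ▸ BGTypeSetup.sigmaCore_le M))) h)
  · exact PGroupsBasic.comm_of_isMulCommutative hS c.hx hd
  · exact PGroupsBasic.comm_of_isMulCommutative hS c.hx' hd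

theorem not_rankLE_one : ¬ Cfsg.RankLE 1 ↥(Cfsg.sigmaCore M) := by
  intro h
  haveI := Fact.mk c.hp
  obtain ⟨E, hEP, hE, hEc⟩ := BGUnique.exists_elementary_sq_of_noncyclic c.hG
    (BGFittingUnique.isPGroup_Oc p _) c.oc_not_isCyclic
  have h1 := BGSigma.card_le_of_pRankLE (h p c.hp) (hEP.trans (BGFittingUnique.Oc_le p _)) hE
  rw [hEc] at h1
  have := (Nat.pow_le_pow_iff_right c.hp.one_lt).1 h1
  omega

/-! ### The nonabelian case -/

theorem oc_not_comm (hS : ¬ IsMulCommutative ↥(Cfsg.sigmaCore M)) : ¬ IsMulCommutative (P M p) :=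
  fun h => hS (isMulCommutative_of_oc c.nilp fun q hq => by
    haveI := Fact.mk hq
    by_cases hqp : q = p
    · subst hqp; exact h
    · exact c.oc_comm hqp)

variable [Fact p.Prime] (hP : ¬ IsMulCommutative (P M p))
include hP

omit c in
theorem oc_unique (hG : Cfsg.IsMinSimpleOddOrder G) : Cfsg.InUniqueMaximal (P M p) :=
  S1422.result hG p _ (BGFittingUnique.isPGroup_Oc p _) hP

theorem centralizer_not_le : ¬ centralizer ({x} : Set G) ≤ M := by
  intro hle
  have hxP' : x ∈ cj g (P M p) := BGTypeP.mem_cj.2 c.x'_mem_oc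
  set C : Subgroup G := cj g (P M p) ⊓ centralizer ({x} : Set G) with hC
  have hCX : C ≤ Cfsg.fittingOf M ⊓ cj g (Cfsg.fittingOf M) := by
    intro y hy
    obtain ⟨hy1, hy2⟩ := mem_inf.1 hy
    have h1 : g⁻¹ * y * g ∈ P M p := BGTypeP.mem_cj.1 hy1
    refine c.le_inter y (BGTypeP.mem_sigmaCore c.hG c.hM (hle hy2) ?_) (BGFittingUnique.Oc_le p _ h1)
    have h2 := BGTypeP.piNat_orderOf_conj (BGTypeP.piNat_orderOf (BGSigma.piNat_of_isPGroup
      (BGFittingUnique.isPGroup_Oc p (Cfsg.sigmaCore M)) c.p_mem_sigma) h1) g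
    simpa [mul_assoc] using h2
  haveI := c.inter_cyclic
  haveI : IsCyclic ↥C := isCyclic_of_injective (inclusion hCX) (inclusion_injective hCX)
  -- a central element of `P^g` of order `p`
  obtain ⟨z, hzP, hz1, hzc⟩ : ∃ z ∈ P M p, orderOf z = p ∧ ∀ a ∈ P M p, Commute a z := by
    haveI : Nontrivial ↥(P M p) := (nontrivial_iff_ne_bot _).2 c.oc_p_ne_bot
    have hp := BGFittingUnique.isPGroup_Oc p (Cfsg.sigmaCore M)
    haveI := hp.center_nontrivial
    obtain ⟨n, hn, hn'⟩ := hp.to_subgroup (center ↥(P M p)) |>.nontrivial_iff_card.1 inferInstance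
    obtain ⟨z, hz⟩ := exists_prime_orderOf_dvd_card' (G := center ↥(P M p)) p
      (hn' ▸ dvd_pow_self p (Nat.pos_iff_ne_zero.1 hn))
    refine ⟨((z : ↥(P M p)) : G), (z : ↥(P M p)).2, ?_, fun a ha => ?_⟩
    · rw [Subgroup.orderOf_coe, Subgroup.orderOf_coe, hz]
    · exact congrArg Subtype.val (mem_center_iff.1 z.2 ⟨a, ha⟩)
  have hzC : g * z * g⁻¹ ∈ C := by
    refine mem_inf.2 ⟨BGTypeP.conj_mem_cj.2 hzP, mem_centralizer_singleton_iff.2 ?_⟩
    simpa [mul_assoc] using (((hzc _ c.x'_mem_oc).map (MulAut.conj g).toMonoidHom).eq).symm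
  have hxC : x ∈ C := mem_inf.2 ⟨hxP', mem_centralizer_singleton_iff.2 rfl⟩
  have h1 : x ∈ zpowers (g * z * g⁻¹) := mem_zpowers_of_orderOf_eq hzC hxC
    (by rw [BGTypeP.orderOf_conj, hz1, c.order])
  have h2 : ∀ a ∈ cj g (P M p), a ∈ C := by
    intro a ha
    refine mem_inf.2 ⟨ha, mem_centralizer_singleton_iff.2 ?_⟩
    obtain ⟨k, hk⟩ := mem_zpowers_iff.1 h1
    have h3 : Commute a (g * z * g⁻¹) := by
      have := (hzc _ (BGTypeP.mem_cj.1 ha)).map (MulAut.conj g).toMonoidHom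
      simpa [mul_assoc] using this
    exact hk ▸ (h3.zpow_right k).eq
  refine hP (PGroupsBasic.isMulCommutative_of_forall fun a ha b hb => ?_)
  have h4 : (⟨_, h2 _ (BGTypeP.conj_mem_cj.2 ha)⟩ : C) * ⟨_, h2 _ (BGTypeP.conj_mem_cj.2 hb)⟩ =
      ⟨_, h2 _ (BGTypeP.conj_mem_cj.2 hb)⟩ * ⟨_, h2 _ (BGTypeP.conj_mem_cj.2 ha)⟩ := by
    obtain ⟨γ, hγ⟩ := IsCyclic.exists_generator (α := C)
    obtain ⟨i, hi⟩ := mem_zpowers_iff.1 (hγ ⟨_, h2 _ (BGTypeP.conj_mem_cj.2 ha)⟩)
    obtain ⟨j, hj⟩ := mem_zpowers_iff.1 (hγ ⟨_, h2 _ (BGTypeP.conj_mem_cj.2 hb)⟩)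
    rw [← hi, ← hj, ← zpow_add, ← zpow_add, add_comm]
  exact mul_left_cancel (a := g) (mul_right_cancel (b := g⁻¹)
    (by simpa [mul_assoc] using congrArg Subtype.val h4))

theorem not_unique_centralizer {D : Subgroup G} (hDM : D ≤ M)
    (hD : D ≤ centralizer ({x} : Set G)) : ¬ Cfsg.InUniqueMaximal D := fun h =>
  c.centralizer_not_le hP
    (BGUnique.le_of_unique h c.hM hDM hD (BGTransitivity.centralizer_ne_top c.hG c.x_ne_one))

theorem centralizer_oc_comm : IsMulCommutative ↥(P M p ⊓ centralizer ({x} : Set G)) :=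
  by_contra fun h => c.not_unique_centralizer hP (inf_le_left.trans (oc_le_M p)) inf_le_right
    (S1422.result c.hG p _ ((BGFittingUnique.isPGroup_Oc p _).to_le inf_le_left) h)

theorem centralizer_oc_rank : Cfsg.PRankLE p 2 ↥(P M p ⊓ centralizer ({x} : Set G)) :=
  by_contra fun h => c.not_unique_centralizer hP (inf_le_left.trans (oc_le_M p)) inf_le_right
    (BGSigma.unique_of_rank c.hG
      (fun e => c.hM.1 (top_le_iff.1 (e ▸ inf_le_left.trans (oc_le_M p)))) h)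

theorem x_not_central : ¬ P M p ≤ centralizer ({x} : Set G) := fun h =>
  c.not_unique_centralizer hP (oc_le_M p) h (oc_unique hP c.hG)

/-- The centre of `P` is cyclic. -/
theorem center_cyclic : IsCyclic ↥(P M p ⊓ centralizer (P M p : Set G)) := by
  by_contra hnc
  obtain ⟨E, hEZ, hE, hEc⟩ := BGUnique.exists_elementary_sq_of_noncyclic c.hG
    ((BGFittingUnique.isPGroup_Oc p (Cfsg.sigmaCore M)).to_le inf_le_left) hnc
  have hcomm : ∀ e ∈ E, Commute e x := fun e he =>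
    (mem_centralizer_iff.1 (mem_inf.1 (hEZ he)).2 x c.x_mem_oc).symm
  have h1 : x ∈ E := by
    refine BGSigma.mem_of_pRankLE (c.centralizer_oc_rank hP) (le_inf (hEZ.trans inf_le_left)
      fun e he => mem_centralizer_singleton_iff.2 (hcomm e he)) hE hEc.ge
      (mem_inf.2 ⟨c.x_mem_oc, mem_centralizer_singleton_iff.2 rfl⟩)
      (c.order ▸ pow_orderOf_eq_one x) hcomm
  exact c.x_not_central hP fun a ha => mem_centralizer_singleton_iff.2
    (mem_centralizer_iff.1 (mem_inf.1 (hEZ h1)).2 a ha)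

/-- An element of order `p` of the centre, and the maximal elementary abelian group it spans
with `x`. -/
theorem exists_central : ∃ z ∈ P M p ⊓ centralizer (P M p : Set G), orderOf z = p ∧
    Cfsg.IsElementaryAbelian p (zpowers x ⊔ zpowers z : Subgroup G) ∧
    Nat.card ↥(zpowers x ⊔ zpowers z) = p ^ 2 ∧
    zpowers x ⊔ zpowers z ≤ P M p ⊓ centralizer ({x} : Set G) := by
  set Z := P M p ⊓ centralizer (P M p : Set G) with hZ
  have hd : p ∣ Nat.card Z := by
    refine BGUnique.dvd_card_of_ne_bot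
      ((BGFittingUnique.isPGroup_Oc p (Cfsg.sigmaCore M)).to_le inf_le_left) fun h => ?_
    haveI : Nontrivial ↥(P M p) := (nontrivial_iff_ne_bot _).2 c.oc_p_ne_bot
    obtain ⟨w, hw⟩ := (nontrivial_iff_exists_ne (1 : center ↥(P M p))).1
      (BGFittingUnique.isPGroup_Oc p (Cfsg.sigmaCore M)).center_nontrivial
    refine hw (Subtype.ext (Subtype.ext (mem_bot.1 (h ▸ mem_inf.2 ⟨(w : ↥(P M p)).2,
      mem_centralizer_iff.2 fun a ha => congrArg Subtype.val (mem_center_iff.1 w.2 ⟨a, ha⟩)⟩))))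
  obtain ⟨⟨z, hz⟩, hzo⟩ := exists_prime_orderOf_dvd_card' p hd
  rw [Subgroup.orderOf_mk] at hzo
  have hxz : Commute x z := mem_centralizer_iff.1 (mem_inf.1 hz).2 x c.x_mem_oc
  have hEl : Cfsg.IsElementaryAbelian p (zpowers x ⊔ zpowers z : Subgroup G) := by
    refine PGroupsBasic.isElementaryAbelian_sup
      (PGroupsBasic.isElementaryAbelian_zpowers (c.order ▸ pow_orderOf_eq_one x))
      (PGroupsBasic.isElementaryAbelian_zpowers (hzo ▸ pow_orderOf_eq_one z)) ?_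
    rintro a ha b hb
    obtain ⟨i, rfl⟩ := mem_zpowers_iff.1 ha
    obtain ⟨j, rfl⟩ := mem_zpowers_iff.1 hb
    exact ((hxz.zpow_left i).zpow_right j).symm.eq
  refine ⟨z, hz, hzo, hEl, ?_, sup_le (zpowers_le.2 (mem_inf.2 ⟨c.x_mem_oc,
    mem_centralizer_singleton_iff.2 rfl⟩)) (zpowers_le.2 (mem_inf.2 ⟨(mem_inf.1 hz).1,
      mem_centralizer_singleton_iff.2 hxz.symm.eq⟩))⟩
  have hsub : zpowers x ⊔ zpowers z ≤ P M p ⊓ centralizer ({x} : Set G) :=
    sup_le (zpowers_le.2 (mem_inf.2 ⟨c.x_mem_oc, mem_centralizer_singleton_iff.2 rfl⟩))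
      (zpowers_le.2 (mem_inf.2 ⟨(mem_inf.1 hz).1, mem_centralizer_singleton_iff.2 hxz.symm.eq⟩))
  refine le_antisymm (BGSigma.card_le_of_pRankLE (c.centralizer_oc_rank hP) hsub hEl) ?_
  obtain ⟨k, hk⟩ := IsPGroup.iff_card.1 (PGroupsBasic.isPGroup_of_isElementaryAbelian hEl)
  rw [hk]
  refine Nat.pow_le_pow_right c.hp.pos (not_lt.1 fun hlt => ?_)
  have h1 : Nat.card ↥(zpowers x ⊔ zpowers z) ≤ p := by
    rw [hk]; exact (Nat.pow_le_pow_right c.hp.pos (Nat.lt_succ_iff.1 hlt)).trans (pow_one p).le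
  have h2 : zpowers z = zpowers x ⊔ zpowers z :=
    eq_of_le_of_card_ge le_sup_right (h1.trans (by rw [Nat.card_zpowers, hzo]))
  have h3 : x ∈ Z := zpowers_le.2 hz (h2 ▸ mem_sup_left (mem_zpowers x))
  exact c.x_not_central hP fun a ha => mem_centralizer_singleton_iff.2
    (mem_centralizer_iff.1 (mem_inf.1 h3).2 a ha)

/-- The other Sylow subgroups of `M_σ` are cyclic. -/
theorem oc_isCyclic {q : ℕ} [Fact q.Prime] (hqp : q ≠ p) : IsCyclic ↥(P M q) := by
  by_contra hnc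
  have hG := c.hG
  have hQp := BGFittingUnique.isPGroup_Oc q (Cfsg.sigmaCore M)
  obtain ⟨A, hAQ, hA, hAc⟩ := BGUnique.exists_elementary_sq_of_noncyclic hG hQp hnc
  have hQne : P M q ≠ ⊥ := fun h => hnc (by rw [h]; infer_instance)
  have hqσ : q ∈ Cfsg.sigma M := by
    obtain ⟨n, hn⟩ := IsPGroup.iff_card.1 hQp
    exact BGTypeSetup.mem_sigma_of_dvd hG c.hM (Fact.out)
      ((BGUnique.dvd_card_of_ne_bot hQp hQne).trans (card_dvd_of_le (BGFittingUnique.Oc_le q _)))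
  have hQC : P M q ≤ centralizer ({x} : Set G) := fun d hd =>
    mem_centralizer_singleton_iff.2 (commute_oc c.nilp hqp c.hx c.order hd).symm.eq
  obtain ⟨L, hL, hCL⟩ :=
    BGUnique.exists_coatom_ge (BGTransitivity.centralizer_ne_top hG c.x_ne_one)
  have hLM : L ≠ M := fun h => c.centralizer_not_le hP (h ▸ hCL)
  have hqL : q ∉ Cfsg.sigma L := fun hqL => by
    have hmax : IsMaxP q (P M q) L := ⟨hQC.trans hCL, hQp,
      fun Q hPQ _ hQ => (c.oc_isMaxP_top hqσ).eq_of_le Q hPQ le_top hQ⟩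
    have h1 := BGSigma.normalizer_le_of_sigma hqL hmax
    rw [c.normalizer_oc hQne] at h1
    exact hLM (le_antisymm
      (by_contra fun hne => hL.1 (c.hM.2 L (lt_of_le_not_ge h1 hne))) h1)
  have hτq : q ∈ Cfsg.tau2 L := ⟨Fact.out, hqL, BGSigma.outside_alpha hG hL Fact.out hqL, fun hr => by
    have h1 := BGSigma.card_le_of_pRankLE hr (hAQ.trans (hQC.trans hCL)) hA
    rw [hAc] at h1
    have := (Nat.pow_le_pow_iff_right (Fact.out : q.Prime).one_lt).1 h1
    omega⟩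
  obtain ⟨z, hz, -, hE, hEc, hEC⟩ := c.exists_central hP
  have hEL : zpowers x ⊔ zpowers z ≤ L := hEC.trans (inf_le_right.trans hCL)
  have hσM : Cfsg.sigmaCore L ⊓ M = ⊥ :=
    (S1417.result hG L hL q hτq A ⟨hAQ.trans (hQC.trans hCL), hA, hAc⟩).2.2.2.2.1 M c.hM hLM.symm
      (hAQ.trans (oc_le_M q))
  have hpL : p ∉ Cfsg.sigma L := fun hpL => by
    refine c.x_ne_one (mem_bot.1 (hσM ▸ mem_inf.2 ⟨?_, BGTypeSetup.sigmaCore_le M c.hx⟩))
    refine BGTypeP.mem_sigmaCore hG hL (hCL (mem_centralizer_singleton_iff.2 rfl)) ?_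
    intro r hr hd
    rw [c.order] at hd
    exact (Nat.prime_dvd_prime_iff_eq hr c.hp).1 hd ▸ hpL
  have hτp : p ∈ Cfsg.tau2 L := ⟨c.hp, hpL, BGSigma.outside_alpha hG hL c.hp hpL, fun hr => by
    have h1 := BGSigma.card_le_of_pRankLE hr hEL hE
    rw [hEc] at h1
    have := (Nat.pow_le_pow_iff_right c.hp.one_lt).1 h1
    omega⟩
  obtain ⟨C, hC, hEC'⟩ := BGPrime.exists_compl_ge hG hL hEL fun r hr hd => by
    rw [hEc] at hd
    exact (Nat.prime_dvd_prime_iff_eq hr c.hp).1 (hr.dvd_of_dvd_pow hd) ▸ hpL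
  obtain ⟨S, hS⟩ := (c.oc_isMaxP_top c.p_mem_sigma).exists_sylow_top
  have hna : ∀ T : Sylow p G, ¬ IsMulCommutative (T : Subgroup G) := fun T hT => by
    refine hP ?_
    have hSc : IsMulCommutative (S : Subgroup G) := ⟨⟨fun u v => by
      apply (S.equiv T).injective
      rw [map_mul, map_mul]
      exact hT.is_comm.comm _ _⟩⟩
    exact hS ▸ hSc
  have h1 := (S1419.result hG L hL C hC p hτp hna _ ⟨hEC', hE, hEc⟩).1
  exact hqp (Set.mem_singleton_iff.1 (h1 ▸ hτq))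

theorem isCyclic_pPrimeCore : IsCyclic ↥(Cfsg.pPrimeCore p ↥(Cfsg.sigmaCore M)) := by
  haveI := c.nilp
  haveI : IsZGroup ↥(Cfsg.pPrimeCore p ↥(Cfsg.sigmaCore M)) := by
    refine ⟨fun q hq S => ?_⟩
    haveI := Fact.mk hq
    by_cases hqp : q = p
    · subst hqp
      have hb : (S : Subgroup ↥(Cfsg.pPrimeCore q ↥(Cfsg.sigmaCore M))) = ⊥ := by
        by_contra hne
        exact not_dvd_card_pPrimeCore q _
          ((BGUnique.dvd_card_of_ne_bot S.isPGroup' hne).trans (card_subgroup_dvd_card _))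
      rw [hb]
      infer_instance
    · let f : ↥(S : Subgroup ↥(Cfsg.pPrimeCore p ↥(Cfsg.sigmaCore M))) →* G :=
        (Cfsg.sigmaCore M).subtype.comp ((Cfsg.pPrimeCore p ↥(Cfsg.sigmaCore M)).subtype.comp
          (S : Subgroup ↥(Cfsg.pPrimeCore p ↥(Cfsg.sigmaCore M))).subtype)
      have hf : Function.Injective f := (Cfsg.sigmaCore M).subtype_injective.comp
        ((Cfsg.pPrimeCore p ↥(Cfsg.sigmaCore M)).subtype_injective.comp
          (S : Subgroup ↥(Cfsg.pPrimeCore p ↥(Cfsg.sigmaCore M))).subtype_injective)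
      have hle : f.range ≤ P M q := by
        refine le_oc c.nilp ?_ ?_
        · rw [MonoidHom.range_eq_map]
          exact (IsPGroup.to_subgroup S.isPGroup' ⊤).map f
        · rintro _ ⟨a, rfl⟩
          exact ((a : ↥(Cfsg.pPrimeCore p ↥(Cfsg.sigmaCore M))) : ↥(Cfsg.sigmaCore M)).2
      haveI := c.oc_isCyclic hP hqp
      exact isCyclic_of_injective ((inclusion hle).comp f.rangeRestrict)
        ((inclusion_injective hle).comp (g := inclusion hle) (f := f.rangeRestrict) fun a b hab =>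
          hf (show f a = f b from congrArg (fun w => ((w : f.range) : G)) hab))
  infer_instance

/-- `x` is no `p`-th power in `M_σ ∩ M_σ^g`. -/
theorem not_pow {y : G} (hy : y ∈ P M p) : y ^ p ≠ x := by
  intro hyx
  have hp2 : p ≠ 2 := BGUnique.prime_ne_two c.hG (c.order ▸ orderOf_dvd_natCard x)
  have hPp := BGFittingUnique.isPGroup_Oc p (Cfsg.sigmaCore M)
  by_cases hr : Cfsg.PRankLE p 2 ↥(P M p)
  · obtain ⟨S, hS⟩ := (c.oc_isMaxP_top c.p_mem_sigma).exists_sylow_top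
    rcases S1412.result c.hG p S (by rw [hS]; exact hr) with h | ⟨P₁, P₂, hsup, hc, -, -, hexp, hcyc, -⟩
    · exact hP (hS ▸ h)
    rw [hS] at hsup
    haveI := hcyc
    have hn : P₁ ≤ normalizer (P₂ : Set G) := fun a ha => by
      refine mem_normalizer_iff.2 fun b => ⟨fun hb => by rwa [hc a ha b hb, mul_inv_cancel_right],
        fun hb => ?_⟩
      have h2 := hc a ha _ hb
      have h3 : b = a * b * a⁻¹ := by
        calc b = a⁻¹ * (a * b * a⁻¹ * a) := by group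
          _ = a⁻¹ * (a * (a * b * a⁻¹)) := by rw [← h2]
          _ = a * b * a⁻¹ := by group
      exact h3 ▸ hb
    have hy' : y ∈ P₁ ⊔ P₂ := hsup.symm ▸ hy
    rw [← SetLike.mem_coe, coe_mul_of_left_le_normalizer_right _ _ hn] at hy'
    obtain ⟨a, ha, b, hb, hab⟩ := Set.mem_mul.1 hy'
    have hab' : Commute a b := hc a ha b hb
    have hap : a ^ p = 1 := by
      have h1 := Monoid.pow_exponent_eq_one (⟨a, ha⟩ : P₁)
      rw [hexp] at h1
      simpa using congrArg Subtype.val h1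
    have hxb : x ∈ P₂ := by
      rw [← hyx, ← hab, hab'.mul_pow, hap, one_mul]
      exact pow_mem hb p
    refine c.x_not_central hP fun d hd => mem_centralizer_singleton_iff.2 ?_
    have hd' : d ∈ P₁ ⊔ P₂ := hsup.symm ▸ hd
    rw [← SetLike.mem_coe, coe_mul_of_left_le_normalizer_right _ _ hn] at hd'
    obtain ⟨a', ha', b', hb', rfl⟩ := Set.mem_mul.1 hd'
    obtain ⟨γ, hγ⟩ := IsCyclic.exists_generator (α := P₂)
    obtain ⟨i, hi⟩ := mem_zpowers_iff.1 (hγ ⟨b', hb'⟩)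
    obtain ⟨j, hj⟩ := mem_zpowers_iff.1 (hγ ⟨x, hxb⟩)
    have hbx : Commute b' x := congrArg Subtype.val
      (show (⟨b', hb'⟩ : P₂) * ⟨x, hxb⟩ = ⟨x, hxb⟩ * ⟨b', hb'⟩ by
        rw [← hi, ← hj, ← zpow_add, ← zpow_add, add_comm])
    exact ((show Commute a' x from hc a' ha' x hxb).mul_left hbx).eq
  · obtain ⟨z, hz, -, hE, hEc, hEC⟩ := c.exists_central hP
    set E := zpowers x ⊔ zpowers z with hEdef
    have hEP : E ≤ P M p := hEC.trans inf_le_left
    have hE' : Cfsg.IsElementaryAbelian p (E.subgroupOf (P M p)) :=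
      PGroupsBasic.isElementaryAbelian_comap_injective hE (P M p).subtype_injective
    have hEc' : Nat.card (E.subgroupOf (P M p)) = p ^ 2 := by
      rw [Nat.card_congr (subgroupOfEquivOfLe hEP).toEquiv, hEc]
    have hmax : ∀ B : Subgroup ↥(P M p), Cfsg.IsElementaryAbelian p B →
        E.subgroupOf (P M p) ≤ B → B = E.subgroupOf (P M p) := by
      intro B hB hEB
      have hxB : (⟨x, c.x_mem_oc⟩ : ↥(P M p)) ∈ B := hEB (mem_sup_left (mem_zpowers x) : x ∈ E)
      have hB' : B.map (P M p).subtype ≤ P M p ⊓ centralizer ({x} : Set G) := by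
        rintro _ ⟨b, hb, rfl⟩
        exact mem_inf.2 ⟨b.2, mem_centralizer_singleton_iff.2
          (congrArg Subtype.val (PGroupsBasic.comm_of_isMulCommutative hB.1 hb hxB))⟩
      have h1 := BGSigma.card_le_of_pRankLE (c.centralizer_oc_rank hP) hB'
        (PGroupsBasic.isElementaryAbelian_map_hom hB _)
      rw [card_map_of_injective (P M p).subtype_injective, ← hEc'] at h1
      exact (eq_of_le_of_card_ge hEB h1).symm
    obtain ⟨hnot, -, -, hchar, hidx⟩ := S1453.result p hp2 hPp hr _ hE' hEc' hmax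
    set T := centralizer ((closure {w : ↥(P M p) | w ∈ Subgroup.upperCentralSeries ↥(P M p) 2 ∧ w ^ p = 1} :
      Subgroup ↥(P M p)) : Set ↥(P M p))
    haveI : T.Characteristic := hchar
    haveI : T.Normal := inferInstance
    refine hnot fun w hw => ?_
    have hxT : (⟨x, c.x_mem_oc⟩ : ↥(P M p)) ∈ T := by
      have h1 := pow_index_mem T (⟨y, hy⟩ : ↥(P M p))
      rw [show T.index = p from hidx] at h1
      have h2 : (⟨y, hy⟩ : ↥(P M p)) ^ p = ⟨x, c.x_mem_oc⟩ := Subtype.ext (by simpa using hyx)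
      rwa [h2] at h1
    have hzT : (⟨z, (mem_inf.1 hz).1⟩ : ↥(P M p)) ∈ T :=
      mem_centralizer_iff.2 fun u _ => Subtype.ext (mem_centralizer_iff.1 (mem_inf.1 hz).2 u u.2)
    have hw' : (w : G) ∈ E := hw
    have : E ≤ T.map (P M p).subtype := sup_le (zpowers_le.2 ⟨_, hxT, rfl⟩) (zpowers_le.2 ⟨_, hzT, rfl⟩)
    obtain ⟨w', hw'', he⟩ := this hw'
    exact Subtype.ext he ▸ hw''

end Config

end Cfsg.Agent.BGNonTI
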