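import Cfsg.Agent.Lib.BGTypeSetup
import Cfsg.Agent.Lib.BGTypePBase
import Cfsg.Agent.Lib.BGPrimeCompl
import Cfsg.Agent.Lib.BGSigmaRank
import Cfsg.Agent.Lib.BGSigmaDisjoint
import Cfsg.Agent.S1422
import Cfsg.Agent.S1426
import Cfsg.Agent.S1437
import Cfsg.Agent.S1439

/-!
Bender-Glauberman 15.7, first part: nilpotent Hall kernels that are not TI.
-/

set_option autoImplicit false
set_option linter.style.haveILetI false

namespace Cfsg.Agent.BGNonTI

open Subgroup
open Cfsg.Agent.BGUnique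
open Cfsg.Agent.BGTypeP (cj)
open Cfsg.Agent.HallCore
open scoped commutatorElement Pointwise

variable {G : Type*} [Group G] [Finite G]

/-! ### Nilpotent subgroups -/

section nilpotent

variable {H : Subgroup G}

theorem le_oc (hH : Group.IsNilpotent H) {q : ℕ} [Fact q.Prime] {Y : Subgroup G}
    (hY : IsPGroup q Y) (hYH : Y ≤ H) : Y ≤ BGFittingUnique.Oc q H := by
  haveI := hH
  obtain ⟨T, hT⟩ := (hY.comap_of_injective H.subtype H.subtype_injective).exists_le_sylow
  haveI : (T : Subgroup H).Normal := inferInstance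
  rw [← map_subgroupOf_eq_of_le hYH]
  exact map_mono (hT.trans (le_pCore T.isPGroup'))

theorem mem_oc (hH : Group.IsNilpotent H) {q : ℕ} [hq : Fact q.Prime] {x : G} (hx : x ∈ H) {i : ℕ}
    (hi : orderOf x = q ^ i) : x ∈ BGFittingUnique.Oc q H :=
  le_oc hH (IsPGroup.of_card (G := zpowers x) (p := q) (n := i) (by rw [Nat.card_zpowers, hi]))
    (zpowers_le.2 hx) (mem_zpowers x)

theorem oc_isMaxP (hH : Group.IsNilpotent H) (q : ℕ) [Fact q.Prime] :
    IsMaxP q (BGFittingUnique.Oc q H) H :=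
  ⟨BGFittingUnique.Oc_le q H, BGFittingUnique.isPGroup_Oc q H,
    fun _ hle hQH hQ => le_antisymm (le_oc hH hQ hQH) hle⟩

theorem commute_of_coprime (hH : Group.IsNilpotent H) {x y : G} (hx : x ∈ H) (hy : y ∈ H)
    (hc : (orderOf x).Coprime (orderOf y)) : Commute x y := by
  haveI := hH
  have h : Commute (⟨x, hx⟩ : H) ⟨y, hy⟩ := FittingHallBasic.commute_of_coprime_orderOf
    (by rwa [Subgroup.orderOf_mk, Subgroup.orderOf_mk])
  exact congrArg Subtype.val h.eq

/-- Elements of `q`-power order commute with `p`-elements in a nilpotent group. -/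
theorem commute_oc (hH : Group.IsNilpotent H) {p q : ℕ} [hp : Fact p.Prime] [hq : Fact q.Prime]
    (hpq : q ≠ p) {x y : G} (hx : x ∈ H) (hxp : orderOf x = p) (hy : y ∈ BGFittingUnique.Oc q H) :
    Commute x y := by
  refine commute_of_coprime hH hx (BGFittingUnique.Oc_le q H hy) ?_
  rw [hxp]
  exact ((BGFittingUnique.coprime_card_of_qgroup (BGFittingUnique.isPGroup_Oc q H)
    fun hd => hpq ((Nat.prime_dvd_prime_iff_eq hq.out hp.out).1 hd)).coprime_dvd_left
      (orderOf_dvd_natCard _ hy)).symm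

theorem isMulCommutative_of_oc (hH : Group.IsNilpotent H)
    (h : ∀ q : ℕ, q.Prime → IsMulCommutative (BGFittingUnique.Oc q H)) : IsMulCommutative H := by
  haveI := hH
  have key : H ≤ centralizer (H : Set G) := by
    have h1 : ∀ {A J : Subgroup G}, (∀ r : ℕ, r.Prime → ∀ a ∈ A,
        (∃ k : ℕ, orderOf a = r ^ k) → a ∈ J) → A ≤ J := by
      intro A J hAJ
      rw [← subgroupOf_eq_top, ← index_eq_one]
      by_contra hne
      obtain ⟨r, hr, hd⟩ := Nat.exists_prime_and_dvd hne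
      haveI := Fact.mk hr
      let S : Sylow r A := default
      refine S.not_dvd_index (hd.trans (index_dvd_of_le fun a ha => ?_))
      obtain ⟨k, hk⟩ := IsPGroup.iff_orderOf.1 S.isPGroup' ⟨a, ha⟩
      rw [Subgroup.orderOf_mk, ← Subgroup.orderOf_coe] at hk
      exact hAJ r hr a a.2 ⟨k, hk⟩
    refine h1 fun r hr a ha ⟨i, hi⟩ => ?_
    have h2 : H ≤ centralizer ({a} : Set G) := by
      refine h1 fun s hs b hb ⟨j, hj⟩ => mem_centralizer_singleton_iff.2 ?_
      haveI := Fact.mk hr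
      haveI := Fact.mk hs
      by_cases hrs : r = s
      · subst hrs
        exact PGroupsBasic.comm_of_isMulCommutative (h r hr) (mem_oc hH hb hj) (mem_oc hH ha hi)
      · exact ((commute_of_coprime hH ha hb (by
          rw [hi, hj]; exact ((Nat.coprime_primes hr hs).2 hrs).pow i j)).eq).symm
    exact mem_centralizer_iff.2 fun b hb => (mem_centralizer_singleton_iff.1 (h2 hb))
  exact ⟨⟨fun u v => Subtype.ext (mem_centralizer_iff.1 (key v.2) u u.2)⟩⟩

end nilpotent

/-- In a cyclic group two elements of equal order generate the same subgroup. -/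
theorem mem_zpowers_of_orderOf_eq {D : Subgroup G} [IsCyclic D] {y z : G} (hy : y ∈ D) (hz : z ∈ D)
    (h : orderOf z = orderOf y) : z ∈ zpowers y := by
  classical
  haveI := Fintype.ofFinite D
  let s : Finset D := Finset.univ.filter fun x : D => x ^ orderOf y = 1
  let t : Finset D := Finset.univ.filter fun x : D => (x : G) ∈ zpowers y
  have hts : t ⊆ s := by
    intro x hx
    simp only [t, s, Finset.mem_filter, Finset.mem_univ, true_and] at hx ⊢
    obtain ⟨k, hk⟩ := hx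
    simp only at hk
    apply Subtype.ext
    push_cast
    rw [← hk, ← zpow_natCast, ← zpow_mul, mul_comm, zpow_mul, zpow_natCast, pow_orderOf_eq_one,
      one_zpow]
  haveI := Fintype.ofFinite (zpowers y)
  have ht : orderOf y ≤ t.card := by
    rw [← Nat.card_zpowers, Nat.card_eq_fintype_card]
    refine Finset.card_le_card_of_injOn (fun x : zpowers y => (⟨x, ?_⟩ : D)) ?_ ?_
    · exact (zpowers_le.mpr hy) x.2
    · intro x _
      simp [t]
    · intro u _ v _ huv
      exact Subtype.ext (congrArg Subtype.val huv :)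
  have heq : t = s := Finset.eq_of_subset_of_card_le hts
    ((IsCyclic.card_pow_eq_one_le (orderOf_pos y)).trans ht)
  have : (⟨z, hz⟩ : D) ∈ t := by
    rw [heq]
    simp only [s, Finset.mem_filter, Finset.mem_univ, true_and]
    exact Subtype.ext (by simpa [h] using pow_orderOf_eq_one z)
  simpa [t] using this

/-- Normalized cyclic subgroups: the subgroup generated by an element is normalized. -/
theorem le_normalizer_zpowers_of_cyclic {M D : Subgroup G} [IsCyclic D]
    (hn : M ≤ normalizer (D : Set G)) {y : G} (hy : y ∈ D) :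
    M ≤ normalizer (zpowers y : Set G) := by
  refine CoprimeAction.le_normalizer_of_conj_mem fun m hm z hz => ?_
  obtain ⟨k, rfl⟩ := mem_zpowers_iff.1 hz
  have h1 : m * y * m⁻¹ ∈ zpowers y := mem_zpowers_of_orderOf_eq hy
    ((mem_normalizer_iff.1 (hn hm) y).1 hy) (BGTypeP.orderOf_conj m y)
  rw [← conj_zpow]
  exact zpow_mem h1 k

/-! ### The basic configuration -/

variable {M : Subgroup G} (hG : Cfsg.IsMinSimpleOddOrder G) (hM : IsCoatom M)
include hG hM

/-- A subgroup with a unique maximal subgroup cannot commute with `x ≠ 1` together with its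
conjugate under an element outside `M`. -/
theorem no_unique {g : G} (hg : g ∉ M) {D : Subgroup G} (hDM : D ≤ M)
    (hD : Cfsg.InUniqueMaximal D) {x : G} (hx : x ≠ 1) (h1 : ∀ d ∈ D, Commute x d)
    (h2 : ∀ d ∈ D, Commute x (g * d * g⁻¹)) : False := by
  set C : Subgroup G := centralizer ({x} : Set G) with hC
  have hC0 : C ≠ ⊤ := BGTransitivity.centralizer_ne_top hG hx
  have hDC : D ≤ C := fun d hd => mem_centralizer_singleton_iff.2 (h1 d hd).symm.eq
  have hD'C : cj g D ≤ C := by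
    rintro _ ⟨d, hd, rfl⟩
    exact mem_centralizer_singleton_iff.2 (h2 d hd).symm.eq
  have hU' : Cfsg.InUniqueMaximal (cj g D) := by
    rw [show cj g D = MulAut.conj g • D from BGSigma.conj_smul_eq_map g D]
    exact unique_conj hD g
  have hcjM : IsCoatom (cj g M) := BGTypeP.isCoatom_cj g hM
  obtain ⟨L, hL, hCL⟩ := exists_coatom_ge hC0
  have e1 : M = L := eq_of_unique hD hM hDM hL (hDC.trans hCL)
  have e2 : cj g M = L := eq_of_unique hU' hcjM (BGTypeP.cj_mono g hDM) hL (hD'C.trans hCL)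
  exact hg (BGSigma.mem_of_conj_eq hG hM
    ((BGSigma.conj_smul_eq_map g M).symm.trans (e2.trans e1.symm)))

variable {g : G} (hg : g ∉ M)

omit hG hM in
theorem inf_le_self : Cfsg.fittingOf M ⊓ cj g (Cfsg.fittingOf M) ≤ M :=
  inf_le_left.trans (FittingHallBasic.fittingOf_le M)

omit hG hM in
theorem conj_mem_of_mem_inf {x : G} (hx : x ∈ Cfsg.fittingOf M ⊓ cj g (Cfsg.fittingOf M)) :
    g⁻¹ * x * g ∈ Cfsg.fittingOf M := BGTypeP.mem_cj.1 hx.2

include hg

/-- Only `σ`-primes divide the order of `F ∩ F^g`. -/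
theorem mem_sigma_of_dvd_inf {q : ℕ} (hq : q.Prime)
    (hd : q ∣ Nat.card ↥(Cfsg.fittingOf M ⊓ cj g (Cfsg.fittingOf M))) : q ∈ Cfsg.sigma M := by
  by_contra hns
  haveI := Fact.mk hq
  set F := Cfsg.fittingOf M with hFdef
  obtain ⟨⟨y, hy⟩, hyo⟩ := exists_prime_orderOf_dvd_card' q hd
  rw [Subgroup.orderOf_mk] at hyo
  set C := Cfsg.piCoreOf {r | r.Prime ∧ r ∉ Cfsg.sigma M} F with hCdef
  haveI : IsCyclic ↥C := (S1439.result hG M hM).1
  have hFn : Group.IsNilpotent ↥F := FittingHallBasic.fittingOf_isNilpotent M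
  have hmem : ∀ z ∈ F, orderOf z = q → z ∈ C := fun z hz hzo => by
    refine BGTransitivity.le_piCoreOf (BGFittingUnique.Oc_le q F)
      (BGFittingUnique.le_normalizer_Oc q F) ?_ (mem_oc hFn (i := 1) hz (by rw [hzo, pow_one]))
    intro r hr hd'
    obtain ⟨n, hn⟩ := IsPGroup.iff_card.1 (BGFittingUnique.isPGroup_Oc q F)
    have := (Nat.prime_dvd_prime_iff_eq hr hq).1 (hr.dvd_of_dvd_pow (hn ▸ hd'))
    exact ⟨hr, this ▸ hns⟩
  have hMC : M ≤ normalizer (C : Set G) :=
    (le_normalizer.trans (BGFittingUnique.normalizer_le_fittingOf M)).trans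
      (BGTransitivity.normalizer_le_normalizer_piCoreOf _ F)
  have hy0 : y ≠ 1 := fun h => by rw [h, orderOf_one] at hyo; exact hq.one_lt.ne hyo
  have hyC : y ∈ C := hmem y hy.1 hyo
  have hN : normalizer (zpowers y : Set G) = M :=
    BGTypeSetup.normalizer_eq_of_normal hG hM (fun h => hy0 (zpowers_eq_bot.1 h))
      (zpowers_le.2 (inf_le_self hy)) (le_normalizer_zpowers_of_cyclic hMC hyC)
  set z := g⁻¹ * y * g with hz
  have hzo : orderOf z = q := by
    rw [← hyo, ← BGTypeP.orderOf_conj g⁻¹ y, inv_inv]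
  have hz1 : z ∈ zpowers y := mem_zpowers_of_orderOf_eq hyC (hmem z (conj_mem_of_mem_inf hy) hzo)
    (hzo.trans hyo.symm)
  have hmap : cj g⁻¹ (zpowers y) = zpowers y := by
    rw [cj, MonoidHom.map_zpowers]
    refine eq_of_le_of_card_ge (zpowers_le.2 (by simpa [hz] using hz1)) (le_of_eq ?_)
    rw [Nat.card_zpowers, Nat.card_zpowers]
    exact (BGTypeP.orderOf_conj g⁻¹ y).symm
  have hgi : g⁻¹ ∈ normalizer (zpowers y : Set G) :=
    CoprimeAction.mem_normalizer_of_conj_smul_eq hmap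
  rw [hN] at hgi
  exact hg (by simpa using inv_mem hgi)

theorem piNat_inf :
    PiNat (Cfsg.sigma M) (Nat.card ↥(Cfsg.fittingOf M ⊓ cj g (Cfsg.fittingOf M))) :=
  fun _ hq hd => mem_sigma_of_dvd_inf hG hM hg hq hd

theorem inf_le_sigmaCore : Cfsg.fittingOf M ⊓ cj g (Cfsg.fittingOf M) ≤ Cfsg.sigmaCore M :=
  BGTypeP.le_sigmaCore hG hM inf_le_self (piNat_inf hG hM hg)

theorem conj_mem_sigmaCore {x : G} (hx : x ∈ Cfsg.fittingOf M ⊓ cj g (Cfsg.fittingOf M)) :
    g⁻¹ * x * g ∈ Cfsg.sigmaCore M := by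
  refine BGTypeP.mem_sigmaCore hG hM (FittingHallBasic.fittingOf_le M (conj_mem_of_mem_inf hx)) ?_
  have h := BGTypeP.piNat_orderOf_conj (BGTypeP.piNat_orderOf (piNat_inf hG hM hg) hx) g⁻¹
  rwa [inv_inv] at h

theorem inf_cyclic : IsCyclic ↥(Cfsg.fittingOf M ⊓ cj g (Cfsg.fittingOf M)) ∧
    ∀ p : ℕ, p.Prime → p ∣ Nat.card ↥(Cfsg.fittingOf M ⊓ cj g (Cfsg.fittingOf M)) →
      p ∉ Cfsg.beta M := by
  obtain ⟨E, -, hE⟩ := BGFinal72.exists_complIn (BGTypeSetup.sigmaCore_le M)
    (BGTypeSetup.le_normalizer_sigmaCore M)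
    (BGFinal72.coprime_relIndex_of_hall (BGSigma.hall_sigma hG hM).1)
  obtain ⟨h1, h2, -⟩ := (S1426.result hG M hM E hE).2.2 g hg
  have hle : Cfsg.fittingOf M ⊓ cj g (Cfsg.fittingOf M) ≤ Cfsg.sigmaCore M ⊓ cj g M :=
    le_inf (inf_le_sigmaCore hG hM hg)
      (inf_le_right.trans (BGTypeP.cj_mono g (FittingHallBasic.fittingOf_le M)))
  haveI := h1
  exact ⟨isCyclic_of_injective (inclusion hle) (inclusion_injective hle),
    fun p hp hd => h2 p hp (hd.trans (card_dvd_of_le hle))⟩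

variable (hX : Cfsg.fittingOf M ⊓ cj g (Cfsg.fittingOf M) ≠ ⊥)
include hX

omit hG hM hg in
theorem exists_prime : ∃ (p : ℕ) (x : G), p.Prime ∧
    x ∈ Cfsg.fittingOf M ⊓ cj g (Cfsg.fittingOf M) ∧ orderOf x = p := by
  obtain ⟨p, hp, hd⟩ := Nat.exists_prime_and_dvd
    (fun h => hX (Subgroup.eq_bot_of_card_eq _ h))
  haveI := Fact.mk hp
  obtain ⟨⟨x, hx⟩, hxo⟩ := exists_prime_orderOf_dvd_card' p hd
  rw [Subgroup.orderOf_mk] at hxo
  exact ⟨p, x, hp, hx, hxo⟩

/-- `M_F = M_σ`. -/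
theorem fittingHallOf_eq_sigmaCore {K U : Subgroup G}
    (hKU : Cfsg.IsSigmaDecomposition M K U) : Cfsg.fittingHallOf M = Cfsg.sigmaCore M := by
  by_contra hne
  obtain ⟨-, -, -, hq, -, hqβ, Q, hQH, -, hQp, hQi, -⟩ := S1437.result hG M hM K U hKU hne
  generalize Nat.card ↥(Cfsg.sigmaCore M ⊓ centralizer (K : Set G)) = q at hq hqβ hQp hQi
  haveI := Fact.mk hq
  obtain ⟨p, x, hp, hx, hxo⟩ := exists_prime hX
  haveI := Fact.mk hp
  have hpq : q ≠ p := fun h => (inf_cyclic hG hM hg).2 p hp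
    (hxo ▸ Subgroup.orderOf_dvd_natCard _ hx) (h ▸ hqβ)
  have hQS : Q ≤ Cfsg.sigmaCore M := hQH.trans (BGFinal72.fittingHallOf_le_sigmaCore hG hM)
  have hQM : Q ≤ M := hQS.trans (BGTypeSetup.sigmaCore_le M)
  have hQmax : IsMaxP q Q M := by
    refine ⟨hQM, hQp, fun Y hQY hYM hY => le_antisymm (fun y hy => ?_) hQY⟩
    have hYS : Y ≤ Cfsg.sigmaCore M := BGTypeP.le_sigmaCore hG hM hYM
      (BGSigma.piNat_of_isPGroup hY ((BGSigma.alpha_subset hG hM) hqβ.1))
    have h1 : Q.relIndex Y ∣ Q.relIndex (Cfsg.sigmaCore M) :=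
      ⟨_, (relIndex_mul_relIndex Q Y _ hQY hYS).symm⟩
    obtain ⟨n, hn⟩ := IsPGroup.iff_card.1 hY
    have h2 : Q.relIndex Y = 1 := by
      obtain ⟨k, -, hk⟩ := (Nat.dvd_prime_pow hq).1
        (hn ▸ dvd_of_mul_left_eq _ (BGFinal72.card_mul_relIndex hQY) : Q.relIndex Y ∣ q ^ n)
      cases k with
      | zero => simpa using hk
      | succ k => exact absurd ((hk ▸ dvd_pow_self q k.succ_ne_zero).trans h1) hQi
    exact relIndex_eq_one.1 h2 hy
  have hU : Cfsg.InUniqueMaximal Q :=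
    BGSigma.unique_of_rank (p := q) hG (fun h => hM.1 (top_le_iff.1 (h ▸ hQM)))
      (BGSigma.pRankLE_of_isMaxP hQmax hqβ.1.2)
  have hFn := FittingHallBasic.fittingOf_isNilpotent M
  have hQF : Q ≤ Cfsg.fittingOf M := hQH.trans (FittingHallBasic.fittingHallOf_le_fittingOf M)
  have hcomm : ∀ z ∈ Cfsg.fittingOf M, orderOf z = p → ∀ d ∈ Q, Commute z d :=
    fun z hz hzo d hd => commute_oc hFn hpq hz hzo (le_oc hFn hQp hQF hd)
  refine no_unique hG hM hg hQM hU (x := x) ?_ (hcomm x hx.1 hxo) fun d hd => ?_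
  · intro h
    rw [h, orderOf_one] at hxo
    exact hp.one_lt.ne hxo
  · have h := hcomm _ (conj_mem_of_mem_inf hx)
      (by rw [← hxo, ← BGTypeP.orderOf_conj g⁻¹ x, inv_inv]) d hd
    have h' := h.map (MulAut.conj g).toMonoidHom
    simpa [mul_assoc] using h'

end Cfsg.Agent.BGNonTI
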