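import Cfsg.Agent.Lib.BGPrimeRank
import Cfsg.Agent.Lib.BGSigmaDisjoint
import Cfsg.Agent.S1414
import Cfsg.Agent.S1415

/-!
Nilpotency of `H'` modulo `H_β` and the easy half of Bender-Glauberman 13.1.
-/

set_option autoImplicit false
set_option linter.style.haveILetI false

namespace Cfsg.Agent.BGPrime

open Subgroup
open Cfsg.Agent.BGUnique
open Cfsg.Agent.HallCore
open scoped commutatorElement Pointwise

universe u

variable {G : Type u} [Group G] [Finite G]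
variable (hG : Cfsg.IsMinSimpleOddOrder G) {H : Subgroup G} (hH : IsCoatom H)
include hG hH

/-- Coprime subgroups of `H'` commute modulo `H_β`. -/
theorem commutator_le_beta {A B : Subgroup G} (hA : A ≤ ⁅H, H⁆) (hB : B ≤ ⁅H, H⁆)
    (hcop : (Nat.card A).Coprime (Nat.card B)) :
    ⁅A, B⁆ ≤ Cfsg.piCoreOf (Cfsg.beta H) H := by
  obtain ⟨hβ, -, ⟨U, hU, hUnil⟩, -⟩ := S1414.result hG H hH
  have hDH : ⁅H, H⁆ ≤ H := commutator_le_self H
  set N := Cfsg.piCore (Cfsg.beta H) H with hN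
  haveI : N.Normal := Cfsg.piCore_normal _ _
  set π := QuotientGroup.mk' N with hπ
  set V := (⁅H, H⁆.subgroupOf H).map π with hV
  set U' := (U.subgroupOf H).map π with hU'
  have hUV : U' ≤ V := map_mono fun x hx => hU.1 hx
  have hVU : V ≤ U' := by
    rw [← relIndex_eq_one]
    by_contra hne
    obtain ⟨r, hr, hd⟩ := Nat.exists_prime_and_dvd hne
    have h1 : r ∣ U.relIndex ⁅H, H⁆ := by
      refine hd.trans ?_
      rw [hU', hV, ← relIndex_subgroupOf hDH, relIndex, relIndex]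
      set D₀ := ⁅H, H⁆.subgroupOf H with hD₀
      have h4 := index_map_dvd (f := π.subgroupMap D₀) (π.subgroupMap_surjective D₀)
        (H := (U.subgroupOf H).subgroupOf D₀)
      have h5 : ((U.subgroupOf H).subgroupOf D₀).map (π.subgroupMap D₀) =
          ((U.subgroupOf H).map π).subgroupOf (D₀.map π) := by
        apply map_injective (D₀.map π).subtype_injective
        have h6 : U.subgroupOf H ≤ D₀ := fun x hx => hU.1 hx
        rw [map_subgroupOf_eq_of_le (map_mono h6), map_map,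
          show (D₀.map π).subtype.comp (π.subgroupMap D₀) = π.comp D₀.subtype from rfl, ← map_map,
          map_subgroupOf_eq_of_le h6]
      rwa [h5] at h4
    have h2 : r ∉ Cfsg.beta H := by
      intro hrb
      have h3 : r ∣ N.index := by
        rw [index_eq_card]
        exact hd.trans ((relIndex_dvd_card _ _).trans (card_subgroup_dvd_card V))
      refine hβ.2.2 r hr hrb ?_
      rwa [relIndex, Cfsg.piCoreOf, BGSigma.subgroupOf_map_subtype_self]
    exact hU.2.2 r hr ⟨hr, h2⟩ h1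
  haveI := hUnil
  haveI : Group.IsNilpotent ↥(U.subgroupOf H) :=
    Group.nilpotent_of_mulEquiv (subgroupOfEquivOfLe (hU.1.trans hDH)).symm
  have hU'nil : Group.IsNilpotent U' :=
    Group.nilpotent_of_surjective (π.subgroupMap (U.subgroupOf H)) (π.subgroupMap_surjective _)
  rw [commutator_le]
  intro a ha b hb
  have hmem : ∀ {x : G} (hx : x ∈ ⁅H, H⁆), π ⟨x, hDH hx⟩ ∈ U' :=
    fun hx => hVU (mem_map_of_mem π hx)
  have hc := commute_of_nilpotent hU'nil (hmem (hA ha)) (hmem (hB hb)) (by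
    refine (Nat.Coprime.coprime_dvd_left ?_ hcop).coprime_dvd_right ?_ <;>
      refine (orderOf_map_dvd π _).trans ?_ <;> rw [orderOf_mk]
    · exact A.orderOf_dvd_natCard ha
    · exact B.orderOf_dvd_natCard hb)
  rw [← commutatorElement_eq_one_iff_commute, ← map_commutatorElement, hπ,
    QuotientGroup.mk'_apply, QuotientGroup.eq_one_iff] at hc
  exact mem_map_of_mem H.subtype hc

/-- `p`-subgroups of `H` lie in `H'` for `p ∈ σ(H) ∪ τ₃(H)`. -/
theorem le_commutator_of_sigma_tau3 {p : ℕ} [Fact p.Prime]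
    (hp : p ∈ Cfsg.sigma H ∨ p ∈ Cfsg.tau3 H) {P : Subgroup G} (hP : IsPGroup p P) (hPH : P ≤ H) :
    P ≤ ⁅H, H⁆ := by
  rcases hp with hp | hp
  · obtain ⟨S, hS, hPS⟩ := exists_isMaxP_ge hP hPH
    exact hPS.trans (BGSigma.le_commutator hG hH hp hS)
  · obtain ⟨E, hE, hPE⟩ := exists_compl_ge hG hH hPH fun q hq hd => by
      obtain ⟨n, hn⟩ := IsPGroup.iff_card.1 hP
      rw [hn] at hd
      exact (Nat.prime_dvd_prime_iff_eq hq Fact.out).1 (hq.dvd_of_dvd_pow hd) ▸ hp.2.1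
    obtain ⟨E₃, hE₃, hPE₃⟩ := BGTypeP.exists_hallOf_ge (isSolvable_of_le_coatom hG hH hE.1)
      (Cfsg.tau3 H) hPE (BGSigma.piNat_of_isPGroup hP hp)
    exact hPE₃.trans (((S1415.result hG H hH E hE).2.2 E₃ hE₃).2.1.trans
      (commutator_mono hE.1 hE.1))

/-- For `p, q ∉ β(H)` with Sylow subgroups in `H'`, each Sylow `q`-subgroup is centralized by a Sylow
`p`-subgroup. -/
theorem exists_commuting_sylow {p q : ℕ} [Fact p.Prime] [Fact q.Prime] (hpq : p ≠ q)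
    (hpb : p ∉ Cfsg.beta H) (hqb : q ∉ Cfsg.beta H) {S : Subgroup G} (hS : IsPGroup q S)
    (hSD : S ≤ ⁅H, H⁆) {T₀ : Subgroup G} (hT₀ : IsMaxP p T₀ H) (hT₀D : T₀ ≤ ⁅H, H⁆) :
    ∃ T : Subgroup G, IsMaxP p T H ∧ T ≤ centralizer (S : Set G) := by
  obtain ⟨-, -, ⟨U, hU, hUnil⟩, -⟩ := S1414.result hG H hH
  have hDH : ⁅H, H⁆ ≤ H := commutator_le_self H
  have hDs : Group.IsSolvable ↥⁅H, H⁆ := isSolvable_of_le_coatom hG hH hDH
  obtain ⟨s, hs, hSU⟩ := BGTypeP.le_conj_hallOf hDs hU hSD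
    (BGSigma.piNat_of_isPGroup hS ⟨Fact.out, hqb⟩)
  have hU₁ : Cfsg.IsPiHallOf {r | r.Prime ∧ r ∉ Cfsg.beta H} (BGTypeP.cj s U) ⁅H, H⁆ := by
    have := BGTypeP.hallOf_cj s hU
    rwa [BGTypeP.cj_of_mem hs] at this
  haveI := hUnil
  have hnil : Group.IsNilpotent ↥(BGTypeP.cj s U) :=
    Group.nilpotent_of_mulEquiv (U.equivMapOfInjective _ (MulAut.conj s).injective)
  obtain ⟨t, ht, hTU⟩ := BGTypeP.le_conj_hallOf hDs hU₁ hT₀D
    (BGSigma.piNat_of_isPGroup hT₀.isPGroup ⟨Fact.out, hpb⟩)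
  refine ⟨BGTypeP.cj t⁻¹ T₀, ?_, ?_⟩
  · refine isMaxP_of_card_le hT₀ (hT₀.isPGroup.map _) ?_ (BGTypeP.card_cj _ _).ge
    calc BGTypeP.cj t⁻¹ T₀ ≤ BGTypeP.cj t⁻¹ H := BGTypeP.cj_mono _ hT₀.le
      _ = H := BGTypeP.cj_of_mem (H.inv_mem (hDH ht))
  · intro x hx
    refine mem_centralizer_iff.2 fun y hy => ?_
    refine (commute_of_nilpotent hnil (BGTypeP.le_cj_iff.2 hTU hx) (hSU hy) ?_).symm.eq
    obtain ⟨i, hi⟩ := IsPGroup.iff_card.1 (hT₀.isPGroup.map (MulAut.conj t⁻¹).toMonoidHom)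
    obtain ⟨j, hj⟩ := IsPGroup.iff_card.1 hS
    exact ((Nat.coprime_primes Fact.out Fact.out).2 hpq |>.pow i j |>.coprime_dvd_left
      (hi ▸ (BGTypeP.cj t⁻¹ T₀).orderOf_dvd_natCard hx)).coprime_dvd_right
        (hj ▸ S.orderOf_dvd_natCard hy)

omit hH in
/-- A `σ(M)`-subgroup meets `H_β` trivially for nonconjugate `M`, `H`. -/
theorem inf_betaCore_eq_bot (hH : IsCoatom H) {M : Subgroup G} (hM : IsCoatom M)
    (hne : ∀ g : G, H ≠ M.map (MulAut.conj g).toMonoidHom) {X : Subgroup G}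
    (hX : ∀ r : ℕ, r.Prime → r ∣ Nat.card X → r ∈ Cfsg.sigma M) :
    X ⊓ Cfsg.piCoreOf (Cfsg.beta H) H = ⊥ := by
  by_contra h
  obtain ⟨r, hr, hd⟩ := Nat.exists_prime_and_dvd (fun h1 => h (eq_bot_of_card_eq _ h1))
  haveI := Fact.mk hr
  have hrb : r ∈ Cfsg.beta H :=
    (S1414.result hG H hH).1.2.1 r hr (hd.trans (card_dvd_of_le inf_le_right))
  obtain ⟨g, hg⟩ := BGSigma.conj_of_alpha_inter_sigma hG hH hM hrb.1
    (hX r hr (hd.trans (card_dvd_of_le inf_le_left)))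
  refine hne g⁻¹ ?_
  rw [hg]
  exact (BGTypeP.cj_inv_cj g H).symm

/-- BG 13.1 (a), first case. -/
theorem centralizes_of_le_commutator {M : Subgroup G} (hM : IsCoatom M)
    (hne : ∀ g : G, H ≠ M.map (MulAut.conj g).toMonoidHom) {p : ℕ} [Fact p.Prime]
    (hp : p ∉ Cfsg.sigma M) {P : Subgroup G} (hP : IsPGroup p P) (hPle : P ≤ M ⊓ H)
    (hPH : P ≤ ⁅H, H⁆) :
    P ≤ centralizer ((Cfsg.sigmaCore M ⊓ H : Subgroup G) : Set G) := by
  set D := Cfsg.sigmaCore M ⊓ H with hD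
  have hPD : P ≤ normalizer (D : Set G) := CoprimeAction.le_normalizer_inf
    ((hPle.trans inf_le_left).trans (le_normalizer_sigmaCore M))
    ((hPle.trans inf_le_right).trans le_normalizer)
  have hDσ : ∀ r : ℕ, r.Prime → r ∣ Nat.card D → r ∈ Cfsg.sigma M := fun r hr hd =>
    piNat_sigmaCore M r hr (hd.trans (card_dvd_of_le inf_le_left))
  have hcop : (Nat.card P).Coprime (Nat.card D) := by
    refine Nat.coprime_of_dvd fun r hr h1 h2 => hp ?_
    obtain ⟨n, hn⟩ := IsPGroup.iff_card.1 hP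
    rw [hn] at h1
    exact (Nat.prime_dvd_prime_iff_eq hr Fact.out).1 (hr.dvd_of_dvd_pow h1) ▸ hDσ r hr h2
  have hPs : Group.IsSolvable P ∨ Group.IsSolvable D :=
    Or.inl (CoprimeAction.isSolvable_of_isPGroup hP)
  refine CoprimeAction.le_centralizer_of_commutator_commutator_eq_bot hPD hcop hPs ?_
  have h1 : ⁅D, P⁆ ≤ D := CoprimeAction.commutator_le_self_of_le_normalizer hPD
  have h2 : ⁅D, P⁆ ≤ ⁅H, H⁆ := commutator_mono inf_le_right (hPle.trans inf_le_right)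
  have h3 : ⁅⁅D, P⁆, P⁆ ≤ Cfsg.piCoreOf (Cfsg.beta H) H :=
    commutator_le_beta hG hH h2 hPH ((hcop.coprime_dvd_right (card_dvd_of_le h1)).symm)
  rw [← le_bot_iff, ← inf_betaCore_eq_bot hG hH hM hne hDσ]
  exact le_inf ((commutator_mono h1 le_rfl).trans h1) h3

end Cfsg.Agent.BGPrime
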