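import Cfsg.Agent.Lib.BGFittingUnique
import Cfsg.Agent.S1480

/-!
Every abelian `p`-subgroup of rank three of a minimal simple group of odd order is a uniqueness
subgroup (Bender-Glauberman 9.6).
-/

set_option autoImplicit false
set_option linter.style.haveILetI false

namespace Cfsg.Agent.BGSCNUnique

open Subgroup
open Cfsg.Agent.BGUnique
open Cfsg.Agent.BGFittingUnique
open scoped commutatorElement Pointwise

universe u

section frobenius

variable {G : Type u} [Group G] [Finite G] {p q : ℕ} [hp : Fact p.Prime] [hq : Fact q.Prime]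

/-- If `g` moves `v` inside `⟨v⟩` and `C_V(g) ≤ C(v)` for an abelian `V`, then `v` centralizes `V`. -/
theorem le_centralizer_of_fixed_le_abelian {V : Subgroup G} [IsMulCommutative V] {g v : G}
    (hv : v ^ q = 1) (hg : g ^ p = 1) (hgv : g * v * g⁻¹ ∈ zpowers v) (hne : ¬ Commute g v)
    (hgV : g ∈ normalizer (V : Set G)) (hvV : v ∈ normalizer (V : Set G))
    (hcop : (Nat.card V).Coprime q)
    (hfix : ∀ c ∈ V, Commute g c → Commute v c) : ∀ c ∈ V, Commute v c := by
  classical
  have := Fintype.ofFinite G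
  letI : CommGroup V := { (inferInstance : Group V) with mul_comm := fun x y => mul_comm' x y }
  set U := zpowers v with hU
  have hv1 : v ≠ 1 := fun h => hne (h ▸ Commute.one_right g)
  have hUV : U ≤ normalizer (V : Set G) := zpowers_le.2 hvV
  have hUcard : Nat.card U = q := by rw [hU, Nat.card_zpowers, orderOf_eq_prime hv hv1]
  have hcopU : (Nat.card U).Coprime (Nat.card V) := hUcard ▸ hcop.symm
  haveI : Group.IsSolvable U := CoprimeAction.isSolvable_zpowers v
  set Y := ⁅V, U⁆ with hY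
  have hYV : Y ≤ V := CoprimeAction.commutator_le_self_of_le_normalizer hUV
  have hgU : g ∈ normalizer (U : Set G) := by
    have key : ∀ u ∈ U, g * u * g⁻¹ ∈ U := by
      intro u hu
      obtain ⟨i, rfl⟩ := mem_zpowers_iff.1 hu
      rw [← conj_zpow]
      exact zpow_mem hgv i
    have : U.map (MulAut.conj g).toMonoidHom = U := by
      refine eq_of_le_of_card_ge (map_le_iff_le_comap.2 key) ?_
      rw [card_map_of_injective (MulAut.conj g).injective]
    rw [mem_normalizer_iff]
    refine fun u => ⟨key u, fun hu => ?_⟩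
    rw [← this] at hu
    obtain ⟨w, hw, hwu⟩ := hu
    have hwu' : g * w * g⁻¹ = g * u * g⁻¹ := hwu
    rwa [← mul_left_cancel (mul_right_cancel hwu')]
  have hgY : g ∈ normalizer (Y : Set G) := by
    have key : ∀ h : G, h ∈ normalizer (V : Set G) → h ∈ normalizer (U : Set G) →
        ∀ y ∈ Y, h * y * h⁻¹ ∈ Y := by
      intro h hhV hhU y hy
      have hle : Y ≤ Y.comap (MulAut.conj h).toMonoidHom := by
        rw [hY, commutator_le]
        intro a ha b hb
        rw [mem_comap, map_commutatorElement]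
        exact commutator_mem_commutator ((mem_normalizer_iff.1 hhV a).1 ha)
          ((mem_normalizer_iff.1 hhU b).1 hb)
      exact hle hy
    rw [mem_normalizer_iff]
    refine fun y => ⟨key g hgV hgU y, fun h => ?_⟩
    simpa [mul_assoc] using key g⁻¹ (inv_mem hgV) (inv_mem hgU) _ h
  have hUY : U ≤ normalizer (Y : Set G) := Subgroup.normalizer_commutator_ge_right V U
  have hzero : ∀ y ∈ Y, (∀ u ∈ U, u * y = y * u) → y = 1 := by
    intro y hy hyU
    have h1 : y ∈ (V ⊓ centralizer (U : Set G)) ⊓ ⁅V, U⁆ := ⟨⟨hYV hy, hyU⟩, hy⟩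
    rwa [CoprimeAction.inf_centralizer_inf_commutator_eq_bot hUV hcopU, mem_bot] at h1
  let σ : normalizer (V : Set G) → (V →* V) := fun a => CoprimeAction.conjHom V a a.2
  let uN : U → normalizer (V : Set G) := fun u => ⟨u, hUV u.2⟩
  let gN : Fin p → normalizer (V : Set G) := fun i => ⟨g ^ (i : ℕ), pow_mem hgV _⟩
  have hσ : ∀ (a : normalizer (V : Set G)) (y : V), ((σ a y : V) : G) = a * y * (a : G)⁻¹ :=
    fun a y => rfl
  have hσmul : ∀ (a b : normalizer (V : Set G)) (y : V), σ a (σ b y) = σ (a * b) y := fun a b y =>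
    Subtype.ext (by rw [hσ, hσ, hσ, Subgroup.coe_mul]; group)
  have hσY : ∀ (a : normalizer (V : Set G)) (y : V), (a : G) ∈ normalizer (Y : Set G) → (y : G) ∈ Y →
      ((σ a y : V) : G) ∈ Y := fun a y ha hy => (mem_normalizer_iff.1 ha y).1 hy
  have hfixed : ∀ (a : normalizer (V : Set G)) (y : V), σ a y = y → Commute (a : G) y := fun a y h =>
    mul_inv_eq_iff_eq_mul.1 ((hσ a y).symm.trans (congrArg Subtype.val h))
  -- the orbit sums under `U` vanish
  have hS : ∀ y : V, (y : G) ∈ Y → ∏ u : U, σ (uN u) y = 1 := by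
    intro y hy
    set z := ∏ u : U, σ (uN u) y with hz
    have hzY : (z : G) ∈ Y := Subgroup.prod_mem (Y.subgroupOf V) fun u _ =>
      hσY _ _ (hUY u.2) hy
    refine Subtype.ext (hzero _ hzY fun w hw => (hfixed (uN ⟨w, hw⟩) z ?_).eq)
    rw [hz, map_prod]
    exact Fintype.prod_equiv (Equiv.mulLeft (⟨w, hw⟩ : U)) _ _ fun u => hσmul _ _ _
  -- the orbit sums under `⟨g⟩` vanish
  have hp0 : 0 < p := hp.out.pos
  have hN : ∀ y : V, (y : G) ∈ Y → ∏ i : Fin p, σ (gN i) y = 1 := by
    intro y hy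
    set z := ∏ i : Fin p, σ (gN i) y with hz
    have hzY : (z : G) ∈ Y := Subgroup.prod_mem (Y.subgroupOf V) fun i _ =>
      hσY _ _ (pow_mem hgY _) hy
    refine Subtype.ext (hzero _ hzY fun w hw => ?_)
    obtain ⟨k, rfl⟩ := mem_zpowers_iff.1 hw
    have hgz : Commute g z := by
      refine hfixed ⟨g, hgV⟩ z ?_
      rw [hz, map_prod]
      haveI : NeZero p := ⟨hp0.ne'⟩
      refine Fintype.prod_equiv (Equiv.addRight (1 : Fin p)) _ _ fun i => ?_
      rw [hσmul]
      congr 2
      refine Subtype.ext ?_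
      show g * g ^ (i : ℕ) = g ^ ((i + 1 : Fin p) : ℕ)
      rw [← pow_succ', Fin.val_add, Fin.val_one', Nat.add_mod_mod,
        pow_eq_pow_mod ((i : ℕ) + 1) hg]
    exact ((hfix _ z.2 hgz).zpow_left k).eq
  -- hence `Y` is trivial
  have hY1 : ∀ y : V, (y : G) ∈ Y → y = 1 := by
    intro y hy
    have h1 : ∏ u : U, σ (uN u) (∏ i : Fin p, σ (gN i) (σ (uN u⁻¹) y)) = 1 :=
      Finset.prod_eq_one fun u _ => by rw [hN _ (hσY _ _ (hUY (inv_mem u.2)) hy), map_one]
    simp only [map_prod, hσmul] at h1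
    rw [Finset.prod_comm] at h1
    set i0 : Fin p := ⟨0, hp0⟩ with hi0
    rw [← Finset.mul_prod_erase Finset.univ _ (Finset.mem_univ i0)] at h1
    have h0 : ∀ u : U, σ (uN u * gN i0 * uN u⁻¹) y = y := fun u => Subtype.ext (by
      rw [hσ]
      show (u : G) * g ^ 0 * ((u⁻¹ : U) : G) * y * ((u : G) * g ^ 0 * ((u⁻¹ : U) : G))⁻¹ = y
      rw [pow_zero, mul_one, Subgroup.coe_inv, mul_inv_cancel, one_mul, inv_one, mul_one])
    simp only [← mul_assoc, h0] at h1
    have hrest : ∀ i ∈ Finset.univ.erase i0, ∏ u : U, σ (uN u * gN i * uN u⁻¹) y = 1 := by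
      intro i hi
      have hi' : (i : ℕ) ≠ 0 := fun h => Finset.ne_of_mem_erase hi (Fin.ext h)
      set γ := g ^ (i : ℕ) with hγ
      have hγU : γ ∈ normalizer (U : Set G) := pow_mem hgU _
      have hγne : ¬ Commute γ v := by
        intro hc
        obtain ⟨m, hm⟩ := exists_pow_eq_self_of_coprime (x := g) (n := (i : ℕ))
          (Nat.Coprime.coprime_dvd_right (orderOf_dvd_of_pow_eq_one hg)
            ((hp.out.coprime_iff_not_dvd.2 fun hd => absurd (Nat.le_of_dvd (Nat.pos_of_ne_zero hi') hd)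
              (not_le.2 i.2)).symm))
        exact hne (hm ▸ hc.pow_left m)
      let φ : U → U := fun u => ⟨(u : G) * (γ * (u : G)⁻¹ * γ⁻¹),
        mul_mem u.2 ((mem_normalizer_iff.1 hγU _).1 (inv_mem u.2))⟩
      have hφ : Function.Injective φ := by
        intro u w huw
        have h : (u : G) * (γ * (u : G)⁻¹ * γ⁻¹) = (w : G) * (γ * (w : G)⁻¹ * γ⁻¹) :=
          congrArg Subtype.val huw
        by_contra hne'
        have hd : (w : G)⁻¹ * u ≠ 1 := fun h => hne' (Subtype.ext (inv_mul_eq_one.1 h).symm)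
        have hcomm : Commute γ ((w : G)⁻¹ * u) := by
          have h2 : (w : G)⁻¹ * u = γ * ((w : G)⁻¹ * u) * γ⁻¹ := by
            calc (w : G)⁻¹ * u = (w : G)⁻¹ * ((u : G) * (γ * (u : G)⁻¹ * γ⁻¹)) * (γ * u * γ⁻¹) := by group
              _ = (w : G)⁻¹ * ((w : G) * (γ * (w : G)⁻¹ * γ⁻¹)) * (γ * u * γ⁻¹) := by rw [h]
              _ = γ * ((w : G)⁻¹ * u) * γ⁻¹ := by group
          exact (mul_inv_eq_iff_eq_mul.1 h2.symm : γ * ((w : G)⁻¹ * u) = (w : G)⁻¹ * u * γ)
        have hgen : zpowers ((w : G)⁻¹ * u) = U := by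
          refine eq_of_le_of_card_ge (zpowers_le.2 (mul_mem (inv_mem w.2) u.2)) ?_
          rw [hUcard, Nat.card_zpowers]
          have hd' : orderOf ((w : G)⁻¹ * u) ∣ q :=
            hUcard ▸ orderOf_dvd_natCard U (mul_mem (inv_mem w.2) u.2)
          rcases (Nat.dvd_prime hq.out).1 hd' with h3 | h3
          · exact absurd (orderOf_eq_one_iff.1 h3) hd
          · exact h3.ge
        obtain ⟨k, hk⟩ := mem_zpowers_iff.1 (hgen.ge (mem_zpowers v))
        exact hγne (hk ▸ hcomm.zpow_right k)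
      let e : U ≃ U := Equiv.ofBijective φ (Finite.injective_iff_bijective.1 hφ)
      rw [Fintype.prod_equiv e (fun u => σ (uN u * gN i * uN u⁻¹) y)
        (fun u => σ (uN u) (σ (gN i) y)) fun u => ?_]
      · exact hS _ (hσY _ _ (pow_mem hgY _) hy)
      · rw [hσmul]
        refine congrArg (fun a => σ a y) (Subtype.ext ?_)
        show (u : G) * γ * ((u⁻¹ : U) : G) = (u : G) * (γ * (u : G)⁻¹ * γ⁻¹) * γ
        rw [Subgroup.coe_inv]; group
    rw [Finset.prod_eq_one hrest, mul_one, Finset.prod_const, Finset.card_univ,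
      ← Nat.card_eq_fintype_card, hUcard] at h1
    exact orderOf_eq_one_iff.1 (Nat.eq_one_of_dvd_coprimes hcop
      (orderOf_dvd_natCard y) (orderOf_dvd_of_pow_eq_one h1))
  intro c hc
  have hmem : ⁅c, v⁆ ∈ Y := commutator_mem_commutator hc (mem_zpowers v)
  have h2 := hY1 ⟨⁅c, v⁆, hYV hmem⟩ hmem
  exact (commutatorElement_eq_one_iff_mul_comm.1 (congrArg Subtype.val h2) : Commute c v).symm

/-- The same for solvable `V`. -/
theorem le_centralizer_of_fixed_le : ∀ (n : ℕ) (G : Type u) [Group G] [Finite G] (V : Subgroup G)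
    (_ : Nat.card V = n) [Group.IsSolvable V] (g v : G), v ^ q = 1 → g ^ p = 1 →
    g * v * g⁻¹ ∈ zpowers v → ¬ Commute g v → g ∈ normalizer (V : Set G) →
    v ∈ normalizer (V : Set G) → (Nat.card V).Coprime q → (Nat.card V).Coprime p →
    (∀ c ∈ V, Commute g c → Commute v c) → ∀ c ∈ V, Commute v c := by
  intro n
  induction n using Nat.strong_induction_on with
  | _ n ih =>
  intro G _ _ V hn _ g v hv hg hgv hne hgV hvV hcq hcp hfix
  rcases eq_or_ne V ⊥ with hV | hV
  · intro c hc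
    rw [hV, mem_bot] at hc
    rw [hc]; exact Commute.one_right v
  set D := ⁅V, V⁆ with hD
  have hDV : D ≤ V := commutator_le_self V
  have hVD : normalizer (V : Set G) ≤ normalizer (D : Set G) := by
    rw [hD, ← map_subtype_commutator]
    exact ComponentsCores.normalizer_le_normalizer_map_subtype V (commutator V)
  have hlt : Nat.card D < n := by
    haveI : Nontrivial V := (nontrivial_iff_ne_bot V).2 hV
    rw [← hn, hD, ← map_subtype_commutator, card_map_of_injective V.subtype_injective]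
    exact HallSolvable.card_subgroup_lt (Group.IsSolvable.commutator_lt_top_of_nontrivial V).ne
  haveI : Group.IsSolvable D := CoprimeAction.isSolvable_of_le hDV
  have hDc := ih _ hlt G D rfl g v hv hg hgv hne (hVD hgV) (hVD hvV)
    (hcq.coprime_dvd_left (card_dvd_of_le hDV)) (hcp.coprime_dvd_left (card_dvd_of_le hDV))
    fun c hc => hfix c (hDV hc)
  set N := normalizer (D : Set G) with hN
  haveI : (D.subgroupOf N).Normal := normal_in_normalizer
  set f := QuotientGroup.mk' (D.subgroupOf N) with hf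
  have hker : ∀ x : N, f x = 1 ↔ (x : G) ∈ D := fun x => QuotientGroup.eq_one_iff x
  have hVN : V ≤ N := le_normalizer.trans hVD
  set V' := V.subgroupOf N with hV'
  set g' : N := ⟨g, hVD hgV⟩ with hg'
  set v' : N := ⟨v, hVD hvV⟩ with hv'
  have hnorm : ∀ x : N, (x : G) ∈ normalizer (V : Set G) →
      f x ∈ normalizer ((V'.map f : Subgroup (N ⧸ D.subgroupOf N)) : Set (N ⧸ D.subgroupOf N)) := by
    intro x hx
    refine le_normalizer_map f ⟨x, ?_, rfl⟩
    rw [SetLike.mem_coe, mem_normalizer_iff]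
    rw [mem_normalizer_iff] at hx
    exact fun y => hx y
  haveI : IsMulCommutative ↥(V'.map f) := by
    refine PGroupsBasic.isMulCommutative_of_forall ?_
    rintro _ ⟨a, ha, rfl⟩ _ ⟨b, hb, rfl⟩
    rw [← commutatorElement_eq_one_iff_mul_comm, ← map_commutatorElement, hker]
    exact commutator_mem_commutator ha hb
  have hcard : Nat.card (V'.map f) ∣ Nat.card V :=
    (card_map_dvd V' f).trans (HallCore.card_subgroupOf_dvd V N)
  have hv1 : v ≠ 1 := fun h => hne (h ▸ Commute.one_right g)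
  have hord : orderOf v = q := orderOf_eq_prime hv hv1
  have hfne : ¬ Commute (f g') (f v') := by
    intro h
    have h1 : ⁅g, v⁆ ∈ D := (hker ⁅g', v'⁆).1 (by
      rw [map_commutatorElement]; exact commutatorElement_eq_one_iff_mul_comm.2 h.eq)
    have h2 : ⁅g, v⁆ ∈ zpowers v := by
      rw [commutatorElement_def]; exact mul_mem hgv (inv_mem (mem_zpowers v))
    have h3 : ⁅g, v⁆ ∈ D ⊓ zpowers v := ⟨h1, h2⟩
    rw [inf_eq_bot_of_coprime (by
      rw [Nat.card_zpowers, hord]; exact hcq.coprime_dvd_left (card_dvd_of_le hDV)), mem_bot] at h3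
    exact hne (commutatorElement_eq_one_iff_mul_comm.1 h3)
  have hgvf : f g' * f v' * (f g')⁻¹ ∈ zpowers (f v') := by
    obtain ⟨k, hk⟩ := mem_zpowers_iff.1 hgv
    refine mem_zpowers_iff.2 ⟨k, ?_⟩
    rw [← map_zpow, ← map_inv, ← map_mul, ← map_mul]
    exact congrArg f (Subtype.ext hk)
  haveI : Group.IsSolvable ↥(zpowers g') := CoprimeAction.isSolvable_zpowers g'
  have hab := le_centralizer_of_fixed_le_abelian (p := p) (q := q) (V := V'.map f) (g := f g')
    (v := f v') (by rw [← map_pow, show v' ^ q = 1 from Subtype.ext hv, map_one])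
    (by rw [← map_pow, show g' ^ p = 1 from Subtype.ext hg, map_one]) hgvf hfne
    (hnorm g' hgV) (hnorm v' hvV) (hcq.coprime_dvd_left hcard) fun c hc hgc => by
      have hAK : zpowers g' ≤ normalizer (V' : Set N) := zpowers_le.2 (by
        rw [mem_normalizer_iff] at hgV ⊢
        exact fun y => hgV y)
      have hcop : (Nat.card (zpowers g')).Coprime (Nat.card V') := by
        rw [Nat.card_zpowers]
        refine (hcp.symm.coprime_dvd_right (HallCore.card_subgroupOf_dvd V N)).coprime_dvd_left ?_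
        exact orderOf_dvd_of_pow_eq_one (Subtype.ext hg)
      have hmem : c ∈ V'.map f ⊓ centralizer ((zpowers g').map f : Set (N ⧸ D.subgroupOf N)) := by
        refine ⟨hc, ?_⟩
        rintro _ ⟨a, ha, rfl⟩
        obtain ⟨i, rfl⟩ := mem_zpowers_iff.1 ha
        rw [map_zpow]
        exact (hgc.zpow_left i).eq
      rw [← CoprimeAction.map_inf_centralizer_eq f hAK hcop (Or.inl inferInstance)] at hmem
      obtain ⟨d, hd, rfl⟩ := hmem
      have hgd : Commute g (d : G) := congrArg Subtype.val (hd.2 g' (mem_zpowers g'))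
      have hvd := hfix (d : G) hd.1 hgd
      exact (show Commute v' d from Subtype.ext hvd.eq).map f
  intro c hc
  haveI : Group.IsSolvable ↥(zpowers v) := CoprimeAction.isSolvable_zpowers v
  refine (CoprimeAction.le_centralizer_of_stabilizes (A := zpowers v) (K := V) (N := D)
    (by rw [Nat.card_zpowers, hord]; exact (hcq.coprime_dvd_left (card_dvd_of_le hDV)).symm)
    (fun d hd a ha => ?_) (fun a ha k hk => ?_) (mem_zpowers v) c hc).symm
  · obtain ⟨i, rfl⟩ := mem_zpowers_iff.1 ha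
    exact ((hDc d hd).zpow_left i).eq
  · obtain ⟨i, rfl⟩ := mem_zpowers_iff.1 ha
    have h := (hab (f ⟨k, hVN hk⟩) (mem_map_of_mem f (show (k : G) ∈ V from hk))).zpow_left i
    refine (hker (⟨k, hVN hk⟩⁻¹ * v' ^ i * ⟨k, hVN hk⟩ * (v' ^ i)⁻¹)).1 ?_
    simp only [map_mul, map_inv, map_zpow]
    rw [mul_assoc (f ⟨k, hVN hk⟩)⁻¹, h.eq, ← mul_assoc, inv_mul_cancel, one_mul, mul_inv_cancel]

end frobenius

section local_structure

variable {G : Type u} [Group G] [Finite G] (hG : Cfsg.IsMinSimpleOddOrder G)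
include hG

theorem le_commutator_of_normalizer_W {p : ℕ} [Fact p.Prime] (hp2 : p ≠ 2) (P : Sylow p G)
    {M : Subgroup G} (hPM : (P : Subgroup G) ≤ M)
    (hN : normalizer (GlaubermanZJ.thomY 0 (P : Subgroup G) : Set G) ≤ M) :
    (P : Subgroup G) ≤ ⁅M, M⁆ := by
  have hctrl := GlaubermanControl.ctrl (GlaubermanControl.yZero.{u} p) (fun Y _ => Odd (Nat.card Y))
    (fun Y _ _ H hY => hY.of_dvd_nat (card_subgroup_dvd_card H))
    (fun Y _ _ hY => hY.of_dvd_nat (card_quotient_dvd_card _))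
    (fun Y _ _ hY _ _ => hY.of_dvd_nat (card_quotient_dvd_card _))
    (fun Y _ _ hY hc P D hD => GlaubermanZJ.thomY_normal (n := 0) hp2 (Or.inl rfl)
      (fun B _ hB => pStable_of_odd hp2 Y hY B hB) hc P D hD)
    G hG.1 P (P : Subgroup G) ⟨le_rfl, fun x _ g hg => hg⟩
  have h1 := FocalControl.focalSubgroup_le_commutator_of_control (P : Subgroup G)
    (normalizer (GlaubermanZJ.thomY 0 (P : Subgroup G) : Set G)) fun x hx u hu => by
      obtain ⟨m, hm, hmt⟩ := hctrl (zpowers x) u (zpowers_le.2 hx)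
        (map_le_iff_le_comap.2 (zpowers_le.2 hu))
      exact ⟨m, hm, hmt x (mem_zpowers x)⟩
  haveI := hG.2.1
  have htop : commutator G = ⊤ := by
    rcases (inferInstance : (commutator G).Normal).eq_bot_or_eq_top with h | h
    · refine absurd ⟨⟨fun a b => commutatorElement_eq_one_iff_mul_comm.1 ?_⟩⟩ hG.2.2.1
      have h2 : ⁅a, b⁆ ∈ commutator G := commutator_mem_commutator (mem_top a) (mem_top b)
      rwa [h, mem_bot] at h2
    · exact h
  have h3 := Subgroup.commutator_inf_eq_focalSubgroup P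
  rw [htop, top_inf_eq] at h3
  exact h3.le.trans (h1.trans (commutator_mono hPM hN))

theorem exists_plane_through {q : ℕ} [hq : Fact q.Prime] {Q : Subgroup G} (hQ : IsPGroup q Q)
    (hQnc : ¬ IsCyclic Q) {v : G} (hvQ : v ∈ Q) (hv : v ^ q = 1) (hv1 : v ≠ 1) :
    ∃ u ∈ Q, u ^ q = 1 ∧ u ∉ zpowers v ∧ Commute u v := by
  obtain ⟨E, hEQ, hE, hEc⟩ := exists_elementary_sq_of_noncyclic hG hQ hQnc
  haveI : Nontrivial Q := ⟨⟨⟨v, hvQ⟩, 1, fun h => hv1 (congrArg Subtype.val h)⟩⟩
  haveI := hQ.center_nontrivial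
  obtain ⟨n, hn⟩ := IsPGroup.iff_card.1 (hQ.to_subgroup (center Q))
  have hn0 : n ≠ 0 := by
    rintro rfl
    have h : 1 < Nat.card (center Q) := Finite.one_lt_card
    rw [hn, pow_zero] at h
    exact lt_irrefl _ h
  obtain ⟨z₀, hz₀⟩ := exists_prime_orderOf_dvd_card' (G := center Q) q (hn ▸ dvd_pow_self q hn0)
  set z : G := ((z₀ : Q) : G) with hz
  have hzo : orderOf z = q := by rw [hz, Subgroup.orderOf_coe, Subgroup.orderOf_coe, hz₀]
  have hzc : ∀ r ∈ Q, Commute r z := fun r hr =>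
    congrArg Subtype.val (mem_center_iff.1 z₀.2 ⟨r, hr⟩)
  by_cases hzv : z ∈ zpowers v
  · have hvo : orderOf v = q := orderOf_eq_prime hv hv1
    have heq : zpowers z = zpowers v :=
      eq_of_le_of_card_ge (zpowers_le.2 hzv) (by rw [Nat.card_zpowers, Nat.card_zpowers, hzo, hvo])
    have hnle : ¬ E ≤ zpowers v := by
      intro h
      have h1 := card_le_of_le h
      rw [hEc, Nat.card_zpowers, hvo] at h1
      have := hq.out.one_lt
      nlinarith
    obtain ⟨u, hu, huv⟩ := SetLike.not_le_iff_exists.1 hnle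
    obtain ⟨i, hi⟩ := mem_zpowers_iff.1 (heq.ge (mem_zpowers v))
    exact ⟨u, hEQ hu, hE.2 u hu, huv, hi ▸ (hzc u (hEQ hu)).zpow_right i⟩
  · exact ⟨z, (z₀ : Q).2, by rw [← hzo]; exact pow_orderOf_eq_one z, hzv, (hzc v hvQ).symm⟩

variable {q : ℕ} [hq : Fact q.Prime]

theorem plane_facts {x y : G} (hx : x ^ q = 1) (hy : y ^ q = 1) (hxy : Commute x y) (hx1 : x ≠ 1)
    (hy' : y ∉ zpowers x) :
    Cfsg.IsElementaryAbelian q (closure ({x, y} : Set G)) ∧
      q ^ 2 ≤ Nat.card (closure ({x, y} : Set G)) := by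
  have he : Cfsg.IsElementaryAbelian q (closure ({x, y} : Set G)) := by
    refine PGroupsBasic.isElementaryAbelian_closure ?_ ?_
    · rintro a (rfl | rfl) b (rfl | rfl) <;> first | rfl | exact hxy.eq | exact hxy.eq.symm
    · rintro a (rfl | rfl) <;> assumption
  refine ⟨he, ?_⟩
  have hlt : zpowers x < closure ({x, y} : Set G) := lt_of_le_not_ge
    (zpowers_le.2 (subset_closure (by simp))) fun h => hy' (h (subset_closure (by simp)))
  have h1 : Nat.card (zpowers x) < Nat.card (closure ({x, y} : Set G)) :=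
    lt_of_le_of_ne (card_le_of_le hlt.le) fun h => hlt.ne (eq_of_le_of_card_ge hlt.le h.ge)
  obtain ⟨j, hj⟩ := IsPGroup.iff_card.1 (PGroupsBasic.isPGroup_of_isElementaryAbelian he)
  rw [Nat.card_zpowers, orderOf_eq_prime hx hx1, hj] at h1
  rw [hj]
  refine Nat.pow_le_pow_right hq.out.pos ?_
  by_contra h
  have : q ^ j ≤ q ^ 1 := Nat.pow_le_pow_right hq.out.pos (by omega)
  rw [pow_one] at this
  omega

variable {M R : Subgroup G} (hq2 : q ≠ 2) (hR : IsPGroup q R) (hr : ¬ Cfsg.PRankLE q 2 R)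
  (hqU : ∀ F : Subgroup G, IsMulCommutative F → IsPGroup q F → ¬ Cfsg.PRankLE q 2 F →
    Cfsg.InUniqueMaximal F)
include hR hr hqU

/-- Elementary abelian subgroups of order `q ^ 2` normal in `R` are uniqueness subgroups. -/
theorem unique_normal_plane {U : Subgroup G} (hUR : U ≤ R) (hn : R ≤ normalizer (U : Set G))
    (hU : Cfsg.IsElementaryAbelian q U) (hUc : Nat.card U = q ^ 2) : Cfsg.InUniqueMaximal U := by
  obtain ⟨F, hFR, hF, hF3⟩ := pow_le_of_not_pRankLE hr
  have hF3' : ∀ B : Subgroup G, F ≤ B → ¬ Cfsg.PRankLE q 2 B := fun B hFB h => by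
    have h1 := h (F.subgroupOf B) ⟨⟨fun u v => Subtype.ext (Subtype.ext
      (PGroupsBasic.comm_of_isMulCommutative hF.1 u.2 v.2))⟩⟩
      fun u hu => Subtype.ext (by rw [SubgroupClass.coe_pow]; exact hF.2 _ hu)
    rw [Nat.card_congr (subgroupOfEquivOfLe hFB).toEquiv] at h1
    exact absurd ((Nat.pow_le_pow_iff_right hq.out.one_lt).1 (hF3.trans h1)) (by omega)
  refine unique_of_rank_three hG hF.1 (PGroupsBasic.isPGroup_of_isElementaryAbelian hF)
    (hF3' F le_rfl) (hqU F hF.1 (PGroupsBasic.isPGroup_of_isElementaryAbelian hF) (hF3' F le_rfl))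
    hU hUc.ge ?_
  have hFU := card_inf_centralizer hR hUR hn hU hUc.le hFR hF3
  set L := (F ⊓ centralizer (U : Set G)) ⊔ U with hL
  have hLe : Cfsg.IsElementaryAbelian q L :=
    PGroupsBasic.isElementaryAbelian_sup (PGroupsBasic.isElementaryAbelian_mono hF inf_le_left) hU
      inf_le_right
  have hLC : L ≤ centralizer (U : Set G) :=
    sup_le inf_le_right (PGroupsBasic.le_centralizer_of_isMulCommutative hU.1)
  by_cases hFU' : F ⊓ centralizer (U : Set G) ≤ U
  · refine hF3' _ fun f hf u hu => ?_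
    have h := eq_of_le_of_card_ge hFU' (hUc.le.trans hFU)
    rw [← h] at hu
    exact (PGroupsBasic.comm_of_isMulCommutative hF.1 hf hu.1).symm
  · intro hle
    have h1 : Nat.card U < Nat.card L := lt_of_le_of_ne (card_le_of_le le_sup_right) fun h =>
      hFU' (le_sup_left.trans (eq_of_le_of_card_ge le_sup_right h.ge).ge)
    have h2 := hle (L.subgroupOf _) ⟨⟨fun u v => Subtype.ext (Subtype.ext
      (PGroupsBasic.comm_of_isMulCommutative hLe.1 u.2 v.2))⟩⟩
      fun u hu => Subtype.ext (by rw [SubgroupClass.coe_pow]; exact hLe.2 _ hu)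
    rw [Nat.card_congr (subgroupOfEquivOfLe hLC).toEquiv] at h2
    omega

omit hqU in
theorem wSub_facts : ∃ U₀ : Subgroup G, U₀ ≤ BGRankTwo.wSub q hq2 R ∧
    R ≤ normalizer (U₀ : Set G) ∧ Cfsg.IsElementaryAbelian q U₀ ∧ Nat.card U₀ = q ^ 2 ∧
    ∃ z ∈ BGRankTwo.wSub q hq2 R ⊓ centralizer (R : Set G), z ≠ 1 ∧ z ^ q = 1 := by
  obtain ⟨U₁, hU₁n, hU₁, hU₁c⟩ := NormalRankTwo.exists_normal_elementary_sq (P := R) hR hr
  haveI := hU₁n
  refine ⟨U₁.map R.subtype, BGRankTwo.map_le_wSub hR U₁ hU₁ hU₁c.le, ?_,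
    PGroupsBasic.isElementaryAbelian_map_hom hU₁ _, by
      rw [card_map_of_injective R.subtype_injective, hU₁c], ?_⟩
  · refine le_normalizer_map _ |>.trans' ?_
    rw [normalizer_eq_top_iff.mpr hU₁n, ← MonoidHom.range_eq_map, range_subtype]
  have h0 : U₁ ≠ ⊥ := fun h => by
    rw [h, card_bot] at hU₁c
    have := Nat.one_lt_pow two_ne_zero hq.out.one_lt
    omega
  obtain ⟨x, ⟨hx, hxc⟩, hx1⟩ :=
    (U₁ ⊓ center R).bot_or_exists_ne_one.resolve_left (PGroupsBasic.inf_center_ne_bot hR h0)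
  refine ⟨(x : G), ⟨BGRankTwo.map_le_wSub hR U₁ hU₁ hU₁c.le (mem_map_of_mem _ hx), fun r hr' => ?_⟩,
    fun h => hx1 (Subtype.ext h), by rw [← SubgroupClass.coe_pow, hU₁.2 x hx]; rfl⟩
  exact congrArg Subtype.val (mem_center_iff.1 hxc ⟨r, hr'⟩)

/-- For an element of `wSub`, some uniqueness subgroup inside `R` centralizes it. -/
theorem exists_unique_centralizing {v : G} (hv : v ∈ BGRankTwo.wSub q hq2 R) :
    ∃ U : Subgroup G, Cfsg.InUniqueMaximal U ∧ U ≤ R ∧ U ≤ centralizer ({v} : Set G) ∧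
      ∀ T : Subgroup G, IsMulCommutative T → T ≤ BGRankTwo.wSub q hq2 R → v ∈ T →
        v ∉ centralizer (R : Set G) → T ≤ centralizer (U : Set G) := by
  obtain ⟨U₀, hU₀W, hRU₀, hU₀, hU₀c, z, hz, hz1, hzq⟩ := wSub_facts hG hq2 hR hr
  set W := BGRankTwo.wSub q hq2 R with hW
  set Z := W ⊓ centralizer (R : Set G) with hZ
  have hWR : W ≤ R := BGRankTwo.wSub_le R
  by_cases hZbig : Z ≤ zpowers z
  · by_cases hvZ : v ∈ centralizer (R : Set G)
    · refine ⟨U₀, unique_normal_plane hG hR hr hqU (hU₀W.trans hWR) hRU₀ hU₀ hU₀c,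
        hU₀W.trans hWR, fun u hu => mem_centralizer_singleton_iff.2 (hvZ u (hWR (hU₀W hu))),
        fun T _ _ _ h => absurd hvZ h⟩
    have hvz : v ∉ zpowers z := fun h => hvZ ((zpowers_le.2 hz.2) h)
    have hzv : Commute z v := (hz.2 v (hWR hv)).symm
    obtain ⟨he, hc⟩ := plane_facts hG hzq (BGRankTwo.pow_eq_one_of_mem_wSub hv) hzv hz1 hvz
    have hmemW : ∀ r ∈ R, r * v * r⁻¹ ∈ closure ({z, v} : Set G) := by
      intro r hr'
      have h1 : v * r * v⁻¹ * r⁻¹ ∈ R ⊓ centralizer (R : Set G) := hv.2.2 r hr'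
      have h2 : r * v * r⁻¹ * v⁻¹ ∈ Z := by
        have h3 : r * v * r⁻¹ * v⁻¹ = (v * r * v⁻¹ * r⁻¹)⁻¹ := by group
        rw [h3]
        refine mem_inf.2 ⟨?_, inv_mem h1.2⟩
        rw [← h3]
        exact mul_mem ((mem_normalizer_iff.1
          (BGRankTwo.normalizer_le_wSub R (le_normalizer hr')) v).1 hv) (inv_mem hv)
      have h4 : r * v * r⁻¹ = r * v * r⁻¹ * v⁻¹ * v := by group
      rw [h4]
      exact mul_mem (zpowers_le.2 (subset_closure (by simp)) (hZbig h2)) (subset_closure (by simp))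
    have hR' : R ≤ normalizer (closure ({z, v} : Set G) : Set G) := by
      intro r hr'
      have key : ∀ s ∈ R, closure ({z, v} : Set G) ≤
          (closure ({z, v} : Set G)).comap (MulAut.conj s).toMonoidHom := by
        intro s hs
        rw [closure_le]
        rintro w (rfl | rfl)
        · show s * w * s⁻¹ ∈ closure ({w, v} : Set G)
          rw [hz.2 s hs, mul_inv_cancel_right]
          exact subset_closure (by simp)
        · exact hmemW s hs
      rw [mem_normalizer_iff]
      refine fun x => ⟨fun hx => key r hr' hx, fun hx => ?_⟩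
      simpa [mul_assoc] using key r⁻¹ (inv_mem hr') hx
    have hle : closure ({z, v} : Set G) ≤ R := by
      rw [closure_le]
      rintro w (rfl | rfl)
      · exact hWR hz.1
      · exact hWR hv
    have hcard : Nat.card (closure ({z, v} : Set G)) = q ^ 2 := by
      refine le_antisymm ?_ hc
      have hsup : closure ({z, v} : Set G) ≤ CoprimeGen.pairSubgroup z v hzv := by
        rw [closure_le]
        rintro w (rfl | rfl)
        · exact CoprimeGen.left_mem_pairSubgroup _ _ _
        · exact CoprimeGen.right_mem_pairSubgroup _ _ _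
      refine (card_le_of_le hsup).trans (Nat.le_of_dvd (pow_pos hq.out.pos 2)
        ((CoprimeGen.card_pairSubgroup_dvd z v hzv).trans ?_))
      rw [sq]
      exact mul_dvd_mul (orderOf_dvd_of_pow_eq_one hzq)
        (orderOf_dvd_of_pow_eq_one (BGRankTwo.pow_eq_one_of_mem_wSub hv))
    refine ⟨_, unique_normal_plane hG hR hr hqU hle hR' he hcard, hle,
      fun x hx => mem_centralizer_singleton_iff.2
        (PGroupsBasic.comm_of_isMulCommutative he.1 hx (subset_closure (by simp))),
      fun T hT hTW hvT _ t ht w hw => ?_⟩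
    have hsub : closure ({z, v} : Set G) ≤ centralizer ({t} : Set G) := by
      rw [closure_le]
      rintro y (rfl | rfl) <;> rw [SetLike.mem_coe, mem_centralizer_singleton_iff]
      · exact (hz.2 t (hWR (hTW ht))).symm
      · exact PGroupsBasic.comm_of_isMulCommutative hT hvT ht
    exact mem_centralizer_singleton_iff.1 (hsub hw)
  · obtain ⟨y, hy, hyz⟩ := SetLike.not_le_iff_exists.1 hZbig
    have hyq : y ^ q = 1 := BGRankTwo.pow_eq_one_of_mem_wSub hy.1
    obtain ⟨he, hc⟩ := plane_facts hG hzq hyq ((hz.2 y (hWR hy.1)).symm) hz1 hyz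
    have hle : closure ({z, y} : Set G) ≤ Z := by
      rw [closure_le]
      rintro w (rfl | rfl)
      · exact hz
      · exact hy
    obtain ⟨K, hKc, hKle⟩ : ∃ K : Subgroup G, Nat.card K = q ^ 2 ∧ K ≤ Z := by
      obtain ⟨j, hj⟩ := IsPGroup.iff_card.1 (PGroupsBasic.isPGroup_of_isElementaryAbelian he)
      obtain ⟨K, hK⟩ := Sylow.exists_subgroup_card_pow_prime (G := closure ({z, y} : Set G)) q (n := 2)
        (hj ▸ pow_dvd_pow q ((Nat.pow_le_pow_iff_right hq.out.one_lt).1 (hj ▸ hc)))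
      exact ⟨K.map (Subgroup.subtype _), by rw [card_map_of_injective (subtype_injective _), hK],
        (map_subtype_le K).trans hle⟩
    have hKe : Cfsg.IsElementaryAbelian q K := ⟨⟨⟨fun a b => Subtype.ext
      ((hKle b.2).2 _ (hWR (hKle a.2).1))⟩⟩,
      fun a ha => BGRankTwo.pow_eq_one_of_mem_wSub (hKle ha).1⟩
    refine ⟨K, unique_normal_plane hG hR hr hqU (fun a ha => hWR (hKle ha).1)
      (fun r hr' => centralizer_le_normalizer _ fun a ha => ((hKle ha).2 r hr').symm) hKe hKc,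
      fun a ha => hWR (hKle ha).1, fun a ha => mem_centralizer_singleton_iff.2 ?_,
      fun T _ hTW _ _ t ht a ha => ((hKle ha).2 t (hWR (hTW ht))).symm⟩
    exact ((hKle ha).2 v (hWR hv)).symm

/-- An elementary abelian subgroup of order `q ^ 2` of `wSub` is a uniqueness subgroup. -/
theorem unique_in_wSub {T : Subgroup G} (hTW : T ≤ BGRankTwo.wSub q hq2 R)
    (hT : Cfsg.IsElementaryAbelian q T) (hTc : q ^ 2 ≤ Nat.card T) : Cfsg.InUniqueMaximal T := by
  have hTp := PGroupsBasic.isPGroup_of_isElementaryAbelian hT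
  have hTnc := not_isCyclic_of_sq_le hT hTc
  have hWR : BGRankTwo.wSub q hq2 R ≤ R := BGRankTwo.wSub_le R
  by_cases hTZ : T ≤ centralizer (R : Set G)
  · obtain ⟨U₀, hU₀W, hRU₀, hU₀, hU₀c, -⟩ := wSub_facts hG hq2 hR hr
    exact unique_of_le_centralizer hG
      (unique_normal_plane hG hR hr hqU (hU₀W.trans hWR) hRU₀ hU₀ hU₀c)
      (fun t ht u hu => hTZ ht u (hWR (hU₀W hu))) le_rfl hT.1 hTp hTnc
  obtain ⟨v, hv, hvZ⟩ := SetLike.not_le_iff_exists.1 hTZ
  obtain ⟨U, hU, -, -, hTU⟩ := exists_unique_centralizing hG hq2 hR hr hqU (hTW hv)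
  exact unique_of_le_centralizer hG hU (hTU T hT.1 hTW hv hvZ) le_rfl hT.1 hTp hTnc

variable (hM : IsCoatom M) (hRM : R ≤ M) (hMR : M ≤ normalizer (R : Set G))
include hM hRM hMR

/-- Normalizers of cyclic subgroups of `wSub` lie in `M`. -/
theorem centralizer_le {v : G} (hv : v ∈ BGRankTwo.wSub q hq2 R) (hv1 : v ≠ 1) :
    normalizer (zpowers v : Set G) ≤ M := by
  obtain ⟨U, hU, hUR, hUv, -⟩ := exists_unique_centralizing hG hq2 hR hr hqU hv
  refine le_of_unique hU hM (hUR.trans hRM) (fun x hx => centralizer_le_normalizer _ fun w hw => ?_)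
    (BGTransitivity.normalizer_ne_top hG (fun h => hv1 (mem_bot.1 (h ▸ mem_zpowers v)))
      (BGTransitivity.qgroup_ne_top hG (hR.to_le (zpowers_le.2 (BGRankTwo.wSub_le R hv)))))
  obtain ⟨i, rfl⟩ := mem_zpowers_iff.1 hw
  exact ((show Commute v x from (mem_centralizer_singleton_iff.1 (hUv hx)).symm).zpow_left i).eq

/-- An element centralizing a plane of `wSub` has centralizer in `M`. -/
theorem centralizer_le_of_noncyclic {b : G} (hb : b ≠ 1)
    (h : ¬ IsCyclic ↥(BGRankTwo.wSub q hq2 R ⊓ centralizer ({b} : Set G))) :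
    centralizer ({b} : Set G) ≤ M := by
  obtain ⟨T, hTW, hT, hTc⟩ := exists_elementary_sq_of_noncyclic hG (p := q)
    (hR.to_le (inf_le_left.trans (BGRankTwo.wSub_le R))) h
  exact le_of_unique (unique_in_wSub hG hq2 hR hr hqU (hTW.trans inf_le_left) hT hTc.ge) hM
    ((hTW.trans inf_le_left).trans ((BGRankTwo.wSub_le R).trans hRM)) (hTW.trans inf_le_right)
    (BGTransitivity.centralizer_ne_top hG hb)

/-- (iii) A noncyclic `q`-subgroup of `C(b)` containing the fixed points of `b` forces `C(b) ≤ M`. -/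
theorem centralizer_le_of_qgroup {p : ℕ} [Fact p.Prime] (hqp : q ≠ p) {b v : G} (hb : b ^ p = 1)
    (hb1 : b ≠ 1) (hbM : b ∈ M) (hv : v ∈ BGRankTwo.wSub q hq2 R) (hv1 : v ≠ 1)
    (hfix : ∀ w ∈ BGRankTwo.wSub q hq2 R, Commute b w → w ∈ zpowers v) (hbv : Commute b v)
    {Q : Subgroup G} (hQ : IsPGroup q Q) (hQb : Q ≤ centralizer ({b} : Set G)) (hvQ : v ∈ Q)
    (hQnc : ¬ IsCyclic Q) : centralizer ({b} : Set G) ≤ M := by
  set W := BGRankTwo.wSub q hq2 R with hW
  have hWR : W ≤ R := BGRankTwo.wSub_le R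
  have hvq : v ^ q = 1 := BGRankTwo.pow_eq_one_of_mem_wSub hv
  obtain ⟨u, huQ, huq, huv, hucomm⟩ := exists_plane_through hG hQ hQnc hvQ hvq hv1
  have hbu : Commute b u := (mem_centralizer_singleton_iff.1 (hQb huQ)).symm
  have huM : u ∈ M := centralizer_le hG hq2 hR hr hqU hM hRM hMR hv hv1
    (centralizer_le_normalizer _ fun w hw => by
      obtain ⟨i, rfl⟩ := mem_zpowers_iff.1 hw
      exact (hucomm.symm.zpow_left i).eq)
  have hWn : ∀ x ∈ M, x ∈ normalizer (W : Set G) := fun x hx => BGRankTwo.normalizer_le_wSub R (hMR hx)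
  have hRn : u ∈ normalizer (R : Set G) := hMR huM
  -- an element of `wSub` commuting with `u` and `v`
  obtain ⟨w, hwW, hwv, hwu, hwvv⟩ : ∃ w ∈ W, w ∉ zpowers v ∧ Commute u w ∧ Commute v w := by
    set Z := W ⊓ centralizer (R : Set G) with hZ
    have huW : zpowers u ≤ normalizer (W : Set G) := zpowers_le.2 (hWn u huM)
    set S := W ⊔ zpowers u with hS
    have hWp : IsPGroup q W := hR.to_le hWR
    have hup : IsPGroup q (zpowers u) := hQ.to_le (zpowers_le.2 huQ)
    have hSp : IsPGroup q S := IsPGroup.to_sup_of_normal_left' hWp hup huW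
    by_cases hvZ : v ∈ centralizer (R : Set G)
    · -- `v` is central in `R`
      set D := zpowers v with hD
      have hSD : S ≤ centralizer (D : Set G) := by
        refine le_centralizer_iff.1 (zpowers_le.2 ?_)
        intro s hs
        have hle : S ≤ centralizer ({v} : Set G) := sup_le
          (fun x hx => mem_centralizer_singleton_iff.2 (hvZ x (hWR hx)))
          (zpowers_le.2 (mem_centralizer_singleton_iff.2 hucomm.eq))
        exact mem_centralizer_singleton_iff.1 (hle hs)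
      have hWD : ¬ W ≤ D := by
        intro h
        obtain ⟨U₀, hU₀W, -, -, hU₀c, -⟩ := wSub_facts hG hq2 hR hr
        have h1 := card_le_of_le (hU₀W.trans h)
        rw [hU₀c, hD, Nat.card_zpowers, orderOf_eq_prime hvq hv1] at h1
        have := hq.out.one_lt
        nlinarith
      -- a coset of `D` fixed by `u`
      obtain ⟨w₀, hw₀, hw₀D, hc₀⟩ : ∃ w ∈ W, w ∉ D ∧ ⁅u, w⁆ ∈ D := by
        haveI : (D.subgroupOf S).Normal :=
          normal_subgroupOf_of_le_normalizer (hSD.trans (centralizer_le_normalizer _))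
        set f := QuotientGroup.mk' (D.subgroupOf S) with hf
        set Wb := (W.subgroupOf S).map f with hWb
        haveI : (W.subgroupOf S).Normal :=
          normal_subgroupOf_of_le_normalizer (sup_le le_normalizer huW)
        haveI : Wb.Normal := Subgroup.Normal.map inferInstance f (QuotientGroup.mk'_surjective _)
        have hne : Wb ≠ ⊥ := fun h => hWD fun x hx => by
          have h1 : f ⟨x, mem_sup_left hx⟩ = 1 :=
            mem_bot.1 (h ▸ mem_map_of_mem f (show (⟨x, mem_sup_left hx⟩ : S) ∈ W.subgroupOf S from hx))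
          exact (QuotientGroup.eq_one_iff (N := D.subgroupOf S) (⟨x, mem_sup_left hx⟩ : S)).1 h1
        obtain ⟨_, ⟨⟨w, hw, rfl⟩, hwc⟩, hw1⟩ := (Wb ⊓ center _).bot_or_exists_ne_one.resolve_left
          (PGroupsBasic.inf_center_ne_bot (hSp.to_quotient _) hne)
        refine ⟨(w : G), hw, fun h => hw1 ((QuotientGroup.eq_one_iff (N := D.subgroupOf S) w).2 h), ?_⟩
        exact (QuotientGroup.eq_one_iff (N := D.subgroupOf S)
          (⁅(⟨u, mem_sup_right (mem_zpowers u)⟩ : S), w⁆)).1 (by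
          rw [← QuotientGroup.mk'_apply, map_commutatorElement, commutatorElement_eq_one_iff_mul_comm]
          exact mem_center_iff.1 hwc _)
      set w' := w₀⁻¹ * (b * w₀ * b⁻¹) with hw'
      have hbw₀ : b * w₀ * b⁻¹ ∈ W := (mem_normalizer_iff.1 (hWn b hbM) w₀).1 hw₀
      refine ⟨w', mul_mem (inv_mem hw₀) hbw₀, ?_, ?_, ?_⟩
      · intro h
        obtain ⟨i, hi⟩ := mem_zpowers_iff.1 h
        have hfx : Commute b (v ^ i) := hbv.zpow_right i
        have h1 : v ^ i = 1 := OmegaCoprime.eq_one_of_fixed_comm (p := q) (a := b) (x := w₀)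
          (c := v ^ i) (((Nat.coprime_primes Fact.out hq.out).2 hqp.symm).coprime_dvd_left
            (orderOf_dvd_of_pow_eq_one hb))
          (by rw [hi, hw']; group) (mul_inv_eq_iff_eq_mul.2 hfx.eq)
          ⟨1, by rw [pow_one, ← zpow_natCast, ← zpow_mul, mul_comm, zpow_mul, zpow_natCast, hvq, one_zpow]⟩
        refine hw₀D (hfix w₀ hw₀ ?_)
        have h2 : w' = 1 := by rw [← hi, h1]
        rw [hw', inv_mul_eq_one] at h2
        exact mul_inv_eq_iff_eq_mul.1 h2.symm
      · obtain ⟨i, hi⟩ := mem_zpowers_iff.1 hc₀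
        set c := v ^ i with hc
        have hbc : b * c * b⁻¹ = c := mul_inv_eq_iff_eq_mul.2 (hbv.zpow_right i).eq
        have hcR : ∀ x ∈ R, Commute c x := fun x hx =>
          ((show Commute v x from (hvZ x hx).symm).zpow_left i)
        have huw : u * w₀ * u⁻¹ = c * w₀ := by
          rw [hi, commutatorElement_def]; group
        have hub : u * (b * w₀ * b⁻¹) * u⁻¹ = c * (b * w₀ * b⁻¹) := by
          calc u * (b * w₀ * b⁻¹) * u⁻¹ = (u * b) * w₀ * (u * b)⁻¹ := by group
            _ = b * (u * w₀ * u⁻¹) * b⁻¹ := by rw [← hbu.eq]; group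
            _ = (b * c * b⁻¹) * (b * w₀ * b⁻¹) := by rw [huw]; group
            _ = c * (b * w₀ * b⁻¹) := by rw [hbc]
        refine mul_inv_eq_iff_eq_mul.1 ?_
        calc u * w' * u⁻¹ = (u * w₀ * u⁻¹)⁻¹ * (u * (b * w₀ * b⁻¹) * u⁻¹) := by rw [hw']; group
          _ = w' := by rw [huw, hub, hw']; group
      · exact (hvZ _ (hWR (mul_mem (inv_mem hw₀) hbw₀))).symm
    · -- `v` is not central: a fixed point of `u` in the centre
      obtain ⟨-, -, -, -, -, z, hz, hz1, -⟩ := wSub_facts hG hq2 hR hr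
      haveI : (Z.subgroupOf S).Normal := normal_subgroupOf_of_le_normalizer (sup_le
        ((fun x hx => CoprimeAction.le_normalizer_inf (A := W) le_normalizer
          ((hWR.trans le_normalizer).trans (BGRankTwo.normalizer_le_normalizer_centralizer _)) hx))
        ((fun x hx => CoprimeAction.le_normalizer_inf (A := zpowers u) huW
          ((zpowers_le.2 hRn).trans (BGRankTwo.normalizer_le_normalizer_centralizer _)) hx)))
      have hne : Z.subgroupOf S ≠ ⊥ := fun h => hz1 (by
        have h1 : (⟨z, mem_sup_left hz.1⟩ : S) ∈ Z.subgroupOf S := hz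
        rw [h, mem_bot] at h1
        exact congrArg Subtype.val h1)
      obtain ⟨w, ⟨hwZ, hwc⟩, hw1⟩ := (Z.subgroupOf S ⊓ center S).bot_or_exists_ne_one.resolve_left
        (PGroupsBasic.inf_center_ne_bot hSp hne)
      refine ⟨(w : G), hwZ.1, fun h => ?_,
        congrArg Subtype.val (mem_center_iff.1 hwc ⟨u, mem_sup_right (mem_zpowers u)⟩),
        hwZ.2 v (hWR hv)⟩
      have h1 : orderOf (w : G) ∣ orderOf v := by
        rw [← Nat.card_zpowers v]; exact orderOf_dvd_natCard _ h
      rw [orderOf_eq_prime hvq hv1] at h1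
      have h2 : orderOf (w : G) = q := ((Nat.dvd_prime hq.out).1 h1).resolve_left
        fun h' => hw1 (Subtype.ext (orderOf_eq_one_iff.1 h'))
      have heq : zpowers (w : G) = zpowers v := eq_of_le_of_card_ge (zpowers_le.2 h)
        (by rw [Nat.card_zpowers, Nat.card_zpowers, h2, orderOf_eq_prime hvq hv1])
      exact hvZ ((zpowers_le.2 hwZ.2) (heq.ge (mem_zpowers v)))
  obtain ⟨hLe, hLc⟩ := plane_facts hG hvq (BGRankTwo.pow_eq_one_of_mem_wSub hwW) hwvv hv1 hwv
  obtain ⟨hTe, hTc⟩ := plane_facts hG hvq huq hucomm.symm hv1 huv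
  have hLW : closure ({v, w} : Set G) ≤ W := by
    rw [closure_le]
    rintro x (rfl | rfl) <;> assumption
  have hLU := unique_in_wSub hG hq2 hR hr hqU hLW hLe hLc
  have hTL : closure ({v, u} : Set G) ≤ centralizer (closure ({v, w} : Set G) : Set G) := by
    rw [closure_le, centralizer_closure]
    rintro x (rfl | rfl) y (rfl | rfl)
    · rfl
    · exact hwvv.eq.symm
    · exact hucomm.eq.symm
    · exact hwu.eq.symm
  have hTU := unique_of_le_centralizer hG hLU hTL le_rfl hTe.1
    (PGroupsBasic.isPGroup_of_isElementaryAbelian hTe) (not_isCyclic_of_sq_le hTe hTc)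
  have hTM : closure ({v, u} : Set G) ≤ M := by
    rw [closure_le]
    rintro x (rfl | rfl)
    · exact hRM (hWR hv)
    · exact huM
  refine le_of_unique hTU hM hTM ?_ (BGTransitivity.centralizer_ne_top hG hb1)
  rw [closure_le]
  rintro x (rfl | rfl) <;> rw [SetLike.mem_coe, mem_centralizer_singleton_iff]
  · exact hbv.eq.symm
  · exact hbu.eq.symm

end local_structure

end Cfsg.Agent.BGSCNUnique
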