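import Cfsg.Agent.Lib.BGSigmaDisjoint
import Cfsg.Agent.Lib.BGFrobeniusAct
import Cfsg.Agent.S1396
import Cfsg.Agent.S1410
import Cfsg.Agent.S1411

/-!
Bender-Glauberman 10.10 (signalizers of maximal elementary subgroups of order `p²`) and 10.11.
-/

set_option autoImplicit false
set_option linter.style.haveILetI false

namespace Cfsg.Agent.BGSigma

open Subgroup
open Cfsg.Agent.BGUnique
open Cfsg.Agent.BGTransitivity
open scoped commutatorElement Pointwise

universe u

variable {G : Type u} [Group G] [Finite G]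

variable (hG : Cfsg.IsMinSimpleOddOrder G)
include hG

theorem sylow_le_commutator_normalizer {p : ℕ} [hp : Fact p.Prime] (P : Sylow p G) :
    (P : Subgroup G) ≤ ⁅normalizer ((P : Subgroup G) : Set G),
      normalizer ((P : Subgroup G) : Set G)⁆ := by
  set N := normalizer ((P : Subgroup G) : Set G) with hN
  haveI : ((P : Subgroup G).subgroupOf N).Normal := normal_in_normalizer
  have hcop : (Nat.card ((P : Subgroup G).subgroupOf N)).Coprime
      ((P : Subgroup G).subgroupOf N).index := by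
    rw [Nat.card_congr (subgroupOfEquivOfLe le_normalizer).toEquiv]
    exact P.card_coprime_index.coprime_dvd_right (relIndex_dvd_index_of_le le_normalizer)
  obtain ⟨V, hV⟩ := exists_right_complement'_of_coprime hcop
  have hC : Cfsg.IsComplIn (P : Subgroup G) (V.map N.subtype) N := by
    refine ⟨le_normalizer, map_subtype_le _, ?_, fun m hm => ?_⟩
    · rw [← map_subgroupOf_eq_of_le (le_normalizer (H := (P : Subgroup G))),
        ← map_inf _ _ _ N.subtype_injective, hV.disjoint.eq_bot, Subgroup.map_bot]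
    · obtain ⟨⟨a, b⟩, hab, -⟩ := hV.existsUnique (⟨m, hm⟩ : N)
      exact ⟨_, a.2, _, ⟨b, b.2, rfl⟩, (congrArg Subtype.val hab).symm⟩
  exact (S1411.result hG p P _ hC).2

omit hG in
theorem maxInv_of_conj {q : ℕ} [Fact q.Prime] {A S Q : Subgroup G} {k : G}
    (hQS : Q ∈ maxInv S q) (hAS : A ≤ MulAut.conj k • S) (hmax : MulAut.conj k • Q ∈ maxInv A q) :
    MulAut.conj k • Q ∈ maxInv (MulAut.conj k • S) q := by
  refine ⟨⟨le_top, hmax.1.2.1, ?_⟩, fun R hR hle =>
    hmax.2 R ⟨le_top, hR.2.1, hAS.trans hR.2.2⟩ hle⟩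
  intro x hx
  rw [mem_normalizer_iff]
  intro y
  have h1 : (MulAut.conj k)⁻¹ • x ∈ normalizer (Q : Set G) :=
    hQS.1.2.2 (mem_pointwise_smul_iff_inv_smul_mem.1 hx)
  rw [mem_normalizer_iff] at h1
  rw [mem_pointwise_smul_iff_inv_smul_mem, h1, mem_pointwise_smul_iff_inv_smul_mem]
  simp [MulAut.smul_def, mul_assoc]

theorem transitivity_of_maximal {p : ℕ} [hp : Fact p.Prime] {A : Subgroup G}
    (hA : Cfsg.IsElementaryAbelian p A) (hA1 : A ≠ ⊥)
    (hAmax : ∀ B : Subgroup G, Cfsg.IsElementaryAbelian p B → A ≤ B → B = A) :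
    Cfsg.TransitivityHypothesis A := by
  have hAp := PGroupsBasic.isPGroup_of_isElementaryAbelian hA
  refine S1396.result hG p ((dvd_card_of_ne_bot hAp hA1).trans (card_subgroup_dvd_card A)) A hAp
    hA.1 (Or.inl ⟨fun x hx => ⟨fun hxp => ?_, fun hxA => hA.2 x hxA⟩,
      fun H hH => S1410.result hG p H hH⟩)
  rw [← hAmax (A ⊔ zpowers x) (PGroupsBasic.isElementaryAbelian_sup hA
    (PGroupsBasic.isElementaryAbelian_zpowers hxp) ?_) le_sup_left]
  · exact mem_sup_right (mem_zpowers x)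
  · intro a ha
    refine mem_centralizer_iff.2 fun b hb => ?_
    obtain ⟨i, rfl⟩ := mem_zpowers_iff.1 hb
    exact (Commute.zpow_right (mem_centralizer_iff.1 hx a ha) i).eq.symm

/-- BG 10.10. -/
theorem max_normed_signaliser {p q : ℕ} [hp : Fact p.Prime] [hq : Fact q.Prime] (hqp : q ≠ p)
    {A : Subgroup G} (hA : Cfsg.IsElementaryAbelian p A) (hAc : Nat.card A = p ^ 2)
    (hAmax : ∀ B : Subgroup G, Cfsg.IsElementaryAbelian p B → A ≤ B → B = A)
    (hqC : q ∣ Nat.card (centralizer (A : Set G))) {Q : Subgroup G} (hQ : Q ∈ maxInv A q) :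
    ∃ P : Sylow p G, A ≤ (P : Subgroup G) ∧
      (P : Subgroup G) ≤ normalizer (Q : Set G) ∧
      (P : Subgroup G) ≤ ⁅normalizer (Q : Set G), normalizer (Q : Set G)⁆ ∧
      normalizer ((P : Subgroup G) : Set G) =
        coprimeCore A (centralizer ((P : Subgroup G) : Set G)) ⊔
          (normalizer ((P : Subgroup G) : Set G) ⊓ normalizer (Q : Set G)) := by
  have hA1 : A ≠ ⊥ := by
    rintro rfl
    rw [card_bot] at hAc
    exact (Nat.one_lt_pow two_ne_zero hp.out.one_lt).ne hAc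
  have hTH := transitivity_of_maximal hG hA hA1 hAmax
  have hqA : ¬ q ∣ Nat.card A := fun hd => hqp
    ((Nat.prime_dvd_prime_iff_eq hq.out hp.out).1 (hq.out.dvd_of_dvd_pow (hAc ▸ hd)))
  have hZ : ¬ Cfsg.RankLE 1 ↥(A ⊓ centralizer (A : Set G)) := by
    intro hr
    have hle : A ≤ A ⊓ centralizer (A : Set G) :=
      le_inf le_rfl fun a ha => mem_centralizer_iff.2 fun b hb =>
        PGroupsBasic.comm_of_isMulCommutative hA.1 hb ha
    have h1 := card_le_of_pRankLE (hr p hp.out) hle hA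
    rw [hAc, pow_one] at h1
    have h2 := Nat.pow_lt_pow_right hp.out.one_lt one_lt_two
    rw [pow_one] at h2
    omega
  have htr : ∀ Q₁ ∈ maxInv A q, ∀ Q₂ ∈ maxInv A q, ∃ k ∈ centCore A, Q₂ = MulAut.conj k • Q₁ :=
    fun Q₁ h₁ Q₂ h₂ => conj_of_rank_two hG hTH hqA hZ hqC h₁ h₂
  have hAp := PGroupsBasic.isPGroup_of_isElementaryAbelian hA
  have sylow_facts : ∀ S : Sylow p G, A ≤ (S : Subgroup G) →
      (∀ r : ℕ, r.Prime → r ∣ Nat.card (S : Subgroup G) → r ∣ Nat.card A) ∧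
        (A.subgroupOf (S : Subgroup G)).IsSubnormal ∧ (S : Subgroup G) ≠ ⊤ := by
    intro S hAS
    haveI := S.isPGroup'.isNilpotent
    refine ⟨fun r hr hd => ?_, BGFittingUnique.isSubnormal_of_nilpotent _ _ rfl,
      qgroup_ne_top hG S.isPGroup'⟩
    obtain ⟨n, hn⟩ := IsPGroup.iff_card.1 S.isPGroup'
    rw [hn] at hd
    rw [(Nat.prime_dvd_prime_iff_eq hr hp.out).1 (hr.dvd_of_dvd_pow hd), hAc]
    exact dvd_pow_self p two_ne_zero
  obtain ⟨S, hAS⟩ := hAp.exists_le_sylow
  obtain ⟨Q', hQ', -⟩ := exists_maxInv_ge (A := (S : Subgroup G)) (q := q) (R := ⊥)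
    (IsPGroup.of_bot) (fun x _ => mem_normalizer_iff.2 fun y => by simp)
  obtain ⟨hS1, hS2, hS3⟩ := sylow_facts S hAS
  obtain ⟨k, hk, hkQ⟩ := htr Q' ((theorem_7_5 hG hTH hqA hS3 hS1 hAS hS2 htr).2.1 hQ') Q hQ
  have hkA : MulAut.conj k • A = A :=
    conj_le_normalizer (centCore_le_normalizer A hk)
  have hAP : A ≤ ((k • S : Sylow p G) : Subgroup G) := by
    rw [Sylow.coe_subgroup_smul, ← hkA]
    exact pointwise_smul_le_pointwise_smul_iff.2 hAS
  have hQP : Q ∈ maxInv ((k • S : Sylow p G) : Subgroup G) q := by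
    rw [Sylow.coe_subgroup_smul, hkQ]
    exact maxInv_of_conj hQ' (by rw [← Sylow.coe_subgroup_smul]; exact hAP) (hkQ ▸ hQ)
  obtain ⟨hP1, hP2, hP3⟩ := sylow_facts (k • S) hAP
  obtain ⟨h1, h2⟩ := (theorem_7_5 hG hTH hqA hP3 hP1 hAP hP2 htr).2.2 Q hQP
  exact ⟨k • S, hAP, hQP.1.2.2,
    le_trans (le_inf le_rfl (sylow_le_commutator_normalizer hG (k • S))) h1, h2⟩

variable {M : Subgroup G} (hM : IsCoatom M)
include hM

theorem rank_three_alphaCore (h : Cfsg.alphaCore M ≠ ⊥) : ¬ IsZGroup ↥(Cfsg.alphaCore M) := by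
  intro hz
  obtain ⟨r, hr, hd⟩ := Nat.exists_prime_and_dvd (fun h1 => h (eq_bot_of_card_eq _ h1))
  haveI := Fact.mk hr
  have hrα := dvd_alphaCore hG hM hr hd
  obtain ⟨E, hEM, hE, hEc⟩ := pow_le_of_not_pRankLE hrα.2
  have hEp := PGroupsBasic.isPGroup_of_isElementaryAbelian hE
  have hEA : E ≤ Cfsg.alphaCore M := by
    rw [← map_subgroupOf_eq_of_le hEM]
    refine map_mono (le_of_prime_not_dvd fun s hs hd' hdi => ?_)
    have hs' := piNat_of_isPGroup hEp hrα s hs (hd'.trans (HallCore.card_subgroupOf_dvd _ _))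
    refine (hall_alpha hG hM).1.2.2 s hs hs' ?_
    rwa [relIndex, Cfsg.alphaCore, subgroupOf_map_subtype_self]
  haveI := hz
  have hc : IsCyclic E := (subgroupOfEquivOfLe hEA).isCyclic.1
    ((hEp.comap_of_injective _ (Cfsg.alphaCore M).subtype_injective).isCyclic_of_isZGroup)
  have h1 := PGroupsBasic.card_le_prime_of_isCyclic hc hE.2
  have h2 : r ^ 1 < r ^ (2 + 1) := Nat.pow_lt_pow_right hr.one_lt (by norm_num)
  rw [pow_one] at h2
  omega

/-- BG 10.11 (b). -/
theorem sigma'_centralizer_rank_one {K : Subgroup G} (hKM : K ≤ M)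
    (hK : ∀ q : ℕ, q.Prime → q ∣ Nat.card K → q ∉ Cfsg.sigma M) :
    Cfsg.RankLE 1 ↥(K ⊓ centralizer (Cfsg.sigmaCore M : Set G)) := by
  intro p hp
  haveI := Fact.mk hp
  by_contra hr
  obtain ⟨E, hEK, hE, hEc⟩ := pow_le_of_not_pRankLE hr
  obtain ⟨B, hBE, hBc⟩ := BGSCNUniqueMain.exists_sub_card hE (k := 2) hEc
  have hB := PGroupsBasic.isElementaryAbelian_mono hE hBE
  have hBp := PGroupsBasic.isPGroup_of_isElementaryAbelian hB
  have hBK : B ≤ K := hBE.trans (hEK.trans inf_le_left)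
  have hBM : B ≤ M := hBK.trans hKM
  have hBC : Cfsg.sigmaCore M ≤ centralizer (B : Set G) :=
    le_centralizer_iff.1 (hBE.trans (hEK.trans inf_le_right))
  have hB1 : B ≠ ⊥ := by
    rintro rfl
    rw [card_bot] at hBc
    exact (Nat.one_lt_pow two_ne_zero hp.one_lt).ne hBc
  have hpB := dvd_card_of_ne_bot hBp hB1
  have hp' : p ∉ Cfsg.sigma M := hK p hp (hpB.trans (card_dvd_of_le hBK))
  have hpM : p ∣ Nat.card M := hpB.trans (card_dvd_of_le hBM)
  have hmax : ∀ B' : Subgroup G, Cfsg.IsElementaryAbelian p B' → B ≤ B' → B' = B :=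
    fun B' hB' hle => maximal_of_rank_two hG hM hp' hBM hB hBc hB' hle
  -- `M_α = 1`
  have hα : Cfsg.alphaCore M = ⊥ := by
    by_contra hne
    obtain ⟨P, hP, hBP⟩ := exists_isMaxP_ge hBp hBM
    obtain ⟨S, hS⟩ := hP.exists_sylow
    obtain ⟨x, ⟨y, hy, rfl⟩, hxo, hz, -⟩ := exists_central_element hG hM hpM hp' S
    obtain ⟨z, hz', rfl⟩ := hy
    refine rank_three_alphaCore hG hM hne ?_
    set x : G := M.subtype ((S : Subgroup M).subtype z) with hx
    have hxc : ∀ b ∈ B, Commute b x := by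
      intro b hb
      have hbS : (⟨b, hBM hb⟩ : M) ∈ (S : Subgroup M) := by
        have := hBP hb
        rw [← hS] at this
        obtain ⟨w, hw, hwb⟩ := this
        exact (Subtype.ext hwb : w = ⟨b, hBM hb⟩) ▸ hw
      exact congrArg (fun w : ↥(S : Subgroup M) => ((w : M) : G))
        (mem_center_iff.1 hz' ⟨_, hbS⟩)
    have hxp : x ^ p = 1 := hxo ▸ pow_orderOf_eq_one x
    have hxB : x ∈ B := by
      rw [← hmax (B ⊔ zpowers x) (PGroupsBasic.isElementaryAbelian_sup hB
        (PGroupsBasic.isElementaryAbelian_zpowers hxp) ?_) le_sup_left]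
      · exact mem_sup_right (mem_zpowers x)
      · intro b hb
        refine mem_centralizer_iff.2 fun w hw => ?_
        obtain ⟨i, rfl⟩ := mem_zpowers_iff.1 hw
        exact ((hxc b hb).zpow_right i).eq.symm
    have hle : Cfsg.alphaCore M ⊓ centralizer ({x} : Set G) = Cfsg.alphaCore M :=
      inf_eq_left.2 fun a ha => mem_centralizer_singleton_iff.2
        (mem_centralizer_iff.1 (hBC (alphaCore_le_sigmaCore hG hM ha)) x hxB).symm
    rwa [hle] at hz
  -- so all ranks are at most two and `M'` is nilpotent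
  have hr2 : ∀ r : ℕ, r.Prime → Cfsg.PRankLE r 2 M := by
    intro r hr
    haveI := Fact.mk hr
    refine rank_outside_alpha hG hM hr fun hrα => ?_
    have h1 := (hall_alpha hG hM).1.2.2 r hr hrα
    rw [hα, relIndex_bot_left] at h1
    exact h1 (dvd_card_of_not_pRankLE hrα.2)
  haveI := isSolvable_of_ne_top hG hM.1
  -- a Sylow subgroup of `M_σ`
  obtain ⟨r, hr, hrd⟩ := Nat.exists_prime_and_dvd
    (fun h1 => sigmaCore_ne_bot hG hM (eq_bot_of_card_eq _ h1))
  haveI := Fact.mk hr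
  have hrσ := (hall_sigma hG hM).1.2.1 r hr hrd
  have hrp : r ≠ p := fun h => hp' (h ▸ hrσ)
  obtain ⟨R, hR⟩ : ∃ R, IsMaxP r R (Cfsg.sigmaCore M) := ⟨_, isMaxP_sylow _ default⟩
  have hRM : IsMaxP r R M := by
    refine ⟨hR.le.trans (map_subtype_le _), hR.isPGroup, fun T hRT hTM hT => ?_⟩
    refine hR.eq_of_le T hRT ?_ hT
    rw [← map_subgroupOf_eq_of_le hTM]
    refine map_mono (le_of_prime_not_dvd fun s hs hd' hdi => ?_)
    have hs' := piNat_of_isPGroup hT hrσ s hs (hd'.trans (HallCore.card_subgroupOf_dvd _ _))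
    refine (hall_sigma hG hM).1.2.2 s hs hs' ?_
    rwa [relIndex, Cfsg.sigmaCore, subgroupOf_map_subtype_self]
  have hRtop := isMaxP_top_of_sigma hrσ hRM
  have hrB : r ∣ Nat.card (centralizer (B : Set G)) := hrd.trans (card_dvd_of_le hBC)
  obtain ⟨Q, hQ, hRQ⟩ := exists_maxInv_ge (A := B) (q := r) (R := R) hR.isPGroup
    (le_centralizer_iff.1 (hR.le.trans hBC) |>.trans (centralizer_le_normalizer _))
  have hQR : Q = R := hRtop.eq_of_le Q hRQ le_top (isPGroup_of_mem hQ)
  obtain ⟨P, hBP, -, hP', -⟩ := max_normed_signaliser hG hrp hB hBc hmax hrB hQ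
  have hNM : normalizer (Q : Set G) ≤ M := hQR ▸ normalizer_le_of_sigma hrσ hRM
  have hPM' : (P : Subgroup G) ≤ ⁅M, M⁆ := hP'.trans (commutator_mono hNM hNM)
  have hPM : (P : Subgroup G) ≤ M := hPM'.trans ((commutator_le_self M))
  have hfit := BGRankTwo.commutator_le_fitting (G := M) (odd_card_subgroup hG M) fun s hs =>
    BGRankTwo.pRankLE_of_injective (Cfsg.pCore s M).subtype (subtype_injective _) (hr2 s hs)
  haveI := HallCore.pCore_characteristic p M
  have hPO : (P : Subgroup G) ≤ (Cfsg.pCore p M).map M.subtype := by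
    intro y hy
    have h1 := hPM' hy
    rw [← Subgroup.map_subtype_commutator] at h1
    obtain ⟨z, hz, rfl⟩ := h1
    obtain ⟨i, hi⟩ := IsPGroup.iff_orderOf.1 P.isPGroup' ⟨_, hy⟩
    rw [Subgroup.orderOf_mk, coe_subtype, Subgroup.orderOf_coe] at hi
    exact ⟨z, BGRankTwo.mem_pCore_of_mem_fitting (hfit hz) hi, rfl⟩
  have heq := P.is_maximal' ((HallCore.isPGroup_pCore p M).map _) hPO
  have hnorm : M ≤ normalizer ((P : Subgroup G) : Set G) :=
    heq ▸ le_normalizer.trans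
      (ComponentsCores.normalizer_le_normalizer_map_subtype M (Cfsg.pCore p M))
  have hP0 : (P : Subgroup G) ≠ ⊥ := ne_bot_of_le_ne_bot hB1 hBP
  have hmaxP : IsMaxP p (P : Subgroup G) M :=
    ⟨hPM, P.isPGroup', fun T hPT _ hT => P.is_maximal' hT hPT⟩
  obtain ⟨S, hS⟩ := hmaxP.exists_sylow
  exact hp' ⟨hp, hpM, S, hS ▸ (normalizer_le_of_coatom hG hM hP0 hPM hnorm).le⟩

/-- BG 10.11 (c). -/
theorem sigma'_centralizer_cyclic {K : Subgroup G} (hKM : K ≤ M)
    (hK : ∀ q : ℕ, q.Prime → q ∣ Nat.card K → q ∉ Cfsg.sigma M) :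
    IsCyclic ↥(K ⊓ centralizer (Cfsg.sigmaCore M : Set G) ⊓ ⁅M, M⁆) ∧
      M ≤ normalizer ((K ⊓ centralizer (Cfsg.sigmaCore M : Set G) ⊓ ⁅M, M⁆ : Subgroup G) : Set G) := by
  haveI := isSolvable_of_ne_top hG hM.1
  set O := Cfsg.piCore (Cfsg.alpha M) M with hO
  set Cs := centralizer (Cfsg.piCore (Cfsg.sigma M) M : Set M) with hCs
  haveI : (Cfsg.piCore (Cfsg.sigma M) M).Normal := Cfsg.piCore_normal _ _
  haveI : Cs.Normal := normal_centralizer
  set W := Cs ⊓ commutator M with hW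
  haveI : W.Normal := inferInstance
  set f := (QuotientGroup.mk' O).comp W.subtype with hf
  have hker : f.ker ≤ center W := by
    intro w hw
    rw [MonoidHom.mem_ker, hf, MonoidHom.comp_apply, ← MonoidHom.mem_ker,
      QuotientGroup.ker_mk'] at hw
    refine mem_center_iff.2 fun v => Subtype.ext ?_
    exact ((mem_centralizer_iff.1 v.2.1 (w : M)
      (HallCore.le_piCore ((HallCore.piNat_card_piCore _ _).mono (alpha_subset hG hM)) hw))).symm
  haveI : Group.IsNilpotent f.range := by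
    haveI := commutator_quotient_nilpotent hG hM
    refine ComponentsCores.nilpotent_of_le (B := (commutator M).map (QuotientGroup.mk' O)) ?_ inferInstance
    rintro _ ⟨w, rfl⟩
    exact ⟨w, w.2.2, rfl⟩
  haveI hWn : Group.IsNilpotent W := by
    refine Subgroup.isNilpotent_of_ker_le_center f.rangeRestrict ?_
    rw [MonoidHom.ker_rangeRestrict]
    exact hker
  -- the `σ'`-part of `W`
  set π : Set ℕ := {q | q ∉ Cfsg.sigma M} with hπ
  set L := (Cfsg.piCore π W).map W.subtype with hL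
  haveI := HallCore.piCore_characteristic π W
  haveI hLn : L.Normal := ConjAct.normal_of_characteristic_of_normal
  set L' := L.map M.subtype with hL'
  have hL'M : L' ≤ M := map_subtype_le _
  have hL'π : ∀ q : ℕ, q.Prime → q ∣ Nat.card L' → q ∉ Cfsg.sigma M := by
    intro q hq hd
    rw [hL', card_map_of_injective M.subtype_injective, hL,
      card_map_of_injective W.subtype_injective] at hd
    exact HallCore.piNat_card_piCore π W q hq hd
  have hL'C : L' ≤ centralizer (Cfsg.sigmaCore M : Set G) := by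
    rintro _ ⟨_, ⟨w, -, rfl⟩, rfl⟩
    refine mem_centralizer_iff.2 ?_
    rintro _ ⟨s, hs, rfl⟩
    exact congrArg Subtype.val (mem_centralizer_iff.1 w.2.1 s hs)
  haveI hLz : IsZGroup L' := by
    have h1 := sigma'_centralizer_rank_one hG hM hL'M hL'π
    rw [inf_eq_left.2 hL'C] at h1
    exact isZGroup_of_rankLE_one hG h1
  haveI : Group.IsNilpotent L' := by
    haveI : Group.IsNilpotent L :=
      Group.nilpotent_of_surjective (W.subtype.subgroupMap (Cfsg.piCore π W))
        (W.subtype.subgroupMap_surjective _)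
    exact Group.nilpotent_of_surjective (M.subtype.subgroupMap L)
      (M.subtype.subgroupMap_surjective _)
  have hLc : IsCyclic L' := inferInstance
  have hle : K ⊓ centralizer (Cfsg.sigmaCore M : Set G) ⊓ ⁅M, M⁆ ≤ L' := by
    intro x hx
    obtain ⟨⟨hxK, hxC⟩, hxM⟩ := hx
    rw [← Subgroup.map_subtype_commutator] at hxM
    obtain ⟨y, hy, rfl⟩ := hxM
    have hyW : y ∈ W := ⟨mem_centralizer_iff.2 fun s hs => Subtype.ext
      (mem_centralizer_iff.1 hxC _ ⟨s, hs, rfl⟩), hy⟩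
    refine ⟨y, ⟨⟨y, hyW⟩, ?_, rfl⟩, rfl⟩
    have hsub : zpowers (⟨y, hyW⟩ : W) ≤ Cfsg.piCore π W := by
      refine BGRankTwo.le_of_sylow_le fun q hq w hw ⟨i, hi⟩ => ?_
      haveI := Fact.mk hq
      rcases Nat.eq_zero_or_pos i with rfl | hi0
      · rw [pow_zero, orderOf_eq_one_iff] at hi; rw [hi]; exact one_mem _
      have hqK : q ∉ Cfsg.sigma M := by
        refine hK q hq ?_
        have h1 : orderOf w ∣ orderOf ((y : M) : G) := by
          have h0 := orderOf_dvd_natCard (zpowers (⟨y, hyW⟩ : W)) hw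
          rw [Nat.card_zpowers, ← orderOf_injective W.subtype W.subtype_injective ⟨y, hyW⟩] at h0
          rw [Subgroup.orderOf_coe]
          exact h0
        rw [hi] at h1
        exact ((dvd_pow_self q hi0.ne').trans h1).trans (orderOf_dvd_natCard K hxK)
      have hmem : w ∈ Cfsg.pCore q W := by
        refine BGRankTwo.mem_pCore_of_mem_fitting ?_ hi
        exact (ComponentsFitting.fittingSubgroup_eq_top_iff.2 hWn).symm ▸ mem_top w
      haveI := HallCore.pCore_normal q W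
      exact HallCore.le_piCore (piNat_of_isPGroup (HallCore.isPGroup_pCore q W) hqK) hmem
    exact hsub (mem_zpowers _)
  refine ⟨isCyclic_of_le hle, ?_⟩
  haveI : ((K ⊓ centralizer (Cfsg.sigmaCore M : Set G) ⊓ ⁅M, M⁆).subgroupOf L').Characteristic := by
    refine characteristic_iff_map_le.2 fun e => ?_
    rintro _ ⟨x, hx, rfl⟩
    obtain ⟨m, hm⟩ := MonoidHom.map_cyclic e.toMonoidHom
    show e.toMonoidHom x ∈ _
    rw [hm]
    exact zpow_mem hx m
  have hML : M ≤ normalizer (L' : Set G) := by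
    refine le_trans ?_ (le_normalizer_map M.subtype)
    rw [normalizer_eq_top_iff.2 hLn, ← MonoidHom.range_eq_map, range_subtype]
  refine hML.trans (le_trans (ComponentsCores.normalizer_le_normalizer_map_subtype L'
    ((K ⊓ centralizer (Cfsg.sigmaCore M : Set G) ⊓ ⁅M, M⁆).subgroupOf L')) ?_)
  rw [map_subgroupOf_eq_of_le hle]

/-- BG 10.11 (d). -/
theorem commutator_sigma'_cyclic {p : ℕ} [hp : Fact p.Prime] {K P : Subgroup G} (hKM : K ≤ M)
    (hPM : P ≤ M) (hK : ∀ q : ℕ, q.Prime → q ∣ Nat.card K → q ∉ Cfsg.sigma M)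
    (hp' : p ∉ Cfsg.sigma M) (hP : Nat.card P = p) (hPK : P ≤ normalizer (K : Set G))
    (hKc : IsMulCommutative K) (hKp : ¬ p ∣ Nat.card K)
    (hfix : Cfsg.sigmaCore M ⊓ centralizer (P : Set G) = ⊥) :
    ⁅K, P⁆ ≤ centralizer (Cfsg.sigmaCore M : Set G) ∧ IsCyclic ↥⁅K, P⁆ ∧
      M ≤ normalizer ((⁅K, P⁆ : Subgroup G) : Set G) := by
  haveI := hKc
  have hKle : ⁅K, P⁆ ≤ K := CoprimeAction.commutator_le_self_of_le_normalizer hPK
  have hcop : (Nat.card P).Coprime (Nat.card K) := hP ▸ hp.out.coprime_iff_not_dvd.2 hKp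
  have hPn : P ≤ normalizer ((⁅K, P⁆ : Subgroup G) : Set G) :=
    BGSCNUniqueMain.le_normalizer_commutator' hPK le_normalizer
  have hP1 : P ≠ ⊥ := fun h => hp.out.one_lt.ne (by rw [← hP, h, card_bot])
  have hσc : ∀ X : Subgroup G, (∀ q : ℕ, q.Prime → q ∣ Nat.card X → q ∉ Cfsg.sigma M) →
      (Nat.card X).Coprime (Nat.card (Cfsg.sigmaCore M)) := fun X hX =>
    Nat.coprime_of_dvd fun q hq h1 h2 => hX q hq h1 ((hall_sigma hG hM).1.2.1 q hq h2)
  have hσM : Cfsg.sigmaCore M ≤ M := map_subtype_le _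
  have hCle : ⁅K, P⁆ ≤ centralizer (Cfsg.sigmaCore M : Set G) := by
    refine BGFrobeniusAct.le_centralizer hP1 hPn (fun r hr hr1 => ?_)
      ((hKle.trans hKM).trans (le_normalizer_core _ M)) (hPM.trans (le_normalizer_core _ M))
      (hσc _ fun q hq hd => hK q hq (hd.trans (card_dvd_of_le hKle))) (hσc P fun q hq hd => ?_)
      (isSolvable_of_ne_top hG fun h => hM.1 (top_le_iff.1 (h ▸ hσM))) hfix
    · rw [eq_bot_iff]
      intro x hx
      have hxP : x ∈ K ⊓ centralizer (P : Set G) := by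
        refine ⟨hKle hx.1, mem_centralizer_iff.2 fun s hs => ?_⟩
        have hgen : zpowers r = P := eq_of_le_of_card_ge (zpowers_le.2 hr) (by
          rw [Nat.card_zpowers, PGroupsBasic.orderOf_eq_of_pow_eq_one
            (PGroupsBasic.pow_eq_one_of_card hP hr) hr1, hP])
        rw [← hgen] at hs
        obtain ⟨i, rfl⟩ := mem_zpowers_iff.1 hs
        exact (Commute.zpow_left (mem_centralizer_singleton_iff.1 hx.2).symm i).eq
      have h := CoprimeAction.inf_centralizer_inf_commutator_eq_bot (V := K) (A := P) hPK hcop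
      exact h ▸ mem_inf.2 ⟨hxP, hx.1⟩
    · rw [hP] at hd
      exact (Nat.prime_dvd_prime_iff_eq hq hp.out).1 hd ▸ hp'
  have hKle' : ⁅K, P⁆ ≤ ⁅M, M⁆ := commutator_mono hKM hPM
  obtain ⟨hc, hn⟩ := sigma'_centralizer_cyclic hG hM (hKle.trans hKM)
    fun q hq hd => hK q hq (hd.trans (card_dvd_of_le hKle))
  rw [inf_eq_left.2 hCle, inf_eq_left.2 hKle'] at hc hn
  exact ⟨hCle, hc, hn⟩

end Cfsg.Agent.BGSigma
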