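import Cfsg.Agent.Lib.BGPrimeTau1
import Cfsg.Agent.Lib.TransferPow
import Cfsg.Agent.S1428

/-!
Two nonconjugate maximal subgroups sharing a Sylow subgroup for a common sigma prime
(towards Bender-Glauberman 13.9).
-/

set_option autoImplicit false
set_option linter.style.haveILetI false

namespace Cfsg.Agent.BGSigmaPartition

open Subgroup
open Cfsg.Agent.BGUnique
open Cfsg.Agent.HallCore
open Cfsg.Agent.BGPrime
open scoped commutatorElement Pointwise

universe u

variable {G : Type u} [Group G] [Finite G]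

theorem card_sup_dvd_mul {A B : Subgroup G} (h : B ≤ normalizer (A : Set G)) :
    Nat.card ↥(A ⊔ B) ∣ Nat.card A * Nat.card B := by
  haveI : (A.subgroupOf (A ⊔ B)).Normal :=
    (normal_subgroupOf_iff_le_normalizer le_sup_left).2 (sup_le le_normalizer h)
  have h1 := HallCore.card_sup_dvd (B.subgroupOf (A ⊔ B)) (A.subgroupOf (A ⊔ B))
  rw [← subgroupOf_sup le_sup_right le_sup_left, sup_comm B A, subgroupOf_self, card_top,
    Nat.card_congr (subgroupOfEquivOfLe (le_sup_left : A ≤ A ⊔ B)).toEquiv,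
    Nat.card_congr (subgroupOfEquivOfLe (le_sup_right : B ≤ A ⊔ B)).toEquiv] at h1
  rwa [mul_comm] at h1

/-- A complement through two normalizing subgroups of prime order. -/
theorem exists_compl_pair (hG : Cfsg.IsMinSimpleOddOrder G) {M : Subgroup G} (hM : IsCoatom M)
    {p r : ℕ} (hp : p.Prime) (hr : r.Prime) (hps : p ∉ Cfsg.sigma M) (hrs : r ∉ Cfsg.sigma M)
    {A B : Subgroup G} (hA : Nat.card A = p) (hB : Nat.card B = r) (hAM : A ≤ M) (hBM : B ≤ M)
    (h : B ≤ normalizer (A : Set G)) :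
    ∃ E : Subgroup G, Cfsg.IsComplIn E (Cfsg.sigmaCore M) M ∧ A ≤ E ∧ B ≤ E := by
  obtain ⟨E, hE, hABE⟩ := exists_compl_ge hG hM (sup_le hAM hBM) fun s hs hd => by
    have h1 := hd.trans (card_sup_dvd_mul h)
    rw [hA, hB] at h1
    rcases hs.dvd_mul.1 h1 with h2 | h2
    · exact (Nat.prime_dvd_prime_iff_eq hs hp).1 h2 ▸ hps
    · exact (Nat.prime_dvd_prime_iff_eq hs hr).1 h2 ▸ hrs
  exact ⟨E, hE, le_sup_left.trans hABE, le_sup_right.trans hABE⟩

/-- `p ∈ τ₁(M)`: elements of prime order centralizing `P` centralize `C_{M_σ}(P)` (BG 13.4). -/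
theorem centralizes_fixed (hG : Cfsg.IsMinSimpleOddOrder G) {M : Subgroup G} (hM : IsCoatom M)
    {p r : ℕ} (hp : p ∈ Cfsg.tau1 M) (hr : r.Prime) (hrs : r ∉ Cfsg.sigma M)
    {P R : Subgroup G} (hP : Nat.card P = p) (hR : Nat.card R = r) (hPM : P ≤ M) (hRM : R ≤ M)
    (hRP : R ≤ centralizer (P : Set G)) :
    Cfsg.sigmaCore M ⊓ centralizer (P : Set G) ≤ centralizer (R : Set G) := by
  obtain ⟨E, hE, hPE, hRE⟩ := exists_compl_pair hG hM hp.1 hr hp.2.1 hrs hP hR hPM hRM
    (hRP.trans (centralizer_le_normalizer _))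
  exact (S1428.result hG M hM E hE p hp P hPE hP R (le_inf hRE hRP) (hR ▸ hr)).trans inf_le_right

/-- `M` and `H` share the Sylow `q`-subgroup `S`, `q` a sigma prime of both. -/
structure Shared (q : ℕ) (M H S : Subgroup G) : Prop where
  hM : IsCoatom M
  hH : IsCoatom H
  ne : ∀ g : G, H ≠ M.map (MulAut.conj g).toMonoidHom
  qM : q ∈ Cfsg.sigma M
  qH : q ∈ Cfsg.sigma H
  maxM : IsMaxP q S M
  maxH : IsMaxP q S H

variable {q : ℕ} [hq : Fact q.Prime] {M H S : Subgroup G}

omit hq in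
theorem Shared.symm (h : Shared q M H S) : Shared q H M S :=
  ⟨h.hH, h.hM, fun g e => h.ne g⁻¹ (by rw [e]; exact (BGTypeP.cj_inv_cj g H).symm),
    h.qH, h.qM, h.maxH, h.maxM⟩

variable (hG : Cfsg.IsMinSimpleOddOrder G) (h : Shared q M H S)
include hG h

theorem Shared.normalizer_le : normalizer (S : Set G) ≤ M ⊓ H :=
  le_inf (BGSigma.normalizer_le_of_sigma h.qM h.maxM) (BGSigma.normalizer_le_of_sigma h.qH h.maxH)

theorem Shared.abelian : IsMulCommutative S := by
  by_contra hab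
  have h1 := eq_of_unique (S1422.result hG q S h.maxM.isPGroup hab) h.hH h.maxH.le h.hM h.maxM.le
  exact h.ne 1 (by rw [h1]; exact (BGTypeP.cj_one M).symm)

theorem Shared.not_nilpotent : ¬ Group.IsNilpotent ↥(Cfsg.sigmaCore M) := fun hn => by
  obtain ⟨g, hg⟩ := BGSigma.conj_of_sigma_inter_of_nilpotent hG h.hM hn h.hH h.qM h.qH
  exact h.ne g hg

theorem Shared.rank_one {s : ℕ} [hs : Fact s.Prime] (hsM : s ∉ Cfsg.sigma M) :
    Cfsg.PRankLE s 1 M := by
  by_contra hr
  obtain ⟨A, hAM, hA, hAc⟩ := exists_sq_of_not_rank_one hr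
  exact h.not_nilpotent hG (S1417.result hG M h.hM s (mem_tau2_of_not_rank_one hG h.hM hsM hr) A
    ⟨hAM, hA, hAc⟩).1

theorem Shared.not_beta : q ∉ Cfsg.beta M := fun hb => by
  obtain ⟨g, hg⟩ := BGSigma.conj_of_alpha_inter_sigma hG h.hM h.hH hb.1 h.qH
  exact h.ne g hg

theorem Shared.beta_disjoint {a : ℕ} (ha : a ∈ Cfsg.beta M) : a ∉ Cfsg.sigma H := fun hs => by
  haveI := Fact.mk hs.1
  obtain ⟨g, hg⟩ := BGSigma.conj_of_alpha_inter_sigma hG h.hM h.hH ha.1 hs
  exact h.ne g hg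

theorem Shared.le_sigmaCore : S ≤ Cfsg.sigmaCore M :=
  BGTypeP.le_sigmaCore hG h.hM h.maxM.le (BGSigma.piNat_of_isPGroup h.maxM.isPGroup h.qM)

theorem Shared.le_derived : S ≤ ⁅M, M⁆ := BGSigma.le_commutator hG h.hM h.qM h.maxM

/-- `q`-subgroups of `N(S)` lie in `S`. -/
theorem Shared.le_of_pgroup {A : Subgroup G} (hA : IsPGroup q A)
    (hAN : A ≤ normalizer (S : Set G)) : A ≤ S := by
  have h2 := (BGSigma.isMaxP_top_of_sigma h.qM h.maxM).eq_of_le _ (le_sup_left : S ≤ S ⊔ A) le_top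
    (IsPGroup.to_sup_of_normal_left' h.maxM.isPGroup hA hAN)
  exact le_sup_right.trans h2.le

/-- A prime power element of `M'` normalizing `S` centralizes it. -/
theorem Shared.centralizes_of_derived {r : ℕ} [Fact r.Prime] {A : Subgroup G} (hA : IsPGroup r A)
    (hAM : A ≤ ⁅M, M⁆) (hAN : A ≤ normalizer (S : Set G)) : A ≤ centralizer (S : Set G) := by
  by_cases hrq : r = q
  · subst hrq
    exact fun a ha => mem_centralizer_iff.2 fun b hb =>
      PGroupsBasic.comm_of_isMulCommutative (h.abelian hG) hb (h.le_of_pgroup hG hA hAN ha)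
  rw [← commutator_eq_bot_iff_le_centralizer, commutator_comm, eq_bot_iff,
    ← inf_betaCore_eq_bot hG h.hM h.hH h.symm.ne (X := S)
      (fun s hs hd => BGSigma.piNat_of_isPGroup h.maxM.isPGroup h.qH s hs hd)]
  refine le_inf (le_normalizer_iff_commutator_le_left.1 hAN) ?_
  refine commutator_le_beta hG h.hM (h.le_derived hG) hAM ?_
  obtain ⟨i, hi⟩ := IsPGroup.iff_card.1 hA
  obtain ⟨j, hj⟩ := IsPGroup.iff_card.1 h.maxM.isPGroup
  rw [hi, hj]
  exact ((Nat.coprime_primes Fact.out Fact.out).2 fun e : q = r => hrq e.symm).pow j i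

theorem Shared.derived_normalizer :
    ⁅normalizer (S : Set G), normalizer (S : Set G)⁆ ≤ centralizer (S : Set G) := by
  set D := ⁅normalizer (S : Set G), normalizer (S : Set G)⁆ with hD
  have hNM := (h.normalizer_le hG).trans inf_le_left
  refine le_of_qgroups fun r hr => ?_
  haveI := Fact.mk hr
  obtain ⟨R⟩ := (inferInstance : Nonempty (Sylow r D))
  refine ⟨_, map_subtype_le _, h.centralizes_of_derived hG (R.isPGroup'.map D.subtype)
    ((map_subtype_le _).trans (commutator_mono hNM hNM))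
    ((map_subtype_le _).trans (commutator_le_self _)), ?_⟩
  rw [card_map_of_injective D.subtype_injective]
  exact R.card_eq_multiplicity

/-- A complement of `S` in `N(S)` with `[S, V] = S`. -/
theorem Shared.exists_compl : ∃ V : Subgroup G, V ≤ normalizer (S : Set G) ∧
    (Nat.card V).Coprime (Nat.card S) ∧ S = ⁅S, V⁆ := by
  set N := normalizer (S : Set G) with hN
  obtain ⟨S', hS'⟩ := (BGSigma.isMaxP_top_of_sigma h.qM h.maxM).exists_sylow_top
  haveI : (S.subgroupOf N).Normal := normal_in_normalizer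
  have hcopS : (Nat.card (S.subgroupOf N)).Coprime (S.subgroupOf N).index := by
    obtain ⟨i, hi⟩ := IsPGroup.iff_card.1 h.maxM.isPGroup
    rw [Nat.card_congr (subgroupOfEquivOfLe le_normalizer).toEquiv, hi]
    refine Nat.Coprime.pow_left i (hq.out.coprime_iff_not_dvd.2 fun hd => ?_)
    refine S'.not_dvd_index ?_
    rw [hS', ← relIndex_mul_index (le_normalizer : S ≤ N)]
    exact hd.mul_right _
  obtain ⟨V₀, hV₀⟩ := exists_right_complement'_of_coprime hcopS
  set V := V₀.map N.subtype with hV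
  have hcompl : Cfsg.IsComplIn S V N := by
    refine ⟨le_normalizer, map_subtype_le _, ?_, fun n hn => ?_⟩
    · rw [eq_bot_iff]
      rintro x ⟨hxS, y, hy, rfl⟩
      have : y ∈ S.subgroupOf N ⊓ V₀ := ⟨hxS, hy⟩
      rw [disjoint_iff.1 hV₀.disjoint, mem_bot] at this
      rw [this]
      exact one_mem _
    · obtain ⟨⟨⟨a, ha⟩, ⟨b, hb⟩⟩, hab⟩ := (hV₀.existsUnique ⟨n, hn⟩).exists
      exact ⟨a, ha, b, mem_map_of_mem _ hb, (congrArg Subtype.val hab).symm⟩
  refine ⟨V, map_subtype_le _, ?_, ?_⟩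
  · rw [hV, card_map_of_injective N.subtype_injective, ← hV₀.symm.index_eq_card]
    rw [Nat.card_congr (subgroupOfEquivOfLe (le_normalizer : S ≤ N)).toEquiv] at hcopS
    exact hcopS.symm
  · have h1 := (S1411.result hG q S' V (by rw [hS']; exact hcompl)).1
    rwa [hS'] at h1

/-- Prime power elements of `N(S)` not centralizing `S`: the prime lies in `τ₁(M)`, and already the
element of prime order acts nontrivially. -/
theorem Shared.moving_tau1 {s : ℕ} [hs : Fact s.Prime] {A : Subgroup G} (hA : IsPGroup s A)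
    (hAN : A ≤ normalizer (S : Set G)) (hne : ¬ A ≤ centralizer (S : Set G)) :
    s ∈ Cfsg.tau1 M := by
  have hAM : A ≤ M := hAN.trans ((h.normalizer_le hG).trans inf_le_left)
  have hsd : s ∣ Nat.card M := (dvd_card_of_ne_bot hA fun e => hne (e ▸ bot_le)).trans
    (card_dvd_of_le hAM)
  have hsσ : s ∉ Cfsg.sigma M := fun hσ => hne (h.centralizes_of_derived hG hA
    (le_commutator_of_sigma_tau3 hG h.hM (Or.inl hσ) hA hAM) hAN)
  have hr := h.rank_one hG hsσ
  refine ⟨hs.out, hsσ, hsd, fun hd => hne (h.centralizes_of_derived hG hA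
    (le_commutator_of_sigma_tau3 hG h.hM (Or.inr ⟨hs.out, hsσ, hd, hr⟩) hA hAM) hAN), hr⟩

/-- Elements of prime order acting nontrivially on `S` act fixed point freely. -/
theorem Shared.fixed_eq_bot {p : ℕ} [hp : Fact p.Prime] {P : Subgroup G} (hP : Nat.card P = p)
    (hPN : P ≤ normalizer (S : Set G)) (hne : ¬ P ≤ centralizer (S : Set G)) :
    S ⊓ centralizer (P : Set G) = ⊥ := by
  set N := normalizer (S : Set G) with hN
  have hNM : N ≤ M := (h.normalizer_le hG).trans inf_le_left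
  have hPp := isPGroup_card_prime hP
  have hp1 := h.moving_tau1 hG hPp hPN hne
  have hPM : P ≤ M := hPN.trans hNM
  set C₀ := S ⊓ centralizer (P : Set G) with hC₀
  have hD := h.derived_normalizer hG
  -- the covering
  have hCn : N ≤ normalizer (centralizer (S : Set G) : Set G) := by
    refine CoprimeAction.le_normalizer_of_conj_mem fun x hx c hc => ?_
    refine mem_centralizer_iff.2 fun t ht => ?_
    have ht' : x⁻¹ * t * x ∈ S := by
      have h := (mem_normalizer_iff.1 (inv_mem hx) t).1 ht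
      rwa [inv_inv] at h
    have h1 := mem_centralizer_iff.1 hc _ ht'
    calc t * (x * c * x⁻¹) = x * (x⁻¹ * t * x * c) * x⁻¹ := by group
      _ = x * (c * (x⁻¹ * t * x)) * x⁻¹ := by rw [h1]
      _ = x * c * x⁻¹ * t := by group
  have hcover : ∀ n ∈ N, ∃ c ∈ centralizer (S : Set G), c * n ∈ N ⊓ centralizer (P : Set G) := by
    intro n hn
    set K := P ⊔ centralizer (S : Set G) with hK
    have hKN : K ≤ N := sup_le hPN (centralizer_le_normalizer _)
    have hnP : MulAut.conj n • P ≤ K := by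
      rintro _ ⟨z, hz, rfl⟩
      show n * z * n⁻¹ ∈ K
      have h1 : z⁻¹ * (n * z * n⁻¹) ∈ centralizer (S : Set G) := hD (by
        have := commutator_mem_commutator (inv_mem (hPN hz)) hn (H₁ := N) (H₂ := N)
        rw [commutatorElement_def, inv_inv] at this
        simpa [mul_assoc] using this)
      have h2 := mul_mem_sup (S := P) hz h1
      simpa [mul_assoc] using h2
    obtain ⟨T, hT, hPT⟩ := exists_isMaxP_ge hPp (le_sup_left : P ≤ K)
    obtain ⟨k, hk, hkT⟩ := BGSigma.exists_conj_maxP hT hnP (hPp.map _)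
    have hTM : T ≤ M := hT.le.trans (hKN.trans hNM)
    have he : P = MulAut.conj k • MulAut.conj n • P := by
      haveI := isCyclic_of_rank_one hG hp1.2.2.2.2 hT.isPGroup hTM
      letI : CommGroup T := IsCyclic.commGroup
      exact eq_of_commute hp1.2.2.2.2 hPM (hkT.trans hTM) hP
        (by rw [CoprimeSZ.card_conj_smul, CoprimeSZ.card_conj_smul, hP]) fun x hx y hy =>
          congrArg Subtype.val (mul_comm (⟨x, hPT hx⟩ : T) ⟨y, hkT hy⟩)
    have hk' : k ∈ (↑P * ↑(centralizer (S : Set G)) : Set G) := by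
      rw [← coe_mul_of_left_le_normalizer_right P (centralizer (S : Set G)) (hPN.trans hCn)]
      exact hk
    obtain ⟨z, hz, c, hc, rfl⟩ := hk'
    refine ⟨c, hc, mul_mem (centralizer_le_normalizer _ hc) hn, ?_⟩
    have hcn : c * n ∈ normalizer (P : Set G) := CoprimeAction.mem_normalizer_of_conj_smul_eq (by
      have h2 : MulAut.conj (z * c * n) • P = P := by
        rw [map_mul, mul_smul]; exact he.symm
      calc MulAut.conj (c * n) • P = MulAut.conj z⁻¹ • MulAut.conj (z * c * n) • P := by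
            rw [← mul_smul, ← map_mul]; congr 2; group
        _ = P := by rw [h2]; exact BGSigma.conj_le_normalizer (le_normalizer (inv_mem hz)))
    exact normalizer_le_centralizer_of_tau1 hG hPp hPM hp1.2.2.2.1
      (A := M ⊓ normalizer (P : Set G)) inf_le_left inf_le_right
      ⟨hNM (mul_mem (centralizer_le_normalizer _ hc) hn), hcn⟩
  -- `C_{N}(P)` centralizes `C₀`
  have hW : N ⊓ centralizer (P : Set G) ≤ centralizer (C₀ : Set G) := by
    refine le_of_qgroups fun s hs => ?_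
    haveI := Fact.mk hs
    obtain ⟨W⟩ := (inferInstance : Nonempty (Sylow s ↥(N ⊓ centralizer (P : Set G))))
    refine ⟨_, map_subtype_le _, fun v hv => ?_,
      by rw [card_map_of_injective (Subgroup.subtype_injective _)]; exact W.card_eq_multiplicity⟩
    have hv' : v ∈ N ⊓ centralizer (P : Set G) := map_subtype_le _ hv
    have hvp : IsPGroup s ↥(zpowers v) := (W.isPGroup'.map _).to_le (zpowers_le.2 hv)
    by_cases hvS : zpowers v ≤ centralizer (S : Set G)
    · exact centralizer_le (show (C₀ : Set G) ⊆ S from (inf_le_left : C₀ ≤ S)) (hvS (mem_zpowers v))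
    have hs1 := h.moving_tau1 hG hvp (zpowers_le.2 hv'.1) hvS
    have hv1 : v ≠ 1 := fun e => hvS (by rw [e, zpowers_one_eq_bot]; exact bot_le)
    obtain ⟨s', hs', hs'v, v₁, hv₁, hv₁o⟩ := BGTypeP.exists_prime_order (orderOf_pos v).ne' hv1
    obtain ⟨i, hi⟩ := IsPGroup.iff_card.1 hvp
    rw [Nat.card_zpowers] at hi
    rw [hi] at hs'v
    have hss := (Nat.prime_dvd_prime_iff_eq hs' hs).1 (hs'.dvd_of_dvd_pow hs'v)
    subst hss
    have h1 := centralizes_fixed hG h.hM hp1 hs' hs1.2.1 hP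
      (show Nat.card (zpowers v₁) = s' by rw [Nat.card_zpowers, hv₁o]) hPM
      (zpowers_le.2 (hNM (zpowers_le.2 hv'.1 hv₁)))
      (zpowers_le.2 (zpowers_le.2 hv'.2 hv₁))
    refine mem_centralizer_iff.2 fun c hc => ?_
    have hcS : c ∈ Cfsg.sigmaCore M := h.le_sigmaCore hG (inf_le_left (a := S) hc)
    exact (prime_action_element hG h.hM hs1.2.1 hs1.2.2.2.2 (hNM hv'.1) hvp hv₁
      (fun e => by rw [e, orderOf_one] at hv₁o; exact hs'.one_lt.ne hv₁o) hcS
      (mem_centralizer_iff.1 (h1 ⟨hcS, inf_le_right (a := S) hc⟩) v₁ (mem_zpowers v₁)).symm).eq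
  obtain ⟨V, hVN, hVS, hSV⟩ := h.exists_compl hG
  haveI := h.abelian hG
  rw [eq_bot_iff, ← CoprimeAction.inf_centralizer_inf_commutator_eq_bot hVN hVS, ← hSV]
  refine le_inf (le_inf inf_le_left ?_) inf_le_left
  refine le_centralizer_iff.1 fun v hv => ?_
  obtain ⟨c, hc, hcn⟩ := hcover v (hVN hv)
  have := mul_mem (inv_mem (centralizer_le (show (C₀ : Set G) ⊆ S from (inf_le_left : C₀ ≤ S)) hc))
    (hW hcn)
  rwa [inv_mul_cancel_left] at this

/-- There is a prime of `τ₁(M) ∩ τ₁(H)` with an element acting fixed point freely on `S`. -/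
theorem Shared.exists_fpf : ∃ p : ℕ, p ∈ Cfsg.tau1 M ∧ p ∈ Cfsg.tau1 H ∧ ∃ P : Subgroup G,
    Nat.card P = p ∧ P ≤ normalizer (S : Set G) ∧ S ⊓ centralizer (P : Set G) = ⊥ := by
  obtain ⟨V, hVN, -, hSV⟩ := h.exists_compl hG
  have hnot : ¬ V ≤ centralizer (S : Set G) := by
    intro hV
    have h0 : S ≠ ⊥ := fun e => by
      obtain ⟨T, hT⟩ := h.maxM.exists_sylow
      rw [e, map_eq_bot_iff_of_injective _ M.subtype_injective] at hT
      exact T.ne_bot_of_dvd_card h.qM.2.1 hT
    exact h0 (by rw [hSV, commutator_comm]; exact commutator_eq_bot_iff_le_centralizer.2 hV)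
  obtain ⟨s, hs, A, hA, hAN, hAne⟩ : ∃ s : ℕ, s.Prime ∧ ∃ A : Subgroup G, IsPGroup s A ∧
      A ≤ normalizer (S : Set G) ∧ ¬ A ≤ centralizer (S : Set G) := by
    by_contra hall
    refine hnot (le_of_qgroups fun s hs => ?_)
    haveI := Fact.mk hs
    obtain ⟨A⟩ := (inferInstance : Nonempty (Sylow s V))
    refine ⟨_, map_subtype_le _, by_contra fun hne => hall ⟨s, hs, _, A.isPGroup'.map _,
      (map_subtype_le _).trans hVN, hne⟩, ?_⟩
    rw [card_map_of_injective V.subtype_injective]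
    exact A.card_eq_multiplicity
  haveI := Fact.mk hs
  obtain ⟨v, hvA, hvS⟩ := SetLike.not_le_iff_exists.1 hAne
  have hvp : IsPGroup s ↥(zpowers v) := hA.to_le (zpowers_le.2 hvA)
  have hvN : zpowers v ≤ normalizer (S : Set G) := zpowers_le.2 (hAN hvA)
  have hvne : ¬ zpowers v ≤ centralizer (S : Set G) := fun e => hvS (e (mem_zpowers v))
  have hs1 := h.moving_tau1 hG hvp hvN hvne
  have hv1 : v ≠ 1 := fun e => hvS (e ▸ one_mem _)
  obtain ⟨s', hs', hs'v, v₁, hv₁, hv₁o⟩ := BGTypeP.exists_prime_order (orderOf_pos v).ne' hv1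
  obtain ⟨i, hi⟩ := IsPGroup.iff_card.1 hvp
  rw [Nat.card_zpowers] at hi
  rw [hi] at hs'v
  have hss := (Nat.prime_dvd_prime_iff_eq hs' hs).1 (hs'.dvd_of_dvd_pow hs'v)
  subst hss
  have hc : Nat.card (zpowers v₁) = s' := by rw [Nat.card_zpowers, hv₁o]
  have hne₁ : ¬ zpowers v₁ ≤ centralizer (S : Set G) := fun e => hvS (mem_centralizer_iff.2
    fun c hc' => (prime_action_element hG h.hM hs1.2.1 hs1.2.2.2.2
      ((h.normalizer_le hG) (hvN (mem_zpowers v))).1 hvp hv₁
      (fun e => by rw [e, orderOf_one] at hv₁o; exact hs'.one_lt.ne hv₁o)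
      (h.le_sigmaCore hG hc')
      (mem_centralizer_iff.1 (e (mem_zpowers v₁)) c hc')).eq)
  have hN₁ : zpowers v₁ ≤ normalizer (S : Set G) := (zpowers_le.2 hv₁).trans hvN
  exact ⟨s', hs1, h.symm.moving_tau1 hG (isPGroup_card_prime hc) hN₁ hne₁, _, hc, hN₁,
    h.fixed_eq_bot hG hc hN₁ hne₁⟩

end Cfsg.Agent.BGSigmaPartition
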