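import Cfsg.Agent.Lib.BGSigmaRank
import Cfsg.Agent.Lib.BGTypeSetup
import Cfsg.Agent.Lib.BGTypeConj
import Cfsg.Agent.Lib.BGFinalBasic72
import Cfsg.Agent.Lib.BGSigmaPartition
import Cfsg.Agent.Lib.CoprimeSZ
import Cfsg.Agent.S1416
import Cfsg.Agent.S1417
import Cfsg.Agent.S1418
import Cfsg.Agent.S1420
import Cfsg.Agent.S1424

/-!
# BG section 14, second part: shared lemmas on pairs of maximal subgroups

Conjugation equivariance of `σ`, `M_σ`, complements of `M_σ`, and the basic lemma on a maximal subgroup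
containing the normaliser of a `σ(M)`-subgroup.
-/

set_option autoImplicit false

namespace Cfsg.Agent.BGSupport35

open Subgroup Cfsg.Agent.BGUnique Cfsg.Agent.BGTypeBasic
open scoped Pointwise

universe u

variable {G : Type u} [Group G] [Finite G]

/-! ### Conjugation -/

omit [Finite G] in
theorem card_smul (g : G) (H : Subgroup G) : Nat.card ↥(MulAut.conj g • H) = Nat.card H :=
  (Nat.card_congr (Subgroup.equivSMul (MulAut.conj g) H).toEquiv).symm

omit [Finite G] in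
theorem smul_smul' (g h : G) (H : Subgroup G) :
    MulAut.conj g • MulAut.conj h • H = MulAut.conj (g * h) • H := by
  rw [← mul_smul, ← map_mul]

omit [Finite G] in
theorem inv_smul_smul' (g : G) (H : Subgroup G) : MulAut.conj g⁻¹ • MulAut.conj g • H = H := by
  rw [map_inv, inv_smul_smul]

theorem mem_sigma_iff {p : ℕ} [hp : Fact p.Prime] {M : Subgroup G} :
    p ∈ Cfsg.sigma M ↔
      p ∣ Nat.card M ∧ ∃ P, IsMaxP p P M ∧ normalizer (P : Set G) ≤ M := by
  constructor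
  · rintro ⟨-, hd, P, hP⟩
    exact ⟨hd, _, isMaxP_sylow M P, hP⟩
  · rintro ⟨hd, P, hP, hN⟩
    obtain ⟨S, rfl⟩ := hP.exists_sylow
    exact ⟨hp.out, hd, S, hN⟩

theorem sigma_smul (g : G) (M : Subgroup G) : Cfsg.sigma (MulAut.conj g • M) = Cfsg.sigma M := by
  have key : ∀ (a : G) (L : Subgroup G) (p : ℕ), p ∈ Cfsg.sigma L →
      p ∈ Cfsg.sigma (MulAut.conj a • L) := by
    intro a L p h
    haveI := Fact.mk h.1
    obtain ⟨hd, P, hP, hN⟩ := mem_sigma_iff.1 h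
    refine mem_sigma_iff.2 ⟨by rwa [card_smul], _, BGSigma.isMaxP_conj a hP, ?_⟩
    rw [conj_smul_normalizer]
    exact pointwise_smul_le_pointwise_smul_iff.2 hN
  ext p
  refine ⟨fun h => ?_, key g M p⟩
  have := key g⁻¹ _ p h
  rwa [inv_smul_smul'] at this

theorem sigma_map (g : G) (M : Subgroup G) :
    Cfsg.sigma (M.map (MulAut.conj g).toMonoidHom) = Cfsg.sigma M := by
  rw [← BGTypeBasic.conj_smul_eq_map, sigma_smul]

theorem sigmaCore_smul (g : G) (M : Subgroup G) :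
    Cfsg.sigmaCore (MulAut.conj g • M) = MulAut.conj g • Cfsg.sigmaCore M := by
  rw [BGTypeBasic.conj_smul_eq_map, BGTypeBasic.conj_smul_eq_map]
  unfold Cfsg.sigmaCore
  rw [← BGTypeConj.map_subtype_map, HallCore.map_equiv_piCore, sigma_map]

theorem fittingHallOf_smul (g : G) (M : Subgroup G) :
    Cfsg.fittingHallOf (MulAut.conj g • M) = MulAut.conj g • Cfsg.fittingHallOf M := by
  rw [BGTypeBasic.conj_smul_eq_map, BGTypeBasic.conj_smul_eq_map, BGTypeConj.fittingHallOf_map]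

omit [Finite G] in
theorem centralizer_singleton_smul (g x : G) :
    MulAut.conj g • centralizer ({x} : Set G) = centralizer ({g * x * g⁻¹} : Set G) := by
  rw [← conj_smul_centralizer, Set.image_singleton]

omit [Finite G] in
theorem smul_eq_self_of_mem {M : Subgroup G} {g : G} (hg : g ∈ normalizer (M : Set G)) :
    MulAut.conj g • M = M :=
  BGSigma.conj_le_normalizer hg

/-! ### Elements and subgroups of prime order -/

theorem exists_pow_prime {x : G} {q : ℕ} (hq : q ∣ orderOf x) :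
    ∃ n : ℕ, orderOf (x ^ n) = q :=
  ⟨_, orderOf_pow_orderOf_div (orderOf_pos x).ne' hq⟩

theorem isPGroup_zpowers_of_orderOf {x : G} {q : ℕ} (hx : orderOf x = q) :
    IsPGroup q (zpowers x) :=
  IsPGroup.of_card (n := 1) (by rw [Nat.card_zpowers, hx, pow_one])

theorem zpowers_ne_bot_of_orderOf {x : G} {q : ℕ} [hq : Fact q.Prime] (hx : orderOf x = q) :
    zpowers x ≠ ⊥ := by
  rw [Ne, zpowers_eq_bot]
  rintro rfl
  exact hq.out.one_lt.ne (by rw [← hx, orderOf_one])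

omit [Finite G] in
theorem centralizer_le_normalizer_pow (x : G) (n : ℕ) :
    centralizer ({x} : Set G) ≤ normalizer ((zpowers (x ^ n) : Subgroup G) : Set G) := by
  intro c hc
  have hcx : Commute x c := mem_centralizer_iff.1 hc x rfl
  refine centralizer_le_normalizer _ (mem_centralizer_iff.2 fun y hy => ?_)
  obtain ⟨j, rfl⟩ := hy
  exact ((hcx.pow_left n).zpow_left j).eq

theorem eq_of_card_eq_of_cyclic {C : Type*} [Group C] [Finite C] [IsCyclic C] {H K : Subgroup C}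
    (h : Nat.card H = Nat.card K) : H = K := by
  letI := IsCyclic.commGroup (α := C)
  have key : ∀ L : Subgroup C, L = (powMonoidHom (Nat.card L) : C →* C).ker := by
    intro L
    refine eq_of_le_of_card_ge (fun x hx => ?_) ?_
    · rw [MonoidHom.mem_ker, powMonoidHom_apply]
      have h1 := pow_card_eq_one' (G := L) (x := ⟨x, hx⟩)
      exact congrArg Subtype.val h1
    · rw [IsCyclic.card_powMonoidHom_ker, Nat.gcd_eq_right (card_subgroup_dvd_card L)]
  rw [key H, key K, h]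

theorem normalizer_le_of_cyclic {S X : Subgroup G} (hS : IsCyclic S) (hXS : X ≤ S) :
    normalizer (S : Set G) ≤ normalizer (X : Set G) := by
  haveI := hS
  intro g hg
  have h1 : MulAut.conj g • X ≤ S :=
    (pointwise_smul_le_pointwise_smul_iff.2 hXS).trans (smul_eq_self_of_mem hg).le
  have h2 : (MulAut.conj g • X).subgroupOf S = X.subgroupOf S := by
    refine eq_of_card_eq_of_cyclic ?_
    rw [Nat.card_congr (subgroupOfEquivOfLe h1).toEquiv,
      Nat.card_congr (subgroupOfEquivOfLe hXS).toEquiv, card_smul]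
  refine CoprimeAction.mem_normalizer_of_conj_smul_eq ?_
  rw [← map_subgroupOf_eq_of_le h1, h2, map_subgroupOf_eq_of_le hXS]

omit [Finite G] in
theorem not_pRankLE_one {q : ℕ} [hq : Fact q.Prime] {A N : Subgroup G} (hAN : A ≤ N)
    (hA : Cfsg.IsElementaryAbelian q A) (hAc : Nat.card A = q ^ 2) : ¬ Cfsg.PRankLE q 1 N := by
  intro hr1
  have h1 := hr1 (A.subgroupOf N) ⟨⟨fun u v => Subtype.ext (Subtype.ext
    (PGroupsBasic.comm_of_isMulCommutative hA.1 (x := ((u : N) : G)) u.2 v.2))⟩⟩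
    (fun u hu => Subtype.ext (by rw [SubgroupClass.coe_pow]; exact hA.2 _ hu))
  rw [Nat.card_congr (subgroupOfEquivOfLe hAN).toEquiv, hAc, pow_one] at h1
  exact absurd h1 (by nlinarith [hq.out.two_le])

theorem not_isCyclic_sq {q : ℕ} [Fact q.Prime] {A : Subgroup G}
    (hA : Cfsg.IsElementaryAbelian q A) (hAc : Nat.card A = q ^ 2) : ¬ IsCyclic A :=
  not_isCyclic_of_sq_le hA hAc.ge

/-! ### Complements of `M_σ` -/

variable (hG : Cfsg.IsMinSimpleOddOrder G)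
include hG

theorem exists_sigma_compl {N : Subgroup G} (hN : IsCoatom N) :
    ∃ E : Subgroup G, Cfsg.IsComplIn E (Cfsg.sigmaCore N) N := by
  set P := Cfsg.piCore (Cfsg.sigma N) N with hP
  haveI : P.Normal := Cfsg.piCore_normal _ _
  have hc : (Nat.card P).Coprime P.index := by
    have h := BGTypeSetup.sigmaCore_coprime hG hN
    rw [Cfsg.sigmaCore, card_map_of_injective N.subtype_injective, relIndex,
      BGSigma.subgroupOf_map_subtype_self] at h
    exact h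
  obtain ⟨H, hH⟩ := exists_right_complement'_of_coprime hc
  refine ⟨H.map N.subtype, map_subtype_le H, map_subtype_le P, ?_, ?_⟩
  · rw [Cfsg.sigmaCore, ← Subgroup.map_inf _ _ _ N.subtype_injective, hH.symm.disjoint.eq_bot,
      Subgroup.map_bot]
  · intro m hm
    obtain ⟨⟨⟨a, ha⟩, ⟨b, hb⟩⟩, hab⟩ := hH.symm.2 ⟨m, hm⟩
    exact ⟨(a : G), ⟨a, ha, rfl⟩, (b : G), ⟨b, hb, rfl⟩, (congrArg Subtype.val hab).symm⟩

theorem exists_sigma_compl_ge {N A : Subgroup G} (hN : IsCoatom N) (hAN : A ≤ N)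
    (hA : ∀ r : ℕ, r.Prime → r ∣ Nat.card A → r ∉ Cfsg.sigma N) :
    ∃ E : Subgroup G, A ≤ E ∧ Cfsg.IsComplIn E (Cfsg.sigmaCore N) N := by
  obtain ⟨E, hE⟩ := exists_sigma_compl hG hN
  set S := Cfsg.sigmaCore N with hS
  have hSN : S ≤ N := BGTypeSetup.sigmaCore_le N
  have hnS : N ≤ normalizer (S : Set G) := BGTypeSetup.le_normalizer_sigmaCore N
  have hcop : (Nat.card A).Coprime (Nat.card S) :=
    BGTypeSetup.coprime_of_primes fun r hr h1 h2 =>
      hA r hr h1 (BGTypeSetup.mem_sigma_of_dvd hG hN hr h2)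
  set L := A ⊔ S with hL
  have hLN : L ≤ N := sup_le hAN hSN
  have h1 : Cfsg.IsComplIn A S L := by
    refine ⟨le_sup_left, le_sup_right, inf_eq_bot_of_coprime hcop, fun m hm => ?_⟩
    have hm' : m ∈ ((A ⊔ S : Subgroup G) : Set G) := hm
    rw [coe_mul_of_left_le_normalizer_right A S (hAN.trans hnS)] at hm'
    obtain ⟨a, ha, b, hb, rfl⟩ := hm'
    exact ⟨a, ha, b, hb, rfl⟩
  have h2 : Cfsg.IsComplIn (E ⊓ L) S L := by
    refine ⟨inf_le_right, le_sup_right, ?_, fun m hm => ?_⟩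
    · exact le_bot_iff.1 ((inf_le_inf_right S inf_le_left).trans hE.2.2.1.le)
    obtain ⟨a, ha, b, hb, rfl⟩ := hE.2.2.2 m (hLN hm)
    refine ⟨a, ⟨ha, ?_⟩, b, hb, rfl⟩
    simpa using L.mul_mem hm (L.inv_mem ((le_sup_right : S ≤ L) hb))
  have hcard : Nat.card A = Nat.card ↥(E ⊓ L) := by
    have e1 := card_mul_of_isComplIn h1
    have e2 := card_mul_of_isComplIn h2
    exact Nat.eq_of_mul_eq_mul_right Nat.card_pos (e1.trans e2.symm)
  have hsolv : Group.IsSolvable A := hG.2.2.2 A fun h => hN.1 (top_le_iff.1 (h ▸ hAN))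
  obtain ⟨n, hn, hnA⟩ := CoprimeSZ.exists_conj_of_card_eq (N := S) (A := E ⊓ L) (B := A)
    ((inf_le_right.trans hLN).trans hnS) (hcard ▸ hcop)
    (Or.inl (haveI := hG.2.2.2 E fun h => hN.1 (top_le_iff.1 (h ▸ hE.1))
      CoprimeAction.isSolvable_of_le (inf_le_left : E ⊓ L ≤ E)))
    (by rw [sup_comm, sup_eq_of_isComplIn h2]; exact le_sup_left) hcard
  refine ⟨MulAut.conj n • E, hnA ▸ pointwise_smul_le_pointwise_smul_iff.2 inf_le_left, ?_⟩
  have h := isComplIn_conj hE n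
  rwa [smul_eq_self_of_mem (hnS (hSN hn)),
    smul_eq_self_of_mem (le_normalizer (hSN hn))] at h

/-! ### A maximal subgroup over the normaliser of a `σ(M)`-subgroup -/

/-- If `N ≠ M` contains `N(X)` for a nontrivial `σ(M)`-`q`-subgroup `X` of `M`, then `q ∈ τ₂(N)` and
`M ∩ N` is a complement of `N_σ` in `N`. -/
theorem embed {M N : Subgroup G} (hM : IsCoatom M) (hN : IsCoatom N) {q : ℕ} [hq' : Fact q.Prime]
    (hq : q ∈ Cfsg.sigma M) {X : Subgroup G} (hXq : IsPGroup q X) (hX1 : X ≠ ⊥) (hXM : X ≤ M)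
    (hne : N ≠ M) (hNX : normalizer (X : Set G) ≤ N) :
    (∀ g : G, N ≠ MulAut.conj g • M) ∧ q ∉ Cfsg.sigma N ∧ q ∈ Cfsg.tau2 N ∧
      (∃ A : Subgroup G, A ≤ M ⊓ N ∧ Cfsg.IsElementaryAbelian q A ∧ Nat.card A = q ^ 2) ∧
      Cfsg.IsComplIn (M ⊓ N) (Cfsg.sigmaCore N) N := by
  have hXN : X ≤ N := le_normalizer.trans hNX
  obtain ⟨S, hS, hXS⟩ := exists_isMaxP_ge hXq (le_inf hXM hXN)
  obtain ⟨T, hT⟩ := hS.exists_sylow
  obtain ⟨hnc, hNS, hidx⟩ := Cfsg.Agent.S1424.result hG M hM q hq X hXq hX1 hXM N hN hne hNX T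
    (hT.symm ▸ hXS)
  rw [hT] at hNS hidx
  have hnotconj : ∀ g : G, N ≠ MulAut.conj g • M := fun g => by
    rw [BGTypeBasic.conj_smul_eq_map]; exact hnc g
  have hqN : q ∉ Cfsg.sigma N := fun h => by
    obtain ⟨g, hg⟩ := BGSigmaPartition.conj_of_sigma_inter hG hM hN hq h
    exact hnc g hg
  have hSN : S ≤ N := hS.le.trans inf_le_right
  have hSmax : IsMaxP q S N := by
    refine ⟨hSN, hS.isPGroup, fun Q hSQ hQN hQ => ?_⟩
    refine le_antisymm (relIndex_eq_one.1 ?_) hSQ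
    obtain ⟨k, hk⟩ := hQ.exists_card_eq
    have h1 : S.relIndex Q ∣ q ^ k := hk ▸ relIndex_dvd_card _ _
    obtain ⟨j, -, hj⟩ := (Nat.dvd_prime_pow hq'.out).1 h1
    rcases Nat.eq_zero_or_pos j with rfl | hj0
    · simpa using hj
    · refine absurd ?_ hidx
      rw [← relIndex_mul_relIndex S Q N hSQ hQN, hj]
      exact Dvd.dvd.mul_right (dvd_pow_self q hj0.ne') _
  have hqd : q ∣ Nat.card N :=
    (BGUnique.dvd_card_of_ne_bot hXq hX1).trans (card_dvd_of_le hXN)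
  have hScyc : ¬ IsCyclic S := fun h =>
    hqN (mem_sigma_iff.2 ⟨hqd, S, hSmax, (normalizer_le_of_cyclic h hXS).trans hNX⟩)
  obtain ⟨A, hAS, hA, hAc⟩ := exists_elementary_sq_of_noncyclic hG hS.isPGroup hScyc
  have hAMN : A ≤ M ⊓ N := hAS.trans hS.le
  have hAM : A ≤ M := hAMN.trans inf_le_left
  have hτ : q ∈ Cfsg.tau2 N :=
    ⟨hq'.out, hqN, BGSigma.outside_alpha hG hN hq'.out hqN,
      not_pRankLE_one (hAMN.trans inf_le_right) hA hAc⟩
  refine ⟨hnotconj, hqN, hτ, ⟨A, hAMN, hA, hAc⟩, ?_⟩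
  obtain ⟨E, hAE, hE⟩ := exists_sigma_compl_ge hG hN (hAMN.trans inf_le_right) (fun r hr hd => by
    rw [hAc] at hd
    rw [(Nat.prime_dvd_prime_iff_eq hr hq'.out).1 (hr.dvd_of_dvd_pow hd)]
    exact hqN)
  obtain ⟨E0, hE0⟩ := exists_sigma_compl hG hM
  have hNA : normalizer (A : Set G) ≤ M :=
    (Cfsg.Agent.S1420.result hG M hM E0 hE0).2.2.1 q A hq (hS.isPGroup.to_le hAS) hAM
      (not_isCyclic_sq hA hAc)
  have hEeq := (Cfsg.Agent.S1418.result hG N hN E hE q hτ A ⟨hAE, hA, hAc⟩).2.1.2.1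
  have hEMN : E ≤ M ⊓ N :=
    le_inf ((hEeq.ge.trans inf_le_right).trans hNA) hE.1
  have hdisj := (Cfsg.Agent.S1417.result hG N hN q hτ A
    ⟨hAMN.trans inf_le_right, hA, hAc⟩).2.2.2.2.1 M hM (Ne.symm hne) hAM
  refine ⟨inf_le_right, hE.2.1, ?_, fun m hm => ?_⟩
  · rw [eq_bot_iff, ← hdisj]
    exact le_inf inf_le_right (inf_le_left.trans inf_le_left)
  · obtain ⟨a, ha, b, hb, rfl⟩ := hE.2.2.2 m hm
    exact ⟨a, hEMN ha, b, hb, rfl⟩

/-! ### `τ₂` primes -/

omit hG in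
theorem exists_sq_of_tau2 {M : Subgroup G} {p : ℕ} [hp : Fact p.Prime] (hp' : p ∈ Cfsg.tau2 M) :
    ∃ A : Subgroup G, A ≤ M ∧ Cfsg.IsElementaryAbelian p A ∧ Nat.card A = p ^ 2 := by
  obtain ⟨A, hAM, hA, hAc⟩ := pow_le_of_not_pRankLE hp'.2.2.2
  exact ⟨A, hAM, hA, le_antisymm (BGSigma.card_le_of_pRankLE hp'.2.2.1 hAM hA) hAc⟩

omit hG in
theorem isPGroup_sq {p : ℕ} [Fact p.Prime] {A : Subgroup G} (hA : Nat.card A = p ^ 2) :
    IsPGroup p A := IsPGroup.of_card hA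

/-- If `A ≤ M` has type `(p, p)` for `p ∈ τ₂(M)` and the maximal subgroup `L` contains `N(A)`, then
`τ₂(M) ⊆ σ(L)`. -/
theorem tau2_subset_sigma {M L : Subgroup G} (hM : IsCoatom M) (hL : IsCoatom L) {p : ℕ}
    [hp : Fact p.Prime] (hp' : p ∈ Cfsg.tau2 M) {A : Subgroup G} (hAM : A ≤ M)
    (hA : Cfsg.IsElementaryAbelian p A) (hAc : Nat.card A = p ^ 2)
    (hNA : normalizer (A : Set G) ≤ L) :
    ∀ r ∈ Cfsg.tau2 M, r ∈ Cfsg.sigma L := by
  have hAp : IsPGroup p A := IsPGroup.of_card hAc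
  have hAL : A ≤ L := le_normalizer.trans hNA
  have hCM : centralizer (A : Set G) ≤ M :=
    (Cfsg.Agent.S1416.result hG M hM p A ⟨hAM, hA, hAc⟩).1
  obtain ⟨-, hSyl, -, -, -, -⟩ := Cfsg.Agent.S1417.result hG M hM p hp' A ⟨hAM, hA, hAc⟩
  obtain ⟨S, hS, hAS⟩ := exists_isMaxP_ge hAp hAM
  obtain ⟨P, hP⟩ := hS.exists_sylow
  obtain ⟨-, hΩ⟩ := hSyl P
  rw [hP] at hΩ
  obtain ⟨hΩ, -⟩ := hΩ hAS
  have hNS : normalizer (S : Set G) ≤ L := by
    refine le_trans (fun g hg => ?_) hNA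
    refine CoprimeAction.mem_normalizer_of_conj_smul_eq ?_
    refine eq_of_le_of_card_ge (fun x hx => ?_) (by rw [card_smul])
    obtain ⟨a, ha, rfl⟩ := hx
    refine (hΩ _ ((mem_normalizer_iff.1 hg a).1 (hAS ha))).1 ?_
    show (g * a * g⁻¹) ^ p = 1
    rw [conj_pow, (hΩ a (hAS ha)).2 ha, mul_one, mul_inv_cancel]
  have hdvd : p ∣ Nat.card L :=
    ((dvd_pow_self p two_ne_zero).trans hAc.symm.dvd).trans (card_dvd_of_le hAL)
  have hpL : p ∈ Cfsg.sigma L := by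
    by_contra hpL
    have hτL : p ∈ Cfsg.tau2 L :=
      ⟨hp.out, hpL, BGSigma.outside_alpha hG hL hp.out hpL, not_pRankLE_one hAL hA hAc⟩
    obtain ⟨-, hSylL, -, -, -, -⟩ := Cfsg.Agent.S1417.result hG L hL p hτL A ⟨hAL, hA, hAc⟩
    obtain ⟨T, hT, hST⟩ := exists_isMaxP_ge hS.isPGroup (le_normalizer.trans hNS)
    obtain ⟨Q, hQ⟩ := hT.exists_sylow
    have hTab : ∀ x ∈ T, ∀ y ∈ T, x * y = y * x := by
      intro x hx y hy
      rw [← hQ] at hx hy
      obtain ⟨x', hx', rfl⟩ := hx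
      obtain ⟨y', hy', rfl⟩ := hy
      exact congrArg Subtype.val (PGroupsBasic.comm_of_isMulCommutative (hSylL Q).1 hx' hy')
    have hTM : T ≤ M := fun x hx => hCM (mem_centralizer_iff.2 fun a ha =>
      hTab a (hST (hAS ha)) x hx)
    have hTS : T = S := hS.eq_of_le T hST hTM hT.isPGroup
    exact hpL (mem_sigma_iff.2 ⟨hdvd, S, hTS ▸ hT, hNS⟩)
  intro r hr
  by_cases hrp : r = p
  · exact hrp ▸ hpL
  haveI := Fact.mk hr.1
  obtain ⟨B, hBM, hB, hBc⟩ := exists_sq_of_tau2 hr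
  obtain ⟨E, hAE, hE⟩ := exists_sigma_compl_ge hG hM hAM (fun s hs hd => by
    rw [hAc] at hd
    rw [(Nat.prime_dvd_prime_iff_eq hs hp.out).1 (hs.dvd_of_dvd_pow hd)]
    exact hp'.2.1)
  obtain ⟨E₁, hBE, hE₁⟩ := exists_sigma_compl_ge hG hM hBM (fun s hs hd => by
    rw [hBc] at hd
    rw [(Nat.prime_dvd_prime_iff_eq hs hr.1).1 (hs.dvd_of_dvd_pow hd)]
    exact hr.2.1)
  obtain ⟨m, hm, hmE⟩ := isComplIn_conjugate (BGTypeSetup.le_normalizer_sigmaCore M)
    ((relIndex_of_isComplIn (isComplIn_swap hE₁)).1 ▸ BGTypeSetup.sigmaCore_coprime hG hM)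
    (Or.inr (hG.2.2.2 _ fun h => hM.1 (top_le_iff.1 (h ▸ BGTypeSetup.sigmaCore_le M))))
    (isComplIn_swap hE₁) (isComplIn_swap hE)
  set C := MulAut.conj m • B with hCdef
  have hCE : C ≤ E := hmE ▸ pointwise_smul_le_pointwise_smul_iff.2 hBE
  have hCel : Cfsg.IsElementaryAbelian r C := PGroupsBasic.isElementaryAbelian_map_hom hB _
  have hCc : Nat.card C = r ^ 2 := by rw [hCdef, card_smul, hBc]
  have hnA := (Cfsg.Agent.S1418.result hG M hM E hE p hp' A ⟨hAE, hA, hAc⟩).1.1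
  have hnC := (Cfsg.Agent.S1418.result hG M hM E hE r hr C ⟨hCE, hCel, hCc⟩).1.1
  have hdis : A ⊓ C = ⊥ := by
    refine inf_eq_bot_of_coprime ?_
    rw [hAc, hCc]
    exact Nat.Coprime.pow _ _ ((Nat.coprime_primes hp.out hr.1).2 (Ne.symm hrp))
  have hcomm : C ≤ centralizer (A : Set G) := by
    rw [← commutator_eq_bot_iff_le_centralizer, commutator_comm, eq_bot_iff, ← hdis]
    refine le_inf ?_ ?_
    · exact le_normalizer_iff_commutator_le_left.1 (hCE.trans hnA)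
    · exact le_normalizer_iff_commutator_le_right.1 (hAE.trans hnC)
  have hCL : C ≤ L := hcomm.trans ((centralizer_le_normalizer _).trans hNA)
  by_contra hrL
  have hτ : r ∈ Cfsg.tau2 L :=
    ⟨hr.1, hrL, BGSigma.outside_alpha hG hL hr.1 hrL, not_pRankLE_one hCL hCel hCc⟩
  obtain ⟨-, -, -, hfix, -, -⟩ := Cfsg.Agent.S1417.result hG L hL r hτ C ⟨hCL, hCel, hCc⟩
  have hA0 : A ≤ Cfsg.sigmaCore L ⊓ centralizer (C : Set G) := by
    refine le_inf (fun a ha => BGTypeSetup.sigma_element_mem hG hL (hAL ha) fun s hs hd => ?_)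
      (le_centralizer_iff.1 hcomm)
    rw [(Nat.prime_dvd_prime_iff_eq hs hp.out).1
      (hs.dvd_of_dvd_pow ((hd.trans (A.orderOf_dvd_natCard ha)).trans hAc.dvd))]
    exact hpL
  rw [hfix, le_bot_iff] at hA0
  rw [hA0, card_bot] at hAc
  exact hp.out.one_lt.ne (by nlinarith [hp.out.two_le])

end Cfsg.Agent.BGSupport35
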