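import Cfsg.Agent.Lib.BGSupportCover35
import Cfsg.Agent.Lib.FrobeniusFixedPoints
import Cfsg.Agent.Lib.HallNilpotentConj
import Cfsg.Agent.Lib.ComponentsCores
import Cfsg.Agent.S1351
import Cfsg.Agent.S1353
import Cfsg.Agent.S1354
import Cfsg.Agent.S1366
import Cfsg.Agent.S1414
import Cfsg.Agent.S1419
import Cfsg.Agent.S1435

/-!
# BG 14.7: a supporting maximal subgroup with `κ ≠ ∅`

If `C(x) ≤ N` for `x ∈ M_σ` with `C(x) ⊄ M` and `κ(N) ≠ ∅`, then `κ(M) = τ₂(M) = ∅`.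
-/

set_option autoImplicit false

namespace Cfsg.Agent.BGSupport35

open Subgroup Cfsg.Agent.BGUnique Cfsg.Agent.BGTypeBasic
open scoped Pointwise

universe u

variable {G : Type u} [Group G] [Finite G]

variable (hG : Cfsg.IsMinSimpleOddOrder G)
include hG

/-- A standard factorisation inside a given complement of `N_σ`. -/
theorem exists_decomp_le {N E : Subgroup G} (hN : IsCoatom N)
    (hE : Cfsg.IsComplIn E (Cfsg.sigmaCore N) N) :
    ∃ K U : Subgroup G, Cfsg.IsSigmaDecomposition N K U ∧ K ≤ E ∧ U ≤ E ∧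
      E ≤ normalizer (U : Set G) ∧
      ∀ Y : Subgroup G, Y ≤ E → (∀ r : ℕ, r.Prime → r ∣ Nat.card Y → r ∉ Cfsg.kappa N) →
        Y ≤ U := by
  obtain ⟨⟨K₀, hK₀⟩, hcyc⟩ := Cfsg.Agent.S1351.result hG N hN
  obtain ⟨E₁, hKE₁, hE₁⟩ := exists_sigma_compl_ge hG hN hK₀.1
    (fun r hr hd => (hK₀.2.1 r hr hd).2.2.1)
  obtain ⟨m, hm, hmE⟩ := isComplIn_conjugate (BGTypeSetup.le_normalizer_sigmaCore N)
    ((relIndex_of_isComplIn (isComplIn_swap hE₁)).1 ▸ BGTypeSetup.sigmaCore_coprime hG hN)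
    (Or.inr (hG.2.2.2 _ fun h => hN.1 (top_le_iff.1 (h ▸ BGTypeSetup.sigmaCore_le N))))
    (isComplIn_swap hE₁) (isComplIn_swap hE)
  set K := MulAut.conj m • K₀ with hKdef
  have hK : Cfsg.IsPiHallOf (Cfsg.kappa N) K N := hall_conj hK₀ (BGTypeSetup.sigmaCore_le N hm)
  have hKE : K ≤ E := hmE ▸ pointwise_smul_le_pointwise_smul_iff.2 hKE₁
  obtain ⟨⟨U', hU'⟩, hn⟩ := Cfsg.Agent.S1352.result hG N hN K (hcyc K hK) hK
  have hnT := hn U' hU'
  have hσ := (BGSigma.hall_sigma hG hN).1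
  set T := U' ⊔ Cfsg.sigmaCore N with hT
  have hTN : T ≤ N := sup_le (BGTypeSetup.U_le hU') (BGTypeSetup.sigmaCore_le N)
  set U := T ⊓ E with hU
  have hUS : Cfsg.IsComplIn U (Cfsg.sigmaCore N) T := by
    refine ⟨inf_le_left, le_sup_right, ?_, fun t ht => ?_⟩
    · exact le_bot_iff.1 ((inf_le_inf_right _ inf_le_right).trans hE.2.2.1.le)
    obtain ⟨a, ha, b, hb, rfl⟩ := hE.2.2.2 t (hTN ht)
    refine ⟨a, ⟨?_, ha⟩, b, hb, rfl⟩
    simpa using T.mul_mem ht (T.inv_mem ((le_sup_right : Cfsg.sigmaCore N ≤ T) hb))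
  have hUc : Nat.card U = Nat.card U' := by
    refine Nat.eq_of_mul_eq_mul_right (Nat.card_pos (α := Cfsg.sigmaCore N))
      ((card_mul_of_isComplIn hUS).trans ?_)
    rw [hT, BGFinal72.card_U_sigma hσ hU']
  have hnU : E ≤ normalizer (U : Set G) :=
    CoprimeAction.le_normalizer_inf (hE.1.trans hnT) le_normalizer
  refine ⟨K, U, ⟨hcyc K hK, hK, ?_, hKE.trans hnU⟩, hKE, inf_le_right, hnU, fun Y hY hYk => ?_⟩
  · refine isComplIn_of_card (inf_le_right.trans hE.1)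
      (sup_le hK.1 (BGTypeSetup.sigmaCore_le N)) ?_ ?_
    · rw [hUc, BGFinal72.card_K_sigma hU']
      exact Nat.Coprime.mul_right (BGTypeSetup.coprime_U_K hG hN hU')
        (BGTypeSetup.coprime_U_sigmaCore hG hN hU')
    · rw [hUc]
      exact card_mul_of_isComplIn hU'.compl
  · exact le_inf (BGFinal72.le_U_sigma hσ hU' hnT (hY.trans hE.1) hYk) hY

/-- The configuration of BG 14.7. -/
theorem support_config {M : Subgroup G} (hM : IsCoatom M) {x : G} (hx : x ∈ Cfsg.sigmaCore M)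
    (hx1 : x ≠ 1) (hxM : ¬ centralizer ({x} : Set G) ≤ M) {N : Subgroup G} (hN : IsCoatom N)
    (hCN : centralizer ({x} : Set G) ≤ N) (hkN : (Cfsg.kappa N).Nonempty) :
    ∃ (q : ℕ) (A K U Ns : Subgroup G), q.Prime ∧ q ∈ Cfsg.tau2 N ∧ q ∈ Cfsg.sigma M ∧
      A ≤ U ∧ Cfsg.IsElementaryAbelian q A ∧ Nat.card A = q ^ 2 ∧
      Cfsg.IsComplIn (M ⊓ N) (Cfsg.sigmaCore N) N ∧
      Cfsg.IsSigmaDecomposition N K U ∧ K ≠ ⊥ ∧ K ≤ M ⊓ N ∧
      M ⊓ N ≤ normalizer (U : Set G) ∧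
      IsCoatom Ns ∧ Ns ≠ M ∧
      K = Cfsg.sigmaCore Ns ⊓
        centralizer ((Cfsg.sigmaCore N ⊓ centralizer (K : Set G) : Subgroup G) : Set G) ∧
      Cfsg.IsPiHallOf (Cfsg.kappa Ns) (Cfsg.sigmaCore N ⊓ centralizer (K : Set G)) Ns ∧
      Cfsg.sigmaCore N ⊓ centralizer (K : Set G) ≠ ⊥ ∧
      Cfsg.kappa M = ∅ ∧ U ≤ Cfsg.sigmaCore M ∧ M ⊓ N = U ⊔ K ∧
      K ≤ Cfsg.fittingOf (M ⊓ Ns) ∧ Cfsg.IsComplIn (M ⊓ Ns) (Cfsg.sigmaCore M) M := by
  obtain ⟨N', hN', hCN', huniq, hne, -, -, hcompl, -, hτ, -⟩ := centralizer_data hG hM hx hx1 hxM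
  obtain rfl : N = N' := huniq N hN hCN
  obtain ⟨q, hq, hqd⟩ := Nat.exists_prime_and_dvd
    (fun h => hx1 (orderOf_eq_one_iff.1 h) : orderOf x ≠ 1)
  haveI := Fact.mk hq
  have hqN := hτ q hq hqd
  have hqM : q ∈ Cfsg.sigma M :=
    BGTypeSetup.mem_sigma_of_dvd hG hM hq (hqd.trans ((Cfsg.sigmaCore M).orderOf_dvd_natCard hx))
  obtain ⟨n, hn⟩ := exists_pow_prime hqd
  obtain ⟨-, -, -, ⟨A, hAMN, hA, hAc⟩, -⟩ := embed hG hM hN hqM (isPGroup_zpowers_of_orderOf hn)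
    (zpowers_ne_bot_of_orderOf hn) (zpowers_le.2 (M.pow_mem (BGTypeSetup.sigmaCore_le M hx) n)) hne
    ((centralizer_le_normalizer_pow x n).trans' le_rfl |> fun h => by
      obtain ⟨L, hL, hNL⟩ := exists_coatom_ge (BGSigma.normalizer_ne_top' hG
        (zpowers_ne_bot_of_orderOf hn) fun e => hM.1 (top_le_iff.1
          (e ▸ zpowers_le.2 (M.pow_mem (BGTypeSetup.sigmaCore_le M hx) n))))
      exact huniq L hL (h.trans hNL) ▸ hNL)
  obtain ⟨K, U, d, hKE, hUE, hnU, hYU⟩ := exists_decomp_le hG hN hcompl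
  have hK1 : K ≠ ⊥ := BGFinal72.K_ne_bot_of_kappa d hkN
  have hAU : A ≤ U := hYU A hAMN fun r hr hd => by
    rw [hAc] at hd
    rw [(Nat.prime_dvd_prime_iff_eq hr hq).1 (hr.dvd_of_dvd_pow hd)]
    exact not_kappa_of_tau2 hqN
  have hU1 : U ≠ ⊥ := fun h => by
    have := card_dvd_of_le hAU
    rw [hAc, h, card_bot, Nat.dvd_one] at this
    exact absurd this (by nlinarith [hq.two_le])
  have hdU : q ∣ Nat.card U :=
    ((dvd_pow_self q two_ne_zero).trans hAc.symm.dvd).trans (card_dvd_of_le hAU)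
  obtain ⟨Ns, ⟨hNs, hKst, hKstH⟩, -⟩ := Cfsg.Agent.S1366.result hG N hN K U d hK1
  have hKs1 : Cfsg.sigmaCore N ⊓ centralizer (K : Set G) ≠ ⊥ :=
    (Cfsg.Agent.S1354.result hG N hN K d.cyclic d.hall).1
  obtain ⟨S, hS, hAS⟩ := exists_isMaxP_ge (IsPGroup.of_card hAc) hAU
  obtain ⟨R, hR⟩ := hS.exists_sylow
  have hAtop : A ≠ ⊤ := fun h => hM.1 (top_le_iff.1 (h ▸ hAMN.trans inf_le_left))
  have hS1 : S ≠ ⊥ := fun h => by
    have := card_dvd_of_le hAS
    rw [hAc, h, card_bot, Nat.dvd_one] at this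
    exact absurd this (by nlinarith [hq.two_le])
  have hStop : S ≠ ⊤ := fun h => hM.1 (top_le_iff.1
    (h ▸ (hS.le.trans (hUE.trans inf_le_left))))
  obtain ⟨H, hH, hNH⟩ := exists_coatom_ge (BGSigma.normalizer_ne_top' hG hS1 hStop)
  obtain ⟨hκH, hUH, hNH', -, hKF, hHc⟩ := Cfsg.Agent.S1435.result hG N hN K U d hK1 hU1 Ns hNs
    hKst hKstH q hdU R H hH (by rw [hR]; exact hNH)
  have hAH : A ≤ H := hAU.trans (hUH.trans (BGTypeSetup.sigmaCore_le H))
  have hqH : q ∈ Cfsg.sigma H :=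
    BGTypeSetup.mem_sigma_of_dvd hG hH hq (hdU.trans (card_dvd_of_le hUH))
  obtain ⟨g, hg⟩ := BGSigmaPartition.conj_of_sigma_inter hG hM hH hqM hqH
  obtain ⟨c, hc, hcM⟩ := BGSigma.conj_transitive hG hM hqM _ A rfl (IsPGroup.of_card hAc)
    (fun h => by
      rw [h, card_bot] at hAc
      exact absurd hAc (by nlinarith [hq.two_le])) 1 g
    (by rw [map_one, one_smul]; exact hAMN.trans inf_le_left)
    (by rw [BGTypeBasic.conj_smul_eq_map, ← hg]; exact hAH)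
  rw [map_one, one_smul] at hcM
  obtain ⟨-, ⟨hCA, hNA, -⟩, -⟩ :=
    Cfsg.Agent.S1418.result hG N hN (M ⊓ N) hcompl q hqN A ⟨hAMN, hA, hAc⟩
  have hcM' : c ∈ M := by
    have := hCA hc
    rw [hNA] at this
    exact this.1
  have hHM : H = M := by
    rw [hg, ← BGTypeBasic.conj_smul_eq_map, ← hcM, conj_smul_le_self hcM']
  subst hHM
  have hNsne : Ns ≠ H := by
    rintro rfl
    obtain ⟨p, hp, hpd⟩ := Nat.exists_prime_and_dvd
      (fun h => hKs1 (card_eq_one.1 h) : Nat.card ↥(Cfsg.sigmaCore N ⊓ centralizer (K : Set G)) ≠ 1)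
    have := hKstH.2.1 p hp hpd
    rw [hκH] at this
    exact this
  exact ⟨q, A, K, U, Ns, hq, hqN, hqM, hAU, hA, hAc, hcompl, d, hK1, hKE, hnU, hNs, hNsne, hKst,
    hKstH, hKs1, hκH, hUH, by rw [inf_comm, hNH'], hKF, hHc⟩

/-- BG 14.7: `τ₂(M) = ∅` in this configuration. -/
theorem tau2_empty {M : Subgroup G} (hM : IsCoatom M) {x : G} (hx : x ∈ Cfsg.sigmaCore M)
    (hx1 : x ≠ 1) (hxM : ¬ centralizer ({x} : Set G) ≤ M) {N : Subgroup G} (hN : IsCoatom N)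
    (hCN : centralizer ({x} : Set G) ≤ N) (hkN : (Cfsg.kappa N).Nonempty) :
    Cfsg.tau2 M = ∅ := by
  obtain ⟨q, A, K, U, Ns, hq, hqN, hqM, hAU, hA, hAc, hcompl, d, hK1, hKMN, hnU, hNs, hNsne, hKst,
    hKstH, hKs1, hκM, hUM, hMN, hKF, hEc⟩ := support_config hG hM hx hx1 hxM hN hCN hkN
  haveI := Fact.mk hq
  refine Set.eq_empty_iff_forall_notMem.2 fun p hp => ?_
  haveI := Fact.mk hp.1
  set Ks := Cfsg.sigmaCore N ⊓ centralizer (K : Set G) with hKs
  have hAMN : A ≤ M ⊓ N := hMN ▸ hAU.trans le_sup_left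
  have hKcomm : Ks ≤ centralizer (K : Set G) := inf_le_right
  have hKNs : K ≤ Cfsg.sigmaCore Ns := hKst.le.trans inf_le_left
  -- an elementary subgroup of order `p ^ 2` inside the complement `M ⊓ Ns`
  obtain ⟨B₀, hB₀M, hB₀, hB₀c⟩ := exists_sq_of_tau2 hp
  obtain ⟨E₁, hBE₁, hE₁⟩ := exists_sigma_compl_ge hG hM hB₀M (fun s hs hd => by
    rw [hB₀c] at hd
    rw [(Nat.prime_dvd_prime_iff_eq hs hp.1).1 (hs.dvd_of_dvd_pow hd)]
    exact hp.2.1)
  obtain ⟨m, hm, hmE⟩ := isComplIn_conjugate (BGTypeSetup.le_normalizer_sigmaCore M)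
    ((relIndex_of_isComplIn (isComplIn_swap hE₁)).1 ▸ BGTypeSetup.sigmaCore_coprime hG hM)
    (Or.inr (hG.2.2.2 _ fun h => hM.1 (top_le_iff.1 (h ▸ BGTypeSetup.sigmaCore_le M))))
    (isComplIn_swap hE₁) (isComplIn_swap hEc)
  set B := MulAut.conj m • B₀ with hBdef
  have hBE : B ≤ M ⊓ Ns := hmE ▸ pointwise_smul_le_pointwise_smul_iff.2 hBE₁
  have hB : Cfsg.IsElementaryAbelian p B := PGroupsBasic.isElementaryAbelian_map_hom hB₀ _
  have hBc : Nat.card B = p ^ 2 := by rw [hBdef, card_smul, hB₀c]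
  have hBp : IsPGroup p B := IsPGroup.of_card hBc
  have hBM : B ≤ M := hBE.trans inf_le_left
  have hB1 : B ≠ ⊥ := fun h => by
    rw [h, card_bot] at hBc
    exact absurd hBc (by nlinarith [hp.1.two_le])
  have hCBM : centralizer (B : Set G) ≤ M :=
    (Cfsg.Agent.S1416.result hG M hM p B ⟨hBM, hB, hBc⟩).1
  have hEB : M ⊓ Ns ≤ normalizer (B : Set G) :=
    (Cfsg.Agent.S1418.result hG M hM (M ⊓ Ns) hEc p hp B ⟨hBE, hB, hBc⟩).1.1
  -- (1) abelian Sylow `p`-subgroups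
  have hab : ∀ S : Sylow p G, IsMulCommutative (S : Subgroup G) := by
    by_contra hnab
    obtain ⟨S₀, hS₀⟩ := not_forall.1 hnab
    have hall : ∀ S : Sylow p G, ¬ IsMulCommutative (S : Subgroup G) := fun S hS => by
      refine hS₀ ⟨⟨fun a b => (S.equiv S₀).symm.injective ?_⟩⟩
      rw [map_mul, map_mul]
      exact hS.1.1 _ _
    obtain ⟨-, ⟨hb0, -⟩, -⟩ :=
      Cfsg.Agent.S1419.result hG M hM (M ⊓ Ns) hEc p hp hall B ⟨hBE, hB, hBc⟩
    obtain ⟨-, ⟨hCA, hNA, -⟩, -⟩ :=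
      Cfsg.Agent.S1418.result hG N hN (M ⊓ N) hcompl q hqN A ⟨hAMN, hA, hAc⟩
    set B1 := B ⊓ centralizer (Cfsg.sigmaCore M : Set G) with hB1def
    obtain ⟨⟨b, hb⟩, hbo⟩ := exists_prime_orderOf_dvd_card' (G := B1) p hb0.symm.dvd
    rw [Subgroup.orderOf_mk] at hbo
    have hbA : ∀ a ∈ A, a * b = b * a := fun a ha => hb.2 a (hUM (hAU ha))
    have hbMN : b ∈ M ⊓ N := by
      have := hCA (mem_centralizer_iff.2 hbA)
      rwa [hNA] at this
    have hpU : ¬ p ∣ Nat.card U := fun h =>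
      hp.2.1 (BGTypeSetup.mem_sigma_of_dvd hG hM hp.1 (h.trans (card_dvd_of_le hUM)))
    have hcompUK : Cfsg.IsComplIn U K (M ⊓ N) := by
      refine ⟨hMN ▸ le_sup_left, hKMN, ?_, fun t ht => ?_⟩
      · exact le_bot_iff.1 ((inf_le_inf_left U le_sup_left).trans d.compl.2.2.1.le)
      have ht' : t ∈ ((K ⊔ U : Subgroup G) : Set G) := by rw [sup_comm, ← hMN]; exact ht
      rw [coe_mul_of_left_le_normalizer_right K U d.normal] at ht'
      obtain ⟨k, hk, u, hu, rfl⟩ := ht'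
      exact ⟨k * u * k⁻¹, (mem_normalizer_iff.1 (d.normal hk) u).1 hu, k, hk, by group⟩
    obtain ⟨e, he, hek⟩ := exists_conj_mem_of_not_dvd_relIndex (W := K) (M := M ⊓ N) (p := p)
      (by rw [(relIndex_of_isComplIn hcompUK).2]; exact hpU) hbMN
      (isPGroup_zpowers_of_orderOf hbo)
    have hk1 : e⁻¹ * b * e ≠ 1 := fun h => by
      have hb1 : b = 1 := by
        calc b = e * (e⁻¹ * b * e) * e⁻¹ := by group
          _ = 1 := by rw [h]; group
      rw [hb1, orderOf_one] at hbo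
      exact hp.1.one_lt.ne hbo
    have h0 := Cfsg.Agent.S1353.result hG N hN K U d _ hek hk1
    obtain ⟨⟨a, ha⟩, ha1⟩ : ∃ a : A, a ≠ 1 := by
      haveI : Nontrivial A := (nontrivial_iff_ne_bot A).2 fun h => by
        rw [h, card_bot] at hAc
        exact absurd hAc (by nlinarith [hq.two_le])
      exact exists_ne 1
    have hau : e⁻¹ * a * e ∈ U ⊓ centralizer ({e⁻¹ * b * e} : Set G) := by
      refine mem_inf.2 ⟨(mem_normalizer_iff''.1 (hnU he) a).1 (hAU ha), mem_centralizer_iff.2 ?_⟩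
      rintro y rfl
      calc e⁻¹ * b * e * (e⁻¹ * a * e) = e⁻¹ * (b * a) * e := by group
        _ = e⁻¹ * (a * b) * e := by rw [hbA a ha]
        _ = _ := by group
    rw [h0, mem_bot] at hau
    refine ha1 (Subtype.ext ?_)
    calc a = e * (e⁻¹ * a * e) * e⁻¹ := by group
      _ = 1 := by rw [hau]; group
  -- (2) `p ∈ σ(Ns)`
  have hBNs : B ≤ Ns := hBE.trans inf_le_right
  have hpNs : p ∈ Cfsg.sigma Ns := by
    by_contra h
    have hτ : p ∈ Cfsg.tau2 Ns :=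
      ⟨hp.1, h, BGSigma.outside_alpha hG hNs hp.1 h, not_pRankLE_one hBNs hB hBc⟩
    have h0 := (Cfsg.Agent.S1417.result hG Ns hNs p hτ B ⟨hBNs, hB, hBc⟩).2.2.2.2.1 M hM
      (Ne.symm hNsne) hBM
    refine hK1 (le_bot_iff.1 ?_)
    rw [← h0]
    exact le_inf hKNs (hKMN.trans inf_le_left)
  have hBσ : B ≤ Cfsg.sigmaCore Ns := fun b hb =>
    BGTypeSetup.sigma_element_mem hG hNs (hBNs hb) fun s hs hd => by
      rw [(Nat.prime_dvd_prime_iff_eq hs hp.1).1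
        (hs.dvd_of_dvd_pow ((hd.trans (B.orderOf_dvd_natCard hb)).trans hBc.dvd))]
      exact hpNs
  have hsolvNs : Group.IsSolvable (Cfsg.sigmaCore Ns) :=
    hG.2.2.2 _ fun h => hNs.1 (top_le_iff.1 (h ▸ BGTypeSetup.sigmaCore_le Ns))
  obtain ⟨hC1, -, -⟩ := Cfsg.Agent.S1430.result hG Ns hNs Ks hKstH hKs1
  obtain ⟨-, -, hU3, -⟩ := Cfsg.Agent.S1431.result hG Ns hNs Ks hKstH hKs1
  rw [← hKst] at hC1
  -- a Sylow subgroup of `Ns_σ` for a prime of `K` is not in any other maximal subgroup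
  have hSuniq : ∀ r : ℕ, r.Prime → r ∣ Nat.card K → ∀ S : Sylow r ↥(Cfsg.sigmaCore Ns),
      ∀ L : Subgroup G, IsCoatom L →
        (S : Subgroup ↥(Cfsg.sigmaCore Ns)).map (Cfsg.sigmaCore Ns).subtype ≤ L → L = Ns := by
    intro r hr hd S L hL hSL
    obtain ⟨hu, hle, -⟩ := hU3 r hr (by rwa [← hKst]) S
    exact eq_of_unique hu hL hSL hNs hle
  have habel : ∀ S : Subgroup G, IsPGroup p S → ∀ a ∈ S, ∀ b ∈ S, a * b = b * a := by
    intro S hS a ha b hb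
    obtain ⟨T, hT⟩ := hS.exists_le_sylow
    exact PGroupsBasic.comm_of_isMulCommutative (hab T) (hT ha) (hT hb)
  -- (3) `p ∤ |K|`
  have hpK : ¬ p ∣ Nat.card K := by
    intro h
    obtain ⟨S, hS, hBS⟩ := exists_isMaxP_ge hBp hBσ
    obtain ⟨T, hT⟩ := hS.exists_sylow
    refine hNsne (hSuniq p hp.1 h T M hM ?_).symm
    rw [hT]
    exact fun a ha => hCBM (mem_centralizer_iff.2 fun b hb => habel S hS.isPGroup b (hBS hb) a ha)
  -- (4) `B` centralizes `K`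
  haveI hFnil : Group.IsNilpotent ↥(Cfsg.fittingOf (M ⊓ Ns)) := BGFittingUnique.fittingOf_isNilpotent _
  have hBF : B ≤ Cfsg.fittingOf (M ⊓ Ns) := by
    haveI : (B.subgroupOf (M ⊓ Ns)).Normal := normal_subgroupOf_of_le_normalizer hEB
    have hnil : Group.IsNilpotent (B.subgroupOf (M ⊓ Ns)) :=
      (hBp.comap_of_injective _ (M ⊓ Ns).subtype_injective).isNilpotent
    rw [← map_subgroupOf_eq_of_le hBE]
    exact map_mono (ComponentsCores.le_fitting hnil)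
  have hBK : B ≤ centralizer (K : Set G) := fun b hb => mem_centralizer_iff.2 fun k hk => by
    have h := HallNilpotentConj.commute_of_coprime_orderOf ↥(Cfsg.fittingOf (M ⊓ Ns)) ⟨k, hKF hk⟩
      ⟨b, hBF hb⟩ ?_
    · exact congrArg Subtype.val h.eq
    rw [Subgroup.orderOf_mk, Subgroup.orderOf_mk]
    exact ((BGFittingUnique.coprime_card_of_qgroup hBp hpK).symm.coprime_dvd_left
      (K.orderOf_dvd_natCard hk)).coprime_dvd_right (B.orderOf_dvd_natCard hb)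
  -- an invariant Sylow subgroup of `C = Ns_σ ∩ C(K)`
  set C := Cfsg.sigmaCore Ns ⊓ centralizer (K : Set G) with hC
  obtain ⟨s, hs, hsd⟩ := Nat.exists_prime_and_dvd (fun h => hKs1 (card_eq_one.1 h) : Nat.card Ks ≠ 1)
  haveI := Fact.mk hs
  obtain ⟨⟨k, hk⟩, hko⟩ := exists_prime_orderOf_dvd_card' (G := Ks) s hsd
  rw [Subgroup.orderOf_mk] at hko
  have hk1 : k ≠ 1 := fun h => hs.one_lt.ne (by rw [← hko, h, orderOf_one])
  have hkNs : k ∈ Ns := hKstH.1 hk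
  have hsσ : s ∉ Cfsg.sigma Ns := (hKstH.2.1 s hs hsd).2.2.1
  have hkS : zpowers k ≤ normalizer (Cfsg.sigmaCore Ns : Set G) :=
    zpowers_le.2 (BGTypeSetup.le_normalizer_sigmaCore Ns hkNs)
  have hkC : zpowers k ≤ normalizer (C : Set G) :=
    CoprimeAction.le_normalizer_inf hkS ((zpowers_le.2 (hKcomm hk)).trans le_normalizer)
  have hkcop : (Nat.card (zpowers k)).Coprime (Nat.card (Cfsg.sigmaCore Ns)) := by
    rw [Nat.card_zpowers, hko]
    exact hs.coprime_iff_not_dvd.2 fun h => hsσ (BGTypeSetup.mem_sigma_of_dvd hG hNs hs h)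
  obtain ⟨S1, hS1k⟩ := CoprimeAction.exists_invariant_sylow hkC
    (hkcop.coprime_dvd_right (card_dvd_of_le inf_le_left))
    (Or.inr (CoprimeAction.isSolvable_of_le (inf_le_left : C ≤ Cfsg.sigmaCore Ns))) p
  set S := (S1 : Subgroup C).map C.subtype with hSdef
  have hSC : S ≤ C := map_subtype_le _
  have hSmax : IsMaxP p S C := isMaxP_sylow C S1
  obtain ⟨c, hc, hcB⟩ := BGSigma.exists_conj_maxP hSmax (le_inf hBσ hBK) hBp
  set B1 := MulAut.conj c • B with hB1def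
  set M1 := MulAut.conj c • M with hM1def
  have hM1 : IsCoatom M1 := isCoatom_conj c hM
  have hB1el : Cfsg.IsElementaryAbelian p B1 := PGroupsBasic.isElementaryAbelian_map_hom hB _
  have hB1c : Nat.card B1 = p ^ 2 := by rw [hB1def, card_smul, hBc]
  have hB1M : B1 ≤ M1 := pointwise_smul_le_pointwise_smul_iff.2 hBM
  have hCB1 : centralizer (B1 : Set G) ≤ M1 :=
    (Cfsg.Agent.S1416.result hG M1 hM1 p B1 ⟨hB1M, hB1el, hB1c⟩).1
  have hpM1 : Cfsg.PRankLE p 2 M1 :=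
    BGSigma.outside_alpha hG hM1 hp.1 (by rw [hM1def, sigma_smul]; exact hp.2.1)
  have hB1S : B1 ≤ S := hcB
  have hΩ : ∀ y ∈ S, y ^ p = 1 → y ∈ B1 := fun y hy hyp =>
    BGSigma.mem_of_pRankLE hpM1 hB1M hB1el hB1c.ge
      (hCB1 (mem_centralizer_iff.2 fun b hb => habel S hSmax.isPGroup b (hB1S hb) y hy)) hyp
      fun e he => habel S hSmax.isPGroup e (hB1S he) y hy
  have hkB1 : ∀ e ∈ zpowers k, ∀ u ∈ B1, e * u * e⁻¹ ∈ B1 := fun e he u hu =>
    hΩ _ ((mem_normalizer_iff.1 (hS1k he) u).1 (hB1S hu))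
      (by rw [conj_pow, hB1el.2 u hu, mul_one, mul_inv_cancel])
  have hB1σ : B1 ≤ Cfsg.sigmaCore Ns := hB1S.trans (hSC.trans inf_le_left)
  have hB1K : B1 ≤ centralizer (K : Set G) := hB1S.trans (hSC.trans inf_le_right)
  have hfix : ∀ e ∈ zpowers k, e ≠ 1 →
      ∀ u ∈ Cfsg.sigmaCore Ns, e * u = u * e → u ∈ K := fun e he he1 u hu heq => by
    rw [← hC1 e ((zpowers_le.2 hk) he) he1]
    refine mem_inf.2 ⟨hu, mem_centralizer_iff.2 ?_⟩
    rintro y rfl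
    exact heq
  have hfpf : ∀ e ∈ zpowers k, e ≠ 1 → ∀ u ∈ B1, e * u = u * e → u = 1 := by
    intro e he he1 u hu heq
    have h1 : u ∈ B1 ⊓ K := mem_inf.2 ⟨hu, hfix e he he1 u (hB1σ hu) heq⟩
    rw [inf_eq_bot_of_coprime (BGFittingUnique.coprime_card_of_qgroup (IsPGroup.of_card hB1c) hpK), mem_bot] at h1
    exact h1
  -- the group `B1⟨k⟩` acts on a Sylow subgroup for a prime of `K`
  obtain ⟨r, hr, hrd⟩ := Nat.exists_prime_and_dvd (fun h => hK1 (card_eq_one.1 h) : Nat.card K ≠ 1)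
  haveI := Fact.mk hr
  set W := B1 ⊔ zpowers k with hW
  have hWcard : Nat.card W ∣ Nat.card B1 * s := by
    have hn : zpowers k ≤ normalizer (B1 : Set G) :=
      CoprimeAction.le_normalizer_of_conj_mem fun e he u hu => hkB1 e he u hu
    have hd : zpowers k ⊓ B1 = ⊥ := by
      rw [eq_bot_iff]
      intro e he
      by_contra he1
      rw [mem_bot] at he1
      exact he1 (hfpf e he.1 he1 e he.2 rfl)
    have hcp : Cfsg.IsComplIn (zpowers k) B1 W := by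
      refine ⟨le_sup_right, le_sup_left, hd, fun t ht => ?_⟩
      have ht' : t ∈ ((zpowers k ⊔ B1 : Subgroup G) : Set G) := by rw [sup_comm]; exact ht
      rw [coe_mul_of_left_le_normalizer_right (zpowers k) B1 hn] at ht'
      obtain ⟨a, ha, b, hb, rfl⟩ := ht'
      exact ⟨a, ha, b, hb, rfl⟩
    rw [← card_mul_of_isComplIn hcp, Nat.card_zpowers, hko, mul_comm]
  have hrp : r ≠ p := fun h => hpK (h ▸ hrd)
  have hWN : W ≤ Ns := sup_le (hB1σ.trans (BGTypeSetup.sigmaCore_le Ns)) (zpowers_le.2 hkNs)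
  -- the normal `p`-complement of `Ns_σ`
  have hpβ : p ∉ Cfsg.beta Ns := fun h => BGSigma.not_ideal hG hM hp.2.1 hp.2.2.2 h.2
  obtain ⟨-, hcompl', -⟩ := (Cfsg.Agent.S1414.result hG Ns hNs).2.2.2.2 p hp.1
    (((dvd_pow_self p two_ne_zero).trans hBc.symm.dvd).trans (card_dvd_of_le hBNs)) hpβ
  obtain ⟨P, N₀, hN₀n, hN₀⟩ := hcompl'
  set W₀ := coreOf p (Cfsg.sigmaCore Ns) with hW₀
  have hW₀le : W₀ ≤ Cfsg.sigmaCore Ns := coreOf_le p _
  have hN₀le : N₀ ≤ Cfsg.pPrimeCore p ↥(Cfsg.sigmaCore Ns) := by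
    haveI := hN₀n
    refine HallCore.le_pPrimeCore ((Nat.coprime_comm).1 ((hp.1.coprime_iff_not_dvd).2 ?_))
    rw [← hN₀.index_eq_card]
    exact P.not_dvd_index
  obtain ⟨i, hi⟩ := P.isPGroup'.exists_card_eq
  have hidx : (Cfsg.pPrimeCore p ↥(Cfsg.sigmaCore Ns)).index ∣ p ^ i := by
    rw [← hi, ← hN₀.symm.index_eq_card]
    exact index_dvd_of_le hN₀le
  have hNW : Ns ≤ normalizer (W₀ : Set G) :=
    (BGTypeSetup.le_normalizer_sigmaCore Ns).trans (le_normalizer_coreOf p _)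
  have hsolvW : Group.IsSolvable W₀ := CoprimeAction.isSolvable_of_le hW₀le
  have hcopW : Nat.Coprime (Nat.card W₀) (Nat.card ↥(B1 ⊔ zpowers k)) := by
    refine Nat.Coprime.coprime_dvd_right hWcard (Nat.Coprime.mul_right ?_ ?_)
    · rw [hB1c]
      exact (coprime_coreOf p _).pow_right 2
    · exact ((hs.coprime_iff_not_dvd.2 fun h => hsσ
        (BGTypeSetup.mem_sigma_of_dvd hG hNs hs (h.trans (card_dvd_of_le hW₀le)))).symm)
  have hF := FrobeniusFixedPoints.main B1 (zpowers k) W₀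
    (fun h => hk1 (zpowers_eq_bot.1 h)) (fun e he u hu => hkB1 e he u hu) hfpf
    (fun t ht h hh => (mem_normalizer_iff.1 (hNW (hWN ht)) h).1 hh) hsolvW hcopW
  have hle : W₀ ≤ centralizer (B1 : Set G) := by
    have h1 : W₀ ⊓ centralizer ((zpowers k : Subgroup G) : Set G) ≤
        W₀ ⊓ centralizer ((B1 ⊔ zpowers k : Subgroup G) : Set G) := by
      intro u hu
      have huK : u ∈ K := hfix k (mem_zpowers k) hk1 u (hW₀le hu.1) (hu.2 k (mem_zpowers k))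
      have h2 : B1 ⊔ zpowers k ≤ centralizer ({u} : Set G) := by
        refine sup_le (fun b hb => mem_centralizer_iff.2 ?_) (fun e he => mem_centralizer_iff.2 ?_)
        · rintro y rfl
          exact hB1K hb y huK
        · rintro y rfl
          exact (hu.2 e he).symm
      exact ⟨hu.1, mem_centralizer_iff.2 fun t ht =>
        (mem_centralizer_iff.1 (h2 ht) u rfl).symm⟩
    have heq : W₀ ⊓ centralizer ((zpowers k : Subgroup G) : Set G) =
        W₀ ⊓ centralizer ((B1 ⊔ zpowers k : Subgroup G) : Set G) :=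
      le_antisymm h1 (inf_le_inf_left _ (centralizer_le (SetLike.coe_subset_coe.2 le_sup_right)))
    rw [FrobeniusFixedPoints.Formula, heq] at hF
    have hc : Nat.card W₀ = Nat.card ↥(W₀ ⊓ centralizer (B1 : Set G)) :=
      Nat.eq_of_mul_eq_mul_left (Nat.pow_pos Nat.card_pos) hF
    exact inf_eq_left.1 (eq_of_le_of_card_ge inf_le_left hc.le)
  let R : Sylow r ↥(Cfsg.sigmaCore Ns) := default
  have hRW : (R : Subgroup ↥(Cfsg.sigmaCore Ns)).map (Cfsg.sigmaCore Ns).subtype ≤ W₀ := by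
    refine map_mono fun u hu => ?_
    obtain ⟨j, hj⟩ := R.isPGroup' ⟨u, hu⟩
    have h1 : orderOf u ∣ r ^ j := orderOf_dvd_of_pow_eq_one (congrArg Subtype.val hj)
    haveI := HallCore.pPrimeCore_normal p ↥(Cfsg.sigmaCore Ns)
    rw [← QuotientGroup.eq_one_iff, ← orderOf_eq_one_iff]
    refine Nat.eq_one_of_dvd_coprimes
      (Nat.Coprime.pow j i ((Nat.coprime_primes hr hp.1).2 hrp))
      ((orderOf_map_dvd (QuotientGroup.mk' _) u).trans h1)
      ((_root_.orderOf_dvd_natCard _).trans ?_)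
    rw [← index_eq_card]
    exact hidx
  have hM1Ns : M1 = Ns := hSuniq r hr hrd R M1 hM1 (hRW.trans (hle.trans hCB1))
  refine hNsne ?_
  have hcNs : c ∈ normalizer (Ns : Set G) :=
    le_normalizer (BGTypeSetup.sigmaCore_le Ns hc.1)
  rw [← inv_smul_smul' c M, ← hM1def, hM1Ns, smul_eq_self_of_mem (inv_mem hcNs)]

end Cfsg.Agent.BGSupport35
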