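import Cfsg.Agent.Lib.BGTauPair62
import Cfsg.Agent.Lib.FrobeniusFixedPoints
import Cfsg.Agent.Lib.FocalControl
import Cfsg.Agent.Lib.BGRankTwo
import Cfsg.Agent.S1415

/-!
A prime of tau two with abelian Sylow subgroups (Bender-Glauberman 12.8, 12.9, 12.11).
-/

set_option autoImplicit false
set_option linter.style.haveILetI false

namespace Cfsg.Agent.BGTau62

open Subgroup
open Cfsg.Agent.BGUnique
open scoped commutatorElement Pointwise

universe u

variable {G : Type u} [Group G] [Finite G]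

omit [Finite G] in
/-- The derived subgroup of the normalizer of a cyclic subgroup centralizes it. -/
theorem commutator_normalizer_le {Q : Subgroup G} (hQ : IsCyclic Q) :
    ⁅normalizer (Q : Set G), normalizer (Q : Set G)⁆ ≤ centralizer (Q : Set G) := by
  obtain ⟨⟨c, hc⟩, hgen⟩ := hQ.exists_generator
  have hQc : Q = zpowers c := by
    refine le_antisymm (fun x hx => ?_) (zpowers_le.2 hc)
    obtain ⟨i, hi⟩ := mem_zpowers_iff.1 (hgen ⟨x, hx⟩)
    exact mem_zpowers_iff.2 ⟨i, congrArg Subtype.val hi⟩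
  subst hQc
  refine commutator_le.2 fun g hg h hh => ?_
  rw [zpowers_eq_closure, centralizer_closure, mem_centralizer_singleton_iff]
  have key : ∀ g ∈ normalizer ((zpowers c : Subgroup G) : Set G), ∃ i : ℤ, MulAut.conj g c = c ^ i :=
    fun g hg => by
      obtain ⟨i, hi⟩ := mem_zpowers_iff.1 ((mem_normalizer_iff.1 hg c).1 (mem_zpowers c))
      exact ⟨i, hi.symm⟩
  obtain ⟨i, hi⟩ := key g⁻¹ (inv_mem hg)
  obtain ⟨j, hj⟩ := key h⁻¹ (inv_mem hh)
  have h1 : MulAut.conj (g⁻¹ * h⁻¹) c = MulAut.conj (h⁻¹ * g⁻¹) c := by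
    rw [map_mul, map_mul, MulAut.mul_apply, MulAut.mul_apply, hi, hj, map_zpow, map_zpow, hi, hj,
      ← zpow_mul, ← zpow_mul, mul_comm]
  simp only [MulAut.conj_apply] at h1
  calc ⁅g, h⁆ * c = g * h * (g⁻¹ * h⁻¹ * c * (g⁻¹ * h⁻¹)⁻¹) * (g⁻¹ * h⁻¹) := by
        rw [commutatorElement_def]; group
    _ = g * h * (h⁻¹ * g⁻¹ * c * (h⁻¹ * g⁻¹)⁻¹) * (g⁻¹ * h⁻¹) := by rw [h1]
    _ = c * ⁅g, h⁆ := by rw [commutatorElement_def]; group

variable {p : ℕ} [hp : Fact p.Prime]

/-- A Frobenius group acting fixed-point-freely on both ends. -/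
theorem not_fpf {A N : Subgroup G} {e : G} (he : orderOf e = p) (heA : e ∈ normalizer (A : Set G))
    (heN : e ∈ normalizer (N : Set G)) (hAN : A ≤ normalizer (N : Set G))
    (hsolv : Group.IsSolvable N) (hcop : (Nat.card N).Coprime (Nat.card ↥(A ⊔ zpowers e)))
    (hAe : A ⊓ centralizer ({e} : Set G) = ⊥) (hNe : N ⊓ centralizer ({e} : Set G) = ⊥)
    (hNA : N ⊓ centralizer (A : Set G) = ⊥) : N = ⊥ := by
  have hC : centralizer ((zpowers e : Subgroup G) : Set G) = centralizer ({e} : Set G) := by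
    rw [zpowers_eq_closure, centralizer_closure]
  have he1 : zpowers e ≠ ⊥ := fun h => by
    rw [zpowers_eq_bot] at h
    rw [h, orderOf_one] at he
    exact hp.out.one_lt.ne he
  have hF := FrobeniusFixedPoints.main A (zpowers e) N he1
    (fun x hx u hu => (mem_normalizer_iff.1 (zpowers_le.2 heA hx) u).1 hu)
    (fun x hx hx1 u hu hxu => by
      refine mem_bot.1 (hAe ▸ ⟨hu, ?_⟩)
      show u ∈ centralizer ({e} : Set G)
      have : zpowers x = zpowers e := eq_of_le_of_card_ge (zpowers_le.2 hx) (by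
        rw [Nat.card_zpowers, Nat.card_zpowers, he, PGroupsBasic.orderOf_eq_of_pow_eq_one
          (PGroupsBasic.pow_eq_one_of_card (by rw [Nat.card_zpowers, he]) hx) hx1])
      rw [← hC, ← this, zpowers_eq_closure, centralizer_closure, mem_centralizer_singleton_iff]
      exact hxu.symm)
    (fun x hx n hn => (mem_normalizer_iff.1 ((sup_le hAN (zpowers_le.2 heN)) hx) n).1 hn)
    hsolv hcop
  unfold FrobeniusFixedPoints.Formula at hF
  have h1 : N ⊓ centralizer ((A ⊔ zpowers e : Subgroup G) : Set G) = ⊥ :=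
    le_bot_iff.1 (hNA ▸ inf_le_inf_left _ (centralizer_le (show A ≤ A ⊔ zpowers e from le_sup_left)))
  rw [h1, hC, hNe, hNA, card_bot, one_pow, one_mul, one_mul] at hF
  exact eq_bot_of_card_eq _ hF

variable (hG : Cfsg.IsMinSimpleOddOrder G)
include hG

/-- An abelian Sylow subgroup lies in the derived subgroup of its normalizer. -/
theorem sylow_le_commutator_normalizer (S : Sylow p G) (hS : IsMulCommutative (S : Subgroup G)) :
    (S : Subgroup G) ≤ ⁅normalizer ((S : Subgroup G) : Set G), normalizer ((S : Subgroup G) : Set G)⁆ := by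
  have h2 : (S : Subgroup G).focalSubgroup ≤
      ⁅(S : Subgroup G), normalizer ((S : Subgroup G) : Set G)⁆ := by
    refine FocalControl.focalSubgroup_le_commutator_of_control _ _ fun x hx u hu => ?_
    have hle : ∀ z ∈ (S : Subgroup G), z ∈ centralizer ((S : Subgroup G) : Set G) := fun z hz =>
      mem_centralizer_iff.2 fun w hw => PGroupsBasic.comm_of_isMulCommutative hS hw hz
    obtain ⟨n, hn, hne⟩ := Sylow.conj_eq_normalizer_conj_of_mem_centralizer S x u⁻¹ (hle x hx)
      (by rw [inv_inv]; exact hle _ hu)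
    refine ⟨n⁻¹, inv_mem hn, ?_⟩
    rw [inv_inv] at hne
    rw [inv_inv]
    exact hne.symm
  refine le_trans ?_ (h2.trans (commutator_mono le_normalizer le_rfl))
  rw [← Subgroup.commutator_inf_eq_focalSubgroup (P := S), BGSigma.commutator_eq_top hG]
  exact le_inf le_top le_rfl

variable {M E : Subgroup G} (hM : IsCoatom M)
include hM

/-- BG 12.8 (a), (c): an abelian Sylow subgroup for tau two is a normal subgroup of the complement. -/
theorem abelian_normal (hE : Cfsg.IsComplIn E (Cfsg.sigmaCore M) M) (ht : p ∈ Cfsg.tau2 M)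
    (S : Sylow p G) (hS : IsMulCommutative (S : Subgroup G)) {A : Subgroup G}
    (hA : A ≤ E ∧ Cfsg.IsElementaryAbelian p A ∧ Nat.card A = p ^ 2)
    (hAS : A ≤ (S : Subgroup G)) :
    (S : Subgroup G) ≤ E ∧ E ≤ normalizer ((S : Subgroup G) : Set G) ∧
      normalizer ((S : Subgroup G) : Set G) ≤ normalizer (A : Set G) := by
  obtain ⟨hAE, hAel, hA2⟩ := hA
  obtain ⟨⟨hEA, hall⟩, ⟨hCA, hNME, -⟩, -⟩ := S1418.result hG M hM E hE p ht A ⟨hAE, hAel, hA2⟩
  rw [hNME] at hCA
  set X := centralizer (A : Set G)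
  set N := normalizer (A : Set G)
  have hSX : (S : Subgroup G) ≤ X := fun s hs => mem_centralizer_iff.2 fun a ha =>
    PGroupsBasic.comm_of_isMulCommutative hS (hAS ha) hs
  have hSE : (S : Subgroup G) ≤ E := hSX.trans hCA
  have hNS : normalizer ((S : Subgroup G) : Set G) ≤ N := fun g hg => by
    refine Subgroup.mem_normalizer_fintype fun a ha => ?_
    have h1 := (mem_normalizer_iff.1 hg a).1 (hAS ha)
    by_cases ha1 : g * a * g⁻¹ = 1
    · rw [ha1]; exact one_mem A
    · exact hall _ (zpowers_le.2 (hSE h1)) (by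
        rw [Nat.card_zpowers, PGroupsBasic.orderOf_eq_of_pow_eq_one
          (by rw [conj_pow, hAel.2 a ha, mul_one, mul_inv_cancel]) ha1]) (mem_zpowers _)
  -- the Sylow subgroup centralizes the derived subgroup of `X`
  set D := ⁅X, X⁆ with hD
  have hDX : D ≤ X := commutator_le_self X
  have hDn : Group.IsNilpotent D := by
    haveI := (S1415.result hG M hM E hE).1
    exact Group.nilpotent_of_mulEquiv
      (subgroupOfEquivOfLe (commutator_mono hCA hCA : D ≤ ⁅E, E⁆))
  haveI := hDn
  have hND : N ≤ normalizer (D : Set G) := fun g hg => by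
    refine CoprimeAction.mem_normalizer_of_conj_smul_eq ?_
    have hgX : MulAut.conj g • X = X :=
      CoprimeSZ.conj_smul_eq_self (BGRankTwo.normalizer_le_normalizer_centralizer A hg)
    conv_rhs => rw [hD, ← hgX]
    exact map_commutator _ _ _
  have hSD : (S : Subgroup G) ≤ centralizer (D : Set G) := by
    intro s hs
    have hle : D ≤ centralizer ({s} : Set G) := by
      refine le_of_qgroups fun q hq => ?_
      haveI := Fact.mk hq
      obtain ⟨Q⟩ : Nonempty (Sylow q D) := inferInstance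
      set Q' := (Q : Subgroup D).map D.subtype with hQ'
      refine ⟨Q', map_subtype_le _, ?_, CoprimeAction.card_map_sylow Q⟩
      haveI := Sylow.characteristic_of_normal Q inferInstance
      have hNQ : N ≤ normalizer (Q' : Set G) :=
        hND.trans (ComponentsCores.normalizer_le_normalizer_map_subtype D _)
      have hQp : IsPGroup q Q' := Q.isPGroup'.map _
      have hQE : Q' ≤ E := (map_subtype_le _).trans (hDX.trans hCA)
      have hSQ : (S : Subgroup G) ≤ normalizer (Q' : Set G) :=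
        (hSX.trans (centralizer_le_normalizer _)).trans hNQ
      suffices h : (S : Subgroup G) ≤ centralizer (Q' : Set G) by
        intro x hx
        exact mem_centralizer_singleton_iff.2 (mem_centralizer_iff.1 (h hs) x hx)
      by_cases hqp : q = p
      · rw [hqp] at hQp
        have h1 : Q' ≤ (S : Subgroup G) := by
          have h2 := S.is_maximal' (S.isPGroup'.to_sup_of_normal_right' hQp hSQ) le_sup_left
          exact h2 ▸ le_sup_right
        exact fun x hx => mem_centralizer_iff.2 fun y hy =>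
          PGroupsBasic.comm_of_isMulCommutative hS (h1 hy) hx
      by_cases hQ0 : Q' = ⊥
      · rw [hQ0]
        intro x _
        exact mem_centralizer_iff.2 fun y hy => by rw [mem_bot.1 hy, one_mul, mul_one]
      have hqσ : q ∉ Cfsg.sigma M :=
        not_mem_sigma_of_compl hG hM hE hQE hq (dvd_card_of_ne_bot hQp hQ0)
      by_cases hr1 : Cfsg.PRankLE q 1 M
      · have hcyc := isCyclic_of_pRankLE_one hG hr1 hQp (hQE.trans hE.1)
        exact (sylow_le_commutator_normalizer hG S hS).trans ((commutator_mono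
          (hNS.trans hNQ) (hNS.trans hNQ)).trans (commutator_normalizer_le hcyc))
      · have hqt := mem_tau2 hG hM hqσ hr1
        have hH : IsMulCommutative ↥((S : Subgroup G) ⊔ Q' : Subgroup G) := by
          refine pair_commute hG hM (fun h => hqp h.symm) hE ht hqt (sup_le hSE hQE) fun r hr hd => ?_
          haveI : (Q'.subgroupOf E).Normal := normal_subgroupOf_of_le_normalizer
            (hEA.trans hNQ)
          have h1 := HallCore.card_sup_dvd ((S : Subgroup G).subgroupOf E) (Q'.subgroupOf E)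
          rw [← card_map_of_injective E.subtype_injective, Subgroup.map_sup,
            map_subgroupOf_eq_of_le hSE, map_subgroupOf_eq_of_le hQE,
            Nat.card_congr (subgroupOfEquivOfLe hSE).toEquiv,
            Nat.card_congr (subgroupOfEquivOfLe hQE).toEquiv] at h1
          obtain ⟨i, hi⟩ := IsPGroup.iff_card.1 S.isPGroup'
          obtain ⟨j, hj⟩ := IsPGroup.iff_card.1 hQp
          rw [hi, hj] at h1
          exact (hr.dvd_mul.1 (hd.trans h1)).imp
            (fun h => (Nat.prime_dvd_prime_iff_eq hr Fact.out).1 (hr.dvd_of_dvd_pow h))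
            (fun h => (Nat.prime_dvd_prime_iff_eq hr Fact.out).1 (hr.dvd_of_dvd_pow h))
        exact fun x hx => mem_centralizer_iff.2 fun y hy =>
          PGroupsBasic.comm_of_isMulCommutative hH (mem_sup_right hy) (mem_sup_left hx)
    exact mem_centralizer_iff.2 fun d hd => mem_centralizer_singleton_iff.1 (hle hd)
  have hXS : X ≤ normalizer ((S : Subgroup G) : Set G) := fun x hx => by
    refine Subgroup.mem_normalizer_fintype fun s hs => ?_
    set c := x * s * x⁻¹ * s⁻¹ with hcdef
    have hcD : c ∈ D := commutator_mem_commutator hx (hSX hs)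
    have hcS : c ∈ centralizer ((S : Subgroup G) : Set G) := mem_centralizer_iff.2 fun t ht' =>
      ((mem_centralizer_iff.1 (hSD ht')) c hcD).symm
    obtain ⟨k, hk⟩ := IsPGroup.iff_orderOf.1 S.isPGroup' ⟨s, hs⟩
    rw [Subgroup.orderOf_mk] at hk
    have hxs : x * s * x⁻¹ = c * s := by rw [hcdef, inv_mul_cancel_right]
    have hck : c ^ p ^ k = 1 := by
      have h1 : (x * s * x⁻¹) ^ p ^ k = 1 := by
        rw [conj_pow, ← hk, pow_orderOf_eq_one, mul_one, mul_inv_cancel]
      rw [hxs, (show Commute c s from (mem_centralizer_iff.1 hcS s hs).symm).mul_pow, ← hk,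
        pow_orderOf_eq_one, mul_one, hk] at h1
      exact h1
    have hzp : IsPGroup p (zpowers c) := by
      obtain ⟨i, -, hi⟩ := (Nat.dvd_prime_pow hp.out).1 (orderOf_dvd_of_pow_eq_one hck)
      exact IsPGroup.of_card (n := i) (by rw [Nat.card_zpowers, hi])
    have h2 := S.is_maximal' (hzp.to_sup_of_normal_right' S.isPGroup'
      ((zpowers_le.2 hcS).trans (centralizer_le_normalizer _))) le_sup_right
    have hc : c ∈ (S : Subgroup G) := h2 ▸ mem_sup_left (mem_zpowers c)
    rw [hxs]; exact mul_mem hc hs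
  refine ⟨hSE, fun e he => ?_, hNS⟩
  -- Frattini
  have heX : MulAut.conj e • X = X :=
    CoprimeSZ.conj_smul_eq_self (BGRankTwo.normalizer_le_normalizer_centralizer A (hEA he))
  have hle : MulAut.conj e • (S : Subgroup G) ≤ X := by
    conv_rhs => rw [← heX]
    exact pointwise_smul_le_pointwise_smul_iff.2 hSX
  refine CoprimeAction.mem_normalizer_of_conj_smul_eq ?_
  refine eq_of_le_of_card_ge ?_ (by rw [CoprimeSZ.card_conj_smul])
  intro y hy
  have h2 := S.is_maximal' ((S.isPGroup'.map (MulAut.conj e).toMonoidHom).to_sup_of_normal_right'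
    S.isPGroup' ((show (S : Subgroup G).map (MulAut.conj e).toMonoidHom ≤ X from hle).trans hXS))
    le_sup_right
  exact h2 ▸ mem_sup_left hy

omit hM in
/-- The action of `N(A)` on `A` is abelian. -/
theorem commutator_centralizes {A : Subgroup G} (hA : Cfsg.IsElementaryAbelian p A)
    (hA2 : Nat.card A = p ^ 2) (S : Sylow p G) (hSA : (S : Subgroup G) ≤ centralizer (A : Set G))
    {a b : G} (ha : a ∈ normalizer (A : Set G)) (hb : b ∈ normalizer (A : Set G)) :
    ⁅a, b⁆ ∈ centralizer (A : Set G) := by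
  have hA0 : A ≠ ⊥ := fun h => by
    rw [h, card_bot] at hA2
    exact (Nat.one_lt_pow two_ne_zero hp.out.one_lt).ne hA2
  have hAt : A ≠ ⊤ := fun h => BGTransitivity.qgroup_ne_top hG
    (PGroupsBasic.isPGroup_of_isElementaryAbelian hA) h
  set N := normalizer (A : Set G)
  haveI : Group.IsSolvable N := isSolvable_of_ne_top hG (BGSigma.normalizer_ne_top' hG hA0 hAt)
  haveI := hA.1
  letI : CommGroup A := { (inferInstance : Group A) with mul_comm := fun x y => mul_comm' x y }
  have hp2 : p ≠ 2 := prime_ne_two hG ((hA2 ▸ dvd_pow_self p two_ne_zero : p ∣ Nat.card A).trans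
    (card_subgroup_dvd_card A))
  set c : N := ⁅(⟨a, ha⟩ : N), ⟨b, hb⟩⁆ with hc
  have h1 := BGRankTwo.action_pow hp2 (odd_card_subgroup hG N) (V := A)
    (fun x => Subtype.ext (by rw [SubgroupClass.coe_pow]; exact hA.2 _ x.2)) (le_of_eq hA2)
    A.normalizerMonoidHom (c := c) (commutator_mem_commutator (mem_top _) (mem_top _))
  rw [← map_pow, ← MonoidHom.mem_ker, Subgroup.normalizerMonoidHom_ker] at h1
  have h1' : (c : G) ^ p ∈ centralizer (A : Set G) := h1
  set C := centralizer (A : Set G)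
  have hCN : C ≤ N := centralizer_le_normalizer _
  haveI : (C.subgroupOf N).Normal :=
    normal_subgroupOf_of_le_normalizer (BGRankTwo.normalizer_le_normalizer_centralizer A)
  have hi : ¬ p ∣ (C.subgroupOf N).index := fun hd => S.not_dvd_index
    ((hd.trans (relIndex_dvd_index_of_le hCN)).trans (index_dvd_of_le hSA))
  have h2 : (c : N ⧸ C.subgroupOf N) = 1 := by
    rw [← orderOf_eq_one_iff]
    refine Nat.eq_one_of_dvd_coprimes ((Nat.Prime.coprime_iff_not_dvd hp.out).2 hi) ?_ ?_
    · refine orderOf_dvd_of_pow_eq_one ?_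
      rw [← QuotientGroup.mk_pow, QuotientGroup.eq_one_iff]
      exact h1'
    · rw [index_eq_card]; exact orderOf_dvd_natCard _
  exact (QuotientGroup.eq_one_iff (N := C.subgroupOf N) c).1 h2

/-- An element with a fixed point, not centralizing `A`, gives a line invariant under `N(A)`. -/
theorem fixed_line_of_elem {A : Subgroup G} (hA : Cfsg.IsElementaryAbelian p A)
    (hA2 : Nat.card A = p ^ 2) (S : Sylow p G) (hSA : (S : Subgroup G) ≤ centralizer (A : Set G))
    {v : G} (hv : v ∈ normalizer (A : Set G)) (hvC : v ∉ centralizer (A : Set G))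
    (hne : A ⊓ centralizer ({v} : Set G) ≠ ⊥) :
    ∃ L : Subgroup G, L ≤ A ∧ Nat.card L = p ∧
      normalizer (A : Set G) ≤ normalizer (L : Set G) := by
  refine ⟨A ⊓ centralizer ({v} : Set G), inf_le_left, ?_, fun n hn => ?_⟩
  · obtain ⟨k, hk, hke⟩ := (Nat.dvd_prime_pow hp.out).1
      (hA2 ▸ card_dvd_of_le (inf_le_left : A ⊓ centralizer ({v} : Set G) ≤ A))
    rcases (show k = 0 ∨ k = 1 ∨ k = 2 by omega) with rfl | rfl | rfl
    · exact absurd (eq_bot_of_card_eq _ (by rw [hke, pow_zero])) hne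
    · rw [hke, pow_one]
    · refine absurd (mem_centralizer_iff.2 fun a ha => ?_) hvC
      have := (eq_of_le_of_card_ge (inf_le_left : A ⊓ centralizer ({v} : Set G) ≤ A)
        (by rw [hke, hA2])).ge ha
      exact mem_centralizer_singleton_iff.1 this.2
  · refine Subgroup.mem_normalizer_fintype fun a ha => ?_
    refine ⟨(mem_normalizer_iff.1 hn a).1 ha.1, mem_centralizer_singleton_iff.2 ?_⟩
    have hc := mem_centralizer_iff.1
      (commutator_centralizes hG hA hA2 S hSA (inv_mem hn) hv) a ha.1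
    have hav : a * v = v * a := mem_centralizer_singleton_iff.1 ha.2
    rw [commutatorElement_def, inv_inv] at hc
    calc n * a * n⁻¹ * v = n * (a * (n⁻¹ * v * n * v⁻¹)) * v * n⁻¹ := by group
      _ = n * ((n⁻¹ * v * n * v⁻¹) * a) * v * n⁻¹ := by rw [hc]
      _ = v * n * v⁻¹ * (a * v) * n⁻¹ := by group
      _ = v * n * v⁻¹ * (v * a) * n⁻¹ := by rw [hav]
      _ = v * (n * a * n⁻¹) := by group

/-- BG 12.9, 12.11: a complement moving `A` forces a line invariant under `N(A)`. -/
theorem exists_fixed_line (hE : Cfsg.IsComplIn E (Cfsg.sigmaCore M) M) (ht : p ∈ Cfsg.tau2 M)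
    (h : ∀ e ∈ E, e ≠ 1 → (∀ q : ℕ, q.Prime → q ∣ orderOf e → q ∈ Cfsg.tau1 M ∪ Cfsg.tau3 M) →
      Cfsg.sigmaCore M ⊓ centralizer ({e} : Set G) = ⊥)
    (S : Sylow p G) (hS : IsMulCommutative (S : Subgroup G)) {A : Subgroup G}
    (hA : A ≤ E ∧ Cfsg.IsElementaryAbelian p A ∧ Nat.card A = p ^ 2)
    (hAS : A ≤ (S : Subgroup G)) (hne : ¬ E ≤ centralizer (A : Set G)) :
    ∃ L : Subgroup G, L ≤ A ∧ Nat.card L = p ∧
      normalizer (A : Set G) ≤ normalizer (L : Set G) := by
  obtain ⟨hAE, hAel, hA2⟩ := hA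
  have hAM : A ≤ M := hAE.trans hE.1
  obtain ⟨⟨hEA, hall⟩, ⟨hCA, hNME, -⟩, -⟩ := S1418.result hG M hM E hE p ht A ⟨hAE, hAel, hA2⟩
  rw [hNME] at hCA
  obtain ⟨-, -, -, hCMA, -, -⟩ := S1417.result hG M hM p ht A ⟨hAM, hAel, hA2⟩
  have hAp := PGroupsBasic.isPGroup_of_isElementaryAbelian hAel
  have hSA : (S : Subgroup G) ≤ centralizer (A : Set G) := fun s hs => mem_centralizer_iff.2 fun a ha =>
    PGroupsBasic.comm_of_isMulCommutative hS (hAS ha) hs
  set C := centralizer (A : Set G) with hCdef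
  set N := normalizer (A : Set G) with hNdef
  by_contra hcon
  have nofix : ∀ v ∈ N, v ∉ C → A ⊓ centralizer ({v} : Set G) = ⊥ := fun v hv hvC =>
    by_contra fun hne' => hcon (fixed_line_of_elem hG hM hAel hA2 S hSA hv hvC hne')
  -- a prime power element moving `A`
  obtain ⟨r, hr, R, hR, hRC⟩ : ∃ r, r.Prime ∧ ∃ R, IsMaxP r R E ∧ ¬ R ≤ C := by
    by_contra hall'
    push Not at hall'
    refine hne (le_of_qgroups fun q hq => ?_)
    haveI := Fact.mk hq
    obtain ⟨T⟩ : Nonempty (Sylow q E) := inferInstance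
    exact ⟨_, map_subtype_le _, hall' q hq _ (isMaxP_sylow E T), CoprimeAction.card_map_sylow T⟩
  haveI := Fact.mk hr
  have hRE := hR.le
  have hR0 : R ≠ ⊥ := fun h' => hRC (h' ▸ bot_le)
  have hrp : r ≠ p := by
    intro hrp
    have hRp : IsPGroup p R := hrp ▸ hR.isPGroup
    have hc := isMulCommutative_of_pgroup hG hM ht.2.1
      (hRp.to_sup_of_normal_right' hAp (hRE.trans hEA)) ((sup_le hRE hAE).trans hE.1)
    exact hRC fun x hx => mem_centralizer_iff.2 fun a ha =>
      PGroupsBasic.comm_of_isMulCommutative hc (mem_sup_right ha) (mem_sup_left hx)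
  have hrσ : r ∉ Cfsg.sigma M :=
    not_mem_sigma_of_compl hG hM hE hRE hr (dvd_card_of_ne_bot hR.isPGroup hR0)
  have hrτ : r ∉ Cfsg.tau2 M := fun hrt => hRC fun x hx => by
    refine commute_of_tau2 hG hM hE ht hAE hAel hA2 (hRE hx) ?_ (mem_zpowers x)
    intro q hq hd
    rw [(Nat.prime_dvd_prime_iff_eq hq hr).1 (hq.dvd_of_dvd_pow ((hd.trans
      (Subgroup.orderOf_dvd_natCard _ hx)).trans (dvd_of_eq (IsPGroup.iff_card.1 hR.isPGroup).choose_spec)))]
    exact hrt
  have hr1 : Cfsg.PRankLE r 1 M := by_contra fun h' => hrτ (mem_tau2 hG hM hrσ h')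
  have hr13 := mem_tau13 hG hM hrσ hr1
    ((dvd_card_of_ne_bot hR.isPGroup hR0).trans (card_dvd_of_le (hRE.trans hE.1)))
  haveI hRcyc := isCyclic_of_pRankLE_one hG hr1 hR.isPGroup (hRE.trans hE.1)
  obtain ⟨⟨e, heR⟩, hgen⟩ := hRcyc.exists_generator
  have hRe : R = zpowers e := by
    refine le_antisymm (fun x hx => ?_) (zpowers_le.2 heR)
    obtain ⟨i, hi⟩ := mem_zpowers_iff.1 (hgen ⟨x, hx⟩)
    exact mem_zpowers_iff.2 ⟨i, congrArg Subtype.val hi⟩
  have heC : e ∉ C := fun h' => hRC (hRe ▸ zpowers_le.2 h')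
  have heN : e ∈ N := hEA (hRE heR)
  obtain ⟨k, hk⟩ := IsPGroup.iff_orderOf.1 hR.isPGroup ⟨e, heR⟩
  rw [Subgroup.orderOf_mk] at hk
  -- the last power moving `A`
  obtain ⟨j, hjC, hjC'⟩ : ∃ j, e ^ r ^ j ∉ C ∧ (e ^ r ^ j) ^ r ∈ C := by
    by_contra hh
    push Not at hh
    have hall'' : ∀ j, e ^ r ^ j ∉ C := by
      intro j
      induction j with
      | zero => rwa [pow_zero, pow_one]
      | succ j ih => rw [pow_succ, pow_mul]; exact hh j ih
    exact hall'' k (by rw [← hk, pow_orderOf_eq_one]; exact one_mem C)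
  set e₂ := e ^ r ^ j with he₂
  have he₂R : e₂ ∈ R := pow_mem heR _
  have he₂N : e₂ ∈ N := hEA (hRE he₂R)
  have hAe₂ := nofix e₂ he₂N hjC
  -- elements of order `r` centralize `A`
  have hord : ∀ z ∈ R, z ^ r = 1 → z ∈ C := by
    intro z hz hzr
    by_contra hzC
    have hz1 : z ≠ 1 := fun h' => hzC (h' ▸ one_mem C)
    have hzo := PGroupsBasic.orderOf_eq_of_pow_eq_one (p := r) hzr hz1
    have hreg := h z (hRE hz) hz1 fun q hq hd => by
      rw [hzo] at hd
      rw [(Nat.prime_dvd_prime_iff_eq hq hr).1 hd]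
      exact hr13
    refine BGSigma.sigmaCore_ne_bot hG hM (not_fpf hzo (hEA (hRE hz))
      (le_normalizer_sigmaCore M (hE.1 (hRE hz))) (hAM.trans (le_normalizer_sigmaCore M))
      (isSolvable_of_ne_top hG fun h' => hM.1 (top_le_iff.1 (h' ▸ map_subtype_le _)))
      ?_ (nofix z (hEA (hRE hz)) hzC) hreg hCMA)
    refine Nat.coprime_of_dvd fun q hq hd1 hd2 => ?_
    exact not_mem_sigma_of_compl hG hM hE (sup_le hAE (zpowers_le.2 (hRE hz))) hq hd2
      ((BGSigma.hall_sigma hG hM).1.2.1 q hq hd1)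
  obtain ⟨x₁, hx₁R, hx₁o⟩ := PGroupsBasic.exists_orderOf_eq_of_ne_bot hR.isPGroup hR0
  set Q := zpowers x₁ with hQdef
  have hQc : Nat.card Q = r := by rw [Nat.card_zpowers, hx₁o]
  have hQ0 : Q ≠ ⊥ := fun h' => by rw [h', card_bot] at hQc; exact hr.one_lt.ne hQc
  have hQR : Q ≤ R := zpowers_le.2 hx₁R
  have hQC : Q ≤ C := zpowers_le.2 (hord x₁ hx₁R (hx₁o ▸ pow_orderOf_eq_one x₁))
  obtain ⟨L, hL, hNL⟩ := exists_coatom_ge (BGSigma.normalizer_ne_top' hG hQ0
    fun h' => hM.1 (top_le_iff.1 (h' ▸ hQR.trans (hRE.trans hE.1))))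
  have hAL : A ≤ L := fun a ha => hNL (centralizer_le_normalizer _ (mem_centralizer_iff.2 fun q hq =>
    (mem_centralizer_iff.1 (hQC hq) a ha).symm))
  have hCL : C ≤ L := (S1416.result hG L hL p A ⟨hAL, hAel, hA2⟩).1
  have hR1 : IsMaxP r (R ⊓ C) C := by
    refine ⟨inf_le_right, hR.isPGroup.to_le inf_le_left, fun T hT hTC hTp => ?_⟩
    obtain ⟨m, hm, hmT⟩ := BGSigma.exists_conj_maxP hR (hTC.trans hCA) hTp
    have hmC : MulAut.conj m • T ≤ C := by
      rw [← CoprimeSZ.conj_smul_eq_self (g := m) (H := C)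
        (BGRankTwo.normalizer_le_normalizer_centralizer A (hEA hm))]
      exact pointwise_smul_le_pointwise_smul_iff.2 hTC
    have h1 := card_le_of_le (le_inf hmT hmC)
    rw [CoprimeSZ.card_conj_smul] at h1
    exact (eq_of_le_of_card_ge hT h1).symm
  have hNNL : N ≤ L := by
    intro n hn
    have hnC : MulAut.conj n • C = C :=
      CoprimeSZ.conj_smul_eq_self (BGRankTwo.normalizer_le_normalizer_centralizer A hn)
    obtain ⟨c, hc, hcle⟩ := BGSigma.exists_conj_maxP hR1 (Q := MulAut.conj n • (R ⊓ C))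
      (by conv_rhs => rw [← hnC]
          exact pointwise_smul_le_pointwise_smul_iff.2 inf_le_right)
      (hR1.isPGroup.map _)
    rw [← mul_smul, ← map_mul] at hcle
    have hQle : MulAut.conj (c * n) • Q ≤ R :=
      ((pointwise_smul_le_pointwise_smul_iff.2 (le_inf hQR hQC)).trans hcle).trans inf_le_left
    have heq : MulAut.conj (c * n) • Q = Q :=
      PGroupsCyclic.eq_of_card_eq_of_isCyclic hRcyc hQle hQR (CoprimeSZ.card_conj_smul _ _)
    have h1 := hNL (CoprimeAction.mem_normalizer_of_conj_smul_eq heq)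
    simpa using L.mul_mem (L.inv_mem (hCL hc)) h1
  have hpL := mem_sigma_of_normalizer_le hG hAel hA2 hL hNNL
  have hEL : E ≤ L := hEA.trans hNNL
  have hβp : p ∉ Cfsg.beta L := fun h' => (S1408.result hG M hM p ht.2.1 ht.2.2.1 ht.2.2.2).1 h'.2
  have hAσ : A ≤ Cfsg.sigmaCore L := le_sigmaCore hG hL hAL fun q hq hd => by
    rw [hA2] at hd
    rwa [(Nat.prime_dvd_prime_iff_eq hq Fact.out).1 (hq.dvd_of_dvd_pow hd)]
  by_cases hrL : r ∈ Cfsg.sigma L
  · -- both primes in sigma
    have heL : R ≤ Cfsg.sigmaCore L := le_sigmaCore hG hL (hRE.trans hEL) fun q hq hd => by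
      rwa [(Nat.prime_dvd_prime_iff_eq hq hr).1 (hq.dvd_of_dvd_pow
        (hd.trans (dvd_of_eq (IsPGroup.iff_card.1 hR.isPGroup).choose_spec)))]
    obtain ⟨hβ, -, -, ⟨D, hD, hDn⟩, -⟩ := S1414.result hG L hL
    by_cases hβr : r ∈ Cfsg.beta L
    · have heB : R ≤ Cfsg.piCoreOf (Cfsg.beta L) L :=
        le_of_coprime_relIndex (hRE.trans hEL) (BGTransitivity.le_normalizer_piCoreOf _ le_normalizer)
          (Nat.coprime_of_dvd fun q hq h1 h2 => hβ.2.2 q hq (by
            rwa [(Nat.prime_dvd_prime_iff_eq hq hr).1 (hq.dvd_of_dvd_pow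
              (h1.trans (dvd_of_eq (IsPGroup.iff_card.1 hR.isPGroup).choose_spec)))]) h2)
      refine heC (mem_centralizer_iff.2 fun a ha => ?_)
      have hd : A ⊓ Cfsg.piCoreOf (Cfsg.beta L) L = ⊥ := by
        refine HallCore.disjoint_of_coprime_card ?_
        rw [hA2]
        exact Nat.Coprime.pow_left 2 ((Nat.Prime.coprime_iff_not_dvd hp.out).2 fun hd =>
          hβp (hβ.2.1 p hp.out hd))
      have h1 : e * a * e⁻¹ * a⁻¹ ∈ A ⊓ Cfsg.piCoreOf (Cfsg.beta L) L := by
        refine ⟨A.mul_mem ((mem_normalizer_iff.1 heN a).1 ha) (A.inv_mem ha), ?_⟩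
        have h2 := (mem_normalizer_iff.1
          (BGTransitivity.le_normalizer_piCoreOf (Cfsg.beta L) le_normalizer (hAL ha)) e⁻¹).1
          (inv_mem (heB heR))
        have h3 := (Cfsg.piCoreOf (Cfsg.beta L) L).mul_mem (heB heR) h2
        simpa [mul_assoc] using h3
      rw [hd, mem_bot, mul_inv_eq_one, mul_inv_eq_iff_eq_mul] at h1
      exact h1.symm
    · haveI : Group.IsSolvable ↥(Cfsg.sigmaCore L) := isSolvable_of_ne_top hG
        fun h' => hL.1 (top_le_iff.1 (h' ▸ map_subtype_le _))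
      obtain ⟨g, -, hgle⟩ := le_conj_hallOf hD (sup_le heL hAσ) fun q hq hd => by
        have h1 : Nat.card ↥(R ⊔ A : Subgroup G) ∣ Nat.card R * Nat.card A := by
          haveI : (A.subgroupOf E).Normal := normal_subgroupOf_of_le_normalizer hEA
          have := HallCore.card_sup_dvd (R.subgroupOf E) (A.subgroupOf E)
          rw [← card_map_of_injective E.subtype_injective, Subgroup.map_sup,
            map_subgroupOf_eq_of_le hRE, map_subgroupOf_eq_of_le hAE,
            Nat.card_congr (subgroupOfEquivOfLe hRE).toEquiv,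
            Nat.card_congr (subgroupOfEquivOfLe hAE).toEquiv] at this
          exact this
        obtain ⟨i, hi⟩ := IsPGroup.iff_card.1 hR.isPGroup
        rw [hi, hA2] at h1
        rcases hq.dvd_mul.1 (hd.trans h1) with h' | h'
        · exact ⟨hq, by rwa [(Nat.prime_dvd_prime_iff_eq hq hr).1 (hq.dvd_of_dvd_pow h')]⟩
        · exact ⟨hq, by rwa [(Nat.prime_dvd_prime_iff_eq hq hp.out).1 (hq.dvd_of_dvd_pow h')]⟩
      haveI : Group.IsNilpotent ↥(MulAut.conj g • D : Subgroup G) :=
        haveI := hDn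
        Group.nilpotent_of_mulEquiv (Subgroup.equivSMul (MulAut.conj g) D)
      refine heC (mem_centralizer_iff.2 fun a ha => ?_)
      have h1 : Commute (⟨e, hgle (mem_sup_left heR)⟩ : ↥(MulAut.conj g • D : Subgroup G))
          ⟨a, hgle (mem_sup_right ha)⟩ := by
        refine FittingHallBasic.commute_of_coprime_orderOf ?_
        rw [Subgroup.orderOf_mk, Subgroup.orderOf_mk]
        exact Nat.Coprime.coprime_dvd_left (Subgroup.orderOf_dvd_natCard _ heR)
          (Nat.Coprime.coprime_dvd_right (Subgroup.orderOf_dvd_natCard _ ha)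
            (BGFittingUnique.coprime_of_qgroups hrp hR.isPGroup hAp))
      exact (congrArg Subtype.val h1.eq).symm
  · -- the prime `r` in tau two of `L`
    obtain ⟨⟨-, hrk⟩, -⟩ := BGSigma.order_p_normalizer_le hG hL hrL hQc hNL
    have hrt := mem_tau2 hG hL hrL hrk
    obtain ⟨B, hBL, hBel, hB2⟩ := exists_elementary_sq hG hL hrt
    obtain ⟨R', hR', hRR'⟩ := exists_isMaxP_ge hR.isPGroup (hRE.trans hEL)
    obtain ⟨m, hm, hmB⟩ := BGSigma.exists_conj_maxP hR' hBL
      (PGroupsBasic.isPGroup_of_isElementaryAbelian hBel)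
    have hR'c := isMulCommutative_of_pgroup hG hL hrL hR'.isPGroup hR'.le
    have hnil := (S1417.result hG L hL r hrt B ⟨hBL, hBel, hB2⟩).1
    -- `A` is normal in `L`
    have hSL : (S : Subgroup G) ≤ Cfsg.sigmaCore L :=
      le_sigmaCore hG hL (hSA.trans hCL) fun q hq hd => by
        rwa [(Nat.prime_dvd_prime_iff_eq hq hp.out).1 (hq.dvd_of_dvd_pow
          (hd.trans (dvd_of_eq (IsPGroup.iff_card.1 S.isPGroup').choose_spec)))]
    haveI : Group.IsNilpotent ↥(Cfsg.sigmaCore L) := hnil
    haveI := Sylow.characteristic_of_normal (S.subtype hSL) inferInstance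
    have hLS : L ≤ normalizer ((S : Subgroup G) : Set G) := by
      have h1 := ComponentsCores.normalizer_le_normalizer_map_subtype (Cfsg.sigmaCore L)
        ((S.subtype hSL : Sylow p (Cfsg.sigmaCore L)) : Subgroup (Cfsg.sigmaCore L))
      rw [Sylow.coe_subtype, map_subgroupOf_eq_of_le hSL] at h1
      exact (le_normalizer_sigmaCore L).trans h1
    have hLN : L ≤ N := fun g hg => by
      refine Subgroup.mem_normalizer_fintype fun a ha => ?_
      have h1 := (mem_normalizer_iff.1 (hLS hg) a).1 (hAS ha)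
      by_cases ha1 : g * a * g⁻¹ = 1
      · rw [ha1]; exact one_mem A
      · exact hall _ (zpowers_le.2 (hCA (hSA h1))) (by
          rw [Nat.card_zpowers, PGroupsBasic.orderOf_eq_of_pow_eq_one
            (by rw [conj_pow, hAel.2 a ha, mul_one, mul_inv_cancel]) ha1]) (mem_zpowers _)
    obtain ⟨b, hb, hbM⟩ := SetLike.not_le_iff_exists.1 fun hle : MulAut.conj m • B ≤ M =>
      not_pRankLE_one hle (PGroupsBasic.isElementaryAbelian_map_hom hBel _) hr
        ((CoprimeSZ.card_conj_smul m B).trans hB2) hr1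
    have hbr : b ^ r = 1 := (PGroupsBasic.isElementaryAbelian_map_hom hBel _ :
      Cfsg.IsElementaryAbelian r (B.map (MulAut.conj m).toMonoidHom)).2 b hb
    have hbN : b ∈ N := hLN (hR'.le (hmB hb))
    have hbE : b ∉ E := fun h' => hbM (hE.1 h')
    have hbj : ∀ i, 0 < i → i < r → b ^ i ∉ E := by
      intro i hi0 hir hbi
      have hco : r.Coprime i := (Nat.Prime.coprime_iff_not_dvd hr).2 fun hd =>
        absurd (Nat.le_of_dvd hi0 hd) (by omega)
      obtain ⟨u, -, hu⟩ := Nat.exists_mul_mod_eq_one_of_coprime hco.symm hr.one_lt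
      refine hbE ?_
      have h1 := pow_mem hbi u
      rwa [← pow_mul, ← pow_mod_orderOf, PGroupsBasic.orderOf_eq_of_pow_eq_one hbr
        (fun h' => hbE (h' ▸ one_mem E)), hu, pow_one] at h1
    have hcomm : Commute e₂ b :=
      PGroupsBasic.comm_of_isMulCommutative hR'c (hRR' he₂R) (hmB hb)
    haveI := hAel.1
    letI : CommGroup A := { (inferInstance : Group A) with mul_comm := fun x y => mul_comm' x y }
    set φ := A.normalizerMonoidHom
    set α := φ ⟨e₂, he₂N⟩ with hαdef
    set β := φ ⟨b, hbN⟩ with hβdef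
    have hαr : α ^ r = 1 := by
      rw [hαdef, ← map_pow, ← MonoidHom.mem_ker, Subgroup.normalizerMonoidHom_ker]
      exact hjC'
    have hβr' : β ^ r = 1 := by
      rw [hβdef, ← map_pow, show (⟨b, hbN⟩ : N) ^ r = 1 from Subtype.ext hbr, map_one]
    have hαβ : Commute α β := (show Commute (⟨e₂, he₂N⟩ : N) ⟨b, hbN⟩ from Subtype.ext hcomm.eq).map φ
    have hfix : ∀ (v : G) (hv : v ∈ N), v ∉ C → ∀ y : A, φ ⟨v, hv⟩ y = y → y = 1 := by
      intro v hv hvC y hy
      have h1 : v * (y : G) * v⁻¹ = y := congrArg Subtype.val hy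
      have h2 : (y : G) ∈ A ⊓ centralizer ({v} : Set G) :=
        ⟨y.2, mem_centralizer_singleton_iff.2 (mul_inv_eq_iff_eq_mul.1 h1).symm⟩
      rw [nofix v hv hvC, mem_bot] at h2
      exact Subtype.ext h2
    have hα0 : ∀ i, e₂ * b ^ i ∉ C ∨ ¬ i < r := by
      intro i
      by_cases hir : i < r
      · left
        intro h'
        rcases Nat.eq_zero_or_pos i with rfl | hi0
        · exact hjC (by simpa using h')
        · refine hbj i hi0 hir ?_
          have := mul_mem (inv_mem (hRE he₂R)) (hCA h')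
          rwa [inv_mul_cancel_left] at this
      · exact Or.inr hir
    have key : ∀ v : A, v ^ r ∈ (⊥ : Subgroup A) := fun v =>
      CoprimeGen.pow_mem_of_fixed α β hαβ r hr.pos hαr hβr' ⊥
        (fun i hi y hy => by
          refine mem_bot.2 (hfix (e₂ * b ^ i) (mul_mem he₂N (pow_mem hbN i))
            ((hα0 i).resolve_right (not_not.2 hi)) y ?_)
          rw [hαdef, hβdef, ← map_pow, ← map_mul] at hy
          exact hy)
        (fun i hi0 hir y hy => by
          refine mem_bot.2 (hfix (b ^ i) (pow_mem hbN i) (fun h' => hbj i hi0 hir (hCA h')) y ?_)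
          rw [hβdef, ← map_pow] at hy
          exact hy) v
    obtain ⟨a, ha, ha1⟩ := A.bot_or_exists_ne_one.resolve_left fun h' => by
      rw [h', card_bot] at hA2
      exact (Nat.one_lt_pow two_ne_zero hp.out.one_lt).ne hA2
    have har : a ^ r = 1 := congrArg Subtype.val (mem_bot.1 (key ⟨a, ha⟩))
    have h1 := Nat.dvd_gcd (orderOf_dvd_of_pow_eq_one har) (orderOf_dvd_of_pow_eq_one (hAel.2 a ha))
    rw [(Nat.coprime_primes hr hp.out).2 hrp, Nat.dvd_one, orderOf_eq_one_iff] at h1
    exact ha1 h1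

end Cfsg.Agent.BGTau62
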