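import Cfsg.Agent.Lib.BGTypePBase
import Cfsg.Agent.Lib.FrobeniusNilpotent
import Cfsg.Agent.S1420

/-!
Tools for Bender-Glauberman, Theorem 14.12: complements of M_σ, abelian σ'-p-subgroups, and the
action of a fixed-point-free element of prime order.
-/

set_option autoImplicit false
set_option linter.style.haveILetI false

namespace Cfsg.Agent.BGTypeP

open Subgroup Cfsg.Agent.HallCore
open scoped Pointwise

universe u

variable {G : Type u} [Group G] [Finite G]

/-- A σ(M)'-subgroup of M lies in a complement to M_σ. -/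
theorem exists_compl_ge (hG : Cfsg.IsMinSimpleOddOrder G) {M : Subgroup G} (hM : IsCoatom M)
    {Y : Subgroup G} (hY : Y ≤ M) (hYσ : PiNat (Cfsg.sigma M)ᶜ (Nat.card Y)) :
    ∃ E : Subgroup G, Cfsg.IsPiHallOf (Cfsg.sigma M)ᶜ E M ∧
      Cfsg.IsComplIn E (Cfsg.sigmaCore M) M ∧ Y ≤ E := by
  obtain ⟨E, hE, hYE⟩ := exists_hallOf_ge (solvable hG hM) (Cfsg.sigma M)ᶜ hY hYσ
  have hσ := hall hG hM
  have hcop : (Nat.card (Cfsg.sigmaCore M)).Coprime (Nat.card E) :=
    PiNat.coprime (piNat_sigmaCore M) hE.2.1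
  have hN : E ≤ normalizer (Cfsg.sigmaCore M : Set G) :=
    hE.1.trans (BGFinal72.le_normalizer_sigmaCore M)
  have hdvd : Nat.card M ∣ Nat.card ↥(Cfsg.sigmaCore M ⊔ E) := by
    rw [SFTSigma.card_sup_coprime hN hcop, ← BGFinal72.card_mul_relIndex hσ.1]
    refine mul_dvd_mul_left _ ((PiNat.coprime (hallOf_iff.1 hσ).2.2 (π := (Cfsg.sigma M)ᶜ)
      (hallOf_iff.1 hE).2.2).dvd_of_dvd_mul_right ?_)
    rw [BGFinal72.card_mul_relIndex hE.1, ← BGFinal72.card_mul_relIndex hσ.1]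
    exact dvd_mul_left _ _
  have hsup : Cfsg.sigmaCore M ⊔ E = M :=
    eq_of_le_of_card_ge (sup_le hσ.1 hE.1) (Nat.le_of_dvd Nat.card_pos hdvd)
  refine ⟨E, hE, ⟨hE.1, hσ.1, inf_eq_bot_of_coprime hcop.symm, fun m hm => ?_⟩, hYE⟩
  rw [← hsup, sup_comm, ← SetLike.mem_coe, coe_mul_of_left_le_normalizer_right E _ hN] at hm
  obtain ⟨a, ha, b, hb, e⟩ := hm
  exact ⟨a, ha, b, hb, e.symm⟩

/-- A p-subgroup of M for p ∉ σ(M) is abelian. -/
theorem comm_of_pgroup (hG : Cfsg.IsMinSimpleOddOrder G) {M : Subgroup G} (hM : IsCoatom M) {p : ℕ}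
    [Fact p.Prime] (hp : p ∉ Cfsg.sigma M) {P : Subgroup G} (hP : IsPGroup p P) (hPM : P ≤ M) :
    IsMulCommutative P := by
  obtain ⟨E, -, hEc, -⟩ := exists_compl_ge hG hM (Y := ⊥) bot_le (by simpa using piNat_one _)
  refine (S1420.result hG M hM E hEc).1 P hPM hP.isNilpotent fun q hq hd => ?_
  obtain ⟨n, hn⟩ := IsPGroup.iff_card.1 hP
  rw [hn] at hd
  rwa [(Nat.prime_dvd_prime_iff_eq hq Fact.out).1 (hq.dvd_of_dvd_pow hd)]

/-- A noncyclic p-subgroup, p ∈ σ(M), has normalizer in some conjugate of M. -/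
theorem exists_conj_normalizer_le (hG : Cfsg.IsMinSimpleOddOrder G) {M : Subgroup G}
    (hM : IsCoatom M) {p : ℕ} [Fact p.Prime] (hp : p ∈ Cfsg.sigma M) {Q : Subgroup G}
    (hQ : IsPGroup p Q) (hQc : ¬ IsCyclic Q) :
    ∃ g : G, Q ≤ cj g M ∧ normalizer (Q : Set G) ≤ cj g M := by
  obtain ⟨P, hP, -⟩ :=
    BGUnique.exists_isMaxP_ge (p := p) (A := ⊥) (M := M) (IsPGroup.of_bot) bot_le
  obtain ⟨S, hS⟩ := (BGSigma.isMaxP_top_of_sigma hp hP).exists_sylow_top
  obtain ⟨T, hT⟩ := hQ.exists_le_sylow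
  obtain ⟨c, hc⟩ := MulAction.exists_smul_eq G S T
  have hQM : Q ≤ cj c M := by
    intro x hx
    have h1 : x ∈ (T : Subgroup G) := hT hx
    rw [← hc, Sylow.coe_subgroup_smul, hS] at h1
    exact cj_mono c hP.le h1
  have hcM := isCoatom_cj c hM
  obtain ⟨E, -, hEc, -⟩ := exists_compl_ge hG hcM (Y := ⊥) bot_le (by simpa using piNat_one _)
  exact ⟨c, hQM, (S1420.result hG _ hcM E hEc).2.2.1 p Q (by rwa [sigma_cj]) hQ hQM hQc⟩

/-- An element of prime order acting without fixed points on N and W makes W centralise N. -/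
theorem le_centralizer_of_fpf {N W : Subgroup G} {x : G} {r : ℕ} (hr : r.Prime)
    (hx : orderOf x = r) (hxN : x ∈ normalizer (N : Set G)) (hxW : x ∈ normalizer (W : Set G))
    (hWN : W ≤ normalizer (N : Set G)) (hcop : (Nat.card N).Coprime (Nat.card W))
    (hN : N ⊓ centralizer ({x} : Set G) = ⊥) (hW : W ⊓ centralizer ({x} : Set G) = ⊥) :
    W ≤ centralizer (N : Set G) := by
  set D := W ⊔ N
  have hD : x ∈ normalizer (D : Set G) :=
    SignalizerCoprime.le_normalizer_sup (zpowers_le.2 hxW) (zpowers_le.2 hxN) (mem_zpowers x)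
  let φ : MulAut D :=
    { toFun := fun d => ⟨x * d * x⁻¹, (mem_normalizer_iff.1 hD d).1 d.2⟩
      invFun := fun d => ⟨x⁻¹ * d * x, (mem_normalizer_iff''.1 hD d).1 d.2⟩
      left_inv := fun d => Subtype.ext (by simp [mul_assoc])
      right_inv := fun d => Subtype.ext (by simp [mul_assoc])
      map_mul' := fun d e => Subtype.ext (by simp [mul_assoc]) }
  have hφ : ∀ (n : ℕ) (d : D), (((φ ^ n) d : D) : G) = x ^ n * d * (x ^ n)⁻¹ := by
    intro n
    induction n with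
    | zero => intro d; simp
    | succ n ih =>
      intro d
      rw [pow_succ', MulAut.mul_apply]
      show x * (((φ ^ n) d : D) : G) * x⁻¹ = _
      rw [ih, pow_succ']
      group
  haveI hnil : Group.IsNilpotent D := by
    refine FrobeniusNilpotent.isNilpotent_of_fpf φ (fun d hd => ?_) r hr ?_
    · have hd' : x * (d : G) * x⁻¹ = d := congrArg Subtype.val hd
      have hdD : (d : G) ∈ (W : Set G) * (N : Set G) := by
        rw [← coe_mul_of_left_le_normalizer_right W N hWN]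
        exact d.2
      obtain ⟨w, hw, n, hn, e⟩ := hdD
      change w * n = (d : G) at e
      have hw' := (mem_normalizer_iff.1 hxW w).1 hw
      have hn' := (mem_normalizer_iff.1 hxN n).1 hn
      have e1 : (x * w * x⁻¹) * (x * n * x⁻¹) = w * n := by
        rw [e]
        calc (x * w * x⁻¹) * (x * n * x⁻¹) = x * (w * n) * x⁻¹ := by group
          _ = _ := by rw [e]; exact hd'
      have e2 : w⁻¹ * (x * w * x⁻¹) = n * (x * n * x⁻¹)⁻¹ := by
        calc w⁻¹ * (x * w * x⁻¹) = w⁻¹ * ((x * w * x⁻¹) * (x * n * x⁻¹)) * (x * n * x⁻¹)⁻¹ := by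
              group
          _ = _ := by rw [e1]; group
      have hmem : w⁻¹ * (x * w * x⁻¹) ∈ W ⊓ N :=
        ⟨W.mul_mem (W.inv_mem hw) hw', e2 ▸ N.mul_mem hn (N.inv_mem hn')⟩
      rw [inf_eq_bot_of_coprime hcop.symm, mem_bot] at hmem
      have hw1 : x * w * x⁻¹ = w := (inv_mul_eq_one.1 hmem).symm
      have hn1 : x * n * x⁻¹ = n := by rw [hw1] at e1; exact mul_left_cancel e1
      have hw0 : w ∈ W ⊓ centralizer ({x} : Set G) :=
        ⟨hw, mem_centralizer_singleton_iff.2 (mul_inv_eq_iff_eq_mul.1 hw1).symm⟩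
      have hn0 : n ∈ N ⊓ centralizer ({x} : Set G) :=
        ⟨hn, mem_centralizer_singleton_iff.2 (mul_inv_eq_iff_eq_mul.1 hn1).symm⟩
      rw [hW, mem_bot] at hw0
      rw [hN, mem_bot] at hn0
      exact Subtype.ext (by rw [← e, hw0, hn0, one_mul]; rfl)
    · ext d
      rw [hφ, ← hx, pow_orderOf_eq_one]
      simp
  intro w hw n hn
  refine congrArg Subtype.val (FrobeniusNilpotent.commute_of_coprime (G := D)
    ⟨n, mem_sup_right hn⟩ ⟨w, mem_sup_left hw⟩ ?_)
  rw [orderOf_mk, orderOf_mk]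
  exact (hcop.coprime_dvd_left (N.orderOf_dvd_natCard hn)).coprime_dvd_right
    (W.orderOf_dvd_natCard hw)

end Cfsg.Agent.BGTypeP
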