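import Cfsg.Agent.Lib.BGTypePClasses
import Cfsg.Agent.Lib.BGTypePSignalTools
import Cfsg.Agent.S1408
import Cfsg.Agent.S1416
import Cfsg.Agent.S1417
import Cfsg.Agent.S1418

/-!
Bender-Glauberman, Theorem 14.12, first part: the maximal subgroups H over N(R), R a Sylow r-subgroup
of U for a maximal subgroup M of type P₂.
-/

set_option autoImplicit false
set_option linter.style.haveILetI false

namespace Cfsg.Agent.BGTypeP

open Subgroup Cfsg.Agent.HallCore

universe u

variable {G : Type u} [Group G] [Finite G] {M K U L : Subgroup G}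

theorem Pair.not_dvd_Z (hp : Pair M K L) (hKU : Cfsg.IsSigmaDecomposition M K U) {r : ℕ}
    (hr : r.Prime) (hd : r ∣ Nat.card U) : ¬ r ∣ Nat.card ↥(Zs M K) := by
  have hU := BGFinal72.U_prime (hall hp.left.min hp.left.coatom) hKU hr hd
  rw [card_Z hp.left]
  intro h
  rcases hr.dvd_mul.1 h with h | h
  · exact hU.2 (hp.left.hall.2.1 r hr h)
  · exact hU.1 (piNat_Ks M K r hr h)

/-- An r-subgroup of U lying in M* is trivial. -/
theorem Pair.eq_bot_of_le (hp : Pair M K L) (hKU : Cfsg.IsSigmaDecomposition M K U) {r : ℕ}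
    [Fact r.Prime] (hd : r ∣ Nat.card U) {A : Subgroup G} (hA : IsPGroup r A) (hAU : A ≤ U)
    (hAL : A ≤ L) : A = ⊥ := by
  by_contra hne
  refine hp.not_dvd_Z hKU Fact.out hd ((BGUnique.dvd_card_of_ne_bot hA hne).trans (card_dvd_of_le ?_))
  rw [← hp.inf_eq]
  exact le_inf (hAU.trans (BGFinal72.U_le hKU)) hAL

/-- K ≤ M^{*g} forces g ∈ M*. -/
theorem Pair.mem_of_le_cj (hp : Pair M K L) {g : G} (hK : K ≤ cj g L) : g ∈ L := by
  obtain ⟨x, hx, hx1⟩ := K.bot_or_exists_ne_one.resolve_left hp.left.ne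
  exact hp.right.mem_of_conj_mem (hp.eq.symm ▸ hx) hx1 (hK hx)

/-- What Theorem 14.12 says about a maximal subgroup H over N(R). -/
structure Over (M K U L H : Subgroup G) : Prop where
  coatom : IsCoatom H
  notM : ∀ g : G, H ≠ cj g M
  notL : ∀ g : G, H ≠ cj g L
  kappa : Cfsg.kappa H = ∅
  U_le : U ≤ H
  K_le : K ≤ H
  fpf : ∀ x ∈ K, x ≠ 1 → Cfsg.sigmaCore H ⊓ centralizer ({x} : Set G) = ⊥

theorem Over.disjoint_M {H : Subgroup G} (ho : Over M K U L H) (hp : Pair M K L) {q : ℕ}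
    (hq : q ∈ Cfsg.sigma M) : q ∉ Cfsg.sigma H := fun hqH => by
  obtain ⟨g, hg⟩ := conj_of_inter hp.left.min hp.left.coatom ho.coatom hq hqH
  exact ho.notM g hg

theorem Over.disjoint_L {H : Subgroup G} (ho : Over M K U L H) (hp : Pair M K L) {q : ℕ}
    (hq : q ∈ Cfsg.sigma L) : q ∉ Cfsg.sigma H := fun hqH => by
  obtain ⟨g, hg⟩ := conj_of_inter hp.left.min hp.right.coatom ho.coatom hq hqH
  exact ho.notL g hg

theorem mem_sigma_K (hp : Pair M K L) {q : ℕ} (hq : q.Prime) (hd : q ∣ Nat.card K) :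
    q ∈ Cfsg.sigma L := by
  rw [← hp.eq] at hd
  exact piNat_Ks L (Ks M K) q hq hd

theorem exists_over_normalizer (hp : Pair M K L) (hKU : Cfsg.IsSigmaDecomposition M K U)
    (hU1 : U ≠ ⊥) {r : ℕ} [Fact r.Prime] (hr : r ∣ Nat.card U) {R : Subgroup G}
    (hR : ∀ S : Sylow r U, (S : Subgroup U).map U.subtype = R) {H : Subgroup G} (hH : IsCoatom H)
    (hNR : normalizer (R : Set G) ≤ H) :
    Over M K U L H ∧ r ∈ Cfsg.sigma H := by
  have h := hp.left
  have hG := h.min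
  obtain ⟨R', A, hRU, hR', hRp, hKR, hAdef, hAR, hA1, hKA, hAc, hCA, -, T, hT⟩ :=
    exists_omega h hKU hr
  obtain ⟨S₀⟩ : Nonempty (Sylow r U) := inferInstance
  have e : R' = R := (hR' S₀).symm.trans (hR S₀)
  subst e
  have hσM := hall hG h.coatom
  have hrU := BGFinal72.U_prime hσM hKU Fact.out hr
  have hUc := U_comm h hKU
  have hUM := BGFinal72.U_le hKU
  have hUH : U ≤ H := by
    refine le_trans (fun u hu => ?_) hNR
    refine centralizer_le_normalizer _ (mem_centralizer_iff.2 fun a ha => ?_)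
    exact PGroupsBasic.comm_of_isMulCommutative hUc (hRU ha) hu
  have hKH : K ≤ H := hKR.trans hNR
  have hRH : R' ≤ H := hRU.trans hUH
  have hne : H ≠ M := by
    rintro rfl
    exact hrU.1 ⟨Fact.out, hr.trans (card_dvd_of_le hUM), T, by rw [hT]; exact hNR⟩
  have hnotM : ∀ g : G, H ≠ cj g M := by
    intro g hg
    have hRmax : BGUnique.IsMaxP r R' M := hT ▸ BGUnique.isMaxP_sylow M T
    have hcR : BGUnique.IsMaxP r (cj g R') H := hg ▸ BGSigma.isMaxP_conj g hRmax
    obtain ⟨P, hP, hRP⟩ := BGUnique.exists_isMaxP_ge hRp hRH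
    have hPR : R' = P := eq_of_le_of_card_ge hRP (by
      rw [← BGSigma.isMaxP_card hcR hP, card_cj])
    obtain ⟨m, hm, e⟩ := BGSigma.exists_conj_maxP (hPR.symm ▸ hP) hcR.le hcR.isPGroup
    have e' : cj (m * g) R' = R' := by
      refine eq_of_le_of_card_ge (by rw [← cj_mul]; exact e) ?_
      rw [card_cj]
    have hgH : g ∈ H := by
      have := H.mul_mem (H.inv_mem hm) (hNR (SFTSigma.mem_normalizer_of_map_conj_eq e'))
      rwa [inv_mul_cancel_left] at this
    exact hne (by rw [← cj_inv_cj g M, ← hg, cj_of_mem (H.inv_mem hgH)])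
  have hnotL : ∀ g : G, H ≠ cj g L := by
    intro g hg
    rw [cj_of_mem (hp.mem_of_le_cj (hg ▸ hKH))] at hg
    exact hA1 (hp.eq_bot_of_le hKU hr (hRp.to_le hAR) (hAR.trans hRU) (hg ▸ hAR.trans hRH))
  have hκ : Cfsg.kappa H = ∅ := by
    by_contra hne'
    obtain ⟨K', U', h', -⟩ := typeP_of_kappa hG hH (Set.nonempty_iff_ne_empty.2 hne')
    obtain ⟨g, hg | hg⟩ := hp.conj_class h'
    · exact hnotM g hg
    · exact hnotL g hg
  have hfpf : ∀ x ∈ K, x ≠ 1 → Cfsg.sigmaCore H ⊓ centralizer ({x} : Set G) = ⊥ := by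
    intro x hx hx1
    by_contra hne'
    obtain ⟨z, hz, hz1⟩ :=
      (Cfsg.sigmaCore H ⊓ centralizer ({x} : Set G)).bot_or_exists_ne_one.resolve_left hne'
    have hxL : x ∈ Ks L (Ks M K) := hp.eq.symm ▸ hx
    have hdisjL : ∀ q, q ∈ Cfsg.sigma L → q ∉ Cfsg.sigma H := fun q hqL hqH => by
      obtain ⟨g, hg⟩ := conj_of_inter hG hp.right.coatom hH hqL hqH
      exact hnotL g hg
    have hzσ : ∀ q : ℕ, q.Prime → q ∣ orderOf z → q ∉ Cfsg.sigma L := fun q hq hd hqL =>
      hdisjL q hqL (piNat_mem_sigmaCore hz.1 q hq hd)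
    rcases S1432.result hG L hp.right.coatom x hxL.1 hx1 z
        ⟨hp.right.centralizer_le hxL hx1 hz.2, hz.2⟩ hz1 hzσ with
      ⟨hκz, -⟩ | ⟨-, -, hle, huniq⟩
    · obtain ⟨q, hq, hd, hqH⟩ := exists_prime_of_mem_sigmaCore hz.1 hz1
      have hqL : q ∈ Cfsg.kappa L := hκz q hq hd
      have hqKs : q ∣ Nat.card ↥(Ks M K) := by
        by_contra hn
        refine hp.right.hall.2.2 q hq hqL ?_
        have h2 : q ∣ Nat.card ↥(Ks M K) * (Ks M K).relIndex L := by
          rw [BGFinal72.card_mul_relIndex hp.right.K_le]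
          exact hqL.2.1
        exact (hq.dvd_mul.1 h2).resolve_left hn
      obtain ⟨g, hg⟩ := conj_of_inter hG h.coatom hH (piNat_Ks M K q hq hqKs) hqH
      exact hnotM g hg
    · have hC : ¬ centralizer ({z} : Set G) ≤ H := fun hle' =>
        hnotL 1 (by rw [cj_one]; exact huniq H hH hle')
      obtain ⟨N, hN⟩ := exists_outN hG hH hz.1 hz1 hC
      have e : L = N := hN.unique L hp.right.coatom hle
      subst e
      have hmem : x ∈ (H ⊓ L) ⊓ Cfsg.sigmaCore L :=
        ⟨⟨hKH hx, BGFinal72.sigmaCore_le L hxL.1⟩, hxL.1⟩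
      rw [hN.inf_compl.2.2.1, mem_bot] at hmem
      exact hx1 hmem
  have ho : Over M K U L H := ⟨hH, hnotM, hnotL, hκ, hUH, hKH, hfpf⟩
  refine ⟨ho, ?_⟩
  by_contra hrH
  have hKp := card_K_prime h hKU hU1
  obtain ⟨x, hx, hx1⟩ := K.bot_or_exists_ne_one.resolve_left h.ne
  have hxq : orderOf x = Nat.card K :=
    (hKp.eq_one_or_self_of_dvd _ (K.orderOf_dvd_natCard hx)).resolve_left (by simpa using hx1)
  -- a complement E containing R K
  have hcRK : (Nat.card R').Coprime (Nat.card K) := Nat.coprime_of_dvd fun q hq h1 h2 =>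
    hrU.2 (by
      obtain ⟨n, hn⟩ := IsPGroup.iff_card.1 hRp
      rw [hn] at h1
      exact (Nat.prime_dvd_prime_iff_eq hq Fact.out).1 (hq.dvd_of_dvd_pow h1) ▸
        h.hall.2.1 q hq h2)
  obtain ⟨E, hE, hEc, hRKE⟩ := exists_compl_ge hG hH (Y := R' ⊔ K) (sup_le hRH hKH) (by
    rw [SFTSigma.card_sup_coprime hKR hcRK]
    refine PiNat.mul (fun q hq hd => ?_)
      (fun q hq hd => ho.disjoint_L hp (mem_sigma_K hp hq hd))
    obtain ⟨n, hn⟩ := IsPGroup.iff_card.1 hRp
    rw [hn] at hd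
    rwa [(Nat.prime_dvd_prime_iff_eq hq Fact.out).1 (hq.dvd_of_dvd_pow hd)])
  obtain ⟨P, hP, hRP⟩ := BGUnique.exists_isMaxP_ge hRp (le_sup_left.trans hRKE : R' ≤ E)
  have hPH : BGUnique.IsMaxP r P H := by
    obtain ⟨P', hP', hPP'⟩ := BGUnique.exists_isMaxP_ge hP.isPGroup (hP.le.trans hE.1)
    obtain ⟨S, hS⟩ := hP.exists_sylow
    obtain ⟨S', hS'⟩ := hP'.exists_sylow
    refine eq_of_le_of_card_ge hPP' ?_ ▸ hP'
    rw [← hS, ← hS', card_map_of_injective E.subtype_injective,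
      card_map_of_injective H.subtype_injective, S.card_eq_multiplicity, S'.card_eq_multiplicity,
      ← BGFinal72.card_mul_relIndex hE.1, Nat.factorization_mul Nat.card_pos.ne'
        (fun e => Nat.card_pos.ne' (by rw [← BGFinal72.card_mul_relIndex hE.1, e, mul_zero])),
      Finsupp.add_apply, Nat.factorization_eq_zero_of_not_dvd (hE.2.2 r Fact.out hrH), add_zero]
  have hPc : IsMulCommutative P := comm_of_pgroup hG hH hrH hP.isPGroup hPH.le
  have hnotsigma : ¬ normalizer (P : Set G) ≤ H := by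
    intro hle
    obtain ⟨S, hS⟩ := hPH.exists_sylow
    exact hrH ⟨Fact.out, hr.trans (card_dvd_of_le hUH), S, by rw [hS]; exact hle⟩
  have hAE : ∀ a ∈ A, a ^ r = 1 ∧ a ∈ R' := by
    intro a ha
    refine ⟨?_, hAR ha⟩
    rw [hAdef] at ha
    induction ha using Subgroup.closure_induction with
    | mem y hy => exact hy.2
    | one => exact one_pow r
    | mul a b ha' hb' iha ihb =>
      have hc : Commute a b := PGroupsBasic.comm_of_isMulCommutative hUc
        (hRU ((closure_le _).2 (fun y hy => hy.1) ha'))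
        (hRU ((closure_le _).2 (fun y hy => hy.1) hb'))
      rw [hc.mul_pow, iha, ihb, one_mul]
    | inv a _ iha => rw [inv_pow, iha, inv_one]
  have hAel : Cfsg.IsElementaryAbelian r A :=
    ⟨⟨⟨fun a b => Subtype.ext
      (PGroupsBasic.comm_of_isMulCommutative hUc (hRU (hAR a.2)) (hRU (hAR b.2)))⟩⟩,
      fun a ha => (hAE a ha).1⟩
  obtain ⟨n, hn⟩ := IsPGroup.iff_card.1 (hRp.to_le hAR)
  have hn1 : n = 1 := by
    rcases n with _ | _ | n
    · exact absurd (eq_bot_of_card_eq A (by rw [hn, pow_zero])) hA1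
    · rfl
    · exfalso
      have hn2 : Nat.card A = r ^ 2 :=
        le_antisymm hAc (hn ▸ Nat.pow_le_pow_right (Fact.out : r.Prime).pos (by omega))
      have hle : P ≤ M := le_trans (fun z hz => mem_centralizer_iff.2 fun a ha =>
          PGroupsBasic.comm_of_isMulCommutative hPc (hRP (hAR ha)) hz)
        (S1416.result hG M h.coatom r A ⟨hAR.trans (hRU.trans hUM), hAel, hn2⟩).1
      have e : R' = P := (hT ▸ BGUnique.isMaxP_sylow M T).eq_of_le _ hRP hle hP.isPGroup |>.symm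
      exact hnotsigma (e ▸ hNR)
  rw [hn1, pow_one] at hn
  have hPnc : ¬ IsCyclic P := by
    intro hcyc
    refine hnotsigma (le_trans (fun g hg => ?_) hNR)
    refine SFTSigma.mem_normalizer_of_map_conj_eq (PGroupsCyclic.eq_of_card_eq_of_isCyclic hcyc
      ?_ hRP (card_cj g R'))
    rw [← SFTSigma.map_conj_eq_of_mem_normalizer hg]
    exact map_mono hRP
  obtain ⟨E₂, hE₂P, hE₂, hE₂c⟩ := BGUnique.exists_elementary_sq_of_noncyclic hG hP.isPGroup hPnc
  have hE₂H : E₂ ≤ H := hE₂P.trans hPH.le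
  have hτ : r ∈ Cfsg.tau2 H := by
    refine ⟨Fact.out, hrH, ?_, fun hr1 => ?_⟩
    · by_contra h2
      exact hrH (BGSigma.alpha_subset_sigma hG hH ⟨Fact.out, h2⟩)
    · have h1 := hr1 (E₂.subgroupOf H) ⟨⟨fun u v => Subtype.ext (Subtype.ext
        (PGroupsBasic.comm_of_isMulCommutative hE₂.1 (x := ((u : H) : G)) u.2 v.2))⟩⟩
        (fun u hu => Subtype.ext (by rw [SubgroupClass.coe_pow]; exact hE₂.2 _ hu))
      rw [Nat.card_congr (subgroupOfEquivOfLe hE₂H).toEquiv, hE₂c, pow_one] at h1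
      exact absurd h1 (by nlinarith [(Fact.out : r.Prime).two_le])
  have h18 := S1418.result hG H hH E hEc r hτ E₂ ⟨hE₂P.trans hP.le, hE₂, hE₂c⟩
  have hxE : x ∈ E := hRKE (mem_sup_right hx)
  have hxN : x ∈ normalizer (E₂ : Set G) := h18.1.1 hxE
  have hAE₂ : A ≤ E₂ :=
    h18.1.2 A ((hAR.trans hRP).trans hP.le) hn
  have hE₂p : IsPGroup r E₂ := hP.isPGroup.to_le hE₂P
  have hE₂nc : ¬ IsCyclic E₂ := fun hcyc => by
    have h1 := PGroupsCyclic.eq_of_card_eq_of_isCyclic (H := A) (K := A) hcyc hAE₂ hAE₂ rfl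
    obtain ⟨g, hg⟩ := hcyc.exists_generator
    have h2 : Nat.card E₂ ∣ r := by
      rw [← orderOf_eq_card_of_forall_mem_zpowers hg]
      exact orderOf_dvd_of_pow_eq_one (Subtype.ext (by simpa using hE₂.2 _ g.2))
    rw [hE₂c] at h2
    have h3 := Nat.le_of_dvd (Fact.out : r.Prime).pos h2
    nlinarith [(Fact.out : r.Prime).two_le]
  have hrL : r ∉ Cfsg.sigma L := by
    intro hrL
    obtain ⟨g, hg, hNg⟩ := exists_conj_normalizer_le hG hp.right.coatom hrL hE₂p hE₂nc
    have hgL : g ∈ L := hp.right.mem_of_conj_mem (hp.eq.symm ▸ hx) hx1 (hNg hxN)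
    rw [cj_of_mem hgL] at hg
    exact hA1 (hp.eq_bot_of_le hKU hr (hRp.to_le hAR) (hAR.trans hRU) (hAE₂.trans hg))
  have hxL : x ∈ Ks L (Ks M K) := hp.eq.symm ▸ hx
  -- x has no fixed point on E₂
  have hfix : E₂ ⊓ centralizer ({x} : Set G) = ⊥ := by
    by_contra hne'
    obtain ⟨a, ha, ha1⟩ := (E₂ ⊓ centralizer ({x} : Set G)).bot_or_exists_ne_one.resolve_left hne'
    have haL : a ∈ L := hp.right.centralizer_le hxL hx1 ha.2
    have hor : orderOf a = r := orderOf_eq_prime (hE₂.2 a ha.1) ha1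
    rcases S1432.result hG L hp.right.coatom x hxL.1 hx1 a ⟨haL, ha.2⟩ ha1 (fun q hq hd => by
        rw [hor] at hd
        rwa [(Nat.prime_dvd_prime_iff_eq hq Fact.out).1 hd]) with ⟨hκa, -⟩ | ⟨-, -, hle, -⟩
    · have hrκ := hκa r Fact.out (hor ▸ dvd_rfl)
      have h2 : r ∣ Nat.card ↥(Ks M K) * (Ks M K).relIndex L := by
        rw [BGFinal72.card_mul_relIndex hp.right.K_le]
        exact hrκ.2.1
      exact hrU.1 (piNat_Ks M K r Fact.out (((Fact.out : r.Prime).dvd_mul.1 h2).resolve_right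
        (hp.right.hall.2.2 r Fact.out hrκ)))
    · refine hA1 (hp.eq_bot_of_le hKU hr (hRp.to_le hAR) (hAR.trans hRU)
        (hAE₂.trans (le_trans (fun b hb => ?_) hle)))
      exact mem_centralizer_singleton_iff.2 (PGroupsBasic.comm_of_isMulCommutative hE₂.1 hb ha.1)
  have hEN : E₂ ≤ normalizer (Cfsg.sigmaCore H : Set G) :=
    hE₂H.trans (BGFinal72.le_normalizer_sigmaCore H)
  have hcent := le_centralizer_of_fpf hKp hxq (BGFinal72.le_normalizer_sigmaCore H (hKH hx)) hxN hEN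
    (by rw [hE₂c]
        exact ((Nat.coprime_comm.1 ((Fact.out : r.Prime).coprime_iff_not_dvd.2 fun hd =>
          hrH (piNat_sigmaCore H r Fact.out hd))).pow_right 2))
    (hfpf x hx hx1) hfix
  have hd := (S1417.result hG H hH r hτ E₂ ⟨hE₂H, hE₂, hE₂c⟩).2.2.2.1
  rw [inf_eq_left.2 fun z hz => mem_centralizer_iff.2 fun a ha =>
    ((mem_centralizer_iff.1 (hcent ha)) z hz).symm] at hd
  exact BGSigma.sigmaCore_ne_bot hG hH hd

end Cfsg.Agent.BGTypeP
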