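import Cfsg.Agent.Lib.BGTypePTI
import Cfsg.Agent.Lib.BGTypePDichotomy
import Cfsg.Agent.S1416
import Cfsg.Agent.S1417

/-!
Bender-Glauberman, Theorem 14.7 (a): for y in K* of prime order, M is the only maximal subgroup
containing C(y).
-/

set_option autoImplicit false
set_option linter.style.haveILetI false

namespace Cfsg.Agent.BGTypeP

open Subgroup Cfsg.Agent.HallCore

universe u

variable {G : Type u} [Group G] [Finite G] {M K : Subgroup G}

omit [Finite G] in
theorem conj_pow_eq {s y z : G} {i j : ℕ} (hz : Commute s z) (hyz : Commute y z)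
    (h : s * y * s⁻¹ = y ^ i * z ^ j) (n : ℕ) :
    ∃ m : ℕ, s ^ n * y * (s ^ n)⁻¹ = y ^ i ^ n * z ^ m := by
  induction n with
  | zero => exact ⟨0, by simp⟩
  | succ n ih =>
    obtain ⟨m, hm⟩ := ih
    refine ⟨j * i ^ n + m, ?_⟩
    calc s ^ (n + 1) * y * (s ^ (n + 1))⁻¹
        = s * (s ^ n * y * (s ^ n)⁻¹) * s⁻¹ := by rw [pow_succ']; group
      _ = (s * y * s⁻¹) ^ (i ^ n) * z ^ m := by
          rw [hm, conj_pow]
          calc s * (y ^ i ^ n * z ^ m) * s⁻¹ = s * y ^ i ^ n * (z ^ m * s⁻¹) := by group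
            _ = s * y ^ i ^ n * (s⁻¹ * z ^ m) := by rw [(hz.inv_left.pow_right m).eq]
            _ = _ := by group
      _ = y ^ i ^ (n + 1) * z ^ (j * i ^ n + m) := by
          rw [h, (hyz.pow_pow i j).mul_pow, ← pow_mul, ← pow_mul, mul_assoc, ← pow_add,
            pow_succ' i n]

omit [Finite G] in
/-- A q-element fixing z and normalising ⟨y, z⟩ moves y along ⟨z⟩. -/
theorem exists_shift {q : ℕ} [Fact q.Prime] {s y z : G} (hyq : orderOf y = q) (hzq : z ^ q = 1)
    (hnot : y ∉ zpowers z) {i j k : ℕ} (hs : s ^ q ^ k = 1) (hz : Commute s z) (hyz : Commute y z)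
    (h : s * y * s⁻¹ = y ^ i * z ^ j) : s * y * s⁻¹ = y * z ^ j := by
  obtain ⟨m, hm⟩ := conj_pow_eq hz hyz h (q ^ k)
  rw [hs, one_mul, inv_one, mul_one] at hm
  have h1 : ((i ^ q ^ k : ℕ) : ZMod q) = 1 := by
    by_contra hne
    have h2 : y ^ ((i ^ q ^ k : ℕ) : ℤ) * y⁻¹ ∈ zpowers z := by
      have e : y ^ (i ^ q ^ k) * y⁻¹ = (z ^ m)⁻¹ := by
        have e1 : y ^ (i ^ q ^ k) = y * (z ^ m)⁻¹ := eq_mul_inv_of_mul_eq hm.symm
        rw [e1, (hyz.pow_right m).inv_right.eq, mul_assoc, mul_inv_cancel, mul_one]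
      rw [zpow_natCast, e]
      exact inv_mem (pow_mem (mem_zpowers z) m)
    rw [← zpow_neg_one, ← zpow_add] at h2
    have hc : (((i ^ q ^ k : ℕ) : ℤ) + -1).natAbs.Coprime (orderOf y) := by
      rw [hyq, Nat.coprime_comm, Nat.Prime.coprime_iff_not_dvd Fact.out, ← Int.natCast_dvd,
        ← ZMod.intCast_zmod_eq_zero_iff_dvd]
      push_cast
      intro e
      apply hne
      push_cast
      linear_combination e
    refine hnot (zpowers_le.2 h2 ?_)
    rw [mem_zpowers_zpow_iff]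
    exact hc
  have hi : (i : ZMod q) = 1 := by
    rw [Nat.cast_pow, ZMod.pow_card_pow] at h1
    exact h1
  rw [h]
  congr 1
  have := (ZMod.natCast_eq_natCast_iff' i 1 q).1 (by rw [hi, Nat.cast_one])
  calc y ^ i = y ^ (i % q) := by rw [← hyq, pow_mod_orderOf]
    _ = y ^ (1 % q) := by rw [this]
    _ = y := by rw [Nat.mod_eq_of_lt (Fact.out : q.Prime).one_lt, pow_one]

/-- M is the only maximal subgroup containing C(y). -/
theorem TypeP.centralizer_unique (h : TypeP M K) {y : G} (hy : y ∈ Ks M K) {q : ℕ}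
    [Fact q.Prime] (hyq : orderOf y = q) {L : Subgroup G} (hL : IsCoatom L)
    (hCL : centralizer ({y} : Set G) ≤ L) : L = M := by
  have hG := h.min
  have hy1 : y ≠ 1 := fun e => (Fact.out : q.Prime).ne_one (by rw [← hyq, e, orderOf_one])
  have hqM : q ∈ Cfsg.sigma M := piNat_orderOf (piNat_Ks M K) hy q Fact.out (hyq ▸ dvd_rfl)
  have hyC : y ∈ centralizer ({y} : Set G) := mem_centralizer_singleton_iff.2 rfl
  by_cases hqL : q ∈ Cfsg.sigma L
  · obtain ⟨g, rfl⟩ := conj_of_inter hG h.coatom hL hqM hqL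
    exact cj_of_mem (h.mem_of_conj_mem hy hy1 (hCL hyC))
  set N := Cfsg.sigmaCore M
  have hqK : q ∣ Nat.card ↥(Ks M K) := hyq ▸ (Ks M K).orderOf_dvd_natCard hy
  have hzy : IsPGroup q (zpowers y) :=
    IsPGroup.of_card (n := 1) (by rw [Nat.card_zpowers, hyq, pow_one])
  obtain ⟨S₀, hS₀⟩ := (hzy.comap_of_injective N.subtype N.subtype_injective).exists_le_sylow
  set S := (S₀ : Subgroup N).map N.subtype
  have hSu := (S1431.result hG M h.coatom K h.hall h.ne).2.2.1 q Fact.out hqK S₀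
  have hyS : y ∈ S := ⟨⟨y, hy.1⟩, hS₀ (mem_zpowers y), rfl⟩
  have hSp : IsPGroup q S := S₀.isPGroup'.map _
  have hSL : S ≤ L → L = M := fun hle =>
    (BGUnique.eq_of_unique hSu.1 h.coatom hSu.2.1 hL hle).symm
  haveI : Nontrivial S := ⟨⟨⟨y, hyS⟩, 1, fun e => hy1 (congrArg Subtype.val e)⟩⟩
  haveI := hSp.center_nontrivial
  have hZp : IsPGroup q (center S) := hSp.to_subgroup _
  obtain ⟨z₀, hz₀⟩ := exists_prime_orderOf_dvd_card' (G := center S) q (by
    obtain ⟨n, hn⟩ := IsPGroup.iff_card.1 hZp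
    rcases n with _ | n
    · exact absurd hn (by rw [pow_zero]; exact Finite.one_lt_card.ne')
    · exact hn ▸ dvd_pow_self q (Nat.succ_ne_zero n))
  set z : G := ((z₀ : S) : G)
  have hzq : orderOf z = q := by
    rw [← hz₀]
    exact orderOf_injective (S.subtype.comp (center S).subtype)
      (S.subtype_injective.comp (center S).subtype_injective) z₀
  have hzS : z ∈ S := (z₀ : S).2
  have hzc : ∀ s ∈ S, Commute s z := fun s hs =>
    congrArg Subtype.val (Subgroup.mem_center_iff.1 z₀.2 ⟨s, hs⟩)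
  by_cases hSy : S ≤ centralizer ({y} : Set G)
  · exact hSL (hSy.trans hCL)
  have hnot : y ∉ zpowers z := by
    intro hyz
    obtain ⟨i, rfl⟩ := mem_zpowers_iff.1 hyz
    exact hSy fun s hs => mem_centralizer_singleton_iff.2 ((hzc s hs).zpow_right i).eq
  have hyz : Commute y z := hzc y hyS
  set A := closure ({y, z} : Set G)
  have hAy : y ∈ A := subset_closure (by simp)
  have hAz : z ∈ A := subset_closure (by simp)
  have hyq' : y ^ q = 1 := hyq ▸ pow_orderOf_eq_one y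
  have hzq' : z ^ q = 1 := hzq ▸ pow_orderOf_eq_one z
  have hAform : ∀ a ∈ A, ∃ i j : ℕ, a = y ^ i * z ^ j := by
    intro a ha
    induction ha using Subgroup.closure_induction with
    | mem x hx =>
      rcases hx with rfl | rfl
      · exact ⟨1, 0, by simp⟩
      · exact ⟨0, 1, by simp⟩
    | one => exact ⟨0, 0, by simp⟩
    | mul a b _ _ iha ihb =>
      obtain ⟨i, j, rfl⟩ := iha
      obtain ⟨i', j', rfl⟩ := ihb
      exact ⟨i + i', j + j', by
        rw [pow_add, pow_add, mul_assoc, ← mul_assoc (z ^ j), (hyz.pow_pow i' j).symm.eq]; group⟩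
    | inv a _ iha =>
      obtain ⟨i, j, rfl⟩ := iha
      refine ⟨(q - 1) * i, (q - 1) * j, inv_eq_of_mul_eq_one_left ?_⟩
      rw [mul_assoc, ← mul_assoc (z ^ ((q - 1) * j)), (hyz.pow_pow i ((q - 1) * j)).symm.eq,
        mul_assoc, ← pow_add, ← mul_assoc, ← pow_add]
      have e : ∀ t, (q - 1) * t + t = q * t := fun t => by
        rw [← Nat.succ_mul, Nat.succ_eq_add_one, Nat.sub_add_cancel (Fact.out : q.Prime).one_lt.le]
      rw [e i, e j, pow_mul, pow_mul, hyq', hzq', one_pow, one_pow, one_mul]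
  have hAelem : Cfsg.IsElementaryAbelian q A := by
    refine ⟨⟨⟨fun a b => Subtype.ext ?_⟩⟩, fun a ha => ?_⟩
    · obtain ⟨i, j, ea⟩ := hAform a a.2
      obtain ⟨i', j', eb⟩ := hAform b b.2
      simp only [Subgroup.coe_mul]
      rw [ea, eb]
      exact (Commute.mul_left ((Commute.pow_pow_self y i i').mul_right (hyz.pow_pow i j'))
        ((hyz.symm.pow_pow j i').mul_right (Commute.pow_pow_self z j j'))).eq
    · obtain ⟨i, j, rfl⟩ := hAform a ha
      rw [(hyz.pow_pow i j).mul_pow, ← pow_mul, ← pow_mul, mul_comm i, mul_comm j, pow_mul,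
        pow_mul, hyq', hzq', one_pow, one_pow, one_mul]
  have hAS : A ≤ S := (closure_le _).2 (by rintro x (rfl | rfl) <;> assumption)
  have hAC : A ≤ S ⊓ centralizer ({y} : Set G) := fun a ha => ⟨hAS ha,
    mem_centralizer_singleton_iff.2 (PGroupsBasic.comm_of_isMulCommutative hAelem.1 ha hAy)⟩
  have hAcard : Nat.card A = q ^ 2 := by
    refine le_antisymm ?_ ?_
    · let f : Fin q × Fin q → A := fun x => ⟨y ^ (x.1 : ℕ) * z ^ (x.2 : ℕ),
        mul_mem (pow_mem hAy _) (pow_mem hAz _)⟩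
      have hf : Function.Surjective f := by
        rintro ⟨a, ha⟩
        obtain ⟨i, j, rfl⟩ := hAform a ha
        refine ⟨(⟨i % q, Nat.mod_lt _ (Fact.out : q.Prime).pos⟩,
          ⟨j % q, Nat.mod_lt _ (Fact.out : q.Prime).pos⟩), Subtype.ext ?_⟩
        show y ^ (i % q) * z ^ (j % q) = y ^ i * z ^ j
        rw [← pow_mod_orderOf y i, ← pow_mod_orderOf z j, hyq, hzq]
      calc Nat.card A ≤ Nat.card (Fin q × Fin q) := Nat.card_le_card_of_surjective f hf
        _ = q ^ 2 := by rw [Nat.card_prod, Nat.card_fin, pow_two]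
    · obtain ⟨n, hn⟩ := IsPGroup.iff_card.1 (hSp.to_le hAS)
      rw [hn]
      refine Nat.pow_le_pow_right (Fact.out : q.Prime).pos ?_
      by_contra hn2
      refine hnot ((eq_of_le_of_card_ge (zpowers_le.2 hAz) ?_).symm ▸ hAy)
      rw [hn, Nat.card_zpowers, hzq]
      calc q ^ n ≤ q ^ 1 := Nat.pow_le_pow_right (Fact.out : q.Prime).pos (by omega)
        _ = q := pow_one q
  have hAL : A ≤ L := hAC.trans (inf_le_right.trans hCL)
  have hτ : q ∈ Cfsg.tau2 L := by
    refine ⟨Fact.out, hqL, ?_, fun hr => ?_⟩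
    · by_contra hr
      exact hqL (BGSigma.alpha_subset_sigma hG hL ⟨Fact.out, hr⟩)
    · have h1 := hr (A.subgroupOf L) ⟨⟨fun u v => Subtype.ext (Subtype.ext
        (PGroupsBasic.comm_of_isMulCommutative hAelem.1 (x := ((u : L) : G)) u.2 v.2))⟩⟩
        (fun u hu => Subtype.ext (by rw [SubgroupClass.coe_pow]; exact hAelem.2 _ hu))
      rw [Nat.card_congr (subgroupOfEquivOfLe hAL).toEquiv, hAcard, pow_one] at h1
      exact absurd h1 (by nlinarith [(Fact.out : q.Prime).two_le])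
  set C := S ⊓ centralizer ({y} : Set G)
  obtain ⟨P, hP⟩ := ((hSp.to_le (inf_le_left : C ≤ S)).comap_of_injective L.subtype
    L.subtype_injective).exists_le_sylow
  have hCP : C ≤ (P : Subgroup L).map L.subtype := by
    rw [← map_subgroupOf_eq_of_le (show C ≤ L from inf_le_right.trans hCL)]
    exact map_mono hP
  have hΩ := ((S1417.result hG L hL q hτ A ⟨hAL, hAelem, hAcard⟩).2.1 P).2 (hAC.trans hCP)
  -- an element of S normalising C but not centralising y
  have hlt : C < S := lt_of_le_of_ne inf_le_left fun e => hSy (e ▸ inf_le_right)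
  obtain ⟨s, ⟨hsS, hsN⟩, hsC⟩ := SetLike.exists_of_lt (BGUnique.lt_inf_normalizer hSp hlt)
  have hconjA : ∀ a ∈ A, s * a * s⁻¹ ∈ A := by
    intro a ha
    refine (hΩ.1 _ (hCP ((mem_normalizer_iff.1 hsN a).1 (hAC ha)))).1 ?_
    rw [conj_pow, hAelem.2 a ha]
    group
  obtain ⟨k, hk⟩ := hSp ⟨s, hsS⟩
  obtain ⟨i, j, hij⟩ := hAform _ (hconjA y hAy)
  have hshift := exists_shift hyq hzq' hnot (s := s) (k := k)
    (by simpa using congrArg Subtype.val hk) (hzc s hsS) hyz hij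
  have hj : ¬ q ∣ j := by
    rintro ⟨t, rfl⟩
    rw [pow_mul, hzq', one_pow, mul_one] at hshift
    exact hsC ⟨hsS, mem_centralizer_singleton_iff.2 (mul_inv_eq_iff_eq_mul.1 hshift)⟩
  have hshift' : ∀ n : ℕ, s ^ n * y * (s ^ n)⁻¹ = y * z ^ (n * j) := by
    intro n
    induction n with
    | zero => simp
    | succ n ih =>
      calc s ^ (n + 1) * y * (s ^ (n + 1))⁻¹
          = s * (s ^ n * y * (s ^ n)⁻¹) * s⁻¹ := by rw [pow_succ']; group
        _ = (s * y * s⁻¹) * (s * z ^ (n * j) * s⁻¹) := by rw [ih]; group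
        _ = y * z ^ j * z ^ (n * j) := by
            rw [hshift, ((hzc s hsS).pow_right (n * j)).eq]
            group
        _ = _ := by rw [mul_assoc, ← pow_add, Nat.succ_mul, add_comm]
  -- S1416
  obtain ⟨A₀, hA₀A, hA₀c, hA₀L, hA₀u⟩ : ∃ A₀ : Subgroup G, A₀ ≤ A ∧ Nat.card A₀ = q ∧
      normalizer (A₀ : Set G) ≤ L ∧
      ∀ L' : Subgroup G, IsCoatom L' → normalizer (A₀ : Set G) ≤ L' → L' = L := by
    by_contra hne
    refine hqL ((S1416.result hG L hL q A ⟨hAL, hAelem, hAcard⟩).2 fun A₀ h1 h2 hU => ?_).1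
    exact hne ⟨A₀, h1, h2, hU.1, hU.2⟩
  obtain ⟨⟨a, haA₀⟩, ha⟩ := exists_prime_orderOf_dvd_card' (G := A₀) q (hA₀c ▸ dvd_rfl)
  rw [Subgroup.orderOf_mk] at ha
  have hA₀eq : A₀ = zpowers a :=
    (eq_of_le_of_card_ge (zpowers_le.2 haA₀) (by rw [Nat.card_zpowers, ha, hA₀c])).symm
  obtain ⟨u, v, huv⟩ := hAform a (hA₀A haA₀)
  by_cases hu : q ∣ u
  · -- a is a power of z
    refine hSL fun x hx => hA₀L ?_
    obtain ⟨t, rfl⟩ := hu
    rw [pow_mul, hyq', one_pow, one_mul] at huv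
    refine centralizer_le_normalizer _ ?_
    rw [hA₀eq, mem_centralizer_iff]
    rintro w hw
    obtain ⟨m, rfl⟩ := mem_zpowers_iff.1 hw
    rw [huv]
    exact (((hzc x hx).pow_right v).zpow_right m).eq.symm
  · -- a is a power of a conjugate of y
    obtain ⟨n, hn⟩ : ∃ n : ℕ, ((n * j * u : ℕ) : ZMod q) = (v : ZMod q) := by
      have hju : ((j : ZMod q) * u) ≠ 0 := mul_ne_zero
        (by rwa [ne_eq, ZMod.natCast_eq_zero_iff])
        (by rwa [ne_eq, ZMod.natCast_eq_zero_iff])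
      refine ⟨((v : ZMod q) * ((j : ZMod q) * u)⁻¹).val, ?_⟩
      push_cast
      rw [ZMod.natCast_zmod_val, mul_assoc, mul_assoc, inv_mul_cancel₀ hju, mul_one]
    have e : a = (s ^ n * y * (s ^ n)⁻¹) ^ u := by
      rw [hshift', (hyz.pow_right _).mul_pow, ← pow_mul, huv]
      congr 1
      rw [← pow_mod_orderOf z v, ← pow_mod_orderOf z (n * j * u), hzq]
      rw [(ZMod.natCast_eq_natCast_iff' _ _ q).1 hn]
    refine (hA₀u M h.coatom fun x hx => ?_).symm
    have hsM : s ^ n ∈ M := pow_mem (hSu.2.1 hsS) n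
    set w := s ^ n
    have ha' : a ∈ zpowers (w * y * w⁻¹) := e ▸ pow_mem (mem_zpowers _) u
    have hzp : zpowers a = zpowers (w * y * w⁻¹) := eq_of_le_of_card_ge (zpowers_le.2 ha')
      (by rw [Nat.card_zpowers, Nat.card_zpowers, orderOf_conj, hyq, ha])
    have h1 : x * (w * y * w⁻¹) * x⁻¹ ∈ zpowers (w * y * w⁻¹) := by
      have := (mem_normalizer_iff.1 hx (w * y * w⁻¹)).1
        (by rw [hA₀eq, hzp]; exact mem_zpowers _)
      rwa [hA₀eq, hzp] at this
    obtain ⟨m, hm⟩ := mem_zpowers_iff.1 h1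
    have hmem : (w⁻¹ * x * w) * y * (w⁻¹ * x * w)⁻¹ ∈ M := by
      have e2 : (w⁻¹ * x * w) * y * (w⁻¹ * x * w)⁻¹ = y ^ m := by
        calc (w⁻¹ * x * w) * y * (w⁻¹ * x * w)⁻¹
            = w⁻¹ * (x * (w * y * w⁻¹) * x⁻¹) * w := by group
          _ = w⁻¹ * (w * y * w⁻¹) ^ m * w := by rw [hm]
          _ = y ^ m := by rw [conj_zpow]; group
      rw [e2]
      exact zpow_mem (Ks_le M K hy) m
    have hg : (w⁻¹ * x * w)⁻¹ ∈ M := h.mem_of_conj_mem hy hy1 (mem_cj.2 (by rwa [inv_inv]))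
    have := M.mul_mem (M.mul_mem hsM (inv_mem_iff.1 hg)) (M.inv_mem hsM)
    simpa [mul_assoc] using this

end Cfsg.Agent.BGTypeP
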