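import Mathlib
import Cfsg.Prelude.Def_LieExceptional

/-!
Abstract (B, N)-pairs: Bruhat decomposition, exchange condition, parabolic subgroups.
`W P` is `N / (B ⊓ N)`, `σ P s` the image of a distinguished representative, `cell P w` the
double coset `B w B`, `len P w` the word length, `WJ P J` the standard parabolic subgroup of `W`.
-/

set_option autoImplicit false

namespace Cfsg.Agent.BNPairLib

open DoubleCoset

variable {G : Type*} [Group G] (P : Cfsg.BNPair G)

instance hNormal : ((P.B ⊓ P.N).subgroupOf P.N).Normal where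
  conj_mem := by
    rintro ⟨t, htN⟩ ht ⟨n, hn⟩
    rw [Subgroup.mem_subgroupOf] at ht ⊢
    exact ⟨P.conj_mem n hn t ht, P.N.mul_mem (P.N.mul_mem hn htN) (P.N.inv_mem hn)⟩

/-- The Weyl group. -/
abbrev W : Type _ := P.N ⧸ (P.B ⊓ P.N).subgroupOf P.N

/-- The quotient map. -/
def π : P.N →* W P := QuotientGroup.mk' _

lemma π_surj : Function.Surjective (π P) := QuotientGroup.mk'_surjective _

lemma π_eq_one (n : P.N) : π P n = 1 ↔ (n : G) ∈ P.B := by
  simp [π, Subgroup.mem_subgroupOf]

lemma π_eq (n m : P.N) : π P n = π P m ↔ (n : G)⁻¹ * m ∈ P.B := by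
  rw [← inv_mul_eq_one, ← map_inv, ← map_mul, π_eq_one]
  simp

/-- Image in `W` of a distinguished representative. -/
def σ (s : P.S) : W P := π P ⟨(s : G), P.subset s.2⟩

lemma σ_mul_self (s : P.S) : σ P s * σ P s = 1 := by
  rw [σ, ← map_mul, π_eq_one]
  exact P.sq_mem _ s.2

lemma σ_inv (s : P.S) : (σ P s)⁻¹ = σ P s := inv_eq_of_mul_eq_one_left (σ_mul_self P s)

lemma σ_mul_cancel (s : P.S) (w : W P) : σ P s * (σ P s * w) = w := by
  rw [← mul_assoc, σ_mul_self, one_mul]

lemma σ_injective : Function.Injective (σ P) := by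
  intro s t h
  rw [σ, σ, π_eq] at h
  exact Subtype.ext (P.inj _ s.2 _ t.2 h)

/-- The double coset `B w B`. -/
def cell (w : W P) : Set G :=
  {g | ∃ n : P.N, π P n = w ∧ g ∈ doubleCoset (n : G) (P.B : Set G) P.B}

lemma doubleCoset_congr {n m : G} (h : n⁻¹ * m ∈ P.B) :
    doubleCoset n (P.B : Set G) P.B = doubleCoset m (P.B : Set G) P.B := by
  refine (doubleCoset_eq_of_mem ?_).symm
  exact mem_doubleCoset.2 ⟨1, P.B.one_mem, n⁻¹ * m, h, by group⟩

lemma cell_π (n : P.N) : cell P (π P n) = doubleCoset (n : G) (P.B : Set G) P.B := by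
  ext g
  constructor
  · rintro ⟨m, hm, hg⟩
    rwa [← doubleCoset_congr P ((π_eq P m n).1 hm)]
  · intro hg
    exact ⟨n, rfl, hg⟩

lemma self_mem_cell (n : P.N) : (n : G) ∈ cell P (π P n) :=
  ⟨n, rfl, mem_doubleCoset_self P.B P.B _⟩

lemma cell_nonempty (w : W P) : ∃ g, g ∈ cell P w := by
  obtain ⟨n, rfl⟩ := π_surj P w
  exact ⟨_, self_mem_cell P n⟩

lemma rep_mem_cell (s : P.S) : (s : G) ∈ cell P (σ P s) := self_mem_cell P _

lemma cell_mul_left {w : W P} {g b : G} (hb : b ∈ P.B) (hg : g ∈ cell P w) :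
    b * g ∈ cell P w := by
  obtain ⟨n, hn, hg⟩ := hg
  obtain ⟨x, hx, y, hy, rfl⟩ := mem_doubleCoset.1 hg
  exact ⟨n, hn, mem_doubleCoset.2 ⟨b * x, P.B.mul_mem hb hx, y, hy, by group⟩⟩

lemma cell_mul_right {w : W P} {g b : G} (hb : b ∈ P.B) (hg : g ∈ cell P w) :
    g * b ∈ cell P w := by
  obtain ⟨n, hn, hg⟩ := hg
  obtain ⟨x, hx, y, hy, rfl⟩ := mem_doubleCoset.1 hg
  exact ⟨n, hn, mem_doubleCoset.2 ⟨x, hx, y * b, P.B.mul_mem hy hb, by group⟩⟩

lemma mem_cell_one {g : G} : g ∈ cell P 1 ↔ g ∈ P.B := by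
  rw [← map_one (π P), cell_π]
  constructor
  · intro hg
    obtain ⟨x, hx, y, hy, rfl⟩ := mem_doubleCoset.1 hg
    simpa using P.B.mul_mem hx hy
  · intro hg
    exact mem_doubleCoset.2 ⟨g, hg, 1, P.B.one_mem, by simp⟩

lemma exists_eq_mul {w : W P} {g : G} (n : P.N) (hn : π P n = w) (hg : g ∈ cell P w) :
    ∃ a ∈ P.B, ∃ b ∈ P.B, g = a * n * b := by
  subst hn
  rw [cell_π] at hg
  obtain ⟨x, hx, y, hy, e⟩ := mem_doubleCoset.1 hg
  exact ⟨x, hx, y, hy, e⟩

lemma inv_mem_cell {w : W P} {g : G} (hg : g ∈ cell P w) : g⁻¹ ∈ cell P w⁻¹ := by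
  obtain ⟨n, hn, hg⟩ := hg
  obtain ⟨x, hx, y, hy, rfl⟩ := mem_doubleCoset.1 hg
  refine ⟨n⁻¹, by rw [map_inv, hn], mem_doubleCoset.2
    ⟨y⁻¹, P.B.inv_mem hy, x⁻¹, P.B.inv_mem hx, ?_⟩⟩
  simp [mul_assoc]

lemma rep_mul_cell {w : W P} {g : G} (s : P.S) (hg : g ∈ cell P w) :
    (s : G) * g ∈ cell P (σ P s * w) ∨ (s : G) * g ∈ cell P w := by
  obtain ⟨n, rfl, hg⟩ := hg
  obtain ⟨x, hx, y, hy, rfl⟩ := mem_doubleCoset.1 hg
  have e : (s : G) * (x * n * y) = (s : G) * x * n * y := by group
  rw [e]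
  rcases P.mul_mem_union s s.2 n n.2 x hx with h | h
  · left
    refine cell_mul_right P hy ⟨⟨(s : G), P.subset s.2⟩ * n, by rw [map_mul]; rfl, ?_⟩
    exact h
  · right
    exact cell_mul_right P hy ⟨n, rfl, h⟩

lemma rep_inv_eq (s : P.S) : (s : G)⁻¹ = ((s : G) * s)⁻¹ * s := by group

lemma rep_inv_mul_cell {w : W P} {g : G} (s : P.S) (hg : g ∈ cell P w) :
    (s : G)⁻¹ * g ∈ cell P (σ P s * w) ∨ (s : G)⁻¹ * g ∈ cell P w := by
  rw [rep_inv_eq, mul_assoc]
  exact (rep_mul_cell P s hg).imp (cell_mul_left P (P.B.inv_mem (P.sq_mem _ s.2)))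
    (cell_mul_left P (P.B.inv_mem (P.sq_mem _ s.2)))

lemma cell_mul_rep {w : W P} {g : G} (s : P.S) (hg : g ∈ cell P w) :
    g * (s : G) ∈ cell P (w * σ P s) ∨ g * (s : G) ∈ cell P w := by
  rcases rep_inv_mul_cell P s (inv_mem_cell P hg) with h | h
  · left
    have := inv_mem_cell P h
    simpa [σ_inv] using this
  · right
    have := inv_mem_cell P h
    simpa using this

/-- Value of a word in the distinguished involutions. -/
def wd (l : List P.S) : W P := (l.map (σ P)).prod

@[simp] lemma wd_nil : wd P [] = 1 := rfl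
@[simp] lemma wd_cons (s : P.S) (l : List P.S) : wd P (s :: l) = σ P s * wd P l := by simp [wd]
@[simp] lemma wd_append (l m : List P.S) : wd P (l ++ m) = wd P l * wd P m := by simp [wd]

lemma wd_reverse (l : List P.S) : wd P l.reverse = (wd P l)⁻¹ := by
  induction l with
  | nil => simp
  | cons s l ih => simp [ih, σ_inv]

lemma exists_wd_of_mem_closure {J : Set P.S} {w : W P}
    (hw : w ∈ Subgroup.closure (σ P '' J)) : ∃ l : List P.S, (∀ s ∈ l, s ∈ J) ∧ wd P l = w := by
  induction hw using Subgroup.closure_induction with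
  | mem x hx =>
    obtain ⟨s, hs, rfl⟩ := hx
    exact ⟨[s], by simpa using hs, by simp⟩
  | one => exact ⟨[], by simp, by simp⟩
  | mul x y _ _ hx hy =>
    obtain ⟨l, hl, rfl⟩ := hx
    obtain ⟨m, hm, rfl⟩ := hy
    exact ⟨l ++ m, fun s hs => (List.mem_append.1 hs).elim (hl s) (hm s), by simp⟩
  | inv x _ hx =>
    obtain ⟨l, hl, rfl⟩ := hx
    exact ⟨l.reverse, fun s hs => hl s (List.mem_reverse.1 hs), wd_reverse P l⟩

lemma closure_σ_univ : Subgroup.closure (σ P '' Set.univ) = ⊤ := by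
  rw [eq_top_iff]
  intro w _
  obtain ⟨⟨n, hn⟩, rfl⟩ := π_surj P w
  let K : Subgroup G := ((Subgroup.closure (σ P '' Set.univ)).comap (π P)).map P.N.subtype
  have hK : P.N ≤ K := by
    refine P.closure_sup.ge.trans (sup_le ((Subgroup.closure_le _).2 ?_) ?_)
    · intro s hs
      exact Subgroup.mem_map.2 ⟨⟨s, P.subset hs⟩,
        Subgroup.subset_closure ⟨⟨s, hs⟩, trivial, rfl⟩, rfl⟩
    · intro t ht
      refine Subgroup.mem_map.2 ⟨⟨t, ht.2⟩, ?_, rfl⟩
      rw [Subgroup.mem_comap, (π_eq_one P _).2 ht.1]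
      exact Subgroup.one_mem _
  obtain ⟨m, hm, e⟩ := Subgroup.mem_map.1 (hK hn)
  have : m = ⟨n, hn⟩ := Subtype.ext e
  subst this
  exact hm

lemma exists_wd (w : W P) : ∃ l : List P.S, wd P l = w := by
  obtain ⟨l, -, hl⟩ := exists_wd_of_mem_closure P
    (J := Set.univ) (w := w) (by rw [closure_σ_univ]; trivial)
  exact ⟨l, hl⟩

/-- Word length. -/
noncomputable def len (w : W P) : ℕ :=
  sInf {k | ∃ l : List P.S, l.length = k ∧ wd P l = w}

lemma len_le (l : List P.S) : len P (wd P l) ≤ l.length := Nat.sInf_le ⟨l, rfl, rfl⟩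

lemma exists_reduced (w : W P) : ∃ l : List P.S, l.length = len P w ∧ wd P l = w := by
  obtain ⟨l, hl⟩ := exists_wd P w
  exact Nat.sInf_mem (s := {k | ∃ l : List P.S, l.length = k ∧ wd P l = w}) ⟨_, l, rfl, hl⟩

lemma len_eq_zero {w : W P} : len P w = 0 ↔ w = 1 := by
  constructor
  · intro h
    obtain ⟨l, hl, rfl⟩ := exists_reduced P w
    rw [h, List.length_eq_zero_iff] at hl
    simp [hl]
  · rintro rfl
    simpa using len_le P []

lemma len_one : len P 1 = 0 := (len_eq_zero P).2 rfl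

lemma len_σ_mul_le (s : P.S) (w : W P) : len P (σ P s * w) ≤ len P w + 1 := by
  obtain ⟨l, hl, rfl⟩ := exists_reduced P w
  simpa [hl] using len_le P (s :: l)

lemma le_len_σ_mul (s : P.S) (w : W P) : len P w ≤ len P (σ P s * w) + 1 := by
  simpa [σ_mul_cancel] using len_σ_mul_le P s (σ P s * w)

lemma len_mul_σ_le (s : P.S) (w : W P) : len P (w * σ P s) ≤ len P w + 1 := by
  obtain ⟨l, hl, rfl⟩ := exists_reduced P w
  simpa [hl] using len_le P (l ++ [s])

lemma len_mul_le (v w : W P) : len P (v * w) ≤ len P v + len P w := by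
  obtain ⟨l, hl, rfl⟩ := exists_reduced P v
  obtain ⟨m, hm, rfl⟩ := exists_reduced P w
  rw [← hl, ← hm, ← wd_append, ← List.length_append]
  exact len_le P _

lemma cell_disjoint_aux : ∀ (k : ℕ) (w v : W P) (g : G), len P w = k → k ≤ len P v →
    g ∈ cell P w → g ∈ cell P v → w = v := by
  intro k
  induction k using Nat.strong_induction_on with
  | _ k ih =>
    intro w v g hk hkv hw hv
    obtain ⟨l, hl, rfl⟩ := exists_reduced P w
    rcases l with _ | ⟨s, l⟩
    · rw [wd_nil, mem_cell_one] at hw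
      obtain ⟨m, rfl⟩ := π_surj P v
      obtain ⟨a, ha, b, hb, e⟩ := exists_eq_mul P m rfl hv
      rw [wd_nil, eq_comm, π_eq_one]
      have : (m : G) = a⁻¹ * g * b⁻¹ := by rw [e]; group
      rw [this]
      exact P.B.mul_mem (P.B.mul_mem (P.B.inv_mem ha) hw) (P.B.inv_mem hb)
    · obtain ⟨n, hn⟩ := π_surj P (wd P l)
      obtain ⟨a, ha, b, hb, e⟩ := exists_eq_mul P (⟨(s : G), P.subset s.2⟩ * n)
        (by rw [map_mul, hn, wd_cons]; rfl) hw
      have hsn : (s : G) * n ∈ cell P v := by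
        have h1 : (s : G) * n = a⁻¹ * g * b⁻¹ := by
          rw [e, Subgroup.coe_mul]
          group
        rw [h1]
        exact cell_mul_right P (P.B.inv_mem hb) (cell_mul_left P (P.B.inv_mem ha) hv)
      have hn' : (n : G) ∈ cell P (wd P l) := hn ▸ self_mem_cell P n
      have hlt : len P (wd P l) < k := by
        have := len_le P l
        simp only [List.length_cons] at hl
        omega
      rcases rep_inv_mul_cell P s hsn with h | h <;> rw [inv_mul_cancel_left] at h
      · have := ih _ hlt (wd P l) (σ P s * v) n rfl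
          (by have := le_len_σ_mul P s v; omega) hn' h
        rw [wd_cons, this, σ_mul_cancel]
      · have := ih _ hlt (wd P l) v n rfl (by omega) hn' h
        subst this
        omega

/-- Uniqueness in the Bruhat decomposition. -/
lemma cell_unique {w v : W P} {g : G} (hw : g ∈ cell P w) (hv : g ∈ cell P v) : w = v := by
  rcases le_total (len P w) (len P v) with h | h
  · exact cell_disjoint_aux P _ w v g rfl h hw hv
  · exact (cell_disjoint_aux P _ v w g rfl h hv hw).symm

lemma rep_not_mem (s : P.S) : (s : G) ∉ P.B := by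
  intro h
  apply P.conj_ne _ s.2
  ext x
  constructor
  · rintro ⟨b, hb, rfl⟩
    exact P.B.mul_mem (P.B.mul_mem h hb) h
  · intro hx
    exact ⟨(s : G)⁻¹ * x * (s : G)⁻¹,
      P.B.mul_mem (P.B.mul_mem (P.B.inv_mem h) hx) (P.B.inv_mem h), by group⟩

lemma σ_ne_one (s : P.S) : σ P s ≠ 1 := by
  rw [σ, Ne, π_eq_one]
  exact rep_not_mem P s

lemma len_σ (s : P.S) : len P (σ P s) = 1 := by
  have h1 := len_le P [s]
  simp only [wd_cons, wd_nil, mul_one, List.length_cons, List.length_nil] at h1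
  have h2 : len P (σ P s) ≠ 0 := fun h => σ_ne_one P s ((len_eq_zero P).1 h)
  omega

lemma exists_conj_not_mem (s : P.S) : ∃ b ∈ P.B, (s : G) * b * s ∉ P.B := by
  by_contra hc
  push Not at hc
  apply P.conj_ne _ s.2
  ext x
  constructor
  · rintro ⟨b, hb, rfl⟩
    exact hc b hb
  · intro hx
    have h2 := P.sq_mem _ s.2
    refine ⟨((s : G) * s)⁻¹ * ((s : G) * x * s) * ((s : G) * s)⁻¹, ?_, ?_⟩
    · exact P.B.mul_mem (P.B.mul_mem (P.B.inv_mem h2) (hc x hx)) (P.B.inv_mem h2)
    · group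

/-- If `len (s w) ≥ len w` then `s B w B ⊆ B s w B`. -/
lemma rep_mul_cell_of_le : ∀ (k : ℕ) (s : P.S) (w : W P) (g : G), len P w = k →
    k ≤ len P (σ P s * w) → g ∈ cell P w → (s : G) * g ∈ cell P (σ P s * w) := by
  intro k
  induction k using Nat.strong_induction_on with
  | _ k ih =>
    intro s w g hk hle hg
    obtain ⟨l, hl, rfl⟩ := exists_reduced P w
    induction l using List.reverseRecOn with
    | nil =>
      rw [wd_nil, mem_cell_one] at hg
      rw [wd_nil, mul_one]
      exact cell_mul_right P hg (rep_mem_cell P s)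
    | append_singleton l t _ =>
      obtain ⟨n, hn⟩ := π_surj P (wd P l)
      obtain ⟨a, ha, b, hb, rfl⟩ := exists_eq_mul P (n * ⟨(t : G), P.subset t.2⟩)
        (by simp [map_mul, hn, σ]) hg
      have hlt : len P (wd P l) < k := by
        have := len_le P l
        simp only [List.length_append, List.length_cons, List.length_nil] at hl
        omega
      have hsl : len P (wd P l) ≤ len P (σ P s * wd P l) := by
        have h1 := len_mul_σ_le P t (σ P s * wd P l)
        have h2 : σ P s * wd P (l ++ [t]) = σ P s * wd P l * σ P t := by simp [mul_assoc]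
        rw [h2] at hle
        omega
      have h1 : (s : G) * (a * n) ∈ cell P (σ P s * wd P l) :=
        ih _ hlt s (wd P l) (a * n) rfl hsl (cell_mul_left P ha (hn ▸ self_mem_cell P n))
      have e : (s : G) * (a * ((n * ⟨(t : G), P.subset t.2⟩ : P.N) : G) * b) =
          (s : G) * (a * n) * t * b := by
        simp [mul_assoc]
      rw [e]
      rcases cell_mul_rep P t h1 with h | h
      · simpa [mul_assoc] using cell_mul_right P hb h
      · rcases rep_mul_cell P s hg with h' | h'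
        · rwa [e] at h'
        · rw [e] at h'
          have he := cell_unique P h' (cell_mul_right P hb h)
          exfalso
          rw [he, σ_mul_cancel] at hle
          omega

lemma rep_mul_cell_of_le' {s : P.S} {w : W P} {g : G} (h : len P w ≤ len P (σ P s * w))
    (hg : g ∈ cell P w) : (s : G) * g ∈ cell P (σ P s * w) :=
  rep_mul_cell_of_le P _ s w g rfl h hg

/-- If `len (s w) ≤ len w` then `s B w B` meets `B w B`. -/
lemma exists_rep_mul_mem {s : P.S} {w : W P} (h : len P (σ P s * w) ≤ len P w) :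
    ∃ g, g ∈ cell P w ∧ (s : G) * g ∈ cell P w := by
  obtain ⟨b, hb, hbs⟩ := exists_conj_not_mem P s
  have h1 : (s : G) * b * s ∈ cell P (σ P s) := by
    rcases rep_mul_cell P s (cell_mul_left P hb (rep_mem_cell P s)) with h' | h'
    · rw [σ_mul_self, mem_cell_one, ← mul_assoc] at h'
      exact absurd h' hbs
    · rwa [← mul_assoc] at h'
  obtain ⟨a, ha, a', ha', e⟩ := exists_eq_mul P ⟨(s : G), P.subset s.2⟩ rfl h1
  obtain ⟨g, hg⟩ := cell_nonempty P (σ P s * w)
  have hh : len P (σ P s * w) ≤ len P (σ P s * (σ P s * w)) := by rwa [σ_mul_cancel]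
  refine ⟨b * ((s : G) * g), cell_mul_left P hb ?_, ?_⟩
  · simpa [σ_mul_cancel] using rep_mul_cell_of_le' P hh hg
  · have e2 : (s : G) * (b * ((s : G) * g)) = a * ((s : G) * (a' * g)) := by
      rw [← mul_assoc, ← mul_assoc, e]
      group
    rw [e2]
    refine cell_mul_left P ha ?_
    simpa [σ_mul_cancel] using rep_mul_cell_of_le' P hh (cell_mul_left P ha' hg)

lemma len_σ_mul_ne (s : P.S) (w : W P) : len P (σ P s * w) ≠ len P w := by
  intro h
  obtain ⟨g, hg, hsg⟩ := exists_rep_mul_mem P (s := s) (w := w) h.le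
  have := cell_unique P hsg (rep_mul_cell_of_le' P h.ge hg)
  exact σ_ne_one P s (by simpa using this.symm)

lemma len_σ_mul_cases (s : P.S) (w : W P) :
    len P (σ P s * w) = len P w + 1 ∨ len P (σ P s * w) + 1 = len P w := by
  have := len_σ_mul_ne P s w
  have := len_σ_mul_le P s w
  have := le_len_σ_mul P s w
  omega

/-- The exchange condition. -/
lemma exchange {s : P.S} {l : List P.S} (h : len P (σ P s * wd P l) < len P (wd P l)) :
    ∃ (a : List P.S) (t : P.S) (b : List P.S),
      l = a ++ t :: b ∧ σ P s * wd P l = wd P (a ++ b) := by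
  induction l using List.reverseRecOn with
  | nil => simp [len_one] at h
  | append_singleton l t ih =>
    rcases lt_or_ge (len P (σ P s * wd P l)) (len P (wd P l)) with h1 | h1
    · obtain ⟨a, u, b, hl, e⟩ := ih h1
      refine ⟨a, u, b ++ [t], by simp [hl], ?_⟩
      rw [wd_append, ← mul_assoc, e]
      simp [mul_assoc]
    · obtain ⟨g, hg, hsg⟩ := exists_rep_mul_mem P h.le
      obtain ⟨n, hn⟩ := π_surj P (wd P l)
      obtain ⟨a, ha, b, hb, rfl⟩ := exists_eq_mul P (n * ⟨(t : G), P.subset t.2⟩)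
        (by simp [map_mul, hn, σ]) hg
      have h2 : (s : G) * (a * n) ∈ cell P (σ P s * wd P l) :=
        rep_mul_cell_of_le' P h1 (cell_mul_left P ha (hn ▸ self_mem_cell P n))
      have e : (s : G) * (a * ((n * ⟨(t : G), P.subset t.2⟩ : P.N) : G) * b) =
          (s : G) * (a * n) * t * b := by
        simp [mul_assoc]
      rw [e] at hsg
      rcases cell_mul_rep P t h2 with h' | h'
      · have he := cell_unique P hsg (cell_mul_right P hb h')
        exfalso
        rw [wd_append, ← mul_assoc] at h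
        simp only [wd_cons, wd_nil, mul_one, wd_append] at h he
        rw [← he] at h
        exact lt_irrefl _ h
      · have he := cell_unique P hsg (cell_mul_right P hb h')
        refine ⟨l, t, [], rfl, ?_⟩
        rw [he, σ_mul_cancel, List.append_nil]

/-- A word is reduced. -/
def Red (l : List P.S) : Prop := len P (wd P l) = l.length

lemma Red.tail {s : P.S} {l : List P.S} (h : Red P (s :: l)) : Red P l := by
  have h1 := len_le P l
  have h2 := len_σ_mul_le P s (wd P l)
  simp only [Red, wd_cons, List.length_cons] at h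
  simp only [Red]
  omega

lemma Red.len_lt {s : P.S} {l : List P.S} (h : Red P (s :: l)) :
    len P (σ P s * wd P (s :: l)) < len P (wd P (s :: l)) := by
  have h1 := Red.tail P h
  simp only [Red] at h h1
  rw [h, wd_cons, σ_mul_cancel, h1]
  simp

/-- Exchange for a reduced word. -/
lemma exchange_red {s : P.S} {l : List P.S} (hl : Red P l)
    (h : len P (σ P s * wd P l) < len P (wd P l)) :
    ∃ (a : List P.S) (t : P.S) (b : List P.S),
      l = a ++ t :: b ∧ σ P s * wd P l = wd P (a ++ b) ∧ Red P (s :: (a ++ b)) ∧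
        wd P (s :: (a ++ b)) = wd P l := by
  obtain ⟨a, t, b, e1, e2⟩ := exchange P h
  have e3 : wd P (s :: (a ++ b)) = wd P l := by rw [wd_cons, ← e2, σ_mul_cancel]
  refine ⟨a, t, b, e1, e2, ?_, e3⟩
  rw [Red, e3, hl, e1]
  simp only [List.length_cons, List.length_append]
  omega

/-- Deletion: every word has a reduced word with letters among its own. -/
lemma exists_red_subset (l : List P.S) :
    ∃ m : List P.S, Red P m ∧ wd P m = wd P l ∧ ∀ x ∈ m, x ∈ l := by
  induction l with
  | nil => exact ⟨[], by simp [Red, len_one], rfl, by simp⟩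
  | cons s l ih =>
    obtain ⟨m, hm, e, hsub⟩ := ih
    rcases len_σ_mul_cases P s (wd P m) with h | h
    · refine ⟨s :: m, ?_, by simp [e], ?_⟩
      · rw [Red] at hm ⊢
        rw [wd_cons, h, hm]
        simp
      · intro x hx
        rcases List.mem_cons.1 hx with rfl | hx
        · simp
        · exact List.mem_cons_of_mem _ (hsub x hx)
    · obtain ⟨a, t, b, e1, e2⟩ := exchange P (s := s) (l := m) (by omega)
      refine ⟨a ++ b, ?_, by rw [← e2, wd_cons, e], ?_⟩
      · rw [Red] at hm ⊢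
        rw [← e2]
        rw [hm] at h
        have hlen : m.length = a.length + (b.length + 1) := by simp [e1]
        rw [List.length_append]
        omega
      · intro x hx
        refine List.mem_cons_of_mem _ (hsub x ?_)
        rw [e1]
        rcases List.mem_append.1 hx with hx | hx
        · exact List.mem_append_left _ hx
        · exact List.mem_append_right _ (List.mem_cons_of_mem _ hx)

/-- Standard parabolic subgroup of `W`. -/
def WJ (J : Set P.S) : Subgroup (W P) := Subgroup.closure (σ P '' J)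

lemma σ_mem_WJ {J : Set P.S} {s : P.S} (hs : s ∈ J) : σ P s ∈ WJ P J :=
  Subgroup.subset_closure ⟨s, hs, rfl⟩

lemma WJ_univ : WJ P Set.univ = ⊤ := closure_σ_univ P

lemma wd_mem_WJ {J : Set P.S} {l : List P.S} (hl : ∀ s ∈ l, s ∈ J) : wd P l ∈ WJ P J := by
  induction l with
  | nil => exact Subgroup.one_mem _
  | cons s l ih =>
    rw [wd_cons]
    exact Subgroup.mul_mem _ (σ_mem_WJ P (hl s (by simp)))
      (ih fun x hx => hl x (List.mem_cons_of_mem _ hx))

lemma exists_red_of_mem_WJ {J : Set P.S} {w : W P} (hw : w ∈ WJ P J) :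
    ∃ l : List P.S, Red P l ∧ wd P l = w ∧ ∀ s ∈ l, s ∈ J := by
  obtain ⟨l, hl, rfl⟩ := exists_wd_of_mem_closure P hw
  obtain ⟨m, hm, e, hsub⟩ := exists_red_subset P l
  exact ⟨m, hm, e, fun s hs => hl s (hsub s hs)⟩

lemma mem_of_σ_mem_WJ {J : Set P.S} {s : P.S} (h : σ P s ∈ WJ P J) : s ∈ J := by
  obtain ⟨l, hl, e, hJ⟩ := exists_red_of_mem_WJ P h
  rw [Red, e, len_σ] at hl
  obtain ⟨t, rfl⟩ := List.length_eq_one_iff.1 hl.symm
  rw [wd_cons, wd_nil, mul_one] at e
  rw [← σ_injective P e]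
  exact hJ t (by simp)

/-- All letters of a reduced word of an element of `W_J` lie in `J`. -/
lemma Red.mem_of_mem_WJ {J : Set P.S} {l : List P.S} (hl : Red P l) (h : wd P l ∈ WJ P J) :
    ∀ s ∈ l, s ∈ J := by
  induction l with
  | nil => simp
  | cons s l ih =>
    obtain ⟨m, hm, e, hJ⟩ := exists_red_of_mem_WJ P h
    have hlt : len P (σ P s * wd P m) < len P (wd P m) := e ▸ Red.len_lt P hl
    obtain ⟨a, t, b, e1, e2⟩ := exchange P hlt
    have hl' : wd P l ∈ WJ P J := by
      have : wd P l = wd P (a ++ b) := by rw [← e2, e, wd_cons, σ_mul_cancel]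
      rw [this]
      refine wd_mem_WJ P fun x hx => hJ x ?_
      rw [e1]
      rcases List.mem_append.1 hx with hx | hx
      · exact List.mem_append_left _ hx
      · exact List.mem_append_right _ (List.mem_cons_of_mem _ hx)
    have hs : σ P s ∈ WJ P J := by
      have := Subgroup.mul_mem _ h (Subgroup.inv_mem _ hl')
      simpa using this
    intro x hx
    rcases List.mem_cons.1 hx with rfl | hx
    · exact mem_of_σ_mem_WJ P hs
    · exact ih (Red.tail P hl) hl' x hx

lemma WJ_inf (J K : Set P.S) : WJ P J ⊓ WJ P K = WJ P (J ∩ K) := by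
  apply le_antisymm
  · intro w hw
    obtain ⟨l, hl, rfl, hJ⟩ := exists_red_of_mem_WJ P hw.1
    exact wd_mem_WJ P fun s hs => ⟨hJ s hs, Red.mem_of_mem_WJ P hl hw.2 s hs⟩
  · exact le_inf (Subgroup.closure_mono (Set.image_mono Set.inter_subset_left))
      (Subgroup.closure_mono (Set.image_mono Set.inter_subset_right))

/-! ### Parabolic subgroups of `G` -/

lemma B_le_parabolic (J : Set G) : P.B ≤ P.parabolic J := le_sup_left

lemma rep_mem_parabolic {J : Set G} {s : G} (hs : s ∈ J) : s ∈ P.parabolic J :=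
  (le_sup_right : _ ≤ P.parabolic J) (Subgroup.subset_closure hs)

lemma cell_subset_of_mem {M : Subgroup G} (hM : P.B ≤ M) {n : P.N} (hn : (n : G) ∈ M)
    {g : G} (hg : g ∈ cell P (π P n)) : g ∈ M := by
  obtain ⟨a, ha, b, hb, rfl⟩ := exists_eq_mul P n rfl hg
  exact M.mul_mem (M.mul_mem (hM ha) hn) (hM hb)

lemma mem_parabolic {J : Set G} (hJ : J ⊆ P.S) {g : G} :
    g ∈ P.parabolic J ↔ ∃ w ∈ WJ P {s : P.S | (s : G) ∈ J}, g ∈ cell P w := by
  constructor
  · intro hg
    have e : P.parabolic J = Subgroup.closure ((P.B : Set G) ∪ J) := by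
      rw [Cfsg.BNPair.parabolic, Subgroup.closure_union, Subgroup.closure_eq]
    rw [e] at hg
    induction hg using Subgroup.closure_induction_left with
    | one => exact ⟨1, Subgroup.one_mem _, (mem_cell_one P).2 P.B.one_mem⟩
    | mul_left x hx y hy ih =>
      obtain ⟨w, hw, hy'⟩ := ih
      rcases hx with hx | hx
      · exact ⟨w, hw, cell_mul_left P hx hy'⟩
      · rcases rep_mul_cell P ⟨x, hJ hx⟩ hy' with h | h
        · exact ⟨_, Subgroup.mul_mem _ (σ_mem_WJ P hx) hw, h⟩
        · exact ⟨w, hw, h⟩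
    | inv_mul_cancel x hx y hy ih =>
      obtain ⟨w, hw, hy'⟩ := ih
      rcases hx with hx | hx
      · exact ⟨w, hw, cell_mul_left P (P.B.inv_mem hx) hy'⟩
      · rcases rep_inv_mul_cell P ⟨x, hJ hx⟩ hy' with h | h
        · exact ⟨_, Subgroup.mul_mem _ (σ_mem_WJ P hx) hw, h⟩
        · exact ⟨w, hw, h⟩
  · rintro ⟨w, hw, hg⟩
    obtain ⟨l, hl, rfl⟩ := exists_wd_of_mem_closure P hw
    suffices ∀ l : List P.S, (∀ s ∈ l, (s : G) ∈ J) →
        ∃ n : P.N, π P n = wd P l ∧ (n : G) ∈ P.parabolic J by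
      obtain ⟨n, hn, hnJ⟩ := this l hl
      rw [← hn] at hg
      exact cell_subset_of_mem P (B_le_parabolic P J) hnJ hg
    intro l hl
    induction l with
    | nil => exact ⟨1, map_one _, Subgroup.one_mem _⟩
    | cons s l ih =>
      obtain ⟨n, hn, hnJ⟩ := ih fun x hx => hl x (List.mem_cons_of_mem _ hx)
      exact ⟨⟨(s : G), P.subset s.2⟩ * n, by rw [map_mul, hn, wd_cons]; rfl,
        Subgroup.mul_mem _ (rep_mem_parabolic P (hl s (by simp))) hnJ⟩

lemma parabolic_S : P.parabolic P.S = ⊤ := by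
  rw [eq_top_iff, ← P.sup_eq_top]
  refine sup_le (B_le_parabolic P _) (P.closure_sup.ge.trans ?_)
  exact sup_le le_sup_right (inf_le_left.trans le_sup_left)

/-- Bruhat decomposition. -/
lemma exists_cell (g : G) : ∃ w, g ∈ cell P w := by
  obtain ⟨w, -, hw⟩ := (mem_parabolic P (subset_refl P.S) (g := g)).1
    (by rw [parabolic_S]; trivial)
  exact ⟨w, hw⟩

lemma rep_mem_parabolic_iff {J : Set G} (hJ : J ⊆ P.S) (s : P.S) :
    (s : G) ∈ P.parabolic J ↔ (s : G) ∈ J := by
  refine ⟨fun h => ?_, rep_mem_parabolic P⟩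
  obtain ⟨w, hw, hs⟩ := (mem_parabolic P hJ).1 h
  rw [cell_unique P hs (rep_mem_cell P s)] at hw
  exact mem_of_σ_mem_WJ P hw

/-- If `M ≥ B` contains `n B n⁻¹` then it contains `n` and the letters of any reduced word of `n`. -/
lemma mem_of_conj_le {M : Subgroup G} (hM : P.B ≤ M) : ∀ (l : List P.S) (n : P.N), Red P l →
    π P n = wd P l → (∀ b ∈ P.B, (n : G) * b * (n : G)⁻¹ ∈ M) →
    (∀ s ∈ l, (s : G) ∈ M) ∧ (n : G) ∈ M := by
  intro l
  induction l with
  | nil =>
    intro n _ hn _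
    refine ⟨by simp, hM ?_⟩
    rwa [wd_nil, π_eq_one] at hn
  | cons s l ih =>
    intro n hl hn hconj
    obtain ⟨g, hg, hsg⟩ := exists_rep_mul_mem P (Red.len_lt P hl).le
    obtain ⟨a, ha, b, hb, rfl⟩ := exists_eq_mul P n hn hg
    obtain ⟨a', ha', b', hb', e⟩ := exists_eq_mul P n hn hsg
    have hs : (s : G) ∈ M := by
      have h1 : (s : G) = a' * ((n : G) * (b' * b⁻¹) * (n : G)⁻¹) * a⁻¹ := by
        have : (s : G) = (s : G) * (a * n * b) * (a * n * b)⁻¹ := by group
        rw [this, e]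
        group
      rw [h1]
      exact M.mul_mem (M.mul_mem (hM ha') (hconj _ (P.B.mul_mem hb' (P.B.inv_mem hb))))
        (hM (P.B.inv_mem ha))
    let n' : P.N := ⟨(s : G), P.subset s.2⟩⁻¹ * n
    have hn' : π P n' = wd P l := by
      simp only [n', map_mul, map_inv, hn, wd_cons]
      exact inv_mul_cancel_left (σ P s) _
    obtain ⟨h1, h2⟩ := ih n' (Red.tail P hl) hn' (fun c hc => by
      have : (n' : G) * c * (n' : G)⁻¹ = (s : G)⁻¹ * ((n : G) * c * (n : G)⁻¹) * s := by
        simp [n', mul_assoc]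
      rw [this]
      exact M.mul_mem (M.mul_mem (M.inv_mem hs) (hconj c hc)) hs)
    refine ⟨?_, ?_⟩
    · intro x hx
      rcases List.mem_cons.1 hx with rfl | hx
      · exact hs
      · exact h1 x hx
    · have : (n : G) = (s : G) * (n' : G) := by simp [n']
      rw [this]
      exact M.mul_mem hs h2

lemma mem_of_conj_le' {M : Subgroup G} (hM : P.B ≤ M) {n : G} (hn : n ∈ P.N)
    (h : ∀ b ∈ P.B, n * b * n⁻¹ ∈ M) : n ∈ M := by
  obtain ⟨l, hl, e⟩ := exists_reduced P (π P ⟨n, hn⟩)
  exact (mem_of_conj_le P hM l ⟨n, hn⟩ (by rw [Red, e, hl]) e.symm h).2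

/-- Every overgroup of `B` is standard parabolic. -/
lemma eq_parabolic {M : Subgroup G} (hM : P.B ≤ M) : M = P.parabolic {s | s ∈ P.S ∧ s ∈ M} := by
  apply le_antisymm
  · intro g hg
    rw [mem_parabolic P (fun s hs => hs.1)]
    obtain ⟨w, hw⟩ := exists_cell P g
    refine ⟨w, ?_, hw⟩
    obtain ⟨n, rfl⟩ := π_surj P w
    obtain ⟨a, ha, b, hb, rfl⟩ := exists_eq_mul P n rfl hw
    have hnM : (n : G) ∈ M := by
      have : (n : G) = a⁻¹ * (a * n * b) * b⁻¹ := by group
      rw [this]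
      exact M.mul_mem (M.mul_mem (M.inv_mem (hM ha)) hg) (M.inv_mem (hM hb))
    obtain ⟨l, hl, e⟩ := exists_reduced P (π P n)
    rw [← e]
    refine wd_mem_WJ P fun s hs => ⟨s.2, ?_⟩
    exact (mem_of_conj_le P hM l n (by rw [Red, e, hl]) e.symm
      (fun c hc => M.mul_mem (M.mul_mem hnM (hM hc)) (M.inv_mem hnM))).1 s hs
  · exact sup_le hM ((Subgroup.closure_le _).2 fun s hs => hs.2)

end Cfsg.Agent.BNPairLib
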