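import Mathlib
import Cfsg.Agent.Lib.BNPair

/-!
The Weyl group of a (B, N)-pair is a Coxeter system: proof of word problem from exchange.
-/

set_option autoImplicit false

namespace Cfsg.Agent.BNPairLib

/-- The alternating word `a b a ...` of given length. -/
def alt {α : Type*} : α → α → ℕ → List α
  | _, _, 0 => []
  | a, b, n + 1 => a :: alt b a n

lemma length_alt {α : Type*} (a b : α) (n : ℕ) : (alt a b n).length = n := by
  induction n generalizing a b with
  | zero => rfl
  | succ n ih => simp [alt, ih]

lemma alt_split {α : Type*} (a b : α) (i n : ℕ) :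
    ∃ X : List α, X.length = n ∧ alt a b (i + n) = alt a b i ++ X := by
  induction i generalizing a b with
  | zero => exact ⟨alt a b n, length_alt a b n, by simp [alt]⟩
  | succ i ih =>
    obtain ⟨X, hX, e⟩ := ih b a
    exact ⟨X, hX, by rw [Nat.succ_add]; simp [alt, e]⟩

lemma mul_pow_swap {H : Type*} [Group H] (x y : H) (n : ℕ) :
    x * (y * x) ^ n = (x * y) ^ n * x := by
  induction n with
  | zero => simp
  | succ n ih => rw [pow_succ, ← mul_assoc, ih, pow_succ]; group

lemma prod_alt {α H : Type*} [Group H] (f : α → H) (hf : ∀ a, f a * f a = 1) (a b : α) (n : ℕ) :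
    ((alt a b n).map f).prod = (f a * f b) ^ n * ((alt b a n).map f).prod := by
  induction n generalizing a b with
  | zero => simp [alt]
  | succ n ih =>
    simp only [alt, List.map_cons, List.prod_cons]
    rw [ih b a, ← mul_assoc, mul_pow_swap]
    rw [pow_succ]
    have : f a = f a * f b * f b := by rw [mul_assoc, hf, mul_one]
    conv_lhs => arg 1; arg 2; rw [this]
    simp only [mul_assoc]

variable {G : Type*} [Group G] (P : Cfsg.BNPair G)

/-- The Coxeter matrix of a (B, N)-pair. -/
noncomputable def coxMatrix : CoxeterMatrix P.S where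
  M := Matrix.of fun s t => orderOf (σ P s * σ P t)
  isSymm := by
    ext s t
    simp only [Matrix.transpose_apply, Matrix.of_apply]
    rw [← orderOf_inv (σ P s * σ P t), mul_inv_rev, σ_inv, σ_inv]
  diagonal s := by simp [σ_mul_self]
  off_diagonal s t hst h := by
    simp only [Matrix.of_apply] at h
    have e := orderOf_eq_one_iff.1 h
    exact hst (σ_injective P (by rw [mul_eq_one_iff_eq_inv.1 e, σ_inv]))

lemma coxMatrix_apply (s t : P.S) : coxMatrix P s t = orderOf (σ P s * σ P t) := rfl

/-- The abstract Coxeter system. -/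
noncomputable abbrev cs0 : CoxeterSystem (coxMatrix P) (coxMatrix P).Group :=
  (coxMatrix P).toCoxeterSystem

lemma isLiftable_σ : (coxMatrix P).IsLiftable (σ P) := fun s t => by
  rw [coxMatrix_apply]
  exact pow_orderOf_eq_one _

/-- The natural map from the abstract Coxeter group. -/
noncomputable def φ : (coxMatrix P).Group →* W P := (cs0 P).lift ⟨σ P, isLiftable_σ P⟩

lemma φ_simple (s : P.S) : φ P ((cs0 P).simple s) = σ P s :=
  (cs0 P).lift_apply_simple (isLiftable_σ P) s

lemma φ_wordProd (l : List P.S) : φ P ((cs0 P).wordProd l) = wd P l := by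
  induction l with
  | nil => simp [CoxeterSystem.wordProd]
  | cons s l ih => rw [CoxeterSystem.wordProd_cons, map_mul, φ_simple, ih, wd_cons]

lemma red_alt {s t : P.S} : ∀ l : List P.S, Red P l → (∀ x ∈ l, x = s ∨ x = t) →
    l.head? ≠ some t → l = alt s t l.length := by
  intro l
  induction l generalizing s t with
  | nil => intros; rfl
  | cons x l ih =>
    intro hl hmem hhead
    have hx : x = s := by
      rcases hmem x (by simp) with h | h
      · exact h
      · simp [h] at hhead
    subst hx
    have h := ih (s := t) (t := x) (Red.tail P hl)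
      (fun y hy => (hmem y (List.mem_cons_of_mem _ hy)).symm) ?_
    · conv_lhs => rw [h]
      rfl
    · intro hc
      rcases l with _ | ⟨y, l⟩
      · simp at hc
      · simp at hc
        subst hc
        have h1 := len_le P l
        have h2 : Red P (y :: y :: l) := hl
        simp only [Red, wd_cons, σ_mul_cancel, List.length_cons] at h2
        omega

lemma not_red_alt {s t : P.S} {j : ℕ} (hm : 0 < orderOf (σ P s * σ P t))
    (hj : orderOf (σ P s * σ P t) < j) : ¬ Red P (alt s t j) := by
  obtain ⟨i, rfl⟩ : ∃ i, j = orderOf (σ P s * σ P t) + i + 1 :=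
    ⟨j - orderOf (σ P s * σ P t) - 1, by omega⟩
  obtain ⟨m', hm'⟩ : ∃ m', orderOf (σ P s * σ P t) = m' + 1 :=
    ⟨orderOf (σ P s * σ P t) - 1, by omega⟩
  have e : wd P (alt t s (orderOf (σ P s * σ P t))) = wd P (alt s t (orderOf (σ P s * σ P t))) := by
    have := prod_alt (σ P) (σ_mul_self P) s t (orderOf (σ P s * σ P t))
    rw [pow_orderOf_eq_one, one_mul] at this
    exact this.symm
  rw [hm'] at e ⊢
  obtain ⟨X, hX, eX⟩ := alt_split t s (m' + 1) i
  intro hred
  have h1 : wd P (alt s t (m' + 1 + i + 1)) = wd P (alt t s m' ++ X) := by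
    rw [show alt s t (m' + 1 + i + 1) = s :: alt t s (m' + 1 + i) from rfl, eX, wd_cons, wd_append,
      e, show alt s t (m' + 1) = s :: alt t s m' from rfl, wd_cons, wd_append, ← mul_assoc,
      σ_mul_cancel]
  have h2 := len_le P (alt t s m' ++ X)
  rw [Red, h1, length_alt] at hred
  rw [hred, List.length_append, length_alt, hX] at h2
  omega

lemma red_append {J : Set P.S} {lu : List P.S} (hlu : Red P lu)
    (hmin : ∀ u, u * (wd P lu)⁻¹ ∈ WJ P J → lu.length ≤ len P u) :
    ∀ l : List P.S, Red P l → (∀ x ∈ l, x ∈ J) → Red P (l ++ lu) := by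
  intro l
  induction l with
  | nil => intros; simpa using hlu
  | cons s l ih =>
    intro hl hJ
    have hJl : ∀ x ∈ l, x ∈ J := fun x hx => hJ x (List.mem_cons_of_mem _ hx)
    have h0 := ih (Red.tail P hl) hJl
    rcases len_σ_mul_cases P s (wd P (l ++ lu)) with h | h
    · rw [Red] at h0 ⊢
      rw [List.cons_append, wd_cons, h, h0]
      simp
    · exfalso
      obtain ⟨a, x, b, e1, e2⟩ := exchange P (s := s) (l := l ++ lu) (by omega)
      rcases List.append_eq_append_iff.1 e1 with ⟨a', ha', hlu'⟩ | ⟨c', hl', hb'⟩
      · -- deletion inside `lu`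
        subst ha'
        have e3 : σ P s * wd P l * wd P lu = wd P l * wd P (a' ++ b) := by
          simpa [mul_assoc] using e2
        have h3 : wd P (a' ++ b) * (wd P lu)⁻¹ ∈ WJ P J := by
          have : wd P (a' ++ b) * (wd P lu)⁻¹ = (wd P l)⁻¹ * σ P s * wd P l := by
            rw [mul_inv_eq_iff_eq_mul]
            simp only [mul_assoc]
            rw [← mul_assoc (σ P s), e3, inv_mul_cancel_left]
          rw [this]
          exact Subgroup.mul_mem _ (Subgroup.mul_mem _ (Subgroup.inv_mem _ (wd_mem_WJ P hJl))
            (σ_mem_WJ P (hJ s (by simp)))) (wd_mem_WJ P hJl)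
        have h4 := hmin _ h3
        have h5 := len_le P (a' ++ b)
        rw [hlu'] at h4
        simp only [List.length_append, List.length_cons] at h4 h5
        omega
      · rcases c' with _ | ⟨y, c⟩
        · simp only [List.nil_append] at hb'
          simp only [List.append_nil] at hl'
          subst hl'
          have e3 : σ P s * wd P l * wd P lu = wd P l * wd P b := by
            simpa [mul_assoc] using e2
          have h3 : wd P b * (wd P lu)⁻¹ ∈ WJ P J := by
            have : wd P b * (wd P lu)⁻¹ = (wd P l)⁻¹ * σ P s * wd P l := by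
              rw [mul_inv_eq_iff_eq_mul]
              simp only [mul_assoc]
              rw [← mul_assoc (σ P s), e3, inv_mul_cancel_left]
            rw [this]
            exact Subgroup.mul_mem _ (Subgroup.mul_mem _ (Subgroup.inv_mem _ (wd_mem_WJ P hJl))
              (σ_mem_WJ P (hJ s (by simp)))) (wd_mem_WJ P hJl)
          have h4 := hmin _ h3
          have h5 := len_le P b
          rw [← hb'] at h4
          simp only [List.length_cons] at h4
          omega
        · simp only [List.cons_append, List.cons.injEq] at hb'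
          obtain ⟨rfl, rfl⟩ := hb'
          subst hl'
          have e3 : σ P s * wd P (a ++ x :: c) = wd P (a ++ c) := by
            have : σ P s * wd P (a ++ x :: c) * wd P lu = wd P (a ++ c) * wd P lu := by
              simpa [mul_assoc] using e2
            exact mul_right_cancel this
          have h5 := len_le P (a ++ c)
          rw [Red, wd_cons, e3] at hl
          rw [hl] at h5
          simp only [List.length_append, List.length_cons] at h5
          omega

lemma wordProd_eq_of_red : ∀ (k : ℕ) (l m : List P.S), Red P l → Red P m → l.length = k →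
    wd P l = wd P m → (cs0 P).wordProd l = (cs0 P).wordProd m := by
  intro k
  induction k with
  | zero =>
    intro l m hl hm hk e
    rw [List.length_eq_zero_iff] at hk
    subst hk
    have : m.length = 0 := by rw [← hm, ← e, wd_nil, len_one]
    rw [List.length_eq_zero_iff.1 this]
  | succ k ih =>
    intro l m hl hm hk e
    have same : ∀ (s : P.S) (l' m' : List P.S), Red P (s :: l') → Red P (s :: m') →
        (s :: l').length = k + 1 → wd P (s :: l') = wd P (s :: m') →
        (cs0 P).wordProd (s :: l') = (cs0 P).wordProd (s :: m') := by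
      intro s l' m' h1 h2 h3 h4
      rw [CoxeterSystem.wordProd_cons, CoxeterSystem.wordProd_cons,
        ih l' m' (Red.tail P h1) (Red.tail P h2) (by simpa using h3) (by simpa using h4)]
    rcases l with _ | ⟨s, l1⟩
    · simp at hk
    have hmlen : m.length = k + 1 := by rw [← hm, ← e, hl, hk]
    rcases m with _ | ⟨t, m1⟩
    · simp at hmlen
    rcases eq_or_ne s t with rfl | hst
    · exact same s l1 m1 hl hm hk e
    classical
    set J : Set P.S := {s, t} with hJ
    set w := wd P (s :: l1) with hw
    obtain ⟨u, hu, humin⟩ := (InvImage.wf (len P) wellFounded_lt).has_min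
      {u | w * u⁻¹ ∈ WJ P J} ⟨w, by simp⟩
    obtain ⟨lu, hlu, rfl⟩ : ∃ lu, Red P lu ∧ wd P lu = u := by
      obtain ⟨lu, h1, h2⟩ := exists_reduced P u
      exact ⟨lu, by rw [Red, h2, h1], h2⟩
    have hmin : ∀ u', u' * (wd P lu)⁻¹ ∈ WJ P J → lu.length ≤ len P u' := by
      intro u' hu'
      rw [← hlu]
      refine not_lt.1 (humin u' ?_)
      show w * u'⁻¹ ∈ WJ P J
      have := Subgroup.mul_mem _ (hu : w * (wd P lu)⁻¹ ∈ WJ P J) (Subgroup.inv_mem _ hu')
      simpa [mul_assoc] using this
    have hadd := red_append P hlu hmin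
    set v := w * (wd P lu)⁻¹ with hv
    have hvu : v * wd P lu = w := by simp [hv]
    obtain ⟨lv, hlv, elv, hlvJ⟩ := exists_red_of_mem_WJ P (hu : v ∈ WJ P J)
    replace elv : wd P lv = v := elv
    have hlen : len P w = lv.length + lu.length := by
      have := hadd lv hlv hlvJ
      rw [Red, wd_append, elv, hvu] at this
      simpa using this
    have descent : ∀ x ∈ J, len P (σ P x * w) < len P w →
        ∃ l', Red P (x :: l') ∧ wd P (x :: l') = v ∧ ∀ y ∈ x :: l', y ∈ J := by
      intro x hx hlt
      rcases len_σ_mul_cases P x v with h | h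
      · exfalso
        obtain ⟨lx, hlx, elx, hlxJ⟩ := exists_red_of_mem_WJ P
          (Subgroup.mul_mem _ (σ_mem_WJ P hx) (hu : v ∈ WJ P J))
        have h2 := hadd lx hlx hlxJ
        rw [Red, wd_append, elx, mul_assoc, hvu] at h2
        have h3 : lx.length = lv.length + 1 := by rw [← hlx, elx, h, ← elv, hlv]
        simp only [List.length_append] at h2
        omega
      · rw [← elv] at h
        obtain ⟨a, y, b, e1, -, h2, h3⟩ := exchange_red P hlv (s := x) (by omega)
        refine ⟨a ++ b, h2, h3.trans elv, ?_⟩
        intro z hz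
        rcases List.mem_cons.1 hz with rfl | hz
        · exact hx
        · refine hlvJ z ?_
          rw [e1]
          rcases List.mem_append.1 hz with hz | hz
          · exact List.mem_append_left _ hz
          · exact List.mem_append_right _ (List.mem_cons_of_mem _ hz)
    obtain ⟨ls, hls, els, hlsJ⟩ := descent s (by simp [hJ]) (Red.len_lt P hl)
    obtain ⟨lt, hlt, elt, hltJ⟩ := descent t (by simp [hJ]) (by
      have := Red.len_lt P hm
      rwa [← e] at this)
    have hjlen : (s :: ls).length = (t :: lt).length := by
      rw [← hls, ← hlt, els, elt]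
    have as : s :: ls = alt s t (s :: ls).length :=
      red_alt P _ hls (fun y hy => hlsJ y hy) (by simpa using hst)
    have at' : t :: lt = alt t s (s :: ls).length := by
      rw [hjlen]
      exact red_alt P _ hlt (fun y hy => (hltJ y hy).symm) (by simpa using Ne.symm hst)
    set j := (s :: ls).length with hj
    have hjpos : 0 < j := by simp [hj]
    have hpow : (σ P s * σ P t) ^ j = 1 := by
      have h1 := prod_alt (σ P) (σ_mul_self P) s t j
      rw [← as, ← at'] at h1
      have h2 : wd P (s :: ls) = (σ P s * σ P t) ^ j * wd P (t :: lt) := h1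
      rw [els, elt] at h2
      exact right_eq_mul.1 h2
    have hord : orderOf (σ P s * σ P t) = j := by
      have h1 := orderOf_dvd_of_pow_eq_one hpow
      rcases lt_or_ge (orderOf (σ P s * σ P t)) j with h2 | h2
      · exfalso
        exact not_red_alt P (Nat.pos_of_dvd_of_pos h1 hjpos) h2 (as ▸ hls)
      · exact le_antisymm (Nat.le_of_dvd hjpos h1) h2
    have hbraid : (cs0 P).wordProd (s :: ls) = (cs0 P).wordProd (t :: lt) := by
      have h1 := prod_alt (cs0 P).simple (cs0 P).simple_mul_simple_self s t j
      rw [← as, ← at'] at h1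
      have h2 := (cs0 P).simple_mul_simple_pow s t
      rw [coxMatrix_apply, hord] at h2
      rw [h2, one_mul] at h1
      exact h1
    have hs2 : Red P (s :: (ls ++ lu)) := hadd (s :: ls) hls hlsJ
    have ht2 : Red P (t :: (lt ++ lu)) := hadd (t :: lt) hlt hltJ
    have es2 : wd P (s :: (ls ++ lu)) = w := by
      rw [← List.cons_append, wd_append, els, hvu]
    have et2 : wd P (t :: (lt ++ lu)) = w := by
      rw [← List.cons_append, wd_append, elt, hvu]
    calc (cs0 P).wordProd (s :: l1) = (cs0 P).wordProd (s :: (ls ++ lu)) :=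
          same s l1 (ls ++ lu) hl hs2 hk es2.symm
      _ = (cs0 P).wordProd (t :: (lt ++ lu)) := by
          rw [← List.cons_append, ← List.cons_append, CoxeterSystem.wordProd_append,
            CoxeterSystem.wordProd_append, hbraid]
      _ = (cs0 P).wordProd (t :: m1) :=
          (same t m1 (lt ++ lu) hm ht2 hmlen (by rw [et2, ← e])).symm

lemma exists_red_wordProd (l : List P.S) :
    ∃ m, Red P m ∧ (cs0 P).wordProd l = (cs0 P).wordProd m := by
  induction l with
  | nil => exact ⟨[], by simp [Red, len_one], rfl⟩
  | cons s l ih =>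
    obtain ⟨m, hm, e⟩ := ih
    rcases len_σ_mul_cases P s (wd P m) with h | h
    · refine ⟨s :: m, ?_, by rw [CoxeterSystem.wordProd_cons, CoxeterSystem.wordProd_cons, e]⟩
      rw [Red] at hm ⊢
      rw [wd_cons, h, hm]
      simp
    · obtain ⟨a, t, b, -, -, h2, h3⟩ := exchange_red P hm (s := s) (by omega)
      refine ⟨a ++ b, Red.tail P h2, ?_⟩
      rw [CoxeterSystem.wordProd_cons, e, wordProd_eq_of_red P _ m _ hm h2 rfl h3.symm,
        CoxeterSystem.wordProd_cons, CoxeterSystem.simple_mul_simple_cancel_left]

lemma φ_bijective : Function.Bijective (φ P) := by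
  constructor
  · rw [injective_iff_map_eq_one]
    intro x hx
    obtain ⟨l, rfl⟩ := (cs0 P).wordProd_surjective x
    obtain ⟨m, hm, e⟩ := exists_red_wordProd P l
    rw [e, φ_wordProd] at hx
    rw [e, List.length_eq_zero_iff.1 (by rw [← hm, hx, len_one] : m.length = 0)]
    simp [CoxeterSystem.wordProd]
  · intro w
    obtain ⟨l, rfl⟩ := exists_wd P w
    exact ⟨_, φ_wordProd P l⟩

/-- The Weyl group as a Coxeter system. -/
noncomputable def coxeterSystem : CoxeterSystem (coxMatrix P) (W P) :=
  ⟨(MulEquiv.ofBijective (φ P) (φ_bijective P)).symm⟩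

lemma coxeterSystem_simple (s : P.S) : (coxeterSystem P).simple s = σ P s :=
  φ_simple P s

end Cfsg.Agent.BNPairLib
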