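import Mathlib

/-!
The configuration of the Brauer-Suzuki-Wall theorem: group theoretic basics.
An involution `t` whose centraliser is `K ∪ s K` with `K` abelian, inverted by the involution `s`,
`K` a trivial intersection set, one class of involutions.
-/

set_option autoImplicit false

namespace Cfsg.Agent.BSW84

variable {G : Type*} [Group G]

/-- The configuration. -/
structure Hyp (t : G) (K : Subgroup G) (s : G) : Prop where
  ot : orderOf t = 2
  os : orderOf s = 2
  comm : ∀ a ∈ K, ∀ b ∈ K, a * b = b * a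
  tK : t ∈ K
  st : Commute s t
  sK : s ∉ K
  inv : ∀ a ∈ K, s * a * s⁻¹ = a⁻¹
  cent : ∀ c : G, Commute c t → c ∈ K ∨ s * c ∈ K
  uniq : ∀ a ∈ K, a * a = 1 → a = 1 ∨ a = t
  ti : ∀ g : G, ∀ x ∈ K, g * x * g⁻¹ ∈ K → x ≠ 1 → Commute g t
  conjI : ∀ x y : G, orderOf x = 2 → orderOf y = 2 → IsConj x y

/-- Conjugate to an element of `K`. -/
def InK (K : Subgroup G) (g : G) : Prop := ∃ h : G, h * g * h⁻¹ ∈ K

/-- The remaining elements. -/
def Rest (K : Subgroup G) (g : G) : Prop := g ≠ 1 ∧ ¬ InK K g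

/-- The number of involutions `a` with `a * g` an involution. -/
noncomputable def pairs (g : G) : ℕ := Nat.card {a : G // orderOf a = 2 ∧ orderOf (a * g) = 2}

theorem ne_one_of_two {a : G} (h : orderOf a = 2) : a ≠ 1 := by
  rintro rfl
  rw [orderOf_one] at h
  omega

theorem mul_self_of_two {a : G} (h : orderOf a = 2) : a * a = 1 := by
  have := pow_orderOf_eq_one a
  rwa [h, pow_two] at this

theorem inv_of_two {a : G} (h : orderOf a = 2) : a⁻¹ = a :=
  inv_eq_of_mul_eq_one_right (mul_self_of_two h)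

theorem two_of {a : G} (h : a * a = 1) (h1 : a ≠ 1) : orderOf a = 2 :=
  orderOf_eq_prime (by rw [pow_two, h]) h1

theorem orderOf_conj_eq (h a : G) : orderOf (h * a * h⁻¹) = orderOf a := by
  have := orderOf_injective (MulAut.conj h).toMonoidHom (MulAut.conj h).injective a
  simpa using this

theorem pairs_conj (h g : G) : pairs (h * g * h⁻¹) = pairs g := by
  refine Nat.card_congr
    { toFun := fun a => ⟨h⁻¹ * a.1 * h, ?_, ?_⟩
      invFun := fun a => ⟨h * a.1 * h⁻¹, ?_, ?_⟩
      left_inv := fun a => Subtype.ext (by group)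
      right_inv := fun a => Subtype.ext (by group) }
  · simpa using (orderOf_conj_eq h⁻¹ a.1).trans a.2.1
  · have e : h⁻¹ * a.1 * h * g = h⁻¹ * (a.1 * (h * g * h⁻¹)) * (h⁻¹)⁻¹ := by group
    rw [e, orderOf_conj_eq]
    exact a.2.2
  · exact (orderOf_conj_eq h a.1).trans a.2.1
  · have e : h * a.1 * h⁻¹ * (h * g * h⁻¹) = h * (a.1 * g) * h⁻¹ := by group
    rw [e, orderOf_conj_eq]
    exact a.2.2

namespace Hyp

variable {t s : G} {K : Subgroup G} (H : Hyp t K s)
include H

theorem sConj {a : G} (ha : a ∈ K) : s * a * s = a⁻¹ := by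
  have := H.inv a ha
  rwa [inv_of_two H.os] at this

theorem sa_sq {a : G} (ha : a ∈ K) : (s * a) * (s * a) = 1 := by
  rw [← mul_assoc, H.sConj ha, inv_mul_cancel]

theorem sa_two {a : G} (ha : a ∈ K) : orderOf (s * a) = 2 := by
  refine two_of (H.sa_sq ha) fun h => H.sK ?_
  rw [eq_inv_of_mul_eq_one_left h]
  exact K.inv_mem ha

theorem comm_t {a : G} (ha : a ∈ K) : Commute a t := H.comm a ha t H.tK

theorem sa_comm_t {a : G} (ha : a ∈ K) : Commute (s * a) t := H.st.mul_left (H.comm_t ha)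

/-- An element centralising `t`. -/
theorem cases {c : G} (h : Commute c t) : c ∈ K ∨ ∃ a ∈ K, c = s * a := by
  rcases H.cent c h with h1 | h1
  · exact Or.inl h1
  · exact Or.inr ⟨s * c, h1, by rw [← mul_assoc, mul_self_of_two H.os, one_mul]⟩

theorem act {c x : G} (h : Commute c t) (hx : x ∈ K) :
    c * x * c⁻¹ = x ∨ c * x * c⁻¹ = x⁻¹ := by
  rcases H.cases h with hc | ⟨a, ha, rfl⟩
  · left; rw [H.comm c hc x hx, mul_inv_cancel_right]
  · right
    calc s * a * x * (s * a)⁻¹ = s * (a * x * a⁻¹) * s⁻¹ := by group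
    _ = s * x * s⁻¹ := by rw [H.comm a ha x hx, mul_inv_cancel_right]
    _ = x⁻¹ := H.inv x hx

theorem conj_K {g x : G} (hx : x ∈ K) (h : g * x * g⁻¹ ∈ K) (h1 : x ≠ 1) :
    g * x * g⁻¹ = x ∨ g * x * g⁻¹ = x⁻¹ := H.act (H.ti g x hx h h1) hx

theorem mem_of_comm {g x : G} (hx : x ∈ K) (h1 : x ≠ 1) (h2 : x ≠ t) (h : Commute g x) : g ∈ K := by
  have he : g * x * g⁻¹ = x := by rw [h.eq, mul_inv_cancel_right]
  rcases H.cases (H.ti g x hx (by rw [he]; exact hx) h1) with hg | ⟨a, ha, rfl⟩
  · exact hg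
  · exfalso
    have hxx : x * x = 1 := by
      have e : s * a * x * (s * a)⁻¹ = x⁻¹ := by
        calc s * a * x * (s * a)⁻¹ = s * (a * x * a⁻¹) * s⁻¹ := by group
        _ = s * x * s⁻¹ := by rw [H.comm a ha x hx, mul_inv_cancel_right]
        _ = x⁻¹ := H.inv x hx
      rw [he] at e
      exact mul_eq_one_iff_eq_inv.2 e
    rcases H.uniq x hx hxx with h' | h'
    · exact h1 h'
    · exact h2 h'

omit H in
theorem inK_of_mem {g : G} (h : g ∈ K) : InK K g := ⟨1, by simpa using h⟩

theorem inK_of_two {a : G} (ha : orderOf a = 2) : InK K a := by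
  obtain ⟨h, hh⟩ := isConj_iff.1 (H.conjI a t ha H.ot)
  exact ⟨h, by rw [hh]; exact H.tK⟩

omit H in
theorem inK_conj {g h : G} : InK K (h * g * h⁻¹) ↔ InK K g := by
  constructor
  · rintro ⟨x, hx⟩
    exact ⟨x * h, by simpa [mul_assoc] using hx⟩
  · rintro ⟨x, hx⟩
    exact ⟨x * h⁻¹, by simpa [mul_assoc] using hx⟩

omit H in
theorem rest_conj {g h : G} (hg : Rest K g) : Rest K (h * g * h⁻¹) :=
  ⟨by simpa using hg.1, fun hc => hg.2 (inK_conj.1 hc)⟩

theorem rest_of_comm {g y : G} (hg : Rest K g) (h : Commute g y) (hy : y ≠ 1) : Rest K y := by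
  refine ⟨hy, fun ⟨x, hx⟩ => ?_⟩
  have hg' : Rest K (x * g * x⁻¹) := rest_conj hg
  have hc : Commute (x * g * x⁻¹) (x * y * x⁻¹) := by
    show x * g * x⁻¹ * (x * y * x⁻¹) = x * y * x⁻¹ * (x * g * x⁻¹)
    simp [mul_assoc, reassoc_helper h]
  by_cases ht : x * y * x⁻¹ = t
  · rw [ht] at hc
    rcases H.cases hc with hg1 | ⟨a, ha, hga⟩
    · exact hg'.2 (inK_of_mem hg1)
    · exact hg'.2 (H.inK_of_two (hga ▸ H.sa_two ha))
  · exact hg'.2 (inK_of_mem (H.mem_of_comm hx (by simpa using hy) ht hc))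
where
  reassoc_helper {g y : G} (h : Commute g y) {z : G} : g * (y * z) = y * (g * z) := by
    rw [← mul_assoc, h.eq, mul_assoc]

theorem not_two_comm {g a : G} (hg : Rest K g) (ha : orderOf a = 2) : ¬ Commute g a := fun h =>
  (H.rest_of_comm hg h (ne_one_of_two ha)).2 (H.inK_of_two ha)

omit H in
theorem inverts_iff {g a : G} (_ha : orderOf a = 2) (hne : a * g ≠ 1) :
    orderOf (a * g) = 2 ↔ a * g * a = g⁻¹ := by
  constructor
  · intro h
    exact eq_inv_of_mul_eq_one_left (by rw [mul_assoc (a * g)]; exact mul_self_of_two h)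
  · intro h
    refine two_of ?_ hne
    rw [← mul_assoc, h, inv_mul_cancel]

theorem rest_not_two {g a : G} (hg : Rest K g) (ha : orderOf a = 2) : a * g ≠ 1 := by
  intro h
  refine hg.2 (H.inK_of_two ?_)
  rw [← inv_eq_of_mul_eq_one_right h, orderOf_inv]
  exact ha

/-- An involution inverting an element outside inverts its whole centraliser. -/
theorem inv_centralizer [Finite G] {g a : G} (hg : Rest K g) (ha : orderOf a = 2)
    (hag : a * g * a = g⁻¹) {c : G} (hc : Commute g c) : a * c * a = c⁻¹ := by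
  have hkey : ∀ y : G, Commute g y → Commute g (a * y * a) := by
    intro y hy
    have h1 : Commute (a * g * a) (a * y * a) := by
      show a * g * a * (a * y * a) = a * y * a * (a * g * a)
      have : a * a = 1 := mul_self_of_two ha
      calc a * g * a * (a * y * a) = a * g * (a * a) * y * a := by group
      _ = a * (g * y) * a := by rw [this, mul_one]; group
      _ = a * (y * g) * a := by rw [hy.eq]
      _ = a * y * (a * a) * g * a := by rw [this, mul_one]; group
      _ = a * y * a * (a * g * a) := by group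
    rw [hag] at h1
    exact inv_inv g ▸ h1.inv_left
  let f : Subgroup.centralizer ({g} : Set G) → Subgroup.centralizer ({g} : Set G) := fun y =>
    ⟨y.1⁻¹ * (a * y.1 * a), by
      have hy : Commute g y.1 := (Subgroup.mem_centralizer_singleton_iff.1 y.2).symm
      exact Subgroup.mem_centralizer_singleton_iff.2 ((hy.inv_right.mul_right (hkey _ hy)).symm)⟩
  have hinj : Function.Injective f := by
    intro y z hyz
    have h1 : y.1⁻¹ * (a * y.1 * a) = z.1⁻¹ * (a * z.1 * a) := congrArg Subtype.val hyz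
    have hy : Commute g y.1 := (Subgroup.mem_centralizer_singleton_iff.1 y.2).symm
    have hz : Commute g z.1 := (Subgroup.mem_centralizer_singleton_iff.1 z.2).symm
    by_contra hne
    have hw : z.1 * y.1⁻¹ ≠ 1 := fun e => hne (Subtype.ext (mul_inv_eq_one.1 e).symm)
    have hr := H.rest_of_comm hg (hz.mul_right hy.inv_right) hw
    refine H.not_two_comm hr ha ?_
    have h2 : z.1 * y.1⁻¹ = a * (z.1 * y.1⁻¹) * a := by
      have h3 : a * y.1⁻¹ * a = (a * y.1 * a)⁻¹ := by
        rw [mul_inv_rev, mul_inv_rev, inv_of_two ha]; group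
      calc z.1 * y.1⁻¹ = z.1 * (y.1⁻¹ * (a * y.1 * a)) * (a * y.1 * a)⁻¹ := by group
      _ = z.1 * (z.1⁻¹ * (a * z.1 * a)) * (a * y.1 * a)⁻¹ := by rw [h1]
      _ = a * z.1 * a * (a * y.1⁻¹ * a) := by rw [h3]; group
      _ = a * z.1 * (a * a) * y.1⁻¹ * a := by group
      _ = a * (z.1 * y.1⁻¹) * a := by rw [mul_self_of_two ha, mul_one]; group
    show z.1 * y.1⁻¹ * a = a * (z.1 * y.1⁻¹)
    conv_lhs => rw [h2]
    rw [mul_assoc (a * (z.1 * y.1⁻¹)), mul_self_of_two ha, mul_one]
  obtain ⟨⟨z, hz⟩, hzc⟩ := (Finite.injective_iff_surjective.1 hinj)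
    ⟨c, Subgroup.mem_centralizer_singleton_iff.2 hc.symm⟩
  have h1 : z⁻¹ * (a * z * a) = c := congrArg Subtype.val hzc
  rw [← h1, mul_inv_rev, inv_inv, mul_inv_rev, mul_inv_rev, inv_of_two ha]
  calc a * (z⁻¹ * (a * z * a)) * a = a * z⁻¹ * a * z * (a * a) := by group
  _ = a * (z⁻¹ * a) * z := by rw [mul_self_of_two ha, mul_one]; group

theorem comm_centralizer [Finite G] {g a : G} (hg : Rest K g) (ha : orderOf a = 2)
    (hag : a * g * a = g⁻¹) {c d : G} (hc : Commute g c) (hd : Commute g d) : c * d = d * c := by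
  have h1 := H.inv_centralizer hg ha hag (hc.mul_right hd)
  have h2 := H.inv_centralizer hg ha hag hc
  have h3 := H.inv_centralizer hg ha hag hd
  have h4 : a * (c * d) * a = (a * c * a) * (a * d * a) := by
    calc a * (c * d) * a = a * c * (a * a) * d * a := by rw [mul_self_of_two ha, mul_one]; group
    _ = (a * c * a) * (a * d * a) := by group
  rw [h1, h2, h3, mul_inv_rev] at h4
  exact inv_injective (by rw [mul_inv_rev, mul_inv_rev, h4])

theorem exists_inverter [Finite G] {g : G} (hg : Rest K g) (h : pairs g ≠ 0) :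
    ∃ a : G, orderOf a = 2 ∧ a * g * a = g⁻¹ := by
  obtain ⟨⟨a, ha, hag⟩⟩ := (Nat.card_ne_zero.1 h).1
  exact ⟨a, ha, (inverts_iff ha (H.rest_not_two hg ha)).1 hag⟩

theorem pairs_eq_card [Finite G] {g a : G} (hg : Rest K g) (ha : orderOf a = 2)
    (hag : a * g * a = g⁻¹) : pairs g = Nat.card (Subgroup.centralizer ({g} : Set G)) := by
  have haa := mul_self_of_two ha
  refine Nat.card_congr
    { toFun := fun b => ⟨a * b.1, ?_⟩
      invFun := fun c => ⟨a * c.1, ?_, ?_⟩
      left_inv := fun b => Subtype.ext (by simp [← mul_assoc, haa])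
      right_inv := fun c => Subtype.ext (by simp [← mul_assoc, haa]) }
  · obtain ⟨b, hb, hbg⟩ := b
    have hb' := (inverts_iff hb (H.rest_not_two hg hb)).1 hbg
    refine Subgroup.mem_centralizer_singleton_iff.2 ?_
    show a * b * g = g * (a * b)
    have e1 : b * g = g⁻¹ * b := by rw [← hb', mul_assoc, mul_self_of_two hb, mul_one]
    have e2 : a * g⁻¹ = g * a := by
      rw [← hag, ← mul_assoc, ← mul_assoc, haa, one_mul]
    calc a * b * g = a * g⁻¹ * b := by rw [mul_assoc, e1, mul_assoc]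
    _ = g * (a * b) := by rw [e2, mul_assoc]
  · have hc : Commute g c.1 := (Subgroup.mem_centralizer_singleton_iff.1 c.2).symm
    refine two_of ?_ fun h => H.not_two_comm hg ha ?_
    · rw [← mul_assoc, H.inv_centralizer hg ha hag hc, inv_mul_cancel]
    · rw [← inv_of_two ha, inv_eq_of_mul_eq_one_right h]
      exact hc
  · have hc : Commute g c.1 := (Subgroup.mem_centralizer_singleton_iff.1 c.2).symm
    have hcg : Commute g (c.1 * g) := hc.mul_right (Commute.refl g)
    refine two_of ?_ fun h => H.not_two_comm hg ha ?_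
    · rw [mul_assoc a c.1, ← mul_assoc (a * (c.1 * g)),
        H.inv_centralizer hg ha hag hcg, inv_mul_cancel]
    · rw [← inv_of_two ha, inv_eq_of_mul_eq_one_right (b := c.1 * g) (by rw [← mul_assoc]; exact h)]
      exact hcg

theorem pairs_K [Finite G] {x : G} (hx : x ∈ K) (h1 : x ≠ 1) : pairs x = Nat.card K := by
  refine Nat.card_congr
    { toFun := fun b => ⟨s * b.1, ?_⟩
      invFun := fun c => ⟨s * c.1, H.sa_two c.2, by
        rw [mul_assoc]; exact H.sa_two (K.mul_mem c.2 hx)⟩
      left_inv := fun b => Subtype.ext (by simp [← mul_assoc, mul_self_of_two H.os])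
      right_inv := fun c => Subtype.ext (by simp [← mul_assoc, mul_self_of_two H.os]) }
  obtain ⟨b, hb, hbx⟩ := b
  have hne : b * x ≠ 1 := ne_one_of_two hbx
  have hb' := (inverts_iff hb hne).1 hbx
  have hmem : b * x * b⁻¹ ∈ K := by rw [inv_of_two hb, hb']; exact K.inv_mem hx
  rcases H.cent b (H.ti b x hx hmem h1) with hbK | hbK
  · exfalso
    have e1 := (H.uniq b hbK (mul_self_of_two hb)).resolve_left (ne_one_of_two hb)
    have e2 : x⁻¹ = x := by
      rw [← hb', H.comm b hbK x hx, mul_assoc, mul_self_of_two hb, mul_one]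
    have e3 := (H.uniq x hx (mul_eq_one_iff_eq_inv.2 e2.symm)).resolve_left h1
    refine hne ?_
    rw [e1, e3]
    exact mul_self_of_two H.ot
  · exact hbK

theorem even_card [Finite G] : 2 ∣ Nat.card K := by
  rw [← H.ot]
  exact (Subgroup.orderOf_mk t H.tK) ▸ orderOf_dvd_natCard (⟨t, H.tK⟩ : K)

/-- The centraliser of `t` is twice as big as `K`. -/
theorem sum_centralizer [Fintype G] [DecidablePred (· ∈ K)] [DecidablePred fun c : G => Commute c t]
    {M : Type*} [AddCommMonoid M] (f : G → M) :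
    ∑ c ∈ Finset.univ.filter (fun c : G => Commute c t), f c =
      (∑ a : K, f a) + ∑ a : K, f (s * a) := by
  classical
  have h1 : Finset.univ.filter (fun c : G => Commute c t) =
      (Finset.univ.image fun a : K => (a : G)) ∪ Finset.univ.image fun a : K => s * (a : G) := by
    ext c
    simp only [Finset.mem_filter, Finset.mem_univ, true_and, Finset.mem_union, Finset.mem_image]
    constructor
    · intro hc
      rcases H.cases hc with h | ⟨a, ha, rfl⟩
      · exact Or.inl ⟨⟨c, h⟩, rfl⟩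
      · exact Or.inr ⟨⟨a, ha⟩, rfl⟩
    · rintro (⟨a, rfl⟩ | ⟨a, rfl⟩)
      · exact H.comm_t a.2
      · exact H.sa_comm_t a.2
  rw [h1, Finset.sum_union, Finset.sum_image (fun a _ b _ h => Subtype.ext h),
    Finset.sum_image (fun a _ b _ h => Subtype.ext (mul_left_cancel h))]
  rw [Finset.disjoint_left]
  rintro c hc hc'
  obtain ⟨a, -, rfl⟩ := Finset.mem_image.1 hc
  obtain ⟨b, -, hb⟩ := Finset.mem_image.1 hc'
  exact H.sK (by
    have e : s = (a : G) * (b : G)⁻¹ := by rw [← hb, mul_inv_cancel_right]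
    rw [e]; exact K.mul_mem a.2 (K.inv_mem b.2))

theorem card_centralizer [Finite G] :
    Nat.card (Subgroup.centralizer ({t} : Set G)) = 2 * Nat.card K := by
  classical
  have := Fintype.ofFinite G
  have h := H.sum_centralizer (f := fun _ => (1 : ℕ))
  simp only [Finset.sum_const, smul_eq_mul, mul_one, Finset.card_univ] at h
  rw [Nat.card_eq_fintype_card, Nat.card_eq_fintype_card, two_mul, ← h]
  exact Fintype.card_of_subtype _ fun c => by
    simp [Subgroup.mem_centralizer_singleton_iff, commute_iff_eq]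

/-- A conjugate of `t` is central in a Sylow `2`-subgroup. -/
theorem not_four_dvd [Finite G] : ¬ 4 * Nat.card K ∣ Nat.card G := by
  intro h
  have : Fact (Nat.Prime 2) := ⟨Nat.prime_two⟩
  obtain ⟨S⟩ : Nonempty (Sylow 2 G) := inferInstance
  have hS : 2 ∣ Nat.card (S : Subgroup G) := by
    rw [Sylow.card_eq_multiplicity]
    refine dvd_pow_self 2 ?_
    have h2 : 2 ∣ Nat.card G := by rw [← H.ot]; exact orderOf_dvd_natCard t
    exact (Nat.prime_two.factorization_pos_of_dvd Nat.card_pos.ne' h2).ne'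
  have : Nontrivial (S : Subgroup G) := by
    rw [← Finite.one_lt_card_iff_nontrivial]
    have := Nat.le_of_dvd Nat.card_pos hS
    omega
  have : Nontrivial (Subgroup.center (S : Subgroup G)) := S.isPGroup'.center_nontrivial
  have hcz : 2 ∣ Nat.card (Subgroup.center (S : Subgroup G)) := by
    obtain ⟨n, hn, hn'⟩ := (S.isPGroup'.to_subgroup _).nontrivial_iff_card.1 this
    rw [hn']; exact dvd_pow_self 2 hn.ne'
  obtain ⟨z, hz⟩ := exists_prime_orderOf_dvd_card' 2 hcz
  have hz2 : orderOf (z.1.1 : G) = 2 := by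
    rw [Subgroup.orderOf_coe, Subgroup.orderOf_coe]; exact hz
  obtain ⟨g, hg⟩ := isConj_iff.1 (H.conjI _ t hz2 H.ot)
  have hle : (S : Subgroup G).map (MulAut.conj g).toMonoidHom ≤ Subgroup.centralizer ({t} : Set G) := by
    rintro _ ⟨x, hx, rfl⟩
    rw [Subgroup.mem_centralizer_singleton_iff, ← hg]
    have hc : x * z.1.1 = z.1.1 * x :=
      congrArg Subtype.val (Subgroup.mem_center_iff.1 z.2 ⟨x, hx⟩)
    show g * x * g⁻¹ * (g * z.1.1 * g⁻¹) = g * z.1.1 * g⁻¹ * (g * x * g⁻¹)
    calc _ = g * (x * z.1.1) * g⁻¹ := by group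
    _ = g * (z.1.1 * x) * g⁻¹ := by rw [hc]
    _ = _ := by group
  have hd : Nat.card (S : Subgroup G) ∣ 2 * Nat.card K := by
    rw [← H.card_centralizer, Nat.card_congr ((S : Subgroup G).equivMapOfInjective
      (MulAut.conj g).toMonoidHom (MulAut.conj g).injective).toEquiv]
    exact Subgroup.card_dvd_of_le hle
  have h4 : 2 * (2 * (2 ^ (Nat.card K).factorization 2)) ∣ Nat.card G := by
    refine dvd_trans ?_ h
    rw [← mul_assoc]
    exact Nat.mul_dvd_mul_left 4 (Nat.ordProj_dvd _ 2)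
  have h5 : 2 * (2 * 2 ^ (Nat.card K).factorization 2) = 2 ^ ((Nat.card K).factorization 2 + 2) := by
    ring
  rw [h5, Nat.prime_two.pow_dvd_iff_le_factorization Nat.card_pos.ne'] at h4
  rw [Sylow.card_eq_multiplicity,
    Nat.prime_two.pow_dvd_iff_le_factorization (Nat.mul_ne_zero two_ne_zero Nat.card_pos.ne'),
    Nat.factorization_mul two_ne_zero Nat.card_pos.ne', Finsupp.add_apply,
    Nat.Prime.factorization_self Nat.prime_two] at hd
  omega

end Hyp

end Cfsg.Agent.BSW84
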