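import Mathlib
import Cfsg.Agent.Lib.BSWGroup84
import Cfsg.Agent.Lib.CoherenceBasic
import Cfsg.Agent.Lib.CharBasicLinear
import Cfsg.Agent.Lib.CharInducedTI
import Cfsg.Agent.Lib.FourExceptional

/-!
Linear characters of `K` induced to `G` in the Brauer-Suzuki-Wall configuration, and the generalities
about them: values, inner products, the involution pair function.
-/

set_option autoImplicit false
set_option linter.unusedSectionVars false

namespace Cfsg.Agent.BSW84

open Cfsg Cfsg.Agent.CharBasic Cfsg.Agent.CharBasicOrth Cfsg.Agent.CharBasicDecomp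
open Cfsg.Agent.CoherenceBasic
open scoped ComplexConjugate

universe u

variable {G : Type u} [Group G]

/-- A linear character as a function. -/
def lin {K : Subgroup G} (a : K →* ℂˣ) : K → ℂ := fun x => (a x : ℂ)

/-- The induced difference. -/
noncomputable def indA [Fintype G] (K : Subgroup G) (a : K →* ℂˣ) : G → ℂ :=
  indFun K (fun x => 1 - lin a x)

/-- The same, without its trivial constituent. -/
noncomputable def indZ [Fintype G] (K : Subgroup G) (a : K →* ℂˣ) : G → ℂ :=
  indA K a - fun _ => 1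

theorem lin_one {K : Subgroup G} : lin (1 : K →* ℂˣ) = fun _ => 1 := funext fun _ => by simp [lin]

theorem lin_inj {K : Subgroup G} {a b : K →* ℂˣ} (h : lin a = lin b) : a = b :=
  MonoidHom.ext fun x => Units.ext (congrFun h x)

theorem inner_lin {K : Subgroup G} [Fintype K] (a b : K →* ℂˣ) [Decidable (a = b)] :
    classInner (lin a) (lin b) = if a = b then 1 else 0 := by
  split_ifs with h
  · subst h; exact classInner_irr_self (isIrrCharacter_linear a)
  · exact classInner_irr_ne (isIrrCharacter_linear a) (isIrrCharacter_linear b) fun e => h (lin_inj e)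

theorem lin_inv_apply {K : Subgroup G} (a : K →* ℂˣ) (x : K) : lin a⁻¹ x = lin a x⁻¹ := by
  simp [lin]

theorem conj_lin {K : Subgroup G} [Finite K] (a : K →* ℂˣ) (x : K) : conj (lin a x) = lin a x⁻¹ :=
  (isCharacter_inv (isCharacter_linear a) x).symm

theorem classInner_one_self [Fintype G] : classInner (fun _ : G => (1 : ℂ)) (fun _ => 1) = 1 :=
  classInner_irr_self isIrrCharacter_one

theorem si_one : SignedIrr (fun _ : G => (1 : ℂ)) := Or.inl isIrrCharacter_one

/-- A generalised character of norm three. -/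
theorem si_sum_of_norm_three [Fintype G] {θ : G → ℂ} (h : Cfsg.IsGeneralizedCharacter G θ)
    (h3 : Cfsg.classInner θ θ = 3) :
    ∃ a b c : G → ℂ, SignedIrr a ∧ SignedIrr b ∧ SignedIrr c ∧ classInner a b = 0 ∧
      classInner a c = 0 ∧ classInner b c = 0 ∧ θ = a + b + c := by
  obtain ⟨m, hm, hsum⟩ := exists_int_coeff h
  obtain ⟨ψ, hψ⟩ : ∃ ψ, m ψ ≠ 0 := by
    by_contra hno
    push Not at hno
    have h0 : θ = 0 := by rw [hsum]; exact Finset.sum_eq_zero fun ψ _ => by simp [hno ψ]
    rw [h0, classInner_zero_left] at h3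
    norm_num at h3
  set θ' : G → ℂ := θ - (m ψ : ℂ) • (ψ : G → ℂ) with hθ'
  have hψg := isGeneralizedCharacter_of_isCharacter (isCharacter_of_isIrrCharacter ψ.2)
  have hθg : Cfsg.IsGeneralizedCharacter G θ' :=
    isGeneralizedCharacter_sub h (isGeneralizedCharacter_zsmul hψg _)
  have hψθ : classInner (ψ : G → ℂ) θ = m ψ := by rw [← conj_classInner, hm, map_intCast]
  have hn : classInner θ' θ' = ((3 - m ψ * m ψ : ℤ) : ℂ) := by
    simp only [hθ', classInner_sub_left, classInner_sub_right, classInner_smul_left, classInner_smul_right,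
      hm, hψθ, h3, classInner_irr_self ψ.2, map_intCast]
    push_cast; ring
  have hnn : (0 : ℤ) ≤ 3 - m ψ * m ψ := by
    have := classInner_self_nonneg θ'
    rw [hn, Complex.intCast_re] at this
    exact_mod_cast this
  have hm1 : m ψ * m ψ = 1 := by
    have : m ψ ≤ 1 := by nlinarith
    have : -1 ≤ m ψ := by nlinarith
    rcases (show m ψ = 1 ∨ m ψ = -1 by omega) with e | e <;> rw [e] <;> rfl
  obtain ⟨b, c, hb, hc, hbc, hsum'⟩ := si_sum_of_norm_two hθg (by rw [hn, hm1]; norm_num)
  set a : G → ℂ := (m ψ : ℂ) • (ψ : G → ℂ) with ha'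
  have ha : SignedIrr a := by
    refine si_of_norm_one (isGeneralizedCharacter_zsmul hψg _) ?_
    rw [ha', classInner_smul_left, classInner_smul_right, classInner_irr_self ψ.2, map_intCast, mul_one]
    exact_mod_cast hm1
  have haθ : classInner a b + classInner a c = 0 := by
    rw [← classInner_add_right, ← hsum', hθ']
    simp only [ha', classInner_smul_left, classInner_sub_right, classInner_smul_right, hψθ,
      classInner_irr_self ψ.2, map_intCast]
    ring
  have hab : classInner a b = 0 := by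
    rcases si_cases ha hb with e | ⟨ε, hε, e1, e2⟩
    · exact e
    exfalso
    rw [e1, classInner_smul_left, Complex.ofReal_eq_zero.not.mpr (by rcases hε with rfl | rfl <;> norm_num)
      |> fun hne => mul_eq_zero_iff_left hne] at hbc
    rw [e2, hbc, add_zero, Complex.ofReal_eq_zero] at haθ
    rcases hε with rfl | rfl <;> norm_num at haθ
  refine ⟨a, b, c, ha, hb, hc, hab, by rwa [hab, zero_add] at haθ, hbc, ?_⟩
  rw [add_assoc, ← hsum', hθ']
  abel

/-- Bessel bound for a column of the character table. -/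
theorem column_le [Fintype G] {ι : Type*} [DecidableEq ι] (s : Finset ι) (φ : ι → G → ℂ)
    (h : ∀ i ∈ s, SignedIrr (φ i)) (ho : ∀ i ∈ s, ∀ j ∈ s, i ≠ j → classInner (φ i) (φ j) = 0) (g : G) :
    ∑ i ∈ s, Complex.normSq (φ i g) ≤ (Nat.card (Subgroup.centralizer ({g} : Set G)) : ℝ) := by
  classical
  have := finite_irrCharacter (G := G)
  choose ψ hψ using fun i : s => show ∃ ψ : IrrCharacter G, φ i = (ψ : G → ℂ) ∨ φ i = -(ψ : G → ℂ) by
    rcases h i i.2 with e | e
    · exact ⟨⟨φ i, e⟩, Or.inl rfl⟩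
    · exact ⟨⟨-φ i, e⟩, Or.inr (neg_neg _).symm⟩
  have hinj : Function.Injective ψ := by
    intro i j hij
    by_contra hne
    have h0 := ho i i.2 j j.2 (fun e => hne (Subtype.ext e))
    have h1 := classInner_irr_self (ψ j).2
    rcases hψ i with e | e <;> rcases hψ j with e' | e' <;>
      simp [e, e', hij, h1, classInner_neg_left, classInner_neg_right] at h0
  have hcol : ∑ χ : IrrCharacter G, Complex.normSq ((χ : G → ℂ) g) =
      (Nat.card (Subgroup.centralizer ({g} : Set G)) : ℝ) := by
    have e := sum_irr_mul_conj g g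
    rw [if_pos (IsConj.refl g)] at e
    simp only [Complex.mul_conj] at e
    exact_mod_cast e
  rw [← hcol, ← Finset.sum_coe_sort s]
  calc ∑ i : s, Complex.normSq (φ i g) = ∑ χ ∈ Finset.univ.image ψ, Complex.normSq ((χ : G → ℂ) g) := by
        rw [Finset.sum_image fun a _ b _ e => hinj e]
        refine Finset.sum_congr rfl fun i _ => ?_
        rcases hψ i with e | e <;> simp [e, Complex.normSq_neg]
  _ ≤ _ := Finset.sum_le_sum_of_subset_of_nonneg (Finset.subset_univ _)
        fun χ _ _ => Complex.normSq_nonneg _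

namespace Hyp

variable [Fintype G] {t s : G} {K : Subgroup G} [Fintype K] (H : Hyp t K s)
include H

theorem ext_zero_conj_K (f : K → ℂ) {x : K} {c : G} (hc : c ∈ K) :
    extendByZero K f (c⁻¹ * (x : G) * c) = f x := by
  have : c⁻¹ * (x : G) * c = (x : G) := by
    rw [mul_assoc, H.comm (x : G) x.2 c hc, inv_mul_cancel_left]
  rw [this, CharInduced.ext_zero_coe]

theorem ind_value (f : K → ℂ) {x : K} (hx : x ≠ 1) :
    indFun K f (x : G) = f x + f x⁻¹ := by
  classical
  have hk : (Nat.card K : ℂ) ≠ 0 := Nat.cast_ne_zero.2 Nat.card_pos.ne'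
  have hx' : (x : G) ≠ 1 := fun e => hx (Subtype.ext (by simpa using e))
  rw [CharInduced.indFun_apply, ← Finset.sum_filter_of_ne (p := fun c : G => Commute c t),
    H.sum_centralizer]
  · have e1 : ∀ a : K, extendByZero K f ((a : G)⁻¹ * (x : G) * a) = f x := fun a =>
      H.ext_zero_conj_K f a.2
    have e2 : ∀ a : K, extendByZero K f ((s * (a : G))⁻¹ * (x : G) * (s * a)) = f x⁻¹ := by
      intro a
      have e : (s * (a : G))⁻¹ * (x : G) * (s * a) = (a : G)⁻¹ * ((x⁻¹ : K) : G) * a := by
        rw [mul_inv_rev, inv_of_two H.os, Subgroup.coe_inv, ← H.sConj x.2]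
        group
      rw [e, H.ext_zero_conj_K f a.2]
    simp only [e1, e2, Finset.sum_const, Finset.card_univ, ← Nat.card_eq_fintype_card, nsmul_eq_mul]
    field_simp
  · intro c _ hne
    by_contra hc
    refine hne (CharInduced.ext_zero_of_not_mem f fun hmem => hc ?_)
    have := H.ti c⁻¹ (x : G) x.2 (by simpa using hmem) hx'
    simpa using this.inv_left

omit [Fintype K] H in
theorem ind_eq_zero {f : K → ℂ} (hf : f 1 = 0) {g : G} (hg : g = 1 ∨ ¬ InK K g) :
    indFun K f g = 0 := by
  rcases hg with rfl | hg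
  · rw [CharInduced.ind_one_apply, hf, mul_zero]
  · exact CharInduced.ind_eq_zero_of_not_conj K f g fun x hx => hg ⟨x⁻¹, by simpa using hx⟩

theorem inner_ind {f f' : K → ℂ} (hf' : f' 1 = 0) :
    classInner (indFun K f) (indFun K f') = classInner f (fun x => f' x + f' x⁻¹) := by
  rw [CharInduced.inner_ind_left K f (CharInduced.isClassFunction_ind K _)]
  congr 1
  funext x
  by_cases hx : x = 1
  · subst hx
    rw [inv_one, hf', add_zero]
    exact ind_eq_zero hf' (Or.inl rfl)
  · exact H.ind_value f' hx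

omit [Fintype K] H in
theorem indA_one (a : K →* ℂˣ) : indA K a 1 = 0 := ind_eq_zero (by simp [lin]) (Or.inl rfl)

omit [Fintype K] H in
theorem indA_zero : indA K (1 : K →* ℂˣ) = 0 := by
  funext g
  simp [indA, lin, CharInduced.indFun_apply, extendByZero, Function.extend]

theorem inner_indA {a b : K →* ℂˣ} [Decidable (a = b)] [Decidable (a = b⁻¹)] (ha : a ≠ 1) (hb : b ≠ 1) :
    classInner (indA K a) (indA K b) = 2 + (if a = b then 1 else 0) + (if a = b⁻¹ then 1 else 0) := by
  classical
  rw [indA, indA, H.inner_ind (by simp [lin])]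
  have e1 : (fun x : K => 1 - lin a x) = lin (1 : K →* ℂˣ) - lin a := by rw [lin_one]; rfl
  have e2 : (fun x : K => (1 - lin b x) + (1 - lin b x⁻¹)) =
      (lin (1 : K →* ℂˣ) - lin b) + (lin (1 : K →* ℂˣ) - lin b⁻¹) := by
    funext x
    simp [lin_one, lin_inv_apply]
  rw [e1, e2]
  have hb' : ¬ (1 : K →* ℂˣ) = b⁻¹ := by
    intro e
    refine hb (MonoidHom.ext fun x => ?_)
    have := DFunLike.congr_fun e x
    simp only [MonoidHom.one_apply, MonoidHom.inv_apply] at this ⊢
    exact inv_eq_one.1 this.symm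
  simp only [classInner_sub_left, classInner_add_right, classInner_sub_right, inner_lin, if_neg ha,
    if_neg (Ne.symm hb), if_neg hb']
  norm_num
  ring

theorem inner_indA_one {a : K →* ℂˣ} (ha : a ≠ 1) :
    classInner (indA K a) (fun _ => 1) = 1 := by
  classical
  rw [indA, CharInduced.inner_ind_left K _ (fun _ _ => rfl)]
  have e1 : (fun x : K => 1 - lin a x) = lin (1 : K →* ℂˣ) - lin a := by rw [lin_one]; rfl
  rw [e1, show (fun _ : K => (1 : ℂ)) = lin (1 : K →* ℂˣ) from lin_one.symm, classInner_sub_left,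
    inner_lin, inner_lin, if_pos rfl, if_neg ha, sub_zero]

theorem inner_one_indA {a : K →* ℂˣ} (ha : a ≠ 1) :
    classInner (fun _ => 1) (indA K a) = 1 := by
  rw [← conj_classInner, H.inner_indA_one ha, map_one]

theorem indA_gen (a : K →* ℂˣ) : IsGeneralizedCharacter G (indA K a) := by
  refine CharInduced.isGenChar_ind K ?_
  have e1 : (fun x : K => 1 - lin a x) = lin (1 : K →* ℂˣ) - lin a := by rw [lin_one]; rfl
  rw [e1]
  exact isGeneralizedCharacter_sub (isGeneralizedCharacter_of_isCharacter (isCharacter_linear _))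
    (isGeneralizedCharacter_of_isCharacter (isCharacter_linear _))

theorem indZ_gen (a : K →* ℂˣ) : IsGeneralizedCharacter G (indZ K a) :=
  isGeneralizedCharacter_sub (H.indA_gen a) (si_gen si_one)

omit [Fintype K] H in
theorem indA_eq (a : K →* ℂˣ) : indA K a = indZ K a + fun _ => 1 := by
  rw [indZ, sub_add_cancel]

omit [Fintype K] H in
theorem indZ_one (a : K →* ℂˣ) : indZ K a 1 = -1 := by simp [indZ, indA_one]

theorem inner_indZ_one {a : K →* ℂˣ} (ha : a ≠ 1) : classInner (indZ K a) (fun _ => 1) = 0 := by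
  rw [indZ, classInner_sub_left, H.inner_indA_one ha, classInner_one_self, sub_self]

theorem inner_one_indZ {a : K →* ℂˣ} (ha : a ≠ 1) : classInner (fun _ => 1) (indZ K a) = 0 := by
  rw [← conj_classInner, H.inner_indZ_one ha, map_zero]

theorem inner_indZ {a b : K →* ℂˣ} [Decidable (a = b)] [Decidable (a = b⁻¹)] (ha : a ≠ 1) (hb : b ≠ 1) :
    classInner (indZ K a) (indZ K b) = 1 + (if a = b then 1 else 0) + (if a = b⁻¹ then 1 else 0) := by
  rw [indZ, indZ, classInner_sub_left, classInner_sub_right, classInner_sub_right, H.inner_indA ha hb,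
    H.inner_indA_one ha, H.inner_one_indA hb, classInner_one_self]
  ring

theorem indZ_inv {a : K →* ℂˣ} : indA K a⁻¹ = indA K a := by
  funext g
  by_cases hg : g = 1 ∨ ¬ InK K g
  · rw [indA, indA, ind_eq_zero (by simp [lin]) hg, ind_eq_zero (by simp [lin]) hg]
  push Not at hg
  obtain ⟨h, hh⟩ := hg.2
  have hcl : ∀ f : K → ℂ, indFun K f g = indFun K f (h * g * h⁻¹) := fun f =>
    (CharInduced.isClassFunction_ind K f g h).symm
  have hx : (⟨_, hh⟩ : K) ≠ 1 := fun e => hg.1 (by simpa using congrArg Subtype.val e)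
  rw [indA, indA, hcl, hcl, show h * g * h⁻¹ = ((⟨_, hh⟩ : K) : G) from rfl, H.ind_value _ hx,
    H.ind_value _ hx]
  simp only [lin_inv_apply, inv_inv]
  ring

/-! ### The dual group -/

theorem comm_hom (x y : K) : x * y = y * x := Subtype.ext (H.comm x x.2 y y.2)

theorem card_dual : Nat.card (K →* ℂˣ) = Nat.card K := by
  have : IsMulCommutative K := ⟨⟨H.comm_hom⟩⟩
  rw [CharBasicLinear.card_hom_units, (commutator_eq_bot_iff_center_eq_top K).2
    (Subgroup.eq_top_iff' _ |>.2 fun x => Subgroup.mem_center_iff.2 fun y => H.comm_hom y x),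
    Subgroup.index_bot]

theorem finite_dual : Finite (K →* ℂˣ) :=
  Nat.finite_of_card_ne_zero (by rw [H.card_dual]; exact Nat.card_pos.ne')

theorem exists_mu : ∃ μ : K →* ℂˣ, μ ≠ 1 ∧ μ⁻¹ = μ := by
  have := H.finite_dual
  have h2 : 2 ∣ Nat.card (K →* ℂˣ) := H.card_dual ▸ H.even_card
  obtain ⟨μ, hμ⟩ := exists_prime_orderOf_dvd_card' 2 h2
  exact ⟨μ, ne_one_of_two hμ, inv_of_two hμ⟩

theorem self_inv_unique {a μ : K →* ℂˣ} (ha : a ≠ 1) (ha' : a⁻¹ = a) (hμ : μ ≠ 1) (hμ' : μ⁻¹ = μ) :
    a = μ := by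
  let sq : K →* K :=
    { toFun := fun x => x * x
      map_one' := one_mul 1
      map_mul' := fun x y => by rw [mul_assoc, ← mul_assoc y, H.comm_hom y x]; group }
  have hker : Nat.card sq.ker = 2 := by
    refine Nat.card_eq_two_iff.2 ⟨1, ⟨⟨t, H.tK⟩, Subtype.ext (mul_self_of_two H.ot)⟩, ?_, ?_⟩
    · intro e
      exact ne_one_of_two H.ot (congrArg Subtype.val (congrArg Subtype.val e)).symm
    · refine Set.eq_univ_of_forall fun x => ?_
      rcases H.uniq x.1 x.1.2 (congrArg Subtype.val (x.2 : x.1 * x.1 = 1)) with e | e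
      · exact Or.inl (Subtype.ext (Subtype.ext e))
      · exact Or.inr (Subtype.ext (Subtype.ext e))
  have hidx : sq.range.index = 2 := by
    have h1 := sq.range.index_mul_card
    have h2 := sq.ker.index_mul_card
    rw [Subgroup.index_ker, hker] at h2
    have h3 : 0 < Nat.card sq.range := Nat.card_pos
    exact Nat.eq_of_mul_eq_mul_right h3 (h1.trans (h2.symm.trans (mul_comm _ _)))
  have hone : ∀ b : K →* ℂˣ, b⁻¹ = b → ∀ y ∈ sq.range, b y = 1 := by
    rintro b hb _ ⟨x, rfl⟩
    show b (x * x) = 1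
    have e : (b x)⁻¹ = b x := by rw [← MonoidHom.inv_apply, hb]
    rw [map_mul]
    nth_rw 2 [← e]
    rw [mul_inv_cancel]
  have hsgn : ∀ b : K →* ℂˣ, b ≠ 1 → b⁻¹ = b → ∀ x ∉ sq.range, b x = -1 := by
    intro b hb hb' x hx
    have e : (b x)⁻¹ = b x := by rw [← MonoidHom.inv_apply, hb']
    have e2 : (b x : ℂ) * (b x : ℂ) = 1 := by
      rw [← Units.val_mul]
      nth_rw 2 [← e]
      rw [mul_inv_cancel, Units.val_one]
    rcases mul_self_eq_one_iff.1 e2 with h | h
    · refine absurd (MonoidHom.ext fun y => ?_) hb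
      by_cases hy : y ∈ sq.range
      · simp [hone b hb' y hy]
      · have hm : x⁻¹ * y ∈ sq.range := by
          rw [Subgroup.mul_mem_iff_of_index_two hidx]
          simp [hx, hy]
        have h' := hone b hb' _ hm
        rw [map_mul, map_inv, show b x = 1 from Units.ext h, inv_one, one_mul] at h'
        simp [h']
    · exact Units.ext (by simpa using h)
  refine MonoidHom.ext fun x => ?_
  by_cases hx : x ∈ sq.range
  · rw [hone a ha' x hx, hone μ hμ' x hx]
  · rw [hsgn a ha ha' x hx, hsgn μ hμ hμ' x hx]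

theorem lin_t_sq (a : K →* ℂˣ) : lin a ⟨t, H.tK⟩ * lin a ⟨t, H.tK⟩ = 1 := by
  rw [lin, ← Units.val_mul, ← map_mul, show (⟨t, H.tK⟩ : K) * ⟨t, H.tK⟩ = 1 from
    Subtype.ext (mul_self_of_two H.ot), map_one, Units.val_one]

theorem conj_lin_t (a : K →* ℂˣ) : conj (lin a ⟨t, H.tK⟩) = lin a ⟨t, H.tK⟩ := by
  rw [conj_lin]
  congr 1
  exact Subtype.ext (inv_of_two H.ot)

theorem sum_lin [Fintype (K →* ℂˣ)] {x : K} (hx : x ≠ 1) : ∑ a : K →* ℂˣ, lin a x = 0 := by
  let _ : CommGroup K := { (inferInstance : Group K) with mul_comm := H.comm_hom }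
  obtain ⟨b, hb⟩ := CommGroup.exists_apply_ne_one_of_hasEnoughRootsOfUnity K ℂ hx
  have e : ∑ a : K →* ℂˣ, lin (b * a) x = ∑ a : K →* ℂˣ, lin a x :=
    Fintype.sum_equiv (Equiv.mulLeft b) _ _ fun a => rfl
  simp only [lin, MonoidHom.mul_apply, Units.val_mul, ← Finset.mul_sum] at e
  by_contra hne
  simp only [lin] at hne
  exact hb (Units.ext (by simpa using (mul_eq_right₀ hne).1 e))

theorem sum_lin_all [Fintype (K →* ℂˣ)] (x : K) [Decidable (x = 1)] :
    ∑ a : K →* ℂˣ, lin a x = if x = 1 then (Nat.card K : ℂ) else 0 := by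
  split_ifs with h
  · subst h
    simp only [lin, map_one, Units.val_one, Finset.sum_const, Finset.card_univ, nsmul_eq_mul, mul_one]
    rw [← Nat.card_eq_fintype_card, H.card_dual]
  · exact H.sum_lin h

/-- Restriction to `K` from the coefficients. -/
theorem value [Fintype (K →* ℂˣ)] {χ : G → ℂ} (hχ : IsClassFunction G χ) {x : K} (hx : x ≠ 1) :
    χ x = - ∑ a : K →* ℂˣ, classInner χ (indA K a) * lin a x := by
  classical
  set r : K → ℂ := fun y => χ y with hr
  have hk : (Nat.card K : ℂ) ≠ 0 := Nat.cast_ne_zero.2 Nat.card_pos.ne'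
  have hexp : ∑ a : K →* ℂˣ, classInner r (lin a) * lin a x = r x := by
    simp only [classInner, Finset.sum_mul, Finset.mul_sum]
    rw [Finset.sum_comm]
    have : ∀ y : K, ∑ a : K →* ℂˣ, (Nat.card K : ℂ)⁻¹ * (r y * conj (lin a y)) * lin a x =
        (Nat.card K : ℂ)⁻¹ * r y * if y⁻¹ * x = 1 then (Nat.card K : ℂ) else 0 := by
      intro y
      rw [← H.sum_lin_all, Finset.mul_sum]
      refine Finset.sum_congr rfl fun a _ => ?_
      rw [conj_lin, show lin a (y⁻¹ * x) = lin a y⁻¹ * lin a x by simp [lin, map_mul]]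
      ring
    simp only [this, mul_ite, mul_zero, inv_mul_eq_one, Finset.sum_ite_eq', Finset.mem_univ, if_true]
    field_simp
  have hc : ∀ a : K →* ℂˣ, classInner χ (indA K a) =
      classInner r (fun _ => 1) - classInner r (lin a) := by
    intro a
    rw [indA, CharInduced.inner_ind_right K _ hχ, ← classInner_sub_right]
    rfl
  simp only [hc, sub_mul, Finset.sum_sub_distrib, ← Finset.mul_sum, H.sum_lin hx, hexp, mul_zero,
    zero_sub, neg_neg]
  rfl

/-- The degree from the coefficients. -/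
theorem value_one [Fintype (K →* ℂˣ)] {χ : G → ℂ} (hχ : IsGeneralizedCharacter G χ) :
    ∃ m : ℤ, χ 1 = (Nat.card K : ℂ) * m - ∑ a : K →* ℂˣ, classInner χ (indA K a) := by
  classical
  have hgen := CharInduced.isGenChar_res K hχ
  obtain ⟨m, hm⟩ := classInner_isGeneralizedCharacter hgen
    (isGeneralizedCharacter_of_isCharacter (isCharacter_linear (1 : K →* ℂˣ)))
  refine ⟨m, ?_⟩
  set r : K → ℂ := fun y => χ y with hr
  have hc : ∀ a : K →* ℂˣ, classInner χ (indA K a) = (m : ℂ) - classInner r (lin a) := by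
    intro a
    rw [indA, CharInduced.inner_ind_right K _ (isClassFunction_of_isGeneralizedCharacter hχ), ← hm,
      ← classInner_sub_right]
    congr 1
  have hexp : ∑ a : K →* ℂˣ, classInner r (lin a) = r 1 := by
    simp only [classInner, Finset.mul_sum]
    rw [Finset.sum_comm]
    have : ∀ y : K, ∑ a : K →* ℂˣ, (Nat.card K : ℂ)⁻¹ * (r y * conj (lin a y)) =
        (Nat.card K : ℂ)⁻¹ * r y * if y⁻¹ = 1 then (Nat.card K : ℂ) else 0 := by
      intro y
      rw [← H.sum_lin_all, Finset.mul_sum]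
      refine Finset.sum_congr rfl fun a _ => ?_
      rw [conj_lin]
      ring
    have hk : (Nat.card K : ℂ) ≠ 0 := Nat.cast_ne_zero.2 Nat.card_pos.ne'
    simp only [this, mul_ite, mul_zero, inv_eq_one, Finset.sum_ite_eq', Finset.mem_univ, if_true]
    field_simp
  simp only [hc, Finset.sum_sub_distrib, hexp, Finset.sum_const, Finset.card_univ, nsmul_eq_mul,
    ← Nat.card_eq_fintype_card, H.card_dual]
  simp [hr]

/-! ### The pair function -/

omit [Fintype K] H in
theorem isClassFunction_pairs : IsClassFunction G (fun g : G => (pairs g : ℂ)) := fun g h => by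
  simp only [pairs_conj]

theorem card_two : ((Finset.univ.filter fun u : G => orderOf u = 2).card : ℂ) =
    (Nat.card G : ℂ) / (2 * Nat.card K) := by
  classical
  have h1 : (Finset.univ.filter fun u : G => orderOf u = 2).card = Nat.card {x : G // IsConj t x} := by
    rw [Nat.card_eq_fintype_card]
    refine (Fintype.card_of_subtype _ fun x => ?_).symm
    simp only [Finset.mem_filter, Finset.mem_univ, true_and]
    refine ⟨fun h => H.conjI t x H.ot h, fun h => ?_⟩
    obtain ⟨c, rfl⟩ := isConj_iff.1 h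
    rw [orderOf_conj_eq]
    exact H.ot
  have h2 := card_conj_mul_card_centralizer t
  rw [H.card_centralizer] at h2
  have hk : (Nat.card K : ℂ) ≠ 0 := Nat.cast_ne_zero.2 Nat.card_pos.ne'
  rw [h1, eq_div_iff (mul_ne_zero two_ne_zero hk), ← h2]
  push_cast
  ring

theorem inner_irr_pairs (χ : IrrCharacter G) :
    classInner (χ : G → ℂ) (fun g : G => (pairs g : ℂ)) =
      (Nat.card G : ℂ) / (4 * (Nat.card K : ℂ) ^ 2) * ((χ : G → ℂ) t ^ 2 / (χ : G → ℂ) 1) := by
  classical
  have hG : (Nat.card G : ℂ) ≠ 0 := Nat.cast_ne_zero.2 Nat.card_pos.ne'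
  have hk : (Nat.card K : ℂ) ≠ 0 := Nat.cast_ne_zero.2 Nat.card_pos.ne'
  have key : ∑ g : G, (χ : G → ℂ) g * (pairs g : ℂ) =
      ((Finset.univ.filter fun u : G => orderOf u = 2).card * (χ : G → ℂ) t) ^ 2 / (χ : G → ℂ) 1 := by
    rw [← FourExceptional.sum_involution_pairs H.conjI H.ot χ]
    have e : ∀ u ∈ Finset.univ.filter (fun u : G => orderOf u = 2),
        ∑ w ∈ Finset.univ.filter (fun u : G => orderOf u = 2), (χ : G → ℂ) (u * w) =
          ∑ g : G, if orderOf (u * g) = 2 then (χ : G → ℂ) g else 0 := by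
      intro u hu
      have huu : u * u = 1 := mul_self_of_two (Finset.mem_filter.1 hu).2
      rw [Finset.sum_filter]
      refine Fintype.sum_equiv (Equiv.mulLeft u) _ _ fun w => ?_
      simp only [Equiv.coe_mulLeft, ← mul_assoc, huu, one_mul]
    rw [Finset.sum_congr rfl e, Finset.sum_comm]
    refine Finset.sum_congr rfl fun g _ => ?_
    rw [← Finset.sum_filter, Finset.sum_const, nsmul_eq_mul, mul_comm]
    congr 2
    rw [pairs, Nat.card_eq_fintype_card]
    exact Fintype.card_of_subtype _ fun a => by simp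
  simp only [classInner, Complex.conj_natCast]
  rw [key, H.card_two]
  field_simp
  ring

theorem inner_si_pairs {φ : G → ℂ} (hφ : SignedIrr φ) :
    classInner φ (fun g : G => (pairs g : ℂ)) =
      (Nat.card G : ℂ) / (4 * (Nat.card K : ℂ) ^ 2) * (φ t ^ 2 / φ 1) := by
  rcases hφ with h | h
  · exact H.inner_irr_pairs ⟨φ, h⟩
  · have := H.inner_irr_pairs ⟨-φ, h⟩
    simp only [classInner_neg_left, Pi.neg_apply, neg_sq, div_neg, mul_neg] at this
    exact neg_injective this

theorem inner_indA_pairs {a : K →* ℂˣ} (ha : a ≠ 1) :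
    classInner (indA K a) (fun g : G => (pairs g : ℂ)) = (Nat.card K : ℂ) := by
  classical
  rw [indA, CharInduced.inner_ind_left K _ isClassFunction_pairs]
  have e : classInner (fun x : K => 1 - lin a x) (fun x : K => (pairs (x : G) : ℂ)) =
      classInner (fun x : K => 1 - lin a x) ((Nat.card K : ℂ) • fun _ => (1 : ℂ)) := by
    simp only [classInner]
    congr 1
    refine Finset.sum_congr rfl fun x _ => ?_
    by_cases hx : x = 1
    · simp [hx, lin]
    · rw [H.pairs_K x.2 (fun e => hx (Subtype.ext e))]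
      simp
  rw [e, classInner_smul_right, Complex.conj_natCast]
  have e1 : (fun x : K => 1 - lin a x) = lin (1 : K →* ℂˣ) - lin a := by rw [lin_one]; rfl
  rw [e1, show (fun _ : K => (1 : ℂ)) = lin (1 : K →* ℂˣ) from lin_one.symm, classInner_sub_left,
    inner_lin, inner_lin, if_pos rfl, if_neg ha, sub_zero, mul_one]

end Hyp

/-- The functional evaluating the pair function. -/
noncomputable def lf [Fintype G] (t g : G) (θ : G → ℂ) : ℂ :=
  haveI := finite_irrCharacter (G := G)
  haveI := Fintype.ofFinite (IrrCharacter G)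
  ∑ χ : IrrCharacter G, classInner θ (χ : G → ℂ) *
    (conj ((χ : G → ℂ) t) * (χ : G → ℂ) g / (χ : G → ℂ) 1)

theorem lf_add [Fintype G] (t g : G) (θ η : G → ℂ) : lf t g (θ + η) = lf t g θ + lf t g η := by
  simp only [lf, classInner_add_left, add_mul, Finset.sum_add_distrib]

theorem lf_sub [Fintype G] (t g : G) (θ η : G → ℂ) : lf t g (θ - η) = lf t g θ - lf t g η := by
  simp only [lf, classInner_sub_left, sub_mul, Finset.sum_sub_distrib]

theorem lf_si [Fintype G] (t g : G) {φ : G → ℂ} (hφ : SignedIrr φ) :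
    lf t g φ = conj (φ t) * φ g / φ 1 := by
  classical
  have := finite_irrCharacter (G := G)
  have := Fintype.ofFinite (IrrCharacter G)
  have key : ∀ ψ : IrrCharacter G, lf t g (ψ : G → ℂ) =
      conj ((ψ : G → ℂ) t) * (ψ : G → ℂ) g / (ψ : G → ℂ) 1 := by
    intro ψ
    rw [lf, Finset.sum_eq_single ψ]
    · rw [classInner_irr_self ψ.2, one_mul]
    · intro χ _ hne
      rw [classInner_irr_ne ψ.2 χ.2 (fun e => hne (Subtype.ext e.symm)), zero_mul]
    · intro hno; simp at hno
  rcases hφ with h | h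
  · exact key ⟨φ, h⟩
  · have h1 := key ⟨-φ, h⟩
    have h2 : lf t g (-φ) = -lf t g φ := by
      simp only [lf, classInner_neg_left, neg_mul, Finset.sum_neg_distrib]
    simp only [h2, Pi.neg_apply, map_neg, neg_mul_neg, div_neg] at h1
    exact neg_injective h1

theorem Hyp.pairs_expand [Fintype G] {t s : G} {K : Subgroup G} [Fintype K] (H : Hyp t K s)
    [Fintype (K →* ℂˣ)] (g : G) :
    (pairs g : ℂ) = -((Nat.card G : ℂ) / (4 * (Nat.card K : ℂ) ^ 2)) *
      ∑ a : K →* ℂˣ, lin a ⟨t, H.tK⟩ * lf t g (indA K a) := by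
  classical
  have := finite_irrCharacter (G := G)
  have := Fintype.ofFinite (IrrCharacter G)
  have hval : ∀ χ : IrrCharacter G, conj ((χ : G → ℂ) t) =
      - ∑ a : K →* ℂˣ, classInner (indA K a) (χ : G → ℂ) * lin a ⟨t, H.tK⟩ := by
    intro χ
    rw [show (χ : G → ℂ) t = (χ : G → ℂ) ((⟨t, H.tK⟩ : K) : G) from rfl,
      H.value (isClassFunction_of_isCharacter (isCharacter_of_isIrrCharacter χ.2))
        (fun e => ne_one_of_two H.ot (congrArg Subtype.val e)), map_neg, map_sum]
    simp only [map_mul, conj_classInner, H.conj_lin_t]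
  have h1 := congrFun (eq_sum_classInner (Hyp.isClassFunction_pairs (G := G))) g
  simp only [Finset.sum_apply, Pi.smul_apply, smul_eq_mul] at h1
  rw [h1]
  simp only [lf, Finset.mul_sum]
  rw [Finset.sum_comm]
  refine Finset.sum_congr rfl fun χ _ => ?_
  rw [← conj_classInner, H.inner_irr_pairs χ]
  simp only [map_mul, map_div₀, map_pow, Complex.conj_natCast, map_ofNat]
  rw [show conj ((χ : G → ℂ) 1) = (χ : G → ℂ) 1 by
    obtain ⟨n, hn⟩ := isCharacter_apply_one (isCharacter_of_isIrrCharacter χ.2)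
    rw [hn, Complex.conj_natCast]]
  rw [pow_two (conj ((χ : G → ℂ) t))]
  nth_rw 2 [hval]
  simp only [Finset.sum_mul, Finset.mul_sum, neg_mul, mul_neg, neg_div, Finset.sum_div,
    ← Finset.sum_neg_distrib]
  refine Finset.sum_congr rfl fun a _ => ?_
  ring

end Cfsg.Agent.BSW84
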