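import Mathlib
import Cfsg.Agent.Lib.BSWChars84

/-!
The exceptional characters of the Brauer-Suzuki-Wall configuration, the group order.
-/

set_option autoImplicit false
set_option linter.unusedSectionVars false

namespace Cfsg.Agent.BSW84

open Cfsg Cfsg.Agent.CharBasic Cfsg.Agent.CharBasicOrth Cfsg.Agent.CharBasicDecomp
open Cfsg.Agent.CoherenceBasic
open scoped ComplexConjugate

universe u

variable {G : Type u} [Group G] [Fintype G] {t s : G} {K : Subgroup G}

theorem inner_symm_zero {a b : G → ℂ} (h : classInner a b = 0) : classInner b a = 0 := by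
  rw [← conj_classInner, h, map_zero]

/-- A signed irreducible orthogonal to the sum of two orthogonal ones is orthogonal to each. -/
theorem orth_of_sum {a b c : G → ℂ} (ha : SignedIrr a) (hc : SignedIrr c)
    (hab : classInner a b = 0) (h : classInner (a + b) c = 0) : classInner a c = 0 := by
  rcases si_cases ha hc with e | ⟨ε, hε, e1, e2⟩
  · exact e
  · exfalso
    rw [classInner_add_left, e2, e1, classInner_smul_right, inner_symm_zero hab, mul_zero, add_zero,
      Complex.ofReal_eq_zero] at h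
    rcases hε with rfl | rfl <;> norm_num at h

theorem si_int {a : G → ℂ} (ha : SignedIrr a) : ∃ z : ℤ, a 1 = z ∧ z ≠ 0 := by
  rcases ha with h | h
  · obtain ⟨n, hn, h1⟩ := isIrrCharacter_apply_one h
    exact ⟨n, by exact_mod_cast h1, by exact_mod_cast hn.ne'⟩
  · obtain ⟨n, hn, h1⟩ := isIrrCharacter_apply_one h
    refine ⟨-(n : ℤ), ?_, neg_ne_zero.2 (by exact_mod_cast hn.ne')⟩
    push_cast
    rw [← h1, Pi.neg_apply, neg_neg]

theorem si_inner_one {a : G → ℂ} (ha : SignedIrr a) {b : G → ℂ} (hb : SignedIrr b)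
    (h : classInner a b = 1) : a = b := by
  rcases si_cases ha hb with e | ⟨ε, hε, e1, e2⟩
  · rw [e] at h; norm_num at h
  · rw [e2] at h
    rw [e1, h, one_smul]

/-- The exceptional constituents. -/
structure Data (K : Subgroup G) (μ : K →* ℂˣ) (X E1 E2 : G → ℂ) : Prop where
  siX : SignedIrr X
  si1 : SignedIrr E1
  si2 : SignedIrr E2
  muOne : μ ≠ 1
  muInv : μ⁻¹ = μ
  oX1 : classInner X E1 = 0
  oX2 : classInner X E2 = 0
  o12 : classInner E1 E2 = 0
  eq : indZ K μ = X - E1 - E2
  hX : ∀ a : K →* ℂˣ, a ≠ 1 → classInner X (indZ K a) = 1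

/-- The exceptional character of `a`. -/
noncomputable def excC (K : Subgroup G) (X : G → ℂ) (a : K →* ℂˣ) : G → ℂ := X - indZ K a

namespace Data

variable [Fintype K] (H : Hyp t K s) {μ : K →* ℂˣ} {X E1 E2 : G → ℂ} (D : Data K μ X E1 E2)
include H D

omit H in
theorem excC_mu : excC K X μ = E1 + E2 := by rw [excC, D.eq]; abel

theorem X_one : classInner X (fun _ => 1) = 0 := by
  rcases si_cases (si_one (G := G)) D.siX with e | ⟨ε, hε, e1, e2⟩
  · exact inner_symm_zero e
  · exfalso
    have h := D.hX μ D.muOne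
    rw [e1, classInner_smul_left, H.inner_one_indZ D.muOne, mul_zero] at h
    norm_num at h

theorem C_one {a : K →* ℂˣ} (ha : a ≠ 1) : classInner (excC K X a) (fun _ => 1) = 0 := by
  rw [excC, classInner_sub_left, D.X_one H, H.inner_indZ_one ha, sub_zero]

theorem indZ_X {a : K →* ℂˣ} (ha : a ≠ 1) : classInner (indZ K a) X = 1 := by
  rw [← conj_classInner, D.hX a ha, map_one]

theorem X_C {a : K →* ℂˣ} (ha : a ≠ 1) : classInner X (excC K X a) = 0 := by
  rw [excC, classInner_sub_right, si_self D.siX, D.hX a ha, sub_self]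

theorem inner_C {a b : K →* ℂˣ} [Decidable (a = b)] [Decidable (a = b⁻¹)] (ha : a ≠ 1) (hb : b ≠ 1) :
    classInner (excC K X a) (excC K X b) = (if a = b then 1 else 0) + (if a = b⁻¹ then 1 else 0) := by
  rw [excC, excC, classInner_sub_left, classInner_sub_right, classInner_sub_right, si_self D.siX,
    D.hX b hb, D.indZ_X H ha, H.inner_indZ ha hb]
  ring

theorem si_C {a : K →* ℂˣ} (ha : a ≠ 1) (hμ : a ≠ μ) : SignedIrr (excC K X a) := by
  classical
  refine si_of_norm_one (isGeneralizedCharacter_sub (si_gen D.siX) (H.indZ_gen a)) ?_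
  show classInner (excC K X a) (excC K X a) = 1
  rw [D.inner_C H ha ha, if_pos rfl,
    if_neg (fun e => hμ (H.self_inv_unique ha e.symm D.muOne D.muInv)), add_zero]

theorem E1_C {a : K →* ℂˣ} (ha : a ≠ 1) (hμ : a ≠ μ) : classInner E1 (excC K X a) = 0 := by
  classical
  refine orth_of_sum D.si1 (D.si_C H ha hμ) D.o12 ?_
  rw [← D.excC_mu, D.inner_C H D.muOne ha, if_neg (Ne.symm hμ),
    if_neg (fun e => hμ (by rw [← inv_inv a, ← e, D.muInv])), add_zero]

theorem E2_C {a : K →* ℂˣ} (ha : a ≠ 1) (hμ : a ≠ μ) : classInner E2 (excC K X a) = 0 := by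
  classical
  refine orth_of_sum D.si2 (D.si_C H ha hμ) (inner_symm_zero D.o12) ?_
  rw [add_comm, ← D.excC_mu, D.inner_C H D.muOne ha, if_neg (Ne.symm hμ),
    if_neg (fun e => hμ (by rw [← inv_inv a, ← e, D.muInv])), add_zero]

theorem E1_one : classInner E1 (fun _ => 1) = 0 :=
  orth_of_sum D.si1 si_one D.o12 (by rw [← D.excC_mu]; exact D.C_one H D.muOne)

theorem E2_one : classInner E2 (fun _ => 1) = 0 :=
  orth_of_sum D.si2 si_one (inner_symm_zero D.o12)
    (by rw [add_comm, ← D.excC_mu]; exact D.C_one H D.muOne)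

theorem X_indA {a : K →* ℂˣ} (ha : a ≠ 1) : classInner X (indA K a) = 1 := by
  rw [Hyp.indA_eq, classInner_add_right, D.hX a ha, D.X_one H, add_zero]

theorem E1_indA {a : K →* ℂˣ} (ha : a ≠ 1) [Decidable (a = μ)] :
    classInner E1 (indA K a) = -(if a = μ then 1 else 0) := by
  rw [Hyp.indA_eq, classInner_add_right, D.E1_one H, add_zero,
    show indZ K a = X - excC K X a by rw [excC]; abel, classInner_sub_right, inner_symm_zero D.oX1]
  split_ifs with h
  · subst h
    rw [D.excC_mu, classInner_add_right, si_self D.si1, D.o12]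
    ring
  · rw [D.E1_C H ha h]; ring

theorem E2_indA {a : K →* ℂˣ} (ha : a ≠ 1) [Decidable (a = μ)] :
    classInner E2 (indA K a) = -(if a = μ then 1 else 0) := by
  rw [Hyp.indA_eq, classInner_add_right, D.E2_one H, add_zero,
    show indZ K a = X - excC K X a by rw [excC]; abel, classInner_sub_right, inner_symm_zero D.oX2]
  split_ifs with h
  · subst h
    rw [D.excC_mu, classInner_add_right, si_self D.si2, inner_symm_zero D.o12]
    ring
  · rw [D.E2_C H ha h]; ring

theorem C_indA {a b : K →* ℂˣ} [Decidable (a = b)] [Decidable (a = b⁻¹)] (ha : a ≠ 1) (hb : b ≠ 1) :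
    classInner (excC K X a) (indA K b) = -((if a = b then 1 else 0) + (if a = b⁻¹ then 1 else 0)) := by
  rw [Hyp.indA_eq, classInner_add_right, D.C_one H ha, add_zero, excC, classInner_sub_left,
    D.hX b hb, H.inner_indZ ha hb]
  ring

theorem inner_indA_zero (χ : G → ℂ) : classInner χ (indA K (1 : K →* ℂˣ)) = 0 := by
  rw [Hyp.indA_zero, classInner_zero_right]

/-! ### Values on `K` -/

theorem val_X {x : K} (hx : x ≠ 1) : X x = 1 := by
  classical
  have := H.finite_dual
  have := Fintype.ofFinite (K →* ℂˣ)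
  rw [H.value (isClassFunction_of_isGeneralizedCharacter (si_gen D.siX)) hx,
    ← Finset.add_sum_erase _ _ (Finset.mem_univ (1 : K →* ℂˣ)), D.inner_indA_zero H, zero_mul, zero_add]
  have e : ∑ a ∈ Finset.univ.erase (1 : K →* ℂˣ), classInner X (indA K a) * lin a x =
      ∑ a ∈ Finset.univ.erase (1 : K →* ℂˣ), lin a x :=
    Finset.sum_congr rfl fun a ha => by rw [D.X_indA H (Finset.ne_of_mem_erase ha), one_mul]
  have e2 := H.sum_lin hx
  rw [← Finset.add_sum_erase _ _ (Finset.mem_univ (1 : K →* ℂˣ)), lin_one] at e2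
  rw [e]
  linear_combination (norm := ring_nf) -e2

theorem val_E1 {x : K} (hx : x ≠ 1) : E1 x = lin μ x := by
  classical
  have := H.finite_dual
  have := Fintype.ofFinite (K →* ℂˣ)
  rw [H.value (isClassFunction_of_isGeneralizedCharacter (si_gen D.si1)) hx, Finset.sum_eq_single μ]
  · rw [D.E1_indA H D.muOne, if_pos rfl]; ring
  · intro a _ ha
    by_cases h1 : a = 1
    · rw [h1, D.inner_indA_zero H, zero_mul]
    · rw [D.E1_indA H h1, if_neg ha]; ring
  · intro h; exact absurd (Finset.mem_univ μ) h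

theorem val_E2 {x : K} (hx : x ≠ 1) : E2 x = lin μ x := by
  classical
  have := H.finite_dual
  have := Fintype.ofFinite (K →* ℂˣ)
  rw [H.value (isClassFunction_of_isGeneralizedCharacter (si_gen D.si2)) hx, Finset.sum_eq_single μ]
  · rw [D.E2_indA H D.muOne, if_pos rfl]; ring
  · intro a _ ha
    by_cases h1 : a = 1
    · rw [h1, D.inner_indA_zero H, zero_mul]
    · rw [D.E2_indA H h1, if_neg ha]; ring
  · intro h; exact absurd (Finset.mem_univ μ) h

theorem val_C {a : K →* ℂˣ} (ha : a ≠ 1) {x : K} (hx : x ≠ 1) :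
    excC K X a x = lin a x + lin a⁻¹ x := by
  classical
  have := H.finite_dual
  have := Fintype.ofFinite (K →* ℂˣ)
  show (X - indZ K a) x = _
  rw [H.value (isClassFunction_of_isGeneralizedCharacter
    (isGeneralizedCharacter_sub (si_gen D.siX) (H.indZ_gen a))) hx]
  show -∑ b : K →* ℂˣ, classInner (excC K X a) (indA K b) * lin b x = _
  have e : ∀ b : K →* ℂˣ, classInner (excC K X a) (indA K b) * lin b x =
      -((if a = b then lin b x else 0) + (if a⁻¹ = b then lin b x else 0)) := by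
    intro b
    by_cases h1 : b = 1
    · subst h1
      rw [D.inner_indA_zero H, if_neg ha, if_neg (fun h => ha (MonoidHom.ext fun x => by simpa using DFunLike.congr_fun h x))]
      ring
    · rw [D.C_indA H ha h1]
      have e' : (a = b⁻¹) ↔ (a⁻¹ = b) :=
        ⟨fun h => by rw [h, inv_inv b], fun h => by rw [← h, inv_inv a]⟩
      simp only [e']
      split_ifs <;> ring
  simp only [e, Finset.sum_neg_distrib, Finset.sum_add_distrib, Finset.sum_ite_eq, Finset.mem_univ,
    if_true, neg_neg]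

theorem val_C_t {a : K →* ℂˣ} (ha : a ≠ 1) : excC K X a t = 2 * lin a ⟨t, H.tK⟩ := by
  have h := D.val_C H ha (x := ⟨t, H.tK⟩) (fun e => ne_one_of_two H.ot (congrArg Subtype.val e))
  rw [lin_inv_apply, show (⟨t, H.tK⟩ : K)⁻¹ = ⟨t, H.tK⟩ from Subtype.ext (inv_of_two H.ot)] at h
  exact h.trans (two_mul _).symm

theorem val_X_t : X t = 1 :=
  D.val_X H (x := ⟨t, H.tK⟩) (fun e => ne_one_of_two H.ot (congrArg Subtype.val e))

theorem val_E1_t : E1 t = lin μ ⟨t, H.tK⟩ :=
  D.val_E1 H (x := ⟨t, H.tK⟩) (fun e => ne_one_of_two H.ot (congrArg Subtype.val e))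

theorem val_E2_t : E2 t = lin μ ⟨t, H.tK⟩ :=
  D.val_E2 H (x := ⟨t, H.tK⟩) (fun e => ne_one_of_two H.ot (congrArg Subtype.val e))

/-! ### Degrees -/

omit D in
theorem C_deg (a : K →* ℂˣ) (X : G → ℂ) : excC K X a 1 = X 1 + 1 := by
  rw [excC, Pi.sub_apply, Hyp.indZ_one]
  ring

theorem E_deg : E1 1 + E2 1 = X 1 + 1 := by
  rw [← Pi.add_apply, ← D.excC_mu, Data.C_deg H]

theorem X_deg_cong : ∃ m : ℤ, X 1 = (Nat.card K : ℂ) * m + 1 := by
  classical
  have := H.finite_dual
  have := Fintype.ofFinite (K →* ℂˣ)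
  obtain ⟨m, hm⟩ := H.value_one (si_gen D.siX)
  refine ⟨m - 1, ?_⟩
  rw [hm, ← Finset.add_sum_erase _ _ (Finset.mem_univ (1 : K →* ℂˣ)), D.inner_indA_zero H,
    Finset.sum_congr rfl (g := fun _ => (1 : ℂ))
      (fun a ha => D.X_indA H (Finset.ne_of_mem_erase ha)),
    Finset.sum_const, Finset.card_erase_of_mem (Finset.mem_univ _), Finset.card_univ,
    ← Nat.card_eq_fintype_card, H.card_dual, nsmul_eq_mul,
    Nat.cast_sub (Nat.one_le_iff_ne_zero.2 Nat.card_pos.ne')]
  push_cast
  ring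

theorem gamma_mu : (Nat.card G : ℂ) * (1 + 1 / X 1 - 1 / E1 1 - 1 / E2 1) =
    4 * (Nat.card K : ℂ) ^ 3 := by
  have h := H.inner_indA_pairs D.muOne
  rw [Hyp.indA_eq, D.eq, classInner_add_left, classInner_sub_left, classInner_sub_left,
    H.inner_si_pairs D.siX, H.inner_si_pairs D.si1, H.inner_si_pairs D.si2,
    H.inner_si_pairs si_one, D.val_X_t H, D.val_E1_t H, D.val_E2_t H, pow_two (lin μ _),
    H.lin_t_sq] at h
  have hk : (Nat.card K : ℂ) ≠ 0 := Nat.cast_ne_zero.2 Nat.card_pos.ne'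
  field_simp at h ⊢
  linear_combination h

theorem gamma_other {a : K →* ℂˣ} (ha : a ≠ 1) (hμ : a ≠ μ) :
    (Nat.card G : ℂ) * (1 + 1 / X 1 - 4 / (X 1 + 1)) = 4 * (Nat.card K : ℂ) ^ 3 := by
  have h := H.inner_indA_pairs ha
  rw [Hyp.indA_eq, show indZ K a = X - excC K X a by rw [excC]; abel, classInner_add_left,
    classInner_sub_left, H.inner_si_pairs D.siX, H.inner_si_pairs (D.si_C H ha hμ),
    H.inner_si_pairs si_one, D.val_X_t H, D.val_C_t H ha, Data.C_deg H, mul_pow, pow_two (lin a _),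
    H.lin_t_sq] at h
  have hk : (Nat.card K : ℂ) ≠ 0 := Nat.cast_ne_zero.2 Nat.card_pos.ne'
  field_simp at h ⊢
  linear_combination h

/-- Representatives of the pairs `a, a⁻¹`. -/
theorem exists_reps : ∃ S : Finset (K →* ℂˣ), 2 * S.card + 2 = Nat.card K ∧
    (∀ a ∈ S, a ≠ 1 ∧ a ≠ μ) ∧ ∀ a ∈ S, ∀ b ∈ S, a ≠ b⁻¹ := by
  classical
  have := H.finite_dual
  have := Fintype.ofFinite (K →* ℂˣ)
  let e := Fintype.equivFin (K →* ℂˣ)
  set T : Finset (K →* ℂˣ) := (Finset.univ.erase 1).erase μ with hT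
  set S := T.filter fun a => e a < e a⁻¹ with hS
  have hne : ∀ a ∈ T, a ≠ a⁻¹ := by
    intro a ha h
    rw [hT, Finset.mem_erase, Finset.mem_erase] at ha
    exact ha.1 (H.self_inv_unique ha.2.1 h.symm D.muOne D.muInv)
  have hinv : ∀ a ∈ T, a⁻¹ ∈ T := by
    intro a ha
    simp only [hT, Finset.mem_erase, Finset.mem_univ, and_true] at ha ⊢
    exact ⟨fun h => ha.1 (by rw [← inv_inv a, h, D.muInv]), fun h => ha.2 (MonoidHom.ext fun x => by simpa using DFunLike.congr_fun h x)⟩
  have hST : (T.filter fun a => ¬ e a < e a⁻¹).card = S.card := by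
    refine Finset.card_bij' (fun a _ => a⁻¹) (fun a _ => a⁻¹) ?_ ?_ ?_ ?_
    · intro a ha
      rw [Finset.mem_filter] at ha
      rw [hS, Finset.mem_filter, inv_inv a]
      exact ⟨hinv a ha.1, lt_of_le_of_ne (not_lt.1 ha.2) (fun h => hne a ha.1 (e.injective h).symm)⟩
    · intro a ha
      rw [hS, Finset.mem_filter] at ha
      rw [Finset.mem_filter, inv_inv a]
      exact ⟨hinv a ha.1, not_lt.2 ha.2.le⟩
    · intro a _; exact inv_inv a
    · intro a _; exact inv_inv a
  refine ⟨S, ?_, ?_, ?_⟩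
  · have h1 := Finset.card_filter_add_card_filter_not (s := T) (fun a => e a < e a⁻¹)
    rw [hST, ← hS] at h1
    have h2 : T.card + 2 = Nat.card K := by
      rw [← H.card_dual, Nat.card_eq_fintype_card, ← Finset.card_univ, hT,
        ← Finset.card_erase_add_one (Finset.mem_univ (1 : K →* ℂˣ)),
        ← Finset.card_erase_add_one (Finset.mem_erase.2 ⟨D.muOne, Finset.mem_univ μ⟩)]
    omega
  · intro a ha
    rw [hS, Finset.mem_filter, hT, Finset.mem_erase, Finset.mem_erase] at ha
    exact ⟨ha.1.2.1, ha.1.1⟩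
  · intro a ha b hb h
    rw [hS, Finset.mem_filter] at ha hb
    have h1 := ha.2
    rw [h, inv_inv b] at h1
    exact lt_asymm h1 hb.2

/-- Column bound. -/
theorem column (g : G) {S : Finset (K →* ℂˣ)} (hS : ∀ a ∈ S, a ≠ 1 ∧ a ≠ μ)
    (hS' : ∀ a ∈ S, ∀ b ∈ S, a ≠ b⁻¹) :
    1 + Complex.normSq (X g) + Complex.normSq (E1 g) + Complex.normSq (E2 g) +
      ∑ a ∈ S, Complex.normSq (excC K X a g) ≤
      (Nat.card (Subgroup.centralizer ({g} : Set G)) : ℝ) := by
  classical
  let φ : (Fin 4 ⊕ (K →* ℂˣ)) → G → ℂ :=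
    Sum.elim ![fun _ => (1 : ℂ), X, E1, E2] (excC K X)
  have hfin : ∀ i j : Fin 4, i ≠ j → classInner (φ (Sum.inl i)) (φ (Sum.inl j)) = 0 := by
    intro i j hij
    fin_cases i <;> fin_cases j <;>
      first
      | exact absurd rfl hij
      | simp [φ, D.X_one H, D.E1_one H, D.E2_one H, inner_symm_zero (D.X_one H),
          inner_symm_zero (D.E1_one H), inner_symm_zero (D.E2_one H), D.oX1, D.oX2, D.o12,
          inner_symm_zero D.oX1, inner_symm_zero D.oX2, inner_symm_zero D.o12]
  have hmix : ∀ i : Fin 4, ∀ a : K →* ℂˣ, a ∈ S →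
      classInner (φ (Sum.inl i)) (φ (Sum.inr a)) = 0 := by
    intro i a ha
    obtain ⟨h1, h2⟩ := hS a ha
    fin_cases i <;> simp [φ, D.X_C H h1, D.E1_C H h1 h2, D.E2_C H h1 h2, inner_symm_zero (D.C_one H h1)]
  refine le_trans (le_of_eq ?_) (column_le (Finset.univ.disjSum S) φ ?_ ?_ g)
  · rw [Finset.sum_disjSum, Fin.sum_univ_four]
    simp [φ]
  · intro i hi
    rcases i with i | a
    · fin_cases i
      · exact si_one
      · exact D.siX
      · exact D.si1
      · exact D.si2
    · rw [Finset.inr_mem_disjSum] at hi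
      exact D.si_C H (hS a hi).1 (hS a hi).2
  · intro i hi j hj hij
    rcases i with i | a <;> rcases j with j | b
    · exact hfin i j fun h => hij (congrArg Sum.inl h)
    · exact hmix i b (Finset.inr_mem_disjSum.1 hj)
    · exact inner_symm_zero (hmix j a (Finset.inr_mem_disjSum.1 hi))
    · rw [Finset.inr_mem_disjSum] at hi hj
      simp only [φ, Sum.elim_inr]
      rw [D.inner_C H (hS a hi).1 (hS b hj).1, if_neg (fun h => hij (congrArg Sum.inr h)),
        if_neg (hS' a hi b hj), add_zero]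

/-! ### Values outside -/

theorem val_rest {g : G} (hg : Rest K g) (a : K →* ℂˣ) : excC K X a g = X g + 1 := by
  rw [excC, Pi.sub_apply, indZ, Pi.sub_apply, indA, Hyp.ind_eq_zero (by simp [lin]) (Or.inr hg.2)]
  ring

theorem E_rest {g : G} (hg : Rest K g) : E1 g + E2 g = X g + 1 := by
  rw [← Pi.add_apply, ← D.excC_mu, D.val_rest H hg]

end Data

end Cfsg.Agent.BSW84
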