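import Mathlib
import Cfsg.Agent.Lib.BSWData84

/-!
Existence of the exceptional constituents with equal degrees, and the degree of the common constituent.
-/

set_option autoImplicit false
set_option linter.unusedSectionVars false

namespace Cfsg.Agent.BSW84

open Cfsg Cfsg.Agent.CharBasic Cfsg.Agent.CharBasicOrth Cfsg.Agent.CharBasicDecomp
open Cfsg.Agent.CoherenceBasic
open scoped ComplexConjugate

universe u

theorem inv_bound {x : ℤ} (h4 : x % 4 = 3) (_h1 : x ≠ -1) :
    (1 : ℚ) / x ≤ 1 / 3 ∧ (x ≠ 3 → (1 : ℚ) / x ≤ 1 / 7) := by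
  rcases lt_or_ge x 0 with h | h
  · have : (1 : ℚ) / x ≤ 0 := div_nonpos_of_nonneg_of_nonpos zero_le_one (by exact_mod_cast h.le)
    exact ⟨by linarith, fun _ => by linarith⟩
  · refine ⟨one_div_le_one_div_of_le (by norm_num) (by exact_mod_cast (show (3 : ℤ) ≤ x by omega)),
      fun h3 => one_div_le_one_div_of_le (by norm_num) (by exact_mod_cast (show (7 : ℤ) ≤ x by omega))⟩

/-- The possibilities when `|K| = 2`. -/
theorem small_case (n : ℕ) (u e1 e2 : ℤ) (hu : u + 1 = e1 + e2) (hu0 : u ≠ 0)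
    (h1 : e1 % 4 = 3) (h2 : e2 % 4 = 3)
    (hG : (n : ℚ) * (1 + 1 / u - 1 / e1 - 1 / e2) = 32)
    (hsq : 1 + u * u + e1 * e1 + e2 * e2 ≤ (n : ℤ)) :
    (e1 = e2 → u = -3 ∨ u = 5) ∧ (e1 = e2 ∨ e1 = -u ∨ e2 = -u) := by
  set Γ : ℚ := 1 + 1 / u - 1 / e1 - 1 / e2 with hΓ
  have hu4 : u % 4 = 1 := by omega
  have hinvu : -(1 / 3 : ℚ) ≤ 1 / u := by
    rcases lt_or_ge u 0 with h | h
    · have h3 : (u : ℚ) ≤ -3 := by exact_mod_cast (show u ≤ -3 by omega)
      rw [le_div_iff_of_neg (by linarith)]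
      linarith
    · have : (0 : ℚ) ≤ 1 / u := div_nonneg zero_le_one (by exact_mod_cast h)
      linarith
  have hΓb : 4 / 21 ≤ Γ := by
    by_cases ha : e1 = -1
    · subst ha
      by_cases hb : e2 = -1
      · subst hb; rw [hΓ, show (1 : ℚ) / ((-1 : ℤ) : ℚ) = -1 by norm_num]; linarith
      · have := (inv_bound h2 hb).1
        rw [hΓ, show (1 : ℚ) / ((-1 : ℤ) : ℚ) = -1 by norm_num]; linarith
    by_cases hb : e2 = -1
    · subst hb
      have := (inv_bound h1 ha).1
      rw [hΓ, show (1 : ℚ) / ((-1 : ℤ) : ℚ) = -1 by norm_num]; linarith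
    have b1 := inv_bound h1 ha
    have b2 := inv_bound h2 hb
    by_cases h31 : e1 = 3
    · by_cases h32 : e2 = 3
      · subst h31; subst h32
        obtain rfl : u = 5 := by omega
        rw [hΓ]; norm_num
      · have := b2.2 h32
        rw [hΓ]; linarith [b1.1]
    · have := b1.2 h31
      rw [hΓ]; linarith [b2.1]
  have hn : (n : ℤ) ≤ 168 := by
    have : (n : ℚ) ≤ 168 := by
      have h0 : (0 : ℚ) ≤ n := Nat.cast_nonneg n
      nlinarith [mul_le_mul_of_nonneg_left hΓb h0]
    exact_mod_cast this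
  have he0 : e1 ≠ 0 ∧ e2 ≠ 0 := by omega
  have he1 : -13 < e1 ∧ e1 < 13 := by constructor <;> nlinarith [mul_self_nonneg u, mul_self_nonneg e2]
  have he2 : -13 < e2 ∧ e2 < 13 := by constructor <;> nlinarith [mul_self_nonneg u, mul_self_nonneg e1]
  have hid : (n : ℤ) * (u * e1 * e2 + e1 * e2 - u * e2 - u * e1) = 32 * (u * e1 * e2) := by
    have hu' : (u : ℚ) ≠ 0 := by exact_mod_cast hu0
    have h1' : (e1 : ℚ) ≠ 0 := by exact_mod_cast he0.1
    have h2' : (e2 : ℚ) ≠ 0 := by exact_mod_cast he0.2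
    rw [hΓ] at hG
    field_simp at hG
    have : ((n : ℤ) : ℚ) * ((u * e1 * e2 + e1 * e2 - u * e2 - u * e1 : ℤ) : ℚ) =
        ((32 * (u * e1 * e2) : ℤ) : ℚ) := by
      push_cast
      linear_combination hG
    exact_mod_cast this
  obtain rfl : u = e1 + e2 - 1 := by omega
  obtain ⟨a1, b1⟩ := he1
  obtain ⟨a2, b2⟩ := he2
  interval_cases e1 <;> interval_cases e2 <;> omega

variable {G : Type u} [Group G] [Fintype G] {t s : G} {K : Subgroup G} [Fintype K]

theorem Hyp.lin_mu_t (H : Hyp t K s) (hk : Nat.card K = 2) {μ : K →* ℂˣ} (hμ : μ ≠ 1) :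
    lin μ ⟨t, H.tK⟩ = -1 := by
  classical
  rcases mul_self_eq_one_iff.1 (H.lin_t_sq μ) with h | h
  · refine absurd (MonoidHom.ext fun x => ?_) hμ
    by_cases hx : x = 1
    · simp [hx]
    · have hu : ((Finset.univ : Finset K)) = {1, ⟨t, H.tK⟩} := by
        refine (Finset.eq_univ_of_card _ ?_).symm
        rw [Finset.card_pair (fun e => ne_one_of_two H.ot (congrArg Subtype.val e).symm),
          ← Nat.card_eq_fintype_card, hk]
      have := Finset.mem_univ x
      rw [hu, Finset.mem_insert, Finset.mem_singleton] at this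
      rw [this.resolve_left hx]
      exact Units.ext h
  · exact h

namespace Data

variable (H : Hyp t K s) {μ : K →* ℂˣ} {X E1 E2 : G → ℂ} (D : Data K μ X E1 E2)
include H D

theorem E_mod_four (hk : Nat.card K = 2) {z : ℤ} {E : G → ℂ} (hsi : SignedIrr E)
    (hz : E 1 = z) (hE : E t = lin μ ⟨t, H.tK⟩) : z % 4 = 3 := by
  classical
  have := Fintype.ofFinite (Subgroup.centralizer ({t} : Set G))
  set C := Subgroup.centralizer ({t} : Set G) with hC
  have hgen := CharInduced.isGenChar_res C (si_gen hsi)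
  obtain ⟨m, hm⟩ := classInner_isGeneralizedCharacter hgen
    (isGeneralizedCharacter_of_isCharacter (isCharacter_one (G := C)))
  have hinv : ∀ c : C, c ≠ 1 → E (c : G) = -1 := by
    intro c hc
    have hct : Commute (c : G) t := Subgroup.mem_centralizer_singleton_iff.1 c.2
    have hc1 : (c : G) ≠ 1 := fun e => hc (Subtype.ext e)
    have h2 : orderOf (c : G) = 2 := by
      rcases H.cases hct with hK | ⟨a, ha, e⟩
      · have hp := pow_card_eq_one' (x := (⟨c, hK⟩ : K))
        rw [hk] at hp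
        exact orderOf_eq_prime (congrArg Subtype.val hp) hc1
      · rw [e]; exact H.sa_two ha
    rw [apply_eq_of_isConj (isClassFunction_of_isGeneralizedCharacter (si_gen hsi))
      (H.conjI _ t h2 H.ot), hE, H.lin_mu_t hk D.muOne]
  have hcard : Nat.card C = 4 := by rw [hC, H.card_centralizer, hk]
  simp only [classInner, map_one, mul_one, hcard] at hm
  rw [← Finset.add_sum_erase _ _ (Finset.mem_univ (1 : C)),
    Finset.sum_congr rfl (g := fun _ => (-1 : ℂ)) (fun c hc => hinv c (Finset.ne_of_mem_erase hc)),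
    Finset.sum_const, Finset.card_erase_of_mem (Finset.mem_univ _), Finset.card_univ,
    ← Nat.card_eq_fintype_card, hcard, OneMemClass.coe_one, hz] at hm
  have : z - 3 = 4 * m := by
    have : ((z - 3 : ℤ) : ℂ) = ((4 * m : ℤ) : ℂ) := by
      push_cast
      linear_combination (norm := ring_nf) (4 : ℂ) * hm
    exact_mod_cast this
  omega

theorem bound {u e1 e2 : ℤ} (hu : X 1 = u) (h1 : E1 1 = e1) (h2 : E2 1 = e2) :
    2 * (1 + u * u + e1 * e1 + e2 * e2) + ((Nat.card K : ℤ) - 2) * ((u + 1) * (u + 1)) ≤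
      2 * (Nat.card G : ℤ) := by
  obtain ⟨S, hcard, hS, hS'⟩ := D.exists_reps H
  have h := D.column H 1 hS hS'
  simp only [Data.C_deg H, hu, h1, h2] at h
  have e : Nat.card (Subgroup.centralizer ({1} : Set G)) = Nat.card G := by
    rw [Subgroup.centralizer_eq_top_iff_subset.2 (by simp), Subgroup.card_top]
  rw [e] at h
  have hu1 : (u : ℂ) + 1 = ((u + 1 : ℤ) : ℂ) := by push_cast; rfl
  simp only [hu1, Complex.normSq_intCast, Finset.sum_const, nsmul_eq_mul] at h
  have hc : (S.card : ℝ) * 2 + 2 = (Nat.card K : ℝ) := by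
    rw [← hcard]; push_cast; ring
  have : ((2 * (1 + u * u + e1 * e1 + e2 * e2) + ((Nat.card K : ℤ) - 2) * ((u + 1) * (u + 1)) : ℤ) : ℝ) ≤
      ((2 * (Nat.card G : ℤ) : ℤ) : ℝ) := by
    push_cast at h ⊢
    rw [← hc]
    linarith
  exact_mod_cast this

theorem small (hk : Nat.card K = 2) {u e1 e2 : ℤ} (hu : X 1 = u) (hu0 : u ≠ 0) (h1 : E1 1 = e1)
    (h2 : E2 1 = e2) : (e1 = e2 → u = -3 ∨ u = 5) ∧ (e1 = e2 ∨ e1 = -u ∨ e2 = -u) := by
  have hd := D.E_deg H
  rw [hu, h1, h2] at hd
  refine small_case (Nat.card G) u e1 e2 (by exact_mod_cast hd.symm) hu0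
    (D.E_mod_four H hk D.si1 h1 (D.val_E1_t H)) (D.E_mod_four H hk D.si2 h2 (D.val_E2_t H)) ?_ ?_
  · have h := D.gamma_mu H
    rw [hu, h1, h2, hk] at h
    have : (((Nat.card G : ℚ) * (1 + 1 / u - 1 / e1 - 1 / e2) : ℚ) : ℂ) = ((32 : ℚ) : ℂ) := by
      push_cast
      rw [h]; norm_num
    exact_mod_cast this
  · have h := D.bound H hu h1 h2
    rw [hk] at h
    push_cast at h
    omega

theorem e_eq_of_two_lt {u e1 e2 : ℤ} (hu : X 1 = u) (hu0 : u ≠ 0) (h1 : E1 1 = e1) (h2 : E2 1 = e2)
    (he1 : e1 ≠ 0) (he2 : e2 ≠ 0) {a : K →* ℂˣ} (ha : a ≠ 1) (hμ : a ≠ μ) : e1 = e2 := by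
  have h := D.gamma_mu H
  have h' := D.gamma_other H ha hμ
  have hd := D.E_deg H
  rw [hu, h1, h2] at hd
  have hC := si_apply_one_ne_zero (D.si_C H ha hμ)
  rw [Data.C_deg H, hu, ← hd] at hC
  rw [hu, h1, h2] at h
  rw [hu, ← hd] at h'
  have hG : (Nat.card G : ℂ) ≠ 0 := Nat.cast_ne_zero.2 Nat.card_pos.ne'
  have e := mul_left_cancel₀ hG (h.trans h'.symm)
  have h1' : (e1 : ℂ) ≠ 0 := by exact_mod_cast he1
  have h2' : (e2 : ℂ) ≠ 0 := by exact_mod_cast he2
  have hu' : (u : ℂ) ≠ 0 := by exact_mod_cast hu0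
  field_simp at e
  have : ((e1 : ℂ) - e2) * ((e1 : ℂ) - e2) * u = 0 := by linear_combination -e
  rcases mul_eq_zero.1 this with h3 | h3
  · have h4 := mul_self_eq_zero.1 h3
    rw [sub_eq_zero] at h4
    exact_mod_cast h4
  · exact absurd h3 hu'

end Data

namespace Hyp

variable (H : Hyp t K s)
include H

theorem slot {a μ : K →* ℂˣ} (hμ : μ ≠ 1) (hμ' : μ⁻¹ = μ) (ha : a ≠ 1) (haμ : a ≠ μ)
    {p q l : G → ℂ} (hp : SignedIrr p) (hq : SignedIrr q) (hl : SignedIrr l)
    (hpq : classInner p q = 0) (hpl : classInner p l = 0) (hql : classInner q l = 0)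
    (hsum : indZ K μ = p + q + l) :
    (classInner p (indZ K a) = 1 ∧ classInner q (indZ K a) = 0 ∧ classInner l (indZ K a) = 0) ∨
    (classInner p (indZ K a) = 0 ∧ classInner q (indZ K a) = 1 ∧ classInner l (indZ K a) = 0) ∨
    (classInner p (indZ K a) = 0 ∧ classInner q (indZ K a) = 0 ∧ classInner l (indZ K a) = 1) := by
  classical
  obtain ⟨x, hx⟩ := classInner_isGeneralizedCharacter (si_gen hp) (H.indZ_gen a)
  obtain ⟨y, hy⟩ := classInner_isGeneralizedCharacter (si_gen hq) (H.indZ_gen a)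
  obtain ⟨z, hz⟩ := classInner_isGeneralizedCharacter (si_gen hl) (H.indZ_gen a)
  have hs : x + y + z = 1 := by
    have h := H.inner_indZ hμ ha
    rw [if_neg (Ne.symm haμ), if_neg (fun e => haμ (by rw [← inv_inv a, ← e, hμ'])), hsum,
      classInner_add_left, classInner_add_left, hx, hy, hz, add_zero, add_zero] at h
    exact_mod_cast h
  have hnorm : x * x + y * y + z * z ≤ 2 := by
    have h0 := classInner_self_nonneg (indZ K a - ((x : ℂ) • p + (y : ℂ) • q + (z : ℂ) • l))
    have hself : classInner (indZ K a) (indZ K a) = 2 := by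
      rw [H.inner_indZ ha ha, if_pos rfl,
        if_neg (fun e => haμ (H.self_inv_unique ha e.symm hμ hμ'))]
      norm_num
    have e : classInner (indZ K a - ((x : ℂ) • p + (y : ℂ) • q + (z : ℂ) • l))
        (indZ K a - ((x : ℂ) • p + (y : ℂ) • q + (z : ℂ) • l)) =
        ((2 - (x * x + y * y + z * z) : ℤ) : ℂ) := by
      have r : ∀ (f : G → ℂ) (n : ℤ), classInner f (indZ K a) = n → classInner (indZ K a) f = n :=
        fun f n h => by rw [← conj_classInner, h, map_intCast]
      simp only [classInner_sub_left, classInner_sub_right, classInner_add_left, classInner_add_right,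
        classInner_smul_left, classInner_smul_right, si_self hp, si_self hq, si_self hl, hpq, hpl, hql,
        inner_symm_zero hpq, inner_symm_zero hpl, inner_symm_zero hql, hself, hx, hy, hz, r p x hx,
        r q y hy, r l z hz, map_intCast]
      push_cast; ring
    rw [e, Complex.intCast_re] at h0
    have : (0 : ℤ) ≤ 2 - (x * x + y * y + z * z) := by exact_mod_cast h0
    omega
  have hb : (-1 ≤ x ∧ x ≤ 1) ∧ (-1 ≤ y ∧ y ≤ 1) ∧ (-1 ≤ z ∧ z ≤ 1) := by
    refine ⟨⟨?_, ?_⟩, ⟨?_, ?_⟩, ⟨?_, ?_⟩⟩ <;>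
      nlinarith [mul_self_nonneg x, mul_self_nonneg y, mul_self_nonneg z]
  obtain ⟨⟨_, _⟩, ⟨_, _⟩, ⟨_, _⟩⟩ := hb
  rw [hx, hy, hz]
  interval_cases x <;> interval_cases y <;> interval_cases z <;> first
    | omega
    | simp

/-- Two constituents of the self-conjugate induced difference cannot both be shared. -/
theorem no_two_slots {a b μ : K →* ℂˣ} (hμ : μ ≠ 1) (hμ' : μ⁻¹ = μ) (ha : a ≠ 1) (haμ : a ≠ μ)
    (hb : b ≠ 1) (hbμ : b ≠ μ) {p q l : G → ℂ} (hp : SignedIrr p) (hq : SignedIrr q) (hl : SignedIrr l)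
    (hpq : classInner p q = 0) (hpl : classInner p l = 0) (hql : classInner q l = 0)
    (hsum : indZ K μ = p + q + l)
    (hap : classInner p (indZ K a) = 1) (hbq : classInner q (indZ K b) = 1) : False := by
  classical
  have slot' := fun d h1 h2 => H.slot (a := d) hμ hμ' h1 h2 hp hq hl hpq hpl hql hsum
  have ha0 : classInner q (indZ K a) = 0 ∧ classInner l (indZ K a) = 0 := by
    rcases slot' a ha haμ with h | h | h
    · exact h.2
    · rw [h.1] at hap; norm_num at hap
    · rw [h.1] at hap; norm_num at hap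
  have hb0 : classInner p (indZ K b) = 0 ∧ classInner l (indZ K b) = 0 := by
    rcases slot' b hb hbμ with h | h | h
    · rw [h.2.1] at hbq; norm_num at hbq
    · exact ⟨h.1, h.2.2⟩
    · rw [h.2.1] at hbq; norm_num at hbq
  have hself : ∀ d : K →* ℂˣ, d ≠ 1 → d ≠ μ → classInner (indZ K d) (indZ K d) = 2 := by
    intro d h1 h2
    rw [H.inner_indZ h1 h1, if_pos rfl, if_neg (fun e => h2 (H.self_inv_unique h1 e.symm hμ hμ'))]
    norm_num
  have r : ∀ (f : G → ℂ) (d : K →* ℂˣ) (n : ℂ), classInner f (indZ K d) = n → conj n = n →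
      classInner (indZ K d) f = n := fun f d n h hn => by rw [← conj_classInner, h, hn]
  set c : G → ℂ := indZ K a - p with hc'
  have hc : SignedIrr c := by
    refine si_of_norm_one (isGeneralizedCharacter_sub (H.indZ_gen a) (si_gen hp)) ?_
    show classInner c c = 1
    rw [hc']
    simp only [classInner_sub_left, classInner_sub_right, hself a ha haμ, si_self hp, hap,
      r p a 1 hap (map_one _)]
    norm_num
  have other : ∀ (d : K →* ℂˣ) (q' : G → ℂ), d ≠ 1 → d ≠ μ → SignedIrr q' →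
      classInner q' (indZ K d) = 1 → classInner q' (indZ K a) = 0 → classInner p q' = 0 →
      classInner p (indZ K d) = 0 → d ≠ a ∧ d ≠ a⁻¹ → indZ K d = q' + c := by
    intro d q' hd hdμ hq' h1 h2 h3 h4 hne
    have hd' : SignedIrr (indZ K d - q') := by
      refine si_of_norm_one (isGeneralizedCharacter_sub (H.indZ_gen d) (si_gen hq')) ?_
      simp only [classInner_sub_left, classInner_sub_right, hself d hd hdμ, si_self hq', h1,
        r q' d 1 h1 (map_one _)]
      norm_num
    have : c = indZ K d - q' := by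
      refine si_inner_one hc hd' ?_
      rw [hc', classInner_sub_left, classInner_sub_right, classInner_sub_right, H.inner_indZ ha hd,
        if_neg (Ne.symm hne.1), if_neg (fun e => hne.2 (by rw [e, inv_inv d])),
        r q' a 0 h2 (map_zero _), h4, h3]
      ring
    rw [this, add_sub_cancel]
  have hbd : b ≠ a ∧ b ≠ a⁻¹ := by
    refine ⟨fun e => ?_, fun e => ?_⟩
    · rw [e, ha0.1] at hbq; norm_num at hbq
    · have : indA K b = indA K a := by rw [e, H.indZ_inv]
      rw [indZ, this, ← indZ, ha0.1] at hbq; norm_num at hbq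
  have hZb : indZ K b = q + c := other b q hb hbμ hq hbq ha0.1 hpq hb0.1 hbd
  have hcp : classInner p c = 0 := by
    rw [hc', classInner_sub_right, hap, si_self hp, sub_self]
  have hcq : classInner q c = 0 := by
    rw [hc', classInner_sub_right, ha0.1, inner_symm_zero hpq, sub_self]
  have hcl : classInner l c = 0 := by
    rw [hc', classInner_sub_right, ha0.2, inner_symm_zero hpl, sub_self]
  have hZa : indZ K a = p + c := by rw [hc']; abel
  -- every other pair coincides with one of the two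
  have hall : ∀ d : K →* ℂˣ, d ≠ 1 → d ≠ μ → d = a ∨ d = a⁻¹ ∨ d = b ∨ d = b⁻¹ := by
    intro d hd hdμ
    by_contra hcon
    push Not at hcon
    obtain ⟨hda, hda', hdb, hdb'⟩ := hcon
    have e1 := H.inner_indZ hd ha
    rw [if_neg hda, if_neg hda', add_zero, add_zero, hZa, classInner_add_right] at e1
    have e2 := H.inner_indZ hd hb
    rw [if_neg hdb, if_neg hdb', add_zero, add_zero, hZb, classInner_add_right] at e2
    rcases slot' d hd hdμ with h | h | h
    · rw [r p d 1 h.1 (map_one _)] at e1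
      rw [r q d 0 h.2.1 (map_zero _)] at e2
      have : classInner (indZ K d) c = 0 := by linear_combination e1
      rw [this] at e2; norm_num at e2
    · rw [r p d 0 h.1 (map_zero _)] at e1
      rw [r q d 1 h.2.1 (map_one _)] at e2
      have : classInner (indZ K d) c = 0 := by linear_combination e2
      rw [this] at e1; norm_num at e1
    · have hZd : indZ K d = l + c := other d l hd hdμ hl h.2.2 ha0.2 hpl h.1 ⟨hda, hda'⟩
      have d1 := congrFun hZa 1
      have d2 := congrFun hZb 1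
      have d3 := congrFun hZd 1
      have d4 := congrFun hsum 1
      rw [Hyp.indZ_one, Pi.add_apply] at d1 d2 d3
      rw [Hyp.indZ_one, Pi.add_apply, Pi.add_apply] at d4
      obtain ⟨z, hz, -⟩ := si_int hp
      have : ((3 * z : ℤ) : ℂ) = ((-1 : ℤ) : ℂ) := by
        push_cast
        linear_combination -d4 - 2 * d1 + d2 + d3 - 3 * hz
      have : 3 * z = -1 := by exact_mod_cast this
      omega
  have := H.finite_dual
  have := Fintype.ofFinite (K →* ℂˣ)
  have hk : Nat.card K ≤ 6 := by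
    rw [← H.card_dual, Nat.card_eq_fintype_card, ← Finset.card_univ]
    refine (Finset.card_le_card (t := {1, μ, a, a⁻¹, b, b⁻¹}) fun d _ => ?_).trans ?_
    · simp only [Finset.mem_insert, Finset.mem_singleton]
      by_cases h1 : d = 1
      · exact Or.inl h1
      by_cases h2 : d = μ
      · exact Or.inr (Or.inl h2)
      exact Or.inr (Or.inr (hall d h1 h2))
    · exact Finset.card_le_six
  -- values at `t`
  have one0 : ∀ {f g' : G → ℂ}, SignedIrr f → SignedIrr g' → classInner f g' = 0 →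
      classInner (f + g') (fun _ => 1) = 0 → classInner f (fun _ => 1) = 0 :=
    fun hf hg e1 e2 => orth_of_sum hf si_one e1 e2
  have hp1 : classInner p (fun _ => 1) = 0 :=
    one0 hp hc hcp (by rw [← hZa]; exact H.inner_indZ_one ha)
  have hc1 : classInner c (fun _ => 1) = 0 :=
    one0 hc hp (inner_symm_zero hcp) (by rw [add_comm, ← hZa]; exact H.inner_indZ_one ha)
  have hq1 : classInner q (fun _ => 1) = 0 :=
    one0 hq hc hcq (by rw [← hZb]; exact H.inner_indZ_one hb)
  have hl1 : classInner l (fun _ => 1) = 0 := by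
    have h := H.inner_indZ_one hμ
    rw [hsum, classInner_add_left, classInner_add_left, hp1, hq1, zero_add, zero_add] at h
    exact h
  set T : K := ⟨t, H.tK⟩ with hT
  have hT1 : T ≠ 1 := fun e => ne_one_of_two H.ot (congrArg Subtype.val e)
  have hμ2 : ∀ f : G → ℂ, SignedIrr f → classInner f p + classInner f q + classInner f l =
      classInner f (indZ K μ) := fun f _ => by rw [hsum, classInner_add_right, classInner_add_right]
  have hμa : μ ≠ a ∧ μ ≠ a⁻¹ ∧ μ ≠ b ∧ μ ≠ b⁻¹ :=
    ⟨Ne.symm haμ, fun e => haμ (by rw [← inv_inv a, ← e, hμ']), Ne.symm hbμ,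
      fun e => hbμ (by rw [← inv_inv b, ← e, hμ'])⟩
  have hainv : a ≠ a⁻¹ := fun e => haμ (H.self_inv_unique ha e.symm hμ hμ')
  have hbinv : b ≠ b⁻¹ := fun e => hbμ (H.self_inv_unique hb e.symm hμ hμ')
  have hba : b⁻¹ ≠ a ∧ b⁻¹ ≠ a⁻¹ :=
    ⟨fun e => hbd.2 (by rw [← e, inv_inv b]), fun e => hbd.1 (by rw [← inv_inv b, e, inv_inv a])⟩
  have hval : ∀ (f : G → ℂ) (cm ca cb : ℂ), SignedIrr f → classInner f (fun _ => 1) = 0 →
      classInner f (indZ K μ) = cm → classInner f (indZ K a) = ca → classInner f (indZ K b) = cb →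
      f t = -(cm * lin μ T + 2 * ca * lin a T + 2 * cb * lin b T) := by
    intro f cm ca cb hf hf1 hm hca hcb
    rw [show t = (T : G) from rfl, H.value (isClassFunction_of_isGeneralizedCharacter (si_gen hf)) hT1]
    have e : ∀ d : K →* ℂˣ, classInner f (indA K d) * lin d T =
        (if d = μ then cm * lin μ T else 0) + (if d = a then ca * lin a T else 0) +
        (if d = a⁻¹ then ca * lin a T else 0) + (if d = b then cb * lin b T else 0) +
        (if d = b⁻¹ then cb * lin b T else 0) := by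
      intro d
      have hTT : T⁻¹ = T := Subtype.ext (inv_of_two H.ot)
      by_cases h1 : d = 1
      · subst h1
        rw [Hyp.indA_zero, classInner_zero_right, zero_mul, if_neg (Ne.symm hμ), if_neg (Ne.symm ha),
          if_neg (Ne.symm hb), if_neg, if_neg]
        · ring
        · exact fun e => hb (MonoidHom.ext fun x => by simpa using (DFunLike.congr_fun e x).symm)
        · exact fun e => ha (MonoidHom.ext fun x => by simpa using (DFunLike.congr_fun e x).symm)
      have hA : classInner f (indA K d) = classInner f (indZ K d) := by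
        rw [Hyp.indA_eq, classInner_add_right, hf1, add_zero]
      rw [hA]
      by_cases h2 : d = μ
      · subst h2
        rw [hm, if_pos rfl, if_neg hμa.1, if_neg hμa.2.1, if_neg hμa.2.2.1, if_neg hμa.2.2.2]
        ring
      rcases hall d h1 h2 with rfl | rfl | rfl | rfl
      · rw [hca, if_neg h2, if_pos rfl, if_neg hainv, if_neg (Ne.symm hbd.1), if_neg (Ne.symm hba.1)]
        ring
      · rw [if_neg h2, if_neg (Ne.symm hainv), if_pos rfl, if_neg (Ne.symm hbd.2),
          if_neg (Ne.symm hba.2), lin_inv_apply, hTT, indZ, H.indZ_inv, ← indZ, hca]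
        ring
      · rw [hcb, if_neg h2, if_neg hbd.1, if_neg hbd.2, if_pos rfl, if_neg hbinv]
        ring
      · rw [if_neg h2, if_neg hba.1, if_neg hba.2, if_neg (Ne.symm hbinv), if_pos rfl, lin_inv_apply,
          hTT, indZ, H.indZ_inv, ← indZ, hcb]
        ring
    simp only [e, Finset.sum_add_distrib, Finset.sum_ite_eq', Finset.mem_univ, if_true]
    ring
  have hpm : classInner p (indZ K μ) = 1 := by rw [← hμ2 p hp, si_self hp, hpq, hpl]; ring
  have hqm : classInner q (indZ K μ) = 1 := by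
    rw [← hμ2 q hq, si_self hq, hql, inner_symm_zero hpq]; ring
  have hlm : classInner l (indZ K μ) = 1 := by
    rw [← hμ2 l hl, si_self hl, inner_symm_zero hpl, inner_symm_zero hql]; ring
  have hcm : classInner c (indZ K μ) = 0 := by
    rw [← hμ2 c hc, inner_symm_zero hcp, inner_symm_zero hcq, inner_symm_zero hcl]; ring
  have vp := hval p 1 1 0 hp hp1 hpm hap hb0.1
  have vq := hval q 1 0 1 hq hq1 hqm ha0.1 hbq
  have vl := hval l 1 0 0 hl hl1 hlm ha0.2 hb0.2
  have vc := hval c 0 1 1 hc hc1 hcm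
    (by rw [hZa, classInner_add_right, inner_symm_zero hcp, si_self hc, zero_add])
    (by rw [hZb, classInner_add_right, inner_symm_zero hcq, si_self hc, zero_add])
  have hcol := column_le (G := G) (ι := Fin 5) Finset.univ ![fun _ => (1 : ℂ), p, q, l, c]
    (fun i _ => by fin_cases i <;> first | exact si_one | exact hp | exact hq | exact hl | exact hc)
    (fun i _ j _ hij => by
      fin_cases i <;> fin_cases j <;>
      first
      | exact absurd rfl hij
      | simp [hp1, hq1, hl1, hc1, hpq, hpl, hql, hcp, hcq, hcl, inner_symm_zero hp1, inner_symm_zero hq1,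
          inner_symm_zero hl1, inner_symm_zero hc1, inner_symm_zero hpq, inner_symm_zero hpl,
          inner_symm_zero hql, inner_symm_zero hcp, inner_symm_zero hcq, inner_symm_zero hcl]) t
  rw [H.card_centralizer, Fin.sum_univ_five] at hcol
  have hk' : ((2 * Nat.card K : ℕ) : ℝ) ≤ 12 := by exact_mod_cast (by omega : 2 * Nat.card K ≤ 12)
  have hga : (Nat.card G : ℂ) * (1 + p t ^ 2 / p 1 + c t ^ 2 / c 1) = 4 * (Nat.card K : ℂ) ^ 3 := by
    have h := H.inner_indA_pairs ha
    rw [Hyp.indA_eq, hZa, classInner_add_left, classInner_add_left, H.inner_si_pairs hp,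
      H.inner_si_pairs hc, H.inner_si_pairs si_one] at h
    have hk0 : (Nat.card K : ℂ) ≠ 0 := Nat.cast_ne_zero.2 Nat.card_pos.ne'
    have hp0 := si_apply_one_ne_zero hp
    have hc0 := si_apply_one_ne_zero hc
    field_simp at h ⊢
    linear_combination h
  have hgb : (Nat.card G : ℂ) * (1 + q t ^ 2 / q 1 + c t ^ 2 / c 1) = 4 * (Nat.card K : ℂ) ^ 3 := by
    have h := H.inner_indA_pairs hb
    rw [Hyp.indA_eq, hZb, classInner_add_left, classInner_add_left, H.inner_si_pairs hq,
      H.inner_si_pairs hc, H.inner_si_pairs si_one] at h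
    have hk0 : (Nat.card K : ℂ) ≠ 0 := Nat.cast_ne_zero.2 Nat.card_pos.ne'
    have hq0 := si_apply_one_ne_zero hq
    have hc0 := si_apply_one_ne_zero hc
    field_simp at h ⊢
    linear_combination h
  have hG : (Nat.card G : ℂ) ≠ 0 := Nat.cast_ne_zero.2 Nat.card_pos.ne'
  have e := mul_left_cancel₀ hG (hga.trans hgb.symm)
  have d1 := congrFun hZa 1
  have d2 := congrFun hZb 1
  rw [Hyp.indZ_one, Pi.add_apply] at d1 d2
  have hdeg : q 1 = p 1 := by linear_combination d1 - d2
  rw [hdeg, add_left_inj, add_right_inj, div_left_inj' (si_apply_one_ne_zero hp), vp, vq] at e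
  simp only [Matrix.cons_val_zero, Matrix.cons_val_one, Matrix.cons_val, vp, vq, vl, vc] at hcol
  rw [Nat.card_eq_fintype_card] at hk'
  push_cast at hk'
  rcases mul_self_eq_one_iff.1 (H.lin_t_sq μ) with hm | hm <;>
    rcases mul_self_eq_one_iff.1 (H.lin_t_sq a) with hA | hA <;>
      rcases mul_self_eq_one_iff.1 (H.lin_t_sq b) with hB | hB <;>
        rw [← hT] at hm hA hB <;> rw [hm, hA, hB] at e hcol <;>
          (norm_num at e <;> norm_num [Complex.normSq_apply] at hcol <;> linarith)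

theorem exists_data {μ : K →* ℂˣ} (hμ : μ ≠ 1) (hμ' : μ⁻¹ = μ) :
    ∃ X E1 E2 : G → ℂ, Data K μ X E1 E2 ∧ E1 1 = E2 1 ∧
      (Nat.card K = 2 → X 1 = -3 ∨ X 1 = 5) := by
  classical
  have hgen := H.indZ_gen μ
  have hn : classInner (indZ K μ) (indZ K μ) = 3 := by
    rw [H.inner_indZ hμ hμ, if_pos rfl, if_pos hμ'.symm]; norm_num
  obtain ⟨p, q, l, hp, hq, hl, hpq, hpl, hql, hsum⟩ := si_sum_of_norm_three hgen hn
  have neg : ∀ {f : G → ℂ}, SignedIrr f → SignedIrr (-f) := fun {f} h => by
    rcases h with h | h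
    · exact Or.inr (by rwa [neg_neg])
    · exact Or.inl h
  have nz : ∀ {f g' : G → ℂ}, classInner f g' = 0 → classInner f (-g') = 0 ∧ classInner (-f) g' = 0 ∧
      classInner (-f) (-g') = 0 := fun h => by simp [classInner_neg_left, classInner_neg_right, h]
  have mk : ∀ {x y z : G → ℂ}, SignedIrr x → SignedIrr y → SignedIrr z → classInner x y = 0 →
      classInner x z = 0 → classInner y z = 0 → indZ K μ = x + y + z →
      (∀ a : K →* ℂˣ, a ≠ 1 → a ≠ μ → classInner x (indZ K a) = 1) → Data K μ x (-y) (-z) := by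
    intro x y z hx hy hz hxy hxz hyz he hall
    refine ⟨hx, neg hy, neg hz, hμ, hμ', (nz hxy).1, (nz hxz).1, (nz hyz).2.2, by rw [he]; abel, ?_⟩
    intro a ha
    by_cases haμ : a = μ
    · rw [haμ, he, classInner_add_right, classInner_add_right, si_self hx, hxy, hxz]
      ring
    · exact hall a ha haμ
  by_cases hk : Nat.card K = 2
  · have := H.finite_dual
    have := Fintype.ofFinite (K →* ℂˣ)
    have honly : ∀ a : K →* ℂˣ, a ≠ 1 → a = μ := by
      intro a ha
      have hu : ({1, μ} : Finset (K →* ℂˣ)) = Finset.univ := by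
        refine Finset.eq_univ_of_card _ ?_
        rw [Finset.card_pair (Ne.symm hμ), ← Nat.card_eq_fintype_card, H.card_dual, hk]
      have := Finset.mem_univ a
      rw [← hu, Finset.mem_insert, Finset.mem_singleton] at this
      exact this.resolve_left ha
    have vac : ∀ x : G → ℂ, ∀ a : K →* ℂˣ, a ≠ 1 → a ≠ μ → classInner x (indZ K a) = 1 :=
      fun x a h1 h2 => absurd (honly a h1) h2
    have D := mk hp hq hl hpq hpl hql hsum (vac p)
    obtain ⟨u, hu, hu0⟩ := si_int hp
    obtain ⟨e1, he1, he10⟩ := si_int (neg hq)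
    obtain ⟨e2, he2, he20⟩ := si_int (neg hl)
    have fin : ∀ {x y z : G → ℂ}, Data K μ x y z → x 1 ≠ 0 → y 1 = z 1 →
        x 1 = -3 ∨ x 1 = 5 := by
      intro x y z D' hx0 hyz
      obtain ⟨u', hu', hu0'⟩ := si_int D'.siX
      obtain ⟨f1, hf1, -⟩ := si_int D'.si1
      obtain ⟨f2, hf2, -⟩ := si_int D'.si2
      have hf : f1 = f2 := by rw [hf1, hf2] at hyz; exact_mod_cast hyz
      rcases (D'.small H hk hu' hu0' hf1 hf2).1 hf with h | h <;> rw [hu', h] <;> norm_num
    have done : ∀ {x y z : G → ℂ}, Data K μ x y z → y 1 = z 1 →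
        ∃ X E1 E2 : G → ℂ, Data K μ X E1 E2 ∧ E1 1 = E2 1 ∧ (Nat.card K = 2 → X 1 = -3 ∨ X 1 = 5) :=
      fun D' h => ⟨_, _, _, D', h, fun _ => fin D' (si_apply_one_ne_zero D'.siX) h⟩
    rcases (D.small H hk hu hu0 he1 he2).2 with h | h | h
    · exact done D (by rw [he1, he2, h])
    · refine done (mk hl hp hq (inner_symm_zero hpl) (inner_symm_zero hql) hpq
        (by rw [hsum]; abel) (vac l)) ?_
      rw [he1, h, Pi.neg_apply, hu]
      push_cast; ring
    · refine done (mk hq hp hl (inner_symm_zero hpq) hql hpl (by rw [hsum]; abel) (vac q)) ?_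
      rw [he2, h, Pi.neg_apply, hu]
      push_cast; ring
  · have := H.finite_dual
    obtain ⟨a0, ha0, ha0μ⟩ : ∃ a : K →* ℂˣ, a ≠ 1 ∧ a ≠ μ := by
      have := Fintype.ofFinite (K →* ℂˣ)
      by_contra hcon
      push Not at hcon
      refine hk (le_antisymm ?_ ?_)
      · rw [← H.card_dual, Nat.card_eq_fintype_card, ← Finset.card_univ]
        refine (Finset.card_le_card (t := {1, μ}) fun d _ => ?_).trans Finset.card_le_two
        by_cases h : d = 1
        · simp [h]
        · simp [hcon d h]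
      · exact Nat.le_of_dvd Nat.card_pos H.even_card
    have fin : ∀ {x y z : G → ℂ}, Data K μ x y z →
        ∃ X E1 E2 : G → ℂ, Data K μ X E1 E2 ∧ E1 1 = E2 1 ∧ (Nat.card K = 2 → X 1 = -3 ∨ X 1 = 5) := by
      intro x y z D'
      obtain ⟨u, hu, hu0⟩ := si_int D'.siX
      obtain ⟨f1, hf1, hf10⟩ := si_int D'.si1
      obtain ⟨f2, hf2, hf20⟩ := si_int D'.si2
      refine ⟨_, _, _, D', ?_, fun h => absurd h hk⟩
      rw [hf1, hf2, D'.e_eq_of_two_lt H hu hu0 hf1 hf2 hf10 hf20 ha0 ha0μ]
    rcases H.slot hμ hμ' ha0 ha0μ hp hq hl hpq hpl hql hsum with h | h | h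
    · refine fin (mk hp hq hl hpq hpl hql hsum fun a ha haμ => ?_)
      rcases H.slot hμ hμ' ha haμ hp hq hl hpq hpl hql hsum with h' | h' | h'
      · exact h'.1
      · exact (H.no_two_slots hμ hμ' ha0 ha0μ ha haμ hp hq hl hpq hpl hql hsum h.1 h'.2.1).elim
      · exact (H.no_two_slots hμ hμ' ha0 ha0μ ha haμ hp hl hq hpl hpq (inner_symm_zero hql)
          (by rw [hsum]; abel) h.1 h'.2.2).elim
    · refine fin (mk hq hp hl (inner_symm_zero hpq) hql hpl (by rw [hsum]; abel) fun a ha haμ => ?_)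
      rcases H.slot hμ hμ' ha haμ hp hq hl hpq hpl hql hsum with h' | h' | h'
      · exact (H.no_two_slots hμ hμ' ha0 ha0μ ha haμ hq hp hl (inner_symm_zero hpq) hql hpl
          (by rw [hsum]; abel) h.2.1 h'.1).elim
      · exact h'.2.1
      · exact (H.no_two_slots hμ hμ' ha0 ha0μ ha haμ hq hl hp hql (inner_symm_zero hpq)
          (inner_symm_zero hpl) (by rw [hsum]; abel) h.2.1 h'.2.2).elim
    · refine fin (mk hl hp hq (inner_symm_zero hpl) (inner_symm_zero hql) hpq (by rw [hsum]; abel)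
        fun a ha haμ => ?_)
      rcases H.slot hμ hμ' ha haμ hp hq hl hpq hpl hql hsum with h' | h' | h'
      · exact (H.no_two_slots hμ hμ' ha0 ha0μ ha haμ hl hp hq (inner_symm_zero hpl)
          (inner_symm_zero hql) hpq (by rw [hsum]; abel) h.2.2 h'.1).elim
      · exact (H.no_two_slots hμ hμ' ha0 ha0μ ha haμ hl hq hp (inner_symm_zero hql)
          (inner_symm_zero hpl) (inner_symm_zero hpq) (by rw [hsum]; abel) h.2.2 h'.2.1).elim
      · exact h'.2.2

end Hyp

end Cfsg.Agent.BSW84
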