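import Mathlib
import Cfsg.Agent.Lib.BSWLabel84

/-!
The group order and the numbers of inverting involutions in the Brauer-Suzuki-Wall configuration.
-/

set_option autoImplicit false
set_option linter.unusedSectionVars false

namespace Cfsg.Agent.BSW84

open Cfsg Cfsg.Agent.CharBasic Cfsg.Agent.CharBasicOrth Cfsg.Agent.CharBasicDecomp
open Cfsg.Agent.CoherenceBasic
open scoped ComplexConjugate

universe u

variable {G : Type u} [Group G] [Fintype G] {t s : G} {K : Subgroup G} [Fintype K]

theorem si_integral {f : G → ℂ} (hf : SignedIrr f) (g : G) : IsIntegral ℤ (f g) := by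
  rcases hf with h | h
  · exact isCharacter_integral (isCharacter_of_isIrrCharacter h) g
  · simpa using (isCharacter_integral (isCharacter_of_isIrrCharacter h) g).neg

theorem int_of_integral_rat {w : ℂ} (h : IsIntegral ℤ w) {r : ℚ} (hr : w = (r : ℂ)) :
    ∃ z : ℤ, w = z := by
  have h1 : IsIntegral ℤ r :=
    (isIntegral_algebraMap_iff (A := ℚ) (B := ℂ) (algebraMap ℚ ℂ).injective).1 (by simpa [← hr] using h)
  obtain ⟨z, hz⟩ := IsIntegrallyClosed.isIntegral_iff.1 h1
  refine ⟨z, ?_⟩
  rw [hr, ← hz]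
  simp

/-- The outcome of the character theoretic part. -/
structure Counts (K : Subgroup G) (u : ℤ) : Prop where
  card_G : (Nat.card G : ℤ) = (Nat.card K : ℤ) * u * (u + 1)
  u_cases : u = 1 + 2 * (Nat.card K : ℤ) ∨ u = 1 - 2 * (Nat.card K : ℤ)
  pairs_eq : ∀ g, Rest K g → 4 * (Nat.card K : ℤ) * pairs g = (u + 1) * (u - 1) ∨
    4 * (Nat.card K : ℤ) * pairs g = u * (u + 1) + 2 * ((Nat.card K : ℤ) - 1) * u
  card_one : ((Nat.card {g : G // Rest K g ∧
    4 * (Nat.card K : ℤ) * pairs g = u * (u + 1) + 2 * ((Nat.card K : ℤ) - 1) * u}) : ℤ) = u * u - 1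
  card_rest : 2 * (Nat.card {g : G // Rest K g} : ℤ) + 2 + u * (u + 1) * ((Nat.card K : ℤ) - 1) =
    2 * (Nat.card G : ℤ)
  centralizer_le : ∀ g, Rest K g →
    4 * (Nat.card K : ℤ) * pairs g = u * (u + 1) + 2 * ((Nat.card K : ℤ) - 1) * u →
    Nat.card K + 1 ≤ 2 * Nat.card (Subgroup.centralizer ({g} : Set G))

namespace Data

variable (H : Hyp t K s) {μ : K →* ℂˣ} {X E1 E2 : G → ℂ} (D : Data K μ X E1 E2)
include H D

theorem pairs_formula {u : ℤ} (hu : X 1 = u) (hE : E1 1 = E2 1) {g : G} (hg : Rest K g) :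
    (pairs g : ℂ) = (Nat.card G : ℂ) / (4 * (Nat.card K : ℂ) ^ 2) *
      (1 + X g / u + 2 * ((Nat.card K : ℂ) - 1) * (X g + 1) / (u + 1)) := by
  classical
  have := H.finite_dual
  have := Fintype.ofFinite (K →* ℂˣ)
  have hd := D.E_deg H
  have hu1 : (u : ℂ) + 1 ≠ 0 := by
    intro h
    rw [hu, h, ← hE] at hd
    exact si_apply_one_ne_zero D.si1 (by linear_combination hd / 2)
  have hE1 : E1 1 = ((u : ℂ) + 1) / 2 := by
    rw [hu, ← hE] at hd
    linear_combination hd / 2
  have hlf : ∀ a : K →* ℂˣ, a ≠ 1 → lin a ⟨t, H.tK⟩ * lf t g (indA K a) =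
      lin a ⟨t, H.tK⟩ * (1 + X g / u) - 2 * (X g + 1) / ((u : ℂ) + 1) := by
    intro a ha
    have hC : lf t g (excC K X a) = lin a ⟨t, H.tK⟩ * (2 * (X g + 1) / ((u : ℂ) + 1)) := by
      by_cases hμ : a = μ
      · subst hμ
        rw [D.excC_mu, lf_add, lf_si t g D.si1, lf_si t g D.si2, D.val_E1_t H, D.val_E2_t H,
          H.conj_lin_t, ← hE, hE1, ← D.E_rest H hg]
        field_simp
      · rw [lf_si t g (D.si_C H ha hμ), D.val_C_t H ha, map_mul, map_ofNat, H.conj_lin_t,
          D.val_rest H hg, Data.C_deg H, hu]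
        ring
    rw [Hyp.indA_eq, show indZ K a = X - excC K X a by rw [excC]; abel, lf_add, lf_sub,
      lf_si t g D.siX, lf_si t g si_one, hC, D.val_X_t H, hu]
    simp only [map_one, one_mul, div_one]
    linear_combination -(2 * (X g + 1) / ((u : ℂ) + 1)) * H.lin_t_sq a
  rw [H.pairs_expand g, ← Finset.add_sum_erase _ _ (Finset.mem_univ (1 : K →* ℂˣ))]
  have h0 : lf t g (indA K (1 : K →* ℂˣ)) = 0 := by
    rw [Hyp.indA_zero, lf]
    simp [classInner_zero_left]
  rw [h0, mul_zero, zero_add, Finset.sum_congr rfl fun a ha => hlf a (Finset.ne_of_mem_erase ha),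
    Finset.sum_sub_distrib, ← Finset.sum_mul, Finset.sum_const, Finset.card_erase_of_mem
    (Finset.mem_univ _), Finset.card_univ, ← Nat.card_eq_fintype_card, H.card_dual, nsmul_eq_mul,
    Nat.cast_sub (Nat.one_le_iff_ne_zero.2 Nat.card_pos.ne')]
  have hs := H.sum_lin (x := ⟨t, H.tK⟩) (fun e => ne_one_of_two H.ot (congrArg Subtype.val e))
  rw [← Finset.add_sum_erase _ _ (Finset.mem_univ (1 : K →* ℂˣ))] at hs
  have hone : lin (1 : K →* ℂˣ) ⟨t, H.tK⟩ = 1 := by simp [lin]
  rw [hone, add_eq_zero_iff_eq_neg] at hs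
  rw [show ∑ a ∈ Finset.univ.erase (1 : K →* ℂˣ), lin a ⟨t, H.tK⟩ = -1 by rw [hs, neg_neg]]
  push_cast
  ring

theorem column_half {g : G} (hg : Rest K g) (hX : X g = 0) :
    Nat.card K + 1 ≤ 2 * Nat.card (Subgroup.centralizer ({g} : Set G)) := by
  obtain ⟨S, hcard, hS, hS'⟩ := D.exists_reps H
  have h := D.column H g hS hS'
  have hE := congrArg Complex.re (D.E_rest H hg)
  simp only [hX, zero_add, Complex.add_re, Complex.one_re] at hE
  simp only [D.val_rest H hg, hX, zero_add, map_one, map_zero, Finset.sum_const, nsmul_eq_mul,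
    mul_one, add_zero] at h
  have h1 : (E1 g).re * (E1 g).re ≤ Complex.normSq (E1 g) := by
    rw [Complex.normSq_apply]; nlinarith [mul_self_nonneg (E1 g).im]
  have h2 : (E2 g).re * (E2 g).re ≤ Complex.normSq (E2 g) := by
    rw [Complex.normSq_apply]; nlinarith [mul_self_nonneg (E2 g).im]
  have hc : (S.card : ℝ) * 2 + 2 = (Nat.card K : ℝ) := by
    rw [← hcard]; push_cast; ring
  have : ((Nat.card K + 1 : ℕ) : ℝ) ≤ ((2 * Nat.card (Subgroup.centralizer ({g} : Set G)) : ℕ) : ℝ) := by
    push_cast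
    nlinarith [mul_self_nonneg ((E1 g).re - (E2 g).re), h, h1, h2]
  exact_mod_cast this

end Data

theorem Hyp.card_conj_K (H : Hyp t K s) [DecidablePred fun g : G => g ≠ 1 ∧ InK K g] :
    2 * Nat.card K * (Finset.univ.filter fun g : G => g ≠ 1 ∧ InK K g).card =
      Nat.card G * (Nat.card K - 1) := by
  classical
  set f : K → ℂ := fun x => if x = 1 then 0 else 1 with hf
  have hval : ∀ g : G, indFun K f g = if g ≠ 1 ∧ InK K g then 2 else 0 := by
    intro g
    split_ifs with h
    · obtain ⟨hg, c, hc⟩ := h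
      have hx : (⟨_, hc⟩ : K) ≠ 1 := fun e => hg (by simpa using congrArg Subtype.val e)
      rw [← CharInduced.isClassFunction_ind K f g c, show c * g * c⁻¹ = ((⟨_, hc⟩ : K) : G) from rfl,
        H.ind_value f hx, hf]
      simp only [inv_eq_one, hx, if_false]
      norm_num
    · refine Hyp.ind_eq_zero (by simp [hf]) ?_
      by_cases hg : g = 1
      · exact Or.inl hg
      · exact Or.inr fun h' => h ⟨hg, h'⟩
  have h1 := CharInduced.inner_ind_left K f (χ := fun _ : G => (1 : ℂ)) (fun _ _ => rfl)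
  simp only [classInner, map_one, mul_one] at h1
  rw [Finset.sum_congr rfl fun g _ => hval g, ← Finset.sum_filter, Finset.sum_const, nsmul_eq_mul,
    ← Finset.add_sum_erase _ _ (Finset.mem_univ (1 : K))] at h1
  rw [show f 1 = 0 by simp [hf], zero_add,
    Finset.sum_congr rfl (g := fun _ => (1 : ℂ)) (fun x hx => by simp [hf, Finset.ne_of_mem_erase hx]),
    Finset.sum_const, nsmul_eq_mul, Finset.card_erase_of_mem (Finset.mem_univ _), Finset.card_univ,
    ← Nat.card_eq_fintype_card, mul_one] at h1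
  have hG : (Nat.card G : ℂ) ≠ 0 := Nat.cast_ne_zero.2 Nat.card_pos.ne'
  have hk : (Nat.card K : ℂ) ≠ 0 := Nat.cast_ne_zero.2 Nat.card_pos.ne'
  have h2 : ((2 * Nat.card K * (Finset.univ.filter fun g : G => g ≠ 1 ∧ InK K g).card : ℕ) : ℂ) =
      ((Nat.card G * (Nat.card K - 1) : ℕ) : ℂ) := by
    push_cast
    field_simp at h1
    linear_combination h1
  exact_mod_cast h2

set_option maxHeartbeats 1600000 in
theorem Hyp.exists_counts (H : Hyp t K s) : ∃ u : ℤ, Counts K u := by
  classical
  obtain ⟨μ, hμ, hμ'⟩ := H.exists_mu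
  obtain ⟨X, E1, E2, D, hE, hk2⟩ := H.exists_data hμ hμ'
  obtain ⟨u, hu, hu0⟩ := si_int D.siX
  obtain ⟨e, he, he0⟩ := si_int D.si1
  have hd := D.E_deg H
  rw [← hE, he, hu] at hd
  have hue : u + 1 = 2 * e := by
    have : ((u + 1 : ℤ) : ℂ) = ((2 * e : ℤ) : ℂ) := by push_cast; linear_combination -hd
    exact_mod_cast this
  set k : ℤ := (Nat.card K : ℤ) with hk
  have hkpos : 0 < k := by rw [hk]; exact_mod_cast Nat.card_pos
  have hgam : (Nat.card G : ℤ) * ((u - 1) * (u - 1)) = 4 * k ^ 3 * (u * (u + 1)) := by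
    have h := D.gamma_mu H
    rw [← hE, he, hu] at h
    have hu' : (u : ℂ) ≠ 0 := by exact_mod_cast hu0
    have he' : (e : ℂ) ≠ 0 := by exact_mod_cast he0
    field_simp at h
    have hue' : (u : ℂ) + 1 = 2 * e := by exact_mod_cast hue
    have : (((Nat.card G : ℤ) * ((u - 1) * (u - 1)) : ℤ) : ℂ) = ((4 * k ^ 3 * (u * (u + 1)) : ℤ) : ℂ) := by
      rw [hk]
      push_cast
      rw [show (u : ℂ) = 2 * e - 1 by linear_combination hue'] at h ⊢
      linear_combination 2 * h
    exact_mod_cast this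
  obtain ⟨m, hm⟩ := D.X_deg_cong H
  have hum : u - 1 = k * m := by
    have : ((u - 1 : ℤ) : ℂ) = ((k * m : ℤ) : ℂ) := by
      rw [hk]; push_cast; rw [← hu, hm]; ring
    exact_mod_cast this
  have hGm : (Nat.card G : ℤ) * (m * m) = 4 * k * (u * (u + 1)) := by
    refine mul_left_cancel₀ (pow_ne_zero 2 hkpos.ne') ?_
    rw [hum] at hgam
    linear_combination hgam
  have hbd := D.bound H hu he (hE ▸ he)
  have hm2 : m = 2 ∨ m = -2 := by
    by_cases hk' : Nat.card K = 2
    · rw [hk, hk'] at hum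
      push_cast at hum
      rcases hk2 hk' with h | h <;> rw [hu] at h
      · have : u = -3 := by exact_mod_cast h
        omega
      · have : u = 5 := by exact_mod_cast h
        omega
    have hk4 : 4 ≤ k := by
      obtain ⟨c, hc⟩ := H.even_card
      have := Nat.card_pos (α := K)
      omega
    have hm0 : m ≠ 0 := by
      rintro rfl
      rw [mul_zero, mul_zero] at hGm
      rcases mul_eq_zero.1 hGm.symm with h | h
      · omega
      · rcases mul_eq_zero.1 h with h | h <;> omega
    have hm3 : -3 < m ∧ m < 3 := by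
      rw [← not_le, ← not_le, ← not_or]
      intro h3
      have h9 : 9 ≤ m * m := by rcases h3 with h | h <;> nlinarith
      have hG0 : (0 : ℤ) ≤ Nat.card G := Int.natCast_nonneg _
      have h18 : 18 + 18 * (u * u) + 9 * (k - 1) * ((u + 1) * (u + 1)) ≤ 8 * k * (u * (u + 1)) := by
        have e2 : 4 * (e * e) = (u + 1) * (u + 1) := by rw [hue]; ring
        have : 2 + 2 * (u * u) + (k - 1) * ((u + 1) * (u + 1)) ≤ 2 * (Nat.card G : ℤ) := by
          rw [← hk] at hbd; nlinarith
        nlinarith [mul_le_mul_of_nonneg_left h9 hG0]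
      rcases h3 with h | h
      · have : u ≤ -11 := by nlinarith
        nlinarith [mul_nonneg (mul_nonneg (by omega : (0:ℤ) ≤ k + 9) (by omega : (0:ℤ) ≤ -u - 11))
          (by omega : (0:ℤ) ≤ -u), sq_nonneg u]
      · have : 13 ≤ u := by nlinarith
        nlinarith [mul_nonneg (by omega : (0:ℤ) ≤ 10 * k - 18) (by omega : (0:ℤ) ≤ u), sq_nonneg u]
    rcases (show m = 2 ∨ m = -2 ∨ m * m = 1 by
      obtain ⟨h1, h2⟩ := hm3
      interval_cases m <;> simp_all) with h | h | h
    · exact Or.inl h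
    · exact Or.inr h
    · exfalso
      apply H.not_four_dvd
      rw [h, mul_one] at hGm
      have : (4 * k : ℤ) ∣ (Nat.card G : ℤ) := ⟨u * (u + 1), hGm⟩
      rw [hk] at this
      exact_mod_cast this
  have hcardG : (Nat.card G : ℤ) = k * u * (u + 1) := by
    rcases hm2 with rfl | rfl <;> linarith
  have hucase : u = 1 + 2 * k ∨ u = 1 - 2 * k := by
    rcases hm2 with rfl | rfl
    · left; linarith
    · right; linarith
  have hu1 : (u : ℂ) + 1 ≠ 0 := by
    have : u + 1 ≠ 0 := by omega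
    exact_mod_cast this
  have hP : ∀ g, Rest K g → (4 * (k : ℂ) * pairs g) =
      (u + 1) * (u - 1) + (X g + 1) * ((u : ℂ) + 1 + 2 * ((k : ℂ) - 1) * u) := by
    intro g hg
    rw [D.pairs_formula H hu hE hg, show (Nat.card G : ℂ) = (k : ℂ) * u * (u + 1) by exact_mod_cast hcardG,
      show (Nat.card K : ℂ) = (k : ℂ) by rw [hk]; push_cast; rfl]
    have hu' : (u : ℂ) ≠ 0 := by exact_mod_cast hu0
    have hk' : (k : ℂ) ≠ 0 := by exact_mod_cast hkpos.ne'
    field_simp
    ring
  have hco : u + 1 + 2 * (k - 1) * u ≠ 0 := by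
    rcases hucase with h | h <;> subst h
    · nlinarith
    · have h2 : 2 ≤ k := by
        rw [hk]; exact_mod_cast Nat.le_of_dvd Nat.card_pos H.even_card
      nlinarith
  have hwint : ∀ g, Rest K g → ∃ z : ℤ, X g + 1 = z := by
    intro g hg
    refine int_of_integral_rat ((si_integral D.siX g).add isIntegral_one)
      (r := (4 * (k : ℚ) * pairs g - (u + 1) * (u - 1)) / ((u + 1 + 2 * (k - 1) * u : ℤ) : ℚ)) ?_
    have hco' : ((u + 1 + 2 * (k - 1) * u : ℤ) : ℂ) ≠ 0 := by exact_mod_cast hco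
    push_cast at hco' ⊢
    rw [eq_div_iff hco']
    linear_combination -(hP g hg)
  choose! w hw using hwint
  -- integer values of the common constituent
  let S : Finset G := Finset.univ.filter fun g : G => g ≠ 1 ∧ InK K g
  let R : Finset G := Finset.univ.filter fun g : G => Rest K g
  have hsplit : ∀ {M : Type} [AddCommMonoid M] (f : G → M),
      ∑ g, f g = f 1 + (∑ g ∈ S, f g + ∑ g ∈ R, f g) := by
    intro M _ f
    rw [← Finset.add_sum_erase _ _ (Finset.mem_univ (1 : G)), ← Finset.sum_union]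
    · congr 1
      refine Finset.sum_congr ?_ fun _ _ => rfl
      ext g
      simp only [S, R, Finset.mem_erase, Finset.mem_union, Finset.mem_filter, Finset.mem_univ, true_and,
        and_true]
      unfold Rest
      tauto
    · rw [Finset.disjoint_left]
      intro g h1 h2
      exact (Finset.mem_filter.1 h2).2.2 (Finset.mem_filter.1 h1).2.2
  have hXS : ∀ g ∈ S, X g = 1 := by
    intro g hg
    obtain ⟨hg1, c, hc⟩ := (Finset.mem_filter.1 hg).2
    rw [← isClassFunction_of_isGeneralizedCharacter (si_gen D.siX) g c]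
    exact D.val_X H (x := ⟨_, hc⟩) (fun e => hg1 (by simpa using congrArg Subtype.val e))
  have hXR : ∀ g ∈ R, X g = ((w g - 1 : ℤ) : ℂ) := by
    intro g hg
    push_cast
    rw [← hw g (Finset.mem_filter.1 hg).2]
    ring
  have hS : 2 * (S.card : ℤ) = u * (u + 1) * (k - 1) := by
    have h0 := H.card_conj_K
    have h1 : 1 ≤ Nat.card K := Nat.card_pos
    zify [h1] at h0
    rw [← hk, hcardG] at h0
    refine mul_left_cancel₀ hkpos.ne' ?_
    linear_combination h0
  have hsum1 : u + (S.card : ℤ) + ∑ g ∈ R, (w g - 1) = 0 := by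
    have h0 : ∑ g : G, X g = 0 := by
      have := D.X_one H
      simp only [classInner, map_one, mul_one] at this
      exact (mul_eq_zero.1 this).resolve_left (inv_ne_zero (Nat.cast_ne_zero.2 Nat.card_pos.ne'))
    rw [hsplit X, hu, Finset.sum_congr rfl hXS, Finset.sum_congr rfl hXR, Finset.sum_const,
      nsmul_eq_mul, mul_one] at h0
    have : ((u + (S.card : ℤ) + ∑ g ∈ R, (w g - 1) : ℤ) : ℂ) = ((0 : ℤ) : ℂ) := by
      push_cast at h0 ⊢
      linear_combination h0
    exact_mod_cast this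
  have hsum2 : u * u + (S.card : ℤ) + ∑ g ∈ R, (w g - 1) * (w g - 1) = (Nat.card G : ℤ) := by
    have h0 : ∑ g : G, X g * conj (X g) = (Nat.card G : ℂ) := by
      have := si_self D.siX
      rw [classInner, inv_mul_eq_iff_eq_mul₀ (Nat.cast_ne_zero.2 Nat.card_pos.ne'), mul_one] at this
      exact this
    rw [hsplit (fun g => X g * conj (X g)), hu,
      Finset.sum_congr (s₁ := S) rfl (g := fun _ => (1 : ℂ)) (fun g hg => by rw [hXS g hg, map_one, mul_one]),
      Finset.sum_congr (s₁ := R) rfl (g := fun g => (((w g - 1) * (w g - 1) : ℤ) : ℂ))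
        (fun g hg => by rw [hXR g hg, map_intCast]; push_cast; rfl),
      Finset.sum_const, nsmul_eq_mul, mul_one, map_intCast] at h0
    have : ((u * u + (S.card : ℤ) + ∑ g ∈ R, (w g - 1) * (w g - 1) : ℤ) : ℂ) =
        ((Nat.card G : ℤ) : ℂ) := by
      push_cast at h0 ⊢
      linear_combination h0
    exact_mod_cast this
  have hzero : ∑ g ∈ R, w g * (w g - 1) = 0 := by
    rw [Finset.sum_congr rfl (g := fun g => (w g - 1) * (w g - 1) + (w g - 1)) (fun g _ => by ring),
      Finset.sum_add_distrib]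
    linear_combination hsum1 + hsum2 + hcardG - hS
  have hw01 : ∀ g ∈ R, w g = 0 ∨ w g = 1 := by
    intro g hg
    have hnn : ∀ i ∈ R, 0 ≤ w i * (w i - 1) := fun i _ => by
      rcases le_or_gt (w i) 0 with h | h <;> nlinarith
    rcases mul_eq_zero.1 ((Finset.sum_eq_zero_iff_of_nonneg hnn).1 hzero g hg) with h | h
    · exact Or.inl h
    · exact Or.inr (by omega)
  have hall : (R.card : ℤ) + 1 + S.card = (Nat.card G : ℤ) := by
    have := hsplit (fun _ : G => (1 : ℤ))
    simp only [Finset.sum_const, Finset.card_univ, nsmul_eq_mul, mul_one] at this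
    rw [Nat.card_eq_fintype_card]
    linarith
  have hPz : ∀ g, Rest K g →
      4 * k * pairs g = (u + 1) * (u - 1) + w g * (u + 1 + 2 * (k - 1) * u) := by
    intro g hg
    have h := hP g hg
    rw [hw g hg] at h
    exact_mod_cast h
  have hiff : ∀ g, Rest K g →
      (4 * k * pairs g = u * (u + 1) + 2 * (k - 1) * u ↔ w g = 1) := by
    intro g hg
    rw [hPz g hg]
    refine ⟨fun h => mul_right_cancel₀ hco (by linear_combination h), fun h => by rw [h]; ring⟩
  refine ⟨u, hcardG, hucase, ?_, ?_, ?_, ?_⟩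
  · intro g hg
    rcases hw01 g (Finset.mem_filter.2 ⟨Finset.mem_univ g, hg⟩) with h | h
    · left; rw [hPz g hg, h]; ring
    · right; rw [← hk, hiff g hg, h]
  · have h1 : ∑ g ∈ R, w g = ((R.filter fun g => w g = 1).card : ℤ) := by
      rw [Finset.card_filter, Nat.cast_sum]
      refine Finset.sum_congr rfl fun g hg => ?_
      rcases hw01 g hg with h | h <;> simp [h]
    have h2 : ∑ g ∈ R, (w g - 1) = ((R.filter fun g => w g = 1).card : ℤ) - R.card := by
      rw [Finset.sum_sub_distrib, h1]; simp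
    have h3 : Nat.card {g : G // Rest K g ∧
        4 * k * pairs g = u * (u + 1) + 2 * (k - 1) * u} = (R.filter fun g => w g = 1).card := by
      rw [Nat.card_eq_fintype_card]
      refine Fintype.card_of_subtype _ fun g => ?_
      simp only [R, Finset.mem_filter, Finset.mem_univ, true_and]
      exact ⟨fun h => ⟨h.1, (hiff g h.1).2 h.2⟩, fun h => ⟨h.1, (hiff g h.1).1 h.2⟩⟩
    rw [← hk, h3]
    linear_combination hsum1 - h2 + hall - hS + hcardG
  · have h3 : Nat.card {g : G // Rest K g} = R.card := by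
      rw [Nat.card_eq_fintype_card]
      exact Fintype.card_of_subtype _ fun g => by simp [R]
    rw [← hk, h3]
    linear_combination 2 * hall - hS
  · intro g hg h
    rw [← hk, hiff g hg] at h
    refine D.column_half H hg ?_
    have h' := hw g hg
    rw [h, Int.cast_one] at h'
    linear_combination h'

end Cfsg.Agent.BSW84
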