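import Mathlib
import Cfsg.Agent.Lib.BSWGroup84

/-!
Self-centralising trivial intersection subgroups inverted by an involution in the Brauer-Suzuki-Wall
configuration, and Sylow facts used to locate them.
-/

set_option autoImplicit false
set_option linter.unusedSectionVars false

namespace Cfsg.Agent.BSW84

variable {G : Type*} [Group G] [Finite G] {t s : G} {K : Subgroup G}

/-- An element is moved by the subgroup at most to its inverse. -/
def Pm (L : Subgroup G) : Prop :=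
  ∀ x ∈ L, ∀ n : G, x ≠ 1 → n * x * n⁻¹ ∈ L → n * x * n⁻¹ = x ∨ n * x * n⁻¹ = x⁻¹

theorem mem_normalizer_of_forall {Q : Subgroup G} {n : G} (h : ∀ y ∈ Q, n * y * n⁻¹ ∈ Q) :
    n ∈ Subgroup.normalizer (Q : Set G) := by
  rw [Subgroup.mem_normalizer_iff]
  have hinj : Function.Injective (fun y : Q => (⟨_, h y y.2⟩ : Q)) := by
    intro y z hyz
    exact Subtype.ext (mul_left_cancel (mul_right_cancel (congrArg Subtype.val hyz)))
  refine fun y => ⟨h y, fun hy => ?_⟩
  obtain ⟨z, hz⟩ := Finite.injective_iff_surjective.1 hinj ⟨_, hy⟩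
  have : (z : G) = y := mul_left_cancel (mul_right_cancel (congrArg Subtype.val hz))
  exact this ▸ z.2

theorem odd_inverted {x n : G} (hx : x * x = 1 → x = 1) (hn : Odd (orderOf n))
    (h : n * x * n⁻¹ = x⁻¹) : x = 1 := by
  have h2 : ∀ j : ℕ, n ^ (2 * j) * x * (n ^ (2 * j))⁻¹ = x := by
    intro j
    induction j with
    | zero => simp
    | succ j ih =>
      have e : n ^ (2 * (j + 1)) = n ^ (2 * j) * (n * n) := by rw [Nat.mul_succ, pow_add, pow_two]
      have e2 : n * n * x * (n * n)⁻¹ = x := by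
        calc n * n * x * (n * n)⁻¹ = n * (n * x * n⁻¹) * n⁻¹ := by group
        _ = n * x⁻¹ * n⁻¹ := by rw [h]
        _ = (n * x * n⁻¹)⁻¹ := by group
        _ = x := by rw [h, inv_inv]
      rw [e]
      calc n ^ (2 * j) * (n * n) * x * (n ^ (2 * j) * (n * n))⁻¹ =
          n ^ (2 * j) * (n * n * x * (n * n)⁻¹) * (n ^ (2 * j))⁻¹ := by group
      _ = x := by rw [e2, ih]
  obtain ⟨j, hj⟩ := hn
  have e := pow_orderOf_eq_one n
  rw [hj, pow_succ] at e
  have h3 := h2 j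
  rw [eq_inv_of_mul_eq_one_left e] at h3
  refine hx (mul_eq_one_iff_eq_inv.2 ?_)
  have : x = n * x * n⁻¹ := by
    calc x = n * (n⁻¹ * x * n) * n⁻¹ := by group
    _ = n * x * n⁻¹ := by rw [inv_inv] at h3; rw [h3]
  exact this.trans h

/-- A `p`-subgroup is conjugate into a subgroup of index prime to `p`. -/
theorem conj_into (p : ℕ) [hp : Fact p.Prime] (L : Subgroup G) (hL : ¬ p ∣ L.index) {R : Subgroup G}
    (hR : IsPGroup p R) : ∃ c : G, ∀ x ∈ R, c * x * c⁻¹ ∈ L := by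
  obtain ⟨S⟩ : Nonempty (Sylow p L) := inferInstance
  have hcard : Nat.card ((S : Subgroup L).map L.subtype) = p ^ (Nat.card G).factorization p := by
    rw [Subgroup.card_map_of_injective L.subtype_injective, Sylow.card_eq_multiplicity,
      ← L.card_mul_index, Nat.factorization_mul Nat.card_pos.ne' Subgroup.index_ne_zero_of_finite,
      Finsupp.add_apply, Nat.factorization_eq_zero_of_not_dvd hL, add_zero]
  let T : Sylow p G := Sylow.ofCard _ hcard
  obtain ⟨S', hS'⟩ := hR.exists_le_sylow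
  obtain ⟨c, hc⟩ := MulAction.exists_smul_eq G S' T
  refine ⟨c, fun x hx => ?_⟩
  have h1 : c * x * c⁻¹ ∈ ((c • S' : Sylow p G) : Subgroup G) := by
    rw [Sylow.coe_subgroup_smul]
    exact ⟨x, hS' hx, rfl⟩
  rw [hc] at h1
  obtain ⟨y, -, hy⟩ := h1
  have : (y : G) = c * x * c⁻¹ := hy
  rw [← this]
  exact y.2

/-- Burnside: the `p`-elements of `M` generate a `p`-group. -/
theorem pClosed (p : ℕ) [Fact p.Prime] (M : Subgroup G)
    (h : ∀ r : ℕ, r.Prime → r ≠ p → r ∣ Nat.card M → ∀ R : Subgroup G, R ≤ M → IsPGroup r R →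
      ∀ n ∈ M, (∀ x ∈ R, n * x * n⁻¹ ∈ R) → ∀ x ∈ R, n * x * n⁻¹ = x) :
    ∃ J : Subgroup G, J ≤ M ∧ IsPGroup p J ∧ (∀ x ∈ M, (∃ k : ℕ, x ^ p ^ k = 1) → x ∈ J) ∧
      ∀ n ∈ M, ∀ x ∈ J, n * x * n⁻¹ ∈ J := by
  set J : Subgroup M := Subgroup.closure {x : M | ∃ k : ℕ, x ^ p ^ k = 1} with hJ
  have hr : ∀ r : ℕ, r.Prime → r ≠ p → ¬ r ∣ Nat.card J := by
    intro r hr hrp hdvd
    have := Fact.mk hr
    obtain ⟨P⟩ : Nonempty (Sylow r M) := inferInstance
    have hrM : r ∣ Nat.card M := hdvd.trans (Subgroup.card_subgroup_dvd_card J)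
    have hP : Subgroup.normalizer ((P : Subgroup M) : Set M) ≤
        Subgroup.centralizer ((P : Subgroup M) : Set M) := by
      intro n hn
      rw [Subgroup.mem_centralizer_iff]
      intro x hx
      have key := h r hr hrp hrM ((P : Subgroup M).map M.subtype) (Subgroup.map_subtype_le _)
        (P.isPGroup'.map _) n n.2 ?_ x ⟨x, hx, rfl⟩
      · have key' : n * x * n⁻¹ = x := Subtype.ext key
        calc x * n = n * x * n⁻¹ * n := by rw [key']
        _ = n * x := by group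
      · rintro _ ⟨y, hy, rfl⟩
        exact ⟨n * y * n⁻¹, (Subgroup.mem_normalizer_iff.1 hn y).1 hy, rfl⟩
    have hle : J ≤ (MonoidHom.transferSylow P hP).ker := by
      rw [hJ, Subgroup.closure_le]
      rintro x ⟨k, hk⟩
      rw [SetLike.mem_coe, MonoidHom.mem_ker, ← orderOf_eq_one_iff]
      set y := MonoidHom.transferSylow P hP x
      have h1 : orderOf y ∣ p ^ k := orderOf_dvd_of_pow_eq_one (by rw [← map_pow, hk, map_one])
      obtain ⟨j, hj⟩ := IsPGroup.iff_orderOf.1 P.isPGroup' y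
      rw [hj] at h1 ⊢
      exact Nat.eq_one_of_dvd_coprimes ((Nat.coprime_pow_primes j k hr (Fact.out) hrp)) dvd_rfl h1
    exact MonoidHom.not_dvd_card_ker_transferSylow P hP (hdvd.trans (Subgroup.card_dvd_of_le hle))
  have hJp : IsPGroup p J := by
    refine IsPGroup.of_card (n := (Nat.card J).factorization p) ?_
    refine Nat.eq_of_factorization_eq Nat.card_pos.ne' (pow_ne_zero _ (Fact.out : p.Prime).ne_zero) ?_
    intro r
    rw [Nat.Prime.factorization_pow Fact.out, Finsupp.single_apply]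
    split_ifs with hrp
    · rw [hrp]
    · by_cases hr' : r.Prime
      · exact Nat.factorization_eq_zero_of_not_dvd (hr r hr' (Ne.symm hrp))
      · exact Nat.factorization_eq_zero_of_not_prime _ hr'
  have hnorm : ∀ n : M, ∀ x ∈ J, n * x * n⁻¹ ∈ J := by
    intro n x hx
    have hmap : J.map (MulAut.conj n).toMonoidHom ≤ J := by
      rw [hJ, MonoidHom.map_closure, Subgroup.closure_le]
      rintro _ ⟨y, ⟨k, hk⟩, rfl⟩
      refine Subgroup.subset_closure ⟨k, ?_⟩
      rw [← map_pow, hk, map_one]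
    exact hmap ⟨x, hx, rfl⟩
  refine ⟨J.map M.subtype, Subgroup.map_subtype_le _, hJp.map _, ?_, ?_⟩
  · rintro x hx ⟨k, hk⟩
    exact ⟨⟨x, hx⟩, Subgroup.subset_closure ⟨k, Subtype.ext (by simpa using hk)⟩, rfl⟩
  · rintro n hn _ ⟨x, hx, rfl⟩
    exact ⟨_, hnorm ⟨n, hn⟩ x hx, rfl⟩

namespace Hyp

variable (H : Hyp t K s)
include H

theorem pm_K : Pm K := fun _ hx _ h1 h => H.conj_K hx h h1

/-- Transport of the configuration by conjugation. -/
theorem map (h : G) : Hyp (h * t * h⁻¹) (K.map (MulAut.conj h).toMonoidHom) (h * s * h⁻¹) where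
  ot := (orderOf_conj_eq h t).trans H.ot
  os := (orderOf_conj_eq h s).trans H.os
  comm := by
    rintro _ ⟨a, ha, rfl⟩ _ ⟨b, hb, rfl⟩
    rw [← map_mul, ← map_mul, H.comm a ha b hb]
  tK := ⟨t, H.tK, rfl⟩
  st := H.st.map (MulAut.conj h).toMonoidHom
  sK := by
    rintro ⟨a, ha, e⟩
    have : a = s := (MulAut.conj h).injective e
    exact H.sK (this ▸ ha)
  inv := by
    rintro _ ⟨a, ha, rfl⟩
    show h * s * h⁻¹ * (h * a * h⁻¹) * (h * s * h⁻¹)⁻¹ = (h * a * h⁻¹)⁻¹
    calc _ = h * (s * a * s⁻¹) * h⁻¹ := by group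
    _ = _ := by rw [H.inv a ha]; group
  cent := by
    intro c hc
    have hc' : Commute (h⁻¹ * c * h) t := by
      show h⁻¹ * c * h * t = t * (h⁻¹ * c * h)
      calc h⁻¹ * c * h * t = h⁻¹ * (c * (h * t * h⁻¹)) * h := by group
      _ = h⁻¹ * ((h * t * h⁻¹) * c) * h := by rw [hc.eq]
      _ = t * (h⁻¹ * c * h) := by group
    rcases H.cent _ hc' with h1 | h1
    · exact Or.inl ⟨_, h1, show h * (h⁻¹ * c * h) * h⁻¹ = c by group⟩
    · exact Or.inr ⟨_, h1, show h * (s * (h⁻¹ * c * h)) * h⁻¹ = h * s * h⁻¹ * c by group⟩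
  uniq := by
    rintro _ ⟨a, ha, rfl⟩ e
    rw [← map_mul] at e
    rcases H.uniq a ha ((MulAut.conj h).injective (e.trans (map_one _).symm)) with e' | e'
    · exact Or.inl (by rw [e', map_one])
    · exact Or.inr (by rw [e']; rfl)
  ti := by
    rintro g _ ⟨a, ha, rfl⟩ ⟨b, hb, e⟩ h1
    have e' : h * b * h⁻¹ = g * (h * a * h⁻¹) * g⁻¹ := e
    have hmem : h⁻¹ * g * h * a * (h⁻¹ * g * h)⁻¹ ∈ K := by
      have : h⁻¹ * g * h * a * (h⁻¹ * g * h)⁻¹ = b := by
        calc _ = h⁻¹ * (g * (h * a * h⁻¹) * g⁻¹) * h := by group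
        _ = b := by rw [← e']; group
      rw [this]; exact hb
    have hc := H.ti _ a ha hmem (fun e0 => h1 (by rw [e0, map_one]))
    show g * (h * t * h⁻¹) = h * t * h⁻¹ * g
    calc g * (h * t * h⁻¹) = h * (h⁻¹ * g * h * t) * h⁻¹ := by group
    _ = h * (t * (h⁻¹ * g * h)) * h⁻¹ := by rw [hc.eq]
    _ = h * t * h⁻¹ * g := by group
  conjI := H.conjI

theorem inK_map {h g : G} : InK (K.map (MulAut.conj h).toMonoidHom) g ↔ InK K g := by
  constructor
  · rintro ⟨x, a, ha, e⟩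
    have e' : h * a * h⁻¹ = x * g * x⁻¹ := e
    refine ⟨h⁻¹ * x, ?_⟩
    have : h⁻¹ * x * g * (h⁻¹ * x)⁻¹ = a := by
      calc _ = h⁻¹ * (x * g * x⁻¹) * h := by group
      _ = a := by rw [← e']; group
    rw [this]; exact ha
  · rintro ⟨x, hx⟩
    exact ⟨h * x, _, hx, show h * (x * g * x⁻¹) * h⁻¹ = h * x * g * (h * x)⁻¹ by group⟩

theorem exists_map {a : G} (ha : orderOf a = 2) :
    ∃ K' : Subgroup G, ∃ s' : G, Hyp a K' s' ∧ Nat.card K' = Nat.card K ∧
      ∀ g, Rest K g → Rest K' g := by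
  obtain ⟨h, hh⟩ := isConj_iff.1 (H.conjI t a H.ot ha)
  refine ⟨_, _, hh ▸ H.map h, ?_, fun g hg => ⟨hg.1, fun e => hg.2 (H.inK_map.1 e)⟩⟩
  exact Nat.card_congr (K.equivMapOfInjective _ (MulAut.conj h).injective).toEquiv.symm

theorem rest_inv {g : G} (hg : Rest K g) : Rest K g⁻¹ :=
  H.rest_of_comm hg (Commute.refl g).inv_right (inv_ne_one.2 hg.1)

theorem rest_ne_inv {g : G} (hg : Rest K g) : g * g ≠ 1 := fun h =>
  hg.2 (H.inK_of_two (two_of h hg.1))

theorem pairs_ne_zero {g a : G} (hg : Rest K g) (ha : orderOf a = 2) (hag : a * g * a = g⁻¹) :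
    pairs g ≠ 0 := by
  rw [H.pairs_eq_card hg ha hag]
  exact Nat.card_pos.ne'

/-- The centraliser of an element with a non-real centralised element. -/
theorem pairs_zero_of_comm {g y : G} (hg : Rest K g) (h0 : pairs g = 0) (hy : Commute g y)
    (hy1 : y ≠ 1) : Rest K y ∧ pairs y = 0 := by
  have hr := H.rest_of_comm hg hy hy1
  refine ⟨hr, ?_⟩
  by_contra hne
  obtain ⟨a, ha, hay⟩ := H.exists_inverter hr hne
  exact H.pairs_ne_zero hg ha (H.inv_centralizer hr ha hay hy.symm) h0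

/-- An involution normalising a subgroup of remaining elements inverts each of its elements. -/
theorem invert_of_normalize {Q : Subgroup G} (hQ : ∀ y ∈ Q, y ≠ 1 → Rest K y) {c : G}
    (hc : orderOf c = 2) (hn : ∀ y ∈ Q, c * y * c ∈ Q) {y : G} (hy : y ∈ Q) : c * y * c = y⁻¹ := by
  have hcc := mul_self_of_two hc
  let f : Q → Q := fun z => ⟨(z : G)⁻¹ * (c * z * c), Q.mul_mem (Q.inv_mem z.2) (hn z z.2)⟩
  have hinj : Function.Injective f := by
    intro z w hzw
    have h1 : (z : G)⁻¹ * (c * z * c) = (w : G)⁻¹ * (c * w * c) := congrArg Subtype.val hzw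
    by_contra hne
    have hmem : (w : G) * (z : G)⁻¹ ∈ Q := Q.mul_mem w.2 (Q.inv_mem z.2)
    have hne1 : (w : G) * (z : G)⁻¹ ≠ 1 := fun e => hne (Subtype.ext (mul_inv_eq_one.1 e).symm)
    refine H.not_two_comm (hQ _ hmem hne1) hc ?_
    have h3 : c * (z : G)⁻¹ * c = (c * z * c)⁻¹ := by
      rw [mul_inv_rev, mul_inv_rev, inv_of_two hc]; group
    have h2 : (w : G) * (z : G)⁻¹ = c * ((w : G) * (z : G)⁻¹) * c := by
      calc (w : G) * (z : G)⁻¹ = w * ((z : G)⁻¹ * (c * z * c)) * (c * z * c)⁻¹ := by group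
      _ = w * ((w : G)⁻¹ * (c * w * c)) * (c * z * c)⁻¹ := by rw [h1]
      _ = c * w * c * (c * (z : G)⁻¹ * c) := by rw [h3]; group
      _ = c * w * (c * c) * (z : G)⁻¹ * c := by group
      _ = c * ((w : G) * (z : G)⁻¹) * c := by rw [hcc, mul_one]; group
    show (w : G) * (z : G)⁻¹ * c = c * ((w : G) * (z : G)⁻¹)
    conv_lhs => rw [h2]
    rw [mul_assoc (c * ((w : G) * (z : G)⁻¹)), hcc, mul_one]
  obtain ⟨⟨z, hz⟩, hzy⟩ := Finite.injective_iff_surjective.1 hinj ⟨y, hy⟩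
  have h1 : z⁻¹ * (c * z * c) = y := congrArg Subtype.val hzy
  rw [← h1, mul_inv_rev, inv_inv, mul_inv_rev, mul_inv_rev, inv_of_two hc]
  calc c * (z⁻¹ * (c * z * c)) * c = c * z⁻¹ * c * z * (c * c) := by group
  _ = c * (z⁻¹ * c) * z := by rw [hcc, mul_one]; group

end Hyp

/-- A self-centralising subgroup inverted by an involution. -/
structure Inverted (K : Subgroup G) (Q : Subgroup G) (a : G) : Prop where
  two : orderOf a = 2
  self : ∀ y ∈ Q, y ≠ 1 → Subgroup.centralizer ({y} : Set G) = Q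
  rest : ∀ y ∈ Q, y ≠ 1 → Rest K y
  inv : ∀ y ∈ Q, a * y * a = y⁻¹
  comm : ∀ x ∈ Q, ∀ y ∈ Q, x * y = y * x
  nt : Q ≠ ⊥

namespace Inverted

variable {Q : Subgroup G} {a : G} (H : Hyp t K s) (I : Inverted K Q a)
include H I

omit H in
theorem conj_a (y : G) (hy : y ∈ Q) : a * y * a⁻¹ = y⁻¹ := by rw [inv_of_two I.two, I.inv y hy]

omit H in
theorem a_mem : a ∈ Subgroup.normalizer (Q : Set G) :=
  mem_normalizer_of_forall fun y hy => by rw [I.conj_a y hy]; exact Q.inv_mem hy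

omit H in
theorem normal_of_conj {x n : G} (hx : x ∈ Q) (h1 : x ≠ 1) (h : n * x * n⁻¹ ∈ Q) :
    n ∈ Subgroup.normalizer (Q : Set G) := by
  refine mem_normalizer_of_forall fun y hy => ?_
  rw [← I.self _ h (by simpa using h1)]
  rw [Subgroup.mem_centralizer_singleton_iff]
  calc n * y * n⁻¹ * (n * x * n⁻¹) = n * (y * x) * n⁻¹ := by group
  _ = n * (x * y) * n⁻¹ := by rw [I.comm y hy x hx]
  _ = n * x * n⁻¹ * (n * y * n⁻¹) := by group

/-- The normaliser is `Q` by the part centralising the involution. -/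
theorem decompose {n : G} (hn : n ∈ Subgroup.normalizer (Q : Set G)) :
    ∃ d ∈ Q, d⁻¹ * n ∈ Subgroup.normalizer (Q : Set G) ∧ Commute (d⁻¹ * n) a := by
  obtain ⟨y, hy, hy1⟩ := Subgroup.bot_or_exists_ne_one Q |>.resolve_left I.nt
  have haa := mul_self_of_two I.two
  have hq0 : a * (n * a * n⁻¹) ∈ Q := by
    rw [← I.self y hy hy1, Subgroup.mem_centralizer_singleton_iff]
    have hy' : n⁻¹ * y * n ∈ Q := (Subgroup.mem_normalizer_iff''.1 hn y).1 hy
    have e : n * a * n⁻¹ * y * (n * a * n⁻¹) = y⁻¹ := by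
      calc _ = n * (a * (n⁻¹ * y * n) * a) * n⁻¹ := by group
      _ = y⁻¹ := by rw [I.inv _ hy']; group
    have e' : n * a * n⁻¹ * y = y⁻¹ * (n * a * n⁻¹) := by
      have h2 : (n * a * n⁻¹) * (n * a * n⁻¹) = 1 := by
        calc _ = n * (a * a) * n⁻¹ := by group
        _ = 1 := by rw [haa]; group
      calc n * a * n⁻¹ * y = n * a * n⁻¹ * y * ((n * a * n⁻¹) * (n * a * n⁻¹)) := by rw [h2, mul_one]
      _ = (n * a * n⁻¹ * y * (n * a * n⁻¹)) * (n * a * n⁻¹) := by group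
      _ = _ := by rw [e]
    have e2 : a * y⁻¹ = y * a := by
      rw [← I.inv y hy, ← mul_assoc, ← mul_assoc, haa, one_mul]
    calc a * (n * a * n⁻¹) * y = a * y⁻¹ * (n * a * n⁻¹) := by
          rw [mul_assoc a (n * a * n⁻¹) y, e', ← mul_assoc a]
    _ = y * (a * (n * a * n⁻¹)) := by rw [e2, mul_assoc]
  have hinj : Function.Injective (fun z : Q => z * z) := by
    intro z w hzw
    have h1 : (z : G) * z = w * w := congrArg Subtype.val hzw
    by_contra hne
    have hne1 : (z : G) * (w : G)⁻¹ ≠ 1 := fun e => hne (Subtype.ext (mul_inv_eq_one.1 e))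
    refine H.rest_ne_inv (I.rest _ (Q.mul_mem z.2 (Q.inv_mem w.2)) hne1) ?_
    calc (z : G) * (w : G)⁻¹ * ((z : G) * (w : G)⁻¹) = z * ((w : G)⁻¹ * z) * (w : G)⁻¹ := by group
    _ = z * (z * (w : G)⁻¹) * (w : G)⁻¹ := by rw [I.comm _ (Q.inv_mem w.2) _ z.2]
    _ = (z * z) * ((w : G) * w)⁻¹ := by group
    _ = 1 := by rw [h1, mul_inv_cancel]
  obtain ⟨⟨d, hd⟩, hdd⟩ := Finite.injective_iff_surjective.1 hinj ⟨_, Q.inv_mem hq0⟩
  have hdd' : d * d = (a * (n * a * n⁻¹))⁻¹ := congrArg Subtype.val hdd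
  have hdn : d ∈ Subgroup.normalizer (Q : Set G) := Subgroup.le_normalizer hd
  refine ⟨d, hd, Subgroup.mul_mem _ (Subgroup.inv_mem _ hdn) hn, ?_⟩
  have key : n * a * n⁻¹ = d * a * d⁻¹ := by
    calc n * a * n⁻¹ = a * (a * (n * a * n⁻¹)) := by rw [← mul_assoc, haa, one_mul]
    _ = a * (d * d)⁻¹ := by rw [hdd', inv_inv]
    _ = a * d⁻¹ * d⁻¹ := by group
    _ = d * a * d⁻¹ := by
      congr 1
      calc a * d⁻¹ = a * (a * d * a) := by rw [I.inv d hd]
      _ = d * a := by rw [← mul_assoc, ← mul_assoc, haa, one_mul]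
  show d⁻¹ * n * a = a * (d⁻¹ * n)
  calc d⁻¹ * n * a = d⁻¹ * (n * a * n⁻¹) * n := by group
  _ = a * (d⁻¹ * n) := by rw [key]; group

theorem fix_eq_one {y : G} (hy : y ∈ Q) (h : Commute y a) : y = 1 := by
  by_contra h1
  exact H.not_two_comm (I.rest y hy h1) I.two h

/-- The part centralising the involution lies in the corresponding conjugate of `K`. -/
theorem mem_K {K' : Subgroup G} {s' : G} (H' : Hyp a K' s') {c : G}
    (hc : c ∈ Subgroup.normalizer (Q : Set G)) (hca : Commute c a) : c ∈ K' := by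
  rcases H'.cases hca with h | ⟨z, hz, rfl⟩
  · exact h
  · have h2 : orderOf (s' * z) = 2 := H'.sa_two hz
    have hn : ∀ y ∈ Q, s' * z * y * (s' * z) ∈ Q := fun y hy => by
      have := (Subgroup.mem_normalizer_iff.1 hc y).1 hy
      rwa [inv_of_two h2] at this
    obtain ⟨y, hy, hy1⟩ := Subgroup.bot_or_exists_ne_one Q |>.resolve_left I.nt
    have hinv := H.invert_of_normalize I.rest h2 hn hy
    have hmem : a * (s' * z) ∈ Q := by
      rw [← I.self y hy hy1, Subgroup.mem_centralizer_singleton_iff]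
      have e1 : s' * z * y = y⁻¹ * (s' * z) := by
        rw [← hinv, mul_assoc (s' * z * y) (s' * z) (s' * z), mul_self_of_two h2, mul_one]
      have e2 : a * y⁻¹ = y * a := by
        rw [← I.inv y hy, ← mul_assoc, ← mul_assoc, mul_self_of_two I.two, one_mul]
      calc a * (s' * z) * y = a * y⁻¹ * (s' * z) := by rw [mul_assoc a (s' * z) y, e1, ← mul_assoc a]
      _ = y * (a * (s' * z)) := by rw [e2, mul_assoc]
    have e := I.fix_eq_one H hmem ((Commute.refl a).mul_left hca)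
    rw [← inv_eq_of_mul_eq_one_right e]
    exact K'.inv_mem H'.tK

/-- The centralising part has order `|N(Q) : Q|`. -/
theorem card_normalizer {K' : Subgroup G} {s' : G} (H' : Hyp a K' s') :
    Nat.card (Subgroup.normalizer (Q : Set G)) =
      Nat.card Q * Nat.card (Subgroup.normalizer (Q : Set G) ⊓ K' : Subgroup G) := by
  rw [← Nat.card_prod]
  symm
  refine Nat.card_congr (Equiv.ofBijective (fun qc => ⟨qc.1.1 * qc.2.1,
    Subgroup.mul_mem _ (Subgroup.le_normalizer qc.1.2) qc.2.2.1⟩) ⟨?_, ?_⟩)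
  · intro x y hxy
    have h1 : (x.1 : G) * x.2 = y.1 * y.2 := congrArg Subtype.val hxy
    have h2 : (y.1 : G)⁻¹ * x.1 = y.2 * (x.2 : G)⁻¹ := by
      rw [eq_mul_inv_iff_mul_eq, mul_assoc, h1, inv_mul_cancel_left]
    have h3 : (y.1 : G)⁻¹ * x.1 = 1 := I.fix_eq_one H (Q.mul_mem (Q.inv_mem y.1.2) x.1.2) (by
      rw [h2]
      exact (H'.comm_t y.2.2.2).mul_left (H'.comm_t (K'.inv_mem x.2.2.2)))
    rw [h3] at h2
    exact Prod.ext (Subtype.ext (inv_mul_eq_one.1 h3).symm)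
      (Subtype.ext (mul_inv_eq_one.1 h2.symm).symm)
  · rintro ⟨n, hn⟩
    obtain ⟨d, hd, hc, hca⟩ := I.decompose H hn
    exact ⟨(⟨d, hd⟩, ⟨d⁻¹ * n, hc, I.mem_K H H' hc hca⟩), Subtype.ext (mul_inv_cancel_left d n)⟩

/-- The centralising part acts semiregularly. -/
theorem card_dvd {K' : Subgroup G} {s' : G} (H' : Hyp a K' s') :
    Nat.card (Subgroup.normalizer (Q : Set G) ⊓ K' : Subgroup G) ∣ Nat.card Q - 1 := by
  classical
  set E : Subgroup G := Subgroup.normalizer (Q : Set G) ⊓ K' with hE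
  let X := {y : G // y ∈ Q ∧ y ≠ 1}
  let _ : MulAction E X :=
    { smul := fun e y => ⟨e.1 * y.1 * e.1⁻¹, (Subgroup.mem_normalizer_iff.1 e.2.1 y.1).1 y.2.1,
        by simpa using y.2.2⟩
      one_smul := fun y => Subtype.ext (show ((1 : E) : G) * y.1 * ((1 : E) : G)⁻¹ = y.1 by simp)
      mul_smul := fun e f y => Subtype.ext (show ((e * f : E) : G) * y.1 * ((e * f : E) : G)⁻¹ =
          e.1 * (f.1 * y.1 * f.1⁻¹) * e.1⁻¹ by rw [Subgroup.coe_mul]; group) }
  have hst : ∀ y : X, MulAction.stabilizer E y = ⊥ := by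
    intro y
    refine (Subgroup.eq_bot_iff_forall _).2 fun e he => Subtype.ext ?_
    have h1 : e.1 * y.1 * e.1⁻¹ = y.1 := congrArg Subtype.val he
    refine I.fix_eq_one H ?_ (H'.comm_t e.2.2)
    rw [← I.self y.1 y.2.1 y.2.2, Subgroup.mem_centralizer_singleton_iff]
    exact mul_inv_eq_iff_eq_mul.1 h1
  have hcard : Nat.card X = Nat.card Q - 1 := by
    have : Nat.card X + 1 = Nat.card Q := by
      rw [← Nat.card_congr (Equiv.sumCompl fun y : Q => y = 1), Nat.card_sum,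
        Nat.card_unique (α := {y : Q // y = 1}), add_comm]
      congr 1
      exact Nat.card_congr
        { toFun := fun y => ⟨⟨y.1, y.2.1⟩, fun e => y.2.2 (congrArg Subtype.val e)⟩
          invFun := fun y => ⟨y.1.1, y.1.2, fun e => y.2 (Subtype.ext e)⟩
          left_inv := fun _ => rfl
          right_inv := fun _ => rfl }
    omega
  rw [← hcard, Nat.card_congr (MulAction.selfEquivSigmaOrbitsQuotientStabilizer E X)]
  have := Fintype.ofFinite (MulAction.orbitRel.Quotient E X)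
  rw [Nat.card_sigma]
  refine Finset.dvd_sum fun ω _ => ?_
  rw [hst]
  exact dvd_of_eq (Nat.card_congr (QuotientGroup.quotientBot (G := E)).toEquiv).symm

omit H in
theorem inter_bot {X : Subgroup G} {x : G} (hX : ∀ y ∈ X, Commute y a) (hxX : x ∈ X) (hx : x ∈ Q)
    (H : Hyp t K s) : x = 1 := I.fix_eq_one H hx (hX x hxX)

end Inverted

end Cfsg.Agent.BSW84
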