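import Mathlib
import Cfsg.Agent.Lib.BSWTorus84
import Cfsg.Agent.Lib.BSWCount84

/-!
The Brauer-Suzuki-Wall theorem: assembling the subgroup structure from the counts.
-/

set_option autoImplicit false
set_option linter.unusedSectionVars false

namespace Cfsg.Agent.BSW84

universe u

/-- The conclusion. -/
def Concl (G : Type u) [Group G] : Prop :=
  ∃ Q D : Subgroup G, 2 * Nat.card G = Nat.card ↥Q * (Nat.card ↥Q + 1) * (Nat.card ↥Q - 1) ∧
    (∀ x ∈ Q, x ≠ 1 → Subgroup.centralizer ({x} : Set G) = Q) ∧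
    IsMulCommutative ↥D ∧ 2 * Nat.card ↥D + 1 = Nat.card ↥Q ∧ Q ⊓ D = ⊥ ∧
    Subgroup.normalizer (Q : Set G) = Q ⊔ D ∧
    ∀ X : Subgroup G, X ≤ D → X ≠ ⊥ →
      Subgroup.normalizer (X : Set G) = Subgroup.normalizer (D : Set G) ∧
      ∃ u : G, orderOf u = 2 ∧ u ∉ D ∧ (∀ d ∈ D, u * d * u⁻¹ = d⁻¹) ∧
        Subgroup.normalizer (D : Set G) = D ⊔ Subgroup.zpowers u

variable {G : Type u} [Group G] [Finite G] {t s : G} {K : Subgroup G}

theorem self_normal {Q : Subgroup G}
    (hself : ∀ y ∈ Q, y ≠ 1 → Subgroup.centralizer ({y} : Set G) = Q)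
    {x n : G} (hx : x ∈ Q) (h1 : x ≠ 1) (h : n * x * n⁻¹ ∈ Q) :
    n ∈ Subgroup.normalizer (Q : Set G) := by
  refine mem_normalizer_of_forall fun y hy => ?_
  have hc : y * x = x * y := by
    by_cases hy1 : y = 1
    · simp [hy1]
    · rw [← hself y hy hy1, Subgroup.mem_centralizer_singleton_iff] at hx
      exact hx.symm
  rw [← hself _ h (by simpa using h1), Subgroup.mem_centralizer_singleton_iff]
  calc n * y * n⁻¹ * (n * x * n⁻¹) = n * (y * x) * n⁻¹ := by group
  _ = n * (x * y) * n⁻¹ := by rw [hc]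
  _ = n * x * n⁻¹ * (n * y * n⁻¹) := by group

theorem eq_one_of_odd_group {r : ℕ} (hr : r.Prime) (hr2 : r ≠ 2) {R : Subgroup G} (hR : IsPGroup r R)
    {x : G} (hx : x ∈ R) (h : x * x = 1) : x = 1 := by
  by_contra h1
  obtain ⟨j, hj⟩ := hR ⟨x, hx⟩
  have h2 : orderOf x ∣ r ^ j := orderOf_dvd_of_pow_eq_one (by simpa using congrArg Subtype.val hj)
  rw [two_of h h1] at h2
  exact hr2 ((Nat.prime_dvd_prime_iff_eq Nat.prime_two hr).1 (Nat.prime_two.dvd_of_dvd_pow h2)).symm

/-- Elements of odd order normalising a subgroup conjugate into a `Pm` subgroup centralise it. -/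
theorem fix_of_into {r : ℕ} (hr : r.Prime) (hr2 : r ≠ 2) {L R : Subgroup G} (hL : Pm L)
    (hindex : ¬ r ∣ L.index) (hR : IsPGroup r R) {n : G} (hn : Odd (orderOf n))
    (hnR : ∀ x ∈ R, n * x * n⁻¹ ∈ R) {x : G} (hx : x ∈ R) : n * x * n⁻¹ = x := by
  by_cases h1 : x = 1
  · simp [h1]
  have := Fact.mk hr
  obtain ⟨c, hc⟩ := conj_into r L hindex hR
  have e : c * n * c⁻¹ * (c * x * c⁻¹) * (c * n * c⁻¹)⁻¹ = c * (n * x * n⁻¹) * c⁻¹ := by group
  rcases hL _ (hc x hx) (c * n * c⁻¹) (by simpa using h1) (e ▸ hc _ (hnR x hx)) with h | h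
  · rw [e] at h
    exact mul_left_cancel (mul_right_cancel h)
  · rw [e, show (c * x * c⁻¹)⁻¹ = c * x⁻¹ * c⁻¹ by group] at h
    exact absurd (odd_inverted (eq_one_of_odd_group hr hr2 hR hx) hn
      (mul_left_cancel (mul_right_cancel h))) h1

namespace Hyp

variable (H : Hyp t K s)
include H

theorem torus_normalizer {X : Subgroup G} (hX : X ≤ K) (hX0 : X ≠ ⊥) :
    Subgroup.normalizer (X : Set G) = K ⊔ Subgroup.zpowers s := by
  refine le_antisymm ?_ (sup_le ?_ ?_)
  · intro n hn
    obtain ⟨x, hx, hx1⟩ := Subgroup.bot_or_exists_ne_one X |>.resolve_left hX0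
    have := H.ti n x (hX hx) (hX ((Subgroup.mem_normalizer_iff.1 hn x).1 hx)) hx1
    rcases H.cases this with h | ⟨a, ha, rfl⟩
    · exact Subgroup.mem_sup_left h
    · exact Subgroup.mul_mem _ (Subgroup.mem_sup_right (Subgroup.mem_zpowers s)) (Subgroup.mem_sup_left ha)
  · intro a ha
    refine mem_normalizer_of_forall fun x hx => ?_
    rw [H.comm a ha x (hX hx), mul_inv_cancel_right]
    exact hx
  · rw [Subgroup.zpowers_le]
    refine mem_normalizer_of_forall fun x hx => ?_
    rw [H.inv x (hX hx)]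
    exact X.inv_mem hx

theorem inverted {g a : G} (hg : Rest K g) (ha : orderOf a = 2) (hag : a * g * a = g⁻¹)
    (hmax : ∀ y, Commute g y → y ≠ 1 → pairs y ≤ pairs g) :
    Inverted K (Subgroup.centralizer ({g} : Set G)) a where
  two := ha
  rest y hy hy1 := H.rest_of_comm hg (Subgroup.mem_centralizer_singleton_iff.1 hy).symm hy1
  inv y hy := H.inv_centralizer hg ha hag (Subgroup.mem_centralizer_singleton_iff.1 hy).symm
  comm x hx y hy := H.comm_centralizer hg ha hag (Subgroup.mem_centralizer_singleton_iff.1 hx).symm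
    (Subgroup.mem_centralizer_singleton_iff.1 hy).symm
  nt h := hg.1 (by
    rw [← Subgroup.mem_bot, ← h]
    exact Subgroup.mem_centralizer_singleton_iff.2 rfl)
  self y hy hy1 := by
    have hy' : Commute g y := (Subgroup.mem_centralizer_singleton_iff.1 hy).symm
    have hr := H.rest_of_comm hg hy' hy1
    have hay := H.inv_centralizer hg ha hag hy'
    symm
    refine Subgroup.eq_of_le_of_card_ge (fun z hz => ?_) ?_
    · exact Subgroup.mem_centralizer_singleton_iff.2
        (H.comm_centralizer hg ha hag (Subgroup.mem_centralizer_singleton_iff.1 hz).symm hy')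
    · rw [← H.pairs_eq_card hr ha hay, ← H.pairs_eq_card hg ha hag]
      exact hmax y hy' hy1

theorem case_pos {u : ℤ} (hC : Counts K u) (hu : u = 1 + 2 * (Nat.card K : ℤ)) : Concl G := by
  classical
  subst hu
  set k := Nat.card K with hk
  have hk0 : 0 < k := Nat.card_pos
  have hP : ∀ g, Rest K g → pairs g = k + 1 ∨ pairs g = 2 * k + 1 := by
    intro g hg
    have h4 : (4 * (k : ℤ)) ≠ 0 := by positivity
    rcases hC.pairs_eq g hg with h | h
    · left
      have : (pairs g : ℤ) = (k : ℤ) + 1 := mul_left_cancel₀ h4 (by linear_combination h)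
      exact_mod_cast this
    · right
      have : (pairs g : ℤ) = 2 * (k : ℤ) + 1 := mul_left_cancel₀ h4 (by linear_combination h)
      exact_mod_cast this
  set R1 := {g : G // Rest K g ∧ pairs g = 2 * k + 1}
  have hR1 : (Nat.card R1 : ℤ) = (2 * (k : ℤ) + 1) * (2 * (k : ℤ) + 1) - 1 := by
    rw [show (2 * (k : ℤ) + 1) * (2 * (k : ℤ) + 1) - 1 = (1 + 2 * (k : ℤ)) * (1 + 2 * (k : ℤ)) - 1 by ring,
      ← hC.card_one]
    congr 1
    refine Nat.card_congr (Equiv.subtypeEquivRight fun g => and_congr_right fun hg => ?_)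
    have h4 : (4 * (k : ℤ)) ≠ 0 := by positivity
    constructor
    · intro h; rw [h]; push_cast; ring
    · intro h
      have : (pairs g : ℤ) = 2 * (k : ℤ) + 1 := mul_left_cancel₀ h4 (by linear_combination h)
      exact_mod_cast this
  obtain ⟨⟨g, hg, hgp⟩⟩ : Nonempty R1 := by
    refine (Nat.card_pos_iff.1 ?_).1
    have : (0 : ℤ) < Nat.card R1 := by rw [hR1]; nlinarith
    exact_mod_cast this
  obtain ⟨a, ha, hag⟩ := H.exists_inverter hg (by omega)
  have I := H.inverted hg ha hag fun y hy hy1 => by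
    rcases hP y (H.rest_of_comm hg hy hy1) with h | h <;> omega
  set Q := Subgroup.centralizer ({g} : Set G) with hQ
  have hqcard : Nat.card Q = 2 * k + 1 := by rw [hQ, ← H.pairs_eq_card hg ha hag, hgp]
  obtain ⟨K', s', H', hk', -⟩ := H.exists_map ha
  set N := Subgroup.normalizer (Q : Set G) with hN
  -- count the conjugates
  have hle : N.index * (2 * k) ≤ Nat.card R1 := by
    have hcard : Nat.card ((G ⧸ N) × {y : Q // y ≠ 1}) = N.index * (2 * k) := by
      rw [Nat.card_prod, Subgroup.index]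
      congr 1
      have h1 := Nat.card_congr (Equiv.sumCompl fun y : Q => y = 1)
      rw [Nat.card_sum, Nat.card_unique (α := {y : Q // y = 1}), hqcard] at h1
      have h2 : Nat.card {y : Q // ¬y = 1} = 2 * k := by omega
      exact h2
    rw [← hcard]
    refine Nat.card_le_card_of_injective (fun p => ⟨p.1.out * (p.2.1 : G) * p.1.out⁻¹, ?_⟩) ?_
    · have hy1 : ((p.2.1 : G)) ≠ 1 := fun e => p.2.2 (Subtype.ext e)
      have hr : Rest K (p.2.1 : G) := I.rest _ p.2.1.2 hy1
      refine ⟨rest_conj hr, ?_⟩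
      rw [pairs_conj, H.pairs_eq_card hr ha (I.inv _ p.2.1.2), I.self _ p.2.1.2 hy1, hqcard]
    · intro p p' e
      have e1 : p.1.out * (p.2.1 : G) * p.1.out⁻¹ = p'.1.out * (p'.2.1 : G) * p'.1.out⁻¹ :=
        congrArg Subtype.val e
      have hy1 : ((p.2.1 : G)) ≠ 1 := fun e => p.2.2 (Subtype.ext e)
      have hn : p'.1.out⁻¹ * p.1.out ∈ N := by
        refine I.normal_of_conj p.2.1.2 hy1 ?_
        have : p'.1.out⁻¹ * p.1.out * (p.2.1 : G) * (p'.1.out⁻¹ * p.1.out)⁻¹ = p'.2.1 := by
          calc _ = p'.1.out⁻¹ * (p.1.out * (p.2.1 : G) * p.1.out⁻¹) * p'.1.out := by group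
          _ = p'.2.1 := by rw [e1]; group
        rw [this]; exact p'.2.1.2
      have h1 : p'.1 = p.1 := by
        rw [← QuotientGroup.out_eq' p'.1, ← QuotientGroup.out_eq' p.1]
        exact QuotientGroup.eq.2 hn
      refine Prod.ext h1.symm (Subtype.ext (Subtype.ext ?_))
      rw [h1] at e1
      exact mul_left_cancel (mul_right_cancel e1)
  have hidx : N.index ≤ 2 * k + 2 := by
    have : (N.index : ℤ) * (2 * k) ≤ (2 * (k : ℤ) + 1) * (2 * (k : ℤ) + 1) - 1 := by
      rw [← hR1]; exact_mod_cast hle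
    by_contra hlt
    push Not at hlt
    have : (2 * (k : ℤ) + 3) * (2 * k) ≤ (N.index : ℤ) * (2 * k) :=
      mul_le_mul_of_nonneg_right (by exact_mod_cast hlt) (by positivity)
    nlinarith
  have hG : Nat.card G = k * (2 * k + 1) * (2 * k + 2) := by
    have := hC.card_G
    rw [← hk] at this
    have h2 : ((Nat.card G : ℕ) : ℤ) = ((k * (2 * k + 1) * (2 * k + 2) : ℕ) : ℤ) := by
      push_cast; rw [this]; ring
    exact_mod_cast h2
  set E := N ⊓ K' with hE
  have hEK : E = K' := by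
    refine Subgroup.eq_of_le_of_card_ge inf_le_right ?_
    rw [hk']
    have h1 := N.card_mul_index
    rw [hN, I.card_normalizer H H', hqcard, ← hN, ← hE, hG] at h1
    have h2 : k * ((2 * k + 1) * (2 * k + 2)) ≤ Nat.card E * ((2 * k + 1) * (2 * k + 2)) := by
      calc k * ((2 * k + 1) * (2 * k + 2)) = (2 * k + 1) * Nat.card E * N.index := by rw [h1]; ring
      _ ≤ (2 * k + 1) * Nat.card E * (2 * k + 2) := Nat.mul_le_mul_left _ hidx
      _ = _ := by ring
    exact Nat.le_of_mul_le_mul_right h2 (by positivity)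
  refine ⟨Q, K', ?_, fun x hx hx1 => I.self x hx hx1, ⟨⟨fun x y => Subtype.ext (H'.comm x x.2 y y.2)⟩⟩,
    ?_, ?_, ?_, ?_⟩
  · rw [hqcard, hG, show 2 * k + 1 - 1 = 2 * k by omega]; ring
  · rw [hqcard, hk']
  · exact (Subgroup.eq_bot_iff_forall _).2 fun x hx => I.fix_eq_one H hx.1 (H'.comm_t hx.2)
  · refine le_antisymm ?_ (sup_le Subgroup.le_normalizer ?_)
    · intro n hn
      obtain ⟨d, hd, hc, hca⟩ := I.decompose H hn
      have := Subgroup.mul_mem (Q ⊔ K') (Subgroup.mem_sup_left hd)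
        (Subgroup.mem_sup_right (I.mem_K H H' hc hca))
      rwa [mul_inv_cancel_left] at this
    · rw [← hN]; exact hEK ▸ inf_le_left
  · intro X hX hX0
    have hK0 : K' ≠ ⊥ := fun e => ne_one_of_two ha (Subgroup.mem_bot.1 (e ▸ H'.tK))
    rw [H'.torus_normalizer hX hX0, H'.torus_normalizer le_rfl hK0]
    exact ⟨rfl, s', H'.os, H'.sK, H'.inv, rfl⟩

/-- The tori of odd index in the second case. -/
theorem torus_neg {g : G} (hg : Rest K g) (h0 : pairs g ≠ 0)
    (hP : ∀ y, Rest K y → pairs y = 0 ∨ pairs y = Nat.card K - 1) :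
    Nat.card (Subgroup.centralizer ({g} : Set G)) = Nat.card K - 1 ∧
    (∀ y ∈ Subgroup.centralizer ({g} : Set G), y ≠ 1 → Rest K y ∧ pairs y ≠ 0) ∧
    Pm (Subgroup.centralizer ({g} : Set G)) ∧
    IsMulCommutative ↥(Subgroup.centralizer ({g} : Set G)) ∧
    ∀ X : Subgroup G, X ≤ Subgroup.centralizer ({g} : Set G) → X ≠ ⊥ →
      Subgroup.normalizer (X : Set G) =
        Subgroup.normalizer ((Subgroup.centralizer ({g} : Set G) : Subgroup G) : Set G) ∧
      ∃ u : G, orderOf u = 2 ∧ u ∉ Subgroup.centralizer ({g} : Set G) ∧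
        (∀ d ∈ Subgroup.centralizer ({g} : Set G), u * d * u⁻¹ = d⁻¹) ∧
        Subgroup.normalizer ((Subgroup.centralizer ({g} : Set G) : Subgroup G) : Set G) =
          Subgroup.centralizer ({g} : Set G) ⊔ Subgroup.zpowers u := by
  classical
  obtain ⟨a, ha, hag⟩ := H.exists_inverter hg h0
  have hgv := (hP g hg).resolve_left h0
  have I := H.inverted hg ha hag fun y hy hy1 => by
    rcases hP y (H.rest_of_comm hg hy hy1) with h | h <;> omega
  set D := Subgroup.centralizer ({g} : Set G) with hD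
  have hcard : Nat.card D = Nat.card K - 1 := by rw [hD, ← H.pairs_eq_card hg ha hag, hgv]
  obtain ⟨K', s', H', hk', -⟩ := H.exists_map ha
  set E := Subgroup.normalizer (D : Set G) ⊓ K' with hE
  have haE : a ∈ E := ⟨I.a_mem, H'.tK⟩
  have hz : Nat.card (Subgroup.zpowers a) = 2 := by rw [Nat.card_zpowers, ha]
  have hEz : Subgroup.zpowers a = E := by
    refine Subgroup.eq_of_le_of_card_ge (Subgroup.zpowers_le.2 haE) ?_
    rw [hz]
    have h1 : Nat.card E ∣ Nat.card K := hk' ▸ Subgroup.card_dvd_of_le inf_le_right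
    have h2 : Nat.card E ∣ Nat.card D - 1 := I.card_dvd H H'
    rw [hcard] at h2
    have hk2 : 2 ≤ Nat.card K := Nat.le_of_dvd Nat.card_pos H.even_card
    have h3 := Nat.dvd_sub h1 h2
    rw [show Nat.card K - (Nat.card K - 1 - 1) = 2 by omega] at h3
    exact Nat.le_of_dvd two_pos h3
  have hND : Subgroup.normalizer (D : Set G) = D ⊔ Subgroup.zpowers a := by
    refine le_antisymm ?_ (sup_le Subgroup.le_normalizer (Subgroup.zpowers_le.2 I.a_mem))
    intro n hn
    obtain ⟨d, hd, hc, hca⟩ := I.decompose H hn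
    have hmem : d⁻¹ * n ∈ Subgroup.zpowers a := hEz ▸ ⟨hc, I.mem_K H H' hc hca⟩
    have := Subgroup.mul_mem (D ⊔ Subgroup.zpowers a) (Subgroup.mem_sup_left hd) (Subgroup.mem_sup_right hmem)
    rwa [mul_inv_cancel_left] at this
  have hact : ∀ n ∈ Subgroup.normalizer (D : Set G), ∀ x ∈ D,
      n * x * n⁻¹ = x ∨ n * x * n⁻¹ = x⁻¹ := by
    intro n hn x hx
    obtain ⟨d, hd, hc, hca⟩ := I.decompose H hn
    have hmem : d⁻¹ * n ∈ Subgroup.zpowers a := hEz ▸ ⟨hc, I.mem_K H H' hc hca⟩
    obtain ⟨i, hi⟩ := (mem_powers_iff_mem_zpowers (x := a)).2 hmem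
    have hi' : a ^ i = d⁻¹ * n := hi
    have hn' : n = d * a ^ i := by rw [hi', mul_inv_cancel_left]
    rcases Nat.even_or_odd i with ⟨j, hj⟩ | ⟨j, hj⟩
    · left
      rw [hn', hj, ← two_mul, pow_mul, pow_two, mul_self_of_two ha, one_pow, mul_one, I.comm d hd x hx,
        mul_inv_cancel_right]
    · right
      rw [hn', hj, pow_succ, pow_mul, pow_two, mul_self_of_two ha, one_pow, one_mul]
      calc d * a * x * (d * a)⁻¹ = d * (a * x * a⁻¹) * d⁻¹ := by group
      _ = d * x⁻¹ * d⁻¹ := by rw [I.conj_a x hx]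
      _ = x⁻¹ := by rw [I.comm d hd _ (D.inv_mem hx), mul_inv_cancel_right]
  refine ⟨hcard, fun y hy hy1 => ⟨I.rest y hy hy1, H.pairs_ne_zero (I.rest y hy hy1) ha (I.inv y hy)⟩,
    fun x hx n hx1 hn => hact n (I.normal_of_conj hx hx1 hn) x hx,
    ⟨⟨fun x y => Subtype.ext (I.comm x x.2 y y.2)⟩⟩, fun X hX hX0 => ⟨?_, a, ha, ?_, I.conj_a, hND⟩⟩
  · refine le_antisymm (fun n hn => ?_) ?_
    · obtain ⟨x, hx, hx1⟩ := Subgroup.bot_or_exists_ne_one X |>.resolve_left hX0
      exact I.normal_of_conj (hX hx) hx1 (hX ((Subgroup.mem_normalizer_iff.1 hn x).1 hx))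
    · intro n hn
      refine mem_normalizer_of_forall fun x hx => ?_
      rcases hact n hn x (hX hx) with h | h <;> rw [h]
      · exact hx
      · exact X.inv_mem hx
  · intro h
    exact ne_one_of_two ha (I.fix_eq_one H h (Commute.refl a))

theorem case_neg {u : ℤ} (hC : Counts K u) (hu : u = 1 - 2 * (Nat.card K : ℤ)) : Concl G := by
  classical
  subst hu
  set k := Nat.card K with hk
  have hk2 : 2 ≤ k := Nat.le_of_dvd Nat.card_pos H.even_card
  obtain ⟨c0, hc0⟩ : ∃ c, k = 2 * c := H.even_card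
  obtain ⟨l, hl⟩ : ∃ l, k = l + 1 := ⟨k - 1, by omega⟩
  set q := 2 * l + 1 with hq
  have hlz : (k : ℤ) = (l : ℤ) + 1 := by exact_mod_cast hl
  have h4 : (4 * (k : ℤ)) ≠ 0 := by omega
  have hP : ∀ y, Rest K y → pairs y = 0 ∨ pairs y = k - 1 := by
    intro y hy
    rcases hC.pairs_eq y hy with h | h
    · right
      have : (pairs y : ℤ) = (k : ℤ) - 1 := mul_left_cancel₀ h4 (by linear_combination h)
      omega
    · left
      have : (pairs y : ℤ) = 0 := mul_left_cancel₀ h4 (by linear_combination h)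
      omega
  have hcond : ∀ y : G, 4 * (k : ℤ) * (pairs y : ℤ) =
      (1 - 2 * (k : ℤ)) * ((1 - 2 * (k : ℤ)) + 1) + 2 * ((k : ℤ) - 1) * (1 - 2 * (k : ℤ)) ↔ pairs y = 0 := by
    intro y
    rw [show (1 - 2 * (k : ℤ)) * ((1 - 2 * (k : ℤ)) + 1) + 2 * ((k : ℤ) - 1) * (1 - 2 * (k : ℤ)) = 0 by ring]
    simp [show k ≠ 0 by omega]
  have hG : Nat.card G = 2 * k * l * q := by
    have h1 := hC.card_G
    have : ((Nat.card G : ℕ) : ℤ) = ((2 * k * l * q : ℕ) : ℤ) := by
      push_cast [hq]; rw [h1, ← hk, hlz]; ring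
    exact_mod_cast this
  set R0 := {g : G // Rest K g ∧ pairs g = 0}
  have hR0 : Nat.card R0 = 4 * k * l := by
    have h1 := hC.card_one
    rw [Nat.card_congr (Equiv.subtypeEquivRight fun g => and_congr_right fun _ => hcond g)] at h1
    have : (Nat.card R0 : ℤ) = ((4 * k * l : ℕ) : ℤ) := by
      rw [h1]; push_cast; rw [hlz]; ring
    exact_mod_cast this
  have hcop : ∀ r : ℕ, r.Prime → (r ∣ q → ¬ r ∣ 2 * k * l) ∧ (r ∣ k → r ≠ 2 → ¬ r ∣ 2 * l * q) ∧
      (r ∣ l → ¬ r ∣ 2 * k * q) := by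
    intro r hr
    have one : ∀ x y : ℕ, x = y + 1 → r ∣ x → r ∣ y → False := fun x y e hx hy => by
      have h1 : r ∣ x - y := Nat.dvd_sub hx hy
      rw [e, Nat.add_sub_cancel_left] at h1
      exact hr.ne_one (Nat.dvd_one.1 h1)
    have two : r ∣ 2 → r = 2 := fun h => (Nat.prime_dvd_prime_iff_eq hr Nat.prime_two).1 h
    have kl := one k l hl
    have kq : r ∣ k → r ∣ q → False := fun h1 h2 => one (2 * k) q (by omega) (h1.mul_left 2) h2
    have lq : r ∣ l → r ∣ q → False := fun h1 h2 => one q (2 * l) hq h2 (h1.mul_left 2)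
    refine ⟨fun h h' => ?_, fun h h2 h' => ?_, fun h h' => ?_⟩ <;>
      rcases hr.dvd_mul.1 h' with h'' | h''
    · rcases hr.dvd_mul.1 h'' with e | e
      · exact one q (2 * l) hq h ((two e) ▸ dvd_mul_right 2 l)
      · exact kq e h
    · exact lq h'' h
    · rcases hr.dvd_mul.1 h'' with e | e
      · exact h2 (two e)
      · exact kl h e
    · exact kq h h''
    · rcases hr.dvd_mul.1 h'' with e | e
      · have := two e; subst this
        obtain ⟨m, hm⟩ := h
        omega
      · exact kl e h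
    · exact lq h h''
  have hKidx : K.index = 2 * l * q := by
    refine Nat.eq_of_mul_eq_mul_left (show 0 < k by omega) ?_
    rw [hk, K.card_mul_index, hG, ← hk]; ring
  -- a torus
  have hexD : 0 < l → 1 < l →  ∃ x, Rest K x ∧ pairs x ≠ 0 := by
    intro _ hl1
    by_contra hcon
    push Not at hcon
    have h1 : Nat.card {g : G // Rest K g} = Nat.card R0 :=
      Nat.card_congr (Equiv.subtypeEquivRight fun g => ⟨fun h => ⟨h, hcon g h⟩, fun h => h.1⟩)
    have h2 := hC.card_rest
    rw [h1, hR0, hG, ← hk] at h2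
    push_cast [hq] at h2
    rw [hlz] at h2
    have : (1 : ℤ) < l := by exact_mod_cast hl1
    nlinarith [mul_pos (show (0 : ℤ) < 2 * l + 1 by omega) (show (0 : ℤ) < (l : ℤ) * l - 1 by nlinarith)]
  have tor : ∀ r : ℕ, r.Prime → r ∣ l → ∃ D : Subgroup G, Nat.card D = l ∧ ¬ r ∣ D.index ∧ Pm D ∧
      ∀ y ∈ D, y ≠ 1 → Rest K y ∧ pairs y ≠ 0 := by
    intro r hr hrl
    have hl0 : 0 < l := by omega
    have hl1 : 1 < l := lt_of_lt_of_le hr.one_lt (Nat.le_of_dvd hl0 hrl)
    obtain ⟨x, hx, hx0⟩ := hexD hl0 hl1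
    obtain ⟨h1, h2, h3, -, -⟩ := H.torus_neg hx hx0 hP
    rw [← hk] at h1
    have h1' : Nat.card (Subgroup.centralizer ({x} : Set G)) = l := by omega
    refine ⟨_, h1', ?_, h3, h2⟩
    have : (Subgroup.centralizer ({x} : Set G)).index = 2 * k * q := by
      refine Nat.eq_of_mul_eq_mul_left hl0 ?_
      have := (Subgroup.centralizer ({x} : Set G)).card_mul_index
      rw [h1'] at this
      rw [this, hG]; ring
    rw [this]
    exact (hcop r hr).2.2 hrl
  have fromTorus : ∀ r : ℕ, r.Prime → r ∣ l → ∀ y : G, orderOf y = r → Rest K y ∧ pairs y ≠ 0 := by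
    intro r hr hrl y hy
    have := Fact.mk hr
    obtain ⟨D, -, hidx, -, hD⟩ := tor r hr hrl
    obtain ⟨c, hc⟩ := conj_into r D hidx (R := Subgroup.zpowers y)
      (IsPGroup.of_card (n := 1) (by rw [Nat.card_zpowers, hy, pow_one]))
    have hy1 : y ≠ 1 := fun e => by rw [e, orderOf_one] at hy; exact hr.ne_one hy.symm
    obtain ⟨h1, h2⟩ := hD _ (hc y (Subgroup.mem_zpowers y)) (by simpa using hy1)
    rw [pairs_conj] at h2
    refine ⟨?_, h2⟩
    have := rest_conj (h := c⁻¹) h1
    rwa [show c⁻¹ * (c * y * c⁻¹) * c⁻¹⁻¹ = y by group] at this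
  have hclass : ∀ g, Rest K g → pairs g = 0 → Nat.card {y : G // IsConj g y} ≤ 4 * k * l := by
    intro g hg h0
    rw [← hR0]
    refine Nat.card_le_card_of_injective (fun y => ⟨y.1, ?_⟩) fun y z e => Subtype.ext (congrArg (fun w : R0 => w.1) e)
    obtain ⟨c, hc⟩ := isConj_iff.1 y.2
    rw [← hc]
    exact ⟨rest_conj hg, by rw [pairs_conj, h0]⟩
  have hcent : ∀ g, Rest K g → pairs g = 0 → Nat.card (Subgroup.centralizer ({g} : Set G)) = q := by
    intro g hg h0
    set C := Subgroup.centralizer ({g} : Set G) with hCdef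
    have hprime : ∀ r : ℕ, r.Prime → r ∣ Nat.card C → ¬ r ∣ 2 * k * l := by
      intro r hr hrC
      have := Fact.mk hr
      obtain ⟨y, hy⟩ := exists_prime_orderOf_dvd_card' r hrC
      have hy' : orderOf (y : G) = r := by rw [Subgroup.orderOf_coe]; exact hy
      have hyc : Commute g (y : G) := (Subgroup.mem_centralizer_singleton_iff.1 y.2).symm
      have hy1 : (y : G) ≠ 1 := fun e => by rw [e, orderOf_one] at hy'; exact hr.ne_one hy'.symm
      obtain ⟨hyr, hy0⟩ := H.pairs_zero_of_comm hg h0 hyc hy1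
      have hr2 : r ≠ 2 := fun e => hyr.2 (H.inK_of_two (e ▸ hy'))
      intro hd
      rcases hr.dvd_mul.1 hd with h | h
      · rcases hr.dvd_mul.1 h with h | h
        · exact hr2 ((Nat.prime_dvd_prime_iff_eq hr Nat.prime_two).1 h)
        · obtain ⟨c, hc⟩ := conj_into r K (by rw [hKidx]; exact (hcop r hr).2.1 h hr2)
            (R := Subgroup.zpowers (y : G)) (IsPGroup.of_card (n := 1) (by rw [Nat.card_zpowers, hy', pow_one]))
          exact hyr.2 ⟨c, hc _ (Subgroup.mem_zpowers _)⟩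
      · exact (fromTorus r hr h _ hy').2 hy0
    have hdvd : Nat.card C ∣ q := by
      have hdG : Nat.card C ∣ 2 * k * l * q := hG ▸ Subgroup.card_subgroup_dvd_card C
      refine Nat.Coprime.dvd_of_dvd_mul_left (Nat.coprime_of_dvd fun r hr h1 h2 => ?_) hdG
      exact hprime r hr h1 h2
    have hge : k + 1 ≤ 2 * Nat.card C := hC.centralizer_le g hg ((hcond g).2 h0)
    obtain ⟨j, hj⟩ := hdvd
    have hcls := Cfsg.Agent.CharBasicOrth.card_conj_mul_card_centralizer g
    rw [← hCdef, hG, hj] at hcls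
    have hcls' : Nat.card {x : G // IsConj g x} = 2 * k * l * j := by
      refine Nat.eq_of_mul_eq_mul_right (Nat.card_pos (α := C)) ?_
      rw [hcls]; ring
    have hle := hclass g hg h0
    rw [hcls'] at hle
    have hkl : 0 < 2 * k * l := by
      rcases Nat.eq_zero_or_pos l with e | e
      · omega
      · positivity
    have hj2 : j ≤ 2 := by
      by_contra h
      have : 2 * k * l * 3 ≤ 2 * k * l * j := Nat.mul_le_mul_left _ (by omega)
      nlinarith
    interval_cases j
    · omega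
    · omega
    · omega
  obtain ⟨⟨g, hg, h0⟩⟩ : Nonempty R0 := by
    refine (Nat.card_pos_iff.1 ?_).1
    rw [hR0]
    have : 0 < l := by omega
    positivity
  set Q := Subgroup.centralizer ({g} : Set G) with hQ
  have hQcard : Nat.card Q = q := hcent g hg h0
  have hclass2 : ∀ y, Rest K y → pairs y = 0 → Nat.card {x : G // IsConj y x} = 2 * k * l := by
    intro y hy hy0
    refine Nat.eq_of_mul_eq_mul_right (show 0 < q by omega) ?_
    rw [← hG, ← Cfsg.Agent.CharBasicOrth.card_conj_mul_card_centralizer y, hcent y hy hy0]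
  have hreal : ¬ IsConj g g⁻¹ := by
    intro hc
    obtain ⟨c, hc⟩ := isConj_iff.1 hc
    have hc2 : c * c ∈ Q := by
      refine Subgroup.mem_centralizer_singleton_iff.2 ?_
      have : c * c * g * (c * c)⁻¹ = g := by
        calc c * c * g * (c * c)⁻¹ = c * (c * g * c⁻¹) * c⁻¹ := by group
        _ = c * g⁻¹ * c⁻¹ := by rw [hc]
        _ = (c * g * c⁻¹)⁻¹ := by group
        _ = g := by rw [hc, inv_inv]
      exact mul_inv_eq_iff_eq_mul.1 this
    have hpow : (c * c) ^ q = 1 := by
      rw [← hQcard]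
      exact orderOf_dvd_iff_pow_eq_one.1 (Subgroup.orderOf_dvd_natCard Q hc2)
    have hodd : ∀ j : ℕ, c ^ (2 * j + 1) * g * (c ^ (2 * j + 1))⁻¹ = g⁻¹ := by
      intro j
      induction j with
      | zero => simpa using hc
      | succ j ih =>
        have e2 : c * c * g * (c * c)⁻¹ = g :=
          mul_inv_eq_iff_eq_mul.2 (Subgroup.mem_centralizer_singleton_iff.1 hc2)
        calc c ^ (2 * (j + 1) + 1) * g * (c ^ (2 * (j + 1) + 1))⁻¹ =
            c ^ (2 * j + 1) * (c * c * g * (c * c)⁻¹) * (c ^ (2 * j + 1))⁻¹ := by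
              rw [show 2 * (j + 1) + 1 = (2 * j + 1) + 2 by ring, pow_add, pow_two]; group
        _ = g⁻¹ := by rw [e2, ih]
    have hd := hodd l
    rw [← hq] at hd
    set d := c ^ q
    have hdd : d * d = 1 := by
      rw [← pow_add, ← two_mul, pow_mul, pow_two, hpow]
    have hd1 : d ≠ 1 := by
      intro e
      rw [e, one_mul, inv_one, mul_one] at hd
      exact H.rest_ne_inv hg (mul_eq_one_iff_eq_inv.2 hd)
    have hd2 := two_of hdd hd1
    rw [inv_of_two hd2] at hd
    exact H.pairs_ne_zero hg hd2 hd h0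
  have hg0' : pairs g⁻¹ = 0 :=
    (H.pairs_zero_of_comm hg h0 (Commute.refl g).inv_right (inv_ne_one.2 hg.1)).2
  have hall : ∀ y, Rest K y → pairs y = 0 → IsConj g y ∨ IsConj g⁻¹ y := by
    intro y hy hy0
    by_contra hno
    push Not at hno
    let f : {x : G // IsConj g x} ⊕ {x : G // IsConj g⁻¹ x} ⊕ Unit → R0 := fun p =>
      match p with
      | Sum.inl x => ⟨x.1, by
          obtain ⟨c, hc⟩ := isConj_iff.1 x.2
          rw [← hc]; exact ⟨rest_conj hg, by rw [pairs_conj, h0]⟩⟩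
      | Sum.inr (Sum.inl x) => ⟨x.1, by
          obtain ⟨c, hc⟩ := isConj_iff.1 x.2
          rw [← hc]; exact ⟨rest_conj (H.rest_inv hg), by rw [pairs_conj, hg0']⟩⟩
      | Sum.inr (Sum.inr _) => ⟨y, hy, hy0⟩
    have hinj : Function.Injective f := by
      rintro (⟨a, ha⟩ | ⟨a, ha⟩ | _) (⟨b, hb⟩ | ⟨b, hb⟩ | _) e <;> have e' := congrArg Subtype.val e <;>
        simp only [f] at e'
      · subst e'; rfl
      · subst e'; exact absurd (ha.trans hb.symm) hreal
      · subst e'; exact absurd ha hno.1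
      · subst e'; exact absurd (hb.trans ha.symm) hreal
      · subst e'; rfl
      · subst e'; exact absurd ha hno.2
      · subst e'; exact absurd hb hno.1
      · subst e'; exact absurd hb hno.2
      · rfl
    have := Nat.card_le_card_of_injective f hinj
    rw [Nat.card_sum, Nat.card_sum, hclass2 g hg h0, hclass2 _ (H.rest_inv hg) hg0', hR0,
      Nat.card_unique] at this
    nlinarith
  have hq1 : 1 < q := by omega
  set p := q.minFac with hpdef
  have hp : p.Prime := Nat.minFac_prime (by omega)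
  have := Fact.mk hp
  have hpq : p ∣ q := Nat.minFac_dvd q
  have hordc : ∀ (y : G), Rest K y → pairs y = 0 → orderOf y = orderOf g := by
    intro y hy hy0
    rcases hall y hy hy0 with h | h <;> obtain ⟨c, hc⟩ := isConj_iff.1 h <;> rw [← hc, orderOf_conj_eq]
    exact orderOf_inv g
  have hgord : orderOf g = p := by
    obtain ⟨y, hy⟩ := exists_prime_orderOf_dvd_card' p (hQcard.symm ▸ hpq : p ∣ Nat.card Q)
    have hy' : orderOf (y : G) = p := by rw [Subgroup.orderOf_coe]; exact hy
    obtain ⟨h1, h2⟩ := H.pairs_zero_of_comm hg h0 (Subgroup.mem_centralizer_singleton_iff.1 y.2).symm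
      (fun e => by rw [e, orderOf_one] at hy'; exact hp.ne_one hy'.symm)
    rw [← hordc _ h1 h2, hy']
  have hQp : IsPGroup p Q := by
    refine IsPGroup.iff_orderOf.2 fun y => ?_
    by_cases hy1 : (y : G) = 1
    · exact ⟨0, by rw [pow_zero, ← Subgroup.orderOf_coe, hy1, orderOf_one]⟩
    · obtain ⟨h1, h2⟩ := H.pairs_zero_of_comm hg h0 (Subgroup.mem_centralizer_singleton_iff.1 y.2).symm hy1
      exact ⟨1, by rw [pow_one, ← Subgroup.orderOf_coe, hordc _ h1 h2, hgord]⟩
  obtain ⟨n, hn⟩ := IsPGroup.iff_card.1 hQp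
  rw [hQcard] at hn
  have hfac : (Nat.card G).factorization p = n := by
    have hkl0 : 2 * k * l ≠ 0 := by
      have : 0 < l := by omega
      positivity
    rw [hG, Nat.factorization_mul hkl0 (by omega), Finsupp.add_apply,
      Nat.factorization_eq_zero_of_not_dvd ((hcop p hp).1 hpq), hn, Nat.Prime.factorization_pow hp,
      Finsupp.single_eq_same, zero_add]
  have hQidx : ¬ p ∣ Q.index := by
    have : Q.index = 2 * k * l := by
      refine Nat.eq_of_mul_eq_mul_left (show 0 < q by omega) ?_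
      have h := Q.card_mul_index
      rw [hQcard] at h
      rw [h, hG]; ring
    rw [this]
    exact (hcop p hp).1 hpq
  have hpel : ∀ R : Subgroup G, IsPGroup p R → ∀ y ∈ R, y ≠ 1 → Rest K y ∧ pairs y = 0 := by
    intro R hR y hy hy1
    obtain ⟨c, hc⟩ := conj_into p Q hQidx hR
    obtain ⟨h1, h2⟩ := H.pairs_zero_of_comm hg h0
      (Subgroup.mem_centralizer_singleton_iff.1 (hc y hy)).symm (by simpa using hy1)
    rw [pairs_conj] at h2
    refine ⟨?_, h2⟩
    have := rest_conj (h := c⁻¹) h1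
    rwa [show c⁻¹ * (c * y * c⁻¹) * c⁻¹⁻¹ = y by group] at this
  have hp2 : p ≠ 2 := by
    intro e
    obtain ⟨m, hm⟩ := hpq
    rw [e] at hm
    omega
  -- distinct Sylow subgroups meet trivially
  have hTI : ∀ m : ℕ, ∀ S1 S2 : Sylow p G,
      q - Nat.card ((S1 : Subgroup G) ⊓ (S2 : Subgroup G) : Subgroup G) = m →
      (S1 : Subgroup G) ⊓ (S2 : Subgroup G) ≠ ⊥ → S1 = S2 := by
    intro m
    induction m using Nat.strong_induction_on with
    | _ m ih =>
      intro S1 S2 hm hne
      by_contra hS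
      set R := (S1 : Subgroup G) ⊓ (S2 : Subgroup G) with hR
      have hRp : IsPGroup p R := S1.isPGroup'.to_le inf_le_left
      have hodd : ∀ x ∈ Subgroup.normalizer (R : Set G), Odd (orderOf x) := by
        intro x hx
        rw [← Nat.not_even_iff_odd, even_iff_two_dvd]
        intro h2
        have hv := orderOf_pow_orderOf_div (orderOf_pos x).ne' h2
        set v := x ^ (orderOf x / 2)
        have hvn : ∀ y ∈ R, v * y * v ∈ R := fun y hy => by
          have := (Subgroup.mem_normalizer_iff.1 (Subgroup.pow_mem _ hx (orderOf x / 2)) y).1 hy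
          rwa [inv_of_two hv] at this
        obtain ⟨y, hy, hy1⟩ := Subgroup.bot_or_exists_ne_one R |>.resolve_left hne
        obtain ⟨h1, h2'⟩ := hpel R hRp y hy hy1
        exact H.pairs_ne_zero h1 hv
          (H.invert_of_normalize (fun z hz hz1 => (hpel R hRp z hz hz1).1) hv hvn hy) h2'
      obtain ⟨J, -, hJp, hJel, -⟩ := pClosed p (Subgroup.normalizer (R : Set G)) fun r hr hrp hrM R' hR'M hR' x hx hxR y hy => by
        have hr2 : r ≠ 2 := by
          intro e
          subst e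
          have := Fact.mk Nat.prime_two
          obtain ⟨v, hv⟩ := exists_prime_orderOf_dvd_card' 2 hrM
          have := hodd (v : G) v.2
          rw [Subgroup.orderOf_coe, hv] at this
          exact absurd this (by decide)
        have hrG : r ∣ 2 * k * l * q := hG ▸ hrM.trans (Subgroup.card_subgroup_dvd_card _)
        rcases hr.dvd_mul.1 hrG with h | h
        · rcases hr.dvd_mul.1 h with h | h
          · rcases hr.dvd_mul.1 h with h | h
            · exact absurd ((Nat.prime_dvd_prime_iff_eq hr Nat.prime_two).1 h) hr2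
            · exact fix_of_into hr hr2 H.pm_K (by rw [hKidx]; exact (hcop r hr).2.1 h hr2) hR'
                (hodd x hx) hxR hy
          · obtain ⟨D, -, hidx, hD, -⟩ := tor r hr h
            exact fix_of_into hr hr2 hD hidx hR' (hodd x hx) hxR hy
        · exact absurd ((Nat.prime_dvd_prime_iff_eq hr hp).1 (hr.dvd_of_dvd_pow (hn ▸ h))) hrp
      obtain ⟨S3, hS3⟩ := hJp.exists_le_sylow
      have step : ∀ S : Sylow p G, R ≤ (S : Subgroup G) → S ≠ S3 → R ≠ (S : Subgroup G) → False := by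
        intro S hRS hS3' hRS'
        have hlt : R.subgroupOf (S : Subgroup G) < ⊤ := by
          rw [lt_top_iff_ne_top, Ne, Subgroup.subgroupOf_eq_top]
          exact fun h => hRS' (le_antisymm hRS h)
        have : Group.IsNilpotent (S : Subgroup G) := S.isPGroup'.isNilpotent
        obtain ⟨z, hzN, hz⟩ := SetLike.exists_of_lt (Group.normalizerCondition_of_isNilpotent _ hlt)
        have hzR : (z : G) ∈ Subgroup.normalizer (R : Set G) := by
          refine mem_normalizer_of_forall fun y hy => ?_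
          exact (Subgroup.mem_normalizer_iff.1 hzN ⟨y, hRS hy⟩).1 hy
        have hin : ∀ y, y ∈ Subgroup.normalizer (R : Set G) → y ∈ (S : Subgroup G) →
            y ∈ (S : Subgroup G) ⊓ (S3 : Subgroup G) := by
          intro y hy hyS
          obtain ⟨j, hj⟩ := S.isPGroup' ⟨y, hyS⟩
          exact ⟨hyS, hS3 (hJel y hy ⟨j, by simpa using congrArg Subtype.val hj⟩)⟩
        have hlt' : R < (S : Subgroup G) ⊓ (S3 : Subgroup G) :=
          lt_of_le_of_ne (fun y hy => hin y (Subgroup.le_normalizer hy) (hRS hy))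
            (fun e => hz (show (z : G) ∈ R by rw [e]; exact hin _ hzR z.2))
        have hlt'' : Nat.card R < Nat.card ((S : Subgroup G) ⊓ (S3 : Subgroup G) : Subgroup G) := by
          by_contra h
          exact hlt'.ne (Subgroup.eq_of_le_of_card_ge hlt'.le (not_lt.1 h))
        have hleq : Nat.card ((S : Subgroup G) ⊓ (S3 : Subgroup G) : Subgroup G) ≤ q := by
          refine (Subgroup.card_le_of_le inf_le_left).trans_eq ?_
          rw [Sylow.card_eq_multiplicity, hfac, hn]
        exact hS3' (ih _ (by omega) S S3 rfl fun e => hne (le_bot_iff.1 (e ▸ hlt'.le)))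
      have hne1 : R ≠ (S1 : Subgroup G) := fun e => hS (Sylow.ext (S1.is_maximal' S2.isPGroup'
        ((hR ▸ e).symm.le.trans inf_le_right)).symm)
      have hne2 : R ≠ (S2 : Subgroup G) := fun e => hS (Sylow.ext (S2.is_maximal' S1.isPGroup'
        ((hR ▸ e).symm.le.trans inf_le_left)))
      by_cases h13 : S1 = S3
      · exact step S2 inf_le_right (fun h => hS (h13.trans h.symm)) hne2
      · exact step S1 inf_le_left h13 hne1
  let SQ : Sylow p G := Sylow.ofCard Q (by rw [hQcard, hfac, hn])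
  have hself : ∀ y ∈ Q, y ≠ 1 → Subgroup.centralizer ({y} : Set G) = Q := by
    intro y hy hy1
    obtain ⟨hy', hy0⟩ := hpel Q hQp y hy hy1
    let S : Sylow p G := Sylow.ofCard (Subgroup.centralizer ({y} : Set G)) (by
      rw [hcent y hy' hy0, hfac, hn])
    have he : S = SQ := hTI _ S SQ rfl fun e => hy1 (by
      rw [← Subgroup.mem_bot, ← e]
      exact ⟨Subgroup.mem_centralizer_singleton_iff.2 rfl, hy⟩)
    exact congrArg (fun T : Sylow p G => (T : Subgroup G)) he
  -- the normaliser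
  set N := Subgroup.normalizer (Q : Set G) with hN
  have hgQ : g ∈ Q := Subgroup.mem_centralizer_singleton_iff.2 rfl
  have horb : Nat.card {y : Q // IsConj g (y : G)} = (Q.subgroupOf N).index := by
    rw [Subgroup.index]
    symm
    refine Nat.card_congr (Equiv.ofBijective
      (Quotient.lift (fun n : N => (⟨⟨n * g * (n : G)⁻¹,
        (Subgroup.mem_normalizer_iff.1 n.2 g).1 hgQ⟩, isConj_iff.2 ⟨n, rfl⟩⟩ : {y : Q // IsConj g (y : G)}))
        ?_) ⟨?_, ?_⟩)
    · intro x y hxy
      have h1 : (x : G)⁻¹ * y ∈ Q := (QuotientGroup.leftRel_apply (s := Q.subgroupOf N)).1 hxy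
      have h2 : (x : G)⁻¹ * y * g = g * ((x : G)⁻¹ * y) := Subgroup.mem_centralizer_singleton_iff.1 h1
      refine Subtype.ext (Subtype.ext ?_)
      calc (x : G) * g * (x : G)⁻¹ = x * (g * ((x : G)⁻¹ * y)) * (y : G)⁻¹ := by group
      _ = x * ((x : G)⁻¹ * y * g) * (y : G)⁻¹ := by rw [h2]
      _ = y * g * (y : G)⁻¹ := by group
    · intro x y hxy
      induction x using QuotientGroup.induction_on with | _ x => ?_
      induction y using QuotientGroup.induction_on with | _ y => ?_
      have h1 : (x : G) * g * (x : G)⁻¹ = y * g * (y : G)⁻¹ :=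
        congrArg (fun z : {y : Q // IsConj g (y : G)} => ((z.1 : Q) : G)) hxy
      refine QuotientGroup.eq.2 ?_
      show (x : G)⁻¹ * y ∈ Q
      refine Subgroup.mem_centralizer_singleton_iff.2 ?_
      calc (x : G)⁻¹ * y * g = (x : G)⁻¹ * (y * g * (y : G)⁻¹) * y := by group
      _ = (x : G)⁻¹ * (x * g * (x : G)⁻¹) * y := by rw [h1]
      _ = g * ((x : G)⁻¹ * y) := by group
    · rintro ⟨⟨y, hy⟩, hy'⟩
      obtain ⟨c, hc⟩ := isConj_iff.1 hy'
      have hcN : c ∈ N := self_normal hself hgQ hg.1 (by rw [hc]; exact hy)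
      exact ⟨QuotientGroup.mk ⟨c, hcN⟩, Subtype.ext (Subtype.ext hc)⟩
  have hsplitQ : Nat.card {y : Q // ¬ y = 1} = 2 * (Q.subgroupOf N).index := by
    rw [← horb, two_mul]
    have hinv : Nat.card {y : Q // IsConj g (y : G)} = Nat.card {y : Q // IsConj g⁻¹ (y : G)} :=
      Nat.card_congr (Equiv.subtypeEquiv (Equiv.inv Q) fun y => by
        simp only [Equiv.inv_apply, Subgroup.coe_inv]
        constructor
        · intro h
          obtain ⟨c, hc⟩ := isConj_iff.1 h
          exact isConj_iff.2 ⟨c, by rw [← hc]; group⟩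
        · intro h
          obtain ⟨c, hc⟩ := isConj_iff.1 h
          exact isConj_iff.2 ⟨c, by rw [← inv_inv (y : G), ← hc]; group⟩)
    conv_rhs => arg 2; rw [hinv]
    rw [← Nat.card_sum]
    refine Nat.card_congr (Equiv.ofBijective (fun y =>
      if h : IsConj g (y.1 : G) then Sum.inl ⟨y.1, h⟩ else Sum.inr ⟨y.1, ?_⟩) ⟨?_, ?_⟩)
    · have hy1 : (y.1 : G) ≠ 1 := fun e => y.2 (Subtype.ext e)
      obtain ⟨h1, h2⟩ := hpel Q hQp _ y.1.2 hy1
      exact (hall _ h1 h2).resolve_left h
    · intro x y hxy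
      simp only at hxy
      split_ifs at hxy
      all_goals
        simp only [Sum.inl.injEq, Sum.inr.injEq, Subtype.mk.injEq] at hxy
        exact Subtype.ext hxy
    · rintro (⟨y, hy⟩ | ⟨y, hy⟩)
      · refine ⟨⟨y, fun e => ?_⟩, dif_pos hy⟩
        rw [e, OneMemClass.coe_one, isConj_one_left] at hy
        exact hg.1 hy
      · refine ⟨⟨y, fun e => ?_⟩, ?_⟩
        · rw [e, OneMemClass.coe_one, isConj_one_left] at hy
          exact hg.1 (inv_eq_one.1 hy)
        · have : ¬ IsConj g (y : G) := fun h => hreal (h.trans hy.symm)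
          exact dif_neg this
  have hidxN : (Q.subgroupOf N).index = l := by
    have h1 := Nat.card_congr (Equiv.sumCompl fun y : Q => y = 1)
    rw [Nat.card_sum, Nat.card_unique (α := {y : Q // y = 1}), hQcard, hsplitQ] at h1
    omega
  have hcopN : Nat.Coprime (Nat.card (Q.subgroupOf N)) (Q.subgroupOf N).index := by
    rw [hidxN, Nat.card_congr (Subgroup.subgroupOfEquivOfLe Subgroup.le_normalizer).toEquiv, hQcard]
    exact Nat.coprime_of_dvd fun r hr h1 h2 => (hcop r hr).1 h1 (h2.mul_left _)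
  obtain ⟨E0, hE0⟩ := Subgroup.exists_right_complement'_of_coprime hcopN
  set E := E0.map N.subtype with hE
  have hEcard : Nat.card E = l := by
    rw [hE, Subgroup.card_map_of_injective N.subtype_injective, ← hidxN, ← hE0.symm.index_eq_card]
  have hEN : E ≤ N := Subgroup.map_subtype_le _
  have hQE : Q ⊓ E = ⊥ := by
    refine (Subgroup.eq_bot_iff_forall _).2 ?_
    rintro x ⟨hx, y, hy, rfl⟩
    exact congrArg Subtype.val (Subgroup.mem_bot.1 (hE0.disjoint.le_bot ⟨hx, hy⟩))
  have hNsup : N = Q ⊔ E := by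
    refine le_antisymm (fun x hx => ?_) (sup_le Subgroup.le_normalizer hEN)
    obtain ⟨⟨a, b⟩, hab⟩ := hE0.2 ⟨x, hx⟩
    have : x = (a : N).1 * (b : N).1 := (congrArg Subtype.val hab).symm
    rw [this]
    exact Subgroup.mul_mem _ (Subgroup.mem_sup_left a.2) (Subgroup.mem_sup_right ⟨_, b.2, rfl⟩)
  have hcq : 2 * Nat.card E + 1 = Nat.card Q := by rw [hEcard, hQcard, hq]
  have hcardG : 2 * Nat.card G = Nat.card Q * (Nat.card Q + 1) * (Nat.card Q - 1) := by
    rw [hQcard, hG, show q - 1 = 2 * l by omega, show q + 1 = 2 * k by omega]; ring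
  by_cases hl1 : l = 1
  · have hbot : E = ⊥ := Subgroup.eq_bot_of_card_eq _ (hEcard.trans hl1)
    refine ⟨Q, E, hcardG, hself, ⟨⟨fun x y => ?_⟩⟩, hcq, hQE, hNsup, fun X hX hX0 => ?_⟩
    · have hx : (x : G) = 1 := by simpa [hbot] using x.2
      have hy : (y : G) = 1 := by simpa [hbot] using y.2
      exact Subtype.ext (by simp [hx, hy])
    · exact absurd (le_bot_iff.1 (hbot ▸ hX)) hX0
  -- the complement is a torus
  set r := l.minFac with hrdef
  have hr : r.Prime := Nat.minFac_prime hl1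
  have hrl : r ∣ l := Nat.minFac_dvd l
  have := Fact.mk hr
  have hr2 : r ≠ 2 := fun e => by
    obtain ⟨m, hm⟩ := hrl
    rw [e] at hm
    omega
  have hoddE : ∀ x ∈ E, Odd (orderOf x) := by
    intro x hx
    have : orderOf x ∣ l := hEcard ▸ Subgroup.orderOf_dvd_natCard E hx
    exact Odd.of_dvd_nat ⟨c0 - 1, by omega⟩ this
  obtain ⟨J, hJE, hJp, hJel, hJn⟩ := pClosed r E fun r' hr' _ hr'E R' _ hR' x hx hxR y hy => by
    rw [hEcard] at hr'E
    obtain ⟨D, -, hidx, hD, -⟩ := tor r' hr' hr'E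
    have h2 : r' ≠ 2 := fun e => by
      obtain ⟨m, hm⟩ := hr'E
      rw [e] at hm
      omega
    exact fix_of_into hr' h2 hD hidx hR' (hoddE x hx) hxR hy
  obtain ⟨x, hx⟩ := exists_prime_orderOf_dvd_card' r (hEcard.symm ▸ hrl : r ∣ Nat.card E)
  have hx' : orderOf (x : G) = r := by rw [Subgroup.orderOf_coe]; exact hx
  have hxJ : (x : G) ∈ J := hJel x x.2 ⟨1, by rw [pow_one, ← hx', pow_orderOf_eq_one]⟩
  obtain ⟨hxr, hx0⟩ := fromTorus r hr hrl _ hx'
  obtain ⟨hDc, -, -, hDcomm, hDn⟩ := H.torus_neg hxr hx0 hP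
  have hEC : E = Subgroup.centralizer ({(x : G)} : Set G) := by
    refine Subgroup.eq_of_le_of_card_ge (fun e he => ?_) (by rw [hDc, hEcard, ← hk]; omega)
    obtain ⟨D, -, hidx, hD, -⟩ := tor r hr hrl
    have := fix_of_into hr hr2 hD hidx hJp (hoddE e he) (fun y hy => hJn e he y hy) hxJ
    exact Subgroup.mem_centralizer_singleton_iff.2 (mul_inv_eq_iff_eq_mul.1 this)
  refine ⟨Q, E, hcardG, hself, ?_, hcq, hQE, hNsup, ?_⟩
  · rw [hEC]; exact hDcomm
  · rw [hEC]; exact hDn

theorem concl : Concl G := by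
  classical
  have := Fintype.ofFinite G
  have := Fintype.ofFinite K
  obtain ⟨u, hC⟩ := H.exists_counts
  rcases hC.u_cases with h | h
  · exact H.case_pos hC h
  · exact H.case_neg hC h

end Hyp

end Cfsg.Agent.BSW84
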