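import Mathlib

/-!
Combinatorics of coherence for non-negative integer multiplicity matrices with Gram matrix
`(equivalence) + j • f fᵀ`.
-/

set_option autoImplicit false

namespace Cfsg.Agent.Feit

open Finset

variable {C Φ : Type*} [Fintype C] [DecidableEq C]

/-- `φ` is coherent with respect to the common part `W`. -/
def Good (m : C → Φ → ℕ) (f : Φ → ℕ) (W : C → ℕ) (φ : Φ) : Prop :=
  ∃ x, W x = 0 ∧ ∀ χ, m χ φ = f φ * W χ + if χ = x then 1 else 0

/-- The hypotheses on a multiplicity matrix. -/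
structure GramData (m : C → Φ → ℕ) (f : Φ → ℕ) (R : Φ → Φ → Prop) [DecidableRel R]
    [Fintype Φ] (e j : ℕ) : Prop where
  gram : ∀ φ ψ, ∑ χ, m χ φ * m χ ψ = (if R φ ψ then 1 else 0) + j * (f φ * f ψ)
  refl : ∀ φ, R φ φ
  pos : ∀ φ, 0 < f φ
  resp : ∀ φ ψ, R φ ψ → f φ = f ψ
  fibre : ∀ ψ, (univ.filter fun φ => R ψ φ).card ≤ e

variable [Fintype Φ] {m : C → Φ → ℕ} {f : Φ → ℕ} {R : Φ → Φ → Prop} [DecidableRel R] {e j : ℕ}
variable (hG : GramData m f R e j)
include hG

/-- Equal columns are related. -/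
theorem GramData.rel_of_eq {φ ψ : Φ} (h : ∀ χ, m χ φ = m χ ψ) : R φ ψ := by
  by_contra hR
  have h1 := hG.gram φ ψ
  have h2 := hG.gram φ φ
  have h3 := hG.gram ψ ψ
  rw [if_neg hR] at h1
  rw [if_pos (hG.refl _)] at h2 h3
  simp only [h] at h1 h2
  have e1 : f φ * f φ * j + 1 = f φ * f ψ * j := by linarith
  have e2 : f ψ * f ψ * j + 1 = f φ * f ψ * j := by linarith
  zify at e1 e2
  nlinarith [sq_nonneg ((f φ : ℤ) - f ψ)]

/-- Two coherent characters with the same exceptional constituent are related. -/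
theorem GramData.rel_of_same {W : C → ℕ} (hW : ∑ χ, W χ * W χ = j) {φ ψ : Φ} {x : C}
    (hx : W x = 0) (h1 : ∀ χ, m χ φ = f φ * W χ + if χ = x then 1 else 0)
    (h2 : ∀ χ, m χ ψ = f ψ * W χ + if χ = x then 1 else 0) : R φ ψ := by
  by_contra hR
  have h := hG.gram φ ψ
  rw [if_neg hR, zero_add] at h
  have key : ∑ χ, m χ φ * m χ ψ = f φ * f ψ * j + 1 := by
    simp only [h1, h2, add_mul, mul_add, sum_add_distrib, mul_ite, ite_mul, mul_one, one_mul,
      mul_zero, zero_mul, sum_ite_eq', mem_univ, if_true, hx, add_zero]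
    rw [← hW, mul_sum]
    congr 1
    exact sum_congr rfl fun χ _ => by ring
  rw [key] at h
  rw [mul_comm j] at h
  omega

/-- Related columns are equal. -/
theorem GramData.eq_of_rel {φ ψ : Φ} (h : R φ ψ) (χ : C) : m χ φ = m χ ψ := by
  have hkk := hG.gram φ φ
  have hkl := hG.gram φ ψ
  have hll := hG.gram ψ ψ
  rw [if_pos (hG.refl _)] at hkk hll
  rw [if_pos h] at hkl
  rw [hG.resp φ ψ h] at hkk hkl
  zify at hkk hkl hll
  have h0 : ∑ χ, ((m χ φ : ℤ) - m χ ψ) ^ 2 = 0 := by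
    calc ∑ χ, ((m χ φ : ℤ) - m χ ψ) ^ 2 = ∑ χ, (((m χ φ : ℤ) * m χ φ + (m χ ψ : ℤ) * m χ ψ) -
          2 * ((m χ φ : ℤ) * m χ ψ)) := sum_congr rfl fun χ _ => by ring
      _ = 0 := by rw [sum_sub_distrib, sum_add_distrib, ← mul_sum, hkk, hll, hkl]; ring
  have h1 := (sum_eq_zero_iff_of_nonneg fun χ _ => sq_nonneg _).1 h0 χ (mem_univ χ)
  have := pow_eq_zero_iff two_ne_zero |>.1 h1
  omega

/-- Norm of the deviation of a column from the common part. -/
theorem GramData.dev_norm {W : C → ℕ} (hW : ∑ χ, W χ * W χ = j) (φ : Φ) :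
    ∑ χ, ((m χ φ : ℤ) - f φ * W χ) ^ 2 =
      1 + 2 * f φ * -(∑ χ, (W χ : ℤ) * ((m χ φ : ℤ) - f φ * W χ)) := by
  have h1 := hG.gram φ φ
  rw [if_pos (hG.refl _)] at h1
  zify at h1 hW
  simp only [mul_sub, sum_sub_distrib, sub_sq, sum_add_distrib]
  have e1 : ∑ χ, (m χ φ : ℤ) ^ 2 = 1 + j * (f φ * f φ) := by
    rw [← h1]
    exact sum_congr rfl fun χ _ => pow_two _
  have e2 : ∑ χ, 2 * (m χ φ : ℤ) * (f φ * W χ) = 2 * f φ * ∑ χ, (W χ : ℤ) * m χ φ := by
    rw [mul_sum]; exact sum_congr rfl fun χ _ => by ring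
  have e3 : ∑ χ, ((f φ : ℤ) * W χ) ^ 2 = f φ * f φ * j := by
    rw [← hW, mul_sum]; exact sum_congr rfl fun χ _ => by ring
  have e4 : ∑ χ, (W χ : ℤ) * (f φ * W χ) = f φ * j := by
    rw [← hW, mul_sum]; exact sum_congr rfl fun χ _ => by ring
  rw [e1, e2, e3, e4]
  ring

/-- The deviation at the exceptional constituent of a coherent character. -/
theorem GramData.dev_exc {W : C → ℕ} (hW : ∑ χ, W χ * W χ = j) {φ ψ : Φ} (hR : ¬ R φ ψ) {x : C}
    (hψ : ∀ χ, m χ ψ = f ψ * W χ + if χ = x then 1 else 0) :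
    (m x φ : ℤ) = f ψ * -(∑ χ, (W χ : ℤ) * ((m χ φ : ℤ) - f φ * W χ)) := by
  have h1 := hG.gram φ ψ
  rw [if_neg hR, zero_add] at h1
  simp only [hψ, mul_add, sum_add_distrib, mul_ite, mul_one, mul_zero, sum_ite_eq', mem_univ,
    if_true] at h1
  zify at h1 hW
  simp only [mul_sub, sum_sub_distrib]
  have e1 : ∑ χ, (m χ φ : ℤ) * (f ψ * W χ) = f ψ * ∑ χ, (W χ : ℤ) * m χ φ := by
    rw [mul_sum]; exact sum_congr rfl fun χ _ => by ring
  have e4 : ∑ χ, (W χ : ℤ) * (f φ * W χ) = f φ * j := by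
    rw [← hW, mul_sum]; exact sum_congr rfl fun χ _ => by ring
  rw [e1] at h1
  rw [e4]
  linarith

/-- The extension step. -/
theorem GramData.good_of_base {W : C → ℕ} (hW : ∑ χ, W χ * W χ = j) (B : Finset Φ)
    (hB : ∀ ψ ∈ B, Good m f W ψ) {φ : Φ} (hR : ∀ ψ ∈ B, ¬ R φ ψ)
    (hlt : 2 * e * f φ < ∑ ψ ∈ B, f ψ * f ψ) : Good m f W φ := by
  classical
  set δ : C → ℤ := fun χ => (m χ φ : ℤ) - f φ * W χ with hδ
  set c : ℤ := -(∑ χ, (W χ : ℤ) * δ χ) with hc
  choose X hX0 hX using hB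
  have hdev : ∀ ψ (h : ψ ∈ B), δ (X ψ h) = f ψ * c := by
    intro ψ h
    rw [hδ]
    simp only [hX0 ψ h, Nat.cast_zero, mul_zero, sub_zero]
    exact hG.dev_exc hW (hR ψ h) (hX ψ h)
  obtain ⟨ψ₀, hψ₀⟩ : B.Nonempty := by
    by_contra h
    rw [not_nonempty_iff_eq_empty] at h
    simp [h] at hlt
  have hc0 : 0 ≤ c := by
    have h1 := hG.dev_exc hW (hR ψ₀ hψ₀) (hX ψ₀ hψ₀)
    have h2 : (0 : ℤ) ≤ f ψ₀ * c := by
      rw [hc, hδ, ← h1]
      positivity
    exact nonneg_of_mul_nonneg_right h2 (by exact_mod_cast hG.pos ψ₀)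
  have hnorm : ∑ χ, δ χ ^ 2 = 1 + 2 * f φ * c := hG.dev_norm hW φ
  have hcz : c = 0 := by
    by_contra hne
    have hc1 : 1 ≤ c := by omega
    set T : Finset C := univ.filter fun χ => W χ = 0
    obtain ⟨χ₁, hχ₁, hχ₁'⟩ : ∃ χ, χ ∉ T ∧ δ χ ≠ 0 := by
      by_contra h
      push Not at h
      refine hne ?_
      rw [hc, neg_eq_zero]
      refine sum_eq_zero fun χ _ => ?_
      by_cases hχ : χ ∈ T
      · simp [(mem_filter.1 hχ).2]
      · simp [h χ hχ]
    have hT : ∑ χ ∈ T, δ χ ^ 2 + 1 ≤ 1 + 2 * f φ * c := by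
      rw [← hnorm, ← sum_add_sum_compl T fun χ => δ χ ^ 2]
      refine Int.add_le_add_left ?_ _
      refine le_trans ?_ (single_le_sum (fun χ _ => sq_nonneg (δ χ)) (mem_compl.2 hχ₁))
      have h1 : 0 < δ χ₁ ^ 2 := by positivity
      omega
    let Y : {x // x ∈ B} → C := fun p => X p.1 p.2
    have hS : c ^ 2 * (∑ ψ ∈ B, (f ψ : ℤ) * f ψ) ≤ e * ∑ χ ∈ T, δ χ ^ 2 := by
      calc c ^ 2 * (∑ ψ ∈ B, (f ψ : ℤ) * f ψ)
          = ∑ p ∈ B.attach, δ (Y p) ^ 2 := by
            rw [mul_sum, ← sum_attach B]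
            exact sum_congr rfl fun p _ => by rw [hdev]; ring
        _ = ∑ χ ∈ T, ∑ p ∈ B.attach.filter (fun p => Y p = χ), δ (Y p) ^ 2 := by
            rw [sum_fiberwise_of_maps_to]
            exact fun p _ => mem_filter.2 ⟨mem_univ _, hX0 _ _⟩
        _ ≤ ∑ χ ∈ T, (e : ℤ) * δ χ ^ 2 := by
            refine sum_le_sum fun χ _ => ?_
            rw [sum_congr rfl (g := fun _ => δ χ ^ 2) fun p hp => by rw [(mem_filter.1 hp).2],
              sum_const, nsmul_eq_mul]
            refine mul_le_mul_of_nonneg_right (Nat.cast_le.2 ?_) (sq_nonneg _)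
            rcases (B.attach.filter fun p => Y p = χ).eq_empty_or_nonempty with h | ⟨p₀, hp₀⟩
            · simp [h]
            refine le_trans ?_ (hG.fibre p₀.1)
            rw [← card_map (Function.Embedding.subtype _)]
            refine card_le_card fun ψ hψ => ?_
            obtain ⟨p, hp, rfl⟩ := mem_map.1 hψ
            refine mem_filter.2 ⟨mem_univ _, hG.rel_of_same hW (hX0 p₀.1 p₀.2) (hX p₀.1 p₀.2) ?_⟩
            have e' : X p₀.1 p₀.2 = X p.1 p.2 :=
              (mem_filter.1 hp₀).2.trans (mem_filter.1 hp).2.symm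
            rw [e']
            exact hX p.1 p.2
        _ = e * ∑ χ ∈ T, δ χ ^ 2 := by rw [mul_sum]
    have hlt' : (2 : ℤ) * e * f φ < ∑ ψ ∈ B, (f ψ : ℤ) * f ψ := by exact_mod_cast hlt
    have h5 : c ^ 2 * (∑ ψ ∈ B, (f ψ : ℤ) * f ψ) ≤ e * (2 * f φ * c) :=
      hS.trans (mul_le_mul_of_nonneg_left (by linarith) (Int.natCast_nonneg e))
    have h6 : c * (∑ ψ ∈ B, (f ψ : ℤ) * f ψ) ≤ 2 * e * f φ := by
      refine le_of_mul_le_mul_left ?_ (show (0 : ℤ) < c by omega)
      nlinarith [h5]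
    have h7 : (∑ ψ ∈ B, (f ψ : ℤ) * f ψ) ≤ c * ∑ ψ ∈ B, (f ψ : ℤ) * f ψ :=
      le_mul_of_one_le_left (sum_nonneg fun ψ _ => by positivity) hc1
    linarith
  rw [hcz, mul_zero, add_zero] at hnorm
  obtain ⟨x, hx⟩ : ∃ x, δ x ≠ 0 := by
    by_contra h
    push Not at h
    simp [h] at hnorm
  have hsplit := add_sum_erase univ (fun χ => δ χ ^ 2) (mem_univ x)
  have hxpos : 0 < δ x ^ 2 := by positivity
  have hrest : 0 ≤ ∑ χ ∈ univ.erase x, δ χ ^ 2 := sum_nonneg fun χ _ => sq_nonneg _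
  have hzero : ∀ χ, χ ≠ x → δ χ = 0 := by
    intro χ hχ
    have h0 : ∑ χ ∈ univ.erase x, δ χ ^ 2 = 0 := by linarith
    have := (sum_eq_zero_iff_of_nonneg fun χ _ => sq_nonneg (δ χ)).1 h0 χ
      (mem_erase.2 ⟨hχ, mem_univ χ⟩)
    simpa using this
  have hx1 : δ x ^ 2 = 1 := by linarith
  have hWx : W x = 0 := by
    have h0 : ∑ χ, (W χ : ℤ) * δ χ = 0 := by linarith
    rw [sum_eq_single x (fun χ _ hχ => by rw [hzero χ hχ, mul_zero]) (by simp)] at h0
    simpa [hx] using h0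
  refine ⟨x, hWx, fun χ => ?_⟩
  by_cases hχ : χ = x
  · subst hχ
    have hm : δ χ = m χ φ := by simp [hδ, hWx]
    rw [if_pos rfl, hWx, mul_zero, zero_add]
    rw [hm] at hx1
    have : m χ φ * m χ φ = 1 := by exact_mod_cast (pow_two (m χ φ : ℤ) ▸ hx1)
    exact Nat.eq_one_of_mul_eq_one_right this
  · rw [if_neg hχ, add_zero]
    have := hzero χ hχ
    rw [hδ, sub_eq_zero] at this
    exact_mod_cast this

/-- Coherence by induction on the degrees. -/
theorem GramData.good_all {W : C → ℕ} (hW : ∑ χ, W χ * W χ = j)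
    (hbase : ∀ φ, f φ = 1 → Good m f W φ)
    (hcrit : ∀ φ, f φ ≠ 1 →
      2 * e * f φ < ∑ ψ ∈ univ.filter (fun ψ => f ψ < f φ), f ψ * f ψ) :
    ∀ φ, Good m f W φ := by
  suffices ∀ n φ, f φ = n → Good m f W φ from fun φ => this _ φ rfl
  intro n
  induction n using Nat.strong_induction_on with
  | _ n ih =>
    rintro φ rfl
    by_cases h1 : f φ = 1
    · exact hbase φ h1
    · refine hG.good_of_base hW _ (fun ψ hψ => ih _ (mem_filter.1 hψ).2 ψ rfl) (fun ψ hψ h => ?_)
        (hcrit φ h1)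
      exact (mem_filter.1 hψ).2.ne (hG.resp _ _ h).symm

/-- The base: sufficiently many columns of degree one with constant weighted sum. -/
theorem GramData.exists_base (D : C → ℕ) (hD : ∀ χ, 0 < D χ) (B : Finset Φ)
    (hf : ∀ φ ∈ B, f φ = 1)
    (hDc : ∀ φ ∈ B, ∀ ψ ∈ B, ∑ χ, D χ * m χ φ = ∑ χ, D χ * m χ ψ)
    (hcard : e * (j + 2) < B.card) :
    ∃ W : C → ℕ, ∑ χ, W χ * W χ = j ∧ ∀ φ ∈ B, Good m f W φ := by
  classical
  obtain ⟨φ₁, hφ₁⟩ : B.Nonempty := card_pos.1 (by omega)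
  set B' := B.filter fun k => ¬ R φ₁ k with hB'
  have hB'card : e * (j + 1) < B'.card := by
    have h1 := card_filter_add_card_filter_not (s := B) (fun k => R φ₁ k)
    have h2 : (B.filter fun k => R φ₁ k).card ≤ e :=
      (card_le_card (filter_subset_filter _ (subset_univ B))).trans (hG.fibre φ₁)
    rw [show e * (j + 2) = e * (j + 1) + e by ring] at hcard
    rw [hB']
    omega
  -- the two entries where a column differs from the first one
  have hpair : ∀ k ∈ B', ∃ a b : C, a ≠ b ∧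
      (∀ χ, (m χ k : ℤ) - m χ φ₁ = (if χ = b then 1 else 0) - if χ = a then 1 else 0) ∧
      m a φ₁ = m b φ₁ + 1 := by
    intro k hk
    obtain ⟨hkB, hkR⟩ := mem_filter.1 hk
    have hkR' : ¬ R k φ₁ := by
      intro h
      have h1 := hG.gram k φ₁
      have h2 := hG.gram φ₁ k
      rw [if_pos h, hf k hkB, hf φ₁ hφ₁] at h1
      rw [if_neg hkR, hf k hkB, hf φ₁ hφ₁] at h2
      have e' : ∑ χ, m χ k * m χ φ₁ = ∑ χ, m χ φ₁ * m χ k := sum_congr rfl fun χ _ => mul_comm _ _
      omega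
    set d : C → ℤ := fun χ => (m χ k : ℤ) - m χ φ₁ with hd
    have h1 := hG.gram k k
    have h2 := hG.gram φ₁ φ₁
    have h3 := hG.gram k φ₁
    rw [if_pos (hG.refl _), hf k hkB] at h1
    rw [if_pos (hG.refl _), hf φ₁ hφ₁] at h2
    rw [if_neg hkR', hf k hkB, hf φ₁ hφ₁] at h3
    zify at h1 h2 h3
    have hnorm : ∑ χ, d χ ^ 2 = 2 := by
      calc ∑ χ, d χ ^ 2 = ∑ χ, (((m χ k : ℤ) * m χ k + (m χ φ₁ : ℤ) * m χ φ₁) -
            2 * ((m χ k : ℤ) * m χ φ₁)) := sum_congr rfl fun χ _ => by rw [hd]; ring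
        _ = 2 := by rw [sum_sub_distrib, sum_add_distrib, ← mul_sum, h1, h2, h3]; ring
    have hzero : ∑ χ, (D χ : ℤ) * d χ = 0 := by
      simp only [hd, mul_sub, sum_sub_distrib, sub_eq_zero]
      exact_mod_cast hDc k hkB φ₁ hφ₁
    have habs : ∀ χ, d χ = 0 ∨ d χ = 1 ∨ d χ = -1 := by
      intro χ
      have : d χ ^ 2 ≤ 2 := hnorm ▸ single_le_sum (fun χ _ => sq_nonneg (d χ)) (mem_univ χ)
      have h' : -1 ≤ d χ ∧ d χ ≤ 1 := by constructor <;> nlinarith
      omega
    set S := univ.filter fun χ => d χ ≠ 0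
    have hS : S.card = 2 := by
      have : ∑ χ ∈ S, d χ ^ 2 = 2 := by
        refine (sum_subset (subset_univ S) fun χ _ h => ?_).trans hnorm
        have : d χ = 0 := by simpa [S] using h
        rw [this]
        ring
      rw [sum_congr rfl (g := fun _ => (1 : ℤ)) fun χ hχ => by
        rcases habs χ with h | h | h
        · exact absurd h (mem_filter.1 hχ).2
        · rw [h]; rfl
        · rw [h]; rfl, sum_const, nsmul_one] at this
      exact_mod_cast this
    obtain ⟨u, v, huv, hSuv⟩ := card_eq_two.1 hS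
    have hu : d u ≠ 0 := (mem_filter.1 (hSuv ▸ mem_insert_self u {v} : u ∈ S)).2
    have hv : d v ≠ 0 :=
      (mem_filter.1 (hSuv ▸ mem_insert_of_mem (mem_singleton_self v) : v ∈ S)).2
    have hout : ∀ χ, χ ≠ u → χ ≠ v → d χ = 0 := fun χ h1 h2 => by
      by_contra h
      have : χ ∈ S := mem_filter.2 ⟨mem_univ χ, h⟩
      rw [hSuv] at this
      simp [h1, h2] at this
    have hDs : (D u : ℤ) * d u + D v * d v = 0 := by
      rw [← sum_pair (f := fun χ => (D χ : ℤ) * d χ) huv, ← hSuv]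
      refine (sum_subset (subset_univ S) fun χ _ h => ?_).trans hzero
      have : d χ = 0 := by simpa [S] using h
      rw [this, mul_zero]
    obtain ⟨a, b, hab, ha, hb, hout'⟩ : ∃ a b, a ≠ b ∧ d a = -1 ∧ d b = 1 ∧
        ∀ χ, χ ≠ a → χ ≠ b → d χ = 0 := by
      have hu' := hD u
      have hv' := hD v
      rcases habs u with h | h | h
      · exact absurd h hu
      · rcases habs v with h' | h' | h'
        · exact absurd h' hv
        · rw [h, h'] at hDs; omega
        · exact ⟨v, u, huv.symm, h', h, fun χ h1 h2 => hout χ h2 h1⟩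
      · rcases habs v with h' | h' | h'
        · exact absurd h' hv
        · exact ⟨u, v, huv, h, h', hout⟩
        · rw [h, h'] at hDs; omega
    refine ⟨a, b, hab, fun χ => ?_, ?_⟩
    · change d χ = _
      by_cases h1 : χ = a
      · subst h1; simp [ha, hab]
      · by_cases h2 : χ = b
        · subst h2; simp [hb, h1]
        · simp [hout' χ h1 h2, h1, h2]
    · have hd2 : ∑ χ, (m χ φ₁ : ℤ) * d χ = -1 := by
        simp only [hd, mul_sub, sum_sub_distrib, h2]
        rw [show ∑ χ, (m χ φ₁ : ℤ) * m χ k = ∑ χ, (m χ k : ℤ) * m χ φ₁ from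
          sum_congr rfl fun χ _ => mul_comm _ _, h3]
        ring
      rw [sum_eq_add a b hab (fun χ _ h => by rw [hout' χ h.1 h.2, mul_zero]) (by simp) (by simp),
        ha, hb] at hd2
      omega
  choose A Bf hne hdiff hval using hpair
  have hkey : ∀ k (hk : k ∈ B') l (hl : l ∈ B'), A k hk = A l hl → Bf k hk = Bf l hl → R k l := by
    intro k hk l hl e1 e2
    refine hG.rel_of_eq fun χ => ?_
    have h1 := hdiff k hk χ
    have h2 := hdiff l hl χ
    rw [e1, e2] at h1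
    omega
  have hone : ∀ k (hk : k ∈ B') l (hl : l ∈ B'), A k hk ≠ A l hl → Bf k hk = Bf l hl := by
    intro k hk l hl hA
    by_contra hB
    have hkl : ¬ R k l := by
      intro h
      have h1 := hG.eq_of_rel h (A k hk)
      have h2 := hdiff k hk (A k hk)
      have h3 := hdiff l hl (A k hk)
      simp [hne k hk, hA] at h2 h3
      split_ifs at h3 <;> omega
    -- the inner product of the two differences is one
    have hkl' := hG.gram k l
    have hk1 := hG.gram k φ₁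
    have h1l := hG.gram φ₁ l
    have h11 := hG.gram φ₁ φ₁
    rw [if_neg hkl, hf k (mem_filter.1 hk).1, hf l (mem_filter.1 hl).1] at hkl'
    rw [if_neg (mem_filter.1 hl).2, hf φ₁ hφ₁, hf l (mem_filter.1 hl).1] at h1l
    rw [if_pos (hG.refl _), hf φ₁ hφ₁] at h11
    rw [hf k (mem_filter.1 hk).1, hf φ₁ hφ₁, if_neg (show ¬ R k φ₁ from fun h => by
      have h2 := hG.gram φ₁ k
      rw [if_neg (mem_filter.1 hk).2, hf k (mem_filter.1 hk).1, hf φ₁ hφ₁] at h2
      have h3 := hG.gram k φ₁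
      rw [if_pos h, hf k (mem_filter.1 hk).1, hf φ₁ hφ₁] at h3
      have e' : ∑ χ, m χ k * m χ φ₁ = ∑ χ, m χ φ₁ * m χ k := sum_congr rfl fun χ _ => mul_comm _ _
      omega)] at hk1
    zify at hkl' hk1 h1l h11
    have hinner : ∑ χ, ((m χ k : ℤ) - m χ φ₁) * ((m χ l : ℤ) - m χ φ₁) = 1 := by
      simp only [sub_mul, mul_sub, sum_sub_distrib, hkl', hk1, h1l, h11]
      ring
    rw [sum_congr rfl fun χ _ => by rw [hdiff k hk χ, hdiff l hl χ]] at hinner
    simp only [sub_mul, mul_sub, sum_sub_distrib, ite_mul, one_mul, zero_mul, sum_ite_eq',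
      mem_univ, if_true, if_neg hA, if_neg hB] at hinner
    split_ifs at hinner <;> omega
  obtain ⟨k₀, hk₀⟩ : B'.Nonempty := card_pos.1 (by omega)
  by_cases hA : ∀ k (hk : k ∈ B'), A k hk = A k₀ hk₀
  · -- sunflower
    set a := A k₀ hk₀
    let W : C → ℕ := fun χ => if χ = a then m χ φ₁ - 1 else m χ φ₁
    have ha1 : 1 ≤ m a φ₁ := by
      have : m a φ₁ = m (Bf k₀ hk₀) φ₁ + 1 := hval k₀ hk₀
      omega
    have hWm : ∀ χ, (m χ φ₁ : ℤ) = W χ + if χ = a then 1 else 0 := by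
      intro χ
      by_cases h : χ = a
      · subst h; simp only [W, if_true]; omega
      · simp [W, h]
    have hWb : ∀ k (hk : k ∈ B'), W (Bf k hk) = W a ∧
        ∀ χ, m χ k = W χ + if χ = Bf k hk then 1 else 0 := by
      intro k hk
      have hAk := hA k hk
      have hne' : Bf k hk ≠ a := fun e' => hne k hk (hAk.trans e'.symm)
      refine ⟨?_, fun χ => ?_⟩
      · have := hval k hk
        rw [hAk] at this
        simp only [W, if_neg hne', if_true]
        omega
      · have h1 := hdiff k hk χ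
        have h2 := hWm χ
        rw [hAk] at h1
        split_ifs at h1 h2 ⊢ <;> omega
    have hWa : W a = 0 := by
      by_contra hw
      have h11 := hG.gram φ₁ φ₁
      rw [if_pos (hG.refl _), hf φ₁ hφ₁] at h11
      zify at h11
      simp only [hWm, add_mul, mul_add, sum_add_distrib, mul_ite, ite_mul, mul_one, one_mul,
        mul_zero, zero_mul, sum_ite_eq', mem_univ, if_true] at h11
      set supp := univ.filter fun χ => W χ ≠ 0
      have hsupp : supp.card ≤ j := by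
        have h1 : (supp.card : ℤ) ≤ ∑ χ, (W χ : ℤ) * W χ := by
          rw [card_eq_sum_ones, Nat.cast_sum, sum_filter]
          refine sum_le_sum fun χ _ => ?_
          split_ifs with h
          · have : (1 : ℤ) ≤ W χ := by exact_mod_cast Nat.one_le_iff_ne_zero.2 h
            push_cast
            nlinarith
          · positivity
        omega
      have hle : B'.card ≤ e * supp.card := by
        let Z : {x // x ∈ B'} → C := fun k => Bf k.1 k.2
        calc B'.card = B'.attach.card := card_attach.symm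
          _ ≤ e * (B'.attach.image Z).card := by
            refine card_le_mul_card_image (f := Z) _ e fun x hx => ?_
            obtain ⟨p₀, -, rfl⟩ := mem_image.1 hx
            refine le_trans ?_ (hG.fibre p₀.1)
            rw [← card_map (Function.Embedding.subtype _)]
            refine card_le_card fun ψ hψ => ?_
            obtain ⟨p, hp, rfl⟩ := mem_map.1 hψ
            exact mem_filter.2 ⟨mem_univ _, hkey p₀.1 p₀.2 p.1 p.2
              ((hA p₀.1 p₀.2).trans (hA p.1 p.2).symm) (mem_filter.1 hp).2.symm⟩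
          _ ≤ e * supp.card := by
            refine Nat.mul_le_mul_left _ (card_le_card fun x hx => ?_)
            obtain ⟨p, -, rfl⟩ := mem_image.1 hx
            exact mem_filter.2 ⟨mem_univ _, by rw [(hWb p.1 p.2).1]; exact hw⟩
      have := Nat.mul_le_mul_left e hsupp
      rw [Nat.mul_add, mul_one] at hB'card
      omega
    refine ⟨W, ?_, fun φ hφ => ?_⟩
    · have h11 := hG.gram φ₁ φ₁
      rw [if_pos (hG.refl _), hf φ₁ hφ₁] at h11
      zify at h11 ⊢
      simp only [hWm, add_mul, mul_add, sum_add_distrib, mul_ite, ite_mul, mul_one, one_mul,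
        mul_zero, zero_mul, sum_ite_eq', mem_univ, if_true, hWa, Nat.cast_zero, zero_add,
        add_zero] at h11
      linarith
    · by_cases hR : R φ₁ φ
      · refine ⟨a, hWa, fun χ => ?_⟩
        rw [hf φ hφ, one_mul, ← hG.eq_of_rel hR χ]
        have := hWm χ
        split_ifs at this ⊢ <;> omega
      · have hk : φ ∈ B' := mem_filter.2 ⟨hφ, hR⟩
        refine ⟨Bf φ hk, (hWb φ hk).1.trans hWa, fun χ => ?_⟩
        rw [hf φ hφ, one_mul]
        exact (hWb φ hk).2 χ
  · exfalso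
    push Not at hA
    obtain ⟨k₁, hk₁, hA₁⟩ := hA
    have hB : ∀ k (hk : k ∈ B'), Bf k hk = Bf k₀ hk₀ := by
      intro k hk
      by_cases h : A k hk = A k₀ hk₀
      · exact (hone k hk k₁ hk₁ (by rw [h]; exact hA₁.symm)).trans (hone k₁ hk₁ k₀ hk₀ hA₁)
      · exact hone k hk k₀ hk₀ h
    let Z : {x // x ∈ B'} → C := fun k => A k.1 k.2
    set supp := univ.filter fun χ => m χ φ₁ ≠ 0
    have hsupp : supp.card ≤ j + 1 := by
      have h11 := hG.gram φ₁ φ₁
      rw [if_pos (hG.refl _), hf φ₁ hφ₁] at h11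
      have h1 : supp.card ≤ ∑ χ, m χ φ₁ * m χ φ₁ := by
        rw [card_eq_sum_ones, sum_filter]
        refine sum_le_sum fun χ _ => ?_
        split_ifs with h
        · exact Nat.one_le_iff_ne_zero.2 (Nat.mul_ne_zero h h)
        · exact Nat.zero_le _
      omega
    have hle : B'.card ≤ e * supp.card := by
      calc B'.card = B'.attach.card := card_attach.symm
        _ ≤ e * (B'.attach.image Z).card := by
          refine card_le_mul_card_image (f := Z) _ e fun x hx => ?_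
          obtain ⟨p₀, -, rfl⟩ := mem_image.1 hx
          refine le_trans ?_ (hG.fibre p₀.1)
          rw [← card_map (Function.Embedding.subtype _)]
          refine card_le_card fun ψ hψ => ?_
          obtain ⟨p, hp, rfl⟩ := mem_map.1 hψ
          exact mem_filter.2 ⟨mem_univ _, hkey p₀.1 p₀.2 p.1 p.2 (mem_filter.1 hp).2.symm
            ((hB p₀.1 p₀.2).trans (hB p.1 p.2).symm)⟩
        _ ≤ e * supp.card := by
          refine Nat.mul_le_mul_left _ (card_le_card fun x hx => ?_)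
          obtain ⟨p, -, rfl⟩ := mem_image.1 hx
          refine mem_filter.2 ⟨mem_univ _, ?_⟩
          have h1 := hval p.1 p.2
          show m (A p.1 p.2) φ₁ ≠ 0
          omega
    have := Nat.mul_le_mul_left e hsupp
    omega

/-- The base when a symmetry of the rows moves every column: the common part is the symmetric
part, provided the fixed rows carry weight at least `j`. -/
theorem GramData.exists_base_real (ι : C → C) (hι : ∀ χ, ι (ι χ) = χ) (B : Finset Φ)
    (hB : B.Nonempty) (hf : ∀ φ ∈ B, f φ = 1) (s : Φ → Φ) (hs : ∀ φ ∈ B, s φ ∈ B)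
    (hm : ∀ φ ∈ B, ∀ χ, m (ι χ) φ = m χ (s φ)) (hns : ∀ φ ∈ B, ¬ R φ (s φ))
    (hreal : ∀ φ ∈ B, j ≤ ∑ χ, if ι χ = χ then m χ φ else 0) :
    ∃ W : C → ℕ, ∑ χ, W χ * W χ = j ∧ (∀ χ, W χ ≤ 1) ∧ (∀ χ, ι χ ≠ χ → W χ = 0) ∧
      ∀ φ ∈ B, Good m f W φ := by
  classical
  have hstep : ∀ φ ∈ B, ∃ x, ι x ≠ x ∧
      (∑ χ, (if ι χ = χ then m χ φ else 0) * (if ι χ = χ then m χ φ else 0)) = j ∧
      (∀ χ, (if ι χ = χ then m χ φ else 0) ≤ 1) ∧
      ∀ χ, m χ φ = (if ι χ = χ then m χ φ else 0) + if χ = x then 1 else 0 := by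
    intro φ hφ
    have h1 := hG.gram φ φ
    rw [if_pos (hG.refl _), hf φ hφ, mul_one, mul_one] at h1
    set w : C → ℕ := fun χ => if ι χ = χ then m χ φ else 0 with hw
    set r : C → ℕ := fun χ => if ι χ = χ then 0 else m χ φ with hr
    have hsq : ∀ χ, m χ φ * m χ φ = w χ * w χ + r χ * r χ := fun χ => by
      simp only [w, r]
      split_ifs <;> simp
    rw [sum_congr rfl fun χ _ => hsq χ, sum_add_distrib] at h1
    obtain ⟨x, hx⟩ : ∃ x, ι x ≠ x ∧ m x φ ≠ 0 := by
      by_contra h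
      push Not at h
      refine hns φ hφ (hG.rel_of_eq fun χ => ?_)
      rw [← hm φ hφ]
      by_cases hχ : ι χ = χ
      · rw [hχ]
      · rw [h χ hχ, h (ι χ) (by rw [hι]; exact Ne.symm hχ)]
    have hw1 : ∑ χ, w χ ≤ ∑ χ, w χ * w χ := sum_le_sum fun χ _ => Nat.le_mul_self _
    have hwj : j ≤ ∑ χ, w χ := hreal φ hφ
    have hrx : 1 ≤ r x * r x := by
      have : r x = m x φ := if_neg hx.1
      rw [this]
      exact Nat.one_le_iff_ne_zero.2 (Nat.mul_ne_zero hx.2 hx.2)
    have hrest : 1 ≤ ∑ χ, r χ * r χ :=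
      hrx.trans (single_le_sum (f := fun χ => r χ * r χ) (fun χ _ => Nat.zero_le _) (mem_univ x))
    have hwj' : ∑ χ, w χ * w χ = j := by omega
    refine ⟨x, hx.1, hwj', fun χ => ?_, fun χ => ?_⟩
    · show w χ ≤ 1
      by_contra h
      push Not at h
      have : ∑ χ, w χ < ∑ χ, w χ * w χ := by
        refine sum_lt_sum (fun χ _ => Nat.le_mul_self _) ⟨χ, mem_univ χ, ?_⟩
        calc w χ = w χ * 1 := (mul_one _).symm
          _ < w χ * w χ := Nat.mul_lt_mul_of_pos_left h (by omega)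
      omega
    · have hmw : m χ φ = w χ + r χ := by simp only [w, r]; split_ifs <;> simp
      show m χ φ = w χ + if χ = x then 1 else 0
      rw [hmw]
      congr 1
      have hsum : ∑ χ, r χ * r χ = 1 := by omega
      have hsplit := add_sum_erase univ (fun χ => r χ * r χ) (mem_univ x)
      by_cases hχ : χ = x
      · subst hχ
        rw [if_pos rfl]
        exact Nat.eq_one_of_mul_eq_one_right (show r χ * r χ = 1 by omega)
      · rw [if_neg hχ]
        have := (sum_eq_zero_iff.1 (show ∑ χ ∈ univ.erase x, r χ * r χ = 0 by omega)) χ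
          (mem_erase.2 ⟨hχ, mem_univ χ⟩)
        exact mul_self_eq_zero.1 this
  choose X hXι hWj hW1 hX using hstep
  -- the common part does not depend on the column
  have hsame : ∀ φ (hφ : φ ∈ B) ψ (hψ : ψ ∈ B) χ,
      (if ι χ = χ then m χ φ else 0) = if ι χ = χ then m χ ψ else 0 := by
    intro φ hφ ψ hψ χ
    by_cases hR : R φ ψ
    · rw [hG.eq_of_rel hR χ]
    set w : C → ℕ := fun χ => if ι χ = χ then m χ φ else 0 with hw
    set w' : C → ℕ := fun χ => if ι χ = χ then m χ ψ else 0 with hw'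
    have hwx : ∀ y, ι y ≠ y → w y = 0 := fun y hy => if_neg hy
    have hwx' : ∀ y, ι y ≠ y → w' y = 0 := fun y hy => if_neg hy
    have hprod : ∀ (v : C → ℕ) (y : C), (∀ z, ι z ≠ z → v z = 0) → ι y ≠ y →
        ∑ χ, (w χ + if χ = X φ hφ then 1 else 0) * (v χ + if χ = y then 1 else 0) =
          (∑ χ, w χ * v χ) + if X φ hφ = y then 1 else 0 := by
      intro v y hv hy
      simp only [add_mul, mul_add, sum_add_distrib, mul_ite, ite_mul, mul_one, one_mul, mul_zero,
        zero_mul, sum_ite_eq', mem_univ, if_true, hwx y hy, hv _ (hXι φ hφ), zero_add, add_zero,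
        eq_comm (a := y)]
    have hXne : X φ hφ ≠ X ψ hψ := by
      intro e'
      have h1 := hG.gram φ ψ
      rw [if_neg hR, hf φ hφ, hf ψ hψ, sum_congr rfl fun χ _ => by rw [hX φ hφ χ, hX ψ hψ χ]] at h1
      change ∑ χ, (w χ + if χ = X φ hφ then 1 else 0) * (w' χ + if χ = X ψ hψ then 1 else 0) = _ at h1
      rw [hprod w' _ hwx' (hXι ψ hψ), if_pos e'] at h1
      have h2 := hG.gram φ (s ψ)
      rw [hf φ hφ, hf _ (hs ψ hψ)] at h2
      have hv : ∀ χ, m χ (s ψ) = w' χ + if χ = ι (X ψ hψ) then 1 else 0 := by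
        intro χ
        rw [← hm ψ hψ, hX ψ hψ (ι χ), hw']
        congr 1
        · simp only [hι]
          by_cases hχ : ι χ = χ
          · rw [if_pos hχ.symm, if_pos hχ, hχ]
          · rw [if_neg (Ne.symm hχ), if_neg hχ]
        · exact if_congr ⟨fun h => by rw [← h, hι], fun h => by rw [h, hι]⟩ rfl rfl
      rw [sum_congr rfl fun χ _ => by rw [hX φ hφ χ, hv χ]] at h2
      change ∑ χ, (w χ + if χ = X φ hφ then 1 else 0) * (w' χ + if χ = ι (X ψ hψ) then 1 else 0) = _ at h2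
      rw [hprod w' _ hwx' (by rw [hι]; exact Ne.symm (hXι ψ hψ)),
        if_neg (by rw [e']; exact Ne.symm (hXι ψ hψ))] at h2
      split_ifs at h2 <;> omega
    have h1 := hG.gram φ ψ
    rw [if_neg hR, hf φ hφ, hf ψ hψ, sum_congr rfl fun χ _ => by rw [hX φ hφ χ, hX ψ hψ χ]] at h1
    change ∑ χ, (w χ + if χ = X φ hφ then 1 else 0) * (w' χ + if χ = X ψ hψ then 1 else 0) = _ at h1
    rw [hprod w' _ hwx' (hXι ψ hψ), if_neg hXne] at h1
    have hA : ∑ χ, w χ * w χ = j := hWj φ hφ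
    have hB : ∑ χ, w' χ * w' χ = j := hWj ψ hψ
    zify at h1 hA hB
    have h0 : ∑ χ, ((w χ : ℤ) - w' χ) ^ 2 = 0 := by
      calc ∑ χ, ((w χ : ℤ) - w' χ) ^ 2 = ∑ χ, (((w χ : ℤ) * w χ + (w' χ : ℤ) * w' χ) -
            2 * ((w χ : ℤ) * w' χ)) := sum_congr rfl fun χ _ => by ring
        _ = 0 := by rw [sum_sub_distrib, sum_add_distrib, ← mul_sum, hA, hB]; linarith
    have h3 := pow_eq_zero_iff two_ne_zero |>.1
      ((sum_eq_zero_iff_of_nonneg fun χ _ => sq_nonneg _).1 h0 χ (mem_univ χ))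
    show w χ = w' χ
    omega
  obtain ⟨φ₀, hφ₀⟩ := hB
  refine ⟨fun χ => if ι χ = χ then m χ φ₀ else 0, hWj φ₀ hφ₀, hW1 φ₀ hφ₀, fun χ hχ => if_neg hχ,
    fun φ hφ => ?_⟩
  refine ⟨X φ hφ, if_neg (hXι φ hφ), fun χ => ?_⟩
  rw [hf φ hφ, one_mul, hX φ hφ χ, hsame φ hφ φ₀ hφ₀ χ]

end Cfsg.Agent.Feit
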