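import Mathlib
import Cfsg.Prelude.Def_LieExceptional

/-!
Elementary theory of Zassenhaus groups: involutions, two-point stabilisers, odd degree.
-/

set_option autoImplicit false

namespace Cfsg.Agent.Zassenhaus

open MulAction

variable {G Ω : Type*} [Group G] [MulAction G Ω]

/-- The two-point stabiliser. -/
abbrev two (G : Type*) {Ω : Type*} [Group G] [MulAction G Ω] (a b : Ω) : Subgroup G :=
  stabilizer G a ⊓ stabilizer G b

lemma mem_two {a b : Ω} {g : G} : g ∈ two G a b ↔ g • a = a ∧ g • b = b := Iff.rfl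

section
variable (hZ : Cfsg.IsZassenhausGroup G Ω)
include hZ

lemma three {g : G} {a b c : Ω} (hab : a ≠ b) (hbc : b ≠ c) (hac : a ≠ c) (ha : g • a = a)
    (hb : g • b = b) (hc : g • c = c) : g = 1 :=
  hZ.2.2.1 g a b c hab hbc hac ha hb hc

lemma eq_one_of_forall {g : G} (h : ∀ x : Ω, g • x = x) : g = 1 := by
  haveI := hZ.1
  exact eq_of_smul_eq_smul (α := Ω) (fun x => by rw [h x, one_smul])

lemma exists_smul_pair {a b c d : Ω} (hab : a ≠ b) (hcd : c ≠ d) :
    ∃ g : G, g • a = c ∧ g • b = d :=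
  (is_two_pretransitive_iff.1 hZ.2.1) hab hcd

lemma finite_group [Finite Ω] : Finite G := by
  haveI := hZ.1
  exact Finite.of_injective (fun (g : G) (x : Ω) => g • x)
    fun _ _ h => eq_of_smul_eq_smul (α := Ω) fun x => congrFun h x

lemma exists_triple : ∃ a b c : Ω, a ≠ b ∧ b ≠ c ∧ a ≠ c := by
  obtain ⟨g, hg, a, b, hab, ha, hb⟩ := hZ.2.2.2.1
  obtain ⟨c, hc⟩ : ∃ c, g • c ≠ c := by
    by_contra h
    push Not at h
    exact hg (eq_one_of_forall hZ h)
  exact ⟨a, b, c, hab, fun h => hc (h ▸ hb), fun h => hc (h ▸ ha)⟩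

lemma exists_ne (a : Ω) : ∃ b, b ≠ a := by
  obtain ⟨x, y, -, hxy, -, -⟩ := exists_triple hZ
  by_cases h : x = a
  · exact ⟨y, fun e => hxy (h.trans e.symm)⟩
  · exact ⟨x, h⟩

lemma isPretransitive : IsPretransitive G Ω := by
  refine ⟨fun a b => ?_⟩
  obtain ⟨a', ha⟩ := exists_ne hZ a
  obtain ⟨b', hb⟩ := exists_ne hZ b
  obtain ⟨g, hg, -⟩ := exists_smul_pair hZ ha.symm hb.symm
  exact ⟨g, hg⟩

lemma two_ne_bot {a b : Ω} (hab : a ≠ b) : ∃ h ∈ two G a b, h ≠ 1 := by
  obtain ⟨g, hg, c, d, hcd, hc, hd⟩ := hZ.2.2.2.1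
  obtain ⟨k, hk1, hk2⟩ := exists_smul_pair hZ hcd hab
  refine ⟨k * g * k⁻¹, ⟨?_, ?_⟩, fun h => hg (conj_eq_one_iff.1 h)⟩
  · show (k * g * k⁻¹) • a = a
    rw [mul_smul, mul_smul, inv_smul_eq_iff.2 hk1.symm, hc, hk1]
  · show (k * g * k⁻¹) • b = b
    rw [mul_smul, mul_smul, inv_smul_eq_iff.2 hk2.symm, hd, hk2]

lemma exists_conj_pair {a b c d : Ω} (hab : a ≠ b) (hcd : c ≠ d) :
    ∃ k : G, k • a = c ∧ k • b = d ∧ ∀ x : G, x ∈ two G a b ↔ k * x * k⁻¹ ∈ two G c d := by
  obtain ⟨k, hk1, hk2⟩ := exists_smul_pair hZ hab hcd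
  refine ⟨k, hk1, hk2, fun x => ?_⟩
  rw [mem_two, mem_two, mul_smul, mul_smul, mul_smul, mul_smul, inv_smul_eq_iff.2 hk1.symm,
    inv_smul_eq_iff.2 hk2.symm]
  conv_rhs => rw [← hk1, ← hk2]
  simp [smul_left_cancel_iff]

/-- Some involution swaps any two given points. -/
lemma exists_involution_swap [Finite G] {a b : Ω} (hab : a ≠ b) :
    ∃ s : G, s * s = 1 ∧ s ≠ 1 ∧ s • a = b ∧ s • b = a := by
  obtain ⟨g, hga, hgb⟩ := exists_smul_pair hZ hab hab.symm
  have hswap : ∀ k : ℕ, Odd k → (g ^ k) • a = b := by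
    intro k hk
    obtain ⟨i, rfl⟩ := hk
    induction i with
    | zero => simpa using hga
    | succ i ih =>
      rw [show 2 * (i + 1) + 1 = (2 * i + 1) + 2 by ring, pow_add, mul_smul, pow_two, mul_smul,
        hga, hgb, ih]
  have heven : Even (orderOf g) := by
    rcases Nat.even_or_odd (orderOf g) with h | h
    · exact h
    · have := hswap _ h
      rw [pow_orderOf_eq_one, one_smul] at this
      exact absurd this hab
  obtain ⟨k, hk⟩ := heven
  have hpos := orderOf_pos g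
  have hu : g ^ k * g ^ k = 1 := by rw [← pow_add, ← hk, pow_orderOf_eq_one]
  have hu1 : g ^ k ≠ 1 := by
    intro h
    have := Nat.le_of_dvd (by omega) (orderOf_dvd_of_pow_eq_one h)
    omega
  obtain ⟨c, hc⟩ : ∃ c : Ω, (g ^ k) • c ≠ c := by
    by_contra h
    push Not at h
    exact hu1 (eq_one_of_forall hZ h)
  obtain ⟨x, hx1, hx2⟩ := exists_smul_pair hZ hc.symm hab
  refine ⟨x * g ^ k * x⁻¹, ?_, fun h => hu1 (conj_eq_one_iff.1 h), ?_, ?_⟩
  · calc x * g ^ k * x⁻¹ * (x * g ^ k * x⁻¹) = x * (g ^ k * g ^ k) * x⁻¹ := by group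
      _ = 1 := by rw [hu]; group
  · rw [mul_smul, mul_smul, inv_smul_eq_iff.2 hx1.symm, hx2]
  · rw [mul_smul, mul_smul, inv_smul_eq_iff.2 hx2.symm]
    rw [show (g ^ k) • (g ^ k) • c = c by rw [← mul_smul, hu, one_smul]]
    exact hx1

lemma card_fixedBy_le_two [Finite Ω] {g : G} (hg : g ≠ 1) : Nat.card (fixedBy Ω g) ≤ 2 := by
  by_contra h
  push Not at h
  rw [Nat.card_coe_set_eq, Set.two_lt_ncard_iff] at h
  obtain ⟨a, b, c, ha, hb, hc, hab, hac, hbc⟩ := h
  exact hg (three hZ hab hbc hac ha hb hc)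

lemma card_stabilizer [Finite G] [Finite Ω] {a b : Ω} (hab : a ≠ b) :
    Nat.card (stabilizer G a) = (Nat.card Ω - 1) * Nat.card (two G a b) := by
  have horb : orbit (stabilizer G a) b = {a}ᶜ := by
    ext x
    constructor
    · rintro ⟨⟨g, hg⟩, rfl⟩ h
      have h' : g • b = a := h
      exact hab (smul_left_cancel g (h'.trans (mem_stabilizer_iff.1 hg).symm)).symm
    · intro hx
      obtain ⟨g, h1, h2⟩ := exists_smul_pair hZ hab (Ne.symm hx)
      exact ⟨⟨g, h1⟩, h2⟩
  have h1 : Nat.card (orbit (stabilizer G a) b) * Nat.card (stabilizer (stabilizer G a) b) =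
      Nat.card (stabilizer G a) := by
    rw [← Nat.card_prod]
    exact Nat.card_congr (orbitProdStabilizerEquivGroup (stabilizer G a) b)
  have h2 : Nat.card (stabilizer (stabilizer G a) b) = Nat.card (two G a b) :=
    Nat.card_congr
      { toFun := fun x => ⟨x.1.1, x.1.2, x.2⟩
        invFun := fun x => ⟨⟨x.1, x.2.1⟩, x.2.2⟩
        left_inv := fun _ => rfl
        right_inv := fun _ => rfl }
  rw [← h1, h2, horb, Nat.card_coe_set_eq, Set.ncard_compl, Set.ncard_singleton]

lemma card_two_eq [Finite G] [Finite Ω] {a b c d : Ω} (hab : a ≠ b) (hcd : c ≠ d) :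
    Nat.card (two G a b) = Nat.card (two G c d) := by
  obtain ⟨k, -, -, hk⟩ := exists_conj_pair hZ hab hcd
  exact Nat.card_congr ((MulAut.conj k).toEquiv.subtypeEquiv hk)

end

lemma fixedPoints_zpowers (t : G) :
    fixedPoints (Subgroup.zpowers t) Ω = fixedBy Ω t := by
  ext x
  constructor
  · intro h
    exact h ⟨t, Subgroup.mem_zpowers t⟩
  · intro h
    rintro ⟨g, hg⟩
    have h' : Subgroup.zpowers t ≤ stabilizer G x := by
      rw [Subgroup.zpowers_le]
      exact h
    exact h' hg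

lemma card_fixedBy_modEq [Finite Ω] {t : G} (ht : t * t = 1) :
    Nat.card (fixedBy Ω t) ≡ Nat.card Ω [MOD 2] := by
  haveI : Fact (Nat.Prime 2) := ⟨Nat.prime_two⟩
  have hp : IsPGroup 2 (Subgroup.zpowers t) := by
    rintro ⟨g, i, rfl⟩
    refine ⟨1, Subtype.ext ?_⟩
    show (t ^ i) ^ (2 ^ 1) = 1
    rw [pow_one, ← zpow_natCast, ← zpow_mul, mul_comm, zpow_mul, zpow_natCast, pow_two, ht,
      one_zpow]
  have := hp.card_modEq_card_fixedPoints Ω
  rw [fixedPoints_zpowers] at this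
  exact this.symm

/-! ### Two commuting involutions acting on a group of odd order -/

lemma sq_pow_half {N : Subgroup G} [Finite N] (hodd : Odd (Nat.card N)) {y : G} (hy : y ∈ N) :
    y ^ ((Nat.card N + 1) / 2) * y ^ ((Nat.card N + 1) / 2) = y := by
  obtain ⟨i, hi⟩ := hodd
  have h1 : y ^ Nat.card N = 1 := congrArg Subtype.val (pow_card_eq_one' (x := (⟨y, hy⟩ : N)))
  rw [← pow_add, show (Nat.card N + 1) / 2 + (Nat.card N + 1) / 2 = Nat.card N + 1 by omega,
    pow_succ, h1, one_mul]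

lemma eq_pow_half {N : Subgroup G} [Finite N] (hodd : Odd (Nat.card N)) {y w : G} (hw : w ∈ N)
    (h : w * w = y) : w = y ^ ((Nat.card N + 1) / 2) := by
  obtain ⟨i, hi⟩ := hodd
  have h1 : w ^ Nat.card N = 1 := congrArg Subtype.val (pow_card_eq_one' (x := (⟨w, hw⟩ : N)))
  rw [← h, ← pow_two, ← pow_mul,
    show 2 * ((Nat.card N + 1) / 2) = Nat.card N + 1 by omega, pow_succ, h1, one_mul]

lemma fours_generate {N : Subgroup G} [N.Normal] [Finite N] (hodd : Odd (Nat.card N))
    {s u : G} (hs : s * s = 1) (hu : u * u = 1) (hsu : s * u = u * s) {x : G} (hx : x ∈ N)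
    {M : Subgroup G} (h1 : ∀ c ∈ N, s * c = c * s → c ∈ M) (h2 : ∀ c ∈ N, u * c = c * u → c ∈ M)
    (h3 : ∀ c ∈ N, (s * u) * c = c * (s * u) → c ∈ M) : x ∈ M := by
  set e := (Nat.card N + 1) / 2 with he
  have hsi : s⁻¹ = s := inv_eq_of_mul_eq_one_left hs
  have hui : u⁻¹ = u := inv_eq_of_mul_eq_one_left hu
  set σ := MulAut.conj s with hσ
  set τ := MulAut.conj u with hτ
  have hσN : ∀ g ∈ N, σ g ∈ N := fun g hg => Subgroup.Normal.conj_mem inferInstance g hg s
  have hτN : ∀ g ∈ N, τ g ∈ N := fun g hg => Subgroup.Normal.conj_mem inferInstance g hg u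
  have hσσ : ∀ g, σ (σ g) = g := fun g => by
    simp only [hσ, MulAut.conj_apply, hsi]
    rw [show s * (s * g * s) * s = (s * s) * g * (s * s) by group, hs, one_mul, mul_one]
  have hττ : ∀ g, τ (τ g) = g := fun g => by
    simp only [hτ, MulAut.conj_apply, hui]
    rw [show u * (u * g * u) * u = (u * u) * g * (u * u) by group, hu, one_mul, mul_one]
  have hcomm : ∀ g, σ (τ g) = τ (σ g) := fun g => by
    simp only [hσ, hτ, MulAut.conj_apply]
    rw [show s * (u * g * u⁻¹) * s⁻¹ = (s * u) * g * (s * u)⁻¹ by group, hsu]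
    group
  have fixed : ∀ (r g : G), MulAut.conj r g = g → r * g = g * r := fun r g h => by
    rw [MulAut.conj_apply, mul_inv_eq_iff_eq_mul] at h
    exact h
  -- step 1
  set y := x * (σ x)⁻¹ with hy
  have hyN : y ∈ N := N.mul_mem hx (N.inv_mem (hσN x hx))
  set j := y ^ e with hj
  have hjN : j ∈ N := N.pow_mem hyN e
  have hj2 : j * j = y := sq_pow_half hodd hyN
  have hσj : σ j = j⁻¹ := by
    rw [hj, map_pow, ← inv_pow]
    congr 1
    rw [hy, map_mul, map_inv, hσσ]
    group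
  have hc : j⁻¹ * x ∈ M := by
    refine h1 _ (N.mul_mem (N.inv_mem hjN) hx) (fixed s _ ?_)
    show σ (j⁻¹ * x) = _
    rw [map_mul, map_inv, hσj, inv_inv]
    have : σ x = (j * j)⁻¹ * x := by rw [hj2, hy]; group
    rw [this]
    group
  -- step 2
  set b := τ j with hb
  have hbN : b ∈ N := hτN j hjN
  have hσb : σ b = b⁻¹ := by rw [hb, hcomm, hσj, map_inv]
  set β := b ^ e with hβ
  have hβN : β ∈ N := N.pow_mem hbN e
  have hβ2 : β * β = b := sq_pow_half hodd hbN
  have hσβ : σ β = β⁻¹ := by rw [hβ, map_pow, hσb, inv_pow]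
  set z := β⁻¹ * j * β⁻¹ with hz
  have hzN : z ∈ N := N.mul_mem (N.mul_mem (N.inv_mem hβN) hjN) (N.inv_mem hβN)
  set w := z ^ e with hw
  have hwN : w ∈ N := N.pow_mem hzN e
  have hw2 : w * w = z := sq_pow_half hodd hzN
  have hσw : σ w = w⁻¹ := by
    rw [hw, map_pow, ← inv_pow]
    congr 1
    rw [hz, map_mul, map_mul, map_inv, hσβ, hσj]
    group
  set m := β * w * β with hm
  have hmN : m ∈ N := N.mul_mem (N.mul_mem hβN hwN) hβN
  have hσm : σ m = m⁻¹ := by
    rw [hm, map_mul, map_mul, hσβ, hσw]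
    group
  have key : m * j⁻¹ * m = b := by
    have : j⁻¹ = β⁻¹ * z⁻¹ * β⁻¹ := by rw [hz]; group
    rw [this, hm, ← hw2, ← hβ2]
    group
  have uniq : ∀ p ∈ N, p * j⁻¹ * p = b → β⁻¹ * p * β⁻¹ = (z⁻¹) ^ e * z := by
    intro p hp hpb
    have hwp : β⁻¹ * p * β⁻¹ ∈ N := N.mul_mem (N.mul_mem (N.inv_mem hβN) hp) (N.inv_mem hβN)
    have hone : (β⁻¹ * p * β⁻¹) * z⁻¹ * (β⁻¹ * p * β⁻¹) = 1 := by
      have : β⁻¹ * p * β⁻¹ * z⁻¹ * (β⁻¹ * p * β⁻¹) = β⁻¹ * (p * j⁻¹ * p) * β⁻¹ := by
        rw [hz]; group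
      rw [this, hpb, ← hβ2]
      group
    have := eq_pow_half hodd (N.mul_mem hwp (N.inv_mem hzN)) (y := z⁻¹)
      (w := β⁻¹ * p * β⁻¹ * z⁻¹) (by rw [← mul_assoc, hone, one_mul])
    rw [← mul_inv_eq_iff_eq_mul, this]
  have hτm : τ m = m := by
    have h4 : τ m * j⁻¹ * τ m = b := by
      have h5 : τ m * b⁻¹ * τ m = j := by
        have := congrArg τ key
        rw [map_mul, map_mul, map_inv, ← hb, hb, hττ] at this
        rw [hb]
        exact this
      rw [← h5]
      group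
    have := (uniq (τ m) (hτN m hmN) h4).trans (uniq m hmN key).symm
    simpa using this
  set μ := m ^ e with hμ
  have hμN : μ ∈ N := N.pow_mem hmN e
  have hμ2 : μ * μ = m := sq_pow_half hodd hmN
  have hσμ : σ μ = μ⁻¹ := by rw [hμ, map_pow, hσm, inv_pow]
  have hτμ : τ μ = μ := by rw [hμ, map_pow, hτm]
  set k := μ⁻¹ * j * μ⁻¹ with hk
  have hkN : k ∈ N := N.mul_mem (N.mul_mem (N.inv_mem hμN) hjN) (N.inv_mem hμN)
  have hkM : k ∈ M := by
    refine h3 k hkN (fixed (s * u) k ?_)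
    have : MulAut.conj (s * u) k = σ (τ k) := by
      simp only [hσ, hτ, MulAut.conj_apply]
      group
    rw [this]
    have hτk : τ k = μ * j⁻¹ * μ := by
      rw [hk, map_mul, map_mul, map_inv, hτμ, ← hb, ← key, ← hμ2]
      group
    rw [hτk, map_mul, map_mul, map_inv, hσμ, hσj, hk]
    group
  have hμM : μ ∈ M := h2 μ hμN (fixed u μ hτμ)
  have : x = μ * k * μ * (j⁻¹ * x) := by rw [hk]; group
  rw [this]
  exact M.mul_mem (M.mul_mem (M.mul_mem hμM hkM) hμM) hc

/-! ### Odd degree -/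

section
variable [Finite Ω] [Finite G]

/-- In odd degree every involution fixes exactly one point. -/
lemma existsUnique_fixed (hZ : Cfsg.IsZassenhausGroup G Ω) (hodd : Odd (Nat.card Ω)) {t : G}
    (ht : t * t = 1) (ht1 : t ≠ 1) : ∃ c : Ω, t • c = c ∧ ∀ x, t • x = x → x = c := by
  have h1 := card_fixedBy_le_two hZ ht1
  have h2 : Nat.card (fixedBy Ω t) % 2 = Nat.card Ω % 2 := card_fixedBy_modEq ht
  rw [Nat.odd_iff] at hodd
  have h3 : Nat.card (fixedBy Ω t) = 1 := by omega
  rw [Nat.card_coe_set_eq, Set.ncard_eq_one] at h3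
  obtain ⟨c, hc⟩ := h3
  have hc' : ∀ x, t • x = x ↔ x = c := fun x => by
    rw [← MulAction.mem_fixedBy, hc, Set.mem_singleton_iff]
  exact ⟨c, (hc' c).2 rfl, fun x hx => (hc' x).1 hx⟩

variable (hZ : Cfsg.IsZassenhausGroup G Ω) (hodd : Odd (Nat.card Ω))
include hZ hodd

lemma not_involution_two {a b : Ω} (hab : a ≠ b) {t : G} (ht : t * t = 1) (hm : t ∈ two G a b) :
    t = 1 := by
  by_contra ht1
  obtain ⟨c, -, hc⟩ := existsUnique_fixed hZ hodd ht ht1
  exact hab ((hc a hm.1).trans (hc b hm.2).symm)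

lemma odd_card_two {a b : Ω} (hab : a ≠ b) : Odd (Nat.card (two G a b)) := by
  rcases Nat.even_or_odd (Nat.card (two G a b)) with h | h
  · haveI : Fact (Nat.Prime 2) := ⟨Nat.prime_two⟩
    obtain ⟨⟨x, hx⟩, ho⟩ := exists_prime_orderOf_dvd_card' 2 h.two_dvd
    rw [Subgroup.orderOf_mk, orderOf_eq_iff (by norm_num)] at ho
    have := ho.2 1 (by norm_num) (by norm_num)
    rw [pow_one] at this
    exact absurd (not_involution_two hZ hodd hab (by rw [← pow_two]; exact ho.1) hx) this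
  · exact h

lemma swap_conj_eq_inv {a b : Ω} (hab : a ≠ b) {t : G} (ht : t * t = 1) (hta : t • a = b)
    {h : G} (hh : h ∈ two G a b) : t * h * t = h⁻¹ := by
  have htb : t • b = a := by rw [← hta, ← mul_smul, ht, one_smul]
  have hti : t⁻¹ = t := inv_eq_of_mul_eq_one_left ht
  have ht1 : t ≠ 1 := by
    rintro rfl
    exact hab (by simpa using hta)
  have hmem : ∀ g ∈ two G a b, t * g * t ∈ two G a b := by
    intro g hg
    constructor
    · show (t * g * t) • a = a
      rw [mul_smul, mul_smul, hta, hg.2, htb]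
    · show (t * g * t) • b = b
      rw [mul_smul, mul_smul, htb, hg.1, hta]
  obtain ⟨c, hc, hcu⟩ := existsUnique_fixed hZ hodd ht ht1
  have hca : a ≠ c := fun e => hab ((e ▸ hc : t • a = a).symm.trans hta)
  have hcb : b ≠ c := fun e => hab (((e ▸ hc : t • b = b).symm.trans htb).symm)
  let f : two G a b → two G a b := fun g =>
    ⟨(g : G)⁻¹ * (t * g * t), Subgroup.mul_mem _ (Subgroup.inv_mem _ g.2) (hmem g g.2)⟩
  have hf : Function.Injective f := by
    rintro ⟨g, hg⟩ ⟨g', hg'⟩ e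
    have e' : g⁻¹ * (t * g * t) = g'⁻¹ * (t * g' * t) := congrArg Subtype.val e
    have hcom : t * (g' * g⁻¹) * t = g' * g⁻¹ := by
      have e2 : t * g' * t = g' * g⁻¹ * (t * g * t) := by
        rw [mul_assoc g', e']; group
      calc t * (g' * g⁻¹) * t = (t * g' * t) * (t⁻¹ * g⁻¹ * t) := by group
        _ = g' * g⁻¹ * (t * g * t) * (t * g⁻¹ * t) := by rw [e2, hti]
        _ = g' * g⁻¹ * (t * g * (t * t) * g⁻¹ * t) := by group
        _ = g' * g⁻¹ := by rw [ht]; simp [mul_assoc, ht]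
    have hfix : (g' * g⁻¹) • c = c := by
      refine hcu _ ?_
      conv_lhs => rw [← mul_smul]
      have : t * (g' * g⁻¹) = (g' * g⁻¹) * t := by
        calc t * (g' * g⁻¹) = t * (g' * g⁻¹) * t * t := by rw [mul_assoc _ t t, ht, mul_one]
          _ = (g' * g⁻¹) * t := by rw [hcom]
      rw [this, mul_smul, hc]
    have := three hZ hab hcb hca (Subgroup.mul_mem _ hg' (Subgroup.inv_mem _ hg)).1
      (Subgroup.mul_mem _ hg' (Subgroup.inv_mem _ hg)).2 hfix
    exact Subtype.ext (mul_inv_eq_one.1 this).symm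
  obtain ⟨⟨g, hg⟩, e⟩ := Finite.injective_iff_surjective.1 hf ⟨h, hh⟩
  have e' : g⁻¹ * (t * g * t) = h := congrArg Subtype.val e
  calc t * h * t = t * g⁻¹ * t * g * (t * t) := by rw [← e']; group
    _ = h⁻¹ := by rw [← e', ht, mul_inv_rev, inv_inv, mul_inv_rev, mul_inv_rev, hti]; group

/-- All elements swapping two given points are involutions. -/
lemma swap_sq {a b : Ω} (hab : a ≠ b) {t : G} (hta : t • a = b) (htb : t • b = a) :
    t * t = 1 := by
  obtain ⟨s, hs, -, hsa, hsb⟩ := exists_involution_swap hZ hab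
  have hh : s * t ∈ two G a b := by
    constructor
    · show (s * t) • a = a
      rw [mul_smul, hta, hsb]
    · show (s * t) • b = b
      rw [mul_smul, htb, hsa]
  have e := swap_conj_eq_inv hZ hodd hab hs hsa hh
  have e2 : t * s = (s * t)⁻¹ := by
    rw [← e, ← mul_assoc s s t, hs, one_mul]
  rw [mul_inv_rev, inv_eq_of_mul_eq_one_left hs] at e2
  exact mul_eq_one_iff_eq_inv.2 (mul_right_cancel e2)

end

end Cfsg.Agent.Zassenhaus

namespace Cfsg.Agent.Zassenhaus

open MulAction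

section
variable {G Ω : Type*} [Group G] [MulAction G Ω] [Finite Ω] [Finite G]
variable (hZ : Cfsg.IsZassenhausGroup G Ω)
include hZ

omit [Finite Ω] [Finite G] in
lemma isPretransitive_normal {N : Subgroup G} [N.Normal] (hN : N ≠ ⊥) (a b : Ω) :
    ∃ g ∈ N, g • a = b := by
  obtain ⟨x, hx, hx1⟩ := (Subgroup.ne_bot_iff_exists_ne_one.1 hN).elim
    fun y hy => (⟨y.1, y.2, fun h => hy (Subtype.ext h)⟩ : ∃ x, x ∈ N ∧ x ≠ 1)
  obtain ⟨p, hp⟩ : ∃ p : Ω, x • p ≠ p := by
    by_contra h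
    push Not at h
    exact hx1 (eq_one_of_forall hZ h)
  by_cases hab : a = b
  · exact ⟨1, N.one_mem, by simp [hab]⟩
  · obtain ⟨k, hk1, hk2⟩ := exists_smul_pair hZ hp.symm hab
    refine ⟨k * x * k⁻¹, Subgroup.Normal.conj_mem inferInstance x hx k, ?_⟩
    rw [mul_smul, mul_smul, inv_smul_eq_iff.2 hk1.symm, hk2]

/-- The non-identity elements fixing `a` and one further point. -/
lemma card_fix_pairs (a : Ω) {b : Ω} (hab : a ≠ b) :
    {g : G | g • a = a ∧ g ≠ 1 ∧ ∃ c, c ≠ a ∧ g • c = c}.ncard =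
      (Nat.card Ω - 1) * (Nat.card (two G a b) - 1) := by
  classical
  haveI := Fintype.ofFinite Ω
  haveI := Fintype.ofFinite G
  have e : {g : G | g • a = a ∧ g ≠ 1 ∧ ∃ c, c ≠ a ∧ g • c = c} =
      ↑((Finset.univ.erase a).biUnion
        fun c => Finset.univ.filter fun g : G => g ∈ two G a c ∧ g ≠ 1) := by
    ext g
    simp only [Set.mem_setOf_eq, Finset.coe_biUnion, Set.mem_iUnion, Finset.coe_erase,
      Finset.coe_univ, Set.mem_sdiff, Set.mem_univ, true_and, Set.mem_singleton_iff,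
      Finset.coe_filter, Finset.mem_univ, mem_two, exists_prop]
    constructor
    · rintro ⟨h1, h2, c, h3, h4⟩
      exact ⟨c, h3, ⟨h1, h4⟩, h2⟩
    · rintro ⟨c, h3, ⟨h1, h4⟩, h2⟩
      exact ⟨h1, h2, c, h3, h4⟩
  rw [e, Set.ncard_coe_finset, Finset.card_biUnion]
  · rw [Finset.sum_const_nat (m := Nat.card (two G a b) - 1)]
    · simp [Nat.card_eq_fintype_card]
    · intro c hc
      rw [Finset.mem_erase] at hc
      rw [card_two_eq hZ hab hc.1.symm, Nat.card_eq_fintype_card, ← Finset.card_univ,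
        ← Finset.card_map (Function.Embedding.subtype _)]
      rw [← Finset.card_erase_of_mem (a := (1 : G))
        (by simp [Subgroup.one_mem])]
      congr 1
      ext g
      simp
      tauto
  · intro c hc d hd hcd
    rw [Function.onFun, Finset.disjoint_left]
    intro g hg hg'
    simp only [Finset.mem_filter, Finset.mem_univ, true_and, mem_two] at hg hg'
    simp only [Finset.coe_erase, Set.mem_diff, Set.mem_singleton_iff] at hc hd
    exact hg.2 (three hZ (Ne.symm hc.2) hcd (Ne.symm hd.2) hg.1.1 hg.1.2 hg'.1.2)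

variable (hodd : Odd (Nat.card Ω))
include hodd

lemma card_invol_fix (a : Ω) {b : Ω} (hab : a ≠ b) :
    {g : G | (g * g = 1 ∧ g ≠ 1) ∧ g • a = a}.ncard = Nat.card (two G a b) := by
  classical
  haveI := Fintype.ofFinite Ω
  let Inv := {g : G // g * g = 1 ∧ g ≠ 1}
  let f : Inv → Ω := fun g => (existsUnique_fixed hZ hodd g.2.1 g.2.2).choose
  have hf : ∀ (g : Inv) (c : Ω), f g = c ↔ (g : G) • c = c := by
    intro g c
    obtain ⟨h1, h2⟩ := (existsUnique_fixed hZ hodd g.2.1 g.2.2).choose_spec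
    exact ⟨fun e => e ▸ h1, fun h => (h2 c h).symm⟩
  set I := {g : G | (g * g = 1 ∧ g ≠ 1) ∧ g • a = a}.ncard with hI
  have hfib : ∀ c, Nat.card {g : Inv // f g = c} = I := by
    intro c
    obtain ⟨k, hk⟩ := (isPretransitive hZ).exists_smul_eq a c
    rw [hI, ← Nat.card_coe_set_eq]
    refine Nat.card_congr
      { toFun := fun g => ⟨k⁻¹ * g.1.1 * k, ⟨?_, ?_⟩, ?_⟩
        invFun := fun g => ⟨⟨k * g.1 * k⁻¹, ?_, ?_⟩, (hf _ _).2 ?_⟩
        left_inv := fun g => by ext; simp [mul_assoc]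
        right_inv := fun g => by ext; simp [mul_assoc] }
    · calc k⁻¹ * g.1.1 * k * (k⁻¹ * g.1.1 * k) = k⁻¹ * (g.1.1 * g.1.1) * k := by group
        _ = 1 := by rw [g.1.2.1]; group
    · intro h
      apply g.1.2.2
      calc g.1.1 = k * (k⁻¹ * g.1.1 * k) * k⁻¹ := by group
        _ = 1 := by rw [h]; group
    · show (k⁻¹ * g.1.1 * k) • a = a
      rw [mul_smul, mul_smul, hk, (hf _ _).1 g.2, inv_smul_eq_iff.2 hk.symm]
    · calc k * g.1 * k⁻¹ * (k * g.1 * k⁻¹) = k * (g.1 * g.1) * k⁻¹ := by group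
        _ = 1 := by rw [g.2.1.1]; group
    · exact fun h => g.2.1.2 (conj_eq_one_iff.1 h)
    · show (k * g.1 * k⁻¹) • c = c
      rw [mul_smul, mul_smul, inv_smul_eq_iff.2 hk.symm, g.2.2, hk]
  have h1 : Nat.card Inv = Nat.card Ω * I := by
    rw [← Nat.card_congr (Equiv.sigmaFiberEquiv f), Nat.card_sigma, Finset.sum_congr rfl
      fun c _ => hfib c, Finset.sum_const, Finset.card_univ, smul_eq_mul, Nat.card_eq_fintype_card]
  have hI' : Nat.card {g : Inv // (g : G) • a = a} = I := by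
    rw [← hfib a]
    exact Nat.card_congr (Equiv.subtypeEquivRight fun g => (hf g a).symm)
  have hrest : ∀ c, c ≠ a → Nat.card {g : Inv // (g : G) • a = c} = Nat.card (two G a b) := by
    intro c hc
    obtain ⟨t, ht, ht1, hta, htc⟩ := exists_involution_swap hZ hc.symm
    rw [card_two_eq hZ hab hc.symm]
    have hswap : ∀ g : G, g * g = 1 → g • a = c → g • c = a := fun g hg hga => by
      rw [← hga, ← mul_smul, hg, one_smul]
    refine Nat.card_congr
      { toFun := fun g => ⟨t * g.1.1, ?_, ?_⟩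
        invFun := fun h => ⟨⟨t * h.1, ?_, ?_⟩, ?_⟩
        left_inv := fun g => by ext; simp [← mul_assoc, ht]
        right_inv := fun g => by ext; simp [← mul_assoc, ht] }
    · show (t * g.1.1) • a = a
      rw [mul_smul, g.2, htc]
    · show (t * g.1.1) • c = c
      rw [mul_smul, hswap _ g.1.2.1 g.2, hta]
    · exact swap_sq hZ hodd hc.symm (by rw [mul_smul, h.2.1]; exact hta)
        (by rw [mul_smul, h.2.2]; exact htc)
    · intro e
      have : (t * h.1) • a = c := by rw [mul_smul, h.2.1]; exact hta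
      rw [e, one_smul] at this
      exact hc this.symm
    · show (t * h.1) • a = c
      rw [mul_smul, h.2.1]
      exact hta
  have h2 : Nat.card Inv = I + (Nat.card Ω - 1) * Nat.card (two G a b) := by
    rw [← Nat.card_congr (Equiv.sigmaFiberEquiv fun g : Inv => (g : G) • a), Nat.card_sigma,
      ← Finset.add_sum_erase _ _ (Finset.mem_univ a), hI',
      Finset.sum_const_nat (m := Nat.card (two G a b)) fun c hc => hrest c (Finset.ne_of_mem_erase hc)]
    simp [Nat.card_eq_fintype_card]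
  obtain ⟨m, hm⟩ : ∃ m, Nat.card Ω = m + 1 :=
    ⟨Nat.card Ω - 1, by have := hodd.pos; omega⟩
  have hm1 : 0 < m := by
    by_contra h
    have : Nat.card Ω = 1 := by omega
    exact hab ((Nat.card_eq_one_iff_unique.1 this).1.elim a b)
  rw [hm] at h1 h2
  simp only [Nat.add_sub_cancel] at h2
  have : m * I = m * Nat.card (two G a b) := by
    rw [h1, add_mul, one_mul] at h2
    omega
  exact Nat.eq_of_mul_eq_mul_left hm1 this

lemma even_card_normal {N : Subgroup G} [N.Normal] (hN : N ≠ ⊥) : Even (Nat.card N) := by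
  classical
  by_contra hNodd
  rw [Nat.not_even_iff_odd] at hNodd
  obtain ⟨x, y, -, hxy, -, -⟩ := exists_triple hZ
  obtain ⟨s, hs, hs1, -, -⟩ := exists_involution_swap hZ hxy
  obtain ⟨a, hsa, -⟩ := existsUnique_fixed hZ hodd hs hs1
  obtain ⟨b, hba⟩ := exists_ne hZ a
  have fixa : ∀ u : G, u * u = 1 → u ≠ 1 → u • a = a → ∀ c, u * c = c * u →
      c ∈ stabilizer G a := by
    intro u hu hu1 hua c hc
    obtain ⟨a', -, ha'⟩ := existsUnique_fixed hZ hodd hu hu1
    have h1 : u • c • a = c • a := by rw [← mul_smul, hc, mul_smul, hua]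
    exact mem_stabilizer_iff.2 ((ha' _ h1).trans (ha' _ hua).symm)
  have rank1 : ∀ u : G, u * u = 1 → u ≠ 1 → u • a = a → s * u = u * s → u = s := by
    intro u hu hu1 hua hsu
    by_contra hne
    have hsu2 : (s * u) * (s * u) = 1 := by
      calc (s * u) * (s * u) = s * (u * s) * u := by group
        _ = (s * s) * (u * u) := by rw [← hsu]; group
        _ = 1 := by rw [hs, hu, mul_one]
    have hsu1 : s * u ≠ 1 := fun h => hne
      ((mul_eq_one_iff_inv_eq.1 h).symm.trans (inv_eq_of_mul_eq_one_left hs))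
    have hsua : (s * u) • a = a := by rw [mul_smul, hua, hsa]
    have hle : N ≤ stabilizer G a := fun c hc =>
      fours_generate hNodd hs hu hsu hc (fun c _ h => fixa s hs hs1 hsa c h)
        (fun c _ h => fixa u hu hu1 hua c h) fun c _ h => fixa _ hsu2 hsu1 hsua c h
    obtain ⟨g, hg, hgab⟩ := isPretransitive_normal hZ hN a b
    exact hba (hgab.symm.trans (hle hg))
  set Ga := stabilizer G a
  set C := Ga ⊓ Subgroup.centralizer ({s} : Set G) with hC
  have hmemC : ∀ g, g ∈ C ↔ g • a = a ∧ s * g = g * s := fun g => by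
    rw [hC, Subgroup.mem_inf, Subgroup.mem_centralizer_singleton_iff, mem_stabilizer_iff, eq_comm
      (a := s * g)]
  set U := {g : G | g • a = a ∧ g ≠ 1 ∧ ∃ c, c ≠ a ∧ g • c = c}
  have hdisj : Disjoint (C : Set G) U := by
    rw [Set.disjoint_left]
    rintro g hg ⟨hga, hg1, c, hca, hgc⟩
    have hsc : s • c ≠ c := fun h =>
      hca ((existsUnique_fixed hZ hodd hs hs1).elim fun e he => (he.2 c h).trans (he.2 a hsa).symm)
    have hsca : s • c ≠ a := fun h => hca (smul_left_cancel s (h.trans hsa.symm))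
    have hgsc : g • s • c = s • c := by rw [← mul_smul, ← ((hmemC g).1 hg).2, mul_smul, hgc]
    exact hg1 (three hZ hca.symm hsc.symm hsca.symm hga hgc hgsc)
  have hcardGa := card_stabilizer hZ hba.symm
  set d := Nat.card (two G a b)
  have hd : 1 < d := by
    obtain ⟨h, hh, hh1⟩ := two_ne_bot hZ hba.symm
    rw [Finite.one_lt_card_iff_nontrivial]
    exact ⟨⟨⟨h, hh⟩, 1, fun e => hh1 (congrArg Subtype.val e)⟩⟩
  have hU : U.ncard = (Nat.card Ω - 1) * (d - 1) := card_fix_pairs hZ a hba.symm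
  have hCU : (C : Set G).ncard + U.ncard ≤ Nat.card Ga := by
    rw [← Set.ncard_union_eq hdisj, show Nat.card Ga = (Ga : Set G).ncard from
      Nat.card_coe_set_eq _]
    exact Set.ncard_le_ncard (Set.union_subset (fun g hg => ((hmemC g).1 hg).1) fun g hg => hg.1)
  have hCle : Nat.card C ≤ Nat.card Ga - U.ncard := by
    have : (C : Set G).ncard = Nat.card C := (Nat.card_coe_set_eq _).symm
    omega
  set I := {g : G | (g * g = 1 ∧ g ≠ 1) ∧ g • a = a} with hI
  have hIcard : I.ncard = d := card_invol_fix hZ hodd a hba.symm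
  have hconj : ∀ g ∈ Ga, g * s * g⁻¹ ∈ I := by
    intro g hg
    refine ⟨⟨?_, fun h => hs1 (conj_eq_one_iff.1 h)⟩, ?_⟩
    · calc g * s * g⁻¹ * (g * s * g⁻¹) = g * (s * s) * g⁻¹ := by group
        _ = 1 := by rw [hs]; group
    · show (g * s * g⁻¹) • a = a
      rw [mul_smul, mul_smul, inv_smul_eq_iff.2 (mem_stabilizer_iff.1 hg).symm, hsa]
      exact mem_stabilizer_iff.1 hg
  have hCGa : C ≤ Ga := fun g hg => ((hmemC g).1 hg).1
  have hcls : Nat.card Ga ≤ d * Nat.card C := by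
    have hiff : ∀ g g' : Ga, g⁻¹ * g' ∈ C.subgroupOf Ga ↔
        (g : G) * s * (g : G)⁻¹ = (g' : G) * s * (g' : G)⁻¹ := by
      intro g g'
      rw [Subgroup.mem_subgroupOf, hmemC]
      constructor
      · rintro ⟨-, h⟩
        calc (g : G) * s * (g : G)⁻¹
            = (g : G) * (s * ((g⁻¹ * g' : Ga) : G)) * (g' : G)⁻¹ := by simp [mul_assoc]
          _ = (g' : G) * s * (g' : G)⁻¹ := by rw [h]; simp [mul_assoc]
      · intro h
        refine ⟨mem_stabilizer_iff.1 (g⁻¹ * g' : Ga).2, ?_⟩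
        calc s * ((g⁻¹ * g' : Ga) : G) = (g : G)⁻¹ * ((g : G) * s * (g : G)⁻¹) * g' := by
              simp [mul_assoc]
          _ = _ := by rw [h]; simp [mul_assoc]
    let f : Ga ⧸ C.subgroupOf Ga → I := Quotient.lift
      (fun g : Ga => (⟨(g : G) * s * (g : G)⁻¹, hconj g g.2⟩ : I))
      fun g g' h => Subtype.ext ((hiff g g').1 (QuotientGroup.leftRel_apply.1 h))
    have hf : Function.Injective f := by
      intro x y
      induction x using QuotientGroup.induction_on with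
      | H g =>
      induction y using QuotientGroup.induction_on with
      | H g' =>
      exact fun e => QuotientGroup.eq.2 ((hiff g g').2 (congrArg Subtype.val e))
    have h1 := Nat.card_le_card_of_injective f hf
    rw [Nat.card_coe_set_eq, hIcard] at h1
    rw [Subgroup.card_eq_card_quotient_mul_card_subgroup (C.subgroupOf Ga),
      Nat.card_congr (Subgroup.subgroupOfEquivOfLe hCGa).toEquiv]
    exact Nat.mul_le_mul_right _ h1
  have hCn : Nat.card C = Nat.card Ω - 1 := by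
    rw [hcardGa, hU, Nat.mul_sub, mul_one] at hCle
    rw [hcardGa, mul_comm] at hcls
    have h1 := Nat.le_of_mul_le_mul_left hcls (by omega)
    have h2 : Nat.card Ω - 1 ≤ (Nat.card Ω - 1) * d := Nat.le_mul_of_pos_right _ (by omega)
    omega
  have hall : (C : Set G) ∪ U = (Ga : Set G) := by
    refine Set.eq_of_subset_of_ncard_le (Set.union_subset hCGa fun g hg => hg.1) ?_
    rw [Set.ncard_union_eq hdisj, show (Ga : Set G).ncard = Nat.card Ga from
      (Nat.card_coe_set_eq _).symm, show (C : Set G).ncard = Nat.card C from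
      (Nat.card_coe_set_eq _).symm, hCn, hU, hcardGa, Nat.mul_sub, mul_one]
    have h2 : Nat.card Ω - 1 ≤ (Nat.card Ω - 1) * d := Nat.le_mul_of_pos_right _ (by omega)
    omega
  have hIs : I ⊆ {s} := by
    rintro u ⟨⟨hu, hu1⟩, hua⟩
    have : u ∈ (C : Set G) ∪ U := hall.ge (mem_stabilizer_iff.2 hua)
    rcases this with h | ⟨-, -, c, hca, huc⟩
    · exact rank1 u hu hu1 hua ((hmemC u).1 h).2
    · exact absurd hu1 (not_not.2 (not_involution_two hZ hodd hca.symm hu ⟨hua, huc⟩))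
  have := Set.ncard_le_ncard hIs
  rw [hIcard, Set.ncard_singleton] at this
  omega

/-- A Zassenhaus group of odd degree has no proper non-trivial normal subgroup. -/
lemma eq_top_of_normal {N : Subgroup G} [N.Normal] (hN : N ≠ ⊥) : N = ⊤ := by
  haveI : Fact (Nat.Prime 2) := ⟨Nat.prime_two⟩
  obtain ⟨⟨u, huN⟩, hu⟩ := exists_prime_orderOf_dvd_card' 2 (even_card_normal hZ hodd hN).two_dvd
  rw [Subgroup.orderOf_mk, orderOf_eq_iff (by norm_num)] at hu
  have hu1 : u ≠ 1 := by simpa using hu.2 1 (by norm_num) (by norm_num)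
  have hu2 : u * u = 1 := by rw [← pow_two]; exact hu.1
  obtain ⟨p, hp⟩ : ∃ p : Ω, u • p ≠ p := by
    by_contra h
    push Not at h
    exact hu1 (eq_one_of_forall hZ h)
  have hHN : ∀ a b : Ω, a ≠ b → two G a b ≤ N := by
    intro a b hab h hh
    obtain ⟨k, -, -, hk⟩ := exists_conj_pair hZ hab hp.symm
    set h' := k * h * k⁻¹ with hh'
    have hmem : h' ∈ two G p (u • p) := (hk h).1 hh
    have hinv := swap_conj_eq_inv hZ hodd hp.symm hu2 rfl (Subgroup.inv_mem _ hmem)
    rw [inv_inv] at hinv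
    have hsq : h' * h' ∈ N := by
      have h1 : h' * u * h'⁻¹ * u ∈ N :=
        N.mul_mem (Subgroup.Normal.conj_mem inferInstance u huN h') huN
      rwa [show h' * u * h'⁻¹ * u = h' * (u * h'⁻¹ * u) by group, hinv] at h1
    obtain ⟨i, hi⟩ := odd_card_two hZ hodd hp.symm
    have h1 : h' ^ Nat.card (two G p (u • p)) = 1 :=
      congrArg Subtype.val (pow_card_eq_one' (x := (⟨h', hmem⟩ : two G p (u • p))))
    have h'N : h' ∈ N := by
      have : h' = (h' * h') ^ (i + 1) := by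
        rw [← pow_two, ← pow_mul, show 2 * (i + 1) = Nat.card (two G p (u • p)) + 1 by omega,
          pow_succ, h1, one_mul]
      rw [this]
      exact N.pow_mem hsq _
    have := Subgroup.Normal.conj_mem (inferInstance : N.Normal) h' h'N k⁻¹
    rw [hh'] at this
    simpa [mul_assoc] using this
  rw [eq_top_iff]
  intro g _
  obtain ⟨b, hb⟩ := exists_ne hZ p
  obtain ⟨m, hmN, hm⟩ := isPretransitive_normal hZ hN p (g • p)
  have hle : stabilizer G p ≤ N := by
    by_contra hnle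
    set Ga := stabilizer G p
    have hidx : 2 ≤ (N.subgroupOf Ga).index := by
      have h0 : (N.subgroupOf Ga).index ≠ 0 := Subgroup.index_ne_zero_of_finite
      have h1 : (N.subgroupOf Ga).index ≠ 1 := by
        rwa [Ne, Subgroup.index_eq_one, Subgroup.subgroupOf_eq_top]
      omega
    have h2 : 2 * Nat.card (N.subgroupOf Ga) ≤ Nat.card Ga := by
      rw [← Subgroup.card_mul_index (N.subgroupOf Ga), mul_comm]
      exact Nat.mul_le_mul_left _ hidx
    have hsub : insert 1 {g : G | g • p = p ∧ g ≠ 1 ∧ ∃ c, c ≠ p ∧ g • c = c} ⊆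
        ((N ⊓ Ga : Subgroup G) : Set G) := by
      rintro g (rfl | ⟨hg, -, c, hc, hgc⟩)
      · exact Subgroup.one_mem _
      · exact ⟨hHN p c hc.symm ⟨hg, hgc⟩, hg⟩
    have h3 := Set.ncard_le_ncard hsub
    rw [Set.ncard_insert_of_notMem (by simp) (Set.toFinite _), card_fix_pairs hZ p hb.symm] at h3
    have h4 : Nat.card (N.subgroupOf Ga) = ((N ⊓ Ga : Subgroup G) : Set G).ncard := by
      rw [← Subgroup.inf_subgroupOf_right,
        Nat.card_congr (Subgroup.subgroupOfEquivOfLe inf_le_right).toEquiv]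
      exact Nat.card_coe_set_eq _
    rw [← h4] at h3
    rw [card_stabilizer hZ hb.symm] at h2
    have hd : 2 ≤ Nat.card (two G p b) := by
      obtain ⟨h, hh, hh1⟩ := two_ne_bot hZ hb.symm
      rw [Nat.succ_le_iff, Finite.one_lt_card_iff_nontrivial]
      exact ⟨⟨⟨h, hh⟩, 1, fun e => hh1 (congrArg Subtype.val e)⟩⟩
    obtain ⟨e, he⟩ : ∃ e, Nat.card (two G p b) = e + 2 := ⟨_, (Nat.sub_add_cancel hd).symm⟩
    rw [he, show e + 2 - 1 = e + 1 by omega] at h3
    rw [he] at h2
    nlinarith [Nat.zero_le ((Nat.card Ω - 1) * e)]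
  have : m⁻¹ * g ∈ N := hle (mem_stabilizer_iff.2 (by rw [mul_smul, inv_smul_eq_iff, hm]))
  simpa using N.mul_mem hmN this

end

end Cfsg.Agent.Zassenhaus
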