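import Mathlib
import Cfsg.Agent.Lib.Zassenhaus
import Cfsg.Agent.Lib.FrobeniusBasic
import Cfsg.Agent.Lib.CharInducedTI

/-!
Doubly transitive groups with trivial three-point stabilisers: Frobenius kernel of a point
stabiliser, regular normal subgroups, normal subgroups of Zassenhaus groups.
-/

set_option autoImplicit false

open scoped Pointwise

namespace Cfsg.Agent.Zassenhaus

open MulAction

variable {G Ω : Type*} [Group G] [MulAction G Ω]

/-- Doubly transitive, faithful, trivial three-point stabilisers, non-trivial two-point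
stabilisers. -/
structure Pre (G Ω : Type*) [Group G] [MulAction G Ω] : Prop where
  faithful : FaithfulSMul G Ω
  smul_pair : ∀ a b c d : Ω, a ≠ b → c ≠ d → ∃ g : G, g • a = c ∧ g • b = d
  three : ∀ g : G, ∀ a b c : Ω, a ≠ b → b ≠ c → a ≠ c → g • a = a → g • b = b → g • c = c → g = 1
  two_ne : ∀ a b : Ω, a ≠ b → ∃ h ∈ two G a b, h ≠ 1

lemma pre_of_isZassenhaus (hZ : Cfsg.IsZassenhausGroup G Ω) : Pre G Ω :=
  ⟨hZ.1, fun _ _ _ _ hab hcd => exists_smul_pair hZ hab hcd, hZ.2.2.1,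
    fun _ _ hab => two_ne_bot hZ hab⟩

lemma pre_of_hyp [hf : FaithfulSMul G Ω] (h2 : IsMultiplyPretransitive G Ω 2)
    (h3 : ∀ g : G, ∀ a b c : Ω, a ≠ b → b ≠ c → a ≠ c → g • a = a → g • b = b → g • c = c → g = 1)
    (hfix : ∃ g : G, g ≠ 1 ∧ ∃ a b : Ω, a ≠ b ∧ g • a = a ∧ g • b = b) : Pre G Ω := by
  have hp : ∀ a b c d : Ω, a ≠ b → c ≠ d → ∃ g : G, g • a = c ∧ g • b = d :=
    fun a b c d hab hcd => (is_two_pretransitive_iff.1 h2) hab hcd
  refine ⟨hf, hp, h3, fun a b hab => ?_⟩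
  obtain ⟨g, hg, c, d, hcd, hc, hd⟩ := hfix
  obtain ⟨k, hk1, hk2⟩ := hp c d a b hcd hab
  refine ⟨k * g * k⁻¹, ⟨?_, ?_⟩, fun h => hg (conj_eq_one_iff.1 h)⟩
  · show (k * g * k⁻¹) • a = a
    rw [mul_smul, mul_smul, inv_smul_eq_iff.2 hk1.symm, hc, hk1]
  · show (k * g * k⁻¹) • b = b
    rw [mul_smul, mul_smul, inv_smul_eq_iff.2 hk2.symm, hd, hk2]

variable (hP : Pre G Ω)
include hP

lemma Pre.eq_one_of_forall {g : G} (h : ∀ x : Ω, g • x = x) : g = 1 := by
  haveI := hP.faithful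
  exact eq_of_smul_eq_smul (α := Ω) (fun x => by rw [h x, one_smul])

lemma Pre.exists_third {a b : Ω} (hab : a ≠ b) : ∃ c, c ≠ a ∧ c ≠ b := by
  obtain ⟨h, ⟨ha, hb⟩, h1⟩ := hP.two_ne a b hab
  obtain ⟨c, hc⟩ : ∃ c, h • c ≠ c := by
    by_contra hc
    push Not at hc
    exact h1 (hP.eq_one_of_forall hc)
  exact ⟨c, fun e => hc (e ▸ ha), fun e => hc (e ▸ hb)⟩

lemma Pre.finite [Finite Ω] : Finite G := by
  haveI := hP.faithful
  exact Finite.of_injective (fun (g : G) (x : Ω) => g • x)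
    fun _ _ h => eq_of_smul_eq_smul (α := Ω) fun x => congrFun h x

lemma Pre.exists_ne [Nontrivial G] (a : Ω) : ∃ b, b ≠ a := by
  obtain ⟨g, hg⟩ := _root_.exists_ne (1 : G)
  by_contra h
  push Not at h
  exact hg (hP.eq_one_of_forall fun x => (h _).trans (h x).symm)

/-- The Frobenius kernel of a point stabiliser. -/
lemma Pre.exists_kernel [Finite Ω] {a b : Ω} (hab : a ≠ b) :
    ∃ K : Subgroup G, K ≤ stabilizer G a ∧ (∀ g ∈ stabilizer G a, ∀ k ∈ K, g * k * g⁻¹ ∈ K) ∧
      (∀ y z : Ω, y ≠ a → z ≠ a → ∃ k ∈ K, k • y = z) ∧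
      (∀ k ∈ K, ∀ y, y ≠ a → k • y = y → k = 1) := by
  haveI := hP.finite
  set Ga := stabilizer G a
  set H : Subgroup Ga := (two G a b).subgroupOf Ga
  have hHmem : ∀ g : Ga, g ∈ H ↔ (g : G) • b = b := fun g => by
    simp [H, Subgroup.mem_subgroupOf, g.2, mem_two]
  have hmove : ∀ z, z ≠ a → ∃ g : Ga, (g : G) • b = z := by
    intro z hz
    obtain ⟨g, hga, hgb⟩ := hP.smul_pair a b a z hab hz.symm
    exact ⟨⟨g, hga⟩, hgb⟩
  have hH : Cfsg.IsFrobeniusComplement H := by
    refine ⟨?_, ?_, ?_⟩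
    · obtain ⟨h, hh, h1⟩ := hP.two_ne a b hab
      intro e
      have : (⟨h, hh.1⟩ : Ga) ∈ H := hh
      rw [e, Subgroup.mem_bot] at this
      exact h1 (congrArg Subtype.val this)
    · intro e
      obtain ⟨c, hca, hcb⟩ := hP.exists_third hab
      obtain ⟨g, hg⟩ := hmove c hca
      exact hcb (hg.symm.trans ((hHmem g).1 (e ▸ Subgroup.mem_top _)))
    · intro g hg
      rw [eq_bot_iff]
      rintro x ⟨hx, hx'⟩
      obtain ⟨y, hy, rfl⟩ := hx'
      rw [Subgroup.mem_bot]
      apply Subtype.ext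
      have hgb : (g : G) • b ≠ b := fun e => hg ((hHmem g).2 e)
      have hga : (g : G) • b ≠ a := fun e => by
        have : (g : G) • b = (g : G) • a := e.trans g.2.symm
        exact hab (smul_left_cancel _ this).symm
      refine hP.three _ a b ((g : G) • b) hab hgb.symm hga.symm
        (mem_stabilizer_iff.1 (MulAut.conj g y).2) ((hHmem _).1 hx) ?_
      show ((g : G) * y * (g : G)⁻¹) • (g : G) • b = _
      rw [← mul_smul, inv_mul_cancel_right, mul_smul, (hHmem y).1 hy]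
  haveI := Fintype.ofFinite Ga
  obtain ⟨N, hNset, hNn, hNc⟩ := Cfsg.Agent.CharInduced.frobenius_kernel_subgroup hH
  refine ⟨N.map Ga.subtype, ?_, ?_, ?_, ?_⟩
  · rintro _ ⟨k, -, rfl⟩
    exact k.2
  · rintro g hg _ ⟨k, hk, rfl⟩
    exact ⟨⟨g, hg⟩ * k * ⟨g, hg⟩⁻¹, hNn.conj_mem k hk _, rfl⟩
  · intro y z hy hz
    obtain ⟨g, hg⟩ := hmove y hy
    obtain ⟨g', hg'⟩ := hmove z hz
    have key : ∀ x : Ga, ∃ k ∈ N, (k : G) • b = (x : G) • b := by
      intro x
      obtain ⟨⟨n, hn⟩, e : n.1 * n.2.1 = x⟩ :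
          ∃ n : {n : N × H // True}, (n.1.1 : Ga) * n.1.2 = x := by
        obtain ⟨n, hn⟩ := hNc.2 x
        exact ⟨⟨n, trivial⟩, hn⟩
      refine ⟨n.1.1, n.1.2, ?_⟩
      rw [← e]
      show _ = ((n.1.1 : G) * (n.2.1 : G)) • b
      rw [mul_smul, (hHmem _).1 n.2.2]
    obtain ⟨k, hk, hkb⟩ := key g
    obtain ⟨k', hk', hkb'⟩ := key g'
    refine ⟨_, ⟨k' * k⁻¹, Subgroup.mul_mem _ hk' (Subgroup.inv_mem _ hk), rfl⟩, ?_⟩
    show ((k' : G) * (k : G)⁻¹) • y = z
    rw [← hg, ← hkb, mul_smul, inv_smul_smul, hkb', hg']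
  · rintro _ ⟨k, hk, rfl⟩ y hy hky
    obtain ⟨g, hg⟩ := hmove y hy
    by_contra hk1
    have hk' : k ∈ Cfsg.frobeniusKernel H := by
      rw [← hNset]
      exact hk
    rcases hk' with rfl | hk'
    · exact hk1 rfl
    · refine hk' g ⟨g⁻¹ * k * g, (hHmem _).2 ?_, ?_⟩
      · show ((g : G)⁻¹ * (k : G) * (g : G)) • b = b
        rw [mul_smul, mul_smul, hg, show (k : G) • y = y from hky, ← hg, inv_smul_smul]
      · show g * (g⁻¹ * k * g) * g⁻¹ = k
        group

/-- Two-point stabilisers act without fixed points on the kernel. -/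
lemma Pre.fpf {a b : Ω} (hab : a ≠ b) {k h : G} (hk : k • a = a)
    (hfree : k • b = b → k = 1) (hh : h ∈ two G a b) (h1 : h ≠ 1) (hc : h * k = k * h) : k = 1 := by
  apply hfree
  by_contra hkb
  have hka : k • b ≠ a := fun e => hab (smul_left_cancel k (hk.trans e.symm))
  have : h • k • b = k • b := by rw [← mul_smul, hc, mul_smul, hh.2]
  exact h1 (hP.three h a b (k • b) hab (Ne.symm hkb) hka.symm hh.1 hh.2 this)

omit hP in
lemma regular_involutions (hP : Pre G Ω) [Nontrivial G] {N M : Subgroup G}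
    (hMN : ∀ n ∈ N, ∀ m ∈ M, n * m * n⁻¹ ∈ M)
    (hN2 : ∀ a b c : Ω, b ≠ a → c ≠ a → ∃ n ∈ N, n • a = a ∧ n • b = c)
    (hN1 : ∀ a b : Ω, a ≠ b → ∃ n ∈ N, n ∈ two G a b ∧ n ≠ 1)
    (htrans : ∀ a b : Ω, ∃ m ∈ M, m • a = b) (hfree : ∀ m ∈ M, ∀ a : Ω, m • a = a → m = 1) :
    ∀ m ∈ M, m * m = 1 := by
  have base : ∀ m ∈ M, ∀ a : Ω, m • a ≠ a → (∀ n ∈ N, n ∈ two G a (m • a) → n * m = m * n) := by
    intro m hm a hma n hn hn2
    have h1 : n * m * n⁻¹ * m⁻¹ ∈ M := M.mul_mem (hMN n hn m hm) (M.inv_mem hm)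
    have h2 : n * m * n⁻¹ * m⁻¹ = 1 := by
      refine hfree _ h1 (m • a) ?_
      rw [mul_smul, mul_smul, mul_smul, inv_smul_smul, inv_smul_eq_iff.2 hn2.1.symm, hn2.2]
    calc n * m = n * m * n⁻¹ * m⁻¹ * (m * n) := by group
      _ = m * n := by rw [h2, one_mul]
  intro m hm
  rcases eq_or_ne m 1 with rfl | hm1
  · simp
  obtain ⟨a, ha⟩ : ∃ a : Ω, m • a ≠ a := by
    by_contra h
    push Not at h
    exact hm1 (hP.eq_one_of_forall h)
  obtain ⟨n, hn, hn2, hn1⟩ := hN1 a (m • a) ha.symm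
  refine hfree _ (M.mul_mem hm hm) a ?_
  by_contra hne
  have h3 : n • m • m • a = m • m • a := by
    rw [← mul_smul, base m hm a ha n hn hn2, mul_smul, hn2.2]
  have h4 : m • a ≠ m • m • a := fun e => ha (smul_left_cancel m e.symm)
  exact hn1 (hP.three n a (m • a) (m • m • a) ha.symm h4
    (fun (e : a = m • m • a) => hne ((mul_smul m m a).trans e.symm)) hn2.1 hn2.2 h3)

omit hP in
lemma commute_of_sq {M : Subgroup G} (h : ∀ m ∈ M, m * m = 1) :
    ∀ x ∈ M, ∀ y ∈ M, x * y = y * x := by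
  intro x hx y hy
  have e := inv_eq_of_mul_eq_one_left (h _ (M.mul_mem hx hy))
  rw [mul_inv_rev, inv_eq_of_mul_eq_one_left (h x hx), inv_eq_of_mul_eq_one_left (h y hy)] at e
  exact e.symm

omit hP in
/-- A non-trivial normal subgroup of a Zassenhaus group is a Zassenhaus group. -/
lemma isZassenhaus_normal [Finite Ω] (hZ : Cfsg.IsZassenhausGroup G Ω) (N : Subgroup G) [N.Normal]
    (hN : N ≠ ⊥) : Cfsg.IsZassenhausGroup N Ω := by
  haveI := finite_group hZ
  haveI := hZ.1
  have hP := pre_of_isZassenhaus hZ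
  have htr := isPretransitive_normal hZ hN
  haveI : Nontrivial G := by
    obtain ⟨g, hg, -⟩ := hZ.2.2.2.1
    exact ⟨⟨g, 1, hg⟩⟩
  haveI hfN : FaithfulSMul N Ω := ⟨fun h => Subtype.ext (eq_of_smul_eq_smul (α := Ω) h)⟩
  by_cases hfr : ∀ a b : Ω, a ≠ b → ∀ h ∈ N, h ∈ two G a b → h = 1
  · exfalso
    obtain ⟨a, b, -, hab, -, -⟩ := exists_triple hZ
    set H := (stabilizer G a).subgroupOf N
    haveI : IsPretransitive N Ω :=
      ⟨fun x y => by obtain ⟨g, hg, e⟩ := htr x y; exact ⟨⟨g, hg⟩, e⟩⟩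
    have hne : H ≠ ⊥ := by
      intro e
      obtain ⟨c, hc⟩ := hZ.2.2.2.2 N inferInstance inferInstance
      apply hc
      rw [eq_bot_iff]
      intro x hx
      obtain ⟨k, hk⟩ := htr a c
      have hx' : (⟨k, hk.1⟩ : N)⁻¹ * x * ⟨k, hk.1⟩ ∈ H := by
        show (k⁻¹ * (x : G) * k) • a = a
        rw [mul_smul, mul_smul, hk.2, show (x : G) • c = c from hx, ← hk.2, inv_smul_smul]
      rw [e, Subgroup.mem_bot] at hx'
      rw [Subgroup.mem_bot]
      calc x = ⟨k, hk.1⟩ * ((⟨k, hk.1⟩ : N)⁻¹ * x * ⟨k, hk.1⟩) * (⟨k, hk.1⟩ : N)⁻¹ := by group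
        _ = 1 := by rw [hx']; group
    have hH : Cfsg.IsFrobeniusComplement H := by
      refine ⟨hne, ?_, ?_⟩
      · intro e
        obtain ⟨g, hg, hgab⟩ := htr a b
        have : (⟨g, hg⟩ : N) ∈ H := e ▸ Subgroup.mem_top _
        exact hab (hgab.symm.trans (show g • a = a from this)).symm
      · intro g hg
        rw [eq_bot_iff]
        rintro x ⟨hx, y, hy, rfl⟩
        rw [Subgroup.mem_bot]
        apply Subtype.ext
        refine hfr a ((g : G) • a) (fun e => hg e.symm) _ (MulAut.conj g y).2 ⟨hx, ?_⟩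
        show ((g : G) * y * (g : G)⁻¹) • (g : G) • a = _
        rw [← mul_smul, inv_mul_cancel_right, mul_smul, show (y : G) • a = a from hy]
    haveI := Fintype.ofFinite N
    obtain ⟨M, hMset, -, hMc⟩ := Cfsg.Agent.CharInduced.frobenius_kernel_subgroup hH
    have hMmem : ∀ g : G, g ∈ M.map N.subtype ↔ g ∈ N ∧ (g = 1 ∨ ∀ x : Ω, g • x ≠ x) := by
      intro g
      constructor
      · rintro ⟨m, hm, rfl⟩
        refine ⟨m.2, ?_⟩
        have : m ∈ Cfsg.frobeniusKernel H := by rw [← hMset]; exact hm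
        rcases this with rfl | this
        · exact Or.inl rfl
        · refine Or.inr fun x hx => ?_
          obtain ⟨k, hk, hka⟩ := htr a x
          refine this ⟨k, hk⟩ ⟨(⟨k, hk⟩ : N)⁻¹ * m * ⟨k, hk⟩, ?_, ?_⟩
          · show (k⁻¹ * (m : G) * k) • a = a
            rw [mul_smul, mul_smul, hka, show (m : G) • x = x from hx, ← hka, inv_smul_smul]
          · show _ * (_ * m * _) * _ = m
            group
      · rintro ⟨hgN, hg⟩
        refine ⟨⟨g, hgN⟩, ?_, rfl⟩
        show (⟨g, hgN⟩ : N) ∈ (M : Set N)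
        rw [hMset]
        rcases hg with rfl | hg
        · exact Or.inl rfl
        · refine Or.inr fun k hk => ?_
          obtain ⟨y, hy, e⟩ := hk
          refine hg ((k : G) • a) ?_
          have e' : (k : G) * y * (k : G)⁻¹ = g := congrArg Subtype.val e
          rw [← mul_smul, ← e', inv_mul_cancel_right, mul_smul, show (y : G) • a = a from hy]
    haveI hMn : (M.map N.subtype).Normal := by
      refine ⟨fun m hm g => ?_⟩
      rw [hMmem] at hm ⊢
      refine ⟨Subgroup.Normal.conj_mem inferInstance m hm.1 g, ?_⟩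
      rcases hm.2 with rfl | h
      · exact Or.inl (by group)
      · refine Or.inr fun x hx => h (g⁻¹ • x) ?_
        rw [mul_smul, mul_smul] at hx
        exact eq_inv_smul_iff.2 hx
    have hMt : IsPretransitive (M.map N.subtype) Ω := by
      refine ⟨fun x y => ?_⟩
      obtain ⟨k, hk, hka⟩ := htr a x
      obtain ⟨l, hl, hla⟩ := htr a y
      obtain ⟨⟨m, h⟩, e⟩ := hMc.2 ⟨l, hl⟩
      obtain ⟨⟨m', h'⟩, e'⟩ := hMc.2 ⟨k, hk⟩
      have hy : ((m : N) : G) • a = y := by
        rw [← hla, show l = ((m : N) : G) * ((h : N) : G) from (congrArg Subtype.val e).symm,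
          mul_smul, show ((h : N) : G) • a = a from h.2]
      have hx : ((m' : N) : G) • a = x := by
        rw [← hka, show k = ((m' : N) : G) * ((h' : N) : G) from (congrArg Subtype.val e').symm,
          mul_smul, show ((h' : N) : G) • a = a from h'.2]
      refine ⟨⟨((m : N) : G) * ((m' : N) : G)⁻¹, ⟨(m : N) * (m' : N)⁻¹,
        M.mul_mem m.2 (M.inv_mem m'.2), rfl⟩⟩, ?_⟩
      show (((m : N) : G) * ((m' : N) : G)⁻¹) • x = y
      rw [mul_smul, inv_smul_eq_iff.2 hx.symm, hy]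
    obtain ⟨c, hc⟩ := hZ.2.2.2.2 _ hMn hMt
    apply hc
    rw [eq_bot_iff]
    rintro ⟨g, hg⟩ hgc
    rw [Subgroup.mem_bot]
    rcases ((hMmem g).1 hg).2 with rfl | h
    · rfl
    · exact absurd hgc (h c)
  · push Not at hfr
    obtain ⟨a₀, b₀, hab₀, h₀, hh₀N, hh₀, hh₀1⟩ := hfr
    have hN1 : ∀ a b : Ω, a ≠ b → ∃ n ∈ N, n ∈ two G a b ∧ n ≠ 1 := by
      intro a b hab
      obtain ⟨k, -, -, hk⟩ := exists_conj_pair hZ hab₀ hab
      exact ⟨_, Subgroup.Normal.conj_mem inferInstance _ hh₀N k, (hk _).1 hh₀,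
        fun h => hh₀1 (conj_eq_one_iff.1 h)⟩
    have hN2 : ∀ a b c : Ω, b ≠ a → c ≠ a → ∃ n ∈ N, n • a = a ∧ n • b = c := by
      intro a b c hb hc
      obtain ⟨K, hKa, hKn, hKt, hKf⟩ := hP.exists_kernel hb.symm
      obtain ⟨h, hhN, hh, hh1⟩ := hN1 a b hb.symm
      have hKN : K ≤ N := by
        let f : K → K := fun k => ⟨(k : G) * (h * (k : G)⁻¹ * h⁻¹),
          K.mul_mem k.2 (hKn h hh.1 _ (K.inv_mem k.2))⟩
        have hf : Function.Injective f := by
          intro k l e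
          have e' : (k : G) * (h * (k : G)⁻¹ * h⁻¹) = (l : G) * (h * (l : G)⁻¹ * h⁻¹) :=
            congrArg Subtype.val e
          have e1 := mul_right_cancel (show (k : G) * h * (k : G)⁻¹ * h⁻¹ =
            (l : G) * h * (l : G)⁻¹ * h⁻¹ by simpa [mul_assoc] using e')
          have : h * ((l : G)⁻¹ * k) = (l : G)⁻¹ * k * h := by
            calc h * ((l : G)⁻¹ * k) = (l : G)⁻¹ * ((l : G) * h * (l : G)⁻¹) * k := by group
              _ = _ := by rw [← e1]; group
          have hu : (l : G)⁻¹ * k ∈ K := K.mul_mem (K.inv_mem l.2) k.2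
          have := hP.fpf hb.symm (hKa hu) (hKf _ hu b hb) hh hh1 this
          exact Subtype.ext (inv_mul_eq_one.1 this).symm
        intro k hk
        haveI : Finite K := inferInstance
        obtain ⟨l, hl⟩ := Finite.injective_iff_surjective.1 hf ⟨k, hk⟩
        rw [← show (l : G) * (h * (l : G)⁻¹ * h⁻¹) = k from congrArg Subtype.val hl,
          show (l : G) * (h * (l : G)⁻¹ * h⁻¹) = ((l : G) * h * (l : G)⁻¹) * h⁻¹ by group]
        exact N.mul_mem (Subgroup.Normal.conj_mem inferInstance h hhN _) (N.inv_mem hhN)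
      obtain ⟨k, hk, e⟩ := hKt b c hb hc
      exact ⟨k, hKN hk, hKa hk, e⟩
    refine ⟨hfN, ?_, ?_, ?_, ?_⟩
    · rw [is_two_pretransitive_iff]
      intro a b c d hab hcd
      obtain ⟨g, hg, hgac⟩ := htr a c
      obtain ⟨n, hn, hn1, hn2⟩ := hN2 c (g • b) d
        (fun e => hab (smul_left_cancel g (hgac.trans e.symm))) hcd.symm
      refine ⟨⟨n * g, N.mul_mem hn hg⟩, ?_, ?_⟩
      · show (n * g) • a = c
        rw [mul_smul, hgac, hn1]
      · show (n * g) • b = d
        rw [mul_smul, hn2]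
    · intro g a b c hab hbc hac ha hb hc
      exact Subtype.ext (three hZ hab hbc hac ha hb hc)
    · obtain ⟨n, hn, hn2, hn1⟩ := hN1 a₀ b₀ hab₀
      exact ⟨⟨n, hn⟩, fun e => hn1 (congrArg Subtype.val e), a₀, b₀, hab₀, hn2.1, hn2.2⟩
    · intro M hMn hMt
      by_contra hc
      push Not at hc
      set M' := M.map N.subtype
      have hM'N : ∀ n ∈ N, ∀ m ∈ M', n * m * n⁻¹ ∈ M' := by
        rintro n hn _ ⟨m, hm, rfl⟩
        exact ⟨⟨n, hn⟩ * m * (⟨n, hn⟩ : N)⁻¹, hMn.conj_mem m hm _, rfl⟩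
      have hM't : ∀ a b : Ω, ∃ m ∈ M', m • a = b := fun a b => by
        obtain ⟨m, hm⟩ := hMt.exists_smul_eq a b
        exact ⟨((m : N) : G), ⟨m, m.2, rfl⟩, hm⟩
      have hM'f : ∀ m ∈ M', ∀ a : Ω, m • a = a → m = 1 := by
        rintro _ ⟨m, hm, rfl⟩ a ha
        have : (⟨m, hm⟩ : M) ∈ stabilizer M a := ha
        rw [hc a, Subgroup.mem_bot] at this
        rw [show m = 1 from congrArg Subtype.val this]
        rfl
      have hsq := regular_involutions hP hM'N hN2 hN1 hM't hM'f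
      have hcom := commute_of_sq hsq
      have hM'le : M' ≤ N := fun x hx => by
        obtain ⟨m, -, rfl⟩ := hx
        exact m.2
      haveI : M'.Normal := by
        refine ⟨fun m hm g => ?_⟩
        set x := g * m * g⁻¹
        by_cases hall : ∀ y ∈ M', g * y * g⁻¹ ∈ M' → y = 1
        · -- the conjugate meets `M'` trivially, so it centralises `M'`
          obtain ⟨a, -, -, -, -, -⟩ := exists_triple hZ
          obtain ⟨y, hy, hya⟩ := hM't a (x • a)
          have hxN : x ∈ N := Subgroup.Normal.conj_mem inferInstance m (hM'le hm) g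
          have hxy : ∀ z ∈ M', x * z = z * x := by
            intro z hz
            have h1 : x * z * x⁻¹ * z⁻¹ ∈ M' := M'.mul_mem (hM'N x hxN z hz) (M'.inv_mem hz)
            have h2 : g⁻¹ * (x * z * x⁻¹ * z⁻¹) * g ∈ M' := by
              have hz' : g⁻¹ * z * g ∈ N := by
                simpa using Subgroup.Normal.conj_mem (inferInstance : N.Normal) z (hM'le hz) g⁻¹
              have : g⁻¹ * (x * z * x⁻¹ * z⁻¹) * g =
                  m * ((g⁻¹ * z * g) * m⁻¹ * (g⁻¹ * z * g)⁻¹) := by simp [x, mul_assoc]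
              rw [this]
              exact M'.mul_mem hm (hM'N _ hz' _ (M'.inv_mem hm))
            have h3 := hall _ h2 (by simpa [mul_assoc] using h1)
            have h4 : x * z * x⁻¹ * z⁻¹ = 1 := by
              calc x * z * x⁻¹ * z⁻¹ = g * (g⁻¹ * (x * z * x⁻¹ * z⁻¹) * g) * g⁻¹ := by group
                _ = 1 := by rw [h3]; group
            calc x * z = x * z * x⁻¹ * z⁻¹ * (z * x) := by group
              _ = z * x := by rw [h4, one_mul]
          have hyx : y = x := by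
            have : ∀ w : Ω, (y⁻¹ * x) • w = w := by
              intro w
              obtain ⟨z, hz, rfl⟩ := hM't a w
              have hcz : y⁻¹ * x * z = z * (y⁻¹ * x) := by
                calc y⁻¹ * x * z = y⁻¹ * (z * x) := by rw [← hxy z hz]; group
                  _ = (y⁻¹ * z * y) * y⁻¹ * x := by group
                  _ = z * (y⁻¹ * x) := by rw [mul_assoc y⁻¹ z y, hcom z hz y hy]; group
              rw [← mul_smul, hcz, mul_smul]
              congr 1
              rw [mul_smul, inv_smul_eq_iff, hya]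
            exact inv_mul_eq_one.1 (hP.eq_one_of_forall this)
          exact hyx ▸ hy
        · push Not at hall
          obtain ⟨y, hy, hy', hy1⟩ := hall
          obtain ⟨p, hp⟩ : ∃ p : Ω, (g * y * g⁻¹) • p ≠ p := by
            by_contra h
            push Not at h
            exact hy1 (conj_eq_one_iff.1 (hP.eq_one_of_forall h))
          -- the intersection is transitive, hence equals `M'`
          obtain ⟨z, hz, hzp⟩ := hM't p (x • p)
          by_cases hxp : x • p = p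
          · have : g⁻¹ * x * g = m := by simp [x, mul_assoc]
            have h5 : m • g⁻¹ • p = g⁻¹ • p := by
              rw [← this, mul_smul, mul_smul, smul_inv_smul, hxp]
            have := hM'f m hm _ h5
            simp [x, this]
          · obtain ⟨n, hn, hn1, hn2⟩ := hN2 p ((g * y * g⁻¹) • p) (x • p) hp hxp
            set w := n * (g * y * g⁻¹) * n⁻¹
            have hw : w ∈ M' := hM'N n hn _ hy'
            have hwp : w • p = x • p := by
              rw [mul_smul, mul_smul, inv_smul_eq_iff.2 hn1.symm, hn2]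
            have hw' : g⁻¹ * w * g ∈ M' := by
              have hn' : g⁻¹ * n * g ∈ N := by
                simpa using Subgroup.Normal.conj_mem (inferInstance : N.Normal) n hn g⁻¹
              have : g⁻¹ * w * g = (g⁻¹ * n * g) * y * (g⁻¹ * n * g)⁻¹ := by
                simp [w, mul_assoc]
              rw [this]
              exact hM'N _ hn' y hy
            have h6 : (g⁻¹ * w * g)⁻¹ * m = 1 := by
              refine hM'f _ (M'.mul_mem (M'.inv_mem hw') hm) (g⁻¹ • p) ?_
              have : (g⁻¹ * w * g)⁻¹ * m = g⁻¹ * (w⁻¹ * x) * g := by simp [x, mul_assoc]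
              rw [this, mul_smul, mul_smul, smul_inv_smul, mul_smul, inv_smul_eq_iff.2 hwp.symm]
            have : w = x := by
              rw [inv_mul_eq_one] at h6
              simp [x, ← h6, mul_assoc]
            exact this ▸ hw
      obtain ⟨c, hc'⟩ := hZ.2.2.2.2 M' inferInstance
        ⟨fun a b => by obtain ⟨m, hm, e⟩ := hM't a b; exact ⟨⟨m, hm⟩, e⟩⟩
      apply hc'
      rw [eq_bot_iff]
      intro m hm
      exact Subgroup.mem_bot.2 (Subtype.ext (hM'f _ m.2 c hm))

end Cfsg.Agent.Zassenhaus
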