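import Mathlib
import Cfsg.Agent.Lib.ZassenhausKernel
import Cfsg.Agent.Lib.FrobeniusComplement
import Cfsg.Agent.Lib.FrobeniusBasic

/-!
Zassenhaus groups: the kernel of a point stabiliser given as a subgroup, and two-point stabilisers
of odd order (Z-groups; cyclic and inverted when there are no normal `q`-complements).
-/

set_option autoImplicit false

namespace Cfsg.Agent.Feit

open MulAction Zassenhaus

variable {G Ω : Type*} [Group G] [Finite G] [MulAction G Ω] [Finite Ω]
variable (hZ : Cfsg.IsZassenhausGroup G Ω)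
include hZ

theorem exists_other (a : Ω) : ∃ b, b ≠ a := Zassenhaus.exists_ne hZ a

theorem card_group {a b : Ω} (hab : a ≠ b) :
    Nat.card G = Nat.card Ω * ((Nat.card Ω - 1) * Nat.card (two G a b)) := by
  have h1 := Nat.card_congr (orbitProdStabilizerEquivGroup G a)
  have horb : orbit G a = Set.univ := Set.eq_univ_of_forall fun x => by
    haveI := Zassenhaus.isPretransitive hZ
    exact exists_smul_eq G a x
  rw [Nat.card_prod, Nat.card_congr ((Equiv.setCongr horb).trans (Equiv.Set.univ Ω)),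
    card_stabilizer hZ hab] at h1
  exact h1.symm

theorem three_le_card : 3 ≤ Nat.card Ω := by
  classical
  haveI := Fintype.ofFinite Ω
  obtain ⟨x, y, z, h1, h2, h3⟩ := Zassenhaus.exists_triple hZ
  have : ({x, y, z} : Finset Ω).card = 3 := by simp [h1, h2, h3]
  rw [Nat.card_eq_fintype_card]
  exact this ▸ Finset.card_le_univ _

theorem two_le_card_two {a b : Ω} (hab : a ≠ b) : 2 ≤ Nat.card (two G a b) := by
  obtain ⟨x, hx, hx1⟩ := two_ne_bot hZ hab
  haveI : Nontrivial (two G a b) := ⟨⟨x, hx⟩, 1, fun e => hx1 (congrArg Subtype.val e)⟩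
  exact Finite.one_lt_card

omit [Finite G] [Finite Ω] in
/-- An element preserving the fixed set of a non-trivial element of a two-point stabiliser. -/
theorem preserves_pair {a b : Ω} (hab : a ≠ b) {x g : G} (hx : x ∈ two G a b) (hx1 : x ≠ 1)
    (hgx : g⁻¹ * x * g ∈ two G a b) :
    (g • a = a ∧ g • b = b) ∨ (g • a = b ∧ g • b = a) := by
  have hfix : ∀ c, (g⁻¹ * x * g) • c = c → g • c = a ∨ g • c = b := by
    intro c hc
    rw [mul_smul, mul_smul, inv_smul_eq_iff] at hc
    by_contra hne
    push Not at hne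
    exact hx1 (three hZ hab hne.2.symm hne.1.symm hx.1 hx.2 hc)
  rcases hfix a hgx.1 with ha | ha <;> rcases hfix b hgx.2 with hb | hb
  · exact absurd (smul_left_cancel g (ha.trans hb.symm)) hab
  · exact Or.inl ⟨ha, hb⟩
  · exact Or.inr ⟨ha, hb⟩
  · exact absurd (smul_left_cancel g (ha.trans hb.symm)) hab

/-- The subgroup of the statements is the set of elements fixing only `a`. -/
theorem kernel_mem_iff {a : Ω} {H : Subgroup G} (hHa : H ≤ stabilizer G a)
    (hHcard : Nat.card H + 1 = Nat.card Ω)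
    (hHfix : ∀ u ∈ H, u ≠ 1 → ∀ c : Ω, u • c = c → c = a) (g : G) :
    g ∈ H ↔ g • a = a ∧ (g = 1 ∨ ∀ c, g • c = c → c = a) := by
  refine ⟨fun hg => ⟨hHa hg, (em (g = 1)).imp_right (hHfix g hg)⟩, fun hg => ?_⟩
  have hP := pre_of_isZassenhaus hZ
  obtain ⟨b, hb⟩ := exists_other hZ a
  obtain ⟨K, hKa, hKn, hKt, hKf⟩ := hP.exists_kernel hb.symm
  have hsub : ∀ g : G, g • a = a → (g = 1 ∨ ∀ c, g • c = c → c = a) → g ∈ K := by
    intro g hga hg
    obtain ⟨k, hk, hkb⟩ := hKt b (g • b) hb
      (fun e => hb (smul_left_cancel g (e.trans hga.symm)))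
    have hx : k⁻¹ * g ∈ two G a b := ⟨by
      show (k⁻¹ * g) • a = a
      rw [mul_smul, hga, inv_smul_eq_iff]; exact (hKa hk).symm, by
      show (k⁻¹ * g) • b = b
      rw [mul_smul, ← hkb, inv_smul_smul]⟩
    by_cases hx1 : k⁻¹ * g = 1
    · rwa [← inv_mul_eq_one.1 hx1]
    exfalso
    set x := k⁻¹ * g with hxdef
    let f : K → K := fun l => ⟨(l : G)⁻¹ * (x * l * x⁻¹), K.mul_mem (K.inv_mem l.2)
      (hKn x hx.1 _ l.2)⟩
    have hf : Function.Injective f := by
      intro l m e
      have e' : (l : G)⁻¹ * (x * l * x⁻¹) = (m : G)⁻¹ * (x * m * x⁻¹) := congrArg Subtype.val e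
      have hc : x * ((l : G) * (m : G)⁻¹) = (l : G) * (m : G)⁻¹ * x := by
        calc x * ((l : G) * (m : G)⁻¹) =
            (l : G) * ((l : G)⁻¹ * (x * l * x⁻¹)) * x * (m : G)⁻¹ := by group
          _ = (l : G) * ((m : G)⁻¹ * (x * m * x⁻¹)) * x * (m : G)⁻¹ := by rw [e']
          _ = (l : G) * (m : G)⁻¹ * x := by group
      have hm : (l : G) * (m : G)⁻¹ ∈ K := K.mul_mem l.2 (K.inv_mem m.2)
      exact Subtype.ext (mul_inv_eq_one.1
        (hP.fpf hb.symm (hKa hm) (hKf _ hm b hb) hx hx1 hc))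
    obtain ⟨l, hl⟩ := Finite.injective_iff_surjective.1 hf ⟨k, hk⟩
    have hl' : (l : G)⁻¹ * (x * l * x⁻¹) = k := congrArg Subtype.val hl
    have hg' : g = (l : G)⁻¹ * x * l := by
      calc g = k * x := by rw [hxdef, mul_inv_cancel_left]
        _ = (l : G)⁻¹ * x * l := by rw [← hl']; group
    have hfix : g • ((l : G)⁻¹ • b) = (l : G)⁻¹ • b := by
      rw [hg', mul_smul, smul_inv_smul, mul_smul, hx.2]
    rcases hg with rfl | hg
    · exact hx1 (conj_eq_one_iff.1 (show (l : G)⁻¹ * x * ((l : G)⁻¹)⁻¹ = 1 by rw [inv_inv]; exact hg'.symm))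
    · refine hb (smul_left_cancel (l : G)⁻¹ ((hg _ hfix).trans ?_))
      rw [eq_comm, inv_smul_eq_iff]
      exact (hKa l.2).symm
  have hK : Nat.card K + 1 = Nat.card Ω := by
    have e : Nat.card K = Nat.card {y : Ω // y ≠ a} := by
      refine Nat.card_congr (Equiv.ofBijective
        (fun u : K => (⟨(u : G) • b, fun h => hb (smul_left_cancel (u : G)
          (h.trans (hKa u.2).symm))⟩ : {y : Ω // y ≠ a})) ⟨?_, ?_⟩)
      · intro u v e
        have e' : (u : G) • b = (v : G) • b := congrArg Subtype.val e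
        refine Subtype.ext (inv_mul_eq_one.1 (hKf _ (K.mul_mem (K.inv_mem u.2) v.2) b hb ?_))
        rw [mul_smul, ← e', inv_smul_smul]
      · rintro ⟨y, hy⟩
        obtain ⟨u, hu, e⟩ := hKt b y hb hy
        exact ⟨⟨u, hu⟩, Subtype.ext e⟩
    classical
    haveI := Fintype.ofFinite Ω
    rw [e, Nat.card_eq_fintype_card (α := Ω)]
    have := three_le_card hZ
    simp [Nat.card_eq_fintype_card] at this ⊢
    omega
  have hHK : H = K := Subgroup.eq_of_le_of_card_ge
    (fun u hu => hsub u (hHa hu) ((em (u = 1)).imp_right (hHfix u hu))) (by omega)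
  exact hHK ▸ hsub g hg.1 hg.2

section Kernel

variable {a : Ω} {H : Subgroup G} (hHa : H ≤ stabilizer G a)
  (hHcard : Nat.card H + 1 = Nat.card Ω)
  (hHfix : ∀ u ∈ H, u ≠ 1 → ∀ c : Ω, u • c = c → c = a)
include hHa hHcard hHfix

theorem kernel_conj_mem {g u : G} (hg : g • a = a) (hu : u ∈ H) : g * u * g⁻¹ ∈ H := by
  rw [kernel_mem_iff hZ hHa hHcard hHfix]
  refine ⟨?_, ?_⟩
  · rw [mul_smul, mul_smul, inv_smul_eq_iff.2 hg.symm, hHa hu, hg]
  · rcases em (u = 1) with rfl | h1
    · exact Or.inl (by group)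
    · refine Or.inr fun c hc => ?_
      have h2 := hHfix u hu h1 (g⁻¹ • c) (by rw [mul_smul, mul_smul] at hc; exact eq_inv_smul_iff.2 hc)
      rw [inv_smul_eq_iff] at h2
      rw [h2, hg]

omit hHcard hZ in
theorem kernel_free {u : G} (hu : u ∈ H) {y : Ω} (hy : y ≠ a) (h : u • y = y) : u = 1 := by
  by_contra h1
  exact hy (hHfix u hu h1 y h)

theorem kernel_transitive {y z : Ω} (hy : y ≠ a) (hz : z ≠ a) : ∃ u ∈ H, u • y = z := by
  classical
  haveI := Fintype.ofFinite Ω
  let f : H → {c : Ω // c ≠ a} := fun u => ⟨(u : G) • y, fun h => hy (smul_left_cancel (u : G)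
    (h.trans (hHa u.2).symm))⟩
  have hinj : Function.Injective f := by
    intro u v e
    have e' : (u : G) • y = (v : G) • y := congrArg Subtype.val e
    refine Subtype.ext (inv_mul_eq_one.1 (kernel_free hHa hHfix
      (H.mul_mem (H.inv_mem u.2) v.2) hy ?_))
    rw [mul_smul, ← e', inv_smul_smul]
  obtain ⟨u, hu⟩ := ((Nat.bijective_iff_injective_and_card f).2 ⟨hinj, by
    simp [Nat.card_eq_fintype_card] at hHcard ⊢
    omega⟩).2 ⟨z, hz⟩
  exact ⟨u, u.2, congrArg Subtype.val hu⟩

theorem kernel_nontrivial : Nontrivial H := by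
  rw [← Finite.one_lt_card_iff_nontrivial]
  have := three_le_card hZ
  omega

omit hHcard hZ in
/-- Centralisers of non-trivial kernel elements lie in the point stabiliser. -/
theorem commute_fix {u g : G} (hu : u ∈ H) (hu1 : u ≠ 1) (hc : g * u = u * g) : g • a = a :=
  hHfix u hu hu1 _ (by rw [← mul_smul, ← hc, mul_smul, show u • a = a from hHa hu])

/-- Two-point stabilisers act without fixed points on the kernel. -/
theorem kernel_fpf {b : Ω} (hab : a ≠ b) {u x : G} (hu : u ∈ H) (hx : x ∈ two G a b) (hx1 : x ≠ 1)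
    (hc : x * u = u * x) : u = 1 :=
  (pre_of_isZassenhaus hZ).fpf hab (hHa hu)
    (fun h => kernel_free hHa hHfix hu hab.symm h) hx hx1 hc

theorem card_two_dvd {b : Ω} (hab : a ≠ b) :
    Nat.card (two G a b) ∣ Nat.card Ω - 2 := by
  classical
  haveI := Fintype.ofFinite Ω
  let S := {c : Ω // c ≠ a ∧ c ≠ b}
  let _ : MulAction (two G a b) S :=
    { smul := fun x c => ⟨(x : G) • c.1, fun h => c.2.1 (smul_left_cancel (x : G)
          (h.trans x.2.1.symm)), fun h => c.2.2 (smul_left_cancel (x : G) (h.trans x.2.2.symm))⟩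
      one_smul := fun c => Subtype.ext (one_smul G c.1)
      mul_smul := fun x y c => Subtype.ext (mul_smul (x : G) (y : G) c.1) }
  have h := FrobeniusBasic.card_dvd_of_free (M := two G a b) (α := S) fun x c e =>
    Subtype.ext (three hZ hab c.2.2.symm c.2.1.symm x.2.1 x.2.2 (congrArg Subtype.val e))
  have hS : Nat.card S = Nat.card Ω - 2 := by
    have e : Finset.univ.filter (fun c : Ω => c ≠ a ∧ c ≠ b) = ({a, b} : Finset Ω)ᶜ := by
      ext c
      simp
    rw [Nat.card_eq_fintype_card, Nat.card_eq_fintype_card, Fintype.card_subtype, e,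
      Finset.card_compl, Finset.card_pair hab]
  rwa [hS] at h

/-- A two-point stabiliser of odd order is a Z-group. -/
theorem isZGroup_two {b : Ω} (hab : a ≠ b) (hodd : Odd (Nat.card (two G a b))) :
    IsZGroup (two G a b) := by
  set A := stabilizer G a
  set K := H.subgroupOf A
  set E := (two G a b).subgroupOf A
  haveI hKn : K.Normal := ⟨fun k hk g => kernel_conj_mem hZ hHa hHcard hHfix g.2 hk⟩
  have hc : Subgroup.IsComplement' K E := by
    refine Subgroup.isComplement'_of_card_mul_and_disjoint ?_ ?_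
    · rw [Nat.card_congr (Subgroup.subgroupOfEquivOfLe hHa).toEquiv,
        Nat.card_congr (Subgroup.subgroupOfEquivOfLe (inf_le_left : two G a b ≤ A)).toEquiv,
        card_stabilizer hZ hab, ← hHcard, Nat.add_sub_cancel]
    · rw [Subgroup.disjoint_def]
      intro x hx hx'
      exact Subtype.ext (kernel_free hHa hHfix hx hab.symm hx'.2)
  have hK : K ≠ ⊥ := by
    intro e
    have := kernel_nontrivial hZ hHa hHcard hHfix
    obtain ⟨u, hu⟩ := _root_.exists_ne (1 : H)
    have hm : (⟨u, hHa u.2⟩ : A) ∈ K := u.2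
    rw [e, Subgroup.mem_bot] at hm
    exact hu (Subtype.ext (congrArg (fun v : A => (v : G)) hm))
  have hfpf : ∀ x ∈ E, x ≠ 1 → K ⊓ Subgroup.centralizer ({x} : Set A) = ⊥ := by
    intro x hx hx1
    rw [eq_bot_iff]
    rintro u ⟨hu, hu'⟩
    have hu'' := Subgroup.mem_centralizer_singleton_iff.1 hu'
    exact Subgroup.mem_bot.2 (Subtype.ext (kernel_fpf hZ hHa hHcard hHfix hab hu hx
      (fun e => hx1 (Subtype.ext e)) (congrArg Subtype.val hu'').symm))
  have hE : IsZGroup E := by
    rw [isZGroup_iff]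
    intro p hp P
    haveI := Fact.mk hp
    refine (FrobeniusComplement.sylow_cyclic_or_quaternion hc hK hfpf P P.isPGroup').resolve_right ?_
    rintro ⟨rfl, n, ⟨e⟩⟩
    have h1 : Nat.card P ∣ Nat.card (two G a b) := by
      rw [← Nat.card_congr (Subgroup.subgroupOfEquivOfLe (inf_le_left : two G a b ≤ A)).toEquiv]
      exact Subgroup.card_subgroup_dvd_card _
    have h2 : 2 ∣ Nat.card P := by
      rw [Nat.card_congr e.toEquiv, Nat.card_eq_fintype_card, QuaternionGroup.card]
      exact ⟨2 * 2 ^ n, by ring⟩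
    exact Nat.not_even_iff_odd.2 hodd (even_iff_two_dvd.2 (h2.trans h1))
  exact IsZGroup.of_injective
    (f := (Subgroup.subgroupOfEquivOfLe (inf_le_left : two G a b ≤ A)).symm.toMonoidHom)
    (Subgroup.subgroupOfEquivOfLe (inf_le_left : two G a b ≤ A)).symm.injective

/-- Without normal `q`-complements the two-point stabiliser is cyclic, self-centralising and
inverted by every swapper. -/
theorem cyclic_inverted {b : Ω} (hab : a ≠ b) (hodd : Odd (Nat.card (two G a b)))
    (hnil : ∀ q : ℕ, q.Prime → q ∣ Nat.card (two G a b) →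
      ¬ ∃ N : Subgroup G, N.Normal ∧ N.index = q ^ (Nat.card G).factorization q) :
    IsCyclic (two G a b) ∧ Subgroup.centralizer ((two G a b : Subgroup G) : Set G) = two G a b ∧
      ∀ s : G, s • a = b → s • b = a → ∀ x ∈ two G a b, s * x * s⁻¹ = x⁻¹ := by
  classical
  set E := two G a b with hEdef
  haveI hZG : IsZGroup E := isZGroup_two hZ hHa hHcard hHfix hab hodd
  have hswapmem : ∀ s : G, s • a = b → s • b = a → ∀ x ∈ E, s * x * s⁻¹ ∈ E := by
    intro s hsa hsb x hx
    refine ⟨?_, ?_⟩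
    · show (s * x * s⁻¹) • a = a
      rw [mul_smul, mul_smul, inv_smul_eq_iff.2 hsb.symm, hx.2, hsb]
    · show (s * x * s⁻¹) • b = b
      rw [mul_smul, mul_smul, inv_smul_eq_iff.2 hsa.symm, hx.1, hsa]
  -- every swapper inverts the abelianisation
  have hkey : ∀ s : G, ∀ hsa : s • a = b, ∀ hsb : s • b = a, ∀ x : E,
      x * ⟨s * x * s⁻¹, hswapmem s hsa hsb _ x.2⟩ ∈ commutator E := by
    intro s hsa hsb
    let σ : E →* E :=
      { toFun := fun x => ⟨s * x * s⁻¹, hswapmem s hsa hsb _ x.2⟩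
        map_one' := Subtype.ext (show s * 1 * s⁻¹ = 1 by group)
        map_mul' := fun x y => Subtype.ext
          (show s * ((x : G) * y) * s⁻¹ = (s * x * s⁻¹) * (s * y * s⁻¹) by group) }
    let φ : E →* Abelianization E := Abelianization.of * (Abelianization.of.comp σ)
    have hφmem : ∀ x, x ∈ φ.ker → x * σ x ∈ commutator E := fun x hx => by
      rw [← Abelianization.ker_of, MonoidHom.mem_ker, map_mul]
      exact hx
    suffices htop : φ.ker = ⊤ from fun x => hφmem x (htop ▸ Subgroup.mem_top x)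
    have hcomle : commutator E ≤ φ.ker := Abelianization.commutator_subset_ker φ
    rw [← Subgroup.index_eq_one]
    by_contra hne
    obtain ⟨q, hq, hqd⟩ := Nat.exists_prime_and_dvd hne
    haveI := Fact.mk hq
    have hqi : q ∣ (commutator E).index := hqd.trans (Subgroup.index_dvd_of_le hcomle)
    have hqC : ¬ q ∣ Nat.card (commutator E) := fun h => hq.not_dvd_one
      ((IsZGroup.coprime_commutator_index (G := E)) ▸ Nat.dvd_gcd h hqi)
    obtain ⟨Q⟩ : Nonempty (Sylow q E) := inferInstance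
    suffices hQ : (Q : Subgroup E) ≤ φ.ker from
      Q.not_dvd_index (hqd.trans (Subgroup.index_dvd_of_le hQ))
    have hqE : q ∣ Nat.card E := hqi.trans (Subgroup.index_dvd_card _)
    have hQd : ∀ x : E, x ∈ (Q : Subgroup E) → x ∈ commutator E → x = 1 := by
      intro x hxQ hxC
      obtain ⟨i, hi⟩ := Q.isPGroup' ⟨x, hxQ⟩
      have h1 : orderOf x ∣ q ^ i := orderOf_dvd_of_pow_eq_one (congrArg Subtype.val hi)
      have h2 : orderOf x ∣ Nat.card (commutator E) :=
        Subgroup.orderOf_mk x hxC ▸ orderOf_dvd_natCard (⟨x, hxC⟩ : commutator E)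
      exact orderOf_eq_one_iff.1
        (Nat.eq_one_of_dvd_coprimes (((hq.coprime_iff_not_dvd).2 hqC).pow_left i) h1 h2)
    -- `Q` is a Sylow subgroup of `G`
    set QG : Subgroup G := (Q : Subgroup E).map E.subtype with hQG
    have hQGcard : Nat.card QG = q ^ (Nat.card G).factorization q := by
      rw [hQG, Subgroup.card_map_of_injective E.subtype_injective, Q.card_eq_multiplicity]
      congr 1
      have hΩ := three_le_card hZ
      obtain ⟨c, hc⟩ := card_two_dvd hZ hHa hHcard hHfix hab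
      have hq2 : q ≠ 2 := fun e => by
        subst e
        exact Nat.not_even_iff_odd.2 hodd (even_iff_two_dvd.2 hqE)
      have hdvd : q ∣ Nat.card Ω - 2 := hqE.trans ⟨c, hc⟩
      have h1 : ¬ q ∣ Nat.card Ω := fun h => hq2 ((Nat.prime_dvd_prime_iff_eq hq Nat.prime_two).1
        (by
          have := Nat.dvd_sub h hdvd
          rwa [show Nat.card Ω - (Nat.card Ω - 2) = 2 by omega] at this))
      have h2 : ¬ q ∣ Nat.card Ω - 1 := fun h => hq.not_dvd_one (by
          have := Nat.dvd_sub h hdvd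
          rwa [show Nat.card Ω - 1 - (Nat.card Ω - 2) = 1 by omega] at this)
      rw [card_group hZ hab, Nat.factorization_mul (by omega)
        (Nat.mul_ne_zero (by omega) Nat.card_pos.ne'),
        Nat.factorization_mul (by omega) Nat.card_pos.ne', Finsupp.add_apply, Finsupp.add_apply,
        Nat.factorization_eq_zero_of_not_dvd h1, Nat.factorization_eq_zero_of_not_dvd h2,
        zero_add, zero_add]
    let P : Sylow q G := Sylow.ofCard QG hQGcard
    obtain ⟨y, hy1, hyQ⟩ : ∃ y : E, y ≠ 1 ∧ y ∈ (Q : Subgroup E) := by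
      obtain ⟨⟨y, hy⟩, hyo⟩ := exists_prime_orderOf_dvd_card' (G := (Q : Subgroup E)) q
        (Q.dvd_card_of_dvd_card hqE)
      exact ⟨y, fun e => hq.ne_one (by rw [← hyo, ← Subgroup.orderOf_coe]; simp [e]), hy⟩
    -- elements of `E` normalising `QG` centralise it
    have hNE : ∀ n : E, (n : G) ∈ Subgroup.normalizer (QG : Set G) →
        ∀ x ∈ (Q : Subgroup E), n * x * n⁻¹ = x := by
      intro n hn x hx
      obtain ⟨x', hx', e⟩ := (Subgroup.mem_normalizer_iff.1 hn (x : G)).1
        (Subgroup.mem_map_of_mem E.subtype hx)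
      have hx'' : n * x * n⁻¹ ∈ (Q : Subgroup E) := by
        rwa [show n * x * n⁻¹ = x' from Subtype.ext e.symm]
      refine mul_inv_eq_one.1 (hQd _ (mul_mem hx'' (inv_mem hx)) ?_)
      exact Subgroup.commutator_mem_commutator (Subgroup.mem_top n) (Subgroup.mem_top x)
    obtain ⟨t, htN, htC⟩ : ∃ t ∈ Subgroup.normalizer (QG : Set G),
        t ∉ Subgroup.centralizer (QG : Set G) := by
      by_contra hc
      push Not at hc
      refine hnil q hq hqE ⟨(MonoidHom.transferSylow P hc).ker, inferInstance, ?_⟩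
      rw [(MonoidHom.ker_transferSylow_isComplement' P hc).symm.index_eq_card]
      exact hQGcard
    have ht : t • a = b ∧ t • b = a := by
      refine (preserves_pair hZ hab y.2 (fun e => hy1 (Subtype.ext e)) (g := t) ?_).resolve_left
        fun h => htC (Subgroup.mem_centralizer_iff.2 ?_)
      · exact Subgroup.map_subtype_le _ ((Subgroup.mem_normalizer_iff''.1 htN _).1
          (Subgroup.mem_map_of_mem E.subtype hyQ))
      · rintro _ ⟨x, hx, rfl⟩
        have := congrArg Subtype.val (hNE ⟨t, h⟩ htN x hx)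
        calc (x : G) * t = (t * x * t⁻¹) * t := by
              rw [show t * (x : G) * t⁻¹ = x from this]
          _ = t * x := by group
    let ψ : MulAut QG := QG.normalizerMonoidHom ⟨t, htN⟩
    have hψv : ∀ x : QG, (ψ x : G) = t * x * t⁻¹ := fun x => rfl
    have hψ2 : ∀ x, ψ (ψ x) = x := fun x => Subtype.ext (by
      rw [hψv, hψv]
      obtain ⟨x', hx', e⟩ := x.2
      have htt : t * t ∈ E := ⟨by
          show (t * t) • a = a
          rw [mul_smul, ht.1, ht.2], by
          show (t * t) • b = b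
          rw [mul_smul, ht.2, ht.1]⟩
      have := congrArg Subtype.val (hNE ⟨_, htt⟩ (Subgroup.mul_mem _ htN htN) x' hx')
      rw [← e]
      calc t * (t * (x' : G) * t⁻¹) * t⁻¹ = t * t * x' * (t * t)⁻¹ := by group
        _ = x' := this)
    haveI : IsCyclic (Q : Subgroup E) := inferInstance
    have hQGcyc : IsCyclic QG :=
      isCyclic_of_surjective (Subgroup.equivMapOfInjective (Q : Subgroup E) E.subtype
        E.subtype_injective) (MulEquiv.surjective _)
    haveI := hQGcyc
    haveI : IsMulCommutative QG := hQGcyc.isMulCommutative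
    have hinv : ∀ x : QG, ψ x = x⁻¹ := by
      intro x
      by_contra hne
      have hxy : x * ψ x ≠ 1 := fun e => hne (mul_eq_one_iff_inv_eq.1 e).symm
      have hfix : ψ (x * ψ x) = x * ψ x := by rw [map_mul, hψ2, mul_comm']
      refine htC (Subgroup.mem_centralizer_iff.2 fun w hw => ?_)
      by_contra hwne
      set v : QG := (⟨w, hw⟩ : QG)⁻¹ * ψ ⟨w, hw⟩
      have hv1 : v ≠ 1 := fun e => hwne (by
        have e' : w = t * w * t⁻¹ := congrArg Subtype.val (inv_mul_eq_one.1 e)
        calc w * t = (t * w * t⁻¹) * t := by rw [← e']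
          _ = t * w := by group)
      have hvinv : ψ v = v⁻¹ := by
        rw [map_mul, map_inv, hψ2, mul_inv_rev, inv_inv]
      have hQGp : IsPGroup q QG := Q.isPGroup'.map _
      have hgen : ∀ z : QG, z ≠ 1 → ∃ k, z ^ k ≠ 1 ∧ (z ^ k) ^ q = 1 := by
        intro z hz
        obtain ⟨j, hj⟩ := hQGp.exists_card_eq
        have hzd : orderOf z ∣ q ^ j := hj ▸ orderOf_dvd_natCard z
        obtain ⟨i, -, hi⟩ := (Nat.dvd_prime_pow hq).1 hzd
        rcases i with _ | i
        · exact absurd (orderOf_eq_one_iff.1 hi) hz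
        · refine ⟨q ^ i, fun e => ?_, by rw [← pow_mul, ← pow_succ, ← hi, pow_orderOf_eq_one]⟩
          have := orderOf_dvd_of_pow_eq_one e
          rw [hi] at this
          exact absurd (Nat.le_of_dvd (pow_pos hq.pos i) this)
            (not_le.2 (Nat.pow_lt_pow_right hq.one_lt (Nat.lt_succ_self i)))
      obtain ⟨k, hk1, hkq⟩ := hgen _ hxy
      obtain ⟨l, hl1, hlq⟩ := hgen _ hv1
      have hAB : Subgroup.zpowers ((x * ψ x) ^ k) = Subgroup.zpowers (v ^ l) := by
        have h1 : Nat.card (Subgroup.zpowers ((x * ψ x) ^ k)) = q := by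
          rw [Nat.card_zpowers, orderOf_eq_prime hkq hk1]
        have h2 : Nat.card (Subgroup.zpowers (v ^ l)) = q := by
          rw [Nat.card_zpowers, orderOf_eq_prime hlq hl1]
        exact PGroupsCyclic.eq_of_card_eq_of_isCyclic (A := ⊤)
          (isCyclic_of_surjective Subgroup.topEquiv.symm (MulEquiv.surjective _)) le_top le_top
          (h1.trans h2.symm)
      obtain ⟨i, hi⟩ := Subgroup.mem_zpowers_iff.1 (hAB ▸ Subgroup.mem_zpowers _ :
        v ^ l ∈ Subgroup.zpowers ((x * ψ x) ^ k))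
      have e1 : ψ (v ^ l) = v ^ l := by
        rw [← hi, map_zpow, map_pow, hfix]
      rw [map_pow, hvinv, inv_pow, eq_comm, eq_inv_iff_mul_eq_one, ← pow_two] at e1
      have hq2 : Nat.Coprime q 2 := (Nat.coprime_primes hq Nat.prime_two).2 fun e => by
        subst e
        exact Nat.not_even_iff_odd.2 hodd (even_iff_two_dvd.2 hqE)
      exact hl1 (orderOf_eq_one_iff.1 (Nat.eq_one_of_dvd_coprimes hq2
        (orderOf_dvd_of_pow_eq_one hlq) (orderOf_dvd_of_pow_eq_one e1)))
    intro x hx
    have hd : s * t⁻¹ ∈ E := ⟨by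
        show (s * t⁻¹) • a = a
        rw [mul_smul, inv_smul_eq_iff.2 ht.2.symm, hsb], by
        show (s * t⁻¹) • b = b
        rw [mul_smul, inv_smul_eq_iff.2 ht.1.symm, hsa]⟩
    have hσ : σ x = (⟨_, hd⟩ : E) * x⁻¹ * (⟨_, hd⟩ : E)⁻¹ := Subtype.ext (by
      have := hinv ⟨(x : G), Subgroup.mem_map_of_mem E.subtype hx⟩
      have e' : t * (x : G) * t⁻¹ = (x : G)⁻¹ := congrArg Subtype.val this
      show s * (x : G) * s⁻¹ = s * t⁻¹ * (x : G)⁻¹ * (s * t⁻¹)⁻¹
      rw [← e']
      group)
    rw [MonoidHom.mem_ker]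
    show Abelianization.of x * Abelianization.of (σ x) = 1
    rw [hσ, map_mul, map_mul, map_inv, map_inv, mul_comm (Abelianization.of (⟨_, hd⟩ : E)),
      mul_inv_cancel_right, mul_inv_cancel]
  obtain ⟨s, hs, -, hsa, hsb⟩ := exists_involution_swap hZ hab
  -- the commutator subgroup is central
  have hcent : commutator E ≤ Subgroup.center E := by
    haveI := IsZGroup.isCyclic_commutator (G := E)
    haveI : IsMulCommutative (commutator E) := IsCyclic.isMulCommutative
    obtain ⟨c₀, hc₀⟩ := IsCyclic.exists_generator (α := commutator E)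
    intro c hc
    rw [Subgroup.mem_center_iff]
    intro x
    have hconj : ∀ y : E, ∀ d ∈ commutator E, y * d * y⁻¹ ∈ commutator E := fun y d hd =>
      (inferInstance : (commutator E).Normal).conj_mem d hd y
    obtain ⟨i, hi⟩ := Subgroup.mem_zpowers_iff.1 (hc₀ ⟨_, hconj x _ c₀.2⟩)
    have hall : ∀ d ∈ commutator E, x * d * x⁻¹ = d ^ i := by
      intro d hd
      obtain ⟨j, hj⟩ := Subgroup.mem_zpowers_iff.1 (hc₀ ⟨d, hd⟩)
      have hd' : d = (c₀ : E) ^ j := by
        rw [← SubgroupClass.coe_zpow, hj]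
      have hi' : x * (c₀ : E) * x⁻¹ = (c₀ : E) ^ i := by
        rw [← SubgroupClass.coe_zpow, hi]
      rw [hd', ← conj_zpow, hi', zpow_comm]
    let σ : E → E := fun y => ⟨s * y * s⁻¹, hswapmem s hsa hsb _ y.2⟩
    have hσmul : ∀ y z : E, σ (y * z) = σ y * σ z := fun y z => Subtype.ext
      (show s * ((y : G) * z) * s⁻¹ = (s * y * s⁻¹) * (s * z * s⁻¹) by group)
    let σh : E →* E := MonoidHom.mk' σ hσmul
    have hσC : ∀ d ∈ commutator E, σ d ∈ commutator E := fun d hd => by
      have := hkey s hsa hsb d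
      simpa using Subgroup.mul_mem _ (Subgroup.inv_mem _ hd) this
    have hσσ : ∀ y, σ (σ y) = y := fun y => Subtype.ext (by
      show s * (s * (y : G) * s⁻¹) * s⁻¹ = y
      calc s * (s * (y : G) * s⁻¹) * s⁻¹ = (s * s) * y * (s * s)⁻¹ := by group
        _ = y := by rw [hs]; group)
    have hsq : ∀ d ∈ commutator E, (x * x) * d = d * (x * x) := by
      intro d hd
      obtain ⟨k, hk, hkx⟩ : ∃ k ∈ commutator E, σ x = x⁻¹ * k :=
        ⟨_, hkey s hsa hsb x, by simp [σ]⟩
      have h1 : σh (x * σ d * x⁻¹) = σh ((σ d) ^ i) := by rw [hall _ (hσC d hd)]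
      rw [map_mul, map_mul, map_inv, map_zpow] at h1
      change σ x * σ (σ d) * (σ x)⁻¹ = (σ (σ d)) ^ i at h1
      rw [hσσ, hkx, mul_inv_rev, inv_inv] at h1
      have hkd : k * d = d * k := congrArg Subtype.val
        (mul_comm' (⟨k, hk⟩ : commutator E) ⟨d, hd⟩)
      have h2 : x⁻¹ * d * x = x * d * x⁻¹ := by
        calc x⁻¹ * d * x = x⁻¹ * (d * k) * (k⁻¹ * x) := by group
          _ = x⁻¹ * (k * d) * (k⁻¹ * x) := by rw [hkd]
          _ = x⁻¹ * k * d * (k⁻¹ * x) := by group
          _ = x * d * x⁻¹ := by rw [h1, hall d hd]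
      calc x * x * d = x * (x * d * x⁻¹) * x := by group
        _ = x * (x⁻¹ * d * x) * x := by rw [h2]
        _ = d * (x * x) := by group
    have hcop : Nat.Coprime 2 (orderOf x) :=
      (Nat.coprime_two_left).2 (hodd.of_dvd_nat (orderOf_dvd_natCard x))
    obtain ⟨m, hm⟩ := exists_pow_eq_self_of_coprime hcop
    have hcx : Commute c ((x ^ 2) ^ m) := Commute.pow_right (by
      rw [pow_two]; exact (hsq c hc).symm) m
    rw [hm] at hcx
    exact hcx.eq.symm
  have hcomm : ∀ x y : E, x * y = y * x := fun x y => by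
    haveI := IsZGroup.isCyclic_abelianization (G := E)
    exact commutative_of_cyclic_center_quotient (Abelianization.of (G := E))
      (by rw [Abelianization.ker_of]; exact hcent) x y
  have hbot : commutator E = ⊥ := by
    rw [commutator_def, Subgroup.commutator_eq_bot_iff_le_centralizer]
    intro x _
    exact Subgroup.mem_centralizer_iff.2 fun y _ => hcomm y x
  have hinvert : ∀ s : G, s • a = b → s • b = a → ∀ x ∈ E, s * x * s⁻¹ = x⁻¹ := by
    intro s hsa hsb x hx
    have h1 := hkey s hsa hsb ⟨x, hx⟩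
    rw [hbot, Subgroup.mem_bot] at h1
    exact (mul_eq_one_iff_inv_eq.1 (congrArg Subtype.val h1 : x * (s * x * s⁻¹) = 1)).symm
  refine ⟨?_, ?_, hinvert⟩
  · letI : CommGroup E := { (inferInstance : Group E) with mul_comm := hcomm }
    haveI : Group.IsNilpotent E := CommGroup.isNilpotent
    exact inferInstance
  · apply le_antisymm
    · intro g hg
      obtain ⟨x, hx, hx1⟩ := two_ne_bot hZ hab
      have hgx : g⁻¹ * x * g = x := by
        rw [mul_assoc, show x * g = g * x from Subgroup.mem_centralizer_iff.1 hg x hx,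
          inv_mul_cancel_left]
      rcases preserves_pair hZ hab hx hx1 (g := g) (hgx.symm ▸ hx) with h | ⟨h1, h2⟩
      · exact h
      · exfalso
        have h3 := hinvert g h1 h2 x hx
        rw [← show x * g = g * x from Subgroup.mem_centralizer_iff.1 hg x hx,
          mul_inv_cancel_right, eq_inv_iff_mul_eq_one] at h3
        have hxo : orderOf x ∣ 2 := orderOf_dvd_of_pow_eq_one (by rw [pow_two]; exact h3)
        have hxE : orderOf x ∣ Nat.card E := Subgroup.orderOf_mk x hx ▸ orderOf_dvd_natCard (⟨x, hx⟩ : E)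
        exact hx1 (orderOf_eq_one_iff.1
          (Nat.eq_one_of_dvd_coprimes (Nat.coprime_two_left.2 hodd) hxo hxE))
    · intro g hg
      exact Subgroup.mem_centralizer_iff.2 fun y hy =>
        congrArg Subtype.val (hcomm ⟨y, hy⟩ ⟨g, hg⟩)

end Kernel

end Cfsg.Agent.Feit
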