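import Mathlib
import Cfsg.Agent.Lib.FeitGroup

/-!
Zassenhaus groups with two-point stabilisers of odd order: hypotheses of the counting lemmas in
the simple case.
-/

set_option autoImplicit false

namespace Cfsg.Agent.Feit

open MulAction Zassenhaus

variable {G Ω : Type*} [Group G] [Finite G] [MulAction G Ω] [Finite Ω]
variable (hZ : Cfsg.IsZassenhausGroup G Ω)
include hZ

/-- The kernel of a point stabiliser as a subgroup. -/
theorem exists_kernel_subgroup {a b : Ω} (hab : a ≠ b) :
    ∃ H : Subgroup G, H ≤ stabilizer G a ∧ Nat.card H + 1 = Nat.card Ω ∧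
      ∀ u ∈ H, u ≠ 1 → ∀ c : Ω, u • c = c → c = a := by
  classical
  haveI := Fintype.ofFinite Ω
  obtain ⟨K, hKa, -, hKt, hKf⟩ := (pre_of_isZassenhaus hZ).exists_kernel hab
  refine ⟨K, hKa, ?_, fun u hu h1 c hc => by_contra fun hca => h1 (hKf u hu c hca hc)⟩
  have e : Nat.card K = Nat.card {y : Ω // y ≠ a} := by
    refine Nat.card_congr (Equiv.ofBijective
      (fun u : K => (⟨(u : G) • b, fun h => hab (smul_left_cancel (u : G)
        ((hKa u.2).trans h.symm))⟩ : {y : Ω // y ≠ a})) ⟨?_, ?_⟩)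
    · intro u v e
      have e' : (u : G) • b = (v : G) • b := congrArg Subtype.val e
      refine Subtype.ext (inv_mul_eq_one.1 (hKf _ (K.mul_mem (K.inv_mem u.2) v.2) b hab.symm ?_))
      rw [mul_smul, ← e', inv_smul_smul]
    · rintro ⟨y, hy⟩
      obtain ⟨u, hu, e⟩ := hKt b y hab.symm hy
      exact ⟨⟨u, hu⟩, Subtype.ext e⟩
  have := three_le_card hZ
  rw [e]
  simp [Nat.card_eq_fintype_card] at this ⊢
  omega

theorem odd_all {a b : Ω} (hab : a ≠ b) (hodd : Odd (Nat.card (two G a b))) :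
    ∀ c d : Ω, c ≠ d → Odd (Nat.card (two G c d)) :=
  fun _ _ hcd => card_two_eq hZ hab hcd ▸ hodd

/-- In a simple group there are no normal complements. -/
theorem no_complement [IsSimpleGroup G] {a b : Ω} (hab : a ≠ b)
    (hodd : Odd (Nat.card (two G a b))) :
    ∀ q : ℕ, q.Prime → q ∣ Nat.card (two G a b) →
      ¬ ∃ N : Subgroup G, N.Normal ∧ N.index = q ^ (Nat.card G).factorization q := by
  rintro q hq hqd ⟨N, hN, hi⟩
  have hqG : q ∣ Nat.card G := hqd.trans (Subgroup.card_subgroup_dvd_card _)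
  rcases hN.eq_bot_or_eq_top with rfl | rfl
  · rw [Subgroup.index_bot] at hi
    obtain ⟨s, hs, hs1, -, -⟩ := exists_involution_swap hZ hab
    have h2 : 2 ∣ Nat.card G :=
      (orderOf_eq_prime (by rw [pow_two]; exact hs) hs1) ▸ orderOf_dvd_natCard s
    rw [hi] at h2
    have := (Nat.prime_dvd_prime_iff_eq Nat.prime_two hq).1 (Nat.prime_two.dvd_of_dvd_pow h2)
    subst this
    exact Nat.not_even_iff_odd.2 hodd (even_iff_two_dvd.2 hqd)
  · rw [Subgroup.index_top] at hi
    have := hq.factorization_pos_of_dvd Nat.card_pos.ne' hqG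
    exact absurd hi (Nat.one_lt_pow (by omega) hq.one_lt).ne

/-- In a simple group the two-point stabilisers are cyclic and inverted. -/
theorem simple_cyclic_inverted [IsSimpleGroup G] {a b : Ω} (hab : a ≠ b)
    (hodd : Odd (Nat.card (two G a b))) :
    IsCyclic (two G a b) ∧ Subgroup.centralizer ((two G a b : Subgroup G) : Set G) = two G a b ∧
      ∀ s : G, s • a = b → s • b = a → ∀ x ∈ two G a b, s * x * s⁻¹ = x⁻¹ := by
  obtain ⟨H, h1, h2, h3⟩ := exists_kernel_subgroup hZ hab
  exact cyclic_inverted hZ h1 h2 h3 hab hodd (no_complement hZ hab hodd)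

/-- In a simple group every element swapping two points is an involution. -/
theorem simple_swap_sq [IsSimpleGroup G] {a b : Ω} (hab : a ≠ b)
    (hodd : Odd (Nat.card (two G a b))) :
    ∀ c d : Ω, c ≠ d → ∀ s : G, s • c = d → s • d = c → s * s = 1 := by
  intro c d hcd s hsc hsd
  have ho := odd_all hZ hab hodd c d hcd
  obtain ⟨-, -, hinv⟩ := simple_cyclic_inverted hZ hcd ho
  have hm : s * s ∈ two G c d := ⟨by
    show (s * s) • c = c
    rw [mul_smul, hsc, hsd], by
    show (s * s) • d = d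
    rw [mul_smul, hsd, hsc]⟩
  have e := hinv s hsc hsd _ hm
  rw [show s * (s * s) * s⁻¹ = s * s by group, eq_inv_iff_mul_eq_one, ← pow_two] at e
  have h1 : orderOf (⟨s * s, hm⟩ : two G c d) ∣ 2 := orderOf_dvd_of_pow_eq_one (Subtype.ext e)
  exact congrArg Subtype.val (orderOf_eq_one_iff.1
    (Nat.eq_one_of_dvd_coprimes (Nat.coprime_two_left.2 ho) h1 (orderOf_dvd_natCard _)))

end Cfsg.Agent.Feit
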