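import Mathlib
import Cfsg.Prelude.Def_Characters
import Cfsg.Agent.Lib.CharBasic
import Cfsg.Agent.Lib.CharBasicOrth
import Cfsg.Agent.Lib.CharBasicDecomp

/-!
# Real characters

* `card_fixed_eq` : Brauer's permutation lemma for a bijection of `G`.
* `card_real_eq` : real irreducible characters and real classes are equinumerous.
* `nu`, `sqrtCount_eq` : the number of square roots is `∑ ν(χ) χ(g)`; `nu_eq_zero` : `ν(χ) = 0`
  unless `χ` is real valued.
* `exists_real_lift` : real classes lift through a normal subgroup of odd order.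
-/

set_option autoImplicit false

open scoped ComplexConjugate

namespace Cfsg.Agent.RealChars

open Cfsg.Agent.CharBasic Cfsg.Agent.CharBasicOrth Cfsg.Agent.CharBasicDecomp

universe u

variable {G : Type u} [Group G]

theorem isChar (χ : Cfsg.IrrCharacter G) : Cfsg.IsCharacter G (χ : G → ℂ) :=
  isCharacter_of_isIrrCharacter χ.2

theorem isCF (χ : Cfsg.IrrCharacter G) : Cfsg.IsClassFunction G (χ : G → ℂ) :=
  isClassFunction_of_isCharacter (isChar χ)

/-- Brauer's permutation lemma: if composition with the map `σ` of `G` permutes the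
irreducible characters, it fixes as many of them as it fixes classes. -/
theorem card_fixed_eq [Finite G] (σ : G → G)
    (hσ : ∀ χ : Cfsg.IrrCharacter G, Cfsg.IsIrrCharacter G (fun g => (χ : G → ℂ) (σ g))) :
    Nat.card {χ : Cfsg.IrrCharacter G // ∀ g, (χ : G → ℂ) (σ g) = (χ : G → ℂ) g} =
      Nat.card {C : ConjClasses G // ∀ g, ConjClasses.mk g = C → IsConj (σ g) g} := by
  classical
  haveI : Fintype G := Fintype.ofFinite G
  haveI : Fintype (ConjClasses G) := Fintype.ofFinite _
  have hG : (Nat.card G : ℂ) ≠ 0 := Nat.cast_ne_zero.mpr Nat.card_pos.ne'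
  have hrow : ∀ χ : Cfsg.IrrCharacter G,
      ∑ g, (χ : G → ℂ) (σ g) * conj ((χ : G → ℂ) g) =
        if ∀ g, (χ : G → ℂ) (σ g) = (χ : G → ℂ) g then (Nat.card G : ℂ) else 0 := by
    intro χ
    rw [← card_mul_classInner (fun g => (χ : G → ℂ) (σ g)) (χ : G → ℂ)]
    split_ifs with h
    · rw [show (fun g => (χ : G → ℂ) (σ g)) = (χ : G → ℂ) from funext h, classInner_irr_self χ.2,
        mul_one]
    · rw [classInner_irr_ne (hσ χ) χ.2 (fun e => h fun g => congrFun e g), mul_zero]
  have hconst : ∀ g h : G, IsConj g h → IsConj (σ g) (σ h) := by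
    intro g h hgh
    rw [isConj_iff_forall_irr]
    intro χ
    exact apply_eq_of_isConj (isClassFunction_of_isCharacter (isCharacter_of_isIrrCharacter (hσ χ))) hgh
  have hcol : ∀ g : G, ∑ χ : Cfsg.IrrCharacter G, (χ : G → ℂ) (σ g) * conj ((χ : G → ℂ) g) =
      if (∀ h, ConjClasses.mk h = ConjClasses.mk g → IsConj (σ h) h) then
        (Nat.card (Subgroup.centralizer ({g} : Set G)) : ℂ) else 0 := by
    intro g
    rw [sum_irr_mul_conj]
    by_cases hc : IsConj (σ g) g
    · have hall : ∀ h, ConjClasses.mk h = ConjClasses.mk g → IsConj (σ h) h := fun h hh => by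
        have hhg := ConjClasses.mk_eq_mk_iff_isConj.mp hh
        exact ((hconst h g hhg).trans hc).trans hhg.symm
      rw [if_pos hc, if_pos hall]
      congr 1
      have h1 := card_conj_mul_card_centralizer (σ g)
      have h2 := card_conj_mul_card_centralizer g
      rw [show Nat.card {x : G // IsConj (σ g) x} = Nat.card {x : G // IsConj g x} from
        Nat.card_congr (Equiv.subtypeEquivRight fun x => ⟨hc.symm.trans, hc.trans⟩), ← h2] at h1
      exact Nat.eq_of_mul_eq_mul_left (Nat.card_pos_iff.mpr ⟨⟨⟨g, IsConj.refl g⟩⟩, inferInstance⟩) h1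
    · rw [if_neg hc, if_neg (fun h => hc (h g rfl))]
  have key : (Nat.card G : ℂ) *
      (Nat.card {χ : Cfsg.IrrCharacter G // ∀ g, (χ : G → ℂ) (σ g) = (χ : G → ℂ) g} : ℂ) =
      (Nat.card G : ℂ) *
      (Nat.card {C : ConjClasses G // ∀ g, ConjClasses.mk g = C → IsConj (σ g) g} : ℂ) := by
    have h1 : ∑ χ : Cfsg.IrrCharacter G, ∑ g, (χ : G → ℂ) (σ g) * conj ((χ : G → ℂ) g) =
        (Nat.card G : ℂ) *
        (Nat.card {χ : Cfsg.IrrCharacter G // ∀ g, (χ : G → ℂ) (σ g) = (χ : G → ℂ) g} : ℂ) := by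
      simp_rw [hrow]
      rw [← Finset.sum_filter, Finset.sum_const, nsmul_eq_mul, ← Fintype.card_subtype,
        Fintype.card_eq_nat_card]
      ring
    rw [← h1, Finset.sum_comm]
    simp_rw [hcol]
    rw [← Finset.sum_fiberwise Finset.univ (fun g : G => ConjClasses.mk g)]
    have hfib : ∀ C : ConjClasses G,
        (∑ g ∈ Finset.univ.filter (fun g : G => ConjClasses.mk g = C),
          if (∀ h, ConjClasses.mk h = ConjClasses.mk g → IsConj (σ h) h) then
            (Nat.card (Subgroup.centralizer ({g} : Set G)) : ℂ) else 0) =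
        if (∀ h, ConjClasses.mk h = C → IsConj (σ h) h) then (Nat.card G : ℂ) else 0 := by
      intro C
      obtain ⟨c, rfl⟩ := ConjClasses.mk_surjective C
      split_ifs with hC
      · have hterm : ∀ g ∈ Finset.univ.filter (fun g : G => ConjClasses.mk g = ConjClasses.mk c),
            (if (∀ h, ConjClasses.mk h = ConjClasses.mk g → IsConj (σ h) h) then
              (Nat.card (Subgroup.centralizer ({g} : Set G)) : ℂ) else 0) =
            (Nat.card (Subgroup.centralizer ({c} : Set G)) : ℂ) := by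
          intro g hg
          rw [Finset.mem_filter] at hg
          rw [if_pos (fun h hh => hC h (hh.trans hg.2))]
          congr 1
          have hgc := ConjClasses.mk_eq_mk_iff_isConj.mp hg.2
          have h1 := card_conj_mul_card_centralizer g
          have h2 := card_conj_mul_card_centralizer c
          rw [show Nat.card {x : G // IsConj g x} = Nat.card {x : G // IsConj c x} from
            Nat.card_congr (Equiv.subtypeEquivRight fun x => ⟨hgc.symm.trans, hgc.trans⟩), ← h2] at h1
          exact Nat.eq_of_mul_eq_mul_left (Nat.card_pos_iff.mpr ⟨⟨⟨c, IsConj.refl c⟩⟩, inferInstance⟩) h1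
        rw [Finset.sum_congr rfl hterm, Finset.sum_const, nsmul_eq_mul, ← Nat.cast_mul,
          ← card_conj_mul_card_centralizer c]
        congr 2
        rw [Nat.card_eq_fintype_card, Fintype.card_subtype]
        congr 1
        ext g
        simp only [Finset.mem_filter, Finset.mem_univ, true_and, ConjClasses.mk_eq_mk_iff_isConj]
        exact ⟨fun h => h.symm, fun h => h.symm⟩
      · refine Finset.sum_eq_zero fun g hg => ?_
        rw [Finset.mem_filter] at hg
        rw [if_neg]
        intro h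
        exact hC fun x hx => h x (hx.trans hg.2.symm)
    simp_rw [hfib]
    rw [← Finset.sum_filter, Finset.sum_const, nsmul_eq_mul, Nat.card_eq_fintype_card
      (α := {C : ConjClasses G // ∀ g, ConjClasses.mk g = C → IsConj (σ g) g}), Fintype.card_subtype]
    ring
  exact Nat.cast_injective (mul_left_cancel₀ hG key)

/-- Reality of a character through inverses. -/
theorem real_iff [Finite G] (χ : Cfsg.IrrCharacter G) :
    (∀ g, ((χ : G → ℂ) g).im = 0) ↔ ∀ g, (χ : G → ℂ) g⁻¹ = (χ : G → ℂ) g := by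
  refine forall_congr' fun g => ?_
  rw [isCharacter_inv (isChar χ) g, Complex.conj_eq_iff_im]

/-- Real irreducible characters and real classes are equinumerous. -/
theorem card_real_eq [Finite G] :
    Nat.card {χ : Cfsg.IrrCharacter G // ∀ g : G, ((χ : G → ℂ) g).im = 0} =
      Nat.card {C : ConjClasses G // ∀ g : G, ConjClasses.mk g = C → IsConj g g⁻¹} := by
  have h := card_fixed_eq (G := G) (Equiv.inv G) (fun χ => by
    have : (fun g => (χ : G → ℂ) (Equiv.inv G g)) = fun g => conj ((χ : G → ℂ) g) :=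
      funext fun g => isCharacter_inv (isChar χ) g
    rw [this]
    exact isIrrCharacter_conj χ.2)
  rw [Nat.card_congr (Equiv.subtypeEquivRight fun χ : Cfsg.IrrCharacter G => real_iff χ)]
  refine h.trans (Nat.card_congr (Equiv.subtypeEquivRight fun C => ?_))
  refine forall_congr' fun g => imp_congr_right fun _ => ?_
  exact ⟨IsConj.symm, IsConj.symm⟩

/-! ### The indicator -/

/-- The Frobenius-Schur average. -/
noncomputable def nu [Finite G] (χ : G → ℂ) : ℂ :=
  haveI := Fintype.ofFinite G
  (Nat.card G : ℂ)⁻¹ * ∑ g : G, χ (g * g)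

theorem nu_eq [Fintype G] (χ : G → ℂ) : nu χ = (Nat.card G : ℂ)⁻¹ * ∑ g : G, χ (g * g) := by
  unfold nu
  congr 1
  exact Finset.sum_congr (by ext; simp) fun _ _ => rfl

theorem nu_eq_finsum [Finite G] (χ : G → ℂ) :
    nu χ = (Nat.card G : ℂ)⁻¹ * ∑ᶠ g : G, χ (g * g) := by
  haveI := Fintype.ofFinite G
  rw [nu_eq, finsum_eq_sum_of_fintype]

theorem conj_nu [Finite G] (χ : Cfsg.IrrCharacter G) :
    conj (nu (χ : G → ℂ)) = nu (χ : G → ℂ) := by
  haveI := Fintype.ofFinite G
  rw [nu_eq, map_mul, map_inv₀, map_natCast, map_sum]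
  congr 1
  refine Fintype.sum_equiv (Equiv.inv G) _ _ fun g => ?_
  rw [← isCharacter_inv (isChar χ) (g * g), mul_inv_rev]
  rfl

/-- Number of square roots. -/
theorem sqrtCount_eq [Finite G] (g : G) :
    (Nat.card {x : G // x * x = g} : ℂ) =
      ∑ χ : Cfsg.IrrCharacter G, nu (χ : G → ℂ) * (χ : G → ℂ) g := by
  classical
  haveI := Fintype.ofFinite G
  set θ : G → ℂ := fun g => (Nat.card {x : G // x * x = g} : ℂ) with hθ
  have hcf : Cfsg.IsClassFunction G θ := by
    intro g h
    simp only [hθ]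
    congr 1
    refine Nat.card_congr (Equiv.subtypeEquiv (MulAut.conj h⁻¹).toEquiv fun x => ?_)
    simp only [MulEquiv.toEquiv_eq_coe, EquivLike.coe_coe]
    rw [← map_mul, MulAut.conj_apply]
    constructor
    · intro e; rw [e]; simp [mul_assoc]
    · intro e
      have : x * x = h * (h⁻¹ * (x * x) * h⁻¹⁻¹) * h⁻¹ := by simp [mul_assoc]
      rw [this, e]
  have hcoef : ∀ χ : Cfsg.IrrCharacter G, Cfsg.classInner θ (χ : G → ℂ) = nu (χ : G → ℂ) := by
    intro χ
    rw [Cfsg.classInner, ← conj_nu χ, nu_eq, map_mul, map_inv₀, map_natCast, map_sum]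
    congr 1
    conv_rhs => rw [← Finset.sum_fiberwise Finset.univ (fun x : G => x * x)]
    refine Finset.sum_congr rfl fun g _ => ?_
    rw [Finset.sum_congr rfl (fun x hx => by rw [(Finset.mem_filter.mp hx).2]), Finset.sum_const,
      nsmul_eq_mul]
    simp only [hθ, Nat.card_eq_fintype_card, Fintype.card_subtype]
  have := congrFun (eq_sum_classInner hcf) g
  rw [Finset.sum_apply] at this
  simp only [Pi.smul_apply, smul_eq_mul, hcoef] at this
  exact this

/-- The indicator of a non-real irreducible character vanishes. -/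
theorem nu_eq_zero [Finite G] (χ : Cfsg.IrrCharacter G)
    (hχ : ¬ ∀ g, ((χ : G → ℂ) g).im = 0) : nu (χ : G → ℂ) = 0 := by
  classical
  haveI := Fintype.ofFinite G
  obtain ⟨n, ρ, hirr, he⟩ := χ.2
  set A : G → Matrix (Fin n) (Fin n) ℂ := fun g => LinearMap.toMatrix' (ρ g) with hA
  have hmul : ∀ g h, A (g * h) = A g * A h := fun g h => by
    simp only [hA, map_mul, Module.End.mul_eq_comp, LinearMap.toMatrix'_comp]
  have hone : A 1 = 1 := by simp only [hA, map_one, Module.End.one_eq_id, LinearMap.toMatrix'_id]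
  -- the contragredient representation
  let σ : Representation ℂ G (Fin n → ℂ) :=
    { toFun := fun g => Matrix.toLin' (A g⁻¹).transpose
      map_one' := by simp [hone, Matrix.toLin'_one, Module.End.one_eq_id]
      map_mul' := fun a b => by
        simp [mul_inv_rev, hmul, Matrix.transpose_mul, Matrix.toLin'_mul, Module.End.mul_eq_comp] }
  have hσ : σ.character = fun g => conj ((χ : G → ℂ) g) := by
    funext g
    rw [← isCharacter_inv (isChar χ) g, ← he]
    show LinearMap.trace ℂ _ (Matrix.toLin' (A g⁻¹).transpose) = LinearMap.trace ℂ _ (ρ g⁻¹)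
    rw [LinearMap.trace_eq_matrix_trace ℂ (Pi.basisFun ℂ (Fin n)),
      LinearMap.trace_eq_matrix_trace ℂ (Pi.basisFun ℂ (Fin n)), LinearMap.toMatrix_eq_toMatrix',
      LinearMap.toMatrix'_toLin', Matrix.trace_transpose]
  have hzero : Module.finrank ℂ (Representation.IntertwiningMap σ ρ) = 0 := by
    have h := classInner_character ρ σ
    rw [hσ, he, classInner_irr_ne χ.2 (isIrrCharacter_conj χ.2)] at h
    · exact_mod_cast h.symm
    · intro e
      exact hχ fun g => Complex.conj_eq_iff_im.mp (congrFun e g).symm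
  haveI : Subsingleton (Representation.IntertwiningMap σ ρ) :=
    Module.finrank_zero_iff.mp hzero
  have hT : ∀ E : Matrix (Fin n) (Fin n) ℂ, ∑ g : G, A g * E * (A g).transpose = 0 := by
    intro E
    set T := ∑ g : G, A g * E * (A g).transpose with hTdef
    have hint : ∀ h : G, T * (A h⁻¹).transpose = A h * T := by
      intro h
      rw [hTdef, Finset.sum_mul, Finset.mul_sum]
      refine Fintype.sum_equiv (Equiv.mulLeft h⁻¹) _ _ fun g => ?_
      simp only [Equiv.coe_mulLeft]
      rw [← mul_assoc, ← mul_assoc, ← hmul, mul_inv_cancel_left, mul_assoc (A g * E),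
        ← Matrix.transpose_mul, ← hmul]
    let f : Representation.IntertwiningMap σ ρ :=
      ⟨Matrix.toLin' T, fun h => by
        show Matrix.toLin' T ∘ₗ Matrix.toLin' (A h⁻¹).transpose = ρ h ∘ₗ Matrix.toLin' T
        rw [← Matrix.toLin'_mul, hint h, Matrix.toLin'_mul]
        simp only [hA, Matrix.toLin'_toMatrix']⟩
    have hf : f = 0 := Subsingleton.elim _ _
    have hlin : Matrix.toLin' T = 0 := congrArg Representation.IntertwiningMap.toLinearMap hf
    exact Matrix.toLin'.map_eq_zero_iff.mp hlin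
  have hentry : ∀ i j : Fin n, ∑ g : G, A g i j * A g j i = 0 := by
    intro i j
    have := congrFun (congrFun (hT (Matrix.single j i (1 : ℂ))) i) j
    rw [Matrix.sum_apply, Matrix.zero_apply] at this
    rw [← this]
    refine Finset.sum_congr rfl fun g _ => ?_
    simp [Matrix.mul_apply, Matrix.single_apply, ite_and]
  have hval : ∀ g : G, (χ : G → ℂ) (g * g) = ∑ i, ∑ j, A g i j * A g j i := by
    intro g
    rw [← he]
    show LinearMap.trace ℂ _ (ρ (g * g)) = _
    rw [LinearMap.trace_eq_matrix_trace ℂ (Pi.basisFun ℂ (Fin n)), LinearMap.toMatrix_eq_toMatrix']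
    show Matrix.trace (A (g * g)) = _
    rw [hmul]
    simp [Matrix.trace, Matrix.mul_apply]
  rw [nu_eq]
  simp_rw [hval]
  rw [Finset.sum_comm]
  simp_rw [Finset.sum_comm (γ := G)]
  simp [hentry]

/-- For a real character the indicator is `1` or `-1`. -/
theorem nu_eq_one_or_neg_one [Finite G] (χ : Cfsg.IrrCharacter G)
    (hχ : ∀ g, ((χ : G → ℂ) g).im = 0) : nu (χ : G → ℂ) = 1 ∨ nu (χ : G → ℂ) = -1 := by
  classical
  haveI := Fintype.ofFinite G
  obtain ⟨n, ρ, hirr, he⟩ := χ.2
  set A : G → Matrix (Fin n) (Fin n) ℂ := fun g => LinearMap.toMatrix' (ρ g) with hA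
  have hmul : ∀ g h, A (g * h) = A g * A h := fun g h => by
    simp only [hA, map_mul, Module.End.mul_eq_comp, LinearMap.toMatrix'_comp]
  have hone : A 1 = 1 := by simp only [hA, map_one, Module.End.one_eq_id, LinearMap.toMatrix'_id]
  -- the contragredient representation
  let σ : Representation ℂ G (Fin n → ℂ) :=
    { toFun := fun g => Matrix.toLin' (A g⁻¹).transpose
      map_one' := by simp [hone, Matrix.toLin'_one, Module.End.one_eq_id]
      map_mul' := fun a b => by
        simp [mul_inv_rev, hmul, Matrix.transpose_mul, Matrix.toLin'_mul, Module.End.mul_eq_comp] }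
  have hσ : σ.character = fun g => conj ((χ : G → ℂ) g) := by
    funext g
    rw [← isCharacter_inv (isChar χ) g, ← he]
    show LinearMap.trace ℂ _ (Matrix.toLin' (A g⁻¹).transpose) = LinearMap.trace ℂ _ (ρ g⁻¹)
    rw [LinearMap.trace_eq_matrix_trace ℂ (Pi.basisFun ℂ (Fin n)),
      LinearMap.trace_eq_matrix_trace ℂ (Pi.basisFun ℂ (Fin n)), LinearMap.toMatrix_eq_toMatrix',
      LinearMap.toMatrix'_toLin', Matrix.trace_transpose]
  have hconjχ : (fun g => conj ((χ : G → ℂ) g)) = (χ : G → ℂ) :=
    funext fun g => Complex.conj_eq_iff_im.mpr (hχ g)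
  have hone' : Module.finrank ℂ (Representation.IntertwiningMap σ ρ) = 1 := by
    have h := classInner_character ρ σ
    rw [hσ, he, hconjχ, classInner_irr_self χ.2] at h
    exact_mod_cast h.symm
  obtain ⟨f0, hf0, hgen⟩ := finrank_eq_one_iff'.mp hone'
  set T0 := LinearMap.toMatrix' f0.toLinearMap with hT0
  have hspan : ∀ T : Matrix (Fin n) (Fin n) ℂ, (∀ h : G, T * (A h⁻¹).transpose = A h * T) →
      ∃ c : ℂ, T = c • T0 := by
    intro T hint
    let f : Representation.IntertwiningMap σ ρ :=
      ⟨Matrix.toLin' T, fun h => by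
        show Matrix.toLin' T ∘ₗ Matrix.toLin' (A h⁻¹).transpose = ρ h ∘ₗ Matrix.toLin' T
        rw [← Matrix.toLin'_mul, hint h, Matrix.toLin'_mul]
        simp only [hA, Matrix.toLin'_toMatrix']⟩
    obtain ⟨c, hc⟩ := hgen f
    refine ⟨c, ?_⟩
    have := congrArg (fun F : Representation.IntertwiningMap σ ρ => LinearMap.toMatrix' F.toLinearMap) hc
    simp only [Representation.IntertwiningMap.toLinearMap_smul, map_smul] at this
    rw [hT0, this]
    exact (LinearMap.toMatrix'_toLin' T).symm
  have hT0int : ∀ h : G, T0 * (A h⁻¹).transpose = A h * T0 := by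
    intro h
    have hh : f0.toLinearMap ∘ₗ Matrix.toLin' (A h⁻¹).transpose = ρ h ∘ₗ f0.toLinearMap :=
      f0.isIntertwining' h
    have := congrArg LinearMap.toMatrix' hh
    rwa [LinearMap.toMatrix'_comp, LinearMap.toMatrix'_comp, LinearMap.toMatrix'_toLin'] at this
  have hT0ne : T0 ≠ 0 := by
    intro h0
    apply hf0
    apply Representation.IntertwiningMap.toLinearMap_injective
    exact LinearMap.toMatrix'.map_eq_zero_iff.mp h0
  -- the transpose of `T0` is an intertwiner as well
  have hT0t : ∀ h : G, T0.transpose * (A h⁻¹).transpose = A h * T0.transpose := by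
    intro h
    have h1 : T0 * (A h).transpose = A h⁻¹ * T0 := by
      have := hT0int h⁻¹
      rwa [inv_inv] at this
    have h2 := congrArg Matrix.transpose h1
    simp only [Matrix.transpose_mul, Matrix.transpose_transpose] at h2
    exact h2.symm
  obtain ⟨s, hs⟩ := hspan _ hT0t
  have hs2 : s * s = 1 := by
    have h3 : T0 = (s * s) • T0 := by
      conv_lhs => rw [← Matrix.transpose_transpose T0, hs, Matrix.transpose_smul, hs, smul_smul]
    have h4 : (1 - s * s) • T0 = 0 := by rw [sub_smul, one_smul, ← h3, sub_self]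
    exact (sub_eq_zero.mp ((smul_eq_zero.mp h4).resolve_right hT0ne)).symm
  have hT : ∀ E : Matrix (Fin n) (Fin n) ℂ,
      (∑ g : G, A g * E * (A g).transpose).transpose = s • ∑ g : G, A g * E * (A g).transpose := by
    intro E
    obtain ⟨c, hc⟩ := hspan (∑ g : G, A g * E * (A g).transpose) (fun h => by
      rw [Finset.sum_mul, Finset.mul_sum]
      refine Fintype.sum_equiv (Equiv.mulLeft h⁻¹) _ _ fun g => ?_
      simp only [Equiv.coe_mulLeft]
      rw [← mul_assoc, ← mul_assoc, ← hmul, mul_inv_cancel_left, mul_assoc (A g * E),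
        ← Matrix.transpose_mul, ← hmul])
    rw [hc, Matrix.transpose_smul, hs, smul_comm]
  have hentry : ∀ i j : Fin n, ∑ g : G, A g i j * A g j i = s * ∑ g : G, A g i i * A g j j := by
    intro i j
    have := congrFun (congrFun (hT (Matrix.single i j (1 : ℂ))) j) i
    simp only [Matrix.transpose_apply, Matrix.smul_apply, Matrix.sum_apply, smul_eq_mul] at this
    simp only [Matrix.mul_apply, Matrix.single_apply, Matrix.transpose_apply, ite_and, mul_ite,
      mul_one, mul_zero, ite_mul, zero_mul, Finset.sum_ite_eq, Finset.sum_ite_eq', Finset.mem_univ,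
      if_true] at this
    rw [this, Finset.mul_sum, Finset.mul_sum]
    have hs3 : ∀ z : ℂ, z = s * (s * z) := fun z => by rw [← mul_assoc, hs2, one_mul]
    exact Finset.sum_congr rfl fun g _ => by linear_combination (-(A g i j * A g j i)) * hs2
  have hval : ∀ g : G, (χ : G → ℂ) (g * g) = ∑ i, ∑ j, A g i j * A g j i := by
    intro g
    rw [← he]
    show LinearMap.trace ℂ _ (ρ (g * g)) = _
    rw [LinearMap.trace_eq_matrix_trace ℂ (Pi.basisFun ℂ (Fin n)), LinearMap.toMatrix_eq_toMatrix']
    show Matrix.trace (A (g * g)) = _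
    rw [hmul]
    simp [Matrix.trace, Matrix.mul_apply]
  have hsq : ∑ g : G, (∑ i, A g i i) * (∑ j, A g j j) = (Nat.card G : ℂ) := by
    have h := card_mul_classInner (χ : G → ℂ) (χ : G → ℂ)
    rw [classInner_irr_self χ.2, mul_one] at h
    rw [h]
    refine Finset.sum_congr rfl fun g _ => ?_
    rw [congrFun hconjχ g, ← he]
    show _ = LinearMap.trace ℂ _ (ρ g) * LinearMap.trace ℂ _ (ρ g)
    rw [LinearMap.trace_eq_matrix_trace ℂ (Pi.basisFun ℂ (Fin n)), LinearMap.toMatrix_eq_toMatrix']
    rfl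
  have hnu : nu (χ : G → ℂ) = s := by
    rw [nu_eq]
    simp_rw [hval]
    rw [Finset.sum_comm]
    simp_rw [Finset.sum_comm (γ := G), hentry, ← Finset.mul_sum]
    have : ∑ i, ∑ j, ∑ g, A g i i * A g j j = (Nat.card G : ℂ) := by
      rw [← hsq]
      simp_rw [Finset.sum_mul_sum]
      symm
      rw [Finset.sum_comm]
      exact Finset.sum_congr rfl fun i _ => Finset.sum_comm
    rw [this]
    field_simp [Nat.card_pos.ne']
  rw [hnu]
  exact mul_self_eq_one_iff.mp hs2

theorem real_of_nu_ne_zero [Finite G] (χ : Cfsg.IrrCharacter G) (h : nu (χ : G → ℂ) ≠ 0) :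
    ∀ g, ((χ : G → ℂ) g).im = 0 := by
  by_contra hc
  exact h (nu_eq_zero χ hc)

/-! ### Lifting real classes -/

/-- A permutation of `2`-power period of a finite set of odd size has a fixed point. -/
theorem exists_fixed_of_two_power {X : Type*} [Finite X] (hX : Odd (Nat.card X)) (f : Equiv.Perm X)
    {k : ℕ} (hk : f ^ 2 ^ k = 1) : ∃ x, f x = x := by
  classical
  haveI : Fintype X := Fintype.ofFinite X
  haveI : Fact (Nat.Prime 2) := ⟨Nat.prime_two⟩
  by_contra hc
  push Not at hc
  have h1 := Equiv.Perm.card_compl_support_modEq (σ := f) (p := 2) (n := k) hk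
  have hsupp : f.support = Finset.univ := Finset.eq_univ_iff_forall.mpr fun x =>
    Equiv.Perm.mem_support.mpr (hc x)
  rw [hsupp, Finset.compl_univ, Finset.card_empty, ← Nat.card_eq_fintype_card] at h1
  rw [Nat.odd_iff] at hX
  unfold Nat.ModEq at h1
  omega

/-- If the image of `x` modulo a normal subgroup of odd order is real, some element of `x M`
is real. -/
theorem exists_real_lift [Finite G] (M : Subgroup G) [M.Normal] (hM : Odd (Nat.card M)) (x : G)
    (hx : IsConj (x : G ⧸ M) (x : G ⧸ M)⁻¹) :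
    ∃ y : G, (y : G ⧸ M) = (x : G ⧸ M) ∧ IsConj y y⁻¹ := by
  obtain ⟨cb, hc⟩ := isConj_iff.mp hx
  obtain ⟨c, rfl⟩ := QuotientGroup.mk_surjective cb
  -- replace `c` by its `2`-part
  obtain ⟨k, m, hm, hkm⟩ : ∃ k m : ℕ, Odd m ∧ orderOf c = 2 ^ k * m :=
    ⟨(orderOf c).factorization 2, ordCompl[2] (orderOf c),
      Nat.not_even_iff_odd.mp (fun he => Nat.not_dvd_ordCompl Nat.prime_two
        (orderOf_pos c).ne' (even_iff_two_dvd.mp he)),
      (Nat.ordProj_mul_ordCompl_eq_self _ 2).symm⟩
  set t := c ^ m with ht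
  have htk : t ^ 2 ^ k = 1 := by
    rw [ht, ← pow_mul, mul_comm, ← hkm, pow_orderOf_eq_one]
  have hpow : ∀ j : ℕ, (c : G ⧸ M) ^ j * (x : G ⧸ M) * ((c : G ⧸ M) ^ j)⁻¹ =
      if Even j then (x : G ⧸ M) else (x : G ⧸ M)⁻¹ := by
    intro j
    induction j with
    | zero => simp
    | succ j ih =>
      rw [pow_succ', mul_inv_rev]
      calc (c : G ⧸ M) * (c : G ⧸ M) ^ j * (x : G ⧸ M) * (((c : G ⧸ M) ^ j)⁻¹ * (c : G ⧸ M)⁻¹)
          = (c : G ⧸ M) * ((c : G ⧸ M) ^ j * (x : G ⧸ M) * ((c : G ⧸ M) ^ j)⁻¹) * (c : G ⧸ M)⁻¹ := by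
            group
        _ = (c : G ⧸ M) * (if Even j then (x : G ⧸ M) else (x : G ⧸ M)⁻¹) * (c : G ⧸ M)⁻¹ := by
            rw [ih]
        _ = _ := by
          rcases Nat.even_or_odd j with hj | hj
          · rw [if_pos hj, if_neg (Nat.not_even_iff_odd.mpr hj.add_one), hc]
          · rw [if_neg (Nat.not_even_iff_odd.mpr hj), if_pos hj.add_one, ← conj_inv, hc, inv_inv]
  have htx : (t : G ⧸ M) * (x : G ⧸ M) * (t : G ⧸ M)⁻¹ = (x : G ⧸ M)⁻¹ := by
    have := hpow m
    rw [if_neg (Nat.not_even_iff_odd.mpr hm)] at this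
    rwa [ht, QuotientGroup.mk_pow]
  -- the map `y ↦ t y⁻¹ t⁻¹` permutes the coset
  let X := {y : G // (y : G ⧸ M) = (x : G ⧸ M)}
  let F : Equiv.Perm G :=
    { toFun := fun y => t * y⁻¹ * t⁻¹
      invFun := fun y => t⁻¹ * y⁻¹ * t
      left_inv := fun y => by group
      right_inv := fun y => by group }
  have hFX : ∀ y : G, (y : G ⧸ M) = (x : G ⧸ M) ↔ ((F y : G) : G ⧸ M) = (x : G ⧸ M) := by
    intro y
    show _ ↔ ((t * y⁻¹ * t⁻¹ : G) : G ⧸ M) = _
    simp only [QuotientGroup.mk_mul, QuotientGroup.mk_inv]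
    constructor
    · intro h; rw [h, ← conj_inv, htx, inv_inv]
    · intro h
      rw [← conj_inv, inv_eq_iff_eq_inv, ← htx] at h
      exact mul_left_cancel (mul_right_cancel h)
  let f : Equiv.Perm X := F.subtypePerm fun y => (hFX y).symm
  have hf2 : ∀ (j : ℕ) (y : X), (((f ^ (2 * j)) y : X) : G) = t ^ (2 * j) * y * (t ^ (2 * j))⁻¹ := by
    intro j
    induction j with
    | zero => intro y; simp
    | succ j ih =>
      intro y
      rw [show 2 * (j + 1) = 2 + 2 * j by ring, pow_add, Equiv.Perm.mul_apply, pow_two,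
        Equiv.Perm.mul_apply]
      show t * (t * ((((f ^ (2 * j)) y : X) : G))⁻¹ * t⁻¹)⁻¹ * t⁻¹ = _
      rw [ih y, pow_add t 2, pow_two]
      group
  have hf : f ^ 2 ^ (k + 1) = 1 := by
    refine Equiv.ext fun y => Subtype.ext ?_
    rw [show (2 : ℕ) ^ (k + 1) = 2 * 2 ^ k by ring, hf2]
    rw [show t ^ (2 * 2 ^ k) = 1 by rw [mul_comm, pow_mul, htk, one_pow]]
    simp
  have hXcard : Nat.card X = Nat.card M := by
    refine Nat.card_congr ⟨fun y => ⟨x⁻¹ * y.1, QuotientGroup.eq.mp y.2.symm⟩,
      fun m => ⟨x * m.1, by rw [QuotientGroup.mk_mul, (QuotientGroup.eq_one_iff _).mpr m.2, mul_one]⟩,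
      fun y => ?_, fun m => ?_⟩
    · exact Subtype.ext (mul_inv_cancel_left x y.1)
    · exact Subtype.ext (inv_mul_cancel_left x m.1)
  obtain ⟨⟨y, hy⟩, hfy⟩ := exists_fixed_of_two_power (hXcard ▸ hM) f hf
  refine ⟨y, hy, (isConj_iff.mpr ⟨t, ?_⟩ : IsConj y⁻¹ y).symm⟩
  exact congrArg Subtype.val hfy

end Cfsg.Agent.RealChars
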