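import Mathlib
import Cfsg.Agent.Lib.FeitSimple
import Cfsg.Agent.Lib.CharBasicLinear
import Cfsg.Agent.Lib.CharInducedBasic
import Cfsg.Agent.Lib.CharInducedRep
import Cfsg.Agent.Lib.RealChars

/-!
Zassenhaus groups with cyclic inverted two-point stabilisers of odd order: characters induced from
the point stabiliser and from the kernel.
-/

set_option autoImplicit false

namespace Cfsg.Agent.Feit

open MulAction Zassenhaus Finset Cfsg
open scoped ComplexConjugate
open CharBasic CharBasicOrth CharBasicDecomp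

universe u v

variable {G : Type u} {Ω : Type v} [Group G] [MulAction G Ω]

/-- The hypotheses: odd cyclic two-point stabilisers, inverted by swappers. -/
structure Sim (a b : Ω) (H : Subgroup G) (h e j : ℕ) : Prop where
  hZ : Cfsg.IsZassenhausGroup G Ω
  hab : a ≠ b
  hHa : H ≤ stabilizer G a
  hH : Nat.card H = h
  hΩ : Nat.card Ω = h + 1
  he : Nat.card (two G a b) = e
  hj : e = 2 * j + 1
  hfix : ∀ u ∈ H, u ≠ 1 → ∀ c : Ω, u • c = c → c = a
  hinv : ∀ c d : Ω, c ≠ d → ∀ s : G, s • c = d → s • d = c → ∀ x ∈ two G c d, s * x * s⁻¹ = x⁻¹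
  hcomm : ∀ x ∈ two G a b, ∀ y ∈ two G a b, x * y = y * x

theorem Sim.of_simple [Finite G] [Finite Ω] [IsSimpleGroup G] (hZ : Cfsg.IsZassenhausGroup G Ω)
    {a b : Ω} (hab : a ≠ b) {H : Subgroup G} {h e j : ℕ} (hHa : H ≤ stabilizer G a)
    (hH : Nat.card H = h) (hΩ : Nat.card Ω = h + 1) (he : Nat.card (two G a b) = e)
    (hj : e = 2 * j + 1) (hfix : ∀ u ∈ H, u ≠ 1 → ∀ c : Ω, u • c = c → c = a) :
    Sim a b H h e j := by
  have ho : Odd (Nat.card (two G a b)) := ⟨j, he.trans hj⟩
  refine ⟨hZ, hab, hHa, hH, hΩ, he, hj, hfix, fun c d hcd => ?_, fun x hx y hy => ?_⟩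
  · exact (simple_cyclic_inverted hZ hcd (odd_all hZ hab ho c d hcd)).2.2
  · haveI := (simple_cyclic_inverted hZ hab ho).1
    haveI : IsMulCommutative (two G a b) := IsCyclic.isMulCommutative
    exact congrArg Subtype.val (mul_comm' (⟨x, hx⟩ : two G a b) ⟨y, hy⟩)

/-- The conjugate of a function on `H`. -/
noncomputable def cj (H : Subgroup G) (x : G) (ψ : H → ℂ) : H → ℂ :=
  fun u => Cfsg.extendByZero H ψ (x⁻¹ * u * x)

/-- The multiplicity of a character of `H` in a restricted character of `G`. -/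
noncomputable def mult (H : Subgroup G) [Fintype H] (χ : Cfsg.IrrCharacter G)
    (φ : Cfsg.IrrCharacter H) : ℕ :=
  (classInner_isCharacter (isCharacter_comap H.subtype (isCharacter_of_isIrrCharacter χ.2))
    (isCharacter_of_isIrrCharacter φ.2)).choose

theorem mult_spec (H : Subgroup G) [Fintype H] (χ : Cfsg.IrrCharacter G)
    (φ : Cfsg.IrrCharacter H) :
    Cfsg.classInner (fun u : H => (χ : G → ℂ) u) (φ : H → ℂ) = mult H χ φ :=
  (classInner_isCharacter (isCharacter_comap H.subtype (isCharacter_of_isIrrCharacter χ.2))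
    (isCharacter_of_isIrrCharacter φ.2)).choose_spec

variable [Fintype G] [Fintype Ω] {a b : Ω} {H : Subgroup G} {h e j : ℕ}
variable (S : Sim a b H h e j)
include S

namespace Sim

theorem hHcard : Nat.card H + 1 = Nat.card Ω := by rw [S.hH, S.hΩ]

theorem odd_e : Odd (Nat.card (two G a b)) := ⟨j, S.he.trans S.hj⟩

theorem one_le_j : 1 ≤ j := by
  have := two_le_card_two S.hZ S.hab
  rw [S.he, S.hj] at this
  omega

theorem two_le_h : 2 ≤ h := by
  have := three_le_card S.hZ
  rw [S.hΩ] at this
  omega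

theorem card_stab : Nat.card (stabilizer G a) = h * e := by
  rw [card_stabilizer S.hZ S.hab, S.hΩ, S.he, Nat.add_sub_cancel]

theorem card_G : Nat.card G = (h + 1) * (h * e) := by
  rw [card_group S.hZ S.hab, S.hΩ, S.he, Nat.add_sub_cancel]

theorem conj_mem {x u : G} (hx : x • a = a) (hu : u ∈ H) : x⁻¹ * u * x ∈ H := by
  have := kernel_conj_mem S.hZ S.hHa S.hHcard S.hfix (g := x⁻¹) (inv_smul_eq_iff.2 hx.symm) hu
  rwa [inv_inv] at this

theorem mem_of_comm {u g : G} (hu : u ∈ H) (hu1 : u ≠ 1) (hc : g * u = u * g) : g ∈ H := by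
  have hga := commute_fix S.hHa S.hfix hu hu1 hc
  refine (kernel_mem_iff S.hZ S.hHa S.hHcard S.hfix g).2 ⟨hga, ?_⟩
  by_contra hn
  push Not at hn
  obtain ⟨hg1, c, hgc, hca⟩ := hn
  exact hu1 (kernel_fpf S.hZ S.hHa S.hHcard S.hfix (Ne.symm hca) hu
    (show g ∈ two G a c from ⟨hga, hgc⟩) hg1 hc)

/-- Kernel elements conjugated into the point stabiliser. -/
theorem fix_of_conj {u x : G} (hu : u ∈ H) (hu1 : u ≠ 1) (hx : (x⁻¹ * u * x) • a = a) :
    x • a = a := by
  refine S.hfix u hu hu1 _ ?_
  rw [mul_smul, mul_smul, inv_smul_eq_iff] at hx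
  exact hx

/-! ### Linear characters of the point stabiliser -/

theorem quotient_comm {x y : stabilizer G a} : ((x * y)⁻¹ * (y * x) : G) ∈ H := by
  obtain ⟨u, hu, hub⟩ := kernel_transitive S.hZ S.hHa S.hHcard S.hfix S.hab.symm
    (show (x : G) • b ≠ a from fun e => S.hab (smul_left_cancel (x : G) (x.2.trans e.symm)))
  obtain ⟨v, hv, hvb⟩ := kernel_transitive S.hZ S.hHa S.hHcard S.hfix S.hab.symm
    (show (y : G) • b ≠ a from fun e => S.hab (smul_left_cancel (y : G) (y.2.trans e.symm)))
  have hua : u • a = a := S.hHa hu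
  have hva : v • a = a := S.hHa hv
  set p : G := u⁻¹ * x with hp
  set q : G := v⁻¹ * y with hq
  have hp2 : p ∈ two G a b := ⟨by
    show p • a = a
    rw [hp, mul_smul, x.2, inv_smul_eq_iff, hua], by
    show p • b = b
    rw [hp, mul_smul, inv_smul_eq_iff, hub]⟩
  have hq2 : q ∈ two G a b := ⟨by
    show q • a = a
    rw [hq, mul_smul, y.2, inv_smul_eq_iff, hva], by
    show q • b = b
    rw [hq, mul_smul, inv_smul_eq_iff, hvb]⟩
  have hc := S.hcomm p hp2 q hq2
  -- `x * y = (u * p v p⁻¹) * (p * q)`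
  have h1 : (x : G) * y = u * (p * v * p⁻¹) * (p * q) := by simp [hp, hq]; group
  have h2 : (y : G) * x = v * (q * u * q⁻¹) * (p * q) := by rw [hc]; simp [hp, hq]; group
  have hpq : (p * q) • a = a := by rw [mul_smul, hq2.1, hp2.1]
  have h3 : u * (p * v * p⁻¹) ∈ H := H.mul_mem hu (kernel_conj_mem S.hZ S.hHa S.hHcard S.hfix hp2.1 hv)
  have h4 : v * (q * u * q⁻¹) ∈ H := H.mul_mem hv (kernel_conj_mem S.hZ S.hHa S.hHcard S.hfix hq2.1 hu)
  have := S.conj_mem hpq (H.mul_mem (H.inv_mem h3) h4)
  show ((x : G) * y)⁻¹ * ((y : G) * x) ∈ H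
  rw [h1, h2, show (u * (p * v * p⁻¹) * (p * q))⁻¹ * (v * (q * u * q⁻¹) * (p * q)) =
    (p * q)⁻¹ * ((u * (p * v * p⁻¹))⁻¹ * (v * (q * u * q⁻¹))) * (p * q) by group]
  exact this

omit [Fintype G] [Fintype Ω] S in
/-- Linear characters of the stabiliser of `a` trivial on `H`. -/
abbrev Lin (a : Ω) (H : Subgroup G) : Type u :=
  {lam : stabilizer G a →* ℂˣ // ∀ u : stabilizer G a, (u : G) ∈ H → lam u = 1}

theorem lin_card : Nat.card (Lin a H) = e ∧
    ∀ x : stabilizer G a, (x : G) ∉ H → ∃ lam : Lin a H, lam.1 x ≠ 1 := by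
  classical
  set K := H.subgroupOf (stabilizer G a)
  haveI hK : K.Normal :=
    ⟨fun k hk g => kernel_conj_mem S.hZ S.hHa S.hHcard S.hfix g.2 hk⟩
  let _ : CommGroup (stabilizer G a ⧸ K) :=
    { (inferInstance : Group (stabilizer G a ⧸ K)) with
      mul_comm := fun p q => by
        induction p using QuotientGroup.induction_on with
        | H x =>
          induction q using QuotientGroup.induction_on with
          | H y => exact QuotientGroup.eq.2 S.quotient_comm }
  haveI : Finite (stabilizer G a ⧸ K) := inferInstance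
  let ε : (stabilizer G a ⧸ K →* ℂˣ) ≃ Lin a H :=
    { toFun := fun m => ⟨m.comp (QuotientGroup.mk' K), fun u hu => by
        rw [MonoidHom.comp_apply, show QuotientGroup.mk' K u = 1 from
          (QuotientGroup.eq_one_iff u).2 hu, map_one]⟩
      invFun := fun lam => QuotientGroup.lift K lam.1 fun u hu => lam.2 u hu
      left_inv := fun m => by ext x; rfl
      right_inv := fun lam => by ext x; rfl }
  refine ⟨?_, fun x hx => ?_⟩
  · rw [← Nat.card_congr ε, CommGroup.card_monoidHom_of_hasEnoughRootsOfUnity]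
    have := Subgroup.card_eq_card_quotient_mul_card_subgroup K
    rw [S.card_stab, Nat.card_congr (Subgroup.subgroupOfEquivOfLe S.hHa).toEquiv, S.hH,
      mul_comm h e] at this
    exact (Nat.eq_of_mul_eq_mul_right (by have := S.two_le_h; omega) this).symm
  · obtain ⟨m, hm⟩ := CommGroup.exists_apply_ne_one_of_hasEnoughRootsOfUnity
      (stabilizer G a ⧸ K) ℂ (a := QuotientGroup.mk' K x)
      (fun h => hx ((QuotientGroup.eq_one_iff x).1 h))
    exact ⟨ε m, hm⟩

theorem lin_sum [Fintype (Lin a H)] (x : stabilizer G a) [Decidable ((x : G) ∈ H)] :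
    ∑ lam : Lin a H, (lam.1 x : ℂ) = if (x : G) ∈ H then (e : ℂ) else 0 := by
  split_ifs with hx
  · rw [Finset.sum_congr rfl fun lam _ => by rw [lam.2 x hx, Units.val_one], Finset.sum_const,
      Finset.card_univ, ← Nat.card_eq_fintype_card, S.lin_card.1, nsmul_eq_mul, mul_one]
  · obtain ⟨μ, hμ⟩ := S.lin_card.2 x hx
    let t : Lin a H ≃ Lin a H :=
      { toFun := fun lam => ⟨μ.1 * lam.1, fun u hu => by
          rw [MonoidHom.mul_apply, μ.2 u hu, lam.2 u hu, one_mul]⟩
        invFun := fun lam => ⟨μ.1⁻¹ * lam.1, fun u hu => by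
          rw [MonoidHom.mul_apply, MonoidHom.inv_apply, μ.2 u hu, lam.2 u hu, inv_one, one_mul]⟩
        left_inv := fun lam => Subtype.ext (inv_mul_cancel_left μ.1 lam.1)
        right_inv := fun lam => Subtype.ext (mul_inv_cancel_left μ.1 lam.1) }
    set z := ∑ lam : Lin a H, (lam.1 x : ℂ)
    have h1 : (μ.1 x : ℂ) * z = z := by
      rw [Finset.mul_sum]
      exact Fintype.sum_equiv t _ _ fun lam => by simp [t]
    rcases mul_left_eq_self₀.1 h1 with h2 | h2
    · exact absurd (Units.ext h2) hμ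
    · exact h2

theorem lam_sq {lam : Lin a H} (hlam : ∀ x, lam.1 x * lam.1 x = 1) :
    ∀ x, lam.1 x = 1 := by
  intro x
  set K := H.subgroupOf (stabilizer G a)
  haveI hK : K.Normal :=
    ⟨fun k hk g => kernel_conj_mem S.hZ S.hHa S.hHcard S.hfix g.2 hk⟩
  have hidx : K.index = e := by
    have := Subgroup.card_mul_index K
    rw [S.card_stab, Nat.card_congr (Subgroup.subgroupOfEquivOfLe S.hHa).toEquiv, S.hH] at this
    exact Nat.eq_of_mul_eq_mul_left (by have := S.two_le_h; omega) this
  have h1 : lam.1 x ^ e = 1 := by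
    rw [← map_pow]
    exact lam.2 _ (hidx ▸ Subgroup.pow_index_mem K x)
  rw [S.hj, pow_succ, pow_mul, pow_two, hlam, one_pow, one_mul] at h1
  exact h1

/-- Values of characters induced from the stabiliser at kernel elements. -/
theorem ind_lin_kernel (lam : Lin a H) {u : G} (hu : u ∈ H) (hu1 : u ≠ 1) :
    Cfsg.indFun (stabilizer G a) (fun x => (lam.1 x : ℂ)) u = 1 := by
  classical
  rw [CharInduced.indFun_apply]
  have key : ∀ x : G, Cfsg.extendByZero (stabilizer G a) (fun y => (lam.1 y : ℂ)) (x⁻¹ * u * x) =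
      if x ∈ stabilizer G a then 1 else 0 := by
    intro x
    split_ifs with hx
    · have hm : x⁻¹ * u * x ∈ stabilizer G a := S.hHa (S.conj_mem hx hu)
      rw [CharInduced.ext_zero_of_mem _ hm, lam.2 _ (S.conj_mem hx hu), Units.val_one]
    · exact CharInduced.ext_zero_of_not_mem _ fun hm => hx (S.fix_of_conj hu hu1 hm)
  rw [Finset.sum_congr rfl fun x _ => key x, Finset.sum_boole,
    show (Finset.univ.filter fun x : G => x ∈ stabilizer G a).card = Nat.card (stabilizer G a) from
      (Nat.subtype_card _ fun g => by simp).symm]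
  exact inv_mul_cancel₀ (CharInduced.card_subgroup_ne_zero _)

/-- Values of characters induced from the stabiliser on the stabiliser. -/
theorem ind_lin_apply [DecidableEq G] (lam : Lin a H) (x : stabilizer G a)
    [Decidable ((x : G) ∈ H)] :
    Cfsg.indFun (stabilizer G a) (fun y => (lam.1 y : ℂ)) (x : G) =
      (lam.1 x : ℂ) + conj (lam.1 x : ℂ) - (if (x : G) ∈ H then 1 else 0) +
        if (x : G) = 1 then (h : ℂ) else 0 := by
  classical
  have hconj : conj (lam.1 x : ℂ) = ((lam.1 x)⁻¹ : ℂˣ) := by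
    rw [Units.val_inv_eq_inv_val, Complex.inv_eq_conj]
    exact CharBasicDecomp.norm_linear lam.1 x
  by_cases h1 : (x : G) = 1
  · have hx : x = 1 := Subtype.ext h1
    have hidx : (stabilizer G a).index = h + 1 := by
      have := Subgroup.card_mul_index (stabilizer G a)
      rw [S.card_stab, S.card_G, mul_comm (h + 1)] at this
      exact Nat.eq_of_mul_eq_mul_left (Nat.mul_pos (by have := S.two_le_h; omega)
        (by rw [S.hj]; omega)) this
    rw [if_pos (h1 ▸ H.one_mem : (x : G) ∈ H), if_pos h1, h1, CharInduced.ind_one_apply, hidx, hx]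
    simp [add_comm]
  rw [if_neg h1, add_zero]
  by_cases hu : (x : G) ∈ H
  · rw [S.ind_lin_kernel lam hu h1, if_pos hu, lam.2 x hu]
    simp
  rw [if_neg hu, sub_zero]
  obtain ⟨c, hxc, hca⟩ : ∃ c, (x : G) • c = c ∧ c ≠ a := by
    by_contra hn
    push Not at hn
    exact hu ((kernel_mem_iff S.hZ S.hHa S.hHcard S.hfix _).2
      ⟨x.2, Or.inr fun c hc => hn c hc⟩)
  obtain ⟨s, -, -, hsa, hsc⟩ := exists_involution_swap S.hZ hca.symm
  have hinv := S.hinv a c hca.symm s hsa hsc x ⟨x.2, hxc⟩
  have key : ∀ g : G,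
      Cfsg.extendByZero (stabilizer G a) (fun y => (lam.1 y : ℂ)) (g⁻¹ * x * g) =
        (if g ∈ stabilizer G a then (lam.1 x : ℂ) else 0) +
          if s⁻¹ * g ∈ stabilizer G a then conj (lam.1 x : ℂ) else 0 := by
    intro g
    by_cases hg : g • a = a
    · have hm : g⁻¹ * x * g ∈ stabilizer G a :=
        (stabilizer G a).mul_mem ((stabilizer G a).mul_mem ((stabilizer G a).inv_mem hg) x.2) hg
      have hn : s⁻¹ * g ∉ stabilizer G a := fun hc => by
        have e1 : s⁻¹ • a = a := by
          have := hc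
          rw [mem_stabilizer_iff, mul_smul, hg] at this
          exact this
        rw [inv_smul_eq_iff, hsa] at e1
        exact hca e1.symm
      rw [CharInduced.ext_zero_of_mem _ hm, if_pos (show g ∈ stabilizer G a from hg), if_neg hn,
        add_zero, show (⟨g⁻¹ * x * g, hm⟩ : stabilizer G a) = ⟨g, hg⟩⁻¹ * x * ⟨g, hg⟩ from
          Subtype.ext rfl, map_mul, map_mul, map_inv, mul_comm, mul_inv_cancel_left]
    by_cases hg' : g • a = c
    · have hk : s⁻¹ * g ∈ stabilizer G a := by
        rw [mem_stabilizer_iff, mul_smul, hg', inv_smul_eq_iff, hsa]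
      have e2 : s * (x : G)⁻¹ * s⁻¹ = x := by
        have := congrArg (·⁻¹) hinv
        simpa [mul_assoc] using this
      have e3 : g⁻¹ * x * g = (s⁻¹ * g)⁻¹ * (x : G)⁻¹ * (s⁻¹ * g) := by
        conv_lhs => rw [← e2]
        group
      have hm : g⁻¹ * x * g ∈ stabilizer G a := e3 ▸ (stabilizer G a).mul_mem
        ((stabilizer G a).mul_mem ((stabilizer G a).inv_mem hk) ((stabilizer G a).inv_mem x.2)) hk
      rw [CharInduced.ext_zero_of_mem _ hm, if_neg (show g ∉ stabilizer G a from hg), if_pos hk,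
        zero_add, hconj, show (⟨g⁻¹ * x * g, hm⟩ : stabilizer G a) = ⟨_, hk⟩⁻¹ * x⁻¹ * ⟨_, hk⟩ from
          Subtype.ext e3, map_mul, map_mul, map_inv, map_inv, mul_comm, mul_inv_cancel_left]
    · rw [if_neg (show g ∉ stabilizer G a from hg), if_neg, add_zero,
        CharInduced.ext_zero_of_not_mem]
      · intro hm
        have hfx : (x : G) • (g • a) = g • a := by
          rw [mem_stabilizer_iff, mul_smul, mul_smul, inv_smul_eq_iff] at hm
          exact hm
        exact h1 (three S.hZ hca.symm (Ne.symm hg') (Ne.symm hg) x.2 hxc hfx)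
      · intro hk
        rw [mem_stabilizer_iff, mul_smul, inv_smul_eq_iff, hsa] at hk
        exact hg' hk
  rw [CharInduced.indFun_apply, Finset.sum_congr rfl fun g _ => key g, Finset.sum_add_distrib,
    ← Finset.sum_filter, ← Finset.sum_filter, Finset.sum_const, Finset.sum_const,
    show (Finset.univ.filter fun g : G => g ∈ stabilizer G a).card = Nat.card (stabilizer G a) from
      (Nat.subtype_card _ fun g => by simp).symm,
    show (Finset.univ.filter fun g : G => s⁻¹ * g ∈ stabilizer G a).card =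
        Nat.card (stabilizer G a) from
      (Nat.subtype_card _ fun g => by simp).symm.trans
        (Nat.card_congr (Equiv.subtypeEquiv (Equiv.mulLeft s⁻¹) fun g => Iff.rfl)),
    nsmul_eq_mul, nsmul_eq_mul, ← mul_add, inv_mul_cancel_left₀ (CharInduced.card_subgroup_ne_zero _)]

theorem card_kernel_stab [Fintype (stabilizer G a)] [DecidablePred (· ∈ H)] :
    (Finset.univ.filter fun x : stabilizer G a => (x : G) ∈ H).card = h := by
  rw [← S.hH, ← Nat.card_congr (Subgroup.subgroupOfEquivOfLe S.hHa).toEquiv]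
  exact (Nat.subtype_card _ fun x => by simp [Subgroup.mem_subgroupOf]).symm

/-- Norm and trivial multiplicity of the induced linear characters. -/
theorem ind_lin_inner [DecidableEq G] [Fintype (stabilizer G a)] (lam : Lin a H)
    [Decidable (∀ x, lam.1 x = 1)] :
    Cfsg.classInner (Cfsg.indFun (stabilizer G a) (fun y => (lam.1 y : ℂ)))
        (Cfsg.indFun (stabilizer G a) (fun y => (lam.1 y : ℂ))) =
      (if ∀ x, lam.1 x = 1 then 2 else 1) ∧
    Cfsg.classInner (Cfsg.indFun (stabilizer G a) (fun y => (lam.1 y : ℂ))) (fun _ => 1) =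
      if ∀ x, lam.1 x = 1 then 1 else 0 := by
  classical
  set L : stabilizer G a → ℂ := fun y => (lam.1 y : ℂ) with hL
  have hA : (Nat.card (stabilizer G a) : ℂ) = (h : ℂ) * e := by rw [S.card_stab, Nat.cast_mul]
  have hA0 : (Nat.card (stabilizer G a) : ℂ) ≠ 0 := CharInduced.card_subgroup_ne_zero _
  have hAF : (Fintype.card (stabilizer G a) : ℂ) = Nat.card (stabilizer G a) := by
    rw [Nat.card_eq_fintype_card]
  have hsum : ∀ μ : stabilizer G a →* ℂˣ,
      ∑ x, (μ x : ℂ) = if ∀ x, μ x = 1 then (Nat.card (stabilizer G a) : ℂ) else 0 := by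
    intro μ
    split_ifs with hμ
    · simp [hμ, hAF]
    · push Not at hμ
      obtain ⟨y, hy⟩ := hμ
      set z := ∑ x, (μ x : ℂ)
      have h1 : (μ y : ℂ) * z = z := by
        rw [Finset.mul_sum]
        exact Fintype.sum_equiv (Equiv.mulLeft y) _ _ fun x => by simp
      rcases mul_left_eq_self₀.1 h1 with h2 | h2
      · exact absurd (Units.ext h2) hy
      · exact h2
  constructor
  · rw [CharInduced.inner_ind_left _ _ (CharInduced.isClassFunction_ind _ _), Cfsg.classInner]
    have key : ∀ x : stabilizer G a,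
        L x * conj (Cfsg.indFun (stabilizer G a) L (x : G)) =
          1 + ((lam.1 * lam.1) x : ℂ) - (if (x : G) ∈ H then 1 else 0) +
            if x = 1 then (h : ℂ) else 0 := by
      intro x
      have hn : L x * conj (L x) = 1 := by
        rw [Complex.mul_conj']
        simp [hL, CharBasicDecomp.norm_linear]
      rw [S.ind_lin_apply lam x]
      simp only [map_sub, map_add, Complex.conj_conj, apply_ite (f := conj), map_one, map_zero,
        Complex.conj_natCast, mul_add, mul_sub, MonoidHom.mul_apply, Units.val_mul]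
      congr 1
      · congr 1
        · exact congrArg₂ _ hn rfl
        · split_ifs with hx
          · show L x * 1 = 1
            simp [hL, lam.2 x hx]
          · simp
      · by_cases hx : x = 1
        · subst hx
          simp [hL]
        · rw [if_neg (fun e' : (x : G) = 1 => hx (Subtype.ext e')), if_neg hx, mul_zero]
    rw [Finset.sum_congr rfl fun x _ => key x, Finset.sum_add_distrib, Finset.sum_sub_distrib,
      Finset.sum_add_distrib, Finset.sum_boole, S.card_kernel_stab, Finset.sum_ite_eq',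
      if_pos (Finset.mem_univ _), hsum (lam.1 * lam.1), Finset.sum_const, Finset.card_univ,
      nsmul_eq_mul, hAF, mul_one]
    have hiff : (∀ x, (lam.1 * lam.1) x = 1) ↔ ∀ x, lam.1 x = 1 :=
      ⟨fun hh => S.lam_sq hh, fun hh x => by rw [MonoidHom.mul_apply, hh, one_mul]⟩
    simp only [hiff]
    split_ifs <;> field_simp <;> ring
  · rw [CharInduced.inner_ind_left _ _ (fun _ _ => rfl), Cfsg.classInner]
    simp only [map_one, mul_one]
    rw [show ∑ x, L x = ∑ x, (lam.1 x : ℂ) from rfl, hsum]
    split_ifs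
    · exact inv_mul_cancel₀ hA0
    · exact mul_zero _

end Sim

end Cfsg.Agent.Feit
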