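import Mathlib
import Cfsg.Agent.Lib.FeitInduced
import Cfsg.Agent.Lib.FeitCombinatorics
import Cfsg.Agent.Lib.CharAverage

/-!
Zassenhaus groups with cyclic inverted two-point stabilisers of odd order: the Gram matrix of the
restrictions to the kernel.
-/

set_option autoImplicit false

namespace Cfsg.Agent.Feit

open MulAction Zassenhaus Finset Cfsg
open scoped ComplexConjugate
open CharBasic CharBasicOrth CharBasicDecomp

universe u v

variable {G : Type u} {Ω : Type v} [Group G] [MulAction G Ω]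

/-- Conjugacy of characters of `H` under the stabiliser of `a`. -/
def Rel (a : Ω) (H : Subgroup G) (φ ψ : Cfsg.IrrCharacter H) : Prop :=
  ∃ x : G, x • a = a ∧ cj H x (ψ : H → ℂ) = (φ : H → ℂ)

variable [Fintype G] [Fintype Ω] {a b : Ω} {H : Subgroup G} [Fintype H] {h e j : ℕ}
variable (S : Sim a b H h e j)
include S

namespace Sim

omit [Fintype H] in
theorem cj_apply {x : G} (hx : x • a = a) (ψ : H → ℂ) (u : H) :
    cj H x ψ u = ψ ⟨x⁻¹ * u * x, S.conj_mem hx u.2⟩ :=
  CharInduced.ext_zero_of_mem _ _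

omit [Fintype H] in
theorem cj_cj {x y : G} (hx : x • a = a) (hy : y • a = a) (ψ : H → ℂ) :
    cj H x (cj H y ψ) = cj H (x * y) ψ := by
  funext u
  rw [S.cj_apply hx, S.cj_apply hy, S.cj_apply (by rw [mul_smul, hy, hx])]
  exact congrArg ψ (Subtype.ext (by simp only; group))

omit [Fintype H] in
theorem cj_irr {x : G} (hx : x • a = a) {ψ : H → ℂ} (hψ : Cfsg.IsIrrCharacter H ψ) :
    Cfsg.IsIrrCharacter H (cj H x ψ) := by
  let f : H →* H :=
    { toFun := fun u => ⟨x⁻¹ * u * x, S.conj_mem hx u.2⟩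
      map_one' := Subtype.ext (by simp)
      map_mul' := fun u v => Subtype.ext (by simp [mul_assoc]) }
  have hf : Function.Surjective f := fun v => ⟨⟨x * v * x⁻¹,
    kernel_conj_mem S.hZ S.hHa S.hHcard S.hfix hx v.2⟩, Subtype.ext (by simp [f]; group)⟩
  have : cj H x ψ = ψ ∘ f := funext fun u => S.cj_apply hx ψ u
  rw [this]
  exact isIrrCharacter_comap f hf hψ

omit [Fintype H] in
theorem cj_of_mem {x : G} (hx : x ∈ H) {ψ : H → ℂ} (hψ : Cfsg.IsClassFunction H ψ) :
    cj H x ψ = ψ := by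
  funext u
  rw [S.cj_apply (S.hHa hx)]
  have := hψ u ⟨x⁻¹, H.inv_mem hx⟩
  rw [← this]
  exact congrArg ψ (Subtype.ext (by simp))

omit [Fintype H] in
theorem cj_inv {x : G} (hx : x • a = a) {φ ψ : H → ℂ} (he : cj H x ψ = φ) :
    cj H x⁻¹ φ = ψ := by
  have hx' : x⁻¹ • a = a := inv_smul_eq_iff.2 hx.symm
  rw [← he, S.cj_cj hx' hx, inv_mul_cancel]
  funext u
  rw [S.cj_apply (one_smul G a)]
  exact congrArg ψ (Subtype.ext (by simp))

omit [Fintype H] in
theorem eq_triv_of_cj_eq {x : G} (hx : x • a = a) (hxH : x ∉ H) {φ : Cfsg.IrrCharacter H}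
    (hφ : cj H x (φ : H → ℂ) = φ) : φ = trivIrr H := by
  have hfin : Finite (Cfsg.IrrCharacter H) := finite_irrCharacter
  let σ : H → H := fun u => ⟨x⁻¹ * u * x, S.conj_mem hx u.2⟩
  have hσ : ∀ χ : Cfsg.IrrCharacter H, (fun u => (χ : H → ℂ) (σ u)) = cj H x (χ : H → ℂ) :=
    fun χ => funext fun u => (S.cj_apply hx (χ : H → ℂ) u).symm
  have h1 := RealChars.card_fixed_eq σ fun χ => by rw [hσ]; exact S.cj_irr hx χ.2
  have hle : Subsingleton {C : ConjClasses H // ∀ g, ConjClasses.mk g = C → IsConj (σ g) g} := by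
    suffices hone : ∀ C : ConjClasses H,
        (∀ g, ConjClasses.mk g = C → IsConj (σ g) g) → C = ConjClasses.mk 1 from
      ⟨fun p q => Subtype.ext ((hone p.1 p.2).trans (hone q.1 q.2).symm)⟩
    intro C hC
    obtain ⟨u, rfl⟩ := ConjClasses.mk_surjective C
    obtain ⟨v, hv⟩ := isConj_iff.1 (hC u rfl)
    congr 1
    by_contra hu1
    apply hxH
    have e1 : (v : G) * (x⁻¹ * u * x) * (v : G)⁻¹ = u := congrArg Subtype.val hv
    have hc : (x * (v : G)⁻¹) * u = u * (x * (v : G)⁻¹) := by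
      conv_lhs => rw [← e1]
      group
    have hu1' : (u : G) ≠ 1 := fun h => hu1 (Subtype.ext h)
    exact (H.mul_mem_cancel_right (H.inv_mem v.2)).1 (S.mem_of_comm u.2 hu1' hc)
  have h2 : Subsingleton {χ : Cfsg.IrrCharacter H // ∀ g, (χ : H → ℂ) (σ g) = (χ : H → ℂ) g} :=
    Finite.card_le_one_iff_subsingleton.1 (h1 ▸ Finite.card_le_one_iff_subsingleton.2 hle)
  exact congrArg Subtype.val (h2.elim ⟨φ, fun g => (congrFun (hσ φ) g).trans (congrFun hφ g)⟩
    ⟨trivIrr H, fun g => rfl⟩)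

omit [Fintype H] in
theorem rel_refl (φ : Cfsg.IrrCharacter H) : Rel a H φ φ :=
  ⟨1, one_smul G a, S.cj_of_mem H.one_mem (RealChars.isCF φ)⟩

omit [Fintype H] in
theorem rel_symm {φ ψ : Cfsg.IrrCharacter H} (hr : Rel a H φ ψ) : Rel a H ψ φ := by
  obtain ⟨x, hx, he⟩ := hr
  exact ⟨x⁻¹, inv_smul_eq_iff.2 hx.symm, S.cj_inv hx he⟩

omit [Fintype H] in
theorem rel_deg {φ ψ : Cfsg.IrrCharacter H} (hr : Rel a H φ ψ) :
    Cfsg.charDegree (φ : H → ℂ) = Cfsg.charDegree (ψ : H → ℂ) := by
  obtain ⟨x, hx, he⟩ := hr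
  have h1 := congrFun he 1
  rw [S.cj_apply hx] at h1
  have e1 : (⟨x⁻¹ * ((1 : H) : G) * x, S.conj_mem hx (1 : H).2⟩ : H) = 1 := Subtype.ext (by simp)
  rw [e1, CharAverage.irr_apply_one, CharAverage.irr_apply_one] at h1
  exact_mod_cast h1.symm

omit [Fintype H] in
theorem rel_triv {φ : Cfsg.IrrCharacter H} (hr : Rel a H φ (trivIrr H)) : φ = trivIrr H := by
  obtain ⟨x, hx, he⟩ := hr
  refine Subtype.ext ?_
  rw [← he]
  funext u
  rw [S.cj_apply hx]
  rfl

omit [Fintype H] in
/-- Orbits of non-trivial characters: the number of stabiliser elements in each fibre. -/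
theorem card_fibre [DecidableEq Ω] {ψ φ : Cfsg.IrrCharacter H} (hψ : ψ ≠ trivIrr H)
    [Decidable (Rel a H φ ψ)] [DecidablePred fun x : G => cj H x (ψ : H → ℂ) = φ] :
    (Finset.univ.filter fun x : G => x • a = a ∧ cj H x (ψ : H → ℂ) = φ).card =
      if Rel a H φ ψ then h else 0 := by
  classical
  split_ifs with hr
  · obtain ⟨x₀, hx₀, he₀⟩ := hr
    have hH : (Finset.univ.filter fun y : G => y ∈ H).card = h := by
      rw [← S.hH]
      exact (Nat.subtype_card _ fun y => by simp).symm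
    rw [← hH]
    refine card_bij' (fun x _ => x₀⁻¹ * x) (fun y _ => x₀ * y) ?_ ?_ ?_ ?_
    · intro x hx
      simp only [mem_filter, mem_univ, true_and] at hx ⊢
      have hx₀' : x₀⁻¹ • a = a := inv_smul_eq_iff.2 hx₀.symm
      have hm : (x₀⁻¹ * x) • a = a := by rw [mul_smul, hx.1, hx₀']
      by_contra hn
      refine hψ (S.eq_triv_of_cj_eq hm hn ?_)
      rw [← S.cj_cj hx₀' hx.1, hx.2, S.cj_inv hx₀ he₀]
    · intro y hy
      simp only [mem_filter, mem_univ, true_and] at hy ⊢
      refine ⟨by rw [mul_smul, S.hHa hy, hx₀], ?_⟩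
      rw [← S.cj_cj hx₀ (S.hHa hy), S.cj_of_mem hy (RealChars.isCF ψ), he₀]
    · intro x _
      simp
    · intro y _
      simp
  · rw [Finset.card_eq_zero, Finset.eq_empty_iff_forall_notMem]
    intro x hx
    simp only [mem_filter, mem_univ, true_and] at hx
    exact hr ⟨x, hx.1, hx.2⟩

omit [Fintype H] in
theorem card_orbit [DecidableEq Ω] {ψ : Cfsg.IrrCharacter H} (hψ : ψ ≠ trivIrr H)
    [DecidablePred fun φ => Rel a H φ ψ] :
    (Finset.univ.filter fun φ : Cfsg.IrrCharacter H => Rel a H φ ψ).card = e := by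
  classical
  set O := Finset.univ.filter fun φ : Cfsg.IrrCharacter H => Rel a H φ ψ
  set A := Finset.univ.filter fun x : G => x • a = a
  have hA : A.card = h * e := by
    rw [← S.card_stab]
    exact (Nat.subtype_card _ fun y => by simp [A, mem_stabilizer_iff]).symm
  let Ψ : G → Cfsg.IrrCharacter H := fun x =>
    if hx : x • a = a then ⟨cj H x ψ, S.cj_irr hx ψ.2⟩ else trivIrr H
  have hΨ : ∀ x, x • a = a → ((Ψ x : Cfsg.IrrCharacter H) : H → ℂ) = cj H x ψ := fun x hx => by
    simp [Ψ, hx]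
  have hcount : A.card = ∑ φ ∈ O, (A.filter fun x => Ψ x = φ).card := by
    refine card_eq_sum_card_fiberwise fun x hx => ?_
    simp only [A, Finset.mem_coe, mem_filter, mem_univ, true_and] at hx
    simp only [O, Finset.mem_coe, mem_filter, mem_univ, true_and]
    exact ⟨x, hx, (hΨ x hx).symm⟩
  have hfib : ∀ φ ∈ O, (A.filter fun x => Ψ x = φ).card = h := by
    intro φ hφ
    simp only [O, mem_filter, mem_univ, true_and] at hφ
    rw [show A.filter (fun x => Ψ x = φ) =
        Finset.univ.filter fun x : G => x • a = a ∧ cj H x (ψ : H → ℂ) = φ by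
      ext x
      simp only [A, mem_filter, mem_univ, true_and]
      refine and_congr_right fun hx => ?_
      rw [Subtype.ext_iff, hΨ x hx], S.card_fibre hψ, if_pos hφ]
  rw [Finset.sum_congr rfl hfib, Finset.sum_const, smul_eq_mul, hA, mul_comm h e] at hcount
  exact (Nat.eq_of_mul_eq_mul_right (by have := S.two_le_h; omega) hcount).symm

/-! ### The Gram matrix -/

/-- The restriction to `H` of a function induced from `H`. -/
theorem res_ind [DecidableEq Ω] [DecidableEq G] (ψ : H → ℂ) (u : H) :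
    Cfsg.indFun H ψ (u : G) =
      (h : ℂ)⁻¹ * (∑ x ∈ Finset.univ.filter (fun x : G => x • a = a), cj H x ψ u) +
        if (u : G) = 1 then (h : ℂ) * e * ψ 1 else 0 := by
  classical
  rw [CharInduced.indFun_apply, S.hH]
  split_ifs with hu
  · have hcj : ∀ x : G, Cfsg.extendByZero H ψ (x⁻¹ * (u : G) * x) = ψ 1 := fun x => by
      rw [hu, mul_one, inv_mul_cancel]
      exact CharInduced.ext_zero_coe ψ 1
    simp only [cj, hcj, Finset.sum_const, nsmul_eq_mul, Finset.card_univ]
    have hA : (Finset.univ.filter fun x : G => x • a = a).card = h * e := by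
      rw [← S.card_stab]
      exact (Nat.subtype_card _ fun y => by simp [mem_stabilizer_iff]).symm
    have hG : Fintype.card G = (h + 1) * (h * e) := by rw [← S.card_G, Nat.card_eq_fintype_card]
    rw [hA, hG]
    have h0 : (h : ℂ) ≠ 0 := Nat.cast_ne_zero.2 (by have := S.two_le_h; omega)
    push_cast
    field_simp
    ring
  · rw [add_zero, Finset.sum_filter]
    congr 1
    refine Finset.sum_congr rfl fun x _ => ?_
    split_ifs with hx
    · rfl
    · exact CharInduced.ext_zero_of_not_mem _ fun hm => hx (S.fix_of_conj u.2 hu (S.hHa hm))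

/-- The number of stabiliser elements carrying `ψ` to `φ`, averaged. -/
theorem inner_cj_sum [DecidableEq Ω] [DecidablePred fun φ : Cfsg.IrrCharacter H => φ = trivIrr H]
    (φ ψ : Cfsg.IrrCharacter H) [Decidable (Rel a H φ ψ)] :
    ∑ x ∈ Finset.univ.filter (fun x : G => x • a = a),
        Cfsg.classInner (φ : H → ℂ) (cj H x ψ) =
      (h : ℂ) * if Rel a H φ ψ then (if ψ = trivIrr H then (e : ℂ) else 1) else 0 := by
  classical
  have e1 : ∀ x ∈ Finset.univ.filter (fun x : G => x • a = a),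
      Cfsg.classInner (φ : H → ℂ) (cj H x ψ) =
        if cj H x (ψ : H → ℂ) = φ then 1 else 0 := by
    intro x hx
    rw [classInner_irr _ _ φ.2 (S.cj_irr (mem_filter.1 hx).2 ψ.2)]
    exact if_congr eq_comm rfl rfl
  rw [Finset.sum_congr rfl e1, Finset.sum_boole, Finset.filter_filter]
  by_cases hψ : ψ = trivIrr H
  · rw [if_pos hψ]
    split_ifs with hr
    · have hφ : φ = trivIrr H := S.rel_triv (hψ ▸ hr)
      rw [show (Finset.univ.filter fun x : G => x • a = a ∧ cj H x (ψ : H → ℂ) = φ) =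
          Finset.univ.filter fun x : G => x • a = a by
        ext x
        simp only [mem_filter, mem_univ, true_and, and_iff_left_iff_imp]
        intro hx
        funext u
        rw [S.cj_apply hx, hψ, hφ]
        rfl,
        show (Finset.univ.filter fun x : G => x • a = a).card = h * e by
          rw [← S.card_stab]
          exact (Nat.subtype_card _ fun y => by simp [mem_stabilizer_iff]).symm, Nat.cast_mul]
    · rw [mul_zero, Nat.cast_eq_zero, Finset.card_eq_zero]
      exact Finset.eq_empty_iff_forall_notMem.2 fun x hx => hr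
        ⟨x, (mem_filter.1 hx).2.1, (mem_filter.1 hx).2.2⟩
  · rw [if_neg hψ, S.card_fibre hψ]
    split_ifs <;> simp

/-- The Gram matrix of the restrictions to `H` of all irreducible characters. -/
theorem gram_all [DecidableEq Ω]
    [DecidablePred fun φ : Cfsg.IrrCharacter H => φ = trivIrr H]
    (φ ψ : Cfsg.IrrCharacter H) [Decidable (Rel a H φ ψ)] :
    ∑ χ, mult H χ φ * mult H χ ψ =
      (if Rel a H φ ψ then (if ψ = trivIrr H then e else 1) else 0) +
        e * (Cfsg.charDegree (φ : H → ℂ) * Cfsg.charDegree (ψ : H → ℂ)) := by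
  classical
  have hP : Cfsg.classInner (Cfsg.indFun H (φ : H → ℂ)) (Cfsg.indFun H (ψ : H → ℂ)) =
      ((∑ χ, mult H χ φ * mult H χ ψ : ℕ) : ℂ) := by
    rw [classInner_eq_sum (CharInduced.isClassFunction_ind H (φ : H → ℂ)), Nat.cast_sum]
    refine Finset.sum_congr (by ext; simp) fun χ _ => ?_
    rw [CharInduced.inner_ind_left _ _ (RealChars.isCF χ),
      CharInduced.inner_ind_left _ _ (RealChars.isCF χ),
      ← conj_classInner (fun u : H => (χ : G → ℂ) u) (φ : H → ℂ),
      ← conj_classInner (fun u : H => (χ : G → ℂ) u) (ψ : H → ℂ), mult_spec, mult_spec]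
    simp only [map_natCast, Nat.cast_mul]
  have hQ : Cfsg.classInner (Cfsg.indFun H (φ : H → ℂ)) (Cfsg.indFun H (ψ : H → ℂ)) =
      (((if Rel a H φ ψ then (if ψ = trivIrr H then e else 1) else 0) +
        e * (Cfsg.charDegree (φ : H → ℂ) * Cfsg.charDegree (ψ : H → ℂ)) : ℕ) : ℂ) := by
    rw [CharInduced.inner_ind_left _ _ (CharInduced.isClassFunction_ind _ _)]
    have h0 : (h : ℂ) ≠ 0 := Nat.cast_ne_zero.2 (by have := S.two_le_h; omega)
    have e2 : ∑ x ∈ Finset.univ.filter (fun x : G => x • a = a),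
        Cfsg.classInner (φ : H → ℂ) (cj H x ψ) =
        (h : ℂ)⁻¹ * ∑ u : H, (φ : H → ℂ) u *
          conj (∑ x ∈ Finset.univ.filter (fun x : G => x • a = a), cj H x (ψ : H → ℂ) u) := by
      simp only [Cfsg.classInner, S.hH, map_sum, Finset.mul_sum]
      exact Finset.sum_comm
    rw [S.inner_cj_sum φ ψ] at e2
    rw [Cfsg.classInner, S.hH, Finset.sum_congr rfl fun u _ => by rw [S.res_ind (ψ : H → ℂ) u]]
    simp only [map_add, map_mul, map_inv₀, Complex.conj_natCast, apply_ite (f := conj), map_zero,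
      mul_add, Finset.sum_add_distrib]
    have e3 : ∑ u : H, (φ : H → ℂ) u *
        (if (u : G) = 1 then (h : ℂ) * e * conj ((ψ : H → ℂ) 1) else 0) =
        (h : ℂ) * e * ((Cfsg.charDegree (φ : H → ℂ) : ℂ) * Cfsg.charDegree (ψ : H → ℂ)) := by
      rw [Finset.sum_eq_single (1 : H)
        (fun u _ hu => by rw [if_neg (fun h' : (u : G) = 1 => hu (Subtype.ext h')), mul_zero])
        (fun h' => absurd (Finset.mem_univ _) h'), if_pos (OneMemClass.coe_one H),
        CharAverage.irr_apply_one,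
        CharAverage.irr_apply_one, Complex.conj_natCast]
      ring
    rw [e3]
    simp only [mul_left_comm _ ((h : ℂ)⁻¹), ← Finset.mul_sum]
    rw [← e2]
    push_cast
    split_ifs <;> field_simp
  rw [hP] at hQ
  exact_mod_cast hQ

/-- Restriction values determine multiplicities. -/
theorem mult_of_values (χ : Cfsg.IrrCharacter G) (k r : ℕ)
    (hu : ∀ u ∈ H, u ≠ 1 → (χ : G → ℂ) u = k) (h1 : (χ : G → ℂ) 1 = k + r * (h : ℂ))
    (φ : Cfsg.IrrCharacter H) [Decidable (φ = trivIrr H)] :
    mult H χ φ = (if φ = trivIrr H then k else 0) + r * Cfsg.charDegree (φ : H → ℂ) := by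
  classical
  have key : ∀ u : H, (χ : G → ℂ) u * conj ((φ : H → ℂ) u) =
      (k : ℂ) * ((trivIrr H : H → ℂ) u * conj ((φ : H → ℂ) u)) +
        if u = 1 then (r : ℂ) * h * (Cfsg.charDegree (φ : H → ℂ) : ℂ) else 0 := by
    intro u
    split_ifs with h'
    · subst h'
      rw [OneMemClass.coe_one, h1, CharAverage.irr_apply_one φ, Complex.conj_natCast]
      show _ = (k : ℂ) * (1 * _) + _
      ring
    · rw [hu u u.2 (fun he => h' (Subtype.ext he))]
      show _ = (k : ℂ) * (1 * _) + _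
      ring
  have h2 := mult_spec H χ φ
  rw [Cfsg.classInner, S.hH, Finset.sum_congr rfl fun u _ => key u, Finset.sum_add_distrib,
    Finset.sum_ite_eq', if_pos (Finset.mem_univ _), ← Finset.mul_sum] at h2
  have h3 : ∑ u : H, (trivIrr H : H → ℂ) u * conj ((φ : H → ℂ) u) =
      (h : ℂ) * if φ = trivIrr H then 1 else 0 := by
    rw [← card_mul_classInner, classInner_irrCharacter, S.hH]
    congr 1
    exact if_congr eq_comm rfl rfl
  rw [h3] at h2
  have h0 : (h : ℂ) ≠ 0 := Nat.cast_ne_zero.2 (by have := S.two_le_h; omega)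
  have h4 : ((mult H χ φ : ℕ) : ℂ) =
      (((if φ = trivIrr H then k else 0) + r * Cfsg.charDegree (φ : H → ℂ) : ℕ) : ℂ) := by
    rw [← h2]
    push_cast
    split_ifs <;> field_simp <;> ring
  exact_mod_cast h4

end Sim

end Cfsg.Agent.Feit
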