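import Mathlib
import Cfsg.Agent.Lib.FeitGram

/-!
Zassenhaus groups with cyclic inverted two-point stabilisers of odd order: the exceptional
constituents and the reduced Gram matrix.
-/

set_option autoImplicit false

namespace Cfsg.Agent.Feit

open MulAction Zassenhaus Finset Cfsg
open scoped ComplexConjugate
open CharBasic CharBasicOrth CharBasicDecomp

universe u v

variable {G : Type u} {Ω : Type v} [Group G] [MulAction G Ω]

/-- Irreducible characters of `G` whose restriction to `H` misses the trivial character. -/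
abbrev CC (H : Subgroup G) [Fintype H] : Type u :=
  {χ : Cfsg.IrrCharacter G // mult H χ (trivIrr H) = 0}

/-- The non-trivial irreducible characters of `H`. -/
abbrev PP (H : Subgroup G) : Type u := {φ : Cfsg.IrrCharacter H // φ ≠ trivIrr H}

variable [Fintype G] [Fintype Ω] {a b : Ω} {H : Subgroup G} [Fintype H] {h e j : ℕ}

/-- The degree as a combination of degrees of constituents. -/
theorem degree_eq (χ : Cfsg.IrrCharacter G) :
    Cfsg.charDegree (χ : G → ℂ) =
      ∑ φ : Cfsg.IrrCharacter H, mult H χ φ * Cfsg.charDegree (φ : H → ℂ) := by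
  have h1 := congrFun (eq_sum_classInner (ψ := fun u : H => (χ : G → ℂ) u)
    (isClassFunction_of_isCharacter (isCharacter_comap H.subtype (RealChars.isChar χ)))) 1
  simp only [Finset.sum_apply, Pi.smul_apply, smul_eq_mul, mult_spec, OneMemClass.coe_one,
    CharAverage.irr_apply_one] at h1
  exact_mod_cast h1

variable (S : Sim a b H h e j)
include S

namespace Sim

theorem sum_lin_mult [DecidableEq Ω] [Fintype (Lin a H)] [Fintype (stabilizer G a)]
    (χ : Cfsg.IrrCharacter G) :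
    ((mult H χ (trivIrr H) : ℕ) : ℂ) = ∑ lam : Lin a H,
      Cfsg.classInner (fun x : stabilizer G a => (χ : G → ℂ) x) (fun x => (lam.1 x : ℂ)) := by
  classical
  simp only [Cfsg.classInner, ← Finset.mul_sum]
  rw [Finset.sum_comm]
  simp only [← Finset.mul_sum, ← map_sum, S.lin_sum, apply_ite (f := conj), map_zero,
    Complex.conj_natCast, mul_ite, mul_zero, ← Finset.sum_filter, ← Finset.sum_mul]
  rw [← mult_spec, Cfsg.classInner, S.hH, S.card_stab]
  simp only [show ∀ u : H, conj ((trivIrr H : H → ℂ) u) = 1 from fun u => map_one _, mul_one]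
  have e1 : ∑ x ∈ Finset.univ.filter (fun x : stabilizer G a => (x : G) ∈ H), (χ : G → ℂ) x =
      ∑ u : H, (χ : G → ℂ) u := by
    refine Finset.sum_bij' (fun x hx => (⟨x, (mem_filter.1 hx).2⟩ : H))
      (fun u _ => (⟨u, S.hHa u.2⟩ : stabilizer G a)) ?_ ?_ ?_ ?_ ?_
    · intro x _; exact mem_univ _
    · intro u _; exact mem_filter.2 ⟨mem_univ _, u.2⟩
    · intro x _; rfl
    · intro u _; rfl
    · intro x _; rfl
  rw [e1]
  have h0 : (h : ℂ) ≠ 0 := Nat.cast_ne_zero.2 (by have := S.two_le_h; omega)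
  have he0 : (e : ℂ) ≠ 0 := Nat.cast_ne_zero.2 (by rw [S.hj]; omega)
  push_cast
  field_simp

/-- The Steinberg character of the permutation action. -/
theorem exists_st :
    ∃ ε : Cfsg.IrrCharacter G, ε ≠ trivIrr G ∧ (ε : G → ℂ) 1 = h ∧
      (∀ u ∈ H, u ≠ 1 → (ε : G → ℂ) u = 0) ∧
      (∀ g : G, (∀ c : Ω, g • c ≠ c) → (ε : G → ℂ) g = -1) ∧
      ∀ χ : Cfsg.IrrCharacter G,
        Cfsg.classInner (χ : G → ℂ) (Cfsg.indFun (stabilizer G a) (fun _ => 1)) ≠ 0 →
        χ = trivIrr G ∨ χ = ε := by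
  classical
  have htriv : ∀ u : stabilizer G a, (u : G) ∈ H → (1 : stabilizer G a →* ℂˣ) u = 1 :=
    fun _ _ => rfl
  have h1L : (fun x : stabilizer G a => (((⟨1, htriv⟩ : Lin a H).1 x : ℂˣ) : ℂ)) = fun _ => 1 := rfl
  obtain ⟨hn, ht⟩ := S.ind_lin_inner (⟨1, htriv⟩ : Lin a H)
  rw [if_pos (show ∀ x, (⟨1, htriv⟩ : Lin a H).1 x = 1 from fun _ => rfl), h1L] at hn ht
  set π := Cfsg.indFun (stabilizer G a) (fun _ => (1 : ℂ)) with hπ
  obtain ⟨n, hnm, hsum⟩ := exists_mult
    (CharInduced.isCharacter_ind (stabilizer G a) (θ := fun _ => (1 : ℂ)) isCharacter_one)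
  rw [← hπ] at hnm hsum
  have hnt : n (trivIrr G) = 1 := by exact_mod_cast (hnm (trivIrr G)).symm.trans ht
  have hsq : ∑ χ, n χ * n χ = 2 := by
    have h2 := classInner_eq_sum (φ := π) (CharInduced.isClassFunction_ind (stabilizer G a) fun _ => (1:ℂ))
    rw [← hπ, hn] at h2
    simp only [hnm, map_natCast] at h2
    exact_mod_cast h2.symm
  have hsplit := Finset.add_sum_erase univ (fun χ => n χ * n χ) (mem_univ (trivIrr G))
  rw [hsq, hnt] at hsplit
  have hrest : ∑ χ ∈ univ.erase (trivIrr G), n χ * n χ = 1 := by omega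
  obtain ⟨ε, hε, hεn⟩ : ∃ ε ∈ univ.erase (trivIrr G), n ε ≠ 0 := by
    by_contra hc
    push Not at hc
    rw [Finset.sum_eq_zero fun x hx => by rw [hc x hx, mul_zero]] at hrest
    omega
  have hsplit' := Finset.add_sum_erase (univ.erase (trivIrr G)) (fun χ => n χ * n χ) hε
  rw [hrest] at hsplit'
  have hε1 : n ε = 1 := by
    have : n ε * n ε ≤ 1 := by omega
    nlinarith [Nat.one_le_iff_ne_zero.2 hεn]
  rw [hε1] at hsplit'
  have hzero : ∀ χ, χ ≠ trivIrr G → χ ≠ ε → n χ = 0 := fun χ h1 h2 => mul_self_eq_zero.1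
    ((Finset.sum_eq_zero_iff.1 (show ∑ χ ∈ (univ.erase (trivIrr G)).erase ε, n χ * n χ = 0 by omega))
      χ (mem_erase.2 ⟨h2, mem_erase.2 ⟨h1, mem_univ _⟩⟩))
  have hπeq : ∀ g, π g = 1 + (ε : G → ℂ) g := by
    intro g
    have h2 := congrFun hsum g
    rw [Finset.sum_apply, Finset.sum_eq_add (trivIrr G) ε (mem_erase.1 hε).1.symm
      (fun χ _ hχ => by rw [hzero χ hχ.1 hχ.2]; simp) (fun h' => absurd (mem_univ _) h')
      (fun h' => absurd (mem_univ _) h'), hnt, hε1] at h2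
    rw [h2]
    simp [trivIrr]
  refine ⟨ε, (mem_erase.1 hε).1, ?_, ?_, ?_, fun χ hχ => ?_⟩
  · have hidx : (stabilizer G a).index = h + 1 := by
      have := Subgroup.card_mul_index (stabilizer G a)
      rw [S.card_stab, S.card_G, mul_comm (h + 1)] at this
      exact Nat.eq_of_mul_eq_mul_left (Nat.mul_pos (by have := S.two_le_h; omega)
        (by rw [S.hj]; omega)) this
    have h2 := hπeq 1
    rw [hπ, CharInduced.ind_one_apply, hidx, mul_one] at h2
    push_cast at h2
    linear_combination -h2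
  · intro u hu hu1
    have h2 := hπeq u
    have h3 := S.ind_lin_kernel (⟨1, htriv⟩ : Lin a H) hu hu1
    rw [h1L, ← hπ, h2] at h3
    linear_combination h3
  · intro g hg
    have h2 := hπeq g
    rw [hπ, CharInduced.ind_eq_zero_of_not_conj _ _ _ fun x hx => hg (x • a) (by
      rw [mem_stabilizer_iff, mul_smul, mul_smul, inv_smul_eq_iff] at hx
      exact hx)] at h2
    linear_combination -h2
  · by_contra hc
    push Not at hc
    refine hχ ?_
    rw [← conj_classInner, hnm, hzero χ hc.1 hc.2, Nat.cast_zero, map_zero]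

/-- The constituents meeting the trivial character of `H`. -/
theorem exists_sj [DecidableEq Ω] [DecidableEq (Cfsg.IrrCharacter G)] :
    ∃ (ε : Cfsg.IrrCharacter G) (T : Finset (Cfsg.IrrCharacter G)), ε ≠ trivIrr G ∧
      trivIrr G ∉ T ∧ ε ∉ T ∧ T.card = j ∧
      ((ε : G → ℂ) 1 = h ∧ ∀ u ∈ H, u ≠ 1 → (ε : G → ℂ) u = 0) ∧
      (∀ χ ∈ T, (χ : G → ℂ) 1 = 1 + (h : ℂ) ∧ ∀ u ∈ H, u ≠ 1 → (χ : G → ℂ) u = 1) ∧
      Finset.univ.filter (fun χ : Cfsg.IrrCharacter G => mult H χ (trivIrr H) ≠ 0) =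
        insert (trivIrr G) (insert ε T) ∧
      (∀ φ : Cfsg.IrrCharacter H, φ ≠ trivIrr H → mult H (trivIrr G) φ = 0 ∧
        mult H ε φ = Cfsg.charDegree (φ : H → ℂ) ∧
        ∀ χ ∈ T, mult H χ φ = Cfsg.charDegree (φ : H → ℂ)) ∧
      (∀ g : G, (∀ c : Ω, g • c ≠ c) → (ε : G → ℂ) g = -1 ∧ ∀ χ ∈ T, (χ : G → ℂ) g = 0) := by
  classical
  obtain ⟨ε, hεne, hε1, hεu, hεf, hεc⟩ := S.exists_st
  have hd1 : Cfsg.charDegree ((trivIrr H : Cfsg.IrrCharacter H) : H → ℂ) = 1 := by
    have := CharAverage.irr_apply_one (trivIrr H)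
    have h1 : ((Cfsg.charDegree ((trivIrr H : Cfsg.IrrCharacter H) : H → ℂ) : ℕ) : ℂ) = 1 := this.symm
    exact_mod_cast h1
  have hmt : ∀ φ, mult H (trivIrr G) φ = (if φ = trivIrr H then 1 else 0) +
      0 * Cfsg.charDegree (φ : H → ℂ) :=
    fun φ => S.mult_of_values (trivIrr G) 1 0 (fun u _ _ => by simp [trivIrr]) (by simp [trivIrr]) φ
  have hme : ∀ φ, mult H ε φ = (if φ = trivIrr H then 0 else 0) + 1 * Cfsg.charDegree (φ : H → ℂ) :=
    fun φ => S.mult_of_values ε 0 1 (fun u hu hu1 => by rw [hεu u hu hu1, Nat.cast_zero])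
      (by rw [hε1]; simp) φ
  set T := Finset.univ.filter (fun χ : Cfsg.IrrCharacter G =>
    mult H χ (trivIrr H) ≠ 0 ∧ χ ≠ trivIrr G ∧ χ ≠ ε) with hT
  haveI : Finite (Lin a H) := Nat.finite_of_card_ne_zero (by rw [S.lin_card.1, S.hj]; omega)
  haveI := Fintype.ofFinite (Lin a H)
  have hTv : ∀ χ ∈ T, ((χ : G → ℂ) 1 = 1 + (h : ℂ) ∧ ∀ u ∈ H, u ≠ 1 → (χ : G → ℂ) u = 1) ∧
      ∀ g : G, (∀ c : Ω, g • c ≠ c) → (χ : G → ℂ) g = 0 := by
    intro χ hχ
    simp only [T, mem_filter, mem_univ, true_and] at hχ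
    obtain ⟨lam, -, hlam⟩ := Finset.exists_ne_zero_of_sum_ne_zero
      (show ∑ lam : Lin a H, Cfsg.classInner (fun x : stabilizer G a => (χ : G → ℂ) x)
        (fun x => (lam.1 x : ℂ)) ≠ 0 from
        S.sum_lin_mult χ ▸ Nat.cast_ne_zero.2 hχ.1)
    rw [← CharInduced.inner_ind_right _ _ (RealChars.isCF χ)] at hlam
    by_cases hall : ∀ x, lam.1 x = 1
    · have he' : (fun x : stabilizer G a => (lam.1 x : ℂ)) = fun _ => 1 :=
        funext fun x => by rw [hall x, Units.val_one]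
      rw [he'] at hlam
      rcases hεc χ hlam with h' | h'
      · exact absurd h' hχ.2.1
      · exact absurd h' hχ.2.2
    · have hirr : Cfsg.IsIrrCharacter G (Cfsg.indFun (stabilizer G a) fun x => (lam.1 x : ℂ)) := by
        rw [isIrrCharacter_iff]
        exact ⟨CharInduced.isCharacter_ind _ (isCharacter_linear lam.1),
          (S.ind_lin_inner lam).1.trans (if_neg hall)⟩
      have hχeq : (χ : G → ℂ) = Cfsg.indFun (stabilizer G a) fun x => (lam.1 x : ℂ) := by
        by_contra hne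
        exact hlam (classInner_irr_ne χ.2 hirr hne)
      refine ⟨⟨?_, fun u hu hu1 => by rw [hχeq]; exact S.ind_lin_kernel lam hu hu1⟩, fun g hg => by
        rw [hχeq, CharInduced.ind_eq_zero_of_not_conj _ _ _ fun x hx => hg (x • a) (by
          rw [mem_stabilizer_iff, mul_smul, mul_smul, inv_smul_eq_iff] at hx
          exact hx)]⟩
      have hidx : (stabilizer G a).index = h + 1 := by
        have := Subgroup.card_mul_index (stabilizer G a)
        rw [S.card_stab, S.card_G, mul_comm (h + 1)] at this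
        exact Nat.eq_of_mul_eq_mul_left (Nat.mul_pos (by have := S.two_le_h; omega)
          (by rw [S.hj]; omega)) this
      rw [hχeq, CharInduced.ind_one_apply, hidx, map_one, Units.val_one, mul_one]
      push_cast
      ring
  have hmT : ∀ χ ∈ T, ∀ φ, mult H χ φ = (if φ = trivIrr H then 1 else 0) +
      1 * Cfsg.charDegree (φ : H → ℂ) := fun χ hχ φ =>
    S.mult_of_values χ 1 1 (fun u hu hu1 => by rw [(hTv χ hχ).1.2 u hu hu1, Nat.cast_one])
      (by rw [(hTv χ hχ).1.1]; simp) φ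
  have htT : trivIrr G ∉ T := by simp [T]
  have heT : ε ∉ T := by simp [T]
  have hset : Finset.univ.filter (fun χ : Cfsg.IrrCharacter G => mult H χ (trivIrr H) ≠ 0) =
      insert (trivIrr G) (insert ε T) := by
    ext χ
    simp only [T, mem_filter, mem_univ, true_and, mem_insert]
    constructor
    · intro hm
      tauto
    · rintro (rfl | rfl | hm)
      · rw [hmt]; simp
      · rw [hme, hd1]; simp
      · exact hm.1
  have hcard : T.card = j := by
    have h1 := S.gram_all (trivIrr H) (trivIrr H)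
    rw [if_pos (S.rel_refl _), if_pos rfl, hd1] at h1
    rw [← Finset.sum_filter_of_ne (p := fun χ => mult H χ (trivIrr H) ≠ 0)
      (fun χ _ hχ hc => hχ (by rw [hc, zero_mul])), hset,
      Finset.sum_insert (by simp [htT, hεne.symm]), Finset.sum_insert heT,
      Finset.sum_congr rfl (g := fun _ => 4) (fun χ hχ => by rw [hmT χ hχ, hd1]; simp),
      Finset.sum_const, smul_eq_mul, hmt, hme, hd1, if_pos rfl, if_pos rfl] at h1
    have := S.hj
    omega
  refine ⟨ε, T, hεne, htT, heT, hcard, ⟨hε1, hεu⟩, fun χ hχ => (hTv χ hχ).1, hset,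
    fun φ hφ => ⟨?_, ?_, fun χ hχ => ?_⟩, fun g hg => ⟨hεf g hg, fun χ hχ => (hTv χ hχ).2 g hg⟩⟩
  · rw [hmt, if_neg hφ, zero_mul, add_zero]
  · rw [hme, if_neg hφ, zero_add, one_mul]
  · rw [hmT χ hχ, if_neg hφ, zero_add, one_mul]

/-- The Gram data on the characters missing the trivial character of `H`. -/
theorem gramData [DecidableEq Ω] [DecidableRel fun φ ψ : PP H => Rel a H φ.1 ψ.1]
    [Fintype (CC (G := G) H)] [DecidableEq (CC (G := G) H)] [Fintype (PP H)] :
    GramData (fun (χ : CC (G := G) H) (φ : PP H) => mult H χ.1 φ.1)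
      (fun φ => Cfsg.charDegree (φ.1 : H → ℂ)) (fun φ ψ => Rel a H φ.1 ψ.1) e j := by
  classical
  refine ⟨fun φ ψ => ?_, fun φ => S.rel_refl φ.1, fun φ => CharAverage.irr_degree_pos φ.1,
    fun φ ψ hr => S.rel_deg hr, fun ψ => ?_⟩
  · obtain ⟨ε, T, hεne, htT, heT, hcard, -, -, hset, hvals, -⟩ := S.exists_sj
    have h1 := S.gram_all φ.1 ψ.1
    rw [← Finset.sum_filter_add_sum_filter_not Finset.univ
      (fun χ : Cfsg.IrrCharacter G => mult H χ (trivIrr H) ≠ 0), hset,
      Finset.sum_insert (by simp [htT, hεne.symm]), Finset.sum_insert heT,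
      (hvals φ.1 φ.2).1, (hvals φ.1 φ.2).2.1, (hvals ψ.1 ψ.2).2.1,
      Finset.sum_congr rfl fun χ hχ => by
        rw [(hvals φ.1 φ.2).2.2 χ hχ, (hvals ψ.1 ψ.2).2.2 χ hχ],
      Finset.sum_const, hcard, smul_eq_mul, zero_mul, zero_add] at h1
    have h2 : ∑ χ : CC (G := G) H, mult H χ.1 φ.1 * mult H χ.1 ψ.1 =
        ∑ χ ∈ Finset.univ.filter (fun χ : Cfsg.IrrCharacter G => ¬ mult H χ (trivIrr H) ≠ 0),
          mult H χ φ.1 * mult H χ ψ.1 :=
      (Finset.sum_subtype _ (p := fun χ : Cfsg.IrrCharacter G => mult H χ (trivIrr H) = 0)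
        (fun χ => by simp) (fun χ => mult H χ φ.1 * mult H χ ψ.1)).symm
    simp only [if_neg ψ.2] at h1
    rw [← h2] at h1
    obtain ⟨F, hF⟩ : ∃ F, Cfsg.charDegree (φ.1 : H → ℂ) * Cfsg.charDegree (ψ.1 : H → ℂ) = F :=
      ⟨_, rfl⟩
    rw [hF] at h1 ⊢
    rw [S.hj, add_mul, one_mul, mul_assoc] at h1
    omega
  · rw [← S.card_orbit ψ.2, ← Finset.card_map (Function.Embedding.subtype _)]
    refine Finset.card_le_card fun φ hφ => ?_
    obtain ⟨p, hp, rfl⟩ := Finset.mem_map.1 hφ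
    exact mem_filter.2 ⟨mem_univ _, S.rel_symm (mem_filter.1 hp).2⟩

end Sim

end Cfsg.Agent.Feit
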