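import Mathlib
import Cfsg.Agent.Lib.FeitGroup
import Cfsg.Agent.Lib.FrobeniusNilpotent
import Cfsg.Agent.Lib.CharBasicOrth

/-!
Counting in Zassenhaus groups: elements by number of fixed points, involutions, conjugacy classes.
-/

set_option autoImplicit false

namespace Cfsg.Agent.Feit

open MulAction Zassenhaus Finset

variable {G Ω : Type*} [Group G] [Fintype G] [DecidableEq G] [MulAction G Ω] [Fintype Ω]
  [DecidableEq Ω]

/-- Number of fixed points. -/
def nfix (g : G) : ℕ := (univ.filter fun c : Ω => g • c = c).card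

omit [Fintype G] [DecidableEq G] in
theorem nfix_conj (g k : G) : nfix (Ω := Ω) (k * g * k⁻¹) = nfix (Ω := Ω) g := by
  refine card_bij (fun c _ => k⁻¹ • c) ?_ ?_ ?_
  · intro c hc
    simp only [mem_filter, mem_univ, true_and, mul_smul] at hc ⊢
    exact eq_inv_smul_iff.2 hc
  · exact fun c _ d _ h => smul_left_cancel _ h
  · intro d hd
    refine ⟨k • d, ?_, inv_smul_smul _ _⟩
    simp only [mem_filter, mem_univ, true_and, mul_smul, inv_smul_smul] at hd ⊢
    rw [hd]

omit [Fintype G] [DecidableEq G] in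
theorem nfix_eq_zero_iff {g : G} : nfix (Ω := Ω) g = 0 ↔ ∀ c : Ω, g • c ≠ c := by
  simp [nfix, filter_eq_empty_iff]

omit [Fintype G] [DecidableEq G] in
theorem nfix_one : nfix (Ω := Ω) (1 : G) = Fintype.card Ω := by
  simp [nfix]

section

variable (hZ : Cfsg.IsZassenhausGroup G Ω)
include hZ

omit [Fintype G] [DecidableEq G] in
theorem nfix_le_two {g : G} (hg : g ≠ 1) : nfix (Ω := Ω) g ≤ 2 := by
  by_contra h
  push Not at h
  obtain ⟨x, hx, y, hy, z, hz, hxy, hxz, hyz⟩ := two_lt_card.1 h
  simp only [mem_filter, mem_univ, true_and] at hx hy hz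
  exact hg (three hZ hxy hyz hxz hx hy hz)

omit [Fintype G] [DecidableEq G] in
theorem nfix_eq_two_iff {g : G} (hg : g ≠ 1) :
    nfix (Ω := Ω) g = 2 ↔ ∃ c d : Ω, c ≠ d ∧ g • c = c ∧ g • d = d := by
  constructor
  · intro h
    obtain ⟨c, d, hcd, e⟩ := card_eq_two.1 h
    refine ⟨c, d, hcd, ?_, ?_⟩
    · have : c ∈ univ.filter fun x : Ω => g • x = x := e ▸ mem_insert_self c {d}
      exact (mem_filter.1 this).2
    · have : d ∈ univ.filter fun x : Ω => g • x = x := e ▸ mem_insert_of_mem (mem_singleton_self d)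
      exact (mem_filter.1 this).2
  · rintro ⟨c, d, hcd, hc, hd⟩
    refine le_antisymm (nfix_le_two hZ hg) ?_
    rw [← card_pair hcd]
    exact card_le_card fun x hx => by
      simp only [mem_insert, mem_singleton] at hx
      rcases hx with rfl | rfl <;> simp [*]

omit [Fintype G] [DecidableEq G] in
theorem nfix_le_one_fix {g : G} {c d : Ω} (h : nfix (Ω := Ω) g = 1) (hc : g • c = c)
    (hd : g • d = d) : c = d :=
  card_le_one.1 (le_of_eq h) c (by simp [hc]) d (by simp [hd])

/-- Burnside counts. -/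
theorem sum_nfix {a b : Ω} (hab : a ≠ b) :
    ∑ g : G, nfix (Ω := Ω) g = Fintype.card G ∧
      ∑ g : G, nfix (Ω := Ω) g * nfix (Ω := Ω) g = 2 * Fintype.card G := by
  have hG := card_group hZ hab
  have hA : ∀ c : Ω, (univ.filter fun g : G => g • c = c).card =
      (Fintype.card Ω - 1) * Nat.card (two G a b) := by
    intro c
    obtain ⟨d, hd⟩ := exists_other hZ c
    rw [card_two_eq hZ hab hd.symm, ← Nat.card_eq_fintype_card (α := Ω),
      ← card_stabilizer hZ hd.symm, Nat.card_eq_fintype_card, Fintype.card_subtype]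
    rfl
  have hB : ∀ c d : Ω, c ≠ d → (univ.filter fun g : G => g • c = c ∧ g • d = d).card =
      Nat.card (two G a b) := by
    intro c d hcd
    rw [card_two_eq hZ hab hcd]
    exact (Nat.subtype_card _ fun g => by simp [mem_two]).symm
  rw [Nat.card_eq_fintype_card (α := Ω), Nat.card_eq_fintype_card (α := G)] at hG
  have h1 : ∑ g : G, nfix (Ω := Ω) g = ∑ c : Ω, (univ.filter fun g : G => g • c = c).card := by
    simp only [nfix, card_filter]
    exact sum_comm
  have h2 : ∑ g : G, nfix (Ω := Ω) g * nfix (Ω := Ω) g =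
      ∑ p : Ω × Ω, (univ.filter fun g : G => g • p.1 = p.1 ∧ g • p.2 = p.2).card := by
    simp only [nfix, ← card_product, ← filter_product, univ_product_univ]
    simp only [card_filter]
    exact sum_comm
  refine ⟨?_, ?_⟩
  · rw [h1, sum_congr rfl (fun c _ => hA c), sum_const, card_univ, smul_eq_mul, ← hG]
  · rw [h2, ← sum_filter_add_sum_filter_not univ (fun p : Ω × Ω => p.1 = p.2),
      sum_congr rfl (g := fun _ => (Fintype.card Ω - 1) * Nat.card (two G a b)) (fun p hp => by
        rw [← hA p.1]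
        refine congrArg Finset.card (filter_congr fun g _ => ?_)
        rw [← (mem_filter.1 hp).2, and_self]),
      sum_congr rfl (g := fun _ => Nat.card (two G a b))
        (s₁ := univ.filter fun p : Ω × Ω => ¬ p.1 = p.2) (fun p hp => hB _ _ (mem_filter.1 hp).2),
      sum_const, sum_const, smul_eq_mul, smul_eq_mul]
    have e1 : (univ.filter fun p : Ω × Ω => p.1 = p.2).card = Fintype.card Ω := by
      rw [← Finset.card_univ (α := Ω), ← diag_card (s := (univ : Finset Ω))]
      exact congrArg Finset.card (Finset.ext fun p => by simp [mem_diag])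
    have e2 : (univ.filter fun p : Ω × Ω => ¬ p.1 = p.2).card =
        Fintype.card Ω * (Fintype.card Ω - 1) := by
      rw [Nat.mul_sub, mul_one, ← Finset.card_univ (α := Ω), ← offDiag_card]
      exact congrArg Finset.card (by ext p; simp [mem_offDiag])
    rw [e1, e2, hG]
    ring

/-- Numbers of elements with zero, one and two fixed points, in terms of `n = h + 1`. -/
theorem fix_counts {a b : Ω} (hab : a ≠ b) {h j : ℕ} (hh : Fintype.card Ω = h + 1)
    (he : Nat.card (two G a b) = 2 * j + 1) :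
    (univ.filter fun g : G => g ≠ 1 ∧ nfix (Ω := Ω) g = 2).card = (h + 1) * h * j ∧
    (univ.filter fun g : G => g ≠ 1 ∧ nfix (Ω := Ω) g = 1).card + (h + 1) = (h + 1) * h ∧
    (univ.filter fun g : G => g ≠ 1 ∧ nfix (Ω := Ω) g = 0).card = h * ((h + 1) * j + 1) := by
  obtain ⟨hs1, hs2⟩ := sum_nfix hZ hab
  have hG := card_group hZ hab
  rw [Nat.card_eq_fintype_card (α := Ω), Nat.card_eq_fintype_card (α := G), hh,
    Nat.add_sub_cancel, he] at hG
  set N : ℕ → ℕ := fun i => (univ.filter fun g : G => g ≠ 1 ∧ nfix (Ω := Ω) g = i).card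
  have hsplit : ∀ f : ℕ → ℕ, ∑ g : G, f (nfix (Ω := Ω) g) =
      f (h + 1) + (f 0 * N 0 + f 1 * N 1 + f 2 * N 2) := by
    intro f
    rw [← add_sum_erase univ _ (mem_univ (1 : G)), nfix_one, hh]
    congr 1
    rw [← sum_fiberwise_of_maps_to (t := ({0, 1, 2} : Finset ℕ)) (g := nfix (Ω := Ω))
      (fun g hg => by
        have := nfix_le_two hZ (mem_erase.1 hg).1
        simp only [mem_insert, mem_singleton]
        omega)]
    rw [sum_insert (by simp), sum_insert (by simp), sum_singleton, ← add_assoc]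
    have key : ∀ i, ∑ g ∈ (univ.erase (1 : G)).filter (fun g => nfix (Ω := Ω) g = i),
        f (nfix (Ω := Ω) g) = f i * N i := by
      intro i
      rw [sum_congr rfl (g := fun _ => f i) fun g hg => by rw [(mem_filter.1 hg).2], sum_const,
        smul_eq_mul, mul_comm]
      congr 2
      ext g
      simp [mem_erase]
    rw [key, key, key]
  have h1 := hsplit id
  have h2 := hsplit fun i => i * i
  have h0 := hsplit fun _ => 1
  simp only [id, sum_const, card_univ, smul_eq_mul, one_mul, mul_one, zero_mul, zero_add] at h1 h2 h0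
  rw [hs1] at h1
  rw [hs2] at h2
  show N 2 = _ ∧ N 1 + (h + 1) = _ ∧ N 0 = _
  rw [hG] at h0 h1 h2
  refine ⟨?_, ?_, ?_⟩ <;> nlinarith

end

/-! ### Involutions -/

section Involutions

variable (hZ : Cfsg.IsZassenhausGroup G Ω)
  (hodd : ∀ c d : Ω, c ≠ d → Odd (Nat.card (two G c d)))
  (hswap : ∀ c d : Ω, c ≠ d → ∀ s : G, s • c = d → s • d = c → s * s = 1)
include hZ hodd

omit [DecidableEq G] in
theorem invol_not_two {g : G} (hg : g * g = 1) (hg1 : g ≠ 1) {c d : Ω} (hcd : c ≠ d)
    (hc : g • c = c) (hd : g • d = d) : False := by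
  have h1 : orderOf (⟨g, hc, hd⟩ : two G c d) ∣ 2 :=
    orderOf_dvd_of_pow_eq_one (Subtype.ext (by rw [SubmonoidClass.coe_pow, pow_two]; exact hg))
  refine hg1 ?_
  have := Nat.eq_one_of_dvd_coprimes (Nat.coprime_two_left.2 (hodd c d hcd)) h1
    (orderOf_dvd_natCard _)
  exact congrArg Subtype.val (orderOf_eq_one_iff.1 this)

omit [DecidableEq G] in
theorem invol_nfix {g : G} (hg : g * g = 1) (hg1 : g ≠ 1) :
    nfix (Ω := Ω) g = Fintype.card Ω % 2 := by
  have hle : nfix (Ω := Ω) g ≤ 1 := by
    by_contra hc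
    have h2 : nfix (Ω := Ω) g = 2 := le_antisymm (nfix_le_two hZ hg1) (by omega)
    obtain ⟨c, d, hcd, hgc, hgd⟩ := (nfix_eq_two_iff hZ hg1).1 h2
    exact invol_not_two hZ hodd hg hg1 hcd hgc hgd
  have hmod := card_fixedBy_modEq (Ω := Ω) hg
  have e : Nat.card (fixedBy Ω g) = nfix (Ω := Ω) g := by
    rw [Nat.card_eq_fintype_card, Fintype.card_subtype, nfix]
    rfl
  rw [Nat.card_eq_fintype_card (α := Ω)] at hmod
  have h1 : nfix (Ω := Ω) g % 2 = Fintype.card Ω % 2 := by rw [← e]; exact hmod
  omega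

include hswap

omit [DecidableEq Ω] [DecidableEq G] in
/-- All involutions swapping a pair are conjugate, and there are as many as the pair stabiliser has
elements. -/
theorem swappers {c d : Ω} (hcd : c ≠ d) {s : G} (hsc : s • c = d) (hsd : s • d = c) :
    (∀ s' : G, s' • c = d → s' • d = c → IsConj s s') ∧
      ∀ x ∈ two G c d, s * x * s = x⁻¹ := by
  have hs := hswap c d hcd s hsc hsd
  have hinv : ∀ x ∈ two G c d, s * x * s = x⁻¹ := by
    intro x hx
    have h := hswap c d hcd (s * x) (by rw [mul_smul, hx.1, hsc]) (by rw [mul_smul, hx.2, hsd])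
    exact eq_inv_of_mul_eq_one_left (by rw [← h]; group)
  refine ⟨fun s' h1 h2 => ?_, hinv⟩
  have hx : s * s' ∈ two G c d := ⟨by
    show (s * s') • c = c
    rw [mul_smul, h1, hsd], by
    show (s * s') • d = d
    rw [mul_smul, h2, hsc]⟩
  obtain ⟨m, hm⟩ := exists_pow_eq_self_of_coprime (x := (⟨s * s', hx⟩ : two G c d)) (n := 2)
    (Nat.coprime_two_left.2 ((hodd c d hcd).of_dvd_nat (orderOf_dvd_natCard _)))
  set y : G := (s * s') ^ m with hy
  have hy2 : y * y = s * s' := by
    have := congrArg Subtype.val hm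
    simp only [SubmonoidClass.coe_pow] at this
    rw [hy, ← pow_add, ← two_mul, pow_mul, this]
  have hyinv := hinv y (Subgroup.pow_mem _ hx m)
  rw [isConj_iff]
  refine ⟨y⁻¹, ?_⟩
  calc y⁻¹ * s * (y⁻¹)⁻¹ = s * (s * y⁻¹ * s) * y := by
        rw [show s * (s * y⁻¹ * s) * y = (s * s) * y⁻¹ * s * y by group, hs]; group
    _ = s * (y * y) := by
        rw [show s * y⁻¹ * s = y by
          rw [← hyinv, show s * (s * y * s) * s = (s * s) * y * (s * s) by group, hs]; group]
        group
    _ = s' := by rw [hy2, ← mul_assoc, hs, one_mul]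

omit [DecidableEq Ω] [DecidableEq G] in
/-- All involutions are conjugate. -/
theorem invol_conj {x y : G} (hx : x * x = 1) (hx1 : x ≠ 1) (hy : y * y = 1) (hy1 : y ≠ 1) :
    IsConj x y := by
  obtain ⟨a, b, -, hab, -, -⟩ := exists_triple hZ
  have key : ∀ x : G, x * x = 1 → x ≠ 1 →
      ∃ x' : G, IsConj x x' ∧ x' • a = b ∧ x' • b = a := by
    intro x hx hx1
    obtain ⟨c, hc⟩ : ∃ c : Ω, x • c ≠ c := by
      by_contra h
      push Not at h
      exact hx1 (eq_one_of_forall hZ h)
    obtain ⟨k, hk1, hk2⟩ := exists_smul_pair hZ hc.symm hab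
    refine ⟨k * x * k⁻¹, isConj_iff.2 ⟨k, rfl⟩, ?_, ?_⟩
    · rw [mul_smul, mul_smul, inv_smul_eq_iff.2 hk1.symm, hk2]
    · rw [mul_smul, mul_smul, inv_smul_eq_iff.2 hk2.symm, ← mul_smul x x, hx, one_smul, hk1]
  obtain ⟨x', hxx, hxa, hxb⟩ := key x hx hx1
  obtain ⟨y', hyy, hya, hyb⟩ := key y hy hy1
  exact hxx.trans (((swappers hZ hodd hswap hab hxa hxb).1 y' hya hyb).trans hyy.symm)

/-- The involutions moving `c` to `d`. -/
theorem card_invol_swap {a b c d : Ω} (hab : a ≠ b) (hcd : c ≠ d) :
    (univ.filter fun g : G => (g * g = 1 ∧ g ≠ 1) ∧ g • c = d).card = Nat.card (two G a b) := by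
  obtain ⟨s, hs, -, hsc, hsd⟩ := exists_involution_swap hZ hcd
  rw [card_two_eq hZ hab hcd]
  show _ = Nat.card (two G c d)
  rw [show Nat.card (two G c d) = (univ.filter fun g : G => g • c = c ∧ g • d = d).card from
    Nat.subtype_card _ fun g => by simp [mem_two]]
  refine card_bij (fun g _ => s * g) ?_ (fun g _ g' _ e => mul_left_cancel e) ?_
  · intro g hg
    simp only [mem_filter, mem_univ, true_and, mem_two] at hg ⊢
    have hgd : g • d = c := by rw [← hg.2, ← mul_smul, hg.1.1, one_smul]
    exact ⟨by rw [mul_smul, hg.2, hsd], by rw [mul_smul, hgd, hsc]⟩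
  · intro x hx
    simp only [mem_filter, mem_univ, true_and, mem_two] at hx
    have h1 : (s * x) • c = d := by rw [mul_smul, hx.1, hsc]
    have h2 : (s * x) • d = c := by rw [mul_smul, hx.2, hsd]
    refine ⟨s * x, ?_, by rw [← mul_assoc, hs, one_mul]⟩
    simp only [mem_filter, mem_univ, true_and]
    exact ⟨⟨hswap c d hcd _ h1 h2, fun e => hcd (by rw [e, one_smul] at h1; exact h1)⟩, h1⟩

/-- The number of involutions. -/
theorem card_invol {a b : Ω} (hab : a ≠ b) {h e : ℕ} (hh : Fintype.card Ω = h + 1)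
    (he : Nat.card (two G a b) = e) :
    (univ.filter fun g : G => g * g = 1 ∧ g ≠ 1).card = if Even h then e * (h + 1) else e * h := by
  have hn := three_le_card hZ
  rw [Nat.card_eq_fintype_card, hh] at hn
  set I := univ.filter fun g : G => g * g = 1 ∧ g ≠ 1
  have key : I.card * (Fintype.card Ω - Fintype.card Ω % 2) =
      (univ : Finset Ω).offDiag.card * e := by
    refine card_mul_eq_card_mul (fun (g : G) (p : Ω × Ω) => g • p.1 = p.2) ?_ ?_
    · intro g hg
      simp only [I, mem_filter, mem_univ, true_and] at hg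
      rw [← invol_nfix hZ hodd hg.1 hg.2, nfix, ← card_univ]
      have := card_filter_add_card_filter_not (s := (univ : Finset Ω)) (fun c => g • c = c)
      rw [show (univ : Finset Ω).card - (univ.filter fun c : Ω => g • c = c).card =
        (univ.filter fun c : Ω => ¬ g • c = c).card by omega]
      refine card_bij (fun p _ => p.1) ?_ ?_ ?_
      · intro p hp
        simp only [mem_bipartiteAbove, mem_offDiag, mem_univ, true_and] at hp
        simp only [mem_filter, mem_univ, true_and]
        exact fun e' => hp.1 (e'.symm.trans hp.2)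
      · intro p hp q hq e'
        simp only [mem_bipartiteAbove] at hp hq
        exact Prod.ext e' (by rw [← hp.2, ← hq.2, e'])
      · intro c hc
        simp only [mem_filter, mem_univ, true_and] at hc
        refine ⟨(c, g • c), ?_, rfl⟩
        simp only [mem_bipartiteAbove, mem_offDiag, mem_univ, true_and, and_true]
        exact Ne.symm hc
    · intro p hp
      rw [← he, ← card_invol_swap hZ hodd hswap hab (mem_offDiag.1 hp).2.2]
      exact congrArg Finset.card (by ext g; simp [mem_bipartiteBelow, I, and_assoc])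
  rw [offDiag_card, card_univ, hh, ← Nat.mul_sub_one, Nat.add_sub_cancel] at key
  split_ifs with hev
  · obtain ⟨i, rfl⟩ := hev
    rw [show i + i + 1 - (i + i + 1) % 2 = i + i by omega] at key
    exact Nat.eq_of_mul_eq_mul_right (show 0 < i + i by omega) (by rw [key]; ring)
  · rw [Nat.even_iff] at hev
    rw [show h + 1 - (h + 1) % 2 = h + 1 by omega] at key
    exact Nat.eq_of_mul_eq_mul_right (show 0 < h + 1 by omega) (by rw [key]; ring)

/-- For even `h` every point is fixed by exactly `e` involutions. -/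
theorem card_invol_fix {a b : Ω} (hab : a ≠ b) (hn : Odd (Fintype.card Ω)) (c : Ω) :
    (univ.filter fun g : G => (g * g = 1 ∧ g ≠ 1) ∧ g • c = c).card = Nat.card (two G a b) := by
  set I := univ.filter fun g : G => g * g = 1 ∧ g ≠ 1
  have hsum : ∑ d : Ω, (univ.filter fun g : G => (g * g = 1 ∧ g ≠ 1) ∧ g • d = d).card = I.card := by
    simp only [card_filter]
    rw [sum_comm, card_eq_sum_ones, sum_filter]
    refine sum_congr rfl fun g _ => ?_
    rw [← card_filter]
    by_cases hg : g * g = 1 ∧ g ≠ 1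
    · have := invol_nfix hZ hodd hg.1 hg.2
      rw [Nat.odd_iff.1 hn, nfix] at this
      simp [hg, this]
    · simp [hg]
  have hconst : ∀ d : Ω, (univ.filter fun g : G => (g * g = 1 ∧ g ≠ 1) ∧ g • d = d).card =
      (univ.filter fun g : G => (g * g = 1 ∧ g ≠ 1) ∧ g • c = c).card := by
    intro d
    haveI := Zassenhaus.isPretransitive hZ
    obtain ⟨k, rfl⟩ := exists_smul_eq G c d
    refine card_bij (fun g _ => k⁻¹ * g * k) ?_ ?_ ?_
    · intro g hg
      simp only [mem_filter, mem_univ, true_and] at hg ⊢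
      refine ⟨⟨?_, fun e => hg.1.2 ?_⟩, by rw [mul_smul, mul_smul, hg.2, inv_smul_smul]⟩
      · calc k⁻¹ * g * k * (k⁻¹ * g * k) = k⁻¹ * (g * g) * k := by group
          _ = 1 := by rw [hg.1.1]; group
      · calc g = k * (k⁻¹ * g * k) * k⁻¹ := by group
          _ = 1 := by rw [e]; group
    · exact fun g _ g' _ e => mul_left_cancel (mul_right_cancel e)
    · intro g hg
      simp only [mem_filter, mem_univ, true_and] at hg
      refine ⟨k * g * k⁻¹, ?_, by group⟩
      simp only [mem_filter, mem_univ, true_and]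
      refine ⟨⟨?_, fun e => hg.1.2 (conj_eq_one_iff.1 e)⟩,
        by rw [mul_smul, mul_smul, inv_smul_smul, hg.2]⟩
      calc k * g * k⁻¹ * (k * g * k⁻¹) = k * (g * g) * k⁻¹ := by group
        _ = 1 := by rw [hg.1.1]; group
  rw [sum_congr rfl fun d _ => hconst d, sum_const, card_univ, smul_eq_mul] at hsum
  obtain ⟨h, hh⟩ : ∃ h, Fintype.card Ω = h + 1 :=
    ⟨_, (Nat.sub_add_cancel (Fintype.card_pos_iff.2 ⟨c⟩)).symm⟩
  rw [card_invol hZ hodd hswap hab hh rfl, if_pos (by
    rw [hh, Nat.odd_iff] at hn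
    exact Nat.even_iff.2 (by omega)), hh] at hsum
  exact Nat.eq_of_mul_eq_mul_left (show 0 < h + 1 by omega) (by rw [hsum]; ring)

end Involutions

end Cfsg.Agent.Feit
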