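import Mathlib
import Cfsg.Agent.Lib.FeitSimple
import Cfsg.Agent.Lib.FeitCount

/-!
The kernel of a point stabiliser of a Zassenhaus group: nilpotency, involutions.
-/

set_option autoImplicit false

namespace Cfsg.Agent.Feit

open MulAction Zassenhaus

variable {G Ω : Type*} [Group G] [Finite G] [MulAction G Ω] [Finite Ω]
variable (hZ : Cfsg.IsZassenhausGroup G Ω) {a : Ω} {H : Subgroup G} (hHa : H ≤ stabilizer G a)
  (hHcard : Nat.card H + 1 = Nat.card Ω)
  (hHfix : ∀ u ∈ H, u ≠ 1 → ∀ c : Ω, u • c = c → c = a)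
include hZ hHa hHcard hHfix

theorem kernel_nilpotent : Group.IsNilpotent H := by
  set A := stabilizer G a
  set K := H.subgroupOf A
  obtain ⟨b, hb⟩ := exists_other hZ a
  set E := (two G a b).subgroupOf A
  haveI hKn : K.Normal := ⟨fun k hk g => kernel_conj_mem hZ hHa hHcard hHfix g.2 hk⟩
  have hE : E ≠ ⊥ := by
    obtain ⟨x, hx, hx1⟩ := two_ne_bot hZ hb.symm
    intro e
    have hm : (⟨x, hx.1⟩ : A) ∈ E := hx
    rw [e, Subgroup.mem_bot] at hm
    exact hx1 (congrArg Subtype.val hm)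
  have h := FrobeniusNilpotent.isNilpotent_of_complement (K := K) (H := E) hE fun x hx hx1 => by
    rw [eq_bot_iff]
    rintro u ⟨hu, hu'⟩
    have hu'' := Subgroup.mem_centralizer_singleton_iff.1 hu'
    exact Subgroup.mem_bot.2 (Subtype.ext (kernel_fpf hZ hHa hHcard hHfix hb.symm hu hx
      (fun e => hx1 (Subtype.ext e)) (congrArg Subtype.val hu'').symm))
  exact Group.nilpotent_of_mulEquiv (Subgroup.subgroupOfEquivOfLe hHa)

/-- For odd degree the involutions of the kernel are central. -/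
theorem invol_central {b : Ω} (hab : a ≠ b) (hodd : ∀ c d : Ω, c ≠ d → Odd (Nat.card (two G c d)))
    (hswap : ∀ c d : Ω, c ≠ d → ∀ s : G, s • c = d → s • d = c → s * s = 1)
    (hn : Odd (Nat.card Ω)) {x : G} (hx : x * x = 1) (hxa : x • a = a) :
    x ∈ H ∧ ∀ u ∈ H, x * u = u * x := by
  classical
  haveI := Fintype.ofFinite G
  haveI := Fintype.ofFinite Ω
  rcases eq_or_ne x 1 with rfl | hx1
  · exact ⟨H.one_mem, fun u _ => by simp⟩
  rw [Nat.card_eq_fintype_card] at hn
  have hinH : ∀ y : G, y * y = 1 → y ≠ 1 → y • a = a → y ∈ H := by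
    intro y hy hy1 hya
    refine (kernel_mem_iff hZ hHa hHcard hHfix y).2 ⟨hya, Or.inr fun c hc => ?_⟩
    have h1 := invol_nfix hZ hodd hy hy1
    rw [Nat.odd_iff.1 hn] at h1
    exact nfix_le_one_fix hZ h1 hc hya
  refine ⟨hinH x hx hx1 hxa, ?_⟩
  -- a central involution of `H`
  haveI := kernel_nilpotent hZ hHa hHcard hHfix
  haveI : Fact (Nat.Prime 2) := ⟨Nat.prime_two⟩
  have h2H : 2 ∣ Nat.card H := orderOf_eq_prime (p := 2) (x := (⟨x, hinH x hx hx1 hxa⟩ : H))
    (Subtype.ext (by rw [SubmonoidClass.coe_pow, pow_two]; exact hx))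
    (fun e => hx1 (congrArg Subtype.val e)) ▸ orderOf_dvd_natCard _
  obtain ⟨P⟩ : Nonempty (Sylow 2 H) := inferInstance
  haveI : Nontrivial P := (Subgroup.nontrivial_iff_ne_bot _).2 (P.ne_bot_of_dvd_card h2H)
  haveI := P.isPGroup'.center_nontrivial
  obtain ⟨w, hw⟩ := exists_prime_orderOf_dvd_card' (G := Subgroup.center P) 2 (by
    obtain ⟨k, hk⟩ := (P.isPGroup'.to_subgroup (Subgroup.center P)).exists_card_eq
    rcases k with _ | k
    · rw [pow_zero] at hk
      exact absurd hk (Finite.one_lt_card (α := Subgroup.center P)).ne'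
    · rw [hk, pow_succ]
      exact dvd_mul_left 2 _)
  set z : H := ((w : P) : H) with hzdef
  have hzo : orderOf z = 2 := by
    rw [hzdef, Subgroup.orderOf_coe, Subgroup.orderOf_coe, hw]
  have hzc : ∀ u : H, z * u = u * z := by
    intro u
    obtain ⟨k, m, hm, hkm⟩ := Nat.exists_eq_two_pow_mul_odd (n := orderOf u) (orderOf_pos u).ne'
    have hcop : Nat.Coprime (2 ^ k) m := (Nat.coprime_two_left.2 hm).pow_left k
    -- the odd part commutes by coprimality, the even part lies in `P`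
    have h1 : Commute z (u ^ (2 ^ k)) := FrobeniusNilpotent.commute_of_coprime _ _ (by
      rw [hzo, orderOf_pow' _ (by positivity), hkm, Nat.gcd_mul_right_left,
        Nat.mul_div_cancel_left _ (by positivity)]
      exact Nat.coprime_two_left.2 hm)
    have h2 : Commute z (u ^ m) := by
      have hmP : u ^ m ∈ (P : Subgroup H) := by
        have hPn : (P : Subgroup H).Normal :=
          Sylow.normal_of_normalizerCondition Group.normalizerCondition_of_isNilpotent P
        have hp : IsPGroup 2 (Subgroup.zpowers (u ^ m)) := by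
          have hd : orderOf (u ^ m) ∣ 2 ^ k := orderOf_dvd_of_pow_eq_one (by
            rw [← pow_mul, mul_comm, ← hkm, pow_orderOf_eq_one])
          obtain ⟨i, -, hi⟩ := (Nat.dvd_prime_pow Nat.prime_two).1 hd
          exact IsPGroup.of_card (by rw [Nat.card_zpowers, hi])
        have := P.is_maximal' (hp.to_sup_of_normal_right P.isPGroup') le_sup_right
        exact this ▸ Subgroup.mem_sup_left (Subgroup.mem_zpowers _)
      exact (congrArg Subtype.val (Subgroup.mem_center_iff.1 w.2 ⟨_, hmP⟩)).symm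
    obtain ⟨i, j, hij⟩ := Int.isCoprime_iff_gcd_eq_one.2
      (by exact_mod_cast hcop : Int.gcd ((2 ^ k : ℕ) : ℤ) (m : ℤ) = 1)
    have hu : u = (u ^ (2 ^ k)) ^ i * (u ^ m) ^ j := by
      rw [← zpow_natCast u (2 ^ k), ← zpow_natCast u m, ← zpow_mul, ← zpow_mul, ← zpow_add,
        mul_comm ((2 ^ k : ℕ) : ℤ) i, mul_comm (m : ℤ) j, hij, zpow_one]
    rw [hu]
    exact ((h1.zpow_right i).mul_right (h2.zpow_right j)).eq
  -- its conjugates under the two-point stabiliser are all the involutions fixing `a`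
  set I := Finset.univ.filter fun g : G => (g * g = 1 ∧ g ≠ 1) ∧ g • a = a
  have hI : I.card = Nat.card (two G a b) := card_invol_fix hZ hodd hswap hab hn a
  have hz2 : (z : G) * z = 1 := by
    rw [← pow_two, ← hzo, ← Subgroup.orderOf_coe, pow_orderOf_eq_one]
  have hz1 : (z : G) ≠ 1 := fun e => by
    have h1 : orderOf z = 1 := by rw [← Subgroup.orderOf_coe, e, orderOf_one]
    omega
  let f : two G a b → I := fun k => ⟨(k : G) * z * (k : G)⁻¹, by
    simp only [I, Finset.mem_filter, Finset.mem_univ, true_and]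
    exact ⟨⟨by rw [show (k : G) * z * (k : G)⁻¹ * ((k : G) * z * (k : G)⁻¹) =
        (k : G) * (z * z) * (k : G)⁻¹ by group, hz2]; group,
      fun e => hz1 (conj_eq_one_iff.1 e)⟩,
      hHa (kernel_conj_mem hZ hHa hHcard hHfix k.2.1 z.2)⟩⟩
  have hinj : Function.Injective f := by
    intro k l e
    have e' : (k : G) * z * (k : G)⁻¹ = (l : G) * z * (l : G)⁻¹ := congrArg Subtype.val e
    have hm : (l : G)⁻¹ * k ∈ two G a b := Subgroup.mul_mem _ (Subgroup.inv_mem _ l.2) k.2
    by_contra hne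
    refine hz1 (kernel_fpf hZ hHa hHcard hHfix hab z.2 hm
      (fun h => hne (Subtype.ext (inv_mul_eq_one.1 h).symm)) ?_)
    calc (l : G)⁻¹ * k * z = (l : G)⁻¹ * ((k : G) * z * (k : G)⁻¹) * k := by group
      _ = (z : G) * ((l : G)⁻¹ * k) := by rw [e']; group
  obtain ⟨k, hk⟩ := ((Nat.bijective_iff_injective_and_card f).2 ⟨hinj, by simp [hI]⟩).2
    ⟨x, by simp [I, hx, hx1, hxa]⟩
  have hk' : (k : G) * z * (k : G)⁻¹ = x := congrArg Subtype.val hk
  intro u hu
  have hu' : (k : G)⁻¹ * u * k ∈ H := by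
    have := kernel_conj_mem hZ hHa hHcard hHfix (g := (k : G)⁻¹)
      (inv_smul_eq_iff.2 k.2.1.symm) hu
    simpa using this
  have hc : (z : G) * ((k : G)⁻¹ * u * k) = (k : G)⁻¹ * u * k * z :=
    congrArg Subtype.val (hzc ⟨_, hu'⟩)
  rw [← hk']
  calc (k : G) * z * (k : G)⁻¹ * u = (k : G) * (z * ((k : G)⁻¹ * u * k)) * (k : G)⁻¹ := by group
    _ = u * ((k : G) * z * (k : G)⁻¹) := by rw [hc]; group

end Cfsg.Agent.Feit
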