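import Mathlib
import Cfsg.Agent.Lib.CharBasicLinear
import Cfsg.Agent.Lib.CharAverage
import Cfsg.Agent.Lib.HallNilpotentConj

/-!
Irreducible characters of a direct product, and the splitting of a finite nilpotent group at a prime.
-/

set_option autoImplicit false

namespace Cfsg.Agent.FeitProduct

open Cfsg Finset
open scoped ComplexConjugate
open CharBasic CharBasicOrth CharBasicDecomp

universe u v

variable {H : Type u} {R Q : Type v} [Group H] [Group R] [Group Q] (ε : H ≃* R × Q)

/-- The product of a function on each factor. -/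
def tens (α : R → ℂ) (β : Q → ℂ) : H → ℂ := fun x => α (ε x).1 * β (ε x).2

theorem tens_one (α : R → ℂ) (β : Q → ℂ) : tens ε α β 1 = α 1 * β 1 := by simp [tens]

theorem isCharacter_tens {α : R → ℂ} {β : Q → ℂ} (hα : Cfsg.IsCharacter R α)
    (hβ : Cfsg.IsCharacter Q β) : Cfsg.IsCharacter H (tens ε α β) :=
  isCharacter_mul
    (isCharacter_comap ((MonoidHom.fst R Q).comp ε.toMonoidHom) hα)
    (isCharacter_comap ((MonoidHom.snd R Q).comp ε.toMonoidHom) hβ)

theorem inner_tens [Fintype H] [Fintype R] [Fintype Q] (α α' : R → ℂ) (β β' : Q → ℂ) :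
    Cfsg.classInner (tens ε α β) (tens ε α' β') =
      Cfsg.classInner α α' * Cfsg.classInner β β' := by
  rw [show tens ε α β = (fun p : R × Q => α p.1 * β p.2) ∘ ε from rfl,
    show tens ε α' β' = (fun p : R × Q => α' p.1 * β' p.2) ∘ ε from rfl, classInner_congr_equiv]
  simp only [Cfsg.classInner, Fintype.sum_prod_type, Nat.card_prod, Nat.cast_mul, mul_inv]
  rw [mul_mul_mul_comm _ (∑ r : R, _), Finset.sum_mul_sum]
  congr 1
  exact Finset.sum_congr rfl fun r _ => Finset.sum_congr rfl fun q _ => by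
    simp only [map_mul]
    ring

theorem isIrr_tens [Finite H] [Finite R] [Finite Q] (α : Cfsg.IrrCharacter R)
    (β : Cfsg.IrrCharacter Q) : Cfsg.IsIrrCharacter H (tens ε (α : R → ℂ) (β : Q → ℂ)) := by
  haveI := Fintype.ofFinite H
  haveI := Fintype.ofFinite R
  haveI := Fintype.ofFinite Q
  rw [isIrrCharacter_iff]
  exact ⟨isCharacter_tens ε (isCharacter_of_isIrrCharacter α.2) (isCharacter_of_isIrrCharacter β.2),
    by rw [inner_tens, classInner_irr_self α.2, classInner_irr_self β.2, mul_one]⟩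

/-- The product of two irreducible characters. -/
def tensIrr [Finite H] [Finite R] [Finite Q] (p : Cfsg.IrrCharacter R × Cfsg.IrrCharacter Q) :
    Cfsg.IrrCharacter H :=
  ⟨tens ε (p.1 : R → ℂ) (p.2 : Q → ℂ), isIrr_tens ε p.1 p.2⟩

theorem deg_tensIrr [Finite H] [Finite R] [Finite Q]
    (p : Cfsg.IrrCharacter R × Cfsg.IrrCharacter Q) :
    Cfsg.charDegree ((tensIrr ε p : Cfsg.IrrCharacter H) : H → ℂ) =
      Cfsg.charDegree (p.1 : R → ℂ) * Cfsg.charDegree (p.2 : Q → ℂ) := by
  have h : ((Cfsg.charDegree ((tensIrr ε p : Cfsg.IrrCharacter H) : H → ℂ) : ℕ) : ℂ) =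
      ((Cfsg.charDegree (p.1 : R → ℂ) * Cfsg.charDegree (p.2 : Q → ℂ) : ℕ) : ℂ) := by
    rw [Nat.cast_mul, ← CharAverage.irr_apply_one, ← CharAverage.irr_apply_one,
      ← CharAverage.irr_apply_one]
    exact tens_one ε _ _
  exact_mod_cast h

theorem tensIrr_bijective [Finite H] [Finite R] [Finite Q] :
    Function.Bijective (tensIrr ε) := by
  classical
  haveI := Fintype.ofFinite H
  haveI := Fintype.ofFinite R
  haveI := Fintype.ofFinite Q
  have hinj : Function.Injective (tensIrr ε) := by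
    intro p q hpq
    have h1 := inner_tens ε (p.1 : R → ℂ) (q.1 : R → ℂ) (p.2 : Q → ℂ) (q.2 : Q → ℂ)
    rw [show tens ε (p.1 : R → ℂ) (p.2 : Q → ℂ) = tens ε (q.1 : R → ℂ) (q.2 : Q → ℂ) from
      congrArg Subtype.val hpq, classInner_irr_self (isIrr_tens ε q.1 q.2),
      classInner_irrCharacter, classInner_irrCharacter] at h1
    refine Prod.ext ?_ ?_ <;> by_contra hne <;> simp [hne] at h1
  refine ⟨hinj, fun χ => ?_⟩
  by_contra hc
  push Not at hc
  have hH := sum_sq_apply_one (G := H)
  have hR := sum_sq_apply_one (G := R)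
  have hQ := sum_sq_apply_one (G := Q)
  have hlt : ∑ φ ∈ Finset.univ.image (tensIrr ε), Cfsg.charDegree (φ : H → ℂ) ^ 2 <
      ∑ φ : Cfsg.IrrCharacter H, Cfsg.charDegree (φ : H → ℂ) ^ 2 :=
    Finset.sum_lt_sum_of_subset (Finset.subset_univ _) (Finset.mem_univ χ)
      (fun h => by obtain ⟨p, -, hp⟩ := Finset.mem_image.1 h; exact hc p hp)
      (pow_pos (CharAverage.irr_degree_pos χ) 2) (fun _ _ _ => Nat.zero_le _)
  rw [Finset.sum_image hinj.injOn] at hlt
  simp only [CharAverage.irr_apply_one] at hH hR hQ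
  norm_cast at hH hR hQ
  simp only [deg_tensIrr, mul_pow, Fintype.sum_prod_type, ← Finset.mul_sum, ← Finset.sum_mul] at hlt
  rw [hR, hQ, hH, ← Nat.card_prod, ← Nat.card_congr ε.toEquiv] at hlt
  exact lt_irrefl _ hlt

/-- A finite nilpotent group is the product of its Sylow subgroup and a `p'`-group. -/
theorem exists_equiv [Finite H] [Group.IsNilpotent H] (p : ℕ) [hp : Fact p.Prime] :
    ∃ (A B : Subgroup H) (_ : H ≃* A × B), IsPGroup p A ∧ (Nat.card B).Coprime p ∧
      Nat.card A * Nat.card B = Nat.card H := by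
  haveI : Group.IsNilpotent (⊤ : Subgroup H) :=
    Group.nilpotent_of_mulEquiv Subgroup.topEquiv.symm
  obtain ⟨A, B, hA, -, hBc, hB, hcard, -⟩ := HallNilpotentConj.exists_split (⊤ : Subgroup H) p
  rw [Subgroup.card_top] at hcard
  have hcop : (Nat.card A).Coprime (Nat.card B) := by
    obtain ⟨k, hk⟩ := hA.exists_card_eq
    rw [hk]
    exact (hB.symm).pow_left k
  let f : A × B →* H :=
    { toFun := fun x => (x.1 : H) * x.2
      map_one' := by simp
      map_mul' := fun x y => by
        have hc : (y.1 : H) * x.2 = x.2 * y.1 :=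
          Subgroup.mem_centralizer_iff.1 (hBc x.2.2) y.1 y.1.2
        simp only [Prod.fst_mul, Prod.snd_mul, Subgroup.coe_mul]
        rw [mul_assoc, ← mul_assoc (y.1 : H), hc]
        group }
  have hinj : Function.Injective f := by
    rw [injective_iff_map_eq_one]
    intro x hx
    have hmem : (x.1 : H) ∈ A ⊓ B := ⟨x.1.2, by
      rw [show (x.1 : H) = (x.2 : H)⁻¹ from eq_inv_of_mul_eq_one_left hx]
      exact B.inv_mem x.2.2⟩
    rw [Subgroup.inf_eq_bot_of_coprime hcop, Subgroup.mem_bot] at hmem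
    refine Prod.ext (Subtype.ext hmem) (Subtype.ext ?_)
    have hx' : (x.1 : H) * x.2 = 1 := hx
    rw [hmem, one_mul] at hx'
    exact hx'
  have hbij : Function.Bijective f := (Nat.bijective_iff_injective_and_card f).2
    ⟨hinj, by rw [Nat.card_prod, hcard]⟩
  exact ⟨A, B, (MulEquiv.ofBijective f hbij).symm, hA, hB, hcard⟩

end Cfsg.Agent.FeitProduct
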