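import Mathlib
import Cfsg.Agent.Lib.FeitExceptional
import Cfsg.Agent.Lib.FeitKernel
import Cfsg.Agent.Lib.FeitProduct

/-!
Zassenhaus groups with two-point stabilisers of odd order: degrees of the characters of the kernel.
-/

set_option autoImplicit false

namespace Cfsg.Agent.Feit

open MulAction Zassenhaus Finset Cfsg
open scoped ComplexConjugate
open CharBasic CharBasicOrth CharBasicDecomp

universe u v

variable {G : Type u} {Ω : Type v} [Group G] [MulAction G Ω]

/-- The degree of a character of `H`. -/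
noncomputable abbrev dg {H : Type u} [Group H] (φ : Cfsg.IrrCharacter H) : ℕ :=
  Cfsg.charDegree (φ : H → ℂ)

theorem dg_eq_one_iff {H : Type u} [Group H] (φ : Cfsg.IrrCharacter H) :
    dg φ = 1 ↔ (φ : H → ℂ) 1 = 1 := by
  rw [CharAverage.irr_apply_one]
  exact Nat.cast_eq_one.symm

theorem dg_triv {H : Type u} [Group H] : dg (trivIrr H) = 1 :=
  (dg_eq_one_iff _).2 rfl

theorem card_dg_one {H : Type u} [Group H] [Finite H]
    [DecidablePred fun φ : Cfsg.IrrCharacter H => dg φ = 1] :
    (Finset.univ.filter fun φ : Cfsg.IrrCharacter H => dg φ = 1).card =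
      (_root_.commutator H).index := by
  rw [← CharBasicLinear.card_linear]
  exact (Nat.subtype_card _ fun φ => by simp [← dg_eq_one_iff]).symm

theorem sum_dg_sq {H : Type u} [Group H] [Finite H] :
    ∑ φ : Cfsg.IrrCharacter H, dg φ * dg φ = Nat.card H := by
  have h1 := sum_sq_apply_one (G := H)
  simp only [CharAverage.irr_apply_one, pow_two] at h1
  exact_mod_cast h1

theorem two_le_index_commutator {H : Type u} [Group H] [Finite H] [Group.IsNilpotent H]
    [Nontrivial H] : 2 ≤ (_root_.commutator H).index :=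
  Subgroup.one_lt_index_of_ne_top (IsSolvable.commutator_lt_top_of_nontrivial H).ne

variable [Fintype G] [Fintype Ω] {a b : Ω} {H : Subgroup G} {h e j : ℕ}
variable (S : Sim a b H h e j)
include S

namespace Sim

theorem nilpotent : Group.IsNilpotent H := kernel_nilpotent S.hZ S.hHa S.hHcard S.hfix

theorem nontrivial_H : Nontrivial H := kernel_nontrivial S.hZ S.hHa S.hHcard S.hfix

theorem e_dvd : e ∣ h - 1 := by
  have := card_two_dvd S.hZ S.hHa S.hHcard S.hfix S.hab
  rw [S.he, S.hΩ] at this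
  rwa [show h + 1 - 2 = h - 1 by omega] at this

theorem rel_trans [Fintype H] {φ ψ χ : Cfsg.IrrCharacter H} (h1 : Rel a H φ ψ)
    (h2 : Rel a H ψ χ) : Rel a H φ χ := by
  obtain ⟨x, hx, ex⟩ := h1
  obtain ⟨y, hy, ey⟩ := h2
  exact ⟨x * y, by rw [mul_smul, hy, hx], by rw [← S.cj_cj hx hy, ey, ex]⟩

theorem dvd_card_stable [Fintype H] (s : Finset (Cfsg.IrrCharacter H)) (hs0 : trivIrr H ∉ s)
    (hs : ∀ φ ∈ s, ∀ ψ, Rel a H ψ φ → ψ ∈ s) : e ∣ s.card := by
  classical
  let O : Cfsg.IrrCharacter H → Finset (Cfsg.IrrCharacter H) := fun φ =>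
    Finset.univ.filter fun ψ => Rel a H ψ φ
  rw [Finset.card_eq_sum_card_image O]
  refine Finset.dvd_sum fun o ho => ?_
  obtain ⟨φ, hφ, rfl⟩ := Finset.mem_image.1 ho
  rw [show s.filter (fun ψ => O ψ = O φ) = O φ from ?_, S.card_orbit (fun e' => hs0 (e' ▸ hφ))]
  ext ψ
  simp only [O, mem_filter, mem_univ, true_and]
  constructor
  · rintro ⟨-, e'⟩
    have : ψ ∈ Finset.univ.filter fun χ => Rel a H χ ψ := mem_filter.2 ⟨mem_univ _, S.rel_refl ψ⟩
    rw [e'] at this
    exact (mem_filter.1 this).2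
  · intro hr
    refine ⟨hs φ hφ ψ hr, ?_⟩
    ext χ
    simp only [mem_filter, mem_univ, true_and]
    exact ⟨fun h1 => S.rel_trans h1 hr, fun h1 => S.rel_trans h1 (S.rel_symm hr)⟩

/-- Non-trivial linear characters killing a stable set of elements. -/
theorem dvd_card_linear [Fintype H] (P : H → Prop)
    (hP : ∀ (x : G) (hx : x • a = a) (u : H), P u → P ⟨x⁻¹ * u * x, S.conj_mem hx u.2⟩)
    [DecidablePred fun φ : Cfsg.IrrCharacter H =>
      φ ≠ trivIrr H ∧ dg φ = 1 ∧ ∀ u, P u → (φ : H → ℂ) u = 1] :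
    e ∣ (Finset.univ.filter fun φ : Cfsg.IrrCharacter H =>
      φ ≠ trivIrr H ∧ dg φ = 1 ∧ ∀ u, P u → (φ : H → ℂ) u = 1).card := by
  refine S.dvd_card_stable _ (by simp) fun φ hφ ψ hr => ?_
  simp only [mem_filter, mem_univ, true_and] at hφ ⊢
  refine ⟨fun e' => hφ.1 (S.rel_triv (e' ▸ S.rel_symm hr)), (S.rel_deg hr).trans hφ.2.1, ?_⟩
  intro u hu
  obtain ⟨x, hx, ex⟩ := hr
  rw [← ex, S.cj_apply hx]
  exact hφ.2.2 _ (hP x hx u hu)

theorem index_commutator [Fintype H] :
    e ∣ (_root_.commutator H).index - 1 ∧ 2 ≤ (_root_.commutator H).index := by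
  classical
  haveI := S.nilpotent
  haveI := S.nontrivial_H
  refine ⟨?_, two_le_index_commutator⟩
  have h1 := S.dvd_card_linear (fun _ => False) (fun _ _ _ hu => hu)
  rw [show (Finset.univ.filter fun φ : Cfsg.IrrCharacter H =>
      φ ≠ trivIrr H ∧ dg φ = 1 ∧ ∀ u, False → (φ : H → ℂ) u = 1) =
      (Finset.univ.filter fun φ : Cfsg.IrrCharacter H => dg φ = 1).erase (trivIrr H) by
    ext φ; simp, Finset.card_erase_of_mem (by simp [dg_triv]), card_dg_one] at h1
  exact h1

/-- Splitting at a prime when the kernel is not a group of prime power order. -/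
theorem split [Fintype H] {p : ℕ} [Fact p.Prime] (hp : p ∣ h) (hnp : ¬ IsPGroup p H) :
    ∃ (A B : Subgroup H) (ε : H ≃* A × B), IsPGroup p A ∧ (Nat.card B).Coprime p ∧
      e + 1 ≤ (_root_.commutator A).index ∧ e + 1 ≤ (_root_.commutator B).index := by
  classical
  haveI := S.nilpotent
  obtain ⟨A, B, ε, hA, hB, hcard⟩ := FeitProduct.exists_equiv (H := H) p
  rw [S.hH] at hcard
  obtain ⟨k, hk⟩ := hA.exists_card_eq
  have hcop : (Nat.card A).Coprime (Nat.card B) := by rw [hk]; exact hB.symm.pow_left k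
  have hAnt : Nontrivial A := by
    rw [← Finite.one_lt_card_iff_nontrivial]
    by_contra hc
    have h1 : Nat.card A = 1 := le_antisymm (by omega) Nat.card_pos
    rw [h1, one_mul] at hcard
    exact (Nat.Prime.coprime_iff_not_dvd (Fact.out : p.Prime)).1 hB.symm (hcard ▸ hp)
  have hBnt : Nontrivial B := by
    rw [← Finite.one_lt_card_iff_nontrivial]
    by_contra hc
    have h1 : Nat.card B = 1 := le_antisymm (by omega) Nat.card_pos
    rw [h1, mul_one, hk] at hcard
    exact hnp (IsPGroup.of_card (n := k) (S.hH.trans hcard.symm))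
  haveI : Group.IsNilpotent A := inferInstance
  haveI : Group.IsNilpotent B := inferInstance
  have hdeg : ∀ q : Cfsg.IrrCharacter A × Cfsg.IrrCharacter B,
      dg (FeitProduct.tensIrr ε q) = dg q.1 * dg q.2 := fun q => FeitProduct.deg_tensIrr ε q
  have htt : FeitProduct.tensIrr ε (trivIrr A, trivIrr B) = trivIrr H :=
    Subtype.ext (funext fun u => by simp [FeitProduct.tensIrr, FeitProduct.tens, trivIrr])
  have hconj : ∀ (x : G) (hx : x • a = a) (u : H),
      orderOf (⟨x⁻¹ * u * x, S.conj_mem hx u.2⟩ : H) = orderOf u := by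
    intro x hx u
    rw [← Subgroup.orderOf_coe, ← Subgroup.orderOf_coe]
    have := orderOf_injective (MulAut.conj x⁻¹).toMonoidHom (MulAut.conj x⁻¹).injective (u : G)
    simpa using this
  have key : ∀ P : H → Prop, (∀ (x : G) (hx : x • a = a) (u : H), P u →
      P ⟨x⁻¹ * u * x, S.conj_mem hx u.2⟩) →
      ((∀ u, P u → (ε u).1 = 1) → (∀ q : B, P (ε.symm (1, q))) →
        e ∣ (_root_.commutator A).index - 1) ∧
      ((∀ u, P u → (ε u).2 = 1) → (∀ r : A, P (ε.symm (r, 1))) →
        e ∣ (_root_.commutator B).index - 1) := by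
    intro P hP
    have hd := S.dvd_card_linear P hP
    constructor
    · intro h1 h2
      rw [show (Finset.univ.filter fun φ : Cfsg.IrrCharacter H =>
          φ ≠ trivIrr H ∧ dg φ = 1 ∧ ∀ u, P u → (φ : H → ℂ) u = 1) =
          ((Finset.univ.filter fun α : Cfsg.IrrCharacter A => dg α = 1).erase (trivIrr A)).image
            (fun α => FeitProduct.tensIrr ε (α, trivIrr B)) from ?_,
        Finset.card_image_of_injective _ (fun p q e' =>
          congrArg Prod.fst ((FeitProduct.tensIrr_bijective ε).1 e')),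
        Finset.card_erase_of_mem (by simp [dg_triv]), card_dg_one] at hd
      · exact hd
      ext φ
      obtain ⟨⟨α, β⟩, rfl⟩ := (FeitProduct.tensIrr_bijective ε).2 φ
      simp only [mem_filter, mem_univ, true_and, mem_image, mem_erase]
      constructor
      · rintro ⟨hne, h3, hk'⟩
        rw [hdeg] at h3
        obtain ⟨hα1, -⟩ := mul_eq_one.1 h3
        have hβ : β = trivIrr B := by
          refine Subtype.ext (funext fun q => ?_)
          have := hk' _ (h2 q)
          simp only [FeitProduct.tensIrr, FeitProduct.tens, MulEquiv.apply_symm_apply] at this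
          rwa [(dg_eq_one_iff α).1 hα1, one_mul] at this
        subst hβ
        exact ⟨α, ⟨fun e' => hne (by rw [e', htt]), hα1⟩, rfl⟩
      · rintro ⟨α', ⟨hne, hα1⟩, e'⟩
        obtain ⟨rfl, rfl⟩ := Prod.ext_iff.1 ((FeitProduct.tensIrr_bijective ε).1 e')
        refine ⟨fun e'' => hne (congrArg Prod.fst
          ((FeitProduct.tensIrr_bijective ε).1 (e''.trans htt.symm))),
          by rw [hdeg, hα1, dg_triv], fun u hu => ?_⟩
        simp only [FeitProduct.tensIrr, FeitProduct.tens, h1 u hu, (dg_eq_one_iff α').1 hα1]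
        simp [trivIrr]
    · intro h1 h2
      rw [show (Finset.univ.filter fun φ : Cfsg.IrrCharacter H =>
          φ ≠ trivIrr H ∧ dg φ = 1 ∧ ∀ u, P u → (φ : H → ℂ) u = 1) =
          ((Finset.univ.filter fun β : Cfsg.IrrCharacter B => dg β = 1).erase (trivIrr B)).image
            (fun β => FeitProduct.tensIrr ε (trivIrr A, β)) from ?_,
        Finset.card_image_of_injective _ (fun p q e' =>
          congrArg Prod.snd ((FeitProduct.tensIrr_bijective ε).1 e')),
        Finset.card_erase_of_mem (by simp [dg_triv]), card_dg_one] at hd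
      · exact hd
      ext φ
      obtain ⟨⟨α, β⟩, rfl⟩ := (FeitProduct.tensIrr_bijective ε).2 φ
      simp only [mem_filter, mem_univ, true_and, mem_image, mem_erase]
      constructor
      · rintro ⟨hne, h3, hk'⟩
        rw [hdeg] at h3
        obtain ⟨-, hβ1⟩ := mul_eq_one.1 h3
        have hα : α = trivIrr A := by
          refine Subtype.ext (funext fun r => ?_)
          have := hk' _ (h2 r)
          simp only [FeitProduct.tensIrr, FeitProduct.tens, MulEquiv.apply_symm_apply] at this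
          rwa [(dg_eq_one_iff β).1 hβ1, mul_one] at this
        subst hα
        exact ⟨β, ⟨fun e' => hne (by rw [e', htt]), hβ1⟩, rfl⟩
      · rintro ⟨β', ⟨hne, hβ1⟩, e'⟩
        obtain ⟨rfl, rfl⟩ := Prod.ext_iff.1 ((FeitProduct.tensIrr_bijective ε).1 e')
        refine ⟨fun e'' => hne (congrArg Prod.snd
          ((FeitProduct.tensIrr_bijective ε).1 (e''.trans htt.symm))),
          by rw [hdeg, hβ1, dg_triv], fun u hu => ?_⟩
        simp only [FeitProduct.tensIrr, FeitProduct.tens, h1 u hu, (dg_eq_one_iff β').1 hβ1]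
        simp [trivIrr]
  refine ⟨A, B, ε, hA, hB, ?_, ?_⟩
  · have hd := (key (fun u => (orderOf u).Coprime p) fun x hx u hu => by
      show Nat.Coprime _ p
      rw [hconj x hx u]; exact hu).1
      (fun u hu => orderOf_eq_one_iff.1 (Nat.eq_one_of_dvd_coprimes
        (show (p ^ k).Coprime (orderOf u) from (Nat.Coprime.pow_left k hu.symm))
        (hk ▸ orderOf_dvd_natCard (ε u).1)
        (orderOf_map_dvd ((MonoidHom.fst A B).comp ε.toMonoidHom) u)))
      (fun q => hB.coprime_dvd_left (by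
        rw [MulEquiv.orderOf_eq, Prod.orderOf, orderOf_one, Nat.lcm_one_left]
        exact orderOf_dvd_natCard q))
    have h2 := two_le_index_commutator (H := A)
    have := Nat.le_of_dvd (by omega) hd
    omega
  · have hd := (key (fun u => orderOf u ∣ p ^ k) fun x hx u hu => by
      show _ ∣ p ^ k
      rw [hconj x hx u]; exact hu).2
      (fun u hu => orderOf_eq_one_iff.1 (Nat.eq_one_of_dvd_coprimes
        (show (p ^ k).Coprime (Nat.card B) from (Nat.Coprime.pow_left k hB.symm))
        ((orderOf_map_dvd ((MonoidHom.snd A B).comp ε.toMonoidHom) u).trans hu)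
        (orderOf_dvd_natCard (ε u).2)))
      (fun r => by
        show _ ∣ p ^ k
        rw [MulEquiv.orderOf_eq, Prod.orderOf, orderOf_one, Nat.lcm_one_right, ← hk]
        exact orderOf_dvd_natCard r)
    have h2 := two_le_index_commutator (H := B)
    have := Nat.le_of_dvd (by omega) hd
    omega

open scoped Classical in
/-- The extension criterion when the kernel is not of prime power order. -/
theorem crit_nonp [Fintype H] (hnp : ∀ p : ℕ, p.Prime → ¬ IsPGroup p H)
    (φ : Cfsg.IrrCharacter H) (hφ : dg φ ≠ 1)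
:
    2 * e * dg φ < ∑ ψ ∈ Finset.univ.filter
      (fun ψ : Cfsg.IrrCharacter H => ψ ≠ trivIrr H ∧ dg ψ < dg φ), dg ψ * dg ψ := by
  classical
  obtain ⟨p, hp, hpd⟩ := Nat.exists_prime_and_dvd hφ
  haveI := Fact.mk hp
  have hdv : dg φ ∣ h := S.hH ▸ CharAverage.charDegree_dvd_card φ
  obtain ⟨A, B, ε, hA, hB, hLA, hLB⟩ := S.split (hpd.trans hdv) (hnp p hp)
  have hdeg : ∀ q : Cfsg.IrrCharacter A × Cfsg.IrrCharacter B,
      dg (FeitProduct.tensIrr ε q) = dg q.1 * dg q.2 := fun q => FeitProduct.deg_tensIrr ε q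
  obtain ⟨⟨α, β⟩, rfl⟩ := (FeitProduct.tensIrr_bijective ε).2 φ
  have htt : FeitProduct.tensIrr ε (trivIrr A, trivIrr B) = trivIrr H :=
    Subtype.ext (funext fun u => by simp [FeitProduct.tensIrr, FeitProduct.tens, trivIrr])
  simp only [hdeg] at hφ hpd ⊢
  have hadv : dg α ∣ Nat.card A := CharAverage.charDegree_dvd_card α
  have hbdv : dg β ∣ Nat.card B := CharAverage.charDegree_dvd_card β
  have ha : 2 ≤ dg α := by
    by_contra hc
    have : dg α = 1 := le_antisymm (by omega) (CharAverage.irr_degree_pos α)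
    rw [this, one_mul] at hpd
    exact (hp.coprime_iff_not_dvd).1 hB.symm (hpd.trans hbdv)
  have ha0 := CharAverage.irr_degree_pos α
  have hb0 := CharAverage.irr_degree_pos β
  set LA := Finset.univ.filter fun α' : Cfsg.IrrCharacter A => dg α' = 1 with hLAdef
  set LB := Finset.univ.filter fun β' : Cfsg.IrrCharacter B => dg β' = 1 with hLBdef
  have hLA' : e + 1 ≤ LA.card := by rw [hLAdef, card_dg_one]; exact hLA
  have hLB' : e + 1 ≤ LB.card := by rw [hLBdef, card_dg_one]; exact hLB
  set T := Finset.univ.filter fun ψ : Cfsg.IrrCharacter H =>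
    ψ ≠ trivIrr H ∧ dg ψ < dg α * dg β with hT
  show 2 * e * (dg α * dg β) < ∑ ψ ∈ T, dg ψ * dg ψ
  rcases Nat.lt_or_ge 1 (dg β) with hb | hb
  · have hsub : ((LA ×ˢ Finset.univ.filter (fun β' => dg β' = dg β)) ∪
        (Finset.univ.filter (fun α' => dg α' = dg α) ×ˢ LB)).image (FeitProduct.tensIrr ε) ⊆ T := by
      intro ψ hψ
      obtain ⟨⟨α', β'⟩, hq, rfl⟩ := Finset.mem_image.1 hψ
      refine mem_filter.2 ⟨mem_univ _, fun e' => ?_, ?_⟩
      · have h1 := congrArg dg e'
        have h2 := (FeitProduct.tensIrr_bijective ε).1 (e'.trans htt.symm)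
        obtain ⟨rfl, rfl⟩ := Prod.ext_iff.1 h2
        simp only [LA, LB, mem_union, mem_product, mem_filter, mem_univ, true_and, dg_triv] at hq
        omega
      · rw [hdeg]
        simp only [LA, LB, mem_union, mem_product, mem_filter, mem_univ, true_and] at hq
        rcases hq with ⟨h1, h2⟩ | ⟨h1, h2⟩
        · rw [h1, h2, one_mul]
          exact lt_mul_left (by omega) (by omega)
        · rw [h1, h2, mul_one]
          exact lt_mul_right (by omega) hb
    refine lt_of_lt_of_le ?_ (Finset.sum_le_sum_of_subset hsub)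
    rw [Finset.sum_image (FeitProduct.tensIrr_bijective ε).1.injOn, Finset.sum_union]
    · have e1 : ∀ q ∈ LA ×ˢ Finset.univ.filter (fun β' => dg β' = dg β),
          dg (FeitProduct.tensIrr ε q) * dg (FeitProduct.tensIrr ε q) = dg β * dg β := by
        intro q hq
        simp only [LA, mem_product, mem_filter, mem_univ, true_and] at hq
        rw [hdeg, hq.1, hq.2, one_mul]
      have e2 : ∀ q ∈ Finset.univ.filter (fun α' => dg α' = dg α) ×ˢ LB,
          dg (FeitProduct.tensIrr ε q) * dg (FeitProduct.tensIrr ε q) = dg α * dg α := by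
        intro q hq
        simp only [LB, mem_product, mem_filter, mem_univ, true_and] at hq
        rw [hdeg, hq.1, hq.2, mul_one]
      rw [Finset.sum_congr rfl e1, Finset.sum_congr rfl e2, Finset.sum_const, Finset.sum_const,
        smul_eq_mul, smul_eq_mul, card_product, card_product]
      have c1 : 1 ≤ (Finset.univ.filter fun β' : Cfsg.IrrCharacter B => dg β' = dg β).card :=
        Finset.card_pos.2 ⟨β, by simp⟩
      have c2 : 1 ≤ (Finset.univ.filter fun α' : Cfsg.IrrCharacter A => dg α' = dg α).card :=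
        Finset.card_pos.2 ⟨α, by simp⟩
      calc 2 * e * (dg α * dg β) < (e + 1) * (dg β * dg β) + (e + 1) * (dg α * dg α) := by
            rw [← Nat.mul_add]
            have h3 : 2 * (dg α * dg β) ≤ dg β * dg β + dg α * dg α := by
              have := two_mul_le_add_sq (dg α) (dg β)
              nlinarith
            nlinarith
        _ ≤ _ := Nat.add_le_add
            (Nat.mul_le_mul_right _ (hLA'.trans (Nat.le_mul_of_pos_right _ c1)))
            (Nat.mul_le_mul_right _ (hLB'.trans (Nat.le_mul_of_pos_left _ c2)))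
    · rw [Finset.disjoint_left]
      intro q hq hq'
      simp only [LA, LB, mem_product, mem_filter, mem_univ, true_and] at hq hq'
      omega
  · have hb1 : dg β = 1 := le_antisymm hb hb0
    rw [hb1, mul_one] at hT ⊢
    set SA := Finset.univ.filter fun α' : Cfsg.IrrCharacter A => dg α' < dg α
    have hS : dg α * dg α ≤ ∑ α' ∈ SA, dg α' * dg α' := by
      have hpow : ∀ α' : Cfsg.IrrCharacter A, ∃ i, dg α' = p ^ i := by
        intro α'
        obtain ⟨k, hk⟩ := hA.exists_card_eq
        obtain ⟨i, -, hi⟩ := (Nat.dvd_prime_pow hp).1 (hk ▸ CharAverage.charDegree_dvd_card α')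
        exact ⟨i, hi⟩
      obtain ⟨i, hi⟩ := hpow α
      have hle : dg α * dg α ≤ Nat.card A := by
        rw [← sum_dg_sq]
        exact Finset.single_le_sum (f := fun α' : Cfsg.IrrCharacter A => dg α' * dg α')
          (fun _ _ => Nat.zero_le _) (mem_univ α)
      have hdvdA : dg α * dg α ∣ Nat.card A := by
        obtain ⟨k, hk⟩ := hA.exists_card_eq
        rw [hk, hi, ← pow_add] at hle ⊢
        exact pow_dvd_pow p ((Nat.pow_le_pow_iff_right hp.one_lt).1 hle)
      have hdvd : dg α * dg α ∣ ∑ α' ∈ Finset.univ.filter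
          (fun α' : Cfsg.IrrCharacter A => ¬ dg α' < dg α), dg α' * dg α' := by
        refine Finset.dvd_sum fun α' hα' => ?_
        obtain ⟨i', hi'⟩ := hpow α'
        have h1 : dg α ≤ dg α' := not_lt.1 (mem_filter.1 hα').2
        rw [hi, hi'] at h1 ⊢
        exact mul_dvd_mul (pow_dvd_pow p ((Nat.pow_le_pow_iff_right hp.one_lt).1 h1))
          (pow_dvd_pow p ((Nat.pow_le_pow_iff_right hp.one_lt).1 h1))
      have hsum := Finset.sum_filter_add_sum_filter_not Finset.univ
        (fun α' : Cfsg.IrrCharacter A => dg α' < dg α) (fun α' => dg α' * dg α')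
      rw [sum_dg_sq] at hsum
      refine Nat.le_of_dvd ?_ ((Nat.dvd_add_left hdvd).1 (hsum.symm ▸ hdvdA))
      exact Finset.sum_pos' (fun _ _ => Nat.zero_le _)
        ⟨trivIrr A, mem_filter.2 ⟨mem_univ _, by rw [dg_triv]; omega⟩, by rw [dg_triv]; simp⟩
    have hsub : ((SA ×ˢ LB).image (FeitProduct.tensIrr ε)).erase (trivIrr H) ⊆ T := by
      intro ψ hψ
      obtain ⟨hne, hψ⟩ := Finset.mem_erase.1 hψ
      obtain ⟨⟨α', β'⟩, hq, rfl⟩ := Finset.mem_image.1 hψ
      refine mem_filter.2 ⟨mem_univ _, hne, ?_⟩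
      simp only [SA, LB, mem_product, mem_filter, mem_univ, true_and] at hq
      rw [hdeg, hq.2, mul_one, hb1, mul_one]
      exact hq.1
    refine lt_of_lt_of_le ?_ (Finset.sum_le_sum_of_subset hsub)
    have hmem : trivIrr H ∈ (SA ×ˢ LB).image (FeitProduct.tensIrr ε) :=
      mem_image.2 ⟨(trivIrr A, trivIrr B), by simp [SA, LB, dg_triv]; omega, htt⟩
    have h1 := Finset.add_sum_erase _ (fun ψ => dg ψ * dg ψ) hmem
    rw [Finset.sum_image (FeitProduct.tensIrr_bijective ε).1.injOn, dg_triv] at h1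
    have h2 : ∑ q ∈ SA ×ˢ LB, dg (FeitProduct.tensIrr ε q) * dg (FeitProduct.tensIrr ε q) =
        LB.card * ∑ α' ∈ SA, dg α' * dg α' := by
      rw [Finset.sum_product, Finset.mul_sum]
      refine Finset.sum_congr rfl fun α' _ => ?_
      rw [Finset.sum_congr rfl (g := fun _ => dg α' * dg α') fun β' hβ' => by
        rw [hdeg, (mem_filter.1 hβ').2, mul_one], Finset.sum_const, smul_eq_mul]
    rw [h2] at h1
    have h3 := Nat.mul_le_mul hLB' hS
    have h4 := Nat.mul_le_mul_left ((e + 1) * dg α) ha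
    rw [mul_assoc (e + 1)] at h4
    nlinarith [h3, h4, h1, ha]

open scoped Classical in
/-- The extension criterion for a kernel of prime power order. -/
theorem crit_p [Fintype H] {p : ℕ} [Fact p.Prime] (hP : IsPGroup p H)
    (hL : 4 * e ^ 2 + 1 < (_root_.commutator H).index) (φ : Cfsg.IrrCharacter H) (hφ : dg φ ≠ 1)
:
    2 * e * dg φ < ∑ ψ ∈ Finset.univ.filter
      (fun ψ : Cfsg.IrrCharacter H => ψ ≠ trivIrr H ∧ dg ψ < dg φ), dg ψ * dg ψ := by
  classical
  have hp : p.Prime := Fact.out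
  have hf2 : 2 ≤ dg φ := by
    have : 0 < dg φ := CharAverage.irr_degree_pos φ
    omega
  set T := Finset.univ.filter fun ψ : Cfsg.IrrCharacter H => ψ ≠ trivIrr H ∧ dg ψ < dg φ
  show 2 * e * dg φ < ∑ ψ ∈ T, dg ψ * dg ψ
  rcases Nat.lt_or_ge (2 * e) (dg φ) with hbig | hsmall
  · have hpow : ∀ ψ : Cfsg.IrrCharacter H, ∃ i, dg ψ = p ^ i := by
      intro ψ
      obtain ⟨k, hk⟩ := hP.exists_card_eq
      obtain ⟨i, -, hi⟩ := (Nat.dvd_prime_pow hp).1 (hk ▸ CharAverage.charDegree_dvd_card ψ)
      exact ⟨i, hi⟩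
    obtain ⟨i, hi⟩ := hpow φ
    have hdH : dg φ * dg φ ∣ Nat.card H := by
      have hle : dg φ * dg φ ≤ Nat.card H := by
        rw [← sum_dg_sq]
        exact Finset.single_le_sum (f := fun ψ : Cfsg.IrrCharacter H => dg ψ * dg ψ)
          (fun _ _ => Nat.zero_le _) (mem_univ φ)
      obtain ⟨k, hk⟩ := hP.exists_card_eq
      rw [hk, hi, ← pow_add] at hle ⊢
      exact pow_dvd_pow p ((Nat.pow_le_pow_iff_right hp.one_lt).1 hle)
    have hdvd : dg φ * dg φ ∣ ∑ ψ ∈ Finset.univ.filter
        (fun ψ : Cfsg.IrrCharacter H => ¬ dg ψ < dg φ), dg ψ * dg ψ := by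
      refine Finset.dvd_sum fun ψ hψ => ?_
      obtain ⟨i', hi'⟩ := hpow ψ
      have h1 : dg φ ≤ dg ψ := not_lt.1 (mem_filter.1 hψ).2
      rw [hi, hi'] at h1 ⊢
      exact mul_dvd_mul (pow_dvd_pow p ((Nat.pow_le_pow_iff_right hp.one_lt).1 h1))
        (pow_dvd_pow p ((Nat.pow_le_pow_iff_right hp.one_lt).1 h1))
    have hsum := Finset.sum_filter_add_sum_filter_not Finset.univ
      (fun ψ : Cfsg.IrrCharacter H => dg ψ < dg φ) (fun ψ => dg ψ * dg ψ)
    rw [sum_dg_sq] at hsum
    have htr : trivIrr H ∈ Finset.univ.filter (fun ψ : Cfsg.IrrCharacter H => dg ψ < dg φ) :=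
      mem_filter.2 ⟨mem_univ _, by rw [dg_triv]; omega⟩
    have hle : dg φ * dg φ ≤ ∑ ψ ∈ Finset.univ.filter
        (fun ψ : Cfsg.IrrCharacter H => dg ψ < dg φ), dg ψ * dg ψ := by
      refine Nat.le_of_dvd ?_ ((Nat.dvd_add_left hdvd).1 (hsum.symm ▸ hdH))
      exact Finset.sum_pos' (fun _ _ => Nat.zero_le _) ⟨_, htr, by rw [dg_triv]; simp⟩
    have h1 := Finset.add_sum_erase _ (fun ψ => dg ψ * dg ψ) htr
    rw [dg_triv, show (Finset.univ.filter fun ψ : Cfsg.IrrCharacter H => dg ψ < dg φ).erase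
      (trivIrr H) = T by ext ψ; simp [T]] at h1
    nlinarith
  · have h1 : (Finset.univ.filter fun ψ : Cfsg.IrrCharacter H => dg ψ = 1).erase (trivIrr H) ⊆ T :=
      fun ψ hψ => by
        obtain ⟨hne, hψ⟩ := mem_erase.1 hψ
        exact mem_filter.2 ⟨mem_univ _, hne, by rw [(mem_filter.1 hψ).2]; omega⟩
    refine lt_of_lt_of_le ?_ (Finset.sum_le_sum_of_subset h1)
    rw [Finset.sum_congr rfl (g := fun _ => 1) fun ψ hψ => by
      rw [(mem_filter.1 (mem_erase.1 hψ).2).2], Finset.sum_const, smul_eq_mul, mul_one,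
      Finset.card_erase_of_mem (by simp [dg_triv]), card_dg_one]
    have h2 : 2 * e * dg φ ≤ 2 * e * (2 * e) := Nat.mul_le_mul_left _ hsmall
    have h3 : 2 * e * (2 * e) = 4 * e ^ 2 := by ring
    omega

end Sim

end Cfsg.Agent.Feit
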