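import Mathlib
import Cfsg.Agent.Lib.FeitStructure

/-!
Zassenhaus groups with two-point stabilisers of odd order: weighted column sums, coherence and its
consequence.
-/

set_option autoImplicit false

namespace Cfsg.Agent.Feit

open MulAction Zassenhaus Finset Cfsg
open scoped ComplexConjugate
open CharBasic CharBasicOrth CharBasicDecomp

universe u v

variable {G : Type u} {Ω : Type v} [Group G] [MulAction G Ω]
variable [Fintype G] [Fintype Ω] {a b : Ω} {H : Subgroup G} [Fintype H] {h e j : ℕ}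

/-- Weighted sums of a column through the column sums of the character table. -/
theorem col_eq (F : Cfsg.IrrCharacter G → ℂ) (φ : Cfsg.IrrCharacter H) :
    ∑ χ, (mult H χ φ : ℂ) * F χ =
      (Nat.card H : ℂ)⁻¹ * ∑ u : H, (φ : H → ℂ) u * ∑ χ, F χ * conj ((χ : G → ℂ) u) := by
  have h1 : ∀ χ : Cfsg.IrrCharacter G, (mult H χ φ : ℂ) =
      (Nat.card H : ℂ)⁻¹ * ∑ u : H, (φ : H → ℂ) u * conj ((χ : G → ℂ) u) := by
    intro χ
    have h2 := conj_classInner (fun u : H => (χ : G → ℂ) u) (φ : H → ℂ)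
    rw [mult_spec, map_natCast] at h2
    exact h2
  simp only [h1, Finset.mul_sum, Finset.sum_mul]
  rw [Finset.sum_comm]
  exact Finset.sum_congr rfl fun u _ => Finset.sum_congr rfl fun χ _ => by ring

variable (S : Sim a b H h e j)
include S

namespace Sim

theorem sum_cc (F : Cfsg.IrrCharacter G → ℂ) (φ : Cfsg.IrrCharacter H)
    (ε : Cfsg.IrrCharacter G) (T : Finset (Cfsg.IrrCharacter G))
    [DecidableEq (Cfsg.IrrCharacter G)] [Fintype (CC (G := G) H)]
    (hT : ε ≠ trivIrr G ∧ trivIrr G ∉ T ∧ ε ∉ T)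
    (hset : Finset.univ.filter (fun χ : Cfsg.IrrCharacter G => mult H χ (trivIrr H) ≠ 0) =
        insert (trivIrr G) (insert ε T)) :
    ∑ χ, (mult H χ φ : ℂ) * F χ = (mult H (trivIrr G) φ : ℂ) * F (trivIrr G) +
      ((mult H ε φ : ℂ) * F ε + ∑ χ ∈ T, (mult H χ φ : ℂ) * F χ) +
      ∑ χ : CC (G := G) H, (mult H χ.1 φ : ℂ) * F χ.1 := by
  classical
  rw [← Finset.sum_filter_add_sum_filter_not Finset.univ
      (fun χ : Cfsg.IrrCharacter G => mult H χ (trivIrr H) ≠ 0), hset,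
    Finset.sum_insert (by simp [hT.2.1, hT.1.symm]), Finset.sum_insert hT.2.2]
  congr 1
  exact Finset.sum_subtype _ (p := fun χ : Cfsg.IrrCharacter G => mult H χ (trivIrr H) = 0)
    (fun χ => by simp) (fun χ => (mult H χ φ : ℂ) * F χ)

omit S in
theorem sum_pp [Fintype (PP H)] (P : Cfsg.IrrCharacter H → Prop) [DecidablePred P]
    [DecidablePred fun φ : Cfsg.IrrCharacter H => φ ≠ trivIrr H ∧ P φ]
    (F : Cfsg.IrrCharacter H → ℕ) :
    ∑ φ ∈ Finset.univ.filter (fun φ : PP H => P φ.1), F φ.1 =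
      ∑ φ ∈ Finset.univ.filter (fun φ : Cfsg.IrrCharacter H => φ ≠ trivIrr H ∧ P φ), F φ := by
  classical
  refine Finset.sum_bij' (fun φ _ => φ.1) (fun φ hφ => (⟨φ, (mem_filter.1 hφ).2.1⟩ : PP H))
    ?_ ?_ ?_ ?_ ?_
  · intro φ hφ; exact mem_filter.2 ⟨mem_univ _, φ.2, (mem_filter.1 hφ).2⟩
  · intro φ hφ; exact mem_filter.2 ⟨mem_univ _, (mem_filter.1 hφ).2.2⟩
  · intro φ _; rfl
  · intro φ _; rfl
  · intro φ _; rfl

theorem sum_pp_sq [Fintype (PP H)] : ∑ φ : PP H, dg φ.1 * dg φ.1 + 1 = h := by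
  classical
  have h1 := sum_pp (fun _ => True) (fun φ : Cfsg.IrrCharacter H => dg φ * dg φ)
  simp only [and_true, Finset.filter_true_of_mem (fun (x : PP H) _ => trivial)] at h1
  rw [h1, show Finset.univ.filter (fun φ : Cfsg.IrrCharacter H => φ ≠ trivIrr H) =
    Finset.univ.erase (trivIrr H) by ext φ; simp, ← S.hH, ← sum_dg_sq,
    ← Finset.add_sum_erase Finset.univ (fun φ : Cfsg.IrrCharacter H => dg φ * dg φ)
      (mem_univ (trivIrr H)), dg_triv]
  omega

omit S in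
theorem degree_cc [Fintype (PP H)] (χ : CC (G := G) H) :
    Cfsg.charDegree (χ.1 : G → ℂ) = ∑ φ : PP H, mult H χ.1 φ.1 * dg φ.1 := by
  classical
  rw [degree_eq (H := H) χ.1,
    ← Finset.add_sum_erase Finset.univ _ (mem_univ (trivIrr H)), χ.2, zero_mul, zero_add]
  exact Finset.sum_subtype _ (p := fun φ : Cfsg.IrrCharacter H => φ ≠ trivIrr H)
    (fun φ => by simp) (fun φ => mult H χ.1 φ * dg φ)

/-- Coherence of all characters bounds `h`. -/
theorem le_of_good [Fintype (CC (G := G) H)] [DecidableEq (CC (G := G) H)] [Fintype (PP H)]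
    {W : CC (G := G) H → ℕ} (hW : ∑ χ, W χ * W χ = j)
    (hgood : ∀ φ : PP H, Good (fun (χ : CC (G := G) H) (φ : PP H) => mult H χ.1 φ.1)
      (fun φ => dg φ.1) W φ) :
    h - 1 ≤ 2 * e := by
  classical
  obtain ⟨χ, hχ⟩ : ∃ χ, W χ ≠ 0 := by
    by_contra hc
    push Not at hc
    have := S.one_le_j
    simp [hc] at hW
    omega
  have hd : Cfsg.charDegree (χ.1 : G → ℂ) = W χ * (h - 1) := by
    rw [degree_cc χ, show h - 1 = ∑ φ : PP H, dg φ.1 * dg φ.1 by have := S.sum_pp_sq; omega,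
      Finset.mul_sum]
    refine Finset.sum_congr rfl fun φ _ => ?_
    obtain ⟨x, hx, hm⟩ := hgood φ
    have hne : χ ≠ x := fun e' => hχ (e' ▸ hx)
    have hm' := hm χ
    simp only [if_neg hne, add_zero] at hm'
    rw [hm']
    ring
  have hdvd : h - 1 ∣ (h + 1) * (h * e) := by
    rw [← S.card_G]
    exact (hd ▸ dvd_mul_left (h - 1) (W χ)).trans (CharAverage.charDegree_dvd_card χ.1)
  have h2 := S.two_le_h
  obtain ⟨m, rfl⟩ : ∃ m, h = m + 1 := ⟨h - 1, by omega⟩
  rw [Nat.add_sub_cancel] at hdvd ⊢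
  have h3 : m ∣ 2 * e := by
    refine (Nat.dvd_add_right (dvd_mul_right m (m * e + 3 * e))).1 ?_
    rw [show m * (m * e + 3 * e) + 2 * e = (m + 1 + 1) * ((m + 1) * e) by ring]
    exact hdvd
  exact Nat.le_of_dvd (by have := S.one_le_j; have := S.hj; omega) h3

open scoped Classical in
/-- Coherence from the linear characters. -/
theorem le_of_base [Fintype (CC (G := G) H)] [DecidableEq (CC (G := G) H)] [Fintype (PP H)]
    {W : CC (G := G) H → ℕ} (hW : ∑ χ, W χ * W χ = j)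
    (hbase : ∀ φ : PP H, dg φ.1 = 1 → Good (fun (χ : CC (G := G) H) (φ : PP H) => mult H χ.1 φ.1)
      (fun φ => dg φ.1) W φ)
    (hcrit : ∀ φ : Cfsg.IrrCharacter H, dg φ ≠ 1 → 2 * e * dg φ <
      ∑ ψ ∈ Finset.univ.filter (fun ψ : Cfsg.IrrCharacter H => ψ ≠ trivIrr H ∧ dg ψ < dg φ),
        dg ψ * dg ψ) :
    h - 1 ≤ 2 * e := by
  refine S.le_of_good hW (S.gramData.good_all hW hbase fun φ hφ => ?_)
  exact lt_of_lt_of_eq (hcrit φ.1 hφ)
    (sum_pp (fun ψ => dg ψ < dg φ.1) fun ψ => dg ψ * dg ψ).symm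

/-- The base for many linear characters. -/
theorem exists_base_many [Fintype (CC (G := G) H)] [DecidableEq (CC (G := G) H)] [Fintype (PP H)]
    (hL : e * (j + 2) + 1 < (_root_.commutator H).index) :
    ∃ W : CC (G := G) H → ℕ, ∑ χ, W χ * W χ = j ∧ ∀ φ : PP H, dg φ.1 = 1 →
      Good (fun (χ : CC (G := G) H) (φ : PP H) => mult H χ.1 φ.1) (fun φ => dg φ.1) W φ := by
  classical
  set B := Finset.univ.filter fun φ : PP H => dg φ.1 = 1
  have hB : e * (j + 2) < B.card := by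
    have h1 := sum_pp (fun φ => dg φ = 1) fun _ : Cfsg.IrrCharacter H => 1
    simp only [← Finset.card_eq_sum_ones] at h1
    rw [h1, show Finset.univ.filter (fun φ : Cfsg.IrrCharacter H => φ ≠ trivIrr H ∧ dg φ = 1) =
      (Finset.univ.filter fun φ : Cfsg.IrrCharacter H => dg φ = 1).erase (trivIrr H) by
        ext φ; simp, Finset.card_erase_of_mem (by simp [dg_triv]), card_dg_one]
    omega
  obtain ⟨ε, T, hεne, htT, heT, hcard, hεv, hTv, hset, hvals, -⟩ := S.exists_sj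
  have hconst : ∀ φ : PP H, dg φ.1 = 1 →
      ((∑ χ : CC (G := G) H, Cfsg.charDegree (χ.1 : G → ℂ) * mult H χ.1 φ.1 : ℕ) : ℂ) =
        (h : ℂ)⁻¹ * (Nat.card G : ℂ) - ((h : ℂ) + j * (1 + h)) := by
    intro φ hφ
    have h1 := col_eq (fun χ : Cfsg.IrrCharacter G => (χ : G → ℂ) 1) φ.1
    rw [S.sum_cc _ _ ε T ⟨hεne, htT, heT⟩ hset] at h1
    rw [(hvals φ.1 φ.2).1, (hvals φ.1 φ.2).2.1, show Cfsg.charDegree (φ.1 : H → ℂ) = 1 from hφ,
      Finset.sum_congr rfl (g := fun _ => (1 + (h : ℂ))) (fun χ hχ => by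
        rw [(hvals φ.1 φ.2).2.2 χ hχ, show Cfsg.charDegree (φ.1 : H → ℂ) = 1 from hφ,
          (hTv χ hχ).1, Nat.cast_one, one_mul]), Finset.sum_const, hcard, hεv.1,
      Finset.sum_eq_single (1 : H) (fun u _ hu => ?_) (fun h' => absurd (mem_univ _) h'),
      (dg_eq_one_iff φ.1).1 hφ, one_mul, S.hH] at h1
    · rw [show ∑ χ : Cfsg.IrrCharacter G, (χ : G → ℂ) 1 * conj ((χ : G → ℂ) ((1 : H) : G)) =
        (Nat.card G : ℂ) by
          rw [← sum_sq_apply_one (G := G)]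
          exact Finset.sum_congr rfl fun χ _ => by
            rw [OneMemClass.coe_one, CharAverage.irr_apply_one, Complex.conj_natCast, pow_two]] at h1
      rw [Nat.cast_sum, Finset.sum_congr rfl (g := fun χ : CC (G := G) H =>
        (mult H χ.1 φ.1 : ℂ) * (χ.1 : G → ℂ) 1) (fun χ _ => by
          rw [CharAverage.irr_apply_one, Nat.cast_mul, mul_comm])]
      simp only [Nat.cast_zero, Nat.cast_one, zero_mul, zero_add, one_mul, nsmul_eq_mul] at h1
      linear_combination h1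
    · rw [sum_irr_mul_conj, if_neg, mul_zero]
      exact fun hc => hu (Subtype.ext (isConj_one_left.1 hc.symm))
  obtain ⟨W, hW, hgood⟩ := S.gramData.exists_base
    (fun χ => Cfsg.charDegree (χ.1 : G → ℂ)) (fun χ => CharAverage.irr_degree_pos χ.1) B
    (fun φ hφ => (mem_filter.1 hφ).2)
    (fun φ hφ ψ hψ => by
      have := (hconst φ (mem_filter.1 hφ).2).trans (hconst ψ (mem_filter.1 hψ).2).symm
      exact_mod_cast this)
    hB
  exact ⟨W, hW, fun φ hφ => hgood φ (mem_filter.2 ⟨mem_univ _, hφ⟩)⟩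

end Sim

end Cfsg.Agent.Feit
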